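import Cfsg.Statements.S0144
import Cfsg.Agent.Lib.Char.Integral

set_option autoImplicit false
open Cfsg

namespace Cfsg.Agent.S0144

open Cfsg.Agent.Char

/-- The Burnside two-prime Theorem: a finite group of order p ^ a * q ^ b, for primes p and q, is solvable. -/
theorem result {G : Type*} [Group G] [Finite G] (p q a b : ℕ) (hp : p.Prime) (hq : q.Prime) (hcard : Nat.card G = p ^ a * q ^ b) : Group.IsSolvable G := by
  suffices H : ∀ (n : ℕ) (X : Type u_1) [Group X] [Finite X], Nat.card X = n →
      (∃ a b : ℕ, n = p ^ a * q ^ b) → Group.IsSolvable X from H _ G rfl ⟨a, b, hcard⟩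
  intro n
  induction n using Nat.strong_induction_on with
  | _ n ih =>
    intro X _ _ hn hab
    obtain ⟨a, b, hab⟩ := hab
    rcases subsingleton_or_nontrivial X with hss | hnt
    · exact Group.isSolvable_of_comm fun x y => Subsingleton.elim _ _
    have hdiv : ∀ m, m ∣ n → ∃ a b : ℕ, m = p ^ a * q ^ b := by
      intro m hm
      obtain ⟨x, y, hx, hy, rfl⟩ := exists_dvd_and_dvd_of_dvd_mul (hab ▸ hm)
      obtain ⟨i, -, rfl⟩ := (Nat.dvd_prime_pow hp).mp hx
      obtain ⟨j, -, rfl⟩ := (Nat.dvd_prime_pow hq).mp hy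
      exact ⟨i, j, rfl⟩
    by_cases hs : IsSimpleGroup X
    · -- a simple group of this order has prime order
      obtain ⟨r, hr, hrdvd⟩ := Nat.exists_prime_and_dvd (Finite.one_lt_card (α := X)).ne'
      haveI := Fact.mk hr
      obtain ⟨P⟩ : Nonempty (Sylow r X) := inferInstance
      haveI : Nontrivial P := P.isPGroup'.nontrivial_iff_card.mpr ⟨_, Nat.pos_of_ne_zero fun h0 => by
        have := Sylow.card_eq_multiplicity P
        rw [Nat.factorization_eq_zero_iff] at h0
        rcases h0 with h0 | h0 | h0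
        · exact h0 hr
        · exact h0 hrdvd
        · exact Nat.card_pos.ne' h0, Sylow.card_eq_multiplicity P⟩
      haveI := P.isPGroup'.center_nontrivial
      obtain ⟨z, hz⟩ := exists_ne (1 : Subgroup.center P)
      have hz1 : ((z : P) : X) ≠ 1 := fun h => hz (Subtype.ext (Subtype.ext h))
      have hle : (P : Subgroup X) ≤ Subgroup.centralizer ({((z : P) : X)} : Set X) := fun x hx =>
        Subgroup.mem_centralizer_singleton_iff.mpr
          (congrArg Subtype.val (Subgroup.mem_center_iff.mp z.2 ⟨x, hx⟩))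
      have hidx := Subgroup.index_dvd_of_le hle
      have hPidx : ¬ r ∣ (P : Subgroup X).index := P.not_dvd_index
      obtain ⟨s, hs', k, hk⟩ : ∃ s : ℕ, s.Prime ∧ ∃ k : ℕ,
          (Subgroup.centralizer ({((z : P) : X)} : Set X)).index = s ^ k := by
        obtain ⟨i, j, hij⟩ := hdiv _ (hn ▸ (Subgroup.index_dvd_card _ :
          (Subgroup.centralizer ({((z : P) : X)} : Set X)).index ∣ Nat.card X))
        have hrn : r ∣ p ^ a * q ^ b := hab ▸ hn ▸ hrdvd
        rcases (Nat.Prime.dvd_mul hr).mp hrn with h | h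
        · have hrp := (Nat.prime_dvd_prime_iff_eq hr hp).mp (hr.dvd_of_dvd_pow h)
          refine ⟨q, hq, j, ?_⟩
          rcases Nat.eq_zero_or_pos i with rfl | hi
          · simpa using hij
          · exact absurd ((hrp ▸ hij ▸ Dvd.dvd.mul_right (dvd_pow_self p hi.ne') _ : r ∣ _).trans hidx)
              hPidx
        · have hrq := (Nat.prime_dvd_prime_iff_eq hr hq).mp (hr.dvd_of_dvd_pow h)
          refine ⟨p, hp, i, ?_⟩
          rcases Nat.eq_zero_or_pos j with rfl | hj
          · simpa using hij
          · exact absurd ((hrq ▸ hij ▸ Dvd.dvd.mul_left (dvd_pow_self q hj.ne') _ : r ∣ _).trans hidx)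
              hPidx
      haveI := Fact.mk (simple_prime_pow_class s k hs' _ hz1 hk)
      haveI : IsCyclic X := isCyclic_of_prime_card (p := Nat.card X) rfl
      exact Group.isSolvable_of_comm fun x y => (IsCyclic.commGroup (α := X)).mul_comm x y
    · obtain ⟨N, hN, hN0, hN1⟩ : ∃ N : Subgroup X, N.Normal ∧ N ≠ ⊥ ∧ N ≠ ⊤ := by
        by_contra hc
        push Not at hc
        exact hs ⟨fun H hH => or_iff_not_imp_left.mpr (hc H hH)⟩
      have hmul := N.index_mul_card
      have h1 : 1 < Nat.card N := (Subgroup.one_lt_card_iff_ne_bot N).mpr hN0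
      have h2 : 1 < N.index := by
        have := mt Subgroup.index_eq_one.mp hN1
        have := N.index_ne_zero_of_finite
        omega
      have e1 := ih _ (by rw [← hn, ← hmul]; nlinarith) N rfl (hdiv _ (hn ▸ N.card_subgroup_dvd_card))
      have e2 := ih N.index (by rw [← hn, ← hmul]; nlinarith) (X ⧸ N) N.index_eq_card.symm
        (hdiv _ (hn ▸ N.index_dvd_card))
      haveI := e1
      haveI := e2
      exact Group.isSolvable_of_ker_le_range N.subtype (QuotientGroup.mk' N)
        (le_of_eq (by simp))

end Cfsg.Agent.S0144
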