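import Cfsg.Statements.S0016
import Mathlib
import Cfsg.Agent.Lib.Invol.RankOne
import Cfsg.Agent.Lib.Invol.OneInvol
-- import your own Cfsg.Agent.* helpers here

set_option autoImplicit false
open Cfsg

namespace Cfsg.Agent.S0016

/-- A finite p-group in which only one subgroup has order p is either cyclic or (with p = 2) isomorphic to a generalized quaternion group. -/
theorem result {G : Type*} [Group G] [Finite G] (p : ℕ) [Fact p.Prime]
    (hG : IsPGroup p G) (huniq : ∀ H K : Subgroup G, Nat.card H = p → Nat.card K = p → H = K) :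
    IsCyclic G ∨ (p = 2 ∧ ∃ n : ℕ, Nonempty (G ≃* QuaternionGroup (2 ^ n))) := by
  classical
  rcases subsingleton_or_nontrivial G with hs | hnt
  · exact Or.inl isCyclic_of_subsingleton
  haveI := hG.center_nontrivial
  obtain ⟨zc, hzc⟩ := exists_prime_orderOf_dvd_card' (G := Subgroup.center G) p (by
    obtain ⟨k, hk⟩ := IsPGroup.iff_card.1 (hG.to_subgroup (Subgroup.center G))
    rcases Nat.eq_zero_or_pos k with rfl | hk0
    · have := Finite.one_lt_card (α := Subgroup.center G); rw [hk, pow_zero] at this; omega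
    · exact hk ▸ dvd_pow_self p hk0.ne')
  have hz : orderOf (zc : G) = p := by rw [Subgroup.orderOf_coe, hzc]
  have hmem : ∀ y : G, y ^ p = 1 → y ∈ Subgroup.zpowers (zc : G) := by
    intro y hy
    by_cases h1 : y = 1
    · rw [h1]; exact one_mem _
    · rw [← huniq (Subgroup.zpowers y) (Subgroup.zpowers (zc : G))
        (by rw [Nat.card_zpowers, orderOf_eq_prime hy h1]) (by rw [Nat.card_zpowers, hz])]
      exact Subgroup.mem_zpowers y
  by_cases hp2 : p = 2
  swap
  · exact Or.inl (Cfsg.Agent.Invol.isCyclic_of_pow_eq_one_mem hG hp2 zc.2 (hz ▸ pow_orderOf_eq_one _) hmem)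
  subst hp2
  have huq : ∀ u v : G, orderOf u = 2 → orderOf v = 2 → u = v := fun u v hu hv => by
    have h1 : ∀ w : G, orderOf w = 2 → w = (zc : G) := fun w hw => by
      have hw2 : Subgroup.zpowers w = Subgroup.zpowers (zc : G) :=
        huniq _ _ (by rw [Nat.card_zpowers, hw]) (by rw [Nat.card_zpowers, hz])
      obtain ⟨i, hi⟩ := Subgroup.mem_zpowers_iff.1 (hw2 ▸ Subgroup.mem_zpowers w)
      rw [← zpow_mod_orderOf, hz] at hi
      rcases Int.emod_two_eq_zero_or_one i with e | e
      · rw [Nat.cast_ofNat, e, zpow_zero] at hi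
        rw [← hi, orderOf_one] at hw
        omega
      · rw [Nat.cast_ofNat, e, zpow_one] at hi
        exact hi.symm
    rw [h1 u hu, h1 v hv]
  rcases Cfsg.Agent.OneInvol.cyclic_or_quatShape hG huq with hc | ⟨a, ha4, hidx, hinv⟩
  · exact Or.inl hc
  refine Or.inr ⟨rfl, ?_⟩
  obtain ⟨k, hk⟩ := hG.exists_orderOf_eq_pow a
  obtain ⟨l, rfl⟩ : ∃ l, k = l + 1 := ⟨k - 1, by
    rcases k with _ | k
    · rw [hk] at ha4; norm_num at ha4
    · rfl⟩
  refine ⟨l, ?_⟩
  set m := 2 ^ l with hm
  have hord : orderOf a = 2 * m := by rw [hk, pow_succ, mul_comm]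
  haveI : NeZero m := ⟨by positivity⟩
  obtain ⟨x, hx⟩ : ∃ x : G, x ∉ Subgroup.zpowers a := by
    by_contra hno
    push Not at hno
    rw [show Subgroup.zpowers a = ⊤ from eq_top_iff.2 fun g _ => hno g, Subgroup.index_top] at hidx
    omega
  have hxinv := hinv x hx
  have hx1 : orderOf (a ^ m) = 2 := by
    rw [orderOf_pow' a (by positivity), hord, Nat.gcd_eq_right (dvd_mul_left m 2), Nat.mul_div_cancel _ (by positivity)]
  have hxsq : x * x = a ^ (m : ℤ) := by
    have hmem2 : x * x ∈ Subgroup.zpowers a := Subgroup.mul_self_mem_of_index_two hidx x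
    obtain ⟨i, hi⟩ := Subgroup.mem_zpowers_iff.1 hmem2
    have h1 : a ^ (-i) = a ^ i := by
      calc a ^ (-i) = (x * a * x⁻¹) ^ i := by rw [hxinv, inv_zpow']
        _ = x * (x * x) * x⁻¹ := by rw [conj_zpow, hi]
        _ = a ^ i := by rw [hi, ← mul_assoc, mul_inv_cancel_right]
    have h2 : (x * x) * (x * x) = 1 := by
      rw [← hi]; nth_rewrite 1 [← h1]; rw [← zpow_add, neg_add_cancel, zpow_zero]
    have hne : x * x ≠ 1 := fun he => hx (by
      by_cases h0 : x = 1
      · rw [h0]; exact one_mem _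
      · rw [huq x (a ^ m) (orderOf_eq_prime (by rw [pow_two, he]) h0) hx1]
        exact pow_mem (Subgroup.mem_zpowers a) m)
    rw [zpow_natCast]
    exact huq _ _ (orderOf_eq_prime (by rw [pow_two, h2]) hne) hx1
  let f : ZMod (2 * m) → G := fun i => a ^ (i.val : ℤ)
  have hfint : ∀ i : ℤ, f (i : ZMod (2 * m)) = a ^ i := by
    intro i
    show a ^ (((i : ZMod (2 * m)).val : ℕ) : ℤ) = a ^ i
    rw [ZMod.val_intCast, ← zpow_mod_orderOf a i, hord]
  have hfadd : ∀ i j, f (i + j) = f i * f j := fun i j => by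
    show f (i + j) = a ^ (i.val : ℤ) * a ^ (j.val : ℤ)
    rw [← zpow_add, ← hfint]
    congr 1
    push_cast
    simp
  have hfneg : ∀ i, f (-i) = (f i)⁻¹ := fun i => by
    show f (-i) = (a ^ (i.val : ℤ))⁻¹
    rw [← zpow_neg, ← hfint]
    congr 1
    push_cast
    simp
  have hfx : ∀ i, f i * x = x * f (-i) := fun i => by
    rw [hfneg]
    have h1 : x⁻¹ * f i * x = (f i)⁻¹ := by
      have h0 : x⁻¹ * a * x = a⁻¹ := by
        have := congrArg (fun w => x⁻¹ * w⁻¹ * x) hxinv
        simp only [inv_inv, conj_inv] at this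
        rw [← this]; group
      show x⁻¹ * a ^ (i.val : ℤ) * x = (a ^ (i.val : ℤ))⁻¹
      rw [← inv_zpow, ← h0]
      have := conj_zpow (i := (i.val : ℤ)) (a := x⁻¹) (b := a)
      rw [inv_inv] at this
      exact this.symm
    rw [← h1]; group
  let φ : QuaternionGroup m → G := fun q => match q with
    | QuaternionGroup.a i => f i
    | QuaternionGroup.xa i => x * f i
  have hmul : ∀ p q, φ (p * q) = φ p * φ q := by
    rintro (i | i) (j | j)
    · show φ (QuaternionGroup.a (i + j)) = f i * f j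
      exact hfadd i j
    · show φ (QuaternionGroup.xa (j - i)) = f i * (x * f j)
      show x * f (j - i) = _
      rw [← mul_assoc, hfx, mul_assoc, ← hfadd]; congr 2; ring
    · show φ (QuaternionGroup.xa (i + j)) = x * f i * f j
      show x * f (i + j) = _
      rw [hfadd, mul_assoc]
    · show φ (QuaternionGroup.a (m + j - i)) = x * f i * (x * f j)
      show f (m + j - i) = _
      rw [mul_assoc, ← mul_assoc (f i), hfx, mul_assoc, ← mul_assoc x x, hxsq, ← hfint, ← hfadd, ← hfadd]
      congr 1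
      push_cast
      ring
  let Φ : QuaternionGroup m →* G := MonoidHom.mk' φ hmul
  have hinj : Function.Injective Φ := by
    rw [injective_iff_map_eq_one]
    rintro (i | i) hq
    · have h1 : f i = 1 := hq
      have h3 : a ^ i.val = 1 := by rw [← zpow_natCast]; exact h1
      have h4 := orderOf_dvd_of_pow_eq_one h3
      rw [hord] at h4
      have h2 : i.val = 0 := Nat.eq_zero_of_dvd_of_lt h4 i.val_lt
      rw [(ZMod.val_eq_zero i).1 h2]; rfl
    · have h1 : x * f i = 1 := hq
      exact absurd (eq_inv_of_mul_eq_one_left h1 ▸ inv_mem (zpow_mem (Subgroup.mem_zpowers a) _)) hx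
  have hcard : Nat.card G ≤ Nat.card (QuaternionGroup m) := by
    rw [Nat.card_eq_fintype_card (α := QuaternionGroup m), QuaternionGroup.card, ← (Subgroup.zpowers a).card_mul_index,
      hidx, Nat.card_zpowers, hord]
    omega
  exact ⟨(MulEquiv.ofBijective Φ (hinj.bijective_of_nat_card_le hcard)).symm⟩

end Cfsg.Agent.S0016
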