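import Cfsg.Statements.S0731
import Mathlib
import Cfsg.Agent.Lib.Block.Zas.HalfBound
import Cfsg.Agent.Lib.Block.Zas.Half
import Cfsg.Agent.Lib.Block.Zas.Sharp
-- import your own Cfsg.Agent.* helpers here

set_option autoImplicit false
open Cfsg

namespace Cfsg.Agent.S0731

/-- A finite Zassenhaus group whose point stabiliser has an abelian regular normal subgroup on the remaining points is sharply triply transitive or isomorphic to `PSL(2, F)` for a finite field `F` of odd characteristic. -/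
theorem result {G Ω : Type*} [Group G] [Finite G] [MulAction G Ω] [Finite Ω] (hZ : Cfsg.IsZassenhausGroup G Ω) (x : Ω) (F : Subgroup G) (hFle : F ≤ MulAction.stabilizer G x) (hFn : (F.subgroupOf (MulAction.stabilizer G x)).Normal) (hFab : IsMulCommutative F) (hreg : ∀ y z : Ω, y ≠ x → z ≠ x → ∃! u : F, (u : G) • y = z) : (MulAction.IsMultiplyPretransitive G Ω 3 ∧ ∀ t : Fin 3 ↪ Ω, MulAction.stabilizer G t = ⊥) ∨ ∃ (K : Type) (_ : Field K) (_ : Fintype K), ringChar K ≠ 2 ∧ Nonempty (G ≃* Matrix.ProjectiveSpecialLinearGroup (Fin 2) K) := by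
  classical
  obtain ⟨y, hy⟩ : ∃ y : Ω, y ≠ x := by
    by_contra h
    push Not at h
    have := Agent.Block.Zas.three_le hZ
    haveI : Subsingleton Ω := ⟨fun u v => (h u).trans (h v).symm⟩
    have h2 : Nat.card Ω ≤ 1 := Finite.card_le_one_iff_subsingleton.mpr inferInstance
    omega
  let D := Agent.Block.Zas.frameOf hZ (Ne.symm hy) F hFle hFn hreg
  have hF : ∀ u ∈ D.F, ∀ v ∈ D.F, u * v = v * u := fun u hu v hv =>
    congrArg Subtype.val (hFab.is_comm.comm (⟨u, hu⟩ : F) ⟨v, hv⟩)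
  rcases D.cases_of_abelian hZ hF with h | ⟨h, hinv⟩
  · exact Or.inl (D.sharp_of_card h)
  · obtain ⟨K, i1, i2, hK, -, hiso⟩ := D.iso_psl_of_half (D.two_le_F hZ) (D.H_ne_bot hZ) h hinv
    exact Or.inr ⟨K, i1, i2, hK, hiso⟩

end Cfsg.Agent.S0731
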