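import Cfsg.Statements.S0111

set_option linter.style.haveILetI false
set_option linter.unusedVariables false
-- import your own Cfsg.Agent.* helpers here

set_option autoImplicit false
open Cfsg

namespace Cfsg.Agent.S0111

/-- The Thompson transfer lemma states that an involution of a Sylow 2-subgroup P lying outside a subgroup Q of index 2 in P either lies outside some normal subgroup of index 2 in G or is conjugate to an element of Q. -/
theorem result {G : Type*} [Group G] [Finite G] (P : Sylow 2 G) (Q : Subgroup G) (hQP : Q ≤ (P : Subgroup G)) (hQi : Q.relIndex (P : Subgroup G) = 2) (u : G) (hu : orderOf u = 2) (huP : u ∈ (P : Subgroup G)) (huQ : u ∉ Q) : (∃ M : Subgroup G, M.Normal ∧ M.index = 2 ∧ u ∉ M) ∨ ∃ g : G, g * u * g⁻¹ ∈ Q := by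
  classical
  by_cases hex : ∃ g : G, g * u * g⁻¹ ∈ Q
  · exact Or.inr hex
  left
  haveI : Fintype (G ⧸ Q) := Fintype.ofFinite _
  let f : G →* Equiv.Perm (G ⧸ Q) := MulAction.toPermHom G (G ⧸ Q)
  have hfix : ∀ c : G ⧸ Q, f u c ≠ c := by
    intro c
    induction c using QuotientGroup.induction_on with
    | H g =>
      intro hc
      refine hex ⟨g⁻¹, ?_⟩
      have h1 : ((u * g : G) : G ⧸ Q) = (g : G ⧸ Q) := hc
      have h2 := inv_mem (QuotientGroup.eq.1 h1.symm)
      have hu2 : u⁻¹ = u := inv_eq_of_mul_eq_one_right (by rw [← pow_two, ← hu, pow_orderOf_eq_one])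
      rw [mul_inv_rev, mul_inv_rev, inv_inv, hu2] at h2
      rw [inv_inv]
      exact h2
  have hsupp : (f u).support = Finset.univ := by
    ext c; simp [Equiv.Perm.mem_support, hfix c]
  have hσ2 : f u ^ 2 = 1 := by rw [← map_pow, ← hu, pow_orderOf_eq_one, map_one]
  have hct : ∀ n ∈ (f u).cycleType, n = 2 := by
    intro n hn
    have h1 : n ∣ 2 := (Equiv.Perm.dvd_of_mem_cycleType hn).trans (orderOf_dvd_of_pow_eq_one hσ2)
    exact le_antisymm (Nat.le_of_dvd (by norm_num) h1) (Equiv.Perm.two_le_of_mem_cycleType hn)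
  have hsum : (f u).cycleType.sum = 2 * Multiset.card (f u).cycleType := by
    rw [Multiset.eq_replicate_card.2 hct, Multiset.sum_replicate, Multiset.card_replicate, smul_eq_mul, mul_comm]
  have hcard : Nat.card (G ⧸ Q) = 2 * (P : Subgroup G).index := by
    rw [← Subgroup.index_eq_card, ← Subgroup.relIndex_mul_index hQP, hQi]
  have hsign : Equiv.Perm.sign (f u) = -1 := by
    rw [Equiv.Perm.sign_of_cycleType, hsum]
    have h2 : 2 * Multiset.card (f u).cycleType = 2 * (P : Subgroup G).index := by
      rw [← hsum, Equiv.Perm.sum_cycleType, hsupp, Finset.card_univ, ← Nat.card_eq_fintype_card, hcard]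
    have hodd : Odd ((P : Subgroup G).index) := Nat.not_even_iff_odd.1 fun he => P.not_dvd_index he.two_dvd
    have hk : Multiset.card (f u).cycleType = (P : Subgroup G).index := by omega
    rw [hk]
    exact Odd.neg_one_pow (by obtain ⟨m, hm⟩ := hodd; exact ⟨3 * m + 1, by omega⟩)
  let χ : G →* ℤˣ := Equiv.Perm.sign.comp f
  have hχu : χ u = -1 := hsign
  refine ⟨χ.ker, inferInstance, ?_, ?_⟩
  · rw [Subgroup.index_ker]
    have hs : Function.Surjective χ := by
      intro z
      rcases Int.units_eq_one_or z with rfl | rfl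
      · exact ⟨1, map_one _⟩
      · exact ⟨u, hχu⟩
    rw [MonoidHom.range_eq_top.2 hs, Subgroup.card_top, Nat.card_eq_fintype_card]
    rfl
  · intro h
    rw [MonoidHom.mem_ker, hχu] at h
    exact absurd h (by decide)

end Cfsg.Agent.S0111
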