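import Cfsg.Prelude
import Cfsg.Agent.Lib.Invol.BSW.Main
-- import your own Cfsg.Agent.* helpers here

set_option autoImplicit false
open Cfsg

open scoped Pointwise commutatorElement

namespace Cfsg.Agent.S3282

/-- The abstract form of the Brauer–Suzuki–Wall Theorem. Let G be a finite group with an involution t and an abelian subgroup K of H = C_G(t) containing t, such that H = K⟨s⟩ for an involution s ∉ K with C_K(s) = ⟨t⟩ and s inverting every element of K, K ∩ K^g = 1 for every g outside H, and all involutions of G conjugate. Then G has a subgroup Q, of order q say, with |G| = q(q+1)(q−1)/2, C_G(x) = Q for every non-identity x ∈ Q, N_G(Q) = QD for an abelian subgroup D of order (q−1)/2 meeting Q trivially, and for every nontrivial subgroup X of D, N_G(X) = N_G(D) = D⟨u⟩ for some involution u ∉ D inverting D. -/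
theorem result {G : Type*} [Group G] [Finite G] (t : G) (ht : orderOf t = 2)
    (K : Subgroup G) (hKab : IsMulCommutative ↥K) (hKH : K ≤ Subgroup.centralizer ({t} : Set G)) (htK : t ∈ K)
    (s : G) (hs : orderOf s = 2) (hsH : s ∈ Subgroup.centralizer ({t} : Set G)) (hsK : s ∉ K)
    (hH : K ⊔ Subgroup.zpowers s = Subgroup.centralizer ({t} : Set G)) (hCK : K ⊓ Subgroup.centralizer ({s} : Set G) = Subgroup.zpowers t)
    (hinv : ∀ x ∈ K, s * x * s⁻¹ = x⁻¹)
    (hTI : ∀ g : G, g ∉ Subgroup.centralizer ({t} : Set G) → K ⊓ K.map (MulAut.conj g).toMonoidHom = ⊥)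
    (hconj : ∀ x y : G, orderOf x = 2 → orderOf y = 2 → IsConj x y) :
    ∃ Q D : Subgroup G, 2 * Nat.card G = Nat.card ↥Q * (Nat.card ↥Q + 1) * (Nat.card ↥Q - 1) ∧
      (∀ x ∈ Q, x ≠ 1 → Subgroup.centralizer ({x} : Set G) = Q) ∧
      IsMulCommutative ↥D ∧ 2 * Nat.card ↥D + 1 = Nat.card ↥Q ∧ Q ⊓ D = ⊥ ∧
      Subgroup.normalizer (Q : Set G) = Q ⊔ D ∧
      ∀ X : Subgroup G, X ≤ D → X ≠ ⊥ →
        Subgroup.normalizer (X : Set G) = Subgroup.normalizer (D : Set G) ∧
        ∃ u : G, orderOf u = 2 ∧ u ∉ D ∧ (∀ d ∈ D, u * d * u⁻¹ = d⁻¹) ∧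
          Subgroup.normalizer (D : Set G) = D ⊔ Subgroup.zpowers u := by
  have hmem : ∀ g, g ∈ Subgroup.centralizer ({t} : Set G) ↔ g * t = t * g := fun g =>
    Subgroup.mem_centralizer_singleton_iff
  have hs2 : s * s = 1 := by rw [← pow_two, ← hs, pow_orderOf_eq_one]
  have hcomm : ∀ a ∈ K, ∀ b ∈ K, a * b = b * a := fun a ha b hb =>
    congrArg Subtype.val (hKab.is_comm.comm (⟨a, ha⟩ : K) ⟨b, hb⟩)
  have hnorm : Subgroup.zpowers s ≤ Subgroup.normalizer (K : Set G) := by
    rw [Subgroup.zpowers_le, Subgroup.mem_normalizer_iff]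
    intro w
    constructor
    · intro hw; rw [hinv w hw]; exact inv_mem hw
    · intro hw
      have h1 := hinv _ hw
      have e : s * (s * w * s⁻¹) * s⁻¹ = w := by
        rw [inv_eq_of_mul_eq_one_right hs2]
        calc s * (s * w * s) * s = (s * s) * w * (s * s) := by group
          _ = w := by rw [hs2, one_mul, mul_one]
      rw [e] at h1
      rw [h1]; exact inv_mem hw
  have D : Cfsg.Agent.Invol.BSW.Hyp t s K :=
    { ot := ht
      comm := hcomm
      tK := htK
      KC := fun a ha => (hmem a).1 (hKH ha)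
      os := hs
      st := (hmem s).1 hsH
      sK := hsK
      cover := fun g hg => by
        have h1 : g ∈ ((K ⊔ Subgroup.zpowers s : Subgroup G) : Set G) := by
          rw [hH]; exact (hmem g).2 hg
        rw [Subgroup.coe_mul_of_right_le_normalizer_left _ _ hnorm] at h1
        obtain ⟨a, ha, z, hz, rfl⟩ := h1
        obtain ⟨i, rfl⟩ := Subgroup.mem_zpowers_iff.1 hz
        rcases Int.even_or_odd i with ⟨m, rfl⟩ | ⟨m, rfl⟩
        · left
          show a * s ^ (m + m) ∈ K
          rw [← two_mul, zpow_mul, zpow_two, hs2, one_zpow, mul_one]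
          exact ha
        · right
          show a * s ^ (2 * m + 1) * s ∈ K
          rw [zpow_add, zpow_mul, zpow_two, hs2, one_zpow, one_mul, zpow_one, mul_assoc, hs2, mul_one]
          exact ha
      fixs := fun a ha hc => by
        have h1 : a ∈ Subgroup.zpowers t := by
          rw [← hCK]
          exact ⟨ha, Subgroup.mem_centralizer_singleton_iff.2 hc⟩
        obtain ⟨i, rfl⟩ := Subgroup.mem_zpowers_iff.1 h1
        have ht2 : t * t = 1 := by rw [← pow_two, ← ht, pow_orderOf_eq_one]
        rcases Int.even_or_odd i with ⟨m, rfl⟩ | ⟨m, rfl⟩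
        · left; rw [← two_mul, zpow_mul, zpow_two, ht2, one_zpow]
        · right; rw [zpow_add, zpow_mul, zpow_two, ht2, one_zpow, one_mul, zpow_one]
      inverts := hinv
      ti := fun g a ha hg hne => by
        by_contra hgt
        have h1 := hTI g fun h => hgt ((hmem g).1 h)
        have h2 : g * a * g⁻¹ ∈ K ⊓ K.map (MulAut.conj g).toMonoidHom := ⟨hg, a, ha, rfl⟩
        rw [h1, Subgroup.mem_bot, conj_eq_one_iff] at h2
        exact hne h2
      conj := hconj }
  exact D.concl

end Cfsg.Agent.S3282
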