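import Cfsg.Statements.S1422
import Cfsg.Agent.Lib.Transfer.Local.NonabelianUnique

set_option maxHeartbeats 1000000
set_option maxRecDepth 8000

set_option autoImplicit false
open Cfsg

namespace Cfsg.Agent.S1422

open Transfer Subgroup
open scoped Pointwise

/-- A Sylow subgroup of `G` containing a nonabelian group lies in a unique maximal subgroup. -/
theorem sylow_case {G : Type*} [Group G] [Finite G] (hG : Cfsg.IsMinSimpleOddOrder G) {p : ℕ} [hp : Fact p.Prime]
    (S : Sylow p G) (hna : ¬ IsMulCommutative (S : Subgroup G)) : Cfsg.InUniqueMaximal (S : Subgroup G) := by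
  have hS1 : (S : Subgroup G) ≠ ⊥ := fun e => hna (by rw [e]; infer_instance)
  by_cases hr : Cfsg.PRankLE p 2 (S : Subgroup G)
  · have hZ1 : Loc.omZ p (S : Subgroup G) ≠ ⊥ := Loc.omZ_ne_bot S.isPGroup' hS1
    obtain ⟨M₀, hM₀, hN₀⟩ := Loc.exists_coatom_normalizer hG hZ1
      (Loc.ne_top_of_pGroup hG (S.isPGroup'.to_le (Loc.omZ_le _)))
    exact ⟨M₀, ⟨hM₀, (le_normalizer.trans (Loc.normalizer_le_omZ (p := p) _)).trans hN₀⟩,
      fun H hH => Loc.sylow_unique_rank_two hG S hr hna hM₀ hN₀ hH.1 hH.2⟩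
  · obtain ⟨E, hE, hEe, hE3⟩ := Loc.exists_elem_of_not_prank hr
    exact Loc.u_mono hG (Loc.u_elem_three hG hEe hE3) hE (Loc.ne_top_of_pGroup hG S.isPGroup')

/-- Let G be a minimal simple group of odd order, p a prime and P a non-abelian p-subgroup of G. Then P lies in exactly one maximal subgroup of G. -/
theorem result {G : Type*} [Group G] [Finite G] (hG : Cfsg.IsMinSimpleOddOrder G) (p : ℕ) [Fact p.Prime] (P : Subgroup G) (hP : IsPGroup p P) (hPna : ¬ IsMulCommutative P) :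
    Cfsg.InUniqueMaximal P := by

  induction hn : Nat.card G - Nat.card P using Nat.strong_induction_on generalizing P with
  | _ n ih =>
  subst hn
  obtain ⟨T, hPT⟩ := hP.exists_le_sylow
  have hnaU : ∀ {T : Subgroup G}, P ≤ T → ¬ IsMulCommutative T := fun {T} hle hc => hPna
    ⟨⟨fun a b => Subtype.ext (congrArg Subtype.val (hc.is_comm.comm ⟨a, hle a.2⟩ ⟨b, hle b.2⟩) :)⟩⟩
  rcases eq_or_ne P (T : Subgroup G) with e | e
  · rw [e]; exact sylow_case hG T (hnaU hPT)
  have hP1 : P ≠ ⊥ := fun e' => hPna (by rw [e']; infer_instance)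
  obtain ⟨K, hK, hNK⟩ := Loc.exists_coatom_normalizer hG hP1 (Loc.ne_top_of_pGroup hG hP)
  refine ⟨K, ⟨hK, le_normalizer.trans hNK⟩, fun H hH => ?_⟩
  haveI := Loc.solvable_of_ne_top hG hH.1.1
  obtain ⟨U, hU, hPU⟩ := Loc.exists_sylowIn_ge hH.2 hP
  have hσ := Loc.mem_sigma_of_nonabelian hG hH.1 hP hPna hH.2
  let U' : Sylow p G := hU.2.1.toSylow (Loc.sigma_sylow hG hH.1 hσ hU).2
  have hne : P ≠ U := fun e' => e (le_antisymm hPT ((U'.3 T.isPGroup' (e'.ge.trans hPT)).trans_le e'.ge))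
  have hlt : P < U ⊓ normalizer (P : Set G) := Loc.exists_grow hU.2.1 (lt_of_le_of_ne hPU hne)
  have h1 := ih _ (by
    have h2 : Nat.card P < Nat.card ↥(U ⊓ normalizer (P : Set G)) := Set.ncard_lt_ncard (SetLike.coe_ssubset_coe.2 hlt)
    have h3 : Nat.card ↥(U ⊓ normalizer (P : Set G)) ≤ Nat.card G := Subgroup.card_le_card_group _
    omega) (U ⊓ normalizer (P : Set G)) (hU.2.1.to_le inf_le_left) (hnaU hlt.le) rfl
  exact h1.unique ⟨hH.1, inf_le_left.trans hU.1⟩ ⟨hK, inf_le_right.trans hNK⟩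

end Cfsg.Agent.S1422
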