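import Cfsg.Statements.S1423
import Cfsg.Agent.Lib.Transfer.Local.SigmaPrimeOrder

set_option maxHeartbeats 1000000
set_option maxRecDepth 8000

set_option autoImplicit false
open Cfsg

namespace Cfsg.Agent.S1423

open Transfer Subgroup
open scoped Pointwise

/-- Let G be a minimal simple group of odd order, M a maximal subgroup, p ∈ σ(M), X ≤ M a subgroup of order p and P a Sylow p-subgroup of M_σ. If p ∈ β(M) or X ≤ (M_σ)', then C_G(X) ≤ M, M is the unique maximal subgroup containing C_G(X), and M is the unique maximal subgroup containing P. -/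
theorem result {G : Type*} [Group G] [Finite G] (hG : Cfsg.IsMinSimpleOddOrder G)
    (M : Subgroup G) (hM : IsCoatom M) (p : ℕ) [Fact p.Prime] (hp : p ∈ Cfsg.sigma M) (X : Subgroup G) (hXM : X ≤ M) (hX : Nat.card X = p)
    (P : Sylow p ↥(Cfsg.sigmaCore M)) (h : p ∈ Cfsg.beta M ∨ X ≤ ⁅Cfsg.sigmaCore M, Cfsg.sigmaCore M⁆) :
    (Subgroup.centralizer (X : Set G) ≤ M ∧ ∀ L : Subgroup G, IsCoatom L → Subgroup.centralizer (X : Set G) ≤ L → L = M) ∧ Cfsg.InUniqueMaximal ((P : Subgroup ↥(Cfsg.sigmaCore M)).map (Cfsg.sigmaCore M).subtype) ∧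
      (P : Subgroup ↥(Cfsg.sigmaCore M)).map (Cfsg.sigmaCore M).subtype ≤ M := by

  haveI := Loc.solvable_of_ne_top hG hM.1
  set P' := (P : Subgroup ↥(Cfsg.sigmaCore M)).map (Cfsg.sigmaCore M).subtype with hP'
  have hPS : Grp.IsSylowIn p P' (Cfsg.sigmaCore M) := Grp.isSylowIn_iff.2 ⟨P, rfl⟩
  have hSM : Cfsg.sigmaCore M ≤ M := TransHyp.piCoreOf_le M
  obtain ⟨S, hS, hXS⟩ := Loc.exists_sylowIn_ge hXM (Grp.elemAb_isPGroup (Loc.elem_of_card_prime hX))
  have hSσ := Loc.sigmaCore_sylow hG hM hp hS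
  have hSU : Cfsg.InUniqueMaximal S := by
    by_cases hβ : p ∈ Cfsg.beta M
    · exact Loc.u_of_rank hG hM hβ.1 hS
    · refine Cfsg.Agent.S1422.result hG p S hS.2.1 fun hc => ?_
      have h1 := (le_inf (h.resolve_left hβ) hXS).trans (Loc.sigma_derived_inf_sylow hG hM hp hβ hS)
      rw [commutator_eq_bot_iff_le_centralizer.2 (le_centralizer_iff_isMulCommutative.2 hc), le_bot_iff] at h1
      rw [h1, Subgroup.card_bot] at hX
      exact (Fact.out : p.Prime).ne_one hX.symm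
  obtain ⟨k, -, hk⟩ := hSσ.conj hPS
  refine ⟨?_, hk ▸ Loc.u_conj hG hSU k, hPS.1.trans hSM⟩
  obtain ⟨U, hUM, hUC, hU⟩ := Loc.centralizer_prime_sigma hG hM hp hXM hX h
  have key : ∀ L : Subgroup G, IsCoatom L → centralizer (X : Set G) ≤ L → L = M := fun L hL hle =>
    hU.unique ⟨hL, hUC.trans hle⟩ ⟨hM, hUM⟩
  obtain ⟨L, hL, hle⟩ := Loc.exists_coatom hG (Loc.centralizer_ne_top' hG (L := X) fun e =>
    (Fact.out : p.Prime).ne_one (by rw [← hX, e, Subgroup.card_bot]))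
  exact ⟨key L hL hle ▸ hle, key⟩

end Cfsg.Agent.S1423
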