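import Cfsg.Statements.S1357
import Cfsg.Agent.Lib.Transfer.Local.CoreTI

set_option maxHeartbeats 1000000
set_option maxRecDepth 8000

set_option autoImplicit false
open Cfsg

namespace Cfsg.Agent.S1357

open Cfsg.Agent Cfsg.Agent.Transfer Cfsg.Agent.Transfer.Loc Subgroup

/-- Let G be a minimal simple group of odd order and M a maximal subgroup with standard factorisation M = K U M_σ. If M_F ≠ M_σ then U = 1, the Fitting subgroup F(M) meets its conjugates by elements outside its normalizer trivially, and K has prime order. -/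
theorem result {G : Type*} [Group G] [Finite G] (hG : Cfsg.IsMinSimpleOddOrder G)
    (M : Subgroup G) (hM : IsCoatom M) (K U : Subgroup G) (hKU : Cfsg.IsSigmaDecomposition M K U) (hne : Cfsg.fittingHallOf M ≠ Cfsg.sigmaCore M) :
    U = ⊥ ∧ Cfsg.IsTISubset (Cfsg.fittingOf M : Set G) ∧ (Nat.card K).Prime := by
  have hn : ¬ Group.IsNilpotent (Cfsg.sigmaCore M) := fun h => hne (fittingHallOf_eq_sigmaCore hG hM h)
  obtain ⟨hU, -, -, hRp, -⟩ := sigmaCore_structure hG hM hKU hn
  exact ⟨hU, fittingOf_ti_of_not_nilpotent hG hM hKU hn, hRp⟩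

end Cfsg.Agent.S1357
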