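import Cfsg.Statements.S0183
import Cfsg.Agent.Lib.Char.CoverTIMinSimple
import Cfsg.Agent.Lib.Char.TIStar

set_option autoImplicit false
open Cfsg

namespace Cfsg.Agent.S0183
open Cfsg.Agent.Transfer.CN Cfsg.Agent.Char.CoverTI

theorem main.{u} (n : ℕ) : ∀ (G : Type u) [Group G] [Finite G], Nat.card G = n → Odd (Nat.card G) →
    Cfsg.IsCNGroup G → Group.IsSolvable G := by
  induction n using Nat.strong_induction_on with
  | _ n ih =>
    intro G _ _ hn hodd hCN
    have hprop : ∀ H : Subgroup G, H ≠ ⊤ → Group.IsSolvable H := fun H hH => by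
      have hlt : Nat.card H < n := by
        rw [← hn]
        exact lt_of_le_of_ne (Nat.le_of_dvd Nat.card_pos H.card_subgroup_dvd_card)
          fun e => hH (Subgroup.eq_top_of_card_eq H e)
      exact ih _ hlt H rfl (Odd.of_dvd_nat hodd H.card_subgroup_dvd_card) (subgroup hCN H)
    by_cases hab : IsMulCommutative G
    · open scoped IsMulCommutative in infer_instance
    haveI : Nontrivial G := not_subsingleton_iff_nontrivial.1 fun hs =>
      hab ⟨⟨fun a b => Subsingleton.elim _ _⟩⟩
    by_cases hsimple : IsSimpleGroup G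
    · exfalso
      haveI := Fintype.ofFinite G
      exact false_of_stars ⟨hodd, hsimple, hab, hprop⟩ hCN fun H _ hH hti hlt hc =>
        Cfsg.Agent.Char.KerSets.exists_star H hti hlt hc hH.ne_bot
          (Odd.of_dvd_nat hodd (Subgroup.card_subgroup_dvd_card _))
    obtain ⟨N, hNn, hN1, hN2⟩ : ∃ N : Subgroup G, N.Normal ∧ N ≠ ⊥ ∧ N ≠ ⊤ := by
      by_contra hcon
      push Not at hcon
      exact hsimple ⟨fun N hN => or_iff_not_imp_left.2 fun h => hcon N hN h⟩
    haveI := hNn
    haveI hNs := hprop N hN2
    have hlt : Nat.card (G ⧸ N) < n := by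
      rw [← hn, ← Subgroup.index_eq_card]
      refine lt_of_le_of_ne (Nat.le_of_dvd Nat.card_pos N.index_dvd_card) fun e => hN1 ?_
      rw [← N.card_mul_index] at e
      exact Subgroup.card_eq_one.1 (Nat.eq_of_mul_eq_mul_right
        (Nat.pos_of_ne_zero Subgroup.index_ne_zero_of_finite) ((e.symm).trans (one_mul _).symm))
    haveI := ih _ hlt (G ⧸ N) rfl (Odd.of_dvd_nat hodd (Subgroup.card_quotient_dvd_card N))
      (quotient hCN N hNs)
    exact Group.isSolvable_of_ker_le_range N.subtype (QuotientGroup.mk' N) (by simp)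

/-- The CN-Theorem for odd order: a finite group of odd order in which every non-identity element has a nilpotent centralizer (a CN-group) is solvable. -/
theorem result {G : Type*} [Group G] [Finite G] (hodd : Odd (Nat.card G)) (hCN : Cfsg.IsCNGroup G) : Group.IsSolvable G := by
  exact main _ G rfl hodd hCN

end Cfsg.Agent.S0183
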