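import Cfsg.Statements.S0200
import Mathlib
import Cfsg.Agent.Lib.Grp.Baer
import Cfsg.Agent.Lib.Invol.Sylow
-- import your own Cfsg.Agent.* helpers here

set_option autoImplicit false
open Cfsg

namespace Cfsg.Agent.S0200

/-- An involution lying in no normal 2-subgroup of a finite group inverts a nontrivial element of odd order (a consequence of the Baer–Suzuki Theorem). -/
theorem result {G : Type*} [Group G] [Finite G] (t : G) (ht : orderOf t = 2) (hO : ∀ N : Subgroup G, N.Normal → IsPGroup 2 N → t ∉ N) : ∃ h : G, h ≠ 1 ∧ Odd (orderOf h) ∧ t * h * t⁻¹ = h⁻¹ := by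
  have hnot : t ∉ Cfsg.pCore 2 G := hO _ Grp.pCore_isNormal Grp.pCore_isPGroup
  by_contra hno
  push Not at hno
  refine hnot (Grp.baer_suzuki t fun g => ?_)
  have hu : orderOf (g * t * g⁻¹) = 2 := by rw [Invol.orderOf_conj_eq, ht]
  obtain ⟨a, b, hb, hab⟩ := Nat.exists_eq_two_pow_mul_odd (orderOf_pos (t * (g * t * g⁻¹))).ne'
  refine Invol.isPGroup_closure_pair ht hu (a := a) ?_
  have hpos : 0 < 2 ^ a := by positivity
  have hord : orderOf ((t * (g * t * g⁻¹)) ^ 2 ^ a) = b := by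
    rw [orderOf_pow' _ hpos.ne', hab, Nat.gcd_eq_right (dvd_mul_right _ b),
      Nat.mul_div_cancel_left _ hpos]
  have hinv : t * (t * (g * t * g⁻¹)) ^ 2 ^ a * t⁻¹ = ((t * (g * t * g⁻¹)) ^ 2 ^ a)⁻¹ := by
    rw [← conj_pow, Invol.conj_mul_eq_inv ht hu, inv_pow]
  rcases eq_or_ne ((t * (g * t * g⁻¹)) ^ 2 ^ a) 1 with h1 | h1
  · rw [h1, orderOf_one] at hord
    rw [hab, ← hord, mul_one]
  · exact absurd hinv (hno _ h1 (hord.symm ▸ hb))

end Cfsg.Agent.S0200
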