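import Cfsg.Statements.S0728
import Mathlib
-- import your own Cfsg.Agent.* helpers here

set_option autoImplicit false
open Cfsg

namespace Cfsg.Agent.S0728

/-- In a sharply triply transitive group of even degree at least 6 (degree `q + 1`, `q` odd), a two-point stabiliser has at most one subgroup of order 3. -/
theorem result {α : Type*} [Fintype α] [DecidableEq α] (heven : Even (Fintype.card α)) (h6 : 6 ≤ Fintype.card α) (G : Subgroup (Equiv.Perm α)) (h3 : MulAction.IsMultiplyPretransitive G α 3) (hsharp : ∀ x : Fin 3 ↪ α, MulAction.stabilizer G x = ⊥) {a b : α} (hab : a ≠ b) (A B : Subgroup G) (hA : A ≤ MulAction.stabilizer G a ⊓ MulAction.stabilizer G b) (hB : B ≤ MulAction.stabilizer G a ⊓ MulAction.stabilizer G b) (hA3 : Nat.card A = 3) (hB3 : Nat.card B = 3) : A = B := by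
  classical
  have hfree : ∀ (g : G) (x y z : α), x ≠ y → x ≠ z → y ≠ z → g • x = x → g • y = y → g • z = z →
      g = 1 := by
    intro g x y z hxy hxz hyz hx hy hz
    have i1 : Function.Injective ![x, y, z] := by
      intro i j
      fin_cases i <;> fin_cases j <;> simp [hxy, hxy.symm, hxz, hxz.symm, hyz, hyz.symm]
    have h1 : g ∈ MulAction.stabilizer G (⟨_, i1⟩ : Fin 3 ↪ α) := by
      rw [MulAction.mem_stabilizer_iff]
      ext i
      show g • ![x, y, z] i = ![x, y, z] i
      fin_cases i
      · exact hx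
      · exact hy
      · exact hz
    rw [hsharp, Subgroup.mem_bot] at h1
    exact h1
  let E := {g : G // orderOf g = 3}
  have h3' : ∀ g : E, ∀ x : α, (g : G) • (g : G) • (g : G) • x = x := by
    intro g x
    have h := pow_orderOf_eq_one (g : G)
    rw [g.2] at h
    rw [smul_smul, smul_smul, show (g : G) * g * g = (g : G) ^ 3 by rw [pow_succ, pow_two], h, one_smul]
  have hfix : ∀ g : E, (Finset.univ.filter (fun x : α => (g : G) • x = x)).card ≤ 2 := by
    intro g
    by_contra h
    rw [not_le, Finset.two_lt_card] at h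
    obtain ⟨x, hx, y, hy, z, hz, hxy, hxz, hyz⟩ := h
    simp only [Finset.mem_filter, Finset.mem_univ, true_and] at hx hy hz
    have h2 := g.2
    rw [hfree _ x y z hxy hxz hyz hx hy hz, orderOf_one] at h2
    omega
  have hmod : ∀ g : E, Fintype.card α % 3 = (Finset.univ.filter (fun x : α => (g : G) • x = x)).card % 3 := by
    intro g
    haveI := Fact.mk Nat.prime_three
    have hP : IsPGroup 3 (Subgroup.zpowers (g : G)) :=
      IsPGroup.of_card (n := 1) (by rw [Nat.card_zpowers, g.2, pow_one])
    have h1 := hP.card_modEq_card_fixedPoints α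
    have h4 : MulAction.fixedPoints (Subgroup.zpowers (g : G)) α =
        {x : α | (g : G) • x = x} := by
      ext x
      constructor
      · exact fun hx => hx ⟨(g : G), Subgroup.mem_zpowers _⟩
      · rintro hx ⟨u, hu⟩
        exact (Subgroup.zpowers_le.2 (show (g : G) ∈ MulAction.stabilizer G x from hx)) hu
    rw [h4, Nat.card_eq_fintype_card, Nat.card_coe_set_eq, Set.ncard_eq_toFinset_card',
      Set.toFinset_ofPred] at h1
    exact h1
  let Hs := fun u v : α => Finset.univ.filter (fun g : E => (g : G) • u = u ∧ (g : G) • v = v)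
  have memA : ∀ C : Subgroup G, C ≤ MulAction.stabilizer G a ⊓ MulAction.stabilizer G b →
      Nat.card C = 3 → ∃ g : E, g ∈ Hs a b ∧ (g : G) ∈ C ∧ C = Subgroup.zpowers (g : G) := by
    intro C hC hC3
    haveI := Fact.mk Nat.prime_three
    obtain ⟨x, hx⟩ := exists_prime_orderOf_dvd_card' (G := C) 3 (by rw [hC3])
    have hx' : orderOf (x : G) = 3 := by rw [Subgroup.orderOf_coe, hx]
    refine ⟨⟨x, hx'⟩, Finset.mem_filter.2 ⟨Finset.mem_univ _, (hC x.2).1, (hC x.2).2⟩, x.2, ?_⟩
    refine (Subgroup.eq_of_le_of_card_ge (Subgroup.zpowers_le.2 x.2) ?_).symm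
    rw [hC3, Nat.card_zpowers, hx']
  obtain ⟨gA, hgA, hgA', hAz⟩ := memA A hA hA3
  obtain ⟨gB, hgB, hgB', hBz⟩ := memA B hB hB3
  have hn2 : Fintype.card α % 3 = 2 := by
    rw [hmod gA, show (Finset.univ.filter (fun x : α => (gA : G) • x = x)).card = 2 from
      le_antisymm (hfix gA) ?_]
    refine le_of_eq_of_le (Finset.card_pair hab).symm (Finset.card_le_card fun x hx => ?_)
    simp only [Finset.mem_insert, Finset.mem_singleton] at hx
    rw [Finset.mem_filter]
    rcases hx with rfl | rfl
    · exact ⟨Finset.mem_univ _, (Finset.mem_filter.1 hgA).2.1⟩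
    · exact ⟨Finset.mem_univ _, (Finset.mem_filter.1 hgA).2.2⟩
  have hfix2 : ∀ g : E, (Finset.univ.filter (fun x : α => (g : G) • x = x)).card = 2 := fun g => by
    have := hfix g
    have := hmod g
    omega
  -- the number of elements of order three
  set n := Fintype.card α with hn
  have hcount : Fintype.card E * (n - 2) = n.descFactorial 3 := by
    have h1 : ∑ g : E, (Finset.univ.filter (fun x : α => ¬ (g : G) • x = x)).card =
        Fintype.card E * (n - 2) := by
      have h2 : ∀ g : E, (Finset.univ.filter (fun x : α => ¬ (g : G) • x = x)).card = n - 2 := fun g => by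
        have := Finset.card_filter_add_card_filter_not (s := (Finset.univ : Finset α))
          (fun x : α => (g : G) • x = x)
        rw [hfix2 g, Finset.card_univ, ← hn] at this
        omega
      rw [Finset.sum_congr rfl (fun g _ => h2 g), Finset.sum_const, Finset.card_univ, smul_eq_mul]
    have hcard : n.descFactorial 3 = Fintype.card (Fin 3 ↪ α) := by
      rw [Fintype.card_embedding_eq, Fintype.card_fin]
    rw [← h1, hcard, ← Finset.card_sigma, ← Finset.card_univ (α := Fin 3 ↪ α)]
    have hd : ∀ (g : E) (x : α), (g : G) • x ≠ x →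
        x ≠ (g : G) • x ∧ x ≠ (g : G) • (g : G) • x ∧ (g : G) • x ≠ (g : G) • (g : G) • x :=
      fun g x hx => ⟨Ne.symm hx, fun h => hx (((congrArg ((g : G) • ·) h).trans (h3' g x))),
        fun h => hx (smul_left_cancel (g : G) h).symm⟩
    refine Finset.card_bij (fun p hp => ⟨![p.2, (p.1 : G) • p.2, (p.1 : G) • (p.1 : G) • p.2], ?_⟩)
      (fun _ _ => Finset.mem_univ _) (fun p hp q hq hpq => ?_) (fun e _ => ?_)
    · obtain ⟨h1, h2, h3⟩ := hd p.1 p.2 (Finset.mem_filter.1 (Finset.mem_sigma.1 hp).2).2
      intro i j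
      fin_cases i <;> fin_cases j <;> simp [h1, h1.symm, h2, h2.symm, h3, h3.symm]
    · obtain ⟨g, x⟩ := p
      obtain ⟨g', y⟩ := q
      obtain ⟨h1, h2, h3⟩ := hd g x (Finset.mem_filter.1 (Finset.mem_sigma.1 hp).2).2
      have e0 : x = y := DFunLike.congr_fun hpq 0
      have e1 : (g : G) • x = (g' : G) • y := DFunLike.congr_fun hpq 1
      have e2 : (g : G) • (g : G) • x = (g' : G) • (g' : G) • y := DFunLike.congr_fun hpq 2
      subst e0
      have : g = g' := by
        apply Subtype.ext
        refine (inv_mul_eq_one.1 (hfree ((g' : G)⁻¹ * g) x ((g : G) • x) ((g : G) • (g : G) • x)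
          h1 h2 h3 ?_ ?_ ?_)).symm
        · rw [mul_smul, e1, inv_smul_smul]
        · rw [mul_smul, e2, inv_smul_smul, ← e1]
        · rw [mul_smul, h3' g x]
          nth_rewrite 1 [← h3' g' x]
          rw [inv_smul_smul, ← e2]
      subst this
      rfl
    · let e' : Fin 3 ↪ α := (finRotate 3).toEmbedding.trans e
      obtain ⟨g, hg⟩ := h3.exists_smul_eq e e'
      have g0 : g • e 0 = e 1 := DFunLike.congr_fun hg 0
      have g1 : g • e 1 = e 2 := DFunLike.congr_fun hg 1
      have g2 : g • e 2 = e 0 := DFunLike.congr_fun hg 2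
      have d01 : e 0 ≠ e 1 := e.injective.ne (by decide)
      have d02 : e 0 ≠ e 2 := e.injective.ne (by decide)
      have d12 : e 1 ≠ e 2 := e.injective.ne (by decide)
      have hg3 : g ^ 3 = 1 := hfree _ _ _ _ d01 d02 d12
        (by rw [pow_succ, pow_succ, pow_one, mul_smul, mul_smul, g0, g1, g2])
        (by rw [pow_succ, pow_succ, pow_one, mul_smul, mul_smul, g1, g2, g0])
        (by rw [pow_succ, pow_succ, pow_one, mul_smul, mul_smul, g2, g0, g1])
      have hord : orderOf g = 3 := by
        haveI := Fact.mk Nat.prime_three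
        exact orderOf_eq_prime hg3 fun h => d01 (by rw [← g0, h, one_smul])
      refine ⟨⟨⟨g, hord⟩, e 0⟩, Finset.mem_sigma.2 ⟨Finset.mem_univ _,
        Finset.mem_filter.2 ⟨Finset.mem_univ _, fun h => d01 (g0 ▸ h.symm)⟩⟩, ?_⟩
      ext i
      fin_cases i
      · rfl
      · exact g0
      · exact (congrArg (g • ·) g0).trans g1
  -- ordered fixed pairs
  have h2' : ∀ {x y z w : α}, x ≠ y → z ≠ w → ∃ g : G, g • x = z ∧ g • y = w := by
    haveI := h3
    have h := MulAction.isMultiplyPretransitive_of_le (G := G) (α := α) (m := 2) (n := 3) (by omega)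
      (by rw [Nat.card_eq_fintype_card]; omega)
    intro x y z w hxy hzw
    exact MulAction.is_two_pretransitive_iff.1 h hxy hzw
  have hHs : ∀ p ∈ (Finset.univ : Finset α).offDiag, (Hs p.1 p.2).card = (Hs a b).card := by
    intro p hp
    obtain ⟨k, hk1, hk2⟩ := h2' hab (Finset.mem_offDiag.1 hp).2.2
    let φ : E ≃ E :=
      { toFun := fun g => ⟨k * g * k⁻¹, by
          exact ((SemiconjBy.conj_mk k (g : G)).orderOf_eq k).symm.trans g.2⟩
        invFun := fun g => ⟨k⁻¹ * g * k, by
          have h5 := ((SemiconjBy.conj_mk k⁻¹ (g : G)).orderOf_eq k⁻¹).symm.trans g.2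
          rwa [inv_inv] at h5⟩
        left_inv := fun g => Subtype.ext (by group)
        right_inv := fun g => Subtype.ext (by group) }
    refine (Finset.card_equiv φ fun g => ?_).symm
    simp only [Hs, Finset.mem_filter, Finset.mem_univ, true_and, φ, Equiv.coe_fn_mk]
    rw [← hk1, ← hk2]
    simp [mul_smul]
  have hpairs : (n * n - n) * (Hs a b).card = Fintype.card E * 2 := by
    have h1 : ∑ p ∈ (Finset.univ : Finset α).offDiag, (Hs p.1 p.2).card =
        ∑ g : E, ((Finset.univ.filter (fun x : α => (g : G) • x = x)).offDiag).card := by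
      simp only [Hs, Finset.card_filter]
      rw [Finset.sum_comm]
      refine Finset.sum_congr rfl fun g _ => ?_
      rw [← Finset.card_filter]
      congr 1
      ext ⟨u, v⟩
      simp only [Finset.mem_filter, Finset.mem_offDiag, Finset.mem_univ, true_and]
      tauto
    rw [Finset.sum_congr rfl hHs, Finset.sum_const, Finset.offDiag_card, Finset.card_univ,
      smul_eq_mul] at h1
    rw [← hn] at h1
    rw [h1]
    simp [Finset.offDiag_card, hfix2]
  have hE : Fintype.card E = n * (n - 1) := by
    refine Nat.eq_of_mul_eq_mul_right (show 0 < n - 2 by omega) ?_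
    rw [hcount]
    simp [Nat.descFactorial]
    ring
  have htwo : (Hs a b).card = 2 := by
    rw [show n * n - n = n * (n - 1) by rw [Nat.mul_sub_one], hE] at hpairs
    exact Nat.eq_of_mul_eq_mul_left (Nat.mul_pos (by omega) (by omega)) hpairs
  -- `gA` and its inverse are all
  let gA' : E := ⟨(gA : G)⁻¹, by rw [orderOf_inv]; exact gA.2⟩
  have hmem' : gA' ∈ Hs a b := by
    simp only [Hs, Finset.mem_filter, Finset.mem_univ, true_and, gA', inv_smul_eq_iff]
    exact ⟨(Finset.mem_filter.1 hgA).2.1.symm, (Finset.mem_filter.1 hgA).2.2.symm⟩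
  have hneA : gA ≠ gA' := by
    intro h
    have h1 : (gA : G) = (gA : G)⁻¹ := congrArg Subtype.val h
    have h2 := orderOf_dvd_of_pow_eq_one (n := 2)
      (by rw [sq]; exact eq_inv_iff_mul_eq_one.1 h1 : (gA : G) ^ 2 = 1)
    rw [gA.2] at h2
    have := Nat.le_of_dvd two_pos h2
    omega
  have hall : ({gA, gA'} : Finset E) = Hs a b :=
    Finset.eq_of_subset_of_card_le (Finset.insert_subset hgA (Finset.singleton_subset_iff.2 hmem'))
      (by rw [htwo, Finset.card_pair hneA])
  rw [← hall, Finset.mem_insert, Finset.mem_singleton] at hgB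
  rw [hAz, hBz]
  rcases hgB with rfl | rfl
  · rfl
  · exact (Subgroup.zpowers_inv).symm

end Cfsg.Agent.S0728
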