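import Cfsg.Statements.S0344
import Cfsg.Agent.Lib.Grp.ZasSimple
-- import your own Cfsg.Agent.* helpers here

set_option autoImplicit false
open Cfsg

namespace Cfsg.Agent.S0344

/-- A finite simple Zassenhaus group with a two-point stabiliser of even order is isomorphic to `PSL₂(F)` for a finite
field `F` with more than three elements. -/
theorem result {G Ω : Type*} [Group G] [Finite G] [MulAction G Ω] [Finite Ω]
    (hZ : Cfsg.IsZassenhausGroup G Ω) [IsSimpleGroup G]
    {a b : Ω} (hab : a ≠ b) (heven : Even (Nat.card ↥(MulAction.stabilizer G a ⊓ MulAction.stabilizer G b))) :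
    ∃ (F : Type) (_ : Field F) (_ : Fintype F), 3 < Fintype.card F ∧ Nonempty (G ≃* Matrix.ProjectiveSpecialLinearGroup (Fin 2) F) := by
  classical
  obtain ⟨D, rfl, rfl⟩ := Agent.Block.Zas.frame_of_zassenhaus hZ hab
  have hn := D.two_le_F hZ
  have hH := D.H_ne_bot hZ
  have he : Even (Nat.card D.H) := heven
  have hhalf := Agent.Grp.ZasS.half_of_simple_even D hn he
  have hs := (Agent.Grp.ZasS.swaps D hn hH).2
  obtain ⟨K, i1, i2, -, hcard, hiso⟩ :=
    D.iso_psl_of_half hn hH hhalf fun s ga gb => (hs s ga gb).2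
  refine ⟨K, i1, i2, ?_, hiso⟩
  obtain ⟨m, hm⟩ := he
  have : 0 < Nat.card D.H := Nat.card_pos
  omega

end Cfsg.Agent.S0344
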