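import Cfsg.Statements.S0340
import Cfsg.Agent.Lib.Grp.ZasSuzuki
import Cfsg.Agent.S0344
-- import your own Cfsg.Agent.* helpers here

set_option autoImplicit false
open Cfsg

namespace Cfsg.Agent.S0340

/-- Classification of Zassenhaus groups, simple case, order-level form: a finite simple Zassenhaus group is
isomorphic to `PSL₂(F)` for some finite field `F` or is simple of Suzuki order. -/
theorem result {G Ω : Type*} [Group G] [Finite G] [MulAction G Ω]
    [Finite Ω] (hZ : Cfsg.IsZassenhausGroup G Ω) [IsSimpleGroup G] :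
    (∃ (F : Type) (_ : Field F) (_ : Fintype F), Nonempty (G ≃* Matrix.ProjectiveSpecialLinearGroup (Fin 2) F)) ∨ Cfsg.IsSuzuki G := by
  classical
  obtain ⟨a, b, hab⟩ : ∃ a b : Ω, a ≠ b := by
    obtain ⟨g, -, a, b, hab, -, -⟩ := hZ.2.2.2.1
    exact ⟨a, b, hab⟩
  obtain ⟨D, rfl, rfl⟩ := Agent.Block.Zas.frame_of_zassenhaus hZ hab
  have hn := D.two_le_F hZ
  have hH := D.H_ne_bot hZ
  rcases Nat.even_or_odd (Nat.card D.H) with he | ho
  · obtain ⟨K, i1, i2, -, hiso⟩ := Cfsg.Agent.S0344.result hZ hab he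
    exact Or.inl ⟨K, i1, i2, hiso⟩
  obtain ⟨-, hs⟩ := Agent.Grp.ZasS.swaps D hn hH
  rcases Agent.Grp.ZasS.feit_inequality _ G Ω D rfl hZ ho with h | ⟨h2, ⟨u, hu, v, hv, huv⟩, -⟩
  · left
    obtain ⟨t, ht⟩ := D.card_H_dvd
    have hd0 : 0 < Nat.card D.H := Nat.card_pos
    have ht2 : t ≤ 2 := by
      by_contra hc
      have : Nat.card D.H * 3 ≤ Nat.card D.H * t := Nat.mul_le_mul_left _ (by omega)
      omega
    have hcase : 2 * Nat.card D.H = Nat.card D.F - 1 ∨ Nat.card D.H = Nat.card D.F - 1 := by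
      interval_cases t <;> omega
    rcases hcase with hh | hh
    · obtain ⟨K, i1, i2, -, -, hiso⟩ :=
        D.iso_psl_of_half hn hH hh fun s ga gb => (hs s ga gb).2
      exact ⟨K, i1, i2, hiso⟩
    · obtain ⟨s, hsa, hsb⟩ := D.two D.hab D.b_ne
      obtain ⟨hs2, hinv⟩ := hs s hsa hsb
      obtain ⟨K, i1, i2, hK, ⟨e⟩⟩ := D.iso_pgl_of_inverted hn hH hh hs2 hsa hsb hinv
      obtain ⟨m, hm⟩ := ho
      obtain ⟨e'⟩ := Agent.Grp.ZasS.pgl_psl_two (K := K) ⟨m + 1, by omega⟩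
      exact ⟨K, i1, i2, ⟨e.trans e'⟩⟩
  · exact Or.inr (Agent.Grp.ZasS.isSuzuki_of_nonabelian D hn hH h2
      ⟨⟨u, hu⟩, ⟨v, hv⟩, fun e => huv (congrArg Subtype.val e)⟩)

end Cfsg.Agent.S0340
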