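import Cfsg.Statements.S0214
import Mathlib
import Cfsg.Agent.Lib.Invol.SPEmbedded
import Cfsg.Agent.Lib.Invol.StronglyEmbedded
-- import your own Cfsg.Agent.* helpers here

set_option autoImplicit false
open Cfsg

namespace Cfsg.Agent.S0214

/-- Let H be a proper subgroup of the finite group G and P a nontrivial Sylow 2-subgroup of H. Then H is strongly embedded in G if and only if N_G(X) ≤ H for every nontrivial subgroup X of P. -/
theorem result {G : Type*} [Group G] [Finite G] (H : Subgroup G) (hH : H ≠ ⊤) (P : Sylow 2 ↥H) (hP : (P : Subgroup ↥H) ≠ ⊥) : Cfsg.IsStronglyEmbedded H ↔ (∀ X : Subgroup ↥H, X ≤ (P : Subgroup ↥H) → X ≠ ⊥ → Subgroup.normalizer ((X.map H.subtype : Subgroup G) : Set G) ≤ H) := by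
  set P' : Subgroup G := (P : Subgroup H).map H.subtype with hP'
  have hP'ne : P' ≠ ⊥ := fun h => hP ((Subgroup.map_eq_bot_iff_of_injective _ H.subtype_injective).mp h)
  obtain ⟨k, hk⟩ := P.isPGroup'.exists_card_eq
  have hk0 : k ≠ 0 := by
    rintro rfl
    exact hP (Subgroup.card_eq_one.mp (by simpa using hk))
  have heven : 2 ∣ Nat.card H :=
    (hk ▸ dvd_pow_self 2 hk0).trans (Subgroup.card_subgroup_dvd_card (P : Subgroup H))
  constructor
  · rintro ⟨-, -, hodd⟩ X hX hX1 g hg
    by_contra hgH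
    obtain ⟨j, hj⟩ := (P.isPGroup'.to_le hX).exists_card_eq
    have hj0 : j ≠ 0 := by
      rintro rfl
      exact hX1 (Subgroup.card_eq_one.mp (by simpa using hj))
    obtain ⟨w, hwX, hw⟩ := Invol.exists_orderOf_prime_mem (H := X) (hj ▸ dvd_pow_self 2 hj0)
    have hwm : (w : G) ∈ X.map H.subtype := ⟨w, hwX, rfl⟩
    have h2 : 2 ∣ Nat.card ↥(H ⊓ H.map (MulAut.conj g).toMonoidHom) := by
      refine Invol.dvd_card_of_mem (z := (w : G)) (by rw [Subgroup.orderOf_coe, hw])
        (Subgroup.mem_inf.mpr ⟨w.2, Invol.mem_map_conj.mpr ?_⟩)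
      exact Subgroup.map_subtype_le X ((Subgroup.mem_normalizer_iff''.mp hg _).mp hwm)
    exact (Nat.not_even_iff_odd.mpr (hodd g hgH)) (even_iff_two_dvd.mpr h2)
  · intro hN
    -- `P` is a Sylow subgroup of `G`
    have hP'p : IsPGroup 2 P' := P.isPGroup'.map _
    obtain ⟨Q, hQ⟩ := hP'p.exists_le_sylow
    have hQP : (Q : Subgroup G) = P' := by
      by_contra hne
      have := Q.isPGroup'.isNilpotent
      have hlt : P'.subgroupOf (Q : Subgroup G) < ⊤ := lt_top_iff_ne_top.mpr fun h =>
        hne (le_antisymm (Subgroup.subgroupOf_eq_top.mp h) hQ)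
      obtain ⟨n, hn, hnP⟩ := SetLike.exists_of_lt
        (Group.normalizerCondition_of_isNilpotent (G := (Q : Subgroup G)) _ hlt)
      have hnN : (n : G) ∈ Subgroup.normalizer (P' : Set G) := by
        rw [Subgroup.mem_normalizer_iff]
        intro x
        constructor
        · intro hx
          exact (Subgroup.mem_normalizer_iff.mp hn ⟨x, hQ hx⟩).mp hx
        · intro hx
          have hxQ : x ∈ (Q : Subgroup G) := by
            have := mul_mem (mul_mem (inv_mem n.2) (hQ hx)) n.2
            simpa [mul_assoc] using this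
          exact (Subgroup.mem_normalizer_iff.mp hn ⟨x, hxQ⟩).mpr hx
      have hnH : (n : G) ∈ H := hN P le_rfl hP hnN
      refine hnP ?_
      -- `P` together with `n` is a 2-subgroup of `H`
      set R := ((Q : Subgroup G).subgroupOf H) with hR
      have hPR : (P : Subgroup H) ≤ R := fun x hx => hQ ⟨x, hx, rfl⟩
      have hRP : R = P := P.is_maximal' Q.isPGroup'.comap_subtype hPR
      exact ⟨⟨n, hnH⟩, hRP ▸ (show (⟨(n : G), hnH⟩ : H) ∈ R from n.2), rfl⟩
    have hSPE : Cfsg.IsStronglyPEmbedded 2 H := by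
      refine ⟨heven.trans (Subgroup.card_subgroup_dvd_card H), hH, Q, Fus.kGeneratedCore_one_le fun X hX hX1 => ?_⟩
      rw [hQP] at hX
      have hXH : X ≤ H := hX.trans (Subgroup.map_subtype_le _)
      have := hN (X.subgroupOf H) (fun x hx => by
        obtain ⟨y, hy, hyx⟩ := hX hx
        have : y = x := Subtype.ext hyx
        exact this ▸ hy) (fun h => hX1 (by
        rw [← Subgroup.map_subgroupOf_eq_of_le hXH, h, Subgroup.map_bot]))
      rwa [Subgroup.map_subgroupOf_eq_of_le hXH] at this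
    obtain ⟨-, -, hcl⟩ := Invol.isStronglyPEmbedded_iff.mp hSPE
    exact ⟨hH, even_iff_two_dvd.mpr heven,
      fun g hg => Nat.not_even_iff_odd.mp fun he => hcl g hg (even_iff_two_dvd.mp he)⟩

end Cfsg.Agent.S0214
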