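import Cfsg.Statements.S0502
import Cfsg.Agent.Lib.Fus.ElemChain
-- import your own Cfsg.Agent.* helpers here

set_option autoImplicit false
open Cfsg

namespace Cfsg.Agent.S0502

/-- If a finite 2-group has a normal elementary abelian subgroup of order at least 8, then any two of its Klein
four-subgroups are joined by a chain of Klein four-subgroups with consecutive members commuting elementwise. -/
theorem result {P : Type*} [Group P] [Finite P] (hP : IsPGroup 2 P)
    (E : Subgroup P) [E.Normal] (hE : IsMulCommutative E) (hE2 : ∀ e ∈ E, e ^ 2 = 1) (hE8 : 8 ≤ Nat.card E) :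
    Cfsg.IsFourConnected P := by
  classical
  have hEA : IsElementaryAbelian 2 E := ⟨hE, hE2⟩
  have hEne : E ≠ ⊥ := fun h => by rw [h, Subgroup.card_bot] at hE8; omega
  obtain ⟨z, hzE, hz1, hz⟩ := Cfsg.Agent.Fus.exists_central_involution hP hEA hEne
  let R : Subgroup P → Subgroup P → Prop := fun A B =>
    IsKleinFour A ∧ IsKleinFour B ∧ ∀ a ∈ A, ∀ b ∈ B, a * b = b * a
  have hzo : Nat.card (Subgroup.zpowers z) = 2 := by
    rw [Nat.card_zpowers]; exact orderOf_eq_prime (hz 1).2 hz1
  have step : ∀ U : Subgroup P, IsKleinFour U →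
      ∃ W, W ≤ E ∧ IsKleinFour W ∧ Relation.ReflTransGen R U W := by
    intro U hU
    obtain ⟨hUe, hUc⟩ := Cfsg.Agent.Fus.isKleinFour_iff_elementary.1 hU
    obtain ⟨u, huU, huz⟩ := Cfsg.Agent.Fus.exists_mem_notMem (A := U)
      (W := Subgroup.zpowers z) (by omega)
    have hu2 := hUe.2 u huU
    have hN : u ∈ Subgroup.normalizer (E : Set P) := by
      rw [Subgroup.normalizer_eq_top]; trivial
    have hC := Cfsg.Agent.Fus.card_le_centralizer_sq hEA hu2 hN
    have hC4 : 4 ≤ Nat.card ↥(E ⊓ Subgroup.centralizer {u}) := by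
      obtain ⟨k, hk⟩ := (hP.to_subgroup (E ⊓ Subgroup.centralizer {u})).exists_card_eq
      rw [hk] at hC ⊢
      rcases k with _ | _ | k
      · omega
      · norm_num at hC; omega
      · exact le_trans (by norm_num) (Nat.pow_le_pow_right two_pos (show 2 ≤ k + 2 by omega))
    obtain ⟨W, hzW, hW, hWc⟩ := Cfsg.Agent.Fus.exists_le_card hP (m := 2)
      (V := Subgroup.zpowers z) (W := E ⊓ Subgroup.centralizer {u})
      (Subgroup.zpowers_le.2 ⟨hzE, Subgroup.mem_centralizer_singleton_iff.2 (hz u).1.symm⟩)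
      (by omega) hC4
    have hWE : W ≤ E := hW.trans inf_le_left
    have hWk : IsKleinFour W := Cfsg.Agent.Fus.isKleinFour_iff_elementary.2
      ⟨Cfsg.Agent.Fus.isElementaryAbelian_mono hEA hWE, hWc⟩
    have hD : IsElementaryAbelian 2 (Subgroup.zpowers u ⊔ Subgroup.zpowers z) := by
      refine Cfsg.Agent.Fus.isElementaryAbelian_sup
        (Cfsg.Agent.Fus.isElementaryAbelian_zpowers hu2)
        (Cfsg.Agent.Fus.isElementaryAbelian_zpowers (hz 1).2) ?_
      rintro _ ⟨i, rfl⟩ _ ⟨j, rfl⟩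
      exact (Commute.zpow_zpow (show Commute u z from (hz u).1) i j).eq
    have hD4 : 4 ≤ Nat.card ↥(Subgroup.zpowers u ⊔ Subgroup.zpowers z) := by
      obtain ⟨k, hk⟩ := (hP.to_subgroup (Subgroup.zpowers u ⊔ Subgroup.zpowers z)).exists_card_eq
      have hlt : Subgroup.zpowers z < Subgroup.zpowers u ⊔ Subgroup.zpowers z :=
        lt_of_le_of_ne le_sup_right fun h =>
          huz (h.ge (Subgroup.mem_sup_left (Subgroup.mem_zpowers u)))
      have h1 := Set.ncard_lt_ncard (SetLike.coe_ssubset_coe.2 hlt) (Set.toFinite _)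
      rw [← Nat.card_coe_set_eq, ← Nat.card_coe_set_eq, SetLike.coe_sort_coe,
        SetLike.coe_sort_coe, hzo, hk] at h1
      rcases k with _ | _ | k
      · simp at h1
      · simp at h1
      · rw [hk]
        exact le_trans (by norm_num) (Nat.pow_le_pow_right two_pos (show 2 ≤ k + 2 by omega))
    obtain ⟨D, -, hDle, hDc⟩ := Cfsg.Agent.Fus.exists_le_card hP (m := 2) (V := (⊥ : Subgroup P))
      bot_le (by simp) hD4
    have hDk : IsKleinFour D := Cfsg.Agent.Fus.isKleinFour_iff_elementary.2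
      ⟨Cfsg.Agent.Fus.isElementaryAbelian_mono hD hDle, hDc⟩
    have hcent : ∀ (Y : Subgroup P), (∀ y ∈ Y, y * u = u * y) →
        ∀ d ∈ D, ∀ y ∈ Y, d * y = y * d := by
      intro Y hY d hd y hy
      have hle : Subgroup.zpowers u ⊔ Subgroup.zpowers z ≤ Subgroup.centralizer {y} :=
        sup_le (Subgroup.zpowers_le.2 (Subgroup.mem_centralizer_singleton_iff.2 (hY y hy).symm))
          (Subgroup.zpowers_le.2 (Subgroup.mem_centralizer_singleton_iff.2 (hz y).1.symm))
      exact Subgroup.mem_centralizer_singleton_iff.1 (hle (hDle hd))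
    refine ⟨W, hWE, hWk, (Relation.ReflTransGen.single ⟨hU, hDk, fun a ha d hd => ?_⟩).tail
      ⟨hDk, hWk, ?_⟩⟩
    · exact hcent W fun y hy => Subgroup.mem_centralizer_singleton_iff.1 (hW hy).2
    · exact (hcent U (fun y hy => Cfsg.Agent.Fus.IsElementaryAbelian.commute hUe hy huU)
        d hd a ha).symm
  intro U V hU hV
  obtain ⟨W, hWE, hWk, hUW⟩ := step U hU
  obtain ⟨W', hW'E, hW'k, hVW⟩ := step V hV
  haveI : Std.Symm R := ⟨fun A B h => ⟨h.2.1, h.1, fun a ha b hb => (h.2.2 b hb a ha).symm⟩⟩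
  refine (hUW.tail ⟨hWk, hW'k, fun a ha b hb => ?_⟩).trans ?_
  · exact Cfsg.Agent.Fus.IsElementaryAbelian.commute hEA (hWE ha) (hW'E hb)
  · clear hUW hW'E hW'k
    induction hVW with
    | refl => exact Relation.ReflTransGen.refl
    | tail _ hbc ih =>
      exact (Relation.ReflTransGen.single
        ⟨hbc.2.1, hbc.1, fun a ha b hb => (hbc.2.2 b hb a ha).symm⟩).trans ih

end Cfsg.Agent.S0502
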