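import Cfsg.Statements.S0029
import Cfsg.Agent.Lib.Grp.Coprime
-- import your own Cfsg.Agent.* helpers here

set_option autoImplicit false
open Cfsg

namespace Cfsg.Agent.S0029

open scoped Pointwise

/-- An action that is trivial on the Frattini quotient and coprime on the Frattini subgroup is trivial: if A normalises K, the orders of A and of the Frattini subgroup of K are coprime, and every commutator of an element of A with an element of K lies in the Frattini subgroup of K, then A centralises K. -/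
theorem result {G : Type*} [Group G] [Finite G] (A K : Subgroup G)
    (hAK : A ≤ Subgroup.normalizer (K : Set G))
    (hcop : (Nat.card A).Coprime (Nat.card (frattini K)))
    (htriv : ∀ a ∈ A, ∀ k ∈ K, a * k * a⁻¹ * k⁻¹ ∈ (frattini K).map K.subtype) :
    A ≤ Subgroup.centralizer (K : Set G) := by
  intro a ha
  set N := (frattini K).map K.subtype with hN
  have hNK : N ≤ K := Subgroup.map_subtype_le _
  have hKN : K ≤ Subgroup.normalizer (N : Set G) := fun k hk => by
    rw [Cfsg.Agent.Grp.mem_normalizer_iff_smul, hN,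
      show MulAut.conj k = MulAut.conj (K.subtype ⟨k, hk⟩) from rfl, Cfsg.Agent.Grp.conj_smul_map]
    congr 1
    exact Cfsg.Agent.Grp.mem_normalizer_iff_smul.mp (by rw [Subgroup.normalizer_eq_top]; trivial)
  have hinfN : Nat.card N = Nat.card (frattini K) :=
    Subgroup.card_map_of_injective (Subgroup.subtype_injective K)
  have hns : Group.IsSolvable N := by
    have : Group.IsNilpotent (frattini K) := frattini_nilpotent
    exact Cfsg.Agent.Grp.isSolvable_map inferInstance _
  set Z := Subgroup.zpowers a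
  have hZA : Z ≤ A := Subgroup.zpowers_le.mpr ha
  have hAN : Z ≤ Subgroup.normalizer (N : Set G) := by
    refine Subgroup.zpowers_le.mpr (Cfsg.Agent.Grp.mem_normalizer_iff_smul.mpr
      (Subgroup.eq_of_le_of_card_ge (fun x hx => ?_) (Cfsg.Agent.Grp.card_conj_smul a N).ge))
    rw [Cfsg.Agent.Grp.mem_smul_conj] at hx
    have := Subgroup.mul_mem _ (htriv a ha _ (hNK hx)) hx
    simpa [mul_assoc] using this
  have key : ∀ k ∈ K, ∃ c ∈ K ⊓ Subgroup.centralizer (Z : Set G), k⁻¹ * c ∈ N := by
    intro k hk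
    have hle : MulAut.conj k⁻¹ • Z ≤ N ⊔ Z := by
      intro b hb
      rw [Cfsg.Agent.Grp.mem_smul_conj, inv_inv] at hb
      obtain ⟨x, hx, rfl⟩ : ∃ x ∈ Z, k⁻¹ * x * k = b := ⟨_, hb, by group⟩
      have h1 := Cfsg.Agent.Grp.mem_conj_normalizer' (hKN hk) (htriv x (hZA hx) k hk)
      convert Subgroup.mul_mem_sup (S := N) (T := Z) h1 hx using 1
      group
    obtain ⟨n, hn, hn'⟩ := Cfsg.Agent.Grp.exists_conj_of_le_sup hAN hle
      (Cfsg.Agent.Grp.card_conj_smul _ _)
      (by rw [hinfN]; exact hcop.symm.coprime_dvd_right (Subgroup.card_dvd_of_le hZA)) (Or.inl hns)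
    refine ⟨k * n, ⟨K.mul_mem hk (hNK hn), Subgroup.mem_centralizer_iff.mpr fun x hx => ?_⟩, by simpa using hn⟩
    have hc : MulAut.conj (k * n) • Z = Z := by
      rw [← Cfsg.Agent.Grp.conj_smul_conj_smul, hn', Cfsg.Agent.Grp.conj_smul_conj_smul,
        mul_inv_cancel, map_one, one_smul]
    have h1 : (k * n) * x * (k * n)⁻¹ * x⁻¹ ∈ N ⊓ Z := by
      refine ⟨?_, Z.mul_mem ?_ (Z.inv_mem hx)⟩
      · have := N.inv_mem (htriv x (hZA hx) (k * n) (K.mul_mem hk (hNK hn)))
        simpa [mul_assoc] using this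
      · rw [← hc, Cfsg.Agent.Grp.mem_smul_conj]; simpa [mul_assoc] using hx
    rw [Cfsg.Agent.Grp.inf_eq_bot_of_coprime (show (Nat.card N).Coprime (Nat.card Z) by
      rw [hinfN]; exact hcop.symm.coprime_dvd_right (Subgroup.card_dvd_of_le hZA)),
      Subgroup.mem_bot, mul_inv_eq_one, mul_inv_eq_iff_eq_mul] at h1
    exact h1.symm
  have htop : (K ⊓ Subgroup.centralizer (Z : Set G)).subgroupOf K ⊔ frattini K = ⊤ := by
    rw [eq_top_iff]
    intro k _
    obtain ⟨c, hc, hm⟩ := key k k.2
    obtain ⟨f, hf, hfe⟩ := hm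
    have : (k : K) = (⟨c, hc.1⟩ : K) * f⁻¹ := by
      refine Subtype.ext ?_
      simp only [Subgroup.coe_subtype] at hfe
      simp [hfe]
    rw [this]
    exact Subgroup.mul_mem_sup (show (⟨c, hc.1⟩ : K) ∈ (K ⊓ Subgroup.centralizer (Z : Set G)).subgroupOf K from hc) (inv_mem hf)
  have := Subgroup.subgroupOf_eq_top.mp (frattini_nongenerating htop)
  rw [Subgroup.mem_centralizer_iff]
  intro k hk
  exact ((Subgroup.mem_centralizer_iff.mp (this hk).2) a (Subgroup.mem_zpowers a)).symm

end Cfsg.Agent.S0029
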