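import Cfsg.Statements.S0629
import Cfsg.Agent.Lib.Grp.PSolvable
import Cfsg.Agent.Lib.Grp.Cores
import Cfsg.Agent.Lib.Grp.Frattini
import Cfsg.Agent.Lib.Recog.LocalConstrained
import Mathlib

set_option maxHeartbeats 1000000
set_option maxRecDepth 8000

set_option autoImplicit false
open Cfsg

namespace Cfsg.Agent.S0629

/-- A group in which the centralizer of a Sylow p-subgroup of O_{p',p}(G) is p-solvable is p-constrained. -/
theorem result {G : Type*} [Group G] [Finite G] {p : ℕ} [Fact p.Prime] (P : Sylow p ↥(Cfsg.pPrimePCore p G)) (hsol : Cfsg.IsPSolvable p ↥(Subgroup.centralizer (((P : Subgroup ↥(Cfsg.pPrimePCore p G)).map (Cfsg.pPrimePCore p G).subtype : Subgroup G) : Set G))) : Cfsg.IsPConstrained p G := by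
  set K := Cfsg.pPrimeCore p G with hK
  haveI : (Cfsg.pPrimeCore p G).Normal := Cfsg.Agent.Grp.pPrimeCore_isNormal
  set f := QuotientGroup.mk' (Cfsg.pPrimeCore p G) with hf
  have hfs : Function.Surjective f := QuotientGroup.mk'_surjective _
  set Q := Cfsg.pCore p (G ⧸ Cfsg.pPrimeCore p G) with hQ
  haveI hQn : Q.Normal := Cfsg.Agent.Grp.pCore_isNormal
  have hQp : IsPGroup p ↥Q := Cfsg.Agent.Grp.pCore_isPGroup
  set P₀ := (P : Subgroup ↥(Cfsg.pPrimePCore p G)).map (Cfsg.pPrimePCore p G).subtype with hP₀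
  have hP₀p : IsPGroup p ↥P₀ := P.isPGroup'.map _
  -- the image of `P` is `O_p(G/K)`
  have himg : P₀.map f = Q := by
    set g : ↥(Cfsg.pPrimePCore p G) →* ↥Q := f.subgroupComap Q with hg
    have hgs : Function.Surjective g := fun ⟨w, hw⟩ => by
      obtain ⟨x, rfl⟩ := hfs w
      exact ⟨⟨x, hw⟩, rfl⟩
    have htop : ((P.mapSurjective hgs : Sylow p ↥Q) : Subgroup ↥Q) = ⊤ :=
      ((P.mapSurjective hgs).3 (hQp.to_subgroup ⊤) le_top).symm
    refine le_antisymm ?_ fun w hw => ?_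
    · rintro _ ⟨_, ⟨y, -, rfl⟩, rfl⟩
      exact y.2
    · have h1 : (⟨w, hw⟩ : ↥Q) ∈ ((P : Subgroup ↥(Cfsg.pPrimePCore p G)).map g) := by
        rw [← Sylow.coe_mapSurjective hgs, htop]; trivial
      obtain ⟨y, hy, e⟩ := h1
      exact ⟨y, ⟨y, hy, rfl⟩, congrArg Subtype.val e⟩
  have hCeq : (Subgroup.centralizer (P₀ : Set G)).map f = Subgroup.centralizer (Q : Set (G ⧸ Cfsg.pPrimeCore p G)) := by
    rw [← himg]; exact Cfsg.Agent.Grp.map_centralizer_pGroup hP₀p
  set C := Subgroup.centralizer (Q : Set (G ⧸ Cfsg.pPrimeCore p G)) with hC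
  haveI hCn : C.Normal := Subgroup.normal_centralizer
  have hCsol : Cfsg.IsPSolvable p ↥C := by
    rw [← hCeq]
    exact Cfsg.Agent.Grp.isPSolvable_map hsol (f.subgroupMap (Subgroup.centralizer (P₀ : Set G)))
      (f.subgroupMap_surjective (Subgroup.centralizer (P₀ : Set G)))
  have hO : Cfsg.pPrimeCore p ↥C = ⊥ := by
    have h1 := Cfsg.Agent.Grp.pPrimeCore_map_eq (p := p) C
    rw [Cfsg.Agent.Grp.pPrimeCore_quotient_eq_bot, bot_inf_eq] at h1
    exact (Subgroup.map_eq_bot_iff_of_injective _ C.subtype_injective).mp h1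
  have hCQ : C ≤ Q := fun c hc => by
    have h1 : (⟨c, hc⟩ : C) ∈ Subgroup.centralizer (Cfsg.pCore p ↥C : Set ↥C) :=
      Subgroup.mem_centralizer_iff.2 fun d hd => Subtype.ext
        (Subgroup.mem_centralizer_iff.1 hc d (Cfsg.Agent.Grp.pCore_map_le C ⟨d, hd, rfl⟩))
    exact Cfsg.Agent.Grp.pCore_map_le C ⟨_, Cfsg.Agent.Grp.centralizer_pCore_le_of_pSolvable hCsol hO h1, rfl⟩
  refine Cfsg.Agent.Recog.LocalConstrained.isPConstrained_of_surjective f hfs ?_ hCQ
  rw [hf, QuotientGroup.ker_mk']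
  exact Cfsg.Agent.Grp.pPrimeCore_coprime

end Cfsg.Agent.S0629
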