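import Cfsg.Statements.S1480
import Cfsg.Agent.Lib.Transfer.Transitivity

set_option maxHeartbeats 1000000
set_option maxRecDepth 8000

set_option autoImplicit false
open Cfsg
open scoped commutatorElement Pointwise

namespace Cfsg.Agent.S1480

/-- Let G be a finite group and p a prime such that the normalizer of every nontrivial p-subgroup of G is p-constrained; if p = 2 assume also that the Sylow 2-subgroups of G have nilpotency class at most 2. Let E be an abelian p-subgroup containing an elementary abelian subgroup of order p ^ 3 and containing every element of p-power order of C_G(E). Then for every prime q ≠ p, any two maximal E-invariant q-subgroups of G are conjugate by an element of O_{p'}(C_G(E)). -/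
theorem result {G : Type*} [Group G] [Finite G] (p : ℕ) [Fact p.Prime]
    (hloc : ∀ T : Subgroup G, IsPGroup p T → T ≠ ⊥ → Cfsg.IsPConstrained p ↥(Subgroup.normalizer (T : Set G)))
    (h2 : p = 2 → ∀ S : Sylow p G, Group.IsNilpotent (S : Subgroup G) ∧ Group.nilpotencyClass (S : Subgroup G) ≤ 2)
    (E : Subgroup G) (hEp : IsPGroup p E) (hEc : IsMulCommutative E) (hE3 : ¬ Cfsg.PRankLE p 2 E)
    (hEfull : ∀ x ∈ Subgroup.centralizer (E : Set G), IsPGroup p (Subgroup.zpowers x) → x ∈ E)
    (q : ℕ) [Fact q.Prime] (hqp : q ≠ p) :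
    ∀ Q₁ ∈ Cfsg.maxInvSubgroups ⊤ E {q}, ∀ Q₂ ∈ Cfsg.maxInvSubgroups ⊤ E {q},
        ∃ k ∈ Cfsg.piCoreOf (Cfsg.primesNotDvd p) (Subgroup.centralizer (E : Set G)), Q₂ = Q₁.map (MulAut.conj k).toMonoidHom := by
  intro Q₁ hQ₁ Q₂ hQ₂
  obtain ⟨B, hBc, hBe, hB⟩ : ∃ B : Subgroup E, IsMulCommutative B ∧ (∀ a ∈ B, a ^ p = 1) ∧
      ¬ Nat.card B ≤ p ^ 2 := by
    by_contra hno
    exact hE3 fun B h1 h2' => by
      by_contra h3
      exact hno ⟨B, h1, h2', h3⟩
  haveI := hEc
  have hA : Cfsg.IsElementaryAbelian p (B.map E.subtype) := by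
    refine ⟨inferInstance, ?_⟩
    rintro _ ⟨b, hb, rfl⟩
    rw [← map_pow, hBe b hb, map_one]
  have hA3 : p ^ 3 ≤ Nat.card (B.map E.subtype) := by
    rw [Subgroup.card_map_of_injective E.subtype_injective]
    obtain ⟨k, hk⟩ := IsPGroup.iff_card.mp ((hEp).to_subgroup B)
    rw [hk] at hB ⊢
    refine Nat.pow_le_pow_right (Fact.out : p.Prime).pos ?_
    by_contra hlt
    exact hB (Nat.pow_le_pow_right (Fact.out : p.Prime).pos (by omega))
  have hS : Transfer.Transitivity.Setup p E :=
    { loc := hloc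
      cls := by
        intro hp2 P hP a ha b hb c hc
        obtain ⟨S, hS⟩ := hP.exists_le_sylow
        obtain ⟨hnil, hcl⟩ := h2 hp2 S
        have hbot : (⊤ : Subgroup (S : Subgroup G)).lowerCentralSeries 2 = ⊥ :=
          Subgroup.lowerCentralSeries_eq_bot_iff_nilpotencyClass_le.mpr hcl
        let a' : ↥(S : Subgroup G) := ⟨a, hS ha⟩
        let b' : ↥(S : Subgroup G) := ⟨b, hS hb⟩
        let c' : ↥(S : Subgroup G) := ⟨c, hS hc⟩
        have hmem : ⁅⁅a', b'⁆, c'⁆ ∈ (⊤ : Subgroup (S : Subgroup G)).lowerCentralSeries 2 :=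
          Subgroup.commutator_mem_commutator
            (Subgroup.commutator_mem_commutator (Subgroup.mem_top a') (Subgroup.mem_top b'))
            (Subgroup.mem_top c')
        rw [hbot, Subgroup.mem_bot, commutatorElement_eq_one_iff_mul_comm] at hmem
        exact congrArg Subtype.val hmem
      pgroup := hEp
      comm := fun a ha b hb => setLike_mul_comm ha hb
      full := hEfull }
  obtain ⟨c, hc, he⟩ := Transfer.Transitivity.transitivity hS (Subgroup.map_subtype_le B) hA hA3
    hqp hQ₁ hQ₂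
  exact ⟨c, hc, by rw [← he, ← Grp.map_conj_eq_smul]⟩

end Cfsg.Agent.S1480
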