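import Cfsg.Statements.S1951
import Cfsg.Agent.Lib.Invol.RegularProducts
import Cfsg.Agent.Lib.Char.Constituent
import Cfsg.Agent.Lib.Char.Kernel
import Cfsg.Agent.Lib.Char.ModP

set_option autoImplicit false
open Cfsg
open Cfsg.Agent.Block Cfsg.Agent.Block.PrinCol Cfsg.Agent.Char
open scoped ComplexConjugate

namespace Cfsg.Agent.S1951

/-- Let p be a prime and P a nontrivial elementary abelian Sylow p-subgroup of a finite nonabelian simple group G whose nonidentity elements are all conjugate in G. Suppose that two elements of P are conjugate in G only if they are conjugate in N_G(P), that the centralizer of every element of order p of P has a normal p-complement, and that every two elements of order p of G generate a p-solvable subgroup. Then p = 2. -/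
theorem result {G : Type*} [Group G] [Finite G] [IsSimpleGroup G] (hG : ¬ IsMulCommutative G) {p : ℕ} [Fact p.Prime] (P : Sylow p G)
    (hP1 : (P : Subgroup G) ≠ ⊥) (hPe : Cfsg.IsElementaryAbelian p (P : Subgroup G))
    (hconj : ∀ x ∈ (P : Subgroup G), ∀ y ∈ (P : Subgroup G), x ≠ 1 → y ≠ 1 → ∃ g : G, g * x * g⁻¹ = y)
    (ha : ∀ x ∈ (P : Subgroup G), ∀ y ∈ (P : Subgroup G), (∃ g : G, g * x * g⁻¹ = y) →
      ∃ n ∈ Subgroup.normalizer ((P : Subgroup G) : Set G), n * x * n⁻¹ = y)
    (hb : ∀ x ∈ (P : Subgroup G), orderOf x = p → Cfsg.HasNormalPComplement p ↥(Subgroup.centralizer ({x} : Set G)))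
    (hc : ∀ x y : G, orderOf x = p → orderOf y = p → Cfsg.IsPSolvable p ↥(Subgroup.closure ({x, y} : Set G))) :
    p = 2 := by
  classical
  cases nonempty_fintype G
  by_contra hp
  have hpp : p.Prime := Fact.out
  obtain ⟨M, hM⟩ := Cfsg.Agent.Char.exists_isPModular p hpp
  obtain ⟨x, hxP, hx1⟩ := ((P : Subgroup G).bot_or_exists_ne_one).resolve_left hP1
  have hxo : orderOf x = p :=
    (hpp.eq_one_or_self_of_dvd _ (orderOf_dvd_of_pow_eq_one (hPe.2 x hxP))).resolve_left
      fun h => hx1 (orderOf_eq_one_iff.1 h)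
  have hxp : ∃ k : ℕ, orderOf x = p ^ k := ⟨1, by rw [hxo, pow_one]⟩
  have hone : ∀ u : G, (∃ k : ℕ, orderOf u = p ^ k) → u ≠ 1 → IsConj x u := by
    rintro u ⟨k, hk⟩ hu
    have hu' : IsPGroup p (Subgroup.zpowers u) := IsPGroup.of_card (n := k) (by rw [Nat.card_zpowers, hk])
    obtain ⟨Q, hQ⟩ := hu'.exists_le_sylow
    obtain ⟨t, ht⟩ := MulAction.exists_smul_eq G P Q
    have huQ : u ∈ (Q : Subgroup G) := hQ (Subgroup.mem_zpowers u)
    rw [← ht, Sylow.smul_def, Sylow.pointwise_smul_def] at huQ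
    obtain ⟨w, hw, rfl⟩ := (Subgroup.mem_map (f := (MulAut.conj t).toMonoidHom)).1 huQ
    have hw1 : w ≠ 1 := fun h => hu (by simp [h])
    obtain ⟨g, hg⟩ := hconj x hxP w hw hx1 hw1
    exact isConj_iff.2 ⟨t * g, by rw [← hg]; simp [mul_assoc]⟩
  set C := Subgroup.centralizer ({x} : Set G) with hCdef
  obtain ⟨P', N, hNn, hcompl⟩ := hb x hxP hxo
  set q := Nat.card (P : Subgroup G) with hqdef
  obtain ⟨k, hk⟩ := IsPGroup.iff_card.1 P.2
  have hk0 : k ≠ 0 := by
    rintro rfl
    rw [pow_zero, Subgroup.card_eq_one] at hk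
    exact hP1 hk
  have hq3 : 3 ≤ q := by
    rw [hqdef, hk]
    have h3 : 3 ≤ p := by have := hpp.two_le; omega
    exact h3.trans (Nat.le_self_pow hk0 p)
  have hPC : (P : Subgroup G) ≤ C := fun w hw => by
    haveI := hPe.1
    exact Subgroup.mem_centralizer_singleton_iff.2
      (congrArg Subtype.val (hPe.1.is_comm.comm (⟨w, hw⟩ : (P : Subgroup G)) ⟨x, hxP⟩))
  have hP'q : Nat.card (P' : Subgroup C) = q := by
    refine le_antisymm ?_ ?_
    · rw [hqdef, P'.card_eq_multiplicity, P.card_eq_multiplicity]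
      exact Nat.pow_le_pow_right hpp.pos
        ((Nat.factorization_le_iff_dvd Nat.card_pos.ne' Nat.card_pos.ne').2 (Subgroup.card_subgroup_dvd_card C) p)
    · obtain ⟨Q, hQ⟩ := (P.2.comap_subtype (K := C)).exists_le_sylow
      rw [hqdef, P'.card_eq_multiplicity, ← Q.card_eq_multiplicity,
        ← Nat.card_congr (Subgroup.subgroupOfEquivOfLe hPC).toEquiv]
      exact Subgroup.card_le_of_le hQ
  have hNidx : N.index = p ^ k := by rw [hcompl.symm.index_eq_card, hP'q, hqdef, hk]
  have hNp : ¬ p ∣ Nat.card N := by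
    rw [← hcompl.index_eq_card]
    exact P'.not_dvd_index
  haveI := hNn
  have hK : ∀ y : C, ¬ p ∣ orderOf y ↔ y ∈ N := fun y =>
    ⟨fun h => regular_mem_of_index_pPow hNidx h, fun h hd => hNp (hd.trans (by
      rw [← Subgroup.orderOf_mk y h]; exact orderOf_dvd_natCard _))⟩
  have hCcard : Nat.card C = q * Nat.card N := by
    rw [← Subgroup.card_mul_index N, hNidx, hqdef, hk, mul_comm]
  -- the values at `x`
  have hint : ∀ χ : IrrCharacter G, ∃ v : ℤ, (χ : G → ℂ) x = v := fun χ =>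
    IsChar.exists_int_of_fixed (IsIrr.isCharacter χ.2) x fun i hi => by
      refine (IsClass.eq_of_isConj (irr_classFun χ) (hone (x ^ i) ?_ ?_)).symm
      · obtain ⟨j, -, hj⟩ := (Nat.dvd_prime_pow hpp).1 (show orderOf (x ^ i) ∣ p ^ 1 by
          rw [pow_one, ← hxo]; exact orderOf_pow_dvd i)
        exact ⟨j, hj⟩
      · intro h
        have := orderOf_dvd_of_pow_eq_one h
        rw [hxo] at this hi
        exact hpp.coprime_iff_not_dvd.1 hi.symm this
  choose v hv using hint
  let d : IrrCharacter G → ℤ := fun χ => (charDegree (χ : G → ℂ) : ℤ)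
  have hd : ∀ χ : IrrCharacter G, (χ : G → ℂ) 1 = (d χ : ℂ) := fun χ => by
    simp [d, charDeg_spec']
  have hsing : ∀ χ : IrrCharacter G, χ ∈ principalBlock M G →
      (q : ℂ) * ∑ g ∈ Finset.univ.filter (fun g : G => p ∣ orderOf g), (χ : G → ℂ) g =
        (Nat.card G : ℂ) * (χ : G → ℂ) x := by
    intro χ hχ
    have h := Invol.RegProd.sum_singular hxp hx1 hone (irr_classFun χ) hK
      fun y hy => Invol.RegProd.value_eq_of_complement hM hxp hNn hNp hy hχ
    rw [show Nat.card (Subgroup.centralizer ({x} : Set G)) = q * Nat.card N from hCcard, Nat.cast_mul] at h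
    have hN0 : (Nat.card N : ℂ) ≠ 0 := Nat.cast_ne_zero.2 Nat.card_pos.ne'
    exact mul_left_cancel₀ hN0 (by linear_combination h)
  have hreg : ∀ χ : IrrCharacter G, χ ∈ principalBlock M G →
      (q : ℂ) * regTot p (χ : G → ℂ) = (Nat.card G : ℂ) *
        ((if χ = trivialIrr G then (q : ℂ) else 0) - (v χ : ℂ)) := by
    intro χ hχ
    have hall : ∑ g : G, (χ : G → ℂ) g = if χ = trivialIrr G then (Nat.card G : ℂ) else 0 := by
      have h := classInner_irr_eq_ite χ.2 (isIrr_one (G := G))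
      rw [classInner] at h
      simp only [map_one, mul_one] at h
      have hG : (Nat.card G : ℂ) ≠ 0 := Nat.cast_ne_zero.2 Nat.card_pos.ne'
      rw [inv_mul_eq_iff_eq_mul₀ hG] at h
      rw [h]
      by_cases h' : χ = trivialIrr G
      · rw [if_pos h', if_pos (show (χ : G → ℂ) = fun _ => 1 from congrArg Subtype.val h'), mul_one]
      · rw [if_neg h', if_neg (fun e => h' (Subtype.ext e) : ¬ (χ : G → ℂ) = fun _ => 1), mul_zero]
    have hsplit := Finset.sum_filter_add_sum_filter_not Finset.univ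
      (fun g : G => p ∣ orderOf g) (fun g => (χ : G → ℂ) g)
    rw [hall] at hsplit
    have hs := hsing χ hχ
    rw [hv] at hs
    rw [regTot]
    split_ifs at hsplit ⊢ <;> linear_combination (q : ℂ) * hsplit - hs
  set B := Finset.univ.filter (fun χ : IrrCharacter G => χ ∈ principalBlock M G) with hB
  have htB : trivialIrr G ∈ B := by rw [hB, Finset.mem_filter]; exact ⟨Finset.mem_univ _, trivial_mem_principalBlock hM⟩
  have hvt : v (trivialIrr G) = 1 := by
    have := hv (trivialIrr G)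
    simp only [trivialIrr] at this
    exact_mod_cast this.symm
  have hdt : d (trivialIrr G) = 1 := by
    have := hd (trivialIrr G)
    simp only [trivialIrr] at this
    exact_mod_cast this.symm
  set B' := B.erase (trivialIrr G) with hB'
  have hcol : ∑ χ ∈ B', v χ ^ 2 = (q : ℤ) - 1 := by
    have h := Invol.RegProd.column_eq (q := q) hM hxp hNn hNp hNidx (by rw [hqdef, hk])
    rw [finsum_mem_block, ← hB, ← Finset.add_sum_erase B _ htB, ← hB'] at h
    simp only [hv, hvt, map_intCast, Int.cast_one, mul_one] at h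
    have h2 : ((1 + ∑ χ ∈ B', v χ ^ 2 : ℤ) : ℂ) = ((q : ℤ) : ℂ) := by
      push_cast
      rw [← h]
      simp only [map_one, one_mul, mul_one, sq]
    have h3 : (1 + ∑ χ ∈ B', v χ ^ 2 : ℤ) = q := by exact_mod_cast h2
    linarith
  have horth : ∑ χ ∈ B', d χ * v χ = -1 := by
    have h := weak_orth hM (isPBlock_principalBlock (G := G)) (x := (1 : G)) (y := x)
      (by simp [hpp.one_lt.ne']) (by rw [hxo])
    rw [finsum_mem_block, ← hB, ← Finset.add_sum_erase B _ htB, ← hB'] at h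
    simp only [hv, hd, hvt, hdt, map_intCast] at h
    have h3 : (1 * 1 + ∑ χ ∈ B', d χ * v χ : ℤ) = 0 := by exact_mod_cast h
    linarith
  have hdpos : ∀ χ, 0 < d χ := fun χ => by
    simp only [d, Int.natCast_pos]; exact charDeg_pos χ
  have hbound : ∀ χ ∈ B', 0 < v χ → v χ + q ≤ d χ := by
    intro χ hχ hvpos
    have hne : χ ≠ trivialIrr G := (Finset.mem_erase.1 hχ).1
    obtain ⟨m, hm⟩ := IsChar.classInner_nat (IsChar.res (IsIrr.isCharacter χ.2) (P : Subgroup G))
      (IsChar.one (G := (P : Subgroup G)))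
    rw [classInner] at hm
    simp only [map_one, mul_one] at hm
    have hq0 : (Nat.card (P : Subgroup G) : ℂ) ≠ 0 := Nat.cast_ne_zero.2 Nat.card_pos.ne'
    rw [inv_mul_eq_iff_eq_mul₀ hq0] at hm
    rw [← Finset.add_sum_erase _ _ (Finset.mem_univ (1 : (P : Subgroup G))),
      Finset.sum_congr rfl (g := fun _ => (v χ : ℂ)) (fun u hu => ?_),
      Finset.sum_const, Finset.card_erase_of_mem (Finset.mem_univ _), Finset.card_univ,
      ← Nat.card_eq_fintype_card, nsmul_eq_mul, Nat.cast_sub Nat.card_pos, OneMemClass.coe_one, hd,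
      Nat.cast_one, ← hqdef] at hm
    · have h3 : d χ + ((q : ℤ) - 1) * v χ = (q : ℤ) * (m : ℤ) := by exact_mod_cast hm
      have hle : v χ ≤ d χ := by
        have h := IsChar.norm_le (IsIrr.isCharacter χ.2) x
        rw [hv, hd, Complex.norm_intCast, Complex.norm_intCast] at h
        have h' : |v χ| ≤ |d χ| := by exact_mod_cast h
        exact (le_abs_self _).trans (h'.trans_eq (abs_of_pos (hdpos χ)))
      have hne' : v χ ≠ d χ := fun he => by
        have hker : x ∈ charKer (IsIrr.isCharacter χ.2) := by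
          rw [mem_charKer, hv, hd, he]
        rcases (charKer_normal (IsIrr.isCharacter χ.2)).eq_bot_or_eq_top with h | h
        · rw [h, Subgroup.mem_bot] at hker; exact hx1 hker
        · have hconst : ∀ g : G, (χ : G → ℂ) g = (χ : G → ℂ) 1 := fun g =>
            (mem_charKer _).1 (h ▸ Subgroup.mem_top g)
          refine hne (Subtype.ext (eq_of_constituent_irr χ.2 isIrr_one ?_))
          rw [classInner, Finset.sum_congr rfl (g := fun _ => (χ : G → ℂ) 1) fun g _ => by
            simp only [trivialIrr, map_one, mul_one, hconst g]]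
          simp [Nat.card_pos.ne', Fintype.card_ne_zero, IsIrr.one_ne_zero χ.2]
      have h4 : d χ - v χ = (q : ℤ) * ((m : ℤ) - v χ) := by linear_combination h3
      have h5 : 0 < (q : ℤ) * ((m : ℤ) - v χ) := by rw [← h4]; omega
      have h6 : 0 < (m : ℤ) - v χ := (pos_iff_pos_of_mul_pos h5).1 (by exact_mod_cast Nat.card_pos)
      nlinarith
    · have hu1 : (u : G) ≠ 1 := fun h => (Finset.mem_erase.1 hu).1 (Subtype.ext h)
      obtain ⟨g, hg⟩ := hconj x hxP u u.2 hx1 hu1
      rw [← hv χ]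
      exact (IsClass.eq_of_isConj (irr_classFun χ) (isConj_iff.2 ⟨g, hg⟩)).symm
  -- at most half of the products are regular
  obtain ⟨t, ht⟩ := isConj_iff.1 (hone x⁻¹ ⟨1, by rw [orderOf_inv, hxo, pow_one]⟩ (inv_ne_one.2 hx1))
  have hvinv : ∀ χ : IrrCharacter G, (χ : G → ℂ) x⁻¹ = (χ : G → ℂ) x := fun χ =>
    (IsClass.eq_of_isConj (irr_classFun χ) (isConj_iff.2 ⟨t, ht⟩)).symm
  have hn2 : 2 * (Finset.univ.filter (fun g : G => ¬ p ∣ orderOf (x * (g * x * g⁻¹)))).card ≤
      Nat.card G := by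
    have heq : (Finset.univ.filter (fun g : G => ¬ p ∣ orderOf (x * (g * x * g⁻¹)))).card =
        (Finset.univ.filter (fun g : G => ¬ p ∣ orderOf (x * (g * x⁻¹ * g⁻¹)))).card := by
      have h1 := Invol.RegProd.count_regular hM x x
      have h2 := Invol.RegProd.count_regular hM x x⁻¹
      simp only [hvinv] at h2
      exact_mod_cast h1.trans h2.symm
    rw [two_mul, Nat.card_eq_fintype_card]
    nth_rewrite 2 [heq]
    rw [← Finset.card_union_of_disjoint]
    · exact Finset.card_le_univ _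
    rw [Finset.disjoint_filter]
    intro g _ h1 h2
    set z := g * x * g⁻¹ with hz
    set H := Subgroup.closure ({x, z} : Set G) with hH
    have hxH : x ∈ H := Subgroup.subset_closure (by simp)
    have hzH : z ∈ H := Subgroup.subset_closure (by simp)
    have hzo : orderOf z = p := by rw [hz, ← MulAut.conj_apply, MulEquiv.orderOf_eq, hxo]
    refine Invol.RegProd.not_both_regular (H := H) hp (hc x z hxo hzo) (fun R => ?_)
      (x := ⟨x, hxH⟩) (z := ⟨z, hzH⟩) (by simpa using hxo) (by simpa using hzo) ?_ ?_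
    · obtain ⟨Q, hQ⟩ := (R.2.map H.subtype).exists_le_sylow
      obtain ⟨s, hs⟩ := MulAction.exists_smul_eq G P Q
      refine ⟨⟨fun a b => ?_⟩⟩
      have hmem : ∀ w : (R : Subgroup H), ∃ c : (P : Subgroup G), s * (c : G) * s⁻¹ = ((w : H) : G) := by
        intro w
        have hw : ((w : H) : G) ∈ (Q : Subgroup G) := hQ (Subgroup.mem_map_of_mem _ w.2)
        rw [← hs, Sylow.smul_def, Sylow.pointwise_smul_def] at hw
        obtain ⟨c, hc', hce⟩ := (Subgroup.mem_map (f := (MulAut.conj s).toMonoidHom)).1 hw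
        exact ⟨⟨c, hc'⟩, by simpa using hce⟩
      obtain ⟨ca, hca⟩ := hmem a
      obtain ⟨cb, hcb⟩ := hmem b
      have hcomm := congrArg Subtype.val (hPe.1.is_comm.comm ca cb)
      simp only [Subgroup.coe_mul] at hcomm
      refine Subtype.ext (Subtype.ext ?_)
      simp only [Subgroup.coe_mul, ← hca, ← hcb]
      rw [show s * (ca : G) * s⁻¹ * (s * (cb : G) * s⁻¹) = s * ((ca : G) * cb) * s⁻¹ by group,
        hcomm]
      group
    · rw [← Subgroup.orderOf_coe]; exact h1
    · rw [← Subgroup.orderOf_coe]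
      have : x * z⁻¹ = x * (g * x⁻¹ * g⁻¹) := by rw [hz]; group
      simpa [this] using h2
  -- the count
  have hcount : (q : ℝ) * ((Finset.univ.filter (fun g : G => ¬ p ∣ orderOf (x * (g * x * g⁻¹)))).card : ℝ) =
      (Nat.card G : ℝ) * (((q : ℝ) - 1) - ∑ χ ∈ B', (v χ : ℝ) ^ 3 / (d χ : ℝ)) := by
    have h := Invol.RegProd.count_regular hM x x
    rw [finsum_mem_block, ← hB] at h
    have h2 : (q : ℂ) * ((Finset.univ.filter (fun g : G => ¬ p ∣ orderOf (x * (g * x * g⁻¹)))).card : ℂ) =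
        ∑ χ ∈ B, (Nat.card G : ℂ) * ((if χ = trivialIrr G then (q : ℂ) else 0) - (v χ : ℂ)) *
          (v χ : ℂ) * (v χ : ℂ) / (d χ : ℂ) := by
      rw [h, Finset.mul_sum]
      refine Finset.sum_congr rfl fun χ hχ => ?_
      have hr := congrArg conj (hreg χ (Finset.mem_filter.1 hχ).2)
      rw [map_mul, map_mul, map_sub] at hr
      simp only [map_natCast, map_intCast, apply_ite conj, map_zero] at hr
      rw [hv, hd, ← hr]
      ring
    rw [← Finset.add_sum_erase B _ htB, ← hB', if_pos rfl, hvt, hdt] at h2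
    have h3 : ∑ χ ∈ B', (Nat.card G : ℂ) * ((if χ = trivialIrr G then (q : ℂ) else 0) - (v χ : ℂ)) *
          (v χ : ℂ) * (v χ : ℂ) / (d χ : ℂ) =
        -((Nat.card G : ℂ) * ∑ χ ∈ B', (v χ : ℂ) ^ 3 / (d χ : ℂ)) := by
      rw [Finset.mul_sum, ← Finset.sum_neg_distrib]
      refine Finset.sum_congr rfl fun χ hχ => ?_
      rw [if_neg (Finset.mem_erase.1 hχ).1]
      ring
    rw [h3] at h2
    apply Complex.ofReal_injective
    push_cast
    rw [h2]
    ring
  obtain ⟨χ₀, hχ₀, hneg⟩ : ∃ χ ∈ B', v χ < 0 := by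
    by_contra hno
    push Not at hno
    have : 0 ≤ ∑ χ ∈ B', d χ * v χ := Finset.sum_nonneg fun χ hχ => mul_nonneg (hdpos χ).le (hno χ hχ)
    linarith
  have hsum : ∑ χ ∈ B', (v χ : ℝ) ^ 3 / (d χ : ℝ) ≤
      ((q : ℝ) - 1) / (2 * q - 1) * ((q : ℝ) - 2) := by
    set r := ((q : ℝ) - 1) / (2 * q - 1) with hr
    have hqr : (3 : ℝ) ≤ q := by exact_mod_cast hq3
    have hr0 : 0 ≤ r := div_nonneg (by linarith) (by linarith)
    have hterm : ∀ χ ∈ B', (v χ : ℝ) ^ 3 / (d χ : ℝ) ≤ r * (if χ = χ₀ then 0 else (v χ : ℝ) ^ 2) := by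
      intro χ hχ
      have hd0 : (0 : ℝ) < d χ := by exact_mod_cast hdpos χ
      rcases le_or_gt (v χ) 0 with h | h
      · refine le_trans (div_nonpos_of_nonpos_of_nonneg ?_ hd0.le) ?_
        · have : (v χ : ℝ) ≤ 0 := by exact_mod_cast h
          nlinarith [sq_nonneg (v χ : ℝ)]
        · exact mul_nonneg hr0 (by split_ifs <;> positivity)
      · have hne : χ ≠ χ₀ := fun e => by rw [e] at h; linarith
        rw [if_neg hne]
        have hv0 : (1 : ℝ) ≤ v χ := by exact_mod_cast h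
        have hvq : (v χ : ℝ) ≤ q - 1 := by
          have h1 : v χ ^ 2 ≤ (q : ℤ) - 1 := hcol ▸ Finset.single_le_sum (fun j _ => sq_nonneg (v j)) hχ
          have h2 : v χ ≤ v χ ^ 2 := by nlinarith
          have h3 : ((v χ : ℤ) : ℝ) ≤ (((q : ℤ) - 1 : ℤ) : ℝ) := by exact_mod_cast h2.trans h1
          simpa using h3
        have hdb : (v χ : ℝ) + q ≤ d χ := by exact_mod_cast hbound χ hχ h
        rw [div_le_iff₀ hd0, hr, div_mul_eq_mul_div, div_mul_eq_mul_div, le_div_iff₀ (by linarith)]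
        nlinarith [mul_nonneg (mul_nonneg (sq_nonneg (v χ : ℝ)) (by linarith : (0 : ℝ) ≤ q - 1)) (sub_nonneg.2 hdb),
          mul_nonneg (mul_nonneg (sq_nonneg (v χ : ℝ)) (by linarith : (0 : ℝ) ≤ q)) (sub_nonneg.2 hvq)]
    refine (Finset.sum_le_sum hterm).trans ?_
    rw [← Finset.mul_sum]
    refine mul_le_mul_of_nonneg_left ?_ hr0
    rw [← Finset.add_sum_erase B' _ hχ₀, if_pos rfl, zero_add,
      Finset.sum_congr rfl (g := fun χ => (v χ : ℝ) ^ 2) fun χ hχ => by rw [if_neg (Finset.mem_erase.1 hχ).1]]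
    have h1 : v χ₀ ^ 2 + ∑ χ ∈ B'.erase χ₀, v χ ^ 2 = (q : ℤ) - 1 :=
      (Finset.add_sum_erase B' (fun χ => v χ ^ 2) hχ₀).trans hcol
    have h2 : 1 ≤ v χ₀ ^ 2 := by nlinarith
    have h3 : ((∑ χ ∈ B'.erase χ₀, v χ ^ 2 : ℤ) : ℝ) ≤ (((q : ℤ) - 2 : ℤ) : ℝ) := by
      exact_mod_cast (by linarith : ∑ χ ∈ B'.erase χ₀, v χ ^ 2 ≤ (q : ℤ) - 2)
    push_cast at h3
    exact h3
  have hqr : (3 : ℝ) ≤ q := by exact_mod_cast hq3
  have hG : (0 : ℝ) < Nat.card G := by exact_mod_cast Nat.card_pos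
  have hn : 2 * ((Finset.univ.filter (fun g : G => ¬ p ∣ orderOf (x * (g * x * g⁻¹)))).card : ℝ) ≤ Nat.card G := by
    exact_mod_cast hn2
  have h1 : 2 * (((q : ℝ) - 1) - ∑ χ ∈ B', (v χ : ℝ) ^ 3 / (d χ : ℝ)) ≤ q := by
    by_contra hcon
    push Not at hcon
    nlinarith
  have h2 : ((q : ℝ) - 1) / (2 * q - 1) * ((q : ℝ) - 2) < ((q : ℝ) - 2) / 2 := by
    rw [div_mul_eq_mul_div, div_lt_iff₀ (by linarith)]
    nlinarith
  linarith

end Cfsg.Agent.S1951
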