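import Cfsg.Statements.S4176
import Cfsg.Agent.Lib.Grp.PComplement
import Mathlib

set_option maxHeartbeats 1000000
set_option maxRecDepth 8000

set_option autoImplicit false
open Cfsg

namespace Cfsg.Agent.S4176

theorem isPSolvable_sub {p : ℕ} [Fact p.Prime] {H : Type*} [Group H] [Finite H] (hG : Cfsg.IsPSolvable p H)
    (U : Subgroup H) : Cfsg.IsPSolvable p U := by
  obtain ⟨n, K, h0, hlast, hmono, hn, hstep⟩ := hG
  refine ⟨n, fun i => (K i).subgroupOf U, ?_, ?_, fun i j hij => Subgroup.comap_mono (hmono hij),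
    fun i => (hn i).subgroupOf U, fun i => ?_⟩
  · simp [h0]
  · simp [hlast]
  have hd : ((K i.castSucc).subgroupOf U).relIndex ((K i.succ).subgroupOf U) ∣
      (K i.castSucc).relIndex (K i.succ) := by
    haveI := hn i.castSucc
    rw [Subgroup.subgroupOf, Subgroup.relIndex_comap, Subgroup.subgroupOf_map_subtype]
    have e : ∀ W : Subgroup H, (K i.castSucc).relIndex W =
        Nat.card (W.map (QuotientGroup.mk' (K i.castSucc))) := fun W => by
      conv_lhs => rw [← QuotientGroup.ker_mk' (K i.castSucc), Subgroup.relIndex_ker]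
    rw [e, e]
    exact Subgroup.card_dvd_of_le (Subgroup.map_mono inf_le_left)
  rcases hstep i with ⟨m, hm⟩ | h
  · left
    obtain ⟨j, _, hj⟩ := (Nat.dvd_prime_pow (Fact.out : p.Prime)).1 (hm ▸ hd)
    exact ⟨j, hj⟩
  · right; exact h.coprime_dvd_left hd

/-- A vector fixed by a subgroup with orbit index coprime to that of `a` lies on the line of the orbit sum. -/
theorem fixed_le_line {k V H : Type*} [Field k] {p : ℕ} [Fact p.Prime] [CharP k p] [AddCommGroup V] [Module k V]
    [Group H] [Finite H] (hsol : Cfsg.IsPSolvable p H) (ρ : Representation k H V) (a : V)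
    (hm : ¬ p ∣ Nat.card {u : V | ∃ h : H, ρ h a = u})
    (hspan : Submodule.span k {u : V | ∃ h : H, ρ h a = u} = ⊤) :
    ∃ s : V, (∀ h : H, ρ h s = s) ∧ ∀ B : Subgroup H,
      (Nat.card {u : V | ∃ h : H, ρ h a = u}).Coprime B.index →
      ∀ v : V, (∀ h ∈ B, ρ h v = v) → v ∈ Submodule.span k {s} := by
  classical
  letI : MulAction H V :=
    { smul := fun h v => ρ h v
      one_smul := fun v => by show ρ 1 v = v; simp
      mul_smul := fun g h v => by show ρ (g * h) v = ρ g (ρ h v); simp [map_mul] }
  set O : Set V := {u : V | ∃ h : H, ρ h a = u} with hO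
  have hOorb : O = MulAction.orbit H a := rfl
  haveI : Fintype O := Fintype.ofFinite O
  set m := Nat.card O with hmdef
  have hmidx : (MulAction.stabilizer H a).index = m := by
    rw [MulAction.index_stabilizer, hmdef, Nat.card_coe_set_eq, hOorb]
  have hm0 : (m : k) ≠ 0 := fun h => hm ((CharP.cast_eq_zero_iff k p m).1 h)
  set s := ∑ u ∈ O.toFinset, u with hs
  have hsfix : ∀ h : H, ρ h s = s := by
    intro h
    rw [hs, map_sum]
    refine Finset.sum_nbij (fun u => ρ h u) ?_ ?_ ?_ (fun u _ => rfl)
    · intro u hu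
      simp only [Set.mem_toFinset] at hu ⊢
      obtain ⟨g, rfl⟩ := hu
      exact ⟨h * g, by simp [map_mul]⟩
    · intro u _ w _ he
      exact MulAction.injective h (show h • u = h • w from he)
    · intro u hu
      simp only [Finset.mem_coe, Set.mem_toFinset] at hu
      obtain ⟨g, rfl⟩ := hu
      exact ⟨ρ (h⁻¹ * g) a, Set.mem_toFinset.2 ⟨h⁻¹ * g, rfl⟩, by
        show ρ h (ρ (h⁻¹ * g) a) = ρ g a
        rw [← Module.End.mul_apply, ← map_mul, mul_inv_cancel_left]⟩
  refine ⟨s, hsfix, fun B hB v hv => ?_⟩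
  obtain ⟨L', hL'cop, c, hc⟩ := Cfsg.Agent.Grp.PCompl.exists_compl (isPSolvable_sub hsol B)
  set L : Subgroup H := L'.map B.subtype with hL
  have hLB : L ≤ B := Subgroup.map_subtype_le L'
  have hLcard : Nat.card L = Nat.card L' := Subgroup.card_map_of_injective B.subtype_injective
  have hBcard : Nat.card B = Nat.card L * p ^ c := by rw [hLcard, ← hc, L'.card_mul_index]
  set A := MulAction.stabilizer H a with hA
  -- the orbit is a single `L`-orbit
  have e1 : Nat.card (A.subgroupOf L) * A.relIndex L = Nat.card L := Subgroup.card_mul_index _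
  have e2 : Nat.card (A.subgroupOf B) * A.relIndex B = Nat.card B := Subgroup.card_mul_index _
  have hdL : m ∣ A.relIndex L := by
    have h1 : A.index ∣ A.relIndex B * B.index := by
      rw [← Subgroup.inf_relIndex_right, Subgroup.relIndex_mul_index inf_le_right]
      exact Subgroup.index_dvd_of_le inf_le_left
    have h2 : m ∣ A.relIndex B := hB.dvd_of_dvd_mul_right (hmidx ▸ h1)
    have h3 : Nat.card (A.subgroupOf L) ∣ Nat.card (A.subgroupOf B) := by
      rw [← Subgroup.card_map_of_injective L.subtype_injective (K := A.subgroupOf L), Subgroup.subgroupOf_map_subtype,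
        ← Subgroup.card_map_of_injective B.subtype_injective (K := A.subgroupOf B), Subgroup.subgroupOf_map_subtype]
      exact Subgroup.card_dvd_of_le (inf_le_inf_left A hLB)
    have h4 : Nat.card (A.subgroupOf L) * m ∣ Nat.card L * p ^ c := hBcard ▸ e2 ▸ Nat.mul_dvd_mul h3 h2
    have h5 : (Nat.card (A.subgroupOf L) * m).Coprime (p ^ c) := by
      refine Nat.Coprime.pow_right c (Nat.Coprime.mul_left ?_ ?_)
      · exact (hLcard ▸ hL'cop).coprime_dvd_left ⟨_, e1.symm⟩
      · exact ((Fact.out : p.Prime).coprime_iff_not_dvd.2 hm).symm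
    exact Nat.dvd_of_mul_dvd_mul_left Nat.card_pos (e1.symm ▸ h5.dvd_of_dvd_mul_right h4)
  have hLorb : MulAction.orbit L a = O := by
    have hsub : MulAction.orbit L a ⊆ O := by rintro _ ⟨l, rfl⟩; exact ⟨(l : H), rfl⟩
    refine Set.eq_of_subset_of_ncard_le hsub ?_ (Set.toFinite _)
    rw [← Nat.card_coe_set_eq, ← hmdef, ← MulAction.index_stabilizer]
    have e : MulAction.stabilizer L a = A.subgroupOf L := rfl
    rw [e]
    exact Nat.le_of_dvd (Nat.pos_of_ne_zero Subgroup.index_ne_zero_of_finite) hdL
  haveI : Fintype L := Fintype.ofFinite L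
  let T : V →ₗ[k] V := ∑ l : L, ρ (l : H)
  have hT : ∀ w, T w = ∑ l : L, ρ (l : H) w := fun w => by simp [T]
  have hTconst : ∀ u ∈ O, T u = T a := by
    intro u hu
    rw [← hLorb] at hu
    obtain ⟨l₀, rfl⟩ := hu
    rw [hT, hT]
    refine Fintype.sum_equiv (Equiv.mulRight l₀) _ _ fun l => ?_
    show ρ (l : H) (ρ (l₀ : H) a) = ρ ((l * l₀ : L) : H) a
    rw [Subgroup.coe_mul, map_mul]; rfl
  have hTa : (m : k) • T a = (Nat.card L : k) • s := by
    have h1 : T s = (m : k) • T a := by
      rw [hs, map_sum, Finset.sum_congr rfl fun u hu => hTconst u (Set.mem_toFinset.1 hu), Finset.sum_const,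
        Set.toFinset_card, ← Nat.card_eq_fintype_card, ← hmdef, Nat.cast_smul_eq_nsmul k]
    rw [← h1, hT, Finset.sum_congr rfl fun (l : L) _ => hsfix (l : H), Finset.sum_const, Finset.card_univ,
      Nat.card_eq_fintype_card, Nat.cast_smul_eq_nsmul k]
  have hall : ∀ w : V, T w ∈ Submodule.span k {s} := by
    intro w
    have hw : w ∈ Submodule.span k O := hspan ▸ Submodule.mem_top
    induction hw using Submodule.span_induction with
    | mem u hu =>
      refine Submodule.mem_span_singleton.2 ⟨(m : k)⁻¹ * (Nat.card L : k), ?_⟩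
      rw [hTconst u hu, mul_smul, ← hTa, smul_smul, inv_mul_cancel₀ hm0, one_smul]
    | zero => simp
    | add x y _ _ hx hy => rw [map_add]; exact add_mem hx hy
    | smul c x _ hx => rw [map_smul]; exact Submodule.smul_mem _ _ hx
  have hvT : T v = (Nat.card L : k) • v := by
    rw [hT, Finset.sum_congr rfl fun (l : L) _ => hv (l : H) (hLB l.2), Finset.sum_const, Finset.card_univ,
      Nat.card_eq_fintype_card, Nat.cast_smul_eq_nsmul k]
  have hL0 : (Nat.card L : k) ≠ 0 := fun h => by
    have := (CharP.cast_eq_zero_iff k p (Nat.card L)).1 h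
    exact (Fact.out : p.Prime).coprime_iff_not_dvd.1 (hLcard ▸ hL'cop).symm this
  have := Submodule.smul_mem (Submodule.span k {s}) (Nat.card L : k)⁻¹ (hvT ▸ hall v)
  rwa [smul_smul, inv_mul_cancel₀ hL0, one_smul] at this


/-- Let k be a field of prime characteristic p, H a finite p-soluble group and ρ a k-linear representation of H on V. Let a be a vector that is fixed by some Sylow p-subgroup of H and whose H-orbit spans V. Then the space of H-fixed vectors has dimension at most 1, and every vector b whose H-orbit has size coprime to the size of the orbit of a is fixed by H. -/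
theorem result {k V H : Type*} [Field k] (p : ℕ) [Fact p.Prime] [CharP k p] [AddCommGroup V] [Module k V]
    [Group H] [Finite H] (hsol : Cfsg.IsPSolvable p H) (ρ : Representation k H V) (a : V)
    (hfix : ∃ P : Sylow p H, ∀ x : H, x ∈ (P : Subgroup H) → ρ x a = a)
    (hspan : Submodule.span k {u : V | ∃ h : H, ρ h a = u} = ⊤) :
    Module.finrank k ρ.invariants ≤ 1 ∧
    ∀ b : V, (Nat.card {u : V | ∃ h : H, ρ h a = u}).Coprime (Nat.card {u : V | ∃ h : H, ρ h b = u}) → ∀ h : H, ρ h b = b := by

  classical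
  letI : MulAction H V :=
    { smul := fun h v => ρ h v
      one_smul := fun v => by show ρ 1 v = v; simp
      mul_smul := fun g h v => by show ρ (g * h) v = ρ g (ρ h v); simp [map_mul] }
  have hidx : ∀ w : V, (MulAction.stabilizer H w).index = Nat.card {u : V | ∃ h : H, ρ h w = u} := fun w => by
    rw [MulAction.index_stabilizer, Nat.card_coe_set_eq]; rfl
  have hm : ¬ p ∣ Nat.card {u : V | ∃ h : H, ρ h a = u} := by
    obtain ⟨P, hP⟩ := hfix
    rw [← hidx]
    exact fun h => P.not_dvd_index (h.trans (Subgroup.index_dvd_of_le fun x hx => hP x hx))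
  obtain ⟨s, hsfix, hline⟩ := fixed_le_line hsol ρ a hm hspan
  refine ⟨?_, fun b hb h => ?_⟩
  · have hle : ρ.invariants ≤ Submodule.span k {s} := fun v hv =>
      hline ⊤ (by simp) v fun h _ => (Representation.mem_invariants (ρ := ρ) v).1 hv h
    refine le_trans (Submodule.finrank_mono hle) ?_
    exact (finrank_span_le_card ({s} : Set V)).trans (by simp)
  · obtain ⟨c, rfl⟩ := Submodule.mem_span_singleton.1
      (hline (MulAction.stabilizer H b) (by rw [hidx]; exact hb) b fun g hg => hg)
    rw [map_smul, hsfix]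

end Cfsg.Agent.S4176
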