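import Cfsg.Statements.S1950
import Cfsg.Agent.Lib.Invol.CyclicSylowPairs
import Cfsg.Agent.Lib.Invol.CyclicPairImage
import Cfsg.Agent.Lib.Grp.PSolvable
import Cfsg.Agent.Lib.Fus.SmallSimple
import Cfsg.Agent.S4176

set_option autoImplicit false
open Cfsg

namespace Cfsg.Agent.S1950

universe u

open Cfsg.Agent Cfsg.Agent.Invol Subgroup

/-- A group whose order is a power of `p` or prime to `p` is `p`-soluble. -/
theorem isPSolvable_of_card {p : ℕ} (G : Type*) [Group G] [Finite G]
    (h : (∃ m, Nat.card G = p ^ m) ∨ (Nat.card G).Coprime p) : IsPSolvable p G := by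
  refine ⟨1, ![⊥, ⊤], rfl, rfl, Fin.monotone_iff_le_succ.2 fun i => ?_, fun i => ?_, fun i => ?_⟩
  · fin_cases i; exact bot_le
  · fin_cases i
    · exact (inferInstance : (⊥ : Subgroup G).Normal)
    · exact (inferInstance : (⊤ : Subgroup G).Normal)
  · fin_cases i
    simpa using h

/-- Extension by a normal subgroup of `p`-power or `p'` order. -/
theorem isPSolvable_ext {p : ℕ} {G : Type*} [Group G] [Finite G] (N : Subgroup G) [N.Normal]
    (hN : (∃ m, Nat.card N = p ^ m) ∨ (Nat.card N).Coprime p) (h : IsPSolvable p (G ⧸ N)) :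
    IsPSolvable p G := by
  obtain ⟨n, H, h0, hl, hm, hn, hi⟩ := h
  set f := QuotientGroup.mk' N with hf
  let K : Fin (n + 2) → Subgroup G := Fin.cases ⊥ fun i => (H i).comap f
  refine ⟨n + 1, K, rfl, ?_, Fin.monotone_iff_le_succ.2 fun i => ?_, fun i => ?_, fun i => ?_⟩
  · rw [← Fin.succ_last]
    show (H (Fin.last n)).comap f = ⊤
    rw [hl, Subgroup.comap_top]
  · induction i using Fin.cases with
    | zero => exact bot_le
    | succ j =>
      rw [← Fin.succ_castSucc]
      exact Subgroup.comap_mono (hm j.castSucc_le_succ)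
  · induction i using Fin.cases with
    | zero => exact (inferInstance : (⊥ : Subgroup G).Normal)
    | succ j => exact (hn j).comap f
  · induction i using Fin.cases with
    | zero =>
      show (∃ m, (⊥ : Subgroup G).relIndex ((H 0).comap f) = p ^ m) ∨
        ((⊥ : Subgroup G).relIndex ((H 0).comap f)).Coprime p
      rw [h0, MonoidHom.comap_bot, hf, QuotientGroup.ker_mk', Subgroup.relIndex_bot_left]
      exact hN
    | succ j =>
      rw [← Fin.succ_castSucc]
      show (∃ m, ((H j.castSucc).comap f).relIndex ((H j.succ).comap f) = p ^ m) ∨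
        (((H j.castSucc).comap f).relIndex ((H j.succ).comap f)).Coprime p
      rw [Subgroup.relIndex_comap, Subgroup.map_comap_eq_self_of_surjective
        (QuotientGroup.mk'_surjective N)]
      exact hi j

/-- A central element of order `p` in a group with cyclic Sylow subgroup gives a complement. -/
theorem complement_of_central {p : ℕ} [Fact p.Prime] {C : Type u} [Group C] [Finite C]
    (P : Sylow p C) (hP : IsCyclic (P : Subgroup C)) {x : C} (hx : x ≠ 1)
    (hxP : x ∈ (P : Subgroup C)) (hxc : ∀ c : C, c * x = x * c) :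
    ∃ K : Subgroup C, K.Normal ∧ K.IsComplement' (P : Subgroup C) := by
  obtain ⟨g, hg⟩ := (Subgroup.isCyclic_iff_exists_zpowers_eq_top (P : Subgroup C)).mp hP
  haveI : NeZero (orderOf g) := ⟨(orderOf_pos g).ne'⟩
  let D : CyclicBlock.Gen C p (orderOf g) := ⟨g, P, hg, rfl⟩
  obtain ⟨i, hi⟩ := D.exists_pw (u := x) hxP
  have hi0 : i ≠ 0 := fun h => hx (by rw [← hi, h, D.pw_zero])
  have hE : ∀ t ∈ D.E, t = 1 := by
    intro t ht
    refine D.free ht hi0 (D.pw_injective ?_)
    obtain ⟨c, hc⟩ := isConj_iff.1 (D.conj_iff.2 ⟨t, ht, rfl⟩ : IsConj (D.pw i) (D.pw (t * i)))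
    rw [← hc, hi, hxc c, mul_inv_cancel_right]
  have hNC : normalizer ((P : Subgroup C) : Set C) ≤ centralizer ((P : Subgroup C) : Set C) := by
    intro n hn
    have hgP : g ∈ (P : Subgroup C) := hg ▸ mem_zpowers g
    obtain ⟨t, ht⟩ := D.exists_pw (u := n * g * n⁻¹) ((mem_normalizer_iff.1 hn g).1 hgP)
    have ht1 : t = 1 := hE t (D.mem_E.2 (isConj_iff.2 ⟨n, ht.symm⟩))
    rw [ht1, D.pw_one, eq_comm, mul_inv_eq_iff_eq_mul] at ht
    refine mem_centralizer_iff.2 fun w hw => ?_
    obtain ⟨j, rfl⟩ := D.exists_pw hw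
    exact ((show Commute n g from ht).pow_right j.val).eq.symm
  exact ⟨_, MonoidHom.normal_ker _, MonoidHom.ker_transferSylow_isComplement' P hNC⟩

/-- The hypothesis on pairs. -/
def Pairs (p : ℕ) (G : Type u) [Group G] : Prop :=
  ∀ x y : G, orderOf x = p → orderOf y = p → IsPSolvable p (closure ({x, y} : Set G))

theorem pairs_sub {p : ℕ} [Fact p.Prime] {G : Type u} [Group G] [Finite G] (h : Pairs p G)
    (N : Subgroup G) : Pairs p N := by
  intro x y hx hy
  have h' := h (x : G) (y : G) (by rwa [Subgroup.orderOf_coe]) (by rwa [Subgroup.orderOf_coe])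
  have he : (closure ({x, y} : Set N)).map N.subtype = closure ({(x : G), (y : G)} : Set G) := by
    rw [MonoidHom.map_closure, Set.image_pair]; rfl
  let e := ((closure ({x, y} : Set N)).equivMapOfInjective N.subtype N.subtype_injective).trans
    (MulEquiv.subgroupCongr he)
  exact Grp.isPSolvable_map h' e.symm.toMonoidHom e.symm.surjective

theorem cyclic_sub {p : ℕ} [Fact p.Prime] {G : Type u} [Group G] [Finite G]
    (S : Sylow p G) (hS : IsCyclic (S : Subgroup G)) (N : Subgroup G) (P : Sylow p N) :
    IsCyclic (P : Subgroup N) := by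
  obtain ⟨Q, hQ⟩ := (P.2.map N.subtype).exists_le_sylow
  haveI : IsCyclic (Q : Subgroup G) := (Sylow.equiv S Q).isCyclic.1 hS
  haveI : IsCyclic ((P : Subgroup N).map N.subtype) := Subgroup.isCyclic_of_le hQ
  exact ((P : Subgroup N).equivMapOfInjective N.subtype N.subtype_injective).isCyclic.2 inferInstance

theorem pairs_quot {p : ℕ} [hp : Fact p.Prime] {G : Type u} [Group G] [Finite G] (h : Pairs p G)
    (R : Subgroup G) [R.Normal] (hR : (Nat.card R).Coprime p) : Pairs p (G ⧸ R) := by
  have hlift : ∀ a : G ⧸ R, orderOf a = p → ∃ x : G, orderOf x = p ∧ QuotientGroup.mk' R x = a := by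
    intro a ha
    obtain ⟨g, rfl⟩ := QuotientGroup.mk'_surjective R a
    set m := Nat.card R
    have hmem : g ^ p ∈ R := by
      rw [← QuotientGroup.eq_one_iff, ← QuotientGroup.mk'_apply, map_pow]
      exact orderOf_dvd_iff_pow_eq_one.1 ha.dvd
    have hgm : g ^ (p * m) = 1 := by
      rw [pow_mul]
      exact congrArg Subtype.val (pow_card_eq_one' (x := (⟨_, hmem⟩ : R)))
    obtain ⟨k, hk⟩ := Nat.exists_mul_mod_eq_one_of_coprime hR hp.out.one_lt
    have himg : QuotientGroup.mk' R (g ^ (m * k)) = QuotientGroup.mk' R g := by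
      rw [map_pow, ← pow_mod_orderOf, ha, hk.2, pow_one]
    refine ⟨g ^ (m * k), orderOf_eq_prime ?_ ?_, himg⟩
    · rw [← pow_mul, show m * k * p = p * m * k by ring, pow_mul, hgm, one_pow]
    · intro h1
      rw [h1, map_one] at himg
      rw [← himg, orderOf_one] at ha
      exact hp.out.one_lt.ne ha
  intro a b ha hb
  obtain ⟨x, hx, rfl⟩ := hlift a ha
  obtain ⟨y, hy, rfl⟩ := hlift b hb
  have he : (closure ({x, y} : Set G)).map (QuotientGroup.mk' R) =
      closure ({QuotientGroup.mk' R x, QuotientGroup.mk' R y} : Set (G ⧸ R)) := by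
    rw [MonoidHom.map_closure, Set.image_pair]
  exact he ▸ Grp.isPSolvable_map (h x y hx hy) ((QuotientGroup.mk' R).subgroupMap _)
    ((QuotientGroup.mk' R).subgroupMap_surjective _)

theorem aux {p : ℕ} [hp : Fact p.Prime] : ∀ (n : ℕ) (G : Type u) [Group G] [Finite G], Nat.card G = n →
    ∀ S : Sylow p G, IsCyclic (S : Subgroup G) → Pairs p G → IsPSolvable p G := by
  intro n
  induction n using Nat.strong_induction_on with
  | _ n ih =>
  intro G _ _ hn S hS hpair
  by_cases hpG : p ∣ Nat.card G
  swap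
  · exact isPSolvable_of_card G (Or.inr (hp.out.coprime_iff_not_dvd.2 hpG).symm)
  haveI hRn : (pPrimeCore p G).Normal := Grp.pPrimeCore_isNormal
  by_cases hR : pPrimeCore p G = ⊥
  swap
  · set f := QuotientGroup.mk' (pPrimeCore p G)
    have hfs : Function.Surjective f := QuotientGroup.mk'_surjective _
    have hlt : Nat.card (G ⧸ pPrimeCore p G) < n := by
      have h1 := Subgroup.card_eq_card_quotient_mul_card_subgroup (pPrimeCore p G)
      have h2 := (pPrimeCore p G).one_lt_card_iff_ne_bot.2 hR
      have h3 : 0 < Nat.card (G ⧸ pPrimeCore p G) := Nat.card_pos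
      nlinarith
    have hS' : IsCyclic ((S.mapSurjective hfs : Sylow p (G ⧸ pPrimeCore p G)) :
        Subgroup (G ⧸ pPrimeCore p G)) := by
      show IsCyclic ((S : Subgroup G).map f)
      exact isCyclic_of_surjective _ (f.subgroupMap_surjective (S : Subgroup G))
    exact isPSolvable_ext _ (Or.inr Grp.pPrimeCore_coprime)
      (ih _ hlt (G ⧸ pPrimeCore p G) rfl _ hS' (pairs_quot hpair _ Grp.pPrimeCore_coprime))
  -- now the `p'`-core is trivial
  suffices hx : ∃ x : G, x ≠ 1 ∧ x ^ p = 1 ∧ x ∈ pCore p G by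
    obtain ⟨x, hx1, hxp, hxV⟩ := hx
    have hxS : x ∈ (S : Subgroup G) := Grp.pCore_le_sylow S hxV
    haveI : IsCyclic (S : Subgroup G) := hS
    haveI hΩ : (zpowers x).Normal := by
      refine ⟨fun w hw g => ?_⟩
      obtain ⟨r, rfl⟩ := hw
      rw [← conj_zpow]
      refine zpow_mem ?_ r
      haveI : (pCore p G).Normal := Grp.pCore_isNormal
      have hyS : g * x * g⁻¹ ∈ (S : Subgroup G) :=
        Grp.pCore_le_sylow S (Normal.conj_mem inferInstance x hxV g)
      have hyp : (g * x * g⁻¹) ^ p = 1 := by rw [conj_pow, hxp]; group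
      set A : (S : Subgroup G) := ⟨x, hxS⟩
      have hA : orderOf A = p := orderOf_eq_prime (Subtype.ext hxp) fun h => hx1 (congrArg Subtype.val h)
      cases nonempty_fintype (S : Subgroup G)
      classical
      have hsub : (Finset.univ.filter (fun w => w ∈ zpowers A)) ⊆
          Finset.univ.filter (fun w : (S : Subgroup G) => w ^ p = 1) := fun w hw => by
        simp only [Finset.mem_filter, Finset.mem_univ, true_and] at hw ⊢
        exact orderOf_dvd_iff_pow_eq_one.1 ((orderOf_dvd_of_mem_zpowers hw).trans (dvd_of_eq hA))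
      have heq := Finset.eq_of_subset_of_card_le hsub (le_trans
        (IsCyclic.card_pow_eq_one_le hp.out.pos) (le_of_eq (hA.symm.trans (by
          rw [← Nat.card_zpowers, Nat.card_eq_fintype_card, ← Fintype.card_subtype]))))
      have hb : (⟨_, hyS⟩ : (S : Subgroup G)) ∈ Finset.univ.filter (fun w => w ∈ zpowers A) := by
        rw [heq]
        simp only [Finset.mem_filter, Finset.mem_univ, true_and]
        exact Subtype.ext hyp
      obtain ⟨s, hs⟩ := mem_zpowers_iff.1 (Finset.mem_filter.1 hb).2
      exact mem_zpowers_iff.2 ⟨s, congrArg Subtype.val hs⟩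
    set C := centralizer ((zpowers x : Subgroup G) : Set G) with hC
    haveI hCn : C.Normal := Subgroup.normal_centralizer
    have hSC : (S : Subgroup G) ≤ C := by
      intro w hw
      refine mem_centralizer_iff.2 fun v hv => ?_
      have hvS : v ∈ (S : Subgroup G) := zpowers_le.2 hxS hv
      obtain ⟨c, hc⟩ := (Subgroup.isCyclic_iff_exists_zpowers_eq_top (S : Subgroup G)).mp hS
      rw [← hc] at hw hvS
      obtain ⟨a, rfl⟩ := hw
      obtain ⟨b, rfl⟩ := hvS
      exact zpow_mul_comm c b a
    have hxC : x ∈ C := hSC hxS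
    set P' : Sylow p C := S.subtype hSC
    obtain ⟨K, hKn, hKc⟩ := complement_of_central P' (cyclic_sub S hS C P')
      (x := ⟨x, hxC⟩) (fun h => hx1 (congrArg Subtype.val h)) (show x ∈ (S : Subgroup G) from hxS)
      (fun c => Subtype.ext (mem_centralizer_iff.1 c.2 x (mem_zpowers x)).symm)
    have hK1 : (Nat.card K).Coprime p := by
      rw [← Subgroup.IsComplement'.index_eq_card hKc]
      exact (hp.out.coprime_iff_not_dvd.2 P'.not_dvd_index).symm
    have hcore : pPrimeCore p C = ⊥ := by
      haveI : (pPrimeCore p C).Characteristic := Grp.instCharPPrimeCore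
      have h1 : ((pPrimeCore p C).map C.subtype).Normal := inferInstance
      have h2 := Grp.le_pPrimeCore h1 (by
        rw [card_map_of_injective C.subtype_injective]; exact Grp.pPrimeCore_coprime (p := p))
      rw [hR, le_bot_iff, map_eq_bot_iff_of_injective _ C.subtype_injective] at h2
      exact h2
    have hKbot : K = ⊥ := le_bot_iff.1 (hcore ▸ Grp.le_pPrimeCore hKn hK1)
    have hCp : ∃ m, Nat.card C = p ^ m := by
      obtain ⟨m, hm⟩ := IsPGroup.iff_card.1 P'.2
      refine ⟨m, ?_⟩
      have h := Subgroup.IsComplement'.card_mul_card hKc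
      rw [hKbot, Subgroup.card_bot, one_mul, hm] at h
      exact h.symm
    refine isPSolvable_ext C (Or.inl hCp) (isPSolvable_of_card _ (Or.inr ?_))
    refine Nat.Coprime.symm (hp.out.coprime_iff_not_dvd.2 fun hd => S.not_dvd_index ?_)
    exact (hd.trans (dvd_of_eq (index_eq_card C).symm)).trans (index_dvd_of_le hSC)
  -- a nontrivial `p`-core
  suffices hV : pCore p G ≠ ⊥ by
    obtain ⟨k, hk⟩ := IsPGroup.iff_card.1 (Grp.pCore_isPGroup (p := p) (G := G))
    have h1 := (pCore p G).one_lt_card_iff_ne_bot.2 hV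
    obtain ⟨y, hy⟩ := exists_prime_orderOf_dvd_card' (G := pCore p G) p (by
      rw [hk]
      exact dvd_pow_self p fun h0 => by rw [hk, h0, pow_zero] at h1; exact lt_irrefl 1 h1)
    refine ⟨y, fun h => ?_, ?_, y.2⟩
    · rw [← Subgroup.orderOf_coe, h, orderOf_one] at hy
      exact hp.out.one_lt.ne hy
    · exact congrArg Subtype.val (orderOf_dvd_iff_pow_eq_one.1 hy.dvd)
  intro hV
  haveI : Nontrivial G := Finite.one_lt_card_iff_nontrivial.1
    (hp.out.one_lt.trans_le (Nat.le_of_dvd Nat.card_pos hpG))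
  by_cases hs : ∀ N : Subgroup G, N.Normal → N = ⊥ ∨ N = ⊤
  · haveI : IsSimpleGroup G := ⟨hs⟩
    by_cases hcomm : IsMulCommutative G
    · haveI := hcomm
      letI : CommGroup G := { (inferInstance : Group G) with mul_comm := fun a b => hcomm.is_comm.comm a b }
      have h1 : (S : Subgroup G) ≤ pCore p G :=
        Grp.le_pCore (Subgroup.normal_of_comm _) S.2
      rw [hV, le_bot_iff] at h1
      exact S.ne_bot_of_dvd_card hpG h1
    · by_cases h2 : p = 2
      · have hNC := hS.normalizer_le_centralizer (P := S) (by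
          rw [h2]; exact (Nat.minFac_eq_two_iff _).2 (h2 ▸ hpG))
        exact Fus.simple_no_complement hcomm hpG
          ⟨S, _, MonoidHom.normal_ker _, MonoidHom.ker_transferSylow_isComplement' S hNC⟩
      · obtain ⟨g, hg⟩ := (Subgroup.isCyclic_iff_exists_zpowers_eq_top (S : Subgroup G)).mp hS
        haveI : NeZero (orderOf g) := ⟨(orderOf_pos g).ne'⟩
        haveI := Fintype.ofFinite G
        refine CyclicBlock.false_of_simple hcomm h2 ?_ (⟨g, S, hg, rfl⟩ : CyclicBlock.Gen G p (orderOf g)) hpair
        intro h1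
        rw [orderOf_eq_one_iff] at h1
        rw [h1, zpowers_one_eq_bot] at hg
        exact S.ne_bot_of_dvd_card hpG hg.symm
  · push Not at hs
    obtain ⟨N, hN, hNb, hNt⟩ := hs
    have hlt : Nat.card N < n := hn ▸ lt_of_le_of_ne (Subgroup.card_le_card_group N)
      (fun h => hNt (Subgroup.eq_top_of_card_eq N h))
    obtain ⟨P⟩ := (inferInstance : Nonempty (Sylow p N))
    have hsol := ih _ hlt N rfl P (cyclic_sub S hS N P) (pairs_sub hpair N)
    haveI : (pPrimeCore p N).Characteristic := Grp.instCharPPrimeCore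
    haveI : (pCore p N).Characteristic := Grp.instCharPCore
    have h2 : pPrimeCore p N = ⊥ := by
      have h1 : ((pPrimeCore p N).map N.subtype).Normal := inferInstance
      have h := Grp.le_pPrimeCore h1 (by
        rw [card_map_of_injective N.subtype_injective]; exact Grp.pPrimeCore_coprime (p := p))
      rw [hR, le_bot_iff, map_eq_bot_iff_of_injective _ N.subtype_injective] at h
      exact h
    have h3 : pCore p N = ⊥ := by
      have h1 : ((pCore p N).map N.subtype).Normal := inferInstance
      have h := Grp.le_pCore h1 (Grp.pCore_isPGroup.map N.subtype)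
      rw [hV, le_bot_iff, map_eq_bot_iff_of_injective _ N.subtype_injective] at h
      exact h
    have h4 := Grp.isPSolvable_eq_top_of_cores hsol h3 h2
    refine hNb ((Subgroup.eq_bot_iff_forall N).2 fun a ha => ?_)
    have h5 : (⟨a, ha⟩ : N) ∈ (⊥ : Subgroup N) := h4 ▸ Subgroup.mem_top _
    exact congrArg (Subtype.val : N → G) (Subgroup.mem_bot.1 h5)

/-- Let G be a finite group whose Sylow p-subgroups are cyclic. Then G is p-solvable if and only if every two elements of order p of G generate a p-solvable subgroup. -/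
theorem result {G : Type*} [Group G] [Finite G] {p : ℕ} [Fact p.Prime] (P : Sylow p G) (hP : IsCyclic ↥(P : Subgroup G)) :
    Cfsg.IsPSolvable p G ↔ ∀ x y : G, orderOf x = p → orderOf y = p → Cfsg.IsPSolvable p ↥(Subgroup.closure ({x, y} : Set G)) := by
  constructor
  · intro h x y _ _
    exact Cfsg.Agent.S4176.isPSolvable_sub h _
  · intro h
    exact aux (Nat.card G) G rfl P hP h

end Cfsg.Agent.S1950
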