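import Cfsg.Statements.S4571
import Cfsg.Agent.Lib.Block.QuotientBlocks
import Cfsg.Agent.Lib.Block.Elementary2

set_option autoImplicit false
open Cfsg

namespace Cfsg.Agent.S4571

open Cfsg.Agent.Block in
/-- The regular part of a member against any character. -/
theorem inner_reg {G : Type*} [Group G] [Fintype G] (p : ℕ) (χ η : Cfsg.IrrCharacter G) :
    Cfsg.classInner (Cfsg.pRegularPart p (χ : G → ℂ)) (η : G → ℂ) =
      (Nat.card G : ℂ)⁻¹ * regSum p (χ : G → ℂ) (η : G → ℂ) := by
  classical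
  rw [Cfsg.classInner, regSum_eq_sum, Finset.sum_filter]
  congr 1
  refine Finset.sum_congr rfl fun x _ => ?_
  by_cases hx : p ∣ orderOf x <;> simp [pRegularPart_apply, Cfsg.IsPRegular, hx]

open Cfsg.Agent.Block in
theorem reg_classFun {G : Type*} [Group G] [Finite G] (p : ℕ) (χ : Cfsg.IrrCharacter G) :
    Cfsg.IsClassFunction G (Cfsg.pRegularPart p (χ : G → ℂ)) := by
  classical
  intro g h
  have e : orderOf (h * g * h⁻¹) = orderOf g := by rw [← MulAut.conj_apply, MulEquiv.orderOf_eq]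
  by_cases hg : p ∣ orderOf g <;> simp [pRegularPart_apply, Cfsg.IsPRegular, e, hg, irr_classFun χ g h]

open Cfsg.Agent.Block in
/-- The regular part is its own projection on the block. -/
theorem proj_self {G : Type*} [Group G] [Fintype G] {p : ℕ} [Fact p.Prime] {M : Ideal Cfsg.AlgInt}
    (hM : Cfsg.IsPModular p M) {B : Set (Cfsg.IrrCharacter G)} (hB : Cfsg.IsPBlock M B)
    [DecidablePred (· ∈ B)] (χ : Cfsg.IrrCharacter G) :
    ∑ η ∈ Finset.univ.filter (· ∈ B), Cfsg.classInner (Cfsg.pRegularPart p (χ : G → ℂ)) (η : G → ℂ) •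
        (η : G → ℂ) = if χ ∈ B then Cfsg.pRegularPart p (χ : G → ℂ) else 0 := by
  have hz : ∀ η : Cfsg.IrrCharacter G, ¬ (χ ∈ B ↔ η ∈ B) →
      Cfsg.classInner (Cfsg.pRegularPart p (χ : G → ℂ)) (η : G → ℂ) = 0 := fun η h => by
    rw [inner_reg, reg_orth hM fun hs => h ?_, mul_zero]
    exact ⟨fun hc => pblock_mem_of_sameBlock hM hB hc hs,
      fun hc => pblock_mem_of_sameBlock hM hB hc (sameBlock_symm hs)⟩
  split_ifs with hχ
  · conv_rhs => rw [Cfsg.Agent.Char.classFunction_expansion (reg_classFun p χ)]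
    rw [Finset.sum_filter]
    refine Finset.sum_congr rfl fun η _ => ?_
    split_ifs with hη
    · rfl
    · rw [hz η (by simp [hχ, hη]), zero_smul]
  · exact Finset.sum_eq_zero fun η hη => by
      rw [hz η (by simp [hχ, (Finset.mem_filter.1 hη).2]), zero_smul]

/-- Let Q be a normal p-subgroup of the finite group G with G = Q·C_G(Q), and M a maximal ideal of the algebraic integers containing p. Then the principal p-blocks of G and of G/Q have the same p-regular rank (the same number of irreducible Brauer characters). -/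
theorem result {G : Type*} [Group G] [Finite G] (p : ℕ) [Fact p.Prime] (M : Ideal Cfsg.AlgInt) (hM : Cfsg.IsPModular p M) (Q : Subgroup G) [Q.Normal] (hQ : IsPGroup p Q) (hsup : Q ⊔ Subgroup.centralizer (Q : Set G) = ⊤) : Cfsg.blockRank p (Cfsg.principalBlock M G) = Cfsg.blockRank p (Cfsg.principalBlock M (G ⧸ Q)) := by
  classical
  have hp : p.Prime := Fact.out
  cases nonempty_fintype G
  letI := Fintype.ofFinite (G ⧸ Q)
  set B := Cfsg.principalBlock M G with hB0
  have hB : Cfsg.IsPBlock M B := Cfsg.Agent.Block.isPBlock_principalBlock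
  haveI : (Subgroup.centralizer (Q : Set G)).Normal := Subgroup.normal_centralizer
  have hcent : ∀ g : G, ¬ p ∣ orderOf g → g ∈ Subgroup.centralizer (Q : Set G) := by
    intro g hg
    have hq : IsPGroup p (G ⧸ Subgroup.centralizer (Q : Set G)) := by
      refine hQ.of_surjective ((QuotientGroup.mk' _).comp Q.subtype) fun x => ?_
      obtain ⟨y, rfl⟩ := QuotientGroup.mk_surjective x
      obtain ⟨q, hq, c, hc, rfl⟩ := Subgroup.mem_sup_of_normal_right.1 (hsup ▸ Subgroup.mem_top y)
      exact ⟨⟨q, hq⟩, by simp [QuotientGroup.eq, hc]⟩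
    rw [← QuotientGroup.eq_one_iff]
    obtain ⟨k, hk⟩ := IsPGroup.iff_orderOf.1 hq (g : G ⧸ Subgroup.centralizer (Q : Set G))
    refine orderOf_eq_one_iff.1 (Nat.eq_one_of_dvd_coprimes
      (((hp.coprime_iff_not_dvd.2 hg).pow_left k)) (hk ▸ dvd_rfl) ?_)
    exact orderOf_map_dvd (QuotientGroup.mk' _) g
  -- uniqueness of regular lifts
  have huniq : ∀ g g' : G, ¬ p ∣ orderOf g → ¬ p ∣ orderOf g' →
      (g : G ⧸ Q) = (g' : G ⧸ Q) → g = g' := by
    intro g g' hg hg' h
    have hq : g⁻¹ * g' ∈ Q := QuotientGroup.eq.1 h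
    have hc : Commute g (g⁻¹ * g') :=
      (Subgroup.mem_centralizer_iff.1 (hcent g hg) _ hq).symm
    have hg'e : g' = g * (g⁻¹ * g') := by group
    have h1 : (g⁻¹ * g') ^ (orderOf g * orderOf g') = 1 := by
      have h2 : g' ^ (orderOf g * orderOf g') = 1 := by
        rw [mul_comm, pow_mul, pow_orderOf_eq_one, one_pow]
      rw [hg'e, hc.mul_pow, pow_mul g, pow_orderOf_eq_one, one_pow, one_mul] at h2
      rwa [← hg'e] at h2
    obtain ⟨k, hk⟩ := hQ ⟨_, hq⟩
    have h3 : (g⁻¹ * g') ^ p ^ k = 1 := congrArg Subtype.val hk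
    have h4 := Nat.eq_one_of_dvd_coprimes (((hp.coprime_iff_not_dvd.2 fun h' =>
      (hp.dvd_mul.1 h').elim hg hg').pow_left k))
      (orderOf_dvd_of_pow_eq_one h3) (orderOf_dvd_of_pow_eq_one h1)
    exact inv_mul_eq_one.1 (orderOf_eq_one_iff.1 h4)
  have hregmk : ∀ g : G, ¬ p ∣ orderOf g → ¬ p ∣ orderOf (g : G ⧸ Q) := fun g hg h =>
    hg (h.trans (orderOf_map_dvd (QuotientGroup.mk' Q) g))
  let inf : Cfsg.IrrCharacter (G ⧸ Q) → Cfsg.IrrCharacter G := fun ψ =>
    ⟨fun g => (ψ : G ⧸ Q → ℂ) (g : G ⧸ Q),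
      Cfsg.Agent.Char.IsIrr.comp_surjective (QuotientGroup.mk' Q) (QuotientGroup.mk'_surjective Q) ψ.2⟩
  have hblk : ∀ ψ : Cfsg.IrrCharacter (G ⧸ Q), inf ψ ∈ B ↔ ψ ∈ Cfsg.principalBlock M (G ⧸ Q) := by
    intro ψ
    have h := Cfsg.Agent.Block.sameBlock_inflate Q hM hQ
      (fun g hg hg' => absurd (hcent g hg) hg') (Cfsg.Agent.Block.trivialIrr (G ⧸ Q)) ψ
    exact Cfsg.Agent.Block.mem_blockOf.trans (h.symm.trans Cfsg.Agent.Block.mem_blockOf.symm)
  -- the linear map
  let L : (G ⧸ Q → ℂ) →ₗ[ℂ] (G → ℂ) :=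
    { toFun := fun f g => if p ∣ orderOf g then 0 else f (g : G ⧸ Q)
      map_add' := fun f f' => funext fun g => by
        simp only [Pi.add_apply]; split_ifs <;> simp
      map_smul' := fun c f => funext fun g => by
        simp only [Pi.smul_apply, RingHom.id_apply]; split_ifs <;> simp }
  have hL : ∀ ψ : Cfsg.IrrCharacter (G ⧸ Q), L (Cfsg.pRegularPart p (ψ : G ⧸ Q → ℂ)) =
      Cfsg.pRegularPart p (inf ψ : G → ℂ) := fun ψ => funext fun g => by
    show (if p ∣ orderOf g then 0 else Cfsg.pRegularPart p (ψ : G ⧸ Q → ℂ) (g : G ⧸ Q)) = _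
    simp only [Cfsg.Agent.Block.pRegularPart_apply, Cfsg.IsPRegular]
    by_cases hg : p ∣ orderOf g
    · simp [hg]
    · simp [hg, hregmk g hg, inf]
  set V := Submodule.span ℂ ((fun ψ : Cfsg.IrrCharacter (G ⧸ Q) =>
    Cfsg.pRegularPart p (ψ : G ⧸ Q → ℂ)) '' Cfsg.principalBlock M (G ⧸ Q)) with hV
  set W := Submodule.span ℂ ((fun χ : Cfsg.IrrCharacter G =>
    Cfsg.pRegularPart p (χ : G → ℂ)) '' B) with hW
  have hmap : V.map L = W := by
    refine le_antisymm ?_ ?_
    · rw [hV, Submodule.map_span, Submodule.span_le]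
      rintro _ ⟨_, ⟨ψ, hψ, rfl⟩, rfl⟩
      rw [hL]
      exact Submodule.subset_span ⟨inf ψ, (hblk ψ).2 hψ, rfl⟩
    · rw [hW, Submodule.span_le]
      rintro _ ⟨χ, hχ, rfl⟩
      let fb : G ⧸ Q → ℂ := fun x => if hx : p ∣ orderOf x then 0 else
        (χ : G → ℂ) (Cfsg.Agent.Block.exists_regular_lift Q hx).choose
      have hfb : ∀ g : G, ¬ p ∣ orderOf g → fb (g : G ⧸ Q) = (χ : G → ℂ) g := fun g hg => by
        simp only [fb, dif_neg (hregmk g hg)]
        have hs := (Cfsg.Agent.Block.exists_regular_lift Q (hregmk g hg)).choose_spec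
        rw [huniq _ g hs.2 hg hs.1]
      have hcl : Cfsg.IsClassFunction (G ⧸ Q) fb := by
        intro x t
        obtain ⟨u, rfl⟩ := QuotientGroup.mk_surjective t
        by_cases hx : p ∣ orderOf x
        · have hx' : p ∣ orderOf ((u : G ⧸ Q) * x * (u : G ⧸ Q)⁻¹) := by
            rwa [← MulAut.conj_apply, MulEquiv.orderOf_eq]
          simp only [fb, dif_pos hx, dif_pos hx']
        · obtain ⟨g, rfl, hg⟩ := Cfsg.Agent.Block.exists_regular_lift Q hx
          rw [← QuotientGroup.mk_inv, ← QuotientGroup.mk_mul, ← QuotientGroup.mk_mul,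
            hfb _ (by rwa [← MulAut.conj_apply, MulEquiv.orderOf_eq]), hfb g hg,
            Cfsg.Agent.Block.irr_classFun χ g u]
      set c : Cfsg.IrrCharacter (G ⧸ Q) → ℂ := fun ψ => Cfsg.classInner fb (ψ : G ⧸ Q → ℂ)
      have hexp : Cfsg.pRegularPart p (χ : G → ℂ) =
          ∑ ψ, c ψ • Cfsg.pRegularPart p (inf ψ : G → ℂ) := funext fun g => by
        simp only [Finset.sum_apply, Pi.smul_apply, smul_eq_mul,
          Cfsg.Agent.Block.pRegularPart_apply, Cfsg.IsPRegular]
        by_cases hg : p ∣ orderOf g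
        · simp [hg]
        · simp only [hg, not_false_eq_true, if_true, inf]
          rw [← hfb g hg]
          conv_lhs => rw [Cfsg.Agent.Char.classFunction_expansion hcl]
          simp [c, Finset.sum_apply]
      have h1 := proj_self hM hB χ
      rw [if_pos hχ] at h1
      simp only [SetLike.mem_coe]
      rw [← h1]
      have h2 : ∀ η : Cfsg.IrrCharacter G, Cfsg.classInner (Cfsg.pRegularPart p (χ : G → ℂ)) (η : G → ℂ) =
          ∑ ψ, c ψ * Cfsg.classInner (Cfsg.pRegularPart p (inf ψ : G → ℂ)) (η : G → ℂ) := fun η => by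
        conv_lhs => rw [hexp]
        simp only [Cfsg.classInner, Finset.sum_apply, Pi.smul_apply, smul_eq_mul, Finset.sum_mul,
          Finset.mul_sum]
        rw [Finset.sum_comm]
        exact Finset.sum_congr rfl fun ψ _ => Finset.sum_congr rfl fun g _ => by ring
      simp only [h2, Finset.sum_smul, mul_smul]
      rw [Finset.sum_comm]
      refine Submodule.sum_mem _ fun ψ _ => ?_
      rw [← Finset.smul_sum, proj_self hM hB (inf ψ)]
      refine Submodule.smul_mem _ _ ?_
      split_ifs with hm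
      · exact ⟨_, Submodule.subset_span ⟨ψ, (hblk ψ).1 hm, rfl⟩, hL ψ⟩
      · exact zero_mem _
  have hVreg : ∀ f ∈ V, ∀ x : G ⧸ Q, p ∣ orderOf x → f x = 0 := by
    intro f hf x hx
    induction hf using Submodule.span_induction with
    | mem _ h =>
      obtain ⟨ψ, -, rfl⟩ := h
      simp [Cfsg.Agent.Block.pRegularPart_apply, Cfsg.IsPRegular, hx]
    | zero => rfl
    | add _ _ _ _ ha hb => simp [ha, hb]
    | smul _ _ _ ha => simp [ha]
  have hinj : Function.Injective (L.domRestrict V) := by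
    intro a b hab
    refine Subtype.ext (funext fun x => ?_)
    by_cases hx : p ∣ orderOf x
    · rw [hVreg _ a.2 x hx, hVreg _ b.2 x hx]
    · obtain ⟨g, rfl, hg⟩ := Cfsg.Agent.Block.exists_regular_lift Q hx
      have h1 := congrFun hab g
      simpa [L, hg] using h1
  show Module.finrank ℂ W = Module.finrank ℂ V
  rw [← hmap, ← LinearMap.range_domRestrict, LinearMap.finrank_range_of_inj hinj]

end Cfsg.Agent.S4571
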