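import Cfsg.Statements.S0989
import Mathlib
-- import your own Cfsg.Agent.* helpers here

set_option autoImplicit false
open Cfsg

namespace Cfsg.Agent.S0989

/-- In the symmetric group on p or p + 1 letters, p a prime, the normalizer of a Sylow p-subgroup has order p * (p - 1). -/
theorem result {α : Type*} [Fintype α] [DecidableEq α] (p : ℕ) [Fact p.Prime] (hα : Fintype.card α = p ∨ Fintype.card α = p + 1) (P : Sylow p (Equiv.Perm α)) : Nat.card ↥(Subgroup.normalizer ((P : Subgroup (Equiv.Perm α)) : Set (Equiv.Perm α))) = p * (p - 1) := by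
  classical
  have hp : p.Prime := Fact.out
  have hcardS : Nat.card (Equiv.Perm α) = (Fintype.card α).factorial := by
    rw [Nat.card_eq_fintype_card, Fintype.card_perm]
  have hfac : p.factorial = p * (p - 1).factorial := (Nat.mul_factorial_pred hp.ne_zero).symm
  have hndvd : ¬ p ∣ (p - 1).factorial := by
    rw [hp.dvd_factorial]; have := hp.pos; omega
  obtain ⟨r, hr, hrp, hrα⟩ : ∃ r, (r = 1 ∧ Fintype.card α = p ∨ r = p + 1 ∧ Fintype.card α = p + 1) ∧
      ¬ p ∣ r ∧ (Fintype.card α).factorial = p * ((p - 1).factorial * r) := by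
    rcases hα with h | h
    · exact ⟨1, Or.inl ⟨rfl, h⟩, fun hd => hp.one_lt.ne' (Nat.dvd_one.1 hd), by rw [h, hfac, mul_one]⟩
    · refine ⟨p + 1, Or.inr ⟨rfl, h⟩, fun hd => ?_, by rw [h, Nat.factorial_succ, hfac]; ring⟩
      exact hp.one_lt.ne' (Nat.dvd_one.1 ((Nat.dvd_add_right (dvd_refl p)).1 hd))
  have hPc : Nat.card (P : Subgroup (Equiv.Perm α)) = p := by
    rw [P.card_eq_multiplicity, hcardS, hrα,
      Nat.factorization_mul hp.ne_zero (Nat.mul_ne_zero (Nat.factorial_ne_zero _) (by omega)),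
      Finsupp.add_apply, hp.factorization_self,
      Nat.factorization_eq_zero_of_not_dvd (fun hd => (hp.dvd_mul.1 hd).elim hndvd hrp), pow_one]
  set N := Subgroup.normalizer ((P : Subgroup (Equiv.Perm α)) : Set (Equiv.Perm α))
  obtain ⟨g, hgP, hg⟩ : ∃ g ∈ (P : Subgroup (Equiv.Perm α)), orderOf g = p := by
    obtain ⟨⟨g, hg⟩, hgo⟩ := exists_prime_orderOf_dvd_card' (G := (P : Subgroup (Equiv.Perm α))) p (by rw [hPc])
    exact ⟨g, hg, by rw [← hgo, Subgroup.orderOf_mk]⟩
  have hPg : (P : Subgroup (Equiv.Perm α)) = Subgroup.zpowers g :=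
    (Subgroup.eq_of_le_of_card_ge (Subgroup.zpowers_le.2 hgP) (by rw [hPc, Nat.card_zpowers, hg])).symm
  have hcyc : ∀ h : Equiv.Perm α, orderOf h = p → h.cycleType = {p} := by
    intro h ho
    obtain ⟨m, hm⟩ := Equiv.Perm.cycleType_prime_order (σ := h) (by rw [ho]; exact hp)
    rw [ho] at hm
    have h1 : h.cycleType.sum ≤ Fintype.card α := by
      rw [Equiv.Perm.sum_cycleType]; exact Finset.card_le_univ _
    rw [hm, Multiset.sum_replicate, smul_eq_mul] at h1
    have hm0 : m = 0 := by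
      by_contra hm0
      have h3 : 2 * p ≤ (m + 1) * p := Nat.mul_le_mul_right p (by omega)
      have := hp.two_le
      rcases hα with h2 | h2 <;> omega
    rw [hm, hm0]; rfl
  have hCcard : Nat.card (Subgroup.centralizer ({g} : Set (Equiv.Perm α))) = p := by
    rw [Equiv.Perm.nat_card_centralizer g, hcyc g hg]
    rcases hr with ⟨-, h⟩ | ⟨-, h⟩ <;> simp [h]
  have hCP : Subgroup.centralizer ({g} : Set (Equiv.Perm α)) = Subgroup.zpowers g := by
    refine (Subgroup.eq_of_le_of_card_ge ?_ (by rw [hCcard, Nat.card_zpowers, hg])).symm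
    rw [Subgroup.zpowers_le, Subgroup.mem_centralizer_singleton_iff]
  -- N is in bijection with pairs (generator, centralizer element)
  have hmem : ∀ x : Equiv.Perm α, x ∈ N ↔ ∃ k : ℤ, x * g * x⁻¹ = g ^ k := by
    intro x
    constructor
    · intro hx
      have := (Subgroup.mem_normalizer_iff.1 hx g).1 hgP
      rw [hPg, Subgroup.mem_zpowers_iff] at this
      obtain ⟨k, hk⟩ := this
      exact ⟨k, hk.symm⟩
    · rintro ⟨k, hk⟩
      refine Subgroup.mem_normalizer_fintype fun y hy => ?_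
      rw [SetLike.mem_coe, hPg, Subgroup.mem_zpowers_iff] at hy ⊢
      obtain ⟨j, rfl⟩ := hy
      exact ⟨k * j, by rw [zpow_mul, ← hk, conj_zpow]⟩
  let f : N → {y : (P : Subgroup (Equiv.Perm α)) // y ≠ 1} := fun x =>
    ⟨⟨(x : Equiv.Perm α) * g * (x : Equiv.Perm α)⁻¹, (Subgroup.mem_normalizer_iff.1 x.2 g).1 hgP⟩, fun h => by
      have h' : (x : Equiv.Perm α) * g * (x : Equiv.Perm α)⁻¹ = 1 := congrArg Subtype.val h
      rw [mul_inv_eq_one, mul_eq_left] at h'
      rw [h', orderOf_one] at hg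
      exact hp.one_lt.ne hg⟩
  haveI := Fintype.ofFinite {y : (P : Subgroup (Equiv.Perm α)) // y ≠ 1}
  rw [← Nat.card_congr (Equiv.sigmaFiberEquiv f), Nat.card_sigma]
  have hfib : ∀ y, Nat.card {x // f x = y} = p := by
    rintro ⟨⟨y, hy⟩, hy1⟩
    have hyo : orderOf y = p := by
      have h1 : orderOf (⟨y, hy⟩ : (P : Subgroup (Equiv.Perm α))) = p := by
        refine orderOf_eq_prime ?_ hy1
        have h := pow_card_eq_one' (x := (⟨y, hy⟩ : (P : Subgroup (Equiv.Perm α))))
        rwa [hPc] at h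
      rwa [Subgroup.orderOf_mk] at h1
    obtain ⟨c, hc⟩ := isConj_iff.1 (Equiv.Perm.isConj_iff_cycleType_eq.2 ((hcyc g hg).trans (hcyc y hyo).symm))
    have hcN : c ∈ N := by
      rw [hmem]
      obtain ⟨k, hk⟩ := Subgroup.mem_zpowers_iff.1 (hPg ▸ hy)
      exact ⟨k, hc.trans hk.symm⟩
    refine Eq.trans ?_ hCcard
    refine Nat.card_congr
      { toFun := fun x => ⟨c⁻¹ * (x.1 : Equiv.Perm α), ?_⟩
        invFun := fun u => ⟨⟨c * (u : Equiv.Perm α), mul_mem hcN ?_⟩, ?_⟩
        left_inv := fun x => Subtype.ext (Subtype.ext (mul_inv_cancel_left c _))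
        right_inv := fun u => Subtype.ext (inv_mul_cancel_left c _) }
    · have hx : (x.1 : Equiv.Perm α) * g * (x.1 : Equiv.Perm α)⁻¹ = y :=
        congrArg (fun z => ((z.1 : (P : Subgroup (Equiv.Perm α))) : Equiv.Perm α)) x.2
      rw [Subgroup.mem_centralizer_singleton_iff]
      calc c⁻¹ * (x.1 : Equiv.Perm α) * g = c⁻¹ * ((x.1 : Equiv.Perm α) * g * (x.1 : Equiv.Perm α)⁻¹) * (x.1 : Equiv.Perm α) := by group
        _ = c⁻¹ * (c * g * c⁻¹) * (x.1 : Equiv.Perm α) := by rw [hx, hc]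
        _ = _ := by group
    · rw [hmem]
      exact ⟨1, by rw [Subgroup.mem_centralizer_singleton_iff.1 u.2, zpow_one, mul_inv_cancel_right]⟩
    · apply Subtype.ext; apply Subtype.ext
      show c * (u : Equiv.Perm α) * g * (c * (u : Equiv.Perm α))⁻¹ = y
      rw [← hc, mul_assoc c, Subgroup.mem_centralizer_singleton_iff.1 u.2]
      group
  rw [Finset.sum_congr rfl (fun y _ => hfib y), Finset.sum_const, smul_eq_mul, Finset.card_univ,
    ← Nat.card_eq_fintype_card, mul_comm]
  congr 1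
  rw [Nat.card_eq_fintype_card, Fintype.card_subtype_compl, Fintype.card_subtype_eq,
    ← Nat.card_eq_fintype_card, hPc]

end Cfsg.Agent.S0989
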