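import Cfsg.Statements.S0991
-- import your own Cfsg.Agent.* helpers here

set_option autoImplicit false
open Cfsg

namespace Cfsg.Agent.S0991

/-- Embedding Theorem: if a non-abelian finite simple group has a proper subgroup of index n, then it is isomorphic to a subgroup of the alternating group of degree n. -/
theorem result {G : Type*} [Group G] [Finite G] [IsSimpleGroup G] (hG : ¬ IsMulCommutative G) (H : Subgroup G) (hH : H ≠ ⊤) : ∃ f : G →* ↥(alternatingGroup (Fin H.index)), Function.Injective f := by
  classical
  let φ : G →* Equiv.Perm (Fin H.index) :=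
    ((Finite.equivFinOfCardEq (show Nat.card (G ⧸ H) = H.index from rfl)).permCongrHom.toMonoidHom).comp
      (MulAction.toPermHom G (G ⧸ H))
  have hφ : φ.ker = ⊥ := by
    rcases (MonoidHom.normal_ker φ).eq_bot_or_eq_top with h | h
    · exact h
    · exfalso
      apply hH
      rw [eq_top_iff]
      intro g _
      have hg : φ g = 1 := by
        rw [← MonoidHom.mem_ker, h]; trivial
      simp only [φ, MonoidHom.coe_comp, Function.comp_apply, MulEquiv.coe_toMonoidHom,
        EmbeddingLike.map_eq_one_iff] at hg
      have h1 := Equiv.Perm.congr_fun hg ((1 : G) : G ⧸ H)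
      simp only [MulAction.toPermHom_apply, MulAction.toPerm_apply, Equiv.Perm.coe_one, id_eq,
        MulAction.Quotient.smul_coe, smul_eq_mul, mul_one] at h1
      have h2 := QuotientGroup.eq.1 h1
      simpa using inv_mem h2
  have hinj : Function.Injective φ := (MonoidHom.ker_eq_bot_iff φ).1 hφ
  have hs : (Equiv.Perm.sign.comp φ).ker = ⊤ := by
    rcases (MonoidHom.normal_ker (Equiv.Perm.sign.comp φ)).eq_bot_or_eq_top with h | h
    · exfalso
      refine hG ⟨⟨fun a b => ?_⟩⟩
      exact (MonoidHom.ker_eq_bot_iff _).1 h (by rw [map_mul, map_mul, mul_comm])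
    · exact h
  refine ⟨φ.codRestrict (alternatingGroup (Fin H.index)) (fun g => ?_), ?_⟩
  · rw [Equiv.Perm.mem_alternatingGroup]
    have : g ∈ (Equiv.Perm.sign.comp φ).ker := by rw [hs]; trivial
    simpa [MonoidHom.mem_ker] using this
  · intro a b h
    exact hinj (congrArg Subtype.val h)

end Cfsg.Agent.S0991
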