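import Cfsg.Statements.S4441
import Cfsg.Agent.Lib.Char.DefectOneBasics
import Cfsg.Agent.Lib.Char.PairMax

set_option autoImplicit false
open Cfsg

namespace Cfsg.Agent.S4441

open Cfsg.Agent.Block Cfsg.Agent.Char Cfsg.Agent.Char.BP

/-- Let p be an odd prime and G a finite group whose Sylow p-subgroup P has order p; let C = C_G(P), N = N_G(P), e the index of C in N and t = (p − 1)/e; fix a maximal ideal M of the algebraic integers containing p and let B₀ be the principal block. Then B₀ is the disjoint union of a set X of e characters and a set Y of t characters such that: each χ ∈ X has a sign ε_χ with χ(1) ≡ ε_χ (mod p) and χ(x y) = ε_χ for every non-identity x ∈ P and every p-regular y ∈ C; all members of Y agree on the p-regular elements of G; there is one sign ε with θ(1) ≡ ε e (mod p) for every θ ∈ Y; and for every θ ∈ Y and every p-regular g, ε θ(g) = Σ_{χ ∈ X} ε_χ χ(g). -/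
theorem result {G : Type*} [Group G] [Fintype G] (p : ℕ) [Fact p.Prime] (M : Ideal Cfsg.AlgInt) (hM : Cfsg.IsPModular p M) (hodd : p ≠ 2) (P : Sylow p G) (hP : Nat.card P = p) (e : ℕ) (he : (Subgroup.centralizer ((P : Subgroup G) : Set G)).relIndex (Subgroup.normalizer ((P : Subgroup G) : Set G)) = e) : ∃ X Y : Set (Cfsg.IrrCharacter G), Cfsg.principalBlock M G = X ∪ Y ∧ Disjoint X Y ∧ Nat.card X = e ∧ Nat.card Y = (p - 1) / e ∧ ∃ (εX : Cfsg.IrrCharacter G → ℤ) (ε : ℤ), (∀ χ ∈ X, (εX χ = 1 ∨ εX χ = -1) ∧ (Cfsg.charDegree (χ : G → ℂ) : ℤ) ≡ εX χ [ZMOD p] ∧ ∀ x : G, x ∈ (P : Subgroup G) → x ≠ 1 → ∀ y : G, y ∈ Subgroup.centralizer ((P : Subgroup G) : Set G) → ¬ p ∣ orderOf y → (χ : G → ℂ) (x * y) = (εX χ : ℂ)) ∧ (ε = 1 ∨ ε = -1) ∧ (∀ θ ∈ Y, (Cfsg.charDegree (θ : G → ℂ) : ℤ) ≡ ε * (e : ℤ) [ZMOD p]) ∧ (∀ θ ∈ Y, ∀ θ' ∈ Y, ∀ g : G, ¬ p ∣ orderOf g → (θ : G → ℂ) g = (θ' : G → ℂ) g) ∧ ∀ θ ∈ Y, ∀ g : G, ¬ p ∣ orderOf g → (ε : ℂ) * (θ : G → ℂ) g = ∑ᶠ χ ∈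 X, (εX χ : ℂ) * (χ : G → ℂ) g := by
  classical
  have hp : p.Prime := Fact.out
  have hsyl : ¬ p ∣ (P : Subgroup G).index := P.not_dvd_index
  set N := Subgroup.normalizer ((P : Subgroup G) : Set G) with hN
  have hθ : trivialIrr (CG (P : Subgroup G)) ∈ principalBlock M (CG (P : Subgroup G)) :=
    trivial_mem_principalBlock hM
  have hθv : ∀ x : CG (P : Subgroup G),
      (trivialIrr (CG (P : Subgroup G)) : CG (P : Subgroup G) → ℂ) x = 1 := fun _ => rfl
  have haB : OfB p M (principalBlock M G) (⟨(P : Subgroup G), principalBlock M (CG (P : Subgroup G))⟩ :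
      BrauerPairIdx G) := prPair_ofB hM P.isPGroup'
  have hd : blockDefect p (principalBlock M G) ≠ 0 := by
    have h1 : sInf ((fun χ : IrrCharacter G => (charDegree (χ : G → ℂ)).factorization p) ''
        principalBlock M G) = 0 := Nat.eq_zero_of_le_zero (Nat.sInf_le ⟨trivialIrr G,
      trivial_mem_principalBlock hM, by
        simp [show charDegree (trivialIrr G : G → ℂ) = 1 from Nat.cast_injective (R := ℂ)
          ((charDeg_spec' (trivialIrr G)).symm.trans (Nat.cast_one (R := ℂ)).symm)]⟩)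
    rw [blockDefect, h1, Nat.sub_zero, ← P.card_mul_index, show Nat.card (P : Subgroup G) = p from hP,
      Nat.factorization_mul hp.ne_zero Subgroup.index_ne_zero_of_finite, Finsupp.add_apply,
      hp.factorization_self]
    omega
  have hT : ∀ g : G, g ∈ N ↔ (g ∈ Subgroup.normalizer ((P : Subgroup G) : Set G) ∧
      ∀ c c' : CG (P : Subgroup G), (c' : G) = g * c * g⁻¹ →
        (trivialIrr (CG (P : Subgroup G)) : CG (P : Subgroup G) → ℂ) c' =
          (trivialIrr (CG (P : Subgroup G)) : CG (P : Subgroup G) → ℂ) c) :=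
    fun g => ⟨fun h => ⟨h, fun c c' _ => rfl⟩, fun h => h.1⟩
  obtain ⟨u₀, hu₀, hu₁⟩ : ∃ u ∈ (P : Subgroup G), u ≠ 1 := by
    refine (Subgroup.bot_or_exists_ne_one (P : Subgroup G)).resolve_left fun h => hp.one_lt.ne ?_
    rw [← hP, show Nat.card P = Nat.card (P : Subgroup G) from rfl, h, Subgroup.card_bot]
  have hθP : ∀ x : CG (P : Subgroup G), (x : G) ∈ (P : Subgroup G) →
      (trivialIrr (CG (P : Subgroup G)) : CG (P : Subgroup G) → ℂ) x =
        (trivialIrr (CG (P : Subgroup G)) : CG (P : Subgroup G) → ℂ) 1 := fun _ _ => rfl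
  obtain ⟨R, X, y, c, ε, hD⟩ := DefectOne.exists_data hM hP hsyl hθ hθP isPBlock_principalBlock
    haB hd hT hu₀ hu₁
  obtain ⟨hdX, hdY⟩ := DefectOne.degrees hM hP hsyl hθ hθP haB hT hu₀ hu₁ hD
  obtain ⟨-, -, hquot⟩ := DefectOne.counts hD
  have hdeg : charDegree (trivialIrr (CG (P : Subgroup G)) : CG (P : Subgroup G) → ℂ) = 1 :=
    Nat.cast_injective (R := ℂ)
      ((charDeg_spec' (trivialIrr (CG (P : Subgroup G)))).symm.trans (Nat.cast_one (R := ℂ)).symm)
  rw [he] at hquot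
  refine ⟨(X : Set (IrrCharacter G)), Set.range y, ?_, ?_, ?_, hquot, fun χ => -c χ, ε,
    fun χ hχ => ⟨?_, ?_, fun x hx hx1 v hv hvr => ?_⟩, hD.ε_sign, ?_, DefectOne.Y_agree hD, ?_⟩
  · ext χ
    simp [hD.mem_iff χ]
  · rw [Set.disjoint_right]
    rintro _ ⟨q, rfl⟩ h
    exact hD.disj q h
  · rw [Nat.card_coe_set_eq, Set.ncard_coe_finset, hD.card_X, he]
  · rcases hD.c_sign χ hχ with h | h <;> simp [h]
  · have h := hdX χ hχ
    rw [Subgroup.relIndex_self, hdeg] at h
    simpa using h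
  · letI : Fintype (N ⧸ N.subgroupOf N) := Fintype.ofFinite _
    rw [DefectOne.value_X hM hP hsyl hθ hθP haB hT hu₀ hu₁ hD hN hχ hx hx1 (v := ⟨v, hv⟩)
      (by rwa [Subgroup.orderOf_mk])]
    have hone : ∀ q : N ⧸ N.subgroupOf N, extendByZero (CG (P : Subgroup G))
        (trivialIrr (CG (P : Subgroup G)) : CG (P : Subgroup G) → ℂ)
          ((q.out : G)⁻¹ * v * q.out) = 1 := fun q => by
      have h1 : (q.out : G)⁻¹ * v * q.out ∈ CG (P : Subgroup G) := by
        have h2 := (Cfsg.Agent.Block.centEquiv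
          (inv_mem q.out.2 : (q.out : G)⁻¹ ∈ Subgroup.normalizer ((P : Subgroup G) : Set G))
          ⟨v, hv⟩).2
        rw [centEquiv_val, inv_inv] at h2
        exact h2
      rw [extendByZero_of_mem _ h1, hθv]
    rw [Finset.sum_congr rfl fun q _ => hone q, Finset.sum_const, Finset.card_univ,
      ← Nat.card_eq_fintype_card, show Nat.card (N ⧸ N.subgroupOf N) = N.relIndex N from rfl,
      Subgroup.relIndex_self]
    simp
  · rintro _ ⟨q, rfl⟩
    have h := hdY q
    rw [he, Subgroup.relIndex_self, hdeg, mul_one, mul_one] at h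
    exact h
  · rintro _ ⟨q, rfl⟩ g hg
    rw [finsum_mem_coe_finset, eq_comm]
    have h := hD.regular q g hg
    push_cast
    simp only [neg_mul, Finset.sum_neg_distrib]
    linear_combination -h

end Cfsg.Agent.S4441
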