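import Cfsg.Statements.S4503
import Cfsg.Agent.Lib.Char.SmallDegreeMain

set_option autoImplicit false
open Cfsg

namespace Cfsg.Agent.S4503

/-- Let G be a finite group whose order is divisible by the prime p exactly once and which has no normal subgroup of order p. Then every faithful character χ of G has degree at least (p − 1)/2: 2·χ(1) + 1 ≥ p. -/
theorem result {G : Type*} [Group G] [Finite G] (p : ℕ) (hp : p.Prime) (hdiv : p ∣ Nat.card G) (hsq : ¬ p ^ 2 ∣ Nat.card G) (hnn : ∀ H : Subgroup G, H.Normal → Nat.card H ≠ p) (χ : G → ℂ) (hχ : Cfsg.IsCharacter G χ) (hfaith : ∀ g : G, χ g = χ 1 → g = 1) : p ≤ 2 * Cfsg.charDegree χ + 1 := by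
  haveI : Fact p.Prime := ⟨hp⟩
  letI : Fintype G := Fintype.ofFinite G
  by_contra hcon
  push Not at hcon
  rcases hp.eq_two_or_odd' with rfl | ⟨k, hk⟩
  · have hd : Cfsg.charDegree χ = 0 := by omega
    have h1 : χ 1 = 0 := by rw [Cfsg.Agent.Block.charDeg_spec hχ, hd, Nat.cast_zero]
    have h0 := Cfsg.Agent.Char.IsChar.eq_zero_of_one_eq_zero hχ h1
    have htriv : ∀ g : G, g = 1 := fun g => hfaith g (by rw [h0]; rfl)
    haveI : Subsingleton G := ⟨fun a b => (htriv a).trans (htriv b).symm⟩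
    rw [Nat.card_of_subsingleton (1 : G)] at hdiv
    exact hp.not_dvd_one hdiv
  · obtain ⟨H, hH, hHp⟩ := Cfsg.Agent.Char.SmallDeg.exists_normal (p := p) _ G rfl hdiv hsq χ hχ hfaith
      (by omega)
    exact hnn H hH hHp

end Cfsg.Agent.S4503
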