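import Cfsg.Statements.S0668
import Mathlib
-- import your own Cfsg.Agent.* helpers here

set_option autoImplicit false
open Cfsg

namespace Cfsg.Agent.S0668

/-- The equivariant linear maps between the permutation modules of two finite `G`-sets form a space whose dimension is the number of `G`-orbits on the product of the two sets. -/
theorem result {G : Type*} [Group G] {K : Type*} [Field K] {Ω₁ Ω₂ : Type*} [Fintype Ω₁] [Fintype Ω₂] [MulAction G Ω₁] [MulAction G Ω₂] : Module.finrank K ((Cfsg.permRep K G Ω₁).linHom (Cfsg.permRep K G Ω₂)).invariants = Nat.card (MulAction.orbitRel.Quotient G (Ω₁ × Ω₂)) := by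
  classical
  set ρ := (Cfsg.permRep K G Ω₁).linHom (Cfsg.permRep K G Ω₂)
  set Q := MulAction.orbitRel.Quotient G (Ω₁ × Ω₂)
  haveI : Fintype Q := Fintype.ofFinite _
  have hδ : ∀ (g : G) (x : Ω₁), Cfsg.permRep K G Ω₁ g (Pi.single x (1 : K)) = Pi.single (g • x) (1 : K) := by
    intro g x
    funext z
    show Pi.single (M := fun _ : Ω₁ => K) x 1 (g⁻¹ • z) = _
    simp only [Pi.single_apply, inv_smul_eq_iff]
  have hinv : ∀ f ∈ ρ.invariants, ∀ (g : G) (x : Ω₁) (y : Ω₂),
      f (Pi.single (g • x) 1) (g • y) = f (Pi.single x 1) y := by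
    intro f hf g x y
    have := congrFun (LinearMap.congr_fun (hf g) (Pi.single (g • x) 1)) (g • y)
    rw [Representation.linHom_apply, LinearMap.comp_apply, LinearMap.comp_apply, hδ] at this
    rw [← this]
    show f (Pi.single (g⁻¹ • g • x) 1) (g⁻¹ • g • y) = _
    rw [inv_smul_smul, inv_smul_smul]
  let Φ : ρ.invariants →ₗ[K] (Q → K) :=
    { toFun := fun f q => Quotient.liftOn' q (fun xy => (f : (Ω₁ → K) →ₗ[K] (Ω₂ → K)) (Pi.single xy.1 1) xy.2)
        (fun a b hab => by
          obtain ⟨g, hg⟩ := hab
          rw [← hg]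
          exact hinv _ f.2 g b.1 b.2)
      map_add' := fun f₁ f₂ => funext fun q => Quotient.inductionOn' q (fun _ => rfl)
      map_smul' := fun c f => funext fun q => Quotient.inductionOn' q (fun _ => rfl) }
  have hbij : Function.Bijective Φ := by
    constructor
    · intro f₁ f₂ h
      apply Subtype.ext
      refine (Pi.basisFun K Ω₁).ext fun x => funext fun y => ?_
      rw [Pi.basisFun_apply]
      exact congrFun h (Quotient.mk'' (x, y))
    · intro c
      let f : (Ω₁ → K) →ₗ[K] (Ω₂ → K) :=
        LinearMap.pi fun y => ∑ x, c (Quotient.mk'' (x, y)) • LinearMap.proj x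
      have hf : f ∈ ρ.invariants := by
        intro g
        refine (Pi.basisFun K Ω₁).ext fun x => funext fun y => ?_
        rw [Representation.linHom_apply, LinearMap.comp_apply, LinearMap.comp_apply, Pi.basisFun_apply, hδ]
        show f (Pi.single (g⁻¹ • x) 1) (g⁻¹ • y) = f (Pi.single x 1) y
        simp only [f, LinearMap.pi_apply, LinearMap.sum_apply, LinearMap.smul_apply, LinearMap.proj_apply,
          smul_eq_mul, Pi.single_apply, mul_ite, mul_one, mul_zero, Finset.sum_ite_eq', Finset.mem_univ,
          if_true]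
        exact congrArg c (Quotient.sound' ⟨g⁻¹, rfl⟩)
      refine ⟨⟨f, hf⟩, funext fun q => Quotient.inductionOn' q (fun xy => ?_)⟩
      show f (Pi.single xy.1 1) xy.2 = c (Quotient.mk'' xy)
      simp [f, LinearMap.pi_apply, Pi.single_apply]
  rw [(LinearEquiv.ofBijective Φ hbij).finrank_eq, Module.finrank_fintype_fun_eq_card,
    Nat.card_eq_fintype_card]

end Cfsg.Agent.S0668
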