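import Cfsg.Statements.S3360
import Mathlib
import Cfsg.Agent.Lib.Recog.HuppertPrimitive
import Cfsg.Agent.Lib.Recog.HuppertSmall
-- import your own Cfsg.Agent.* helpers here

set_option autoImplicit false
open Cfsg

namespace Cfsg.Agent.S3360

/-- Let q be a prime and V a non-trivial finite vector space over the field with q elements, and let G be a finite solvable group acting faithfully and linearly on V and transitively on the non-zero vectors. Then either V can be identified with the additive group of a finite field F in such a way that every element of G acts as x ↦ a·σ(x) for some a ∈ F and some field automorphism σ, or the number of elements of V is one of 3^2, 5^2, 7^2, 11^2, 23^2, 3^4. -/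
theorem result
    (q : ℕ) [Fact q.Prime] {V : Type*} [AddCommGroup V] [Module (ZMod q) V] [Finite V] [Nontrivial V]
    {G : Type*} [Group G] [Finite G] (hsol : Group.IsSolvable G)
    (ρ : G →* (V ≃ₗ[ZMod q] V)) (hρ : Function.Injective ρ)
    (htrans : ∀ v w : V, v ≠ 0 → w ≠ 0 → ∃ g : G, ρ g v = w) :
    (∃ (F : Type) (_ : Field F) (_ : Fintype F) (e : V ≃+ F),
        ∀ g : G, ∃ (a : F) (σ : F ≃+* F), ∀ v : V, e (ρ g v) = a * σ (e v)) ∨
    Nat.card V ∈ ({9, 25, 49, 121, 529, 81} : Set ℕ) := by
  classical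
  have hsol' : Group.IsSolvable G := hsol
  have ht : Recog.HuppertCases.Trans ρ := htrans
  set n := Module.finrank (ZMod q) V with hn
  have hn0 : 0 < n := Module.finrank_pos
  have hcard : Nat.card V = q ^ n := Recog.HuppertCases.card_V
  have hq := (Fact.out : q.Prime)
  rcases (show n = 1 ∨ n = 2 ∨ 3 ≤ n by omega) with h1 | h2 | h3
  · exact Or.inl (Recog.HuppertCases.semilinear (A := (⊥ : Subgroup G)) inferInstance
      (fun a ha b _ => by rw [Subgroup.mem_bot.mp ha]; exact Commute.one_left b)
      (Recog.HuppertCases.irred_of_finrank_one h1 _))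
  · refine (Recog.HuppertSmall.dim_two hρ ht h2).imp id fun h => ?_
    rw [hcard, h2]
    simp only [Set.mem_insert_iff, Set.mem_singleton_iff] at h ⊢
    rcases h with rfl | rfl | rfl | rfl | rfl <;> norm_num
  by_cases h26 : q = 2 ∧ n = 6
  · exact Or.inl (Recog.HuppertSmall.dim_six hρ ht h26.1 h26.2)
  by_cases h34 : q = 3 ∧ n = 4
  · right
    rw [hcard, h34.1, h34.2]
    norm_num
  left
  by_cases hexc : (q, n) ∈ Recog.Zsigmondy.exceptions
  · obtain ⟨r, hP⟩ := Recog.Zsigmondy.exists_primitive hq.two_le (by omega : 2 ≤ n) h26 (fun h => by omega)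
    refine (Recog.HuppertPrimitive.main hρ ht hP).resolve_right ?_
    rintro ⟨-, -, s, j, hs, hsq, hj⟩
    rw [← hn] at hj
    have hd : ∀ p : ℕ, p.Prime → p ∣ n → p = s := fun p hp hpn =>
      (Nat.prime_dvd_prime_iff_eq hp hs).mp (hp.dvd_of_dvd_pow (hj ▸ dvd_mul_of_dvd_left hpn n))
    simp only [Recog.Zsigmondy.exceptions, List.mem_cons, Prod.mk.injEq, List.not_mem_nil, or_false] at hexc
    rcases hexc with ⟨ha, hb⟩ | ⟨ha, hb⟩ | ⟨ha, hb⟩ | ⟨ha, hb⟩ | ⟨ha, hb⟩ | ⟨ha, hb⟩ | ⟨ha, hb⟩ | ⟨ha, hb⟩
    · have := hd 2 Nat.prime_two (by rw [hb]; norm_num); omega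
    · exact h34 ⟨ha, hb⟩
    · exact h26 ⟨ha, hb⟩
    · have := hd 2 Nat.prime_two (by rw [hb]; norm_num); have := hd 3 Nat.prime_three (by rw [hb]; norm_num); omega
    · have := hd 2 Nat.prime_two (by rw [hb]; norm_num); have := hd 3 Nat.prime_three (by rw [hb]; norm_num); omega
    · have := hd 2 Nat.prime_two (by rw [hb]; norm_num); have := hd 5 (by norm_num) (by rw [hb]; norm_num); omega
    · have := hd 2 Nat.prime_two (by rw [hb]; norm_num); have := hd 3 Nat.prime_three (by rw [hb]; norm_num); omega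
    · have := hd 2 Nat.prime_two (by rw [hb]; norm_num); have := hd 3 Nat.prime_three (by rw [hb]; norm_num); omega
  · obtain ⟨r, hP, hlarge⟩ := Recog.Zsigmondy.exists_large hq.two_le h3 hexc
    refine (Recog.HuppertPrimitive.main hρ ht hP).resolve_right ?_
    rintro ⟨hr, hr2, -⟩
    rw [← hn] at hr hr2
    rcases hlarge with h | h
    · omega
    · exact hr2 h

end Cfsg.Agent.S3360
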