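import Cfsg.Statements.S4508
import Cfsg.Agent.Lib.Char.SelfCentChars
import Cfsg.Agent.Lib.Char.Det
import Cfsg.Agent.Lib.Char.Eigen

set_option autoImplicit false
open Cfsg

namespace Cfsg.Agent.S4508

open Cfsg.Agent.Block Cfsg.Agent.Char Cfsg.Agent.Char.SCP
open scoped commutatorElement

/-- A character with value `-1` on all elements of order `p` vanishes on the rest of the normalizer. -/
theorem vanish_normalizer {G : Type*} [Group G] [Finite G] {p : ℕ} [Fact p.Prime] {x : G}
    (h : Hyp p x) {χ : G → ℂ} (hχ : IsCharacter G χ) (hd : χ 1 = ((p - 1 : ℕ) : ℂ))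
    (hv : ∀ g : G, orderOf g = p → χ g = -1) {n : G} (hn : n ∈ N x) (hnP : n ∉ P x) : χ n = 0 := by
  classical
  have hp : p.Prime := Fact.out
  letI := Fintype.ofFinite (N x)
  set Q := (P x).subgroupOf (N x) with hQ
  letI := Fintype.ofFinite Q
  letI := Fintype.ofFinite (P x)
  have hres : IsCharacter (N x) (fun g : N x => χ g) := IsChar.res hχ (N x)
  let eQ : Q ≃ P x := (Subgroup.subgroupOfEquivOfLe (Subgroup.le_normalizer (H := P x))).toEquiv
  have hcardQ : Nat.card Q = p := by rw [Nat.card_congr eQ, card_P h]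
  have hsum : ∑ q : Q, χ ((q : N x) : G) = 0 := by
    rw [Fintype.sum_equiv eQ (fun q : Q => χ ((q : N x) : G)) (fun v : P x => χ v) (fun q => rfl),
      ← Finset.add_sum_erase _ _ (Finset.mem_univ (1 : P x)),
      Finset.sum_congr rfl (g := fun _ => (-1 : ℂ)) fun v hv' => hv _ (orderOf_of_mem h v.2
        fun e1 => Finset.ne_of_mem_erase hv' (Subtype.ext e1)),
      Finset.sum_const, Finset.card_erase_of_mem (Finset.mem_univ _), Finset.card_univ,
      ← Nat.card_eq_fintype_card, card_P h, OneMemClass.coe_one, hd]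
    simp
  obtain ⟨a, -, hdec⟩ := IsChar.exists_decomp_inner hres
  have hz : avgN Q (fun g : N x => χ g) = 0 := by
    rw [hdec, avgN_sum]
    refine Finset.sum_eq_zero fun φ _ => ?_
    rw [avgN_smul]
    by_cases ha : a φ = 0
    · rw [ha, Nat.cast_zero, zero_smul]
    rcases avgN_irr Q φ.2 with ⟨-, h1⟩ | ⟨h1, -⟩
    · rw [h1, smul_zero]
    exfalso
    -- a constituent trivial on the Sylow subgroup gives a positive mean
    have hk : ∀ ψ : IrrCharacter (N x), ∃ k : ℕ,
        ∑ q : Q, (ψ : N x → ℂ) (q : N x) = (Nat.card Q : ℂ) * k := by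
      intro ψ
      rcases avgN_irr Q ψ.2 with ⟨h2, -⟩ | ⟨h2, -⟩
      · refine ⟨0, ?_⟩
        simp only [classInner, map_one, mul_one, mul_eq_zero, inv_eq_zero, Nat.cast_eq_zero,
          Nat.card_pos.ne', false_or] at h2
        rw [h2, Nat.cast_zero, mul_zero]
      · obtain ⟨k, -, hk⟩ := IsIrr.one_eq_pos ψ.2
        exact ⟨k, by rw [Finset.sum_congr rfl fun q _ => h2 q, Finset.sum_const, Finset.card_univ,
          ← Nat.card_eq_fintype_card, nsmul_eq_mul, hk]⟩
    choose k hk using hk
    have hkφ : k φ ≠ 0 := fun hk0 => by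
      have := hk φ
      rw [Finset.sum_congr rfl fun q _ => h1 q, Finset.sum_const, Finset.card_univ,
        ← Nat.card_eq_fintype_card, nsmul_eq_mul, hk0, Nat.cast_zero, mul_zero] at this
      exact (mul_ne_zero (Nat.cast_ne_zero.2 Nat.card_pos.ne') (IsIrr.one_ne_zero φ.2)) this
    have hzero : ∑ ψ : IrrCharacter (N x), (a ψ : ℂ) * ((Nat.card Q : ℂ) * k ψ) = 0 := by
      rw [← hsum, Finset.sum_congr rfl fun (ψ : IrrCharacter (N x)) _ => by rw [← hk ψ, Finset.mul_sum],
        Finset.sum_comm]
      refine Finset.sum_congr rfl fun q _ => ?_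
      have e1 := congrFun hdec (q : N x)
      simp only [Finset.sum_apply, Pi.smul_apply, smul_eq_mul] at e1
      exact e1.symm
    have hzero' : ∑ ψ : IrrCharacter (N x), a ψ * (Nat.card Q * k ψ) = 0 := by
      have : ((∑ ψ : IrrCharacter (N x), a ψ * (Nat.card Q * k ψ) : ℕ) : ℂ) = 0 := by
        push_cast; exact hzero
      exact_mod_cast this
    have := Finset.sum_eq_zero_iff.1 hzero' φ (Finset.mem_univ _)
    simp [ha, hkφ, Nat.card_pos.ne'] at this
  have hn0 := congrFun hz ⟨n, hn⟩
  simp only [avgN, Pi.zero_apply, mul_eq_zero, inv_eq_zero, Nat.cast_eq_zero, Nat.card_pos.ne',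
    false_or] at hn0
  have hconst : ∀ q : Q, χ (((q : N x) * ⟨n, hn⟩ : N x) : G) = χ n := by
    let f : P x → P x := fun v => ⟨⁅(v : G), n⁆, commutator_mem_P h (Subgroup.le_normalizer v.2) hn⟩
    have hf : Function.Injective f := by
      intro v w e1
      have e2 : ⁅(v : G), n⁆ = ⁅(w : G), n⁆ := congrArg Subtype.val e1
      rw [commutatorElement_def, commutatorElement_def, mul_left_inj] at e2
      by_contra hne
      have hne' : (w : G)⁻¹ * v ≠ 1 := fun e3 => hne (Subtype.ext (inv_mul_eq_one.1 e3).symm)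
      refine hnP ?_
      rw [← cent_of_mem h (mul_mem (inv_mem w.2) v.2) hne', Subgroup.mem_centralizer_singleton_iff]
      have := congrArg (fun z => (w : G)⁻¹ * z * (v : G)) e2
      simpa [mul_assoc] using this.symm
    intro q
    obtain ⟨v, hv'⟩ := (Finite.injective_iff_surjective.1 hf) (eQ q)
    have e4 : ⁅(v : G), n⁆ = ((q : N x) : G) := congrArg Subtype.val hv'
    push_cast
    rw [← e4, commutatorElement_def, inv_mul_cancel_right]
    exact IsChar.classFun hχ n (v : G)
  rw [Finset.sum_congr rfl fun q _ => hconst q, Finset.sum_const, Finset.card_univ,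
    ← Nat.card_eq_fintype_card, nsmul_eq_mul] at hn0
  exact (mul_eq_zero.1 hn0).resolve_left (Nat.cast_ne_zero.2 Nat.card_pos.ne')

/-- A generator of the automizer, of order `e`. -/
theorem exists_generator {G : Type*} [Group G] [Finite G] {p : ℕ} [Fact p.Prime] {x : G}
    (h : Hyp p x) (he : e x ≠ 1) :
    ∃ σ ∈ N x, orderOf σ = e x ∧ ∀ k : ℕ, σ ^ k ∈ P x → e x ∣ k := by
  haveI : IsCyclic (P x) := isCyclic_of_prime_card (card_P h)
  haveI : Fact (Nat.card (P x)).Prime := ⟨(card_P h).symm ▸ Fact.out⟩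
  let f : N x →* (ZMod (Nat.card (P x)))ˣ :=
    (IsCyclic.mulAutMulEquiv (P x)).toMonoidHom.comp (P x).normalizerMonoidHom
  have hker : f.ker = (P x).subgroupOf (N x) := by
    have h1 : f.ker = (P x).normalizerMonoidHom.ker := by
      ext n
      simp [f, MonoidHom.mem_ker]
    rw [h1, Subgroup.normalizerMonoidHom_ker, cent_P h]
  have hr : Nat.card f.range = e x := by
    rw [← Subgroup.index_ker, hker]; rfl
  obtain ⟨⟨g, σ, hσ⟩, hg⟩ := IsCyclic.exists_ofOrder_eq_natCard (α := f.range)
  have hg : orderOf (f σ) = e x := by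
    rw [← hr, ← hg, ← Subgroup.orderOf_coe]
    exact congrArg orderOf hσ
  have hk : ∀ k : ℕ, (σ : G) ^ k ∈ P x → e x ∣ k := by
    intro k hk
    rw [← hg, orderOf_dvd_iff_pow_eq_one, ← map_pow, ← MonoidHom.mem_ker, hker]
    exact hk
  refine ⟨σ, σ.2, ?_, hk⟩
  refine dvd_antisymm ?_ (hk _ (by rw [pow_orderOf_eq_one]; exact one_mem _))
  rw [orderOf_dvd_iff_pow_eq_one]
  by_contra hne
  have hmem : (σ : G) ^ e x ∈ P x := by
    have h1 : σ ^ e x ∈ f.ker := by rw [MonoidHom.mem_ker, map_pow, ← hg, pow_orderOf_eq_one]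
    rw [hker] at h1
    exact h1
  have h2 : (σ : G) ∈ P x := by
    rw [← cent_of_mem h hmem hne, Subgroup.mem_centralizer_singleton_iff]
    exact (Commute.self_pow _ _).eq
  exact he (Nat.dvd_one.1 (hk 1 (by rwa [pow_one])))

/-- The determinant at the generator. -/
theorem det_generator {n e t : ℕ} (f : (Fin n → ℂ) →ₗ[ℂ] (Fin n → ℂ)) (hn : n = t * e) (he : Even e)
    (he0 : 0 < e) (ht : Odd t) (hf : f ^ e = 1)
    (htr : ∀ k : ℕ, ¬ e ∣ k → LinearMap.trace ℂ _ (f ^ k) = 0) : LinearMap.det f = -1 := by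
  classical
  obtain ⟨b, c, hb, hc⟩ := exists_eigenbasis f he0 hf
  have hζ := Complex.isPrimitiveRoot_exp e he0.ne'
  set ζ := Complex.exp (2 * Real.pi * Complex.I / e)
  haveI : NeZero e := ⟨he0.ne'⟩
  choose j hj hjc using fun i => hζ.eq_pow_of_pow_eq_one (hc i)
  have hdet : LinearMap.det f = ∏ i, c i := by
    rw [← LinearMap.det_toMatrix b,
      show LinearMap.toMatrix b b f = Matrix.diagonal c from ?_, Matrix.det_diagonal]
    ext i k
    rw [LinearMap.toMatrix_apply, hb, map_smul, Finsupp.smul_apply, b.repr_self, smul_eq_mul,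
      Finsupp.single_apply, Matrix.diagonal_apply]
    split_ifs with h1 h2 h2 <;> simp_all
  have hpow : ∀ k, LinearMap.trace ℂ _ (f ^ k) = ∑ i, c i ^ k := fun k =>
    trace_of_eigenbasis (f ^ k) b _ fun i => apply_pow_of_eigen (hb i) k
  have hfib : ∀ m < e, (Finset.univ.filter fun i => j i = m).card = t := by
    intro m hm
    have h1 : ∀ i, ∑ k ∈ Finset.range e, (c i * (ζ ^ m)⁻¹) ^ k = if j i = m then (e : ℂ) else 0 := by
      intro i
      split_ifs with hji
      · rw [← hjc i, hji, mul_inv_cancel₀ (pow_ne_zero _ (hζ.ne_zero he0.ne'))]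
        simp
      · have hne : c i * (ζ ^ m)⁻¹ ≠ 1 := by
          rw [← hjc i]
          intro e1
          exact hji (hζ.pow_inj (hj i) hm ((mul_inv_eq_one₀ (pow_ne_zero _ (hζ.ne_zero he0.ne'))).1 e1))
        rw [geom_sum_eq hne, mul_pow, hc i, inv_pow, ← pow_mul, mul_comm m, pow_mul, hζ.pow_eq_one]
        simp
    have h2 : ∑ i, ∑ k ∈ Finset.range e, (c i * (ζ ^ m)⁻¹) ^ k = (n : ℂ) := by
      rw [Finset.sum_comm, Finset.sum_eq_single 0 (fun k hk hk0 => ?_) (by simp [he0.ne'])]
      · simp
      · have hndvd : ¬ e ∣ k := fun hd => hk0 (Nat.eq_zero_of_dvd_of_lt hd (Finset.mem_range.1 hk))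
        simp only [mul_pow, ← Finset.sum_mul]
        rw [← hpow, htr k hndvd, zero_mul]
    rw [Finset.sum_congr rfl fun i _ => h1 i, ← Finset.sum_filter, Finset.sum_const,
      nsmul_eq_mul] at h2
    refine Nat.eq_of_mul_eq_mul_right he0 ?_
    rw [← hn]
    exact_mod_cast h2
  have hmain : (∏ i, c i) = ζ ^ ((∑ m ∈ Finset.range e, m) * t) := by
    rw [Finset.prod_congr rfl fun i _ => (hjc i).symm,
      ← Finset.prod_fiberwise_of_maps_to (t := Finset.range e) (g := j)
        (fun i _ => Finset.mem_range.2 (hj i)),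
      Finset.prod_congr rfl (g := fun m => (ζ ^ m) ^ t) fun m hm => by
        rw [Finset.prod_congr rfl fun i hi => by rw [(Finset.mem_filter.1 hi).2],
          Finset.prod_const, hfib m (Finset.mem_range.1 hm)],
      Finset.prod_pow, Finset.prod_pow_eq_pow_sum, ← pow_mul]
  obtain ⟨d, rfl⟩ := he
  have hhalf : ζ ^ d = -1 := by
    have h1 : (ζ ^ d) * (ζ ^ d) = 1 := by rw [← pow_add, hζ.pow_eq_one]
    refine (mul_self_eq_one_iff.1 h1).resolve_left fun h2 => ?_
    have := Nat.le_of_dvd (by omega) (hζ.dvd_of_pow_eq_one d h2)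
    omega
  have hsum : ∑ m ∈ Finset.range (d + d), m = d * (d + d - 1) := by
    have h1 := Finset.sum_range_id_mul_two (d + d)
    have h2 : (d + d) * (d + d - 1) = d * (d + d - 1) * 2 := by ring
    omega
  rw [hdet, hmain, hsum, mul_assoc, pow_mul, hhalf, Odd.neg_one_pow]
  exact Nat.odd_mul.2 ⟨Nat.odd_iff.2 (by omega), ht⟩

/-- Let the finite group G contain an element x of prime order p with C_G(x) = ⟨x⟩, and let t be the number of conjugacy classes of elements of order p. If G has an irreducible character of degree p − 1, then t is even or the commutator subgroup has even index. -/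
theorem result {G : Type*} [Group G] [Finite G] (p : ℕ) (hp : p.Prime) (x : G) (hx : orderOf x = p) (hC : Subgroup.centralizer ({x} : Set G) = Subgroup.zpowers x) (t : ℕ) (ht : Nat.card {C : ConjClasses G // ∃ g ∈ C.carrier, orderOf g = p} = t) (χ : Cfsg.IrrCharacter G) (hχ : Cfsg.charDegree (χ : G → ℂ) + 1 = p) : Even t ∨ Even (commutator G).index := by
  classical
  haveI := Fact.mk hp
  letI := Fintype.ofFinite G
  have h : Hyp p x := ⟨hx, hC⟩
  have hmul := classes_mul_e h
  rw [ht] at hmul
  replace hχ : Cfsg.charDegree (χ : G → ℂ) = p - 1 := by omega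
  refine or_iff_not_imp_left.2 fun hte => ?_
  rw [Nat.not_even_iff_odd] at hte
  rcases hp.eq_two_or_odd' with rfl | hodd
  · have he : e x = 1 := Nat.dvd_one.1 (e_dvd h)
    rw [(commutator_eq_core_of_one h he).2]
    exact even_two
  have hp3 : 3 ≤ p := by have := hp.two_le; obtain ⟨k, rfl⟩ := hodd; omega
  have hee : Even (e x) := by
    have : Even (t * e x) := by rw [hmul]; exact Nat.Odd.sub_odd hodd odd_one
    exact (Nat.even_mul.1 this).resolve_left (Nat.not_even_iff_odd.2 hte)
  have he1 : e x ≠ 1 := fun he => by rw [he] at hee; exact absurd hee (by decide)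
  obtain ⟨X, Y, c, ε, hS⟩ := exists_chars h
  have hval : ∀ g : G, orderOf g = p → (χ : G → ℂ) g = -1 := by
    by_cases hmem : χ ∈ X ∪ Y
    · rcases Finset.mem_union.1 hmem with hX | hY
      · intro g hg
        have h1 := hS.deg_X χ hX
        rw [hχ] at h1
        rcases hS.c_sign χ hX with hc | hc
        · rw [hS.value χ hX g hg, hc]; simp
        · rw [hc] at h1
          have h2 := Int.modEq_iff_dvd.1 h1
          have h3 : (p : ℤ) ∣ 2 := by
            have h4 : (1 : ℤ) * 1 - ((p - 1 : ℕ) : ℤ) = 2 - p := by push_cast [hp.one_le]; ring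
            have h5 : (p : ℤ) ∣ (2 - p) + p := dvd_add (h4 ▸ by simpa using h2) dvd_rfl
            simpa using h5
          have := Int.le_of_dvd two_pos h3
          omega
      · have h1 := hS.deg_Y χ hY
        rw [hχ] at h1
        have h2 := Int.modEq_iff_dvd.1 h1
        have hle : e x ≤ p - 1 := Nat.le_of_dvd (by omega) (e_dvd h)
        have h4 : ((p - 1 : ℕ) : ℤ) = (p : ℤ) - 1 := by push_cast [hp.one_le]; ring
        rw [h4] at h2
        rcases hS.ε_sign with hε | hε
        · intro g hg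
          rw [hε, one_mul] at h2
          have h5 : (p : ℤ) ∣ ((e x : ℤ) + 1) := by
            have := dvd_add h2 (dvd_refl (p : ℤ))
            rwa [show (e x : ℤ) - ((p : ℤ) - 1) + p = (e x : ℤ) + 1 by ring] at this
          have h6 := Int.le_of_dvd (by omega) h5
          rw [hS.value_Y (by omega) χ hY g hg, hε]
          simp
        · exfalso
          rw [hε] at h2
          have h5 : (p : ℤ) ∣ ((e x : ℤ) - 1) := by
            have := dvd_sub (dvd_neg.2 h2) (dvd_refl (p : ℤ))
            rwa [show -(-1 * (e x : ℤ) - ((p : ℤ) - 1)) - p = (e x : ℤ) - 1 by ring] at this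
          have hpos : 1 < e x := by
            have : e x ≠ 0 := fun h0 => by rw [h0, mul_zero] at hmul; omega
            omega
          have h6 := Int.le_of_dvd (by omega) h5
          omega
    · exfalso
      have := hS.dvd_deg χ hmem
      rw [hχ] at this
      have := Nat.le_of_dvd (by omega) this
      omega
  obtain ⟨σ, hσN, hσo, hσk⟩ := exists_generator h he1
  obtain ⟨n, ρ, hρ, hρc, hn, -⟩ := IsIrr.exists_rep χ.2
  have hn' : n = p - 1 := by
    have := hn.symm.trans (charDeg_spec' χ)
    rw [hχ] at this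
    exact_mod_cast this
  have hd1 : (χ : G → ℂ) 1 = ((p - 1 : ℕ) : ℂ) := by rw [charDeg_spec', hχ]
  have hdet : LinearMap.det (ρ σ) = -1 := by
    refine det_generator (t := t) (e := e x) (ρ σ) (hn'.trans hmul.symm) hee
      (Nat.pos_of_ne_zero fun h0 => by rw [h0, mul_zero] at hmul; omega) hte ?_ fun k hk => ?_
    · rw [← map_pow, ← hσo, pow_orderOf_eq_one, map_one]
    · rw [← map_pow]
      show ρ.character (σ ^ k) = 0
      rw [hρc]
      exact vanish_normalizer h (IsIrr.isCharacter χ.2) hd1 hval (pow_mem hσN k) fun hm => hk (hσk k hm)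
  let l := detUnits ρ
  have hl : l σ ^ (commutator G).index = 1 := by
    rw [← map_pow]
    exact MonoidHom.mem_ker.1 (Abelianization.commutator_subset_ker l ((commutator G).pow_index_mem σ))
  have hl' : ((-1 : ℂ)) ^ (commutator G).index = 1 := by
    have := congrArg (Units.val) hl
    rw [Units.val_pow_eq_pow_val, detUnits_apply, hdet, Units.val_one] at this
    exact this
  exact (neg_one_pow_eq_one_iff_even (by norm_num)).1 hl'

end Cfsg.Agent.S4508
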