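import Cfsg.Statements.S4509
import Cfsg.Agent.Lib.Char.SelfCentPrime

set_option autoImplicit false
open Cfsg

namespace Cfsg.Agent.S4509

open Cfsg.Agent.Char.SCP
open scoped commutatorElement

/-- The order of the join of a normal subgroup and a subgroup meeting it trivially. -/
theorem card_sup {G : Type*} [Group G] (A S : Subgroup G) [S.Normal] (hd : S ⊓ A = ⊥) :
    Nat.card (A ⊔ S : Subgroup G) = Nat.card S * Nat.card A := by
  rw [← Subgroup.relIndex_bot_left, ← Subgroup.relIndex_mul_relIndex ⊥ S (A ⊔ S) bot_le le_sup_right,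
    Subgroup.relIndex_sup_right, ← Subgroup.inf_relIndex_right S A, hd, Subgroup.relIndex_bot_left,
    Subgroup.relIndex_bot_left]

/-- The case of a non-perfect derived group. -/
theorem proper_case {G : Type*} [Group G] [Finite G] {p : ℕ} [Fact p.Prime] {x : G} (h : Hyp p x)
    (he : e x ≠ 1) (hne : derivedSeries G 2 ≠ derivedSeries G 1) :
    Nat.card (derivedSeries G 2) = (N x).index ∧ Nat.card (commutator G) = p * (N x).index ∧
      derivedSeries G 2 = Cfsg.pPrimeCore p G := by
  have hp : p.Prime := Fact.out
  haveI := Cfsg.Agent.Grp.pPrimeCore_isNormal (p := p) (G := G)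
  set S := Cfsg.pPrimeCore p G
  have hSp : ¬ p ∣ Nat.card S := Cfsg.Agent.Grp.pPrimeCore_not_dvd
  have hx := mem_commutator_of_ne_one h he
  have hSle : S ≤ commutator G := coprime_le_commutator h hSp
  have h1 : derivedSeries G 1 = commutator G := derivedSeries_one G
  have h2 : derivedSeries G 2 = ⁅commutator G, commutator G⁆ := by
    rw [derivedSeries_succ, h1]
  have hS2 : S ≤ derivedSeries G 2 := by
    rw [h2]
    exact (le_comm_of_coprime h hSp).trans
      (Subgroup.commutator_mono hSle (Subgroup.zpowers_le.2 hx))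
  have h2le : derivedSeries G 2 ≤ commutator G := h1 ▸ derivedSeries_antitone G (by norm_num)
  haveI : (derivedSeries G 2).Normal := derivedSeries_normal G 2
  have hd2 : derivedSeries G 2 ≤ S := by
    rcases normal_in_commutator h he (derivedSeries G 2) h2le inferInstance with h3 | h3
    · exact h3
    · exact absurd (h3.trans h1.symm) hne
  have heq : derivedSeries G 2 = S := le_antisymm hd2 hS2
  -- the quotient of the derived group by the core is abelian, hence of order `p`
  have habel : ∀ a ∈ commutator G, ∀ b ∈ commutator G, ⁅a, b⁆ ∈ S := fun a ha b hb => by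
    have := Subgroup.commutator_mem_commutator ha hb
    rw [← h2, heq] at this
    exact this
  have hK : (S ⊔ P x) = commutator G := by
    have hle : S ⊔ P x ≤ commutator G := sup_le hSle (Subgroup.zpowers_le.2 hx)
    refine ((normal_in_commutator h he (S ⊔ P x) hle ⟨fun a ha g => ?_⟩).resolve_left
      fun h3 => not_mem_core h (h3 (Subgroup.mem_sup_right (Subgroup.mem_zpowers x))))
    rw [Subgroup.mem_subgroupOf] at ha ⊢
    have h4 : ((g * a * g⁻¹ : commutator G) : G) = ⁅(g : G), (a : G)⁆ * (a : G) := by
      rw [commutatorElement_def]; push_cast; group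
    rw [h4]
    exact mul_mem (Subgroup.mem_sup_left (habel _ g.2 _ a.2)) ha
  have htop : N x ⊔ S = ⊤ := by
    refine eq_top_iff.2 ((frattini h (K := commutator G) hx).symm.le.trans ?_)
    refine sup_le le_sup_left (hK ▸ sup_le le_sup_right ?_)
    exact (Subgroup.le_normalizer (H := P x)).trans le_sup_left
  have hdisj : S ⊓ N x = ⊥ := inf_N_eq_bot h hSp
  have hcS : Nat.card S = (N x).index := by
    have h5 := card_sup (N x) S hdisj
    rw [htop, Subgroup.card_top, ← Subgroup.card_mul_index (N x), mul_comm (Nat.card S)] at h5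
    exact (Nat.eq_of_mul_eq_mul_left Nat.card_pos h5).symm
  refine ⟨by rw [heq, hcS], ?_, heq⟩
  rw [← hK, sup_comm, card_sup (P x) S
    (eq_bot_iff.2 ((inf_le_inf_left S (Subgroup.le_normalizer (H := P x))).trans hdisj.le)),
    card_P h, hcS, mul_comm]


/-- Let the finite group G contain an element x of prime order p with C_G(x) = ⟨x⟩; let t be the number of conjugacy classes of elements of order p and 1 + n·p the number of subgroups of order p. Then G has a normal subgroup of order 1 + n·p if and only if either t = p − 1, or t < p − 1 and G″ ≠ G′. Moreover, if t = p − 1 then G′ has order 1 + n·p and G/G′ is cyclic of order p; and if t < p − 1 and G″ ≠ G′ then G″ has order 1 + n·p and G′ has order p·(1 + n·p). -/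
theorem result {G : Type*} [Group G] [Finite G] (p : ℕ) (hp : p.Prime) (x : G) (hx : orderOf x = p) (hC : Subgroup.centralizer ({x} : Set G) = Subgroup.zpowers x) (t : ℕ) (ht : Nat.card {C : ConjClasses G // ∃ g ∈ C.carrier, orderOf g = p} = t) (n : ℕ) (hn : Nat.card {H : Subgroup G // Nat.card H = p} = 1 + n * p) : ((∃ S : Subgroup G, S.Normal ∧ Nat.card S = 1 + n * p) ↔ (t = p - 1 ∨ (t < p - 1 ∧ derivedSeries G 2 ≠ derivedSeries G 1))) ∧ (t = p - 1 → Nat.card (commutator G) = 1 + n * p ∧ IsCyclic (G ⧸ commutator G) ∧ (commutator G).index = p) ∧ (t < p - 1 → derivedSeries G 2 ≠ derivedSeries G 1 → Nat.card (derivedSeries G 2) = 1 + n * p ∧ Nat.card (commutator G) = p * (1 + n * p)) := by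
  haveI := Fact.mk hp
  have h : Hyp p x := ⟨hx, hC⟩
  have hidx : (N x).index = 1 + n * p := (N_index_eq h).trans hn
  have hp2 := hp.two_le
  have hmul := classes_mul_e h
  rw [ht] at hmul
  have htle : t ≤ p - 1 := Nat.le_of_dvd (by omega) (Dvd.intro _ hmul)
  have hcG : Nat.card G = p * e x * (1 + n * p) := by
    rw [← Subgroup.card_mul_index (N x), card_N h, hidx]
  have case1 : t = p - 1 → Nat.card (commutator G) = 1 + n * p ∧
      IsCyclic (G ⧸ commutator G) ∧ (commutator G).index = p := fun htp => by
    have he := (t_eq_iff h ht).1 htp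
    obtain ⟨h1, h2⟩ := commutator_eq_core_of_one h he
    refine ⟨?_, isCyclic_of_prime_card (p := p) (by rw [← Subgroup.index, h2]), h2⟩
    have h3 := Subgroup.card_mul_index (commutator G)
    rw [hcG, h2, he, mul_one, mul_comm p] at h3
    exact Nat.eq_of_mul_eq_mul_right hp.pos h3
  have case2 : t < p - 1 → derivedSeries G 2 ≠ derivedSeries G 1 →
      Nat.card (derivedSeries G 2) = 1 + n * p ∧ Nat.card (commutator G) = p * (1 + n * p) :=
    fun htp hne => by
    obtain ⟨h1, h2, -⟩ := proper_case h (fun he => htp.ne ((t_eq_iff h ht).2 he)) hne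
    exact ⟨h1.trans hidx, hidx ▸ h2⟩
  refine ⟨⟨?_, ?_⟩, case1, case2⟩
  · rintro ⟨S, hS, hcS⟩
    refine (em (t = p - 1)).imp id fun htp => ⟨lt_of_le_of_ne htle htp, fun heq => ?_⟩
    have he : e x ≠ 1 := fun he => htp ((t_eq_iff h ht).2 he)
    have hSp : ¬ p ∣ Nat.card S := by
      rw [hcS, Nat.dvd_add_left (dvd_mul_left p n)]
      exact hp.not_dvd_one
    haveI := hS
    have htop : N x ⊔ S = ⊤ := by
      refine Subgroup.eq_top_of_card_eq _ (le_antisymm (Subgroup.card_le_card_group _) ?_)
      rw [card_sup (N x) S (inf_N_eq_bot h hSp), card_N h, hcS, hcG, mul_comm]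
    -- the derived series drops into `S`
    let f : N x →* G ⧸ S := (QuotientGroup.mk' S).comp (N x).subtype
    have hf : Function.Surjective f := by
      intro q
      induction q using QuotientGroup.induction_on with | _ g => ?_
      have hg : g ∈ N x ⊔ S := htop ▸ Subgroup.mem_top g
      rw [← SetLike.mem_coe, Subgroup.mul_normal] at hg
      obtain ⟨m, hm, k, hk, rfl⟩ := Set.mem_mul.1 hg
      exact ⟨⟨m, hm⟩, by
        show (QuotientGroup.mk m : G ⧸ S) = QuotientGroup.mk (m * k)
        rw [QuotientGroup.mk_mul, (QuotientGroup.eq_one_iff k).2 hk, mul_one]⟩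
    have hN2 : derivedSeries (N x) 2 = ⊥ := by
      rw [derivedSeries_succ, derivedSeries_one, Subgroup.commutator_eq_bot_iff_le_centralizer]
      intro a ha
      rw [Subgroup.mem_centralizer_iff]
      intro b hb
      have hmem : ∀ c ∈ commutator (N x), (c : G) ∈ P x := by
        intro c hc
        refine (show commutator (N x) ≤ (P x).subgroupOf (N x) from ?_) hc
        rw [commutator_def, Subgroup.commutator_le]
        exact fun u _ v _ => commutator_mem_P h u.2 v.2
      obtain ⟨i, hi⟩ := hmem a ha
      obtain ⟨j, hj⟩ := hmem b hb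
      simp only at hi hj
      apply Subtype.ext
      push_cast
      rw [← hi, ← hj]
      exact (((Commute.refl x).zpow_left j).zpow_right i).eq
    have h2le : derivedSeries G 2 ≤ S := by
      have h6 : derivedSeries (G ⧸ S) 2 = ⊥ := by
        rw [← map_derivedSeries_eq hf 2, hN2, Subgroup.map_bot]
      have h7 := map_derivedSeries_le_derivedSeries (QuotientGroup.mk' S) 2
      rw [h6, le_bot_iff, Subgroup.map_eq_bot_iff, QuotientGroup.ker_mk'] at h7
      exact h7
    refine hSp ?_
    have hxS : x ∈ S := h2le (heq.symm ▸ (derivedSeries_one G).symm ▸ mem_commutator_of_ne_one h he)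
    exact hx ▸ S.orderOf_dvd_natCard hxS
  · rintro (htp | ⟨htp, hne⟩)
    · exact ⟨commutator G, inferInstance, (case1 htp).1⟩
    · exact ⟨derivedSeries G 2, derivedSeries_normal G 2, (case2 htp hne).1⟩

end Cfsg.Agent.S4509
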