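import Cfsg.Statements.S5118
import Cfsg.Agent.Lib.Fus.GroupLocal

set_option autoImplicit false

namespace Cfsg.Agent.S5118

open Cfsg.FusionSystem
open scoped Pointwise

variable {G : Type*} [Group G] [Finite G] {p : ℕ} [Fact p.Prime]

theorem isSylowOf_inf (S : Sylow p G) (H : Subgroup G) [H.Normal] :
    Fus.IsSylowOf p ((S : Subgroup G) ⊓ H) H := by
  refine Fus.IsSylowOf.of_card_le inf_le_right (S.2.to_le inf_le_left) fun A hA hAp hle => ?_
  obtain ⟨g, -, hg⟩ := (Fus.isSylowOf_top S).exists_conj_le hAp le_top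
  refine (Subgroup.eq_of_le_of_card_ge hle ?_).ge
  rw [← Fus.card_conjMap A g]
  refine Subgroup.card_le_of_le (le_inf hg ?_)
  rintro _ ⟨x, hx, rfl⟩
  exact Subgroup.Normal.conj_mem inferInstance x (hA hx) g

theorem frattini (S : Sylow p G) (H : Subgroup G) [H.Normal] (g : G) :
    ∃ n ∈ Subgroup.normalizer (((S : Subgroup G) ⊓ H : Subgroup G) : Set G),
      ∃ h ∈ H, g = n * h := by
  have hle : ((S : Subgroup G) ⊓ H).map (MulAut.conj g⁻¹).toMonoidHom ≤ H := by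
    rintro _ ⟨x, hx, rfl⟩
    exact Subgroup.Normal.conj_mem inferInstance x hx.2 g⁻¹
  obtain ⟨h, hh, hle2⟩ := (isSylowOf_inf S H).exists_conj_le
    ((S.2.to_le inf_le_left).map _) hle
  rw [Fus.conjMap_comp] at hle2
  have heq : ((S : Subgroup G) ⊓ H).map (MulAut.conj (h * g⁻¹)).toMonoidHom =
      (S : Subgroup G) ⊓ H :=
    Subgroup.eq_of_le_of_card_ge hle2 (Fus.card_conjMap _ _).ge
  have hn : h * g⁻¹ ∈ Subgroup.normalizer (((S : Subgroup G) ⊓ H : Subgroup G) : Set G) := by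
    refine Fus.mem_normalizer_of_forall (fun x hx => ?_) fun x hx => ?_
    · exact hle2 ⟨x, hx, rfl⟩
    · rw [← heq] at hx
      obtain ⟨y, hy, rfl⟩ := hx
      show (h * g⁻¹)⁻¹ * (h * g⁻¹ * y * (h * g⁻¹)⁻¹) * (h * g⁻¹) ∈ _
      rw [show (h * g⁻¹)⁻¹ * (h * g⁻¹ * y * (h * g⁻¹)⁻¹) * (h * g⁻¹) = y by group]
      exact hy
  exact ⟨(h * g⁻¹)⁻¹, inv_mem hn, h, hh, by group⟩

/-- If H is a normal subgroup of a finite group G and T = S ∩ H for a Sylow p-subgroup S, then the fusion system of H on T is normal in that of G on S. -/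
theorem result {G : Type*} [Group G] [Finite G] (p : ℕ) [Fact p.Prime] (S : Sylow p G) (H : Subgroup G) [H.Normal] : (Cfsg.fusionSystemOfSubgroup H ((S : Subgroup G) ⊓ H) inf_le_right).IsNormalIn (Cfsg.groupFusionSystem (S : Subgroup G)) p := by
  have hT := isSylowOf_inf S H
  have hHn : H.Normal := inferInstance
  refine ⟨⟨Fus.isSaturated_ofSubgroup hT inf_le_right, Fus.isSaturated_group S, ?_, ?_, ?_, ?_⟩, ?_⟩
  · rintro P φ ⟨hP, hφ, g, -, hg⟩
    exact ⟨hP.trans inf_le_left, fun x => (hφ x).1, g, hg⟩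
  · refine ⟨inf_le_left, fun R hR φ ⟨_, hφ, g, hg⟩ x => ⟨hφ x, ?_⟩⟩
    rw [hg]
    exact hHn.conj_mem _ (hR x.2).2 g
  · rintro P hPT φ ⟨-, hφ, h, hh, hφh⟩ α hα
    obtain ⟨-, g, hg⟩ := Fus.isMap_group.1 ((Fus.mem_autGroup inf_le_left).1 hα)
    have hgv : ∀ t : ↥((S : Subgroup G) ⊓ H), ((α t : ↥((S : Subgroup G) ⊓ H)) : G) = g * t * g⁻¹ :=
      fun t => (Fus.autFun_coe α t).symm.trans (hg t t.2).1
    have hmem : ∀ y ∈ (P.subgroupOf ((S : Subgroup G) ⊓ H)).map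
        (((S : Subgroup G) ⊓ H).subtype.comp α.toMonoidHom),
        y ∈ (S : Subgroup G) ⊓ H ∧ g * h * g⁻¹ * y * (g * h * g⁻¹)⁻¹ ∈ (S : Subgroup G) ⊓ H := by
      rintro _ ⟨t, ht, rfl⟩
      refine ⟨SetLike.coe_mem _, ?_⟩
      have h1 := hφ ⟨t, ht⟩
      have h2 := hgv ⟨_, h1⟩
      have h3 : g * h * g⁻¹ * (g * t * g⁻¹) * (g * h * g⁻¹)⁻¹ = g * φ ⟨t, ht⟩ * g⁻¹ := by
        rw [hφh]; group
      show g * h * g⁻¹ * ((α t : ↥((S : Subgroup G) ⊓ H)) : G) * (g * h * g⁻¹)⁻¹ ∈ _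
      rw [hgv, h3, ← h2]
      exact SetLike.coe_mem _
    refine ⟨Cfsg.conjHom _ (g * h * g⁻¹), ⟨fun y hy => (hmem y hy).1, fun y => (hmem y y.2).2,
      g * h * g⁻¹, hHn.conj_mem h hh g, fun y => rfl⟩, fun x hφx hαx => ?_⟩
    show g * h * g⁻¹ * ((α ⟨x, hPT x.2⟩ : ↥((S : Subgroup G) ⊓ H)) : G) * (g * h * g⁻¹)⁻¹ = _
    rw [hgv, hgv]
    show _ = g * φ x * g⁻¹
    rw [hφh]
    group
  · rintro P hPT φ ⟨_, hφ, g, hg⟩
    obtain ⟨n, hn, h, hh, rfl⟩ := frattini S H g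
    have hφT : ∀ x : P, φ x ∈ (S : Subgroup G) ⊓ H := fun x => ⟨hφ x, by
      rw [hg]; exact hHn.conj_mem _ (hPT x.2).2 _⟩
    have hh' : ∀ x : P, h * (x : G) * h⁻¹ ∈ (S : Subgroup G) ⊓ H := fun x => by
      have := (Subgroup.mem_normalizer_iff''.1 hn (φ x)).1 (hφT x)
      rw [hg] at this
      convert this using 1
      group
    have hm : Fus.IsMap (Cfsg.groupFusionSystem (S : Subgroup G)) ((S : Subgroup G) ⊓ H)
        (fun x => n * x * n⁻¹) :=
      Fus.isMap_group.2 ⟨inf_le_left, n, fun x hx =>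
        ⟨rfl, ((Subgroup.mem_normalizer_iff.1 hn x).1 hx).1⟩⟩
    obtain ⟨α, hα, hαe⟩ := hm.exists_aut (by
      ext y
      rw [Fus.mem_fimg_conj, ← Subgroup.mem_normalizer_iff''.1 hn y])
    refine ⟨α, hα, Cfsg.conjHom P h, ⟨hPT, hh', h, hh, fun x => rfl⟩, fun x hx => ?_⟩
    rw [← Fus.autFun_coe α ⟨_, hx⟩, hαe _ hx, hg]
    show _ = n * (h * (x : G) * h⁻¹) * n⁻¹
    group
  · set T : Subgroup G := (S : Subgroup G) ⊓ H with hTdef
    set C : Subgroup G := H ⊓ Subgroup.centralizer (T : Set G) with hCdef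
    set CS : Subgroup G := Cfsg.FusionSystem.centralizerIn (S : Subgroup G) T with hCSdef
    intro α hα
    obtain ⟨-, h, hh, hαh⟩ := Fus.isMap_ofSubgroup.1 ((Fus.mem_autGroup le_rfl).1 hα)
    have hαv : ∀ t : T, ((α t : T) : G) = h * t * h⁻¹ := fun t =>
      (Fus.autFun_coe α t).symm.trans (hαh t t.2).1
    have hhN : h ∈ Subgroup.normalizer (T : Set G) :=
      Fus.mem_normalizer_of_conj_aut (α := α) hαv
    have hC : ∀ a ∈ Subgroup.centralizer (T : Set G),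
        a ∈ Subgroup.normalizer (C : Set G) := fun a ha => by
      have h1 := Fus.mem_normalizer_centralizer (Subgroup.centralizer_le_normalizer _ ha)
      refine Fus.mem_normalizer_of_forall (fun c hc => ?_) fun c hc => ?_
      · exact ⟨hHn.conj_mem c hc.1 a, (Subgroup.mem_normalizer_iff.1 h1 c).1 hc.2⟩
      · exact ⟨hHn.conj_mem' c hc.1 a, (Subgroup.mem_normalizer_iff''.1 h1 c).1 hc.2⟩
    have hCSN : CS ≤ Subgroup.normalizer (C : Set G) := fun a ha => hC a ha.2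
    -- a Sylow subgroup of `C_S(T) C_H(T)`
    have hK : Fus.IsSylowOf p CS (CS ⊔ C) := by
      refine Fus.IsSylowOf.of_card_le le_sup_left (S.2.to_le inf_le_left) fun A hA hAp hle a ha => ?_
      have ha' : a ∈ ((CS : Set G) * (C : Set G)) := by
        rw [← Subgroup.coe_mul_of_left_le_normalizer_right _ _ hCSN]
        exact hA ha
      obtain ⟨s, hs, c, hc, rfl⟩ := ha'
      have hcA : c ∈ A ⊓ C := ⟨by
        have := A.mul_mem (A.inv_mem (hle hs)) ha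
        rwa [inv_mul_cancel_left] at this, hc⟩
      have hB : IsPGroup p ↥((A ⊓ C) ⊔ T) :=
        IsPGroup.to_sup_of_normal_right' (hAp.to_le inf_le_left) hT.isPGroup
          (fun b hb => Subgroup.centralizer_le_normalizer _ hb.2.2)
      have h2 : T = (A ⊓ C) ⊔ T := Subgroup.eq_of_le_of_card_ge le_sup_right
        (hT.card_le hB (sup_le (inf_le_right.trans inf_le_left) inf_le_right))
      have hcT : c ∈ T := h2.symm ▸ Subgroup.mem_sup_left hcA
      exact ⟨Subgroup.mul_mem _ hs.1 hcT.1, Subgroup.mul_mem _ hs.2 hc.2⟩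
    have hCSh : CS.map (MulAut.conj h).toMonoidHom ≤ CS ⊔ C := by
      rintro _ ⟨s, hs, rfl⟩
      show h * s * h⁻¹ ∈ CS ⊔ C
      have hs2 := (Subgroup.mem_normalizer_iff.1 (Fus.mem_normalizer_centralizer hhN) s).1 hs.2
      have h3 : s⁻¹ * (h * s * h⁻¹) ∈ C := by
        refine ⟨?_, Subgroup.mul_mem _ (Subgroup.inv_mem _ hs.2) hs2⟩
        rw [show s⁻¹ * (h * s * h⁻¹) = (s⁻¹ * h * s) * h⁻¹ by group]
        exact H.mul_mem (hHn.conj_mem' h hh s) (H.inv_mem hh)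
      rw [← mul_inv_cancel_left s (h * s * h⁻¹)]
      exact Subgroup.mul_mem _ (Subgroup.mem_sup_left hs) (Subgroup.mem_sup_right h3)
    obtain ⟨k, hk, hkle⟩ := hK.exists_conj_le ((S.2.to_le inf_le_left).map _) hCSh
    have hk' : k ∈ ((CS : Set G) * (C : Set G)) := by
      rw [← Subgroup.coe_mul_of_left_le_normalizer_right _ _ hCSN]
      exact hk
    obtain ⟨s, hs, c, hc, rfl⟩ := hk'
    set h' := c * h with hh'def
    have hh'H : h' ∈ H := H.mul_mem hc.1 hh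
    have hfixT : ∀ t ∈ T, h' * t * h'⁻¹ = h * t * h⁻¹ := fun t ht => by
      rw [show h' * t * h'⁻¹ = c * (h * t * h⁻¹) * c⁻¹ by rw [hh'def]; group,
        ← Subgroup.mem_centralizer_iff.1 hc.2 _ ((Subgroup.mem_normalizer_iff.1 hhN t).1 ht),
        mul_inv_cancel_right]
    have hCS' : ∀ x ∈ CS, h' * x * h'⁻¹ ∈ CS := fun x hx => by
      have h1 := hkle ⟨_, ⟨x, hx, rfl⟩, rfl⟩
      simp only [MulEquiv.toMonoidHom_eq_coe, MonoidHom.coe_coe, MulAut.conj_apply] at h1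
      have h2 := CS.mul_mem (CS.mul_mem (CS.inv_mem hs) h1) hs
      convert h2 using 1
      rw [hh'def]
      group
    have hmapeq : (T ⊔ CS).map (MulAut.conj h').toMonoidHom = T ⊔ CS := by
      refine Subgroup.eq_of_le_of_card_ge (Subgroup.map_le_iff_le_comap.2 (sup_le ?_ ?_))
        (Fus.card_conjMap _ _).ge
      · intro t ht
        refine Subgroup.mem_sup_left ?_
        show h' * t * h'⁻¹ ∈ T
        rw [hfixT t ht]
        exact (Subgroup.mem_normalizer_iff.1 hhN t).1 ht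
      · intro x hx
        exact Subgroup.mem_sup_right (hCS' x hx)
    have hle : T ⊔ CS ≤ (S : Subgroup G) := sup_le inf_le_left inf_le_left
    have hm : Fus.IsMap (Cfsg.groupFusionSystem (S : Subgroup G)) (T ⊔ CS)
        (fun x => h' * x * h'⁻¹) :=
      Fus.isMap_group.2 ⟨hle, h', fun x hx => ⟨rfl, hle (hmapeq ▸ ⟨x, hx, rfl⟩)⟩⟩
    obtain ⟨β, hβ, hβe⟩ := hm.exists_aut ((Fus.fimg_conj_eq_map h').trans hmapeq)
    have hβv : ∀ x : ↥(T ⊔ CS), ((β x : ↥(T ⊔ CS)) : G) = h' * x * h'⁻¹ := fun x =>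
      (Fus.autFun_coe β x).symm.trans (hβe x x.2)
    refine ⟨β, hβ, fun x => ?_, fun x hx => ?_⟩
    · rw [hβv, hαv]
      exact hfixT x x.2
    · rw [hβv]
      have h1 := hCS' _ hx
      refine ⟨⟨Subgroup.mul_mem _ (Subgroup.inv_mem _ hx.1) h1.1, ?_⟩,
        Subgroup.mul_mem _ (Subgroup.inv_mem _ hx.2) h1.2⟩
      rw [show (x : G)⁻¹ * (h' * x * h'⁻¹) = ((x : G)⁻¹ * h' * x) * h'⁻¹ by group]
      exact H.mul_mem (hHn.conj_mem' h' hh'H _) (H.inv_mem hh'H)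

end Cfsg.Agent.S5118
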