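import Cfsg.Statements.S5337
import Cfsg.Agent.Lib.Fus.AbelianSystem
import Cfsg.Agent.Lib.Fus.Simple
-- import your own Cfsg.Agent.* helpers here

set_option autoImplicit false
open Cfsg

namespace Cfsg.Agent.S5337

/-- Let F be a saturated fusion system over a finite abelian p-group S. Then F is simple if and only if S has order p and F is the inner system of S (whose only maps are the inclusions, S being abelian). -/
theorem result {Ω : Type*} [Group Ω] {S : Subgroup Ω} [Finite S] (p : ℕ) [Fact p.Prime] (hS : IsPGroup p S) (F : Cfsg.FusionSystem S) (hF : F.IsSaturated p) (hab : ∀ x ∈ S, ∀ y ∈ S, x * y = y * x) : F.IsSimple p ↔ (Nat.card S = p ∧ ∀ P : Subgroup Ω, F.Hom P = (Cfsg.innerFusionSystem S).Hom P) := by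
  classical
  have hid : ∀ (T P : Subgroup Ω) (f : Ω → Ω), T ≤ S →
      Cfsg.Agent.Fus.IsMap (innerFusionSystem T) P f → ∀ x ∈ P, f x = x := by
    intro T P f hT hf x hx
    obtain ⟨hP, g, hg, h⟩ := Cfsg.Agent.Fus.isMap_inner.1 hf
    rw [h x hx, hab g (hT hg) x (hT (hP hx)), mul_inv_cancel_right]
  have hnormal : ∀ T, T ≤ S → F.StronglyClosed T →
      (∀ P f, P ≤ T → Cfsg.Agent.Fus.IsMap F P f →
        ∃ α ∈ F.autGroup T, ∀ x ∈ P, Cfsg.Agent.Fus.autFun α x = f x) →
      (innerFusionSystem T).IsNormalIn F p := by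
    intro T hT hsc hext
    refine ⟨⟨haveI := Cfsg.Agent.Fus.finite_of_le hT; Cfsg.Agent.Fus.isSaturated_inner (hS.to_le hT), hF,
      Cfsg.Agent.Fus.inner_isSubsystemOf hT F, hsc, ?_, ?_⟩, ?_⟩
    · intro P hPT φ hφ α hα
      refine ⟨Subgroup.subtype _, Cfsg.Agent.Fus.subtype_mem _ ?_, fun x hφx hαx => ?_⟩
      · rintro _ ⟨y, -, rfl⟩
        exact SetLike.coe_mem _
      · have := hid T P _ hT (Cfsg.Agent.Fus.isMap_toFun hφ) x x.2
        rw [Cfsg.Agent.Fus.toFun_coe] at this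
        show ((α ⟨x, hPT x.2⟩ : T) : Ω) = _
        exact congrArg (fun z : T => ((α z : T) : Ω)) (Subtype.ext this.symm)
    · intro P hPT φ hφ
      obtain ⟨α, hα, e⟩ := hext P _ hPT (Cfsg.Agent.Fus.isMap_toFun hφ)
      refine ⟨α, hα, P.subtype, Cfsg.Agent.Fus.subtype_mem _ hPT, fun x hx => ?_⟩
      rw [← Cfsg.Agent.Fus.toFun_coe φ x, ← e x x.2]
      exact Cfsg.Agent.Fus.autFun_coe α ⟨x, hx⟩
    · intro α hα
      have hα1 : α = 1 := Cfsg.Agent.Fus.mulAut_ext fun x hx => by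
        rw [hid T T _ hT ((Cfsg.Agent.Fus.mem_autGroup le_rfl).1 hα) x hx,
          Cfsg.Agent.Fus.autFun_one hx]
      refine ⟨1, one_mem _, fun x => by rw [hα1]; rfl, fun c hc => ?_⟩
      simp
  constructor
  · rintro ⟨-, hne, hsimple⟩
    have hinner : ∀ P, F.Hom P = (innerFusionSystem S).Hom P := by
      obtain h | ⟨-, h⟩ := hsimple S (innerFusionSystem S) (hnormal S le_rfl
        ⟨le_rfl, fun R _ φ hφ x => (F.le_of_mem hφ).2 x⟩ fun P f _ hf =>
          Cfsg.Agent.Fus.exists_aut_extends_of_comm hS hF hab hf)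
      · exact absurd h hne
      · exact fun P => (h P).symm
    obtain ⟨k, hk⟩ := hS.exists_card_eq
    haveI : Nontrivial S := S.nontrivial_iff_ne_bot.2 hne
    obtain ⟨a, ha⟩ := exists_prime_orderOf_dvd_card' (G := S) p (by
      rw [hk]
      refine dvd_pow_self p fun h0 => ?_
      rw [h0, pow_zero] at hk
      exact (Finite.one_lt_card (α := S)).ne' hk)
    have hT : Subgroup.zpowers (a : Ω) ≤ S := Subgroup.zpowers_le.2 a.2
    have hfix : ∀ P f, Cfsg.Agent.Fus.IsMap F P f → ∀ x ∈ P, f x = x := by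
      intro P f hf x hx
      obtain ⟨φ, hφ, e⟩ := hf.exists_hom
      rw [hinner] at hφ
      exact hid S P f le_rfl ⟨φ, hφ, e⟩ x hx
    obtain h | ⟨h, -⟩ := hsimple _ _ (hnormal _ hT
      (Cfsg.Agent.Fus.stronglyClosed_of_forall hT fun R hR f hf x hx => by
        rw [hfix R f hf x hx]; exact hR hx)
      fun P f hP hf => ⟨1, one_mem _, fun x hx => by
        rw [hfix P f hf x hx, Cfsg.Agent.Fus.autFun_one (hP hx)]⟩)
    · rw [Subgroup.zpowers_eq_bot, OneMemClass.coe_eq_one] at h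
      rw [h, orderOf_one] at ha
      exact absurd ha.symm (Fact.out : p.Prime).ne_one
    · refine ⟨?_, hinner⟩
      rw [← h, Nat.card_zpowers, Subgroup.orderOf_coe, ha]
  · rintro ⟨hcard, hinner⟩
    refine Cfsg.Agent.Fus.isSimple_of_autGroup_eq_inn hF ?_ (le_antisymm ?_ ?_) fun T hT => ?_
    · rintro rfl
      rw [Subgroup.card_bot] at hcard
      exact (Fact.out : p.Prime).ne_one hcard.symm
    · intro α hα
      obtain ⟨φ, hφ, e⟩ := ((Cfsg.Agent.Fus.mem_autGroup le_rfl).1 hα).exists_hom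
      rw [hinner] at hφ
      obtain ⟨-, g, hg, h⟩ := hφ
      refine ⟨⟨g, hg⟩, MulEquiv.ext fun x => Subtype.ext ?_⟩
      rw [← Cfsg.Agent.Fus.autFun_coe α x, ← e x, h x]
      rfl
    · exact Cfsg.Agent.Fus.inn_le_autGroup F le_rfl
    · haveI := Cfsg.Agent.Fus.finite_of_le hT.1
      rcases (Nat.dvd_prime (Fact.out : p.Prime)).1 (hcard ▸ Subgroup.card_dvd_of_le hT.1) with h | h
      · exact Or.inl (Subgroup.card_eq_one.1 h)
      · exact Or.inr (Subgroup.eq_of_le_of_card_ge hT.1 (by rw [h, hcard]))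

end Cfsg.Agent.S5337
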