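import Cfsg.Statements.S5343
import Cfsg.Agent.Lib.Fus.RealizedNormal
-- import your own Cfsg.Agent.* helpers here

set_option autoImplicit false
universe u
set_option linter.style.haveILetI false
open Cfsg

namespace Cfsg.Agent.S5343

/-- Let F be a simple saturated fusion system over a finite p-group S that is realized by some finite group on a Sylow p-subgroup. Then F is realized by a finite simple group on a Sylow p-subgroup. -/
theorem result {Ω : Type u} [Group Ω] {S : Subgroup Ω} [Finite S] (p : ℕ) [Fact p.Prime] (hS : IsPGroup p S) (F : Cfsg.FusionSystem S) (hsimple : F.IsSimple p) (hreal : F.IsRealizable p) : ∃ (G : Type u) (_ : Group G) (_ : Finite G) (_ : IsSimpleGroup G) (ι : ↥S →* G), F.IsRealizedBy ι ∧ ∃ T : Sylow p G, (T : Subgroup G) = ι.range := by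
  classical
  have hex : ∃ n : ℕ, ∃ (G : Type u) (_ : Group G) (_ : Finite G) (ι : ↥S →* G),
      F.IsRealizedBy ι ∧ (∃ T : Sylow p G, (T : Subgroup G) = ι.range) ∧ Nat.card G = n := by
    obtain ⟨G, i1, i2, ι, h1, h2⟩ := hreal
    exact ⟨_, G, i1, i2, ι, h1, h2, rfl⟩
  obtain ⟨G, iG, iF, ι, h1, ⟨T, hT⟩, hn⟩ := Nat.find_spec hex
  have hmin : ∀ (H : Type u) (_ : Group H) (_ : Finite H) (κ : ↥S →* H), F.IsRealizedBy κ →
      (∃ T' : Sylow p H, (T' : Subgroup H) = κ.range) → Nat.card G ≤ Nat.card H := by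
    intro H j1 j2 κ g1 g2
    exact hn.le.trans (Nat.find_le ⟨H, j1, j2, κ, g1, g2, rfl⟩)
  haveI : Nontrivial S := (Subgroup.nontrivial_iff_ne_bot S).2 hsimple.2.1
  haveI : Nontrivial G := h1.1.nontrivial
  refine ⟨G, iG, iF, { eq_bot_or_eq_top_of_normal := fun N hN => ?_ }, ι, h1, T, hT⟩
  haveI := hN
  rcases hsimple.2.2 _ _ (Fus.realSys_isNormalIn h1 hT N) with h0 | ⟨hTS, hhom⟩
  · left
    have hp : ι.range ⊓ N = ⊥ := by
      rw [← Fus.map_pullSub, h0]
      simp
    obtain ⟨q1, q2⟩ := Fus.realized_quotient hS h1 hT N hp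
    have hle := hmin (G ⧸ N) inferInstance inferInstance _ q1 q2
    rw [Subgroup.card_eq_card_quotient_mul_card_subgroup N] at hle
    have hN1 : Nat.card N ≤ 1 := by
      by_contra h2
      exact absurd hle (Nat.not_le.2 (lt_mul_of_one_lt_right Nat.card_pos (by omega)))
    exact Subgroup.card_eq_one.1 (le_antisymm hN1 Nat.card_pos)
  · right
    obtain ⟨ν, hν, hνe, T', hT'⟩ := Fus.realSys_realizedBy h1 hT N
    have hSN : ∀ s : S, ι s ∈ N := fun s => by
      have hm : (s : Ω) ∈ Fus.pullSub ι N := hTS.symm ▸ s.2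
      have := ((Fus.mem_pullSub ι).1 hm).2
      rwa [Fus.extFun_apply ι s.2] at this
    let κ : ↥S →* N := ι.codRestrict N hSN
    have hκ : F.IsRealizedBy κ := by
      refine ⟨fun a b e => h1.1 (congrArg Subtype.val e), fun P hP φ hφ => ?_⟩
      rw [← hhom P]
      constructor
      · rintro ⟨-, -, g, hg, hge⟩
        refine ⟨⟨g, hg⟩, fun x => Subtype.ext ?_⟩
        have h3 := hge x
        rw [Fus.extFun_apply ι (hφ x), Fus.extFun_apply ι (hP x.2)] at h3
        exact h3
      · rintro ⟨g, hg⟩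
        refine ⟨hTS.symm ▸ hP, fun x => hTS.symm ▸ hφ x, g, g.2, fun x => ?_⟩
        rw [Fus.extFun_apply ι (hφ x), Fus.extFun_apply ι (hP x.2)]
        exact congrArg Subtype.val (hg x)
    have hr : κ.range = ν.range := by
      ext y
      constructor
      · rintro ⟨s, rfl⟩
        refine ⟨⟨s, hTS.symm ▸ s.2⟩, Subtype.ext ?_⟩
        rw [hνe]
        exact Fus.extFun_apply ι s.2
      · rintro ⟨x, rfl⟩
        refine ⟨⟨x, Fus.pullSub_le ι N x.2⟩, Subtype.ext ?_⟩
        rw [hνe]
        exact (Fus.extFun_apply ι (Fus.pullSub_le ι N x.2)).symm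
    exact Subgroup.eq_top_of_le_card N (hmin N inferInstance inferInstance κ hκ ⟨T', hr ▸ hT'⟩)

end Cfsg.Agent.S5343
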