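import Cfsg.Statements.S2300
import Cfsg.Agent.Lib.Block.SL2Char.SLFacts
-- import your own Cfsg.Agent.* helpers here

set_option autoImplicit false
open Cfsg

namespace Cfsg.Agent.S2300

open Cfsg.Agent.Block.SL2Char

/-- Over a finite field F with q elements, q even, every irreducible complex character of SL₂ has degree 1, q − 1, q or q + 1; and when q ≥ 4 (so that these four numbers are distinct) there are exactly one irreducible character of degree 1, one of degree q, (q − 2)/2 of degree q + 1 and q/2 of degree q − 1. -/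
theorem result {F : Type*} [Field F] [Fintype F] [CharP F 2] :
    (∀ χ : Matrix.SpecialLinearGroup (Fin 2) F → ℂ, Cfsg.IsIrrCharacter (Matrix.SpecialLinearGroup (Fin 2) F) χ →
      χ 1 = 1 ∨ χ 1 = (Fintype.card F : ℂ) - 1 ∨ χ 1 = (Fintype.card F : ℂ) ∨ χ 1 = (Fintype.card F : ℂ) + 1) ∧
    (4 ≤ Fintype.card F →
      Nat.card {χ : Cfsg.IrrCharacter (Matrix.SpecialLinearGroup (Fin 2) F) // (χ : Matrix.SpecialLinearGroup (Fin 2) F → ℂ) 1 = 1} = 1 ∧
      Nat.card {χ : Cfsg.IrrCharacter (Matrix.SpecialLinearGroup (Fin 2) F) // (χ : Matrix.SpecialLinearGroup (Fin 2) F → ℂ) 1 = (Fintype.card F : ℂ)} = 1 ∧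
      Nat.card {χ : Cfsg.IrrCharacter (Matrix.SpecialLinearGroup (Fin 2) F) // (χ : Matrix.SpecialLinearGroup (Fin 2) F → ℂ) 1 = (Fintype.card F : ℂ) + 1} = (Fintype.card F - 2) / 2 ∧
      Nat.card {χ : Cfsg.IrrCharacter (Matrix.SpecialLinearGroup (Fin 2) F) // (χ : Matrix.SpecialLinearGroup (Fin 2) F → ℂ) 1 = (Fintype.card F : ℂ) - 1} = Fintype.card F / 2) := by
  classical
  obtain ⟨K, _, _, _, _, hK⟩ := exists_model F
  have he : (Z2 F).card = 1 := card_Z2_even
  refine ⟨fun χ hχ => ?_, fun hq => ?_⟩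
  · rcases degree_cases_even K hK he hχ with ⟨-, h⟩ | ⟨-, h⟩ | ⟨-, h⟩ | ⟨-, h⟩
    · exact Or.inl h
    · exact Or.inr (Or.inr (Or.inl h))
    · exact Or.inr (Or.inr (Or.inr h))
    · exact Or.inr (Or.inl h)
  have hev : ¬ Odd (Fintype.card F) := fun ho => by
    rw [card_Z2_odd ho] at he; omega
  have key : ∀ (f : Matrix.SpecialLinearGroup (Fin 2) F → ℂ) (m : ℕ),
      IsIrrCharacter (Matrix.SpecialLinearGroup (Fin 2) F) f → f 1 = (m : ℂ) →
      (m = 1 ∧ f = fun _ => 1) ∨ (m = Fintype.card F ∧ f = vSS) ∨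
      (m = Fintype.card F + 1 ∧ f ∈ famC (F := F)) ∨ (m + 1 = Fintype.card F ∧ f ∈ famD K hK) := by
    intro f m hf hm
    obtain ⟨n, hn, h⟩ := irr_cases_S K hK hf
    obtain rfl : m = n := Nat.cast_injective (hm.symm.trans hn)
    rcases h with h | h | h | h | ⟨-, h, -⟩ | ⟨-, h, -⟩
    · exact Or.inl h
    · exact Or.inr (Or.inl h)
    · exact Or.inr (Or.inr (Or.inl h))
    · exact Or.inr (Or.inr (Or.inr h))
    · exact absurd h hev
    · exact absurd h hev
  have hC := card_famC (F := F) K hK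
  have hD := card_famD K hK
  rw [he] at hC hD
  refine ⟨?_, ?_, ?_, ?_⟩
  · rw [card_degree_iff (S := {fun _ => 1}) ?_ ?_, Finset.card_singleton]
    · intro f hf
      rw [Finset.mem_singleton] at hf
      subst hf
      exact ⟨Cfsg.Agent.Char.isIrr_one, rfl⟩
    · intro f hf hm
      rcases key f 1 hf (by rw [hm, Nat.cast_one]) with ⟨hn, h⟩ | ⟨hn, h⟩ | ⟨hn, h⟩ | ⟨hn, h⟩
      all_goals first | omega | simp [h]
  · rw [card_degree_iff (S := {vSS}) ?_ ?_, Finset.card_singleton]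
    · intro f hf
      rw [Finset.mem_singleton] at hf
      subst hf
      exact ⟨isIrr_vSS K hK, vSS_one⟩
    · intro f hf hm
      rcases key f _ hf hm with ⟨hn, h⟩ | ⟨hn, h⟩ | ⟨hn, h⟩ | ⟨hn, h⟩
      all_goals first | omega | simp [h]
  · rw [card_degree_iff (S := famC (F := F)) ?_ ?_]
    · omega
    · intro f hf
      obtain ⟨β, hβ, rfl⟩ := mem_famC.1 hf
      exact ⟨isIrr_vIS K hK hβ, vIS_one β⟩
    · intro f hf hm
      rcases key f (Fintype.card F + 1) hf (by rw [hm]; push_cast; ring) with ⟨hn, h⟩ | ⟨hn, h⟩ | ⟨hn, h⟩ | ⟨hn, h⟩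
      all_goals first | omega | exact h
  · rw [card_degree_iff (S := famD K hK) ?_ ?_]
    · omega
    · intro f hf
      obtain ⟨ψ, hψ, rfl⟩ := (mem_famD K hK).1 hf
      exact ⟨isIrr_vDS K hK hψ, vDS_one K hK ψ⟩
    · intro f hf hm
      rcases key f (Fintype.card F - 1) hf (by rw [hm, cardF_sub_one Fintype.card_pos]) with ⟨hn, h⟩ | ⟨hn, h⟩ | ⟨hn, h⟩ | ⟨hn, h⟩
      all_goals first | omega | exact h

end Cfsg.Agent.S2300
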