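import Cfsg.Statements.S0201
import Cfsg.Agent.Lib.Invol.BrauerSuzuki
-- import your own Cfsg.Agent.* helpers here

set_option autoImplicit false
open Cfsg

namespace Cfsg.Agent.S0201

/-- Brauer–Suzuki Theorem: if a Sylow 2-subgroup of a finite group is generalized quaternion (of order at least 8) and the group has no nontrivial normal subgroup of odd order, then its centre has order 2. -/
theorem result {G : Type*} [Group G] [Finite G] (S : Sylow 2 G) (n : ℕ) (e : (S : Subgroup G) ≃* QuaternionGroup (2 ^ (n + 1))) (hO : ∀ N : Subgroup G, N.Normal → Odd (Nat.card N) → N = ⊥) : Nat.card (Subgroup.center G) = 2 := by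
  haveI : Fact (Nat.Prime 2) := ⟨Nat.prime_two⟩
  haveI : NeZero (2 ^ (n + 1)) := ⟨by positivity⟩
  have h2 : 2 ≤ 2 ^ (n + 1) := by
    calc 2 = 2 ^ 1 := (pow_one 2).symm
      _ ≤ _ := Nat.pow_le_pow_right two_pos (by omega)
  have huniq : ∀ u ∈ (S : Subgroup G), ∀ v ∈ (S : Subgroup G), orderOf u = 2 → orderOf v = 2 →
      u = v := by
    intro u hu v hv hu2 hv2
    have key : ∀ w : (S : Subgroup G), orderOf (w : G) = 2 →
        e w = QuaternionGroup.a ((2 ^ (n + 1) : ℕ) : ZMod (2 * 2 ^ (n + 1))) := by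
      intro w hw
      rw [Subgroup.orderOf_coe, ← MulEquiv.orderOf_eq e] at hw
      refine (BS.quaternion_sq_one (x := e w) ?_).resolve_left fun h1 => ?_
      · have h0 := pow_orderOf_eq_one (e w)
        rwa [hw] at h0
      rw [h1, orderOf_one] at hw
      norm_num at hw
    exact congrArg Subtype.val (e.injective ((key ⟨u, hu⟩ hu2).trans (key ⟨v, hv⟩ hv2).symm))
  obtain ⟨w, hw⟩ : ∃ w : G, orderOf w = 2 := by
    refine exists_prime_orderOf_dvd_card' 2 (dvd_trans ?_ (Subgroup.card_subgroup_dvd_card (S : Subgroup G)))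
    rw [Nat.card_congr e.toEquiv, Nat.card_eq_fintype_card, QuaternionGroup.card]
    exact dvd_mul_of_dvd_left (by norm_num) _
  obtain ⟨N, hN, hodd, hmem⟩ := BS.exists_odd_normal (BS.twoRankOne_of_sylow S huniq) hw
  have hwc : w ∈ Subgroup.center G := Subgroup.mem_center_iff.2 fun g => by
    have h1 := hmem g
    rw [hO N hN hodd, Subgroup.mem_bot, mul_inv_eq_one, mul_inv_eq_iff_eq_mul] at h1
    exact h1.symm
  have h2el : ∀ c ∈ Subgroup.center G, c = 1 ∨ c = w := by
    intro c hc
    obtain ⟨a, b, hb, hab⟩ := Nat.exists_eq_two_pow_mul_odd (orderOf_pos c).ne'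
    have hnorm : ∀ d ∈ Subgroup.center G, (Subgroup.zpowers d).Normal := fun d hd => ⟨fun x hx g => by
      rw [Subgroup.mem_center_iff.1 (Subgroup.zpowers_le.2 hd hx) g, mul_inv_cancel_right]
      exact hx⟩
    have hd : c ^ 2 ^ a = 1 := by
      have h1 := hO _ (hnorm _ (pow_mem hc (2 ^ a))) (by
        rw [Nat.card_zpowers, orderOf_pow' c (by positivity), hab,
          Nat.gcd_eq_right (dvd_mul_right _ _), Nat.mul_div_cancel_left _ (by positivity)]
        exact hb)
      exact Subgroup.zpowers_eq_bot.1 h1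
    have hcS : c ∈ (S : Subgroup G) := by
      have hp : IsPGroup 2 (Subgroup.zpowers c) := by
        obtain ⟨j, -, hj⟩ := (Nat.dvd_prime_pow Nat.prime_two).1 (orderOf_dvd_of_pow_eq_one hd)
        exact IsPGroup.of_card (by rw [Nat.card_zpowers, hj])
      haveI := hnorm c hc
      exact hp.le_sylow_of_normal S (Subgroup.mem_zpowers c)
    have hsq : c ^ 2 = 1 := by
      have h1 := BS.quaternion_center_sq h2 (x := e ⟨c, hcS⟩) fun y => by
        obtain ⟨y, rfl⟩ := e.surjective y
        rw [← map_mul, ← map_mul]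
        exact congrArg e (Subtype.ext (Subgroup.mem_center_iff.1 hc y))
      rw [← map_pow, MulEquiv.map_eq_one_iff] at h1
      exact congrArg Subtype.val h1
    by_cases hc1 : c = 1
    · exact .inl hc1
    · exact .inr (BS.twoRankOne_of_sylow S huniq c w (orderOf_eq_prime hsq hc1) hw
        (Subgroup.mem_center_iff.1 hwc c))
  have heq : Subgroup.center G = Subgroup.zpowers w := by
    refine le_antisymm (fun c hc => ?_) (Subgroup.zpowers_le.2 hwc)
    rcases h2el c hc with rfl | rfl
    · exact one_mem _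
    · exact Subgroup.mem_zpowers _
  rw [heq, Nat.card_zpowers, hw]

end Cfsg.Agent.S0201
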