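import Cfsg.Statements.S4206
import Mathlib

set_option maxHeartbeats 1000000
set_option maxRecDepth 8000

set_option autoImplicit false
open Cfsg
open scoped commutatorElement

namespace Cfsg.Agent.S4206

/-- Let `H 0 ≥ H 1 ≥ H 2 ≥ ⋯` be normal subgroups of a finite group and `L` a subgroup with `⁅H i, L⁆ ≤ H (i+1)` for all `i`. Then `⁅H i, γ⁆ ≤ H (i + j + 1)` where `γ` is the `j`-th term of the lower central series of `L` (indexed from `0`, so the term with index `j` is the `(j+1)`-fold commutator). -/
theorem result {G : Type*} [Group G] [Finite G] (H : ℕ → Subgroup G) (hN : ∀ i, (H i).Normal) (hdesc : ∀ i, H (i + 1) ≤ H i) (L : Subgroup G) (hL : ∀ i, ⁅H i, L⁆ ≤ H (i + 1)) (i j : ℕ) : ⁅H i, L.lowerCentralSeries j⁆ ≤ H (i + j + 1) := by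
  suffices h : ∀ j i, ⁅H i, L.lowerCentralSeries j⁆ ≤ H (i + j + 1) from h j i
  intro j
  induction j with
  | zero => intro i; exact hL i
  | succ j ih =>
    intro i
    haveI := hN (i + (j + 1) + 1)
    rw [Subgroup.lowerCentralSeries_succ, Subgroup.commutator_comm]
    -- three subgroups modulo the target
    set f := QuotientGroup.mk' (H (i + (j + 1) + 1))
    have hker : ∀ A : Subgroup G, A ≤ H (i + (j + 1) + 1) → A.map f = ⊥ := fun A hA => by
      rw [Subgroup.map_eq_bot_iff, QuotientGroup.ker_mk']; exact hA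
    refine (QuotientGroup.ker_mk' (H (i + (j + 1) + 1))).le.trans' ?_
    rw [← Subgroup.map_eq_bot_iff, Subgroup.map_commutator, Subgroup.map_commutator]
    refine Subgroup.commutator_commutator_eq_bot_of_rotate ?_ ?_
    · rw [← Subgroup.map_commutator, ← Subgroup.map_commutator]
      refine hker _ ?_
      calc ⁅⁅L, H i⁆, L.lowerCentralSeries j⁆ ≤ ⁅H (i + 1), L.lowerCentralSeries j⁆ :=
            Subgroup.commutator_mono ((Subgroup.commutator_comm _ _).le.trans (hL i)) le_rfl
        _ ≤ _ := (ih (i + 1)).trans (le_of_eq (congrArg H (by omega)))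
    · rw [← Subgroup.map_commutator, ← Subgroup.map_commutator]
      refine hker _ ?_
      calc ⁅⁅H i, L.lowerCentralSeries j⁆, L⁆ ≤ ⁅H (i + j + 1), L⁆ := Subgroup.commutator_mono (ih i) le_rfl
        _ ≤ _ := (hL _).trans (le_of_eq (congrArg H (by omega)))

end Cfsg.Agent.S4206
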