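import Cfsg.Statements.S4209
import Cfsg.Agent.Lib.Transfer.PolySeq
import Mathlib

set_option maxHeartbeats 1000000
set_option maxRecDepth 8000

set_option autoImplicit false
open Cfsg
open scoped commutatorElement

namespace Cfsg.Agent.S4209

/-- A finite `p`-group of nilpotency class less than `p` (the term of index `p - 1` of the lower central series of the whole group, indexed from `0`, is trivial) is a regular `p`-group. -/
theorem result {G : Type*} [Group G] [Finite G] {p : ℕ} [Fact p.Prime] (hG : IsPGroup p G) (hcl : (⊤ : Subgroup G).lowerCentralSeries (p - 1) = ⊥) : Cfsg.IsRegularPGroup p G := by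
  refine ⟨hG, fun a b k => ?_⟩
  have hp := (Fact.out : p.Prime)
  set H := Subgroup.closure ({a, b} : Set G) with hH
  have ha : a ∈ H := Subgroup.subset_closure (Set.mem_insert _ _)
  have hb : b ∈ H := Subgroup.subset_closure (Set.mem_insert_of_mem _ rfl)
  have hL : (⊤ : Subgroup H).lowerCentralSeries (p - 1) = ⊥ := by
    refine Subgroup.map_injective H.subtype_injective ?_
    rw [Subgroup.map_bot, eq_bot_iff, ← hcl, Subgroup.top_subtype_lowerCentralSeries]
    have key : ∀ m, H.lowerCentralSeries m ≤ (⊤ : Subgroup G).lowerCentralSeries m := fun m => by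
      induction m with
      | zero => exact le_top
      | succ m ih => exact Subgroup.commutator_mono ih le_top
    exact key _
  obtain ⟨c, hc, he⟩ := Cfsg.Agent.Transfer.PolySeq.hall_petrescu hp hL ⟨a, ha⟩ ⟨b, hb⟩ k
  refine ⟨c, ?_, congrArg (fun v : H => (v : G)) he⟩
  have hmap : (Cfsg.powerClosure p k (commutator H)).map H.subtype ≤ Cfsg.powerClosure p k ⁅H, H⁆ := by
    rw [Cfsg.powerClosure, MonoidHom.map_closure, Subgroup.closure_le]
    rintro _ ⟨_, ⟨x, hx, rfl⟩, rfl⟩
    refine Subgroup.subset_closure ⟨x, ?_, by simp⟩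
    have h1 : ⁅H, H⁆ = (commutator H).map H.subtype := by
      rw [commutator_def, Subgroup.map_commutator, ← MonoidHom.range_eq_map, Subgroup.range_subtype]
    rw [h1]
    exact Subgroup.mem_map_of_mem H.subtype hx
  exact hmap (Subgroup.mem_map_of_mem H.subtype hc)

end Cfsg.Agent.S4209
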