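import Cfsg.Statements.S3963
import Mathlib
import Cfsg.Agent.Lib.Grp.SchurM.Bilinear
import Cfsg.Agent.Lib.Grp.SchurM.Projective

set_option autoImplicit false
open Cfsg
open scoped commutatorElement

namespace Cfsg.Agent.S3963

/-- For every `n ≥ 1` the dicyclic (generalized quaternion) group of order `4 n` has trivial Schur multiplier. -/
theorem result (n : ℕ) [NeZero n] : Cfsg.HasCyclicSchurMultiplier (QuaternionGroup n) 1 := by
  refine Agent.Grp.SchurM.hasCyclic_one_of_forall fun Γ _ _ σ hσ => ?_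
  obtain ⟨a, ha⟩ := hσ.1 (QuaternionGroup.a 1)
  obtain ⟨b, hb⟩ := hσ.1 (QuaternionGroup.xa 0)
  have hgen : Subgroup.closure ({σ b, σ a} : Set (QuaternionGroup n)) = ⊤ := by
    rw [ha, hb, eq_top_iff]
    intro q _
    have h1 : ∀ i : ZMod (2 * n), QuaternionGroup.a i ∈ Subgroup.closure ({QuaternionGroup.xa 0, QuaternionGroup.a 1} : Set (QuaternionGroup n)) := by
      intro i
      rw [← ZMod.natCast_zmod_val i, ← QuaternionGroup.a_one_pow]
      exact pow_mem (Subgroup.subset_closure (by simp)) _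
    rcases q with i | i
    · exact h1 i
    · rw [show QuaternionGroup.xa i = QuaternionGroup.xa 0 * QuaternionGroup.a i by simp]
      exact mul_mem (Subgroup.subset_closure (by simp)) (h1 i)
  have hconj : σ b * σ a * (σ b)⁻¹ = (σ a)⁻¹ := by
    rw [ha, hb, mul_inv_eq_iff_eq_mul]
    rw [eq_inv_mul_iff_mul_eq]
    simp
  have hnq : σ a ^ n = σ b ^ 2 := by rw [ha, hb, QuaternionGroup.a_one_pow, QuaternionGroup.xa_sq]
  have hn : Commute (σ a ^ n) (σ b) := hnq ▸ (Commute.refl (σ b)).pow_left 2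
  have hn' : Commute (a ^ n) b := by
    have hw : (b ^ 2)⁻¹ * a ^ n ∈ σ.ker := by
      rw [MonoidHom.mem_ker, map_mul, map_inv, map_pow, map_pow, hnq, inv_mul_cancel]
    rw [show a ^ n = b ^ 2 * ((b ^ 2)⁻¹ * a ^ n) by group]
    exact ((Commute.refl b).pow_left 2).mul_left (Subgroup.mem_center_iff.mp (hσ.2.1 hw) b).symm
  obtain ⟨h1, h2, h3⟩ := Agent.Grp.SchurM.dihedral_type hσ.2.1 hgen hconj hn hn'
  rw [eq_bot_iff]
  intro k hk
  obtain ⟨j, rfl⟩ := h1 k (hσ.2.2 hk)
  have h4 : (QuaternionGroup.a 1 : QuaternionGroup n) ^ (-2 * j) = 1 := by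
    rw [zpow_mul, ← ha, ← h3, ← map_zpow]; exact hk
  rw [← orderOf_dvd_iff_zpow_eq_one, QuaternionGroup.orderOf_a_one] at h4
  have h5 : (n : ℤ) ∣ j := by
    obtain ⟨t, ht⟩ := h4
    push_cast at ht
    exact ⟨-t, by linarith⟩
  obtain ⟨t, rfl⟩ := h5
  rw [Subgroup.mem_bot, zpow_mul, zpow_natCast, h2, one_zpow]

end Cfsg.Agent.S3963
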