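import Cfsg.Statements.S2117
import Cfsg.Agent.Lib.Lie.SLTwoMult
-- import your own Cfsg.Agent.* helpers here

set_option autoImplicit false
open Cfsg

namespace Cfsg.Agent.S2117

/-- For a finite field with q elements, q ≠ 4 and q ≠ 9, the special linear group SL₂ has trivial Schur multiplier (here the Schur multiplier is described through stem extensions, as in the definitions). -/
theorem result {F : Type*} [Field F] [Fintype F] (h4 : Fintype.card F ≠ 4) (h9 : Fintype.card F ≠ 9) : Cfsg.HasCyclicSchurMultiplier (Matrix.SpecialLinearGroup (Fin 2) F) 1 := by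
  classical
  refine Spor.Mult.trivial_of_forall fun Δ _ _ σ hσ => ?_
  by_cases h5 : 5 ≤ Fintype.card F
  · exact Lie.SLMult.ker_eq_bot_two σ hσ.1 hσ.2.1 h4 h9 h5 hσ.2.2
  have hq : Fintype.card F = 2 ∨ Fintype.card F = 3 := by
    have := Fintype.one_lt_card (α := F)
    omega
  have hp : (Fintype.card F).Prime := by rcases hq with e | e <;> rw [e] <;> norm_num
  haveI := Fact.mk hp
  let e := Classical.SLTwoSmall.mapEquiv (ZMod.ringEquivOfPrime F hp rfl).symm 2
  have hstem : Cfsg.IsStemExtension (e.toMonoidHom.comp σ) := by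
    have hk : (e.toMonoidHom.comp σ).ker = σ.ker := by
      rw [← MonoidHom.comap_ker, (MonoidHom.ker_eq_bot_iff e.toMonoidHom).2 e.injective, MonoidHom.comap_bot]
    exact ⟨e.surjective.comp hσ.1, hk ▸ hσ.2.1, hk ▸ hσ.2.2⟩
  have h := Lie.SLMult.ker_eq_bot_small hq _ hstem
  rwa [← MonoidHom.comap_ker, (MonoidHom.ker_eq_bot_iff e.toMonoidHom).2 e.injective, MonoidHom.comap_bot]
    at h

end Cfsg.Agent.S2117
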