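import Cfsg.Statements.S0254
import Cfsg.Agent.Lib.Classical.SLNormal
import Cfsg.Agent.S0497
import Cfsg.Agent.S0243
-- import your own Cfsg.Agent.* helpers here

set_option autoImplicit false
open Cfsg

namespace Cfsg.Agent.S0254

/-- PSL_2(9) is isomorphic to A_6. -/
theorem result {F : Type*} [Field F] [Fintype F] (hF : Fintype.card F = 9) : Nonempty (Matrix.ProjectiveSpecialLinearGroup (Fin 2) F ≃* alternatingGroup (Fin 6)) := by
  haveI : IsSimpleGroup (Matrix.ProjectiveSpecialLinearGroup (Fin 2) F) :=
    Classical.PSL_isSimple le_rfl fun _ => by rw [hF]; norm_num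
  refine Cfsg.Agent.S0497.result ?_
  have h := Cfsg.Agent.S0243.result (F := F) hF 2 le_rfl
  rw [Fin.prod_univ_two] at h
  norm_num at h
  omega

end Cfsg.Agent.S0254
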