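import Cfsg.Statements.S3784
import Mathlib

set_option autoImplicit false
open Cfsg

namespace Cfsg.Agent.S3784

/-- Let p, q be primes and a, b positive integers with p^a = q^b + 1. Then either p = 2, b = 1, a is prime and q = 2^a − 1; or q = 2, a = 1, b is a power of 2 and p = 2^b + 1; or p^a = 9 and q^b = 8. -/
theorem result (p q a b : ℕ) (hp : p.Prime) (hq : q.Prime) (ha : 1 ≤ a) (hb : 1 ≤ b) (h : p ^ a = q ^ b + 1) : (p = 2 ∧ b = 1 ∧ a.Prime ∧ q + 1 = 2 ^ a) ∨ (q = 2 ∧ a = 1 ∧ (∃ m : ℕ, b = 2 ^ m) ∧ p = 2 ^ b + 1) ∨ (p ^ a = 9 ∧ q ^ b = 8) := by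
  have hodd : ∀ x k : ℕ, 1 < x → Odd k → 1 < k → ∀ r : ℕ, r.Prime → ∀ j : ℕ,
      (x ^ k - 1 = r ^ j ∧ Odd x ∨ x ^ k + 1 = r ^ j ∧ Odd x) → r ≠ 2 := by
    intro x k hx hk hk1 r hr j hcase hr2
    subst hr2
    have hodd : Odd (∑ i ∈ Finset.range k, x ^ i) ∨ True := Or.inr trivial
    rcases hcase with ⟨he, hxo⟩ | ⟨he, hxo⟩
    · have h1 := Nat.geomSum_eq (by omega : 2 ≤ x) k
      have h2 : (∑ i ∈ Finset.range k, x ^ i) * (x - 1) = 2 ^ j := by
        rw [← he]
        have := geom_sum_mul_of_one_le (R := ℕ) (by omega : 1 ≤ x) k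
        exact this
      obtain ⟨i, -, hi⟩ := (Nat.dvd_prime_pow Nat.prime_two).mp ⟨_, h2.symm⟩
      have hodd : Odd (∑ i ∈ Finset.range k, x ^ i) := by
        rw [Nat.odd_iff, Finset.sum_nat_mod, Finset.sum_congr rfl (fun i _ => (Nat.odd_iff.mp (hxo.pow (n := i)))), Finset.sum_const,
          Finset.card_range, smul_eq_mul, mul_one, Nat.odd_iff.mp hk]
      rcases i with _ | i
      · have h3 : ∑ i ∈ Finset.range 2, x ^ i ≤ ∑ i ∈ Finset.range k, x ^ i :=
          Finset.sum_le_sum_of_subset (Finset.range_subset_range.mpr (by omega : 2 ≤ k))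
        simp [Finset.sum_range_succ] at h3 hi
        omega
      · rw [hi, pow_succ] at hodd
        exact (Nat.not_even_iff_odd.mpr hodd) ⟨2 ^ i, by ring⟩
    · have hd : x + 1 ∣ 2 ^ j := he ▸ by simpa using hk.nat_add_dvd_pow_add_pow x 1
      obtain ⟨i, -, hi⟩ := (Nat.dvd_prime_pow Nat.prime_two).mp hd
      obtain ⟨c, hc⟩ := he ▸ (by simpa using hk.nat_add_dvd_pow_add_pow x 1 : x + 1 ∣ x ^ k + 1)
      have hcd : c ∣ 2 ^ j := ⟨x + 1, by rw [hc, mul_comm]⟩
      obtain ⟨i', -, hi'⟩ := (Nat.dvd_prime_pow Nat.prime_two).mp hcd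
      have hzmod : ((x : ℤ) + 1) * (∑ i ∈ Finset.range k, (-(x : ℤ)) ^ i) = x ^ k + 1 := by
        have := geom_sum_mul (-(x : ℤ)) k
        rw [hk.neg_pow] at this
        linarith
      have hce : (c : ℤ) = ∑ i ∈ Finset.range k, (-(x : ℤ)) ^ i := by
        have e : ((x : ℤ) + 1) * c = x ^ k + 1 := by
          have := congrArg (Nat.cast : ℕ → ℤ) (hc.symm.trans he.symm)
          push_cast at this
          exact this
        exact mul_left_cancel₀ (by positivity) (e.trans hzmod.symm)
      have hodd : Odd c := by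
        have h2 : ((c : ℤ) : ZMod 2) = 1 := by
          rw [hce]
          push_cast
          have hx1 : ((x : ZMod 2)) = 1 := by rw [← ZMod.natCast_mod, Nat.odd_iff.mp hxo, Nat.cast_one]
          simp only [hx1, show (-1 : ZMod 2) = 1 from rfl, one_pow, Finset.sum_const, Finset.card_range, nsmul_eq_mul, mul_one]
          rw [← ZMod.natCast_mod, Nat.odd_iff.mp hk, Nat.cast_one]
        rw [Int.cast_natCast, ← ZMod.natCast_mod] at h2
        rcases Nat.mod_two_eq_zero_or_one c with h3 | h3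
        · rw [h3] at h2; simp at h2
        · exact Nat.odd_iff.mpr h3
      rcases i' with _ | i'
      · rw [pow_zero] at hi'
        rw [hi', mul_one] at hc
        have h4 := he.trans hc
        have h5 := Nat.pow_lt_pow_right hx hk1
        rw [pow_one] at h5
        omega
      · rw [hi', pow_succ] at hodd
        exact (Nat.not_even_iff_odd.mpr hodd) ⟨2 ^ i', by ring⟩
  have hqpos : 1 < q ^ b := Nat.one_lt_pow (by omega) hq.one_lt
  rcases hp.eq_two_or_odd' with rfl | hpo
  · left
    have hqo : Odd q := hq.eq_two_or_odd'.resolve_left fun e => by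
      subst e
      have h1 : 2 ∣ 2 ^ a := dvd_pow_self 2 (by omega)
      have h2 : 2 ∣ 2 ^ b := dvd_pow_self 2 (by omega)
      omega
    have hb1 : b = 1 := by
      by_contra hne
      rcases Nat.even_or_odd b with ⟨c, rfl⟩ | hbo
      · have h8 : q ^ (c + c) % 4 = 1 := by
          rw [← two_mul, pow_mul, Nat.pow_mod, sq, Nat.mul_mod]
          obtain ⟨s, rfl⟩ := hqo
          rcases Nat.even_or_odd s with ⟨u, rfl⟩ | ⟨u, rfl⟩ <;> ring_nf <;> simp [Nat.add_mul_mod_self_right, Nat.mul_mod]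
        rcases Nat.lt_or_ge a 2 with h2 | h2
        · rw [show a = 1 by omega] at h; omega
        · have : 4 ∣ 2 ^ a := (show 4 = 2 ^ 2 from rfl) ▸ pow_dvd_pow 2 h2
          omega
      · exact hodd q b hq.one_lt hbo (by omega) 2 Nat.prime_two a (Or.inr ⟨h.symm, hqo⟩) rfl
    subst hb1
    rw [pow_one] at h
    have hap : a.Prime := by
      have ha1 : a ≠ 1 := fun e => by subst e; have := hq.two_le; omega
      exact (Nat.prime_of_pow_sub_one_prime ha1 (by rw [h]; simpa using hq)).2
    exact ⟨rfl, rfl, hap, h.symm⟩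
  · have hq2 : q = 2 := by
      rcases hq.eq_two_or_odd' with e | hqo
      · exact e
      · exfalso
        have h1 : Odd (p ^ a) := hpo.pow
        have h2 : Odd (q ^ b) := hqo.pow
        rw [Nat.odd_iff] at h1 h2
        omega
    subst hq2
    rcases Nat.eq_or_lt_of_le ha with ha1 | ha1
    · right; left
      subst ha1
      rw [pow_one] at h
      exact ⟨rfl, rfl, Nat.pow_of_pow_add_prime (by norm_num) (by omega) (h ▸ hp), h⟩
    · right; right
      rcases Nat.even_or_odd a with ⟨c, rfl⟩ | hao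
      · have hc : 0 < c := by omega
        have hpc : 2 ≤ p ^ c := le_trans hp.two_le (Nat.le_self_pow hc.ne' p)
        have hfac : (p ^ c - 1) * (p ^ c + 1) = 2 ^ b := by
          obtain ⟨u, hu⟩ : ∃ u, p ^ c = u + 1 := ⟨p ^ c - 1, by omega⟩
          rw [hu, Nat.add_sub_cancel]
          rw [pow_add, hu] at h
          nlinarith
        obtain ⟨i, -, hi⟩ := (Nat.dvd_prime_pow Nat.prime_two).mp ⟨_, hfac.symm⟩
        obtain ⟨i', -, hi'⟩ := (Nat.dvd_prime_pow Nat.prime_two).mp (Dvd.intro_left _ hfac)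
        have hi1 : i ≤ 1 := by
          by_contra hh
          have h1 : 4 ∣ 2 ^ i := (show 4 = 2 ^ 2 from rfl) ▸ pow_dvd_pow 2 (by omega)
          rcases i' with _ | _ | i'
          · rw [pow_zero] at hi'; omega
          · rw [zero_add, pow_one] at hi'; omega
          · have h2 : 4 ∣ 2 ^ (i' + 1 + 1) := (show 4 = 2 ^ 2 from rfl) ▸ pow_dvd_pow 2 (by omega)
            omega
        have hpo' : p ^ c % 2 = 1 := Nat.odd_iff.mp hpo.pow
        have hpc3 : p ^ c = 3 := by
          rcases i with _ | _ | i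
          · simp at hi; omega
          · simp at hi; omega
          · omega
        have h9 : p ^ (c + c) = 9 := by rw [pow_add, hpc3]; norm_num
        exact ⟨h9, by omega⟩
      · exact absurd rfl (hodd p a hp.one_lt hao ha1 2 Nat.prime_two b (Or.inl ⟨by omega, hpo⟩))

end Cfsg.Agent.S3784
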