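import Cfsg.Statements.S0094
import Cfsg.Agent.Lib.Transfer.PGroups
import Cfsg.Agent.Lib.Grp.Frattini

set_option maxHeartbeats 1000000
set_option maxRecDepth 8000

set_option autoImplicit false
open Cfsg
open scoped commutatorElement

namespace Cfsg.Agent.S0094

/-- In a special p-group every central element has order dividing p. -/
theorem result {P : Type*} [Group P] [Finite P] {p : ℕ} [Fact p.Prime] (h : Cfsg.IsSpecial p P) (z : P) (hz : z ∈ Subgroup.center P) : z ^ p = 1 := by
  obtain ⟨hP, hfr, hcm⟩ := h
  haveI : (Subgroup.center P).Normal := inferInstance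
  rw [← hcm, commutator_eq_closure] at hz
  have key : ∀ g ∈ Subgroup.closure (commutatorSet P), g ∈ Subgroup.center P ∧ g ^ p = 1 := by
    intro g hg
    induction hg using Subgroup.closure_induction with
    | mem x hx =>
      obtain ⟨a, b, rfl⟩ := hx
      have hmem : ∀ a b : P, ⁅a, b⁆ ∈ Subgroup.center P := fun a b =>
        hcm ▸ Subgroup.commutator_mem_commutator (Subgroup.mem_top a) (Subgroup.mem_top b)
      refine ⟨hmem a b, ?_⟩
      have hpow : ∀ n : ℕ, ⁅a ^ n, b⁆ = ⁅a, b⁆ ^ n := by
        intro n
        induction n with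
        | zero => simp
        | succ n ih =>
          rw [pow_succ', Transfer.PGroups.comm_mul (Z := Subgroup.center P)
            (fun z hz => ((Subgroup.mem_center_iff.mp hz) a).symm) (hmem _ b)
            (fun z hz => ((Subgroup.mem_center_iff.mp hz) _).symm), ih, pow_succ']
      have hap : a ^ p ∈ Subgroup.center P := hfr ▸ Grp.pGroup_pow_mem_frattini hP a
      rw [← hpow, commutatorElement_eq_one_iff_mul_comm]
      exact (Subgroup.mem_center_iff.mp hap b).symm
    | one => exact ⟨one_mem _, one_pow _⟩
    | mul x y _ _ hx hy =>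
      refine ⟨mul_mem hx.1 hy.1, ?_⟩
      have hxy : Commute x y := (Subgroup.mem_center_iff.mp hy.1 x)
      rw [hxy.mul_pow, hx.2, hy.2, one_mul]
    | inv x _ hx => exact ⟨inv_mem hx.1, by rw [inv_pow, hx.2, inv_one]⟩
  exact (key z hz).2

end Cfsg.Agent.S0094
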