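import Cfsg.Statements.S3736
import Cfsg.Agent.Lib.Grp.Coprime
import Cfsg.Agent.Lib.Grp.Frattini
import Cfsg.Agent.Lib.Grp.GaschutzYen


set_option autoImplicit false
open Cfsg
open scoped commutatorElement

namespace Cfsg.Agent.S3736

/-- The Hall–Higman reduction for a minimal non-trivial action. Let B, A and P be subgroups of a finite group with P a p-group, B normalizing P, and A a normal subgroup of B of order prime to p. Suppose A does not centralize P but centralizes every proper B-invariant subgroup of P. Then [P, A] = P; P is elementary abelian or special; B acts irreducibly on P/Φ(P), that is, the only B-invariant subgroups of P containing Φ(P) are Φ(P) and P; and if p is odd then every element of P has order dividing p. -/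
theorem result {X : Type*} [Group X] [Finite X] {p : ℕ} [Fact p.Prime] (B A P : Subgroup X) (hP : IsPGroup p P) (hBP : B ≤ Subgroup.normalizer (P : Set X)) (hAB : A ≤ B) (hAn : B ≤ Subgroup.normalizer (A : Set X)) (hAp : (Nat.card A).Coprime p) (hnt : ⁅P, A⁆ ≠ ⊥) (hmin : ∀ U : Subgroup X, U < P → B ≤ Subgroup.normalizer (U : Set X) → ⁅U, A⁆ = ⊥) : ⁅P, A⁆ = P ∧ (Cfsg.IsElementaryAbelian p P ∨ Cfsg.IsSpecial p ↥P) ∧ (∀ U : Subgroup X, (frattini ↥P).map P.subtype ≤ U → U ≤ P → B ≤ Subgroup.normalizer (U : Set X) → U = (frattini ↥P).map P.subtype ∨ U = P) ∧ (p ≠ 2 → ∀ x ∈ P, x ^ p = 1) := by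
  classical
  have := Fintype.ofFinite A
  have hp : p.Prime := Fact.out
  have hAP : A ≤ Subgroup.normalizer (P : Set X) := hAB.trans hBP
  have hAcop : (Nat.card A).Coprime (Nat.card P) := by
    obtain ⟨k, hk⟩ := IsPGroup.iff_card.mp hP
    rw [hk]; exact hAp.pow_right k
  have hsolv : Group.IsSolvable A ∨ Group.IsSolvable P :=
    Or.inr (@IsNilpotent.to_isSolvable _ _ hP.isNilpotent)
  have h1 : ⁅P, A⁆ = P := by
    by_contra hne
    have hle := Cfsg.Agent.Grp.commutator_le_left_of_le_normalizer hAP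
    refine hnt ?_
    rw [← Cfsg.Agent.Grp.commutator_commutator_eq A P hAP hAcop hsolv]
    refine hmin _ (lt_of_le_of_ne hle hne) fun b hb => Cfsg.Agent.Grp.mem_normalizer_of_map_eq.mpr ?_
    rw [Subgroup.map_commutator, Cfsg.Agent.Grp.mem_normalizer_of_map_eq.mp (hBP hb),
      Cfsg.Agent.Grp.mem_normalizer_of_map_eq.mp (hAn hb)]
  -- subgroups of `P` normalized by `B`
  have hchar : ∀ K : Subgroup P, K.Characteristic → B ≤ Subgroup.normalizer ((K.map P.subtype : Subgroup X) : Set X) := by
    intro K hK b hb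
    refine Cfsg.Agent.Grp.mem_normalizer_of_map_eq.mpr ?_
    let e : P ≃* P := ((MulAut.conj b).subgroupMap P).trans
      (MulEquiv.subgroupCongr (Cfsg.Agent.Grp.mem_normalizer_of_map_eq.mp (hBP hb)))
    have he : K.map e.toMonoidHom = K := Subgroup.characteristic_iff_map_eq.mp hK e
    conv_rhs => rw [← he]
    rw [Subgroup.map_map, Subgroup.map_map]
    rfl
  -- a fixed element of an invariant quotient lies in the kernel
  have key : ∀ D : Subgroup P, D.Normal → commutator P ≤ D → A ≤ Subgroup.normalizer ((D.map P.subtype : Subgroup X) : Set X) →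
      ∀ u : P, (∀ a ∈ A, a * (u : X) = (u : X) * a) → u ∈ D := by
    intro D hD hcD hAD u hu
    let M : CommGroup (P ⧸ D) := { (inferInstance : Group (P ⧸ D)) with
      mul_comm := fun a b => by
        have hc := Subgroup.Normal.quotient_commutative_iff_commutator_le.mpr hcD
        exact hc.is_comm.comm a b }
    let cP : A → P →* P := fun a =>
      { toFun := fun x => ⟨(a : X) * x * (a : X)⁻¹, (Subgroup.mem_normalizer_iff.mp (hAP a.2) x).mp x.2⟩
        map_one' := Subtype.ext (by simp)
        map_mul' := fun x y => Subtype.ext (by simp [mul_assoc]) }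
    let N : P →* P ⧸ D := ∏ a : A, (QuotientGroup.mk' D).comp (cP a)
    have hN : ∀ x, N x = ∏ a : A, ((cP a x : P) : P ⧸ D) := fun x => by
      simp [N, MonoidHom.finsetProd_apply]
    have hNinv : ∀ (b : A) (x : P), N (cP b x) = N x := fun b x => by
      rw [hN, hN]
      refine Fintype.prod_equiv (Equiv.mulRight b) _ _ fun a => ?_
      exact congrArg (QuotientGroup.mk' D) (Subtype.ext (by simp [cP, mul_assoc]))
    have hker : ⁅P, A⁆ ≤ N.ker.map P.subtype := by
      rw [Subgroup.commutator_le]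
      intro x hx a ha
      refine ⟨⟨x, hx⟩ * (cP ⟨a, ha⟩ ⟨x, hx⟩)⁻¹, ?_, ?_⟩
      · rw [SetLike.mem_coe, MonoidHom.mem_ker, map_mul, map_inv, hNinv, mul_inv_cancel]
      · simp [cP, commutatorElement_def, mul_assoc]
    rw [h1] at hker
    obtain ⟨y, hy, hyu⟩ := hker u.2
    have hNu : N u = 1 := by rw [← Subtype.ext hyu]; exact hy
    have hfix : ∀ a : A, cP a u = u := fun a => Subtype.ext (mul_inv_eq_iff_eq_mul.mpr (hu a a.2))
    rw [hN, Finset.prod_congr rfl fun a _ => congrArg (fun z : P => (z : P ⧸ D)) (hfix a), Finset.prod_const,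
      Finset.card_univ, ← Nat.card_eq_fintype_card] at hNu
    have h2 : orderOf (u : P ⧸ D) ∣ Nat.card P := (orderOf_map_dvd (QuotientGroup.mk' D) u).trans (orderOf_dvd_natCard u)
    exact (QuotientGroup.eq_one_iff u).mp (orderOf_eq_one_iff.mp
      (Nat.eq_one_of_dvd_coprimes hAcop (orderOf_dvd_of_pow_eq_one hNu) h2))
  set Φ := (frattini ↥P).map P.subtype with hΦ
  have hΦB : B ≤ Subgroup.normalizer (Φ : Set X) := hchar _ frattini_characteristic
  have hPnt : Nontrivial P := by
    rw [Subgroup.nontrivial_iff_ne_bot]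
    intro e
    exact hnt (by rw [e, Subgroup.commutator_bot_left])
  have hΦlt : Φ < P := by
    refine lt_of_le_of_ne (Subgroup.map_subtype_le _) fun e => ?_
    have h2 : frattini ↥P = ⊤ := by
      rw [eq_top_iff]
      intro x _
      obtain ⟨y, hy, hyx⟩ := e.ge x.2
      rwa [Subtype.ext hyx] at hy
    obtain ⟨M, hM, -⟩ := (eq_top_or_exists_le_coatom (⊥ : Subgroup P)).resolve_left bot_ne_top
    exact hM.1 (top_le_iff.mp (h2 ▸ frattini_le_coatom hM))
  have hΦA : ⁅Φ, A⁆ = ⊥ := hmin Φ hΦlt hΦB
  have hΦc : ∀ u ∈ Φ, ∀ a ∈ A, a * u = u * a := fun u hu a ha =>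
    Subgroup.mem_centralizer_iff.mp (Subgroup.commutator_eq_bot_iff_le_centralizer.mp hΦA hu) a ha
  have hPΦn : P ≤ Subgroup.normalizer (Φ : Set X) := fun x hx =>
    Cfsg.Agent.Grp.mem_normalizer_of_map_eq.mpr (by
      rw [hΦ, Subgroup.map_map, show (MulAut.conj x).toMonoidHom.comp P.subtype =
        P.subtype.comp (MulAut.conj (⟨x, hx⟩ : P)).toMonoidHom from rfl, ← Subgroup.map_map,
        Subgroup.characteristic_iff_map_eq.mp frattini_characteristic])
  have hΦZ : frattini ↥P ≤ Subgroup.center P := by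
    have h2 : ⁅⁅A, P⁆, Φ⁆ = ⊥ := by
      refine Subgroup.commutator_commutator_eq_bot_of_rotate ?_ ?_
      · rw [eq_bot_iff, ← hΦA]
        exact Subgroup.commutator_mono ((Subgroup.commutator_comm P Φ).le.trans
          (Cfsg.Agent.Grp.commutator_le_left_of_le_normalizer hPΦn)) le_rfl
      · rw [hΦA, Subgroup.commutator_bot_left]
    rw [Subgroup.commutator_comm A P, h1] at h2
    intro z hz
    refine Subgroup.mem_center_iff.mpr fun y => Subtype.ext ?_
    exact (Subgroup.mem_centralizer_iff.mp (Subgroup.commutator_eq_bot_iff_le_centralizer.mp h2 y.2) z ⟨z, hz, rfl⟩).symm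
  have hcomm : commutator ↥P ≤ frattini ↥P := Cfsg.Agent.Grp.pGroup_commutator_le_frattini hP
  have hΦfix : ∀ u ∈ frattini ↥P, ∀ a ∈ A, a * (u : X) = (u : X) * a := fun u hu a ha => hΦc u ⟨u, hu, rfl⟩ a ha
  refine ⟨h1, ?_, ?_, ?_⟩
  · by_cases hab : IsMulCommutative P
    · left
      refine ⟨hab, fun x hx => ?_⟩
      have h2 : (⟨x, hx⟩ : P) ^ p ∈ (⊥ : Subgroup P) := key ⊥ inferInstance
        (Subgroup.commutator_le.mpr fun a _ b _ => by
          rw [Subgroup.mem_bot, commutatorElement_eq_one_iff_mul_comm]; exact hab.is_comm.comm a b)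
        (by rw [Subgroup.map_bot]; exact fun a _ => (Subgroup.normalizer_eq_top (H := (⊥ : Subgroup X))).ge (Subgroup.mem_top a))
        _ (hΦfix _ (Cfsg.Agent.Grp.pGroup_pow_mem_frattini hP _))
      exact congrArg Subtype.val (Subgroup.mem_bot.mp h2)
    · right
      refine ⟨hP, le_antisymm hΦZ ?_, le_antisymm (hcomm.trans hΦZ) ?_⟩
      · intro z hz
        have hZlt : (Subgroup.center P).map P.subtype < P := by
          refine lt_of_le_of_ne (Subgroup.map_subtype_le _) fun e => hab ⟨⟨fun a b => ?_⟩⟩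
          obtain ⟨y, hy, hyb⟩ := e.ge b.2
          rw [Subtype.ext hyb] at hy
          exact Subgroup.mem_center_iff.mp hy a
        have hZA := hmin _ hZlt (hchar _ inferInstance)
        exact key _ inferInstance hcomm (hAB.trans hΦB) z fun a ha =>
          Subgroup.mem_centralizer_iff.mp (Subgroup.commutator_eq_bot_iff_le_centralizer.mp hZA ⟨z, hz, rfl⟩) a ha
      · intro z hz
        have hZlt : (Subgroup.center P).map P.subtype < P := by
          refine lt_of_le_of_ne (Subgroup.map_subtype_le _) fun e => hab ⟨⟨fun a b => ?_⟩⟩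
          obtain ⟨y, hy, hyb⟩ := e.ge b.2
          rw [Subtype.ext hyb] at hy
          exact Subgroup.mem_center_iff.mp hy a
        have hZA := hmin _ hZlt (hchar _ inferInstance)
        exact key _ inferInstance le_rfl (hAB.trans (hchar _ inferInstance)) z fun a ha =>
          Subgroup.mem_centralizer_iff.mp (Subgroup.commutator_eq_bot_iff_le_centralizer.mp hZA ⟨z, hz, rfl⟩) a ha
  · intro U hΦU hUP hBU
    rcases hUP.lt_or_eq with h | h
    · left
      refine le_antisymm (fun u hu => ?_) hΦU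
      have hUA := hmin U h hBU
      exact ⟨⟨u, hUP hu⟩, key _ inferInstance hcomm (hAB.trans hΦB) _ fun a ha =>
        Subgroup.mem_centralizer_iff.mp (Subgroup.commutator_eq_bot_iff_le_centralizer.mp hUA hu) a ha, rfl⟩
    · exact Or.inr h
  · intro hp2 x hx
    have hpow : ∀ a b : P, (a * b) ^ p = a ^ p * b ^ p := by
      intro a b
      set c := ⁅b, a⁆
      have hcZ : c ∈ Subgroup.center P := hΦZ (hcomm (Subgroup.commutator_mem_commutator (Subgroup.mem_top b) (Subgroup.mem_top a)))
      have hz := Subgroup.mem_center_iff.mp hcZ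
      have hyx : b * a = c * a * b := by simp [c, commutatorElement_def, mul_assoc]
      have hcp : c ^ p = 1 := by
        have hb : ∀ n : ℕ, b ^ n * a = c ^ n * a * b ^ n := by
          intro n
          induction n with
          | zero => simp
          | succ n ihn =>
            calc b ^ (n + 1) * a = b * (b ^ n * a) := by rw [pow_succ', mul_assoc]
              _ = b * c ^ n * a * b ^ n := by rw [ihn]; simp [mul_assoc]
              _ = c ^ n * (b * a) * b ^ n := by rw [((show Commute b c from hz b).pow_right n).eq]; simp [mul_assoc]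
              _ = c ^ (n + 1) * a * b ^ (n + 1) := by rw [hyx, pow_succ, pow_succ']; simp [mul_assoc]
        have h2 := hb p
        have h3 := Subgroup.mem_center_iff.mp (hΦZ (Cfsg.Agent.Grp.pGroup_pow_mem_frattini hP b)) a
        rw [← h3, mul_assoc] at h2
        exact right_eq_mul.mp h2
      rw [Cfsg.Agent.Grp.mul_pow_class_two hyx (hz a).symm (hz b).symm p]
      obtain ⟨k, hk⟩ := (hp.odd_of_ne_two hp2)
      rw [show p.choose 2 = p * k by rw [Nat.choose_two_right, hk]; simp; rw [mul_left_comm, Nat.mul_div_cancel_left _ (by norm_num : 0 < 2)],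
        pow_mul, hcp, one_pow, one_mul]
    let f : P →* P := { toFun := fun a => a ^ p, map_one' := one_pow p, map_mul' := hpow }
    have hker : ⁅P, A⁆ ≤ f.ker.map P.subtype := by
      rw [Subgroup.commutator_le]
      intro y hy a ha
      have hy' : a * y * a⁻¹ ∈ P := (Subgroup.mem_normalizer_iff.mp (hAP ha) y).mp hy
      refine ⟨⟨y, hy⟩ * (⟨a * y * a⁻¹, hy'⟩ : P)⁻¹, ?_, by simp [commutatorElement_def, mul_assoc]⟩
      have h3 : (⟨a * y * a⁻¹, hy'⟩ : P) ^ p = (⟨y, hy⟩ : P) ^ p := Subtype.ext (by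
        have h4 := hΦc _ ⟨_, Cfsg.Agent.Grp.pGroup_pow_mem_frattini hP ⟨y, hy⟩, rfl⟩ a ha
        show (a * y * a⁻¹) ^ p = y ^ p
        rw [conj_pow]
        exact mul_inv_eq_iff_eq_mul.mpr h4)
      rw [SetLike.mem_coe, MonoidHom.mem_ker, map_mul, map_inv]
      show (⟨y, hy⟩ : P) ^ p * ((⟨a * y * a⁻¹, hy'⟩ : P) ^ p)⁻¹ = 1
      rw [h3, mul_inv_cancel]
    rw [h1] at hker
    obtain ⟨y, hy, hyx⟩ := hker hx
    rw [← hyx]
    exact congrArg Subtype.val (MonoidHom.mem_ker.mp hy)

end Cfsg.Agent.S3736
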