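import Cfsg.Statements.S0804
import Cfsg.Agent.Lib.Classical.DicksonIco
-- import your own Cfsg.Agent.* helpers here

set_option autoImplicit false
open Cfsg

namespace Cfsg.Agent.S0804
open Cfsg.Agent.Dickson

/-- PSL_2(q) has a subgroup isomorphic to A_5 iff 5 ∣ q(q² − 1). -/
theorem result {F : Type*} [Field F] [Fintype F] {q : ℕ} (hF : Fintype.card F = q) : (∃ H : Subgroup (Matrix.ProjectiveSpecialLinearGroup (Fin 2) F), Nonempty (H ≃* alternatingGroup (Fin 5))) ↔ 5 ∣ q * (q ^ 2 - 1) := by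
  subst hF
  rw [Ico.exists_alt5_iff]
  haveI : Fact (Nat.Prime 5) := ⟨by norm_num⟩
  have hc := card_psl (F := F)
  have he : Fintype.card F ^ 2 - 1 = (Fintype.card F - 1) * (Fintype.card F + 1) := by
    rw [mul_comm]; simpa using Nat.sq_sub_sq (Fintype.card F) 1
  rw [he, ← hc]
  refine ⟨fun h => h.mul_right _, fun h => ?_⟩
  refine ((Nat.prime_iff.mp (Fact.out : Nat.Prime 5)).dvd_or_dvd h).resolve_right fun h5 => ?_
  rcases del_cases F with ⟨e, -⟩ | ⟨e, -⟩ <;> rw [e] at h5 <;> norm_num at h5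

end Cfsg.Agent.S0804
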