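import Cfsg.Statements.S0892
import Cfsg.Agent.Lib.Grp.AltMultiplier
-- import your own Cfsg.Agent.* helpers here

set_option autoImplicit false
open Cfsg

namespace Cfsg.Agent.S0892

/-- Let n ≥ 4 with n ≠ 6 and n ≠ 7, and let Γ be a finite group with a subgroup Z contained in both the centre and the commutator subgroup of Γ such that Γ / Z is isomorphic to the alternating group on n letters. Then Z has order at most 2. -/
theorem result (n : ℕ) (hn : 4 ≤ n) (h6 : n ≠ 6) (h7 : n ≠ 7) {Γ : Type*} [Group Γ] [Finite Γ] (Z : Subgroup Γ) [Z.Normal] (hZc : Z ≤ Subgroup.center Γ) (hZd : Z ≤ commutator Γ) (e : Γ ⧸ Z ≃* alternatingGroup (Fin n)) : Nat.card Z ≤ 2 := by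
  let π0 : Γ →* alternatingGroup (Fin n) := e.toMonoidHom.comp (QuotientGroup.mk' Z)
  have hs0 : Function.Surjective π0 := e.surjective.comp (QuotientGroup.mk'_surjective Z)
  have hk0 : π0.ker = Z := by
    ext x
    show e (x : Γ ⧸ Z) = 1 ↔ _
    rw [MulEquiv.map_eq_one_iff, QuotientGroup.eq_one_iff]
  rcases (show n = 4 ∨ (5 ≤ n ∧ (n - 3 = 2 ∨ 5 ≤ n - 3)) by omega) with rfl | ⟨h5, hm⟩
  · let u := Equiv.altCongrHom (Fintype.equivOfCardEq (α := Fin 4) (β := Lie.Carmichael.Pt (Fin 2)) (by simp [Lie.Carmichael.Pt]))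
    have hker : (u.toMonoidHom.comp π0).ker = Z := by
      rw [← hk0]; ext x
      show u (π0 x) = 1 ↔ π0 x = 1
      exact MulEquiv.map_eq_one_iff u
    rw [← hker] at hZc hZd ⊢
    exact Grp.AltMult.four _ (u.surjective.comp hs0) hZc hZd
  · let u := Equiv.altCongrHom (Fintype.equivOfCardEq (α := Fin n) (β := Lie.Carmichael.Pt (Option (Fin (n - 3)))) (by simp [Lie.Carmichael.Pt]; omega))
    have hker : (u.toMonoidHom.comp π0).ker = Z := by
      rw [← hk0]; ext x
      show u (π0 x) = 1 ↔ π0 x = 1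
      exact MulEquiv.map_eq_one_iff u
    rw [← hker] at hZc hZd ⊢
    exact Grp.AltMult.large (n - 3) hm _ (u.surjective.comp hs0) hZc hZd

end Cfsg.Agent.S0892
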