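import Cfsg.Statements.S2086
import Cfsg.Agent.Lib.Lie.SLTwoMult
import Cfsg.Agent.Lib.Lie.UniversalCover
-- import your own Cfsg.Agent.* helpers here

set_option autoImplicit false
open Cfsg

namespace Cfsg.Agent.S2086

/-- Schur multipliers of the linear groups: for n ≥ 2 and a field F with q elements (q ≥ 4 when n = 2), apart from the five exceptional pairs (n, q) = (2, 4), (2, 9), (3, 2), (3, 4), (4, 2), the Schur multiplier of PSL_n(F) is cyclic of order gcd(n, q − 1); here the Schur multiplier is described through stem extensions, as in the definitions. -/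
theorem result {F : Type*} [Field F] [Fintype F] {q : ℕ} (hF : Fintype.card F = q) (n : ℕ) (hn : 2 ≤ n) (h2 : n = 2 → 4 ≤ q) (hexc : (n, q) ∉ ({(2, 4), (2, 9), (3, 2), (3, 4), (4, 2)} : Set (ℕ × ℕ))) : Cfsg.HasCyclicSchurMultiplier (Matrix.ProjectiveSpecialLinearGroup (Fin n) F) (Nat.gcd n (q - 1)) := by
  classical
  subst hF
  simp only [Set.mem_insert_iff, Set.mem_singleton_iff, Prod.mk.injEq, not_or] at hexc
  obtain ⟨e24, e29, e32, e34, e42⟩ := hexc
  have hperf : commutator (Matrix.SpecialLinearGroup (Fin n) F) = ⊤ := by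
    by_cases hn2 : n = 2
    · subst hn2
      have h4 := h2 rfl
      obtain ⟨a, ha⟩ : ∃ a : F, a ≠ 0 ∧ a ^ 2 ≠ 1 := by
        by_contra hne
        push Not at hne
        have hsub : (Finset.univ : Finset F) ⊆ {0, 1, -1} := fun x _ => by
          simp only [Finset.mem_insert, Finset.mem_singleton]
          exact (em (x = 0)).imp id fun hx => sq_eq_one_iff.1 (hne x hx)
        have := (Finset.card_le_card hsub).trans Finset.card_le_three
        rw [Finset.card_univ] at this
        omega
      exact Matrix.SL2.commutator_eq_top ha.1 ha.2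
    · exact Classical.SL_commutator_eq_top_of_three_le (by rw [Fintype.card_fin]; omega)
  have hM : Cfsg.HasCyclicSchurMultiplier (Matrix.SpecialLinearGroup (Fin n) F) 1 := by
    refine Spor.Mult.trivial_of_forall fun Δ _ _ σ hσ => ?_
    by_cases hn2 : n = 2
    · subst hn2
      have h4 := h2 rfl
      exact Lie.SLMult.ker_eq_bot_two σ hσ.1 hσ.2.1 (fun e => e24 ⟨rfl, e⟩)
        (fun e => e29 ⟨rfl, e⟩) (by have : Fintype.card F ≠ 4 := fun e => e24 ⟨rfl, e⟩; omega)
        hσ.2.2
    refine Lie.SLMult.ker_eq_bot_of_admissible σ hσ.1 hσ.2.1 ?_ hσ.2.2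
    have hgen : ∃ g : Fˣ, ∀ x, x ∈ Subgroup.zpowers g := IsCyclic.exists_generator
    obtain ⟨g, hg⟩ := hgen
    have hord : orderOf g = Fintype.card F - 1 := by
      rw [orderOf_eq_card_of_forall_mem_zpowers hg, Nat.card_units, Nat.card_eq_fintype_card]
    have hpow : ∀ m : ℕ, g ^ m = 1 → Fintype.card F - 1 ∣ m := fun m h =>
      hord ▸ orderOf_dvd_of_pow_eq_one h
    have hq := Fintype.one_lt_card (α := F)
    by_cases h5 : 5 ≤ n
    · exact Or.inl h5
    by_cases h3 : n = 3
    · refine Or.inr (Or.inr ⟨h3, g, fun e => ?_⟩)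
      rcases (Nat.dvd_prime Nat.prime_three).1 (hpow 3 e) with e' | e'
      · exact e32 ⟨h3, by omega⟩
      · exact e34 ⟨h3, by omega⟩
    refine Or.inr (Or.inl ⟨by omega, g, fun e => ?_⟩)
    have := Nat.eq_one_of_dvd_one (hpow 1 (by rw [pow_one, e]))
    exact e42 ⟨by omega, by omega⟩
  let C := Subgroup.center (Matrix.SpecialLinearGroup (Fin n) F)
  haveI : IsCyclic C :=
    (Matrix.SpecialLinearGroup.center_equiv_rootsOfUnity (n := Fin n) (R := F)).isCyclic.2
      inferInstance
  have hcard : Nat.card C = Nat.gcd n (Fintype.card F - 1) := by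
    rw [Classical.natCard_center_SL, max_eq_left (by omega), Classical.natCard_units_field]
  obtain ⟨e⟩ := Lie.SLMult.exists_zmod_equiv_of_cyclic hcard
  exact Lie.SLMult.hasSchurMultiplier_of_cover (QuotientGroup.mk' C)
    (QuotientGroup.mk'_surjective C) (QuotientGroup.ker_mk' C).le hperf hM
    (e.trans (MulEquiv.subgroupCongr (QuotientGroup.ker_mk' C).symm))

end Cfsg.Agent.S2086
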