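import Cfsg.Statements.S0280
import Mathlib
import Cfsg.Agent.Lib.Classical.UnitCenter


set_option autoImplicit false
open Cfsg

namespace Cfsg.Agent.S0280


/-- Order of PSU_n(q): gcd(n, q+1) (q+1) |PSU_n(q)| = q^(n(n-1)/2) * prod_{i=1}^{n} (q^i - (-1)^i), n at least 2. -/
theorem result {F : Type*} [Field F] [Fintype F] {q : ℕ} (hF : Fintype.card F = q ^ 2) (n : ℕ) (hn : 2 ≤ n) : Nat.gcd n (q + 1) * ((q + 1) * Nat.card (Cfsg.PSU n F q)) = q ^ (n * (n - 1) / 2) * ∏ i ∈ Finset.range n, (if Even i then q ^ (i + 1) + 1 else q ^ (i + 1) - 1) := by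
  classical
  have hq := Cfsg.Agent.Classical.two_le_q hF
  have key : (q + 1) * Nat.card (SU n F q) = q ^ (n * (n - 1) / 2) * ∏ i ∈ Finset.range n, (if Even i then q ^ (i + 1) + 1 else q ^ (i + 1) - 1) := by
    rw [← Cfsg.Agent.Classical.natCard_GU_eq_SU hF (by omega : 1 ≤ n)]
    apply Nat.cast_injective (R := ℤ)
    rw [Cfsg.Agent.Classical.order_GU hF, Nat.cast_mul, Nat.cast_prod, Nat.cast_pow]
    congr 1
    exact Finset.prod_congr rfl fun i _ => (Cfsg.Agent.Classical.cast_gu_factor (by omega : 1 ≤ q) i).symm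
  rw [← key, (Subgroup.center (SU n F q)).card_eq_card_quotient_mul_card_subgroup,
    Cfsg.Agent.Classical.natCard_center_SU hF (by omega : 1 ≤ n)]
  ring

end Cfsg.Agent.S0280
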