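import Cfsg.Statements.S2116
import Cfsg.Agent.Lib.Grp.SchurM.SixBound
import Cfsg.Agent.Lib.Spor.TripleA7
import Cfsg.Agent.Lib.Spor.HexacodeCover
import Cfsg.Agent.Lib.Grp.SpinCoverAlt
-- import your own Cfsg.Agent.* helpers here

set_option autoImplicit false
open Cfsg

namespace Cfsg.Agent.S2116

open scoped commutatorElement
open Equiv

/-- A stem extension transported along an isomorphism. -/
theorem stem_congr {Γ G H : Type} [Group Γ] [Group G] [Group H] (σ : Γ →* G) (e : G ≃* H)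
    (h : Cfsg.IsStemExtension σ ∧ IsCyclic σ.ker ∧ Nat.card σ.ker = 3) :
    Cfsg.IsStemExtension (e.toMonoidHom.comp σ) ∧ IsCyclic (e.toMonoidHom.comp σ).ker ∧
      Nat.card (e.toMonoidHom.comp σ).ker = 3 := by
  have hk : (e.toMonoidHom.comp σ).ker = σ.ker := by
    rw [← MonoidHom.comap_ker, (MonoidHom.ker_eq_bot_iff e.toMonoidHom).2 e.injective, MonoidHom.comap_bot]
  unfold Cfsg.IsStemExtension at *
  rw [hk]
  exact ⟨⟨e.surjective.comp h.1.1, h.1.2⟩, h.2⟩

/-- The spin cover as a stem extension. -/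
theorem double_stem (n : ℕ) (hn : 4 ≤ n) :
    Finite (Agent.Grp.SpinCover.G (n := n)) ∧ Cfsg.IsStemExtension (Agent.Grp.SpinCover.proj n) ∧
      IsCyclic (Agent.Grp.SpinCover.proj n).ker ∧ Nat.card (Agent.Grp.SpinCover.proj n).ker = 2 := by
  have hfin : Finite (Agent.Grp.SpinCover.G (n := n)) := by
    haveI : Finite (Agent.Grp.SpinCover.proj n).ker := by
      refine Nat.finite_of_card_ne_zero ?_
      rw [Agent.Grp.SpinCover.ker_proj, Nat.card_zpowers, Agent.Grp.SpinCover.orderOf_z]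
      norm_num
    haveI : Finite ((Agent.Grp.SpinCover.G (n := n)) ⧸ (Agent.Grp.SpinCover.proj n).ker) :=
      Finite.of_equiv _ (QuotientGroup.quotientKerEquivRange (Agent.Grp.SpinCover.proj n)).symm.toEquiv
    exact Finite.of_subgroup_quotient (Agent.Grp.SpinCover.proj n).ker
  refine ⟨hfin, ?_⟩
  unfold Cfsg.IsStemExtension
  rw [Agent.Grp.SpinCover.ker_proj]
  refine ⟨⟨Agent.Grp.SpinCover.proj_surjective (by omega), ?_, ?_⟩, inferInstance, ?_⟩
  · rw [Subgroup.zpowers_le]; exact Agent.Grp.SpinCover.z_central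
  · rw [Subgroup.zpowers_le]
    exact Agent.Grp.SpinCover.z_mem_commutator (a := ⟨0, by omega⟩) (b := ⟨1, by omega⟩) (c := ⟨2, by omega⟩)
      (e := ⟨3, by omega⟩) (by simp) (by simp) (by simp) (by simp) (by simp) (by simp)
  · rw [Nat.card_zpowers, Agent.Grp.SpinCover.orderOf_z]

/-- From a triple cover and the bound, the multiplier. -/
theorem assemble (n : ℕ) (hn : 4 ≤ n) {Γ : Type} [Group Γ] [Finite Γ] (σ : Γ →* alternatingGroup (Fin n))
    (h : Cfsg.IsStemExtension σ ∧ IsCyclic σ.ker ∧ Nat.card σ.ker = 3)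
    (A B X Y : alternatingGroup (Fin n)) (hA : orderOf A = 4) (hB : B * B = 1)
    (hBA : B * A * B = A⁻¹) (hBn : ∀ k < 4, A ^ k ≠ B) (hX : orderOf X = 3) (hY : Y ^ 3 = 1)
    (hXY : Commute X Y) (hYn : ∀ k < 3, X ^ k ≠ Y) {m2 m3 : ℕ}
    (h2 : Nat.card (alternatingGroup (Fin n)) = 8 * m2) (hm2 : ¬ 2 ∣ m2)
    (h3 : Nat.card (alternatingGroup (Fin n)) = 9 * m3) (hm3 : ¬ 3 ∣ m3)
    (hsq : ∀ r : ℕ, r.Prime → r ≠ 2 → r ≠ 3 → ¬ r ^ 2 ∣ Nat.card (alternatingGroup (Fin n))) :
    Cfsg.HasCyclicSchurMultiplier (alternatingGroup (Fin n)) 6 := by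
  obtain ⟨hfin, hs, hc, hcard⟩ := double_stem n hn
  refine ⟨?_, fun Δ _ _ τ hτ => ?_⟩
  · exact Agent.Grp.SchurM.exists_stem_pullback σ _ h.1 hs h.2.1 hc h.2.2 hcard (by norm_num)
  · obtain ⟨g, hg, hg6, hle⟩ := Agent.Grp.SchurM.bound_six τ hτ A B X Y hA hB hBA hBn hX hY hXY hYn h2 hm2 h3 hm3 hsq
    exact Agent.Grp.SchurM.exists_surjective_zmod τ.ker g hg hg6 hle

/-- The hexacode triple cover of `A₆`. -/
theorem triple_six : Cfsg.IsStemExtension (Agent.Spor.Hexa.Cover.down (MonoidHom.id _)) ∧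
    IsCyclic (Agent.Spor.Hexa.Cover.down (MonoidHom.id _)).ker ∧
      Nat.card (Agent.Spor.Hexa.Cover.down (MonoidHom.id _)).ker = 3 := by
  refine ⟨Agent.Spor.Hexa.Cover.down_stem _ (u := Agent.Spor.Hexa.Cover.cyc1) (v := Agent.Spor.Hexa.Cover.cyc2)
    rfl rfl Agent.Spor.Hexa.Cover.cyc_comm, ?_⟩
  have hk := Agent.Spor.Hexa.Cover.card_units
  have e := MulEquiv.subgroupCongr (Agent.Spor.Hexa.Cover.down_ker (MonoidHom.id ↥(alternatingGroup (Fin 6))))
  have e' := e.trans (MonoidHom.ofInjective (Agent.Spor.Hexa.Cover.scalP_injective _)).symm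
  refine ⟨?_, by rw [Nat.card_congr e'.toEquiv, hk]⟩
  haveI := Fact.mk Nat.prime_three
  exact isCyclic_of_prime_card (p := 3) (by rw [Nat.card_congr e'.toEquiv, hk])

theorem sq_free_rest {N : ℕ} (h : N = 360 ∨ N = 2520) : ∀ r : ℕ, r.Prime → r ≠ 2 → r ≠ 3 → ¬ r ^ 2 ∣ N := by
  intro r hr h2 h3 hd
  have hN : N ≤ 2520 := by omega
  have h5 : r ≤ 50 := by
    have := Nat.le_of_dvd (by omega) hd
    nlinarith
  rcases h with rfl | rfl <;> interval_cases r <;>
    first | exact h2 rfl | exact h3 rfl | (norm_num at hr; done) | (norm_num at hd; done)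

/-- Exceptional Schur multipliers of the alternating groups: for n = 6 and n = 7 the Schur multiplier of the alternating group of degree n is cyclic of order 6 (here the Schur multiplier is described through stem extensions, as in the definitions). -/
theorem result (n : ℕ) (hn : n = 6 ∨ n = 7) : Cfsg.HasCyclicSchurMultiplier (alternatingGroup (Fin n)) 6 := by
  rcases hn with rfl | rfl
  · have hc : Nat.card (alternatingGroup (Fin 6)) = 360 := by
      rw [nat_card_alternatingGroup, Nat.card_eq_fintype_card, Fintype.card_fin]; rfl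
    exact assemble 6 (by norm_num) _ triple_six
      ⟨swap 0 1 * swap 1 2 * swap 2 3 * swap 4 5, Perm.mem_alternatingGroup.2 (by decide)⟩
      ⟨swap 1 3 * swap 4 5, Perm.mem_alternatingGroup.2 (by decide)⟩
      ⟨swap 0 1 * swap 1 2, Perm.mem_alternatingGroup.2 (by decide)⟩
      ⟨swap 3 4 * swap 4 5, Perm.mem_alternatingGroup.2 (by decide)⟩
      ((orderOf_eq_iff (by norm_num)).2 (by decide +kernel)) (by decide +kernel) (by decide +kernel) (by decide +kernel)
      ((orderOf_eq_iff (by norm_num)).2 (by decide +kernel)) (by decide +kernel) (by unfold Commute SemiconjBy; decide +kernel)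
      (by decide +kernel) (m2 := 45) (m3 := 40) (by rw [hc]) (by norm_num) (by rw [hc]) (by norm_num)
      (hc.symm ▸ sq_free_rest (Or.inl rfl))
  · have hc : Nat.card (alternatingGroup (Fin 7)) = 2520 := by
      rw [nat_card_alternatingGroup, Nat.card_eq_fintype_card, Fintype.card_fin]; rfl
    haveI := Agent.Spor.TripleSeven.finite_cover
    have e : alternatingGroup (Lie.Carmichael.Pt (Fin 5)) ≃* alternatingGroup (Fin 7) :=
      Equiv.altCongrHom (Fintype.equivFinOfCardEq (by simp))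
    exact assemble 7 (by norm_num) _ (stem_congr _ e Agent.Spor.TripleSeven.stem)
      ⟨swap 0 1 * swap 1 2 * swap 2 3 * swap 4 5, Perm.mem_alternatingGroup.2 (by decide)⟩
      ⟨swap 1 3 * swap 4 5, Perm.mem_alternatingGroup.2 (by decide)⟩
      ⟨swap 0 1 * swap 1 2, Perm.mem_alternatingGroup.2 (by decide)⟩
      ⟨swap 3 4 * swap 4 5, Perm.mem_alternatingGroup.2 (by decide)⟩
      ((orderOf_eq_iff (by norm_num)).2 (by decide +kernel)) (by decide +kernel) (by decide +kernel) (by decide +kernel)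
      ((orderOf_eq_iff (by norm_num)).2 (by decide +kernel)) (by decide +kernel) (by unfold Commute SemiconjBy; decide +kernel)
      (by decide +kernel) (m2 := 315) (m3 := 280) (by rw [hc]) (by norm_num) (by rw [hc]) (by norm_num)
      (hc.symm ▸ sq_free_rest (Or.inr rfl))

end Cfsg.Agent.S2116
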