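import Cfsg.Statements.S0256
import Cfsg.Agent.Lib.Classical.SLGroup
import Cfsg.Agent.Lib.Recog.GL42
import Cfsg.Agent.S0243
-- import your own Cfsg.Agent.* helpers here

set_option autoImplicit false
open Cfsg

namespace Cfsg.Agent.S0256

/-- PSL_4(2) is isomorphic to A_8. -/
theorem result {F : Type*} [Field F] [Fintype F] (hF : Fintype.card F = 2) : Nonempty (Matrix.ProjectiveSpecialLinearGroup (Fin 4) F ≃* alternatingGroup (Fin 8)) := by
  haveI : Fact (Nat.Prime 2) := ⟨Nat.prime_two⟩
  have e : F ≃+* ZMod 2 := (ZMod.ringEquivOfPrime F Nat.prime_two hF).symm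
  have hz : Subgroup.center (Matrix.SpecialLinearGroup (Fin 4) F) = ⊥ := by
    refine Subgroup.eq_bot_iff_card _ |>.mpr ?_
    rw [Classical.natCard_center_SL, Classical.natCard_units_field, hF]
    rfl
  let φ : Matrix.SpecialLinearGroup (Fin 4) F →* alternatingGroup (Fin 8) :=
    Recog.GL42.homAlt.comp ((Matrix.GeneralLinearGroup.map e.toRingHom).comp Matrix.SpecialLinearGroup.toGL)
  have hinj : Function.Injective φ := by
    refine Recog.GL42.homAlt_injective.comp ?_
    intro A B h
    refine Subtype.ext (Matrix.ext fun i j => e.injective ?_)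
    exact congrFun (congrFun (congrArg (fun g : Matrix.GeneralLinearGroup (Fin 4) (ZMod 2) => (g : Matrix (Fin 4) (Fin 4) (ZMod 2))) h) i) j
  have hcard : Nat.card (Matrix.ProjectiveSpecialLinearGroup (Fin 4) F) = 20160 := by
    have h := Cfsg.Agent.S0243.result (F := F) hF 4 (by norm_num)
    rw [Fin.prod_univ_four] at h
    norm_num at h ⊢
    exact h
  let eq' : Matrix.ProjectiveSpecialLinearGroup (Fin 4) F ≃* Matrix.SpecialLinearGroup (Fin 4) F :=
    (QuotientGroup.quotientMulEquivOfEq hz).trans QuotientGroup.quotientBot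
  refine ⟨eq'.trans (MulEquiv.ofBijective φ (hinj.bijective_of_nat_card_le ?_))⟩
  rw [← Nat.card_congr eq'.toEquiv, hcard, nat_card_alternatingGroup, Nat.card_fin]
  rfl

end Cfsg.Agent.S0256
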