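import Cfsg.Statements.S0898
import Cfsg.Agent.Lib.Char.Average
import Cfsg.Agent.Lib.Char.Constituent
import Cfsg.Agent.Lib.Block.CharCenterPGroup

set_option autoImplicit false
open Cfsg

namespace Cfsg.Agent.S0898
open Cfsg.Agent.Char
open scoped ComplexConjugate

universe u

variable {G : Type u} [Group G] [Fintype G]

theorem sum_normSq_eq {K : Type u} [Group K] [Fintype K] (f : K → ℂ) :
    ((∑ g : K, Complex.normSq (f g) : ℝ) : ℂ) = (Nat.card K : ℂ) * classInner f f := by
  rw [classInner, mul_inv_cancel_left₀ (Nat.cast_ne_zero.2 Nat.card_pos.ne')]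
  push_cast
  exact Finset.sum_congr rfl fun g _ => (Complex.mul_conj (f g)).symm

theorem normSq_center (χ : IrrCharacter G) {n : ℕ} (hn : (χ : G → ℂ) 1 = n) {z : G}
    (hz : z ∈ Subgroup.center G) (g : G) :
    Complex.normSq ((χ : G → ℂ) (z * g)) = Complex.normSq ((χ : G → ℂ) g) := by
  obtain ⟨c, hc⟩ := Cfsg.Agent.Block.PCen.exists_center_scalar χ (a := z) fun y => by
    rw [commutatorElement_eq_one_iff_mul_comm.2 (Subgroup.mem_center_iff.1 hz y).symm]
  have hpow : ∀ k : ℕ, (χ : G → ℂ) (z ^ k) = c ^ k * (χ : G → ℂ) 1 := by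
    intro k
    induction k with
    | zero => simp
    | succ k ih => rw [pow_succ', hc, ih, pow_succ', mul_assoc]
  have h1 := hpow (Nat.card G)
  rw [pow_card_eq_one'] at h1
  have h2 := norm_eq_one_of_pow_eq_one' Nat.card_pos
    ((mul_eq_right₀ (IsIrr.one_ne_zero χ.2)).1 h1.symm)
  rw [hc, map_mul, Complex.normSq_eq_norm_sq c, h2]
  ring

theorem first_ineq (H : Subgroup G) [Fintype H] (hab : ∀ a ∈ H, ∀ b ∈ H, a * b = b * a)
    (hZ : H ⊓ Subgroup.center G = ⊥)
    (hone : ∀ g : G, g ∉ Subgroup.center G → ∀ a b : G,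
      Subgroup.centralizer ({g} : Set G) ⊓ H.map (MulAut.conj a).toMonoidHom ≠ ⊥ →
      Subgroup.centralizer ({g} : Set G) ⊓ H.map (MulAut.conj b).toMonoidHom ≠ ⊥ →
      H.map (MulAut.conj a).toMonoidHom = H.map (MulAut.conj b).toMonoidHom)
    (χ : IrrCharacter G) {n c : ℕ} (hn : (χ : G → ℂ) 1 = n)
    (hc : classInner (fun h : H => (χ : G → ℂ) h) (fun _ => 1) = (c : ℂ))
    (hker : ∃ h ∈ H, (χ : G → ℂ) h ≠ (χ : G → ℂ) 1) : Nat.card H * c ^ 2 < n ^ 2 := by
  classical
  obtain ⟨h₀, hh₀, hh₀χ⟩ := hker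
  have hh₀1 : h₀ ≠ 1 := fun e => hh₀χ (by rw [e])
  set N := Subgroup.normalizer (H : Set G) with hN
  letI := Fintype.ofFinite N
  set H' := H.subgroupOf N with hH'
  have hHN : H ≤ N := Subgroup.le_normalizer
  haveI : H'.Normal := Subgroup.normal_in_normalizer
  letI := Fintype.ofFinite H'
  -- conjugates
  have hmem : ∀ g x : G, x ∈ H.map (MulAut.conj g).toMonoidHom ↔ g⁻¹ * x * g ∈ H := by
    intro g x
    rw [Subgroup.mem_map]
    exact ⟨fun ⟨y, hy, e⟩ => by rw [← e]; simpa [mul_assoc] using hy,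
      fun h => ⟨_, h, by simp [mul_assoc]⟩⟩
  have hnorm : ∀ a b : G, H.map (MulAut.conj a).toMonoidHom = H.map (MulAut.conj b).toMonoidHom →
      a⁻¹ * b ∈ N := by
    intro a b hab'
    rw [hN, Subgroup.mem_normalizer_iff]
    intro h
    have h1 := SetLike.ext_iff.1 hab' (b * h * b⁻¹)
    rw [hmem, hmem] at h1
    have e1 : b⁻¹ * (b * h * b⁻¹) * b = h := by group
    have e2 : a⁻¹ * (b * h * b⁻¹) * a = a⁻¹ * b * h * (a⁻¹ * b)⁻¹ := by group
    rw [e1, e2] at h1
    exact h1.symm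
  set T : Finset G := Finset.univ.filter (fun g => ∃ a ∈ H, a ≠ 1 ∧ g * a = a * g) with hT
  set Zf : Finset G := Finset.univ.filter (fun g => g ∈ Subgroup.center G) with hZf
  have hZT : Zf ⊆ T := fun z hz => Finset.mem_filter.2 ⟨Finset.mem_univ _, h₀, hh₀, hh₀1,
    (Subgroup.mem_center_iff.1 (Finset.mem_filter.1 hz).2 h₀).symm⟩
  have hmeet : ∀ (g r : G) (t : G), t ∈ T → g = r * t * r⁻¹ →
      Subgroup.centralizer ({g} : Set G) ⊓ H.map (MulAut.conj r).toMonoidHom ≠ ⊥ := by
    rintro g r t ht rfl h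
    obtain ⟨a, ha, ha1, hta⟩ := (Finset.mem_filter.1 ht).2
    have : r * a * r⁻¹ ∈ (⊥ : Subgroup G) := h.le ⟨by
      refine Subgroup.mem_centralizer_singleton_iff.2 ?_
      calc r * a * r⁻¹ * (r * t * r⁻¹) = r * (a * t) * r⁻¹ := by group
        _ = r * (t * a) * r⁻¹ := by rw [hta]
        _ = _ := by group, (hmem _ _).2 (by simpa [mul_assoc] using ha)⟩
    exact ha1 (conj_eq_one_iff.1 (Subgroup.mem_bot.1 this))
  have hTN : ∀ g ∈ T, g ∈ N := by
    intro g hg
    obtain ⟨a, ha, ha1, hga⟩ := (Finset.mem_filter.1 hg).2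
    have haZ : a ∉ Subgroup.center G := fun h => ha1 (Subgroup.mem_bot.1 (hZ.le ⟨ha, h⟩))
    have h1 := hone a haZ 1 g ?_ ?_
    · simpa using hnorm 1 g h1
    · intro h
      exact ha1 (Subgroup.mem_bot.1 (h.le ⟨Subgroup.mem_centralizer_singleton_iff.2 rfl,
        (hmem _ _).2 (by simpa using ha)⟩))
    · intro h
      refine ha1 (Subgroup.mem_bot.1 (h.le ⟨Subgroup.mem_centralizer_singleton_iff.2 rfl,
        (hmem _ _).2 ?_⟩))
      rw [mul_assoc, ← hga, ← mul_assoc, inv_mul_cancel, one_mul]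
      exact ha
  -- the invariant part on the normalizer
  set χN : N → ℂ := fun g => (χ : G → ℂ) g with hχN
  have hχNc : IsCharacter N χN := IsChar.res (IsIrr.isCharacter χ.2) N
  set φ := avgN H' χN with hφ
  have hφc : IsCharacter N φ := IsChar.avgN H' hχNc
  have hφ1 : φ 1 = c := by
    rw [hφ, avgN_one_eq, ← hc]
    simp only [classInner]
    let e : H' ≃ H :=
      { toFun := fun x => ⟨((x : N) : G), x.2⟩
        invFun := fun x => ⟨⟨(x : G), hHN x.2⟩, x.2⟩
        left_inv := fun _ => rfl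
        right_inv := fun _ => rfl }
    rw [Nat.card_congr e]
    congr 1
    exact Fintype.sum_equiv e _ _ fun x => rfl
  have hout : ∀ g : N, (g : G) ∉ T → φ g = χN g := by
    intro g hg
    have hinj : Function.Injective fun k : H' => (⟨(g : N)⁻¹ * (k : N) * g * (k : N)⁻¹,
        mul_mem (by simpa using ‹H'.Normal›.conj_mem _ k.2 g⁻¹) (inv_mem k.2)⟩ : H') := by
      intro k l hkl
      have h1 : ((g : G))⁻¹ * ((k : N) : G) * g * ((k : N) : G)⁻¹ =
          ((g : G))⁻¹ * ((l : N) : G) * g * ((l : N) : G)⁻¹ := congrArg (fun x : H' => ((x : N) : G)) hkl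
      have h2 : ((l : N) : G)⁻¹ * ((k : N) : G) = 1 := by
        by_contra hne
        refine hg (Finset.mem_filter.2 ⟨Finset.mem_univ _, _, mul_mem (inv_mem l.2) k.2, hne, ?_⟩)
        have h3 : ((k : N) : G) * g * ((k : N) : G)⁻¹ = ((l : N) : G) * g * ((l : N) : G)⁻¹ := by
          simpa [mul_assoc] using h1
        calc (g : G) * (((l : N) : G)⁻¹ * ((k : N) : G))
            = ((l : N) : G)⁻¹ * (((l : N) : G) * g * ((l : N) : G)⁻¹) * ((k : N) : G) := by group
          _ = ((l : N) : G)⁻¹ * (((k : N) : G) * g * ((k : N) : G)⁻¹) * ((k : N) : G) := by rw [h3]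
          _ = _ := by group; rfl
      exact Subtype.ext (Subtype.ext (inv_mul_eq_one.1 h2).symm)
    have hconst : ∀ h : H', χN ((h : N) * g) = χN g := by
      intro h
      have h' : (g : N)⁻¹ * (h : N) * g ∈ H' := by simpa using ‹H'.Normal›.conj_mem _ h.2 g⁻¹
      obtain ⟨k, hk⟩ := (Finite.injective_iff_surjective.1 hinj) ⟨_, h'⟩
      have hk' : (g : N)⁻¹ * (k : N) * g * (k : N)⁻¹ = (g : N)⁻¹ * (h : N) * g := congrArg Subtype.val hk
      have e : (h : N) * g = (k : N) * g * (k : N)⁻¹ := by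
        calc (h : N) * g = g * ((g : N)⁻¹ * (h : N) * g) := by group
          _ = g * ((g : N)⁻¹ * (k : N) * g * (k : N)⁻¹) := by rw [hk']
          _ = _ := by group
      rw [e]
      exact IsIrr.classFun χ.2 (g : G) ((k : N) : G)
    show (Nat.card H' : ℂ)⁻¹ * ∑ h : H', χN ((h : N) * g) = _
    rw [Finset.sum_congr rfl fun h _ => hconst h, Finset.sum_const, Finset.card_univ, nsmul_eq_mul,
      ← Nat.card_eq_fintype_card, inv_mul_cancel_left₀ (Nat.cast_ne_zero.2 Nat.card_pos.ne')]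
  -- the norms
  have hdiff : (∑ g : N, Complex.normSq (φ g)) + (Nat.card N : ℝ) ≤ ∑ g : N, Complex.normSq (χN g) := by
    obtain ⟨a, ha⟩ := IsChar.classInner_nat hχNc hχNc
    obtain ⟨b, hb⟩ := IsChar.classInner_nat hφc hφc
    have hidem : classInner χN φ = classInner φ φ := by
      conv_rhs => arg 1; rw [hφ]
      rw [classInner_avgN, hφ, avgN_idem]
    have hsym : classInner φ χN = classInner φ φ := by
      rw [← classInner_conj_symm, hidem, hb, Complex.conj_natCast]
    have h1 : classInner (χN - φ) (χN - φ) = (a : ℂ) - b := by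
      have e1 := hidem; have e2 := hsym
      simp only [classInner, Pi.sub_apply, map_sub, sub_mul, mul_sub, Finset.sum_sub_distrib] at ha hb e1 e2 ⊢
      linear_combination ha - hb - e1 - e2
    have hne : ∃ g, (χN - φ) g ≠ 0 := by
      by_contra h
      push Not at h
      refine hh₀χ ?_
      have h2 := h ⟨h₀, hHN hh₀⟩
      have h3 := h 1
      simp only [Pi.sub_apply, sub_eq_zero] at h2 h3
      rw [show (χ : G → ℂ) h₀ = χN ⟨h₀, hHN hh₀⟩ from rfl, show (χ : G → ℂ) 1 = χN 1 from rfl, h2, h3]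
      have := avgN_mul_left H' χN ⟨⟨h₀, hHN hh₀⟩, hh₀⟩ 1
      rwa [mul_one] at this
    have h4 : b < a := by
      obtain ⟨g, hg⟩ := hne
      have h5 : 0 < ∑ x : N, Complex.normSq ((χN - φ) x) :=
        Finset.sum_pos' (fun x _ => Complex.normSq_nonneg _) ⟨g, Finset.mem_univ _, Complex.normSq_pos.2 hg⟩
      have h6 := sum_normSq_eq (χN - φ)
      rw [h1] at h6
      have h7 : ((∑ x : N, Complex.normSq ((χN - φ) x) : ℝ) : ℂ) = (((Nat.card N : ℝ) * ((a : ℝ) - b) : ℝ) : ℂ) := by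
        rw [h6]; push_cast; rfl
      rw [Complex.ofReal_inj.1 h7] at h5
      by_contra hle
      push Not at hle
      have : (a : ℝ) - b ≤ 0 := by
        have : (a : ℝ) ≤ b := by exact_mod_cast hle
        linarith
      nlinarith [(Nat.cast_nonneg (Nat.card N) : (0 : ℝ) ≤ Nat.card N)]
    have hA : ∑ g : N, Complex.normSq (χN g) = (Nat.card N : ℝ) * a := by
      have := sum_normSq_eq χN
      rw [ha] at this
      exact Complex.ofReal_inj.1 (by rw [this]; push_cast; rfl)
    have hB : ∑ g : N, Complex.normSq (φ g) = (Nat.card N : ℝ) * b := by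
      have := sum_normSq_eq φ
      rw [hb] at this
      exact Complex.ofReal_inj.1 (by rw [this]; push_cast; rfl)
    rw [hA, hB]
    have : (b : ℝ) + 1 ≤ a := by exact_mod_cast h4
    nlinarith [(Nat.cast_nonneg (Nat.card N) : (0 : ℝ) ≤ Nat.card N)]
  set TN : Finset N := Finset.univ.filter (fun g : N => (g : G) ∈ T) with hTNdef
  have hTsum : ∑ g ∈ T, Complex.normSq ((χ : G → ℂ) g) = ∑ g ∈ TN, Complex.normSq (χN g) := by
    symm
    refine Finset.sum_bij (fun g _ => (g : G)) (fun g hg => (Finset.mem_filter.1 hg).2)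
      (fun a _ b _ h => Subtype.ext h)
      (fun g hg => ⟨⟨g, hTN g hg⟩, Finset.mem_filter.2 ⟨Finset.mem_univ _, hg⟩, rfl⟩) fun g _ => rfl
  set ZH : Finset N := Finset.univ.filter (fun g : N => ∃ z ∈ Subgroup.center G, ∃ h ∈ H, (g : G) = z * h)
    with hZHdef
  have hZH : ZH ⊆ TN := by
    intro g hg
    obtain ⟨z, hz, h, hh, e⟩ := (Finset.mem_filter.1 hg).2
    refine Finset.mem_filter.2 ⟨Finset.mem_univ _, Finset.mem_filter.2 ⟨Finset.mem_univ _, h₀, hh₀, hh₀1, ?_⟩⟩
    rw [e, mul_assoc, hab h hh h₀ hh₀, ← mul_assoc, ← Subgroup.mem_center_iff.1 hz h₀, mul_assoc]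
  have hZN : ∀ z ∈ Subgroup.center G, z ∈ N := fun z hz =>
    hTN z (hZT (Finset.mem_filter.2 ⟨Finset.mem_univ _, hz⟩))
  have hcardZH : ZH.card = Zf.card * Nat.card H := by
    rw [Nat.card_eq_fintype_card, ← Finset.card_univ (α := H), ← Finset.card_product]
    symm
    refine Finset.card_bij (fun x hx => (⟨x.1 * (x.2 : G), mul_mem
      (hZN _ (Finset.mem_filter.1 (Finset.mem_product.1 hx).1).2) (hHN x.2.2)⟩ : N)) ?_ ?_ ?_
    · intro x hx
      exact Finset.mem_filter.2 ⟨Finset.mem_univ _, x.1,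
        (Finset.mem_filter.1 (Finset.mem_product.1 hx).1).2, x.2, x.2.2, rfl⟩
    · intro x hx y hy e
      have e' : x.1 * (x.2 : G) = y.1 * (y.2 : G) := congrArg Subtype.val e
      have h1 : y.1⁻¹ * x.1 = (y.2 : G) * (x.2 : G)⁻¹ := by
        calc y.1⁻¹ * x.1 = y.1⁻¹ * (x.1 * (x.2 : G)) * (x.2 : G)⁻¹ := by group
          _ = _ := by rw [e']; group
      have h1' : y.1⁻¹ * x.1 ∈ H := by rw [h1]; exact mul_mem y.2.2 (inv_mem x.2.2)
      have h2 : y.1⁻¹ * x.1 ∈ (⊥ : Subgroup G) := hZ.le ⟨h1',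
        (Subgroup.center G).mul_mem ((Subgroup.center G).inv_mem (Finset.mem_filter.1 (Finset.mem_product.1 hy).1).2)
          (Finset.mem_filter.1 (Finset.mem_product.1 hx).1).2⟩
      rw [Subgroup.mem_bot, inv_mul_eq_one] at h2
      refine Prod.ext h2.symm (Subtype.ext ?_)
      rw [h2] at e'
      exact mul_left_cancel e'
    · intro g hg
      obtain ⟨z, hz, h, hh, e⟩ := (Finset.mem_filter.1 hg).2
      exact ⟨(z, ⟨h, hh⟩), Finset.mem_product.2 ⟨Finset.mem_filter.2 ⟨Finset.mem_univ _, hz⟩,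
        Finset.mem_univ _⟩, Subtype.ext e.symm⟩
  have hφZH : ∀ g ∈ ZH, Complex.normSq (φ g) = (c : ℝ) ^ 2 := by
    intro g hg
    obtain ⟨z, hz, h, hh, e⟩ := (Finset.mem_filter.1 hg).2
    have hg' : g = (⟨⟨h, hHN hh⟩, hh⟩ : H') * ⟨z, hZN z hz⟩ := Subtype.ext (by
      rw [Subgroup.coe_mul, e]; exact (Subgroup.mem_center_iff.1 hz h).symm)
    rw [hg', hφ, avgN_mul_left]
    obtain ⟨w, hw⟩ := Cfsg.Agent.Block.PCen.exists_center_scalar χ (a := z) fun y => by
      rw [commutatorElement_eq_one_iff_mul_comm.2 (Subgroup.mem_center_iff.1 hz y).symm]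
    have hw1 : Complex.normSq w = 1 := by
      have := normSq_center χ hn hz 1
      rw [hw, map_mul] at this
      exact (mul_eq_right₀ (fun h0 => IsIrr.one_ne_zero χ.2 (Complex.normSq_eq_zero.1 h0))).1 this
    have : avgN H' χN ⟨z, hZN z hz⟩ = w * φ 1 := by
      rw [hφ]
      simp only [avgN, mul_one, χN, Subgroup.coe_mul]
      rw [mul_left_comm]
      congr 1
      rw [Finset.mul_sum]
      refine Finset.sum_congr rfl fun x _ => ?_
      rw [Subgroup.mem_center_iff.1 hz, hw]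
    rw [this, hφ1, map_mul, hw1, Complex.normSq_natCast]
    ring
  have hlow : (Nat.card N : ℝ) + (Zf.card * Nat.card H : ℕ) * (c : ℝ) ^ 2 ≤
      ∑ g ∈ TN, Complex.normSq (χN g) := by
    have e1 := Finset.sum_filter_add_sum_filter_not Finset.univ (fun g : N => (g : G) ∈ T)
      (fun g => Complex.normSq (χN g))
    have e2 := Finset.sum_filter_add_sum_filter_not Finset.univ (fun g : N => (g : G) ∈ T)
      (fun g => Complex.normSq (φ g))
    have e3 : ∑ g ∈ Finset.univ.filter (fun g : N => ¬ (g : G) ∈ T), Complex.normSq (φ g) =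
        ∑ g ∈ Finset.univ.filter (fun g : N => ¬ (g : G) ∈ T), Complex.normSq (χN g) :=
      Finset.sum_congr rfl fun g hg => by rw [hout g (Finset.mem_filter.1 hg).2]
    have e4 : (Zf.card * Nat.card H : ℕ) * (c : ℝ) ^ 2 ≤ ∑ g ∈ TN, Complex.normSq (φ g) := by
      refine le_trans (le_of_eq ?_)
        (Finset.sum_le_sum_of_subset_of_nonneg hZH fun g _ _ => Complex.normSq_nonneg _)
      rw [Finset.sum_congr rfl hφZH, Finset.sum_const, hcardZH, nsmul_eq_mul]
    linarith
  -- counting in the whole group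
  set S : Finset G := ((Finset.univ : Finset (G ⧸ N)) ×ˢ (T \ Zf)).image
    (fun x => x.1.out * x.2 * x.1.out⁻¹) with hS
  have hSinj : Set.InjOn (fun x : (G ⧸ N) × G => x.1.out * x.2 * x.1.out⁻¹)
      ↑((Finset.univ : Finset (G ⧸ N)) ×ˢ (T \ Zf)) := by
    rintro ⟨q, t⟩ hqt ⟨r, s⟩ hrs e
    simp only [Finset.coe_product, Set.mem_prod, Finset.mem_coe, Finset.mem_sdiff] at hqt hrs
    simp only at e
    have hnc : q.out * t * q.out⁻¹ ∉ Subgroup.center G := by
      intro h
      refine hqt.2.2 (Finset.mem_filter.2 ⟨Finset.mem_univ _, ?_⟩)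
      simpa [mul_assoc] using Subgroup.Normal.conj_mem inferInstance _ h q.out⁻¹
    have hqr : q = r := by
      have := hnorm _ _ (hone _ hnc q.out r.out (hmeet _ _ t hqt.2.1 rfl) (hmeet _ _ s hrs.2.1 e))
      rw [← QuotientGroup.eq] at this
      rwa [QuotientGroup.out_eq', QuotientGroup.out_eq'] at this
    subst hqr
    exact Prod.ext rfl (mul_left_cancel (mul_right_cancel e))
  have hdisj : Disjoint Zf S := by
    rw [Finset.disjoint_left]
    intro z hz hzS
    obtain ⟨⟨q, t⟩, hqt, e⟩ := Finset.mem_image.1 hzS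
    refine (Finset.mem_sdiff.1 (Finset.mem_product.1 hqt).2).2 (Finset.mem_filter.2 ⟨Finset.mem_univ _, ?_⟩)
    have := Subgroup.Normal.conj_mem inferInstance _ (Finset.mem_filter.1 hz).2 q.out⁻¹
    rw [← e] at this
    simpa [mul_assoc] using this
  have hGsum : ∑ g : G, Complex.normSq ((χ : G → ℂ) g) = (Nat.card G : ℝ) := by
    have := sum_normSq_eq (χ : G → ℂ)
    rw [classInner_self_irr χ.2, mul_one] at this
    exact Complex.ofReal_inj.1 (by rw [this]; rfl)
  have hbig : ∑ g ∈ Zf, Complex.normSq ((χ : G → ℂ) g) +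
      (N.index : ℝ) * ∑ g ∈ T \ Zf, Complex.normSq ((χ : G → ℂ) g) ≤ (Nat.card G : ℝ) := by
    have e1 : ∑ g ∈ S, Complex.normSq ((χ : G → ℂ) g) =
        (N.index : ℝ) * ∑ g ∈ T \ Zf, Complex.normSq ((χ : G → ℂ) g) := by
      rw [hS, Finset.sum_image hSinj, Finset.sum_product]
      simp only [IsIrr.classFun χ.2 _ _]
      rw [Finset.sum_const, Finset.card_univ, ← Nat.card_eq_fintype_card, ← Subgroup.index_eq_card,
        nsmul_eq_mul]
    rw [← e1, ← Finset.sum_union hdisj, ← hGsum]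
    exact Finset.sum_le_sum_of_subset_of_nonneg (Finset.subset_univ _) fun g _ _ => Complex.normSq_nonneg _
  have hZsum : ∑ g ∈ Zf, Complex.normSq ((χ : G → ℂ) g) = (Zf.card : ℝ) * (n : ℝ) ^ 2 := by
    rw [Finset.sum_congr rfl fun z hz => show _ = (n : ℝ) ^ 2 by
      rw [← mul_one z, normSq_center χ hn (Finset.mem_filter.1 hz).2 1, hn, Complex.normSq_natCast, sq],
      Finset.sum_const, nsmul_eq_mul]
  rw [Finset.sum_sdiff_eq_sub hZT, hTsum, hZsum] at hbig
  have hm0 : (1 : ℝ) ≤ (N.index : ℝ) := by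
    exact_mod_cast Nat.one_le_iff_ne_zero.2 Subgroup.index_ne_zero_of_finite
  have hm : (Nat.card G : ℝ) = (N.index : ℝ) * (Nat.card N : ℝ) := by
    exact_mod_cast (Subgroup.index_mul_card N).symm
  have hZ0 : (1 : ℝ) ≤ (Zf.card : ℝ) := by
    exact_mod_cast Finset.card_pos.2 ⟨1, Finset.mem_filter.2 ⟨Finset.mem_univ _, one_mem _⟩⟩
  have hmul := mul_le_mul_of_nonneg_left hlow (show (0 : ℝ) ≤ N.index by linarith)
  push_cast at hmul
  have hn0 : (0 : ℝ) < n := by
    have : n ≠ 0 := fun e => IsIrr.one_ne_zero χ.2 (by rw [hn, e, Nat.cast_zero])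
    exact_mod_cast Nat.pos_of_ne_zero this
  have key : (N.index : ℝ) * ((Nat.card H : ℝ) * (c : ℝ) ^ 2) < (N.index : ℝ) * (n : ℝ) ^ 2 := by
    have h1 : (N.index : ℝ) * (Zf.card : ℝ) * ((Nat.card H : ℝ) * (c : ℝ) ^ 2) ≤
        ((N.index : ℝ) - 1) * (Zf.card : ℝ) * (n : ℝ) ^ 2 := by nlinarith
    have h2 : (0 : ℝ) < (Zf.card : ℝ) * (n : ℝ) ^ 2 := by positivity
    by_contra hle
    push Not at hle
    have h3 := mul_le_mul_of_nonneg_left hle (show (0 : ℝ) ≤ Zf.card by linarith)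
    nlinarith
  have := lt_of_mul_lt_mul_left key (by linarith)
  exact_mod_cast this

/-- Let H be an abelian subgroup of the finite group G meeting the centre of G trivially, such that for every non-central g the centralizer of g has nontrivial intersection with at most one conjugate of H. Let χ be an irreducible character of G with χ h ≠ χ 1 for some h in H, and let c be the inner product of the restriction of χ to H with the principal character. Then χ(1)² > (order of H)·c²; and if in addition χ 1 ≠ 1 and no proper normal subgroup of G contains H, then (1 + χ 1)² > order of H (both sides read as real numbers). -/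
theorem result {G : Type*} [Group G] [Fintype G] (H : Subgroup G) [Fintype H] (hab : ∀ a ∈ H, ∀ b ∈ H, a * b = b * a) (hZ : H ⊓ Subgroup.center G = ⊥) (hone : ∀ g : G, g ∉ Subgroup.center G → ∀ a b : G, Subgroup.centralizer ({g} : Set G) ⊓ H.map (MulAut.conj a).toMonoidHom ≠ ⊥ → Subgroup.centralizer ({g} : Set G) ⊓ H.map (MulAut.conj b).toMonoidHom ≠ ⊥ → H.map (MulAut.conj a).toMonoidHom = H.map (MulAut.conj b).toMonoidHom) (χ : G → ℂ) (hχ : Cfsg.IsIrrCharacter G χ) (hker : ∃ h ∈ H, χ h ≠ χ 1) : (χ 1).re ^ 2 > (Nat.card H : ℝ) * (Cfsg.classInner (fun h : H => χ h) (fun _ => 1)).re ^ 2 ∧ (χ 1 ≠ 1 → (∀ M : Subgroup G, M.Normal → H ≤ M → M = ⊤) → (1 + (χ 1).re) ^ 2 > (Nat.card H : ℝ)) := by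
  classical
  obtain ⟨n, hn0, hn⟩ := Cfsg.Agent.Char.IsIrr.one_eq_pos hχ
  obtain ⟨c, hc⟩ := Cfsg.Agent.Char.IsChar.classInner_nat
    (Cfsg.Agent.Char.IsChar.res (Cfsg.Agent.Char.IsIrr.isCharacter hχ) H) Cfsg.Agent.Char.IsChar.one
  have hc' : Cfsg.classInner (fun h : H => χ h) (fun _ => 1) = (c : ℂ) := hc
  refine ⟨?_, fun hne1 hnorm => ?_⟩
  · have := first_ineq H hab hZ hone ⟨χ, hχ⟩ hn hc' hker
    rw [hn, hc', Complex.natCast_re, Complex.natCast_re, gt_iff_lt]
    exact_mod_cast this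
  rw [hn, Complex.natCast_re, gt_iff_lt]
  have hn2 : 2 ≤ n := by
    by_contra h
    exact hne1 (by rw [hn, show n = 1 by omega, Nat.cast_one])
  by_contra hle
  push Not at hle
  have hle' : (1 + n) ^ 2 ≤ Nat.card H := by exact_mod_cast hle
  -- the square of `χ`
  have hsq := IsChar.mul (IsIrr.isCharacter hχ) (IsChar.conj (IsIrr.isCharacter hχ))
  obtain ⟨a, ha, hdec⟩ := IsChar.exists_decomp_inner hsq
  choose d hd0 hd using fun ψ : Cfsg.IrrCharacter G => IsIrr.one_eq_pos ψ.2
  choose cc hcc using fun ψ : Cfsg.IrrCharacter G => IsChar.classInner_nat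
    (IsChar.res (IsIrr.isCharacter ψ.2) H) Cfsg.Agent.Char.IsChar.one
  let one : Cfsg.IrrCharacter G := ⟨fun _ => 1, isIrr_one⟩
  have hsmall : ∀ ψ, ψ ≠ one → (n + 1) * cc ψ < d ψ := by
    intro ψ hψ
    have hk : ∃ h ∈ H, (ψ : G → ℂ) h ≠ (ψ : G → ℂ) 1 := by
      by_contra hno
      push Not at hno
      have hK := hnorm (charKer (IsIrr.isCharacter ψ.2)) (charKer_normal _)
        fun h hh => (mem_charKer _).2 (hno h hh)
      refine hψ (Subtype.ext ?_)
      exact irr_const_eq_one ψ.2 fun g => (mem_charKer _).1 (hK ▸ Subgroup.mem_top g)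
    have h1 := first_ineq H hab hZ hone ψ (hd ψ) (hcc ψ) hk
    by_contra hge
    push Not at hge
    have h2 := Nat.pow_le_pow_left hge 2
    rw [mul_pow] at h2
    have h3 := Nat.mul_le_mul_right (cc ψ ^ 2) hle'
    rw [add_comm 1 n] at h3
    omega
  have h1 := congrFun hdec 1
  rw [sum_irr_apply] at h1
  simp only [Pi.mul_apply, hn, Complex.conj_natCast, hd] at h1
  have hsum : n * n = ∑ ψ, a ψ * d ψ := by exact_mod_cast h1
  have hres : ∑ ψ, a ψ * cc ψ ≥ n := by
    have e1 : ((∑ ψ, a ψ * cc ψ : ℕ) : ℂ) =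
        Cfsg.classInner (fun h : H => χ h) (fun h : H => χ h) := by
      push_cast
      simp only [← hcc, Cfsg.classInner]
      simp only [Finset.mul_sum]
      rw [Finset.sum_comm]
      refine Finset.sum_congr rfl fun h _ => ?_
      have := congrFun hdec (h : G)
      rw [sum_irr_apply] at this
      simp only [Pi.mul_apply] at this
      rw [this, Finset.mul_sum]
      exact Finset.sum_congr rfl fun ψ _ => by simp; ring
    obtain ⟨m, hm, hmdec⟩ := IsChar.exists_decomp_inner (IsChar.res (IsIrr.isCharacter hχ) H)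
    have e2 : Cfsg.classInner (fun h : H => χ h) (fun h : H => χ h) = ((∑ ψ, m ψ * m ψ : ℕ) : ℂ) := by
      rw [hmdec, classInner_sum_sum]
      push_cast
      exact Finset.sum_congr rfl fun ψ _ => by simp
    have e3 := Nat.cast_injective (e1.trans e2)
    have h4 := congrFun hmdec 1
    rw [sum_irr_apply] at h4
    simp only [Subgroup.coe_one, hn] at h4
    have e4 : n = ∑ ψ, m ψ := by
      have : (n : ℂ) = ((∑ ψ, m ψ : ℕ) : ℂ) := by
        rw [h4]
        push_cast
        exact Finset.sum_congr rfl fun ψ _ => by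
          rw [IsIrr.one_of_comm (fun x y => Subtype.ext (hab x x.2 y y.2)) ψ.2, mul_one]
      exact_mod_cast this
    rw [ge_iff_le, e3, e4]
    exact Finset.sum_le_sum fun ψ _ => by nlinarith
  have ha1 : a one = 1 := by
    refine Nat.cast_injective (R := ℂ) ?_
    rw [← ha, Nat.cast_one, ← classInner_self_irr hχ]
    simp [Cfsg.classInner, one]
  have hd1 : d one = 1 := by
    refine Nat.cast_injective (R := ℂ) ?_
    rw [← hd, Nat.cast_one]
  have hc1 : cc one = 1 := by
    refine Nat.cast_injective (R := ℂ) ?_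
    rw [← hcc, Nat.cast_one]
    exact (classInner_self_irr isIrr_one)
  rw [← Finset.add_sum_erase _ _ (Finset.mem_univ one), ha1] at hsum
  rw [← Finset.add_sum_erase _ _ (Finset.mem_univ one), ha1] at hres
  rw [hd1] at hsum
  rw [hc1] at hres
  have hlt : (n + 1) * ∑ ψ ∈ Finset.univ.erase one, a ψ * cc ψ <
      ∑ ψ ∈ Finset.univ.erase one, a ψ * d ψ := by
    rw [Finset.mul_sum]
    refine Finset.sum_lt_sum (fun ψ hψ => ?_) ?_
    · rw [mul_left_comm]
      exact Nat.mul_le_mul_left _ (hsmall ψ (Finset.mem_erase.1 hψ).1).le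
    · by_contra hno
      push Not at hno
      have hz : ∀ ψ ∈ Finset.univ.erase one, a ψ = 0 := fun ψ hψ => by
        by_contra ha0
        have := Nat.mul_lt_mul_of_pos_left (hsmall ψ (Finset.mem_erase.1 hψ).1) (Nat.pos_of_ne_zero ha0)
        have := hno ψ hψ
        rw [mul_left_comm] at this
        omega
      rw [Finset.sum_eq_zero fun ψ hψ => by rw [hz ψ hψ, zero_mul]] at hsum
      nlinarith
  nlinarith

end Cfsg.Agent.S0898
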