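import Cfsg.Statements.S0899
import Cfsg.Agent.S0898
import Cfsg.Agent.Lib.Grp.Subnormal
import Cfsg.Agent.Lib.Char.Det
import Cfsg.Agent.Lib.Char.Constituent
import Cfsg.Agent.Lib.Char.Quotient
import Cfsg.Agent.Lib.Char.Integral
import Cfsg.Agent.Lib.Block.CharCenterPGroup

set_option autoImplicit false
open Cfsg

namespace Cfsg.Agent.S0899
open Cfsg.Agent.Char
open scoped ComplexConjugate commutatorElement Pointwise

universe u

variable {G : Type u} [Group G] [Finite G] {p : ℕ}

theorem ker_of_constituents {K : Type u} [Group K] [Finite K] {n : ℕ}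
    (ρ : Representation ℂ K (Fin n → ℂ)) (g : K) (a : IrrCharacter K → ℕ)
    (hdec : ρ.character = ∑ φ : IrrCharacter K, (a φ : ℂ) • (φ : K → ℂ))
    (h : ∀ φ : IrrCharacter K, a φ ≠ 0 → (φ : K → ℂ) g = (φ : K → ℂ) 1) : ρ g = 1 := by
  classical
  have h1 : ρ.character g = ρ.character 1 := by
    rw [hdec, sum_irr_apply, sum_irr_apply]
    refine Finset.sum_congr rfl fun φ _ => ?_
    by_cases ha : a φ = 0
    · rw [ha]; simp
    · rw [h φ ha]
  rw [Representation.char_one] at h1
  exact (character_eq_finrank_iff ρ g).1 h1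

theorem deg_le {K : Type u} [Group K] [Finite K] {n : ℕ} (ρ : Representation ℂ K (Fin n → ℂ))
    (a : IrrCharacter K → ℕ) (hdec : ρ.character = ∑ φ : IrrCharacter K, (a φ : ℂ) • (φ : K → ℂ))
    (d : IrrCharacter K → ℕ) (hd : ∀ φ : IrrCharacter K, (φ : K → ℂ) 1 = d φ) :
    ∑ φ, a φ * d φ = n := by
  have h1 := congrFun hdec 1
  rw [Representation.char_one, Module.finrank_fin_fun, sum_irr_apply] at h1
  simp only [hd] at h1
  exact_mod_cast h1.symm

/-- A small faithful representation forbids a nontrivial action of a `p`-element on a `p'`-subgroup. -/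
theorem centralizes [hp : Fact p.Prime] {n : ℕ} (ρ : Representation ℂ G (Fin n → ℂ))
    (hρ : Function.Injective ρ) (hn : n + 1 < p) (x : G) (hx : ∃ j, orderOf x = p ^ j) :
    ∀ (m : ℕ) (K : Subgroup G), Nat.card K = m → (∀ k ∈ K, x * k * x⁻¹ ∈ K) → ¬ p ∣ Nat.card K →
      ∀ k ∈ K, x * k = k * x := by
  intro m
  induction m using Nat.strong_induction_on with
  | _ m ih =>
  intro K hm hinv hpK
  classical
  obtain ⟨j, hj⟩ := hx
  have ih' : ∀ A : Subgroup G, A ≤ K → A ≠ K → (∀ a ∈ A, x * a * x⁻¹ ∈ A) → ∀ a ∈ A, x * a = a * x := by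
    intro A hle hne hA
    have hlt : Nat.card A < m := by
      rw [← hm]
      refine lt_of_le_of_ne (Nat.le_of_dvd Nat.card_pos (Subgroup.card_dvd_of_le hle)) fun e => hne ?_
      exact Subgroup.eq_of_le_of_card_ge hle e.ge
    exact ih _ hlt A rfl hA fun h => hpK (h.trans (Subgroup.card_dvd_of_le hle))
  have hbij : Function.Bijective fun k : K => (⟨x * k * x⁻¹, hinv k k.2⟩ : K) :=
    Finite.injective_iff_bijective.1 fun a b e => Subtype.ext (by simpa using congrArg Subtype.val e)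
  let σ : MulAut K := MulEquiv.ofBijective
    ({ toFun := fun k => ⟨x * k * x⁻¹, hinv k k.2⟩
       map_one' := Subtype.ext (by simp)
       map_mul' := fun a b => Subtype.ext (by simp [mul_assoc]) } : K →* K) hbij
  have hσ : ∀ k : K, ((σ k : K) : G) = x * k * x⁻¹ := fun k => rfl
  have hσpow : ∀ (i : ℕ) (k : K), (((σ ^ i) k : K) : G) = x ^ i * k * (x ^ i)⁻¹ := by
    intro i
    induction i with
    | zero => intro k; simp
    | succ i hi =>
      intro k
      rw [pow_succ, MulAut.mul_apply, hi, hσ, pow_succ]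
      simp [mul_assoc]
  have hσord : σ ^ p ^ j = 1 := MulEquiv.ext fun k => Subtype.ext (by
    rw [hσpow, ← hj, pow_orderOf_eq_one]; simp)
  have hσp : IsPGroup p (Subgroup.zpowers σ) := by
    refine IsPGroup.of_card (n := ((Nat.dvd_prime_pow hp.out).1 (orderOf_dvd_of_pow_eq_one hσord)).choose) ?_
    rw [Nat.card_zpowers]
    exact ((Nat.dvd_prime_pow hp.out).1 (orderOf_dvd_of_pow_eq_one hσord)).choose_spec.2
  by_cases hr : ∀ (r : ℕ), r.Prime → ¬ IsPGroup r K
  · -- Sylow subgroups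
    set C : Subgroup G := Subgroup.centralizer ({x} : Set G) ⊓ K
    have hdvd : Nat.card K ∣ Nat.card C := by
      refine (Nat.dvd_iff_prime_pow_dvd_dvd _ _).2 fun r k hrp hrk => ?_
      haveI : Fact r.Prime := ⟨hrp⟩
      have hnd : ¬ p ∣ Nat.card (Sylow r K) := fun h =>
        hpK (h.trans ((Sylow.card_dvd_index (default : Sylow r K)).trans (Subgroup.index_dvd_card _)))
      obtain ⟨R, hR⟩ := hσp.nonempty_fixed_point_of_prime_not_dvd_card (Sylow r K) hnd
      have hRinv : ∀ a ∈ (R : Subgroup K).map K.subtype, x * a * x⁻¹ ∈ (R : Subgroup K).map K.subtype := by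
        rintro _ ⟨a, ha, rfl⟩
        refine ⟨σ a, ?_, hσ a⟩
        have h1 : (⟨σ, Subgroup.mem_zpowers σ⟩ : Subgroup.zpowers σ) • R = R := hR _
        rw [← h1]
        exact Subgroup.smul_mem_pointwise_smul a σ (R : Subgroup K) ha
      have hne : (R : Subgroup K).map K.subtype ≠ K := by
        intro e
        refine hr r hrp (R.isPGroup'.of_surjective (R : Subgroup K).subtype fun a => ?_)
        obtain ⟨b, hb, e'⟩ := e.ge a.2
        exact ⟨⟨b, hb⟩, Subtype.ext e'⟩
      have hle : (R : Subgroup K).map K.subtype ≤ C := le_inf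
        (fun a ha => Subgroup.mem_centralizer_singleton_iff.2
          (ih' _ (Subgroup.map_subtype_le _) hne hRinv a ha).symm) (Subgroup.map_subtype_le _)
      refine dvd_trans ?_ (Subgroup.card_dvd_of_le hle)
      rw [Nat.card_congr ((R : Subgroup K).equivMapOfInjective _ K.subtype_injective).toEquiv.symm,
        Sylow.card_eq_multiplicity]
      exact (pow_dvd_pow r ((hrp.pow_dvd_iff_le_factorization Nat.card_pos.ne').1 hrk))
    intro k hk
    have hCK : C = K := Subgroup.eq_of_le_of_card_ge inf_le_right (Nat.le_of_dvd Nat.card_pos hdvd)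
    rw [← hCK] at hk
    exact (Subgroup.mem_centralizer_singleton_iff.1 hk.1).symm
  push Not at hr
  obtain ⟨r, hr, hrK⟩ := hr
  haveI : Fact r.Prime := ⟨hr⟩
  haveI : Group.IsNilpotent K := hrK.isNilpotent
  -- fixed elements
  let C : Subgroup K :=
    { carrier := {k | σ k = k}
      one_mem' := map_one σ
      mul_mem' := fun {a b} (ha : σ a = a) (hb : σ b = b) => show σ (a * b) = a * b by rw [map_mul, ha, hb]
      inv_mem' := fun {a} (ha : σ a = a) => show σ a⁻¹ = a⁻¹ by rw [map_inv, ha] }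
  intro k₀ hk₀
  by_contra hcon
  have hCne : C ≠ ⊤ := fun e => hcon (by
    have h1 : σ ⟨k₀, hk₀⟩ = ⟨k₀, hk₀⟩ := (show (⟨k₀, hk₀⟩ : K) ∈ C by rw [e]; trivial)
    have h2 : x * k₀ * x⁻¹ = k₀ := congrArg Subtype.val h1
    calc x * k₀ = x * k₀ * x⁻¹ * x := by group
      _ = k₀ * x := by rw [h2])
  have hfixA : ∀ A : Subgroup K, A ≠ ⊤ → (∀ a ∈ A, σ a ∈ A) → A ≤ C := by
    intro A hA hAinv a ha
    have := ih' (A.map K.subtype) (Subgroup.map_subtype_le _) (fun e => hA (eq_top_iff.2 fun b _ => by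
        obtain ⟨c, hc, e'⟩ := e.ge b.2
        rwa [← Subtype.ext e'])) (by
      rintro _ ⟨b, hb, rfl⟩
      exact ⟨σ b, hAinv b hb, hσ b⟩) (a : G) ⟨a, ha, rfl⟩
    refine Subtype.ext ?_
    rw [hσ, this, mul_inv_cancel_right]
  have hd1 : ∀ k : K, k⁻¹ * σ k ∈ C → σ k = k := by
    intro k hd
    set d := k⁻¹ * σ k with hddef
    have hd' : σ d = d := hd
    have hk : σ k = k * d := by rw [hddef, mul_inv_cancel_left]
    have hi : ∀ i : ℕ, (σ ^ i) k = k * d ^ i := by
      intro i
      induction i with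
      | zero => simp
      | succ i hi => rw [pow_succ', MulAut.mul_apply, hi, map_mul, map_pow, hd', hk, mul_assoc, ← pow_succ']
    have h1 := hi (p ^ j)
    rw [hσord, MulAut.one_apply, left_eq_mul] at h1
    have h2 : d = 1 := by
      refine orderOf_eq_one_iff.1 (Nat.eq_one_of_dvd_coprimes ?_ (orderOf_dvd_of_pow_eq_one h1)
        (orderOf_dvd_natCard d))
      exact Nat.Coprime.pow_left j (hp.out.coprime_iff_not_dvd.2 hpK)
    rw [hk, h2, mul_one]
  set D : Subgroup K := Subgroup.closure (Set.range fun k : K => k⁻¹ * σ k) with hD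
  have hDtop : D = ⊤ := by
    by_contra hne
    have hDinv : ∀ a ∈ D, σ a ∈ D := by
      intro a ha
      have : D ≤ D.comap σ.toMonoidHom := by
        rw [hD, Subgroup.closure_le]
        rintro _ ⟨k, rfl⟩
        exact Subgroup.subset_closure ⟨σ k, by simp⟩
      exact this ha
    exact hCne (eq_top_iff.2 fun k _ => hd1 k (hfixA D hne hDinv (Subgroup.subset_closure ⟨k, rfl⟩)))
  have hcentral : ∀ A : Subgroup K, A.Normal → A ≤ C → A ≤ Subgroup.center K := by
    intro A hA hAC a ha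
    have : D ≤ Subgroup.centralizer ({a} : Set K) := by
      rw [hD, Subgroup.closure_le]
      rintro _ ⟨k, rfl⟩
      refine Subgroup.mem_centralizer_singleton_iff.2 ?_
      have h1 : σ (k * a * k⁻¹) = k * a * k⁻¹ := hAC (hA.conj_mem a ha k)
      rw [map_mul, map_mul, map_inv, show σ a = a from hAC ha] at h1
      calc k⁻¹ * σ k * a = k⁻¹ * (σ k * a * (σ k)⁻¹) * σ k := by group
        _ = k⁻¹ * (k * a * k⁻¹) * σ k := by rw [h1]
        _ = a * (k⁻¹ * σ k) := by group
    rw [Subgroup.mem_center_iff]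
    intro k
    exact (Subgroup.mem_centralizer_singleton_iff.1 (this (hDtop ▸ Subgroup.mem_top k)))
  haveI : Nontrivial K := by
    refine ⟨⟨⟨k₀, hk₀⟩, 1, fun e => hcon ?_⟩⟩
    have : k₀ = 1 := congrArg Subtype.val e
    rw [this, mul_one, one_mul]
  have hK'C : commutator K ≤ C := hfixA _ (Group.IsSolvable.commutator_lt_top_of_nontrivial K).ne (fun a ha => by
    have h1 : (commutator K).map σ.toMonoidHom ≤ commutator K := by
      rw [commutator_def, Subgroup.map_commutator]
      exact Subgroup.commutator_mono le_top le_top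
    exact h1 ⟨a, ha, rfl⟩)
  have hK'Z := hcentral _ inferInstance hK'C
  -- constituents
  letI := Fintype.ofFinite K
  let ρK : Representation ℂ K (Fin n → ℂ) := ρ.comp K.subtype
  obtain ⟨a, ha, hdec⟩ := IsChar.exists_decomp_inner (isCharacter_character ρK)
  choose d hd0 hd using fun φ : IrrCharacter K => IsIrr.one_eq_pos φ.2
  have hsum := deg_le ρK a hdec d hd
  let f : IrrCharacter K → IrrCharacter K := fun φ =>
    ⟨fun k => (φ : K → ℂ) (σ k), IsIrr.comp_mulEquiv σ φ.2⟩
  have haf : ∀ φ, a (f φ) = a φ := fun φ => by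
    refine Nat.cast_injective (R := ℂ) ?_
    rw [← ha, ← ha]
    simp only [classInner, f]
    congr 1
    refine Fintype.sum_equiv σ.toEquiv _ _ fun k => ?_
    congr 1
    have : ρK.character (σ k) = ρK.character k := by
      show ρ.character (x * k * x⁻¹) = ρ.character (k : G)
      exact Representation.char_conj ρ _ _
    exact this.symm
  have hfinj : Function.Injective f := fun φ ψ e => Subtype.ext (funext fun k => by
    simpa [f] using congrFun (congrArg Subtype.val e) (σ.symm k))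
  let A := {φ : IrrCharacter K // a φ ≠ 0}
  let fA : Equiv.Perm A := Equiv.ofBijective (fun φ => ⟨f φ.1, by rw [haf]; exact φ.2⟩)
    (Finite.injective_iff_bijective.1 fun φ ψ e => Subtype.ext (hfinj (congrArg Subtype.val e)))
  have hcardA : Nat.card A ≤ n := by
    rw [← hsum, Nat.card_eq_fintype_card, Fintype.card_subtype, Finset.card_eq_sum_ones,
      Finset.sum_filter]
    refine Finset.sum_le_sum fun φ _ => ?_
    split_ifs with h
    · exact Nat.one_le_iff_ne_zero.2 (Nat.mul_ne_zero h (hd0 φ).ne')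
    · exact Nat.zero_le _
  have hfA : fA = 1 := by
    have hpow : ∀ (i : ℕ) (φ : A) (k : K), ((fA ^ i) φ).1.1 k = φ.1.1 ((σ ^ i) k) := by
      intro i
      induction i with
      | zero => intro φ k; simp
      | succ i hi =>
        intro φ k
        rw [pow_succ, Equiv.Perm.mul_apply, hi, pow_succ', MulAut.mul_apply]
        rfl
    have h1 : fA ^ p ^ j = 1 := Equiv.ext fun φ => Subtype.ext (Subtype.ext (funext fun k => by
      rw [hpow, hσord]; rfl))
    obtain ⟨i, -, hi⟩ := (Nat.dvd_prime_pow hp.out).1 (orderOf_dvd_of_pow_eq_one h1)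
    rcases Nat.eq_zero_or_pos i with rfl | hi0
    · exact orderOf_eq_one_iff.1 (by rw [hi, pow_zero])
    · exfalso
      have h2 : p ∣ Nat.card (Equiv.Perm A) :=
        (dvd_pow_self p hi0.ne').trans (hi ▸ orderOf_dvd_natCard fA)
      rw [Nat.card_perm] at h2
      have := hp.out.dvd_factorial.1 h2
      omega
  have hθinv : ∀ φ : IrrCharacter K, a φ ≠ 0 → ∀ k, (φ : K → ℂ) (σ k) = (φ : K → ℂ) k := fun φ hφ k => by
    have := congrArg (fun e : Equiv.Perm A => (e ⟨φ, hφ⟩).1.1 k) hfA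
    exact this
  obtain ⟨θ, hθa, hθ1⟩ : ∃ θ : IrrCharacter K, a θ ≠ 0 ∧ d θ ≠ 1 := by
    by_contra hno
    push Not at hno
    have hDker : D ≤ MonoidHom.ker ρK := by
      rw [hD, Subgroup.closure_le]
      rintro _ ⟨k, rfl⟩
      refine MonoidHom.mem_ker.2 (ker_of_constituents ρK _ a hdec fun φ hφ => ?_)
      obtain ⟨l, hl⟩ := linearHom_of_isCharacter (IsIrr.isCharacter φ.2) (by rw [hd, hno φ hφ, Nat.cast_one])
      have h1 := hθinv φ hφ k
      simp only [show (φ : K → ℂ) = fun g => (l g : ℂ) from hl, Units.val_inj] at h1 ⊢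
      rw [map_mul, map_inv, h1, inv_mul_cancel, map_one]
    refine hcon ?_
    have h1 : ρ k₀ = ρ 1 := by
      rw [map_one]
      exact MonoidHom.mem_ker.1 (hDker (hDtop ▸ Subgroup.mem_top (⟨k₀, hk₀⟩ : K)))
    rw [hρ h1, mul_one, one_mul]
  haveI : (charKer (IsIrr.isCharacter θ.2)).Normal := charKer_normal _
  set L := charKer (IsIrr.isCharacter θ.2)
  set Z : Subgroup K := (Subgroup.center (K ⧸ L)).comap (QuotientGroup.mk' L) with hZdef
  have hZmem : ∀ k, k ∈ Z ↔ ∀ y, (θ : K → ℂ) ⁅k, y⁆ = (θ : K → ℂ) 1 := by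
    intro k
    rw [hZdef, Subgroup.mem_comap, Subgroup.mem_center_iff, QuotientGroup.mk_surjective.forall]
    refine forall_congr' fun y => ?_
    rw [← mem_charKer (IsIrr.isCharacter θ.2), ← QuotientGroup.eq_one_iff (N := L)]
    show _ = _ ↔ QuotientGroup.mk' L ⁅k, y⁆ = 1
    rw [map_commutatorElement, commutatorElement_eq_one_iff_mul_comm, eq_comm]
    rfl
  have hscal : ∀ z ∈ Z, ∃ c : ℂ, Complex.normSq c = 1 ∧ ∀ k, (θ : K → ℂ) (z * k) = c * (θ : K → ℂ) k := by
    intro z hz
    obtain ⟨c, hc⟩ := Cfsg.Agent.Block.PCen.exists_center_scalar θ (a := z) ((hZmem z).1 hz)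
    refine ⟨c, ?_, hc⟩
    have hpow : ∀ k : ℕ, (θ : K → ℂ) (z ^ k) = c ^ k * (θ : K → ℂ) 1 := by
      intro k
      induction k with
      | zero => simp
      | succ k ih => rw [pow_succ', hc, ih, pow_succ', mul_assoc]
    have h1 := hpow (Nat.card K)
    rw [pow_card_eq_one'] at h1
    rw [Complex.normSq_eq_norm_sq, norm_eq_one_of_pow_eq_one' Nat.card_pos
      ((mul_eq_right₀ (IsIrr.one_ne_zero θ.2)).1 h1.symm), one_pow]
  have hvanish : ∀ k ∉ Z, (θ : K → ℂ) k = 0 := by
    intro k hk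
    rw [hZmem] at hk
    push Not at hk
    obtain ⟨y, hy⟩ := hk
    have hzc : ⁅y, k⁆ ∈ Subgroup.center K := hK'Z (Subgroup.commutator_mem_commutator (Subgroup.mem_top y) (Subgroup.mem_top k))
    obtain ⟨c, -, hc⟩ := hscal ⁅y, k⁆ ((hZmem _).2 fun w => by
      rw [commutatorElement_eq_one_iff_mul_comm.2 (Subgroup.mem_center_iff.1 hzc w).symm])
    have hc1 : c ≠ 1 := by
      intro e
      refine hy ((mem_charKer (IsIrr.isCharacter θ.2)).1 ?_)
      rw [← commutatorElement_inv]
      refine L.inv_mem ((mem_charKer _).2 ?_)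
      have := hc 1
      rwa [mul_one, e, one_mul] at this
    have h1 : (θ : K → ℂ) (⁅y, k⁆ * k) = (θ : K → ℂ) k := by
      rw [show ⁅y, k⁆ * k = y * k * y⁻¹ by rw [commutatorElement_def]; group]
      exact IsIrr.classFun θ.2 k y
    rw [hc] at h1
    exact (mul_left_eq_self₀.1 h1).resolve_left hc1
  have hnorm : (Nat.card K : ℝ) = (Nat.card Z : ℝ) * (d θ : ℝ) ^ 2 := by
    have h1 : ((∑ k : K, Complex.normSq ((θ : K → ℂ) k) : ℝ) : ℂ) = ((Nat.card K : ℝ) : ℂ) := by
      have := classInner_self_irr θ.2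
      rw [classInner, inv_mul_eq_iff_eq_mul₀ (Nat.cast_ne_zero.2 Nat.card_pos.ne'), mul_one] at this
      push_cast
      rw [← this]
      exact Finset.sum_congr rfl fun k _ => (Complex.mul_conj _).symm
    have h2 := Complex.ofReal_inj.1 h1
    rw [← Finset.sum_filter_of_ne (p := fun k : K => k ∈ Z) (fun k _ hne => by_contra fun h => hne (by
      rw [hvanish k h, map_zero]))] at h2
    rw [Finset.sum_congr rfl (fun k hk => show _ = (d θ : ℝ) ^ 2 by
      obtain ⟨c, hc1, hc⟩ := hscal k (Finset.mem_filter.1 hk).2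
      rw [← mul_one k, hc, map_mul, hc1, hd, Complex.normSq_natCast, one_mul, sq]),
      Finset.sum_const, ← Fintype.card_subtype, ← Nat.card_eq_fintype_card, nsmul_eq_mul] at h2
    exact h2.symm
  have hnormN : Nat.card K = Nat.card Z * d θ ^ 2 := by exact_mod_cast hnorm
  have hd2 : 2 ≤ d θ := by have := hd0 θ; omega
  have hZne : Z ≠ ⊤ := by
    intro e
    rw [e, Subgroup.card_top] at hnormN
    have h1 : d θ ^ 2 = 1 := (mul_eq_left₀ Nat.card_pos.ne').1 hnormN.symm
    nlinarith
  have hZC : Z ≤ C := hfixA Z hZne fun z hz => by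
    rw [hZmem] at hz ⊢
    intro y
    obtain ⟨y, rfl⟩ := σ.surjective y
    rw [← map_commutatorElement, hθinv θ hθa, hz]
  have hCn : C.Normal := ⟨fun c hc g => by
    rw [show g * c * g⁻¹ = ⁅g, c⁆ * c by rw [commutatorElement_def]; group]
    exact C.mul_mem (hK'C (Subgroup.commutator_mem_commutator (Subgroup.mem_top g) (Subgroup.mem_top c))) hc⟩
  have hCZ : C ≤ Z := fun c hc => (hZmem c).2 fun y => by
    rw [commutatorElement_eq_one_iff_mul_comm.2 (Subgroup.mem_center_iff.1 (hcentral C hCn le_rfl hc) y).symm]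
  have hmod := hσp.card_modEq_card_fixedPoints K
  have hfix : Nat.card (MulAction.fixedPoints (Subgroup.zpowers σ) K) = Nat.card Z := by
    refine Nat.card_congr (Equiv.subtypeEquivRight fun k => ⟨fun h => hCZ (h ⟨σ, Subgroup.mem_zpowers σ⟩),
      fun h => ?_⟩)
    rintro ⟨s, i, rfl⟩
    have : σ ∈ MulAction.stabilizer (MulAut K) k := hZC h
    exact Subgroup.zpow_mem _ this i
  rw [hfix, hnormN] at hmod
  have h1 : p ∣ Nat.card Z * d θ ^ 2 - Nat.card Z := (Nat.modEq_iff_dvd' (Nat.le_mul_of_pos_right _ (by positivity))).1 hmod.symm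
  rw [show Nat.card Z * d θ ^ 2 - Nat.card Z = Nat.card Z * ((d θ + 1) * (d θ - 1)) by
    rw [← Nat.sq_sub_sq, one_pow, Nat.mul_sub, mul_one]] at h1
  have hdle : d θ ≤ n := by
    rw [← hsum]
    exact le_trans (Nat.le_mul_of_pos_left _ (Nat.pos_of_ne_zero hθa))
      (Finset.single_le_sum (f := fun φ => a φ * d φ) (fun _ _ => Nat.zero_le _) (Finset.mem_univ θ))
  rcases hp.out.dvd_mul.1 h1 with h2 | h2
  · exact hpK (h2.trans (Subgroup.card_subgroup_dvd_card Z))
  · rcases hp.out.dvd_mul.1 h2 with h3 | h3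
    · have := Nat.le_of_dvd (by omega) h3; omega
    · have := Nat.le_of_dvd (by omega) h3; omega

theorem linear_of_small {P : Type u} [Group P] [Finite P] [hp : Fact p.Prime] (hP : IsPGroup p P)
    {n : ℕ} (ρ : Representation ℂ P (Fin n → ℂ)) (hρ : Function.Injective ρ) (hn : n < p)
    (a b : P) : a * b = b * a := by
  classical
  letI := Fintype.ofFinite P
  obtain ⟨c, hc, hdec⟩ := IsChar.exists_decomp_inner (isCharacter_character ρ)
  choose d hd0 hd using fun φ : IrrCharacter P => IsIrr.one_eq_pos φ.2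
  have hsum := deg_le ρ c hdec d hd
  refine commutatorElement_eq_one_iff_mul_comm.1 (hρ ?_)
  rw [map_one]
  refine ker_of_constituents ρ _ c hdec fun φ hφ => ?_
  obtain ⟨m, hm⟩ := IsPGroup.iff_card.1 hP
  obtain ⟨j, -, hj⟩ := (Nat.dvd_prime_pow hp.out).1 ((IsIrr.degree_dvd_card φ.2 (hd φ)).trans (dvd_of_eq hm))
  have hle : d φ ≤ n := hsum ▸ le_trans (Nat.le_mul_of_pos_left _ (Nat.pos_of_ne_zero hφ))
    (Finset.single_le_sum (f := fun φ => c φ * d φ) (fun _ _ => Nat.zero_le _) (Finset.mem_univ φ))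
  have hd1 : d φ = 1 := by
    rcases Nat.eq_zero_or_pos j with rfl | hj0
    · rw [hj, pow_zero]
    · have := Nat.le_self_pow hj0.ne' p
      omega
  obtain ⟨l, hl⟩ := linearHom_of_isCharacter (IsIrr.isCharacter φ.2) (by rw [hd, hd1, Nat.cast_one])
  rw [show (φ : P → ℂ) = fun g => (l g : ℂ) from hl]
  show (l ⁅a, b⁆ : ℂ) = (l 1 : ℂ)
  rw [map_commutatorElement, map_one, commutatorElement_eq_one_iff_mul_comm.2 (mul_comm _ _)]

theorem normal_sylow_aux [hp : Fact p.Prime] : ∀ (m : ℕ) (G : Type u) [Group G] [Finite G],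
    Nat.card G = m → ∀ (n : ℕ) (ρ : Representation ℂ G (Fin n → ℂ)), Function.Injective ρ →
    ((n + 1) ^ 2 ≤ p ∨ (n + 1 < p ∧ ∀ K : Subgroup G, ¬ p ^ 2 ∣ Nat.card K →
      ∀ Q : Sylow p K, (Q : Subgroup K).Normal)) → ∀ P : Sylow p G, (P : Subgroup G).Normal := by
  intro m
  induction m using Nat.strong_induction_on with
  | _ m ih =>
  intro G _ _ hm n ρ hρ h P
  classical
  rcases Nat.eq_zero_or_pos n with hn0 | hn0
  · subst hn0
    haveI : Subsingleton G := ⟨fun a b => hρ (Subsingleton.elim _ _)⟩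
    exact ⟨fun a ha g => by rwa [Subsingleton.elim (g * a * g⁻¹) a]⟩
  have hn1 : n + 1 < p := by
    rcases h with h | ⟨h, -⟩
    · nlinarith
    · exact h
  letI := Fintype.ofFinite G
  by_contra hPn
  have ihS : ∀ S : Subgroup G, S ≠ ⊤ → ∀ Q : Sylow p S, (Q : Subgroup S).Normal := by
    intro S hS
    have hlt : Nat.card S < m := by
      rw [← hm]
      exact lt_of_le_of_ne (Nat.le_of_dvd Nat.card_pos (Subgroup.card_subgroup_dvd_card S))
        fun e => hS (Subgroup.eq_top_of_card_eq S e)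
    refine ih _ hlt S rfl n (ρ.comp S.subtype) (hρ.comp S.subtype_injective) (h.imp_right fun h' => ⟨h'.1, fun K hK Q => ?_⟩)
    let e := K.equivMapOfInjective _ S.subtype_injective
    have hQ := h'.2 (K.map S.subtype) (by rwa [← Nat.card_congr e.toEquiv])
      (Q.comapOfInjective e.symm.toMonoidHom e.symm.injective (fun y _ => ⟨e y, e.symm_apply_apply y⟩))
    refine ⟨fun q hq g => ?_⟩
    have h1 := hQ.conj_mem (e q) (show e.symm (e q) ∈ (Q : Subgroup K) by rwa [e.symm_apply_apply]) (e g)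
    change e.symm (e g * e q * (e g)⁻¹) ∈ (Q : Subgroup K) at h1
    rwa [← map_inv, ← map_mul, ← map_mul, e.symm_apply_apply] at h1
  -- a proper subgroup containing the Sylow subgroup has it as a normal subgroup
  have hsub : ∀ S : Subgroup G, S ≠ ⊤ → (P : Subgroup G) ≤ S → S ≤ Subgroup.normalizer ((P : Subgroup G) : Set G) := by
    intro S hS hPS g hg
    have hn' := ihS S hS (P.subtype hPS)
    rw [Sylow.coe_subtype] at hn'
    refine Subgroup.mem_normalizer_iff.2 fun a => ⟨fun ha => ?_, fun ha => ?_⟩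
    · exact hn'.conj_mem ⟨a, hPS ha⟩ ha ⟨g, hg⟩
    · have ha' : a ∈ S := by
        have := S.mul_mem (S.mul_mem (S.inv_mem hg) (hPS ha)) hg
        simpa [mul_assoc] using this
      have := hn'.conj_mem ⟨g * a * g⁻¹, hPS ha⟩ ha ⟨g⁻¹, S.inv_mem hg⟩
      simpa [Subgroup.mem_subgroupOf, mul_assoc] using this
  have hnormal_of : ∀ M : Subgroup G, M.Normal → M ≠ ⊤ → ¬ (P : Subgroup G) ≤ M := by
    intro M hM hMne hPM
    refine hPn ⟨fun a ha g => ?_⟩
    have hn' := ihS M hMne (P.subtype hPM)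
    haveI := Sylow.characteristic_of_normal _ hn'
    have h1 : (((P.subtype hPM : Sylow p M) : Subgroup M).map M.subtype).Normal := inferInstance
    rw [Sylow.coe_subtype, Subgroup.subgroupOf_map_subtype, inf_of_le_left hPM] at h1
    exact h1.conj_mem a ha g
  have hPcomm : ∀ a ∈ (P : Subgroup G), ∀ b ∈ (P : Subgroup G), a * b = b * a := fun a ha b hb =>
    congrArg Subtype.val (linear_of_small P.isPGroup' (ρ.comp (P : Subgroup G).subtype)
      (hρ.comp (P : Subgroup G).subtype_injective) (by omega) ⟨a, ha⟩ ⟨b, hb⟩)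
  by_cases hlin : ∃ l : G →* ℂˣ, l ≠ 1 ∧ ∃ j, ∀ g, l g ^ (p ^ j) = 1
  · obtain ⟨l, hl1, j, hlj⟩ := hlin
    set Mk := l.ker
    have hMk : Mk ≠ ⊤ := fun e => hl1 (MonoidHom.ker_eq_top_iff.1 e)
    set Q := (P : Subgroup G) ⊓ Mk with hQdef
    have hQn : Q.Normal := by
      obtain ⟨R⟩ : Nonempty (Sylow p Mk) := inferInstance
      have hR := ihS Mk hMk R
      haveI := Sylow.characteristic_of_normal R hR
      have hRn : ((R : Subgroup Mk).map Mk.subtype).Normal := inferInstance
      have hRP : (R : Subgroup Mk).map Mk.subtype ≤ P := by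
        obtain ⟨R', hR'⟩ := (R.isPGroup'.map Mk.subtype).exists_le_sylow
        obtain ⟨g, hg⟩ := MulAction.exists_smul_eq G R' P
        intro a ha
        have h1 : g⁻¹ * a * g ∈ (R' : Subgroup G) := hR' (by simpa using hRn.conj_mem a ha g⁻¹)
        rw [← hg]
        show a ∈ MulAut.conj g • (R' : Subgroup G)
        have h2 := Subgroup.smul_mem_pointwise_smul _ (MulAut.conj g) _ h1
        simpa [MulAut.smul_def, mul_assoc] using h2
      have hQR : Q = (R : Subgroup Mk).map Mk.subtype := by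
        refine le_antisymm (fun a ha => ?_) (le_inf hRP (Subgroup.map_subtype_le _))
        have hp' : IsPGroup p ↥(Subgroup.zpowers (⟨a, ha.2⟩ : Mk)) :=
          (P.isPGroup'.to_le (inf_le_left : Q ≤ P)).comap_of_injective Mk.subtype Mk.subtype_injective |>.to_le
            (Subgroup.zpowers_le.2 (show (⟨a, ha.2⟩ : Mk) ∈ Q.comap Mk.subtype from ha))
        obtain ⟨R₂, hR₂⟩ := hp'.exists_le_sylow
        haveI := Sylow.unique_of_normal R hR
        rw [Subsingleton.elim R₂ R] at hR₂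
        exact ⟨_, hR₂ (Subgroup.mem_zpowers _), rfl⟩
      rw [hQR]; exact hRn
    haveI := hQn
    have hC : Subgroup.centralizer (Q : Set G) = ⊤ := by
      by_contra hne
      exact hnormal_of _ inferInstance hne fun a ha => Subgroup.mem_centralizer_iff.2 fun q hq => hPcomm q hq.1 a ha
    have hQZ : Q ≤ Subgroup.center G := fun q hq => Subgroup.mem_center_iff.2 fun g =>
      (Subgroup.mem_centralizer_iff.1 (show g ∈ Subgroup.centralizer (Q : Set G) by rw [hC]; trivial) q hq).symm
    haveI : (Q.subgroupOf Mk).Normal := inferInstance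
    have hidx : ¬ p ∣ (Q.subgroupOf Mk).index := by
      have h1 : (Q.subgroupOf Mk).index = (P : Subgroup G).relIndex Mk := by
        rw [hQdef, Subgroup.inf_subgroupOf_right]; rfl
      rw [h1]
      exact Cfsg.Agent.Grp.not_dvd_relIndex_sylow P (Subgroup.IsSubnormal.step Mk ⊤ le_top
        Subgroup.IsSubnormal.top ((Subgroup.normal_subgroupOf_iff le_top).2 fun x g hx _ =>
          Subgroup.Normal.conj_mem inferInstance x hx g))
    obtain ⟨q, hq⟩ := IsPGroup.iff_card.1 ((P.isPGroup'.to_le (inf_le_left : Q ≤ P)).comap_of_injective Mk.subtype Mk.subtype_injective)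
    obtain ⟨K', hK'⟩ := Subgroup.exists_right_complement'_of_coprime (N := Q.subgroupOf Mk) (by
      show Nat.Coprime (Nat.card (Q.comap Mk.subtype)) _
      rw [hq]; exact Nat.Coprime.pow_left _ (hp.out.coprime_iff_not_dvd.2 hidx))
    set K := K'.map Mk.subtype with hKdef
    have hpK : ¬ p ∣ Nat.card K := by
      rw [hKdef, Nat.card_congr (K'.equivMapOfInjective _ Mk.subtype_injective).toEquiv.symm, ← hK'.symm.index_eq_card]
      exact hidx
    have hKmem : ∀ g : G, g ∈ Mk → ¬ p ∣ orderOf g → g ∈ K := by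
      intro g hg hord
      obtain ⟨⟨⟨a, ha⟩, ⟨b, hb⟩⟩, hab⟩ := hK'.2 (⟨g, hg⟩ : Mk)
      have hab' : (a : G) * (b : G) = g := congrArg Subtype.val hab
      have hc : Commute (a : G) (b : G) := (Subgroup.mem_center_iff.1 (hQZ ha) b).symm
      have hbK : (b : G) ∈ K := ⟨b, hb, rfl⟩
      set o := orderOf g * Nat.card K
      have h1 : (a : G) ^ o = 1 := by
        have hb1 : (b : G) ^ o = 1 := by
          refine orderOf_dvd_iff_pow_eq_one.1 ?_
          exact dvd_mul_of_dvd_right (Subgroup.orderOf_dvd_natCard _ hbK) _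
        have hg1 : g ^ o = 1 := orderOf_dvd_iff_pow_eq_one.1 (dvd_mul_right _ _)
        rw [← hab', hc.mul_pow, hb1, mul_one] at hg1
        exact hg1
      obtain ⟨i, hi⟩ := (P.isPGroup'.to_le (inf_le_left : Q ≤ P)) ⟨(a : G), ha⟩
      have hi' : (a : G) ^ p ^ i = 1 := congrArg Subtype.val hi
      have ha1 : (a : G) = 1 := by
        refine orderOf_eq_one_iff.1 (Nat.eq_one_of_dvd_coprimes ?_ (orderOf_dvd_of_pow_eq_one hi')
          (orderOf_dvd_of_pow_eq_one h1))
        exact Nat.Coprime.pow_left i (hp.out.coprime_iff_not_dvd.2 fun hd => (hp.out.dvd_mul.1 hd).elim hord hpK)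
      rw [← hab', ha1, one_mul]
      exact hbK
    have hKn : K.Normal := ⟨fun k hk g => hKmem _
      (Subgroup.Normal.conj_mem inferInstance k (Subgroup.map_subtype_le _ hk) g) (by
        rw [← MulAut.conj_apply, MulEquiv.orderOf_eq]
        exact fun hd => hpK (hd.trans (Subgroup.orderOf_dvd_natCard _ hk)))⟩
    haveI := hKn
    have hcent : ∀ x ∈ (P : Subgroup G), ∀ k ∈ K, x * k = k * x := fun x hx =>
      centralizes ρ hρ hn1 x (by
        obtain ⟨i, hi⟩ := IsPGroup.iff_orderOf.1 P.isPGroup' ⟨x, hx⟩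
        exact ⟨i, by rwa [Subgroup.orderOf_mk] at hi⟩) _ K rfl (fun k hk => hKn.conj_mem k hk x) hpK
    have hindexMk : ∃ i, Mk.index = p ^ i := by
      rw [show Mk.index = Nat.card l.range from Subgroup.index_ker l]
      refine IsPGroup.exists_card_eq ?_
      rintro ⟨_, g, rfl⟩
      exact ⟨j, Subtype.ext (hlj g)⟩
    have htop : (P : Subgroup G) ⊔ Mk = ⊤ := by
      obtain ⟨i, hi⟩ := hindexMk
      rw [← Subgroup.index_eq_one]
      have h1 : ((P : Subgroup G) ⊔ Mk).index ∣ p ^ i := hi ▸ Subgroup.index_dvd_of_le le_sup_right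
      have h2 : ((P : Subgroup G) ⊔ Mk).index ∣ (P : Subgroup G).index := Subgroup.index_dvd_of_le le_sup_left
      exact Nat.eq_one_of_dvd_coprimes (Nat.Coprime.pow_left i (hp.out.coprime_iff_not_dvd.2 P.not_dvd_index)) h1 h2
    refine hPn ⟨fun a ha g => ?_⟩
    have hgm : g ∈ ((P : Subgroup G) : Set G) * (Mk : Set G) := by
      rw [← Subgroup.mul_normal, htop]; trivial
    obtain ⟨x, hx, y, hy, rfl⟩ := hgm
    obtain ⟨⟨⟨b, hb⟩, ⟨c, hc⟩⟩, hbc⟩ := hK'.2 (⟨y, hy⟩ : Mk)
    have hbc' : (b : G) * (c : G) = y := congrArg Subtype.val hbc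
    have hya : y * a = a * y := by
      have e1 : Commute (b : G) a := hPcomm _ (show (b : G) ∈ (P : Subgroup G) from (show (b : G) ∈ Q from hb).1) a ha
      have e2 : Commute (c : G) a := (hcent a ha c ⟨c, hc, rfl⟩).symm
      rw [← hbc']
      exact (e1.mul_left e2).eq
    have hxa : x * a = a * x := hPcomm x hx a ha
    rw [show x * y * a * (x * y)⁻¹ = x * (y * a * y⁻¹) * x⁻¹ by group, hya, mul_inv_cancel_right, hxa,
      mul_inv_cancel_right]
    exact ha
  push Not at hlin
  obtain ⟨a, ha, hdec⟩ := IsChar.exists_decomp_inner (isCharacter_character ρ)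
  choose d hd0 hd using fun φ : IrrCharacter G => IsIrr.one_eq_pos φ.2
  have hsum := deg_le ρ a hdec d hd
  have hdle : ∀ φ, a φ ≠ 0 → d φ ≤ n := fun φ hφ => hsum ▸
    le_trans (Nat.le_mul_of_pos_left _ (Nat.pos_of_ne_zero hφ))
      (Finset.single_le_sum (f := fun φ => a φ * d φ) (fun _ _ => Nat.zero_le _) (Finset.mem_univ φ))
  have hlin' : ∀ (l : G →* ℂˣ) (x : G), x ∈ (P : Subgroup G) → l x = 1 := by
    intro l x hx
    set q := (Nat.card G).factorization p
    set r := Nat.card G / p ^ q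
    have hr : ∀ g, (l g ^ r) ^ (p ^ q) = 1 := fun g => by
      rw [← pow_mul, Nat.div_mul_cancel (Nat.ordProj_dvd _ _), ← map_pow, pow_card_eq_one', map_one]
    obtain ⟨i, hi⟩ := IsPGroup.iff_orderOf.1 P.isPGroup' ⟨x, hx⟩
    rw [Subgroup.orderOf_mk] at hi
    have h1 : l x ^ r = 1 := by
      by_contra hne
      obtain ⟨g, hg⟩ := hlin ((powMonoidHom r).comp l) (fun e => hne (DFunLike.congr_fun e x)) q
      exact hg (hr g)
    refine orderOf_eq_one_iff.1 (Nat.eq_one_of_dvd_coprimes ?_ ((orderOf_map_dvd l x).trans (dvd_of_eq hi))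
      (orderOf_dvd_of_pow_eq_one h1))
    exact Nat.Coprime.pow_left i (Nat.coprime_ordCompl hp.out Nat.card_pos.ne')
  have hPZ : (P : Subgroup G) ⊓ Subgroup.center G = ⊥ := by
    rw [eq_bot_iff]
    intro z hz
    refine Subgroup.mem_bot.2 (hρ ?_)
    rw [map_one]
    refine ker_of_constituents ρ z a hdec fun φ hφ => ?_
    obtain ⟨c, hc⟩ := Cfsg.Agent.Block.PCen.exists_center_scalar φ (a := z) fun y => by
      rw [commutatorElement_eq_one_iff_mul_comm.2 (Subgroup.mem_center_iff.1 hz.2 y).symm]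
    obtain ⟨k, σ, hσirr, hσc, hk, -⟩ := IsIrr.exists_rep φ.2
    have hscal : σ z = c • LinearMap.id := by
      haveI := hσirr
      obtain ⟨c', hc'⟩ := schur_scalar σ (σ z) fun g => by
        rw [← Module.End.mul_eq_comp, ← Module.End.mul_eq_comp, ← map_mul, ← map_mul, Subgroup.mem_center_iff.1 hz.2 g]
      have h1 := hc 1
      rw [mul_one, ← hσc] at h1
      rw [Representation.character, hc', map_smul, LinearMap.trace_id, smul_eq_mul,
        Representation.char_one] at h1
      rw [hc', mul_right_cancel₀ (by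
        rw [Module.finrank_fin_fun]
        intro e
        exact IsIrr.one_ne_zero φ.2 (hk.trans e)) h1]
    have hdet := congrArg Units.val (hlin' (detUnits σ) z hz.1)
    rw [detUnits_apply, hscal, LinearMap.det_smul, LinearMap.det_id, mul_one, Module.finrank_fin_fun,
      Units.val_one] at hdet
    obtain ⟨i, hi⟩ := IsPGroup.iff_orderOf.1 P.isPGroup' ⟨z, hz.1⟩
    rw [Subgroup.orderOf_mk] at hi
    have hpow : ∀ e : ℕ, (φ : G → ℂ) (z ^ e) = c ^ e * (φ : G → ℂ) 1 := by
      intro e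
      induction e with
      | zero => simp
      | succ e ih' => rw [pow_succ', hc, ih', pow_succ', mul_assoc]
    have hc1 := hpow (orderOf z)
    rw [pow_orderOf_eq_one, hi] at hc1
    have hkd : k = d φ := by exact_mod_cast hk.symm.trans (hd φ)
    have : c = 1 := orderOf_eq_one_iff.1 (Nat.eq_one_of_dvd_coprimes
      (Nat.Coprime.pow_left i (hp.out.coprime_iff_not_dvd.2 fun hdv => by
        have := Nat.le_of_dvd (hkd ▸ hd0 φ) hdv
        have := hdle φ hφ
        omega))
      (orderOf_dvd_of_pow_eq_one ((mul_eq_right₀ (IsIrr.one_ne_zero φ.2)).1 hc1.symm))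
      (orderOf_dvd_of_pow_eq_one hdet))
    have h2 := hc 1
    rwa [this, mul_one, one_mul] at h2
  have hone : ∀ g : G, g ∉ Subgroup.center G → ∀ u v : G,
      Subgroup.centralizer ({g} : Set G) ⊓ (P : Subgroup G).map (MulAut.conj u).toMonoidHom ≠ ⊥ →
      Subgroup.centralizer ({g} : Set G) ⊓ (P : Subgroup G).map (MulAut.conj v).toMonoidHom ≠ ⊥ →
      (P : Subgroup G).map (MulAut.conj u).toMonoidHom = (P : Subgroup G).map (MulAut.conj v).toMonoidHom := by
    have hproper : ∀ g, g ∉ Subgroup.center G → Subgroup.centralizer ({g} : Set G) ≠ ⊤ := fun g hg e =>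
      hg (Subgroup.mem_center_iff.2 fun y => Subgroup.mem_centralizer_singleton_iff.1 (e ▸ Subgroup.mem_top y))
    have hconjP : ∀ u : G, (P : Subgroup G).map (MulAut.conj u).toMonoidHom = ((u • P : Sylow p G) : Subgroup G) := fun u => rfl
    have hTI : ∀ (P₁ P₂ : Sylow p G) (b : G), b ≠ 1 → b ∈ (P₁ : Subgroup G) → b ∈ (P₂ : Subgroup G) → P₁ = P₂ := by
      intro P₁ P₂ b hb1 hb hb'
      have hab : ∀ (R : Sylow p G), ∀ s ∈ (R : Subgroup G), ∀ t ∈ (R : Subgroup G), s * t = t * s := fun R s hs t ht =>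
        congrArg Subtype.val (linear_of_small R.isPGroup' (ρ.comp (R : Subgroup G).subtype)
          (hρ.comp (R : Subgroup G).subtype_injective) (by omega) ⟨s, hs⟩ ⟨t, ht⟩)
      have hbZ : b ∉ Subgroup.center G := by
        intro hZb
        obtain ⟨u, hu⟩ := MulAction.exists_smul_eq G P₁ P
        have h1 : u * b * u⁻¹ ∈ (P : Subgroup G) := by
          rw [← hu]
          exact Subgroup.smul_mem_pointwise_smul b (MulAut.conj u) (P₁ : Subgroup G) hb
        rw [Subgroup.mem_center_iff.1 hZb u, mul_inv_cancel_right] at h1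
        exact hb1 (Subgroup.mem_bot.1 (hPZ.le ⟨h1, hZb⟩))
      have hle : ∀ R : Sylow p G, b ∈ (R : Subgroup G) → (R : Subgroup G) ≤ Subgroup.centralizer {b} := fun R hR s hs =>
        Subgroup.mem_centralizer_singleton_iff.2 (hab R s hs b hR)
      haveI : Subsingleton (Sylow p (Subgroup.centralizer ({b} : Set G))) := by
        haveI := Sylow.unique_of_normal _ (ihS _ (hproper b hbZ) (P₁.subtype (hle P₁ hb)))
        infer_instance
      have h1 : P₁.subtype (hle P₁ hb) = P₂.subtype (hle P₂ hb') := Subsingleton.elim _ _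
      exact Sylow.subtype_injective (hP := hle P₁ hb) (hQ := hle P₂ hb') h1
    intro g hg u v hu hv
    rw [hconjP] at hu hv ⊢
    rw [hconjP]
    obtain ⟨b₁, hb₁, hb₁1⟩ := (Subgroup.bot_or_exists_ne_one _).resolve_left hu
    obtain ⟨b₂, hb₂, hb₂1⟩ := (Subgroup.bot_or_exists_ne_one _).resolve_left hv
    obtain ⟨R⟩ : Nonempty (Sylow p (Subgroup.centralizer ({g} : Set G))) := inferInstance
    haveI := Sylow.unique_of_normal R (ihS _ (hproper g hg) R)
    have hin : ∀ (P₁ : Sylow p G) (b : G) (hbC : b ∈ Subgroup.centralizer ({g} : Set G)), b ∈ (P₁ : Subgroup G) →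
        b ∈ (R : Subgroup (Subgroup.centralizer ({g} : Set G))).map (Subgroup.centralizer ({g} : Set G)).subtype := by
      intro P₁ b hbC hb
      have hp' : IsPGroup p ↥(Subgroup.zpowers (⟨b, hbC⟩ : Subgroup.centralizer ({g} : Set G))) :=
        (P₁.isPGroup'.comap_of_injective (Subgroup.centralizer ({g} : Set G)).subtype
          (Subgroup.subtype_injective _)).to_le (Subgroup.zpowers_le.2 hb)
      obtain ⟨R₂, hR₂⟩ := hp'.exists_le_sylow
      rw [Subsingleton.elim R₂ R] at hR₂
      exact ⟨_, hR₂ (Subgroup.mem_zpowers _), rfl⟩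
    obtain ⟨P₃, hP₃⟩ := (R.isPGroup'.map (Subgroup.centralizer ({g} : Set G)).subtype).exists_le_sylow
    rw [hTI _ P₃ b₁ hb₁1 hb₁.2 (hP₃ (hin _ b₁ hb₁.1 hb₁.2)),
      hTI _ P₃ b₂ hb₂1 hb₂.2 (hP₃ (hin _ b₂ hb₂.1 hb₂.2))]
  obtain ⟨x, hx, hx1⟩ : ∃ x ∈ (P : Subgroup G), x ≠ 1 := by
    refine (Subgroup.bot_or_exists_ne_one _).resolve_left fun e => hPn ?_
    rw [e]; infer_instance
  obtain ⟨φ, hφ, hφx⟩ : ∃ φ : IrrCharacter G, a φ ≠ 0 ∧ (φ : G → ℂ) x ≠ (φ : G → ℂ) 1 := by
    by_contra hno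
    push Not at hno
    exact hx1 (hρ (by rw [map_one]; exact ker_of_constituents ρ x a hdec hno))
  have hne1 : (φ : G → ℂ) 1 ≠ 1 := by
    intro e
    obtain ⟨l, hl⟩ := linearHom_of_isCharacter (IsIrr.isCharacter φ.2) e
    rw [show (φ : G → ℂ) = fun g => (l g : ℂ) from hl] at hφx
    exact hφx (by simp [hlin' l x hx])
  letI := Fintype.ofFinite (P : Subgroup G)
  have hbound := (Cfsg.Agent.S0898.result (P : Subgroup G) hPcomm hPZ hone (φ : G → ℂ) φ.2 ⟨x, hx, hφx⟩).2 hne1
    fun M hM hPM => by_contra fun hne => hnormal_of M hM hne hPM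
  rw [hd, Complex.natCast_re] at hbound
  have hb : Nat.card (P : Subgroup G) < (1 + n) ^ 2 := by
    have h1 : (Nat.card (P : Subgroup G) : ℝ) < ((1 + n : ℕ) : ℝ) ^ 2 := by
      refine lt_of_lt_of_le hbound ?_
      have : (d φ : ℝ) ≤ n := by exact_mod_cast hdle φ hφ
      push_cast
      gcongr
    exact_mod_cast h1
  have hP1 : p ≤ Nat.card (P : Subgroup G) := by
    obtain ⟨i, hi⟩ := IsPGroup.iff_card.1 P.isPGroup'
    rcases Nat.eq_zero_or_pos i with rfl | hi0
    · rw [pow_zero, Subgroup.card_eq_one] at hi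
      rw [hi] at hx
      exact absurd (Subgroup.mem_bot.1 hx) hx1
    · rw [hi]; exact Nat.le_self_pow hi0.ne' p
  rw [add_comm] at hb
  rcases h with h | ⟨-, hK⟩
  · omega
  · have hsq : ¬ p ^ 2 ∣ Nat.card G := by
      intro hdvd
      have h2 : p ^ 2 ∣ Nat.card (P : Subgroup G) := P.pow_dvd_card_of_pow_dvd_card hdvd
      have := Nat.le_of_dvd Nat.card_pos h2
      nlinarith
    have hn' := hK ⊤ (by rwa [Subgroup.card_top]) (P.subtype le_top)
    rw [Sylow.coe_subtype] at hn'
    exact hPn ⟨fun b hb' g => hn'.conj_mem ⟨b, trivial⟩ hb' ⟨g, trivial⟩⟩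

/-- Let G be a finite group with a faithful complex representation of degree n (on Fin n → ℂ) and p a prime. Suppose either that (n + 1) ^ 2 ≤ p, or that n + 1 < p and every subgroup of G whose order is not divisible by p ^ 2 has a normal Sylow p-subgroup. Then every Sylow p-subgroup of G is normal. -/
theorem result {G : Type*} [Group G] [Finite G] (n : ℕ) (ρ : Representation ℂ G (Fin n → ℂ)) (hρ : Function.Injective ρ) (p : ℕ) [Fact p.Prime] (h : (n + 1) ^ 2 ≤ p ∨ (n + 1 < p ∧ ∀ K : Subgroup G, ¬ p ^ 2 ∣ Nat.card K → ∀ Q : Sylow p K, (Q : Subgroup K).Normal)) (P : Sylow p G) : (P : Subgroup G).Normal := by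
  exact normal_sylow_aux _ G rfl n ρ hρ h P

end Cfsg.Agent.S0899
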