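import Cfsg.Statements.S4343
import Mathlib
import Cfsg.Agent.Lib.Transfer.SylowNumber

set_option maxHeartbeats 1000000
set_option maxRecDepth 8000

set_option autoImplicit false
open Cfsg

namespace Cfsg.Agent.S4343

/-- Let S be a finite non-abelian simple group and p a prime dividing its order. If S has fewer than p² Sylow p-subgroups, then its Sylow p-subgroups have order p. -/
theorem result {S : Type*} [Group S] [Finite S]
    [IsSimpleGroup S] (hS : ¬ IsMulCommutative S) (p : ℕ) [Fact p.Prime] (hp : p ∣ Nat.card S)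
    (hn : Nat.card (Sylow p S) < p ^ 2) (P : Sylow p S) : Nat.card P = p := by
  classical
  have : Fintype (Sylow p S) := Fintype.ofFinite _
  obtain ⟨a, ha⟩ := P.isPGroup'.exists_card_eq
  have hcard : ∀ X : Sylow p S, Nat.card (X : Subgroup S) = p ^ a := fun X =>
    (Sylow.card_eq_multiplicity X).trans ((Sylow.card_eq_multiplicity P).symm.trans ha)
  have hp2 : 2 ≤ p := (Fact.out : p.Prime).two_le
  have ha1 : 1 ≤ a := by
    have := Sylow.dvd_card_of_dvd_card P hp
    rcases Nat.eq_zero_or_pos a with rfl | h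
    · rw [ha, pow_zero] at this; simp at this; omega
    · exact h
  by_contra hne
  have ha2 : 2 ≤ a := by
    by_contra h
    have : a = 1 := by omega
    subst this
    exact hne (by simpa using ha)
  -- the intersection of all Sylow subgroups is trivial
  set K : Subgroup S := ⨅ X : Sylow p S, (X : Subgroup S) with hKdef
  have hKn : K.Normal := ⟨fun z hz g => by
    rw [hKdef, Subgroup.mem_iInf] at hz ⊢
    intro X
    have := hz (g⁻¹ • X)
    rw [Sylow.coe_subgroup_smul, Subgroup.mem_pointwise_smul_iff_inv_smul_mem] at this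
    simpa [MulAut.smul_def] using this⟩
  have hKbot : K = ⊥ := by
    refine hKn.eq_bot_or_eq_top.resolve_right fun htop => hS ?_
    have hPtop : (P : Subgroup S) = ⊤ := top_unique (htop ▸ iInf_le _ P)
    have hpS : IsPGroup p S := by
      intro x
      obtain ⟨k, hk⟩ := P.isPGroup' ⟨x, hPtop ▸ Subgroup.mem_top x⟩
      exact ⟨k, by simpa using congrArg Subtype.val hk⟩
    have : Nontrivial S := IsSimpleGroup.toNontrivial
    have hc := hpS.center_nontrivial
    have hctop : Subgroup.center S = ⊤ :=
      (Subgroup.Normal.eq_bot_or_eq_top inferInstance).resolve_left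
        (by
          intro hb
          rw [hb] at hc
          exact not_nontrivial (⊥ : Subgroup S) hc)
    exact ⟨⟨fun x y => (Subgroup.mem_center_iff.1 (hctop ▸ Subgroup.mem_top y) x)⟩⟩
  -- distinct Sylow subgroups meet in index `p`
  have hidx : ∀ X Y : Sylow p S, X ≠ Y →
      ((X : Subgroup S) ⊓ Y).relIndex (X : Subgroup S) = p := by
    intro X Y hXY
    have h1 : ((X : Subgroup S) ⊓ Y).relIndex (X : Subgroup S) ∣ p ^ a := by
      rw [← hcard X]
      exact Subgroup.index_dvd_card _
    obtain ⟨k, -, hk⟩ := (Nat.dvd_prime_pow Fact.out).1 h1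
    have h2 : p ^ k < p ^ 2 := by
      rw [← hk, ← Cfsg.Agent.Transfer.card_orbit_sylow]
      exact (Finite.card_subtype_le _).trans_lt hn
    have hk2 : k < 2 := (Nat.pow_lt_pow_iff_right (by omega)).1 h2
    have hk0 : k ≠ 0 := by
      rintro rfl
      rw [pow_zero] at hk
      exact hXY (Sylow.ext (X.3 Y.isPGroup' ((Subgroup.relIndex_eq_one.1 hk).trans inf_le_right)).symm)
    rw [hk, show k = 1 by omega, pow_one]
  have hinfcard : ∀ X Y : Sylow p S, X ≠ Y →
      Nat.card ↥((X : Subgroup S) ⊓ Y) = p ^ (a - 1) := by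
    intro X Y hXY
    have h1 := (((X : Subgroup S) ⊓ Y).subgroupOf (X : Subgroup S)).card_mul_index
    rw [Nat.card_congr (Subgroup.subgroupOfEquivOfLe inf_le_left).toEquiv, hcard X] at h1
    have h2 : (((X : Subgroup S) ⊓ Y).subgroupOf (X : Subgroup S)).index = p := hidx X Y hXY
    rw [h2, show a = (a - 1) + 1 by omega, pow_succ] at h1
    exact Nat.eq_of_mul_eq_mul_right (by omega) h1
  have hnorm : ∀ X Y : Sylow p S, X ≠ Y →
      (X : Subgroup S) ≤ Subgroup.normalizer (((X : Subgroup S) ⊓ Y : Subgroup S) : Set S) := by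
    intro X Y hXY
    have : (((X : Subgroup S) ⊓ Y).subgroupOf (X : Subgroup S)).Normal := by
      apply Subgroup.normal_of_index_eq_minFac_card
      rw [hcard X, Nat.Prime.pow_minFac Fact.out (by omega)]
      exact hidx X Y hXY
    exact (Subgroup.normal_subgroupOf_iff_le_normalizer inf_le_left).1 this
  have hsm : ∀ (g : S) (X : Sylow p S) (z : S), z ∈ ((g • X : Sylow p S) : Subgroup S) ↔
      g⁻¹ * z * g ∈ (X : Subgroup S) := by
    intro g X z
    rw [Sylow.coe_subgroup_smul, Subgroup.mem_pointwise_smul_iff_inv_smul_mem]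
    simp [MulAut.smul_def]
  -- choose `P ≠ Q`
  have hQ : ∃ Q, Q ≠ P := by
    by_contra h
    push Not at h
    have : (P : Subgroup S) ≤ ⊥ := hKbot ▸ le_iInf fun X => (h X).symm ▸ le_rfl
    have h1 : Nat.card (P : Subgroup S) = 1 := by rw [le_bot_iff.1 this, Subgroup.card_bot]
    rw [hcard P] at h1
    exact absurd h1 (Nat.one_lt_pow (by omega) (by omega)).ne'
  obtain ⟨Q, hQP⟩ := hQ
  set D : Subgroup S := (P : Subgroup S) ⊓ Q with hD
  have hDc : Nat.card D = p ^ (a - 1) := hinfcard P Q hQP.symm
  have hR : ∃ R : Sylow p S, ¬ D ≤ R := by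
    by_contra h
    push Not at h
    have : D ≤ ⊥ := hKbot ▸ le_iInf h
    rw [le_bot_iff.1 this, Subgroup.card_bot] at hDc
    exact absurd hDc (Nat.one_lt_pow (by omega) (by omega)).ne
  obtain ⟨R, hR⟩ := hR
  -- the line through `D`
  set L : Finset (Sylow p S) := Finset.univ.filter fun X => D ≤ (X : Subgroup S) with hL
  have hLcard : p + 1 ≤ L.card := by
    have h1 : insert P (MulAction.orbit (P : Subgroup S) Q).toFinset ⊆ L := by
      intro X hX
      rw [hL, Finset.mem_filter]
      refine ⟨Finset.mem_univ _, ?_⟩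
      rcases Finset.mem_insert.1 hX with rfl | hX
      · exact inf_le_left
      obtain ⟨x, rfl⟩ := Set.mem_toFinset.1 hX
      intro z hz
      show z ∈ (((x : S) • Q : Sylow p S) : Subgroup S)
      rw [hsm]
      have hxD : (x : S)⁻¹ ∈ Subgroup.normalizer (D : Set S) := inv_mem (hnorm P Q hQP.symm x.2)
      have := (Subgroup.mem_normalizer_iff.1 hxD z).1 hz
      have h2 : (x : S)⁻¹ * z * ((x : S)⁻¹)⁻¹ ∈ (Q : Subgroup S) := this.2
      rwa [inv_inv] at h2
    have h2 : P ∉ (MulAction.orbit (P : Subgroup S) Q).toFinset := by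
      intro hm
      obtain ⟨x, hx⟩ := Set.mem_toFinset.1 hm
      apply hQP
      have hx' : (x : S) • Q = (x : S) • P := hx.trans (Cfsg.Agent.Transfer.smul_sylow_self P x.2).symm
      exact MulAction.injective (x : S) hx'
    have h3 := Finset.card_le_card h1
    rw [Finset.card_insert_of_notMem h2, Set.toFinset_card, ← Nat.card_eq_fintype_card,
      Cfsg.Agent.Transfer.card_orbit_sylow, hidx P Q hQP.symm] at h3
    exact h3
  have hXR : ∀ X ∈ L, R ≠ X := by
    intro X hX he
    rw [hL, Finset.mem_filter] at hX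
    exact hR (he ▸ hX.2)
  -- orbits of members of the line under `R`
  have horb : ∀ X, R ≠ X → ∀ Y ∈ MulAction.orbit (R : Subgroup S) X,
      (R : Subgroup S) ⊓ Y = (R : Subgroup S) ⊓ X := by
    rintro X hX Y ⟨r, rfl⟩
    ext z
    have hrn := hnorm R X hX (inv_mem r.2)
    rw [Subgroup.mem_normalizer_iff.1 hrn z, Subgroup.mem_inf, Subgroup.mem_inf, inv_inv]
    show z ∈ (R : Subgroup S) ∧ z ∈ (((r : S) • X : Sylow p S) : Subgroup S) ↔ _
    rw [hsm]
    exact and_congr_left' (by rw [Subgroup.mul_mem_cancel_right _ r.2,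
      Subgroup.mul_mem_cancel_left _ (inv_mem r.2)])
  have hdisj : (L : Set (Sylow p S)).PairwiseDisjoint
      fun X => (MulAction.orbit (R : Subgroup S) X).toFinset := by
    intro X hX X' hX' hne'
    rw [Function.onFun, Finset.disjoint_left]
    intro Y hY hY'
    have hXL := (Finset.mem_filter.1 hX).2
    have hX'L := (Finset.mem_filter.1 hX').2
    have e1 := horb X (hXR X hX) Y (Set.mem_toFinset.1 hY)
    have e2 := horb X' (hXR X' hX') Y (Set.mem_toFinset.1 hY')
    have hDeq : D = (X : Subgroup S) ⊓ X' :=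
      Subgroup.eq_of_le_of_card_ge (le_inf hXL hX'L) (by rw [hDc, hinfcard X X' hne'])
    have hle : (R : Subgroup S) ⊓ X ≤ D := by
      rw [hDeq]
      exact le_inf inf_le_right ((e1.symm.trans e2).le.trans inf_le_right)
    have := Subgroup.eq_of_le_of_card_ge hle (by rw [hDc, hinfcard R X (hXR X hX)])
    exact hR (this ▸ inf_le_left)
  have hbig : (insert R (L.biUnion fun X => (MulAction.orbit (R : Subgroup S) X).toFinset)).card
      ≤ Nat.card (Sylow p S) := by
    rw [Nat.card_eq_fintype_card]
    exact Finset.card_le_univ _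
  rw [Finset.card_insert_of_notMem, Finset.card_biUnion hdisj] at hbig
  · rw [Finset.sum_congr rfl (fun X hX => by
      rw [Set.toFinset_card, ← Nat.card_eq_fintype_card, Cfsg.Agent.Transfer.card_orbit_sylow,
        hidx R X (hXR X hX)]), Finset.sum_const, smul_eq_mul] at hbig
    have := Nat.mul_le_mul_right p hLcard
    nlinarith
  · intro hm
    obtain ⟨X, hX, hX'⟩ := Finset.mem_biUnion.1 hm
    obtain ⟨r, hr⟩ := Set.mem_toFinset.1 hX'
    apply hXR X hX
    exact (MulAction.injective (r : S) ((Cfsg.Agent.Transfer.smul_sylow_self R r.2).trans hr.symm))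

end Cfsg.Agent.S4343
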