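import Cfsg.Statements.S1516
import Cfsg.Agent.Lib.Char.CoherentExtend
import Mathlib.Tactic.Linarith
-- import your own Cfsg.Agent.* helpers here

set_option autoImplicit false
open Cfsg

namespace Cfsg.Agent.S1516

/-- Let (S, τ, R) be a coherence system from L to G with degrees φ 1 = d φ and squared norms ⟨φ, φ⟩ = n φ for φ ∈ S. Let S₁ ⊆ S be a finite subset closed under complex conjugation such that (S₁, L minus 1, τ) is coherent, let χ ∈ S with χ ∉ S₁ and conj χ ∉ S₁, and let χ₁ ∈ S₁ with d χ₁ dividing d χ and 2 d χ d χ₁ < Σ_{φ ∈ S₁} (d φ)² / n φ. Then S₁ together with χ and conj χ is coherent. -/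
theorem result {L : Type*} [Group L] [Fintype L] {G : Type*} [Group G] [Fintype G] (S : Set (L → ℂ)) (τ : (L → ℂ) → (G → ℂ)) (R : (L → ℂ) → Finset (G → ℂ)) (hS : Cfsg.IsCoherenceSystem S τ R) (d n : (L → ℂ) → ℕ) (hd : ∀ φ ∈ S, φ 1 = (d φ : ℂ)) (hn : ∀ φ ∈ S, Cfsg.classInner φ φ = (n φ : ℂ)) (S₁ : Finset (L → ℂ)) (hS₁ : ↑S₁ ⊆ S) (hS₁c : ∀ φ ∈ S₁, Cfsg.conjFun φ ∈ S₁) (hcoh : Cfsg.IsCoherent (↑S₁ : Set (L → ℂ)) {1}ᶜ τ) (χ : L → ℂ) (hχ : χ ∈ S) (hχ₁ : χ ∉ S₁) (hχ₂ : Cfsg.conjFun χ ∉ S₁) (χ₁ : L → ℂ) (hχ₁S : χ₁ ∈ S₁) (hdvd : d χ₁ ∣ d χ) (hineq : (2 * d χ * d χ₁ : ℝ) < ∑ φ ∈ S₁, ((d φ : ℝ) ^ 2 / (n φ : ℝ))) : Cfsg.IsCoherent (↑S₁ ∪ {χ, Cfsg.conjFun χ} : Set (L → ℂ)) {1}ᶜ τ := by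
  classical
  obtain ⟨-, τ₁, hτ₁, hagree⟩ := hcoh
  have hχ₁' : χ ∉ S₁ := hχ₁
  have hc : Cfsg.conjFun χ ∈ S := hS.conj_mem χ hχ
  have hχne : Cfsg.conjFun χ ≠ χ := hS.conj_ne χ hχ
  replace hχ₁ : χ₁ ∈ S := hS₁ hχ₁S
  have hd1 : d χ₁ ≠ 0 := fun h => Cfsg.Agent.Char.Coh.one_ne_zero' hS hχ₁ (by rw [hd _ hχ₁, h, Nat.cast_zero])
  have hnpos : ∀ φ ∈ S, n φ ≠ 0 := fun φ hφ h => Cfsg.Agent.Char.Coh.one_ne_zero' hS hφ (by
    have : φ = 0 := by rw [← Cfsg.Agent.Char.classInner_self_eq_zero, hn φ hφ, h, Nat.cast_zero]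
    rw [this]; rfl)
  have hsubS : ∀ α ∈ zspanOn (↑S₁ : Set (L → ℂ)) {1}ᶜ, α ∈ zspanOn S {1}ᶜ := fun α h =>
    ⟨Submodule.span_mono hS₁ h.1, h.2⟩
  have hmem : ∀ φ ∈ S₁, φ ∈ zspan (↑S₁ : Set (L → ℂ)) := fun φ hφ => Submodule.subset_span hφ
  have hdc : ∀ φ ∈ S, d (Cfsg.conjFun φ) = d φ := fun φ hφ => by
    have := Cfsg.Agent.Char.Coh.conjFun_one hS hφ
    rw [hd φ hφ, hd _ (hS.conj_mem φ hφ)] at this
    exact_mod_cast this
  -- images of the members of S₁ are orthogonal to R χ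
  have hperp : ∀ φ ∈ S₁, ∀ α ∈ R χ, classInner (τ₁ φ) α = 0 := by
    intro φ hφ α hα
    have hφS : φ ∈ S := hS₁ hφ
    have hcφ : Cfsg.conjFun φ ∈ S₁ := hS₁c φ hφ
    have hdiff : φ - Cfsg.conjFun φ ∈ zspanOn (↑S₁ : Set (L → ℂ)) {1}ᶜ :=
      Cfsg.Agent.Char.Coh.sub_mem hφ hcφ (Cfsg.Agent.Char.Coh.conjFun_one hS hφS).symm
    obtain ⟨A, hA, -, hτA⟩ := (Cfsg.Agent.Char.Coh.projection_bound (R φ) (hS.virtual φ hφS)
      (fun α hα β hβ h => by rw [hS.orthonormal φ hφS α hα β hβ, if_neg h])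
      (fun α hα => by rw [hS.orthonormal φ hφS α hα α hα, if_pos rfl]) (τ₁ φ) (n φ)
      (fun α hα => Cfsg.Agent.Char.IsGenChar.classInner_int (hτ₁.2.2.2 _ (hmem φ hφ)) (hS.virtual φ hφS α hα))
      (by rw [← hS.sum_eq φ hφS, ← hagree _ hdiff, hτ₁.2.2.1 _ (hmem φ hφ) _ hdiff.1,
        Cfsg.Agent.Char.classInner_sub_right, hn φ hφS,
        hS.orthogonal φ hφS _ (hS₁ hcφ) (hS.conj_ne φ hφS).symm, sub_zero])).2
      (by rw [hτ₁.2.2.1 _ (hmem φ hφ) _ (hmem φ hφ), hn φ hφS])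
    rw [hτA, Cfsg.Agent.Char.classInner_sum_left]
    refine Finset.sum_eq_zero fun β hβ => hS.disjoint χ hχ φ hφS ?_ ?_ β (hA hβ) α hα
    · exact hS.orthogonal φ hφS χ hχ fun e => hχ₁' (e ▸ hφ)
    · exact hS.orthogonal φ hφS _ hc fun e => hχ₂ (e ▸ hφ)
  have hperp' : ∀ φ ∈ S₁, ∀ α ∈ R χ, classInner α (τ₁ φ) = 0 := fun φ hφ α hα => by
    rw [← Cfsg.Agent.Char.classInner_conj_symm, hperp φ hφ α hα, map_zero]
  obtain ⟨a, ha⟩ := hdvd
  set β : L → ℂ := χ - (a : ℤ) • χ₁ with hβdef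
  have hβ : β ∈ zspanOn S {1}ᶜ := Cfsg.Agent.Char.Coh.mem_zspanOn_one
    (Submodule.sub_mem _ (Submodule.subset_span hχ) (Submodule.smul_mem _ _ (Submodule.subset_span hχ₁)))
    (by rw [hβdef, ← Int.cast_smul_eq_zsmul ℂ, Pi.sub_apply, Pi.smul_apply, smul_eq_mul, hd χ hχ, hd χ₁ hχ₁, ha]; push_cast; ring)
  set D := τ β with hD
  have hDgen : IsGeneralizedCharacter G D := hS.isometry.2.2.2 β hβ
  have hne1 : χ₁ ≠ χ := fun e => hχ₁' (e ▸ hχ₁S)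
  have hne2 : χ₁ ≠ Cfsg.conjFun χ := fun e => hχ₂ (e ▸ hχ₁S)
  choose! c hcD using fun φ (hφ : φ ∈ S₁) =>
    Cfsg.Agent.Char.IsGenChar.classInner_int hDgen (hτ₁.2.2.2 _ (hmem φ hφ))
  set b : ℤ := c χ₁ + (a : ℤ) * n χ₁ with hb
  have hrel : ∀ φ ∈ S₁, φ ≠ χ₁ → c φ * (d χ₁ : ℤ) = (d φ : ℤ) * b := by
    intro φ hφ hφne
    have he : (d χ₁ : ℤ) • φ - (d φ : ℤ) • χ₁ ∈ zspanOn (↑S₁ : Set (L → ℂ)) {1}ᶜ :=
      Cfsg.Agent.Char.Coh.mem_zspanOn_one (Submodule.sub_mem _ (Submodule.smul_mem _ _ (hmem φ hφ))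
        (Submodule.smul_mem _ _ (hmem χ₁ hχ₁S)))
        (by simp only [← Int.cast_smul_eq_zsmul ℂ, Pi.sub_apply, Pi.smul_apply, smul_eq_mul, hd φ (hS₁ hφ), hd χ₁ hχ₁]
            push_cast; ring)
    have h := hS.isometry.2.2.1 β hβ _ (hsubS _ he)
    rw [← hagree _ he, ← hD, sub_eq_add_neg, ← neg_smul,
      hτ₁.1 _ (Submodule.smul_mem _ _ (hmem φ hφ)) _ (Submodule.smul_mem _ _ (hmem χ₁ hχ₁S)),
      hτ₁.2.1 _ (hmem φ hφ), hτ₁.2.1 _ (hmem χ₁ hχ₁S)] at h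
    simp only [hβdef, ← Int.cast_smul_eq_zsmul ℂ, Cfsg.Agent.Char.classInner_sub_left,
      Cfsg.Agent.Char.classInner_add_right, Cfsg.Agent.Char.classInner_smul_right,
      Cfsg.Agent.Char.classInner_smul_left, map_intCast, hcD φ hφ, hcD χ₁ hχ₁S] at h
    rw [hS.orthogonal χ hχ φ (hS₁ hφ) (fun e => hχ₁' (e ▸ hφ)),
      hS.orthogonal χ hχ χ₁ hχ₁ hne1.symm,
      hS.orthogonal χ₁ hχ₁ φ (hS₁ hφ) (Ne.symm hφne), hn χ₁ hχ₁] at h
    have h' : ((c φ * d χ₁ : ℤ) : ℂ) = (((d φ : ℤ) * b : ℤ) : ℂ) := by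
      rw [hb]; push_cast at h ⊢; linear_combination h
    exact_mod_cast h'
  have hDsum : classInner D (∑ α ∈ R χ, α) = (n χ : ℂ) := by
    rw [← hS.sum_eq χ hχ, hD, hS.isometry.2.2.1 β hβ _
      (Cfsg.Agent.Char.Coh.sub_mem hχ hc (Cfsg.Agent.Char.Coh.conjFun_one hS hχ).symm)]
    simp only [hβdef, ← Int.cast_smul_eq_zsmul ℂ, Cfsg.Agent.Char.classInner_sub_right,
      Cfsg.Agent.Char.classInner_sub_left, Cfsg.Agent.Char.classInner_smul_left, hn χ hχ,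
      hS.orthogonal χ hχ _ hc hχne.symm, hS.orthogonal χ₁ hχ₁ χ hχ hne1,
      hS.orthogonal χ₁ hχ₁ _ hc hne2]
    ring
  have hDD : classInner D D = (n χ : ℂ) + (a : ℂ) ^ 2 * (n χ₁ : ℂ) := by
    rw [hD, hS.isometry.2.2.1 β hβ β hβ]
    simp only [hβdef, ← Int.cast_smul_eq_zsmul ℂ, Cfsg.Agent.Char.classInner_sub_right,
      Cfsg.Agent.Char.classInner_sub_left, Cfsg.Agent.Char.classInner_smul_left,
      Cfsg.Agent.Char.classInner_smul_right, map_intCast, hn χ hχ, hn χ₁ hχ₁,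
      hS.orthogonal χ hχ χ₁ hχ₁ hne1.symm, hS.orthogonal χ₁ hχ₁ χ hχ hne1]
    push_cast; ring
  have hRgen : IsGeneralizedCharacter G (∑ α ∈ R χ, α) :=
    Cfsg.Agent.Char.IsGenChar.sum (hS.virtual χ hχ)
  -- the coefficients on S₁
  set P : G → ℂ := ∑ φ ∈ S₁, ((c φ : ℂ) / (n φ : ℂ)) • τ₁ φ with hP
  have hPα : ∀ α ∈ R χ, classInner P α = 0 := fun α hα => by
    rw [hP, Cfsg.Agent.Char.classInner_sum_left]
    exact Finset.sum_eq_zero fun φ hφ => by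
      rw [Cfsg.Agent.Char.classInner_smul_left, hperp φ hφ α hα, mul_zero]
  have hPφ : ∀ φ ∈ S₁, classInner P (τ₁ φ) = (c φ : ℂ) := fun φ hφ => by
    rw [hP, Cfsg.Agent.Char.classInner_sum_left, Finset.sum_eq_single φ
      (fun ψ hψ h => by rw [Cfsg.Agent.Char.classInner_smul_left, hτ₁.2.2.1 _ (hmem ψ hψ) _ (hmem φ hφ),
        hS.orthogonal ψ (hS₁ hψ) φ (hS₁ hφ) h, mul_zero])
      (fun h => absurd hφ h), Cfsg.Agent.Char.classInner_smul_left,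
      hτ₁.2.2.1 _ (hmem φ hφ) _ (hmem φ hφ), hn φ (hS₁ hφ)]
    exact div_mul_cancel₀ _ (Nat.cast_ne_zero.2 (hnpos φ (hS₁ hφ)))
  have hWle : (n χ : ℝ) ≤ (classInner (D - P) (D - P)).re :=
    (Cfsg.Agent.Char.Coh.projection_bound (R χ) (hS.virtual χ hχ)
      (fun α hα β hβ h => by rw [hS.orthonormal χ hχ α hα β hβ, if_neg h])
      (fun α hα => by rw [hS.orthonormal χ hχ α hα α hα, if_pos rfl]) (D - P) (n χ)
      (fun α hα => by
        rw [Cfsg.Agent.Char.classInner_sub_left, hPα α hα, sub_zero]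
        exact Cfsg.Agent.Char.IsGenChar.classInner_int hDgen (hS.virtual χ hχ α hα))
      (by rw [Cfsg.Agent.Char.classInner_sub_left, hDsum, Cfsg.Agent.Char.classInner_sum_right,
        Finset.sum_eq_zero hPα, sub_zero])).1
  have hsum : ∑ φ ∈ S₁, (c φ : ℝ) ^ 2 / (n φ : ℝ) ≤ (a : ℝ) ^ 2 * (n χ₁ : ℝ) := by
    have hDP : classInner D P = ((∑ φ ∈ S₁, (c φ : ℝ) ^ 2 / (n φ : ℝ) : ℝ) : ℂ) := by
      rw [hP, Cfsg.Agent.Char.classInner_sum_right, Complex.ofReal_sum]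
      refine Finset.sum_congr rfl fun φ hφ => ?_
      rw [Cfsg.Agent.Char.classInner_smul_right, hcD φ hφ, map_div₀, map_intCast, map_natCast]
      push_cast; ring
    have hPP : classInner P P = ((∑ φ ∈ S₁, (c φ : ℝ) ^ 2 / (n φ : ℝ) : ℝ) : ℂ) := by
      conv_lhs => arg 2; rw [hP]
      rw [Cfsg.Agent.Char.classInner_sum_right, Complex.ofReal_sum]
      refine Finset.sum_congr rfl fun φ hφ => ?_
      rw [Cfsg.Agent.Char.classInner_smul_right, hPφ φ hφ, map_div₀, map_intCast, map_natCast]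
      push_cast; ring
    rw [Cfsg.Agent.Char.classInner_sub_left, Cfsg.Agent.Char.classInner_sub_right,
      Cfsg.Agent.Char.classInner_sub_right, ← Cfsg.Agent.Char.classInner_conj_symm D P, hDP, hPP,
      hDD, Complex.conj_ofReal] at hWle
    have e : ((n χ : ℂ) + (a : ℂ) ^ 2 * (n χ₁ : ℂ)) = (((n χ : ℝ) + (a : ℝ) ^ 2 * (n χ₁ : ℝ) : ℝ) : ℂ) := by
      push_cast; ring
    rw [e] at hWle
    simp only [Complex.sub_re, Complex.ofReal_re] at hWle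
    linarith
  have hb0 : b = 0 := by
    by_contra hb0
    set Q : ℝ := ∑ φ ∈ S₁, ((d φ : ℝ) ^ 2 / (n φ : ℝ)) with hQ
    have hn1 : (n χ₁ : ℝ) ≠ 0 := Nat.cast_ne_zero.2 (hnpos χ₁ hχ₁)
    have key : (d χ₁ : ℝ) ^ 2 * ∑ φ ∈ S₁, (c φ : ℝ) ^ 2 / (n φ : ℝ) =
        (b : ℝ) ^ 2 * Q + (d χ₁ : ℝ) ^ 2 * ((a : ℝ) ^ 2 * n χ₁ - 2 * a * b) := by
      rw [hQ, Finset.mul_sum, Finset.mul_sum, ← Finset.add_sum_erase _ _ hχ₁S,
        ← Finset.add_sum_erase _ _ hχ₁S,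
        Finset.sum_congr rfl (g := fun φ => (b : ℝ) ^ 2 * ((d φ : ℝ) ^ 2 / (n φ : ℝ))) fun φ hφ => by
          have h : (c φ : ℝ) * (d χ₁ : ℝ) = (d φ : ℝ) * (b : ℝ) := by
            exact_mod_cast hrel φ (Finset.mem_of_mem_erase hφ) (Finset.ne_of_mem_erase hφ)
          rw [← mul_div_assoc, ← mul_div_assoc, ← mul_pow, mul_comm (d χ₁ : ℝ), h, mul_pow, mul_comm]]
      rw [hb]; push_cast; field_simp; ring
    have hle : (b : ℝ) ^ 2 * Q ≤ 2 * a * (d χ₁ : ℝ) ^ 2 * b := by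
      have := mul_le_mul_of_nonneg_left hsum (sq_nonneg (d χ₁ : ℝ))
      rw [key] at this
      linarith
    have hlt : 2 * (a : ℝ) * (d χ₁ : ℝ) ^ 2 < Q := by
      have : (d χ : ℝ) = (d χ₁ : ℝ) * a := by exact_mod_cast ha
      rw [this] at hineq
      linarith
    have hQ0 : 0 < Q := lt_of_le_of_lt (by positivity) hlt
    have hb2 : (0 : ℝ) < (b : ℝ) ^ 2 := by positivity
    have hbpos : (0 : ℝ) < b := by
      by_contra hneg
      have h1 : 2 * (a : ℝ) * (d χ₁ : ℝ) ^ 2 * b ≤ 0 :=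
        mul_nonpos_of_nonneg_of_nonpos (by positivity) (not_lt.1 hneg)
      have h2 : 0 < (b : ℝ) ^ 2 * Q := mul_pos hb2 hQ0
      linarith
    have hb1 : (1 : ℝ) ≤ b := by
      have : (0 : ℤ) < b := by exact_mod_cast hbpos
      exact_mod_cast this
    have h3 : (b : ℝ) * Q ≤ (b : ℝ) ^ 2 * Q :=
      mul_le_mul_of_nonneg_right (le_self_pow₀ hb1 (by norm_num)) hQ0.le
    have h4 : 2 * (a : ℝ) * (d χ₁ : ℝ) ^ 2 * b < Q * b := mul_lt_mul_of_pos_right hlt hbpos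
    linarith
  have hc1 : c χ₁ = -((a : ℤ) * n χ₁) := by omega
  obtain ⟨A, hA, hAcard, hDA⟩ := (Cfsg.Agent.Char.Coh.projection_bound (R χ) (hS.virtual χ hχ)
      (fun α hα β hβ h => by rw [hS.orthonormal χ hχ α hα β hβ, if_neg h])
      (fun α hα => by rw [hS.orthonormal χ hχ α hα α hα, if_pos rfl]) (D + (a : ℂ) • τ₁ χ₁) (n χ)
      (fun α hα => by
        rw [Cfsg.Agent.Char.classInner_add_left, Cfsg.Agent.Char.classInner_smul_left,
          hperp χ₁ hχ₁S α hα, mul_zero, add_zero]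
        exact Cfsg.Agent.Char.IsGenChar.classInner_int hDgen (hS.virtual χ hχ α hα))
      (by rw [Cfsg.Agent.Char.classInner_add_left, hDsum, Cfsg.Agent.Char.classInner_smul_left,
        Cfsg.Agent.Char.classInner_sum_right, Finset.sum_eq_zero (hperp χ₁ hχ₁S), mul_zero,
        add_zero])).2 (by
      simp only [Cfsg.Agent.Char.classInner_add_left, Cfsg.Agent.Char.classInner_add_right,
        Cfsg.Agent.Char.classInner_smul_left, Cfsg.Agent.Char.classInner_smul_right, map_natCast,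
        ← Cfsg.Agent.Char.classInner_conj_symm D (τ₁ χ₁), hcD χ₁ hχ₁S, hDD,
        hτ₁.2.2.1 _ (hmem χ₁ hχ₁S) _ (hmem χ₁ hχ₁S), hn χ₁ hχ₁, hc1, map_intCast]
      push_cast; ring)
  set X : G → ℂ := ∑ α ∈ A, α with hX
  set T : G → ℂ := ∑ α ∈ R χ, α with hT
  have hXgen : IsGeneralizedCharacter G X :=
    Cfsg.Agent.Char.IsGenChar.sum fun α hα => hS.virtual χ hχ α (hA hα)
  have hXX : classInner X X = (n χ : ℂ) := by
    rw [Cfsg.Agent.Char.Coh.inner_sum_self hS hχ A hA, hAcard]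
  have hXT : classInner X T = (n χ : ℂ) := by
    rw [← hDA, Cfsg.Agent.Char.classInner_add_left, hDsum, Cfsg.Agent.Char.classInner_smul_left,
      hT, Cfsg.Agent.Char.classInner_sum_right, Finset.sum_eq_zero (hperp χ₁ hχ₁S), mul_zero,
      add_zero]
  have hTX : classInner T X = (n χ : ℂ) := by
    rw [← Cfsg.Agent.Char.classInner_conj_symm, hXT, map_natCast]
  have hTT : classInner T T = 2 * (n χ : ℂ) := by
    rw [hT, Cfsg.Agent.Char.Coh.inner_sum_self hS hχ _ subset_rfl,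
      Cfsg.Agent.Char.Coh.card_R hS hχ (hn χ hχ)]
    push_cast; ring
  have hXφ : ∀ φ ∈ S₁, classInner (τ₁ φ) X = 0 := fun φ hφ => by
    rw [hX, Cfsg.Agent.Char.classInner_sum_right]
    exact Finset.sum_eq_zero fun α hα => hperp φ hφ α (hA hα)
  have hTφ : ∀ φ ∈ S₁, classInner (τ₁ φ) T = 0 := fun φ hφ => by
    rw [hT, Cfsg.Agent.Char.classInner_sum_right]
    exact Finset.sum_eq_zero fun α hα => hperp φ hφ α hα
  let U : Finset (L → ℂ) := insert χ (insert (Cfsg.conjFun χ) S₁)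
  let f : (L → ℂ) → (G → ℂ) := fun u => if u = χ then X else if u = Cfsg.conjFun χ then X - T else τ₁ u
  have hU : (↑U : Set (L → ℂ)) = ↑S₁ ∪ {χ, Cfsg.conjFun χ} := by
    ext u; simp only [U, Finset.coe_insert, Set.mem_insert_iff, Set.mem_union, Set.mem_singleton_iff,
      Finset.mem_coe]; tauto
  have hUS : ∀ u ∈ U, u ∈ S := fun u hu => by
    rcases Finset.mem_insert.1 hu with rfl | hu
    · exact hχ
    rcases Finset.mem_insert.1 hu with rfl | hu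
    · exact hc
    · exact hS₁ hu
  have fχ : f χ = X := if_pos rfl
  have fc : f (Cfsg.conjFun χ) = X - T := by simp only [f, if_neg hχne, if_pos]
  have fφ : ∀ φ ∈ S₁, f φ = τ₁ φ := fun φ hφ => by
    simp only [f, if_neg (fun e : φ = χ => hχ₁' (e ▸ hφ)), if_neg (fun e : φ = Cfsg.conjFun χ => hχ₂ (e ▸ hφ))]
  have hfgen : ∀ u ∈ U, IsGeneralizedCharacter G (f u) := by
    intro u hu
    rcases Finset.mem_insert.1 hu with rfl | hu
    · rw [fχ]; exact hXgen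
    rcases Finset.mem_insert.1 hu with rfl | hu
    · rw [fc]; exact Cfsg.Agent.Char.IsGenChar.sub hXgen hRgen
    · rw [fφ u hu]; exact hτ₁.2.2.2 _ (hmem u hu)
  have hhalf : ∀ φ ∈ S₁, classInner (f φ) (f χ) = classInner φ χ ∧
      classInner (f φ) (f (Cfsg.conjFun χ)) = classInner φ (Cfsg.conjFun χ) := fun φ hφ => by
    rw [fχ, fc, fφ φ hφ, Cfsg.Agent.Char.classInner_sub_right, hXφ φ hφ, hTφ φ hφ,
      hS.orthogonal φ (hS₁ hφ) χ hχ (fun e => hχ₁' (e ▸ hφ)),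
      hS.orthogonal φ (hS₁ hφ) _ hc (fun e => hχ₂ (e ▸ hφ))]
    exact ⟨rfl, sub_zero 0⟩
  have hgram : ∀ u ∈ U, ∀ v ∈ U, classInner (f u) (f v) = classInner u v := by
    have g1 : classInner (f χ) (f χ) = classInner χ χ := by rw [fχ, hXX, hn χ hχ]
    have g2 : classInner (f χ) (f (Cfsg.conjFun χ)) = classInner χ (Cfsg.conjFun χ) := by
      rw [fχ, fc, Cfsg.Agent.Char.classInner_sub_right, hXX, hXT, sub_self,
        hS.orthogonal χ hχ _ hc hχne.symm]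
    have g3 : classInner (f (Cfsg.conjFun χ)) (f (Cfsg.conjFun χ)) =
        classInner (Cfsg.conjFun χ) (Cfsg.conjFun χ) := by
      rw [fc, Cfsg.Agent.Char.classInner_sub_left, Cfsg.Agent.Char.classInner_sub_right,
        Cfsg.Agent.Char.classInner_sub_right, hXX, hXT, hTX, hTT,
        Cfsg.Agent.Char.Coh.classInner_conjFun_self, hn χ hχ]
      ring
    have sw : ∀ u v, classInner (f u) (f v) = classInner u v → classInner (f v) (f u) = classInner v u :=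
      fun u v h => by
        rw [← Cfsg.Agent.Char.classInner_conj_symm (f u), h, Cfsg.Agent.Char.classInner_conj_symm]
    intro u hu v hv
    rcases Finset.mem_insert.1 hu with e | hu
    · rcases Finset.mem_insert.1 hv with e' | hv
      · rw [e, e']; exact g1
      rcases Finset.mem_insert.1 hv with e' | hv
      · rw [e, e']; exact g2
      · rw [e]; exact sw _ _ (hhalf v hv).1
    rcases Finset.mem_insert.1 hu with e | hu
    · rcases Finset.mem_insert.1 hv with e' | hv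
      · rw [e, e']; exact sw _ _ g2
      rcases Finset.mem_insert.1 hv with e' | hv
      · rw [e, e']; exact g3
      · rw [e]; exact sw _ _ (hhalf v hv).2
    · rcases Finset.mem_insert.1 hv with e' | hv
      · rw [e']; exact (hhalf u hu).1
      rcases Finset.mem_insert.1 hv with e' | hv
      · rw [e']; exact (hhalf u hu).2
      · rw [fφ u hu, fφ v hv, hτ₁.2.2.1 _ (hmem u hu) _ (hmem v hv)]
  obtain ⟨τ₂, hτ₂, hval⟩ := Cfsg.Agent.Char.Coh.exists_isometry U f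
    (fun u hu v hv => hS.orthogonal u (hUS u hu) v (hUS v hv))
    (fun u hu => by rw [hn u (hUS u hu)]; exact Nat.cast_ne_zero.2 (hnpos u (hUS u hu)))
    hgram hfgen
  rw [← hU]
  have hχU : χ ∈ U := Finset.mem_insert_self _ _
  have hcU : Cfsg.conjFun χ ∈ U := Finset.mem_insert_of_mem (Finset.mem_insert_self _ _)
  have hS₁U : ∀ φ ∈ S₁, φ ∈ U := fun φ hφ => Finset.mem_insert_of_mem (Finset.mem_insert_of_mem hφ)
  refine ⟨⟨χ - Cfsg.conjFun χ, Cfsg.Agent.Char.Coh.sub_mem hχU hcU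
    (Cfsg.Agent.Char.Coh.conjFun_one hS hχ).symm, sub_ne_zero.2 hχne.symm⟩, τ₂, hτ₂, ?_⟩
  refine Cfsg.Agent.Char.Coh.agree_of_generators U d (fun u hu => hd u (hUS u hu)) (hS₁U χ₁ hχ₁S) hd1
    ⟨fun x hx y hy => hS.isometry.1 x ⟨Submodule.span_mono hUS hx.1, hx.2⟩ y
        ⟨Submodule.span_mono hUS hy.1, hy.2⟩,
      fun x hx => hS.isometry.2.1 x ⟨Submodule.span_mono hUS hx.1, hx.2⟩,
      fun x hx y hy => hS.isometry.2.2.1 x ⟨Submodule.span_mono hUS hx.1, hx.2⟩ y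
        ⟨Submodule.span_mono hUS hy.1, hy.2⟩,
      fun x hx => hS.isometry.2.2.2 x ⟨Submodule.span_mono hUS hx.1, hx.2⟩⟩ hτ₂ ?_
  intro u hu
  have hu' : u ∈ zspan (↑U : Set (L → ℂ)) := Submodule.subset_span hu
  have h₁' : χ₁ ∈ zspan (↑U : Set (L → ℂ)) := Submodule.subset_span (hS₁U χ₁ hχ₁S)
  rw [sub_eq_add_neg, ← neg_smul, hτ₂.1 _ (Submodule.smul_mem _ _ hu') _ (Submodule.smul_mem _ _ h₁'),
    hτ₂.2.1 _ hu', hτ₂.2.1 _ h₁', hval u hu, hval χ₁ (hS₁U χ₁ hχ₁S), fφ χ₁ hχ₁S]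
  have hDX : D = X - (a : ℤ) • τ₁ χ₁ := by
    rw [← Int.cast_smul_eq_zsmul ℂ, Int.cast_natCast, ← hDA]; abel
  rcases Finset.mem_insert.1 hu with eu | hu
  · subst eu
    have e : (d χ₁ : ℤ) • u + (-(d u : ℤ)) • χ₁ = (d χ₁ : ℤ) • β := by
      rw [hβdef, ha, smul_sub, smul_smul, neg_smul, ← sub_eq_add_neg]; push_cast; rfl
    rw [e, hS.isometry.2.1 β hβ, ← hD, hDX, fχ, smul_sub, smul_smul, ha, neg_smul, ← sub_eq_add_neg]
    push_cast; rfl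
  rcases Finset.mem_insert.1 hu with eu | hu
  · rw [eu]
    have hdiff := Cfsg.Agent.Char.Coh.sub_mem hχ hc (Cfsg.Agent.Char.Coh.conjFun_one hS hχ).symm
    have e : (d χ₁ : ℤ) • Cfsg.conjFun χ + (-(d (Cfsg.conjFun χ) : ℤ)) • χ₁ =
        (d χ₁ : ℤ) • β + (-(d χ₁ : ℤ)) • (χ - Cfsg.conjFun χ) := by
      rw [hdc χ hχ, hβdef, ha]; push_cast; module
    rw [e, hS.isometry.1 _ (Cfsg.Agent.Char.Coh.zspanOn_zsmul hβ _) _
        (Cfsg.Agent.Char.Coh.zspanOn_zsmul hdiff _), hS.isometry.2.1 β hβ, hS.isometry.2.1 _ hdiff,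
      hS.sum_eq χ hχ, ← hD, hDX, fc, hdc χ hχ, ha, ← hT]
    push_cast; module
  · rw [fφ u hu]
    have he : (d χ₁ : ℤ) • u + (-(d u : ℤ)) • χ₁ ∈ zspanOn (↑S₁ : Set (L → ℂ)) {1}ᶜ :=
      Cfsg.Agent.Char.Coh.mem_zspanOn_one (Submodule.add_mem _ (Submodule.smul_mem _ _ (hmem u hu))
        (Submodule.smul_mem _ _ (hmem χ₁ hχ₁S)))
        (by simp only [← Int.cast_smul_eq_zsmul ℂ, Pi.add_apply, Pi.smul_apply, smul_eq_mul, hd u (hS₁ hu), hd χ₁ hχ₁]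
            push_cast; ring)
    rw [← hagree _ he, hτ₁.1 _ (Submodule.smul_mem _ _ (hmem u hu)) _
      (Submodule.smul_mem _ _ (hmem χ₁ hχ₁S)), hτ₁.2.1 _ (hmem u hu), hτ₁.2.1 _ (hmem χ₁ hχ₁S)]

end Cfsg.Agent.S1516
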