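import Cfsg.Statements.S0496
import Cfsg.Agent.Lib.Fus.SmallOrders
-- import your own Cfsg.Agent.* helpers here

set_option autoImplicit false
set_option maxHeartbeats 4000000
open Cfsg

namespace Cfsg.Agent.S0496

/-- A non-abelian finite simple group of order at most 1092 has order 60, 168, 360, 504, 660 or 1092. -/
theorem result {G : Type*} [Group G] [Finite G] [IsSimpleGroup G]
    (hG : ¬ IsMulCommutative G) (h : Nat.card G ≤ 1092) :
    Nat.card G = 60 ∨ Nat.card G = 168 ∨ Nat.card G = 360 ∨ Nat.card G = 504 ∨ Nat.card G = 660 ∨
      Nat.card G = 1092 := by
  have hna := hG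
  by_cases h2 : 2 ∣ Nat.card G
  swap
  · obtain ⟨p, hp, hp2, ⟨c, hc⟩, hmin⟩ := Fus.SmallOrd.odd_cube hna h2
    have hpos : 0 < Nat.card G := Nat.card_pos
    have hc0 : 1 ≤ c := Nat.one_le_iff_ne_zero.2 fun e => by rw [e, mul_zero] at hc; omega
    have hp11 : p ≤ 10 := by
      by_contra hh
      have := Nat.pow_le_pow_left (show 11 ≤ p by omega) 3
      nlinarith
    obtain rfl | hp5 : p = 3 ∨ 5 ≤ p := by
      have := hp.two_le
      interval_cases p <;> first | omega | (norm_num at hp; done)
    swap
    · have hc9 : c ≤ 8 := by
        have := Nat.pow_le_pow_left hp5 3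
        nlinarith
      have hq : c = 1 ∨ c.Prime := by
        interval_cases c <;> first
          | (norm_num; done)
          | omega
          | exact absurd (hmin 2 Nat.prime_two (hc ▸ Dvd.dvd.mul_left (by norm_num) _)) (by omega)
          | exact absurd (hmin 3 Nat.prime_three (hc ▸ Dvd.dvd.mul_left (by norm_num) _)) (by omega)
      rcases hq with rfl | hq
      · exact False.elim (Fus.SmallOrd.two_primes hna hp Nat.prime_two (a := 3) (b := 0) (by rw [hc]; ring))
      · exact False.elim (Fus.SmallOrd.two_primes hna hp hq (a := 3) (b := 1) (by rw [hc]; ring))
    have hcb : c ≤ 40 := by omega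
    interval_cases c
    · exact False.elim (Fus.SmallOrd.two_primes hna (p := 3) (q := 5) (a := 3) (b := 0) (by norm_num) (by norm_num) (by rw [hc]; norm_num))
    · omega
    · exact False.elim (Fus.SmallOrd.two_primes hna (p := 3) (q := 5) (a := 4) (b := 0) (by norm_num) (by norm_num) (by rw [hc]; norm_num))
    · omega
    · exact False.elim (Fus.SmallOrd.two_primes hna (p := 3) (q := 5) (a := 3) (b := 1) (by norm_num) (by norm_num) (by rw [hc]; norm_num))
    · omega
    · exact False.elim (Fus.SmallOrd.two_primes hna (p := 3) (q := 7) (a := 3) (b := 1) (by norm_num) (by norm_num) (by rw [hc]; norm_num))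
    · omega
    · exact False.elim (Fus.SmallOrd.two_primes hna (p := 3) (q := 5) (a := 5) (b := 0) (by norm_num) (by norm_num) (by rw [hc]; norm_num))
    · omega
    · exact False.elim (Fus.SmallOrd.two_primes hna (p := 3) (q := 11) (a := 3) (b := 1) (by norm_num) (by norm_num) (by rw [hc]; norm_num))
    · omega
    · exact False.elim (Fus.SmallOrd.two_primes hna (p := 3) (q := 13) (a := 3) (b := 1) (by norm_num) (by norm_num) (by rw [hc]; norm_num))
    · omega
    · exact False.elim (Fus.SmallOrd.two_primes hna (p := 3) (q := 5) (a := 4) (b := 1) (by norm_num) (by norm_num) (by rw [hc]; norm_num))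
    · omega
    · exact False.elim (Fus.SmallOrd.two_primes hna (p := 3) (q := 17) (a := 3) (b := 1) (by norm_num) (by norm_num) (by rw [hc]; norm_num))
    · omega
    · exact False.elim (Fus.SmallOrd.two_primes hna (p := 3) (q := 19) (a := 3) (b := 1) (by norm_num) (by norm_num) (by rw [hc]; norm_num))
    · omega
    · exact False.elim (Fus.SmallOrd.two_primes hna (p := 3) (q := 7) (a := 4) (b := 1) (by norm_num) (by norm_num) (by rw [hc]; norm_num))
    · omega
    · exact False.elim (Fus.SmallOrd.two_primes hna (p := 3) (q := 23) (a := 3) (b := 1) (by norm_num) (by norm_num) (by rw [hc]; norm_num))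
    · omega
    · exact False.elim (Fus.SmallOrd.two_primes hna (p := 3) (q := 5) (a := 3) (b := 2) (by norm_num) (by norm_num) (by rw [hc]; norm_num))
    · omega
    · exact False.elim (Fus.SmallOrd.two_primes hna (p := 3) (q := 5) (a := 6) (b := 0) (by norm_num) (by norm_num) (by rw [hc]; norm_num))
    · omega
    · exact False.elim (Fus.SmallOrd.two_primes hna (p := 3) (q := 29) (a := 3) (b := 1) (by norm_num) (by norm_num) (by rw [hc]; norm_num))
    · omega
    · exact False.elim (Fus.SmallOrd.two_primes hna (p := 3) (q := 31) (a := 3) (b := 1) (by norm_num) (by norm_num) (by rw [hc]; norm_num))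
    · omega
    · exact False.elim (Fus.SmallOrd.two_primes hna (p := 3) (q := 11) (a := 4) (b := 1) (by norm_num) (by norm_num) (by rw [hc]; norm_num))
    · omega
    · exact False.elim (Fus.SmallOrd.no_options hna (p := 5) (m := 189) (by norm_num) (by rw [hc]; norm_num) (by norm_num) (by norm_num) (by norm_num) (by decide +kernel))
    · omega
    · exact False.elim (Fus.SmallOrd.two_primes hna (p := 3) (q := 37) (a := 3) (b := 1) (by norm_num) (by norm_num) (by rw [hc]; norm_num))
    · omega
    · exact False.elim (Fus.SmallOrd.two_primes hna (p := 3) (q := 13) (a := 4) (b := 1) (by norm_num) (by norm_num) (by rw [hc]; norm_num))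
    · omega
  have hev : Even (Nat.card G) := even_iff_two_dvd.2 h2
  rcases Fus.even_simple_dvd hna hev with ⟨c, hc⟩ | ⟨c, hc⟩ | ⟨c, hc⟩
  · have hcb : c ≤ 91 := by omega
    interval_cases c
    · exact absurd hc (by have := Nat.card_pos (α := G); omega)
    · have h : Nat.card G = 12 := by omega
      exact False.elim (Fus.SmallOrd.two_primes hna (p := 2) (q := 3) (a := 2) (b := 1) (by norm_num) (by norm_num) (by rw [h]; norm_num))
    · have h : Nat.card G = 24 := by omega
      exact False.elim (Fus.SmallOrd.two_primes hna (p := 2) (q := 3) (a := 3) (b := 1) (by norm_num) (by norm_num) (by rw [h]; norm_num))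
    · have h : Nat.card G = 36 := by omega
      exact False.elim (Fus.SmallOrd.two_primes hna (p := 2) (q := 3) (a := 2) (b := 2) (by norm_num) (by norm_num) (by rw [h]; norm_num))
    · have h : Nat.card G = 48 := by omega
      exact False.elim (Fus.SmallOrd.two_primes hna (p := 2) (q := 3) (a := 4) (b := 1) (by norm_num) (by norm_num) (by rw [h]; norm_num))
    · omega
    · have h : Nat.card G = 72 := by omega
      exact False.elim (Fus.SmallOrd.two_primes hna (p := 2) (q := 3) (a := 3) (b := 2) (by norm_num) (by norm_num) (by rw [h]; norm_num))
    · have h : Nat.card G = 84 := by omega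
      exact False.elim (Fus.SmallOrd.large_prime hna (p := 7) (m := 12) (by norm_num) (by norm_num) (by rw [h]) (by norm_num) (by norm_num))
    · have h : Nat.card G = 96 := by omega
      exact False.elim (Fus.SmallOrd.two_primes hna (p := 2) (q := 3) (a := 5) (b := 1) (by norm_num) (by norm_num) (by rw [h]; norm_num))
    · have h : Nat.card G = 108 := by omega
      exact False.elim (Fus.SmallOrd.two_primes hna (p := 2) (q := 3) (a := 2) (b := 3) (by norm_num) (by norm_num) (by rw [h]; norm_num))
    · have h : Nat.card G = 120 := by omega
      exact False.elim (Fus.SmallOrd.no_sylow_number hna (p := 5) (a := 1) (m := 24) (by norm_num) h (by norm_num) (by norm_num) (by norm_num) (by decide +kernel))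
    · have h : Nat.card G = 132 := by omega
      exact False.elim (Fus.SmallOrd.large_prime hna (p := 11) (m := 12) (by norm_num) (by norm_num) (by rw [h]) (by norm_num) (by norm_num))
    · have h : Nat.card G = 144 := by omega
      exact False.elim (Fus.SmallOrd.two_primes hna (p := 2) (q := 3) (a := 4) (b := 2) (by norm_num) (by norm_num) (by rw [h]; norm_num))
    · have h : Nat.card G = 156 := by omega
      exact False.elim (Fus.SmallOrd.large_prime hna (p := 13) (m := 12) (by norm_num) (by norm_num) (by rw [h]) (by norm_num) (by norm_num))
    · omega
    · have h : Nat.card G = 180 := by omega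
      exact False.elim (Fus.SmallOrd.no_options hna (p := 5) (m := 36) (by norm_num) (by rw [h]) (by norm_num) (by norm_num) (by norm_num) (by decide +kernel))
    · have h : Nat.card G = 192 := by omega
      exact False.elim (Fus.SmallOrd.two_primes hna (p := 2) (q := 3) (a := 6) (b := 1) (by norm_num) (by norm_num) (by rw [h]; norm_num))
    · have h : Nat.card G = 204 := by omega
      exact False.elim (Fus.SmallOrd.large_prime hna (p := 17) (m := 12) (by norm_num) (by norm_num) (by rw [h]) (by norm_num) (by norm_num))
    · have h : Nat.card G = 216 := by omega
      exact False.elim (Fus.SmallOrd.two_primes hna (p := 2) (q := 3) (a := 3) (b := 3) (by norm_num) (by norm_num) (by rw [h]; norm_num))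
    · have h : Nat.card G = 228 := by omega
      exact False.elim (Fus.SmallOrd.large_prime hna (p := 19) (m := 12) (by norm_num) (by norm_num) (by rw [h]) (by norm_num) (by norm_num))
    · have h : Nat.card G = 240 := by omega
      exact False.elim (Fus.SmallOrd.no_options hna (p := 5) (m := 48) (by norm_num) (by rw [h]) (by norm_num) (by norm_num) (by norm_num) (by decide +kernel))
    · have h : Nat.card G = 252 := by omega
      exact False.elim (Fus.SmallOrd.no_options hna (p := 7) (m := 36) (by norm_num) (by rw [h]) (by norm_num) (by norm_num) (by norm_num) (by decide +kernel))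
    · have h : Nat.card G = 264 := by omega
      exact False.elim (Fus.SmallOrd.large_prime hna (p := 11) (m := 24) (by norm_num) (by norm_num) (by rw [h]) (by norm_num) (by norm_num))
    · have h : Nat.card G = 276 := by omega
      exact False.elim (Fus.SmallOrd.large_prime hna (p := 23) (m := 12) (by norm_num) (by norm_num) (by rw [h]) (by norm_num) (by norm_num))
    · have h : Nat.card G = 288 := by omega
      exact False.elim (Fus.SmallOrd.two_primes hna (p := 2) (q := 3) (a := 5) (b := 2) (by norm_num) (by norm_num) (by rw [h]; norm_num))
    · have h : Nat.card G = 300 := by omega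
      exact False.elim (Fus.SmallOrd.no_sylow_number hna (p := 5) (a := 2) (m := 12) (by norm_num) h (by norm_num) (by norm_num) (by norm_num) (by decide +kernel))
    · have h : Nat.card G = 312 := by omega
      exact False.elim (Fus.SmallOrd.large_prime hna (p := 13) (m := 24) (by norm_num) (by norm_num) (by rw [h]) (by norm_num) (by norm_num))
    · have h : Nat.card G = 324 := by omega
      exact False.elim (Fus.SmallOrd.two_primes hna (p := 2) (q := 3) (a := 2) (b := 4) (by norm_num) (by norm_num) (by rw [h]; norm_num))
    · have h : Nat.card G = 336 := by omega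
      exact False.elim (Fus.SmallOrd.no_sylow_number hna (p := 7) (a := 1) (m := 48) (by norm_num) h (by norm_num) (by norm_num) (by norm_num) (by decide +kernel))
    · have h : Nat.card G = 348 := by omega
      exact False.elim (Fus.SmallOrd.large_prime hna (p := 29) (m := 12) (by norm_num) (by norm_num) (by rw [h]) (by norm_num) (by norm_num))
    · omega
    · have h : Nat.card G = 372 := by omega
      exact False.elim (Fus.SmallOrd.large_prime hna (p := 31) (m := 12) (by norm_num) (by norm_num) (by rw [h]) (by norm_num) (by norm_num))
    · have h : Nat.card G = 384 := by omega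
      exact False.elim (Fus.SmallOrd.two_primes hna (p := 2) (q := 3) (a := 7) (b := 1) (by norm_num) (by norm_num) (by rw [h]; norm_num))
    · have h : Nat.card G = 396 := by omega
      exact False.elim (Fus.SmallOrd.large_prime hna (p := 11) (m := 36) (by norm_num) (by norm_num) (by rw [h]) (by norm_num) (by norm_num))
    · have h : Nat.card G = 408 := by omega
      exact False.elim (Fus.SmallOrd.large_prime hna (p := 17) (m := 24) (by norm_num) (by norm_num) (by rw [h]) (by norm_num) (by norm_num))
    · have h : Nat.card G = 420 := by omega
      exact False.elim (Fus.SmallOrd.only_two hna (p := 7) (m := 60) (c := 2) (by norm_num) h (by norm_num) (by norm_num) (by norm_num) (by norm_num) (by decide +kernel) (by norm_num) (by decide +kernel))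
    · have h : Nat.card G = 432 := by omega
      exact False.elim (Fus.SmallOrd.two_primes hna (p := 2) (q := 3) (a := 4) (b := 3) (by norm_num) (by norm_num) (by rw [h]; norm_num))
    · have h : Nat.card G = 444 := by omega
      exact False.elim (Fus.SmallOrd.large_prime hna (p := 37) (m := 12) (by norm_num) (by norm_num) (by rw [h]) (by norm_num) (by norm_num))
    · have h : Nat.card G = 456 := by omega
      exact False.elim (Fus.SmallOrd.large_prime hna (p := 19) (m := 24) (by norm_num) (by norm_num) (by rw [h]) (by norm_num) (by norm_num))
    · have h : Nat.card G = 468 := by omega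
      exact False.elim (Fus.SmallOrd.large_prime hna (p := 13) (m := 36) (by norm_num) (by norm_num) (by rw [h]) (by norm_num) (by norm_num))
    · have h : Nat.card G = 480 := by omega
      exact False.elim (Fus.SmallOrd.only_two hna (p := 5) (m := 96) (c := 3) (by norm_num) h (by norm_num) (by norm_num) (by norm_num) (by norm_num) (by decide +kernel) (by norm_num) (by decide +kernel))
    · have h : Nat.card G = 492 := by omega
      exact False.elim (Fus.SmallOrd.large_prime hna (p := 41) (m := 12) (by norm_num) (by norm_num) (by rw [h]) (by norm_num) (by norm_num))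
    · omega
    · have h : Nat.card G = 516 := by omega
      exact False.elim (Fus.SmallOrd.large_prime hna (p := 43) (m := 12) (by norm_num) (by norm_num) (by rw [h]) (by norm_num) (by norm_num))
    · have h : Nat.card G = 528 := by omega
      exact False.elim (Fus.SmallOrd.large_prime hna (p := 11) (m := 48) (by norm_num) (by norm_num) (by rw [h]) (by norm_num) (by norm_num))
    · have h : Nat.card G = 540 := by omega
      exact False.elim (Fus.SmallOrd.no_options hna (p := 5) (m := 108) (by norm_num) (by rw [h]) (by norm_num) (by norm_num) (by norm_num) (by decide +kernel))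
    · have h : Nat.card G = 552 := by omega
      exact False.elim (Fus.SmallOrd.large_prime hna (p := 23) (m := 24) (by norm_num) (by norm_num) (by rw [h]) (by norm_num) (by norm_num))
    · have h : Nat.card G = 564 := by omega
      exact False.elim (Fus.SmallOrd.large_prime hna (p := 47) (m := 12) (by norm_num) (by norm_num) (by rw [h]) (by norm_num) (by norm_num))
    · have h : Nat.card G = 576 := by omega
      exact False.elim (Fus.SmallOrd.two_primes hna (p := 2) (q := 3) (a := 6) (b := 2) (by norm_num) (by norm_num) (by rw [h]; norm_num))
    · have h : Nat.card G = 588 := by omega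
      exact False.elim (Fus.SmallOrd.no_sylow_number hna (p := 7) (a := 2) (m := 12) (by norm_num) h (by norm_num) (by norm_num) (by norm_num) (by decide +kernel))
    · have h : Nat.card G = 600 := by omega
      exact False.elim (Fus.SmallOrd.no_sylow_number hna (p := 5) (a := 2) (m := 24) (by norm_num) h (by norm_num) (by norm_num) (by norm_num) (by decide +kernel))
    · have h : Nat.card G = 612 := by omega
      exact False.elim (Fus.SmallOrd.large_prime hna (p := 17) (m := 36) (by norm_num) (by norm_num) (by rw [h]) (by norm_num) (by norm_num))
    · have h : Nat.card G = 624 := by omega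
      exact False.elim (Fus.SmallOrd.large_prime hna (p := 13) (m := 48) (by norm_num) (by norm_num) (by rw [h]) (by norm_num) (by norm_num))
    · have h : Nat.card G = 636 := by omega
      exact False.elim (Fus.SmallOrd.large_prime hna (p := 53) (m := 12) (by norm_num) (by norm_num) (by rw [h]) (by norm_num) (by norm_num))
    · have h : Nat.card G = 648 := by omega
      exact False.elim (Fus.SmallOrd.two_primes hna (p := 2) (q := 3) (a := 3) (b := 4) (by norm_num) (by norm_num) (by rw [h]; norm_num))
    · omega
    · have h : Nat.card G = 672 := by omega
      exact False.elim (Fus.SmallOrd.no_sylow_number hna (p := 7) (a := 1) (m := 96) (by norm_num) h (by norm_num) (by norm_num) (by norm_num) (by decide +kernel))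
    · have h : Nat.card G = 684 := by omega
      exact False.elim (Fus.SmallOrd.large_prime hna (p := 19) (m := 36) (by norm_num) (by norm_num) (by rw [h]) (by norm_num) (by norm_num))
    · have h : Nat.card G = 696 := by omega
      exact False.elim (Fus.SmallOrd.large_prime hna (p := 29) (m := 24) (by norm_num) (by norm_num) (by rw [h]) (by norm_num) (by norm_num))
    · have h : Nat.card G = 708 := by omega
      exact False.elim (Fus.SmallOrd.large_prime hna (p := 59) (m := 12) (by norm_num) (by norm_num) (by rw [h]) (by norm_num) (by norm_num))
    · have h : Nat.card G = 720 := by omega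
      exact False.elim (Fus.SmallOrd.ne_720 hna h)
    · have h : Nat.card G = 732 := by omega
      exact False.elim (Fus.SmallOrd.large_prime hna (p := 61) (m := 12) (by norm_num) (by norm_num) (by rw [h]) (by norm_num) (by norm_num))
    · have h : Nat.card G = 744 := by omega
      exact False.elim (Fus.SmallOrd.large_prime hna (p := 31) (m := 24) (by norm_num) (by norm_num) (by rw [h]) (by norm_num) (by norm_num))
    · have h : Nat.card G = 756 := by omega
      exact False.elim (Fus.SmallOrd.ne_756 hna h)
    · have h : Nat.card G = 768 := by omega
      exact False.elim (Fus.SmallOrd.two_primes hna (p := 2) (q := 3) (a := 8) (b := 1) (by norm_num) (by norm_num) (by rw [h]; norm_num))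
    · have h : Nat.card G = 780 := by omega
      exact False.elim (Fus.SmallOrd.large_prime hna (p := 13) (m := 60) (by norm_num) (by norm_num) (by rw [h]) (by norm_num) (by norm_num))
    · have h : Nat.card G = 792 := by omega
      exact False.elim (Fus.SmallOrd.no_sylow_number hna (p := 11) (a := 1) (m := 72) (by norm_num) h (by norm_num) (by norm_num) (by norm_num) (by decide +kernel))
    · have h : Nat.card G = 804 := by omega
      exact False.elim (Fus.SmallOrd.large_prime hna (p := 67) (m := 12) (by norm_num) (by norm_num) (by rw [h]) (by norm_num) (by norm_num))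
    · have h : Nat.card G = 816 := by omega
      exact False.elim (Fus.SmallOrd.large_prime hna (p := 17) (m := 48) (by norm_num) (by norm_num) (by rw [h]) (by norm_num) (by norm_num))
    · have h : Nat.card G = 828 := by omega
      exact False.elim (Fus.SmallOrd.large_prime hna (p := 23) (m := 36) (by norm_num) (by norm_num) (by rw [h]) (by norm_num) (by norm_num))
    · have h : Nat.card G = 840 := by omega
      exact False.elim (Fus.SmallOrd.only_two hna (p := 7) (m := 120) (c := 4) (by norm_num) h (by norm_num) (by norm_num) (by norm_num) (by norm_num) (by decide +kernel) (by norm_num) (by decide +kernel))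
    · have h : Nat.card G = 852 := by omega
      exact False.elim (Fus.SmallOrd.large_prime hna (p := 71) (m := 12) (by norm_num) (by norm_num) (by rw [h]) (by norm_num) (by norm_num))
    · have h : Nat.card G = 864 := by omega
      exact False.elim (Fus.SmallOrd.two_primes hna (p := 2) (q := 3) (a := 5) (b := 3) (by norm_num) (by norm_num) (by rw [h]; norm_num))
    · have h : Nat.card G = 876 := by omega
      exact False.elim (Fus.SmallOrd.large_prime hna (p := 73) (m := 12) (by norm_num) (by norm_num) (by rw [h]) (by norm_num) (by norm_num))
    · have h : Nat.card G = 888 := by omega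
      exact False.elim (Fus.SmallOrd.large_prime hna (p := 37) (m := 24) (by norm_num) (by norm_num) (by rw [h]) (by norm_num) (by norm_num))
    · have h : Nat.card G = 900 := by omega
      exact False.elim (Fus.SmallOrd.ne_900 hna h)
    · have h : Nat.card G = 912 := by omega
      exact False.elim (Fus.SmallOrd.large_prime hna (p := 19) (m := 48) (by norm_num) (by norm_num) (by rw [h]) (by norm_num) (by norm_num))
    · have h : Nat.card G = 924 := by omega
      exact False.elim (Fus.SmallOrd.no_sylow_number hna (p := 11) (a := 1) (m := 84) (by norm_num) h (by norm_num) (by norm_num) (by norm_num) (by decide +kernel))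
    · have h : Nat.card G = 936 := by omega
      exact False.elim (Fus.SmallOrd.large_prime hna (p := 13) (m := 72) (by norm_num) (by norm_num) (by rw [h]) (by norm_num) (by norm_num))
    · have h : Nat.card G = 948 := by omega
      exact False.elim (Fus.SmallOrd.large_prime hna (p := 79) (m := 12) (by norm_num) (by norm_num) (by rw [h]) (by norm_num) (by norm_num))
    · have h : Nat.card G = 960 := by omega
      exact False.elim (Fus.SmallOrd.ne_960 hna h)
    · have h : Nat.card G = 972 := by omega
      exact False.elim (Fus.SmallOrd.two_primes hna (p := 2) (q := 3) (a := 2) (b := 5) (by norm_num) (by norm_num) (by rw [h]; norm_num))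
    · have h : Nat.card G = 984 := by omega
      exact False.elim (Fus.SmallOrd.large_prime hna (p := 41) (m := 24) (by norm_num) (by norm_num) (by rw [h]) (by norm_num) (by norm_num))
    · have h : Nat.card G = 996 := by omega
      exact False.elim (Fus.SmallOrd.large_prime hna (p := 83) (m := 12) (by norm_num) (by norm_num) (by rw [h]) (by norm_num) (by norm_num))
    · have h : Nat.card G = 1008 := by omega
      exact False.elim (Fus.SmallOrd.only_two hna (p := 7) (m := 144) (c := 2) (by norm_num) h (by norm_num) (by norm_num) (by norm_num) (by norm_num) (by decide +kernel) (by norm_num) (by decide +kernel))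
    · have h : Nat.card G = 1020 := by omega
      exact False.elim (Fus.SmallOrd.large_prime hna (p := 17) (m := 60) (by norm_num) (by norm_num) (by rw [h]) (by norm_num) (by norm_num))
    · have h : Nat.card G = 1032 := by omega
      exact False.elim (Fus.SmallOrd.large_prime hna (p := 43) (m := 24) (by norm_num) (by norm_num) (by rw [h]) (by norm_num) (by norm_num))
    · have h : Nat.card G = 1044 := by omega
      exact False.elim (Fus.SmallOrd.large_prime hna (p := 29) (m := 36) (by norm_num) (by norm_num) (by rw [h]) (by norm_num) (by norm_num))
    · have h : Nat.card G = 1056 := by omega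
      exact False.elim (Fus.SmallOrd.no_sylow_number hna (p := 11) (a := 1) (m := 96) (by norm_num) h (by norm_num) (by norm_num) (by norm_num) (by decide +kernel))
    · have h : Nat.card G = 1068 := by omega
      exact False.elim (Fus.SmallOrd.large_prime hna (p := 89) (m := 12) (by norm_num) (by norm_num) (by rw [h]) (by norm_num) (by norm_num))
    · have h : Nat.card G = 1080 := by omega
      exact False.elim (Fus.SmallOrd.only_two hna (p := 5) (m := 216) (c := 3) (by norm_num) h (by norm_num) (by norm_num) (by norm_num) (by norm_num) (by decide +kernel) (by norm_num) (by decide +kernel))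
    · omega
  · have hcb : c ≤ 68 := by omega
    interval_cases c
    · exact absurd hc (by have := Nat.card_pos (α := G); omega)
    · have h : Nat.card G = 16 := by omega
      exact False.elim (Fus.SmallOrd.two_primes hna (p := 2) (q := 3) (a := 4) (b := 0) (by norm_num) (by norm_num) (by rw [h]; norm_num))
    · have h : Nat.card G = 32 := by omega
      exact False.elim (Fus.SmallOrd.two_primes hna (p := 2) (q := 3) (a := 5) (b := 0) (by norm_num) (by norm_num) (by rw [h]; norm_num))
    · have h : Nat.card G = 48 := by omega
      exact False.elim (Fus.SmallOrd.two_primes hna (p := 2) (q := 3) (a := 4) (b := 1) (by norm_num) (by norm_num) (by rw [h]; norm_num))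
    · have h : Nat.card G = 64 := by omega
      exact False.elim (Fus.SmallOrd.two_primes hna (p := 2) (q := 3) (a := 6) (b := 0) (by norm_num) (by norm_num) (by rw [h]; norm_num))
    · have h : Nat.card G = 80 := by omega
      exact False.elim (Fus.SmallOrd.two_primes hna (p := 2) (q := 5) (a := 4) (b := 1) (by norm_num) (by norm_num) (by rw [h]; norm_num))
    · have h : Nat.card G = 96 := by omega
      exact False.elim (Fus.SmallOrd.two_primes hna (p := 2) (q := 3) (a := 5) (b := 1) (by norm_num) (by norm_num) (by rw [h]; norm_num))
    · have h : Nat.card G = 112 := by omega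
      exact False.elim (Fus.SmallOrd.two_primes hna (p := 2) (q := 7) (a := 4) (b := 1) (by norm_num) (by norm_num) (by rw [h]; norm_num))
    · have h : Nat.card G = 128 := by omega
      exact False.elim (Fus.SmallOrd.two_primes hna (p := 2) (q := 3) (a := 7) (b := 0) (by norm_num) (by norm_num) (by rw [h]; norm_num))
    · have h : Nat.card G = 144 := by omega
      exact False.elim (Fus.SmallOrd.two_primes hna (p := 2) (q := 3) (a := 4) (b := 2) (by norm_num) (by norm_num) (by rw [h]; norm_num))
    · have h : Nat.card G = 160 := by omega
      exact False.elim (Fus.SmallOrd.two_primes hna (p := 2) (q := 5) (a := 5) (b := 1) (by norm_num) (by norm_num) (by rw [h]; norm_num))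
    · have h : Nat.card G = 176 := by omega
      exact False.elim (Fus.SmallOrd.two_primes hna (p := 2) (q := 11) (a := 4) (b := 1) (by norm_num) (by norm_num) (by rw [h]; norm_num))
    · have h : Nat.card G = 192 := by omega
      exact False.elim (Fus.SmallOrd.two_primes hna (p := 2) (q := 3) (a := 6) (b := 1) (by norm_num) (by norm_num) (by rw [h]; norm_num))
    · have h : Nat.card G = 208 := by omega
      exact False.elim (Fus.SmallOrd.two_primes hna (p := 2) (q := 13) (a := 4) (b := 1) (by norm_num) (by norm_num) (by rw [h]; norm_num))
    · have h : Nat.card G = 224 := by omega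
      exact False.elim (Fus.SmallOrd.two_primes hna (p := 2) (q := 7) (a := 5) (b := 1) (by norm_num) (by norm_num) (by rw [h]; norm_num))
    · have h : Nat.card G = 240 := by omega
      exact False.elim (Fus.SmallOrd.no_options hna (p := 5) (m := 48) (by norm_num) (by rw [h]) (by norm_num) (by norm_num) (by norm_num) (by decide +kernel))
    · have h : Nat.card G = 256 := by omega
      exact False.elim (Fus.SmallOrd.two_primes hna (p := 2) (q := 3) (a := 8) (b := 0) (by norm_num) (by norm_num) (by rw [h]; norm_num))
    · have h : Nat.card G = 272 := by omega
      exact False.elim (Fus.SmallOrd.two_primes hna (p := 2) (q := 17) (a := 4) (b := 1) (by norm_num) (by norm_num) (by rw [h]; norm_num))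
    · have h : Nat.card G = 288 := by omega
      exact False.elim (Fus.SmallOrd.two_primes hna (p := 2) (q := 3) (a := 5) (b := 2) (by norm_num) (by norm_num) (by rw [h]; norm_num))
    · have h : Nat.card G = 304 := by omega
      exact False.elim (Fus.SmallOrd.two_primes hna (p := 2) (q := 19) (a := 4) (b := 1) (by norm_num) (by norm_num) (by rw [h]; norm_num))
    · have h : Nat.card G = 320 := by omega
      exact False.elim (Fus.SmallOrd.two_primes hna (p := 2) (q := 5) (a := 6) (b := 1) (by norm_num) (by norm_num) (by rw [h]; norm_num))
    · have h : Nat.card G = 336 := by omega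
      exact False.elim (Fus.SmallOrd.no_sylow_number hna (p := 7) (a := 1) (m := 48) (by norm_num) h (by norm_num) (by norm_num) (by norm_num) (by decide +kernel))
    · have h : Nat.card G = 352 := by omega
      exact False.elim (Fus.SmallOrd.two_primes hna (p := 2) (q := 11) (a := 5) (b := 1) (by norm_num) (by norm_num) (by rw [h]; norm_num))
    · have h : Nat.card G = 368 := by omega
      exact False.elim (Fus.SmallOrd.two_primes hna (p := 2) (q := 23) (a := 4) (b := 1) (by norm_num) (by norm_num) (by rw [h]; norm_num))
    · have h : Nat.card G = 384 := by omega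
      exact False.elim (Fus.SmallOrd.two_primes hna (p := 2) (q := 3) (a := 7) (b := 1) (by norm_num) (by norm_num) (by rw [h]; norm_num))
    · have h : Nat.card G = 400 := by omega
      exact False.elim (Fus.SmallOrd.two_primes hna (p := 2) (q := 5) (a := 4) (b := 2) (by norm_num) (by norm_num) (by rw [h]; norm_num))
    · have h : Nat.card G = 416 := by omega
      exact False.elim (Fus.SmallOrd.two_primes hna (p := 2) (q := 13) (a := 5) (b := 1) (by norm_num) (by norm_num) (by rw [h]; norm_num))
    · have h : Nat.card G = 432 := by omega
      exact False.elim (Fus.SmallOrd.two_primes hna (p := 2) (q := 3) (a := 4) (b := 3) (by norm_num) (by norm_num) (by rw [h]; norm_num))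
    · have h : Nat.card G = 448 := by omega
      exact False.elim (Fus.SmallOrd.two_primes hna (p := 2) (q := 7) (a := 6) (b := 1) (by norm_num) (by norm_num) (by rw [h]; norm_num))
    · have h : Nat.card G = 464 := by omega
      exact False.elim (Fus.SmallOrd.two_primes hna (p := 2) (q := 29) (a := 4) (b := 1) (by norm_num) (by norm_num) (by rw [h]; norm_num))
    · have h : Nat.card G = 480 := by omega
      exact False.elim (Fus.SmallOrd.only_two hna (p := 5) (m := 96) (c := 3) (by norm_num) h (by norm_num) (by norm_num) (by norm_num) (by norm_num) (by decide +kernel) (by norm_num) (by decide +kernel))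
    · have h : Nat.card G = 496 := by omega
      exact False.elim (Fus.SmallOrd.two_primes hna (p := 2) (q := 31) (a := 4) (b := 1) (by norm_num) (by norm_num) (by rw [h]; norm_num))
    · have h : Nat.card G = 512 := by omega
      exact False.elim (Fus.SmallOrd.two_primes hna (p := 2) (q := 3) (a := 9) (b := 0) (by norm_num) (by norm_num) (by rw [h]; norm_num))
    · have h : Nat.card G = 528 := by omega
      exact False.elim (Fus.SmallOrd.large_prime hna (p := 11) (m := 48) (by norm_num) (by norm_num) (by rw [h]) (by norm_num) (by norm_num))
    · have h : Nat.card G = 544 := by omega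
      exact False.elim (Fus.SmallOrd.two_primes hna (p := 2) (q := 17) (a := 5) (b := 1) (by norm_num) (by norm_num) (by rw [h]; norm_num))
    · have h : Nat.card G = 560 := by omega
      exact False.elim (Fus.SmallOrd.no_sylow_number hna (p := 7) (a := 1) (m := 80) (by norm_num) h (by norm_num) (by norm_num) (by norm_num) (by decide +kernel))
    · have h : Nat.card G = 576 := by omega
      exact False.elim (Fus.SmallOrd.two_primes hna (p := 2) (q := 3) (a := 6) (b := 2) (by norm_num) (by norm_num) (by rw [h]; norm_num))
    · have h : Nat.card G = 592 := by omega
      exact False.elim (Fus.SmallOrd.two_primes hna (p := 2) (q := 37) (a := 4) (b := 1) (by norm_num) (by norm_num) (by rw [h]; norm_num))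
    · have h : Nat.card G = 608 := by omega
      exact False.elim (Fus.SmallOrd.two_primes hna (p := 2) (q := 19) (a := 5) (b := 1) (by norm_num) (by norm_num) (by rw [h]; norm_num))
    · have h : Nat.card G = 624 := by omega
      exact False.elim (Fus.SmallOrd.large_prime hna (p := 13) (m := 48) (by norm_num) (by norm_num) (by rw [h]) (by norm_num) (by norm_num))
    · have h : Nat.card G = 640 := by omega
      exact False.elim (Fus.SmallOrd.two_primes hna (p := 2) (q := 5) (a := 7) (b := 1) (by norm_num) (by norm_num) (by rw [h]; norm_num))
    · have h : Nat.card G = 656 := by omega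
      exact False.elim (Fus.SmallOrd.two_primes hna (p := 2) (q := 41) (a := 4) (b := 1) (by norm_num) (by norm_num) (by rw [h]; norm_num))
    · have h : Nat.card G = 672 := by omega
      exact False.elim (Fus.SmallOrd.no_sylow_number hna (p := 7) (a := 1) (m := 96) (by norm_num) h (by norm_num) (by norm_num) (by norm_num) (by decide +kernel))
    · have h : Nat.card G = 688 := by omega
      exact False.elim (Fus.SmallOrd.two_primes hna (p := 2) (q := 43) (a := 4) (b := 1) (by norm_num) (by norm_num) (by rw [h]; norm_num))
    · have h : Nat.card G = 704 := by omega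
      exact False.elim (Fus.SmallOrd.two_primes hna (p := 2) (q := 11) (a := 6) (b := 1) (by norm_num) (by norm_num) (by rw [h]; norm_num))
    · have h : Nat.card G = 720 := by omega
      exact False.elim (Fus.SmallOrd.ne_720 hna h)
    · have h : Nat.card G = 736 := by omega
      exact False.elim (Fus.SmallOrd.two_primes hna (p := 2) (q := 23) (a := 5) (b := 1) (by norm_num) (by norm_num) (by rw [h]; norm_num))
    · have h : Nat.card G = 752 := by omega
      exact False.elim (Fus.SmallOrd.two_primes hna (p := 2) (q := 47) (a := 4) (b := 1) (by norm_num) (by norm_num) (by rw [h]; norm_num))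
    · have h : Nat.card G = 768 := by omega
      exact False.elim (Fus.SmallOrd.two_primes hna (p := 2) (q := 3) (a := 8) (b := 1) (by norm_num) (by norm_num) (by rw [h]; norm_num))
    · have h : Nat.card G = 784 := by omega
      exact False.elim (Fus.SmallOrd.two_primes hna (p := 2) (q := 7) (a := 4) (b := 2) (by norm_num) (by norm_num) (by rw [h]; norm_num))
    · have h : Nat.card G = 800 := by omega
      exact False.elim (Fus.SmallOrd.two_primes hna (p := 2) (q := 5) (a := 5) (b := 2) (by norm_num) (by norm_num) (by rw [h]; norm_num))
    · have h : Nat.card G = 816 := by omega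
      exact False.elim (Fus.SmallOrd.large_prime hna (p := 17) (m := 48) (by norm_num) (by norm_num) (by rw [h]) (by norm_num) (by norm_num))
    · have h : Nat.card G = 832 := by omega
      exact False.elim (Fus.SmallOrd.two_primes hna (p := 2) (q := 13) (a := 6) (b := 1) (by norm_num) (by norm_num) (by rw [h]; norm_num))
    · have h : Nat.card G = 848 := by omega
      exact False.elim (Fus.SmallOrd.two_primes hna (p := 2) (q := 53) (a := 4) (b := 1) (by norm_num) (by norm_num) (by rw [h]; norm_num))
    · have h : Nat.card G = 864 := by omega
      exact False.elim (Fus.SmallOrd.two_primes hna (p := 2) (q := 3) (a := 5) (b := 3) (by norm_num) (by norm_num) (by rw [h]; norm_num))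
    · have h : Nat.card G = 880 := by omega
      exact False.elim (Fus.SmallOrd.no_sylow_number hna (p := 11) (a := 1) (m := 80) (by norm_num) h (by norm_num) (by norm_num) (by norm_num) (by decide +kernel))
    · have h : Nat.card G = 896 := by omega
      exact False.elim (Fus.SmallOrd.two_primes hna (p := 2) (q := 7) (a := 7) (b := 1) (by norm_num) (by norm_num) (by rw [h]; norm_num))
    · have h : Nat.card G = 912 := by omega
      exact False.elim (Fus.SmallOrd.large_prime hna (p := 19) (m := 48) (by norm_num) (by norm_num) (by rw [h]) (by norm_num) (by norm_num))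
    · have h : Nat.card G = 928 := by omega
      exact False.elim (Fus.SmallOrd.two_primes hna (p := 2) (q := 29) (a := 5) (b := 1) (by norm_num) (by norm_num) (by rw [h]; norm_num))
    · have h : Nat.card G = 944 := by omega
      exact False.elim (Fus.SmallOrd.two_primes hna (p := 2) (q := 59) (a := 4) (b := 1) (by norm_num) (by norm_num) (by rw [h]; norm_num))
    · have h : Nat.card G = 960 := by omega
      exact False.elim (Fus.SmallOrd.ne_960 hna h)
    · have h : Nat.card G = 976 := by omega
      exact False.elim (Fus.SmallOrd.two_primes hna (p := 2) (q := 61) (a := 4) (b := 1) (by norm_num) (by norm_num) (by rw [h]; norm_num))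
    · have h : Nat.card G = 992 := by omega
      exact False.elim (Fus.SmallOrd.two_primes hna (p := 2) (q := 31) (a := 5) (b := 1) (by norm_num) (by norm_num) (by rw [h]; norm_num))
    · have h : Nat.card G = 1008 := by omega
      exact False.elim (Fus.SmallOrd.only_two hna (p := 7) (m := 144) (c := 2) (by norm_num) h (by norm_num) (by norm_num) (by norm_num) (by norm_num) (by decide +kernel) (by norm_num) (by decide +kernel))
    · have h : Nat.card G = 1024 := by omega
      exact False.elim (Fus.SmallOrd.two_primes hna (p := 2) (q := 3) (a := 10) (b := 0) (by norm_num) (by norm_num) (by rw [h]; norm_num))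
    · have h : Nat.card G = 1040 := by omega
      exact False.elim (Fus.SmallOrd.large_prime hna (p := 13) (m := 80) (by norm_num) (by norm_num) (by rw [h]) (by norm_num) (by norm_num))
    · have h : Nat.card G = 1056 := by omega
      exact False.elim (Fus.SmallOrd.no_sylow_number hna (p := 11) (a := 1) (m := 96) (by norm_num) h (by norm_num) (by norm_num) (by norm_num) (by decide +kernel))
    · have h : Nat.card G = 1072 := by omega
      exact False.elim (Fus.SmallOrd.two_primes hna (p := 2) (q := 67) (a := 4) (b := 1) (by norm_num) (by norm_num) (by rw [h]; norm_num))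
    · have h : Nat.card G = 1088 := by omega
      exact False.elim (Fus.SmallOrd.two_primes hna (p := 2) (q := 17) (a := 6) (b := 1) (by norm_num) (by norm_num) (by rw [h]; norm_num))
  · have hcb : c ≤ 19 := by omega
    interval_cases c
    · exact absurd hc (by have := Nat.card_pos (α := G); omega)
    · have h : Nat.card G = 56 := by omega
      exact False.elim (Fus.SmallOrd.two_primes hna (p := 2) (q := 7) (a := 3) (b := 1) (by norm_num) (by norm_num) (by rw [h]; norm_num))
    · have h : Nat.card G = 112 := by omega
      exact False.elim (Fus.SmallOrd.two_primes hna (p := 2) (q := 7) (a := 4) (b := 1) (by norm_num) (by norm_num) (by rw [h]; norm_num))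
    · omega
    · have h : Nat.card G = 224 := by omega
      exact False.elim (Fus.SmallOrd.two_primes hna (p := 2) (q := 7) (a := 5) (b := 1) (by norm_num) (by norm_num) (by rw [h]; norm_num))
    · have h : Nat.card G = 280 := by omega
      exact False.elim (Fus.SmallOrd.no_sylow_number hna (p := 7) (a := 1) (m := 40) (by norm_num) h (by norm_num) (by norm_num) (by norm_num) (by decide +kernel))
    · have h : Nat.card G = 336 := by omega
      exact False.elim (Fus.SmallOrd.no_sylow_number hna (p := 7) (a := 1) (m := 48) (by norm_num) h (by norm_num) (by norm_num) (by norm_num) (by decide +kernel))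
    · have h : Nat.card G = 392 := by omega
      exact False.elim (Fus.SmallOrd.two_primes hna (p := 2) (q := 7) (a := 3) (b := 2) (by norm_num) (by norm_num) (by rw [h]; norm_num))
    · have h : Nat.card G = 448 := by omega
      exact False.elim (Fus.SmallOrd.two_primes hna (p := 2) (q := 7) (a := 6) (b := 1) (by norm_num) (by norm_num) (by rw [h]; norm_num))
    · omega
    · have h : Nat.card G = 560 := by omega
      exact False.elim (Fus.SmallOrd.no_sylow_number hna (p := 7) (a := 1) (m := 80) (by norm_num) h (by norm_num) (by norm_num) (by norm_num) (by decide +kernel))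
    · have h : Nat.card G = 616 := by omega
      exact False.elim (Fus.SmallOrd.large_prime hna (p := 11) (m := 56) (by norm_num) (by norm_num) (by rw [h]) (by norm_num) (by norm_num))
    · have h : Nat.card G = 672 := by omega
      exact False.elim (Fus.SmallOrd.no_sylow_number hna (p := 7) (a := 1) (m := 96) (by norm_num) h (by norm_num) (by norm_num) (by norm_num) (by decide +kernel))
    · have h : Nat.card G = 728 := by omega
      exact False.elim (Fus.SmallOrd.large_prime hna (p := 13) (m := 56) (by norm_num) (by norm_num) (by rw [h]) (by norm_num) (by norm_num))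
    · have h : Nat.card G = 784 := by omega
      exact False.elim (Fus.SmallOrd.two_primes hna (p := 2) (q := 7) (a := 4) (b := 2) (by norm_num) (by norm_num) (by rw [h]; norm_num))
    · have h : Nat.card G = 840 := by omega
      exact False.elim (Fus.SmallOrd.only_two hna (p := 7) (m := 120) (c := 4) (by norm_num) h (by norm_num) (by norm_num) (by norm_num) (by norm_num) (by decide +kernel) (by norm_num) (by decide +kernel))
    · have h : Nat.card G = 896 := by omega
      exact False.elim (Fus.SmallOrd.two_primes hna (p := 2) (q := 7) (a := 7) (b := 1) (by norm_num) (by norm_num) (by rw [h]; norm_num))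
    · have h : Nat.card G = 952 := by omega
      exact False.elim (Fus.SmallOrd.large_prime hna (p := 17) (m := 56) (by norm_num) (by norm_num) (by rw [h]) (by norm_num) (by norm_num))
    · have h : Nat.card G = 1008 := by omega
      exact False.elim (Fus.SmallOrd.only_two hna (p := 7) (m := 144) (c := 2) (by norm_num) h (by norm_num) (by norm_num) (by norm_num) (by norm_num) (by decide +kernel) (by norm_num) (by decide +kernel))
    · have h : Nat.card G = 1064 := by omega
      exact False.elim (Fus.SmallOrd.large_prime hna (p := 19) (m := 56) (by norm_num) (by norm_num) (by rw [h]) (by norm_num) (by norm_num))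

end Cfsg.Agent.S0496
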