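import Cfsg.Statements.S0495
import Cfsg.Agent.Lib.Invol.SimpleOrder168
import Cfsg.Agent.Lib.Fus.PSLTwo
import Cfsg.Agent.Lib.Classical.SLNormal

set_option autoImplicit false
open Cfsg

namespace Cfsg.Agent.S0495

/-- A simple group of order 168 is isomorphic to the projective special linear group of dimension 2 over the field with
7 elements. -/
theorem result {G : Type*} [Group G] [Finite G] [IsSimpleGroup G]
    (h : Nat.card G = 168) {F : Type*} [Field F] [Fintype F] (hF : Fintype.card F = 7) :
    Nonempty (G ≃* Matrix.ProjectiveSpecialLinearGroup (Fin 2) F) := by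
  classical
  haveI := Cfsg.Agent.Classical.PSL_isSimple (F := F) (n := 2) le_rfl (fun _ => by omega)
  haveI : Finite (Matrix.ProjectiveSpecialLinearGroup (Fin 2) F) := inferInstance
  refine Cfsg.Agent.Invol.O168.iso h ?_
  have hm := Cfsg.Agent.Classical.natCard_PSL_mul (F := F) 2 (by norm_num)
  rw [Cfsg.Agent.Classical.natCard_units_field, Cfsg.Agent.Fus.PSLTwo.natCard_SL_two, hF] at hm
  norm_num at hm
  rw [Nat.card_eq_fintype_card]
  omega

end Cfsg.Agent.S0495
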