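import Cfsg.Statements.S4500
import Cfsg.Agent.S4499
import Cfsg.Agent.Lib.Char.DefectOneStruct
import Cfsg.Agent.Lib.Char.ModP

set_option autoImplicit false
open Cfsg

namespace Cfsg.Agent.S4500

open Cfsg.Agent.Block Cfsg.Agent.Char

/-- A non-principal member of a principal block of degree prime to a given prime. -/
theorem exists_coprime {G : Type*} [Group G] [Finite G] {s r : ℕ} (hs : s.Prime) (hr : r.Prime)
    (hsG : s ∣ Nat.card G) {M : Ideal AlgInt} (hM : IsPModular s M) :
    ∃ χ ∈ principalBlock M G, χ ≠ trivialIrr G ∧ ¬ r ∣ charDegree (χ : G → ℂ) := by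
  classical
  haveI := Fact.mk hs
  letI : Fintype G := Fintype.ofFinite G
  obtain ⟨Mr, hMr⟩ := exists_isPModular r hr
  by_contra hcon
  push Not at hcon
  obtain ⟨z, hz⟩ := exists_prime_orderOf_dvd_card' s hsG
  have h0 := weak_orth hM isPBlock_principalBlock (x := (1 : G)) (y := z)
    (by rw [orderOf_one]; exact hs.not_dvd_one) (by rw [hz])
  rw [finsum_mem_block] at h0
  rw [← Finset.add_sum_erase _ _ (Finset.mem_filter.2
    ⟨Finset.mem_univ _, trivial_mem_principalBlock hM⟩ : trivialIrr G ∈ _)] at h0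
  have hint : ∀ χ : IrrCharacter G, IsIntegral ℤ (starRingEnd ℂ ((χ : G → ℂ) z)) :=
    fun χ => (irr_isIntegral χ z).map ((starRingEnd ℂ).toIntAlgHom)
  have h1 : MemLocalIdeal Mr (1 : ℂ) := by
    have e : (1 : ℂ) = (0 : ℂ) - ∑ χ ∈ (Finset.univ.filter (· ∈ principalBlock M G)).erase
        (trivialIrr G), (χ : G → ℂ) 1 * starRingEnd ℂ ((χ : G → ℂ) z) := by
      have t1 : ((trivialIrr G : IrrCharacter G) : G → ℂ) = fun _ => 1 := rfl
      rw [t1] at h0
      simp only [map_one, one_mul] at h0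
      linear_combination h0
    rw [e]
    refine ideal_sub hMr (ideal_zero hMr) (ideal_sum hMr fun χ hχ => ?_)
    obtain ⟨hne, hmem⟩ := Finset.mem_erase.1 hχ
    obtain ⟨k, hk⟩ := hcon χ (Finset.mem_filter.1 hmem).2 hne
    rw [charDeg_spec', hk]
    refine ideal_mul_right hMr ?_ (ring_of_integral hMr (hint χ))
    rw [← Int.cast_natCast, ideal_intCast_iff hMr]
    exact Int.natCast_dvd_natCast.2 (dvd_mul_right r k)
  rw [show (1 : ℂ) = ((1 : ℤ) : ℂ) by norm_num, ideal_intCast_iff hMr] at h1
  exact hr.not_dvd_one (Int.natCast_dvd_natCast.1 (by simpa using h1))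

theorem key {G : Type*} [Group G] [Finite G] [Nontrivial G] (p q r a b c : ℕ) (hp : p.Prime) (hq : q.Prime) (hr : r.Prime) (ha : a ≤ 2) (hpq : p ≠ q) (hpr : p ≠ r) (hG : Nat.card G = p ^ a * q ^ b * r ^ c) :
    ∃ χ : IrrCharacter G, (χ : G → ℂ) ≠ (fun _ => 1) ∧ ∃ k : ℕ, charDegree (χ : G → ℂ) = q ^ k := by
  classical
  haveI := Fact.mk hp
  letI : Fintype G := Fintype.ofFinite G
  have fin : ∀ χ : IrrCharacter G, χ ≠ trivialIrr G → ¬ r ∣ charDegree (χ : G → ℂ) →
      ¬ p ∣ charDegree (χ : G → ℂ) → ∃ χ : IrrCharacter G, (χ : G → ℂ) ≠ (fun _ => 1) ∧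
        ∃ k : ℕ, charDegree (χ : G → ℂ) = q ^ k := by
    intro χ hne hnr hnp
    refine ⟨χ, fun e => hne (Subtype.ext e), ?_⟩
    have hdvd : charDegree (χ : G → ℂ) ∣ q ^ b := by
      have h := charDeg_dvd χ
      rw [hG] at h
      exact ((hp.coprime_iff_not_dvd.2 hnp).pow_left a).symm.dvd_of_dvd_mul_left
        (((hr.coprime_iff_not_dvd.2 hnr).pow_left c).symm.dvd_of_dvd_mul_right h)
    obtain ⟨k, -, hk⟩ := (Nat.dvd_prime_pow hq).1 hdvd
    exact ⟨k, hk⟩
  rcases Nat.eq_zero_or_pos a with ha0 | ha0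
  · subst ha0
    rw [pow_zero, one_mul] at hG
    obtain ⟨s, hs, hsG⟩ := Nat.exists_prime_and_dvd (Finite.one_lt_card (α := G)).ne'
    obtain ⟨Ms, hMs⟩ := exists_isPModular s hs
    obtain ⟨χ, -, hne, hnr⟩ := exists_coprime hs hr hsG hMs
    refine fin χ hne hnr fun h => ?_
    have h2 := h.trans (charDeg_dvd χ)
    rw [hG] at h2
    rcases hp.dvd_mul.1 h2 with h3 | h3
    · exact hpq ((Nat.prime_dvd_prime_iff_eq hp hq).1 (hp.dvd_of_dvd_pow h3))
    · exact hpr ((Nat.prime_dvd_prime_iff_eq hp hr).1 (hp.dvd_of_dvd_pow h3))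
  · obtain ⟨M, hM⟩ := exists_isPModular p hp
    have hpG : p ∣ Nat.card G := by
      rw [hG]; exact ((dvd_pow_self p ha0.ne').mul_right _).mul_right _
    have hfac : (Nat.card G).factorization p = a := by
      rw [hG, Nat.factorization_mul (by positivity [hp.pos, hq.pos]) (by positivity [hr.pos]),
        Nat.factorization_mul (by positivity [hp.pos]) (by positivity [hq.pos]), Finsupp.add_apply,
        Finsupp.add_apply, hp.factorization_pow, hq.factorization_pow, hr.factorization_pow,
        Finsupp.single_eq_same, Finsupp.single_eq_of_ne (by omega), Finsupp.single_eq_of_ne (by omega)]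
      simp
    obtain ⟨χ, hχ, hne, hnr⟩ := exists_coprime hp hr hpG hM
    refine fin χ hne hnr fun hpd => ?_
    have htriv := trivial_mem_principalBlock (G := G) hM
    have hd1 : charDegree ((trivialIrr G : IrrCharacter G) : G → ℂ) = 1 := by
      have h := charDeg_spec' (trivialIrr G)
      rw [show ((trivialIrr G : IrrCharacter G) : G → ℂ) = fun _ => 1 from rfl] at h ⊢
      exact Nat.cast_injective (R := ℂ) (h.symm.trans Nat.cast_one.symm)
    have hd : blockDefect p (principalBlock M G) = a := by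
      have hz : sInf ((fun ψ : IrrCharacter G => (charDegree (ψ : G → ℂ)).factorization p) ''
          principalBlock M G) = 0 := Nat.le_zero.1 (Nat.sInf_le ⟨_, htriv, by simp [hd1]⟩)
      rw [blockDefect, hz, hfac, Nat.sub_zero]
    rcases (show a = 1 ∨ a = 2 by omega) with rfl | rfl
    · have h := DefectOne.height_zero hM isPBlock_principalBlock (by omega) hfac hχ
      have h1 : (charDegree (χ : G → ℂ)).factorization p = 0 := by
        have hz : sInf ((fun ψ : IrrCharacter G => (charDegree (ψ : G → ℂ)).factorization p) ''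
            principalBlock M G) = 0 := Nat.le_zero.1 (Nat.sInf_le ⟨_, htriv, by simp [hd1]⟩)
        rw [blockHeight, hz, Nat.sub_zero] at h
        exact h
      exact Nat.one_le_iff_ne_zero.1 ((hp.dvd_iff_one_le_factorization (charDeg_pos χ).ne').1 hpd) h1
    · have := Cfsg.Agent.S4499.result p M hM hpG (principalBlock M G) isPBlock_principalBlock χ hχ
        (by rw [hfac]; simpa using hpd) (trivialIrr G) htriv
      rw [hfac, hd1] at this
      exact hp.not_dvd_one (by simpa using this)


/-- Let G be a non-trivial finite group of order p^a · q^b · r^c with p, q, r distinct primes and a ≤ 2. Then G has a non-principal irreducible character whose degree is a power of q, and a non-principal irreducible character whose degree is a power of r; the power may be the zeroth, so a non-principal linear character serves for both. -/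
theorem result {G : Type*} [Group G] [Finite G] [Nontrivial G] (p q r a b c : ℕ) (hp : p.Prime) (hq : q.Prime) (hr : r.Prime) (hpq : p ≠ q) (hpr : p ≠ r) (hqr : q ≠ r) (ha : a ≤ 2) (hG : Nat.card G = p ^ a * q ^ b * r ^ c) : (∃ χ : Cfsg.IrrCharacter G, (χ : G → ℂ) ≠ (fun _ => 1) ∧ ∃ k : ℕ, Cfsg.charDegree (χ : G → ℂ) = q ^ k) ∧ ∃ χ : Cfsg.IrrCharacter G, (χ : G → ℂ) ≠ (fun _ => 1) ∧ ∃ k : ℕ, Cfsg.charDegree (χ : G → ℂ) = r ^ k := by
  exact ⟨key p q r a b c hp hq hr ha hpq hpr hG,
    key p r q a c b hp hr hq ha hpr hpq (by rw [hG]; ring)⟩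

end Cfsg.Agent.S4500
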