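import Cfsg.Statements.S0493
import Cfsg.Agent.Lib.Fus.SmallSimple
import Cfsg.Agent.S0144
-- import your own Cfsg.Agent.* helpers here

set_option autoImplicit false
open Cfsg

namespace Cfsg.Agent.S0493

/-- A finite simple group of order at most 100 that is not cyclic has order 60. -/
theorem result {G : Type*} [Group G] [Finite G] [IsSimpleGroup G]
    (hG : ¬ IsCyclic G) (h : Nat.card G ≤ 100) : Nat.card G = 60 := by
  have hna : ¬ IsMulCommutative G := fun hc => by
    haveI := hc
    letI : CommGroup G := { ‹Group G› with mul_comm := mul_comm' }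
    haveI : Fact (Nat.card G).Prime := ⟨IsSimpleGroup.prime_card⟩
    exact hG (isCyclic_of_prime_card rfl)
  have hns : ∀ p q a b : ℕ, p.Prime → q.Prime → Nat.card G ≠ p ^ a * q ^ b := fun p q a b hp hq e => by
    haveI := S0144.result p q a b hp hq e
    exact hna ⟨⟨fun x y => IsSimpleGroup.comm_iff_isSolvable.mpr
      (inferInstance : Group.IsSolvable G) x y⟩⟩
  have hpos : 0 < Nat.card G := Nat.card_pos
  have heven : Even (Nat.card G) := by
    by_contra hodd
    rw [Nat.not_even_iff] at hodd
    have hne := hpos.ne'
    have h3 : ¬ 2 < (Nat.card G).primeFactors.card := by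
      intro hlt
      obtain ⟨a, ha, b, hb, c, hc, hab, hac, hbc⟩ := Finset.two_lt_card.mp hlt
      rw [Nat.mem_primeFactors] at ha hb hc
      have hge : ∀ x, x.Prime ∧ x ∣ Nat.card G ∧ Nat.card G ≠ 0 → 3 ≤ x := by
        rintro x ⟨hx, hxd, -⟩
        rcases hx.eq_two_or_odd with rfl | ho
        · omega
        · have := hx.two_le; omega
      have habc : a * b * c ∣ Nat.card G :=
        Nat.Coprime.mul_dvd_of_dvd_of_dvd
          (Nat.Coprime.mul_left ((Nat.coprime_primes ha.1 hc.1).mpr hac) ((Nat.coprime_primes hb.1 hc.1).mpr hbc))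
          (Nat.Coprime.mul_dvd_of_dvd_of_dvd ((Nat.coprime_primes ha.1 hb.1).mpr hab) ha.2.1 hb.2.1) hc.2.1
      have hle := le_trans (Nat.le_of_dvd hpos habc) h
      have h1 := hge a ha
      have h2 := hge b hb
      have h3 := hge c hc
      have ha2 := ha.2.1; have hb2 := hb.2.1; have hc2 := hc.2.1
      have hA : a ≤ 11 := by nlinarith [Nat.mul_le_mul h2 h3]
      have hB : b ≤ 11 := by nlinarith [Nat.mul_le_mul h1 h3]
      have hC : c ≤ 11 := by nlinarith [Nat.mul_le_mul h1 h2]
      have pa := ha.1; have pb := hb.1; have pc := hc.1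
      interval_cases a <;> (first | (norm_num at pa; done) | skip) <;> interval_cases b <;>
        (first | (norm_num at pb; done) | omega | skip) <;> interval_cases c <;>
        first | (norm_num at pc; done) | omega
    have hprod := Nat.prod_factorization_pow_eq_self hne
    rw [Finsupp.prod, Nat.support_factorization] at hprod
    rcases Nat.lt_or_ge (Nat.card G).primeFactors.card 2 with hlt | hge
    · rcases Nat.lt_or_ge (Nat.card G).primeFactors.card 1 with h0 | h1
      · rw [Finset.card_eq_zero.mp (by omega : (Nat.card G).primeFactors.card = 0), Finset.prod_empty] at hprod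
        exact hns 2 3 0 0 (by norm_num) (by norm_num) (by simpa using hprod.symm)
      · obtain ⟨x, hx⟩ := Finset.card_eq_one.mp (by omega : (Nat.card G).primeFactors.card = 1)
        rw [hx, Finset.prod_singleton] at hprod
        have hxp : x.Prime := Nat.prime_of_mem_primeFactors (by rw [hx]; exact Finset.mem_singleton_self x)
        exact hns x 3 _ 0 hxp (by norm_num) (by simpa using hprod.symm)
    · obtain ⟨x, y, hxy, hs⟩ := Finset.card_eq_two.mp (by omega : (Nat.card G).primeFactors.card = 2)
      rw [hs, Finset.prod_pair hxy] at hprod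
      exact hns x y _ _ (Nat.prime_of_mem_primeFactors (by rw [hs]; simp))
        (Nat.prime_of_mem_primeFactors (by rw [hs]; simp)) hprod.symm
  haveI : Fact (Nat.Prime 7) := ⟨by norm_num⟩
  have h84 : Nat.card G ≠ 84 := fun e => by
    obtain ⟨P⟩ : Nonempty (Sylow 7 G) := inferInstance
    have hP : Nat.card (P : Subgroup G) = 7 := by
      rw [P.card_eq_multiplicity, e, show (84 : ℕ) = 7 ^ 1 * 12 by norm_num,
        Nat.factorization_mul (by norm_num) (by norm_num), Finsupp.add_apply,
        Nat.Prime.factorization_pow (by norm_num), Finsupp.single_eq_same,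
        Nat.factorization_eq_zero_of_not_dvd (by norm_num : ¬ 7 ∣ 12)]
      norm_num
    have h1 := Subgroup.card_mul_index (P : Subgroup G)
    rw [hP, e] at h1
    have hd : Nat.card (Sylow 7 G) ∣ 12 := (show (P : Subgroup G).index = 12 by omega) ▸ P.card_dvd_index
    have hm := card_sylow_modEq_one 7 G
    have hle := Nat.le_of_dvd (by norm_num) hd
    have hn : Nat.card (Sylow 7 G) = 1 := by
      unfold Nat.ModEq at hm
      interval_cases Nat.card (Sylow 7 G) <;> omega
    haveI : Subsingleton (Sylow 7 G) := (Nat.card_eq_one_iff_unique.mp hn).1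
    rcases IsSimpleGroup.eq_bot_or_eq_top_of_normal _ P.normal_of_subsingleton with e' | e'
    · rw [e', Subgroup.card_bot] at hP; omega
    · rw [e', Subgroup.card_top, e] at hP; omega
  have k : ∀ a b, Nat.card G ≠ 2 ^ a * 3 ^ b := fun a b => hns 2 3 a b (by norm_num) (by norm_num)
  rcases Fus.even_simple_dvd hna heven with ⟨c, hc⟩ | ⟨c, hc⟩ | ⟨c, hc⟩
  · have hcb : c ≤ 8 := by omega
    interval_cases c
    · omega
    · exact absurd hc (k 2 1)
    · exact absurd hc (k 3 1)
    · exact absurd hc (k 2 2)
    · exact absurd hc (k 4 1)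
    · omega
    · exact absurd hc (k 3 2)
    · omega
    · exact absurd hc (k 5 1)
  · have hcb : c ≤ 6 := by omega
    interval_cases c
    · omega
    · exact absurd hc (k 4 0)
    · exact absurd hc (k 5 0)
    · exact absurd hc (k 4 1)
    · exact absurd hc (k 6 0)
    · exact absurd hc (hns 2 5 4 1 (by norm_num) (by norm_num))
    · exact absurd hc (k 5 1)
  · have hcb : c ≤ 1 := by omega
    interval_cases c
    · omega
    · exact absurd hc (hns 2 7 3 1 (by norm_num) (by norm_num))

end Cfsg.Agent.S0493
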