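import Cfsg.Statements.S3278
import Cfsg.Agent.Lib.Invol.V4Centralizer
import Cfsg.Agent.Lib.Invol.KleinIndex
import Cfsg.Agent.Lib.Invol.SmallIndexSimple
import Cfsg.Agent.S0493

set_option autoImplicit false
open Cfsg

namespace Cfsg.Agent.S3278

set_option linter.style.haveILetI false in
/-- Let G be a finite simple group with an involution x such that a Sylow 2-subgroup of C_G(x) is a Klein four-group which is normal in C_G(x). Then G is isomorphic to the alternating group of degree 5 (that is, to PSL(2, 5)). -/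
theorem result {G : Type*} [Group G] [Finite G] [IsSimpleGroup G] (x : G) (hx : orderOf x = 2)
    (S₀ : Subgroup G) (hle : S₀ ≤ Subgroup.centralizer ({x} : Set G)) (hK : IsKleinFour ↥S₀)
    (hodd : ¬ 2 ∣ S₀.relIndex (Subgroup.centralizer ({x} : Set G))) (hn : (S₀.subgroupOf (Subgroup.centralizer ({x} : Set G))).Normal) :
    Nonempty (G ≃* ↥(alternatingGroup (Fin 5))) := by
  classical
  haveI := Fact.mk Nat.prime_two
  haveI := hn
  set C := Subgroup.centralizer ({x} : Set G) with hC
  have hV4 : Nat.card S₀ = 4 := hK.card_four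
  have hxC : x ∈ C := Subgroup.mem_centralizer_singleton_iff.2 rfl
  have hxx : x * x = 1 := by rw [← pow_two, ← hx, pow_orderOf_eq_one]
  have hx1 : x ≠ 1 := fun h => by rw [h, orderOf_one] at hx; omega
  -- two-elements of the centralizer lie in the four group
  have h2V : ∀ s ∈ C, (∃ k, orderOf s = 2 ^ k) → s ∈ S₀ := by
    rintro s hs ⟨k, hk⟩
    have h1 : orderOf ((⟨s, hs⟩ : C) : C ⧸ S₀.subgroupOf C) ∣ 2 ^ k := by
      refine (orderOf_map_dvd (QuotientGroup.mk' (S₀.subgroupOf C)) _).trans ?_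
      rw [Subgroup.orderOf_mk, hk]
    have h2 : orderOf ((⟨s, hs⟩ : C) : C ⧸ S₀.subgroupOf C) ∣ S₀.relIndex C := orderOf_dvd_natCard _
    have h3 := Nat.eq_one_of_dvd_coprimes
      (Nat.Coprime.pow_left k (Nat.prime_two.coprime_iff_not_dvd.2 hodd)) h1 h2
    exact (QuotientGroup.eq_one_iff (N := S₀.subgroupOf C) (⟨s, hs⟩ : C)).1 (orderOf_eq_one_iff.1 h3)
  have hxV : x ∈ S₀ := h2V x hxC ⟨1, by rw [hx, pow_one]⟩
  have hsq : ∀ v ∈ S₀, v * v = 1 := fun v hv => congrArg Subtype.val (IsKleinFour.mul_self (⟨v, hv⟩ : S₀))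
  have hVab : ∀ a ∈ S₀, ∀ b ∈ S₀, a * b = b * a := fun a ha b hb => by
    have hab := hsq _ (S₀.mul_mem ha hb)
    calc a * b = (a * b)⁻¹ := (inv_eq_of_mul_eq_one_right hab).symm
      _ = b * a := by
        rw [mul_inv_rev, inv_eq_of_mul_eq_one_right (hsq a ha), inv_eq_of_mul_eq_one_right (hsq b hb)]
  have hconjV : ∀ c ∈ C, ∀ v ∈ S₀, c * v * c⁻¹ ∈ S₀ := fun c hc v hv => by
    have := hn.conj_mem ⟨v, hle hv⟩ (Subgroup.mem_subgroupOf.2 hv) ⟨c, hc⟩
    simpa [Subgroup.mem_subgroupOf] using this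
  -- it centralizes the four group
  have hCV : C = Subgroup.centralizer (S₀ : Set G) := by
    refine le_antisymm (fun c hc => Subgroup.mem_centralizer_iff.2 fun v hv => ?_)
      (Subgroup.centralizer_le (Set.singleton_subset_iff.2 hxV))
    have hcx : c * x * c⁻¹ = x := by rw [Subgroup.mem_centralizer_singleton_iff.1 hc, mul_inv_cancel_right]
    have hfour : ∀ w ∈ S₀, w ≠ 1 → w ≠ x → v = 1 ∨ v = x ∨ v = w ∨ v = x * w := by
      intro w hw hw1 hwx
      by_contra h
      push Not at h
      obtain ⟨h1, h2, h3, h4⟩ := h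
      have hsub : ({1, x, w, x * w, v} : Set G) ⊆ (S₀ : Set G) := by
        rintro a (rfl | rfl | rfl | rfl | rfl)
        exacts [S₀.one_mem, hxV, hw, S₀.mul_mem hxV hw, hv]
      have hnc := Set.ncard_le_ncard hsub (Set.toFinite _)
      have hxw1 : x * w ≠ 1 := fun h => hwx (by rw [← mul_right_inj x, hxx, h])
      have hxwx : x * w ≠ x := fun h => hw1 (mul_eq_left.1 h)
      have hxww : x * w ≠ w := fun h => hx1 (mul_eq_right.1 h)
      rw [Set.ncard_insert_of_notMem (by simp [hx1.symm, hw1.symm, hxw1.symm, h1.symm]),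
        Set.ncard_insert_of_notMem (by simp [hwx.symm, hxwx.symm, h2.symm]),
        Set.ncard_insert_of_notMem (by simp [hxww.symm, h3.symm]),
        Set.ncard_pair h4.symm, ← Nat.card_coe_set_eq, SetLike.coe_sort_coe, hV4] at hnc
      omega
    rcases eq_or_ne v 1 with rfl | hv1
    · rw [mul_one, one_mul]
    rcases eq_or_ne v x with rfl | hvx
    · exact (Subgroup.mem_centralizer_singleton_iff.1 hc).symm
    -- the square fixes it
    have hstep : ∀ d ∈ C, d * v * d⁻¹ = v ∨ d * v * d⁻¹ = x * v := by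
      intro d hd
      have hdv := hconjV d hd v hv
      have hdx : d * x * d⁻¹ = x := by rw [Subgroup.mem_centralizer_singleton_iff.1 hd, mul_inv_cancel_right]
      have hne1 : d * v * d⁻¹ ≠ 1 := fun h => hv1 (by rwa [mul_inv_eq_one, mul_eq_left] at h)
      have hnex : d * v * d⁻¹ ≠ x := fun h => hvx (mul_left_cancel (mul_right_cancel (h.trans hdx.symm)))
      rcases hfour _ hdv hne1 hnex with h | h | h | h
      · exact absurd h hv1
      · exact absurd h hvx
      · exact Or.inl h.symm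
      · right
        have h' : x * v = x * (x * (d * v * d⁻¹)) := congrArg (fun z => x * z) h
        rw [← mul_assoc x x, hxx, one_mul] at h'
        exact h'.symm
    have h2 : ∀ d ∈ C, (d * d) * v = v * (d * d) := by
      intro d hd
      have hdx : d * x * d⁻¹ = x := by rw [Subgroup.mem_centralizer_singleton_iff.1 hd, mul_inv_cancel_right]
      refine mul_inv_eq_iff_eq_mul.1 ?_
      rw [show d * d * v * (d * d)⁻¹ = d * (d * v * d⁻¹) * d⁻¹ by group]
      rcases hstep d hd with h | h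
      · rw [h, h]
      · rw [h, show d * (x * v) * d⁻¹ = (d * x * d⁻¹) * (d * v * d⁻¹) by group, hdx, h, ← mul_assoc, hxx, one_mul]
    obtain ⟨m, hm⟩ : ∃ m, S₀.relIndex C = 2 * m + 1 := ⟨S₀.relIndex C / 2, by omega⟩
    have hpow : c ^ (2 * m + 1) ∈ S₀ := by
      have := Subgroup.pow_index_mem (S₀.subgroupOf C) (⟨c, hc⟩ : C)
      rw [show (S₀.subgroupOf C).index = 2 * m + 1 from hm] at this
      simpa [Subgroup.mem_subgroupOf] using this
    have hcm : c ^ (2 * m) * v = v * c ^ (2 * m) := by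
      rw [two_mul, pow_add]
      exact h2 _ (C.pow_mem hc m)
    have hc1 : c = (c ^ (2 * m))⁻¹ * c ^ (2 * m + 1) := by rw [pow_succ, inv_mul_cancel_left]
    have hv' : c ^ (2 * m + 1) * v = v * c ^ (2 * m + 1) := hVab _ hpow v hv
    have hcm' : (c ^ (2 * m))⁻¹ * v = v * (c ^ (2 * m))⁻¹ :=
      ((show Commute (c ^ (2 * m)) v from hcm).inv_left).eq
    rw [hc1, mul_assoc, hv', ← mul_assoc, ← mul_assoc, hcm']
  -- the four group is a Sylow subgroup
  have hna : ¬ IsMulCommutative G := fun hc => by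
    letI : CommGroup G := { ‹Group G› with mul_comm := hc.is_comm.comm }
    haveI : IsMulCommutative G := hc
    have hp : (Nat.card G).Prime := IsSimpleGroup.prime_card
    have h4d : 4 ∣ Nat.card G := hV4 ▸ Subgroup.card_subgroup_dvd_card S₀
    rcases (Nat.dvd_prime hp).1 h4d with h | h
    · norm_num at h
    · rw [← h] at hp; norm_num at hp
  obtain ⟨S, hS⟩ := (IsPGroup.of_card (n := 2) (by rw [hV4]; rfl) : IsPGroup 2 S₀).exists_le_sylow
  have h4le := Subgroup.card_le_of_le hS
  rcases eq_or_lt_of_le (hV4 ▸ h4le) with h4 | h4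
  swap
  · exfalso
    obtain ⟨M, hMn, hM, hxM⟩ :=
      Cfsg.Agent.Invol.V4Cent.exists_index_two' x hx S (hS hxV) S₀ hV4.le h2V h4
    rcases IsSimpleGroup.eq_bot_or_eq_top_of_normal M hMn with h | h
    · rw [h, Subgroup.index_bot] at hM
      have h4d : 4 ∣ Nat.card G := hV4 ▸ Subgroup.card_subgroup_dvd_card S₀
      omega
    · rw [h, Subgroup.index_top] at hM; omega
  have hSV : (S : Subgroup G) = S₀ := (Subgroup.eq_of_le_of_card_ge hS (by omega)).symm
  have hGc : Nat.card G = 4 * (S : Subgroup G).index := by rw [h4, Subgroup.card_mul_index]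
  have hg₀ : Odd (S : Subgroup G).index := Nat.odd_iff.2 (Nat.two_dvd_ne_zero.1 S.not_dvd_index)
  have hnc : ¬ ∃ N : Subgroup G, N.Normal ∧ Nat.card N = (S : Subgroup G).index := by
    rintro ⟨N, hN, hNc⟩
    rcases IsSimpleGroup.eq_bot_or_eq_top_of_normal N hN with h | h
    · rw [h, Subgroup.card_bot] at hNc
      refine hna ?_
      have : Nat.card G = 2 ^ 2 := by rw [hGc, ← hNc]; norm_num
      exact IsPGroup.isMulCommutative_of_card_eq_prime_sq this
    · rw [h, Subgroup.card_top, hGc] at hNc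
      have : (S : Subgroup G).index ≠ 0 := Subgroup.index_ne_zero_of_finite
      omega
  obtain ⟨hSK, hone⟩ := Block.KleinOrder.setup_of_no_complement S hg₀ hGc hnc
  have hxS : x ∈ (S : Subgroup G) := hS hxV
  have hidx := Cfsg.Agent.Invol.KleinIndex.centralizer_index_lt hSK hone hxS hx (by rw [← hC, hSV]; exact hCV)
  -- the normalizer has index at most seven
  set N := Subgroup.normalizer (S₀ : Set G) with hN
  have hCN : C ≤ N := hCV ▸ Subgroup.centralizer_le_normalizer _
  have hmove : ∀ v ∈ S₀, v ≠ 1 → ∃ n ∈ N, n * x * n⁻¹ = v := by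
    intro v hv hv1
    obtain ⟨g, hg⟩ := isConj_iff.1 (hone x v hx (orderOf_eq_prime (by rw [pow_two]; exact hsq v hv) hv1))
    refine ⟨g, ?_, hg⟩
    -- the conjugate four group centralizes `v`
    have hmem : ∀ a ∈ S₀, g⁻¹ * a * g ∈ S₀ := by
      intro a ha
      refine h2V _ (Subgroup.mem_centralizer_singleton_iff.2 ?_) ?_
      · have hav : a * v = v * a := hVab a ha v hv
        rw [← hg] at hav
        calc g⁻¹ * a * g * x = g⁻¹ * (a * (g * x * g⁻¹)) * g := by group
          _ = x * (g⁻¹ * a * g) := by rw [hav]; group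
      · have hd : orderOf (g⁻¹ * a * g) ∣ 2 ^ 1 := orderOf_dvd_of_pow_eq_one (by
          rw [pow_one, pow_two, show g⁻¹ * a * g * (g⁻¹ * a * g) = g⁻¹ * (a * a) * g by group, hsq a ha]; group)
        obtain ⟨k, -, hk⟩ := (Nat.dvd_prime_pow Nat.prime_two).1 hd
        exact ⟨k, hk⟩
    refine Subgroup.mem_normalizer_iff.2 fun a => ⟨fun ha => ?_, fun ha => ?_⟩
    · let f : S₀ → S₀ := fun b => ⟨g⁻¹ * b * g, hmem b b.2⟩
      have hf : Function.Injective f := fun a b h =>
        Subtype.ext (mul_left_cancel (mul_right_cancel (congrArg Subtype.val h :)))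
      obtain ⟨b, hb⟩ := Finite.injective_iff_surjective.1 hf ⟨a, ha⟩
      have hb' : g⁻¹ * (b : G) * g = a := congrArg Subtype.val hb
      rw [← hb', show g * (g⁻¹ * (b : G) * g) * g⁻¹ = b by group]
      exact b.2
    · have := hmem _ ha
      rwa [show g⁻¹ * (g * a * g⁻¹) * g = a by group] at this
  have hrel : 3 ≤ C.relIndex N := by
    let ψ : N ⧸ C.subgroupOf N → G := fun q => Quotient.liftOn' q (fun n => (n : G) * x * (n : G)⁻¹) (by
      intro a b hab
      rw [QuotientGroup.leftRel_apply, Subgroup.mem_subgroupOf] at hab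
      have h := Subgroup.mem_centralizer_singleton_iff.1 hab
      push_cast at h
      calc (a : G) * x * (a : G)⁻¹ = (a : G) * (x * ((a : G)⁻¹ * b)) * (b : G)⁻¹ := by group
        _ = (b : G) * x * (b : G)⁻¹ := by rw [← h]; group)
    have hsub : (S₀ : Set G) \ {1} ⊆ Set.range ψ := by
      rintro v ⟨hv, hv1⟩
      obtain ⟨n, hn', hn''⟩ := hmove v hv hv1
      exact ⟨QuotientGroup.mk (⟨n, hn'⟩ : N), hn''⟩
    have h1 := Set.ncard_le_ncard hsub (Set.toFinite _)
    rw [← Nat.card_coe_set_eq (Set.range ψ)] at h1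
    replace h1 := h1.trans (Finite.card_range_le ψ)
    rw [Set.ncard_diff_singleton_of_mem (show (1 : G) ∈ (S₀ : Set G) from S₀.one_mem),
      ← Nat.card_coe_set_eq, SetLike.coe_sort_coe, hV4] at h1
    exact h1
  have hNi : N.index ≤ 7 := by
    have h1 := Subgroup.relIndex_mul_index hCN
    nlinarith
  have hNne : N ≠ ⊤ := fun h => by
    rcases IsSimpleGroup.eq_bot_or_eq_top_of_normal S₀ (Subgroup.normalizer_eq_top_iff.mp h) with e | e
    · rw [e, Subgroup.card_bot] at hV4; omega
    · rw [e, Subgroup.card_top] at hV4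
      exact hna (IsPGroup.isMulCommutative_of_card_eq_prime_sq (p := 2) (by rw [hV4]; norm_num))
  have hNodd : ¬ 2 ∣ N.index := fun h => S.not_dvd_index
    (h.trans (Subgroup.index_dvd_of_le (hSV ▸ Subgroup.le_normalizer : (S : Subgroup G) ≤ N)))
  have h100 := Cfsg.Agent.Invol.SmallIndex.card_le_hundred hna hGc S.not_dvd_index hNne hNi hNodd
  have h60 := Cfsg.Agent.S0493.result (fun h => hna ⟨⟨fun a b => (IsCyclic.commGroup (α := G)).mul_comm a b⟩⟩) h100
  exact Cfsg.Agent.Fus.alternating_five_of_card h60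

end Cfsg.Agent.S3278
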