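import Cfsg.Statements.S4501
import Cfsg.Agent.Lib.Block.FourPQ.Basic
import Cfsg.Agent.Lib.Block.KleinOrder
import Cfsg.Agent.S3278

set_option autoImplicit false
open Cfsg

namespace Cfsg.Agent.S4501

open Cfsg.Agent.Block Cfsg.Agent.Char
open scoped ComplexConjugate

/-- A prime cannot divide two coprime neighbours. -/
theorem unit_contra {r : ℕ} (hr : r.Prime) {a : ℤ} (h : (r : ℤ) ∣ a) (ha : a = 1 ∨ a = -1) : False := by
  have h2 := hr.two_le
  rcases ha with rfl | rfl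
  · have := Int.le_of_dvd (by norm_num) h; omega
  · rw [dvd_neg] at h
    have := Int.le_of_dvd (by norm_num) h; omega

/-- The degrees of a principal block with two primes: one of them is three. -/
theorem degree_split {p q : ℕ} (hp : p.Prime) (hq : q.Prime) {x₂ x₃ x₄ h₂ h₃ h₄ : ℕ} {e : ℤ}
    (he : e = 1 ∨ e = -1) (n2 : x₂ ≠ 1)
    (r2 : (x₂ : ℤ) = 2 * h₂ - 1) (r3 : (x₃ : ℤ) = 2 * h₃ - e) (r4 : (x₄ : ℤ) = 2 * h₄ + 1)
    (n3 : x₃ ≠ 1) (n4 : x₄ ≠ 1) (hrel : 1 + (x₂ : ℤ) + e * x₃ - x₄ = 0)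
    (hx : ∀ r : ℕ, r.Prime → r ∣ x₂ ∨ r ∣ x₃ ∨ r ∣ x₄ ∨ r ∣ h₂ ∨ r ∣ h₃ ∨ r ∣ h₄ → r = p ∨ r = q) :
    (e = -1 ∧ x₃ = 3) ∨ x₄ = 3 := by
  have he2 : e * e = 1 := by rcases he with rfl | rfl <;> norm_num
  by_contra hcon
  have d2 : h₂ ≠ 1 := fun h => n2 (by rw [h] at r2; omega)
  have d3 : h₃ ≠ 1 := fun h => by
    rw [h] at r3
    rcases he with rfl | rfl
    · exact n3 (by omega)
    · exact hcon (Or.inl ⟨rfl, by omega⟩)
  have d4 : h₄ ≠ 1 := fun h => hcon (Or.inr (by rw [h] at r4; omega))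
  have split : ∀ {x h : ℕ} {d : ℤ}, x ≠ 1 → h ≠ 1 → (d = 1 ∨ d = -1) → 2 * (h : ℤ) - x = d →
      (∀ r : ℕ, r.Prime → r ∣ x ∨ r ∣ h → r = p ∨ r = q) →
      ((p : ℤ) ∣ x ∧ (q : ℤ) ∣ h) ∨ ((q : ℤ) ∣ x ∧ (p : ℤ) ∣ h) := by
    intro x h d hx1 hh1 hd hxd hall
    obtain ⟨r, hr, hrx⟩ := Nat.exists_prime_and_dvd hx1
    obtain ⟨s, hs, hsh⟩ := Nat.exists_prime_and_dvd hh1
    have hrs : r ≠ s := by
      rintro rfl
      exact unit_contra hr (hxd ▸ dvd_sub (Dvd.dvd.mul_left (Int.natCast_dvd_natCast.2 hsh) 2)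
        (Int.natCast_dvd_natCast.2 hrx)) hd
    rcases hall r hr (Or.inl hrx) with rfl | rfl <;> rcases hall s hs (Or.inr hsh) with rfl | rfl
    · exact absurd rfl hrs
    · exact Or.inl ⟨Int.natCast_dvd_natCast.2 hrx, Int.natCast_dvd_natCast.2 hsh⟩
    · exact Or.inr ⟨Int.natCast_dvd_natCast.2 hrx, Int.natCast_dvd_natCast.2 hsh⟩
    · exact absurd rfl hrs
  have k2 := split n2 d2 (d := 1) (Or.inl rfl) (by omega) fun r hr h => hx r hr (by tauto)
  have k3 := split n3 d3 (d := e) he (by omega) fun r hr h => hx r hr (by tauto)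
  have k4 := split n4 d4 (d := -1) (Or.inr rfl) (by omega) fun r hr h => hx r hr (by tauto)
  -- the one standing alone
  have all_same : ∀ {r : ℕ}, r.Prime → (r : ℤ) ∣ x₂ → (r : ℤ) ∣ x₃ → (r : ℤ) ∣ x₄ → False :=
    fun {r} hr a b c => unit_contra hr (a := 1) (by
      have : (1 : ℤ) = (x₄ : ℤ) - x₂ - e * x₃ := by linarith
      rw [this]
      exact dvd_sub (dvd_sub c a) (b.mul_left _)) (Or.inl rfl)
  have lone2 : ∀ {r : ℕ}, r.Prime → (r : ℤ) ∣ x₂ → (r : ℤ) ∣ h₃ → (r : ℤ) ∣ h₄ → False :=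
    fun {r} hr a b c => unit_contra hr (a := 1) (by
      have h0 : (1 : ℤ) = x₂ + (2 * e) * h₃ - 2 * h₄ := by
        rw [r3] at hrel; linear_combination -hrel - r4 - he2
      rw [h0]
      exact dvd_sub (dvd_add a (b.mul_left _)) (c.mul_left _)) (Or.inl rfl)
  have lone3 : ∀ {r : ℕ}, r.Prime → (r : ℤ) ∣ x₃ → (r : ℤ) ∣ h₂ → (r : ℤ) ∣ h₄ → False :=
    fun {r} hr a b c => unit_contra hr (a := e * e) (by
      have h0 : e * e = e * x₃ + 2 * h₂ - 2 * h₄ := by linear_combination -hrel + r2 + he2 - r4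
      rw [h0]
      exact dvd_sub (dvd_add (a.mul_left _) (b.mul_left _)) (c.mul_left _)) (Or.inl he2)
  have lone4 : ∀ {r : ℕ}, r.Prime → (r : ℤ) ∣ x₄ → (r : ℤ) ∣ h₂ → (r : ℤ) ∣ h₃ → False :=
    fun {r} hr a b c => unit_contra hr (a := -1) (by
      have h0 : (-1 : ℤ) = x₄ - 2 * h₂ - (2 * e) * h₃ := by
        linear_combination hrel - r2 - e * r3 + he2
      rw [h0]
      exact dvd_sub (dvd_sub a (b.mul_left _)) (c.mul_left _)) (Or.inr rfl)
  rcases k2 with ⟨a2, b2⟩ | ⟨a2, b2⟩ <;> rcases k3 with ⟨a3, b3⟩ | ⟨a3, b3⟩ <;>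
    rcases k4 with ⟨a4, b4⟩ | ⟨a4, b4⟩
  · exact all_same hp a2 a3 a4
  · exact lone4 hq a4 b2 b3
  · exact lone3 hq a3 b2 b4
  · exact lone2 hp a2 b3 b4
  · exact lone2 hq a2 b3 b4
  · exact lone3 hp a3 b2 b4
  · exact lone4 hp a4 b2 b3
  · exact all_same hq a2 a3 a4

/-- Order `4 p^a q^b`. -/
theorem four_case {G : Type*} [Group G] [Finite G] [IsSimpleGroup G] (hna : ∃ x y : G, x * y ≠ y * x)
    {p q a b : ℕ} (hp : p.Prime) (hq : q.Prime) (hcard : Nat.card G = 4 * p ^ a * q ^ b) :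
    Nonempty (G ≃* alternatingGroup (Fin 5)) := by
  classical
  cases nonempty_fintype G
  haveI : Fact (Nat.Prime 2) := ⟨Nat.prime_two⟩
  have hdvd : ∀ r : ℕ, r.Prime → r ∣ Nat.card G → r = 2 ∨ r = p ∨ r = q := fun r hr hrd => by
    rw [hcard] at hrd
    rcases (Nat.Prime.dvd_mul hr).1 hrd with h | h
    · rcases (Nat.Prime.dvd_mul hr).1 h with h | h
      · exact Or.inl ((Nat.prime_dvd_prime_iff_eq hr Nat.prime_two).1
          (hr.dvd_of_dvd_pow (show r ∣ 2 ^ 2 from h)))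
      · exact Or.inr (Or.inl ((Nat.prime_dvd_prime_iff_eq hr hp).1 (hr.dvd_of_dvd_pow h)))
    · exact Or.inr (Or.inr ((Nat.prime_dvd_prime_iff_eq hr hq).1 (hr.dvd_of_dvd_pow h)))
  have hp2 : p ≠ 2 := fun e => Block.FourPQ.three_primes hna hp hq fun r hr hrd => by
    rcases hdvd r hr hrd with h | h | h <;> omega
  have hq2 : q ≠ 2 := fun e => Block.FourPQ.three_primes hna hp hq fun r hr hrd => by
    rcases hdvd r hr hrd with h | h | h <;> omega
  have hg₀ : Odd (p ^ a * q ^ b) := (hp.odd_of_ne_two hp2).pow.mul (hq.odd_of_ne_two hq2).pow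
  have hG : Nat.card G = 4 * (p ^ a * q ^ b) := by rw [hcard, mul_assoc]
  have hnc : ¬ ∃ N : Subgroup G, N.Normal ∧ Nat.card N = p ^ a * q ^ b := by
    rintro ⟨N, hN, hNc⟩
    rcases hN.eq_bot_or_eq_top with h | h
    · rw [h, Subgroup.card_bot] at hNc
      refine Block.FourPQ.three_primes hna Nat.prime_two Nat.prime_two fun r hr hrd => ?_
      rw [hG, ← hNc, mul_one] at hrd
      exact Or.inl ((Nat.prime_dvd_prime_iff_eq hr Nat.prime_two).1
        (hr.dvd_of_dvd_pow (show r ∣ 2 ^ 2 from hrd)))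
    · rw [h, Subgroup.card_top] at hNc
      have : 0 < p ^ a * q ^ b := Nat.pos_of_ne_zero fun e => by simp [e] at hg₀
      omega
  let P : Sylow 2 G := default
  obtain ⟨hP, hone⟩ := Block.KleinOrder.setup_of_no_complement P hg₀ hG hnc
  haveI := hP
  haveI : Nontrivial (P : Subgroup G) :=
    Finite.one_lt_card_iff_nontrivial.1 (by rw [hP.card_four]; norm_num)
  obtain ⟨J₀, hJ₀⟩ := exists_ne (1 : (P : Subgroup G))
  set J : G := (J₀ : G) with hJdef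
  have hJ : orderOf J = 2 := by
    rw [hJdef, Subgroup.orderOf_coe]
    exact orderOf_eq_prime (by rw [pow_two]; exact IsKleinFour.mul_self J₀) hJ₀
  obtain ⟨M, hM⟩ := exists_isPModular 2 Nat.prime_two
  obtain ⟨z₂, z₃, z₄, ε, hε, n2, n3, d23, d24, d34, hB, hval, m2, m3, m4, hrel⟩ :=
    Block.klein_principal hM P hP hone
  obtain ⟨v2, v3, v4⟩ := hval J hJ
  have n4 : (z₄ : G → ℂ) ≠ fun _ => 1 := fun h => by
    rw [h] at v4; norm_num at v4
  set x₂ := charDegree (z₂ : G → ℂ) with hx₂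
  set x₃ := charDegree (z₃ : G → ℂ) with hx₃
  set x₄ := charDegree (z₄ : G → ℂ) with hx₄
  have hrel1 : 1 + (x₂ : ℤ) + ε * x₃ - x₄ = 0 := by
    have h := hrel 1 (by simp)
    rw [charDeg_spec', charDeg_spec', charDeg_spec', ← hx₂, ← hx₃, ← hx₄] at h
    exact_mod_cast h
  obtain ⟨u2, hu2⟩ := m2
  obtain ⟨u3, hu3⟩ := m3
  obtain ⟨u4, hu4⟩ := m4
  have hpos2 : 0 < x₂ := charDeg_pos z₂
  have hpos3 : 0 < x₃ := charDeg_pos z₃
  have hpos4 : 0 < x₄ := charDeg_pos z₄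
  obtain ⟨h₂, r2, o2⟩ : ∃ h : ℕ, (x₂ : ℤ) = 2 * h - 1 ∧ Odd h :=
    ⟨((x₂ + 1) / 2), by omega, Nat.odd_iff.2 (by omega)⟩
  obtain ⟨h₃, r3, o3⟩ : ∃ h : ℕ, (x₃ : ℤ) = 2 * h - ε ∧ Odd h := by
    rcases hε with rfl | rfl
    · exact ⟨((x₃ + 1) / 2), by omega, Nat.odd_iff.2 (by omega)⟩
    · exact ⟨((x₃ - 1) / 2), by omega, Nat.odd_iff.2 (by omega)⟩
  obtain ⟨h₄, r4, o4⟩ : ∃ h : ℕ, (x₄ : ℤ) = 2 * h + 1 ∧ Odd h :=
    ⟨((x₄ - 1) / 2), by omega, Nat.odd_iff.2 (by omega)⟩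
  set c := Nat.card (Subgroup.centralizer ({J} : Set G)) with hc
  set cP := Nat.card (Subgroup.centralizer ((P : Subgroup G) : Set G)) with hcP
  have hf := Block.KleinOrder.order_formula hM hP hone J₀.2 hJ
  have t4 : trivialIrr G ≠ z₄ := fun h => n4 (by rw [← h]; rfl)
  have t2 : trivialIrr G ≠ z₂ := fun h => n2 (by rw [← h]; rfl)
  have t3 : trivialIrr G ≠ z₃ := fun h => n3 (by rw [← h]; rfl)
  rw [show (Finset.univ.filter (· ∈ principalBlock M G)) = {trivialIrr G, z₂, z₃, z₄} from ?_] at hf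
  swap
  · ext χ
    simp only [Finset.mem_filter, Finset.mem_univ, true_and, hB, Set.mem_setOf_eq,
      Finset.mem_insert, Finset.mem_singleton]
    exact or_congr ⟨fun h => Subtype.ext h, fun h => by rw [h]; rfl⟩ Iff.rfl
  rw [Finset.sum_insert (by simp [t2, t3, t4]), Finset.sum_insert (by simp [d23, d24]),
    Finset.sum_pair d34, ← hJdef, v2, v3, v4,
    show ((trivialIrr G : IrrCharacter G) : G → ℂ) J = 1 from rfl,
    show ((trivialIrr G : IrrCharacter G) : G → ℂ) 1 = 1 from rfl,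
    charDeg_spec', charDeg_spec', charDeg_spec', ← hx₂, ← hx₃, ← hx₄, ← hc, ← hcP] at hf
  have hkey : c ^ 3 * (x₂ * x₃ * x₄) = Nat.card G * cP ^ 2 * (h₂ * h₃ * h₄) := by
    have hε3 : ((ε : ℂ)) ^ 3 = ε := by rcases hε with rfl | rfl <;> norm_num
    have hεε : ((ε : ℂ)) * ε = 1 := by rcases hε with rfl | rfl <;> norm_num
    have e2 : (x₂ : ℂ) ≠ 0 := Nat.cast_ne_zero.2 hpos2.ne'
    have e3 : (x₃ : ℂ) ≠ 0 := Nat.cast_ne_zero.2 hpos3.ne'
    have e4 : (x₄ : ℂ) ≠ 0 := Nat.cast_ne_zero.2 hpos4.ne'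
    have q2 : (x₂ : ℂ) = 2 * h₂ - 1 := by exact_mod_cast r2
    have q3 : (x₃ : ℂ) = 2 * h₃ - ε := by exact_mod_cast r3
    have q4 : (x₄ : ℂ) = 2 * h₄ + 1 := by exact_mod_cast r4
    have qr : 1 + (x₂ : ℂ) + ε * x₃ - x₄ = 0 := by exact_mod_cast hrel1
    rw [hε3] at hf
    field_simp at hf
    have hid : (x₂ : ℂ) * x₃ * x₄ + x₃ * x₄ + ε * x₂ * x₄ - x₂ * x₃ =
        (x₂ + 1) * (x₃ + ε) * (x₄ - 1) := by
      linear_combination (ε : ℂ) * qr - (x₃ : ℂ) * hεε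
    have : ((c ^ 3 * (x₂ * x₃ * x₄) : ℕ) : ℂ) = ((Nat.card G * cP ^ 2 * (h₂ * h₃ * h₄) : ℕ) : ℂ) := by
      push_cast
      rw [show (x₂ : ℂ) + 1 = 2 * h₂ by rw [q2]; ring, show (x₃ : ℂ) + ε = 2 * h₃ by rw [q3]; ring,
        show (x₄ : ℂ) - 1 = 2 * h₄ by rw [q4]; ring] at hid
      linear_combination (1 / 8 : ℂ) * hf + (Nat.card G : ℂ) * (cP : ℂ) ^ 2 * (1 / 8) * hid
    exact_mod_cast this
  have hdiv : ∀ r : ℕ, r.Prime → r ∣ x₂ ∨ r ∣ x₃ ∨ r ∣ x₄ ∨ r ∣ h₂ ∨ r ∣ h₃ ∨ r ∣ h₄ →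
      r = p ∨ r = q := by
    intro r hr hall
    have hx : ∀ χ : IrrCharacter G, r ∣ charDegree (χ : G → ℂ) → r ∣ Nat.card G :=
      fun χ h => h.trans (IsIrr.degree_dvd_card χ.2 (charDeg_spec' χ))
    have hr2 : r ≠ 2 := by
      rintro rfl
      rcases hall with h | h | h | h | h | h
      · omega
      · rcases hε with rfl | rfl <;> omega
      · omega
      · exact Nat.not_even_iff_odd.2 o2 (even_iff_two_dvd.2 h)
      · exact Nat.not_even_iff_odd.2 o3 (even_iff_two_dvd.2 h)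
      · exact Nat.not_even_iff_odd.2 o4 (even_iff_two_dvd.2 h)
    refine (hdvd r hr ?_).resolve_left hr2
    have hh : r ∣ h₂ * h₃ * h₄ → r ∣ Nat.card G := fun h => by
      have h1 : r ∣ c ^ 3 * (x₂ * x₃ * x₄) := hkey ▸ h.mul_left _
      rcases (Nat.Prime.dvd_mul hr).1 h1 with h | h
      · exact (hr.dvd_of_dvd_pow h).trans (Subgroup.card_subgroup_dvd_card _)
      · rcases (Nat.Prime.dvd_mul hr).1 h with h | h
        · rcases (Nat.Prime.dvd_mul hr).1 h with h | h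
          · exact hx z₂ h
          · exact hx z₃ h
        · exact hx z₄ h
    rcases hall with h | h | h | h | h | h
    · exact hx z₂ h
    · exact hx z₃ h
    · exact hx z₄ h
    · exact hh ((h.mul_right _).mul_right _)
    · exact hh ((h.mul_left _).mul_right _)
    · exact hh (h.mul_left _)
  obtain ⟨χ, hχB, hχ3, hχJ⟩ : ∃ χ : IrrCharacter G, χ ∈ principalBlock M G ∧
      charDegree (χ : G → ℂ) = 3 ∧ (χ : G → ℂ) J = -1 := by
    rcases degree_split hp hq hε (Block.FourPQ.degree_ne_one z₂ n2 hna) r2 r3 r4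
      (Block.FourPQ.degree_ne_one z₃ n3 hna) (Block.FourPQ.degree_ne_one z₄ n4 hna) hrel1 hdiv with
      ⟨rfl, h⟩ | h
    · exact ⟨z₃, by rw [hB]; exact Or.inr (Or.inr (Or.inl rfl)), h, by rw [v3]; norm_num⟩
    · exact ⟨z₄, by rw [hB]; exact Or.inr (Or.inr (Or.inr rfl)), h, v4⟩
  have hχne : (χ : G → ℂ) ≠ fun _ => 1 := fun h => by rw [h] at hχJ; norm_num at hχJ
  have hJ1 : J ≠ 1 := fun h => by simp [h] at hJ
  obtain ⟨K, hKn, hK, hidx⟩ := Block.klein_centralizer_complement P hP J₀.2 hJ1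
  have hKbot : K = ⊥ := (Subgroup.eq_bot_iff_forall _).2 fun k hk => by
    have h1 := Block.KleinOrder.value_const hM hJ hKn hK hχB hk
    have hcomm : Commute J (k : G) := (Subgroup.mem_centralizer_singleton_iff.1 k.2).symm
    have h2 := ConstFour.sq_value (Block.FourPQ.commutator_top hna) χ.2
      (by rw [charDeg_spec', hχ3]; norm_num) (J * (k : G))
    rw [h1, hχJ, hcomm.mul_pow, show J ^ 2 = 1 by rw [← hJ, pow_orderOf_eq_one], one_mul,
      map_neg, map_one] at h2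
    have h3 : (k : G) ^ 2 = 1 := Block.FourPQ.faithful χ hχne hna _ (by
      rw [h2, charDeg_spec', hχ3]; norm_num)
    by_contra hne
    refine hK ?_
    have ho : orderOf (⟨k, hk⟩ : K) = 2 := orderOf_eq_prime (Subtype.ext (Subtype.ext h3))
      fun e => hne (congrArg Subtype.val e)
    have h4 := orderOf_dvd_natCard (⟨k, hk⟩ : K)
    rwa [ho] at h4
  have hC4 : Nat.card (Subgroup.centralizer ({J} : Set G)) = 4 := by
    rw [← K.card_mul_index, hidx, hKbot, Subgroup.card_bot]; norm_num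
  have hPC : (P : Subgroup G) ≤ Subgroup.centralizer ({J} : Set G) := fun x hx =>
    Subgroup.mem_centralizer_singleton_iff.2
      (congrArg Subtype.val (IsKleinFour.isMulCommutative.is_comm.comm (⟨x, hx⟩ : (P : Subgroup G)) J₀))
  have hPeq : (P : Subgroup G) = Subgroup.centralizer ({J} : Set G) :=
    Subgroup.eq_of_le_of_card_ge hPC (by rw [hC4, hP.card_four])
  refine Cfsg.Agent.S3278.result J hJ (P : Subgroup G) hPC hP ?_ ?_
  · rw [hPeq, Subgroup.relIndex_self]; norm_num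
  · rw [hPeq, Subgroup.subgroupOf_self]; infer_instance

/-- Let G be a non-abelian finite simple group and p, q distinct primes. If the order of G is 4·p^a·q^b with a ≤ 2, then G is isomorphic to the alternating group of degree 5. If the order of G is 3·p^a·q^b with a ≤ 2, then G is isomorphic to the alternating group of degree 5 or to PSL(2,7). -/
theorem result {G : Type*} [Group G] [Finite G] [IsSimpleGroup G] (hna : ∃ x y : G, x * y ≠ y * x) (p q a b : ℕ) (hp : p.Prime) (hq : q.Prime) (hpq : p ≠ q) (ha : a ≤ 2) : (Nat.card G = 4 * p ^ a * q ^ b → Nonempty (G ≃* alternatingGroup (Fin 5))) ∧ (Nat.card G = 3 * p ^ a * q ^ b → Nonempty (G ≃* alternatingGroup (Fin 5)) ∨ Nonempty (G ≃* Matrix.ProjectiveSpecialLinearGroup (Fin 2) (ZMod 7))) :=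
  ⟨four_case hna hp hq, Block.FourPQ.three_case hna hp hq hpq ha⟩

end Cfsg.Agent.S4501
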