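import Cfsg.Statements.S0976
import Cfsg.Agent.Lib.Block.OrderPrimeSelfTwo

set_option autoImplicit false
open Cfsg

namespace Cfsg.Agent.S0976

open Cfsg.Agent.Block Cfsg.Agent.Char

/-- No finite simple group has order 4032 = 2^6 * 3^2 * 7. -/
theorem result {G : Type*} [Group G] [Finite G] [IsSimpleGroup G] : Nat.card G ≠ 4032 := by
  classical
  intro h
  haveI : Fact (Nat.Prime 7) := ⟨by norm_num⟩
  have hna : ¬ IsMulCommutative G := small_not_comm (by rw [h]; norm_num)
  obtain ⟨M, hM⟩ := exists_isPModular 7 (by norm_num)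
  obtain ⟨P⟩ : Nonempty (Sylow 7 G) := inferInstance
  have hcard : Nat.card G = 7 * 576 := by rw [h]
  obtain ⟨e, k, c, hk1, hkm, he, he1, hep, hc, hprod⟩ :=
    OrdP.exists_e' hna hcard (by norm_num) (by norm_num) (by norm_num) P
  have hP := OrdP.card_sylow_eq hcard (by norm_num) P
  have hcm : c ∣ 576 := ⟨e * (7 * k + 1), by rw [← mul_assoc]; exact hprod.symm⟩
  have he6 : e ≤ 6 := Nat.le_of_dvd (by norm_num) hep
  have hk : k ≤ 82 := by have := Nat.le_of_dvd (by norm_num) hkm; omega
  have hcase : (e = 2 ∧ c = 1) ∨ (e = 2 ∧ c ≠ 1) ∨ (e = 3 ∧ c ≠ 1) := by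
    interval_cases k <;> first | (norm_num at hkm; done) | (interval_cases e <;> omega)
  rcases hcase with ⟨rfl, rfl⟩ | ⟨rfl, hc1⟩ | ⟨rfl, hc1⟩
  · obtain ⟨d, d', b, hd, hd', hlt, hd2, hmod, hadj, hpd', hb, hb0, hineq⟩ :=
      OrdP.two_self hna hM (by norm_num) P hP (by rw [hc]) he
    rw [h, show (4032 : ℕ) = 2 ^ 6 * 63 by norm_num, Nat.factorization_mul (by norm_num) (by norm_num),
      Finsupp.add_apply, Nat.Prime.factorization_pow Nat.prime_two, Finsupp.single_eq_same,
      Nat.factorization_eq_zero_of_not_dvd (by norm_num : ¬ 2 ∣ 63), add_zero] at hb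
    rw [h] at hd hd' hlt hineq
    have hb' : 64 ≤ b := Nat.le_of_dvd hb0 hb
    have hb2 := Nat.pow_le_pow_left hb' 2
    have hd63 : d ≤ 63 := by nlinarith
    have h81 : 28672 * d' ≤ 16128 * d := by nlinarith
    interval_cases d <;> first | omega | (norm_num at hd; done) | (norm_num at hpd'; done)
  · obtain ⟨q, v, hq, hqp, hv, hov⟩ := OrdP.exists_prime_elem (p := 7) (by norm_num) hc hcm hc1
    refine OrdP.two_false hna hM (by norm_num) P hP he hq hqp hv hov ?_
    intro d hd hlt hdc d' hd' hadj hpd'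
    rw [h] at hd hd' hlt
    have hd63 : d ≤ 63 := by nlinarith
    interval_cases d <;> first
      | omega
      | (norm_num at hd; done)
      | (rcases hadj with ha | ha
         · obtain rfl := eq_tsub_of_add_eq ha
           first | omega | (norm_num at hd'; done) | (norm_num at hpd'; done)
         · subst ha
           first | omega | (norm_num at hd'; done) | (norm_num at hpd'; done))
  · obtain ⟨q, v, hq, hqp, hv, hov⟩ := OrdP.exists_prime_elem (p := 7) (by norm_num) hc hcm hc1
    obtain ⟨X, y, s, ε, hX, hXd, -, hε, -, hrel, hcol⟩ :=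
      OrdP.data hna hM (by norm_num) P hP he he1 hep (by norm_num)
    obtain ⟨hsum, hsz⟩ := OrdP.degree_data hrel hcol
    have hdy := charDeg_dvd y
    rw [h] at hdy hsz
    obtain ⟨χ, χ', hne, rfl⟩ := Finset.card_eq_two.1 (show X.card = 2 by omega)
    have key : ∀ ξ ∈ ({χ, χ'} : Finset (Cfsg.IrrCharacter G)),
        (s ξ * (charDegree (ξ : G → ℂ) : ℤ) = 36 ∨ s ξ * (charDegree (ξ : G → ℂ) : ℤ) = -48) ∧
          1296 ≤ charDegree (ξ : G → ℂ) ^ 2 := by
      intro ξ hξ
      obtain ⟨hneξ, hs, hd, hcong⟩ := hXd ξ hξ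
      have hl := OrdP.deg_large hna hM hneξ hs hd hcong hq hqp hv hov
      have hdv := charDeg_dvd ξ
      rw [h] at hdv
      have h1 : charDegree (ξ : G → ℂ) ^ 2 ≤ ∑ η ∈ ({χ, χ'} : Finset (Cfsg.IrrCharacter G)),
          charDegree (η : G → ℂ) ^ 2 :=
        Finset.single_le_sum (f := fun η : Cfsg.IrrCharacter G => charDegree (η : G → ℂ) ^ 2)
          (fun η _ => Nat.zero_le _) hξ
      have hd63 : charDegree (ξ : G → ℂ) ≤ 63 := by nlinarith
      generalize charDegree (ξ : G → ℂ) = d at hl hdv hd hd63 ⊢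
      rw [Int.ModEq] at hd
      interval_cases d <;> first
        | omega
        | (norm_num at hdv; done)
        | (rcases hs with e | e <;> rw [e] at hd ⊢ <;> norm_num at hd ⊢)
    obtain ⟨h1, h1'⟩ := key χ (Finset.mem_insert_self _ _)
    obtain ⟨h2, h2'⟩ := key χ' (Finset.mem_insert_of_mem (Finset.mem_singleton_self χ'))
    rw [Finset.sum_pair hne] at hsum hsz
    norm_num at hsz
    have hy26 : charDegree (y : G → ℂ) ≤ 26 := by nlinarith
    rcases hε with rfl | rfl <;> rcases h1 with e1 | e1 <;> rcases h2 with e2 | e2 <;>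
      rw [e1, e2] at hsum <;> first | omega |
      (have hy : charDegree (y : G → ℂ) = 11 := by omega
       rw [hy] at hdy
       norm_num at hdy)

end Cfsg.Agent.S0976
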