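import Cfsg.Statements.S0977
import Cfsg.Agent.Lib.Block.OrderPrimeSelfFull
import Cfsg.Agent.Lib.Block.OrderPrimeCount

set_option autoImplicit false
open Cfsg

namespace Cfsg.Agent.S0977

open Cfsg.Agent.Block Cfsg.Agent.Char

set_option maxHeartbeats 1000000

/-- The possible degrees, values at the involution and weights. -/
private def kinds : List (ℤ × ℤ × ℤ × ℤ × ℤ) :=
  [
    (-4, 16, 0, 0, 0),
    (6, 36, 2, 576, 4),
    (6, 36, -2, 576, 4),
    (-9, 81, -1, -96, 1),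
    (16, 256, 0, 0, 0),
    (16, 256, 4, 864, 16),
    (16, 256, -4, 864, 16),
    (-24, 576, 0, 0, 0),
    (-24, 576, 4, -576, 16),
    (-24, 576, -4, -576, 16),
    (36, 1296, 0, 0, 0),
    (36, 1296, 4, 384, 16),
    (36, 1296, -4, 384, 16),
    (36, 1296, 8, 1536, 64),
    (36, 1296, -8, 1536, 64),
    (-54, 2916, 2, -64, 4),
    (-54, 2916, -2, -64, 4),
    (-54, 2916, 6, -576, 36),
    (-54, 2916, -6, -576, 36),
    (-54, 2916, 10, -1600, 100),
    (-54, 2916, -10, -1600, 100)]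

private def chk (t : ℤ × ℤ × ℤ × ℤ × ℤ) : Bool :=
  !(decide (t.1 = -1) && decide (t.2.1 ≤ 4319) && decide (t.2.2.1 = -1) &&
    (List.range 220).any fun b => decide ((b : ℤ) * b = 864 + t.2.2.2.1) &&
      decide (1 + t.2.2.2.2 ≤ (b : ℤ)))

private theorem chk_all : OrdP.allPicks chk kinds 4 0 = true := by decide +kernel

private theorem kind_val {d : ℕ} {e A : ℤ} (hs : e = 1 ∨ e = -1) (hd2 : 2 ≤ d) (hdv : d ∣ 4320)
    (hd65 : d ≤ 65) (hd : (d : ℤ) ≡ e [ZMOD 5]) (h4 : (4 : ℤ) ∣ (d : ℤ) - A)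
    (hb1 : 0 ≤ (d : ℤ) + 4 * e + 5 * A) (hb2 : 0 ≤ (d : ℤ) + 4 * e - 5 * A) :
    (e * (d : ℤ), (d : ℤ) ^ 2, e * A, 864 * (e * A ^ 2) / (d : ℤ), (e * A) ^ 2) ∈ kinds ∧
      (d : ℤ) ∣ 864 * (e * A ^ 2) := by
  rw [Int.ModEq] at hd
  have hk : (e = -1 ∧ d = 4) ∨ (e = 1 ∧ d = 6) ∨ (e = -1 ∧ d = 9) ∨ (e = 1 ∧ d = 16) ∨
      (e = -1 ∧ d = 24) ∨ (e = 1 ∧ d = 36) ∨ (e = -1 ∧ d = 54) := by
    rcases hs with rfl | rfl <;> interval_cases d <;> first
      | omega
      | (norm_num at hdv; done)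
  rcases hk with ⟨rfl, rfl⟩ | ⟨rfl, rfl⟩ | ⟨rfl, rfl⟩ | ⟨rfl, rfl⟩ | ⟨rfl, rfl⟩ | ⟨rfl, rfl⟩ | ⟨rfl, rfl⟩
  · obtain rfl : A = 0 := by omega
    exact ⟨by decide, by norm_num⟩
  · rcases (by omega : A = 2 ∨ A = -2) with rfl | rfl <;>
      exact ⟨by decide, by norm_num⟩
  · obtain rfl : A = 1 := by omega
    exact ⟨by decide, by norm_num⟩
  · rcases (by omega : A = 0 ∨ A = 4 ∨ A = -4) with rfl | rfl | rfl <;>
      exact ⟨by decide, by norm_num⟩
  · rcases (by omega : A = 0 ∨ A = -4 ∨ A = 4) with rfl | rfl | rfl <;>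
      exact ⟨by decide, by norm_num⟩
  · rcases (by omega : A = 0 ∨ A = 4 ∨ A = -4 ∨ A = 8 ∨ A = -8) with rfl | rfl | rfl | rfl | rfl <;>
      exact ⟨by decide, by norm_num⟩
  · rcases (by omega : A = 2 ∨ A = -2 ∨ A = 6 ∨ A = -6 ∨ A = 10 ∨ A = -10) with rfl | rfl | rfl | rfl | rfl | rfl <;>
      exact ⟨by decide, by norm_num⟩

/-- No finite simple group has order 4320 = 2^5 * 3^3 * 5. -/
theorem result {G : Type*} [Group G] [Finite G] [IsSimpleGroup G] : Nat.card G ≠ 4320 := by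
  intro h
  haveI : Fact (Nat.Prime 5) := ⟨by norm_num⟩
  have hna : ¬ IsMulCommutative G := small_not_comm (by rw [h]; norm_num)
  obtain ⟨M, hM⟩ := exists_isPModular 5 (by norm_num)
  obtain ⟨P⟩ : Nonempty (Sylow 5 G) := inferInstance
  have hcard : Nat.card G = 5 * 864 := by rw [h]
  obtain ⟨e, k, c, hk1, hkm, he, he1, hep, hc, hprod⟩ :=
    OrdP.exists_e' hna hcard (by norm_num) (by norm_num) (by norm_num) P
  have hP := OrdP.card_sylow_eq hcard (by norm_num) P
  have hcm : c ∣ 864 := ⟨e * (5 * k + 1), by rw [← mul_assoc]; exact hprod.symm⟩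
  have he4 : e ≤ 4 := Nat.le_of_dvd (by norm_num) hep
  have he24 : e = 2 ∨ e = 4 := by interval_cases e <;> omega
  by_cases hc1 : c = 1
  · subst hc1
    rcases he24 with rfl | rfl
    · omega
    obtain ⟨Z, s, a, b, hZc, hZ, hsd, hsa, hsz, hat, heq⟩ :=
      OrdP.full_self hna hM (by norm_num) P hP (by rw [hc]) (by rw [he])
    rw [h] at hsz heq
    set g : Cfsg.IrrCharacter G → ℤ × ℤ × ℤ × ℤ × ℤ := fun χ =>
      (s χ * (charDegree (χ : G → ℂ) : ℤ), (charDegree (χ : G → ℂ) : ℤ) ^ 2, s χ * a χ,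
        864 * (s χ * a χ ^ 2) / (charDegree (χ : G → ℂ) : ℤ), (s χ * a χ) ^ 2) with hg
    have key : ∀ χ ∈ Z, g χ ∈ kinds ∧
        (charDegree (χ : G → ℂ) : ℤ) ∣ 864 * (s χ * a χ ^ 2) := by
      intro χ hχ
      obtain ⟨hd2, hdv, hlt, hs, hd, h4, hb1, hb2⟩ := hZ χ hχ
      rw [h] at hdv hlt
      push_cast at hb1 hb2
      exact kind_val hs hd2 hdv (by nlinarith) hd h4 (by linarith) (by linarith)
    have hchk := OrdP.allPicks_sound chk kinds 4 0 chk_all Z g (by omega) fun χ hχ => (key χ hχ).1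
    rw [zero_add] at hchk
    have hsum1 : (∑ χ ∈ Z, g χ).1 = -1 := by
      rw [Prod.fst_sum]
      simp only [hg]
      omega
    have hsum2 : (∑ χ ∈ Z, g χ).2.1 ≤ 4319 := by
      simp only [Prod.snd_sum, Prod.fst_sum, hg]
      have : ((1 + ∑ χ ∈ Z, charDegree (χ : G → ℂ) ^ 2 : ℕ) : ℤ) ≤ ((4320 : ℕ) : ℤ) := by
        exact_mod_cast hsz
      push_cast at this
      linarith
    have hsum3 : (∑ χ ∈ Z, g χ).2.2.1 = -1 := by
      simp only [Prod.snd_sum, Prod.fst_sum, hg]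
      omega
    have hsum4 : (b : ℤ) * b = 864 + (∑ χ ∈ Z, g χ).2.2.2.1 := by
      simp only [Prod.snd_sum, Prod.fst_sum, hg]
      apply Int.cast_injective (α := ℚ)
      push_cast
      rw [Finset.sum_congr rfl (g := fun χ => 864 * (((s χ * a χ ^ 2 : ℤ) : ℚ) /
        (charDegree (χ : G → ℂ) : ℚ))) fun χ hχ => by
          rw [Int.cast_div (key χ hχ).2 (Int.cast_ne_zero.2
            (Int.natCast_ne_zero.2 (charDeg_pos χ).ne'))]
          push_cast
          ring, ← Finset.mul_sum]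
      push_cast at heq ⊢
      linarith
    have hsum5 : (∑ χ ∈ Z, g χ).2.2.2.2 + 1 ≤ (b : ℤ) := by
      simp only [Prod.snd_sum, hg]
      rw [Finset.sum_congr rfl (g := fun χ => a χ ^ 2) fun χ hχ => by
        rcases (hZ χ hχ).2.2.2.1 with e | e <;> simp [e]]
      linarith
    have hb : b < 220 := by
      by_contra hb'
      have h1 : (4 : ℤ) * (∑ χ ∈ Z, g χ).2.2.2.1 ≤ 864 * (∑ χ ∈ Z, g χ).2.2.2.2 := by
        simp only [Prod.snd_sum, Prod.fst_sum, hg, Finset.mul_sum]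
        refine Finset.sum_le_sum fun χ hχ => ?_
        obtain ⟨hd2, -, -, hs, hd, h4, hb1, hb2⟩ := hZ χ hχ
        obtain ⟨t, ht⟩ := (key χ hχ).2
        rw [ht, Int.mul_ediv_cancel_left _ (Int.natCast_ne_zero.2 (charDeg_pos χ).ne')]
        have hd4 : 4 ≤ charDegree (χ : G → ℂ) := by
          rw [Int.ModEq] at hd
          rcases hs with e | e <;> rw [e] at hd <;> omega
        rcases hs with e | e <;> rw [e] at ht ⊢ <;> nlinarith [sq_nonneg (a χ)]
      have h2 : (220 : ℤ) ≤ b := by exact_mod_cast (show 220 ≤ b by omega)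
      nlinarith
    refine absurd hchk ?_
    simp only [chk, Bool.not_eq_true', Bool.and_eq_true, decide_eq_true_eq, Bool.not_eq_false,
      List.any_eq_true, List.mem_range]
    exact ⟨⟨⟨hsum1, hsum2⟩, hsum3⟩, b, hb, hsum4, by linarith⟩
  obtain ⟨q, v, hq, hqp, hv, hov⟩ := OrdP.exists_prime_elem (p := 5) (by norm_num) hc hcm hc1
  rcases he24 with rfl | rfl
  · refine OrdP.two_false hna hM (by norm_num) P hP he hq hqp hv hov ?_
    intro d hd hlt hdc d' hd' hadj hpd'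
    rw [h] at hd hd' hlt
    have hd65 : d ≤ 65 := by nlinarith
    interval_cases d <;> first
      | omega
      | (norm_num at hd; done)
      | (rcases hadj with ha | ha
         · obtain rfl := eq_tsub_of_add_eq ha
           first | omega | (norm_num at hd'; done) | (norm_num at hpd'; done)
         · subst ha
           first | omega | (norm_num at hd'; done) | (norm_num at hpd'; done))
  · refine OrdP.full_even_false hna hM (by norm_num) P hP he hq hqp hv hov ?_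
    intro d hd hlt hdc
    rw [h] at hd hlt
    have hd65 : d ≤ 65 := by nlinarith
    interval_cases d <;> first
      | omega
      | (norm_num at hd; done)
      | exact even_iff_two_dvd.2 (by norm_num)

end Cfsg.Agent.S0977
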