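import Cfsg.Statements.S0978
import Cfsg.Agent.Lib.Block.OrderPrimeSelfFull
import Cfsg.Agent.Lib.Block.OrderPrimeCount

set_option autoImplicit false
open Cfsg

namespace Cfsg.Agent.S0978

open Cfsg.Agent.Block Cfsg.Agent.Char

set_option maxHeartbeats 1000000

/-- Possible degrees, values at the involution and weights. -/
private def kinds : List (ℤ × ℤ × ℤ × ℤ × ℤ) :=
  [
    (8, 64, 0, 0, 0),
    (15, 225, 3, 432, 9),
    (15, 225, -1, 48, 1),
    (-20, 400, 0, 0, 0),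
    (36, 1296, 0, 0, 0),
    (36, 1296, 4, 320, 16),
    (36, 1296, -4, 320, 16),
    (-48, 2304, 0, 0, 0),
    (-48, 2304, -4, -240, 16),
    (-48, 2304, 4, -240, 16)]

private def chk (t : ℤ × ℤ × ℤ × ℤ × ℤ) : Bool :=
  !(decide (t.1 = -1) && decide (t.2.1 ≤ 5039) && decide (t.2.2.1 = -1) &&
    (List.range 185).any fun b => decide ((b : ℤ) * b = 720 + t.2.2.2.1) &&
      decide (1 + t.2.2.2.2 ≤ (b : ℤ)))

private theorem chk_all : OrdP.allPicks chk kinds 6 0 = true := by decide +kernel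

/-- Possible signed degrees when the centralizer has an element of another prime order. -/
private def bigKinds : List (ℤ × ℤ) := [(15, 225), (-20, 400), (36, 1296), (-48, 2304)]

private def chkBig (t : ℤ × ℤ) : Bool := !(decide (t.1 = -1) && decide (t.2 ≤ 5039))

private theorem chkBig_all : OrdP.allPicks chkBig bigKinds 6 0 = true := by decide +kernel

private theorem kind_deg {d : ℕ} {e : ℤ} (hs : e = 1 ∨ e = -1) (hd2 : 2 ≤ d) (hdv : d ∣ 5040)
    (hd70 : d ≤ 70) (hd : (d : ℤ) ≡ e [ZMOD 7]) :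
    (e = -1 ∧ d = 6) ∨ (e = 1 ∧ d = 8) ∨ (e = 1 ∧ d = 15) ∨ (e = -1 ∧ d = 20) ∨ (e = 1 ∧ d = 36) ∨ (e = -1 ∧ d = 48) := by
  rw [Int.ModEq] at hd
  rcases hs with rfl | rfl <;> interval_cases d <;> first
    | omega
    | (norm_num at hdv; done)

private theorem kind_val {d : ℕ} {e A : ℤ} (hs : e = 1 ∨ e = -1) (hd2 : 2 ≤ d) (hdv : d ∣ 5040)
    (hd70 : d ≤ 70) (hd : (d : ℤ) ≡ e [ZMOD 7]) (h4 : (4 : ℤ) ∣ (d : ℤ) - A)
    (hb1 : 0 ≤ (d : ℤ) + 6 * e + 7 * A) (hb2 : 0 ≤ (d : ℤ) + 6 * e - 7 * A) :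
    (e * (d : ℤ), (d : ℤ) ^ 2, e * A, 720 * (e * A ^ 2) / (d : ℤ), (e * A) ^ 2) ∈ kinds ∧
      (d : ℤ) ∣ 720 * (e * A ^ 2) := by
  rcases kind_deg hs hd2 hdv hd70 hd with ⟨rfl, rfl⟩ | ⟨rfl, rfl⟩ | ⟨rfl, rfl⟩ | ⟨rfl, rfl⟩ | ⟨rfl, rfl⟩ | ⟨rfl, rfl⟩
  · omega
  · obtain rfl : A = 0 := by omega
    exact ⟨by decide, by norm_num⟩
  · rcases (by omega : A = 3 ∨ A = -1) with rfl | rfl <;>
      exact ⟨by decide, by norm_num⟩
  · obtain rfl : A = 0 := by omega
    exact ⟨by decide, by norm_num⟩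
  · rcases (by omega : A = 0 ∨ A = 4 ∨ A = -4) with rfl | rfl | rfl <;>
      exact ⟨by decide, by norm_num⟩
  · rcases (by omega : A = 0 ∨ A = 4 ∨ A = -4) with rfl | rfl | rfl <;>
      exact ⟨by decide, by norm_num⟩

private theorem big_kind {d : ℕ} {e : ℤ} (hs : e = 1 ∨ e = -1) (hdv : d ∣ 5040) (hd70 : d ≤ 70)
    (hd : (d : ℤ) ≡ e [ZMOD 7]) (hl : d % 7 = 1 ∧ 2 * 7 + 1 ≤ d ∨ d % 7 = 7 - 1 ∧ 3 * 7 - 1 ≤ d) :
    (e = 1 ∧ d = 15) ∨ (e = -1 ∧ d = 20) ∨ (e = 1 ∧ d = 36) ∨ (e = -1 ∧ d = 48) := by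
  rcases kind_deg hs (by omega) hdv hd70 hd with h | h | h | h | h | h <;> omega

/-- The value of an element of order three of the centralizer on a character of degree fifteen. -/
private theorem value_three {G : Type*} [Group G] [Finite G] [IsSimpleGroup G]
    {M : Ideal Cfsg.AlgInt} [Fact (Nat.Prime 7)] (hna : ¬ IsMulCommutative G)
    (hM : Cfsg.IsPModular 7 M) {χ : Cfsg.IrrCharacter G} (hne : χ ≠ trivialIrr G)
    (hd : Cfsg.charDegree (χ : G → ℂ) = 15) {v : G} (hv : orderOf v = 3)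
    (hcong : ∀ k : ℕ, Cfsg.MemLocalIdeal M ((χ : G → ℂ) (v ^ k) - ((1 : ℤ) : ℂ))) :
    (χ : G → ℂ) v = ((-6 : ℤ) : ℂ) := by
  haveI : Fact (Nat.Prime 3) := ⟨Nat.prime_three⟩
  obtain ⟨a, ω, hω, hsum, hcg, hdet, hval⟩ := OrdP.spectrum hna hM χ (q := 3) (by norm_num)
    (by rw [← hv]; exact pow_orderOf_eq_one v) hcong
  have h0 := hcg (0 : ZMod 3)
  have h1 := hcg (1 : ZMod 3)
  have h2 := hcg (2 : ZMod 3)
  rw [if_pos rfl] at h0
  rw [if_neg (show (1 : ZMod 3) ≠ 0 from one_ne_zero)] at h1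
  rw [if_neg (show (2 : ZMod 3) ≠ 0 from fun e => by
    have : ((2 : ℕ) : ZMod 3) = 0 := by exact_mod_cast e
    rw [ZMod.natCast_eq_zero_iff] at this
    omega)] at h2
  have hu : ∀ f : ZMod 3 → ℂ, ∑ j, f j = f 0 + f 1 + f 2 := fun f => Fin.sum_univ_three f
  have hu' : ∀ f : ZMod 3 → ℕ, ∑ j, f j = f 0 + f 1 + f 2 := fun f => Fin.sum_univ_three f
  have hu'' : ∀ f : ZMod 3 → ZMod 3, ∑ j, f j = f 0 + f 1 + f 2 := fun f => Fin.sum_univ_three f
  rw [hu', hd] at hsum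
  rw [hu, show (0 : ZMod 3).val = 0 from rfl, show (1 : ZMod 3).val = 1 from rfl,
    show (2 : ZMod 3).val = 2 from rfl, pow_zero, pow_one, mul_one] at hval
  rw [hu'', mul_zero, zero_add, mul_one] at hdet
  have hdet' : 3 ∣ a 1 + a 2 * 2 := by
    rw [← ZMod.natCast_eq_zero_iff]
    push_cast
    exact hdet
  rw [Int.ModEq] at h0 h1 h2
  have hne' : ¬ (a 0 = 15) := fun e => by
    have h := eq_one_of_value' hne hd hval (by omega) (by omega) e
    rw [h, orderOf_one] at hv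
    omega
  obtain ⟨e0, e1, e2⟩ : a 0 = 1 ∧ a 1 = 7 ∧ a 2 = 7 := by omega
  have hg : (1 : ℂ) + ω + ω ^ 2 = 0 := by
    have := hω.geom_sum_eq_zero (by norm_num)
    simpa [Finset.sum_range_succ] using this
  rw [hval, e0, e1, e2]
  push_cast
  linear_combination 7 * hg
where
  eq_one_of_value' {χ : Cfsg.IrrCharacter G} {v : G} {a : ZMod 3 → ℕ} {ω : ℂ}
      (hne : χ ≠ trivialIrr G) (hd : Cfsg.charDegree (χ : G → ℂ) = 15)
      (hval : (χ : G → ℂ) v = (a 0 : ℂ) + (a 1 : ℂ) * ω + (a 2 : ℂ) * ω ^ 2)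
      (h1 : a 1 = 0) (h2 : a 2 = 0) (h0 : a 0 = 15) : v = 1 :=
    OrdP.eq_one_of_value hne (by rw [hval, charDeg_spec', hd, h0, h1, h2]; simp)

/-- No finite simple group has order 5040 = 2^4 * 3^2 * 5 * 7. -/
theorem result {G : Type*} [Group G] [Finite G] [IsSimpleGroup G] : Nat.card G ≠ 5040 := by
  classical
  intro h
  haveI : Fact (Nat.Prime 7) := ⟨by norm_num⟩
  have hp : Nat.Prime 7 := by norm_num
  have hna : ¬ IsMulCommutative G := small_not_comm (by rw [h]; norm_num)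
  obtain ⟨M, hM⟩ := exists_isPModular 7 hp
  obtain ⟨P⟩ : Nonempty (Sylow 7 G) := inferInstance
  have hcard : Nat.card G = 7 * 720 := by rw [h]
  obtain ⟨e, k, c, hk1, hkm, he, he1, hep, hc, hprod⟩ :=
    OrdP.exists_e' hna hcard (by norm_num) (by norm_num) (by norm_num) P
  have hP := OrdP.card_sylow_eq hcard (by norm_num) P
  have hcm : c ∣ 720 := ⟨e * (7 * k + 1), by rw [← mul_assoc]; exact hprod.symm⟩
  have he6 : e ≤ 6 := Nat.le_of_dvd (by norm_num) hep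
  have hk : k ≤ 102 := by have := Nat.le_of_dvd (by norm_num) hkm; omega
  have hcase : (e = 2 ∧ (2 ∣ c ∨ c = 3)) ∨ (e = 3 ∧ 2 ∣ c) ∨ e = 6 := by
    interval_cases k <;> first | (norm_num at hkm; done) | (interval_cases e <;> omega)
  set C := Subgroup.centralizer ((P : Subgroup G) : Set G) with hC
  have hreg : ∀ {v : G} {q : ℕ}, q.Prime → q ≠ 7 → orderOf v = q → ∀ n : ℕ, ¬ 7 ∣ orderOf (v ^ n) :=
    fun {v q} hq hq7 hv n hdv => hq7 (((Nat.prime_dvd_prime_iff_eq hp hq).1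
      (hv ▸ hdv.trans (orderOf_pow_dvd n))).symm)
  have hbd : ∀ {d : ℕ}, d * d < 5040 → d ≤ 70 := fun {d} hd => by nlinarith
  rcases hcase with ⟨rfl, hc2⟩ | ⟨rfl, hc2⟩ | rfl
  · -- two
    have hcne : c ≠ 1 := by omega
    obtain ⟨q₀, v₀, hq₀, hq₀7, hv₀, hov₀⟩ := OrdP.exists_prime_elem (p := 7) (by norm_num) hc hcm hcne
    obtain ⟨X, y, s, ε, hX, hXd, hyne, hε, -, hrel, hcol⟩ :=
      OrdP.data hna hM (by norm_num) P hP he he1 hep (by norm_num)
    obtain ⟨χ, rfl⟩ := Finset.card_eq_one.1 (show X.card = 1 by omega)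
    obtain ⟨hne, hs, hd, hcong⟩ := hXd χ (Finset.mem_singleton_self χ)
    obtain ⟨hsum, hsz⟩ := OrdP.degree_data hrel hcol
    rw [Finset.sum_singleton] at hsum hsz
    have hdy := charDeg_dvd y
    have hdv := charDeg_dvd χ
    rw [h] at hdy hsz hdv
    have hl := OrdP.deg_large hna hM hne hs hd hcong hq₀ hq₀7 hv₀ hov₀
    have hd70 : Cfsg.charDegree (χ : G → ℂ) ≤ 70 := hbd (by rw [← sq]; omega)
    have hpy : ¬ Cfsg.charDegree (y : G → ℂ) = 19 ∧ ¬ Cfsg.charDegree (y : G → ℂ) = 37 ∧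
        ¬ Cfsg.charDegree (y : G → ℂ) = 47 := by
      refine ⟨?_, ?_, ?_⟩ <;> intro e <;> rw [e] at hdy <;> norm_num at hdy
    have hvals : s χ = 1 ∧ ε = 1 ∧ Cfsg.charDegree (χ : G → ℂ) = 15 ∧
        Cfsg.charDegree (y : G → ℂ) = 16 := by
      rcases big_kind hs hdv hd70 hd hl with ⟨e1, e2⟩ | ⟨e1, e2⟩ | ⟨e1, e2⟩ | ⟨e1, e2⟩ <;>
        rw [e1, e2] at hsum <;> rcases hε with rfl | rfl <;> omega
    obtain ⟨hs1, rfl, hd15, hy16⟩ := hvals
    have key : ∀ (v : G) (z : ℤ), ¬ 7 ∣ orderOf v → (χ : G → ℂ) v = (z : ℂ) →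
        1 + z * z + 3 * ((1 + z) * (1 + z)) ≤
          (Nat.card (Subgroup.centralizer ({v} : Set G)) : ℤ) ∧
        (15 : ℤ) ∣ ((Subgroup.centralizer ({v} : Set G)).index : ℤ) * z ∧
        (16 : ℤ) ∣ ((Subgroup.centralizer ({v} : Set G)).index : ℤ) * (1 + z) := by
      intro v z hv hz
      have hy : (y : G → ℂ) v = ((1 + z : ℤ) : ℂ) := by
        have h1 := hrel v hv
        rw [Finset.sum_singleton, hs1, hz] at h1
        push_cast at h1 ⊢
        linear_combination h1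
      refine ⟨?_, ?_, ?_⟩
      · have h1 := hcol v hv
        rw [Finset.sum_singleton, hz, hy, Complex.normSq_intCast, Complex.normSq_intCast] at h1
        norm_num at h1
        exact_mod_cast h1
      · have := OrdP.index_dvd χ hz
        rw [hd15] at this
        exact_mod_cast this
      · have := OrdP.index_dvd y hy
        rw [hy16] at this
        exact_mod_cast this
    rcases hc2 with hc2 | hc3
    · haveI : Fact (Nat.Prime 2) := ⟨Nat.prime_two⟩
      obtain ⟨⟨v, hvC⟩, hov⟩ := exists_prime_orderOf_dvd_card' (G := C) 2 (hc ▸ hc2.mul_left 7)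
      rw [Subgroup.orderOf_mk] at hov
      have hz := OrdP.value_two hna hM (by norm_num) hne hov
        (fun n => hs1 ▸ hcong _ (pow_mem hvC n) (hreg Nat.prime_two (by norm_num) hov n))
        (by rw [hd15]; norm_num)
      rw [hd15] at hz
      obtain ⟨h1, h2, h3⟩ := key v _ (by rw [hov]; norm_num) hz
      have h4 := Subgroup.index_mul_card (Subgroup.centralizer ({v} : Set G))
      rw [h] at h4
      norm_num at h1 h2 h3
      generalize (Subgroup.centralizer ({v} : Set G)).index = I at h2 h3 h4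
      generalize Nat.card (Subgroup.centralizer ({v} : Set G)) = J at h1 h4
      have hI : 60 ≤ I := by
        rcases Nat.eq_zero_or_pos I with h0 | h0
        · rw [h0] at h4; omega
        · omega
      have hJ : 602 ≤ J := by omega
      have := Nat.mul_le_mul hI hJ
      omega
    · subst hc3
      haveI : Fact (Nat.Prime 3) := ⟨Nat.prime_three⟩
      obtain ⟨⟨v, hvC⟩, hov⟩ := exists_prime_orderOf_dvd_card' (G := C) 3 (hc ▸ dvd_mul_left 3 7)
      rw [Subgroup.orderOf_mk] at hov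
      have hz := value_three hna hM hne hd15 hov
        (fun n => hs1 ▸ hcong _ (pow_mem hvC n) (hreg Nat.prime_three (by norm_num) hov n))
      obtain ⟨h1, h2, h3⟩ := key v _ (by rw [hov]; norm_num) hz
      have h4 := Subgroup.index_mul_card (Subgroup.centralizer ({v} : Set G))
      rw [h] at h4
      norm_num at h1 h2 h3
      generalize (Subgroup.centralizer ({v} : Set G)).index = I at h2 h3 h4
      generalize Nat.card (Subgroup.centralizer ({v} : Set G)) = J at h1 h4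
      have hI : 80 ≤ I := by
        rcases Nat.eq_zero_or_pos I with h0 | h0
        · rw [h0] at h4; omega
        · omega
      have hJ : 112 ≤ J := by omega
      have := Nat.mul_le_mul hI hJ
      omega
  · -- three
    haveI : Fact (Nat.Prime 2) := ⟨Nat.prime_two⟩
    obtain ⟨⟨v, hvC⟩, hov⟩ := exists_prime_orderOf_dvd_card' (G := C) 2 (hc ▸ hc2.mul_left 7)
    rw [Subgroup.orderOf_mk] at hov
    obtain ⟨X, y, s, ε, hX, hXd, hyne, hε, -, hrel, hcol⟩ :=
      OrdP.data hna hM (by norm_num) P hP he he1 hep (by norm_num)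
    obtain ⟨hsum, hsz⟩ := OrdP.degree_data hrel hcol
    have hdy := charDeg_dvd y
    rw [h] at hdy hsz
    have hpy : ∀ n : ℕ, n ∈ [11, 17, 31, 32, 39, 52, 67, 73, 95] →
        Cfsg.charDegree (y : G → ℂ) ≠ n := by
      intro n hn e
      rw [e] at hdy
      simp only [List.mem_cons, List.not_mem_nil, or_false] at hn
      rcases hn with rfl | rfl | rfl | rfl | rfl | rfl | rfl | rfl | rfl <;> norm_num at hdy
    obtain ⟨χ, χ', hne, rfl⟩ := Finset.card_eq_two.1 (show X.card = 2 by omega)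
    have hk : ∀ ξ ∈ ({χ, χ'} : Finset (Cfsg.IrrCharacter G)),
        (s ξ = 1 ∧ Cfsg.charDegree (ξ : G → ℂ) = 15) ∨ (s ξ = -1 ∧ Cfsg.charDegree (ξ : G → ℂ) = 20) ∨
        (s ξ = 1 ∧ Cfsg.charDegree (ξ : G → ℂ) = 36) ∨
        (s ξ = -1 ∧ Cfsg.charDegree (ξ : G → ℂ) = 48) := by
      intro ξ hξ
      obtain ⟨hneξ, hs, hd, hcong⟩ := hXd ξ hξ
      have hdv := charDeg_dvd ξ
      rw [h] at hdv
      have h1 : Cfsg.charDegree (ξ : G → ℂ) ^ 2 ≤ ∑ η ∈ ({χ, χ'} : Finset (Cfsg.IrrCharacter G)),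
          Cfsg.charDegree (η : G → ℂ) ^ 2 :=
        Finset.single_le_sum (f := fun η : Cfsg.IrrCharacter G => Cfsg.charDegree (η : G → ℂ) ^ 2)
          (fun η _ => Nat.zero_le _) hξ
      exact big_kind hs hdv (hbd (by rw [← sq]; omega)) hd
        (OrdP.deg_large hna hM hneξ hs hd hcong Nat.prime_two (by norm_num) hvC hov)
    have hvr : ¬ 7 ∣ orderOf v := by rw [hov]; norm_num
    have hcv : ∀ ξ ∈ ({χ, χ'} : Finset (Cfsg.IrrCharacter G)),
        Cfsg.charDegree (ξ : G → ℂ) < 4 * 7 →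
        (ξ : G → ℂ) v = (((Cfsg.charDegree (ξ : G → ℂ) : ℤ) - 4 * ((7 : ℕ) : ℤ) : ℤ) : ℂ) :=
      fun ξ hξ hlt => OrdP.value_two hna hM (by norm_num) (hXd ξ hξ).1 hov (δ := s ξ)
        (fun n => (hXd ξ hξ).2.2.2 _ (pow_mem hvC n) (hreg Nat.prime_two (by norm_num) hov n)) hlt
    rw [Finset.sum_pair hne] at hsum hsz
    have hh := hk χ (Finset.mem_insert_self _ _)
    have hh' := hk χ' (Finset.mem_insert_of_mem (Finset.mem_singleton_self χ'))
    have hpy' : Cfsg.charDegree (y : G → ℂ) ≠ 11 ∧ Cfsg.charDegree (y : G → ℂ) ≠ 17 ∧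
        Cfsg.charDegree (y : G → ℂ) ≠ 31 ∧ Cfsg.charDegree (y : G → ℂ) ≠ 32 ∧
        Cfsg.charDegree (y : G → ℂ) ≠ 39 ∧ Cfsg.charDegree (y : G → ℂ) ≠ 52 ∧
        Cfsg.charDegree (y : G → ℂ) ≠ 67 ∧ Cfsg.charDegree (y : G → ℂ) ≠ 73 ∧
        Cfsg.charDegree (y : G → ℂ) ≠ 95 := by
      refine ⟨?_, ?_, ?_, ?_, ?_, ?_, ?_, ?_, ?_⟩ <;> exact hpy _ (by simp)
    have h4 : ((s χ = 1 ∧ Cfsg.charDegree (χ : G → ℂ) = 15 ∧ s χ' = -1 ∧
          Cfsg.charDegree (χ' : G → ℂ) = 20) ∨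
        (s χ = -1 ∧ Cfsg.charDegree (χ : G → ℂ) = 20 ∧ s χ' = 1 ∧
          Cfsg.charDegree (χ' : G → ℂ) = 15)) ∧ ε = -1 ∧ Cfsg.charDegree (y : G → ℂ) = 4 := by
      rcases hh with ⟨a1, a2⟩ | ⟨a1, a2⟩ | ⟨a1, a2⟩ | ⟨a1, a2⟩ <;>
        rcases hh' with ⟨b1, b2⟩ | ⟨b1, b2⟩ | ⟨b1, b2⟩ | ⟨b1, b2⟩ <;>
        rw [a1, a2, b1, b2] at hsum <;> rcases hε with rfl | rfl <;> omega
    obtain ⟨hcase4, rfl, hy4⟩ := h4
    have hyv : (y : G → ℂ) v = 4 := by
      have h1 := hrel v hvr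
      rw [Finset.sum_pair hne] at h1
      rcases hcase4 with ⟨a1, a2, b1, b2⟩ | ⟨a1, a2, b1, b2⟩ <;>
      · rw [hcv χ (Finset.mem_insert_self _ _) (by omega),
          hcv χ' (Finset.mem_insert_of_mem (Finset.mem_singleton_self χ')) (by omega), a1, a2, b1, b2]
          at h1
        push_cast at h1
        linear_combination -1 * h1
    have hv1 := OrdP.eq_one_of_value hyne (g := v) (by rw [hyv, charDeg_spec', hy4]; norm_num)
    rw [hv1, orderOf_one] at hov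
    omega
  · -- six
    by_cases hc1 : c = 1
    · subst hc1
      obtain ⟨Z, s, a, b, hZc, hZ, hsd, hsa, hsz, hat, heq⟩ :=
        OrdP.full_self hna hM (by norm_num) P hP (by rw [hc]) (by rw [he])
      rw [h] at hsz heq
      set g : Cfsg.IrrCharacter G → ℤ × ℤ × ℤ × ℤ × ℤ := fun χ =>
        (s χ * (Cfsg.charDegree (χ : G → ℂ) : ℤ), (Cfsg.charDegree (χ : G → ℂ) : ℤ) ^ 2, s χ * a χ,
          720 * (s χ * a χ ^ 2) / (Cfsg.charDegree (χ : G → ℂ) : ℤ), (s χ * a χ) ^ 2) with hg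
      have key : ∀ χ ∈ Z, g χ ∈ kinds ∧
          (Cfsg.charDegree (χ : G → ℂ) : ℤ) ∣ 720 * (s χ * a χ ^ 2) := by
        intro χ hχ
        obtain ⟨hd2, hdv, hlt, hs, hd, h4, hb1, hb2⟩ := hZ χ hχ
        rw [h] at hdv hlt
        push_cast at hb1 hb2
        exact kind_val hs hd2 hdv (hbd hlt) hd h4 (by linarith) (by linarith)
      have hchk := OrdP.allPicks_sound chk kinds 6 0 chk_all Z g (by omega) fun χ hχ => (key χ hχ).1
      rw [zero_add] at hchk
      have hsum1 : (∑ χ ∈ Z, g χ).1 = -1 := by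
        rw [Prod.fst_sum]
        simp only [hg]
        omega
      have hsum2 : (∑ χ ∈ Z, g χ).2.1 ≤ 5039 := by
        simp only [Prod.snd_sum, Prod.fst_sum, hg]
        have : ((1 + ∑ χ ∈ Z, Cfsg.charDegree (χ : G → ℂ) ^ 2 : ℕ) : ℤ) ≤ ((5040 : ℕ) : ℤ) := by
          exact_mod_cast hsz
        push_cast at this
        linarith
      have hsum3 : (∑ χ ∈ Z, g χ).2.2.1 = -1 := by
        simp only [Prod.snd_sum, Prod.fst_sum, hg]
        omega
      have hsum4 : (b : ℤ) * b = 720 + (∑ χ ∈ Z, g χ).2.2.2.1 := by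
        simp only [Prod.snd_sum, Prod.fst_sum, hg]
        apply Int.cast_injective (α := ℚ)
        push_cast
        rw [Finset.sum_congr rfl (g := fun χ => 720 * (((s χ * a χ ^ 2 : ℤ) : ℚ) /
          (Cfsg.charDegree (χ : G → ℂ) : ℚ))) fun χ hχ => by
            rw [Int.cast_div (key χ hχ).2 (Int.cast_ne_zero.2
              (Int.natCast_ne_zero.2 (charDeg_pos χ).ne'))]
            push_cast
            ring, ← Finset.mul_sum]
        push_cast at heq ⊢
        linarith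
      have hsum5 : (∑ χ ∈ Z, g χ).2.2.2.2 + 1 ≤ (b : ℤ) := by
        simp only [Prod.snd_sum, hg]
        rw [Finset.sum_congr rfl (g := fun χ => a χ ^ 2) fun χ hχ => by
          rcases (hZ χ hχ).2.2.2.1 with e | e <;> simp [e]]
        linarith
      have hb : b < 185 := by
        by_contra hb'
        have h1 : (4 : ℤ) * (∑ χ ∈ Z, g χ).2.2.2.1 ≤ 720 * (∑ χ ∈ Z, g χ).2.2.2.2 := by
          simp only [Prod.snd_sum, Prod.fst_sum, hg, Finset.mul_sum]
          refine Finset.sum_le_sum fun χ hχ => ?_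
          obtain ⟨hd2, -, -, hs, hd, h4, hb1, hb2⟩ := hZ χ hχ
          obtain ⟨t, ht⟩ := (key χ hχ).2
          rw [ht, Int.mul_ediv_cancel_left _ (Int.natCast_ne_zero.2 (charDeg_pos χ).ne')]
          have hd4 : 4 ≤ Cfsg.charDegree (χ : G → ℂ) := by
            rw [Int.ModEq] at hd
            rcases hs with e | e <;> rw [e] at hd <;> omega
          rcases hs with e | e <;> rw [e] at ht ⊢ <;> nlinarith [sq_nonneg (a χ)]
        have h2 : (185 : ℤ) ≤ b := by exact_mod_cast (show 185 ≤ b by omega)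
        nlinarith
      refine absurd hchk ?_
      simp only [chk, Bool.not_eq_true', Bool.and_eq_true, decide_eq_true_eq, Bool.not_eq_false,
        List.any_eq_true, List.mem_range]
      exact ⟨⟨⟨hsum1, hsum2⟩, hsum3⟩, b, hb, hsum4, by linarith⟩
    obtain ⟨q, v, hq, hq7, hv, hov⟩ := OrdP.exists_prime_elem (p := 7) (by norm_num) hc hcm hc1
    obtain ⟨Z, s, hZc, hτZ, -, hZ, hrel, hcol⟩ := OrdP.full hna hM (by norm_num) P hP (by rw [he])
    obtain ⟨u, hu, hu1⟩ : ∃ u ∈ (P : Subgroup G), u ≠ 1 := by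
      refine (Subgroup.bot_or_exists_ne_one (P : Subgroup G)).resolve_left fun hb => ?_
      have := hP
      rw [show Nat.card P = Nat.card (P : Subgroup G) from rfl, hb, Subgroup.card_bot] at this
      omega
    have h1 := hrel 1 (by rw [orderOf_one]; norm_num)
    simp only [charDeg_spec'] at h1
    have h2 : (1 : ℤ) + ∑ χ ∈ Z, s χ * (Cfsg.charDegree (χ : G → ℂ) : ℤ) = 0 := by exact_mod_cast h1
    have h3 := hcol 1
    rw [centralizer_one_eq_top, Subgroup.card_top, h] at h3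
    simp only [OrdP.normSq_one] at h3
    have h4 : 1 + ∑ χ ∈ Z, Cfsg.charDegree (χ : G → ℂ) ^ 2 ≤ 5040 := by exact_mod_cast h3
    have key : ∀ χ ∈ Z, (s χ * (Cfsg.charDegree (χ : G → ℂ) : ℤ),
        (Cfsg.charDegree (χ : G → ℂ) : ℤ) ^ 2) ∈ bigKinds := by
      intro χ hχ
      have hneξ : χ ≠ trivialIrr G := fun e => hτZ (e ▸ hχ)
      obtain ⟨hs, hd, hv'⟩ := hZ χ hχ
      have hdv := charDeg_dvd χ
      rw [h] at hdv
      have h5 : Cfsg.charDegree (χ : G → ℂ) ^ 2 ≤ ∑ η ∈ Z, Cfsg.charDegree (η : G → ℂ) ^ 2 :=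
        Finset.single_le_sum (f := fun η : Cfsg.IrrCharacter G => Cfsg.charDegree (η : G → ℂ) ^ 2)
          (fun η _ => Nat.zero_le _) hχ
      rcases big_kind hs hdv (hbd (by rw [← sq]; omega)) hd (OrdP.deg_large hna hM hneξ hs hd
        (fun w hw hwr => (hv' u hu hu1 w hw hwr).2) hq hq7 hv hov) with
        ⟨e1, e2⟩ | ⟨e1, e2⟩ | ⟨e1, e2⟩ | ⟨e1, e2⟩ <;> rw [e1, e2] <;> decide
    have hchk := OrdP.allPicks_sound chkBig bigKinds 6 0 chkBig_all Z _ (by omega) key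
    rw [zero_add] at hchk
    refine absurd hchk ?_
    simp only [chkBig, Bool.not_eq_true', Bool.and_eq_true, decide_eq_true_eq, Bool.not_eq_false,
      Prod.fst_sum, Prod.snd_sum]
    refine ⟨by omega, ?_⟩
    have : ((1 + ∑ χ ∈ Z, Cfsg.charDegree (χ : G → ℂ) ^ 2 : ℕ) : ℤ) ≤ ((5040 : ℕ) : ℤ) := by
      exact_mod_cast h4
    push_cast at this
    linarith

end Cfsg.Agent.S0978
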