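import Cfsg.Statements.S0980
import Cfsg.Agent.Lib.Block.OrderPrimeSelfTwo

set_option autoImplicit false
open Cfsg

namespace Cfsg.Agent.S0980

open Cfsg.Agent.Block Cfsg.Agent.Char

/-- No finite simple group has order 5760 = 2^7 * 3^2 * 5. -/
theorem result {G : Type*} [Group G] [Finite G] [IsSimpleGroup G] : Nat.card G ≠ 5760 := by
  intro h
  haveI : Fact (Nat.Prime 5) := ⟨by norm_num⟩
  have hna : ¬ IsMulCommutative G := small_not_comm (by rw [h]; norm_num)
  obtain ⟨M, hM⟩ := exists_isPModular 5 (by norm_num)
  obtain ⟨P⟩ : Nonempty (Sylow 5 G) := inferInstance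
  have hcard : Nat.card G = 5 * 1152 := by rw [h]
  obtain ⟨e, k, c, hk1, hkm, he, he1, hep, hc, hprod⟩ :=
    OrdP.exists_e' hna hcard (by norm_num) (by norm_num) (by norm_num) P
  have hP := OrdP.card_sylow_eq hcard (by norm_num) P
  have hcm : c ∣ 1152 := ⟨e * (5 * k + 1), by rw [← mul_assoc]; exact hprod.symm⟩
  have he4 : e ≤ 4 := Nat.le_of_dvd (by norm_num) hep
  have he24 : e = 2 ∨ e = 4 := by interval_cases e <;> omega
  by_cases hc1 : c = 1
  · subst hc1
    rcases he24 with rfl | rfl
    swap
    · omega
    obtain ⟨d, d', b, hd, hd', hlt, hd2, hmod, hadj, hpd', hb, hb0, hineq⟩ :=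
      OrdP.two_self hna hM (by norm_num) P hP (by rw [hc]) he
    rw [h, show (5760 : ℕ) = 2 ^ 7 * 45 by norm_num, Nat.factorization_mul (by norm_num) (by norm_num),
      Finsupp.add_apply, Nat.Prime.factorization_pow Nat.prime_two, Finsupp.single_eq_same,
      Nat.factorization_eq_zero_of_not_dvd (by norm_num : ¬ 2 ∣ 45), add_zero] at hb
    rw [h] at hd hd' hlt hineq
    have hb' : 128 ≤ b := Nat.le_of_dvd hb0 hb
    have hb2 := Nat.pow_le_pow_left hb' 2
    have hd75 : d ≤ 75 := by nlinarith
    have h81 : 81920 * d' ≤ 23040 * d := by nlinarith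
    interval_cases d <;> first | omega | (norm_num at hd; done) | (norm_num at hpd'; done)
  obtain ⟨q, v, hq, hqp, hv, hov⟩ := OrdP.exists_prime_elem (p := 5) (by norm_num) hc hcm hc1
  rcases he24 with rfl | rfl
  · refine OrdP.two_false hna hM (by norm_num) P hP he hq hqp hv hov ?_
    intro d hd hlt hdc d' hd' hadj hpd'
    rw [h] at hd hd' hlt
    have hd75 : d ≤ 75 := by nlinarith
    interval_cases d <;> first
      | omega
      | (norm_num at hd; done)
      | (rcases hadj with ha | ha
         · obtain rfl := eq_tsub_of_add_eq ha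
           first | omega | (norm_num at hd'; done) | (norm_num at hpd'; done)
         · subst ha
           first | omega | (norm_num at hd'; done) | (norm_num at hpd'; done))
  · refine OrdP.full_even_false hna hM (by norm_num) P hP he hq hqp hv hov ?_
    intro d hd hlt hdc
    rw [h] at hd hlt
    have hd75 : d ≤ 75 := by nlinarith
    interval_cases d <;> first
      | omega
      | (norm_num at hd; done)
      | exact even_iff_two_dvd.2 (by norm_num)

end Cfsg.Agent.S0980
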