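import Cfsg.Statements.S0983
import Cfsg.Agent.Lib.Block.SmallOrd.Certs
import Cfsg.Agent.Lib.Block.SmallOrd.Cases
import Cfsg.Agent.S0976
import Cfsg.Agent.S0977
import Cfsg.Agent.S0978
import Cfsg.Agent.S0980
-- import your own Cfsg.Agent.* helpers here

set_option autoImplicit false
open Cfsg

namespace Cfsg.Agent.S0983

/-- A non-abelian finite simple group of order greater than 3640 and at most 6232 has order 4080, 5616, 6048 or 6072. -/
theorem result {G : Type*} [Group G] [Finite G] [IsSimpleGroup G] (hG : ¬ IsMulCommutative G) (h1 : 3640 < Nat.card G) (h2 : Nat.card G ≤ 6232) : Nat.card G = 4080 ∨ Nat.card G = 5616 ∨ Nat.card G = 6048 ∨ Nat.card G = 6072 := by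
  classical
  have hcand : Block.SmallOrd.candB (Nat.card G) = true := by
    simp only [Block.SmallOrd.candB, Bool.or_eq_true, Bool.and_eq_true, beq_iff_eq, List.any_cons,
      List.any_nil, Bool.or_false]
    by_cases he : 2 ∣ Nat.card G
    · rcases Fus.even_simple_dvd hG (even_iff_two_dvd.2 he) with h | h | h <;> omega
    · obtain ⟨p, hp, hp2, hp3, -⟩ := Fus.SmallOrd.odd_cube hG he
      have hle : p ≤ 18 := by
        by_contra hlt
        have h19 := Nat.pow_le_pow_left (show 19 ≤ p by omega) 3
        have := Nat.le_of_dvd Nat.card_pos hp3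
        omega
      have hmod := Nat.mod_eq_zero_of_dvd hp3
      refine Or.inr ⟨by omega, ?_⟩
      have := hp.two_le
      obtain rfl | rfl | rfl | rfl | rfl | rfl : p = 3 ∨ p = 5 ∨ p = 7 ∨ p = 11 ∨ p = 13 ∨ p = 17 := by
        interval_cases p <;> first | omega | (norm_num at hp; done)
      all_goals tauto
  rcases Block.SmallOrd.cover (by omega) (by omega) hcand with hh | ⟨L, hL, hn⟩
  swap
  · exact (Block.SmallOrd.false_of_list hG L hL hn).elim
  simp only [Block.SmallOrd.hardOrders, List.mem_cons, List.not_mem_nil, or_false] at hh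
  rcases hh with h | h | h | h | h | h | h | h | h | h | h | h | h | h | h
  · exact (S0976.result h).elim
  · exact Or.inl h
  · exact (Block.SmallOrd.ne_4200 hG h).elim
  · exact (S0977.result h).elim
  · exact (Block.SmallOrd.ne_4500 hG h).elim
  · exact (Block.SmallOrd.ne_4620 hG h).elim
  · exact (S0978.result h).elim
  · exact (Block.SmallOrd.ne_5292 hG h).elim
  · exact (Block.SmallOrd.ne_5400 hG h).elim
  · exact (Block.SmallOrd.ne_5460 hG h).elim
  · exact Or.inr (Or.inl h)
  · exact (S0980.result h).elim
  · exact (Block.SmallOrd.ne_6000 hG h).elim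
  · exact Or.inr (Or.inr (Or.inl h))
  · exact Or.inr (Or.inr (Or.inr h))

end Cfsg.Agent.S0983
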