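import Cfsg.Statements.S3294
import Mathlib
import Cfsg.Agent.Lib.Grp.Frattini
import Cfsg.Agent.Lib.Fus.DihedralAut

set_option autoImplicit false
open Cfsg

namespace Cfsg.Agent.S3294

theorem two_group_of_aut {X : Type*} [Group X] [Finite X] [Group.IsSolvable X] (h : pPrimeCore 2 X = ⊥)
    (hA : IsPGroup 2 (MulAut (pCore 2 X))) : IsPGroup 2 X := by
  haveI : Fact (Nat.Prime 2) := ⟨Nat.prime_two⟩
  haveI : (pCore 2 X).Normal := Cfsg.Agent.Grp.pCore_isNormal
  let φ : X →* MulAut (pCore 2 X) := MulAut.conjNormal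
  have hker : φ.ker ≤ pCore 2 X := by
    intro x hx
    refine Cfsg.Agent.Grp.centralizer_pCore_le h (Subgroup.mem_centralizer_iff.mpr fun f hf => ?_)
    have := congrArg (fun (a : pCore 2 X) => (a : X)) (DFunLike.congr_fun (MonoidHom.mem_ker.mp hx) ⟨f, hf⟩)
    simp only [φ, MulAut.conjNormal_apply, MulAut.one_apply] at this
    exact (mul_inv_eq_iff_eq_mul.mp this).symm
  have hr : IsPGroup 2 φ.range := hA.to_subgroup _
  obtain ⟨a, ha⟩ := hr.exists_card_eq
  obtain ⟨b, hb⟩ := ((Cfsg.Agent.Grp.pCore_isPGroup (p := 2) (G := X)).to_le hker).exists_card_eq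
  refine IsPGroup.of_card (n := b + a) ?_
  rw [← φ.ker.card_mul_index, Subgroup.index_ker, ha, hb, pow_add]

theorem aut_cyclic {F : Type*} [Group F] [Finite F] [IsCyclic F] (h : IsPGroup 2 F) : IsPGroup 2 (MulAut F) := by
  haveI : Fact (Nat.Prime 2) := ⟨Nat.prime_two⟩
  obtain ⟨m, hm⟩ := h.exists_card_eq
  rcases Nat.eq_zero_or_pos m with rfl | hm0
  · exact IsPGroup.of_card (n := 0) (by rw [IsCyclic.card_mulAut, hm]; simp)
  · exact IsPGroup.of_card (n := m - 1)
      (by rw [IsCyclic.card_mulAut, hm, Nat.totient_prime_pow Nat.prime_two hm0]; simp)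


/-- A finite solvable group whose Sylow 2-subgroups are generalized quaternion of order at least 32 has a normal 2-complement. -/
theorem result {G : Type*} [Group G] [Finite G] (hsol : Group.IsSolvable G) (T : Sylow 2 G) (n : ℕ) (hn : 3 ≤ n) (hT : Nonempty ((T : Subgroup G) ≃* QuaternionGroup (2 ^ n))) : Cfsg.HasNormalPComplement 2 G := by
  haveI : Fact (Nat.Prime 2) := ⟨Nat.prime_two⟩
  haveI : (pPrimeCore 2 G).Normal := Cfsg.Agent.Grp.pPrimeCore_isNormal
  set O := pPrimeCore 2 G with hO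
  have hOc : (Nat.card O).Coprime 2 := Cfsg.Agent.Grp.pPrimeCore_coprime
  set X := G ⧸ O
  let π : G →* X := QuotientGroup.mk' O
  haveI : Group.IsSolvable X := solvable_of_surjective (QuotientGroup.mk'_surjective O)
  suffices hX : IsPGroup 2 X by
    refine ⟨T, O, inferInstance, Subgroup.isComplement'_of_coprime ?_ ?_⟩
    · obtain ⟨a, ha⟩ := hX.exists_card_eq
      obtain ⟨b, hb⟩ := T.2.exists_card_eq
      have hidx : O.index = 2 ^ a := ha
      have hTi : ¬ 2 ∣ (T : Subgroup G).index := T.not_dvd_index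
      have h1 := (T : Subgroup G).card_mul_index
      rw [← O.card_mul_index, hidx, hb] at h1
      have hab : b = a := by
        have hodd : ¬ 2 ∣ Nat.card O := (Nat.Prime.coprime_iff_not_dvd Nat.prime_two).mp hOc.symm
        have e1 := congrArg (fun z => z.factorization 2) h1
        simp only [Nat.factorization_mul (pow_ne_zero _ two_ne_zero) Subgroup.index_ne_zero_of_finite,
          Nat.factorization_mul Nat.card_pos.ne' (pow_ne_zero _ two_ne_zero), Finsupp.add_apply,
          Nat.factorization_eq_zero_of_not_dvd hTi, Nat.factorization_eq_zero_of_not_dvd hodd,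
          Nat.prime_two.factorization_pow, Finsupp.single_eq_same] at e1
        omega
      rw [hb, hab, ← hidx, O.card_mul_index]
    · obtain ⟨b, hb⟩ := T.2.exists_card_eq
      rw [hb]
      exact hOc.pow_right b
  refine two_group_of_aut Cfsg.Agent.Grp.pPrimeCore_quotient_eq_bot ?_
  -- transport the quaternion structure
  obtain ⟨e⟩ := hT
  let ι : QuaternionGroup (2 ^ n) →* X := π.comp ((T : Subgroup G).subtype.comp e.symm.toMonoidHom)
  have hι : Function.Injective ι := by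
    rw [injective_iff_map_eq_one]
    intro q hq
    have hmem : ((e.symm q : (T : Subgroup G)) : G) ∈ O := (QuotientGroup.eq_one_iff _).mp hq
    have h1 : ((e.symm q : (T : Subgroup G)) : G) ∈ O ⊓ (T : Subgroup G) := ⟨hmem, (e.symm q).2⟩
    obtain ⟨b, hb⟩ := T.2.exists_card_eq
    rw [Cfsg.Agent.Grp.inf_eq_bot_of_coprime (H := O) (K := (T : Subgroup G)) (hb ▸ hOc.pow_right b), Subgroup.mem_bot] at h1
    have h2 : e.symm q = 1 := Subtype.ext h1
    exact e.symm.injective (h2.trans (map_one _).symm)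
  let P : Sylow 2 X := T.mapSurjective (QuotientGroup.mk'_surjective O)
  have hPrange : ∀ x ∈ (P : Subgroup X), ∃ q, ι q = x := by
    rintro _ ⟨t, ht, rfl⟩
    exact ⟨e ⟨t, ht⟩, by simp [ι, π]⟩
  set F := pCore 2 X
  haveI hFn : F.Normal := Cfsg.Agent.Grp.pCore_isNormal
  have hFp : IsPGroup 2 F := Cfsg.Agent.Grp.pCore_isPGroup
  have hFP : F ≤ P := Cfsg.Agent.Grp.pCore_le_sylow P
  have hpow : ∀ t : ℕ, (QuaternionGroup.a 1 : QuaternionGroup (2 ^ n)) ^ t = QuaternionGroup.a t := fun t => by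
    induction t with
    | zero => simp
    | succ t ih => rw [pow_succ, ih, QuaternionGroup.a_mul_a, Nat.cast_succ]
  have hza : ∀ i : ZMod (2 * 2 ^ n), (QuaternionGroup.a i : QuaternionGroup (2 ^ n)) ∈
      Subgroup.zpowers (QuaternionGroup.a 1 : QuaternionGroup (2 ^ n)) := fun i => by
    obtain ⟨t, rfl⟩ := ZMod.natCast_zmod_surjective i
    rw [← hpow]
    exact Subgroup.pow_mem _ (Subgroup.mem_zpowers _) t
  set c0 := ι (QuaternionGroup.a 1) with hc0
  have hc0o : orderOf c0 = 2 ^ (n + 1) := by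
    rw [hc0, orderOf_injective ι hι, QuaternionGroup.orderOf_a_one, pow_succ']
  have hout : ∀ x ∈ (P : Subgroup X), x ∉ Subgroup.zpowers c0 → orderOf x = 4 ∧ c0 * x * c0⁻¹ * x⁻¹ = c0 ^ 2 := by
    intro x hx hxn
    obtain ⟨q, rfl⟩ := hPrange x hx
    rcases q with i | i
    · exact absurd (by rw [hc0, ← MonoidHom.map_zpowers]; exact Subgroup.mem_map_of_mem _ (hza i)) hxn
    · refine ⟨by rw [orderOf_injective ι hι, QuaternionGroup.orderOf_xa], ?_⟩
      rw [hc0, ← map_inv, ← map_inv, ← map_mul, ← map_mul, ← map_mul, ← map_pow]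
      congr 1
      rw [mul_inv_eq_iff_eq_mul, mul_inv_eq_iff_eq_mul, hpow]
      simp only [QuaternionGroup.a_mul_xa, QuaternionGroup.xa_mul_a, QuaternionGroup.a_mul_a]
      push_cast; congr 1; ring
  set C := F ⊓ Subgroup.zpowers c0 with hCdef
  haveI : IsCyclic C := isCyclic_of_injective (Subgroup.inclusion inf_le_right) (Subgroup.inclusion_injective _)
  by_cases hsub : F ≤ Subgroup.zpowers c0
  · haveI : IsCyclic F := isCyclic_of_injective (Subgroup.inclusion hsub) (Subgroup.inclusion_injective _)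
    exact aut_cyclic hFp
  obtain ⟨f, hf, hfn⟩ := SetLike.not_le_iff_exists.mp hsub
  have hc2 : c0 ^ 2 ∈ C := by
    refine ⟨?_, Subgroup.npow_mem_zpowers _ _⟩
    rw [← (hout f (hFP hf) hfn).2]
    exact F.mul_mem (hFn.conj_mem f hf c0) (F.inv_mem hf)
  obtain ⟨c, hc⟩ := IsCyclic.exists_generator (α := C)
  obtain ⟨j, -, hj⟩ := (Nat.dvd_prime_pow Nat.prime_two).mp (hc0o ▸ orderOf_dvd_of_mem_zpowers (show (c : X) ∈ Subgroup.zpowers c0 from c.2.2))
  have hj3 : 3 ≤ j := by
    obtain ⟨z, hz⟩ := hc ⟨c0 ^ 2, hc2⟩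
    have hdvd := orderOf_dvd_of_mem_zpowers (show c0 ^ 2 ∈ Subgroup.zpowers (c : X) from ⟨z, congrArg Subtype.val hz⟩)
    rw [hj, orderOf_pow, hc0o, pow_succ', Nat.gcd_mul_right_left, Nat.mul_div_cancel_left _ two_pos,
      Nat.pow_dvd_pow_iff_le_right (by norm_num : 1 < 2)] at hdvd
    omega
  have hmemC : ∀ y : F, (y : X) ∈ Subgroup.zpowers c0 → y ∈ Subgroup.zpowers (⟨c, c.2.1⟩ : F) := by
    intro y hy
    obtain ⟨z, hz⟩ := hc ⟨y, y.2, hy⟩
    exact ⟨z, Subtype.ext (congrArg (fun w : C => (w : X)) hz)⟩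
  refine Cfsg.Agent.Fus.isPGroup_mulAut_of_cyclic_index_two (c := (⟨c, c.2.1⟩ : F)) (x := ⟨f, hf⟩) (k := j)
    (by rw [← Subgroup.orderOf_coe]; exact hj) (fun g hg => ?_) (fun h => ?_) (fun g => ?_)
  · refine hmemC g ?_
    by_contra hgn
    have h4 := (hout g (hFP g.2) hgn).1
    rw [Subgroup.orderOf_coe, hg, show 4 = 2 ^ 2 by norm_num] at h4
    have := Nat.pow_right_injective (le_refl 2) h4
    omega
  · obtain ⟨z, hz⟩ := h
    have hz' : (c : X) ^ z = f := congrArg Subtype.val hz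
    exact hfn (hz' ▸ Subgroup.zpow_mem _ c.2.2 z)
  · by_cases hg : (g : X) ∈ Subgroup.zpowers c0
    · exact Or.inl (hmemC g hg)
    · refine Or.inr (hmemC _ ?_)
      show f⁻¹ * (g : X) ∈ Subgroup.zpowers c0
      obtain ⟨q₁, hq₁⟩ := hPrange f (hFP hf)
      obtain ⟨q₂, hq₂⟩ := hPrange g (hFP g.2)
      rcases q₁ with i | i
      · exact absurd (by rw [← hq₁, hc0, ← MonoidHom.map_zpowers]; exact Subgroup.mem_map_of_mem _ (hza i)) hfn
      rcases q₂ with l | l
      · exact absurd (by rw [← hq₂, hc0, ← MonoidHom.map_zpowers]; exact Subgroup.mem_map_of_mem _ (hza l)) hg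
      rw [← hq₁, ← hq₂, ← map_inv, ← map_mul, hc0, ← MonoidHom.map_zpowers]
      refine Subgroup.mem_map_of_mem _ ?_
      show QuaternionGroup.xa _ * QuaternionGroup.xa l ∈ _
      rw [QuaternionGroup.xa_mul_xa]
      exact hza _

end Cfsg.Agent.S3294
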