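import Cfsg.Statements.S3305
import Mathlib

set_option autoImplicit false
open Cfsg

namespace Cfsg.Agent.S3305

theorem exists_lift {G G' : Type*} [Group G] [Group G'] [Finite G] (f : G →* G') (hf : Function.Surjective f)
    (S : Sylow 2 G') (D : Subgroup G) (hD : IsPGroup 2 D) (hle : D.map f ≤ (S : Subgroup G')) :
    ∃ S1 : Sylow 2 G, D ≤ (S1 : Subgroup G) ∧ (S1 : Subgroup G).map f = (S : Subgroup G') := by
  haveI : Fact (Nat.Prime 2) := ⟨Nat.prime_two⟩
  haveI : Finite G' := Finite.of_surjective f hf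
  set X := (S : Subgroup G').comap f
  have hDX : D ≤ X := Subgroup.map_le_iff_le_comap.mp hle
  obtain ⟨Q, hQ⟩ := (hD.comap_subtype (K := X)).exists_le_sylow
  obtain ⟨S1, hS1⟩ := (Q.2.map X.subtype).exists_le_sylow
  refine ⟨S1, fun x hx => hS1 ⟨⟨x, hDX hx⟩, hQ hx, rfl⟩, ?_⟩
  let f' : X →* (S : Subgroup G') := f.subgroupComap _
  have hs : Function.Surjective f' := MonoidHom.subgroupComap_surjective_of_surjective f _ hf
  have hfull : ((Q : Subgroup X).map f') = ⊤ := by
    have h : Nonempty (Sylow 2 (S : Subgroup G')) := inferInstance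
    exact (Q.mapSurjective hs).3 (S.2.to_subgroup ⊤) le_top |>.symm
  refine S.3 (S1.2.map f) fun s hs' => ?_
  obtain ⟨q, hq, hqs⟩ := (hfull ▸ Subgroup.mem_top _ : (⟨s, hs'⟩ : (S : Subgroup G')) ∈ (Q : Subgroup X).map f')
  exact ⟨(q : G), hS1 ⟨q, hq, rfl⟩, congrArg Subtype.val hqs⟩


/-- If any two distinct Sylow 2-subgroups of the finite group G intersect in a cyclic group, then the same holds in every quotient group G/H, H a normal subgroup of G. -/
theorem result {G : Type*} [Group G] [Finite G]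
    (hC : ∀ S T : Sylow 2 G, S ≠ T → IsCyclic ↥((S : Subgroup G) ⊓ (T : Subgroup G))) (H : Subgroup G) [H.Normal] :
    ∀ S T : Sylow 2 (G ⧸ H), S ≠ T → IsCyclic ↥((S : Subgroup (G ⧸ H)) ⊓ (T : Subgroup (G ⧸ H))) := by
  intro S T hST
  haveI : Fact (Nat.Prime 2) := ⟨Nat.prime_two⟩
  set I := (S : Subgroup (G ⧸ H)) ⊓ (T : Subgroup (G ⧸ H))
  set f := QuotientGroup.mk' H
  have hf : Function.Surjective f := QuotientGroup.mk'_surjective H
  set X := I.comap f
  obtain ⟨Q⟩ : Nonempty (Sylow 2 X) := inferInstance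
  let f' : X →* I := f.subgroupComap _
  have hs : Function.Surjective f' := MonoidHom.subgroupComap_surjective_of_surjective f _ hf
  have hI : IsPGroup 2 I := S.2.to_le inf_le_left
  have hfull : ((Q : Subgroup X).map f') = ⊤ := (Q.mapSurjective hs).3 (hI.to_subgroup ⊤) le_top |>.symm
  set D := (Q : Subgroup X).map X.subtype
  have hDI : D.map f = I := by
    apply le_antisymm
    · exact (Subgroup.map_mono (Subgroup.map_subtype_le _)).trans (Subgroup.map_comap_le _ _)
    · intro s hs'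
      obtain ⟨q, hq, hqs⟩ := (hfull ▸ Subgroup.mem_top _ : (⟨s, hs'⟩ : I) ∈ (Q : Subgroup X).map f')
      exact ⟨(q : G), ⟨q, hq, rfl⟩, congrArg Subtype.val hqs⟩
  have hDp : IsPGroup 2 D := Q.2.map _
  obtain ⟨S1, hS1, hS1'⟩ := exists_lift f hf S D hDp (hDI.le.trans inf_le_left)
  obtain ⟨T1, hT1, hT1'⟩ := exists_lift f hf T D hDp (hDI.le.trans inf_le_right)
  have hne : S1 ≠ T1 := fun h => hST (Sylow.ext (by rw [← hS1', ← hT1', h]))
  haveI := hC S1 T1 hne
  haveI hDc : IsCyclic D := isCyclic_of_injective (Subgroup.inclusion (le_inf hS1 hT1)) (Subgroup.inclusion_injective _)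
  haveI : IsCyclic (D.map f) := isCyclic_of_surjective _ (f.subgroupMap_surjective D)
  rwa [← hDI]

end Cfsg.Agent.S3305
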