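import Cfsg.Statements.S3370
import Mathlib
-- import your own Cfsg.Agent.* helpers here

set_option autoImplicit false
open Cfsg

namespace Cfsg.Agent.S3370

open scoped Pointwise

section

/-- A generator of the multiplicative group of the field with nine elements, as a matrix. -/
def mA : GL (Fin 2) (ZMod 3) := ⟨!![0, 1; 1, 1], !![2, 1; 1, 0], by decide, by decide⟩
def mB : GL (Fin 2) (ZMod 3) := ⟨!![1, 0; 1, 2], !![1, 0; 1, 2], by decide, by decide⟩

def sylowSet : Finset (GL (Fin 2) (ZMod 3)) :=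
  Finset.image (fun q : Fin 8 × Fin 2 => mA ^ q.1.val * mB ^ q.2.val) Finset.univ

/-- A Sylow 2-subgroup of `GL(2,3)`. -/
def sylowGrp : Subgroup (GL (Fin 2) (ZMod 3)) where
  carrier := sylowSet
  mul_mem' := fun {a b} ha hb => by
    have h : ∀ a ∈ sylowSet, ∀ b ∈ sylowSet, a * b ∈ sylowSet := by decide +kernel
    exact h a ha b hb
  one_mem' := by
    have h : (1 : GL (Fin 2) (ZMod 3)) ∈ sylowSet := by decide +kernel
    exact h
  inv_mem' := fun {a} ha => by
    have h : ∀ a ∈ sylowSet, a⁻¹ ∈ sylowSet := by decide +kernel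
    exact h a ha

theorem card_sylowGrp : Nat.card sylowGrp = 16 := by
  show Nat.card (sylowSet : Set (GL (Fin 2) (ZMod 3))) = 16
  rw [Nat.card_eq_fintype_card]; simp only [Finset.coe_sort_coe, Fintype.card_coe]
  decide +kernel

/-- The quaternion subgroup. -/
def quatMap : QuaternionGroup 2 → GL (Fin 2) (ZMod 3)
  | QuaternionGroup.a i => mA ^ (2 * i.val)
  | QuaternionGroup.xa i => mA * mB * mA ^ (2 * i.val)

def quatHom : QuaternionGroup 2 →* GL (Fin 2) (ZMod 3) where
  toFun := quatMap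
  map_one' := by decide +kernel
  map_mul' := by decide +kernel

theorem quat_key : ∀ h ∈ sylowSet, h ^ 4 = 1 → (h = 1 ∨ ∀ v : Fin 2 → ZMod 3, v ≠ 0 → (h : Matrix (Fin 2) (Fin 2) (ZMod 3)).mulVec v ≠ v) →
    ∃ q, quatMap q = h := by decide +kernel

theorem pow_eight_mem : ∀ h ∈ sylowSet, h ^ 8 = 1 := by decide +kernel

theorem quatMap_injective : Function.Injective quatMap := by decide +kernel

/-- A group of 2-power order with a faithful transitive action on the eight nonzero vectors of `GF(3)²`. -/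
theorem order_eight_or_sixteen {G : Type*} [Group G] [Finite G] (hG : IsPGroup 2 G)
    (τ : G →* GL (Fin 2) (ZMod 3)) (hτ : Function.Injective τ)
    (htr : ∀ v w : Fin 2 → ZMod 3, v ≠ 0 → w ≠ 0 → ∃ g : G, (τ g : Matrix (Fin 2) (Fin 2) (ZMod 3)).mulVec v = w) :
    ((IsCyclic G ∧ Nat.card G = 8) ∨ Nonempty (G ≃* QuaternionGroup 2) ∨ (Cfsg.IsQuasiDihedral G ∧ Nat.card G = 16)) := by
  classical
  haveI : Fact (Nat.Prime 2) := ⟨Nat.prime_two⟩
  let W := {v : Fin 2 → ZMod 3 // v ≠ 0}
  have hS : sylowGrp.index = 3 := by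
    have := sylowGrp.card_mul_index
    rw [card_sylowGrp, show Nat.card (GL (Fin 2) (ZMod 3)) = 48 by
      rw [Nat.card_eq_fintype_card]; decide +kernel] at this
    omega
  obtain ⟨S, hSe⟩ : ∃ S : Sylow 2 (GL (Fin 2) (ZMod 3)), (S : Subgroup (GL (Fin 2) (ZMod 3))) = sylowGrp :=
    ⟨(IsPGroup.of_card (n := 4) card_sylowGrp).toSylow (show ¬ 2 ∣ sylowGrp.index by rw [hS]; norm_num), rfl⟩
  obtain ⟨T, hT⟩ := (hG.of_surjective τ.rangeRestrict τ.rangeRestrict_surjective).exists_le_sylow
  obtain ⟨g, hg⟩ := MulAction.exists_smul_eq (GL (Fin 2) (ZMod 3)) T S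
  let σ : G →* GL (Fin 2) (ZMod 3) := (MulAut.conj g).toMonoidHom.comp τ
  have hσ : Function.Injective σ := (MulAut.conj g).injective.comp hτ
  have hmem : ∀ a, σ a ∈ sylowSet := by
    intro a
    have h1 : σ a ∈ (MulAut.conj g • (T : Subgroup (GL (Fin 2) (ZMod 3)))) :=
      Subgroup.smul_mem_pointwise_smul _ _ _ (hT ⟨a, rfl⟩)
    have h2 : MulAut.conj g • (T : Subgroup (GL (Fin 2) (ZMod 3))) = sylowGrp := by
      rw [← hSe, ← hg]; rfl
    rw [h2] at h1
    exact h1
  have htr' : ∀ v w : Fin 2 → ZMod 3, v ≠ 0 → w ≠ 0 → ∃ a : G, (σ a : Matrix (Fin 2) (Fin 2) (ZMod 3)).mulVec v = w := by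
    intro v w hv hw
    have hinj : ∀ (h : GL (Fin 2) (ZMod 3)) (u : Fin 2 → ZMod 3), u ≠ 0 → (h : Matrix (Fin 2) (Fin 2) (ZMod 3)).mulVec u ≠ 0 := by
      intro h u hu e
      apply hu
      have := congrArg ((h⁻¹ : GL (Fin 2) (ZMod 3)) : Matrix (Fin 2) (Fin 2) (ZMod 3)).mulVec e
      rwa [Matrix.mulVec_mulVec, ← Units.val_mul, inv_mul_cancel, Units.val_one, Matrix.one_mulVec, Matrix.mulVec_zero] at this
    obtain ⟨a, ha⟩ := htr ((g⁻¹ : GL (Fin 2) (ZMod 3)).val.mulVec v) ((g⁻¹ : GL (Fin 2) (ZMod 3)).val.mulVec w) (hinj _ _ hv) (hinj _ _ hw)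
    refine ⟨a, ?_⟩
    show ((g * τ a * g⁻¹ : GL (Fin 2) (ZMod 3)) : Matrix (Fin 2) (Fin 2) (ZMod 3)).mulVec v = w
    rw [Units.val_mul, ← Matrix.mulVec_mulVec, Units.val_mul, ← Matrix.mulVec_mulVec, ha, Matrix.mulVec_mulVec,
      ← Units.val_mul, mul_inv_cancel, Units.val_one, Matrix.one_mulVec]
  have hle : Nat.card G ≤ 16 := by
    rw [← card_sylowGrp]
    exact Nat.card_le_card_of_injective (fun a => (⟨σ a, hmem a⟩ : sylowGrp)) fun a b e => hσ (congrArg Subtype.val e)
  let v0 : Fin 2 → ZMod 3 := ![1, 0]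
  have hsurj : Function.Surjective (fun a : {a : G // (σ a : Matrix (Fin 2) (Fin 2) (ZMod 3)).mulVec v0 ≠ 0} => (⟨_, a.2⟩ : W)) := by
    rintro ⟨w, hw⟩
    obtain ⟨a, ha⟩ := htr' v0 w (by decide) hw
    exact ⟨⟨a, ha ▸ hw⟩, Subtype.ext ha⟩
  have h8 : 8 ≤ Nat.card G := by
    refine le_trans ?_ ((Nat.card_le_card_of_surjective _ hsurj).trans (Nat.card_le_card_of_injective _ Subtype.val_injective))
    rw [Nat.card_eq_fintype_card]; decide +kernel
  obtain ⟨k, hk⟩ := IsPGroup.iff_card.mp hG
  have hk' : k = 3 ∨ k = 4 := by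
    rcases k with _ | _ | _ | _ | _ | k <;> simp_all
    have : 2 ^ (k + 1 + 1 + 1 + 1 + 1) ≥ 32 := by
      calc 2 ^ (k + 1 + 1 + 1 + 1 + 1) ≥ 2 ^ 5 := Nat.pow_le_pow_right (by norm_num) (by omega)
        _ = 32 := by norm_num
    omega
  rcases hk' with rfl | rfl
  · by_cases hc : ∃ a : G, orderOf (σ a) = 8
    · obtain ⟨a, ha⟩ := hc
      refine Or.inl ⟨isCyclic_of_orderOf_eq_card a ?_, hk⟩
      rw [hk, ← orderOf_injective σ hσ a, ha]; norm_num
    · push Not at hc
      have hfree : ∀ a : G, a ≠ 1 → ∀ v, v ≠ 0 → (σ a : Matrix (Fin 2) (Fin 2) (ZMod 3)).mulVec v ≠ v := by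
        intro a ha v hv e
        let f : G → {w : Fin 2 → ZMod 3 // w ≠ 0} := fun b => ⟨(σ b : Matrix (Fin 2) (Fin 2) (ZMod 3)).mulVec v, fun e0 => by
          apply hv
          have := congrArg ((σ b)⁻¹ : GL (Fin 2) (ZMod 3)).val.mulVec e0
          rwa [Matrix.mulVec_mulVec, ← Units.val_mul, inv_mul_cancel, Units.val_one, Matrix.one_mulVec, Matrix.mulVec_zero] at this⟩
        have hf : Function.Surjective f := fun w => by
          obtain ⟨b, hb⟩ := htr' v w hv w.2
          exact ⟨b, Subtype.ext hb⟩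
        have hf' : Function.Injective f := by
          refine ((Nat.bijective_iff_surjective_and_card f).mpr ⟨hf, ?_⟩).1
          rw [hk, Nat.card_eq_fintype_card]; decide +kernel
        refine ha (hf' (Subtype.ext ?_))
        show (σ a : Matrix (Fin 2) (Fin 2) (ZMod 3)).mulVec v = (σ 1 : Matrix (Fin 2) (Fin 2) (ZMod 3)).mulVec v
        rw [e, map_one, Units.val_one, Matrix.one_mulVec]
      have key : ∀ h ∈ sylowSet, orderOf h ≠ 8 → (h = 1 ∨ ∀ v : Fin 2 → ZMod 3, v ≠ 0 → (h : Matrix (Fin 2) (Fin 2) (ZMod 3)).mulVec v ≠ v) →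
          ∃ q, quatMap q = h := by
        intro h hh ho hv
        refine quat_key h hh ?_ hv
        obtain ⟨j, hj, hjo⟩ := (Nat.dvd_prime_pow Nat.prime_two).mp (orderOf_dvd_of_pow_eq_one (show h ^ 2 ^ 3 = 1 from pow_eight_mem h hh))
        rw [← orderOf_dvd_iff_pow_eq_one, hjo]
        have hj2 : j ≤ 2 := by
          by_contra hne
          exact ho (by rw [hjo, show j = 3 by omega]; norm_num)
        exact (pow_dvd_pow 2 hj2).trans (by norm_num)
      have hrange : ∀ a, ∃ q, quatHom q = σ a := fun a => key _ (hmem a) (hc a) (by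
        by_cases ha : a = 1
        · exact Or.inl (by rw [ha, map_one])
        · exact Or.inr (hfree a ha))
      have hqi : Function.Injective quatHom := by
        exact quatMap_injective
      refine Or.inr (Or.inl ⟨?_⟩)
      choose q hq using hrange
      let ψ : G →* QuaternionGroup 2 :=
        { toFun := q
          map_one' := hqi (by rw [hq, map_one, map_one])
          map_mul' := fun a b => hqi (by rw [hq, map_mul, map_mul, hq, hq]) }
      refine MulEquiv.ofBijective ψ ((Nat.bijective_iff_injective_and_card ψ).mpr ⟨?_, ?_⟩)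
      · intro a b e
        exact hσ (by rw [← hq a, ← hq b]; exact congrArg quatHom e)
      · rw [hk, Nat.card_eq_fintype_card, QuaternionGroup.card]; norm_num
  · refine Or.inr (Or.inr ⟨⟨3, le_rfl, by rw [hk], ?_⟩, by rw [hk]; norm_num⟩)
    have hbij : Function.Bijective (fun a => (⟨σ a, hmem a⟩ : sylowGrp)) :=
      (Nat.bijective_iff_injective_and_card _).mpr ⟨fun a b e => hσ (congrArg Subtype.val e), by rw [hk, card_sylowGrp]; norm_num⟩
    have hA : mA ∈ sylowGrp := show mA ∈ sylowSet by decide +kernel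
    have hB : mB ∈ sylowGrp := show mB ∈ sylowSet by decide +kernel
    obtain ⟨x, hx⟩ := hbij.2 ⟨mA, hA⟩
    obtain ⟨y, hy⟩ := hbij.2 ⟨mB, hB⟩
    have hx' : σ x = mA := congrArg Subtype.val hx
    have hy' : σ y = mB := congrArg Subtype.val hy
    refine ⟨x, y, ?_, ?_, hσ ?_⟩
    · rw [← orderOf_injective σ hσ, hx', orderOf_eq_prime_pow (p := 2) (n := 2) (by decide +kernel) (by decide +kernel)]
    · rw [← orderOf_injective σ hσ, hy']
      exact orderOf_eq_prime (by decide +kernel) (by decide +kernel)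
    · rw [map_mul, map_mul, map_inv, map_pow, hx', hy']
      decide +kernel

theorem eq_one_of_pow_add_one (p k n : ℕ) (hp : p.Prime) (hodd : Odd p) (hk : 1 ≤ k) (h : 2 ^ n = p ^ k + 1) : k = 1 := by
  have hn2 : 2 ≤ n := by
    by_contra hn
    have : 3 ≤ p := by rcases hodd with ⟨j, rfl⟩; have := hp.two_le; omega
    have : p ≤ p ^ k := Nat.le_self_pow (by omega) p
    have : 2 ^ n ≤ 2 ^ 1 := Nat.pow_le_pow_right (by norm_num) (by omega)
    omega
  rcases Nat.even_or_odd k with ⟨j, rfl⟩ | hko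
  · exfalso
    have h4 : 4 ∣ 2 ^ n := by
      calc 4 = 2 ^ 2 := by norm_num
        _ ∣ 2 ^ n := pow_dvd_pow 2 hn2
    obtain ⟨i, hi⟩ := hodd.pow (n := j)
    rw [h, pow_add, hi] at h4
    obtain ⟨c, hc⟩ := h4
    have : (2 * i + 1) * (2 * i + 1) = 4 * (i * i + i) + 1 := by ring
    omega
  · have hdvd : p + 1 ∣ p ^ k + 1 := by
      have := hko.nat_add_dvd_pow_add_pow p 1
      simpa using this
    obtain ⟨c, hc⟩ := hdvd
    have hcodd : Odd c := by
      have h1 : ((p + 1 : ℕ) : ℤ) * (c : ℤ) = ((p : ℤ) + 1) * ∑ i ∈ Finset.range k, (-1 : ℤ) ^ (k - 1 - i) * (p : ℤ) ^ i := by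
        have hg := geom_sum₂_mul (p : ℤ) (-1) k
        rw [hko.neg_one_pow] at hg
        calc ((p + 1 : ℕ) : ℤ) * (c : ℤ) = ((p ^ k + 1 : ℕ) : ℤ) := by rw [hc]; push_cast; ring
          _ = (∑ i ∈ Finset.range k, (p : ℤ) ^ i * (-1) ^ (k - 1 - i)) * ((p : ℤ) - -1) := by rw [hg]; push_cast; ring
          _ = _ := by rw [mul_comm, sub_neg_eq_add]; congr 1; exact Finset.sum_congr rfl fun i _ => mul_comm _ _
      have h2 := mul_left_cancel₀ (show ((p + 1 : ℕ) : ℤ) ≠ 0 by omega) (h1.trans (by push_cast; rfl))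
      rw [← ZMod.natCast_eq_one_iff_odd]
      have h3 := congrArg (Int.cast : ℤ → ZMod 2) h2
      push_cast at h3
      rw [h3]
      have hp' : (p : ZMod 2) = 1 := ZMod.natCast_eq_one_iff_odd.mpr hodd
      simp only [hp', show (-1 : ZMod 2) = 1 from by decide, one_pow, mul_one, Finset.sum_const, Finset.card_range, nsmul_eq_mul]
      exact ZMod.natCast_eq_one_iff_odd.mpr hko
    have hc1 : c = 1 := by
      obtain ⟨i, -, hi⟩ := (Nat.dvd_prime_pow Nat.prime_two).mp (show c ∣ 2 ^ n by rw [h, hc]; exact dvd_mul_left _ _)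
      rcases i with _ | i
      · simpa using hi
      · exfalso
        rw [hi, Nat.odd_iff, pow_succ] at hcodd
        omega
    rw [hc1, mul_one] at hc
    by_contra hk1
    have : p ^ 1 < p ^ k := Nat.pow_lt_pow_right hp.one_lt (by omega)
    rw [pow_one] at this
    omega

end

/-- Let q be a prime, V a non-trivial finite vector space over the field with q elements, and G a non-trivial finite p-group (p prime) acting faithfully and linearly on V and transitively on the non-zero vectors. Then either q = 2 and G has prime order p = |V| − 1; or p = 2, V has q elements with q = 2^m + 1 and G is cyclic of order 2^m; or p = 2, q = 3, V has 9 elements and G is cyclic of order 8, quaternion of order 8, or semidihedral of order 16. -/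
theorem result (q : ℕ) [Fact q.Prime] {V : Type*} [AddCommGroup V] [Module (ZMod q) V] [Finite V] [Nontrivial V]
    {G : Type*} [Group G] [Finite G] [Nontrivial G] (p : ℕ) [Fact p.Prime] (hG : IsPGroup p G)
    (ρ : G →* (V ≃ₗ[ZMod q] V)) (hρ : Function.Injective ρ)
    (htrans : ∀ v w : V, v ≠ 0 → w ≠ 0 → ∃ g : G, ρ g v = w) :
    (q = 2 ∧ p = Nat.card V - 1 ∧ Nat.card G = p) ∨
    (p = 2 ∧ Nat.card V = q ∧ (∃ m : ℕ, q = 2 ^ m + 1 ∧ Nat.card G = 2 ^ m) ∧ IsCyclic G) ∨
    (p = 2 ∧ q = 3 ∧ Nat.card V = 9 ∧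
      ((IsCyclic G ∧ Nat.card G = 8) ∨ Nonempty (G ≃* QuaternionGroup 2) ∨ (Cfsg.IsQuasiDihedral G ∧ Nat.card G = 16))) := by
  classical
  have hq := (Fact.out : q.Prime)
  have hp := (Fact.out : p.Prime)
  haveI : Fintype V := Fintype.ofFinite V
  haveI : Module.Finite (ZMod q) V := Module.Finite.of_finite
  set n := Module.finrank (ZMod q) V with hn
  have hV : Nat.card V = q ^ n := by
    rw [Module.natCard_eq_pow_finrank (K := ZMod q), Nat.card_zmod]
  have hn0 : 0 < n := Module.finrank_pos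
  let W := {v : V // v ≠ 0}
  letI : MulAction G W :=
    { smul := fun g v => ⟨ρ g v.1, fun e => v.2 ((ρ g).map_eq_zero_iff.mp e)⟩
      one_smul := fun v => Subtype.ext (by show ρ 1 v.1 = v.1; rw [map_one]; rfl)
      mul_smul := fun g h v => Subtype.ext (by show ρ (g * h) v.1 = ρ g (ρ h v.1); rw [map_mul]; rfl) }
  haveI : MulAction.IsPretransitive G W := ⟨fun v w => by
    obtain ⟨g, hg⟩ := htrans v.1 w.1 v.2 w.2
    exact ⟨g, Subtype.ext hg⟩⟩
  haveI : FaithfulSMul G W := ⟨fun {g h} hgh => hρ (LinearEquiv.ext fun v => by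
    by_cases hv : v = 0
    · rw [hv, map_zero, map_zero]
    · exact congrArg Subtype.val (hgh ⟨v, hv⟩))⟩
  have hW : Nat.card W = q ^ n - 1 := by
    rw [← hV, Nat.card_eq_fintype_card, Nat.card_eq_fintype_card]
    simp [W, Fintype.card_subtype_compl]
  obtain ⟨v0, hv0⟩ := exists_ne (0 : V)
  obtain ⟨k, hk⟩ : ∃ k, Nat.card W = p ^ k := by
    obtain ⟨e, he⟩ := IsPGroup.iff_card.mp hG
    have hd : Nat.card W ∣ p ^ e := by
      rw [← he, ← MulAction.index_stabilizer_of_transitive G (⟨v0, hv0⟩ : W)]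
      exact Subgroup.index_dvd_card _
    obtain ⟨k, -, hk⟩ := (Nat.dvd_prime_pow hp).mp hd
    exact ⟨k, hk⟩
  have hk1 : 1 ≤ k := by
    by_contra h0
    have h1 : Nat.card W = 1 := by rw [hk, show k = 0 by omega, pow_zero]
    haveI : Subsingleton W := (Nat.card_eq_one_iff_unique.mp h1).1
    obtain ⟨a, b, hab⟩ := exists_pair_ne G
    exact hab (eq_of_smul_eq_smul fun w : W => Subsingleton.elim _ _)
  have hq2 : 2 ≤ q := hq.two_le
  have hqn : 1 ≤ q ^ n := Nat.one_le_pow _ _ (by omega)
  rw [hW] at hk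
  rcases hq.eq_two_or_odd' with rfl | hqodd
  · have hpodd : Odd p := by
      rcases hp.eq_two_or_odd' with rfl | h
      · have : Even (2 ^ n) := Nat.even_pow.mpr ⟨even_two, by omega⟩
        have : Even (2 ^ k) := Nat.even_pow.mpr ⟨even_two, by omega⟩
        rw [Nat.even_iff] at *
        omega
      · exact h
    have hk' := eq_one_of_pow_add_one p k n hp hpodd hk1 (by omega)
    subst hk'
    rw [pow_one] at hk
    refine Or.inl ⟨rfl, by rw [hV]; omega, ?_⟩
    have hd : Nat.card G ∣ p.factorial := by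
      have := Subgroup.card_dvd_of_injective (MulAction.toPermHom G W) (MulAction.toPerm_injective (α := G) (β := W))
      rwa [Nat.card_perm, hW, hk] at this
    obtain ⟨e, he⟩ := IsPGroup.iff_card.mp hG
    have he1 : e ≤ 1 := by
      by_contra h2
      have h3 : p ^ 2 ∣ p.factorial := (pow_dvd_pow p (by omega)).trans (he ▸ hd)
      rw [← Nat.mul_factorial_pred hp.ne_zero, pow_two] at h3
      have h4 := Nat.dvd_of_mul_dvd_mul_left hp.pos h3
      rw [hp.dvd_factorial] at h4
      have := hp.pos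
      omega
    have he0 : e ≠ 0 := by
      rintro rfl
      have : 1 < Nat.card G := Finite.one_lt_card
      rw [he, pow_zero] at this; omega
    rw [he, show e = 1 by omega, pow_one]
  · have hp2 : p = 2 := by
      rcases hp.eq_two_or_odd' with h | h
      · exact h
      · exfalso
        have h1 : Odd (q ^ n) := hqodd.pow
        have h2 : Odd (p ^ k) := h.pow
        rw [Nat.odd_iff] at h1 h2
        omega
    subst hp2
    rcases Nat.even_or_odd n with ⟨m, hm⟩ | hno
    · have hfac : (q ^ m - 1) * (q ^ m + 1) = 2 ^ k := by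
        rw [← hk, hm, pow_add]
        obtain ⟨r, hr⟩ := Nat.exists_eq_succ_of_ne_zero (show q ^ m ≠ 0 from (Nat.pos_of_ne_zero (pow_ne_zero _ (by omega))).ne')
        rw [hr]; simp only [Nat.succ_eq_add_one, Nat.add_sub_cancel]
        rw [show (r + 1) * (r + 1) = r * (r + 1 + 1) + 1 by ring, Nat.add_sub_cancel]
      obtain ⟨i, -, hi⟩ := (Nat.dvd_prime_pow Nat.prime_two).mp (hfac ▸ dvd_mul_right _ _ : (q ^ m - 1) ∣ 2 ^ k)
      obtain ⟨j, -, hj⟩ := (Nat.dvd_prime_pow Nat.prime_two).mp (hfac ▸ dvd_mul_left _ _ : (q ^ m + 1) ∣ 2 ^ k)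
      have hodd : Odd (q ^ m) := hqodd.pow
      have hge : 3 ≤ q ^ m := by
        have : q ≤ q ^ m := Nat.le_self_pow (by omega) q
        rcases hqodd with ⟨t, rfl⟩
        omega
      have hval : q ^ m = 3 := by
        rcases i with _ | _ | i
        · simp at hi; omega
        · simp at hi; omega
        · exfalso
          rcases j with _ | _ | j
          · rw [pow_zero] at hj; omega
          · simp at hj; omega
          · rw [pow_succ, pow_succ] at hi hj
            omega
      have hq3 : q = 3 := by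
        have hd : q ∣ 3 := hval ▸ dvd_pow_self q (by omega)
        exact ((Nat.prime_dvd_prime_iff_eq hq Nat.prime_three).mp hd)
      subst hq3
      have hm1 : m = 1 := Nat.pow_right_injective (by norm_num) (hval.trans (pow_one 3).symm)
      subst hm1
      refine Or.inr (Or.inr ⟨rfl, rfl, by rw [hV, hm]; norm_num, ?_⟩)
      let b := Module.finBasisOfFinrankEq (ZMod 3) V (n := 2) (hn ▸ hm)
      let φ : (V ≃ₗ[ZMod 3] V) →* GL (Fin 2) (ZMod 3) :=
        (Units.map (LinearMap.toMatrixAlgEquiv b).toAlgHom.toRingHom.toMonoidHom).comp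
          (LinearMap.GeneralLinearGroup.generalLinearEquiv (ZMod 3) V).symm.toMonoidHom
      have hval' : ∀ (a : G) (v : V), ((φ (ρ a)) : Matrix (Fin 2) (Fin 2) (ZMod 3)).mulVec (b.equivFun v) = b.equivFun (ρ a v) := by
        intro a v
        show (LinearMap.toMatrix b b (ρ a : V →ₗ[ZMod 3] V)).mulVec (b.repr v) = b.repr (ρ a v)
        exact LinearMap.toMatrix_mulVec_repr b b _ v
      refine order_eight_or_sixteen hG (φ.comp ρ) ?_ ?_
      · intro a a' e
        refine hρ (LinearEquiv.ext fun v => b.equivFun.injective ?_)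
        rw [← hval' a v, ← hval' a' v]
        exact congrArg (fun M : GL (Fin 2) (ZMod 3) => (M : Matrix (Fin 2) (Fin 2) (ZMod 3)).mulVec (b.equivFun v)) e
      · intro v w hv hw
        obtain ⟨g, hg⟩ := htrans (b.equivFun.symm v) (b.equivFun.symm w)
          (fun e => hv (b.equivFun.symm.map_eq_zero_iff.mp e)) (fun e => hw (b.equivFun.symm.map_eq_zero_iff.mp e))
        refine ⟨g, ?_⟩
        have := hval' g (b.equivFun.symm v)
        rw [hg, LinearEquiv.apply_symm_apply, LinearEquiv.apply_symm_apply] at this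
        exact this
    · have hn1 : n = 1 := by
        have hg := geom_sum_mul (q : ℤ) n
        set c := ∑ i ∈ Finset.range n, q ^ i with hc
        have hcast : ((c * (q - 1) : ℕ) : ℤ) = ((q ^ n - 1 : ℕ) : ℤ) := by
          rw [hc]; push_cast [Nat.cast_sub hqn, Nat.cast_sub (show 1 ≤ q by omega)]; exact hg
        have hceq : c * (q - 1) = 2 ^ k := by rw [← hk]; exact_mod_cast hcast
        have hcodd : Odd c := by
          rw [hc, Finset.odd_sum_iff_odd_card_odd, Finset.filter_true_of_mem (fun i _ => hqodd.pow), Finset.card_range]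
          exact hno
        obtain ⟨i, -, hi⟩ := (Nat.dvd_prime_pow Nat.prime_two).mp (hceq ▸ dvd_mul_right _ _ : c ∣ 2 ^ k)
        have hc1 : c = 1 := by
          rcases i with _ | i
          · simpa using hi
          · exfalso
            rw [hi, Nat.odd_iff, pow_succ] at hcodd
            omega
        by_contra hne
        have : q ^ 1 ≤ c := Finset.single_le_sum (f := fun i => q ^ i) (fun i _ => Nat.zero_le _) (Finset.mem_range.mpr (by omega))
        rw [pow_one] at this
        omega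
      rw [hn1, pow_one] at hk hV
      have hfr : Module.finrank (ZMod q) V = 1 := hn1
      have hscal : ∀ g : G, ∃ c : ZMod q, ∀ v : V, ρ g v = c • v := by
        intro g
        obtain ⟨c, hc⟩ := exists_smul_eq_of_finrank_eq_one hfr hv0 (ρ g v0)
        refine ⟨c, fun v => ?_⟩
        obtain ⟨d, rfl⟩ := exists_smul_eq_of_finrank_eq_one hfr hv0 v
        rw [map_smul, ← hc, smul_comm]
      choose c hc using hscal
      have hci : Function.Injective c := fun a a' e => hρ (LinearEquiv.ext fun v => by rw [hc, hc, e])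
      have hsm : ∀ a a' : ZMod q, a • v0 = a' • v0 → a = a' := fun a a' e => smul_left_injective (ZMod q) hv0 e
      let χ : G →* (ZMod q)ˣ := MonoidHom.toHomUnits
        { toFun := c
          map_one' := hsm _ _ (by rw [← hc, map_one, one_smul]; rfl)
          map_mul' := fun a a' => hsm _ _ (by rw [← hc, map_mul, mul_smul, ← hc, ← hc]; rfl) }
      have hχ : Function.Injective χ := fun a a' e => hci (congrArg Units.val e)
      have hcyc : IsCyclic G := isCyclic_of_injective χ hχ
      have hcard : Nat.card G = q - 1 := by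
        refine le_antisymm ?_ ?_
        · refine (Nat.card_le_card_of_injective χ hχ).trans ?_
          rw [Nat.card_eq_fintype_card, ZMod.card_units]
        · calc q - 1 = Nat.card W := by rw [hW, hn1, pow_one]
            _ ≤ _ := ?_
          exact Nat.card_le_card_of_surjective (fun g => g • (⟨v0, hv0⟩ : W)) (MulAction.surjective_smul G _)
      exact Or.inr (Or.inl ⟨rfl, hV, ⟨k, by omega, by omega⟩, hcyc⟩)

end Cfsg.Agent.S3370
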