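import Cfsg.Agent.Lib.Block.SharplyTransitive
import Cfsg.Statements.S0689
-- import your own Cfsg.Agent.* helpers here

set_option autoImplicit false
open Cfsg

namespace Cfsg.Agent.S0689

open Cfsg.Agent.Block.SharpTwo

/-- The insoluble sharply doubly transitive groups: a non-solvable linear group over the prime field that is regular on the non-zero vectors of `V` occurs only for `|V| = 11², 29², 59²`, and is `SL(2,5) × C_m` with `m = 1, 7, 29` respectively. -/
theorem result {p : ℕ} [Fact p.Prime] {V : Type*} [AddCommGroup V] [Module (ZMod p) V] [Finite V] (H : Subgroup (V ≃ₗ[ZMod p] V)) (hreg : ∀ v w : V, v ≠ 0 → w ≠ 0 → ∃! h : H, (h : V ≃ₗ[ZMod p] V) v = w) (hsolv : ¬ Group.IsSolvable H) : (Nat.card V = 121 ∧ Nonempty (H ≃* Matrix.SpecialLinearGroup (Fin 2) (ZMod 5))) ∨ (Nat.card V = 841 ∧ Nonempty (H ≃* Matrix.SpecialLinearGroup (Fin 2) (ZMod 5) × Multiplicative (ZMod 7))) ∨ (Nat.card V = 3481 ∧ Nonempty (H ≃* Matrix.SpecialLinearGroup (Fin 2) (ZMod 5) × Multiplicative (ZMod 29)))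 := by
  classical
  have hp := (Fact.out : p.Prime)
  rcases subsingleton_or_nontrivial V with hV | hV
  · have : Subsingleton H := ⟨fun a b => Subtype.ext (LinearEquiv.ext fun x => Subsingleton.elim _ _)⟩
    exact absurd (inferInstance : Group.IsSolvable H) hsolv
  cases nonempty_fintype V
  have : Module.Finite (ZMod p) V := Module.Finite.of_finite
  have : Finite H := by
    obtain ⟨v₀, hv₀⟩ := exists_ne (0 : V)
    refine Finite.of_injective (fun h : H => ((h : V ≃ₗ[ZMod p] V) : V → V)) fun a b e => ?_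
    exact Subtype.ext (LinearEquiv.ext fun x => congrFun e x)
  let toEnd : H →* Module.End (ZMod p) V :=
    { toFun := fun h => ((h : V ≃ₗ[ZMod p] V) : V →ₗ[ZMod p] V)
      map_one' := rfl
      map_mul' := fun _ _ => rfl }
  have hfpf : ∀ h : H, h ≠ 1 → ∀ x : V, toEnd h x = x → x = 0 := by
    intro h hh x hx
    by_contra hx0
    obtain ⟨g, -, huniq⟩ := hreg x x hx0 hx0
    exact hh ((huniq h hx).trans (huniq 1 rfl).symm)
  obtain ⟨v₀, hv₀⟩ := exists_ne (0 : V)
  have hcardH : Nat.card H + 1 = Nat.card V := by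
    have hne₀ : ∀ h : H, (h : V ≃ₗ[ZMod p] V) v₀ ≠ 0 := fun h e => hv₀ ((LinearEquiv.map_eq_zero_iff _).1 e)
    have e : H ≃ {x : V // x ≠ 0} :=
      { toFun := fun h => ⟨(h : V ≃ₗ[ZMod p] V) v₀, fun e => hv₀ ((LinearEquiv.map_eq_zero_iff _).1 e)⟩
        invFun := fun x => Classical.choose (hreg v₀ x hv₀ x.2)
        left_inv := fun h => ((Classical.choose_spec (hreg v₀ ((h : V ≃ₗ[ZMod p] V) v₀) hv₀ (hne₀ h))).2 h rfl).symm
        right_inv := fun x => Subtype.ext (Classical.choose_spec (hreg v₀ x hv₀ x.2)).1 }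
    cases nonempty_fintype H
    rw [Nat.card_congr e, Nat.card_eq_fintype_card, Nat.card_eq_fintype_card, Fintype.card_subtype_compl,
      Fintype.card_subtype_eq]
    have := Fintype.card_pos (α := V)
    omega
  set n := Module.finrank (ZMod p) V with hn
  have hcardV : Nat.card V = p ^ n := by
    rw [Module.natCard_eq_pow_finrank (K := ZMod p), Nat.card_zmod]
  have hnpos : 0 < n := Module.finrank_pos
  have hndvd : ¬ p ∣ Nat.card H := fun hd => by
    have h2 : p ∣ Nat.card H + 1 := by rw [hcardH, hcardV]; exact dvd_pow_self p hnpos.ne'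
    exact hp.not_dvd_one ((Nat.dvd_add_right hd).1 h2)
  -- the structure of a fixed point free group
  let toAdd : H →* AddMonoid.End V :=
    { toFun := fun h => (toEnd h).toAddMonoidHom
      map_one' := rfl
      map_mul' := fun _ _ => rfl }
  have hF := Cfsg.Agent.Grp.Zas.hasFpf_of_fpf_module toAdd hfpf hndvd
  obtain ⟨-, M, hIco, ⟨e⟩⟩ := hF.structure_nonsolvable hsolv
  set E := Cfsg.Agent.Grp.Zas.threeCore H with hE
  let π : E × M →* H := MonoidHom.noncommCoprod E.subtype M.subtype
    (fun a b => hIco.comm a a.2 b b.2)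
  have hπinj : Function.Injective π := by
    rw [injective_iff_map_eq_one]
    rintro ⟨a, b⟩ hab
    have hab' : (a : H) * b = 1 := hab
    have : (a : H) ∈ E ⊓ M := ⟨a.2, by rw [eq_inv_of_mul_eq_one_left hab']; exact M.inv_mem b.2⟩
    rw [hIco.inf, Subgroup.mem_bot] at this
    rw [this, one_mul] at hab'
    exact Prod.ext (Subtype.ext this) (Subtype.ext hab')
  have hπrange : π.range = E ⊔ M := by
    refine (MonoidHom.noncommCoprod_range E.subtype M.subtype (fun a b => hIco.comm a a.2 b b.2)).trans ?_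
    rw [Subgroup.range_subtype, Subgroup.range_subtype]
  have hE120 : Nat.card E = 120 := by
    rw [Nat.card_congr e.toEquiv]; exact Cfsg.Agent.Grp.Zas.card_SL25
  have hsup : Nat.card (E ⊔ M : Subgroup H) = 120 * Nat.card M := by
    rw [← hπrange, ← Nat.card_congr (MonoidHom.ofInjective hπinj).toEquiv, Nat.card_prod, hE120]
  obtain ⟨i, hi, hHcard⟩ : ∃ i, (i = 1 ∨ i = 2) ∧ Nat.card H = 120 * (Nat.card M * i) := by
    refine ⟨(E ⊔ M).index, hIco.index, ?_⟩
    rw [← Subgroup.card_mul_index (E ⊔ M), hsup, mul_assoc]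
  have hpge : 7 ≤ p := by
    by_contra hc
    push Not at hc
    have h120 : p ∣ 120 :=
      (by decide : ∀ q : ℕ, q < 7 → q.Prime → q ∣ 120) p hc hp
    exact hndvd (hHcard ▸ h120.mul_right _)
  have h2K : (2 : ZMod p) ≠ 0 := by
    intro h
    have : ((2 : ℕ) : ZMod p) = 0 := by exact_mod_cast h
    rw [ZMod.natCast_eq_zero_iff] at this
    have := Nat.le_of_dvd two_pos this
    omega
  -- the quaternion operators
  let ψ : SL25 →* Module.End (ZMod p) V := toEnd.comp (E.subtype.comp e.symm.toMonoidHom)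
  have hψfpf : ∀ g : SL25, g ≠ 1 → ∀ w : V, ψ g w = w → w = 0 := fun g hg w hw =>
    hfpf _ (fun h => hg (e.symm.injective (Subtype.ext (by rw [map_one]; exact h)))) w hw
  have hico := ico_of_fpf ψ h2K hψfpf
  obtain ⟨α, β, hab⟩ := ZMod.sq_add_sq p (-1)
  have hgen : ∀ W : Submodule (ZMod p) V, (∀ w ∈ W, ψ i0 w ∈ W ∧ ψ j0 w ∈ W ∧ ψ u0 w ∈ W) →
      ∀ (g : SL25), ∀ w ∈ W, ψ g w ∈ W := by
    intro W hW g
    refine generators (fun g => ∀ w ∈ W, ψ g w ∈ W) ?_ ?_ ?_ ?_ g
    · intro w hw; rw [map_one]; exact hw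
    · intro g hg w hw; rw [map_mul]; exact (hW _ (hg w hw)).1
    · intro g hg w hw; rw [map_mul]; exact (hW _ (hg w hw)).2.1
    · intro g hg w hw; rw [map_mul]; exact (hW _ (hg w hw)).2.2
  have htr : ∀ x y : V, x ≠ 0 → y ≠ 0 →
      Module.finrank (ZMod p) (orbSpan (ψ : SL25 → Module.End (ZMod p) V) x) =
        Module.finrank (ZMod p) (orbSpan (ψ : SL25 → Module.End (ZMod p) V) y) := by
    intro x y hx hy
    obtain ⟨h, hh, -⟩ := hreg x y hx hy
    rw [← LinearEquiv.finrank_map_eq (h : V ≃ₗ[ZMod p] V) (orbSpan (ψ : SL25 → Module.End (ZMod p) V) x)]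
    rw [show (orbSpan (ψ : SL25 → Module.End (ZMod p) V) x).map
        ((h : V ≃ₗ[ZMod p] V) : V →ₗ[ZMod p] V) = orbSpan (ψ : SL25 → Module.End (ZMod p) V) y from ?_]
    refine le_antisymm ?_ ?_
    · rw [orbSpan, Submodule.map_span]
      refine Submodule.span_le.2 ?_
      rintro _ ⟨_, ⟨g, rfl⟩, rfl⟩
      refine Submodule.subset_span ⟨e ⟨h * (e.symm g : H) * h⁻¹, hIco.normal_E.conj_mem _ (e.symm g).2 h⟩, ?_⟩
      show toEnd (E.subtype (e.symm (e _))) y = toEnd h (toEnd (e.symm g : H) x)
      rw [MulEquiv.symm_apply_apply, Subgroup.subtype_apply, ← Module.End.mul_apply, ← map_mul,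
        ← hh, ← show toEnd h x = (h : V ≃ₗ[ZMod p] V) x from rfl, ← Module.End.mul_apply, ← map_mul,
        inv_mul_cancel_right]
    · rw [orbSpan, orbSpan, Submodule.map_span]
      refine Submodule.span_le.2 ?_
      rintro _ ⟨g, rfl⟩
      refine Submodule.subset_span ⟨_, ⟨e ⟨h⁻¹ * (e.symm g : H) * (h⁻¹)⁻¹,
        hIco.normal_E.conj_mem _ (e.symm g).2 h⁻¹⟩, rfl⟩, ?_⟩
      show toEnd h (toEnd (E.subtype (e.symm (e _))) x) = toEnd (e.symm g : H) y
      simp only [MulEquiv.symm_apply_apply, Subgroup.subtype_apply]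
      rw [← Module.End.mul_apply, ← map_mul,
        ← hh, ← show toEnd h x = (h : V ≃ₗ[ZMod p] V) x from rfl, ← Module.End.mul_apply, ← map_mul]
      simp only [inv_inv, mul_assoc, mul_inv_cancel_left]
  obtain ⟨v, D, hv, hD, hdim, hT⟩ :=
    exists_column hico hab ψ ⟨i0, rfl⟩ ⟨j0, rfl⟩ hgen htr
  set P := ψ u0 * ψ j0 + ψ j0 * ψ u0 with hP
  -- the second factor
  have hMc : ∀ (m : M) (g : SL25), toEnd m * ψ g = ψ g * toEnd m := fun m g => by
    show toEnd m * toEnd (e.symm g : H) = toEnd (e.symm g : H) * toEnd m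
    rw [← map_mul, ← map_mul, hIco.comm _ (e.symm g).2 _ m.2]
  have hTm := fun m : M => hT (toEnd m) (hMc m i0) (hMc m j0) (hMc m u0)
  have hMP : ∀ m : M, toEnd m * P = P * toEnd m := fun m => by
    rw [hP, mul_add, add_mul, ← mul_assoc, hMc, mul_assoc, hMc, ← mul_assoc (toEnd m), hMc, mul_assoc,
      hMc, mul_assoc, mul_assoc]
  have hinjv : ∀ a b : H, toEnd a v = toEnd b v → a = b := fun a b hab' => by
    by_contra hne
    refine hv (hfpf (b⁻¹ * a) (fun h => hne (inv_mul_eq_one.1 h).symm) v ?_)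
    rw [map_mul, Module.End.mul_apply, hab', ← Module.End.mul_apply, ← map_mul, inv_mul_cancel, map_one,
      Module.End.one_apply]
  have hMcomm : ∀ a b : M, a * b = b * a := by
    intro a b
    refine Subtype.ext (hinjv _ _ ?_)
    obtain ⟨a1, a2, ha⟩ := Submodule.mem_span_pair.1 (hD ▸ (hTm a).1)
    obtain ⟨b1, b2, hb⟩ := Submodule.mem_span_pair.1 (hD ▸ (hTm b).1)
    have haP : toEnd a (P v) = P (toEnd a v) := by
      rw [← Module.End.mul_apply, hMP, Module.End.mul_apply]
    have hbP : toEnd b (P v) = P (toEnd b v) := by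
      rw [← Module.End.mul_apply, hMP, Module.End.mul_apply]
    rw [Subgroup.coe_mul, Subgroup.coe_mul, map_mul, map_mul, Module.End.mul_apply, Module.End.mul_apply,
      ← ha, ← hb]
    simp only [map_add, map_smul]
    rw [haP, hbP, ← ha, ← hb]
    simp only [map_add, map_smul]
    module
  have hMcyc : IsCyclic M := by
    have : Group.IsNilpotent M := by
      letI : CommGroup M := { (inferInstance : Group M) with mul_comm := hMcomm }
      exact CommGroup.isNilpotent
    have : IsZGroup M := ⟨fun q hq P => by have := Fact.mk hq; exact hIco.zgroup q P⟩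
    infer_instance
  set m := Nat.card M with hm
  have hm30 : m.Coprime 30 := hIco.coprime
  have hm2 : ¬ 2 ∣ m := fun hd => absurd (Nat.eq_one_of_dvd_coprimes hm30 hd (by norm_num)) (by norm_num)
  have hm3 : ¬ 3 ∣ m := fun hd => absurd (Nat.eq_one_of_dvd_coprimes hm30 hd (by norm_num)) (by norm_num)
  have hmpos : 0 < m := Nat.card_pos
  set d := Module.finrank (ZMod p) D with hd
  have hd1 : 1 ≤ d := by
    have hvD : v ∈ D := hD ▸ Submodule.subset_span (by simp)
    have : Nontrivial D := ⟨⟨⟨v, hvD⟩, 0, fun h => hv (congrArg Subtype.val h)⟩⟩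
    exact Module.finrank_pos
  have hd2 : d ≤ 2 := by
    rw [hd, hD]
    have h := finrank_span_finset_le_card (R := ZMod p) ({v, P v} : Finset V)
    rw [Finset.coe_insert, Finset.coe_singleton] at h
    exact h.trans Finset.card_le_two
  have hHV : 120 * (m * i) + 1 = p ^ n := by rw [← hHcard, hcardH, hcardV]
  rcases (show d = 1 ∨ d = 2 by omega) with hd' | hd'
  · -- dimension two
    rw [hd'] at hdim
    have hDv : ∀ x ∈ D, ∃ a : ZMod p, a • v = x := by
      have hvD : v ∈ D := hD ▸ Submodule.subset_span (by simp)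
      have : D = Submodule.span (ZMod p) {v} := (Submodule.eq_of_le_of_finrank_eq
        (Submodule.span_le.2 (Set.singleton_subset_iff.2 hvD))
        (by rw [finrank_span_singleton hv, ← hd, hd'])).symm
      exact fun x hx => Submodule.mem_span_singleton.1 (this ▸ hx)
    choose a ha using fun m : M => hDv _ (hTm m).1
    have ha0 : ∀ m, a m ≠ 0 := fun m h => hv (by
      have := ha m
      rw [h, zero_smul] at this
      exact (LinearEquiv.map_eq_zero_iff ((m : H) : V ≃ₗ[ZMod p] V)).1 this.symm)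
    let χ : M →* (ZMod p)ˣ := MonoidHom.mk' (fun m => Units.mk0 (a m) (ha0 m)) fun x y => by
      refine Units.ext (smul_left_injective (ZMod p) hv ?_)
      show a (x * y) • v = (a x * a y) • v
      rw [ha, Subgroup.coe_mul, map_mul, Module.End.mul_apply, ← ha y, map_smul, ← ha x, smul_smul,
        mul_comm]
    have hχ : Function.Injective χ := fun x y h => Subtype.ext (hinjv _ _ (by
      rw [← ha x, ← ha y]
      exact congrArg (fun u : (ZMod p)ˣ => (u : ZMod p) • v) h))
    have hdvd : m ∣ p - 1 := by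
      rw [hm, ← ZMod.card_units p, ← Nat.card_eq_fintype_card]
      exact Subgroup.card_dvd_of_injective χ hχ
    obtain ⟨k, hk⟩ := hdvd
    have hn2 : n = 2 := by rw [hn, hdim]
    rw [hn2] at hHV
    have hk240 : p + 1 ∣ 240 := by
      have e : (p + 1) * (m * k) = 120 * (m * i) := by
        rw [← hk, ← Nat.sq_sub_sq, one_pow]
        omega
      have e2 : (p + 1) * k = 120 * i :=
        Nat.eq_of_mul_eq_mul_left hmpos (by rw [mul_left_comm, e]; ring)
      rcases hi with rfl | rfl
      · exact (Dvd.intro k e2).trans (by norm_num)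
      · exact Dvd.intro k e2
    have hcases : p = 7 ∨ p = 11 ∨ p = 19 ∨ p = 23 ∨ p = 29 ∨ p = 47 ∨ p = 59 ∨ p = 79 ∨ p = 239 := by
      have h := (by decide +kernel : ∀ x ∈ Nat.divisors 240, (x - 1).Prime → 7 ≤ x - 1 →
        x - 1 ∈ [7, 11, 19, 23, 29, 47, 59, 79, 239]) (p + 1) (Nat.mem_divisors.2 ⟨hk240, by norm_num⟩)
        (by simpa using hp) (by simpa using hpge)
      simpa using h
    have hiso : ∀ c : ℕ, m = c → i = 1 → Nonempty (H ≃* SL25 × Multiplicative (ZMod c)) := by
      intro c hc hi1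
      have hsurj : Function.Surjective π := by
        rw [← MonoidHom.range_eq_top, hπrange]
        refine Subgroup.eq_top_of_card_eq _ ?_
        rw [hsup, hHcard, hi1, mul_one]
      refine ⟨(MulEquiv.ofBijective π ⟨hπinj, hsurj⟩).symm.trans (e.prodCongr ?_)⟩
      exact mulEquivOfCyclicCardEq (by
        rw [← hm, hc, Nat.card_congr Multiplicative.toAdd, Nat.card_zmod])
    rw [hcardV, hn2]
    rcases hcases with rfl | rfl | rfl | rfl | rfl | rfl | rfl | rfl | rfl <;>
      rcases hi with rfl | rfl <;>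
      norm_num at hHV <;> try omega
    · left
      refine ⟨by norm_num, ?_⟩
      obtain ⟨f⟩ := hiso 1 (by omega) rfl
      have : Subsingleton (Multiplicative (ZMod 1)) := inferInstanceAs (Subsingleton (ZMod 1))
      exact ⟨f.trans (MulEquiv.prodUnique (M := SL25) (N := Multiplicative (ZMod 1)))⟩
    · right; left
      exact ⟨by norm_num, hiso 7 (by omega) rfl⟩
    · right; right
      exact ⟨by norm_num, hiso 29 (by omega) rfl⟩
  · -- dimension four is impossible
    exfalso
    rw [hd'] at hdim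
    have hn4 : n = 4 := by rw [hn, hdim]
    rw [hn4] at hHV
    let f : Option (M × Bool) → D := fun o => o.elim 0 fun x =>
      if x.2 then ⟨toEnd x.1 v, (hTm x.1).1⟩ else -⟨toEnd x.1 v, (hTm x.1).1⟩
    have hne : ∀ x : M, toEnd x v ≠ 0 := fun x h =>
      hv ((LinearEquiv.map_eq_zero_iff ((x : H) : V ≃ₗ[ZMod p] V)).1 h)
    have hpm : ∀ x y : M, toEnd x v ≠ -toEnd y v := fun x y h => by
      have hz : toEnd ((y : H)⁻¹ * x) v = -v := by
        rw [map_mul, Module.End.mul_apply, h, map_neg, ← Module.End.mul_apply, ← map_mul,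
          inv_mul_cancel, map_one, Module.End.one_apply]
      have hsq : ((y : H)⁻¹ * x) ^ 2 = 1 := by
        by_contra hne'
        refine hv (hfpf _ hne' v ?_)
        rw [pow_two, map_mul, Module.End.mul_apply, hz, map_neg, hz, neg_neg]
      have h1 : ((y⁻¹ * x : M) : H) = 1 := by
        have hd := orderOf_dvd_natCard (y⁻¹ * x : M)
        have h2 : orderOf (y⁻¹ * x : M) ∣ 2 := orderOf_dvd_of_pow_eq_one (Subtype.ext (by
          rw [Subgroup.coe_pow, Subgroup.coe_mul, Subgroup.coe_inv]; exact hsq))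
        rcases (Nat.dvd_prime Nat.prime_two).1 h2 with h' | h'
        · rw [orderOf_eq_one_iff.1 h']; rfl
        · exact absurd (h' ▸ hd) hm2
      rw [Subgroup.coe_mul, Subgroup.coe_inv] at h1
      rw [h1, map_one, Module.End.one_apply] at hz
      have : (2 : ZMod p) • v = 0 := by rw [two_smul]; nth_rewrite 1 [hz]; exact neg_add_cancel v
      exact hv ((smul_eq_zero.1 this).resolve_left h2K)
    have hf : Function.Injective f := by
      rintro (_ | ⟨x, _ | _⟩) (_ | ⟨y, _ | _⟩) h <;>
        simp only [f, Option.elim, Bool.false_eq_true, if_false, if_true, Subtype.ext_iff,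
          Submodule.coe_zero, Submodule.coe_neg] at h
      · rfl
      · exact absurd h.symm (neg_ne_zero.2 (hne y))
      · exact absurd h.symm (hne y)
      · exact absurd h (neg_ne_zero.2 (hne x))
      · rw [Subtype.ext (hinjv _ _ (neg_inj.1 h))]
      · exact absurd h.symm (hpm y x)
      · exact absurd h (hne x)
      · exact absurd h (hpm x y)
      · rw [Subtype.ext (hinjv _ _ h)]
    have hle : 2 * m + 1 ≤ p ^ 2 := by
      have h := Nat.card_le_card_of_injective f hf
      rw [Finite.card_option, Nat.card_prod, Nat.card_eq_fintype_card (α := Bool), Fintype.card_bool,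
        Module.natCard_eq_pow_finrank (K := ZMod p) (V := D), Nat.card_zmod, ← hd, hd'] at h
      omega
    have hp10 : p ≤ 10 := by
      have : 120 * (m * i) ≤ 120 * (2 * m) := by
        rw [mul_comm m i]
        exact Nat.mul_le_mul_left _ (Nat.mul_le_mul_right _ (by omega))
      by_contra hc
      have h11 : 121 ≤ p ^ 2 := by
        calc 121 = 11 ^ 2 := by norm_num
          _ ≤ p ^ 2 := Nat.pow_le_pow_left (by omega) 2
      have h4 : p ^ 4 = p ^ 2 * p ^ 2 := by ring
      have : 121 * p ^ 2 ≤ p ^ 2 * p ^ 2 := Nat.mul_le_mul_right _ h11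
      omega
    have hp7 : p = 7 :=
      (by decide : ∀ q : ℕ, q < 11 → 7 ≤ q → q.Prime → q = 7) p (by omega) hpge hp
    rw [hp7] at hHV
    rcases hi with rfl | rfl <;> omega

end Cfsg.Agent.S0689
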