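import Cfsg.Statements.S3742
import Mathlib
import Cfsg.Agent.Lib.Block.SharplySolvable

set_option autoImplicit false
open Cfsg

namespace Cfsg.Agent.S3742

/-- The automorphism group of the quaternion group of order 8 is isomorphic to the symmetric group of degree 4. -/
theorem result : Nonempty (MulAut (QuaternionGroup 2) ≃* Equiv.Perm (Fin 4)) := by
  classical
  let cyc : Fin 6 → Fin 4 → Fin 4 := ![![2, 3, 1, 0], ![3, 0, 1, 2], ![1, 3, 0, 2], ![3, 2, 0, 1], ![1, 2, 3, 0], ![2, 0, 3, 1]]
  let el : Fin 6 → QuaternionGroup 2 := ![QuaternionGroup.a 1, QuaternionGroup.xa 0, QuaternionGroup.xa 3,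
    QuaternionGroup.a 3, QuaternionGroup.xa 2, QuaternionGroup.xa 1]
  let idx : QuaternionGroup 2 → Option (Fin 6) := fun x => (List.finRange 6).find? (fun i => el i == x)
  let act : Equiv.Perm (Fin 4) → QuaternionGroup 2 → QuaternionGroup 2 := fun σ x => match idx x with
    | none => x
    | some i => match (List.finRange 6).find? (fun j => decide (∀ v, cyc j (σ v) = σ (cyc i v))) with
      | none => x
      | some j => el j
  have hmul : ∀ σ x y, act σ (x * y) = act σ x * act σ y := by decide +kernel
  have hcomp : ∀ σ τ x, act (σ * τ) x = act σ (act τ x) := by decide +kernel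
  have hone : ∀ x, act 1 x = x := by decide +kernel
  have hfaith : ∀ σ, (∀ x, act σ x = x) → σ = 1 := by decide +kernel
  let Φ : Equiv.Perm (Fin 4) →* MulAut (QuaternionGroup 2) := MonoidHom.mk'
    (fun σ =>
      { toFun := act σ
        invFun := act σ⁻¹
        left_inv := fun x => by rw [← hcomp, inv_mul_cancel, hone]
        right_inv := fun x => by rw [← hcomp, mul_inv_cancel, hone]
        map_mul' := hmul σ })
    fun σ τ => MulEquiv.ext fun x => hcomp σ τ x
  have hinj : Function.Injective Φ := by
    rw [injective_iff_map_eq_one]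
    exact fun σ hσ => hfaith σ fun x => DFunLike.congr_fun hσ x
  have hcard : Nat.card (MulAut (QuaternionGroup 2)) ≤ Nat.card (Equiv.Perm (Fin 4)) := by
    rw [Nat.card_perm, Nat.card_fin]
    exact Nat.le_of_dvd (by decide) Agent.Block.SharpTwo.q8_aut_card_dvd
  exact ⟨(MulEquiv.ofBijective Φ (hinj.bijective_of_nat_card_le hcard)).symm⟩

end Cfsg.Agent.S3742
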