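import Cfsg.Statements.S3304
import Mathlib
import Cfsg.Agent.Lib.Grp.Frattini
import Cfsg.Agent.S3305
import Cfsg.Agent.S3294
import Cfsg.Agent.S3370
import Cfsg.Agent.S3742
import Cfsg.Agent.Lib.Grp.AmbivalentSolvable
import Cfsg.Agent.Lib.Fus.DihedralAut
import Cfsg.Agent.Lib.Grp.Basic
-- import your own Cfsg.Agent.* helpers here

set_option autoImplicit false
open Cfsg

namespace Cfsg.Agent.S3304

open Equiv in
theorem swap_key : ∀ σ : Perm (Fin 4), σ * σ = 1 → σ ≠ 1 → Equiv.Perm.sign σ ≠ 1 → ∃ g, g * σ * g⁻¹ = swap 0 1 := by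
  decide +kernel

open Equiv in
theorem four_key : ∀ v : Perm (Fin 4), v * v = 1 → v ≠ 1 → Equiv.Perm.sign v ≠ 1 →
    ∃ g, g * v * g⁻¹ * v ≠ v * (g * v * g⁻¹) := by
  decide +kernel

open Equiv in
theorem four_key' : ∀ v w : Perm (Fin 4), v * v = 1 → v ≠ 1 → Equiv.Perm.sign v = 1 → w * w = 1 → Equiv.Perm.sign w = 1 → w ≠ 1 →
    ∃ g, g * v * g⁻¹ = w := by
  decide +kernel

theorem point_key : ∀ v : Equiv.Perm (Fin 4), v * v = 1 → Equiv.Perm.sign v = 1 → v 3 = 3 → v = 1 := by
  decide +kernel

abbrev Q8 := QuaternionGroup 2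
abbrev H3 : Subgroup (Equiv.Perm (Fin 4)) := MulAction.stabilizer (Equiv.Perm (Fin 4)) (3 : Fin 4)

abbrev act3 (E : MulAut Q8 ≃* Equiv.Perm (Fin 4)) : H3 →* MulAut Q8 := E.symm.toMonoidHom.comp H3.subtype

/-- The model group. -/
abbrev Model (E : MulAut Q8 ≃* Equiv.Perm (Fin 4)) := Q8 ⋊[act3 E] H3

set_option maxHeartbeats 1000000 in
theorem exists_iso (E : MulAut Q8 ≃* Equiv.Perm (Fin 4)) {X : Type*} [Group X] [Finite X] (hX : Nat.card X = 48)
    (Q : Subgroup X) [Q.Normal] (e0 : Q ≃* Q8) (hC : Subgroup.centralizer (Q : Set X) ≤ Q)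
    (t : X) (ht : t * t = 1) (htQ : t ∉ Q) : Nonempty (Model E ≃* X) := by
  classical
  haveI : Fact (Nat.Prime 2) := ⟨Nat.prime_two⟩
  have hQ8 : Nat.card Q = 8 := by rw [Nat.card_congr e0.toEquiv, Nat.card_eq_fintype_card, QuaternionGroup.card]
  let Φ : (Q ≃* Q8) → X →* Equiv.Perm (Fin 4) := fun e =>
    E.toMonoidHom.comp ((MulAut.congr e).toMonoidHom.comp MulAut.conjNormal)
  have hker : ∀ e, ∀ x, Φ e x = 1 ↔ x ∈ Subgroup.centralizer (Q : Set X) := by
    intro e x
    simp only [Φ, MonoidHom.coe_comp, MulEquiv.coe_toMonoidHom, Function.comp_apply, MulEquiv.map_eq_one_iff,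
      Subgroup.mem_centralizer_iff]
    constructor
    · intro h q hq
      have := congrArg (fun (a : Q) => (a : X)) (DFunLike.congr_fun h ⟨q, hq⟩)
      simp only [MulAut.conjNormal_apply, MulAut.one_apply] at this
      exact (mul_inv_eq_iff_eq_mul.mp this).symm
    · intro h
      refine MulEquiv.ext fun q => Subtype.ext ?_
      simp only [MulAut.conjNormal_apply, MulAut.one_apply]
      rw [mul_inv_eq_iff_eq_mul]
      exact (h q q.2).symm
  -- the centralizer has order 2
  have hCc : ∀ c, c ∈ Subgroup.centralizer (Q : Set X) → c * c = 1 := by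
    intro c hc
    have hq : ∀ q : Q8, (∀ r, r * q = q * r) → q * q = 1 := by decide +kernel
    have h2 := hq (e0 ⟨c, hC hc⟩) (fun r => by
      obtain ⟨r, rfl⟩ := e0.surjective r
      rw [← map_mul, ← map_mul]
      exact congrArg e0 (Subtype.ext (Subgroup.mem_centralizer_iff.mp hc r r.2)))
    rw [← map_mul, MulEquiv.map_eq_one_iff] at h2
    exact congrArg Subtype.val h2
  -- the image of `Q`
  have hsq : ∀ e, ∀ q ∈ Q, Φ e q * Φ e q = 1 := by
    intro e q hq
    rw [← map_mul, hker, Subgroup.mem_centralizer_iff]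
    intro r hr
    have hk : ∀ a b : Q8, b * (a * a) = a * a * b := by decide +kernel
    have := congrArg Subtype.val (e0.injective (a₁ := ⟨r, hr⟩ * (⟨q, hq⟩ * ⟨q, hq⟩)) (a₂ := ⟨q, hq⟩ * ⟨q, hq⟩ * ⟨r, hr⟩)
      (by simp only [map_mul]; exact hk _ _))
    exact this
  have hcomm : ∀ e, ∀ a ∈ Q, ∀ b ∈ Q, Φ e a * Φ e b = Φ e b * Φ e a := by
    intro e a ha b hb
    have h1 := hsq e _ (mul_mem ha hb)
    have h2 := hsq e a ha
    have h3 := hsq e b hb
    rw [map_mul] at h1
    calc Φ e a * Φ e b = (Φ e a * Φ e b)⁻¹ := eq_inv_of_mul_eq_one_left h1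
      _ = Φ e b * Φ e a := by
        rw [mul_inv_rev, inv_eq_of_mul_eq_one_left h2, inv_eq_of_mul_eq_one_left h3]
  have hcard : ∀ e, Function.Surjective (Φ e) ∧ Nat.card (Subgroup.centralizer (Q : Set X)) = 2 := by
    intro e
    have hk : (Φ e).ker = Subgroup.centralizer (Q : Set X) := by ext x; rw [MonoidHom.mem_ker, hker]
    have h1 := (Φ e).ker.card_mul_index
    rw [Subgroup.index_ker, hk, hX] at h1
    have h3 : Nat.card (Φ e).range ≤ Nat.card (Equiv.Perm (Fin 4)) := Nat.card_le_card_of_injective _ Subtype.val_injective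
    have h4 : Nat.card (Equiv.Perm (Fin 4)) = 24 := by rw [Nat.card_perm, Nat.card_fin]; rfl
    have hP : IsPGroup 2 (Subgroup.centralizer (Q : Set X)) := fun c => ⟨1, Subtype.ext (by
      rw [pow_one, pow_two]; exact hCc c c.2)⟩
    obtain ⟨k, hk'⟩ := hP.exists_card_eq
    have hk2 : Nat.card (Subgroup.centralizer (Q : Set X)) ≤ 2 := by
      have hz : ∀ z w : Q8, (∀ r, r * z = z * r) → (∀ r, r * w = w * r) → z ≠ 1 → w ≠ 1 → z = w := by decide +kernel
      have hmap : ∀ c : Subgroup.centralizer (Q : Set X), ∀ r, r * e0 ⟨c, hC c.2⟩ = e0 ⟨c, hC c.2⟩ * r := fun c r => by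
        obtain ⟨r, rfl⟩ := e0.surjective r
        rw [← map_mul, ← map_mul]
        exact congrArg e0 (Subtype.ext (Subgroup.mem_centralizer_iff.mp c.2 r r.2))
      let f : Subgroup.centralizer (Q : Set X) → Bool := fun c => decide (c = 1)
      have hf : Function.Injective f := fun a b hab => by
        by_cases ha : a = 1
        · simp [f, ha] at hab; rw [ha]; exact hab.symm
        · have hb : b ≠ 1 := fun hb => by simp [f, hb, ha] at hab
          have := hz _ _ (hmap a) (hmap b) (fun h => ha (Subtype.ext (congrArg (fun q : Q => (q : X)) ((MulEquiv.map_eq_one_iff e0).mp h))))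
            (fun h => hb (Subtype.ext (congrArg (fun q : Q => (q : X)) ((MulEquiv.map_eq_one_iff e0).mp h))))
          exact Subtype.ext (congrArg (fun q : Q => (q : X)) (e0.injective this))
      simpa using Nat.card_le_card_of_injective f hf
    have hr : Nat.card (Φ e).range = 24 := by
      have : Nat.card (Φ e).range ≤ 24 := h4 ▸ h3
      nlinarith
    refine ⟨MonoidHom.range_eq_top.mp (Subgroup.eq_top_of_card_eq _ (hr.trans h4.symm)), ?_⟩
    rw [hr] at h1
    omega
  -- image of `Q` is the set of double transpositions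
  have hV : ∀ e, (∀ q ∈ Q, Equiv.Perm.sign (Φ e q) = 1) ∧
      (∀ v, v * v = 1 → Equiv.Perm.sign v = 1 → ∃ q ∈ Q, Φ e q = v) := by
    intro e
    have hsign : ∀ q ∈ Q, Equiv.Perm.sign (Φ e q) = 1 := by
      intro q hq
      by_contra hs
      obtain ⟨g, hg⟩ := four_key _ (hsq e q hq) (fun h => hs (by rw [h, map_one])) hs
      obtain ⟨y, rfl⟩ := (hcard e).1 g
      rw [← map_inv, ← map_mul, ← map_mul] at hg
      exact hg (hcomm e _ ((inferInstance : Q.Normal).conj_mem q hq y) q hq)
    refine ⟨hsign, fun v hv hvs => ?_⟩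
    by_cases hv1 : v = 1
    · exact ⟨1, one_mem _, by rw [map_one, hv1]⟩
    obtain ⟨q, hq, hq1⟩ : ∃ q ∈ Q, Φ e q ≠ 1 := by
      by_contra hall
      push Not at hall
      have hle : Q ≤ Subgroup.centralizer (Q : Set X) := fun q hq => (hker e q).mp (hall q hq)
      have := Subgroup.card_le_of_le hle
      rw [(hcard e).2, hQ8] at this
      omega
    obtain ⟨g, hg⟩ := four_key' _ v (hsq e q hq) hq1 (hsign q hq) hv hvs hv1
    obtain ⟨y, rfl⟩ := (hcard e).1 g
    exact ⟨y * q * y⁻¹, (inferInstance : Q.Normal).conj_mem q hq y, by rw [map_mul, map_mul, map_inv, hg]⟩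
  have hσ2 : Φ e0 t * Φ e0 t = 1 := by rw [← map_mul, ht, map_one]
  have hσ1 : Φ e0 t ≠ 1 := fun h => htQ (hC ((hker e0 t).mp h))
  have hσs : Equiv.Perm.sign (Φ e0 t) ≠ 1 := by
    intro hs
    obtain ⟨q, hq, hqe⟩ := (hV e0).2 _ hσ2 hs
    refine htQ ?_
    have h1 : q⁻¹ * t ∈ Q := hC ((hker e0 _).mp (by rw [map_mul, map_inv, hqe, inv_mul_cancel]))
    simpa using mul_mem hq h1
  obtain ⟨g, hg⟩ := swap_key _ hσ2 hσ1 hσs
  let e : Q ≃* Q8 := e0.trans (E.symm g)
  have hΦ : ∀ x, Φ e x = g * Φ e0 x * g⁻¹ := by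
    intro x
    have h1 : MulAut.congr e (MulAut.conjNormal x) = E.symm g * MulAut.congr e0 (MulAut.conjNormal x) * (E.symm g)⁻¹ :=
      MulEquiv.ext fun q => rfl
    show E (MulAut.congr e (MulAut.conjNormal x)) = _
    rw [h1, map_mul, map_mul, map_inv, MulEquiv.apply_symm_apply]
    rfl
  have htσ : Φ e t = Equiv.swap 0 1 := by rw [hΦ, hg]
  obtain ⟨u0, hu0⟩ := (hcard e).1 (Equiv.swap 0 1 * Equiv.swap 1 2)
  have hτ3 : (Equiv.swap 0 1 * Equiv.swap 1 2 : Equiv.Perm (Fin 4)) ^ 3 = 1 := by decide +kernel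
  have hu06 : u0 ^ 3 * u0 ^ 3 = 1 := hCc _ ((hker e _).mp (by rw [map_pow, hu0, hτ3]))
  let u : X := u0 ^ 4
  have hu : Φ e u = Equiv.swap 0 1 * Equiv.swap 1 2 := by
    rw [show u = u0 ^ 4 from rfl, map_pow, hu0, pow_succ, hτ3, one_mul]
  have hu3 : u ^ 3 = 1 := by
    rw [show u ^ 3 = (u0 ^ 3 * u0 ^ 3) * (u0 ^ 3 * u0 ^ 3) by simp only [u, ← pow_add, ← pow_mul], hu06, one_mul]
  have htu : t * u * t⁻¹ = u⁻¹ := by
    have hk : u * (t * u * t⁻¹) ∈ Subgroup.centralizer (Q : Set X) := by
      rw [← hker e, map_mul, map_mul, map_mul, map_inv, hu, htσ]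
      decide +kernel
    set k := u * (t * u * t⁻¹) with hkdef
    have hkz : ∀ y, y * k = k * y := by
      intro y
      have hc : (inferInstance : (Subgroup.centralizer (Q : Set X)).Normal).conj_mem k hk y = (inferInstance : (Subgroup.centralizer (Q : Set X)).Normal).conj_mem k hk y := rfl
      by_cases hk1 : k = 1
      · rw [hk1, mul_one, one_mul]
      have hm := (inferInstance : (Subgroup.centralizer (Q : Set X)).Normal).conj_mem k hk y
      obtain ⟨a, b, hab, hall⟩ := Nat.card_eq_two_iff.mp (hcard e).2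
      have hne1 : y * k * y⁻¹ ≠ 1 := fun h => hk1 (conj_eq_one_iff.mp h)
      have key : ∀ c d : Subgroup.centralizer (Q : Set X), c ≠ 1 → d ≠ 1 → c = d := by
        intro c d hc hd
        rcases (Set.eq_univ_iff_forall.mp hall c), (Set.eq_univ_iff_forall.mp hall d),
          (Set.eq_univ_iff_forall.mp hall 1) with ⟨rfl | rfl, rfl | rfl, h1 | h1⟩ <;> simp_all
      have := key ⟨_, hm⟩ ⟨k, hk⟩ (fun h => hne1 (congrArg Subtype.val h)) (fun h => hk1 (congrArg Subtype.val h))
      exact mul_inv_eq_iff_eq_mul.mp (congrArg Subtype.val this)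
    have h1 : t * u * t⁻¹ = u⁻¹ * k := by rw [hkdef]; group
    have h2 : (t * u * t⁻¹) ^ 3 = 1 := by rw [conj_pow, hu3, mul_one, mul_inv_cancel]
    rw [h1, (show Commute u⁻¹ k from hkz u⁻¹).mul_pow, inv_pow, hu3, inv_one, one_mul, pow_succ, pow_two,
      hCc k hk, one_mul] at h2
    rw [h1, h2, mul_one]
  let K : Subgroup X := Subgroup.zpowers t ⊔ Subgroup.zpowers u
  have hnorm : Subgroup.zpowers t ≤ Subgroup.normalizer (Subgroup.zpowers u : Set X) := by
    rw [Subgroup.zpowers_le, Subgroup.mem_normalizer_iff]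
    intro y
    constructor
    · intro hy
      obtain ⟨i, rfl⟩ := Subgroup.mem_zpowers_iff.mp hy
      rw [← conj_zpow, htu]
      exact zpow_mem (inv_mem (Subgroup.mem_zpowers u)) i
    · intro hy
      obtain ⟨i, hi⟩ := Subgroup.mem_zpowers_iff.mp hy
      refine Subgroup.mem_zpowers_iff.mpr ⟨-i, ?_⟩
      have hti : t⁻¹ = t := inv_eq_of_mul_eq_one_left ht
      calc u ^ (-i) = (u⁻¹) ^ i := by rw [zpow_neg, inv_zpow]
        _ = t * u ^ i * t⁻¹ := by rw [← htu, conj_zpow]
        _ = y := by rw [hi, hti, ← mul_assoc, ← mul_assoc, ht, one_mul, mul_assoc, ht, mul_one]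
  have hK6 : Nat.card K ≤ 6 := by
    have h1 := Cfsg.Agent.Grp.card_sup_mul_card_inf hnorm
    have h2 : Nat.card (Subgroup.zpowers t) ≤ 2 := by
      rw [Nat.card_zpowers]; exact Nat.le_of_dvd two_pos (orderOf_dvd_of_pow_eq_one (by rw [pow_two, ht]))
    have h3 : Nat.card (Subgroup.zpowers u) ≤ 3 := by
      rw [Nat.card_zpowers]; exact Nat.le_of_dvd (by norm_num) (orderOf_dvd_of_pow_eq_one hu3)
    have h4 : 0 < Nat.card ↥(Subgroup.zpowers t ⊓ Subgroup.zpowers u) := Nat.card_pos
    show Nat.card ↥(Subgroup.zpowers t ⊔ Subgroup.zpowers u) ≤ 6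
    nlinarith
  have hKH : K.map (Φ e) = H3 := by
    apply le_antisymm
    · rw [Subgroup.map_le_iff_le_comap]
      refine sup_le (Subgroup.zpowers_le.mpr ?_) (Subgroup.zpowers_le.mpr ?_)
      · show Φ e t • (3 : Fin 4) = 3
        rw [htσ]; decide
      · show Φ e u • (3 : Fin 4) = 3
        rw [hu]; decide
    · intro h hh
      have hall : ∀ h : Equiv.Perm (Fin 4), h • (3 : Fin 4) = 3 → ∃ i : Fin 3, ∃ j : Fin 2,
          (Equiv.swap 0 1 * Equiv.swap 1 2) ^ (i : ℕ) * Equiv.swap 0 1 ^ (j : ℕ) = h := by decide +kernel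
      obtain ⟨i, j, rfl⟩ := hall h hh
      exact ⟨u ^ (i : ℕ) * t ^ (j : ℕ), mul_mem (pow_mem (Subgroup.mem_sup_right (Subgroup.mem_zpowers u)) _)
        (pow_mem (Subgroup.mem_sup_left (Subgroup.mem_zpowers t)) _), by rw [map_mul, map_pow (Φ e) u, map_pow (Φ e) t, hu, htσ]⟩
  let π : K →* H3 := ((Φ e).comp K.subtype).codRestrict H3 fun k => hKH ▸ ⟨k, k.2, rfl⟩
  have hπs : Function.Surjective π := fun h => by
    have hh : (h : Equiv.Perm (Fin 4)) ∈ K.map (Φ e) := hKH.symm ▸ h.2
    obtain ⟨k, hk, hkh⟩ := hh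
    exact ⟨⟨k, hk⟩, Subtype.ext hkh⟩
  have hπb : Function.Bijective π := hπs.bijective_of_nat_card_le (hK6.trans (by
    rw [Nat.card_eq_fintype_card]; decide +kernel))
  let s : H3 →* X := K.subtype.comp (MulEquiv.ofBijective π hπb).symm.toMonoidHom
  have hs : ∀ h : H3, Φ e (s h) = h := fun h =>
    congrArg Subtype.val ((MulEquiv.ofBijective π hπb).apply_symm_apply h)
  let j : Q8 →* X := Q.subtype.comp e.symm.toMonoidHom
  let F : Model E →* X := SemidirectProduct.lift j s (fun h => MonoidHom.ext fun q => by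
    have h1 : MulAut.congr e (MulAut.conjNormal (s h)) = E.symm (h : Equiv.Perm (Fin 4)) :=
      E.injective (by rw [E.apply_symm_apply]; exact hs h)
    show (e.symm (E.symm (h : Equiv.Perm (Fin 4)) q) : X) = s h * (e.symm q : X) * (s h)⁻¹
    rw [← h1, ← MulAut.conjNormal_apply]
    congr 1
    exact e.symm_apply_apply _)
  have hFi : Function.Injective F := by
    rw [injective_iff_map_eq_one]
    intro x hx
    have hx' : (e.symm x.left : X) * s x.right = 1 := hx
    have hsQ : s x.right ∈ Q := by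
      rw [eq_inv_of_mul_eq_one_right hx']
      exact inv_mem (SetLike.coe_mem _)
    have hfix : (x.right : Equiv.Perm (Fin 4)) 3 = 3 := x.right.2
    have hr : x.right = 1 := by
      refine Subtype.ext (point_key _ ?_ ?_ hfix)
      · rw [← hs x.right]; exact hsq e _ hsQ
      · rw [← hs x.right]; exact (hV e).1 _ hsQ
    rw [hr, map_one, mul_one] at hx'
    exact SemidirectProduct.ext (e.symm.injective ((Subtype.ext hx' : e.symm x.left = 1).trans (map_one _).symm)) hr
  have hM : Nat.card (Model E) = 48 := by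
    rw [SemidirectProduct.card, Nat.card_eq_fintype_card (α := Q8), QuaternionGroup.card, Nat.card_eq_fintype_card,
      show Fintype.card H3 = 6 by decide +kernel]
  exact ⟨MulEquiv.ofBijective F (hFi.bijective_of_nat_card_le (by rw [hM, hX]))⟩

/-- Let G be a finite solvable group in which the intersection of any two distinct Sylow 2-subgroups has 2-rank at most 1 (contains no Klein four-group). Write Q = G/O(G), O(G) the largest normal subgroup of odd order. Then Q has a normal Sylow 2-subgroup; or Q is isomorphic to GL(2,3); or Q has order 48, centre of order 2 with central quotient isomorphic to the symmetric group of degree 4, and generalized quaternion Sylow 2-subgroups of order 16 (the binary octahedral group). The last two are the two representation groups of the symmetric group of degree 4. -/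
theorem result {G : Type*} [Group G] [Finite G] (hs : Group.IsSolvable G)
    (hI : ∀ S T : Sylow 2 G, S ≠ T → Cfsg.PRankLE 2 1 ↥((S : Subgroup G) ⊓ (T : Subgroup G))) :
    (∃ P : Sylow 2 (G ⧸ Cfsg.oddCore G), (P : Subgroup (G ⧸ Cfsg.oddCore G)).Normal) ∨
    Nonempty ((G ⧸ Cfsg.oddCore G) ≃* GL (Fin 2) (ZMod 3)) ∨
    (Nat.card (G ⧸ Cfsg.oddCore G) = 48 ∧ Nat.card ↥(Subgroup.center (G ⧸ Cfsg.oddCore G)) = 2 ∧
      Nonempty ((G ⧸ Cfsg.oddCore G) ⧸ Subgroup.center (G ⧸ Cfsg.oddCore G) ≃* Equiv.Perm (Fin 4)) ∧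
      ∀ P : Sylow 2 (G ⧸ Cfsg.oddCore G), Nonempty (↥(P : Subgroup (G ⧸ Cfsg.oddCore G)) ≃* QuaternionGroup 4)) := by
  classical
  haveI : Fact (Nat.Prime 2) := ⟨Nat.prime_two⟩
  haveI : (pPrimeCore 2 G).Normal := Cfsg.Agent.Grp.pPrimeCore_isNormal
  set O := oddCore G with hOdef
  haveI : O.Normal := Cfsg.Agent.Grp.pPrimeCore_isNormal
  have hOc : (Nat.card O).Coprime 2 := Cfsg.Agent.Grp.pPrimeCore_coprime
  set X := G ⧸ O
  let f := QuotientGroup.mk' O
  have hf : Function.Surjective f := QuotientGroup.mk'_surjective O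
  haveI : Group.IsSolvable X := solvable_of_surjective hf
  have hpc : pPrimeCore 2 X = ⊥ := Cfsg.Agent.Grp.pPrimeCore_quotient_eq_bot
  have hcent : Subgroup.centralizer (pCore 2 X : Set X) ≤ pCore 2 X := Cfsg.Agent.Grp.centralizer_pCore_le hpc
  obtain ⟨P⟩ : Nonempty (Sylow 2 X) := inferInstance
  by_cases hn : (P : Subgroup X).Normal
  · exact Or.inl ⟨P, hn⟩
  obtain ⟨g, hg⟩ : ∃ g : X, g • P ≠ P := by
    by_contra h
    push Not at h
    exact hn (Subgroup.normalizer_eq_top_iff.mp (top_le_iff.mp fun g _ => Sylow.smul_eq_iff_mem_normalizer.mp (h g)))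
  have hnp : ¬ IsPGroup 2 X := fun hXp => by
    have htop : (P : Subgroup X) = ⊤ := (P.3 (hXp.to_subgroup ⊤) le_top).symm
    exact hn (by rw [htop]; infer_instance)
  set Q := pCore 2 X with hQdef
  haveI : Q.Normal := Cfsg.Agent.Grp.pCore_isNormal
  have hQp : IsPGroup 2 Q := Cfsg.Agent.Grp.pCore_isPGroup
  -- a unique involution in `Q`
  have huniq : ∀ u v : Q, orderOf u = 2 → orderOf v = 2 → u = v := by
    obtain ⟨Dsy⟩ : Nonempty (Sylow 2 (Q.comap f)) := inferInstance
    set D := (Dsy : Subgroup (Q.comap f)).map (Q.comap f).subtype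
    let f' : Q.comap f →* Q := f.subgroupComap _
    have hfull : ((Dsy : Subgroup (Q.comap f)).map f') = ⊤ :=
      ((Dsy.mapSurjective (MonoidHom.subgroupComap_surjective_of_surjective f _ hf)).3 (hQp.to_subgroup ⊤) le_top).symm
    have hDp : IsPGroup 2 D := Dsy.2.map _
    have hDQ : D.map f ≤ Q := (Subgroup.map_mono (Subgroup.map_subtype_le _)).trans (Subgroup.map_comap_le _ _)
    obtain ⟨S1, hS1, hS1'⟩ := Cfsg.Agent.S3305.exists_lift f hf (g • P) D hDp (hDQ.trans (Cfsg.Agent.Grp.pCore_le_sylow _))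
    obtain ⟨T1, hT1, hT1'⟩ := Cfsg.Agent.S3305.exists_lift f hf P D hDp (hDQ.trans (Cfsg.Agent.Grp.pCore_le_sylow _))
    have hrank := hI S1 T1 (fun h => hg (Sylow.ext (by rw [← hS1', ← hT1', h])))
    have hDinj : ∀ d ∈ D, f d = 1 → d = 1 := by
      intro d hd h1
      have : d ∈ O ⊓ D := ⟨(QuotientGroup.eq_one_iff d).mp h1, hd⟩
      obtain ⟨k, hk⟩ := hDp.exists_card_eq
      rwa [Cfsg.Agent.Grp.inf_eq_bot_of_coprime (hk ▸ hOc.pow_right k), Subgroup.mem_bot] at this
    have hlift : ∀ q : Q, ∃ d ∈ D, f d = q := by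
      intro q
      obtain ⟨d, hd, hdq⟩ := (hfull ▸ Subgroup.mem_top _ : q ∈ (Dsy : Subgroup (Q.comap f)).map f')
      exact ⟨(d : G), ⟨d, hd, rfl⟩, congrArg Subtype.val hdq⟩
    -- two commuting involutions in `Q` coincide
    have hcom : ∀ a b : Q, a * a = 1 → b * b = 1 → a * b = b * a → a ≠ 1 → b ≠ 1 → a = b := by
      intro a b ha hb hab ha1 hb1
      by_contra hne
      obtain ⟨x, hx, hxa⟩ := hlift a
      obtain ⟨y, hy, hyb⟩ := hlift b
      have hab' : (a : X) * b = b * a := congrArg Subtype.val hab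
      have hxx : x * x = 1 := hDinj _ (mul_mem hx hx) (by rw [map_mul, hxa]; exact congrArg Subtype.val ha)
      have hyy : y * y = 1 := hDinj _ (mul_mem hy hy) (by rw [map_mul, hyb]; exact congrArg Subtype.val hb)
      have hxy : x * y = y * x := by
        refine mul_inv_eq_one.mp (hDinj _ (mul_mem (mul_mem hx hy) (inv_mem (mul_mem hy hx))) ?_)
        rw [map_mul, map_inv, map_mul, map_mul, hxa, hyb, hab', mul_inv_cancel]
      let I : Subgroup G := (S1 : Subgroup G) ⊓ (T1 : Subgroup G)
      let xi : I := ⟨x, hS1 hx, hT1 hx⟩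
      let yi : I := ⟨y, hS1 hy, hT1 hy⟩
      let A : Subgroup I :=
        { carrier := {1, xi, yi, xi * yi}
          one_mem' := by simp
          mul_mem' := by
            have e1 : xi * xi = 1 := Subtype.ext hxx
            have e2 : yi * yi = 1 := Subtype.ext hyy
            have e3 : yi * xi = xi * yi := Subtype.ext hxy.symm
            have e4 : ∀ z, xi * (xi * z) = z := fun z => by rw [← mul_assoc, e1, one_mul]
            have e5 : ∀ z, yi * (xi * z) = xi * (yi * z) := fun z => by rw [← mul_assoc, e3, mul_assoc]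
            rintro p q (rfl | rfl | rfl | rfl) (rfl | rfl | rfl | rfl) <;>
              simp only [one_mul, mul_one, Set.mem_insert_iff, Set.mem_singleton_iff, e1, e2, e3, mul_assoc, e4, e5,
                true_or, or_true]
          inv_mem' := by
            have e1 : xi⁻¹ = xi := inv_eq_of_mul_eq_one_left (Subtype.ext hxx)
            have e2 : yi⁻¹ = yi := inv_eq_of_mul_eq_one_left (Subtype.ext hyy)
            rintro p (rfl | rfl | rfl | rfl) <;> simp [mul_inv_rev, e1, e2, show yi * xi = xi * yi from Subtype.ext hxy.symm] }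
      have hAx : ∀ p ∈ A, ∀ q ∈ A, p * q = q * p := by
        have e3 : yi * xi = xi * yi := Subtype.ext hxy.symm
        rintro p (rfl | rfl | rfl | rfl) q (rfl | rfl | rfl | rfl) <;>
          first
          | simp
          | exact e3
          | exact e3.symm
          | (rw [mul_assoc, e3])
          | (rw [← mul_assoc, e3, mul_assoc])
      have hle := hrank A ⟨⟨fun p q => Subtype.ext (hAx _ p.2 _ q.2)⟩⟩ (by
        rintro p (rfl | rfl | rfl | rfl) <;> rw [pow_two]
        · simp
        · exact Subtype.ext hxx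
        · exact Subtype.ext hyy
        · exact Subtype.ext (show x * y * (x * y) = 1 by rw [mul_assoc, ← mul_assoc y, ← hxy, mul_assoc x y y, hyy, mul_one, hxx]))
      have hx1 : x ≠ 1 := fun h => ha1 (Subtype.ext (by rw [← hxa, h, map_one]; rfl))
      have hy1 : y ≠ 1 := fun h => hb1 (Subtype.ext (by rw [← hyb, h, map_one]; rfl))
      have hxny : x ≠ y := fun h => hne (Subtype.ext (by rw [← hxa, ← hyb, h]))
      let f3 : Fin 3 → A := ![⟨1, by simp [A]⟩, ⟨xi, show xi ∈ ({1, xi, yi, xi * yi} : Set I) by simp⟩,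
        ⟨yi, show yi ∈ ({1, xi, yi, xi * yi} : Set I) by simp⟩]
      have hf3 : Function.Injective f3 := by
        have p1 : (1 : I) ≠ xi := fun h => hx1 (congrArg Subtype.val h).symm
        have p2 : (1 : I) ≠ yi := fun h => hy1 (congrArg Subtype.val h).symm
        have p3 : xi ≠ yi := fun h => hxny (congrArg Subtype.val h)
        intro i k hik
        have h := congrArg Subtype.val hik
        fin_cases i <;> fin_cases k <;>
          first
          | rfl
          | exact absurd h p1
          | exact absurd h p2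
          | exact absurd h p3
          | exact absurd h.symm p1
          | exact absurd h.symm p2
          | exact absurd h.symm p3
      have := Nat.card_le_card_of_injective f3 hf3
      rw [Nat.card_fin] at this
      exact absurd (this.trans hle) (by norm_num)
    intro u v hu hv
    haveI : Nontrivial Q := ⟨⟨u, 1, fun h => by rw [h, orderOf_one] at hu; omega⟩⟩
    haveI := hQp.center_nontrivial
    have hcp : IsPGroup 2 (Subgroup.center Q) := hQp.to_subgroup _
    obtain ⟨k, hk0, hk⟩ := (hcp.nontrivial_iff_card).mp inferInstance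
    obtain ⟨z, hz⟩ := exists_prime_orderOf_dvd_card' (G := Subgroup.center Q) 2 (hk ▸ dvd_pow_self 2 (by omega))
    have hz2 : (z : Q) * z = 1 := by
      have h := pow_orderOf_eq_one z
      rw [hz, pow_two] at h
      exact congrArg Subtype.val h
    have hz1 : (z : Q) ≠ 1 := fun h => by rw [← Subgroup.orderOf_coe, h, orderOf_one] at hz; omega
    have hall : ∀ w : Q, orderOf w = 2 → w = z := fun w hw => hcom w z (by rw [← pow_two, ← hw, pow_orderOf_eq_one]) hz2
      (Subgroup.mem_center_iff.mp z.2 w) (fun h => by rw [h, orderOf_one] at hw; omega) hz1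
    rw [hall u hu, hall v hv]
  -- `Q` is the quaternion group of order eight
  have hQ8 : Nonempty (Q ≃* QuaternionGroup 2) := by
    rcases Cfsg.Agent.Grp.Ambivalent.cyclic_or_quaternion hQp huniq with hc | ⟨n, ⟨e⟩⟩
    · exact absurd (Cfsg.Agent.S3294.two_group_of_aut hpc (Cfsg.Agent.S3294.aut_cyclic hQp)) hnp
    · rcases Nat.eq_zero_or_pos n with rfl | hn0
      · exact ⟨e⟩
      · exact absurd (Cfsg.Agent.S3294.two_group_of_aut hpc (Cfsg.Agent.Fus.isPGroup_mulAut_congr e
          (Cfsg.Agent.Fus.isPGroup_mulAut_quaternionGroup (k := n + 1) (by omega)))) hnp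
  obtain ⟨e0⟩ := hQ8
  obtain ⟨E⟩ := Cfsg.Agent.S3742.result
  let φ : X →* Equiv.Perm (Fin 4) := E.toMonoidHom.comp ((MulAut.congr e0).toMonoidHom.comp MulAut.conjNormal)
  have hQc : Nat.card Q = 8 := by rw [Nat.card_congr e0.toEquiv, Nat.card_eq_fintype_card, QuaternionGroup.card]
  have hkerC : φ.ker = Subgroup.centralizer (Q : Set X) := by
    ext x
    simp only [φ, MonoidHom.mem_ker, MonoidHom.coe_comp, MulEquiv.coe_toMonoidHom, Function.comp_apply,
      MulEquiv.map_eq_one_iff, Subgroup.mem_centralizer_iff]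
    constructor
    · intro h q hq
      have := congrArg (fun (a : Q) => (a : X)) (DFunLike.congr_fun h ⟨q, hq⟩)
      simp only [MulAut.conjNormal_apply, MulAut.one_apply] at this
      exact (mul_inv_eq_iff_eq_mul.mp this).symm
    · intro h
      refine MulEquiv.ext fun q => Subtype.ext ?_
      simp only [MulAut.conjNormal_apply, MulAut.one_apply]
      rw [mul_inv_eq_iff_eq_mul]
      exact (h q q.2).symm
  have hC2 : Nat.card (Subgroup.centralizer (Q : Set X)) = 2 := by
    have h1 : Subgroup.centralizer (Q : Set X) = (Subgroup.center Q).map Q.subtype := by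
      ext x
      constructor
      · intro hx
        exact ⟨⟨x, hcent hx⟩, Subgroup.mem_center_iff.mpr fun y => Subtype.ext (Subgroup.mem_centralizer_iff.mp hx y y.2), rfl⟩
      · rintro ⟨z, hz, rfl⟩
        exact Subgroup.mem_centralizer_iff.mpr fun y hy => congrArg Subtype.val (Subgroup.mem_center_iff.mp hz ⟨y, hy⟩)
    rw [h1, Subgroup.card_map_of_injective Q.subtype_injective]
    have h2 : (Subgroup.center Q).map e0.toMonoidHom = Subgroup.center (QuaternionGroup 2) := by
      ext x
      obtain ⟨y, rfl⟩ := e0.surjective x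
      simp only [Subgroup.mem_map_equiv, MulEquiv.symm_apply_apply, Subgroup.mem_center_iff]
      constructor
      · intro h r
        obtain ⟨r, rfl⟩ := e0.surjective r
        rw [← map_mul, ← map_mul, h r]
      · intro h r
        exact e0.injective (by rw [map_mul, map_mul, h])
    rw [← Subgroup.card_map_of_injective (f := e0.toMonoidHom) e0.injective, h2, Nat.card_eq_fintype_card]
    decide +kernel
  have hS4 : Nat.card (Equiv.Perm (Fin 4)) = 24 := by rw [Nat.card_perm, Nat.card_fin]; rfl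
  have hcardX : Nat.card X = 2 * Nat.card φ.range := by
    rw [← φ.ker.card_mul_index, Subgroup.index_ker, hkerC, hC2]
  have hr : Nat.card φ.range = 24 := by
    have hd : Nat.card φ.range ∣ 24 := hS4 ▸ Subgroup.card_subgroup_dvd_card φ.range
    have h8 : 8 ∣ Nat.card X := hQc ▸ Subgroup.card_subgroup_dvd_card Q
    have hP := P.card_eq_multiplicity
    have hQP : Q ≤ P := Cfsg.Agent.Grp.pCore_le_sylow P
    have hle := Nat.le_of_dvd (by norm_num) hd
    have hcases : Nat.card φ.range = 4 ∨ Nat.card φ.range = 8 ∨ Nat.card φ.range = 12 ∨ Nat.card φ.range = 24 := by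
      rw [hcardX] at h8
      obtain ⟨k, hk⟩ := h8
      obtain ⟨l, hl⟩ := hd
      have hk' : k ≤ 6 := by omega
      have hpos : 0 < Nat.card φ.range := Nat.card_pos
      interval_cases k
      · omega
      · omega
      · omega
      · omega
      · rw [show Nat.card φ.range = 16 by omega] at hl; omega
      · rw [show Nat.card φ.range = 20 by omega] at hl; omega
      · omega
    rcases hcases with h4 | h4 | h4 | h4
    · exact absurd (IsPGroup.of_card (p := 2) (n := 3) (by rw [hcardX, h4]; norm_num)) hnp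
    · exact absurd (IsPGroup.of_card (p := 2) (n := 4) (by rw [hcardX, h4]; norm_num)) hnp
    · refine absurd ?_ hn
      have hP8 : Nat.card (P : Subgroup X) = 8 := by
        rw [hP, hcardX, h4, show (2 * 12 : ℕ) = 2 ^ 3 * 3 by norm_num, Nat.factorization_mul (by norm_num) (by norm_num),
          Finsupp.add_apply, Nat.prime_two.factorization_pow, Finsupp.single_eq_same,
          Nat.factorization_eq_zero_of_not_dvd (by norm_num : ¬ 2 ∣ 3)]
        norm_num
      rw [← Subgroup.eq_of_le_of_card_ge hQP (by rw [hP8, hQc])]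
      infer_instance
    · exact h4
  have hX48 : Nat.card X = 48 := by rw [hcardX, hr]
  by_cases hinv : ∃ t : X, t * t = 1 ∧ t ∉ Q
  · refine Or.inr (Or.inl ?_)
    obtain ⟨t, ht, htQ⟩ := hinv
    obtain ⟨m1⟩ := exists_iso E hX48 Q e0 hcent t ht htQ
    -- the model inside `GL(2,3)`
    haveI hQn : (Cfsg.Agent.S3370.quatHom.range).Normal := by
      refine ⟨?_⟩
      rintro _ ⟨q, rfl⟩ y
      have hall : ∀ (y : GL (Fin 2) (ZMod 3)) (q : QuaternionGroup 2), ∃ r, Cfsg.Agent.S3370.quatMap r = y * Cfsg.Agent.S3370.quatMap q * y⁻¹ := by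
        decide +kernel
      obtain ⟨r, hr⟩ := hall y q
      exact ⟨r, hr⟩
    have hcard : Nat.card (GL (Fin 2) (ZMod 3)) = 48 := by
      rw [Nat.card_eq_fintype_card]; decide +kernel
    have hC' : Subgroup.centralizer (Cfsg.Agent.S3370.quatHom.range : Set (GL (Fin 2) (ZMod 3))) ≤ Cfsg.Agent.S3370.quatHom.range := by
      intro y hy
      have hall : ∀ y : GL (Fin 2) (ZMod 3), (∀ q, Cfsg.Agent.S3370.quatMap q * y = y * Cfsg.Agent.S3370.quatMap q) → ∃ r, Cfsg.Agent.S3370.quatMap r = y := by
        decide +kernel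
      exact hall y fun q => Subgroup.mem_centralizer_iff.mp hy _ ⟨q, rfl⟩
    obtain ⟨m2⟩ := exists_iso E hcard Cfsg.Agent.S3370.quatHom.range
      (MonoidHom.ofInjective (f := Cfsg.Agent.S3370.quatHom) Cfsg.Agent.S3370.quatMap_injective).symm hC'
      Cfsg.Agent.S3370.mB (by decide +kernel) (by
        rintro ⟨q, hq⟩
        have hall : ∀ q, Cfsg.Agent.S3370.quatMap q ≠ Cfsg.Agent.S3370.mB := by decide +kernel
        exact hall q hq)
    exact ⟨m1.symm.trans m2⟩
  refine Or.inr (Or.inr ⟨hX48, ?_, ?_, ?_⟩)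
  · have hz : Subgroup.center X = Subgroup.centralizer (Q : Set X) := by
      refine le_antisymm (Subgroup.center_le_centralizer _) fun z hz => Subgroup.mem_center_iff.mpr fun y => ?_
      obtain ⟨a, b, hab, hall⟩ := Nat.card_eq_two_iff.mp hC2
      by_cases hz1 : z = 1
      · rw [hz1, mul_one, one_mul]
      have hm := (inferInstance : (Subgroup.centralizer (Q : Set X)).Normal).conj_mem z hz y
      have key : ∀ c d : Subgroup.centralizer (Q : Set X), c ≠ 1 → d ≠ 1 → c = d := by
        intro c d hc hd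
        rcases (Set.eq_univ_iff_forall.mp hall c), (Set.eq_univ_iff_forall.mp hall d),
          (Set.eq_univ_iff_forall.mp hall 1) with ⟨rfl | rfl, rfl | rfl, h1 | h1⟩ <;> simp_all
      have := key ⟨_, hm⟩ ⟨z, hz⟩ (fun h => hz1 (conj_eq_one_iff.mp (congrArg Subtype.val h)))
        (fun h => hz1 (congrArg Subtype.val h))
      exact mul_inv_eq_iff_eq_mul.mp (congrArg Subtype.val this)
    rw [hz, hC2]
  · have hz : Subgroup.center X = φ.ker := by
      rw [hkerC]
      refine le_antisymm (Subgroup.center_le_centralizer _) fun z hz => Subgroup.mem_center_iff.mpr fun y => ?_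
      obtain ⟨a, b, hab, hall⟩ := Nat.card_eq_two_iff.mp hC2
      by_cases hz1 : z = 1
      · rw [hz1, mul_one, one_mul]
      have hm := (inferInstance : (Subgroup.centralizer (Q : Set X)).Normal).conj_mem z hz y
      have key : ∀ c d : Subgroup.centralizer (Q : Set X), c ≠ 1 → d ≠ 1 → c = d := by
        intro c d hc hd
        rcases (Set.eq_univ_iff_forall.mp hall c), (Set.eq_univ_iff_forall.mp hall d),
          (Set.eq_univ_iff_forall.mp hall 1) with ⟨rfl | rfl, rfl | rfl, h1 | h1⟩ <;> simp_all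
      have := key ⟨_, hm⟩ ⟨z, hz⟩ (fun h => hz1 (conj_eq_one_iff.mp (congrArg Subtype.val h)))
        (fun h => hz1 (congrArg Subtype.val h))
      exact mul_inv_eq_iff_eq_mul.mp (congrArg Subtype.val this)
    exact ⟨(QuotientGroup.quotientMulEquivOfEq hz).trans (QuotientGroup.quotientKerEquivOfSurjective φ
      (MonoidHom.range_eq_top.mp (Subgroup.eq_top_of_card_eq _ (hr.trans hS4.symm))))⟩
  · intro P'
    have hQP : Q ≤ P' := Cfsg.Agent.Grp.pCore_le_sylow P'
    have hP16 : Nat.card (P' : Subgroup X) = 16 := by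
      rw [P'.card_eq_multiplicity, hX48, show (48 : ℕ) = 2 ^ 4 * 3 by norm_num,
        Nat.factorization_mul (by norm_num) (by norm_num), Finsupp.add_apply, Nat.prime_two.factorization_pow,
        Finsupp.single_eq_same, Nat.factorization_eq_zero_of_not_dvd (by norm_num : ¬ 2 ∣ 3)]
      norm_num
    have hu' : ∀ u v : (P' : Subgroup X), orderOf u = 2 → orderOf v = 2 → u = v := by
      intro u v hu hv
      push Not at hinv
      have hu2 := pow_orderOf_eq_one u
      have hv2 := pow_orderOf_eq_one v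
      rw [hu, pow_two] at hu2
      rw [hv, pow_two] at hv2
      have huQ := hinv u (congrArg Subtype.val hu2)
      have hvQ := hinv v (congrArg Subtype.val hv2)
      have := huniq ⟨u, huQ⟩ ⟨v, hvQ⟩ (by rw [← Subgroup.orderOf_coe]; exact (Subgroup.orderOf_coe u).trans hu)
        (by rw [← Subgroup.orderOf_coe]; exact (Subgroup.orderOf_coe v).trans hv)
      exact Subtype.ext (congrArg Subtype.val this :)
    rcases Cfsg.Agent.Grp.Ambivalent.cyclic_or_quaternion P'.2 hu' with hc | ⟨n, ⟨e⟩⟩
    · exfalso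
      haveI : IsCyclic Q := isCyclic_of_injective (Subgroup.inclusion hQP) (Subgroup.inclusion_injective _)
      haveI : IsCyclic (QuaternionGroup 2) := isCyclic_of_surjective e0.toMonoidHom e0.surjective
      have hnc : ∃ a b : QuaternionGroup 2, a * b ≠ b * a := by decide +kernel
      obtain ⟨a, b, hab⟩ := hnc
      letI := IsCyclic.commGroup (α := QuaternionGroup 2)
      obtain ⟨c, hc'⟩ := IsCyclic.exists_generator (α := QuaternionGroup 2)
      obtain ⟨i, rfl⟩ := hc' a
      obtain ⟨k, rfl⟩ := hc' b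
      exact hab (Commute.zpow_zpow_self c i k).eq
    · have h := Nat.card_congr e.toEquiv
      rw [hP16, Nat.card_eq_fintype_card, QuaternionGroup.card] at h
      have : n = 1 := by
        have h' : 2 ^ (n + 3) = 2 ^ 4 := by rw [pow_succ, pow_succ]; omega
        have := Nat.pow_right_injective (le_refl 2) h'
        omega
      subst this
      exact ⟨e⟩

end Cfsg.Agent.S3304
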