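import Cfsg.Statements.S0498
import Cfsg.Agent.Lib.Block.OrderPSL
-- import your own Cfsg.Agent.* helpers here

set_option autoImplicit false
open Cfsg

namespace Cfsg.Agent.S0498

/-- A simple group of order 660, respectively 1092, is isomorphic to the projective special linear group of dimension 2
over the field with 11, respectively 13, elements. -/
theorem result {G : Type*} [Group G] [Finite G] [IsSimpleGroup G] (p : ℕ)
    (hp : p = 11 ∨ p = 13) (h : 2 * Nat.card G = p * (p ^ 2 - 1)) {F : Type*} [Field F] [Fintype F]
    (hF : Fintype.card F = p) : Nonempty (G ≃* Matrix.ProjectiveSpecialLinearGroup (Fin 2) F) := by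
  rcases hp with rfl | rfl
  · haveI : Fact (Nat.Prime 11) := ⟨by norm_num⟩
    refine Cfsg.Agent.Block.OrdP.iso_psl_of_card (p := 11) (m := 60) hF (by norm_num) (by omega)
      (by norm_num) (fun k hk hd => ?_) (fun q hq => ?_)
    · have := Nat.le_of_dvd (by norm_num) hd
      have hk' : k ≤ 5 := by omega
      interval_cases k <;> first | rfl | (norm_num at hd; done)
    · have hq' : q < 6 := by
        by_contra hq'
        have := Nat.pow_le_pow_right (show 0 < 2 by norm_num) (not_lt.mp hq')
        omega
      interval_cases q <;> omega
  · haveI : Fact (Nat.Prime 13) := ⟨by norm_num⟩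
    refine Cfsg.Agent.Block.OrdP.iso_psl_of_card (p := 13) (m := 84) hF (by norm_num) (by omega)
      (by norm_num) (fun k hk hd => ?_) (fun q hq => ?_)
    · have := Nat.le_of_dvd (by norm_num) hd
      have hk' : k ≤ 6 := by omega
      interval_cases k <;> first | rfl | (norm_num at hd; done)
    · have hq' : q < 6 := by
        by_contra hq'
        have := Nat.pow_le_pow_right (show 0 < 2 by norm_num) (not_lt.mp hq')
        omega
      interval_cases q <;> omega

end Cfsg.Agent.S0498
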