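import Cfsg.Statements.S1021
import Cfsg.Agent.Lib.Block.OrderPSL

set_option autoImplicit false
open Cfsg

namespace Cfsg.Agent.S1021

/-- A simple group of order 3420 is isomorphic to the projective special linear group of dimension 2 over the field with 19 elements. -/
theorem result {G : Type*} [Group G] [Finite G] [IsSimpleGroup G] (h : Nat.card G = 3420) {F : Type*} [Field F] [Fintype F] (hF : Fintype.card F = 19) : Nonempty (G ≃* Matrix.ProjectiveSpecialLinearGroup (Fin 2) F) := by
  haveI : Fact (Nat.Prime 19) := ⟨by norm_num⟩
  refine Cfsg.Agent.Block.OrdP.iso_psl_of_card (p := 19) (m := 180) hF (by norm_num) (by rw [h])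
    (by norm_num) (fun k hk hd => ?_) (fun q hq => ?_)
  · have := Nat.le_of_dvd (by norm_num) hd
    have hk' : k ≤ 9 := by omega
    interval_cases k <;> first | rfl | (norm_num at hd; done)
  · have hq' : q < 6 := by
      by_contra hq'
      have := Nat.pow_le_pow_right (show 0 < 2 by norm_num) (not_lt.mp hq')
      omega
    interval_cases q <;> omega

end Cfsg.Agent.S1021
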