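import Cfsg.Statements.S0670
import Mathlib

set_option autoImplicit false
open Cfsg

namespace Cfsg.Agent.S0670

/-- In characteristic `p`, the permutation module of a transitive action of degree `p ^ f` has the line of constant functions as its only irreducible submodule: every non-zero subrepresentation contains it. -/
theorem result {G : Type*} [Group G] [Finite G] {K : Type*} [Field K] {p f : ℕ} [Fact p.Prime] [CharP K p] {Ω : Type*} [Fintype Ω] [MulAction G Ω] [MulAction.IsPretransitive G Ω] (hf : 1 ≤ f) (hcard : Fintype.card Ω = p ^ f) (W : Subrepresentation (Cfsg.permRep K G Ω)) (hW : W.toSubmodule ≠ ⊥) : (Cfsg.permConstants K G Ω).toSubmodule ≤ W.toSubmodule := by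
  classical
  obtain ⟨P⟩ : Nonempty (Sylow p G) := inferInstance
  have hp : p.Prime := Fact.out
  have htrans : ∀ a b : Ω, ∃ u : (P : Subgroup G), u • a = b := by
    intro a b
    have h1 := Nat.card_congr (MulAction.orbitProdStabilizerEquivGroup G a)
    rw [Nat.card_prod, Nat.card_congr (Equiv.setCongr (MulAction.orbit_eq_univ G a)),
      Nat.card_univ, Nat.card_eq_fintype_card (α := Ω), hcard] at h1
    have h2 := Nat.card_congr (MulAction.orbitProdStabilizerEquivGroup (P : Subgroup G) a)
    rw [Nat.card_prod] at h2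
    obtain ⟨i, hi⟩ := (IsPGroup.iff_card.1 (P.isPGroup'.to_subgroup (MulAction.stabilizer (P : Subgroup G) a)))
    have hsub : Nat.card (MulAction.stabilizer (P : Subgroup G) a) ∣ Nat.card (MulAction.stabilizer G a) :=
      Subgroup.card_dvd_of_injective
        { toFun := fun u => (⟨((u : (P : Subgroup G)) : G), u.2⟩ : MulAction.stabilizer G a)
          map_one' := rfl
          map_mul' := fun _ _ => rfl }
        (fun u v h => Subtype.ext (Subtype.ext (congrArg Subtype.val h :)))
    have hG := P.card_eq_multiplicity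
    rw [hi] at h2 hsub
    have hsne : Nat.card (MulAction.stabilizer G a) ≠ 0 := Nat.card_pos.ne'
    have hile : i + f ≤ (Nat.card G).factorization p := by
      rw [← h1, Nat.factorization_mul (pow_ne_zero _ hp.ne_zero) hsne, hp.factorization_pow]
      have := (hp.pow_dvd_iff_le_factorization hsne).1 hsub
      simp only [Finsupp.coe_add, Pi.add_apply, Finsupp.single_eq_same]
      omega
    rw [hG] at h2
    have hle : p ^ f ≤ Nat.card (MulAction.orbit (P : Subgroup G) a) := by
      refine Nat.le_of_mul_le_mul_right ?_ (pow_pos hp.pos i)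
      rw [h2, ← pow_add, add_comm]
      exact Nat.pow_le_pow_right hp.pos hile
    have huniv : MulAction.orbit (P : Subgroup G) a = Set.univ := by
      refine Set.eq_of_subset_of_ncard_le (Set.subset_univ _) ?_
      rw [Set.ncard_univ, Nat.card_eq_fintype_card, hcard]
      exact hle
    have : b ∈ MulAction.orbit (P : Subgroup G) a := by rw [huniv]; trivial
    exact this
  obtain ⟨v, hv, hv0⟩ := (Submodule.ne_bot_iff _).1 hW
  have := Fintype.ofFinite (P : Subgroup G)
  let φ : (↥(P : Subgroup G) → ZMod p) →+ (Ω → K) :=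
    AddMonoidHom.mk' (fun c => ∑ u : (P : Subgroup G), (ZMod.castHom (dvd_refl p) K (c u)) • permRep K G Ω (u : G) v)
      (fun c d => by simp only [Pi.add_apply, map_add, add_smul, Finset.sum_add_distrib])
  have hφ : ∀ c (u : (P : Subgroup G)), permRep K G Ω (u : G) (φ c) = φ (fun w => c (u⁻¹ * w)) := by
    intro c u
    simp only [φ, AddMonoidHom.mk'_apply, map_sum, map_smul]
    refine (Equiv.sum_comp (Equiv.mulLeft u⁻¹) _).symm.trans (Finset.sum_congr rfl fun w _ => ?_)
    simp only [Equiv.coe_mulLeft]
    rw [← Module.End.mul_apply, ← map_mul, ← Subgroup.coe_mul, mul_inv_cancel_left]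
  let act : MulAction (P : Subgroup G) φ.range :=
    { smul := fun u w => ⟨permRep K G Ω (u : G) w.1, by
        obtain ⟨c, hc⟩ := w.2; exact ⟨_, by rw [← hc, hφ]⟩⟩
      one_smul := fun w => Subtype.ext (by
        change permRep K G Ω ((1 : (P : Subgroup G)) : G) w.1 = w.1
        rw [Subgroup.coe_one, map_one]; rfl)
      mul_smul := fun u u' w => Subtype.ext (by
        change permRep K G Ω ((u * u' : (P : Subgroup G)) : G) w.1 = _
        rw [Subgroup.coe_mul, map_mul]; rfl) }
  have hvmem : v ∈ φ.range := by
    refine ⟨Pi.single 1 1, ?_⟩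
    simp only [φ, AddMonoidHom.mk'_apply]
    rw [Finset.sum_eq_single_of_mem (1 : (P : Subgroup G)) (Finset.mem_univ _)]
    · simp
    · intro u _ hu
      simp [Pi.single_eq_of_ne hu]
  have : Finite φ.range := Finite.of_surjective φ.rangeRestrict φ.rangeRestrict_surjective
  have hdvd : p ∣ Nat.card φ.range := by
    have h := AddSubgroup.card_dvd_of_surjective φ.rangeRestrict φ.rangeRestrict_surjective
    rw [Nat.card_fun, Nat.card_zmod] at h
    obtain ⟨j, -, hj⟩ := (Nat.dvd_prime_pow hp).1 h
    rcases j with _ | j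
    · exfalso
      apply hv0
      have h1 := (Nat.card_eq_one_iff_unique.1 (hj.trans (pow_zero p))).1
      exact congrArg Subtype.val (Subsingleton.elim (⟨v, hvmem⟩ : φ.range) 0)
    · rw [hj, pow_succ]; exact dvd_mul_left _ _
  have h0 : (0 : φ.range) ∈ MulAction.fixedPoints (P : Subgroup G) φ.range := by
    intro u; exact Subtype.ext (map_zero (permRep K G Ω (u : G)))
  obtain ⟨w, hwfix, hw0⟩ :=
    P.isPGroup'.exists_fixed_point_of_prime_dvd_card_of_fixed_point φ.range hdvd h0
  have hwW : (w : Ω → K) ∈ W.toSubmodule := by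
    obtain ⟨c, hc⟩ := w.2
    rw [← hc]
    exact Submodule.sum_mem _ (fun u _ => Submodule.smul_mem _ _ (W.apply_mem_toSubmodule _ hv))
  have hconst : ∀ a b : Ω, (w : Ω → K) a = (w : Ω → K) b := by
    intro a b
    obtain ⟨u, hu⟩ := htrans b a
    have := congrFun (congrArg Subtype.val (hwfix u)) a
    change (w : Ω → K) ((u : G)⁻¹ • a) = (w : Ω → K) a at this
    rw [← this, ← hu]
    simp [Subgroup.smul_def]
  obtain ⟨a, ha⟩ : ∃ a, (w : Ω → K) a ≠ 0 := by
    by_contra h
    push Not at h
    exact hw0 (Subtype.ext (funext h)).symm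
  intro x hx
  obtain ⟨t, rfl⟩ := Submodule.mem_span_singleton.1 hx
  have : (fun _ : Ω => (1 : K)) = ((w : Ω → K) a)⁻¹ • (w : Ω → K) := by
    funext b
    simp [hconst b a, ha]
  rw [this]
  exact Submodule.smul_mem _ _ (Submodule.smul_mem _ _ hwW)

end Cfsg.Agent.S0670
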