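import Cfsg.Statements.S0671
import Mathlib
import Cfsg.Agent.S0670
-- import your own Cfsg.Agent.* helpers here

set_option autoImplicit false
open Cfsg

namespace Cfsg.Agent.S0671

/-- If the heart of the permutation module in characteristic `p` of a transitive action of degree `p ^ f` has no trivial composition factor, the action is doubly transitive. The hypothesis is phrased without composition series: no invariant subspaces `W < W'` between the constants and the sum-zero functions with trivial action on the quotient. -/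
theorem result {G : Type*} [Group G] [Finite G] {K : Type*} [Field K] {p f : ℕ} [Fact p.Prime] [CharP K p] {Ω : Type*} [Fintype Ω] [MulAction G Ω] [MulAction.IsPretransitive G Ω] (hf : 1 ≤ f) (hcard : Fintype.card Ω = p ^ f) (h : ∀ W W' : Subrepresentation (Cfsg.permRep K G Ω), (Cfsg.permConstants K G Ω).toSubmodule ≤ W.toSubmodule → W.toSubmodule < W'.toSubmodule → W'.toSubmodule ≤ (Cfsg.permSumZero K G Ω).toSubmodule → ∃ g : G, ∃ v ∈ W'.toSubmodule, Cfsg.permRep K G Ω g v - v ∉ W.toSubmodule) : MulAction.IsMultiplyPretransitive G Ω 2 := by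
  classical
  have hp : p.Prime := Fact.out
  have hΩ : (Fintype.card Ω : K) = 0 := by
    rw [hcard, CharP.cast_eq_zero_iff K p]
    exact dvd_pow_self p (by omega)
  -- a proper invariant subspace consists of sum-zero functions
  have hprop : ∀ X : Subrepresentation (permRep K G Ω), X.toSubmodule ≠ ⊤ →
      X.toSubmodule ≤ (permSumZero K G Ω).toSubmodule := by
    intro X hX
    let Y : Subrepresentation (permRep K G Ω) :=
      { toSubmodule :=
          { carrier := {w | ∀ v ∈ X.toSubmodule, ∑ x, v x * w x = 0}
            add_mem' := by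
              intro w w' hw hw' v hv
              simp [mul_add, Finset.sum_add_distrib, hw v hv, hw' v hv]
            zero_mem' := by intro v hv; simp
            smul_mem' := by
              intro c w hw v hv
              simp [mul_left_comm _ c, ← Finset.mul_sum, hw v hv] }
        apply_mem_toSubmodule := by
          intro g w hw v hv
          have h1 := hw _ (X.apply_mem_toSubmodule g⁻¹ hv)
          rw [← h1]
          refine Fintype.sum_equiv (MulAction.toPerm g⁻¹) _ _ fun x => ?_
          simp [permRep] }
    have hY : Y.toSubmodule ≠ ⊥ := by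
      obtain ⟨φ, hφ0, hφ⟩ := Submodule.exists_le_ker_of_lt_top _ (lt_top_iff_ne_top.2 hX)
      refine (Submodule.ne_bot_iff _).2 ⟨fun x => φ (Pi.single x 1), fun v hv => ?_, fun h0 => hφ0 ?_⟩
      · have h1 : φ v = 0 := hφ hv
        rw [← h1]
        conv_rhs => rw [pi_eq_sum_univ' v, map_sum]
        refine Finset.sum_congr rfl fun x _ => ?_
        rw [map_smul, smul_eq_mul]
      · refine LinearMap.ext fun v => ?_
        rw [pi_eq_sum_univ' v, map_sum]
        simp only [map_smul, smul_eq_mul, LinearMap.zero_apply]
        exact Finset.sum_eq_zero fun x _ => by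
          have := congrFun h0 x
          simp only [Pi.zero_apply] at this
          simp [this]
    have hC := Cfsg.Agent.S0670.result hf hcard Y hY
    intro v hv
    have h1 := hC (Submodule.mem_span_singleton_self (fun _ => (1 : K))) v hv
    show ∑ x, v x = 0
    simpa using h1
  rw [MulAction.is_two_pretransitive_iff]
  intro a b c d hab hcd
  -- it suffices that a point stabiliser is transitive on the other points
  suffices key : ∀ a b x : Ω, a ≠ b → a ≠ x → ∃ g : G, g • a = a ∧ g • b = x by
    obtain ⟨g, rfl⟩ := MulAction.exists_smul_eq G a c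
    obtain ⟨k, hk1, hk2⟩ := key a b (g⁻¹ • d) hab (fun h => hcd (by
      rw [eq_inv_smul_iff] at h; exact h))
    exact ⟨g * k, by rw [mul_smul, hk1], by rw [mul_smul, hk2, smul_inv_smul]⟩
  clear hab hcd a b c d
  intro a b x hab hax
  by_contra hx
  let A : Ω → Ω → K := fun u v => if ∃ g : G, g • b = u ∧ g • a = v then 1 else 0
  have hA : ∀ (g : G) u v, A (g • u) (g • v) = A u v := by
    intro g u v
    simp only [A]
    refine if_congr ⟨?_, ?_⟩ rfl rfl
    · rintro ⟨h, h1, h2⟩
      exact ⟨g⁻¹ * h, by rw [mul_smul, h1, inv_smul_smul], by rw [mul_smul, h2, inv_smul_smul]⟩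
    · rintro ⟨h, h1, h2⟩
      exact ⟨g * h, by rw [mul_smul, h1], by rw [mul_smul, h2]⟩
  let k : K := ∑ u, A u a
  have hcol : ∀ v, ∑ u, A u v = k := by
    intro v
    obtain ⟨g, rfl⟩ := MulAction.exists_smul_eq G a v
    refine (Fintype.sum_equiv (MulAction.toPerm g) _ _ fun u => ?_).symm
    simp [hA]
  let N : (Ω → K) →ₗ[K] (Ω → K) :=
    { toFun := fun v u => (∑ w, A u w * v w) - k * v u
      map_add' := fun v v' => by
        funext u
        simp [mul_add, Finset.sum_add_distrib]
        ring
      map_smul' := fun c v => by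
        funext u
        simp [mul_left_comm _ c, ← Finset.mul_sum]
        ring }
  have hN : ∀ (g : G) v, N (permRep K G Ω g v) = permRep K G Ω g (N v) := by
    intro g v
    funext u
    show (∑ w, A u w * v (g⁻¹ • w)) - k * v (g⁻¹ • u) =
      (∑ w, A (g⁻¹ • u) w * v w) - k * v (g⁻¹ • u)
    congr 1
    refine Fintype.sum_equiv (MulAction.toPerm g⁻¹) _ _ fun w => ?_
    simp [hA]
  have hNsum : ∀ v, N v ∈ (permSumZero K G Ω).toSubmodule := by
    intro v
    show ∑ u, ((∑ w, A u w * v w) - k * v u) = 0
    rw [Finset.sum_sub_distrib, Finset.sum_comm, ← Finset.mul_sum]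
    simp [← Finset.sum_mul, hcol, ← Finset.mul_sum]
  have hCS : (permConstants K G Ω).toSubmodule ≤ (permSumZero K G Ω).toSubmodule := by
    refine (Submodule.span_singleton_le_iff_mem _ _).2 ?_
    show ∑ _x : Ω, (1 : K) = 0
    simp [hΩ]
  let W : Subrepresentation (permRep K G Ω) :=
    { toSubmodule := (permSumZero K G Ω).toSubmodule.map N ⊔ (permConstants K G Ω).toSubmodule
      apply_mem_toSubmodule := by
        intro g v hv
        obtain ⟨y, hy, c, hc, rfl⟩ := Submodule.mem_sup.1 hv
        obtain ⟨z, hz, rfl⟩ := Submodule.mem_map.1 hy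
        rw [map_add, ← hN]
        exact Submodule.add_mem_sup (Submodule.mem_map_of_mem
          ((permSumZero K G Ω).apply_mem_toSubmodule g hz))
          ((permConstants K G Ω).apply_mem_toSubmodule g hc) }
  let W' : Subrepresentation (permRep K G Ω) :=
    { toSubmodule := LinearMap.range N ⊔ (permConstants K G Ω).toSubmodule
      apply_mem_toSubmodule := by
        intro g v hv
        obtain ⟨y, ⟨z, rfl⟩, c, hc, rfl⟩ := Submodule.mem_sup.1 hv
        rw [map_add, ← hN]
        exact Submodule.add_mem_sup (LinearMap.mem_range_self _ _)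
          ((permConstants K G Ω).apply_mem_toSubmodule g hc) }
  have hWW : W.toSubmodule ≤ W'.toSubmodule :=
    sup_le_sup_right LinearMap.map_le_range _
  have heq : W.toSubmodule = W'.toSubmodule := by
    refine hWW.eq_of_not_lt fun hlt => ?_
    obtain ⟨g, v, hv, hgv⟩ := h W W' le_sup_right hlt (sup_le (by
      rintro _ ⟨z, rfl⟩
      exact hNsum z) hCS)
    apply hgv
    obtain ⟨y, ⟨z, rfl⟩, c, hc, rfl⟩ := Submodule.mem_sup.1 hv
    rw [map_add, ← hN, add_sub_add_comm, ← map_sub]
    refine Submodule.add_mem_sup (Submodule.mem_map_of_mem ?_)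
      (Submodule.sub_mem _ ((permConstants K G Ω).apply_mem_toSubmodule g hc) hc)
    show ∑ u, (z (g⁻¹ • u) - z u) = 0
    rw [Finset.sum_sub_distrib, sub_eq_zero]
    exact Fintype.sum_equiv (MulAction.toPerm g⁻¹) _ _ fun u => rfl
  let X : Subrepresentation (permRep K G Ω) :=
    { toSubmodule := (permConstants K G Ω).toSubmodule.comap N
      apply_mem_toSubmodule := by
        intro g v hv
        rw [Submodule.mem_comap, hN]
        exact (permConstants K G Ω).apply_mem_toSubmodule g hv }
  have hXtop : X.toSubmodule = ⊤ := by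
    have h1 : N (Pi.single a 1) ∈ W.toSubmodule := by
      rw [heq]
      exact Submodule.mem_sup_left (LinearMap.mem_range_self _ _)
    obtain ⟨y, hy, c, hc, hyc⟩ := Submodule.mem_sup.1 h1
    obtain ⟨z, hz, rfl⟩ := Submodule.mem_map.1 hy
    by_contra hne
    have h2 : (Pi.single a (1 : K) - z) ∈ X.toSubmodule := by
      refine Submodule.mem_comap.2 ?_
      rw [map_sub, ← hyc, add_sub_cancel_left]
      exact hc
    have h3 : ∑ u, ((Pi.single a (1 : K) : Ω → K) u - z u) = 0 := hprop X hne h2
    rw [Finset.sum_sub_distrib, show ∑ u, z u = 0 from hz, sub_zero] at h3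
    simp at h3
  have hfin : N (Pi.single a 1) ∈ (permConstants K G Ω).toSubmodule := by
    have : (Pi.single a (1 : K) : Ω → K) ∈ X.toSubmodule := by rw [hXtop]; trivial
    exact this
  obtain ⟨c, hc⟩ := Submodule.mem_span_singleton.1 hfin
  have hval : ∀ u, u ≠ a → A u a = c := by
    intro u hu
    have h1 := congrFun hc u
    simp only [Pi.smul_apply, smul_eq_mul, mul_one, N, LinearMap.coe_mk, AddHom.coe_mk] at h1
    rw [h1]
    simp [Pi.single_apply, hu]
  have h1 := hval b hab.symm
  have h2 := hval x hax.symm
  simp only [A] at h1 h2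
  rw [if_pos ⟨1, one_smul _ _, one_smul _ _⟩] at h1
  rw [if_neg fun ⟨g, hg1, hg2⟩ => hx ⟨g, hg2, hg1⟩, ← h1] at h2
  exact zero_ne_one h2

end Cfsg.Agent.S0671
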