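import Cfsg.Statements.S0675
import Mathlib
import Cfsg.Agent.S0671
import Cfsg.Agent.Lib.Block.PrimeDegreeModule
-- import your own Cfsg.Agent.* helpers here

set_option autoImplicit false
open Cfsg

namespace Cfsg.Agent.S0675

/-- Burnside's Theorem on permutation groups of prime degree: a transitive permutation group of prime degree that is not solvable is doubly transitive. -/
theorem result {α : Type*} [Fintype α] [DecidableEq α] (hα : (Fintype.card α).Prime) (G : Subgroup (Equiv.Perm α)) [MulAction.IsPretransitive G α] : Group.IsSolvable G ∨ MulAction.IsMultiplyPretransitive G α 2 := by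
  obtain ⟨p, hp⟩ : ∃ p, Fintype.card α = p := ⟨_, rfl⟩
  have : Fact p.Prime := ⟨hp ▸ hα⟩
  by_cases hG : Group.IsSolvable G
  · exact Or.inl hG
  right
  refine Cfsg.Agent.S0671.result (K := ZMod p) (p := p) (f := 1) le_rfl (by rw [hp, pow_one]) ?_
  intro W W' hCW hlt hW'
  have hp5 : 3 < p := by
    by_contra h
    exact hG (Cfsg.Agent.Block.isSolvable_of_card_le_three hp (by omega) G)
  rcases Cfsg.Agent.Block.heart_irreducible hp G hG W hCW (le_trans hlt.le hW') with h | h
  swap
  · exact absurd hW' (h ▸ hlt.not_ge)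
  rcases Cfsg.Agent.Block.heart_irreducible hp G hG W' (le_trans hCW hlt.le) hW' with h' | h'
  · exact absurd hCW (h' ▸ hlt.not_ge)
  subst h h'
  obtain ⟨P⟩ : Nonempty (Sylow p G) := inferInstance
  obtain ⟨a⟩ : Nonempty α := Fintype.card_pos_iff.1 (hp ▸ Nat.Prime.pos Fact.out)
  obtain ⟨σ, -, -, -, e, -, hσ⟩ := Cfsg.Agent.Block.exists_zmod_equiv hp G P a
  refine ⟨σ⁻¹, fun x => e.symm x ^ 2, ?_, ?_⟩
  · show ∑ x, e.symm x ^ 2 = 0
    rw [e.symm.sum_comp (fun j => j ^ 2)]
    exact FiniteField.sum_pow_lt_card_sub_one (ZMod p) 2 (by rw [ZMod.card]; omega)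
  · intro hmem
    obtain ⟨c, hc⟩ := Submodule.mem_span_singleton.1 hmem
    have hval : ∀ j : ZMod p, c = (j + 1) ^ 2 - j ^ 2 := by
      intro j
      have h1 := congrFun hc (e j)
      simpa [permRep, Subgroup.smul_def, hσ, Equiv.Perm.inv_def] using h1
    have h0 := hval 0
    have h1 := hval 1
    rw [h0] at h1
    have h2 : ((2 : ℕ) : ZMod p) = 0 := by linear_combination (-1 : ZMod p) * h1
    rw [CharP.cast_eq_zero_iff (ZMod p) p] at h2
    exact absurd (Nat.le_of_dvd two_pos h2) (by omega)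

end Cfsg.Agent.S0675
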