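import Cfsg.Statements.S5358
import Mathlib
import Cfsg.Agent.Lib.Classical.QuadBasic
-- import your own Cfsg.Agent.* helpers here

set_option autoImplicit false
open scoped MatrixGroups
open Cfsg

namespace Cfsg.Agent.S5358

theorem two_ne_zero_three : (2 : ZMod 3) ≠ 0 := by decide
theorem zmod_three_cases : ∀ t : ZMod 3, t = 0 ∨ t = 1 ∨ t = -1 := by decide

/-- Let Q be a non-degenerate quadratic form on the n-dimensional coordinate space over the field with three elements and u, v vectors of the same non-zero norm Q(u) = Q(v) spanning different lines (v ≠ u and v ≠ −u). Then the reflection matrices of u and v commute if and only if u and v are orthogonal for the polar form of Q. -/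
theorem result (n : ℕ) (Q : QuadraticForm (ZMod 3) (Fin n → ZMod 3)) (hQ : (QuadraticMap.polarBilin Q).Nondegenerate) (u v : Fin n → ZMod 3) (hu : Q u ≠ 0) (huv : Q u = Q v) (h1 : v ≠ u) (h2 : v ≠ -u) : Commute (Cfsg.reflectionMatrix (⇑Q) u) (Cfsg.reflectionMatrix (⇑Q) v) ↔ QuadraticMap.polar (⇑Q) u v = 0 := by
  classical
  haveI : Fact (Nat.Prime 3) := ⟨by norm_num⟩
  have hv : Q v ≠ 0 := huv ▸ hu
  have key : ∀ x, (reflectionMatrix (⇑Q) u * reflectionMatrix (⇑Q) v).mulVec x - (reflectionMatrix (⇑Q) v * reflectionMatrix (⇑Q) u).mulVec x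
      = ((Q u)⁻¹ * (Q v)⁻¹ * QuadraticMap.polar Q v x * QuadraticMap.polar Q u v) • u - ((Q u)⁻¹ * (Q v)⁻¹ * QuadraticMap.polar Q u x * QuadraticMap.polar Q u v) • v := by
    intro x
    rw [← Matrix.mulVec_mulVec, ← Matrix.mulVec_mulVec]
    simp only [Classical.reflectionMatrix_mulVec, sub_eq_add_neg, ← neg_smul, QuadraticMap.polar_add_right,
      QuadraticMap.polar_smul_right, smul_eq_mul, QuadraticMap.polar_comm (⇑Q) v u]
    module
  constructor
  · intro h
    by_contra hb
    have h0 := key u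
    rw [h.eq, sub_self, QuadraticMap.polar_comm (⇑Q) v u] at h0
    have hself : QuadraticMap.polar (⇑Q) u u = 2 * Q u := by rw [QuadraticMap.polar_self, two_smul, two_mul]
    rw [hself] at h0
    set β := QuadraticMap.polar (⇑Q) u v with hβ
    set k := (Q u)⁻¹ * (Q v)⁻¹ with hk
    have hk0 : k ≠ 0 := mul_ne_zero (inv_ne_zero hu) (inv_ne_zero hv)
    have hc : k * (2 * Q u) * β ≠ 0 := mul_ne_zero (mul_ne_zero hk0 (mul_ne_zero two_ne_zero_three hu)) hb
    have hv' : v = ((k * (2 * Q u) * β)⁻¹ * (k * β * β)) • u := by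
      rw [← smul_smul, sub_eq_zero.mp h0.symm, smul_smul, inv_mul_cancel₀ hc, one_smul]
    set s := (k * (2 * Q u) * β)⁻¹ * (k * β * β)
    have : s = 0 ∨ s = 1 ∨ s = -1 := zmod_three_cases s
    rcases this with e | e | e
    · exact hv (by rw [hv', e, zero_smul, QuadraticMap.map_zero])
    · exact h1 (by rw [hv', e, one_smul])
    · exact h2 (by rw [hv', e, neg_one_smul])
  · intro hb
    refine Matrix.ext_of_mulVec_single fun i => ?_
    refine sub_eq_zero.mp ?_
    rw [key, hb]
    simp

end Cfsg.Agent.S5358
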