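import Cfsg.Statements.S0095
import Cfsg.Agent.Lib.Transfer.PGroups

set_option maxHeartbeats 1000000
set_option maxRecDepth 8000

set_option autoImplicit false
open Cfsg
open scoped commutatorElement

namespace Cfsg.Agent.S0095

/-- The order of an extraspecial p-group is an odd power p^(2n+1) of p with n ≥ 1. -/
theorem result {P : Type*} [Group P] [Finite P] {p : ℕ} [Fact p.Prime] (h : Cfsg.IsExtraspecial p P) : ∃ n : ℕ, 1 ≤ n ∧ Nat.card P = p ^ (2 * n + 1) := by
  have hc : ∀ a b : P, ⁅a, b⁆ ∈ Subgroup.center P := fun a b =>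
    h.1.2.2 ▸ Subgroup.commutator_mem_commutator (Subgroup.mem_top a) (Subgroup.mem_top b)
  have hg : Transfer.PGroups.Good (Subgroup.center P) (⊤ : Subgroup P) :=
    ⟨le_top, fun a _ b _ => hc a b, fun z hz t _ => (Subgroup.mem_center_iff.mp hz t).symm,
      fun z _ hz => Subgroup.mem_center_iff.mpr fun t => (hz t (Subgroup.mem_top t)).symm⟩
  obtain ⟨n, hn⟩ := Transfer.PGroups.good_card h.2 hg
  rw [Subgroup.card_top] at hn
  refine ⟨n, ?_, hn⟩
  by_contra hn1
  obtain rfl : n = 0 := by omega
  have htop : Subgroup.center P = ⊤ := (Subgroup.card_eq_iff_eq_top _).mp (by rw [h.2, hn, pow_one])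
  have hfr : frattini P = ⊤ := h.1.2.1.trans htop
  have hnt : Nontrivial P := Finite.one_lt_card_iff_nontrivial.mp (by rw [hn, pow_one]; exact (Fact.out : p.Prime).one_lt)
  have hctr : commutator P = ⊤ := h.1.2.2.trans htop
  have hcyc : IsCyclic P := isCyclic_of_prime_card (p := p) (by rw [hn, pow_one])
  have hbot : commutator P ≤ ⊥ := by
    rw [commutator_def, Subgroup.commutator_le]
    intro a _ b _
    rw [Subgroup.mem_bot, commutatorElement_eq_one_iff_mul_comm]
    exact IsCyclic.commGroup.mul_comm a b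
  exact bot_ne_top (le_bot_iff.mp hbot ▸ hctr)

end Cfsg.Agent.S0095
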