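import Cfsg.Statements.S2603
import Cfsg.Agent.Lib.Classical.UnitAutStructure
-- import your own Cfsg.Agent.* helpers here

set_option autoImplicit false
open Cfsg

namespace Cfsg.Agent.S2603

/-- Structure of the outer automorphism group of PSU_n(q), n ≥ 3, (n, q) ≠ (3, 2), q = p^f, realised over the field with q² elements: it has a normal cyclic subgroup of order gcd(n, q + 1) (diagonal automorphisms) with cyclic quotient of order 2f (generated by the Frobenius field automorphism of the field with q² elements, whose f-th power is the graph automorphism). -/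
theorem result {K : Type*} [Field K] [Fintype K] {p f q n : ℕ} [Fact p.Prime] (hf : 1 ≤ f) (hq : q = p ^ f) (hK : Fintype.card K = q ^ 2) (hn : 3 ≤ n) (h32 : ¬ (n = 3 ∧ q = 2)) : ∃ φ : Cfsg.Out (Cfsg.PSU n K q) →* Multiplicative (ZMod (2 * f)), Function.Surjective φ ∧ IsCyclic φ.ker ∧ Nat.card φ.ker = Nat.gcd n (q + 1) := by
  have hF' : Fintype.card K = p ^ (2 * f) := by rw [hK, hq, ← pow_mul, mul_comm f]
  obtain ⟨hcyc, hcard⟩ := Cfsg.Agent.Classical.PSLAut.card_ringAut (F := K) hF'
  obtain ⟨Ψ, hsur, hker⟩ := Cfsg.Agent.Classical.PSUAut.exists_fieldHom hK hn h32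
  obtain ⟨hout1, hout2⟩ := Cfsg.Agent.Classical.PSUAut.outDiag hK hn
  let e : RingAut K ≃* Multiplicative (ZMod (2 * f)) := hcard ▸ (zmodCyclicMulEquiv hcyc).symm
  have hker' : (e.toMonoidHom.comp Ψ).ker = (Cfsg.Agent.Classical.PSUAut.inndiagHom n K q).range := by
    rw [← hker]; ext x; simp
  have hle : Cfsg.Inn (Cfsg.PSU n K q) ≤ (e.toMonoidHom.comp Ψ).ker := by
    rw [hker']; exact Cfsg.Agent.Classical.PSUAut.inn_le_inndiag
  refine ⟨QuotientGroup.lift _ (e.toMonoidHom.comp Ψ) hle, ?_, ?_⟩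
  · exact QuotientGroup.lift_surjective_of_surjective _ _ (e.surjective.comp hsur) hle
  · rw [QuotientGroup.ker_lift, hker']
    exact ⟨hout1, hout2⟩

end Cfsg.Agent.S2603
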