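import Cfsg.Statements.S0296
import Cfsg.Agent.Lib.Classical.OrthDickson
import Cfsg.Agent.Lib.Classical.OrthModels
-- import your own Cfsg.Agent.* helpers here

set_option autoImplicit false
open Cfsg

namespace Cfsg.Agent.S0296

/-- PΩ^+_{2m}(q) is simple for m at least 4. -/
theorem result {F : Type*} [Field F] [Fintype F] (m : ℕ) (hm : 4 ≤ m) : IsSimpleGroup (Cfsg.POmega F (Cfsg.quadFormPlus m F)) := by
  have h := Cfsg.Agent.Classical.OrthAut.pomega_simple (Cfsg.Agent.Classical.nondegenerate_qfPlus (F := F) m)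
    (Cfsg.Agent.Classical.OrthAut.tri_qfPlus (m := m) (by omega))
    (Cfsg.Agent.Classical.OrthAut.omega_eq_sR_all (Cfsg.Agent.Classical.nondegenerate_qfPlus (F := F) m) (Cfsg.Agent.Classical.OrthAut.tri_qfPlus (m := m) (by omega)))
  rw [Cfsg.Agent.Classical.coe_qfPlus] at h
  exact h

end Cfsg.Agent.S0296
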