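import Cfsg.Statements.S0743
import Mathlib
import Cfsg.Agent.Lib.Block.MultiTrans
import Cfsg.Agent.Lib.Block.Residue
-- import your own Cfsg.Agent.* helpers here

set_option autoImplicit false
open Cfsg

namespace Cfsg.Agent.S0743

/-- Gleason's Lemma: let `p` be a prime and `1 ≤ k < n`; if every `k`-subset of the `n` points is exactly the fixed-point set of some `p`-subgroup of `G`, then `G` is `k`-transitive. -/
theorem result {α : Type*} [Fintype α] [DecidableEq α] (G : Subgroup (Equiv.Perm α)) {p k : ℕ} (hp : p.Prime) (hk : 1 ≤ k) (hkn : k < Fintype.card α) (h : ∀ s : Finset α, s.card = k → ∃ P : Subgroup G, IsPGroup p P ∧ MulAction.fixedPoints P α = (s : Set α)) : MulAction.IsMultiplyPretransitive G α k := by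
  classical
  obtain ⟨j, rfl⟩ : ∃ j, k = j + 1 := ⟨k - 1, by omega⟩
  have := Fact.mk hp
  refine Cfsg.Agent.Block.isMultiplyPretransitive_of_fixing j (by omega) fun s hs a b ha hb => ?_
  let Γ : α → ZMod p := fun x => if ∃ g : G, (∀ z ∈ s, g • z = z) ∧ g • a = x then 1 else 0
  suffices hΓ : Γ b = 1 by
    by_contra hne
    simp only [Γ, if_neg hne] at hΓ
    exact zero_ne_one hΓ
  have hΓs : ∀ x ∈ s, Γ x = 0 := by
    intro x hx
    refine if_neg ?_
    rintro ⟨g, hg, hga⟩
    exact ha ((smul_left_cancel g (hga.trans (hg x hx).symm) : a = x) ▸ hx)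
  have key : ∀ c, c ∉ s → (∑ x, Γ x) = Γ c := by
    intro c hc
    obtain ⟨P, hP, hfix⟩ := h (insert c s) (by rw [Finset.card_insert_of_notMem hc, hs])
    have hPs : ∀ u : P, ∀ z ∈ s, (u : G) • z = z := by
      intro u z hz
      have h1 : z ∈ MulAction.fixedPoints P α := hfix ▸ (by simp [hz])
      exact h1 u
    rw [Cfsg.Agent.Block.sum_eq_sum_fixed (fun x => by simp) hP Γ, hfix, finsum_mem_coe_finset,
      Finset.sum_insert hc, Finset.sum_eq_zero hΓs, add_zero]
    intro u x
    simp only [Γ]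
    refine if_congr ⟨?_, ?_⟩ rfl rfl
    · rintro ⟨g, hg, hga⟩
      refine ⟨(u : G)⁻¹ * g, fun z hz => ?_, ?_⟩
      · rw [mul_smul, hg z hz]
        exact inv_smul_eq_iff.2 (hPs u z hz).symm
      · rw [mul_smul, hga]
        exact inv_smul_smul _ _
    · rintro ⟨g, hg, hga⟩
      refine ⟨(u : G) * g, fun z hz => ?_, ?_⟩
      · rw [mul_smul, hg z hz, hPs u z hz]
      · rw [mul_smul, hga]
        rfl
  rw [← key b hb, key a ha]
  exact if_pos ⟨1, fun z _ => one_smul _ z, one_smul _ a⟩

end Cfsg.Agent.S0743
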