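import Cfsg.Agent.Lib.Block.SharpTwoPoints
import Cfsg.Statements.S0680
-- import your own Cfsg.Agent.* helpers here

set_option autoImplicit false
open Cfsg

namespace Cfsg.Agent.S0680

/-- A finite sharply doubly transitive permutation group has degree a prime power `p ^ j`; a Sylow `p`-subgroup is normal, elementary abelian and regular, and consists of the identity together with the elements without fixed points. (Frobenius' Theorem is not needed.) -/
theorem result {α : Type*} [Fintype α] [DecidableEq α] (G : Subgroup (Equiv.Perm α)) [MulAction.IsMultiplyPretransitive G α 2] (hsharp : ∀ x : Fin 2 ↪ α, MulAction.stabilizer G x = ⊥) (h2 : 2 ≤ Fintype.card α) : ∃ p j : ℕ, p.Prime ∧ 1 ≤ j ∧ Fintype.card α = p ^ j ∧ ∀ (hp : Fact p.Prime) (P : Sylow p G), (P : Subgroup G).Normal ∧ IsMulCommutative (P : Subgroup G) ∧ (∀ x ∈ (P : Subgroup G), x ^ p = 1) ∧ MulAction.IsPretransitive (P : Subgroup G) α ∧ (∀ a : α, MulAction.stabilizer (P : Subgroup G) a = ⊥) ∧ ∀ g : G, g ∈ (P : Subgroup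 G) ↔ g = 1 ∨ ∀ a : α, g • a ≠ a := by
  classical
  have hS := Cfsg.Agent.Block.SharpPoints.sharp_of_perm G hsharp
  obtain ⟨p, j, N, hp, hj, hcard, hNcard, hmem, hNn, hcomm, hexp, htrans, hidx⟩ :=
    hS.exists_translations (by rw [Nat.card_eq_fintype_card]; exact h2)
  refine ⟨p, j, hp, hj, by rw [← Nat.card_eq_fintype_card]; exact hcard, fun hfp P => ?_⟩
  have hNp : IsPGroup p N := fun x => ⟨1, Subtype.ext (by rw [pow_one, Subgroup.coe_pow]; exact hexp x x.2)⟩
  let Q : Sylow p G := hNp.toSylow hidx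
  have hQn : (Q : Subgroup G).Normal := hNn
  have hPN : (P : Subgroup G) = N := by
    have := Sylow.unique_of_normal Q hQn
    rw [Subsingleton.elim P Q]
    rfl
  rw [hPN]
  refine ⟨hNn, ⟨⟨fun a b => Subtype.ext (hcomm a a.2 b b.2)⟩⟩, hexp, ⟨fun a b => ?_⟩, fun a => ?_, hmem⟩
  · obtain ⟨x, hx, hxa⟩ := htrans a b
    exact ⟨⟨x, hx⟩, hxa⟩
  · rw [Subgroup.eq_bot_iff_forall]
    intro x hx
    rcases (hmem x).1 x.2 with h | h
    · exact Subtype.ext h
    · exact absurd hx (h a)

end Cfsg.Agent.S0680
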