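import Cfsg.Statements.S0736
import Mathlib

set_option autoImplicit false
open Cfsg

namespace Cfsg.Agent.S0736

open scoped Pointwise

theorem choose_mod (p : ℕ) [Fact p.Prime] (u : ℕ) : ∀ a : ℕ,
    Nat.choose (p ^ a * u + (p ^ a - 1)) (p ^ a) ≡ u [MOD p]
  | 0 => by simp [Nat.ModEq]
  | a + 1 => by
    have hp : 0 < p := (Fact.out : p.Prime).pos
    have h := Choose.choose_modEq_choose_mod_mul_choose_div_nat (p := p)
      (n := p ^ (a+1) * u + (p ^ (a+1) - 1)) (k := p ^ (a+1))
    have e1 : p ^ (a+1) % p = 0 := by simp [pow_succ]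
    have e2 : p ^ (a+1) / p = p ^ a := by rw [pow_succ]; exact Nat.mul_div_cancel _ hp
    have hpa : 0 < p ^ a := pow_pos hp a
    have e3 : (p ^ (a+1) * u + (p ^ (a+1) - 1)) / p = p ^ a * u + (p ^ a - 1) := by
      have : p ^ (a+1) * u + (p ^ (a+1) - 1) = (p - 1) + p * (p ^ a * u + (p ^ a - 1)) := by
        obtain ⟨b, hb⟩ := Nat.exists_eq_succ_of_ne_zero hpa.ne'
        rw [pow_succ, hb]
        obtain ⟨c, rfl⟩ := Nat.exists_eq_succ_of_ne_zero hp.ne'
        simp only [Nat.succ_eq_add_one, Nat.add_sub_cancel]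
        rw [show (b + 1) * (c + 1) - 1 = c + (c+1) * b by
          have : (b + 1) * (c + 1) = c + (c+1) * b + 1 := by ring
          omega]
        ring
      rw [this, Nat.add_mul_div_left _ _ hp, Nat.div_eq_of_lt (by omega), zero_add]
    rw [e1, e2, e3, Nat.choose_zero_right, one_mul] at h
    exact h.trans (choose_mod p u a)

theorem count {α : Type*} [DecidableEq α] (O : Finset (Finset α)) {k c : ℕ} (hk : 1 ≤ k)
    (hO : ∀ T ∈ O, T.card = k - 1)
    (hc : ∀ K : Finset α, K.card = k → (O.filter (fun T => T ⊆ K)).card = c) (S : Finset α) :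
    S.card.choose k * c = (O.filter (fun T => T ⊆ S)).card * (S.card - (k - 1)) := by
  have h1 := Finset.sum_card_bipartiteAbove_eq_sum_card_bipartiteBelow
    (fun (K : Finset α) (T : Finset α) => T ⊆ K) (s := S.powersetCard k)
    (t := O.filter (fun T => T ⊆ S))
  have hL : ∀ K ∈ S.powersetCard k,
      ((O.filter (fun T => T ⊆ S)).bipartiteAbove (fun K T => T ⊆ K) K).card = c := by
    intro K hK
    obtain ⟨hKS, hKc⟩ := Finset.mem_powersetCard.1 hK
    rw [← hc K hKc]
    congr 1
    ext T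
    simp only [Finset.bipartiteAbove, Finset.mem_filter]
    exact ⟨fun h => ⟨h.1.1, h.2⟩, fun h => ⟨⟨h.1, h.2.trans hKS⟩, h.2⟩⟩
  have hR : ∀ T ∈ O.filter (fun T => T ⊆ S),
      ((S.powersetCard k).bipartiteBelow (fun K T => T ⊆ K) T).card = S.card - (k - 1) := by
    intro T hT
    obtain ⟨hTO, hTS⟩ := Finset.mem_filter.1 hT
    have : (S.powersetCard k).bipartiteBelow (fun K T => T ⊆ K) T
        = (S \ T).image (fun x => insert x T) := by
      ext K
      simp only [Finset.bipartiteBelow, Finset.mem_filter, Finset.mem_powersetCard,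
        Finset.mem_image, Finset.mem_sdiff]
      constructor
      · rintro ⟨⟨hKS, hKc⟩, hTK⟩
        have : (K \ T).card = 1 := by
          rw [Finset.card_sdiff_of_subset hTK, hKc, hO T hTO]; omega
        obtain ⟨x, hx⟩ := Finset.card_eq_one.1 this
        have hxm : x ∈ K \ T := by rw [hx]; simp
        refine ⟨x, ⟨hKS (Finset.mem_sdiff.1 hxm).1, (Finset.mem_sdiff.1 hxm).2⟩, ?_⟩
        rw [Finset.insert_eq, ← hx, Finset.sdiff_union_of_subset hTK]
      · rintro ⟨x, ⟨hxS, hxT⟩, rfl⟩
        refine ⟨⟨Finset.insert_subset hxS hTS, ?_⟩, Finset.subset_insert _ _⟩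
        rw [Finset.card_insert_of_notMem hxT, hO T hTO]; omega
    rw [this, Finset.card_image_of_injOn, Finset.card_sdiff_of_subset hTS, hO T hTO]
    intro x hx y hy hxy
    have hxT := (Finset.mem_sdiff.1 hx).2
    have : x ∈ insert y T := by
      have : x ∈ insert x T := Finset.mem_insert_self x T
      simp only at hxy
      rwa [hxy] at this
    simpa [hxT] using this
  rw [Finset.sum_congr rfl hL, Finset.sum_congr rfl hR, Finset.sum_const, Finset.sum_const,
    Finset.card_powersetCard] at h1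
  simpa [mul_comm] using h1

/-- A `k`-homogeneous permutation group of degree `n`, `k ≥ 2`, with `k + q - 1 ≤ n` for every prime power `q` dividing `k`, is `(k-1)`-homogeneous. -/
theorem result {α : Type*} [Fintype α] [DecidableEq α] (G : Subgroup (Equiv.Perm α)) {k : ℕ} (hk : 2 ≤ k) (hG : MulAction.IsPretransitive G (Set.powersetCard α k)) (hq : ∀ q : ℕ, IsPrimePow q → q ∣ k → k + q - 1 ≤ Fintype.card α) : MulAction.IsPretransitive G (Set.powersetCard α (k - 1)) := by
  classical
  have hp0 := Nat.minFac_prime (by omega : k ≠ 1)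
  have hk_n : k ≤ Fintype.card α := by
    have := hq k.minFac hp0.isPrimePow (Nat.minFac_dvd k)
    have := hp0.two_le
    omega
  rw [MulAction.isPretransitive_iff]
  intro T₀ T₁
  let O : Finset (Finset α) := Finset.univ.filter (fun T => ∃ g : G, g • (T₀ : Finset α) = T)
  have hOmem : ∀ {T}, T ∈ O ↔ ∃ g : G, g • (T₀ : Finset α) = T := by simp [O]
  have hT0 : (T₀ : Finset α).card = k - 1 := T₀.prop
  have hcard : ∀ (g : G) (s : Finset α), (g • s).card = s.card := fun g s => Finset.card_smul_finset g s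
  have hO : ∀ T ∈ O, T.card = k - 1 := by
    intro T hT; obtain ⟨g, rfl⟩ := hOmem.1 hT; rw [hcard, hT0]
  obtain ⟨K₀, hTK, -, hK0⟩ := Finset.exists_subsuperset_card_eq (s := (T₀ : Finset α))
    (t := Finset.univ) (n := k) (Finset.subset_univ _) (by omega) (by simpa using hk_n)
  set c := (O.filter (fun T => T ⊆ K₀)).card with hc_def
  have hstab : ∀ (g : G) (T : Finset α), g • T ∈ O ↔ T ∈ O := by
    intro g T; simp only [hOmem]
    constructor
    · rintro ⟨h, hh⟩; exact ⟨g⁻¹ * h, by rw [mul_smul, hh, inv_smul_smul]⟩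
    · rintro ⟨h, hh⟩; exact ⟨g * h, by rw [mul_smul, hh]⟩
  have hc : ∀ K : Finset α, K.card = k → (O.filter (fun T => T ⊆ K)).card = c := by
    intro K hK
    obtain ⟨g, hg⟩ := hG.exists_smul_eq (⟨K₀, hK0⟩ : Set.powersetCard α k) ⟨K, hK⟩
    have hg' : g • K₀ = K := congrArg (fun s : Set.powersetCard α k => (s : Finset α)) hg
    subst hg'
    symm
    refine Finset.card_bij' (fun T _ => g • T) (fun T _ => g⁻¹ • T) ?_ ?_ ?_ ?_
    · intro T hT
      simp only [Finset.mem_filter] at hT ⊢
      exact ⟨(hstab g T).2 hT.1, Finset.smul_finset_subset_smul_finset hT.2⟩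
    · intro T hT
      simp only [Finset.mem_filter] at hT ⊢
      refine ⟨(hstab g⁻¹ T).2 hT.1, ?_⟩
      have := Finset.smul_finset_subset_smul_finset (a := g⁻¹) hT.2
      rwa [inv_smul_smul] at this
    · intro T _; simp
    · intro T _; simp
  have hcpos : 0 < c := Finset.card_pos.2
    ⟨T₀, Finset.mem_filter.2 ⟨hOmem.2 ⟨1, one_smul _ _⟩, hTK⟩⟩
  have hsub : O.filter (fun T => T ⊆ K₀) ⊆ K₀.powersetCard (k - 1) := by
    intro T hT
    simp only [Finset.mem_filter] at hT
    exact Finset.mem_powersetCard.2 ⟨hT.2, hO T hT.1⟩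
  have hKk : (K₀.powersetCard (k - 1)).card = k := by
    rw [Finset.card_powersetCard, hK0, Nat.choose_symm (by omega : 1 ≤ k), Nat.choose_one_right]
  have hdvd : k ∣ c := by
    rw [Nat.dvd_iff_prime_pow_dvd_dvd]
    intro p j hp hj
    have := Fact.mk hp
    set a := k.factorization p
    have hja : j ≤ a := (hp.pow_dvd_iff_le_factorization (by omega)).1 hj
    rcases Nat.eq_zero_or_pos j with hj0 | hj0
    · subst hj0; simp
    refine (pow_dvd_pow p hja).trans ?_
    obtain ⟨u, hu⟩ : p ^ a ∣ k := Nat.ordProj_dvd k p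
    have hpu : ¬ p ∣ u := by
      intro h
      have : p ^ (a+1) ∣ k := by rw [hu, pow_succ]; exact mul_dvd_mul_left _ h
      have := (hp.pow_dvd_iff_le_factorization (by omega)).1 this
      omega
    have hqn := hq (p ^ a) ⟨p, a, Nat.prime_iff.1 hp, by omega, rfl⟩ ⟨u, hu⟩
    have hqpos : 0 < p ^ a := pow_pos hp.pos a
    obtain ⟨S, -, hS⟩ := Finset.exists_subset_card_eq (s := (Finset.univ : Finset α))
      (n := k + p ^ a - 1) (by simpa using hqn)
    have h2 := count O (by omega) hO hc S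
    rw [hS, show k + p ^ a - 1 - (k - 1) = p ^ a by omega] at h2
    have h3 := Nat.choose_succ_right_eq (k + p ^ a - 1) (k - 1)
    rw [show k - 1 + 1 = k by omega, show k + p ^ a - 1 - (k - 1) = p ^ a by omega] at h3
    have h4 : p ^ a * ((k + p ^ a - 1).choose (k - 1) * c) =
        p ^ a * ((O.filter (fun T => T ⊆ S)).card * k) := by
      calc _ = (k + p ^ a - 1).choose (k - 1) * p ^ a * c := by ring
        _ = (k + p ^ a - 1).choose k * k * c := by rw [h3]
        _ = (k + p ^ a - 1).choose k * c * k := by ring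
        _ = _ := by rw [h2]; ring
    have h5 := Nat.eq_of_mul_eq_mul_left hqpos h4
    have h6 : p ^ a ∣ (k + p ^ a - 1).choose (k - 1) * c := by
      rw [h5]; exact Dvd.dvd.mul_left ⟨u, hu⟩ _
    refine (Nat.Coprime.pow_left a ?_).dvd_of_dvd_mul_left h6
    rw [hp.coprime_iff_not_dvd]
    intro hdv
    have hsym : (k + p ^ a - 1).choose (k - 1) = (p ^ a * u + (p ^ a - 1)).choose (p ^ a) := by
      rw [show p ^ a * u + (p ^ a - 1) = k + p ^ a - 1 by omega]
      rw [← Nat.choose_symm (show k - 1 ≤ k + p ^ a - 1 by omega)]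
      congr 1; omega
    rw [hsym] at hdv
    have := choose_mod p u a
    exact hpu (Nat.modEq_zero_iff_dvd.1 (this.symm.trans (Nat.modEq_zero_iff_dvd.2 hdv)))
  have hck : c = k := le_antisymm (hKk ▸ Finset.card_le_card hsub) (Nat.le_of_dvd hcpos hdvd)
  obtain ⟨K₁, hT1K, -, hK1⟩ := Finset.exists_subsuperset_card_eq (s := (T₁ : Finset α))
    (t := Finset.univ) (n := k) (Finset.subset_univ _)
    (by have : (T₁ : Finset α).card = k - 1 := T₁.prop; omega) (by simpa using hk_n)
  have hsub1 : O.filter (fun T => T ⊆ K₁) ⊆ K₁.powersetCard (k - 1) := by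
    intro T hT
    simp only [Finset.mem_filter] at hT
    exact Finset.mem_powersetCard.2 ⟨hT.2, hO T hT.1⟩
  have heq := Finset.eq_of_subset_of_card_le hsub1 (by
    rw [hc K₁ hK1, Finset.card_powersetCard, hK1, Nat.choose_symm (by omega : 1 ≤ k),
      Nat.choose_one_right, hck])
  have : (T₁ : Finset α) ∈ O.filter (fun T => T ⊆ K₁) := by
    rw [heq]; exact Finset.mem_powersetCard.2 ⟨hT1K, T₁.prop⟩
  obtain ⟨g, hg⟩ := hOmem.1 (Finset.mem_filter.1 this).1
  exact ⟨g, Subtype.ext hg⟩

end Cfsg.Agent.S0736
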