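import Cfsg.Statements.S0744
import Mathlib
import Cfsg.Agent.Lib.Block.MultiTrans
-- import your own Cfsg.Agent.* helpers here

set_option autoImplicit false
open Cfsg

namespace Cfsg.Agent.S0744

/-- If for some `k > 1` the pointwise stabilisers of all `(k-1)`-subsets have the same order `> 1` and those of all `k`-subsets have the same order, then the group is `(k-1)`-transitive. -/
theorem result {α : Type*} [Fintype α] [DecidableEq α] (G : Subgroup (Equiv.Perm α)) {k : ℕ} (hk : 1 < k) (hkn : k ≤ Fintype.card α) (l m : ℕ) (hl : 1 < l) (hkm1 : ∀ s : Finset α, s.card = k - 1 → Nat.card (fixingSubgroup G (s : Set α)) = l) (hkm : ∀ s : Finset α, s.card = k → Nat.card (fixingSubgroup G (s : Set α)) = m) : MulAction.IsMultiplyPretransitive G α (k - 1) := by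
  classical
  obtain ⟨j, rfl⟩ : ∃ j, k = j + 2 := ⟨k - 2, by omega⟩
  rw [show j + 2 - 1 = j + 1 by omega] at hkm1 ⊢
  refine Cfsg.Agent.Block.isMultiplyPretransitive_of_fixing j hkn fun s hs a b ha hb => ?_
  by_contra hne
  push Not at hne
  let M : Subgroup G := fixingSubgroup G (s : Set α)
  -- all orbits of the stabiliser of a `(j+1)`-set have the same length
  let orb : α → α → Finset α := fun c x =>
    Finset.univ.filter (fun y => y ∈ MulAction.orbit (fixingSubgroup G ((insert c s : Finset α) : Set α)) x)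
  have horb : ∀ c x, c ∉ s → x ∉ insert c s → (orb c x).card * m = l := by
    intro c x hc hx
    set K := fixingSubgroup G ((insert c s : Finset α) : Set α)
    have h1 := Nat.card_congr (MulAction.orbitProdStabilizerEquivGroup K x)
    rw [Nat.card_prod] at h1
    have h2 : Nat.card K = l := hkm1 _ (by rw [Finset.card_insert_of_notMem hc, hs])
    have h3 : Nat.card (MulAction.stabilizer K x) = m := by
      rw [← hkm (insert x (insert c s)) (by
        rw [Finset.card_insert_of_notMem hx, Finset.card_insert_of_notMem hc, hs])]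
      refine Nat.card_congr
        { toFun := fun g => ⟨(g : K), ?_⟩
          invFun := fun g => ⟨⟨(g : G), ?_⟩, ?_⟩
          left_inv := fun g => rfl
          right_inv := fun g => rfl }
      · rw [mem_fixingSubgroup_iff]
        intro y hy
        rcases Finset.mem_insert.1 (Finset.mem_coe.1 hy) with rfl | hy
        · exact g.2
        · exact (mem_fixingSubgroup_iff G).1 (g : K).2 y (Finset.mem_coe.2 hy)
      · rw [mem_fixingSubgroup_iff]
        exact fun y hy => (mem_fixingSubgroup_iff G).1 g.2 y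
          (Finset.mem_coe.2 (Finset.mem_insert_of_mem (Finset.mem_coe.1 hy)))
      · exact (mem_fixingSubgroup_iff G).1 g.2 x (Finset.mem_coe.2 (Finset.mem_insert_self _ _))
    have h4 : Nat.card (MulAction.orbit K x) = (orb c x).card := by
      rw [Nat.card_eq_fintype_card, Fintype.card_subtype]
    rw [h4, h3, h2] at h1
    exact h1
  -- the orbit of `a`
  let Γ : Finset α := Finset.univ.filter (fun y => y ∈ MulAction.orbit M a)
  have hsΓ : ∀ x ∈ s, x ∉ Γ := by
    intro x hx hxΓ
    obtain ⟨g, hga⟩ := (Finset.mem_filter.1 hxΓ).2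
    exact ha ((smul_left_cancel (g : G)
      (hga.trans ((mem_fixingSubgroup_iff G).1 g.2 x (Finset.mem_coe.2 hx)).symm) : a = x) ▸ hx)
  have hbΓ : b ∉ Γ := by
    intro hbΓ
    obtain ⟨g, hga⟩ := (Finset.mem_filter.1 hbΓ).2
    exact hne g (fun x hx => (mem_fixingSubgroup_iff G).1 g.2 x (Finset.mem_coe.2 hx)) hga
  have hcount : ∀ c, c ∉ s → ∃ q, (Γ.erase c).card * m = q * l := by
    intro c hc
    refine ⟨((Γ.erase c).image (orb c)).card, ?_⟩
    rw [Finset.card_eq_sum_card_image (orb c) (Γ.erase c), Finset.sum_mul, ← smul_eq_mul,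
      ← Finset.sum_const]
    refine Finset.sum_congr rfl fun o ho => ?_
    obtain ⟨x, hx, rfl⟩ := Finset.mem_image.1 ho
    rw [Finset.mem_erase] at hx
    have hxs : x ∉ insert c s := by
      rw [Finset.mem_insert, not_or]
      exact ⟨hx.1, fun h' => hsΓ x h' hx.2⟩
    rw [← horb c x hc hxs]
    congr 2
    ext y
    simp only [Finset.mem_filter, orb, Finset.mem_univ, true_and, Finset.mem_erase]
    constructor
    · rintro ⟨-, hy⟩
      have h1 : y ∈ orb c y := Finset.mem_filter.2 ⟨Finset.mem_univ _, MulAction.mem_orbit_self y⟩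
      simp only [orb] at h1
      rw [hy] at h1
      exact (Finset.mem_filter.1 h1).2
    · intro hy
      obtain ⟨g, rfl⟩ := hy
      have hgc : (g : G) • c = c :=
        (mem_fixingSubgroup_iff G).1 g.2 c (Finset.mem_coe.2 (Finset.mem_insert_self _ _))
      refine ⟨⟨?_, ?_⟩, ?_⟩
      · intro h'
        exact hx.1 (smul_left_cancel (g : G) ((h' : (g : G) • x = c).trans hgc.symm))
      · obtain ⟨k, hk⟩ := (Finset.mem_filter.1 hx.2).2
        refine Finset.mem_filter.2 ⟨Finset.mem_univ _, ⟨⟨(g : G) * k, ?_⟩, ?_⟩⟩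
        · exact M.mul_mem ((mem_fixingSubgroup_iff G).2 fun z hz => (mem_fixingSubgroup_iff G).1 g.2 z
            (Finset.mem_coe.2 (Finset.mem_insert_of_mem (Finset.mem_coe.1 hz)))) k.2
        · show ((g : G) * (k : G)) • a = (g : G) • x
          rw [mul_smul]
          exact congrArg _ hk
      · ext z
        simp only [Finset.mem_filter, Finset.mem_univ, true_and]
        rw [MulAction.orbit_eq_iff.2 (MulAction.mem_orbit x g)]
  haveI : Finite G := inferInstance
  obtain ⟨q₁, hq₁⟩ := hcount a ha
  obtain ⟨q₂, hq₂⟩ := hcount b hb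
  have haΓ : a ∈ Γ := Finset.mem_filter.2 ⟨Finset.mem_univ _, MulAction.mem_orbit_self a⟩
  rw [Finset.erase_eq_of_notMem hbΓ, ← Finset.card_erase_add_one haΓ, add_mul, hq₁, one_mul] at hq₂
  -- hence `m = l`
  have hml : m = l := by
    have hm0 : 0 < m := by
      obtain ⟨t, -, ht⟩ := Finset.exists_subset_card_eq (s := (Finset.univ : Finset α)) (n := j + 2)
        (by rw [Finset.card_univ]; exact hkn)
      rw [← hkm t ht]
      exact Nat.card_pos
    have hb' : b ∉ insert a s := by
      rw [Finset.mem_insert, not_or]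
      exact ⟨fun h' => hbΓ (h' ▸ haΓ), hb⟩
    have h5 := horb a b ha hb'
    have h6 : 0 < (orb a b).card := Finset.card_pos.2
      ⟨b, Finset.mem_filter.2 ⟨Finset.mem_univ _, MulAction.mem_orbit_self b⟩⟩
    have h7 : l ∣ m := (Nat.dvd_add_right ⟨q₁, mul_comm _ _⟩).1 (hq₂ ▸ ⟨q₂, mul_comm _ _⟩)
    exact le_antisymm (by rw [← h5]; exact Nat.le_mul_of_pos_left m h6) (Nat.le_of_dvd hm0 h7)
  -- so the stabiliser of `s ∪ {a}` is trivial
  obtain ⟨g, hg⟩ : ∃ g : fixingSubgroup G ((insert a s : Finset α) : Set α), g ≠ 1 := by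
    have h1 : 1 < Nat.card (fixingSubgroup G ((insert a s : Finset α) : Set α)) := by
      rw [hkm1 _ (by rw [Finset.card_insert_of_notMem ha, hs])]
      exact hl
    haveI := Finite.one_lt_card_iff_nontrivial.1 h1
    exact exists_ne 1
  apply hg
  refine Subtype.ext (Subtype.ext (Equiv.ext fun x => ?_))
  by_cases hx : x ∈ insert a s
  · exact (mem_fixingSubgroup_iff G).1 g.2 x (Finset.mem_coe.2 hx)
  have h5 := horb a x ha hx
  rw [hml] at h5
  have h6 : (orb a x).card = 1 := by
    refine Nat.eq_of_mul_eq_mul_right (show 0 < l by omega) ?_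
    rw [one_mul]; exact h5
  obtain ⟨y, hy⟩ := Finset.card_eq_one.1 h6
  have h7 : (g : G) • x ∈ orb a x := Finset.mem_filter.2 ⟨Finset.mem_univ _, MulAction.mem_orbit x g⟩
  have h8 : x ∈ orb a x := Finset.mem_filter.2 ⟨Finset.mem_univ _, MulAction.mem_orbit_self x⟩
  rw [hy, Finset.mem_singleton] at h7 h8
  exact h7.trans h8.symm

end Cfsg.Agent.S0744
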