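import Cfsg.Statements.S0238
import Mathlib
import Cfsg.Agent.Lib.Invol.Basic
-- import your own Cfsg.Agent.* helpers here

set_option autoImplicit false
open Cfsg

namespace Cfsg.Agent.S0238

/-- For every x in a finite group G, the number c of ordered pairs (u, v) of involutions with uv = x is at most |C_G(x)|; c = 0 when x is not conjugate to x⁻¹; and c + 2 ≤ |C_G(x)| when x is an involution. -/
theorem result {G : Type*} [Group G] [Finite G] (x : G) : Nat.card {p : G × G // orderOf p.1 = 2 ∧ orderOf p.2 = 2 ∧ p.1 * p.2 = x} ≤ Nat.card (Subgroup.centralizer ({x} : Set G)) ∧ (¬ IsConj x x⁻¹ → Nat.card {p : G × G // orderOf p.1 = 2 ∧ orderOf p.2 = 2 ∧ p.1 * p.2 = x} = 0) ∧ (orderOf x = 2 → Nat.card {p : G × G // orderOf p.1 = 2 ∧ orderOf p.2 = 2 ∧ p.1 * p.2 = x} + 2 ≤ Nat.card (Subgroup.centralizer ({x} : Set G))) := by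
  classical
  let f : {p : G × G // orderOf p.1 = 2 ∧ orderOf p.2 = 2 ∧ p.1 * p.2 = x} → G := fun p => p.1.1
  have hf : Function.Injective f := by
    rintro ⟨⟨u, v⟩, hu, hv, huv⟩ ⟨⟨u', v'⟩, hu', hv', huv'⟩ h
    change u = u' at h
    subst h
    change u * v = x at huv
    change u * v' = x at huv'
    exact Subtype.ext (Prod.ext rfl (mul_left_cancel (huv.trans huv'.symm)))
  have hinv : ∀ p, f p * x * (f p)⁻¹ = x⁻¹ := by
    rintro ⟨⟨u, v⟩, hu, hv, rfl⟩
    exact Invol.conj_mul_eq_inv hu hv
  refine ⟨?_, fun hnr => ?_, fun hx => ?_⟩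
  · rcases isEmpty_or_nonempty {p : G × G // orderOf p.1 = 2 ∧ orderOf p.2 = 2 ∧ p.1 * p.2 = x}
      with h | ⟨⟨p₀⟩⟩
    · simp
    · refine Nat.card_le_card_of_injective
        (fun p => (⟨(f p₀)⁻¹ * f p, ?_⟩ : Subgroup.centralizer ({x} : Set G))) ?_
      · rw [Subgroup.mem_centralizer_singleton_iff]
        have h1 := hinv p
        have h0 := hinv p₀
        have h2 : f p * x = f p₀ * x * (f p₀)⁻¹ * f p := by
          rw [h0, ← h1]; group
        rw [mul_assoc, h2]
        group
      · intro p q h
        exact hf (by simpa using congrArg Subtype.val h)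
  · rw [Nat.card_eq_zero]
    exact Or.inl ⟨fun p => hnr (isConj_iff.mpr ⟨f p, hinv p⟩)⟩
  · let g : {p : G × G // orderOf p.1 = 2 ∧ orderOf p.2 = 2 ∧ p.1 * p.2 = x} ⊕ Fin 2 → G :=
      Sum.elim f ![1, x]
    have hg : Function.Injective g := by
      refine hf.sumElim ?_ ?_
      · intro i j h
        have := Invol.ne_one_of_orderOf_two hx
        fin_cases i <;> fin_cases j <;> simp_all [eq_comm]
      · rintro ⟨⟨u, v⟩, hu, hv, huv⟩ i
        change u * v = x at huv
        change u ≠ ![1, x] i
        fin_cases i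
        · exact Invol.ne_one_of_orderOf_two hu
        · intro h
          change u = x at h
          rw [h, mul_eq_left] at huv
          exact Invol.ne_one_of_orderOf_two hv huv
    have hmem : ∀ z, g z ∈ Subgroup.centralizer ({x} : Set G) := by
      intro z
      rw [Subgroup.mem_centralizer_singleton_iff]
      rcases z with p | i
      · have h := hinv p
        rw [Invol.inv_of_orderOf_two hx, mul_inv_eq_iff_eq_mul] at h
        exact h
      · fin_cases i <;> simp [g]
    have h := Nat.card_le_card_of_injective (fun z => (⟨g z, hmem z⟩ : Subgroup.centralizer ({x} : Set G)))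
      (fun a b h => hg (congrArg Subtype.val h))
    simpa [Nat.card_sum] using h

end Cfsg.Agent.S0238
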