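import Cfsg.Statements.S0695
import Mathlib
-- import your own Cfsg.Agent.* helpers here

set_option autoImplicit false
open Cfsg

namespace Cfsg.Agent.S0695

/-- A regular normal subgroup of a doubly primitive group of finite degree at least 2 is an elementary abelian 2-group (and the degree is a power of 2), unless the degree is 3. -/
theorem result {G : Type*} [Group G] {X : Type*} [Fintype X] [MulAction G X] (hX : 2 ≤ Fintype.card X) (h2 : MulAction.IsMultiplyPreprimitive G X 2) (N : Subgroup G) [N.Normal] (htrans : MulAction.IsPretransitive N X) (hreg : ∀ x : X, MulAction.stabilizer N x = ⊥) : Fintype.card X = 3 ∨ (IsMulCommutative N ∧ (∀ n ∈ N, n ^ 2 = 1) ∧ ∃ m : ℕ, Fintype.card X = 2 ^ m) := by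
  classical
  obtain ⟨a⟩ : Nonempty X := Fintype.card_pos_iff.1 (by omega)
  have hinj : ∀ n m : N, n • a = m • a → n = m := by
    intro n m h
    have h1 : m⁻¹ * n ∈ MulAction.stabilizer N a := by
      rw [MulAction.mem_stabilizer_iff, mul_smul, h, inv_smul_smul]
    rw [hreg a, Subgroup.mem_bot, inv_mul_eq_one] at h1
    exact h1.symm
  have hcard : Nat.card N = Fintype.card X := by
    rw [← Nat.card_eq_fintype_card]
    exact Nat.card_congr (Equiv.ofBijective (fun n : N => n • a)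
      ⟨fun n m h => hinj n m h, fun x => htrans.exists_smul_eq a x⟩)
  by_cases hall : ∀ n ∈ N, n ^ 2 = 1
  · right
    refine ⟨⟨⟨fun x y => Subtype.ext ?_⟩⟩, hall, ?_⟩
    · have h1 : ∀ g ∈ N, g⁻¹ = g := fun g hg => inv_eq_of_mul_eq_one_right (by rw [← pow_two]; exact hall g hg)
      have h2 := h1 _ (mul_mem x.2 y.2)
      rw [mul_inv_rev, h1 _ x.2, h1 _ y.2] at h2
      exact h2.symm
    · haveI : Fact (Nat.Prime 2) := ⟨Nat.prime_two⟩
      haveI : Finite N := Nat.finite_of_card_ne_zero (by omega)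
      obtain ⟨m, hm⟩ := IsPGroup.exists_card_eq (p := 2) (G := N)
        (fun g => ⟨1, Subtype.ext (by simpa using hall g g.2)⟩)
      exact ⟨m, by rw [← hcard, hm]⟩
  left
  push Not at hall
  obtain ⟨n, hn, hn2⟩ := hall
  have hn1 : n ≠ 1 := fun h => hn2 (by rw [h, one_pow])
  have hprim : MulAction.IsPreprimitive (fixingSubgroup G ({a} : Set X)) (SubMulAction.ofFixingSubgroup G ({a} : Set X)) :=
    MulAction.IsMultiplyPreprimitive.isPreprimitive_ofFixingSubgroup G 2 (by rw [Set.encard_singleton]; norm_num)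
  have hout : ∀ m : N, m ≠ 1 → m • a ∈ SubMulAction.ofFixingSubgroup G ({a} : Set X) := by
    intro m hm hmem
    exact hm (hinj m 1 (by rw [one_smul]; exact hmem))
  let ν : N := ⟨n, hn⟩
  have hν : ν ≠ 1 := fun h => hn1 (congrArg Subtype.val h)
  let B : Set (SubMulAction.ofFixingSubgroup G ({a} : Set X)) :=
    {y | (y : X) = ν • a ∨ (y : X) = ν⁻¹ • a}
  have hB : MulAction.IsBlock (fixingSubgroup G ({a} : Set X)) B := by
    rw [MulAction.isBlock_iff_smul_eq_of_nonempty]
    intro g hne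
    have hga : (g : G) • a = a := (mem_fixingSubgroup_iff G).1 g.2 a rfl
    let κ : N := ⟨(g : G) * n * (g : G)⁻¹, Subgroup.Normal.conj_mem inferInstance n hn g⟩
    have hgi : (g : G)⁻¹ • a = a := inv_smul_eq_iff.2 hga.symm
    have e1 : (g : G) • (ν • a) = κ • a := by
      show _ = ((g : G) * n * (g : G)⁻¹) • a
      rw [mul_smul, mul_smul, hgi]; rfl
    have e2 : (g : G) • (ν⁻¹ • a) = κ⁻¹ • a := by
      show _ = ((g : G) * n * (g : G)⁻¹)⁻¹ • a
      rw [mul_inv_rev, mul_inv_rev, inv_inv, mul_smul, mul_smul, hgi]; rfl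
    have hκ : κ = ν ∨ κ = ν⁻¹ := by
      obtain ⟨_, ⟨y, hy, rfl⟩, hy'⟩ := hne
      change (g : G) • (y : X) = _ ∨ (g : G) • (y : X) = _ at hy'
      rcases hy with h | h <;> rw [h] at hy'
      · rw [e1] at hy'
        exact hy'.imp (hinj _ _) (hinj _ _)
      · rw [e2] at hy'
        rcases hy' with h' | h'
        · exact Or.inr (inv_inj.1 (by rw [hinj _ _ h', inv_inv]))
        · exact Or.inl (inv_inj.1 (hinj _ _ h'))
    ext z
    constructor
    · rintro ⟨y, hy, rfl⟩
      change (g : G) • (y : X) = _ ∨ (g : G) • (y : X) = _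
      rcases hy with h | h <;> rw [h] <;> rcases hκ with k | k <;> simp [e1, e2, k]
    · intro hz
      rcases hz with h | h <;> rcases hκ with k | k
      · exact ⟨⟨ν • a, hout ν hν⟩, Or.inl rfl, Subtype.ext (by show (g : G) • (ν • a) = _; rw [e1, k, h])⟩
      · exact ⟨⟨ν⁻¹ • a, hout _ (inv_ne_one.2 hν)⟩, Or.inr rfl,
          Subtype.ext (by show (g : G) • (ν⁻¹ • a) = _; rw [e2, k, inv_inv, h])⟩
      · exact ⟨⟨ν⁻¹ • a, hout _ (inv_ne_one.2 hν)⟩, Or.inr rfl,
          Subtype.ext (by show (g : G) • (ν⁻¹ • a) = _; rw [e2, k, h])⟩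
      · exact ⟨⟨ν • a, hout ν hν⟩, Or.inl rfl, Subtype.ext (by show (g : G) • (ν • a) = _; rw [e1, k, h])⟩
  have hne : ν • a ≠ ν⁻¹ • a := by
    intro h
    have := congrArg Subtype.val (hinj _ _ h)
    apply hn2
    change n = n⁻¹ at this
    rw [pow_two]
    nth_rewrite 2 [this]
    exact mul_inv_cancel n
  rcases hprim.isTrivialBlock_of_isBlock hB with h | h
  · exact absurd (congrArg Subtype.val (h (Or.inl rfl : ⟨ν • a, hout ν hν⟩ ∈ B)
      (Or.inr rfl : ⟨ν⁻¹ • a, hout _ (inv_ne_one.2 hν)⟩ ∈ B))) hne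
  · have huniv : (Finset.univ : Finset X) = {a, ν • a, ν⁻¹ • a} := by
      ext x
      simp only [Finset.mem_univ, true_iff, Finset.mem_insert, Finset.mem_singleton]
      by_cases hx : x = a
      · exact Or.inl hx
      · have : (⟨x, hx⟩ : SubMulAction.ofFixingSubgroup G ({a} : Set X)) ∈ B := h ▸ Set.mem_univ _
        exact Or.inr this
    rw [← Finset.card_univ, huniv, Finset.card_eq_three]
    exact ⟨a, ν • a, ν⁻¹ • a, fun h => hout ν hν h.symm, fun h => hout _ (inv_ne_one.2 hν) h.symm, hne, rfl⟩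

end Cfsg.Agent.S0695
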