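import Cfsg.Statements.S0696
import Mathlib
import Cfsg.Agent.S0695
-- import your own Cfsg.Agent.* helpers here

set_option autoImplicit false
open Cfsg

namespace Cfsg.Agent.S0696

/-- A triply primitive group of degree at least 3 having a regular normal subgroup has degree 3 or 4. -/
theorem result {G : Type*} [Group G] {X : Type*} [Fintype X] [MulAction G X] (hX : 3 ≤ Fintype.card X) (h3 : MulAction.IsMultiplyPreprimitive G X 3) (N : Subgroup G) [N.Normal] (htrans : MulAction.IsPretransitive N X) (hreg : ∀ x : X, MulAction.stabilizer N x = ⊥) : Fintype.card X = 3 ∨ Fintype.card X = 4 := by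
  classical
  have h2 : MulAction.IsMultiplyPreprimitive G X 2 :=
    MulAction.isMultiplyPreprimitive_of_le G X h3 (by norm_num : 2 ≤ 3) (by rw [ENat.card_eq_coe_fintype_card]; exact_mod_cast (by omega : 3 ≤ Fintype.card X))
  rcases Cfsg.Agent.S0695.result (by omega) h2 N htrans hreg with h | ⟨hc, hsq, -⟩
  · exact Or.inl h
  by_cases h4 : Fintype.card X = 3
  · exact Or.inl h4
  right
  obtain ⟨a⟩ : Nonempty X := Fintype.card_pos_iff.1 (by omega)
  have hinj : ∀ n m : N, n • a = m • a → n = m := by
    intro n m h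
    have h1 : m⁻¹ * n ∈ MulAction.stabilizer N a := by
      rw [MulAction.mem_stabilizer_iff, mul_smul, h, inv_smul_smul]
    rw [hreg a, Subgroup.mem_bot, inv_mul_eq_one] at h1
    exact h1.symm
  obtain ⟨b, hb⟩ := Fintype.exists_ne_of_one_lt_card (by omega : 1 < Fintype.card X) a
  obtain ⟨u, hu⟩ := htrans.exists_smul_eq a b
  obtain ⟨c, hca, hcb⟩ : ∃ c, c ≠ a ∧ c ≠ b := by
    have : ({a, b} : Finset X) ≠ Finset.univ := by
      intro h
      have h2 := congrArg Finset.card h
      have h3 : ({a, b} : Finset X).card ≤ 2 := Finset.card_le_two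
      rw [Finset.card_univ] at h2
      omega
    obtain ⟨c, hc⟩ := not_forall.1 (mt Finset.eq_univ_iff_forall.2 this)
    simp only [Finset.mem_insert, Finset.mem_singleton, not_or] at hc
    exact ⟨c, hc⟩
  obtain ⟨v, hv⟩ := htrans.exists_smul_eq a c
  have hprim : MulAction.IsPreprimitive (fixingSubgroup G ({a, b} : Set X)) (SubMulAction.ofFixingSubgroup G ({a, b} : Set X)) :=
    MulAction.IsMultiplyPreprimitive.isPreprimitive_ofFixingSubgroup G 3
      (by rw [Set.encard_pair (Ne.symm hb)]; norm_num)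
  have hself : ∀ w : N, w * w = 1 := fun w => Subtype.ext (by rw [Subgroup.coe_mul, ← pow_two]; exact hsq w w.2)
  have hout : ∀ w : N, w ≠ 1 → w ≠ u → w • a ∈ SubMulAction.ofFixingSubgroup G ({a, b} : Set X) := by
    intro w h1 h2 hmem
    rcases hmem with h | h
    · exact h1 (hinj w 1 (by rw [one_smul]; exact h))
    · exact h2 (hinj w u (by rw [hu]; exact h))
  have hu1 : u ≠ 1 := fun h => hb (by rw [← hu, h, one_smul])
  have hv1 : v ≠ 1 := fun h => hca (by rw [← hv, h, one_smul])
  have hvu : v ≠ u := fun h => hcb (by rw [← hv, h, hu])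
  have huv1 : u * v ≠ 1 := fun h => hvu (mul_left_cancel (h.trans (hself u).symm))
  have huvu : u * v ≠ u := fun h => hv1 (mul_eq_left.1 h)
  let B : Set (SubMulAction.ofFixingSubgroup G ({a, b} : Set X)) :=
    {y | (y : X) = v • a ∨ (y : X) = (u * v) • a}
  have hB : MulAction.IsBlock (fixingSubgroup G ({a, b} : Set X)) B := by
    rw [MulAction.isBlock_iff_smul_eq_of_nonempty]
    intro g hne
    have hga : (g : G) • a = a := (mem_fixingSubgroup_iff G).1 g.2 a (Or.inl rfl)
    have hgb : (g : G) • b = b := (mem_fixingSubgroup_iff G).1 g.2 b (Or.inr rfl)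
    have hgi : (g : G)⁻¹ • a = a := inv_smul_eq_iff.2 hga.symm
    let cg : N →* N := MonoidHom.mk' (fun w => ⟨(g : G) * (w : G) * (g : G)⁻¹, Subgroup.Normal.conj_mem inferInstance _ w.2 g⟩)
      (fun w z => Subtype.ext (by simp [mul_assoc]))
    have e : ∀ w : N, (g : G) • (w • a) = cg w • a := by
      intro w
      show _ = ((g : G) * (w : G) * (g : G)⁻¹) • a
      rw [mul_smul, mul_smul, hgi]; rfl
    have hcu : cg u = u := hinj _ _ (by rw [← e, hu, hgb])
    have hκ : cg v = v ∨ cg v = u * v := by
      obtain ⟨_, ⟨y, hy, rfl⟩, hy'⟩ := hne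
      change (g : G) • (y : X) = _ ∨ (g : G) • (y : X) = _ at hy'
      rcases hy with h | h <;> rw [h, e] at hy'
      · exact hy'.imp (hinj _ _) (hinj _ _)
      · rw [map_mul, hcu] at hy'
        rcases hy' with h' | h'
        · exact Or.inr (by rw [← hinj _ _ h', ← mul_assoc, hself, one_mul, hinj _ _ h'])
        · exact Or.inl (mul_left_cancel (hinj _ _ h'))
    have huu : u * (u * v) = v := by rw [← mul_assoc, hself, one_mul]
    ext z
    constructor
    · rintro ⟨y, hy, rfl⟩
      change (g : G) • (y : X) = _ ∨ (g : G) • (y : X) = _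
      rcases hy with h | h <;> rw [h, e] <;> rcases hκ with k | k <;> simp [map_mul, hcu, k, huu]
    · intro hz
      rcases hz with h | h <;> rcases hκ with k | k
      · exact ⟨⟨v • a, hout v hv1 hvu⟩, Or.inl rfl, Subtype.ext (by show (g : G) • (v • a) = _; rw [e, k, h])⟩
      · exact ⟨⟨(u * v) • a, hout _ huv1 huvu⟩, Or.inr rfl,
          Subtype.ext (by show (g : G) • ((u * v) • a) = _; rw [e, map_mul, hcu, k, huu, h])⟩
      · exact ⟨⟨(u * v) • a, hout _ huv1 huvu⟩, Or.inr rfl,
          Subtype.ext (by show (g : G) • ((u * v) • a) = _; rw [e, map_mul, hcu, k, h])⟩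
      · exact ⟨⟨v • a, hout v hv1 hvu⟩, Or.inl rfl, Subtype.ext (by show (g : G) • (v • a) = _; rw [e, k, h])⟩
  have hne : v • a ≠ (u * v) • a := by
    intro h
    have h1 := hinj _ _ h
    exact hu1 (mul_eq_right.1 h1.symm)
  rcases hprim.isTrivialBlock_of_isBlock hB with h | h
  · exact absurd (congrArg Subtype.val (h (Or.inl rfl : ⟨v • a, hout v hv1 hvu⟩ ∈ B)
      (Or.inr rfl : ⟨(u * v) • a, hout _ huv1 huvu⟩ ∈ B))) hne
  · have huniv : (Finset.univ : Finset X) = {a, b, v • a, (u * v) • a} := by
      ext x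
      simp only [Finset.mem_univ, true_iff, Finset.mem_insert, Finset.mem_singleton]
      by_cases hx : x = a
      · exact Or.inl hx
      by_cases hx' : x = b
      · exact Or.inr (Or.inl hx')
      · have : (⟨x, by rintro (h1 | h1); exacts [hx h1, hx' h1]⟩ : SubMulAction.ofFixingSubgroup G ({a, b} : Set X)) ∈ B :=
          h ▸ Set.mem_univ _
        exact Or.inr (Or.inr this)
    have hA : a ∉ ({b, v • a, (u * v) • a} : Finset X) := by
      simp only [Finset.mem_insert, Finset.mem_singleton, not_or]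
      exact ⟨Ne.symm hb, fun h => hout v hv1 hvu (Or.inl h.symm), fun h => hout _ huv1 huvu (Or.inl h.symm)⟩
    have hBn : b ∉ ({v • a, (u * v) • a} : Finset X) := by
      simp only [Finset.mem_insert, Finset.mem_singleton, not_or]
      exact ⟨fun h => hout v hv1 hvu (Or.inr h.symm), fun h => hout _ huv1 huvu (Or.inr h.symm)⟩
    rw [← Finset.card_univ, huniv, Finset.card_insert_of_notMem hA, Finset.card_insert_of_notMem hBn,
      Finset.card_pair hne]

end Cfsg.Agent.S0696
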