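import Cfsg.Statements.S0382
import Cfsg.Agent.Lib.Spor.Golay.M24Facts

set_option autoImplicit false
open scoped Pointwise
open Cfsg

namespace Cfsg.Agent.S0382

/-- A dodecad stabiliser in the group of the length-24 code has order 95040 = 2^6·3^3·5·11. -/
theorem result (d : Finset Cfsg.GolayPt) (hd : d ∈ Cfsg.dodecads) : Nat.card (MulAction.stabilizer Cfsg.M24 d) = 95040 := by
  obtain ⟨g, hg, rfl⟩ := Cfsg.Agent.Spor.Golay.exists_smul_dd hd
  show Nat.card (MulAction.stabilizer Cfsg.M24 ((⟨g, hg⟩ : Cfsg.M24) • Cfsg.Agent.Spor.Golay.pts Cfsg.Agent.Spor.Golay.dd)) = _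
  rw [← Cfsg.Agent.Spor.Golay.card_stabilizer_dd]
  exact (Nat.card_congr (MulAction.stabilizerEquivStabilizer (g := (⟨g, hg⟩ : Cfsg.M24)) rfl).toEquiv).symm

end Cfsg.Agent.S0382
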