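import Cfsg.Statements.S0387
import Cfsg.Agent.Lib.Spor.Golay.M24Frames
import Cfsg.Agent.S0382

set_option autoImplicit false
open scoped Pointwise
open Cfsg

namespace Cfsg.Agent.S0387

open Cfsg.Agent.Spor.Golay
open scoped Pointwise

/-- The stabiliser of a dodecad and a point on it has order 7920 = 2^4·3^2·5·11. -/
theorem result (d : Finset Cfsg.GolayPt) (hd : d ∈ Cfsg.dodecads) (p : Cfsg.GolayPt) (hp : p ∈ d) : Nat.card ↥(MulAction.stabilizer Cfsg.M24 d ⊓ MulAction.stabilizer Cfsg.M24 p) = 7920 := by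
  classical
  set S := MulAction.stabilizer Cfsg.M24 d with hS
  have horb : MulAction.orbit S p = (d : Set Cfsg.GolayPt) := by
    ext q
    constructor
    · rintro ⟨g, rfl⟩
      have hgd : ((g : Cfsg.M24) : Equiv.Perm Cfsg.GolayPt) • d = d := g.2
      exact Finset.mem_coe.mpr ((apply_mem_of_smul_eq hgd).mpr hp)
    · intro hq
      have h5 : 5 ≤ d.card := by rw [hd.2]; norm_num
      obtain ⟨x, hx⟩ := exists_five d h5
      obtain ⟨g, hg, hgd, hgx⟩ := exists_frame_dodecad hd
        (x.trans (Equiv.swap (x 0) p).toEmbedding) (fun i => by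
          show Equiv.swap (x 0) p (x i) ∈ d
          rw [Equiv.swap_apply_def]; split_ifs <;> first | exact hp | exact hx _)
      obtain ⟨h, hh, hhd, hhx⟩ := exists_frame_dodecad hd
        (x.trans (Equiv.swap (x 0) q).toEmbedding) (fun i => by
          show Equiv.swap (x 0) q (x i) ∈ d
          rw [Equiv.swap_apply_def]; split_ifs <;> first | exact Finset.mem_coe.mp hq | exact hx _)
      refine ⟨⟨⟨h * g⁻¹, Cfsg.M24.mul_mem hh (Cfsg.M24.inv_mem hg)⟩, ?_⟩, ?_⟩
      · show (h * g⁻¹) • d = d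
        rw [mul_smul, ← hgd, inv_smul_smul, hgd, hhd]
      · show (h * g⁻¹) p = q
        have e1 : g (base5 0) = p := (hgx 0).trans (Equiv.swap_apply_left _ _)
        have e2 : h (base5 0) = q := (hhx 0).trans (Equiv.swap_apply_left _ _)
        rw [Equiv.Perm.mul_apply, ← e1, Equiv.Perm.coe_inv, Equiv.symm_apply_apply, e2]
  have h := Nat.card_congr (MulAction.orbitProdStabilizerEquivGroup S p)
  rw [Nat.card_prod, horb, Nat.card_coe_set_eq, Set.ncard_coe_finset, hd.2,
    Cfsg.Agent.S0382.result d hd] at h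
  let e : MulAction.stabilizer S p ≃
      ↥(MulAction.stabilizer Cfsg.M24 d ⊓ MulAction.stabilizer Cfsg.M24 p) :=
    { toFun := fun g => ⟨g.1.1, g.1.2, g.2⟩
      invFun := fun g => ⟨⟨g.1, g.2.1⟩, g.2.2⟩
      left_inv := fun _ => rfl
      right_inv := fun _ => rfl }
  rw [Nat.card_congr e] at h
  exact Nat.eq_of_mul_eq_mul_left (by norm_num : 0 < 12) (by linarith [h])

end Cfsg.Agent.S0387
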