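import Cfsg.Statements.S1487
import Cfsg.Agent.Lib.Char.Kernel

set_option autoImplicit false
open Cfsg

namespace Cfsg.Agent.S1487

open Cfsg.Agent.Char

/-- Let A ≤ H be normal subgroups of the finite group G and θ an irreducible character of H. Then θ takes the value θ 1 on all of A if and only if the function induced from θ to G takes its value at 1 on all of A. -/
theorem result {G : Type*} [Group G] [Fintype G] (A H : Subgroup G) [A.Normal] [H.Normal] (hAH : A ≤ H) (θ : H → ℂ) (hθ : Cfsg.IsIrrCharacter H θ) : (∀ a : H, (a : G) ∈ A → θ a = θ 1) ↔ (∀ a : G, a ∈ A → Cfsg.indFun H θ a = Cfsg.indFun H θ 1) := by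
  classical
  haveI := Fintype.ofFinite H
  have hA : ∀ (a x : G), a ∈ A → x⁻¹ * a * x ∈ A := fun a x ha => by
    simpa using (inferInstance : A.Normal).conj_mem a ha x⁻¹
  have hval : ∀ a ∈ A, indFun H θ a = (Nat.card H : ℂ)⁻¹ * ∑ x : G, extendByZero H θ (x⁻¹ * a * x) :=
    fun a _ => rfl
  refine ⟨fun h a ha => ?_, fun h a ha => ?_⟩
  · rw [hval a ha, hval 1 A.one_mem]
    congr 1
    refine Finset.sum_congr rfl fun x _ => ?_
    rw [extendByZero_of_mem _ (hAH (hA a x ha)), extendByZero_of_mem _ (hAH (hA 1 x A.one_mem))]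
    rw [h ⟨_, hAH (hA a x ha)⟩ (hA a x ha), h ⟨_, hAH (hA 1 x A.one_mem)⟩ (hA 1 x A.one_mem)]
  · have h1 := h a ha
    rw [hval a ha, hval 1 A.one_mem, mul_right_inj' (inv_ne_zero (Nat.cast_ne_zero.mpr Nat.card_pos.ne'))] at h1
    have h2 : ∑ x : G, ((1 : ℝ) : ℂ) * θ ⟨x⁻¹ * a * x, hAH (hA a x ha)⟩ =
        ∑ _x : G, ((1 : ℝ) : ℂ) * θ 1 := by
      simp only [Complex.ofReal_one, one_mul]
      refine Eq.trans (Finset.sum_congr rfl fun x _ => (extendByZero_of_mem θ _).symm) (h1.trans ?_)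
      refine Finset.sum_congr rfl fun x _ => ?_
      rw [mul_one, inv_mul_cancel, extendByZero_of_mem _ H.one_mem]
      rfl
    have h3 := eq_one_of_sum_eq (G := H) (g := fun x : G => (⟨x⁻¹ * a * x, hAH (hA a x ha)⟩ : H))
      Finset.univ (fun _ : G => (1 : ℝ)) (fun _ => θ) (fun _ _ => zero_le_one)
      (fun _ _ => IsIrr.isCharacter hθ) h2 (Finset.mem_univ (1 : G)) one_ne_zero
    simpa using h3

end Cfsg.Agent.S1487
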