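import Cfsg.Statements.S0169
import Cfsg.Agent.Lib.Char.ExtendMain
-- import your own Cfsg.Agent.* helpers here

set_option autoImplicit false
open Cfsg

namespace Cfsg.Agent.S0169

/-- Itô's Theorem on character degrees: the degree of an irreducible complex representation of a finite group divides the index of any abelian normal subgroup. -/
theorem result {G : Type*} [Group G] [Finite G] {V : Type*} [AddCommGroup V] [Module ℂ V] [FiniteDimensional ℂ V] (ρ : Representation ℂ G V) [ρ.IsIrreducible] (H : Subgroup G) [H.Normal] (hH : ∀ a ∈ H, ∀ b ∈ H, a * b = b * a) : Module.finrank ℂ V ∣ H.index := by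
  classical
  cases nonempty_fintype G
  haveI : Fintype H := Fintype.ofFinite H
  have hχ := Cfsg.Agent.Char.isIrrCharacter_character ρ
  obtain ⟨θ, hθ⟩ := Cfsg.Agent.Char.IsChar.exists_constituent'
    (Cfsg.Agent.Char.IsChar.res (Cfsg.Agent.Char.IsIrr.isCharacter hχ) H)
    (show ρ.character ((1 : H) : G) ≠ 0 from Cfsg.Agent.Char.IsIrr.one_ne_zero hχ)
  obtain ⟨e, he, hed⟩ := Cfsg.Agent.Char.Ext.ratio_dvd_index' (N := H) hχ θ.2 hθ
  rw [Cfsg.Agent.Char.IsIrr.one_of_comm (fun a b => Subtype.ext (hH a a.2 b b.2)) θ.2, mul_one,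
    Representation.char_one] at he
  rwa [show Module.finrank ℂ V = e by exact_mod_cast he]

end Cfsg.Agent.S0169
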