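import Cfsg.Statements.S0178
import Cfsg.Agent.Lib.Char.Constituent

set_option autoImplicit false
open Cfsg

namespace Cfsg.Agent.S0178

open Cfsg.Agent.Char

/-- The degree of an irreducible complex representation of a finite group is at most the index of any abelian subgroup. -/
theorem result {G : Type*} [Group G] [Finite G] {V : Type*} [AddCommGroup V] [Module ℂ V] [FiniteDimensional ℂ V] (ρ : Representation ℂ G V) [ρ.IsIrreducible] (A : Subgroup G) (hA : ∀ a ∈ A, ∀ b ∈ A, a * b = b * a) : Module.finrank ℂ V ≤ A.index := by
  haveI := Fintype.ofFinite G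
  haveI := Fintype.ofFinite A
  have hχ := isIrrCharacter_character ρ
  obtain ⟨l, hl⟩ := IsChar.exists_constituent' (IsChar.res (IsIrr.isCharacter hχ) A)
    (show ρ.character ((1 : A) : G) ≠ 0 by rw [Subgroup.coe_one]; exact IsIrr.one_ne_zero hχ)
  have hne : classInner (indFun A (l : A → ℂ)) ρ.character ≠ 0 := by
    rw [classInner_indFun A _ (IsIrr.classFun hχ), ← classInner_conj_symm]
    simpa using hl
  refine degree_le_of_constituent (isCharacter_indFun A (IsIrr.isCharacter l.2)) hχ hne ?_
    (Representation.char_one ρ)
  rw [indFun_one_eq, IsIrr.one_of_comm (fun a b => Subtype.ext (hA a a.2 b b.2)) l.2, mul_one]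

end Cfsg.Agent.S0178
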