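import Cfsg.Statements.S4231
import Mathlib
import Cfsg.Agent.Lib.Alt.AutAlternating

set_option maxHeartbeats 1000000
set_option maxRecDepth 8000

set_option autoImplicit false
open Cfsg

namespace Cfsg.Agent.S4231

open Equiv Equiv.Perm
open Cfsg.Agent.AltAut

section aut

variable {α : Type*} [Fintype α] [DecidableEq α]

/-- Every automorphism is conjugation by a permutation. -/
theorem exists_perm_of (h4 : 4 ≤ Fintype.card α)
    (θ : MulAut (alternatingGroup α))
    (hcyc : ∀ x : alternatingGroup α, (x : Perm α).IsThreeCycle → (θ x : Perm α).IsThreeCycle) : ∃ σ : Perm α, MulAut.conjNormal σ = θ := by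
  obtain ⟨o⟩ : Nonempty α := Fintype.card_pos_iff.1 (by omega)
  obtain ⟨l, hlo⟩ := Fintype.exists_ne_of_one_lt_card (by omega) o
  have hol : o ≠ l := hlo.symm
  -- the images of the generators
  let img : ∀ i, i ≠ o → i ≠ l → Perm α := fun i h1 h2 =>
    (θ ⟨cyc o l i, cyc_mem hol h2.symm⟩ : alternatingGroup α)
  have himg : ∀ i (h1 : i ≠ o) (h2 : i ≠ l), (img i h1 h2).IsThreeCycle := fun i h1 h2 =>
    hcyc _ (isThreeCycle_cyc hol h2.symm h1.symm)
  have hinj : ∀ i j (h1 : i ≠ o) (h2 : i ≠ l) (g1 : j ≠ o) (g2 : j ≠ l),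
      img i h1 h2 = img j g1 g2 → i = j := by
    intro i j h1 h2 g1 g2 h
    have h' := congrArg Subtype.val (θ.injective (Subtype.ext h))
    have := congrArg (fun p : Perm α => p l) h'
    simpa only [cyc_snd h1.symm h2.symm, cyc_snd g1.symm g2.symm] using this
  have hprod : ∀ i j (h1 : i ≠ o) (h2 : i ≠ l) (g1 : j ≠ o) (g2 : j ≠ l), i ≠ j →
      (img i h1 h2 * img j g1 g2) ^ 2 = 1 ∧ img i h1 h2 * img j g1 g2 ≠ 1 := by
    intro i j h1 h2 g1 g2 hij
    have hmul : cyc o l i * cyc o l j = swap o i * swap l j := by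
      ext x
      simp only [Perm.mul_apply]
      by_cases e1 : x = o
      · subst e1
        rw [cyc_fst hol g1.symm, cyc_snd h1.symm h2.symm, swap_apply_of_ne_of_ne hol g1.symm,
          swap_apply_left]
      by_cases e2 : x = l
      · subst e2
        rw [cyc_snd g1.symm g2.symm, cyc_other g1 g2 hij.symm, swap_apply_left,
          swap_apply_of_ne_of_ne g1 hij.symm]
      by_cases e3 : x = i
      · subst e3
        rw [cyc_other h1 h2 hij, cyc_thd, swap_apply_of_ne_of_ne h2 hij, swap_apply_right]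
      by_cases e4 : x = j
      · subst e4
        rw [cyc_thd, cyc_fst hol h1.symm, swap_apply_right, swap_apply_of_ne_of_ne hlo h2.symm]
      rw [cyc_other e1 e2 e4, cyc_other e1 e2 e3, swap_apply_of_ne_of_ne e2 e4,
        swap_apply_of_ne_of_ne e1 e3]
    set A : alternatingGroup α := ⟨cyc o l i, cyc_mem hol h2.symm⟩
    set B : alternatingGroup α := ⟨cyc o l j, cyc_mem hol g2.symm⟩
    have hsq : (A * B) ^ 2 = 1 := Subtype.ext (by
      rw [SubgroupClass.coe_pow, Subgroup.coe_mul, OneMemClass.coe_one, hmul]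
      have hc : Commute (swap o i) (swap l j) := by
        refine Disjoint.commute fun x => ?_
        by_cases e : x = o ∨ x = i
        · right
          rcases e with rfl | rfl
          · exact swap_apply_of_ne_of_ne hol g1.symm
          · exact swap_apply_of_ne_of_ne h2 hij
        · push Not at e
          exact Or.inl (swap_apply_of_ne_of_ne e.1 e.2)
      rw [hc.mul_pow, pow_two, pow_two, swap_mul_self, swap_mul_self, one_mul])
    have hne : A * B ≠ 1 := fun e => by
      have := congrArg (fun p : alternatingGroup α => (p : Perm α) o) e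
      simp only [Subgroup.coe_mul, OneMemClass.coe_one, Perm.one_apply] at this
      rw [show ((A : Perm α) * (B : Perm α)) = swap o i * swap l j from hmul, Perm.mul_apply,
        swap_apply_of_ne_of_ne hol g1.symm, swap_apply_left] at this
      exact h1 this
    refine ⟨?_, fun h => hne (θ.injective (Subtype.ext (by simpa [img, map_mul] using h)))⟩
    have e : θ ((A * B) ^ 2) = 1 := by rw [hsq, map_one]
    rw [map_pow, map_mul] at e
    simpa [img, A, B] using congrArg Subtype.val e
  -- the common edge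
  obtain ⟨i₀, hi₀, hi₀'⟩ : ∃ i, i ≠ o ∧ i ≠ l := by
    by_contra h
    push Not at h
    have : Fintype.card α ≤ ({o, l} : Finset α).card :=
      Finset.card_le_card fun x _ => by
        by_cases hx : x = o
        · simp [hx]
        · simp [h x hx]
    have := Finset.card_le_two (a := o) (b := l)
    omega
  obtain ⟨i₁, hi₁, hi₁', hi₁''⟩ : ∃ i, i ≠ o ∧ i ≠ l ∧ i ≠ i₀ := by
    by_contra h
    push Not at h
    have : Fintype.card α ≤ ({o, l, i₀} : Finset α).card :=
      Finset.card_le_card fun x _ => by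
        by_cases hx : x = o
        · simp [hx]
        by_cases hx' : x = l
        · simp [hx']
        simp [h x hx hx']
    have := Finset.card_le_three (a := o) (b := l) (c := i₀)
    omega
  obtain ⟨hp1, hp2⟩ := hprod i₀ i₁ hi₀ hi₀' hi₁ hi₁' hi₁''.symm
  obtain ⟨u, hu, huB⟩ := exists_edge (himg i₀ hi₀ hi₀') (himg i₁ hi₁ hi₁') hp1 hp2
  set v := img i₀ hi₀ hi₀' u with hv
  have hedge : ∀ i (h1 : i ≠ o) (h2 : i ≠ l), img i h1 h2 u = v := by
    intro i h1 h2
    by_cases e0 : i = i₀
    · subst e0; rfl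
    by_cases e1 : i = i₁
    · subst e1; exact huB.symm
    obtain ⟨q1, q2⟩ := hprod i₀ i hi₀ hi₀' h1 h2 (Ne.symm e0)
    obtain ⟨x, hx, hxe⟩ := exists_edge (himg i₀ hi₀ hi₀') (himg i h1 h2) q1 q2
    obtain ⟨r1, r2⟩ := hprod i₁ i hi₁ hi₁' h1 h2 (Ne.symm e1)
    obtain ⟨y, hy, hye⟩ := exists_edge (himg i₁ hi₁ hi₁') (himg i h1 h2) r1 r2
    exact edge_unique (himg i₀ hi₀ hi₀') (himg i₁ hi₁ hi₁') (himg i h1 h2) hu huB
      (fun e => hi₁'' (hinj _ _ hi₀ hi₀' hi₁ hi₁' e).symm)
      (hxe ▸ hx) hxe (hye ▸ hy) hye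
  -- the permutation
  let f : α → α := fun i => if h1 : i = o then u else if h2 : i = l then v else img i h1 h2 v
  have hf : ∀ i (h1 : i ≠ o) (h2 : i ≠ l), img i h1 h2 = cyc u v (f i) ∧ v ≠ f i ∧ u ≠ f i := by
    intro i h1 h2
    obtain ⟨e, a1, a2, -⟩ := eq_cyc (himg i h1 h2) (a := u) (by rw [hedge i h1 h2]; exact hu)
    rw [hedge i h1 h2] at e a1 a2
    simp only [f, dif_neg h1, dif_neg h2]
    exact ⟨e, a1, a2⟩
  have hfo : f o = u := by simp [f]
  have hfl : f l = v := by simp [f, hlo]
  have hfinj : Function.Injective f := by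
    intro i j h
    by_cases a1 : i = o
    · subst a1
      by_cases b1 : j = i
      · exact b1.symm
      by_cases b2 : j = l
      · subst b2; rw [hfo, hfl] at h; exact absurd h.symm hu
      · rw [hfo] at h; exact absurd h (hf j b1 b2).2.2
    by_cases a2 : i = l
    · subst a2
      by_cases b2 : j = i
      · exact b2.symm
      by_cases b1 : j = o
      · subst b1; rw [hfo, hfl] at h; exact absurd h hu
      · rw [hfl] at h; exact absurd h (hf j b1 b2).2.1
    by_cases b1 : j = o
    · subst b1; rw [hfo] at h; exact absurd h.symm (hf i a1 a2).2.2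
    by_cases b2 : j = l
    · subst b2; rw [hfl] at h; exact absurd h.symm (hf i a1 a2).2.1
    refine hinj i j a1 a2 b1 b2 ?_
    rw [(hf i a1 a2).1, (hf j b1 b2).1, h]
  let σ : Perm α := Equiv.ofBijective f ⟨hfinj, Finite.injective_iff_surjective.1 hfinj⟩
  refine ⟨σ, ?_⟩
  let S : Subgroup (Perm α) := (MonoidHom.eqLocus
    (((MulAut.conjNormal σ : MulAut (alternatingGroup α)).toMonoidHom) :
      alternatingGroup α →* alternatingGroup α) θ.toMonoidHom).map (alternatingGroup α).subtype
  have hS : ∀ i, i ≠ o → i ≠ l → cyc o l i ∈ S := fun i h1 h2 => by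
    refine ⟨⟨cyc o l i, cyc_mem hol h2.symm⟩, Subtype.ext ?_, rfl⟩
    show (MulAut.conjNormal σ (⟨cyc o l i, _⟩ : alternatingGroup α) : Perm α) = img i h1 h2
    rw [MulAut.conjNormal_apply, cyc_conj, (hf i h1 h2).1]
    show cyc (f o) (f l) (f i) = _
    rw [hfo, hfl]
  have hall : alternatingGroup α ≤ S := by
    rw [← closure_three_cycles_eq_alternating, Subgroup.closure_le]
    exact fun x hx => cyc_mem_of_edge hol hS hx
  refine MulEquiv.ext fun x => ?_
  obtain ⟨y, hy, e⟩ := hall x.2
  obtain rfl : y = x := Subtype.ext e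
  exact hy

end aut

theorem six_facts : (∀ x : Perm (Fin 6), x * x * x = 1 → x ≠ 1 → x.support.card = 3 ∨ x.support.card = 6) ∧
    (Finset.univ.filter fun x : Perm (Fin 6) => x * x * x = 1 ∧ x.support.card = 3).card = 40 ∧
    (Finset.univ.filter fun x : Perm (Fin 6) => x * x * x = 1 ∧ x.support.card = 6).card = 40 := by
  decide +kernel

/-- Whether an automorphism preserves the class of three cycles. -/
def Keeps (θ : MulAut (alternatingGroup (Fin 6))) : Prop :=
  ∀ x : alternatingGroup (Fin 6), (x : Perm (Fin 6)).IsThreeCycle → (θ x : Perm (Fin 6)).IsThreeCycle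

theorem six_cube {x : alternatingGroup (Fin 6)} (hx : (x : Perm (Fin 6)) * x * x = 1) (θ : MulAut (alternatingGroup (Fin 6))) :
    (θ x : Perm (Fin 6)) * θ x * θ x = 1 := by
  have h : x * x * x = 1 := Subtype.ext hx
  have := congrArg (fun u => ((θ u : alternatingGroup (Fin 6)) : Perm (Fin 6))) h
  simpa using this

theorem keeps_or {θ : MulAut (alternatingGroup (Fin 6))} (hθ : ¬ Keeps θ) :
    (∀ x : alternatingGroup (Fin 6), (x : Perm (Fin 6)).IsThreeCycle → (θ x : Perm (Fin 6)).support.card = 6) ∧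
    ∀ x : alternatingGroup (Fin 6), (x : Perm (Fin 6)) * x * x = 1 → (x : Perm (Fin 6)).support.card = 6 →
      (θ x : Perm (Fin 6)).IsThreeCycle := by
  obtain ⟨h36, hT, hD⟩ := six_facts
  have hcube : ∀ {x : Perm (Fin 6)}, x.IsThreeCycle → x * x * x = 1 := fun h => by
    have := cube_eq_one h
    rwa [pow_succ, pow_two] at this
  have hne1 : ∀ (x : alternatingGroup (Fin 6)), (x : Perm (Fin 6)) ≠ 1 → ∀ φ : MulAut (alternatingGroup (Fin 6)),
      (φ x : Perm (Fin 6)) ≠ 1 := fun x hx φ e => hx (by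
    rw [show x = 1 from φ.injective ((Subtype.ext e).trans (map_one φ).symm)]; rfl)
  obtain ⟨x₀, hx₀, hbad⟩ : ∃ x : alternatingGroup (Fin 6), (x : Perm (Fin 6)).IsThreeCycle ∧ ¬ (θ x : Perm (Fin 6)).IsThreeCycle := by
    by_contra h
    exact hθ fun x hx => by_contra fun hn => h ⟨x, hx, hn⟩
  have hsix : ∀ x : alternatingGroup (Fin 6), (x : Perm (Fin 6)).IsThreeCycle → ¬ (θ x : Perm (Fin 6)).IsThreeCycle →
      (θ x : Perm (Fin 6)).support.card = 6 := fun x hx hn =>
    (h36 _ (six_cube (hcube hx) θ) (hne1 x hx.ne_one θ)).resolve_left fun e => hn (card_support_eq_three_iff.1 e)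
  have hall : ∀ x : alternatingGroup (Fin 6), (x : Perm (Fin 6)).IsThreeCycle → (θ x : Perm (Fin 6)).support.card = 6 := by
    intro x hx
    obtain ⟨g, hg⟩ := isConj_iff.1 (alternatingGroup.isThreeCycle_isConj (by simp) hx₀ hx)
    rw [← hg, map_mul, map_mul, map_inv, Subgroup.coe_mul, Subgroup.coe_mul, Subgroup.coe_inv,
      card_support_conj]
    exact hsix x₀ hx₀ hbad
  refine ⟨hall, fun x hx h6 => ?_⟩
  classical
  let T := Finset.univ.filter fun x : Perm (Fin 6) => x * x * x = 1 ∧ x.support.card = 3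
  let D := Finset.univ.filter fun x : Perm (Fin 6) => x * x * x = 1 ∧ x.support.card = 6
  have hcard3 : ∀ y : {y // y ∈ T}, y.1.IsThreeCycle := fun y => card_support_eq_three_iff.1 (Finset.mem_filter.1 y.2).2.2
  let f : {y // y ∈ T} → {y // y ∈ D} := fun y => ⟨(θ ⟨y.1, mem_alternatingGroup.2 (hcard3 y).sign⟩ : Perm (Fin 6)),
    Finset.mem_filter.2 ⟨Finset.mem_univ _, six_cube (Finset.mem_filter.1 y.2).2.1 θ, hall _ (hcard3 y)⟩⟩
  have hf : Function.Surjective f := by
    refine (Fintype.bijective_iff_injective_and_card f |>.2 ⟨fun a b e => ?_, ?_⟩).2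
    · have e' : θ ⟨a.1, mem_alternatingGroup.2 (hcard3 a).sign⟩ = θ ⟨b.1, mem_alternatingGroup.2 (hcard3 b).sign⟩ :=
        Subtype.ext (show ((f a : {y // y ∈ D}) : Perm (Fin 6)) = f b by rw [e])
      exact Subtype.ext (show a.1 = b.1 from congrArg (fun u : alternatingGroup (Fin 6) => (u : Perm (Fin 6))) (θ.injective e'))
    · rw [Fintype.card_coe, Fintype.card_coe]; exact hT.trans hD.symm
  rcases h36 _ (six_cube hx θ) (hne1 x (fun e => by rw [e] at h6; simp at h6) θ) with e | e
  · exact card_support_eq_three_iff.1 e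
  · exfalso
    obtain ⟨y, hy⟩ := hf ⟨θ x, Finset.mem_filter.2 ⟨Finset.mem_univ _, six_cube hx θ, e⟩⟩
    have e' : θ ⟨y.1, mem_alternatingGroup.2 (hcard3 y).sign⟩ = θ x :=
      Subtype.ext (show ((f y : {y // y ∈ D}) : Perm (Fin 6)) = (θ x : Perm (Fin 6)) by rw [hy])
    have hy' : y.1 = (x : Perm (Fin 6)) := congrArg Subtype.val (θ.injective e')
    have := (Finset.mem_filter.1 y.2).2.2
    rw [show y.1 = (x : Perm (Fin 6)) from hy', h6] at this
    omega

theorem card_aut_six : Nat.card (MulAut (alternatingGroup (Fin 6))) ∣ 1440 := by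
  let K := (MulAut.conjNormal : Perm (Fin 6) →* MulAut (alternatingGroup (Fin 6))).range
  have hK : ∀ θ : MulAut (alternatingGroup (Fin 6)), Keeps θ → θ ∈ K := fun θ h => exists_perm_of (by simp) θ h
  have hKc : Nat.card K = 720 := by
    rw [← Nat.card_congr (MonoidHom.ofInjective (conjNormal_injective (α := Fin 6) (by simp))).toEquiv, Nat.card_perm, Nat.card_fin]
    rfl
  have hidx : K.index ∣ 2 := by
    by_cases h : ∀ θ, θ ∈ K
    · rw [Subgroup.eq_top_iff' K |>.2 h, Subgroup.index_top]; exact one_dvd 2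
    push Not at h
    obtain ⟨θ₀, hθ₀⟩ := h
    refine dvd_of_eq (Subgroup.index_eq_two_iff'.2 ⟨θ₀, fun b => ?_⟩)
    by_cases hb : b ∈ K
    · exact Or.inr ⟨hb, fun h => hθ₀ (by have := K.mul_mem h (K.inv_mem hb); rwa [mul_inv_cancel_right] at this)⟩
    · refine Or.inl ⟨hK _ fun x hx => ?_, hb⟩
      have h1 := keeps_or (fun h => hθ₀ (hK _ h))
      have h2 := keeps_or (fun h => hb (hK _ h))
      rw [MulAut.mul_apply]
      refine h1.2 _ ?_ (h2.1 x hx)
      have := cube_eq_one hx
      rw [pow_succ, pow_two] at this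
      exact six_cube this b
  rw [← Subgroup.card_mul_index K, hKc]
  exact (mul_dvd_mul_left 720 hidx)

theorem abelian_of_small {n q : ℕ} [hq : Fact q.Prime] (hn : n < q * q) (P : Subgroup (Perm (Fin n))) (hP : IsPGroup q P) :
    IsMulCommutative P := by
  refine ⟨⟨fun a b => Subtype.ext (Equiv.ext fun x => ?_)⟩⟩
  classical
  haveI : Finite (MulAction.orbit P x) := Subtype.finite
  obtain ⟨j, hj⟩ := hP.card_orbit x
  have hle : Nat.card (MulAction.orbit P x) ≤ n :=
    (Nat.card_le_card_of_injective (fun v : MulAction.orbit P x => (v : Fin n)) Subtype.coe_injective).trans_eq (Nat.card_fin n)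
  have hj1 : j ≤ 1 := by
    by_contra h
    have := Nat.pow_le_pow_right hq.out.pos (show 2 ≤ j by omega)
    rw [← hj, pow_two] at this
    omega
  let π : P →* Perm (MulAction.orbit P x) := MulAction.toPermHom P (MulAction.orbit P x)
  have hd : Nat.card π.range ∣ (q ^ j).factorial := by
    rw [← hj, ← Nat.card_perm]
    exact Subgroup.card_subgroup_dvd_card _
  have hr : IsPGroup q π.range := hP.of_surjective π.rangeRestrict π.rangeRestrict_surjective
  obtain ⟨i, hi⟩ := IsPGroup.iff_card.1 hr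
  have hi1 : i ≤ 1 := by
    by_contra h
    have h2 := (pow_dvd_pow q (show 2 ≤ i by omega)).trans (hi ▸ hd)
    rcases Nat.le_one_iff_eq_zero_or_eq_one.1 hj1 with e | e <;> rw [e] at h2
    · simp at h2
      exact hq.out.one_lt.ne' h2
    · rw [pow_one, pow_two, ← Nat.mul_factorial_pred hq.out.ne_zero, mul_dvd_mul_iff_left hq.out.ne_zero] at h2
      exact absurd ((hq.out.dvd_factorial).1 h2) (by have := hq.out.two_le; omega)
  haveI : IsCyclic π.range := by
    rcases Nat.le_one_iff_eq_zero_or_eq_one.1 hi1 with e | e <;> rw [e] at hi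
    · haveI := (Nat.card_eq_one_iff_unique.1 (hi.trans (pow_zero q))).1
      exact isCyclic_of_subsingleton
    · exact isCyclic_of_prime_card (hi.trans (pow_one q))
  have hc : π a * π b = π b * π a := by
    letI := IsCyclic.commGroup (α := π.range)
    exact congrArg Subtype.val (mul_comm (⟨π a, a, rfl⟩ : π.range) ⟨π b, b, rfl⟩)
  have := congrArg (fun f : Perm (MulAction.orbit P x) => ((f ⟨x, MulAction.mem_orbit_self x⟩ : MulAction.orbit P x) : Fin n)) hc
  exact this

theorem exists_order {n p q : ℕ} (hp : p.Prime) (hq : q.Prime) (hpq : p ≠ q) (hp2 : p ≠ 2) (h : (q ≠ 2 ∧ p + q ≤ n) ∨ (q = 2 ∧ p + 4 ≤ n)) :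
    ∃ g : Perm (Fin n), g ∈ alternatingGroup (Fin n) ∧ orderOf g = p * q := by
  obtain ⟨k, hk⟩ := hp.odd_of_ne_two hp2
  rcases h with ⟨hq2, hle⟩ | ⟨rfl, hle⟩
  · obtain ⟨g, hg⟩ := (Equiv.Perm.exists_with_cycleType_iff (Fin n) (m := ({p, q} : Multiset ℕ))).2
      ⟨by simpa using hle, by simp [hp.two_le, hq.two_le]⟩
    refine ⟨g, ?_, ?_⟩
    · rw [mem_alternatingGroup, sign_of_cycleType, hg]
      obtain ⟨l, hl⟩ := hq.odd_of_ne_two hq2
      refine Even.neg_one_pow ⟨k + l + 2, ?_⟩
      simp
      omega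
    · rw [← lcm_cycleType, hg]
      simp only [Multiset.insert_eq_cons, Multiset.lcm_cons, Multiset.lcm_singleton, normalize_eq]
      exact Nat.Coprime.lcm_eq_mul ((Nat.coprime_primes hp hq).2 hpq)
  · obtain ⟨g, hg⟩ := (Equiv.Perm.exists_with_cycleType_iff (Fin n) (m := ({p, 2, 2} : Multiset ℕ))).2
      ⟨by simpa [add_assoc] using hle, by simp [hp.two_le]⟩
    refine ⟨g, ?_, ?_⟩
    · rw [mem_alternatingGroup, sign_of_cycleType, hg]
      refine Even.neg_one_pow ⟨k + 4, ?_⟩
      simp
      omega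
    · rw [← lcm_cycleType, hg]
      simp only [Multiset.insert_eq_cons, Multiset.lcm_cons, Multiset.lcm_singleton, normalize_eq]
      rw [show lcm (2 : ℕ) 2 = 2 from Nat.lcm_self 2]
      exact Nat.Coprime.lcm_eq_mul ((Nat.coprime_primes hp hq).2 hpq)

theorem six_abelian {q : ℕ} [hq : Fact q.Prime] (hq2 : q ≠ 2) (G : Subgroup (MulAut (alternatingGroup (Fin 6)))) (P : Sylow q G) :
    IsMulCommutative (P : Subgroup G) := by
  obtain ⟨k, hk⟩ := IsPGroup.iff_card.1 P.isPGroup'
  have hd : q ^ k ∣ 1440 := hk ▸ ((Subgroup.card_subgroup_dvd_card _).trans ((Subgroup.card_subgroup_dvd_card G).trans card_aut_six))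
  have hd' : q ^ k ∣ 45 := by
    refine (Nat.Coprime.pow_left k ?_).dvd_of_dvd_mul_left (show q ^ k ∣ 32 * 45 by simpa using hd)
    rw [show (32 : ℕ) = 2 ^ 5 from rfl]
    exact ((Nat.coprime_primes hq.out Nat.prime_two).2 hq2).pow_right 5
  have hk2 : k ≤ 2 := by
    by_contra h
    have h3 := (pow_dvd_pow q (show 3 ≤ k by omega)).trans hd'
    have hle := Nat.le_of_dvd (by norm_num) h3
    have h2 := hq.out.two_le
    have hlt : q < 4 := by
      by_contra h'
      have := Nat.pow_le_pow_left (show 4 ≤ q by omega) 3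
      omega
    interval_cases q
    · exact hq2 rfl
    · norm_num at h3
  rcases Nat.lt_or_ge k 2 with h | h
  · haveI : IsCyclic (P : Subgroup G) := by
      rcases Nat.le_one_iff_eq_zero_or_eq_one.1 (Nat.le_of_lt_succ h) with e | e <;> rw [e] at hk
      · haveI := (Nat.card_eq_one_iff_unique.1 (hk.trans (pow_zero q))).1
        exact isCyclic_of_subsingleton
      · exact isCyclic_of_prime_card (hk.trans (pow_one q))
    exact IsCyclic.isMulCommutative
  · exact IsPGroup.isMulCommutative_of_card_eq_prime_sq (p := q) (by rw [hk, show k = 2 by omega])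

theorem bound {n q : ℕ} [hq : Fact q.Prime] (h5 : 5 ≤ n) (h6 : n ≠ 6) (G : Subgroup (MulAut (alternatingGroup (Fin n))))
    (h : ¬ ∀ Q : Sylow q G, IsMulCommutative (Q : Subgroup G)) : q * q ≤ n := by
  by_contra hlt
  refine h fun Q => ?_
  let e := MulEquiv.ofBijective _ (conjNormal_bijective (α := Fin n) (by simp; omega) (by simp; exact h6))
  let f : (Q : Subgroup G) →* Perm (Fin n) := e.symm.toMonoidHom.comp (G.subtype.comp (Q : Subgroup G).subtype)
  have hf : Function.Injective f := fun a b he => Subtype.ext (Subtype.ext (e.symm.injective he))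
  haveI := abelian_of_small (q := q) (by omega) f.range (Q.isPGroup'.of_surjective f.rangeRestrict f.rangeRestrict_surjective)
  exact ⟨⟨fun a b => hf (by rw [map_mul, map_mul]; exact congrArg Subtype.val (mul_comm' (⟨f a, a, rfl⟩ : f.range) ⟨f b, b, rfl⟩))⟩⟩


/-- Let n ≥ 5 and let G be a group of automorphisms of the alternating group of degree n containing all inner automorphisms. If p ≠ q are primes and G has no element of order pq, then every Sylow p-subgroup of G is abelian or every Sylow q-subgroup of G is abelian. -/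
theorem result (n : ℕ) (hn : 5 ≤ n) (G : Subgroup (MulAut (alternatingGroup (Fin n))))
    (hG : (MulAut.conj : alternatingGroup (Fin n) →* MulAut (alternatingGroup (Fin n))).range ≤ G)
    (p q : ℕ) [Fact p.Prime] [Fact q.Prime] (hpq : p ≠ q) (h : ∀ g : G, orderOf g ≠ p * q) :
    (∀ P : Sylow p G, IsMulCommutative (P : Subgroup G)) ∨ (∀ Q : Sylow q G, IsMulCommutative (Q : Subgroup G)) := by

  by_contra hne
  rw [not_or] at hne
  obtain ⟨hP, hQ⟩ := hne
  rcases eq_or_ne n 6 with rfl | h6
  · rcases eq_or_ne p 2 with rfl | hp2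
    · exact hQ fun Q => six_abelian (fun e => hpq e.symm) G Q
    · exact hP fun P => six_abelian hp2 G P
  have hpn := bound hn h6 G hP
  have hqn := bound hn h6 G hQ
  have hp := (Fact.out : p.Prime)
  have hq := (Fact.out : q.Prime)
  have hex : ∃ g : Perm (Fin n), g ∈ alternatingGroup (Fin n) ∧ orderOf g = p * q := by
    have h2p := hp.two_le
    have h2q := hq.two_le
    rcases eq_or_ne p 2 with rfl | hp2
    · obtain ⟨g, h1, h2⟩ := exists_order hq hp (Ne.symm hpq) (fun e => hpq e.symm) (Or.inr ⟨rfl, by nlinarith [show 3 ≤ q by omega]⟩)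
      exact ⟨g, h1, h2.trans (mul_comm _ _)⟩
    · refine exists_order hp hq hpq hp2 ?_
      rcases eq_or_ne q 2 with rfl | hq2
      · exact Or.inr ⟨rfl, by nlinarith [show 3 ≤ p by omega]⟩
      · refine Or.inl ⟨hq2, ?_⟩
        rcases le_total p q with hle | hle
        · nlinarith
        · nlinarith
  obtain ⟨g, hg, ho⟩ := hex
  have hinj : Function.Injective (MulAut.conj : alternatingGroup (Fin n) →* MulAut (alternatingGroup (Fin n))) := by
    intro a b e
    have e' : MulAut.conjNormal (a : Perm (Fin n)) = (MulAut.conjNormal (b : Perm (Fin n)) : MulAut (alternatingGroup (Fin n))) := by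
      refine MulEquiv.ext fun x => Subtype.ext ?_
      rw [MulAut.conjNormal_apply, MulAut.conjNormal_apply]
      exact congrArg Subtype.val (DFunLike.congr_fun e x)
    exact Subtype.ext (conjNormal_injective (α := Fin n) (by simp; omega) e')
  refine h ⟨MulAut.conj ⟨g, hg⟩, hG ⟨_, rfl⟩⟩ ?_
  rw [← Subgroup.orderOf_coe, orderOf_injective _ hinj, ← Subgroup.orderOf_coe]
  exact ho

end Cfsg.Agent.S4231
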