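import Cfsg.Statements.S1393
import Cfsg.Agent.Lib.Transfer.TransHyp

set_option maxHeartbeats 1000000
set_option maxRecDepth 8000

set_option autoImplicit false
open Cfsg

namespace Cfsg.Agent.S1393

open Subgroup


/-- Let G be a minimal simple group of odd order, A a subgroup satisfying the transitivity hypothesis whose centre has rank at least 3, K = O_{π(A)'}(C_G(A)), and q a prime not dividing the order of A. Then any two maximal A-invariant q-subgroups of G are conjugate by an element of K. -/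
theorem result {G : Type*} [Group G] [Finite G] (hG : Cfsg.IsMinSimpleOddOrder G)
    (A : Subgroup G) (hA : Cfsg.TransitivityHypothesis A) (hZ : ¬ Cfsg.RankLE 2 ↥(A ⊓ Subgroup.centralizer (A : Set G)))
    (q : ℕ) (hq : q.Prime) (hqA : ¬ q ∣ Nat.card A) :
    ∀ Q₁ ∈ Cfsg.maxInvSubgroups ⊤ A {q}, ∀ Q₂ ∈ Cfsg.maxInvSubgroups ⊤ A {q}, ∃ k ∈ Cfsg.piCoreOf (Cfsg.primesNotDvd (Nat.card A)) (Subgroup.centralizer (A : Set G)), Q₂ = Q₁.map (MulAut.conj k).toMonoidHom := by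

  haveI := Fact.mk hq
  obtain ⟨p, hp, hr⟩ : ∃ p : ℕ, p.Prime ∧ ¬ Cfsg.PRankLE p 2 ↥(A ⊓ centralizer (A : Set G)) := by
    by_contra h; push Not at h; exact hZ h
  haveI := Fact.mk hp
  obtain ⟨B0, hBc, hBe, hB⟩ : ∃ B : Subgroup ↥(A ⊓ centralizer (A : Set G)), IsMulCommutative B ∧
      (∀ a ∈ B, a ^ p = 1) ∧ ¬ Nat.card B ≤ p ^ 2 := by
    by_contra hno
    exact hr fun B h1 h2 => by
      by_contra h3
      exact hno ⟨B, h1, h2, h3⟩
  set B := B0.map (A ⊓ centralizer (A : Set G)).subtype with hBdef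
  have hBel : Cfsg.IsElementaryAbelian p B := by
    haveI := hBc
    refine ⟨inferInstance, ?_⟩
    rintro _ ⟨b, hb, rfl⟩
    rw [← map_pow, hBe b hb, map_one]
  have hBp : IsPGroup p B0 := fun b => ⟨1, by rw [pow_one]; exact Subtype.ext (by
    rw [SubmonoidClass.coe_pow, hBe b b.2, Subgroup.coe_one])⟩
  have hB3 : p ^ 3 ≤ Nat.card B := by
    rw [hBdef, Subgroup.card_map_of_injective (Subgroup.subtype_injective _)]
    obtain ⟨k, hk⟩ := IsPGroup.iff_card.mp hBp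
    rw [hk] at hB ⊢
    refine Nat.pow_le_pow_right hp.pos ?_
    by_contra hlt
    exact hB (Nat.pow_le_pow_right hp.pos (by omega))
  have hBA : B ≤ A := (map_subtype_le _).trans inf_le_left
  have hBC : B ≤ centralizer (A : Set G) := (map_subtype_le _).trans inf_le_right
  have hB1 : B ≠ ⊥ := Grp.ne_bot_of_card (by norm_num) hB3
  intro Q₁ h₁ Q₂ h₂
  have m₁ := Transfer.Transitivity.mem_inv_iff.mp h₁.1
  have m₂ := Transfer.Transitivity.mem_inv_iff.mp h₂.1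
  by_cases hQ₁ : Q₁ = ⊥
  · refine ⟨1, one_mem _, ?_⟩
    rw [h₁.2 Q₂ h₂.1 (hQ₁ ▸ bot_le), ← show Q₁ = Q₁.map (MulAut.conj (1 : G)).toMonoidHom by
      rw [map_one]; exact (Subgroup.map_id Q₁).symm]
  by_cases hQ₂ : Q₂ = ⊥
  · exact absurd ((h₂.2 Q₁ h₁.1 (hQ₂ ▸ bot_le)).trans hQ₂) hQ₁
  obtain ⟨D₁, hD₁, hi₁, hn₁⟩ := Transfer.TransHyp.exists_hyperplane hqA hBel hB1 hBA m₁.1 (hBA.trans m₁.2) hQ₁
  obtain ⟨D₂, hD₂, hi₂, hn₂⟩ := Transfer.TransHyp.exists_hyperplane hqA hBel hB1 hBA m₂.1 (hBA.trans m₂.2) hQ₂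
  obtain ⟨b, ⟨hb₁, hb₂⟩, hb⟩ := Grp.elemAb_exists_mem_inf hBel hB3 hD₁ hD₂ hi₁ hi₂
  obtain ⟨k, hk, e⟩ := Transfer.TransHyp.conj_of_meet hG hA hqA h₁ h₂
    (Transfer.TransHyp.centralizer_ne_top hG hb)
    (fun a ha => mem_centralizer_singleton_iff.mpr (mem_centralizer_iff.mp (hBC (hD₁ hb₁)) a ha))
    (ne_bot_of_le_ne_bot hn₁ (le_inf (inf_le_right.trans (centralizer_le (Set.singleton_subset_iff.mpr hb₁))) inf_le_left))
    (ne_bot_of_le_ne_bot hn₂ (le_inf (inf_le_right.trans (centralizer_le (Set.singleton_subset_iff.mpr hb₂))) inf_le_left))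
  exact ⟨k, hk, by rw [← e, ← Grp.map_conj_eq_smul]⟩

end Cfsg.Agent.S1393
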