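import Cfsg.Statements.S1395
import Cfsg.Agent.Lib.Transfer.TransHyp

set_option maxHeartbeats 1000000
set_option maxRecDepth 8000

set_option autoImplicit false
open Cfsg

namespace Cfsg.Agent.S1395

open Subgroup
open scoped commutatorElement Pointwise


/-- Let G be a minimal simple group of odd order, A a subgroup satisfying the transitivity hypothesis with K = O_{π(A)'}(C_G(A)), q a prime not dividing the order of A, and P a proper subgroup all of whose prime divisors divide the order of A, containing A as a subnormal subgroup, such that any two maximal A-invariant q-subgroups are conjugate under K. Then (a) K ∩ C_G(P) = O_{π(A)'}(C_G(P)); (b) any two maximal P-invariant q-subgroups are conjugate under O_{π(A)'}(C_G(P)); (c) every maximal P-invariant q-subgroup is a maximal A-invariant q-subgroup; (d) for every maximal P-invariant q-subgroup Q, P ∩ N_G(P)' ≤ N_G(Q)' and N_G(P) is generated by O_{π(A)'}(C_G(P)) and N_G(P)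 ∩ N_G(Q). -/
theorem result {G : Type*} [Group G] [Finite G] (hG : Cfsg.IsMinSimpleOddOrder G)
    (A : Subgroup G) (hA : Cfsg.TransitivityHypothesis A) (q : ℕ) (hq : q.Prime) (hqA : ¬ q ∣ Nat.card A)
    (P : Subgroup G) (hP : P ≠ ⊤) (hPπ : (∀ r : ℕ, r.Prime → r ∣ Nat.card P → r ∣ Nat.card A)) (hAP : A ≤ P) (hsn : (A.subgroupOf P).IsSubnormal)
    (htr : ∀ Q₁ ∈ Cfsg.maxInvSubgroups ⊤ A {q}, ∀ Q₂ ∈ Cfsg.maxInvSubgroups ⊤ A {q}, ∃ k ∈ Cfsg.piCoreOf (Cfsg.primesNotDvd (Nat.card A)) (Subgroup.centralizer (A : Set G)), Q₂ = Q₁.map (MulAut.conj k).toMonoidHom) :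
    Cfsg.piCoreOf (Cfsg.primesNotDvd (Nat.card A)) (Subgroup.centralizer (A : Set G)) ⊓ Subgroup.centralizer (P : Set G) = Cfsg.piCoreOf (Cfsg.primesNotDvd (Nat.card A)) (Subgroup.centralizer (P : Set G)) ∧
      (∀ Q₁ ∈ Cfsg.maxInvSubgroups ⊤ P {q}, ∀ Q₂ ∈ Cfsg.maxInvSubgroups ⊤ P {q}, ∃ k ∈ Cfsg.piCoreOf (Cfsg.primesNotDvd (Nat.card A)) (Subgroup.centralizer (P : Set G)), Q₂ = Q₁.map (MulAut.conj k).toMonoidHom) ∧
      Cfsg.maxInvSubgroups ⊤ P {q} ⊆ Cfsg.maxInvSubgroups ⊤ A {q} ∧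
      ∀ Q ∈ Cfsg.maxInvSubgroups ⊤ P {q},
        P ⊓ ⁅Subgroup.normalizer (P : Set G), Subgroup.normalizer (P : Set G)⁆ ≤ ⁅Subgroup.normalizer (Q : Set G), Subgroup.normalizer (Q : Set G)⁆ ∧
        Subgroup.normalizer (P : Set G) = Cfsg.piCoreOf (Cfsg.primesNotDvd (Nat.card A)) (Subgroup.centralizer (P : Set G)) ⊔ (Subgroup.normalizer (P : Set G) ⊓ Subgroup.normalizer (Q : Set G)) := by

  haveI := Fact.mk hq
  set π := Cfsg.primesNotDvd (Nat.card A) with hπ
  obtain ⟨hAP', hsub, htrP⟩ := Transfer.TransHyp.good_of_subnormal hG hA hqA (fun Q₁ h₁ Q₂ h₂ => by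
    obtain ⟨k, hk, e⟩ := htr Q₁ h₁ Q₂ h₂
    exact ⟨k, hk, by rw [e, Grp.map_conj_eq_smul]⟩) hP hPπ hAP hsn
  have hK := Transfer.TransHyp.K_inf_centralizer hG hA hAP
  refine ⟨hK, fun Q₁ h₁ Q₂ h₂ => ?_, hsub, fun Q hQ => ?_⟩
  · obtain ⟨k, hk, e⟩ := htrP Q₁ h₁ Q₂ h₂
    exact ⟨k, hK.le hk, by rw [← e, Grp.map_conj_eq_smul]⟩
  set N := normalizer (P : Set G) with hN
  set L := Cfsg.piCoreOf π (centralizer (P : Set G)) with hL
  set N0 := N ⊓ normalizer (Q : Set G) with hN0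
  have hLN : L ≤ N := (Transfer.TransHyp.piCoreOf_le _).trans (centralizer_le_normalizer _)
  have mQ := Transfer.Transitivity.mem_inv_iff.mp hQ.1
  have hPN0 : P ≤ N0 := le_inf le_normalizer mQ.2
  have hNC : N ≤ normalizer (centralizer (P : Set G) : Set G) := by
    have hconj : ∀ n ∈ N, ∀ c ∈ centralizer (P : Set G), n * c * n⁻¹ ∈ centralizer (P : Set G) := by
      intro n hn c hc
      refine mem_centralizer_iff.mpr fun x hx => ?_
      have := mem_centralizer_iff.mp hc _ (Grp.mem_conj_normalizer' hn hx)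
      calc x * (n * c * n⁻¹) = n * ((n⁻¹ * x * n) * c) * n⁻¹ := by group
        _ = n * (c * (n⁻¹ * x * n)) * n⁻¹ := by rw [this]
        _ = _ := by group
    intro n hn
    refine Subgroup.mem_normalizer_iff.mpr fun c => ⟨hconj n hn c, fun hc => ?_⟩
    simpa [mul_assoc] using hconj n⁻¹ (inv_mem hn) _ hc
  have hNL : N ≤ normalizer (L : Set G) := hNC.trans (Transfer.TransHyp.normalizer_le_piCoreOf _)
  have hgen : N = L ⊔ N0 := by
    refine le_antisymm (fun n hn => ?_) (sup_le hLN inf_le_left)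
    have hnQ : MulAut.conj n • Q ∈ Cfsg.maxInvSubgroups ⊤ P ({q} : Set ℕ) := by
      have hinv : ∀ c ∈ N, ∀ U ∈ Cfsg.invSubgroups ⊤ P ({q} : Set ℕ),
          MulAut.conj c • U ∈ Cfsg.invSubgroups ⊤ P ({q} : Set ℕ) := by
        intro c hc U hU
        rw [Transfer.Transitivity.mem_inv_iff] at hU ⊢
        refine ⟨by rw [← Grp.map_conj_eq_smul]; exact hU.1.map _, fun b hb => ?_⟩
        have := Grp.mem_normalizer_iff_smul.mp (hU.2 (Grp.mem_conj_normalizer' hc hb))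
        rw [Grp.mem_normalizer_iff_smul, Grp.conj_smul_conj_smul]
        conv_rhs => rw [← this, Grp.conj_smul_conj_smul]
        congr 2; group
      refine ⟨hinv n hn Q hQ.1, fun R hR hle => ?_⟩
      have hle' : Q ≤ MulAut.conj n⁻¹ • R := by
        have := Subgroup.pointwise_smul_le_pointwise_smul_iff (a := MulAut.conj n⁻¹) |>.mpr hle
        rwa [Grp.conj_smul_conj_smul, inv_mul_cancel, map_one, one_smul] at this
      rw [← hQ.2 _ (hinv n⁻¹ (inv_mem hn) R hR) hle', Grp.conj_smul_conj_smul, mul_inv_cancel, map_one, one_smul]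
    obtain ⟨k, hk, e⟩ := htrP Q hQ _ hnQ
    have hkL : k ∈ L := hK.le hk
    have hm : k⁻¹ * n ∈ N0 := by
      refine ⟨N.mul_mem (N.inv_mem (hLN hkL)) hn, Grp.mem_normalizer_iff_smul.mpr ?_⟩
      rw [← Grp.conj_smul_conj_smul, ← e, Grp.conj_smul_conj_smul, inv_mul_cancel, map_one, one_smul]
    have := Subgroup.mul_mem_sup hkL hm
    rwa [mul_inv_cancel_left] at this
  refine ⟨?_, hgen⟩
  haveI : (L.subgroupOf N).Normal := normal_subgroupOf_of_le_normalizer hNL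
  have hcomm : ⁅N, N⁆ ≤ L ⊔ ⁅N0, N0⁆ := by
    -- modulo `L` the subgroup `N0` covers `N`
    rw [commutator_le]
    intro a ha b hb
    let f := QuotientGroup.mk' (L.subgroupOf N)
    have hsur : ∀ n : N, ∃ m : N, (m : G) ∈ N0 ∧ f m = f n := by
      intro n
      have : (n : G) ∈ L ⊔ N0 := hgen ▸ n.2
      rw [← SetLike.mem_coe, Subgroup.coe_mul_of_right_le_normalizer_left _ _ (inf_le_left.trans hNL)] at this
      obtain ⟨l, hl, m, hm, e⟩ := this
      refine ⟨⟨m, hm.1⟩, hm, ?_⟩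
      have hn : n = ⟨l, hLN hl⟩ * ⟨m, hm.1⟩ := Subtype.ext e.symm
      rw [hn, map_mul, show f ⟨l, hLN hl⟩ = 1 from (QuotientGroup.eq_one_iff _).mpr hl, one_mul]
    obtain ⟨a', ha', ea⟩ := hsur ⟨a, ha⟩
    obtain ⟨b', hb', eb⟩ := hsur ⟨b, hb⟩
    have h1 : f ⁅(⟨a, ha⟩ : N), ⟨b, hb⟩⁆ = f ⁅a', b'⁆ := by rw [map_commutatorElement, map_commutatorElement, ea, eb]
    have h2 := QuotientGroup.eq.mp h1.symm
    rw [mem_subgroupOf] at h2
    have h3 : ⁅(a' : G), (b' : G)⁆ ∈ ⁅N0, N0⁆ := commutator_mem_commutator ha' hb'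
    have h4 := (L ⊔ ⁅N0, N0⁆).mul_mem (mem_sup_right h3) (mem_sup_left h2)
    simpa [commutatorElement_def, mul_assoc] using h4
  rintro x ⟨hxP, hxN⟩
  have hD : ⁅N0, N0⁆ ≤ normalizer (L : Set G) := (Grp.commutator_le_left_of_le_normalizer le_normalizer).trans (inf_le_left.trans hNL)
  have hx := hcomm hxN
  rw [← SetLike.mem_coe, Subgroup.coe_mul_of_right_le_normalizer_left _ _ hD] at hx
  obtain ⟨l, hl, d, hd, rfl⟩ := hx
  have hd0 : d ∈ N0 := (Grp.commutator_le_left_of_le_normalizer le_normalizer) hd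
  have hl0 : l ∈ N0 := by
    have := N0.mul_mem (hPN0 hxP) (N0.inv_mem hd0)
    rwa [mul_inv_cancel_right] at this
  haveI : (⁅N0, N0⁆.subgroupOf N0).Normal := normal_subgroupOf_of_le_normalizer (Grp.left_le_normalizer_commutator N0 N0)
  let f := QuotientGroup.mk' (⁅N0, N0⁆.subgroupOf N0)
  have hd1 : f ⟨d, hd0⟩ = 1 := (QuotientGroup.eq_one_iff _).mpr hd
  have he : f ⟨l * d, hPN0 hxP⟩ = f ⟨l, hl0⟩ := by
    rw [show (⟨l * d, hPN0 hxP⟩ : N0) = ⟨l, hl0⟩ * ⟨d, hd0⟩ from rfl, map_mul, hd1, mul_one]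
  have h1 : orderOf (f ⟨l * d, hPN0 hxP⟩) = 1 := by
    refine Nat.eq_one_of_dvd_coprimes (Transfer.TransHyp.coprime_of_pi
      (fun r hr hd => Transfer.TransHyp.piCoreOf_primes hr hd) hPπ : (Nat.card P).Coprime (Nat.card L)) ?_ ?_
    · refine (orderOf_map_dvd f _).trans ?_
      rw [Subgroup.orderOf_mk]; exact Subgroup.orderOf_dvd_natCard _ hxP
    · rw [he]
      refine (orderOf_map_dvd f _).trans ?_
      rw [Subgroup.orderOf_mk]; exact Subgroup.orderOf_dvd_natCard _ hl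
  have h2 : (⟨l * d, hPN0 hxP⟩ : N0) ∈ ⁅N0, N0⁆.subgroupOf N0 :=
    (QuotientGroup.eq_one_iff _).mp (orderOf_eq_one_iff.mp h1)
  exact (commutator_mono inf_le_right inf_le_right) h2

end Cfsg.Agent.S1395
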