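import Cfsg.Statements.S1396
import Mathlib
import Cfsg.Agent.Lib.Transfer.TransHyp
import Cfsg.Agent.Lib.Fus.TransitivityOdd
import Cfsg.Agent.Lib.Transfer.PLengthOne
import Cfsg.Agent.Lib.Transfer.OmegaFixed
import Cfsg.Agent.Lib.Transfer.FixedPointLemma

set_option maxHeartbeats 1000000
set_option maxRecDepth 8000

set_option autoImplicit false
open Cfsg

namespace Cfsg.Agent.S1396

open Subgroup
open scoped Pointwise
open Cfsg.Agent.Grp (pPrimeCore_isNormal pCore_isNormal pCore_isPGroup pPrimeCore_coprime pCore_le_sylow)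

universe u

/-- In a group of `p`-length one, a `p'`-subgroup invariant under an elementary `A` containing all elements
of order `p` of its centraliser lies in the `p'`-core. -/
theorem core_case_one {p : ℕ} [hp : Fact p.Prime] (hp2 : p ≠ 2) {H : Type u} [Group H] [Finite H]
    (h : Cfsg.PLengthLE p 1 H) (A : Subgroup H) (hA : IsPGroup p A)
    (hfull : ∀ x ∈ centralizer (A : Set H), x ^ p = 1 → x ∈ A) (Y : Subgroup H)
    (hY : (Nat.card Y).Coprime p) (hAY : A ≤ normalizer (Y : Set H)) : Y ≤ Cfsg.pPrimeCore p H := by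
  set O := Cfsg.pPrimeCore p H
  haveI : O.Normal := pPrimeCore_isNormal
  set f := QuotientGroup.mk' O with hf
  have hfs : Function.Surjective f := QuotientGroup.mk'_surjective _
  set R := Cfsg.pCore p (H ⧸ O) with hR
  have hRn : R.Normal := pCore_isNormal
  have hRp : IsPGroup p R := pCore_isPGroup
  have hall : ∀ K : Subgroup (H ⧸ O), IsPGroup p K → K ≤ R := by
    intro K hK
    obtain ⟨T, hT⟩ := hK.exists_le_sylow
    let Rs : Sylow p (H ⧸ O) := IsPGroup.toSylow hRp (Transfer.PLengthOne.index_pCore h)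
    exact hT.trans (Rs.3 T.2 (pCore_le_sylow T)).le
  set A' := A.map f
  set Y' := Y.map f with hY'def
  have hA' : IsPGroup p A' := hA.map f
  have hY' : (Nat.card Y').Coprime p := hY.coprime_dvd_left (Subgroup.card_map_dvd _ f)
  have hAY' : A' ≤ normalizer (Y' : Set (H ⧸ O)) :=
    (Subgroup.map_mono hAY).trans (Subgroup.le_normalizer_map f)
  have hRN : ∀ K : Subgroup (H ⧸ O), K ≤ normalizer (R : Set (H ⧸ O)) := fun K => by
    rw [Subgroup.normalizer_eq_top]; exact le_top
  have hdisj : Y' ⊓ R = ⊥ := Cfsg.Agent.Grp.inf_eq_bot_of_coprime (by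
    obtain ⟨m, hm⟩ := IsPGroup.iff_card.mp hRp
    rw [hm]; exact hY'.pow_right m)
  have hYC : Y' ≤ centralizer (A' : Set (H ⧸ O)) := fun y hy => mem_centralizer_iff.2 fun a ha => by
    have h1 : a * y * a⁻¹ * y⁻¹ ∈ Y' ⊓ R := by
      refine ⟨Y'.mul_mem ((Subgroup.mem_normalizer_iff.mp (hAY' ha) y).mp hy) (Y'.inv_mem hy), ?_⟩
      rw [show a * y * a⁻¹ * y⁻¹ = a * (y * a⁻¹ * y⁻¹) by group]
      exact R.mul_mem (hall A' hA' ha) (hRn.conj_mem _ (R.inv_mem (hall A' hA' ha)) _)
    rw [hdisj, Subgroup.mem_bot, mul_inv_eq_one, mul_inv_eq_iff_eq_mul] at h1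
    exact h1
  set W := R ⊓ centralizer (A' : Set (H ⧸ O)) with hW
  have homega : ∀ z ∈ W, z ^ p = 1 → z ∈ A' := by
    rintro z ⟨hzR, hzC⟩ hzp
    have hz : z ∈ (centralizer (A : Set H)).map f := by
      rw [Cfsg.Agent.Grp.map_centralizer_pGroup hA]; exact hzC
    obtain ⟨c, hc, rfl⟩ := hz
    obtain ⟨k, m, hm, hkm⟩ := Nat.exists_eq_pow_mul_and_not_dvd (orderOf_pos c).ne' p hp.out.ne_one
    have hcm : c ^ m ∈ A := by
      refine hfull _ (pow_mem hc m) ?_
      have h1 : (c ^ m) ^ p ∈ O := by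
        rw [← QuotientGroup.eq_one_iff, QuotientGroup.mk_pow, QuotientGroup.mk_pow, ← pow_mul,
          mul_comm, pow_mul]
        show (f c ^ p) ^ m = 1
        rw [hzp, one_pow]
      have h2 : orderOf ((c ^ m) ^ p) ∣ Nat.card O := Subgroup.orderOf_dvd_natCard O h1
      have h3 : orderOf ((c ^ m) ^ p) ∣ p ^ k := by
        refine orderOf_dvd_of_pow_eq_one ?_
        rw [← pow_mul, ← pow_mul, show m * (p * p ^ k) = (p ^ k * m) * p by ring, pow_mul, ← hkm,
          pow_orderOf_eq_one, one_pow]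
      exact orderOf_eq_one_iff.1 (Nat.eq_one_of_dvd_coprimes ((pPrimeCore_coprime).pow_right k) h2 h3)
    refine Transfer.mem_of_pow_mem (n := m) ⟨c ^ m, hcm, map_pow f c m⟩ ?_
    exact Nat.Coprime.coprime_dvd_left (orderOf_dvd_of_pow_eq_one hzp) (hp.out.coprime_iff_not_dvd.mpr hm)
  have hWC : W ≤ centralizer (Y' : Set (H ⧸ O)) := by
    intro z hz
    refine mem_centralizer_iff.2 fun y hy => ?_
    have hyN : y ∈ normalizer (W : Set (H ⧸ O)) :=
      Cfsg.Agent.Grp.le_normalizer_inf' (hRN Y') (hYC.trans le_normalizer) hy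
    have ha : W.normalizerMonoidHom ⟨y, hyN⟩ = 1 := by
      refine Transfer.aut_eq_one_of_fix_omega hp2 (hRp.to_le inf_le_left) ?_ fun x hx => ?_
      · refine hY'.coprime_dvd_left ((orderOf_map_dvd _ _).trans ?_)
        rw [← Subgroup.orderOf_coe]
        exact Subgroup.orderOf_dvd_natCard Y' hy
      · refine Subtype.ext ?_
        show y * (x : H ⧸ O) * y⁻¹ = x
        have hxA := homega _ x.2 (by rw [← Subgroup.coe_pow, hx, Subgroup.coe_one])
        rw [← mem_centralizer_iff.1 (hYC hy) _ hxA, mul_inv_cancel_right]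
    have h1 := congrArg (fun a : MulAut W => ((a ⟨z, hz⟩ : W) : H ⧸ O)) ha
    exact mul_inv_eq_iff_eq_mul.1 h1
  have h1 : Y' ≤ centralizer (R : Set (H ⧸ O)) :=
    Transfer.FixedPointLemma.odd_case hp2 A' Y' hA' hY' hAY' R hRp (hRN _) (hRN _) hWC
  have h2 : Y' = ⊥ := by
    rw [← hdisj, eq_comm, inf_eq_left]
    exact h1.trans (Transfer.PLengthOne.centralizer_pCore_le h)
  intro y hy
  have : f y ∈ Y' := mem_map_of_mem f hy
  rw [h2, mem_bot] at this
  exact (QuotientGroup.eq_one_iff y).1 this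

/-- Let G be a minimal simple group of odd order, p a prime dividing the order of G and A an abelian p-subgroup. Suppose either (1) A consists exactly of the elements x of C_G(A) with x^p = 1, and every proper subgroup of G has p-length at most one, or (2) A is normal and self-centralizing in some Sylow p-subgroup of G and has rank at least 2. Then A satisfies the transitivity hypothesis. -/
theorem result {G : Type*} [Group G] [Finite G] (hG : Cfsg.IsMinSimpleOddOrder G)
    (p : ℕ) [Fact p.Prime] (hp : p ∣ Nat.card G) (A : Subgroup G) (hAp : IsPGroup p A) (hAc : IsMulCommutative A)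
    (h : (∀ x ∈ Subgroup.centralizer (A : Set G), x ^ p = 1 ↔ x ∈ A) ∧ (∀ H : Subgroup G, H ≠ ⊤ → Cfsg.PLengthLE p 1 H) ∨
      ∃ P : Sylow p G, Cfsg.IsSCN (P : Subgroup G) A ∧ ¬ Cfsg.PRankLE p 1 A) :
    Cfsg.TransitivityHypothesis A := by

  haveI := hG.2.1
  have hp2 : p ≠ 2 := by
    rintro rfl
    exact (Nat.not_even_iff_odd.2 hG.1) (even_iff_two_dvd.2 hp)
  have hcomm : ∀ a ∈ A, ∀ b ∈ A, a * b = b * a := fun a ha b hb =>
    congrArg Subtype.val (hAc.is_comm.comm ⟨a, ha⟩ ⟨b, hb⟩)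
  have hA1 : A ≠ ⊥ := by
    rcases h with ⟨h1, -⟩ | ⟨P, -, hr⟩
    · rintro rfl
      obtain ⟨x, hx⟩ := exists_prime_orderOf_dvd_card' p hp
      have h2 := (h1 x (mem_centralizer_iff.2 fun y hy => by
        rw [mem_bot.1 hy, one_mul, mul_one])).1 (by rw [← hx]; exact pow_orderOf_eq_one x)
      rw [mem_bot.1 h2, orderOf_one] at hx
      exact (Fact.out : p.Prime).ne_one hx.symm
    · rintro rfl
      refine hr fun B _ _ => ?_
      calc Nat.card B ≤ Nat.card (⊥ : Subgroup G) := Subgroup.card_le_card_group B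
        _ ≤ p ^ 1 := by rw [Subgroup.card_bot]; exact Nat.one_le_pow _ _ (Fact.out : p.Prime).pos
  have hA2 : A ≠ ⊤ := fun e => hG.2.2.1 ⟨⟨fun a b => hcomm a (e ▸ mem_top a) b (e ▸ mem_top b)⟩⟩
  have hπ : ∀ r : ℕ, r.Prime → (r ∈ Cfsg.primesNotDvd (Nat.card A) ↔ r ≠ p) := by
    intro r hr
    obtain ⟨n, hn⟩ := IsPGroup.iff_card.1 hAp
    refine ⟨?_, fun hne => ⟨hr, fun hd => hne ?_⟩⟩
    · rintro ⟨-, hd⟩ rfl
      rcases Nat.eq_zero_or_pos n with rfl | hn0
      · exact hA1 (Subgroup.card_eq_one.1 (by simpa using hn))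
      · exact hd (hn ▸ dvd_pow_self r hn0.ne')
    · rw [hn] at hd
      exact (Nat.prime_dvd_prime_iff_eq hr Fact.out).1 (hr.dvd_of_dvd_pow hd)
  refine ⟨hA1, hA2, fun X hX hAX => le_antisymm (sSup_le ?_) (le_sSup ⟨Transfer.TransHyp.piCoreOf_le X,
    fun r hr hd => Transfer.TransHyp.piCoreOf_primes hr hd, hAX.trans (Transfer.TransHyp.le_normalizer_piCoreOf X)⟩)⟩
  rintro Y ⟨hYX, hYπ, hAY⟩
  haveI hs : Group.IsSolvable X := hG.2.2.2 X hX
  haveI : (Cfsg.pPrimeCore p X).Normal := pPrimeCore_isNormal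
  set O := (Cfsg.pPrimeCore p X).map X.subtype with hO
  have hOle : O ≤ Cfsg.piCoreOf (Cfsg.primesNotDvd (Nat.card A)) X := by
    refine Transfer.TransHyp.le_piCoreOf (Subgroup.map_subtype_le _) ?_ fun r hr hd => (hπ r hr).2 ?_
    · rw [← normal_subgroupOf_iff_le_normalizer (Subgroup.map_subtype_le _)]
      rw [subgroupOf, comap_map_eq_self_of_injective X.subtype_injective]
      infer_instance
    · rintro rfl
      rw [hO, card_map_of_injective X.subtype_injective] at hd
      exact hr.ne_one (Nat.eq_one_of_dvd_coprimes (pPrimeCore_coprime (p := r) (G := X)) hd dvd_rfl)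
  refine le_trans ?_ hOle
  rw [hO, ← map_subgroupOf_eq_of_le hYX]
  refine map_mono ?_
  have hYc : (Nat.card (Y.subgroupOf X)).Coprime p := by
    rw [Nat.card_congr (subgroupOfEquivOfLe hYX).toEquiv]
    exact Nat.coprime_of_dvd fun r hr h1 h2 =>
      (hπ r hr).1 (hYπ r hr h1) ((Nat.prime_dvd_prime_iff_eq hr Fact.out).1 h2)
  have hAY' : A.subgroupOf X ≤ normalizer (Y.subgroupOf X : Set X) := by
    intro a ha
    refine Subgroup.mem_normalizer_iff.2 fun y => ?_
    have := Subgroup.mem_normalizer_iff.1 (hAY ha) (y : G)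
    simpa [mem_subgroupOf] using this
  have hAX' : IsPGroup p (A.subgroupOf X) := hAp.of_equiv (subgroupOfEquivOfLe hAX).symm
  have hcen : ∀ x ∈ centralizer ((A.subgroupOf X : Subgroup X) : Set X), (x : G) ∈ centralizer (A : Set G) :=
    fun x hx => mem_centralizer_iff.2 fun a ha => congrArg Subtype.val
      (mem_centralizer_iff.1 hx ⟨a, hAX ha⟩ ha)
  rcases h with ⟨h1, h2⟩ | ⟨P, ⟨hAP, hPN, hPC⟩, -⟩
  · exact core_case_one hp2 (h2 X hX) _ hAX' (fun x hx hxp =>
      (h1 x (hcen x hx)).1 (by rw [← Subgroup.coe_pow, hxp, Subgroup.coe_one])) _ hYc hAY'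
  · refine Transfer.Transitivity.le_pPrimeCore_of_invariant (Fus.TransOdd.isPConstrained_of_solvable hs) _
      hAX' (fun a ha b hb => Subtype.ext (hcomm a ha b hb)) (fun x hx hxp => ?_)
      (fun e => absurd e hp2) _ hYc hAY'
    refine Fus.TransOdd.mem_of_centralizes P hAP (fun y hy b hb => (Subgroup.mem_normalizer_iff.1 (hPN hy) b).1 hb)
      hPC (hcen x hx) ?_
    have := hxp.map X.subtype
    rwa [MonoidHom.map_zpowers] at this

end Cfsg.Agent.S1396
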