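import Cfsg.Statements.S1463
import Mathlib

set_option maxHeartbeats 1000000
set_option maxRecDepth 8000

set_option autoImplicit false
open scoped MatrixGroups
open Cfsg

namespace Cfsg.Agent.S1463

theorem m2ext {F : Type*} {X Y : Matrix (Fin 2) (Fin 2) F} (h00 : X 0 0 = Y 0 0) (h01 : X 0 1 = Y 0 1)
    (h10 : X 1 0 = Y 1 0) (h11 : X 1 1 = Y 1 1) : X = Y := by
  ext i j; fin_cases i <;> fin_cases j <;> assumption

/-- A two by two matrix commuting with a nonscalar matrix is a linear polynomial in it. -/
theorem exists_lin {F : Type*} [Field F] (x y : Matrix (Fin 2) (Fin 2) F) (hx : ¬ ∀ X, Commute x X)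
    (h : Commute y x) : ∃ a b : F, y = a • 1 + b • x := by
  have h00 := congrFun (congrFun h.eq 0) 0
  have h01 := congrFun (congrFun h.eq 0) 1
  have h10 := congrFun (congrFun h.eq 1) 0
  simp [Matrix.mul_apply, Fin.sum_univ_two] at h00 h01 h10
  by_cases e01 : x 0 1 = 0
  · by_cases e10 : x 1 0 = 0
    · have ed : x 0 0 - x 1 1 ≠ 0 := fun e => hx fun X => by
        refine m2ext ?_ ?_ ?_ ?_ <;> simp [Matrix.mul_apply, Fin.sum_univ_two, e01, e10, sub_eq_zero.1 e] <;> ring
      have y01 : y 0 1 = 0 := by
        rcases mul_eq_zero.1 (show (x 0 0 - x 1 1) * y 0 1 = 0 by rw [e01] at h01; linear_combination -h01) with h | h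
        exacts [absurd h ed, h]
      have y10 : y 1 0 = 0 := by
        rcases mul_eq_zero.1 (show (x 0 0 - x 1 1) * y 1 0 = 0 by rw [e10] at h10; linear_combination h10) with h | h
        exacts [absurd h ed, h]
      refine ⟨y 0 0 - (y 0 0 - y 1 1) / (x 0 0 - x 1 1) * x 0 0, (y 0 0 - y 1 1) / (x 0 0 - x 1 1), ?_⟩
      refine m2ext ?_ ?_ ?_ ?_ <;> simp [e01, e10, y01, y10]
      field_simp
      ring
    · refine ⟨y 0 0 - y 1 0 / x 1 0 * x 0 0, y 1 0 / x 1 0, ?_⟩
      have y01 : y 0 1 = 0 := by
        rcases mul_eq_zero.1 (show x 1 0 * y 0 1 = 0 by rw [e01] at h00; linear_combination h00) with h | h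
        exacts [absurd h e10, h]
      refine m2ext ?_ ?_ ?_ ?_ <;> simp [e01, y01, e10]
      field_simp
      linear_combination h10
  · refine ⟨y 0 0 - y 0 1 / x 0 1 * x 0 0, y 0 1 / x 0 1, ?_⟩
    refine m2ext ?_ ?_ ?_ ?_ <;> simp [e01]
    · field_simp
      linear_combination -h00
    · field_simp
      linear_combination -h01

theorem lin_unique {F : Type*} [Field F] {x : Matrix (Fin 2) (Fin 2) F} (hx : ¬ ∀ X, Commute x X) {a b a' b' : F}
    (h : a • (1 : Matrix (Fin 2) (Fin 2) F) + b • x = a' • 1 + b' • x) : a = a' ∧ b = b' := by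
  have h1 : (b - b') • x = (a' - a) • (1 : Matrix (Fin 2) (Fin 2) F) := by
    rw [sub_smul, sub_smul, sub_eq_sub_iff_add_eq_add, add_comm, h, add_comm]
  by_cases hb : b = b'
  · refine ⟨?_, hb⟩
    rw [hb, sub_self, zero_smul] at h1
    have := congrFun (congrFun h1 0) 0
    simp at this
    linear_combination this
  · refine absurd (fun X => ?_) hx
    have h2 : x = ((b - b')⁻¹ * (a' - a)) • 1 := by rw [mul_smul, ← h1, inv_smul_smul₀ (sub_ne_zero.2 hb)]
    rw [h2]
    exact (Commute.one_left X).smul_left _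

/-- The discriminant. -/
def disc {F : Type*} [Field F] (x : Matrix (Fin 2) (Fin 2) F) : F := (x 0 0 - x 1 1) ^ 2 + 4 * x 0 1 * x 1 0

theorem disc_eq {F : Type*} [Field F] (x : Matrix (Fin 2) (Fin 2) F) : disc x = x.trace ^ 2 - 4 * x.det := by
  rw [disc, Matrix.trace_fin_two, Matrix.det_fin_two]; ring

theorem count_cell {G : Type*} [Group G] [Finite G] (Z C : Subgroup G) (hZC : Z ≤ C) (hZn : Z.Normal)
    (hTI : ∀ g : G, ∀ w ∈ C, w ∉ Z → g * w * g⁻¹ ∈ C → g ∈ Subgroup.normalizer (C : Set G)) :
    Nat.card {w : G // w ∉ Z ∧ ∃ g : G, g * w * g⁻¹ ∈ C} * Nat.card (Subgroup.normalizer (C : Set G)) =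
      Nat.card G * (Nat.card C - Nat.card Z) := by
  classical
  have := Fintype.ofFinite G
  set N := Subgroup.normalizer (C : Set G)
  let S := {w : G // w ∈ C ∧ w ∉ Z}
  let T := {w : G // w ∉ Z ∧ ∃ g : G, g * w * g⁻¹ ∈ C}
  let f : S × G → T := fun sg => ⟨sg.2⁻¹ * sg.1.1 * sg.2, fun h => sg.1.2.2 (by
      have := hZn.conj_mem _ h sg.2
      simpa [mul_assoc] using this), sg.2, by simpa [mul_assoc] using sg.1.2.1⟩
  have hfib : ∀ t : T, Nat.card {sg : S × G // f sg = t} = Nat.card N := by
    intro t
    obtain ⟨g₀, hg₀⟩ := t.2.2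
    have hg0Z : g₀ * t.1 * g₀⁻¹ ∉ Z := fun h => t.2.1 (by
      have := hZn.conj_mem _ h g₀⁻¹
      simpa [mul_assoc] using this)
    refine Nat.card_congr
      { toFun := fun sg => ⟨sg.1.2 * g₀⁻¹, ?_⟩
        invFun := fun n => ⟨(⟨n.1 * (g₀ * t.1 * g₀⁻¹) * n.1⁻¹, (Subgroup.mem_normalizer_iff.1 n.2 _).1 hg₀, fun h => hg0Z (by
            have := hZn.conj_mem _ h n.1⁻¹
            simpa [mul_assoc] using this)⟩, n.1 * g₀), Subtype.ext (by simp [f, mul_assoc])⟩
        left_inv := fun sg => by
          obtain ⟨⟨⟨s, hs⟩, g⟩, h⟩ := sg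
          have h' : g⁻¹ * s * g = t.1 := congrArg Subtype.val h
          refine Subtype.ext (Prod.ext (Subtype.ext ?_) ?_)
          · show g * g₀⁻¹ * (g₀ * t.1 * g₀⁻¹) * (g * g₀⁻¹)⁻¹ = s
            rw [← h']; group
          · show g * g₀⁻¹ * g₀ = g
            group
        right_inv := fun n => Subtype.ext (by show n.1 * g₀ * g₀⁻¹ = n.1; group) }
    obtain ⟨⟨⟨s, hs⟩, g⟩, h⟩ := sg
    have h' : g⁻¹ * s * g = t.1 := congrArg Subtype.val h
    refine hTI _ _ hg₀ hg0Z ?_
    rw [show g * g₀⁻¹ * (g₀ * t.1 * g₀⁻¹) * (g * g₀⁻¹)⁻¹ = g * t.1 * g⁻¹ by group, ← h']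
    simpa [mul_assoc] using hs.1
  have h1 : Nat.card (S × G) = Nat.card T * Nat.card N := by
    rw [← Nat.card_congr (Equiv.sigmaFiberEquiv f), Nat.card_sigma, Finset.sum_congr rfl fun t _ => hfib t,
      Finset.sum_const, Finset.card_univ, smul_eq_mul, Nat.card_eq_fintype_card (α := T)]
  have h2 : Nat.card S + Nat.card Z = Nat.card C := by
    rw [← Nat.card_sum]
    refine Nat.card_congr
      { toFun := Sum.elim (fun s => ⟨s.1, s.2.1⟩) (fun z => ⟨z.1, hZC z.2⟩)
        invFun := fun c => if h : c.1 ∈ Z then Sum.inr ⟨c.1, h⟩ else Sum.inl ⟨c.1, c.2, h⟩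
        left_inv := ?_, right_inv := fun c => by by_cases h : c.1 ∈ Z <;> simp [h] }
    rintro (s | z)
    · simp [s.2.2]
    · simp [z.2]
  rw [← h1, Nat.card_prod, mul_comm, ← h2, Nat.add_sub_cancel]

/-- Let F be a field of odd characteristic p and H a finite subgroup of odd order of GL(2, F) that leaves no 1-dimensional subspace of F² invariant. Then p does not divide the order of H. -/
theorem result {F : Type*} [Field F] (p : ℕ) [Fact p.Prime] [CharP F p] (hp : p ≠ 2)
    (H : Subgroup (GL (Fin 2) F)) [Finite H] (hodd : Odd (Nat.card H))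
    (hirr : ∀ v : Fin 2 → F, v ≠ 0 → ∃ g ∈ H, (g : Matrix (Fin 2) (Fin 2) F).mulVec v ∉ Submodule.span F {v}) :
    ¬ p ∣ Nat.card H := by

  classical
  intro hdiv
  have : Fintype H := Fintype.ofFinite H
  let v : H → (Matrix (Fin 2) (Fin 2) F) := fun h => ((h : GL (Fin 2) F) : (Matrix (Fin 2) (Fin 2) F))
  have vmul : ∀ a b, v (a * b) = v a * v b := fun a b => rfl
  have vinj : Function.Injective v := fun a b h => Subtype.ext (Units.ext h)
  have hcomm : ∀ a b : H, Commute (v a) (v b) ↔ Commute a b := fun a b => ⟨fun h => vinj h, fun h => congrArg v h.eq⟩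
  let Z : Subgroup H :=
    { carrier := {h | ∀ X : (Matrix (Fin 2) (Fin 2) F), Commute (v h) X}
      one_mem' := fun X => Commute.one_left X
      mul_mem' := fun {a b} ha hb X => (ha X).mul_left (hb X)
      inv_mem' := fun {a} ha X => Commute.units_inv_left (u := (a : GL (Fin 2) F)) (ha X) }
  have hZc : ∀ z ∈ Z, ∀ h : H, Commute z h := fun z hz h => (hcomm z h).1 (hz _)
  have hZn : Z.Normal := ⟨fun z hz h => by rw [← (hZc z hz h).eq, mul_inv_cancel_right]; exact hz⟩
  let C : H → Subgroup H := fun x => Subgroup.centralizer ({x} : Set H)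
  have hC : ∀ x y : H, y ∈ C x ↔ Commute y x := fun x y => Subgroup.mem_centralizer_singleton_iff
  have hZC : ∀ x, Z ≤ C x := fun x z hz => (hC x z).2 (hZc z hz x)
  have hlin : ∀ x y : H, x ∉ Z → y ∈ C x → ∃ a b : F, v y = a • 1 + b • v x := fun x y hx hy =>
    exists_lin _ _ hx ((hcomm y x).2 ((hC x y).1 hy))
  have hCeq : ∀ x w : H, x ∉ Z → w ∉ Z → w ∈ C x → C w = C x := by
    have hsub : ∀ x w : H, x ∉ Z → w ∈ C x → C x ≤ C w := fun x w hx hw y hy => by
      obtain ⟨a, b, hab⟩ := hlin x y hx hy
      refine (hC w y).2 ((hcomm y w).1 ?_)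
      rw [hab]
      exact ((Commute.one_left _).smul_left a).add_left (((hcomm x w).2 ((hC x w).1 hw).symm).smul_left b)
    intro x w hx hw hwx
    exact le_antisymm (hsub w x hw ((hC w x).2 ((hC x w).1 hwx).symm)) (hsub x w hx hwx)
  set z := Nat.card Z with hz
  set g := Nat.card H with hg
  let cell : H → Finset H := fun x => Finset.univ.filter fun w => w ∉ Z ∧ ∃ k : H, k * w * k⁻¹ ∈ C x
  have hcell : ∀ x, x ∉ Z → (cell x).card * Nat.card (Subgroup.normalizer (C x : Set H)) = g * (Nat.card (C x) - z) := by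
    intro x hx
    rw [hg, ← count_cell Z (C x) (hZC x) hZn ?_]
    · congr 1
      rw [Nat.card_eq_fintype_card, Fintype.card_subtype]
    · intro k w hw hwZ hkw
      refine Subgroup.mem_normalizer_fintype fun y hy => ?_
      rw [SetLike.mem_coe] at hy ⊢
      rw [← hCeq x w hx hwZ hw, hC] at hy
      rw [← hCeq x (k * w * k⁻¹) hx (fun h => hwZ (by simpa [mul_assoc] using hZn.conj_mem _ h k⁻¹)) hkw, hC]
      exact hy.conj k
  have hdvd : ∀ K L : Subgroup H, K ≤ L → K ≠ L → 3 * Nat.card K ≤ Nat.card L := by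
    intro K L hKL hne
    obtain ⟨k, hk⟩ := Subgroup.card_dvd_of_le hKL
    have hLodd : Odd (Nat.card L) := hodd.of_dvd_nat (Subgroup.card_subgroup_dvd_card L)
    rw [hk, Nat.odd_mul] at hLodd
    have hk1 : k ≠ 1 := fun e => hne (Subgroup.eq_of_le_of_card_ge hKL (by rw [hk, e, mul_one]))
    obtain ⟨j, hj⟩ := hLodd.2
    rw [hk, mul_comm 3]
    exact Nat.mul_le_mul_left _ (by omega)
  have hxC : ∀ x, x ∈ C x := fun x => (hC x x).2 (Commute.refl x)
  have hC3 : ∀ x, x ∉ Z → 3 * z ≤ Nat.card (C x) := fun x hx =>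
    hdvd Z (C x) (hZC x) fun e => hx (e.symm ▸ hxC x)
  have hdisj : ∀ x y, x ∉ Z → y ∉ Z → (∀ k : H, k * y * k⁻¹ ∉ C x) → Disjoint (cell x) (cell y) := by
    intro x y hx hy hno
    rw [Finset.disjoint_left]
    intro w hw hw'
    simp only [cell, Finset.mem_filter, Finset.mem_univ, true_and] at hw hw'
    obtain ⟨hwZ, k, hk⟩ := hw
    obtain ⟨-, l, hl⟩ := hw'
    have hnZ : ∀ m : H, m * w * m⁻¹ ∉ Z := fun m h => hwZ (by simpa [mul_assoc] using hZn.conj_mem _ h m⁻¹)
    have e1 : y ∈ C (l * w * l⁻¹) := hCeq y _ hy (hnZ l) hl ▸ hxC y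
    refine hno (k * l⁻¹) ?_
    rw [← hCeq x _ hx (hnZ k) hk, hC]
    have := ((hC _ _).1 e1).conj (k * l⁻¹)
    rwa [show k * l⁻¹ * (l * w * l⁻¹) * (k * l⁻¹)⁻¹ = k * w * k⁻¹ by group] at this
  have hconjdisc : ∀ x k : H, disc (v (k * x * k⁻¹)) = disc (v x) := fun x k => by
    rw [disc_eq, disc_eq, vmul, vmul]
    have hk : v k⁻¹ * v k = 1 := by rw [← vmul, inv_mul_cancel]; rfl
    rw [Matrix.trace_mul_cycle, hk, one_mul, Matrix.det_mul, Matrix.det_mul, mul_right_comm,
      ← Matrix.det_mul (v k) (v k⁻¹), show v k * v k⁻¹ = 1 by rw [← vmul, mul_inv_cancel]; rfl, Matrix.det_one, one_mul]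
  have hdisclin : ∀ (X : (Matrix (Fin 2) (Fin 2) F)) (a b : F), disc (a • (1 : (Matrix (Fin 2) (Fin 2) F)) + b • X) = b ^ 2 * disc X := fun X a b => by
    simp [disc]; ring
  -- the slope of a normalizing element
  have hslope : ∀ x, x ∉ Z → ∀ k : Subgroup.normalizer (C x : Set H), ∃ a b : F,
      v ((k : H) * x * (k : H)⁻¹) = a • 1 + b • v x := fun x hx k =>
    hlin x _ hx ((Subgroup.mem_normalizer_iff.1 k.2 x).1 (hxC x))
  have h2 : (2 : F) ≠ 0 := by
    intro h
    have h' : ((2 : ℕ) : F) = 0 := by exact_mod_cast h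
    rw [CharP.cast_eq_zero_iff F p] at h'
    exact hp ((Nat.prime_dvd_prime_iff_eq Fact.out Nat.prime_two).1 h')
  have htrace : ∀ x (k : H) (a b : F), v (k * x * k⁻¹) = a • 1 + b • v x → 2 * a + b * (v x).trace = (v x).trace := by
    intro x k a b h
    have h1 : (v (k * x * k⁻¹)).trace = (v x).trace := by
      rw [vmul, vmul, Matrix.trace_mul_cycle, ← vmul, inv_mul_cancel]
      show (1 * v x).trace = _
      rw [one_mul]
    rw [h] at h1
    simp [Matrix.trace_fin_two] at h1 ⊢
    linear_combination h1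
  -- semisimple cells are large
  have hsemi : ∀ x, x ∉ Z → disc (v x) ≠ 0 → Subgroup.normalizer (C x : Set H) = C x := by
    intro x hx hd
    refine le_antisymm (fun k hk => ?_) Subgroup.le_normalizer
    obtain ⟨a, b, hab⟩ := hslope x hx ⟨k, hk⟩
    have hb2 : b ^ 2 = 1 := by
      have := hconjdisc x k
      rw [hab, hdisclin] at this
      exact mul_right_eq_self₀.1 (by rwa [mul_comm] at this) |>.resolve_right hd
    have hk2 : Commute (k ^ 2) x := by
      refine mul_inv_eq_iff_eq_mul.1 (vinj ?_)
      rw [show k ^ 2 * x * (k ^ 2)⁻¹ = k * (k * x * k⁻¹) * k⁻¹ by simp only [sq, mul_inv_rev, mul_assoc], vmul, vmul, hab]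
      simp only [mul_add, add_mul, Matrix.mul_smul, Matrix.smul_mul, mul_one]
      rw [← vmul k k⁻¹, mul_inv_cancel, ← vmul, ← vmul, hab]
      show a • (1 : (Matrix (Fin 2) (Fin 2) F)) + b • (a • 1 + b • v x) = v x
      rw [smul_add, smul_smul, smul_smul, ← add_assoc, ← add_smul, ← sq, hb2, one_smul]
      rcases sq_eq_one_iff.1 hb2 with rfl | rfl
      · have ha := htrace x k a 1 hab
        rw [one_mul, add_eq_right, mul_eq_zero] at ha
        rw [ha.resolve_left h2]; simp
      · simp
    refine (hC x k).2 ?_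
    obtain ⟨j, hj⟩ : Odd (orderOf k) := hodd.of_dvd_nat (orderOf_dvd_natCard k)
    have h3 : k = (k ^ 2) ^ (j + 1) := by
      rw [← pow_mul, show 2 * (j + 1) = orderOf k + 1 by omega, pow_succ, pow_orderOf_eq_one, one_mul]
    rw [h3]; exact hk2.pow_left _
  -- elements with vanishing discriminant
  have hnil : ∀ x : H, disc (v x) = 0 → ∀ (n : (Matrix (Fin 2) (Fin 2) F)), n = v x - ((v x).trace / 2) • 1 → n * n = 0 := by
    intro x hd n hn
    rw [disc] at hd
    have h4 : (4 : F) ≠ 0 := by rw [show (4 : F) = 2 * 2 by norm_num]; exact mul_ne_zero h2 h2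
    subst hn
    refine m2ext ?_ ?_ ?_ ?_ <;>
      simp [Matrix.mul_apply, Fin.sum_univ_two, Matrix.trace_fin_two] <;> field_simp <;>
      first | linear_combination hd | ring
  have hpow : ∀ x : H, disc (v x) = 0 → x ^ p ∈ Z := by
    intro x hd X
    set n : (Matrix (Fin 2) (Fin 2) F) := v x - ((v x).trace / 2) • 1 with hn
    have hvp : v (x ^ p) = ((v x).trace / 2) ^ p • (1 : (Matrix (Fin 2) (Fin 2) F)) := by
      have hv : v (x ^ p) = (v x) ^ p := by simp [v]
      rw [hv]
      conv_lhs => rw [show v x = ((v x).trace / 2) • (1 : (Matrix (Fin 2) (Fin 2) F)) + n by rw [hn]; abel]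
      rw [add_pow_char_of_commute _ (((Commute.one_left n).smul_left _)), smul_pow, one_pow,
        show n ^ p = 0 from pow_eq_zero_of_le (Fact.out : p.Prime).two_le (by rw [sq]; exact hnil x hd n hn), add_zero]
    rw [hvp]
    exact (Commute.one_left X).smul_left _
  have hpker : ∀ x, x ∉ Z → disc (v x) = 0 → ∀ k : H, ∀ (hk : k ∈ Subgroup.normalizer (C x : Set H)) (a b : F),
      v (k * x * k⁻¹) = a • 1 + b • v x → (k ∈ C x ↔ b = 1) := by
    intro x hx hd k hk a b hab
    constructor
    · intro hkx
      rw [((hC x k).1 hkx).eq, mul_inv_cancel_right] at hab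
      exact ((lin_unique hx (show (0:F) • (1 : (Matrix (Fin 2) (Fin 2) F)) + (1:F) • v x = a • 1 + b • v x by rw [zero_smul, zero_add, one_smul, ← hab])).2).symm
    · rintro rfl
      have ha := htrace x k a 1 hab
      rw [one_mul, add_eq_right, mul_eq_zero] at ha
      rw [ha.resolve_left h2, zero_smul, zero_add, one_smul] at hab
      exact (hC x k).2 (mul_inv_eq_iff_eq_mul.1 (vinj hab))
  obtain ⟨u, hu⟩ := exists_prime_orderOf_dvd_card' p hdiv
  have hud : disc (v u) = 0 := by
    have h1 : ((v u) - 1) ^ p = 0 := by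
      rw [sub_pow_char_of_commute _ (Commute.one_right _), one_pow, show (v u) ^ p = v (u ^ p) by simp [v],
        ← hu, pow_orderOf_eq_one]
      show (1 : (Matrix (Fin 2) (Fin 2) F)) - 1 = 0
      rw [sub_self]
    have h2' := (Matrix.isNilpotent_charpoly_sub_pow_of_isNilpotent ⟨p, h1⟩)
    have htr : (v u - 1).trace = 0 := isNilpotent_iff_eq_zero.1 (Matrix.isNilpotent_trace_of_isNilpotent ⟨p, h1⟩)
    have hdet : (v u - 1).det = 0 := by
      have h3 := congrArg Matrix.det h1
      rw [Matrix.det_pow] at h3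
      simpa [Matrix.det_zero, (Fact.out : p.Prime).ne_zero] using h3
    have h3 := disc_eq (v u - 1)
    rw [htr, hdet, show v u - 1 = (-1 : F) • (1 : (Matrix (Fin 2) (Fin 2) F)) + (1 : F) • v u by rw [one_smul, neg_one_smul]; abel, hdisclin] at h3
    simpa using h3
  have huZ : u ∉ Z := by
    intro hz'
    have h01 := congrFun (congrFun (hz' !![0, 1; 0, 0]).eq 0) 1
    have h00 := congrFun (congrFun (hz' !![0, 1; 0, 0]).eq 1) 1
    simp [Matrix.mul_apply, Fin.sum_univ_two] at h01 h00
    have h10 := congrFun (congrFun (hz' !![0, 0; 1, 0]).eq 0) 0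
    simp [Matrix.mul_apply, Fin.sum_univ_two] at h10
    have hscal : v u = v u 0 0 • (1 : (Matrix (Fin 2) (Fin 2) F)) := by
      refine m2ext ?_ ?_ ?_ ?_ <;> simp [h01, h00, h10]
    have hp1 : (v u 0 0) ^ p = 1 := by
      have h4 : (v u) ^ p = 1 := by
        rw [show (v u) ^ p = v (u ^ p) by simp [v], ← hu, pow_orderOf_eq_one]; rfl
      rw [hscal, smul_pow, one_pow] at h4
      simpa using congrFun (congrFun h4 0) 0
    have h5 : v u 0 0 = 1 := by
      have h6 : (v u 0 0 - 1) ^ p = 0 := by rw [sub_pow_char, hp1, one_pow, sub_self]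
      exact sub_eq_zero.1 (pow_eq_zero_iff (Fact.out : p.Prime).ne_zero |>.1 h6)
    rw [h5, one_smul] at hscal
    rw [show u = 1 from vinj hscal, orderOf_one] at hu
    exact (Fact.out : p.Prime).ne_one hu.symm
  -- some centralizer of an element with vanishing discriminant is normal
  obtain ⟨x, hx, hd, hN⟩ : ∃ x, x ∉ Z ∧ disc (v x) = 0 ∧ Subgroup.normalizer (C x : Set H) = ⊤ := by
    by_cases hss : ∃ t, t ∉ Z ∧ disc (v t) ≠ 0
    · obtain ⟨t, ht, htd⟩ := hss
      set T := Nat.card (C t) with hT
      have hWt : (cell t).card * T = g * (T - z) := by rw [hT]; conv_lhs => rw [← hsemi t ht htd]; exact hcell t ht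
      have hT3 := hC3 t ht
      have hone : ∀ s, s ∉ Z → disc (v s) ≠ 0 → ∃ k : H, k * s * k⁻¹ ∈ C t := by
        intro s hs hsd
        by_contra hc
        push Not at hc
        have hWs : (cell s).card * Nat.card (C s) = g * (Nat.card (C s) - z) := by
          conv_lhs => rw [← hsemi s hs hsd]
          exact hcell s hs
        have hS3 := hC3 s hs
        have hle : (cell t).card + (cell s).card ≤ g := by
          rw [← Finset.card_union_of_disjoint (hdisj t s ht hs hc), hg, Nat.card_eq_fintype_card]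
          exact Finset.card_le_univ _
        have hz0 : 0 < z := Nat.card_pos
        have a1 : 2 * g ≤ 3 * (cell t).card := Nat.le_of_mul_le_mul_right (by
          calc 2 * g * T ≤ g * (3 * (T - z)) := by rw [mul_comm 2 g, mul_assoc]; exact Nat.mul_le_mul_left _ (by omega)
            _ = 3 * (cell t).card * T := by rw [mul_assoc 3, hWt]; ring) (by omega)
        have a2 : 2 * g ≤ 3 * (cell s).card := Nat.le_of_mul_le_mul_right (by
          calc 2 * g * Nat.card (C s) ≤ g * (3 * (Nat.card (C s) - z)) := by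
                rw [mul_comm 2 g, mul_assoc]; exact Nat.mul_le_mul_left _ (by omega)
            _ = 3 * (cell s).card * Nat.card (C s) := by rw [mul_assoc 3, hWs]; ring) (by omega)
        have : 0 < g := Nat.card_pos
        omega
      -- data of a cell of elements with vanishing discriminant
      have hP : ∀ x, x ∉ Z → disc (v x) = 0 → ∃ e, 0 < e ∧ e ∣ T ∧
          Nat.card (Subgroup.normalizer (C x : Set H)) * z = Nat.card (C x) * e := by
        intro x hx hd
        set N := Subgroup.normalizer (C x : Set H) with hNdef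
        choose α β hαβ using hslope x hx
        let φ : N →* F :=
          { toFun := β
            map_one' := by
              refine ((hpker x hx hd (1 : N) (1 : N).2 _ _ (hαβ 1)).1 ?_)
              exact (C x).one_mem
            map_mul' := fun k l => by
              have h1 := hαβ (k * l)
              have h3 : v ((k : H) * x * (k : H)⁻¹) = α k • 1 + β k • v x := hαβ k
              rw [show ((k * l : N) : H) * x * ((k * l : N) : H)⁻¹ = (k : H) * ((l : H) * x * (l : H)⁻¹) * (k : H)⁻¹ by
                push_cast; group, vmul, vmul, hαβ l] at h1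
              simp only [mul_add, add_mul, Matrix.mul_smul, Matrix.smul_mul, mul_one] at h1
              rw [← vmul, mul_inv_cancel, ← vmul, ← vmul, h3, smul_add, smul_smul, smul_smul, ← add_assoc,
                show v (1 : H) = 1 from rfl, ← add_smul] at h1
              linear_combination -(lin_unique hx h1).2 }
        let ψ : N →* Fˣ := φ.toHomUnits
        have hker : ∀ k : N, ψ k = 1 ↔ (k : H) ∈ C x := fun k => by
          rw [hpker x hx hd k k.2 _ _ (hαβ k), Units.ext_iff]
          rfl
        obtain ⟨γ, hγ⟩ := IsCyclic.exists_generator (α := ψ.range)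
        obtain ⟨y, hy⟩ := γ.2
        have hcardN : Nat.card N = Nat.card (C x) * Nat.card ψ.range := by
          rw [← Subgroup.index_ker, ← Subgroup.card_mul_index ψ.ker]
          congr 1
          refine Nat.card_congr
            { toFun := fun k => ⟨((k.1 : N) : H), (hker k.1).1 k.2⟩
              invFun := fun c => ⟨⟨c.1, Subgroup.le_normalizer c.2⟩, MonoidHom.mem_ker.2 ((hker _).2 c.2)⟩
              left_inv := fun k => rfl
              right_inv := fun c => rfl }
        by_cases hy1 : ψ y = 1
        · refine ⟨z, Nat.card_pos, hT ▸ Subgroup.card_dvd_of_le (hZC t), ?_⟩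
          have : Nat.card ψ.range = 1 := by
            rw [Nat.card_eq_one_iff_unique]
            refine ⟨⟨fun a b => ?_⟩, ⟨1⟩⟩
            have h0 : ∀ a : ψ.range, a = 1 := fun a => by
              obtain ⟨m, rfl⟩ := Subgroup.mem_zpowers_iff.1 (hγ a)
              rw [show γ = 1 from Subtype.ext (hy.symm.trans hy1), one_zpow]
            rw [h0 a, h0 b]
          rw [hcardN, this, mul_one]
        have hyx : (y : H) ∉ C x := fun h => hy1 ((hker y).2 h)
        have hyZ : (y : H) ∉ Z := fun h => hyx (hZC x h)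
        have hyd : disc (v y) ≠ 0 := by
          intro h0
          have h4 : ψ y ^ p = 1 := by
            rw [← map_pow, hker]
            exact hZC x (by push_cast; exact hpow _ h0)
          have h5 : ((ψ y : Fˣ) : F) ^ p = 1 := by rw [← Units.val_pow_eq_pow_val, h4]; rfl
          have h6 : (((ψ y : Fˣ) : F) - 1) ^ p = 0 := by rw [sub_pow_char, h5, one_pow, sub_self]
          exact hy1 (Units.ext (sub_eq_zero.1 (pow_eq_zero_iff (Fact.out : p.Prime).ne_zero |>.1 h6)))
        obtain ⟨k, hk⟩ := hone y hyZ hyd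
        have hTy : Nat.card (C y) = T := by
          have hkZ : k * (y : H) * k⁻¹ ∉ Z := fun h => hyZ (by simpa [mul_assoc] using hZn.conj_mem _ h k⁻¹)
          rw [hT, ← hCeq t _ ht hkZ hk]
          refine Nat.card_congr
            { toFun := fun c => ⟨k * c.1 * k⁻¹, (hC _ _).2 (((hC _ _).1 c.2).conj k)⟩
              invFun := fun c => ⟨k⁻¹ * c.1 * k, (hC _ _).2 ?_⟩
              left_inv := fun c => Subtype.ext (by group)
              right_inv := fun c => Subtype.ext (by group) }
          have := ((hC _ _).1 c.2).conj k⁻¹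
          simpa [mul_assoc] using this
        let ω : (C y).subgroupOf N →* ψ.range := ψ.rangeRestrict.comp ((C y).subgroupOf N).subtype
        have hωs : Function.Surjective ω := fun a => by
          obtain ⟨m, rfl⟩ := Subgroup.mem_zpowers_iff.1 (hγ a)
          refine ⟨⟨y, Subgroup.mem_subgroupOf.2 (hxC _)⟩ ^ m, ?_⟩
          rw [map_zpow]
          congr 1
          exact Subtype.ext hy
        have hωk : Nat.card ω.ker = z := by
          refine Nat.card_congr
            { toFun := fun k => ⟨((k.1 : N) : H), ?_⟩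
              invFun := fun c => ⟨⟨⟨c.1, Subgroup.le_normalizer (hZC x c.2)⟩, Subgroup.mem_subgroupOf.2 (hZC _ c.2)⟩,
                MonoidHom.mem_ker.2 (Subtype.ext ((hker _).2 (hZC x c.2)))⟩
              left_inv := fun k => rfl
              right_inv := fun c => rfl }
          by_contra hcz
          have h1 : ((k.1 : N) : H) ∈ C x := (hker _).1 (congrArg Subtype.val (MonoidHom.mem_ker.1 k.2))
          have h3 : ((k.1 : N) : H) ∈ C y := Subgroup.mem_subgroupOf.1 k.1.2
          exact hyx (((hCeq x _ hx hcz h1).symm.trans (hCeq y _ hyZ hcz h3)).symm ▸ hxC (y : H))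
        refine ⟨Nat.card ((C y).subgroupOf N), Nat.card_pos, ?_, ?_⟩
        · rw [← hTy]
          exact Subgroup.card_dvd_of_injective
            ({ toFun := fun k => ⟨((k : N) : H), Subgroup.mem_subgroupOf.1 k.2⟩
               map_one' := rfl, map_mul' := fun a b => rfl } : (C y).subgroupOf N →* C y)
            (fun a b h => Subtype.ext (Subtype.ext (congrArg (fun z : C y => (z : H)) h)))
        · rw [← Subgroup.card_mul_index ω.ker, Subgroup.index_ker, MonoidHom.range_eq_top.2 hωs, Subgroup.card_top,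
            hωk, hcardN]
          ring
      refine ⟨u, huZ, hud, ?_⟩
      obtain ⟨e, he0, ⟨j, hj⟩, hN⟩ := hP u huZ hud
      set W := (cell u).card with hW
      set c := Nat.card (C u) with hc
      have hWu := hcell u huZ
      have hWe : W * c * e = g * z * (c - z) := by
        calc W * c * e = W * Nat.card (Subgroup.normalizer (C u : Set H)) * z := by rw [mul_assoc, ← hN, mul_assoc]
          _ = g * (c - z) * z := by rw [hWu]
          _ = g * z * (c - z) := by ring
      have hc3 := hC3 u huZ
      have htu : ∀ k : H, k * u * k⁻¹ ∉ C t := fun k hk => by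
        have hkZ : k * u * k⁻¹ ∉ Z := fun h => huZ (by simpa [mul_assoc] using hZn.conj_mem _ h k⁻¹)
        obtain ⟨a, b, hab⟩ := hlin _ t hkZ ((hCeq t _ ht hkZ hk).symm ▸ hxC t)
        refine htd ?_
        rw [hab, hdisclin, hconjdisc, hud, mul_zero]
      have hdtu := hdisj t u ht huZ htu
      have hZdisj : ∀ w, Disjoint (Finset.univ.filter fun h : H => h ∈ Z) (cell w) := fun w => by
        rw [Finset.disjoint_left]
        intro a ha ha'
        simp only [cell, Finset.mem_filter, Finset.mem_univ, true_and] at ha ha'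
        exact ha'.1 ha
      have hzc : (Finset.univ.filter fun h : H => h ∈ Z).card = z := by
        rw [hz, Nat.card_eq_fintype_card, Fintype.card_subtype]
      have hle : (cell t).card + W + z ≤ g := by
        rw [← hzc, ← Finset.card_union_of_disjoint hdtu, ← Finset.card_union_of_disjoint
          (Finset.disjoint_union_left.2 ⟨(hZdisj t).symm, (hZdisj u).symm⟩), hg, Nat.card_eq_fintype_card]
        exact Finset.card_le_univ _
      have h3W : 2 * (g * z) ≤ 3 * (W * e) := Nat.le_of_mul_le_mul_right (by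
        calc 2 * (g * z) * c ≤ g * z * (3 * (c - z)) := by
              rw [mul_comm 2 (g * z), mul_assoc]; exact Nat.mul_le_mul_left _ (by omega)
          _ = 3 * (W * e) * c := by rw [show 3 * (W * e) * c = 3 * (W * c * e) by ring, hWe]; ring) Nat.card_pos
      have hWT : W * T + z * T ≤ g * z := by
        have := Nat.mul_le_mul_right T hle
        rw [add_mul, add_mul, hWt, Nat.mul_sub] at this
        have : g * z ≤ g * T := Nat.mul_le_mul_left g (by omega)
        omega
      have hz0 : 0 < z := Nat.card_pos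
      have hj1 : j = 1 := by
        by_contra hj'
        have hjodd : Odd j := (Nat.odd_mul.1 (hj ▸ (hodd.of_dvd_nat (Subgroup.card_subgroup_dvd_card (C t))) : Odd (e * j))).2
        obtain ⟨i, rfl⟩ := hjodd
        have : 3 * (W * e) ≤ W * T := by
          rw [hj, show W * (e * (2 * i + 1)) = (2 * i + 1) * (W * e) by ring]
          exact Nat.mul_le_mul_right _ (by omega)
        have : 0 < z * T := Nat.mul_pos hz0 (by omega)
        omega
      rw [hj1, mul_one] at hj
      -- no further cells
      have hall : ∀ w : H, w ∉ Z → w ∈ cell t ∨ w ∈ cell u := by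
        intro w hw
        simp only [cell, Finset.mem_filter, Finset.mem_univ, true_and]
        by_cases hwd : disc (v w) = 0
        · right
          refine ⟨hw, ?_⟩
          by_contra hcw
          push Not at hcw
          obtain ⟨e', he0', ⟨j', hj'⟩, hN'⟩ := hP w hw hwd
          have hwt : ∀ k : H, k * w * k⁻¹ ∉ C t := fun k hk => by
            have hkZ : k * w * k⁻¹ ∉ Z := fun h => hw (by simpa [mul_assoc] using hZn.conj_mem _ h k⁻¹)
            obtain ⟨a, b, hab⟩ := hlin _ t hkZ ((hCeq t _ ht hkZ hk).symm ▸ hxC t)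
            refine htd ?_
            rw [hab, hdisclin, hconjdisc, hwd, mul_zero]
          have hle' : (cell t).card + W + (cell w).card ≤ g := by
            rw [← Finset.card_union_of_disjoint hdtu, ← Finset.card_union_of_disjoint
              (Finset.disjoint_union_left.2 ⟨hdisj t w ht hw hwt, hdisj u w huZ hw hcw⟩), hg, Nat.card_eq_fintype_card]
            exact Finset.card_le_univ _
          have hWw := hcell w hw
          have hc3' := hC3 w hw
          have h3w : 2 * (g * z) ≤ 3 * ((cell w).card * T) := by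
            refine le_trans ?_ (Nat.mul_le_mul_left 3 (Nat.mul_le_mul_left _ (Nat.le_of_dvd (by omega) ⟨j', hj'⟩)))
            refine Nat.le_of_mul_le_mul_right (c := Nat.card (C w)) ?_ (by omega)
            calc 2 * (g * z) * Nat.card (C w) ≤ g * z * (3 * (Nat.card (C w) - z)) := by
                  rw [mul_comm 2 (g * z), mul_assoc]; exact Nat.mul_le_mul_left _ (by omega)
              _ = 3 * (g * (Nat.card (C w) - z) * z) := by ring
              _ = 3 * ((cell w).card * (Nat.card (Subgroup.normalizer (C w : Set H)) * z)) := by rw [← hWw]; ring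
              _ = _ := by rw [hN']; ring
          have h1 := Nat.mul_le_mul_right T hle'
          rw [add_mul, add_mul, hWt, Nat.mul_sub] at h1
          have : g * z ≤ g * T := Nat.mul_le_mul_left g (by omega)
          have : 2 * (g * z) ≤ 3 * (W * T) := by rw [hj]; exact h3W
          have : 0 < g * z := Nat.mul_pos Nat.card_pos hz0
          omega
        · exact Or.inl ⟨hw, hone w hw hwd⟩
      have heq : (cell t).card + W + z = g := by
        refine le_antisymm hle ?_
        rw [← hzc, hg, Nat.card_eq_fintype_card, ← Finset.card_union_of_disjoint hdtu,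
          ← Finset.card_union_of_disjoint (Finset.disjoint_union_left.2 ⟨(hZdisj t).symm, (hZdisj u).symm⟩)]
        refine Finset.card_le_card fun w _ => ?_
        by_cases hw : w ∈ Z
        · exact Finset.mem_union_right _ (by simpa using hw)
        · exact Finset.mem_union_left _ (Finset.mem_union.2 (hall w hw))
      rw [← Subgroup.card_eq_iff_eq_top]
      refine Nat.eq_of_mul_eq_mul_right hz0 ?_
      rw [hN, ← hj, ← hg]
      have h1 : (cell t).card * T + W * T + z * T = g * T := by rw [← add_mul, ← add_mul, heq]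
      rw [hWt, Nat.mul_sub] at h1
      have : g * z ≤ g * T := Nat.mul_le_mul_left g (by omega)
      have hWT' : W * T + z * T = g * z := by omega
      have h4 : W * T * c + g * z * z = g * z * c := by
        rw [show W * T * c = W * c * e by rw [hj]; ring, hWe, ← mul_add, Nat.sub_add_cancel (by omega)]
      have h6 : g * z * c = W * T * c + z * T * c := by rw [← hWT', add_mul]
      have h5 : g * z * z = z * T * c := by omega
      exact Nat.eq_of_mul_eq_mul_right hz0 (by rw [h5]; ring)
    · push Not at hss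
      refine ⟨u, huZ, hud, ?_⟩
      have hNC : ∀ w, w ∉ Z → Subgroup.normalizer (C w : Set H) = C w := by
        intro w hw
        refine le_antisymm (fun k hk => ?_) Subgroup.le_normalizer
        by_cases hkZ : k ∈ Z
        · exact hZC w hkZ
        obtain ⟨a, b, hab⟩ := hslope w hw ⟨k, hk⟩
        refine (hpker w hw (hss w hw) k hk a b hab).2 ?_
        have hb : ∀ n : ℕ, ∃ a' : F, v (k ^ n * w * (k ^ n)⁻¹) = a' • 1 + b ^ n • v w := by
          intro n
          induction n with
          | zero => exact ⟨0, by simp⟩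
          | succ n ih =>
            obtain ⟨a', ha'⟩ := ih
            refine ⟨a' + b ^ n * a, ?_⟩
            rw [show k ^ (n + 1) * w * (k ^ (n + 1))⁻¹ = k * (k ^ n * w * (k ^ n)⁻¹) * k⁻¹ by rw [pow_succ']; group,
              vmul, vmul, ha']
            simp only [mul_add, add_mul, Matrix.mul_smul, Matrix.smul_mul, mul_one]
            rw [← vmul, mul_inv_cancel, ← vmul, ← vmul, hab, smul_add, smul_smul, smul_smul, ← add_assoc,
              show v (1 : H) = 1 from rfl, ← add_smul, pow_succ]
        obtain ⟨a', ha'⟩ := hb p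
        have hbp : b ^ p = 1 :=
          (hpker w hw (hss w hw) (k ^ p) (Subgroup.pow_mem _ hk p) a' (b ^ p) ha').1 (hZC w (hpow k (hss k hkZ)))
        have h6 : (b - 1) ^ p = 0 := by rw [sub_pow_char, hbp, one_pow, sub_self]
        exact sub_eq_zero.1 (pow_eq_zero_iff (Fact.out : p.Prime).ne_zero |>.1 h6)
      rw [hNC u huZ]
      have hW : ∀ w, w ∉ Z → (cell w).card * Nat.card (C w) = g * (Nat.card (C w) - z) := fun w hw => by
        conv_lhs => rw [← hNC w hw]
        exact hcell w hw
      have hall : ∀ w, w ∉ Z → w ∈ cell u := by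
        intro w hw
        simp only [cell, Finset.mem_filter, Finset.mem_univ, true_and]
        refine ⟨hw, ?_⟩
        by_contra hcw
        push Not at hcw
        have hle : (cell u).card + (cell w).card ≤ g := by
          rw [← Finset.card_union_of_disjoint (hdisj u w huZ hw hcw), hg, Nat.card_eq_fintype_card]
          exact Finset.card_le_univ _
        have hz0 : 0 < z := Nat.card_pos
        have a1 : ∀ s, s ∉ Z → 2 * g ≤ 3 * (cell s).card := fun s hs => Nat.le_of_mul_le_mul_right (by
          calc 2 * g * Nat.card (C s) ≤ g * (3 * (Nat.card (C s) - z)) := by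
                have := hC3 s hs
                rw [mul_comm 2 g, mul_assoc]; exact Nat.mul_le_mul_left _ (by omega)
            _ = 3 * (cell s).card * Nat.card (C s) := by rw [mul_assoc 3, hW s hs]; ring) Nat.card_pos
        have := a1 u huZ
        have := a1 w hw
        have : 0 < g := Nat.card_pos
        omega
      rw [← Subgroup.card_eq_iff_eq_top, ← hg]
      have heq : g ≤ (cell u).card + z := by
        have hzc : (Finset.univ.filter fun h : H => h ∈ Z).card = z := by
          rw [hz, Nat.card_eq_fintype_card, Fintype.card_subtype]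
        rw [hg, ← hzc, Nat.card_eq_fintype_card, ← Finset.card_univ]
        refine le_trans (Finset.card_le_card (t := cell u ∪ Finset.univ.filter fun h : H => h ∈ Z) fun w _ => ?_) (Finset.card_union_le _ _)
        by_cases hw : w ∈ Z
        · exact Finset.mem_union_right _ (by simpa using hw)
        · exact Finset.mem_union_left _ (hall w hw)
      refine le_antisymm (Subgroup.card_le_card_group _) ?_
      have h1 := Nat.mul_le_mul_right (Nat.card (C u)) heq
      rw [add_mul, hW u huZ, Nat.mul_sub] at h1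
      have : g * z ≤ g * Nat.card (C u) := Nat.mul_le_mul_left g (by have := hC3 u huZ; omega)
      have h2' : g * z ≤ Nat.card (C u) * z := by rw [mul_comm (Nat.card (C u)) z]; omega
      exact Nat.le_of_mul_le_mul_right h2' Nat.card_pos
  -- the fixed line
  set n : (Matrix (Fin 2) (Fin 2) F) := v x - ((v x).trace / 2) • 1 with hn
  have hn0 : n ≠ 0 := by
    intro e
    refine hx fun X => ?_
    rw [sub_eq_zero.1 e]
    exact (Commute.one_left X).smul_left _
  obtain ⟨w, hw0, hw⟩ : ∃ w : Fin 2 → F, w ≠ 0 ∧ n.mulVec w = 0 := by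
    rw [Matrix.exists_mulVec_eq_zero_iff]
    have := congrArg Matrix.det (hnil x hd n hn)
    simpa [Matrix.det_mul] using this
  obtain ⟨k, hk, hkw⟩ := hirr w hw0
  obtain ⟨a, b, hab⟩ := hslope x hx ⟨(⟨k, hk⟩ : H)⁻¹, hN ▸ Subgroup.mem_top _⟩
  refine hkw ?_
  -- `k w` is an eigenvector of `n`
  set k' : H := ⟨k, hk⟩
  set y : Fin 2 → F := (v k').mulVec w with hy
  have hxw : (v x).mulVec w = ((v x).trace / 2) • w := by
    rw [show v x = n + ((v x).trace / 2) • (1 : (Matrix (Fin 2) (Fin 2) F)) by rw [hn]; abel, Matrix.add_mulVec, hw, zero_add, Matrix.smul_mulVec,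
      Matrix.one_mulVec]
    congr 1
    rw [hn]; abel_nf
  have hxk : v x * v k' = v k' * (a • 1 + b • v x) := by
    rw [← hab]
    show v x * v k' = v k' * v ((k'⁻¹ : H) * x * (k'⁻¹ : H)⁻¹)
    rw [← vmul, ← vmul]
    congr 1
    group
  obtain ⟨c, hc⟩ : ∃ c : F, n.mulVec y = c • y := by
    refine ⟨a + b * ((v x).trace / 2) - (v x).trace / 2, ?_⟩
    rw [hn, Matrix.sub_mulVec, Matrix.smul_mulVec, Matrix.one_mulVec, hy, Matrix.mulVec_mulVec, hxk,
      ← Matrix.mulVec_mulVec, Matrix.add_mulVec, Matrix.smul_mulVec, Matrix.smul_mulVec, Matrix.one_mulVec, hxw,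
      smul_smul, ← add_smul, Matrix.mulVec_smul, ← sub_smul]
  have hny : n.mulVec y = 0 := by
    have h1 : n.mulVec (n.mulVec y) = 0 := by rw [Matrix.mulVec_mulVec, hnil x hd n hn, Matrix.zero_mulVec]
    rw [hc, Matrix.mulVec_smul, hc, smul_smul, smul_eq_zero] at h1
    rcases h1 with h1 | h1
    · rw [hc, mul_self_eq_zero.1 h1, zero_smul]
    · rw [h1, Matrix.mulVec_zero]
  have hdet : w 0 * y 1 - w 1 * y 0 = 0 := by
    by_contra h
    refine hn0 ?_
    have h00 := congrFun hw 0; have h10 := congrFun hw 1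
    have h01 := congrFun hny 0; have h11 := congrFun hny 1
    simp [Matrix.mulVec, dotProduct, Fin.sum_univ_two] at h00 h10 h01 h11
    refine m2ext ?_ ?_ ?_ ?_ <;> simp <;> refine (mul_eq_zero.1 ?_).resolve_right h
    · linear_combination y 1 * h00 - w 1 * h01
    · linear_combination w 0 * h01 - y 0 * h00
    · linear_combination y 1 * h10 - w 1 * h11
    · linear_combination w 0 * h11 - y 0 * h10
  rw [Submodule.mem_span_singleton]
  show ∃ r : F, r • w = y
  by_cases hw1 : w 0 = 0
  · have hw2 : w 1 ≠ 0 := fun e => hw0 (by ext i; fin_cases i <;> simp [hw1, e])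
    refine ⟨y 1 / w 1, ?_⟩
    ext i
    fin_cases i <;> simp
    · rw [hw1] at hdet ⊢
      rcases mul_eq_zero.1 (show w 1 * y 0 = 0 by linear_combination -hdet) with h | h
      exacts [absurd h hw2, by rw [h]; ring]
    · field_simp
  · refine ⟨y 0 / w 0, ?_⟩
    ext i
    fin_cases i <;> simp
    · field_simp
    · field_simp; linear_combination -hdet

end Cfsg.Agent.S1463
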