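import Cfsg.Statements.S0100
import Cfsg.Agent.Lib.Transfer.RankTwo

set_option maxHeartbeats 1000000
set_option maxRecDepth 8000

set_option autoImplicit false
open Cfsg

namespace Cfsg.Agent.S0100

/-- For odd p, a p-group without normal elementary abelian subgroups of order p^3 has p-rank at most 2. -/
theorem result {P : Type*} [Group P] [Finite P] {p : ℕ} [Fact p.Prime] (hp : p ≠ 2) (hP : IsPGroup p P) (h : ∀ A : Subgroup P, A.Normal → IsMulCommutative A → (∀ a ∈ A, a ^ p = 1) → Nat.card A ≠ p ^ 3) (E : Subgroup P) (hE : IsMulCommutative E) (hEe : ∀ e ∈ E, e ^ p = 1) : Nat.card E ≤ p ^ 2 := by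
  classical
  obtain ⟨A, hAn, hAab, hAe, hmem⟩ := Transfer.RankTwo.exists_normal_omega_max hp hP
  haveI := hAn
  have hAcomm : ∀ a ∈ A, ∀ b ∈ A, a * b = b * a := fun a ha b hb =>
    congrArg Subtype.val (hAab.is_comm.comm ⟨a, ha⟩ ⟨b, hb⟩)
  have hA2 : Nat.card A ≤ p ^ 2 := by
    by_contra hlt
    obtain ⟨j, hj⟩ := IsPGroup.iff_card.1 (hP.to_subgroup A)
    have hj3 : 3 ≤ j := by
      by_contra h'
      exact hlt (hj ▸ Nat.pow_le_pow_right (Fact.out : p.Prime).pos (by omega))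
    obtain ⟨L, hLn, hLA, hLc⟩ := Transfer.RankTwo.exists_normal_card hP A 3
      (hj ▸ Nat.pow_le_pow_right (Fact.out : p.Prime).pos hj3)
    exact h L hLn ⟨⟨fun a b => Subtype.ext (hAcomm a (hLA a.2) b (hLA b.2))⟩⟩ (fun a ha => hAe a (hLA ha)) hLc
  by_contra hlt
  obtain ⟨j, hj⟩ := IsPGroup.iff_card.1 (hP.to_subgroup E)
  have hE3 : p ^ 3 ≤ Nat.card E := by
    rw [hj]
    refine Nat.pow_le_pow_right (Fact.out : p.Prime).pos ?_
    by_contra h'
    exact hlt (hj ▸ Nat.pow_le_pow_right (Fact.out : p.Prime).pos (by omega))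
  have hEC : E ⊓ Subgroup.centralizer (A : Set P) ≤ A := fun x hx => hmem x hx.2 (hEe x hx.1)
  have h1 := Grp.RankThree.card_inf_centralizer_ge hP hAab hA2 hE3
  have heq : E ⊓ Subgroup.centralizer (A : Set P) = A := Subgroup.eq_of_le_of_card_ge hEC (hA2.trans h1)
  have hAE : A ≤ E := heq.ge.trans inf_le_left
  have hEA : E ≤ A := fun x hx => hmem x (Subgroup.mem_centralizer_iff.2 fun a ha =>
    congrArg Subtype.val (hE.is_comm.comm ⟨a, hAE ha⟩ ⟨x, hx⟩)) (hEe x hx)
  exact hlt ((Subgroup.card_le_of_le hEA).trans hA2)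

end Cfsg.Agent.S0100
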