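import Cfsg.Statements.S1452
import Cfsg.Agent.S0100
import Cfsg.Agent.Lib.Transfer.RankTwo
import Cfsg.Agent.Lib.Grp.RankThreeFour
import Cfsg.Agent.Lib.Grp.GaschutzYen

set_option maxHeartbeats 1000000
set_option maxRecDepth 8000

set_option autoImplicit false
open Cfsg
open scoped commutatorElement

namespace Cfsg.Agent.S1452

/-- Let p be an odd prime and R a finite p-group containing an elementary abelian subgroup of order p ^ 3. If E is a normal elementary abelian subgroup of R of order p ^ 2, then E ≤ A for some normal subgroup A of R with C_R(A) = A that contains an elementary abelian subgroup of order p ^ 3. -/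
theorem result {R : Type*} [Group R] [Finite R] (p : ℕ) [Fact p.Prime] (hp : p ≠ 2) (hR : IsPGroup p R) (hr : ¬ Cfsg.PRankLE p 2 R)
    (E : Subgroup R) [E.Normal] (hE : Cfsg.IsElementaryAbelian p E) (hE2 : Nat.card E = p ^ 2) :
    ∃ A : Subgroup R, E ≤ A ∧ A.Normal ∧ Subgroup.centralizer (A : Set R) = A ∧ ¬ Cfsg.PRankLE p 2 A := by
  classical
  have hEc : ∀ a ∈ E, ∀ b ∈ E, a * b = b * a := fun a ha b hb =>
    congrArg Subtype.val (hE.1.is_comm.comm ⟨a, ha⟩ ⟨b, hb⟩)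
  -- a normal elementary abelian subgroup of rank three
  obtain ⟨A₀, hA₀n, hA₀ab, hA₀e, hA₀c⟩ : ∃ A₀ : Subgroup R, A₀.Normal ∧ IsMulCommutative A₀ ∧
      (∀ a ∈ A₀, a ^ p = 1) ∧ Nat.card A₀ = p ^ 3 := by
    by_contra hcon
    refine hr fun B hB hBe => S0100.result hp hR (fun A h1 h2 h3 h4 => hcon ⟨A, h1, h2, h3, h4⟩) B hB hBe
  haveI := hA₀n
  obtain ⟨L, hLn, hLab, hLe, hEL, hLc⟩ : ∃ L : Subgroup R, L.Normal ∧ IsMulCommutative L ∧
      (∀ a ∈ L, a ^ p = 1) ∧ E ≤ L ∧ p ^ 2 < Nat.card L := by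
    by_cases hEA : E ≤ A₀
    · exact ⟨A₀, hA₀n, hA₀ab, hA₀e, hEA, hA₀c ▸ Nat.pow_lt_pow_right (Fact.out : p.Prime).one_lt (by norm_num)⟩
    set D := A₀ ⊓ Subgroup.centralizer (E : Set R) with hD
    haveI : D.Normal := Subgroup.normal_inf_normal A₀ _
    have hD2 := Grp.RankThree.card_inf_centralizer_ge hR hE.1 hE2.le hA₀c.ge
    refine ⟨E ⊔ D, inferInstance, ?_, ?_, le_sup_left, ?_⟩
    · rw [← Subgroup.closure_eq E, ← Subgroup.closure_eq D, ← Subgroup.closure_union]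
      refine Subgroup.isMulCommutative_closure ?_
      rintro a (ha | ha) b (hb | hb)
      · exact hEc a ha b hb
      · exact Subgroup.mem_centralizer_iff.1 hb.2 a ha
      · exact (Subgroup.mem_centralizer_iff.1 ha.2 b hb).symm
      · exact congrArg Subtype.val (hA₀ab.is_comm.comm ⟨a, ha.1⟩ ⟨b, hb.1⟩)
    · intro a ha
      obtain ⟨x, hx, y, hy, rfl⟩ := Subgroup.mem_sup_of_normal_left.1 ha
      rw [(show Commute x y from Subgroup.mem_centralizer_iff.1 hy.2 x hx).mul_pow, hE.2 x hx, hA₀e y hy.1, one_mul]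
    · rw [← hE2]
      by_contra hle
      have h1 : E = E ⊔ D := Subgroup.eq_of_le_of_card_ge le_sup_left (not_lt.1 hle)
      have h2 : D = E := Subgroup.eq_of_le_of_card_ge (le_sup_right.trans h1.ge) (hE2.trans_le hD2)
      exact hEA (h2.ge.trans inf_le_left)
  -- a maximal normal abelian subgroup above it
  haveI := hLn
  haveI : Nonempty {A : Subgroup R // A.Normal ∧ IsMulCommutative A ∧ L ≤ A} := ⟨⟨L, hLn, hLab, le_rfl⟩⟩
  obtain ⟨⟨A, hAn, hAab, hLA⟩, hmax⟩ := Finite.exists_max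
    (fun A : {A : Subgroup R // A.Normal ∧ IsMulCommutative A ∧ L ≤ A} => Nat.card A.1)
  haveI := hAn
  refine ⟨A, hEL.trans hLA, hAn, Transfer.NormalSteps.centralizer_eq_of_max hR hAab (fun B hB hBc hAB =>
    (Subgroup.eq_of_le_of_card_ge hAB (hmax ⟨B, hB, hBc, hLA.trans hAB⟩)).symm), fun h => ?_⟩
  haveI := hLab
  have h1 := h (L.subgroupOf A) ⟨⟨fun a b => Subtype.ext (Subtype.ext
    (congrArg (fun z : L => (z : R)) (hLab.is_comm.comm ⟨_, a.2⟩ ⟨_, b.2⟩)))⟩⟩ (fun a ha => Subtype.ext (hLe _ ha))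
  rw [Nat.card_congr (Subgroup.subgroupOfEquivOfLe hLA).toEquiv] at h1
  omega

end Cfsg.Agent.S1452
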