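import Cfsg.Statements.S1465
import Mathlib
import Cfsg.Agent.Lib.Transfer.PStableFree
import Cfsg.Agent.Lib.Grp.QuadraticGroup
import Cfsg.Agent.Lib.Grp.Cores
import Cfsg.Agent.Lib.Grp.Solvable

set_option maxHeartbeats 1000000
set_option maxRecDepth 8000

set_option autoImplicit false
open Cfsg
open scoped commutatorElement

namespace Cfsg.Agent.S1465

/-- Let p be an odd prime, G a solvable group of odd order, P a normal p-subgroup of G, and X the subgroup generated by a family of abelian p-subgroups of G each normalized by P. Then the image of X in G/C_G(P) lies in O_p(G/C_G(P)); and if O_{p'}(G) = 1 and O_p(G) ∩ C_G(P) ≤ P then X ≤ O_p(G). -/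
theorem result {G : Type*} [Group G] [Finite G] [Group.IsSolvable G] (hodd : Odd (Nat.card G)) (p : ℕ) [Fact p.Prime] (hp : p ≠ 2) (P : Subgroup G) [P.Normal] (hP : IsPGroup p P)
    (S : Set (Subgroup G)) (hS : ∀ B ∈ S, IsMulCommutative B ∧ IsPGroup p B ∧ P ≤ Subgroup.normalizer (B : Set G)) :
    (sSup S).map (QuotientGroup.mk' (Subgroup.centralizer (P : Set G))) ≤ Cfsg.pCore p (G ⧸ Subgroup.centralizer (P : Set G)) ∧
      (Cfsg.pPrimeCore p G = ⊥ → Cfsg.pCore p G ⊓ Subgroup.centralizer (P : Set G) ≤ P → sSup S ≤ Cfsg.pCore p G) := by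
  classical
  haveI hodd' : ∀ T : Sylow 2 G, IsMulCommutative T := fun T => by
    obtain ⟨k, hk⟩ := IsPGroup.iff_card.1 T.isPGroup'
    have hd : Nat.card (T : Subgroup G) ∣ Nat.card G := Subgroup.card_subgroup_dvd_card _
    rw [hk] at hd
    rcases k with _ | k
    · rw [pow_zero] at hk
      have := (Nat.card_eq_one_iff_unique.1 hk).1
      exact ⟨⟨fun a b => Subsingleton.elim _ _⟩⟩
    · exact absurd ((dvd_pow_self 2 k.succ_ne_zero).trans hd) hodd.not_two_dvd_nat
  have hst := Grp.Quad.isPStableOn_of_free hp (Transfer.qdFree_of_sylow_two_comm hp hodd') P hP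
  have h1 : (sSup S).map (QuotientGroup.mk' (Subgroup.centralizer (P : Set G))) ≤
      Cfsg.pCore p (G ⧸ Subgroup.centralizer (P : Set G)) := by
    rw [Subgroup.map_le_iff_le_comap]
    refine sSup_le fun B hB a ha => hst a (le_bot_iff.1 ?_)
    obtain ⟨hBc, -, hPB⟩ := hS B hB
    have h2 : ⁅P, Subgroup.zpowers a⁆ ≤ B :=
      (Subgroup.commutator_mono le_rfl (Subgroup.zpowers_le.2 ha)).trans (Subgroup.commutator_le.2 fun x hx b hb => by
        rw [commutatorElement_def]
        exact B.mul_mem ((Subgroup.mem_normalizer_iff.1 (hPB hx) b).1 hb) (B.inv_mem hb))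
    refine (Subgroup.commutator_mono h2 (Subgroup.zpowers_le.2 ha)).trans (le_of_eq ?_)
    rw [Subgroup.commutator_eq_bot_iff_le_centralizer]
    exact fun b hb => Subgroup.mem_centralizer_iff.2 fun c hc =>
      congrArg Subtype.val (mul_comm' (⟨c, hc⟩ : B) ⟨b, hb⟩)
  refine ⟨h1, fun hcore hint => ?_⟩
  set K := Subgroup.centralizer (P : Set G) with hK
  haveI : (Cfsg.pCore p G).Normal := Cfsg.Agent.Grp.pCore_isNormal
  have hKp : IsPGroup p K := by
    have hKcore : Cfsg.pPrimeCore p ↥K = ⊥ := by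
      have h3 := Cfsg.Agent.Grp.pPrimeCore_map_eq (p := p) K
      rw [hcore, bot_inf_eq, Subgroup.map_eq_bot_iff_of_injective _ K.subtype_injective] at h3
      exact h3
    have hF : Cfsg.fittingSubgroup ↥K ≤ Cfsg.pCore p ↥K := by
      rw [Cfsg.Agent.Grp.fittingSubgroup_eq_iSup_pCore]
      refine iSup_le fun q => ?_
      by_cases hq : (q : ℕ) = p
      · rw [hq]
      · haveI := Fact.mk q.2
        refine le_trans ?_ (bot_le (a := Cfsg.pCore p ↥K))
        rw [← hKcore]
        obtain ⟨i, hi⟩ := IsPGroup.iff_card.1 (Cfsg.Agent.Grp.pCore_isPGroup (p := (q : ℕ)) (G := ↥K))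
        refine Cfsg.Agent.Grp.le_pPrimeCore Cfsg.Agent.Grp.pCore_isNormal ?_
        rw [hi]
        exact ((Nat.coprime_primes q.2 Fact.out).2 hq).pow_left i
    have h4 : Cfsg.pCore p ↥K = ⊤ := by
      rw [eq_top_iff]
      refine le_trans (fun k _ => Subgroup.mem_centralizer_iff.2 fun y hy => ?_)
        (Cfsg.Agent.Grp.centralizer_fittingSubgroup_le.trans hF)
      replace hy : y ∈ Cfsg.fittingSubgroup ↥K := hy
      have hyp : y ∈ Cfsg.pCore p ↥K := hF hy
      have hyG : (y : G) ∈ Cfsg.pCore p G ⊓ K := ⟨Cfsg.Agent.Grp.le_pCore (p := p)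
        (show ((Cfsg.pCore p ↥K).map K.subtype).Normal from
          inferInstance)
        ((Cfsg.Agent.Grp.pCore_isPGroup (p := p) (G := ↥K)).map K.subtype) ⟨y, hyp, rfl⟩, y.2⟩
      exact Subtype.ext ((Subgroup.mem_centralizer_iff.1 k.2) _ (hint hyG))
    have h5 : IsPGroup p (⊤ : Subgroup K) := h4 ▸ Cfsg.Agent.Grp.pCore_isPGroup
    exact fun x => (h5 ⟨x, trivial⟩).imp fun i hi => congrArg Subtype.val hi
  set D := (Cfsg.pCore p (G ⧸ K)).comap (QuotientGroup.mk' K) with hD
  haveI : (Cfsg.pCore p (G ⧸ K)).Normal := Cfsg.Agent.Grp.pCore_isNormal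
  have hDp : IsPGroup p D :=
    (Cfsg.Agent.Grp.pCore_isPGroup (p := p) (G := G ⧸ K)).comap_of_ker_isPGroup _ (by rw [QuotientGroup.ker_mk']; exact hKp)
  exact (Subgroup.map_le_iff_le_comap.1 h1).trans (Cfsg.Agent.Grp.le_pCore (inferInstanceAs D.Normal) hDp)

end Cfsg.Agent.S1465
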