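import Cfsg.Statements.S1457
import Mathlib
import Cfsg.Agent.S1465
import Cfsg.Agent.Lib.Grp.Cores
import Cfsg.Agent.Lib.Grp.Frattini

set_option maxHeartbeats 1000000
set_option maxRecDepth 8000

set_option autoImplicit false
open Cfsg

namespace Cfsg.Agent.S1457

/-- Let G be a solvable group of odd order, p a prime, S a Sylow p-subgroup of G and A an abelian subgroup of S normal in S. Then A ≤ O_{p',p}(G). -/
theorem result {G : Type*} [Group G] [Finite G] [Group.IsSolvable G] (hodd : Odd (Nat.card G)) (p : ℕ) [Fact p.Prime] (S : Sylow p G) (A : Subgroup G) (hA : A ≤ (S : Subgroup G)) (hAc : IsMulCommutative A)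
    (hAn : (S : Subgroup G) ≤ Subgroup.normalizer (A : Set G)) :
    A ≤ Cfsg.pPrimePCore p G := by
  classical
  set N := Cfsg.pPrimeCore p G with hN
  haveI : N.Normal := Cfsg.Agent.Grp.pPrimeCore_isNormal
  set π := QuotientGroup.mk' N with hπ
  have hπs : Function.Surjective π := QuotientGroup.mk'_surjective N
  by_cases hp : p = 2
  · -- then `A` is trivial
    subst hp
    intro a ha
    obtain ⟨k, hk⟩ := IsPGroup.iff_orderOf.1 S.isPGroup' ⟨a, hA ha⟩
    rw [Subgroup.orderOf_mk] at hk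
    rcases k with _ | k
    · rw [pow_zero, orderOf_eq_one_iff] at hk
      rw [hk]; exact Subgroup.one_mem _
    · exact absurd ((dvd_pow_self 2 k.succ_ne_zero).trans (hk ▸ orderOf_dvd_natCard a)) hodd.not_two_dvd_nat
  haveI : (Cfsg.pCore p (G ⧸ N)).Normal := Cfsg.Agent.Grp.pCore_isNormal
  have hodd' : Odd (Nat.card (G ⧸ N)) := hodd.of_dvd_nat (Subgroup.card_quotient_dvd_card _)
  haveI : Group.IsSolvable (G ⧸ N) := Group.isSolvable_of_surjective hπs
  have hB : IsMulCommutative (A.map π) := IsMulCommutative.of_comm fun s t => by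
    obtain ⟨a, ha, hsa⟩ := s.2
    obtain ⟨b, hb, htb⟩ := t.2
    refine Subtype.ext ?_
    show (s : G ⧸ N) * t = t * s
    rw [← hsa, ← htb, ← map_mul, ← map_mul]
    exact congrArg π (congrArg Subtype.val (mul_comm' (⟨a, ha⟩ : A) ⟨b, hb⟩))
  have h1 := (S1465.result hodd' p hp (Cfsg.pCore p (G ⧸ N)) Cfsg.Agent.Grp.pCore_isPGroup {A.map π}
    (fun B hB' => by
      rw [Set.mem_singleton_iff] at hB'
      subst hB'
      refine ⟨hB, (S.isPGroup'.to_le hA).map π, fun y hy => ?_⟩
      obtain ⟨s, hs, rfl⟩ := Cfsg.Agent.Grp.pCore_le_sylow (S.mapSurjective hπs) hy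
      exact Subgroup.le_normalizer_map π ⟨s, hAn hs, rfl⟩)).2 Cfsg.Agent.Grp.pPrimeCore_quotient_eq_bot inf_le_left
  intro a ha
  show π a ∈ Cfsg.pCore p (G ⧸ N)
  rw [sSup_singleton] at h1
  exact h1 ⟨a, ha, rfl⟩

end Cfsg.Agent.S1457
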