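import Cfsg.Statements.S1458
import Cfsg.Agent.Lib.Invol.ZJLocalNormal
import Cfsg.Agent.Lib.Grp.Solvable
import Cfsg.Agent.Lib.Grp.Frattini
import Cfsg.Agent.Lib.Fus.OddSylowCyclicDerived
-- import your own Cfsg.Agent.* helpers here

set_option autoImplicit false
open Cfsg

namespace Cfsg.Agent.S1458

/-- Let G be a solvable group of odd order, p a prime and S a Sylow p-subgroup of G. Then the subgroup generated by the centre of the Thompson subgroup of S and O_{p'}(G) is normal in G. -/
theorem result {G : Type*} [Group G] [Finite G] [Group.IsSolvable G] (hodd : Odd (Nat.card G)) (p : ℕ) [Fact p.Prime] (S : Sylow p G) :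
    (Cfsg.centerThompsonOf p (S : Subgroup G) ⊔ Cfsg.pPrimeCore p G).Normal := by
  haveI : (Cfsg.pPrimeCore p G).Normal := Grp.pPrimeCore_isNormal
  rcases eq_or_ne p 2 with rfl | hp
  · have hS : (S : Subgroup G) = ⊥ := by
      refine Subgroup.card_eq_one.mp ?_
      obtain ⟨n, hn⟩ := IsPGroup.iff_card.mp S.isPGroup'
      rcases n with _ | n
      · simpa using hn
      · exact absurd (hodd.of_dvd_nat (Subgroup.card_subgroup_dvd_card (S : Subgroup G)))
          (by rw [hn, Nat.not_odd_iff_even, pow_succ']; exact even_two_mul _)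
    rw [show Cfsg.centerThompsonOf 2 (S : Subgroup G) = ⊥ from
      le_bot_iff.1 ((Invol.centerEl_le _).trans hS.le), bot_sup_eq]
    infer_instance
  · haveI : Group.IsSolvable (G ⧸ Cfsg.pPrimeCore p G) := inferInstance
    obtain ⟨h1, -⟩ := Invol.zj_factorization hp Invol.isZJFunctor_centerEl
      (Grp.centralizer_pCore_le Grp.pPrimeCore_quotient_eq_bot)
      (fun V _ hV => Grp.Quad.isPStableOn_of_free hp (Fus.not_involves_qd_of_odd hp
        (hodd.of_dvd_nat (Subgroup.card_quotient_dvd_card _))) V hV) S
    haveI := h1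
    have h := Subgroup.comap_map_eq (QuotientGroup.mk' (Cfsg.pPrimeCore p G))
      (Cfsg.centerThompsonOf p (S : Subgroup G))
    rw [QuotientGroup.ker_mk'] at h
    rw [← h]
    infer_instance

end Cfsg.Agent.S1458
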