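import Cfsg.Statements.S0600
import Cfsg.Agent.Lib.Grp.Cores
import Mathlib

set_option maxHeartbeats 1000000
set_option maxRecDepth 8000

set_option autoImplicit false
open Cfsg
open scoped Pointwise

namespace Cfsg.Agent.S0600

/-- A normal elementary abelian p-subgroup generated by the fixed points of the Sylow p-subgroups admits no nontrivial normal p-subgroup of G modulo its centralizer. -/
theorem result {G : Type*} [Group G] [Finite G] {p : ℕ} [Fact p.Prime] (V : Subgroup G) [V.Normal] (hV : Cfsg.IsElementaryAbelian p V) (hgen : V = ⨆ S : Sylow p G, V ⊓ Subgroup.centralizer ((S : Subgroup G) : Set G)) : Cfsg.pCore p (G ⧸ Subgroup.centralizer (V : Set G)) = ⊥ := by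
  set C := Subgroup.centralizer (V : Set G) with hC
  set q := QuotientGroup.mk' C with hq
  haveI : (Cfsg.pCore p (G ⧸ C)).Normal := Cfsg.Agent.Grp.pCore_isNormal
  refine (Subgroup.eq_bot_iff_forall _).2 fun w hw => ?_
  obtain ⟨g, rfl⟩ := QuotientGroup.mk'_surjective C w
  refine (QuotientGroup.eq_one_iff g).2 ?_
  show g ∈ C
  have hkey : ∀ S : Sylow p G, V ⊓ Subgroup.centralizer ((S : Subgroup G) : Set G) ≤ Subgroup.centralizer ({g} : Set G) := by
    intro S v hv
    obtain ⟨s, hs, hsg⟩ := (Cfsg.Agent.Grp.pCore_le_sylow (S.mapSurjective (QuotientGroup.mk'_surjective C))) hw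
    have hc : s⁻¹ * g ∈ C := QuotientGroup.eq.1 hsg
    have h1 : (s⁻¹ * g) * v = v * (s⁻¹ * g) := (Subgroup.mem_centralizer_iff.1 hc v hv.1).symm
    have h2 : s * v = v * s := Subgroup.mem_centralizer_iff.1 hv.2 s hs
    rw [Subgroup.mem_centralizer_singleton_iff]
    calc v * g = (v * s) * (s⁻¹ * g) := by group
      _ = s * ((s⁻¹ * g) * v) := by rw [← h2, h1]; group
      _ = g * v := by group
  have hle : V ≤ Subgroup.centralizer ({g} : Set G) := hgen.le.trans (iSup_le hkey)
  exact Subgroup.mem_centralizer_iff.2 fun v hv => Subgroup.mem_centralizer_singleton_iff.1 (hle hv)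

end Cfsg.Agent.S0600
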