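import Cfsg.Statements.S0601
import Cfsg.Agent.S0600
import Cfsg.Agent.Lib.Grp.Cores
import Mathlib

set_option maxHeartbeats 1000000
set_option maxRecDepth 8000

set_option autoImplicit false
open Cfsg
open scoped Pointwise

namespace Cfsg.Agent.S0601

/-- When O_p(G) contains its centralizer, the normal closure of Ω₁(Z(S)) is elementary abelian and G has no nontrivial normal p-subgroup modulo its centralizer. -/
theorem result {G : Type*} [Group G] [Finite G] {p : ℕ} [Fact p.Prime] (hc : Subgroup.centralizer (Cfsg.pCore p G : Set G) ≤ Cfsg.pCore p G) : (⨆ S : Sylow p G, Cfsg.omegaOne p (((S : Subgroup G)) ⊓ Subgroup.centralizer ((S : Subgroup G) : Set G))).Normal ∧ Cfsg.IsElementaryAbelian p (⨆ S : Sylow p G, Cfsg.omegaOne p (((S : Subgroup G)) ⊓ Subgroup.centralizer ((S : Subgroup G) : Set G))) ∧ ∀ D : Subgroup G, D.Normal → Subgroup.centralizer ((⨆ S : Sylow p G, Cfsg.omegaOne p (((S : Subgroup G)) ⊓ Subgroup.centralizer ((S : Subgroup G) : Set G)) : Subgroup G) :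 Set G) ≤ D → (∃ k : ℕ, (Subgroup.centralizer ((⨆ S : Sylow p G, Cfsg.omegaOne p (((S : Subgroup G)) ⊓ Subgroup.centralizer ((S : Subgroup G) : Set G)) : Subgroup G) : Set G)).relIndex D = p ^ k) → D = Subgroup.centralizer ((⨆ S : Sylow p G, Cfsg.omegaOne p (((S : Subgroup G)) ⊓ Subgroup.centralizer ((S : Subgroup G) : Set G)) : Subgroup G) : Set G) := by
  haveI : (Cfsg.pCore p G).Normal := Cfsg.Agent.Grp.pCore_isNormal
  set Z : Sylow p G → Subgroup G := fun S =>
    Cfsg.omegaOne p (((S : Subgroup G)) ⊓ Subgroup.centralizer ((S : Subgroup G) : Set G)) with hZ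
  set V := ⨆ S : Sylow p G, Z S with hV
  have hgenZ : ∀ S : Sylow p G, Z S ≤ (S : Subgroup G) ⊓ Subgroup.centralizer ((S : Subgroup G) : Set G) := fun S =>
    (Subgroup.closure_le _).2 fun x hx => hx.1
  have hZle : ∀ S : Sylow p G, Z S ≤ Cfsg.pCore p G ⊓ Subgroup.centralizer (Cfsg.pCore p G : Set G) := fun S => by
    have h1 : Z S ≤ Subgroup.centralizer (Cfsg.pCore p G : Set G) := (hgenZ S).trans (inf_le_right.trans
      (Subgroup.centralizer_le (Cfsg.Agent.Grp.pCore_le_sylow S)))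
    exact le_inf (h1.trans hc) h1
  have hVc : V ≤ Cfsg.pCore p G ⊓ Subgroup.centralizer (Cfsg.pCore p G : Set G) := iSup_le hZle
  have hab : ∀ x ∈ V, ∀ y ∈ V, x * y = y * x := fun x hx y hy => Subgroup.mem_centralizer_iff.1 (hVc hy).2 x (hVc hx).1
  have hexp : ∀ x ∈ V, x ^ p = 1 := by
    intro x hx
    let K : Subgroup G :=
      { carrier := {x | x ∈ V ∧ x ^ p = 1}
        one_mem' := ⟨one_mem _, one_pow _⟩
        mul_mem' := fun {a b} ha hb => ⟨mul_mem ha.1 hb.1, by
          rw [(show Commute a b from hab a ha.1 b hb.1).mul_pow, ha.2, hb.2, one_mul]⟩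
        inv_mem' := fun {a} ha => ⟨inv_mem ha.1, by rw [inv_pow, ha.2, inv_one]⟩ }
    have hle : V ≤ K := iSup_le fun S => (Subgroup.closure_le _).2 fun y hy =>
      ⟨le_iSup Z S (Subgroup.subset_closure hy), hy.2⟩
    exact (hle hx).2
  have hVn : V.Normal := by
    refine ⟨fun x hx g => ?_⟩
    have hle : V ≤ V.comap (MulAut.conj g).toMonoidHom := iSup_le fun S => by
      refine (Subgroup.closure_le _).2 fun y hy => ?_
      show g * y * g⁻¹ ∈ V
      refine le_iSup Z (g • S) (Subgroup.subset_closure ⟨⟨?_, ?_⟩, by rw [conj_pow, hy.2, mul_one, mul_inv_cancel]⟩)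
      · rw [Sylow.coe_subgroup_smul]
        exact Subgroup.smul_mem_pointwise_smul y (MulAut.conj g) _ hy.1.1
      · refine Subgroup.mem_centralizer_iff.2 fun z hz => ?_
        rw [Sylow.coe_subgroup_smul] at hz
        obtain ⟨w, hw, rfl⟩ := hz
        show g * w * g⁻¹ * (g * y * g⁻¹) = g * y * g⁻¹ * (g * w * g⁻¹)
        have hwy := Subgroup.mem_centralizer_iff.1 hy.1.2 w hw
        calc g * w * g⁻¹ * (g * y * g⁻¹) = g * (w * y) * g⁻¹ := by group
          _ = g * (y * w) * g⁻¹ := by rw [hwy]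
          _ = _ := by group
    exact hle hx
  have hVe : Cfsg.IsElementaryAbelian p V := ⟨⟨⟨fun a b => Subtype.ext (hab a a.2 b b.2)⟩⟩, hexp⟩
  refine ⟨hVn, hVe, fun D hD hle ⟨k, hk⟩ => le_antisymm ?_ hle⟩
  haveI := hVn
  haveI := hD
  have hgen : V = ⨆ S : Sylow p G, V ⊓ Subgroup.centralizer ((S : Subgroup G) : Set G) :=
    le_antisymm (iSup_mono fun S => le_inf (le_iSup Z S) ((hgenZ S).trans inf_le_right)) (iSup_le fun S => inf_le_left)
  have h0 := Cfsg.Agent.S0600.result V hVe hgen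
  set C := Subgroup.centralizer (V : Set G)
  have hp : IsPGroup p (D.map (QuotientGroup.mk' C)) := by
    refine IsPGroup.of_card (n := k) ?_
    let r : D →* D.map (QuotientGroup.mk' C) := (QuotientGroup.mk' C).subgroupMap D
    have h1 : r.ker = C.subgroupOf D := by
      ext u
      rw [MonoidHom.mem_ker, Subgroup.mem_subgroupOf, ← QuotientGroup.eq_one_iff]
      exact Subtype.ext_iff
    have h2 := Subgroup.index_ker r
    rw [h1, MonoidHom.range_eq_top.2 ((QuotientGroup.mk' C).subgroupMap_surjective D), Subgroup.card_top] at h2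
    exact h2.symm.trans hk
  have h3 := Cfsg.Agent.Grp.le_pCore (hD.map _ (QuotientGroup.mk'_surjective C)) hp
  rw [h0, le_bot_iff, Subgroup.map_eq_bot_iff, QuotientGroup.ker_mk'] at h3
  exact h3

end Cfsg.Agent.S0601
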