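import Cfsg.Statements.S0608
import Cfsg.Agent.Lib.Grp.Cores
import Mathlib

set_option maxHeartbeats 1000000
set_option maxRecDepth 8000

set_option autoImplicit false
open Cfsg

namespace Cfsg.Agent.S0608

/-- maximal elementary abelian subgroups of a Sylow subgroup are those of the group -/
theorem mem_maxEA_iff {G : Type*} [Group G] [Finite G] {p : ℕ} [Fact p.Prime] (S : Sylow p G) (A : Subgroup ↥(S : Subgroup G)) :
    A ∈ Cfsg.maxElementaryAbelianSubgroups p ↥(S : Subgroup G) ↔
      A.map (S : Subgroup G).subtype ∈ Cfsg.maxElementaryAbelianSubgroups p G := by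
  have hinj := (S : Subgroup G).subtype_injective
  have hcard : ∀ B : Subgroup ↥(S : Subgroup G), Nat.card (B.map (S : Subgroup G).subtype) = Nat.card B := fun B =>
    Subgroup.card_map_of_injective hinj
  have hEA : ∀ B : Subgroup ↥(S : Subgroup G), Cfsg.IsElementaryAbelian p (B.map (S : Subgroup G).subtype) ↔
      Cfsg.IsElementaryAbelian p B := fun B => by
    constructor
    · rintro ⟨h1, h2⟩
      refine ⟨⟨⟨fun a b => Subtype.ext (hinj ?_)⟩⟩, fun a ha => hinj ?_⟩
      · simp only [Subgroup.coe_mul, map_mul]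
        exact congrArg Subtype.val (h1.is_comm.comm ⟨_, Subgroup.mem_map_of_mem _ a.2⟩ ⟨_, Subgroup.mem_map_of_mem _ b.2⟩)
      · rw [map_pow, map_one]; exact h2 _ (Subgroup.mem_map_of_mem _ ha)
    · rintro ⟨h1, h2⟩
      refine ⟨⟨⟨?_⟩⟩, ?_⟩
      · rintro ⟨_, a, ha, rfl⟩ ⟨_, b, hb, rfl⟩
        exact Subtype.ext (congrArg (S : Subgroup G).subtype (congrArg Subtype.val (h1.is_comm.comm ⟨a, ha⟩ ⟨b, hb⟩)) |> fun h => by
          simpa using h)
      · rintro _ ⟨a, ha, rfl⟩
        rw [← map_pow, h2 a ha, map_one]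
  constructor
  · rintro ⟨h1, h2⟩
    refine ⟨(hEA A).2 h1, fun B hB => ?_⟩
    have hBp : IsPGroup p B := fun b => ⟨1, Subtype.ext (by rw [pow_one]; exact hB.2 b b.2)⟩
    obtain ⟨T, hT⟩ := hBp.exists_le_sylow
    obtain ⟨g, hg⟩ := MulAction.exists_smul_eq G T S
    set B' := B.map (MulAut.conj g).toMonoidHom with hB'
    have hle : B' ≤ (S : Subgroup G) := by
      rw [← hg]
      rintro _ ⟨b, hb, rfl⟩
      exact Subgroup.smul_mem_pointwise_smul b (MulAut.conj g) _ (hT hb)
    have hB'EA : Cfsg.IsElementaryAbelian p B' := by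
      refine ⟨⟨⟨?_⟩⟩, ?_⟩
      · rintro ⟨_, a, ha, rfl⟩ ⟨_, b, hb, rfl⟩
        refine Subtype.ext ?_
        show (MulAut.conj g).toMonoidHom a * (MulAut.conj g).toMonoidHom b = (MulAut.conj g).toMonoidHom b * (MulAut.conj g).toMonoidHom a
        rw [← map_mul, ← map_mul, show a * b = b * a from congrArg Subtype.val (hB.1.is_comm.comm ⟨a, ha⟩ ⟨b, hb⟩)]
      · rintro _ ⟨a, ha, rfl⟩
        rw [← map_pow, hB.2 a ha, map_one]
    have h3 := h2 (B'.subgroupOf (S : Subgroup G)) ((hEA _).1 (by rwa [Subgroup.map_subgroupOf_eq_of_le hle]))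
    rw [← hcard (B'.subgroupOf (S : Subgroup G)), Subgroup.map_subgroupOf_eq_of_le hle] at h3
    rw [hcard A, ← (show Nat.card B' = Nat.card B from Subgroup.card_map_of_injective (MulAut.conj g).injective)]
    exact h3
  · rintro ⟨h1, h2⟩
    refine ⟨(hEA A).1 h1, fun B hB => ?_⟩
    have := h2 _ ((hEA B).2 hB)
    rwa [hcard, hcard] at this


/-- With trivial p'-core, Thompson factorizability is equivalent to J(G) centralizing the subgroup generated by all Ω₁(Z(S)), S Sylow. -/
theorem result {G : Type*} [Group G] [Finite G] {p : ℕ} [Fact p.Prime] (hO : Cfsg.pPrimeCore p G = ⊥) : Cfsg.IsThompsonFactorizable p G ↔ Cfsg.thompsonSubgroup p G ≤ Subgroup.centralizer ((⨆ S : Sylow p G, Cfsg.omegaOne p (((S : Subgroup G)) ⊓ Subgroup.centralizer ((S : Subgroup G) : Set G)) : Subgroup G) : Set G) := by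

  set Z : Sylow p G → Subgroup G := fun S =>
    Cfsg.omegaOne p (((S : Subgroup G)) ⊓ Subgroup.centralizer ((S : Subgroup G) : Set G)) with hZ
  set V := ⨆ S : Sylow p G, Z S with hV
  have hconjZ : ∀ (g : G) (S : Sylow p G), ∀ z ∈ Z S, g * z * g⁻¹ ∈ Z (g • S) := by
    intro g S z hz
    have hle : Z S ≤ (Z (g • S)).comap (MulAut.conj g).toMonoidHom := (Subgroup.closure_le _).2 fun y hy => by
      refine Subgroup.subset_closure ⟨⟨Subgroup.smul_mem_pointwise_smul y (MulAut.conj g) _ hy.1.1, ?_⟩, ?_⟩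
      · refine Subgroup.mem_centralizer_iff.2 fun t ht => ?_
        obtain ⟨s, hs, rfl⟩ := ht
        show g * s * g⁻¹ * (g * y * g⁻¹) = g * y * g⁻¹ * (g * s * g⁻¹)
        have h1 : s * y = y * s := Subgroup.mem_centralizer_iff.1 hy.1.2 s hs
        calc g * s * g⁻¹ * (g * y * g⁻¹) = g * (s * y) * g⁻¹ := by group
          _ = _ := by rw [h1]; group
      · show ((MulAut.conj g).toMonoidHom y) ^ p = 1
        rw [← map_pow, hy.2, map_one]
    exact hle hz
  haveI hVn : V.Normal := ⟨fun v hv g => by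
    have hle : V ≤ V.comap (MulAut.conj g).toMonoidHom := iSup_le fun S z hz =>
      (le_iSup Z (g • S) : Z (g • S) ≤ V) (hconjZ g S z hz)
    exact hle hv⟩
  constructor
  · intro hfac
    refine sSup_le fun A hA => Subgroup.le_centralizer_iff.1 (iSup_le fun T => ?_)
    have hAp : IsPGroup p A := fun b => ⟨1, Subtype.ext (by rw [pow_one]; exact hA.1.2 b b.2)⟩
    obtain ⟨S, hS⟩ := hAp.exists_le_sylow
    have hAJ : A ≤ Cfsg.thompsonSubgroupOf p (S : Subgroup G) := by
      rw [← Subgroup.map_subgroupOf_eq_of_le hS]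
      exact Subgroup.map_mono (le_sSup ((mem_maxEA_iff S _).2 (by rwa [Subgroup.map_subgroupOf_eq_of_le hS])))
    obtain ⟨g, hg⟩ := MulAction.exists_smul_eq G S T
    subst hg
    obtain ⟨x, hx, c, hc, n, hn, hgx⟩ := hfac S g⁻¹
    rw [hO, Subgroup.mem_bot] at hx
    subst hx
    rw [one_mul] at hgx
    intro w hw
    refine Subgroup.mem_centralizer_iff.2 fun a ha => ?_
    have hz := hconjZ g⁻¹ (g • S) w hw
    rw [inv_smul_smul, inv_inv] at hz
    set z := g⁻¹ * w * g with hzdef
    have hw' : w = g * z * g⁻¹ := by rw [hzdef]; group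
    have hcz : z * c = c * z := Subgroup.mem_centralizer_iff.1 hc z hz
    have hJS : Cfsg.thompsonSubgroupOf p (S : Subgroup G) ≤ (S : Subgroup G) := Subgroup.map_subtype_le _
    have hna : n * a * n⁻¹ ∈ (S : Subgroup G) := hJS ((Subgroup.mem_normalizer_iff.1 hn a).1 (hAJ ha))
    have hzS : Z S ≤ Subgroup.centralizer ((S : Subgroup G) : Set G) := (Subgroup.closure_le _).2 fun y hy => hy.1.2
    have hza : n * a * n⁻¹ * z = z * (n * a * n⁻¹) := Subgroup.mem_centralizer_iff.1 (hzS hz) _ hna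
    have hw'' : w = n⁻¹ * z * n := by
      rw [hw', show g = n⁻¹ * c⁻¹ by rw [← mul_inv_rev, ← hgx, inv_inv]]
      calc n⁻¹ * c⁻¹ * z * (n⁻¹ * c⁻¹)⁻¹ = n⁻¹ * (c⁻¹ * (z * c)) * n := by group
        _ = _ := by rw [hcz]; group
    rw [hw'']
    calc a * (n⁻¹ * z * n) = n⁻¹ * (n * a * n⁻¹ * z) * n := by group
      _ = _ := by rw [hza]; group
  · intro hJ S g
    set C := Subgroup.centralizer (V : Set G) with hC
    haveI hCn : C.Normal := ⟨fun c hc g => Subgroup.mem_centralizer_iff.2 fun v hv => by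
      have h1 : g⁻¹ * v * g⁻¹⁻¹ ∈ V := hVn.conj_mem v hv g⁻¹
      have h2 := Subgroup.mem_centralizer_iff.1 hc _ h1
      calc v * (g * c * g⁻¹) = g * (g⁻¹ * v * g⁻¹⁻¹ * c) * g⁻¹ := by group
        _ = _ := by rw [h2]; group⟩
    let P : Sylow p C := (show IsPGroup p ↥((S : Subgroup G).subgroupOf C) from S.isPGroup'.comap_subtype).toSylow
      (Cfsg.Agent.Grp.sylow_inf_normal_relIndex S C)
    have hP : (S : Subgroup G).subgroupOf C = (P : Subgroup C) := rfl
    set D := (P : Subgroup C).map C.subtype with hD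
    have hDmem : ∀ y, y ∈ D ↔ y ∈ C ∧ y ∈ (S : Subgroup G) := fun y => by
      rw [hD, ← hP]
      exact ⟨fun ⟨t, ht, e⟩ => e ▸ ⟨t.2, ht⟩, fun h => ⟨⟨y, h.1⟩, h.2, rfl⟩⟩
    have htop := Sylow.normalizer_sup_eq_top P
    have hg : g ∈ C ⊔ Subgroup.normalizer (D : Set G) := by
      rw [sup_comm, hD, htop]; trivial
    rw [← SetLike.mem_coe, Subgroup.normal_mul] at hg
    obtain ⟨c, hc, n, hn, rfl⟩ := hg
    refine ⟨1, one_mem _, c, ?_, n, ?_, by rw [one_mul]⟩
    · exact Subgroup.centralizer_le (show Z S ≤ V from le_iSup Z S) hc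
    · have key : ∀ n ∈ Subgroup.normalizer (D : Set G), ∀ x ∈ Cfsg.thompsonSubgroupOf p (S : Subgroup G),
          n * x * n⁻¹ ∈ Cfsg.thompsonSubgroupOf p (S : Subgroup G) := by
        intro n hn
        have hle : Cfsg.thompsonSubgroupOf p (S : Subgroup G) ≤
            (Cfsg.thompsonSubgroupOf p (S : Subgroup G)).comap (MulAut.conj n).toMonoidHom := by
          refine Subgroup.map_le_iff_le_comap.2 (sSup_le fun A hA => ?_)
          rw [← Subgroup.map_le_iff_le_comap]
          set A₀ := A.map (S : Subgroup G).subtype with hA₀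
          have hA₀m := (mem_maxEA_iff S A).1 hA
          set A₁ := A₀.map (MulAut.conj n).toMonoidHom with hA₁
          have hA₀C : A₀ ≤ C := (le_sSup hA₀m).trans hJ
          have hA₁S : A₁ ≤ (S : Subgroup G) := by
            rintro _ ⟨a, ha, rfl⟩
            have : a ∈ D := (hDmem a).2 ⟨hA₀C ha, Subgroup.map_subtype_le _ ha⟩
            exact ((hDmem _).1 ((Subgroup.mem_normalizer_iff.1 hn a).1 this)).2
          have hA₁m : A₁ ∈ Cfsg.maxElementaryAbelianSubgroups p G := by
            refine ⟨⟨⟨⟨?_⟩⟩, ?_⟩, fun B hB => ?_⟩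
            · rintro ⟨_, a, ha, rfl⟩ ⟨_, b, hb, rfl⟩
              refine Subtype.ext ?_
              show (MulAut.conj n).toMonoidHom a * (MulAut.conj n).toMonoidHom b = (MulAut.conj n).toMonoidHom b * (MulAut.conj n).toMonoidHom a
              rw [← map_mul, ← map_mul, show a * b = b * a from congrArg Subtype.val (hA₀m.1.1.is_comm.comm ⟨a, ha⟩ ⟨b, hb⟩)]
            · rintro _ ⟨a, ha, rfl⟩
              rw [← map_pow, hA₀m.1.2 a ha, map_one]
            · rw [show Nat.card A₁ = Nat.card A₀ from Subgroup.card_map_of_injective (MulAut.conj n).injective]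
              exact hA₀m.2 B hB
          intro x hx
          have hx' : n * x * n⁻¹ ∈ (A₁.subgroupOf (S : Subgroup G)).map (S : Subgroup G).subtype := by
            rw [Subgroup.map_subgroupOf_eq_of_le hA₁S]
            exact ⟨x, hx, rfl⟩
          exact Subgroup.map_mono (le_sSup ((mem_maxEA_iff S _).2 (by rwa [Subgroup.map_subgroupOf_eq_of_le hA₁S]))) hx'
        exact fun x hx => hle hx
      exact Subgroup.mem_normalizer_iff.2 fun x => ⟨key n hn x, fun h => by
        simpa [mul_assoc] using key n⁻¹ (inv_mem hn) _ h⟩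

end Cfsg.Agent.S0608
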