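import Cfsg.Statements.S1141
import Mathlib
import Cfsg.Agent.Lib.Recog.SU3SylowBasic
-- import your own Cfsg.Agent.* helpers here

set_option autoImplicit false
open Cfsg

namespace Cfsg.Agent.S1141

/-- Let `q = 2^n ≥ 4` and `|F| = q²`. A Sylow 2-subgroup `S` of `PSU₃(q)` has order `q³`, its centre has order `q`, and `S` is a Suzuki 2-group. -/
theorem result {F : Type*} [Field F] [Fintype F] {n : ℕ} (hn : 2 ≤ n)
    (hF : Fintype.card F = (2 ^ n) ^ 2) (S : Sylow 2 (Cfsg.PSU 3 F (2 ^ n))) :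
    Nat.card S = (2 ^ n) ^ 3 ∧ Nat.card (Subgroup.center ↥(S : Subgroup (Cfsg.PSU 3 F (2 ^ n)))) = 2 ^ n ∧
      Cfsg.IsSuzukiTwoGroup ↥(S : Subgroup (Cfsg.PSU 3 F (2 ^ n))) := by
  open Cfsg.Agent.Recog.SU3Two in
  haveI := charP_two (m := n * 2) (hF.trans (pow_mul 2 n 2).symm)
  haveI : Fact (Fintype.card F = (2 ^ n) ^ 2) := ⟨hF⟩
  obtain ⟨e⟩ := Cfsg.Agent.Recog.SU3Two.sylow_psu (n := n) rfl (by omega) S
  refine ⟨?_, ?_, Cfsg.Agent.Recog.SU3Two.isSuzuki_congr e (Cfsg.Agent.Recog.SU3Two.UT.isSuzuki hn rfl)⟩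
  · rw [← Nat.card_congr e.toEquiv, Cfsg.Agent.Recog.SU3Two.UT.card]
  · rw [← Nat.card_congr (Subgroup.centerCongr e).toEquiv, Cfsg.Agent.Recog.SU3Two.UT.card_center]

end Cfsg.Agent.S1141
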