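import Cfsg.Statements.S3974
import Mathlib
import Cfsg.Agent.Lib.Grp.SchurM.Projective

set_option autoImplicit false
universe u v
open Cfsg

namespace Cfsg.Agent.S3974

/-- Let `Q` be a finite group with Schur multiplier `A`. Any two Schur covering groups of `Q` (finite stem extensions `σ₁ : Γ₁ →* Q`, `σ₂ : Γ₂ →* Q` with kernels isomorphic to `A`, `Γ₁, Γ₂` in the universe of `Q`) are isomorphic over `Q` — there is a group isomorphism `e : Γ₁ ≃* Γ₂` with `σ₂ ∘ e = σ₁` — if and only if the order of the commutator quotient of `Q` is coprime to the order of `A`. In particular a finite perfect group has a unique Schur covering group up to isomorphism over it. -/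
theorem result {Q : Type u} [Group Q] [Finite Q] {A : Type v} [CommGroup A] (hA : Cfsg.HasSchurMultiplier Q A) : (∀ (Γ₁ Γ₂ : Type u) [Group Γ₁] [Finite Γ₁] [Group Γ₂] [Finite Γ₂] (σ₁ : Γ₁ →* Q) (σ₂ : Γ₂ →* Q), Cfsg.IsStemExtension σ₁ → Cfsg.IsStemExtension σ₂ → Nonempty (σ₁.ker ≃* A) → Nonempty (σ₂.ker ≃* A) → ∃ e : Γ₁ ≃* Γ₂, σ₂.comp e.toMonoidHom = σ₁) ↔ Nat.Coprime (Nat.card (Abelianization Q)) (Nat.card A) := by
  classical
  let f := Agent.Grp.SchurM.std Q
  have hf := Agent.Grp.SchurM.std_surjective Q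
  set E := Agent.Grp.SchurM.UE f
  let ρ := Agent.Grp.SchurM.rho f
  let dg := Agent.Grp.SchurM.deg f
  set M := Agent.Grp.SchurM.mult f
  have hfinM := Agent.Grp.SchurM.finite_mult f
  obtain ⟨eA⟩ := Agent.Grp.SchurM.equiv_mult f hf hA
  have hfinA : Finite A := Finite.of_equiv _ eA.symm.toEquiv
  have hdc : ∀ c ∈ commutator E, dg c = 1 := fun c hc => (Agent.Grp.SchurM.mem_commutator_iff_deg f c).mp hc
  have hcomm : ∀ q : Q, q ∈ commutator Q → ∃ c ∈ commutator E, ρ c = q := by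
    intro q hq
    rw [commutator_def, ← Subgroup.map_top_of_surjective ρ (Agent.Grp.SchurM.rho_surjective f hf),
      ← Subgroup.map_commutator] at hq
    exact hq
  set d := Nat.card (Abelianization Q)
  constructor
  · intro hiso
    by_contra hnc
    obtain ⟨p, hp, hpd, hpA⟩ := Nat.Prime.not_coprime_iff_dvd.mp hnc
    have := Fact.mk hp
    obtain ⟨N, hN, hinf, hsup⟩ := Agent.Grp.SchurM.exists_complement f (Agent.Grp.SchurM.rel f) le_rfl
      (sup_eq_left.mpr (Agent.Grp.SchurM.mult_le_rel f))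
    have hNc : N ≤ Subgroup.center E := hN.trans (Agent.Grp.SchurM.rel_le_center f)
    let _ : CommGroup N := { (inferInstance : Group N) with
      mul_comm := fun a b => Subtype.ext (Subgroup.mem_center_iff.mp (hNc b.2) a) }
    let D : Additive N →ₗ[ℤ] (Q →₀ ℤ) := (MonoidHom.toAdditiveLeft (dg.comp N.subtype)).toIntLinearMap
    have hD : Function.Injective D := by
      rw [injective_iff_map_eq_zero]
      intro n hn
      have h1 : ((Additive.toMul n : N) : E) ∈ N ⊓ M := ⟨(Additive.toMul n).2, (Agent.Grp.SchurM.mem_mult_iff f _).mpr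
        ⟨hN (Additive.toMul n).2, congrArg Multiplicative.ofAdd hn⟩⟩
      rw [hinf, Subgroup.mem_bot] at h1
      exact congrArg Additive.ofMul (Subtype.ext h1 : Additive.toMul n = 1)
    -- an element of order p in the abelianization
    obtain ⟨a, ha⟩ := exists_prime_orderOf_dvd_card' (G := Abelianization Q) p hpd
    obtain ⟨q, rfl⟩ := QuotientGroup.mk'_surjective (commutator Q) a
    obtain ⟨x, rfl⟩ := Agent.Grp.SchurM.rho_surjective f hf q
    obtain ⟨c, hc, hce⟩ := hcomm (ρ x ^ p) ((QuotientGroup.eq_one_iff _).mp (by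
      show QuotientGroup.mk' (commutator Q) (Agent.Grp.SchurM.rho f x ^ p) = 1
      rw [map_pow, ← ha]; exact pow_orderOf_eq_one _))
    have hxr : x ^ p * c⁻¹ ∈ N ⊔ M := by
      rw [hsup]
      show ρ _ = 1
      rw [map_mul, map_pow, map_inv, hce, mul_inv_cancel]
    have : N.Normal := Agent.Grp.SchurM.normal_of_le_rel f N hN
    obtain ⟨n0, hn0, m0, hm0, he0⟩ := Subgroup.mem_sup_of_normal_left.mp hxr
    have hdn0 : dg n0 = dg x ^ p := by
      have h1 := congrArg dg he0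
      rwa [map_mul, ((Agent.Grp.SchurM.mem_mult_iff f m0).mp hm0).2, mul_one, map_mul, map_inv, hdc c hc, inv_one, mul_one, map_pow] at h1
    have hfree : Module.Free ℤ (Additive N) := Module.Free.of_equiv (LinearEquiv.ofInjective D hD).symm
    obtain ⟨⟨ι, bN⟩⟩ := Module.Free.exists_basis (R := ℤ) (M := Additive N)
    obtain ⟨i, hi⟩ : ∃ i, ¬ (p : ℤ) ∣ bN.repr (Additive.ofMul ⟨n0, hn0⟩) i := by
      by_contra hall
      push Not at hall
      choose w hw using hall
      set r := bN.repr (Additive.ofMul ⟨n0, hn0⟩)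
      let n' : Additive N := ∑ i ∈ r.support, w i • bN i
      have hn' : (p : ℤ) • n' = Additive.ofMul ⟨n0, hn0⟩ := by
        rw [Finset.smul_sum]
        conv_rhs => rw [← bN.linearCombination_repr (Additive.ofMul ⟨n0, hn0⟩), Finsupp.linearCombination_apply, Finsupp.sum]
        refine Finset.sum_congr rfl fun i _ => ?_
        rw [smul_smul, ← hw i]
      have h1 : D n' = Multiplicative.toAdd (dg x) := by
        refine smul_right_injective _ (show (p : ℤ) ≠ 0 by exact_mod_cast hp.ne_zero) ?_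
        show (p : ℤ) • D n' = (p : ℤ) • Multiplicative.toAdd (dg x)
        rw [← map_smul, hn', natCast_zsmul, ← toAdd_pow, ← hdn0]
        rfl
      have h2 : x * ((Additive.toMul n' : N) : E)⁻¹ ∈ commutator E := (Agent.Grp.SchurM.mem_commutator_iff_deg f _).mpr (by
        rw [map_mul, map_inv, mul_inv_eq_one]
        exact congrArg Multiplicative.ofAdd h1.symm)
      have h3 := Subgroup.mem_map_of_mem ρ h2
      rw [map_mul, map_inv, show ρ ((Additive.toMul n' : N) : E) = 1 from hN (Additive.toMul n').2, inv_one, mul_one,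
        commutator_def, Subgroup.map_commutator] at h3
      have h4 : QuotientGroup.mk' (commutator Q) (ρ x) = 1 :=
        (QuotientGroup.eq_one_iff _).mpr (Subgroup.commutator_mono le_top le_top h3)
      exact hp.one_lt.ne ((orderOf_eq_one_iff.mpr h4).symm.trans ha)
    obtain ⟨μ, hμ⟩ : ∃ μ : M, ∀ y : M, y ^ p ≠ μ := by
      by_contra hall
      push Not at hall
      have hinj := Finite.injective_iff_surjective.mpr (fun μ => hall μ : Function.Surjective fun y : M => y ^ p)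
      obtain ⟨z, hz⟩ := exists_prime_orderOf_dvd_card' (G := M) p (by rwa [← Nat.card_congr eA.toEquiv])
      have h1 : z = 1 := hinj (show z ^ p = 1 ^ p by rw [one_pow, ← hz, pow_orderOf_eq_one])
      rw [h1, orderOf_one] at hz
      exact hp.one_lt.ne hz
    let ψl : Additive N →ₗ[ℤ] Additive M := bN.constr ℤ fun j => if j = i then Additive.ofMul μ else 0
    let ψ : N →* M := AddMonoidHom.toMultiplicative ψl.toAddMonoidHom
    have hψ : ψ ⟨n0, hn0⟩ = μ ^ (bN.repr (Additive.ofMul ⟨n0, hn0⟩) i) := by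
      have h1 : ψl (Additive.ofMul ⟨n0, hn0⟩) = bN.repr (Additive.ofMul ⟨n0, hn0⟩) i • Additive.ofMul μ := by
        rw [show ψl = _ from rfl, Module.Basis.constr_apply, Finsupp.sum, Finset.sum_eq_single i]
        · simp
        · intro j _ hj; simp [hj]
        · intro hj; simp [Finsupp.notMem_support_iff.mp hj]
      exact congrArg Additive.toMul h1
    have hψp : ∀ y : M, y ^ p ≠ ψ ⟨n0, hn0⟩ := by
      intro y hy
      rw [hψ] at hy
      obtain ⟨u, v, huv⟩ := (Nat.prime_iff_prime_int.mp hp).coprime_iff_not_dvd.mpr hi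
      refine hμ (μ ^ u * y ^ v) ?_
      rw [mul_pow, ← zpow_natCast, ← zpow_natCast, ← zpow_mul, ← zpow_mul, mul_comm v, zpow_mul y, zpow_natCast y, hy,
        ← zpow_mul, ← zpow_add, mul_comm (bN.repr _ i) v, huv, zpow_one]
    let tw : N →* E := MonoidHom.mk' (fun n => (n : E) * ((ψ n : M) : E)) fun a b => by
      rw [map_mul, Subgroup.coe_mul, Subgroup.coe_mul, mul_assoc (a : E), ← mul_assoc (b : E),
        Subgroup.mem_center_iff.mp (Agent.Grp.SchurM.mult_le_center f (ψ a).2) (b : E), mul_assoc, ← mul_assoc (a : E)]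
    set N' := tw.range
    have hN' : N' ≤ Agent.Grp.SchurM.rel f := by
      rintro _ ⟨n, rfl⟩
      exact mul_mem (hN n.2) (Agent.Grp.SchurM.mult_le_rel f (ψ n).2)
    have hinf' : N' ⊓ M = ⊥ := by
      rw [eq_bot_iff]
      rintro _ ⟨⟨n, rfl⟩, hm⟩
      have h1 : (n : E) ∈ N ⊓ M := ⟨n.2, by
        have := M.mul_mem hm (M.inv_mem (ψ n).2)
        simpa [tw] using this⟩
      rw [hinf, Subgroup.mem_bot] at h1
      have h2 : n = 1 := Subtype.ext h1
      rw [h2, map_one]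
      exact one_mem _
    have hsup' : N' ⊔ M = Agent.Grp.SchurM.rel f := by
      refine le_antisymm (sup_le hN' (Agent.Grp.SchurM.mult_le_rel f)) ?_
      rw [← hsup]
      refine sup_le (fun n hn => ?_) le_sup_right
      have h1 := Subgroup.mul_mem_sup (S := N') (T := M) (⟨⟨n, hn⟩, rfl⟩ : tw ⟨n, hn⟩ ∈ N') (inv_mem (ψ ⟨n, hn⟩).2)
      simpa [tw] using h1
    have : N'.Normal := Agent.Grp.SchurM.normal_of_le_rel f N' hN'
    obtain ⟨f1, s1, ⟨k1⟩⟩ := Agent.Grp.SchurM.cover f N hN hinf hsup hf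
    obtain ⟨f2, s2, ⟨k2⟩⟩ := Agent.Grp.SchurM.cover f N' hN' hinf' hsup' hf
    obtain ⟨e, he⟩ := hiso _ _ _ _ s1 s2 ⟨k1.trans eA.symm⟩ ⟨k2.trans eA.symm⟩
    set σ' := QuotientGroup.lift N' (Agent.Grp.SchurM.rho f) hN'
    let m' : E →* E ⧸ N' := QuotientGroup.mk' N'
    let γ : E →* E ⧸ N' := e.toMonoidHom.comp (QuotientGroup.mk' N)
    have hmem : ∀ y, (m' y)⁻¹ * γ y ∈ σ'.ker := fun y => by
      rw [MonoidHom.mem_ker, map_mul, map_inv]
      show (ρ y)⁻¹ * (σ'.comp e.toMonoidHom) (QuotientGroup.mk' N y) = 1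
      rw [he]
      exact inv_mul_cancel _
    let _ : CommGroup σ'.ker := { (inferInstance : Group σ'.ker) with
      mul_comm := fun a b => Subtype.ext (Subgroup.mem_center_iff.mp (s2.2.1 b.2) a) }
    let δ : E →* σ'.ker := MonoidHom.mk' (fun y => ⟨_, hmem y⟩) fun a b => Subtype.ext (by
      show (m' (a * b))⁻¹ * γ (a * b) = (m' a)⁻¹ * γ a * ((m' b)⁻¹ * γ b)
      have h := Subgroup.mem_center_iff.mp (s2.2.1 (hmem a)) (m' b)⁻¹
      calc (m' (a * b))⁻¹ * γ (a * b) = (m' b)⁻¹ * ((m' a)⁻¹ * γ a) * γ b := by rw [map_mul, map_mul]; group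
        _ = (m' a)⁻¹ * γ a * (m' b)⁻¹ * γ b := by rw [h]
        _ = (m' a)⁻¹ * γ a * ((m' b)⁻¹ * γ b) := by group)
    have hker : σ'.ker = M.map m' := by
      refine le_antisymm (fun y hy => ?_) ?_
      · obtain ⟨z, rfl⟩ := QuotientGroup.mk'_surjective N' y
        have hz : z ∈ N' ⊔ M := hsup' ▸ hy
        obtain ⟨u, hu, w, hw, rfl⟩ := Subgroup.mem_sup_of_normal_left.mp hz
        exact ⟨w, hw, by rw [map_mul, show QuotientGroup.mk' N' u = 1 from (QuotientGroup.eq_one_iff u).mpr hu, one_mul]⟩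
      · rintro _ ⟨w, hw, rfl⟩
        exact hw.1
    obtain ⟨w, hw, hwe⟩ : (δ x : E ⧸ N') ∈ M.map m' := hker ▸ (δ x).2
    refine hψp ⟨w, hw⟩ (Subtype.ext ?_)
    show w ^ p = (ψ ⟨n0, hn0⟩ : E)
    have hδc : ∀ z ∈ commutator E, δ z = 1 := fun z hz => Abelianization.commutator_subset_ker δ hz
    have h5 : δ n0 = δ x ^ p := by
      have h6 : n0 * (x ^ p)⁻¹ ∈ commutator E := (Agent.Grp.SchurM.mem_commutator_iff_deg f _).mpr (by
        rw [map_mul, map_inv, map_pow, ← hdn0, mul_inv_cancel])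
      have h7 := hδc _ h6
      rw [map_mul, map_inv, map_pow, mul_inv_eq_one] at h7
      exact h7
    have h8 : (δ n0 : E ⧸ N') = m' (ψ ⟨n0, hn0⟩ : E) := by
      show (m' n0)⁻¹ * e (QuotientGroup.mk' N n0) = _
      rw [show QuotientGroup.mk' N n0 = 1 from (QuotientGroup.eq_one_iff n0).mpr hn0, map_one, mul_one,
        inv_eq_iff_mul_eq_one, ← map_mul]
      exact (QuotientGroup.eq_one_iff _).mpr ⟨⟨n0, hn0⟩, rfl⟩
    rw [h5, SubmonoidClass.coe_pow, ← hwe, ← map_pow] at h8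
    have h9 : w ^ p * ((ψ ⟨n0, hn0⟩ : M) : E)⁻¹ ∈ N' ⊓ M := ⟨(QuotientGroup.eq_one_iff _).mp (by
      rw [← QuotientGroup.mk'_apply, map_mul, map_inv]; exact mul_inv_eq_one.mpr h8), M.mul_mem (M.pow_mem hw p) (M.inv_mem (ψ _).2)⟩
    rw [hinf', Subgroup.mem_bot, mul_inv_eq_one] at h9
    exact h9
  · intro hcop Γ₁ Γ₂ _ _ _ _ σ₁ σ₂ h₁ h₂ ⟨k₁⟩ ⟨k₂⟩
    obtain ⟨β₁, hβ₁⟩ := Agent.Grp.SchurM.exists_lift f (MonoidHom.id Q) σ₁ h₁.1 h₁.2.1
    obtain ⟨β₂, hβ₂⟩ := Agent.Grp.SchurM.exists_lift f (MonoidHom.id Q) σ₂ h₂.1 h₂.2.1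
    rw [MonoidHom.id_comp] at hβ₁ hβ₂
    have hs₁ := Agent.Grp.SchurM.lift_surjective f hf σ₁ h₁ β₁ hβ₁
    set N := β₁.ker
    have hN : N ≤ Agent.Grp.SchurM.rel f := fun x hx => by
      show ρ x = 1
      rw [show ρ = σ₁.comp β₁ from hβ₁.symm, MonoidHom.comp_apply, MonoidHom.mem_ker.mp hx, map_one]
    have hmap₁ := Agent.Grp.SchurM.map_mult f hf σ₁ h₁.2.1 β₁ hβ₁
    rw [inf_eq_left.mpr h₁.2.2] at hmap₁
    let p₁ : M →* σ₁.ker := (β₁.comp M.subtype).codRestrict σ₁.ker fun m => (le_of_eq hmap₁) (Subgroup.mem_map_of_mem β₁ m.2)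
    have hp₁ : Function.Surjective p₁ := fun k => by
      obtain ⟨m, hm, hme⟩ := (ge_of_eq hmap₁) k.2
      exact ⟨⟨m, hm⟩, Subtype.ext hme⟩
    have hp₁i : Function.Injective p₁ :=
      ((Nat.bijective_iff_surjective_and_card p₁).mpr ⟨hp₁, (Nat.card_congr (k₁.trans eA).toEquiv).symm⟩).1
    have hex : ∀ x : E, ∃ n : N, dg n = dg x ^ d := by
      intro x
      obtain ⟨c, hc, hce⟩ := hcomm (ρ x ^ d) ((QuotientGroup.eq_one_iff _).mp (by
        rw [← QuotientGroup.mk'_apply, map_pow]; exact pow_card_eq_one'))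
      have hr : x ^ d * c⁻¹ ∈ Agent.Grp.SchurM.rel f := by
        show ρ _ = 1
        rw [map_mul, map_pow, map_inv, hce, mul_inv_cancel]
      have h1 : β₁ (x ^ d * c⁻¹) ∈ M.map β₁ := by
        rw [hmap₁]
        show σ₁ (β₁ _) = 1
        rw [← MonoidHom.comp_apply, hβ₁]; exact hr
      obtain ⟨m, hm, hme⟩ := h1
      refine ⟨⟨x ^ d * c⁻¹ * m⁻¹, by rw [MonoidHom.mem_ker, map_mul, map_inv, hme, mul_inv_cancel]⟩, ?_⟩
      show dg (x ^ d * c⁻¹ * m⁻¹) = _
      rw [map_mul, map_mul, map_inv, map_inv, hdc c hc, ((Agent.Grp.SchurM.mem_mult_iff f m).mp hm).2, map_pow, inv_one, mul_one, mul_one]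
    have hun : ∀ n n' : N, dg n = dg n' → n = n' := by
      intro n n' h
      have h1 : (n : E) * (n' : E)⁻¹ ∈ M := (Agent.Grp.SchurM.mem_mult_iff f _).mpr
        ⟨mul_mem (hN n.2) (inv_mem (hN n'.2)), by rw [map_mul, map_inv]; exact mul_inv_eq_one.mpr h⟩
      have h2 : p₁ ⟨_, h1⟩ = p₁ 1 := by
        rw [map_one]
        refine Subtype.ext ?_
        show β₁ ((n : E) * (n' : E)⁻¹) = 1
        rw [map_mul, map_inv, MonoidHom.mem_ker.mp n.2, MonoidHom.mem_ker.mp n'.2, inv_one, mul_one]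
      exact Subtype.ext (mul_inv_eq_one.mp (congrArg Subtype.val (hp₁i h2) : (n : E) * (n' : E)⁻¹ = 1))
    choose ξ hξ using hex
    let Ξ : E →* N := MonoidHom.mk' ξ fun a b => hun _ _ (by
      rw [hξ, Subgroup.coe_mul, map_mul dg (ξ a : E), hξ, hξ, map_mul, mul_pow])
    let _ : CommGroup σ₂.ker := { (inferInstance : Group σ₂.ker) with
      mul_comm := fun a b => Subtype.ext (Subgroup.mem_center_iff.mp (h₂.2.1 b.2) a) }
    let η : E →* σ₂.ker := ((β₂.comp N.subtype).codRestrict σ₂.ker fun n => by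
      show σ₂ (β₂ (n : E)) = 1
      rw [← MonoidHom.comp_apply, hβ₂]; exact hN n.2).comp Ξ
    obtain ⟨t, ht⟩ : ∃ t : ℕ, ∀ k : σ₂.ker, (k ^ d) ^ t = k := by
      obtain ⟨u, v, huv⟩ := Int.isCoprime_iff_nat_coprime.mpr
        (show Nat.Coprime (Int.natAbs (d : ℤ)) (Int.natAbs (Nat.card A : ℤ)) by simpa using hcop)
      refine ⟨(u % (Nat.card A : ℤ)).toNat, fun k => ?_⟩
      have hk : k ^ (Nat.card A : ℤ) = 1 := by rw [zpow_natCast, ← Nat.card_congr k₂.toEquiv]; exact pow_card_eq_one'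
      have hpos : (0 : ℤ) ≤ u % (Nat.card A : ℤ) := Int.emod_nonneg _ (by exact_mod_cast (Nat.card_pos (α := A)).ne')
      rw [← pow_mul, ← zpow_natCast, Nat.cast_mul, Int.toNat_of_nonneg hpos,
        show (d : ℤ) * (u % (Nat.card A : ℤ)) = 1 + (Nat.card A : ℤ) * (-v - d * (u / (Nat.card A : ℤ))) by
          rw [Int.emod_def]; linear_combination huv,
        zpow_add, zpow_one, zpow_mul, hk, one_zpow, mul_one]
    let β : E →* Γ₂ := MonoidHom.mk' (fun x => β₂ x * ((η x ^ t : σ₂.ker) : Γ₂)⁻¹) fun a b => by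
      have h := Subgroup.mem_center_iff.mp (inv_mem (h₂.2.1 (η a ^ t).2)) (β₂ b)
      rw [map_mul, map_mul, mul_pow, mul_comm (η a ^ t), Subgroup.coe_mul, mul_inv_rev, mul_assoc, ← mul_assoc (β₂ b), h]
      group
    have hβ : σ₂.comp β = ρ := MonoidHom.ext fun x => by
      show σ₂ (β₂ x * ((η x ^ t : σ₂.ker) : Γ₂)⁻¹) = ρ x
      rw [map_mul, map_inv, MonoidHom.mem_ker.mp (η x ^ t).2, inv_one, mul_one, ← MonoidHom.comp_apply, hβ₂]
    have hs := Agent.Grp.SchurM.lift_surjective f hf σ₂ h₂ β hβ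
    have hle : β₁.ker ≤ β.ker := fun x hx => by
      have h1 : Ξ x = ⟨x, hx⟩ ^ d := hun _ _ (by
        show dg (ξ x) = _
        rw [hξ, SubmonoidClass.coe_pow, map_pow])
      show β₂ x * ((η x ^ t : σ₂.ker) : Γ₂)⁻¹ = 1
      have hmem : β₂ x ∈ σ₂.ker := by
        rw [MonoidHom.mem_ker, ← MonoidHom.comp_apply, hβ₂]; exact hN hx
      have h2 : η x = (⟨β₂ x, hmem⟩ : σ₂.ker) ^ d := Subtype.ext (by
        show β₂ ((Ξ x : N) : E) = _
        rw [h1, SubmonoidClass.coe_pow, map_pow, SubmonoidClass.coe_pow])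
      rw [h2, ht]
      exact mul_inv_cancel _
    let e := β₁.liftOfSurjective hs₁ ⟨β, hle⟩
    have hes : Function.Surjective e := fun g => by
      obtain ⟨x, rfl⟩ := hs g
      exact ⟨β₁ x, Agent.Grp.SchurM.liftOfSurjective_apply β₁ hs₁ β hle x⟩
    have hcard : ∀ {Γ : Type u} [Group Γ] [Finite Γ] (σ : Γ →* Q), Function.Surjective σ →
        Nat.card Γ = Nat.card Q * Nat.card σ.ker := fun σ hσ => by
      rw [Subgroup.card_eq_card_quotient_mul_card_subgroup σ.ker, Nat.card_congr (QuotientGroup.quotientKerEquivOfSurjective σ hσ).toEquiv]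
    refine ⟨MulEquiv.ofBijective e ((Nat.bijective_iff_surjective_and_card e).mpr ⟨hes, ?_⟩), MonoidHom.ext fun g => ?_⟩
    · rw [hcard σ₁ h₁.1, hcard σ₂ h₂.1, Nat.card_congr (k₁.trans k₂.symm).toEquiv]
    · obtain ⟨x, rfl⟩ := hs₁ g
      show σ₂ (e (β₁ x)) = σ₁ (β₁ x)
      rw [Agent.Grp.SchurM.liftOfSurjective_apply β₁ hs₁ β hle x, ← MonoidHom.comp_apply, hβ, ← MonoidHom.comp_apply σ₁, hβ₁]

end Cfsg.Agent.S3974
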