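import Cfsg.Statements.S4211
import Cfsg.Agent.Lib.Transfer.MaxClass
import Cfsg.Agent.Lib.Grp.Cores
import Cfsg.Agent.Lib.Transfer.TypeP
import Mathlib

set_option maxHeartbeats 1000000
set_option maxRecDepth 8000

set_option autoImplicit false
open Cfsg
open scoped Pointwise

namespace Cfsg.Agent.S4211

theorem exists_zpow {G : Type*} [Group G] (hn : ∀ H : Subgroup G, H.Normal) (g a : G) : ∃ i : ℤ, a ^ i = g * a * g⁻¹ :=
  (hn (Subgroup.zpowers a)).conj_mem a (Subgroup.mem_zpowers a) g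

theorem key_pair {G : Type*} [Group G] [Finite G] (hn : ∀ H : Subgroup G, H.Normal) {p : ℕ} [hp : Fact p.Prime]
    {x y : G} (hx : ∃ a, orderOf x = p ^ a) (hy : ∃ b, orderOf y = p ^ b) (hne : x * y ≠ y * x)
    (hmin : ∀ u v : G, (∃ a, orderOf u = p ^ a) → (∃ b, orderOf v = p ^ b) → u * v ≠ v * u →
      orderOf x + orderOf y ≤ orderOf u + orderOf v) :
    p = 2 ∧ orderOf x = 4 ∧ x * x = y * y ∧ y * x * y⁻¹ = x⁻¹ := by
  classical
  wlog hle : orderOf y ≤ orderOf x generalizing x y with H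
  · obtain ⟨h1, h2, h3, h4⟩ := H hy hx (Ne.symm hne) (fun u v hu hv huv => by rw [add_comm]; exact hmin u v hu hv huv) (le_of_not_ge hle)
    subst h1
    have hy4 : orderOf y = 4 := h2
    exfalso
    apply hle
    have hxx : orderOf (x ^ 2) = 2 := by
      rw [pow_two, ← h3, ← pow_two, orderOf_pow, hy4]; rfl
    obtain ⟨a, ha⟩ := hx
    rw [orderOf_pow, ha] at hxx
    rw [hy4, ha]
    match a, hxx with
    | 0, h => simp at h
    | 1, h => simp at h
    | 2, _ => simp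
    | n + 3, h =>
      rw [Nat.gcd_eq_right (dvd_pow_self 2 (by omega))] at h
      have : 4 ≤ 2 ^ (n + 2) := by
        calc 4 = 2 ^ 2 := rfl
          _ ≤ _ := Nat.pow_le_pow_right (by norm_num) (by omega)
      rw [pow_succ, Nat.mul_div_cancel _ (by norm_num)] at h
      omega
  obtain ⟨a, ha⟩ := hx
  obtain ⟨b, hb⟩ := hy
  obtain ⟨r, hr⟩ := exists_zpow hn y x
  obtain ⟨s, hs⟩ := exists_zpow hn x y
  -- the commutator
  set c := x * y * x⁻¹ * y⁻¹ with hc
  have hcx : c = x ^ (1 - r) := by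
    have e : c = x * (y * x * y⁻¹)⁻¹ := by rw [hc]; group
    rw [e, ← hr, zpow_sub, zpow_one]
  have hcy : c = y ^ (s - 1) := by
    have e : c = (x * y * x⁻¹) * y⁻¹ := hc
    rw [e, ← hs, zpow_sub, zpow_one]
  have hc1 : c ≠ 1 := fun h => hne (by rw [hc, mul_inv_eq_one, mul_inv_eq_iff_eq_mul] at h; exact h)
  have hccx : Commute c x := hcx ▸ (Commute.refl x).zpow_left _
  have hccy : Commute c y := hcy ▸ (Commute.refl y).zpow_left _
  have hswap : y * x = c⁻¹ * (x * y) := by rw [hc]; group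
  have hconj : ∀ i : ℕ, x ^ i * y * (x ^ i)⁻¹ = c ^ i * y := fun i => by
    induction i with
    | zero => simp
    | succ i ih =>
      calc x ^ (i + 1) * y * (x ^ (i + 1))⁻¹ = x * (x ^ i * y * (x ^ i)⁻¹) * x⁻¹ := by group
        _ = x * (c ^ i * y) * x⁻¹ := by rw [ih]
        _ = (x * c ^ i) * y * x⁻¹ := by group
        _ = (c ^ i * x) * y * x⁻¹ := by rw [(hccx.pow_left i).eq]
        _ = c ^ i * (c * y) := by rw [hc]; group
        _ = _ := by group
  have ha1 : a ≠ 0 := by rintro rfl; rw [pow_zero, orderOf_eq_one_iff] at ha; exact hne (by simp [ha])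
  have hb1 : b ≠ 0 := by rintro rfl; rw [pow_zero, orderOf_eq_one_iff] at hb; exact hne (by simp [hb])
  obtain ⟨a, rfl⟩ := Nat.exists_eq_succ_of_ne_zero ha1
  obtain ⟨b, rfl⟩ := Nat.exists_eq_succ_of_ne_zero hb1
  change orderOf x = p ^ (a + 1) at ha
  change orderOf y = p ^ (b + 1) at hb
  -- `c` has order `p`
  have hcp : c ^ p = 1 := by
    by_contra h
    have h1 : orderOf (x ^ p) = p ^ a := by
      rw [orderOf_pow, ha, Nat.gcd_eq_right (dvd_pow_self p (Nat.succ_ne_zero a)), pow_succ, Nat.mul_div_cancel _ hp.out.pos]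
    have h2 : x ^ p * y ≠ y * x ^ p := fun e => h (by
      have := hconj p
      rw [e, mul_inv_cancel_right] at this
      exact (right_eq_mul.1 this))
    have := hmin (x ^ p) y ⟨a, h1⟩ ⟨b + 1, hb⟩ h2
    rw [h1, ha] at this
    have := Nat.pow_lt_pow_right hp.out.one_lt (show a < a + 1 by omega)
    omega
  have hco : orderOf c = p := orderOf_eq_prime hcp hc1
  have hmulpow : ∀ (i m : ℕ), (y * x ^ i) ^ m = y ^ m * x ^ (i * m) * c ^ (i * m.choose 2) := fun i m => by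
    induction m with
    | zero => simp
    | succ m ih =>
      have e1 : x ^ (i * m) * y = c ^ (i * m) * y * x ^ (i * m) := by rw [← hconj]; group
      have hcy' : ∀ k, Commute (c ^ k) y := fun k => hccy.pow_left k
      have hcx' : ∀ k l, Commute (c ^ k) (x ^ l) := fun k l => hccx.pow_pow k l
      rw [pow_succ, ih, show (m + 1).choose 2 = m.choose 2 + m by
        rw [Nat.choose_succ_succ' m 1, Nat.choose_one_right, add_comm], Nat.mul_add i (m.choose 2) m, pow_add c]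
      calc y ^ m * x ^ (i * m) * c ^ (i * m.choose 2) * (y * x ^ i)
          = y ^ m * x ^ (i * m) * (c ^ (i * m.choose 2) * y) * x ^ i := by group
        _ = y ^ m * x ^ (i * m) * (y * c ^ (i * m.choose 2)) * x ^ i := by rw [(hcy' _).eq]
        _ = y ^ m * (x ^ (i * m) * y) * (c ^ (i * m.choose 2) * x ^ i) := by group
        _ = y ^ m * (c ^ (i * m) * y * x ^ (i * m)) * (x ^ i * c ^ (i * m.choose 2)) := by rw [e1, (hcx' _ _).eq]
        _ = y ^ m * (y * c ^ (i * m)) * x ^ (i * m) * x ^ i * c ^ (i * m.choose 2) := by rw [(hcy' _).eq]; group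
        _ = y ^ (m + 1) * (c ^ (i * m) * x ^ (i * m + i)) * c ^ (i * m.choose 2) := by rw [pow_add]; group
        _ = y ^ (m + 1) * (x ^ (i * m + i) * c ^ (i * m)) * c ^ (i * m.choose 2) := by rw [(hcx' _ _).eq]
        _ = _ := by rw [show i * (m + 1) = i * m + i by ring]; group
  -- `y ^ (p ^ b)` is a power of `x ^ (p ^ a)`
  have hpb : b ≤ a := by
    rw [ha, hb] at hle
    have := (Nat.pow_le_pow_iff_right hp.out.one_lt).1 hle
    omega
  have hyb : ∃ u : ℕ, y ^ p ^ b = x ^ (u * p ^ a) := by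
    have hx1 : orderOf (x ^ p ^ a) = p := by
      rw [orderOf_pow, ha, Nat.gcd_eq_right (pow_dvd_pow p (Nat.le_succ a)), pow_succ, Nat.mul_div_cancel_left _ (pow_pos hp.out.pos a)]
    have hy1 : orderOf (y ^ p ^ b) = p := by
      rw [orderOf_pow, hb, Nat.gcd_eq_right (pow_dvd_pow p (Nat.le_succ b)), pow_succ, Nat.mul_div_cancel_left _ (pow_pos hp.out.pos b)]
    have mem_of : ∀ {z w : G} {m : ℕ}, orderOf z = p ^ (m + 1) → orderOf w = p → w ∈ Subgroup.zpowers z →
        w ∈ Subgroup.zpowers (z ^ p ^ m) := by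
      intro z w m hz hw hwz
      obtain ⟨k, hk⟩ := hwz
      simp only at hk
      have : ((p : ℤ) ^ (m + 1)) ∣ k * p := by
        have h : z ^ (k * p) = 1 := by rw [zpow_mul, hk, zpow_natCast, ← hw, pow_orderOf_eq_one]
        have := orderOf_dvd_iff_zpow_eq_one.2 h
        rwa [hz, Nat.cast_pow] at this
      rw [pow_succ] at this
      obtain ⟨l, hl⟩ := (mul_dvd_mul_iff_right (show (p : ℤ) ≠ 0 by exact_mod_cast hp.out.ne_zero)).1 this
      exact ⟨l, by simp only; rw [← zpow_natCast, ← zpow_mul, ← hk, hl]; push_cast; ring_nf⟩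
    have hcx1 : c ∈ Subgroup.zpowers (x ^ p ^ a) := mem_of ha hco (hcx ▸ ⟨_, rfl⟩)
    have hcy1 : c ∈ Subgroup.zpowers (y ^ p ^ b) := mem_of hb hco (hcy ▸ ⟨_, rfl⟩)
    have e1 : Subgroup.zpowers c = Subgroup.zpowers (y ^ p ^ b) :=
      Subgroup.eq_of_le_of_card_ge (Subgroup.zpowers_le.2 hcy1) (by rw [Nat.card_zpowers, Nat.card_zpowers, hy1, hco])
    have e2 : Subgroup.zpowers c = Subgroup.zpowers (x ^ p ^ a) :=
      Subgroup.eq_of_le_of_card_ge (Subgroup.zpowers_le.2 hcx1) (by rw [Nat.card_zpowers, Nat.card_zpowers, hx1, hco])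
    have h := (e2 ▸ e1 ▸ Subgroup.mem_zpowers (y ^ p ^ b) : y ^ p ^ b ∈ Subgroup.zpowers (x ^ p ^ a))
    rw [mem_zpowers_iff_mem_range_orderOf] at h
    obtain ⟨u, -, hu⟩ := Finset.mem_image.1 h
    exact ⟨u, by rw [← hu, ← pow_mul, mul_comm]⟩
  obtain ⟨u, hu⟩ := hyb
  set i := (p - 1) * (u * p ^ (a - b)) with hi
  have hpa : p ^ a = p ^ (a - b) * p ^ b := by rw [← pow_add, Nat.sub_add_cancel hpb]
  have hcancel : y ^ p ^ b * x ^ (i * p ^ b) = 1 := by
    rw [hu, ← pow_add, show u * p ^ a + i * p ^ b = (1 + (p - 1)) * (u * p ^ a) by rw [hi, hpa]; ring,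
      Nat.add_sub_cancel' hp.out.one_le]
    refine orderOf_dvd_iff_pow_eq_one.1 ?_
    rw [ha]
    exact ⟨u, by rw [pow_succ]; ring⟩
  have hcase : ¬ p ∣ i * (p ^ b).choose 2 := by
    intro hdvd
    have h1 : (y * x ^ i) ^ p ^ b = 1 := by
      rw [hmulpow, hcancel, one_mul]
      exact orderOf_dvd_iff_pow_eq_one.1 (hco ▸ hdvd)
    obtain ⟨k, hk, hk'⟩ := (Nat.dvd_prime_pow hp.out).1 (orderOf_dvd_of_pow_eq_one h1)
    have h2 : x * (y * x ^ i) ≠ (y * x ^ i) * x := by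
      intro e
      apply hne
      have : x * y * x ^ i = y * x * x ^ i := by
        calc x * y * x ^ i = x * (y * x ^ i) := by group
          _ = y * x ^ i * x := e
          _ = y * x * x ^ i := by rw [mul_assoc, ← pow_succ, mul_assoc, ← pow_succ']
      exact mul_right_cancel this
    have := hmin x (y * x ^ i) ⟨a + 1, ha⟩ ⟨k, hk'⟩ h2
    rw [hb, hk'] at this
    have := Nat.pow_lt_pow_right hp.out.one_lt (show k < b + 1 by omega)
    omega
  have hp2 : p = 2 ∧ b = 1 ∧ a = 1 := by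
    have hb0 : b ≠ 0 := by
      rintro rfl
      exact hcase (by simp)
    by_cases hp2 : p = 2
    · subst hp2
      refine ⟨rfl, ?_, ?_⟩
      · by_contra hne1
        refine hcase (Dvd.dvd.mul_left ?_ i)
        rw [Nat.choose_two_right, ← Nat.sub_add_cancel (show 1 ≤ b by omega), pow_succ, mul_comm _ 2, Nat.mul_assoc,
          Nat.mul_div_cancel_left _ (by norm_num)]
        exact Dvd.dvd.mul_right (dvd_pow_self 2 (by omega)) _
      · by_contra hne1
        refine hcase (Dvd.dvd.mul_right ?_ _)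
        rw [hi]
        refine Dvd.dvd.mul_left (Dvd.dvd.mul_left (dvd_pow_self 2 ?_) _) _
        intro h0
        have hb1' : b = 1 := by
          by_contra hne2
          refine hcase (Dvd.dvd.mul_left ?_ i)
          rw [Nat.choose_two_right, ← Nat.sub_add_cancel (show 1 ≤ b by omega), pow_succ, mul_comm _ 2, Nat.mul_assoc,
            Nat.mul_div_cancel_left _ (by norm_num)]
          exact Dvd.dvd.mul_right (dvd_pow_self 2 (by omega)) _
        omega
    · exfalso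
      exact hcase (Dvd.dvd.mul_left (hp.out.dvd_choose_pow (by norm_num) (by
        intro h
        have h3 : 3 ≤ p ^ b := le_trans (by have := hp.out.two_le; omega) (Nat.le_self_pow hb0 p)
        omega)) i)
  obtain ⟨rfl, rfl, rfl⟩ := hp2
  have hxx : orderOf (x * x) = 2 := by rw [← pow_two, orderOf_pow, ha]; rfl
  have hu1 : y * y = x * x := by
    have hyy : orderOf (y * y) = 2 := by rw [← pow_two, orderOf_pow, hb]; rfl
    have h : y * y = x ^ (u * 2) := by rw [← pow_two]; exact hu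
    rcases Nat.mod_two_eq_zero_or_one u with h0 | h1
    · exfalso
      rw [h, orderOf_eq_one_iff.2 (orderOf_dvd_iff_pow_eq_one.1 (by rw [ha]; omega))] at hyy
      omega
    · rw [h, ← pow_two]
      rw [pow_eq_pow_iff_modEq, ha]
      show (u * 2) % 4 = 2 % 4
      omega
  refine ⟨rfl, ha, hu1.symm, ?_⟩
  rw [← hr]
  have hrc : ∀ k : ℤ, x ^ k = x⁻¹ ↔ (4 : ℤ) ∣ k + 1 := fun k => by
    rw [← mul_eq_one_iff_eq_inv, ← zpow_add_one, ← orderOf_dvd_iff_zpow_eq_one, ha]
    norm_num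
  rw [hrc]
  have hr1 : ¬ (4 : ℤ) ∣ (1 - r) := fun h => hc1 (by
    rw [hcx, ← orderOf_dvd_iff_zpow_eq_one, ha]; simpa using h)
  have hr2 : (4 : ℤ) ∣ 2 * (1 - r) := by
    have h := hcp
    rw [hcx, ← zpow_natCast, ← zpow_mul, ← orderOf_dvd_iff_zpow_eq_one, ha] at h
    norm_num at h
    rwa [mul_comm]
  omega


/-- A finite non-abelian group in which every subgroup is normal is the internal direct product of a subgroup isomorphic to the quaternion group of order `8`, an elementary abelian `2`-subgroup and an abelian subgroup of odd order. -/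
theorem result {G : Type*} [Group G] [Finite G] (hna : ¬ IsMulCommutative G) (hn : ∀ H : Subgroup G, H.Normal) : ∃ Q E A : Subgroup G, Nonempty (Q ≃* QuaternionGroup 2) ∧ Cfsg.IsElementaryAbelian 2 E ∧ IsMulCommutative A ∧ Odd (Nat.card A) ∧ E ⊓ A = ⊥ ∧ Q ⊓ (E ⊔ A) = ⊥ ∧ Q ⊔ (E ⊔ A) = ⊤ := by

  classical
  have hnil : Group.IsNilpotent G := Cfsg.Agent.Grp.isNilpotent_iff_sylow_normal.2 fun p _ P => hn _
  haveI : Fact (Nat.Prime 2) := ⟨Nat.prime_two⟩
  have hcomm : ∀ (a b : G), (orderOf a).Coprime (orderOf b) → a * b = b * a := fun a b h =>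
    Cfsg.Agent.Transfer.TypeP.commute_of_coprime_orderOf (F := ⊤)
      (Group.nilpotent_of_mulEquiv Subgroup.topEquiv.symm) (Subgroup.mem_top a) (Subgroup.mem_top b) h
  -- minimal noncommuting pairs
  have hsyl : ∀ (p : ℕ) [Fact p.Prime], ¬ (∀ u v : G, (∃ a, orderOf u = p ^ a) → (∃ b, orderOf v = p ^ b) → u * v = v * u) →
      p = 2 ∧ ∃ x y : G, orderOf x = 4 ∧ x * x = y * y ∧ y * x * y⁻¹ = x⁻¹ := by
    intro p _ h
    push Not at h
    obtain ⟨u, v, hu, hv, huv⟩ := h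
    let T := {t : G × G // (∃ a, orderOf t.1 = p ^ a) ∧ (∃ b, orderOf t.2 = p ^ b) ∧ t.1 * t.2 ≠ t.2 * t.1}
    haveI : Nonempty T := ⟨⟨(u, v), hu, hv, huv⟩⟩
    obtain ⟨⟨⟨x, y⟩, hx, hy, hxy⟩, hmin⟩ := Finite.exists_min (fun t : T => orderOf t.1.1 + orderOf t.1.2)
    obtain ⟨h1, h2, h3, h4⟩ := key_pair hn hx hy hxy fun u' v' hu' hv' huv' => hmin ⟨(u', v'), hu', hv', huv'⟩
    exact ⟨h1, x, y, h2, h3, h4⟩
  obtain ⟨P⟩ : Nonempty (Sylow 2 G) := inferInstance
  haveI := hn (P : Subgroup G)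
  obtain ⟨A, hA⟩ := Subgroup.exists_right_complement'_of_coprime (N := (P : Subgroup G)) P.card_coprime_index
  have hAodd : Odd (Nat.card A) := by
    rw [← hA.symm.index_eq_card, Nat.odd_iff]
    have := P.not_dvd_index
    omega
  have h2el : ∀ g : G, (∃ a, orderOf g = 2 ^ a) → g ∈ (P : Subgroup G) := by
    rintro g ⟨a, hg⟩
    have hz : IsPGroup 2 (Subgroup.zpowers g) := IsPGroup.of_card (n := a) (by rw [Nat.card_zpowers, hg])
    obtain ⟨Q, hQ⟩ := hz.exists_le_sylow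
    haveI := P.unique_of_normal (hn _)
    exact Subsingleton.elim Q P ▸ hQ (Subgroup.mem_zpowers g)
  have hAab : IsMulCommutative A := by
    haveI : Group.IsNilpotent G := hnil
    obtain ⟨e⟩ := ((Group.isNilpotent_of_finite_tfae (G := A)).out 0 4).1 (inferInstance : Group.IsNilpotent A)
    refine ⟨⟨fun a b => ?_⟩⟩
    obtain ⟨s, rfl⟩ := e.surjective a
    obtain ⟨t, rfl⟩ := e.surjective b
    rw [← map_mul, ← map_mul]
    congr 1
    funext q Q
    haveI : Fact (q : ℕ).Prime := ⟨Nat.prime_of_mem_primeFactors q.2⟩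
    obtain ⟨i, hi⟩ := IsPGroup.iff_orderOf.1 Q.2 (s q Q)
    obtain ⟨j, hj⟩ := IsPGroup.iff_orderOf.1 Q.2 (t q Q)
    apply Subtype.ext; apply Subtype.ext
    by_cases hall : ∀ u v : G, (∃ a, orderOf u = (q : ℕ) ^ a) → (∃ b, orderOf v = (q : ℕ) ^ b) → u * v = v * u
    · exact hall _ _ ⟨i, by rw [Subgroup.orderOf_coe, Subgroup.orderOf_coe, hi]⟩ ⟨j, by rw [Subgroup.orderOf_coe, Subgroup.orderOf_coe, hj]⟩
    · exfalso
      obtain ⟨hq2, -⟩ := hsyl q hall
      have := Nat.dvd_of_mem_primeFactors q.2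
      rw [hq2] at this
      rw [Nat.odd_iff] at hAodd
      omega
  have hAP : ∀ a ∈ (P : Subgroup G), ∀ b ∈ A, a * b = b * a := fun a ha b hb => by
    refine hcomm a b ?_
    obtain ⟨j, hj⟩ := IsPGroup.iff_orderOf.1 P.2 ⟨a, ha⟩
    rw [Subgroup.orderOf_mk] at hj
    rw [hj]
    exact (Nat.Coprime.coprime_dvd_right (A.orderOf_dvd_natCard hb) (Nat.coprime_two_left.2 hAodd)).pow_left j
  obtain ⟨-, x, y, hx4, hxy, hyx⟩ := hsyl 2 (by
    intro hall
    apply hna
    refine ⟨⟨fun u v => ?_⟩⟩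
    have hu : u ∈ ((P : Subgroup G) : Set G) * (A : Set G) := by rw [← Subgroup.normal_mul, hA.sup_eq_top]; trivial
    have hv : v ∈ ((P : Subgroup G) : Set G) * (A : Set G) := by rw [← Subgroup.normal_mul, hA.sup_eq_top]; trivial
    obtain ⟨u1, hu1, u2, hu2, rfl⟩ := Set.mem_mul.1 hu
    obtain ⟨v1, hv1, v2, hv2, rfl⟩ := Set.mem_mul.1 hv
    have e1 : u1 * v1 = v1 * u1 := by
      obtain ⟨i, hi⟩ := IsPGroup.iff_orderOf.1 P.2 ⟨u1, hu1⟩
      obtain ⟨j, hj⟩ := IsPGroup.iff_orderOf.1 P.2 ⟨v1, hv1⟩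
      rw [Subgroup.orderOf_mk] at hi hj
      exact hall u1 v1 ⟨i, hi⟩ ⟨j, hj⟩
    have e2 : u2 * v2 = v2 * u2 := congrArg Subtype.val (hAab.is_comm.comm (⟨u2, hu2⟩ : A) ⟨v2, hv2⟩)
    have e3 := hAP u1 hu1 v2 hv2
    have e4 := hAP v1 hv1 u2 hu2
    calc u1 * u2 * (v1 * v2) = u1 * (u2 * v1) * v2 := by group
      _ = (u1 * v1) * (u2 * v2) := by rw [← e4]; group
      _ = (v1 * u1) * (v2 * u2) := by rw [e1, e2]
      _ = v1 * (u1 * v2) * u2 := by group
      _ = _ := by rw [e3]; group)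
  set c := x * x with hc
  have hc2 : orderOf c = 2 := by rw [hc, ← pow_two, orderOf_pow, hx4]; rfl
  have hy4 : orderOf y = 4 := by
    refine orderOf_eq_prime_pow (p := 2) (n := 1) ?_ ?_
    · intro h
      rw [pow_one, pow_two, ← hxy] at h
      rw [h, orderOf_one] at hc2
      omega
    · rw [show (2 : ℕ) ^ (1 + 1) = 2 * 2 from rfl, pow_mul, pow_two y, ← hxy, ← hc2, pow_orderOf_eq_one]
  set Q := Subgroup.closure ({x, y} : Set G) with hQ
  have hxQ : x ∈ Q := Subgroup.subset_closure (by simp)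
  have hyQ : y ∈ Q := Subgroup.subset_closure (by simp)
  have hQP : Q ≤ (P : Subgroup G) := (Subgroup.closure_le _).2 (by
    rintro z (rfl | rfl)
    · exact h2el _ ⟨2, hx4⟩
    · exact h2el _ ⟨2, hy4⟩)
  set C := (P : Subgroup G) ⊓ Subgroup.centralizer ({x, y} : Set G) with hC
  have hcomm_x : ∀ z ∈ C, Commute z x := fun z hz => (Subgroup.mem_centralizer_iff.1 hz.2 x (by simp)).symm
  have hcomm_y : ∀ z ∈ C, Commute z y := fun z hz => (Subgroup.mem_centralizer_iff.1 hz.2 y (by simp)).symm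
  have hxy' : x * y * x⁻¹ = y⁻¹ := by
    have h4 : (x * x) * (y * y) = 1 := by
      rw [← hxy, ← hc]
      exact (pow_two c).symm.trans (hc2 ▸ pow_orderOf_eq_one c)
    have e1 : x * y * x⁻¹ = x * (y * x⁻¹ * y⁻¹) * y := by group
    have e2 : y * x⁻¹ * y⁻¹ = x := by
      rw [show y * x⁻¹ * y⁻¹ = (y * x * y⁻¹)⁻¹ by group, hyx, inv_inv]
    rw [e1, e2]
    exact eq_inv_of_mul_eq_one_left (by rw [mul_assoc]; exact h4)
  -- `P = Q C`
  have hPQC : (P : Subgroup G) ≤ Q ⊔ C := by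
    intro g hg
    have hpm : ∀ (a : G), orderOf a = 4 → g * a * g⁻¹ = a ∨ g * a * g⁻¹ = a⁻¹ := by
      intro a ha
      obtain ⟨i, hi⟩ := exists_zpow hn g a
      have h := hi
      rw [← zpow_mod_orderOf, ha] at h
      have hi2 : i % 2 = 1 := by
        by_contra hne
        have h0 : (4 : ℤ) ∣ i * 2 := by omega
        have h1 : (g * a * g⁻¹) ^ (2 : ℤ) = 1 := by
          rw [← hi, ← zpow_mul, ← orderOf_dvd_iff_zpow_eq_one, ha]; exact_mod_cast h0
        have h2 : orderOf (g * a * g⁻¹) = 4 := by rw [← MulAut.conj_apply, MulEquiv.orderOf_eq, ha]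
        have := orderOf_dvd_iff_zpow_eq_one.2 h1
        rw [h2] at this
        norm_num at this
      rcases (show i % 4 = 1 ∨ i % 4 = 3 by omega) with e | e
      · left; rw [← h]
        show a ^ (i % ((4 : ℕ) : ℤ)) = a
        rw [show i % ((4 : ℕ) : ℤ) = 1 by omega, zpow_one]
      · right
        rw [← h]
        show a ^ (i % ((4 : ℕ) : ℤ)) = a⁻¹
        rw [show i % ((4 : ℕ) : ℤ) = -1 + (orderOf a : ℤ) by rw [ha]; omega, zpow_add, zpow_neg_one, zpow_natCast,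
          pow_orderOf_eq_one, mul_one]
    have hgen : ∀ q ∈ Q, (q⁻¹ * g) * x = x * (q⁻¹ * g) → (q⁻¹ * g) * y = y * (q⁻¹ * g) → g ∈ Q ⊔ C := by
      intro q hq h1 h2
      have hm : q⁻¹ * g ∈ C := ⟨(P : Subgroup G).mul_mem ((P : Subgroup G).inv_mem (hQP hq)) hg,
        Subgroup.mem_centralizer_iff.2 (by rintro w (rfl | rfl); exacts [h1.symm, h2.symm])⟩
      have := (Q ⊔ C).mul_mem (Subgroup.mem_sup_left hq) (Subgroup.mem_sup_right hm)
      rwa [mul_inv_cancel_left] at this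
    have key : ∀ q a : G, g * a * g⁻¹ = q * a * q⁻¹ → (q⁻¹ * g) * a = a * (q⁻¹ * g) := fun q a h => by
      calc q⁻¹ * g * a = q⁻¹ * (g * a * g⁻¹) * g := by group
        _ = q⁻¹ * (q * a * q⁻¹) * g := by rw [h]
        _ = a * (q⁻¹ * g) := by group
    rcases hpm x hx4 with e1 | e1 <;> rcases hpm y hy4 with e2 | e2
    · exact hgen 1 Q.one_mem (key 1 x (by simp [e1])) (key 1 y (by simp [e2]))
    · exact hgen x hxQ (key x x (by simp [e1])) (key x y (by rw [e2, hxy']))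
    · exact hgen y hyQ (key y x (by rw [e1, hyx])) (key y y (by simp [e2]))
    · refine hgen (x * y) (Q.mul_mem hxQ hyQ) (key _ x ?_) (key _ y ?_)
      · rw [e1, show x * y * x * (x * y)⁻¹ = x * (y * x * y⁻¹) * x⁻¹ by group, hyx]; group
      · rw [e2, show x * y * y * (x * y)⁻¹ = x * y * x⁻¹ by group, hxy']
  -- `C` has exponent two
  have hCexp : ∀ z ∈ C, z ^ 2 = 1 := by
    intro z hz
    obtain ⟨k, hk⟩ := IsPGroup.iff_orderOf.1 P.2 ⟨z, hz.1⟩
    rw [Subgroup.orderOf_mk] at hk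
    by_contra hne
    have hk2 : 2 ≤ k := by
      by_contra h
      apply hne
      apply orderOf_dvd_iff_pow_eq_one.1
      rw [hk]
      calc 2 ^ k ∣ 2 ^ 1 := pow_dvd_pow 2 (by omega)
        _ = 2 := by norm_num
    set w := z ^ 2 ^ (k - 2) with hw
    have hwC : w ∈ C := C.pow_mem hz _
    have hw4 : orderOf w = 4 := by
      rw [hw, orderOf_pow, hk, Nat.gcd_eq_right (pow_dvd_pow 2 (Nat.sub_le k 2)), Nat.pow_div (Nat.sub_le k 2) (by norm_num),
        Nat.sub_sub_self hk2]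
    obtain ⟨i, hi⟩ := exists_zpow hn y (x * w)
    rw [show y * (x * w) * y⁻¹ = x⁻¹ * w by
      rw [mul_assoc, mul_assoc x w y⁻¹, ← (hcomm_y w hwC).symm.inv_left.eq, ← mul_assoc, ← mul_assoc, hyx],
      (hcomm_x w hwC).symm.mul_zpow] at hi
    have h2 : x ^ (i + 1) = w ^ (1 - i) := by
      calc x ^ (i + 1) = x * (x ^ i * w ^ i) * (w ^ i)⁻¹ := by group
        _ = x * (x⁻¹ * w) * (w ^ i)⁻¹ := by rw [hi]
        _ = w ^ (1 - i) := by group
    -- both sides centralise `y`, so `i` is odd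
    have h3 : Commute (x ^ (i + 1)) y := h2 ▸ (hcomm_y w hwC).zpow_left _
    have h4 : x ^ (i + 1) = (x ^ (i + 1))⁻¹ := by
      calc x ^ (i + 1) = y * x ^ (i + 1) * y⁻¹ := by rw [← h3.eq, mul_inv_cancel_right]
        _ = (x⁻¹) ^ (i + 1) := by rw [← MulAut.conj_apply, map_zpow, MulAut.conj_apply, hyx]
        _ = _ := by rw [inv_zpow]
    have h5 : (4 : ℤ) ∣ 2 * (i + 1) := by
      rw [← mul_eq_one_iff_eq_inv, ← zpow_add, ← two_mul, ← orderOf_dvd_iff_zpow_eq_one, hx4] at h4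
      exact_mod_cast h4
    rcases (show (4 : ℤ) ∣ i + 1 ∨ (4 : ℤ) ∣ i - 1 by omega) with h | h
    · have e : w ^ (1 - i) = 1 := by rw [← h2, ← orderOf_dvd_iff_zpow_eq_one, hx4]; exact_mod_cast h
      rw [← orderOf_dvd_iff_zpow_eq_one, hw4] at e
      norm_num at e
      omega
    · have e : x ^ (i + 1) = 1 := by
        rw [h2, ← orderOf_dvd_iff_zpow_eq_one, hw4]
        norm_num
        omega
      rw [← orderOf_dvd_iff_zpow_eq_one, hx4] at e
      norm_num at e
      omega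
  have hcC : c ∈ C := ⟨(P : Subgroup G).mul_mem (hQP hxQ) (hQP hxQ), Subgroup.mem_centralizer_iff.2 (by
    rintro w (rfl | rfl)
    · exact (((Commute.refl _).mul_left (Commute.refl _) : Commute (w * w) w)).eq.symm
    · show w * c = c * w
      rw [hxy]; group)⟩
  haveI : Nonempty {E : Subgroup G // E ≤ C ∧ c ∉ E} :=
    ⟨⟨⊥, bot_le, fun h => by rw [Subgroup.mem_bot.1 h, orderOf_one] at hc2; omega⟩⟩
  obtain ⟨⟨E, hEC, hEc⟩, hEmax⟩ := Finite.exists_max (fun E : {E : Subgroup G // E ≤ C ∧ c ∉ E} => Nat.card E.1)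
  have hCab : ∀ u ∈ C, ∀ v ∈ C, u * v = v * u := fun u hu v hv => by
    have inv2 : ∀ z ∈ C, z⁻¹ = z := fun z hz => inv_eq_of_mul_eq_one_right (by rw [← pow_two]; exact hCexp z hz)
    rw [← inv2 _ (C.mul_mem hu hv), mul_inv_rev, inv2 u hu, inv2 v hv]
  haveI : E.Normal := hn E
  have hCE : C ≤ E ⊔ Subgroup.zpowers c := by
    intro e he
    by_contra hne
    have hlt : E < E ⊔ Subgroup.zpowers e := lt_of_le_of_ne le_sup_left fun h => hne (Subgroup.mem_sup_left
      (h ▸ Subgroup.mem_sup_right (Subgroup.mem_zpowers e)))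
    have hcmem : c ∈ E ⊔ Subgroup.zpowers e := by
      by_contra hcn
      have := hEmax ⟨E ⊔ Subgroup.zpowers e, sup_le hEC (Subgroup.zpowers_le.2 he), hcn⟩
      exact hlt.ne (Subgroup.eq_of_le_of_card_ge le_sup_left this)
    obtain ⟨f, hf, g, ⟨k, rfl⟩, hfg⟩ := Subgroup.mem_sup_of_normal_left.1 hcmem
    simp only at hfg
    rcases Int.even_or_odd k with ⟨l, rfl⟩ | ⟨l, rfl⟩
    · rw [← two_mul, zpow_mul, show e ^ (2 : ℤ) = 1 from by exact_mod_cast hCexp e he, one_zpow, mul_one] at hfg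
      exact hEc (hfg ▸ hf)
    · rw [zpow_add_one, zpow_mul, show e ^ (2 : ℤ) = 1 from by exact_mod_cast hCexp e he, one_zpow, one_mul] at hfg
      exact hne (by rw [show e = f⁻¹ * c by rw [← hfg]; group]; exact mul_mem (inv_mem (Subgroup.mem_sup_left hf)) (Subgroup.mem_sup_right (Subgroup.mem_zpowers c)))
  -- `Q`
  have hyx' : y ∉ Subgroup.zpowers x := by
    rintro ⟨k, rfl⟩
    rw [mul_assoc, ← zpow_neg, ← zpow_one_add, ← zpow_add] at hyx
    rw [show x⁻¹ = x ^ (-1 : ℤ) by simp, ← mul_inv_eq_one, ← zpow_sub, ← orderOf_dvd_iff_zpow_eq_one, hx4] at hyx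
    norm_num at hyx
  have hQmem : ∀ q ∈ Q, ∃ i : ℤ, q = x ^ i ∨ q = x ^ i * y := by
    intro q hq
    have hyx2 : ∀ i : ℤ, y * x ^ i = x ^ (-i) * y := fun i => by
      rw [← mul_inv_eq_iff_eq_mul, ← MulAut.conj_apply, map_zpow, MulAut.conj_apply, hyx, inv_zpow, zpow_neg]
    have hyy : y * y = x ^ (2 : ℤ) := by rw [← hxy, hc, zpow_two]
    let K : Subgroup G :=
      { carrier := {q | ∃ i : ℤ, q = x ^ i ∨ q = x ^ i * y}
        one_mem' := ⟨0, Or.inl (zpow_zero x).symm⟩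
        mul_mem' := by
          rintro u v ⟨i, rfl | rfl⟩ ⟨j, rfl | rfl⟩
          · exact ⟨i + j, Or.inl (zpow_add x i j).symm⟩
          · exact ⟨i + j, Or.inr (by rw [zpow_add, mul_assoc])⟩
          · exact ⟨i - j, Or.inr (by rw [mul_assoc, hyx2, ← mul_assoc, ← zpow_add]; rfl)⟩
          · exact ⟨i - j + 2, Or.inl (by
              rw [zpow_add, ← hyy, mul_assoc (x ^ i), ← mul_assoc y, hyx2, sub_eq_add_neg, zpow_add]; group)⟩
        inv_mem' := by
          rintro u ⟨i, rfl | rfl⟩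
          · exact ⟨-i, Or.inl (zpow_neg x i).symm⟩
          · refine ⟨i + 2, Or.inr (inv_eq_of_mul_eq_one_right ?_)⟩
            rw [mul_assoc, ← mul_assoc y, hyx2, mul_assoc (x ^ (-(i + 2))), hyy, ← zpow_add, ← zpow_add]
            ring_nf
            exact zpow_zero x }
    exact (Subgroup.closure_le K).2 (by
      rintro w (rfl | rfl)
      · exact ⟨1, Or.inl (zpow_one _).symm⟩
      · exact ⟨0, Or.inr (by simp)⟩) hq
  have hQC : ∀ q ∈ Q, q ∈ C → q ∈ Subgroup.zpowers c := by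
    intro q hq hqC
    obtain ⟨i, hi⟩ := hQmem q hq
    rcases hi with rfl | rfl
    · have h1 := hCexp _ hqC
      rw [← zpow_natCast, ← zpow_mul, ← orderOf_dvd_iff_zpow_eq_one, hx4] at h1
      obtain ⟨k, hk⟩ : (2 : ℤ) ∣ i := by norm_num at h1; omega
      exact ⟨k, by show c ^ k = x ^ i; rw [hk, zpow_mul, hc, zpow_two]⟩
    · exfalso
      have h1 : Commute (x ^ i * y) x := hcomm_x _ hqC
      have h2 : Commute y x := by
        have := ((Commute.refl x).zpow_left (-i)).mul_left h1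
        rwa [zpow_neg, inv_mul_cancel_left] at this
      rw [h2.eq, mul_inv_cancel_right] at hyx
      rw [hc, mul_eq_one_iff_eq_inv.2 hyx, orderOf_one] at hc2
      omega
  refine ⟨Q, E, A, ?_, ⟨⟨⟨fun u v => Subtype.ext (hCab _ (hEC u.2) _ (hEC v.2))⟩⟩, fun e he => hCexp e (hEC he)⟩,
    hAab, hAodd, ?_, ?_, ?_⟩
  · have hidx : (Subgroup.zpowers (⟨x, hxQ⟩ : Q)).index = 2 := by
      refine Subgroup.index_eq_two_iff.2 ⟨⟨y, hyQ⟩, fun b => ?_⟩
      have hiff : ∀ b : Q, b ∈ Subgroup.zpowers (⟨x, hxQ⟩ : Q) ↔ (b : G) ∈ Subgroup.zpowers x := fun b => by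
        constructor
        · rintro ⟨k, rfl⟩; exact ⟨k, by simp⟩
        · rintro ⟨k, hk⟩; exact ⟨k, Subtype.ext (by simpa using hk)⟩
      rw [hiff, hiff, Subgroup.coe_mul]
      obtain ⟨i, hi | hi⟩ := hQmem b b.2 <;> rw [hi]
      · refine Or.inr ⟨⟨i, rfl⟩, fun hm => hyx' ?_⟩
        have := (Subgroup.zpowers x).mul_mem ((Subgroup.zpowers x).inv_mem ⟨i, rfl⟩) hm
        simpa using this
      · refine Or.inl ⟨?_, fun hm => hyx' ?_⟩
        · rw [mul_assoc, ← hxy]
          exact (Subgroup.zpowers x).mul_mem ⟨i, rfl⟩ ((Subgroup.zpowers x).mul_mem (Subgroup.mem_zpowers x) (Subgroup.mem_zpowers x))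
        · have := (Subgroup.zpowers x).mul_mem ((Subgroup.zpowers x).inv_mem ⟨i, rfl⟩) hm
          simpa using this
    refine Cfsg.Agent.Transfer.MaxClass.nonempty_quaternion (m := 2) two_pos (a := (⟨x, hxQ⟩ : Q)) (x := ⟨y, hyQ⟩)
      (by rw [Subgroup.orderOf_mk, hx4]) hidx ?_ (Subtype.ext ?_) (Subtype.ext hyx)
    · rintro ⟨k, hk⟩
      exact hyx' ⟨k, by simpa using congrArg Subtype.val hk⟩
    · show y * y = ((⟨x, hxQ⟩ ^ 2 : Q) : G)
      rw [Subgroup.coe_pow, ← hxy, pow_two]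
  · exact disjoint_iff.1 (hA.disjoint.mono_left (hEC.trans inf_le_left))
  · rw [Subgroup.eq_bot_iff_forall]
    intro q hq
    obtain ⟨e, he, a, ha, hea⟩ := Subgroup.mem_sup_of_normal_left.1 hq.2
    have haP : a ∈ (P : Subgroup G) := by
      rw [show a = e⁻¹ * q by rw [← hea]; group]
      exact (P : Subgroup G).mul_mem ((P : Subgroup G).inv_mem (hEC he).1) (hQP hq.1)
    have ha1 : a = 1 := Subgroup.mem_bot.1 ((disjoint_iff.1 hA.disjoint) ▸ (⟨haP, ha⟩ : a ∈ (P : Subgroup G) ⊓ A))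
    rw [ha1, mul_one] at hea
    subst hea
    obtain ⟨k, hk⟩ := hQC e hq.1 (hEC he)
    simp only at hk
    rcases Int.even_or_odd k with ⟨l, rfl⟩ | ⟨l, rfl⟩
    · rw [← hk, ← two_mul, zpow_mul, show c ^ (2 : ℤ) = 1 from by exact_mod_cast hCexp c hcC, one_zpow]
    · rw [zpow_add_one, zpow_mul, show c ^ (2 : ℤ) = 1 from by exact_mod_cast hCexp c hcC, one_zpow, one_mul] at hk
      exact absurd (hk ▸ he) hEc
  · refine eq_top_iff.2 (hA.sup_eq_top ▸ sup_le ?_ (le_sup_of_le_right le_sup_right))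
    refine hPQC.trans (sup_le le_sup_left (hCE.trans (sup_le (le_sup_of_le_right le_sup_left) ?_)))
    exact le_sup_of_le_left (Subgroup.zpowers_le.2 (Q.mul_mem hxQ hxQ))

end Cfsg.Agent.S4211
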