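import Cfsg.Statements.S0251
import Mathlib
import Cfsg.Agent.Lib.Classical.SLTwoSmall
import Cfsg.Agent.Lib.Classical.SLGroup
import Cfsg.Agent.Lib.Classical.SLNormal
import Cfsg.Agent.Lib.Fus.SmallSimple
-- import your own Cfsg.Agent.* helpers here

set_option autoImplicit false
open Cfsg

namespace Cfsg.Agent.S0251

/-- PSL_2(3) is isomorphic to A_4. -/
theorem result {F : Type*} [Field F] [Fintype F] (hF : Fintype.card F = 3) : Nonempty (Matrix.ProjectiveSpecialLinearGroup (Fin 2) F ≃* alternatingGroup (Fin 4)) := by
  classical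
  let e := Classical.SLTwoSmall.mapEquiv (ZMod.ringEquivOfPrime F Nat.prime_three hF) 2
  let Φ : Matrix.SpecialLinearGroup (Fin 2) F →* alternatingGroup (Fin 4) :=
    (Classical.SLTwoSmall.perm.codRestrict _ (fun g => Equiv.Perm.mem_alternatingGroup.mpr (Classical.SLTwoSmall.perm_sign g))).comp e.symm.toMonoidHom
  have hker : Φ.ker = Subgroup.center (Matrix.SpecialLinearGroup (Fin 2) F) := by
    ext g
    have h1 : g ∈ Φ.ker ↔ ∀ i, Classical.SLTwoSmall.act (e.symm g) i = i := by
      rw [MonoidHom.mem_ker]
      exact ⟨fun h i => Equiv.congr_fun (congrArg Subtype.val h) i, fun h => Subtype.ext (Equiv.ext h)⟩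
    rw [h1, Classical.SLTwoSmall.perm_ker_iff, ← Classical.SLTwoSmall.center_iff, Subgroup.mem_center_iff]
    constructor
    · intro h x
      apply e.symm.injective
      rw [map_mul, map_mul, h]
    · intro h x
      have := congrArg e.symm (h (e x))
      rwa [map_mul, map_mul, e.symm_apply_apply] at this
  have hsur : Function.Surjective Φ := by
    rw [← MonoidHom.range_eq_top]
    refine Subgroup.eq_top_of_le_card _ ?_
    rw [nat_card_alternatingGroup, Nat.card_fin, ← Subgroup.index_ker, hker]
    have h := (Subgroup.center (Matrix.SpecialLinearGroup (Fin 2) F)).card_mul_index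
    rw [Classical.natCard_center_SL, Nat.card_congr e.symm.toEquiv, Classical.SLTwoSmall.card_three, Classical.natCard_units_field, hF] at h
    norm_num at h
    rw [show (4 : ℕ).factorial / 2 = 12 from rfl]
    omega
  exact ⟨(QuotientGroup.quotientMulEquivOfEq hker).symm.trans (QuotientGroup.quotientKerEquivOfSurjective Φ hsur)⟩

end Cfsg.Agent.S0251
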