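import Cfsg.Statements.S0276
import Cfsg.Agent.Lib.Fus.PSLTwo
-- import your own Cfsg.Agent.* helpers here

set_option autoImplicit false
open Cfsg

namespace Cfsg.Agent.S0276

/-- For q = 3 or 5 mod 8 the Sylow 2-subgroups of PSL_2(q) are elementary abelian of order 4. -/
theorem result {F : Type*} [Field F] [Fintype F] {q : ℕ} (hF : Fintype.card F = q) (hq : q % 8 = 3 ∨ q % 8 = 5) (P : Sylow 2 (Matrix.ProjectiveSpecialLinearGroup (Fin 2) F)) : IsKleinFour (P : Subgroup (Matrix.ProjectiveSpecialLinearGroup (Fin 2) F)) := by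
  subst hF
  haveI : Fact (Nat.Prime 2) := ⟨Nat.prime_two⟩
  have hodd : Fintype.card F % 2 = 1 := by omega
  obtain ⟨k, ⟨e⟩, -⟩ := Cfsg.Agent.Fus.PSLTwo.exists_sylow_dihedral hodd P
  have hG := Classical.natCard_PSL_mul (F := F) 2 (by norm_num)
  rw [show Nat.gcd 2 (Nat.card Fˣ) = 2 by
    rw [Classical.natCard_units_field]; exact Nat.gcd_eq_left (by omega), Cfsg.Agent.Fus.PSLTwo.natCard_SL_two] at hG
  obtain ⟨m, hm⟩ : ∃ m, Odd m ∧ (Fintype.card F - 1) * (Fintype.card F + 1) = 8 * m := by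
    obtain ⟨a, ha⟩ : ∃ a, Fintype.card F / 8 = a := ⟨_, rfl⟩
    rcases hq with h | h
    · refine ⟨(4 * a + 1) * (2 * a + 1), Odd.mul (⟨2 * a, by ring⟩ : Odd (4 * a + 1)) ⟨a, rfl⟩, ?_⟩
      rw [show Fintype.card F = 8 * a + 3 by omega, show 8 * a + 3 - 1 = 8 * a + 2 by omega]; ring
    · refine ⟨(2 * a + 1) * (4 * a + 3), Odd.mul (⟨a, rfl⟩ : Odd (2 * a + 1)) ⟨2 * a + 1, by ring⟩, ?_⟩
      rw [show Fintype.card F = 8 * a + 5 by omega, show 8 * a + 5 - 1 = 8 * a + 4 by omega]; ring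
  have hcardG : Nat.card (Matrix.ProjectiveSpecialLinearGroup (Fin 2) F) = 2 ^ 2 * (Fintype.card F * m) := by
    rw [hm.2] at hG
    linarith
  have hP : Nat.card (P : Subgroup (Matrix.ProjectiveSpecialLinearGroup (Fin 2) F)) = 4 := by
    have hodd' : Odd (Fintype.card F * m) := (Nat.odd_iff.2 hodd).mul hm.1
    rw [Sylow.card_eq_multiplicity, hcardG, Nat.factorization_mul (by norm_num) hodd'.pos.ne', Finsupp.add_apply,
      Nat.prime_two.factorization_pow, Finsupp.single_eq_same,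
      Nat.factorization_eq_zero_of_not_dvd (fun h => (Nat.not_even_iff_odd.2 hodd') (even_iff_two_dvd.2 h))]
    norm_num
  obtain rfl : k = 1 := by
    rw [Nat.card_congr e.toEquiv, DihedralGroup.nat_card] at hP
    exact Nat.pow_right_injective le_rfl (show 2 ^ k = 2 ^ 1 by omega)
  haveI : IsKleinFour (DihedralGroup (2 ^ 1)) := by rw [pow_one]; infer_instance
  exact ⟨hP, by rw [Monoid.exponent_eq_of_mulEquiv e]; exact IsKleinFour.exponent_two⟩

end Cfsg.Agent.S0276
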