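import Cfsg.Statements.S1442
import Mathlib

set_option maxHeartbeats 1000000
set_option maxRecDepth 8000

set_option autoImplicit false
open Cfsg
open scoped commutatorElement

namespace Cfsg.Agent.S1442

/-- Let G be a finite group, H a nilpotent subgroup and A a subgroup normalizing H with the orders of A and H coprime. Put C = H ∩ C_G(A). If H ∩ C_G(C) ≤ C then A centralizes H. -/
theorem result {G : Type*} [Group G] [Finite G] (H A : Subgroup G) (hH : Group.IsNilpotent H) (hA : (A ≤ Subgroup.normalizer (H : Set G))) (hcop : (Nat.card A).Coprime (Nat.card H))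
    (hC : H ⊓ Subgroup.centralizer (((H ⊓ Subgroup.centralizer (A : Set G)) : Subgroup G) : Set G) ≤ (H ⊓ Subgroup.centralizer (A : Set G))) :
    A ≤ Subgroup.centralizer (H : Set G) := by
  set C := H ⊓ Subgroup.centralizer (A : Set G) with hCdef
  -- `A` centralizes the normalizer of `C` in `H`
  have key : ∀ k ∈ H, k ∈ Subgroup.normalizer (C : Set G) → k ∈ C := by
    intro k hk hkN
    refine ⟨hk, Subgroup.mem_centralizer_iff.2 fun a ha => ?_⟩
    set d := k⁻¹ * (a * k * a⁻¹) with hd
    have hka : a * k * a⁻¹ ∈ H := (Subgroup.mem_normalizer_iff.1 (hA ha) k).1 hk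
    have hdC : d ∈ C := hC ⟨H.mul_mem (H.inv_mem hk) hka, Subgroup.mem_centralizer_iff.2 fun c hc => by
      have hca : a * c = c * a := Subgroup.mem_centralizer_iff.1 hc.2 a ha
      have hkc := (Subgroup.mem_normalizer_iff.1 hkN c).1 hc
      have h1 : a * (k * c * k⁻¹) = (k * c * k⁻¹) * a := Subgroup.mem_centralizer_iff.1 hkc.2 a ha
      have h2 : (a * k * a⁻¹) * c * (a * k * a⁻¹)⁻¹ = k * c * k⁻¹ := by
        calc (a * k * a⁻¹) * c * (a * k * a⁻¹)⁻¹ = a * k * (a⁻¹ * (c * a)) * k⁻¹ * a⁻¹ := by group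
          _ = a * (k * c * k⁻¹) * a⁻¹ := by rw [← hca]; group
          _ = _ := by rw [h1, mul_inv_cancel_right]
      calc c * d = k⁻¹ * (k * c * k⁻¹) * (a * k * a⁻¹) := by rw [hd]; group
        _ = d * c := by rw [← h2, hd]; group⟩
    have hda : a * d = d * a := Subgroup.mem_centralizer_iff.1 hdC.2 a ha
    have hpow : ∀ m : ℕ, a ^ m * k * (a ^ m)⁻¹ = k * d ^ m := by
      intro m
      induction m with
      | zero => simp
      | succ m ih =>
        have hadm : a * d ^ m = d ^ m * a := ((show Commute a d from hda).pow_right m).eq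
        calc a ^ (m + 1) * k * (a ^ (m + 1))⁻¹ = a * (a ^ m * k * (a ^ m)⁻¹) * a⁻¹ := by rw [pow_succ']; group
          _ = (a * k * a⁻¹) * (a * d ^ m) * a⁻¹ := by rw [ih]; group
          _ = k * d ^ (m + 1) := by rw [hadm, pow_succ', show a * k * a⁻¹ = k * d by rw [hd]; group]; group
    have h1 := hpow (orderOf a)
    rw [pow_orderOf_eq_one, one_mul, inv_one, mul_one] at h1
    have h2 : orderOf d ∣ orderOf a := orderOf_dvd_of_pow_eq_one (mul_left_cancel (h1.symm.trans (mul_one k).symm))
    have h3 : orderOf d = 1 := Nat.eq_one_of_dvd_coprimes hcop (h2.trans (A.orderOf_dvd_natCard ha)) (H.orderOf_dvd_natCard hdC.1)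
    rw [orderOf_eq_one_iff, hd, inv_mul_eq_one] at h3
    exact (mul_inv_eq_iff_eq_mul.1 h3.symm)
  have htop : C.subgroupOf H = ⊤ := by
    haveI := hH
    by_contra hne
    have hlt := Group.normalizerCondition_of_isNilpotent (C.subgroupOf H) (lt_top_iff_ne_top.2 hne)
    obtain ⟨⟨k, hk⟩, hkN, hkC⟩ := SetLike.exists_of_lt hlt
    refine hkC (Subgroup.mem_subgroupOf.2 (key k hk (Subgroup.mem_normalizer_iff.2 fun c => ?_)))
    constructor
    · intro hc
      exact (Subgroup.mem_normalizer_iff.1 hkN ⟨c, hc.1⟩).1 hc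
    · intro hc
      have hcH : c ∈ H := by simpa [mul_assoc] using mul_mem (mul_mem (inv_mem hk) hc.1) hk
      exact (Subgroup.mem_normalizer_iff.1 hkN ⟨c, hcH⟩).2 hc
  rw [Subgroup.le_centralizer_iff]
  exact (Subgroup.subgroupOf_eq_top.1 htop).trans inf_le_right

end Cfsg.Agent.S1442
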