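import Cfsg.Statements.S1250
import Mathlib
import Cfsg.Agent.Lib.Invol.Closed
-- import your own Cfsg.Agent.* helpers here

set_option autoImplicit false
open Cfsg

namespace Cfsg.Agent.S1250

/-- Let S be a Sylow p-subgroup of the finite group G, A ≤ S strongly closed in S, and N a normal subgroup. Then the image of A in G ⧸ N is strongly closed in the image of S (which is a Sylow p-subgroup of G ⧸ N). -/
theorem result {G : Type*} [Group G] [Finite G] {p : ℕ} [Fact p.Prime] (S : Sylow p G) (A : Subgroup G) (hA : Cfsg.IsStronglyClosed A (S : Subgroup G)) (N : Subgroup G) [N.Normal] : Cfsg.IsStronglyClosed (A.map (QuotientGroup.mk' N)) ((S : Subgroup G).map (QuotientGroup.mk' N)) := by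
  refine ⟨Subgroup.map_mono hA.1, ?_⟩
  rintro _ ⟨a, ha, rfl⟩ x hx
  induction x using QuotientGroup.induction_on with | _ g => ?_
  have hx' : g * a * g⁻¹ ∈ (S : Subgroup G) ⊔ N := by
    obtain ⟨s, hs, hse⟩ := hx
    have heq : (s : G ⧸ N) = ((g * a * g⁻¹ : G) : G ⧸ N) := by simpa using hse
    rw [QuotientGroup.eq] at heq
    have := mul_mem (Subgroup.mem_sup_left (T := N) hs) (Subgroup.mem_sup_right heq)
    rwa [mul_inv_cancel_left] at this
  set X := (S : Subgroup G) ⊔ N with hX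
  have hp : IsPGroup p ((Subgroup.zpowers (g * a * g⁻¹)).subgroupOf X) := by
    refine IsPGroup.comap_subtype ?_
    obtain ⟨k, hk⟩ := S.isPGroup' ⟨a, hA.1 ha⟩
    have : orderOf (g * a * g⁻¹) ∣ p ^ k := by
      rw [Invol.orderOf_conj_eq]
      exact orderOf_dvd_of_pow_eq_one (congrArg Subtype.val hk)
    obtain ⟨i, -, hi⟩ := (Nat.dvd_prime_pow Fact.out).mp this
    exact Invol.isPGroup_zpowers hi
  obtain ⟨c, hc⟩ := Invol.exists_conj_subset_sylow hp (S.subtype le_sup_left)
  have hc' : (c : G) * (g * a * g⁻¹) * (c : G)⁻¹ ∈ (S : Subgroup G) :=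
    hc ⟨_, hx'⟩ (Subgroup.mem_zpowers _)
  obtain ⟨s, hs, n, hn, hsn⟩ : ∃ s ∈ (S : Subgroup G), ∃ n ∈ N, s * n = (c : G) :=
    Subgroup.mem_sup_of_normal_right.mp c.2
  have hS' : n * (g * a * g⁻¹) * n⁻¹ ∈ (S : Subgroup G) := by
    have := mul_mem (mul_mem (inv_mem hs) hc') hs
    rw [← hsn] at this
    simpa [mul_assoc] using this
  have := hA.2 a ha (n * g) (by simpa [mul_assoc] using hS')
  refine ⟨_, this, ?_⟩
  simp [(QuotientGroup.eq_one_iff n).mpr hn]

end Cfsg.Agent.S1250
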