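import Cfsg.Statements.S1122
import Cfsg.Agent.Lib.Lie.RankOneSetup
-- import your own Cfsg.Agent.* helpers here

set_option autoImplicit false
open Cfsg

namespace Cfsg.Agent.S1122

/-- In the rank-one set-up (`G` finite and doubly transitive on `Ω`, `t` an involution moving `a`, `Q` normal in `G_a` with `G_a = Q D`, `Q ⊓ D = 1` for the two-point stabiliser `D = G_a ⊓ G_{t • a}`, `|Q|` even, `|D|` odd), with `K` the set of elements of `D` inverted by `t`: `|K|` is the number of involutions of `G_a`, and for each involution `s` of `G_a` the `K`-conjugates of `s` are all the involutions of `G_a`. -/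
theorem result {G Ω : Type*} [Group G] [Finite G] [MulAction G Ω] {a : Ω} {t : G} {Q : Subgroup G}
    (hS : Cfsg.IsRankOneSetup G Ω a t Q) :
    Nat.card (Cfsg.invertedBy (MulAction.stabilizer G a ⊓ MulAction.stabilizer G (t • a)) t) = Nat.card (Cfsg.involutionsIn (MulAction.stabilizer G a : Set G)) ∧
      ∀ s ∈ Cfsg.involutionsIn (MulAction.stabilizer G a : Set G), ∀ s' ∈ Cfsg.involutionsIn (MulAction.stabilizer G a : Set G),
        ∃ k ∈ Cfsg.invertedBy (MulAction.stabilizer G a ⊓ MulAction.stabilizer G (t • a)) t, k⁻¹ * s * k = s' := by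
  refine ⟨Lie.RankOne.card_inverted hS, fun s hs s' hs' => ?_⟩
  obtain ⟨⟨s₀, r⟩, ⟨hs0, hr, e⟩, -⟩ := Lie.RankOne.distinguished hS
  obtain ⟨hinj, hsurj⟩ := Lie.RankOne.distinguished_orbit hS hs0 hr e
  -- `z ↦ z⁻¹ s z` is injective on the inverted elements, for every involution `s` of `G_a`
  obtain ⟨⟨m, hm⟩, hms⟩ := hsurj ⟨s, hs⟩
  have hms' : m⁻¹ * s₀ * m = s := congrArg Subtype.val hms
  have key : Function.Bijective
      (fun z : Cfsg.invertedBy (MulAction.stabilizer G a ⊓ MulAction.stabilizer G (t • a)) t =>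
        (⟨(z : G)⁻¹ * s * z, by
          refine ⟨mul_mem (mul_mem (inv_mem z.2.1.1) hs.1) z.2.1.1,
            fun h => hs.2.1 (Lie.RankOne.inv_conj_eq_one h), ?_⟩
          calc (z : G)⁻¹ * s * z * ((z : G)⁻¹ * s * z) = (z : G)⁻¹ * (s * s) * z := by group
            _ = 1 := by rw [hs.2.2]; group⟩ : Cfsg.involutionsIn (MulAction.stabilizer G a : Set G))) := by
    refine (Nat.bijective_iff_injective_and_card _).2 ⟨fun z w h => ?_, Lie.RankOne.card_inverted hS⟩
    have h' : (z : G)⁻¹ * s * z = (w : G)⁻¹ * s * w := congrArg Subtype.val h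
    obtain ⟨hz, hzi⟩ := z.2
    obtain ⟨hw, hwi⟩ := w.2
    obtain ⟨hmD, hmi⟩ := hm
    rw [Lie.RankOne.inv_t hS] at hzi hwi hmi
    set y := (z : G) * (w : G)⁻¹ with hydef
    have hy : y ∈ MulAction.stabilizer G a ⊓ MulAction.stabilizer G (t • a) :=
      mul_mem hz (inv_mem hw)
    have hsy : s * y = y * s := by
      calc s * y = (z : G) * ((z : G)⁻¹ * s * z) * (w : G)⁻¹ := by rw [hydef]; group
        _ = y * s := by rw [h', hydef]; group
    have hc : t * (m * y * m⁻¹) = m * y * m⁻¹ * t := by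
      refine (Lie.RankOne.centralizer_distinguished hS hs0 hr e (mul_mem (mul_mem hmD hy) (inv_mem hmD))).2 ?_
      calc s₀ * (m * y * m⁻¹) = m * ((m⁻¹ * s₀ * m) * y) * m⁻¹ := by group
        _ = m * y * m⁻¹ * s₀ := by rw [hms', hsy, ← hms']; group
    have htm : t * m * t = m⁻¹ := hmi
    have h1 : t * y * t = (m * m) * y * (m * m)⁻¹ := by
      have h2 : t * (m * y * m⁻¹) * t = m * y * m⁻¹ := by rw [hc, mul_assoc, hS.mul_self, mul_one]
      have h3 : t * m⁻¹ * t = m := by
        rw [← htm, Lie.RankOne.tt hS]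
      calc t * y * t = t * m⁻¹ * t * (t * (m * y * m⁻¹) * t) * (t * m * t) := by
            rw [show t * m⁻¹ * t * (t * (m * y * m⁻¹) * t) * (t * m * t) =
              t * m⁻¹ * (t * t) * (m * y * m⁻¹) * (t * t) * m * t by group, hS.mul_self]
            group
        _ = (m * m) * y * (m * m)⁻¹ := by rw [h3, h2, htm]; group
    have h4 : t * y * t = (w : G)⁻¹ * y⁻¹ * w := by
      have e1 : t * y * t = (t * z * t) * (t * w * t)⁻¹ := by
        rw [mul_inv_rev, mul_inv_rev, Lie.RankOne.inv_t hS, hydef]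
        calc t * ((z : G) * (w : G)⁻¹) * t = t * z * (1 * (w : G)⁻¹) * t := by group
          _ = t * z * ((t * t) * (w : G)⁻¹) * t := by rw [hS.mul_self]
          _ = _ := by group
      rw [e1, hzi, hwi, hydef]; group
    have hy1 : y = 1 := by
      refine Lie.RankOne.eq_one_of_conj_inv hS.odd_card
        (c := (w : G) * (m * m)) (mul_mem hw (mul_mem hmD hmD)) hy ?_
      calc (w : G) * (m * m) * y * ((w : G) * (m * m))⁻¹ = (w : G) * ((m * m) * y * (m * m)⁻¹) * (w : G)⁻¹ := by
            group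
        _ = y⁻¹ := by rw [← h1, h4]; group
    exact Subtype.ext (mul_inv_eq_one.1 hy1)
  obtain ⟨⟨k, hk⟩, hks⟩ := key.2 ⟨s', hs'⟩
  exact ⟨k, hk, congrArg Subtype.val hks⟩

end Cfsg.Agent.S1122
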