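import Cfsg.Prelude
import Cfsg.Agent.Lib.Invol.OddTransitive.Main
-- import your own Cfsg.Agent.* helpers here

set_option autoImplicit false
open Cfsg

open scoped Pointwise commutatorElement

namespace Cfsg.Agent.S1161

/-- Let `D` be a finite group of odd order acting faithfully by additive automorphisms on a finite elementary abelian `q`-group `E ≠ 0` (`q` prime), transitively on `E ∖ {0}`. Then the Fitting subgroup `F(D)` is cyclic, its non-identity elements fix only `0`, and `D/F(D)` is abelian (the derived subgroup lies in `F(D)`). -/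
theorem result {D E : Type*} [Group D] [Finite D]
    [AddCommGroup E] [Finite E] [Nontrivial E] [DistribMulAction D E] [FaithfulSMul D E]
    (hodd : Odd (Nat.card D)) {q : ℕ} (hq : q.Prime) (hE : ∀ e : E, q • e = 0)
    (htrans : ∀ a b : E, a ≠ 0 → b ≠ 0 → ∃ d : D, d • a = b) :
    IsCyclic ↥(Cfsg.fittingSubgroup D) ∧
      (∀ g ∈ Cfsg.fittingSubgroup D, g ≠ 1 → ∀ a : E, g • a = a → a = 0) ∧
      commutator D ≤ Cfsg.fittingSubgroup D := by
  haveI : Module (ZMod q) E := AddCommGroup.zmodModule hE
  let f : D → (E ≃ₗ[ZMod q] E) := fun d => (DistribMulAction.toAddEquiv E d).toLinearEquiv fun c x =>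
    ZMod.map_smul (DistribMulAction.toAddEquiv E d) c x
  have hf1 : f 1 = (1 : E ≃ₗ[ZMod q] E) := by
    refine LinearEquiv.ext fun x => ?_
    exact one_smul D x
  have hf2 : ∀ a b, f (a * b) = f a * f b := by
    refine fun a b => LinearEquiv.ext fun x => ?_
    exact mul_smul a b x
  let ρ : D →* (E ≃ₗ[ZMod q] E) := { toFun := f, map_one' := hf1, map_mul' := hf2 }
  have hρ : Function.Injective ρ := fun a b h => FaithfulSMul.eq_of_smul_eq_smul fun x : E =>
    LinearEquiv.congr_fun h x
  haveI : Fact q.Prime := ⟨hq⟩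
  have ht : Cfsg.Agent.Recog.HuppertCases.Trans ρ := htrans
  obtain rfl : q = 2 := by
    refine hq.eq_two_or_odd'.resolve_right fun hqo => ?_
    have h1 := Cfsg.Agent.Recog.HuppertCases.card_sub_one_dvd ht
    have h2 : Odd (q ^ Module.finrank (ZMod q) E) := hqo.pow
    obtain ⟨m, hm⟩ := h2
    exact (Nat.not_even_iff_odd.2 hodd) (even_iff_two_dvd.2 ((Dvd.intro m (by omega)).trans h1))
  exact Cfsg.Agent.Invol.OddTransitive.main hodd hρ ht

end Cfsg.Agent.S1161
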