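import Cfsg.Statements.S1996
import Cfsg.Agent.Lib.Invol.FusionTheorem
-- import your own Cfsg.Agent.* helpers here

set_option autoImplicit false
universe u
open Cfsg

namespace Cfsg.Agent.S1996

/-- Let p be a prime, G a finite group and W₁, W₂ two isomorphism-invariant p-group functors (W assigns to every group Q a subgroup W(Q), nontrivial whenever Q is a nontrivial finite p-group, and every isomorphism from a finite p-group Q onto a group R carries W(Q) onto W(R)). Suppose that G* = N_{G*}(W₁(S*)) N_{G*}(W₂(S*)) whenever G* = K/R is a section of G with C_{G*}(O_p(G*)) ≤ O_p(G*) and S* is a Sylow p-subgroup of G*. Then the pair {W₁, W₂} controls strong fusion in G. -/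
theorem result {G : Type u} [Group G] [Finite G] {p : ℕ} [Fact p.Prime] (W₁ W₂ : ∀ (Q : Type u) [Group Q], Subgroup Q) (hW₁ : Cfsg.IsCharPFunctor.{u} p W₁) (hW₂ : Cfsg.IsCharPFunctor.{u} p W₂) (hfac : ∀ (K R : Subgroup G) [hR : (R.subgroupOf K).Normal], Subgroup.centralizer ((Cfsg.pCore p (↥K ⧸ R.subgroupOf K) : Subgroup (↥K ⧸ R.subgroupOf K)) : Set (↥K ⧸ R.subgroupOf K)) ≤ Cfsg.pCore p (↥K ⧸ R.subgroupOf K) → ∀ T : Sylow p (↥K ⧸ R.subgroupOf K), ∀ x : (↥K ⧸ R.subgroupOf K), ∃ a ∈ Subgroup.normalizer ((Cfsg.inducedFunctor (G := (↥K ⧸ R.subgroupOf K)) W₁ (T : Subgroup (↥K ⧸ R.subgroupOf K)) : Subgroup (↥K ⧸ R.subgroupOf K)) : Set (↥K ⧸ R.subgroupOf K)), ∃ b ∈ Subgroup.normalizer ((Cfsg.inducedFunctor (G := (↥K ⧸ R.subgroupOf K)) W₂ (T : Subgroup (↥K ⧸ R.subgroupOf K)) : Subgroup (↥K ⧸ R.subgroupOf K)) : Set (↥K ⧸ R.subgroupOf K)), x = a * b) : Cfsg.FamilyControlsStrongFusionIn p {Cfsg.inducedFunctor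 (G := G) W₁, Cfsg.inducedFunctor (G := G) W₂} ⊤ := by
  have h𝓦 : ∀ W ∈ ({W₁, W₂} : Set (∀ (Q : Type u) [Group Q], Subgroup Q)), Cfsg.IsCharPFunctor.{u} p W := by
    rintro _ (rfl | rfl) <;> assumption
  have himg : ({Cfsg.inducedFunctor (G := G) W₁, Cfsg.inducedFunctor (G := G) W₂} : Set (Subgroup G → Subgroup G)) =
      Invol.ind {W₁, W₂} G := by
    rw [Invol.ind, Set.image_pair]
  rw [himg, Invol.familyControlsStrongFusionIn_iff h𝓦]
  refine Invol.fusCtrl_of_local h𝓦 ⟨W₁, Or.inl rfl⟩ (G := G)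
    (fun X _ _ hX hC => Invol.fusCtrl_of_sections h𝓦 (G := G) (fun K R _ hC' S => ?_) X hX hC) G
    (Invol.IsSectionOf.refl G)
  intro A h hA hhA
  obtain ⟨a, ha, b, hb, rfl⟩ := hfac K R hC' S h
  set U₁ := Cfsg.inducedFunctor (G := (↥K ⧸ R.subgroupOf K)) W₁ (S : Subgroup (↥K ⧸ R.subgroupOf K)) with hU₁
  set U₂ := Cfsg.inducedFunctor (G := (↥K ⧸ R.subgroupOf K)) W₂ (S : Subgroup (↥K ⧸ R.subgroupOf K)) with hU₂
  set N₁ := Subgroup.normalizer (U₁ : Set (↥K ⧸ R.subgroupOf K)) with hN₁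
  set N₂ := Subgroup.normalizer (U₂ : Set (↥K ⧸ R.subgroupOf K)) with hN₂
  have hS₁ : (S : Subgroup (↥K ⧸ R.subgroupOf K)) ≤ N₁ := Subgroup.le_normalizer.trans
    (Invol.normalizer_le_normalizer_inducedFunctor hW₁ S.isPGroup')
  have hS₂ : (S : Subgroup (↥K ⧸ R.subgroupOf K)) ≤ N₂ := Subgroup.le_normalizer.trans
    (Invol.normalizer_le_normalizer_inducedFunctor hW₂ S.isPGroup')
  set Q := (Subgroup.closure A).map (MulAut.conj b).toMonoidHom with hQ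
  have hQH : Q ≤ N₁ ⊓ N₂ := Invol.closure_conj_le fun x hx =>
    ⟨by
      have h1 := N₁.mul_mem (N₁.mul_mem (N₁.inv_mem ha) (hS₁ (hhA x hx))) ha
      simpa [mul_assoc] using h1,
    N₂.mul_mem (N₂.mul_mem hb (hS₂ (hA hx))) (N₂.inv_mem hb)⟩
  obtain ⟨d, hd, hdQ⟩ := Invol.exists_conj_into (p := p) (T := (S : Subgroup (↥K ⧸ R.subgroupOf K)))
    ⟨le_inf hS₁ hS₂, S.isPGroup', fun hd => S.not_dvd_index
      (hd.trans (Subgroup.relIndex_dvd_index_of_le (le_inf hS₁ hS₂)))⟩ hQH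
    ((S.isPGroup'.to_le ((Subgroup.closure_le _).mpr hA)).map _)
  have hy : ∀ x ∈ A, d * b * x * (d * b)⁻¹ ∈ (S : Subgroup (↥K ⧸ R.subgroupOf K)) := fun x hx => by
    have := hdQ _ (show MulAut.conj b x ∈ Q from ⟨x, Subgroup.subset_closure hx, rfl⟩)
    simpa [mul_assoc] using this
  rw [show a * b = a * d⁻¹ * (d * b) by group]
  refine Invol.Chn.comp (Invol.chn_step ⟨_, ⟨W₂, Or.inr rfl, rfl⟩, N₂.mul_mem hd.2 hb⟩ hy)
    (Invol.chn_step ⟨_, ⟨W₁, Or.inl rfl, rfl⟩, N₁.mul_mem ha (N₁.inv_mem hd.1)⟩ ?_)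
  rintro _ ⟨x, hx, rfl⟩
  simpa [mul_assoc] using hhA x hx

end Cfsg.Agent.S1996
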