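import Cfsg.Prelude
import Cfsg.Agent.Lib.Invol.TripleFactorization
import Cfsg.Agent.S1996
-- import your own Cfsg.Agent.* helpers here

set_option autoImplicit false
universe u
open Cfsg

open scoped Pointwise commutatorElement

namespace Cfsg.Agent.S1997

/-- Let p be a prime, G a finite group with Sylow p-subgroup S, and W₁, W₂ two isomorphism-invariant p-group functors (W assigns to every group Q a subgroup W(Q), nontrivial whenever Q is a nontrivial finite p-group, and every isomorphism from a finite p-group Q onto a group R carries W(Q) onto W(R)). Suppose that G* = C_{G*}(Ω₁Z(S*)) N_{G*}(W₁(S*)) = C_{G*}(Ω₁Z(S*)) N_{G*}(W₂(S*)) = N_{G*}(W₁(S*)) N_{G*}(W₂(S*)) whenever G* = K/R is a section of G with C_{G*}(O_p(G*)) ≤ O_p(G*) and S* is a Sylow p-subgroup of G*, where Ω₁Z denotes the subgroup generated by the elements of order dividing p in the centre. Suppose also Ω₁Z(S) ≤ W₁(S) ∩ W₂(S), and let A be the normal closure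 of Ω₁Z(S) in N_G(W₁(S)). Then A is an elementary abelian subgroup of S, strongly closed in S with respect to G, and A controls strong fusion in G. -/
theorem result {G : Type u} [Group G] [Finite G] {p : ℕ} [Fact p.Prime] (S : Sylow p G) (W₁ W₂ : ∀ (Q : Type u) [Group Q], Subgroup Q) (hW₁ : Cfsg.IsCharPFunctor.{u} p W₁) (hW₂ : Cfsg.IsCharPFunctor.{u} p W₂) (hfac : ∀ (K R : Subgroup G) [hR : (R.subgroupOf K).Normal], Subgroup.centralizer ((Cfsg.pCore p (↥K ⧸ R.subgroupOf K) : Subgroup (↥K ⧸ R.subgroupOf K)) : Set (↥K ⧸ R.subgroupOf K)) ≤ Cfsg.pCore p (↥K ⧸ R.subgroupOf K) → ∀ T : Sylow p (↥K ⧸ R.subgroupOf K), (∀ x : (↥K ⧸ R.subgroupOf K), ∃ a ∈ Subgroup.centralizer ((Cfsg.omegaOne p ((T : Subgroup (↥K ⧸ R.subgroupOf K)) ⊓ Subgroup.centralizer (((T : Subgroup (↥K ⧸ R.subgroupOf K)) : Subgroup (↥K ⧸ R.subgroupOf K)) : Set (↥K ⧸ R.subgroupOf K))) : Subgroup (↥K ⧸ R.subgroupOf K)) : Set (↥K ⧸ R.subgroupOf K)), ∃ b ∈ Subgroup.normalizer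 ((Cfsg.inducedFunctor (G := (↥K ⧸ R.subgroupOf K)) W₁ (T : Subgroup (↥K ⧸ R.subgroupOf K)) : Subgroup (↥K ⧸ R.subgroupOf K)) : Set (↥K ⧸ R.subgroupOf K)), x = a * b) ∧ (∀ x : (↥K ⧸ R.subgroupOf K), ∃ a ∈ Subgroup.centralizer ((Cfsg.omegaOne p ((T : Subgroup (↥K ⧸ R.subgroupOf K)) ⊓ Subgroup.centralizer (((T : Subgroup (↥K ⧸ R.subgroupOf K)) : Subgroup (↥K ⧸ R.subgroupOf K)) : Set (↥K ⧸ R.subgroupOf K))) : Subgroup (↥K ⧸ R.subgroupOf K)) : Set (↥K ⧸ R.subgroupOf K)), ∃ b ∈ Subgroup.normalizer ((Cfsg.inducedFunctor (G := (↥K ⧸ R.subgroupOf K)) W₂ (T : Subgroup (↥K ⧸ R.subgroupOf K)) : Subgroup (↥K ⧸ R.subgroupOf K)) : Set (↥K ⧸ R.subgroupOf K)), x = a * b) ∧ (∀ x : (↥K ⧸ R.subgroupOf K), ∃ a ∈ Subgroup.normalizer ((Cfsg.inducedFunctor (G := (↥K ⧸ R.subgroupOf K)) W₁ (T : Subgroup (↥K ⧸ R.subgroupOf K)) : Subgroup (↥K ⧸ R.subgroupOf K)) : Set (↥K ⧸ R.subgroupOf K)), ∃ b ∈ Subgroup.normalizer ((Cfsg.inducedFunctor (G := (↥K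 ⧸ R.subgroupOf K)) W₂ (T : Subgroup (↥K ⧸ R.subgroupOf K)) : Subgroup (↥K ⧸ R.subgroupOf K)) : Set (↥K ⧸ R.subgroupOf K)), x = a * b)) (hZ : Cfsg.omegaOne p ((S : Subgroup G) ⊓ Subgroup.centralizer (((S : Subgroup G) : Subgroup G) : Set G)) ≤ Cfsg.inducedFunctor (G := G) W₁ (S : Subgroup G) ⊓ Cfsg.inducedFunctor (G := G) W₂ (S : Subgroup G)) (N₁ : Subgroup G) (hN₁ : N₁ = Subgroup.normalizer ((Cfsg.inducedFunctor (G := G) W₁ (S : Subgroup G) : Subgroup G) : Set G)) (A : Subgroup G) (hA : A = (Subgroup.normalClosure (((Cfsg.omegaOne p ((S : Subgroup G) ⊓ Subgroup.centralizer (((S : Subgroup G) : Subgroup G) : Set G))).subgroupOf N₁ : Subgroup ↥N₁) : Set ↥N₁)).map N₁.subtype) : A ≤ (S : Subgroup G) ∧ Cfsg.IsElementaryAbelian p A ∧ Cfsg.IsStronglyClosed A (S : Subgroup G) ∧ Cfsg.ControlsStrongFusion p A := by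
  classical
  subst hN₁
  set Z := Cfsg.omegaOne p ((S : Subgroup G) ⊓ Subgroup.centralizer (((S : Subgroup G) : Subgroup G) : Set G)) with hZdef
  obtain ⟨hZ1, hZ2⟩ := le_inf_iff.mp hZ
  set N₁ := Subgroup.normalizer ((Cfsg.inducedFunctor (G := G) W₁ (S : Subgroup G) : Subgroup G) : Set G) with hN₁
  set N₂ := Subgroup.normalizer ((Cfsg.inducedFunctor (G := G) W₂ (S : Subgroup G) : Subgroup G) : Set G) with hN₂
  have hZN : Z ≤ N₁ := hZ1.trans Subgroup.le_normalizer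
  have hA' : A = Subgroup.closure (Invol.Triple.orbitSet N₁ Z) := by
    rw [hA, Subgroup.normalClosure, MonoidHom.map_closure]
    congr 1
    ext x
    constructor
    · rintro ⟨y, hy, rfl⟩
      obtain ⟨a, ha, hay⟩ := Group.mem_conjugatesOfSet_iff.mp hy
      obtain ⟨c, hc⟩ := isConj_iff.mp hay
      exact ⟨c, c.2, a, ha, congrArg Subtype.val hc⟩
    · rintro ⟨n, hn, z, hz, rfl⟩
      exact ⟨⟨n, hn⟩ * ⟨z, hZN hz⟩ * ⟨n, hn⟩⁻¹, Group.mem_conjugatesOfSet_iff.mpr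
        ⟨⟨z, hZN hz⟩, hz, isConj_iff.mpr ⟨⟨n, hn⟩, rfl⟩⟩, rfl⟩
  have h21 := Invol.Triple.step S hW₂ hW₁ (fun K R _ h T => (hfac K R h T).1) Z hZdef hZ2
  have h12 := Invol.Triple.step S hW₁ hW₂ (fun K R _ h T => (hfac K R h T).2.1) Z hZdef hZ1
  have hN1A : N₁ ≤ Subgroup.normalizer (A : Set G) := fun g hg => by
    rw [hA']
    refine Invol.Triple.le_normalizer_orbit ?_
    rintro _ ⟨m, hm, z, hz, rfl⟩
    exact Subgroup.subset_closure ⟨g * m, mul_mem hg hm, z, hz, by group⟩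
  have hN2A : N₂ ≤ Subgroup.normalizer (A : Set G) := fun g hg => by
    rw [hA']
    refine Invol.Triple.le_normalizer_orbit ?_
    rintro _ ⟨m, hm, z, hz, rfl⟩
    obtain ⟨n, hn, hnz⟩ := h12 m hm
    obtain ⟨a, ha, haz⟩ := h21 (g * n) (mul_mem hg hn)
    refine Subgroup.subset_closure ⟨a, ha, z, hz, ?_⟩
    rw [hnz z hz, ← haz z hz]
    group
  have hZS : Z ≤ Subgroup.centralizer ((S : Subgroup G) : Set G) := by
    rw [hZdef]; exact (Subgroup.closure_le _).mpr fun x hx => hx.1.2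
  have hAR : A ≤ Cfsg.inducedFunctor (G := G) W₁ (S : Subgroup G) ⊓
      Subgroup.centralizer ((Cfsg.inducedFunctor (G := G) W₁ (S : Subgroup G) : Subgroup G) : Set G) := by
    rw [hA']
    exact Invol.Triple.orbit_le le_rfl
      (le_inf hZ1 (hZS.trans (Subgroup.centralizer_le (SetLike.coe_subset_coe.mpr (Invol.inducedFunctor_le _ _)))))
  have hAS : A ≤ (S : Subgroup G) := hAR.trans (inf_le_left.trans (Invol.inducedFunctor_le _ _))
  have hAC : A ≤ Subgroup.centralizer (A : Set G) :=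
    hAR.trans (inf_le_right.trans (Subgroup.centralizer_le (SetLike.coe_subset_coe.mpr (hAR.trans inf_le_left))))
  have hcomm : ∀ x ∈ A, ∀ y ∈ A, Commute x y := fun x hx y hy => Subgroup.mem_centralizer_iff.mp (hAC hy) x hx
  have hpow : ∀ a ∈ A, a ^ p = 1 := by
    intro a ha
    rw [hA'] at ha hcomm
    induction ha using Subgroup.closure_induction with
    | mem x hx =>
      obtain ⟨n, _, z, hz, rfl⟩ := hx
      rw [conj_pow]
      suffices z ^ p = 1 by rw [this]; simp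
      have hz' : z ∈ {w : G | w ∈ (S : Subgroup G) ⊓ Subgroup.centralizer ((S : Subgroup G) : Set G) ∧ w ^ p = 1} ∪ {1} := by
        rw [hZdef] at hz
        refine Subgroup.closure_induction (p := fun w _ => w ∈ {w : G | w ∈ (S : Subgroup G) ⊓
          Subgroup.centralizer ((S : Subgroup G) : Set G) ∧ w ^ p = 1} ∪ {1}) (fun w hw => Or.inl hw) (Or.inr rfl)
          (fun u v _ _ hu hv => ?_) (fun u _ hu => ?_) hz
        · rcases hu with hu | hu
          · rcases hv with hv | hv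
            · refine Or.inl ⟨mul_mem hu.1 hv.1, ?_⟩
              have : Commute u v := (Subgroup.mem_centralizer_iff.mp hu.1.2 v hv.1.1).symm
              rw [this.mul_pow, hu.2, hv.2, one_mul]
            · rw [Set.mem_singleton_iff] at hv; subst hv; rw [mul_one]; exact Or.inl hu
          · rw [Set.mem_singleton_iff] at hu; subst hu; rw [one_mul]; exact hv
        · rcases hu with hu | hu
          · exact Or.inl ⟨inv_mem hu.1, by rw [inv_pow, hu.2, inv_one]⟩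
          · rw [Set.mem_singleton_iff] at hu; subst hu; exact Or.inr inv_one
      rcases hz' with h | h
      · exact h.2
      · rw [Set.mem_singleton_iff] at h; rw [h, one_pow]
    | one => simp
    | mul x y hx hy ihx ihy => rw [(hcomm x hx y hy).mul_pow, ihx, ihy, one_mul]
    | inv x hx ih => rw [inv_pow, ih, inv_one]
  have h𝓦 : ∀ W ∈ ({W₁, W₂} : Set (∀ (Q : Type u) [Group Q], Subgroup Q)), Cfsg.IsCharPFunctor.{u} p W := by
    rintro _ (rfl | rfl) <;> assumption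
  have hctrl : Invol.FusCtrl p {W₁, W₂} G := by
    have h := S1996.result W₁ W₂ hW₁ hW₂ (fun K R _ h T => (hfac K R h T).2.2)
    rwa [show ({Cfsg.inducedFunctor (G := G) W₁, Cfsg.inducedFunctor (G := G) W₂} : Set (Subgroup G → Subgroup G)) =
      Invol.ind {W₁, W₂} G by rw [Invol.ind, Set.image_pair], Invol.familyControlsStrongFusionIn_iff h𝓦] at h
  have hfus : ∀ (B : Set G) (g : G), B ⊆ (S : Subgroup G) → (∀ b ∈ B, g * b * g⁻¹ ∈ (S : Subgroup G)) →
      ∃ x ∈ Subgroup.normalizer (A : Set G), ∀ b ∈ B, g * b * g⁻¹ = x * b * x⁻¹ := by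
    intro B g hB hgB
    obtain ⟨c, hc, hce⟩ := hctrl S B g hB hgB
    refine ⟨c, ?_, fun b hb => (hce b hb).symm⟩
    clear hce
    induction hc with
    | one => exact one_mem _
    | step _ hx _ ih =>
      obtain ⟨_, ⟨W, hW, rfl⟩, hxN⟩ := hx
      refine mul_mem ?_ ih
      rcases hW with rfl | rfl
      · exact hN1A hxN
      · exact hN2A hxN
  refine ⟨hAS, ⟨⟨⟨fun x y => Subtype.ext (hcomm x x.2 y y.2)⟩⟩, hpow⟩, ⟨hAS, fun x hx g hgx => ?_⟩, S, hAS,
    fun B hB => ⟨hB, fun g hgB => hfus B g hB fun b hb => hgB ⟨b, hb, rfl⟩⟩⟩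
  obtain ⟨y, hy, he⟩ := hfus {x} g (Set.singleton_subset_iff.mpr (hAS hx)) (by rintro b rfl; exact hgx)
  rw [he x rfl]
  exact (Subgroup.mem_normalizer_iff.mp hy x).mp hx

end Cfsg.Agent.S1997
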