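import Cfsg.Statements.S2796
import Cfsg.Agent.S1997
import Cfsg.Agent.Lib.Classical.SFourK.Stage2
import Cfsg.Agent.Lib.Classical.SThree.Sections
import Cfsg.Agent.Lib.Invol.QdFusion

set_option autoImplicit false
universe u
open Cfsg

namespace Cfsg.Agent.S2796

open scoped Pointwise

/-- Let G be a finite group in which the symmetric group of degree 4 is not involved, such that for every section K/R of G with C(O₂(K/R)) ≤ O₂(K/R) every non-abelian composition factor of K/R is a Suzuki group Sz(2^(2n+1)) or PSL₂ over a field with 3^(2n+1) elements. Let S be a Sylow 2-subgroup, J_e(S) the subgroup generated by its elementary abelian subgroups of largest order, and A the normal closure of Ω₁(Z(S)) in N_G(J_e(S)). Then A is an elementary abelian subgroup of S, strongly closed in S with respect to G, and A controls strong fusion in G. -/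
theorem result {G : Type u} [Group G] [Finite G] (hfree : ¬ Cfsg.Involves (Equiv.Perm (Fin 4)) G) (hsec : ∀ (K R : Subgroup G) [hR : (R.subgroupOf K).Normal], Subgroup.centralizer (Cfsg.pCore 2 (K ⧸ R.subgroupOf K) : Set (K ⧸ R.subgroupOf K)) ≤ Cfsg.pCore 2 (K ⧸ R.subgroupOf K) → Cfsg.IsCompositionKGroupWith Cfsg.IsSuzukiOrPSL2OddPowerThree (K ⧸ R.subgroupOf K)) (S : Sylow 2 G) (N : Subgroup G) (hN : N = Subgroup.normalizer (Cfsg.thompsonSubgroupOf 2 (S : Subgroup G) : Set G)) (A : Subgroup G) (hA : A = (Subgroup.normalClosure (((Cfsg.omegaOne 2 ((S : Subgroup G) ⊓ Subgroup.centralizer ((S : Subgroup G) : Set G))).subgroupOf N : Subgroup ↥N) : Set ↥N)).map N.subtype) : A ≤ S ∧ Cfsg.IsElementaryAbelian 2 A ∧ Cfsg.IsStronglyClosed A (S : Subgroup G) ∧ Cfsg.ControlsStrongFusion 2 A := by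
  classical
  haveI : Fact (Nat.Prime 2) := ⟨Nat.prime_two⟩
  let W₁ : ∀ (Q : Type u) [Group Q], Subgroup Q := fun Q [Group Q] =>
    Cfsg.thompsonSubgroupOf 2 (⊤ : Subgroup Q)
  let W₂ : ∀ (Q : Type u) [Group Q], Subgroup Q := fun Q [Group Q] =>
    Classical.SFourK.uHat (⊤ : Subgroup Q)
  have hind₁ : ∀ {H : Type u} [Group H] [Finite H] (P : Subgroup H),
      Cfsg.inducedFunctor (G := H) W₁ P = Cfsg.thompsonSubgroupOf 2 P := by
    intro H _ _ P
    show (Cfsg.thompsonSubgroupOf 2 (⊤ : Subgroup P)).map P.subtype = _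
    rw [← Invol.JComp.thompson_map P.subtype P.subtype_injective, ← MonoidHom.range_eq_map,
      Subgroup.range_subtype]
  have hind₂ : ∀ {H : Type u} [Group H] [Finite H] (P : Subgroup H),
      Cfsg.inducedFunctor (G := H) W₂ P = Classical.SFourK.uHat P := by
    intro H _ _ P
    show (Classical.SFourK.uHat (⊤ : Subgroup P)).map P.subtype = _
    rw [Classical.SFourK.uHat_map P.subtype_injective, ← MonoidHom.range_eq_map, Subgroup.range_subtype]
  have hzu : ∀ {H : Type u} [Group H] [Finite H] (P : Subgroup H),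
      Block.SFour.omegaZ P ≤ Classical.SFourK.uHat P := by
    intro H _ _ P x hx
    obtain ⟨B, hB⟩ := Invol.JComp.exists_maxEl P
    exact ⟨⟨Classical.SFourK.thompson_le_jHat P
      (hB.le_thompsonEl (hB.mem_of_commute hx.1.1 hx.1.2 fun a ha => hx.2 a (hB.1 ha))), hx.1.2⟩,
      fun s hs => hx.2 s (Classical.SFourK.jHat_le P hs)⟩
  have hne : ∀ (Q : Type u) [Group Q] [Finite Q], IsPGroup 2 Q → Nontrivial Q →
      Block.SFour.omegaZ (⊤ : Subgroup Q) ≠ ⊥ := fun Q _ _ hQ _ =>
    Block.SFour.omegaZ_ne_bot (hQ.to_subgroup ⊤) (bot_ne_top.symm)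
  have hW₁ : Cfsg.IsCharPFunctor.{u} 2 W₁ := by
    refine ⟨fun Q _ _ hQ hn h => hne Q hQ hn (le_bot_iff.mp (h ▸ ?_)), fun Q R _ _ _ hQ φ => ?_⟩
    · exact (hzu _).trans (Classical.SFourK.uHat_le_thompson _)
    · haveI : Finite R := Finite.of_equiv Q φ.toEquiv
      show (Cfsg.thompsonSubgroupOf 2 (⊤ : Subgroup Q)).map φ.toMonoidHom = _
      rw [← Invol.JComp.thompson_map φ.toMonoidHom φ.injective,
        Subgroup.map_top_of_surjective φ.toMonoidHom φ.surjective]
  have hW₂ : Cfsg.IsCharPFunctor.{u} 2 W₂ := by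
    refine ⟨fun Q _ _ hQ hn h => hne Q hQ hn (le_bot_iff.mp (h ▸ hzu _)), fun Q R _ _ _ hQ φ => ?_⟩
    haveI : Finite R := Finite.of_equiv Q φ.toEquiv
    show (Classical.SFourK.uHat (⊤ : Subgroup Q)).map φ.toMonoidHom = _
    rw [Classical.SFourK.uHat_map φ.injective, Subgroup.map_top_of_surjective φ.toMonoidHom φ.surjective]
  have hSS : Block.SFour.omegaZ (S : Subgroup G) ≤ Cfsg.inducedFunctor (G := G) W₁ (S : Subgroup G) ⊓
      Cfsg.inducedFunctor (G := G) W₂ (S : Subgroup G) := by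
    rw [hind₁, hind₂]
    exact le_inf ((hzu _).trans (Classical.SFourK.uHat_le_thompson _)) (hzu _)
  refine S1997.result S W₁ W₂ hW₁ hW₂ (fun K R _ hC T => ?_)
    (by rw [Classical.SFourK.omegaOne_inf_centralizer]; exact hSS) N (by rw [hN, hind₁]) A hA
  have hfree' : ¬ Cfsg.Involves (Equiv.Perm (Fin 4)) (↥K ⧸ R.subgroupOf K) := fun h =>
    hfree ((Invol.isSectionOf_of_involves h).trans
      ((Invol.IsSectionOf.of_surjective _ (QuotientGroup.mk'_surjective _)).trans
        (Invol.IsSectionOf.of_subgroup K))).involves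
  have hL : Classical.SFourK.Local (↥K ⧸ R.subgroupOf K) :=
    ⟨Classical.SThree.isKGroup_of_composition _ _ rfl (hsec K R hC), hC,
      Block.SFour.noThree_of_sfourFree hC hfree'⟩
  have hz : ∀ (c : ↥K ⧸ R.subgroupOf K),
      c ∈ Subgroup.centralizer (((T : Subgroup (↥K ⧸ R.subgroupOf K)) ⊓
        Subgroup.centralizer ((T : Subgroup (↥K ⧸ R.subgroupOf K)) : Set (↥K ⧸ R.subgroupOf K)) :
          Subgroup (↥K ⧸ R.subgroupOf K)) : Set (↥K ⧸ R.subgroupOf K)) →
      c ∈ Subgroup.centralizer ((Cfsg.omegaOne 2 ((T : Subgroup (↥K ⧸ R.subgroupOf K)) ⊓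
        Subgroup.centralizer ((T : Subgroup (↥K ⧸ R.subgroupOf K)) : Set (↥K ⧸ R.subgroupOf K)))) :
          Set (↥K ⧸ R.subgroupOf K)) := fun c hc =>
    Subgroup.centralizer_le ((Subgroup.closure_le _).mpr fun x hx => hx.1) hc
  simp only [hind₁, hind₂]
  refine ⟨fun x => ?_, fun x => ?_, fun x => ?_⟩
  · obtain ⟨c, hc, d, hd, e⟩ := Classical.SFourK.factor_one hL T x
    exact ⟨c, hz c hc, d, hd.1, e⟩
  · obtain ⟨c, hc, d, hd, e⟩ := Classical.SFourK.factor_one hL T x
    exact ⟨c, hz c hc, d, Block.SFour.normalizer_le_omegaZ _ hd.2, e⟩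
  · obtain ⟨c, hc, n, hn, e⟩ := Classical.SFourK.factor_two _ _ rfl hL T x⁻¹
    refine ⟨n⁻¹, inv_mem hn, c⁻¹, Subgroup.centralizer_le_normalizer _ (inv_mem hc), ?_⟩
    rw [← mul_inv_rev, ← e, inv_inv]

end Cfsg.Agent.S2796
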