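import Cfsg.Prelude
import Cfsg.Agent.Lib.Spor.Gold.ReeMain

set_option autoImplicit false
open Cfsg

namespace Cfsg.Agent.S2755

open Cfsg.Agent.Spor.Gold Cfsg.Agent.Spor.Gold.Fam Cfsg.Agent.Invol

universe u

theorem no_three {G : Type u} [Group G] [Finite G] (h : Cfsg.IsSuzukiOrPSL2OddPowerThree G) :
    ¬ Cfsg.Involves (Equiv.Perm (Fin 3)) G := by
  rcases h with h | ⟨F, i1, i2, n, hF, ⟨e⟩⟩
  · exact fun h3 => noThree_of_card (card_suzuki h) (hasInvertedThree_of_involves h3)
  · exact fun h3 => noThree_psl hF (hasInvertedThree_of_involves (involves_of_equiv e h3))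

theorem with_three {G : Type u} [Group G] [Finite G] (h : Cfsg.Involves (Equiv.Perm (Fin 3)) G) :
    (¬ Cfsg.Involves (Equiv.Perm (Fin 3)) G ↔ Cfsg.IsSuzukiOrPSL2OddPowerThree G) :=
  ⟨fun h' => absurd h h', no_three⟩

/-- Every finite Goldschmidt group is S₄-free (the symmetric group of degree 4 is not involved in it); and for a finite Goldschmidt group G, the symmetric group of degree 3 is not involved in G exactly when G is a Suzuki group or PSL₂ over a field with 3^(2n+1) elements. -/
theorem result {G : Type*} [Group G] [Finite G] (hG : Cfsg.IsGoldschmidtGroup G) : ¬ Cfsg.Involves (Equiv.Perm (Fin 4)) G ∧ (¬ Cfsg.Involves (Equiv.Perm (Fin 3)) G ↔ Cfsg.IsSuzukiOrPSL2OddPowerThree G) := by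
  rcases hG with h | ⟨F, i1, i2, n, hn, hF, ⟨e⟩⟩ | h | ⟨F, i1, i2, n, hn, hF, ⟨e⟩⟩ |
    ⟨F, i1, i2, q, hF, hq5, hq, ⟨e⟩⟩ | ⟨⟨e⟩⟩
  · obtain ⟨h3, h4⟩ := ree_type h
    exact ⟨h4, with_three (involves_of_hasInvertedThree h3)⟩
  · have h3 : (3 : F) ≠ 0 := by
      haveI : Fact (Nat.Prime 2) := ⟨Nat.prime_two⟩
      haveI : CharP F 2 := charP_of_card_eq_prime_pow hF
      rw [show (3 : F) = 2 + 1 by norm_num, CharTwo.two_eq_zero, zero_add]
      exact one_ne_zero
    exact ⟨fun h => not_four_psl_even hF (involves_of_equiv e h),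
      with_three (involves_of_equiv e.symm (involves_of_hasInvertedThree (inverted_psl h3)))⟩
  · exact ⟨not_four_of_card (card_suzuki h), fun _ => Or.inl h, no_three⟩
  · have hF' : Fintype.card F = (2 ^ n) ^ 2 := by
      rw [hF, ← pow_mul, mul_comm, pow_mul]; norm_num
    haveI : Finite (PSU 3 F (2 ^ n)) := Finite.of_equiv G e.toEquiv
    exact ⟨fun h => not_four_psu (by omega) hF' (involves_of_equiv e h),
      with_three (involves_of_equiv e.symm (involves_of_hasInvertedThree (inverted_psu hF')))⟩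
  · subst hF
    refine ⟨fun h => not_four_psl_odd hq (involves_of_equiv e h), ?_⟩
    by_cases h3 : (3 : F) = 0
    · haveI : Fact (Nat.Prime 3) := ⟨Nat.prime_three⟩
      haveI : CharP F 3 := CharP.charP_iff_prime_eq_zero Nat.prime_three |>.2 (by exact_mod_cast h3)
      obtain ⟨k, -, hk⟩ := FiniteField.card F 3
      obtain ⟨m, hm | hm⟩ := Nat.even_or_odd' (k : ℕ)
      · exfalso
        have : Fintype.card F % 8 = 1 := by
          rw [hk, hm, pow_mul, Nat.pow_mod]; norm_num
        omega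
      · have hs : Cfsg.IsSuzukiOrPSL2OddPowerThree G :=
          Or.inr ⟨F, i1, i2, m, by rw [hk, hm], ⟨e⟩⟩
        exact ⟨fun _ => hs, no_three⟩
    · exact with_three (involves_of_equiv e.symm (involves_of_hasInvertedThree (inverted_psl h3)))
  · haveI : Finite Cfsg.Spor.J1 := Finite.of_equiv G e.toEquiv
    exact ⟨fun h => four_J1 (involves_of_equiv e h),
      with_three (involves_of_equiv e.symm (involves_of_hasInvertedThree inverted_J1))⟩

end Cfsg.Agent.S2755
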