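import Cfsg.Prelude
import Cfsg.Agent.Lib.Invol.SFourSection
-- import your own Cfsg.Agent.* helpers here

set_option autoImplicit false
open Cfsg

open scoped Pointwise commutatorElement

namespace Cfsg.Agent.S2759

/-- For a finite group G, the symmetric group of degree 4 is involved in G if and only if there is a 2-subgroup T of G such that the symmetric group of degree 3 is involved in N(T)/C(T). -/
theorem result {G : Type*} [Group G] [Finite G] : Cfsg.Involves (Equiv.Perm (Fin 4)) G ↔ ∃ T : Subgroup G, IsPGroup 2 ↥T ∧ Cfsg.Involves (Equiv.Perm (Fin 3)) (↥(Subgroup.normalizer (T : Set G)) ⧸ (Subgroup.centralizer (T : Set G)).subgroupOf (Subgroup.normalizer (T : Set G))) := by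
  classical
  obtain ⟨q4⟩ := Fus.exists_qd_two_equiv
  constructor
  · rintro ⟨K, R, hn, ⟨e⟩⟩
    obtain ⟨V, hVp, φ, hφ, hA⟩ :=
      Fus.grpQdWitness_of_involves (p := 2) ⟨K, R, hn, ⟨e.trans q4.symm⟩⟩
    refine ⟨V, hVp, ?_⟩
    set N := Subgroup.normalizer (V : Set G) with hN
    set C := (Subgroup.centralizer (V : Set G)).subgroupOf N with hC
    let Γ := Fus.qdGraph V φ
    let π : Γ →* N := ((MonoidHom.fst G _).comp Γ.subtype).codRestrict N fun x => x.2.1
    let π' : Γ →* N ⧸ C := (QuotientGroup.mk' C).comp π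
    let ρ : Γ →* Matrix.SpecialLinearGroup (Fin 2) (ZMod 2) := (MonoidHom.snd G _).comp Γ.subtype
    have hρ : Function.Surjective ρ := fun g => by
      obtain ⟨α, ⟨x, hx⟩, hαg⟩ := hA g
      refine ⟨⟨(x, g), Fus.mem_normalizer_of_innerBy hx, fun v h => ?_⟩, rfl⟩
      show φ _ = Fus.matAct g (φ v)
      rw [← hαg]
      exact congrArg φ (Subtype.ext (hx v).symm)
    have hle : π'.ker ≤ ρ.ker := by
      intro x hx
      have hx' : (x : G × Matrix.SpecialLinearGroup (Fin 2) (ZMod 2)).1 ∈ Subgroup.centralizer (V : Set G) :=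
        Subgroup.mem_subgroupOf.mp ((QuotientGroup.eq_one_iff _).mp (MonoidHom.mem_ker.mp hx))
      refine MonoidHom.mem_ker.mpr (Fus.eq_of_matAct_eq fun w => ?_)
      obtain ⟨v, rfl⟩ := hφ w
      have hv : (x : G × Matrix.SpecialLinearGroup (Fin 2) (ZMod 2)).1 * v * (x : G × Matrix.SpecialLinearGroup (Fin 2) (ZMod 2)).1⁻¹ = v := by
        rw [← Subgroup.mem_centralizer_iff.mp hx' v v.2, mul_inv_cancel_right]
      have := x.2.2 v (by rw [hv]; exact v.2)
      rw [show (⟨(x : G × Matrix.SpecialLinearGroup (Fin 2) (ZMod 2)).1 * v * (x : G × Matrix.SpecialLinearGroup (Fin 2) (ZMod 2)).1⁻¹, by rw [hv]; exact v.2⟩ : V) = v from Subtype.ext hv] at this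
      show Fus.matAct (x : G × Matrix.SpecialLinearGroup (Fin 2) (ZMod 2)).2 (φ v) = _
      rw [← this, Fus.matAct_one]
    let h : π'.range →* Matrix.SpecialLinearGroup (Fin 2) (ZMod 2) :=
      (QuotientGroup.lift π'.ker ρ hle).comp (QuotientGroup.quotientKerEquivRange π').symm.toMonoidHom
    have hh : Function.Surjective h :=
      (QuotientGroup.lift_surjective_of_surjective _ _ hρ hle).comp (MulEquiv.surjective _)
    exact Invol.IsSectionOf.involves
      ⟨π'.range, Invol.S4Sec.permSL.symm.toMonoidHom.comp h, Invol.S4Sec.permSL.symm.surjective.comp hh⟩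
  · rintro ⟨T, hT, hinv⟩
    set N := Subgroup.normalizer (T : Set G) with hN
    set C := (Subgroup.centralizer (T : Set G)).subgroupOf N with hC
    obtain ⟨H, f, hf⟩ := Invol.isSectionOf_of_involves hinv
    set A : Subgroup N := H.comap (QuotientGroup.mk' C) with hAdef
    let F : A →* Equiv.Perm (Fin 3) := f.comp ((QuotientGroup.mk' C).subgroupComap H)
    have hF : Function.Surjective F := hf.comp (by
      rintro ⟨y, hy⟩
      obtain ⟨x, rfl⟩ := QuotientGroup.mk'_surjective C y
      exact ⟨⟨x, hy⟩, rfl⟩)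
    have hFC : ∀ x : A, (x : N) ∈ C → F x = 1 := fun x hx => by
      show f _ = 1
      rw [← map_one f]
      congr 1
      exact Subtype.ext ((QuotientGroup.eq_one_iff (x : N)).mpr hx)
    let M : Subgroup A := (alternatingGroup (Fin 3)).comap F
    haveI : M.Normal := inferInstance
    haveI : Fact (Nat.Prime 3) := ⟨Nat.prime_three⟩
    obtain ⟨P⟩ : Nonempty (Sylow 3 M) := inferInstance
    let FM : M →* alternatingGroup (Fin 3) := (F.comp M.subtype).codRestrict _ fun x => x.2
    have hFM : Function.Surjective FM := by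
      rintro ⟨σ, hσ⟩
      obtain ⟨x, rfl⟩ := hF σ
      exact ⟨⟨x, hσ⟩, rfl⟩
    have hA3 : IsPGroup 3 (alternatingGroup (Fin 3)) := IsPGroup.of_card (n := 1) (by
      rw [Nat.card_eq_fintype_card]; rfl)
    have hP3 := Fus.sylow_map_eq_top hA3 P hFM
    set PA : Subgroup A := (P : Subgroup M).map M.subtype with hPA
    have hPAp : IsPGroup 3 PA := P.isPGroup'.map _
    -- an odd element of two-power order normalizing `P`
    obtain ⟨a₀, ha₀, ha₀s⟩ : ∃ a₀ ∈ Subgroup.normalizer (PA : Set A), a₀ ∉ M := by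
      by_contra hcon
      push Not at hcon
      have h1 := Sylow.normalizer_sup_eq_top P
      rw [sup_eq_right.mpr hcon] at h1
      obtain ⟨x, hx⟩ := hF (Equiv.swap 0 1)
      have : x ∈ M := h1 ▸ Subgroup.mem_top x
      have h2 : F x ∈ alternatingGroup (Fin 3) := this
      rw [hx, Equiv.Perm.mem_alternatingGroup, Equiv.Perm.sign_swap (by decide)] at h2
      exact absurd h2 (by decide)
    obtain ⟨k, m, hm, hkm⟩ := Nat.exists_eq_pow_mul_and_not_dvd (orderOf_pos a₀).ne' 2 (by norm_num)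
    set a := a₀ ^ m with ha
    have hak : orderOf a = 2 ^ k := by
      rw [ha, orderOf_pow_of_dvd (by rintro rfl; exact hm (dvd_zero 2)) (Dvd.intro_left _ hkm.symm), hkm]
      exact Nat.mul_div_cancel _ (Nat.pos_of_ne_zero (by rintro rfl; exact hm (dvd_zero 2)))
    have haP : a ∈ Subgroup.normalizer (PA : Set A) := Subgroup.pow_mem _ ha₀ m
    have haM : F a ∉ alternatingGroup (Fin 3) := by
      intro h
      rw [ha, map_pow] at h
      refine ha₀s (?_ : F a₀ ∈ alternatingGroup (Fin 3))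
      rw [Equiv.Perm.mem_alternatingGroup, map_pow] at h
      rw [Equiv.Perm.mem_alternatingGroup]
      obtain ⟨j, hj⟩ : Odd m := Nat.not_even_iff_odd.mp fun he => hm he.two_dvd
      rcases Int.units_eq_one_or (Equiv.Perm.sign (F a₀)) with h1 | h1
      · exact h1
      · rw [h1, hj, pow_succ, pow_mul, neg_one_sq, one_pow, one_mul] at h
        exact absurd h (by decide)
    set c : Equiv.Perm (Fin 3) := Equiv.swap 0 1 * Equiv.swap 1 2 with hc
    -- a fixed preimage of the three-cycle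
    let Ω : Type _ := {z : PA // F (z : A) = c}
    let B : Subgroup A := Subgroup.zpowers (a ^ 2)
    have hsq : ∀ σ : Equiv.Perm (Fin 3), σ ∉ alternatingGroup (Fin 3) →
        σ * σ = 1 ∧ c⁻¹ * (σ * c * σ⁻¹) ≠ 1 := by
      intro σ; revert σ
      simp only [Equiv.Perm.mem_alternatingGroup, hc]
      decide
    have hB : ∀ b ∈ B, b ∈ Subgroup.normalizer (PA : Set A) ∧ F b = 1 := by
      intro b hb
      obtain ⟨i, rfl⟩ := Subgroup.mem_zpowers_iff.mp hb
      refine ⟨Subgroup.zpow_mem _ (Subgroup.pow_mem _ haP 2) i, ?_⟩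
      rw [map_zpow, map_pow, pow_two, (hsq _ haM).1, one_zpow]
    let _ : MulAction B Ω :=
      { smul := fun b z => ⟨⟨(b : A) * ((z : PA) : A) * (b : A)⁻¹,
          (Subgroup.mem_normalizer_iff.mp (hB b b.2).1 _).mp z.1.2⟩, by
            show F ((b : A) * ((z : PA) : A) * (b : A)⁻¹) = c
            rw [map_mul, map_mul, map_inv, (hB b b.2).2, z.2, one_mul, inv_one, mul_one]⟩
        one_smul := fun z => Subtype.ext (Subtype.ext (by show (1 : A) * _ * (1 : A)⁻¹ = _; simp))
        mul_smul := fun b b' z => Subtype.ext (Subtype.ext (by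
          show ((b : A) * b') * _ * ((b : A) * b')⁻¹ = (b : A) * ((b' : A) * _ * (b' : A)⁻¹) * (b : A)⁻¹
          group)) }
    obtain ⟨z₀, hz₀⟩ : ∃ z : PA, F (z : A) = c := by
      have hcA : c ∈ alternatingGroup (Fin 3) := by
        rw [Equiv.Perm.mem_alternatingGroup, hc]; decide
      obtain ⟨z, hz, hzc⟩ := (hP3 ▸ Subgroup.mem_top (⟨c, hcA⟩ : alternatingGroup (Fin 3)) :
        (⟨c, hcA⟩ : alternatingGroup (Fin 3)) ∈ (P : Subgroup M).map FM)
      exact ⟨⟨z, ⟨z, hz, rfl⟩⟩, congrArg Subtype.val hzc⟩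
    obtain ⟨z, hz⟩ : (MulAction.fixedPoints B Ω).Nonempty := by
      have hB2 : IsPGroup 2 B := by
        obtain ⟨i, -, hi⟩ := (Nat.dvd_prime_pow Nat.prime_two).mp (hak ▸ orderOf_pow_dvd (x := a) 2)
        exact IsPGroup.of_card (n := i) (by rw [Nat.card_zpowers, hi])
      refine hB2.nonempty_fixed_point_of_prime_not_dvd_card Ω ?_
      let K₀ : Subgroup PA := (F.comp PA.subtype).ker
      have e : Ω ≃ K₀ :=
        { toFun := fun z => ⟨z₀⁻¹ * z.1, by
            show F (((z₀⁻¹ * z.1 : PA)) : A) = 1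
            rw [Subgroup.coe_mul, Subgroup.coe_inv, map_mul, map_inv, hz₀, z.2, inv_mul_cancel]⟩
          invFun := fun y => ⟨z₀ * y, by
            rw [Subgroup.coe_mul, map_mul, hz₀, show F ((y : PA) : A) = 1 from y.2, mul_one]⟩
          left_inv := fun z => Subtype.ext (by simp)
          right_inv := fun y => Subtype.ext (by simp) }
      rw [Nat.card_congr e]
      obtain ⟨i, hi⟩ := IsPGroup.iff_card.mp (hPAp.to_subgroup K₀)
      rw [hi]
      exact fun h => absurd (Nat.prime_two.dvd_of_dvd_pow h) (by norm_num)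
    have hfix : a ^ 2 * ((z.1 : PA) : A) * (a ^ 2)⁻¹ = ((z.1 : PA) : A) :=
      congrArg (fun z : Ω => ((z.1 : PA) : A)) (hz ⟨a ^ 2, Subgroup.mem_zpowers _⟩)
    set zA : A := ((z.1 : PA) : A) with hzA
    set w : A := zA⁻¹ * (a * zA * a⁻¹) with hw
    have hwP : w ∈ PA := PA.mul_mem (PA.inv_mem z.1.2) ((Subgroup.mem_normalizer_iff.mp haP _).mp z.1.2)
    have hwinv : a * w * a⁻¹ = w⁻¹ := by
      calc a * w * a⁻¹ = (a * zA * a⁻¹)⁻¹ * (a ^ 2 * zA * (a ^ 2)⁻¹) := by rw [hw]; simp [pow_two, mul_assoc]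
        _ = w⁻¹ := by rw [hfix, hw]; group
    have hwF : F w ≠ 1 := by
      rw [hw, map_mul, map_inv, map_mul, map_mul, map_inv, z.2]
      exact (hsq _ haM).2
    -- the action on the Frattini quotient
    set T' : Subgroup N := T.subgroupOf N with hT'
    haveI hT'n : T'.Normal := Subgroup.normal_in_normalizer
    have hT'p : IsPGroup 2 T' := hT.comap_subtype
    set Φ : Subgroup N := (frattini T').map T'.subtype with hΦ
    haveI hΦn : Φ.Normal := ConjAct.normal_of_characteristic_of_normal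
    have hcop : ∀ v : N, v ∈ PA.map A.subtype → ∃ i, orderOf v = 3 ^ i := by
      rintro _ ⟨v, hv, rfl⟩
      obtain ⟨i, hi⟩ := IsPGroup.iff_orderOf.mp hPAp ⟨v, hv⟩
      exact ⟨i, by rw [← hi]; show orderOf ((v : A) : N) = _; rw [Subgroup.orderOf_coe, ← Subgroup.orderOf_coe (⟨v, hv⟩ : PA)]⟩
    set wN : N := (w : N) with hwN
    obtain ⟨i, hi⟩ := hcop wN ⟨w, hwP, rfl⟩
    let q := QuotientGroup.mk' Φ
    set W : Subgroup (N ⧸ Φ) := T'.map q with hW
    have hWn : W.Normal := hT'n.map q (QuotientGroup.mk'_surjective _)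
    have hex : ¬ ∀ u ∈ W, q wN * u = u * q wN := by
      intro hcon
      have hA' : Subgroup.zpowers wN ≤ Subgroup.normalizer (T' : Set N) := by
        rw [Subgroup.normalizer_eq_top_iff.mpr hT'n]; exact le_top
      have hco : (Nat.card (Subgroup.zpowers wN)).Coprime (Nat.card T') := by
        obtain ⟨j, hj⟩ := IsPGroup.iff_card.mp hT'p
        rw [Nat.card_zpowers, hi, hj]
        exact Nat.Coprime.pow _ _ (by norm_num)
      have h1 := Grp.commutator_sup_fixed (Subgroup.zpowers wN) T' hA' hco (Or.inr (by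
        have : Group.IsNilpotent T' := hT'p.isNilpotent
        infer_instance))
      have h2 : ⁅T', Subgroup.zpowers wN⁆ ≤ Φ := Subgroup.commutator_le.mpr fun t ht v hv => by
        obtain ⟨j, rfl⟩ := Subgroup.mem_zpowers_iff.mp hv
        rw [← QuotientGroup.eq_one_iff, ← QuotientGroup.mk'_apply, map_commutatorElement, map_zpow,
          commutatorElement_eq_one_iff_commute]
        exact ((show Commute (q wN) (q t) from hcon _ ⟨t, ht, rfl⟩).symm).zpow_right j
      set C₀ : Subgroup N := T' ⊓ Subgroup.centralizer (Subgroup.zpowers wN : Set N) with hC₀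
      have h3 : C₀.subgroupOf T' ⊔ frattini T' = ⊤ := by
        refine eq_top_iff.mpr fun t _ => ?_
        have ht : (t : N) ∈ C₀ ⊔ Φ := by
          refine (le_trans (le_of_eq h1.symm) ?_) t.2
          exact sup_le (h2.trans le_sup_right) le_sup_left
        obtain ⟨c₁, hc₁, d, ⟨d', hd', rfl⟩, hcd⟩ := Subgroup.mem_sup_of_normal_right.mp ht
        rw [show t = (⟨c₁, hc₁.1⟩ : T') * d' from Subtype.ext hcd.symm]
        exact Subgroup.mul_mem_sup hc₁ hd'
      have h4 := frattini_nongenerating h3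
      refine hwF (hFC w (Subgroup.mem_subgroupOf.mpr (Subgroup.mem_centralizer_iff.mpr fun t ht => ?_)))
      have htN : t ∈ N := Subgroup.le_normalizer ht
      have : (⟨⟨t, htN⟩, ht⟩ : T') ∈ C₀.subgroupOf T' := h4 ▸ Subgroup.mem_top _
      exact (congrArg Subtype.val (Subgroup.mem_centralizer_iff.mp (Subgroup.mem_subgroupOf.mp this).2 wN
        (Subgroup.mem_zpowers wN))).symm
    have hwi : wN ^ 3 ^ i = 1 := hi ▸ pow_orderOf_eq_one wN
    have hPred : ∃ j, ∀ u ∈ W, (q wN) ^ 3 ^ j * u = u * (q wN) ^ 3 ^ j := ⟨i, fun u _ => by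
      rw [← map_pow, hwi, map_one, one_mul, mul_one]⟩
    obtain ⟨j, hj⟩ : ∃ j, Nat.find hPred = j + 1 := Nat.exists_eq_succ_of_ne_zero fun h0 => hex (by
      have := Nat.find_spec hPred
      rw [h0, pow_zero, pow_one] at this
      exact this)
    have hjs := Nat.find_spec hPred
    rw [hj] at hjs
    have hjn := Nat.find_min hPred (by omega : j < Nat.find hPred)
    push Not at hjn
    have hwit : Fus.GrpQdWitness (N ⧸ Φ) 2 := by
      refine Invol.S4Sec.witness_of_inverted hWn ?_ ?_ (X := (q wN) ^ 3 ^ j) (a := q (a : N)) ?_ ?_ ?_ hjn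
      · rintro _ ⟨u, hu, rfl⟩ _ ⟨v, hv, rfl⟩
        rw [← commutatorElement_eq_one_iff_mul_comm, ← map_commutatorElement, QuotientGroup.mk'_apply, QuotientGroup.eq_one_iff]
        refine ⟨⁅(⟨u, hu⟩ : T'), ⟨v, hv⟩⁆, Grp.pGroup_commutator_le_frattini hT'p
          (Subgroup.commutator_mem_commutator (Subgroup.mem_top _) (Subgroup.mem_top _)), rfl⟩
      · rintro _ ⟨u, hu, rfl⟩
        rw [← map_pow, QuotientGroup.mk'_apply, QuotientGroup.eq_one_iff]
        exact ⟨(⟨u, hu⟩ : T') ^ 2, Grp.pGroup_pow_mem_frattini hT'p _, rfl⟩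
      · rw [← conj_pow, ← map_inv, ← map_mul, ← map_mul, ← inv_pow, ← map_inv]
        exact congrArg (fun t => q t ^ 3 ^ j) (congrArg Subtype.val hwinv)
      · have hd : orderOf (q (a : N)) ∣ 2 ^ k := by
          refine (orderOf_map_dvd q (a : N)).trans ?_
          rw [Subgroup.orderOf_coe, hak]
        obtain ⟨l, -, hl⟩ := (Nat.dvd_prime_pow Nat.prime_two).mp hd
        exact ⟨l, hl⟩
      · intro u hu
        rw [← pow_mul, ← pow_succ]
        exact hjs u hu
    obtain ⟨K, R, hn', ⟨e⟩⟩ := Fus.involves_of_grpQdWitness hwit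
    have hsec : Invol.IsSectionOf (Equiv.Perm (Fin 4)) (N ⧸ Φ) :=
      Invol.isSectionOf_of_involves ⟨K, R, hn', ⟨e.trans q4⟩⟩
    exact ((hsec.trans (Invol.IsSectionOf.of_surjective q (QuotientGroup.mk'_surjective _))).trans
      (Invol.IsSectionOf.of_subgroup N)).involves

end Cfsg.Agent.S2759
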