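import Cfsg.Statements.S0811
import Cfsg.Agent.Lib.Classical.DicksonTorusMax
-- import your own Cfsg.Agent.* helpers here

set_option autoImplicit false
open Cfsg

namespace Cfsg.Agent.S0811
open Cfsg.Agent.Dickson Cfsg.Agent.PSL2Spec

/-- For q ∉ {2, 7, 9}, PSL_2(q) has a maximal subgroup isomorphic to the dihedral group of order 2(q + 1)/d, d = gcd(2, q − 1). -/
theorem result {F : Type*} [Field F] [Fintype F] {q : ℕ} (hF : Fintype.card F = q) (hq : q ∉ ({2, 7, 9} : Finset ℕ)) : ∃ H : Subgroup (Matrix.ProjectiveSpecialLinearGroup (Fin 2) F), IsCoatom H ∧ Nonempty (H ≃* DihedralGroup ((q + 1) / Nat.gcd 2 (q - 1))) := by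
  classical
  subst hF
  obtain ⟨p, hc⟩ := CharP.exists F
  haveI : Fact p.Prime := ⟨CharP.char_is_prime F p⟩
  simp only [Finset.mem_insert, Finset.mem_singleton, not_or] at hq
  obtain ⟨hq2, hq7, hq9⟩ := hq
  obtain ⟨a, ha, hap, hT⟩ := exists_tor_plus (F := F) p
  obtain ⟨hN, hiso⟩ := normalizer_tor p ha hap
  have h3 : 3 ≤ Fintype.card F := by have := Fintype.one_lt_card (α := F); omega
  refine ⟨_, ?_, hT ▸ hiso⟩
  rcases eq_or_lt_of_le h3 with h | h4
  · refine isCoatom_of_forall (normalizer_semi_ne_top p h3 ha hap) fun M hM hle => ?_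
    have h1 := Subgroup.card_dvd_of_le hle
    have h2 := Subgroup.card_subgroup_dvd_card M
    have hG := card_psl (F := F)
    have hd : del F = 2 := by
      rcases del_cases F with ⟨-, he⟩ | ⟨hd, -⟩
      · rw [← h] at he; exact absurd he (by decide)
      · exact hd
    rw [hd, ← h] at hG hT
    norm_num [-Nat.card_eq_fintype_card] at hG hT
    rw [hN, hT] at h1
    rw [show Nat.card (Matrix.ProjectiveSpecialLinearGroup (Fin 2) F) = 12 by omega] at h2
    have h12 : Nat.card M ≠ 12 := fun e => hM.1 (Subgroup.eq_top_of_card_eq M (by omega))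
    refine (Subgroup.eq_of_le_of_card_ge hle ?_).symm
    rw [hN, hT]
    have := Nat.le_of_dvd (by norm_num) h2
    interval_cases hMc : Nat.card M <;> omega
  have hdc := del_cases F
  rcases hdc with ⟨hd, hev⟩ | ⟨hd, hod⟩
  · rw [hd, Nat.div_one] at hT
    obtain ⟨m, hm⟩ := hev
    have hp2 := p_eq_two p ⟨m, hm⟩
    refine torus_coatom p h4 ha hap (by omega) (fun _ h8 => by omega) (fun h10 => by omega) fun k r hr hk hkr => ?_
    have : k < k ^ r := lt_self_pow₀ (by omega) hr.one_lt
    omega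
  · rw [hd] at hT
    obtain ⟨m, hm⟩ := hod
    refine torus_coatom p h4 ha hap (by omega) (fun hqp h8 => ?_) (fun h10 => by omega) fun k r hr hk hkr => ?_
    · omega
    · have h2 : k ^ 2 ≤ Fintype.card F := hkr ▸ Nat.pow_le_pow_right (by omega) hr.two_le
      have h2' : 3 * k ≤ k ^ 2 := by rw [pow_two]; exact Nat.mul_le_mul_right k hk
      omega

end Cfsg.Agent.S0811
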