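import Cfsg.Statements.S0812
import Cfsg.Agent.Lib.Classical.DicksonTorusMax
-- import your own Cfsg.Agent.* helpers here

set_option autoImplicit false
open Cfsg

namespace Cfsg.Agent.S0812
open Cfsg.Agent.Dickson Cfsg.Agent.PSL2Spec

/-- For q ∉ {2, 3, 5, 7, 9, 11}, PSL_2(q) has a maximal subgroup isomorphic to the dihedral group of order 2(q − 1)/d, d = gcd(2, q − 1). -/
theorem result {F : Type*} [Field F] [Fintype F] {q : ℕ} (hF : Fintype.card F = q) (hq : q ∉ ({2, 3, 5, 7, 9, 11} : Finset ℕ)) : ∃ H : Subgroup (Matrix.ProjectiveSpecialLinearGroup (Fin 2) F), IsCoatom H ∧ Nonempty (H ≃* DihedralGroup ((q - 1) / Nat.gcd 2 (q - 1))) := by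
  classical
  subst hF
  obtain ⟨p, hc⟩ := CharP.exists F
  haveI : Fact p.Prime := ⟨CharP.char_is_prime F p⟩
  simp only [Finset.mem_insert, Finset.mem_singleton, not_or] at hq
  obtain ⟨hq2, hq3, hq5, hq7, hq9, hq11⟩ := hq
  have h4 : 4 ≤ Fintype.card F := by have := Fintype.one_lt_card (α := F); omega
  have hdc := del_cases F
  have h2T : 2 ≤ (Fintype.card F - 1) / del F := by
    rcases hdc with ⟨hd, -⟩ | ⟨hd, ho⟩
    · rw [hd, Nat.div_one]
      omega
    · rw [hd]
      have := Nat.odd_iff.mp ho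
      omega
  obtain ⟨a, ha, hap, hT⟩ := exists_tor_minus (F := F) p h2T
  obtain ⟨hN, hiso⟩ := normalizer_tor p ha hap
  refine ⟨_, ?_, hT ▸ hiso⟩
  rcases hdc with ⟨hd, hev⟩ | ⟨hd, hod⟩
  · rw [hd, Nat.div_one] at hT
    obtain ⟨m, hm⟩ := hev
    have hp2 := p_eq_two p ⟨m, hm⟩
    refine torus_coatom p h4 ha hap (by omega) (fun _ h8 => by omega) (fun h10 => by omega) fun k r hr hk hkr => ?_
    have h2 : k ^ 2 ≤ Fintype.card F := hkr ▸ Nat.pow_le_pow_right (by omega) hr.two_le
    have h2' : 3 * k ≤ k ^ 2 := by rw [pow_two]; exact Nat.mul_le_mul_right k hk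
    omega
  · rw [hd] at hT
    obtain ⟨m, hm⟩ := hod
    refine torus_coatom p h4 ha hap (by omega) (fun hqp h8 => by omega) (fun h10 => by omega) fun k r hr hk hkr => ?_
    have hko : k % 2 = 1 := Nat.odd_iff.mp ((Nat.odd_pow_iff hr.ne_zero).mp (hkr ▸ ⟨m, hm⟩))
    have h2 : k ^ 2 ≤ Fintype.card F := hkr ▸ Nat.pow_le_pow_right (by omega) hr.two_le
    rcases eq_or_lt_of_le hk with e | e
    · subst e
      have h3 : 3 ≤ r := by
        by_contra hr3
        obtain rfl : r = 2 := by have := hr.two_le; omega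
        norm_num at hkr
        omega
      have : 3 ^ 3 ≤ 3 ^ r := Nat.pow_le_pow_right (by omega) h3
      omega
    · have h2' : 5 * k ≤ k ^ 2 := by rw [pow_two]; exact Nat.mul_le_mul_right k (by omega)
      omega

end Cfsg.Agent.S0812
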