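import Cfsg.Statements.S0799
import Cfsg.Agent.Lib.Classical.DicksonFacts
-- import your own Cfsg.Agent.* helpers here

set_option autoImplicit false
open Cfsg

namespace Cfsg.Agent.S0799

/-- Dickson's classification of the subgroups of PSL_2(q), q a power of the prime p, d = gcd(2, q − 1): every subgroup H is (a) cyclic or dihedral with k dividing (q+1)/d or (q−1)/d (cyclic of order k, or dihedral of order 2k), (b) isomorphic to a subgroup of the normaliser of a Sylow p-subgroup, (c) isomorphic to A_4, S_4 or A_5, or (d) isomorphic to PSL_2(K) or PGL_2(K) for a finite field K with |K|^m = q. -/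
theorem result {F : Type*} [Field F] [Fintype F] {q : ℕ} (hF : Fintype.card F = q) (p : ℕ) [Fact p.Prime] [CharP F p] (H : Subgroup (Matrix.ProjectiveSpecialLinearGroup (Fin 2) F)) : (∃ k : ℕ, (k ∣ (q + 1) / Nat.gcd 2 (q - 1) ∨ k ∣ (q - 1) / Nat.gcd 2 (q - 1)) ∧ ((IsCyclic H ∧ Nat.card H = k) ∨ Nonempty (H ≃* DihedralGroup k))) ∨ (∃ (P : Sylow p (Matrix.ProjectiveSpecialLinearGroup (Fin 2) F)) (K : Subgroup (Matrix.ProjectiveSpecialLinearGroup (Fin 2) F)), K ≤ Subgroup.normalizer ((P : Subgroup (Matrix.ProjectiveSpecialLinearGroup (Fin 2) F)) : Set (Matrix.ProjectiveSpecialLinearGroup (Fin 2) F)) ∧ Nonempty (H ≃* K)) ∨ Nonempty (H ≃* alternatingGroup (Fin 4)) ∨ Nonempty (H ≃* Equiv.Perm (Fin 4)) ∨ Nonempty (H ≃* alternatingGroup (Fin 5)) ∨ (∃ (K : Type) (_ : Field K) (_ : Fintype K) (m : ℕ), Fintype.card K ^ m = q ∧ (Nonempty (H ≃* Matrix.ProjectiveSpecialLinearGroup (Fin 2) K) ∨ Nonempty (H ≃* Matrix.ProjGenLinGroup (Fin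 2) K))) := by
  subst hF
  open Cfsg.Agent.Dickson in
  rcases dickson p H with h | ⟨a, ha, ha1, hap, h⟩ | ⟨a, ha, ha1, hap, hidx, h, iso⟩ | ⟨a, ha, ha1, hap, h⟩ |
    ⟨hc, iso, -⟩ | ⟨hc, iso, -⟩ | ⟨hc, iso, -⟩ | h
  · subst h
    exact Or.inl ⟨1, Or.inl (one_dvd _), Or.inl ⟨inferInstance, Subgroup.card_bot⟩⟩
  · haveI : IsCyclic (tor a) := (pslData p).semi_cyclic ha1 hap
    refine Or.inl ⟨Nat.card H, ?_, Or.inl ⟨isCyclic_of_injective (Subgroup.inclusion h) (Subgroup.inclusion_injective h), rfl⟩⟩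
    exact (card_tor_dvd p ha1 hap).symm.imp (Subgroup.card_dvd_of_le h).trans (Subgroup.card_dvd_of_le h).trans
  · refine Or.inl ⟨Nat.card ((tor a).subgroupOf H), ?_, Or.inr iso⟩
    have hd : Nat.card ((tor a).subgroupOf H) ∣ Nat.card (tor a) := by
      rw [← Subgroup.inf_subgroupOf_right,
        Nat.card_congr (Subgroup.subgroupOfEquivOfLe (inf_le_right : tor a ⊓ H ≤ H)).toEquiv]
      exact Subgroup.card_dvd_of_le inf_le_left
    exact (card_tor_dvd p ha1 hap).symm.imp hd.trans hd.trans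
  · obtain ⟨P, hP⟩ := (pslData p).exists_sylow (Fact.out : p.Prime) ha1 hap
    exact Or.inr (Or.inl ⟨P, H, hP ▸ h, ⟨MulEquiv.refl _⟩⟩)
  · exact Or.inr (Or.inr (Or.inl iso))
  · exact Or.inr (Or.inr (Or.inr (Or.inl iso)))
  · exact Or.inr (Or.inr (Or.inr (Or.inr (Or.inl iso))))
  · obtain ⟨K, _, _, m, -, hm, hi⟩ := h.nonempty
    exact Or.inr (Or.inr (Or.inr (Or.inr (Or.inr ⟨K, inferInstance, inferInstance, m, hm, hi⟩))))

end Cfsg.Agent.S0799
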