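import Cfsg.Statements.S0506
import Cfsg.Agent.Lib.Invol.AbelTwo.Consumers
import Cfsg.Agent.Lib.Invol.JankoWard.Ward

set_option autoImplicit false
open Cfsg

namespace Cfsg.Agent.S0506

/-- A non-abelian finite simple group with abelian Sylow 2-subgroups is isomorphic to a projective special linear group
of dimension 2 over a field with 2^a ≥ 4 elements or with q ≡ 3, 5 mod 8 elements, or is simple with the order of a Ree
group or of order 175560. -/
theorem result {G : Type*} [Group G] [Finite G] [IsSimpleGroup G]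
    (hG : ¬ IsMulCommutative G) (S : Sylow 2 G) (hS : IsMulCommutative (S : Subgroup G)) :
    (∃ a : ℕ, 2 ≤ a ∧ ∃ (F : Type) (_ : Field F) (_ : Fintype F), Fintype.card F = 2 ^ a ∧ Nonempty (G ≃* Matrix.ProjectiveSpecialLinearGroup (Fin 2) F)) ∨
      (∃ (F : Type) (_ : Field F) (_ : Fintype F), (Fintype.card F % 8 = 3 ∨ Fintype.card F % 8 = 5) ∧ Nonempty (G ≃* Matrix.ProjectiveSpecialLinearGroup (Fin 2) F)) ∨
      Cfsg.IsRee G ∨ Cfsg.IsJ1 G := by
  exact Cfsg.Agent.Invol.AbelTwo.simple_abelian_two Cfsg.Agent.Invol.JankoWard.ward hG S hS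

end Cfsg.Agent.S0506
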