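import Cfsg.Statements.S1169
import Cfsg.Agent.Lib.Fus.Goldschmidt.Main

set_option autoImplicit false
open Cfsg

namespace Cfsg.Agent.S1169

/-- Goldschmidt's Theorem on strongly closed abelian 2-subgroups: let G be a finite simple group and S a Sylow 2-subgroup of G containing a nontrivial commutative subgroup A that is strongly closed in S. Then either S is commutative or G possesses a strongly embedded subgroup. -/
theorem result {G : Type*} [Group G] [Finite G] [IsSimpleGroup G] (S : Sylow 2 G) (A : Subgroup G) (hA : A ≠ ⊥) (hAcomm : IsMulCommutative A) (hsc : Cfsg.IsStronglyClosed A (S : Subgroup G)) : IsMulCommutative (S : Subgroup G) ∨ ∃ H : Subgroup G, Cfsg.IsStronglyEmbedded H := by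
  haveI : Fact (Nat.Prime 2) := ⟨Nat.prime_two⟩
  by_cases hG : IsMulCommutative G
  · exact Or.inl ⟨⟨fun x y => Subtype.ext (hG.is_comm.comm (x : G) y)⟩⟩
  have hcomm : ∀ x ∈ A, ∀ y ∈ A, x * y = y * x := fun x hx y hy =>
    congrArg Subtype.val (hAcomm.is_comm.comm (⟨x, hx⟩ : A) ⟨y, hy⟩)
  let O : Subgroup G :=
    { carrier := {x | x ∈ A ∧ x * x = 1}
      one_mem' := ⟨one_mem A, one_mul 1⟩
      mul_mem' := fun {x y} hx hy => ⟨mul_mem hx.1 hy.1, by
        rw [show x * y * (x * y) = x * (y * x) * y by group, hcomm y hy.1 x hx.1,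
          show x * (x * y) * y = x * x * (y * y) by group, hx.2, hy.2, one_mul]⟩
      inv_mem' := fun {x} hx => ⟨inv_mem hx.1, by rw [← mul_inv_rev, hx.2, inv_one]⟩ }
  have hOA : O ≤ A := fun x hx => hx.1
  have hO : Cfsg.IsElementaryAbelian 2 O :=
    ⟨⟨⟨fun x y => Subtype.ext (hcomm x x.2.1 y y.2.1)⟩⟩, fun x hx => by rw [pow_two]; exact hx.2⟩
  have hOne : O ≠ ⊥ := by
    obtain ⟨⟨x, hx⟩, hx1⟩ := A.ne_bot_iff_exists_ne_one.1 hA
    obtain ⟨k, hk⟩ := IsPGroup.iff_orderOf.1 (S.isPGroup'.to_le hsc.1) ⟨x, hx⟩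
    rw [Subgroup.orderOf_mk] at hk
    have hk0 : k ≠ 0 := fun e => hx1 (Subtype.ext (orderOf_eq_one_iff.1 (by rw [hk, e, pow_zero])))
    have ho : orderOf (x ^ (orderOf x / 2)) = 2 :=
      orderOf_pow_orderOf_div (orderOf_pos x).ne' (hk ▸ dvd_pow_self 2 hk0)
    intro he
    have hmem : x ^ (orderOf x / 2) ∈ O :=
      ⟨pow_mem hx _, by rw [← pow_two, ← orderOf_dvd_iff_pow_eq_one, ho]⟩
    rw [he, Subgroup.mem_bot] at hmem
    rw [hmem, orderOf_one] at ho
    omega
  have hOsc : Cfsg.IsStronglyClosed O (S : Subgroup G) := ⟨hOA.trans hsc.1, fun x hx g hg =>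
    ⟨hsc.2 x hx.1 g hg, by rw [show g * x * g⁻¹ * (g * x * g⁻¹) = g * (x * x) * g⁻¹ by group, hx.2]; group⟩⟩
  rcases (Fus.Gold.conclusion_all G inferInstance hG S O hOne hO hOsc).1 with h | h
  · exact Or.inl (h ▸ hO.1)
  · exact Or.inr h

end Cfsg.Agent.S1169
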