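import Cfsg.Statements.S1248
import Mathlib
import Cfsg.Agent.Lib.Recog.SU3SylowBasic
-- import your own Cfsg.Agent.* helpers here

set_option autoImplicit false
open Cfsg

namespace Cfsg.Agent.S1248

/-- Let F be a field with 16 elements and S a Sylow 2-subgroup of PSU(3) over F (the unitary group U₃(4)). Then |S| = 64; the centre Z(S) is a Klein four-group and coincides with the subgroup generated by the involutions of S and with the derived subgroup; and every element of S ⧸ Z(S) squares to the identity, S ⧸ Z(S) having order 16. -/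
theorem result {F : Type*} [Field F] [Fintype F] (hF : Fintype.card F = 16) (S : Sylow 2 (Cfsg.PSU 3 F 4)) : Nat.card S = 64 ∧ IsKleinFour (Subgroup.center (S : Subgroup (Cfsg.PSU 3 F 4))) ∧ Subgroup.center (S : Subgroup (Cfsg.PSU 3 F 4)) = Subgroup.closure {x : (S : Subgroup (Cfsg.PSU 3 F 4)) | orderOf x = 2} ∧ Subgroup.center (S : Subgroup (Cfsg.PSU 3 F 4)) = commutator (S : Subgroup (Cfsg.PSU 3 F 4)) ∧ Nat.card ((S : Subgroup (Cfsg.PSU 3 F 4)) ⧸ Subgroup.center (S : Subgroup (Cfsg.PSU 3 F 4))) = 16 ∧ ∀ x : (S : Subgroup (Cfsg.PSU 3 F 4)) ⧸ Subgroup.center (S : Subgroup (Cfsg.PSU 3 F 4)), x ^ 2 = 1 := by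
  have hF' : Fintype.card F = 4 ^ 2 := by rw [hF]; norm_num
  haveI := Cfsg.Agent.Recog.SU3Two.charP_two (F := F) (m := 4) (by rw [hF]; norm_num)
  haveI : Fact (Fintype.card F = 4 ^ 2) := ⟨hF'⟩
  obtain ⟨e⟩ := Cfsg.Agent.Recog.SU3Two.sylow_psu (n := 2) (q := 4) (by norm_num) (by norm_num) S
  have hc : Nat.card ↥(S : Subgroup (PSU 3 F 4)) = 64 := by
    rw [← Nat.card_congr e.toEquiv, Cfsg.Agent.Recog.SU3Two.UT.card]; norm_num
  have hz : Nat.card (Subgroup.center (S : Subgroup (PSU 3 F 4))) = 4 := by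
    rw [← Nat.card_congr (Subgroup.centerCongr e).toEquiv, Cfsg.Agent.Recog.SU3Two.UT.card_center]
  have hmem : ∀ x : ↥(S : Subgroup (PSU 3 F 4)), x ∈ Subgroup.center ↥(S : Subgroup (PSU 3 F 4)) ↔ (e.symm x).a = 0 := by
    intro x
    rw [← Cfsg.Agent.Recog.SU3Two.UT.mem_center_iff, Subgroup.mem_center_iff, Subgroup.mem_center_iff]
    constructor
    · intro h g
      exact e.injective (by rw [map_mul, map_mul, e.apply_symm_apply]; exact h (e g))
    · intro h g
      exact e.symm.injective (by rw [map_mul, map_mul]; exact h (e.symm g))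
  have hsq : ∀ x : ↥(S : Subgroup (PSU 3 F 4)), x ^ 2 = 1 ↔ x ∈ Subgroup.center ↥(S : Subgroup (PSU 3 F 4)) := by
    intro x
    rw [hmem, ← Cfsg.Agent.Recog.SU3Two.UT.sq_eq_one_iff', ← map_pow, MulEquiv.map_eq_one_iff]
  have hq : ∀ x : ↥(S : Subgroup (PSU 3 F 4)), x ^ 2 ∈ Subgroup.center ↥(S : Subgroup (PSU 3 F 4)) := fun x => by
    rw [hmem, map_pow, Cfsg.Agent.Recog.SU3Two.UT.sq_a]
  refine ⟨hc, ⟨hz, ?_⟩, ?_, ?_, ?_, ?_⟩
  · haveI : Nontrivial (Subgroup.center ↥(S : Subgroup (PSU 3 F 4))) :=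
      Finite.one_lt_card_iff_nontrivial.mp (by rw [hz]; norm_num)
    refine Monoid.exponent_eq_prime_iff Nat.prime_two |>.mpr fun g hg => ?_
    refine orderOf_eq_prime ?_ hg
    exact Subtype.ext ((hsq g).mpr g.2)
  · refine le_antisymm (fun x hx => ?_) ((Subgroup.closure_le _).mpr fun x hx => (hsq x).mp ?_)
    · by_cases h1 : x = 1
      · rw [h1]; exact one_mem _
      · exact Subgroup.subset_closure (orderOf_eq_prime ((hsq x).mpr hx) h1)
    · have h := pow_orderOf_eq_one x
      rwa [show orderOf x = 2 from hx] at h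
  · refine le_antisymm (fun x hx => ?_) ?_
    · have ha := (hmem x).mp hx
      have h := (e.symm x).eq
      rw [ha, zero_mul, CharTwo.add_eq_zero] at h
      have hk := Cfsg.Agent.Recog.SU3Two.UT.z_comm_mem (F := F) (q := 4) ⟨(e.symm x).b, h.symm⟩
      have hz' : Cfsg.Agent.Recog.SU3Two.UT.z ⟨(e.symm x).b, h.symm⟩ = e.symm x :=
        Cfsg.Agent.Recog.SU3Two.UT.ext ha.symm rfl
      rw [hz'] at hk
      have h2 := Subgroup.mem_map_of_mem e.toMonoidHom hk
      rw [show commutator (Cfsg.Agent.Recog.SU3Two.UT F 4) = ⁅⊤, ⊤⁆ from rfl, Subgroup.map_commutator,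
        Subgroup.map_top_of_surjective _ e.surjective] at h2
      rw [commutator_def]; simpa using h2
    · refine (Subgroup.commutator_le).mpr fun a _ b _ => ?_
      rw [hmem, map_commutatorElement, commutatorElement_def]
      show (_ + _ + _ + _ : F) = 0
      linear_combination ((e.symm a).a + (e.symm b).a) * CharTwo.two_eq_zero (R := F)
  · have h := Subgroup.card_eq_card_quotient_mul_card_subgroup (Subgroup.center ↥(S : Subgroup (PSU 3 F 4)))
    rw [hc, hz] at h
    omega
  · intro x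
    induction x using QuotientGroup.induction_on with
    | H y => exact (QuotientGroup.eq_one_iff _).mpr (hq y)

end Cfsg.Agent.S1248
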