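import Cfsg.Statements.S0115
import Cfsg.Agent.Lib.Transfer.MaxClass

set_option maxHeartbeats 1000000
set_option maxRecDepth 8000

set_option autoImplicit false
open Cfsg
open scoped commutatorElement

namespace Cfsg.Agent.S0115

/-- A 2-group of order 2^n, n ≥ 3, is of maximal class exactly when its commutator quotient is a Klein four-group. -/
theorem result {X : Type*} [Group X] [Finite X] (n : ℕ) (hn : 3 ≤ n) (hX : Nat.card X = 2 ^ n) : Group.nilpotencyClass X = n - 1 ↔ IsKleinFour (X ⧸ commutator X) := by
  haveI : Fact (Nat.Prime 2) := ⟨Nat.prime_two⟩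
  constructor
  · intro hc
    obtain ⟨h4, hne⟩ := Cfsg.Agent.Transfer.MaxClass.index_four_of_class hn hX hc
    have hcard : Nat.card (X ⧸ commutator X) = 4 := h4
    haveI : Nontrivial (X ⧸ commutator X) := Finite.one_lt_card_iff_nontrivial.1 (by omega)
    refine ⟨hcard, ?_⟩
    rw [Monoid.exponent_eq_prime_iff Nat.prime_two]
    intro g hg
    obtain ⟨g, rfl⟩ := QuotientGroup.mk_surjective g
    refine orderOf_eq_prime ?_ hg
    rw [← QuotientGroup.mk_pow, QuotientGroup.eq_one_iff]
    exact Cfsg.Agent.Transfer.MaxClass.pow_mem_commutator (IsPGroup.of_card hX) h4 hne g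
  · intro h
    exact Cfsg.Agent.Transfer.MaxClass.class_of_index_four n hX (by omega) h.card_four

end Cfsg.Agent.S0115
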