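import Cfsg.Statements.S0855
import Cfsg.Agent.Lib.Char.ResidualDegree
import Cfsg.Agent.Lib.Block.NormalDefect
import Cfsg.Agent.Lib.Char.Integral

set_option autoImplicit false
open Cfsg

namespace Cfsg.Agent.S0855

/-- For a finite group G and a prime p: every irreducible character of G has degree a power of p if and only if G has an abelian normal subgroup whose order is prime to p and whose index is a power of p. -/
theorem result {G : Type*} [Group G] [Finite G] (p : ℕ) (hp : p.Prime) : (∀ χ : Cfsg.IrrCharacter G, ∃ k : ℕ, (χ : G → ℂ) 1 = (p : ℂ) ^ k) ↔ ∃ A : Subgroup G, A.Normal ∧ (∀ a ∈ A, ∀ b ∈ A, a * b = b * a) ∧ Nat.Coprime (Nat.card A) p ∧ ∃ k : ℕ, A.index = p ^ k := by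
  classical
  haveI := Fact.mk hp
  cases nonempty_fintype G
  have hk : ∀ (χ : Cfsg.IrrCharacter G) (k : ℕ), (χ : G → ℂ) 1 = (p : ℂ) ^ k ↔
      Cfsg.charDegree (χ : G → ℂ) = p ^ k := fun χ k => by
    rw [Cfsg.Agent.Block.charDeg_spec' χ]
    exact ⟨fun h => by exact_mod_cast h, fun h => by rw [h]; push_cast; rfl⟩
  constructor
  · intro h
    have hdeg : ∀ χ : Cfsg.IrrCharacter G, Cfsg.charDegree (χ : G → ℂ) ≠ 1 →
        p ∣ Cfsg.charDegree (χ : G → ℂ) := fun χ h1 => by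
      obtain ⟨k, hk'⟩ := h χ
      rw [hk] at hk'
      rcases Nat.eq_zero_or_pos k with rfl | hk0
      · exact absurd hk' h1
      · rw [hk']; exact dvd_pow_self p hk0.ne'
    haveI : (Cfsg.pResidual p G).Normal := Cfsg.Agent.Char.ResDeg.residual_normal
    letI := Fintype.ofFinite ↥(Cfsg.pResidual p G)
    have hcop := Cfsg.Agent.Char.ResDeg.residual_coprime hdeg
    have hlin : ∀ θ : Cfsg.IrrCharacter ↥(Cfsg.pResidual p G),
        Cfsg.charDegree (θ : ↥(Cfsg.pResidual p G) → ℂ) = 1 := fun θ => by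
      obtain ⟨χ, hχ⟩ := Cfsg.Agent.Block.exists_over (Cfsg.pResidual p G) θ
      obtain ⟨e, he, -⟩ := Cfsg.Agent.Char.Ext.ratio_dvd_index' χ.2 θ.2 hχ
      obtain ⟨k, hk'⟩ := h χ
      rw [hk] at hk'
      rw [Cfsg.Agent.Block.charDeg_spec' χ, Cfsg.Agent.Block.charDeg_spec' θ, ← Nat.cast_mul,
        Nat.cast_inj] at he
      refine Nat.eq_one_of_dvd_coprimes (hcop.pow_right k) ?_ ⟨e, by rw [← hk', he, mul_comm]⟩
      exact Cfsg.Agent.Char.IsIrr.degree_dvd_card θ.2 (Cfsg.Agent.Block.charDeg_spec' θ)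
    exact ⟨Cfsg.pResidual p G, inferInstance, fun a ha b hb => congrArg Subtype.val
      ((Cfsg.Agent.Block.comm_iff_linear _).2 hlin ⟨a, ha⟩ ⟨b, hb⟩), hcop,
      Cfsg.Agent.Char.ResDeg.exists_index⟩
  · rintro ⟨A, hAn, hA, -, k, hk'⟩ χ
    letI := Fintype.ofFinite ↥A
    obtain ⟨θ, hθ⟩ := Cfsg.Agent.Block.exists_constituent_res A χ
    obtain ⟨e, he, hed⟩ := Cfsg.Agent.Char.Ext.ratio_dvd_index' χ.2 θ.2 hθ
    have h1 : Cfsg.charDegree (θ : ↥A → ℂ) = 1 :=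
      (Cfsg.Agent.Block.comm_iff_linear ↥A).1 (fun a c => Subtype.ext (hA a a.2 c c.2)) θ
    obtain ⟨j, -, hj⟩ := (Nat.dvd_prime_pow hp).1 (hk' ▸ hed)
    refine ⟨j, ?_⟩
    rw [he, Cfsg.Agent.Block.charDeg_spec' θ, h1, hj, Nat.cast_one, mul_one, Nat.cast_pow]

end Cfsg.Agent.S0855
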