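import Cfsg.Statements.S0719
import Mathlib
import Cfsg.Agent.Lib.Block.Subdegree
-- import your own Cfsg.Agent.* helpers here

set_option autoImplicit false
open Cfsg

namespace Cfsg.Agent.S0719

open scoped Pointwise in
set_option maxHeartbeats 1000000 in
theorem result {G : Type*} [Group G] [Fintype G] {Ω : Type*} [Fintype Ω] [MulAction G Ω] (hprim : MulAction.IsPreprimitive G Ω) {m : ℕ} (hm : Fintype.card Ω = 2 * m) (a₀ : Ω) (hrank : Nat.card (MulAction.orbitRel.Quotient (MulAction.stabilizer G a₀) Ω) = 3) (χ₁ χ₂ : G → ℂ) (h₁ : Cfsg.IsIrrCharacter G χ₁) (h₂ : Cfsg.IsIrrCharacter G χ₂) (hπ : (fun g : G => (Nat.card (MulAction.fixedBy Ω g) : ℂ)) = fun g => 1 + χ₁ g + χ₂ g) (hd₁ : χ₁ 1 = (m : ℂ) - 1) (hd₂ : χ₂ 1 = m) : ∃ a : ℕ, 0 < a ∧ m = 2 * a ^ 2 + 2 * a + 1 ∧ ∀ b : Ω, b ≠ a₀ → Nat.card (MulAction.orbit (MulAction.stabilizer G a₀) b) = a * (2 * a + 1) ∨ Nat.card (MulAction.orbit (MulAction.stabilizer G a₀) b) = (a + 1) * (2 * a + 1) := by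
  classical
  haveI := hprim.toIsPretransitive
  haveI : Nonempty Ω := ⟨a₀⟩
  set K := MulAction.stabilizer G a₀
  set Q := MulAction.orbitRel.Quotient K Ω
  haveI : Fintype Q := Fintype.ofFinite _
  have hQ3 : Fintype.card Q = 3 := by rw [← Nat.card_eq_fintype_card]; exact hrank
  have hn : Nat.card Ω = 2 * m := by rw [Nat.card_eq_fintype_card, hm]
  have hm2 : 2 ≤ m := by
    have : Nat.card Q ≤ Nat.card Ω := Nat.card_le_card_of_surjective (fun x : Ω => (Quotient.mk'' x : Q))
      Quotient.mk''_surjective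
    omega
  -- constituents
  set χa : Cfsg.IrrCharacter G := ⟨χ₁, h₁⟩
  set χb : Cfsg.IrrCharacter G := ⟨χ₂, h₂⟩
  set ι := Cfsg.Agent.Block.PermChar.one₀ G
  have hab : χa ≠ χb := fun e => by
    have h := congrFun (congrArg Subtype.val e) 1
    simp only [χa, χb, hd₁, hd₂] at h
    exact one_ne_zero (α := ℂ) (by linear_combination -h)
  have hb1 : χb ≠ ι := fun e => by
    have h := congrFun (congrArg Subtype.val e) 1
    simp only [χb, hd₂] at h
    have h' : (m : ℂ) = 1 := h
    have : m = 1 := by exact_mod_cast h'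
    omega
  have hmult : ∀ χ : Cfsg.IrrCharacter G, Cfsg.Agent.Block.PermChar.mult G Ω (χ : G → ℂ) =
      (if ι = χ then 1 else 0) + (if χa = χ then 1 else 0) + (if χb = χ then 1 else 0) := by
    intro χ
    have hp : Cfsg.Agent.Block.PermChar.piFun G Ω = (ι : G → ℂ) + (χa : G → ℂ) + (χb : G → ℂ) := by
      funext g
      exact congrFun hπ g
    rw [Cfsg.Agent.Block.PermChar.mult, hp, Cfsg.Agent.Char.classInner_add_left, Cfsg.Agent.Char.classInner_add_left,
      Cfsg.Agent.Char.classInner_irr_eq_ite ι.2 χ.2, Cfsg.Agent.Char.classInner_irr_eq_ite χa.2 χ.2,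
      Cfsg.Agent.Char.classInner_irr_eq_ite χb.2 χ.2]
    simp only [Subtype.coe_inj]
  have ha1 : χa ≠ ι := fun e => by
    have h := Cfsg.Agent.Block.PermChar.mult_one (G := G) (Ω := Ω)
    rw [hmult, if_pos rfl, if_pos e, if_neg hb1] at h
    norm_num at h
  have hfree : ∀ χ : Cfsg.IrrCharacter G, Cfsg.Agent.Block.PermChar.mult G Ω (χ : G → ℂ) = 0 ∨
      Cfsg.Agent.Block.PermChar.mult G Ω (χ : G → ℂ) = 1 := by
    intro χ
    rw [hmult]
    by_cases e1 : ι = χ
    · subst e1; simp [if_neg ha1, if_neg hb1]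
    · by_cases e2 : χa = χ
      · subst e2; simp [if_neg (Ne.symm ha1), if_neg (Ne.symm hab)]
      · by_cases e3 : χb = χ <;> simp [e1, e2, e3]
  have hreal : ∀ χ : Cfsg.IrrCharacter G, Cfsg.Agent.Block.PermChar.mult G Ω (χ : G → ℂ) ≠ 0 →
      ∀ g, (starRingEnd ℂ) ((χ : G → ℂ) g) = (χ : G → ℂ) g := by
    intro χ h g
    let χ' : Cfsg.IrrCharacter G := ⟨fun x => (starRingEnd ℂ) ((χ : G → ℂ) x), Cfsg.Agent.Char.IsIrr.conj χ.2⟩
    have hm' : Cfsg.Agent.Block.PermChar.mult G Ω (χ' : G → ℂ) = Cfsg.Agent.Block.PermChar.mult G Ω (χ : G → ℂ) := by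
      obtain ⟨a, ha⟩ := Cfsg.Agent.Block.PermChar.exists_mult (Ω := Ω) χ
      have h1 : Cfsg.Agent.Block.PermChar.mult G Ω (χ' : G → ℂ) =
          (starRingEnd ℂ) (Cfsg.Agent.Block.PermChar.mult G Ω (χ : G → ℂ)) := by
        simp only [Cfsg.Agent.Block.PermChar.mult, Cfsg.classInner, map_mul, map_inv₀, Complex.conj_natCast,
          map_sum, Cfsg.Agent.Block.PermChar.piFun, χ']
      rw [h1, ha, Complex.conj_natCast]
    have hdeg : (χ' : G → ℂ) 1 = (χ : G → ℂ) 1 := by
      obtain ⟨d, -, hd⟩ := Cfsg.Agent.Char.IsIrr.one_eq_pos χ.2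
      show (starRingEnd ℂ) ((χ : G → ℂ) 1) = _
      rw [hd, Complex.conj_natCast]
    have hcases : ∀ ψ : Cfsg.IrrCharacter G, Cfsg.Agent.Block.PermChar.mult G Ω (ψ : G → ℂ) ≠ 0 → ψ = ι ∨ ψ = χa ∨ ψ = χb := by
      intro ψ hψ
      by_contra hc
      push Not at hc
      exact hψ (by rw [hmult, if_neg (Ne.symm hc.1), if_neg (Ne.symm hc.2.1), if_neg (Ne.symm hc.2.2)]; norm_num)
    have heq : χ' = χ := by
      rcases hcases χ h with rfl | rfl | rfl
      · exact Subtype.ext (funext fun _ => map_one _)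
      all_goals rcases hcases χ' (hm' ▸ h) with e | e | e
      all_goals first
        | exact e
        | skip
      · exfalso
        apply ha1
        exact Subtype.ext (funext fun x => by
          have := congrFun (congrArg Subtype.val e) x
          simpa [χ', Cfsg.Agent.Block.PermChar.one₀, ι] using congrArg (starRingEnd ℂ) this)
      · exfalso
        rw [e] at hdeg
        simp only [χa, χb, hd₁, hd₂] at hdeg
        exact one_ne_zero (α := ℂ) (by linear_combination hdeg)
      · exfalso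
        apply hb1
        exact Subtype.ext (funext fun x => by
          have := congrFun (congrArg Subtype.val e) x
          simpa [χ', Cfsg.Agent.Block.PermChar.one₀, ι] using congrArg (starRingEnd ℂ) this)
      · exfalso
        rw [e] at hdeg
        simp only [χa, χb, hd₁, hd₂] at hdeg
        exact one_ne_zero (α := ℂ) (by linear_combination -hdeg)
    exact congrFun (congrArg Subtype.val heq) g
  -- the three orbits
  have hsize : ∀ b c : Ω, b ≠ a₀ → c ≠ a₀ → (Quotient.mk'' b : Q) ≠ Quotient.mk'' c →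
      ∀ x, x ∈ MulAction.orbit K b ∨ x ∈ MulAction.orbit K c ∨ x = a₀ := by
    intro b c hb hc hne x
    by_contra hcon
    push Not at hcon
    have key : ({Quotient.mk'' a₀, Quotient.mk'' b, Quotient.mk'' c, Quotient.mk'' x} : Finset Q).card = 4 := by
      have hd : ∀ y z : Ω, (Quotient.mk'' y : Q) = Quotient.mk'' z → y ∈ MulAction.orbit K z := fun y z e =>
        Quotient.exact' e
      have h0 : ∀ y, y ∈ MulAction.orbit K a₀ → y = a₀ := by rintro y ⟨g, rfl⟩; exact g.2
      rw [Finset.card_eq_four.2]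
      exact ⟨_, _, _, _, fun e => hb (h0 _ (hd _ _ e.symm)), fun e => hc (h0 _ (hd _ _ e.symm)),
        fun e => hcon.2.2 (h0 _ (hd _ _ e.symm)), hne, fun e => hcon.1 (hd _ _ e.symm),
        fun e => hcon.2.1 (hd _ _ e.symm), rfl⟩
    have := Finset.card_le_univ ({Quotient.mk'' a₀, Quotient.mk'' b, Quotient.mk'' c, Quotient.mk'' x} : Finset Q)
    omega
  have hother : ∀ b : Ω, b ≠ a₀ → ∃ c, c ≠ a₀ ∧ (Quotient.mk'' b : Q) ≠ Quotient.mk'' c := by
    intro b hb
    by_contra hcon
    push Not at hcon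
    have : (Finset.univ : Finset Q) ⊆ {Quotient.mk'' a₀, Quotient.mk'' b} := by
      intro q _
      induction q using Quotient.inductionOn' with
      | h x =>
        by_cases hx : x = a₀
        · simp [hx]
        · simp [← hcon x hx]
    have h1 := Finset.card_le_card this
    have h2 : ({Quotient.mk'' a₀, Quotient.mk'' b} : Finset Q).card ≤ 2 := Finset.card_le_two
    rw [Finset.card_univ] at h1
    omega
  -- a suborbit of size one contradicts primitivity
  have hbig : ∀ b : Ω, b ≠ a₀ → Nat.card (MulAction.orbit K b) ≠ 1 := by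
    intro b hb h1
    let F : Set Ω := MulAction.fixedPoints K Ω
    have hbF : b ∈ F := fun g => by
      have hsub := (Nat.card_eq_one_iff_unique.1 h1).1
      exact congrArg Subtype.val (Subsingleton.elim (⟨g • b, g, rfl⟩ : MulAction.orbit K b) ⟨b, MulAction.mem_orbit_self b⟩)
    have haF : a₀ ∈ F := fun g => g.2
    have hF : ∀ x ∈ F, ∀ k : G, k • a₀ = x → F = k • F := by
      intro x hx k hk
      have hconj : ∀ g ∈ K, k⁻¹ * g * k ∈ K := fun g hg => by
        show (k⁻¹ * g * k) • a₀ = a₀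
        rw [mul_smul, mul_smul, hk, show g • x = x from hx ⟨g, hg⟩, ← hk, inv_smul_smul]
      have hsub : k • F ⊆ F := by
        rintro _ ⟨y, hy, rfl⟩ ⟨g, hg⟩
        show g • k • y = k • y
        have := hy ⟨_, hconj g hg⟩
        calc g • k • y = k • ((k⁻¹ * g * k) • y) := by rw [← mul_smul, ← mul_smul]; congr 1; group
          _ = k • y := by rw [show (k⁻¹ * g * k) • y = y from this]
      refine (Set.eq_of_subset_of_ncard_le hsub ?_).symm
      show F.ncard ≤ ((fun z => k • z) '' F).ncard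
      rw [Set.ncard_image_of_injective _ (MulAction.injective k)]
    have hB : MulAction.IsBlock G F := by
      rw [MulAction.isBlock_iff_smul_eq_of_nonempty]
      rintro g ⟨_, ⟨y, hy, rfl⟩, hgy⟩
      obtain ⟨k, hk⟩ := MulAction.exists_smul_eq G a₀ y
      have e1 := hF y hy k hk
      have e2 := hF (g • y) hgy (g * k) (by rw [mul_smul, hk])
      rw [mul_smul, ← e1] at e2
      exact e2.symm
    rcases hprim.isTrivialBlock_of_isBlock hB with h | h
    · exact hb (h hbF haF)
    · have hone : ∀ q : Q, ∃! x, (Quotient.mk'' x : Q) = q := by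
        intro q
        induction q using Quotient.inductionOn' with
        | h x =>
          refine ⟨x, rfl, fun y hy => ?_⟩
          obtain ⟨g, hg⟩ := Quotient.exact' hy
          rw [← hg]
          exact (h.symm ▸ Set.mem_univ x : x ∈ F) g
      have : Nat.card Ω = Nat.card Q := Nat.card_congr (Equiv.ofBijective (fun x : Ω => (Quotient.mk'' x : Q))
        ⟨fun x y e => (hone (Quotient.mk'' y)).unique e rfl, Quotient.mk''_surjective⟩)
      omega
  have main : ∀ b : Ω, b ≠ a₀ → ∃ a : ℕ, 0 < a ∧ m = 2 * a ^ 2 + 2 * a + 1 ∧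
      (Nat.card (MulAction.orbit K b) = a * (2 * a + 1) ∨ Nat.card (MulAction.orbit K b) = (a + 1) * (2 * a + 1)) := by
    intro b hb
    obtain ⟨c, hc, hbc⟩ := hother b hb
    have hcov := hsize b c hb hc hbc
    set k := Nat.card (MulAction.orbit K b) with hk
    have hl : Nat.card (MulAction.orbit K b) + Nat.card (MulAction.orbit K c) + 1 = 2 * m := by
      have hdisj : Disjoint (MulAction.orbit K b) (MulAction.orbit K c) := by
        rw [Set.disjoint_left]
        intro x hxb hxc
        apply hbc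
        exact Quotient.sound' (MulAction.orbit_eq_iff.1 ((MulAction.orbit_eq_iff.2 hxb).symm.trans (MulAction.orbit_eq_iff.2 hxc)))
      have hnot : a₀ ∉ MulAction.orbit K b ∪ MulAction.orbit K c := by
        rintro (⟨g, hg⟩ | ⟨g, hg⟩)
        · exact hb (MulAction.injective (g : G) ((show (g : G) • b = a₀ from hg).trans g.2.symm))
        · exact hc (MulAction.injective (g : G) ((show (g : G) • c = a₀ from hg).trans g.2.symm))
      have huniv : (Set.univ : Set Ω) = insert a₀ (MulAction.orbit K b ∪ MulAction.orbit K c) := by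
        ext x
        simp only [Set.mem_univ, true_iff, Set.mem_insert_iff, Set.mem_union]
        rcases hcov x with h | h | h
        · exact Or.inr (Or.inl h)
        · exact Or.inr (Or.inr h)
        · exact Or.inl h
      have h := congrArg Set.ncard huniv
      rw [Set.ncard_univ, hn, Set.ncard_insert_of_notMem hnot, Set.ncard_union_eq hdisj, ← Nat.card_coe_set_eq,
        ← Nat.card_coe_set_eq] at h
      omega
    let A₀ : Matrix Ω Ω ℤ := Matrix.of fun x y => if ∃ g : G, g • a₀ = x ∧ g • b = y then 1 else 0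
    let A : Matrix Ω Ω ℂ := A₀.map (Int.castRingHom ℂ)
    have hA : ∀ x y, A x y = if ∃ g : G, g • a₀ = x ∧ g • b = y then 1 else 0 := by
      intro x y
      show (Int.castRingHom ℂ) (A₀ x y) = _
      simp only [A₀, Matrix.of_apply]
      split_ifs <;> simp
    have hAinv : Cfsg.Agent.Block.PermChar.Inv G Ω A := by
      intro k x y
      rw [hA, hA]
      refine if_congr ⟨?_, ?_⟩ rfl rfl
      · rintro ⟨g, h1, h2⟩
        exact ⟨k⁻¹ * g, by rw [mul_smul, h1, inv_smul_smul], by rw [mul_smul, h2, inv_smul_smul]⟩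
      · rintro ⟨g, h1, h2⟩
        exact ⟨k * g, by rw [mul_smul, h1], by rw [mul_smul, h2]⟩
    have hsymm : A.transpose = A := Cfsg.Agent.Block.PermChar.symm_of_free_real hfree hreal hAinv
    have hrowa : ∑ y, A a₀ y = (k : ℂ) := by
      rw [hk, Nat.card_eq_fintype_card, Fintype.card_subtype, ← Finset.sum_boole]
      refine Finset.sum_congr rfl fun y _ => ?_
      rw [hA]
      refine if_congr ⟨?_, ?_⟩ rfl rfl
      · rintro ⟨g, h1, h2⟩; exact ⟨⟨g, h1⟩, h2⟩
      · rintro ⟨⟨g, h1⟩, h2⟩; exact ⟨g, h1, h2⟩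
    have hrow : ∀ x, ∑ y, A x y = (k : ℂ) := by
      intro x
      obtain ⟨g, rfl⟩ := MulAction.exists_smul_eq G a₀ x
      rw [← hrowa]
      exact (Fintype.sum_equiv (MulAction.toPerm g) _ _ fun y => (hAinv g a₀ y).symm).symm
    have hsqa : (A * A) a₀ a₀ = (k : ℂ) := by
      rw [Matrix.mul_apply, ← hrowa]
      refine Finset.sum_congr rfl fun y _ => ?_
      have h1 : A y a₀ = A a₀ y := congrFun (congrFun hsymm a₀) y
      rw [h1, hA]
      split_ifs <;> simp
    have hAab : A a₀ b = 1 := by rw [hA, if_pos ⟨1, one_smul _ _, one_smul _ _⟩]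
    have hAac : A a₀ c = 0 := by
      rw [hA, if_neg]
      rintro ⟨g, h1, h2⟩
      exact hbc (Quotient.sound' (MulAction.mem_orbit_symm.1 ⟨⟨g, h1⟩, h2⟩))
    have hAaa : A a₀ a₀ = 0 := by
      rw [hA, if_neg]
      rintro ⟨g, h1, h2⟩
      exact hb (MulAction.injective g (h2.trans h1.symm))
    obtain ⟨lam, hlam⟩ : ∃ z : ℤ, (A * A) a₀ b = (z : ℂ) := ⟨(A₀ * A₀) a₀ b, by
      show ((A₀.map (Int.castRingHom ℂ)) * (A₀.map (Int.castRingHom ℂ))) a₀ b = _
      rw [← Matrix.map_mul]; rfl⟩
    obtain ⟨mu, hmu⟩ : ∃ z : ℤ, (A * A) a₀ c = (z : ℂ) := ⟨(A₀ * A₀) a₀ c, by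
      show ((A₀.map (Int.castRingHom ℂ)) * (A₀.map (Int.castRingHom ℂ))) a₀ c = _
      rw [← Matrix.map_mul]; rfl⟩
    have hext : ∀ M N : Matrix Ω Ω ℂ, Cfsg.Agent.Block.PermChar.Inv G Ω M → Cfsg.Agent.Block.PermChar.Inv G Ω N →
        M a₀ a₀ = N a₀ a₀ → M a₀ b = N a₀ b → M a₀ c = N a₀ c → M = N := by
      intro M N hM hN e0 e1 e2
      ext x y
      obtain ⟨g, rfl⟩ := MulAction.exists_smul_eq G a₀ x
      rw [← smul_inv_smul g y, hM, hN]
      rcases hcov (g⁻¹ • y) with ⟨h, hh⟩ | ⟨h, hh⟩ | hh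
      · have h' : (h : G) • b = g⁻¹ • y := hh
        rw [← h']
        nth_rewrite 1 [← (show (h : G) • a₀ = a₀ from h.2)]
        nth_rewrite 2 [← (show (h : G) • a₀ = a₀ from h.2)]
        rw [hM, hN, e1]
      · have h' : (h : G) • c = g⁻¹ • y := hh
        rw [← h']
        nth_rewrite 1 [← (show (h : G) • a₀ = a₀ from h.2)]
        nth_rewrite 2 [← (show (h : G) • a₀ = a₀ from h.2)]
        rw [hM, hN, e2]
      · rw [hh, e0]
    let J : Matrix Ω Ω ℂ := Matrix.of fun _ _ => 1
    have hJinv : Cfsg.Agent.Block.PermChar.Inv G Ω J := fun _ _ _ => rfl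
    have hone : Cfsg.Agent.Block.PermChar.Inv G Ω (1 : Matrix Ω Ω ℂ) := by
      intro g x y
      simp [Matrix.one_apply]
    have hsq : A * A = (k : ℂ) • (1 : Matrix Ω Ω ℂ) + (lam : ℂ) • A + (mu : ℂ) • (J - 1 - A) := by
      refine hext _ _ (hAinv.mul hAinv) ?_ ?_ ?_ ?_
      · intro g x y
        simp only [Matrix.add_apply, Matrix.smul_apply, Matrix.sub_apply, hAinv g x y, hone g x y, hJinv g x y]
      · simp [hsqa, J, hAaa]
      · simp [hlam, J, hAab, Matrix.one_apply, Ne.symm hb]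
      · simp [hmu, J, hAac, Matrix.one_apply, Ne.symm hc]
    -- eigenvalues
    let E : Cfsg.IrrCharacter G → Matrix Ω Ω ℂ := fun χ => Cfsg.Agent.Block.PermChar.proj G Ω (χ : G → ℂ)
    have hEE : ∀ χ ψ : Cfsg.IrrCharacter G, E χ * E ψ = if χ = ψ then E χ else 0 := fun χ ψ =>
      Cfsg.Agent.Block.PermChar.proj_mul χ ψ
    have hmι : Cfsg.Agent.Block.PermChar.mult G Ω (ι : G → ℂ) = 1 := Cfsg.Agent.Block.PermChar.mult_one
    have hma : Cfsg.Agent.Block.PermChar.mult G Ω (χa : G → ℂ) = 1 :=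
      (hfree χa).resolve_left (by rw [hmult, if_neg (Ne.symm ha1), if_pos rfl, if_neg (Ne.symm hab)]; norm_num)
    have hmb : Cfsg.Agent.Block.PermChar.mult G Ω (χb : G → ℂ) = 1 :=
      (hfree χb).resolve_left (by rw [hmult, if_neg (Ne.symm hb1), if_neg hab, if_pos rfl]; norm_num)
    have hspan : ∀ M, Cfsg.Agent.Block.PermChar.Inv G Ω M → ∃ u v w : ℂ, M = u • E ι + v • E χa + w • E χb := by
      intro M hM
      have h1 := Cfsg.Agent.Block.PermChar.inv_mem_span hfree hM
      clear hM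
      induction h1 using Submodule.span_induction with
      | mem x hx =>
        obtain ⟨⟨χ, hχ⟩, rfl⟩ := hx
        by_cases e1 : ι = χ
        · exact ⟨1, 0, 0, by subst e1; simp [E]⟩
        by_cases e2 : χa = χ
        · exact ⟨0, 1, 0, by subst e2; simp [E]⟩
        by_cases e3 : χb = χ
        · exact ⟨0, 0, 1, by subst e3; simp [E]⟩
        exact absurd (by rw [hmult, if_neg e1, if_neg e2, if_neg e3]; norm_num) hχ
      | zero => exact ⟨0, 0, 0, by simp⟩
      | add x y _ _ hx hy =>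
        obtain ⟨u, v, w, rfl⟩ := hx
        obtain ⟨u', v', w', rfl⟩ := hy
        exact ⟨u + u', v + v', w + w', by simp only [add_smul]; abel⟩
      | smul r x _ hx =>
        obtain ⟨u, v, w, rfl⟩ := hx
        exact ⟨r * u, r * v, r * w, by simp only [smul_add, smul_smul]⟩
    have hn0 : ((2 * m : ℕ) : ℂ) ≠ 0 := Nat.cast_ne_zero.mpr (by omega)
    have hEι : E ι = ((2 * m : ℕ) : ℂ)⁻¹ • J := by
      refine Matrix.ext fun x y => ?_
      show Cfsg.Agent.Block.PermChar.proj G Ω (ι : G → ℂ) x y = _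
      have hsum : ∑ g : G, (if g • y = x then (1 : ℂ) else 0) = (Nat.card (MulAction.stabilizer G y) : ℂ) := by
        obtain ⟨g₀, hg₀⟩ := MulAction.exists_smul_eq G y x
        rw [Finset.sum_boole, Nat.card_eq_fintype_card, Fintype.card_subtype]
        congr 1
        refine Finset.card_bij' (fun g _ => g₀⁻¹ * g) (fun g _ => g₀ * g) ?_ ?_ ?_ ?_
        · intro g hg
          simp only [Finset.mem_filter, Finset.mem_univ, true_and, MulAction.mem_stabilizer_iff] at hg ⊢
          rw [mul_smul, hg, ← hg₀, inv_smul_smul]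
        · intro g hg
          simp only [Finset.mem_filter, Finset.mem_univ, true_and, MulAction.mem_stabilizer_iff] at hg ⊢
          rw [mul_smul, hg, hg₀]
        · intro g _; simp
        · intro g _; simp
      have hstab : (Nat.card (MulAction.stabilizer G y) : ℂ) * ((2 * m : ℕ) : ℂ) = (Nat.card G : ℂ) := by
        rw [← Nat.cast_mul, ← hn, ← MulAction.index_stabilizer_of_transitive G y, Subgroup.card_mul_index]
      have hG : (Nat.card G : ℂ) ≠ 0 := Nat.cast_ne_zero.mpr Nat.card_pos.ne'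
      simp only [Cfsg.Agent.Block.PermChar.proj, Matrix.smul_apply, Matrix.sum_apply,
        Cfsg.Agent.Block.PermChar.pmat_apply, smul_eq_mul, ι, Cfsg.Agent.Block.PermChar.one₀, map_one,
        one_mul, hsum, J, Matrix.of_apply, mul_one]
      rw [← hstab]
      have hs0 : (Nat.card (MulAction.stabilizer G y) : ℂ) ≠ 0 := Nat.cast_ne_zero.mpr Nat.card_pos.ne'
      field_simp
    obtain ⟨u, r, s, hAE⟩ := hspan A hAinv
    have hJ : J = ((2 * m : ℕ) : ℂ) • E ι := by rw [hEι, smul_smul, mul_inv_cancel₀ hn0, one_smul]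
    have hAJ : A * J = (k : ℂ) • J := by
      ext x y
      simp [Matrix.mul_apply, J, hrow]
    have hne : ∀ χ, Cfsg.Agent.Block.PermChar.mult G Ω ((χ : Cfsg.IrrCharacter G) : G → ℂ) = 1 → E χ ≠ 0 :=
      fun χ h => Cfsg.Agent.Block.PermChar.proj_ne_zero (by rw [h]; exact one_ne_zero)
    have hu : u = (k : ℂ) := by
      have h1 : A * E ι = (k : ℂ) • E ι := by
        rw [hEι, Matrix.mul_smul, hAJ, smul_comm]
      rw [hAE, Matrix.add_mul, Matrix.add_mul, Matrix.smul_mul, Matrix.smul_mul, Matrix.smul_mul, hEE, hEE, hEE,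
        if_pos rfl, if_neg ha1, if_neg hb1, smul_zero, smul_zero, add_zero, add_zero] at h1
      exact smul_left_injective ℂ (hne ι hmι) h1
    have hAa : A * E χa = r • E χa := by
      rw [hAE, Matrix.add_mul, Matrix.add_mul, Matrix.smul_mul, Matrix.smul_mul, Matrix.smul_mul, hEE, hEE, hEE,
        if_neg (Ne.symm ha1), if_pos rfl, if_neg (Ne.symm hab), smul_zero, smul_zero, zero_add, add_zero]
    have hAb : A * E χb = s • E χb := by
      rw [hAE, Matrix.add_mul, Matrix.add_mul, Matrix.smul_mul, Matrix.smul_mul, Matrix.smul_mul, hEE, hEE, hEE,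
        if_neg (Ne.symm hb1), if_neg hab, if_pos rfl, smul_zero, smul_zero, zero_add, zero_add]
    have hquad : ∀ (χ : Cfsg.IrrCharacter G) (e : ℂ), χ ≠ ι → E χ ≠ 0 → A * E χ = e • E χ →
        e * e = (k : ℂ) - (mu : ℂ) + ((lam : ℂ) - (mu : ℂ)) * e := by
      intro χ e hχ hE hAe
      have hJE : J * E χ = 0 := by rw [hJ, Matrix.smul_mul, hEE, if_neg (Ne.symm hχ), smul_zero]
      have h1 := congrArg (fun M => M * E χ) hsq
      simp only [Matrix.mul_assoc, hAe, Matrix.mul_smul, smul_smul, Matrix.add_mul, Matrix.smul_mul,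
        Matrix.sub_mul, Matrix.one_mul, hJE] at h1
      apply smul_left_injective ℂ hE
      show (e * e) • E χ = _
      rw [h1]
      module
    have hq1 := hquad χa r ha1 (hne χa hma) hAa
    have hq2 := hquad χb s hb1 (hne χb hmb) hAb
    have hres : (1 : Matrix Ω Ω ℂ) = E ι + E χa + E χb := by
      obtain ⟨u', v', w', h1⟩ := hspan 1 hone
      have e1 := congrArg (fun M => M * E ι) h1
      have e2 := congrArg (fun M => M * E χa) h1
      have e3 := congrArg (fun M => M * E χb) h1
      simp only [Matrix.one_mul, Matrix.add_mul, Matrix.smul_mul, hEE, if_true, if_neg ha1, if_neg hb1,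
        if_neg (Ne.symm ha1), if_neg (Ne.symm hb1), if_neg hab, if_neg (Ne.symm hab), smul_zero, add_zero, zero_add] at e1 e2 e3
      conv_lhs => rw [h1]
      rw [← e1, ← e2, ← e3]
    have hrs : r ≠ s := by
      intro e
      have h2 : A = ((k : ℂ) - r) • E ι + r • (1 : Matrix Ω Ω ℂ) := by
        rw [hres, hAE, hu, ← e]; module
      have e1 := congrFun (congrFun h2 a₀) b
      have e2 := congrFun (congrFun h2 a₀) c
      simp only [hEι, J, hAab, hAac, Matrix.add_apply, Matrix.smul_apply, Matrix.of_apply,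
        Matrix.one_apply_ne (Ne.symm hb), Matrix.one_apply_ne (Ne.symm hc), smul_eq_mul, mul_zero, add_zero] at e1 e2
      exact one_ne_zero (α := ℂ) (e1.trans e2.symm)
    have hrsum : r + s = (lam : ℂ) - (mu : ℂ) := by
      apply mul_left_cancel₀ (sub_ne_zero.2 hrs)
      linear_combination hq1 - hq2
    have htrE : ∀ χ, Cfsg.Agent.Block.PermChar.mult G Ω ((χ : Cfsg.IrrCharacter G) : G → ℂ) = 1 →
        (E χ).trace = (χ : G → ℂ) 1 := fun χ h => by
      rw [Cfsg.Agent.Block.PermChar.trace_proj, h, mul_one]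
    have htrA : A.trace = 0 := by
      refine Finset.sum_eq_zero fun x _ => ?_
      obtain ⟨g, rfl⟩ := MulAction.exists_smul_eq G a₀ x
      show A (g • a₀) (g • a₀) = 0
      rw [hAinv, hAaa]
    have htrAA : (A * A).trace = ((2 * m : ℕ) : ℂ) * (k : ℂ) := by
      have : ∀ x, (A * A) x x = (k : ℂ) := fun x => by
        obtain ⟨g, rfl⟩ := MulAction.exists_smul_eq G a₀ x
        rw [hAinv.mul hAinv, hsqa]
      simp only [Matrix.trace, Matrix.diag]
      rw [Finset.sum_congr rfl (fun x _ => this x), Finset.sum_const, Finset.card_univ, hm, nsmul_eq_mul]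
    have eq1 : (k : ℂ) + r * ((m : ℂ) - 1) + s * (m : ℂ) = 0 := by
      rw [hAE, Matrix.trace_add, Matrix.trace_add, Matrix.trace_smul, Matrix.trace_smul, Matrix.trace_smul,
        htrE ι hmι, htrE χa hma, htrE χb hmb, hu, smul_eq_mul, smul_eq_mul, smul_eq_mul] at htrA
      simp only [χa, χb, hd₁, hd₂, ι, Cfsg.Agent.Block.PermChar.one₀, mul_one] at htrA
      exact htrA
    have eq2 : (k : ℂ) * k + r * r * ((m : ℂ) - 1) + s * s * (m : ℂ) = 2 * (m : ℂ) * (k : ℂ) := by
      have h1 : A * A = ((k : ℂ) * k) • E ι + (r * r) • E χa + (s * s) • E χb := by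
        conv_lhs => rw [hAE, hu]
        simp only [Matrix.add_mul, Matrix.mul_add, Matrix.smul_mul, Matrix.mul_smul, hEE, if_true, if_neg ha1,
          if_neg hb1, if_neg (Ne.symm ha1), if_neg (Ne.symm hb1), if_neg hab, if_neg (Ne.symm hab), smul_zero,
          add_zero, zero_add, smul_smul]
      rw [h1, Matrix.trace_add, Matrix.trace_add, Matrix.trace_smul, Matrix.trace_smul, Matrix.trace_smul,
        htrE ι hmι, htrE χa hma, htrE χb hmb, smul_eq_mul, smul_eq_mul, smul_eq_mul] at htrAA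
      simp only [χa, χb, hd₁, hd₂, ι, Cfsg.Agent.Block.PermChar.one₀, mul_one] at htrAA
      push_cast at htrAA
      exact htrAA
    obtain ⟨t, ht⟩ : ∃ t : ℤ, r + s = (t : ℂ) := ⟨lam - mu, by push_cast; exact hrsum⟩
    obtain ⟨ri, hri⟩ : ∃ ri : ℤ, r = (ri : ℂ) := ⟨(k : ℤ) + (m : ℤ) * t, by push_cast; linear_combination (m : ℂ) * ht - eq1⟩
    have hsi : s = ((t - ri : ℤ) : ℂ) := by push_cast; linear_combination ht - hri
    rw [hri, hsi] at eq1 eq2
    have z1 : (k : ℤ) + ri * ((m : ℤ) - 1) + (t - ri) * (m : ℤ) = 0 := by exact_mod_cast eq1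
    have z2 : (k : ℤ) * k + ri * ri * ((m : ℤ) - 1) + (t - ri) * (t - ri) * (m : ℤ) = 2 * (m : ℤ) * (k : ℤ) := by
      exact_mod_cast eq2
    have zk : (k : ℤ) = ri - (m : ℤ) * t := by linear_combination z1
    have zsq : (2 * ri - (2 * t + 1)) ^ 2 = 1 - 2 * ((m : ℤ) - 1) * (t * (t + 2)) := by
      rw [zk] at z2
      apply mul_left_cancel₀ (show (m : ℤ) ≠ 0 by omega)
      linear_combination 2 * z2
    have hk1 : 2 ≤ k := by
      haveI : Nonempty (MulAction.orbit K b) := ⟨⟨b, MulAction.mem_orbit_self b⟩⟩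
      have h0 : 0 < k := Nat.card_pos
      have := hbig b hb
      omega
    have hk2 : k + 3 ≤ 2 * m := by
      haveI : Nonempty (MulAction.orbit K c) := ⟨⟨c, MulAction.mem_orbit_self c⟩⟩
      have h0 : 0 < Nat.card (MulAction.orbit K c) := Nat.card_pos
      have := hbig c hc
      omega
    have ht1 : -2 ≤ t ∧ t ≤ 0 := by
      constructor <;> by_contra h <;> push Not at h
      · have h3 : 3 ≤ t * (t + 2) := by nlinarith
        nlinarith
      · have h3 : 3 ≤ t * (t + 2) := by nlinarith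
        nlinarith
    obtain ⟨hlo, hhi⟩ := ht1
    interval_cases t
    · exfalso
      have h' : (2 * ri + 3 - 1) * (2 * ri + 3 + 1) = 0 := by linear_combination zsq
      rcases mul_eq_zero.1 h' with e | e <;> omega
    · have hodd : (2 * ri + 1) ^ 2 = 2 * (m : ℤ) - 1 := by linear_combination zsq
      by_cases hpos : 0 ≤ ri
      · refine ⟨ri.toNat, ?_, ?_, Or.inr ?_⟩
        · by_contra h0
          have : ri = 0 := by omega
          subst this
          omega
        · have : ((m : ℤ)) = 2 * (ri.toNat : ℤ) ^ 2 + 2 * (ri.toNat : ℤ) + 1 := by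
            rw [Int.toNat_of_nonneg hpos]; linarith [hodd, (by ring : (2 * ri + 1) ^ 2 = 4 * ri ^ 2 + 4 * ri + 1)]
          exact_mod_cast this
        · have : ((k : ℤ)) = ((ri.toNat : ℤ) + 1) * (2 * (ri.toNat : ℤ) + 1) := by
            rw [Int.toNat_of_nonneg hpos]; nlinarith
          exact_mod_cast this
      · refine ⟨(-ri - 1).toNat, ?_, ?_, Or.inl ?_⟩
        · by_contra h0
          have : ri = -1 := by omega
          subst this
          omega
        · have : ((m : ℤ)) = 2 * ((-ri - 1).toNat : ℤ) ^ 2 + 2 * ((-ri - 1).toNat : ℤ) + 1 := by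
            rw [Int.toNat_of_nonneg (by omega)]; nlinarith
          exact_mod_cast this
        · have : ((k : ℤ)) = ((-ri - 1).toNat : ℤ) * (2 * ((-ri - 1).toNat : ℤ) + 1) := by
            rw [Int.toNat_of_nonneg (by omega)]; nlinarith
          exact_mod_cast this
    · exfalso
      have h' : (2 * ri - 1 - 1) * (2 * ri - 1 + 1) = 0 := by linear_combination zsq
      rcases mul_eq_zero.1 h' with e | e <;> omega
  obtain ⟨b₀, hb₀⟩ := Fintype.exists_ne_of_one_lt_card (by omega : 1 < Fintype.card Ω) a₀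
  obtain ⟨a, ha, hma', -⟩ := main b₀ hb₀
  refine ⟨a, ha, hma', fun b hb => ?_⟩
  obtain ⟨a', ha', hma'', h⟩ := main b hb
  have : a = a' := by nlinarith [hma'.symm.trans hma'', sq_nonneg ((a : ℤ) - a')]
  subst this
  exact h

end Cfsg.Agent.S0719
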