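import Cfsg.Statements.S0720
import Mathlib
import Cfsg.Agent.Lib.Block.DegreeTwoPOrbital
import Cfsg.Agent.Lib.Transfer.JordanPrimeCycle
import Cfsg.Agent.S0719

set_option autoImplicit false
open Cfsg

namespace Cfsg.Agent.S0720

open Cfsg.Agent.Block Cfsg.Agent.Block.PermChar Cfsg.Agent.Char Equiv Equiv.Perm

universe u

variable {α : Type u} [Fintype α] [DecidableEq α]

/-- A group containing the alternating group is doubly transitive. -/
private theorem two_of_alternating (h4 : 4 ≤ Fintype.card α) {G : Subgroup (Perm α)}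
    (hA : alternatingGroup α ≤ G) : MulAction.IsMultiplyPretransitive G α 2 := by
  have h2 : MulAction.IsMultiplyPretransitive (alternatingGroup α) α 2 := by
    haveI := alternatingGroup.isMultiplyPretransitive α
    exact MulAction.isMultiplyPretransitive_of_le (n := Nat.card α - 2)
      (by rw [Nat.card_eq_fintype_card]; omega) (Nat.sub_le _ _)
  rw [MulAction.is_two_pretransitive_iff]
  intro a b c d hab hcd
  obtain ⟨g, hga, hgb⟩ := (MulAction.is_two_pretransitive_iff.1 h2) hab hcd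
  exact ⟨⟨(g : Perm α), hA g.2⟩, hga, hgb⟩

/-- Degree four. -/
private theorem degree_four (h4 : Fintype.card α = 4) (G : Subgroup (Perm α))
    (hG : MulAction.IsPreprimitive G α) (a : α) : MulAction.IsMultiplyPretransitive G α 2 := by
  classical
  haveI := hG.toIsPretransitive
  by_cases h3 : 3 ∣ Nat.card G
  · haveI : Fact (Nat.Prime 3) := ⟨Nat.prime_three⟩
    obtain ⟨g, hg⟩ := exists_prime_orderOf_dvd_card' 3 h3
    have hgo : orderOf (g : Perm α) = 3 := by rw [Subgroup.orderOf_coe, hg]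
    obtain ⟨n, hn⟩ := Equiv.Perm.cycleType_prime_order (hgo ▸ Nat.prime_three)
    rw [hgo] at hn
    have hs := Equiv.Perm.sum_cycleType (g : Perm α)
    rw [hn, Multiset.sum_replicate, smul_eq_mul] at hs
    have hle := Finset.card_le_univ (g : Perm α).support
    obtain rfl : n = 0 := by omega
    refine two_of_alternating (by omega)
      (Equiv.Perm.alternatingGroup_le_of_isPreprimitive_of_isThreeCycle_mem hG ?_ g.2)
    rw [Equiv.Perm.IsThreeCycle, hn]
    rfl
  exfalso
  haveI : Nontrivial α := Fintype.one_lt_card_iff_nontrivial.1 (by omega)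
  haveI : Fact (Nat.Prime 2) := ⟨Nat.prime_two⟩
  have hdvd : Nat.card G ∣ 24 := by
    have := Subgroup.card_subgroup_dvd_card G
    rwa [Nat.card_perm, Nat.card_eq_fintype_card (α := α), h4] at this
  have hidx := (MulAction.stabilizer G a).card_mul_index
  rw [MulAction.index_stabilizer_of_transitive, Nat.card_eq_fintype_card (α := α), h4] at hidx
  have hcard : Nat.card G = 4 ∨ Nat.card G = 8 := by
    have hdec : ∀ n ∈ Nat.divisors 24, 4 ∣ n → ¬ 3 ∣ n → n = 4 ∨ n = 8 := by decide
    exact hdec _ (Nat.mem_divisors.2 ⟨hdvd, by norm_num⟩) ⟨_, by rw [← hidx, mul_comm]⟩ h3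
  have hp : IsPGroup 2 G := by
    rcases hcard with h | h
    · exact IsPGroup.of_card (n := 2) (by rw [h]; norm_num)
    · exact IsPGroup.of_card (n := 3) (by rw [h]; norm_num)
  haveI := hp.isNilpotent
  have hmax := MulAction.IsPreprimitive.isCoatom_stabilizer_of_isPreprimitive (G := G) a
  have hnorm : (MulAction.stabilizer G a).Normal :=
    Subgroup.NormalizerCondition.normal_of_coatom _ normalizerCondition_of_isNilpotent hmax
  have hbot : MulAction.stabilizer G a = ⊥ := by
    refine (Subgroup.eq_bot_iff_forall _).2 fun h hh =>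
      FaithfulSMul.eq_of_smul_eq_smul (α := α) fun z => ?_
    obtain ⟨g₂, rfl⟩ := MulAction.exists_smul_eq G a z
    have h1 := hnorm.conj_mem h hh g₂⁻¹
    rw [inv_inv, MulAction.mem_stabilizer_iff, mul_smul, mul_smul, inv_smul_eq_iff] at h1
    rw [h1, one_smul]
  rw [hbot, Subgroup.card_bot, one_mul] at hidx
  obtain ⟨u, hu⟩ := exists_prime_orderOf_dvd_card' (G := G) 2 (by rw [← hidx]; norm_num)
  have hlt : MulAction.stabilizer G a < Subgroup.zpowers u := by
    rw [hbot]
    exact bot_lt_iff_ne_bot.2 fun e => by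
      rw [Subgroup.zpowers_eq_bot] at e
      rw [e, orderOf_one] at hu
      norm_num at hu
  have h5 : Nat.card (Subgroup.zpowers u) = Nat.card G := by rw [hmax.2 _ hlt, Subgroup.card_top]
  rw [Nat.card_zpowers, hu, ← hidx] at h5
  norm_num at h5

/-- With a Sylow subgroup of order `p ^ 2` there is a `p`-cycle. -/
private theorem cycle_of_sq {p : ℕ} [Fact p.Prime] (hp2 : p ≠ 2) (hα : Fintype.card α = 2 * p)
    (G : Subgroup (Perm α)) (hsq : p ^ 2 ∣ Nat.card G) :
    ∃ c ∈ G, c.IsCycle ∧ c.support.card = p := by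
  classical
  have hp : p.Prime := Fact.out
  obtain ⟨R⟩ : Nonempty (Sylow p G) := inferInstance
  have hR : p ^ 2 ∣ Nat.card R := R.pow_dvd_card_of_pow_dvd_card hsq
  obtain ⟨Q, hQ⟩ := (R.isPGroup'.map G.subtype).exists_le_sylow
  have hQc : Nat.card Q = p ^ 2 := by
    rw [Q.card_eq_multiplicity, Nat.card_perm, Nat.card_eq_fintype_card, hα, mul_comm 2 p,
      Nat.factorization_factorial_mul hp,
      Nat.factorization_eq_zero_of_not_dvd (fun h => hp2 ?_), zero_add]
    exact le_antisymm (hp.dvd_factorial.1 h) hp.two_le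
  have hRc : Nat.card ((R : Subgroup G).map G.subtype) = Nat.card R :=
    (Nat.card_congr (Subgroup.equivMapOfInjective _ _ G.subtype_injective).toEquiv).symm
  have heq : (R : Subgroup G).map G.subtype = Q := by
    refine Subgroup.eq_of_le_of_card_ge hQ ?_
    rw [hRc, show Nat.card (Q : Subgroup (Perm α)) = p ^ 2 from hQc]
    exact Nat.le_of_dvd Nat.card_pos hR
  obtain ⟨c, hc⟩ := (Equiv.Perm.exists_with_cycleType_iff α (m := {p})).2
    ⟨by rw [Multiset.sum_singleton]; omega, fun a ha => by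
      rw [Multiset.mem_singleton] at ha
      exact ha ▸ hp.two_le⟩
  have hcyc : c.IsCycle := Equiv.Perm.card_cycleType_eq_one.1 (by rw [hc]; rfl)
  have hsupp : c.support.card = p := by
    rw [← Equiv.Perm.sum_cycleType, hc, Multiset.sum_singleton]
  have hpg : IsPGroup p (Subgroup.zpowers c) :=
    IsPGroup.of_card (n := 1) (by rw [Nat.card_zpowers, pow_one, hcyc.orderOf, hsupp])
  obtain ⟨S, hS⟩ := hpg.exists_le_sylow
  obtain ⟨g, hg⟩ := MulAction.exists_smul_eq (Perm α) S Q
  refine ⟨g * c * g⁻¹, ?_, hcyc.conj, by rw [Equiv.Perm.card_support_conj, hsupp]⟩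
  have h1 : g * c * g⁻¹ ∈ (Q : Subgroup (Perm α)) := by
    rw [← hg, Sylow.coe_subgroup_smul]
    exact ⟨c, hS (Subgroup.mem_zpowers c), rfl⟩
  rw [← heq] at h1
  obtain ⟨y, -, hy⟩ := h1
  rw [← hy]
  exact y.2

/-- Two orbitals. -/
private theorem two_of_card {G : Type u} [Group G] [Fintype G] {Ω : Type u} [Fintype Ω]
    [MulAction G Ω] (h : Nat.card (MulAction.orbitRel.Quotient G (Ω × Ω)) = 2) :
    MulAction.IsMultiplyPretransitive G Ω 2 := by
  classical
  rw [MulAction.is_two_pretransitive_iff]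
  intro a b c d hab hcd
  obtain ⟨q₁, q₂, -, huniv⟩ := Nat.card_eq_two_iff.1 h
  have hq : ∀ q : MulAction.orbitRel.Quotient G (Ω × Ω), q = q₁ ∨ q = q₂ := fun q => by
    simpa using (huniv.symm ▸ Set.mem_univ q : q ∈ ({q₁, q₂} : Set _))
  have hne : ∀ x y : Ω, x ≠ y →
      (Quotient.mk'' (x, y) : MulAction.orbitRel.Quotient G (Ω × Ω)) ≠ Quotient.mk'' (a, a) := by
    intro x y hxy e
    obtain ⟨g, hg⟩ := Quotient.exact' e
    exact hxy ((congrArg Prod.fst hg).symm.trans (congrArg Prod.snd hg))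
  have h1 := hne a b hab
  have h2 := hne c d hcd
  have h3 : (Quotient.mk'' (c, d) : MulAction.orbitRel.Quotient G (Ω × Ω)) = Quotient.mk'' (a, b) := by
    rcases hq (Quotient.mk'' (a, a)) with e | e <;> rcases hq (Quotient.mk'' (a, b)) with e' | e' <;>
      rcases hq (Quotient.mk'' (c, d)) with e'' | e'' <;> simp_all
  obtain ⟨g, hg⟩ := Quotient.exact' h3
  exact ⟨g, congrArg Prod.fst hg, congrArg Prod.snd hg⟩

/-- Wielandt's Theorem on primitive groups of degree `2p`: such a group is doubly transitive, or it has rank 3, `p = 2a² + 2a + 1`, and subdegrees `a(2a+1)` and `(a+1)(2a+1)`. -/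
theorem result {α : Type*} [Fintype α] [DecidableEq α] {p : ℕ} (hp : p.Prime) (hα : Fintype.card α = 2 * p) (G : Subgroup (Equiv.Perm α)) (hG : MulAction.IsPreprimitive G α) (a₀ : α) : MulAction.IsMultiplyPretransitive G α 2 ∨ (Nat.card (MulAction.orbitRel.Quotient (MulAction.stabilizer G a₀) α) = 3 ∧ ∃ a : ℕ, 0 < a ∧ p = 2 * a ^ 2 + 2 * a + 1 ∧ ∀ b : α, b ≠ a₀ → Nat.card (MulAction.orbit (MulAction.stabilizer G a₀) b) = a * (2 * a + 1) ∨ Nat.card (MulAction.orbit (MulAction.stabilizer G a₀) b) = (a + 1) * (2 * a + 1)) := by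
  classical
  haveI : Fact p.Prime := ⟨hp⟩
  by_cases hp2 : p = 2
  · exact Or.inl (degree_four (by omega) G hG a₀)
  have hp3 : 3 ≤ p := by have := hp.two_le; omega
  by_cases hsq : p ^ 2 ∣ Nat.card G
  · obtain ⟨c, hc, hcyc, hsupp⟩ := cycle_of_sq hp2 hα G hsq
    exact Or.inl (two_of_alternating (by omega)
      (Cfsg.Agent.Transfer.JordanPrimeCycle.alternatingGroup_le_of_cycle hG hp (by omega) hcyc hsupp hc))
  haveI := hG.toIsPretransitive
  haveI : Nonempty α := ⟨a₀⟩
  haveI : Fintype G := Fintype.ofFinite _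
  have hsum := sum_mult_sq (G := G) (Ω := α)
  obtain ⟨u, ψ, hu, hψι, hmψ, hψfix, hcase⟩ :=
    TwoP.constituents (G := G) (Ω := α) hG hp2 hα hsq
  have hmι : mult G α (one₀ G : G → ℂ) = 1 := PermChar.mult_one
  rcases hcase with hall | ⟨hdψ, χ₁, hι₁, hψ₁, hm₁, hcase⟩
  · left
    apply two_of_card
    rw [← Finset.sum_subset (s₁ := {one₀ G, ψ}) (Finset.subset_univ _) (fun χ _ hχ => by
      simp only [Finset.mem_insert, Finset.mem_singleton, not_or] at hχ
      rw [show mult G α (χ : G → ℂ) = 0 from by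
        by_contra h
        rcases hall χ h with e | e
        exacts [hχ.1 e, hχ.2 e], zero_mul]), Finset.sum_pair (Ne.symm hψι), hmι, hmψ, map_one,
      one_mul] at hsum
    norm_num1 at hsum
    exact_mod_cast hsum.symm
  rcases hcase with ⟨hd₁, hall⟩ | ⟨hd₁, hψu, χ₂, hι₂, hψ₂, h12, hm₂, hd₂, hall⟩
  · right
    have hzero : ∀ χ : IrrCharacter G, χ ∉ ({one₀ G, ψ, χ₁} : Finset (IrrCharacter G)) →
        mult G α (χ : G → ℂ) = 0 := fun χ hχ => by
      simp only [Finset.mem_insert, Finset.mem_singleton, not_or] at hχ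
      by_contra h
      rcases hall χ h with e | e | e
      exacts [hχ.1 e, hχ.2.1 e, hχ.2.2 e]
    have hrank : Nat.card (MulAction.orbitRel.Quotient (MulAction.stabilizer G a₀) α) = 3 := by
      rw [← Finset.sum_subset (s₁ := {one₀ G, ψ, χ₁}) (Finset.subset_univ _) (fun χ _ hχ => by
        rw [hzero χ hχ, zero_mul]), Finset.sum_insert (by simp [Ne.symm hψι, Ne.symm hι₁]),
        Finset.sum_pair (Ne.symm hψ₁), hmι, hmψ, hm₁, map_one, one_mul] at hsum
      norm_num1 at hsum
      rw [← Cfsg.Agent.S0669.result a₀]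
      exact_mod_cast hsum.symm
    refine ⟨hrank, ?_⟩
    refine Cfsg.Agent.S0719.result hG (m := p) hα a₀ hrank (χ₁ : G → ℂ) (ψ : G → ℂ) χ₁.2 ψ.2 ?_ ?_ ?_
    · show piFun G α = _
      rw [piFun_decomp, ← Finset.sum_subset (s₁ := {one₀ G, ψ, χ₁}) (Finset.subset_univ _) (fun χ _ hχ => by
        rw [hzero χ hχ, zero_smul]), Finset.sum_insert (by simp [Ne.symm hψι, Ne.symm hι₁]),
        Finset.sum_pair (Ne.symm hψ₁), hmι, hmψ, hm₁, one_smul, one_smul, one_smul]
      funext g
      simp only [Pi.add_apply, one₀]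
      ring
    · rw [charDeg_spec', ← hd₁]
      push_cast
      ring
    · rw [charDeg_spec', hdψ]
  · exact (TwoP.no_rank_four (G := G) (Ω := α) hG hp2 hα hsq hu hψι hι₁ hι₂ hψ₁ hψ₂ h12 hmψ hm₁ hm₂
      hall hdψ hd₁ hd₂ hψfix hψu).elim

end Cfsg.Agent.S0720
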