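import Cfsg.Prelude
import Cfsg.Agent.Lib.Invol.JCompOddGen
-- import your own Cfsg.Agent.* helpers here

set_option autoImplicit false
open Cfsg

open scoped Pointwise commutatorElement

namespace Cfsg.Agent.S0518

/-- Let G be a finite group of characteristic 2 type with trivial 2-core in which every 2-local subgroup is solvable
and, for every Sylow 2-subgroup S, the centralizer of the set of central involutions of S lies in the normalizer of S.
Then either G has a strongly embedded subgroup, or the subgroup generated by the elements of odd order has two distinct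
maximal 2-local subgroups, each isomorphic to the symmetric group of degree 4, whose intersection has order 8. -/
theorem result {G : Type*} [Group G] [Finite G]
    (hL : Cfsg.IsCharacteristicTwoType G) (hO : Cfsg.pCore 2 G = ⊥)
    (hN : ∀ N : Subgroup G, Cfsg.IsTwoLocal N → Group.IsSolvable N)
    (hZ : ∀ S : Sylow 2 G,
      Subgroup.centralizer {z : G | z ∈ (S : Subgroup G) ∧ z ^ 2 = 1 ∧ ∀ s ∈ (S : Subgroup G), s * z = z * s} ≤
        Subgroup.normalizer ((S : Subgroup G) : Set G))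
    (H : Subgroup G) (hH : H = Subgroup.closure {g : G | Odd (orderOf g)}) :
    (∃ K : Subgroup G, Cfsg.IsStronglyEmbedded K) ∨
      ∃ M₁ M₂ : Subgroup H, M₁ ≠ M₂ ∧ Cfsg.IsMaximalTwoLocal M₁ ∧ Cfsg.IsMaximalTwoLocal M₂ ∧
        Nonempty (M₁ ≃* Equiv.Perm (Fin 4)) ∧ Nonempty (M₂ ≃* Equiv.Perm (Fin 4)) ∧ Nat.card ↥(M₁ ⊓ M₂) = 8 := by
  classical
  haveI := Fact.mk Nat.prime_two
  have hzn : ∀ S : Sylow 2 G, Subgroup.centralizer (Cfsg.omegaCenterOf (S : Subgroup G) : Set G) ≤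
      Subgroup.normalizer ((S : Subgroup G) : Set G) := by
    intro S
    have e : (Cfsg.omegaCenterOf (S : Subgroup G) : Set G) =
        {z : G | z ∈ (S : Subgroup G) ∧ z ^ 2 = 1 ∧ ∀ s ∈ (S : Subgroup G), s * z = z * s} := by
      ext x
      rw [SetLike.mem_coe, Cfsg.Agent.Invol.JComp.mem_omegaCenter, Set.mem_setOf_eq, pow_two]
      tauto
    rw [e]
    exact hZ S
  let S : Sylow 2 G := default
  have hS1 : (S : Subgroup G) ≠ ⊥ := S.ne_bot_of_dvd_card hL.1.two_dvd
  have hJ2 : Cfsg.IsTwoLocal (Subgroup.normalizer (Cfsg.thompsonSubgroupOf 2 (S : Subgroup G) : Set G)) :=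
    ⟨Cfsg.thompsonSubgroupOf 2 (S : Subgroup G), S.isPGroup'.to_le (Cfsg.Agent.Invol.thompsonEl_le _),
      Cfsg.Agent.Invol.JComp.thompson_ne_bot S.isPGroup' hS1, rfl⟩
  obtain ⟨M, hM, hMJ⟩ := Cfsg.Agent.Invol.JComp.exists_maximalTwoLocal hJ2
  by_cases hs : Cfsg.straddlingTwoSubgroups M = ∅
  · exact Or.inl ⟨M, (Cfsg.Agent.S2947.result hL hN hzn hO S M hM.1 hMJ).2 hs⟩
  right
  obtain ⟨T, hT⟩ := Cfsg.Agent.Invol.JComp.exists_maxStraddling (Set.nonempty_iff_ne_empty.2 hs)
  have c := Cfsg.Agent.Invol.JComp.Ctx.mk' hL hN hzn hO hMJ hT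
  obtain ⟨K, hK⟩ := Cfsg.Agent.S2949.result hL hN hzn hO S M hM.1 hMJ T hT
  obtain ⟨L₁, K₂, L₂, -, g₁, g₂, h⟩ := Cfsg.Agent.Invol.JComp.exists_pair_of_outside c hK
  obtain ⟨z, p⟩ := g₁.exists_pairData g₂ h
  exact p.odd_conclusion hH

end Cfsg.Agent.S0518
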