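import Cfsg.Statements.S3756
import Cfsg.Agent.Lib.Block.SFourFree.Locals

set_option autoImplicit false
open Cfsg

namespace Cfsg.Agent.S3756

/-- Let G be a finite group of even order with O₂(G) = 1 such that every 2-local subgroup of G is solvable, of characteristic 2, and has no section isomorphic to the symmetric group of degree 4. Then every maximal 2-local subgroup of G is strongly embedded in G. -/
theorem result {G : Type*} [Group G] [Finite G] (heven : Even (Nat.card G)) (hO : Cfsg.pCore 2 G = ⊥) (hloc : ∀ M : Subgroup G, Cfsg.IsTwoLocal M → Group.IsSolvable M ∧ Cfsg.IsOfCharacteristicTwo ↥M ∧ ¬ Cfsg.Involves (Equiv.Perm (Fin 4)) ↥M) (M : Subgroup G) (hM : Cfsg.IsMaximalTwoLocal M) : Cfsg.IsStronglyEmbedded M := by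
  classical
  haveI : Fact (Nat.Prime 2) := ⟨Nat.prime_two⟩
  have hG : Block.SFour.GoodLocals G := fun N hN =>
    ⟨(hloc N hN).1, (hloc N hN).2.1,
      Block.SFour.noThree_of_sfourFree (hloc N hN).2.1 (hloc N hN).2.2⟩
  obtain ⟨T, hT, hT1, hMT⟩ := hM.1
  have hTM : T ≤ M := hMT ▸ Subgroup.le_normalizer
  refine ⟨fun htop => hT1 (le_bot_iff.mp (hO ▸ Grp.le_pCore
    (Subgroup.normalizer_eq_top_iff.mp (hMT.symm.trans htop)) hT)), ?_, fun g hg => ?_⟩
  · haveI : Nontrivial T := (Subgroup.nontrivial_iff_ne_bot T).mpr hT1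
    obtain ⟨n, hn0, hn⟩ := hT.nontrivial_iff_card.mp inferInstance
    exact even_iff_two_dvd.mpr ((dvd_pow_self 2 hn0.ne').trans
      ((hn.symm.dvd).trans (Subgroup.card_dvd_of_le hTM)))
  set M' := M.map (MulAut.conj g).toMonoidHom with hM'
  rw [← Nat.not_even_iff_odd]
  intro he
  obtain ⟨x, hx⟩ := exists_prime_orderOf_dvd_card' (G := ↥(M ⊓ M')) 2 he.two_dvd
  set R := Subgroup.zpowers (x : G) with hR
  have hx2 : orderOf (x : G) = 2 := by rw [Subgroup.orderOf_coe, hx]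
  have hRp : IsPGroup 2 R := IsPGroup.of_card (n := 1) (by rw [Nat.card_zpowers, hx2, pow_one])
  have hR1 : R ≠ ⊥ := fun e => by
    rw [Subgroup.zpowers_eq_bot] at e
    rw [e, orderOf_one] at hx2
    norm_num at hx2
  have hinj : Function.Injective (MulAut.conj g).toMonoidHom := (MulAut.conj g).injective
  have hM'max : Cfsg.IsMaximalTwoLocal M' := by
    have hloc' : ∀ {X : Subgroup G} (a : G), Cfsg.IsTwoLocal X →
        Cfsg.IsTwoLocal (X.map (MulAut.conj a).toMonoidHom) := by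
      rintro X a ⟨P, hP, hP1, rfl⟩
      exact ⟨P.map (MulAut.conj a).toMonoidHom, hP.map _,
        fun e => hP1 ((Subgroup.map_eq_bot_iff_of_injective P (MulAut.conj a).injective).mp e),
        Subgroup.map_equiv_normalizer_eq P (MulAut.conj a)⟩
    refine ⟨hloc' g hM.1, fun N hN hle => ?_⟩
    have h1 : M ≤ N.map (MulAut.conj g⁻¹).toMonoidHom := fun m hm =>
      ⟨_, hle ⟨m, hm, rfl⟩, by simp [mul_assoc]⟩
    have h2 := hM.2 _ (hloc' g⁻¹ hN) h1
    rw [hM', ← h2, Subgroup.map_map]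
    ext y
    simp [mul_assoc]
  have heq : M = M' := Block.SFour.uniq_all hG _ R rfl hRp hR1 M M' hM hM'max
    (Subgroup.zpowers_le.mpr x.2.1) (Subgroup.zpowers_le.mpr x.2.2)
  -- `g` normalises `O₂(M)`
  set P := (Cfsg.pCore 2 M).map M.subtype with hP
  haveI : (Cfsg.pCore 2 M).Normal := Grp.pCore_isNormal
  have hP1 : P ≠ ⊥ := by
    intro e
    refine hT1 (le_bot_iff.mp (le_trans ?_ e.le))
    rw [← Subgroup.map_subgroupOf_eq_of_le hTM]
    refine Subgroup.map_mono (Grp.le_pCore ?_ hT.comap_subtype)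
    exact Subgroup.normal_subgroupOf_of_le_normalizer hMT.le
  have hMP : M ≤ Subgroup.normalizer (P : Set G) := by
    calc M = (Subgroup.normalizer (Cfsg.pCore 2 M : Set M)).map M.subtype := by
          rw [Subgroup.normalizer_eq_top, ← MonoidHom.range_eq_map, Subgroup.range_subtype]
      _ ≤ _ := Subgroup.le_normalizer_map M.subtype
  have hN : Subgroup.normalizer (P : Set G) = M :=
    hM.2 _ ⟨P, Grp.pCore_isPGroup.map _, hP1, rfl⟩ hMP
  refine hg (hN ▸ ?_)
  have hMg : ∀ m ∈ M, g * m * g⁻¹ ∈ M := fun m hm => by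
    have h1 : g * m * g⁻¹ ∈ M' := ⟨m, hm, rfl⟩
    rwa [← heq] at h1
  have hMg' : ∀ m ∈ M, g⁻¹ * m * g ∈ M := fun m hm => by
    rw [heq] at hm
    obtain ⟨k, hk, hke⟩ := hm
    rw [← hke]
    simpa [mul_assoc] using hk
  let φ : M ≃* M :=
    { toFun := fun m => ⟨g * (m : G) * g⁻¹, hMg m m.2⟩
      invFun := fun m => ⟨g⁻¹ * (m : G) * g, hMg' m m.2⟩
      left_inv := fun m => Subtype.ext (by simp [mul_assoc])
      right_inv := fun m => Subtype.ext (by simp [mul_assoc])
      map_mul' := fun a b => Subtype.ext (by simp [mul_assoc]) }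
  have hφ : (Cfsg.pCore 2 M).map φ.toMonoidHom ≤ Cfsg.pCore 2 M :=
    Grp.le_pCore ((inferInstance : (Cfsg.pCore 2 M).Normal).map _ φ.surjective)
      (Grp.pCore_isPGroup.map _)
  rw [Grp.mem_normalizer_iff_smul, ← Grp.map_conj_eq_smul]
  refine Subgroup.eq_of_le_of_card_ge ?_ (Subgroup.card_map_of_injective hinj).ge
  rintro _ ⟨_, ⟨m, hm, rfl⟩, rfl⟩
  exact ⟨φ m, hφ ⟨m, hm, rfl⟩, rfl⟩

end Cfsg.Agent.S3756
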