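import Cfsg.Statements.S5205
import Cfsg.Agent.Lib.Fus.FunctorFree
import Cfsg.Agent.Lib.Fus.FunctorCenter
-- import your own Cfsg.Agent.* helpers here

set_option autoImplicit false
universe u
open Cfsg

namespace Cfsg.Agent.S5205

/-- Glauberman's ZJ-Theorem for fusion systems, in functor form. Let p be an odd prime and W a Glauberman functor: W assigns to every finite p-group Q (in a fixed universe) a subgroup W(Q), nontrivial when Q is, carried to W(R) by every isomorphism Q ≅ R, and such that W(P) is normal in L whenever P is a Sylow p-subgroup of a finite group L with C_L(O_p(L)) = Z(O_p(L)) in which Qd(p) (the natural semidirect product of an elementary abelian group of order p² by SL₂(p)) is not involved. Let F be a saturated fusion system over a finite p-group S that is Qd(p)-free: Qd(p) is not involved in any model of the normalizer system of a fully normalized F-centric subgroup. Then F equals the normalizer fusion system of W(S) in F. -/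
theorem result {p : ℕ} [Fact p.Prime] (hp : p ≠ 2) (W : ∀ (Q : Type u) [Group Q], Subgroup Q) (hW1 : ∀ (Q : Type u) [Group Q] [Finite Q], IsPGroup p Q → Nontrivial Q → W Q ≠ ⊥) (hW2 : ∀ (Q R : Type u) [Group Q] [Group R] [Finite Q], IsPGroup p Q → ∀ φ : Q ≃* R, (W Q).map φ.toMonoidHom = W R) (hW3 : ∀ (L : Type u) [Group L] [Finite L] (P : Sylow p L), Subgroup.centralizer ((Cfsg.pCore p L : Subgroup L) : Set L) = Cfsg.pCore p L ⊓ Subgroup.centralizer ((Cfsg.pCore p L : Subgroup L) : Set L) → ¬ Cfsg.Involves ↥(Cfsg.qd p) L → (((W ↥(P : Subgroup L)).map (P : Subgroup L).subtype : Subgroup L)).Normal) {Ω : Type u} [Group Ω] {S : Subgroup Ω} [Finite S] (hS : IsPGroup p S) (F : Cfsg.FusionSystem S) (hF : F.IsSaturated p) (hfree : F.IsSectionFree p ↥(Cfsg.qd p)) (N : Cfsg.FusionSystem (Cfsg.FusionSystem.normalizerIn S ((W ↥S).map S.subtype))) (hN : F.IsNormalizerSystem ((W ↥S).map S.subtype) N) : ∀ P : Subgroup Ω, N.Hom P = F.Hom P := by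
  classical
  have hWS : (W ↥S).map S.subtype ≤ S := Subgroup.map_subtype_le _
  have hbot : Fus.wMod W S ⊥ = (W ↥S).map S.subtype := Fus.wMod_bot W hW2 hS
  have := Fus.finite_of_le hWS
  have hSW : S ≤ FusionSystem.normalizerIn S ((W ↥S).map S.subtype) :=
    Fus.le_normalizerIn_of_char hWS fun s hs x hx => by
      have hsn : S ≤ Subgroup.normalizer ((⊥ : Subgroup Ω) : Set Ω) := by
        rw [Subgroup.normalizer_eq_top]; exact le_top
      rw [← hbot] at hx ⊢
      exact Fus.wMod_invariant W hW2 hS (Fus.isMap_conj F le_rfl hs)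
        (Fus.fimg_eq_self_of_source_top (Fus.isMap_conj F le_rfl hs)) bot_le hsn
        (le_antisymm (Fus.fimg_le fun y hy => by
          rw [Subgroup.mem_bot] at hy ⊢; simp [hy]) bot_le) hx
  have hsub : N.IsSubsystemOf F := fun P φ hφ => ((hN P).le hφ).1
  have hnw : ¬ Fus.QdWitness F p := (Fus.isSectionFree_qd_iff hS hF).1 hfree
  have hD : Fus.IsMapProp F (Fus.IsMap N) := by
    refine ⟨fun P f g h e => h.congr e, fun P Q f g _ _ h h1 h2 => h1.comp h2 h,
      fun P Q f _ h h1 => h1.res h⟩
  intro P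
  refine Set.Subset.antisymm (fun φ hφ => hsub P hφ) fun φ hφ => ?_
  refine Fus.mem_hom_iff.2 ?_
  refine Fus.functorInduction hS hF hD (Fus.wMod W) (Fus.wMod_le W)
    (fun R X hR hXR hn => by
      have := Fus.finite_of_le hR
      exact Fus.lt_wMod W hW1 (hS.to_le hR) hXR hn)
    (fun R X hR hXR hn g hg hgR hgX x hx => by
      have := Fus.finite_of_le hR
      exact Fus.wMod_invariant W hW2 (hS.to_le hR) hg hgR hXR hn hgX hx)
    (W₀ := ⊥) bot_le ?_ ?_ (Fus.isMap_toFun hφ)
  · intro R E X hR hEF hEs _ hX hXp hcc _ hY P₁ f₁ hf₁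
    have := Fus.finite_of_le hR
    have hRp := hS.to_le hR
    obtain ⟨M⟩ := Fus.exists_modelQuot hRp hEs hX hcc
    refine Fus.forall_of_isNormal (hD.mono hEF) (M.forall_of_normal W hRp hW2 hX ?_) hY hf₁
    exact hW3 M.Q M.P (le_antisymm (le_inf (M.centralizer_pCore hRp hX hXp) le_rfl) inf_le_right)
      (M.not_involves hRp fun h => hnw (h.mono hEF))
  · intro P₁ f₁ hf₁ hWP hfW
    rw [hbot] at hWP hfW
    obtain ⟨ψ, hψ, e⟩ := hf₁.exists_hom
    refine ⟨ψ, ?_, e⟩
    rw [hN]
    exact Fus.mem_normalizerHom.2 ⟨hf₁.source_le.trans hSW,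
      fun x => e x ▸ hSW (hf₁.apply_mem x.2), f₁, by rw [sup_eq_left.2 hWP]; exact hf₁,
      fun x => (e x).symm, hfW⟩

end Cfsg.Agent.S5205
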