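import Cfsg.Statements.S4738
import Mathlib
import Cfsg.Agent.Lib.Block.ClassMul
import Cfsg.Agent.Lib.Grp.Coprime
import Cfsg.Agent.Lib.Invol.Basic

set_option autoImplicit false
open Cfsg

namespace Cfsg.Agent.S4738

section

variable {G : Type*} [Group G] [Finite G] (p : ℕ) [Fact p.Prime]

theorem no_two_commute (hp2 : p ≠ 2) (h2p : ∀ g : G, orderOf g ≠ 2 * p) {u z : G} (hu1 : u ≠ 1)
    (hu : ∃ k : ℕ, orderOf u = p ^ k) (hz : orderOf z = 2) (hc : Commute z u) : False := by
  have hp : p.Prime := Fact.out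
  obtain ⟨k, hk⟩ := hu
  rcases k with _ | k
  · rw [pow_zero, orderOf_eq_one_iff] at hk; exact hu1 hk
  have hv : orderOf (u ^ p ^ k) = p := by
    rw [orderOf_pow_of_dvd (pow_ne_zero _ hp.ne_zero) (by rw [hk]; exact pow_dvd_pow p k.le_succ),
      hk, Nat.pow_div k.le_succ hp.pos]
    simp
  refine h2p (z * u ^ p ^ k) ?_
  rw [(hc.pow_right _).orderOf_mul_eq_mul_orderOf_of_coprime, hz, hv]
  rw [hz, hv]
  exact (Nat.coprime_primes Nat.prime_two hp).2 (Ne.symm hp2)

theorem sylow_ne_bot
    (hd : ¬ ∃ χ : IrrCharacter G, (charDegree (χ : G → ℂ)).factorization p = (Nat.card G).factorization p)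
    (P : Sylow p G) : (P : Subgroup G) ≠ ⊥ := by
  intro h
  apply hd
  refine ⟨⟨fun _ => 1, Char.isIrr_one⟩, ?_⟩
  rw [Block.charDeg_trivial, Nat.factorization_one]
  have hc := P.card_eq_multiplicity
  rw [h, Subgroup.card_bot] at hc
  simp only [Finsupp.coe_zero, Pi.zero_apply]
  rcases Nat.eq_zero_or_pos ((Nat.card G).factorization p) with h0 | h0
  · exact h0.symm
  · exact absurd hc.symm (Nat.one_lt_pow h0.ne' (Fact.out : p.Prime).one_lt).ne'

/-- If there is no defect zero character, each involution has a conjugate inverting a given Sylow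
subgroup elementwise. -/
theorem inverted_sylow (hp2 : p ≠ 2) (h2p : ∀ g : G, orderOf g ≠ 2 * p)
    (hd : ¬ ∃ χ : IrrCharacter G, (charDegree (χ : G → ℂ)).factorization p = (Nat.card G).factorization p)
    (P : Sylow p G) (t : G) (ht : orderOf t = 2) :
    ∃ g : G, orderOf (g * t * g⁻¹) = 2 ∧
      ∀ u ∈ (P : Subgroup G), (g * t * g⁻¹) * u * (g * t * g⁻¹)⁻¹ = u⁻¹ := by
  classical
  have hp : p.Prime := Fact.out
  have hti := Invol.inv_of_orderOf_two ht
  have htt := Invol.mul_self_of_orderOf_two ht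
  have hCt : ¬ p ∣ Nat.card (Subgroup.centralizer ({t} : Set G)) := by
    intro hdv
    obtain ⟨u, hu⟩ := exists_prime_orderOf_dvd_card' p hdv
    have hu' : orderOf (u : G) = p := by rw [Subgroup.orderOf_coe, hu]
    refine no_two_commute p hp2 h2p (fun h => ?_) ⟨1, hu'.trans (pow_one p).symm⟩ ht
      (Subgroup.mem_centralizer_singleton_iff.1 u.2).symm
    rw [h, orderOf_one] at hu'
    exact hp.ne_one hu'.symm
  -- subgroups inverted by t
  let S : Set (Subgroup G) := {A | IsPGroup p A ∧ A ≠ ⊥ ∧ ∀ u ∈ A, t * u * t⁻¹ = u⁻¹}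
  have hne : S.Nonempty := by
    by_contra hS
    apply hd
    refine Block.exists_defect_zero p t t (by rw [hti]) hCt ?_
    intro g ⟨k, hk⟩
    by_contra h1
    apply hS
    set z := t * (g * t * g⁻¹)
    have hti' : t * z * t⁻¹ = z⁻¹ := by
      simp only [z, mul_inv_rev, inv_inv, hti]
      rw [← mul_assoc, htt, one_mul, mul_assoc g t g⁻¹]
    refine ⟨Subgroup.zpowers z, IsPGroup.of_card (n := k) (by rw [Nat.card_zpowers, hk]),
      by simpa using h1, ?_⟩
    intro u hu
    obtain ⟨i, rfl⟩ := Subgroup.mem_zpowers_iff.1 hu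
    rw [← conj_zpow, hti', inv_zpow]
  obtain ⟨A, hA⟩ := (Set.toFinite S).exists_maximal hne
  obtain ⟨hAp, hA1, hAinv⟩ := hA.prop
  set C := Subgroup.centralizer (A : Set G) with hCdef
  have hnorm : ∀ n : G, n ∈ Subgroup.normalizer (A : Set G) → ∀ x ∈ C, n * x * n⁻¹ ∈ C := by
    intro n hn x hx u hu
    have hu' : n⁻¹ * u * n ∈ A := by
      have := (Subgroup.mem_normalizer_iff.1 ((Subgroup.normalizer (A : Set G)).inv_mem hn) u).1 hu
      simpa using this
    have h := hx _ hu'
    calc u * (n * x * n⁻¹) = n * (n⁻¹ * u * n * x) * n⁻¹ := by group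
      _ = n * (x * (n⁻¹ * u * n)) * n⁻¹ := by rw [h]
      _ = n * x * n⁻¹ * u := by group
  have htA : t ∈ Subgroup.normalizer (A : Set G) := by
    rw [Subgroup.mem_normalizer_iff]
    intro u
    constructor
    · intro hu; rw [hAinv u hu]; exact A.inv_mem hu
    · intro hu
      have h1 := hAinv _ hu
      have : t * (t * u * t⁻¹) * t⁻¹ = u := by
        rw [hti]
        calc t * (t * u * t) * t = (t * t) * u * (t * t) := by group
          _ = u := by rw [htt, one_mul, mul_one]
      rw [this] at h1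
      rw [h1]
      exact A.inv_mem hu
  have htC : ∀ x ∈ C, t * x * t⁻¹ ∈ C := hnorm t htA
  obtain ⟨⟨u₀, hu₀⟩, hu₀1'⟩ := A.ne_bot_iff_exists_ne_one.1 hA1
  have hu₀1 : u₀ ≠ 1 := fun h => hu₀1' (Subtype.ext h)
  have hu₀p : ∃ k : ℕ, orderOf u₀ = p ^ k := by
    obtain ⟨k, hk⟩ := hAp.exists_orderOf_eq_pow ⟨u₀, hu₀⟩
    exact ⟨k, (Subgroup.orderOf_coe ⟨u₀, hu₀⟩).trans hk⟩
  have hCodd : ¬ 2 ∣ Nat.card C := by
    intro h
    obtain ⟨z, hz⟩ := exists_prime_orderOf_dvd_card' 2 h
    exact no_two_commute p hp2 h2p hu₀1 hu₀p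
      ((Subgroup.orderOf_coe z).trans hz) (z.2 u₀ hu₀).symm
  have hTC : Subgroup.zpowers t ≤ Subgroup.normalizer (C : Set G) := by
    rw [Subgroup.zpowers_le, Subgroup.mem_normalizer_iff]
    intro x
    refine ⟨htC x, fun h => ?_⟩
    have := htC _ h
    rw [hti] at this
    convert this using 1
    calc x = (t * t) * x * (t * t) := by rw [htt, one_mul, mul_one]
      _ = _ := by group
  obtain ⟨X, hX, htX⟩ := Grp.exists_invariant_sylow (Subgroup.zpowers t) C hTC
    (by rw [Nat.card_zpowers, ht]; exact (Nat.prime_two.coprime_iff_not_dvd).2 hCodd)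
    (Or.inl inferInstance) p
  rw [Subgroup.zpowers_le] at htX
  have htX' : ∀ x ∈ X, t * x * t⁻¹ ∈ X := fun x hx => (Subgroup.mem_normalizer_iff.1 htX x).1 hx
  -- t inverts X
  let φ : X →* X :=
    { toFun := fun x => ⟨t * x * t⁻¹, htX' x x.2⟩
      map_one' := Subtype.ext (by simp)
      map_mul' := fun a b => Subtype.ext (by simp [mul_assoc]) }
  have hfp : MonoidHom.FixedPointFree φ := by
    intro x hx
    by_contra h1
    obtain ⟨k, hk⟩ := hX.2.1.exists_orderOf_eq_pow x
    refine no_two_commute p hp2 h2p (u := (x : G)) (fun h => h1 (Subtype.ext h))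
      ⟨k, (Subgroup.orderOf_coe x).trans hk⟩ ht ?_
    have := congrArg Subtype.val hx
    show t * (x : G) = x * t
    calc t * (x : G) = (t * x * t⁻¹) * t := by group
      _ = x * t := by rw [show t * (x : G) * t⁻¹ = x from this]
  have hinvX : ∀ x ∈ X, t * x * t⁻¹ = x⁻¹ := by
    have h2 : Function.Involutive φ := fun x => Subtype.ext (by
      show t * (t * (x : G) * t⁻¹) * t⁻¹ = x
      rw [hti]
      calc t * (t * (x : G) * t) * t = (t * t) * x * (t * t) := by group
        _ = x := by rw [htt, one_mul, mul_one])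
    intro x hx
    exact congrArg Subtype.val (congrFun (MonoidHom.FixedPointFree.coe_eq_inv_of_involutive hfp h2) ⟨x, hx⟩)
  have hAC : A ≤ C := by
    intro x hx u hu
    have h1 := hAinv _ (A.mul_mem hu hx)
    have h2 : t * (u * x) * t⁻¹ = (t * u * t⁻¹) * (t * x * t⁻¹) := by group
    rw [h2, hAinv u hu, hAinv x hx, mul_inv_rev] at h1
    simpa using (congrArg (fun y => y⁻¹) h1).symm
  have hAX : A ≤ X := by
    obtain ⟨Q, hQ⟩ := Grp.isSylowIn_iff.1 hX
    have hAn : (A.subgroupOf C).Normal := by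
      constructor
      intro a ha c
      rw [Subgroup.mem_subgroupOf] at ha ⊢
      have := c.2 (a : G) ha
      simp only [Subgroup.coe_mul, Subgroup.coe_inv]
      rw [← this, mul_assoc, mul_inv_cancel, mul_one]
      exact ha
    have hle : A.subgroupOf C ≤ (Q : Subgroup C) :=
      @IsPGroup.le_sylow_of_normal _ _ _ _ hAn (hAp.comap_subtype (K := C)) Q
    rw [← hQ, ← Subgroup.map_subgroupOf_eq_of_le hAC]
    exact Subgroup.map_mono hle
  have hXA : X = A := le_antisymm
    (hA.le_of_ge ⟨hX.2.1, fun h => hA1 (le_bot_iff.1 (h ▸ hAX)), hinvX⟩ hAX) hAX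
  rw [hXA] at hX
  -- A is a Sylow subgroup
  obtain ⟨Q, hQ⟩ := hAp.exists_le_sylow
  have hQA : (Q : Subgroup G) = A := by
    by_contra hne
    have hlt : A.subgroupOf (Q : Subgroup G) < ⊤ := by
      rw [lt_top_iff_ne_top, Ne, Subgroup.subgroupOf_eq_top]
      exact fun h => hne (le_antisymm h hQ)
    have := Q.isPGroup'.isNilpotent
    obtain ⟨n, hn, hnA⟩ := SetLike.exists_of_lt
      (Group.normalizerCondition_of_isNilpotent (A.subgroupOf (Q : Subgroup G)) hlt)
    rw [Subgroup.mem_subgroupOf] at hnA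
    have hnN : (n : G) ∈ Subgroup.normalizer (A : Set G) := by
      rw [Subgroup.mem_normalizer_iff]
      intro u
      constructor
      · intro hu
        exact (Subgroup.mem_normalizer_iff.1 hn ⟨u, hQ hu⟩).1 hu
      · intro hu
        have huQ : u ∈ (Q : Subgroup G) := by
          have := (Q : Subgroup G).mul_mem ((Q : Subgroup G).mul_mem ((Q : Subgroup G).inv_mem n.2) (hQ hu)) n.2
          simpa [mul_assoc] using this
        exact (Subgroup.mem_normalizer_iff.1 hn ⟨u, huQ⟩).2 hu
    -- s commutes with t, n ∈ s C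
    let N := Subgroup.normalizer (A : Set G)
    let CN : Subgroup N := C.subgroupOf N
    have hCNn : CN.Normal := ⟨fun x hx m => hnorm m m.2 _ hx⟩
    let q : N →* N ⧸ CN := QuotientGroup.mk' CN
    set m : G := t * n * t⁻¹ * (n : G)⁻¹
    have hm : m ∈ C := by
      intro u hu
      have h1 : (n : G)⁻¹ * u * n ∈ A := by
        have := (Subgroup.mem_normalizer_iff.1 (N.inv_mem hnN) u).1 hu
        simpa using this
      have h2 := hAinv _ h1
      have h3 := hAinv _ hu
      have e : m⁻¹ * u * m = u := by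
        calc m⁻¹ * u * m = (n : G) * (t * ((n : G)⁻¹ * (t⁻¹ * u * t) * n) * t⁻¹) * (n : G)⁻¹ := by
              simp only [m]; group
          _ = (n : G) * (t * ((n : G)⁻¹ * u⁻¹ * n) * t⁻¹) * (n : G)⁻¹ := by
              rw [show t⁻¹ * u * t = u⁻¹ by rw [hti]; rwa [hti] at h3]
          _ = (n : G) * ((t * ((n : G)⁻¹ * u * n) * t⁻¹))⁻¹ * (n : G)⁻¹ := by group
          _ = u := by rw [h2]; group
      calc u * m = m * (m⁻¹ * u * m) := by group
        _ = m * u := by rw [e]
    -- the coset n C is stable under t; find a fixed point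
    obtain ⟨c, hc, hct⟩ : ∃ c ∈ C, t * (c * n) * t⁻¹ = c * n := by
      -- t permutes the odd set C n
      let e : C → C := fun c => ⟨t * c * t⁻¹ * m, C.mul_mem (htC _ c.2) hm⟩
      have he : Function.Involutive e := fun c => Subtype.ext (by
        show t * (t * (c : G) * t⁻¹ * m) * t⁻¹ * m = c
        simp only [m, hti]
        calc t * (t * (c : G) * t * (t * n * t * (n : G)⁻¹)) * t * (t * n * t * (n : G)⁻¹)
            = (t * t) * c * ((t * t) * n) * (t * (n : G)⁻¹ * ((t * t) * n) * t * (n : G)⁻¹) := by group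
          _ = (c : G) * n * (t * t) * (n : G)⁻¹ := by simp only [htt, one_mul]; simp [mul_assoc, ← mul_assoc t t, htt]
          _ = c := by rw [htt]; group)
      have : Fintype C := Fintype.ofFinite C
      obtain ⟨c, hc⟩ : ∃ c : C, e c = c := by
        by_contra hno
        push Not at hno
        apply hCodd
        rw [Nat.card_eq_fintype_card]
        have hsupp : (he.toPerm e).support = Finset.univ := by
          ext c; simpa using hno c
        have := Equiv.Perm.two_dvd_card_support (σ := he.toPerm e) (by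
          ext c; simp [sq, Equiv.Perm.mul_apply, he c])
        rwa [hsupp, Finset.card_univ] at this
      refine ⟨c, c.2, ?_⟩
      have := congrArg Subtype.val hc
      simp only [e, m] at this
      calc t * ((c : G) * n) * t⁻¹ = (t * c * t⁻¹ * (t * n * t⁻¹ * (n : G)⁻¹)) * n := by group
        _ = (c : G) * n := by rw [this]
    have hsN : c * (n : G) ∈ N := N.mul_mem (Subgroup.centralizer_le_normalizer _ hc) hnN
    have hsC : c * (n : G) ∈ Subgroup.centralizer ({t} : Set G) := by
      rw [Subgroup.mem_centralizer_singleton_iff]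
      calc c * (n : G) * t = (t * (c * n) * t⁻¹) * t := by rw [hct]
        _ = t * (c * n) := by group
    have hq : q ⟨c * n, hsN⟩ = q ⟨n, hnN⟩ := by
      have : (⟨c * n, hsN⟩ : N) = ⟨c, Subgroup.centralizer_le_normalizer _ hc⟩ * ⟨n, hnN⟩ := rfl
      rw [this, map_mul, show q ⟨c, _⟩ = 1 from (QuotientGroup.eq_one_iff _).2 hc, one_mul]
    have hn1 : q ⟨n, hnN⟩ = 1 := by
      obtain ⟨i, hi⟩ := Q.isPGroup'.exists_orderOf_eq_pow n
      have d1 : orderOf (q ⟨n, hnN⟩) ∣ p ^ i := by
        refine (orderOf_map_dvd q _).trans ?_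
        rw [← Subgroup.orderOf_coe, Subgroup.coe_mk, Subgroup.orderOf_coe, hi]
      have d2 : orderOf (q ⟨n, hnN⟩) ∣ Nat.card (Subgroup.centralizer ({t} : Set G)) := by
        rw [← hq]
        refine (orderOf_map_dvd q _).trans ?_
        rw [← Subgroup.orderOf_coe, Subgroup.coe_mk, ← Subgroup.coe_mk _ _ hsC, Subgroup.orderOf_coe]
        exact orderOf_dvd_natCard _
      rw [← orderOf_eq_one_iff]
      have h3 : Nat.gcd (p ^ i) (Nat.card (Subgroup.centralizer ({t} : Set G))) = 1 :=
        Nat.Coprime.pow_left i (hp.coprime_iff_not_dvd.2 hCt)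
      exact Nat.eq_one_of_dvd_one (h3 ▸ Nat.dvd_gcd d1 d2)
    have hnC : (n : G) ∈ C := (QuotientGroup.eq_one_iff (N := CN) (⟨(n : G), hnN⟩ : N)).1 hn1
    have := hX.eq_of_le (le_sup_left : A ≤ A ⊔ Subgroup.zpowers (n : G))
      (sup_le hAC (by rwa [Subgroup.zpowers_le]))
      ((Q.isPGroup').to_le (sup_le hQ (by rw [Subgroup.zpowers_le]; exact n.2)))
    apply hnA
    rw [this]
    exact Subgroup.mem_sup_right (Subgroup.mem_zpowers _)
  obtain ⟨g, hg⟩ := MulAction.exists_smul_eq G Q P
  refine ⟨g, by rw [Invol.orderOf_conj_eq, ht], ?_⟩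
  intro u hu
  rw [← hg, Sylow.coe_subgroup_smul] at hu
  obtain ⟨a, ha, rfl⟩ := hu
  rw [SetLike.mem_coe, hQA] at ha
  simp only [MulDistribMulAction.toMonoidEnd_apply, MulDistribMulAction.toMonoidHom_apply,
    MulAut.smul_def, MulAut.conj_apply]
  calc g * t * g⁻¹ * (g * a * g⁻¹) * (g * t * g⁻¹)⁻¹ = g * (t * a * t⁻¹) * g⁻¹ := by group
    _ = _ := by rw [hAinv a ha]; group

end


/-- Let p be an odd prime and G a finite group of even order containing no element of order 2p. Then either G has an irreducible character of p-defect zero (its degree has the same p-part as the order of G), or every Sylow p-subgroup of G is abelian and all involutions of G are conjugate. -/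
theorem result {G : Type*} [Group G] [Finite G] (p : ℕ) [Fact p.Prime] (hp2 : p ≠ 2) (hG : Even (Nat.card G)) (h2p : ∀ g : G, orderOf g ≠ 2 * p) : (∃ χ : Cfsg.IrrCharacter G, (Cfsg.charDegree (χ : G → ℂ)).factorization p = (Nat.card G).factorization p) ∨ ((∀ P : Sylow p G, IsMulCommutative ↥(P : Subgroup G)) ∧ ∀ s t : G, orderOf s = 2 → orderOf t = 2 → IsConj s t) := by
  classical
  by_cases hd : ∃ χ : IrrCharacter G, (charDegree (χ : G → ℂ)).factorization p = (Nat.card G).factorization p
  · exact Or.inl hd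
  right
  obtain ⟨t₀, ht₀⟩ := exists_prime_orderOf_dvd_card' 2 (even_iff_two_dvd.1 hG)
  have main := inverted_sylow p hp2 h2p hd
  refine ⟨fun P => ⟨⟨fun a b => ?_⟩⟩, fun s t hs ht => ?_⟩
  · obtain ⟨g, -, hinv⟩ := main P t₀ ht₀
    apply Subtype.ext
    have hab := hinv _ ((P : Subgroup G).mul_mem a.2 b.2)
    have ha := hinv _ a.2
    have hb := hinv _ b.2
    have : ((a : G) * b)⁻¹ = (a : G)⁻¹ * (b : G)⁻¹ := by
      rw [← hab, ← ha, ← hb]; group
    rw [mul_inv_rev] at this
    simpa using (congrArg (fun x => x⁻¹) this)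
  · obtain ⟨P⟩ : Nonempty (Sylow p G) := inferInstance
    obtain ⟨g, hgP, hginv⟩ := main P s hs
    obtain ⟨k, hkP, hkinv⟩ := main P t ht
    have hs' : orderOf (g * s * g⁻¹) = 2 := by rw [Invol.orderOf_conj_eq, hs]
    have ht' : orderOf (k * t * k⁻¹) = 2 := by rw [Invol.orderOf_conj_eq, ht]
    suffices h : IsConj (g * s * g⁻¹) (k * t * k⁻¹) from
      ((isConj_iff.2 ⟨g, rfl⟩ : IsConj s (g * s * g⁻¹)).trans h).trans (isConj_iff.2 ⟨k, rfl⟩).symm
    set a := g * s * g⁻¹
    set b := k * t * k⁻¹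
    have hodd : Odd (orderOf (a * b)) := by
      rw [Nat.odd_iff]
      by_contra hev
      have h2 : 2 ∣ orderOf (a * b) := by omega
      obtain ⟨⟨u, hu⟩, hu1'⟩ := (P : Subgroup G).ne_bot_iff_exists_ne_one.1 (sylow_ne_bot p hd P)
      have hu1 : u ≠ 1 := fun h => hu1' (Subtype.ext h)
      obtain ⟨z, hz⟩ : ∃ z : G, z ∈ Subgroup.zpowers (a * b) ∧ orderOf z = 2 := by
        refine ⟨(a * b) ^ (orderOf (a * b) / 2), Subgroup.npow_mem_zpowers _ _, ?_⟩
        exact orderOf_pow_orderOf_div (orderOf_pos _).ne' h2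
      have hcomm : Commute (a * b) u := by
        have h1 := hginv u hu
        have h2' := hkinv u hu
        show a * b * u = u * (a * b)
        have e : a * b * u * (a * b)⁻¹ = u := by
          calc a * b * u * (a * b)⁻¹ = a * (b * u * b⁻¹) * a⁻¹ := by group
            _ = (a * u * a⁻¹)⁻¹ := by rw [h2']; group
            _ = u := by rw [h1, inv_inv]
        calc a * b * u = (a * b * u * (a * b)⁻¹) * (a * b) := by group
          _ = u * (a * b) := by rw [e]
      obtain ⟨i, rfl⟩ := Subgroup.mem_zpowers_iff.1 hz.1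
      obtain ⟨l, hl⟩ := P.isPGroup'.exists_orderOf_eq_pow ⟨u, hu⟩
      exact no_two_commute p hp2 h2p hu1 ⟨l, (Subgroup.orderOf_coe ⟨u, hu⟩).trans hl⟩ hz.2 (hcomm.zpow_left i)
    obtain ⟨j, hj⟩ := hodd
    refine isConj_iff.2 ⟨(b * a) ^ (j + 1), ?_⟩
    clear_value a b
    have haa := Invol.mul_self_of_orderOf_two hs'
    have hbb := Invol.mul_self_of_orderOf_two ht'
    have hai := Invol.inv_of_orderOf_two hs'
    have hbi := Invol.inv_of_orderOf_two ht'
    have hrev : ((b * a) ^ (j + 1))⁻¹ = (a * b) ^ (j + 1) := by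
      rw [← inv_pow, mul_inv_rev, hai, hbi]
    have hsw : ∀ n : ℕ, a * (a * b) ^ n = (b * a) ^ n * a := by
      intro n
      induction n with
      | zero => simp
      | succ n ih =>
        calc a * (a * b) ^ (n + 1) = (a * (a * b) ^ n) * (a * b) := by rw [pow_succ, mul_assoc]
          _ = (b * a) ^ n * ((a * a) * b) := by rw [ih, mul_assoc, mul_assoc]
          _ = (b * a) ^ n * (b * (a * a)) := by rw [haa, one_mul, mul_one]
          _ = (b * a) ^ (n + 1) * a := by rw [pow_succ, mul_assoc, mul_assoc]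
    rw [hrev, mul_assoc, hsw, ← mul_assoc, ← pow_add]
    have hord : orderOf (b * a) = 2 * j + 1 := by
      rw [← hj, show b * a = (a * b)⁻¹ by rw [mul_inv_rev, hai, hbi], orderOf_inv]
    rw [show j + 1 + (j + 1) = (2 * j + 1) + 1 by ring, pow_add, ← hord, pow_orderOf_eq_one,
      one_mul, pow_one, mul_assoc, haa, mul_one]

end Cfsg.Agent.S4738
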