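import Cfsg.Statements.S5089
import Cfsg.Agent.Lib.Fus.NormalCrit
-- import your own Cfsg.Agent.* helpers here

set_option autoImplicit false
open Cfsg

namespace Cfsg.Agent.S5089

/-- A saturated fusion system over a finite p-group has a nontrivial subgroup that is normal in the system (O_p(F) ≠ 1) if and only if some nontrivial abelian subgroup is strongly closed in the system. -/
theorem result {Ω : Type*} [Group Ω] {S : Subgroup Ω} [Finite S] (p : ℕ) [Fact p.Prime] (hS : IsPGroup p S) (F : Cfsg.FusionSystem S) (hF : F.IsSaturated p) : F.core ≠ ⊥ ↔ ∃ Q : Subgroup Ω, Q ≠ ⊥ ∧ IsMulCommutative Q ∧ F.StronglyClosed Q := by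
  constructor
  · intro hne
    have hN := Cfsg.Agent.Fus.isNormal_core F
    haveI := Cfsg.Agent.Fus.finite_of_le hN.1
    haveI : Nontrivial ↥F.core := F.core.nontrivial_iff_ne_bot.2 hne
    refine ⟨(Subgroup.center ↥F.core).map F.core.subtype, ?_, ⟨⟨fun a b => ?_⟩⟩, ?_⟩
    · rw [Ne, Subgroup.map_eq_bot_iff_of_injective _ F.core.subtype_injective]
      exact ((hS.to_le hN.1).bot_lt_center).ne'
    · obtain ⟨_, a, ha, rfl⟩ := a
      obtain ⟨_, b, hb, rfl⟩ := b
      exact Subtype.ext (congrArg F.core.subtype (Subgroup.mem_center_iff.1 hb a))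
    · refine Cfsg.Agent.Fus.stronglyClosed_of_characteristic hN (Subgroup.map_subtype_le _) ?_
      rw [Subgroup.subgroupOf, Subgroup.comap_map_eq_self_of_injective F.core.subtype_injective]
      infer_instance
  · rintro ⟨Q, hne, hab, hQ⟩ h
    refine hne (le_bot_iff.1 (h ▸ Cfsg.Agent.Fus.le_core ?_))
    refine Cfsg.Agent.Fus.isNormal_of_chain hS hF ![⊥, Q] rfl ?_ fun i => ?_
    · exact Fin.monotone_iff_le_succ.2 fun i => by fin_cases i; exact bot_le
    · fin_cases i
      refine ⟨hQ, ?_⟩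
      show ⁅Q, Q⁆ ≤ ⊥
      refine Subgroup.commutator_le.2 fun a ha b hb => Subgroup.mem_bot.2 ?_
      rw [commutatorElement_eq_one_iff_mul_comm]
      exact congrArg Subtype.val (mul_comm' (⟨a, ha⟩ : Q) ⟨b, hb⟩)

end Cfsg.Agent.S5089
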