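import Cfsg.Statements.S5132
import Cfsg.Agent.Lib.Fus.Normal
-- import your own Cfsg.Agent.* helpers here

set_option autoImplicit false
open Cfsg

namespace Cfsg.Agent.S5132

open Cfsg.FusionSystem

/-- Let F be a fusion system over a finite p-group S and S₀ a subgroup strongly closed in F (so S₀ is normal in S; the normality of S₀ ∩ S in S is supplied as an instance hypothesis so that the quotient can be written). Then the factor system F/S₀ exists: there is a fusion system over S/S₀ whose maps with source a subgroup P' of S/S₀ are exactly the homomorphisms induced along the quotient map by the maps of F whose source is the full preimage of P' in S. -/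
theorem result {Ω : Type*} [Group Ω] {S : Subgroup Ω} [Finite S] (p : ℕ) [Fact p.Prime] (hS : IsPGroup p S) (F : Cfsg.FusionSystem S) (S₀ : Subgroup Ω) (hS₀ : F.StronglyClosed S₀) [(S₀.subgroupOf S).Normal] : ∃ E : Cfsg.FusionSystem (⊤ : Subgroup (S ⧸ S₀.subgroupOf S)), F.IsFactorSystem S₀ (QuotientGroup.mk' (S₀.subgroupOf S)) E := by
  classical
  let θ := QuotientGroup.mk' (S₀.subgroupOf S)
  have hθ1 : ∀ s : S, θ s = 1 ↔ (s : Ω) ∈ S₀ := fun s => QuotientGroup.eq_one_iff s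
  have hS₀pre : ∀ P' : Subgroup (S ⧸ S₀.subgroupOf S), S₀ ≤ preimageAlong θ P' := by
    intro P' x hx
    exact ⟨⟨x, hS₀.1 hx⟩, show θ ⟨x, hS₀.1 hx⟩ ∈ P' from ((hθ1 ⟨x, hS₀.1 hx⟩).2 hx).symm ▸ P'.one_mem, rfl⟩
  have hpre : ∀ (P' : Subgroup (S ⧸ S₀.subgroupOf S)) (x : S),
      (x : Ω) ∈ preimageAlong θ P' ↔ θ x ∈ P' := fun P' x =>
    ⟨fun ⟨y, hy, e⟩ => Subtype.ext e ▸ hy, fun h => ⟨x, h, rfl⟩⟩
  have hS₀img : ∀ (P' : Subgroup (S ⧸ S₀.subgroupOf S)) (φ : preimageAlong θ P' →* Ω),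
      φ ∈ F.Hom _ → ∀ y ∈ S₀, ∃ x : preimageAlong θ P', (x : Ω) ∈ S₀ ∧ φ x = y := by
    intro P' φ hφ y hy
    haveI := Cfsg.Agent.Fus.finite_of_le hS₀.1
    have hr := (Cfsg.Agent.Fus.isMap_toFun hφ).res (hS₀pre P')
    have he : Cfsg.Agent.Fus.fimg (Cfsg.Agent.Fus.toFun φ) S₀ = S₀ :=
      Subgroup.eq_of_le_of_card_ge (Cfsg.Agent.Fus.fimg_le fun x hx =>
        Cfsg.Agent.Fus.StronglyClosed.apply_mem hS₀ hr le_rfl hx) hr.card_fimg.ge
    obtain ⟨x, hx, hxy⟩ := hr.mem_fimg_iff.1 (he.ge hy)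
    rw [Cfsg.Agent.Fus.toFun_apply φ (hS₀pre P' hx)] at hxy
    exact ⟨⟨x, hS₀pre P' hx⟩, hx, hxy⟩
  let E : FusionSystem (⊤ : Subgroup (S ⧸ S₀.subgroupOf S)) :=
    { Hom := fun P' => {φ' | ∃ φ ∈ F.Hom (preimageAlong θ P'), InducedAlong θ φ φ'}
      le_of_mem := fun _ => ⟨le_top, fun _ => Subgroup.mem_top _⟩
      injective_of_mem := by
        rintro P' φ' ⟨φ, hφ, hP, hφS, hP', h⟩
        rw [injective_iff_map_eq_one]
        rintro ⟨q, hq⟩ hq1
        obtain ⟨x, rfl⟩ := QuotientGroup.mk'_surjective _ q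
        have h1 := h ⟨x, (hpre P' x).2 hq⟩
        rw [show φ' ⟨θ ⟨x, hP ((hpre P' x).2 hq)⟩, hP' ⟨x, (hpre P' x).2 hq⟩⟩ = φ' ⟨θ x, hq⟩ from rfl,
          hq1, eq_comm, hθ1] at h1
        obtain ⟨z, hz, hzx⟩ := hS₀img P' φ hφ _ h1
        refine Subtype.ext ((hθ1 x).2 ?_)
        have e : z = ⟨x, (hpre P' x).2 hq⟩ := F.injective_of_mem hφ hzx
        exact (congrArg Subtype.val e : (z : Ω) = x) ▸ hz
      conj_mem := by
        intro P' g _ _
        obtain ⟨s, rfl⟩ := QuotientGroup.mk'_surjective _ g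
        have hle : preimageAlong θ P' ≤ S := Subgroup.map_subtype_le _
        refine ⟨_, F.conj_mem hle s.2, hle,
          fun x => (F.le_of_mem (F.conj_mem hle s.2)).2 x,
          fun x => (hpre P' _).1 x.2, fun x => ?_⟩
        show θ s * θ ⟨x, hle x.2⟩ * (θ s)⁻¹ = θ _
        rw [← map_inv, ← map_mul, ← map_mul]
        rfl
      comp_mem := by
        rintro P' Q' φ' ψ' ⟨φ, hφ, hP, hφS, hP', h⟩ ⟨ψ, hψ, hQ, hψS, hQ', k⟩ hle
        have hmem : ∀ x, φ x ∈ preimageAlong θ Q' := fun x =>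
          (hpre Q' ⟨φ x, hφS x⟩).2 (h x ▸ hle _)
        refine ⟨_, F.comp_mem hφ hψ hmem, hP, fun x => hψS _, hP', fun x => ?_⟩
        show ψ' (φ'.codRestrict Q' hle _) = θ _
        rw [show φ'.codRestrict Q' hle ⟨θ ⟨x, hP x.2⟩, hP' x⟩ =
          ⟨θ ⟨φ x, hQ (hmem x)⟩, hQ' ⟨φ x, hmem x⟩⟩ from Subtype.ext (h x)]
        exact k ⟨φ x, hmem x⟩
      inv_mem := by
        rintro P' φ' ⟨φ, hφ, hP, hφS, hP', h⟩
        obtain ⟨ψ, hψ, hψφ⟩ := F.inv_mem hφ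
        have hR : preimageAlong θ φ'.range ≤ φ.range := by
          rintro _ ⟨y, ⟨⟨q, hq⟩, hy⟩, rfl⟩
          obtain ⟨x, rfl⟩ := QuotientGroup.mk'_surjective _ q
          have h1 := h ⟨x, (hpre P' x).2 hq⟩
          rw [show φ' ⟨θ ⟨x, hP ((hpre P' x).2 hq)⟩, hP' ⟨x, (hpre P' x).2 hq⟩⟩ = φ' ⟨θ x, hq⟩ from rfl,
            hy] at h1
          have h2 : ((⟨φ ⟨x, (hpre P' x).2 hq⟩, hφS _⟩ : S)⁻¹ * y : S).1 ∈ S₀ := by
            rw [← hθ1, map_mul, map_inv, inv_mul_eq_one]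
            exact h1.symm
          obtain ⟨z, -, hz⟩ := hS₀img P' φ hφ _ h2
          refine ⟨⟨x, (hpre P' x).2 hq⟩ * z, ?_⟩
          rw [map_mul, hz]
          show φ _ * ((φ _)⁻¹ * (y : Ω)) = _
          rw [mul_inv_cancel_left]
          rfl
        have hRS : preimageAlong θ φ'.range ≤ S := Subgroup.map_subtype_le _
        obtain ⟨ψ₀, hψ₀, e₀⟩ := ((Cfsg.Agent.Fus.isMap_toFun hψ).res hR).exists_hom
        have hψ₀S : ∀ y, ψ₀ y ∈ S := fun y => (F.le_of_mem hψ₀).2 y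
        have hinj : Function.Injective φ' := by
          rw [injective_iff_map_eq_one]
          rintro ⟨q, hq⟩ hq1
          obtain ⟨x, rfl⟩ := QuotientGroup.mk'_surjective _ q
          have h1 := h ⟨x, (hpre P' x).2 hq⟩
          rw [show φ' ⟨θ ⟨x, hP ((hpre P' x).2 hq)⟩, hP' ⟨x, (hpre P' x).2 hq⟩⟩ = φ' ⟨θ x, hq⟩ from rfl,
            hq1, eq_comm, hθ1] at h1
          obtain ⟨z, hz, hzx⟩ := hS₀img P' φ hφ _ h1
          refine Subtype.ext ((hθ1 x).2 ?_)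
          exact (congrArg Subtype.val (F.injective_of_mem hφ hzx : z = ⟨x, (hpre P' x).2 hq⟩) : (z : Ω) = x) ▸ hz
        refine ⟨(P'.subtype).comp (MonoidHom.ofInjective hinj).symm.toMonoidHom,
          ⟨ψ₀, hψ₀, hRS, hψ₀S, fun y => (hpre _ _).1 y.2, fun y => ?_⟩, fun x => ?_⟩
        · obtain ⟨x, hx⟩ := hR y.2
          have h1 : φ' ⟨θ ⟨x, hP x.2⟩, hP' x⟩ = θ ⟨y, hRS y.2⟩ :=
            (h x).trans (congrArg θ (Subtype.ext hx))
          show ((MonoidHom.ofInjective hinj).symm _ : P').1 = θ _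
          rw [show (⟨θ ⟨y, hRS y.2⟩, (hpre _ _).1 y.2⟩ : φ'.range) =
            MonoidHom.ofInjective hinj ⟨θ ⟨x, hP x.2⟩, hP' x⟩ from Subtype.ext h1.symm,
            MulEquiv.symm_apply_apply]
          refine congrArg θ (Subtype.ext ?_)
          show (x : Ω) = ψ₀ y
          rw [e₀ y, show (y : Ω) = φ x from hx.symm,
            Cfsg.Agent.Fus.toFun_apply ψ ⟨x, rfl⟩, hψφ]
        · show ((MonoidHom.ofInjective hinj).symm _ : P').1 = _
          rw [show (⟨φ' x, ⟨x, rfl⟩⟩ : φ'.range) = MonoidHom.ofInjective hinj x from rfl,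
            MulEquiv.symm_apply_apply] }
  exact ⟨E, hS₀.1, hθ1, MonoidHom.range_eq_top.2 (QuotientGroup.mk'_surjective _),
    fun P' φ' => ⟨fun h => ⟨le_top, h⟩, fun h => h.2⟩⟩

end Cfsg.Agent.S5132
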