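import Cfsg.Statements.S0672
import Mathlib
-- import your own Cfsg.Agent.* helpers here

set_option autoImplicit false
open Cfsg

namespace Cfsg.Agent.S0672

open scoped Pointwise in
theorem result {G : Type*} [Group G] [Finite G] {K : Type*} [Field K] {p : ℕ} [Fact p.Prime] [CharP K p] {Ω : Type*} [Fintype Ω] [DecidableEq Ω] [MulAction G Ω] [FaithfulSMul G Ω] (h2 : MulAction.IsMultiplyPretransitive G Ω 2) (hp : p ∣ Fintype.card Ω) (heven : ∀ a : Ω, Even (Nat.card (MulAction.stabilizer G a))) (h : ∀ f : Representation.IntertwiningMap (Cfsg.permSumZero K G Ω).toRepresentation (Cfsg.permRep K G (Set.powersetCard Ω 2)), (∀ v : (Cfsg.permSumZero K G Ω).toSubmodule, (v : Ω → K) ∈ (Cfsg.permConstants K G Ω).toSubmodule → f v = 0) → f = 0) : MulAction.IsMultiplyPretransitive G Ω 3 := by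
  classical
  rw [MulAction.is_two_pretransitive_iff] at h2
  -- any two points are swapped by an element fixing a third point
  have swap : ∀ u v : Ω, u ≠ v → ∃ g : G, ∃ e, g • u = v ∧ g • v = u ∧ g • e = e ∧ e ≠ u ∧ e ≠ v := by
    intro u v huv
    obtain ⟨t, a₀, ht', hfix⟩ : ∃ (t : G) (a₀ : Ω), orderOf t = 2 ∧ t • a₀ = a₀ := by
      obtain ⟨t, ht⟩ := exists_prime_orderOf_dvd_card' (G := MulAction.stabilizer G u) 2
        (heven u).two_dvd
      exact ⟨t, u, by rw [Subgroup.orderOf_coe, ht], t.2⟩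
    obtain ⟨b, hb⟩ : ∃ b, t • b ≠ b := by
      by_contra hne
      push Not at hne
      have h1 : t = 1 := eq_of_smul_eq_smul fun x : Ω => by rw [hne, one_smul]
      rw [h1, orderOf_one] at ht'
      omega
    have hsq : t • t • b = b := by
      rw [← mul_smul, ← sq, ← ht', pow_orderOf_eq_one, one_smul]
    obtain ⟨k, hk1, hk2⟩ := h2 (fun h => hb h.symm) huv
    refine ⟨k * t * k⁻¹, k • a₀, ?_, ?_, ?_, ?_, ?_⟩
    · rw [← hk1, mul_smul, mul_smul, inv_smul_smul, hk2]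
    · rw [← hk2, mul_smul, mul_smul, inv_smul_smul, hsq, hk1]
    · rw [mul_smul, mul_smul, inv_smul_smul, hfix]
    · rw [← hk1, Ne, smul_left_cancel_iff]
      rintro rfl
      exact hb hfix
    · rw [← hk2, Ne, smul_left_cancel_iff]
      rintro rfl
      exact hb (hfix.symm.trans hsq)
  -- the stabiliser of two points is transitive on the others
  suffices key : ∀ a b c d : Ω, a ≠ b → c ≠ a → c ≠ b → d ≠ a → d ≠ b →
      ∃ g : G, g • a = a ∧ g • b = b ∧ g • c = d by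
    refine ⟨fun x y => ?_⟩
    have hx : ∀ i j : Fin 3, i ≠ j → x i ≠ x j := fun i j hij h => hij (x.injective h)
    have hy : ∀ i j : Fin 3, i ≠ j → y i ≠ y j := fun i j hij h => hij (y.injective h)
    obtain ⟨g, hg0, hg1⟩ := h2 (hx 0 1 (by decide)) (hy 0 1 (by decide))
    obtain ⟨k, hk0, hk1, hk2⟩ := key (y 0) (y 1) (g • x 2) (y 2) (hy 0 1 (by decide))
      (by rw [← hg0, Ne, smul_left_cancel_iff]; exact hx 2 0 (by decide))
      (by rw [← hg1, Ne, smul_left_cancel_iff]; exact hx 2 1 (by decide))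
      (hy 2 0 (by decide)) (hy 2 1 (by decide))
    refine ⟨k * g, ?_⟩
    ext i
    show (k * g) • x i = y i
    rw [mul_smul]
    fin_cases i
    · exact (congrArg (k • ·) hg0).trans hk0
    · exact (congrArg (k • ·) hg1).trans hk1
    · exact hk2
  intro a b c d hab hca hcb hda hdb
  let S : G → Prop := fun g => (g • a = a ∧ g • b = b) ∨ (g • a = b ∧ g • b = a)
  by_cases hS : ∀ x y : Ω, x ≠ a → x ≠ b → y ≠ a → y ≠ b → ∃ g, S g ∧ g • x = y
  · obtain ⟨g, hg, hgc⟩ := hS c d hca hcb hda hdb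
    rcases hg with ⟨hga, hgb⟩ | ⟨hga, hgb⟩
    · exact ⟨g, hga, hgb, hgc⟩
    obtain ⟨s, e, hsa, hsb, hse, hea, heb⟩ := swap a b hab
    obtain ⟨k, hk, hkc⟩ := hS c e hca hcb hea heb
    refine ⟨g * (k⁻¹ * s * k), ?_, ?_, ?_⟩
    · rw [mul_smul, mul_smul, mul_smul]
      rcases hk with ⟨hka, hkb⟩ | ⟨hka, hkb⟩
      · rw [hka, hsa, show k⁻¹ • b = b from inv_smul_eq_iff.2 hkb.symm, hgb]
      · rw [hka, hsb, show k⁻¹ • a = b from inv_smul_eq_iff.2 hkb.symm, hgb]
    · rw [mul_smul, mul_smul, mul_smul]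
      rcases hk with ⟨hka, hkb⟩ | ⟨hka, hkb⟩
      · rw [hkb, hsb, show k⁻¹ • a = a from inv_smul_eq_iff.2 hka.symm, hga]
      · rw [hkb, hsa, show k⁻¹ • b = a from inv_smul_eq_iff.2 hka.symm, hga]
    · rw [mul_smul, mul_smul, mul_smul, hkc, hse,
        show k⁻¹ • e = c from inv_smul_eq_iff.2 hkc.symm, hgc]
  exfalso
  clear hca hcb hda hdb c d
  push Not at hS
  obtain ⟨c, d, hca, hcb, hda, hdb, hcd⟩ := hS
  have hSone : S 1 := Or.inl ⟨one_smul _ _, one_smul _ _⟩
  have hSmul : ∀ g k, S g → S k → S (g * k) := by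
    rintro g k (⟨h1, h1'⟩ | ⟨h1, h1'⟩) (⟨h2, h2'⟩ | ⟨h2, h2'⟩) <;>
      simp [S, mul_smul, h1, h1', h2, h2']
  have hSinv : ∀ g, S g → S g⁻¹ := by
    rintro g (⟨h1, h1'⟩ | ⟨h1, h1'⟩) <;> simp [S, inv_smul_eq_iff, h1, h1']
  -- indicator functions of the two orbits
  let I : Ω → Ω → K := fun z x => if ∃ g, S g ∧ g • z = x then 1 else 0
  have hI : ∀ z g x, S g → I z (g • x) = I z x := by
    intro z g x hg
    simp only [I]
    refine if_congr ⟨?_, ?_⟩ rfl rfl
    · rintro ⟨k, hk, hkx⟩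
      exact ⟨g⁻¹ * k, hSmul _ _ (hSinv _ hg) hk, by rw [mul_smul, hkx, inv_smul_smul]⟩
    · rintro ⟨k, hk, hkx⟩
      exact ⟨g * k, hSmul _ _ hg hk, by rw [mul_smul, hkx]⟩
  have hIa : ∀ z, z ≠ a → z ≠ b → I z a = 0 := by
    intro z hza hzb
    simp only [I]
    rw [if_neg]
    rintro ⟨g, hg, hgz⟩
    rcases hg with ⟨h1, h1'⟩ | ⟨h1, h1'⟩
    · exact hza (smul_left_cancel g (hgz.trans h1.symm))
    · exact hzb (smul_left_cancel g (hgz.trans h1'.symm))
  have hIcc : ∀ z, I z z = 1 := fun z => if_pos ⟨1, hSone, one_smul _ _⟩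
  have hIcd : I c d = 0 := if_neg fun ⟨g, hg, hgc⟩ => hcd g hg hgc
  have hIdc : I d c = 0 := if_neg fun ⟨g, hg, hgd⟩ =>
    hcd g⁻¹ (hSinv g hg) (by rw [← hgd, inv_smul_smul])
  -- an invariant nonconstant weight with sum zero
  obtain ⟨w, hw, hwsum, x₀, x₁, hwne⟩ : ∃ w : Ω → K, (∀ g x, S g → w (g • x) = w x) ∧ ∑ x, w x = 0 ∧
      ∃ x₀ x₁, w x₀ ≠ w x₁ := by
    by_cases h1 : ∑ x, I c x = 0
    · exact ⟨I c, hI c, h1, c, d, by rw [hIcc, hIcd]; exact one_ne_zero⟩
    by_cases h2' : ∑ x, I d x = 0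
    · exact ⟨I d, hI d, h2', d, c, by rw [hIcc, hIdc]; exact one_ne_zero⟩
    refine ⟨fun x => (∑ y, I d y) * I c x - (∑ y, I c y) * I d x, fun g x hg => ?_, ?_, c, a, ?_⟩
    · simp only [hI _ _ _ hg]
    · rw [Finset.sum_sub_distrib, ← Finset.mul_sum, ← Finset.mul_sum]
      ring
    · simp only [hIcc, hIdc, hIa c hca hcb, hIa d hda hdb]
      simpa using h2'
  have hpair : ∀ P : Set.powersetCard Ω 2, ∃ g : G, g • a ≠ g • b ∧
      ((P : Finset Ω) = {g • a, g • b}) := by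
    intro P
    obtain ⟨u, v, huv, hP⟩ := Finset.card_eq_two.1 P.2
    obtain ⟨g, rfl, rfl⟩ := h2 hab huv
    exact ⟨g, huv, hP⟩
  choose gP hgne hgP using hpair
  have hstab : ∀ g : G, ({g • a, g • b} : Finset Ω) = {a, b} → S g := by
    intro g hg
    have h1 : g • a ∈ ({a, b} : Finset Ω) := hg ▸ by simp
    have h1' : g • b ∈ ({a, b} : Finset Ω) := hg ▸ by simp
    simp only [Finset.mem_insert, Finset.mem_singleton] at h1 h1'
    have hne : g • a ≠ g • b := fun h => hab (smul_left_cancel g h)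
    rcases h1 with h1 | h1 <;> rcases h1' with h1' | h1'
    · exact absurd (h1.trans h1'.symm) hne
    · exact Or.inl ⟨h1, h1'⟩
    · exact Or.inr ⟨h1, h1'⟩
    · exact absurd (h1.trans h1'.symm) hne
  let F : Representation.IntertwiningMap (permSumZero K G Ω).toRepresentation
      (permRep K G (Set.powersetCard Ω 2)) :=
    { toLinearMap :=
        { toFun := fun v P => ∑ x, (v : Ω → K) x * w ((gP P)⁻¹ • x)
          map_add' := fun v v' => by funext P; simp [add_mul, Finset.sum_add_distrib]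
          map_smul' := fun r v => by funext P; simp [mul_assoc, Finset.mul_sum] }
      isIntertwining' := fun k => by
        refine LinearMap.ext fun v => funext fun P => ?_
        show ∑ x, (v : Ω → K) (k⁻¹ • x) * w ((gP P)⁻¹ • x) =
          ∑ x, (v : Ω → K) x * w ((gP (k⁻¹ • P))⁻¹ • x)
        refine Fintype.sum_equiv (MulAction.toPerm k⁻¹) _ _ fun x => ?_
        simp only [MulAction.toPerm_apply]
        congr 1
        have hSk : S ((gP P)⁻¹ * k * gP (k⁻¹ • P)) := by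
          apply hstab
          have h1 : ((k⁻¹ • P : Set.powersetCard Ω 2) : Finset Ω) = k⁻¹ • (P : Finset Ω) :=
            Set.powersetCard.coe_smul
          rw [hgP P, hgP (k⁻¹ • P)] at h1
          have h3 := congrArg (fun s : Finset Ω => (gP P)⁻¹ • k • s) h1
          simp only [smul_inv_smul] at h3
          simpa [Finset.smul_finset_insert, mul_smul] using h3
        rw [show (gP P)⁻¹ • x =
          ((gP P)⁻¹ * k * gP (k⁻¹ • P)) • ((gP (k⁻¹ • P))⁻¹ • k⁻¹ • x) by simp [mul_smul],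
          hw _ _ hSk] }
  have hF := h F (fun v hv => by
    obtain ⟨r, hr⟩ := Submodule.mem_span_singleton.1 hv
    refine funext fun P => ?_
    show ∑ x, (v : Ω → K) x * w ((gP P)⁻¹ • x) = 0
    rw [← hr]
    simp only [Pi.smul_apply, smul_eq_mul, mul_one, ← Finset.mul_sum]
    rw [Fintype.sum_equiv (MulAction.toPerm (gP P)⁻¹) (fun x => w ((gP P)⁻¹ • x)) w (fun x => rfl),
      hwsum, mul_zero])
  let P₀ : Set.powersetCard Ω 2 := ⟨{a, b}, Finset.card_pair hab⟩
  apply hwne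
  have hv : (Pi.single (gP P₀ • x₀) (1 : K) - Pi.single (gP P₀ • x₁) 1) ∈
      (permSumZero K G Ω).toSubmodule := by
    show ∑ x, (_ : K) = 0
    simp [Finset.sum_sub_distrib]
  have h3 : ∑ x, ((Pi.single (gP P₀ • x₀) (1 : K) - Pi.single (gP P₀ • x₁) 1 : Ω → K)) x *
      w ((gP P₀)⁻¹ • x) = 0 := by
    have h4 := congrFun (DFunLike.congr_fun hF ⟨_, hv⟩) P₀
    exact h4
  rw [← sub_eq_zero, ← h3]
  simp [sub_mul, Finset.sum_sub_distrib, Pi.single_apply, ite_mul]

end Cfsg.Agent.S0672
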