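import Cfsg.Statements.S0676
import Mathlib
import Cfsg.Agent.S0672
import Cfsg.Agent.S0675
import Cfsg.Agent.Lib.Block.PrimeDegreeModule
-- import your own Cfsg.Agent.* helpers here

set_option autoImplicit false
open Cfsg

namespace Cfsg.Agent.S0676

open scoped Pointwise in
theorem result {α : Type*} [Fintype α] [DecidableEq α] {p : ℕ} [Fact p.Prime] (hα : Fintype.card α = p) (G : Subgroup (Equiv.Perm α)) [MulAction.IsPretransitive G α] (hG : ¬ Group.IsSolvable G) (P : Sylow p G) (heven : Even (Nat.card (Subgroup.normalizer ((P : Subgroup G) : Set G)))) : MulAction.IsMultiplyPretransitive G α 3 := by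
  classical
  have hp : p.Prime := Fact.out
  have hp3 : 3 < p := by
    by_contra h
    exact hG (Cfsg.Agent.Block.isSolvable_of_card_le_three hα (by omega) G)
  have h2 : MulAction.IsMultiplyPretransitive G α 2 :=
    (Cfsg.Agent.S0675.result (hα ▸ hp) G).resolve_left hG
  -- an involution normalising the Sylow subgroup
  obtain ⟨t, ht⟩ := exists_prime_orderOf_dvd_card'
    (G := Subgroup.normalizer ((P : Subgroup G) : Set G)) 2 heven.two_dvd
  have ht' : orderOf (t : G) = 2 := by rw [Subgroup.orderOf_coe, ht]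
  have htt : (t : G) * t = 1 := by rw [← sq, ← ht', pow_orderOf_eq_one]
  obtain ⟨a, ha⟩ := Equiv.Perm.exists_fixed_point_of_prime (p := 2) (n := 1)
    (σ := ((t : G) : Equiv.Perm α))
    (by
      rw [hα]
      intro h
      exact absurd ((Nat.prime_dvd_prime_iff_eq Nat.prime_two hp).1 h) (by omega))
    (by rw [pow_one, sq, ← Subgroup.coe_mul, htt, Subgroup.coe_one])
  obtain ⟨σ, hσP, hgen, -, e, he0, hσ⟩ := Cfsg.Agent.Block.exists_zmod_equiv hα G P a
  have hσn : ∀ (n : ℕ) j, ((σ ^ n : G) : Equiv.Perm α) (e j) = e (j + n) := by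
    intro n
    induction n with
    | zero => simp
    | succ n ih =>
      intro j
      rw [pow_succ', Subgroup.coe_mul, Equiv.Perm.mul_apply, ih, hσ, Nat.cast_succ, add_assoc]
  obtain ⟨m, hm⟩ := hgen _ ((Subgroup.mem_normalizer_iff.1 t.2 σ).1 hσP)
  have htm : ∀ j, ((t : G) : Equiv.Perm α) (e j) = e ((m : ZMod p) * j) := by
    intro j
    rw [← ZMod.natCast_zmod_val j]
    induction j.val with
    | zero => simp [he0, ha]
    | succ n ih =>
      have h1 := DFunLike.congr_fun (congrArg Subtype.val hm) (((t : G) : Equiv.Perm α) (e n))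
      simp only [Subgroup.coe_mul, Subgroup.coe_inv, Equiv.Perm.mul_apply, Equiv.Perm.coe_inv, Equiv.symm_apply_apply, hσ] at h1
      rw [Nat.cast_succ, h1, ih, hσn]
      ring_nf
  have hm1 : (m : ZMod p) * m = 1 := by
    have h1 : ((t : G) : Equiv.Perm α) (((t : G) : Equiv.Perm α) (e 1)) = e 1 := by
      rw [← Equiv.Perm.mul_apply, ← Subgroup.coe_mul, htt]
      rfl
    rw [htm, htm, mul_one] at h1
    exact e.injective h1
  have hmneg : (m : ZMod p) = -1 := by
    refine (mul_self_eq_one_iff.1 hm1).resolve_left fun h1 => ?_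
    have h3 : (t : G) = 1 := by
      apply Subtype.ext
      refine Equiv.ext fun x => ?_
      rw [← e.apply_symm_apply x, htm, h1, one_mul]
      rfl
    rw [h3, orderOf_one] at ht'
    omega
  have hneg : ∀ j, ((t : G) : Equiv.Perm α) (e j) = e (-j) := fun j => by rw [htm, hmneg, neg_one_mul]
  -- point stabilisers have even order
  have hev : ∀ b : α, Even (Nat.card (MulAction.stabilizer G b)) := by
    intro b
    obtain ⟨g, hg⟩ := MulAction.exists_smul_eq G a b
    rw [even_iff_two_dvd, ← ht']
    have h1 : g * t * g⁻¹ ∈ MulAction.stabilizer G b := by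
      rw [MulAction.mem_stabilizer_iff, ← hg, mul_smul, mul_smul, inv_smul_smul,
        show (t : G) • a = a from ha]
    have h2' : orderOf (⟨_, h1⟩ : MulAction.stabilizer G b) = orderOf (t : G) := by
      rw [← Subgroup.orderOf_coe]
      exact ((SemiconjBy.conj_mk g (t : G)).orderOf_eq g).symm
    rw [← h2']
    exact orderOf_dvd_natCard _
  refine Cfsg.Agent.S0672.result (K := ZMod p) (p := p) h2 (by rw [hα]) hev fun f hf => ?_
  let T : Subrepresentation (permRep (ZMod p) G α) :=
    { toSubmodule := (LinearMap.ker f.toLinearMap).map (permSumZero (ZMod p) G α).toSubmodule.subtype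
      apply_mem_toSubmodule := by
        intro g v hv
        obtain ⟨w, hw, rfl⟩ := Submodule.mem_map.1 hv
        refine Submodule.mem_map.2 ⟨(permSumZero (ZMod p) G α).toRepresentation g w, ?_, rfl⟩
        rw [LinearMap.mem_ker] at hw ⊢
        have h1 := LinearMap.congr_fun (f.isIntertwining' g) w
        simp only [LinearMap.coe_comp, Function.comp_apply] at h1
        rw [h1, hw, map_zero] }
  have hCS : (permConstants (ZMod p) G α).toSubmodule ≤ (permSumZero (ZMod p) G α).toSubmodule := by
    refine (Submodule.span_singleton_le_iff_mem _ _).2 ?_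
    show ∑ _x : α, (1 : ZMod p) = 0
    simp [hα]
  rcases Cfsg.Agent.Block.heart_irreducible hα G hG T
    (fun v hv => Submodule.mem_map.2 ⟨⟨v, hCS hv⟩, hf _ hv, rfl⟩)
    (Submodule.map_subtype_le _ _) with hT | hT
  swap
  · refine DFunLike.ext _ _ fun v => ?_
    have h1 : (v : α → ZMod p) ∈ T.toSubmodule := by rw [hT]; exact v.2
    obtain ⟨w, hw, hwv⟩ := Submodule.mem_map.1 h1
    rw [← (Subtype.ext hwv : w = v)]
    exact hw
  exfalso
  -- the coordinate function is killed
  let x₀ : (permSumZero (ZMod p) G α).toSubmodule := ⟨fun x => e.symm x, by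
    show ∑ x, e.symm x = 0
    rw [e.symm.sum_comp (fun j => j)]
    simpa using FiniteField.sum_pow_lt_card_sub_one (ZMod p) 1 (by rw [ZMod.card]; omega)⟩
  have hx : f x₀ = 0 := by
    have hinv : ∀ (g : G) (w : (permSumZero (ZMod p) G α).toSubmodule)
        (Q : Set.powersetCard α 2),
        f ((permSumZero (ZMod p) G α).toRepresentation g w) Q = f w (g⁻¹ • Q) := by
      intro g w Q
      have h1 := LinearMap.congr_fun (f.isIntertwining' g) w
      exact congrFun h1 Q
    have hs : ∀ (n : ℕ) (Q : Set.powersetCard α 2), f x₀ ((σ ^ n) • Q) = f x₀ Q := by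
      intro n Q
      have hv : f ((permSumZero (ZMod p) G α).toRepresentation (σ ^ n)⁻¹ x₀ - x₀) = 0 := by
        refine hf _ (Submodule.mem_span_singleton.2 ⟨(n : ZMod p), funext fun x => ?_⟩)
        show _ = e.symm (((σ ^ n)⁻¹⁻¹ : G) • x) - e.symm x
        rw [inv_inv, Subgroup.smul_def, Equiv.Perm.smul_def]
        conv_rhs => rw [← e.apply_symm_apply x, hσn, e.symm_apply_apply, e.symm_apply_apply]
        simp
      rw [map_sub, sub_eq_zero] at hv
      have h1 := hinv (σ ^ n)⁻¹ x₀ Q
      rw [hv, inv_inv] at h1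
      exact h1.symm
    refine funext fun Q => ?_
    have h1 : (permSumZero (ZMod p) G α).toRepresentation (t : G) x₀ = -x₀ := by
      refine Subtype.ext (funext fun x => ?_)
      show e.symm (((t : G)⁻¹) • x) = -(e.symm x)
      rw [inv_eq_of_mul_eq_one_left htt, Subgroup.smul_def, Equiv.Perm.smul_def]
      conv_lhs => rw [← e.apply_symm_apply x, hneg, e.symm_apply_apply]
    have h3 := hinv t x₀ Q
    rw [h1, map_neg, inv_eq_of_mul_eq_one_left htt] at h3
    obtain ⟨u, v, huv, hQ⟩ := Finset.card_eq_two.1 Q.2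
    let n := (-(e.symm u + e.symm v)).val
    have h4 : (t : G) • Q = (σ ^ n) • Q := by
      apply Subtype.ext
      show (t : G) • (Q : Finset α) = (σ ^ n) • (Q : Finset α)
      rw [hQ]
      simp only [Finset.smul_finset_insert, Finset.smul_finset_singleton, Subgroup.smul_def,
        Equiv.Perm.smul_def]
      have e1 : ∀ y, ((t : G) : Equiv.Perm α) y = e (-(e.symm y)) := fun y => by
        conv_lhs => rw [← e.apply_symm_apply y, hneg]
      have e2 : ∀ y, ((σ ^ n : G) : Equiv.Perm α) y = e (e.symm y - (e.symm u + e.symm v)) := fun y => by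
        conv_lhs => rw [← e.apply_symm_apply y, hσn, ZMod.natCast_zmod_val, ← sub_eq_add_neg]
      rw [e1, e1, e2, e2, Finset.pair_comm]
      congr 2 <;> ring_nf
    rw [h4, hs] at h3
    have h5 : (2 : ZMod p) * f x₀ Q = 0 := by
      rw [two_mul]
      nth_rewrite 1 [← h3]
      exact neg_add_cancel _
    refine (mul_eq_zero.1 h5).resolve_left fun h => ?_
    rw [show (2 : ZMod p) = ((2 : ℕ) : ZMod p) by norm_num, CharP.cast_eq_zero_iff (ZMod p) p] at h
    exact absurd (Nat.le_of_dvd two_pos h) (by omega)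
  have h6 : (x₀ : α → ZMod p) ∈ T.toSubmodule := Submodule.mem_map.2 ⟨x₀, hx, rfl⟩
  rw [hT] at h6
  obtain ⟨c, hc⟩ := Submodule.mem_span_singleton.1 h6
  have h7 := congrFun hc (e 0)
  have h8 := congrFun hc (e 1)
  simp only [x₀, Equiv.symm_apply_apply, Pi.smul_apply, smul_eq_mul, mul_one] at h7 h8
  exact zero_ne_one (h7.symm.trans h8)

end Cfsg.Agent.S0676
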