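import Cfsg.Statements.S3861
import Cfsg.Agent.Lib.Grp.Real
-- import your own Cfsg.Agent.* helpers here

set_option autoImplicit false
open Cfsg

namespace Cfsg.Agent.S3861

/-- A finite group G has no non-identity element of odd order that is conjugate to its inverse if and only if the Sylow 2-subgroups of G are normal. -/
theorem result {G : Type*} [Group G] [Finite G] (P : Sylow 2 G) : (∀ x : G, x ≠ 1 → Odd (orderOf x) → ¬ IsConj x x⁻¹) ↔ (P : Subgroup G).Normal := by
  constructor
  · exact fun h => Cfsg.Agent.Grp.two_sylow_normal_of_no_real h P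
  · intro hP x hx hodd hc
    obtain ⟨g, hg⟩ := isConj_iff.mp hc
    obtain ⟨k, m, hm, hkm⟩ := Nat.exists_eq_two_pow_mul_odd (orderOf_pos g).ne'
    have hpow : ∀ j : ℕ, g ^ (2 * j + 1) * x * (g ^ (2 * j + 1))⁻¹ = x⁻¹ := by
      intro j
      induction j with
      | zero => simpa using hg
      | succ j ih =>
        have e : g ^ (2 * (j + 1) + 1) = g * g * g ^ (2 * j + 1) := by
          rw [show 2 * (j + 1) + 1 = (1 + 1) + (2 * j + 1) by ring, pow_add, pow_add, pow_one]
        rw [e, show g * g * g ^ (2 * j + 1) * x * (g * g * g ^ (2 * j + 1))⁻¹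
          = g * g * (g ^ (2 * j + 1) * x * (g ^ (2 * j + 1))⁻¹) * (g * g)⁻¹ by group, ih,
          show g * g * x⁻¹ * (g * g)⁻¹ = (g * g * x * (g * g)⁻¹)⁻¹ by simp [mul_assoc],
          Cfsg.Agent.Grp.conj_sq_of_inv hg]
    obtain ⟨j, rfl⟩ := hm
    set t := g ^ (2 * j + 1) with ht
    have htP : t ∈ (P : Subgroup G) := by
      have h2 : IsPGroup 2 (Subgroup.zpowers t) := by
        obtain ⟨i, -, hi⟩ := (Nat.dvd_prime_pow Nat.prime_two).mp
          (orderOf_dvd_of_pow_eq_one (x := t) (n := 2 ^ k) (by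
            rw [ht, ← pow_mul, mul_comm, ← hkm, pow_orderOf_eq_one]))
        exact IsPGroup.of_card (n := i) (by rw [Nat.card_zpowers, hi])
      obtain ⟨Q, hQ⟩ := h2.exists_le_sylow
      have := Sylow.unique_of_normal P hP
      rw [Subsingleton.elim P Q]
      exact hQ (Subgroup.mem_zpowers t)
    have hxx : x * x ∈ (P : Subgroup G) := by
      have e : x * x = (x⁻¹ * x⁻¹)⁻¹ := by simp
      have h1 : t * (x * t⁻¹ * x⁻¹) ∈ (P : Subgroup G) :=
        Subgroup.mul_mem _ htP (hP.conj_mem _ (Subgroup.inv_mem _ htP) x)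
      rw [show t * (x * t⁻¹ * x⁻¹) = (t * x * t⁻¹) * x⁻¹ by group, hpow j] at h1
      rw [e]
      exact Subgroup.inv_mem _ h1
    obtain ⟨i, hi⟩ := P.isPGroup' ⟨x * x, hxx⟩
    have h1 : x ^ (2 ^ (i + 1)) = 1 := by
      have := congrArg Subtype.val hi
      simp only [SubgroupClass.coe_pow, OneMemClass.coe_one] at this
      rw [pow_succ', pow_mul, sq, this]
    have h2 : orderOf x ∣ 1 := by
      have hco : Nat.Coprime (2 ^ (i + 1)) (orderOf x) :=
        Nat.Coprime.pow_left _ (Nat.coprime_two_left.mpr hodd)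
      exact hco ▸ Nat.dvd_gcd (orderOf_dvd_of_pow_eq_one h1) dvd_rfl
    exact hx (orderOf_eq_one_iff.mp (Nat.dvd_one.mp h2))

end Cfsg.Agent.S3861
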