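import Cfsg.Statements.S0179
import Cfsg.Agent.Lib.Char.Kernel

set_option autoImplicit false
open Cfsg

namespace Cfsg.Agent.S0179

open Cfsg.Agent.Char

/-- The degree of an irreducible complex representation of a finite group divides the index of the centre. -/
theorem result {G : Type*} [Group G] [Finite G] {V : Type*} [AddCommGroup V] [Module ℂ V] [FiniteDimensional ℂ V] (ρ : Representation ℂ G V) [ρ.IsIrreducible] : Module.finrank ℂ V ∣ (Subgroup.center G).index := by
  classical
  haveI := Fintype.ofFinite G
  have hχ := isIrrCharacter_character ρ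
  set χ := ρ.character
  have hsc : ∀ z : (Subgroup.center G), ∃ c : ℂ, ‖c‖ = 1 ∧ ∀ g, χ (z * g) = c * χ g := fun z => IsIrr.scalar_of_center hχ z.2
  choose c _ hc using hsc
  have hcmul : ∀ a b : (Subgroup.center G), c (a * b) = c a * c b := fun a b => by
    refine mul_right_cancel₀ (IsIrr.one_ne_zero hχ) ?_
    rw [← hc, Subgroup.coe_mul, mul_assoc, hc, hc, mul_assoc]
  have hc1 : c 1 = 1 := by
    refine mul_right_cancel₀ (IsIrr.one_ne_zero hχ) ?_
    rw [← hc, Subgroup.coe_one, one_mul, one_mul]
  letI : CommGroup (Subgroup.center G) :=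
    { (inferInstance : Group (Subgroup.center G)) with
      mul_comm := fun a b => Subtype.ext (Subgroup.mem_center_iff.mp b.2 a) }
  let cHom : (Subgroup.center G) →* ℂ := ⟨⟨c, hc1⟩, hcmul⟩
  -- tensor powers of the character are irreducible and trivial on a large central subgroup
  have key : ∀ m : ℕ, Module.finrank ℂ V ^ m * Nat.card (Subgroup.center G) ^ m ∣ Nat.card G ^ m * Nat.card (Subgroup.center G) := by
    intro m
    let D : Subgroup (Fin m → (Subgroup.center G)) := MonoidHom.ker ({ toFun := fun z => ∏ i, z i, map_one' := by simp, map_mul' := fun a b => by simp [Finset.prod_mul_distrib] } : (Fin m → (Subgroup.center G)) →* (Subgroup.center G))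
    let ι : (Fin m → (Subgroup.center G)) →* (Fin m → G) := Pi.monoidHom fun i => (Subgroup.center G).subtype.comp (Pi.evalMonoidHom _ i)
    have hι : Function.Injective ι := fun a b h => funext fun i => Subtype.ext (congrFun h i)
    haveI hN : (D.map ι).Normal := by
      constructor
      rintro _ ⟨z, hz, rfl⟩ g
      refine ⟨z, hz, funext fun i => ?_⟩
      show (z i : G) = g i * (z i : G) * (g i)⁻¹
      rw [Subgroup.mem_center_iff.mp (z i).2 (g i), mul_inv_cancel_right]
    have hΧ : IsIrrCharacter (Fin m → G) (fun x => ∏ i, χ (x i)) := by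
      refine IsChar.irr_of_norm_one ?_ ?_
      · have hs : ∀ s : Finset (Fin m), IsCharacter (Fin m → G) (fun x => ∏ i ∈ s, χ (x i)) := by
          intro s
          induction s using Finset.induction with
          | empty => simpa using (IsChar.one (G := Fin m → G))
          | insert a s ha ih =>
            have e : (fun x : Fin m → G => ∏ i ∈ insert a s, χ (x i)) =
                (fun x : Fin m → G => χ (x a)) * fun x => ∏ i ∈ s, χ (x i) :=
              funext fun x => Finset.prod_insert ha
            exact e ▸ IsChar.mul (IsChar.comp (Pi.evalMonoidHom (fun _ : Fin m => G) a) (IsIrr.isCharacter hχ)) ih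
        exact hs Finset.univ
      · have h1 := classInner_self_irr hχ
        simp only [classInner] at h1 ⊢
        simp only [map_prod, ← Finset.prod_mul_distrib]
        rw [← Fintype.prod_sum (fun (_ : Fin m) (g : G) => χ g * (starRingEnd ℂ) (χ g)), Finset.prod_const, Nat.card_pi, Finset.prod_const, Nat.cast_pow,
          ← inv_pow, ← mul_pow, h1, one_pow]
    have hker : ∀ k ∈ D.map ι, (∏ i, χ (k i)) = ∏ i, χ ((1 : Fin m → G) i) := by
      rintro _ ⟨z, hz, rfl⟩
      have e : ∀ i, χ (z i : G) = c (z i) * χ 1 := fun i => by rw [← hc, mul_one]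
      show ∏ i, χ (z i : G) = _
      simp only [e, Finset.prod_mul_distrib, Pi.one_apply]
      rw [show ∏ i, c (z i) = c (∏ i, z i) from (map_prod cHom _ _).symm,
        show ∏ i, z i = 1 from MonoidHom.mem_ker.mp hz, hc1, one_mul]
    obtain ⟨ψ, hψ, hψχ⟩ := IsIrr.exists_factor_quotient hΧ (D.map ι) hker
    have hdeg : ψ 1 = ((Module.finrank ℂ V ^ m : ℕ) : ℂ) := by
      rw [← QuotientGroup.mk_one, hψχ]
      simp [χ]
    have hdvd := IsIrr.degree_dvd_card hψ hdeg
    rw [← Subgroup.index_eq_card] at hdvd
    have hD : Nat.card (D.map ι) * Nat.card (Subgroup.center G) = Nat.card (Subgroup.center G) ^ m ∨ m = 0 := by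
      rcases Nat.eq_zero_or_pos m with hm | hm
      · exact .inr hm
      refine .inl ?_
      rw [Subgroup.card_map_of_injective hι]
      have hs : Function.Surjective ({ toFun := fun z => ∏ i, z i, map_one' := by simp, map_mul' := fun a b => by simp [Finset.prod_mul_distrib] } : (Fin m → (Subgroup.center G)) →* (Subgroup.center G)) := by
        intro w
        exact ⟨Pi.mulSingle ⟨0, hm⟩ w, by simp [Pi.mulSingle_apply]⟩
      have := D.index_mul_card
      rw [Subgroup.index_ker, MonoidHom.range_eq_top.mpr hs, Subgroup.card_top, Nat.card_pi,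
        Finset.prod_const, Finset.card_univ, Fintype.card_fin, mul_comm] at this
      exact this
    rcases hD with hD | rfl
    · have h2 := (D.map ι).index_mul_card
      rw [Nat.card_pi, Finset.prod_const, Finset.card_univ, Fintype.card_fin] at h2
      rw [← hD, ← h2, mul_assoc]
      exact Nat.mul_dvd_mul_right hdvd _
    · simp
  obtain ⟨I, hI⟩ : ∃ I, (Subgroup.center G).index = I := ⟨_, rfl⟩
  have hcard := (Subgroup.center G).index_mul_card
  rw [hI] at hcard ⊢
  have hdvd : ∀ m, Module.finrank ℂ V ^ m ∣ I ^ m * Nat.card (Subgroup.center G) := fun m => by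
    have h := key m
    rw [← hcard, mul_pow, mul_right_comm] at h
    exact Nat.dvd_of_mul_dvd_mul_right (pow_pos Nat.card_pos m) h
  have hn0 := (finrank_pos_of_irreducible ρ).ne'
  have hI0 : I ≠ 0 := hI ▸ Subgroup.index_ne_zero_of_finite
  refine (Nat.factorization_le_iff_dvd hn0 hI0).mp fun q => ?_
  by_contra hlt
  have h := (Nat.factorization_le_iff_dvd (pow_ne_zero _ hn0)
    (mul_ne_zero (pow_ne_zero _ hI0) Nat.card_pos.ne')).mpr (hdvd ((Nat.card (Subgroup.center G)).factorization q + 1)) q
  rw [Nat.factorization_mul (pow_ne_zero _ hI0) Nat.card_pos.ne', Nat.factorization_pow,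
    Nat.factorization_pow, Finsupp.add_apply, Finsupp.smul_apply, Finsupp.smul_apply, smul_eq_mul, smul_eq_mul] at h
  nlinarith

end Cfsg.Agent.S0179
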