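import Cfsg.Prelude
import Cfsg.Agent.Lib.Invol.SixtyFourThree
import Cfsg.Agent.Lib.Invol.RotHomocyclic
import Cfsg.Agent.Lib.Recog.SU3Sylow
-- import your own Cfsg.Agent.* helpers here

set_option autoImplicit false
open Cfsg

open scoped Pointwise commutatorElement

namespace Cfsg.Agent.S1237

/-- Let T be a finite 2-group of 2-rank exactly 2 (it has a Klein four-subgroup but no elementary abelian subgroup of order 8) admitting an automorphism φ such that any two involutions of T are carried to one another by a power of φ. Then T ≅ Z_{2^n} × Z_{2^n} for some n ≥ 1, or T is isomorphic to a Sylow 2-subgroup of PSU(3) over the field with 16 elements. -/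
theorem result {T : Type*} [Group T] [Finite T] (hT : IsPGroup 2 T) (h2 : Cfsg.PRankLE 2 2 T) (h1 : ¬ Cfsg.PRankLE 2 1 T) (φ : MulAut T) (htrans : ∀ s t : T, orderOf s = 2 → orderOf t = 2 → ∃ k : ℕ, (φ ^ k) s = t) {F : Type*} [Field F] [Fintype F] (hF : Fintype.card F = 16) (P : Sylow 2 (Cfsg.PSU 3 F 4)) : (∃ n : ℕ, 1 ≤ n ∧ Nonempty (T ≃* Multiplicative (ZMod (2 ^ n) × ZMod (2 ^ n)))) ∨ Nonempty (T ≃* (P : Subgroup (Cfsg.PSU 3 F 4))) := by
  classical
  haveI : Fact (Nat.Prime 2) := ⟨Nat.prime_two⟩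
  haveI : Fact (Nat.Prime 3) := ⟨Nat.prime_three⟩
  -- an elementary four-group
  obtain ⟨E, hEc, hE2, hEcard⟩ : ∃ E : Subgroup T, IsMulCommutative E ∧ (∀ a ∈ E, a ^ 2 = 1) ∧ 2 < Nat.card E := by
    by_contra hno
    apply h1
    intro E hEc hE2
    by_contra hlt
    exact hno ⟨E, hEc, hE2, by rw [pow_one] at hlt; omega⟩
  have hinv2 : ∀ w : T, w * w = 1 → w ≠ 1 → orderOf w = 2 := fun w hw hw1 =>
    orderOf_eq_prime (by rw [pow_two]; exact hw) hw1
  haveI : Nontrivial E := Finite.one_lt_card_iff_nontrivial.mp (by omega)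
  obtain ⟨a, ha⟩ := exists_ne (1 : E)
  have ha2 : orderOf (a : T) = 2 := hinv2 _ (by rw [← pow_two]; exact hE2 _ a.2) (fun e => ha (Subtype.ext e))
  -- all involutions are central
  have hcen : ∀ w : T, orderOf w = 2 → w ∈ Subgroup.center T := by
    haveI : Nontrivial T := ⟨⟨a, 1, fun e => ha (Subtype.ext e)⟩⟩
    haveI : Nontrivial (Subgroup.center T) := hT.center_nontrivial
    obtain ⟨c₀, hc₀⟩ := exists_prime_orderOf_dvd_card' (G := Subgroup.center T) 2 (by
      obtain ⟨j, hj⟩ := IsPGroup.iff_card.mp (hT.to_subgroup (Subgroup.center T))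
      rw [hj]
      exact dvd_pow_self 2 (fun e => by
        have := Finite.one_lt_card (α := Subgroup.center T); rw [hj, e, pow_zero] at this; omega))
    intro w hw
    obtain ⟨j, hj⟩ := htrans (c₀ : T) w (by rw [Subgroup.orderOf_coe, hc₀]) hw
    rw [← hj]
    refine Subgroup.mem_center_iff.mpr fun g => ?_
    obtain ⟨g, rfl⟩ := (φ ^ j).surjective g
    rw [← map_mul, ← map_mul, Subgroup.mem_center_iff.mp c₀.2 g]
  have hsqc : ∀ w : T, w * w = 1 → w ∈ Subgroup.center T := fun w hw => by
    by_cases hw1 : w = 1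
    · rw [hw1]; exact one_mem _
    · exact hcen w (hinv2 w hw hw1)
  let D : Subgroup T :=
    { carrier := {w | w * w = 1}
      one_mem' := mul_one 1
      mul_mem' := fun {p q} hp hq => by
        show p * q * (p * q) = 1
        rw [show p * q * (p * q) = p * (q * p) * q by group, Subgroup.mem_center_iff.mp (hsqc p hp) q,
          show p * (p * q) * q = p * p * (q * q) by group, hp, hq, mul_one]
      inv_mem' := fun {p} hp => by
        show p⁻¹ * p⁻¹ = 1
        rw [← mul_inv_rev, hp, inv_one] }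
  have hD : ∀ w, w ∈ D ↔ w * w = 1 := fun w => Iff.rfl
  have h4 : Nat.card D = 4 := by
    have hle : Nat.card D ≤ 4 := h2 D ⟨⟨fun p q => Subtype.ext
      (Subgroup.mem_center_iff.mp (hsqc _ q.2) (p : T))⟩⟩ (fun w hw => by rw [pow_two]; exact hw)
    have hge : 2 < Nat.card D := lt_of_lt_of_le hEcard
      (Subgroup.card_le_of_le fun w hw => show w * w = 1 by rw [← pow_two]; exact hE2 w hw)
    obtain ⟨j, hj⟩ := IsPGroup.iff_card.mp (hT.to_subgroup D)
    rcases j with _ | _ | _ | j
    · omega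
    · omega
    · exact hj
    · have := Nat.pow_le_pow_right two_pos (show 3 ≤ j + 3 by omega); omega
  -- a power of `φ` of 3-power order moving the involutions
  set k := (orderOf φ).factorization 3 with hk
  set m := orderOf φ / 3 ^ k with hm
  set ψ := φ ^ m with hψdef
  have hn0 : orderOf φ ≠ 0 := (orderOf_pos φ).ne'
  have hψ : orderOf ψ = 3 ^ k := by
    rw [hψdef, orderOf_pow_of_dvd (Nat.div_pos (Nat.le_of_dvd (orderOf_pos φ) (Nat.ordProj_dvd _ 3)) (by positivity)).ne'
      (Nat.ordCompl_dvd _ 3), Nat.div_div_self (Nat.ordProj_dvd _ 3) hn0]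
  have hmD : ∀ (f : MulAut T), ∀ w ∈ D, f w ∈ D := fun f w hw => by
    show f w * f w = 1; rw [← map_mul, show w * w = 1 from hw, map_one]
  obtain ⟨v, hv, hvm⟩ : ∃ v ∈ D, ψ v ≠ v := by
    by_contra hno
    push Not at hno
    -- the permutation induced by `φ` on the three involutions
    let S := {w : T // orderOf w = 2}
    let p : Equiv.Perm S := φ.toEquiv.subtypeEquiv fun w => by
      show orderOf w = 2 ↔ orderOf (φ w) = 2
      rw [MulEquiv.orderOf_eq]
    have hpow : ∀ (i : ℕ) (w : S), ((p ^ i) w : T) = (φ ^ i) (w : T) := by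
      intro i
      induction i with
      | zero => simp
      | succ i ih => intro w; rw [pow_succ', pow_succ', Equiv.Perm.mul_apply, MulAut.mul_apply, ← ih]; rfl
    have hS3 : Nat.card S = 3 := by
      haveI := Fintype.ofFinite T
      have e : (Finset.univ.filter fun w : T => w * w = 1) =
          insert 1 (Finset.univ.filter fun w : T => orderOf w = 2) := by
        ext w
        simp only [Finset.mem_filter, Finset.mem_univ, true_and, Finset.mem_insert]
        constructor
        · intro hw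
          by_cases h' : w = 1
          · exact Or.inl h'
          · exact Or.inr (hinv2 w hw h')
        · rintro (rfl | hw)
          · exact one_mul 1
          · rw [← pow_two, ← hw, pow_orderOf_eq_one]
      have hc4 : (Finset.univ.filter fun w : T => w * w = 1).card = 4 := by
        rw [← h4, Nat.card_eq_fintype_card, ← Fintype.card_subtype]
        exact Fintype.card_congr (Equiv.subtypeEquivRight fun w => (hD w).symm)
      rw [e, Finset.card_insert_of_notMem (by simp)] at hc4
      rw [Nat.card_eq_fintype_card, Fintype.card_subtype]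
      omega
    set s : S := ⟨(a : T), ha2⟩
    have h3 : 3 ∣ orderOf p := by
      have hcyc : ∀ w : S, ∃ i : ℕ, (p ^ i) s = w := fun w => by
        obtain ⟨i, hi⟩ := htrans (s : T) w s.2 w.2
        exact ⟨i, Subtype.ext (by rw [hpow]; exact hi)⟩
      have htr : MulAction.orbit (Subgroup.zpowers p) s = Set.univ := Set.eq_univ_of_forall fun w => by
        obtain ⟨i, hi⟩ := hcyc w
        exact ⟨⟨p ^ i, Subgroup.npow_mem_zpowers p i⟩, hi⟩
      have h' := Nat.card_congr (MulAction.orbitEquivQuotientStabilizer (Subgroup.zpowers p) s)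
      rw [Nat.card_coe_set_eq, htr, Set.ncard_univ, hS3, ← Subgroup.index_eq_card] at h'
      rw [← Nat.card_zpowers, h']
      exact Subgroup.index_dvd_card _
    have hpm : p ^ m = 1 := Equiv.ext fun w => Subtype.ext (by
      rw [hpow]; exact hno _ (show (w : T) * w = 1 by
        have h := pow_orderOf_eq_one (w : T); rw [w.2, pow_two] at h; exact h))
    exact Nat.not_dvd_ordCompl Nat.prime_three hn0 (h3.trans (orderOf_dvd_of_pow_eq_one hpm))
  have hodd : Odd (orderOf ψ) := by rw [hψ]; exact Odd.pow (by decide)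
  obtain ⟨hrot, -⟩ := Cfsg.Agent.Invol.NoSCN.rot_of_moved hodd h4.le (hmD ψ)
    (fun w hw => hw) hv hvm
  by_cases hab : IsMulCommutative T
  · refine Or.inl ?_
    haveI := hab
    obtain ⟨n, hn, ⟨e⟩⟩ := Cfsg.Agent.Invol.RotHomocyclic.homocyclic hT (fun p q => mul_comm' p q) hD hrot h4
    exact ⟨n, hn, ⟨e.trans (MulEquiv.prodMultiplicative _ _).symm⟩⟩
  · refine Or.inr ?_
    haveI : Fact (Fintype.card F = 4 ^ 2) := ⟨by rw [hF]; norm_num⟩
    haveI : CharP F 2 := Cfsg.Agent.Recog.SU3Two.charP_two (m := 4) (by rw [hF]; norm_num)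
    obtain ⟨P₁⟩ := Cfsg.Agent.Invol.SixtyFour.exists_pres
      (Cfsg.Agent.Invol.SixtyFour.unitary_of_three hT hab hψ hD hrot h4)
    obtain ⟨ψ', hψ'⟩ := Cfsg.Agent.Invol.SixtyFour.unitary_model (F := F)
    haveI : Finite (Cfsg.Agent.Recog.SU3Two.UT F 4) :=
      Nat.finite_of_card_ne_zero (by rw [Cfsg.Agent.Recog.SU3Two.UT.card]; norm_num)
    obtain ⟨P₂⟩ := Cfsg.Agent.Invol.SixtyFour.exists_pres hψ'
    obtain ⟨e⟩ := P₁.nonempty_mulEquiv P₂
    obtain ⟨e'⟩ := Cfsg.Agent.Recog.SU3Two.sylow_psu (n := 2) (q := 4) rfl (by norm_num) P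
    exact ⟨e.trans e'⟩

end Cfsg.Agent.S1237
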