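import Cfsg.Statements.S1012
import Mathlib
-- import your own Cfsg.Agent.* helpers here

set_option autoImplicit false
open Cfsg

namespace Cfsg.Agent.S1012

/-- A group of order 24 containing no element of order 6 is isomorphic to the symmetric group of degree 4. -/
theorem result {G : Type*} [Group G] [Finite G] (h : Nat.card G = 24) (h6 : ∀ g : G, orderOf g ≠ 6) : Nonempty (G ≃* Equiv.Perm (Fin 4)) := by
  classical
  haveI : Fact (Nat.Prime 3) := ⟨Nat.prime_three⟩
  haveI : Fact (Nat.Prime 2) := ⟨Nat.prime_two⟩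
  obtain ⟨P⟩ : Nonempty (Sylow 3 G) := inferInstance
  have hPc : ∀ Q : Sylow 3 G, Nat.card (Q : Subgroup G) = 3 := fun Q => by
    rw [Q.card_eq_multiplicity, h]
    have : (24 : ℕ).factorization 3 = 1 := by
      rw [show (24 : ℕ) = 3 * 8 by norm_num, Nat.factorization_mul (by norm_num) (by norm_num),
        Finsupp.add_apply, Nat.Prime.factorization_self (by norm_num),
        Nat.factorization_eq_zero_of_not_dvd (by norm_num : ¬ 3 ∣ 8)]
    rw [this, pow_one]
  have h6' : ∀ a b : G, orderOf a = 2 → orderOf b = 3 → ¬ Commute a b := fun a b ha hb hab =>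
    h6 (a * b) (by rw [hab.orderOf_mul_eq_mul_orderOf_of_coprime (by rw [ha, hb]; norm_num), ha, hb])
  have hinv : ∀ a b : G, orderOf b = 3 → a * b * a⁻¹ = b → ∀ K : Subgroup G, a ∈ K → orderOf a ≠ 2 :=
    fun a b hb hab K _ ha => h6' a b ha hb (mul_inv_eq_iff_eq_mul.1 hab)
  have hC : ∀ (H : Subgroup G) (Q : Sylow 3 G), (∀ a ∈ H, ∀ b ∈ (Q : Subgroup G), a * b = b * a) →
      ¬ 2 ∣ Nat.card H := by
    intro H Q hcomm h2
    obtain ⟨⟨a, haH⟩, ha⟩ := exists_prime_orderOf_dvd_card' (G := H) 2 h2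
    obtain ⟨⟨b, hbQ⟩, hb⟩ := exists_prime_orderOf_dvd_card' (G := (Q : Subgroup G)) 3 (by rw [hPc Q])
    rw [Subgroup.orderOf_mk] at ha hb
    exact h6' a b ha hb (hcomm a haH b hbQ)
  set N := Subgroup.normalizer ((P : Subgroup G) : Set G) with hN
  have hidx : Nat.card (Sylow 3 G) = N.index := Sylow.card_eq_index_normalizer P
  set C := Subgroup.centralizer ((P : Subgroup G) : Set G) with hCdef
  have hrel : C.relIndex N ∣ 2 := by
    have key := Subgroup.card_dvd_of_injective _
      (QuotientGroup.kerLift_injective (P : Subgroup G).normalizerMonoidHom)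
    rw [Subgroup.normalizerMonoidHom_ker, ← Subgroup.index, ← Subgroup.relIndex] at key
    haveI : IsCyclic (P : Subgroup G) := isCyclic_of_prime_card (hPc P)
    rwa [IsCyclic.card_mulAut, hPc P] at key
  have hCodd : ¬ 2 ∣ Nat.card C :=
    hC C P (fun a ha b hb => (Subgroup.mem_centralizer_iff.1 ha b hb).symm)
  have hCN : C ≤ N := Subgroup.centralizer_le_normalizer _
  have hcN : Nat.card C * C.relIndex N = Nat.card N := by
    rw [Subgroup.relIndex, ← Subgroup.card_mul_index (C.subgroupOf N),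
      Nat.card_congr (Subgroup.subgroupOfEquivOfLe hCN).toEquiv]
  have hNle : Nat.card N ≤ 6 := by
    have h1 : Nat.card C ∣ 24 := h ▸ Subgroup.card_subgroup_dvd_card C
    have h2 : Nat.card C ≤ 3 := by
      have : Nat.card C ∣ 3 := by
        refine Nat.Coprime.dvd_of_dvd_mul_left (k := Nat.card C) (m := 8) ?_ (by simpa using h1)
        exact Nat.Coprime.pow_right 3 ((Nat.prime_two.coprime_iff_not_dvd.2 hCodd).symm)
      exact Nat.le_of_dvd (by norm_num) this
    rw [← hcN]
    exact le_trans (Nat.mul_le_mul h2 (Nat.le_of_dvd (by norm_num) hrel)) (by norm_num)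
  have hNi := Subgroup.card_mul_index N
  rw [h] at hNi
  have hn3 : Nat.card (Sylow 3 G) % 3 = 1 := card_sylow_modEq_one 3 G
  have hnd : Nat.card (Sylow 3 G) ∣ 8 := by
    have h1 : Nat.card (Sylow 3 G) ∣ (P : Subgroup G).index := P.card_dvd_index
    have h2 := Subgroup.card_mul_index (P : Subgroup G)
    rw [hPc P, h] at h2
    rwa [show (P : Subgroup G).index = 8 by omega] at h1
  have hn4 : Nat.card (Sylow 3 G) = 4 := by
    have := Nat.le_of_dvd (by norm_num) hnd
    have h4 : 4 ≤ N.index := by nlinarith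
    rw [← hidx] at h4
    interval_cases hx : Nat.card (Sylow 3 G) <;> omega
  have hN6 : Nat.card N = 6 := by rw [← hidx, hn4] at hNi; omega
  let φ : G →* Equiv.Perm (Fin 4) :=
    ((Finite.equivFinOfCardEq hn4).permCongrHom.toMonoidHom).comp (MulAction.toPermHom G (Sylow 3 G))
  have hmemK : ∀ x ∈ φ.ker, ∀ Q : Sylow 3 G, x • Q = Q := by
    intro x hx Q
    rw [MonoidHom.mem_ker] at hx
    simp only [φ, MonoidHom.coe_comp, Function.comp_apply, MulEquiv.coe_toMonoidHom,
      EmbeddingLike.map_eq_one_iff] at hx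
    exact Equiv.Perm.congr_fun hx Q
  have hKN : φ.ker ≤ N := fun x hx => Sylow.smul_eq_iff_mem_normalizer.1 (hmemK x hx P)
  have hker : φ.ker = ⊥ := by
    by_contra hne
    have hK1 : Nat.card φ.ker ≠ 1 := fun e => hne (Subgroup.card_eq_one.1 e)
    have hK6 : Nat.card φ.ker ∣ 6 := hN6 ▸ Subgroup.card_dvd_of_le hKN
    have h3 : ¬ 3 ∣ Nat.card φ.ker := by
      intro h3
      obtain ⟨⟨b, hbK⟩, hb⟩ := exists_prime_orderOf_dvd_card' (G := φ.ker) 3 h3
      rw [Subgroup.orderOf_mk] at hb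
      have hall : ∀ Q : Sylow 3 G, (Q : Subgroup G) = Subgroup.zpowers b := by
        intro Q
        refine (Subgroup.eq_of_le_of_card_ge ?_ (by rw [hPc Q, Nat.card_zpowers, hb])).symm
        rw [Subgroup.zpowers_le]
        have hbN := Sylow.smul_eq_iff_mem_normalizer.1 (hmemK b hbK Q)
        have hz : IsPGroup 3 (Subgroup.zpowers b) :=
          IsPGroup.of_card (n := 1) (by rw [Nat.card_zpowers, hb, pow_one])
        exact (Subgroup.mem_inf.1 ((hz.inf_normalizer_sylow Q).le (Subgroup.mem_inf.2 ⟨Subgroup.mem_zpowers b, hbN⟩))).2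
      have h1 : Nat.card (Sylow 3 G) = 1 :=
        Nat.card_eq_one_iff_unique.2 ⟨⟨fun Q R => Sylow.ext ((hall Q).trans (hall R).symm)⟩, ⟨P⟩⟩
      omega
    have hle := Nat.le_of_dvd (by norm_num) hK6
    have hK2 : Nat.card φ.ker = 2 := by interval_cases hx : Nat.card φ.ker <;> omega
    refine hC φ.ker P (fun a ha b hb => ?_) (by rw [hK2])
    have hc : b * a * b⁻¹ ∈ φ.ker := (MonoidHom.normal_ker φ).conj_mem a ha b
    by_cases ha1 : a = 1
    · rw [ha1, one_mul, mul_one]
    obtain ⟨x, y, hxy, huniv⟩ := Nat.card_eq_two_iff.1 hK2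
    have hor : (⟨b * a * b⁻¹, hc⟩ : φ.ker) = ⟨a, ha⟩ ∨ (⟨b * a * b⁻¹, hc⟩ : φ.ker) = 1 := by
      have e1 := Set.eq_univ_iff_forall.1 huniv (⟨b * a * b⁻¹, hc⟩ : φ.ker)
      have e2 := Set.eq_univ_iff_forall.1 huniv (⟨a, ha⟩ : φ.ker)
      have e3 := Set.eq_univ_iff_forall.1 huniv (1 : φ.ker)
      have e4 : (⟨a, ha⟩ : φ.ker) ≠ 1 := fun e => ha1 (congrArg Subtype.val e)
      simp only [Set.mem_insert_iff, Set.mem_singleton_iff] at e1 e2 e3
      rcases e1 with e1 | e1 <;> rcases e2 with e2 | e2 <;> rcases e3 with e3 | e3 <;>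
        simp_all
    rcases hor with e | e
    · exact (mul_inv_eq_iff_eq_mul.1 (congrArg Subtype.val e)).symm
    · exfalso
      apply ha1
      have h' : b * a * b⁻¹ = 1 := congrArg Subtype.val e
      rwa [mul_inv_eq_one, mul_eq_left] at h'
  have hinj : Function.Injective φ := (MonoidHom.ker_eq_bot_iff φ).1 hker
  refine ⟨MulEquiv.ofBijective φ ((Nat.bijective_iff_injective_and_card φ).2 ⟨hinj, ?_⟩)⟩
  rw [h, Nat.card_perm, Nat.card_fin]; rfl

end Cfsg.Agent.S1012
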