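import Cfsg.Statements.S3035
import Cfsg.Agent.Lib.Invol.D8IndexTwo
import Cfsg.Agent.Lib.Invol.SimpleOrder168
import Cfsg.Agent.Lib.Invol.SimpleOrder360
import Cfsg.Agent.Lib.Invol.ZStar
import Cfsg.Agent.Lib.Classical.SLNormal
import Cfsg.Agent.Lib.Classical.GLDegree

set_option autoImplicit false
open Cfsg

namespace Cfsg.Agent.S3035

set_option linter.style.haveILetI false in
/-- Let G be a finite group with an involution z whose centralizer is dihedral of order 8. Then G = C_G(z) O(G) with O(G) the largest normal subgroup of odd order, or G is isomorphic to the symmetric group of degree 4, the symmetric group of degree 5, the group SL₃(2), or the alternating group of degree 6. -/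
theorem result {G : Type*} [Group G] [Finite G] (z : G) (hz : orderOf z = 2)
    (hC : Nonempty (↥(Subgroup.centralizer ({z} : Set G)) ≃* DihedralGroup 4)) :
    Subgroup.centralizer ({z} : Set G) ⊔ Cfsg.oddCore G = ⊤ ∨ Nonempty (G ≃* Equiv.Perm (Fin 4)) ∨ Nonempty (G ≃* Equiv.Perm (Fin 5)) ∨
      Nonempty (G ≃* Matrix.SpecialLinearGroup (Fin 3) (ZMod 2)) ∨ Nonempty (G ≃* ↥(alternatingGroup (Fin 6))) := by
  obtain ⟨e⟩ := hC
  have hzz : z * z = 1 := by rw [← pow_two, ← hz, pow_orderOf_eq_one]
  set C := Subgroup.centralizer ({z} : Set G) with hCdef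
  obtain ⟨S, hS⟩ := Cfsg.Agent.Invol.D8Order.exists_sylow_eq hz e
  by_cases hfus : ∃ u ∈ C, u ≠ z ∧ IsConj z u
  · right
    obtain ⟨u, huC, hut, htu⟩ := hfus
    by_cases h2 : ∃ K : Subgroup G, K.index = 2
    · obtain ⟨K, hK⟩ := h2
      rcases Cfsg.Agent.Invol.D8Order.symmetric_of_index_two hz e huC hut htu K hK with h | h
      · exact Or.inl h
      · exact Or.inr (Or.inl h)
    push Not at h2
    obtain ⟨hs, h | h⟩ := Cfsg.Agent.Invol.D8Order.simple_and_order hz e h2
    · right; right; left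
      haveI := hs
      haveI : Fact (Nat.Prime 2) := ⟨Nat.prime_two⟩
      haveI := Cfsg.Agent.Classical.PSL_isSimple (F := ZMod 2) (n := 3) (by norm_num) (by norm_num)
      have hSL : Nat.card (Matrix.SpecialLinearGroup (Fin 3) (ZMod 2)) = 168 := by
        have h1 := Cfsg.Agent.Classical.natCard_GL_eq_SL_mul (F := ZMod 2) 3 (by norm_num)
        rw [Cfsg.Agent.Classical.GLDeg.natCard_GL (F := ZMod 2) (q := 2) (ZMod.card 2) 3,
          Cfsg.Agent.Classical.natCard_units_field, ZMod.card] at h1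
        norm_num [Cfsg.Agent.Classical.GLDeg.qf, Cfsg.Agent.Classical.GLDeg.qi, Finset.prod_range_succ, Finset.sum_range_succ, Nat.choose] at h1
        rw [Nat.card_eq_fintype_card]; omega
      have hcen : Subgroup.center (Matrix.SpecialLinearGroup (Fin 3) (ZMod 2)) = ⊥ := by
        refine Subgroup.eq_bot_of_card_eq _ ?_
        rw [Cfsg.Agent.Classical.natCard_center_SL, Cfsg.Agent.Classical.natCard_units_field, ZMod.card]
        norm_num
      let f : Matrix.SpecialLinearGroup (Fin 3) (ZMod 2) ≃*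
          Matrix.ProjectiveSpecialLinearGroup (Fin 3) (ZMod 2) :=
        MulEquiv.ofBijective (QuotientGroup.mk' (Subgroup.center (Matrix.SpecialLinearGroup (Fin 3) (ZMod 2))))
          ⟨by rw [← MonoidHom.ker_eq_bot_iff, QuotientGroup.ker_mk', hcen], QuotientGroup.mk'_surjective _⟩
      have hP : Nat.card (Matrix.ProjectiveSpecialLinearGroup (Fin 3) (ZMod 2)) = 168 := by
        rw [← Nat.card_congr f.toEquiv, hSL]
      obtain ⟨g⟩ := Cfsg.Agent.Invol.O168.iso (H := Matrix.ProjectiveSpecialLinearGroup (Fin 3) (ZMod 2)) h hP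
      exact ⟨g.trans f.symm⟩
    · right; right; right
      haveI := hs
      haveI : IsSimpleGroup (alternatingGroup (Fin 6)) := alternatingGroup.isSimpleGroup (by simp)
      refine Cfsg.Agent.Invol.O360.iso h ?_
      rw [nat_card_alternatingGroup, Nat.card_fin]
      rfl
  · left
    push Not at hfus
    have hzS : z ∈ S := by
      show z ∈ (S : Subgroup G)
      rw [hS]; exact Subgroup.mem_centralizer_singleton_iff.2 rfl
    have hiso := Cfsg.Agent.ZStar.isIsolated_of_sylow hzS hz (fun g hg => by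
      by_contra hne
      have hg' : g * z * g⁻¹ ∈ (S : Subgroup G) := hg
      rw [hS] at hg'
      exact hfus _ hg' hne (isConj_iff.2 ⟨g, rfl⟩))
    rw [eq_top_iff]
    intro g _
    set O := Cfsg.oddCore G with hO
    have hy := Cfsg.Agent.ZStar.commutator_mem_oddCore _ G rfl z hiso g
    set y := z * g * z⁻¹ * g⁻¹ with hydef
    have hzi : z⁻¹ = z := inv_eq_of_mul_eq_one_right hzz
    have hzy : z * y * z⁻¹ = y⁻¹ := by
      rw [hydef, mul_inv_rev, mul_inv_rev, mul_inv_rev, inv_inv, inv_inv, hzi]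
      rw [show z * (z * g * z * g⁻¹) * z = (z * z) * g * z * g⁻¹ * z by group, hzz, one_mul]
      group
    have hodd : ¬ 2 ∣ orderOf y := fun h =>
      Grp.pPrimeCore_not_dvd (p := 2) (G := G) (h.trans (Subgroup.orderOf_dvd_natCard _ hy))
    obtain ⟨k, hk⟩ : ∃ k, orderOf y = 2 * k + 1 := ⟨orderOf y / 2, by omega⟩
    set x := y ^ k with hx
    have hxO : x ∈ O := O.pow_mem hy k
    have hxy : x * x * y = 1 := by
      rw [hx, ← pow_add, ← pow_succ, show k + k + 1 = orderOf y by omega, pow_orderOf_eq_one]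
    have hzx : z * x * z⁻¹ = x⁻¹ := by
      rw [hx, ← conj_pow, hzy, inv_pow]
    have hgz : g * z * g⁻¹ = z * y := by
      rw [hydef, hzi, show z * (z * g * z * g⁻¹) = (z * z) * g * z * g⁻¹ by group, hzz, one_mul]
    have hxz : x * z * x⁻¹ = z * y := by
      have h1 : y = (x * x)⁻¹ := eq_inv_of_mul_eq_one_right hxy
      have h2 : x * z = z * x⁻¹ := by
        rw [← hzx, show z * (z * x * z⁻¹) = (z * z) * x * z⁻¹ by group, hzz, one_mul, hzi]
      rw [h2, h1, mul_inv_rev, mul_assoc]
    have hc : x⁻¹ * g ∈ C := Subgroup.mem_centralizer_singleton_iff.2 (by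
      calc x⁻¹ * g * z = x⁻¹ * (g * z * g⁻¹) * g := by group
        _ = x⁻¹ * (x * z * x⁻¹) * g := by rw [hgz, hxz]
        _ = z * (x⁻¹ * g) := by group)
    rw [show g = x * (x⁻¹ * g) by group]
    exact Subgroup.mul_mem _ (Subgroup.mem_sup_right hxO) (Subgroup.mem_sup_left hc)

end Cfsg.Agent.S3035
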