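import Cfsg.Statements.S3992
import Cfsg.Agent.Lib.Grp.PrimePowerOrders

set_option autoImplicit false
open Cfsg

namespace Cfsg.Agent.S3992

/-- Let G be a finite non-solvable group in which every element has prime-power order, and let R be its largest solvable normal subgroup. Then R is a p-group for some prime p; G/R has a non-abelian simple normal subgroup contained in every nontrivial normal subgroup of G/R (its unique minimal normal subgroup); and the order of every solvable subgroup of G has at most two prime divisors. -/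
theorem result {G : Type*} [Group G] [Finite G] (hns : ¬ Group.IsSolvable G) (hpp : ∀ g : G, g ≠ 1 → IsPrimePow (orderOf g))
    (R : Subgroup G) [R.Normal] (hRs : Group.IsSolvable ↥R) (hRmax : ∀ N : Subgroup G, N.Normal → Group.IsSolvable ↥N → N ≤ R) :
    (∃ p : ℕ, p.Prime ∧ IsPGroup p ↥R) ∧
      (∃ M : Subgroup (G ⧸ R), M.Normal ∧ IsSimpleGroup ↥M ∧ ¬ IsMulCommutative ↥M ∧
        ∀ N : Subgroup (G ⧸ R), N.Normal → N ≠ ⊥ → M ≤ N) ∧
      ∀ H : Subgroup G, Group.IsSolvable ↥H → (Nat.card ↥H).primeFactors.card ≤ 2 := by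
  refine ⟨Cfsg.Agent.Grp.EPPO.radical_isPGroup hns hpp R hRs, ?_, fun H hH => ?_⟩
  · refine Cfsg.Agent.Grp.EPPO.socle_simple (Cfsg.Agent.Grp.EPPO.EPPO.quotient hpp R) (fun N hN hs => ?_) ?_
    · haveI := hN
      have h1 : Group.IsSolvable ↥(N.comap (QuotientGroup.mk' R)) :=
        Group.isSolvable_of_ker_le_range
          (Subgroup.inclusion (show R ≤ N.comap (QuotientGroup.mk' R) from fun x hx => by
            show QuotientGroup.mk' R x ∈ N
            rw [show QuotientGroup.mk' R x = 1 from (QuotientGroup.eq_one_iff x).mpr hx]; exact one_mem N))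
          ((QuotientGroup.mk' R).subgroupComap N)
          (fun x hx => ⟨⟨x, (QuotientGroup.eq_one_iff (x : G)).mp
            (congrArg Subtype.val (MonoidHom.mem_ker.mp hx))⟩, rfl⟩)
      have h2 := hRmax _ inferInstance h1
      rw [eq_bot_iff]
      intro y hy
      obtain ⟨x, rfl⟩ := QuotientGroup.mk'_surjective R y
      exact (QuotientGroup.eq_one_iff x).mpr (h2 hy)
    · intro e
      apply hns
      haveI : Subsingleton (G ⧸ R) := Subgroup.subsingleton_iff.mp (subsingleton_of_top_le_bot (α := Subgroup (G ⧸ R)) e.le)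
      exact (Group.isSolvable_iff_subgroup_quotient R).mpr
        ⟨hRs, Group.isSolvable_of_comm fun a b => Subsingleton.elim _ _⟩
  · by_contra hc
    push Not at hc
    obtain ⟨a, ha, b, hb, c, hc', hab, hac, hbc⟩ := Finset.two_lt_card.mp hc
    haveI := hH
    have hE : Cfsg.Agent.Grp.EPPO.EPPO H := fun g hg => by
      rw [← Subgroup.orderOf_coe]; exact hpp _ (fun e => hg (Subtype.ext e))
    obtain ⟨pa, pb, pc⟩ := And.intro (Nat.prime_of_mem_primeFactors ha)
      (And.intro (Nat.prime_of_mem_primeFactors hb) (Nat.prime_of_mem_primeFactors hc'))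
    rcases Cfsg.Agent.Grp.ThreePrimes.exists_edge pa pb pc hab hac hbc (Nat.dvd_of_mem_primeFactors ha)
      (Nat.dvd_of_mem_primeFactors hb) (Nat.dvd_of_mem_primeFactors hc') with ⟨g, hg⟩ | ⟨g, hg⟩ | ⟨g, hg⟩
    · exact hE.no_mixed pa pb hab (hg ▸ dvd_mul_right a b) (hg ▸ dvd_mul_left b a)
    · exact hE.no_mixed pa pc hac (hg ▸ dvd_mul_right a c) (hg ▸ dvd_mul_left c a)
    · exact hE.no_mixed pb pc hbc (hg ▸ dvd_mul_right b c) (hg ▸ dvd_mul_left c b)

end Cfsg.Agent.S3992
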