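import Cfsg.Statements.S1226
import Mathlib
import Cfsg.Agent.Lib.Invol.StronglyEmbedded
-- import your own Cfsg.Agent.* helpers here

set_option autoImplicit false
open Cfsg

namespace Cfsg.Agent.S1226

/-- Let G be a finite group with a Sylow 2-subgroup T that is neither cyclic nor normal, such that the centralizer of every involution is an elementary abelian 2-group. Then N_G(T) is a strongly embedded subgroup of G. -/
theorem result {G : Type*} [Group G] [Finite G] (T : Sylow 2 G) (hnc : ¬ IsCyclic (T : Subgroup G)) (hnn : ¬ (T : Subgroup G).Normal) (hC : ∀ t : G, orderOf t = 2 → IsMulCommutative (Subgroup.centralizer ({t} : Set G)) ∧ ∀ c ∈ Subgroup.centralizer ({t} : Set G), c ^ 2 = 1) : Cfsg.IsStronglyEmbedded (Subgroup.normalizer ((T : Subgroup G) : Set G)) := by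
  classical
  have hT1 : (T : Subgroup G) ≠ ⊥ := by
    intro h
    exact hnc (h ▸ inferInstance)
  obtain ⟨m, hm⟩ := T.isPGroup'.exists_card_eq
  have hm0 : m ≠ 0 := by
    rintro rfl
    exact hT1 (Subgroup.card_eq_one.mp (by simpa using hm))
  have : Nontrivial (T : Subgroup G) := (Subgroup.nontrivial_iff_ne_bot _).mpr hT1
  have := T.isPGroup'.center_nontrivial
  obtain ⟨k, hk⟩ := (T.isPGroup'.to_subgroup (Subgroup.center (T : Subgroup G))).exists_card_eq
  have hk0 : k ≠ 0 := by
    rintro rfl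
    have := Finite.one_lt_card (α := Subgroup.center (T : Subgroup G))
    simp [hk] at this
  obtain ⟨⟨⟨c, hcT⟩, hcz⟩, hc⟩ := exists_prime_orderOf_dvd_card'
    (G := Subgroup.center (T : Subgroup G)) 2 (hk ▸ dvd_pow_self 2 hk0)
  rw [Subgroup.orderOf_mk, Subgroup.orderOf_mk] at hc
  -- the centraliser of every involution of `T` is `T`
  have hpg : ∀ t : G, orderOf t = 2 → IsPGroup 2 (Subgroup.centralizer ({t} : Set G)) := by
    intro t ht x
    exact ⟨1, by rw [pow_one]; exact Subtype.ext ((hC t ht).2 x.1 x.2)⟩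
  have hTle : (T : Subgroup G) ≤ Subgroup.centralizer ({c} : Set G) := fun t ht =>
    Subgroup.mem_centralizer_singleton_iff.mpr
      (congrArg Subtype.val (Subgroup.mem_center_iff.mp hcz ⟨t, ht⟩))
  have hcT' : Subgroup.centralizer ({c} : Set G) = T := T.is_maximal' (hpg c hc) hTle
  have habT : ∀ x ∈ (T : Subgroup G), ∀ y ∈ (T : Subgroup G), x * y = y * x := by
    intro x hx y hy
    rw [← hcT'] at hx hy
    exact congrArg Subtype.val ((hC c hc).1.is_comm.comm ⟨x, hx⟩ ⟨y, hy⟩)
  have hCt : ∀ t ∈ (T : Subgroup G), orderOf t = 2 → Subgroup.centralizer ({t} : Set G) = T :=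
    fun t ht ht2 => T.is_maximal' (hpg t ht2)
      (fun x hx => Subgroup.mem_centralizer_singleton_iff.mpr (habT x hx t ht))
  set N := Subgroup.normalizer ((T : Subgroup G) : Set G) with hN
  have hNtop : N ≠ ⊤ := fun h => hnn (Subgroup.normalizer_eq_top_iff.mp h)
  have hTN : (T : Subgroup G) ≤ N := Subgroup.le_normalizer
  rw [Invol.isStronglyEmbedded_iff hNtop (Invol.even_card_of_mem hc (hTN hcT))]
  intro t ht ht2 g hg
  have hinT : ∀ x ∈ N, orderOf x = 2 → x ∈ (T : Subgroup G) := by
    intro x hx hx2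
    have hp : IsPGroup 2 (Subgroup.zpowers x) := Invol.isPGroup_zpowers (n := 1) (by rw [hx2, pow_one])
    have hle : Subgroup.zpowers x ≤ T := by
      rw [← inf_eq_left, ← hp.inf_normalizer_sylow, inf_eq_left, Subgroup.zpowers_le]
      exact hx
    exact hle (Subgroup.mem_zpowers x)
  have hs2 : orderOf (g⁻¹ * t * g) = 2 := by
    rw [← ht2, ← Invol.orderOf_conj_eq g⁻¹ t, inv_inv]
  have h1 := hCt t (hinT t ht ht2) ht2
  have h2 := hCt _ (hinT _ hg hs2) hs2
  rw [hN, Subgroup.mem_normalizer_iff]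
  intro x
  constructor
  · intro hx
    rw [← h2, Subgroup.mem_centralizer_singleton_iff] at hx
    rw [← h1, Subgroup.mem_centralizer_singleton_iff]
    calc g * x * g⁻¹ * t = g * (x * (g⁻¹ * t * g)) * g⁻¹ := by group
      _ = g * (g⁻¹ * t * g * x) * g⁻¹ := by rw [hx]
      _ = t * (g * x * g⁻¹) := by group
  · intro hx
    rw [← h1, Subgroup.mem_centralizer_singleton_iff] at hx
    rw [← h2, Subgroup.mem_centralizer_singleton_iff]
    calc x * (g⁻¹ * t * g) = g⁻¹ * (g * x * g⁻¹ * t) * g := by group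
      _ = g⁻¹ * (t * (g * x * g⁻¹)) * g := by rw [hx]
      _ = g⁻¹ * t * g * x := by group

end Cfsg.Agent.S1226
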