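import Cfsg.Statements.S0168
import Cfsg.Agent.Lib.Char.Basic
import Mathlib.Algebra.Polynomial.BigOperators
-- import your own Cfsg.Agent.* helpers here

set_option autoImplicit false
open Cfsg

namespace Cfsg.Agent.S0168

/-- The Burnside–Brauer Theorem. Let χ be the character of a faithful complex representation of a finite group, taking m distinct values. Then every irreducible character has nonzero inner product with χ ^ i for some i < m. -/
theorem result {G : Type*} [Group G] [Fintype G] {V : Type*} [AddCommGroup V] [Module ℂ V] [FiniteDimensional ℂ V] (ρ : Representation ℂ G V) (hfaithful : Function.Injective ρ) (ψ : G → ℂ) (hψ : Cfsg.IsIrrCharacter G ψ) : ∃ i : ℕ, i < Nat.card (Set.range ρ.character) ∧ Cfsg.classInner (fun g => ρ.character g ^ i) ψ ≠ 0 := by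
  classical
  by_contra hno
  push Not at hno
  set S := (Finset.univ.image ρ.character).erase (ρ.character 1) with hS
  set P : Polynomial ℂ := ∏ a ∈ S, (Polynomial.X - Polynomial.C a) with hP
  have hcard : Nat.card (Set.range ρ.character) = S.card + 1 := by
    rw [Nat.card_eq_fintype_card, ← Set.toFinset_card,
      show (Set.range ρ.character).toFinset = Finset.univ.image ρ.character by ext; simp, hS,
      Finset.card_erase_add_one (Finset.mem_image_of_mem _ (Finset.mem_univ 1))]
  have hdeg : P.natDegree = S.card := by
    rw [hP, Polynomial.natDegree_prod _ _ (fun a _ => Polynomial.X_sub_C_ne_zero a)]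
    simp
  have h0 : ∑ g : G, P.eval (ρ.character g) * (starRingEnd ℂ) (ψ g) = 0 := by
    have h : ∀ i ≤ S.card, ∑ g : G, ρ.character g ^ i * (starRingEnd ℂ) (ψ g) = 0 := by
      intro i hi
      have := hno i (by omega)
      rw [Cfsg.classInner] at this
      exact (mul_eq_zero.1 this).resolve_left (inv_ne_zero (Nat.cast_ne_zero.2 Nat.card_pos.ne'))
    simp only [Polynomial.eval_eq_sum_range, hdeg, Finset.sum_mul]
    rw [Finset.sum_comm]
    refine Finset.sum_eq_zero fun i hi => ?_
    simp only [mul_assoc, ← Finset.mul_sum]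
    rw [h i (by simpa [Nat.lt_succ_iff] using hi), mul_zero]
  have hone : ∀ g : G, g ≠ 1 → P.eval (ρ.character g) = 0 := by
    intro g hg
    rw [hP, Polynomial.eval_prod]
    refine Finset.prod_eq_zero (i := ρ.character g) ?_ (by simp)
    rw [hS, Finset.mem_erase]
    refine ⟨fun h => hg (hfaithful ?_), Finset.mem_image_of_mem _ (Finset.mem_univ g)⟩
    rw [Representation.char_one, Cfsg.Agent.Char.character_eq_finrank_iff] at h
    rw [h, map_one, Module.End.one_eq_id]
  rw [Finset.sum_eq_single 1 (fun g _ hg => by rw [hone g hg, zero_mul])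
    (fun h => absurd (Finset.mem_univ _) h), mul_eq_zero, map_eq_zero] at h0
  rcases h0 with h0 | h0
  · rw [hP, Polynomial.eval_prod, Finset.prod_eq_zero_iff] at h0
    obtain ⟨a, ha, ha0⟩ := h0
    rw [Polynomial.eval_sub, Polynomial.eval_X, Polynomial.eval_C, sub_eq_zero] at ha0
    exact (Finset.mem_erase.1 ha).1 ha0.symm
  · exact Cfsg.Agent.Char.IsIrr.one_ne_zero hψ h0

end Cfsg.Agent.S0168
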