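import Cfsg.Statements.S0806
import Cfsg.Agent.Lib.Classical.DicksonOvergroups
-- import your own Cfsg.Agent.* helpers here

set_option autoImplicit false
open Cfsg

namespace Cfsg.Agent.S0806
open Cfsg.Agent.Dickson Cfsg.Agent.PSL2Spec

/-- Minimal index (Galois): if q ∉ {2, 3, 5, 7, 9, 11} then every proper subgroup of PSL_2(q) has index ≥ q + 1, and some subgroup has index exactly q + 1. -/
theorem result {F : Type*} [Field F] [Fintype F] {q : ℕ} (hF : Fintype.card F = q) (hq : q ∉ ({2, 3, 5, 7, 9, 11} : Finset ℕ)) : (∀ H : Subgroup (Matrix.ProjectiveSpecialLinearGroup (Fin 2) F), H ≠ ⊤ → q + 1 ≤ H.index) ∧ ∃ H : Subgroup (Matrix.ProjectiveSpecialLinearGroup (Fin 2) F), H.index = q + 1 := by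
  classical
  subst hF
  obtain ⟨p, hc⟩ := CharP.exists F
  haveI : Fact p.Prime := ⟨CharP.char_is_prime F p⟩
  have h4 : 4 ≤ Fintype.card F := by
    have := Fintype.one_lt_card (α := F)
    simp only [Finset.mem_insert, Finset.mem_singleton, not_or] at hq
    omega
  set q := Fintype.card F
  obtain ⟨c, hqc⟩ : ∃ c, q = c + 4 := ⟨q - 4, by omega⟩
  have hG := card_psl (F := F)
  have hd := two_del_le (F := F)
  -- the bound for maximal subgroups
  have hmax : ∀ M : Subgroup (Matrix.ProjectiveSpecialLinearGroup (Fin 2) F), IsCoatom M →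
      Nat.card M * del F ≤ q * (q - 1) := by
    intro M hM
    have h13 : Odd q → q = p → 13 ≤ q := by
      rintro ⟨m, hm⟩ hqp
      simp only [Finset.mem_insert, Finset.mem_singleton, not_or] at hq
      omega
    cases coatom_cases p h4 hM with
    | torus a ha hap h =>
      subst h
      rw [(normalizer_tor p ha hap).1]
      have hT : Nat.card (tor a) * del F ≤ q + 1 := by
        rcases card_tor_semi p ha hap with e | e <;> rw [e]
        · exact (Nat.div_mul_le_self _ _).trans (by omega)
        · exact Nat.div_mul_le_self _ _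
      rw [mul_assoc]
      calc 2 * (Nat.card (tor a) * del F) ≤ 2 * (q + 1) := Nat.mul_le_mul_left 2 hT
        _ ≤ q * (q - 1) := by rw [hqc, show c + 4 - 1 = c + 3 by omega]; nlinarith
    | borel a ha hap h => subst h; exact (card_borel p ha hap).le
    | alt4 hqp h8 h10 iso =>
      have := h13 (Nat.odd_iff.mpr (by omega)) hqp
      rw [Nat.card_congr iso.some.toEquiv, nat_card_alternatingGroup, Nat.card_fin]
      calc (Nat.factorial 4 / 2) * del F ≤ 13 * 12 := by norm_num [Nat.factorial]; omega
        _ ≤ q * (q - 1) := Nat.mul_le_mul (by omega) (by omega)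
    | perm4 hqp h8 iso =>
      have := h13 (Nat.odd_iff.mpr (by omega)) hqp
      rw [Nat.card_congr iso.some.toEquiv, Nat.card_perm, Nat.card_fin]
      calc (Nat.factorial 4) * del F ≤ 13 * 12 := by norm_num [Nat.factorial]; omega
        _ ≤ q * (q - 1) := Nat.mul_le_mul (by omega) (by omega)
    | alt5 hqp h10 iso =>
      have : 13 ≤ q := by
        simp only [Finset.mem_insert, Finset.mem_singleton, not_or] at hq
        omega
      rw [Nat.card_congr iso.some.toEquiv, nat_card_alternatingGroup, Nat.card_fin]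
      calc (Nat.factorial 5 / 2) * del F ≤ 13 * 12 := by norm_num [Nat.factorial]; omega
        _ ≤ q * (q - 1) := Nat.mul_le_mul (by omega) (by omega)
    | subfield L r x hr hc' h3 h =>
      subst h
      set k := Nat.card L
      have hk2 : k ^ 2 ≤ q := by
        calc k ^ 2 ≤ k ^ r := Nat.pow_le_pow_right (by omega) hr.two_le
          _ = q := hc'
      have hk : (k - 1) * (k + 1) ≤ q - 1 := by
        rw [mul_comm, ← Nat.sq_sub_sq, one_pow]; omega
      calc Nat.card (sfOver L x) * del F ≤ k * ((k - 1) * (k + 1)) * 2 :=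
            Nat.mul_le_mul (card_sfOver_le hr hc' x) hd.2
        _ ≤ k * (q - 1) * 2 := Nat.mul_le_mul_right 2 (Nat.mul_le_mul_left k hk)
        _ = (2 * k) * (q - 1) := by ring
        _ ≤ q * (q - 1) := Nat.mul_le_mul_right _ (by nlinarith)
  refine ⟨fun H hH => ?_, ?_⟩
  · obtain hT | ⟨M, hM, hle⟩ := eq_top_or_exists_le_coatom H
    · exact absurd hT hH
    refine le_trans ?_ (Nat.le_of_dvd (Nat.pos_of_ne_zero Subgroup.index_ne_zero_of_finite)
      (Subgroup.index_dvd_of_le hle))
    have h1 := Subgroup.card_mul_index M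
    have h2 : q * (q - 1) * (q + 1) ≤ q * (q - 1) * M.index := by
      calc q * (q - 1) * (q + 1) = Nat.card (Matrix.ProjectiveSpecialLinearGroup (Fin 2) F) * del F := by
            rw [hG, mul_assoc]
        _ = Nat.card M * del F * M.index := by rw [← h1]; ring
        _ ≤ q * (q - 1) * M.index := Nat.mul_le_mul_right _ (hmax M hM)
    exact Nat.le_of_mul_le_mul_left h2 (Nat.mul_pos (by omega) (by omega))
  · obtain ⟨u, hu⟩ := exists_order_char (F := F) p
    have hu1 : u ≠ 1 := fun e => (Fact.out : p.Prime).ne_one (by rw [← hu, e, orderOf_one])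
    have hB := card_borel p hu1 (orderOf_dvd_iff_pow_eq_one.mp hu.dvd)
    refine ⟨Subgroup.normalizer (tor u : Set (Matrix.ProjectiveSpecialLinearGroup (Fin 2) F)), ?_⟩
    have h1 := Subgroup.card_mul_index
      (Subgroup.normalizer (tor u : Set (Matrix.ProjectiveSpecialLinearGroup (Fin 2) F)))
    have h2 : q * (q - 1) * (Subgroup.normalizer (tor u : Set (Matrix.ProjectiveSpecialLinearGroup (Fin 2) F))).index =
        q * (q - 1) * (q + 1) := by
      rw [← hB, mul_right_comm, h1, hG, hB, mul_assoc]
    exact Nat.eq_of_mul_eq_mul_left (Nat.mul_pos (by omega) (by omega)) h2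

end Cfsg.Agent.S0806
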