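import Cfsg.Statements.S4703
import Cfsg.Agent.Lib.Block.SmallFaith.Main

set_option autoImplicit false
open Cfsg

namespace Cfsg.Agent.S4703

/-- Let G be a finite group whose centre Z has odd order, p > 7 a prime, and suppose a Sylow p-subgroup of G has order p and is not normal. Let ζ be a faithful irreducible character of G (only the identity lies in its kernel). Then either G/Z is isomorphic to PSL(2, p) and ζ has degree (p + 1)/2 or (p − 1)/2, or ζ has degree at least p − 2. -/
theorem result {G : Type*} [Group G] [Finite G] (hZ : Odd (Nat.card (Subgroup.center G))) (p : ℕ) [Fact p.Prime] (hp : 7 < p) (P : Sylow p G) (hP : Nat.card P = p) (hnn : ¬ (P : Subgroup G).Normal) (ζ : G → ℂ) (hζ : Cfsg.IsIrrCharacter G ζ) (hfaith : ∀ g : G, ζ g = ζ 1 → g = 1) : ((∃ (F : Type) (_ : Field F) (_ : Fintype F), Fintype.card F = p ∧ Nonempty (G ⧸ Subgroup.center G ≃* Matrix.ProjectiveSpecialLinearGroup (Fin 2) F)) ∧ (2 * Cfsg.charDegree ζ = p + 1 ∨ 2 * Cfsg.charDegree ζ = p -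 1)) ∨ p - 2 ≤ Cfsg.charDegree ζ := by
  classical
  letI := Fintype.ofFinite G
  rcases le_or_gt (p - 2) (Cfsg.charDegree ζ) with h | h
  · exact Or.inr h
  have hsq := Block.SmallFaith.not_sq_dvd P hP
  have hn := Block.SmallFaith.no_normal_order P hP hnn
  have hep : Cfsg.charDegree ζ + 2 ≤ p := by omega
  obtain ⟨u, R, L, hcase⟩ := Block.SmallFaith.exists_cases hp P hP hnn ⟨ζ, hζ⟩ hfaith hep
  rcases hcase with ⟨hiso, -, hd⟩ | ⟨ω, y, t, Z, ht, ht3, hR2, hd⟩
  · refine Or.inl ⟨⟨ZMod p, inferInstance, inferInstance, ZMod.card p, hiso⟩, ?_⟩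
    change 2 * Cfsg.charDegree ζ + 1 = p ∨ 2 * Cfsg.charDegree ζ = p + 1 at hd
    omega
  · exfalso
    change Cfsg.charDegree ζ + Nat.card R = p at hd
    exact Z.no_odd_center L (fun φ hφ => Block.SmallFaith.two_mul_degree_ge (by omega) hsq hn
      (Char.IsIrr.isCharacter hζ) hfaith (Block.charDeg_spec (Char.IsIrr.isCharacter hζ)) hep φ L.hu hφ)
      ht ht3 (by omega) hZ

end Cfsg.Agent.S4703
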