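import Cfsg.Statements.S1520
import Cfsg.Agent.Lib.Char.CohDescent

set_option autoImplicit false
open Cfsg

namespace Cfsg.Agent.S1520
open scoped commutatorElement

/-- Let K be a solvable normal subgroup of the finite group L and (S, τ, R) a coherence system from L to G with S the functions induced from non-principal irreducible characters of K; S(A) the members of S induced from characters whose kernel contains A. Let M ≤ H₁ ≤ H ≤ K be normal subgroups of L such that every term of the lower central series of H eventually lies in M (H/M nilpotent), S(H₁) is coherent and [H:H₁] > 4 * [L:K]^2 + 1. Then S(M) is coherent. -/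
theorem result {L : Type*} [Group L] [Fintype L] {G : Type*} [Group G] [Fintype G] (K : Subgroup L) [hK : K.Normal] (hsolv : Group.IsSolvable K) (τ : (L → ℂ) → (G → ℂ)) (R : (L → ℂ) → Finset (G → ℂ)) (hS : Cfsg.IsCoherenceSystem (Cfsg.inducedIrrAbove K ⊥) τ R) (M H₁ H : Subgroup L) [M.Normal] [H₁.Normal] [H.Normal] (hMH₁ : M ≤ H₁) (hH₁H : H₁ ≤ H) (hHK : H ≤ K) [(M.subgroupOf H).Normal] (hnil : Group.IsNilpotent (↥H ⧸ M.subgroupOf H)) (hcoh : Cfsg.IsCoherent (Cfsg.inducedIrrAbove K H₁) {1}ᶜ τ) (hbig : 4 * K.index ^ 2 + 1 < H₁.relIndex H) : Cfsg.IsCoherent (Cfsg.inducedIrrAbove K M) {1}ᶜ τ := by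
  classical
  letI : Fintype K := Fintype.ofFinite _
  haveI := hsolv
  obtain ⟨A, ⟨hAn, hMA, hAH, hAc⟩, hAmin⟩ := (Set.toFinite {A : Subgroup L | A.Normal ∧ M ≤ A ∧ A ≤ H₁ ∧
    Cfsg.IsCoherent (Cfsg.inducedIrrAbove K A) {1}ᶜ τ}).exists_minimal ⟨H₁, inferInstance, hMH₁, le_rfl, hcoh⟩
  haveI := hAn
  rcases eq_or_lt_of_le hMA with h | hlt
  · exact h ▸ hAc
  exfalso
  have hAH' : A ≤ H := hAH.trans hH₁H
  set B : Subgroup L := ⁅A, H⁆ ⊔ M with hB
  haveI : B.Normal := Subgroup.sup_normal _ _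
  have hBA : B ≤ A := sup_le (Subgroup.commutator_le_left A H) hMA
  have hne : B ≠ A := by
    intro he
    set M' := M.subgroupOf H with hM'
    set A' := A.subgroupOf H with hA'
    haveI : A'.Normal := Subgroup.normal_subgroupOf
    set π := QuotientGroup.mk' M' with hπ
    haveI : (A'.map π).Normal := Subgroup.Normal.map inferInstance π (QuotientGroup.mk'_surjective M')
    have hne : A'.map π ≠ ⊥ := fun h => hlt.not_ge fun a ha => by
      have h2 := h ▸ Subgroup.mem_map_of_mem π (show (⟨a, hAH' ha⟩ : H) ∈ A' from Subgroup.mem_subgroupOf.2 ha)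
      have h3 := (QuotientGroup.eq_one_iff (⟨a, hAH' ha⟩ : H)).1 (Subgroup.mem_bot.1 h2)
      exact Subgroup.mem_subgroupOf.1 h3
    refine (Cfsg.Agent.Transfer.MaxAbelianExponent.commutator_lt_of_normal hne).ne ?_
    have h1 : ⁅A', (⊤ : Subgroup H)⁆ ⊔ M' = A' := by
      refine Subgroup.map_injective H.subtype_injective ?_
      rw [Subgroup.map_sup, Subgroup.map_commutator, hA', hM', Subgroup.map_subgroupOf_eq_of_le hAH',
        Subgroup.map_subgroupOf_eq_of_le (hMA.trans hAH'), ← MonoidHom.range_eq_map,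
        Subgroup.range_subtype]
      exact he
    have h2 := congrArg (Subgroup.map π) h1
    rw [Subgroup.map_sup, Subgroup.map_commutator, Subgroup.map_top_of_surjective π
      (QuotientGroup.mk'_surjective M'), hπ, QuotientGroup.map_mk'_self, sup_bot_eq] at h2
    exact h2
  have hH₁ne : H₁.relIndex H ≠ 1 := by omega
  have hH₁K : H₁ < K := lt_of_lt_of_le (lt_of_le_of_ne hH₁H fun e => hH₁ne (by rw [e, Subgroup.relIndex_self])) hHK
  have hAK : A < K := lt_of_le_of_lt hAH hH₁K
  have hBlt : B < A := lt_of_le_of_ne hBA hne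
  have hx : H₁.relIndex H ≤ A.relIndex H := Nat.le_of_dvd
    (Nat.pos_of_ne_zero (A.subgroupOf H).index_ne_zero_of_finite) (Subgroup.relIndex_dvd_of_le_left H hAH)
  refine hne (le_antisymm hBA (hAmin ⟨inferInstance, le_sup_right, hBA.trans hAH,
    Cfsg.Agent.Char.Descent.descend K hS hAK (hBlt.trans hAK) hAH' hHK (fun x hx y hy => ?_) hAc ?_⟩ hBA))
  · rw [← commutatorElement_def]
    exact (le_sup_left : ⁅A, H⁆ ≤ B) (Subgroup.commutator_mem_commutator hx hy)
  rw [← Subgroup.relIndex_mul_index hHK, ← Subgroup.relIndex_mul_relIndex A H K hAH' hHK]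
  have hk : 1 ≤ H.relIndex K := Nat.one_le_iff_ne_zero.2 (H.subgroupOf K).index_ne_zero_of_finite
  obtain ⟨r, hr⟩ : ∃ r, A.relIndex H = 4 * K.index ^ 2 + 2 + r := Nat.exists_eq_add_of_le (by omega)
  obtain ⟨k, hk'⟩ : ∃ k, H.relIndex K = 1 + k := Nat.exists_eq_add_of_le hk
  rw [hr, hk', show (4 * K.index ^ 2 + 2 + r) * (1 + k) - 1 =
    4 * K.index ^ 2 + 1 + r + (4 * K.index ^ 2 + 2 + r) * k by
      rw [mul_add, mul_one]; omega]
  nlinarith [Nat.zero_le (k * r), Nat.zero_le (k * k * r), Nat.zero_le (k * k)]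

end Cfsg.Agent.S1520
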