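import Cfsg.Statements.S0867
import Cfsg.Agent.Lib.Char.ExtendMain

set_option autoImplicit false
open Cfsg

namespace Cfsg.Agent.S0867

open Cfsg.Agent.Char Cfsg.Agent.Char.Ext

/-- Let N be a normal subgroup of the finite group G and ϑ an irreducible character of N of degree d, invariant under conjugation by G, such that the index of N is coprime to the product of d and the determinantal order of ϑ. Then there is an irreducible character χ of G restricting to ϑ whose determinantal order equals that of ϑ, and χ is the only irreducible character of G restricting to ϑ whose determinantal order is coprime to the index of N. -/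
theorem result {G : Type*} [Group G] [Finite G] (N : Subgroup G) [hN : N.Normal] (ϑ : N → ℂ) (hϑ : Cfsg.IsIrrCharacter N ϑ) (hinv : ∀ (g : G) (n : N), ϑ ⟨g * n * g⁻¹, hN.conj_mem (n : G) n.2 g⟩ = ϑ n) (d : ℕ) (hd : ϑ 1 = d) (hcop : Nat.Coprime N.index (Cfsg.detOrder ϑ * d)) : ∃ χ : G → ℂ, (Cfsg.IsIrrCharacter G χ ∧ (∀ n : N, χ n = ϑ n) ∧ Cfsg.detOrder χ = Cfsg.detOrder ϑ) ∧ ∀ χ' : G → ℂ, Cfsg.IsIrrCharacter G χ' → (∀ n : N, χ' n = ϑ n) → Nat.Coprime N.index (Cfsg.detOrder χ') → χ' = χ := by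
  have hcop' : Nat.Coprime N.index d := Nat.Coprime.coprime_mul_left_right hcop
  have hcopo : Nat.Coprime N.index (orderOf (detChar ϑ)) := Nat.Coprime.coprime_mul_right_right hcop
  obtain ⟨η, hη, hres⟩ := exists_extension_of_witness hϑ hinv hd fun p hp =>
    witness_of_coprime hϑ hcop hp
  obtain ⟨δ, hδ⟩ := isCharacter_detChar hη
  have hδN : ∀ m : N, (δ m : ℂ) = detChar ϑ m := fun m => by
    rw [detChar_comp hη N.subtype hϑ hres m, hδ]
    rfl
  obtain ⟨l, hlN, hlo⟩ := exists_linear_adjust (N := N) δ (congrArg orderOf (funext hδN)) hcopo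
  obtain ⟨χ, hχ, hχN, hχd⟩ := exists_ext_det hϑ hd hcop' hη hres l fun m => by rw [hlN, hδN]
  have hord : Cfsg.detOrder χ = Cfsg.detOrder ϑ := by
    unfold Cfsg.detOrder
    rw [hχd, orderOf_unitsFun, hlo]
  refine ⟨χ, ⟨hχ, hχN, hord⟩, fun χ' hχ' hχ'N hc => ext_unique hϑ hd hcop' hχ hχ' hχN hχ'N ?_⟩
  obtain ⟨l', hl'⟩ := isCharacter_detChar hχ'
  rw [hl', hχd]
  unfold Cfsg.detOrder at hc
  rw [hl', orderOf_unitsFun] at hc
  rw [linear_unique (N := N) (l := l') (l' := l) (fun m => Units.ext (by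
    rw [hlN, hδN, detChar_comp hχ' N.subtype hϑ hχ'N m, hl']
    rfl)) hc (hlo ▸ hcopo)]

end Cfsg.Agent.S0867
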