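import Cfsg.Statements.S1500
import Cfsg.Agent.Lib.Char.DadeGen

set_option autoImplicit false
open Cfsg

namespace Cfsg.Agent.S1500

open Cfsg.Agent.Char

open Cfsg.Agent.Char.Dade

open scoped ComplexConjugate

/-- Under the Dade hypothesis for (A, L, H), let α be a class function of L vanishing outside A. Then (i) for every class function β of L vanishing outside A, the inner product over G of the Dade images of α and β equals the inner product of α and β over L; and (ii) for every class function χ of G and every function ψ on L whose value at each a ∈ A is the average of χ over the coset a·H(a), the inner product over G of the Dade image of α with χ equals the inner product over L of α with ψ. -/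
theorem result {G : Type*} [Group G] [Fintype G] (A : Set G) (L : Subgroup G) [Fintype L] (H : G → Subgroup G) (hD : Cfsg.DadeHypothesis A L H) (α : L → ℂ) (hα : Cfsg.IsClassFunction L α) (hαA : ∀ x : L, (x : G) ∉ A → α x = 0) : (∀ β : L → ℂ, Cfsg.IsClassFunction L β → (∀ x : L, (x : G) ∉ A → β x = 0) → Cfsg.classInner (Cfsg.dadeIsometry A L H α) (Cfsg.dadeIsometry A L H β) = Cfsg.classInner α β) ∧ (∀ (χ : G → ℂ) (ψ : L → ℂ), Cfsg.IsClassFunction G χ → (∀ a : L, (a : G) ∈ A → ψ a = (Nat.card (H a) : ℂ)⁻¹ * ∑ᶠ u ∈ (H a : Set G), χ (a * u)) → Cfsg.classInner (Cfsg.dadeIsometry A L H α) χ = Cfsg.classInner α ψ) := by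
  classical
  have key : ∀ (χ : G → ℂ), IsClassFunction G χ → classInner (dadeIsometry A L H α) χ =
      (Nat.card L : ℂ)⁻¹ * ∑ a : L, if (a : G) ∈ A then α a * conj ((Nat.card (H a) : ℂ)⁻¹ *
        ∑ u ∈ Finset.univ.filter (fun u : G => u ∈ H a), χ (a * u)) else 0 := by
    intro χ hχ
    simp only [classInner]
    rw [average hD (fun g => dadeIsometry A L H α g * conj (χ g))
      (fun g y => by rw [dade_classFun hD hα, hχ]) (fun g hg => by rw [dade_eq_zero hg, zero_mul]),
      sum_subgroup_extend hD]
    congr 1
    refine Finset.sum_congr rfl fun a _ => ?_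
    split_ifs with ha
    · rw [map_mul, map_inv₀, map_natCast, map_sum, mul_left_comm (α a), Finset.mul_sum (a := α a)]
      congr 1
      refine Finset.sum_congr rfl fun u hu => ?_
      rw [dade_apply_coset hD hα ha (by simpa using hu), extendByZero_apply]
    · rfl
  have main : ∀ (χ : G → ℂ) (ψ : L → ℂ), IsClassFunction G χ → (∀ a : L, (a : G) ∈ A →
      ψ a = (Nat.card (H a) : ℂ)⁻¹ * ∑ u ∈ Finset.univ.filter (fun u : G => u ∈ H a), χ (a * u)) →
      classInner (dadeIsometry A L H α) χ = classInner α ψ := by
    intro χ ψ hχ hψ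
    rw [key χ hχ, classInner]
    congr 1
    refine Finset.sum_congr rfl fun a _ => ?_
    split_ifs with ha
    · rw [hψ a ha]
    · rw [hαA a ha, zero_mul]
  refine ⟨fun β hβ hβA => main _ β (dade_classFun hD hβ) fun a ha => ?_,
    fun χ ψ hχ hψ => main χ ψ hχ fun a ha => by rw [hψ a ha, finsum_subgroup]⟩
  rw [Finset.sum_congr rfl fun u hu => by rw [dade_apply_coset hD hβ ha (by simpa using hu)],
    extendByZero_apply, Finset.sum_const, nsmul_eq_mul, ← Fintype.card_subtype,
    ← Nat.card_eq_fintype_card, inv_mul_cancel_left₀ (Nat.cast_ne_zero.mpr Nat.card_pos.ne')]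

end Cfsg.Agent.S1500
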