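import Cfsg.Statements.S4436
import Cfsg.Agent.Lib.Char.FongReynolds

set_option autoImplicit false
open Cfsg

namespace Cfsg.Agent.S4436

/-- Let N be a normal subgroup of the finite group G, b a block of N (relative to a maximal ideal M of the algebraic integers containing p), T the stabilizer of b in G, N ≤ T, and B′ a block of T covering b (some member of B′ has a constituent in b on restriction to N) that induces the block B of G. Then every defect group of B′ is a defect group of B, and for every ψ ∈ B′ the induced character ψ^G is an irreducible character of G lying in B with the same height as ψ. -/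
theorem result {G : Type*} [Group G] [Fintype G] (p : ℕ) [Fact p.Prime] (M : Ideal Cfsg.AlgInt) (hM : Cfsg.IsPModular p M) (N : Subgroup G) [hN : N.Normal] [Fintype N] (b : Set (Cfsg.IrrCharacter N)) (hb : Cfsg.IsPBlock M b) (T : Subgroup G) [Fintype T] (hT : ∀ g : G, g ∈ T ↔ ∀ θ ∈ b, ∀ θ' : Cfsg.IrrCharacter N, (∀ n : N, (θ' : N → ℂ) n = (θ : N → ℂ) ⟨g * n * g⁻¹, hN.conj_mem n n.2 g⟩) → θ' ∈ b) (hNT : N ≤ T) (B' : Set (Cfsg.IrrCharacter T)) (hB' : Cfsg.IsPBlock M B') (hcov : (∃ ψ ∈ B', ∃ θ ∈ b, Cfsg.classInner (fun n : N => (ψ : T → ℂ) ⟨(n : G), hNT n.2⟩) (θ : N → ℂ) ≠ 0)) (B : Set (Cfsg.IrrCharacter G)) (hind : Cfsg.IsInducedBlock M T B' B) : (∀ D : Subgroup T, Cfsg.IsDefectGroup p M B' D → Cfsg.IsDefectGroup p M B (D.map T.subtype)) ∧ ∀ ψ ∈ B', ∃ χ ∈ B, (χ : G → ℂ) = Cfsg.indFun T (ψ : T → ℂ) ∧ Cfsg.blockHeight p B (χ : G → ℂ) = Cfsg.blockHeight p B' (ψ : T → ℂ) := by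
  obtain ⟨hall, C, hC, hmem, -⟩ := Agent.Char.FR.induced hM hb hT hNT hB' hcov
  rw [Agent.Block.induced_unique hM hC hind] at hmem
  have hi : T.index ≠ 0 := Subgroup.index_ne_zero_of_finite
  have hdeg : ∀ (χ : Cfsg.IrrCharacter G) (ψ : Cfsg.IrrCharacter T),
      (χ : G → ℂ) = Cfsg.indFun T (ψ : T → ℂ) →
      (Cfsg.charDegree (χ : G → ℂ)).factorization p =
        T.index.factorization p + (Cfsg.charDegree (ψ : T → ℂ)).factorization p := by
    intro χ ψ h
    have e : Cfsg.charDegree (χ : G → ℂ) = T.index * Cfsg.charDegree (ψ : T → ℂ) := by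
      have h1 := Agent.Block.charDeg_spec' χ
      rw [h, Agent.Char.indFun_one_eq, Agent.Block.charDeg_spec' ψ, ← Nat.cast_mul] at h1
      rw [h]
      exact_mod_cast h1.symm
    rw [e, Nat.factorization_mul hi (Agent.Block.charDeg_pos ψ).ne', Finsupp.add_apply]
  obtain ⟨ψ₀, hψ₀⟩ := Agent.Block.pblock_nonempty hM hB'
  set S := (fun ψ : Cfsg.IrrCharacter T => (Cfsg.charDegree (ψ : T → ℂ)).factorization p) '' B'
    with hS
  set S' := (fun χ : Cfsg.IrrCharacter G => (Cfsg.charDegree (χ : G → ℂ)).factorization p) '' B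
    with hS'
  have hSne : S.Nonempty := ⟨_, ψ₀, hψ₀, rfl⟩
  have hinf : sInf S' = T.index.factorization p + sInf S := by
    obtain ⟨ψ, hψ, hψe⟩ := Nat.sInf_mem hSne
    obtain ⟨χ, hχ, -⟩ := Agent.Char.FR.ind_of_over hM hb hT hNT (hall ψ hψ)
    refine le_antisymm (Nat.sInf_le ⟨χ, (hmem χ).mpr ⟨ψ, hψ, hχ⟩, ?_⟩)
      (le_csInf (s := S') ⟨_, χ, (hmem χ).mpr ⟨ψ, hψ, hχ⟩, rfl⟩ ?_)
    · show (Cfsg.charDegree (χ : G → ℂ)).factorization p = _
      rw [hdeg χ ψ hχ, ← hψe]
    · rintro _ ⟨χ', hχ', rfl⟩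
      obtain ⟨ψ', hψ', e⟩ := (hmem χ').mp hχ'
      show _ ≤ (Cfsg.charDegree (χ' : G → ℂ)).factorization p
      rw [hdeg χ' ψ' e]
      have h6 : sInf S ≤ (Cfsg.charDegree (ψ' : T → ℂ)).factorization p := Nat.sInf_le ⟨ψ', hψ', rfl⟩
      omega
  refine ⟨fun D hD => ?_, fun ψ hψ => ?_⟩
  · obtain ⟨E, hE, hle⟩ := Agent.Block.exists_defectGroup_ge_map hM hind hD
    have hdd : Cfsg.blockDefect p B = Cfsg.blockDefect p B' := by
      have hG : (Nat.card G).factorization p =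
          T.index.factorization p + (Nat.card T).factorization p := by
        rw [← T.index_mul_card, Nat.factorization_mul hi Nat.card_pos.ne', Finsupp.add_apply]
      simp only [Cfsg.blockDefect, ← hS, ← hS', hinf, hG]
      omega
    have hcard : Nat.card E ≤ Nat.card (D.map T.subtype) := by
      rw [Agent.Block.card_defectGroup hM hind.2.1 hE,
        Subgroup.card_map_of_injective T.subtype_injective,
        Agent.Block.card_defectGroup hM hB' hD, hdd]
    exact (Subgroup.eq_of_le_of_card_ge hle hcard).symm ▸ hE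
  · obtain ⟨χ, hχ, -⟩ := Agent.Char.FR.ind_of_over hM hb hT hNT (hall ψ hψ)
    refine ⟨χ, (hmem χ).mpr ⟨ψ, hψ, hχ⟩, hχ, ?_⟩
    simp only [Cfsg.blockHeight, ← hS, ← hS', hinf, hdeg χ ψ hχ]
    omega

end Cfsg.Agent.S4436
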