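import Cfsg.Statements.S1524
import Cfsg.Agent.Lib.Char.TIStar

set_option autoImplicit false
open Cfsg
open scoped Pointwise

namespace Cfsg.Agent.S1524

/-- Let G be a finite group and H ≤ L subgroups with L of odd order, H ≠ ⊥ nilpotent and normal in L with a nontrivial complement W₁ in L (H ⊓ W₁ = ⊥, H ⊔ W₁ = L) acting on H without non-identity fixed points (L is a Frobenius group with kernel H), and suppose the underlying set of H is a TI-subset of G whose normaliser is L. Let S be the set of functions on L induced from the non-principal irreducible characters of H. Then (S, L minus 1, induction to G) is coherent. -/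
theorem result {G : Type*} [Group G] [Fintype G] (H L W₁ : Subgroup G) [Fintype L] (hodd : Odd (Nat.card L)) (hHL : H ≤ L) (hW₁L : W₁ ≤ L) (hH1 : H ≠ ⊥) (hW1 : W₁ ≠ ⊥) (hnil : Group.IsNilpotent H) (hHn : ∀ x ∈ L, ∀ h ∈ H, x * h * x⁻¹ ∈ H) (hinf : H ⊓ W₁ = ⊥) (hsup : H ⊔ W₁ = L) (hfpf : ∀ w ∈ W₁, w ≠ 1 → ∀ h ∈ H, w * h = h * w → h = 1) (hTI : Cfsg.IsTISubset (H : Set G)) (hN : Subgroup.normalizer (H : Set G) = L) : Cfsg.IsCoherent (Cfsg.inducedIrrAbove (H.subgroupOf L) ⊥) {1}ᶜ (fun α : L → ℂ => Cfsg.indFun L α) := by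
  classical
  subst hN
  have hlt : H < (Subgroup.normalizer (H : Set G)) := lt_of_le_of_ne hHL fun e => hW1 (eq_bot_iff.2 (by
    rw [← hinf]; exact le_inf (hW₁L.trans e.ge) le_rfl))
  have hcN : ∀ k ∈ H, k ≠ 1 → ∀ x : G, x * k = k * x → x ∈ (Subgroup.normalizer (H : Set G)) := fun k hk hk1 x hx =>
    by_contra fun h => hk1 (hTI x h k hk (by rw [hx, mul_inv_cancel_right]; exact hk))
  have hC : ∀ k ∈ H, k ≠ 1 → Subgroup.centralizer ({k} : Set G) ≤ H := by
    intro k hk hk1 x hx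
    have hxk := Subgroup.mem_centralizer_singleton_iff.1 hx
    have hxN : x ∈ H ⊔ W₁ := hsup.symm ▸ hcN k hk hk1 x hxk
    have hxS : x ∈ ((H : Set G) * (W₁ : Set G)) := by
      rw [← Subgroup.coe_mul_of_right_le_normalizer_left H W₁ hW₁L]; exact hxN
    obtain ⟨h, hh, w, hw, rfl⟩ := Set.mem_mul.1 hxS
    by_cases hw1 : w = 1
    · rw [hw1, mul_one]; exact hh
    exfalso
    have hwN : w ∈ (Subgroup.normalizer (H : Set G)) := hW₁L hw
    let φ : H → H := fun j => ⟨(j : G)⁻¹ * (w * j * w⁻¹),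
      H.mul_mem (H.inv_mem j.2) ((Subgroup.mem_normalizer_iff.1 hwN _).1 j.2)⟩
    have hinj : Function.Injective φ := fun a b e => by
      have e' : (a : G)⁻¹ * (w * a * w⁻¹) = (b : G)⁻¹ * (w * b * w⁻¹) := congrArg Subtype.val e
      have e2 : w * ((a : G) * (b : G)⁻¹) = ((a : G) * (b : G)⁻¹) * w := by
        calc w * ((a : G) * (b : G)⁻¹)
            = (a : G) * ((a : G)⁻¹ * (w * a * w⁻¹)) * (w * (b : G)⁻¹ * w⁻¹) * w := by group
          _ = (a : G) * ((b : G)⁻¹ * (w * b * w⁻¹)) * (w * (b : G)⁻¹ * w⁻¹) * w := by rw [e']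
          _ = ((a : G) * (b : G)⁻¹) * w := by group
      exact Subtype.ext (mul_inv_eq_one.1 (hfpf w hw hw1 _ (H.mul_mem a.2 (H.inv_mem b.2)) e2))
    obtain ⟨j, hj⟩ := (Finite.injective_iff_surjective.1 hinj) ⟨h, hh⟩
    have hj' : (j : G)⁻¹ * (w * j * w⁻¹) = h := congrArg Subtype.val hj
    have hk' : (j : G) * k * (j : G)⁻¹ ∈ H := H.mul_mem (H.mul_mem j.2 hk) (H.inv_mem j.2)
    have e3 : w * ((j : G) * k * (j : G)⁻¹) = ((j : G) * k * (j : G)⁻¹) * w := by
      calc w * ((j : G) * k * (j : G)⁻¹)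
          = (j : G) * (((j : G)⁻¹ * (w * j * w⁻¹) * w) * k) * (j : G)⁻¹ := by group
        _ = (j : G) * (h * w * k) * (j : G)⁻¹ := by rw [hj']
        _ = (j : G) * (k * (h * w)) * (j : G)⁻¹ := by rw [hxk]
        _ = (j : G) * (k * ((j : G)⁻¹ * (w * j * w⁻¹) * w)) * (j : G)⁻¹ := by rw [hj']
        _ = _ := by group
    exact hk1 (conj_eq_one_iff.1 (hfpf w hw hw1 _ hk' e3))
  have h := Cfsg.Agent.Char.KerSets.sibley H hTI hlt hC hH1 hodd
  have e := Cfsg.Agent.Char.KerSets.inducedIrrAbove_eq (Cfsg.Agent.Char.FrobTI.KN H)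
    (Cfsg.Agent.Char.KerSets.cent_KN H hC)
  exact e.symm ▸ h

end Cfsg.Agent.S1524
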