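import Cfsg.Statements.S1451
import Cfsg.Agent.Lib.Transfer.OddRankTwoStructure
import Cfsg.Agent.Lib.Grp.CoprimeHall
import Cfsg.Agent.Lib.Transfer.Elements

set_option maxHeartbeats 1000000
set_option maxRecDepth 8000

set_option autoImplicit false
open Cfsg

namespace Cfsg.Agent.S1451

open scoped commutatorElement

theorem eq_one_of_primary {G : Type*} [Group G] {q r : ℕ} [Fact q.Prime] [Fact r.Prime] (hqr : q ≠ r) {x : G}
    {i j : ℕ} (h1 : x ^ q ^ i = 1) (h2 : x ^ r ^ j = 1) : x = 1 :=
  orderOf_eq_one_iff.1 (Nat.eq_one_of_dvd_coprimes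
    (((Nat.coprime_primes (Fact.out : q.Prime) (Fact.out : r.Prime)).2 hqr).pow i j)
    (orderOf_dvd_of_pow_eq_one h1) (orderOf_dvd_of_pow_eq_one h2))

theorem mem_pCore_of_mem_fitting {G : Type*} [Group G] [Finite G] {s : ℕ} [Fact s.Prime] {y : G}
    (hy : y ∈ Cfsg.fittingSubgroup G) {j : ℕ} (hj : y ^ s ^ j = 1) : y ∈ Cfsg.pCore s G := by
  haveI := Transfer.fittingSubgroup_normal' G
  set F := Cfsg.fittingSubgroup G
  have hz : IsPGroup s (Subgroup.zpowers (⟨y, hy⟩ : F)) := by
    obtain ⟨i, -, hi⟩ := (Nat.dvd_prime_pow Fact.out).1 (orderOf_dvd_of_pow_eq_one hj)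
    exact IsPGroup.of_card (n := i) (by rw [Nat.card_zpowers, Subgroup.orderOf_mk, hi])
  obtain ⟨P, hP⟩ := hz.exists_le_sylow
  haveI := Transfer.fittingSubgroup_isNilpotent (G := G)
  haveI : (P : Subgroup F).Characteristic := Sylow.characteristic_of_normal P inferInstance
  exact Transfer.le_pCore (inferInstance : ((P : Subgroup F).map F.subtype).Normal) (P.isPGroup'.map _)
    ⟨_, hP (Subgroup.mem_zpowers _), rfl⟩

theorem small_prime {q r : ℕ} (hr : r.Prime) (hr2 : r ≠ 2) (hq : q.Prime) (hq2 : q ≠ 2)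
    (h : q ∣ (r - 1) * (r + 1)) : q < r := by
  have := hr.two_le
  rcases (hq.dvd_mul).1 h with h | h
  · exact lt_of_le_of_lt (Nat.le_of_dvd (by omega) h) (by omega)
  · obtain ⟨c, hc⟩ := h
    obtain ⟨j, hj⟩ := hq.eq_two_or_odd'.resolve_left hq2
    obtain ⟨k, hk⟩ := hr.eq_two_or_odd'.resolve_left hr2
    rcases (show c = 0 ∨ c = 1 ∨ 2 ≤ c by omega) with rfl | rfl | hc2
    · omega
    · omega
    · have : q * 2 ≤ q * c := Nat.mul_le_mul_left q hc2
      omega

theorem pCore_two_eq_bot {G : Type*} [Group G] [Finite G] (hodd : Odd (Nat.card G)) {y : G}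
    (hy : y ∈ Cfsg.pCore 2 G) : y = 1 := by
  haveI : Fact (Nat.Prime 2) := ⟨Nat.prime_two⟩
  obtain ⟨j, hj⟩ := Transfer.pCore_isPGroup 2 G ⟨y, hy⟩
  exact orderOf_eq_one_iff.1 (Nat.eq_one_of_dvd_coprimes ((Nat.coprime_two_left.2 hodd).pow_left j)
    (orderOf_dvd_of_pow_eq_one (congrArg Subtype.val hj)) (orderOf_dvd_natCard y))

theorem commute_of_conjNormal {G : Type*} [Group G] {N : Subgroup G} [N.Normal] {x : G}
    (h : (MulAut.conjNormal x : MulAut N) = 1) {y : G} (hy : y ∈ N) : x * y = y * x := by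
  have h2 : x * y * x⁻¹ = y := by
    have := congrArg (fun e : MulAut N => ((e ⟨y, hy⟩ : N) : G)) h
    simpa using this
  exact mul_inv_eq_iff_eq_mul.1 h2

section Body
variable {G : Type*} [Group G] [Finite G] [Group.IsSolvable G]

/-- A derived element of `q`-power order centralizes `O_r(G)` for `r ≠ q`. -/
theorem derived_commute (hodd : Odd (Nat.card G)) (hD : ∀ r : ℕ, ∀ [Fact r.Prime], r ≠ 2 → ∀ A : Subgroup (MulAut (Cfsg.pCore r G)), Odd (Nat.card A) →
      Group.IsSolvable A → IsPGroup r (commutator A))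
    (q r : ℕ) [Fact q.Prime] [Fact r.Prime] (hqr : q ≠ r) {x : G} (hx : x ∈ commutator G) {i : ℕ}
    (hxi : x ^ q ^ i = 1) {y : G} (hy : y ∈ Cfsg.pCore r G) : x * y = y * x := by
  by_cases hr2 : r = 2
  · subst hr2
    rw [pCore_two_eq_bot hodd hy, mul_one, one_mul]
  haveI : (Cfsg.pCore r G).Normal := Transfer.pCore_normal' r G
  let f : G →* MulAut (Cfsg.pCore r G) := MulAut.conjNormal
  have h := hD r hr2 f.range (hodd.of_dvd_nat (Subgroup.card_range_dvd f))
    (Group.isSolvable_of_surjective f.rangeRestrict_surjective)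
  have hm : f.rangeRestrict x ∈ commutator f.range := by
    have h1 : (commutator G).map f.rangeRestrict ≤ commutator f.range := by
      rw [_root_.commutator_def, _root_.commutator_def, Subgroup.map_commutator]
      exact Subgroup.commutator_mono le_top le_top
    exact h1 ⟨x, hx, rfl⟩
  obtain ⟨j, hj⟩ := h ⟨_, hm⟩
  exact commute_of_conjNormal (eq_one_of_primary hqr (i := i) (j := j) (by rw [← map_pow, hxi, map_one])
    (congrArg (fun w => ((w : commutator f.range) : f.range).1) hj)) hy

theorem derived_le_fitting (hodd : Odd (Nat.card G)) (hD : ∀ r : ℕ, ∀ [Fact r.Prime], r ≠ 2 → ∀ A : Subgroup (MulAut (Cfsg.pCore r G)), Odd (Nat.card A) →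
      Group.IsSolvable A → IsPGroup r (commutator A)) :
    commutator G ≤ Cfsg.fittingSubgroup G := by
  classical
  intro x hx
  refine Transfer.prime_parts x _ fun q hq y hyq hyz => ?_
  haveI := Fact.mk hq
  have hyD : y ∈ commutator G := (Subgroup.zpowers_le.2 hx) hyz
  -- the subgroup centralizing all cores but the `q`-core
  let C : {r : (Nat.card G).primeFactors // (r : ℕ) ≠ q} → Subgroup G := fun r =>
    Subgroup.centralizer (Cfsg.pCore (r.1 : ℕ) G : Set G)
  set L := commutator G ⊓ ⨅ r, C r with hL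
  haveI : ∀ r, (C r).Normal := fun r => by
    haveI := Transfer.pCore_normal' (r.1 : ℕ) G
    infer_instance
  haveI : (⨅ r, C r).Normal := Subgroup.normal_iInf_normal inferInstance
  have hmemC : ∀ {z : G}, z ∈ ⨅ r, C r ↔ ∀ r : ℕ, r ∈ (Nat.card G).primeFactors → r ≠ q →
      z ∈ Subgroup.centralizer (Cfsg.pCore r G : Set G) := fun {z} => by
    rw [Subgroup.mem_iInf]
    exact ⟨fun h r hr hne => h ⟨⟨r, hr⟩, hne⟩, fun h r => h _ r.1.2 r.2⟩
  have hyL : y ∈ L := by
    refine ⟨hyD, hmemC.2 fun r hr hne => Subgroup.mem_centralizer_iff.2 fun z hz => ?_⟩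
    haveI := Fact.mk (Nat.prime_of_mem_primeFactors hr)
    obtain ⟨k, hk⟩ := hyq
    exact (derived_commute hodd hD q r hne.symm hyD (i := k) (by rw [← hk, pow_orderOf_eq_one]) hz).symm
  -- elements of `L` of order prime to `q` are central
  have hcen : ∀ (s : ℕ) [Fact s.Prime], s ≠ q → ∀ z ∈ L, ∀ j, z ^ s ^ j = 1 → ∀ w ∈ L, Commute z w := by
    intro s _ hsq z hz j hj w hw
    by_cases hz1 : z = 1
    · rw [hz1]; exact Commute.one_left w
    have hzF : z ∈ Cfsg.fittingSubgroup G := by
      refine Grp.centralizer_fittingSubgroup_le ?_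
      rw [Transfer.fittingSubgroup_eq_iSup_pCore, Subgroup.mem_centralizer_iff]
      intro u hu
      have hle : (⨆ r : (Nat.card G).primeFactors, Cfsg.pCore (r : ℕ) G) ≤ Subgroup.centralizer ({z} : Set G) := by
        refine iSup_le fun ⟨r, hr⟩ v hv => Subgroup.mem_centralizer_singleton_iff.2 ?_
        haveI := Fact.mk (Nat.prime_of_mem_primeFactors hr)
        by_cases hrq : r = q
        · subst hrq; exact (derived_commute hodd hD s r hsq hz.1 hj hv).symm
        · exact Subgroup.mem_centralizer_iff.1 (hmemC.1 hz.2 r hr hrq) v hv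
      exact Subgroup.mem_centralizer_singleton_iff.1 (hle hu)
    have hzs := mem_pCore_of_mem_fitting hzF hj
    have hsG : s ∈ (Nat.card G).primeFactors := Nat.mem_primeFactors.2 ⟨Fact.out, by
      obtain ⟨i, -, hi⟩ := (Nat.dvd_prime_pow Fact.out).1 (orderOf_dvd_of_pow_eq_one hj)
      rcases i with _ | i
      · exact absurd (orderOf_eq_one_iff.1 (by simpa using hi)) hz1
      · exact ((dvd_pow_self s i.succ_ne_zero).trans hi.symm.dvd).trans (orderOf_dvd_natCard z), Nat.card_pos.ne'⟩
    exact Subgroup.mem_centralizer_iff.1 (hmemC.1 hw.2 s hsG hsq) z hzs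
  have hnil : Group.IsNilpotent L := by
    refine ((Group.isNilpotent_of_finite_tfae (G := L)).out 0 3).2 fun s hs P => ?_
    haveI := hs
    by_cases hsq : s = q
    · subst hsq
      rw [← Subgroup.normalizer_eq_top_iff, ← Subgroup.index_eq_one]
      by_contra hne
      obtain ⟨t, ht, htd⟩ := Nat.exists_prime_and_dvd hne
      haveI := Fact.mk ht
      by_cases hts : t = s
      · subst hts
        exact P.not_dvd_index (htd.trans (Subgroup.index_dvd_of_le Subgroup.le_normalizer))
      · obtain ⟨T⟩ : Nonempty (Sylow t L) := Sylow.nonempty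
        refine T.not_dvd_index (htd.trans (Subgroup.index_dvd_of_le fun v hv => ?_))
        obtain ⟨k, hk⟩ := T.isPGroup' ⟨v, hv⟩
        refine Subgroup.centralizer_le_normalizer _ (Subgroup.mem_centralizer_iff.2 fun u _ => Subtype.ext ?_)
        exact (hcen t hts v v.2 k (congrArg (fun a : (T : Subgroup L) => ((a : L) : G)) hk) u u.2).symm
    · refine ⟨fun u hu w => ?_⟩
      obtain ⟨j, hj⟩ := P.isPGroup' ⟨u, hu⟩
      have h1 : Commute (u : G) (w : G) := hcen s hsq u u.2 j
        (congrArg (fun a : (P : Subgroup L) => ((a : L) : G)) hj) w w.2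
      rwa [show w * u * w⁻¹ = u from mul_inv_eq_iff_eq_mul.2 (Subtype.ext h1.symm)]
  have hLn : L ∈ {N : Subgroup G | N.Normal ∧ Group.IsNilpotent N} := ⟨inferInstance, hnil⟩
  exact le_sSup hLn hyL

end Body

/-- Let G be a solvable group of odd order such that G, or its Fitting subgroup, has no elementary abelian subgroup of order q ^ 3 for any prime q. Then G' is nilpotent; for every Sylow subgroup S of G, every characteristic subgroup T of S with T ≤ [S, S] is normal in G; and for every prime p, G has a characteristic subgroup that is a Hall subgroup for the set of primes greater than p. -/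
theorem result {G : Type*} [Group G] [Finite G] [Group.IsSolvable G] (hodd : Odd (Nat.card G)) (hr : Cfsg.RankLE 2 G ∨ Cfsg.RankLE 2 (Cfsg.fittingSubgroup G)) :
    Group.IsNilpotent ↥(commutator G) ∧
      (∀ (q : ℕ) [Fact q.Prime] (S : Sylow q G) (T : Subgroup ↥(S : Subgroup G)), T.Characteristic → T.map (S : Subgroup G).subtype ≤ ⁅(S : Subgroup G), (S : Subgroup G)⁆ →
        (T.map (S : Subgroup G).subtype).Normal) ∧
      ∀ p : ℕ, ∃ N : Subgroup G, N.Characteristic ∧ Cfsg.IsPiHall {q | q.Prime ∧ p < q} N := by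

  have hFr : ∀ r : ℕ, r.Prime → Cfsg.PRankLE r 2 (Cfsg.pCore r G) := by
    intro r hrp
    haveI := Fact.mk hrp
    rcases hr with h | h
    · exact Transfer.RankTwo.rankLE_subgroup (h r hrp) _
    · intro A hA hAe
      have hle : A.map (Cfsg.pCore r G).subtype ≤ Cfsg.fittingSubgroup G :=
        le_trans (Subgroup.map_subtype_le A) (Transfer.pCore_le_fittingSubgroup r)
      have := h r hrp ((A.map (Cfsg.pCore r G).subtype).subgroupOf (Cfsg.fittingSubgroup G)) ⟨⟨fun a b => ?_⟩⟩
        (fun a ha => ?_)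
      · rwa [Nat.card_congr (Subgroup.subgroupOfEquivOfLe hle).toEquiv,
          Subgroup.card_map_of_injective (Cfsg.pCore r G).subtype_injective] at this
      · obtain ⟨a', ha', hae⟩ := a.2
        obtain ⟨b', hb', hbe⟩ := b.2
        refine Subtype.ext (Subtype.ext ?_)
        show ((a : Cfsg.fittingSubgroup G) : G) * (b : Cfsg.fittingSubgroup G) = (b : Cfsg.fittingSubgroup G) * (a : Cfsg.fittingSubgroup G)
        rw [show ((a : Cfsg.fittingSubgroup G) : G) = a' from hae.symm, show ((b : Cfsg.fittingSubgroup G) : G) = b' from hbe.symm]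
        exact congrArg (fun z : A => ((z : Cfsg.pCore r G) : G)) (hA.is_comm.comm ⟨a', ha'⟩ ⟨b', hb'⟩)
      · obtain ⟨a', ha', hae⟩ := ha
        refine Subtype.ext ?_
        rw [SubmonoidClass.coe_pow, show (a : G) = a' from hae.symm]
        exact congrArg Subtype.val (hAe a' ha')
  set F := Cfsg.fittingSubgroup G with hFdef
  haveI : F.Normal := Transfer.fittingSubgroup_normal' G
  have hDF := derived_le_fitting hodd fun r _ hr2 A hA hs =>
    Transfer.OddRankTwo.derived_isPGroup_of_faithful hr2 (Transfer.pCore_isPGroup r G) (hFr r Fact.out) hA hs A.subtype A.subtype_injective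
  haveI := Transfer.fittingSubgroup_isNilpotent (G := G)
  refine ⟨Group.nilpotent_of_mulEquiv (Subgroup.subgroupOfEquivOfLe hDF), fun q _ S T hT hTS => ?_, fun p => ?_⟩
  · have hTq : T.map (S : Subgroup G).subtype ≤ Cfsg.pCore q G := by
      intro t ht
      obtain ⟨t', ht', rfl⟩ := ht
      obtain ⟨j, hj⟩ := S.isPGroup' t'
      exact mem_pCore_of_mem_fitting (hDF (by
        rw [_root_.commutator_def]
        exact Subgroup.commutator_mono le_top le_top (hTS ⟨t', ht', rfl⟩))) (congrArg Subtype.val hj)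
    rw [← Subgroup.normalizer_eq_top_iff, eq_top_iff]
    set M := (S : Subgroup G) ⊔ F
    haveI : M.Normal := ⟨fun m hm g => by
      have h : ⁅g, m⁆ ∈ commutator G := by
        rw [_root_.commutator_def]; exact Subgroup.commutator_mem_commutator (Subgroup.mem_top g) (Subgroup.mem_top m)
      have h2 := M.mul_mem ((le_sup_right : F ≤ M) (hDF h)) hm
      rwa [show ⁅g, m⁆ * m = g * m * g⁻¹ by rw [commutatorElement_def]; group] at h2⟩
    have hmap : ((S.subtype (le_sup_left : (S : Subgroup G) ≤ M) : Sylow q M) : Subgroup M).map M.subtype = S := by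
      ext x
      constructor
      · rintro ⟨y, hy, rfl⟩; exact hy
      · intro hx; exact ⟨⟨x, (le_sup_left : (S : Subgroup G) ≤ M) hx⟩, hx, rfl⟩
    rw [← Sylow.normalizer_sup_eq_top (S.subtype (le_sup_left : (S : Subgroup G) ≤ M)), hmap]
    refine sup_le ?_ (sup_le ?_ ?_)
    · intro g hg
      refine Subgroup.mem_normalizer_iff.2 fun x => ?_
      have key : ∀ g ∈ Subgroup.normalizer ((S : Subgroup G) : Set G), ∀ x ∈ T.map (S : Subgroup G).subtype,
          g * x * g⁻¹ ∈ T.map (S : Subgroup G).subtype := by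
        intro g hg x hx
        obtain ⟨y, hy, rfl⟩ := hx
        let e : (S : Subgroup G) ≃* (S : Subgroup G) :=
          { toFun := fun z => ⟨g * z * g⁻¹, (Subgroup.mem_normalizer_iff.1 hg z).1 z.2⟩
            invFun := fun z => ⟨g⁻¹ * z * g, (Subgroup.mem_normalizer_iff''.1 hg z).1 z.2⟩
            left_inv := fun z => Subtype.ext (by simp only [mul_assoc]; simp)
            right_inv := fun z => Subtype.ext (by simp only [mul_assoc]; simp)
            map_mul' := fun z w => Subtype.ext (by simp [mul_assoc]) }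
        exact ⟨e y, (Subgroup.characteristic_iff_map_eq.1 hT e).le ⟨y, hy, rfl⟩, rfl⟩
      refine ⟨key g hg x, fun h => ?_⟩
      simpa [mul_assoc] using key g⁻¹ (inv_mem hg) _ h
    · intro g hg
      refine Subgroup.mem_normalizer_iff.2 fun x => ?_
      obtain ⟨hg1, hg2⟩ := (⟨hg, (S : Subgroup G).inv_mem hg⟩ : g ∈ (S : Subgroup G) ∧ g⁻¹ ∈ (S : Subgroup G))
      have key : ∀ g ∈ (S : Subgroup G), ∀ x ∈ T.map (S : Subgroup G).subtype, g * x * g⁻¹ ∈ T.map (S : Subgroup G).subtype := by
        intro g hg x hx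
        obtain ⟨y, hy, rfl⟩ := hx
        haveI := hT
        exact ⟨⟨g, hg⟩ * y * (⟨g, hg⟩)⁻¹, (inferInstance : T.Normal).conj_mem y hy _, rfl⟩
      refine ⟨key g hg1 x, fun h => ?_⟩
      simpa [mul_assoc] using key g⁻¹ hg2 _ h
    · rw [hFdef, Transfer.fittingSubgroup_eq_iSup_pCore]
      refine iSup_le fun ⟨r, hrm⟩ v hv => ?_
      haveI := Fact.mk (Nat.prime_of_mem_primeFactors hrm)
      by_cases hrq : r = q
      · subst hrq
        refine Subgroup.mem_normalizer_iff.2 fun x => ?_
        haveI := hT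
        have key : ∀ g ∈ (S : Subgroup G), ∀ x ∈ T.map (S : Subgroup G).subtype, g * x * g⁻¹ ∈ T.map (S : Subgroup G).subtype := by
          intro g hg x hx
          obtain ⟨y, hy, rfl⟩ := hx
          exact ⟨⟨g, hg⟩ * y * (⟨g, hg⟩)⁻¹, (inferInstance : T.Normal).conj_mem y hy _, rfl⟩
        have hvS := Transfer.pCore_le_sylow S hv
        refine ⟨key v hvS x, fun h => ?_⟩
        simpa [mul_assoc] using key v⁻¹ ((S : Subgroup G).inv_mem hvS) _ h
      · exact Subgroup.centralizer_le_normalizer _
          (Subgroup.mem_centralizer_iff.2 fun t ht => Transfer.commute_pCore (Ne.symm hrq) (hTq ht) hv)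
  · set π : Set ℕ := {q | q.Prime ∧ p < q} with hπ
    obtain ⟨H, hH⟩ := Grp.PiHall.exists_piHall π (⊤ : Subgroup G)
    obtain ⟨-, hH1, hH2⟩ := id hH
    rw [Subgroup.relIndex_top_right] at hH2
    refine ⟨H, ?_, hH1, hH2⟩
    have hcopH : (Nat.card H).Coprime H.index := Nat.coprime_of_dvd fun t ht h1 h2 => hH2 t ht (hH1 t ht h1) h2
    -- `F` normalizes `H`
    have hFN : F ≤ Subgroup.normalizer (H : Set G) := by
      rw [hFdef, Transfer.fittingSubgroup_eq_iSup_pCore]
      refine iSup_le fun ⟨r, hrm⟩ v hv => ?_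
      haveI := Fact.mk (Nat.prime_of_mem_primeFactors hrm)
      haveI : (Cfsg.pCore r G).Normal := Transfer.pCore_normal' r G
      by_cases hrp : p < r
      · refine Subgroup.le_normalizer ?_
        obtain ⟨k, hk⟩ := Transfer.pCore_isPGroup r G ⟨v, hv⟩
        have hd : (orderOf v).Coprime H.index := Nat.Coprime.coprime_dvd_left
          (orderOf_dvd_of_pow_eq_one (congrArg Subtype.val hk))
          (((Nat.prime_of_mem_primeFactors hrm).coprime_iff_not_dvd.2
            (hH2 r (Nat.prime_of_mem_primeFactors hrm) ⟨Nat.prime_of_mem_primeFactors hrm, hrp⟩)).pow_left k)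
        -- a normal `π`-subgroup lies in every Hall subgroup
        have hle : Cfsg.pCore r G ≤ H := by
          obtain ⟨n, hn⟩ := IsPGroup.iff_card.1 (Transfer.pCore_isPGroup r G)
          obtain ⟨g, -, hg⟩ := Grp.PiHall.dominate hH (U := Cfsg.pCore r G) le_top (fun t ht htd => by
            rw [hn] at htd
            rw [(Nat.prime_dvd_prime_iff_eq ht (Fact.out : r.Prime)).1 (ht.dvd_of_dvd_pow htd)]
            exact ⟨Fact.out, hrp⟩)
          rw [← Subgroup.Normal.conjAct (H := Cfsg.pCore r G) inferInstance (ConjAct.toConjAct g)] at hg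
          exact Subgroup.pointwise_smul_le_pointwise_smul_iff.1 hg
        exact hle hv
      · refine Subgroup.centralizer_le_normalizer _ (Subgroup.mem_centralizer_iff.2 fun h hh => ?_)
        by_cases hr2 : r = 2
        · subst hr2
          rw [pCore_two_eq_bot hodd hv, mul_one, one_mul]
        let f : H →* MulAut (Cfsg.pCore r G) := MulAut.conjNormal.comp H.subtype
        by_contra hne
        have hf1 : f.range ≠ ⊥ := fun hb => hne (commute_of_conjNormal
          (show f ⟨h, hh⟩ = 1 from Subgroup.mem_bot.1 (hb ▸ ⟨⟨h, hh⟩, rfl⟩)) hv)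
        obtain ⟨t, ht, htd⟩ := Nat.exists_prime_and_dvd (n := Nat.card f.range)
          (fun h1 => hf1 (Subgroup.eq_bot_of_card_eq _ h1))
        haveI := Fact.mk ht
        obtain ⟨α, hα⟩ := exists_prime_orderOf_dvd_card' t htd
        obtain ⟨htp, hpt⟩ : t ∈ π := hH1 t ht (htd.trans (Subgroup.card_range_dvd f))
        have ht2 : t ≠ 2 := fun h2 => hodd.not_two_dvd_nat
          (h2 ▸ (htd.trans (Subgroup.card_range_dvd f)).trans (Subgroup.card_subgroup_dvd_card H))
        have htr : t ≠ r := by omega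
        have hdiv := Transfer.OddRankTwo.prime_dvd_of_aut hr2 (Transfer.pCore_isPGroup r G) (hFr r Fact.out) ht htr
          (α : MulAut (Cfsg.pCore r G)) (by rw [← hα]; exact orderOf_injective f.range.subtype f.range.subtype_injective α)
        have := small_prime (Fact.out : r.Prime) hr2 ht ht2 hdiv
        omega
    set M := H ⊔ F with hM
    have hMN : M ≤ Subgroup.normalizer (H : Set G) := sup_le Subgroup.le_normalizer hFN
    haveI : M.Normal := ⟨fun m hm g => by
      have h : ⁅g, m⁆ ∈ commutator G := by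
        rw [_root_.commutator_def]; exact Subgroup.commutator_mem_commutator (Subgroup.mem_top g) (Subgroup.mem_top m)
      have h2 := M.mul_mem ((le_sup_right : F ≤ M) (hDF h)) hm
      rwa [show ⁅g, m⁆ * m = g * m * g⁻¹ by rw [commutatorElement_def]; group] at h2⟩
    haveI := Subgroup.normal_subgroupOf_of_le_normalizer hMN
    -- `H` contains every `π`-element of `M`
    have hmem : ∀ x ∈ M, (orderOf x).Coprime H.index → x ∈ H := by
      intro x hx h
      have h1 : orderOf (QuotientGroup.mk' (H.subgroupOf M) ⟨x, hx⟩) = 1 := by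
        refine Nat.eq_one_of_dvd_coprimes h ((orderOf_map_dvd _ _).trans (by rw [Subgroup.orderOf_mk])) ?_
        exact (orderOf_dvd_natCard _).trans (Subgroup.relIndex_dvd_index_of_le (le_sup_left : H ≤ M))
      rw [orderOf_eq_one_iff] at h1
      exact (QuotientGroup.eq_one_iff (⟨x, hx⟩ : M)).1 h1
    haveI : H.Normal := ⟨fun x hx g => hmem _ ((inferInstance : M.Normal).conj_mem x ((le_sup_left : H ≤ M) hx) g)
      (by rw [← SemiconjBy.orderOf_eq g (SemiconjBy.conj_mk g x)]; exact Nat.Coprime.coprime_dvd_left (H.orderOf_dvd_natCard hx) hcopH)⟩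
    refine Subgroup.characteristic_iff_map_le.2 fun e => ?_
    rintro _ ⟨x, hx, rfl⟩
    have hd : (orderOf (e x)).Coprime H.index := by
      rw [MulEquiv.orderOf_eq]; exact Nat.Coprime.coprime_dvd_left (H.orderOf_dvd_natCard hx) hcopH
    have h1 : orderOf (QuotientGroup.mk' H (e x)) = 1 :=
      Nat.eq_one_of_dvd_coprimes hd (orderOf_map_dvd _ _) (orderOf_dvd_natCard _)
    rw [orderOf_eq_one_iff] at h1
    exact (QuotientGroup.eq_one_iff _).1 h1

end Cfsg.Agent.S1451
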