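import Cfsg.Statements.S1403
import Cfsg.Agent.Lib.Transfer.Local.ScnUnique

set_option maxHeartbeats 1000000
set_option maxRecDepth 8000

set_option autoImplicit false
open Cfsg

namespace Cfsg.Agent.S1403

/-- Let G be a minimal simple group of odd order and K a proper subgroup having an elementary abelian subgroup of order p ^ 2 for some prime p. If K, or its centralizer C_G(K), has an elementary abelian subgroup of order q ^ 3 for some prime q, then K lies in exactly one maximal subgroup of G. -/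
theorem result {G : Type*} [Group G] [Finite G] (hG : Cfsg.IsMinSimpleOddOrder G)
    (K : Subgroup G) (hK : K ≠ ⊤) (hK2 : ¬ Cfsg.RankLE 1 K)
    (hK3 : ¬ Cfsg.RankLE 2 K ∨ ¬ Cfsg.RankLE 2 (Subgroup.centralizer (K : Set G))) :
    Cfsg.InUniqueMaximal K := by

  unfold Cfsg.RankLE at hK2 hK3
  push Not at hK2 hK3
  obtain ⟨p, hp, hp2⟩ := hK2
  haveI := Fact.mk hp
  obtain ⟨F, hFK, hF, hF2⟩ := Cfsg.Agent.Transfer.Loc.exists_elem_of_not_prank hp2
  rcases hK3 with ⟨q, hq, hq3⟩ | ⟨q, hq, hq3⟩ <;>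
    haveI := Fact.mk hq <;> obtain ⟨E, hEK, hE, hE3⟩ := Cfsg.Agent.Transfer.Loc.exists_elem_of_not_prank hq3
  · exact Cfsg.Agent.Transfer.Loc.u_mono hG (Cfsg.Agent.Transfer.Loc.u_elem_three hG hE hE3) hEK hK
  · exact Cfsg.Agent.Transfer.Loc.u_of_centralizes hG (Cfsg.Agent.Transfer.Loc.u_elem_three hG hE hE3)
      (Subgroup.le_centralizer_iff.1 hEK) hFK hF hF2

end Cfsg.Agent.S1403
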