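import Cfsg.Statements.S1417
import Cfsg.Agent.Lib.Transfer.Local.PlaneCentral

set_option maxHeartbeats 1000000
set_option maxRecDepth 8000

set_option autoImplicit false
open Cfsg

namespace Cfsg.Agent.S1417

open Transfer Subgroup
open scoped Pointwise

/-- Let G be a minimal simple group of odd order, M a maximal subgroup, p ∈ τ₂(M) and A ≤ M elementary abelian of order p ^ 2. Then (a) M_σ is nilpotent; (b) every Sylow p-subgroup P of M is abelian, and if A ≤ P then the elements of P of order dividing p are exactly those of A and N_G(P) is not contained in M; (c) M normalizes M_σA; (d) M_σ ∩ C_G(A) = 1; (e) M_σ ∩ M* = 1 for every maximal subgroup M* ≠ M containing A; (f) M_σ ∩ C_G(A₁) = 1 for some subgroup A₁ ≤ A of order p. -/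
theorem result {G : Type*} [Group G] [Finite G] (hG : Cfsg.IsMinSimpleOddOrder G)
    (M : Subgroup G) (hM : IsCoatom M) (p : ℕ) [Fact p.Prime] (hp : p ∈ Cfsg.tau2 M) (A : Subgroup G) (hA : (A ≤ M ∧ Cfsg.IsElementaryAbelian p A ∧ Nat.card A = p ^ 2)) :
    Group.IsNilpotent (Cfsg.sigmaCore M) ∧
      (∀ P : Sylow p M, IsMulCommutative (P : Subgroup M) ∧
        (A ≤ (P : Subgroup M).map M.subtype →
          (∀ x ∈ (P : Subgroup M).map M.subtype, x ^ p = 1 ↔ x ∈ A) ∧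
          ¬ Subgroup.normalizer ((((P : Subgroup M).map M.subtype : Subgroup G)) : Set G) ≤ M)) ∧
      M ≤ Subgroup.normalizer ((Cfsg.sigmaCore M ⊔ A : Subgroup G) : Set G) ∧
      Cfsg.sigmaCore M ⊓ Subgroup.centralizer (A : Set G) = ⊥ ∧
      (∀ Mstar : Subgroup G, IsCoatom Mstar → Mstar ≠ M → A ≤ Mstar → Cfsg.sigmaCore M ⊓ Mstar = ⊥) ∧
      ∃ A₁ : Subgroup G, A₁ ≤ A ∧ Nat.card A₁ = p ∧ Cfsg.sigmaCore M ⊓ Subgroup.centralizer (A₁ : Set G) = ⊥ := by

  obtain ⟨hAM, hAe, hA2⟩ := hA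
  obtain ⟨A₀, h⟩ := Loc.exists_exc hG hM hAM hAe hA2 hp.2.1
  haveI := Loc.solvable_of_ne_top hG hM.1
  refine ⟨h.nilpotent, fun P => ?_, h.normalizes_sup, h.fixed_plane, fun Ms hMs hne hAMs => ?_, ?_⟩
  · set P' := (P : Subgroup M).map M.subtype with hP'
    have hP : Grp.IsSylowIn p P' M := Grp.isSylowIn_iff.2 ⟨P, rfl⟩
    obtain ⟨R, hR, hAR⟩ := Loc.exists_sylowIn_ge hAM (Grp.elemAb_isPGroup hAe)
    obtain ⟨k, -, hk⟩ := hR.conj hP
    haveI := h.abelian hR hAR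
    haveI hPc : IsMulCommutative P' := hk ▸ Subgroup.map_isMulCommutative R _
    refine ⟨?_, fun hle => ⟨fun x hx => ⟨fun hxp => h.mem_of_pow hP hle hx hxp, fun hxA => hAe.2 x hxA⟩,
      h.not_normalizer hP⟩⟩
    exact ⟨⟨fun a b => by
      have := congrArg Subtype.val (hPc.is_comm.comm ⟨((a : M) : G), ⟨a, a.2, rfl⟩⟩ ⟨((b : M) : G), ⟨b, b.2, rfl⟩⟩)
      exact Subtype.ext (Subtype.ext this)⟩⟩
  · by_contra hD
    obtain ⟨q, hqf, hσ, hqp, Q, hQ, hAQ, hQD⟩ := Loc.exists_meet hG hM h.hA hAM h.hσ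
      (X := Cfsg.sigmaCore M ⊓ Ms) inf_le_left
      (Grp.le_normalizer_inf' (hAM.trans (Transfer.TransHyp.le_normalizer_piCoreOf M)) (hAMs.trans le_normalizer)) hD
    have hR0 : Q ⊓ Ms ≠ ⊥ := ne_bot_of_le_ne_bot hQD (le_inf inf_le_left (inf_le_right.trans inf_le_right))
    have hRp : IsPGroup q ↥(Q ⊓ Ms) := hQ.2.1.to_le inf_le_left
    have hAR : A ≤ normalizer ((Q ⊓ Ms : Subgroup G) : Set G) :=
      Grp.le_normalizer_inf' hAQ (hAMs.trans le_normalizer)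
    by_cases hqS : q ∈ Cfsg.sigma Ms
    · obtain ⟨Q', hQ', -, hRQ', hQ'm⟩ := h.hA.inv_sylow hG hMs hAMs hqS hqp hRp inf_le_right hAR
      obtain ⟨c, hc, e⟩ := h.hA.conj_meet hG hqp
        (Loc.maxInv_of_sylow hQ.2.1 (Loc.sigma_sylow hG hM hσ hQ).2 hAQ) hQ'm hMs.1 hAMs
        (ne_bot_of_le_ne_bot hR0 (le_inf inf_le_right inf_le_left))
        (ne_bot_of_le_ne_bot hR0 (le_inf inf_le_right hRQ'))
      have hsy : Grp.IsSylowIn q Q' M :=
        e ▸ hQ.smul (Grp.conj_smul_eq_self_of_mem (h.centralizer_le_M hc))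
      exact hne (Loc.sigma_sylow_unique hG hM hMs h.nilpotent hσ hqS hsy hQ'.1)
    · have hRC : Q ⊓ Ms ≤ centralizer (A : Set G) := by
        refine Loc.inv_centralized hG h.hA hMs hAMs hqp hqS hRp inf_le_right hAR ?_
        by_cases hpS : p ∈ Cfsg.sigma Ms
        · exact Or.inl hpS
        · exact Or.inr (Loc.exists_exc hG hMs hAMs hAe hA2 hpS)
      exact hR0 (le_bot_iff.1 ((le_inf (inf_le_left.trans
        (Loc.sylow_le_piCore hG hM (Loc.alpha_subset_sigma hG hM) le_rfl hσ hQ)) hRC).trans h.fixed_plane.le))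
  · obtain ⟨L₁, -, hL₁, -, hc₁, -, -, hf, -⟩ := h.free_lines
    exact ⟨L₁, hL₁, hc₁, hf⟩

end Cfsg.Agent.S1417
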