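import Cfsg.Statements.S1418
import Cfsg.Agent.Lib.Transfer.Local.PlaneCentral
import Cfsg.Agent.S1417

set_option maxHeartbeats 1000000
set_option maxRecDepth 8000

set_option autoImplicit false
open Cfsg

namespace Cfsg.Agent.S1418

open Transfer Subgroup
open scoped Pointwise

/-- Let G be a minimal simple group of odd order, M a maximal subgroup, E a complement to M_σ in M, p ∈ τ₂(M), and A ≤ E elementary abelian of order p ^ 2. Then A is normal in E and contains every subgroup of E of order p; C_G(A) ≤ M ∩ N_G(A) = E and N_G(A) is not contained in M; and for every subgroup X ≤ A of order p centralizing a non-identity element of M_σ, C_G(X) ≤ M and M is the unique maximal subgroup containing C_G(X). -/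
theorem result {G : Type*} [Group G] [Finite G] (hG : Cfsg.IsMinSimpleOddOrder G)
    (M : Subgroup G) (hM : IsCoatom M) (E : Subgroup G) (hE : Cfsg.IsComplIn E (Cfsg.sigmaCore M) M) (p : ℕ) [Fact p.Prime] (hp : p ∈ Cfsg.tau2 M) (A : Subgroup G) (hA : (A ≤ E ∧ Cfsg.IsElementaryAbelian p A ∧ Nat.card A = p ^ 2)) :
    (E ≤ Subgroup.normalizer (A : Set G) ∧ ∀ X : Subgroup G, X ≤ E → Nat.card X = p → X ≤ A) ∧
      (Subgroup.centralizer (A : Set G) ≤ M ⊓ Subgroup.normalizer (A : Set G) ∧ M ⊓ Subgroup.normalizer (A : Set G) = E ∧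
        ¬ Subgroup.normalizer (A : Set G) ≤ M) ∧
      ∀ X : Subgroup G, X ≤ A → Nat.card X = p → Cfsg.sigmaCore M ⊓ Subgroup.centralizer (X : Set G) ≠ ⊥ → (Subgroup.centralizer (X : Set G) ≤ M ∧ ∀ L : Subgroup G, IsCoatom L → Subgroup.centralizer (X : Set G) ≤ L → L = M) := by

  obtain ⟨hAE, hAe, hA2⟩ := hA
  have hAM : A ≤ M := hAE.trans hE.1
  obtain ⟨A₀, h⟩ := Loc.exists_exc hG hM hAM hAe hA2 hp.2.1
  haveI := Loc.solvable_of_ne_top hG hM.1
  haveI := Loc.isSolvable_of_le hE.1
  have hEA := h.compl_normalizes hE hAE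
  have hcA : centralizer (A : Set G) ≤ M := h.centralizer_le_M
  refine ⟨⟨hEA, fun X hX hXc => ?_⟩, ⟨le_inf hcA (centralizer_le_normalizer _), ?_, ?_⟩, fun X hX hXc hne => ?_⟩
  · obtain ⟨P, hP, hXP⟩ := Loc.exists_sylowIn_ge hX (IsPGroup.of_card (n := 1) (by rw [hXc, pow_one]) : IsPGroup p X)
    have hAP : A ≤ P := by
      have h1 : IsPGroup p ↥(A ⊔ P) := (Grp.elemAb_isPGroup hAe).to_sup_of_normal_left' hP.2.1 (hP.1.trans hEA)
      rw [hP.eq_of_le le_sup_right (sup_le hAE hP.1) h1]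
      exact le_sup_left
    have hPM := Loc.compl_sylow hG hM hE (h.hA.dvd_card.trans (card_dvd_of_le hAE)) hP
    exact fun x hx => h.mem_of_pow hPM hAP (hXP hx) ((Loc.elem_of_card_prime hXc).2 x hx)
  · refine le_antisymm (fun m hm => ?_) (le_inf hE.1 hEA)
    obtain ⟨e, he, s, hs, rfl⟩ := hE.2.2.2 m hm.1
    have h1 : s ∈ normalizer (A : Set G) := by
      simpa using (normalizer (A : Set G)).mul_mem (inv_mem (hEA he)) hm.2
    have h2 := Grp.mem_centralizer_of_normalizes (A := A) (K := Cfsg.sigmaCore M)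
      (hAM.trans (TransHyp.le_normalizer_piCoreOf M))
      (Grp.inf_eq_bot_of_coprime (h.hA.coprime_of_pGroup (Loc.not_dvd_sigmaCore h.hσ))) hs h1
    have h3 : s ∈ Cfsg.sigmaCore M ⊓ centralizer (A : Set G) := ⟨hs, h2⟩
    rw [h.fixed_plane, mem_bot] at h3
    rw [h3, mul_one]; exact he
  · intro hle
    obtain ⟨g, hg, hgM⟩ := h.exists_g
    exact hgM (hle hg)
  · have hX1 : X ≠ ⊥ := fun e => (Fact.out : p.Prime).ne_one (by rw [← hXc, e, Subgroup.card_bot])
    have key : ∀ L : Subgroup G, IsCoatom L → centralizer (X : Set G) ≤ L → L = M := by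
      intro L hL hle
      by_contra hne'
      refine hne (le_bot_iff.1 ?_)
      rw [← (Cfsg.Agent.S1417.result hG M hM p hp A ⟨hAM, hAe, hA2⟩).2.2.2.2.1 L hL hne'
        ((h.hA.le_centralizer.trans (centralizer_le hX)).trans hle)]
      exact le_inf inf_le_left (inf_le_right.trans hle)
    obtain ⟨L, hL, hle⟩ := Loc.exists_coatom hG (Loc.centralizer_ne_top' hG hX1)
    exact ⟨key L hL hle ▸ hle, key⟩

end Cfsg.Agent.S1418
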