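import Cfsg.Statements.S1420
import Cfsg.Agent.Lib.Transfer.Local.TauTwoHall
import Cfsg.Agent.S1417

set_option maxHeartbeats 1000000
set_option maxRecDepth 8000

set_option autoImplicit false
open Cfsg

namespace Cfsg.Agent.S1420

open Transfer Subgroup
open scoped Pointwise commutatorElement

/-- Let G be a minimal simple group of odd order, M a maximal subgroup and E a complement to M_σ in M. Then every nilpotent subgroup of M whose order involves no prime of σ(M) is abelian; E' is abelian; for p ∈ σ(M) and every noncyclic p-subgroup P of M, N_G(P) ≤ M; and if x ≠ 1 in M has every prime divisor of its order in τ₂(M) and centralizes a non-identity element of M_σ, then C_G(x) ≤ M and M is the unique maximal subgroup containing C_G(x). -/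
theorem result {G : Type*} [Group G] [Finite G] (hG : Cfsg.IsMinSimpleOddOrder G)
    (M : Subgroup G) (hM : IsCoatom M) (E : Subgroup G) (hE : Cfsg.IsComplIn E (Cfsg.sigmaCore M) M) :
    (∀ N : Subgroup G, N ≤ M → Group.IsNilpotent N → (∀ p : ℕ, p.Prime → p ∣ Nat.card N → p ∉ Cfsg.sigma M) → IsMulCommutative N) ∧
      IsMulCommutative ↥⁅E, E⁆ ∧
      (∀ (p : ℕ) (P : Subgroup G), p ∈ Cfsg.sigma M → IsPGroup p P → P ≤ M → ¬ IsCyclic P → Subgroup.normalizer (P : Set G) ≤ M) ∧
      ∀ x ∈ M, x ≠ 1 → (∀ p : ℕ, p.Prime → p ∣ orderOf x → p ∈ Cfsg.tau2 M) → x ∈ Cfsg.sigmaHat M →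
        Subgroup.centralizer ({x} : Set G) ≤ M ∧ ∀ L : Subgroup G, IsCoatom L → Subgroup.centralizer ({x} : Set G) ≤ L → L = M := by

  haveI := Loc.solvable_of_ne_top hG hM.1
  have h1 : ∀ N : Subgroup G, N ≤ M → Group.IsNilpotent N →
      (∀ p : ℕ, p.Prime → p ∣ Nat.card N → p ∉ Cfsg.sigma M) → IsMulCommutative N := by
    intro N hN hnil hσ'
    refine le_centralizer_iff_isMulCommutative.1 ((Grp.le_of_forall_sylow
      (inf_le_left : N ⊓ centralizer (N : Set G) ≤ N) fun s hs => ?_).trans inf_le_right)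
    obtain ⟨X, hX⟩ := Grp.exists_isSylowIn s N
    refine ⟨X, hX, le_inf hX.1 ?_⟩
    rcases eq_or_ne X ⊥ with h0 | h0
    · rw [h0]; exact bot_le
    rw [le_centralizer_iff]
    refine (Grp.le_of_forall_sylow (inf_le_left : N ⊓ centralizer (X : Set G) ≤ N) fun r hr => ?_).trans inf_le_right
    obtain ⟨Y, hY⟩ := Grp.exists_isSylowIn r N
    refine ⟨Y, hY, le_inf hY.1 ?_⟩
    by_cases hrs : r = s
    · subst hrs
      have hXn := le_normalizer.trans (Loc.normalizer_le_sylow hnil hX)
      have heq : Y ≤ X := by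
        have h2 : IsPGroup r ↥(X ⊔ Y) := hX.2.1.to_sup_of_normal_left' hY.2.1 (hY.1.trans hXn)
        rw [hX.eq_of_le le_sup_left (sup_le hX.1 hY.1) h2]
        exact le_sup_right
      haveI := Loc.abelian_of_not_sigma hG hM
        (hσ' r hs.out ((Loc.dvd_card_of_pGroup hX.2.1 h0).trans (Subgroup.card_dvd_of_le hX.1))) hX.2.1 (hX.1.trans hN)
      exact heq.trans (le_centralizer_iff_isMulCommutative.2 inferInstance)
    · exact Loc.commute_of_coprime (hY.1.trans (le_normalizer.trans (Loc.normalizer_le_sylow hnil hX)))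
        (hX.1.trans (le_normalizer.trans (Loc.normalizer_le_sylow hnil hY))) (Loc.coprime_O hrs hY.2.1 hX.2.1)
  refine ⟨h1, ?_, fun p P hσ hP hPM hnc => ?_, fun x hxM hx1 hτ hhat => ?_⟩
  · refine h1 _ (E.commutator_le_self.trans hE.1) (Loc.compl_derived_nilpotent hG hM hE) fun q hq hd => ?_
    exact Loc.compl_prime hG hM hE hq (hd.trans (Subgroup.card_dvd_of_le E.commutator_le_self))
  · haveI := Fact.mk hσ.1
    intro g hg
    obtain ⟨m, hm, c, hc, rfl⟩ := Loc.sigma_conj_factor hG hM hσ hP hPM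
      (by rw [Grp.mem_normalizer_iff_smul.1 hg]; exact hPM)
    refine M.mul_mem hm ?_
    obtain ⟨A, hAP, hA, hA2⟩ := Loc.exists_elem_of_not_prank (Loc.not_prank_one_of_not_cyclic hG
      (Loc.ne_two hG (hσ.2.1.trans (card_subgroup_dvd_card M))) hP hnc)
    by_cases hA2' : Nat.card A = p ^ 2
    · exact (Loc.plane_main hG hM (hAP.trans hPM) hA hA2').1 (centralizer_le hAP hc)
    · have hA3 : p ^ 3 ≤ Nat.card A := by
        obtain ⟨n, hn⟩ := IsPGroup.iff_card.1 (Grp.elemAb_isPGroup hA)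
        have hlt : p ^ 2 < Nat.card A := lt_of_le_of_ne hA2 (Ne.symm hA2')
        rw [hn] at hlt ⊢
        exact Nat.pow_le_pow_right hσ.1.pos ((Nat.pow_lt_pow_iff_right hσ.1.one_lt).1 hlt)
      have hU := Loc.u_elem_three hG hA hA3
      obtain ⟨L, hL, hle⟩ := Loc.exists_coatom hG (Loc.centralizer_ne_top' hG (Loc.u_ne_bot hG hU))
      have heq := hU.unique ⟨hL, (le_centralizer_iff_isMulCommutative.2 hA.1).trans hle⟩ ⟨hM, hAP.trans hPM⟩
      exact heq ▸ hle (centralizer_le hAP hc)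
  · obtain ⟨-, y, hy, hy1, hxy⟩ := hhat
    obtain ⟨E', hE', hxE⟩ := Loc.exists_compl_ge hG hM (U := zpowers x) (zpowers_le.2 hxM) fun s hs hd =>
      (hτ s hs (hd.trans (dvd_of_eq (Nat.card_zpowers x)))).2.1
    obtain ⟨p, hp, hpτ, A, hAE, hA, hA2, hxA⟩ :=
      Loc.tau2_plane_centralizing hG hM hE' (hxE (mem_zpowers x)) hx1 hτ
    have key : ∀ L : Subgroup G, IsCoatom L → centralizer ({x} : Set G) ≤ L → L = M := by
      intro L hL hle
      by_contra hne
      have hAL : A ≤ L := fun a ha => hle (mem_centralizer_singleton_iff.2 (mem_centralizer_iff.1 hxA a ha))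
      have h2 : y ∈ Cfsg.sigmaCore M ⊓ L := ⟨hy, hle (mem_centralizer_singleton_iff.2 hxy.symm)⟩
      rw [(Cfsg.Agent.S1417.result hG M hM p hpτ A ⟨hAE.trans hE'.1, hA, hA2⟩).2.2.2.2.1 L hL hne hAL, mem_bot] at h2
      exact hy1 h2
    have htop : centralizer ({x} : Set G) ≠ ⊤ := fun e => by
      refine Loc.centralizer_ne_top' hG (L := zpowers x) (fun h => hx1 (zpowers_eq_bot.1 h)) (top_le_iff.1 ?_)
      intro g _
      refine mem_centralizer_iff.2 fun z hz => ?_
      obtain ⟨i, rfl⟩ := hz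
      have hgx : g * x = x * g := mem_centralizer_singleton_iff.1 (e.ge (mem_top g))
      exact ((show Commute x g from hgx.symm).zpow_left i).eq
    obtain ⟨L, hL, hle⟩ := Loc.exists_coatom hG htop
    exact ⟨key L hL hle ▸ hle, key⟩

end Cfsg.Agent.S1420
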