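import Cfsg.Statements.S1424
import Cfsg.Agent.Lib.Transfer.Local.SigmaPrimeOrder
import Cfsg.Agent.S1420

set_option maxHeartbeats 1000000
set_option maxRecDepth 8000

set_option autoImplicit false
open Cfsg

namespace Cfsg.Agent.S1424

open Transfer Subgroup
open scoped Pointwise

/-- Let G be a minimal simple group of odd order, M a maximal subgroup, q ∈ σ(M), X a nontrivial q-subgroup of M, M* a maximal subgroup different from M with N_G(X) ≤ M*, and S a Sylow q-subgroup of M ∩ M* containing X. Then M* is not conjugate to M in G, N_G(S) ≤ M, and q does not divide the index of S in M*. -/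
theorem result {G : Type*} [Group G] [Finite G] (hG : Cfsg.IsMinSimpleOddOrder G)
    (M : Subgroup G) (hM : IsCoatom M) (q : ℕ) [Fact q.Prime] (hq : q ∈ Cfsg.sigma M) (X : Subgroup G) (hXq : IsPGroup q X) (hX1 : X ≠ ⊥) (hXM : X ≤ M)
    (Mstar : Subgroup G) (hMs : IsCoatom Mstar) (hne : Mstar ≠ M) (hNX : Subgroup.normalizer (X : Set G) ≤ Mstar)
    (S : Sylow q ↥(M ⊓ Mstar)) (hXS : X ≤ (S : Subgroup ↥(M ⊓ Mstar)).map (M ⊓ Mstar).subtype) :
    (∀ g : G, Mstar ≠ M.map (MulAut.conj g).toMonoidHom) ∧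
      Subgroup.normalizer (((S : Subgroup ↥(M ⊓ Mstar)).map (M ⊓ Mstar).subtype : Subgroup G) : Set G) ≤ M ∧
      ¬ q ∣ ((S : Subgroup ↥(M ⊓ Mstar)).map (M ⊓ Mstar).subtype).relIndex Mstar := by

  haveI := Loc.solvable_of_ne_top hG hM.1
  haveI := Loc.solvable_of_ne_top hG hMs.1
  haveI := Loc.isSolvable_of_le (inf_le_left : M ⊓ Mstar ≤ M)
  set S' := (S : Subgroup ↥(M ⊓ Mstar)).map (M ⊓ Mstar).subtype with hS'
  have hS : Grp.IsSylowIn q S' (M ⊓ Mstar) := Grp.isSylowIn_iff.2 ⟨S, rfl⟩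
  refine ⟨fun g hg => ?_, ?_⟩
  · obtain ⟨c, hc, e⟩ := Loc.sigma_trans hG hM hq hXq (g := 1) (h := g) (by rwa [map_one, one_smul])
      (by show X ≤ M.map (MulAut.conj g).toMonoidHom; rw [← hg]; exact le_normalizer.trans hNX)
    rw [map_one, one_smul] at e
    have hcM : c ∈ Mstar := hNX (centralizer_le_normalizer _ hc)
    refine hne ?_
    rw [← Grp.conj_smul_eq_self_of_mem (Mstar.inv_mem hcM)]
    rw [show Mstar = MulAut.conj g • M from hg, ← e, Grp.conj_smul_conj_smul, inv_mul_cancel, map_one, one_smul]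
  have hmax : ∀ T : Subgroup G, IsPGroup q T → S' ≤ T → T ≤ M → T ≤ Mstar → T = S' := fun T hT hle h1 h2 =>
    (hS.eq_of_le hle (le_inf h1 h2) hT).symm
  have hN : normalizer (S' : Set G) ≤ M := by
    obtain ⟨T, hT, hST⟩ := Loc.exists_sylowIn_ge (hS.1.trans inf_le_left) hS.2.1
    by_cases hcase : S' = T
    · rw [hcase]; exact (Loc.sigma_sylow hG hM hq hT).1
    obtain ⟨E, hE, -⟩ := Loc.exists_compl_ge hG hM (U := ⊥) bot_le fun s hs hd => by
      rw [Subgroup.card_bot] at hd; exact absurd hd hs.not_dvd_one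
    by_cases hc : IsCyclic S'
    · exfalso
      have hgrow := Loc.exists_grow hT.2.1 (lt_of_le_of_ne hST hcase)
      refine hgrow.ne (hmax _ (hT.2.1.to_le inf_le_left) hgrow.le (inf_le_left.trans hT.1)
        ((inf_le_right.trans ?_).trans hNX)).symm
      haveI := hc
      intro g hg
      rw [Grp.mem_normalizer_iff_smul]
      have hgS := Grp.mem_normalizer_iff_smul.1 hg
      have h1 : MulAut.conj g • X ≤ S' := hgS ▸ Subgroup.pointwise_smul_le_pointwise_smul_iff.2 hXS
      have h2 := Loc.cyclic_unique (H := (MulAut.conj g • X).subgroupOf S') (H' := X.subgroupOf S')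
        (by rw [Nat.card_congr (subgroupOfEquivOfLe h1).toEquiv, Nat.card_congr (subgroupOfEquivOfLe hXS).toEquiv,
          Grp.card_conj_smul])
      rw [← map_subgroupOf_eq_of_le h1, h2, map_subgroupOf_eq_of_le hXS]
    · exact (Cfsg.Agent.S1420.result hG M hM E hE).2.2.1 q S' hq hS.2.1 (hS.1.trans inf_le_left) hc
  refine ⟨hN, fun hd => ?_⟩
  obtain ⟨T, hT, hST⟩ := Loc.exists_sylowIn_ge (hS.1.trans inf_le_right) hS.2.1
  rcases eq_or_ne S' T with e | e
  · exact hT.2.2 (e ▸ hd)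
  have hgrow := Loc.exists_grow hT.2.1 (lt_of_le_of_ne hST e)
  exact hgrow.ne (hmax _ (hT.2.1.to_le inf_le_left) hgrow.le (inf_le_right.trans hN) (inf_le_left.trans hT.1)).symm

end Cfsg.Agent.S1424
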