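import Cfsg.Statements.S1374
import Cfsg.Agent.Lib.Transfer.Local.Support
import Cfsg.Agent.Lib.Transfer.Local.SigmaDecomp

set_option maxHeartbeats 1000000
set_option maxRecDepth 8000

set_option autoImplicit false
open Cfsg

namespace Cfsg.Agent.S1374

open Cfsg.Agent Cfsg.Agent.Transfer Cfsg.Agent.Transfer.Loc Subgroup
open scoped Pointwise

/-- Let G be a minimal simple group of odd order, M a maximal subgroup and x a non-identity element of M_σ. Then C_M(x) has order coprime to its index in C_G(x), and C_G(x) has a normal subgroup R complementing C_M(x) such that for every conjugate gMg⁻¹ containing x there is exactly one r ∈ R with rMr⁻¹ = gMg⁻¹. -/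
theorem result {G : Type*} [Group G] [Finite G] (hG : Cfsg.IsMinSimpleOddOrder G)
    (M : Subgroup G) (hM : IsCoatom M) (x : G) (hx : x ∈ Cfsg.sigmaCore M) (hx1 : x ≠ 1) :
    (Nat.card ↥(M ⊓ Subgroup.centralizer ({x} : Set G))).Coprime ((M ⊓ Subgroup.centralizer ({x} : Set G)).relIndex (Subgroup.centralizer ({x} : Set G))) ∧
      ∃ R : Subgroup G, Subgroup.centralizer ({x} : Set G) ≤ Subgroup.normalizer (R : Set G) ∧ Cfsg.IsComplIn (M ⊓ Subgroup.centralizer ({x} : Set G)) R (Subgroup.centralizer ({x} : Set G)) ∧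
        ∀ g : G, x ∈ M.map (MulAut.conj g).toMonoidHom → ∃! r : G, r ∈ R ∧ M.map (MulAut.conj r).toMonoidHom = M.map (MulAut.conj g).toMonoidHom := by
  have hxM' : x ∈ M := TransHyp.piCoreOf_le M hx
  rcases line_cases hG hM hx hx1 with ⟨hC, hg⟩ | ⟨N, hN⟩
  · have e : M ⊓ centralizer ({x} : Set G) = centralizer ({x} : Set G) := inf_eq_right.2 hC
    rw [e, Subgroup.relIndex_self]
    refine ⟨Nat.coprime_one_right _, ⊥, ?_, ⟨le_rfl, bot_le, inf_bot_eq _, fun m hm => ⟨m, hm, 1, one_mem _, (mul_one m).symm⟩⟩,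
      fun g hgx => ⟨1, ⟨one_mem _, ?_⟩, fun r hr => mem_bot.1 hr.1⟩⟩
    · intro c _
      refine Subgroup.mem_normalizer_iff.2 fun a => ?_
      simp only [mem_bot, conj_eq_one_iff]
    · show MulAut.conj (1 : G) • M = MulAut.conj g • M
      rw [map_one, one_smul, Grp.mem_normalizer_iff_smul.1 (le_normalizer (hg g hgx))]
  · obtain ⟨hbot, hNR, hcomp, hE⟩ := hN.facts hG hM
    have hc := hcomp hxM'
    refine ⟨?_, _, hNR, hc, fun g hgx => ?_⟩
    · have hcard := complIn_card hc
      have hrel : (M ⊓ centralizer ({x} : Set G)).relIndex (centralizer ({x} : Set G)) =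
          Nat.card ↥(Cfsg.sigmaCore N ⊓ centralizer ({x} : Set G)) :=
        Nat.eq_of_mul_eq_mul_left Nat.card_pos ((Grp.card_mul_relIndex hc.1).trans hcard.symm)
      rw [hrel]
      exact Nat.coprime_of_dvd fun p hp h1 h2 => hE p hp
        (h1.trans (card_dvd_of_le (le_inf inf_le_left (inf_le_right.trans hN.le))))
        (TransHyp.piCoreOf_primes (π := Cfsg.sigma N) (X := N) hp (h2.trans (card_dvd_of_le inf_le_left)))
    · obtain ⟨r, hr, hrM⟩ := hN.trans g hgx
      refine ⟨r, ⟨hr, hrM⟩, fun r' ⟨hr', hrM'⟩ => ?_⟩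
      have h1 : r⁻¹ * r' ∈ M ⊓ Cfsg.sigmaCore N := ⟨mem_of_conj_smul_eq hG hM (by
        rw [← Grp.conj_smul_conj_smul]
        refine (congrArg _ (hrM'.trans hrM.symm)).trans ?_
        rw [Grp.conj_smul_conj_smul, inv_mul_cancel, map_one, one_smul]),
        mul_mem ((Cfsg.sigmaCore N).inv_mem hr.1) hr'.1⟩
      rw [hbot, mem_bot, inv_mul_eq_one] at h1
      exact h1.symm

end Cfsg.Agent.S1374
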