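import Cfsg.Statements.S1430
import Cfsg.Agent.Lib.Transfer.Local.KappaNormalizer

set_option maxHeartbeats 1000000
set_option maxRecDepth 8000

set_option autoImplicit false
open Cfsg

namespace Cfsg.Agent.S1430

open Cfsg.Agent Cfsg.Agent.Transfer Subgroup

/-- Let G be a minimal simple group of odd order, M a maximal subgroup, K ≠ 1 a Hall κ(M)-subgroup of M and K* = M_σ ∩ C_G(K). Then M_σ ∩ C_G(k) = K* for every non-identity k ∈ K; there is an abelian subgroup U of M, a Hall subgroup of M for the primes outside κ(M) ∪ σ(M), normalized by K with U ∩ C_G(k) = 1 for all non-identity k ∈ K; and for every subgroup X ≤ K of prime order, M ∩ N_G(X) = M ∩ N_G(K) = K ⊔ K*, and X ≤ M*_σ for every maximal subgroup M* containing N_G(X). -/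
theorem result {G : Type*} [Group G] [Finite G] (hG : Cfsg.IsMinSimpleOddOrder G)
    (M : Subgroup G) (hM : IsCoatom M) (K : Subgroup G) (hK : Cfsg.IsPiHallOf (Cfsg.kappa M) K M) (hK1 : K ≠ ⊥) :
    (∀ k ∈ K, k ≠ 1 → Cfsg.sigmaCore M ⊓ Subgroup.centralizer ({k} : Set G) = (Cfsg.sigmaCore M ⊓ Subgroup.centralizer (K : Set G))) ∧
      (∃ U : Subgroup G, IsMulCommutative U ∧ Cfsg.IsPiHallOf {q | q.Prime ∧ q ∉ Cfsg.kappa M ∧ q ∉ Cfsg.sigma M} U M ∧
        K ≤ Subgroup.normalizer (U : Set G) ∧ ∀ k ∈ K, k ≠ 1 → U ⊓ Subgroup.centralizer ({k} : Set G) = ⊥) ∧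
      ∀ X : Subgroup G, X ≤ K → (Nat.card X).Prime →
        M ⊓ Subgroup.normalizer (X : Set G) = K ⊔ (Cfsg.sigmaCore M ⊓ Subgroup.centralizer (K : Set G)) ∧ M ⊓ Subgroup.normalizer (K : Set G) = K ⊔ (Cfsg.sigmaCore M ⊓ Subgroup.centralizer (K : Set G)) ∧
        ∀ Mstar : Subgroup G, IsCoatom Mstar → Subgroup.normalizer (X : Set G) ≤ Mstar → X ≤ Cfsg.sigmaCore Mstar := by
  obtain ⟨E, hE, hKE⟩ := Loc.kappa_compl hG hM hK
  obtain ⟨-, -, hprime⟩ := Loc.kappa_prime_action hG hM hE hK hKE hK1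
  obtain ⟨U, hUab, hUE, hU, hKU, hreg⟩ := Loc.kappa'_exists hG hM hE hK hKE hK1
  refine ⟨hprime, ⟨U, hUab, hU, hKU, hreg⟩, fun X hXK hXp => ?_⟩
  haveI := Fact.mk hXp
  have hX1 : X ≠ ⊥ := fun e => hXp.ne_one (by rw [e, Subgroup.card_bot])
  have hKX := Loc.kappa_line_normal hG hM hE hK hKE hK1 hXK rfl
  have hfix : Cfsg.sigmaCore M ⊓ centralizer (X : Set G) = Cfsg.sigmaCore M ⊓ centralizer (K : Set G) := by
    obtain ⟨x, hx, hx1⟩ := (bot_or_exists_ne_one X).resolve_left hX1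
    refine le_antisymm ?_ (inf_le_inf_left _ (centralizer_le hXK))
    rw [← hprime x (hXK hx) hx1]
    exact inf_le_inf_left _ (centralizer_le (Set.singleton_subset_iff.2 hx))
  refine ⟨Loc.normalizer_meet hG hM hE hKE (hXK.trans hKE) hKX
    (Loc.compl_normalizer_le hG hM hE hK hKE hU hUE hKU hreg hXK hX1 hKX) hfix,
    Loc.normalizer_meet hG hM hE hKE hKE le_normalizer
      (Loc.compl_normalizer_le hG hM hE hK hKE hU hUE hKU hreg le_rfl hK1 le_normalizer) rfl,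
    fun H hH hNH => ?_⟩
  haveI := Loc.solvable_of_ne_top hG hH.1
  have hσ := Loc.kappa_sigma_over hG hM (hK.2.1 _ hXp (card_dvd_of_le hXK)) (hXK.trans hK.1) rfl hH hNH
  obtain ⟨T, hT, hle⟩ := Loc.exists_sylowIn_ge (le_normalizer.trans hNH : X ≤ H)
    (IsPGroup.of_card (n := 1) (pow_one _).symm : IsPGroup (Nat.card X) X)
  exact hle.trans (Loc.sylow_le_piCore hG hH (Loc.alpha_subset_sigma hG hH) le_rfl hσ hT)

end Cfsg.Agent.S1430
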