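import Cfsg.Statements.S1425
import Cfsg.Agent.Lib.Transfer.Local.SigmaConj

set_option maxHeartbeats 1000000
set_option maxRecDepth 8000

set_option autoImplicit false
open Cfsg

namespace Cfsg.Agent.S1425

open scoped Pointwise
open Subgroup Transfer Transfer.Loc

/-- Let G be a minimal simple group of odd order, M a maximal subgroup and Y a nontrivial subgroup of G all of whose prime divisors lie in σ(M). Then gYg⁻¹ ≤ M_σ for some g ∈ G. -/
theorem result {G : Type*} [Group G] [Finite G] (hG : Cfsg.IsMinSimpleOddOrder G)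
    (M : Subgroup G) (hM : IsCoatom M) (Y : Subgroup G) (hY1 : Y ≠ ⊥) (hY : ∀ p : ℕ, p.Prime → p ∣ Nat.card Y → p ∈ Cfsg.sigma M) :
    ∃ g : G, Y.map (MulAut.conj g).toMonoidHom ≤ Cfsg.sigmaCore M := by

  haveI := solvable_of_ne_top hG hM.1
  have hall := isPiHallOf_piCore hG hM (π := Cfsg.sigma M) (alpha_subset_sigma hG hM) le_rfl
  have key : ∀ U : Subgroup G, U ≤ M → (∀ r : ℕ, r.Prime → r ∣ Nat.card U → r ∈ Cfsg.sigma M) →
      U ≤ Cfsg.sigmaCore M := by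
    intro U hU hUπ
    obtain ⟨m, hm, h⟩ := Grp.PiHall.dominate hall hU hUπ
    exact h.trans (Grp.mem_normalizer_iff_smul.1 (TransHyp.le_normalizer_piCoreOf M hm)).le
  have hYt : Y ≠ ⊤ := by
    rintro rfl
    refine hM.1 (top_le_iff.1 ((?_ : (⊤ : Subgroup G) = Cfsg.piCoreOf (Cfsg.sigma M) M).le.trans (TransHyp.piCoreOf_le M)))
    refine (Subgroup.index_eq_one.1 ?_).symm
    by_contra h1
    obtain ⟨r, hr, hrd⟩ := Nat.exists_prime_and_dvd h1
    have hrσ := hY r hr (by rw [Subgroup.card_top]; exact hrd.trans (Subgroup.index_dvd_card _))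
    exact (isPiHall_piCore hG hM (alpha_subset_sigma hG hM) le_rfl).2 r hr hrσ hrd
  haveI := solvable_of_ne_top hG hYt
  obtain ⟨q, hq, hqd⟩ := Nat.exists_prime_and_dvd fun h => fittingOf_ne_bot hY1 (Subgroup.card_eq_one.1 h)
  haveI := Fact.mk hq
  have hqσ : q ∈ Cfsg.sigma M := hY q hq (hqd.trans (Subgroup.card_dvd_of_le (fittingOf_le Y)))
  obtain ⟨g, hg⟩ := Loc.exists_conj_le hG hM hqσ (O_isPGroup q Y)
  obtain ⟨Y', hY'⟩ : ∃ Y', Y' = MulAut.conj g⁻¹ • Y := ⟨_, rfl⟩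
  obtain ⟨X, hX⟩ : ∃ X, X = MulAut.conj g⁻¹ • O q Y := ⟨_, rfl⟩
  have hX1 : X ≠ ⊥ := by
    intro h
    apply O_ne_bot_of_dvd hqd
    rw [← Subgroup.card_eq_one] at h ⊢
    rwa [hX, Grp.card_conj_smul] at h
  have hXM : X ≤ M := by
    have := Subgroup.pointwise_smul_le_pointwise_smul_iff (a := MulAut.conj g⁻¹) |>.2 hg
    rwa [Grp.conj_smul_conj_smul, inv_mul_cancel, map_one, one_smul, ← hX] at this
  have hXq : IsPGroup q X := hX ▸ (O_isPGroup q Y).map _
  have hYX : Y' ≤ normalizer (X : Set G) := by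
    intro y hy
    rw [hY'] at hy
    obtain ⟨y, hy1, rfl⟩ := hy
    show MulAut.conj g⁻¹ y ∈ _
    rw [MulAut.conj_apply, inv_inv, Grp.mem_normalizer_iff_smul, hX, Grp.conj_smul_conj_smul,
      show g⁻¹ * y * g * g⁻¹ = g⁻¹ * y by group, ← Grp.conj_smul_conj_smul,
      Grp.mem_normalizer_iff_smul.1 (le_normalizer_core' Y hy1)]
  have hYπ : ∀ U : Subgroup G, Nat.card U = Nat.card Y → ∀ r : ℕ, r.Prime → r ∣ Nat.card U → r ∈ Cfsg.sigma M :=
    fun U hU r hr hd => hY r hr (hU ▸ hd)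
  obtain ⟨L, hL, hNL⟩ := exists_coatom_normalizer hG hX1 fun e => hM.1 (top_le_iff.1 (e ▸ hXM))
  by_cases hne : L = M
  · subst hne
    refine ⟨g⁻¹, ?_⟩
    show MulAut.conj g⁻¹ • Y ≤ _
    exact hY' ▸ key Y' (hYX.trans hNL) (hYπ Y' (by rw [hY', Grp.card_conj_smul]))
  · haveI := solvable_of_ne_top hG hL.1
    haveI := Loc.isSolvable_of_le (inf_le_left : M ⊓ L ≤ M)
    obtain ⟨N, hNl, hLN, hNσ, hcov, -⟩ := exists_cover hG hM hqσ hXq hX1 hXM hL hne hNL
    obtain ⟨H, hH⟩ := Grp.PiHall.exists_piHall (Cfsg.sigma M) (M ⊓ L)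
    have hidx : (M ⊓ L).relIndex L ∣ Nat.card N := by
      refine Nat.dvd_of_mul_dvd_mul_left (k := Nat.card ↥(M ⊓ L)) Nat.card_pos ?_
      rw [Grp.card_mul_relIndex inf_le_right]
      have h : L = (M ⊓ L) ⊔ N := le_antisymm (hcov.trans (sup_comm _ _).le) (sup_le inf_le_right hNl)
      refine (dvd_of_eq (congrArg (fun K : Subgroup G => Nat.card K) h)).trans (Grp.card_sup_dvd_mul ?_)
      exact inf_le_right.trans hLN
    have hHL : Cfsg.IsPiHallOf (Cfsg.sigma M) H L := ⟨hH.1.trans inf_le_right, hH.2.1, fun r hr hrσ hd => by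
      rw [← Subgroup.relIndex_mul_relIndex H (M ⊓ L) L hH.1 inf_le_right] at hd
      rcases hr.dvd_mul.1 hd with h | h
      · exact hH.2.2 r hr hrσ h
      · exact hNσ r hr (h.trans hidx) hrσ⟩
    obtain ⟨l, hl, hle⟩ := Grp.PiHall.dominate hHL (hYX.trans hNL) (hYπ Y' (by rw [hY', Grp.card_conj_smul]))
    refine ⟨l⁻¹ * g⁻¹, ?_⟩
    show MulAut.conj (l⁻¹ * g⁻¹) • Y ≤ _
    rw [← Grp.conj_smul_conj_smul, ← hY']
    refine key _ ?_ (hYπ _ (by rw [Grp.card_conj_smul, hY', Grp.card_conj_smul]))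
    have := (Subgroup.pointwise_smul_le_pointwise_smul_iff (a := MulAut.conj l⁻¹)).2 hle
    rw [Grp.conj_smul_conj_smul, inv_mul_cancel, map_one, one_smul] at this
    exact this.trans (hH.1.trans inf_le_left)

end Cfsg.Agent.S1425
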