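import Cfsg.Statements.S1431
import Cfsg.Agent.Lib.Transfer.Local.KappaNormalizer
import Cfsg.Agent.S1423
import Cfsg.Agent.S1425
import Cfsg.Agent.Lib.Transfer.Local.SigmaMeet

set_option maxHeartbeats 1000000
set_option maxRecDepth 8000

set_option autoImplicit false
open Cfsg

namespace Cfsg.Agent.S1431

open Cfsg.Agent Cfsg.Agent.Transfer Subgroup
open scoped Pointwise

/-- Let G be a minimal simple group of odd order, M a maximal subgroup, K ≠ 1 a Hall κ(M)-subgroup of M and K* = M_σ ∩ C_G(K). Then K* ∩ gMg⁻¹ = 1 for g ∉ M; K ∩ gKg⁻¹ = 1 for g ∈ M outside K K*; for every prime p dividing the order of K* and every Sylow p-subgroup S of M_σ, M is the unique maximal subgroup containing S, and S is not contained in K*; and every subgroup Y of G whose prime divisors lie in σ(M) and with Y ∩ K* ≠ 1 is contained in M_σ. -/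
theorem result {G : Type*} [Group G] [Finite G] (hG : Cfsg.IsMinSimpleOddOrder G)
    (M : Subgroup G) (hM : IsCoatom M) (K : Subgroup G) (hK : Cfsg.IsPiHallOf (Cfsg.kappa M) K M) (hK1 : K ≠ ⊥) :
    (∀ g : G, g ∉ M → (Cfsg.sigmaCore M ⊓ Subgroup.centralizer (K : Set G)) ⊓ M.map (MulAut.conj g).toMonoidHom = ⊥) ∧
      (∀ g ∈ M, g ∉ K ⊔ (Cfsg.sigmaCore M ⊓ Subgroup.centralizer (K : Set G)) → K ⊓ K.map (MulAut.conj g).toMonoidHom = ⊥) ∧
      (∀ (p : ℕ), p.Prime → p ∣ Nat.card ↥(Cfsg.sigmaCore M ⊓ Subgroup.centralizer (K : Set G)) → ∀ S : Sylow p ↥(Cfsg.sigmaCore M),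
        Cfsg.InUniqueMaximal ((S : Subgroup ↥(Cfsg.sigmaCore M)).map (Cfsg.sigmaCore M).subtype) ∧
        (S : Subgroup ↥(Cfsg.sigmaCore M)).map (Cfsg.sigmaCore M).subtype ≤ M ∧
        ¬ (S : Subgroup ↥(Cfsg.sigmaCore M)).map (Cfsg.sigmaCore M).subtype ≤ (Cfsg.sigmaCore M ⊓ Subgroup.centralizer (K : Set G))) ∧
      ∀ Y : Subgroup G, (∀ p : ℕ, p.Prime → p ∣ Nat.card Y → p ∈ Cfsg.sigma M) → Y ⊓ (Cfsg.sigmaCore M ⊓ Subgroup.centralizer (K : Set G)) ≠ ⊥ → Y ≤ Cfsg.sigmaCore M := by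
  haveI := Loc.solvable_of_ne_top hG hM.1
  obtain ⟨E, hE, hKE⟩ := Loc.kappa_compl hG hM hK
  haveI := Loc.isSolvable_of_le hE.1
  obtain ⟨-, -, hprime⟩ := Loc.kappa_prime_action hG hM hE hK hKE hK1
  obtain ⟨U, -, hUE, hU, hKU, hreg⟩ := Loc.kappa'_exists hG hM hE hK hKE hK1
  have hMN : M ≤ normalizer (Cfsg.sigmaCore M : Set G) := TransHyp.le_normalizer_piCoreOf M
  set W := Cfsg.sigmaCore M ⊓ centralizer (K : Set G) with hW
  obtain ⟨k₀, hk₀, hk₀1⟩ := (bot_or_exists_ne_one K).resolve_left hK1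
  obtain ⟨r, _, z, hz, -, hzc, -⟩ := Loc.exists_prime_zpowers_le hk₀1
  have hRK : zpowers z ≤ K := zpowers_le.2 ((zpowers_le.2 hk₀) hz)
  have hrκ : r ∈ Cfsg.kappa M := hK.2.1 r Fact.out (hzc ▸ card_dvd_of_le hRK)
  have hWR : W ≤ Cfsg.sigmaCore M ⊓ centralizer (zpowers z : Set G) := inf_le_inf_left _ (centralizer_le hRK)
  have hsub : ∀ Y : Subgroup G, Y ≤ W → Y ≠ ⊥ → ∃ (t : ℕ) (_ : Fact t.Prime) (Z : Subgroup G), Z ≤ Y ∧
      IsPGroup t Z ∧ Z ≠ ⊥ ∧ t ∈ Cfsg.sigma M ∧ centralizer (Z : Set G) ≤ M := by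
    intro Y hY hY1
    obtain ⟨y, hy, hy1⟩ := (bot_or_exists_ne_one Y).resolve_left hY1
    obtain ⟨t, ht, w, hw, -, hwc, -⟩ := Loc.exists_prime_zpowers_le hy1
    have hZY : zpowers w ≤ Y := zpowers_le.2 ((zpowers_le.2 hy) hw)
    refine ⟨t, ht, zpowers w, hZY, IsPGroup.of_card (n := 1) (hwc.trans (pow_one t).symm),
      fun e => (Fact.out (p := t.Prime)).ne_one (by rw [← hwc, e, Subgroup.card_bot]),
      TransHyp.piCoreOf_primes (π := Cfsg.sigma M) (X := M) Fact.out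
        (hwc ▸ card_dvd_of_le ((hZY.trans hY).trans inf_le_left)),
      (Loc.kappa_fixed_unique hG hM hrκ (hRK.trans hK.1) hzc hwc ((hZY.trans hY).trans hWR)).1⟩
  refine ⟨fun g hg => ?_, fun g hgM hg => ?_, fun p hp hpW S => ?_, fun Y hY hYW => ?_⟩
  · by_contra hne
    obtain ⟨t, _, Z, hZ, hZp, hZ1, htσ, hC⟩ := hsub _ inf_le_left hne
    exact hg (Loc.mem_of_sigma_le_conj hG hM htσ hZp hZ1
      ((hZ.trans inf_le_left).trans (inf_le_left.trans (TransHyp.piCoreOf_le M))) hC (hZ.trans inf_le_right))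
  · by_contra hne
    obtain ⟨y, hy, hy1⟩ := (bot_or_exists_ne_one _).resolve_left hne
    obtain ⟨q, _, w, hw, -, hwc, -⟩ := Loc.exists_prime_zpowers_le hy1
    have hYK : zpowers w ≤ K := zpowers_le.2 ((zpowers_le.2 hy.1) hw)
    have hYg : zpowers w ≤ MulAut.conj g • K := zpowers_le.2 ((zpowers_le.2 hy.2) hw)
    set X := MulAut.conj g⁻¹ • zpowers w with hX
    have hXK : X ≤ K := by
      have h := smul_mono_right (MulAut.conj g⁻¹) hYg
      rwa [Grp.conj_smul_conj_smul, inv_mul_cancel, map_one, one_smul] at h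
    have hXc : Nat.card X = q := by rw [hX, Grp.card_conj_smul, hwc]
    have hr1 : Cfsg.PRankLE q 1 E := Loc.prankLE_mono hE.1
      (Loc.kappa_rank_one hG hM (hK.2.1 q Fact.out (hwc ▸ card_dvd_of_le hYK)))
    haveI : Group.IsSolvable ↥K := Loc.isSolvable_of_le hKE
    obtain ⟨k, hk, hkX⟩ := Loc.prime_sub_conj hG (Loc.prankLE_mono hKE hr1) hXK hYK hXc hwc
    have hKX := Loc.kappa_line_normal hG hM hE hK hKE hK1 hXK hXc
    rw [Grp.mem_normalizer_iff_smul.1 (hKX hk)] at hkX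
    have hgX : g ∈ normalizer (X : Set G) := by
      rw [Grp.mem_normalizer_iff_smul]
      conv_lhs => rw [hX]
      rw [Grp.conj_smul_conj_smul, mul_inv_cancel, map_one, one_smul, hkX]
    have hX1 : X ≠ ⊥ := fun e => (Fact.out (p := q.Prime)).ne_one (hXc.symm.trans (by rw [e, Subgroup.card_bot]))
    refine hg ((Loc.normalizer_meet hG hM hE hKE (hXK.trans hKE) hKX
      (Loc.compl_normalizer_le hG hM hE hK hKE hU hUE hKU hreg hXK hX1 hKX) ?_).le ⟨hgM, hgX⟩)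
    obtain ⟨x, hx, hx1⟩ := (bot_or_exists_ne_one X).resolve_left hX1
    refine le_antisymm ?_ (inf_le_inf_left _ (centralizer_le hXK))
    exact (inf_le_inf_left _ (centralizer_le (Set.singleton_subset_iff.2 hx))).trans (hprime x (hXK hx) hx1).le
  · haveI := Fact.mk hp
    obtain ⟨w, hw⟩ := exists_prime_orderOf_dvd_card' (G := W) p hpW
    have hwc : Nat.card (zpowers (w : G)) = p := by rw [Nat.card_zpowers, Subgroup.orderOf_coe, hw]
    have hZW : zpowers (w : G) ≤ W := zpowers_le.2 w.2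
    have hpσ : p ∈ Cfsg.sigma M := TransHyp.piCoreOf_primes (π := Cfsg.sigma M) (X := M) hp
      (hwc ▸ card_dvd_of_le (hZW.trans inf_le_left))
    have hder : p ∈ Cfsg.beta M ∨ zpowers (w : G) ≤ ⁅Cfsg.sigmaCore M, Cfsg.sigmaCore M⁆ := by
      refine or_iff_not_imp_left.2 fun hβ => ?_
      by_cases hτ : r ∈ Cfsg.tau1 M
      · exact Loc.tau1_fixed_derived hG hM hτ (hRK.trans hK.1) hzc hwc (hZW.trans hWR) hβ
      obtain ⟨L, h⟩ := Loc.irregular_of_kappa hG hM hE hrκ ((Loc.tau_of_kappa hG hM hrκ).resolve_left hτ)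
        (hRK.trans hKE) hzc
      obtain ⟨r', _, T, R', hτ', -, hTE, hR'T, hR', -⟩ := h.mover
      refine Loc.tau1_fixed_derived hG hM hτ' ((hR'T.trans hTE).trans hE.1) hR' hwc ?_ hβ
      rw [(Loc.irregular_all hG hM h (hR'T.trans hTE) hR').2]
      exact hZW.trans hWR
    obtain ⟨-, huniq, hSM⟩ := Cfsg.Agent.S1423.result hG M hM p hpσ (zpowers (w : G))
      ((hZW.trans inf_le_left).trans (TransHyp.piCoreOf_le M)) hwc S hder
    refine ⟨huniq, hSM, fun hle => ?_⟩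
    obtain ⟨H, hH, hNH⟩ := Loc.exists_coatom_normalizer hG (K := zpowers z)
      (fun e => (Fact.out (p := r.Prime)).ne_one (by rw [← hzc, e, Subgroup.card_bot]))
      fun e => hM.1 (top_le_iff.1 (e ▸ hRK.trans hK.1))
    have hnc := Loc.rank_one_not_conj hG hM hrκ.2.2.1 (Loc.kappa_rank_one hG hM hrκ) hzc hNH
    have hSH := hle.trans ((hWR.trans inf_le_right).trans ((centralizer_le_normalizer _).trans hNH))
    obtain ⟨M₀, -, hM₀⟩ := huniq
    exact hnc 1 (by rw [map_one, one_smul]; exact (hM₀ H ⟨hH, hSH⟩).trans (hM₀ M ⟨hM, hSM⟩).symm)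
  · have hY1 : Y ≠ ⊥ := fun e => hYW (by rw [e, bot_inf_eq])
    obtain ⟨g, hg⟩ := Cfsg.Agent.S1425.result hG M hM Y hY1 hY
    have hY' : Y ≤ MulAut.conj g⁻¹ • Cfsg.sigmaCore M := by
      have h : MulAut.conj g • Y ≤ Cfsg.sigmaCore M := hg
      have := smul_mono_right (MulAut.conj g⁻¹) h
      rwa [Grp.conj_smul_conj_smul, inv_mul_cancel, map_one, one_smul] at this
    obtain ⟨t, _, Z, hZ, hZp, hZ1, htσ, hC⟩ := hsub _ inf_le_right hYW
    have hgM := Loc.mem_of_sigma_le_conj hG hM htσ hZp hZ1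
      ((hZ.trans inf_le_right).trans (inf_le_left.trans (TransHyp.piCoreOf_le M))) hC
      ((hZ.trans inf_le_left).trans (hY'.trans (smul_mono_right _ (TransHyp.piCoreOf_le M))))
    rwa [Grp.mem_normalizer_iff_smul.1 (hMN hgM)] at hY'

end Cfsg.Agent.S1431
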