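import Cfsg.Statements.S1432
import Cfsg.Agent.Lib.Transfer.Local.KappaFixed

set_option maxHeartbeats 1000000
set_option maxRecDepth 8000

set_option autoImplicit false
open Cfsg

namespace Cfsg.Agent.S1432

open Cfsg.Agent Cfsg.Agent.Transfer Subgroup

/-- Let G be a minimal simple group of odd order, M a maximal subgroup, x a non-identity element of M_σ and x' a non-identity element of C_M(x) no prime divisor of whose order lies in σ(M). Then either all prime divisors of the order of x' lie in κ(M) and C_G(x) ≤ M; or all of them lie in τ₂(M), they all lie in σ(L) for a single maximal subgroup L, and C_G(x') ≤ M with M the unique maximal subgroup containing C_G(x'). -/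
theorem result {G : Type*} [Group G] [Finite G] (hG : Cfsg.IsMinSimpleOddOrder G)
    (M : Subgroup G) (hM : IsCoatom M) (x : G) (hx : x ∈ Cfsg.sigmaCore M) (hx1 : x ≠ 1) (x' : G) (hx' : x' ∈ M ⊓ Subgroup.centralizer ({x} : Set G)) (hx'1 : x' ≠ 1)
    (hσ : ∀ p : ℕ, p.Prime → p ∣ orderOf x' → p ∉ Cfsg.sigma M) :
    ((∀ p : ℕ, p.Prime → p ∣ orderOf x' → p ∈ Cfsg.kappa M) ∧ Subgroup.centralizer ({x} : Set G) ≤ M) ∨
      ((∀ p : ℕ, p.Prime → p ∣ orderOf x' → p ∈ Cfsg.tau2 M) ∧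
        (∃ L : Subgroup G, IsCoatom L ∧ ∀ p : ℕ, p.Prime → p ∣ orderOf x' → p ∈ Cfsg.sigma L) ∧
        (Subgroup.centralizer ({x'} : Set G) ≤ M ∧ ∀ L : Subgroup G, IsCoatom L → Subgroup.centralizer ({x'} : Set G) ≤ L → L = M)) := by
  have hfix : Cfsg.sigmaCore M ⊓ centralizer ({x'} : Set G) ≠ ⊥ := fun e => hx1 (by
    rw [← mem_bot, ← e]
    exact ⟨hx, mem_centralizer_singleton_iff.2 (mem_centralizer_singleton_iff.1 hx'.2).symm⟩)
  rcases Loc.fixed_primes_cases hG hM hx'.1 hx'1 hσ hfix with h | h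
  · left
    refine ⟨h, ?_⟩
    obtain ⟨r, hr, z, hz, -, hzc, hrd⟩ := Loc.exists_prime_zpowers_le hx'1
    refine Loc.kappa_fixed_centralizer hG hM (h r Fact.out hrd) (R := zpowers z)
      ((zpowers_le.2 hz).trans (zpowers_le.2 hx'.1)) hzc ⟨hx, mem_centralizer_iff.2 fun w hw => ?_⟩ hx1
    obtain ⟨i, rfl⟩ := (zpowers_le.2 hz) hw
    exact ((show Commute x' x from mem_centralizer_singleton_iff.1 hx'.2).zpow_left i).eq
  · right
    obtain ⟨r, hr, z, hz, -, hzc, hrd⟩ := Loc.exists_prime_zpowers_le hx'1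
    obtain ⟨L, hL, hLσ⟩ := Loc.tau2_sigma_common hG hM ⟨r, h r Fact.out hrd⟩
    obtain ⟨E, hE, -⟩ := Loc.exists_compl_ge hG hM (bot_le : (⊥ : Subgroup G) ≤ M) fun s hs hd => by
      rw [Subgroup.card_bot, Nat.dvd_one] at hd; exact absurd hd hs.ne_one
    refine ⟨h, ⟨L, hL, fun p hp hd => hLσ (h p hp hd)⟩, ?_⟩
    exact (Cfsg.Agent.S1420.result hG M hM E hE).2.2.2 x' hx'.1 hx'1 h
      ⟨hx'.1, x, hx, hx1, mem_centralizer_singleton_iff.1 hx'.2⟩

end Cfsg.Agent.S1432
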