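import Cfsg.Statements.S1453
import Cfsg.Agent.S0100
import Cfsg.Agent.Lib.Transfer.RankTwo
import Cfsg.Agent.Lib.Grp.RankThreeFour
import Cfsg.Agent.Lib.Grp.GaschutzYen

set_option maxHeartbeats 1000000
set_option maxRecDepth 8000

set_option autoImplicit false
open Cfsg
open scoped commutatorElement

namespace Cfsg.Agent.S1453

/-- Let p be an odd prime and R a finite p-group with an elementary abelian subgroup of order p ^ 3 and an elementary abelian subgroup E of order p ^ 2 contained in no larger elementary abelian subgroup. Let Z₂ be the second centre of R, W the subgroup generated by the elements of Z₂ of order dividing p, and T = C_R(W). Then E is not contained in T; the elements of order dividing p of the centre of R generate a group of order p; W is elementary abelian of order p ^ 2; and T is characteristic in R of index p. -/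
theorem result {R : Type*} [Group R] [Finite R] (p : ℕ) [Fact p.Prime] (hp : p ≠ 2) (hR : IsPGroup p R) (hr : ¬ Cfsg.PRankLE p 2 R)
    (E : Subgroup R) (hE : Cfsg.IsElementaryAbelian p E) (hE2 : Nat.card E = p ^ 2)
    (hEmax : ∀ B : Subgroup R, Cfsg.IsElementaryAbelian p B → E ≤ B → B = E) :
    ¬ E ≤ Subgroup.centralizer ((Subgroup.closure {x : R | x ∈ Subgroup.upperCentralSeries R 2 ∧ x ^ p = 1} : Subgroup R) : Set R) ∧
      Nat.card ↥(Subgroup.closure {x : R | x ∈ Subgroup.center R ∧ x ^ p = 1}) = p ∧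
      (Cfsg.IsElementaryAbelian p (Subgroup.closure {x : R | x ∈ Subgroup.upperCentralSeries R 2 ∧ x ^ p = 1}) ∧
        Nat.card ↥(Subgroup.closure {x : R | x ∈ Subgroup.upperCentralSeries R 2 ∧ x ^ p = 1}) = p ^ 2) ∧
      (Subgroup.centralizer ((Subgroup.closure {x : R | x ∈ Subgroup.upperCentralSeries R 2 ∧ x ^ p = 1} : Subgroup R) : Set R)).Characteristic ∧
      (Subgroup.centralizer ((Subgroup.closure {x : R | x ∈ Subgroup.upperCentralSeries R 2 ∧ x ^ p = 1} : Subgroup R) : Set R)).index = p := by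
  classical
  set U := Subgroup.closure {x : R | x ∈ Subgroup.upperCentralSeries R 2 ∧ x ^ p = 1} with hU
  set Z₀ := Subgroup.closure {x : R | x ∈ Subgroup.center R ∧ x ^ p = 1} with hZ₀
  have hp' : p.Prime := Fact.out
  have hEc : ∀ a ∈ E, ∀ b ∈ E, a * b = b * a := fun a ha b hb =>
    congrArg Subtype.val (hE.1.is_comm.comm ⟨a, ha⟩ ⟨b, hb⟩)
  -- `E` contains every element of order `p` centralizing it
  have habs : ∀ x : R, x ^ p = 1 → (∀ e ∈ E, e * x = x * e) → x ∈ E := by
    intro x hxp hx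
    set B := Subgroup.closure (insert x (E : Set R))
    have hBab : IsMulCommutative B := Transfer.NormalSteps.closure_insert_comm hEc fun e he => (hx e he).symm
    have hBe : ∀ b ∈ B, b ^ p = 1 := fun b hb => Subgroup.closure_induction (p := fun b _ => b ^ p = 1)
      (by rintro b (rfl | hb); exacts [hxp, hE.2 b hb]) (one_pow p)
      (fun a b ha hb h1 h2 => by
        rw [(show Commute a b from congrArg Subtype.val (hBab.is_comm.comm ⟨a, ha⟩ ⟨b, hb⟩)).mul_pow, h1, h2, one_mul])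
      (fun a _ h => by rw [inv_pow, h, inv_one]) hb
    have hEB : E ≤ B := fun e he => Subgroup.subset_closure (Set.mem_insert_of_mem _ he)
    exact (hEmax B ⟨hBab, hBe⟩ hEB) ▸ Subgroup.subset_closure (Set.mem_insert _ _)
  -- a normal elementary abelian subgroup of rank three
  obtain ⟨A₀, hA₀n, hA₀ab, hA₀e, hA₀c⟩ : ∃ A₀ : Subgroup R, A₀.Normal ∧ IsMulCommutative A₀ ∧
      (∀ a ∈ A₀, a ^ p = 1) ∧ Nat.card A₀ = p ^ 3 := by
    by_contra hcon
    refine hr fun B hB hBe => S0100.result hp hR (fun A h1 h2 h3 h4 => hcon ⟨A, h1, h2, h3, h4⟩) B hB hBe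
  haveI := hA₀n
  have hlt : p ^ 2 < p ^ 3 := Nat.pow_lt_pow_right hp'.one_lt (by norm_num)
  have hEnot : ¬ (∀ g e, e ∈ E → g * e * g⁻¹ ∈ E) := by
    intro hn
    haveI : E.Normal := ⟨fun e he g => hn g e he⟩
    have h1 := Grp.RankThree.card_inf_centralizer_ge hR hE.1 hE2.le hA₀c.ge
    have h2 : A₀ ⊓ Subgroup.centralizer (E : Set R) ≤ E := fun x hx =>
      habs x (hA₀e x hx.1) fun e he => Subgroup.mem_centralizer_iff.1 hx.2 e he
    have h3 : A₀ ⊓ Subgroup.centralizer (E : Set R) = E := Subgroup.eq_of_le_of_card_ge h2 (hE2.trans_le h1)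
    have h4 : A₀ ≤ E := fun x hx => habs x (hA₀e x hx) fun e he =>
      congrArg Subtype.val (hA₀ab.is_comm.comm ⟨e, (h3.ge he).1⟩ ⟨x, hx⟩)
    have h5 := Subgroup.card_le_of_le h4
    rw [hA₀c, hE2] at h5
    omega
  -- elements of `U`
  have hup : ∀ x ∈ Subgroup.upperCentralSeries R 2, ∀ g : R, ⁅x, g⁆ ∈ Subgroup.center R := fun x hx g => by
    have h := Subgroup.mem_upperCentralSeries_succ_iff.mp hx g
    rwa [Subgroup.upperCentralSeries_one] at h
  let U' : Subgroup R :=
    { carrier := {x | x ∈ Subgroup.upperCentralSeries R 2 ∧ x ^ p = 1}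
      one_mem' := ⟨one_mem _, one_pow p⟩
      mul_mem' := fun {x y} hx hy => ⟨mul_mem hx.1 hy.1, by
        have hcen : ∀ z, Commute ⁅y, x⁆ z := fun z => (Subgroup.mem_center_iff.1 (hup y hy.1 x) z).symm
        have hc : ⁅y, x⁆ ^ p = 1 := by
          have h2 : y * x * y⁻¹ = ⁅y, x⁆ * x := by rw [commutatorElement_def]; group
          have h3 : (y * x * y⁻¹) ^ p = 1 := by rw [conj_pow, hx.2, mul_one, mul_inv_cancel]
          rwa [h2, (hcen x).mul_pow, hx.2, mul_one] at h3
        rw [Grp.mul_pow_class_two (x := x) (y := y) (c := ⁅y, x⁆) (by rw [commutatorElement_def]; group)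
          (hcen x) (hcen y) p, hx.2, hy.2]
        obtain ⟨m, hm⟩ := hp'.dvd_choose_self two_ne_zero (by have := hp'.two_le; omega : 2 < p)
        rw [hm, pow_mul, hc, one_pow, one_mul, one_mul]⟩
      inv_mem' := fun {x} hx => ⟨inv_mem hx.1, by rw [inv_pow, hx.2, inv_one]⟩ }
  have hUU : U = U' := le_antisymm ((Subgroup.closure_le _).2 fun x hx => hx) fun x hx => Subgroup.subset_closure hx
  have hUmem : ∀ x, x ∈ U ↔ x ∈ Subgroup.upperCentralSeries R 2 ∧ x ^ p = 1 := fun x => by rw [hUU]; exact Iff.rfl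
  let Z' : Subgroup R :=
    { carrier := {x | x ∈ Subgroup.center R ∧ x ^ p = 1}
      one_mem' := ⟨one_mem _, one_pow p⟩
      mul_mem' := fun {x y} hx hy => ⟨mul_mem hx.1 hy.1, by
        rw [(show Commute x y from Subgroup.mem_center_iff.1 hy.1 x).mul_pow, hx.2, hy.2, one_mul]⟩
      inv_mem' := fun {x} hx => ⟨inv_mem hx.1, by rw [inv_pow, hx.2, inv_one]⟩ }
  have hZZ : Z₀ = Z' := le_antisymm ((Subgroup.closure_le _).2 fun x hx => hx) fun x hx => Subgroup.subset_closure hx
  have hZmem : ∀ x, x ∈ Z₀ ↔ x ∈ Subgroup.center R ∧ x ^ p = 1 := fun x => by rw [hZZ]; exact Iff.rfl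
  have hZE : Z₀ ≤ E := fun x hx => habs x ((hZmem x).1 hx).2 fun e _ => Subgroup.mem_center_iff.1 ((hZmem x).1 hx).1 e
  have hcomm : ∀ x ∈ U, ∀ g : R, ⁅x, g⁆ ∈ Z₀ := fun x hx g => by
    obtain ⟨hx1, hx2⟩ := (hUmem x).1 hx
    refine (hZmem _).2 ⟨hup x hx1 g, ?_⟩
    have hcen : ∀ z, Commute ⁅x, g⁆ z := fun z => (Subgroup.mem_center_iff.1 (hup x hx1 g) z).symm
    have h3 : (g * x⁻¹ * g⁻¹) ^ p = 1 := by rw [conj_pow, inv_pow, hx2, inv_one, mul_one, mul_inv_cancel]
    rw [show g * x⁻¹ * g⁻¹ = x⁻¹ * ⁅x, g⁆ by rw [commutatorElement_def]; group, (hcen x⁻¹).symm.mul_pow,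
      inv_pow, hx2, inv_one, one_mul] at h3
    exact h3
  -- normal subgroups of order at most `p²` of exponent `p` lie in `U`
  obtain ⟨W, hWn, hWA, hWc⟩ := Transfer.RankTwo.exists_normal_card hR A₀ 2 (hA₀c ▸ hlt.le)
  haveI := hWn
  have hWU : W ≤ U := by
    intro x hx
    refine (hUmem x).2 ⟨Subgroup.mem_upperCentralSeries_succ_iff.mpr fun g => ?_, hA₀e x (hWA hx)⟩
    rw [Subgroup.upperCentralSeries_one]
    by_cases hWz : W ≤ Subgroup.center R
    · rw [commutatorElement_def, (Subgroup.mem_center_iff.1 (hWz hx) g).symm, mul_inv_cancel_right, mul_inv_cancel]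
      exact one_mem _
    obtain ⟨L, hLn, hbL, hLW, hLc, -⟩ := Transfer.NormalSteps.exists_normal_step hR (M := (⊥ : Subgroup R)) (N := W)
      (bot_lt_iff_ne_bot.2 fun h => hWz (h ▸ bot_le))
    rw [Subgroup.card_bot, mul_one] at hLc
    obtain ⟨L', hL'n, -, hL'W, hL'c, hcom⟩ := Transfer.NormalSteps.exists_normal_step hR (M := L) (N := W)
      (lt_of_le_of_ne hLW fun h => hWz (h ▸ Grp.RankThree.central_of_card_le hR hLc.le))
    have hLeq : L' = W := Subgroup.eq_of_le_of_card_ge hL'W (by rw [hL'c, hLc, hWc, pow_two])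
    rw [← commutatorElement_inv]
    exact inv_mem (Grp.RankThree.central_of_card_le hR hLc.le (hcom g x (hLeq ▸ hx)))
  have hZcard : Nat.card Z₀ = p := by
    obtain ⟨k, hk⟩ := IsPGroup.iff_card.1 (hR.to_subgroup Z₀)
    have hne : k ≠ 0 := fun h0 => by
      rw [h0, pow_zero] at hk
      have hnt : Nontrivial R := Finite.one_lt_card_iff_nontrivial.1 (lt_of_lt_of_le (Nat.one_lt_pow (by norm_num) hp'.one_lt) (hE2 ▸ Subgroup.card_le_card_group E))
      haveI := hR.center_nontrivial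
      obtain ⟨e, he⟩ := (hR.to_subgroup (Subgroup.center R)).exists_card_eq
      have hd : p ∣ Nat.card (Subgroup.center R) := by
        rw [he]
        refine dvd_pow_self p fun h0 => ?_
        rw [h0, pow_zero] at he
        exact absurd he (Finite.one_lt_card (α := Subgroup.center R)).ne'
      obtain ⟨c, hc⟩ := exists_prime_orderOf_dvd_card' p hd
      have hcZ : (c : R) ∈ Z₀ := (hZmem _).2 ⟨c.2, by rw [← SubgroupClass.coe_pow, ← hc, pow_orderOf_eq_one]; rfl⟩
      rw [Subgroup.eq_bot_of_card_eq Z₀ hk, Subgroup.mem_bot] at hcZ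
      rw [show c = 1 from Subtype.ext hcZ, orderOf_one] at hc
      exact hp'.one_lt.ne hc
    by_contra hnp
    have hk2 : 2 ≤ k := by
      by_contra h
      exact hnp (by rw [hk, show k = 1 by omega, pow_one])
    have hEZ : Z₀ = E := Subgroup.eq_of_le_of_card_ge hZE (by rw [hk, hE2]; exact Nat.pow_le_pow_right hp'.pos hk2)
    exact hEnot fun g e he => by
      rw [Subgroup.mem_center_iff.1 ((hZmem e).1 (hEZ.ge he)).1 g, mul_inv_cancel_right]; exact he
  -- `U` has order `p²`
  have hZU : Z₀ ≤ U := fun x hx => (hUmem x).2 ⟨Subgroup.mem_upperCentralSeries_succ_iff.mpr fun g => by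
    rw [Subgroup.upperCentralSeries_one, commutatorElement_def, (Subgroup.mem_center_iff.1 ((hZmem x).1 hx).1 g).symm,
      mul_inv_cancel_right, mul_inv_cancel]
    exact one_mem _, ((hZmem x).1 hx).2⟩
  obtain ⟨e₀, he₀, he₀Z⟩ := SetLike.exists_of_lt (lt_of_le_of_ne hZE fun h => by
    rw [h, hE2, pow_two] at hZcard
    exact absurd hZcard (lt_mul_of_one_lt_left hp'.pos hp'.one_lt).ne')
  have hEgen : ∀ x : R, e₀ * x = x * e₀ → ∀ e ∈ E, e * x = x * e := by
    intro x hx e he
    have h1 : Subgroup.closure (insert e₀ (Z₀ : Set R)) ≤ Subgroup.centralizer ({x} : Set R) := by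
      rw [Subgroup.closure_le]
      rintro y (rfl | hy)
      · exact Subgroup.mem_centralizer_singleton_iff.2 hx
      · exact Subgroup.mem_centralizer_singleton_iff.2 (Subgroup.mem_center_iff.1 ((hZmem y).1 hy).1 x).symm
    rw [← Transfer.NormalSteps.eq_closure_insert hZE (by rw [hE2, hZcard, pow_two]) he₀ he₀Z] at h1
    exact Subgroup.mem_centralizer_singleton_iff.1 (h1 he)
  let φ : U →* Z₀ := MonoidHom.mk' (fun x => ⟨⁅(x : R), e₀⁆, hcomm x x.2 e₀⟩) fun x y => Subtype.ext (by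
    show ⁅(x : R) * y, e₀⁆ = ⁅(x : R), e₀⁆ * ⁅(y : R), e₀⁆
    have h1 := Subgroup.mem_center_iff.1 ((hZmem _).1 (hcomm y y.2 e₀)).1
    calc ⁅(x : R) * y, e₀⁆ = (x : R) * ⁅(y : R), e₀⁆ * (x : R)⁻¹ * ⁅(x : R), e₀⁆ := by
          simp only [commutatorElement_def]; group
      _ = ⁅(y : R), e₀⁆ * ⁅(x : R), e₀⁆ := by rw [h1, mul_inv_cancel_right]
      _ = _ := (h1 _).symm)
  have hker : φ.ker.map U.subtype ≤ E := by
    rintro _ ⟨x, hx, rfl⟩
    refine habs _ ((hUmem _).1 x.2).2 (hEgen _ ?_)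
    exact (commutatorElement_eq_one_iff_mul_comm.1 (congrArg Subtype.val hx)).symm
  have hEU : ¬ E ≤ U := fun h => hEnot fun g e he => by
    have h1 := hZE (hcomm e (h he) g)
    have h2 : g * e * g⁻¹ = ⁅e, g⁆⁻¹ * e := by
      rw [commutatorElement_inv, commutatorElement_def]; group
    rw [h2]; exact E.mul_mem (E.inv_mem h1) he
  have hkerc : Nat.card φ.ker ≤ p := by
    rw [← Subgroup.card_map_of_injective (f := U.subtype) U.subtype_injective]
    obtain ⟨k, hk, hkc⟩ := (Nat.dvd_prime_pow hp').1 (hE2 ▸ Subgroup.card_dvd_of_le hker)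
    by_contra hgt
    have hk2 : k = 2 := by
      by_contra h
      exact hgt (hkc ▸ (Nat.pow_le_pow_right hp'.pos (show k ≤ 1 by omega)).trans (pow_one p).le)
    exact hEU ((Subgroup.eq_of_le_of_card_ge hker (by rw [hE2, hkc, hk2])).ge.trans (Subgroup.map_subtype_le _))
  have hUc : Nat.card U = p ^ 2 := by
    refine le_antisymm ?_ (hWc ▸ Subgroup.card_le_of_le hWU)
    rw [← Subgroup.card_mul_index φ.ker, Subgroup.index_ker, pow_two]
    exact Nat.mul_le_mul hkerc (hZcard ▸ Subgroup.card_le_card_group φ.range)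
  have hUW : U = W := (Subgroup.eq_of_le_of_card_ge hWU (hUc.trans hWc.symm).le).symm
  have hUab : IsMulCommutative U := ⟨⟨fun a b => Subtype.ext (congrArg (fun z : A₀ => (z : R))
    (hA₀ab.is_comm.comm ⟨a, hWA (hUW.le a.2)⟩ ⟨b, hWA (hUW.le b.2)⟩))⟩⟩
  have hnotC : ¬ E ≤ Subgroup.centralizer (U : Set R) := by
    intro h
    have hUE : U ≤ E := fun x hx => habs x ((hUmem x).1 hx).2 fun e he => (Subgroup.mem_centralizer_iff.1 (h he) x hx).symm
    exact hEU (Subgroup.eq_of_le_of_card_ge hUE (hE2.trans hUc.symm).le).ge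
  haveI hUn : U.Normal := hUW ▸ hWn
  haveI hUchar : U.Characteristic := by
    refine Subgroup.characteristic_iff_le_comap.mpr fun φ x hx => ?_
    obtain ⟨h1, h2⟩ := (hUmem x).1 hx
    refine (hUmem _).2 ⟨?_, by show φ x ^ p = 1; rw [← map_pow, h2, map_one]⟩
    exact Subgroup.characteristic_iff_le_comap.mp (inferInstance : (Subgroup.upperCentralSeries R 2).Characteristic) φ h1
  refine ⟨hnotC, hZcard, ⟨⟨hUab, fun x hx => ((hUmem x).1 hx).2⟩, hUc⟩, inferInstance, ?_⟩
  have hle := Grp.RankThree.index_centralizer_le hR hUab hUc.le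
  obtain ⟨k, hk⟩ := hR.index (Subgroup.centralizer (U : Set R))
  rw [hk] at hle ⊢
  have hk1 : k ≤ 1 := (Nat.pow_le_pow_iff_right hp'.one_lt).1 (hle.trans (pow_one p).ge)
  rcases Nat.eq_zero_or_pos k with rfl | hpos
  · rw [pow_zero, Subgroup.index_eq_one] at hk
    exact absurd (hk ▸ le_top) hnotC
  · rw [show k = 1 by omega, pow_one]

end Cfsg.Agent.S1453
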