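import Cfsg.Statements.S1455
import Mathlib
import Cfsg.Agent.Lib.Transfer.NarrowAut
import Cfsg.Agent.Lib.Transfer.PLengthOne

set_option maxHeartbeats 1000000
set_option maxRecDepth 8000

set_option autoImplicit false
open Cfsg

namespace Cfsg.Agent.S1455

/-- Let G be a solvable group of odd order, p a prime dividing its order, and S a Sylow p-subgroup of G that is narrow; if S has an elementary abelian subgroup of order p ^ 3 assume also G = O_{p',p,p'}(G). Then every prime dividing the index of O_{p'}(G) is at most p; if p = 3 or p is the smallest prime divisor of #G then G has a normal p-complement; G' has a normal p-complement; every subgroup of G' of order coprime to p lies in O_{p'}(G'); and G' ≤ O_{p',p}(G) with the index of O_{p',p}(G) coprime to p. -/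
theorem result {G : Type*} [Group G] [Finite G] [Group.IsSolvable G] (hodd : Odd (Nat.card G)) (p : ℕ) [Fact p.Prime] (hpG : p ∣ Nat.card G) (S : Sylow p G) (hS : Cfsg.IsNarrow p ↥(S : Subgroup G))
    (hpl : ¬ Cfsg.PRankLE p 2 ↥(S : Subgroup G) → Cfsg.PLengthLE p 1 G) :
    (∀ q : ℕ, q.Prime → q ∣ (Cfsg.pPrimeCore p G).index → q ≤ p) ∧
      ((p = 3 ∨ ∀ q : ℕ, q.Prime → q ∣ Nat.card G → p ≤ q) → Cfsg.HasNormalPComplement p G) ∧
      Cfsg.HasNormalPComplement p ↥(commutator G) ∧
      (∀ L : Subgroup ↥(commutator G), (Nat.card L).Coprime p → L ≤ Cfsg.pPrimeCore p ↥(commutator G)) ∧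
      commutator G ≤ Cfsg.pPrimePCore p G ∧ ((Cfsg.pPrimePCore p G).index).Coprime p := by
  classical
  have hp2 : p ≠ 2 := fun h => hodd.not_two_dvd_nat (h ▸ hpG)
  by_cases hr : Cfsg.PRankLE p 2 ↥(S : Subgroup G)
  · refine Transfer.OddRankTwo.concl_rank_two hodd hpG fun A hA hAe => ?_
    have hAp : IsPGroup p A := fun a => ⟨1, Subtype.ext (by simpa using hAe a a.2)⟩
    obtain ⟨T, hT⟩ := hAp.exists_le_sylow
    obtain ⟨g, rfl⟩ := MulAction.exists_smul_eq G S T
    have hle : A.map (MulAut.conj g⁻¹).toMonoidHom ≤ (S : Subgroup G) := by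
      rintro _ ⟨a, ha, rfl⟩
      have h := hT ha
      rw [Sylow.coe_subgroup_smul, Subgroup.mem_pointwise_smul_iff_inv_smul_mem] at h
      simpa using h
    have h := hr ((A.map (MulAut.conj g⁻¹).toMonoidHom).subgroupOf (S : Subgroup G)) ⟨⟨fun x y => ?_⟩⟩ fun x hx => ?_
    · rwa [Nat.card_congr (Subgroup.subgroupOfEquivOfLe hle).toEquiv,
        Subgroup.card_map_of_injective (MulAut.conj g⁻¹).injective] at h
    · obtain ⟨a, ha, hae⟩ := x.2
      obtain ⟨b, hb, hbe⟩ := y.2
      refine Subtype.ext (Subtype.ext ?_)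
      show ((x : ↥(S : Subgroup G)) : G) * (y : ↥(S : Subgroup G)) = (y : ↥(S : Subgroup G)) * (x : ↥(S : Subgroup G))
      rw [show ((x : ↥(S : Subgroup G)) : G) = MulAut.conj g⁻¹ a from hae.symm,
        show ((y : ↥(S : Subgroup G)) : G) = MulAut.conj g⁻¹ b from hbe.symm, ← map_mul, ← map_mul,
        show a * b = b * a from congrArg Subtype.val (hA.is_comm.comm (⟨a, ha⟩ : A) ⟨b, hb⟩)]
    · obtain ⟨a, ha, hae⟩ := hx
      refine Subtype.ext ?_
      show ((x : ↥(S : Subgroup G)) : G) ^ p = 1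
      rw [show (x : G) = MulAut.conj g⁻¹ a from hae.symm, ← map_pow, hAe a ha, map_one]
  haveI : (Cfsg.pPrimeCore p G).Normal := Grp.pPrimeCore_isNormal
  refine Transfer.OddRankTwo.concl_of_faithful hp2 hodd fun A _ _ => ?_
  let π := (QuotientGroup.mk' (Cfsg.pPrimeCore p G)).comp (S : Subgroup G).subtype
  have hπ : Function.Injective π := by
    rw [← MonoidHom.ker_eq_bot_iff, Subgroup.eq_bot_iff_forall]
    intro x hx
    have h1 : (x : G) ∈ (S : Subgroup G) ⊓ Cfsg.pPrimeCore p G := ⟨x.2, (QuotientGroup.eq_one_iff (x : G)).1 hx⟩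
    rw [Transfer.PLengthOne.sylow_inf_pPrimeCore S, Subgroup.mem_bot] at h1
    exact Subtype.ext h1
  have hrange : π.range = Cfsg.pCore p (G ⧸ Cfsg.pPrimeCore p G) := by
    rw [← Transfer.PLengthOne.map_sylow (hpl hr) S, MonoidHom.range_comp, Subgroup.range_subtype]
  let e : ↥(S : Subgroup G) ≃* ↥(Cfsg.pCore p (G ⧸ Cfsg.pPrimeCore p G)) :=
    (MonoidHom.ofInjective hπ).trans (MulEquiv.subgroupCongr hrange)
  let φ : A →* MulAut ↥(S : Subgroup G) := (MulAut.congr e.symm).toMonoidHom.comp A.subtype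
  have hφ : Function.Injective φ := (MulAut.congr e.symm).injective.comp A.subtype_injective
  have hE := Transfer.Narrow.hasMaxPlane_of_narrow S.isPGroup' hr hS
  refine ⟨Transfer.Narrow.derived_isPGroup hp2 S.isPGroup' hr hE φ hφ, fun q hq hqd hqp => ?_⟩
  haveI := Fact.mk hq
  obtain ⟨a, ha⟩ := exists_prime_orderOf_dvd_card' q hqd
  refine (ha ▸ Transfer.Narrow.orderOf_dvd hp2 S.isPGroup' hr hE φ hφ a ?_ : q ∣ p - 1).mul_right _
  rw [ha]; exact (Nat.coprime_primes hq (Fact.out : p.Prime)).2 hqp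

end Cfsg.Agent.S1455
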