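import Cfsg.Statements.S1414
import Mathlib
import Cfsg.Agent.Lib.Transfer.Local.Beta

set_option maxHeartbeats 1000000
set_option maxRecDepth 8000

set_option autoImplicit false
open Cfsg

namespace Cfsg.Agent.S1414

open Transfer Subgroup
open scoped commutatorElement

/-- Let G be a minimal simple group of odd order, M a maximal subgroup, β(M) the set of ideal primes in α(M), and M_β = O_{β(M)}(M). Then M_β is a Hall β(M)-subgroup of M and of G; M' and M_σ each have a nilpotent Hall β(M)'-subgroup; and for each prime p dividing the order of M with p ∉ β(M), both M' and M_σ have normal p-complements and every prime dividing the index of O_{p'}(M) in M is at most p. -/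
theorem result {G : Type*} [Group G] [Finite G] (hG : Cfsg.IsMinSimpleOddOrder G)
    (M : Subgroup G) (hM : IsCoatom M) :
    Cfsg.IsPiHallOf (Cfsg.beta M) (Cfsg.piCoreOf (Cfsg.beta M) M) M ∧ Cfsg.IsPiHall (Cfsg.beta M) (Cfsg.piCoreOf (Cfsg.beta M) M) ∧
      (∃ H : Subgroup G, Cfsg.IsPiHallOf {q | q.Prime ∧ q ∉ Cfsg.beta M} H ⁅M, M⁆ ∧ Group.IsNilpotent H) ∧
      (∃ H : Subgroup G, Cfsg.IsPiHallOf {q | q.Prime ∧ q ∉ Cfsg.beta M} H (Cfsg.sigmaCore M) ∧ Group.IsNilpotent H) ∧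
      ∀ p : ℕ, p.Prime → p ∣ Nat.card M → p ∉ Cfsg.beta M →
        Cfsg.HasNormalPComplement p ↥⁅M, M⁆ ∧ Cfsg.HasNormalPComplement p ↥(Cfsg.sigmaCore M) ∧
        ∀ q : ℕ, q.Prime → q ∣ (Cfsg.pPrimeCore p ↥M).index → q ≤ p := by

  haveI := Loc.solvable_of_ne_top hG hM.1
  have hσ' : Cfsg.sigmaCore M ≤ ⁅M, M⁆ := Loc.sigmaCore_le_derived hG hM
  have hex : ∀ X : Subgroup G, X ≤ ⁅M, M⁆ →
      ∃ H : Subgroup G, Cfsg.IsPiHallOf {q | q.Prime ∧ q ∉ Cfsg.beta M} H X ∧ Group.IsNilpotent H := by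
    intro X hX
    haveI := Loc.isSolvable_of_le (hX.trans M.commutator_le_self)
    obtain ⟨H, hH⟩ := Cfsg.Agent.Grp.PiHall.exists_piHall {q | q.Prime ∧ q ∉ Cfsg.beta M} X
    exact ⟨H, hH, Loc.beta_nilpotent hG hM (hH.1.trans hX) fun q hq hd => (hH.2.1 q hq hd).2⟩
  refine ⟨(Loc.isPiHallOf_beta hG hM).1, (Loc.isPiHallOf_beta hG hM).2, hex _ le_rfl, hex _ hσ', fun p hp hpM hβ => ?_⟩
  haveI := Fact.mk hp
  obtain ⟨h1, h2⟩ := Loc.derived_facts hG hM hpM hβ
  exact ⟨h1, hasNormalPComplement_mono hσ' h1, h2⟩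

end Cfsg.Agent.S1414
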