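import Cfsg.Statements.S1445
import Mathlib
import Cfsg.Agent.Lib.Grp.HallHigmanAction
import Cfsg.Agent.Lib.Grp.Coprime
import Cfsg.Agent.Lib.Grp.FpfDual
import Cfsg.Agent.Lib.Grp.Cores
import Cfsg.Agent.Lib.Grp.Frattini

set_option maxHeartbeats 1000000
set_option maxRecDepth 8000

set_option autoImplicit false
open Cfsg

namespace Cfsg.Agent.S1445

open Subgroup
open scoped commutatorElement
open Cfsg.Agent.Grp

variable {G : Type*} [Group G] [Finite G]

/-- An operator of prime order without fixed points on a normal `ℓ`-subgroup. -/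
theorem commutator_le_centralizer (hodd : Odd (Nat.card G)) {ℓ q r : ℕ} [hl : Fact ℓ.Prime] [hq : Fact q.Prime]
    [hr : Fact r.Prime] (hlq : ℓ ≠ q) (hlr : ℓ ≠ r) (hqr : q ≠ r) (X Y P : Subgroup G) [P.Normal]
    (hX : Nat.card X = r) (hY : IsPGroup q Y) (hXY : X ≤ normalizer (Y : Set G)) (hP : IsPGroup ℓ P)
    (hfix : P ⊓ centralizer (X : Set G) = ⊥) : ⁅Y, X⁆ ≤ centralizer (P : Set G) := by
  classical
  set Φ := (frattini ↥P).map P.subtype with hΦ
  haveI : Φ.Normal := inferInstance
  set π := QuotientGroup.mk' Φ with hπ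
  haveI : (P.map π).Normal := Subgroup.Normal.map inferInstance π (QuotientGroup.mk'_surjective _)
  have hΦP : Φ ≤ P := map_subtype_le _
  have hXP : (Nat.card X).Coprime (Nat.card P) := by
    obtain ⟨i, hi⟩ := hP.exists_card_eq
    rw [hX, hi]
    exact ((Nat.coprime_primes hr.out hl.out).mpr hlr.symm).pow_right i
  have hXN : X ≤ normalizer (P : Set G) := by rw [normalizer_eq_top]; exact le_top
  have hmem : ∀ b ∈ frattini ↥P, π (b : G) = 1 := fun b hb => (QuotientGroup.eq_one_iff _).mpr ⟨b, hb, rfl⟩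
  have hV : Cfsg.IsElementaryAbelian ℓ (P.map π) := by
    refine ⟨⟨⟨?_⟩⟩, ?_⟩
    · rintro ⟨_, a, ha, rfl⟩ ⟨_, b, hb, rfl⟩
      refine Subtype.ext ?_
      show π a * π b = π b * π a
      rw [← commutatorElement_eq_one_iff_mul_comm, ← map_commutatorElement]
      exact hmem ⁅(⟨a, ha⟩ : ↥P), ⟨b, hb⟩⁆ (pGroup_commutator_le_frattini hP
        (commutator_mem_commutator (mem_top _) (mem_top _)))
    · rintro _ ⟨a, ha, rfl⟩
      rw [← map_pow]
      exact hmem _ (pGroup_pow_mem_frattini hP ⟨a, ha⟩)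
  have hinf : X ⊓ P = ⊥ := Cfsg.Agent.Grp.inf_eq_bot_of_coprime hXP
  have hXπ : Nat.card (X.map π) = r := by
    rw [← hX]
    refine (Nat.card_congr (Equiv.ofBijective (fun x : X => (⟨π x, x, x.2, rfl⟩ : X.map π)) ⟨?_, ?_⟩)).symm
    · intro a b h
      have h1 : (a : G)⁻¹ * b ∈ Φ := QuotientGroup.eq.mp (congrArg Subtype.val h)
      have h2 : (a : G)⁻¹ * b ∈ X ⊓ P := ⟨X.mul_mem (X.inv_mem a.2) b.2, hΦP h1⟩
      rw [hinf, mem_bot, inv_mul_eq_one] at h2
      exact Subtype.ext h2
    · rintro ⟨_, x, hx, rfl⟩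
      exact ⟨⟨x, hx⟩, rfl⟩
  have hfixπ : P.map π ⊓ centralizer ((X.map π : Subgroup _) : Set (G ⧸ Φ)) = ⊥ := by
    rw [eq_bot_iff]
    rintro _ ⟨⟨v, hv, rfl⟩, hc⟩
    rw [mem_bot]
    obtain ⟨c, hc', hcv⟩ := exists_fixed_rep X P Φ hXN hinf (hXP.coprime_dvd_right (card_dvd_of_le hΦP))
      (Or.inr (@IsNilpotent.to_isSolvable _ _ (hP.to_le hΦP).isNilpotent)) hΦP
      (by rw [normalizer_eq_top]; exact le_top) (by rw [normalizer_eq_top]; exact le_top) hv (fun a ha => by
        rw [← QuotientGroup.eq_one_iff]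
        show π (a * v * a⁻¹ * v⁻¹) = 1
        simp only [map_mul, map_inv]
        rw [mem_centralizer_iff.mp hc (π a) ⟨a, ha, rfl⟩]
        group)
    rw [hfix, mem_bot] at hc'
    subst hc'
    rw [mul_one, inv_mem_iff] at hcv
    exact (QuotientGroup.eq_one_iff v).mpr hcv
  have hle : ⁅Y.map π, X.map π⁆ ≤ centralizer ((P.map π : Subgroup _) : Set (G ⧸ Φ)) := by
    by_contra hne
    refine exists_fixed_of_not_centralizing (p := ℓ) (q := q) hlq hlr hqr (X.map π) (Y.map π) (P.map π) hXπ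
      (hY.map π) ?_ hV (by rw [normalizer_eq_top]; exact le_top) (by rw [normalizer_eq_top]; exact le_top) hne
      (fun e => ?_) hfixπ
    · exact (map_mono hXY).trans (le_normalizer_map π)
    · subst e
      intro _
      have h1 : Y = ⊥ := by
        obtain ⟨i, hi⟩ := hY.exists_card_eq
        rcases i.eq_zero_or_pos with rfl | hi0
        · exact card_eq_one.mp (by simpa using hi)
        · exfalso
          have := (hi ▸ dvd_pow_self 2 hi0.ne' : 2 ∣ Nat.card Y).trans (card_subgroup_dvd_card Y)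
          exact Nat.not_even_iff_odd.mpr hodd (even_iff_two_dvd.mpr this)
      subst h1
      rw [Subgroup.map_bot]
      exact ⟨⟨fun a b => Subsingleton.elim _ _⟩⟩
  set T := ⁅Y, X⁆ with hT
  have hTY : T ≤ Y := commutator_le_left_of_le_normalizer hXY
  have hcomm : ⁅P, T⁆ ≤ Φ := by
    rw [commutator_le]
    intro v hv t ht
    rw [← QuotientGroup.eq_one_iff]
    show π ⁅v, t⁆ = 1
    rw [map_commutatorElement, commutatorElement_eq_one_iff_mul_comm]
    have ht' : π t ∈ ⁅Y.map π, X.map π⁆ := by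
      rw [← map_commutator]; exact mem_map_of_mem _ ht
    exact mem_centralizer_iff.mp (hle ht') (π v) ⟨v, hv, rfl⟩
  have hcop : (Nat.card T).Coprime (Nat.card P) :=
    IsPGroup.coprime_card_of_ne q ℓ hlq.symm T P (hY.to_le hTY) hP
  have hgen := commutator_sup_fixed T P (by rw [normalizer_eq_top]; exact le_top) hcop
    (Or.inr (@IsNilpotent.to_isSolvable _ _ hP.isNilpotent))
  have htop : (P ⊓ centralizer (T : Set G)).subgroupOf P = ⊤ := by
    refine frattini_nongenerating (eq_top_iff.mpr fun w _ => ?_)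
    have hw : (w : G) ∈ Φ ⊔ (P ⊓ centralizer (T : Set G)) := (sup_le_sup_right hcomm _) (hgen.ge w.2)
    have e : Φ ⊔ (P ⊓ centralizer (T : Set G)) =
        ((P ⊓ centralizer (T : Set G)).subgroupOf P ⊔ frattini ↥P).map P.subtype := by
      rw [Subgroup.map_sup, map_subgroupOf_eq_of_le inf_le_left, sup_comm]
    rw [e] at hw
    obtain ⟨u, hu, eu⟩ := hw
    rwa [show u = w from Subtype.ext eu] at hu
  rw [subgroupOf_eq_top] at htop
  exact le_centralizer_iff.mp (htop.trans inf_le_right)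


/-- Let G be a solvable group of odd order, K a normal subgroup and R a subgroup with G = KR and the orders of K and R coprime. Suppose K ∩ C_G(x) = K ∩ C_G(R) for every non-identity x ∈ R, and F(K) ∩ C_G(R) = 1. Then [K, R] is contained in the Fitting subgroup of K. -/
theorem result {G : Type*} [Group G] [Finite G] [Group.IsSolvable G] (hodd : Odd (Nat.card G)) (K R : Subgroup G) [K.Normal] (hKR : K ⊔ R = ⊤) (hcop : (Nat.card K).Coprime (Nat.card R))
    (hprime : ∀ x ∈ R, x ≠ 1 → K ⊓ Subgroup.centralizer ({x} : Set G) = (K ⊓ Subgroup.centralizer (R : Set G)))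
    (hF : Cfsg.fittingOf K ⊓ Subgroup.centralizer (R : Set G) = ⊥) :
    ⁅K, R⁆ ≤ Cfsg.fittingOf K := by

  classical
  rcases eq_or_ne R ⊥ with rfl | hR
  · rw [Subgroup.commutator_bot_right]; exact bot_le
  obtain ⟨r, hr, hrR⟩ := Nat.exists_prime_and_dvd (n := Nat.card R) (fun h => hR (Subgroup.card_eq_one.mp h))
  haveI := Fact.mk hr
  obtain ⟨x0, hx0⟩ := exists_prime_orderOf_dvd_card' (G := R) r hrR
  set x : G := (x0 : G) with hxdef
  have hxR : x ∈ R := x0.2
  have hxo : orderOf x = r := by rw [hxdef, Subgroup.orderOf_coe, hx0]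
  have hx1 : x ≠ 1 := fun h => hr.one_lt.ne (by rw [← hxo, h, orderOf_one])
  set X := Subgroup.zpowers x with hX
  have hXc : Nat.card X = r := by rw [hX, Nat.card_zpowers, hxo]
  have hXR : X ≤ R := Subgroup.zpowers_le.mpr hxR
  have hCX : K ⊓ centralizer (X : Set G) = K ⊓ centralizer (R : Set G) := by
    rw [hX, ← hprime x hxR hx1, Subgroup.zpowers_eq_closure, centralizer_closure]
  set F := Cfsg.fittingOf K with hFdef
  haveI hFn : F.Normal := by rw [hFdef, Cfsg.fittingOf]; infer_instance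
  have hFK : F ≤ K := map_subtype_le _
  have hrK : ¬ r ∣ Nat.card K := fun h =>
    hr.one_lt.ne (Nat.eq_one_of_dvd_coprimes hcop h hrR).symm
  have hcopX : (Nat.card X).Coprime (Nat.card K) := by rw [hXc]; exact hr.coprime_iff_not_dvd.mpr hrK
  have hXN : ∀ N : Subgroup G, N.Normal → X ≤ normalizer (N : Set G) := fun N hN => by
    rw [normalizer_eq_top]; exact le_top
  set π := QuotientGroup.mk' F with hπ
  set Kb := K.map π with hKb
  haveI : Kb.Normal := Subgroup.Normal.map inferInstance π (QuotientGroup.mk'_surjective _)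
  set Xb := X.map π with hXb
  have hker : ∀ g, π g = 1 → g ∈ F := fun g hg => (QuotientGroup.eq_one_iff g).mp hg
  -- the operator centralizes the Fitting subgroup of the quotient
  have hcen : ∀ q : ℕ, q.Prime → ((Cfsg.pCore q ↥Kb).map Kb.subtype) ≤ centralizer (Xb : Set (G ⧸ F)) := by
    intro q hq
    haveI := Fact.mk hq
    set Oq := (Cfsg.pCore q ↥Kb).map Kb.subtype with hOq
    haveI : Oq.Normal := inferInstance
    set M := Oq.comap π ⊓ K with hM
    haveI : M.Normal := inferInstance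
    obtain ⟨Y, hY, hXY⟩ := exists_invariant_sylow X M (hXN M inferInstance)
      (hcopX.coprime_dvd_right (card_dvd_of_le inf_le_right)) (Or.inr inferInstance) q
    set D : Subgroup ↥K := M.subgroupOf K ⊓
      ⨅ (s : ℕ) (_ : s.Prime ∧ s ≠ q), centralizer (Cfsg.pCore s ↥K : Set ↥K) with hD
    have hDn : D.Normal := by
      haveI : (⨅ (s : ℕ) (_ : s.Prime ∧ s ≠ q), centralizer (Cfsg.pCore s ↥K : Set ↥K)).Normal := by
        refine Subgroup.normal_iInf_normal fun s => Subgroup.normal_iInf_normal fun _ => ?_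
        have := pCore_isNormal (p := s) (G := ↥K)
        infer_instance
      infer_instance
    have hOqp : IsPGroup q Oq := (pCore_isPGroup (p := q) (G := ↥Kb)).map _
    have hDF : D ≤ Cfsg.fittingSubgroup ↥K := by
      refine le_fitting_of_centralizing (q := q) hDn (fun s hs hsq => inf_le_right.trans (iInf₂_le s ⟨hs, hsq⟩))
        fun s hs hsq y hy i hi => ?_
      have hyM : (y : G) ∈ M := hy.1
      obtain ⟨j, hj⟩ := hOqp ⟨π y, hyM.1⟩
      have h1 : orderOf (π (y : G)) ∣ q ^ j := orderOf_dvd_of_pow_eq_one (congrArg Subtype.val hj)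
      have h2 : orderOf (π (y : G)) ∣ s ^ i := orderOf_dvd_of_pow_eq_one (by
        rw [← map_pow, ← SubmonoidClass.coe_pow, hi, Subgroup.coe_one, map_one])
      have h3 := hker _ (orderOf_eq_one_iff.mp (Nat.eq_one_of_dvd_coprimes
        (((Nat.coprime_primes hq hs).mpr hsq.symm).pow j i) h1 h2))
      obtain ⟨z, hz, e⟩ := h3
      rwa [show y = z from (Subtype.ext e).symm]
    have hTY : ⁅Y, X⁆ ≤ Y := commutator_le_left_of_le_normalizer hXY
    have hTF : ⁅Y, X⁆ ≤ F := by
      intro t ht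
      have htK : t ∈ K := (hY.1 (hTY ht)).2
      refine ⟨⟨t, htK⟩, hDF ⟨hY.1 (hTY ht), ?_⟩, rfl⟩
      refine Subgroup.mem_iInf.mpr fun s => Subgroup.mem_iInf.mpr fun hs => ?_
      haveI := Fact.mk hs.1
      set P := (Cfsg.pCore s ↥K).map K.subtype with hP
      haveI : P.Normal := inferInstance
      by_cases hY1 : Y = ⊥
      · subst hY1
        rw [Subgroup.commutator_bot_left, mem_bot] at ht
        subst ht
        exact (centralizer (Cfsg.pCore s ↥K : Set ↥K)).one_mem
      by_cases hP1 : P = ⊥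
      · refine mem_centralizer_iff.mpr fun z hz => ?_
        have : (z : G) ∈ P := ⟨z, hz, rfl⟩
        rw [hP1, mem_bot] at this
        rw [show z = 1 from Subtype.ext this]; simp
      have hPp : IsPGroup s P := (pCore_isPGroup (p := s) (G := ↥K)).map _
      have hdiv : ∀ {l : ℕ} [Fact l.Prime] (W : Subgroup G), IsPGroup l W → W ≠ ⊥ → W ≤ K → l ∣ Nat.card K := by
        intro l _ W hW hW1 hWK
        obtain ⟨e, he⟩ := hW.exists_card_eq
        rcases e.eq_zero_or_pos with rfl | he0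
        · exact absurd (Subgroup.card_eq_one.mp (by simpa using he)) hW1
        · exact ((dvd_pow_self l he0.ne').trans (dvd_of_eq he.symm)).trans (card_dvd_of_le hWK)
      have hC := commutator_le_centralizer hodd (ℓ := s) (q := q) (r := r) hs.2
        (fun e => hrK (e ▸ hdiv P hPp hP1 (map_subtype_le _)))
        (fun e => hrK (e ▸ hdiv Y hY.2.1 hY1 (hY.1.trans inf_le_right))) X Y P hXc hY.2.1 hXY hPp (by
          rw [eq_bot_iff, ← hF]
          refine fun z hz => ⟨?_, ?_⟩
          · exact map_mono (pCore_le_fittingSubgroup (p := s) (G := ↥K)) hz.1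
          · have : z ∈ K ⊓ centralizer (X : Set G) := ⟨map_subtype_le _ hz.1, hz.2⟩
            rw [hCX] at this
            exact this.2) ht
      exact mem_centralizer_iff.mpr fun z hz => Subtype.ext (mem_centralizer_iff.mp hC z ⟨z, hz, rfl⟩)
    -- the Sylow subgroup covers the core
    intro o ho
    obtain ⟨g, rfl⟩ := QuotientGroup.mk'_surjective F o
    have hoK : π g ∈ Kb := map_subtype_le _ ho
    obtain ⟨k, hk, hkg⟩ := hoK
    have hkM : k ∈ M := ⟨by show π k ∈ Oq; rw [hkg]; exact ho, hk⟩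
    have hYM : Y.map π = M.map π := by
      refine le_antisymm (map_mono hY.1) (relIndex_eq_one.mp ?_)
      have h1 : (Y.map π).relIndex (M.map π) ∣ Y.relIndex M := by
        have hFM : F ≤ M := fun f hf => ⟨by
          show π f ∈ Oq
          rw [show π f = 1 from (QuotientGroup.eq_one_iff f).mpr hf]
          exact Oq.one_mem, hFK hf⟩
        rw [Subgroup.relIndex_map_map, hπ, QuotientGroup.ker_mk', sup_eq_left.mpr hFM,
          ← Subgroup.relIndex_mul_relIndex Y (Y ⊔ F) M le_sup_left (sup_le hY.1 hFM)]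
        exact dvd_mul_left _ _
      obtain ⟨e, he⟩ := (hOqp.to_le (map_le_iff_le_comap.mpr inf_le_left : M.map π ≤ Oq)).exists_card_eq
      have h2 : (Y.map π).relIndex (M.map π) ∣ q ^ e := he ▸ relIndex_dvd_card _ _
      obtain ⟨e', -, he'⟩ := (Nat.dvd_prime_pow hq).mp h2
      rcases e'.eq_zero_or_pos with h | h
      · rw [he', h, pow_zero]
      · exact absurd ((he' ▸ dvd_pow_self q h.ne').trans h1) hY.2.2
    obtain ⟨y, hy, hyk⟩ := hYM.ge (mem_map_of_mem π hkM)
    refine mem_centralizer_iff.mpr ?_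
    rintro _ ⟨a, ha, rfl⟩
    rw [show (QuotientGroup.mk' F) g = π y from hkg.symm.trans hyk.symm]
    symm
    rw [← commutatorElement_eq_one_iff_mul_comm, ← map_commutatorElement]
    exact (QuotientGroup.eq_one_iff _).mpr (hTF (commutator_mem_commutator hy ha))
  set Fb := (Cfsg.fittingSubgroup ↥Kb).map Kb.subtype with hFb
  haveI : Fb.Normal := inferInstance
  have hFbX : Fb ≤ centralizer (Xb : Set (G ⧸ F)) := by
    rw [hFb, fittingSubgroup_eq_iSup_pCore, Subgroup.map_iSup]
    exact iSup_le fun q => hcen q q.2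
  have h1 : ⁅⁅Xb, Fb⁆, Kb⁆ = ⊥ := by
    rw [show ⁅Xb, Fb⁆ = ⊥ from (Subgroup.commutator_comm _ _).trans
      (commutator_eq_bot_iff_le_centralizer.mpr hFbX), Subgroup.commutator_bot_left]
  have h2 : ⁅⁅Fb, Kb⁆, Xb⁆ = ⊥ :=
    commutator_eq_bot_iff_le_centralizer.mpr ((Subgroup.commutator_le_left Fb Kb).trans hFbX)
  have h3 : ⁅⁅Kb, Xb⁆, Fb⁆ = ⊥ := Subgroup.commutator_commutator_eq_bot_of_rotate h1 h2
  have hXKb : Xb ≤ normalizer (Kb : Set (G ⧸ F)) := by rw [normalizer_eq_top]; exact le_top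
  have hcop' : (Nat.card Xb).Coprime (Nat.card Kb) :=
    (hcopX.coprime_dvd_left (card_map_dvd X π)).coprime_dvd_right (card_map_dvd K π)
  haveI : Group.IsSolvable ↥Kb := inferInstance
  have hKbX : ⁅Kb, Xb⁆ = ⊥ := by
    have hle : ⁅Kb, Xb⁆ ≤ Fb := by
      intro c hc
      have hcK : c ∈ Kb := commutator_le_left_of_le_normalizer hXKb hc
      refine ⟨⟨c, hcK⟩, centralizer_fittingSubgroup_le (mem_centralizer_iff.mpr fun z hz => Subtype.ext ?_), rfl⟩
      exact mem_centralizer_iff.mp (commutator_eq_bot_iff_le_centralizer.mp h3 hc) z ⟨z, hz, rfl⟩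
    rw [← commutator_commutator_eq Xb Kb hXKb hcop' (Or.inr inferInstance), eq_bot_iff]
    exact (commutator_mono hle le_rfl).trans (commutator_eq_bot_iff_le_centralizer.mpr hFbX).le
  have hKX : ⁅K, X⁆ ≤ F := by
    intro c hc
    refine hker c ?_
    have : π c ∈ ⁅Kb, Xb⁆ := by rw [hKb, hXb, ← map_commutator]; exact mem_map_of_mem _ hc
    rwa [hKbX, mem_bot] at this
  rw [commutator_le]
  intro k hk b hb
  obtain ⟨m, hm, c, hc, rfl⟩ := exists_commutator_mul_fixed X K (hXN K inferInstance) hcopX (Or.inr inferInstance) hk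
  rw [hCX] at hc
  have e : ⁅m * c, b⁆ = m * (b * m⁻¹ * b⁻¹) := by
    rw [commutatorElement_mul_left_eq_conj_mul,
      commutatorElement_eq_one_iff_mul_comm.mpr (mem_centralizer_iff.mp hc.2 b hb).symm]
    simp [commutatorElement_def, mul_assoc]
  rw [e]
  exact F.mul_mem (hKX hm) (hFn.conj_mem _ (F.inv_mem (hKX hm)) b)

end Cfsg.Agent.S1445
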