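import Cfsg.Statements.S1446
import Cfsg.Agent.Lib.Transfer.FrobeniusFormula

set_option maxHeartbeats 1000000
set_option maxRecDepth 8000

set_option autoImplicit false
open Cfsg

namespace Cfsg.Agent.S1446

/-- Let X be a finite group with subgroups K, R, M such that: K and R are nontrivial, K ∩ R = 1, R normalizes K, no non-identity element of R centralizes a non-identity element of K, K ⊔ R is solvable of odd order; M is nilpotent and nontrivial, normalized by K and by R, with order coprime to that of K ⊔ R, M ∩ C(K) = 1, and M ∩ C(x) = M ∩ C(R) for all non-identity x ∈ R. Then R has prime order p, #M = #(M ∩ C(R)) ^ p, and if M ∩ C(R) is cyclic then [K, K] centralizes M. -/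
theorem result {X : Type*} [Group X] [Finite X] (K R M : Subgroup X) (hK1 : K ≠ ⊥) (hR1 : R ≠ ⊥) (hKR : K ⊓ R = ⊥)
    (hRK : R ≤ Subgroup.normalizer (K : Set X)) (hfrob : ∀ r ∈ R, r ≠ 1 → K ⊓ Subgroup.centralizer ({r} : Set X) = ⊥)
    (hsolv : Group.IsSolvable ↥(K ⊔ R)) (hodd : Odd (Nat.card ↥(K ⊔ R)))
    (hM1 : M ≠ ⊥) (hMn : Group.IsNilpotent M) (hKM : K ≤ Subgroup.normalizer (M : Set X)) (hRM : R ≤ Subgroup.normalizer (M : Set X))
    (hcop : (Nat.card ↥(K ⊔ R)).Coprime (Nat.card M)) (hCK : M ⊓ Subgroup.centralizer (K : Set X) = ⊥)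
    (hpr : ∀ x ∈ R, x ≠ 1 → M ⊓ Subgroup.centralizer ({x} : Set X) = M ⊓ Subgroup.centralizer (R : Set X)) :
    (Nat.card R).Prime ∧ Nat.card M = Nat.card ↥(M ⊓ Subgroup.centralizer (R : Set X)) ^ Nat.card R ∧
      (IsCyclic ↥(M ⊓ Subgroup.centralizer (R : Set X)) → ⁅K, K⁆ ≤ Subgroup.centralizer (M : Set X)) := by

  have hnorm : K ⊔ R ≤ Subgroup.normalizer (M : Set X) := sup_le hKM hRM
  have hf : ∀ e ∈ R, e ≠ 1 → ∀ u ∈ K, e * u = u * e → u = 1 := fun e he he1 u hu h =>
    Subgroup.mem_bot.1 (hfrob e he he1 ▸ ⟨hu, Subgroup.mem_centralizer_singleton_iff.2 h.symm⟩)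
  have hsK : Group.IsSolvable K := solvable_of_solvable_injective (Subgroup.inclusion_injective (le_sup_left : K ≤ K ⊔ R))
  have hsM : Group.IsSolvable M := by haveI := hMn; infer_instance
  have hcop' := hcop.symm
  have hcard := Transfer.FrobFix.card_eq_fixed_pow K R M hnorm hRK hf hsK hsM hcop' hCK
  -- every cyclic subgroup of prime order gives the same formula
  have hsub : ∀ R₀ : Subgroup X, R₀ ≤ R → R₀ ≠ ⊥ → Nat.card R₀ = Nat.card R := by
    intro R₀ hle hne
    have h0 := Transfer.FrobFix.card_eq_fixed_pow K R₀ M ((sup_le_sup_left hle K).trans hnorm) (hle.trans hRK)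
      (fun e he => hf e (hle he)) hsK hsM (hcop'.coprime_dvd_right (Subgroup.card_dvd_of_le (sup_le_sup_left hle K))) hCK
    obtain ⟨x, hx, hx1⟩ := (Subgroup.bot_or_exists_ne_one R₀).resolve_left hne
    have heq : M ⊓ Subgroup.centralizer (R₀ : Set X) = M ⊓ Subgroup.centralizer (R : Set X) := le_antisymm
      ((inf_le_inf_left M (Subgroup.centralizer_le (Set.singleton_subset_iff.2 hx))).trans (hpr x (hle hx) hx1).le)
      (inf_le_inf_left M (Subgroup.centralizer_le (SetLike.coe_subset_coe.2 hle)))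
    rw [heq, hcard] at h0
    refine (Nat.pow_right_injective ?_ h0).symm
    by_contra h
    have h1 : Nat.card ↥(M ⊓ Subgroup.centralizer (R : Set X)) = 1 := by
      have := Nat.card_pos (α := ↥(M ⊓ Subgroup.centralizer (R : Set X))); omega
    rw [h1, one_pow] at hcard
    exact hM1 (Subgroup.card_eq_one.1 hcard)
  have hp : (Nat.card R).Prime := by
    obtain ⟨p, hp, hdvd⟩ := Nat.exists_prime_and_dvd (n := Nat.card R) (fun h => hR1 (Subgroup.card_eq_one.1 h))
    haveI := Fact.mk hp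
    obtain ⟨x, hx⟩ := exists_prime_orderOf_dvd_card' (G := R) p hdvd
    have hcx : Nat.card (Subgroup.zpowers (x : X)) = p := by rw [Nat.card_zpowers, Subgroup.orderOf_coe, hx]
    rw [← hsub _ (Subgroup.zpowers_le.2 x.2) (fun e => hp.one_lt.ne (by rw [← hcx, e, Subgroup.card_bot])), hcx]
    exact hp
  exact ⟨hp, hcard, fun hcyc => Transfer.FrobFix.commutator_le_centralizer K R M hnorm hRK hf hsK hsM hp hcop' hCK hcyc⟩

end Cfsg.Agent.S1446
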