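import Cfsg.Statements.S1355
import Cfsg.Agent.Lib.Transfer.Local.CoreStructure

set_option maxHeartbeats 1000000
set_option maxRecDepth 8000

set_option autoImplicit false
open Cfsg

namespace Cfsg.Agent.S1355

open Cfsg.Agent Cfsg.Agent.Transfer Cfsg.Agent.Transfer.Loc Subgroup

theorem exists_decomp' {G : Type*} [Group G] [Finite G] (hG : Cfsg.IsMinSimpleOddOrder G) {M : Subgroup G}
    (hM : IsCoatom M) : ∃ K U : Subgroup G, Cfsg.IsSigmaDecomposition M K U := by
  haveI := solvable_of_ne_top hG hM.1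
  obtain ⟨K, hK⟩ := Grp.PiHall.exists_piHall (Cfsg.kappa M) M
  have hc : IsCyclic K := by
    rcases eq_or_ne K ⊥ with rfl | hK1
    · infer_instance
    obtain ⟨_, -, -, -, -, hc, -⟩ := kappa_dual hG hM hK hK1
    exact hc
  obtain ⟨U, hU⟩ := exists_decomp hG hM hc hK
  exact ⟨K, U, hU⟩


/-- Let G be a minimal simple group of odd order and M a maximal subgroup. Then the largest normal nilpotent Hall subgroup M_F of M is nontrivial and contained in M_σ, M_σ is contained in the derived subgroup M', M' is proper in M, and the image of M' in M/M_F is nilpotent. -/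
theorem result {G : Type*} [Group G] [Finite G] (hG : Cfsg.IsMinSimpleOddOrder G)
    (M : Subgroup G) (hM : IsCoatom M) :
    Cfsg.fittingHallOf M ≠ ⊥ ∧ Cfsg.fittingHallOf M ≤ Cfsg.sigmaCore M ∧ Cfsg.sigmaCore M ≤ ⁅M, M⁆ ∧ ⁅M, M⁆ < M ∧
      Group.IsNilpotent ↥((commutator ↥M).map (QuotientGroup.mk' (Cfsg.fittingHall ↥M))) := by
  refine ⟨?_, fittingHallOf_le_sigmaCore hG hM, sigmaCore_le_derived hG hM, derived_lt hG hM, ?_⟩
  · by_cases hnil : Group.IsNilpotent (Cfsg.sigmaCore M)
    · rw [fittingHallOf_eq_sigmaCore hG hM hnil]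
      exact sigmaCore_ne_bot hG hM
    · obtain ⟨K, U, hKU⟩ := exists_decomp' hG hM
      obtain ⟨-, -, -, -, hqp, -, Q, -, -, hQH, hqQ, -⟩ := sigmaCore_structure hG hM hKU hnil
      intro h
      rw [h, le_bot_iff] at hQH
      rw [hQH, Subgroup.card_bot, Nat.dvd_one] at hqQ
      exact hqp.ne_one hqQ
  · by_cases hnil : Group.IsNilpotent (Cfsg.sigmaCore M)
    · have e : Cfsg.fittingHall ↥M = Cfsg.piCore (Cfsg.sigma M) ↥M :=
        Subgroup.map_injective M.subtype_injective (fittingHallOf_eq_sigmaCore hG hM hnil)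
      rw [commutator_def, Subgroup.map_commutator, ← MonoidHom.range_eq_map,
        MonoidHom.range_eq_top.2 (QuotientGroup.mk'_surjective _)]
      have key : ∀ N : Subgroup M, ∀ [N.Normal], N = Cfsg.piCore (Cfsg.sigma M) ↥M →
          Group.IsNilpotent (commutator (M ⧸ N)) := by
        intro N _ h
        subst h
        exact derived_quotient_nilpotent hG hM (alpha_subset_sigma hG hM)
      exact key _ e
    · obtain ⟨K, U, hKU⟩ := exists_decomp' hG hM
      obtain ⟨-, -, hder, -, -, -, Q, hQ, hMQ, hQH, -, hn, -⟩ := sigmaCore_structure hG hM hKU hnil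
      obtain ⟨ψ, hψ, hker⟩ := exists_qhom (N := Q) (A := Cfsg.sigmaCore M) ((TransHyp.piCoreOf_le M).trans hMQ)
      have hSM : Cfsg.sigmaCore M ≤ M := TransHyp.piCoreOf_le M
      let φ : ↥(Cfsg.sigmaCore M) →* ↥M ⧸ Cfsg.fittingHall ↥M :=
        (QuotientGroup.mk' _).comp (Subgroup.inclusion hSM)
      have hle : ψ.ker ≤ φ.ker := by
        rw [hker]
        intro x hx
        obtain ⟨y, hy, e⟩ := hQH hx
        refine (QuotientGroup.eq_one_iff _).2 ?_
        rwa [show Subgroup.inclusion hSM x = y from Subtype.ext e.symm]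
      let θ := ψ.liftOfSurjective hψ ⟨φ, hle⟩
      haveI := hn
      have hθ : Group.IsNilpotent θ.range := Group.nilpotent_of_surjective _ θ.rangeRestrict_surjective
      refine Grp.isNilpotent_of_le ?_ hθ
      rintro _ ⟨c, hc, rfl⟩
      have hcS : (c : G) ∈ Cfsg.sigmaCore M := by
        rw [hder, ← Subgroup.map_subtype_commutator M]
        exact ⟨c, hc, rfl⟩
      refine ⟨ψ ⟨c, hcS⟩, ?_⟩
      exact MonoidHom.liftOfRightInverse_comp_apply ψ _ _ ⟨φ, hle⟩ _

end Cfsg.Agent.S1355
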