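import Cfsg.Statements.S1213
import Cfsg.Agent.Lib.Invol.QDWCentralizer
-- import your own Cfsg.Agent.* helpers here

set_option autoImplicit false
open Cfsg

namespace Cfsg.Agent.S1213

/-- Let G be a finite group with quasi-dihedral or wreathed Sylow 2-subgroups and no subgroup of index 2, and let x be an involution with centralizer C. Then C has a Sylow 2-subgroup R which is a Sylow 2-subgroup of G; C has a normal subgroup K of index a power of 2 which has no subgroup of index 2 and whose Sylow 2-subgroups are generalized quaternion; and every subgroup of the centre of R is weakly closed in R with respect to C. -/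
theorem result {G : Type*} [Group G] [Finite G] (S : Sylow 2 G) (hS : Cfsg.IsQuasiDihedral (S : Subgroup G) ∨ Cfsg.IsWreathed (S : Subgroup G)) (hG : ∀ H : Subgroup G, H.index ≠ 2) (x : G) (hx : orderOf x = 2) : ∃ R : Sylow 2 ↥(Subgroup.centralizer ({x} : Set G)), Nat.card R = Nat.card S ∧ (∃ K : Subgroup ↥(Subgroup.centralizer ({x} : Set G)), K.Normal ∧ (∃ a : ℕ, K.index = 2 ^ a) ∧ (∀ H : Subgroup ↥K, H.index ≠ 2) ∧ (∀ P : Sylow 2 ↥K, ∃ m : ℕ, 1 ≤ m ∧ Nonempty ((P : Subgroup ↥K) ≃* QuaternionGroup (2 ^ m)))) ∧ (∀ Z₀ : Subgroup ↥(Subgroup.centralizer ({x} : Set G)), Z₀ ≤ ((Subgroup.center (R : Subgroup ↥(Subgroup.centralizer ({x} : Set G)))).map (R : Subgroup ↥(Subgroup.centralizer ({x} : Set G))).subtype) → Cfsg.IsWeaklyClosed Z₀ (R : Subgroup ↥(Subgroup.centralizer ({x} : Set G)))) := by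
  rcases hS with hS | hS
  · obtain ⟨n, a, b, h⟩ := Invol.exists_qd hS
    obtain ⟨g, hg⟩ := isConj_iff.mp (h.all_conj hG hx)
    obtain ⟨R, hR, hrest⟩ := (h.map (Sylow.equivSMul S g)).centralizer_structure hG (u := x) (by
      rw [← map_zpow]; exact hg)
    exact ⟨R, hR.trans (Nat.card_congr (Sylow.equivSMul S g).toEquiv).symm, hrest⟩
  · obtain ⟨n, a, b, c, h⟩ := Invol.exists_wr hS
    obtain ⟨g, hg⟩ := isConj_iff.mp (h.all_conj hG hx)
    obtain ⟨R, hR, hrest⟩ := (h.map (Sylow.equivSMul S g)).centralizer_structure hG (u := x) (by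
      rw [Invol.WR.gE, h.map_el]; exact hg)
    exact ⟨R, hR.trans (Nat.card_congr (Sylow.equivSMul S g).toEquiv).symm, hrest⟩

end Cfsg.Agent.S1213
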