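import Cfsg.Statements.S1601
import Cfsg.Agent.Lib.Spor.Golay.CensusSmallIso

set_option autoImplicit false
open scoped Pointwise
open Cfsg

namespace Cfsg.Agent.S1601

open Cfsg.Agent.Spor.Golay Cfsg.Agent.Spor.Golay.Census
open scoped Pointwise

/-- In the 3-transitive action of the smallest Mathieu group on the complementary dodecad, a point stabiliser is isomorphic to PSL(2, 11). -/
theorem result (d : Finset Cfsg.GolayPt) (hd : d ∈ Cfsg.dodecads) (p q : Cfsg.GolayPt) (hp : p ∈ d) (hq : q ∉ d) : Nonempty (↥(MulAction.stabilizer Cfsg.M24 d ⊓ MulAction.stabilizer Cfsg.M24 p ⊓ MulAction.stabilizer Cfsg.M24 q) ≃* Matrix.ProjectiveSpecialLinearGroup (Fin 2) (ZMod 11)) := by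
  classical
  obtain ⟨a, ha, ead, eap, eaq⟩ := exists_dod_point_out hd hp hq
  have hK : ∀ g : Cfsg.M24, g ∈ MulAction.stabilizer Cfsg.M24 (pts 499903, pt 0, pt 6) ↔
      (g : Equiv.Perm Cfsg.GolayPt) ∈ Fx [[64], [1], [499903]] := by
    intro g
    rw [MulAction.mem_stabilizer_iff, mem_Fx, Prod.smul_mk, Prod.smul_mk, Prod.mk.injEq, Prod.mk.injEq,
      List.forall_mem_cons, List.forall_mem_cons, List.forall_mem_singleton,
      smul_fam_single, smul_fam_single, smul_fam_single]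
    have s0 := smul_pts_point (g := (g : Equiv.Perm Cfsg.GolayPt)) (i := 0) (by norm_num)
    have s6 := smul_pts_point (g := (g : Equiv.Perm Cfsg.GolayPt)) (i := 6) (by norm_num)
    norm_num at s0 s6
    rw [s0, s6]
    exact ⟨fun ⟨hd', h0, h6⟩ => ⟨g.2, h6, h0, hd'⟩, fun ⟨_, h6, h0, hd'⟩ => ⟨hd', h0, h6⟩⟩
  have hH : MulAction.stabilizer Cfsg.M24 d ⊓ MulAction.stabilizer Cfsg.M24 p ⊓ MulAction.stabilizer Cfsg.M24 q =
      MulAction.stabilizer Cfsg.M24 ((⟨a, ha⟩ : Cfsg.M24) • (pts 499903, pt 0, pt 6)) := by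
    subst ead eap eaq
    ext g
    simp [MulAction.mem_stabilizer_iff, Subgroup.mem_inf, and_assoc, Subgroup.smul_def]
  obtain ⟨e⟩ := dodPtQ_psl
  exact ⟨((MulEquiv.subgroupCongr hH).trans (stdEquiv hK (⟨a, ha⟩ : Cfsg.M24))).trans e⟩

end Cfsg.Agent.S1601
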