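import Cfsg.Statements.S1602
import Cfsg.Agent.Lib.Spor.Golay.CensusSmallIso

set_option autoImplicit false
open scoped Pointwise
open Cfsg

namespace Cfsg.Agent.S1602

open Cfsg.Agent.Spor.Golay Cfsg.Agent.Spor.Golay.Census
open scoped Pointwise

/-- In the 12-point action of the smallest Mathieu group the setwise stabiliser of a pair is isomorphic to the symmetric group of degree 5. -/
theorem result (d : Finset Cfsg.GolayPt) (hd : d ∈ Cfsg.dodecads) (p q q' : Cfsg.GolayPt) (hp : p ∈ d) (hq : q ∉ d) (hq' : q' ∉ d) (hqq' : q ≠ q') : Nonempty (↥(MulAction.stabilizer Cfsg.M24 d ⊓ MulAction.stabilizer Cfsg.M24 p ⊓ MulAction.stabilizer Cfsg.M24 ({q, q'} : Finset Cfsg.GolayPt)) ≃* Equiv.Perm (Fin 5)) := by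
  classical
  obtain ⟨a, ha, ead, eap, eaq⟩ := exists_dod_point_pair hd hp hq hq' hqq'
  have hK : ∀ g : Cfsg.M24, g ∈ MulAction.stabilizer Cfsg.M24 (pts 499903, pt 0, pts 320) ↔
      (g : Equiv.Perm Cfsg.GolayPt) ∈ Fx [[320], [1], [499903]] := by
    intro g
    rw [MulAction.mem_stabilizer_iff, mem_Fx, Prod.smul_mk, Prod.smul_mk, Prod.mk.injEq, Prod.mk.injEq,
      List.forall_mem_cons, List.forall_mem_cons, List.forall_mem_singleton,
      smul_fam_single, smul_fam_single, smul_fam_single]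
    have s0 := smul_pts_point (g := (g : Equiv.Perm Cfsg.GolayPt)) (i := 0) (by norm_num)
    norm_num at s0
    rw [s0]
    exact ⟨fun ⟨hd', h0, h6⟩ => ⟨g.2, h6, h0, hd'⟩, fun ⟨_, h6, h0, hd'⟩ => ⟨hd', h0, h6⟩⟩
  have hH : MulAction.stabilizer Cfsg.M24 d ⊓ MulAction.stabilizer Cfsg.M24 p ⊓
        MulAction.stabilizer Cfsg.M24 ({q, q'} : Finset Cfsg.GolayPt) =
      MulAction.stabilizer Cfsg.M24 ((⟨a, ha⟩ : Cfsg.M24) • (pts 499903, pt 0, pts 320)) := by
    subst ead eap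
    rw [← eaq]
    ext g
    simp [MulAction.mem_stabilizer_iff, Subgroup.mem_inf, and_assoc, Subgroup.smul_def]
  obtain ⟨e⟩ := dodPtQQ_five
  exact ⟨((MulEquiv.subgroupCongr hH).trans (stdEquiv hK (⟨a, ha⟩ : Cfsg.M24))).trans e⟩

end Cfsg.Agent.S1602
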