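import Cfsg.Statements.S0107
import Cfsg.Agent.S0111
import Cfsg.Agent.Lib.Transfer.Residual

set_option linter.style.haveILetI false
set_option linter.unusedVariables false
-- import your own Cfsg.Agent.* helpers here

set_option autoImplicit false
open Cfsg

namespace Cfsg.Agent.S0107

/-- A finite group with no nontrivial 2-group quotient and dihedral Sylow 2-subgroups of order at least 8 has a single class of involutions. -/
theorem result {G : Type*} [Group G] [Finite G] (T : Sylow 2 G) (n : ℕ) (hn : 2 ≤ n) (hT : Nonempty ((T : Subgroup G) ≃* DihedralGroup (2 ^ n))) (hO : Cfsg.pResidual 2 G = ⊤) (x y : G) (hx : orderOf x = 2) (hy : orderOf y = 2) : ∃ g : G, g * x * g⁻¹ = y := by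
  obtain ⟨e⟩ := hT
  set m := 2 ^ n with hm
  haveI : NeZero m := ⟨by positivity⟩
  set f : DihedralGroup m →* G := (T : Subgroup G).subtype.comp e.symm.toMonoidHom with hf
  have hfinj : Function.Injective f := (T : Subgroup G).subtype_injective.comp e.symm.injective
  have hfT : ∀ d, f d ∈ (T : Subgroup G) := fun d => (e.symm d).2
  have hfrange : f.range = (T : Subgroup G) := by
    refine le_antisymm (by rintro _ ⟨d, rfl⟩; exact hfT d) fun a ha => ⟨e ⟨a, ha⟩, ?_⟩
    simp [hf]
  set Q : Subgroup G := (Subgroup.zpowers (DihedralGroup.r (1 : ZMod m))).map f with hQ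
  have hQT : Q ≤ (T : Subgroup G) := by rintro _ ⟨d, _, rfl⟩; exact hfT d
  have hQi : Q.relIndex (T : Subgroup G) = 2 := by
    have h1 := Subgroup.relIndex_map_map_of_injective (f := f)
      (Subgroup.zpowers (DihedralGroup.r (1 : ZMod m))) ⊤ hfinj
    rw [← MonoidHom.range_eq_map, hfrange, ← hQ, Subgroup.relIndex_top_right] at h1
    rw [h1]
    have h2 := Subgroup.card_mul_index (Subgroup.zpowers (DihedralGroup.r (1 : ZMod m)))
    rw [Nat.card_zpowers, DihedralGroup.orderOf_r_one, DihedralGroup.nat_card, mul_comm 2 m] at h2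
    exact Nat.eq_of_mul_eq_mul_left (NeZero.pos m) h2
  -- `Q` has only one involution
  have huniq : ∀ a ∈ Q, ∀ b ∈ Q, orderOf a = 2 → orderOf b = 2 → a = b := by
    have key : ∀ i : ZMod m, orderOf (DihedralGroup.r i) = 2 → i = ((2 ^ (n - 1) : ℕ) : ZMod m) := by
      intro i hi
      have hi0 : i ≠ 0 := by
        rintro rfl
        rw [show DihedralGroup.r (0 : ZMod m) = 1 from rfl, orderOf_one] at hi
        exact absurd hi (by norm_num)
      have h2 : i + i = 0 := by
        have := pow_orderOf_eq_one (DihedralGroup.r i)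
        rw [hi, pow_two, DihedralGroup.r_mul_r, DihedralGroup.one_def] at this
        exact DihedralGroup.r.injEq _ _ |>.mp this
      rw [← ZMod.natCast_zmod_val i] at h2 ⊢
      have hv : i.val ≠ 0 := by rwa [Ne, ZMod.val_eq_zero]
      have hlt : i.val < m := ZMod.val_lt i
      rw [← Nat.cast_add, ZMod.natCast_eq_zero_iff] at h2
      obtain ⟨c, hc⟩ := h2
      have hc1 : c = 1 := by
        rcases c with _ | _ | c
        · omega
        · rfl
        · nlinarith
      subst hc1
      congr 1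
      have h3 : m = 2 * 2 ^ (n - 1) := by rw [hm, ← pow_succ']; congr 1; omega
      omega
    rintro _ ⟨a, ha, rfl⟩ _ ⟨b, hb, rfl⟩ h1 h2
    rw [orderOf_injective f hfinj] at h1 h2
    obtain ⟨i, rfl⟩ := ha
    obtain ⟨j, rfl⟩ := hb
    simp only [DihedralGroup.r_one_zpow] at h1 h2 ⊢
    rw [key _ h1, key _ h2]
  have key : ∀ a : G, orderOf a = 2 → ∃ g : G, g * a * g⁻¹ ∈ Q ∧ orderOf (g * a * g⁻¹) = 2 := by
    intro a ha
    have hconj : ∀ g : G, orderOf (g * a * g⁻¹) = 2 := fun g =>
      ((MulAut.conj g).orderOf_eq a).trans ha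
    obtain ⟨R, hR⟩ := (IsPGroup.of_card (p := 2) (n := 1) (G := Subgroup.zpowers a)
      (by rw [Nat.card_zpowers, ha, pow_one])).exists_le_sylow
    obtain ⟨r, hr⟩ := MulAction.exists_smul_eq G R T
    have hb : r * a * r⁻¹ ∈ (T : Subgroup G) := by
      rw [← hr, Sylow.coe_subgroup_smul]
      exact Subgroup.smul_mem_pointwise_smul a (MulAut.conj r) _ (hR (Subgroup.mem_zpowers a))
    by_cases hbQ : r * a * r⁻¹ ∈ Q
    · exact ⟨r, hbQ, hconj r⟩
    rcases Cfsg.Agent.S0111.result T Q hQT hQi _ (hconj r) hb hbQ with ⟨M, hMn, hMi, hMu⟩ | ⟨g, hg⟩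
    · have hle : Cfsg.pResidual 2 G ≤ M := Cfsg.Agent.Transfer.pResidual_le_of_index (k := 1) (by rw [hMi, pow_one])
      rw [hO] at hle
      exact absurd (hle (Subgroup.mem_top _)) hMu
    · refine ⟨g * r, ?_, hconj _⟩
      have he : g * r * a * (g * r)⁻¹ = g * (r * a * r⁻¹) * g⁻¹ := by group
      rw [he]; exact hg
  obtain ⟨g, hg, hg2⟩ := key x hx
  obtain ⟨k, hk, hk2⟩ := key y hy
  refine ⟨k⁻¹ * g, ?_⟩
  have := huniq _ hg _ hk hg2 hk2
  calc k⁻¹ * g * x * (k⁻¹ * g)⁻¹ = k⁻¹ * (g * x * g⁻¹) * k := by group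
    _ = k⁻¹ * (k * y * k⁻¹) * k := by rw [this]
    _ = y := by group

end Cfsg.Agent.S0107
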