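import Cfsg.Statements.S0388
import Cfsg.Agent.Lib.Spor.Golay.CensusSimple
import Cfsg.Agent.Lib.Spor.Golay.CensusElem
import Cfsg.Agent.Lib.Spor.Golay.CensusNested
import Cfsg.Agent.Lib.Spor.Golay.M24Frames

set_option autoImplicit false
open scoped Pointwise
open Cfsg

namespace Cfsg.Agent.S0388

open Cfsg.Agent.Spor.Golay Cfsg.Agent.Spor.Golay.Census
open scoped Pointwise

/-- The stabiliser of a dodecad and a point on it is simple. -/
theorem result (d : Finset Cfsg.GolayPt) (hd : d ∈ Cfsg.dodecads) (p : Cfsg.GolayPt) (hp : p ∈ d) : IsSimpleGroup ↥(MulAction.stabilizer Cfsg.M24 d ⊓ MulAction.stabilizer Cfsg.M24 p) := by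
  haveI := simple_M11
  classical
  obtain ⟨u, hu, hu4⟩ : ∃ u : Finset Cfsg.GolayPt, u ⊆ d.erase p ∧ u.card = 4 := by
    refine Finset.exists_subset_card_eq ?_
    rw [Finset.card_erase_of_mem hp, hd.2]
    norm_num
  obtain ⟨e4⟩ : Nonempty (Fin 4 ≃ ↥u) := ⟨(u.equivFinOfCardEq hu4).symm⟩
  let x : Fin 5 ↪ Cfsg.GolayPt := ⟨Fin.cons p fun i => (e4 i).1, Fin.cons_injective_iff.mpr
    ⟨fun ⟨i, hi⟩ => (Finset.mem_erase.mp (hu (e4 i).2)).1 hi, Subtype.val_injective.comp e4.injective⟩⟩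
  obtain ⟨a, ha, ead, hx⟩ := exists_frame_dodecad hd x
    (fun i => by
      induction i using Fin.cases with
      | zero => exact hp
      | succ i => exact (Finset.mem_erase.mp (hu (e4 i).2)).2)
  have e0 : a (pt 0) = p := by have := hx 0; rwa [triv_checks.2.2] at this
  have hK : ∀ g : Cfsg.M24, g ∈ MulAction.stabilizer Cfsg.M24 (pt 0, pts dd) ↔
      (g : Equiv.Perm Cfsg.GolayPt) ∈ Fx [[1], [499903]] := by
    intro g
    rw [← stabilizer_two, MulAction.mem_stabilizer_iff, MulAction.mem_stabilizer_iff, Prod.smul_mk, Prod.smul_mk,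
      Prod.mk.injEq, Prod.mk.injEq, Subgroup.smul_def, Subgroup.smul_def, Subgroup.smul_def,
      show (1 : ℕ) = 2 ^ 0 from rfl, smul_pts_point (by norm_num)]
    rfl
  have e : MulAction.stabilizer Cfsg.M24 d ⊓ MulAction.stabilizer Cfsg.M24 p =
      MulAction.stabilizer Cfsg.M24 ((⟨a, ha⟩ : Cfsg.M24) • (pt 0, pts dd)) := by
    subst e0 ead
    ext g
    rw [Subgroup.mem_inf, MulAction.mem_stabilizer_iff, MulAction.mem_stabilizer_iff, MulAction.mem_stabilizer_iff,
      Prod.smul_mk, Prod.smul_mk, Prod.mk.injEq]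
    exact and_comm
  exact ((MulEquiv.subgroupCongr e).trans (stdEquiv hK (⟨a, ha⟩ : Cfsg.M24))).symm.isSimpleGroup_congr.mp inferInstance

end Cfsg.Agent.S0388
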