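import Cfsg.Statements.S1190
import Cfsg.Agent.Lib.Invol.QuasiDihedral
-- import your own Cfsg.Agent.* helpers here

set_option autoImplicit false
open Cfsg

namespace Cfsg.Agent.S1190

/-- In a quasi-dihedral 2-group S, any two Klein four-subgroups are conjugate, and every Klein four-subgroup T satisfies C_S(T) = T and |N_S(T) : T| = 2. -/
theorem result {S : Type*} [Group S] [Finite S] (hS : Cfsg.IsQuasiDihedral S) : (∀ T₁ T₂ : Subgroup S, IsKleinFour T₁ → IsKleinFour T₂ → ∃ s : S, T₁.map (MulAut.conj s).toMonoidHom = T₂) ∧ (∀ T : Subgroup S, IsKleinFour T → Subgroup.centralizer (T : Set S) = T ∧ T.relIndex (Subgroup.normalizer (T : Set S)) = 2) := by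
  obtain ⟨n, x, y, h⟩ := Invol.exists_qd hS
  have := h.finite
  refine ⟨fun T₁ T₂ h₁ h₂ => ?_, fun T hT => ?_⟩
  · obtain ⟨i, hi, rfl⟩ := h.eq_four h₁
    obtain ⟨j, hj, rfl⟩ := h.eq_four h₂
    obtain ⟨k, hk⟩ := h.exists_conj_sub (Invol.QD.hh_dvd n) (i := i) (j := j) (by omega)
    exact ⟨_, hk⟩
  · obtain ⟨i, hi, rfl⟩ := h.eq_four hT
    refine ⟨h.centralizer_four hi, ?_⟩
    have e : Subgroup.normalizer ((h.four i : Subgroup S) : Set S) = h.quat i :=
      h.normalizer_sub (d := Invol.qq n) dvd_rfl i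
    have hle : h.four i ≤ h.quat i := e ▸ Subgroup.le_normalizer
    rw [e]
    have := Subgroup.card_mul_index ((h.four i).subgroupOf (h.quat i))
    rw [Nat.card_congr (Subgroup.subgroupOfEquivOfLe hle).toEquiv, h.card_four, h.card_quat] at this
    rw [Subgroup.relIndex]
    omega

end Cfsg.Agent.S1190
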