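import Cfsg.Statements.S5016
import Cfsg.Agent.Lib.Fus.RankOne
-- import your own Cfsg.Agent.* helpers here

set_option autoImplicit false
open Cfsg

namespace Cfsg.Agent.S5016

/-- For any field k, the special linear group SL₂(k) is a special rank one group with abelian unipotent subgroups, the unipotent subgroups being the group of lower unitriangular matrices and the group of upper unitriangular matrices. -/
theorem result (k : Type*) [Field k] :
    Cfsg.IsRankOneGroup (Matrix.SpecialLinearGroup (Fin 2) k) (Cfsg.lowerUnipotentSL2 k) (Cfsg.upperUnipotentSL2 k) ∧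
    Cfsg.IsSpecialRankOnePair (Cfsg.lowerUnipotentSL2 k) (Cfsg.upperUnipotentSL2 k) ∧
    Cfsg.HasAbelianUnipotents (Cfsg.lowerUnipotentSL2 k) (Cfsg.upperUnipotentSL2 k) := by
  classical
  let L : k → Matrix.SpecialLinearGroup (Fin 2) k := fun t =>
    ⟨!![1, 0; t, 1], by simp [Matrix.det_fin_two]⟩
  let U : k → Matrix.SpecialLinearGroup (Fin 2) k := fun t =>
    ⟨!![1, t; 0, 1], by simp [Matrix.det_fin_two]⟩
  have hLm : ∀ s t, L s * L t = L (s + t) := fun s t => Subtype.ext (by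
    show !![(1 : k), 0; s, 1] * !![1, 0; t, 1] = !![1, 0; s + t, 1]
    simp [Matrix.mul_fin_two])
  have hUm : ∀ s t, U s * U t = U (s + t) := fun s t => Subtype.ext (by
    show !![(1 : k), s; 0, 1] * !![1, t; 0, 1] = !![1, s + t; 0, 1]
    simp [Matrix.mul_fin_two, add_comm])
  have hL0 : L 0 = 1 := Subtype.ext (by simp [L, Matrix.one_fin_two])
  have hU0 : U 0 = 1 := Subtype.ext (by simp [U, Matrix.one_fin_two])
  have hLi : ∀ t, (L t)⁻¹ = L (-t) := fun t =>
    inv_eq_of_mul_eq_one_right (by rw [hLm, add_neg_cancel, hL0])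
  have hUi : ∀ t, (U t)⁻¹ = U (-t) := fun t =>
    inv_eq_of_mul_eq_one_right (by rw [hUm, add_neg_cancel, hU0])
  have hmemL : ∀ g, g ∈ lowerUnipotentSL2 k ↔ ∃ t, g = L t := by
    intro g
    refine ⟨fun hg => ?_, ?_⟩
    · induction hg using Subgroup.closure_induction with
      | mem g hg =>
        obtain ⟨h1, h2, h3⟩ := hg
        refine ⟨g.1 1 0, Subtype.ext ?_⟩
        ext i j
        fin_cases i <;> fin_cases j <;> simp [L, h1, h2, h3]
      | one => exact ⟨0, hL0.symm⟩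
      | mul a b _ _ ha hb =>
        obtain ⟨s, rfl⟩ := ha
        obtain ⟨t, rfl⟩ := hb
        exact ⟨s + t, hLm s t⟩
      | inv a _ ha =>
        obtain ⟨s, rfl⟩ := ha
        exact ⟨-s, hLi s⟩
    · rintro ⟨t, rfl⟩
      exact Subgroup.subset_closure ⟨by simp [L], by simp [L], by simp [L]⟩
  have hmemU : ∀ g, g ∈ upperUnipotentSL2 k ↔ ∃ t, g = U t := by
    intro g
    refine ⟨fun hg => ?_, ?_⟩
    · induction hg using Subgroup.closure_induction with
      | mem g hg =>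
        obtain ⟨h1, h2, h3⟩ := hg
        refine ⟨g.1 0 1, Subtype.ext ?_⟩
        ext i j
        fin_cases i <;> fin_cases j <;> simp [U, h1, h2, h3]
      | one => exact ⟨0, hU0.symm⟩
      | mul a b _ _ ha hb =>
        obtain ⟨s, rfl⟩ := ha
        obtain ⟨t, rfl⟩ := hb
        exact ⟨s + t, hUm s t⟩
      | inv a _ ha =>
        obtain ⟨s, rfl⟩ := ha
        exact ⟨-s, hUi s⟩
    · rintro ⟨t, rfl⟩
      exact Subgroup.subset_closure ⟨by simp [U], by simp [U], by simp [U]⟩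
  have hLne : ∀ t, L t = 1 ↔ t = 0 := by
    refine fun t => ⟨fun h => ?_, fun h => h ▸ hL0⟩
    have := congrArg (fun g : Matrix.SpecialLinearGroup (Fin 2) k => g.1 1 0) h
    simpa [L] using this
  have hUne : ∀ t, U t = 1 ↔ t = 0 := by
    refine fun t => ⟨fun h => ?_, fun h => h ▸ hU0⟩
    have := congrArg (fun g : Matrix.SpecialLinearGroup (Fin 2) k => g.1 0 1) h
    simpa [U] using this
  -- the basic identity
  have hid : ∀ t : k, t ≠ 0 → ∀ x, U (-t⁻¹) * L x * U t⁻¹ =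
      L (-t) * U (-(x * (t⁻¹ * t⁻¹))) * L t := by
    intro t ht x
    refine Subtype.ext ?_
    show !![(1 : k), -t⁻¹; 0, 1] * !![1, 0; x, 1] * !![1, t⁻¹; 0, 1] =
      !![1, 0; -t, 1] * !![1, -(x * (t⁻¹ * t⁻¹)); 0, 1] * !![1, 0; t, 1]
    simp only [Matrix.mul_fin_two]
    ext i j
    fin_cases i <;> fin_cases j <;> simp <;> field_simp <;> ring
  have hconjL : ∀ g h : Matrix.SpecialLinearGroup (Fin 2) k,
      g ∈ conjBy (lowerUnipotentSL2 k) h⁻¹ ↔ ∃ x, g = h⁻¹ * L x * h := by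
    intro g h
    rw [Cfsg.Agent.Fus.mem_conjBy, hmemL, inv_inv]
    refine exists_congr fun x => ⟨fun e => ?_, fun e => ?_⟩
    · rw [← e]; group
    · rw [e]; group
  have hconjU : ∀ g h : Matrix.SpecialLinearGroup (Fin 2) k,
      g ∈ conjBy (upperUnipotentSL2 k) h⁻¹ ↔ ∃ x, g = h⁻¹ * U x * h := by
    intro g h
    rw [Cfsg.Agent.Fus.mem_conjBy, hmemU, inv_inv]
    refine exists_congr fun x => ⟨fun e => ?_, fun e => ?_⟩
    · rw [← e]; group
    · rw [e]; group
  have hkey : ∀ t : k, t ≠ 0 →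
      conjBy (lowerUnipotentSL2 k) (U t⁻¹)⁻¹ = conjBy (upperUnipotentSL2 k) (L t)⁻¹ := by
    intro t ht
    ext g
    rw [hconjL, hconjU, hUi, hLi]
    constructor
    · rintro ⟨x, rfl⟩
      exact ⟨_, hid t ht x⟩
    · rintro ⟨y, rfl⟩
      refine ⟨-(y * (t * t)), ?_⟩
      rw [hid t ht]
      congr 2
      field_simp
  have hA : ∀ a b : Matrix.SpecialLinearGroup (Fin 2) k,
      a ∈ lowerUnipotentSL2 k → b ∈ lowerUnipotentSL2 k → a * b = b * a := by
    intro a b ha hb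
    obtain ⟨s, rfl⟩ := (hmemL a).1 ha
    obtain ⟨t, rfl⟩ := (hmemL b).1 hb
    rw [hLm, hLm, add_comm]
  have hB : ∀ a b : Matrix.SpecialLinearGroup (Fin 2) k,
      a ∈ upperUnipotentSL2 k → b ∈ upperUnipotentSL2 k → a * b = b * a := by
    intro a b ha hb
    obtain ⟨s, rfl⟩ := (hmemU a).1 ha
    obtain ⟨t, rfl⟩ := (hmemU b).1 hb
    rw [hUm, hUm, add_comm]
  have hab : HasAbelianUnipotents (lowerUnipotentSL2 k) (upperUnipotentSL2 k) :=
    ⟨⟨⟨fun a b => Subtype.ext (hA a b a.2 b.2)⟩⟩, ⟨⟨fun a b => Subtype.ext (hB a b a.2 b.2)⟩⟩⟩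
  have hne : lowerUnipotentSL2 k ≠ upperUnipotentSL2 k := by
    intro e
    obtain ⟨t, ht⟩ := (hmemU _).1 (e ▸ (hmemL (L 1)).2 ⟨1, rfl⟩)
    have := congrArg (fun g : Matrix.SpecialLinearGroup (Fin 2) k => g.1 1 0) ht
    simp [L, U] at this
  have hpair : IsRankOnePair (lowerUnipotentSL2 k) (upperUnipotentSL2 k) := by
    haveI h1 := hab.1
    haveI h2 := hab.2
    refine ⟨hne, ?_, ?_, ?_, ?_⟩
    · exact ⟨1, by
        rw [Subgroup.upperCentralSeries_one, eq_top_iff]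
        exact fun x _ => Subgroup.mem_center_iff.2 fun y => mul_comm' y x⟩
    · exact ⟨1, by
        rw [Subgroup.upperCentralSeries_one, eq_top_iff]
        exact fun x _ => Subgroup.mem_center_iff.2 fun y => mul_comm' y x⟩
    · intro a ha ha1
      obtain ⟨t, rfl⟩ := (hmemL a).1 ha
      have ht : t ≠ 0 := fun h => ha1 ((hLne t).2 h)
      exact ⟨U t⁻¹, (hmemU _).2 ⟨_, rfl⟩, fun h => inv_ne_zero ht ((hUne _).1 h), hkey t ht⟩
    · intro b hb hb1
      obtain ⟨t, rfl⟩ := (hmemU b).1 hb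
      have ht : t ≠ 0 := fun h => hb1 ((hUne t).2 h)
      refine ⟨L t⁻¹, (hmemL _).2 ⟨_, rfl⟩, fun h => inv_ne_zero ht ((hLne _).1 h), ?_⟩
      have := hkey t⁻¹ (inv_ne_zero ht)
      rw [inv_inv] at this
      exact this.symm
  refine ⟨⟨?_, hpair⟩, ⟨hpair, ?_⟩, hab⟩
  · rw [eq_top_iff]
    intro g _
    have hm : ∀ {x}, (∃ t, x = L t ∨ x = U t) → x ∈ lowerUnipotentSL2 k ⊔ upperUnipotentSL2 k := by
      rintro x ⟨t, rfl | rfl⟩
      · exact Subgroup.mem_sup_left ((hmemL _).2 ⟨t, rfl⟩)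
      · exact Subgroup.mem_sup_right ((hmemU _).2 ⟨t, rfl⟩)
    have hdec : ∀ g : Matrix.SpecialLinearGroup (Fin 2) k, g.1 1 0 ≠ 0 →
        g = U ((g.1 0 0 - 1) / g.1 1 0) * L (g.1 1 0) * U ((g.1 1 1 - 1) / g.1 1 0) := by
      intro g hc
      have hdet := g.2
      rw [Matrix.det_fin_two] at hdet
      refine Subtype.ext ?_
      show g.1 = !![(1 : k), (g.1 0 0 - 1) / g.1 1 0; 0, 1] * !![1, 0; g.1 1 0, 1] *
        !![1, (g.1 1 1 - 1) / g.1 1 0; 0, 1]
      simp only [Matrix.mul_fin_two]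
      ext i j
      fin_cases i <;> fin_cases j <;> simp <;> field_simp <;>
        first | linear_combination hdet | linear_combination -hdet | ring
    by_cases hc : g.1 1 0 = 0
    · have hdet := g.2
      rw [Matrix.det_fin_two, hc, mul_zero, sub_zero] at hdet
      have h0 : g.1 0 0 ≠ 0 := left_ne_zero_of_mul (hdet.trans_ne one_ne_zero)
      have h1 : (L 1 * g).1 1 0 ≠ 0 := by
        show (!![(1 : k), 0; 1, 1] * g.1) 1 0 ≠ 0
        rw [Matrix.mul_apply, Fin.sum_univ_two]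
        simp [hc, h0]
      have hgg : g = (L 1)⁻¹ * (L 1 * g) := by group
      rw [hgg, hdec _ h1]
      exact mul_mem (inv_mem (hm ⟨_, Or.inl rfl⟩)) (mul_mem (mul_mem (hm ⟨_, Or.inr rfl⟩)
        (hm ⟨_, Or.inl rfl⟩)) (hm ⟨_, Or.inr rfl⟩))
    · rw [hdec g hc]
      exact mul_mem (mul_mem (hm ⟨_, Or.inr rfl⟩) (hm ⟨_, Or.inl rfl⟩)) (hm ⟨_, Or.inr rfl⟩)
  · intro a ha ha1 b hb hb1 he
    obtain ⟨t, rfl⟩ := (hmemL a).1 ha
    have ht : t ≠ 0 := fun h => ha1 ((hLne t).2 h)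
    have := Cfsg.Agent.Fus.RankOne.inj_conj (RankOnePair_symm hpair)
      ((upperUnipotentSL2 k).inv_mem hb)
      ((upperUnipotentSL2 k).inv_mem ((hmemU (U t⁻¹)).2 ⟨_, rfl⟩)) (he.trans (hkey t ht).symm)
    rw [inv_inj] at this
    rw [this, hUi, hid t ht, hLi]
    congr 2
    field_simp

end Cfsg.Agent.S5016
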