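import Cfsg.Statements.S0801
import Cfsg.Agent.Lib.Classical.DicksonGeneration
-- import your own Cfsg.Agent.* helpers here

set_option autoImplicit false
open Cfsg

namespace Cfsg.Agent.S0801
open Matrix Cfsg.Agent.Grp.SL2 Cfsg.Agent.PSL2Spec Cfsg.Agent.Dickson Cfsg.Agent.Dickson.Gen

/-- Let F be a finite field of odd characteristic and λ ≠ 0 an element generating F as a field. Then the lower and upper unitriangular matrices with off-diagonal entries 1 and λ generate SL_2(F), unless |F| = 9 and λ² = −1, in which case they generate a subgroup of order 120. -/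
theorem result {F : Type*} [Field F] [Fintype F] (h2 : (2 : F) ≠ 0) (lam : F) (hlam : lam ≠ 0) (hgen : Subfield.closure ({lam} : Set F) = ⊤) : (Subgroup.closure {g : Matrix.SpecialLinearGroup (Fin 2) F | (g : Matrix (Fin 2) (Fin 2) F) = !![1, 0; 1, 1] ∨ (g : Matrix (Fin 2) (Fin 2) F) = !![1, lam; 0, 1]} = ⊤ ∧ ¬ (Fintype.card F = 9 ∧ lam ^ 2 = -1)) ∨ (Fintype.card F = 9 ∧ lam ^ 2 = -1 ∧ Nat.card ↥(Subgroup.closure {g : Matrix.SpecialLinearGroup (Fin 2) F | (g : Matrix (Fin 2) (Fin 2) F) = !![1, 0; 1, 1] ∨ (g : Matrix (Fin 2) (Fin 2) F) = !![1, lam; 0, 1]}) = 120) := by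
  classical
  obtain ⟨p, hp⟩ := CharP.exists F
  haveI : Fact p.Prime := ⟨CharP.char_is_prime F p⟩
  have hset : {g : Matrix.SpecialLinearGroup (Fin 2) F | (g : Matrix (Fin 2) (Fin 2) F) = !![1, 0; 1, 1] ∨
      (g : Matrix (Fin 2) (Fin 2) F) = !![1, lam; 0, 1]} = {low 1, up lam} := by
    ext g
    exact ⟨fun h => h.imp (fun e => Subtype.ext e) (fun e => Subtype.ext e),
      fun h => h.imp (fun e => congrArg Subtype.val e) (fun e => congrArg Subtype.val e)⟩
  rw [hset]
  set G := Subgroup.closure ({low 1, up lam} : Set (Matrix.SpecialLinearGroup (Fin 2) F)) with hG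
  rcases classify (p := p) h2 hlam hgen with h | ⟨rfl, hi, hc⟩
  · left
    have hm := neg_one_mem h2 (G := G) (by rw [h, Subgroup.card_top]; exact even_card_psl h2)
    have htop : G = ⊤ := eq_top_iff.mpr fun g _ => by
      obtain ⟨y, hy, e⟩ := (h ▸ Subgroup.mem_top (proj g) : proj g ∈ G.map proj)
      rcases proj_eq_iff.mp e with e | e <;> rw [e]
      · exact hy
      · rw [← neg_one_mul]; exact G.mul_mem hm hy
    refine ⟨htop, fun ⟨h9, hi⟩ => ?_⟩
    haveI : CharP F 3 := by
      obtain ⟨n, hn, hq⟩ := FiniteField.card F p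
      rw [h9] at hq
      have h3 : p = 3 := ((Nat.prime_dvd_prime_iff_eq hn Nat.prime_three).mp
        (hn.dvd_of_dvd_pow (show p ∣ 3 ^ 2 by rw [show (3 : ℕ) ^ 2 = 9 by norm_num, hq]; exact dvd_pow_self p n.pos.ne')))
      exact h3 ▸ hp
    have hle := card_gen_le (F := F) (lam := lam) (by rw [← pow_two, hi])
    rw [← hG, htop, Subgroup.card_top, Cfsg.Agent.Fus.PSLTwo.natCard_SL_two, h9] at hle
    norm_num at hle
  · right
    have h9 := card_eq_nine hgen hi
    refine ⟨h9, by rw [pow_two, hi], ?_⟩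
    have hm := neg_one_mem h2 (G := G) (by rw [hc]; norm_num)
    have h := card_map_proj G (fun z hz => by rcases hz with rfl | rfl; exacts [G.one_mem, hm])
    rw [hc] at h
    rcases del_cases F with ⟨-, hev⟩ | ⟨hd, -⟩
    · rw [h9] at hev; exact absurd hev (by decide)
    · rw [hd] at h; exact h.symm

end Cfsg.Agent.S0801
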