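import Cfsg.Statements.S0287
import Mathlib
import Cfsg.Agent.Lib.Classical.OrthCount


set_option autoImplicit false
open Cfsg

namespace Cfsg.Agent.S0287


/-- |GO^+_{2m}(q)| = 2 q^(m(m-1)) (q^m - 1) prod_{i=1}^{m-1} (q^(2i) - 1), m at least 1, all q. -/
theorem result {F : Type*} [Field F] [Fintype F] {q : ℕ} (hF : Fintype.card F = q) (m : ℕ) (hm : 1 ≤ m) : Nat.card (Cfsg.isometryGroup F (Cfsg.quadFormPlus m F)) = 2 * q ^ (m * (m - 1)) * (q ^ m - 1) * ∏ i ∈ Finset.range (m - 1), (q ^ (2 * (i + 1)) - 1) := by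
  subst hF
  obtain ⟨k, rfl⟩ := Nat.exists_eq_add_of_le hm
  have e1 : 1 + k - 1 = k := by omega
  have e3 : 1 + k = k + 1 := by omega
  rw [e1, Cfsg.Agent.Classical.natCard_isometryGroup' _ (Cfsg.Agent.Classical.coe_qfPlus (F := F) (1 + k))]
  rw [e3]
  apply Nat.cast_injective (R := ℤ)
  rw [Cfsg.Agent.Classical.order_qfPlus, Nat.cast_mul, Nat.cast_mul, Cfsg.Agent.Classical.cast_prod_sub_one,
    Cfsg.Agent.Classical.cast_sub_one_of_pos (pow_pos Fintype.card_pos _)]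
  push_cast
  ring

end Cfsg.Agent.S0287
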