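import Cfsg.Statements.S0051
import Cfsg.Agent.Lib.Grp.Basic
-- import your own Cfsg.Agent.* helpers here

set_option autoImplicit false
open Cfsg

namespace Cfsg.Agent.S0051

open scoped Pointwise

/-- Gaschütz's Theorem, existence: an abelian normal subgroup K that is complemented inside a subgroup U ≥ K whose index is coprime to the order of K is complemented in the whole group. -/
theorem result {G : Type*} [Group G] [Finite G] (K U : Subgroup G) [K.Normal] [IsMulCommutative K]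
    (hKU : K ≤ U) (hcop : (Nat.card K).Coprime U.index)
    (A : Subgroup G) (hAU : A ≤ U) (hAK : A ⊓ K = ⊥) (hKA : K ⊔ A = U) :
    ∃ H : Subgroup G, Subgroup.IsComplement' K H := by
  classical
  let _ : Fintype (G ⧸ U) := Fintype.ofFinite _
  open scoped IsMulCommutative in
  let _ : CommGroup K := inferInstance
  let τ : G → G := fun g => Quotient.out (g : G ⧸ U)
  have hτ : ∀ g, (τ g)⁻¹ * g ∈ U := fun g => QuotientGroup.eq.mp (QuotientGroup.out_eq' (g : G ⧸ U))
  have hdec : ∀ u : U, ∃ a : A, (a : G)⁻¹ * u ∈ K := by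
    intro u
    have hmem : (u : G) ∈ K ⊔ A := by rw [hKA]; exact u.2
    obtain ⟨k, hk, a, ha, hka⟩ := Subgroup.mem_sup_of_normal_left.mp hmem
    refine ⟨⟨a, ha⟩, ?_⟩
    rw [← hka]
    simpa [mul_assoc] using Subgroup.Normal.conj_mem (inferInstance : K.Normal) k hk a⁻¹
  choose α hα using hdec
  have hαu : ∀ (u : U) (a : A), (a : G)⁻¹ * u ∈ K → α u = a := by
    intro u a ha
    have hm : (a : G)⁻¹ * (α u : G) ∈ A ⊓ K := ⟨A.mul_mem (A.inv_mem a.2) (α u).2, by
      have := K.mul_mem ha (K.inv_mem (hα u))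
      simpa [mul_assoc] using this⟩
    rw [hAK, Subgroup.mem_bot, inv_mul_eq_one] at hm
    exact (Subtype.ext hm).symm
  let s : G → G := fun g => τ g * α ⟨_, hτ g⟩
  have hs : ∀ g, (s g)⁻¹ * g ∈ K := fun g => by
    simpa [s, mul_assoc] using hα ⟨_, hτ g⟩
  have hsA : ∀ g, ∀ v ∈ U, ∃ a ∈ A, s (g * v) = s g * a := by
    intro g v hv
    have e : τ (g * v) = τ g := by
      simp only [τ]
      rw [show ((g * v : G) : G ⧸ U) = (g : G ⧸ U) from QuotientGroup.eq.mpr (by simpa [mul_assoc] using U.inv_mem hv)]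
    refine ⟨(α ⟨_, hτ g⟩ : G)⁻¹ * α ⟨_, hτ (g * v)⟩, A.mul_mem (A.inv_mem (α _).2) (α _).2, ?_⟩
    simp [s, e, mul_assoc]
  have hsK : ∀ g, ∀ k ∈ K, s (g * k) = s g := by
    intro g k hk
    have e : τ (g * k) = τ g := by
      simp only [τ]
      rw [show ((g * k : G) : G ⧸ U) = (g : G ⧸ U) from QuotientGroup.eq.mpr (by simpa [mul_assoc] using U.inv_mem (hKU hk))]
    have e' : α ⟨_, hτ (g * k)⟩ = α ⟨_, hτ g⟩ := by
      refine hαu _ _ ?_
      show (α ⟨_, hτ g⟩ : G)⁻¹ * ((τ (g * k))⁻¹ * (g * k)) ∈ K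
      rw [e, show (α ⟨_, hτ g⟩ : G)⁻¹ * ((τ g)⁻¹ * (g * k)) = ((α ⟨_, hτ g⟩ : G)⁻¹ * ((τ g)⁻¹ * g)) * k by group]
      exact K.mul_mem (hα ⟨_, hτ g⟩) hk
    show τ (g * k) * α ⟨_, hτ (g * k)⟩ = τ g * α ⟨_, hτ g⟩
    rw [e', e]
  have hemem : ∀ x y, s x * s y * (s (x * y))⁻¹ ∈ K := by
    intro x y
    rw [← QuotientGroup.eq_one_iff]
    have hq : ∀ g, ((s g : G) : G ⧸ K) = (g : G ⧸ K) := fun g => QuotientGroup.eq.mpr (hs g)
    rw [QuotientGroup.mk_mul, QuotientGroup.mk_mul, QuotientGroup.mk_inv, hq, hq, hq, QuotientGroup.mk_mul,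
      mul_inv_cancel]
  let e : G → G → K := fun x y => ⟨_, hemem x y⟩
  have heU : ∀ x y v, v ∈ U → e x (y * v) = e x y := by
    intro x y v hv
    obtain ⟨a, haA, ha⟩ := hsA y v hv
    obtain ⟨b, hbA, hb⟩ := hsA (x * y) v hv
    have hab : a * b⁻¹ ∈ A ⊓ K := by
      refine ⟨A.mul_mem haA (A.inv_mem hbA), ?_⟩
      have h1 := hemem x (y * v)
      rw [ha, ← mul_assoc x y v, hb, mul_inv_rev] at h1
      have h2 := hemem x y
      have e0 : s x * (s y * a) * (b⁻¹ * (s (x * y))⁻¹) = (s x * s y * (a * b⁻¹) * (s x * s y)⁻¹) * (s x * s y * (s (x * y))⁻¹) := by group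
      rw [e0, Subgroup.mul_mem_cancel_right _ h2] at h1
      have := Subgroup.Normal.conj_mem (inferInstance : K.Normal) _ h1 (s x * s y)⁻¹
      simpa [mul_assoc] using this
    rw [hAK, Subgroup.mem_bot, mul_inv_eq_one] at hab
    refine Subtype.ext ?_
    show s x * s (y * v) * (s (x * (y * v)))⁻¹ = s x * s y * (s (x * y))⁻¹
    rw [ha, ← mul_assoc x y v, hb, hab]
    group
  have hφm : ∀ (g : G) (k : K), g * k * g⁻¹ ∈ K := fun g k => Subgroup.Normal.conj_mem inferInstance _ k.2 g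
  let φ : G → K →* K := fun g =>
    { toFun := fun k => ⟨_, hφm g k⟩
      map_one' := Subtype.ext (by simp)
      map_mul' := fun _ _ => Subtype.ext (by simp [mul_assoc]) }
  have hassoc : ∀ x y z, e x y * e (x * y) z = φ (s x) (e y z) * e x (y * z) := by
    intro x y z
    refine Subtype.ext ?_
    show s x * s y * (s (x * y))⁻¹ * (s (x * y) * s z * (s (x * y * z))⁻¹) =
      s x * (s y * s z * (s (y * z))⁻¹) * (s x)⁻¹ * (s x * s (y * z) * (s (x * (y * z)))⁻¹)
    rw [← mul_assoc x y z]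
    group
  let E : G → K := fun x => ∏ q : G ⧸ U, e x q.out
  have hshift : ∀ x y : G, ∏ q : G ⧸ U, e x (y * q.out) = E x := by
    intro x y
    refine Fintype.prod_equiv (MulAction.toPerm y) _ _ fun q => ?_
    obtain ⟨u, hu⟩ := QuotientGroup.mk_out_eq_mul U (y * q.out)
    have : (MulAction.toPerm y q : G ⧸ U) = ((y * q.out : G) : G ⧸ U) := by
      conv_lhs => rw [← QuotientGroup.out_eq' q]
      rfl
    rw [this, hu, heU _ _ _ u.2]
  have hmain : ∀ x y, e x y ^ U.index * E (x * y) = φ (s x) (E y) * E x := by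
    intro x y
    have h1 := Finset.prod_congr (s₁ := (Finset.univ : Finset (G ⧸ U))) rfl fun q _ => hassoc x y q.out
    rw [Finset.prod_mul_distrib, Finset.prod_const, Finset.card_univ, ← Nat.card_eq_fintype_card,
      ← Subgroup.index_eq_card, Finset.prod_mul_distrib, ← map_prod, hshift] at h1
    exact h1
  let f : G → K := fun x => (powCoprime hcop).symm (E x)
  have hf : ∀ x, f x ^ U.index = E x := fun x => (powCoprime hcop).apply_symm_apply (E x)
  have hef : ∀ x y, e x y * f (x * y) = φ (s x) (f y) * f x := by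
    intro x y
    refine (powCoprime hcop).injective ?_
    show (e x y * f (x * y)) ^ U.index = (φ (s x) (f y) * f x) ^ U.index
    rw [mul_pow, mul_pow, ← map_pow (φ (s x)), hf, hf, hf, hmain]
  let θ : G →* G := MonoidHom.mk' (fun x => (f x : G)⁻¹ * s x) (fun x y => by
    have h1 := hef x y
    rw [mul_comm (φ (s x) (f y))] at h1
    have h2 := congrArg Subtype.val h1
    change s x * s y * (s (x * y))⁻¹ * (f (x * y) : G) = (f x : G) * (s x * (f y : G) * (s x)⁻¹) at h2
    have h4 : (f (x * y) : G) = (s x * s y * (s (x * y))⁻¹)⁻¹ * ((f x : G) * (s x * (f y : G) * (s x)⁻¹)) :=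
      eq_inv_mul_iff_mul_eq.mpr h2
    have h5 : (s x * (f y : G) * (s x)⁻¹) * (f x : G) = (f x : G) * (s x * (f y : G) * (s x)⁻¹) :=
      congrArg Subtype.val (mul_comm (φ (s x) (f y)) (f x))
    show (f (x * y) : G)⁻¹ * s (x * y) = (f x : G)⁻¹ * s x * ((f y : G)⁻¹ * s y)
    rw [h4, ← h5]
    group)
  have hθ : ∀ x, x * (θ x)⁻¹ ∈ K := by
    intro x
    show x * ((f x : G)⁻¹ * s x)⁻¹ ∈ K
    rw [mul_inv_rev, inv_inv, ← mul_assoc]
    refine K.mul_mem ?_ (f x).2
    simpa [mul_assoc] using Subgroup.Normal.conj_mem (inferInstance : K.Normal) _ (hs x) (s x)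
  have hθK : ∀ k ∈ K, θ k = 1 := by
    intro k hk
    have h1 : s k = s 1 := by simpa using hsK 1 k hk
    have he : ∀ y, e k y = e 1 y := by
      intro y
      refine Subtype.ext ?_
      show s k * s y * (s (k * y))⁻¹ = s 1 * s y * (s (1 * y))⁻¹
      rw [one_mul, h1, show k * y = y * (y⁻¹ * k * y) by group,
        hsK y _ (by simpa using Subgroup.Normal.conj_mem (inferInstance : K.Normal) k hk y⁻¹)]
    have hfk : f k = f 1 := by simp only [f, E, he]
    show (f k : G)⁻¹ * s k = 1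
    rw [h1, hfk]
    exact θ.map_one
  refine ⟨θ.range, Subgroup.isComplement'_of_disjoint_and_mul_eq_univ (disjoint_iff.mpr ?_) ?_⟩
  · rw [eq_bot_iff]
    rintro z ⟨hzK, x, rfl⟩
    have : x ∈ K := by simpa using K.mul_mem (hθ x) hzK
    rw [hθK x this]
    exact Subgroup.one_mem _
  · rw [Set.eq_univ_iff_forall]
    exact fun x => ⟨x * (θ x)⁻¹, hθ x, θ x, ⟨x, rfl⟩, by group⟩

end Cfsg.Agent.S0051
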