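import Cfsg.Statements.S0304
-- import your own Cfsg.Agent.* helpers here

set_option autoImplicit false
open Cfsg

namespace Cfsg.Agent.S0304

open Matrix

variable {F : Type*} [Field F] {m : ℕ}

/-- The quadratic part. -/
def qp (u : Fin m ⊕ Fin m → F) : F := ∑ i : Fin m, u (.inl i) * u (.inr i)

/-- The alternating form. -/
def sp (u v : Fin m ⊕ Fin m → F) : F := u ⬝ᵥ (Matrix.J (Fin m) F *ᵥ v)

theorem qp_add [CharP F 2] (u v : Fin m ⊕ Fin m → F) : qp (u + v) = qp u + qp v + sp u v := by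
  simp [qp, sp, Matrix.J, Matrix.mulVec, dotProduct, Fintype.sum_sum_type, Matrix.fromBlocks, Matrix.one_apply,
    CharTwo.neg_eq, ← Finset.sum_add_distrib]
  refine Finset.sum_congr rfl fun i _ => ?_
  ring

theorem qp_smul (c : F) (u : Fin m ⊕ Fin m → F) : qp (c • u) = c ^ 2 * qp u := by
  simp [qp, Finset.mul_sum]
  refine Finset.sum_congr rfl fun i _ => ?_
  ring

theorem qp_single (j : Fin m ⊕ Fin m) (c : F) : qp (Pi.single j c) = 0 := by
  refine Finset.sum_eq_zero fun i _ => ?_
  rcases j with j | j <;> simp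

theorem qf_eq (v : Unit ⊕ (Fin m ⊕ Fin m) → F) :
    Cfsg.quadFormOdd m F v = v (.inl ()) ^ 2 + qp (fun j => v (.inr j)) := rfl

theorem sp_apply (A : Matrix (Fin m ⊕ Fin m) (Fin m ⊕ Fin m) F) (u v : Fin m ⊕ Fin m → F) :
    sp (A *ᵥ u) (A *ᵥ v) = u ⬝ᵥ ((Aᵀ * Matrix.J (Fin m) F * A) *ᵥ v) := by
  rw [sp, ← Matrix.mulVec_mulVec, ← Matrix.mulVec_mulVec, Matrix.dotProduct_mulVec (u) Aᵀ, Matrix.vecMul_transpose]

theorem mem_sp_iff {A : Matrix (Fin m ⊕ Fin m) (Fin m ⊕ Fin m) F} :
    A ∈ Matrix.symplecticGroup (Fin m) F ↔ ∀ u v, sp (A *ᵥ u) (A *ᵥ v) = sp u v := by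
  constructor
  · intro h u v
    have ht := SymplecticGroup.transpose_mem h
    rw [SymplecticGroup.mem_iff, Matrix.transpose_transpose] at ht
    rw [sp_apply, ht, sp]
  · intro h
    rw [← Matrix.transpose_transpose A]
    refine SymplecticGroup.transpose_mem ?_
    rw [SymplecticGroup.mem_iff, Matrix.transpose_transpose]
    ext i j
    have := h (Pi.single i 1) (Pi.single j 1)
    rw [sp_apply, sp] at this
    simpa [Matrix.mulVec_single] using this

theorem sum_single (u : Fin m ⊕ Fin m → F) : (∑ j, Pi.single j (u j)) = u := Finset.univ_sum_single u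

/-- The matrix of an isometry. -/
def mat (g : Cfsg.isometryGroup F (Cfsg.quadFormOdd m F)) :
    Matrix (Unit ⊕ (Fin m ⊕ Fin m)) (Unit ⊕ (Fin m ⊕ Fin m)) F := g.1.1

theorem mat_mul_inv (g : Cfsg.isometryGroup F (Cfsg.quadFormOdd m F)) : mat g * mat g⁻¹ = 1 :=
  Units.mul_inv g.1

theorem mat_mul (g h : Cfsg.isometryGroup F (Cfsg.quadFormOdd m F)) : mat (g * h) = mat g * mat h := rfl

theorem mat_one : mat (1 : Cfsg.isometryGroup F (Cfsg.quadFormOdd m F)) = 1 := rfl

/-- The block of an isometry. -/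
def blk (g : Matrix (Unit ⊕ (Fin m ⊕ Fin m)) (Unit ⊕ (Fin m ⊕ Fin m)) F) :
    Matrix (Fin m ⊕ Fin m) (Fin m ⊕ Fin m) F := g.toBlocks₂₂


/-- In characteristic 2, O_{2m+1}(q) is isomorphic to Sp_{2m}(q). -/
theorem result {F : Type*} [Field F] [Fintype F] [CharP F 2] (m : ℕ) : Nonempty (Cfsg.isometryGroup F (Cfsg.quadFormOdd m F) ≃* Matrix.symplecticGroup (Fin m) F) := by
  classical
  have hpol : ∀ g : Cfsg.isometryGroup F (Cfsg.quadFormOdd m F), ∀ u v : Unit ⊕ (Fin m ⊕ Fin m) → F,
      sp (fun j => (mat g).mulVec u (.inr j))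
        (fun j => (mat g).mulVec v (.inr j)) =
      sp (fun j => u (.inr j)) (fun j => v (.inr j)) := by
    intro g u v
    set M := (mat g)
    have hg : ∀ w, Cfsg.quadFormOdd m F (M *ᵥ w) = Cfsg.quadFormOdd m F w := fun w => g.2 w w
    have e := hg (u + v)
    have hu := hg u
    have hv := hg v
    rw [qf_eq, qf_eq] at e hu hv
    rw [Matrix.mulVec_add] at e
    have e1 : (fun j => (M *ᵥ u + M *ᵥ v) (.inr j)) = (fun j => (M *ᵥ u) (.inr j)) + (fun j => (M *ᵥ v) (.inr j)) := rfl
    have e2 : (fun j => (u + v) (.inr j)) = (fun j => u (.inr j)) + (fun j => v (.inr j)) := rfl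
    rw [e1, e2, qp_add, qp_add, Pi.add_apply, Pi.add_apply, CharTwo.add_sq, CharTwo.add_sq] at e
    linear_combination e - hu - hv
  have hcol : ∀ g : Cfsg.isometryGroup F (Cfsg.quadFormOdd m F),
      (mat g) *ᵥ (Pi.single (.inl ()) 1) = Pi.single (.inl ()) 1 := by
    intro g
    set M := (mat g)
      with hM
    have hz : ∀ j, (M *ᵥ Pi.single (.inl ()) 1) (.inr j) = 0 := by
      have hzero : ∀ w : Fin m ⊕ Fin m → F,
          sp (fun j => (M *ᵥ Pi.single (.inl ()) 1) (.inr j)) w = 0 := by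
        intro w
        have e := hpol g (Pi.single (.inl ()) 1)
          ((mat g⁻¹) *ᵥ (Sum.elim (fun _ => 0) w))
        rw [Matrix.mulVec_mulVec, mat_mul_inv, Matrix.one_mulVec] at e
        refine e.trans ?_
        simp [sp, dotProduct]
      intro j
      have := hzero (Matrix.J (Fin m) F *ᵥ Pi.single j 1)
      rw [sp, Matrix.mulVec_mulVec, Matrix.J_squared, Matrix.neg_mulVec, Matrix.one_mulVec] at this
      simpa using this
    have e := g.2 (Pi.single (.inl ()) 1) (Pi.single (.inl ()) 1)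
    change Cfsg.quadFormOdd m F (M *ᵥ _) = Cfsg.quadFormOdd m F _ at e
    rw [qf_eq, qf_eq, show (fun j => (M *ᵥ Pi.single (.inl ()) 1) (.inr j)) = 0 from funext hz] at e
    funext i
    rcases i with ⟨⟩ | j
    · have hsq : ((M *ᵥ Pi.single (.inl ()) 1) (.inl ())) ^ 2 = 1 := by
        simpa [qp] using e
      rw [CharTwo.sq_inj.mp (hsq.trans (one_pow 2).symm), Pi.single_eq_same]
    · rw [hz j]; simp
  let φ : Cfsg.isometryGroup F (Cfsg.quadFormOdd m F) →* Matrix.symplecticGroup (Fin m) F :=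
    { toFun := fun g => ⟨blk (mat g), mem_sp_iff.mpr fun u v => by
          have e := hpol g (Sum.elim (fun _ => 0) u) (Sum.elim (fun _ => 0) v)
          have e1 : ∀ u : Fin m ⊕ Fin m → F,
              (fun j => (mat g *ᵥ Sum.elim (fun _ => 0) u) (.inr j)) = blk (mat g) *ᵥ u := fun u => by
            funext j; simp [blk, Matrix.toBlocks₂₂, Matrix.mulVec, dotProduct, Fintype.sum_sum_type]
          rw [e1, e1] at e
          exact e⟩
      map_one' := Subtype.ext (by simp [blk, mat_one, ← Matrix.fromBlocks_one])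
      map_mul' := fun g h => Subtype.ext (by
        ext i j
        have hc : ∀ i, mat g (.inr i) (.inl PUnit.unit) = 0 := fun i => by
          simpa [Matrix.mulVec_single] using congrFun (hcol g) (.inr i)
        simp [blk, mat_mul, Matrix.toBlocks₂₂, Matrix.mul_apply, Fintype.sum_sum_type, hc]) }
  refine ⟨MulEquiv.ofBijective φ ⟨?_, ?_⟩⟩
  · rw [injective_iff_map_eq_one]
    intro g hg
    have hA : ∀ i j, (mat g) (.inr i) (.inr j) = (1 : Matrix _ _ F) i j :=
      fun i j => congrFun (congrFun (congrArg Subtype.val hg) i) j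
    refine Subtype.ext (Units.ext ?_)
    ext i j
    show mat g i j = (1 : Matrix (Unit ⊕ (Fin m ⊕ Fin m)) (Unit ⊕ (Fin m ⊕ Fin m)) F) i j
    rcases j with ⟨⟩ | j
    · have h := congrFun (hcol g) i
      simp [Matrix.mulVec_single] at h
      rw [h]; rcases i with ⟨⟩ | i <;> simp
    · rcases i with ⟨⟩ | i
      · have e := g.2 (Pi.single (.inr j) 1) (Pi.single (.inr j) 1)
        change Cfsg.quadFormOdd m F (mat g *ᵥ _) = Cfsg.quadFormOdd m F _ at e
        rw [qf_eq, qf_eq] at e
        have e1 : (fun k => ((mat g) *ᵥ Pi.single (.inr j) 1) (.inr k)) =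
            Pi.single j 1 := by
          funext k; simp [Matrix.mulVec_single, hA, Matrix.one_apply, Pi.single_apply]
        have e2 : (fun k => (Pi.single (.inr j) 1 : Unit ⊕ (Fin m ⊕ Fin m) → F) (.inr k)) = Pi.single j 1 := by
          funext k; simp [Pi.single_apply]
        rw [e1, e2] at e
        simp [Matrix.mulVec_single] at e
        simp [e]
      · rw [hA]; simp [Matrix.one_apply]
  · rintro ⟨A, hA⟩
    have hsq : ∀ j, ∃ l : F, l ^ 2 = qp (A *ᵥ Pi.single j 1) := fun j => by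
      obtain ⟨l, hl⟩ := FiniteField.isSquare_of_char_two (ringChar.eq F 2) (qp (A *ᵥ Pi.single j 1))
      exact ⟨l, by rw [hl, pow_two]⟩
    choose l hl using hsq
    have hD : ∀ u, qp (A *ᵥ u) + qp u + (∑ j, l j * u j) ^ 2 = 0 := by
      let D : (Fin m ⊕ Fin m → F) →+ F := AddMonoidHom.mk' (fun u => qp (A *ᵥ u) + qp u + (∑ j, l j * u j) ^ 2)
        fun u v => by
          simp only [Matrix.mulVec_add, qp_add, (mem_sp_iff.mp hA), Pi.add_apply, mul_add, Finset.sum_add_distrib,
            CharTwo.add_sq]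
          linear_combination (sp u v) * CharTwo.two_eq_zero (R := F)
      intro u
      show D u = 0
      rw [← sum_single u, map_sum]
      refine Finset.sum_eq_zero fun j _ => ?_
      show qp (A *ᵥ Pi.single j (u j)) + qp (Pi.single j (u j)) +
        (∑ i, l i * (Pi.single j (u j) : Fin m ⊕ Fin m → F) i) ^ 2 = (0 : F)
      rw [show (Pi.single j (u j) : Fin m ⊕ Fin m → F) = u j • Pi.single j 1 by
        rw [← Pi.single_smul, smul_eq_mul, mul_one]]
      rw [Matrix.mulVec_smul, qp_smul, qp_smul, qp_single, ← hl]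
      have e : (∑ i, l i * (u j • (Pi.single j 1 : Fin m ⊕ Fin m → F)) i) = l j * u j := by
        rw [Finset.sum_eq_single j]
        · simp
        · intro b _ hb; simp [hb]
        · simp
      rw [e]
      linear_combination (u j ^ 2 * l j ^ 2) * CharTwo.two_eq_zero (R := F)
    let M : Matrix (Unit ⊕ (Fin m ⊕ Fin m)) (Unit ⊕ (Fin m ⊕ Fin m)) F :=
      Matrix.fromBlocks 1 (Matrix.of fun _ j => l j) 0 A
    have hdet : M.det ≠ 0 := by
      rw [Matrix.det_fromBlocks_zero₂₁, Matrix.det_one, one_mul]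
      exact (SymplecticGroup.symplectic_det hA).ne_zero
    have hQ : ∀ v, Cfsg.quadFormOdd m F (M *ᵥ v) = Cfsg.quadFormOdd m F v := by
      intro v
      rw [qf_eq, qf_eq]
      have h1 : (fun j => (M *ᵥ v) (.inr j)) = A *ᵥ (fun j => v (.inr j)) := by
        funext j; simp [M, Matrix.mulVec, dotProduct, Fintype.sum_sum_type]
      have h2 : (M *ᵥ v) (.inl ()) = v (.inl ()) + ∑ j, l j * v (.inr j) := by
        simp [M, Matrix.mulVec, dotProduct, Fintype.sum_sum_type]
      rw [h1, h2, CharTwo.add_sq]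
      have := hD (fun j => v (.inr j))
      linear_combination this - qp (fun j => v (.inr j)) * CharTwo.two_eq_zero (R := F)
    refine ⟨⟨Matrix.GeneralLinearGroup.mkOfDetNeZero M hdet, fun u _ => hQ u⟩, Subtype.ext ?_⟩
    show blk M = A
    simp [blk, M]

end Cfsg.Agent.S0304
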