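import Cfsg.Statements.S0791
import Cfsg.Agent.Lib.Classical.OrthGenModels

set_option autoImplicit false
open Cfsg Cfsg.Agent.Classical Cfsg.Agent.Classical.OrthAut

namespace Cfsg.Agent.S0791

/-- −1 ∈ Ω⁻_2m(q) iff q^m ≡ −1 (mod 4), for q odd and m ≥ 1; for the minus-type form quadFormMinus (m−1) with anisotropic binary part. -/
theorem result {F : Type*} [Field F] [Fintype F] {q : ℕ} (hF : Fintype.card F = q) (hodd : Odd q) (m : ℕ) (hm : 1 ≤ m) (a b : F) (hab : ∀ z₁ z₂ : F, z₁ ^ 2 + a * z₁ * z₂ + b * z₂ ^ 2 = 0 → z₁ = 0 ∧ z₂ = 0) : (∃ g : ↥(Cfsg.isometryGroup F (Cfsg.quadFormMinus (m - 1) F a b)), g ∈ Cfsg.Omega F (Cfsg.quadFormMinus (m - 1) F a b) ∧ ((g : Matrix.GeneralLinearGroup ((Fin (m - 1) ⊕ Fin (m - 1)) ⊕ Fin 2) F) : Matrix ((Fin (m - 1) ⊕ Fin (m - 1)) ⊕ Fin 2) ((Fin (m - 1) ⊕ Fin (m - 1)) ⊕ Fin 2) F) = -1) ↔ q ^ m % 4 = 3 := by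
  have h2 := two_ne_zero_of_odd hF hodd
  have hQ := nondegenerate_qfMinus (m - 1) hab
  have hns : ¬ IsSquare (a ^ 2 - 4 * b) := by
    rintro ⟨s, hs⟩
    exact two_ne_zero_of_odd hF hodd (hab (-a + s) 2 (by linear_combination -hs)).2
  have h0 : a ^ 2 - 4 * b ≠ 0 := fun e => hns (e ▸ IsSquare.zero)
  rw [← coe_qfMinus]
  refine (negOne_mem_omega_iff hQ (genQ_odd hQ h2) h2 (by simp [Nat.even_add]) (Pi.basisFun F _)).trans ?_
  rw [gramDet_qfMinus]
  have e : (-1 : F) ^ (m - 1) * (4 * b - a ^ 2) = (-1) ^ m * (a ^ 2 - 4 * b) := by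
    obtain ⟨k, rfl⟩ := Nat.exists_eq_add_of_le' hm
    rw [Nat.add_sub_cancel, pow_succ]; ring
  have h4 : q ^ m % 4 = 3 ↔ ¬ IsSquare ((-1 : F) ^ m) := by
    rw [isSquare_negOne_pow_iff hF hodd]
    have := Nat.odd_iff.1 (hodd.pow (n := m))
    omega
  rw [e, h4, ← sqSign_eq_neg_one_iff]
  constructor <;> intro h
  · have := sqSign_mul (pow_ne_zero m (neg_ne_zero.2 (one_ne_zero (α := F)))) h0
    rw [sqSign_of_isSquare h, sqSign_of_not hns] at this
    rcases Int.units_eq_one_or (sqSign ((-1 : F) ^ m)) with e1 | e1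
    · rw [e1] at this; exact absurd this (by decide)
    · exact e1
  · by_contra hh
    have := sqSign_mul (pow_ne_zero m (neg_ne_zero.2 (one_ne_zero (α := F)))) h0
    rw [sqSign_of_not hh, sqSign_of_not hns, h] at this
    exact absurd this (by decide)

end Cfsg.Agent.S0791
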