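import Cfsg.Statements.S0102
import Mathlib

set_option maxHeartbeats 1000000
set_option maxRecDepth 8000

set_option autoImplicit false
open Cfsg

namespace Cfsg.Agent.S0102

/-- A finite perfect group with cyclic Sylow p-subgroups has no perfect central extension whose kernel has order divisible by p. -/
theorem result {G : Type*} {H : Type*} [Group G] [Group H] [Finite G] [Finite H] (hG : commutator G = ⊤) {p : ℕ} [Fact p.Prime] (hcyc : ∀ P : Sylow p G, IsCyclic P) (σ : H →* G) (hσ : Function.Surjective σ) (hz : σ.ker ≤ Subgroup.center H) (hH : commutator H = ⊤) : ¬ p ∣ Nat.card σ.ker := by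
  classical
  intro hdvd
  obtain ⟨z, hzo⟩ := exists_prime_orderOf_dvd_card' p hdvd
  have hzH : orderOf (z : H) = p := by rw [Subgroup.orderOf_coe, hzo]
  have hzp : IsPGroup p (Subgroup.zpowers (z : H)) :=
    IsPGroup.of_card (n := 1) (by rw [Nat.card_zpowers, hzH, pow_one])
  obtain ⟨P, hP⟩ := hzp.exists_le_sylow
  have hzP : (z : H) ∈ (P : Subgroup H) := hP (Subgroup.mem_zpowers _)
  have hcen : ∀ y : H, y * (z : H) = (z : H) * y := fun y => Subgroup.mem_center_iff.1 (hz z.2) y
  obtain ⟨Q, hQ⟩ := (P.isPGroup'.map σ).exists_le_sylow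
  haveI := hcyc Q
  haveI : IsCyclic ((P : Subgroup H).map σ) :=
    isCyclic_of_injective (Subgroup.inclusion hQ) (Subgroup.inclusion_injective hQ)
  haveI hPc : IsMulCommutative (P : Subgroup H) := by
    refine MonoidHom.isMulCommutative_of_isCyclic_of_ker_le_center
      (σ.subgroupMap (P : Subgroup H)) ?_
    intro x hx
    rw [Subgroup.mem_center_iff]
    intro y
    have h1 : σ (x : H) = 1 := congrArg Subtype.val (MonoidHom.mem_ker.1 hx)
    exact Subtype.ext (Subgroup.mem_center_iff.1 (hz (MonoidHom.mem_ker.2 h1)) y)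
  letI : CommGroup (P : Subgroup H) :=
    { (inferInstance : Group (P : Subgroup H)) with mul_comm := hPc.is_comm.comm }
  let φ : (P : Subgroup H) →* (P : Subgroup H) := MonoidHom.id _
  have hker : (commutator H) ≤ (MonoidHom.transfer φ).ker := Abelianization.commutator_subset_ker _
  rw [hH] at hker
  have key : ∀ (k : ℕ) (g₀ : H), g₀⁻¹ * (z : H) ^ k * g₀ ∈ (P : Subgroup H) → g₀⁻¹ * (z : H) ^ k * g₀ = (z : H) ^ k := by
    intro k g₀ _
    rw [mul_assoc, ← (Commute.pow_right (show Commute g₀ (z : H) from hcen g₀) k).eq, inv_mul_cancel_left]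
  have h1 := MonoidHom.transfer_eq_pow φ (z : H) key
  rw [MonoidHom.mem_ker.1 (hker (Subgroup.mem_top _))] at h1
  have h2 : (z : H) ^ (P : Subgroup H).index = 1 := (congrArg Subtype.val h1).symm
  have h3 : p ∣ (P : Subgroup H).index := dvd_trans (dvd_of_eq hzH.symm) (orderOf_dvd_of_pow_eq_one h2)
  exact P.not_dvd_index h3

end Cfsg.Agent.S0102
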