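import Cfsg.Statements.S0219
import Mathlib
-- import your own Cfsg.Agent.* helpers here

set_option autoImplicit false
open Cfsg

namespace Cfsg.Agent.S0219

/-- If a finite group has even order and a cyclic Sylow 2-subgroup, then it has a subgroup of index 2 (consider the parity of permutations in the regular representation). -/
theorem result {G : Type*} [Group G] [Finite G] (heven : Even (Nat.card G)) (T : Sylow 2 G) (hT : IsCyclic (T : Subgroup G)) : ∃ H : Subgroup G, H.index = 2 := by
  have hmin : (Nat.card G).minFac = 2 := (Nat.minFac_eq_two_iff _).mpr (even_iff_two_dvd.mp heven)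
  have hc := IsCyclic.isComplement' hmin hT
  set N := (MonoidHom.transferSylow T (hT.normalizer_le_centralizer hmin)).ker with hN
  obtain ⟨k, hk⟩ := T.isPGroup'.exists_card_eq
  have hne : k ≠ 0 := by
    rintro rfl
    exact T.ne_bot_of_dvd_card (even_iff_two_dvd.mp heven)
      (Subgroup.card_eq_one.mp (by rw [hk, pow_zero]))
  have hidx : Nat.card (G ⧸ N) = 2 ^ k := by
    rw [← Subgroup.index_eq_card, ← hk]
    exact hc.symm.index_eq_card
  obtain ⟨K, hK⟩ := Sylow.exists_subgroup_card_pow_prime 2
    (n := k - 1) (G := G ⧸ N) (hidx ▸ pow_dvd_pow 2 (Nat.sub_le k 1))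
  refine ⟨K.comap (QuotientGroup.mk' N), ?_⟩
  rw [Subgroup.index_comap_of_surjective _ (QuotientGroup.mk'_surjective N)]
  have h := K.card_mul_index
  rw [hK, hidx, ← Nat.sub_add_cancel (Nat.one_le_iff_ne_zero.mpr hne), pow_succ] at h
  simpa using h

end Cfsg.Agent.S0219
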