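import Cfsg.Statements.S0638
import Cfsg.Agent.Lib.Transfer.OmegaMetacyclic

set_option maxHeartbeats 1000000
set_option maxRecDepth 8000

set_option autoImplicit false
open Cfsg

namespace Cfsg.Agent.S0638

/-- For odd p, in a non-cyclic metacyclic p-group the elements of order dividing p generate an elementary abelian subgroup of order p². -/
theorem result {R : Type*} [Group R] [Finite R] {p : ℕ} [Fact p.Prime] (hp : p ≠ 2) (hR : IsPGroup p R) (hm : Cfsg.IsMetacyclic R) (hnc : ¬ IsCyclic R) : Cfsg.IsElementaryAbelian p (Cfsg.omegaOne p (⊤ : Subgroup R)) ∧ Nat.card ↥(Cfsg.omegaOne p (⊤ : Subgroup R)) = p ^ 2 := by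
  obtain ⟨V, hV, hVab, hVc⟩ := Cfsg.Agent.Transfer.omega_card_metacyclic hp hR hm hnc
  have he : Cfsg.omegaOne p (⊤ : Subgroup R) = V := le_antisymm
    ((Subgroup.closure_le _).2 fun x hx => (hV x).2 hx.2)
    (fun x hx => Subgroup.subset_closure ⟨Subgroup.mem_top x, (hV x).1 hx⟩)
  rw [he]
  exact ⟨⟨hVab, fun a ha => (hV a).1 ha⟩, hVc⟩

end Cfsg.Agent.S0638
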