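import Cfsg.Statements.S0662
import Cfsg.Agent.Lib.Transfer.MaxClass

set_option maxHeartbeats 1000000
set_option maxRecDepth 8000

set_option autoImplicit false
open Cfsg
open scoped commutatorElement

namespace Cfsg.Agent.S0662

/-- In a p-group of maximal class of order at least p³ the normal subgroups of index at least p² are exactly the terms of the lower central series, and there are exactly p + 1 normal subgroups of index p. -/
theorem result {G : Type*} [Group G] [Finite G] {p : ℕ} [Fact p.Prime] (n : ℕ) (hG : Nat.card G = p ^ n) (hcl : Group.nilpotencyClass G = n - 1) (hn : 3 ≤ n) : (∀ (N : Subgroup G) [N.Normal] (r : ℕ), 2 ≤ r → N.index = p ^ r → N = (⊤ : Subgroup G).lowerCentralSeries (r - 1)) ∧ Nat.card {N : Subgroup G // N.Normal ∧ N.index = p} = p + 1 := by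
  have hp := (Fact.out : p.Prime)
  haveI : Group.IsNilpotent G := (IsPGroup.of_card hG).isNilpotent
  refine ⟨fun N _ r hr hN => ?_, ?_⟩
  · have hrn : r ≤ n := by
      have h1 := N.index_dvd_card
      rwa [hN, hG, Nat.pow_dvd_pow_iff_le_right hp.one_lt] at h1
    have hidx := Cfsg.Agent.Transfer.MaxClass.lcs_index hG (by omega) hcl (i := r - 1) (by omega) (by omega)
    rw [show r - 1 + 1 = r by omega] at hidx
    have hle : (⊤ : Subgroup G).lowerCentralSeries (r - 1) ≤ N := by
      have hcard : Nat.card (G ⧸ N) = p ^ r := hN
      have h1 := Cfsg.Agent.Transfer.MaxClass.lcs_eq_bot hcard hr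
      rw [← Subgroup.map_top_of_surjective _ (QuotientGroup.mk'_surjective N), ← Subgroup.map_lowerCentralSeries,
        Subgroup.map_eq_bot_iff, QuotientGroup.ker_mk'] at h1
      exact h1
    refine (Subgroup.eq_of_le_of_card_ge hle ?_).symm
    refine le_of_eq (Nat.eq_of_mul_eq_mul_right (pow_pos hp.pos r) ?_)
    nth_rewrite 1 [← hN]
    rw [← hidx, Subgroup.card_mul_index, Subgroup.card_mul_index]
  · have hi2 := Cfsg.Agent.Transfer.MaxClass.commutator_index_of_class hG (by omega) hcl
    have hne : commutator G ≠ ⊥ := fun hb => by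
      rw [hb, Subgroup.index_bot, hG] at hi2
      have := Nat.pow_right_injective hp.two_le hi2
      omega
    set q := QuotientGroup.mk' (commutator G)
    have hq2 : Nat.card (G ⧸ commutator G) = p ^ 2 := hi2
    have e1 : {N : Subgroup G // N.Normal ∧ N.index = p} ≃ {K : Subgroup (G ⧸ commutator G) // Nat.card K = p} := by
      have hle : ∀ N : Subgroup G, N.Normal → N.index = p → commutator G ≤ N := fun N hN hi => by
        haveI : IsCyclic (G ⧸ N) := isCyclic_of_prime_card (p := p) hi
        let := IsCyclic.commGroup (α := G ⧸ N)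
        refine Subgroup.commutator_le.2 fun a _ b _ => (QuotientGroup.eq_one_iff _).1 ?_
        show QuotientGroup.mk' N ⁅a, b⁆ = 1
        rw [map_commutatorElement, commutatorElement_eq_one_iff_mul_comm, mul_comm]
      have hcard : ∀ K : Subgroup (G ⧸ commutator G), Nat.card K = p ↔ K.index = p := fun K => by
        have h := K.card_mul_index
        rw [hq2, pow_two] at h
        constructor <;> intro hK <;> rw [hK] at h
        · exact Nat.eq_of_mul_eq_mul_left hp.pos h
        · exact Nat.eq_of_mul_eq_mul_right hp.pos h
      have hcm : ∀ N : Subgroup G, N.Normal → N.index = p → (N.map q).comap q = N := fun N hN hi =>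
        Subgroup.comap_map_eq_self (by rw [QuotientGroup.ker_mk']; exact hle N hN hi)
      refine
        { toFun := fun N => ⟨N.1.map q, (hcard _).2 ?_⟩
          invFun := fun K => ⟨K.1.comap q, ?_, ?_⟩
          left_inv := fun N => Subtype.ext (hcm N.1 N.2.1 N.2.2)
          right_inv := fun K => Subtype.ext (Subgroup.map_comap_eq_self_of_surjective (QuotientGroup.mk'_surjective _) _) }
      · rw [Subgroup.index_map_eq _ (QuotientGroup.mk'_surjective _)
          (by rw [QuotientGroup.ker_mk']; exact hle N.1 N.2.1 N.2.2)]
        exact N.2.2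
      · exact Subgroup.Normal.comap ⟨fun k hk g => by
          rw [(IsPGroup.commGroupOfCardEqPrimeSq (p := p) hq2).mul_comm g k, mul_inv_cancel_right]
          exact hk⟩ q
      · rw [Subgroup.index_comap_of_surjective _ (QuotientGroup.mk'_surjective _)]
        exact (hcard _).1 K.2
    rw [Nat.card_congr e1]
    have hexp : ∀ w : G ⧸ commutator G, w ^ p = 1 := fun w => by
      obtain ⟨y, rfl⟩ := QuotientGroup.mk_surjective w
      rw [← QuotientGroup.mk_pow, QuotientGroup.eq_one_iff]
      exact Cfsg.Agent.Transfer.MaxClass.pow_mem_commutator (IsPGroup.of_card hG) hi2 hne y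
    exact Cfsg.Agent.Transfer.MaxClass.card_subgroups_prime hq2 hexp

end Cfsg.Agent.S0662
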