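import Cfsg.Statements.S0253
import Mathlib
import Cfsg.Agent.Lib.Classical.SLTwoSmall
import Cfsg.Agent.Lib.Classical.SLGroup
import Cfsg.Agent.Lib.Classical.SLNormal
import Cfsg.Agent.Lib.Fus.SmallSimple
-- import your own Cfsg.Agent.* helpers here

set_option autoImplicit false
open Cfsg

namespace Cfsg.Agent.S0253

/-- PSL_2(5) is isomorphic to A_5. -/
theorem result {F : Type*} [Field F] [Fintype F] (hF : Fintype.card F = 5) : Nonempty (Matrix.ProjectiveSpecialLinearGroup (Fin 2) F ≃* alternatingGroup (Fin 5)) := by
  classical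
  haveI := Classical.PSL_isSimple (F := F) (n := 2) le_rfl (fun _ => by omega)
  refine Fus.alternating_five_of_card ?_
  have h1 := Classical.natCard_GL_eq_SL_mul (F := F) 2 (by norm_num)
  have h2 := Classical.natCard_PSL_mul (F := F) 2 (by norm_num)
  rw [Matrix.card_GL_field, Classical.natCard_units_field, hF, Fin.prod_univ_two] at h1
  rw [Classical.natCard_units_field, hF] at h2
  norm_num at h1
  norm_num at h2
  rw [Nat.card_eq_fintype_card]
  omega

end Cfsg.Agent.S0253
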