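import Cfsg.Statements.S3377
import Mathlib
-- import your own Cfsg.Agent.* helpers here

set_option autoImplicit false
open Cfsg

namespace Cfsg.Agent.S3377

open Cfsg.Agent

section
variable {G : Type*} [Group G] (x y : G)

/-- Right coset representatives of `⟨y⟩`. -/
def cosetRep : Fin 12 → G := ![(1 : G), (x), (x * x), (x * x * y), (x * x * y * x), (x * x * y * y), (x * x * y * x * x), (x * x * y * y * x), (x * x * y * x * x * y), (x * x * y * x * x * y * y), (x * x * y * x * x * y * y * x), (x * x * y * x * x * y * y * x * x)]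

theorem enumeration {H : Subgroup G} (hy : y ∈ H) (hx : x * x * x = 1) (hy5 : y * y * y * y * y = 1)
    (hxy : x * y * x * y = 1) :
    (∀ a : Fin 12, ∃ b, cosetRep x y a * x * (cosetRep x y b)⁻¹ ∈ H) ∧
    (∀ a : Fin 12, ∃ b, cosetRep x y a * y * (cosetRep x y b)⁻¹ ∈ H) := by
  have step : ∀ p e q : G, p ∈ H → q ∈ H → p * e * q = 1 → e ∈ H := by
    intro p e q hp hq h
    have : e = p⁻¹ * (p * e * q) * q⁻¹ := by group
    rw [this, h, mul_one]; exact H.mul_mem (H.inv_mem hp) (H.inv_mem hq)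
  have one_of : ∀ e : G, e = 1 → e ∈ H := fun e he => he ▸ H.one_mem
  have e0y : ((1 : G) * y * (1 : G)⁻¹) ∈ H := by simpa using hy
  have e0x : ((1 : G) * x * (x)⁻¹) ∈ H := one_of _ (by group)
  have e1x : ((x) * x * (x * x)⁻¹) ∈ H := one_of _ (by group)
  have e2y : ((x * x) * y * (x * x * y)⁻¹) ∈ H := one_of _ (by group)
  have e3x : ((x * x * y) * x * (x * x * y * x)⁻¹) ∈ H := one_of _ (by group)
  have e3y : ((x * x * y) * y * (x * x * y * y)⁻¹) ∈ H := one_of _ (by group)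
  have e4x : ((x * x * y * x) * x * (x * x * y * x * x)⁻¹) ∈ H := one_of _ (by group)
  have e5x : ((x * x * y * y) * x * (x * x * y * y * x)⁻¹) ∈ H := one_of _ (by group)
  have e6y : ((x * x * y * x * x) * y * (x * x * y * x * x * y)⁻¹) ∈ H := one_of _ (by group)
  have e8y : ((x * x * y * x * x * y) * y * (x * x * y * x * x * y * y)⁻¹) ∈ H := one_of _ (by group)
  have e9x : ((x * x * y * x * x * y * y) * x * (x * x * y * x * x * y * y * x)⁻¹) ∈ H := one_of _ (by group)
  have e10x : ((x * x * y * x * x * y * y * x) * x * (x * x * y * x * x * y * y * x * x)⁻¹) ∈ H := one_of _ (by group)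
  have e2x : ((x * x) * x * (1 : G)⁻¹) ∈ H := step (((1 : G) * x * (x)⁻¹) * ((x) * x * (x * x)⁻¹)) _ (1) (H.mul_mem e0x e1x) H.one_mem
    ((show (((1 : G) * x * (x)⁻¹) * ((x) * x * (x * x)⁻¹)) * ((x * x) * x * (1 : G)⁻¹) * (1) = (1 : G) * (x * x * x) * (1 : G)⁻¹ by simp [mul_assoc]).trans (by rw [hx]; group))
  have e1y : ((x) * y * (x * x)⁻¹) ∈ H := step (((1 : G) * x * (x)⁻¹)) _ (((x * x) * x * (1 : G)⁻¹) * ((1 : G) * y * (1 : G)⁻¹)) e0x (H.mul_mem e2x e0y)
    ((show (((1 : G) * x * (x)⁻¹)) * ((x) * y * (x * x)⁻¹) * (((x * x) * x * (1 : G)⁻¹) * ((1 : G) * y * (1 : G)⁻¹)) = (1 : G) * (x * y * x * y) * (1 : G)⁻¹ by simp [mul_assoc]).trans (by rw [hxy]; group))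
  have e4y : ((x * x * y * x) * y * (x)⁻¹) ∈ H := step (((x) * x * (x * x)⁻¹) * ((x * x) * y * (x * x * y)⁻¹) * ((x * x * y) * x * (x * x * y * x)⁻¹)) _ (1) (H.mul_mem (H.mul_mem e1x e2y) e3x) H.one_mem
    ((show (((x) * x * (x * x)⁻¹) * ((x * x) * y * (x * x * y)⁻¹) * ((x * x * y) * x * (x * x * y * x)⁻¹)) * ((x * x * y * x) * y * (x)⁻¹) * (1) = (x) * (x * y * x * y) * (x)⁻¹ by simp [mul_assoc]).trans (by rw [hxy]; group))
  have e5y : ((x * x * y * y) * y * (x * x * y * x)⁻¹) ∈ H := step (((x) * y * (x * x)⁻¹) * ((x * x) * y * (x * x * y)⁻¹) * ((x * x * y) * y * (x * x * y * y)⁻¹)) _ (((x * x * y * x) * y * (x)⁻¹)) (H.mul_mem (H.mul_mem e1y e2y) e3y) e4y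
    ((show (((x) * y * (x * x)⁻¹) * ((x * x) * y * (x * x * y)⁻¹) * ((x * x * y) * y * (x * x * y * y)⁻¹)) * ((x * x * y * y) * y * (x * x * y * x)⁻¹) * (((x * x * y * x) * y * (x)⁻¹)) = (x) * (y * y * y * y * y) * (x)⁻¹ by simp [mul_assoc]).trans (by rw [hy5]; group))
  have e6x : ((x * x * y * x * x) * x * (x * x * y)⁻¹) ∈ H := step (((x * x * y) * x * (x * x * y * x)⁻¹) * ((x * x * y * x) * x * (x * x * y * x * x)⁻¹)) _ (1) (H.mul_mem e3x e4x) H.one_mem
    ((show (((x * x * y) * x * (x * x * y * x)⁻¹) * ((x * x * y * x) * x * (x * x * y * x * x)⁻¹)) * ((x * x * y * x * x) * x * (x * x * y)⁻¹) * (1) = (x * x * y) * (x * x * x) * (x * x * y)⁻¹ by simp [mul_assoc]).trans (by rw [hx]; group))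
  have e7y : ((x * x * y * y * x) * y * (x * x * y * x * x)⁻¹) ∈ H := step (((x * x * y * y) * x * (x * x * y * y * x)⁻¹)) _ (((x * x * y * x * x) * x * (x * x * y)⁻¹) * ((x * x * y) * y * (x * x * y * y)⁻¹)) e5x (H.mul_mem e6x e3y)
    ((show (((x * x * y * y) * x * (x * x * y * y * x)⁻¹)) * ((x * x * y * y * x) * y * (x * x * y * x * x)⁻¹) * (((x * x * y * x * x) * x * (x * x * y)⁻¹) * ((x * x * y) * y * (x * x * y * y)⁻¹)) = (x * x * y * y) * (x * y * x * y) * (x * x * y * y)⁻¹ by simp [mul_assoc]).trans (by rw [hxy]; group))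
  have e8x : ((x * x * y * x * x * y) * x * (x * x * y * y)⁻¹) ∈ H := step (((x * x * y * x) * x * (x * x * y * x * x)⁻¹) * ((x * x * y * x * x) * y * (x * x * y * x * x * y)⁻¹)) _ (((x * x * y * y) * y * (x * x * y * x)⁻¹)) (H.mul_mem e4x e6y) e5y
    ((show (((x * x * y * x) * x * (x * x * y * x * x)⁻¹) * ((x * x * y * x * x) * y * (x * x * y * x * x * y)⁻¹)) * ((x * x * y * x * x * y) * x * (x * x * y * y)⁻¹) * (((x * x * y * y) * y * (x * x * y * x)⁻¹)) = (x * x * y * x) * (x * y * x * y) * (x * x * y * x)⁻¹ by simp [mul_assoc]).trans (by rw [hxy]; group))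
  have e7x : ((x * x * y * y * x) * x * (x * x * y * x * x * y)⁻¹) ∈ H := step (((x * x * y * y) * x * (x * x * y * y * x)⁻¹)) _ (((x * x * y * x * x * y) * x * (x * x * y * y)⁻¹)) e5x e8x
    ((show (((x * x * y * y) * x * (x * x * y * y * x)⁻¹)) * ((x * x * y * y * x) * x * (x * x * y * x * x * y)⁻¹) * (((x * x * y * x * x * y) * x * (x * x * y * y)⁻¹)) = (x * x * y * y) * (x * x * x) * (x * x * y * y)⁻¹ by simp [mul_assoc]).trans (by rw [hx]; group))
  have e10y : ((x * x * y * x * x * y * y * x) * y * (x * x * y * y * x)⁻¹) ∈ H := step (((x * x * y * y * x) * x * (x * x * y * x * x * y)⁻¹) * ((x * x * y * x * x * y) * y * (x * x * y * x * x * y * y)⁻¹) * ((x * x * y * x * x * y * y) * x * (x * x * y * x * x * y * y * x)⁻¹)) _ (1) (H.mul_mem (H.mul_mem e7x e8y) e9x) H.one_mem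
    ((show (((x * x * y * y * x) * x * (x * x * y * x * x * y)⁻¹) * ((x * x * y * x * x * y) * y * (x * x * y * x * x * y * y)⁻¹) * ((x * x * y * x * x * y * y) * x * (x * x * y * x * x * y * y * x)⁻¹)) * ((x * x * y * x * x * y * y * x) * y * (x * x * y * y * x)⁻¹) * (1) = (x * x * y * y * x) * (x * y * x * y) * (x * x * y * y * x)⁻¹ by simp [mul_assoc]).trans (by rw [hxy]; group))
  have e9y : ((x * x * y * x * x * y * y) * y * (x * x * y * x * x * y * y * x)⁻¹) ∈ H := step (((x * x * y * x * x * y) * y * (x * x * y * x * x * y * y)⁻¹)) _ (((x * x * y * x * x * y * y * x) * y * (x * x * y * y * x)⁻¹) * ((x * x * y * y * x) * y * (x * x * y * x * x)⁻¹) * ((x * x * y * x * x) * y * (x * x * y * x * x * y)⁻¹)) e8y (H.mul_mem (H.mul_mem e10y e7y) e6y)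
    ((show (((x * x * y * x * x * y) * y * (x * x * y * x * x * y * y)⁻¹)) * ((x * x * y * x * x * y * y) * y * (x * x * y * x * x * y * y * x)⁻¹) * (((x * x * y * x * x * y * y * x) * y * (x * x * y * y * x)⁻¹) * ((x * x * y * y * x) * y * (x * x * y * x * x)⁻¹) * ((x * x * y * x * x) * y * (x * x * y * x * x * y)⁻¹)) = (x * x * y * x * x * y) * (y * y * y * y * y) * (x * x * y * x * x * y)⁻¹ by simp [mul_assoc]).trans (by rw [hy5]; group))
  have e11x : ((x * x * y * x * x * y * y * x * x) * x * (x * x * y * x * x * y * y)⁻¹) ∈ H := step (((x * x * y * x * x * y * y) * x * (x * x * y * x * x * y * y * x)⁻¹) * ((x * x * y * x * x * y * y * x) * x * (x * x * y * x * x * y * y * x * x)⁻¹)) _ (1) (H.mul_mem e9x e10x) H.one_mem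
    ((show (((x * x * y * x * x * y * y) * x * (x * x * y * x * x * y * y * x)⁻¹) * ((x * x * y * x * x * y * y * x) * x * (x * x * y * x * x * y * y * x * x)⁻¹)) * ((x * x * y * x * x * y * y * x * x) * x * (x * x * y * x * x * y * y)⁻¹) * (1) = (x * x * y * x * x * y * y) * (x * x * x) * (x * x * y * x * x * y * y)⁻¹ by simp [mul_assoc]).trans (by rw [hx]; group))
  have e11y : ((x * x * y * x * x * y * y * x * x) * y * (x * x * y * x * x * y * y * x * x)⁻¹) ∈ H := step (((x * x * y * x * x * y * y * x) * x * (x * x * y * x * x * y * y * x * x)⁻¹)) _ (((x * x * y * x * x * y * y * x * x) * x * (x * x * y * x * x * y * y)⁻¹) * ((x * x * y * x * x * y * y) * y * (x * x * y * x * x * y * y * x)⁻¹)) e10x (H.mul_mem e11x e9y)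
    ((show (((x * x * y * x * x * y * y * x) * x * (x * x * y * x * x * y * y * x * x)⁻¹)) * ((x * x * y * x * x * y * y * x * x) * y * (x * x * y * x * x * y * y * x * x)⁻¹) * (((x * x * y * x * x * y * y * x * x) * x * (x * x * y * x * x * y * y)⁻¹) * ((x * x * y * x * x * y * y) * y * (x * x * y * x * x * y * y * x)⁻¹)) = (x * x * y * x * x * y * y * x) * (x * y * x * y) * (x * x * y * x * x * y * y * x)⁻¹ by simp [mul_assoc]).trans (by rw [hxy]; group))
  constructor
  · intro a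
    fin_cases a
    · exact ⟨1, e0x⟩
    · exact ⟨2, e1x⟩
    · exact ⟨0, e2x⟩
    · exact ⟨4, e3x⟩
    · exact ⟨6, e4x⟩
    · exact ⟨7, e5x⟩
    · exact ⟨3, e6x⟩
    · exact ⟨8, e7x⟩
    · exact ⟨5, e8x⟩
    · exact ⟨10, e9x⟩
    · exact ⟨11, e10x⟩
    · exact ⟨9, e11x⟩
  · intro a
    fin_cases a
    · exact ⟨0, e0y⟩
    · exact ⟨2, e1y⟩
    · exact ⟨3, e2y⟩
    · exact ⟨5, e3y⟩
    · exact ⟨1, e4y⟩
    · exact ⟨4, e5y⟩
    · exact ⟨8, e6y⟩
    · exact ⟨6, e7y⟩
    · exact ⟨9, e8y⟩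
    · exact ⟨10, e9y⟩
    · exact ⟨7, e10y⟩
    · exact ⟨11, e11y⟩

end

def permX : alternatingGroup (Fin 5) := ⟨⟨![0,4,1,3,2], ![0,2,4,3,1], by decide, by decide⟩, by rw [Equiv.Perm.mem_alternatingGroup]; decide⟩
def permY : alternatingGroup (Fin 5) := ⟨⟨![1,2,3,4,0], ![4,0,1,2,3], by decide, by decide⟩, by rw [Equiv.Perm.mem_alternatingGroup]; decide⟩

/-- The alternating group of degree 5 has the presentation ⟨x, y | x³ = 1, y⁵ = 1, (xy)² = 1⟩: the group so presented is isomorphic to Alt(5). -/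
theorem result :
    Nonempty (PresentedGroup ({FreeGroup.of (0 : Fin 2) ^ 3, FreeGroup.of (1 : Fin 2) ^ 5,
        (FreeGroup.of (0 : Fin 2) * FreeGroup.of 1) ^ 2} : Set (FreeGroup (Fin 2))) ≃* alternatingGroup (Fin 5)) := by
  set rels : Set (FreeGroup (Fin 2)) := {FreeGroup.of (0 : Fin 2) ^ 3, FreeGroup.of (1 : Fin 2) ^ 5,
    (FreeGroup.of (0 : Fin 2) * FreeGroup.of 1) ^ 2} with hrels
  set x : PresentedGroup rels := PresentedGroup.of 0 with hxdef
  set y : PresentedGroup rels := PresentedGroup.of 1 with hydef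
  have hx3 : x ^ 3 = 1 := by
    have := PresentedGroup.one_of_mem (rels := rels) (x := FreeGroup.of (0 : Fin 2) ^ 3) (Or.inl rfl)
    rwa [map_pow] at this
  have hy5' : y ^ 5 = 1 := by
    have := PresentedGroup.one_of_mem (rels := rels) (x := FreeGroup.of (1 : Fin 2) ^ 5) (Or.inr (Or.inl rfl))
    rwa [map_pow] at this
  have hxy2 : (x * y) ^ 2 = 1 := by
    have := PresentedGroup.one_of_mem (rels := rels) (x := (FreeGroup.of (0 : Fin 2) * FreeGroup.of 1) ^ 2) (Or.inr (Or.inr rfl))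
    rwa [map_pow, map_mul] at this
  have hxa : x * x * x = 1 := by rw [← hx3]; simp [pow_succ]
  have hya : y * y * y * y * y = 1 := by rw [← hy5']; simp [pow_succ]
  have hxya : x * y * x * y = 1 := by rw [← hxy2, pow_two]; simp [mul_assoc]
  set H := Subgroup.zpowers y with hH
  obtain ⟨ex, ey⟩ := enumeration x y (H := H) (Subgroup.mem_zpowers y) hxa hya hxya
  have cover : ∀ g : PresentedGroup rels, ∀ a, ∃ b, cosetRep x y a * g * (cosetRep x y b)⁻¹ ∈ H := by
    intro g
    have hg : g ∈ Subgroup.closure (Set.range (PresentedGroup.of (rels := rels))) := by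
      rw [PresentedGroup.closure_range_of]; exact Subgroup.mem_top g
    have hmul : ∀ g g' : PresentedGroup rels, (∀ a, ∃ b, cosetRep x y a * g * (cosetRep x y b)⁻¹ ∈ H) →
        (∀ a, ∃ b, cosetRep x y a * g' * (cosetRep x y b)⁻¹ ∈ H) →
        ∀ a, ∃ b, cosetRep x y a * (g * g') * (cosetRep x y b)⁻¹ ∈ H := by
      intro g g' h h' a
      obtain ⟨b, hb⟩ := h a
      obtain ⟨c, hc⟩ := h' b
      refine ⟨c, ?_⟩
      have := H.mul_mem hb hc
      rwa [show cosetRep x y a * g * (cosetRep x y b)⁻¹ * (cosetRep x y b * g' * (cosetRep x y c)⁻¹) =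
        cosetRep x y a * (g * g') * (cosetRep x y c)⁻¹ by group] at this
    induction hg using Subgroup.closure_induction'' with
    | mem c hc =>
      obtain ⟨i, rfl⟩ := hc
      fin_cases i
      · exact ex
      · exact ey
    | inv_mem c hc =>
      obtain ⟨i, rfl⟩ := hc
      fin_cases i
      · have e : x⁻¹ = x * x := inv_eq_of_mul_eq_one_right (by rw [← mul_assoc]; exact hxa)
        show ∀ a, ∃ b, cosetRep x y a * x⁻¹ * (cosetRep x y b)⁻¹ ∈ H
        rw [e]; exact hmul x x ex ex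
      · have e : y⁻¹ = y * y * (y * y) := inv_eq_of_mul_eq_one_right (by simp only [← mul_assoc]; exact hya)
        show ∀ a, ∃ b, cosetRep x y a * y⁻¹ * (cosetRep x y b)⁻¹ ∈ H
        rw [e]
        exact hmul _ _ (hmul y y ey ey) (hmul y y ey ey)
    | one => exact fun a => ⟨a, by simp⟩
    | mul c d _ _ ihc ihd => exact hmul c d ihc ihd
  let φ : Fin 5 × Fin 12 → PresentedGroup rels := fun q => y ^ q.1.val * cosetRep x y q.2
  have hφ : Function.Surjective φ := by
    intro g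
    obtain ⟨b, hb⟩ := cover g 0
    obtain ⟨m, hm⟩ := Subgroup.mem_zpowers_iff.mp hb
    refine ⟨(⟨(m % 5).toNat, by omega⟩, b), ?_⟩
    have h5 : y ^ m = y ^ ((m % 5).toNat) := by
      rw [← zpow_natCast, Int.toNat_of_nonneg (Int.emod_nonneg _ (by norm_num))]
      conv_lhs => rw [← Int.ediv_mul_add_emod m 5, zpow_add, mul_comm (m / 5), zpow_mul]
      rw [show (5 : ℤ) = ((5 : ℕ) : ℤ) from rfl, zpow_natCast y 5, hy5', one_zpow, one_mul]
    show y ^ ((m % 5).toNat) * cosetRep x y b = g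
    rw [← h5, hm, show cosetRep x y 0 = 1 from rfl]
    group
  have hrel : ∀ r ∈ rels, FreeGroup.lift ![permX, permY] r = 1 := by
    rintro r (rfl | rfl | rfl) <;>
      simp only [map_pow, map_mul, FreeGroup.lift_apply_of, Matrix.cons_val_zero, Matrix.cons_val_one] <;>
      decide
  let f := PresentedGroup.toGroup hrel
  have hfx : f x = permX := PresentedGroup.toGroup.of hrel
  have hfy : f y = permY := PresentedGroup.toGroup.of hrel
  let ψ : Fin 5 × Fin 12 → alternatingGroup (Fin 5) := fun q => permY ^ q.1.val * cosetRep permX permY q.2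
  have hfψ : ∀ q, f (φ q) = ψ q := by
    intro q
    show f (y ^ q.1.val * cosetRep x y q.2) = _
    rw [map_mul, map_pow, hfy]
    congr 1
    obtain ⟨i, b⟩ := q
    fin_cases b <;> simp [cosetRep, hfx, hfy]
  have hψ : Function.Injective ψ := by decide +kernel
  have hcard : Nat.card (Fin 5 × Fin 12) = Nat.card (alternatingGroup (Fin 5)) := by
    simp only [Nat.card_eq_fintype_card, Fintype.card_prod, Fintype.card_fin]
    have h := two_mul_card_alternatingGroup (α := Fin 5)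
    simp only [Fintype.card_perm, Fintype.card_fin, Nat.factorial] at h
    omega
  have hψs : Function.Surjective ψ := ((Nat.bijective_iff_injective_and_card ψ).mpr ⟨hψ, hcard⟩).2
  refine ⟨MulEquiv.ofBijective f ⟨?_, ?_⟩⟩
  · intro a b hab
    obtain ⟨q, rfl⟩ := hφ a
    obtain ⟨r, rfl⟩ := hφ b
    rw [hfψ, hfψ] at hab
    rw [hψ hab]
  · intro a
    obtain ⟨q, rfl⟩ := hψs a
    exact ⟨φ q, hfψ q⟩

end Cfsg.Agent.S3377
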