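import Cfsg.Statements.S5944
import Mathlib
-- import your own Cfsg.Agent.* helpers here

set_option autoImplicit false
open Cfsg

namespace Cfsg.Agent.S5944

/-- For n ≠ 4, every proper subgroup of the symmetric group S_n other than the alternating group A_n has index at least n. -/
theorem result (n : ℕ) (hn : n ≠ 4) (H : Subgroup (Equiv.Perm (Fin n))) (hH : H ≠ ⊤) (hA : H ≠ alternatingGroup (Fin n)) : n ≤ H.index := by
  classical
  rcases Nat.lt_or_ge n 2 with h2 | h2
  · haveI : Subsingleton (Fin n) := ⟨fun a b => Fin.ext (by omega)⟩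
    exact absurd (Subsingleton.elim H ⊤) hH
  haveI : Nontrivial (Fin n) := Fin.nontrivial_iff_two_le.2 h2
  have hidx0 : H.index ≠ 0 := Subgroup.index_ne_zero_of_finite
  have hidx1 : H.index ≠ 1 := fun h => hH (Subgroup.index_eq_one.1 h)
  have hidx2 : H.index ≠ 2 := fun h => hA (Equiv.Perm.eq_alternatingGroup_of_index_eq_two h)
  rcases Nat.lt_or_ge n 5 with h5 | h5
  · omega
  by_contra hlt
  push_neg at hlt
  set K := H.normalCore with hK
  haveI : K.Normal := Subgroup.normalCore_normal H
  -- the kernel of the action on cosets is nontrivial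
  have hK0 : K ≠ ⊥ := by
    intro h
    have hinj : Function.Injective (MulAction.toPermHom (Equiv.Perm (Fin n)) (Equiv.Perm (Fin n) ⧸ H)) := by
      rw [← MonoidHom.ker_eq_bot_iff, ← Subgroup.normalCore_eq_ker]
      exact h
    have := Nat.card_le_card_of_injective _ hinj
    rw [Nat.card_perm, Nat.card_perm, Nat.card_eq_fintype_card, Fintype.card_fin] at this
    have h' : Nat.card (Equiv.Perm (Fin n) ⧸ H) = H.index := rfl
    rw [h'] at this
    exact absurd ((Nat.factorial_lt (Nat.pos_of_ne_zero hidx0)).2 hlt) (not_lt.2 this)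
  haveI : IsSimpleGroup (alternatingGroup (Fin n)) :=
    alternatingGroup.isSimpleGroup (α := Fin n) (by simpa using h5)
  haveI : (K.subgroupOf (alternatingGroup (Fin n))).Normal := Subgroup.Normal.subgroupOf inferInstance _
  rcases IsSimpleGroup.eq_bot_or_eq_top_of_normal (K.subgroupOf (alternatingGroup (Fin n))) inferInstance
    with h | h
  · rw [Subgroup.subgroupOf_eq_bot] at h
    obtain ⟨⟨s, hs⟩, hs1⟩ := Subgroup.ne_bot_iff_exists_ne_one.1 hK0
    have hc : ∀ u ∈ K, ∀ v ∈ alternatingGroup (Fin n), u * v = v * u := fun u hu v hv =>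
      (Subgroup.commute_of_normal_of_disjoint _ _ inferInstance inferInstance h u v hu hv).eq
    refine hs1 (Subtype.ext (Equiv.ext fun a => ?_))
    show s a = a
    by_contra hne
    set b := s a with hb
    obtain ⟨c, hca, hcb⟩ : ∃ c : Fin n, c ≠ a ∧ c ≠ b := by
      have hlt' : ({a, b} : Finset (Fin n)).card < (Finset.univ : Finset (Fin n)).card := by
        rw [Finset.card_univ, Fintype.card_fin]
        have := (Finset.card_insert_le a {b})
        simp at this ⊢
        omega
      obtain ⟨c, -, hc'⟩ := Finset.exists_mem_notMem_of_card_lt_card hlt'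
      simp at hc'
      exact ⟨c, hc'⟩
    obtain ⟨d, hda, hdb, hdc⟩ : ∃ d : Fin n, d ≠ a ∧ d ≠ b ∧ d ≠ c := by
      have hlt' : ({a, b, c} : Finset (Fin n)).card < (Finset.univ : Finset (Fin n)).card := by
        rw [Finset.card_univ, Fintype.card_fin]
        have h1 := (Finset.card_insert_le a {b, c})
        have h2' := (Finset.card_insert_le b {c})
        simp at h1 h2' ⊢
        omega
      obtain ⟨d, -, hd'⟩ := Finset.exists_mem_notMem_of_card_lt_card hlt'
      simp at hd'
      exact ⟨d, hd'⟩
    set v := Equiv.swap b d * Equiv.swap b c with hv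
    have hvA : v ∈ alternatingGroup (Fin n) := by
      rw [Equiv.Perm.mem_alternatingGroup, hv, map_mul, Equiv.Perm.sign_swap hdb.symm,
        Equiv.Perm.sign_swap hcb.symm]
      rfl
    have h1 := congrArg (fun e : Equiv.Perm (Fin n) => e a) (hc s hs v hvA)
    simp only [hv, Equiv.Perm.mul_apply] at h1
    rw [Equiv.swap_apply_of_ne_of_ne (Ne.symm hne) hca.symm,
      Equiv.swap_apply_of_ne_of_ne (Ne.symm hne) hda.symm, ← hb, Equiv.swap_apply_left,
      Equiv.swap_apply_of_ne_of_ne hcb hdc.symm] at h1
    exact hcb h1.symm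
  · have hle : alternatingGroup (Fin n) ≤ H :=
      (Subgroup.subgroupOf_eq_top.1 h).trans (Subgroup.normalCore_le H)
    have h' := Subgroup.index_dvd_of_le hle
    rw [alternatingGroup.index_eq_two] at h'
    rcases (Nat.dvd_prime Nat.prime_two).1 h' with h'' | h''
    · exact hidx1 h''
    · exact hidx2 h''

end Cfsg.Agent.S5944
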