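import Cfsg.Statements.S2400
import Cfsg.Agent.Lib.Lie.Chev.SteinbergUnivB2
import Cfsg.Agent.Lib.Lie.Chev.SteinbergSLCerts
import Cfsg.Agent.Lib.Lie.Chev.SteinbergB2Three

set_option autoImplicit false
open Cfsg

universe u

namespace Cfsg.Agent.S2400

open Lie.Chev in
/-- Trivial multiplier when the finite stem extensions of the cover are isomorphisms. -/
theorem of_cover {D : Cfsg.Lie.ChevalleyDatum} (c : CertFull D) (K : Type u) [Field K] [Finite K]
    (hN : checkNbr c.T = true)
    (h : ∀ (E : Type u) [Group E] [Finite E] (π : E →* D.SteinbergCover K),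
      Cfsg.IsStemExtension π → π.ker = ⊥) :
    Cfsg.HasCyclicSchurMultiplier (D.SteinbergGroup K) 1 := by
  obtain ⟨e, -⟩ := c.exists_cover_equiv K hN
  haveI := (c.stCoverData K).finite_of_finite hN
  haveI : Finite (D.SteinbergGroup K) := Finite.of_equiv _ e.toEquiv
  refine ⟨⟨D.SteinbergGroup K, inferInstance, inferInstance, MonoidHom.id _,
    ⟨Function.surjective_id, ?_, ?_⟩, ?_⟩, fun Γ _ _ σ hσ => ?_⟩
  · rw [MonoidHom.ker_eq_bot_iff _ |>.2 Function.injective_id]; exact bot_le
  · rw [MonoidHom.ker_eq_bot_iff _ |>.2 Function.injective_id]; exact bot_le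
  · exact exists_zmod_equiv (by
      rw [MonoidHom.ker_eq_bot_iff _ |>.2 Function.injective_id, Subgroup.card_bot]) (Or.inl rfl)
      |>.map MulEquiv.symm
  · have hker : (e.symm.toMonoidHom.comp σ).ker = σ.ker :=
      MonoidHom.ker_mulEquiv_comp σ e.symm
    have hbot := h Γ _ ⟨e.symm.surjective.comp hσ.1, hker.symm ▸ hσ.2.1, hker.symm ▸ hσ.2.2⟩
    rw [hker] at hbot
    exact ⟨1, fun x => ⟨1, Subtype.ext (by
      rw [map_one, Subgroup.coe_one]
      exact (Subgroup.mem_bot.1 (hbot ▸ x.2)).symm)⟩⟩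

/-- Over a finite field `K`, the group presented by Steinberg's relators (R1)–(R3) (the universal Chevalley group) of type E₆ or E₇, or of type B₂ or D₄ with `K` of more than two elements, has trivial Schur multiplier: every finite stem extension of it is an isomorphism (Schur multiplier described through stem extensions as in the definitions). Types G₂, F₄ and E₈ are not covered here. -/
theorem result {K : Type*} [Field K] [Fintype K] (e : Cfsg.Lie.ChevalleyDatum × ℕ)
    (he : e ∈ [(Cfsg.Lie.chevE6, 0), (Cfsg.Lie.chevE7, 0), (Cfsg.Lie.chevB2, 2), (Cfsg.Lie.chevD4, 2)]) (hK : Fintype.card K ≠ e.2) :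
    Cfsg.HasCyclicSchurMultiplier (e.1.SteinbergGroup K) 1 := by
  classical
  haveI : Finite K := inferInstance
  have hlarge : 4 < Fintype.card K → ∃ s : Finset K, 4 < s.card := fun h => ⟨Finset.univ, h⟩
  have hunit : Fintype.card K ≠ 2 → ∃ a : Kˣ, a ≠ 1 := fun h => by
    by_contra hne
    push Not at hne
    have h1 := Fintype.card_units K
    have h2 : Fintype.card Kˣ ≤ 1 := Fintype.card_le_one_iff.2 fun a b => by rw [hne a, hne b]
    have h3 := Fintype.one_lt_card (α := K)
    omega
  simp only [List.mem_cons, List.not_mem_nil, or_false] at he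
  rcases he with rfl | rfl | rfl | rfl
  · have hN : Lie.Chev.checkNbr Lie.Chev.certFullE6.T = true := by decide +kernel
    refine of_cover Lie.Chev.certFullE6 K hN fun E _ _ π hπ => ?_
    obtain ⟨τ, hτ⟩ :=
      Lie.Chev.certFullE6.exists_section_SL K hN Lie.Chev.slE6 π hπ.1 hπ.2.1
    exact Lie.Chev.ker_eq_bot_of_section hπ hτ
  · have hN : Lie.Chev.checkNbr Lie.Chev.certFullE7.T = true := by decide +kernel
    refine of_cover Lie.Chev.certFullE7 K hN fun E _ _ π hπ => ?_
    obtain ⟨τ, hτ⟩ :=
      Lie.Chev.certFullE7.exists_section_SL K hN Lie.Chev.slE7 π hπ.1 hπ.2.1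
    exact Lie.Chev.ker_eq_bot_of_section hπ hτ
  · have hN : Lie.Chev.checkNbr Lie.Chev.certFullB2.T = true := by decide +kernel
    have hU : Lie.Chev.checkUniv Lie.Chev.certFullB2.T = true := by decide +kernel
    refine of_cover Lie.Chev.certFullB2 K hN fun E _ _ π hπ => ?_
    rcases (show Fintype.card K = 3 ∨ Fintype.card K = 4 ∨ 4 < Fintype.card K by
      have := Fintype.one_lt_card (α := K)
      have : Fintype.card K ≠ 2 := hK
      omega) with h | h | h
    · exact Lie.Chev.stem_ker_B2_three (by rw [Nat.card_eq_fintype_card, h]) hN hπ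
    · have h2 : (2 : K) = 0 := by
        have := Nat.cast_card_eq_zero K
        rw [h, show ((4 : ℕ) : K) = 2 * 2 by norm_num] at this
        exact mul_self_eq_zero.1 this
      obtain ⟨a, ha⟩ := hunit hK
      have hperf := (Lie.Chev.certFullB2.stCoverData K).perfect_odd hN Lie.Chev.perfectB2
        ⟨a, a.ne_zero, fun e => ha (Units.ext e)⟩
      obtain ⟨τ, hτ⟩ := Lie.Chev.certFullB2.exists_section_four K hN Lie.Chev.fourB2 h2 hperf
        ⟨a, ha⟩ π hπ.1 hπ.2.1
      exact Lie.Chev.ker_eq_bot_of_section hπ hτ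
    · obtain ⟨τ, hτ⟩ := Lie.Chev.certFullB2.exists_section K hN hU (hlarge h) π hπ.1 hπ.2.1
      exact Lie.Chev.ker_eq_bot_of_section hπ hτ
  · have hN : Lie.Chev.checkNbr Lie.Chev.certFullD4.T = true := by decide +kernel
    refine of_cover Lie.Chev.certFullD4 K hN fun E _ _ π hπ => ?_
    obtain ⟨τ, hτ⟩ := Lie.Chev.certFullD4.exists_section_tri K hN Lie.Chev.triD4
      Lie.Chev.perfectD4 (hunit hK) π hπ.1 hπ.2.1
    exact Lie.Chev.ker_eq_bot_of_section hπ hτ

end Cfsg.Agent.S2400
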