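import Cfsg.Statements.S2279
import Cfsg.Agent.Lib.Lie.RegUnipTwoExists
-- import your own Cfsg.Agent.* helpers here

set_option autoImplicit false
open Cfsg

namespace Cfsg.Agent.S2279

/-- Let F be a finite field with q elements and n ≥ 4. Then SL_n(F) is generated by two regular unipotent elements (elements u with u − 1 nilpotent and (u − 1)^(n−1) ≠ 0); if q is prime, the two can be taken conjugate in SL_n(F). -/
theorem result {F : Type*} [Field F] [Fintype F] (n : ℕ) (hn : 4 ≤ n) :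
    (∃ u v : Matrix.SpecialLinearGroup (Fin n) F, (IsNilpotent ((u : Matrix (Fin n) (Fin n) F) - 1) ∧ ((u : Matrix (Fin n) (Fin n) F) - 1) ^ (n - 1) ≠ 0) ∧ (IsNilpotent ((v : Matrix (Fin n) (Fin n) F) - 1) ∧ ((v : Matrix (Fin n) (Fin n) F) - 1) ^ (n - 1) ≠ 0) ∧
      Subgroup.closure ({u, v} : Set (Matrix.SpecialLinearGroup (Fin n) F)) = ⊤) ∧
    ((Fintype.card F).Prime → ∃ u g : Matrix.SpecialLinearGroup (Fin n) F, (IsNilpotent ((u : Matrix (Fin n) (Fin n) F) - 1) ∧ ((u : Matrix (Fin n) (Fin n) F) - 1) ^ (n - 1) ≠ 0) ∧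
      Subgroup.closure ({u, g * u * g⁻¹} : Set (Matrix.SpecialLinearGroup (Fin n) F)) = ⊤) := by
  obtain ⟨m, rfl⟩ : ∃ m, n = m + 3 := ⟨n - 3, by omega⟩
  have main : ∃ u g : Matrix.SpecialLinearGroup (Fin (m + 3)) F,
      (IsNilpotent (u.val - 1) ∧ (u.val - 1) ^ (m + 3 - 1) ≠ 0) ∧
      Subgroup.closure ({u, g * u * g⁻¹} : Set (Matrix.SpecialLinearGroup (Fin (m + 3)) F)) = ⊤ := by
    by_cases h : Fintype.card F = 2 ∧ m = 1
    · obtain ⟨hF, rfl⟩ := h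
      obtain ⟨u, g, h1, h2, h3⟩ := Cfsg.Agent.Lie.RegUnip.exists_two_conjugates_four_two hF
      exact ⟨u, g, ⟨h1, h2⟩, h3⟩
    · obtain ⟨g, hg⟩ := Cfsg.Agent.Lie.RegUnip.exists_two_conjugates_ge_four (F := F) (m := m) (by omega) h
      exact ⟨_, g, ⟨(Cfsg.Agent.Lie.RegUnip.regU_nilpotent m).1, (Cfsg.Agent.Lie.RegUnip.regU_nilpotent m).2⟩, hg⟩
  obtain ⟨u, g, ⟨h1, h2⟩, h3⟩ := main
  refine ⟨⟨u, g * u * g⁻¹, ⟨h1, h2⟩, ?_, h3⟩, fun _ => ⟨u, g, ⟨h1, h2⟩, h3⟩⟩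
  have e : ∀ k : ℕ, ((g * u * g⁻¹).val - 1) ^ k = g.val * (u.val - 1) ^ k * (g⁻¹).val := by
    have hgi : g.val * (g⁻¹).val = 1 := by
      rw [← Cfsg.Agent.Lie.RegUnip.val_mul', mul_inv_cancel, Cfsg.Agent.Lie.RegUnip.val_one']
    have hig : (g⁻¹).val * g.val = 1 := by
      rw [← Cfsg.Agent.Lie.RegUnip.val_mul', inv_mul_cancel, Cfsg.Agent.Lie.RegUnip.val_one']
    intro k
    induction k with
    | zero => rw [pow_zero, pow_zero, mul_one, hgi]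
    | succ k ih =>
      rw [pow_succ, pow_succ, ih, Cfsg.Agent.Lie.RegUnip.val_mul', Cfsg.Agent.Lie.RegUnip.val_mul']
      calc g.val * (u.val - 1) ^ k * (g⁻¹).val * (g.val * u.val * (g⁻¹).val - 1)
          = g.val * (u.val - 1) ^ k * (g⁻¹).val * (g.val * (u.val - 1) * (g⁻¹).val) := by
            rw [mul_sub g.val, mul_one, sub_mul, hgi]
        _ = g.val * ((u.val - 1) ^ k * ((g⁻¹).val * g.val) * (u.val - 1)) * (g⁻¹).val := by noncomm_ring
        _ = _ := by rw [hig, mul_one]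
  refine ⟨?_, fun h => h2 ?_⟩
  · obtain ⟨k, hk⟩ := h1
    exact ⟨k, by rw [e, hk, mul_zero, zero_mul]⟩
  · have hig : (g⁻¹).val * g.val = 1 := by
      rw [← Cfsg.Agent.Lie.RegUnip.val_mul', inv_mul_cancel, Cfsg.Agent.Lie.RegUnip.val_one']
    calc (u.val - 1) ^ (m + 3 - 1) = (g⁻¹).val * g.val * (u.val - 1) ^ (m + 3 - 1) * ((g⁻¹).val * g.val) := by
          rw [hig, one_mul, mul_one]
      _ = (g⁻¹).val * (g.val * (u.val - 1) ^ (m + 3 - 1) * (g⁻¹).val) * g.val := by noncomm_ring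
      _ = 0 := by rw [← e, h, mul_zero, zero_mul]

end Cfsg.Agent.S2279
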