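import Cfsg.Statements.S0572
import Cfsg.Agent.Lib.Grp.Basic
-- import your own Cfsg.Agent.* helpers here

set_option autoImplicit false
open Cfsg

namespace Cfsg.Agent.S0572

open scoped commutatorElement

/-- Itô's Theorem: if a group G is the product AB of two abelian subgroups, then the commutator subgroup of G is abelian, i.e. the second term of the derived series is trivial. -/
theorem result {G : Type*} [Group G] (A B : Subgroup G) [IsMulCommutative A] [IsMulCommutative B] (hAB : ∀ g : G, ∃ a ∈ A, ∃ b ∈ B, g = a * b) : derivedSeries G 2 = ⊥ := by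
  have hBA : ∀ g : G, ∃ b ∈ B, ∃ a ∈ A, g = b * a := by
    intro g
    obtain ⟨a, ha, b, hb, h⟩ := hAB g⁻¹
    exact ⟨b⁻¹, B.inv_mem hb, a⁻¹, A.inv_mem ha, by rw [← mul_inv_rev, ← h, inv_inv]⟩
  have cA : ∀ a ∈ A, ∀ a' ∈ A, a * a' = a' * a := fun a ha a' ha' =>
    congrArg Subtype.val (mul_comm' (⟨a, ha⟩ : A) ⟨a', ha'⟩)
  have cB : ∀ a ∈ B, ∀ a' ∈ B, a * a' = a' * a := fun a ha a' ha' =>
    congrArg Subtype.val (mul_comm' (⟨a, ha⟩ : B) ⟨a', ha'⟩)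
  -- conjugating a commutator by an element of `A` changes only the `B` component
  have hconjA : ∀ a ∈ A, ∀ a₁ ∈ A, ∀ b ∈ B, ∀ b₂ ∈ B, ∀ a₂ ∈ A, a₁ * b * a₁⁻¹ = b₂ * a₂ →
      a₁ * ⁅a, b⁆ * a₁⁻¹ = ⁅a, b₂⁆ := by
    intro a ha a₁ ha₁ b _ b₂ _ a₂ ha₂ he
    calc a₁ * ⁅a, b⁆ * a₁⁻¹ = ⁅a₁ * a * a₁⁻¹, a₁ * b * a₁⁻¹⁆ := by
          simp [commutatorElement_def, mul_assoc]
      _ = ⁅a, b₂ * a₂⁆ := by rw [he, cA a₁ ha₁ a ha, mul_inv_cancel_right]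
      _ = ⁅a, b₂⁆ := by
        rw [commutatorElement_mul_right_eq_mul_conj, commutatorElement_eq_one_iff_mul_comm.mpr (cA a ha a₂ ha₂)]
        simp
  have hconjB : ∀ a ∈ A, ∀ b₁ ∈ B, ∀ b ∈ B, ∀ a₃ ∈ A, ∀ b₃ ∈ B, b₁ * a * b₁⁻¹ = a₃ * b₃ →
      b₁ * ⁅a, b⁆ * b₁⁻¹ = ⁅a₃, b⁆ := by
    intro a _ b₁ hb₁ b hb a₃ _ b₃ hb₃ he
    calc b₁ * ⁅a, b⁆ * b₁⁻¹ = ⁅b₁ * a * b₁⁻¹, b₁ * b * b₁⁻¹⁆ := by
          simp [commutatorElement_def, mul_assoc]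
      _ = ⁅a₃ * b₃, b⁆ := by rw [he, cB b₁ hb₁ b hb, mul_inv_cancel_right]
      _ = ⁅a₃, b⁆ := by
        rw [commutatorElement_mul_left_eq_conj_mul, commutatorElement_eq_one_iff_mul_comm.mpr (cB b₃ hb₃ b hb)]
        simp
  set T : Set G := {c | ∃ a ∈ A, ∃ b ∈ B, ⁅a, b⁆ = c} with hT
  have hcomm : ∀ c ∈ T, ∀ d ∈ T, Commute c d := by
    rintro _ ⟨a₁, ha₁, b₁, hb₁, rfl⟩ _ ⟨a, ha, b, hb, rfl⟩
    -- `(a₁ b₁) (b₁ a₁)⁻¹` is the commutator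
    have key : ∀ c : G, (a₁ * b₁) * c * (a₁ * b₁)⁻¹ = (b₁ * a₁) * c * (b₁ * a₁)⁻¹ →
        Commute ⁅a₁, b₁⁆ ((b₁ * a₁) * c * (b₁ * a₁)⁻¹) := by
      intro c hc
      refine mul_inv_eq_iff_eq_mul.mp ?_
      rw [show ⁅a₁, b₁⁆ * (b₁ * a₁ * c * (b₁ * a₁)⁻¹) * ⁅a₁, b₁⁆⁻¹ = (a₁ * b₁) * c * (a₁ * b₁)⁻¹ by
        simp [commutatorElement_def, mul_assoc]]
      exact hc
    -- apply to the preimage of `⁅a, b⁆` under conjugation by `b₁ a₁`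
    have hpre : ∀ a' ∈ A, ∀ b' ∈ B, ∀ c ∈ T, a' * c * a'⁻¹ ∈ T ∧ b' * c * b'⁻¹ ∈ T := by
      rintro a' ha' b' hb' _ ⟨x, hx, y, hy, rfl⟩
      obtain ⟨y₂, hy₂, x₂, hx₂, g2⟩ := hBA (a' * y * a'⁻¹)
      obtain ⟨x₃, hx₃, y₃, hy₃, g3⟩ := hAB (b' * x * b'⁻¹)
      exact ⟨⟨x, hx, y₂, hy₂, (hconjA x hx a' ha' y hy y₂ hy₂ x₂ hx₂ g2).symm⟩,
        ⟨x₃, hx₃, y, hy, (hconjB x hx b' hb' y hy x₃ hx₃ y₃ hy₃ g3).symm⟩⟩
    obtain ⟨u, hu, v, hv, huv⟩ := (hpre a₁⁻¹ (A.inv_mem ha₁) b₁ hb₁ _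
      (hpre a₁ ha₁ b₁⁻¹ (B.inv_mem hb₁) _ ⟨a, ha, b, hb, rfl⟩).2).1
    rw [inv_inv] at huv
    obtain ⟨v₂, hv₂, u₂, hu₂, k2⟩ := hBA (a₁ * v * a₁⁻¹)
    obtain ⟨u₃, hu₃, v₃, hv₃, k3⟩ := hAB (b₁ * u * b₁⁻¹)
    have f1 : a₁ * (b₁ * ⁅u, v⁆ * b₁⁻¹) * a₁⁻¹ = ⁅u₃, v₂⁆ := by
      rw [hconjB u hu b₁ hb₁ v hv u₃ hu₃ v₃ hv₃ k3, hconjA u₃ hu₃ a₁ ha₁ v hv v₂ hv₂ u₂ hu₂ k2]
    have f2 : b₁ * (a₁ * ⁅u, v⁆ * a₁⁻¹) * b₁⁻¹ = ⁅u₃, v₂⁆ := by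
      rw [hconjA u hu a₁ ha₁ v hv v₂ hv₂ u₂ hu₂ k2, hconjB u hu b₁ hb₁ v₂ hv₂ u₃ hu₃ v₃ hv₃ k3]
    have := key ⁅u, v⁆ (by
      rw [show (a₁ * b₁) * ⁅u, v⁆ * (a₁ * b₁)⁻¹ = a₁ * (b₁ * ⁅u, v⁆ * b₁⁻¹) * a₁⁻¹ by group, f1, ← f2]
      group)
    rw [huv] at this
    simpa [mul_assoc] using this
  set D := Subgroup.closure T with hD
  have hTn : ∀ g : G, ∀ c ∈ T, g * c * g⁻¹ ∈ T := by
    intro g c hc
    obtain ⟨a₁, ha₁, b₁, hb₁, rfl⟩ := hAB g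
    obtain ⟨x, hx, y, hy, rfl⟩ := hc
    obtain ⟨x₃, hx₃, y₃, hy₃, g3⟩ := hAB (b₁ * x * b₁⁻¹)
    obtain ⟨y₂, hy₂, x₂, hx₂, g2⟩ := hBA (a₁ * y * a₁⁻¹)
    refine ⟨x₃, hx₃, y₂, hy₂, ?_⟩
    rw [show a₁ * b₁ * ⁅x, y⁆ * (a₁ * b₁)⁻¹ = a₁ * (b₁ * ⁅x, y⁆ * b₁⁻¹) * a₁⁻¹ by group,
      hconjB x hx b₁ hb₁ y hy x₃ hx₃ y₃ hy₃ g3, hconjA x₃ hx₃ a₁ ha₁ y hy y₂ hy₂ x₂ hx₂ g2]
  have hDn : D.Normal := by
    refine ⟨fun d hd g => ?_⟩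
    induction hd using Subgroup.closure_induction with
    | mem c hc => exact Subgroup.subset_closure (hTn g c hc)
    | one => simp
    | mul x y _ _ hx hy =>
      rw [show g * (x * y) * g⁻¹ = (g * x * g⁻¹) * (g * y * g⁻¹) by group]; exact D.mul_mem hx hy
    | inv x _ hx => rw [show g * x⁻¹ * g⁻¹ = (g * x * g⁻¹)⁻¹ by group]; exact D.inv_mem hx
  have h1 : derivedSeries G 1 ≤ D := by
    rw [derivedSeries_one, commutator_def, Subgroup.commutator_le]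
    intro x _ y _
    set f := QuotientGroup.mk' D
    rw [← QuotientGroup.eq_one_iff]
    show f ⁅x, y⁆ = 1
    rw [map_commutatorElement, commutatorElement_eq_one_iff_commute]
    obtain ⟨a, ha, b, hb, rfl⟩ := hAB x
    obtain ⟨a', ha', b', hb', rfl⟩ := hAB y
    have hab : ∀ p ∈ A, ∀ q ∈ B, Commute (f p) (f q) := by
      intro p hp q hq
      rw [← commutatorElement_eq_one_iff_commute, ← map_commutatorElement]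
      exact (QuotientGroup.eq_one_iff _).mpr (Subgroup.subset_closure ⟨p, hp, q, hq, rfl⟩)
    have caa : Commute (f a) (f a') := Commute.map (cA a ha a' ha') f
    have cbb : Commute (f b) (f b') := Commute.map (cB b hb b' hb') f
    rw [map_mul, map_mul]
    exact (caa.mul_right (hab a ha b' hb')).mul_left ((hab a' ha' b hb).symm.mul_right cbb)
  rw [show derivedSeries G 2 = ⁅derivedSeries G 1, derivedSeries G 1⁆ from rfl]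
  refine le_bot_iff.mp ((Subgroup.commutator_mono h1 h1).trans ?_)
  rw [le_bot_iff, Subgroup.commutator_eq_bot_iff_le_centralizer, hD, Subgroup.centralizer_closure, Subgroup.closure_le]
  exact fun c hc => Subgroup.mem_centralizer_iff.mpr fun d hd => hcomm d hd c hc

end Cfsg.Agent.S0572
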