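import Cfsg.Statements.S0813
import Cfsg.Agent.Lib.Classical.PSLAutStructure

set_option autoImplicit false
open Cfsg

namespace Cfsg.Agent.S0813

/-- |Aut(PSL_n(q))|, q = p^f: for n ≥ 3 it is 2 f |PGL_n(q)|, and for n = 2 (q ≥ 4) it is f |PGL_2(q)|. -/
theorem result {F : Type*} [Field F] [Fintype F] (p f : ℕ) [Fact p.Prime] (hf : 1 ≤ f) (hF : Fintype.card F = p ^ f) (n : ℕ) (hn : 2 ≤ n) (h2 : n = 2 → 4 ≤ p ^ f) : Nat.card (MulAut (Matrix.ProjectiveSpecialLinearGroup (Fin n) F)) = (if n = 2 then 1 else 2) * f * Nat.card (Matrix.ProjGenLinGroup (Fin n) F) := by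
  haveI : CharP F p := charP_of_card_eq_prime_pow hF
  obtain ⟨-, hcard⟩ := Cfsg.Agent.Classical.PSLAut.card_ringAut (F := F) hF
  obtain ⟨Ψ, hker, hsur, h2n⟩ := Cfsg.Agent.Classical.PSLAut.exists_fieldGraphHom (F := F) (p := p) hn
  rw [Ψ.ker.card_eq_card_quotient_mul_card_subgroup, hker,
    Cfsg.Agent.Classical.PSLAut.natCard_inndiag hn, ← hker,
    Nat.card_congr (QuotientGroup.quotientKerEquivRange Ψ).toEquiv]
  congr 1
  split_ifs with hn2
  · obtain ⟨h1, h3⟩ := h2n hn2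
    have hr : Ψ.range = (MonoidHom.inl (RingAut F) (Multiplicative (ZMod 2))).range := by
      ext ⟨a, b⟩
      constructor
      · rintro ⟨β, hβ⟩
        refine ⟨a, Prod.ext rfl ?_⟩
        have := h1 β
        rw [hβ] at this
        exact this.symm
      · rintro ⟨a', ha⟩
        obtain ⟨β, hβ⟩ := h3 a'
        exact ⟨β, ha ▸ Prod.ext hβ (h1 β)⟩
    rw [hr, ← Nat.card_congr (MonoidHom.ofInjective (f := MonoidHom.inl (RingAut F)
      (Multiplicative (ZMod 2))) fun a b h => (Prod.ext_iff.1 h).1).toEquiv, hcard, one_mul]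
  · rw [MonoidHom.range_eq_top.2 (hsur (by omega)), Subgroup.card_top, Nat.card_prod, hcard,
      Nat.card_congr Multiplicative.toAdd, Nat.card_zmod, mul_comm]

end Cfsg.Agent.S0813
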