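import Cfsg.Statements.S4413
import Mathlib
import Cfsg.Agent.Lib.Spor.ExtraspecialOut
import Cfsg.Agent.Lib.Transfer.MinusFour

set_option maxHeartbeats 1000000
set_option maxRecDepth 8000

set_option autoImplicit false
open Cfsg

namespace Cfsg.Agent.S4413

open Cfsg.Agent Cfsg.Agent.Transfer.MinusFour

theorem iso_perm : Nonempty (isometryGroup (ZMod 2) fM ≃* Equiv.Perm (Fin 5)) := by
  obtain ⟨hpt, hinj, hbasis⟩ := pt_spec
  have hmem : ∀ g : GL (Fin 4) (ZMod 2), (g ∈ isometryGroup (ZMod 2) fM) ↔ ∀ x, fM (Matrix.mulVec g.val x) = fM x :=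
    fun g => ⟨fun h x => h x x, fun h x _ => h x⟩
  let f : Equiv.Perm (Fin 5) →* isometryGroup (ZMod 2) fM :=
    MonoidHom.mk' (fun σ => ⟨⟨permMat σ, permMat σ⁻¹, (permMat_facts σ).1, by
        have := (permMat_facts σ⁻¹).1
        rwa [inv_inv] at this⟩, (hmem _).2 (permMat_facts σ).2.1⟩)
      (fun σ τ => Subtype.ext (Units.ext (by
        show permMat (σ * τ) = permMat σ * permMat τ
        apply Matrix.toLin'.injective
        refine (Pi.basisFun (ZMod 2) (Fin 4)).ext fun j => ?_
        rw [Pi.basisFun_apply, hbasis j, Matrix.toLin'_apply, Matrix.toLin'_apply, ← Matrix.mulVec_mulVec,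
          (permMat_facts τ).2.2, (permMat_facts σ).2.2, (permMat_facts (σ * τ)).2.2]
        rfl)))
  refine ⟨(MulEquiv.ofBijective f ⟨fun σ τ h => Equiv.ext fun i => hinj ?_, fun g => ?_⟩).symm⟩
  · have hm : permMat σ = permMat τ := congrArg (fun g : isometryGroup (ZMod 2) fM => (g : GL (Fin 4) (ZMod 2)).val) h
    rw [← (permMat_facts σ).2.2, ← (permMat_facts τ).2.2, hm]
  · have hg := (hmem g.1).1 g.2
    have hu : ∀ x y : V4, Matrix.mulVec g.1.val x = Matrix.mulVec g.1.val y → x = y := fun x y h => by
      have := congrArg (Matrix.mulVec (g.1⁻¹ : GL (Fin 4) (ZMod 2)).val) h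
      rwa [Matrix.mulVec_mulVec, Matrix.mulVec_mulVec, Units.inv_mul, Matrix.one_mulVec, Matrix.one_mulVec] at this
    have hex : ∀ i, ∃ j, Matrix.mulVec g.1.val (pt i) = pt j := fun i => by
      obtain ⟨h1, h2⟩ := (hpt (pt i)).2 ⟨i, rfl⟩
      refine (hpt _).1 ⟨fun e => h1 (hu _ _ (e.trans (Matrix.mulVec_zero _).symm)), ?_⟩
      rw [hg, h2]
    choose σ hσ using hex
    have hσi : Function.Injective σ := fun a b e => hinj (hu _ _ (by rw [hσ, hσ, e]))
    refine ⟨Equiv.ofBijective σ ⟨hσi, Finite.injective_iff_surjective.1 hσi⟩, Subtype.ext (Units.ext ?_)⟩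
    show permMat _ = g.1.val
    apply Matrix.toLin'.injective
    refine (Pi.basisFun (ZMod 2) (Fin 4)).ext fun j => ?_
    rw [Pi.basisFun_apply, hbasis j, Matrix.toLin'_apply, Matrix.toLin'_apply, (permMat_facts _).2.2, hσ]
    rfl

theorem z2 : ∀ t : ZMod 2, t = 0 ∨ t = 1 := by decide

theorem polar_self (q : QuadraticForm (ZMod 2) V4) (x : V4) : QuadraticMap.polar q x x = 0 := by
  rw [QuadraticMap.polar_self, two_nsmul]
  rcases z2 (q x) with h | h <;> rw [h] <;> decide

/-- Either an orthogonal singular pair or the model form. -/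
theorem exists_model (q : QuadraticForm (ZMod 2) V4) (hnd : (QuadraticMap.polarBilin q).Nondegenerate) :
    (∃ u v : V4, u ≠ 0 ∧ v ≠ 0 ∧ u ≠ v ∧ q u = 0 ∧ q v = 0 ∧ q (u + v) = 0) ∨
      ∃ T : V4 ≃ₗ[ZMod 2] V4, ∀ x, q (T x) = fM x := by
  classical
  have hsymm : ∀ x y, QuadraticMap.polar q x y = QuadraticMap.polar q y x := fun x y => QuadraticMap.polar_comm q x y
  have hadd : ∀ x x' y, QuadraticMap.polar q (x + x') y = QuadraticMap.polar q x y + QuadraticMap.polar q x' y :=
    fun x x' y => QuadraticMap.polar_add_left q x x' y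
  have hsm : ∀ (c : ZMod 2) x y, QuadraticMap.polar q (c • x) y = c * QuadraticMap.polar q x y :=
    fun c x y => by rw [QuadraticMap.polar_smul_left]; rfl
  have hpart : ∀ u, u ≠ 0 → ∃ v, QuadraticMap.polar q u v = 1 := fun u hu => by
    by_contra h
    push Not at h
    exact hu (hnd.1 u fun v => (z2 _).resolve_right (h v))
  obtain ⟨e, he⟩ : ∃ e : V4, e ≠ 0 := ⟨fun _ => 1, fun h => one_ne_zero (congrFun h 0)⟩
  obtain ⟨f, hef⟩ := hpart e he
  -- projection to the orthogonal of the plane
  let pr : V4 → V4 := fun x => x + QuadraticMap.polar q x f • e + QuadraticMap.polar q x e • f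
  have hpr : ∀ x, QuadraticMap.polar q (pr x) e = 0 ∧ QuadraticMap.polar q (pr x) f = 0 := fun x => by
    constructor
    · simp only [pr, hadd, hsm, polar_self, hsymm f e, hef]
      rcases z2 (QuadraticMap.polar q x e) with h | h <;> rw [h] <;> simp <;> decide
    · simp only [pr, hadd, hsm, polar_self, hef]
      rcases z2 (QuadraticMap.polar q x f) with h | h <;> rw [h] <;> simp <;> decide
  obtain ⟨w, hw⟩ : ∃ w, pr w ≠ 0 := by
    by_contra h
    push Not at h
    have hsur : ∀ x : V4, ∃ c : ZMod 2 × ZMod 2, x = c.1 • e + c.2 • f := fun x =>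
      ⟨(QuadraticMap.polar q x f, QuadraticMap.polar q x e), by
        have h' := h x
        simp only [pr, add_assoc] at h'
        exact (eq_neg_of_add_eq_zero_left h').trans (by funext i; exact ZMod.neg_eq_self_mod_two _)⟩
    choose c hc using hsur
    have := Nat.card_le_card_of_injective c fun a b e' => by rw [hc a, hc b, e']
    simp at this
  set g := pr w
  obtain ⟨v, hgv⟩ := hpart g hw
  set k := pr v
  have hgk : QuadraticMap.polar q g k = 1 := by
    rw [hsymm g k]
    show QuadraticMap.polar q (v + _ + _) g = 1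
    rw [hadd, hadd, hsm, hsm, hsymm e g, hsymm f g, (hpr w).1, (hpr w).2, hsymm v g, hgv]
    simp
  have hge : QuadraticMap.polar q e g = 0 := (hsymm _ _).trans (hpr w).1
  have hgf : QuadraticMap.polar q f g = 0 := (hsymm _ _).trans (hpr w).2
  have hke : QuadraticMap.polar q e k = 0 := (hsymm _ _).trans (hpr v).1
  have hkf : QuadraticMap.polar q f k = 0 := (hsymm _ _).trans (hpr v).2
  let c : Fin 4 → V4 := ![e, f, g, k]
  let T₀ : V4 →ₗ[ZMod 2] V4 := Fintype.linearCombination (ZMod 2) c
  have hT₀ : ∀ x, T₀ x = x 0 • e + x 1 • f + x 2 • g + x 3 • k := fun x => by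
    simp only [T₀, Fintype.linearCombination_apply, Fin.sum_univ_four]
    rfl
  have hq : ∀ x, q (T₀ x) = gS ![q e, q f, q g, q k] x := fun x => by
    rw [hT₀, QuadraticMap.map_add q, QuadraticMap.map_add q, QuadraticMap.map_add q]
    simp only [QuadraticMap.map_smul, hadd, hsm, QuadraticMap.polar_smul_right, hef, hgk, hge, hgf, hke, hkf, smul_eq_mul, gS]
    simp only [Matrix.cons_val_zero, Matrix.cons_val_one, Matrix.cons_val]
    rcases z2 (x 0) with h0 | h0 <;> rcases z2 (x 1) with h1 | h1 <;> rcases z2 (x 2) with h2 | h2 <;>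
      rcases z2 (x 3) with h3 | h3 <;> simp [h0, h1, h2, h3] <;> ring
  have hT₀inj : Function.Injective T₀ := by
    rw [injective_iff_map_eq_zero]
    intro x hx
    have hp : ∀ y, QuadraticMap.polar q (T₀ x) y = 0 := fun y => by rw [hx, QuadraticMap.polar_zero_left]
    have h1 := hp f; have h0 := hp e; have h3 := hp k; have h2 := hp g
    simp only [hT₀, hadd, hsm, polar_self, hsymm f e, hef, hgk, hsymm k g, hsymm g e, hsymm g f, hsymm k e, hsymm k f, hge, hgf, hke, hkf] at h0 h1 h2 h3
    simp at h0 h1 h2 h3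
    funext i
    fin_cases i <;> simp [h0, h1, h2, h3]
  rcases cases_form ![q e, q f, q g, q k] with ⟨u, v', hu, hv, huv, qu, qv, quv⟩ | ⟨hinj, hform⟩
  · refine Or.inl ⟨T₀ u, T₀ v', fun h => hu (hT₀inj (h.trans (map_zero T₀).symm)), fun h => hv (hT₀inj (h.trans (map_zero T₀).symm)),
      fun h => huv (hT₀inj h), by rw [hq, qu], by rw [hq, qv], ?_⟩
    rw [← map_add, hq, quv]
  · let T₁ : V4 →ₗ[ZMod 2] V4 := Fintype.linearCombination (ZMod 2) (cols ![q e, q f, q g, q k])
    have hT₁ : ∀ x, T₁ x = comb (cols ![q e, q f, q g, q k]) x := fun x => by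
      simp only [T₁, Fintype.linearCombination_apply, Fin.sum_univ_four]
      rfl
    have hi : Function.Injective (T₀.comp T₁) := hT₀inj.comp (by
      rw [injective_iff_map_eq_zero]
      exact fun x hx => hinj x ((hT₁ x).symm.trans hx))
    refine Or.inr ⟨LinearEquiv.ofInjectiveEndo _ hi, fun x => ?_⟩
    rw [show (LinearEquiv.ofInjectiveEndo _ hi) x = T₀ (T₁ x) from rfl, hq, hT₁, hform]

/-- Let P be an extraspecial 2-group of order 32 with no elementary abelian subgroup of order 8 (the central product of a dihedral and a quaternion group of order 8). Then the inner automorphism group of P has order 16 and the outer automorphism group Aut(P)/Inn(P) is isomorphic to the symmetric group of degree 5; in particular Aut(P) has order 1920. -/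
theorem result {P : Type*} [Group P] [Finite P]
    (hex : Cfsg.IsExtraspecial 2 P) (h32 : Nat.card P = 32)
    (hminus : ∀ A : Subgroup P, Cfsg.IsElementaryAbelian 2 A → Nat.card ↥A ≤ 4)
    [(MulAut.conj : P →* MulAut P).range.Normal] :
    Nat.card ↥(MulAut.conj : P →* MulAut P).range = 16 ∧ Nat.card (MulAut P) = 1920 ∧
      Nonempty ((MulAut P ⧸ (MulAut.conj : P →* MulAut P).range) ≃* Equiv.Perm (Fin 5)) := by

  classical
  haveI : Fact (Nat.Prime 2) := ⟨Nat.prime_two⟩
  obtain ⟨z, π, q, d⟩ := Spor.ExtraOut.exists_data (ι := Fin 4) hex (by rw [h32, Fintype.card_fin]; norm_num)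
  rcases exists_model q d.nd with ⟨u, v, hu, hv, huv, qu, qv, quv⟩ | ⟨T, hT⟩
  · exfalso
    obtain ⟨a, ha⟩ := d.surj (Multiplicative.ofAdd u)
    obtain ⟨b, hb⟩ := d.surj (Multiplicative.ofAdd v)
    have ha2 : a * a = 1 := by rw [d.sq, ha, toAdd_ofAdd, qu, Spor.ExtraOut.pw_zero]
    have hb2 : b * b = 1 := by rw [d.sq, hb, toAdd_ofAdd, qv, Spor.ExtraOut.pw_zero]
    have hab2 : a * b * (a * b) = 1 := by rw [d.sq, map_mul, ha, hb, ← ofAdd_add, toAdd_ofAdd, quv, Spor.ExtraOut.pw_zero]
    have hab : a * b = b * a := by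
      calc a * b = (a * b)⁻¹ := (inv_eq_of_mul_eq_one_left hab2).symm
        _ = b * a := by rw [mul_inv_rev, inv_eq_of_mul_eq_one_left ha2, inv_eq_of_mul_eq_one_left hb2]
    let W : Submodule (ZMod 2) (Fin 4 → ZMod 2) := Submodule.span (ZMod 2) {u, v}
    let A : Subgroup P := Subgroup.closure {z, a, b}
    have hAc : IsMulCommutative A := Subgroup.isMulCommutative_closure fun x hx y hy => by
      simp only [Set.mem_insert_iff, Set.mem_singleton_iff] at hx hy
      rcases hx with rfl | rfl | rfl <;> rcases hy with rfl | rfl | rfl <;>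
        first | rfl | exact hab | exact hab.symm | exact d.comm _ | exact (d.comm _).symm
    have hA : IsElementaryAbelian 2 A := ⟨hAc, fun x hx => by
      haveI := hAc
      induction hx using Subgroup.closure_induction with
      | mem y hy =>
        simp only [Set.mem_insert_iff, Set.mem_singleton_iff] at hy
        rw [pow_two]
        rcases hy with rfl | rfl | rfl
        · exact d.zz
        · exact ha2
        · exact hb2
      | one => exact one_pow 2
      | mul y w hy hw ey ew =>
        have hc : Commute y w := congrArg Subtype.val (mul_comm' (⟨y, hy⟩ : A) ⟨w, hw⟩)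
        rw [hc.mul_pow, ey, ew, one_mul]
      | inv y hy ey => rw [inv_pow, ey, inv_one]⟩
    have h4 := hminus A hA
    have hzA : z ∈ A := Subgroup.subset_closure (Or.inl rfl)
    have haA : a ∈ A := Subgroup.subset_closure (Or.inr (Or.inl rfl))
    have hbA : b ∈ A := Subgroup.subset_closure (Or.inr (Or.inr rfl))
    let S : Finset P := {1, z, a, b, a * b}
    have hπz : π z = 1 := (d.ker z).2 (Or.inr rfl)
    have hS : S.card = 5 := by
      have n1 : π a ≠ 1 := by rw [ha]; exact fun h => hu (ofAdd_eq_one.1 h)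
      have n2 : π b ≠ 1 := by rw [hb]; exact fun h => hv (ofAdd_eq_one.1 h)
      have n3 : π a ≠ π b := by rw [ha, hb]; exact fun h => huv (Multiplicative.ofAdd.injective h)
      have n4 : π (a * b) ≠ 1 := by
        rw [map_mul, ha, hb, ← ofAdd_add]
        intro h
        refine huv (funext fun i => ?_)
        have h' := congrFun (ofAdd_eq_one.1 h) i
        rw [Pi.add_apply, Pi.zero_apply] at h'
        rw [eq_neg_of_add_eq_zero_left h', ZMod.neg_eq_self_mod_two]
      have a1 : a ≠ 1 := fun e => n1 (by rw [e, map_one])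
      have az : a ≠ z := fun e => n1 (by rw [e, hπz])
      have b1 : b ≠ 1 := fun e => n2 (by rw [e, map_one])
      have bz : b ≠ z := fun e => n2 (by rw [e, hπz])
      have ab : a ≠ b := fun e => n3 (by rw [e])
      have c1 : a * b ≠ 1 := fun e => n4 (by rw [e, map_one])
      have cz : a * b ≠ z := fun e => n4 (by rw [e, hπz])
      have ca : a * b ≠ a := fun e => b1 (mul_eq_left.1 e)
      have cb : a * b ≠ b := fun e => a1 (mul_eq_right.1 e)
      simp only [S]
      rw [Finset.card_insert_of_notMem, Finset.card_insert_of_notMem, Finset.card_insert_of_notMem, Finset.card_pair]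
      · exact Ne.symm cb
      · simp [ab, Ne.symm ca]
      · simp [Ne.symm az, Ne.symm bz, Ne.symm cz]
      · simp [Ne.symm d.ne, Ne.symm a1, Ne.symm b1, Ne.symm c1]
    have h5 : S.card ≤ Nat.card A := by
      rw [← Fintype.card_coe, ← Nat.card_eq_fintype_card]
      refine Nat.card_le_card_of_injective (fun x : S => (⟨x.1, ?_⟩ : A)) fun x y e => Subtype.ext (congrArg (fun w : A => (w : P)) e)
      have hx := x.2
      simp only [S, Finset.mem_insert, Finset.mem_singleton] at hx
      rcases hx with e | e | e | e | e <;> rw [e]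
      exacts [one_mem _, hzA, haA, hbA, mul_mem haA hbA]
    omega
  · -- transport to the model
    let π' : P →* Multiplicative (Fin 4 → ZMod 2) :=
      (AddMonoidHom.toMultiplicative T.symm.toAddMonoidHom).comp π
    let q' : QuadraticForm (ZMod 2) (Fin 4 → ZMod 2) := q.comp (T : (Fin 4 → ZMod 2) →ₗ[ZMod 2] (Fin 4 → ZMod 2))
    have hπ' : ∀ x, (π' x).toAdd = T.symm (π x).toAdd := fun x => rfl
    have d' : Spor.ExtraOut.Data z π' q' :=
      { ne := d.ne
        zz := d.zz
        comm := d.comm
        surj := fun m => by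
          obtain ⟨x, hx⟩ := d.surj (Multiplicative.ofAdd (T m.toAdd))
          exact ⟨x, Multiplicative.toAdd.injective (by rw [hπ', hx, toAdd_ofAdd, LinearEquiv.symm_apply_apply])⟩
        ker := fun x => by
          rw [← d.ker, ← toAdd_eq_zero, hπ', LinearEquiv.map_eq_zero_iff, toAdd_eq_zero]
        sq := fun x => by
          rw [d.sq, hπ']
          show _ = Spor.ExtraOut.pw z (q (T (T.symm (π x).toAdd)))
          rw [LinearEquiv.apply_symm_apply]
        nd := by
          refine Classical.nondegenerate_of_separatingLeft _ fun u hu => ?_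
          refine T.map_eq_zero_iff.1 (d.nd.1 _ fun y => ?_)
          have := hu (T.symm y)
          simp only [q', QuadraticMap.polarBilin_comp, LinearMap.compl₁₂_apply, LinearEquiv.coe_coe, LinearEquiv.apply_symm_apply] at this
          exact this }
    obtain ⟨e₁⟩ := Spor.ExtraOut.out_equiv d'
    have hq' : (⇑q' : (Fin 4 → ZMod 2) → ZMod 2) = fM := funext fun x => hT x
    rw [hq'] at e₁
    obtain ⟨e₂⟩ := iso_perm
    have e := e₁.trans e₂
    have hinn : Nat.card ↥(MulAut.conj : P →* MulAut P).range = 16 := by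
      have h := Subgroup.card_mul_index (MulAut.conj : P →* MulAut P).ker
      rw [Subgroup.index_ker, h32] at h
      have hk : (MulAut.conj : P →* MulAut P).ker = Subgroup.center P := by
        ext x
        rw [MonoidHom.mem_ker, Subgroup.mem_center_iff]
        constructor
        · intro h g
          have := DFunLike.congr_fun h g
          rw [MulAut.conj_apply, MulAut.one_apply, mul_inv_eq_iff_eq_mul] at this
          exact this.symm
        · intro h
          ext g
          rw [MulAut.conj_apply, MulAut.one_apply, mul_inv_eq_iff_eq_mul, h]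
      rw [hk, hex.2] at h
      omega
    refine ⟨hinn, ?_, ⟨e⟩⟩
    rw [Subgroup.card_eq_card_quotient_mul_card_subgroup (MulAut.conj : P →* MulAut P).range, hinn,
      Nat.card_congr e.toEquiv, Nat.card_perm, Nat.card_fin]
    rfl

end Cfsg.Agent.S4413
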