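import Cfsg.Prelude
import Cfsg.Agent.Lib.Grp.Coprime
import Cfsg.Agent.Lib.Fus.ThompsonConj
-- import your own Cfsg.Agent.* helpers here

set_option autoImplicit false
open Cfsg

open scoped Pointwise commutatorElement

namespace Cfsg.Agent.S2983

/-- Let G be a finite group of characteristic p (C_G(O_p(G)) ≤ O_p(G)), T a Sylow p-subgroup and E a B(T)-block of G. If Q is a p-subgroup of G normalized by both B(T) and E, then Q normalizes E. -/
theorem result {G : Type*} [Group G] [Finite G] {p : ℕ} [Fact p.Prime] (hG : Subgroup.centralizer (Cfsg.pCore p G : Set G) ≤ Cfsg.pCore p G) (T : Sylow p G) (E : Subgroup G) (hE : Cfsg.IsBaumannBlock p (T : Subgroup G) E) (Q : Subgroup G) (hQ : IsPGroup p ↥Q) (hBQ : Cfsg.baumannSubgroupOf p (T : Subgroup G) ≤ Subgroup.normalizer (Q : Set G)) (hEQ : E ≤ Subgroup.normalizer (Q : Set G)) : Q ≤ Subgroup.normalizer (E : Set G) := by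
  classical
  obtain ⟨hodd, hcom, -, -, -⟩ := hE
  set B := Cfsg.baumannSubgroupOf p (T : Subgroup G) with hB
  set J := Cfsg.thompsonSubgroupOf p (T : Subgroup G) with hJ
  set W := Cfsg.omegaOne p (Cfsg.centerThompsonOf p (T : Subgroup G)) with hW
  have hBT : B ≤ (T : Subgroup G) := inf_le_left
  have hBp : IsPGroup p ↥B := T.2.to_le hBT
  have hJT : J ≤ (T : Subgroup G) := Fus.thompsonSubgroupOf_le p _
  have hWJ : W ≤ J ⊓ Subgroup.centralizer (J : Set G) := (Subgroup.closure_le _).mpr fun x hx => hx.1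
  have hJB : J ≤ B := le_inf hJT fun j hj => Subgroup.mem_centralizer_iff.mpr fun w hw =>
    ((Subgroup.mem_centralizer_iff.mp (hWJ hw).2) j hj).symm
  have hTJ : (T : Subgroup G) ≤ Subgroup.normalizer (J : Set G) := fun t ht => by
    refine Subgroup.mem_normalizer_fintype fun x hx => ?_
    have h := Fus.thompson_conj_eq T T.2 (g := t) hJT (by
      rintro _ ⟨y, hy, rfl⟩
      exact (T : Subgroup G).mul_mem ((T : Subgroup G).mul_mem ht (hJT hy)) ((T : Subgroup G).inv_mem ht))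
    exact h.le ⟨x, hx, rfl⟩
  have hRp : IsPGroup p ↥(B ⊔ Q) :=
    IsPGroup.to_sup_of_normal_right' hBp hQ hBQ
  have hQJ : Q ≤ Subgroup.normalizer (J : Set G) := fun q hq => by
    refine Subgroup.mem_normalizer_fintype fun x hx => ?_
    have hJR : J ≤ B ⊔ Q := hJB.trans le_sup_left
    have h := Fus.thompson_conj_eq T hRp (g := q) hJR (by
      rintro _ ⟨y, hy, rfl⟩
      exact (B ⊔ Q).mul_mem ((B ⊔ Q).mul_mem (le_sup_right (a := B) hq) (hJR hy))
        ((B ⊔ Q).inv_mem (le_sup_right (a := B) hq)))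
    exact h.le ⟨x, hx, rfl⟩
  have hRN : B ⊔ Q ≤ Subgroup.normalizer (J : Set G) := sup_le (hBT.trans hTJ) hQJ
  -- normalizing `J` gives normalizing the centralizer of `W`
  have hCn : ∀ n ∈ Subgroup.normalizer (J : Set G), ∀ x ∈ Subgroup.centralizer (W : Set G),
      n * x * n⁻¹ ∈ Subgroup.centralizer (W : Set G) := by
    intro n hn x hx
    have hWn : ∀ w ∈ W, n⁻¹ * w * n ∈ W := by
      intro w hw
      induction hw using Subgroup.closure_induction with
      | mem w hw =>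
        refine Subgroup.subset_closure ⟨⟨(Subgroup.mem_normalizer_iff''.mp hn w).mp hw.1.1,
          Subgroup.mem_centralizer_iff.mpr fun j hj => ?_⟩, ?_⟩
        · have hj' : n * j * n⁻¹ ∈ J := (Subgroup.mem_normalizer_iff.mp hn j).mp hj
          have e : (n * j * n⁻¹) * w = w * (n * j * n⁻¹) := Subgroup.mem_centralizer_iff.mp hw.1.2 _ hj'
          calc j * (n⁻¹ * w * n) = n⁻¹ * ((n * j * n⁻¹) * w) * n := by group
            _ = n⁻¹ * (w * (n * j * n⁻¹)) * n := by rw [e]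
            _ = n⁻¹ * w * n * j := by group
        · have h := conj_pow (a := n⁻¹) (b := w) (i := p)
          rw [inv_inv] at h
          rw [h, hw.2, mul_one, inv_mul_cancel]
      | one => simp
      | mul a b _ _ ha hb => simpa [mul_assoc] using W.mul_mem ha hb
      | inv a _ ha => simpa [mul_assoc] using W.inv_mem ha
    refine Subgroup.mem_centralizer_iff.mpr fun w hw => ?_
    have e : (n⁻¹ * w * n) * x = x * (n⁻¹ * w * n) := Subgroup.mem_centralizer_iff.mp hx _ (hWn w hw)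
    calc w * (n * x * n⁻¹) = n * ((n⁻¹ * w * n) * x) * n⁻¹ := by group
      _ = n * (x * (n⁻¹ * w * n)) * n⁻¹ := by rw [e]
      _ = n * x * n⁻¹ * w := by group
  have hRC : (B ⊔ Q) ⊓ Subgroup.centralizer (W : Set G) = B := by
    refine le_antisymm ?_ (le_inf le_sup_left inf_le_right)
    have hsyl : Fus.IsSylowOf p (T : Subgroup G) (Subgroup.normalizer (J : Set G)) :=
      ⟨hTJ, T.subtype hTJ, rfl⟩
    obtain ⟨n, hn, hle⟩ := hsyl.exists_conj_le hRp hRN
    have hle' : ((B ⊔ Q) ⊓ Subgroup.centralizer (W : Set G)).map (MulAut.conj n).toMonoidHom ≤ B := by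
      rintro _ ⟨x, hx, rfl⟩
      exact ⟨hle ⟨x, hx.1, rfl⟩, hCn n hn x hx.2⟩
    have hc : Nat.card ↥((B ⊔ Q) ⊓ Subgroup.centralizer (W : Set G)) ≤ Nat.card ↥B := by
      rw [← Fus.card_conjMap _ n]
      exact Subgroup.card_le_of_le hle'
    exact (Subgroup.eq_of_le_of_card_ge (le_inf le_sup_left inf_le_right) hc).ge
  have hQB : Q ≤ Subgroup.normalizer (B : Set G) := fun q hq => by
    refine Subgroup.mem_normalizer_fintype fun x hx => ?_
    rw [← hRC]
    exact ⟨(B ⊔ Q).mul_mem ((B ⊔ Q).mul_mem (le_sup_right (a := B) hq) (le_sup_left (b := Q) hx))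
      ((B ⊔ Q).inv_mem (le_sup_right (a := B) hq)), hCn q (hQJ hq) x hx.2⟩
  -- `Q` normalizes `E ⊔ B`, hence `O^p` of it
  set X := E ⊔ B with hX
  have hKX : E ≤ X := le_sup_left
  have hJX : B ≤ X := le_sup_right
  have hJK : B ≤ Subgroup.normalizer (E : Set G) :=
    le_trans (Grp.right_le_normalizer_commutator B E) (le_of_eq (by rw [hcom]))
  have hQ1 : X ≤ Subgroup.normalizer (Q : Set G) := sup_le hEQ hBQ
  have hconjU : ∀ g ∈ X, ∀ u ∈ X ⊓ Q, g * u * g⁻¹ ∈ X ⊓ Q := fun g hg u hu =>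
    ⟨X.mul_mem (X.mul_mem hg hu.1) (X.inv_mem hg), (Subgroup.mem_normalizer_iff.mp (hQ1 hg) u).mp hu.2⟩
  let D : Subgroup G :=
    { carrier := {g | g ∈ X ∧ ∀ q ∈ Q, g * q * g⁻¹ * q⁻¹ ∈ X ⊓ Q}
      one_mem' := ⟨X.one_mem, fun q _ => by simp⟩
      mul_mem' := by
        rintro a b ⟨ha, ha'⟩ ⟨hb, hb'⟩
        refine ⟨X.mul_mem ha hb, fun q hq => ?_⟩
        rw [show a * b * q * (a * b)⁻¹ * q⁻¹ = a * (b * q * b⁻¹ * q⁻¹) * a⁻¹ * (a * q * a⁻¹ * q⁻¹) by group]
        exact Subgroup.mul_mem _ (hconjU a ha _ (hb' q hq)) (ha' q hq)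
      inv_mem' := by
        rintro a ⟨ha, ha'⟩
        refine ⟨X.inv_mem ha, fun q hq => ?_⟩
        rw [show a⁻¹ * q * a⁻¹⁻¹ * q⁻¹ = a⁻¹ * (a * q * a⁻¹ * q⁻¹)⁻¹ * a⁻¹⁻¹ by group]
        exact hconjU _ (X.inv_mem ha) _ (Subgroup.inv_mem _ (ha' q hq)) }
  have hJD : B ≤ D := fun j hj => ⟨hJX hj, fun q hq => ⟨by
      rw [show j * q * j⁻¹ * q⁻¹ = j * (q * j⁻¹ * q⁻¹) by group]
      exact X.mul_mem (hJX hj) (hJX ((Subgroup.mem_normalizer_iff.mp (hQB hq) _).mp (B.inv_mem hj))),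
    Q.mul_mem ((Subgroup.mem_normalizer_iff.mp (hQ1 (hJX hj)) q).mp hq) (Q.inv_mem hq)⟩⟩
  have hDn : ∀ g ∈ X, ∀ d ∈ D, g * d * g⁻¹ ∈ D := fun g hg d hd => by
    refine ⟨X.mul_mem (X.mul_mem hg hd.1) (X.inv_mem hg), fun q hq => ?_⟩
    have hq' : g⁻¹ * q * g ∈ Q := (Subgroup.mem_normalizer_iff''.mp (hQ1 hg) q).mp hq
    rw [show g * d * g⁻¹ * q * (g * d * g⁻¹)⁻¹ * q⁻¹ = g * (d * (g⁻¹ * q * g) * d⁻¹ * (g⁻¹ * q * g)⁻¹) * g⁻¹ by group]
    exact hconjU g hg _ (hd.2 _ hq')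
  have hKD : E ≤ D := le_trans hcom.ge (Subgroup.commutator_le.mpr fun k hk j hj => by
    rw [commutatorElement_def]
    exact D.mul_mem (hDn k (hKX hk) j (hJD hj)) (D.inv_mem (hJD hj)))
  have hQX : ∀ q ∈ Q, ∀ g ∈ X, q * g * q⁻¹ ∈ X := by
    intro q hq g hg
    have h1 : g ∈ D := (sup_le hKD hJD) hg
    have h2 := (h1.2 q hq).1
    have h3 := X.mul_mem (X.inv_mem hg) h2
    simpa [mul_assoc] using X.inv_mem h3
  have hoddK : ∀ g ∈ X, Nat.Coprime (orderOf g) p → g ∈ E := by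
    intro g hg hgo
    haveI hn : (E.subgroupOf X).Normal :=
      Subgroup.normal_subgroupOf_of_le_normalizer (sup_le Subgroup.le_normalizer hJK)
    have hg' := hg
    rw [hX, ← SetLike.mem_coe, Subgroup.coe_mul_of_right_le_normalizer_left _ _ hJK] at hg'
    obtain ⟨k, hk, j, hj, hkj⟩ := hg'
    let q := QuotientGroup.mk' (E.subgroupOf X)
    have hqg : q ⟨g, hg⟩ = q ⟨j, hJX hj⟩ := by
      rw [show (⟨g, hg⟩ : X) = ⟨k, hKX hk⟩ * ⟨j, hJX hj⟩ from Subtype.ext hkj.symm, map_mul,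
        show q ⟨k, hKX hk⟩ = 1 from (QuotientGroup.eq_one_iff _).mpr hk, one_mul]
    have h1 : orderOf (q ⟨g, hg⟩) ∣ orderOf g := by
      refine (orderOf_map_dvd q _).trans ?_
      rw [Subgroup.orderOf_mk]
    obtain ⟨i, hi⟩ := IsPGroup.iff_orderOf.mp hBp ⟨j, hj⟩
    rw [Subgroup.orderOf_mk] at hi
    have h2 : orderOf (q ⟨g, hg⟩) ∣ p ^ i := by
      rw [hqg]
      refine (orderOf_map_dvd q _).trans ?_
      rw [Subgroup.orderOf_mk, hi]
    have h3 : q ⟨g, hg⟩ = 1 := orderOf_eq_one_iff.mp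
      (Nat.eq_one_of_dvd_coprimes (Nat.Coprime.pow_right i hgo) h1 h2)
    exact Subgroup.mem_subgroupOf.mp ((QuotientGroup.eq_one_iff _).mp h3)
  have hgen : E ≤ Subgroup.closure {g : G | g ∈ E ∧ Nat.Coprime (orderOf g) p} := by
    conv_lhs => rw [← hodd]
    unfold Cfsg.pResidualOf Cfsg.pResidual
    rw [MonoidHom.map_closure]
    refine Subgroup.closure_mono ?_
    rintro _ ⟨g, hgo, rfl⟩
    exact ⟨g.2, by rw [Subgroup.coe_subtype, Subgroup.orderOf_coe]; exact hgo⟩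
  intro q hq
  refine Subgroup.mem_normalizer_fintype fun x hx => ?_
  have : E.map (MulAut.conj q).toMonoidHom ≤ E := by
    refine (Subgroup.map_mono hgen).trans ?_
    rw [MonoidHom.map_closure]
    refine (Subgroup.closure_le _).mpr ?_
    rintro _ ⟨g, ⟨hgK, hgo⟩, rfl⟩
    exact hoddK _ (hQX q hq g (hKX hgK)) (by rwa [MulEquiv.coe_toMonoidHom, MulEquiv.orderOf_eq])
  exact this ⟨x, hx, rfl⟩

end Cfsg.Agent.S2983
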