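import Cfsg.Statements.S3559
import Mathlib
-- import your own Cfsg.Agent.* helpers here

set_option autoImplicit false
open Cfsg

namespace Cfsg.Agent.S3559

section
variable {G Ω : Type*} [Group G] [MulAction G Ω] (R : Subgroup G) (a : Ω)

/-- The point stabilizer carries `r` to `r'`. -/
def Carries (r r' : R) : Prop := ∃ h : G, h • a = a ∧ h • ((r : G) • a) = (r' : G) • a

/-- Constant on the orbits of the point stabilizer. -/
def Invar {β : Type*} (f : R → β) : Prop := ∀ r r' : R, Carries R a r r' → f r' = f r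

variable {R a}

theorem carries_refl (r : R) : Carries R a r r := ⟨1, one_smul G a, one_smul G _⟩

theorem carries_trans {r s t : R} (h₁ : Carries R a r s) (h₂ : Carries R a s t) : Carries R a r t := by
  obtain ⟨g, hg, hg'⟩ := h₁
  obtain ⟨g₂, hh, hh'⟩ := h₂
  exact ⟨g₂ * g, by rw [mul_smul, hg, hh], by rw [mul_smul, hg', hh']⟩

theorem carries_symm {r s : R} (h : Carries R a r s) : Carries R a s r := by
  obtain ⟨g, hg, hg'⟩ := h
  exact ⟨g⁻¹, by rw [inv_smul_eq_iff, hg], by rw [inv_smul_eq_iff, hg']⟩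

theorem carries_inv {r s : R} (h : Carries R a r s) : Carries R a r⁻¹ s⁻¹ := by
  obtain ⟨g, hg, hg'⟩ := h
  refine ⟨(s : G)⁻¹ * g * r, ?_, ?_⟩
  · rw [mul_smul, mul_smul, hg', inv_smul_smul]
  · rw [Subgroup.coe_inv, Subgroup.coe_inv, mul_smul, mul_smul, smul_inv_smul, hg]

/-- A carried product splits along the carried first factor. -/
theorem carries_mul (hbij : Function.Bijective fun r : R => (r : G) • a) {s r r' : R} {h : G} (hh : h • a = a)
    (hr : h • ((r : G) • a) = (r' : G) • a) :
    ∃ s' : R, h • ((s : G) • a) = (s' : G) • a ∧ Carries R a (s⁻¹ * r) (s'⁻¹ * r') := by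
  obtain ⟨s', hs'⟩ := hbij.2 (h • ((s : G) • a))
  have hs'' : (s' : G) • a = h • ((s : G) • a) := hs'
  refine ⟨s', hs''.symm, (s' : G)⁻¹ * h * s, ?_, ?_⟩
  · rw [mul_smul, mul_smul, ← hs'', inv_smul_smul]
  · rw [Subgroup.coe_mul, Subgroup.coe_mul, Subgroup.coe_inv, Subgroup.coe_inv, mul_smul, mul_smul, ← mul_smul (s : G),
      mul_inv_cancel_left, hr, mul_smul]

theorem invar_conv [Fintype R] {β : Type*} [CommSemiring β] (hbij : Function.Bijective fun r : R => (r : G) • a)
    {f g : R → β} (hf : Invar R a f) (hg : Invar R a g) :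
    Invar R a fun r => ∑ s, f s * g (s⁻¹ * r) := by
  rintro r r' ⟨h, hh, hr⟩
  have key : ∀ s : R, ∃ s' : R, h • ((s : G) • a) = (s' : G) • a ∧ Carries R a (s⁻¹ * r) (s'⁻¹ * r') :=
    fun s => carries_mul hbij hh hr
  choose σ hσ hσc using key
  have hσb : Function.Bijective σ := Finite.injective_iff_bijective.mp fun s t e => hbij.1 <| by
    have := congrArg (fun w : R => (w : G) • a) e
    simp only [← hσ] at this
    exact smul_left_cancel h this
  refine (Fintype.sum_bijective σ hσb (fun s => f s * g (s⁻¹ * r)) (fun s => f s * g (s⁻¹ * r')) fun s => ?_).symm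
  show f s * g (s⁻¹ * r) = f (σ s) * g ((σ s)⁻¹ * r')
  rw [hf s (σ s) ⟨h, hh, hσ s⟩, hg _ _ (hσc s)]

/-- In a primitive group an invariant set generates everything or lies in the trivial subgroup. -/
theorem closure_eq_top [Finite R] [MulAction.IsPretransitive G Ω] (hbij : Function.Bijective fun r : R => (r : G) • a)
    (hco : IsCoatom (MulAction.stabilizer G a)) (Y : Set R) (hY : ∀ r r', Carries R a r r' → r ∈ Y → r' ∈ Y)
    (y : R) (hy : y ∈ Y) (hy1 : y ≠ 1) : Subgroup.closure Y = ⊤ := by
  set U := Subgroup.closure Y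
  have hU : ∀ r r', Carries R a r r' → r ∈ U → r' ∈ U := by
    intro r r' hc hr
    rw [← Subgroup.mem_toSubmonoid, Subgroup.closure_toSubmonoid_of_finite] at hr
    induction hr using Submonoid.closure_induction generalizing r' with
    | mem x hx => exact Subgroup.subset_closure (hY x r' hc hx)
    | one =>
      obtain ⟨h, hh, he⟩ := hc
      rw [Subgroup.coe_one, one_smul, hh] at he
      have : r' = 1 := hbij.1 (show (r' : G) • a = ((1 : R) : G) • a by rw [Subgroup.coe_one, one_smul, ← he])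
      rw [this]; exact U.one_mem
    | mul s t hs ht ihs iht =>
      obtain ⟨h, hh, he⟩ := hc
      obtain ⟨s', hs', hc'⟩ := carries_mul (s := s) hbij hh he
      rw [inv_mul_cancel_left] at hc'
      have := U.mul_mem (ihs s' ⟨h, hh, hs'⟩) (iht _ hc')
      rwa [mul_inv_cancel_left] at this
  let B : Set Ω := (fun r : R => (r : G) • a) '' (U : Set R)
  have hBfin : B.Finite := Set.toFinite _
  let L : Subgroup G :=
    { carrier := {g | ∀ ω, g • ω ∈ B ↔ ω ∈ B}
      one_mem' := fun ω => by rw [one_smul]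
      mul_mem' := fun {g g'} hg hg' ω => by rw [mul_smul, hg, hg']
      inv_mem' := fun {g} hg ω => by rw [← hg, smul_inv_smul] }
  have hHL : MulAction.stabilizer G a ≤ L := by
    have key : ∀ g : G, g • a = a → ∀ ω ∈ B, g • ω ∈ B := by
      rintro g hg _ ⟨r, hr, rfl⟩
      obtain ⟨r', hr'⟩ := hbij.2 (g • ((r : G) • a))
      exact ⟨r', hU r r' ⟨g, hg, hr'.symm⟩ hr, hr'⟩
    intro g hg ω
    refine ⟨fun h => ?_, key g hg ω⟩
    have := key g⁻¹ (by rw [inv_smul_eq_iff]; exact (MulAction.mem_stabilizer_iff.mp hg).symm) _ h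
    rwa [inv_smul_smul] at this
  have hyL : (y : G) ∈ L := by
    intro ω
    constructor
    · rintro ⟨r, hr, he⟩
      refine ⟨y⁻¹ * r, U.mul_mem (U.inv_mem (Subgroup.subset_closure hy)) hr, ?_⟩
      have he' : (r : G) • a = (y : G) • ω := he
      show ((y⁻¹ * r : R) : G) • a = ω
      rw [Subgroup.coe_mul, Subgroup.coe_inv, mul_smul, he', inv_smul_smul]
    · rintro ⟨r, hr, rfl⟩
      exact ⟨y * r, U.mul_mem (Subgroup.subset_closure hy) hr, by simp [mul_smul]⟩
  have hLtop : L = ⊤ := hco.2 L (lt_of_le_of_ne hHL fun e => hy1 (hbij.1 (by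
    rw [← e] at hyL
    show (y : G) • a = ((1 : R) : G) • a
    rw [Subgroup.coe_one, one_smul]; exact hyL)))
  refine (Subgroup.eq_top_iff' U).mpr fun r => ?_
  obtain ⟨r', hr', he⟩ : (r : G) • a ∈ B := ((hLtop ▸ Subgroup.mem_top (r : G) : (r : G) ∈ L) a).mpr
    ⟨1, U.one_mem, by simp⟩
  rw [← hbij.1 he]; exact hr'

/-- A union of orbits containing an element outside the kernel of the `p`-th power map is a union of kernel cosets there. -/
theorem kernel_coset [Finite R] [MulAction.IsPretransitive G Ω] [IsCyclic R]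
    (hbij : Function.Bijective fun r : R => (r : G) • a) (hco : IsCoatom (MulAction.stabilizer G a))
    (p : ℕ) [Fact p.Prime] (hpn : p ∣ Nat.card R) (X : Set R) (hX : ∀ r r', Carries R a r r' → r ∈ X → r' ∈ X)
    (x : R) (hx : x ∈ X) (hxp : x ^ p ≠ 1) (k : R) (hk : k ^ p = 1) : x * k ∈ X := by
  classical
  letI : CommGroup R := IsCyclic.commGroup
  haveI := Fintype.ofFinite R
  have hp := Fact.out (p := p.Prime)
  let F : MonoidAlgebra (ZMod p) R := ∑ z ∈ Finset.univ.filter (· ∈ X), MonoidAlgebra.single z 1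
  have hF : ∀ r, F.coeff r = if r ∈ X then 1 else 0 := fun r => by
    simp [F, Finsupp.finset_sum_apply, Finsupp.single_apply]
  have hinv : Invar R a (fun r => F.coeff r) := fun r r' h => by
    simp only []
    rw [hF, hF]
    by_cases hr : r ∈ X
    · rw [if_pos hr, if_pos (hX r r' h hr)]
    · rw [if_neg hr, if_neg fun e => hr (hX r' r (carries_symm h) e)]
  have hmul : ∀ A B : MonoidAlgebra (ZMod p) R, ∀ r, (A * B).coeff r = ∑ s, A.coeff s * B.coeff (s⁻¹ * r) := fun A B r => by
    rw [MonoidAlgebra.coeff_mul_apply_left, Finsupp.sum_fintype]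
    intro s; rw [zero_mul]
  have hpow : ∀ n : ℕ, Invar R a (fun r => (F ^ (n + 1)).coeff r) := by
    intro n
    induction n with
    | zero => simpa using hinv
    | succ n ih =>
      intro r r' h
      simp only []
      rw [pow_succ, hmul, hmul]
      exact invar_conv hbij ih hinv r r' h
  haveI : ExpChar (MonoidAlgebra (ZMod p) R) p := by
    haveI : CharP (MonoidAlgebra (ZMod p) R) p := charP_of_injective_algebraMap
      (RingHom.injective (algebraMap (ZMod p) (MonoidAlgebra (ZMod p) R))) p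
    exact ExpChar.prime hp
  have hFp : ∀ y : R, (F ^ p).coeff y = ((Finset.univ.filter fun z => z ∈ X ∧ z ^ p = y).card : ZMod p) := by
    intro y
    rw [sum_pow_char]
    simp only [MonoidAlgebra.single_pow, one_pow]
    simp [Finsupp.finset_sum_apply, Finsupp.single_apply, Finset.filter_filter]
  by_contra hk'
  let Y : Set R := {y | (F ^ p).coeff y ≠ 0}
  have hY : ∀ r r', Carries R a r r' → r ∈ Y → r' ∈ Y := fun r r' h hr => by
    have := hpow (p - 1) r r' h
    rw [Nat.sub_add_cancel hp.one_le] at this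
    simp only [] at this
    show (F ^ p).coeff r' ≠ 0
    rw [this]; exact hr
  have hyY : x ^ p ∈ Y := by
    show (F ^ p).coeff (x ^ p) ≠ 0
    rw [hFp, Ne, ZMod.natCast_eq_zero_iff]
    refine fun hd => absurd (Nat.le_of_dvd (Finset.card_pos.mpr ⟨x, by simp [hx]⟩) hd) (not_le.mpr ?_)
    have hsub : (Finset.univ.filter fun z => z ∈ X ∧ z ^ p = x ^ p) ⊆
        ((Finset.univ.filter fun k : R => k ^ p = 1).image (x * ·)).erase (x * k) := by
      intro z hz
      obtain ⟨-, hzX, hzp⟩ := Finset.mem_filter.mp hz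
      refine Finset.mem_erase.mpr ⟨fun e => hk' (e ▸ hzX), Finset.mem_image.mpr ⟨x⁻¹ * z, ?_, mul_inv_cancel_left x z⟩⟩
      simp [mul_pow, hzp]
    refine lt_of_le_of_lt (Finset.card_le_card hsub) ?_
    rw [Finset.card_erase_of_mem (Finset.mem_image.mpr ⟨k, by simp [hk], rfl⟩), Finset.card_image_of_injective _ (mul_right_injective x)]
    have := IsCyclic.card_pow_eq_one_le (α := R) hp.pos
    have := hp.pos
    omega
  have htop := closure_eq_top hbij hco Y hY _ hyY hxp
  have hle : Subgroup.closure Y ≤ (powMonoidHom p : R →* R).range := by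
    rw [Subgroup.closure_le]
    intro y hy
    by_contra h
    refine hy ?_
    rw [hFp, Finset.filter_eq_empty_iff.mpr, Finset.card_empty, Nat.cast_zero]
    rintro z - ⟨-, hz⟩
    exact h ⟨z, hz⟩
  rw [htop, top_le_iff, MonoidHom.range_eq_top] at hle
  obtain ⟨u, hu⟩ := exists_prime_orderOf_dvd_card' (G := R) p hpn
  have := Finite.injective_iff_surjective.mpr hle
    (show (powMonoidHom p : R →* R) u = (powMonoidHom p : R →* R) 1 by
      simp [← hu, pow_orderOf_eq_one])
  rw [this, orderOf_one] at hu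
  exact hp.one_lt.ne hu

end

/-- Let G act faithfully and transitively on a finite set whose number of points n ≥ 2 is not a prime power, and suppose G has a cyclic subgroup acting regularly (transitively with trivial point stabilizers). Then G is imprimitive or doubly transitive. -/
theorem result {G Ω : Type*} [Group G] [Finite G] [MulAction G Ω] [FaithfulSMul G Ω] [Finite Ω]
    (htrans : MulAction.IsPretransitive G Ω) (hn : 2 ≤ Nat.card Ω) (hnp : ¬ IsPrimePow (Nat.card Ω))
    (C : Subgroup G) (hcyc : IsCyclic ↥C) (hC : MulAction.IsPretransitive ↥C Ω ∧ ∀ a : Ω, MulAction.stabilizer ↥C a = ⊥) :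
    ¬ MulAction.IsPreprimitive G Ω ∨ MulAction.IsMultiplyPretransitive G Ω 2 := by
  classical
  refine or_iff_not_imp_left.mpr fun hP => ?_
  rw [not_not] at hP
  haveI := hP
  haveI := htrans
  haveI := hcyc
  haveI : Nontrivial Ω := Finite.one_lt_card_iff_nontrivial.mp hn
  obtain ⟨a⟩ : Nonempty Ω := inferInstance
  have hco : IsCoatom (MulAction.stabilizer G a) := MulAction.IsPreprimitive.isCoatom_stabilizer_of_isPreprimitive G a
  haveI := hC.1
  have hbij : Function.Bijective fun r : C => (r : G) • a := by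
    refine ⟨fun r s h => ?_, fun ω => MulAction.exists_smul_eq C a ω⟩
    have h' : (r : G) • a = (s : G) • a := h
    have : s⁻¹ * r ∈ MulAction.stabilizer C a := by
      show ((s⁻¹ * r : C) : G) • a = a
      rw [Subgroup.coe_mul, Subgroup.coe_inv, mul_smul, h', inv_smul_smul]
    rw [hC.2 a, Subgroup.mem_bot, inv_mul_eq_one] at this
    exact this.symm
  have hcard : Nat.card C = Nat.card Ω := Nat.card_eq_of_bijective _ hbij
  obtain ⟨p, hp, hpn⟩ := Nat.exists_prime_and_dvd (n := Nat.card Ω) (by omega)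
  obtain ⟨q, hq, hqn, hqp⟩ : ∃ q, q.Prime ∧ q ∣ Nat.card Ω ∧ q ≠ p := by
    by_contra h
    push Not at h
    refine hnp ?_
    rw [Nat.eq_prime_pow_of_unique_prime_dvd (by omega) (fun {d} hd hdn => h d hd hdn)]
    refine hp.isPrimePow.pow ?_
    intro h0
    have := Nat.eq_prime_pow_of_unique_prime_dvd (n := Nat.card Ω) (p := p) (by omega) (fun {d} hd hdn => h d hd hdn)
    rw [h0, pow_zero] at this
    omega
  haveI := Fact.mk hp
  haveI := Fact.mk hq
  letI : CommGroup C := IsCyclic.commGroup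
  obtain ⟨u0, hu0⟩ := exists_prime_orderOf_dvd_card' (G := C) p (hcard ▸ hpn)
  obtain ⟨v0, hv0⟩ := exists_prime_orderOf_dvd_card' (G := C) q (hcard ▸ hqn)
  have hu01 : u0 ≠ 1 := fun e => by rw [e, orderOf_one] at hu0; exact hp.one_lt.ne hu0
  have hv01 : v0 ≠ 1 := fun e => by rw [e, orderOf_one] at hv0; exact hq.one_lt.ne hv0
  have hu0p : u0 ^ p = 1 := by rw [← hu0, pow_orderOf_eq_one]
  have hv0q : v0 ^ q = 1 := by rw [← hv0, pow_orderOf_eq_one]
  have hndiv : ∀ {w : C} {r s : ℕ}, r.Prime → s.Prime → r ≠ s → w ≠ 1 → w ^ r = 1 → w ^ s ≠ 1 := by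
    intro w r s hr hs hrs hw h1 h2
    refine hw (orderOf_eq_one_iff.mp (Nat.dvd_one.mp ?_))
    rw [← (Nat.coprime_primes hr hs).mpr hrs]
    exact Nat.dvd_gcd (orderOf_dvd_of_pow_eq_one h1) (orderOf_dvd_of_pow_eq_one h2)
  -- small elements share an orbit
  have hsmall : ∀ u v : C, u ≠ 1 → u ^ p = 1 → v ≠ 1 → v ^ q = 1 → Carries C a u v := by
    intro u v hu hup hv hvq
    let X : Set C := {r | Carries C a (u * v) r}
    have hX : ∀ r r', Carries C a r r' → r ∈ X → r' ∈ X := fun r r' h hr => carries_trans hr h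
    have h1 : (u * v) ^ p ≠ 1 := by rw [mul_pow, hup, one_mul]; exact hndiv hq hp hqp hv hvq
    have h2 : (u * v) ^ q ≠ 1 := by rw [mul_pow, hvq, mul_one]; exact hndiv hp hq hqp.symm hu hup
    have hv' := kernel_coset hbij hco p (hcard ▸ hpn) X hX (u * v) (carries_refl _) h1 u⁻¹ (by rw [inv_pow, hup, inv_one])
    have hu' := kernel_coset hbij hco q (hcard ▸ hqn) X hX (u * v) (carries_refl _) h2 v⁻¹ (by rw [inv_pow, hvq, inv_one])
    rw [mul_inv_cancel_right] at hu'
    rw [mul_comm u v, mul_inv_cancel_right] at hv'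
    exact carries_trans (carries_symm hu') hv'
  have hall : ∀ x : C, x ≠ 1 → Carries C a u0 x := by
    intro x hx
    by_contra hne
    let X : Set C := {r | Carries C a x r}
    have hX : ∀ r r', Carries C a r r' → r ∈ X → r' ∈ X := fun r r' h hr => carries_trans hr h
    have h1X : (1 : C) ∉ X := by
      rintro ⟨h, hh, he⟩
      rw [Subgroup.coe_one, one_smul] at he
      have : (x : G) • a = a := smul_left_cancel h (he.trans hh.symm)
      exact hx (hbij.1 (show (x : G) • a = ((1 : C) : G) • a by rw [Subgroup.coe_one, one_smul, this]))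
    have hxp : ∀ y ∈ X, y ^ p ≠ 1 := fun y hy h =>
      hne (carries_trans (carries_trans (hsmall u0 v0 hu01 hu0p hv01 hv0q)
        (carries_symm (hsmall y v0 (fun e => h1X (e ▸ hy)) h hv01 hv0q))) (carries_symm hy))
    haveI := Fintype.ofFinite C
    let f : C → ℕ := fun s => if s⁻¹ ∈ X then 1 else 0
    let g : C → ℕ := fun s => if s ∈ X then 1 else 0
    have hg : Invar C a g := fun r r' h => by
      simp only [g]
      exact if_congr ⟨hX r' r (carries_symm h), hX r r' h⟩ rfl rfl
    have hf : Invar C a f := fun r r' h => hg _ _ (carries_inv h)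
    let c : C → ℕ := fun r => ∑ s, f s * g (s⁻¹ * r)
    have hc : Invar C a c := invar_conv hbij hf hg
    have hfull : ∀ r, c r = c 1 ↔ ∀ y ∈ X, y * r ∈ X := by
      intro r
      have hle : ∀ s ∈ (Finset.univ : Finset C), f s * g (s⁻¹ * r) ≤ f s * g (s⁻¹ * 1) := fun s _ => by
        simp only [f, g, mul_one]; split_ifs <;> simp
      rw [show c r = c 1 ↔ _ from Finset.sum_eq_sum_iff_of_le hle]
      constructor
      · intro h y hy
        have := h y⁻¹ (Finset.mem_univ _)
        simp only [f, g, mul_one, inv_inv, if_pos hy, one_mul] at this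
        by_contra hyr
        rw [if_neg hyr] at this
        exact zero_ne_one this
      · intro h s _
        simp only [f, g, mul_one]
        by_cases hs : s⁻¹ ∈ X
        · rw [if_pos hs, if_pos (h _ hs)]
        · rw [if_neg hs, zero_mul, zero_mul]
    let St : Set C := {r | ∀ y ∈ X, y * r ∈ X}
    have hSt : ∀ r r', Carries C a r r' → r ∈ St → r' ∈ St := fun r r' h hr =>
      (hfull r').mp ((hc r r' h).trans ((hfull r).mpr hr))
    have htop := closure_eq_top hbij hco St hSt u0
      (fun y hy => kernel_coset hbij hco p (hcard ▸ hpn) X hX y hy (hxp y hy) u0 hu0p) hu01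
    have hStU : ∀ r : C, r ∈ St := by
      intro r
      have hr : r ∈ Submonoid.closure St := by
        rw [← Subgroup.closure_toSubmonoid_of_finite, htop]; trivial
      induction hr using Submonoid.closure_induction with
      | mem r hr => exact hr
      | one => intro y hy; rwa [mul_one]
      | mul s t _ _ hs ht => intro y hy; rw [← mul_assoc]; exact ht _ (hs y hy)
    exact h1X (by simpa using hStU x⁻¹ x (carries_refl x))
  rw [MulAction.is_two_pretransitive_iff]
  intro w₁ w₂ w₃ w₄ h12 h34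
  obtain ⟨g₁, hg₁⟩ := MulAction.exists_smul_eq G w₁ a
  obtain ⟨g₂, hg₂⟩ := MulAction.exists_smul_eq G w₃ a
  obtain ⟨r₁, hr₁⟩ := hbij.2 (g₁ • w₂)
  obtain ⟨r₂, hr₂⟩ := hbij.2 (g₂ • w₄)
  have hne1 : ∀ (r : C) (g : G) (x y : Ω), g • x = a → (r : G) • a = g • y → x ≠ y → r ≠ 1 := by
    rintro r g x y h h' hxy rfl
    rw [Subgroup.coe_one, one_smul] at h'
    exact hxy (smul_left_cancel g (h.trans h'))
  obtain ⟨h, hh, he⟩ := carries_trans (carries_symm (hall r₁ (hne1 r₁ g₁ w₁ w₂ hg₁ hr₁ h12)))
    (hall r₂ (hne1 r₂ g₂ w₃ w₄ hg₂ hr₂ h34))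
  have hr₁' : (r₁ : G) • a = g₁ • w₂ := hr₁
  have hr₂' : (r₂ : G) • a = g₂ • w₄ := hr₂
  rw [hr₁', hr₂'] at he
  refine ⟨g₂⁻¹ * h * g₁, ?_, ?_⟩
  · rw [mul_smul, mul_smul, hg₁, hh, ← hg₂, inv_smul_smul]
  · rw [mul_smul, mul_smul, he, inv_smul_smul]

end Cfsg.Agent.S3559
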