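import Cfsg.Statements.S3972
import Mathlib
import Cfsg.Agent.Lib.Perm.SchurPrimePower


set_option autoImplicit false
open Cfsg
open scoped Pointwise

namespace Cfsg.Agent.S3972

/-- Let `p` be a prime, `m ≥ 2`, and `G` a transitive but not doubly transitive permutation group on `p ^ m` points containing a permutation of order `p ^ m` (necessarily a full cycle). Then `G` is imprimitive, and the normal closure in `G` of the `p ^ (m - 1)`-th power of that permutation is an intransitive normal subgroup. -/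
theorem result {Ω : Type*} [Fintype Ω] [DecidableEq Ω] (p m : ℕ) (hp : p.Prime) (hm : 2 ≤ m) (hΩ : Fintype.card Ω = p ^ m) (G : Subgroup (Equiv.Perm Ω)) (htr : MulAction.IsPretransitive G Ω) (h2 : ¬ MulAction.IsMultiplyPretransitive G Ω 2) (g : G) (hg : orderOf g = p ^ m) : ¬ MulAction.IsPreprimitive G Ω ∧ ¬ MulAction.IsPretransitive (Subgroup.normalClosure ({g ^ (p ^ (m - 1))} : Set G)) Ω := by
  classical
  haveI := htr
  haveI := Fact.mk hp
  set n := p ^ (m - 1) with hn
  have hP : n * p = p ^ m := by rw [hn, ← pow_succ]; congr 1; omega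
  have hgn : g ^ n ≠ 1 := fun h => by
    have := Nat.le_of_dvd (pow_pos hp.pos _) (orderOf_dvd_of_pow_eq_one h)
    rw [hg, ← hP] at this
    have := Nat.mul_le_mul_left n hp.two_le
    have : 0 < n := pow_pos hp.pos _
    omega
  obtain ⟨a, ha⟩ : ∃ a : Ω, g ^ n • a ≠ a := by
    by_contra h
    push Not at h
    exact hgn (eq_of_smul_eq_smul fun x => (h x).trans (one_smul G x).symm)
  set C := Subgroup.zpowers g with hCdef
  -- an element fixing `a` is trivial
  have hfree : ∀ c ∈ C, c • a = a → c = 1 := by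
    intro c hc hca
    obtain ⟨i, rfl⟩ := (isOfFinOrder_of_finite g).mem_powers_iff_mem_zpowers.mpr hc
    show g ^ i = 1
    rw [← orderOf_dvd_iff_pow_eq_one, hg]
    obtain ⟨k, hk, hgcd⟩ := (Nat.dvd_prime_pow hp).mp (Nat.gcd_dvd_right i (p ^ m))
    rcases hk.lt_or_eq with hlt | rfl
    · exfalso
      apply ha
      have hmem : g ^ Nat.gcd i (p ^ m) ∈ MulAction.stabilizer G a := by
        rw [← zpow_natCast, Nat.gcd_eq_gcd_ab, zpow_add, zpow_mul, zpow_mul, zpow_natCast, zpow_natCast,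
          ← hg, pow_orderOf_eq_one, one_zpow, mul_one]
        exact zpow_mem hca _
      rw [hgcd] at hmem
      have h2 : g ^ n ∈ MulAction.stabilizer G a := by
        rw [hn, show p ^ (m - 1) = p ^ k * p ^ (m - 1 - k) by rw [← pow_add]; congr 1; omega, pow_mul]
        exact pow_mem hmem _
      exact h2
    · exact hgcd ▸ Nat.gcd_dvd_left i (p ^ k)
  have hinj : Function.Injective fun r : C => (r : G) • a := by
    intro r s h
    have h1 : ((s : G)⁻¹ * r) • a = a := by
      have h' : (r : G) • a = (s : G) • a := h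
      rw [mul_smul, h', inv_smul_smul]
    exact Subtype.ext (inv_mul_eq_one.mp (hfree _ (mul_mem (inv_mem s.2) r.2) h1)).symm
  have hC : Nat.card C = p ^ m := by rw [hCdef, Nat.card_zpowers, hg]
  have hbij : Function.Bijective fun r : C => (r : G) • a :=
    (Nat.bijective_iff_injective_and_card _).mpr ⟨hinj, by rw [hC, Nat.card_eq_fintype_card, hΩ]⟩
  haveI : Nontrivial Ω := ⟨⟨_, _, ha⟩⟩
  have hnp : ¬ MulAction.IsPreprimitive G Ω := by
    intro hP'
    refine h2 ?_
    haveI := hP'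
    have hco : IsCoatom (MulAction.stabilizer G a) :=
      MulAction.IsPreprimitive.isCoatom_stabilizer_of_isPreprimitive G a
    rw [MulAction.is_two_pretransitive_iff]
    intro w₁ w₂ w₃ w₄ h12 h34
    obtain ⟨g₁, hg₁⟩ := MulAction.exists_smul_eq G w₁ a
    obtain ⟨g₂, hg₂⟩ := MulAction.exists_smul_eq G w₃ a
    obtain ⟨r₁, hr₁⟩ := hbij.2 (g₁ • w₂)
    obtain ⟨r₂, hr₂⟩ := hbij.2 (g₂ • w₄)
    have hne1 : ∀ (r : C) (g : G) (x y : Ω), g • x = a → (r : G) • a = g • y → x ≠ y → r ≠ 1 := by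
      rintro r g x y h h' hxy rfl
      rw [Subgroup.coe_one, one_smul] at h'
      exact hxy (smul_left_cancel g (h.trans h'))
    obtain ⟨h, hh, he⟩ := Cfsg.Agent.Perm.SchurPrimePower.carries_all hbij hco hm hC r₁ r₂
      (hne1 r₁ g₁ w₁ w₂ hg₁ hr₁ h12) (hne1 r₂ g₂ w₃ w₄ hg₂ hr₂ h34)
    have hr₁' : (r₁ : G) • a = g₁ • w₂ := hr₁
    have hr₂' : (r₂ : G) • a = g₂ • w₄ := hr₂
    rw [hr₁', hr₂'] at he
    refine ⟨g₂⁻¹ * h * g₁, ?_, ?_⟩
    · rw [mul_smul, mul_smul, hg₁, hh, ← hg₂, inv_smul_smul]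
    · rw [mul_smul, mul_smul, he, inv_smul_smul]
  refine ⟨hnp, fun hN => ?_⟩
  -- a block
  obtain ⟨B, haB, hB, hBne⟩ : ∃ B : Set Ω, a ∈ B ∧ MulAction.IsBlock G B ∧ ¬ MulAction.IsTrivialBlock B := by
    by_contra hcon
    push Not at hcon
    exact hnp (MulAction.IsPreprimitive.of_isTrivialBlock_base a fun {B} h1 h2 => hcon B h1 h2)
  simp only [MulAction.IsTrivialBlock, not_or] at hBne
  -- the small element fixes `B`
  have hgB : g ^ n • B = B := by
    obtain ⟨b, hb, hba⟩ : ∃ b ∈ B, b ≠ a := by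
      by_contra hcon
      push Not at hcon
      exact hBne.1 fun x hx y hy => (hcon x hx).trans (hcon y hy).symm
    obtain ⟨⟨c, hc⟩, hcb⟩ := hbij.2 b
    have hcb' : c • a = b := hcb
    have hcB : c • B = B := by
      by_contra hne
      exact Set.disjoint_left.mp (hB.disjoint_smul_of_ne hne) ⟨a, haB, hcb'⟩ hb
    have hcstab : c ∈ MulAction.stabilizer G B := hcB
    obtain ⟨i, rfl⟩ := (isOfFinOrder_of_finite g).mem_powers_iff_mem_zpowers.mpr hc
    obtain ⟨k, hk, hgcd⟩ := (Nat.dvd_prime_pow hp).mp (Nat.gcd_dvd_right i (p ^ m))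
    have hkm : k < m := by
      rcases hk.lt_or_eq with h | rfl
      · exact h
      · exfalso
        apply hba
        have h1 : g ^ i = 1 := by
          rw [← orderOf_dvd_iff_pow_eq_one, hg]; exact hgcd ▸ Nat.gcd_dvd_left i (p ^ k)
        rw [← hcb']
        show g ^ i • a = a
        rw [h1, one_smul]
    have hmem : g ^ Nat.gcd i (p ^ m) ∈ MulAction.stabilizer G B := by
      rw [← zpow_natCast, Nat.gcd_eq_gcd_ab, zpow_add, zpow_mul, zpow_mul, zpow_natCast, zpow_natCast,
        ← hg, pow_orderOf_eq_one, one_zpow, mul_one]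
      exact zpow_mem hcstab _
    rw [hgcd] at hmem
    have h2' : g ^ n ∈ MulAction.stabilizer G B := by
      rw [hn, show p ^ (m - 1) = p ^ k * p ^ (m - 1 - k) by rw [← pow_add]; congr 1; omega, pow_mul]
      exact pow_mem hmem _
    exact h2'
  let L : Subgroup G := ⨅ h : G, MulAction.stabilizer G (h • B)
  haveI : L.Normal := by
    refine ⟨fun l hl h => ?_⟩
    rw [Subgroup.mem_iInf] at hl ⊢
    intro k
    have h1 : l • ((h⁻¹ * k) • B) = (h⁻¹ * k) • B := hl _
    show (h * l * h⁻¹) • (k • B) = k • B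
    rw [mul_smul, mul_smul, ← mul_smul h⁻¹ k B, h1, mul_smul, smul_inv_smul]
  have hgL : g ^ n ∈ L := by
    rw [Subgroup.mem_iInf]
    intro k
    obtain ⟨⟨c, hc⟩, hck⟩ := hbij.2 (k • a)
    have hck' : c • a = k • a := hck
    have hkB : k • B = c • B := by
      by_contra hne
      have hne' : (c⁻¹ * k) • B ≠ B := fun e => hne (by rw [mul_smul, inv_smul_eq_iff] at e; exact e)
      refine Set.disjoint_left.mp (hB.disjoint_smul_of_ne hne') ⟨a, haB, ?_⟩ haB
      show (c⁻¹ * k) • a = a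
      rw [mul_smul, ← hck', inv_smul_smul]
    obtain ⟨i, rfl⟩ := Subgroup.mem_zpowers_iff.mp hc
    show g ^ n • (k • B) = k • B
    rw [hkB, ← mul_smul, ((Commute.refl g).pow_left n).zpow_right i |>.eq, mul_smul, hgB]
  apply hBne.2
  rw [Set.eq_univ_iff_forall]
  intro x
  obtain ⟨⟨l, hl⟩, hlx⟩ := MulAction.exists_smul_eq (Subgroup.normalClosure ({g ^ n} : Set G)) a x
  have hlL : l ∈ L := Subgroup.normalClosure_le_normal (Set.singleton_subset_iff.mpr hgL) hl
  rw [Subgroup.mem_iInf] at hlL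
  have hlB : l • ((1 : G) • B) = (1 : G) • B := hlL 1
  rw [one_smul] at hlB
  rw [← hlx]
  exact hlB ▸ Set.smul_mem_smul_set haB

end Cfsg.Agent.S3972
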