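import Cfsg.Statements.S3225
import Mathlib

set_option autoImplicit false
open Cfsg

namespace Cfsg.Agent.S3225

/-- Let G be a finite group of even order with no subgroup of index 2, S a Sylow 2-subgroup of G and M a subgroup of index 2 in S such that, for some n ≥ 1, every element of S outside M has order greater than 2^(n−1). Then every element of S of order 2ⁿ is conjugate in G to an element of M. -/
theorem result {G : Type*} [Group G] [Finite G] (hev : Even (Nat.card G))
    (hG : ∀ H : Subgroup G, H.index ≠ 2) (S : Sylow 2 G) (M : Subgroup G) (hMS : M ≤ (S : Subgroup G)) (hM : M.relIndex (S : Subgroup G) = 2)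
    (n : ℕ) (hn : 1 ≤ n) (hord : ∀ y ∈ (S : Subgroup G), y ∉ M → 2 ^ (n - 1) < orderOf y)
    (x : G) (hx : x ∈ (S : Subgroup G)) (hxn : orderOf x = 2 ^ n) :
    ∃ g : G, g * x * g⁻¹ ∈ M := by
  classical
  haveI : Fact (Nat.Prime 2) := ⟨Nat.prime_two⟩
  set T := (S : Subgroup G) with hT
  set M' := M.subgroupOf T with hM'
  have hidx : M'.index = 2 := hM
  haveI : M'.Normal := Subgroup.normal_of_index_eq_two hidx
  let ψ : T →* T ⧸ M' := QuotientGroup.mk' M'
  have hQ2 : Nat.card (T ⧸ M') = 2 := hidx
  haveI := isCyclic_of_prime_card hQ2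
  letI : CommGroup (T ⧸ M') := IsCyclic.commGroup
  let V : G →* T ⧸ M' := MonoidHom.transfer ψ
  have htriv : V x = 1 := by
    by_contra hne
    have hr : V.range = ⊤ := by
      rcases (Nat.dvd_prime Nat.prime_two).mp (hQ2 ▸ Subgroup.card_subgroup_dvd_card V.range) with h | h
      · exfalso
        rw [Subgroup.card_eq_one] at h
        exact hne (Subgroup.mem_bot.mp (h ▸ ⟨x, rfl⟩))
      · exact Subgroup.eq_top_of_card_eq _ (h.trans hQ2.symm)
    refine hG V.ker ?_
    rw [Subgroup.index_ker, hr, Subgroup.card_top, hQ2]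
  by_contra hcon
  push Not at hcon
  let _ := Fintype.ofFinite (Quotient (MulAction.orbitRel (Subgroup.zpowers x) (G ⧸ T)))
  let _ := Fintype.ofFinite (G ⧸ T)
  -- each orbit of odd length contributes the nontrivial element
  have hlen : ∀ q : G ⧸ T, Function.minimalPeriod (x • ·) q ∣ 2 ^ n := by
    intro q
    refine Function.IsPeriodicPt.minimalPeriod_dvd ?_
    show (x • ·)^[2 ^ n] q = q
    rw [smul_iterate, ← hxn, pow_orderOf_eq_one]; exact one_smul G q
  have hval : ∀ (q : G ⧸ T) (hm : q.out⁻¹ * x ^ Function.minimalPeriod (x • ·) q * q.out ∈ T),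
      (ψ ⟨_, hm⟩ = 1 ↔ Function.minimalPeriod (x • ·) q ≠ 1) := by
    intro q hm
    have hψ : ψ ⟨_, hm⟩ = 1 ↔ q.out⁻¹ * x ^ Function.minimalPeriod (x • ·) q * q.out ∈ M := by
      rw [QuotientGroup.mk'_apply, QuotientGroup.eq_one_iff]; rfl
    rw [hψ]
    constructor
    · intro h1 h2
      rw [h2, pow_one] at h1
      exact hcon q.out⁻¹ (by simpa using h1)
    · intro h2
      by_contra h1
      obtain ⟨j, hjn, hj⟩ := (Nat.dvd_prime_pow Nat.prime_two).mp (hlen q)
      have ho : orderOf (q.out⁻¹ * x ^ Function.minimalPeriod (x • ·) q * q.out) = 2 ^ (n - j) := by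
        have e : orderOf (x ^ Function.minimalPeriod (x • ·) q) = 2 ^ (n - j) := by
          rw [orderOf_pow, hxn, hj, Nat.gcd_eq_right (pow_dvd_pow 2 hjn), Nat.pow_div hjn (by norm_num)]
        rw [← e]
        conv_lhs => rw [show q.out⁻¹ * x ^ Function.minimalPeriod (x • ·) q * q.out =
          (MulAut.conj q.out⁻¹).toMonoidHom (x ^ Function.minimalPeriod (x • ·) q) by simp]
        exact orderOf_injective (MulAut.conj q.out⁻¹).toMonoidHom (MulAut.conj q.out⁻¹).injective _
      have := hord _ hm h1
      rw [ho, Nat.pow_lt_pow_iff_right (by norm_num)] at this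
      have hj0 : j = 0 := by omega
      rw [hj0, pow_zero] at hj
      exact h2 hj
  have hsq : ∀ a : T ⧸ M', a ≠ 1 → ∀ b : T ⧸ M', b ≠ 1 → a = b := by
    intro a ha b hb
    obtain ⟨u, v, huv, hu⟩ := Nat.card_eq_two_iff.mp hQ2
    have hmem : ∀ c : T ⧸ M', c = u ∨ c = v := fun c => by
      have := hu.ge (Set.mem_univ c)
      simpa using this
    rcases hmem a with rfl | rfl <;> rcases hmem b with rfl | rfl <;> rcases hmem 1 with h | h <;>
      first | rfl | exact absurd h.symm ha | exact absurd h.symm hb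
  obtain ⟨a, ha⟩ : ∃ a : T ⧸ M', a ≠ 1 := by
    haveI : Nontrivial (T ⧸ M') := Finite.one_lt_card_iff_nontrivial.mp (by rw [hQ2]; norm_num)
    exact exists_ne 1
  have ha2 : orderOf a = 2 := by
    refine orderOf_eq_prime ?_ ha
    rw [← hQ2]; exact pow_card_eq_one'
  have hprod : V x = a ^ (Finset.univ.filter fun q : Quotient (MulAction.orbitRel (Subgroup.zpowers x) (G ⧸ T)) =>
      Function.minimalPeriod (x • ·) q.out = 1).card := by
    show MonoidHom.transfer ψ x = _
    rw [MonoidHom.transfer_eq_prod_quotient_orbitRel_zpowers_quot, ← Finset.prod_const, Finset.prod_filter]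
    refine Finset.prod_congr rfl fun q _ => ?_
    split_ifs with h
    · exact hsq _ (fun h1 => (hval _ _).mp h1 h) _ ha
    · exact (hval _ _).mpr h
  rw [htriv] at hprod
  have heven := orderOf_dvd_iff_pow_eq_one.mpr hprod.symm
  rw [ha2] at heven
  -- but the number of fixed points is congruent to the odd index
  have hsum : T.index = ∑ q : Quotient (MulAction.orbitRel (Subgroup.zpowers x) (G ⧸ T)), Function.minimalPeriod (x • ·) q.out := by
    rw [Subgroup.index, Nat.card_congr (MulAction.selfEquivSigmaOrbits (Subgroup.zpowers x) (G ⧸ T)), Nat.card_sigma]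
    refine Finset.sum_congr rfl fun q _ => ?_
    rw [Nat.card_eq_fintype_card]
    exact (MulAction.minimalPeriod_eq_card (a := x) (b := q.out)).symm
  apply S.not_dvd_index
  rw [← hT, hsum, ← Finset.sum_filter_add_sum_filter_not Finset.univ (fun q => Function.minimalPeriod (x • ·) q.out = 1)]
  refine dvd_add ?_ (Finset.dvd_sum fun q hq => ?_)
  · rwa [Finset.sum_congr rfl (fun q hq => (Finset.mem_filter.mp hq).2), Finset.sum_const, smul_eq_mul, mul_one]
  · obtain ⟨j, -, hj⟩ := (Nat.dvd_prime_pow Nat.prime_two).mp (hlen q.out)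
    have := (Finset.mem_filter.mp hq).2
    rw [hj] at this ⊢
    exact dvd_pow_self 2 (fun h => this (by rw [h, pow_zero]))

end Cfsg.Agent.S3225
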