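import Cfsg.Statements.S2064
import Cfsg.Agent.Lib.Spor.Golay.AutOut
import Cfsg.Agent.Lib.Spor.Golay.AutM24

set_option autoImplicit false
open Cfsg

namespace Cfsg.Agent.S2064

/-- The outer automorphism group of the Mathieu group M₂₄ (the automorphism group of the length-24 binary code) is trivial: every automorphism is inner. -/
theorem result : Nat.card (Cfsg.Out ↥Cfsg.M24) = 1 := by
  open Cfsg.Agent.Spor.Golay Cfsg.Agent.Spor.Golay.Aut in
  refine Eq.trans (b := Nat.card (Cfsg.Out c24.grp)) ?_ ?_
  · open Cfsg.Agent.Spor.Golay Cfsg.Agent.Spor.Golay.Aut in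
    have e : Cfsg.M24 = c24.grp := Fix_nil.symm
    rw [e]
  · open Cfsg.Agent.Spor.Golay.Aut in
    exact c24.out_one gen24_check (by decide +kernel) aut24

end Cfsg.Agent.S2064
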