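import Cfsg.Statements.S1576
import Cfsg.Agent.Lib.Spor.Leech.Orth

set_option autoImplicit false
open Cfsg

namespace Cfsg.Agent.S1576



/-- The stabiliser of a minimal vector is transitive on the pairs of opposite minimal vectors orthogonal to it. -/
theorem result (v w w' : ↥Cfsg.leechLattice) (hv : Cfsg.sqNorm (v : Cfsg.GolayPt → ℤ) = 32) (hw : Cfsg.sqNorm (w : Cfsg.GolayPt → ℤ) = 32) (hw' : Cfsg.sqNorm (w' : Cfsg.GolayPt → ℤ) = 32) (hd : Cfsg.dotInt (v : Cfsg.GolayPt → ℤ) (w : Cfsg.GolayPt → ℤ) = 0) (hd' : Cfsg.dotInt (v : Cfsg.GolayPt → ℤ) (w' : Cfsg.GolayPt → ℤ) = 0) : ∃ g : ↥Cfsg.Co0, g • v = v ∧ (g • w = w' ∨ g • w = -w') := by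
  obtain ⟨a, ha⟩ := Agent.Spor.Leech.exists_to_vB v hv
  have hd0 : ∀ u : ↥Cfsg.leechLattice, Cfsg.dotInt (v : Cfsg.GolayPt → ℤ) (u : Cfsg.GolayPt → ℤ) = 0 →
      Cfsg.dotInt Agent.Spor.Leech.v0 ((a • u : ↥Cfsg.leechLattice) : Cfsg.GolayPt → ℤ) = 0 := fun u h => by
    have h1 := Agent.Spor.Leech.co_dot a v u
    rw [ha, h] at h1
    exact h1
  obtain ⟨g, hg, he⟩ := Agent.Spor.Leech.orth_conn (x := a • w) (y := a • w')
    (by rw [Agent.Spor.Leech.co_norm, hw]) (by rw [Agent.Spor.Leech.co_norm, hw']) (hd0 w hd) (hd0 w' hd')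
  refine ⟨a⁻¹ * g * a, by rw [mul_smul, mul_smul, ha, hg, ← ha, inv_smul_smul], ?_⟩
  rw [mul_smul, mul_smul]
  rcases he with e | e
  · exact Or.inl (by rw [e, inv_smul_smul])
  · exact Or.inr (by rw [e, Agent.Spor.Leech.co_neg, inv_smul_smul])

end Cfsg.Agent.S1576
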