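import Cfsg.Statements.S1550
import Cfsg.Agent.Lib.Spor.Golay.Cosets

set_option autoImplicit false
open scoped Pointwise
open Cfsg

namespace Cfsg.Agent.S1550

open Cfsg.Agent.Spor.Golay

/-- Every 4-element set of the 24 points is a tetrad of exactly one sextet, and the sextets number 1771. -/
theorem result : (∀ t : Finset Cfsg.GolayPt, t.card = 4 → ∃! S : Finset (Finset Cfsg.GolayPt), S ∈ Cfsg.sextets ∧ t ∈ S) ∧ Cfsg.sextets.ncard = 1771 := by
  classical
  refine ⟨fun t ht => ⟨leaders t, ⟨mem_sextets_iff.mpr ⟨t, ht, rfl⟩,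
    mem_leaders.mpr ⟨ht.le, Cls.refl t⟩⟩, fun S hS => sextet_unique hS.1 hS.2⟩, ?_⟩
  have hfin : Cfsg.sextets.Finite := Set.toFinite _
  have hcov : hfin.toFinset.biUnion id =
      (Finset.univ : Finset Cfsg.GolayPt).powersetCard 4 := by
    ext t
    simp only [Finset.mem_biUnion, Set.Finite.mem_toFinset, id, Finset.mem_powersetCard,
      Finset.subset_univ, true_and]
    constructor
    · rintro ⟨S, hS, ht⟩; exact hS.2.1 t ht
    · exact fun ht => ⟨leaders t, mem_sextets_iff.mpr ⟨t, ht, rfl⟩,
        mem_leaders.mpr ⟨ht.le, Cls.refl t⟩⟩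
  have h := congrArg Finset.card hcov
  rw [Finset.card_biUnion, Finset.sum_congr rfl
      (fun S hS => ((hfin.mem_toFinset.mp hS).1 : (id S).card = 6)),
    Finset.sum_const, Finset.card_powersetCard, Finset.card_univ, card_golayPt,
    show Nat.choose 24 4 = 10626 from by decide, smul_eq_mul] at h
  · rw [Set.ncard_eq_toFinset_card _ hfin]; omega
  · intro S hS S' hS' hne
    rw [Function.onFun, Finset.disjoint_left]
    intro t h1 h2
    exact hne ((sextet_unique (hfin.mem_toFinset.mp hS) h1).trans
      (sextet_unique (hfin.mem_toFinset.mp hS') h2).symm)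

end Cfsg.Agent.S1550
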