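import Cfsg.Statements.S1557
import Cfsg.Agent.Lib.Spor.Golay.Cosets
import Cfsg.Agent.Lib.Spor.SteinerTables

set_option autoImplicit false
open scoped Pointwise
open Cfsg

namespace Cfsg.Agent.S1557

open Cfsg.Agent.Spor.Golay
open scoped symmDiff
theorem compl_octad (o o' : Finset Cfsg.GolayPt) (ho : o ∈ Cfsg.octads) (ho' : o' ∈ Cfsg.octads)
    (h : Disjoint o o') : (o ∪ o')ᶜ ∈ Cfsg.octads := by
  have hu : (Finset.univ : Finset Cfsg.GolayPt) ∈
      Cfsg.supports (Cfsg.golayCode : Set (Cfsg.GolayPt → ZMod 2)) :=
    ⟨1, Submodule.subset_span (Set.mem_union_right _ rfl), by ext p; simp [Cfsg.support₂]⟩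
  refine ⟨?_, ?_⟩
  · have := symmDiff_mem_supports hu (symmDiff_mem_supports ho.1 ho'.1)
    have e : Finset.univ ∆ (o ∆ o') = (o ∪ o')ᶜ := by
      rw [h.symmDiff_eq_sup]; exact top_symmDiff _
    rwa [e] at this
  · rw [Finset.card_compl, Finset.card_union_of_disjoint h, octad_card ho, octad_card ho',
      card_golayPt]

/-- The complement of the union of two disjoint octads is an octad, and the code has exactly 3795 trios of pairwise disjoint octads. -/
theorem result : (∀ o o' : Finset Cfsg.GolayPt, o ∈ Cfsg.octads → o' ∈ Cfsg.octads → Disjoint o o' → (o ∪ o')ᶜ ∈ Cfsg.octads) ∧ Cfsg.trios.ncard = 3795 := by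
  classical
  refine ⟨compl_octad, ?_⟩
  have hfin : Cfsg.trios.Finite := Set.toFinite _
  have hof : Cfsg.octads.Finite := Set.toFinite _
  let pairs := hof.toFinset.sigma fun o => hof.toFinset.filter fun o' => Disjoint o o'
  have h30 : ∀ o ∈ hof.toFinset, (hof.toFinset.filter fun o' => Disjoint o o').card = 30 := by
    intro o ho
    rw [← (Cfsg.Agent.Spor.Steiner.table824 card_golayPt octads_steiner (hof.mem_toFinset.mp ho)).1,
      Cfsg.Agent.Spor.Steiner.meetCount]
    congr 1
    ext o'
    simp [Finset.disjoint_iff_inter_eq_empty, Finset.inter_comm]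
  have hp : pairs.card = 759 * 30 := by
    rw [Finset.card_sigma, Finset.sum_congr rfl h30, Finset.sum_const, smul_eq_mul,
      ← Set.ncard_eq_toFinset_card _ hof, octads_ncard]
  have hne : ∀ o ∈ hof.toFinset, ∀ o', Disjoint o o' → o ≠ o' := by
    intro o ho o' h e
    subst e
    rw [Finset.disjoint_self_iff_empty] at h
    have := octad_card (hof.mem_toFinset.mp ho)
    simp [h] at this
  have hbij : (hfin.toFinset.sigma fun T => T.offDiag).card = pairs.card := by
    refine Finset.card_bij (fun x _ => (⟨x.2.1, x.2.2⟩ : (_ : Finset Cfsg.GolayPt) × Finset Cfsg.GolayPt))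
      ?_ ?_ ?_
    · rintro ⟨T, o, o'⟩ hx
      simp only [Finset.mem_sigma, Set.Finite.mem_toFinset, Finset.mem_offDiag] at hx
      simp only [pairs, Finset.mem_sigma, Set.Finite.mem_toFinset, Finset.mem_filter]
      exact ⟨hx.1.2.1 o hx.2.1, hx.1.2.1 o' hx.2.2.1, hx.1.2.2 o hx.2.1 o' hx.2.2.1 hx.2.2.2⟩
    · rintro ⟨T, o, o'⟩ hx ⟨T', o₂, o₂'⟩ hx' he
      simp only [Finset.mem_sigma, Set.Finite.mem_toFinset, Finset.mem_offDiag] at hx hx'
      obtain ⟨rfl, rfl⟩ : o = o₂ ∧ o' = o₂' := by simpa using he
      have key : ∀ U : Finset (Finset Cfsg.GolayPt), U ∈ Cfsg.trios → o ∈ U → o' ∈ U → o ≠ o' →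
          U = {o, o', (o ∪ o')ᶜ} := by
        intro U hU h1 h2 h12
        have hd := hU.2.2 o h1 o' h2 h12
        refine Finset.eq_of_subset_of_card_le (fun x hx => ?_) ?_
        · simp only [Finset.mem_insert, Finset.mem_singleton]
          by_cases hxo : x = o
          · exact Or.inl hxo
          by_cases hxo' : x = o'
          · exact Or.inr (Or.inl hxo')
          refine Or.inr (Or.inr (Finset.eq_of_subset_of_card_le ?_ ?_))
          · intro p hp
            rw [Finset.mem_compl, Finset.mem_union]
            rintro (hp' | hp')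
            · exact Finset.disjoint_left.mp (hU.2.2 x hx o h1 hxo) hp hp'
            · exact Finset.disjoint_left.mp (hU.2.2 x hx o' h2 hxo') hp hp'
          · rw [octad_card (compl_octad o o' (hU.2.1 o h1) (hU.2.1 o' h2) hd),
              octad_card (hU.2.1 x hx)]
        · rw [hU.1]; exact Finset.card_le_three
      have e1 := key T hx.1 hx.2.1 hx.2.2.1 hx.2.2.2
      have e2 := key T' hx'.1 hx'.2.1 hx'.2.2.1 hx'.2.2.2
      rw [e1, ← e2]
    · rintro ⟨o, o'⟩ hx
      simp only [pairs, Finset.mem_sigma, Set.Finite.mem_toFinset, Finset.mem_filter] at hx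
      obtain ⟨ho, ho', hd⟩ := hx
      have hc := compl_octad o o' ho ho' hd
      have n12 := hne o (hof.mem_toFinset.mpr ho) o' hd
      have d13 : Disjoint o (o ∪ o')ᶜ := disjoint_compl_right.mono_left Finset.subset_union_left
      have d23 : Disjoint o' (o ∪ o')ᶜ := disjoint_compl_right.mono_left Finset.subset_union_right
      have n13 := hne o (hof.mem_toFinset.mpr ho) _ d13
      have n23 := hne o' (hof.mem_toFinset.mpr ho') _ d23
      refine ⟨⟨{o, o', (o ∪ o')ᶜ}, o, o'⟩, ?_, rfl⟩
      simp only [Finset.mem_sigma, Set.Finite.mem_toFinset, Finset.mem_offDiag]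
      refine ⟨⟨?_, ?_, ?_⟩, by simp, by simp, n12⟩
      · rw [Finset.card_insert_of_notMem (by
            rw [Finset.mem_insert, Finset.mem_singleton]; exact fun h => h.elim n12 n13),
          Finset.card_pair n23]
      · intro x hx
        simp only [Finset.mem_insert, Finset.mem_singleton] at hx
        rcases hx with rfl | rfl | rfl <;> assumption
      · intro x hx y hy hxy
        simp only [Finset.mem_insert, Finset.mem_singleton] at hx hy
        rcases hx with rfl | rfl | rfl <;> rcases hy with rfl | rfl | rfl <;>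
          first
            | exact absurd rfl hxy
            | exact hd
            | exact hd.symm
            | exact d13
            | exact d13.symm
            | exact d23
            | exact d23.symm
  rw [Finset.card_sigma, Finset.sum_congr rfl
    (fun T hT => (by rw [Finset.offDiag_card, (hfin.mem_toFinset.mp hT).1] : T.offDiag.card = 6)),
    Finset.sum_const, smul_eq_mul, hp] at hbij
  rw [Set.ncard_eq_toFinset_card _ hfin]
  omega

end Cfsg.Agent.S1557
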