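import Cfsg.Statements.S3390
import Mathlib
import Cfsg.Agent.Lib.Recog.MaxClassFacts
import Cfsg.Agent.Lib.Recog.MaxClassSelfCentral
import Cfsg.Agent.Lib.Block.Zas.SignSemi
-- import your own Cfsg.Agent.* helpers here

set_option autoImplicit false
open Cfsg

namespace Cfsg.Agent.S3390

open scoped Pointwise

theorem dihedral_or_sd {S : Type*} [Group S] [Finite S] (hS : IsPGroup 2 S) (r z : S)
    (hr : r * r = 1) (hz : z * z = 1) (hr1 : r ≠ 1) (hz1 : z ≠ 1) (hrz : r ≠ z) (hc : z * r = r * z)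
    (hC : Nat.card (Subgroup.centralizer ({r} : Set S)) = 4) :
    (∃ n : ℕ, Nonempty (S ≃* DihedralGroup n)) ∨ Cfsg.IsQuasiDihedral S := by
  haveI : Fact (Nat.Prime 2) := ⟨Nat.prime_two⟩
  set A := Subgroup.centralizer ({r} : Set S) with hA
  obtain ⟨n, hn⟩ := IsPGroup.iff_card.mp hS
  have hrA : r ∈ A := Subgroup.mem_centralizer_singleton_iff.mpr rfl
  have hzA : z ∈ A := Subgroup.mem_centralizer_singleton_iff.mpr hc
  have hexp : ∀ x ∈ A, x * x = 1 := by
    classical
    haveI := Fintype.ofFinite A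
    intro x hx
    let F : Finset A := {1, ⟨r, hrA⟩, ⟨z, hzA⟩, ⟨r * z, A.mul_mem hrA hzA⟩}
    have hF : F = Finset.univ := Finset.eq_univ_of_card _ (by
      rw [← Nat.card_eq_fintype_card, hC]
      simp only [F]
      have h1 : (1 : S) ≠ r * z := fun h => hrz (by
        rw [← inv_eq_of_mul_eq_one_right h.symm, inv_eq_of_mul_eq_one_right hr])
      have h2 : r ≠ r * z := fun h => hz1 (by simpa using h)
      have h3 : z ≠ r * z := fun h => hr1 (by simpa using h)
      rw [Finset.card_insert_of_notMem (by simp [Subtype.ext_iff, Ne.symm hr1, Ne.symm hz1, h1]),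
        Finset.card_insert_of_notMem (by simp [Subtype.ext_iff, hrz, h2]), Finset.card_pair (by simp [Subtype.ext_iff, h3])])
    have hm := Finset.mem_univ (⟨x, hx⟩ : A)
    rw [← hF] at hm
    simp only [F, Finset.mem_insert, Finset.mem_singleton, Subtype.ext_iff] at hm
    rcases hm with rfl | rfl | rfl | rfl
    · simp
    · exact hr
    · exact hz
    · rw [mul_assoc, ← mul_assoc z, hc, mul_assoc r z z, hz, mul_one, hr]
  have hn2 : 2 ≤ n := by
    have := Subgroup.card_le_card_group A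
    rw [hC, hn] at this
    by_contra h
    have : 2 ^ n ≤ 2 ^ 1 := Nat.pow_le_pow_right two_pos (by omega)
    omega
  by_cases h2 : n = 2
  · left
    subst h2
    have htop : A = ⊤ := Subgroup.eq_top_of_card_eq A (by rw [hC, hn]; norm_num)
    have hall : ∀ x : S, x * x = 1 := fun x => hexp x (htop ▸ Subgroup.mem_top x)
    refine ⟨2, ?_⟩
    haveI : IsKleinFour S := ⟨by rw [hn]; norm_num, Nat.le_antisymm (Nat.le_of_dvd two_pos
      (Monoid.exponent_dvd_of_forall_pow_eq_one fun x => by rw [pow_two, hall])) (by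
      rcases Nat.lt_or_ge (Monoid.exponent S) 2 with h | h
      · exfalso
        have h0 := Monoid.ExponentExists.exponent_ne_zero (G := S) ⟨2, two_pos, fun x => by rw [pow_two, hall]⟩
        have h1 : Monoid.exponent S = 1 := by omega
        have := Monoid.pow_exponent_eq_one r
        rw [h1, pow_one] at this
        exact hr1 this
      · exact h)⟩
    exact IsKleinFour.nonempty_mulEquiv
  have hn3 : 3 ≤ n := by omega
  haveI : IsMulCommutative A := IsPGroup.isMulCommutative_of_card_eq_prime_sq (p := 2) (by rw [hC]; norm_num)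
  have hself : Subgroup.centralizer (A : Set S) = A := le_antisymm
    (fun x hx => Subgroup.mem_centralizer_singleton_iff.mpr (Subgroup.mem_centralizer_iff.mp hx r hrA).symm)
    (Subgroup.le_centralizer A)
  have hcl := Cfsg.Agent.MaxClass.class_of_self_centralizing (p := 2) hn A (by rw [hC]; norm_num) hself
  obtain ⟨a, b, h, hs⟩ := Cfsg.Agent.MaxClass.exists_shape hn3 hn (Cfsg.Agent.MaxClass.index_of_class hn3 hn hcl.ge)
  rcases hs with ⟨hb, hcb⟩ | ⟨hb, hcb⟩ | ⟨hm3, hb, hcb⟩
  · exact Or.inl ⟨_, h.dihedral hb hcb⟩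
  · exfalso
    -- all involutions would be central
    have hm : 2 ≤ n - 1 := by omega
    have hsh : Cfsg.Agent.MaxClass.Shape (n - 1) a b := Or.inr (Or.inl ⟨hb, hcb⟩)
    have hrc : r ∈ Subgroup.center S := by
      rcases h.cases r with ⟨i, hi⟩ | ⟨i, hi⟩
      · rw [hi, h.mem_center hm hsh]
        rw [hi, ← zpow_add, h.zpow_eq_one, ← two_mul] at hr
        exact (Cfsg.Agent.MaxClass.dvd_two_mul (by omega)).mp hr
      · exfalso
        have hr' : b * a * b⁻¹ = a ^ (-1 : ℤ) := by rw [hcb, zpow_neg_one]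
        have hb' : b * b = a ^ ((2 : ℤ) ^ (n - 1 - 1)) := by rw [hb, Cfsg.Agent.MaxClass.Cyc2.cast_pow]
        have e := Cfsg.Agent.MaxClass.Cyc2.outside_sq hr' hb' i
        rw [← hi, hr] at e
        have hdvd := h.zpow_eq_one.mp e.symm
        have hlt : (2 : ℤ) ^ (n - 1 - 1) < 2 ^ (n - 1) := pow_lt_pow_right₀ (by norm_num) (by omega)
        have hpos : (0 : ℤ) < 2 ^ (n - 1 - 1) := by positivity
        have hd' : (2 : ℤ) ^ (n - 1) ∣ 2 ^ (n - 1 - 1) := hdvd.trans (dvd_of_eq (by ring))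
        have := Int.le_of_dvd hpos hd'
        omega
    have htop : A = ⊤ := (Subgroup.eq_top_iff' _).mpr fun x =>
      Subgroup.mem_centralizer_singleton_iff.mpr (Subgroup.mem_center_iff.mp hrc x)
    rw [htop, Subgroup.card_top, hn] at hC
    have : 2 ^ 3 ≤ 2 ^ n := Nat.pow_le_pow_right two_pos hn3
    omega
  · exact Or.inr (h.isQuasiDihedral hm3 hb hcb)

theorem sign_semi {α : Type*} [Fintype α] [DecidableEq α] (σ : Equiv.Perm α)
    (hσ : ∀ (i : ℕ) (x : α), x ∈ σ.support → (σ ^ i) x = x → σ ^ i = 1) {m : ℕ}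
    (hcard : σ.support.card = orderOf σ * m) (hm : Even m) : Equiv.Perm.sign σ = 1 := by
  rw [Cfsg.Agent.Block.Zas.sign_of_semiregular σ hσ hcard]
  obtain ⟨k, rfl⟩ := hm
  exact Even.neg_one_pow ⟨orderOf σ * k + k, by ring⟩

theorem index_two_hom {G : Type*} [Group G] [Finite G] (φ : G →* ℤˣ) {s : G} (hs : φ s = -1) : φ.ker.index = 2 := by
  rw [Subgroup.index_ker]
  have htop : φ.range = ⊤ := (Subgroup.eq_top_iff' _).mpr fun u => by
    rcases Int.units_eq_one_or u with rfl | rfl
    · exact one_mem _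
    · exact ⟨s, hs⟩
  rw [htop, Subgroup.card_top, Nat.card_eq_fintype_card]
  rfl

/-- Let G be a finite group acting faithfully and transitively on a finite set Ω with fixity 2 (every non-identity element fixes at most two points, and some fixes exactly two). Let α ∈ Ω and S a Sylow 2-subgroup of G. Then one of the following holds: the stabilizer S_α of α in S is trivial; S is dihedral or semidihedral and either |S_α| = 2 or |S : S_α| = 2; |S| ≥ 4, S has exactly one orbit of size 2 on Ω, every other S-orbit is regular, and G has a normal subgroup of index 2 or of index |S| which is a Frobenius group; or S ≤ G_α. -/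
theorem result {G : Type*} [Group G] [Finite G] {Ω : Type*} [Fintype Ω] [MulAction G Ω] [FaithfulSMul G Ω] (htr : MulAction.IsPretransitive G Ω)
    (hfix : ∀ g : G, g ≠ 1 → Nat.card (MulAction.fixedBy Ω g) ≤ 2) (hex : ∃ g : G, g ≠ 1 ∧ Nat.card (MulAction.fixedBy Ω g) = 2) (α : Ω) (S : Sylow 2 G) :
    (S : Subgroup G) ⊓ MulAction.stabilizer G α = ⊥ ∨
    (((∃ n : ℕ, Nonempty (↥(S : Subgroup G) ≃* DihedralGroup n)) ∨ Cfsg.IsQuasiDihedral ↥(S : Subgroup G)) ∧
       (Nat.card ↥((S : Subgroup G) ⊓ MulAction.stabilizer G α) = 2 ∨ ((S : Subgroup G) ⊓ MulAction.stabilizer G α).relIndex (S : Subgroup G) = 2)) ∨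
    (4 ≤ Nat.card (S : Subgroup G) ∧
       (∃ ω : Ω, Nat.card (MulAction.orbit ↥(S : Subgroup G) ω) = 2 ∧
          ∀ ω' : Ω, ω' ∉ MulAction.orbit ↥(S : Subgroup G) ω → Nat.card (MulAction.orbit ↥(S : Subgroup G) ω') = Nat.card (S : Subgroup G)) ∧
       ∃ N : Subgroup G, N.Normal ∧ (N.index = 2 ∨ N.index = Nat.card (S : Subgroup G)) ∧ (∃ H : Subgroup ↥N, Cfsg.IsFrobeniusComplement H)) ∨
    (S : Subgroup G) ≤ MulAction.stabilizer G α := by
  classical
  haveI : Fact (Nat.Prime 2) := ⟨Nat.prime_two⟩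
  set S₀ := (S : Subgroup G)
  set Gα := MulAction.stabilizer G α
  set T := S₀ ⊓ Gα with hTdef
  by_cases hT1 : T = ⊥
  · exact Or.inl hT1
  by_cases hSα : S₀ ≤ Gα
  · exact Or.inr (Or.inr (Or.inr hSα))
  have hS2 : IsPGroup 2 S₀ := S.isPGroup'
  have htwo : ∀ g : G, g ≠ 1 → ∀ a b c : Ω, g • a = a → g • b = b → g • c = c → a ≠ b → c = a ∨ c = b := by
    intro g hg a b c ha hb hc hab
    by_contra hcon
    push Not at hcon
    have h := hfix g hg
    haveI := Fintype.ofFinite (MulAction.fixedBy Ω g)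
    have h3 : ({⟨a, ha⟩, ⟨b, hb⟩, ⟨c, hc⟩} : Finset (MulAction.fixedBy Ω g)).card ≤ 2 :=
      (Finset.card_le_univ _).trans (by rw [← Nat.card_eq_fintype_card]; exact h)
    rw [Finset.card_insert_of_notMem (by simp [Subtype.ext_iff, hab, Ne.symm hcon.1]),
      Finset.card_pair (by simp [Subtype.ext_iff, Ne.symm hcon.2])] at h3
    omega
  have hTmem : ∀ g, g ∈ T ↔ g ∈ S₀ ∧ g • α = α := fun g => Iff.rfl
  have hlt : T < S₀ := lt_of_le_of_ne inf_le_left fun h => hSα (h ▸ inf_le_right)
  obtain ⟨t, ht, ht1⟩ := (Subgroup.ne_bot_iff_exists_ne_one.mp hT1).elim fun x hx => (⟨x.1, x.2, fun h => hx (Subtype.ext h)⟩ : ∃ t ∈ T, t ≠ 1)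
  -- reduction to index two
  by_cases hidx : ∀ g ∈ S₀, ∀ g' ∈ S₀, g • α ≠ α → g' • α ≠ α → g • α = g' • α
  swap
  · right; left
    push Not at hidx
    obtain ⟨g₁, hg₁, g₂, hg₂, hg₁α, hg₂α, hg12⟩ := hidx
    haveI : Nontrivial S₀ := ⟨⟨t, ((hTmem t).mp ht).1⟩, 1, fun h => ht1 (congrArg Subtype.val h)⟩
    haveI := hS2.center_nontrivial
    obtain ⟨s, hs⟩ := exists_prime_orderOf_dvd_card' (G := Subgroup.center S₀) 2 (by
      obtain ⟨i, hi⟩ := IsPGroup.iff_card.mp (hS2.to_subgroup (Subgroup.center S₀))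
      rw [hi]
      refine dvd_pow_self 2 fun h => ?_
      rw [h, pow_zero] at hi
      exact absurd hi (Finite.one_lt_card (α := Subgroup.center S₀)).ne')
    set s' : G := ((s : S₀) : G)
    have hs'S : s' ∈ S₀ := (s : S₀).2
    have hsc : ∀ g ∈ S₀, g * s' = s' * g := fun g hg =>
      congrArg Subtype.val (Subgroup.mem_center_iff.mp s.2 ⟨g, hg⟩)
    have hs1 : s' ≠ 1 := fun h => by
      rw [show s = 1 from Subtype.ext (Subtype.ext h), orderOf_one] at hs; omega
    have hss : s' * s' = 1 := by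
      have : s ^ 2 = 1 := hs ▸ pow_orderOf_eq_one s
      rw [pow_two] at this
      exact congrArg (fun x : Subgroup.center S₀ => ((x : S₀) : G)) this
    have hsα : s' • α ≠ α := by
      intro h
      have hf : ∀ g ∈ S₀, s' • (g • α) = g • α := fun g hg => by rw [smul_smul, ← hsc g hg, mul_smul, h]
      rcases htwo s' hs1 α (g₁ • α) (g₂ • α) h (hf _ hg₁) (hf _ hg₂) (Ne.symm hg₁α) with h' | h'
      · exact hg₂α h'
      · exact hg12 h'.symm
    set β := s' • α with hβ
    have hsβ : s' • β = α := by rw [hβ, smul_smul, hss, one_smul]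
    have hTβ : ∀ u ∈ T, u • β = β := fun u hu => by
      rw [hβ, smul_smul, hsc u ((hTmem u).mp hu).1, mul_smul, ((hTmem u).mp hu).2]
    have hpair : ∀ u ∈ T, u ≠ 1 → ∀ c, u • c = c → c = α ∨ c = β := fun u hu hu1 c hc =>
      htwo u hu1 α β c ((hTmem u).mp hu).2 (hTβ u hu) hc (Ne.symm hsα)
    by_cases hbig : ∀ a ∈ T, ∀ b ∈ T, a ≠ 1 → b ≠ 1 → a * b = 1
    · -- `T` of order two
      have hTall : ∀ u ∈ T, u = 1 ∨ u = t := fun u hu => by
        by_cases hu1 : u = 1
        · exact Or.inl hu1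
        · right
          rw [eq_inv_of_mul_eq_one_left (hbig u hu t ht hu1 ht1), ← eq_inv_of_mul_eq_one_left (hbig t ht t ht ht1 ht1)]
      have hTcard : Nat.card T = 2 := by
        refine Nat.card_eq_two_iff.mpr ⟨1, ⟨t, ht⟩, fun h => ht1 (congrArg Subtype.val h).symm, ?_⟩
        ext u
        simp only [Set.mem_insert_iff, Set.mem_singleton_iff, Set.mem_univ, iff_true]
        exact (hTall u u.2).imp (fun h => Subtype.ext h) (fun h => Subtype.ext h)
      set tS : S₀ := ⟨t, ((hTmem t).mp ht).1⟩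
      have htt : t * t = 1 := hbig t ht t ht ht1 ht1
      have hts : t ≠ s' := fun h => hsα (by rw [hβ, ← h]; exact ((hTmem t).mp ht).2)
      refine ⟨dihedral_or_sd hS2 tS (s : S₀) (Subtype.ext htt) (Subtype.ext hss) (fun h => ht1 (congrArg Subtype.val h))
        (fun h => hs1 (congrArg Subtype.val h)) (fun h => hts (congrArg Subtype.val h)) (Subtype.ext (hsc t tS.2).symm) ?_,
        Or.inl hTcard⟩
      have key : ∀ c : Subgroup.centralizer ({tS} : Set S₀), ((c : S₀) : G) ∈ ({1, t, s', s' * t} : Finset G) := by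
        intro c
        have hc : ((c : S₀) : G) * t = t * (c : S₀) := congrArg Subtype.val (Subgroup.mem_centralizer_singleton_iff.mp c.2)
        rcases hpair t ht ht1 (((c : S₀) : G) • α) (by rw [smul_smul, ← hc, mul_smul, ((hTmem t).mp ht).2]) with h | h
        · rcases hTall _ ((hTmem _).mpr ⟨(c : S₀).2, h⟩) with h' | h' <;> simp [h']
        · have hm : s' * ((c : S₀) : G) ∈ T := (hTmem _).mpr ⟨S₀.mul_mem hs'S (c : S₀).2, by rw [mul_smul, h, hsβ]⟩
          have he : ((c : S₀) : G) = s' * (s' * (c : S₀)) := by rw [← mul_assoc, hss, one_mul]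
          rcases hTall _ hm with h' | h' <;> rw [h'] at he <;> simp [he]
      refine le_antisymm ((Nat.card_le_card_of_injective
        (fun c => (⟨_, key c⟩ : ({1, t, s', s' * t} : Finset G)))
        fun a b h => Subtype.ext (Subtype.ext (Subtype.mk.inj h))).trans (by
          rw [Nat.card_eq_finsetCard]; exact Finset.card_le_four)) ?_
      have hz : (s : S₀) ∈ Subgroup.centralizer ({tS} : Set S₀) :=
        Subgroup.mem_centralizer_singleton_iff.mpr (Subtype.ext (hsc t tS.2).symm)
      have htm : tS ∈ Subgroup.centralizer ({tS} : Set S₀) := Subgroup.mem_centralizer_singleton_iff.mpr rfl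
      obtain ⟨i, hi⟩ := IsPGroup.iff_card.mp (hS2.to_subgroup (Subgroup.centralizer ({tS} : Set S₀)))
      haveI := Fintype.ofFinite (Subgroup.centralizer ({tS} : Set S₀))
      have h3 : 3 ≤ 2 ^ i := by
        rw [← hi, Nat.card_eq_fintype_card]
        refine le_trans (le_of_eq ?_) (Finset.card_le_univ ({1, ⟨tS, htm⟩, ⟨_, hz⟩} : Finset (Subgroup.centralizer ({tS} : Set S₀))))
        rw [Finset.card_insert_of_notMem (by simp [Subtype.ext_iff, tS, Ne.symm ht1, Ne.symm hs1]; exact hs1.symm),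
          Finset.card_pair (by simp [Subtype.ext_iff, tS]; exact hts)]
      rw [hi]
      rcases i with - | - | i
      · omega
      · omega
      · exact le_trans (by norm_num) (Nat.pow_le_pow_right two_pos (show 2 ≤ i + 1 + 1 by omega))
    exfalso
    push Not at hbig
    obtain ⟨a, ha, b, hb, ha1, hb1, hab⟩ := hbig
    let M : Subgroup S₀ :=
      { carrier := {g | ((g : G) • α = α ∧ (g : G) • β = β) ∨ ((g : G) • α = β ∧ (g : G) • β = α)}
        one_mem' := Or.inl ⟨one_smul G α, one_smul G β⟩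
        mul_mem' := by
          intro x y hx hy
          show ((((x : G) * y) • α = α ∧ ((x : G) * y) • β = β)) ∨ (((x : G) * y) • α = β ∧ ((x : G) * y) • β = α)
          rcases hx with ⟨h1, h2⟩ | ⟨h1, h2⟩ <;> rcases hy with ⟨h3, h4⟩ | ⟨h3, h4⟩ <;>
            simp [mul_smul, h1, h2, h3, h4]
        inv_mem' := by
          intro x hx
          show ((((x : G))⁻¹ • α = α ∧ ((x : G))⁻¹ • β = β)) ∨ (((x : G))⁻¹ • α = β ∧ ((x : G))⁻¹ • β = α)
          rcases hx with ⟨h1, h2⟩ | ⟨h1, h2⟩
          · exact Or.inl ⟨inv_smul_eq_iff.mpr h1.symm, inv_smul_eq_iff.mpr h2.symm⟩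
          · exact Or.inr ⟨inv_smul_eq_iff.mpr h2.symm, inv_smul_eq_iff.mpr h1.symm⟩ }
    have hMT : ∀ u ∈ T, ∀ hu : u ∈ S₀, (⟨u, hu⟩ : S₀) ∈ M := fun u hu hu' => Or.inl ⟨((hTmem u).mp hu).2, hTβ u hu⟩
    haveI : Group.IsNilpotent S₀ := hS2.isNilpotent
    have hMtop : M = ⊤ := by
      refine (normalizerCondition_iff_only_full_group_self_normalizing.mp Group.normalizerCondition_of_isNilpotent) M ?_
      refine le_antisymm (fun g hg => ?_) Subgroup.le_normalizer
      have hconj : ∀ u ∈ T, ((g : G) * u * (g : G)⁻¹) • α = α ∨ ((g : G) * u * (g : G)⁻¹) • α = β := by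
        intro u hu
        rcases (Subgroup.mem_normalizer_iff.mp hg _).mp (hMT u hu ((hTmem u).mp hu).1) with h | h
        · exact Or.inl h.1
        · exact Or.inr h.1
      obtain ⟨u, hu, hu1, hu'⟩ : ∃ u ∈ T, u ≠ 1 ∧ ((g : G) * u * (g : G)⁻¹) • α = α := by
        rcases hconj a ha with h | h
        · exact ⟨a, ha, ha1, h⟩
        rcases hconj b hb with h' | h'
        · exact ⟨b, hb, hb1, h'⟩
        refine ⟨a⁻¹⁻¹ * b, T.mul_mem (T.inv_mem (T.inv_mem ha)) hb, by rwa [inv_inv], ?_⟩
        have h2 : ((g : G) * a * (g : G)⁻¹) • β = α := by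
          rcases (Subgroup.mem_normalizer_iff.mp hg _).mp (hMT a ha ((hTmem a).mp ha).1) with ⟨e, -⟩ | ⟨-, e⟩
          · have e' : ((g : G) * a * (g : G)⁻¹) • α = α := e
            exact absurd (h.symm.trans e') hsα
          · exact e
        rw [inv_inv, show (g : G) * (a * b) * (g : G)⁻¹ = ((g : G) * a * (g : G)⁻¹) * ((g : G) * b * (g : G)⁻¹) by group,
          mul_smul, h', h2]
      have hT' : (g : G) * u * (g : G)⁻¹ ∈ T :=
        (hTmem _).mpr ⟨S₀.mul_mem (S₀.mul_mem g.2 ((hTmem u).mp hu).1) (S₀.inv_mem g.2), hu'⟩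
      have hne : (g : G) * u * (g : G)⁻¹ ≠ 1 := fun h => hu1 (conj_eq_one_iff.mp h)
      have hA : (g : G) • α = α ∨ (g : G) • α = β := hpair _ hT' hne _ (by
        rw [smul_smul, inv_mul_cancel_right, mul_smul, ((hTmem u).mp hu).2])
      have hB : (g : G) • β = α ∨ (g : G) • β = β := hpair _ hT' hne _ (by
        rw [smul_smul, inv_mul_cancel_right, mul_smul, hTβ u hu])
      rcases hA with e | e <;> rcases hB with e' | e'
      · exact absurd (MulAction.injective (g : G) (e.trans e'.symm)) (Ne.symm hsα)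
      · exact Or.inl ⟨e, e'⟩
      · exact Or.inr ⟨e, e'⟩
      · exact absurd (MulAction.injective (g : G) (e.trans e'.symm)) (Ne.symm hsα)
    have h1 : (g₁ : G) • α = β := by
      rcases (show (⟨g₁, hg₁⟩ : S₀) ∈ M by rw [hMtop]; exact Subgroup.mem_top _) with h | h
      · exact absurd h.1 hg₁α
      · exact h.1
    have h2 : (g₂ : G) • α = β := by
      rcases (show (⟨g₂, hg₂⟩ : S₀) ∈ M by rw [hMtop]; exact Subgroup.mem_top _) with h | h
      · exact absurd h.1 hg₂α
      · exact h.1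
    exact hg12 (h1.trans h2.symm)
  obtain ⟨s₀, hs₀, hs₀α⟩ : ∃ s ∈ S₀, s • α ≠ α := by
    by_contra h
    push Not at h
    exact hSα fun g hg => h g hg
  set β := s₀ • α with hβ
  have hout : ∀ g ∈ S₀, g ∉ T → g • α = β := fun g hg hgT =>
    hidx g hg s₀ hs₀ (fun h => hgT ((hTmem g).mpr ⟨hg, h⟩)) hs₀α
  have hrel : T.relIndex S₀ = 2 := by
    have hne1 : T.relIndex S₀ ≠ 1 := fun h => hlt.not_ge (Subgroup.relIndex_eq_one.mp h)
    have hne0 : T.relIndex S₀ ≠ 0 := Subgroup.index_ne_zero_of_finite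
    have hle : T.relIndex S₀ ≤ 2 := by
      show Nat.card (S₀ ⧸ T.subgroupOf S₀) ≤ 2
      refine (Nat.card_le_card_of_injective (fun q : S₀ ⧸ T.subgroupOf S₀ => decide ((q.out : G) • α = α)) fun p q h => ?_).trans
        (by rw [Nat.card_eq_fintype_card, Fintype.card_bool])
      rw [decide_eq_decide] at h
      rw [← QuotientGroup.out_eq' p, ← QuotientGroup.out_eq' q, QuotientGroup.eq, Subgroup.mem_subgroupOf, hTmem]
      refine ⟨(p.out⁻¹ * q.out).2, ?_⟩
      simp only [Subgroup.coe_mul, Subgroup.coe_inv]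
      rw [mul_smul, inv_smul_eq_iff]
      by_cases hp : (p.out : G) • α = α
      · rw [hp, h.mp hp]
      · exact hidx _ q.out.2 _ p.out.2 (fun hc => hp (h.mpr hc)) hp
    omega
  haveI hTn : (T.subgroupOf S₀).Normal := Subgroup.normal_of_index_eq_two hrel
  have hTβ : ∀ u ∈ T, u • β = β := fun u hu => by
    have h := hTn.conj_mem ⟨u, ((hTmem u).mp hu).1⟩ (Subgroup.mem_subgroupOf.mpr hu) ⟨s₀⁻¹, S₀.inv_mem hs₀⟩
    have h' : s₀⁻¹ * u * s₀⁻¹⁻¹ ∈ T := h
    rw [inv_inv] at h'
    have e := ((hTmem _).mp h').2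
    rw [mul_smul, mul_smul, inv_smul_eq_iff] at e
    exact e
  have hpair : ∀ u ∈ T, u ≠ 1 → ∀ c, u • c = c → c = α ∨ c = β := fun u hu hu1 c hc =>
    htwo u hu1 α β c ((hTmem u).mp hu).2 (hTβ u hu) hc (Ne.symm hs₀α)
  have hmul : ∀ g ∈ S₀, ∀ g' ∈ S₀, g ∉ T → g' ∉ T → g * g' ∈ T := fun g hg g' hg' h h' => by
    have := (Subgroup.mul_mem_iff_of_index_two (show (T.subgroupOf S₀).index = 2 from hrel)
      (a := ⟨g, hg⟩) (b := ⟨g', hg'⟩)).mpr (iff_of_false h h')
    exact this
  have houtβ : ∀ g ∈ S₀, g ∉ T → g • β = α := fun g hg hgT => by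
    rw [← hout g hg hgT, smul_smul]
    exact ((hTmem _).mp (hmul g hg g hg hgT hgT)).2
  by_cases hr : ∃ r ∈ S₀, r ∉ T ∧ ∃ c : Ω, r • c = c
  · right; left
    obtain ⟨r, hrS, hrT, c, hrc⟩ := hr
    have hc : c ≠ α ∧ c ≠ β := by
      constructor
      · intro h; rw [h] at hrc; exact hs₀α ((hout r hrS hrT).symm.trans hrc)
      · intro h; rw [h, houtβ r hrS hrT] at hrc; exact hs₀α hrc.symm
    have hr2 : r * r = 1 := by
      by_contra h
      rcases hpair _ (hmul r hrS r hrS hrT hrT) h c (by rw [mul_smul, hrc, hrc]) with e | e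
      · exact hc.1 e
      · exact hc.2 e
    have hr1 : r ≠ 1 := fun h => hrT (h ▸ T.one_mem)
    set rS : S₀ := ⟨r, hrS⟩
    have hmov : ∀ u ∈ T, u ≠ 1 → u • c ≠ c := fun u hu hu1 h => by
      rcases hpair u hu hu1 c h with e | e
      · exact hc.1 e
      · exact hc.2 e
    have hone : ∀ u ∈ T, ∀ v ∈ T, u ≠ 1 → v ≠ 1 → u * r = r * u → v * r = r * v → u = v := by
      intro u hu v hv hu1 hv1 hur hvr
      have hu' : r • (u • c) = u • c := by rw [smul_smul, ← hur, mul_smul, hrc]
      have hv' : r • (v • c) = v • c := by rw [smul_smul, ← hvr, mul_smul, hrc]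
      rcases htwo r hr1 c (u • c) (v • c) hrc hu' hv' (Ne.symm (hmov u hu hu1)) with h | h
      · exact absurd h (hmov v hv hv1)
      · have : u⁻¹ * v = 1 := by
          by_contra hne
          exact hmov _ (T.mul_mem (T.inv_mem hu) hv) hne (by rw [mul_smul, h, inv_smul_smul])
        exact inv_mul_eq_one.mp this
    obtain ⟨u, hu, hu1, hur⟩ : ∃ u ∈ T, u ≠ 1 ∧ u * r = r * u := by
      by_contra hcon
      push Not at hcon
      haveI : Nontrivial S₀ := ⟨rS, 1, fun h => hr1 (congrArg Subtype.val h)⟩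
      haveI := hS2.center_nontrivial
      obtain ⟨w, hw⟩ := exists_ne (1 : Subgroup.center S₀)
      have hwc : ∀ g ∈ S₀, g * ((w : S₀) : G) = ((w : S₀) : G) * g := fun g hg =>
        congrArg Subtype.val (Subgroup.mem_center_iff.mp w.2 ⟨g, hg⟩)
      have hw1 : ((w : S₀) : G) ≠ 1 := fun h => hw (Subtype.ext (Subtype.ext h))
      have hwT : ((w : S₀) : G) ∉ T := fun h => hcon _ h hw1 (hwc r hrS).symm
      have hwr : ((w : S₀) : G) * r = 1 := by
        by_contra h
        refine hcon _ (hmul _ (w : S₀).2 r hrS hwT hrT) h ?_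
        rw [mul_assoc, hr2, mul_one, ← mul_assoc, hwc r hrS, mul_assoc, hr2, mul_one]
      have he : ((w : S₀) : G) = r := by rw [eq_inv_of_mul_eq_one_left hwr, inv_eq_of_mul_eq_one_right hr2]
      exact hcon t ht ht1 (he ▸ hwc t ((hTmem t).mp ht).1)
    have hu2 : u * u = 1 := by
      by_contra h
      have := hone _ (T.mul_mem hu hu) u hu h hu1 (by rw [mul_assoc, hur, ← mul_assoc, hur, mul_assoc]) hur
      exact hu1 (mul_eq_left.mp this)
    set uS : S₀ := ⟨u, ((hTmem u).mp hu).1⟩
    have hru : r ≠ u := fun h => hrT (h ▸ hu)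
    refine ⟨dihedral_or_sd hS2 rS uS (Subtype.ext hr2) (Subtype.ext hu2) (fun h => hr1 (congrArg Subtype.val h))
      (fun h => hu1 (congrArg Subtype.val h)) (fun h => hru (congrArg Subtype.val h)) (Subtype.ext hur) ?_, Or.inr hrel⟩
    have key : ∀ d : Subgroup.centralizer ({rS} : Set S₀), ((d : S₀) : G) ∈ ({1, u, r, r * u} : Finset G) := by
      intro d
      have hd : ((d : S₀) : G) * r = r * (d : S₀) := congrArg Subtype.val (Subgroup.mem_centralizer_singleton_iff.mp d.2)
      by_cases hdT : ((d : S₀) : G) ∈ T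
      · by_cases hd1 : ((d : S₀) : G) = 1
        · simp [hd1]
        · simp [hone _ hdT u hu hd1 hu1 hd hur]
      · have hm := hmul r hrS _ (d : S₀).2 hrT hdT
        have he : ((d : S₀) : G) = r * (r * (d : S₀)) := by rw [← mul_assoc, hr2, one_mul]
        by_cases hd1 : r * ((d : S₀) : G) = 1
        · rw [hd1, mul_one] at he; simp [he]
        · rw [hone _ hm u hu hd1 hu1 (by rw [mul_assoc, hd]) hur] at he; simp [he]
    refine le_antisymm ((Nat.card_le_card_of_injective
      (fun c => (⟨_, key c⟩ : ({1, u, r, r * u} : Finset G)))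
      fun a b h => Subtype.ext (Subtype.ext (Subtype.mk.inj h))).trans (by
        rw [Nat.card_eq_finsetCard]; exact Finset.card_le_four)) ?_
    have hz : uS ∈ Subgroup.centralizer ({rS} : Set S₀) := Subgroup.mem_centralizer_singleton_iff.mpr (Subtype.ext hur)
    have htm : rS ∈ Subgroup.centralizer ({rS} : Set S₀) := Subgroup.mem_centralizer_singleton_iff.mpr rfl
    obtain ⟨i, hi⟩ := IsPGroup.iff_card.mp (hS2.to_subgroup (Subgroup.centralizer ({rS} : Set S₀)))
    haveI := Fintype.ofFinite (Subgroup.centralizer ({rS} : Set S₀))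
    have h3 : 3 ≤ 2 ^ i := by
      rw [← hi, Nat.card_eq_fintype_card]
      refine le_trans (le_of_eq ?_) (Finset.card_le_univ ({1, ⟨rS, htm⟩, ⟨uS, hz⟩} : Finset (Subgroup.centralizer ({rS} : Set S₀))))
      rw [Finset.card_insert_of_notMem (by simp [Subtype.ext_iff, rS, uS, Ne.symm hr1, Ne.symm hu1]),
        Finset.card_pair (by simp [Subtype.ext_iff, rS, uS, hru])]
    rw [hi]
    rcases i with - | - | i
    · omega
    · omega
    · exact le_trans (by norm_num) (Nat.pow_le_pow_right two_pos (show 2 ≤ i + 1 + 1 by omega))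
  -- all other orbits regular
  push Not at hr
  right; right; left
  have hsemi : ∀ c : Ω, c ≠ α → c ≠ β → ∀ g ∈ S₀, g • c = c → g = 1 := by
    intro c hcα hcβ g hg hgc
    by_contra hg1
    by_cases hgT : g ∈ T
    · rcases hpair g hgT hg1 c hgc with e | e
      · exact hcα e
      · exact hcβ e
    · exact hr g hg hgT c hgc
  have hpairinv : ∀ g ∈ S₀, ∀ c, (c = α ∨ c = β) → (g • c = α ∨ g • c = β) := by
    intro g hg c hc
    by_cases hgT : g ∈ T
    · rcases hc with rfl | rfl
      · exact Or.inl ((hTmem g).mp hgT).2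
      · exact Or.inr (hTβ g hgT)
    · rcases hc with rfl | rfl
      · exact Or.inr (hout g hg hgT)
      · exact Or.inl (houtβ g hg hgT)
  have horb : MulAction.orbit S₀ α = {α, β} := by
    ext c
    constructor
    · rintro ⟨g, rfl⟩; exact hpairinv g g.2 α (Or.inl rfl)
    · rintro (rfl | rfl)
      · exact MulAction.mem_orbit_self _
      · exact ⟨⟨s₀, hs₀⟩, rfl⟩
  have hS4 : 4 ≤ Nat.card S₀ := by
    have h := (T.subgroupOf S₀).card_mul_index
    rw [show (T.subgroupOf S₀).index = 2 from hrel, Nat.card_congr (Subgroup.subgroupOfEquivOfLe hlt.le).toEquiv] at h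
    haveI : Nontrivial T := ⟨⟨t, ht⟩, 1, fun h => ht1 (congrArg Subtype.val h)⟩
    have := Finite.one_lt_card (α := T)
    omega
  have hreg : ∀ c : Ω, c ≠ α → c ≠ β → Nat.card (MulAction.orbit S₀ c) = Nat.card S₀ := by
    intro c hcα hcβ
    have hb : MulAction.stabilizer S₀ c = ⊥ :=
      (Subgroup.eq_bot_iff_forall _).mpr fun g hg => Subtype.ext (hsemi c hcα hcβ g g.2 hg)
    rw [Nat.card_coe_set_eq, ← MulAction.index_stabilizer, hb, Subgroup.index_bot]
  refine ⟨hS4, ⟨α, ?_, fun c hc => ?_⟩, ?_⟩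
  · rw [horb, Nat.card_coe_set_eq, Set.ncard_pair (Ne.symm hs₀α)]
  · rw [horb] at hc
    exact hreg c (fun h => hc (Or.inl h)) (fun h => hc (Or.inr h))
  -- the normal subgroup of index two
  let π : G →* Equiv.Perm Ω := MulAction.toPermHom G Ω
  obtain ⟨k, hk⟩ : ∃ k, Fintype.card Ω = 2 + Nat.card S₀ * k := by
    let Ω' : SubMulAction S₀ Ω :=
      { carrier := {c | c ≠ α ∧ c ≠ β}
        smul_mem' := fun g c hc => by
          by_contra h
          have h' : (g : G) • c = α ∨ (g : G) • c = β := by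
            by_cases e : (g : G) • c = α
            · exact Or.inl e
            · right; by_contra e'; exact h ⟨e, e'⟩
          have := hpairinv _ (S₀.inv_mem g.2) _ h'
          rw [inv_smul_smul] at this
          exact this.elim hc.1 hc.2 }
    have hd : Nat.card S₀ ∣ Nat.card Ω' := by
      rw [Nat.card_congr (MulAction.selfEquivSigmaOrbits S₀ Ω'), Nat.card_sigma]
      refine Finset.dvd_sum fun o _ => dvd_of_eq ?_
      rw [Nat.card_coe_set_eq, ← MulAction.index_stabilizer,
        show MulAction.stabilizer S₀ o.out = ⊥ from (Subgroup.eq_bot_iff_forall _).mpr fun g hg =>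
          Subtype.ext (hsemi _ o.out.2.1 o.out.2.2 g g.2 (congrArg Subtype.val hg)),
        Subgroup.index_bot]
    obtain ⟨k, hk⟩ := hd
    refine ⟨k, ?_⟩
    rw [← hk, Nat.card_eq_fintype_card, ← Fintype.card_congr (Equiv.sumCompl (fun c : Ω => c = α ∨ c = β)), Fintype.card_sum]
    congr 1
    · rw [Fintype.card_subtype, show Finset.univ.filter (fun c : Ω => c = α ∨ c = β) = {α, β} by ext; simp,
        Finset.card_pair (Ne.symm hs₀α)]
    · exact Fintype.card_congr (Equiv.subtypeEquivRight fun c => by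
        show ¬ (c = α ∨ c = β) ↔ c ≠ α ∧ c ≠ β
        exact not_or)
  have hΩ'card : ∀ σ : Equiv.Perm Ω, (∀ c, σ c = c ↔ (c = α ∨ c = β)) → σ.support.card = Nat.card S₀ * k := by
    intro σ hσ
    have h1 : σ.supportᶜ = {α, β} := by ext c; simp [hσ, or_iff_not_imp_left]
    have h2 := Finset.card_compl σ.support
    rw [h1, Finset.card_pair (Ne.symm hs₀α)] at h2
    have := σ.support.card_le_univ
    omega
  obtain ⟨φ, hφT, s, hsS, hφs⟩ : ∃ φ : G →* ℤˣ, (∀ u ∈ T, φ u = 1) ∧ ∃ s ∈ S₀, φ s = -1 := by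
    obtain ⟨e, he⟩ := IsPGroup.iff_card.mp hS2
    by_cases hcyc : ∃ g ∈ S₀, orderOf g = Nat.card S₀
    · obtain ⟨g, hg, hgo⟩ := hcyc
      letI := Fintype.ofFinite G
      refine ⟨Equiv.Perm.sign.comp (MulAction.toPermHom G G), fun u hu => ?_, g, hg, ?_⟩
      all_goals
        have hsupp : ∀ x : G, x ≠ 1 → (MulAction.toPermHom G G x).support.card = orderOf (MulAction.toPermHom G G x) * (Nat.card G / orderOf x) := by
          intro x hx
          rw [orderOf_injective _ MulAction.toPerm_injective x,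
            Nat.mul_div_cancel' (orderOf_dvd_natCard x), Nat.card_eq_fintype_card, ← Finset.card_univ]
          congr 1
          ext y; simp [hx]
        have hsr : ∀ (x : G) (i : ℕ) (y : G), y ∈ (MulAction.toPermHom G G x).support →
            ((MulAction.toPermHom G G x) ^ i) y = y → (MulAction.toPermHom G G x) ^ i = 1 := by
          intro x i y _ h
          rw [← map_pow] at h ⊢
          simp at h
          rw [h, map_one]
      · by_cases hu1 : u = 1
        · rw [hu1, map_one]
        refine sign_semi _ (hsr u) (hsupp u hu1) ?_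
        have h2 : orderOf u * 2 ∣ Nat.card G := by
          refine (mul_dvd_mul_right ((Subgroup.orderOf_dvd_natCard (s := T) hu)) 2).trans ?_
          have h := (T.subgroupOf S₀).card_mul_index
          rw [show (T.subgroupOf S₀).index = 2 from hrel, Nat.card_congr (Subgroup.subgroupOfEquivOfLe hlt.le).toEquiv] at h
          rw [h]; exact Subgroup.card_subgroup_dvd_card S₀
        obtain ⟨d, hd⟩ := h2
        exact ⟨d, by rw [hd, mul_assoc, Nat.mul_div_cancel_left _ (orderOf_pos u), two_mul]⟩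
      · have hg1 : g ≠ 1 := fun h => by rw [h, orderOf_one] at hgo; omega
        show Equiv.Perm.sign (MulAction.toPermHom G G g) = -1
        rw [Cfsg.Agent.Block.Zas.sign_of_semiregular _ (hsr g) (hsupp g hg1)]
        rw [orderOf_injective _ MulAction.toPerm_injective g, hgo]
        refine Odd.neg_one_pow ?_
        have hev : Even (Nat.card S₀) := by
          rw [he] at hS4 ⊢
          exact (Nat.even_pow).mpr ⟨even_two, fun h => by rw [h] at hS4; omega⟩
        refine (hev.mul_right _).add_odd ?_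
        rw [Nat.odd_iff, ← Nat.not_even_iff, even_iff_two_dvd]
        intro h
        have hc := S.card_eq_multiplicity
        have h2 : 2 * Nat.card S₀ ∣ Nat.card G := by
          have := mul_dvd_mul_right h (Nat.card S₀)
          rwa [Nat.div_mul_cancel (Subgroup.card_subgroup_dvd_card S₀)] at this
        rw [show Nat.card S₀ = 2 ^ (Nat.card G).factorization 2 from hc, ← pow_succ'] at h2
        exact (Nat.Prime.pow_dvd_iff_le_factorization Nat.prime_two Nat.card_pos.ne').mp h2 |>.not_gt (Nat.lt_succ_self _)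
    · push Not at hcyc
      refine ⟨Equiv.Perm.sign.comp π, fun u hu => ?_, s₀, hs₀, ?_⟩
      · show Equiv.Perm.sign (π u) = 1
        by_cases hu1 : u = 1
        · rw [hu1, map_one, map_one]
        have hcard := hΩ'card (π u) fun c => ⟨fun h => hpair u hu hu1 c h, by
          rintro (rfl | rfl)
          · exact ((hTmem u).mp hu).2
          · exact hTβ u hu⟩
        have hu' : orderOf (π u) * 2 ∣ Nat.card S₀ := by
          rw [orderOf_injective π MulAction.toPerm_injective u]
          have h := (T.subgroupOf S₀).card_mul_index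
          rw [show (T.subgroupOf S₀).index = 2 from hrel, Nat.card_congr (Subgroup.subgroupOfEquivOfLe hlt.le).toEquiv] at h
          rw [← h]
          exact mul_dvd_mul_right (Subgroup.orderOf_dvd_natCard (s := T) hu) 2
        obtain ⟨d, hd⟩ := hu'
        refine sign_semi _ (fun i c hc h => ?_) (m := 2 * (d * k)) (by rw [hcard, hd]; ring) (even_two_mul _)
        rw [← map_pow] at h ⊢
        by_contra hne
        have hui : u ^ i ≠ 1 := fun e => hne (by rw [e, map_one])
        rcases hpair _ (T.pow_mem hu i) hui c h with rfl | rfl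
        · exact Equiv.Perm.mem_support.mp hc ((hTmem u).mp hu).2
        · exact Equiv.Perm.mem_support.mp hc (hTβ u hu)
      · show Equiv.Perm.sign (π s₀) = -1
        have hs₀T : s₀ ∉ T := fun h => hs₀α ((hTmem _).mp h).2
        set σ := Equiv.swap α β * π s₀ with hσdef
        have hσα : σ α = α := by simp [σ, π, ← hβ]
        have hσβ : σ β = β := by
          show Equiv.swap α β (s₀ • β) = β
          rw [houtβ s₀ hs₀ hs₀T, Equiv.swap_apply_left]
        have hσout : ∀ c, c ≠ α → c ≠ β → σ c = s₀ • c := fun c h1 h2 => by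
          show Equiv.swap α β (s₀ • c) = s₀ • c
          refine Equiv.swap_apply_of_ne_of_ne (fun h => ?_) (fun h => ?_)
          · exact h2 (MulAction.injective s₀ (h.trans (houtβ s₀ hs₀ hs₀T).symm))
          · exact h1 (MulAction.injective s₀ (h.trans hβ))
        have hσpow : ∀ i c, c ≠ α → c ≠ β → (σ ^ i) c = s₀ ^ i • c ∧ s₀ ^ i • c ≠ α ∧ s₀ ^ i • c ≠ β := by
          intro i
          induction i with
          | zero => intro c h1 h2; simp [h1, h2]
          | succ i ih =>
            intro c h1 h2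
            obtain ⟨e, e1, e2⟩ := ih c h1 h2
            have e3 : s₀ ^ (i + 1) • c = s₀ • (s₀ ^ i • c) := by rw [pow_succ', mul_smul]
            rw [pow_succ' σ, Equiv.Perm.mul_apply, e, hσout _ e1 e2, e3]
            exact ⟨rfl, fun h => e2 (MulAction.injective s₀ (h.trans (houtβ s₀ hs₀ hs₀T).symm)),
              fun h => e1 (MulAction.injective s₀ (h.trans hβ))⟩
        have hfixσ : ∀ c, σ c = c ↔ (c = α ∨ c = β) := fun c => by
          refine ⟨fun h => ?_, by rintro (rfl | rfl) <;> assumption⟩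
          by_contra hn
          push Not at hn
          rw [hσout c hn.1 hn.2] at h
          exact hr s₀ hs₀ hs₀T c h
        have hone : ∀ i, s₀ ^ i = 1 → σ ^ i = 1 := fun i hi => Equiv.ext fun c => by
          by_cases h : c = α ∨ c = β
          · rcases h with rfl | rfl
            · exact Equiv.Perm.pow_apply_eq_self_of_apply_eq_self hσα i
            · exact Equiv.Perm.pow_apply_eq_self_of_apply_eq_self hσβ i
          · push Not at h
            rw [(hσpow i c h.1 h.2).1, hi, one_smul]; rfl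
        have hd2 : orderOf σ * 2 ∣ Nat.card S₀ := by
          have h1 : orderOf σ ∣ orderOf s₀ := orderOf_dvd_of_pow_eq_one (hone _ (pow_orderOf_eq_one s₀))
          refine (mul_dvd_mul_right h1 2).trans ?_
          have h2 : orderOf s₀ ∣ Nat.card S₀ := Subgroup.orderOf_dvd_natCard (s := S₀) hs₀
          rw [he] at h2 ⊢
          obtain ⟨j, hj, hje⟩ := (Nat.dvd_prime_pow Nat.prime_two).mp h2
          rw [hje, ← pow_succ]
          refine pow_dvd_pow 2 ?_
          have : j ≠ e := fun h => hcyc s₀ hs₀ (by rw [hje, h, he])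
          omega
        obtain ⟨d, hd⟩ := hd2
        have hσsign : Equiv.Perm.sign σ = 1 := by
          refine sign_semi σ (fun i c hc h => ?_) (m := 2 * (d * k)) (by rw [hΩ'card σ hfixσ, hd]; ring) (even_two_mul _)
          have hc' : c ≠ α ∧ c ≠ β := not_or.mp fun e => Equiv.Perm.mem_support.mp hc ((hfixσ c).mpr e)
          rw [(hσpow i c hc'.1 hc'.2).1] at h
          exact hone i (hsemi c hc'.1 hc'.2 _ (S₀.pow_mem hs₀ i) h)
        rw [hσdef, map_mul, Equiv.Perm.sign_swap (Ne.symm hs₀α), neg_one_mul, neg_eq_iff_eq_neg] at hσsign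
        exact hσsign
  -- the point stabilizer lies in the kernel
  haveI := htr
  have hcardG : Nat.card Gα * Fintype.card Ω = Nat.card G := by
    rw [← Nat.card_eq_fintype_card, ← MulAction.index_stabilizer_of_transitive G α, Subgroup.card_mul_index]
  have hTGα : T ≤ Gα := inf_le_right
  have h2T : ¬ 2 ∣ (T.subgroupOf Gα).index := by
    intro h2
    have hcm := (T.subgroupOf Gα).card_mul_index
    rw [Nat.card_congr (Subgroup.subgroupOfEquivOfLe hTGα).toEquiv] at hcm
    have hTc : Nat.card T * 2 = Nat.card S₀ := by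
      have h := (T.subgroupOf S₀).card_mul_index
      rwa [show (T.subgroupOf S₀).index = 2 from hrel, Nat.card_congr (Subgroup.subgroupOfEquivOfLe hlt.le).toEquiv] at h
    have heven : 2 ∣ Fintype.card Ω := by
      rw [hk, ← hTc]; exact dvd_add dvd_rfl (Dvd.dvd.mul_right (dvd_mul_left 2 _) k)
    obtain ⟨a, ha⟩ := h2
    obtain ⟨b, hb⟩ := heven
    have hdvd : 2 * Nat.card S₀ ∣ Nat.card G := by
      rw [← hcardG, ← hcm, ha, hb, ← hTc]
      exact ⟨a * b, by ring⟩
    rw [S.card_eq_multiplicity, ← pow_succ'] at hdvd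
    exact (Nat.Prime.pow_dvd_iff_le_factorization Nat.prime_two Nat.card_pos.ne').mp hdvd |>.not_gt (Nat.lt_succ_self _)
  have hT2 : IsPGroup 2 (T.subgroupOf Gα) :=
    (hS2.to_le hlt.le).of_equiv (Subgroup.subgroupOfEquivOfLe hTGα).symm
  let TS : Sylow 2 Gα := hT2.toSylow h2T
  have hconjT : ∀ y : Gα, (∃ i, orderOf y = 2 ^ i) → ∃ h : Gα, (h : G) * y * (h : G)⁻¹ ∈ T := by
    intro y ⟨i, hi⟩
    obtain ⟨Q, hQ⟩ := (IsPGroup.of_card (show Nat.card (Subgroup.zpowers y) = 2 ^ i by rw [Nat.card_zpowers, hi])).exists_le_sylow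
    obtain ⟨h, hh⟩ := MulAction.exists_smul_eq Gα Q TS
    refine ⟨h, ?_⟩
    have hy : h * y * h⁻¹ ∈ (TS : Subgroup Gα) := by
      rw [← hh, Sylow.coe_subgroup_smul, Subgroup.mem_pointwise_smul_iff_inv_smul_mem]
      have e : ((MulAut.conj h)⁻¹ • (h * y * h⁻¹) : Gα) = y := by
        rw [MulAut.smul_def]
        show h⁻¹ * (h * y * h⁻¹) * h = y
        group
      rw [e]; exact hQ (Subgroup.mem_zpowers y)
    exact hy
  have hGα : ∀ x ∈ Gα, φ x = 1 := by
    intro x hx
    rcases Int.units_eq_one_or (φ x) with h | h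
    · exact h
    exfalso
    obtain ⟨e, m, hm2, hem⟩ := Nat.exists_eq_pow_mul_and_not_dvd (orderOf_pos x).ne' 2 (by norm_num)
    have hm : Odd m := Nat.odd_iff.mpr (Nat.two_dvd_ne_zero.mp hm2)
    have hy : φ (x ^ m) = -1 := by rw [map_pow, h, hm.neg_one_pow]
    have hord : orderOf (x ^ m) = 2 ^ e := by
      rw [orderOf_pow' _ (fun hm0 => hm2 (by rw [hm0]; exact dvd_zero 2)), hem, Nat.gcd_eq_right (dvd_mul_left m _),
        Nat.mul_div_cancel _ (Nat.pos_of_ne_zero fun hm0 => hm2 (by rw [hm0]; exact dvd_zero 2))]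
    obtain ⟨g, hg⟩ := hconjT ⟨x ^ m, pow_mem hx m⟩ ⟨e, by rw [← Subgroup.orderOf_coe]; exact hord⟩
    have := hφT _ hg
    rw [map_mul, map_mul, map_inv, mul_comm (φ (g : G)), mul_inv_cancel_right] at this
    rw [hy] at this
    exact absurd this (by decide)
  have hsT : s ∉ T := fun h => by rw [hφT s h] at hφs; exact absurd hφs (by decide)
  have hsα : s • α = β := hout s hsS hsT
  refine ⟨φ.ker, inferInstance, Or.inl (index_two_hom φ hφs), Gα.subgroupOf φ.ker, ?_, ?_, ?_⟩
  · intro h
    have : (⟨t, hφT t ht⟩ : φ.ker) ∈ Gα.subgroupOf φ.ker := ((hTmem t).mp ht).2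
    rw [h, Subgroup.mem_bot] at this
    exact ht1 (congrArg Subtype.val this)
  · intro h
    have hle : φ.ker ≤ Gα := Subgroup.subgroupOf_eq_top.mp h
    refine ht1 (FaithfulSMul.eq_of_smul_eq_smul (α := Ω) fun c => ?_)
    obtain ⟨g, rfl⟩ := MulAction.exists_smul_eq G α c
    have h1 : g⁻¹ * t * g ∈ φ.ker := by
      rw [MonoidHom.mem_ker, map_mul, map_mul, hφT t ht, map_inv, mul_one, inv_mul_cancel]
    have h2 : (g⁻¹ * t * g) • α = α := hle h1
    rw [mul_smul, mul_smul, inv_smul_eq_iff] at h2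
    rw [h2, one_smul]
  intro g hg
  refine (Subgroup.eq_bot_iff_forall _).mpr fun x hx => ?_
  obtain ⟨hx1, hx2⟩ := Subgroup.mem_inf.mp hx
  rw [Subgroup.mem_pointwise_smul_iff_inv_smul_mem] at hx2
  have hxα : (x : G) • α = α := hx1
  have hxγ : (x : G) • ((g : G) • α) = (g : G) • α := by
    have h2 : (((MulAut.conj g)⁻¹ • x : φ.ker) : G) • α = α := hx2
    have h3 : ((g : G)⁻¹ * x * g) • α = α := by simpa using h2
    rw [mul_smul, mul_smul, inv_smul_eq_iff] at h3
    exact h3
  by_contra hne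
  set γ := (g : G) • α
  have hγα : γ ≠ α := fun h => hg h
  -- `β` is outside the orbit of `α`
  have hβN : ∀ n : G, φ n = 1 → n • α ≠ β := by
    intro n hn hc
    have hm : n⁻¹ * s ∈ Gα := by
      show (n⁻¹ * s) • α = α
      rw [mul_smul, hsα, inv_smul_eq_iff, hc]
    have := hGα _ hm
    rw [map_mul, map_inv, hn, hφs, inv_one, one_mul] at this
    exact absurd this (by decide)
  obtain ⟨p, hp, hpd⟩ := Nat.exists_prime_and_dvd (show orderOf x ≠ 1 from fun h => hne (orderOf_eq_one_iff.mp h))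
  haveI : Fact p.Prime := ⟨hp⟩
  set y : φ.ker := x ^ (orderOf x / p)
  have hy : orderOf y = p := orderOf_pow_orderOf_div (orderOf_pos x).ne' hpd
  have hy1 : (y : G) ≠ 1 := fun h => by
    rw [show y = 1 from Subtype.ext h, orderOf_one] at hy; exact hp.ne_one hy.symm
  have hyα : (y : G) • α = α := by
    show (y : G) ∈ Gα
    rw [Subgroup.coe_pow]
    exact pow_mem hxα _
  have hyγ : (y : G) • γ = γ := by
    show (y : G) ∈ MulAction.stabilizer G γ
    rw [Subgroup.coe_pow]
    exact pow_mem hxγ _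
  have hyfix : ∀ c, (y : G) • c = c → c = α ∨ c = γ := fun c hc => htwo _ hy1 α γ c hyα hyγ hc (Ne.symm hγα)
  by_cases hp2 : p = 2
  · subst hp2
    obtain ⟨h, hh⟩ := hconjT ⟨(y : G), hyα⟩ ⟨1, by rw [← Subgroup.orderOf_coe, pow_one]; exact (Subgroup.orderOf_coe y).trans hy⟩
    have hhα : (h : G) • α = α := h.2
    have hc : ((h : G) * y * (h : G)⁻¹) • ((h : G) • γ) = (h : G) • γ := by
      rw [smul_smul, inv_mul_cancel_right, mul_smul, hyγ]
    rcases hpair _ hh (fun e => hy1 (conj_eq_one_iff.mp e)) _ hc with e | e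
    · exact hγα (MulAction.injective (h : G) (e.trans hhα.symm))
    · exact hβN ((h : G) * g) (by rw [map_mul, hGα _ h.2, one_mul]; exact g.2) (by rw [mul_smul]; exact e)
  -- count fixed points of `y` on the two orbits
  have hP : IsPGroup p (Subgroup.zpowers y) := IsPGroup.of_card (n := 1) (by rw [Nat.card_zpowers, hy, pow_one])
  set O1 := MulAction.orbit φ.ker α
  set O2 := MulAction.orbit φ.ker β
  have hfy : ∀ (O : Set Ω) [MulAction (Subgroup.zpowers y) O], (∀ (k : Subgroup.zpowers y) (c : O), ((k • c : O) : Ω) = ((k : φ.ker) : G) • (c : Ω)) →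
      ∀ c : O, c ∈ MulAction.fixedPoints (Subgroup.zpowers y) O ↔ (y : G) • (c : Ω) = c := by
    intro O _ hsm c
    constructor
    · intro h
      have := congrArg Subtype.val (h ⟨y, Subgroup.mem_zpowers y⟩)
      rwa [hsm] at this
    · rintro h ⟨k, hk⟩
      obtain ⟨i, rfl⟩ := Subgroup.mem_zpowers_iff.mp hk
      refine Subtype.ext ?_
      rw [hsm]
      show ((y ^ i : φ.ker) : G) • (c : Ω) = c
      have hm : (y : G) ∈ MulAction.stabilizer G (c : Ω) := h
      rw [Subgroup.coe_zpow]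
      exact zpow_mem hm i
  have hm1 := hP.card_modEq_card_fixedPoints O1
  have hm2 := hP.card_modEq_card_fixedPoints O2
  have hαO : α ∈ O1 := MulAction.mem_orbit_self α
  have hγO : γ ∈ O1 := ⟨g, rfl⟩
  have hf1 : Nat.card (MulAction.fixedPoints (Subgroup.zpowers y) O1) = 2 := by
    refine Nat.card_eq_two_iff.mpr ⟨⟨⟨α, hαO⟩, (hfy O1 (fun _ _ => rfl) _).mpr hyα⟩,
      ⟨⟨γ, hγO⟩, (hfy O1 (fun _ _ => rfl) _).mpr hyγ⟩, fun e => hγα (congrArg (fun c => (c.1 : Ω)) e).symm, ?_⟩
    ext c
    simp only [Set.mem_insert_iff, Set.mem_singleton_iff, Set.mem_univ, iff_true]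
    exact (hyfix _ ((hfy O1 (fun _ _ => rfl) _).mp c.2)).imp (fun e => Subtype.ext (Subtype.ext e)) (fun e => Subtype.ext (Subtype.ext e))
  have hf2 : Nat.card (MulAction.fixedPoints (Subgroup.zpowers y) O2) = 0 := by
    rw [Nat.card_eq_zero]
    left
    refine ⟨fun c => ?_⟩
    have h := (hfy O2 (fun _ _ => rfl) _).mp c.2
    obtain ⟨n, hn⟩ := MulAction.mem_orbit_iff.mp c.1.2
    have hn' : (n : G) • β = (c.1 : Ω) := hn
    have hinv : φ ((n : G)⁻¹) = 1 := by rw [map_inv, n.2, inv_one]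
    rcases hyfix _ h with e | e
    · exact hβN _ hinv (by rw [inv_smul_eq_iff, hn', e])
    · refine hβN ((n : G)⁻¹ * g) (by rw [map_mul, hinv, one_mul]; exact g.2) ?_
      rw [mul_smul, inv_smul_eq_iff, hn', e]
  have hO : Nat.card O1 = Nat.card O2 := by
    have hk1 : ∀ n : φ.ker, s * n * s⁻¹ ∈ φ.ker := fun n => (inferInstance : φ.ker.Normal).conj_mem _ n.2 s
    have hk2 : ∀ n : φ.ker, s⁻¹ * n * s ∈ φ.ker := fun n => by
      simpa using (inferInstance : φ.ker.Normal).conj_mem _ n.2 s⁻¹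
    refine Nat.card_congr (Equiv.subtypeEquiv (MulAction.toPerm s) fun c => ?_)
    show c ∈ O1 ↔ s • c ∈ O2
    constructor
    · rintro ⟨n, rfl⟩
      refine ⟨⟨_, hk1 n⟩, ?_⟩
      show (s * (n : G) * s⁻¹) • β = s • ((n : G) • α)
      rw [← hsα, smul_smul, inv_mul_cancel_right, mul_smul]
    · rintro ⟨n, hn⟩
      refine ⟨⟨_, hk2 n⟩, ?_⟩
      show (s⁻¹ * (n : G) * s) • α = c
      rw [mul_smul, mul_smul, hsα, show (n : G) • β = s • c from hn, inv_smul_smul]
  rw [hf1, hO] at hm1
  rw [hf2] at hm2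
  have h02 : p ∣ 2 := Nat.modEq_zero_iff_dvd.mp (hm1.symm.trans hm2)
  exact hp2 ((Nat.prime_dvd_prime_iff_eq hp Nat.prime_two).mp h02)

end Cfsg.Agent.S3390
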