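import Cfsg.Statements.S2791
import Cfsg.Agent.Lib.Invol.FunctorControl
import Cfsg.Agent.Lib.Invol.LargeSubgroup
-- import your own Cfsg.Agent.* helpers here

set_option autoImplicit false
open Cfsg

namespace Cfsg.Agent.S2791

variable {G : Type*} [Group G]

theorem factor_sylow [Finite G] {p : ℕ} [Fact p.Prime] {M C : Subgroup G} (hCM : C ≤ M)
    (hMC : M ≤ Subgroup.normalizer (C : Set G)) (hp : ∀ m ∈ M, (orderOf m).Coprime p → m ∈ C)
    (Q : Sylow p M) {m : G} (hm : m ∈ M) :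
    ∃ q ∈ (Q : Subgroup M).map M.subtype, ∃ c ∈ C, m = q * c := by
  haveI : (C.subgroupOf M).Normal := (Subgroup.normal_subgroupOf_iff_le_normalizer hCM).mpr hMC
  have hquot : IsPGroup p (M ⧸ C.subgroupOf M) := by
    intro x
    obtain ⟨y, rfl⟩ := QuotientGroup.mk_surjective x
    obtain ⟨j, hj⟩ := Cfsg.Agent.Invol.exists_pow_coprime (p := p) (y : G)
    refine ⟨j, ?_⟩
    rw [← QuotientGroup.mk_pow, QuotientGroup.eq_one_iff, Subgroup.mem_subgroupOf, SubgroupClass.coe_pow]
    exact hp _ (M.pow_mem y.2 _) hj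
  have htop : ((Q : Subgroup M).map (QuotientGroup.mk' (C.subgroupOf M))) = ⊤ :=
    ((Q.mapSurjective (QuotientGroup.mk'_surjective (C.subgroupOf M))).3 (hquot.to_subgroup ⊤) le_top).symm
  obtain ⟨q, hq, he⟩ := htop.ge (Subgroup.mem_top (QuotientGroup.mk' (C.subgroupOf M) ⟨m, hm⟩))
  exact ⟨q, ⟨q, hq, rfl⟩, (q : G)⁻¹ * m, Subgroup.mem_subgroupOf.mp (QuotientGroup.eq.mp he), by simp⟩

/-- Let S be a Sylow p-subgroup of the finite group G and A an abelian subgroup of S that is strongly closed in S with respect to G. Then A controls strong fusion in G: for some Sylow p-subgroup T containing A, whenever a subset of T is conjugated into T by an element of G, the same elementwise conjugation is induced by an element of N_G(A). -/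
theorem result {G : Type*} [Group G] [Finite G] {p : ℕ} [Fact p.Prime] (S : Sylow p G) (A : Subgroup G) (hA : IsMulCommutative ↥A) (hsc : Cfsg.IsStronglyClosed A (S : Subgroup G)) : Cfsg.ControlsStrongFusion p A := by
  obtain ⟨hUS, hcl⟩ := hsc
  refine ⟨S, hUS, ?_⟩
  set U := A with hU
  clear_value U
  let Ag : Set G → G → Prop := fun B g => ∃ x ∈ Subgroup.normalizer (U : Set G), ∀ b ∈ B, g * b * g⁻¹ = x * b * x⁻¹
  have hmul : ∀ (B : Set G) (x y : G), Ag B x → Ag ((fun a => x * a * x⁻¹) '' B) y → Ag B (y * x) := by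
    rintro B x y ⟨x', hx', hx''⟩ ⟨y', hy', hy''⟩
    refine ⟨y' * x', Subgroup.mul_mem _ hy' hx', fun b hb => ?_⟩
    have h := hy'' _ ⟨b, hb, rfl⟩
    calc y * x * b * (y * x)⁻¹ = y * (x * b * x⁻¹) * y⁻¹ := by group
      _ = y' * (x * b * x⁻¹) * y'⁻¹ := h
      _ = y' * x' * b * (y' * x')⁻¹ := by rw [hx'' b hb]; group
  have hone : ∀ B, Ag B 1 := fun B => ⟨1, Subgroup.one_mem _, fun b _ => rfl⟩
  have hSU : (S : Subgroup G) ≤ Subgroup.normalizer (U : Set G) := fun s hs =>
    Subgroup.mem_normalizer_fintype fun u hu => hcl u hu s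
      (S.toSubgroup.mul_mem (S.toSubgroup.mul_mem hs (hUS hu)) (S.toSubgroup.inv_mem hs))
  have hstep : ∀ (k : ℕ) (D : Subgroup G), Nat.card (S : Subgroup G) - Nat.card D = k → Cfsg.Agent.Invol.Tame S D →
      ∀ n ∈ Subgroup.normalizer (D : Set G), ∀ B : Set G, B ⊆ D → Ag B n := by
    intro k
    induction k using Nat.strong_induction_on with
    | _ k ih =>
    intro D hk hT n hn B hB
    obtain ⟨hDS, hTs⟩ := hT
    set N := Subgroup.normalizer (D : Set G) with hN
    by_cases hUD : U ≤ D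
    · refine ⟨n, Subgroup.mem_normalizer_fintype fun u hu => ?_, fun b _ => rfl⟩
      exact hcl u hu n (hDS ((Subgroup.mem_normalizer_iff.mp hn u).mp (hUD hu)))
    have hBN : ∀ m ∈ N, ∀ b ∈ U ⊓ D, m * b * m⁻¹ ∈ U ⊓ D := fun m hm b hb =>
      ⟨hcl b hb.1 m (hDS ((Subgroup.mem_normalizer_iff.mp hm b).mp hb.2)), (Subgroup.mem_normalizer_iff.mp hm b).mp hb.2⟩
    let M : Subgroup G :=
      { carrier := {m | m ∈ N ∧ (∀ b ∈ U ⊓ D, m * b * m⁻¹ = b) ∧ ∀ d ∈ D, m * d * m⁻¹ * d⁻¹ ∈ U ⊓ D}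
        one_mem' := ⟨N.one_mem, fun b _ => by simp, fun d _ => by simp⟩
        mul_mem' := by
          rintro a b ⟨ha, ha', ha''⟩ ⟨hb, hb', hb''⟩
          refine ⟨N.mul_mem ha hb, fun c hc => ?_, fun d hd => ?_⟩
          · rw [show a * b * c * (a * b)⁻¹ = a * (b * c * b⁻¹) * a⁻¹ by group, hb' c hc, ha' c hc]
          · rw [show a * b * d * (a * b)⁻¹ * d⁻¹ = a * (b * d * b⁻¹ * d⁻¹) * a⁻¹ * (a * d * a⁻¹ * d⁻¹) by group,
              ha' _ (hb'' d hd)]
            exact Subgroup.mul_mem _ (hb'' d hd) (ha'' d hd)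
        inv_mem' := by
          rintro a ⟨ha, ha', ha''⟩
          refine ⟨N.inv_mem ha, fun c hc => ?_, fun d hd => ?_⟩
          · calc a⁻¹ * c * a⁻¹⁻¹ = a⁻¹ * (a * c * a⁻¹) * a := by rw [ha' c hc, inv_inv]
              _ = c := by group
          · have h := Subgroup.inv_mem _ (ha'' _ ((Subgroup.mem_normalizer_iff''.mp ha d).mp hd))
            simpa [mul_assoc] using h }
    have hMN : M ≤ N := fun _ h => h.1
    have hNM : ∀ y ∈ N, ∀ m ∈ M, y * m * y⁻¹ ∈ M := by
      rintro y hy m ⟨hm, hm', hm''⟩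
      refine ⟨N.mul_mem (N.mul_mem hy hm) (N.inv_mem hy), fun b hb => ?_, fun d hd => ?_⟩
      · have hb' := hBN y⁻¹ (N.inv_mem hy) b hb
        calc y * m * y⁻¹ * b * (y * m * y⁻¹)⁻¹ = y * (m * (y⁻¹ * b * y⁻¹⁻¹) * m⁻¹) * y⁻¹ := by group
          _ = y * (y⁻¹ * b * y⁻¹⁻¹) * y⁻¹ := by rw [hm' _ hb']
          _ = b := by group
      · rw [show y * m * y⁻¹ * d * (y * m * y⁻¹)⁻¹ * d⁻¹ =
          y * (m * (y⁻¹ * d * y) * m⁻¹ * (y⁻¹ * d * y)⁻¹) * y⁻¹ by group]
        exact hBN y hy _ (hm'' _ ((Subgroup.mem_normalizer_iff''.mp hy d).mp hd))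
    set Q0 := ((S : Subgroup G) ⊓ M).subgroupOf M with hQ0
    have hQ0p : IsPGroup p Q0 := (S.isPGroup'.to_le inf_le_left).comap_subtype
    have hQ0i : ¬ p ∣ Q0.index := by
      set M' := M.subgroupOf N with hM'
      haveI : M'.Normal := ⟨fun x hx y => hNM y y.2 x hx⟩
      have hSN : IsPGroup p ↥(((S : Subgroup G) ⊓ N).subgroupOf N) := (S.isPGroup'.to_le inf_le_left).comap_subtype
      set SN : Sylow p N := hSN.toSylow hTs.2.2 with hSN'
      have h1 := Cfsg.Agent.Grp.sylow_inf_normal_relIndex SN M'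
      have he : (SN : Subgroup N) = ((S : Subgroup G) ⊓ N).subgroupOf N := rfl
      rw [he, hM', Subgroup.relIndex_subgroupOf hMN] at h1
      intro hd
      rw [← Subgroup.inf_relIndex_right, inf_assoc, inf_eq_right.mpr hMN] at h1
      exact h1 hd
    set Q : Sylow p M := hQ0p.toSylow hQ0i with hQ
    set PM := (S : Subgroup G) ⊓ M with hPM
    have hQmap : (Q : Subgroup M).map M.subtype = PM := Subgroup.map_subgroupOf_eq_of_le inf_le_right
    set R := D ⊔ PM with hR
    have hRS : R ≤ (S : Subgroup G) := sup_le hDS inf_le_left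
    have hlt : Nat.card D < Nat.card R := by
      rcases lt_or_eq_of_le (Subgroup.card_le_of_le (le_sup_left : D ≤ R)) with h | h
      · exact h
      exfalso
      have hRD : R = D := (Subgroup.eq_of_le_of_card_ge le_sup_left h.ge).symm
      set X := U ⊔ D with hX
      have hXS : X ≤ (S : Subgroup G) := sup_le hUS hDS
      haveI : Group.IsNilpotent ↥X := (S.isPGroup'.to_le hXS).isNilpotent
      have hDX : D.subgroupOf X < ⊤ := lt_top_iff_ne_top.mpr fun e =>
        hUD (le_sup_left.trans (Subgroup.subgroupOf_eq_top.mp e))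
      obtain ⟨⟨w, hw⟩, hwN, hwD⟩ := SetLike.exists_of_lt (Group.normalizerCondition_of_isNilpotent _ hDX)
      have hwN' : w ∈ N := Subgroup.mem_normalizer_fintype fun d hd =>
        (Subgroup.mem_normalizer_iff.mp hwN ⟨d, Subgroup.mem_sup_right hd⟩).mp hd
      have hw' : w ∈ ((U ⊔ D : Subgroup G) : Set G) := hw
      rw [sup_comm, Subgroup.coe_mul_of_left_le_normalizer_right _ _ (hDS.trans hSU)] at hw'
      obtain ⟨d, hd, u, hu, rfl⟩ := hw'
      have huN : u ∈ N := by
        have := N.mul_mem (N.inv_mem (Subgroup.le_normalizer hd)) hwN'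
        simpa using this
      have huM : u ∈ M := by
        refine ⟨huN, fun b hb => ?_, fun e he => ⟨?_, ?_⟩⟩
        · rw [show u * b = b * u from congrArg Subtype.val (hA.is_comm.comm ⟨u, hu⟩ ⟨b, hb.1⟩), mul_inv_cancel_right]
        · rw [show u * e * u⁻¹ * e⁻¹ = u * (e * u⁻¹ * e⁻¹) by group]
          exact U.mul_mem hu ((Subgroup.mem_normalizer_iff.mp (hSU (hDS he)) _).mp (U.inv_mem hu))
        · exact D.mul_mem ((Subgroup.mem_normalizer_iff.mp huN e).mp he) (D.inv_mem he)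
      exact hwD (D.mul_mem hd (hRD.le (Subgroup.mem_sup_right ⟨hUS hu, huM⟩)))
    have hstepR : ∀ g : G, (fun a => g * a * g⁻¹) '' (R : Set G) ⊆ (S : Subgroup G) → Ag R g := by
      intro g hg
      refine Cfsg.Agent.Invol.alperin_induct_big S Ag hone hmul (Nat.card D) (fun D' hD' hcard n' hn' B' hB' =>
        ih _ ?_ D' rfl hD' n' hn' B' hB') hRS hg (by rw [Subgroup.closure_eq]; exact hlt)
      have h1 := Subgroup.card_le_of_le hD'.1
      omega
    -- Frattini
    set C := M ⊓ Subgroup.centralizer (D : Set G) with hC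
    obtain ⟨m, hm⟩ : ∃ m : M, ∀ t, t ∈ PM → (m : G) * (n * t * n⁻¹) * (m : G)⁻¹ ∈ PM := by
      set e : G →* G := (MulAut.conj n).toMonoidHom
      have hmap : PM.map e ≤ M := by
        rintro _ ⟨t, ht, rfl⟩
        exact hNM n hn t ht.2
      have hcard : Nat.card ((PM.map e).subgroupOf M) = Nat.card Q0 := by
        rw [Nat.card_congr (Subgroup.subgroupOfEquivOfLe hmap).toEquiv,
          ← Nat.card_congr (PM.equivMapOfInjective e (MulAut.conj n).injective).toEquiv,
          ← Nat.card_congr (Subgroup.subgroupOfEquivOfLe (inf_le_right : PM ≤ M)).toEquiv]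
      have hi : ¬ p ∣ ((PM.map e).subgroupOf M).index := by
        have h1 := ((PM.map e).subgroupOf M).card_mul_index
        rw [hcard, ← Q0.card_mul_index] at h1
        rwa [Nat.eq_of_mul_eq_mul_left Nat.card_pos h1]
      set Q2 : Sylow p M := (((S.isPGroup'.to_le inf_le_left).map e).comap_subtype (K := M)).toSylow hi with hQ2
      obtain ⟨m, hm⟩ := MulAction.exists_smul_eq M Q2 Q
      refine ⟨m, fun t ht => ?_⟩
      have h2 : m * (⟨n * t * n⁻¹, hmap ⟨t, ht, rfl⟩⟩ : M) * m⁻¹ ∈ (Q : Subgroup M) := by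
        rw [← hm, Sylow.coe_subgroup_smul, Subgroup.mem_pointwise_smul_iff_inv_smul_mem]
        rw [← map_inv, MulAut.smul_def, MulAut.conj_apply]
        simp only [mul_assoc, inv_mul_cancel_left, inv_inv, inv_mul_cancel, mul_one]
        exact ⟨t, ht, by simp [e, mul_assoc]⟩
      exact h2
    -- `m n = n'` normalizes `PM`; write `n = m⁻¹ n'` and conjugate the `M`-part across
    set n' := (m : G) * n with hn'
    have hn'N : n' ∈ N := N.mul_mem (hMN m.2) hn
    set m' := n'⁻¹ * (m : G)⁻¹ * n' with hm'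
    have hm'M : m' ∈ M := by
      have := hNM n'⁻¹ (N.inv_mem hn'N) _ (M.inv_mem m.2)
      simpa [hm'] using this
    obtain ⟨q, hq, c, hc, hqc⟩ := factor_sylow (C := C) inf_le_left
      (fun y hy => Subgroup.mem_normalizer_fintype fun z hz => ⟨M.mul_mem (M.mul_mem hy hz.1) (M.inv_mem hy),
        Subgroup.mem_centralizer_iff.mpr fun d hd => by
          have h1 := Subgroup.mem_centralizer_iff.mp hz.2 _ ((Subgroup.mem_normalizer_iff''.mp (hMN hy) d).mp hd)
          calc d * (y * z * y⁻¹) = y * (y⁻¹ * d * y * z) * y⁻¹ := by group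
            _ = y * (z * (y⁻¹ * d * y)) * y⁻¹ := by rw [h1]
            _ = y * z * y⁻¹ * d := by group⟩)
      (fun x hx hxo => ⟨hx, Subgroup.mem_centralizer_iff.mpr fun d hd =>
        ((Cfsg.Agent.Invol.lg_stab_commute (S.isPGroup'.to_le hDS) hxo
          (mul_inv_eq_iff_eq_mul.mp (hx.2.1 _ (hx.2.2 d hd))) (hx.2.2 d hd).2).eq).symm⟩)
      Q hm'M
    rw [hQmap] at hq
    have hq' : ∀ t ∈ R, q * t * q⁻¹ ∈ R := fun t ht =>
      R.mul_mem (R.mul_mem (Subgroup.mem_sup_right hq) ht) (R.inv_mem (Subgroup.mem_sup_right hq))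
    have hn'R : ∀ t ∈ R, n' * t * n'⁻¹ ∈ R := by
      intro t ht
      have h : R.map (MulAut.conj n').toMonoidHom ≤ R := by
        rw [hR, Subgroup.map_sup]
        refine sup_le_sup ?_ ?_
        · rintro _ ⟨d, hd, rfl⟩
          exact (Subgroup.mem_normalizer_iff.mp hn'N d).mp hd
        · rintro _ ⟨d, hd, rfl⟩
          have := hm d hd
          simpa [hn', mul_assoc] using this
      exact h ⟨t, ht, rfl⟩
    obtain ⟨x, hx, hx'⟩ := hstepR (n' * q) (by
      rintro _ ⟨t, ht, rfl⟩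
      refine hRS ?_
      simpa [mul_assoc] using hn'R _ (hq' t ht))
    refine ⟨x, hx, fun b hb => ?_⟩
    have hcb := Subgroup.mem_centralizer_iff.mp hc.2 b (hB hb)
    calc n * b * n⁻¹ = n' * m' * b * (n' * m')⁻¹ := by rw [hm', hn']; group
      _ = n' * q * (c * b * c⁻¹) * (n' * q)⁻¹ := by rw [hqc]; group
      _ = n' * q * b * (n' * q)⁻¹ := by rw [← hcb, mul_inv_cancel_right]
      _ = x * b * x⁻¹ := hx' b (Subgroup.mem_sup_left (hB hb))
  intro B hB
  refine ⟨hB, fun g hg => ?_⟩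
  exact Cfsg.Agent.Invol.alperin_induct S Ag hone hmul (fun D hD => hstep _ D rfl hD) hB hg

end Cfsg.Agent.S2791
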