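import Cfsg.Statements.S0379
import Cfsg.Agent.Lib.Spor.Golay.CensusSimple
import Cfsg.Agent.Lib.Spor.Golay.CensusElem
import Cfsg.Agent.Lib.Spor.Golay.CensusNested
import Cfsg.Agent.Lib.Spor.Golay.M24Frames

set_option autoImplicit false
open Cfsg

namespace Cfsg.Agent.S0379

open Cfsg.Agent.Spor.Golay Cfsg.Agent.Spor.Golay.Census
open scoped Pointwise

/-- A two-point stabiliser in the group of the length-24 code is simple. -/
theorem result (p q : Cfsg.GolayPt) (hpq : p ≠ q) : IsSimpleGroup ↥(MulAction.stabilizer Cfsg.M24 p ⊓ MulAction.stabilizer Cfsg.M24 q) := by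
  haveI := simple_M22
  obtain ⟨a, ha, rfl, rfl⟩ := exists_two hpq
  have hK : ∀ g : Cfsg.M24, g ∈ MulAction.stabilizer Cfsg.M24 (pt 1, pt 0) ↔ (g : Equiv.Perm Cfsg.GolayPt) ∈ Fx [[2], [1]] := by
    intro g
    rw [← stabilizer_two, MulAction.mem_stabilizer_iff, MulAction.mem_stabilizer_iff, Prod.smul_mk, Prod.smul_mk,
      Prod.mk.injEq, Prod.mk.injEq, Subgroup.smul_def, Subgroup.smul_def, Subgroup.smul_def, Subgroup.smul_def,
      show (2 : ℕ) = 2 ^ 1 from rfl, show (1 : ℕ) = 2 ^ 0 from rfl, smul_pts_point (by norm_num),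
      smul_pts_point (by norm_num)]
    rfl
  have e : MulAction.stabilizer Cfsg.M24 (a (pt 0)) ⊓ MulAction.stabilizer Cfsg.M24 (a (pt 1)) =
      MulAction.stabilizer Cfsg.M24 ((⟨a, ha⟩ : Cfsg.M24) • (pt 1, pt 0)) := by
    ext g
    rw [Subgroup.mem_inf, MulAction.mem_stabilizer_iff, MulAction.mem_stabilizer_iff, MulAction.mem_stabilizer_iff,
      Prod.smul_mk, Prod.smul_mk, Prod.mk.injEq]
    exact and_comm
  exact ((MulEquiv.subgroupCongr e).trans (stdEquiv hK (⟨a, ha⟩ : Cfsg.M24))).symm.isSimpleGroup_congr.mp inferInstance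

end Cfsg.Agent.S0379
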