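import Cfsg.Statements.S0080
import Cfsg.Agent.Lib.Transfer.Fusion

set_option linter.style.haveILetI false
set_option linter.unusedVariables false
-- import your own Cfsg.Agent.* helpers here

set_option autoImplicit false
open Cfsg

namespace Cfsg.Agent.S0080

/-- When the index of H is prime to the order of H/H', the focal subgroup of H is G' ∩ H, and H/(G' ∩ H) has a normal complement. -/
theorem result {G : Type*} [Group G] [Finite G] (H : Subgroup G) (h : Nat.Coprime H.index (⁅H, H⁆.relIndex H)) : Subgroup.focalSubgroup H = commutator G ⊓ H ∧ ∃ N : Subgroup G, N.Normal ∧ N ⊓ H = commutator G ⊓ H ∧ N ⊔ H = ⊤ := by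
  have hbij : Function.Bijective fun y : H ⧸ H.focalSubgroupOf => y ^ H.index := by
    have hd : Nat.card (H ⧸ H.focalSubgroupOf) ∣ ⁅H, H⁆.relIndex H := by
      rw [← Subgroup.index_eq_card]
      refine Subgroup.index_dvd_of_le (fun x hx => ?_)
      exact H.commutator_le_focalSubgroup hx
    exact (powCoprime (h.coprime_dvd_right hd).symm).bijective
  letI : CommGroup (H ⧸ H.focalSubgroupOf) := IsMulCommutative.instCommGroup
  have hker : H.transferFocal.ker ⊓ H = H.focalSubgroup := by
    refine le_antisymm ?_ (le_inf ?_ H.focalSubgroup_le)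
    · rintro x ⟨hx, hxH⟩
      have h1 : H.transferFocal (x : G) = 1 := hx
      rw [show (x : G) = ((⟨x, hxH⟩ : H) : G) from rfl, Subgroup.transferFocal_eq_pow] at h1
      have h2 : ((⟨x, hxH⟩ : H) : H ⧸ H.focalSubgroupOf) = 1 :=
        hbij.1 (by simp only [one_pow]; exact h1)
      exact (QuotientGroup.eq_one_iff (N := H.focalSubgroupOf) _).1 h2
    · exact H.focalSubgroup_le_commutator.trans (Abelianization.commutator_subset_ker H.transferFocal)
  have hfoc : Subgroup.focalSubgroup H = commutator G ⊓ H := by
    refine le_antisymm (le_inf H.focalSubgroup_le_commutator H.focalSubgroup_le) ?_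
    rw [← hker]
    exact inf_le_inf_right _ (Abelianization.commutator_subset_ker H.transferFocal)
  refine ⟨hfoc, H.transferFocal.ker, inferInstance, hker.trans hfoc, ?_⟩
  rw [eq_top_iff]
  intro g _
  obtain ⟨y, hy⟩ := hbij.2 (H.transferFocal g)
  obtain ⟨x, rfl⟩ := QuotientGroup.mk'_surjective _ y
  have hk : g * (x : G)⁻¹ ∈ H.transferFocal.ker := by
    rw [MonoidHom.mem_ker, map_mul, map_inv, Subgroup.transferFocal_eq_pow]
    exact mul_inv_eq_one.2 hy.symm
  rw [show g = g * (x : G)⁻¹ * x by group]
  exact mul_mem (Subgroup.mem_sup_left hk) (Subgroup.mem_sup_right x.2)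

end Cfsg.Agent.S0080
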