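import Cfsg.Prelude
import Cfsg.Agent.Lib.Fus.Yoshida
import Cfsg.Agent.Lib.Fus.GroupSystem
import Cfsg.Agent.S0080
-- import your own Cfsg.Agent.* helpers here

set_option autoImplicit false
open Cfsg
open scoped commutatorElement

namespace Cfsg.Agent.S2807

/-- Let S be a Sylow p-subgroup of the finite group G. If S ∩ G' ≠ S ∩ (N_G(S))' (derived subgroups), then the wreath product Z_p ≀ Z_p — realised as a Sylow p-subgroup of the symmetric group of degree p² — is a homomorphic image of S. -/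
theorem result {G : Type*} [Group G] [Finite G] {p : ℕ} [Fact p.Prime] (S : Sylow p G) (h : (S : Subgroup G) ⊓ commutator G ≠ (S : Subgroup G) ⊓ ⁅Subgroup.normalizer ((S : Subgroup G) : Set G), Subgroup.normalizer ((S : Subgroup G) : Set G)⁆) : ∃ (P : Sylow p (Equiv.Perm (Fin (p ^ 2)))) (f : ↥(S : Subgroup G) →* ↥(P : Subgroup (Equiv.Perm (Fin (p ^ 2))))), Function.Surjective f := by
  classical
  set F := Cfsg.groupFusionSystem (S : Subgroup G)
  set N := Subgroup.normalizer ((S : Subgroup G) : Set G)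
  have hSN : (S : Subgroup G) ≤ N := Subgroup.le_normalizer
  have hfocF : (S : Subgroup G) ⊓ commutator G ≤ F.focalSubgroup := by
    have hcop : Nat.Coprime (S : Subgroup G).index
        (⁅(S : Subgroup G), (S : Subgroup G)⁆.relIndex (S : Subgroup G)) := by
      obtain ⟨k, hk⟩ : ∃ k, ⁅(S : Subgroup G), (S : Subgroup G)⁆.relIndex (S : Subgroup G) = p ^ k :=
        S.isPGroup'.index _
      rw [hk]
      exact Nat.Coprime.pow_right k
        (((Fact.out : p.Prime).coprime_iff_not_dvd).mpr S.not_dvd_index).symm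
    rw [inf_comm, ← (Cfsg.Agent.S0080.result (S : Subgroup G) hcop).1, Subgroup.focalSubgroup_def,
      Subgroup.closure_le]
    rintro g ⟨hg, x, hx, u, rfl⟩
    have hx' : u * x⁻¹ * u⁻¹ ∈ (S : Subgroup G) := by
      have := (S : Subgroup G).mul_mem ((S : Subgroup G).inv_mem hx) hg
      rw [commutatorElement_def, show x⁻¹ * (x * u * x⁻¹ * u⁻¹) = u * x⁻¹ * u⁻¹ by group] at this
      exact this
    have hP : Subgroup.zpowers x⁻¹ ≤ (S : Subgroup G) :=
      Subgroup.zpowers_le.mpr ((S : Subgroup G).inv_mem hx)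
    refine Subgroup.subset_closure ⟨Subgroup.zpowers x⁻¹,
      (MulAut.conj u).toMonoidHom.comp (Subgroup.zpowers x⁻¹).subtype,
      ⟨x⁻¹, Subgroup.mem_zpowers _⟩, ⟨hP, fun y => ?_, u, fun y => rfl⟩, ?_⟩
    · obtain ⟨k, hk⟩ := Subgroup.mem_zpowers_iff.mp y.2
      show u * (y : G) * u⁻¹ ∈ _
      rw [← hk, ← conj_zpow]
      exact (S : Subgroup G).zpow_mem hx' k
    · show ⁅x, u⁆ = (x⁻¹)⁻¹ * (u * x⁻¹ * u⁻¹)
      rw [commutatorElement_def, inv_inv]; group
  refine Fus.yoshida S.isPGroup' (Fus.isSaturated_group S)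
    (M0 := (S : Subgroup G) ⊓ ⁅N, N⁆) ?_ ?_ ?_ ?_
  · exact le_inf ((Subgroup.commutator_le.mpr fun a ha b hb => by
      rw [commutatorElement_def]
      exact (S : Subgroup G).mul_mem ((S : Subgroup G).mul_mem ((S : Subgroup G).mul_mem ha hb)
        ((S : Subgroup G).inv_mem ha)) ((S : Subgroup G).inv_mem hb)))
      (Subgroup.commutator_mono hSN hSN)
  · refine le_trans (inf_le_inf_left _ ?_) hfocF
    rw [commutator_def]
    exact Subgroup.commutator_mono le_top le_top
  · intro hle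
    apply h
    refine le_antisymm (hfocF.trans hle) (inf_le_inf_left _ ?_)
    rw [commutator_def]
    exact Subgroup.commutator_mono le_top le_top
  · rintro f ⟨φ, ⟨-, hφS, g, hg⟩, he⟩ z hz
    have hfz : f z = g * z * g⁻¹ := (he ⟨z, hz⟩).symm.trans (hg ⟨z, hz⟩)
    have hmem : g * z * g⁻¹ ∈ (S : Subgroup G) := by
      rw [← hg ⟨z, hz⟩]; exact hφS ⟨z, hz⟩
    have hgN : g ∈ N := by
      refine (Subgroup.mem_normalizer_iff).mpr fun y => ?_
      have hsub : (S : Subgroup G).map (MulAut.conj g).toMonoidHom ≤ (S : Subgroup G) := by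
        rintro _ ⟨y, hy, rfl⟩
        have := hg ⟨y, hy⟩
        show g * y * g⁻¹ ∈ _
        rw [← this]; exact hφS ⟨y, hy⟩
      have heq := Subgroup.eq_of_le_of_card_ge hsub
        (le_of_eq (Subgroup.card_map_of_injective (MulAut.conj g).injective).symm)
      constructor
      · intro hy; exact hsub ⟨y, hy, rfl⟩
      · intro hy
        rw [← heq] at hy
        obtain ⟨w, hw, e⟩ := hy
        rwa [← (MulAut.conj g).injective e]
    refine ⟨(S : Subgroup G).mul_mem ((S : Subgroup G).inv_mem hz) (hfz ▸ hmem), ?_⟩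
    rw [hfz, show z⁻¹ * (g * z * g⁻¹) = ⁅z⁻¹, g⁆ by rw [commutatorElement_def]; group]
    exact Subgroup.commutator_mem_commutator (N.inv_mem (hSN hz)) hgN

end Cfsg.Agent.S2807
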