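import Cfsg.Statements.S1447
import Mathlib
import Cfsg.Agent.Lib.Transfer.MetacyclicCoprime
import Cfsg.Agent.Lib.Fus.MetacyclicTwoNormal
import Cfsg.Agent.Lib.Grp.Coprime
import Cfsg.Agent.Lib.Grp.CoprimeAbelian
import Cfsg.Agent.S0016

set_option maxHeartbeats 1000000
set_option maxRecDepth 8000

set_option autoImplicit false
open Cfsg
open scoped commutatorElement

namespace Cfsg.Agent.S1447

/-- Let G be a finite group, p an odd prime, R a metacyclic p-subgroup and A a subgroup of order coprime to p normalizing R. Then [R, A] is abelian; R is generated by [R, A] and R ∩ C_G(A), which meet trivially; and if R is non-abelian and A does not centralize R, then [R, A] and R ∩ C_G(A) are nontrivial cyclic groups and [R, R] ≤ [R, A]. -/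
theorem result {G : Type*} [Group G] [Finite G] (p : ℕ) [Fact p.Prime] (hp : p ≠ 2) (R A : Subgroup G) (hR : IsPGroup p R) (hRm : Cfsg.IsMetacyclic R)
    (hA : (A ≤ Subgroup.normalizer (R : Set G))) (hcop : (Nat.card A).Coprime p) :
    IsMulCommutative ↥⁅R, A⁆ ∧ ⁅R, A⁆ ⊔ (R ⊓ Subgroup.centralizer (A : Set G)) = R ∧ ⁅R, A⁆ ⊓ (R ⊓ Subgroup.centralizer (A : Set G)) = ⊥ ∧
      (¬ IsMulCommutative R → ¬ A ≤ Subgroup.centralizer (R : Set G) →
        ⁅R, A⁆ ≠ ⊥ ∧ IsCyclic ↥⁅R, A⁆ ∧ (R ⊓ Subgroup.centralizer (A : Set G)) ≠ ⊥ ∧ IsCyclic ↥(R ⊓ Subgroup.centralizer (A : Set G)) ∧ ⁅R, R⁆ ≤ ⁅R, A⁆) := by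
  classical
  set K := ⁅R, A⁆ with hK
  set C := R ⊓ Subgroup.centralizer (A : Set G) with hC
  have hcopR : (Nat.card A).Coprime (Nat.card R) := by
    obtain ⟨n, hn⟩ := IsPGroup.iff_card.1 hR
    rw [hn]; exact hcop.pow_right n
  have hsolv : Group.IsSolvable A ∨ Group.IsSolvable R := Or.inr (by haveI := hR.isNilpotent; infer_instance)
  have hKR : K ≤ R := Grp.commutator_le_left_of_le_normalizer hA
  have hKA : A ≤ Subgroup.normalizer (K : Set G) := Grp.right_le_normalizer_commutator A R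
  have hKK : ⁅K, A⁆ = K := Grp.commutator_commutator_eq A R hA hcopR hsolv
  have hKm : Cfsg.IsMetacyclic K :=
    Fus.MetaTwo.isMetacyclic_of_injective (Subgroup.inclusion hKR) (Subgroup.inclusion_injective hKR) hRm
  obtain ⟨f, -, hgen⟩ := Transfer.MetaCoprime.gen_of_commutator K A hKA hKK
  have hKab : IsMulCommutative K :=
    ⟨⟨Transfer.MetaCoprime.commute_of_gen hp (hR.to_le hKR) hKm hcop f hgen⟩⟩
  haveI := hKab
  have hsup : K ⊔ C = R := Grp.commutator_sup_fixed A R hA hcopR hsolv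
  have hinf : K ⊓ C = ⊥ := by
    have h := Grp.abelian_commutator_inf_fixed A K hKA (hcopR.coprime_dvd_right (Subgroup.card_dvd_of_le hKR))
    rw [hKK] at h
    rw [eq_bot_iff, ← h]
    rintro x ⟨hx1, hx2⟩
    exact ⟨⟨hx1, hx2.2⟩, hx1⟩
  refine ⟨hKab, hsup, hinf, fun hnab hnt => ?_⟩
  have hK1 : K ≠ ⊥ := fun h => by
    refine hnt fun a ha => Subgroup.mem_centralizer_iff.2 fun r hr => ?_
    have hr' : r ∈ C := by
      have hr2 : r ∈ K ⊔ C := hsup.symm ▸ hr
      rwa [h, bot_sup_eq] at hr2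
    exact (Subgroup.mem_centralizer_iff.1 hr'.2 a ha).symm
  have hC1 : C ≠ ⊥ := fun h => by
    rw [h, sup_bot_eq] at hsup
    exact hnab (hsup ▸ hKab)
  have hCR : C ≤ R := inf_le_left
  have hRK : R ≤ Subgroup.normalizer (K : Set G) := Grp.left_le_normalizer_commutator A R
  have hnc : ¬ IsCyclic R := fun h => hnab (by letI := h.commGroup; exact ⟨⟨mul_comm⟩⟩)
  obtain ⟨V, hV, -, hVc⟩ := Transfer.omega_card_metacyclic hp hR hRm hnc
  -- both factors have a unique subgroup of order `p`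
  have key : ∀ X Y : Subgroup G, X ≤ R → Y ≤ R → X ⊓ Y = ⊥ → Y ≠ ⊥ → IsCyclic X := by
    intro X Y hXR hYR hXY hY
    have hpp := (Fact.out : p.Prime)
    refine (S0016.result p (hR.to_le hXR) fun H H' hH hH' => ?_).resolve_right fun h => hp h.1
    set X' := (V.map R.subtype ⊓ X).subgroupOf X with hX'
    have hle : ∀ H : Subgroup X, Nat.card H = p → H = X' := by
      intro H hH
      refine Subgroup.eq_of_le_of_card_ge (fun x hx => ?_) ?_
      · have h1 := H.orderOf_dvd_natCard hx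
        rw [hH] at h1
        refine ⟨⟨⟨x, hXR x.2⟩, (hV _).2 (Subtype.ext ?_), rfl⟩, x.2⟩
        have h2 : x ^ p = 1 := orderOf_dvd_iff_pow_eq_one.1 h1
        show (x : G) ^ p = 1
        exact congrArg Subtype.val h2
      · have hp2 := hpp.two_le
        haveI : Nontrivial Y := (Subgroup.nontrivial_iff_ne_bot Y).2 hY
        obtain ⟨n, hn⟩ := IsPGroup.iff_card.1 (hR.to_le hYR)
        have hdY : p ∣ Nat.card Y := by
          rcases n with _ | n
          · rw [pow_zero] at hn; exact absurd hn (Finite.one_lt_card (α := Y)).ne'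
          · exact hn ▸ dvd_pow_self p n.succ_ne_zero
        obtain ⟨y, hy⟩ := exists_prime_orderOf_dvd_card' p hdY
        have hyV : (y : G) ∈ V.map R.subtype := ⟨⟨y, hYR y.2⟩, (hV _).2 (Subtype.ext (by
          show (y : G) ^ p = 1
          rw [← SubmonoidClass.coe_pow, ← hy, pow_orderOf_eq_one]; rfl)), rfl⟩
        have hlt : V.map R.subtype ⊓ X < V.map R.subtype := lt_of_le_of_ne inf_le_left fun h => by
          have h1 : (y : G) ∈ X ⊓ Y := ⟨(h.ge hyV).2, y.2⟩
          rw [hXY, Subgroup.mem_bot] at h1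
          rw [show y = 1 from Subtype.ext h1, orderOf_one] at hy
          omega
        obtain ⟨j, hj, hj'⟩ := (Nat.dvd_prime_pow hpp).1 (show Nat.card ↥(V.map R.subtype ⊓ X) ∣ p ^ 2 by
          rw [← hVc, ← Subgroup.card_map_of_injective R.subtype_injective]
          exact Subgroup.card_dvd_of_le inf_le_left)
        rw [hX', Nat.card_congr (Subgroup.subgroupOfEquivOfLe inf_le_right).toEquiv, hj', hH]
        have hj1 : j ≤ 1 := by
          by_contra hgt
          refine hlt.ne (Subgroup.eq_of_le_of_card_ge inf_le_left ?_)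
          rw [hj', Subgroup.card_map_of_injective R.subtype_injective, hVc, show j = 2 by omega]
        exact le_trans (Nat.pow_le_pow_right hpp.pos hj1) (pow_one p).le
    rw [hle H hH, hle H' hH']
  have hCc : IsCyclic C := key C K hCR hKR (inf_comm C K ▸ hinf) hK1
  refine ⟨hK1, key K C hKR hCR hinf hC1, hC1, hCc, ?_⟩
  haveI : (K.subgroupOf R).Normal := Subgroup.normal_subgroupOf_of_le_normalizer hRK
  rw [Subgroup.commutator_le]
  intro x hx y hy
  set π := QuotientGroup.mk' (K.subgroupOf R) with hπ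
  have hfac : ∀ w : R, ∃ c : C, π w = π ⟨(c : G), hCR c.2⟩ := fun w => by
    obtain ⟨k, hk, c, hc, hw⟩ := Grp.exists_commutator_mul_fixed A R hA hcopR hsolv w.2
    refine ⟨⟨c, hc⟩, (?_ : π w = _)⟩
    rw [show w = ⟨k, hKR hk⟩ * ⟨c, hCR hc⟩ from Subtype.ext hw, map_mul,
      show π ⟨k, hKR hk⟩ = 1 from (QuotientGroup.eq_one_iff _).2 hk, one_mul]
  obtain ⟨c, hc⟩ := hfac ⟨x, hx⟩
  obtain ⟨d, hd⟩ := hfac ⟨y, hy⟩
  have h1 : π ⁅(⟨x, hx⟩ : R), (⟨y, hy⟩ : R)⁆ = 1 := by
    rw [map_commutatorElement, hc, hd, ← map_commutatorElement]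
    letI := hCc.commGroup
    rw [show ⁅(⟨(c : G), hCR c.2⟩ : R), (⟨(d : G), hCR d.2⟩ : R)⁆ = 1 from commutatorElement_eq_one_iff_mul_comm.2
      (Subtype.ext (show (c : G) * (d : G) = (d : G) * (c : G) from congrArg Subtype.val (mul_comm c d))), map_one]
  have h2 : ⁅(⟨x, hx⟩ : R), (⟨y, hy⟩ : R)⁆ ∈ K.subgroupOf R :=
    (QuotientGroup.eq_one_iff (⁅(⟨x, hx⟩ : R), (⟨y, hy⟩ : R)⁆ : R)).1 h1
  exact h2

end Cfsg.Agent.S1447
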