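import Cfsg.Statements.S5148
import Cfsg.Agent.Lib.Fus.FactorExist
import Cfsg.Agent.S5337
import Cfsg.Agent.Lib.Fus.InnerCrit
import Cfsg.Agent.Lib.Fus.SecondCenter
-- import your own Cfsg.Agent.* helpers here

set_option autoImplicit false
open Cfsg

namespace Cfsg.Agent.S5148

/-- A quasisimple fusion system over a finite p-group S (saturated, equal to its p-residual subsystem, with simple — in particular nontrivial — factor system modulo its centre) has S nonabelian. -/
theorem result {Ω : Type*} [Group Ω] {S : Subgroup Ω} [Finite S] (p : ℕ) [Fact p.Prime] (hS : IsPGroup p S) (F : Cfsg.FusionSystem S) (hq : F.Quasisimple p) : ¬ IsMulCommutative S := by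
  intro hab
  obtain ⟨hF, hperf, hsimple⟩ := hq
  set θ := QuotientGroup.mk' ((F.center).subgroupOf S) with hθ
  have hT := Fus.stronglyClosed_center F
  have hker : ∀ s : S, θ s = 1 ↔ (s : Ω) ∈ F.center := fun s =>
    (QuotientGroup.eq_one_iff s).trans Subgroup.mem_subgroupOf
  have hr : θ.range = ⊤ := MonoidHom.range_eq_top.2 (QuotientGroup.mk'_surjective _)
  obtain ⟨E, hE⟩ : ∃ E : FusionSystem (⊤ : Subgroup (S ⧸ (F.center).subgroupOf S)),
      F.IsFactorSystem F.center θ E := by
    have h := Fus.isFactorSystem_factorSystemAlong F hT θ hker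
    revert h
    generalize Fus.factorSystemAlong F hT θ hker = E
    revert E
    rw [hr]
    exact fun E h => ⟨E, h⟩
  have hTp : IsPGroup p (⊤ : Subgroup (S ⧸ (F.center).subgroupOf S)) :=
    (hS.to_quotient _).to_subgroup _
  have hEs := Fus.isSaturated_factor hS hF hT hE
  have hcomm : ∀ x ∈ (⊤ : Subgroup (S ⧸ (F.center).subgroupOf S)),
      ∀ y ∈ (⊤ : Subgroup (S ⧸ (F.center).subgroupOf S)), x * y = y * x := by
    intro x _ y _
    obtain ⟨a, rfl⟩ := QuotientGroup.mk'_surjective _ x
    obtain ⟨b, rfl⟩ := QuotientGroup.mk'_surjective _ y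
    rw [← map_mul, ← map_mul, show a * b = b * a from hab.is_comm.comm a b]
  obtain ⟨hcard, hinner⟩ := (S5337.result p hTp E hEs hcomm).1 (hsimple E hE)
  have hbot : E.hyperfocalSubgroup p ≤ ⊥ := by
    refine Fus.hyperfocal_le_of_coprime fun P hP α _ x hx => ?_
    obtain ⟨s, hs, e⟩ := Fus.isInner_iff.2 hinner P _ ((Fus.mem_autGroup hP).1 α.2)
    rw [e x hx, hcomm s hs x (hP hx), mul_inv_cancel_right, inv_mul_cancel]
    exact Subgroup.one_mem _
  have htop : E.hyperfocalSubgroup p = ⊤ := by
    rw [Fus.hyperfocal_factor hS hF hT hE, hperf, Subgroup.subgroupOf_self, ← MonoidHom.range_eq_map,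
      hr]
  rw [htop] at hbot
  rw [eq_bot_iff.2 hbot, Subgroup.card_bot] at hcard
  exact (Fact.out : p.Prime).ne_one hcard.symm

end Cfsg.Agent.S5148
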