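import Cfsg.Statements.S2602
import Cfsg.Agent.Lib.Classical.PSLAutStructure

set_option autoImplicit false
open Cfsg

namespace Cfsg.Agent.S2602

/-- Structure of the outer automorphism group of PSL_2(q), q = p^f ≥ 4: it has a normal cyclic subgroup of order gcd(2, q − 1) (diagonal automorphisms) with cyclic quotient of order f (field automorphisms); there is no graph automorphism in dimension 2. -/
theorem result {F : Type*} [Field F] [Fintype F] {p f : ℕ} [Fact p.Prime] (hf : 1 ≤ f) (hF : Fintype.card F = p ^ f) (h4 : 4 ≤ p ^ f) : ∃ φ : Cfsg.Out (Matrix.ProjectiveSpecialLinearGroup (Fin 2) F) →* Multiplicative (ZMod f), Function.Surjective φ ∧ IsCyclic φ.ker ∧ Nat.card φ.ker = Nat.gcd 2 (p ^ f - 1) := by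
  haveI : CharP F p := charP_of_card_eq_prime_pow hF
  obtain ⟨hcyc, hcard⟩ := Cfsg.Agent.Classical.PSLAut.card_ringAut (F := F) hF
  obtain ⟨Ψ, hker, -, h2n⟩ := Cfsg.Agent.Classical.PSLAut.exists_fieldGraphHom (F := F) (p := p) (le_refl 2)
  obtain ⟨h1, h3⟩ := h2n rfl
  obtain ⟨hout1, hout2⟩ := Cfsg.Agent.Classical.PSLAut.outDiag (F := F) (le_refl 2)
  have e1 : RingAut F ≃* Multiplicative (ZMod f) := by
    rw [← hcard]; exact (zmodCyclicMulEquiv hcyc).symm
  let Φ := e1.toMonoidHom.comp ((MonoidHom.fst (RingAut F) (Multiplicative (ZMod 2))).comp Ψ)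
  have hker' : Φ.ker = (Cfsg.Agent.Classical.PSLAut.inndiagHom 2 F).range := by
    rw [← hker]; ext x
    simp [Φ, Prod.ext_iff, h1 x]
  have hle : Cfsg.Inn (Matrix.ProjectiveSpecialLinearGroup (Fin 2) F) ≤ Φ.ker := by
    rw [hker']
    rintro _ ⟨x, rfl⟩
    obtain ⟨s, rfl⟩ := Cfsg.Agent.Classical.slToPSL_surjective x
    exact ⟨_, (Cfsg.Agent.Classical.PSLAut.conj_eq_pslSemi s).symm⟩
  refine ⟨QuotientGroup.lift _ Φ hle, ?_, ?_⟩
  · refine QuotientGroup.lift_surjective_of_surjective _ _ (e1.surjective.comp ?_) hle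
    intro σ
    obtain ⟨β, hβ⟩ := h3 σ
    exact ⟨β, hβ⟩
  · rw [QuotientGroup.ker_lift, hker', ← hF]
    exact ⟨hout1, hout2⟩

end Cfsg.Agent.S2602
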