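import Cfsg.Prelude
import Cfsg.Agent.Lib.Invol.PResidual
import Cfsg.Agent.Lib.Grp.Components
import Cfsg.Agent.Lib.Grp.SubnormalFamily
-- import your own Cfsg.Agent.* helpers here

set_option autoImplicit false
open Cfsg

open scoped Pointwise

namespace Cfsg.Agent.S2905

/-- Let P be a finite p-minimal group (a Sylow p-subgroup S is not normal and lies in a unique maximal subgroup M of P) and let F be the normal core of M. Then: every subnormal subgroup N of P contained in M satisfies N ∩ S ≤ O_p(P); if O^p(P) has a normal Sylow p-subgroup then the order of P has at most two prime divisors; every normal subgroup N of P either contains O^p(P) or is contained in F; and O^p(P)F ⧸ F is a minimal normal subgroup of P ⧸ F. -/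
theorem result {P : Type*} [Group P] [Finite P] {p : ℕ} [Fact p.Prime] (hP : Cfsg.IsPMinimal p P) (S : Sylow p P) (M : Subgroup P) (hM : IsCoatom M) (hSM : (S : Subgroup P) ≤ M) [hF : M.normalCore.Normal] : (∀ N : Subgroup P, N.IsSubnormal → N ≤ M → N ⊓ (S : Subgroup P) ≤ Cfsg.pCore p P) ∧ ((∀ T : Sylow p ↥(Cfsg.pResidual p P), (T : Subgroup ↥(Cfsg.pResidual p P)).Normal) → (Nat.card P).primeFactors.card ≤ 2) ∧ (∀ N : Subgroup P, N.Normal → Cfsg.pResidual p P ≤ N ∨ N ≤ M.normalCore) ∧ (∀ N : Subgroup P, N.Normal → M.normalCore ≤ N → N ≤ Cfsg.pResidual p P ⊔ M.normalCore → N = M.normalCore ∨ N = Cfsg.pResidual p P ⊔ M.normalCore) ∧ M.normalCore < Cfsg.pResidual p P ⊔ M.normalCore := by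
  classical
  set R := Cfsg.pResidual p P with hR
  obtain ⟨-, huniq⟩ := hP S
  have hchoice : ∀ X : Subgroup P, (S : Subgroup P) ≤ X → X = ⊤ ∨ X ≤ M := by
    intro X hX
    rcases eq_or_ne X ⊤ with h | h
    · exact .inl h
    obtain ⟨M', hM', hXM'⟩ := (eq_top_or_exists_le_coatom X).resolve_left h
    exact .inr (huniq.unique ⟨hM', hX.trans hXM'⟩ ⟨hM, hSM⟩ ▸ hXM')
  have h3 : ∀ N : Subgroup P, N.Normal → R ≤ N ∨ N ≤ M.normalCore := by
    intro N hN
    rcases hchoice ((S : Subgroup P) ⊔ N) le_sup_left with h | h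
    · refine .inl (Invol.pResidual_le_of_isPGroup_quotient (N := N) ?_)
      refine (S.isPGroup'.map (QuotientGroup.mk' N)).of_surjective
        ((S : Subgroup P).map (QuotientGroup.mk' N)).subtype fun x => ?_
      obtain ⟨g, rfl⟩ := QuotientGroup.mk'_surjective N x
      obtain ⟨s, hs, n, hn, rfl⟩ := Subgroup.mem_sup_of_normal_right.mp
        (show g ∈ (S : Subgroup P) ⊔ N by rw [h]; trivial)
      exact ⟨⟨_, s, hs, rfl⟩, by simp [(QuotientGroup.eq_one_iff n).mpr hn]⟩
    · exact .inr (Subgroup.normal_le_normalCore.mpr (le_sup_right.trans h))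
  have hFM : M.normalCore ≤ M := Subgroup.normalCore_le M
  have h5 : M.normalCore < R ⊔ M.normalCore := by
    refine lt_of_le_of_ne le_sup_right fun h => hM.1 (top_unique ?_)
    rw [← Invol.pResidual_sup_sylow S]
    exact sup_le (le_sup_left.trans (h.ge.trans hFM)) hSM
  refine ⟨fun N hN hNM => ?_, fun hT => ?_, h3, fun N hN hle hle' => ?_, h5⟩
  · -- the closure under `S`
    set K := sSup {U : Subgroup P | ∃ s ∈ (S : Subgroup P), U = MulAut.conj s • N} with hK
    have hKsn : K.IsSubnormal := Grp.SnFamily.isSubnormal_sSup _ (by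
      rintro U ⟨s, -, rfl⟩; exact hN.smul _)
    have hKS : (S : Subgroup P) ≤ Subgroup.normalizer (K : Set P) := by
      have key : ∀ t ∈ (S : Subgroup P), MulAut.conj t • K ≤ K := fun t ht => by
        rw [Subgroup.pointwise_smul_subset_iff]
        refine sSup_le ?_
        rintro U ⟨s, hs, rfl⟩
        rw [← Subgroup.pointwise_smul_subset_iff]
        refine le_sSup ⟨t * s, mul_mem ht hs, ?_⟩
        rw [Grp.conj_smul_conj_smul]
      intro t ht
      rw [Grp.mem_normalizer_iff_smul]
      refine le_antisymm (key t ht) ?_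
      have := (Subgroup.pointwise_smul_le_pointwise_smul_iff (a := MulAut.conj t)).mpr
        (key t⁻¹ (inv_mem ht))
      rwa [Grp.conj_smul_conj_smul, mul_inv_cancel, map_one, one_smul] at this
    have hKM : K ≤ M := sSup_le (by
      rintro U ⟨s, hs, rfl⟩
      rw [← Grp.normalizer_le_smul (Subgroup.le_normalizer) (hSM hs)]
      exact Subgroup.pointwise_smul_le_pointwise_smul_iff.mpr hNM)
    have hNK : N ≤ K := le_sSup ⟨1, one_mem _, by simp⟩
    -- a minimal invariant subnormal overgroup outside `M`
    obtain ⟨L, ⟨hLsn, hLS, hKL, hLM⟩, hmin⟩ := (Set.toFinite {L : Subgroup P | L.IsSubnormal ∧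
      (S : Subgroup P) ≤ Subgroup.normalizer (L : Set P) ∧ K ≤ L ∧ ¬ L ≤ M}).exists_minimalFor id _
      ⟨⊤, Subgroup.IsSubnormal.top, by rw [Subgroup.normalizer_eq_top (⊤ : Subgroup P)]; exact le_top,
        le_top, fun h => hM.1 (top_unique h)⟩
    set L' := (Subgroup.normalClosure ((K.subgroupOf L : Subgroup ↥L) : Set ↥L)).map L.subtype with hL'
    have hL'L : L' ≤ L := Subgroup.map_subtype_le _
    have hL'sn : L'.IsSubnormal := (Subgroup.normalClosure_normal.isSubnormal).trans' hLsn
    have hKL' : K ≤ L' := fun x hx => ⟨⟨x, hKL hx⟩, Subgroup.subset_normalClosure hx, rfl⟩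
    have hLL' : L ≤ Subgroup.normalizer (L' : Set P) :=
      (Subgroup.normal_subgroupOf_iff_le_normalizer hL'L).mp (by
        rw [hL', Subgroup.subgroupOf, Subgroup.comap_map_eq_self_of_injective (Subgroup.subtype_injective L)]
        exact Subgroup.normalClosure_normal)
    have hSL' : (S : Subgroup P) ≤ Subgroup.normalizer (L' : Set P) := by
      intro t ht
      rw [Grp.mem_normalizer_iff_smul]
      have key : ∀ t ∈ (S : Subgroup P), MulAut.conj t • L' ≤ L' := by
        intro t ht
        rw [Subgroup.pointwise_smul_subset_iff]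
        intro x hx
        obtain ⟨x', hx', rfl⟩ := hx
        rw [Subgroup.mem_inv_pointwise_smul_iff]
        change t * (x' : P) * t⁻¹ ∈ L'
        induction hx' using Subgroup.closure_induction with
        | mem y hy =>
          obtain ⟨a, ha, hay⟩ := Group.mem_conjugatesOfSet_iff.mp hy
          obtain ⟨c, rfl⟩ := isConj_iff.mp hay
          have h1 : t * (a : P) * t⁻¹ ∈ K := (Subgroup.mem_normalizer_iff.mp (hKS ht) _).mp ha
          have h2 : t * (c : P) * t⁻¹ ∈ L := (Subgroup.mem_normalizer_iff.mp (hLS ht) _).mp c.2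
          have h3' := (Subgroup.mem_normalizer_iff.mp (hLL' h2) _).mp (hKL' h1)
          convert h3' using 1
          simp [mul_assoc]
        | one => simp
        | mul a b _ _ iha ihb =>
          convert L'.mul_mem iha ihb using 1
          simp [mul_assoc]
        | inv a _ iha =>
          convert L'.inv_mem iha using 1
          simp [mul_assoc]
      refine le_antisymm (key t ht) ?_
      have := (Subgroup.pointwise_smul_le_pointwise_smul_iff (a := MulAut.conj t)).mpr
        (key t⁻¹ (inv_mem ht))
      rwa [Grp.conj_smul_conj_smul, mul_inv_cancel, map_one, one_smul] at this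
    have hne : L' ≠ L := by
      intro h
      have hKne : K.subgroupOf L ≠ ⊤ := fun h' => hLM ((Subgroup.subgroupOf_eq_top.mp h').trans hKM)
      obtain ⟨X, hX, hKX, hXlt⟩ := (hKsn.subgroupOf (K := L)).exists_normal_and_le_and_lt_top_of_ne hKne
      refine hXlt.ne (top_unique ?_)
      have h4 : Subgroup.normalClosure ((K.subgroupOf L : Subgroup ↥L) : Set ↥L) = ⊤ := by
        refine Subgroup.map_injective (Subgroup.subtype_injective L) ?_
        rw [← hL', h, ← MonoidHom.range_eq_map, Subgroup.range_subtype]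
      exact h4.ge.trans (Subgroup.normalClosure_le_normal hKX)
    have hL'M : L' ≤ M := by
      by_contra hc
      exact hne (le_antisymm hL'L (hmin ⟨hL'sn, hSL', hKL', hc⟩ hL'L))
    have hnorm : L'.Normal := by
      rcases hchoice ((S : Subgroup P) ⊔ L) le_sup_left with h | h
      · exact Subgroup.normalizer_eq_top_iff.mp (top_unique (h ▸ sup_le hSL' hLL'))
      · exact absurd (le_sup_right.trans h) hLM
    haveI := hnorm
    have hNF : N ≤ M.normalCore := (hNK.trans hKL').trans (Subgroup.normal_le_normalCore.mpr hL'M)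
    -- Frattini
    set X := M.normalCore ⊓ (S : Subgroup P) with hX
    have hcop : ¬ p ∣ ((S : Subgroup P).subgroupOf M.normalCore).index :=
      Grp.sylow_inf_normal_relIndex S _
    have hpg : IsPGroup p ↥((S : Subgroup P).subgroupOf M.normalCore) := S.isPGroup'.comap_subtype
    let T : Sylow p ↥M.normalCore := hpg.toSylow hcop
    have hTX : (T : Subgroup ↥M.normalCore).map M.normalCore.subtype = X := by
      show ((S : Subgroup P).subgroupOf M.normalCore).map M.normalCore.subtype = X
      rw [Subgroup.subgroupOf_map_subtype, hX, inf_comm]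
    have hfr := Sylow.normalizer_sup_eq_top T
    rw [hTX] at hfr
    have hSX : (S : Subgroup P) ≤ Subgroup.normalizer (X : Set P) := fun s hs => by
      rw [Grp.mem_normalizer_iff_smul, hX, Subgroup.smul_inf,
        Grp.normalizer_le_smul (Subgroup.normalizer_eq_top (H := M.normalCore)).ge (Subgroup.mem_top s),
        Grp.normalizer_le_smul Subgroup.le_normalizer hs]
    have hXn : X.Normal := by
      rcases hchoice _ hSX with h | h
      · exact Subgroup.normalizer_eq_top_iff.mp h
      · exact absurd (top_unique (hfr ▸ sup_le h hFM)) hM.1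
    exact (le_inf (inf_le_left.trans hNF) inf_le_right : N ⊓ (S : Subgroup P) ≤ X).trans
      (Grp.le_pCore hXn (S.isPGroup'.to_le inf_le_right))
  · -- two primes
    obtain ⟨q, hq, hqdvd⟩ := Nat.exists_prime_and_dvd (fun h => hM.1 (Subgroup.index_eq_one.mp h))
    haveI := Fact.mk hq
    have hqp : q ≠ p := fun h =>
      S.not_dvd_index (by
      have := hqdvd.trans (Subgroup.index_dvd_of_le hSM)
      rwa [h] at this)
    obtain ⟨T⟩ : Nonempty (Sylow p ↥R) := inferInstance
    obtain ⟨Q⟩ : Nonempty (Sylow q ↥R) := inferInstance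
    haveI := hT T
    have hTc : ((T : Subgroup ↥R)).Characteristic := Sylow.characteristic_of_normal T (hT T)
    set T' := (T : Subgroup ↥R).map R.subtype with hT'
    haveI hT'n : T'.Normal := ConjAct.normal_of_characteristic_of_normal
    set Q' := (Q : Subgroup ↥R).map R.subtype with hQ'
    set N := Subgroup.normalizer ((T' ⊔ Q' : Subgroup P) : Set P) with hN
    have hNR : N ⊔ R = ⊤ := by
      refine top_unique ((Sylow.normalizer_sup_eq_top Q).ge.trans (sup_le_sup_right (fun g hg => ?_) _))
      rw [hN, Grp.mem_normalizer_iff_smul, Subgroup.smul_sup,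
        Grp.normalizer_le_smul (Subgroup.normalizer_eq_top (H := T')).ge (Subgroup.mem_top g),
        Grp.mem_normalizer_iff_smul.mp hg]
    have hTN : T' ≤ N := le_sup_left.trans Subgroup.le_normalizer
    have hTNR : T' ≤ N ⊓ R := le_inf hTN (Subgroup.map_subtype_le _)
    have e1 := Grp.card_sup_mul_card_inf_normal (H := N) (N := R)
    rw [hNR, Subgroup.card_top] at e1
    have hNidx : ¬ p ∣ N.index := by
      intro h
      have e2 : N.index * Nat.card ↥(N ⊓ R) = Nat.card ↥R := by
        refine Nat.eq_of_mul_eq_mul_left (Nat.card_pos (α := ↥N)) ?_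
        rw [← mul_assoc, N.card_mul_index, e1]
      have e3 : p * Nat.card ↥T' ∣ Nat.card ↥R :=
        e2 ▸ Nat.mul_dvd_mul h (Subgroup.card_dvd_of_le hTNR)
      rw [Subgroup.card_map_of_injective (Subgroup.subtype_injective R),
        ← (T : Subgroup ↥R).card_mul_index, mul_comm p] at e3
      exact T.not_dvd_index (Nat.dvd_of_mul_dvd_mul_left Nat.card_pos e3)
    obtain ⟨S₁⟩ : Nonempty (Sylow p ↥N) := inferInstance
    set S' := (S₁ : Subgroup ↥N).map N.subtype with hS'
    have hS'idx : ¬ p ∣ S'.index := by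
      rw [hS', Subgroup.index_map_subtype]
      exact fun h => ((Nat.Prime.dvd_mul Fact.out).mp h).elim S₁.not_dvd_index hNidx
    obtain ⟨g, hg⟩ := MulAction.exists_smul_eq P ((S₁.isPGroup'.map N.subtype).toSylow hS'idx) S
    have hg' : MulAut.conj g • S' = (S : Subgroup P) := by
      rw [← hg]; rfl
    set W := MulAut.conj g • (T' ⊔ Q') with hW
    have hSW : (S : Subgroup P) ≤ Subgroup.normalizer (W : Set P) := by
      rw [← hg']
      intro x hx
      rw [Subgroup.mem_pointwise_smul_iff_inv_smul_mem] at hx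
      have h1 := Grp.mem_normalizer_iff_smul.mp ((Subgroup.map_subtype_le _ : S' ≤ N) hx)
      have e : x = g * ((MulAut.conj g)⁻¹ • x) * g⁻¹ := by simp [MulAut.smul_def, mul_assoc]
      rw [e, Grp.mem_normalizer_iff_smul, hW, Grp.conj_smul_conj_smul, inv_mul_cancel_right,
        ← Grp.conj_smul_conj_smul, h1]
    have hQidx : ¬ q ∣ Q'.index := by
      rw [hQ', Subgroup.index_map_subtype]
      intro h
      rcases (Nat.Prime.dvd_mul hq).mp h with h' | h'
      · exact Q.not_dvd_index h'
      · obtain ⟨k, hk⟩ := (Invol.isPGroup_quotient_pResidual (p := p) (G := P)).exists_card_eq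
        rw [← Subgroup.index_eq_card] at hk
        rw [hR, hk] at h'
        exact hqp ((Nat.prime_dvd_prime_iff_eq hq Fact.out).mp (hq.dvd_of_dvd_pow h'))
    have htop : (S : Subgroup P) ⊔ W = ⊤ := by
      refine (hchoice _ le_sup_left).resolve_right fun h => hQidx ?_
      have h1 : MulAut.conj g • Q' ≤ M :=
        ((Subgroup.pointwise_smul_le_pointwise_smul_iff.mpr le_sup_right).trans le_sup_right).trans h
      have h2 := hqdvd.trans (Subgroup.index_dvd_of_le h1)
      rwa [← Grp.map_conj_eq_smul, Subgroup.index_map_of_bijective (f := (MulAut.conj g).toMonoidHom) (MulAut.conj g).bijective] at h2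
    have hd1 := Grp.card_sup_dvd_mul hSW
    rw [htop, Subgroup.card_top, hW, Grp.card_conj_smul] at hd1
    have hd2 : Nat.card P ∣ Nat.card ↥(S : Subgroup P) * (Nat.card ↥Q' * Nat.card ↥T') := by
      refine hd1.trans (Nat.mul_dvd_mul_left _ ?_)
      rw [sup_comm]
      exact Grp.card_sup_dvd_mul (by rw [Subgroup.normalizer_eq_top T']; exact le_top)
    obtain ⟨a, ha⟩ := IsPGroup.iff_card.mp S.isPGroup'
    obtain ⟨b, hb⟩ := IsPGroup.iff_card.mp (Q.isPGroup'.map R.subtype)
    obtain ⟨c, hc⟩ := IsPGroup.iff_card.mp (T.isPGroup'.map R.subtype)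
    refine (Finset.card_le_card (t := {p, q}) fun r hr => ?_).trans Finset.card_le_two
    have hr' := Nat.prime_of_mem_primeFactors hr
    have hrd := (Nat.dvd_of_mem_primeFactors hr).trans hd2
    rw [ha, hb, hc] at hrd
    have hpp : p.Prime := Fact.out
    rw [Finset.mem_insert, Finset.mem_singleton]
    rcases (Nat.Prime.dvd_mul hr').mp hrd with h | h
    · exact .inl ((Nat.prime_dvd_prime_iff_eq hr' hpp).mp (hr'.dvd_of_dvd_pow h))
    rcases (Nat.Prime.dvd_mul hr').mp h with h | h
    · exact .inr ((Nat.prime_dvd_prime_iff_eq hr' hq).mp (hr'.dvd_of_dvd_pow h))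
    · exact .inl ((Nat.prime_dvd_prime_iff_eq hr' hpp).mp (hr'.dvd_of_dvd_pow h))
  · rcases h3 N hN with h | h
    · exact .inr (le_antisymm hle' (sup_le h hle))
    · exact .inl (le_antisymm h hle)

end Cfsg.Agent.S2905
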