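import Cfsg.Statements.S0365
import Cfsg.Agent.Lib.Spor.Golay.CensusSimple
import Cfsg.Agent.Lib.Spor.Golay.CensusElem
import Cfsg.Agent.Lib.Spor.Golay.CensusNested
import Cfsg.Agent.Lib.Spor.Golay.M24Frames

set_option autoImplicit false
open Cfsg

namespace Cfsg.Agent.S0365

open Cfsg.Agent.Spor.Golay Cfsg.Agent.Spor.Golay.Census
open scoped Pointwise

/-- The permutation group preserving the length-24 code is simple. -/
theorem result : IsSimpleGroup Cfsg.M24 := by
  haveI := simple_M24
  exact ((MulEquiv.subgroupCongr (show Fx [] = Cfsg.M24 by ext g; exact mem_Fx_nil))).isSimpleGroup_congr.mp inferInstance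

end Cfsg.Agent.S0365
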