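import Cfsg.Prelude
import Cfsg.Agent.Lib.Grp.Cores
import Cfsg.Agent.S0214
-- import your own Cfsg.Agent.* helpers here

set_option autoImplicit false
open Cfsg

open scoped Pointwise commutatorElement

namespace Cfsg.Agent.S2947

/-- Let G be a finite group of characteristic 2 type in which every 2-local subgroup is solvable and the centralizer of Ω₁(Z(S)) lies in N_G(S) for every Sylow 2-subgroup S; suppose O₂(G) = 1, fix a Sylow 2-subgroup S and a 2-local subgroup M containing N_G(J(S)) (J the Thompson subgroup generated by the elementary abelian 2-subgroups of largest order). Then M is strongly embedded in G (a proper subgroup of even order whose intersection with each conjugate by an element outside M has odd order) if and only if no nontrivial 2-subgroup of M lies in a 2-local subgroup of G not contained in M. -/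
theorem result {G : Type*} [Group G] [Finite G] (hL : Cfsg.IsCharacteristicTwoType G) (hN : ∀ N : Subgroup G, Cfsg.IsTwoLocal N → Group.IsSolvable ↥N)
    (hZ : ∀ S : Sylow 2 G, Subgroup.centralizer (Cfsg.omegaCenterOf (S : Subgroup G) : Set G) ≤ Subgroup.normalizer ((S : Subgroup G) : Set G)) (hO : Cfsg.pCore 2 G = ⊥) (S : Sylow 2 G) (M : Subgroup G) (hM : Cfsg.IsTwoLocal M)
    (hMJ : Subgroup.normalizer (Cfsg.thompsonSubgroupOf 2 (S : Subgroup G) : Set G) ≤ M) :
    Cfsg.IsStronglyEmbedded M ↔ Cfsg.straddlingTwoSubgroups M = ∅ := by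
  classical
  haveI := Fact.mk Nat.prime_two
  obtain ⟨T₀, hT₀, hT₀1, hMeq⟩ := hM
  have hT₀M : T₀ ≤ M := hMeq ▸ Subgroup.le_normalizer
  have hMtop : M ≠ ⊤ := fun h => hT₀1 (by
    haveI : T₀.Normal := Subgroup.normalizer_eq_top_iff.mp (hMeq.symm.trans h)
    rw [← le_bot_iff, ← hO]
    exact Grp.le_pCore inferInstance hT₀)
  obtain ⟨P, hP⟩ := (hT₀.comap_subtype (K := M)).exists_le_sylow
  have hPne : (P : Subgroup ↥M) ≠ ⊥ := fun h => hT₀1 ((Subgroup.eq_bot_iff_forall _).mpr fun x hx => by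
    have h1 : (⟨x, hT₀M hx⟩ : ↥M) ∈ (P : Subgroup ↥M) := hP hx
    rw [h, Subgroup.mem_bot] at h1
    exact congrArg Subtype.val h1)
  constructor
  · intro hSE
    have hN2 : ∀ X : Subgroup G, IsPGroup 2 ↥X → X ≤ M → X ≠ ⊥ → Subgroup.normalizer (X : Set G) ≤ M := by
      intro X hX hXM hX1
      obtain ⟨Q, hQ⟩ := (hX.comap_subtype (K := M)).exists_le_sylow
      have hX1' : X.subgroupOf M ≠ ⊥ := fun h => hX1 (by
        rwa [Subgroup.subgroupOf_eq_bot, disjoint_iff, inf_eq_left.mpr hXM] at h)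
      have := (Cfsg.Agent.S0214.result M hMtop Q (ne_bot_of_le_ne_bot hX1' hQ)).mp hSE _ hQ hX1'
      rwa [← Subgroup.subgroupOf, Subgroup.subgroupOf_map_subtype, inf_eq_left.mpr hXM] at this
    refine Set.eq_empty_iff_forall_notMem.mpr fun T hT => ?_
    obtain ⟨hTp, hT1, hTM, L, ⟨R, hR, hR1, hLeq⟩, hTL, hLM⟩ := hT
    obtain ⟨Q, hQ⟩ := (hTp.comap_subtype (K := L)).exists_le_sylow
    set Q' := (Q : Subgroup ↥L).map L.subtype with hQ'
    have hQp : IsPGroup 2 ↥Q' := Q.isPGroup'.map _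
    have hTQ : T ≤ Q' := fun t ht => ⟨⟨t, hTL ht⟩, hQ ht, rfl⟩
    have hQM : Q' ≤ M := by
      by_contra hcon
      haveI : Group.IsNilpotent ↥Q' := hQp.isNilpotent
      have hlt : (Q' ⊓ M).subgroupOf Q' < ⊤ := lt_top_iff_ne_top.mpr fun h =>
        hcon ((Subgroup.subgroupOf_eq_top.mp h).trans inf_le_right)
      obtain ⟨y, hy, hyn⟩ := SetLike.exists_of_lt (Group.normalizerCondition_of_isNilpotent _ hlt)
      have hne : Q' ⊓ M ≠ ⊥ := ne_bot_of_le_ne_bot hT1 (le_inf hTQ hTM)
      refine hyn (Subgroup.mem_subgroupOf.mpr ⟨y.2, hN2 _ (hQp.to_le inf_le_left) inf_le_right hne ?_⟩)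
      refine Subgroup.mem_normalizer_iff.mpr fun a => ⟨fun ha => ?_, fun ha => ?_⟩
      · exact (Subgroup.mem_normalizer_iff.mp hy ⟨a, ha.1⟩).mp ha
      · have ha' : a ∈ Q' := by
          simpa [mul_assoc] using Q'.mul_mem (Q'.mul_mem (Q'.inv_mem y.2) ha.1) y.2
        exact (Subgroup.mem_normalizer_iff.mp hy ⟨a, ha'⟩).mpr ha
    haveI hRn : (R.subgroupOf L).Normal := by
      rw [Subgroup.normal_subgroupOf_iff_le_normalizer (hLeq ▸ Subgroup.le_normalizer)]
      exact hLeq.le
    have hRQ : R ≤ Q' := fun r hr => ⟨⟨r, hLeq ▸ Subgroup.le_normalizer hr⟩,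
      (Grp.le_pCore hRn hR.comap_subtype).trans (Grp.pCore_le_sylow Q) hr, rfl⟩
    exact hLM (hLeq ▸ hN2 R hR (hRQ.trans hQM) hR1)
  · intro hempty
    refine (Cfsg.Agent.S0214.result M hMtop P hPne).mpr fun X hXP hX1 => ?_
    by_contra hcon
    have hX1' : X.map M.subtype ≠ ⊥ := by
      rwa [Ne, Subgroup.map_eq_bot_iff_of_injective _ (Subgroup.subtype_injective _)]
    exact Set.eq_empty_iff_forall_notMem.mp hempty (X.map M.subtype)
      ⟨(P.isPGroup'.to_le hXP).map _, hX1', Subgroup.map_subtype_le X, _,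
        ⟨_, (P.isPGroup'.to_le hXP).map _, hX1', rfl⟩, Subgroup.le_normalizer, hcon⟩

end Cfsg.Agent.S2947
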