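import Cfsg.Prelude
import Cfsg.Agent.Lib.Invol.JCompMax
-- import your own Cfsg.Agent.* helpers here

set_option autoImplicit false
open Cfsg

open scoped Pointwise commutatorElement

namespace Cfsg.Agent.S2949

/-- Let G be a finite group of characteristic 2 type in which every 2-local subgroup is solvable and the centralizer of Ω₁(Z(S)) lies in N_G(S) for every Sylow 2-subgroup S; suppose O₂(G) = 1, fix a Sylow 2-subgroup S and a 2-local subgroup M containing N_G(J(S)) (J the Thompson subgroup generated by the elementary abelian 2-subgroups of largest order). For every T maximal (for the order of a largest elementary abelian subgroup, then the order of J(T), then the order of T) among the nontrivial 2-subgroups of M lying in a 2-local subgroup not inside M, there is a J(T)-component K not contained in M with J(T) the Thompson subgroup of every Sylow 2-subgroup of N_G(W_K) containing J(T), and O₂(⟨K, T⟩) ≠ 1. -/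
theorem result {G : Type*} [Group G] [Finite G] (hL : Cfsg.IsCharacteristicTwoType G) (hN : ∀ N : Subgroup G, Cfsg.IsTwoLocal N → Group.IsSolvable ↥N)
    (hZ : ∀ S : Sylow 2 G, Subgroup.centralizer (Cfsg.omegaCenterOf (S : Subgroup G) : Set G) ≤ Subgroup.normalizer ((S : Subgroup G) : Set G)) (hO : Cfsg.pCore 2 G = ⊥) (S : Sylow 2 G) (M : Subgroup G) (hM : Cfsg.IsTwoLocal M)
    (hMJ : Subgroup.normalizer (Cfsg.thompsonSubgroupOf 2 (S : Subgroup G) : Set G) ≤ M) (T : Subgroup G) (hT : T ∈ Cfsg.maxStraddlingTwoSubgroups M) :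
    (Cfsg.jComponentsOutside M T).Nonempty := by
  obtain ⟨hTp, hT1, hTM, L, hL2, hTL, hLM⟩ := hT.1
  obtain ⟨T₁, hT₁, hTT₁⟩ := Cfsg.Agent.Invol.JComp.exists_sylowIn hTp hTL
  have hLT := (Cfsg.Agent.Invol.JComp.straddling_overgroup hL S hMJ hT hL2 hLM hT₁
    ((Cfsg.Agent.Invol.thompsonEl_le T).trans hTT₁)).2.2.2 hTL
  have hNM := Cfsg.Agent.Invol.JComp.normalizer_thompson_le S hMJ hT
  have s := Cfsg.Agent.Invol.JComp.Sit.of_mem hL hN hZ hT1 hLT
  obtain ⟨K, hK, hKL, hKM⟩ : ∃ K, Cfsg.IsJComponent T K ∧ K ≤ L ∧ ¬ K ≤ M := by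
    by_contra hcon
    push Not at hcon
    refine hLM fun x hx => ?_
    obtain ⟨d, hd, y, -, hy, rfl⟩ := s.frattini hx
    exact mul_mem (s.dOf_le_of_components hNM hcon hd) (hNM hy)
  have hWcard := hK.2.2.2.2.1
  have hW1 : Cfsg.wOf K ≠ ⊥ := fun h => by rw [h, Subgroup.card_bot] at hWcard; omega
  have hKN : K ≤ Subgroup.normalizer (Cfsg.wOf K : Set G) :=
    Subgroup.le_normalizer.trans (Cfsg.Agent.Invol.JComp.normalizer_le_normalizer_wOf K)
  have hN2 : Cfsg.IsTwoLocal (Subgroup.normalizer (Cfsg.wOf K : Set G)) :=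
    ⟨Cfsg.wOf K, IsPGroup.of_card (n := 2) (by rw [hWcard]; norm_num), hW1, rfl⟩
  refine ⟨K, ⟨hK, fun S' hJS' hS' => ?_⟩, hKM, ?_⟩
  · exact (Cfsg.Agent.Invol.JComp.straddling_overgroup hL S hMJ hT hN2 (fun h => hKM (hKN.trans h)) hS'
      hJS').1.symm
  · have hQ : Cfsg.pCoreOf 2 L ≤ Cfsg.pCoreOf 2 (K ⊔ T) :=
      Cfsg.Agent.Invol.JComp.le_pCoreOf (s.Q_le_T.trans le_sup_right)
        ((sup_le hKL hTL).trans (Cfsg.Agent.Invol.JComp.le_normalizer_pCoreOf L))
        (Cfsg.Agent.Invol.JComp.pCoreOf_isPGroup L)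
    intro h
    rw [h, le_bot_iff] at hQ
    refine hT1 ((Subgroup.eq_bot_iff_forall _).2 fun t ht => ?_)
    have := s.mem.2.2 (x := t) (Subgroup.mem_centralizer_iff.2 fun q hq => by
      rw [hQ] at hq
      rw [Subgroup.mem_bot.1 hq, one_mul, mul_one])
    rw [hQ] at this
    exact Subgroup.mem_bot.1 this

end Cfsg.Agent.S2949
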