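import Cfsg.Statements.S2497
import Cfsg.Agent.Lib.Transfer.CIT.PrimePowerSimple
import Cfsg.Agent.Lib.Grp.SuzIdent.CIT
-- import your own Cfsg.Agent.* helpers here

set_option autoImplicit false
open Cfsg

namespace Cfsg.Agent.S2497

/-- Let G be a finite non-abelian simple group in which every non-identity element has prime-power order. Then G is isomorphic to one of: the alternating group of degree 6, PSL(2,q) for q ∈ {4, 7, 8, 17}, PSL(3,4), or the Suzuki group over the field with 8 or with 32 elements. -/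
theorem result {G : Type*} [Group G] [Finite G] [IsSimpleGroup G] (hG : ¬ IsMulCommutative G)
    (h : ∀ g : G, g ≠ 1 → IsPrimePow (orderOf g)) :
    Nonempty (G ≃* alternatingGroup (Fin 6)) ∨
    (∃ (F : Type) (_ : Field F) (_ : Fintype F), Fintype.card F ∈ ({4, 7, 8, 17} : Finset ℕ) ∧
      Nonempty (G ≃* Matrix.ProjectiveSpecialLinearGroup (Fin 2) F)) ∨
    (∃ (F : Type) (_ : Field F) (_ : Fintype F), Fintype.card F = 4 ∧
      Nonempty (G ≃* Matrix.ProjectiveSpecialLinearGroup (Fin 3) F)) ∨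
    (∃ (F : Type) (_ : Field F) (_ : Fintype F),
      (Fintype.card F = 8 ∧ Nonempty (G ≃* ↥(Cfsg.Lie.Sz F 4))) ∨ (Fintype.card F = 32 ∧ Nonempty (G ≃* ↥(Cfsg.Lie.Sz F 8)))) := by
  rcases (Cfsg.Agent.Transfer.CIT.eppo_cit h).classification_iso hG with
    ⟨F, i1, i2, -, ⟨e⟩⟩ | hL | hS
  · rcases Cfsg.Agent.Transfer.CIT.psl_two_listed h hG e with hA | hP
    · exact Or.inl hA
    · exact Or.inr (Or.inl hP)
  · exact Or.inr (Or.inr (Or.inl hL))
  · exact Or.inr (Or.inr (Or.inr (Cfsg.Agent.Transfer.CIT.suzuki_prime_power h hS)))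

end Cfsg.Agent.S2497
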