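import Cfsg.Statements.S2800
import Cfsg.Agent.Lib.Invol.ThompsonComplement
-- import your own Cfsg.Agent.* helpers here

set_option autoImplicit false
open Cfsg

namespace Cfsg.Agent.S2800

open scoped Pointwise

/-- Let S be a Sylow p-subgroup of the finite group G and J(S) the subgroup generated by the abelian subgroups of S of largest order. Suppose p is odd, or the symmetric group of degree 4 is not involved in G. If both C_G(Z(S)) and N_G(J(S)) have normal p-complements, then G has a normal p-complement. -/
theorem result {G : Type*} [Group G] [Finite G] {p : ℕ} [Fact p.Prime] (S : Sylow p G) (h : p ≠ 2 ∨ ¬ Cfsg.Involves (Equiv.Perm (Fin 4)) G) (hC : Cfsg.HasNormalPComplement p ↥(Subgroup.centralizer (((S : Subgroup G) ⊓ Subgroup.centralizer ((S : Subgroup G) : Set G) : Subgroup G) : Set G))) (hN : Cfsg.HasNormalPComplement p ↥(Subgroup.normalizer ((Cfsg.thompsonSubgroupAOf (S : Subgroup G)) : Set G))) : Cfsg.HasNormalPComplement p G := by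
  classical
  have hW : ∀ i, Cfsg.IsCharPFunctor p (Invol.zjFunctors i) := Invol.isCharPFunctor_zjFunctors
  set Z : Subgroup G := (S : Subgroup G) ⊓ Subgroup.centralizer ((S : Subgroup G) : Set G) with hZ
  set C := Subgroup.centralizer (Z : Set G) with hCdef
  have hSC : (S : Subgroup G) ≤ C := fun s hs =>
    Subgroup.mem_centralizer_iff.mpr fun z hz => (Subgroup.mem_centralizer_iff.mp hz.2 s hs).symm
  have hNS : Cfsg.HasNormalPComplement p ↥(Subgroup.normalizer ((S : Subgroup G) : Set G)) :=
    Transfer.hasNormalPComplement_mono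
      (Invol.normalizer_le_normalizer_inducedFunctor (hW false) S.isPGroup') hN
  -- `N(Z) = C(Z)`
  have hNC : Subgroup.normalizer (Z : Set G) ≤ C := by
    intro g hg
    have hgS : Grp.IsSylowIn p (S : Subgroup G) C :=
      ⟨hSC, S.isPGroup', fun hd => S.not_dvd_index (hd.trans ⟨_, (Subgroup.relIndex_mul_index hSC).symm⟩)⟩
    have hgC : MulAut.conj g • C = C := by
      rw [← Grp.mem_normalizer_iff_smul, hCdef]
      refine Invol.mem_normalizer_of_forall_mem fun c hc => ?_
      exact Subgroup.mem_centralizer_iff.mpr fun z hz => by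
        have h1 : g⁻¹ * z * g ∈ Z := (Subgroup.mem_normalizer_iff''.mp hg z).mp hz
        have h2 := Subgroup.mem_centralizer_iff.mp hc _ h1
        calc z * (g * c * g⁻¹) = g * ((g⁻¹ * z * g) * c) * g⁻¹ := by group
          _ = g * (c * (g⁻¹ * z * g)) * g⁻¹ := by rw [h2]
          _ = _ := by group
    obtain ⟨c, hc, hce⟩ := hgS.conj (hgS.smul hgC)
    set n := c⁻¹ * g with hn
    have hnN : n ∈ Subgroup.normalizer ((S : Subgroup G) : Set G) := by
      rw [Grp.mem_normalizer_iff_smul, hn, map_mul, mul_smul, ← hce, smul_smul, ← map_mul,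
        inv_mul_cancel, map_one, one_smul]
    set N := Subgroup.normalizer ((S : Subgroup G) : Set G)
    have hsup := Transfer.sylow_sup_pResidual (S.subtype (Subgroup.le_normalizer (H := (S : Subgroup G))))
    have hRn : (Cfsg.pResidual p N).Normal := Transfer.instNormalPResidual p
    have hmem : (⟨n, hnN⟩ : N) ∈ ((S.subtype (Subgroup.le_normalizer (H := (S : Subgroup G))) : Sylow p N) : Subgroup N) ⊔ Cfsg.pResidual p N := by
      rw [hsup]; exact Subgroup.mem_top _
    rw [Subgroup.mem_sup_of_normal_right] at hmem
    obtain ⟨s, hs, t, ht, hst⟩ := hmem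
    have hSn : ((S : Subgroup G).subgroupOf N).Normal := Subgroup.normal_in_normalizer
    have hcop : (Nat.card (Cfsg.pResidual p N)).Coprime (Nat.card ((S : Subgroup G).subgroupOf N)) := by
      obtain ⟨j, hj⟩ : ∃ j, Nat.card ((S : Subgroup G).subgroupOf N) = p ^ j :=
        IsPGroup.iff_card.mp S.isPGroup'.comap_subtype
      rw [hj]
      exact Nat.Coprime.pow_right j (((Fact.out : p.Prime).coprime_iff_not_dvd).mpr
        (Transfer.hasNormalPComplement_iff_not_dvd.mp hNS)).symm
    have htC : (t : G) ∈ C := Subgroup.mem_centralizer_iff.mpr fun z hz =>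
      congrArg Subtype.val (Subgroup.mem_centralizer_iff.mp (Grp.commute_of_coprime_normal hcop ht)
        ⟨z, Subgroup.le_normalizer hz.1⟩ hz.1)
    have hnC : n ∈ C := by
      rw [show n = (s : G) * t from (congrArg Subtype.val hst).symm]
      exact mul_mem (hSC hs) htC
    simpa [hn] using mul_mem hc hnC
  have hNN : Invol.NormalizersNPC p Invol.zjFunctors G := by
    refine Invol.normalizersNPC_of_one hW S fun i => ?_
    cases i
    · exact hN
    · refine Transfer.hasNormalPComplement_mono ?_ hC
      change Subgroup.normalizer (Cfsg.inducedFunctor (fun Q [Group Q] => Subgroup.center Q)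
        (S : Subgroup G) : Set G) ≤ C
      rw [Invol.inducedFunctor_center]
      exact hNC
  by_contra hG
  obtain ⟨X, _, _, hsec, hmin⟩ := Invol.exists_thompsonMinimal hW hNN hG
  obtain ⟨hp2, h4⟩ := Invol.zj_minimal_elim hmin
  rcases h with h | h
  · exact h hp2
  · exact h (h4.trans hsec).involves

end Cfsg.Agent.S2800
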