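import Cfsg.Statements.S0282
import Cfsg.Agent.S0278
import Cfsg.Agent.S0144
import Cfsg.Agent.Lib.Classical.UnitCenter
-- import your own Cfsg.Agent.* helpers here

set_option autoImplicit false
open Cfsg

namespace Cfsg.Agent.S0282

/-- PSU_3(2) is a solvable group of order 72. -/
theorem result {F : Type*} [Field F] [Fintype F] (hF : Fintype.card F = 4) : Nat.card (Cfsg.PSU 3 F 2) = 72 ∧ Group.IsSolvable (Cfsg.PSU 3 F 2) := by
  have hsu := Cfsg.Agent.S0278.result (F := F) (q := 2) (by rw [hF]; norm_num) 3 (by norm_num)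
  have hsu' : Nat.card (Cfsg.SU 3 F 2) = 216 := by
    norm_num [Finset.prod_range_succ] at hsu
    omega
  have hz : Nat.card (Subgroup.center (Cfsg.SU 3 F 2)) = 3 := by
    rw [Classical.natCard_center_SU (n := 3) (by rw [hF]; norm_num) (by norm_num)]; rfl
  have h72 : Nat.card (Cfsg.PSU 3 F 2) = 72 := by
    have h := Subgroup.card_mul_index (Subgroup.center (Cfsg.SU 3 F 2))
    rw [hz, hsu', Subgroup.index_eq_card] at h
    show Nat.card (Cfsg.SU 3 F 2 ⧸ Subgroup.center (Cfsg.SU 3 F 2)) = 72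
    omega
  haveI : Finite (Cfsg.PSU 3 F 2) := Nat.finite_of_card_ne_zero (by rw [h72]; norm_num)
  exact ⟨h72, Cfsg.Agent.S0144.result 2 3 3 2 Nat.prime_two Nat.prime_three (by rw [h72]; norm_num)⟩

end Cfsg.Agent.S0282
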