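import Cfsg.Statements.S2060
import Cfsg.Agent.Lib.Spor.Golay.AutOut
import Cfsg.Agent.Lib.Spor.Golay.AutM11

set_option autoImplicit false
open Cfsg

namespace Cfsg.Agent.S2060

/-- The outer automorphism group of the Mathieu group M₁₁ (the stabiliser of a dodecad and one of its points in the automorphism group of the length-24 binary code) is trivial: every automorphism is inner. -/
theorem result : Nat.card (Cfsg.Out ↥Cfsg.Spor.M11) = 1 := by
  open Cfsg.Agent.Spor.Golay Cfsg.Agent.Spor.Golay.Aut in
  refine Eq.trans (b := Nat.card (Cfsg.Out c11.grp)) ?_ ?_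
  · open Cfsg.Agent.Spor.Golay Cfsg.Agent.Spor.Golay.Aut in
    have e : Cfsg.Spor.M11 = c11.grp := by
      ext g
      simp only [Cfsg.Spor.M11, Cfsg.Spor.M12, Subgroup.mem_inf, MulAction.mem_stabilizer_iff,
        Case.grp, mem_Fix, show c11.M = [sqMask, 2 ^ 0] from rfl, List.forall_mem_cons,
        List.forall_mem_singleton, List.not_mem_nil, false_implies,
        implies_true, and_true, pts_two_pow (show 0 < 24 by norm_num), Finset.smul_finset_singleton,
        Finset.singleton_inj, show Cfsg.Spor.squareDodecad = pts sqMask by decide +kernel,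
        show pt 0 = (some 0 : GolayPt) by decide +kernel, and_assoc]
    rw [e]
  · open Cfsg.Agent.Spor.Golay.Aut in
    exact c11.out_one gen11_check (by decide +kernel) aut11

end Cfsg.Agent.S2060
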