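import Cfsg.Statements.S0700
import Mathlib
import Cfsg.Agent.Lib.Block.RegularNormal
import Cfsg.Agent.Lib.Grp.FrobeniusTheorem
-- import your own Cfsg.Agent.* helpers here

set_option autoImplicit false
open Cfsg

namespace Cfsg.Agent.S0700

/-- Burnside's Theorem on doubly transitive groups: a minimal normal subgroup of a finite doubly transitive permutation group is elementary abelian and regular, or simple and primitive. -/
theorem result {α : Type*} [Fintype α] [DecidableEq α] (G : Subgroup (Equiv.Perm α)) (hG : MulAction.IsMultiplyPretransitive G α 2) (N : Subgroup G) [N.Normal] (hN : N ≠ ⊥) (hmin : ∀ M : Subgroup G, M.Normal → M ≤ N → M = ⊥ ∨ M = N) : (IsMulCommutative N ∧ (∃ p : ℕ, p.Prime ∧ ∀ n ∈ N, n ^ p = 1) ∧ ∀ a : α, MulAction.stabilizer N a = ⊥) ∨ (IsSimpleGroup N ∧ MulAction.IsPreprimitive N α) := by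
  classical
  open Pointwise in
  haveI : Nontrivial α := by
    by_contra hne
    rw [not_nontrivial_iff_subsingleton] at hne
    apply hN
    rw [eq_bot_iff]
    intro x _
    rw [Subgroup.mem_bot]
    exact Subtype.ext (Equiv.ext fun z => Subsingleton.elim _ _)
  haveI : MulAction.IsPreprimitive G α := MulAction.isPreprimitive_of_is_two_pretransitive hG
  have htr : MulAction.IsPretransitive N α := Cfsg.Agent.Block.transitive_of_normal hN
  haveI : Nontrivial N := N.nontrivial_iff_ne_bot.2 hN
  have h2t : ∀ a b c d : α, a ≠ b → c ≠ d → ∃ g : G, g • a = c ∧ g • b = d :=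
    fun a b c d hab hcd => (MulAction.is_two_pretransitive_iff.1 hG) hab hcd
  by_cases hab : IsMulCommutative N
  · left
    obtain ⟨hreg, -⟩ := Cfsg.Agent.Block.regular_of_commute htr htr
      (fun x hx y hy => congrArg Subtype.val (hab.is_comm.comm (⟨x, hx⟩ : N) ⟨y, hy⟩))
    exact ⟨hab, Cfsg.Agent.Block.minimal_normal_abelian_exponent hN hmin hab, hreg⟩
  right
  have hnotreg : ¬ ∀ a : α, MulAction.stabilizer N a = ⊥ := by
    intro hreg
    apply hab
    obtain ⟨a⟩ : Nonempty α := inferInstance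
    refine Cfsg.Agent.Block.abelian_of_center_ne_bot hmin (Cfsg.Agent.Block.center_ne_bot_of_same_order ?_)
    intro x y hx hy
    have hne : ∀ z : N, z ≠ 1 → z • a ≠ a := fun z hz h =>
      hz (Cfsg.Agent.Block.regular_inj hreg (h.trans (one_smul N a).symm))
    obtain ⟨g, hga, hgx⟩ := h2t a (x • a) a (y • a) (Ne.symm (hne x hx)) (Ne.symm (hne y hy))
    have hy' : y = ⟨g * (x : G) * g⁻¹, Subgroup.Normal.conj_mem inferInstance _ x.2 g⟩ := by
      refine Cfsg.Agent.Block.regular_inj hreg (a := a) ?_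
      rw [← hgx]
      show g • ((x : G) • a) = (g * (x : G) * g⁻¹) • a
      rw [mul_smul, mul_smul, inv_smul_eq_iff.2 hga.symm]
    rw [hy']
    refine ((Subgroup.orderOf_coe x).symm.trans ?_).trans (Subgroup.orderOf_coe _)
    exact (MulEquiv.orderOf_eq (MulAut.conj g) (x : G)).symm
  have hprimN : MulAction.IsPreprimitive N α := by
    by_contra hnp
    let Pr : Set α → Prop := fun B => MulAction.IsBlock N B ∧ B.Nontrivial ∧ B ≠ Set.univ
    have hex : ∃ B, Pr B := by
      by_contra hno
      push Not at hno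
      haveI := htr
      refine hnp (MulAction.IsPreprimitive.mk (fun {B} hB => ?_))
      by_cases hs : B.Subsingleton
      · exact Or.inl hs
      · exact Or.inr (not_not.1 fun hu => absurd (hno B ⟨hB, Set.not_subsingleton_iff.1 hs, hu⟩) id)
    haveI := Fintype.ofFinite (Set α)
    obtain ⟨B₀, hB₀, hB₀min⟩ := Finset.exists_min_image (Finset.univ.filter Pr) Set.ncard
      (by obtain ⟨B, hB⟩ := hex; exact ⟨B, Finset.mem_filter.2 ⟨Finset.mem_univ _, hB⟩⟩)
    rw [Finset.mem_filter] at hB₀
    have hmin0 : ∀ B, Pr B → B₀.ncard ≤ B.ncard := fun B hB =>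
      hB₀min B (Finset.mem_filter.2 ⟨Finset.mem_univ _, hB⟩)
    have htransl : ∀ g : G, Pr (g • B₀) := by
      intro g
      refine ⟨?_, ?_, ?_⟩
      · have h1 := hB₀.2.1.of_subgroup_of_conjugate g
        have hNN : N.map (MulAut.conj g).toMonoidHom = N := by
          ext z
          constructor
          · rintro ⟨w, hw, rfl⟩
            exact Subgroup.Normal.conj_mem inferInstance w hw g
          · intro hz
            refine ⟨g⁻¹ * z * g, by simpa using Subgroup.Normal.conj_mem inferInstance z hz g⁻¹, ?_⟩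
            simp [mul_assoc]
        rwa [hNN] at h1
      · exact hB₀.2.2.1.image (MulAction.injective g)
      · intro hu
        apply hB₀.2.2.2
        rw [← inv_smul_smul g B₀, hu, Set.smul_set_univ]
    have hncard : ∀ g : G, (g • B₀).ncard = B₀.ncard := fun g =>
      Set.ncard_image_of_injective _ (MulAction.injective g)
    have hline : ∀ a b : α, a ≠ b → ∃ B, Pr B ∧ B.ncard = B₀.ncard ∧ a ∈ B ∧ b ∈ B := by
      intro a b hne
      obtain ⟨x, hx, y, hy, hxy⟩ := hB₀.2.2.1
      obtain ⟨g, hgx, hgy⟩ := h2t x y a b hxy hne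
      exact ⟨g • B₀, htransl g, hncard g, ⟨x, hx, hgx⟩, ⟨y, hy, hgy⟩⟩
    have huniq : ∀ a b : α, a ≠ b → ∀ B C : Set α, Pr B → Pr C → B.ncard = B₀.ncard → C.ncard = B₀.ncard →
        a ∈ B → b ∈ B → a ∈ C → b ∈ C → B = C := by
      intro a b hne B C hB hC hBc hCc haB hbB haC hbC
      have hI : Pr (B ∩ C) := ⟨hB.1.inter hC.1, ⟨a, ⟨haB, haC⟩, b, ⟨hbB, hbC⟩, hne⟩,
        fun h => hB.2.2 (Set.eq_univ_of_univ_subset (h ▸ Set.inter_subset_left))⟩
      have h1 := hmin0 _ hI
      have e1 : B ∩ C = B := Set.eq_of_subset_of_ncard_le Set.inter_subset_left (by omega)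
      have e2 : B ∩ C = C := Set.eq_of_subset_of_ncard_le Set.inter_subset_right (by omega)
      exact e1.symm.trans e2
    have hfix : ∀ (n : N) (B : Set α) (a : α), Pr B → a ∈ B → n • a = a → ∀ c ∈ B, n • c ∈ B := by
      intro n B a hB ha hna c hc
      have h1 : n • B = B := (MulAction.isBlock_iff_smul_eq_of_nonempty.1 hB.1) ⟨a, ⟨a, ha, hna⟩, ha⟩
      rw [← h1]
      exact ⟨c, hc, rfl⟩
    have hout : ∀ B, Pr B → ∃ d, d ∉ B := fun B hB => (Set.ne_univ_iff_exists_notMem B).1 hB.2.2
    have key : ∀ (n : N) (a b c : α), a ≠ b → n • a = a → n • b = b →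
        (∀ B, Pr B → B.ncard = B₀.ncard → a ∈ B → b ∈ B → c ∉ B) → n • c = c := by
      intro n a b c hne hna hnb hc
      have hca : a ≠ c := by
        rintro rfl
        obtain ⟨B, hB, hBc, haB, hbB⟩ := hline a b hne
        exact hc B hB hBc haB hbB haB
      have hcb : b ≠ c := by
        rintro rfl
        obtain ⟨B, hB, hBc, haB, hbB⟩ := hline a b hne
        exact hc B hB hBc haB hbB hbB
      obtain ⟨B, hB, hBc, haB, hcB⟩ := hline a c hca
      obtain ⟨C, hC, hCc, hbC, hcC⟩ := hline b c hcb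
      by_contra hmove
      have : B = C := huniq (n • c) c hmove B C hB hC hBc hCc (hfix n B a hB haB hna c hcB) hcB
        (hfix n C b hC hbC hnb c hcC) hcC
      exact hc B hB hBc haB (this ▸ hbC) hcB
    have hfree : ∀ (n : N) (a b : α), a ≠ b → n • a = a → n • b = b → n = 1 := by
      intro n a b hne hna hnb
      apply Subtype.ext
      apply eq_of_smul_eq_smul (α := α)
      intro c
      show n • c = (1 : G) • c
      rw [one_smul]
      obtain ⟨B, hB, hBc, haB, hbB⟩ := hline a b hne
      by_cases hcB : c ∈ B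
      · by_cases hca : c = a
        · rw [hca, hna]
        obtain ⟨d, hd⟩ := hout B hB
        have hnd : n • d = d := key n a b d hne hna hnb
          (fun C hC hCc haC hbC => by rw [← huniq a b hne B C hB hC hBc hCc haB hbB haC hbC]; exact hd)
        have had : a ≠ d := fun h => hd (h ▸ haB)
        refine key n a d c had hna hnd (fun C hC hCc haC hdC hcC => ?_)
        have : B = C := huniq a c (Ne.symm hca) B C hB hC hBc hCc haB hcB haC hcC
        exact hd (this ▸ hdC)
      · exact key n a b c hne hna hnb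
          (fun C hC hCc haC hbC => by rw [← huniq a b hne B C hB hC hBc hCc haB hbB haC hbC]; exact hcB)
    obtain ⟨a, ha⟩ := not_forall.1 hnotreg
    have hH : Cfsg.IsFrobeniusComplement (MulAction.stabilizer N a) := by
      refine ⟨ha, ?_, ?_⟩
      · intro htop
        obtain ⟨b, hb⟩ := exists_ne a
        obtain ⟨n, hn⟩ := htr.exists_smul_eq a b
        have : n ∈ MulAction.stabilizer N a := htop ▸ Subgroup.mem_top n
        exact hb (hn.symm.trans this)
      · intro g hg
        rw [eq_bot_iff]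
        intro x hx
        rw [Subgroup.mem_bot]
        obtain ⟨hx1, hx2⟩ := Subgroup.mem_inf.1 hx
        rw [Cfsg.Agent.Frob.mem_smul_conj_iff] at hx2
        refine hfree x a (g • a) (fun h => hg h.symm) hx1 ?_
        have h2 : (g⁻¹ * x * g) • a = a := hx2
        calc x • g • a = g • ((g⁻¹ * x * g) • a) := by rw [← mul_smul, ← mul_smul]; congr 1; group
          _ = g • a := by rw [h2]
    obtain ⟨K, hK, -, hcompl, -⟩ := Cfsg.Agent.Grp.frobenius_kernel_spec hH
    have hKiff : ∀ x : N, x ∈ K ↔ x = 1 ∨ ∀ c : α, x • c ≠ c := by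
      intro x
      rw [← SetLike.mem_coe, hK, Cfsg.Agent.Frob.mem_kernel_iff]
      refine or_congr_right ⟨fun h c hc => ?_, fun h g hg => ?_⟩
      · obtain ⟨g, hg⟩ := htr.exists_smul_eq a c
        apply h g
        rw [MulAction.mem_stabilizer_iff, mul_smul, mul_smul, hg, hc, ← hg, inv_smul_smul]
      · rw [MulAction.mem_stabilizer_iff, mul_smul, mul_smul, inv_smul_eq_iff] at hg
        exact h _ hg
    haveI : (K.map N.subtype).Normal := by
      refine ⟨fun z hz g => ?_⟩
      obtain ⟨x, hx, rfl⟩ := Subgroup.mem_map.1 hz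
      refine Subgroup.mem_map.2 ⟨⟨g * (x : G) * g⁻¹, Subgroup.Normal.conj_mem inferInstance _ x.2 g⟩, ?_, rfl⟩
      rw [hKiff] at hx ⊢
      rcases hx with rfl | hx
      · left; apply Subtype.ext; simp
      · right
        intro c hc
        apply hx (g⁻¹ • c)
        have h1 : (g * (x : G) * g⁻¹) • c = c := hc
        rw [mul_smul, mul_smul] at h1
        show (x : G) • g⁻¹ • c = g⁻¹ • c
        exact (eq_inv_smul_iff.2 h1 : _)
    rcases hmin _ inferInstance (Subgroup.map_subtype_le K) with h | h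
    · rw [Subgroup.map_eq_bot_iff_of_injective _ (Subgroup.subtype_injective N)] at h
      rw [h] at hcompl
      have htop := Subgroup.isComplement'_bot_left.1 hcompl
      exact hH.2.1 htop
    · have hK' : K = ⊤ := by
        rw [eq_top_iff]
        intro x _
        obtain ⟨y, hy, hyx⟩ := Subgroup.mem_map.1 (h.ge x.2)
        exact (Subtype.ext hyx : y = x) ▸ hy
      rw [hK'] at hcompl
      exact ha (Subgroup.isComplement'_top_left.1 hcompl)
  refine ⟨?_, hprimN⟩
  refine ⟨fun M₀ hM₀ => ?_⟩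
  by_contra hcon
  push Not at hcon
  haveI := Fintype.ofFinite (Subgroup N)
  let Q : Subgroup N → Prop := fun M => M.Normal ∧ M ≠ ⊥ ∧ M ≠ ⊤
  obtain ⟨M, hM, hMmin'⟩ := Finset.exists_min_image (Finset.univ.filter Q) (fun M => Nat.card M)
    ⟨M₀, Finset.mem_filter.2 ⟨Finset.mem_univ _, hM₀, hcon.1, hcon.2⟩⟩
  obtain ⟨hMn, hMb, hMt⟩ := (Finset.mem_filter.1 hM).2
  have hminof : ∀ M' : Subgroup N, Nat.card M' = Nat.card M → M' ≠ ⊤ → ∀ L : Subgroup N, L.Normal → L ≤ M' → L = ⊥ ∨ L = M' := by
    intro M' hc hne L hL hle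
    by_cases hLb : L = ⊥
    · exact Or.inl hLb
    right
    have hLt : L ≠ ⊤ := fun h => hne (top_le_iff.1 (h ▸ hle))
    have := hMmin' L (Finset.mem_filter.2 ⟨Finset.mem_univ _, hL, hLb, hLt⟩)
    exact Subgroup.eq_of_le_of_card_ge hle (by omega)
  obtain ⟨g, hg⟩ : ∃ g : G, M.map (MulAut.conjNormal g : MulAut N).toMonoidHom ≠ M := by
    by_contra hall
    push Not at hall
    haveI : (M.map N.subtype).Normal := by
      refine ⟨fun z hz g => ?_⟩
      obtain ⟨x, hx, rfl⟩ := Subgroup.mem_map.1 hz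
      refine Subgroup.mem_map.2 ⟨MulAut.conjNormal g x, ?_, by simp⟩
      rw [← hall g]
      exact Subgroup.mem_map.2 ⟨x, hx, rfl⟩
    rcases hmin _ inferInstance (Subgroup.map_subtype_le M) with h | h
    · exact hMb ((Subgroup.map_eq_bot_iff_of_injective _ (Subgroup.subtype_injective N)).1 h)
    · apply hMt
      rw [eq_top_iff]
      intro x _
      obtain ⟨y, hy, hyx⟩ := Subgroup.mem_map.1 (h.ge x.2)
      exact (Subtype.ext hyx : y = x) ▸ hy
  set M₂ := M.map (MulAut.conjNormal g : MulAut N).toMonoidHom with hM₂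
  haveI := hMn
  haveI : M₂.Normal := hMn.map _ (MulEquiv.surjective _)
  have hM₂c : Nat.card M₂ = Nat.card M := Subgroup.card_map_of_injective (MulEquiv.injective _)
  have hM₂t : M₂ ≠ ⊤ := fun h => hMt (Subgroup.eq_top_of_card_eq M (by rw [← hM₂c, h, Subgroup.card_top]))
  have hM₂b : M₂ ≠ ⊥ := fun h => hMb ((Subgroup.map_eq_bot_iff_of_injective _ (MulEquiv.injective _)).1 h)
  haveI := hprimN
  haveI : FaithfulSMul N α := ⟨fun {x y} h => Subtype.ext (eq_of_smul_eq_smul (α := α) h)⟩
  have ht1 : MulAction.IsPretransitive M α := Cfsg.Agent.Block.transitive_of_normal hMb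
  have ht2 : MulAction.IsPretransitive M₂ α := Cfsg.Agent.Block.transitive_of_normal hM₂b
  obtain ⟨-, hc⟩ := Cfsg.Agent.Block.minimal_normal_disjoint (hminof M rfl hMt) (hminof M₂ hM₂c hM₂t) (Ne.symm hg)
  obtain ⟨hreg, hcent⟩ := Cfsg.Agent.Block.regular_of_commute ht1 ht2 hc
  obtain ⟨a⟩ : Nonempty α := inferInstance
  haveI : Nontrivial M := M.nontrivial_iff_ne_bot.2 hMb
  have hMab : IsMulCommutative M := by
    refine Cfsg.Agent.Block.abelian_of_center_ne_bot (hminof M rfl hMt) (Cfsg.Agent.Block.center_ne_bot_of_same_order ?_)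
    intro x y hx hy
    have hne : ∀ z : M, z ≠ 1 → z • a ≠ a := fun z hz h =>
      hz (Cfsg.Agent.Block.regular_inj hreg (h.trans (one_smul M a).symm))
    obtain ⟨k, hka, hkx⟩ := h2t a (x • a) a (y • a) (Ne.symm (hne x hx)) (Ne.symm (hne y hy))
    set z : N := MulAut.conjNormal k (x : N) with hz
    have hza : z • a = (y : N) • a := by
      show ((MulAut.conjNormal k (x : N) : N) : G) • a = _
      rw [MulAut.conjNormal_apply, mul_smul, mul_smul, inv_smul_eq_iff.2 hka.symm]
      exact hkx
    have hzord : orderOf z = orderOf (x : N) := MulEquiv.orderOf_eq _ _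
    rw [← Subgroup.orderOf_coe x, ← Subgroup.orderOf_coe y, ← hzord]
    set Mk := M.map (MulAut.conjNormal k : MulAut N).toMonoidHom with hMk
    haveI : Mk.Normal := hMn.map _ (MulEquiv.surjective _)
    have hzMk : z ∈ Mk := Subgroup.mem_map.2 ⟨x, x.2, rfl⟩
    by_cases hk : Mk = M
    · have : (⟨z, hk ▸ hzMk⟩ : M) = y := Cfsg.Agent.Block.regular_inj hreg (a := a) hza
      rw [← this]
    · have hMkc : Nat.card Mk = Nat.card M := Subgroup.card_map_of_injective (MulEquiv.injective _)
      have hMkt : Mk ≠ ⊤ := fun h => hMt (Subgroup.eq_top_of_card_eq M (by rw [← hMkc, h, Subgroup.card_top]))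
      obtain ⟨-, hck⟩ := Cfsg.Agent.Block.minimal_normal_disjoint (hminof Mk hMkc hMkt) (hminof M rfl hMt) hk
      have hMkb : Mk ≠ ⊥ := fun h => hMb ((Subgroup.map_eq_bot_iff_of_injective _ (MulEquiv.injective _)).1 h)
      have ht3 : MulAction.IsPretransitive Mk α := Cfsg.Agent.Block.transitive_of_normal hMkb
      obtain ⟨hreg3, -⟩ := Cfsg.Agent.Block.regular_of_commute ht3 ht1 hck
      have hpow : ∀ n : ℕ, (z ^ n) • a = ((y : N) ^ n) • a := by
        intro n
        induction n with
        | zero => rw [pow_zero, pow_zero]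
        | succ n ih =>
          rw [pow_succ', mul_smul, ih, ← mul_smul, hck z hzMk _ (pow_mem y.2 n), mul_smul, hza, ← mul_smul,
            ← pow_succ]
      refine orderOf_eq_orderOf_iff.2 fun n => ⟨fun h => ?_, fun h => ?_⟩
      · have h1 := hpow n
        rw [h, one_smul] at h1
        have := Cfsg.Agent.Block.regular_inj hreg (a := a) (m := y ^ n) (m' := 1) (by
          rw [one_smul]; exact h1.symm)
        exact congrArg Subtype.val this
      · have h1 := hpow n
        rw [h, one_smul] at h1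
        have := Cfsg.Agent.Block.regular_inj hreg3 (a := a) (m := (⟨z, hzMk⟩ : Mk) ^ n) (m' := 1) (by
          rw [one_smul]; exact h1)
        exact congrArg Subtype.val this
  obtain ⟨-, hcent'⟩ := Cfsg.Agent.Block.regular_of_commute ht1 ht1
    (fun x hx y hy => congrArg Subtype.val (hMab.is_comm.comm (⟨x, hx⟩ : M) ⟨y, hy⟩))
  have hle : M₂ ≤ M := fun z hz => hcent' ⟨a⟩ z fun m hm => (hc m hm z hz).symm
  exact hg (Subgroup.eq_of_le_of_card_ge hle hM₂c.ge)

end Cfsg.Agent.S0700
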