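import Cfsg.Statements.S3116
import Mathlib
import Cfsg.Agent.Lib.Fus.DihedralAut

set_option autoImplicit false
open Cfsg

namespace Cfsg.Agent.S3116

/-- The automorphism group of a dihedral 2-group of order at least 8, or of a quasi-dihedral (semidihedral) 2-group of order at least 16, is a 2-group. -/
theorem result {X : Type*} [Group X] [Finite X] (h2 : IsPGroup 2 X)
    (h : (∃ n : ℕ, 4 ≤ n ∧ Nonempty (X ≃* DihedralGroup n)) ∨ Cfsg.IsQuasiDihedral X) : IsPGroup 2 (MulAut X) := by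
  rcases h with ⟨n, hn, ⟨e⟩⟩ | ⟨n, hn, hcard, x, y, hx, hy, hxy⟩
  · have hd : IsPGroup 2 (DihedralGroup n) := h2.of_equiv e
    haveI : NeZero n := ⟨by omega⟩
    haveI : Fact (Nat.Prime 2) := ⟨Nat.prime_two⟩
    obtain ⟨j, hj⟩ := hd.exists_card_eq
    rw [DihedralGroup.nat_card] at hj
    obtain ⟨k, -, rfl⟩ := (Nat.dvd_prime_pow Nat.prime_two).mp (Dvd.intro_left 2 hj : n ∣ 2 ^ j)
    have hk : 2 ≤ k := by
      by_contra hcon
      interval_cases k <;> simp at hn
    exact Cfsg.Agent.Fus.isPGroup_mulAut_congr e (Cfsg.Agent.Fus.isPGroup_mulAut_dihedralGroup hk)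
  · have hyy : y * y = 1 := by rw [← pow_two, ← hy, pow_orderOf_eq_one]
    have hyi : y⁻¹ = y := inv_eq_of_mul_eq_one_right hyy
    obtain ⟨m, hm⟩ : ∃ m, n = m + 3 := ⟨n - 3, by omega⟩
    subst hm
    simp only [show m + 3 - 1 = m + 2 by omega] at hxy
    have hpos : 1 ≤ 2 ^ (m + 2) := Nat.one_le_two_pow
    have hy_not : y ∉ Subgroup.zpowers x := by
      intro hmem
      obtain ⟨z, hz⟩ := Subgroup.mem_zpowers_iff.mp hmem
      have hc : Commute y x := hz ▸ (Commute.refl x).zpow_left z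
      rw [hc.eq, mul_inv_cancel_right] at hxy
      have h1 : x ^ 1 = x ^ (2 ^ (m + 2) - 1) := by rw [pow_one]; exact hxy
      rw [pow_eq_pow_iff_modEq, hx, Nat.modEq_iff_dvd' (by have : 4 ≤ 2 ^ (m + 2) := by { rw [pow_add]; nlinarith [Nat.one_le_two_pow (n := m)] }; omega)] at h1
      have h4 : 2 ^ (m + 3) = 2 * 2 ^ (m + 2) := by rw [← pow_succ']
      have h5 : 4 ≤ 2 ^ (m + 2) := by rw [pow_add]; nlinarith [Nat.one_le_two_pow (n := m)]
      have := Nat.le_of_dvd (by omega) h1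
      omega
    have hidx : (Subgroup.zpowers x).index = 2 := by
      have := (Subgroup.zpowers x).card_mul_index
      rw [Nat.card_zpowers, hx, hcard, pow_succ 2 (m + 3)] at this
      exact Nat.eq_of_mul_eq_mul_left (Nat.two_pow_pos (m + 3)) this
    have hcov : ∀ g : X, g ∈ Subgroup.zpowers x ∨ y⁻¹ * g ∈ Subgroup.zpowers x := by
      intro g
      by_cases hg : g ∈ Subgroup.zpowers x
      · exact Or.inl hg
      · right
        rw [Subgroup.mul_mem_iff_of_index_two hidx, inv_mem_iff]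
        exact ⟨fun h => absurd h hy_not, fun h => absurd h hg⟩
    refine Cfsg.Agent.Fus.isPGroup_mulAut_of_cyclic_index_two hx (fun g hg => ?_) hy_not hcov
    by_contra hgn
    have hmem := (hcov g).resolve_left hgn
    obtain ⟨i, hi⟩ := Subgroup.mem_zpowers_iff.mp hmem
    have hge : g = y * x ^ i := by rw [hi, mul_inv_cancel_left]
    have hyx : ∀ z : ℤ, y * x ^ z * y⁻¹ = x ^ (((2 : ℤ) ^ (m + 2) - 1) * z) := by
      intro z
      have h1 : MulAut.conj y (x ^ z) = (MulAut.conj y x) ^ z := map_zpow _ _ _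
      simp only [MulAut.conj_apply] at h1
      rw [h1, hxy, ← zpow_natCast, ← zpow_mul, Nat.cast_sub hpos]
      push_cast; rfl
    have hg2 : g ^ 2 = x ^ ((2 : ℤ) ^ (m + 2) * i) := by
      rw [hge, pow_two, show y * x ^ i * (y * x ^ i) = (y * x ^ i * y⁻¹) * (y * y) * x ^ i by group, hyy, mul_one,
        hyx, ← zpow_add]
      congr 1; ring
    have hg4 : g ^ 4 = 1 := by
      rw [show 4 = 2 * 2 by norm_num, pow_mul, hg2, ← zpow_natCast, ← zpow_mul,
        show (2 : ℤ) ^ (m + 2) * i * ((2 : ℕ) : ℤ) = ((2 ^ (m + 3) : ℕ) : ℤ) * i by push_cast; ring, zpow_mul,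
        zpow_natCast, ← hx, pow_orderOf_eq_one, one_zpow]
    have := Nat.le_of_dvd (by norm_num) (orderOf_dvd_of_pow_eq_one hg4)
    rw [hg] at this
    have h8 : 8 ≤ 2 ^ (m + 3) := by rw [pow_add]; nlinarith [Nat.one_le_two_pow (n := m)]
    omega

end Cfsg.Agent.S3116
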