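import Cfsg.Statements.S2133
import Cfsg.Agent.Lib.Spor.AffineOctad

set_option autoImplicit false
open Cfsg

namespace Cfsg.Agent.S2133

/-- The Mathieu group M₂₄ (the automorphism group of the length-24 binary code) has an involution whose centraliser is isomorphic to the centraliser of a transvection in SL(5, 2) (a group of shape 2^{1+6}:GL(3, 2)). -/
theorem result (s : Matrix.SpecialLinearGroup (Fin 5) (ZMod 2)) (hs : (s : Matrix (Fin 5) (Fin 5) (ZMod 2)) = Matrix.transvection 0 1 1) : ∃ z : ↥Cfsg.M24, orderOf z = 2 ∧ Nonempty (↥(Subgroup.centralizer ({z} : Set ↥Cfsg.M24)) ≃* ↥(Subgroup.centralizer ({s} : Set (Matrix.SpecialLinearGroup (Fin 5) (ZMod 2))))) := by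
  classical
  obtain ⟨o, ho⟩ : ∃ o, o ∈ Cfsg.octads := ⟨_, Cfsg.Agent.Spor.Golay.mem_octads.mpr ⟨5279, by decide +kernel, rfl⟩⟩
  obtain ⟨p, hp⟩ : ∃ p, p ∉ o := by
    by_contra h
    push Not at h
    have h8 := Cfsg.Agent.Spor.Golay.octad_card ho
    rw [Finset.eq_univ_of_forall h, Finset.card_univ, Cfsg.Agent.Spor.Golay.card_golayPt] at h8
    omega
  have hU := Cfsg.Agent.Spor.Affine.Oct.card_facts ho hp
  haveI : Nontrivial ↥(Cfsg.Agent.Spor.Affine.Oct.U o) := Finite.one_lt_card_iff_nontrivial.mp (by rw [hU.1]; norm_num)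
  obtain ⟨⟨z, hz⟩, hne⟩ := exists_ne (1 : ↥(Cfsg.Agent.Spor.Affine.Oct.U o))
  have hz1 : z ≠ 1 := fun h => hne (Subtype.ext h)
  obtain ⟨S, hS⟩ := Cfsg.Agent.Spor.Affine.Oct.exists_setup_oct ho hz hz1
  obtain ⟨T, hT⟩ := Cfsg.Agent.Spor.Affine.Lin.exists_setup_sl 3 s hs
  haveI : Fact (Nat.Prime 2) := ⟨Nat.prime_two⟩
  refine ⟨z, orderOf_eq_prime ((Cfsg.Agent.Spor.Affine.Oct.elem_U ho).2 z hz) hz1, ?_⟩
  rw [← hS, ← hT]
  exact S.cent_iso T

end Cfsg.Agent.S2133
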