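import Cfsg.Statements.S1214
import Cfsg.Agent.Lib.Invol.OneClassSimple
import Cfsg.Agent.Lib.Grp.Frattini
-- import your own Cfsg.Agent.* helpers here

set_option autoImplicit false
open Cfsg

namespace Cfsg.Agent.S1214

/-- Let G be a finite group with quasi-dihedral or wreathed Sylow 2-subgroups and no subgroup of index 2. Then G/O(G), the quotient by the largest normal subgroup of odd order, has a normal subgroup of odd index which is a non-abelian simple group. -/
theorem result {G : Type*} [Group G] [Finite G] (S : Sylow 2 G) (hS : Cfsg.IsQuasiDihedral (S : Subgroup G) ∨ Cfsg.IsWreathed (S : Subgroup G)) (hG : ∀ H : Subgroup G, H.index ≠ 2) : ∃ L : Subgroup (G ⧸ Cfsg.oddCore G), L.Normal ∧ Odd L.index ∧ IsSimpleGroup L ∧ ¬ IsMulCommutative L := by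
  have : Fact (Nat.Prime 2) := ⟨Nat.prime_two⟩
  have : (Cfsg.oddCore G).Normal := Grp.pPrimeCore_isNormal
  let f := QuotientGroup.mk' (Cfsg.oddCore G)
  let P := S.mapSurjective (QuotientGroup.mk'_surjective (Cfsg.oddCore G))
  have hinj : ∀ s : ↥(S : Subgroup G), f s = 1 → s = 1 := by
    intro s hs
    obtain ⟨k, hk⟩ := IsPGroup.iff_orderOf.mp S.isPGroup' s
    have hm : (s : G) ∈ Cfsg.oddCore G := (QuotientGroup.eq_one_iff _).mp hs
    have hd : orderOf s ∣ Nat.card (Cfsg.oddCore G) := by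
      rw [← Subgroup.orderOf_coe, ← Subgroup.orderOf_mk _ hm]
      exact orderOf_dvd_natCard _
    exact orderOf_eq_one_iff.mp (Nat.eq_one_of_dvd_coprimes
      (Nat.Coprime.pow_right k (Grp.pPrimeCore_coprime (p := 2) (G := G))) hd (hk ▸ dvd_rfl))
  let φ : ↥(S : Subgroup G) ≃* ↥(P : Subgroup (G ⧸ Cfsg.oddCore G)) :=
    MulEquiv.ofBijective (f.subgroupMap (S : Subgroup G))
      ⟨(injective_iff_map_eq_one _).mpr fun s hs => hinj s (congrArg Subtype.val hs),
        MonoidHom.subgroupMap_surjective f _⟩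
  refine Invol.simple_normal_odd_index Grp.pPrimeCore_quotient_eq_bot
    (fun H hH => hG (H.comap f) ?_) P ?_
  · rw [H.index_comap_of_surjective (QuotientGroup.mk'_surjective _), hH]
  rcases hS with hS | hS
  · obtain ⟨n, x, y, h⟩ := Invol.exists_qd hS
    have h' := h.map φ
    exact .inl ⟨n, h'.hn, h'.card, φ x, φ y, h'.ox, h'.oy, h'.conj⟩
  · obtain ⟨n, x, y, z, h⟩ := Invol.exists_wr hS
    have h' := h.map φ
    exact .inr ⟨n, h'.hn, h'.card, φ x, φ y, φ z, h'.ox, h'.comm, h'.disj, h'.oz, h'.conj⟩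

end Cfsg.Agent.S1214
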