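import Cfsg.Statements.S0439

set_option autoImplicit false
open Cfsg

namespace Cfsg.Agent.S0439

/-- In the symmetric group of degree n ≥ 2, the set of transpositions is a conjugacy class of 3-transpositions which generates the group. -/
theorem result (n : ℕ) (hn : 2 ≤ n) : Cfsg.IsThreeTranspositionClass {σ : Equiv.Perm (Fin n) | σ.IsSwap} := by
  have hclass : ∀ σ : Equiv.Perm (Fin n), σ.IsSwap → orderOf σ = 2 := by
    rintro σ ⟨x, y, hxy, rfl⟩
    refine orderOf_eq_prime (by rw [pow_two, Equiv.swap_mul_self]) fun h => ?_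
    exact hxy (by simpa using (congrArg (fun f : Equiv.Perm (Fin n) => f x) h).symm)
  refine ⟨⟨hclass, ?_⟩, ?_, Equiv.Perm.closure_isSwap⟩
  · rintro d ⟨x, y, hxy, rfl⟩ e ⟨z, w, hzw, rfl⟩
    by_cases h1 : Equiv.swap x y = Equiv.swap z w
    · left
      rw [h1]
      simp [pow_two]
    by_cases hd : x ≠ z ∧ x ≠ w ∧ y ≠ z ∧ y ≠ w
    · left
      have hdisj : Equiv.Perm.Disjoint (Equiv.swap x y) (Equiv.swap z w) := by
        intro i
        by_cases hi : i = x ∨ i = y
        · right
          rcases hi with rfl | rfl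
          · exact Equiv.swap_apply_of_ne_of_ne hd.1 hd.2.1
          · exact Equiv.swap_apply_of_ne_of_ne hd.2.2.1 hd.2.2.2
        · left
          rw [not_or] at hi
          exact Equiv.swap_apply_of_ne_of_ne hi.1 hi.2
      rw [hdisj.commute.mul_pow, pow_two, pow_two, Equiv.swap_mul_self, Equiv.swap_mul_self,
        mul_one]
    · right
      have key : ∀ p q r : Fin n, p ≠ q → p ≠ r → q ≠ r →
          (Equiv.swap p q * Equiv.swap p r) ^ 3 = 1 := by
        intro p q r hpq hpr hqr
        have h3 := (Equiv.Perm.isThreeCycle_swap_mul_swap_same hpq hpr hqr).orderOf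
        rw [← h3]
        exact pow_orderOf_eq_one _
      by_cases hxz : x = z
      · subst hxz
        exact key x y w hxy hzw (fun h => h1 (by rw [h]))
      by_cases hxw : x = w
      · subst hxw
        rw [Equiv.swap_comm z x]
        exact key x y z hxy (Ne.symm hzw) (fun h => h1 (by rw [h, Equiv.swap_comm]))
      by_cases hyz : y = z
      · subst hyz
        rw [Equiv.swap_comm x y]
        exact key y x w (Ne.symm hxy) hzw hxw
      by_cases hyw : y = w
      · subst hyw
        rw [Equiv.swap_comm x y, Equiv.swap_comm z y]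
        exact key y x z (Ne.symm hxy) (Ne.symm hzw) hxz
      exact absurd ⟨hxz, hxw, hyz, hyw⟩ hd
  · obtain ⟨x, y, hxy⟩ : ∃ x y : Fin n, x ≠ y :=
      ⟨⟨0, by omega⟩, ⟨1, by omega⟩, by simp [Fin.ext_iff]⟩
    refine ⟨Equiv.swap x y, ⟨x, y, hxy, rfl⟩, ?_⟩
    ext σ
    constructor
    · rintro ⟨z, w, hzw, rfl⟩
      exact Equiv.Perm.isConj_swap hxy hzw
    · intro h
      simp only [conjugatesOf, Set.mem_setOf_eq] at h
      obtain ⟨g, hg⟩ := isConj_iff.mp h
      refine ⟨g x, g y, g.injective.ne hxy, ?_⟩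
      rw [← hg, Equiv.swap_apply_apply]

end Cfsg.Agent.S0439
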