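import Cfsg.Statements.S5344
import Mathlib
-- import your own Cfsg.Agent.* helpers here

set_option autoImplicit false
open Cfsg

namespace Cfsg.Agent.S5344

section
variable {P : Type*} [Group P]

/-- The 24 normal forms in three generators of symmetric type. -/
def nf (a b c : P) : List P :=
  [1, a, b, c, a*b, a*c, b*a, b*c, c*b, a*(b*a), a*(b*c), a*(c*b), b*(a*c), b*(c*b), c*(b*a),
   a*(b*(a*c)), a*(b*(c*b)), a*(c*(b*a)), b*(a*(c*b)), b*(c*(b*a)),
   a*(b*(a*(c*b))), a*(b*(c*(b*a))), b*(a*(c*(b*a))), a*(b*(a*(c*(b*a))))]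

theorem closure_le_nf (a b c : P) (haa : a * a = 1) (hbb : b * b = 1) (hcc : c * c = 1)
    (hca : c * a = a * c) (hbab : b * (a * b) = a * (b * a)) (hcbc : c * (b * c) = b * (c * b)) :
    ∀ g ∈ Subgroup.closure ({a, b, c} : Set P), g ∈ nf a b c := by
  have ra : ∀ x : P, a * (a * x) = x := fun x => by rw [← mul_assoc, haa, one_mul]
  have rb : ∀ x : P, b * (b * x) = x := fun x => by rw [← mul_assoc, hbb, one_mul]
  have rc : ∀ x : P, c * (c * x) = x := fun x => by rw [← mul_assoc, hcc, one_mul]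
  have rca : ∀ x : P, c * (a * x) = a * (c * x) := fun x => by simp only [← mul_assoc, hca]
  have rbab : ∀ x : P, b * (a * (b * x)) = a * (b * (a * x)) := fun x => by
    simp only [← mul_assoc, mul_assoc b a b, hbab]
  have rcbc : ∀ x : P, c * (b * (c * x)) = b * (c * (b * x)) := fun x => by
    simp only [← mul_assoc, mul_assoc c b c, hcbc]
  have rcbac : c * (b * (a * c)) = b * (c * (b * a)) := by rw [← hca, rcbc]
  have rcbac' : ∀ x : P, c * (b * (a * (c * x))) = b * (c * (b * (a * x))) := fun x => by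
    rw [← rca, rcbc]
  have step : ∀ s ∈ [a, b, c], ∀ g ∈ nf a b c, g * s ∈ nf a b c := by
    intro s hs g hg
    simp only [List.mem_cons, List.not_mem_nil, or_false] at hs
    simp only [nf, List.mem_cons, List.not_mem_nil, or_false] at hg
    rcases hg with rfl|rfl|rfl|rfl|rfl|rfl|rfl|rfl|rfl|rfl|rfl|rfl|rfl|rfl|rfl|rfl|rfl|rfl|rfl|rfl|rfl|rfl|rfl|rfl <;>
      rcases hs with rfl|rfl|rfl <;>
      simp only [nf, List.mem_cons, List.not_mem_nil, or_false, mul_assoc, one_mul, mul_one, haa, hbb, hcc, hca, hbab, hcbc, ra, rb, rc, rca, rbab, rcbc, rcbac, rcbac', true_or, or_true]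
  intro g hg
  induction hg using Subgroup.closure_induction_right with
  | one => simp [nf]
  | mul_right x hx y hy ih => exact step y (by simpa using hy) x ih
  | mul_inv_cancel x hx y hy ih =>
      have : y⁻¹ = y := by
        rcases hy with rfl | rfl | rfl <;> apply inv_eq_of_mul_eq_one_right <;> assumption
      rw [this]
      exact step y (by simpa using hy) x ih

end

/-- In a set of 3-transpositions, let a, b, c be members with a and c different and commuting, while neither a nor c commutes with b (a 3-string). Then there is an injective homomorphism from the symmetric group of degree 4 into the ambient group sending the transpositions (0 1), (1 2), (2 3) to a, b, c; so a, b, c generate a copy of the symmetric group of degree 4 in which they are transpositions. -/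
theorem result {G : Type*} [Group G] {D : Set G} (hD : Cfsg.IsThreeTranspositionSet D) {a b c : G} (ha : a ∈ D) (hb : b ∈ D) (hc : c ∈ D) (hac : a ≠ c) (hac' : Commute a c) (hab : ¬ Commute a b) (hbc : ¬ Commute b c) : ∃ φ : Equiv.Perm (Fin 4) →* G, Function.Injective φ ∧ φ (Equiv.swap 0 1) = a ∧ φ (Equiv.swap 1 2) = b ∧ φ (Equiv.swap 2 3) = c := by
  classical
  obtain ⟨h1, h2⟩ := hD
  have sq : ∀ x ∈ D, x * x = 1 := fun x hx => by
    have h := pow_orderOf_eq_one x
    rwa [h1 x hx, pow_two] at h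
  have braid : ∀ x ∈ D, ∀ y ∈ D, ¬ Commute x y → x * (y * x) = y * (x * y) := by
    intro x hx y hy hn
    have ix : x⁻¹ = x := inv_eq_of_mul_eq_one_right (sq x hx)
    have iy : y⁻¹ = y := inv_eq_of_mul_eq_one_right (sq y hy)
    rcases h2 x hx y hy with e | e
    · refine absurd ?_ hn
      have e' : x * y = (x * y)⁻¹ := eq_inv_of_mul_eq_one_left (by rwa [← pow_two])
      rwa [mul_inv_rev, ix, iy] at e'
    · rw [pow_three] at e
      have e4 : x * (y * x) = (y * (x * y))⁻¹ := eq_inv_of_mul_eq_one_left (by simpa [mul_assoc] using e)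
      simpa [ix, iy, mul_assoc] using e4
  let A : Equiv.Perm (Fin 4) × G := (Equiv.swap 0 1, a)
  let B : Equiv.Perm (Fin 4) × G := (Equiv.swap 1 2, b)
  let C : Equiv.Perm (Fin 4) × G := (Equiv.swap 2 3, c)
  have hnf : ∀ g ∈ Subgroup.closure ({A, B, C} : Set (Equiv.Perm (Fin 4) × G)), g ∈ nf A B C :=
    closure_le_nf A B C (Prod.ext (Equiv.swap_mul_self _ _) (sq a ha)) (Prod.ext (Equiv.swap_mul_self _ _) (sq b hb))
      (Prod.ext (Equiv.swap_mul_self _ _) (sq c hc))
      (Prod.ext (show Equiv.swap (2 : Fin 4) 3 * Equiv.swap 0 1 = Equiv.swap 0 1 * Equiv.swap 2 3 by decide) hac'.symm)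
      (Prod.ext (show Equiv.swap (1 : Fin 4) 2 * (Equiv.swap 0 1 * Equiv.swap 1 2) = Equiv.swap 0 1 * (Equiv.swap 1 2 * Equiv.swap 0 1) by decide)
        (braid b hb a ha fun h => hab h.symm))
      (Prod.ext (show Equiv.swap (2 : Fin 4) 3 * (Equiv.swap 1 2 * Equiv.swap 2 3) = Equiv.swap 1 2 * (Equiv.swap 2 3 * Equiv.swap 1 2) by decide)
        (braid c hc b hb fun h => hbc h.symm))
  set K := Subgroup.closure ({A, B, C} : Set (Equiv.Perm (Fin 4) × G)) with hK
  have hall : ∀ σ : Equiv.Perm (Fin 4),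
      σ ∈ nf (Equiv.swap 0 1) (Equiv.swap 1 2) (Equiv.swap 2 3) := by decide +kernel
  have hker : ∀ g ∈ K, g.1 = 1 → g = 1 := by
    intro g hg e
    have hm := hnf g hg
    simp only [nf, List.mem_cons, List.not_mem_nil, or_false] at hm
    rcases hm with rfl|rfl|rfl|rfl|rfl|rfl|rfl|rfl|rfl|rfl|rfl|rfl|rfl|rfl|rfl|rfl|rfl|rfl|rfl|rfl|rfl|rfl|rfl|rfl <;>
      first
        | rfl
        | (exfalso; simp only [A, B, C, Prod.fst_mul] at e; revert e; decide)
  have hex : ∀ σ : Equiv.Perm (Fin 4), ∃ x : G, (σ, x) ∈ K := by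
    intro σ
    have hA : A ∈ K := Subgroup.subset_closure (by simp)
    have hB : B ∈ K := Subgroup.subset_closure (by simp)
    have hC : C ∈ K := Subgroup.subset_closure (by simp)
    have hmap : ∀ τ ∈ nf (Equiv.swap (0 : Fin 4) 1) (Equiv.swap 1 2) (Equiv.swap 2 3), τ ∈ (K.map (MonoidHom.fst _ G)) := by
      have a1 : Equiv.swap (0 : Fin 4) 1 ∈ K.map (MonoidHom.fst _ G) := ⟨A, hA, rfl⟩
      have b1 : Equiv.swap (1 : Fin 4) 2 ∈ K.map (MonoidHom.fst _ G) := ⟨B, hB, rfl⟩
      have c1 : Equiv.swap (2 : Fin 4) 3 ∈ K.map (MonoidHom.fst _ G) := ⟨C, hC, rfl⟩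
      intro τ hτ
      simp only [nf, List.mem_cons, List.not_mem_nil, or_false] at hτ
      rcases hτ with rfl|rfl|rfl|rfl|rfl|rfl|rfl|rfl|rfl|rfl|rfl|rfl|rfl|rfl|rfl|rfl|rfl|rfl|rfl|rfl|rfl|rfl|rfl|rfl <;>
        repeat' (first | assumption | exact Subgroup.one_mem _ | apply Subgroup.mul_mem)
    obtain ⟨⟨s, x⟩, hx, e⟩ := hmap σ (hall σ)
    exact ⟨x, by rw [← e]; exact hx⟩
  choose f hf using hex
  have hu : ∀ σ x, (σ, x) ∈ K → x = f σ := by
    intro σ x hx
    have h := hker _ (K.mul_mem hx (K.inv_mem (hf σ))) (mul_inv_cancel σ)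
    exact mul_inv_eq_one.mp (congrArg Prod.snd h)
  let φ : Equiv.Perm (Fin 4) →* G :=
    MonoidHom.mk' f fun σ τ => (hu _ _ (K.mul_mem (hf σ) (hf τ))).symm
  have fa : φ (Equiv.swap 0 1) = a := (hu _ _ (Subgroup.subset_closure (by simp [A] : A ∈ ({A, B, C} : Set _)))).symm
  have fb : φ (Equiv.swap 1 2) = b := (hu _ _ (Subgroup.subset_closure (by simp [B] : B ∈ ({A, B, C} : Set _)))).symm
  have fc : φ (Equiv.swap 2 3) = c := (hu _ _ (Subgroup.subset_closure (by simp [C] : C ∈ ({A, B, C} : Set _)))).symm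
  refine ⟨φ, ?_, fa, fb, fc⟩
  rw [injective_iff_map_eq_one]
  intro σ hσ
  by_contra hne
  have key : ∀ σ : Equiv.Perm (Fin 4), σ ≠ 1 → ∃ τ υ : Equiv.Perm (Fin 4),
      σ * τ * σ⁻¹ * τ⁻¹ * υ * (σ * τ * σ⁻¹ * τ⁻¹)⁻¹ * υ⁻¹ = Equiv.swap 0 1 * Equiv.swap 2 3 ∨
      υ * (σ * τ * σ⁻¹ * τ⁻¹) * υ⁻¹ = Equiv.swap 0 1 * Equiv.swap 2 3 := by decide +kernel
  obtain ⟨τ, υ, h⟩ := key σ hne
  have h3 : φ (Equiv.swap 0 1 * Equiv.swap 2 3) = 1 := by
    rcases h with h | h <;> rw [← h] <;>
      simp only [map_mul, map_inv, hσ, one_mul, mul_one, inv_one, mul_inv_cancel]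
  rw [map_mul, fa, fc] at h3
  exact hac ((eq_inv_of_mul_eq_one_left h3).trans (inv_eq_of_mul_eq_one_right (sq c hc)))

end Cfsg.Agent.S5344
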