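import Cfsg.Statements.S3909
import Mathlib

set_option autoImplicit false
open Cfsg

namespace Cfsg.Agent.S3909

/-- Let G be a finite group in which any two abelian subgroups of the same order are conjugate. Let M be a normal subgroup of G. If M contains an element of the same order as a ∈ G, then a ∈ M; and if M is elementary abelian of order p^t with p prime and t ≥ 2, then M is the unique Sylow p-subgroup of G. -/
theorem result {G : Type*} [Group G] [Finite G] (hB : ∀ A B : Subgroup G, IsMulCommutative ↥A → IsMulCommutative ↥B → Nat.card ↥A = Nat.card ↥B → ∃ g : G, B = A.map (MulAut.conj g).toMonoidHom) (M : Subgroup G) [M.Normal] :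
    (∀ a : G, (∃ m ∈ M, orderOf m = orderOf a) → a ∈ M) ∧
    ∀ (p t : ℕ) [Fact p.Prime], 2 ≤ t → Nat.card ↥M = p ^ t → Cfsg.IsElementaryAbelian p M → ∀ P : Sylow p G, (P : Subgroup G) = M := by
  have h1 : ∀ a : G, (∃ m ∈ M, orderOf m = orderOf a) → a ∈ M := by
    rintro a ⟨m, hm, he⟩
    obtain ⟨g, hg⟩ := hB (Subgroup.zpowers m) (Subgroup.zpowers a) inferInstance inferInstance
      (by rw [Nat.card_zpowers, Nat.card_zpowers, he])
    obtain ⟨z, hz, rfl⟩ := hg.le (Subgroup.mem_zpowers a)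
    exact ‹M.Normal›.conj_mem z (Subgroup.zpowers_le.mpr hm hz) g
  refine ⟨h1, fun p t _ ht hcard hel P => ?_⟩
  have hMp : IsPGroup p M := IsPGroup.of_card hcard
  have hMP : M ≤ (P : Subgroup G) := by
    obtain ⟨R, hR⟩ := hMp.exists_le_sylow
    obtain ⟨g, rfl⟩ := MulAction.exists_smul_eq G R P
    intro a ha
    rw [Sylow.coe_subgroup_smul, Subgroup.mem_pointwise_smul_iff_inv_smul_mem, MulAut.smul_def, MulAut.conj_inv_apply]
    exact hR (by simpa using ‹M.Normal›.conj_mem a ha g⁻¹)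
  refine le_antisymm ?_ hMP
  intro x0 hx0
  by_contra hx0M
  obtain ⟨k0, hk0⟩ := P.isPGroup' ⟨x0, hx0⟩
  have hex : ∃ k, x0 ^ p ^ k ∈ M := ⟨k0, by rw [show x0 ^ p ^ k0 = 1 from congrArg Subtype.val hk0]; exact one_mem M⟩
  classical
  obtain ⟨k, hk⟩ : ∃ k, Nat.find hex = k + 1 := by
    refine Nat.exists_eq_succ_of_ne_zero fun h => hx0M ?_
    have := Nat.find_spec hex
    rwa [h, pow_zero, pow_one] at this
  set x := x0 ^ p ^ k with hx
  have hxM : x ∉ M := Nat.find_min hex (by omega)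
  have hxp : x ^ p ∈ M := by
    have := Nat.find_spec hex
    rwa [hk, pow_succ, pow_mul] at this
  have hxp2 : x ^ p ^ 2 = 1 := by rw [sq, pow_mul, hel.2 _ hxp]
  have hord : orderOf x = p ^ 2 := by
    refine orderOf_eq_prime_pow (fun h => hxM ?_) hxp2
    rw [pow_one] at h
    have : Nontrivial M := Finite.one_lt_card_iff_nontrivial.mp (hcard ▸ Nat.one_lt_pow (by omega) (Fact.out : p.Prime).one_lt)
    obtain ⟨m, hm⟩ := exists_ne (1 : M)
    refine h1 x ⟨m, m.2, ?_⟩
    rw [orderOf_eq_prime (hel.2 m m.2) (fun e => hm (Subtype.ext e)),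
      orderOf_eq_prime h (fun e => hxM (e ▸ one_mem M))]
  obtain ⟨A, hA⟩ := Sylow.exists_subgroup_card_pow_prime p (hcard ▸ pow_dvd_pow p ht : p ^ 2 ∣ Nat.card M)
  have hAc : IsMulCommutative (A.map M.subtype) := by
    haveI := hel.1
    infer_instance
  obtain ⟨g, hg⟩ := hB (A.map M.subtype) (Subgroup.zpowers x) hAc inferInstance
    (by rw [Subgroup.card_map_of_injective M.subtype_injective, hA, Nat.card_zpowers, hord])
  obtain ⟨z, ⟨w, hw, rfl⟩, hz⟩ := hg.le (Subgroup.mem_zpowers x)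
  exact hxM (hz ▸ ‹M.Normal›.conj_mem w w.2 g)

end Cfsg.Agent.S3909
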