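import Cfsg.Statements.S3910
import Cfsg.Agent.S0016

set_option autoImplicit false
open Cfsg

namespace Cfsg.Agent.S3910

/-- A finite nilpotent group in which any two abelian subgroups of the same order are conjugate is cyclic. -/
theorem result {G : Type*} [Group G] [Finite G] (hB : ∀ A B : Subgroup G, IsMulCommutative ↥A → IsMulCommutative ↥B → Nat.card ↥A = Nat.card ↥B → ∃ g : G, B = A.map (MulAut.conj g).toMonoidHom) (hnil : Group.IsNilpotent G) : IsCyclic G := by
  classical
  have hall := (Group.isNilpotent_of_finite_tfae (G := G)).out 0 3 |>.1 hnil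
  have hz : IsZGroup G := ⟨fun p hp P => by
    haveI := Fact.mk hp
    have hPn : (P : Subgroup G).Normal := hall p inferInstance P
    have hU : Unique (Sylow p G) := Sylow.unique_of_normal P hPn
    have hle : ∀ A : Subgroup G, IsPGroup p A → A ≤ (P : Subgroup G) := fun A hA => by
      obtain ⟨R, hR⟩ := hA.exists_le_sylow
      rwa [Subsingleton.elim R P] at hR
    have heq : ∀ A B : Subgroup G, IsMulCommutative A → IsMulCommutative B → Nat.card A = Nat.card B →
        A.Normal → A = B := fun A B hA hB' hc hn => by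
      obtain ⟨g, rfl⟩ := hB A B hA hB' hc
      refine (Subgroup.eq_of_le_of_card_ge ?_ hc.le).symm
      rintro _ ⟨x, hx, rfl⟩
      exact hn.conj_mem x hx g
    have hcov : (P : Subgroup G) ⊔ Subgroup.centralizer ((P : Subgroup G) : Set G) = ⊤ := by
      rw [← Subgroup.index_eq_one]
      by_contra hne
      obtain ⟨q, hq, hd⟩ := Nat.exists_prime_and_dvd hne
      haveI := Fact.mk hq
      obtain ⟨Q⟩ : Nonempty (Sylow q G) := Sylow.nonempty
      refine Q.not_dvd_index (hd.trans (Subgroup.index_dvd_of_le fun y hy => ?_))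
      by_cases hqp : q = p
      · subst hqp
        rw [Subsingleton.elim Q P] at hy
        exact Subgroup.mem_sup_left hy
      · refine Subgroup.mem_sup_right (Subgroup.mem_centralizer_iff.mpr fun z hz => ?_)
        exact (Subgroup.commute_of_normal_of_disjoint _ _ (hall q inferInstance Q) hPn
            (IsPGroup.disjoint_of_ne q p hqp _ _ Q.isPGroup' P.isPGroup') y z hy hz).symm
    have hdec : ∀ g : G, ∃ u ∈ (P : Subgroup G), ∃ v, (∀ a ∈ (P : Subgroup G), v * a * v⁻¹ = a) ∧ u * v = g := by
      intro g
      obtain ⟨u, hu, v, hv, huv⟩ := Subgroup.mem_sup_of_normal_left.mp (hcov ▸ Subgroup.mem_top g)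
      exact ⟨u, hu, v, fun a ha => by rw [← Subgroup.mem_centralizer_iff.mp hv a ha, mul_inv_cancel_right], huv⟩
    have hnorm : ∀ A : Subgroup G, A ≤ (P : Subgroup G) →
        (∀ y ∈ (P : Subgroup G), ∀ a ∈ A, y * a * y⁻¹ ∈ A) → A.Normal := fun A hA h => ⟨fun a ha g => by
      obtain ⟨u, hu, v, hv, rfl⟩ := hdec g
      rw [show u * v * a * (u * v)⁻¹ = u * (v * a * v⁻¹) * u⁻¹ by group, hv a (hA ha)]
      exact h u hu a ha⟩
    have hcent : ∀ z : G, z ∈ (P : Subgroup G) → (∀ y ∈ (P : Subgroup G), y * z = z * y) → z ∈ Subgroup.center G := by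
      intro z hz hzP
      rw [Subgroup.mem_center_iff]
      intro g
      obtain ⟨u, hu, v, hv, rfl⟩ := hdec g
      rw [mul_assoc, show v * z = z * v from mul_inv_eq_iff_eq_mul.mp (hv z hz), ← mul_assoc, hzP u hu, mul_assoc]
    rcases S0016.result p P.isPGroup' (fun A B hA hB' => by
      rcases subsingleton_or_nontrivial (P : Subgroup G) with hs | hnt
      · have := Nat.le_of_dvd Nat.card_pos (Subgroup.card_subgroup_dvd_card A)
        rw [hA, Nat.card_eq_one_iff_unique.mpr ⟨hs, inferInstance⟩] at this
        exact absurd this (not_le.mpr hp.one_lt)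
      have := P.isPGroup'.center_nontrivial
      obtain ⟨z, hz⟩ := exists_prime_orderOf_dvd_card' (G := Subgroup.center (P : Subgroup G)) p (by
        obtain ⟨k, hk⟩ := IsPGroup.iff_card.1 (P.isPGroup'.to_subgroup (Subgroup.center (P : Subgroup G)))
        rcases Nat.eq_zero_or_pos k with rfl | hk0
        · have := Finite.one_lt_card (α := Subgroup.center (P : Subgroup G)); rw [hk, pow_zero] at this; omega
        · exact hk ▸ dvd_pow_self p hk0.ne')
      rw [← Subgroup.orderOf_coe, ← Subgroup.orderOf_coe] at hz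
      set z' : G := ((z : (P : Subgroup G)) : G)
      have hzc : z' ∈ Subgroup.center G := hcent z' (z : (P : Subgroup G)).2 fun y hy =>
        congrArg Subtype.val (Subgroup.mem_center_iff.mp z.2 ⟨y, hy⟩)
      have key : ∀ A : Subgroup (P : Subgroup G), Nat.card A = p →
          A.map (P : Subgroup G).subtype = Subgroup.zpowers z' := by
        intro A hA
        refine (heq _ _ inferInstance ?_ ?_ ?_).symm
        · have : IsCyclic A := isCyclic_of_prime_card hA
          infer_instance
        · rw [Nat.card_zpowers, hz, Subgroup.card_map_of_injective (Subgroup.subtype_injective _), hA]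
        · exact ⟨fun x hx g => by
            rw [show g * x * g⁻¹ = x by
              rw [Subgroup.mem_center_iff.mp (Subgroup.zpowers_le.mpr hzc hx) g, mul_inv_cancel_right]]
            exact hx⟩
      exact Subgroup.map_injective (Subgroup.subtype_injective _) ((key A hA).trans (key B hB').symm)) with hc |
        ⟨rfl, n, ⟨e⟩⟩
    · exact hc
    · haveI : NeZero (2 ^ n) := ⟨by positivity⟩
      rcases Nat.eq_zero_or_pos n with rfl | hn
      · exact e.isCyclic.mpr (isCyclic_of_orderOf_eq_card (QuaternionGroup.xa 0) (by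
          rw [QuaternionGroup.orderOf_xa, Nat.card_eq_fintype_card, QuaternionGroup.card, pow_zero, mul_one]))
      exfalso
      set b : QuaternionGroup (2 ^ n) := QuaternionGroup.a 1 ^ (2 ^ (n - 1)) with hb
      have hb4 : orderOf b = 4 := by
        rw [hb, orderOf_pow_of_dvd (by positivity), QuaternionGroup.orderOf_a_one]
        · rw [show 2 * 2 ^ n = 2 ^ (n - 1) * 4 by
            rw [show n = n - 1 + 1 by omega, pow_succ]; simp; ring, Nat.mul_div_cancel_left _ (by positivity)]
        · rw [QuaternionGroup.orderOf_a_one]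
          exact (pow_dvd_pow 2 (Nat.sub_le n 1)).trans (dvd_mul_left _ _)
      set f : QuaternionGroup (2 ^ n) →* G := (P : Subgroup G).subtype.comp e.symm.toMonoidHom with hf
      have hfinj : Function.Injective f := (Subgroup.subtype_injective _).comp e.symm.injective
      have hA : (Subgroup.zpowers (f b)).Normal := by
        refine hnorm _ (Subgroup.zpowers_le.mpr (e.symm b).2) fun y hy a ha => ?_
        obtain ⟨k, rfl⟩ := Subgroup.mem_zpowers_iff.mp ha
        have hconj : ∀ z : QuaternionGroup (2 ^ n), z * b * z⁻¹ = b ∨ z * b * z⁻¹ = b⁻¹ := by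
          intro z
          rw [hb, QuaternionGroup.a_one_pow]
          rcases z with i | i
          · left
            rw [mul_inv_eq_iff_eq_mul, QuaternionGroup.a_mul_a, QuaternionGroup.a_mul_a, add_comm]
          · right
            rw [mul_inv_eq_iff_eq_mul]
            change _ = QuaternionGroup.a (-_) * _
            rw [QuaternionGroup.xa_mul_a, QuaternionGroup.a_mul_xa, sub_neg_eq_add, add_comm]
        have hy' : y = f (e ⟨y, hy⟩) := by simp [hf]
        rw [hy', ← map_inv, ← map_zpow, ← map_mul, ← map_mul,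
          show e ⟨y, hy⟩ * b ^ k * (e ⟨y, hy⟩)⁻¹ = (e ⟨y, hy⟩ * b * (e ⟨y, hy⟩)⁻¹) ^ k from (conj_zpow ..).symm]
        rcases hconj (e ⟨y, hy⟩) with h | h <;> rw [h]
        · rw [map_zpow]; exact zpow_mem (Subgroup.mem_zpowers _) _
        · rw [map_zpow, map_inv]; exact zpow_mem (inv_mem (Subgroup.mem_zpowers _)) _
      have hAB := heq (Subgroup.zpowers (f b)) (Subgroup.zpowers (f (QuaternionGroup.xa 0))) inferInstance
        inferInstance (by
          rw [Nat.card_zpowers, Nat.card_zpowers, orderOf_injective f hfinj, orderOf_injective f hfinj, hb4,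
            QuaternionGroup.orderOf_xa]) hA
      have hm : f (QuaternionGroup.xa 0) ∈ Subgroup.zpowers (f b) := hAB ▸ Subgroup.mem_zpowers _
      rw [← MonoidHom.map_zpowers] at hm
      obtain ⟨w, hw, hw'⟩ := hm
      have hw2 := hfinj hw'
      subst hw2
      have : QuaternionGroup.xa (0 : ZMod (2 * 2 ^ n)) ∈ Submonoid.powers (QuaternionGroup.a (1 : ZMod (2 * 2 ^ n))) := by
        obtain ⟨k, hk⟩ := Submonoid.mem_powers_iff _ _ |>.mp (mem_powers_iff_mem_zpowers.mpr hw)
        exact ⟨2 ^ (n - 1) * k, by rw [← hk, hb, ← pow_mul]⟩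
      obtain ⟨k, hk⟩ := this
      simp [QuaternionGroup.a_one_pow] at hk⟩
  have : Group.IsNilpotent G := hnil
  infer_instance

end Cfsg.Agent.S3910
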