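import Cfsg.Statements.S0346
import Cfsg.Agent.Lib.Grp.ZasFeit
-- import your own Cfsg.Agent.* helpers here

set_option autoImplicit false
open Cfsg

namespace Cfsg.Agent.S0346

/-- The number of points of a finite simple Zassenhaus group is `p^k + 1` for some prime power `p^k` (the regular normal
subgroup of a point stabiliser is a `p`-group). -/
theorem result {G Ω : Type*} [Group G] [Finite G] [MulAction G Ω] [Fintype Ω]
    (hZ : Cfsg.IsZassenhausGroup G Ω) [IsSimpleGroup G] :
    IsPrimePow (Fintype.card Ω - 1) := by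
  classical
  obtain ⟨a, b, hab⟩ : ∃ a b : Ω, a ≠ b := by
    obtain ⟨g, -, a, b, hab, -, -⟩ := hZ.2.2.2.1
    exact ⟨a, b, hab⟩
  obtain ⟨D, rfl, rfl⟩ := Agent.Block.Zas.frame_of_zassenhaus hZ hab
  have hn := D.two_le_F hZ
  have hH := D.H_ne_bot hZ
  have hc := D.card_points
  rw [Nat.card_eq_fintype_card] at hc
  rw [show Fintype.card Ω - 1 = Nat.card D.F by omega]
  have key : ∀ p k : ℕ, p.Prime → Nat.card D.F = p ^ k → IsPrimePow (Nat.card D.F) := by
    intro p k hp hk
    refine hk ▸ hp.isPrimePow.pow ?_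
    rintro rfl
    rw [pow_zero] at hk
    omega
  have big : Nat.card D.F - 1 ≤ 2 * Nat.card D.H → IsPrimePow (Nat.card D.F) := fun hd => by
    obtain ⟨-, p, k, hp, -, hk⟩ := D.kernel_elementary hn hH hd
    exact key p k hp hk
  rcases Nat.even_or_odd (Nat.card D.H) with he | ho
  · exact big (D.half_of_even hn he)
  rcases Agent.Grp.ZasS.feit_inequality _ G Ω D rfl hZ ho with h | ⟨h2, -, -⟩
  · exact big h
  · haveI := Fact.mk Nat.prime_two
    obtain ⟨k, hk⟩ := IsPGroup.iff_card.mp h2
    exact key 2 k Nat.prime_two hk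

end Cfsg.Agent.S0346
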