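import Cfsg.Statements.S2096
import Cfsg.Agent.Lib.Classical.PlusMultKernel
-- import your own Cfsg.Agent.* helpers here

set_option autoImplicit false
open Cfsg

namespace Cfsg.Agent.S2096

/-- Schur multipliers of the even-dimensional orthogonal groups of plus type and odd rank: for odd l ≥ 5 and a field F with q elements, the Schur multiplier of PΩ⁺_2l(F) (for the form Σ xᵢyᵢ) is cyclic of order gcd(4, q^l − 1); here the Schur multiplier is described through stem extensions, as in the definitions. -/
theorem result {F : Type*} [Field F] [Fintype F] {q : ℕ} (hF : Fintype.card F = q) (l : ℕ) (hl : 5 ≤ l) (hodd : Odd l) : Cfsg.HasCyclicSchurMultiplier (Cfsg.POmega F (Cfsg.quadFormPlus l F)) (Nat.gcd 4 (q ^ l - 1)) := by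
  classical
  subst hF
  have hq : 1 < Fintype.card F := Fintype.one_lt_card
  let X := Cfsg.Agent.Lie.OmegaPlus.stdFrame (show 4 ≤ l by omega)
  obtain ⟨e⟩ : Nonempty (Multiplicative (ZMod (Nat.gcd 4 (Fintype.card F ^ l - 1))) ≃*
      (Classical.PlusMult.θP (F := F) X).ker) := by
    rcases Nat.even_or_odd (Fintype.card F) with he | ho
    · have h1 : Nat.gcd 4 (Fintype.card F ^ l - 1) = 1 := by
        have hev : Even (Fintype.card F ^ l) := he.pow_of_ne_zero (by omega)
        have hpos : 1 ≤ Fintype.card F ^ l := Nat.one_le_pow _ _ (by omega)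
        rw [Nat.gcd_rec]
        rcases (show (Fintype.card F ^ l - 1) % 4 = 1 ∨ (Fintype.card F ^ l - 1) % 4 = 3 by
          rw [Nat.even_iff] at hev; omega) with e | e <;> rw [e] <;> norm_num
      rw [h1]
      haveI : Subsingleton (Multiplicative (ZMod 1)) := inferInstanceAs (Subsingleton (ZMod 1))
      exact Classical.PlusMult.ker_trivial_equiv X (Classical.PlusMult.two_eq_zero rfl he) _
    · have hpo : Fintype.card F ^ l % 2 = 1 := Nat.odd_iff.1 ho.pow
      by_cases h4 : Fintype.card F ^ l % 4 = 1
      · have h1 : Nat.gcd 4 (Fintype.card F ^ l - 1) = 4 :=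
          Nat.gcd_eq_left (Nat.dvd_of_mod_eq_zero (by omega))
        rw [h1]
        exact Classical.PlusMult.ker_cyclic_four X rfl ho hodd h4
      · have h1 : Nat.gcd 4 (Fintype.card F ^ l - 1) = 2 := by
          rw [Nat.gcd_rec, show (Fintype.card F ^ l - 1) % 4 = 2 by omega]
          norm_num
        rw [h1]
        exact Classical.PlusMult.ker_two X rfl ho h4
  exact Classical.PlusMult.hasMult X (Or.inl hl) e

end Cfsg.Agent.S2096
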