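import Cfsg.Statements.S2097
import Cfsg.Agent.Lib.Classical.PlusMultKernel
-- import your own Cfsg.Agent.* helpers here

set_option autoImplicit false
open Cfsg

namespace Cfsg.Agent.S2097

/-- Schur multipliers of the even-dimensional orthogonal groups of plus type and even rank: for even l ≥ 4 and a field F with q elements, (l, q) ≠ (4, 2), the Schur multiplier of PΩ⁺_2l(F) (for the form Σ xᵢyᵢ) is the product of two cyclic groups of order gcd(2, q^l − 1) (so trivial for q even and a four-group for q odd; here the Schur multiplier is described through stem extensions, as in the definitions). -/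
theorem result {F : Type*} [Field F] [Fintype F] {q : ℕ} (hF : Fintype.card F = q) (l : ℕ) (hl : 4 ≤ l) (heven : Even l) (hexc : ¬ (l = 4 ∧ q = 2)) : Cfsg.HasSchurMultiplier (Cfsg.POmega F (Cfsg.quadFormPlus l F)) (Multiplicative (ZMod (Nat.gcd 2 (q ^ l - 1)) × ZMod (Nat.gcd 2 (q ^ l - 1)))) := by
  classical
  subst hF
  have hq : 1 < Fintype.card F := Fintype.one_lt_card
  let X := Cfsg.Agent.Lie.OmegaPlus.stdFrame hl
  have hA : 5 ≤ l ∨ (l = 4 ∧ ∃ a : Fˣ, a ≠ 1) := by
    by_cases h5 : 5 ≤ l
    · exact Or.inl h5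
    refine Or.inr ⟨by omega, ?_⟩
    have hcard : 1 < Fintype.card Fˣ := by
      rw [Fintype.card_units]
      have : Fintype.card F ≠ 2 := fun e => hexc ⟨by omega, e⟩
      omega
    haveI := Fintype.one_lt_card_iff_nontrivial.1 hcard
    exact exists_ne 1
  obtain ⟨e⟩ : Nonempty (Multiplicative (ZMod (Nat.gcd 2 (Fintype.card F ^ l - 1)) ×
      ZMod (Nat.gcd 2 (Fintype.card F ^ l - 1))) ≃* (Classical.PlusMult.θP (F := F) X).ker) := by
    rcases Nat.even_or_odd (Fintype.card F) with he | ho
    · have h1 : Nat.gcd 2 (Fintype.card F ^ l - 1) = 1 := by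
        have hev : Even (Fintype.card F ^ l) := he.pow_of_ne_zero (by omega)
        have hpos : 1 ≤ Fintype.card F ^ l := Nat.one_le_pow _ _ (by omega)
        rw [Nat.gcd_rec, show (Fintype.card F ^ l - 1) % 2 = 1 by rw [Nat.even_iff] at hev; omega]
        norm_num
      rw [h1]
      haveI : Subsingleton (Multiplicative (ZMod 1 × ZMod 1)) :=
        inferInstanceAs (Subsingleton (ZMod 1 × ZMod 1))
      exact Classical.PlusMult.ker_trivial_equiv X (Classical.PlusMult.two_eq_zero rfl he) _
    · have h1 : Nat.gcd 2 (Fintype.card F ^ l - 1) = 2 := by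
        have hpo : Fintype.card F ^ l % 2 = 1 := Nat.odd_iff.1 ho.pow
        exact Nat.gcd_eq_left (Nat.dvd_of_mod_eq_zero (by omega))
      rw [h1]
      exact Classical.PlusMult.ker_klein X rfl ho heven
  exact Classical.PlusMult.hasMult X hA e

end Cfsg.Agent.S2097
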