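import Cfsg.Statements.S2115
import Cfsg.Agent.Lib.Lie.Chev.TwistF4TwoTail2
import Cfsg.Agent.Lib.Lie.Chev.TwistF4TwoTail3
import Cfsg.Agent.Lib.Lie.Chev.TwistF4TwoTail5
import Cfsg.Agent.Lib.Lie.Chev.TwistF4TwoTail13
-- import your own Cfsg.Agent.* helpers here

set_option autoImplicit false
open Cfsg

namespace Cfsg.Agent.S2115

/-- The Tits group, the commutator subgroup of ²F₄(2), has trivial Schur multiplier (here the Schur multiplier is described through stem extensions, as in the definitions). -/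
theorem result : Cfsg.HasCyclicSchurMultiplier Cfsg.Lie.TitsGroup 1 := by
  refine Cfsg.Agent.Grp.SchurM.Tails.multiplier_trivial fun p hp hd => ?_
  rw [Cfsg.Agent.Lie.Chev.F4Two.Mult.card_tits, show 17971200 = 2 ^ 11 * 3 ^ 3 * 5 ^ 2 * 13 by norm_num] at hd
  have key : ∀ q k : ℕ, q.Prime → p ∣ q ^ k → p = q := fun q k hq h =>
    (Nat.prime_dvd_prime_iff_eq hp hq).1 (hp.dvd_of_dvd_pow h)
  rcases (Nat.Prime.dvd_mul hp).1 hd with hd | h13
  · rcases (Nat.Prime.dvd_mul hp).1 hd with hd | h5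
    · rcases (Nat.Prime.dvd_mul hp).1 hd with h2 | h3
      · obtain rfl := key 2 11 (by norm_num) h2
        exact Cfsg.Agent.Lie.Chev.F4Two.Mult.sylow2
      · obtain rfl := key 3 3 (by norm_num) h3
        exact Cfsg.Agent.Lie.Chev.F4Two.Mult.sylow3
    · obtain rfl := key 5 2 (by norm_num) h5
      exact Cfsg.Agent.Lie.Chev.F4Two.Mult.sylow5
  · obtain rfl := (Nat.prime_dvd_prime_iff_eq hp (by norm_num)).1 h13
    exact Cfsg.Agent.Lie.Chev.F4Two.Mult.sylow13

end Cfsg.Agent.S2115
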