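import Cfsg.Statements.S2911
import Cfsg.Agent.Lib.Invol.CentralTransfer
-- import your own Cfsg.Agent.* helpers here

set_option autoImplicit false
open Cfsg

namespace Cfsg.Agent.S2911

/-- A finite group whose Sylow 2-subgroups are isomorphic to the direct product of a group of order 2 and a dihedral group of order 8 has a subgroup of index two. -/
theorem result {G : Type*} [Group G] [Finite G] (S : Sylow 2 G) (hS : Nonempty (↥(S : Subgroup G) ≃* Multiplicative (ZMod 2) × DihedralGroup 4)) : ∃ H : Subgroup G, H.index = 2 := by
  classical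
  obtain ⟨e⟩ := hS
  set φ : ↥(S : Subgroup G) →* Multiplicative (ZMod 2) :=
    (MonoidHom.fst (Multiplicative (ZMod 2)) (DihedralGroup 4)).comp e.toMonoidHom with hφdef
  set t' : Multiplicative (ZMod 2) × DihedralGroup 4 := (Multiplicative.ofAdd 1, 1) with ht'
  have htc : ∀ x : Multiplicative (ZMod 2) × DihedralGroup 4, x * t' = t' * x := by
    rw [ht']; decide
  set τ : ↥(S : Subgroup G) := e.symm t' with hτ
  have htt : τ * τ = 1 := by
    rw [hτ, ← map_mul, show t' * t' = 1 by rw [ht']; decide, map_one]
  refine Cfsg.Agent.Invol.exists_index_two_of_fixed_central S φ (t := (τ : G))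
    (by simpa using congrArg Subtype.val htt) τ.2 ?_ ?_ ?_
  · show (e τ).1 ≠ 1
    rw [hτ, e.apply_symm_apply, ht']
    decide
  · intro s hs
    have h := congrArg e.symm (htc (e ⟨s, hs⟩))
    simp only [map_mul, e.symm_apply_apply] at h
    exact congrArg Subtype.val h
  · intro n hn
    -- conjugation by an element of the normalizer as an automorphism of the product
    have key : ∀ m : G, m ∈ Subgroup.normalizer ((S : Subgroup G) : Set G) →
        ∃ α : (Multiplicative (ZMod 2) × DihedralGroup 4) ≃* (Multiplicative (ZMod 2) × DihedralGroup 4),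
          ∀ x, ((e.symm (α x) : ↥(S : Subgroup G)) : G) = m * (e.symm x : G) * m⁻¹ := by
      intro m hm
      refine ⟨(e.symm.trans (MulEquiv.ofBijective ((S : Subgroup G).normalizerMonoidHom ⟨m, hm⟩).toMonoidHom
        ((S : Subgroup G).normalizerMonoidHom ⟨m, hm⟩).bijective)).trans e, fun x => ?_⟩
      simp
      rfl
    have two : ∀ m : G, m ∈ Subgroup.normalizer ((S : Subgroup G) : Set G) →
        m ^ 2 * (τ : G) * (m ^ 2)⁻¹ = τ := by
      intro m hm
      obtain ⟨α, hα⟩ := key m hm
      have hz : α (1, DihedralGroup.r 2) = (1, DihedralGroup.r 2) := by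
        have hsq : ∀ y : Multiplicative (ZMod 2) × DihedralGroup 4, y * y ≠ 1 →
            y * y = (1, DihedralGroup.r 2) := by decide
        have he : ((1, DihedralGroup.r 2) : Multiplicative (ZMod 2) × DihedralGroup 4) =
          (1, DihedralGroup.r 1) * (1, DihedralGroup.r 1) := by decide
        conv_lhs => rw [he, map_mul]
        refine hsq _ ?_
        rw [← map_mul, ← he, ne_eq, map_eq_one_iff α α.injective]
        decide
      set tz : Multiplicative (ZMod 2) × DihedralGroup 4 := t' * (1, DihedralGroup.r 2) with htz
      have h1 : α t' = t' ∨ α t' = tz := by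
        have hcl : ∀ x : Multiplicative (ZMod 2) × DihedralGroup 4, (∀ y, x * y = y * x) → x ≠ 1 →
            x ≠ (1, DihedralGroup.r 2) → x = t' ∨ x = tz := by
          rw [htz, ht']; decide
        refine hcl _ (fun y => ?_) ?_ ?_
        · obtain ⟨y, rfl⟩ := α.surjective y
          rw [← map_mul, ← map_mul, htc]
        · rw [ne_eq, map_eq_one_iff α α.injective, ht']
          decide
        · rw [← hz, ne_eq, α.injective.eq_iff, ht']
          decide
      have h2 : α (α t') = t' := by
        rcases h1 with h | h
        · rw [h, h]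
        · rw [h, htz, map_mul, hz, h, htz, mul_assoc, show ((1, DihedralGroup.r 2) :
            Multiplicative (ZMod 2) × DihedralGroup 4) * (1, DihedralGroup.r 2) = 1 by decide, mul_one]
      have h3 := hα (α t')
      rw [h2, hα t'] at h3
      rw [hτ]
      rw [pow_two, mul_inv_rev]
      refine Eq.trans ?_ h3.symm
      group
    -- the odd part
    set N := Subgroup.normalizer ((S : Subgroup G) : Set G) with hNdef
    have hnor : ((S : Subgroup G).subgroupOf N).Normal := Subgroup.normal_in_normalizer
    have hk := Subgroup.pow_index_mem ((S : Subgroup G).subgroupOf N) ⟨n, hn⟩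
    rw [Subgroup.mem_subgroupOf, SubgroupClass.coe_pow] at hk
    obtain ⟨j, hj⟩ : Odd ((S : Subgroup G).subgroupOf N).index := by
      rw [Nat.odd_iff, ← Nat.two_dvd_ne_zero]
      exact fun h => S.not_dvd_index (h.trans (Subgroup.relIndex_dvd_index_of_le Subgroup.le_normalizer))
    have hC : n ∈ Subgroup.centralizer ({(τ : G)} : Set G) := by
      have hm : ∀ g : G, g * (τ : G) * g⁻¹ = τ → g ∈ Subgroup.centralizer ({(τ : G)} : Set G) :=
        fun g h => Subgroup.mem_centralizer_singleton_iff.mpr (mul_inv_eq_iff_eq_mul.mp h)
      have a1 : n ^ ((S : Subgroup G).subgroupOf N).index ∈ Subgroup.centralizer ({(τ : G)} : Set G) := by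
        refine Subgroup.mem_centralizer_singleton_iff.mpr ?_
        have h := congrArg e.symm (htc (e ⟨_, hk⟩))
        simp only [map_mul, e.symm_apply_apply] at h
        exact congrArg Subtype.val h
      have a2 := hm _ (two n hn)
      rw [hj, pow_succ, pow_mul] at a1
      exact (Subgroup.mul_mem_cancel_left _ (pow_mem a2 j)).mp a1
    exact mul_inv_eq_iff_eq_mul.mpr (Subgroup.mem_centralizer_singleton_iff.mp hC)

end Cfsg.Agent.S2911
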