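import Cfsg.Statements.S2325
import Cfsg.Agent.Lib.Block.SL2Char.SLFacts
import Cfsg.Agent.Lib.Block.SL2Char.SLCount
-- import your own Cfsg.Agent.* helpers here

set_option autoImplicit false
open Cfsg

namespace Cfsg.Agent.S2325

open Cfsg.Agent.Block.SL2Char

/-- Over a finite field with q elements, q odd, the special linear group SL₂ has exactly q + 4 conjugacy classes. -/
theorem result {F : Type*} [Field F] [Fintype F] (hodd : Odd (Fintype.card F)) :
    Nat.card (ConjClasses (Matrix.SpecialLinearGroup (Fin 2) F)) = Fintype.card F + 4 := by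
  classical
  obtain ⟨K, _, _, _, _, hK⟩ := exists_model F
  rw [← Cfsg.Agent.Char.card_irrCharacter]
  obtain ⟨α, a, b, x, a1, a2, -, ha, hb, hab, he, -⟩ := exists_pairI K hK hodd
  obtain ⟨φ, c, d, y, c1, c2, -, hc, hd, hcd, ge, -⟩ := exists_pairD K hK hodd
  have hI := halfI_facts K hK ha
  have hJ := halfI_facts K hK hb
  have hU := halfD_facts K hK hc
  have hV := halfD_facts K hK hd
  set H : Finset (Matrix.SpecialLinearGroup (Fin 2) F → ℂ) := {a, b, c, d} with hH
  have hne : ∀ f g : Matrix.SpecialLinearGroup (Fin 2) F → ℂ,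
      f 1 = ((Fintype.card F : ℂ) + 1) / 2 → g 1 = ((Fintype.card F : ℂ) - 1) / 2 → f ≠ g :=
    fun f g h1 h2 e => one_ne_zero (show (1 : ℂ) = 0 by rw [e, h2] at h1; linear_combination -h1)
  have hHcard : H.card = 4 := by
    rw [hH, Finset.card_insert_of_notMem, Finset.card_insert_of_notMem, Finset.card_pair hcd]
    · simp [hne b c hJ.2.2 hU.2.2, hne b d hJ.2.2 hV.2.2]
    · simp [hab, hne a c hI.2.2 hU.2.2, hne a d hI.2.2 hV.2.2]
  have hset : ∀ f : Matrix.SpecialLinearGroup (Fin 2) F → ℂ,
      IsIrrCharacter (Matrix.SpecialLinearGroup (Fin 2) F) f ↔ f ∈ wholes K hK ∪ H := by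
    intro f
    rw [Finset.mem_union]
    refine ⟨fun h => ?_, fun h => ?_⟩
    · rcases irr_cases_odd K hK hodd h with h | h | h
      · exact Or.inl h
      · rcases halfI_eq K hK hodd a1 a2 hI.1 hJ.1 he h with rfl | rfl <;> simp [hH]
      · rcases halfD_eq K hK hodd c1 c2 hU.1 hV.1 ge h with rfl | rfl <;> simp [hH]
    · rcases h with h | h
      · exact wholes_irr K hK f h
      · simp only [hH, Finset.mem_insert, Finset.mem_singleton] at h
        rcases h with rfl | rfl | rfl | rfl
        exacts [hI.1, hJ.1, hU.1, hV.1]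
  have hdis : Disjoint (wholes K hK) H := Finset.disjoint_left.2 fun f hf h => by
    simp only [hH, Finset.mem_insert, Finset.mem_singleton] at h
    have hinv := wholes_inv K hK f hf
    rcases h with rfl | rfl | rfl | rfl
    exacts [hI.2.1 hinv, hJ.2.1 hinv, hU.2.1 hinv, hV.2.1 hinv]
  have hw := card_wholes K hK
  have h1 := card_famC (F := F) K hK
  have h2 := card_famD K hK
  rw [card_Z2_odd hodd] at h1 h2
  have := three_le_card hodd
  rw [Nat.subtype_card (wholes K hK ∪ H) (fun f => (hset f).symm), Finset.card_union_of_disjoint hdis,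
    hHcard, hw]
  omega

end Cfsg.Agent.S2325
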