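import Cfsg.Statements.S0182
import Cfsg.Agent.Lib.Char.CoverTIMinSimple
import Cfsg.Agent.Lib.Char.CoverTIAbelian

set_option autoImplicit false
open Cfsg

namespace Cfsg.Agent.S0182

open Cfsg.Agent.Transfer.CN Cfsg.Agent.Char.CoverTI Cfsg.Agent.Char.FrobTI
open scoped commutatorElement IsMulCommutative

universe u

/-- Every centralizer of a nonidentity element is commutative. -/
def CA (G : Type u) [Group G] : Prop :=
  ∀ x : G, x ≠ 1 → ∀ a ∈ Subgroup.centralizer ({x} : Set G),
    ∀ b ∈ Subgroup.centralizer ({x} : Set G), a * b = b * a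

theorem CA.subgroup {G : Type u} [Group G] (h : CA G) (H : Subgroup G) : CA H := fun x hx a ha b hb =>
  Subtype.ext (h x (fun e => hx (Subtype.ext e)) a
    (Subgroup.mem_centralizer_singleton_iff.2 (congrArg Subtype.val
      (Subgroup.mem_centralizer_singleton_iff.1 ha))) b
    (Subgroup.mem_centralizer_singleton_iff.2 (congrArg Subtype.val
      (Subgroup.mem_centralizer_singleton_iff.1 hb))))

theorem CA.isCN {G : Type u} [Group G] (h : CA G) : Cfsg.IsCNGroup G := fun x hx => by
  haveI : IsMulCommutative (Subgroup.centralizer ({x} : Set G)) :=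
    ⟨⟨fun a b => Subtype.ext (h x hx a a.2 b b.2)⟩⟩
  infer_instance

theorem exists_abelian_normal {G : Type u} [Group G] (N : Subgroup G) [hN : N.Normal]
    [Group.IsSolvable N] (h : N ≠ ⊥) :
    ∃ M : Subgroup G, M.Normal ∧ M ≠ ⊥ ∧ M ≤ N ∧ ∀ a ∈ M, ∀ b ∈ M, a * b = b * a := by
  classical
  let D : ℕ → Subgroup G := fun n => (derivedSeries N n).map N.subtype
  have hD : ∀ n, (D n).Normal := fun n => by
    haveI : (derivedSeries N n).Characteristic := derivedSeries_characteristic N n
    exact ConjAct.normal_of_characteristic_of_normal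
  obtain ⟨n, hn⟩ := Group.IsSolvable.solvable (G := N)
  have hex : ∃ n, derivedSeries N n = ⊥ := ⟨n, hn⟩
  have h0 : Nat.find hex ≠ 0 := fun e => h (by
    have := Nat.find_spec hex
    rw [e, derivedSeries_zero] at this
    have h2 := congrArg (Subgroup.map N.subtype) this
    rwa [← MonoidHom.range_eq_map, Subgroup.range_subtype, Subgroup.map_bot] at h2)
  obtain ⟨m, hm⟩ := Nat.exists_eq_succ_of_ne_zero h0
  refine ⟨D m, hD m, fun e => ?_, Subgroup.map_subtype_le _, ?_⟩
  · have := Nat.find_min hex (m := m) (by omega)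
    exact this ((Subgroup.map_eq_bot_iff_of_injective _ N.subtype_injective).1 e)
  · rintro _ ⟨a, ha, rfl⟩ _ ⟨b, hb, rfl⟩
    have h1 := Nat.find_spec hex
    rw [hm, derivedSeries_succ] at h1
    have h2 : ⁅a, b⁆ ∈ (⊥ : Subgroup N) := h1 ▸ Subgroup.commutator_mem_commutator ha hb
    rw [Subgroup.mem_bot, commutatorElement_eq_one_iff_commute] at h2
    exact congrArg Subtype.val h2.eq

theorem main (n : ℕ) : ∀ (G : Type u) [Group G] [Finite G], Nat.card G = n → Odd (Nat.card G) →
    CA G → Group.IsSolvable G := by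
  induction n using Nat.strong_induction_on with
  | _ n ih =>
    intro G _ _ hn hodd hCA
    have hprop : ∀ H : Subgroup G, H ≠ ⊤ → Group.IsSolvable H := fun H hH => by
      have hlt : Nat.card H < n := by
        rw [← hn]
        exact lt_of_le_of_ne (Nat.le_of_dvd Nat.card_pos H.card_subgroup_dvd_card)
          fun e => hH (Subgroup.eq_top_of_card_eq H e)
      exact ih _ hlt H rfl (Odd.of_dvd_nat hodd H.card_subgroup_dvd_card) (hCA.subgroup H)
    by_cases hab : IsMulCommutative G
    · infer_instance
    haveI : Nontrivial G := not_subsingleton_iff_nontrivial.1 fun hs =>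
      hab ⟨⟨fun a b => Subsingleton.elim _ _⟩⟩
    by_cases hsimple : IsSimpleGroup G
    · exfalso
      haveI := Fintype.ofFinite G
      refine false_of_stars ⟨hodd, hsimple, hab, hprop⟩ hCA.isCN fun H _ hH hti hlt hc => ?_
      have hH1 : H ≠ ⊥ := hH.ne_bot
      refine exists_star_abelian H hodd hH1 hti hlt hc ?_
      -- a maximal nilpotent subgroup lies in the centralizer of a central element
      haveI := hH.nilpotent
      haveI : Nontrivial H := (Subgroup.nontrivial_iff_ne_bot H).2 hH1
      haveI : Nontrivial (Subgroup.center H) :=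
        (Subgroup.nontrivial_iff_ne_bot _).2 (Group.IsNilpotent.center_ne_bot (G := H))
      obtain ⟨z, hz⟩ := _root_.exists_ne (1 : Subgroup.center H)
      intro a ha b hb
      have hc' : ∀ y, y ∈ H → y ∈ Subgroup.centralizer ({((z : H) : G)} : Set G) := fun y hy =>
        Subgroup.mem_centralizer_singleton_iff.2
          (congrArg Subtype.val (Subgroup.mem_center_iff.1 z.2 ⟨y, hy⟩))
      exact hCA _ (fun e => hz (Subtype.ext (Subtype.ext e))) a (hc' a ha) b (hc' b hb)
    obtain ⟨N, hNn, hN1, hN2⟩ : ∃ N : Subgroup G, N.Normal ∧ N ≠ ⊥ ∧ N ≠ ⊤ := by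
      by_contra hcon
      push Not at hcon
      exact hsimple ⟨fun N hN => or_iff_not_imp_left.2 fun h => hcon N hN h⟩
    haveI := hNn
    haveI := hprop N hN2
    obtain ⟨M, hMn, hM1, -, hMab⟩ := exists_abelian_normal N hN1
    haveI := hMn
    set A : Subgroup G := Subgroup.centralizer (M : Set G) with hA
    obtain ⟨m, hm⟩ := M.ne_bot_iff_exists_ne_one.1 hM1
    have hm1 : (m : G) ≠ 1 := fun e => hm (Subtype.ext e)
    have hAab : ∀ a ∈ A, ∀ b ∈ A, a * b = b * a := fun a ha b hb =>
      hCA m hm1 a (Subgroup.mem_centralizer_singleton_iff.2 (Subgroup.mem_centralizer_iff.1 ha m m.2).symm) b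
        (Subgroup.mem_centralizer_singleton_iff.2 (Subgroup.mem_centralizer_iff.1 hb m m.2).symm)
    -- centralizers of elements of `A`
    have hcA : ∀ a ∈ A, a ≠ 1 → Subgroup.centralizer ({a} : Set G) ≤ A := fun a ha ha1 g hg =>
      Subgroup.mem_centralizer_iff.2 fun x hx => hCA a ha1 x
        (Subgroup.mem_centralizer_singleton_iff.2 (Subgroup.mem_centralizer_iff.1 ha x hx)) g hg
    have hMA : M ≤ A := fun x hx => Subgroup.mem_centralizer_iff.2 fun y hy => hMab y hy x hx
    haveI : A.Normal := Subgroup.normal_centralizer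
    haveI : IsMulCommutative A := ⟨⟨fun a b => Subtype.ext (hAab a a.2 b b.2)⟩⟩
    haveI : Group.IsSolvable A := inferInstance
    have hcop : (Nat.card A).Coprime A.index := by
      refine Nat.coprime_of_dvd fun p hp hpA hpI => ?_
      haveI := Fact.mk hp
      obtain ⟨a, ha⟩ := exists_prime_orderOf_dvd_card' (G := A) p hpA
      have hap : IsPGroup p (Subgroup.zpowers (a : G)) := IsPGroup.of_card (n := 1) (by
        rw [Nat.card_zpowers, pow_one, ← ha, Subgroup.orderOf_coe])
      obtain ⟨P, hP⟩ := hap.exists_le_sylow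
      haveI : Nontrivial (P : Subgroup G) := (Subgroup.nontrivial_iff_ne_bot _).2
        (P.ne_bot_of_dvd_card (hpA.trans A.card_subgroup_dvd_card))
      haveI := P.isPGroup'.center_nontrivial
      obtain ⟨z, hz⟩ := _root_.exists_ne (1 : Subgroup.center (P : Subgroup G))
      have ha1 : (a : G) ≠ 1 := fun e => hp.one_lt.ne' (by
        rw [← ha, ← Subgroup.orderOf_coe, e, orderOf_one])
      have hzA : ((z : (P : Subgroup G)) : G) ∈ A := hcA a a.2 ha1
        (Subgroup.mem_centralizer_singleton_iff.2 (congrArg Subtype.val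
          (Subgroup.mem_center_iff.1 z.2 ⟨a, hP (Subgroup.mem_zpowers _)⟩)).symm)
      have hPA : (P : Subgroup G) ≤ A := fun y hy => hcA _ hzA
        (fun e => hz (Subtype.ext (Subtype.ext e)))
        (Subgroup.mem_centralizer_singleton_iff.2
          (congrArg Subtype.val (Subgroup.mem_center_iff.1 z.2 ⟨y, hy⟩)))
      exact P.not_dvd_index (hpI.trans (Subgroup.index_dvd_of_le hPA))
    obtain ⟨E, hE⟩ := Subgroup.exists_right_complement'_of_coprime hcop
    have hEtop : E ≠ ⊤ := fun e => by
      have h := Subgroup.IsComplement'.disjoint hE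
      rw [e, disjoint_top] at h
      exact hM1 (eq_bot_iff.2 (hMA.trans h.le))
    haveI := hprop E hEtop
    haveI : Group.IsSolvable (G ⧸ A) :=
      Group.isSolvable_of_surjective (f := (QuotientGroup.mk' A).comp E.subtype) fun q => by
        obtain ⟨g, rfl⟩ := QuotientGroup.mk'_surjective A q
        obtain ⟨⟨⟨a, ha⟩, e⟩, he⟩ := hE.2 g
        refine ⟨e, ?_⟩
        rw [← show a * (e : G) = g from he]
        show QuotientGroup.mk' A (e : G) = _
        rw [map_mul, show QuotientGroup.mk' A a = 1 from (QuotientGroup.eq_one_iff a).2 ha, one_mul]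
    exact Group.isSolvable_of_ker_le_range A.subtype (QuotientGroup.mk' A) (by simp)

/-- The CA-Theorem for odd order: a finite group of odd order in which every non-identity element has an abelian centralizer is solvable. -/
theorem result {G : Type*} [Group G] [Finite G] (hodd : Odd (Nat.card G)) (hCA : ∀ x : G, x ≠ 1 → ∀ a ∈ Subgroup.centralizer ({x} : Set G), ∀ b ∈ Subgroup.centralizer ({x} : Set G), a * b = b * a) : Group.IsSolvable G :=
  main _ G rfl hodd hCA

end Cfsg.Agent.S0182
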