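import Cfsg.Statements.S1354
import Cfsg.Agent.Lib.Transfer.Local.KappaHall

set_option maxHeartbeats 1000000
set_option maxRecDepth 8000

set_option autoImplicit false
open Cfsg

namespace Cfsg.Agent.S1354

open Cfsg.Agent Cfsg.Agent.Transfer Subgroup

/-- Let G be a minimal simple group of odd order, M a maximal subgroup and K a cyclic Hall κ(M)-subgroup of M, and put K* = M_σ ∩ C_G(K). Then K* ≠ 1, and if K ≠ 1 then for every non-identity k ∈ K the centralizer C_M(k) is the subgroup generated by K and K* (an internal direct product, as K ∩ M_σ = 1 and K* centralizes K). -/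
theorem result {G : Type*} [Group G] [Finite G] (hG : Cfsg.IsMinSimpleOddOrder G)
    (M : Subgroup G) (hM : IsCoatom M) (K : Subgroup G)
    (hKc : IsCyclic K) (hK : Cfsg.IsPiHallOf (Cfsg.kappa M) K M) :
    Cfsg.sigmaCore M ⊓ Subgroup.centralizer (K : Set G) ≠ ⊥ ∧
      (K ≠ ⊥ → ∀ k ∈ K, k ≠ 1 →
        M ⊓ Subgroup.centralizer ({k} : Set G) = K ⊔ (Cfsg.sigmaCore M ⊓ Subgroup.centralizer (K : Set G))) := by
  have hne : K ≠ ⊥ → _ := fun h1 => (Loc.kappa_compl hG hM hK).elim fun E hE =>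
    (Loc.kappa_prime_action hG hM hE.1 hK hE.2 h1).2
  refine ⟨?_, fun hK1 k hk hk1 => ?_⟩
  · rcases eq_or_ne K ⊥ with rfl | h1
    · rw [show centralizer ((⊥ : Subgroup G) : Set G) = ⊤ from eq_top_iff.2 fun x _ => mem_centralizer_iff.2
        fun y hy => by rw [mem_bot.1 hy, one_mul, mul_one], inf_top_eq]
      exact Loc.sigmaCore_ne_bot hG hM
    · exact (hne h1).1
  obtain ⟨U, hKU⟩ := Loc.exists_decomp hG hM hKc hK
  obtain ⟨hE, -, -⟩ := Loc.decomp_compl hG hM hKU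
  obtain ⟨-, hreg, -⟩ := Loc.decomp_facts hG hM hKU
  haveI := hKc
  have hab : K ≤ centralizer (K : Set G) := le_centralizer_iff_isMulCommutative.2 IsCyclic.isMulCommutative
  refine le_antisymm (fun m hm => ?_) (sup_le (le_inf hK.1 (hab.trans (centralizer_le (Set.singleton_subset_iff.2 hk))))
    (le_inf (inf_le_left.trans (TransHyp.piCoreOf_le M)) (inf_le_right.trans (centralizer_le (Set.singleton_subset_iff.2 hk)))))
  obtain ⟨e, he, y, hy, rfl⟩ := hE.2.2.2 m hm.1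
  have hkE : k ∈ U ⊔ K := mem_sup_right hk
  have hy' : k * y * k⁻¹ ∈ Cfsg.sigmaCore M :=
    Grp.mem_conj_normalizer (TransHyp.le_normalizer_piCoreOf M (hK.1 hk)) hy
  have he' : k * e * k⁻¹ ∈ U ⊔ K := mul_mem (mul_mem hkE he) (inv_mem hkE)
  have h1 : (k * e * k⁻¹) * (k * y * k⁻¹) = e * y := by
    rw [show (k * e * k⁻¹) * (k * y * k⁻¹) = k * (e * y) * k⁻¹ by group, ← mem_centralizer_singleton_iff.1 hm.2,
      mul_inv_cancel_right]
  have h2 : e⁻¹ * (k * e * k⁻¹) = y * (k * y * k⁻¹)⁻¹ := by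
    rw [inv_mul_eq_iff_eq_mul, ← mul_assoc, eq_mul_inv_iff_mul_eq]
    exact h1
  have h3 : e⁻¹ * (k * e * k⁻¹) = 1 := by
    rw [← mem_bot, ← hE.2.2.1]
    exact ⟨(U ⊔ K).mul_mem ((U ⊔ K).inv_mem he) he', h2.symm ▸ (Cfsg.sigmaCore M).mul_mem hy ((Cfsg.sigmaCore M).inv_mem hy')⟩
  have hye : y * (k * y * k⁻¹)⁻¹ = 1 := h2.symm.trans h3
  have he2 : k * e * k⁻¹ = e := (inv_mul_eq_one.1 h3).symm
  have hy2 : k * y * k⁻¹ = y := (mul_inv_eq_one.1 hye).symm
  have hyK : y ∈ Cfsg.sigmaCore M ⊓ centralizer (K : Set G) := by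
    rw [← (hne hK1).2 k hk hk1]
    exact ⟨hy, mem_centralizer_singleton_iff.2 (mul_inv_eq_iff_eq_mul.1 hy2).symm⟩
  refine mul_mem_sup ?_ hyK
  rw [← SetLike.mem_coe, Subgroup.coe_mul_of_right_le_normalizer_left U K hKU.normal] at he
  obtain ⟨u, hu, j, hj, rfl⟩ := he
  have hkj : Commute k j := mem_centralizer_iff.1 (hab hj) k hk
  have hu' : k * u * k⁻¹ = u := by
    refine mul_right_cancel (b := j) ?_
    calc k * u * k⁻¹ * j = k * u * (k⁻¹ * j * k) * k⁻¹ := by group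
      _ = k * (u * j) * k⁻¹ := by rw [show k⁻¹ * j * k = j by rw [mul_assoc, ← hkj.eq, inv_mul_cancel_left]]; group
      _ = u * j := he2
  have hu1 : u ∈ U ⊓ centralizer ({k} : Set G) :=
    ⟨hu, mem_centralizer_singleton_iff.2 (mul_inv_eq_iff_eq_mul.1 hu').symm⟩
  rw [hreg k hk hk1, mem_bot] at hu1
  simpa [hu1] using hj

end Cfsg.Agent.S1354
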