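import Cfsg.Statements.S1364
import Cfsg.Agent.Lib.Transfer.Local.CoreFitting

set_option maxHeartbeats 1000000
set_option maxRecDepth 8000

set_option autoImplicit false
open Cfsg

namespace Cfsg.Agent.S1364

open Cfsg.Agent Cfsg.Agent.Transfer Cfsg.Agent.Transfer.Loc Subgroup

/-- Let G be a minimal simple group of odd order, M a maximal subgroup with standard factorisation M = K U M_σ and K ≠ 1, and put K* = M_σ ∩ C_G(K). Then K* is cyclic, nontrivial and contained in M_F, while M_F itself is not cyclic. -/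
theorem result {G : Type*} [Group G] [Finite G] (hG : Cfsg.IsMinSimpleOddOrder G)
    (M : Subgroup G) (hM : IsCoatom M) (K U : Subgroup G) (hKU : Cfsg.IsSigmaDecomposition M K U) (hK1 : K ≠ ⊥) :
    IsCyclic ↥(Cfsg.sigmaCore M ⊓ Subgroup.centralizer (K : Set G)) ∧ (Cfsg.sigmaCore M ⊓ Subgroup.centralizer (K : Set G)) ≠ ⊥ ∧ (Cfsg.sigmaCore M ⊓ Subgroup.centralizer (K : Set G)) ≤ Cfsg.fittingHallOf M ∧ ¬ IsCyclic (Cfsg.fittingHallOf M) := by

  haveI := solvable_of_ne_top hG hM.1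
  obtain ⟨hE, -, -⟩ := decomp_compl hG hM hKU
  obtain ⟨-, hne, -⟩ := kappa_prime_action hG hM hE hKU.hall le_sup_right hK1
  obtain ⟨Ms, -, -, -, -, -, hcyc, -⟩ := kappa_dual hG hM hKU.hall hK1
  set H := Cfsg.fittingHallOf M with hH
  set S := Cfsg.sigmaCore M with hS
  have key : kStar M K ≤ H ∧ ∃ p, ∃ _ : Fact p.Prime, p ∣ Nat.card (kStar M K) ∧
      ∃ P, Grp.IsSylowIn p P S ∧ P ≤ H := by
    by_cases hnil : Group.IsNilpotent S
    · obtain ⟨p, hp, hd⟩ := Nat.exists_prime_and_dvd fun e => hne (Subgroup.card_eq_one.1 e)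
      haveI := Fact.mk hp
      obtain ⟨P, hP⟩ := Grp.exists_isSylowIn p S
      have e := fittingHallOf_eq_sigmaCore hG hM hnil
      exact ⟨inf_le_left.trans e.ge, p, ‹_›, hd, P, hP, hP.1.trans e.ge⟩
    · obtain ⟨-, -, -, -, hqp, -, Q, hQ, hMQ, hQH, -, -⟩ := sigmaCore_structure hG hM hKU hnil
      haveI := Fact.mk hqp
      have hKp : IsPGroup (Nat.card (kStar M K)) (kStar M K) := IsPGroup.of_card (n := 1) (by rw [pow_one])
      have h1 : IsPGroup (Nat.card (kStar M K)) ↥(Q ⊔ kStar M K) :=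
        hQ.2.1.to_sup_of_normal_left' hKp ((inf_le_left.trans (TransHyp.piCoreOf_le M)).trans hMQ)
      exact ⟨le_sup_right.trans ((hQ.eq_of_le le_sup_left (sup_le hQ.1 inf_le_left) h1).ge.trans hQH), _, ‹_›,
        dvd_rfl, Q, hQ, hQH⟩
  obtain ⟨hKsH, p, _, hd, P, hP, hPH⟩ := key
  refine ⟨hcyc, hne, hKsH, fun hc => ?_⟩
  haveI : IsCyclic H := hc
  have hPM : P ≤ M := hP.1.trans (TransHyp.piCoreOf_le M)
  have hPc : IsCyclic P := Subgroup.isCyclic_of_le hPH
  -- `K` normalises `P`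
  have hKP : K ≤ normalizer (P : Set G) := fun k hk => by
    rw [Grp.mem_normalizer_iff_smul]
    exact eq_of_card_cyclic hc ((Subgroup.pointwise_smul_le_pointwise_smul_iff.2 hPH).trans
      (Grp.mem_normalizer_iff_smul.1 (le_normalizer_fittingHallOf M (hKU.hall.1 hk))).le) hPH (Grp.card_conj_smul _ _)
  -- an element of order `p` fixed by `K` lies in `P`
  obtain ⟨x, hx⟩ := exists_prime_orderOf_dvd_card' p hd
  have hxc : Nat.card (zpowers (x : G)) = p := by rw [Nat.card_zpowers, Subgroup.orderOf_coe, hx]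
  have hP1 : P ≠ ⊥ := fun e => hP.2.2 (by
    rw [e, Subgroup.relIndex_bot_left]; exact hd.trans (card_dvd_of_le inf_le_left))
  obtain ⟨y, hy⟩ := exists_prime_orderOf_dvd_card' p (dvd_card_of_pGroup hP.2.1 hP1)
  have hyc : Nat.card (zpowers (y : G)) = p := by rw [Nat.card_zpowers, Subgroup.orderOf_coe, hy]
  have hxy := eq_of_card_cyclic hc (zpowers_le.2 (hKsH x.2)) (zpowers_le.2 (hPH y.2)) (hxc.trans hyc.symm)
  have hyK : zpowers (y : G) ≤ P ⊓ centralizer (K : Set G) :=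
    le_inf (zpowers_le.2 y.2) (hxy ▸ zpowers_le.2 x.2.2)
  have hcop : (Nat.card K).Coprime (Nat.card P) :=
    (kStar_facts hG hM hKU.hall).2.2.2.1.coprime_dvd_right (card_dvd_of_le hP.1)
  haveI := hPc
  haveI : IsMulCommutative P := ⟨⟨(IsCyclic.commGroup : CommGroup P).mul_comm⟩⟩
  have hfix := Grp.abelian_commutator_inf_fixed K P hKP hcop
  have hbot : ⁅P, K⁆ = ⊥ := by
    by_contra hne'
    have hCP : ⁅P, K⁆ ≤ P := Grp.commutator_le_left_of_le_normalizer hKP
    obtain ⟨z, hz⟩ := exists_prime_orderOf_dvd_card' p (dvd_card_of_pGroup (hP.2.1.to_le hCP) hne')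
    have e := eq_of_card_cyclic hPc (zpowers_le.2 (hCP z.2)) (zpowers_le.2 y.2)
      ((by rw [Nat.card_zpowers, Subgroup.orderOf_coe, hz] : Nat.card (zpowers (z : G)) = p).trans hyc.symm)
    have h2 : zpowers (y : G) ≤ ⊥ := hfix ▸ le_inf hyK (e ▸ zpowers_le.2 z.2)
    rw [le_bot_iff] at h2
    exact (Fact.out (p := p.Prime)).ne_one (by rw [← hyc, h2, Subgroup.card_bot])
  have hPK : P ≤ kStar M K := le_inf hP.1 (commutator_eq_bot_iff_le_centralizer.1 hbot)
  obtain ⟨T, hT⟩ := Grp.isSylowIn_iff.1 hP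
  exact ((Cfsg.Agent.S1431.result hG M hM K hKU.hall hK1).2.2.1 p Fact.out hd T).2.2 (hT ▸ hPK)

end Cfsg.Agent.S1364
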