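import Cfsg.Statements.S1434
import Cfsg.Agent.Lib.Transfer.Local.KappaPair

set_option maxHeartbeats 1000000
set_option maxRecDepth 8000

set_option autoImplicit false
open Cfsg

namespace Cfsg.Agent.S1434

open Cfsg.Agent Cfsg.Agent.Transfer Cfsg.Agent.Transfer.Loc Subgroup

theorem count {G : Type*} [Group G] [Finite G] {M K Ms : Subgroup G} (h : KappaPair M K Ms) :
    Set.ncard {a : G | ∃ g : G, ∃ z ∈ ((↑(K ⊔ kStar M K) : Set G) \ ((K : Set G) ∪ ↑(kStar M K))), a = g * z * g⁻¹} =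
      Set.ncard ((↑(K ⊔ kStar M K) : Set G) \ ((K : Set G) ∪ ↑(kStar M K))) * (K ⊔ kStar M K).index := by
  set Z := K ⊔ kStar M K
  set T := ((↑Z : Set G) \ ((K : Set G) ∪ ↑(kStar M K)))
  haveI := h.isCyclic
  letI : CommGroup ↥Z := IsCyclic.commGroup
  let f : (G ⧸ Z) × T → {a : G | ∃ g : G, ∃ z ∈ T, a = g * z * g⁻¹} :=
    fun d => ⟨d.1.out * d.2.1 * d.1.out⁻¹, d.1.out, d.2.1, d.2.2, rfl⟩
  have hf : Function.Bijective f := by
    constructor
    · intro d e hde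
      have h1 : d.1.out * d.2.1 * d.1.out⁻¹ = e.1.out * e.2.1 * e.1.out⁻¹ := congrArg Subtype.val hde
      have h2 : e.1.out⁻¹ * d.1.out * d.2.1 * (e.1.out⁻¹ * d.1.out)⁻¹ = e.2.1 := by
        rw [show e.1.out⁻¹ * d.1.out * d.2.1 * (e.1.out⁻¹ * d.1.out)⁻¹ = e.1.out⁻¹ * (d.1.out * d.2.1 * d.1.out⁻¹) *
          e.1.out by group, h1]
        group
      have h3 : e.1 = d.1 := by
        rw [← QuotientGroup.out_eq' e.1, ← QuotientGroup.out_eq' d.1]
        exact QuotientGroup.eq.2 (h.ti d.2.2 (h2 ▸ e.2.2.1))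
      refine Prod.ext h3.symm (Subtype.ext ?_)
      rw [h3] at h1
      exact (MulAut.conj d.1.out).injective h1
    · rintro ⟨a, g, z, hz, rfl⟩
      obtain ⟨w, hw⟩ := QuotientGroup.mk_out_eq_mul Z g
      refine ⟨(QuotientGroup.mk g, ⟨z, hz⟩), Subtype.ext ?_⟩
      show (QuotientGroup.mk g : G ⧸ Z).out * z * (QuotientGroup.mk g : G ⧸ Z).out⁻¹ = g * z * g⁻¹
      have hc : (w : G) * z = z * w := congrArg Subtype.val (mul_comm w ⟨z, hz.1⟩)
      rw [hw, show g * w * z * (g * w)⁻¹ = g * (w * z * (w : G)⁻¹) * g⁻¹ by group, hc, mul_inv_cancel_right]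
  rw [← Nat.card_coe_set_eq, ← Nat.card_congr (Equiv.ofBijective f hf), Nat.card_prod, Subgroup.index_eq_card,
    Nat.card_coe_set_eq, mul_comm]


/-- Let G be a minimal simple group of odd order, M a maximal subgroup with standard factorisation M = K U M_σ, K ≠ 1, K* = M_σ ∩ C_G(K), and M* a maximal subgroup with K = M*_σ ∩ C_G(K*) and K* a Hall κ(M*)-subgroup of M*. Then κ(M) = τ₁(M); K* is a Hall σ(M)-subgroup of M*; for non-identity x ∈ K and y ∈ K*, C_M(x), C_{M*}(y) and C_G(xy) all equal K K*; the set Ẑ of elements of K K* outside K ∪ K* meets no gMg⁻¹ with g ∉ M; and with k = #K, k* = #K*, the union of the conjugates of Ẑ has k·k*·(number of elements) = (k k* − k − k* + 1)·#G and more than #G / 2 elements. -/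
theorem result {G : Type*} [Group G] [Finite G] (hG : Cfsg.IsMinSimpleOddOrder G)
    (M : Subgroup G) (hM : IsCoatom M) (K U : Subgroup G) (hKU : Cfsg.IsSigmaDecomposition M K U) (hK1 : K ≠ ⊥) (Mstar : Subgroup G) (hMstar : IsCoatom Mstar)
    (hKst : K = Cfsg.sigmaCore Mstar ⊓ Subgroup.centralizer ((Cfsg.sigmaCore M ⊓ Subgroup.centralizer (K : Set G)) : Set G))
    (hKstH : Cfsg.IsPiHallOf (Cfsg.kappa Mstar) (Cfsg.sigmaCore M ⊓ Subgroup.centralizer (K : Set G)) Mstar) :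
    Cfsg.kappa M = Cfsg.tau1 M ∧ Cfsg.IsPiHallOf (Cfsg.sigma M) (Cfsg.sigmaCore M ⊓ Subgroup.centralizer (K : Set G)) Mstar ∧
      (∀ x ∈ K, x ≠ 1 → ∀ y ∈ (Cfsg.sigmaCore M ⊓ Subgroup.centralizer (K : Set G)), y ≠ 1 →
        M ⊓ Subgroup.centralizer ({x} : Set G) = K ⊔ (Cfsg.sigmaCore M ⊓ Subgroup.centralizer (K : Set G)) ∧ Mstar ⊓ Subgroup.centralizer ({y} : Set G) = K ⊔ (Cfsg.sigmaCore M ⊓ Subgroup.centralizer (K : Set G)) ∧
        Subgroup.centralizer ({x * y} : Set G) = K ⊔ (Cfsg.sigmaCore M ⊓ Subgroup.centralizer (K : Set G))) ∧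
      (∀ g : G, g ∉ M → ∀ z ∈ ((↑(K ⊔ (Cfsg.sigmaCore M ⊓ Subgroup.centralizer (K : Set G))) : Set G) \ ((K : Set G) ∪ ↑(Cfsg.sigmaCore M ⊓ Subgroup.centralizer (K : Set G)))), z ∉ M.map (MulAut.conj g).toMonoidHom) ∧
      Nat.card K * Nat.card ↥(Cfsg.sigmaCore M ⊓ Subgroup.centralizer (K : Set G)) * Set.ncard {a : G | ∃ g : G, ∃ z ∈ ((↑(K ⊔ (Cfsg.sigmaCore M ⊓ Subgroup.centralizer (K : Set G))) : Set G) \ ((K : Set G) ∪ ↑(Cfsg.sigmaCore M ⊓ Subgroup.centralizer (K : Set G)))), a = g * z * g⁻¹} =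
        (Nat.card K * Nat.card ↥(Cfsg.sigmaCore M ⊓ Subgroup.centralizer (K : Set G)) - Nat.card K - Nat.card ↥(Cfsg.sigmaCore M ⊓ Subgroup.centralizer (K : Set G)) + 1) * Nat.card G ∧
      Nat.card G < 2 * Set.ncard {a : G | ∃ g : G, ∃ z ∈ ((↑(K ⊔ (Cfsg.sigmaCore M ⊓ Subgroup.centralizer (K : Set G))) : Set G) \ ((K : Set G) ∪ ↑(Cfsg.sigmaCore M ⊓ Subgroup.centralizer (K : Set G)))), a = g * z * g⁻¹} := by
  have h := kappaPair_of hG hM hKU.hall hK1 hMstar hKst hKstH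
  obtain ⟨-, -, -, hcop, hcard⟩ := kStar_facts hG hM hKU.hall
  have hsub := kappa_subset_tau1 hG hM hKU.hall hKU.cyclic
  obtain ⟨E, hE, -⟩ := kappa_compl hG hM hKU.hall
  obtain ⟨q, hq, hqd⟩ := Nat.exists_prime_and_dvd (fun e => hK1 ((Subgroup.card_eq_one).1 e))
  refine ⟨kappa_eq_tau1 hG hM hE hsub ⟨q, hKU.hall.2.1 q hq hqd⟩, h.hall_sigma, fun x hx hx1 y hy hy1 => ?_,
    fun g hg z hz hzg => ?_, ?_⟩
  · refine ⟨h.inf_centralizer hx hx1, ?_, h.centralizer_mixed ?_⟩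
    · have := h.symm.inf_centralizer hy hy1
      rwa [h.dual, sup_comm] at this
    · have hbot : K ⊓ Cfsg.sigmaCore M = ⊥ := Grp.inf_eq_bot_of_coprime hcop
      refine ⟨mul_mem (mem_sup_left hx) (mem_sup_right hy), ?_⟩
      rintro (hk | hk)
      · exact hy1 (mem_bot.1 (hbot.le ⟨(K.mul_mem_cancel_left hx).1 hk, hy.1⟩))
      · exact hx1 (mem_bot.1 (hbot.le ⟨hx, ((kStar M K).mul_mem_cancel_right hy).1 hk |>.1⟩))
  · obtain ⟨x, -, y, hy, -, hy1, -, -, hyz⟩ := h.exists_parts hz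
    have h1 := ((Cfsg.Agent.S1431.result hG M hM K hKU.hall hK1).1 g hg).le ⟨hy, (zpowers_le.2 hzg) hyz⟩
    exact hy1 (mem_bot.1 h1)
  set Z := K ⊔ kStar M K
  set T := ((↑Z : Set G) \ ((K : Set G) ∪ ↑(kStar M K)))
  set k := Nat.card K
  set s := Nat.card (kStar M K)
  have hT : T.ncard + k + s = k * s + 1 := by
    have h1 : T.ncard + ((K : Set G) ∪ ↑(kStar M K)).ncard = (Z : Set G).ncard :=
      Set.ncard_sdiff_add_ncard_of_subset (Set.union_subset (le_sup_left : K ≤ Z) (le_sup_right : kStar M K ≤ Z))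
        (Set.toFinite _)
    have h2 := Set.ncard_union_add_ncard_inter (K : Set G) ↑(kStar M K) (Set.toFinite _) (Set.toFinite _)
    rw [← Subgroup.coe_inf, le_bot_iff.1 ((inf_le_inf_left K inf_le_left).trans (Grp.inf_eq_bot_of_coprime hcop).le),
      Subgroup.coe_bot, Set.ncard_singleton] at h2
    have e : ∀ P : Subgroup G, (P : Set G).ncard = Nat.card P := fun P => (Nat.card_coe_set_eq _).symm
    rw [e, e] at h2
    rw [e, hcard] at h1
    omega
  have hk1 : 1 < k := (Subgroup.one_lt_card_iff_ne_bot K).2 hK1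
  have hs1 : 1 < s := (Subgroup.one_lt_card_iff_ne_bot _).2 h.star1
  have hk : Odd k := Odd.of_dvd_nat hG.1 (Subgroup.card_subgroup_dvd_card K)
  have hs : Odd s := Odd.of_dvd_nat hG.1 (Subgroup.card_subgroup_dvd_card _)
  have hne : k ≠ s := fun e => by
    have h1 : k.Coprime s := Nat.Coprime.coprime_dvd_right (card_dvd_of_le inf_le_left) hcop
    rw [← e, Nat.coprime_self] at h1
    omega
  have hidx := Z.card_mul_index
  rw [hcard] at hidx
  have hcount := count h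
  have hle : k + s ≤ k * s := by nlinarith
  refine ⟨?_, ?_⟩
  · rw [hcount, show k * s - k - s + 1 = T.ncard by omega, ← hidx]
    ring
  · rw [hcount, ← hidx]
    obtain ⟨a, ha⟩ := hk
    obtain ⟨b, hb⟩ := hs
    have hpos : 0 < Z.index := Nat.pos_of_ne_zero Subgroup.index_ne_zero_of_finite
    have h3 : k * s < 2 * T.ncard := by
      have : 2 * (k + s) < k * s + 2 := by
        rw [ha] at hne hk1 ⊢; rw [hb] at hne hs1 ⊢
        rcases Nat.lt_or_gt_of_ne hne with hlt | hlt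
        · obtain ⟨a', rfl⟩ : ∃ a', a = a' + 1 := ⟨a - 1, by omega⟩
          obtain ⟨b', rfl⟩ : ∃ b', b = b' + 2 := ⟨b - 2, by omega⟩
          nlinarith
        · obtain ⟨a', rfl⟩ : ∃ a', a = a' + 2 := ⟨a - 2, by omega⟩
          obtain ⟨b', rfl⟩ : ∃ b', b = b' + 1 := ⟨b - 1, by omega⟩
          nlinarith
      omega
    calc k * s * Z.index < 2 * T.ncard * Z.index := Nat.mul_lt_mul_of_pos_right h3 hpos
      _ = 2 * (T.ncard * Z.index) := mul_assoc _ _ _

end Cfsg.Agent.S1434
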