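import Cfsg.Statements.S1369
import Cfsg.Agent.Lib.Transfer.Local.KappaPair
import Cfsg.Agent.S1434

set_option maxHeartbeats 1000000
set_option maxRecDepth 8000

set_option autoImplicit false
open Cfsg

namespace Cfsg.Agent.S1369

open Cfsg.Agent Cfsg.Agent.Transfer Cfsg.Agent.Transfer.Loc Subgroup
open scoped Pointwise

theorem full_of_bot {G : Type*} [Group G] [Finite G] (hG : Cfsg.IsMinSimpleOddOrder G) {M K U : Subgroup G}
    (hM : IsCoatom M) (hKU : Cfsg.IsSigmaDecomposition M K U) (hU : U = ⊥) : IsKappaFull M := fun p hp hd hσ => by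
  refine hKU.hall.2.1 p hp ?_
  obtain ⟨hE', hc, -⟩ := decomp_compl hG hM hKU
  rw [← compl_card hE', hc, hU, Subgroup.card_bot, one_mul] at hd
  exact (hp.dvd_mul.1 hd).resolve_right fun h =>
    hσ (TransHyp.piCoreOf_primes (π := Cfsg.sigma M) (X := M) hp h)

theorem mixed_count {G : Type*} [Group G] [Finite G] {M K Ms : Subgroup G} (h : KappaPair M K Ms) :
    Nat.card G < 2 * Set.ncard {a : G | ∃ g : G, ∃ z ∈ ((↑(K ⊔ kStar M K) : Set G) \ ((K : Set G) ∪ ↑(kStar M K))), a = g * z * g⁻¹} := by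
  obtain ⟨U, hKU⟩ := exists_decomp h.hG h.hM h.cycK h.hK
  exact (Cfsg.Agent.S1434.result h.hG M h.hM K U hKU h.hK1 Ms h.hMs h.dual.symm h.hall).2.2.2.2.2


/-- Let G be a minimal simple group of odd order, M a maximal subgroup with standard factorisation M = K U M_σ, K ≠ 1, K* = M_σ ∩ C_G(K), and M* a maximal subgroup with K = M*_σ ∩ C_G(K*) and K* a Hall κ(M*)-subgroup of M*. Then either U ≠ 1 or every K*-invariant complement of K* M*_σ in M* is nontrivial; and every maximal subgroup H of G with κ(H) nonempty is conjugate to M or to M*. -/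
theorem result {G : Type*} [Group G] [Finite G] (hG : Cfsg.IsMinSimpleOddOrder G)
    (M : Subgroup G) (hM : IsCoatom M) (K U : Subgroup G) (hKU : Cfsg.IsSigmaDecomposition M K U) (hK1 : K ≠ ⊥) (Mstar : Subgroup G) (hMstar : IsCoatom Mstar)
    (hKst : K = Cfsg.sigmaCore Mstar ⊓ Subgroup.centralizer ((Cfsg.sigmaCore M ⊓ Subgroup.centralizer (K : Set G)) : Set G))
    (hKstH : Cfsg.IsPiHallOf (Cfsg.kappa Mstar) (Cfsg.sigmaCore M ⊓ Subgroup.centralizer (K : Set G)) Mstar) :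
    (U ≠ ⊥ ∨ ∀ Ustar : Subgroup G, Cfsg.IsSigmaDecomposition Mstar (Cfsg.sigmaCore M ⊓ Subgroup.centralizer (K : Set G)) Ustar → Ustar ≠ ⊥) ∧
      ∀ H : Subgroup G, IsCoatom H → (Cfsg.kappa H).Nonempty →
        ∃ g : G, H = M.map (MulAut.conj g).toMonoidHom ∨ H = Mstar.map (MulAut.conj g).toMonoidHom := by
  have h := kappaPair_of hG hM hKU.hall hK1 hMstar hKst hKstH
  have hZ : ZPartner (K ⊔ kStar M K) M := ⟨hM, K, hKU.hall, hK1, rfl⟩
  refine ⟨or_iff_not_imp_left.2 fun hU Us hKUs hUs => ?_, fun H hH hne => ?_⟩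
  · obtain ⟨L, hL, hnf⟩ := exists_not_full hG hZ
    rcases h.partners L hL with rfl | rfl
    · exact hnf (full_of_bot hG hM hKU (not_not.1 hU))
    · exact hnf (full_of_bot hG hMstar hKUs hUs)
  · haveI := solvable_of_ne_top hG hH.1
    obtain ⟨KH, hKH⟩ := Grp.PiHall.exists_piHall (Cfsg.kappa H) H
    obtain ⟨q, hq⟩ := hne
    have hKH1 : KH ≠ ⊥ := fun e => hKH.2.2 q hq.1 hq (by rw [e, Subgroup.relIndex_bot_left]; exact hq.2.1)
    obtain ⟨Hs, h'⟩ := exists_kappaPair hG hH hKH hKH1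
    set A := {a : G | ∃ g : G, ∃ z ∈ ((↑(K ⊔ kStar M K) : Set G) \ ((K : Set G) ∪ ↑(kStar M K))), a = g * z * g⁻¹}
    set B := {a : G | ∃ g : G, ∃ z ∈ ((↑(KH ⊔ kStar H KH) : Set G) \ ((KH : Set G) ∪ ↑(kStar H KH))), a = g * z * g⁻¹}
    obtain ⟨a, ⟨g, z, hz, rfl⟩, g', z', hz', e⟩ : ∃ a, a ∈ A ∧ a ∈ B := by
      by_contra hno
      push Not at hno
      have h1 := Set.ncard_union_eq (Set.disjoint_left.2 hno) A.toFinite B.toFinite
      have h2 := Set.ncard_le_ncard (Set.subset_univ (A ∪ B))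
      rw [Set.ncard_univ, h1] at h2
      have h3 : Nat.card G < 2 * A.ncard := mixed_count h
      have h4 : Nat.card G < 2 * B.ncard := mixed_count h'
      omega
    obtain ⟨x, -, y, hy, -, hy1, -, -, hyz⟩ := h'.exists_parts hz'
    obtain ⟨p, hp, hpd⟩ := Nat.exists_prime_and_dvd (fun h' => hy1 (orderOf_eq_one_iff.1 h'))
    haveI := Fact.mk hp
    have hpH : p ∈ Cfsg.sigma H := TransHyp.piCoreOf_primes (π := Cfsg.sigma H) (X := H) hp
      (hpd.trans (Subgroup.orderOf_dvd_natCard _ hy.1))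
    have hpZ : p ∣ Nat.card ↥(K ⊔ kStar M K) := by
      refine (hpd.trans (orderOf_dvd_of_mem_zpowers hyz)).trans ?_
      have e' : MulAut.conj g z = MulAut.conj g' z' := e
      rw [← MulEquiv.orderOf_eq (MulAut.conj g'), ← e', MulEquiv.orderOf_eq]
      exact Subgroup.orderOf_dvd_natCard _ hz.1
    obtain ⟨L, hL, hpL⟩ := zpartner_cover hG hZ hpZ
    obtain ⟨c, hc⟩ : ∃ c : G, H = MulAut.conj c • L := by
      by_contra hno
      push Not at hno
      exact kappa_sigma_disjoint hG hL.1 hH hno (hL.kappa_nonempty hG) hpL hpH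
    rcases h.partners L hL with rfl | rfl
    · exact ⟨c, Or.inl hc⟩
    · exact ⟨c, Or.inr hc⟩

end Cfsg.Agent.S1369
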