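import Cfsg.Statements.S1375
import Cfsg.Agent.Lib.Transfer.Local.Support
import Cfsg.Agent.Lib.Transfer.Local.KappaHall

set_option maxHeartbeats 1000000
set_option maxRecDepth 8000

set_option autoImplicit false
open Cfsg

namespace Cfsg.Agent.S1375

open Cfsg.Agent Cfsg.Agent.Transfer Cfsg.Agent.Transfer.Loc Subgroup
open scoped Pointwise

/-- Let G be a minimal simple group of odd order, M a maximal subgroup, x ≠ 1 in M_σ with C_G(x) not contained in M. Then exactly one maximal subgroup N contains C_G(x); for it N_σ = N_F, C_{N_σ}(x) is a normal subgroup of C_G(x) complementing C_M(x), M ∩ N is a complement to N_σ in N, and for every standard factorisation N = K' U' N_σ one has U' ≠ 1 and x ∈ A(N) with x ∉ N_σ. -/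
theorem result {G : Type*} [Group G] [Finite G] (hG : Cfsg.IsMinSimpleOddOrder G)
    (M : Subgroup G) (hM : IsCoatom M) (x : G) (hx : x ∈ Cfsg.sigmaCore M) (hx1 : x ≠ 1) (hxM : ¬ Subgroup.centralizer ({x} : Set G) ≤ M) :
    ∃ N : Subgroup G, (IsCoatom N ∧ Subgroup.centralizer ({x} : Set G) ≤ N) ∧ (∀ L : Subgroup G, IsCoatom L → Subgroup.centralizer ({x} : Set G) ≤ L → L = N) ∧
        Cfsg.sigmaCore N = Cfsg.fittingHallOf N ∧
        Subgroup.centralizer ({x} : Set G) ≤ Subgroup.normalizer ((Cfsg.sigmaCore N ⊓ Subgroup.centralizer ({x} : Set G) : Subgroup G) : Set G) ∧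
        Cfsg.IsComplIn (M ⊓ Subgroup.centralizer ({x} : Set G)) (Cfsg.sigmaCore N ⊓ Subgroup.centralizer ({x} : Set G)) (Subgroup.centralizer ({x} : Set G)) ∧
        Cfsg.IsComplIn (M ⊓ N) (Cfsg.sigmaCore N) N ∧
        ∀ K' U' : Subgroup G, Cfsg.IsSigmaDecomposition N K' U' → U' ≠ ⊥ ∧ x ∈ Cfsg.sigmaA N U' ∧ x ∉ Cfsg.sigmaCore N := by
  obtain ⟨N, hN, huniq, hR, hhat, hτ⟩ := support_unique hG hM hx hx1 hxM
  obtain ⟨hbot, hNR, hcomp, hE⟩ := hN.facts hG hM
  have hxM' : x ∈ M := TransHyp.piCoreOf_le M hx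
  refine ⟨N, ⟨hN.hN, hN.le⟩, huniq, hN.fhall.symm, hNR, hcomp hxM', hN.compl, fun K' U' hKU => ?_⟩
  obtain ⟨q, hq, hqd⟩ := Nat.exists_prime_and_dvd (fun h => hx1 (orderOf_eq_one_iff.1 h))
  haveI := Fact.mk hq
  have hxE : x ∈ M ⊓ N := ⟨hxM', hN.le (mem_centralizer_singleton_iff.2 rfl)⟩
  have hκ : ∀ p : ℕ, p.Prime → p ∣ orderOf x → p ∉ Cfsg.kappa N := fun p hp hd h => by
    haveI := Fact.mk hp
    exact (hτ p hp hd).2.2.2 (kappa_rank_one hG hN.hN h)
  obtain ⟨hE', hc, -⟩ := decomp_compl hG hN.hN hKU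
  set W := U' ⊔ Cfsg.sigmaCore N
  have hMN : N ≤ normalizer (Cfsg.sigmaCore N : Set G) := TransHyp.le_normalizer_piCoreOf N
  have hWN : W ≤ N := sup_le hKU.compl.1 hE'.2.1
  have hNW : N ≤ normalizer (W : Set G) :=
    (compl_sup hE').ge.trans (sup_le (sup_le (le_sup_left.trans le_normalizer)
      (Grp.le_normalizer_sup' hKU.normal (hKU.hall.1.trans hMN))) (le_sup_right.trans le_normalizer))
  have hWK : W ⊔ K' = N := le_antisymm (sup_le hWN hKU.hall.1)
    ((compl_sup hE').ge.trans (sup_le (sup_le (le_sup_left.trans le_sup_left) le_sup_right)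
      (le_sup_right.trans le_sup_left)))
  have hxW : x ∈ W := by
    have h1 : W.relIndex (W ⊔ zpowers x) ∣ orderOf x := by
      refine Nat.dvd_of_mul_dvd_mul_left (k := Nat.card W) Nat.card_pos ?_
      rw [Grp.card_mul_relIndex le_sup_left, sup_comm, ← Nat.card_zpowers, mul_comm]
      exact Grp.card_sup_dvd_mul ((zpowers_le.2 hxE.2).trans hNW)
    have h2 : W.relIndex (W ⊔ zpowers x) ∣ Nat.card K' := by
      refine (Dvd.intro _ (Subgroup.relIndex_mul_relIndex W (W ⊔ zpowers x) N le_sup_left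
        (sup_le hWN (zpowers_le.2 hxE.2)))).trans ?_
      refine Nat.dvd_of_mul_dvd_mul_left (k := Nat.card W) Nat.card_pos ?_
      rw [Grp.card_mul_relIndex hWN, mul_comm]
      conv_lhs => rw [← hWK, sup_comm]
      exact Grp.card_sup_dvd_mul (hKU.hall.1.trans hNW)
    have h3 : (orderOf x).Coprime (Nat.card K') := Nat.coprime_of_dvd fun p hp h1 h2 =>
      hκ p hp h1 (hKU.hall.2.1 p hp h2)
    exact (Subgroup.relIndex_eq_one.1 (Nat.eq_one_of_dvd_coprimes h3 h1 h2)) (mem_sup_right (mem_zpowers x))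
  have hxσ : x ∉ Cfsg.sigmaCore N := fun h => hE q hq (hqd.trans (Subgroup.orderOf_dvd_natCard _ hxE))
    (TransHyp.piCoreOf_primes (π := Cfsg.sigma N) (X := N) hq (hqd.trans (Subgroup.orderOf_dvd_natCard _ h)))
  refine ⟨fun hU => ?_, ⟨hhat, hxW⟩, hxσ⟩
  exact hxσ (by simpa [W, hU] using hxW)

end Cfsg.Agent.S1375
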