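import Cfsg.Statements.S1443
import Cfsg.Agent.Lib.Transfer.OmegaFixed
import Cfsg.Agent.S1442
import Mathlib

set_option maxHeartbeats 1000000
set_option maxRecDepth 8000

set_option autoImplicit false
open Cfsg
open scoped commutatorElement

namespace Cfsg.Agent.S1443

/-- Let G be a finite group, p an odd prime, H a p-subgroup, E an elementary abelian subgroup of H, and A a subgroup of order coprime to p normalizing H. If A centralizes every element of order p in H ∩ C_G(E), then A centralizes H. -/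
theorem result {G : Type*} [Group G] [Finite G] (p : ℕ) [Fact p.Prime] (hp : p ≠ 2) (H E A : Subgroup G) (hH : IsPGroup p H) (hE : E ≤ H) (hEe : Cfsg.IsElementaryAbelian p E)
    (hA : (A ≤ Subgroup.normalizer (H : Set G))) (hcop : (Nat.card A).Coprime p)
    (hfix : ∀ x ∈ (H ⊓ Subgroup.centralizer (E : Set G)), orderOf x = p → A ≤ Subgroup.centralizer ({x} : Set G)) :
    A ≤ Subgroup.centralizer (H : Set G) := by
  set U := H ⊓ Subgroup.centralizer (E : Set G) with hU
  have hEab : ∀ x ∈ E, ∀ y ∈ E, x * y = y * x := fun x hx y hy => congrArg Subtype.val (hEe.1.is_comm.comm ⟨x, hx⟩ ⟨y, hy⟩)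
  have hEU : E ≤ U := le_inf hE fun x hx => Subgroup.mem_centralizer_iff.2 fun y hy => hEab y hy x hx
  have hp' := (Fact.out : p.Prime)
  have hfix' : ∀ x ∈ U, x ^ p = 1 → ∀ a ∈ A, a * x = x * a := fun x hx hxp a ha => by
    by_cases hx1 : x = 1
    · simp [hx1]
    · exact Subgroup.mem_centralizer_singleton_iff.1 (hfix x hx (orderOf_eq_prime hxp hx1) ha)
  have hAE : ∀ a ∈ A, ∀ x ∈ E, a * x = x * a := fun a ha x hx => hfix' x (hEU hx) (hEe.2 x hx) a ha
  have hconj : ∀ a ∈ A, ∀ x ∈ U, a * x * a⁻¹ ∈ U := fun a ha x hx =>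
    ⟨(Subgroup.mem_normalizer_iff.1 (hA ha) x).1 hx.1, Subgroup.mem_centralizer_iff.2 fun e he => by
      have h1 := Subgroup.mem_centralizer_iff.1 hx.2 e he
      have h2 : a⁻¹ * e = e * a⁻¹ := ((show Commute a e from hAE a ha e he).inv_left).eq
      calc e * (a * x * a⁻¹) = (e * a) * x * a⁻¹ := by group
        _ = (a * e) * x * a⁻¹ := by rw [hAE a ha e he]
        _ = a * (e * x) * a⁻¹ := by group
        _ = a * (x * e) * a⁻¹ := by rw [h1]
        _ = a * x * (a⁻¹ * e) := by rw [h2]; group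
        _ = a * x * a⁻¹ * e := by group⟩
  -- `A` centralizes `U`
  have hAU : ∀ a ∈ A, ∀ x ∈ U, a * x = x * a := by
    intro a ha x hx
    let σ : A →* MulAut U :=
      { toFun := fun b =>
          { toFun := fun u => ⟨b * u * (b : G)⁻¹, hconj b b.2 u u.2⟩
            invFun := fun u => ⟨(b : G)⁻¹ * u * b, by simpa using hconj _ (inv_mem b.2) u u.2⟩
            left_inv := fun u => Subtype.ext (by simp [mul_assoc])
            right_inv := fun u => Subtype.ext (by simp [mul_assoc])
            map_mul' := fun u v => Subtype.ext (by simp [mul_assoc]) }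
        map_one' := MulEquiv.ext fun u => Subtype.ext (by simp)
        map_mul' := fun b c => MulEquiv.ext fun u => Subtype.ext (by simp [mul_assoc]) }
    have h1 : σ ⟨a, ha⟩ = 1 := by
      refine Cfsg.Agent.Transfer.aut_eq_one_of_fix_omega hp (hH.to_le inf_le_left) ?_ fun u hu => Subtype.ext ?_
      · exact hcop.coprime_dvd_left ((orderOf_map_dvd σ _).trans (orderOf_dvd_natCard _))
      · show a * (u : G) * a⁻¹ = u
        rw [hfix' u u.2 (by simpa using congrArg Subtype.val hu) a ha, mul_inv_cancel_right]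
    have h2 : a * x * a⁻¹ = x := congrArg (fun f : MulAut U => ((f ⟨x, hx⟩ : U) : G)) h1
    exact mul_inv_eq_iff_eq_mul.1 h2
  obtain ⟨k, hk⟩ := IsPGroup.iff_card.1 hH
  refine Cfsg.Agent.S1442.result H A hH.isNilpotent hA (by rw [hk]; exact hcop.pow_right k) ?_
  rintro x ⟨hxH, hxC⟩
  refine ⟨hxH, Subgroup.mem_centralizer_iff.2 fun a ha => hAU a ha x ⟨hxH, Subgroup.mem_centralizer_iff.2 fun e he => ?_⟩⟩
  exact Subgroup.mem_centralizer_iff.1 hxC e ⟨hE he, Subgroup.mem_centralizer_iff.2 fun a ha => hAE a ha e he⟩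

end Cfsg.Agent.S1443
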