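import Cfsg.Statements.S1408
import Cfsg.Agent.Lib.Transfer.Local.AlphaCentral

set_option maxHeartbeats 1000000
set_option maxRecDepth 8000

set_option autoImplicit false
open Cfsg

namespace Cfsg.Agent.S1408

/-- Let G be a minimal simple group of odd order, M a maximal subgroup, and p a prime not in σ(M) such that M has p-rank exactly 2. Then p is not an ideal prime for G, and every elementary abelian subgroup of M of order p ^ 2 is maximal among elementary abelian p-subgroups of G. -/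
theorem result {G : Type*} [Group G] [Finite G] (hG : Cfsg.IsMinSimpleOddOrder G)
    (M : Subgroup G) (hM : IsCoatom M) (p : ℕ) [Fact p.Prime] (hp : p ∉ Cfsg.sigma M) (hr2 : Cfsg.PRankLE p 2 M) (hr1 : ¬ Cfsg.PRankLE p 1 M) :
    ¬ Cfsg.IsIdealPrime p G ∧ ∀ A : Subgroup G, A ≤ M → Cfsg.IsElementaryAbelian p A → Nat.card A = p ^ 2 →
        ∀ B : Subgroup G, Cfsg.IsElementaryAbelian p B → A ≤ B → B = A := by

  obtain ⟨A₀, hA₀, hA₀e, hA₀2⟩ := Cfsg.Agent.Transfer.Loc.exists_elem_of_not_prank hr1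
  have hc : Nat.card A₀ = p ^ 2 := le_antisymm
    (Cfsg.Agent.Transfer.Loc.sigma'_rank_two hG hM hp hA₀ hA₀e hA₀2 hA₀e le_rfl) hA₀2
  refine ⟨Cfsg.Agent.Transfer.Loc.not_ideal hG hM hp hA₀ hA₀e hc, fun A hAM hA hA2 B hB hAB => ?_⟩
  exact (Subgroup.eq_of_le_of_card_ge hAB (hA2 ▸ Cfsg.Agent.Transfer.Loc.sigma'_rank_two hG hM hp hAM hA hA2.ge hB hAB)).symm

end Cfsg.Agent.S1408
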