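import Cfsg.Statements.S1435
import Cfsg.Agent.Lib.Transfer.Local.KappaOvergroup

set_option maxHeartbeats 1000000
set_option maxRecDepth 8000

set_option autoImplicit false
open Cfsg

namespace Cfsg.Agent.S1435

open Cfsg.Agent Cfsg.Agent.Transfer Cfsg.Agent.Transfer.Loc Subgroup
open scoped Pointwise

/-- Let G be a minimal simple group of odd order, M a maximal subgroup with standard factorisation M = K U M_σ, K ≠ 1, U ≠ 1, K* = M_σ ∩ C_G(K), M* a maximal subgroup with K = M*_σ ∩ C_G(K*) and K* a Hall κ(M*)-subgroup of M*, r a prime dividing the order of U, R a Sylow r-subgroup of U, and H a maximal subgroup containing N_G(R). Then κ(H) is empty, U ≤ H_σ, M ∩ H = U ⊔ K, H ∩ N_G(U) ⊄ M, K ≤ F(H ∩ M*), and H ∩ M* is a complement to H_σ in H. -/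
theorem result {G : Type*} [Group G] [Finite G] (hG : Cfsg.IsMinSimpleOddOrder G)
    (M : Subgroup G) (hM : IsCoatom M) (K U : Subgroup G) (hKU : Cfsg.IsSigmaDecomposition M K U) (hK1 : K ≠ ⊥) (hU1 : U ≠ ⊥) (Mstar : Subgroup G) (hMstar : IsCoatom Mstar)
    (hKst : K = Cfsg.sigmaCore Mstar ⊓ Subgroup.centralizer ((Cfsg.sigmaCore M ⊓ Subgroup.centralizer (K : Set G)) : Set G))
    (hKstH : Cfsg.IsPiHallOf (Cfsg.kappa Mstar) (Cfsg.sigmaCore M ⊓ Subgroup.centralizer (K : Set G)) Mstar)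
    (r : ℕ) [Fact r.Prime] (hr : r ∣ Nat.card U) (R : Sylow r U) (H : Subgroup G) (hH : IsCoatom H)
    (hNR : Subgroup.normalizer (((R : Subgroup U).map U.subtype : Subgroup G) : Set G) ≤ H) :
    Cfsg.kappa H = ∅ ∧ U ≤ Cfsg.sigmaCore H ∧ M ⊓ H = U ⊔ K ∧ ¬ H ⊓ Subgroup.normalizer (U : Set G) ≤ M ∧
      K ≤ Cfsg.fittingOf (H ⊓ Mstar) ∧ Cfsg.IsComplIn (H ⊓ Mstar) (Cfsg.sigmaCore H) H := by

  have hp := decomp_prime_order hG hM hKU hK1 hU1
  haveI := Fact.mk hp
  have h : KappaPair M K Mstar := kappaPair_of hG hM hKU.hall hK1 hMstar hKst hKstH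
  obtain ⟨hE, hcK, hU⟩ := decomp_compl hG hM hKU
  obtain ⟨-, -, hab⟩ := decomp_facts hG hM hKU
  set R' := (R : Subgroup U).map U.subtype with hR'
  have hRU : Grp.IsSylowIn r R' U := Grp.isSylowIn_iff.2 ⟨R, rfl⟩
  have hrσ : r ∉ Cfsg.sigma M := decomp_U_prime hG hM hKU Fact.out hr
  have hidx : U.relIndex M = Nat.card K * Nat.card (Cfsg.sigmaCore M) := by
    refine Nat.eq_of_mul_eq_mul_left (Nat.card_pos (α := U)) ((Grp.card_mul_relIndex hKU.compl.1).trans ?_)
    rw [← compl_card hE, hcK]; ring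
  have hRM : Grp.IsSylowIn r R' M := by
    refine ⟨hRU.1.trans hKU.compl.1, hRU.2.1, fun hd => ?_⟩
    rw [← Subgroup.relIndex_mul_relIndex R' U M hRU.1 hKU.compl.1, hidx] at hd
    have hr' := Fact.out (p := r.Prime)
    rcases hr'.dvd_mul.1 hd with h1 | h1
    · exact hRU.2.2 h1
    rcases hr'.dvd_mul.1 h1 with h2 | h2
    · exact hU r hr' hr (hKU.hall.2.1 r hr' h2)
    · exact not_dvd_sigmaCore hrσ h2
  have hUK : U ⊔ K ≤ H := (sup_le (((le_centralizer_iff_isMulCommutative.2 (hab hK1)).trans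
    (centralizer_le hRU.1)).trans (centralizer_le_normalizer _))
    (normalizer_sylow_of_comm (hab hK1) hRU hKU.normal)).trans hNR
  have hnM : ∀ g : G, H ≠ MulAut.conj g • M := fun g e => by
    have hRH : Grp.IsSylowIn r R' H := by
      have hle : R' ≤ H := le_normalizer.trans hNR
      refine ⟨hle, hRM.2.1, fun hd => hRM.2.2 ?_⟩
      have e1 : R'.relIndex H = R'.relIndex M := Nat.eq_of_mul_eq_mul_left (Nat.card_pos (α := R'))
        ((Grp.card_mul_relIndex hle).trans ((by rw [e, Grp.card_conj_smul] : Nat.card H = Nat.card M).trans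
          (Grp.card_mul_relIndex hRM.1).symm))
      rwa [← e1]
    refine not_normalizer_le ?_ (fun hσ => hrσ ?_) hRH hNR
    · rw [e, Grp.card_conj_smul]; exact hr.trans (card_dvd_of_le hKU.compl.1)
    · rw [e] at hσ; exact (sigma_smul_iff hG hM g).1 hσ
  exact h.overgroup_structure rfl hKU hU1 hH hUK hnM

end Cfsg.Agent.S1435
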