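import Cfsg.Statements.S1363
import Cfsg.Agent.S1435

set_option maxHeartbeats 1000000
set_option maxRecDepth 8000

set_option autoImplicit false
open Cfsg

namespace Cfsg.Agent.S1363

open Cfsg.Agent Cfsg.Agent.Transfer Cfsg.Agent.Transfer.Loc Subgroup

/-- Let G be a minimal simple group of odd order and M a maximal subgroup with standard factorisation M = K U M_σ and K ≠ 1. Then U is abelian and the normalizer of U in G is not contained in M. -/
theorem result {G : Type*} [Group G] [Finite G] (hG : Cfsg.IsMinSimpleOddOrder G)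
    (M : Subgroup G) (hM : IsCoatom M) (K U : Subgroup G) (hKU : Cfsg.IsSigmaDecomposition M K U) (hK1 : K ≠ ⊥) :
    IsMulCommutative U ∧ ¬ Subgroup.normalizer (U : Set G) ≤ M := by

  obtain ⟨-, -, hab⟩ := decomp_facts hG hM hKU
  refine ⟨hab hK1, fun hle => ?_⟩
  rcases eq_or_ne U ⊥ with rfl | hU1
  · refine hM.1 (top_le_iff.1 (le_trans ?_ hle))
    intro g _
    rw [Grp.mem_normalizer_iff_smul, Subgroup.smul_bot]
  obtain ⟨Ms, h⟩ := exists_kappaPair hG hM hKU.hall hK1
  obtain ⟨r, hr, hrd⟩ := Nat.exists_prime_and_dvd fun e => hU1 (Subgroup.card_eq_one.1 e)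
  haveI := Fact.mk hr
  set R : Sylow r U := Classical.arbitrary _
  set R' := (R : Subgroup U).map U.subtype
  have hRU : Grp.IsSylowIn r R' U := Grp.isSylowIn_iff.2 ⟨R, rfl⟩
  have hR1 : R' ≠ ⊥ := sylow_ne_bot_of_dvd hRU hrd
  have hRt : R' ≠ ⊤ := fun e => hM.1 (top_le_iff.1 (e ▸ hRU.1.trans hKU.compl.1))
  obtain ⟨H, hH, hNR⟩ := exists_coatom_normalizer hG hR1 hRt
  exact (Cfsg.Agent.S1435.result hG M hM K U hKU hK1 hU1 Ms h.hMs h.dual.symm h.hall r hrd R H hH hNR).2.2.2.1
    (inf_le_right.trans hle)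

end Cfsg.Agent.S1363
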