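import Cfsg.Statements.S1508
import Cfsg.Agent.S1506
import Cfsg.Agent.Lib.Char.CyclicW
import Cfsg.Agent.Lib.Char.Galois

set_option autoImplicit false
open Cfsg

namespace Cfsg.Agent.S1508

/-- Let W₁, W₂ ≤ G form a self-normalising cyclic subgroup W = W₁ ⊔ W₂ of odd order and χ an orthonormal family of irreducible characters of G up to sign, indexed by the linear characters ω of W, with χ_1 = 1, χ_ω = ω on W outside W₁ ∪ W₂, and the induction identity for (1 − φ)(1 − ψ). Let ω be a linear character of W and g an element of G whose order is coprime to the order of ω. Then χ ω g is an integer. -/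
theorem result {G : Type*} [Group G] [Fintype G] (W₁ W₂ : Subgroup G) (hW : Cfsg.IsSelfNormalizingCyclic W₁ W₂) (hodd : Odd (Nat.card ↥(W₁ ⊔ W₂))) (χ : (↥(W₁ ⊔ W₂) →* ℂˣ) → (G → ℂ)) (hχ : Cfsg.IsCyclicTIFamily W₁ W₂ χ) (ω : ↥(W₁ ⊔ W₂) →* ℂˣ) (g : G) (hg : Nat.Coprime (orderOf g) (orderOf ω)) : ∃ n : ℤ, χ ω g = n := by
  classical
  obtain ⟨hW1, hW2, hinf, hcomm, hcyc, -⟩ := id hW
  haveI : IsCyclic ↥(W₁ ⊔ W₂) := hcyc
  haveI : Fintype ↥(W₁ ⊔ W₂) := Fintype.ofFinite _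
  have hab : ∀ v w : ↥(W₁ ⊔ W₂), v * w = w * v := fun v w =>
    (inferInstance : IsMulCommutative ↥(W₁ ⊔ W₂)).is_comm.comm v w
  have hsq : ∀ l : ↥(W₁ ⊔ W₂) →* ℂˣ, l ≠ 1 → l⁻¹ ≠ 1 ∧ l⁻¹ ≠ l := by
    refine fun l hl => ⟨fun h => hl (MonoidHom.ext fun w => inv_eq_one.1 ((MonoidHom.inv_apply l w).symm.trans (DFunLike.congr_fun h w))), fun h => hl (MonoidHom.ext fun w => ?_)⟩
    have h2 : l w ^ 2 = 1 := by
      have := DFunLike.congr_fun h w
      rw [MonoidHom.inv_apply] at this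
      rw [sq, ← inv_eq_iff_mul_eq_one]; exact this
    have h3 : l w ^ Nat.card ↥(W₁ ⊔ W₂) = 1 := by rw [← map_pow, pow_card_eq_one', map_one]
    obtain ⟨i, hi⟩ := hodd
    rw [hi, pow_succ, pow_mul, h2, one_pow, one_mul] at h3
    exact h3
  have hdec : ∀ l : ↥(W₁ ⊔ W₂) →* ℂˣ, ∃ φ ψ : ↥(W₁ ⊔ W₂) →* ℂˣ,
      (∀ w : ↥(W₁ ⊔ W₂), (w : G) ∈ W₂ → φ w = 1) ∧ (∀ w : ↥(W₁ ⊔ W₂), (w : G) ∈ W₁ → ψ w = 1) ∧
      φ * ψ = l := by
    intro l
    choose pa hpa pb hpb hpab using fun w : ↥(W₁ ⊔ W₂) =>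
      Cfsg.Agent.Char.CyclicW.exists_mul_eq W₁ W₂ hcomm w.2
    have huniq : ∀ {w : ↥(W₁ ⊔ W₂)} {a b : G}, a ∈ W₁ → b ∈ W₂ → a * b = w → pa w = a := by
      intro w a b ha hb h
      rw [← hpab w] at h
      have e : (pa w)⁻¹ * a = pb w * b⁻¹ := by
        rw [inv_mul_eq_iff_eq_mul, ← mul_assoc, eq_mul_inv_iff_mul_eq]; exact h
      have h1 : (pa w)⁻¹ * a ∈ W₁ ⊓ W₂ :=
        ⟨W₁.mul_mem (W₁.inv_mem (hpa w)) ha, e ▸ W₂.mul_mem (hpb w) (W₂.inv_mem hb)⟩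
      rw [hinf, Subgroup.mem_bot, inv_mul_eq_one] at h1
      exact h1
    let π : ↥(W₁ ⊔ W₂) →* ↥(W₁ ⊔ W₂) := MonoidHom.mk' (fun w => ⟨pa w, Subgroup.mem_sup_left (hpa w)⟩)
      fun v w => Subtype.ext (huniq (W₁.mul_mem (hpa v) (hpa w)) (W₂.mul_mem (hpb v) (hpb w)) (by
        show pa v * pa w * (pb v * pb w) = ((v * w : ↥(W₁ ⊔ W₂)) : G)
        rw [Subgroup.coe_mul, ← hpab v, ← hpab w, mul_assoc, mul_assoc]
        congr 1
        rw [← mul_assoc, hcomm _ (hpa w) _ (hpb v), mul_assoc]))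
    refine ⟨l.comp π, l * (l.comp π)⁻¹, fun w hw => ?_, fun w hw => ?_, ?_⟩
    · have : π w = 1 := Subtype.ext (huniq W₁.one_mem hw (one_mul _))
      rw [MonoidHom.comp_apply, this, map_one]
    · have : π w = w := Subtype.ext (huniq hw W₂.one_mem (mul_one _))
      rw [MonoidHom.mul_apply, MonoidHom.inv_apply, MonoidHom.comp_apply, this, mul_inv_cancel]
    · ext w
      simp
  obtain ⟨u₁, hu₁, hu₁1⟩ := (Subgroup.ne_bot_iff_exists_ne_one.1 hW1) |> fun ⟨x, hx⟩ =>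
    (⟨(x : G), x.2, fun e => hx (Subtype.ext e)⟩ : ∃ u, u ∈ W₁ ∧ u ≠ 1)
  obtain ⟨u₂, hu₂, hu₂1⟩ := (Subgroup.ne_bot_iff_exists_ne_one.1 hW2) |> fun ⟨x, hx⟩ =>
    (⟨(x : G), x.2, fun e => hx (Subtype.ext e)⟩ : ∃ u, u ∈ W₂ ∧ u ≠ 1)
  obtain ⟨A, hA2, hA⟩ := Cfsg.Agent.Char.CyclicW.exists_left W₁ W₂ hcomm hab
    (w := ⟨u₁, Subgroup.mem_sup_left hu₁⟩) (fun h => hu₁1 (by
      have : u₁ ∈ W₁ ⊓ W₂ := ⟨hu₁, h⟩
      rwa [hinf, Subgroup.mem_bot] at this))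
  obtain ⟨B, hB2, hB⟩ := Cfsg.Agent.Char.CyclicW.exists_right W₁ W₂ hcomm hab
    (w := ⟨u₂, Subgroup.mem_sup_right hu₂⟩) (fun h => hu₂1 (by
      have : u₂ ∈ W₁ ⊓ W₂ := ⟨h, hu₂⟩
      rwa [hinf, Subgroup.mem_bot] at this))
  have hAne : A ≠ 1 := fun h => hA (by rw [h]; rfl)
  have hBne : B ≠ 1 := fun h => hB (by rw [h]; rfl)
  have hnamed : ∀ {l : ↥(W₁ ⊔ W₂) →* ℂˣ}, l ≠ 1 → ∀ a b : ↥(W₁ ⊔ W₂) →* ℂˣ,
      ∃ c ∈ ({1, l, l⁻¹} : Finset (↥(W₁ ⊔ W₂) →* ℂˣ)), c ≠ a ∧ c ≠ b := by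
    intro l hl a b
    by_contra h
    push Not at h
    have hsub : ({1, l, l⁻¹} : Finset (↥(W₁ ⊔ W₂) →* ℂˣ)) ⊆ {a, b} := fun c hc => by
      by_cases e : c = a
      · rw [e]; exact Finset.mem_insert_self a _
      · rw [h c hc e]; exact Finset.mem_insert_of_mem (Finset.mem_singleton_self b)
    have h2 := (Finset.card_le_card hsub).trans Finset.card_le_two
    rw [Finset.card_insert_of_notMem (by simp [hl.symm, (hsq l hl).1.symm]),
      Finset.card_pair (hsq l hl).2.symm] at h2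
    omega
  -- the family members are fixed by the Galois automorphisms fixing `ω`
  have hfix : ∀ k : ℕ, k.Coprime (Nat.card G) → (∀ w, ω w ^ k = ω w) →
      (fun x => χ ω (x ^ k)) = χ ω := by
    intro k hk hωk
    set f : G → ℂ := fun x => χ ω (x ^ k) with hf
    have hfpm : IsIrrCharacter G f ∨ IsIrrCharacter G (-f) := by
      rcases hχ.irr_or_neg ω with h | h
      · exact Or.inl (Cfsg.Agent.Char.IsIrr.pow_map h hk)
      · exact Or.inr (Cfsg.Agent.Char.IsIrr.pow_map h hk)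
    have hcl : ∀ g : G → ℂ, (IsIrrCharacter G g ∨ IsIrrCharacter G (-g)) → IsClassFunction G g := by
      rintro g (h | h)
      · exact Cfsg.Agent.Char.IsIrr.classFun h
      · intro x y
        have := Cfsg.Agent.Char.IsIrr.classFun h x y
        simpa using this
    set θ : G → ℂ := f - χ ω with hθdef
    have hθ : IsClassFunction G θ := fun x y => by
      rw [hθdef, Pi.sub_apply, Pi.sub_apply, hcl f hfpm x y, hcl _ (hχ.irr_or_neg ω) x y]
    obtain ⟨k', hk'⟩ : ∃ k' : ℕ, ∀ x : G, (x ^ k) ^ k' = x := by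
      refine ⟨((ZMod.unitOfCoprime k hk)⁻¹ : (ZMod (Nat.card G))ˣ).val.val, fun x => ?_⟩
      rw [← pow_mul]
      conv_rhs => rw [← pow_one x]
      refine pow_eq_pow_iff_modEq.2 (Nat.ModEq.of_dvd (orderOf_dvd_natCard x) ?_)
      rw [← ZMod.natCast_eq_natCast_iff, Nat.cast_mul, Nat.cast_one, ZMod.natCast_val, ZMod.cast_id,
        ← ZMod.coe_unitOfCoprime k hk, ← Units.val_mul, mul_inv_cancel, Units.val_one]
    have hθV : ∀ w : ↥(W₁ ⊔ W₂), (w : G) ∉ W₁ → (w : G) ∉ W₂ → θ w = 0 := by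
      intro w h1 h2
      have h1' : ((w ^ k : ↥(W₁ ⊔ W₂)) : G) ∉ W₁ := fun h => h1 (hk' (w : G) ▸ pow_mem h k')
      have h2' : ((w ^ k : ↥(W₁ ⊔ W₂)) : G) ∉ W₂ := fun h => h2 (hk' (w : G) ▸ pow_mem h k')
      have e := hχ.eq_on ω (w ^ k) h1' h2'
      rw [SubmonoidClass.coe_pow] at e
      show f w - χ ω w = 0
      rw [hf, hχ.eq_on ω w h1 h2]
      simp only
      rw [e, map_pow, hωk, sub_self]
    have hsupp : ∃ l₀, ∀ l, l ≠ l₀ → l ≠ ω → classInner θ (χ l) = 0 := by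
      by_cases h : ∃ l₀, classInner f (χ l₀) ≠ 0
      · obtain ⟨l₀, hl₀⟩ := h
        refine ⟨l₀, fun l hl hlω => ?_⟩
        rw [hθdef, Cfsg.Agent.Char.classInner_sub_left, hχ.orthonormal ω l, if_neg (Ne.symm hlω), sub_zero]
        have hf0 : ∃ e : ℂ, f = e • χ l₀ := by
          by_cases ha : f = χ l₀
          · exact ⟨1, by rw [ha, one_smul]⟩
          by_cases hb : f = -χ l₀
          · exact ⟨-1, by rw [hb]; simp⟩
          exfalso
          refine hl₀ ?_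
          rcases hfpm with hp | hp <;> rcases hχ.irr_or_neg l₀ with hq | hq
          · exact Cfsg.Agent.Char.classInner_irr_ne hp hq ha
          · rw [← neg_neg (χ l₀), Cfsg.Agent.Char.classInner_neg_right,
              Cfsg.Agent.Char.classInner_irr_ne hp hq hb, neg_zero]
          · rw [← neg_neg f, Cfsg.Agent.Char.classInner_neg_left,
              Cfsg.Agent.Char.classInner_irr_ne hp hq (fun e => hb (by rw [← e, neg_neg])), neg_zero]
          · rw [← neg_neg f, ← neg_neg (χ l₀), Cfsg.Agent.Char.classInner_neg_left,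
              Cfsg.Agent.Char.classInner_neg_right,
              Cfsg.Agent.Char.classInner_irr_ne hp hq (fun e => ha (neg_injective e)), neg_zero, neg_zero]
        obtain ⟨e, he⟩ := hf0
        rw [he, Cfsg.Agent.Char.classInner_smul_left, hχ.orthonormal l₀ l, if_neg (Ne.symm hl), mul_zero]
      · push Not at h
        refine ⟨ω, fun l hl _ => ?_⟩
        rw [hθdef, Cfsg.Agent.Char.classInner_sub_left, h, hχ.orthonormal ω l, if_neg (Ne.symm hl), sub_zero]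
    obtain ⟨l₀, hl₀⟩ := hsupp
    obtain ⟨φω, ψω, hφω, hψω, heω⟩ := hdec ω
    obtain ⟨φ₀, ψ₀, hφ₀, hψ₀, he₀⟩ := hdec l₀
    obtain ⟨φ', hφ'm, hφ'a, hφ'b⟩ := hnamed hAne φω φ₀
    obtain ⟨ψ', hψ'm, hψ'a, hψ'b⟩ := hnamed hBne ψω ψ₀
    have hφ' : ∀ w : ↥(W₁ ⊔ W₂), (w : G) ∈ W₂ → φ' w = 1 := fun w hw => by
      simp only [Finset.mem_insert, Finset.mem_singleton] at hφ'm
      rcases hφ'm with rfl | rfl | rfl
      · rfl
      · exact hA2 w hw
      · rw [MonoidHom.inv_apply, hA2 w hw, inv_one]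
    have hψ' : ∀ w : ↥(W₁ ⊔ W₂), (w : G) ∈ W₁ → ψ' w = 1 := fun w hw => by
      simp only [Finset.mem_insert, Finset.mem_singleton] at hψ'm
      rcases hψ'm with rfl | rfl | rfl
      · rfl
      · exact hB2 w hw
      · rw [MonoidHom.inv_apply, hB2 w hw, inv_one]
    have hrel := Cfsg.Agent.S1506.result W₁ W₂ hW χ hχ θ hθ hθV φω φ' ψω ψ'
      (fun w hw => ⟨hφω w hw, hφ' w hw⟩) (fun w hw => ⟨hψω w hw, hψ' w hw⟩)
    have hz : ∀ a b : ↥(W₁ ⊔ W₂) →* ℂˣ, (∀ w : ↥(W₁ ⊔ W₂), (w : G) ∈ W₂ → a w = 1) →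
        (∀ w : ↥(W₁ ⊔ W₂), (w : G) ∈ W₁ → b w = 1) → (a ≠ φω ∨ b ≠ ψω) → (a ≠ φ₀ ∨ b ≠ ψ₀) →
        classInner θ (χ (a * b)) = 0 := by
      intro a b ha hb h h'
      refine hl₀ _ (fun e => ?_) (fun e => ?_)
      · have := Cfsg.Agent.Char.CyclicW.pair_inj W₁ W₂ hcomm ha hφ₀ hb hψ₀ (e.trans he₀.symm)
        tauto
      · have := Cfsg.Agent.Char.CyclicW.pair_inj W₁ W₂ hcomm ha hφω hb hψω (e.trans heω.symm)
        tauto
    rw [hz φ' ψ' hφ' hψ' (Or.inl hφ'a) (Or.inl hφ'b), hz φω ψ' hφω hψ' (Or.inr hψ'a) (Or.inr hψ'b),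
      hz φ' ψω hφ' hψω (Or.inl hφ'a) (Or.inl hφ'b), heω, add_zero, add_zero, hθdef,
      Cfsg.Agent.Char.classInner_sub_left, hχ.orthonormal ω ω, if_pos rfl, sub_eq_zero] at hrel
    rcases hfpm with hp | hp <;> rcases hχ.irr_or_neg ω with hq | hq
    · by_contra hne
      rw [Cfsg.Agent.Char.classInner_irr_ne hp hq hne] at hrel
      exact zero_ne_one hrel
    · by_contra hne
      rw [← neg_neg (χ ω), Cfsg.Agent.Char.classInner_neg_right,
        Cfsg.Agent.Char.classInner_irr_eq_ite hp hq] at hrel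
      split_ifs at hrel <;> norm_num at hrel
    · by_contra hne
      rw [← neg_neg f, Cfsg.Agent.Char.classInner_neg_left,
        Cfsg.Agent.Char.classInner_irr_eq_ite hp hq] at hrel
      split_ifs at hrel <;> norm_num at hrel
    · by_contra hne
      rw [← neg_neg f, ← neg_neg (χ ω), Cfsg.Agent.Char.classInner_neg_left,
        Cfsg.Agent.Char.classInner_neg_right,
        Cfsg.Agent.Char.classInner_irr_ne hp hq (fun e => hne (neg_injective e)), neg_zero, neg_zero] at hrel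
      exact zero_ne_one hrel
  have hval : ∀ k : ℕ, k.Coprime (orderOf g) → χ ω (g ^ k) = χ ω g := by
    intro k hk
    obtain ⟨k₀, hk₀g, hk₀ω⟩ := Nat.chineseRemainder hg k 1
    have hωG : orderOf ω ∣ Nat.card G := by
      refine orderOf_dvd_of_pow_eq_one (MonoidHom.ext fun w => ?_)
      rw [MonoidHom.pow_apply, ← map_pow, show w ^ Nat.card G = 1 from Subtype.ext (by
        rw [SubmonoidClass.coe_pow, pow_card_eq_one', Subgroup.coe_one]), map_one]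
      rfl
    have hcop : k₀.Coprime (orderOf g * orderOf ω) :=
      Nat.Coprime.mul_right ((Nat.ModEq.gcd_eq hk₀g).trans hk) ((Nat.ModEq.gcd_eq hk₀ω).trans (Nat.coprime_one_left _))
    obtain ⟨k', hk', hk'm⟩ := Cfsg.Agent.Char.exists_coprime_lift (N := Nat.card G) Nat.card_pos
      (hg.mul_dvd_of_dvd_of_dvd (orderOf_dvd_natCard g) hωG) hcop
    have e1 : g ^ k' = g ^ k := pow_eq_pow_iff_modEq.2 ((hk'm.of_dvd (dvd_mul_right _ _)).trans hk₀g)
    have e2 : ∀ w, ω w ^ k' = ω w := by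
      intro w
      conv_rhs => rw [← pow_one (ω w)]
      refine pow_eq_pow_iff_modEq.2 (((hk'm.of_dvd (dvd_mul_left _ _)).trans hk₀ω).of_dvd ?_)
      refine orderOf_dvd_of_pow_eq_one ?_
      exact (MonoidHom.pow_apply ω (orderOf ω) w).symm.trans (DFunLike.congr_fun (pow_orderOf_eq_one ω) w)
    rw [← e1]
    exact congrFun (hfix k' hk' e2) g
  rcases hχ.irr_or_neg ω with h | h
  · exact Cfsg.Agent.Char.IsChar.exists_int_of_fixed (Cfsg.Agent.Char.IsIrr.isCharacter h) g hval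
  · obtain ⟨m, hm⟩ := Cfsg.Agent.Char.IsChar.exists_int_of_fixed (Cfsg.Agent.Char.IsIrr.isCharacter h) g
      (fun k hk => by simp only [Pi.neg_apply, hval k hk])
    exact ⟨-m, by rw [Int.cast_neg, ← hm, Pi.neg_apply, neg_neg]⟩

end Cfsg.Agent.S1508
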