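import Cfsg.Statements.S1379
import Cfsg.Agent.Lib.Transfer.Local.SigmaCover

set_option maxHeartbeats 1000000
set_option maxRecDepth 8000

set_option autoImplicit false
open Cfsg

namespace Cfsg.Agent.S1379

open Cfsg.Agent Cfsg.Agent.Transfer Cfsg.Agent.Transfer.Loc Subgroup
open scoped Pointwise

/-- Let G be a minimal simple group of odd order; for a maximal subgroup M write M̃ for the union of the G-conjugates of the cosets x R(x), x ≠ 1 in M_σ. Then M̃ ∩ Ñ = ∅ for non-conjugate maximal M, N; if every maximal subgroup has κ empty, every g ≠ 1 lies in some M̃; and if M = K U M_σ has K ≠ 1 with Ẑ = K K* − (K ∪ K*), then every g ≠ 1 lies in some Ñ or in a conjugate of Ẑ, and no conjugate of an element of Ẑ lies in any Ñ. -/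
theorem result {G : Type*} [Group G] [Finite G] (hG : Cfsg.IsMinSimpleOddOrder G) :
    (∀ M N : Subgroup G, IsCoatom M → IsCoatom N → (∀ g : G, N ≠ M.map (MulAut.conj g).toMonoidHom) → Cfsg.tildeOf M ((Cfsg.sigmaCore M : Set G) \ {1}) ∩ Cfsg.tildeOf N ((Cfsg.sigmaCore N : Set G) \ {1}) = ∅) ∧
      ((∀ M : Subgroup G, IsCoatom M → Cfsg.kappa M = ∅) →
        ∀ g : G, g ≠ 1 → ∃ M : Subgroup G, IsCoatom M ∧ g ∈ Cfsg.tildeOf M ((Cfsg.sigmaCore M : Set G) \ {1})) ∧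
      ∀ (M K U : Subgroup G), IsCoatom M → Cfsg.IsSigmaDecomposition M K U → K ≠ ⊥ →
        (∀ g : G, g ≠ 1 → (∃ N : Subgroup G, IsCoatom N ∧ g ∈ Cfsg.tildeOf N ((Cfsg.sigmaCore N : Set G) \ {1})) ∨
            ∃ y : G, ∃ z ∈ ((↑(K ⊔ (Cfsg.sigmaCore M ⊓ Subgroup.centralizer (K : Set G))) : Set G) \ ((K : Set G) ∪ ↑(Cfsg.sigmaCore M ⊓ Subgroup.centralizer (K : Set G)))), g = y * z * y⁻¹) ∧
        ∀ N : Subgroup G, IsCoatom N → ∀ y : G, ∀ z ∈ ((↑(K ⊔ (Cfsg.sigmaCore M ⊓ Subgroup.centralizer (K : Set G))) : Set G) \ ((K : Set G) ∪ ↑(Cfsg.sigmaCore M ⊓ Subgroup.centralizer (K : Set G)))), y * z * y⁻¹ ∉ Cfsg.tildeOf N ((Cfsg.sigmaCore N : Set G) \ {1}) := by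
  refine ⟨fun M N hM hN hnc => ?_, fun hκ g hg => ?_, fun M K U hM hKU hK1 => ?_⟩
  · rw [Set.eq_empty_iff_forall_notMem]
    rintro g ⟨hgM, hgN⟩
    obtain ⟨h, a, r, ha, ha1, hr, rfl⟩ := (mem_tilde_iff hG hM).1 hgM
    obtain ⟨h', b, s, hb, hb1, hs, e⟩ := (mem_tilde_iff hG hN).1 hgN
    refine tilde_disjoint hG (isCoatom_conj hG hM h) (isCoatom_conj hG hN h') (fun c hc => hnc (h'⁻¹ * (c * h)) ?_)
      (smul_sigmaCore hG hM h ▸ ha) (smul_sigmaCore hG hN h' ▸ hb) ha1 hb1 hr hs e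
    show N = MulAut.conj (h'⁻¹ * (c * h)) • M
    rw [← Grp.conj_smul_conj_smul, ← Grp.conj_smul_conj_smul c h, ← hc, Grp.conj_smul_conj_smul, inv_mul_cancel,
      map_one, one_smul]
  · refine (sigma_dichotomy hG hg).elim id ?_
    rintro ⟨H, c, x, w, hH, -, -, -, -, hw1, -, -, hw⟩
    obtain ⟨q, hq, hqd⟩ := Nat.exists_prime_and_dvd (fun h => hw1 (orderOf_eq_one_iff.1 h))
    have := hw q hq hqd
    rw [hκ H hH] at this
    exact this.elim
  · obtain ⟨Ms, h⟩ := exists_kappaPair hG hM hKU.hall hK1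
    refine ⟨fun g hg => sigma_dichotomy_pair hG hM h hg, fun N hN y z hz hy => ?_⟩
    refine cover_not_T hG (Z := K ⊔ kStar M K) ⟨hM, K, hKU.hall, hK1, rfl⟩ hN (h.inT_iff.2 hz) ?_
    have h1 := tilde_conj hG hN hy y⁻¹
    rw [show y⁻¹ * (y * z * y⁻¹) * y⁻¹⁻¹ = z by group] at h1
    exact tilde_subset_cover hG hN h1

end Cfsg.Agent.S1379
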