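import Cfsg.Statements.S1373
import Cfsg.Agent.Lib.Transfer.Local.KappaDual

set_option maxHeartbeats 1000000
set_option maxRecDepth 8000

set_option autoImplicit false
open Cfsg

namespace Cfsg.Agent.S1373

open Cfsg.Agent Cfsg.Agent.Transfer Cfsg.Agent.Transfer.Loc Subgroup

/-- Let G be a minimal simple group of odd order and M a maximal subgroup with standard factorisation M = K U M_σ, K ≠ 1 and U = 1. Then M_σ ∩ C_G(K) has prime order. -/
theorem result {G : Type*} [Group G] [Finite G] (hG : Cfsg.IsMinSimpleOddOrder G)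
    (M : Subgroup G) (hM : IsCoatom M) (K U : Subgroup G) (hKU : Cfsg.IsSigmaDecomposition M K U) (hK1 : K ≠ ⊥) (hU : U = ⊥) :
    (Nat.card ↥(Cfsg.sigmaCore M ⊓ Subgroup.centralizer (K : Set G))).Prime := by
  obtain ⟨Mstar, -, -, -, -, -, -, -, hfull, -⟩ := kappa_dual hG hM hKU.hall hK1
  refine (hfull fun p hp hd hσ => hKU.hall.2.1 p hp ?_).1
  obtain ⟨hE', hc, -⟩ := decomp_compl hG hM hKU
  rw [← compl_card hE', hc, hU, Subgroup.card_bot, one_mul] at hd
  exact (hp.dvd_mul.1 hd).resolve_right fun h =>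
    hσ (TransHyp.piCoreOf_primes (π := Cfsg.sigma M) (X := M) hp h)

end Cfsg.Agent.S1373
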