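import Cfsg.Statements.S1454
import Mathlib
import Cfsg.Agent.Lib.Transfer.NarrowAut
import Cfsg.Agent.Lib.Transfer.OddRankTwoGen

set_option maxHeartbeats 1000000
set_option maxRecDepth 8000

set_option autoImplicit false
open Cfsg

namespace Cfsg.Agent.S1454

open scoped commutatorElement

theorem core_facts {p : ℕ} [hp : Fact p.Prime] {A : Type*} [Group A] [Finite A] (h : IsPGroup p (commutator A)) :
    commutator A ≤ Cfsg.pCore p A ∧ ((Cfsg.pCore p A).index).Coprime p := by
  have hcore : commutator A ≤ Cfsg.pCore p A := Transfer.le_pCore inferInstance h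
  refine ⟨hcore, ?_⟩
  obtain ⟨S⟩ : Nonempty (Sylow p A) := Sylow.nonempty
  haveI : (S : Subgroup A).Normal := ⟨fun s hs x => by
    have h : ⁅x, s⁆ ∈ commutator A := by
      rw [_root_.commutator_def]; exact Subgroup.commutator_mem_commutator (Subgroup.mem_top x) (Subgroup.mem_top s)
    have h2 := (S : Subgroup A).mul_mem (Transfer.pCore_le_sylow S (hcore h)) hs
    rwa [show ⁅x, s⁆ * s = x * s * x⁻¹ by rw [commutatorElement_def]; group] at h2⟩
  rw [le_antisymm (Transfer.pCore_le_sylow S) (Transfer.le_pCore inferInstance S.isPGroup')]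
  exact (hp.out.coprime_iff_not_dvd.2 S.not_dvd_index).symm


/-- Let G be a finite group, p an odd prime, R a narrow p-subgroup and A a solvable subgroup of odd order normalizing R with A ∩ C_G(R) = 1. Then [A, A] ≤ O_p(A) and the index of O_p(A) in A is coprime to p; if R has an elementary abelian subgroup of order p ^ 3 then the order of every element of A of order coprime to p divides p − 1; and if the order of A is a prime not dividing p(p − 1), then 2·#A divides p + 1, and if in addition [R, A] = R and R is non-abelian then #R = p ^ 3. -/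
theorem result {G : Type*} [Group G] [Finite G] (p : ℕ) [Fact p.Prime] (hp : p ≠ 2) (R A : Subgroup G) (hR : IsPGroup p R) (hRn : Cfsg.IsNarrow p R)
    (hA : (A ≤ Subgroup.normalizer (R : Set G))) (hAs : Group.IsSolvable A) (hAodd : Odd (Nat.card A)) (hfaith : A ⊓ Subgroup.centralizer (R : Set G) = ⊥) :
    (commutator ↥A ≤ Cfsg.pCore p ↥A ∧ ((Cfsg.pCore p ↥A).index).Coprime p) ∧
      (¬ Cfsg.PRankLE p 2 R → ∀ a ∈ A, (orderOf a).Coprime p → orderOf a ∣ p - 1) ∧
      ((Nat.card A).Prime → ¬ Nat.card A ∣ p * (p - 1) →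
        2 * Nat.card A ∣ p + 1 ∧ (⁅R, A⁆ = R → ¬ IsMulCommutative R → Nat.card R = p ^ 3)) := by

  classical
  obtain ⟨f, hf', hf⟩ : ∃ f : A →* MulAut R, (∀ (a : A) (x : R), ((f a x : R) : G) = a * x * (a : G)⁻¹) ∧ Function.Injective f := by
    let f : A →* MulAut R :=
      { toFun := fun a =>
          { toFun := fun x => ⟨a * x * (a : G)⁻¹, (Subgroup.mem_normalizer_iff.1 (hA a.2) x).1 x.2⟩
            invFun := fun x => ⟨(a : G)⁻¹ * x * a, (Subgroup.mem_normalizer_iff''.1 (hA a.2) x).1 x.2⟩
            left_inv := fun x => Subtype.ext (by simp only [mul_assoc]; simp)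
            right_inv := fun x => Subtype.ext (by simp only [mul_assoc]; simp)
            map_mul' := fun x y => Subtype.ext (by simp [mul_assoc]) }
        map_one' := MulEquiv.ext fun x => Subtype.ext (by simp)
        map_mul' := fun a b => MulEquiv.ext fun x => Subtype.ext (by simp [mul_assoc]) }
    refine ⟨f, fun a x => rfl, ?_⟩
    rw [← MonoidHom.ker_eq_bot_iff, Subgroup.eq_bot_iff_forall]
    intro a ha
    refine Subtype.ext (Subgroup.mem_bot.1 (hfaith ▸ ⟨a.2, Subgroup.mem_centralizer_iff.2 fun x hx => ?_⟩))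
    have h1 : (a : G) * x * (a : G)⁻¹ = x :=
      congrArg (fun e : MulAut R => ((e ⟨x, hx⟩ : R) : G)) (MonoidHom.mem_ker.1 ha)
    exact (mul_inv_eq_iff_eq_mul.1 h1).symm
  by_cases hrk : Cfsg.PRankLE p 2 R
  · refine ⟨core_facts (Transfer.OddRankTwo.derived_isPGroup_of_faithful hp hR hrk hAodd hAs f hf),
      fun h => absurd hrk h, fun hq hnd => ?_⟩
    set q := Nat.card A with hqdef
    haveI := Fact.mk hq
    have hqp : q ≠ p := fun h => hnd (h ▸ dvd_mul_right _ _)
    have hcop : q.Coprime p := (Nat.coprime_primes hq (Fact.out : p.Prime)).2 hqp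
    obtain ⟨a, ha⟩ := exists_prime_orderOf_dvd_card' q (dvd_refl (Nat.card A))
    have hfa : orderOf (f a) = q := by rw [orderOf_injective f hf, ha]
    have h1 := Transfer.OddRankTwo.prime_dvd_of_aut hp hR hrk hq hqp (f a) hfa
    have hqm : ¬ q ∣ p - 1 := fun h => hnd (h.mul_left p)
    have hqp1 : q ∣ p + 1 := (hq.dvd_mul.1 h1).resolve_left hqm
    refine ⟨Nat.Coprime.mul_dvd_of_dvd_of_dvd (Nat.coprime_two_left.2 hAodd) ?_ hqp1, fun hRA hnab => ?_⟩
    · obtain ⟨k, hk⟩ := (Fact.out : p.Prime).odd_of_ne_two hp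
      omega
    obtain ⟨f', hf'', hgen⟩ := Transfer.MetaCoprime.gen_of_commutator R A hA hRA
    haveI : Nontrivial R := by
      by_contra h
      rw [not_nontrivial_iff_subsingleton] at h
      exact hnab ⟨⟨fun x y => Subsingleton.elim _ _⟩⟩
    have hp3 := Transfer.MetaCoprime.three_lt_of_gen hp hR hrk hAodd hcop f' hgen
    obtain ⟨S, hS, htop, -, hScard, hCc, -⟩ := Transfer.MetaCoprime.structure_of_gen hp hp3 hR hrk hAodd hcop f' hgen
      (fun h => hnab ⟨⟨h⟩⟩)
    set C := Subgroup.centralizer (S : Set R) with hC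
    haveI := hCc
    have hSi : ∀ e : MulAut R, ∀ x ∈ S, e x ∈ S := fun e x hx => by
      rw [hS, ← map_pow, (hS x).1 hx, map_one]
    haveI : S.Normal := ⟨fun x hx g => hSi (MulAut.conj g) x hx⟩
    have hCi : ∀ e : MulAut R, ∀ c ∈ C, e c ∈ C := fun e c hc => Subgroup.mem_centralizer_iff.2 fun x hx => by
      have h := Subgroup.mem_centralizer_iff.1 hc (e.symm x) (hSi e.symm x hx)
      have h2 := congrArg e h
      rwa [map_mul, map_mul, MulEquiv.apply_symm_apply] at h2
    let g : A →* MulAut C :=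
      { toFun := fun b =>
          { toFun := fun x => ⟨f' b x, hCi _ x x.2⟩
            invFun := fun x => ⟨(f' b).symm x, hCi (f' b).symm x x.2⟩
            left_inv := fun x => Subtype.ext ((f' b).symm_apply_apply x)
            right_inv := fun x => Subtype.ext ((f' b).apply_symm_apply x)
            map_mul' := fun x y => Subtype.ext (map_mul (f' b) (x : R) y) }
        map_one' := MulEquiv.ext fun x => Subtype.ext (by simp)
        map_mul' := fun b c => MulEquiv.ext fun x => Subtype.ext (by simp) }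
    obtain ⟨k, hk⟩ := IsPGroup.iff_card.1 (hR.to_subgroup C)
    have hgtriv : ∀ b, g b = 1 := fun b => by
      refine orderOf_eq_one_iff.1 (Nat.eq_one_of_dvd_coprimes ?_
        ((orderOf_map_dvd g b).trans (orderOf_dvd_natCard b)) (orderOf_dvd_natCard (g b)))
      rw [IsCyclic.card_mulAut, hk]
      rcases Nat.eq_zero_or_pos k with rfl | hk0
      · rw [pow_zero, Nat.totient_one]; exact Nat.coprime_one_right _
      · rw [Nat.totient_prime_pow (Fact.out : p.Prime) hk0]
        exact Nat.Coprime.mul_right (hcop.pow_right _) ((hq.coprime_iff_not_dvd).2 hqm)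
    have hab : ∀ x y : R, ⁅x, y⁆ ∈ S := fun x y => by
      rw [← QuotientGroup.eq_one_iff]
      show QuotientGroup.mk' S ⁅x, y⁆ = 1
      obtain ⟨s, hs, c, hc, hx⟩ := Subgroup.mem_sup_of_normal_left.1 (htop.ge (Subgroup.mem_top x))
      obtain ⟨t, ht, d, hd, hy⟩ := Subgroup.mem_sup_of_normal_left.1 (htop.ge (Subgroup.mem_top y))
      rw [map_commutatorElement, commutatorElement_eq_one_iff_mul_comm, ← hx, ← hy, map_mul, map_mul,
        show QuotientGroup.mk' S s = 1 from (QuotientGroup.eq_one_iff s).2 hs,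
        show QuotientGroup.mk' S t = 1 from (QuotientGroup.eq_one_iff t).2 ht, one_mul, one_mul, ← map_mul, ← map_mul]
      letI := hCc.commGroup
      exact congrArg _ (congrArg Subtype.val (mul_comm (⟨c, hc⟩ : C) ⟨d, hd⟩))
    have hCS : C ≤ S := fun c hc => Transfer.MetaCoprime.mem_of_fixed hR hcop f' hgen S (fun b => hSi (f' b)) hab
      fun b => by
        have h : f' b c = c := congrArg Subtype.val (DFunLike.congr_fun (hgtriv b) ⟨c, hc⟩)
        rw [h, inv_mul_cancel]; exact one_mem _
    rw [← hScard, show S = (⊤ : Subgroup R) by rw [← htop]; exact (sup_eq_left.2 hCS).symm, Subgroup.card_top]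
  · have hE := Transfer.Narrow.hasMaxPlane_of_narrow hR hrk hRn
    refine ⟨core_facts (Transfer.Narrow.derived_isPGroup hp hR hrk hE f hf), fun _ a ha hcop => ?_, fun hq hnd => ?_⟩
    · have := Transfer.Narrow.orderOf_dvd hp hR hrk hE f hf ⟨a, ha⟩ (by rwa [Subgroup.orderOf_mk])
      rwa [Subgroup.orderOf_mk] at this
    · exfalso
      haveI := Fact.mk hq
      obtain ⟨a, ha⟩ := exists_prime_orderOf_dvd_card' (Nat.card A) (dvd_refl (Nat.card A))
      refine hnd (dvd_mul_of_dvd_right ?_ p)
      rw [← ha]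
      refine Transfer.Narrow.orderOf_dvd hp hR hrk hE f hf a (ha ▸ ?_)
      exact (Nat.coprime_primes hq (Fact.out : p.Prime)).2 fun h => hnd (h ▸ dvd_mul_right _ _)

end Cfsg.Agent.S1454
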