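import Cfsg.Statements.S1356
import Cfsg.Agent.Lib.Transfer.Local.CoreFitting

set_option maxHeartbeats 1000000
set_option maxRecDepth 8000

set_option autoImplicit false
open Cfsg

namespace Cfsg.Agent.S1356

open Cfsg.Agent Cfsg.Agent.Transfer Cfsg.Agent.Transfer.Loc Subgroup

/-- Let G be a minimal simple group of odd order and M a maximal subgroup. Then the second derived subgroup M'' lies in the Fitting subgroup F(M), F(M) is generated by M_F together with C_M(M_F), and if κ(M) is nonempty then F(M) ≤ M'. -/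
theorem result {G : Type*} [Group G] [Finite G] (hG : Cfsg.IsMinSimpleOddOrder G)
    (M : Subgroup G) (hM : IsCoatom M) :
    ⁅⁅M, M⁆, ⁅M, M⁆⁆ ≤ Cfsg.fittingOf M ∧
      Cfsg.fittingOf M = (M ⊓ Subgroup.centralizer (Cfsg.fittingHallOf M : Set G)) ⊔ Cfsg.fittingHallOf M ∧
      ((Cfsg.kappa M).Nonempty → Cfsg.fittingOf M ≤ ⁅M, M⁆) := by

  refine ⟨derived_two_le_fitting hG hM, fitting_eq_cent_sup hG hM, fun ⟨p, hp⟩ => ?_⟩
  obtain ⟨K, U, hKU⟩ := exists_decomp_of_max hG hM
  refine fitting_le_derived hG hM hKU fun e => ?_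
  exact hKU.hall.2.2 p hp.1 hp (by rw [e, Subgroup.relIndex_bot_left]; exact hp.2.1)

end Cfsg.Agent.S1356
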