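import Cfsg.Statements.S1419
import Cfsg.Agent.Lib.Transfer.Local.TauTwo
import Cfsg.Agent.S1418

set_option maxHeartbeats 1000000
set_option maxRecDepth 8000

set_option autoImplicit false
open Cfsg

namespace Cfsg.Agent.S1419

open Transfer Subgroup
open scoped Pointwise

/-- Let G be a minimal simple group of odd order whose Sylow p-subgroups are nonabelian, M a maximal subgroup with p ∈ τ₂(M), E a complement to M_σ in M and A ≤ E elementary abelian of order p ^ 2. Then τ₂(M) = {p}; A₀ = A ∩ C_G(M_σ) has order p and F(M) is generated by M_σ and A₀ (a direct product); and every subgroup X ≠ A₀ of E of order p satisfies M_σ ∩ C_G(X) = 1 and C_G(X) ⊄ M. -/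
theorem result {G : Type*} [Group G] [Finite G] (hG : Cfsg.IsMinSimpleOddOrder G)
    (M : Subgroup G) (hM : IsCoatom M) (E : Subgroup G) (hE : Cfsg.IsComplIn E (Cfsg.sigmaCore M) M) (p : ℕ) [Fact p.Prime] (hp : p ∈ Cfsg.tau2 M) (hS : ∀ S : Sylow p G, ¬ IsMulCommutative (S : Subgroup G))
    (A : Subgroup G) (hA : (A ≤ E ∧ Cfsg.IsElementaryAbelian p A ∧ Nat.card A = p ^ 2)) :
    Cfsg.tau2 M = {p} ∧
      (Nat.card ↥(A ⊓ Subgroup.centralizer (Cfsg.sigmaCore M : Set G)) = p ∧
        Cfsg.fittingOf M = Cfsg.sigmaCore M ⊔ (A ⊓ Subgroup.centralizer (Cfsg.sigmaCore M : Set G))) ∧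
      ∀ X : Subgroup G, X ≤ E → Nat.card X = p → X ≠ A ⊓ Subgroup.centralizer (Cfsg.sigmaCore M : Set G) →
        Cfsg.sigmaCore M ⊓ Subgroup.centralizer (X : Set G) = ⊥ ∧ ¬ Subgroup.centralizer (X : Set G) ≤ M := by

  have hpp : p.Prime := Fact.out
  obtain ⟨hAE, hAe, hA2⟩ := hA
  have hAM : A ≤ M := hAE.trans hE.1
  obtain ⟨A₀, h⟩ := Loc.exists_exc hG hM hAM hAe hA2 hp.2.1
  haveI := Loc.solvable_of_ne_top hG hM.1
  haveI := Loc.isSolvable_of_le hE.1
  obtain ⟨P, hP, hAP⟩ := Loc.exists_sylowIn_ge hAM (Grp.elemAb_isPGroup hAe)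
  obtain ⟨S, hPS⟩ := hP.2.1.exists_le_sylow
  have hAS : A ≤ (S : Subgroup G) := hAP.trans hPS
  obtain ⟨hC0, hlines⟩ := h.lines_facts hAS (hS S)
  obtain ⟨-, -, -, y, hyS, -, hyM, -⟩ := h.exists_mover hAS (hS S)
  obtain ⟨⟨hEA, hXA⟩, ⟨-, hME, -⟩, -⟩ := Cfsg.Agent.S1418.result hG M hM E hE p hp A ⟨hAE, hAe, hA2⟩
  set C₀ := A ⊓ centralizer (Cfsg.sigmaCore M : Set G) with hC₀
  have hA₀C : A₀ ≤ C₀ := le_inf h.hA₀ (le_centralizer_iff.1 hC0)
  have hC₀eq : C₀ = A₀ := by
    refine (Subgroup.eq_of_le_of_card_ge hA₀C ?_).symm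
    obtain ⟨j, hj, e⟩ := (Nat.dvd_prime_pow hpp).1 (hA2 ▸ Subgroup.card_dvd_of_le (inf_le_left : C₀ ≤ A))
    rw [h.hA₀c, e]
    refine (Nat.pow_le_pow_right hpp.pos (?_ : j ≤ 1)).trans (pow_one p).le
    by_contra hj1
    have hfull : C₀ = A := Subgroup.eq_of_le_of_card_ge inf_le_left (by
      rw [hA2, e]; exact Nat.pow_le_pow_right hpp.pos (by omega))
    exact Loc.plane_not_fixing hG hM h.hA hAM h.hσ h.centralizer_le_M (hfull.ge.trans inf_le_right)
  have hEN : E ≤ normalizer (Cfsg.sigmaCore M : Set G) := hE.1.trans (Loc.sigma_le_normalizer hE)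
  have hMC₀ : M ≤ normalizer (C₀ : Set G) := by
    rw [← Loc.compl_sup hE]
    exact sup_le (Grp.le_normalizer_inf' hEA (hEN.trans (Loc.normalizer_le_normalizer_cent _)))
      ((le_centralizer_iff.1 inf_le_right).trans (centralizer_le_normalizer _))
  refine ⟨Set.ext fun q => ⟨fun hq => ?_, fun hq => ?_⟩, ⟨by rw [hC₀eq, h.hA₀c], ?_⟩, fun X hX hXc hne => ?_⟩
  · obtain ⟨hqp, hqσ, hr2, hr1⟩ := hq
    haveI := Fact.mk hqp
    by_contra hne
    have hne' : q ≠ p := hne
    have hqM : q ∣ Nat.card M := by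
      obtain ⟨D, hD, hDe, hD2⟩ := Loc.exists_elem_of_not_prank hr1
      exact (Loc.dvd_card_of_pGroup (Grp.elemAb_isPGroup hDe) fun e => by
        rw [e, Subgroup.card_bot] at hD2
        exact absurd hD2 (not_le.2 (Nat.one_lt_pow (by norm_num) hqp.one_lt))).trans (Subgroup.card_dvd_of_le hD)
    have hqE : q ∣ Nat.card E := by
      have h1 := hqM
      rw [← Loc.compl_card hE] at h1
      exact (hqp.dvd_mul.1 h1).resolve_right (Loc.not_dvd_sigmaCore hqσ)
    obtain ⟨T, hT⟩ := Grp.exists_isSylowIn q E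
    obtain ⟨B, hBT, hBe, hB2⟩ := Loc.exists_elem_sylow hr1 (Loc.compl_sylow hG hM hE hqE hT)
    have hBE : B ≤ E := hBT.trans hT.1
    have hBc : Nat.card B = q ^ 2 := by
      refine le_antisymm ?_ hB2
      by_contra hlt
      obtain ⟨n, hn⟩ := IsPGroup.iff_card.1 (Grp.elemAb_isPGroup hBe)
      refine Loc.not_prank_of_elem (hBE.trans hE.1) hBe ?_ hr2
      rw [hn] at hlt ⊢
      exact Nat.pow_le_pow_right hqp.pos ((Nat.pow_lt_pow_iff_right hqp.one_lt).1 (not_le.1 hlt))
    obtain ⟨B₀, hB⟩ := Loc.exists_exc hG hM (hBE.trans hE.1) hBe hBc hqσ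
    have hEB := hB.compl_normalizes hE hBE
    have hAB : A ≤ centralizer (B : Set G) := Loc.commute_of_coprime (hAE.trans hEB) (hBE.trans hEA)
      (Loc.coprime_O hne'.symm (Grp.elemAb_isPGroup hAe) (Grp.elemAb_isPGroup hBe))
    obtain ⟨k, hk, hSk⟩ := h.hA.key_sylow hG hB.hA hne' (hAE.trans hEB)
      (by rw [inf_eq_left.2 (le_centralizer_iff.1 hAB)]; exact hB.hA.ne_bot) S hAS
    have hkE : k ∈ E := hME.le ⟨h.centralizer_le_M hk, centralizer_le_normalizer _ hk⟩
    rw [Grp.mem_normalizer_iff_smul.1 (hEB hkE)] at hSk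
    exact hyM (hB.centralizer_le_M (hSk hyS))
  · rw [Set.mem_singleton_iff] at hq
    rw [hq]; exact hp
  · refine le_antisymm ?_ (sup_le ?_ ?_)
    · rw [Loc.fittingOf_eq]
      refine iSup_le fun r => ?_
      obtain ⟨r, hrp⟩ := r
      haveI := Fact.mk hrp
      show Loc.O r M ≤ _
      rcases eq_or_ne (Loc.O r M) ⊥ with h0 | h0
      · rw [h0]; exact bot_le
      by_cases hrσ : r ∈ Cfsg.sigma M
      · obtain ⟨T, hT, hle⟩ := Loc.exists_sylowIn_ge (Loc.O_le r M) (Loc.O_isPGroup r M)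
        exact hle.trans ((Loc.sylow_le_piCore hG hM (Loc.alpha_subset_sigma hG hM) le_rfl hrσ hT).trans le_sup_left)
      · have hcop : (Nat.card (Loc.O r M)).Coprime (Nat.card (Cfsg.sigmaCore M)) := by
          obtain ⟨n, hn⟩ := IsPGroup.iff_card.1 (Loc.O_isPGroup r M)
          rw [hn]
          exact (hrp.coprime_iff_not_dvd.2 (Loc.not_dvd_sigmaCore hrσ)).pow_left n
        have hXC : Loc.O r M ≤ centralizer (Cfsg.sigmaCore M : Set G) := Loc.commute_of_coprime
          ((Loc.O_le r M).trans (TransHyp.le_normalizer_piCoreOf M))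
          ((TransHyp.piCoreOf_le M).trans (Loc.le_normalizer_core' M)) hcop
        by_cases hrp' : r = p
        · subst hrp'
          refine le_trans ?_ le_sup_right
          have hXP : Loc.O r M ≤ P := by
            have h1 : IsPGroup r ↥(Loc.O r M ⊔ P) := (Loc.O_isPGroup r M).to_sup_of_normal_left' hP.2.1
              (hP.1.trans (Loc.le_normalizer_core' M))
            rw [hP.eq_of_le le_sup_right (sup_le (Loc.O_le r M) hP.1) h1]
            exact le_sup_left
          have hpow : ∀ j : ℕ, ∀ x ∈ Loc.O r M, x ^ r ^ j = 1 → x ^ r = 1 := by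
            intro j
            induction j with
            | zero => intro x _ hx; rw [pow_zero, pow_one] at hx; rw [hx, one_pow]
            | succ j ih =>
              intro x hx hxj
              rw [pow_succ', pow_mul] at hxj
              have h1 := ih (x ^ r) (pow_mem hx r) hxj
              exact h.not_pow hAS (hS S) hP hAP hPS (hXP hx) (hC₀eq.le
                ⟨h.mem_of_pow hP hAP (pow_mem (hXP hx) r) h1, hXC (pow_mem hx r)⟩)
          intro x hx
          obtain ⟨j, hj⟩ := Loc.O_isPGroup r M ⟨x, hx⟩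
          exact ⟨h.mem_of_pow hP hAP (hXP hx) (hpow j x hx (by simpa using congrArg Subtype.val hj)), hXC hx⟩
        · exfalso
          obtain ⟨T, hT⟩ := Grp.exists_isSylowIn r M
          obtain ⟨B, B₀, hB, -⟩ := Loc.exc_of_normal_centralizing hG hM hrσ (Loc.O_isPGroup r M) h0 (Loc.O_le r M)
            hXC (Loc.le_normalizer_core' M) hT
          obtain ⟨hr2, hr1⟩ := (Loc.normalizer_prime_order hG hM hrσ hB.hA₀c hB.hN).1
          refine hrp' ?_
          by_contra hne
          have hA' : r ∈ Cfsg.tau2 M := ⟨hrp, hrσ, hr2, hr1⟩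
          have hcopAB : (Nat.card A).Coprime (Nat.card B) :=
            Loc.coprime_O (Ne.symm hne) (Grp.elemAb_isPGroup hAe) (Grp.elemAb_isPGroup hB.hA.elem)
          obtain ⟨E', hE', hle'⟩ := Loc.exists_compl_ge hG hM hAM fun s hs hd => by
            rw [(Nat.prime_dvd_prime_iff_eq hs hpp).1 (hs.dvd_of_dvd_pow (hA2 ▸ hd))]; exact h.hσ
          haveI := Loc.isSolvable_of_le hE'.1
          obtain ⟨T', hT'⟩ := Grp.exists_isSylowIn r E'
          have hrE : r ∣ Nat.card E' := by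
            have h1 : r ∣ Nat.card M := hB.dvd_M
            rw [← Loc.compl_card hE'] at h1
            exact (hrp.dvd_mul.1 h1).resolve_right (Loc.not_dvd_sigmaCore hrσ)
          obtain ⟨B', hB'T, hB'e, hB'2⟩ := Loc.exists_elem_sylow hr1 (Loc.compl_sylow hG hM hE' hrE hT')
          have hB'E : B' ≤ E' := hB'T.trans hT'.1
          have hB'c : Nat.card B' = r ^ 2 := by
            refine le_antisymm ?_ hB'2
            by_contra hlt
            obtain ⟨n, hn⟩ := IsPGroup.iff_card.1 (Grp.elemAb_isPGroup hB'e)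
            refine Loc.not_prank_of_elem (hB'E.trans hE'.1) hB'e ?_ hr2
            rw [hn] at hlt ⊢
            exact Nat.pow_le_pow_right hrp.pos ((Nat.pow_lt_pow_iff_right hrp.one_lt).1 (not_le.1 hlt))
          obtain ⟨B₁, hB'⟩ := Loc.exists_exc hG hM (hB'E.trans hE'.1) hB'e hB'c hrσ
          have hEB := hB'.compl_normalizes hE' hB'E
          obtain ⟨⟨hEA', -⟩, ⟨-, hME', -⟩, -⟩ := Cfsg.Agent.S1418.result hG M hM E' hE' p hp A ⟨hle', hAe, hA2⟩
          have hAB : A ≤ centralizer (B' : Set G) := Loc.commute_of_coprime (hle'.trans hEB) (hB'E.trans hEA')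
            (Loc.coprime_O (Ne.symm hne) (Grp.elemAb_isPGroup hAe) (Grp.elemAb_isPGroup hB'e))
          obtain ⟨k, hk, hSk⟩ := h.hA.key_sylow hG hB'.hA hne (hle'.trans hEB)
            (by rw [inf_eq_left.2 (le_centralizer_iff.1 hAB)]; exact hB'.hA.ne_bot) S hAS
          have hkE : k ∈ E' := hME'.le ⟨h.centralizer_le_M hk, centralizer_le_normalizer _ hk⟩
          rw [Grp.mem_normalizer_iff_smul.1 (hEB hkE)] at hSk
          exact hyM (hB'.centralizer_le_M (hSk hyS))
    · refine le_trans (Grp.le_of_forall_sylow (inf_le_left : Cfsg.sigmaCore M ⊓ Cfsg.fittingOf M ≤ _)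
        fun s hs => ?_) inf_le_right
      by_cases hd : s ∣ Nat.card (Cfsg.sigmaCore M)
      · have hσ : s ∈ Cfsg.sigma M := TransHyp.piCoreOf_primes (π := Cfsg.sigma M) (X := M) hs.out hd
        obtain ⟨Q, hQ⟩ := Grp.exists_isSylowIn s M
        have hQS := Loc.sigmaCore_sylow hG hM hσ hQ
        refine ⟨Q, hQS, le_inf hQS.1 ((Loc.le_O hQ.1 ?_ hQ.2.1).trans (Loc.O_le_fittingOf M))⟩
        exact (TransHyp.le_normalizer_piCoreOf M).trans (Loc.normalizer_le_sylow h.nilpotent hQS)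
      · exact ⟨⊥, ⟨bot_le, IsPGroup.of_bot, by rwa [Subgroup.relIndex_bot_left]⟩, bot_le⟩
    · exact (Loc.le_O (inf_le_left.trans hAM) hMC₀ ((Grp.elemAb_isPGroup hAe).to_le inf_le_left)).trans
        (Loc.O_le_fittingOf M)
  · exact hlines X (hXA X hX hXc) hXc (fun e => hne (e.trans hC₀eq.symm))

end Cfsg.Agent.S1419
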