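import Cfsg.Statements.S1360
import Cfsg.Agent.Lib.Transfer.Local.FreeExponent

set_option maxHeartbeats 1000000
set_option maxRecDepth 8000

set_option autoImplicit false
open Cfsg

namespace Cfsg.Agent.S1360

open Cfsg.Agent Cfsg.Agent.Transfer.Loc Subgroup
open scoped Pointwise commutatorElement


/-- Let G be a minimal simple group of odd order and M a maximal subgroup with standard factorisation M = K U M_σ. Then U contains a subgroup U₀ with the same exponent as U such that no non-identity element of U₀ centralizes a non-identity element of M_σ. -/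
theorem result {G : Type*} [Group G] [Finite G] (hG : Cfsg.IsMinSimpleOddOrder G)
    (M : Subgroup G) (hM : IsCoatom M) (K U : Subgroup G) (hKU : Cfsg.IsSigmaDecomposition M K U) :
    ∃ U₀ : Subgroup G, U₀ ≤ U ∧ Monoid.exponent U₀ = Monoid.exponent U ∧ ∀ u ∈ U₀, u ∈ Cfsg.sigmaHat M → u = 1 := by

  haveI := solvable_of_ne_top hG hM.1
  obtain ⟨hE, -, hU⟩ := decomp_compl hG hM hKU
  have hN : U ⊔ K ≤ normalizer (U : Set G) := sup_le le_normalizer hKU.normal
  have hW : ⁅U ⊔ K, U ⊔ K⁆ ≤ U := by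
    haveI := hKU.cyclic
    refine commutator_le.2 fun a ha b hb => ?_
    set f := QuotientGroup.mk' (U.subgroupOf (normalizer (U : Set G))) with hf
    have hk : ∀ c, ∀ hc : c ∈ U ⊔ K, ∃ k : normalizer (U : Set G), (k : G) ∈ K ∧ f ⟨c, hN hc⟩ = f k := by
      intro c hc
      have hc' := hc
      rw [← SetLike.mem_coe, Subgroup.coe_mul_of_right_le_normalizer_left U K hKU.normal] at hc'
      obtain ⟨u, hu, k, hk, e⟩ := hc'
      refine ⟨⟨k, hKU.normal hk⟩, hk, ?_⟩
      rw [show (⟨c, hN hc⟩ : normalizer (U : Set G)) = ⟨u, le_normalizer hu⟩ * ⟨k, hKU.normal hk⟩ from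
        Subtype.ext e.symm, map_mul]
      have h1 : f ⟨u, le_normalizer hu⟩ = 1 := (QuotientGroup.eq_one_iff _).2 hu
      rw [h1, one_mul]
    obtain ⟨k, hk1, e1⟩ := hk a ha
    obtain ⟨k', hk2, e2⟩ := hk b hb
    have h0 : f ⁅(⟨a, hN ha⟩ : normalizer (U : Set G)), ⟨b, hN hb⟩⁆ = 1 := by
      rw [map_commutatorElement, e1, e2, ← map_commutatorElement]
      have h2 : ⁅k, k'⁆ = 1 := commutatorElement_eq_one_iff_mul_comm.2 (Subtype.ext (show (k : G) * k' = k' * k from
        congrArg Subtype.val (IsCyclic.commGroup.mul_comm (⟨(k : G), hk1⟩ : K) ⟨(k' : G), hk2⟩)))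
      rw [h2, map_one]
    rw [hf, QuotientGroup.mk'_apply, QuotientGroup.eq_one_iff, Subgroup.mem_subgroupOf] at h0
    exact h0
  obtain ⟨U₀, hU₀, hexp, hfree⟩ := exists_free_exponent hG hM hE le_sup_left hW
    (fun T hT hTp => decomp_le_U hG hM hKU hT (Nat.coprime_of_dvd fun q hq h1 h2 => by
      haveI := Fact.mk hq
      exact (hTp q hq h1).2.2.2 (kappa_rank_one hG hM (hKU.hall.2.1 q hq h2))))
    (fun y hy hyp hyτ => by
      haveI := Fact.mk hyp
      by_contra hne
      have hd : orderOf y ∣ Nat.card U := Subgroup.orderOf_dvd_natCard _ hy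
      have hσ := decomp_U_prime hG hM hKU hyp hd
      exact hU _ hyp hd (kappa_of_fixed hG hM hσ (rank_one_of_not_tau2 hG hM hσ hyτ)
        (zpowers_le.2 (hKU.compl.1 hy)) (Nat.card_zpowers y) (by rwa [centralizer_zpowers_eq])))
  refine ⟨U₀, hU₀, hexp, fun u hu ⟨_, x, hx, hx1, hux⟩ => ?_⟩
  by_contra hu1
  have h1 : x ∈ Cfsg.sigmaCore M ⊓ centralizer ({u} : Set G) := ⟨hx, mem_centralizer_singleton_iff.2 hux.symm⟩
  rw [hfree u hu hu1, mem_bot] at h1
  exact hx1 h1

end Cfsg.Agent.S1360
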