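import Cfsg.Statements.S1513
import Cfsg.Agent.Lib.Char.CoprimeDegree
import Cfsg.Agent.Lib.Char.OverCyclic

set_option autoImplicit false
open Cfsg

namespace Cfsg.Agent.S1513

/-- Let L be a finite group with K normal with complement W₁ ≠ 1 a cyclic Hall subgroup, and W₂ ≠ 1 a cyclic subgroup of K equal to C_K(x) for every non-identity x ∈ W₁, with W₁W₂ of odd order. For an irreducible character θ of K: if θ is not fixed under conjugation by some element of W₁, then the function induced from θ to L is an irreducible character of L; and the irreducible characters of K fixed by all of W₁ are exactly Nat.card W₂ in number, each inducing to the sum of Nat.card W₁ pairwise distinct irreducible characters of L. -/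
theorem result {L : Type*} [Group L] [Fintype L] (K W₁ W₂ : Subgroup L) [hK : K.Normal] (hKW₁ : K ⊓ W₁ = ⊥) (hKW₁' : K ⊔ W₁ = ⊤) (hW₁ : W₁ ≠ ⊥) (hW₁c : IsCyclic W₁) (hHall : Nat.Coprime (Nat.card W₁) W₁.index) (hW₂ : W₂ ≠ ⊥) (hW₂c : IsCyclic W₂) (hW₂K : W₂ ≤ K) (hC : ∀ x ∈ W₁, x ≠ 1 → K ⊓ Subgroup.centralizer ({x} : Set L) = W₂) (hodd : Odd (Nat.card ↥(W₁ ⊔ W₂))) : (∀ θ : K → ℂ, Cfsg.IsIrrCharacter K θ → (∃ x ∈ W₁, (fun k : K => θ ⟨x * k * x⁻¹, hK.conj_mem (k : L) k.2 x⟩) ≠ θ) → Cfsg.IsIrrCharacter L (Cfsg.indFun K θ)) ∧ Nat.card {θ : Cfsg.IrrCharacter K // ∀ x ∈ W₁, (fun k : K => (θ : K → ℂ) ⟨x * k * x⁻¹, hK.conj_mem (k : L) k.2 x⟩) = θ} = Nat.card W₂ ∧ (∀ θ : K → ℂ, Cfsg.IsIrrCharacter K θ → (∀ x ∈ W₁, (fun k : K => θ ⟨x * k * x⁻¹, hK.conj_mem (k : L) k.2 x⟩) = θ) → ∃ C : Finset (L → ℂ), C.card = Nat.card W₁ ∧ (∀ μ ∈ C, Cfsg.IsIrrCharacter L μ) ∧ Cfsg.indFun K θ = ∑ μ ∈ C, μ) := by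
  classical
  haveI := Fintype.ofFinite K
  haveI : IsCyclic W₁ := hW₁c
  haveI : IsCyclic W₂ := hW₂c
  have hidx : W₁.index = Nat.card K :=
    (Subgroup.isComplement'_of_disjoint_and_mul_eq_univ (disjoint_iff.2 hKW₁) (by
      rw [← Subgroup.normal_mul, hKW₁']; rfl)).index_eq_card
  have hKidx : K.index = Nat.card W₁ := by
    have h1 := K.card_mul_index
    rw [← W₁.card_mul_index, hidx, mul_comm (Nat.card W₁)] at h1
    exact Nat.eq_of_mul_eq_mul_left Nat.card_pos h1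
  have hcop : (Nat.card K).Coprime (Nat.card W₁) := (hidx ▸ hHall).symm
  have hdec : ∀ g : L, ∃ k ∈ K, ∃ w ∈ W₁, k * w = g := fun g => by
    have : g ∈ ((K ⊔ W₁ : Subgroup L) : Set L) := hKW₁' ▸ Subgroup.mem_top g
    rw [Subgroup.normal_mul] at this
    exact Set.mem_mul.1 this
  have hcyc : IsCyclic (L ⧸ K) := by
    refine isCyclic_of_surjective ((QuotientGroup.mk' K).comp W₁.subtype) fun q => ?_
    induction q using QuotientGroup.induction_on with
    | _ g =>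
      obtain ⟨k, hk, w, hw, rfl⟩ := hdec g
      exact ⟨⟨w, hw⟩, by
        simp only [MonoidHom.comp_apply, Subgroup.subtype_apply, QuotientGroup.mk'_apply]
        rw [QuotientGroup.mk_mul, (QuotientGroup.eq_one_iff k).2 hk, one_mul]⟩
  have hcnt : ∀ H : Subgroup L, H ≤ W₁ → K ⊓ Subgroup.centralizer (H : Set L) = W₂ →
      Nat.card {θ : IrrCharacter K // ∀ x ∈ H, (fun k : K =>
        (θ : K → ℂ) ⟨x * k * x⁻¹, hK.conj_mem (k : L) k.2 x⟩) = θ} = Nat.card W₂ := by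
    intro H hH hC₀
    have hn : ∀ h ∈ H, ∀ k ∈ K, h * k * h⁻¹ ∈ K := fun h _ k hk => hK.conj_mem k hk h
    have hs : Group.IsSolvable H := solvable_of_solvable_injective (Subgroup.inclusion_injective hH)
    have hc : (Nat.card K).Coprime (Nat.card H) :=
      hcop.coprime_dvd_right (Subgroup.card_dvd_of_le hH)
    have h1 := (Cfsg.Agent.Char.Glaub.good_conjHom K H hn hc hs).count
    rw [Cfsg.Agent.Char.CopDeg.card_fixed_classes K H hn hc (Or.inl hs), hC₀] at h1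
    have h2 : Nat.card (ConjClasses W₂) = Nat.card W₂ := by
      refine (Nat.card_congr (Equiv.ofBijective ConjClasses.mk ⟨fun a b h => ?_, ConjClasses.mk_surjective⟩)).symm
      obtain ⟨c, hc⟩ := isConj_iff.1 (ConjClasses.mk_eq_mk_iff_isConj.1 h)
      rw [← hc, show c * a = a * c from (IsMulCommutative.is_comm (M := W₂)).comm c a, mul_inv_cancel_right]
    rw [← h2, ← h1]
    refine Nat.card_congr (Equiv.subtypeEquivRight fun θ => ?_)
    rw [Cfsg.Agent.Char.Glaub.inv_conjHom_iff K H hn]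
    constructor
    · intro h s hs g g' e
      rw [← congrFun (h s hs) g]
      exact congrArg (θ : K → ℂ) (Subtype.ext e)
    · intro h x hx
      funext k
      exact h x hx k _ rfl
  obtain ⟨x₀, hx₀⟩ := IsCyclic.exists_generator (α := W₁)
  have hx₀W : Subgroup.zpowers (x₀ : L) = W₁ := le_antisymm (Subgroup.zpowers_le.2 x₀.2) fun w hw => by
    obtain ⟨k, hk⟩ := hx₀ ⟨w, hw⟩
    exact ⟨k, congrArg Subtype.val hk⟩
  have hcz : ∀ x : L, Subgroup.centralizer (Subgroup.zpowers x : Set L) = Subgroup.centralizer {x} :=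
    fun x => by rw [Subgroup.zpowers_eq_closure, Subgroup.centralizer_closure]
  have hW1cnt : Nat.card {θ : IrrCharacter K // ∀ x ∈ W₁, (fun k : K =>
      (θ : K → ℂ) ⟨x * k * x⁻¹, hK.conj_mem (k : L) k.2 x⟩) = θ} = Nat.card W₂ := by
    refine hcnt W₁ le_rfl ?_
    rw [← hx₀W, hcz]
    refine hC _ x₀.2 fun e => hW₁ ?_
    rw [← hx₀W, e, Subgroup.zpowers_one_eq_bot]
  have hall : ∀ θ : IrrCharacter K, ∀ x ∈ W₁, x ≠ 1 →
      (fun k : K => (θ : K → ℂ) ⟨x * k * x⁻¹, hK.conj_mem (k : L) k.2 x⟩) = θ →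
      ∀ y ∈ W₁, (fun k : K => (θ : K → ℂ) ⟨y * k * y⁻¹, hK.conj_mem (k : L) k.2 y⟩) = θ := by
    intro θ x hx hx1 hfix
    set H := Subgroup.zpowers x
    have hHW : H ≤ W₁ := Subgroup.zpowers_le.2 hx
    have hH := hcnt H hHW (by rw [hcz]; exact hC x hx hx1)
    let ι : {θ : IrrCharacter K // ∀ x ∈ W₁, (fun k : K =>
        (θ : K → ℂ) ⟨x * k * x⁻¹, hK.conj_mem (k : L) k.2 x⟩) = θ} →
      {θ : IrrCharacter K // ∀ x ∈ H, (fun k : K =>
        (θ : K → ℂ) ⟨x * k * x⁻¹, hK.conj_mem (k : L) k.2 x⟩) = θ} :=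
      fun t => ⟨t.1, fun y hy => t.2 y (hHW hy)⟩
    have hι : Function.Injective ι := fun a b h => Subtype.ext (congrArg Subtype.val h :)
    have hsur := ((Nat.bijective_iff_injective_and_card ι).2 ⟨hι, hW1cnt.trans hH.symm⟩).2
    have hle : H ≤ Cfsg.Agent.Char.inertia K (θ : K → ℂ) := Subgroup.zpowers_le.2 hfix
    obtain ⟨t, ht⟩ := hsur ⟨θ, fun y hy => (hle hy :)⟩
    have ht' : t.1 = θ := congrArg Subtype.val ht
    exact ht' ▸ t.2
  refine ⟨fun θ hθ ⟨x, hx, hne⟩ => ?_, hW1cnt, fun θ hθ hinv => ?_⟩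
  · refine Cfsg.Agent.Char.indFun_irr_of_inertia_eq K hθ (le_antisymm (fun g hg => ?_)
      (Cfsg.Agent.Char.le_inertia K (Cfsg.Agent.Char.IsIrr.classFun hθ)))
    obtain ⟨k, hk, w, hw, rfl⟩ := hdec g
    have hw' : w ∈ Cfsg.Agent.Char.inertia K θ := by
      have := mul_mem (inv_mem (Cfsg.Agent.Char.le_inertia K (Cfsg.Agent.Char.IsIrr.classFun hθ) hk)) hg
      rwa [inv_mul_cancel_left] at this
    rcases eq_or_ne w 1 with rfl | hw1
    · rwa [mul_one]
    · exact absurd (hall ⟨θ, hθ⟩ w hw hw1 hw' x hx) hne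
  · have hI : Cfsg.Agent.Char.inertia K θ = ⊤ := by
      rw [eq_top_iff, ← hKW₁']
      exact sup_le (Cfsg.Agent.Char.le_inertia K (Cfsg.Agent.Char.IsIrr.classFun hθ))
        (fun w hw => hinv w hw)
    obtain ⟨a, ha, hdc⟩ := Cfsg.Agent.Char.IsChar.exists_decomp_inner
      (Cfsg.Agent.Char.isCharacter_indFun K (Cfsg.Agent.Char.IsIrr.isCharacter hθ))
    set S := Finset.univ.filter fun ψ : IrrCharacter L =>
      classInner (fun n : K => (ψ : L → ℂ) n) θ ≠ 0 with hS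
    have haS : ∀ ψ : IrrCharacter L, (a ψ : ℂ) = if ψ ∈ S then 1 else 0 := by
      intro ψ
      rw [← ha ψ, Cfsg.Agent.Char.classInner_indFun K θ (Cfsg.Agent.Char.IsIrr.classFun ψ.2),
        ← Cfsg.Agent.Char.classInner_conj_symm]
      by_cases h : classInner (fun n : K => (ψ : L → ℂ) n) θ = 0
      · rw [h, map_zero, if_neg (by simp [S, h])]
      · rw [Cfsg.Agent.Char.OverCyclic.mult_one hcyc hθ ψ.2 h, map_one, if_pos (by simp [S, h])]
    have hcard := Cfsg.Agent.Char.OverCyclic.card_over hcyc hθ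
    rw [hI, Subgroup.card_top, ← K.card_mul_index, hKidx] at hcard
    refine ⟨Finset.image (fun ψ : IrrCharacter L => (ψ : L → ℂ)) S, ?_, ?_, ?_⟩
    · rw [Finset.card_image_of_injective _ (fun a b h => Subtype.ext h)]
      exact Nat.eq_of_mul_eq_mul_left Nat.card_pos hcard
    · intro μ hμ
      obtain ⟨ψ, -, rfl⟩ := Finset.mem_image.1 hμ
      exact ψ.2
    · rw [hdc, Finset.sum_image (fun x _ y _ h => Subtype.ext h)]
      simp only [haS, ite_smul, one_smul, zero_smul, ← Finset.sum_filter, Finset.filter_mem_eq_inter,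
        Finset.univ_inter]

end Cfsg.Agent.S1513
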