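import Cfsg.Statements.S1510
import Cfsg.Agent.Lib.Char.CyclicW

set_option autoImplicit false
open Cfsg

namespace Cfsg.Agent.S1510

/-- Let L be a finite group with a normal subgroup K and a nontrivial cyclic subgroup W₁ of order coprime to its index, K ⊓ W₁ = ⊥ and K ⊔ W₁ = ⊤; let W₂ ≠ ⊥ be a cyclic subgroup of K with K ⊓ C_L(x) = W₂ for every non-identity x ∈ W₁, and suppose W₁ ⊔ W₂ has odd order. Then (W₁, W₂) is a self-normalising cyclic pair in L. -/
theorem result {L : Type*} [Group L] [Fintype L] (K W₁ W₂ : Subgroup L) [hK : K.Normal] (hKW₁ : K ⊓ W₁ = ⊥) (hKW₁' : K ⊔ W₁ = ⊤) (hW₁ : W₁ ≠ ⊥) (hW₁c : IsCyclic W₁) (hHall : Nat.Coprime (Nat.card W₁) W₁.index) (hW₂ : W₂ ≠ ⊥) (hW₂c : IsCyclic W₂) (hW₂K : W₂ ≤ K) (hC : ∀ x ∈ W₁, x ≠ 1 → K ⊓ Subgroup.centralizer ({x} : Set L) = W₂) (hodd : Odd (Nat.card ↥(W₁ ⊔ W₂))) : Cfsg.IsSelfNormalizingCyclic W₁ W₂ := by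
  classical
  haveI : Finite L := Finite.of_fintype L
  have hle : W₁ ⊓ W₂ = ⊥ := le_bot_iff.1 (fun x hx => hKW₁ ▸ ⟨hW₂K hx.2, hx.1⟩)
  have hC' : ∀ a ∈ W₁, a ≠ 1 → ∀ k, k ∈ W₂ ↔ k ∈ K ∧ Commute a k := by
    intro a ha h1 k
    rw [← hC a ha h1, Subgroup.mem_inf, Subgroup.mem_centralizer_singleton_iff]
    exact and_congr_right fun _ => ⟨fun h => h.symm, fun h => h.eq.symm⟩
  have hcomm : ∀ a ∈ W₁, ∀ b ∈ W₂, a * b = b * a := by
    intro a ha b hb
    rcases eq_or_ne a 1 with rfl | h1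
    · simp
    exact ((hC' a ha h1 b).1 hb).2.eq
  have hm₁ : IsMulCommutative W₁ := inferInstance
  have hm₂ : IsMulCommutative W₂ := inferInstance
  have hidx : W₁.index = Nat.card K := by
    exact (Subgroup.isComplement'_of_disjoint_and_mul_eq_univ (disjoint_iff.2 hKW₁) (by
      rw [← Subgroup.normal_mul, hKW₁']; rfl)).index_eq_card
  have hcop : Nat.Coprime (Nat.card W₁) (Nat.card W₂) :=
    Nat.Coprime.coprime_dvd_right (Subgroup.card_dvd_of_le hW₂K) (hidx ▸ hHall)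
  have habel : ∀ v w : ↥(W₁ ⊔ W₂), v * w = w * v := fun v w =>
    Cfsg.Agent.Char.CyclicW.sup_comm' W₁ W₂ hcomm v w hm₁ hm₂
  refine ⟨hW₁, hW₂, hle, hcomm, ?_, ?_⟩
  · let e : W₁ × W₂ →* ↥(W₁ ⊔ W₂) :=
      { toFun := fun p => ⟨(p.1 : L) * p.2,
          mul_mem (Subgroup.mem_sup_left p.1.2) (Subgroup.mem_sup_right p.2.2)⟩
        map_one' := Subtype.ext (by simp)
        map_mul' := fun p q => Subtype.ext (by
          have hc : Commute (q.1 : L) (p.2 : L) := hcomm _ q.1.2 _ p.2.2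
          simp only [Prod.fst_mul, Prod.snd_mul, Subgroup.coe_mul]
          exact hc.mul_mul_mul_comm _ _) }
    have he : Function.Surjective e := by
      intro w
      obtain ⟨a, ha, b, hb, hab⟩ := Cfsg.Agent.Char.CyclicW.exists_mul_eq W₁ W₂ hcomm w.2
      exact ⟨(⟨a, ha⟩, ⟨b, hb⟩), Subtype.ext hab⟩
    haveI : IsCyclic (W₁ × W₂) := (Group.isCyclic_prod_iff).2 ⟨hW₁c, hW₂c, hcop⟩
    exact isCyclic_of_surjective e he
  intro X hX hne
  refine le_antisymm (fun g hg => ?_) (fun w hw => ?_)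
  · obtain ⟨x, hx⟩ := hne
    obtain ⟨hxW, hxn⟩ := hX hx
    obtain ⟨a, ha, b, hb, hab⟩ := Cfsg.Agent.Char.CyclicW.exists_mul_eq W₁ W₂ hcomm hxW
    have ha1 : a ≠ 1 := fun e => hxn (Or.inr (by rw [← hab, e, one_mul]; exact hb))
    obtain ⟨hyW, -⟩ := hX ((Subgroup.mem_set_normalizer_iff.1 hg x).1 hx)
    obtain ⟨n, hn⟩ : ∃ n : ℕ, x ^ n = a := by
      obtain ⟨n, hn1, hn2⟩ := Nat.chineseRemainder hcop 1 0
      refine ⟨n, ?_⟩
      rw [← hab, (show Commute a b from hcomm a ha b hb).mul_pow]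
      have h1 : a ^ n = a := by
        conv_rhs => rw [← pow_one a]
        exact pow_eq_pow_iff_modEq.2 (hn1.of_dvd
          (orderOf_dvd_natCard (⟨a, ha⟩ : W₁) |> fun h => by simpa [Subgroup.orderOf_mk] using h))
      have h2 : b ^ n = 1 := by
        rw [← orderOf_dvd_iff_pow_eq_one]
        refine (Nat.modEq_zero_iff_dvd.1 (hn2.of_dvd ?_))
        simpa [Subgroup.orderOf_mk] using orderOf_dvd_natCard (⟨b, hb⟩ : W₂)
      rw [h1, h2, mul_one]
    have ha' : g * a * g⁻¹ ∈ W₁ ⊔ W₂ := by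
      rw [← hn, ← conj_pow]; exact pow_mem hyW n
    obtain ⟨c, hc, d, hd, hcd⟩ := Cfsg.Agent.Char.CyclicW.exists_mul_eq W₁ W₂ hcomm ha'
    have hd1 : d = 1 := by
      have hpow : (c * d) ^ Nat.card W₁ = 1 := by
        rw [hcd, conj_pow, show a ^ Nat.card W₁ = 1 from
          congrArg Subtype.val (pow_card_eq_one' (x := (⟨a, ha⟩ : W₁)))]
        group
      rw [(show Commute c d from hcomm c hc d hd).mul_pow,
        show c ^ Nat.card W₁ = 1 from congrArg Subtype.val (pow_card_eq_one' (x := (⟨c, hc⟩ : W₁))),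
        one_mul] at hpow
      have h2 : d ^ Nat.card W₂ = 1 :=
        congrArg Subtype.val (pow_card_eq_one' (x := (⟨d, hd⟩ : W₂)))
      have h3 : d ^ (Nat.card W₁).gcd (Nat.card W₂) = 1 := pow_gcd_eq_one.2 ⟨hpow, h2⟩
      rwa [hcop.gcd_eq_one, pow_one] at h3
    rw [hd1, mul_one] at hcd
    have hmem : g ∈ K ⊔ W₁ := hKW₁' ▸ Subgroup.mem_top g
    rw [← SetLike.mem_coe, Subgroup.normal_mul] at hmem
    obtain ⟨k, hk, w, hw, rfl⟩ := Set.mem_mul.1 hmem
    have haw : Commute w a := congrArg Subtype.val (hm₁.is_comm.comm ⟨w, hw⟩ ⟨a, ha⟩)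
    have e2 : k * a * k⁻¹ = c := by
      rw [hcd, mul_inv_rev]
      simp [mul_assoc, ← mul_assoc w a w⁻¹, haw.eq]
    have hca : c = a := by
      have hK' : k * a * k⁻¹ * a⁻¹ ∈ K := by
        rw [mul_assoc k a, mul_assoc k]
        exact mul_mem hk (by simpa [mul_assoc] using hK.conj_mem _ (inv_mem hk) a)
      rw [e2] at hK'
      have : c * a⁻¹ ∈ K ⊓ W₁ := Subgroup.mem_inf.2 ⟨hK', W₁.mul_mem hc (W₁.inv_mem ha)⟩
      rw [hKW₁, Subgroup.mem_bot, mul_inv_eq_one] at this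
      exact this
    rw [hca, mul_inv_eq_iff_eq_mul] at e2
    exact mul_mem (Subgroup.mem_sup_right ((hC' a ha ha1 k).2 ⟨hk, e2.symm⟩))
      (Subgroup.mem_sup_left hw)
  · refine Subgroup.mem_set_normalizer_iff.2 fun n => ?_
    have hc : ∀ m ∈ X, w * m = m * w := fun m hm =>
      congrArg Subtype.val (habel ⟨w, hw⟩ ⟨m, (hX hm).1⟩)
    constructor
    · intro hn
      rw [hc n hn, mul_inv_cancel_right]
      exact hn
    · intro hn
      have e := hc _ hn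
      have : n = w * n * w⁻¹ := by
        have e' : w * (w * n * w⁻¹) * w⁻¹ = w * n * w⁻¹ := by rw [e, mul_inv_cancel_right]
        have := congrArg (fun t => w⁻¹ * t * w) e'
        simpa [mul_assoc] using this.symm
      rw [this]; exact hn

end Cfsg.Agent.S1510
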