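import Cfsg.Statements.S1511
import Cfsg.Agent.Lib.Char.CyclicW
import Cfsg.Agent.Lib.Char.Exceptional
import Cfsg.Agent.S1510
import Cfsg.Agent.Lib.Char.Quotient

set_option autoImplicit false
open Cfsg

namespace Cfsg.Agent.S1511
open Cfsg.Agent.Char

/-- Let L be a finite group with K normal with complement W₁ ≠ 1 a cyclic Hall subgroup, and W₂ ≠ 1 a cyclic subgroup of K equal to C_K(x) for every non-identity x ∈ W₁, with W₁W₂ of odd order. Then there are a map μ from the linear characters of W = W₁ ⊔ W₂ to irreducible characters of L, injective, and a sign δ(ω) ∈ {1, −1} depending only on the values of ω on W₂, such that: for ω, ω' agreeing on W₂, the function induced to L from ω − ω' equals δ(ω) • (μ ω − μ ω'); μ ω x = δ(ω) ω x for x ∈ W outside W₂; every irreducible character of L not of the form μ ω vanishes on W outside W₂; and μ ω 1 − δ(ω) is an integer multiple of Nat.card W₁. -/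
theorem result {L : Type*} [Group L] [Fintype L] (K W₁ W₂ : Subgroup L) [hK : K.Normal] (hKW₁ : K ⊓ W₁ = ⊥) (hKW₁' : K ⊔ W₁ = ⊤) (hW₁ : W₁ ≠ ⊥) (hW₁c : IsCyclic W₁) (hHall : Nat.Coprime (Nat.card W₁) W₁.index) (hW₂ : W₂ ≠ ⊥) (hW₂c : IsCyclic W₂) (hW₂K : W₂ ≤ K) (hC : ∀ x ∈ W₁, x ≠ 1 → K ⊓ Subgroup.centralizer ({x} : Set L) = W₂) (hodd : Odd (Nat.card ↥(W₁ ⊔ W₂))) : ∃ (μ : (↥(W₁ ⊔ W₂) →* ℂˣ) → (L → ℂ)) (δ : (↥(W₁ ⊔ W₂) →* ℂˣ) → ℂ), Function.Injective μ ∧ (∀ ω, Cfsg.IsIrrCharacter L (μ ω)) ∧ (∀ ω, δ ω = 1 ∨ δ ω = -1) ∧ (∀ ω ω' : ↥(W₁ ⊔ W₂) →* ℂˣ, (∀ w : ↥(W₁ ⊔ W₂), (w : L) ∈ W₂ → ω w = ω' w) → δ ω = δ ω' ∧ Cfsg.indFun (W₁ ⊔ W₂) (fun w => (ω w : ℂ) - (ω' w : ℂ)) = δ ω • (μ ω - μ ω')) ∧ (∀ ω, ∀ w : ↥(W₁ ⊔ W₂), (w : L) ∉ W₂ → μ ω w = δ ω * (ω w : ℂ)) ∧ (∀ θ : L → ℂ, Cfsg.IsIrrCharacter L θ → (∀ ω, θ ≠ μ ω) → ∀ w : ↥(W₁ ⊔ W₂), (w : L) ∉ W₂ → θ w = 0) ∧ (∀ ω, ∃ n : ℤ, μ ω 1 - δ ω = n * (Nat.card W₁ : ℂ)) := by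
  classical
  obtain ⟨-, -, hle, hcomm, hWc, -⟩ := Cfsg.Agent.S1510.result K W₁ W₂ hKW₁ hKW₁' hW₁ hW₁c hHall hW₂ hW₂c hW₂K hC hodd
  letI : Fintype ↥(W₁ ⊔ W₂) := Fintype.ofFinite _
  haveI := hWc
  haveI := hW₁c
  haveI := hW₂c
  have hab : ∀ v w : ↥(W₁ ⊔ W₂), v * w = w * v := fun v w =>
    (IsMulCommutative.is_comm (M := ↥(W₁ ⊔ W₂))).comm v w
  have hm₁ : IsMulCommutative W₁ := inferInstance
  have hidx : W₁.index = Nat.card K :=
    (Subgroup.isComplement'_of_disjoint_and_mul_eq_univ (disjoint_iff.2 hKW₁) (by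
      rw [← Subgroup.normal_mul, hKW₁']; rfl)).index_eq_card
  have hcop : Nat.Coprime (Nat.card W₁) (Nat.card W₂) :=
    Nat.Coprime.coprime_dvd_right (Subgroup.card_dvd_of_le hW₂K) (hidx ▸ hHall)
  -- the conjugates of an element outside W₂ meet W only under W
  have hTI : ∀ g x : L, x ∈ W₁ ⊔ W₂ → x ∉ W₂ → g * x * g⁻¹ ∈ W₁ ⊔ W₂ → g ∈ W₁ ⊔ W₂ := by
    intro g x hx hx2 hgx
    obtain ⟨a, ha, b, hb, hab'⟩ := Cfsg.Agent.Char.CyclicW.exists_mul_eq W₁ W₂ hcomm hx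
    set a' := a ^ Nat.card W₂ with ha'def
    have ha' : a' ∈ W₁ := pow_mem ha _
    have hbpow : b ^ Nat.card W₂ = 1 := congrArg Subtype.val (pow_card_eq_one' (x := (⟨b, hb⟩ : W₂)))
    have hapow : a ^ Nat.card W₁ = 1 := congrArg Subtype.val (pow_card_eq_one' (x := (⟨a, ha⟩ : W₁)))
    have ha1 : a' ≠ 1 := fun h => hx2 (by
      have h3 : a ^ (Nat.card W₁).gcd (Nat.card W₂) = 1 := pow_gcd_eq_one.2 ⟨hapow, h⟩
      rw [hcop.gcd_eq_one, pow_one] at h3
      rw [← hab', h3, one_mul]; exact hb)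
    have hmem : g * a' * g⁻¹ ∈ W₁ ⊔ W₂ := by
      have : x ^ Nat.card W₂ = a' := by
        rw [← hab', (show Commute a b from hcomm a ha b hb).mul_pow, hbpow, mul_one]
      rw [← this, ← conj_pow]
      exact pow_mem hgx _
    obtain ⟨c, hc, d, hd, hcd⟩ := Cfsg.Agent.Char.CyclicW.exists_mul_eq W₁ W₂ hcomm hmem
    have hd1 : d = 1 := by
      have hpow : (c * d) ^ Nat.card W₁ = 1 := by
        rw [hcd, conj_pow, show a' ^ Nat.card W₁ = 1 from
          congrArg Subtype.val (pow_card_eq_one' (x := (⟨a', ha'⟩ : W₁)))]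
        group
      rw [(show Commute c d from hcomm c hc d hd).mul_pow,
        show c ^ Nat.card W₁ = 1 from congrArg Subtype.val (pow_card_eq_one' (x := (⟨c, hc⟩ : W₁))),
        one_mul] at hpow
      have h2 : d ^ Nat.card W₂ = 1 :=
        congrArg Subtype.val (pow_card_eq_one' (x := (⟨d, hd⟩ : W₂)))
      have h3 : d ^ (Nat.card W₁).gcd (Nat.card W₂) = 1 := pow_gcd_eq_one.2 ⟨hpow, h2⟩
      rwa [hcop.gcd_eq_one, pow_one] at h3
    rw [hd1, mul_one] at hcd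
    have hg : g ∈ K ⊔ W₁ := hKW₁' ▸ Subgroup.mem_top g
    rw [← SetLike.mem_coe, Subgroup.normal_mul] at hg
    obtain ⟨k, hk, w, hw, rfl⟩ := Set.mem_mul.1 hg
    have haw : Commute w a' := congrArg Subtype.val (hm₁.is_comm.comm ⟨w, hw⟩ ⟨a', ha'⟩)
    have e2 : k * a' * k⁻¹ = c := by
      rw [hcd, mul_inv_rev]
      simp [mul_assoc, ← mul_assoc w a' w⁻¹, haw.eq]
    have hca : c = a' := by
      have hK' : k * a' * k⁻¹ * a'⁻¹ ∈ K := by
        rw [mul_assoc k a', mul_assoc k]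
        exact mul_mem hk (by simpa [mul_assoc] using hK.conj_mem _ (inv_mem hk) a')
      rw [e2] at hK'
      have : c * a'⁻¹ ∈ K ⊓ W₁ := Subgroup.mem_inf.2 ⟨hK', W₁.mul_mem hc (W₁.inv_mem ha')⟩
      rw [hKW₁, Subgroup.mem_bot, mul_inv_eq_one] at this
      exact this
    rw [hca, mul_inv_eq_iff_eq_mul] at e2
    refine mul_mem (Subgroup.mem_sup_right ?_) (Subgroup.mem_sup_left hw)
    rw [← hC a' ha' ha1]
    exact ⟨hk, Subgroup.mem_centralizer_singleton_iff.2 e2⟩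
  -- induced functions keep their values outside W₂
  have hval : ∀ β : ↥(W₁ ⊔ W₂) → ℂ, ∀ s : ↥(W₁ ⊔ W₂), (s : L) ∉ W₂ → indFun (W₁ ⊔ W₂) β s = β s := by
    intro β s hs
    have hv : ∀ x : L, extendByZero (W₁ ⊔ W₂) β (x⁻¹ * s * x) = if x ∈ W₁ ⊔ W₂ then β s else 0 := by
      intro x
      split_ifs with hx
      · rw [extendByZero_of_mem β (mul_mem (mul_mem (inv_mem hx) s.2) hx)]
        refine congrArg β ?_
        calc (⟨x⁻¹ * s * x, mul_mem (mul_mem (inv_mem hx) s.2) hx⟩ : ↥(W₁ ⊔ W₂))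
            = ⟨x, hx⟩⁻¹ * s * ⟨x, hx⟩ := Subtype.ext rfl
          _ = s := by rw [mul_assoc, hab s, inv_mul_cancel_left]
      · exact extendByZero_not_mem β fun hm => hx (by
          simpa using inv_mem (hTI x⁻¹ s s.2 hs (by rwa [inv_inv])))
    simp only [indFun, hv]
    rw [← Finset.sum_filter, Finset.sum_const, nsmul_eq_mul, ← Fintype.card_subtype,
      ← Nat.card_eq_fintype_card, ← mul_assoc, inv_mul_cancel₀ (Nat.cast_ne_zero.2 Nat.card_pos.ne'),
      one_mul]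
  let f : (↥(W₁ ⊔ W₂) →* ℂˣ) → ↥(W₁ ⊔ W₂) → ℂ := fun l w => (l w : ℂ)
  have hf : Function.Injective f := fun a b h => MonoidHom.ext fun w => Units.ext (congrFun h w)
  have hfin : ∀ a b, classInner (f a) (f b) = if a = b then 1 else 0 := fun a b => by
    rw [classInner_irr_eq_ite (isIrr_linear a) (isIrr_linear b)]
    exact if_congr hf.eq_iff rfl rfl
  haveI : Finite (↥(W₁ ⊔ W₂) →* ℂˣ) :=
    Finite.of_injective (fun l => (⟨f l, isIrr_linear l⟩ : IrrCharacter ↥(W₁ ⊔ W₂)))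
      fun a b h => hf (congrArg Subtype.val h)
  let Rel : (↥(W₁ ⊔ W₂) →* ℂˣ) → (↥(W₁ ⊔ W₂) →* ℂˣ) → Prop :=
    fun ω ω' => ∀ w : ↥(W₁ ⊔ W₂), (w : L) ∈ W₂ → ω w = ω' w
  have hiso : ∀ a b c d, Rel a b →
      classInner (indFun (W₁ ⊔ W₂) (f a - f b)) (indFun (W₁ ⊔ W₂) (f c - f d)) =
        classInner (f a - f b) (f c - f d) := by
    intro a b c d h
    rw [classInner_indFun _ _ (indFun_classFun _ _)]
    simp only [classInner]
    congr 1
    refine Finset.sum_congr rfl fun x _ => ?_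
    by_cases hx : (x : L) ∈ W₂
    · simp [f, h x hx]
    · rw [hval _ x hx]
  let s : Setoid (↥(W₁ ⊔ W₂) →* ℂˣ) := ⟨Rel, fun _ _ _ => rfl, fun h w hw => (h w hw).symm,
    fun h h' w hw => (h w hw).trans (h' w hw)⟩
  have hfam : ∀ q : Quotient s, ∃ ε : ℂ, (ε = 1 ∨ ε = -1) ∧
      ∃ m : (↥(W₁ ⊔ W₂) →* ℂˣ) → L → ℂ, (∀ ω, Quotient.mk s ω = q → IsIrrCharacter L (m ω)) ∧
        (∀ ω ω', Quotient.mk s ω = q → Quotient.mk s ω' = q → m ω = m ω' → ω = ω') ∧
        ∀ ω ω', Quotient.mk s ω = q → Quotient.mk s ω' = q →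
          indFun (W₁ ⊔ W₂) (f ω - f ω') = ε • (m ω - m ω') := by
    intro q
    set T := {ω : ↥(W₁ ⊔ W₂) →* ℂˣ // Quotient.mk s ω = q}
    obtain ⟨n, ⟨e⟩⟩ := Finite.exists_equiv_fin T
    have hn : 2 ≤ n := by
      obtain ⟨a, ha1⟩ := Subgroup.ne_bot_iff_exists_ne_one.1 hW₁
      have haW : (a : L) ∉ W₂ := fun h => ha1 (Subtype.ext (Subgroup.mem_bot.1 (hle ▸ ⟨a.2, h⟩)))
      obtain ⟨φ, hφ, hφa⟩ := Cfsg.Agent.Char.CyclicW.exists_left W₁ W₂ hcomm hab
        (w := ⟨a, Subgroup.mem_sup_left a.2⟩) haW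
      obtain ⟨ω, hω⟩ := Quotient.exists_rep q
      have h2 : Quotient.mk s (φ * ω) = q := (Quotient.sound (s := s) (fun w hw => by
        rw [MonoidHom.mul_apply, hφ w hw, one_mul])).trans hω
      haveI : Nontrivial T := ⟨⟨ω, hω⟩, ⟨φ * ω, h2⟩, fun h => hφa (by
        have h3 : ω = φ * ω := congrArg Subtype.val h
        have h4 := DFunLike.congr_fun h3 ⟨a, Subgroup.mem_sup_left a.2⟩
        rw [MonoidHom.mul_apply] at h4
        exact mul_eq_right.1 h4.symm)⟩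
      have := Finite.one_lt_card (α := T)
      rw [Nat.card_congr e, Nat.card_fin] at this
      omega
    have hrel : ∀ i j : Fin n, Rel (e.symm i).1 (e.symm j).1 := fun i j =>
      Quotient.exact ((e.symm i).2.trans (e.symm j).2.symm)
    obtain ⟨ε, hε, θ, hθ, hθi, hdiff⟩ := Cfsg.Agent.Char.Exceptional.exists_family hn
      (fun i => indFun (W₁ ⊔ W₂) (f (e.symm i).1))
      (fun i j => IsGenChar.sub (IsGenChar.of_isCharacter (isCharacter_indFun _ (IsIrr.isCharacter (isIrr_linear _))))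
        (IsGenChar.of_isCharacter (isCharacter_indFun _ (IsIrr.isCharacter (isIrr_linear _)))))
      (fun i j => by simp [indFun_one_eq, f])
      (fun i j k l => by
        rw [← indFun_sub, ← indFun_sub, hiso _ _ _ _ (hrel i j),
          Cfsg.Agent.Char.Exceptional.classInner_sub_sub, hfin, hfin, hfin, hfin]
        simp only [Subtype.coe_inj, e.symm.injective.eq_iff])
    refine ⟨ε, hε, fun ω => if h : Quotient.mk s ω = q then θ (e ⟨ω, h⟩) else 0,
      fun ω h => by simp only [dif_pos h]; exact hθ _,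
      fun ω ω' h h' heq => by
        simp only [dif_pos h, dif_pos h'] at heq
        exact congrArg Subtype.val (e.injective (hθi heq)),
      fun ω ω' h h' => ?_⟩
    simp only [dif_pos h, dif_pos h']
    rw [indFun_sub, ← hdiff]
    simp only [Equiv.symm_apply_apply]
  choose ε hε m hm hminj hmd using hfam
  let μ : (↥(W₁ ⊔ W₂) →* ℂˣ) → L → ℂ := fun ω => m (Quotient.mk s ω) ω
  let δ : (↥(W₁ ⊔ W₂) →* ℂˣ) → ℂ := fun ω => ε (Quotient.mk s ω)
  have hμ : ∀ ω, IsIrrCharacter L (μ ω) := fun ω => hm _ ω rfl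
  have hδ : ∀ ω, δ ω = 1 ∨ δ ω = -1 := fun ω => hε _
  have hδr : ∀ ω, (starRingEnd ℂ) (δ ω) = δ ω := fun ω => by rcases hδ ω with h | h <;> simp [h]
  have hd : ∀ ω ω', Rel ω ω' →
      δ ω = δ ω' ∧ indFun (W₁ ⊔ W₂) (f ω - f ω') = δ ω • (μ ω - μ ω') := by
    intro ω ω' h
    have e : Quotient.mk s ω = Quotient.mk s ω' := Quotient.sound h
    refine ⟨congrArg ε e, ?_⟩
    have h1 := hmd (Quotient.mk s ω) ω ω' rfl e.symm
    show _ = ε _ • (m _ ω - m (Quotient.mk s ω') ω')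
    rw [← e]
    exact h1
  have hpartner : ∀ ω, ∃ ω', Rel ω ω' ∧ ω ≠ ω' := by
    intro ω
    obtain ⟨a, ha1⟩ := Subgroup.ne_bot_iff_exists_ne_one.1 hW₁
    have haW : (a : L) ∉ W₂ := fun h => ha1 (Subtype.ext (Subgroup.mem_bot.1 (hle ▸ ⟨a.2, h⟩)))
    obtain ⟨φ, hφ, hφa⟩ := Cfsg.Agent.Char.CyclicW.exists_left W₁ W₂ hcomm hab
      (w := ⟨a, Subgroup.mem_sup_left a.2⟩) haW
    refine ⟨φ * ω, fun w hw => by rw [MonoidHom.mul_apply, hφ w hw, one_mul], fun h => hφa ?_⟩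
    have h4 := DFunLike.congr_fun h ⟨a, Subgroup.mem_sup_left a.2⟩
    rw [MonoidHom.mul_apply] at h4
    exact mul_eq_right.1 h4.symm
  have hμin : ∀ a b, classInner (μ a) (μ b) = if μ a = μ b then 1 else 0 := fun a b =>
    classInner_irr_eq_ite (hμ a) (hμ b)
  have hinj : Function.Injective μ := by
    intro a b hab'
    by_contra hne
    have hnr : ¬ Rel a b := fun h => by
      have e : Quotient.mk s a = Quotient.mk s b := Quotient.sound h
      refine hne (hminj (Quotient.mk s a) a b rfl e.symm ?_)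
      show m (Quotient.mk s a) a = m (Quotient.mk s a) b
      conv_rhs => rw [e]
      exact hab'
    obtain ⟨a', ha', hane⟩ := hpartner a
    obtain ⟨b', hb', hbne⟩ := hpartner b
    have hdiff : ∀ x y, Rel x a → Rel y b → x ≠ y := fun x y hx hy e => hnr (by
      subst e; exact fun w hw => (hx w hw).symm.trans (hy w hw))
    have h0 := hiso a a' b b' ha'
    rw [(hd a a' ha').2, (hd b b' hb').2, classInner_smul_left, classInner_smul_right,
      Cfsg.Agent.Char.Exceptional.classInner_sub_sub, Cfsg.Agent.Char.Exceptional.classInner_sub_sub,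
      hfin, hfin, hfin, hfin, if_neg hne, if_neg (hdiff a b' (fun _ _ => rfl) (fun w hw => (hb' w hw).symm)),
      if_neg (hdiff a' b (fun w hw => (ha' w hw).symm) (fun _ _ => rfl)),
      if_neg (hdiff a' b' (fun w hw => (ha' w hw).symm) (fun w hw => (hb' w hw).symm)),
      hμin, hμin, hμin, hμin, if_pos hab'] at h0
    have h1 : μ a' ≠ μ a := fun e => by
      have e' : Quotient.mk s a = Quotient.mk s a' := Quotient.sound ha'
      exact hane (hminj (Quotient.mk s a) a a' rfl e'.symm (by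
        show m (Quotient.mk s a) a = m (Quotient.mk s a) a'
        conv_rhs => rw [e']
        exact e.symm))
    have h2 : μ b' ≠ μ b := fun e => by
      have e' : Quotient.mk s b = Quotient.mk s b' := Quotient.sound hb'
      exact hbne (hminj (Quotient.mk s b) b b' rfl e'.symm (by
        show m (Quotient.mk s b) b = m (Quotient.mk s b) b'
        conv_rhs => rw [e']
        exact e.symm))
    rw [if_neg (hab'.symm ▸ Ne.symm h2 : μ a ≠ μ b'), if_neg (hab' ▸ h1 : μ a' ≠ μ b)] at h0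
    rcases hδ a with e1 | e1 <;> rcases hδ b with e2 | e2 <;> rw [e1, e2] at h0 <;>
      split_ifs at h0 <;> norm_num at h0
  have hvan : ∀ h : ↥(W₁ ⊔ W₂) → ℂ,
      (∀ ω ω', Rel ω ω' → classInner (f ω) h = classInner (f ω') h) →
      ∀ w : ↥(W₁ ⊔ W₂), (w : L) ∉ W₂ → h w = 0 := by
    intro h hcoef w hw
    obtain ⟨φ, hφ, hφw⟩ := Cfsg.Agent.Char.CyclicW.exists_left W₁ W₂ hcomm hab hw
    have hcf : ∀ g : ↥(W₁ ⊔ W₂) → ℂ, IsClassFunction _ g := fun g x y => congrArg g (by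
      rw [hab y x, mul_inv_cancel_right])
    have e : (fun x => (φ x : ℂ) * h x) = h := by
      refine classFunction_ext (hcf _) (hcf _) fun ψ hψ => ?_
      obtain ⟨l, hl⟩ := linearHom_of_isCharacter (IsIrr.isCharacter hψ) (IsIrr.one_of_comm hab hψ)
      rw [hl]
      refine (starRingEnd ℂ).injective ?_
      rw [classInner_conj_symm, classInner_conj_symm]
      have hrel : Rel (φ⁻¹ * l) l := fun v hv => by
        rw [MonoidHom.mul_apply, MonoidHom.inv_apply, hφ v hv, inv_one, one_mul]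
      refine Eq.trans ?_ (hcoef _ _ hrel)
      simp only [classInner]
      congr 1
      refine Finset.sum_congr rfl fun x _ => ?_
      have hnorm : (φ x : ℂ) * (starRingEnd ℂ) (φ x : ℂ) = 1 := by
        have hfinord : IsOfFinOrder (φ x : ℂ) :=
          ((Units.coeHom ℂ).comp φ).isOfFinOrder (isOfFinOrder_of_finite x)
        rw [Complex.mul_conj, Complex.normSq_eq_norm_sq, hfinord.norm_eq_one]; simp
      have hne : (φ x : ℂ) ≠ 0 := (φ x).ne_zero
      simp only [f, MonoidHom.mul_apply, MonoidHom.inv_apply, Units.val_mul, Units.val_inv_eq_inv_val,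
        map_mul]
      field_simp
      linear_combination ((starRingEnd ℂ) (h x)) * hnorm
    have e' := congrFun e w
    have hne : (φ w : ℂ) ≠ 1 := fun h1 => hφw (Units.ext h1)
    by_contra hh
    exact hne (mul_left_eq_self₀.1 e' |>.resolve_right hh)
  have hcoefθ : ∀ (θ : L → ℂ), IsIrrCharacter L θ → ∀ ω ω', Rel ω ω' →
      classInner (f ω) (fun w : ↥(W₁ ⊔ W₂) => θ w) - classInner (f ω') (fun w : ↥(W₁ ⊔ W₂) => θ w) =
        δ ω * ((if μ ω = θ then 1 else 0) - if μ ω' = θ then 1 else 0) := by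
    intro θ hθ ω ω' h
    rw [← classInner_sub_left, ← classInner_indFun _ _ (IsIrr.classFun hθ), (hd ω ω' h).2,
      classInner_smul_left, classInner_sub_left, classInner_irr_eq_ite (hμ ω) hθ,
      classInner_irr_eq_ite (hμ ω') hθ]
  have hz : ∀ θ : L → ℂ, IsIrrCharacter L θ → (∀ ω, θ ≠ μ ω) →
      ∀ w : ↥(W₁ ⊔ W₂), (w : L) ∉ W₂ → θ w = 0 := fun θ hθ hne =>
    hvan (fun w => θ w) fun ω ω' h => sub_eq_zero.1 (by
      rw [hcoefθ θ hθ ω ω' h, if_neg (fun e => hne ω e.symm), if_neg (fun e => hne ω' e.symm),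
        sub_zero, mul_zero])
  have hμval : ∀ ω, ∀ w : ↥(W₁ ⊔ W₂), (w : L) ∉ W₂ → μ ω w = δ ω * (ω w : ℂ) := by
    intro ω₀ w hw
    refine sub_eq_zero.1 (hvan (fun w => μ ω₀ w - δ ω₀ * (ω₀ w : ℂ)) (fun ω ω' h => ?_) w hw)
    have e1 : (fun w : ↥(W₁ ⊔ W₂) => μ ω₀ w - δ ω₀ * (ω₀ w : ℂ)) =
        (fun w : ↥(W₁ ⊔ W₂) => μ ω₀ w) - δ ω₀ • f ω₀ := rfl
    rw [e1, classInner_sub_right, classInner_sub_right, classInner_smul_right, classInner_smul_right,
      hfin, hfin, hδr, sub_eq_sub_iff_sub_eq_sub, hcoefθ _ (hμ ω₀) ω ω' h]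
    simp only [hinj.eq_iff]
    by_cases h1 : ω = ω₀
    · subst h1; ring
    · by_cases h2 : ω' = ω₀
      · subst h2; rw [(hd ω ω' h).1]; ring
      · simp [h1, h2]
  refine ⟨μ, δ, hinj, hμ, hδ, fun ω ω' h => ⟨(hd ω ω' h).1, (hd ω ω' h).2⟩, hμval, hz, fun ω => ?_⟩
  letI : Fintype W₁ := Fintype.ofFinite _
  let l : W₁ →* ℂˣ := ω.comp (Subgroup.inclusion le_sup_left)
  let g : W₁ → ℂ := (fun a : W₁ => μ ω a) - δ ω • fun a : W₁ => (l a : ℂ)
  have hg : IsGeneralizedCharacter W₁ g := by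
    refine IsGenChar.sub (IsGenChar.of_isCharacter (IsChar.comp W₁.subtype (IsIrr.isCharacter (hμ ω)))) ?_
    rcases hδ ω with h | h <;> rw [h]
    · rw [one_smul]; exact IsGenChar.of_isCharacter (IsIrr.isCharacter (isIrr_linear l))
    · rw [neg_one_smul]; exact IsGenChar.neg (IsGenChar.of_isCharacter (IsIrr.isCharacter (isIrr_linear l)))
  obtain ⟨n, hn⟩ := IsGenChar.classInner_int hg (IsGenChar.of_isCharacter (IsIrr.isCharacter (isIrr_one (G := W₁))))
  refine ⟨n, ?_⟩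
  have hg1 : g 1 = μ ω 1 - δ ω := by simp [g, l]
  rw [classInner, Finset.sum_eq_single (1 : W₁)] at hn
  · rw [← hg1, ← hn]
    have h0 : (Nat.card W₁ : ℂ) ≠ 0 := Nat.cast_ne_zero.2 Nat.card_pos.ne'
    simp only [map_one, mul_one]
    field_simp
  · intro a _ ha
    have haW : (a : L) ∉ W₂ := fun h => ha (Subtype.ext (Subgroup.mem_bot.1 (hle ▸ ⟨a.2, h⟩)))
    have : g a = 0 := by
      show μ ω a - δ ω * (l a : ℂ) = 0
      rw [sub_eq_zero]
      exact hμval ω ⟨a, Subgroup.mem_sup_left a.2⟩ haW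
    rw [this, zero_mul]
  · simp

end Cfsg.Agent.S1511
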