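import Cfsg.Statements.S1509
import Cfsg.Agent.Lib.Char.Complete

set_option autoImplicit false
open Cfsg

namespace Cfsg.Agent.S1509

open Cfsg.Agent.Char

/-- Let α, β, γ, δ be functions on a finite group X each of which is an irreducible character or the negative of one, and u, v nonzero real numbers. Suppose ⟨α, β⟩ = ⟨γ, δ⟩ = 0, ⟨α − β, uγ − vδ⟩ = 0, α 1 = β 1 and u γ 1 = v δ 1. Then also ⟨α, γ⟩ = ⟨α, δ⟩ = ⟨β, γ⟩ = ⟨β, δ⟩ = 0. -/
theorem result {X : Type*} [Group X] [Fintype X] (α β γ δ : X → ℂ) (hα : Cfsg.IsIrrCharacter X α ∨ Cfsg.IsIrrCharacter X (-α)) (hβ : Cfsg.IsIrrCharacter X β ∨ Cfsg.IsIrrCharacter X (-β)) (hγ : Cfsg.IsIrrCharacter X γ ∨ Cfsg.IsIrrCharacter X (-γ)) (hδ : Cfsg.IsIrrCharacter X δ ∨ Cfsg.IsIrrCharacter X (-δ)) (u v : ℝ) (hu : u ≠ 0) (hv : v ≠ 0) (hab : Cfsg.classInner α β = 0) (hcd : Cfsg.classInner γ δ = 0) (hmix : Cfsg.classInner (α - β) ((u : ℂ) • γ - (v : ℂ) • δ) = 0) (h1 : α 1 = β 1) (h2 : (u :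 ℂ) * γ 1 = (v : ℂ) * δ 1) : Cfsg.classInner α γ = 0 ∧ Cfsg.classInner α δ = 0 ∧ Cfsg.classInner β γ = 0 ∧ Cfsg.classInner β δ = 0 := by
  classical
  obtain ⟨a, A, hA, ea, rfl⟩ : ∃ (a : ℂ) (A : X → ℂ), IsIrrCharacter X A ∧ (a = 1 ∨ a = -1) ∧ α = a • A := by
    rcases hα with h | h
    exacts [⟨1, α, h, .inl rfl, by simp⟩, ⟨-1, -α, h, .inr rfl, by simp⟩]
  obtain ⟨b, B, hB, eb, rfl⟩ : ∃ (a : ℂ) (A : X → ℂ), IsIrrCharacter X A ∧ (a = 1 ∨ a = -1) ∧ β = a • A := by
    rcases hβ with h | h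
    exacts [⟨1, β, h, .inl rfl, by simp⟩, ⟨-1, -β, h, .inr rfl, by simp⟩]
  obtain ⟨c, C', hC, ec, rfl⟩ : ∃ (a : ℂ) (A : X → ℂ), IsIrrCharacter X A ∧ (a = 1 ∨ a = -1) ∧ γ = a • A := by
    rcases hγ with h | h
    exacts [⟨1, γ, h, .inl rfl, by simp⟩, ⟨-1, -γ, h, .inr rfl, by simp⟩]
  obtain ⟨d, D, hD, ed, rfl⟩ : ∃ (a : ℂ) (A : X → ℂ), IsIrrCharacter X A ∧ (a = 1 ∨ a = -1) ∧ δ = a • A := by
    rcases hδ with h | h
    exacts [⟨1, δ, h, .inl rfl, by simp⟩, ⟨-1, -δ, h, .inr rfl, by simp⟩]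
  obtain ⟨nA, hnA, hA1⟩ := IsIrr.one_eq_pos hA
  obtain ⟨nB, hnB, hB1⟩ := IsIrr.one_eq_pos hB
  obtain ⟨nC, hnC, hC1⟩ := IsIrr.one_eq_pos hC
  obtain ⟨nD, hnD, hD1⟩ := IsIrr.one_eq_pos hD
  have ca : (starRingEnd ℂ) a = a := by rcases ea with rfl | rfl <;> simp
  have cb : (starRingEnd ℂ) b = b := by rcases eb with rfl | rfl <;> simp
  have cc : (starRingEnd ℂ) c = c := by rcases ec with rfl | rfl <;> simp
  have cd : (starRingEnd ℂ) d = d := by rcases ed with rfl | rfl <;> simp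
  have a0 : a ≠ 0 := by rcases ea with rfl | rfl <;> simp
  have b0 : b ≠ 0 := by rcases eb with rfl | rfl <;> simp
  have c0 : c ≠ 0 := by rcases ec with rfl | rfl <;> simp
  have d0 : d ≠ 0 := by rcases ed with rfl | rfl <;> simp
  simp only [classInner_smul_left, classInner_smul_right, cc, cb, cd, classInner_sub_left, classInner_sub_right,
    classInner_irr_eq_ite hA hB, classInner_irr_eq_ite hC hD, Complex.conj_ofReal,
    classInner_irr_eq_ite hA hC, classInner_irr_eq_ite hA hD, classInner_irr_eq_ite hB hC,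
    classInner_irr_eq_ite hB hD] at hab hcd hmix ⊢
  simp only [Pi.smul_apply, smul_eq_mul, hA1, hB1, hC1, hD1] at h1 h2
  have AB : A ≠ B := fun h => by simp [h, a0, b0] at hab
  have CD : C' ≠ D := fun h => by simp [h, c0, d0] at hcd
  have hu' : (u : ℂ) ≠ 0 := Complex.ofReal_ne_zero.mpr hu
  have hv' : (v : ℂ) ≠ 0 := Complex.ofReal_ne_zero.mpr hv
  have nA0 : (nA : ℂ) ≠ 0 := Nat.cast_ne_zero.mpr hnA.ne'
  have nB0 : (nB : ℂ) ≠ 0 := Nat.cast_ne_zero.mpr hnB.ne'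
  have nC0 : (nC : ℂ) ≠ 0 := Nat.cast_ne_zero.mpr hnC.ne'
  have nD0 : (nD : ℂ) ≠ 0 := Nat.cast_ne_zero.mpr hnD.ne'
  have AC : A ≠ C' := by
    intro h
    have h3 : A ≠ D := h ▸ CD
    have h4 : B ≠ C' := fun e => AB (h.trans e.symm)
    rw [if_pos h, if_neg h3, if_neg h4] at hmix
    by_cases h5 : B = D
    · rw [if_pos h5] at hmix
      have eN : nA = nC := Nat.cast_injective (R := ℂ) (by rw [← hA1, ← hC1, h])
      have eM : nB = nD := Nat.cast_injective (R := ℂ) (by rw [← hB1, ← hD1, h5])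
      subst eN eM
      have h6 : a * (u * c) + b * (v * d) = 0 := by linear_combination hmix
      have h7 : (u : ℂ) * c * nA = v * d * nB := by linear_combination h2
      have a2 : a * a = 1 := by rcases ea with e | e <;> simp [e]
      have b2 : b * b = 1 := by rcases eb with e | e <;> simp [e]
      have : (2 : ℂ) * a * (v * d) * nB = 0 := by
        linear_combination (nA : ℂ) * h6 - a * h7 - (a * b * v * d) * h1
          - (a * v * d * nB) * b2 + (b * v * d * nA) * a2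
      simp [a0, hv', d0, nB0] at this
    · rw [if_neg h5] at hmix
      simp [a0, c0, hu'] at hmix
  have AD : A ≠ D := by
    intro h
    have h4 : B ≠ D := fun e => AB (h.trans e.symm)
    rw [if_neg AC, if_pos h, if_neg h4] at hmix
    by_cases h5 : B = C'
    · rw [if_pos h5] at hmix
      have eN : nA = nD := Nat.cast_injective (R := ℂ) (by rw [← hA1, ← hD1, h])
      have eM : nB = nC := Nat.cast_injective (R := ℂ) (by rw [← hB1, ← hC1, h5])
      subst eN eM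
      have h6 : a * (v * d) + b * (u * c) = 0 := by linear_combination -hmix
      have h7 : (u : ℂ) * c * nB = v * d * nA := by linear_combination h2
      have a2 : a * a = 1 := by rcases ea with e | e <;> simp [e]
      have b2 : b * b = 1 := by rcases eb with e | e <;> simp [e]
      have : (2 : ℂ) * a * (u * c) * nB = 0 := by
        linear_combination (nA : ℂ) * h6 + a * h7 - (a * b * u * c) * h1
          - (a * u * c * nB) * b2 + (b * u * c * nA) * a2
      simp [a0, hu', c0, nB0] at this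
    · rw [if_neg h5] at hmix
      simp [a0, d0, hv'] at hmix
  rw [if_neg AC, if_neg AD] at hmix ⊢
  by_cases h5 : B = C'
  · rw [if_pos h5, if_neg (h5 ▸ CD : B ≠ D)] at hmix
    simp [b0, c0, hu'] at hmix
  by_cases h6 : B = D
  · rw [if_pos h6, if_neg h5] at hmix
    simp [b0, d0, hv'] at hmix
  simp [h5, h6]

end Cfsg.Agent.S1509
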