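import Cfsg.Statements.S1472
import Cfsg.Agent.Lib.Transfer.AppendixC

set_option maxHeartbeats 1000000
set_option maxRecDepth 8000

set_option autoImplicit false
open Cfsg

namespace Cfsg.Agent.S1472

/-- Let p, q be primes with (p^q − 1)/(p − 1) coprime to p − 1, G a finite group, F a field with p ^ q elements, and P, U, Q subgroups of G with: f : G → F bijective from P onto F and additive on P; U normalizing P and acting through ψ : G → F, injective and multiplicative on U with ψ(u) ≠ 0 and f(uxu⁻¹) = ψ(u) f(x); #U · (p − 1) = p^q − 1; Q abelian of order coprime to p, normalized by every x ∈ P with f(x) in the prime field; and some y ∈ Q such that y x y⁻¹ normalizes U for every such x. Then p ≤ q. -/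
theorem result {G : Type*} [Group G] [Finite G] (p q : ℕ) [Fact p.Prime] [Fact q.Prime] (hA : Nat.Coprime ((p ^ q - 1) / (p - 1)) (p - 1))
    (F : Type*) [Field F] [Fintype F] (hF : Fintype.card F = p ^ q) (P U Q : Subgroup G) (f ψ : G → F)
    (hf : Set.BijOn f (P : Set G) Set.univ) (hfadd : ∀ x ∈ P, ∀ z ∈ P, f (x * z) = f x + f z)
    (hUP : U ≤ Subgroup.normalizer (P : Set G)) (hψ : ∀ u ∈ U, ψ u ≠ 0 ∧ ∀ x ∈ P, f (u * x * u⁻¹) = ψ u * f x)
    (hψmul : ∀ u ∈ U, ∀ v ∈ U, ψ (u * v) = ψ u * ψ v) (hψinj : Set.InjOn ψ (U : Set G)) (hUcard : Nat.card U * (p - 1) = p ^ q - 1)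
    (hQ : IsMulCommutative Q) (hQp : (Nat.card Q).Coprime p) (hP0Q : ∀ x ∈ P, f x ^ p = f x → x ∈ Subgroup.normalizer (Q : Set G))
    (y : G) (hy : y ∈ Q) (hP0U : ∀ x ∈ P, f x ^ p = f x → y * x * y⁻¹ ∈ Subgroup.normalizer (U : Set G)) :
    p ≤ q := by
  classical
  have hp : p.Prime := Fact.out
  have hq : q.Prime := Fact.out
  by_contra hlt
  push Not at hlt
  have hp2 : p ≠ 2 := fun h => by have := hq.two_le; omega
  have hq2 : q ≠ 2 := by
    intro h
    subst h
    rw [show (p ^ 2 - 1) / (p - 1) = p + 1 by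
      rw [Cfsg.Agent.Transfer.NormOne.div_eq_geom hp.two_le]; simp [Finset.sum_range_succ]; omega] at hA
    obtain ⟨j, hj⟩ := hp.odd_of_ne_two hp2
    have h2 : 2 ∣ Nat.gcd (p + 1) (p - 1) := Nat.dvd_gcd ⟨j + 1, by omega⟩ ⟨j, by omega⟩
    rw [hA] at h2
    omega
  exact Cfsg.Agent.Transfer.AppendixC.Config.contradiction
    (C := ⟨P, U, Q, f, ψ, y, hf, hfadd, hUP, hψ, hψmul, hψinj, hUcard, hQ, hQp, hP0Q, hy, hP0U⟩)
    ⟨hF, hA, hp2, hlt⟩ hq2

end Cfsg.Agent.S1472
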