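import Cfsg.Statements.S1376
import Cfsg.Agent.Lib.Transfer.Local.SupportKappa

set_option maxHeartbeats 1000000
set_option maxRecDepth 8000

set_option autoImplicit false
open Cfsg

namespace Cfsg.Agent.S1376

open Cfsg.Agent Cfsg.Agent.Transfer Cfsg.Agent.Transfer.Loc Subgroup
open scoped Pointwise


/-- Let G be a minimal simple group of odd order, M a maximal subgroup, x ≠ 1 in M_σ with C_G(x) not contained in M, and N a maximal subgroup containing C_G(x) with κ(N) nonempty. Then κ(M) is empty, M has a cyclic Frobenius complement (M is a Frobenius group), and M_F is not a TI-subset of G. -/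
theorem result {G : Type*} [Group G] [Finite G] (hG : Cfsg.IsMinSimpleOddOrder G)
    (M : Subgroup G) (hM : IsCoatom M) (x : G) (hx : x ∈ Cfsg.sigmaCore M) (hx1 : x ≠ 1) (hxM : ¬ Subgroup.centralizer ({x} : Set G) ≤ M)
    (N : Subgroup G) (hN : IsCoatom N) (hxN : Subgroup.centralizer ({x} : Set G) ≤ N) (hkN : (Cfsg.kappa N).Nonempty) :
    Cfsg.kappa M = ∅ ∧ (∃ E : Subgroup ↥M, Cfsg.IsFrobeniusComplement E ∧ IsCyclic E) ∧ ¬ Cfsg.IsTISubset (Cfsg.fittingHallOf M : Set G) := by

  obtain ⟨hκ, hτ, E, hE, hab⟩ := support_frobenius hG hM hx hx1 hxM hN hxN hkN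
  haveI := solvable_of_ne_top hG hM.1
  set S := Cfsg.sigmaCore M with hS
  have hSM : S ≤ M := TransHyp.piCoreOf_le M
  have hMS : M ≤ normalizer (S : Set G) := TransHyp.le_normalizer_piCoreOf M
  have hnotτ : ∀ s : ℕ, s ∉ Cfsg.tau2 M := fun s h => Set.notMem_empty s (hτ ▸ h)
  have hrk : ∀ s : ℕ, ∀ [Fact s.Prime], s ∣ Nat.card E → Cfsg.PRankLE s 1 M := fun s hs hd =>
    rank_one_of_not_tau2 hG hM (compl_prime hG hM hE hs.out hd) (hnotτ s)
  have hfree : ∀ e ∈ E, e ≠ 1 → S ⊓ centralizer ({e} : Set G) = ⊥ := by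
    intro e he he1
    obtain ⟨s, _, z, hz, hzo, hzc, -⟩ := exists_prime_zpowers_le he1
    have hd : s ∣ Nat.card E := hzo ▸ Subgroup.orderOf_dvd_natCard _ ((zpowers_le.2 he) hz)
    by_contra hne
    refine Set.notMem_empty s (hκ ▸ kappa_of_fixed hG hM (compl_prime hG hM hE Fact.out hd) (hrk s hd)
      (zpowers_le.2 (hE.1 ((zpowers_le.2 he) hz))) hzc (ne_bot_of_le_ne_bot hne ?_))
    exact inf_le_inf_left _ ((centralizer_zpowers_eq e).ge.trans (centralizer_le (zpowers_le.2 hz)))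
  refine ⟨hκ, ⟨E.subgroupOf M, ⟨?_, ?_, fun g hg => ?_⟩, ?_⟩, fun hTI => ?_⟩
  · intro h
    have h0 : E = ⊥ := by rw [← map_subgroupOf_eq_of_le hE.1, h, Subgroup.map_bot]
    have h1 := compl_sup hE
    rw [h0, bot_sup_eq] at h1
    exact (sigmaCore_lt hG hM).ne h1
  · intro h
    have h0 : M ≤ E := Subgroup.subgroupOf_eq_top.1 h
    exact sigmaCore_ne_bot hG hM (le_bot_iff.1 ((le_inf (hSM.trans h0) le_rfl).trans hE.2.2.1.le))
  · rw [eq_bot_iff]
    rintro a ⟨ha, b, hb, hba⟩
    rw [mem_bot]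
    by_contra ha1
    refine hg ?_
    obtain ⟨e, he, s, hs, hge⟩ := hE.2.2.2 g g.2
    have hba' : (g : G) * b * (g : G)⁻¹ = a := by rw [← hba]; simp
    set c : G := e⁻¹ * a * e
    have hc : c ∈ E := E.mul_mem (E.mul_mem (E.inv_mem he) ha) he
    have hsb : s * (b : G) * s⁻¹ = c := by
      rw [show c = e⁻¹ * a * e from rfl, ← hba', hge]; group
    have h1 : c * (b : G)⁻¹ ∈ E ⊓ S := ⟨E.mul_mem hc (E.inv_mem hb), by
      rw [← hsb, show s * (b : G) * s⁻¹ * (b : G)⁻¹ = s * ((b : G) * s⁻¹ * (b : G)⁻¹) by group]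
      exact S.mul_mem hs (Grp.mem_conj_normalizer (hMS (hE.1 hb)) (S.inv_mem hs))⟩
    rw [hE.2.2.1, mem_bot, mul_inv_eq_one] at h1
    have hb1 : (b : G) ≠ 1 := fun e' => ha1 (Subtype.ext (by rw [← hba', e']; simp))
    have h2 : s ∈ S ⊓ centralizer ({(b : G)} : Set G) := ⟨hs, mem_centralizer_singleton_iff.2 (by
      rw [h1, mul_inv_eq_iff_eq_mul] at hsb
      exact hsb)⟩
    rw [hfree b hb hb1, mem_bot] at h2
    show (g : G) ∈ E
    rw [hge, h2, mul_one]
    exact he
  · haveI : Group.IsNilpotent E := isNilpotent_of_comm hab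
    haveI : IsZGroup E := ⟨fun s hs P => by
      haveI := Fact.mk hs
      set T := (P : Subgroup E).map E.subtype with hT
      haveI : IsCyclic T := by
        rcases eq_or_ne T ⊥ with h0 | h0
        · rw [h0]; infer_instance
        exact cyclic_of_rank_one hG (P.isPGroup'.map _) ((map_subtype_le _).trans hE.1)
          (hrk s ((dvd_card_of_pGroup (P.isPGroup'.map _) h0).trans (card_dvd_of_le (map_subtype_le _))))
      exact isCyclic_of_surjective _
        ((P : Subgroup E).equivMapOfInjective E.subtype E.subtype_injective).symm.surjective⟩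
    haveI : IsCyclic E := inferInstance
    exact isCyclic_of_surjective _ (Subgroup.subgroupOfEquivOfLe hE.1).symm.surjective
  · have hnil := sigmaCore_nilpotent_of_kappa_empty hG hM hκ
    rw [fittingHallOf_eq_sigmaCore hG hM hnil] at hTI
    obtain ⟨g, hgC, hgM⟩ := SetLike.not_le_iff_exists.1 hxM
    have hgx : g * x * g⁻¹ = x := by rw [mem_centralizer_singleton_iff.1 hgC, mul_inv_cancel_right]
    refine hx1 (hTI g (fun h => hgM ?_) x hx (hgx.symm ▸ hx))
    have h2 : normalizer (S : Set G) ≠ ⊤ := TransHyp.normalizer_ne_top hG (sigmaCore_ne_bot hG hM)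
      fun e => hM.1 (top_le_iff.1 (e ▸ hSM))
    rcases hM.le_iff.1 hMS with e | e
    · exact absurd e h2
    · exact e ▸ h

end Cfsg.Agent.S1376
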