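import Cfsg.Statements.S1494
import Cfsg.Agent.Lib.Char.Constituent
-- import your own Cfsg.Agent.* helpers here

set_option autoImplicit false
open Cfsg

namespace Cfsg.Agent.S1494

/-- Let χ be a generalized character of the finite group G, p a prime, x an element of order p and y an element commuting with x. Then χ(x * y) − χ(y) = (1 − ε) * ω for some algebraic integer ω, where ε = exp(2πi/p). -/
theorem result {G : Type*} [Group G] [Finite G] (χ : G → ℂ) (hχ : Cfsg.IsGeneralizedCharacter G χ) (p : ℕ) (hp : p.Prime) (x y : G) (hx : orderOf x = p) (hxy : x * y = y * x) : ∃ ω : ℂ, IsIntegral ℤ ω ∧ χ (x * y) - χ y = (1 - Complex.exp (2 * Real.pi * Complex.I / p)) * ω := by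
  classical
  cases nonempty_fintype G
  have hxy' : Commute x y := hxy
  set H := Subgroup.closure ({x, y} : Set G) with hH
  haveI : Fintype H := Fintype.ofFinite H
  have hx' : x ∈ H := Subgroup.subset_closure (by simp)
  have hy' : y ∈ H := Subgroup.subset_closure (by simp)
  have hcomm : ∀ a b : H, a * b = b * a := by
    haveI : IsMulCommutative H := Subgroup.isMulCommutative_closure (by
      intro a ha b hb
      simp only [Set.mem_insert_iff, Set.mem_singleton_iff] at ha hb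
      rcases ha with rfl | rfl <;> rcases hb with rfl | rfl
      · rfl
      · exact hxy
      · exact hxy.symm
      · rfl)
    exact fun a b => mul_comm' a b
  set ε := Complex.exp (2 * Real.pi * Complex.I / p) with hε
  have hprim : IsPrimitiveRoot ε p := Complex.isPrimitiveRoot_exp p hp.ne_zero
  have hεint : IsIntegral ℤ ε := hprim.isIntegral hp.pos
  obtain ⟨χ₁, χ₂, h₁, h₂, rfl⟩ := hχ
  suffices h : ∀ ψ : G → ℂ, Cfsg.IsCharacter G ψ → ∃ ω : ℂ, IsIntegral ℤ ω ∧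
      ψ (x * y) - ψ y = (1 - ε) * ω by
    obtain ⟨ω₁, hi₁, he₁⟩ := h χ₁ h₁
    obtain ⟨ω₂, hi₂, he₂⟩ := h χ₂ h₂
    refine ⟨ω₁ - ω₂, hi₁.sub hi₂, ?_⟩
    simp only [Pi.sub_apply]
    linear_combination he₁ - he₂
  intro ψ hψ
  obtain ⟨a, ha⟩ := Cfsg.Agent.Char.IsChar.exists_decomp (Cfsg.Agent.Char.IsChar.res hψ H)
  have hl : ∀ φ : Cfsg.IrrCharacter H, ∃ ω : ℂ, IsIntegral ℤ ω ∧
      (φ : H → ℂ) (⟨x, hx'⟩ * ⟨y, hy'⟩) - (φ : H → ℂ) ⟨y, hy'⟩ = (1 - ε) * ω := by
    intro φ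
    obtain ⟨l, hl⟩ := Cfsg.Agent.Char.linearHom_of_isCharacter
      (Cfsg.Agent.Char.IsIrr.isCharacter φ.2) (Cfsg.Agent.Char.IsIrr.one_of_comm hcomm φ.2)
    have h1 : (l ⟨x, hx'⟩ : ℂ) ^ p = 1 := by
      rw [← Units.val_pow_eq_pow_val, ← map_pow]
      rw [show (⟨x, hx'⟩ : H) ^ p = 1 from Subtype.ext (by
        rw [SubmonoidClass.coe_pow, ← hx, pow_orderOf_eq_one]; rfl), map_one, Units.val_one]
    haveI : NeZero p := ⟨hp.ne_zero⟩
    obtain ⟨i, -, hi⟩ := hprim.eq_pow_of_pow_eq_one h1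
    refine ⟨-((∑ j ∈ Finset.range i, ε ^ j) * (l ⟨y, hy'⟩ : ℂ)), ((IsIntegral.sum _ fun j _ =>
      hεint.pow j).mul ?_).neg, ?_⟩
    · exact Cfsg.Agent.Char.isIntegral_of_pow_eq_one (orderOf_pos (⟨y, hy'⟩ : H))
        (by rw [← Units.val_pow_eq_pow_val, ← map_pow, pow_orderOf_eq_one, map_one, Units.val_one])
    · rw [hl]
      simp only [map_mul, Units.val_mul]
      rw [← hi]
      linear_combination (l ⟨y, hy'⟩ : ℂ) * (mul_neg_geom_sum ε i)
  choose ω hω he using hl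
  refine ⟨∑ φ : Cfsg.IrrCharacter H, (a φ : ℂ) * ω φ, IsIntegral.sum _ fun φ _ =>
    (by simpa using isIntegral_algebraMap (R := ℤ) (A := ℂ) (x := (a φ : ℤ)) : IsIntegral ℤ (a φ : ℂ)).mul (hω φ), ?_⟩
  have e1 := congrFun ha (⟨x, hx'⟩ * ⟨y, hy'⟩)
  have e2 := congrFun ha ⟨y, hy'⟩
  rw [Cfsg.Agent.Char.sum_irr_apply] at e1 e2
  calc ψ (x * y) - ψ y = _ := congrArg₂ (fun u v : ℂ => u - v) e1 e2
    _ = _ := by
      rw [Finset.mul_sum, ← Finset.sum_sub_distrib]
      refine Finset.sum_congr rfl fun φ _ => ?_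
      rw [← mul_sub, he φ]
      ring

end Cfsg.Agent.S1494
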