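import Cfsg.Statements.S1495
import Cfsg.Agent.Lib.Char.Galois

set_option autoImplicit false
open Cfsg

namespace Cfsg.Agent.S1495

open Cfsg.Agent.Char

/-- Let p be a prime, ε = exp(2πi/p), and n an integer such that n = (1 − ε) * ω for some algebraic integer ω. Then p divides n. -/
theorem result (p : ℕ) (hp : p.Prime) (n : ℤ) (ω : ℂ) (hω : IsIntegral ℤ ω) (h : (n : ℂ) = (1 - Complex.exp (2 * Real.pi * Complex.I / p)) * ω) : (p : ℤ) ∣ n := by
  have hζ : IsPrimitiveRoot (Complex.exp (2 * Real.pi * Complex.I / p)) p :=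
    Complex.isPrimitiveRoot_exp p hp.ne_zero
  haveI := Fact.mk hp
  set ζ := Complex.exp (2 * Real.pi * Complex.I / p) with hzdef
  -- every conjugate of the equation
  have hall : ∀ i ∈ Finset.range (p - 1), ∃ v : ℂ, IsIntegral ℤ v ∧ (n : ℂ) = (1 - ζ ^ (i + 1)) * v := by
    intro i hi
    obtain ⟨σ, hσ⟩ := exists_ringAut_pow p (i + 1) hp.pos
      ((hp.coprime_iff_not_dvd.mpr (Nat.not_dvd_of_pos_of_lt (Nat.succ_pos i) (by have := Finset.mem_range.mp hi; omega))).symm)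
    refine ⟨σ ω, hω.map σ.toRingHom.toIntAlgHom, ?_⟩
    rw [← hσ ζ hζ.pow_eq_one, ← map_one σ, ← map_sub, ← map_mul, ← h, map_intCast]
  choose! v hv hv' using hall
  have hprod : ∏ i ∈ Finset.range (p - 1), (1 - ζ ^ (i + 1)) = (p : ℂ) := by
    obtain ⟨q, rfl⟩ : ∃ q, p = q + 1 := ⟨p - 1, (Nat.sub_add_cancel hp.pos).symm⟩
    simpa using hζ.prod_one_sub_pow_eq_order
  have h2 : ((n : ℂ)) ^ (p - 1) = (p : ℂ) * ∏ i ∈ Finset.range (p - 1), v i := by
    rw [← hprod, ← Finset.prod_mul_distrib, ← Finset.prod_congr rfl hv', Finset.prod_const,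
      Finset.card_range]
  have h3 : IsIntegral ℤ ((((n : ℚ) ^ (p - 1) / (p : ℚ) : ℚ)) : ℂ) := by
    push_cast
    rw [h2, mul_div_cancel_left₀ _ (Nat.cast_ne_zero.mpr hp.ne_zero)]
    exact IsIntegral.prod _ hv
  obtain ⟨m, hm⟩ := int_of_isIntegral_rat h3
  push_cast at hm
  rw [div_eq_iff (Nat.cast_ne_zero.mpr hp.ne_zero)] at hm
  have h4 : n ^ (p - 1) = m * (p : ℤ) := by exact_mod_cast hm
  exact Int.Prime.dvd_pow' hp ⟨m, h4.trans (mul_comm _ _)⟩

end Cfsg.Agent.S1495
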