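import Cfsg.Statements.S1421
import Cfsg.Agent.Lib.Transfer.Local.FreeExponent

set_option maxHeartbeats 1000000
set_option maxRecDepth 8000

set_option autoImplicit false
open Cfsg

namespace Cfsg.Agent.S1421

open Cfsg.Agent Cfsg.Agent.Transfer.Loc Subgroup
open scoped Pointwise


/-- Let G be a minimal simple group of odd order, M a maximal subgroup and E a complement to M_σ in M. Suppose that every non-identity element e of E all of whose order's prime divisors lie in τ₁(M) ∪ τ₃(M) has M_σ ∩ C_G(e) = 1. Then E has an abelian normal subgroup A₀ with E ∩ C_G(x) ≤ A₀ for every non-identity x ∈ M_σ, and E has a subgroup E₀ of the same exponent as E such that no non-identity element of E₀ centralizes a non-identity element of M_σ. -/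
theorem result {G : Type*} [Group G] [Finite G] (hG : Cfsg.IsMinSimpleOddOrder G)
    (M : Subgroup G) (hM : IsCoatom M) (E : Subgroup G) (hE : Cfsg.IsComplIn E (Cfsg.sigmaCore M) M)
    (h : ∀ e ∈ E, e ≠ 1 → (∀ p : ℕ, p.Prime → p ∣ orderOf e → p ∈ Cfsg.tau1 M ∪ Cfsg.tau3 M) →
      Cfsg.sigmaCore M ⊓ Subgroup.centralizer ({e} : Set G) = ⊥) :
    (∃ A₀ : Subgroup G, A₀ ≤ E ∧ E ≤ Subgroup.normalizer (A₀ : Set G) ∧ IsMulCommutative A₀ ∧
        ∀ x ∈ Cfsg.sigmaCore M, x ≠ 1 → E ⊓ Subgroup.centralizer ({x} : Set G) ≤ A₀) ∧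
      ∃ E₀ : Subgroup G, E₀ ≤ E ∧ Monoid.exponent E₀ = Monoid.exponent E ∧
        ∀ e ∈ E₀, e ≠ 1 → Cfsg.sigmaCore M ⊓ Subgroup.centralizer ({e} : Set G) = ⊥ := by

  haveI := solvable_of_ne_top hG hM.1
  have hmem : ∀ q : ℕ, q.Prime → q ∣ Nat.card E → q ∉ Cfsg.tau2 M → q ∈ Cfsg.tau1 M ∪ Cfsg.tau3 M := by
    intro q hq hd hτ
    haveI := Fact.mk hq
    have hσ := compl_prime hG hM hE hq hd
    have hr := rank_one_of_not_tau2 hG hM hσ hτ
    by_cases hd' : q ∣ Nat.card ↥⁅M, M⁆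
    · exact Or.inr ⟨hq, hσ, hd', hr⟩
    · exact Or.inl ⟨hq, hσ, hd.trans (card_dvd_of_le hE.1), hd', hr⟩
  have hfree : ∀ y ∈ E, (orderOf y).Prime → orderOf y ∉ Cfsg.tau2 M →
      Cfsg.sigmaCore M ⊓ centralizer ({y} : Set G) = ⊥ := by
    intro y hy hyp hyτ
    refine h y hy (fun e => hyp.ne_one (by rw [e, orderOf_one])) fun p hp hd => ?_
    rw [(Nat.prime_dvd_prime_iff_eq hp hyp).1 hd]
    exact hmem _ hyp (Subgroup.orderOf_dvd_natCard _ hy) hyτ
  refine ⟨?_, exists_free_exponent hG hM hE le_rfl E.commutator_le_self (fun T hT _ => hT) hfree⟩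
  obtain ⟨A₀, hA₀E, hEA₀, hab, hA₀⟩ := tau2_fixed_part hG hM hE
  refine ⟨A₀, hA₀E, hEA₀, hab, fun x hx hx1 e he => ?_⟩
  rcases eq_or_ne e 1 with rfl | he1
  · exact A₀.one_mem
  have hfix : ∀ z ∈ zpowers e, x ∈ Cfsg.sigmaCore M ⊓ centralizer ({z} : Set G) := by
    intro z hz
    refine ⟨hx, mem_centralizer_singleton_iff.2 ?_⟩
    obtain ⟨i, rfl⟩ := hz
    exact ((show Commute e x from mem_centralizer_singleton_iff.1 he.2).zpow_left i).eq.symm
  refine hA₀ e he.1 (fun p hp hd => ?_) fun e0 => hx1 (mem_bot.1 (e0 ▸ hfix e (mem_zpowers e)))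
  by_contra hτ
  have hm0 : 0 < orderOf e := orderOf_pos e
  obtain ⟨m, hm⟩ := hd
  have hm1 : 0 < m := Nat.pos_of_ne_zero fun h0 => hm0.ne' (by rw [hm, h0, mul_zero])
  have hz : orderOf (e ^ m) = p := by
    rw [orderOf_pow' _ hm1.ne', hm, Nat.gcd_mul_left_left, Nat.mul_div_cancel _ hm1]
  have hb := hfree (e ^ m) (E.pow_mem he.1 m) (hz.symm ▸ hp) (hz.symm ▸ hτ)
  exact hx1 (mem_bot.1 (hb ▸ hfix (e ^ m) (npow_mem_zpowers e m)))

end Cfsg.Agent.S1421
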