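import Cfsg.Statements.S1438
import Cfsg.Agent.Lib.Transfer.Local.HallFusion

set_option maxHeartbeats 1000000
set_option maxRecDepth 8000

set_option autoImplicit false
open Cfsg

namespace Cfsg.Agent.S1438

open Cfsg.Agent Cfsg.Agent.Transfer Cfsg.Agent.Transfer.Loc Subgroup
open scoped Pointwise commutatorElement


/-- Let G be a minimal simple group of odd order, M a maximal subgroup and H a nontrivial subgroup of M_σ whose order is coprime to its index in M_σ. Then M ∩ C_G(H) is generated by M_σ ∩ C_G(H) together with a cyclic subgroup X all of whose prime divisors lie in τ₂(M); and if x ∈ H and gxg⁻¹ ∈ H then nxn⁻¹ = gxg⁻¹ for some n ∈ M ∩ N_G(H). -/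
theorem result {G : Type*} [Group G] [Finite G] (hG : Cfsg.IsMinSimpleOddOrder G)
    (M : Subgroup G) (hM : IsCoatom M) (H : Subgroup G) (hH : H ≤ Cfsg.sigmaCore M) (hH1 : H ≠ ⊥)
    (hHall : (Nat.card H).Coprime (H.relIndex (Cfsg.sigmaCore M))) :
    (∃ X : Subgroup G, IsCyclic X ∧ (∀ p : ℕ, p.Prime → p ∣ Nat.card X → p ∈ Cfsg.tau2 M) ∧
        M ⊓ Subgroup.centralizer (H : Set G) = (Cfsg.sigmaCore M ⊓ Subgroup.centralizer (H : Set G)) ⊔ X) ∧
      ∀ x ∈ H, ∀ g : G, g * x * g⁻¹ ∈ H → ∃ n ∈ M ⊓ Subgroup.normalizer (H : Set G), n * x * n⁻¹ = g * x * g⁻¹ := by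

  haveI := solvable_of_ne_top hG hM.1
  set S := Cfsg.sigmaCore M with hSdef
  have hSM : S ≤ M := TransHyp.piCoreOf_le M
  have hMS : M ≤ normalizer (S : Set G) := TransHyp.le_normalizer_piCoreOf M
  haveI := isSolvable_of_le hSM
  refine ⟨?_, fun x hx g hy => ?_⟩
  · set C := M ⊓ centralizer (H : Set G) with hC
    haveI := isSolvable_of_le (inf_le_left : C ≤ M)
    obtain ⟨X, hX⟩ := Grp.PiHall.exists_piHall {s : ℕ | s ∉ Cfsg.sigma M} C
    have hXM : X ≤ M := hX.1.trans inf_le_left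
    have hXτ : ∀ p : ℕ, p.Prime → p ∣ Nat.card X → p ∈ Cfsg.tau2 M := fun p hp hd => by
      haveI := Fact.mk hp
      exact cent_hall_primes hG hM hH hH1 hHall (hX.2.1 p hp hd) (hd.trans (card_dvd_of_le hX.1))
    refine ⟨X, ?_, hXτ, ?_⟩
    · obtain ⟨E, hE, hXE⟩ := exists_compl_ge hG hM hXM hX.2.1
      haveI : Group.IsNilpotent X := CN.isNilpotent_of_commute fun q r hq hr hqr a b ha hb => by
        obtain ⟨i, hi⟩ := ha
        obtain ⟨j, hj⟩ := hb
        rcases Nat.eq_zero_or_pos i with rfl | hi0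
        · rw [pow_zero, orderOf_eq_one_iff] at hi; rw [hi]; exact Commute.one_left b
        rcases Nat.eq_zero_or_pos j with rfl | hj0
        · rw [pow_zero, orderOf_eq_one_iff] at hj; rw [hj]; exact Commute.one_right a
        haveI := Fact.mk hq
        haveI := Fact.mk hr
        exact Subtype.ext (tau2_commute hG hM hE hqr
          (hXτ q hq ((dvd_pow_self q hi0.ne').trans (hi ▸ orderOf_dvd_natCard a)))
          (hXτ r hr ((dvd_pow_self r hj0.ne').trans (hj ▸ orderOf_dvd_natCard b))) (hXE a.2) (hXE b.2)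
          (i := i) (j := j) (by rw [Subgroup.orderOf_coe, hi]) (by rw [Subgroup.orderOf_coe, hj]))
      haveI : IsZGroup X := ⟨fun p hp P => by
        haveI := Fact.mk hp
        by_contra hc
        set T := (P : Subgroup X).map X.subtype with hT
        have hTc : ¬ IsCyclic T := fun h => hc (by
          haveI := h
          exact isCyclic_of_surjective _
            ((P : Subgroup X).equivMapOfInjective X.subtype X.subtype_injective).symm.surjective)
        have hT1 : T ≠ ⊥ := fun e => hTc (e ▸ inferInstance)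
        have hTX : T ≤ X := map_subtype_le _
        have hTp : IsPGroup p T := P.isPGroup'.map _
        have hpd := dvd_card_of_pGroup hTp hT1
        have hτ := hXτ p hp (hpd.trans (card_dvd_of_le hTX))
        obtain ⟨D, hD, hDe, hD2⟩ := exists_elem_of_not_prank
          (not_prank_one_of_not_cyclic hG (ne_two hG (hpd.trans (card_subgroup_dvd_card T))) hTp hTc)
        have hDC : D ≤ C := hD.trans (hTX.trans hX.1)
        have hDc : Nat.card D = p ^ 2 := by
          refine le_antisymm ?_ hD2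
          by_contra hlt
          obtain ⟨n, hn⟩ := IsPGroup.iff_card.1 (Grp.elemAb_isPGroup hDe)
          refine not_prank_of_elem (hDC.trans inf_le_left) hDe ?_ hτ.2.2.1
          rw [hn] at hlt ⊢
          exact Nat.pow_le_pow_right hp.pos ((Nat.pow_lt_pow_iff_right hp.one_lt).1 (not_le.1 hlt))
        refine hH1 (le_bot_iff.1 (le_trans (le_inf hH (le_centralizer_iff.1 (hDC.trans inf_le_right))) ?_))
        exact (Cfsg.Agent.S1417.result hG M hM p hτ D ⟨hDC.trans inf_le_left, hDe, hDc⟩).2.2.2.1.le⟩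
      infer_instance
    · refine le_antisymm ?_ (sup_le (inf_le_inf_right _ hSM) hX.1)
      refine Grp.le_of_forall_sylow (sup_le (inf_le_inf_right _ hSM) hX.1) fun q hq => ?_
      by_cases hqσ : q ∈ Cfsg.sigma M
      · obtain ⟨T, hT⟩ := Grp.exists_isSylowIn q C
        refine ⟨T, hT, fun t ht => mem_sup_left ⟨?_, (hT.1 ht).2⟩⟩
        refine mem_sigmaCore_of_pi hG hM (hT.1 ht).1 fun r hr hd => ?_
        rw [eq_of_dvd_pGroup hT.2.1 hr (hd.trans (Subgroup.orderOf_dvd_natCard _ ht))]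
        exact hqσ
      · obtain ⟨T, hT⟩ := Grp.exists_isSylowIn q X
        exact ⟨T, sylowIn_trans hT hX.1 (hX.2.2 q hq.out hqσ), hT.1.trans le_sup_right⟩
  · obtain ⟨m, hm, he⟩ := sigma_fusion hG hM (hH hx) (hSM (hH hy))
    set π : Set ℕ := {t | t ∣ Nat.card H}
    have hH0 : Cfsg.IsPiHallOf π H S :=
      ⟨hH, fun t _ ht => ht, fun t ht htH hd => ht.ne_one (Nat.eq_one_of_dvd_coprimes hHall htH hd)⟩
    obtain ⟨s, hs, es⟩ := Grp.PiHall.conj_eq hH0 (Grp.PiHall.smul hH0 (Grp.mem_normalizer_iff_smul.1 (hMS hm)))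
    have hn : s⁻¹ * m ∈ M ⊓ normalizer (H : Set G) := ⟨M.mul_mem (M.inv_mem (hSM hs)) hm,
      Grp.mem_normalizer_iff_smul.2 (by
        rw [← Grp.conj_smul_conj_smul, ← es, Grp.conj_smul_conj_smul, inv_mul_cancel, map_one, one_smul])⟩
    have hx' := Grp.mem_conj_normalizer hn.2 hx
    have hy' : s * (s⁻¹ * m * x * (s⁻¹ * m)⁻¹) * s⁻¹ = g * x * g⁻¹ := by rw [← he]; group
    obtain ⟨Q, hQS, hQ, hQH, hcomm⟩ : ∃ Q : Subgroup G, Q ≤ S ∧ S ≤ normalizer (Q : Set G) ∧
        (Q ≤ H ∨ (Nat.card Q).Coprime (Nat.card H)) ∧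
        ∀ a ∈ S, ∀ b ∈ S, (orderOf a).Coprime (orderOf b) → ⁅a, b⁆ ∈ Q := by
      by_cases hnil : Group.IsNilpotent S
      · exact ⟨⊥, bot_le, fun a _ => mem_normalizer_iff.2 fun z => by simp, Or.inl bot_le, fun a ha b hb hc =>
          mem_bot.2 (commutatorElement_eq_one_iff_mul_comm.2 (TypeP.commute_of_coprime_orderOf hnil ha hb hc))⟩
      obtain ⟨K, U, hKU⟩ := exists_decomp_of_max hG hM
      obtain ⟨-, -, -, -, hqp, -, Q, hQ, hMQ, -, -, hnq, -⟩ := sigmaCore_structure hG hM hKU hnil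
      haveI := Fact.mk hqp
      have hSN : S ≤ normalizer (Q : Set G) := hSM.trans hMQ
      refine ⟨Q, hQ.1, hSN, ?_, fun a ha b hb hc => ?_⟩
      · by_cases hqH : Nat.card (kStar M K) ∣ Nat.card H
        · left
          obtain ⟨R, hR⟩ := Grp.exists_isSylowIn (Nat.card (kStar M K)) H
          have hRS := sylowIn_trans hR hH fun hd => hqp.ne_one (Nat.eq_one_of_dvd_coprimes hHall hqH hd)
          have h1 := hRS.eq_of_le le_sup_right (sup_le hQ.1 hRS.1)
            (hQ.2.1.to_sup_of_normal_left' hRS.2.1 (hRS.1.trans hSN))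
          exact le_sup_left.trans (h1.ge.trans hR.1)
        · right
          obtain ⟨i, hi⟩ := IsPGroup.iff_card.1 hQ.2.1
          rw [hi]
          exact (hqp.coprime_iff_not_dvd.2 hqH).pow_left i
      · have h0 : ⁅QuotientGroup.mk' (Q.subgroupOf (normalizer (Q : Set G))) ⟨a, hSN ha⟩,
            QuotientGroup.mk' (Q.subgroupOf (normalizer (Q : Set G))) ⟨b, hSN hb⟩⁆ = 1 := by
          refine commutatorElement_eq_one_iff_mul_comm.2 (TypeP.commute_of_coprime_orderOf hnq
            (mem_qimg ha _) (mem_qimg hb _) ?_)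
          refine (hc.coprime_dvd_left ?_).coprime_dvd_right ?_
          · exact (orderOf_map_dvd _ _).trans (Subgroup.orderOf_mk a (hSN ha)).dvd
          · exact (orderOf_map_dvd _ _).trans (Subgroup.orderOf_mk b (hSN hb)).dvd
        rw [← map_commutatorElement, QuotientGroup.mk'_apply, QuotientGroup.eq_one_iff, Subgroup.mem_subgroupOf] at h0
        exact h0
    obtain ⟨d, hd, hde⟩ := hall_fusion_frattini hH hHall hQS hQ hQH hcomm hx' hs (hy'.symm ▸ hy)
    refine ⟨d * (s⁻¹ * m), ⟨M.mul_mem (hSM hd.1) hn.1, mul_mem hd.2 hn.2⟩, ?_⟩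
    rw [← hy', ← hde]
    group

end Cfsg.Agent.S1438
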