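import Cfsg.Statements.S1380
import Cfsg.Agent.Lib.Transfer.Local.TypeOne
import Cfsg.Agent.S1360

set_option maxHeartbeats 1000000

set_option autoImplicit false
open Cfsg

namespace Cfsg.Agent.S1380

open Cfsg.Agent Cfsg.Agent.Transfer Cfsg.Agent.Transfer.Loc Subgroup
open scoped Pointwise

/-- Let G be a minimal simple group of odd order and M a maximal subgroup with standard factorisation M = K U M_σ. Then M is of Type I if and only if K = 1 and U ≠ 1. -/
theorem result {G : Type*} [Group G] [Finite G] (hG : Cfsg.IsMinSimpleOddOrder G)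
    (M : Subgroup G) (hM : IsCoatom M) (K U : Subgroup G) (hKU : Cfsg.IsSigmaDecomposition M K U) :
    Cfsg.IsOfTypeI M ↔ (K = ⊥ ∧ U ≠ ⊥) := by
  haveI := solvable_of_ne_top hG hM.1
  have hiff : Cfsg.kappa M = ∅ ↔ K = ⊥ := by
    refine ⟨fun hκ => ?_, fun hK => ?_⟩
    · by_contra hK
      obtain ⟨q, hq, hqd⟩ := Nat.exists_prime_and_dvd fun e => hK (Subgroup.card_eq_one.1 e)
      exact (hκ ▸ hKU.hall.2.1 q hq hqd :)
    · by_contra hne
      obtain ⟨q, hq⟩ := Set.nonempty_iff_ne_empty.2 hne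
      exact hKU.hall.2.2 q hq.1 hq (by rw [hK, Subgroup.relIndex_bot_left]; exact hq.2.1)
  obtain ⟨hEc, -, -⟩ := decomp_compl hG hM hKU
  constructor
  · rintro ⟨hF, -⟩
    have hK := hiff.1 (kappa_empty_of_typeF hG hM hF)
    refine ⟨hK, fun hU => sigmaCore_ne_bot hG hM ?_⟩
    rw [hK, hU, sup_bot_eq] at hEc
    rw [← (Cfsg.Agent.S1426.result hG M hM ⊥ hEc).2.1, Subgroup.commutator_bot_right]
  · rintro ⟨hK, hU⟩
    have hκ := hiff.2 hK
    rw [hK, sup_bot_eq] at hEc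
    have hHF := fittingHallOf_of_U hG hM hKU hU
    set S := Cfsg.sigmaCore M
    have hFeq : Cfsg.fittingHall M = S.subgroupOf M := by
      refine Subgroup.map_injective M.subtype_injective ?_
      rw [Subgroup.map_subgroupOf_eq_of_le hEc.2.1]
      exact hHF
    obtain ⟨⟨A₀, hA₀U, hUA₀, hA₀c, hA₀⟩, -⟩ := Cfsg.Agent.S1421.result hG M hM U hEc fun e he he1 hτ => by
      by_contra hne
      obtain ⟨q, hq, hqd⟩ := Nat.exists_prime_and_dvd fun e' => he1 (orderOf_eq_one_iff.1 e')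
      rcases fixed_primes_cases hG hM (hEc.1 he) he1 (fun t ht hd => compl_prime hG hM hEc ht
          (hd.trans (Subgroup.orderOf_dvd_natCard _ he))) hne with h1 | h1
      · exact (hκ ▸ h1 q hq hqd :)
      · have h2 := h1 q hq hqd
        rcases hτ q hq hqd with h3 | h3
        · exact h2.2.2.2 h3.2.2.2.2
        · exact h2.2.2.2 h3.2.2.2
    obtain ⟨U₀, hU₀, hexp, hfree⟩ := Cfsg.Agent.S1360.result hG M hM K U hKU
    have hUM : U ≤ M := hEc.1
    have hfix : ∀ u ∈ U₀, u ≠ 1 → ∀ y ∈ S, u * y = y * u → y = 1 := fun u hu hu1 y hy hc => by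
      by_contra hy1
      exact hu1 (hfree u hu ⟨hUM (hU₀ hu), y, hy, hy1, hc⟩)
    have hcop : (Nat.card S).Coprime (Nat.card U) := Nat.coprime_of_dvd fun q hq h1 h2 =>
      compl_prime hG hM hEc hq h2 (TransHyp.piCoreOf_primes (π := Cfsg.sigma M) (X := M) hq h1)
    refine ⟨⟨inferInstance, hG.1.of_dvd_nat (card_subgroup_dvd_card _), fun e => sigmaCore_ne_bot hG hM ?_,
      fun e => hU ?_, U.subgroupOf M, fun e => hU ?_, ?_, ?_, ?_⟩, ?_⟩
    · show S = ⊥
      rw [← hHF]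
      exact (congrArg (Subgroup.map M.subtype) e).trans (Subgroup.map_bot _)
    · refine le_bot_iff.1 ((le_inf le_rfl ?_).trans hEc.2.2.1.le)
      rw [hFeq] at e
      exact hUM.trans (Subgroup.subgroupOf_eq_top.1 e)
    · rw [← Subgroup.map_subgroupOf_eq_of_le hUM, e, Subgroup.map_bot]
    · rw [hFeq]
      refine Subgroup.isComplement'_of_coprime ?_ ?_ <;>
        simp only [Nat.card_congr (subgroupOfEquivOfLe hEc.2.1).toEquiv,
          Nat.card_congr (subgroupOfEquivOfLe hUM).toEquiv]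
      · rw [mul_comm]; exact complIn_card hEc
      · exact hcop
    · haveI := hA₀c
      refine ⟨A₀.subgroupOf M, Subgroup.comap_mono hA₀U, fun u hu => ?_, ⟨⟨fun a b => Subtype.ext (Subtype.ext
        (congrArg Subtype.val (hA₀c.is_comm.comm (⟨_, a.2⟩ : A₀) ⟨_, b.2⟩) :))⟩⟩, fun x hx hx1 u hu => ?_⟩
      · rw [Grp.mem_normalizer_iff_smul]
        refine Subgroup.eq_of_le_of_card_ge ?_ (by rw [Grp.card_conj_smul])
        rintro _ ⟨a, ha, rfl⟩
        show (u : G) * a * (u : G)⁻¹ ∈ A₀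
        exact Grp.mem_conj_normalizer (hUA₀ hu) ha
      · rw [hFeq] at hx
        exact hA₀ x hx (fun e => hx1 (Subtype.ext e)) ⟨hu.1, mem_centralizer_singleton_iff.2
          (congrArg Subtype.val (mem_centralizer_singleton_iff.1 hu.2) :)⟩
    · refine ⟨U₀.subgroupOf M, Subgroup.comap_mono hU₀, ?_, fun u hu hu1 x hx hc => ?_⟩
      · rw [Monoid.exponent_eq_of_mulEquiv (subgroupOfEquivOfLe (hU₀.trans hUM)),
          Monoid.exponent_eq_of_mulEquiv (subgroupOfEquivOfLe hUM), hexp]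
      · rw [hFeq] at hx
        exact Subtype.ext (hfix u hu (fun e => hu1 (Subtype.ext e)) x hx (congrArg Subtype.val hc :))
    -- the three alternatives
    by_cases hTI : Cfsg.IsTISubset (Cfsg.fittingHallOf M : Set G)
    · exact Or.inl hTI
    right
    unfold Cfsg.IsTISubset at hTI
    push Not at hTI
    obtain ⟨g, hg, x, hx, hgx, hx1⟩ := hTI
    have hgM : g ∉ M := fun hh => hg (le_normalizer_fittingHallOf M hh)
    have hX : Cfsg.fittingOf M ⊓ (Cfsg.fittingOf M).map (MulAut.conj g).toMonoidHom ≠ ⊥ := fun e => hx1 (by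
      have h1 : g * x * g⁻¹ ∈ Cfsg.fittingOf M ⊓ (Cfsg.fittingOf M).map (MulAut.conj g).toMonoidHom :=
        ⟨fittingHallOf_le_fitting M hgx, x, fittingHallOf_le_fitting M hx, rfl⟩
      rw [e, mem_bot, conj_eq_one_iff] at h1
      exact h1)
    obtain ⟨hH, hnil, hKU', -, -, p, _, z, -, hzS, hzo, hσ, hβ, hC⟩ := fitting_meet_setup hG hM hgM hX
    obtain ⟨P, hP⟩ := Grp.exists_isSylowIn p S
    obtain ⟨h1, h2, h3, -, h5⟩ := support_sylows hG hM hnil hzS hzo hC hP
    have hd : NonTIData M p P := ⟨hnil, hH, hKU', hP, hσ, hβ, h3, h1, h2, fun h => (h5 h).1⟩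
    by_cases hab : IsMulCommutative P
    · obtain ⟨c1, c2, c3, -⟩ := hd.comm_case hG hM hab
      exact Or.inl (hH.symm ▸ ⟨c1, c2, c3⟩)
    refine Or.inr ⟨fun q hq hqd => ?_, p, Fact.out, hH.symm ▸ hd.dvd_card hG hM,
      hd.pPrimeCore_cyclic hG hM hab hzS hzo hC hκ⟩
    haveI := Fact.mk hq
    obtain ⟨Z, hZc, hZS, hMZ, -⟩ := hd.exists_line hG hM hab (by rwa [hH] at hqd : q ∣ Nat.card S)
    refine Dvd.dvd.trans ?_ (exponent_dvd_pred (U₀ := U₀) hZc ((hU₀.trans hUM).trans hMZ)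
      fun u hu hu1 y hy hc => hfix u hu hu1 y (hZS hy) hc)
    refine Monoid.exponent_dvd_of_forall_pow_eq_one fun m => ?_
    obtain ⟨m, rfl⟩ := QuotientGroup.mk_surjective m
    obtain ⟨a, ha, b, hb, e⟩ := hEc.2.2.2 (m : G) m.2
    have hb' : (⟨b, hEc.2.1 hb⟩ : M) ∈ Cfsg.fittingHall M := by rw [hFeq]; exact hb
    have hm : (QuotientGroup.mk m : ↥M ⧸ Cfsg.fittingHall M) = QuotientGroup.mk (⟨a, hUM ha⟩ : M) := by
      rw [show m = (⟨a, hUM ha⟩ : M) * ⟨b, hEc.2.1 hb⟩ from Subtype.ext e,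
        QuotientGroup.mk_mul_of_mem _ hb']
    have ha1 : a ^ Monoid.exponent U = 1 :=
      congrArg Subtype.val (Monoid.pow_exponent_eq_one (⟨a, ha⟩ : U))
    rw [hm, hexp, ← QuotientGroup.mk_pow, show (⟨a, hUM ha⟩ : M) ^ Monoid.exponent U = 1 from Subtype.ext (by
      rw [SubmonoidClass.coe_pow]; exact ha1)]
    rfl

end Cfsg.Agent.S1380
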