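import Cfsg.Statements.S1526
import Cfsg.Agent.Lib.Char.CoverTI
import Cfsg.Agent.Lib.Char.TIStar

set_option autoImplicit false
open Cfsg

namespace Cfsg.Agent.S1526
open Cfsg.Agent.Char

/-- Let G be a finite group of odd order and (L i, H i), i in a finite index type with at least two elements, pairs of subgroups with H i a nontrivial proper normal subgroup of L i such that every non-identity element of H i has its centraliser within L i contained in H i (L i is a Frobenius group with kernel H i), the orders of the H i pairwise coprime, and the underlying set of each H i a TI-subset of G with normaliser L i. If every non-identity element of G is conjugate to an element of some H i, we reach a contradiction. -/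
theorem result {G : Type*} [Group G] [Finite G] (hodd : Odd (Nat.card G)) {ι : Type*} [Fintype ι] (hι : 2 ≤ Fintype.card ι) (L H : ι → Subgroup G) (hHL : ∀ i, H i < L i) (hH1 : ∀ i, H i ≠ ⊥) (hHn : ∀ i, ∀ x ∈ L i, ∀ h ∈ H i, x * h * x⁻¹ ∈ H i) (hfrob : ∀ i, ∀ h ∈ H i, h ≠ 1 → L i ⊓ Subgroup.centralizer ({h} : Set G) ≤ H i) (hcop : ∀ i j, i ≠ j → Nat.Coprime (Nat.card (H i)) (Nat.card (H j))) (hTI : ∀ i, Cfsg.IsTISubset (H i : Set G) ∧ Subgroup.normalizer (H i : Set G) = L i) (hcover : ∀ g : G, g ≠ 1 → ∃ i, ∃ x : G, x * g * x⁻¹ ∈ H i) : False := by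
  classical
  haveI := Fintype.ofFinite G
  letI : ∀ i, Fintype ↥(CoverTI.NI H i) := fun i => Fintype.ofFinite _
  have hN : ∀ i, Subgroup.normalizer (H i : Set G) = L i := fun i => (hTI i).2
  have hti : ∀ i, ∀ g : G, g ∉ Subgroup.normalizer (H i : Set G) → ∀ k ∈ H i, g * k * g⁻¹ ∈ H i → k = 1 :=
    fun i => (hTI i).1
  have hcent : ∀ i, ∀ k ∈ H i, k ≠ 1 → Subgroup.centralizer ({k} : Set G) ≤ H i := by
    intro i k hk hk1 g hg
    refine hfrob i k hk hk1 ⟨?_, hg⟩
    rw [← hN i]
    by_contra h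
    exact hk1 (hti i g h k hk (by
      rw [Subgroup.mem_centralizer_singleton_iff.1 hg, mul_inv_cancel_right]; exact hk))
  choose star hst using fun i => KerSets.exists_star (H i) (hti i) ((hN i).symm ▸ hHL i) (hcent i)
    (hH1 i) (Odd.of_dvd_nat hodd (Subgroup.card_subgroup_dvd_card _))
  haveI : Nonempty ι := Fintype.card_pos_iff.1 (by omega)
  obtain ⟨i⟩ := ‹Nonempty ι›
  obtain ⟨k, hk⟩ := (H i).ne_bot_iff_exists_ne_one.1 (hH1 i)
  haveI : Nontrivial G := ⟨⟨k.1, 1, fun h => hk (Subtype.ext h)⟩⟩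
  refine CoverTI.no_cover (K := H) (star := star) ⟨hodd, hH1, hst, ?_, hcover⟩
  intro a b hab x hx hx1 g hgx
  refine hx1 (orderOf_eq_one_iff.1 (Nat.eq_one_of_dvd_one ((hcop a b hab) ▸ Nat.dvd_gcd
    ((H a).orderOf_dvd_natCard hx) ?_)))
  rw [← orderOf_injective (MulAut.conj g).toMonoidHom (MulAut.conj g).injective x]
  exact (H b).orderOf_dvd_natCard (by simpa using hgx)

end Cfsg.Agent.S1526
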