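import Cfsg.Statements.S1541
import Cfsg.Agent.Lib.Transfer.Local.TypeIFree
import Cfsg.Agent.Lib.Transfer.Local.Types
import Cfsg.Agent.Lib.Transfer.Local.SigmaCover
import Cfsg.Agent.S1526

set_option maxHeartbeats 1000000

set_option autoImplicit false
open Cfsg

namespace Cfsg.Agent.S1541

open Cfsg.Agent Cfsg.Agent.Transfer Cfsg.Agent.Transfer.Loc Cfsg.Agent.Transfer.Loc.TypeI Subgroup
open scoped Pointwise commutatorElement


/-- Let G be a minimal simple group of odd order. Then some maximal subgroup of G is not of Type I. -/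
theorem result {G : Type*} [Group G] [Finite G] (hG : Cfsg.IsMinSimpleOddOrder G) : ∃ M : Subgroup G, IsCoatom M ∧ ¬ Cfsg.IsOfTypeI M := by
  by_contra hno
  push Not at hno
  have hκ : ∀ L : Subgroup G, IsCoatom L → Cfsg.kappa L = ∅ := fun L hL =>
    kappa_empty_of_typeF hG hL (hno L hL).1
  -- centralisers of elements of the cores stay inside
  have hcent : ∀ (L : Subgroup G), IsCoatom L → ∀ x ∈ Cfsg.sigmaCore L, x ≠ 1 →
      centralizer ({x} : Set G) ≤ L := by
    intro L hL x hx hx1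
    by_contra hC
    obtain ⟨N, hsup, -, -, -, hτ⟩ := support_unique hG hL hx hx1 hC
    obtain ⟨s, hs, hsd⟩ := Nat.exists_prime_and_dvd fun e => hx1 (orderOf_eq_one_iff.1 e)
    haveI := Fact.mk hs
    obtain ⟨H, E, N', A, T, P, v, hset⟩ := exists_setup hG hsup.hN (hκ N hsup.hN) (hτ s hs hsd)
    exact no_setup hset fun t _ ht => fixed_eq_bot hG t ht
  have hti : ∀ L : Subgroup G, IsCoatom L → ∀ g : G, ∀ x ∈ Cfsg.sigmaCore L, x ≠ 1 →
      g * x * g⁻¹ ∈ Cfsg.sigmaCore L → g ∈ L := by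
    intro L hL g x hx hx1 hgx
    obtain ⟨s, _, z, hz, hzo, hzc, -⟩ := exists_prime_zpowers_le hx1
    have hzS : z ∈ Cfsg.sigmaCore L := (zpowers_le.2 hx) hz
    obtain ⟨i, hi⟩ := mem_zpowers_iff.1 hz
    have hgz : g * z * g⁻¹ ∈ Cfsg.sigmaCore L := by
      rw [← hi, ← conj_zpow]
      exact Subgroup.zpow_mem _ hgx i
    have hsσ : s ∈ Cfsg.sigma L := TransHyp.piCoreOf_primes (π := Cfsg.sigma L) (X := L) Fact.out
      (hzo ▸ Subgroup.orderOf_dvd_natCard _ hzS)
    obtain ⟨m, hm, c, hc, e⟩ := (Cfsg.Agent.S1404.result hG L hL s hsσ (zpowers z)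
      (IsPGroup.of_card (n := 1) (hzc.trans (pow_one s).symm))
      (fun e => (Fact.out : s.Prime).ne_one (by rw [← hzc, e, Subgroup.card_bot]))
      (zpowers_le.2 (TransHyp.piCoreOf_le L hzS))).1 g (by
        rw [MonoidHom.map_zpowers, zpowers_le]
        exact TransHyp.piCoreOf_le L hgz)
    rw [e]
    exact L.mul_mem hm (hcent L hL z hzS (fun e => (Fact.out : s.Prime).ne_one (by rw [← hzo, e, orderOf_one]))
      (centralizer_le (Set.singleton_subset_iff.2 (mem_zpowers z)) hc))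
  -- classes of maximal subgroups
  let rel : Setoid {L : Subgroup G // IsCoatom L} :=
    { r := fun a b => ∃ g : G, b.1 = MulAut.conj g • a.1
      iseqv := ⟨fun a => ⟨1, by simp⟩, fun {a b} ⟨g, hg⟩ => ⟨g⁻¹, by
          rw [hg, Grp.conj_smul_conj_smul, inv_mul_cancel, map_one, one_smul]⟩,
        fun {a b c} ⟨g, hg⟩ ⟨k, hk⟩ => ⟨k * g, by rw [hk, hg, Grp.conj_smul_conj_smul]⟩⟩ }
  letI : Fintype (Quotient rel) := Fintype.ofFinite _
  let L : Quotient rel → Subgroup G := fun i => i.out.1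
  have hL : ∀ i, IsCoatom (L i) := fun i => i.out.2
  have hcover : ∀ g : G, g ≠ 1 → ∃ i, ∃ x : G, x * g * x⁻¹ ∈ Cfsg.sigmaCore (L i) := by
    intro g hg
    rcases sigma_dichotomy hG hg with ⟨N, hN, a, ha, r, hr, y, e⟩ | ⟨H, c, x, w, hH, -, -, -, -, hw1, -, -, hw⟩
    · have hr1 : r = 1 := by
        have hr' := hr
        unfold Cfsg.supportR at hr'
        rw [dif_neg fun h => h.1 (hcent N hN a ha.1 ha.2), mem_bot] at hr'
        exact hr'
      obtain ⟨d, hd⟩ := Quotient.exact (Quotient.out_eq (Quotient.mk rel ⟨N, hN⟩))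
      refine ⟨Quotient.mk rel ⟨N, hN⟩, d⁻¹ * y⁻¹, ?_⟩
      rw [e, hr1, mul_one]
      have h1 : a ∈ MulAut.conj d • Cfsg.sigmaCore (L (Quotient.mk rel ⟨N, hN⟩)) := by
        rw [smul_sigmaCore hG (hL _) d, ← hd]
        exact ha.1
      obtain ⟨b, hb, hbe⟩ := h1
      replace hbe : d * b * d⁻¹ = a := hbe
      rw [show d⁻¹ * y⁻¹ * (y * a * y⁻¹) * (d⁻¹ * y⁻¹)⁻¹ = d⁻¹ * a * d by group, ← hbe,
        show d⁻¹ * (d * b * d⁻¹) * d = b by group]
      exact hb
    · obtain ⟨s, hs, hsd⟩ := Nat.exists_prime_and_dvd fun e => hw1 (orderOf_eq_one_iff.1 e)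
      exact absurd (hκ H hH ▸ hw s hs hsd) (Set.notMem_empty s)
  have hlt : ∀ i, Cfsg.sigmaCore (L i) < L i := fun i => by
    haveI := solvable_of_ne_top hG (hL i).1
    refine lt_of_le_of_ne (TransHyp.piCoreOf_le (L i)) fun e => ?_
    have hH := fitting_of_kappa_empty hG (hL i) (hκ _ (hL i))
    exact (hno _ (hL i)).1.2.2.2.1 (Subgroup.map_injective (L i).subtype_injective
      ((hH.trans e).trans (MonoidHom.range_eq_map (L i).subtype ▸ (Subgroup.range_subtype (L i)).symm)))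
  have hconj : ∀ i j, ∀ s : ℕ, s.Prime → s ∈ Cfsg.sigma (L i) → s ∈ Cfsg.sigma (L j) → i = j := by
    intro i j s hs hi hj
    haveI := Fact.mk hs
    obtain ⟨g, hg⟩ := sigma_conj_of_common hG (hL i) (hL j) hi hj
    rw [← Quotient.out_eq i, ← Quotient.out_eq j]
    exact Quotient.sound ⟨g, hg⟩
  have hnorm : ∀ i, normalizer (Cfsg.sigmaCore (L i) : Set G) = L i := fun i =>
    normalizer_eq_of_coatom hG (hL i) (sigmaCore_ne_bot hG (hL i))
      (fun e => (hL i).1 (top_le_iff.1 (e ▸ TransHyp.piCoreOf_le (L i))))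
      (TransHyp.le_normalizer_piCoreOf (L i))
  refine Cfsg.Agent.S1526.result hG.1 ?_ L (fun i => Cfsg.sigmaCore (L i)) hlt
    (fun i => sigmaCore_ne_bot hG (hL i))
    (fun i x hx y hy => Grp.mem_conj_normalizer (TransHyp.le_normalizer_piCoreOf (L i) hx) hy)
    (fun i x hx hx1 => free_sigmaCore hG (hL i) (hκ _ (hL i)) hx hx1)
    (fun i j hij => Nat.coprime_of_dvd fun s hs h1 h2 => hij (hconj i j s hs
      (TransHyp.piCoreOf_primes (π := Cfsg.sigma (L i)) (X := L i) hs h1)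
      (TransHyp.piCoreOf_primes (π := Cfsg.sigma (L j)) (X := L j) hs h2)))
    (fun i => ⟨fun g hg x hx hgx => by_contra fun hx1 => hg (by rw [hnorm]; exact hti _ (hL i) g x hx hx1 hgx),
      hnorm i⟩) hcover
  -- at least two classes
  by_contra hcard
  haveI hsub : Subsingleton (Quotient rel) := Fintype.card_le_one_iff_subsingleton.1 (by omega)
  haveI : IsSimpleGroup G := hG.2.1
  obtain ⟨M₀, hM₀, -⟩ := exists_coatom hG (H := (⊥ : Subgroup G)) bot_ne_top
  set i := Quotient.mk rel ⟨M₀, hM₀⟩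
  haveI := solvable_of_ne_top hG (hL i).1
  obtain ⟨s, hs, hsd⟩ := Nat.exists_prime_and_dvd
    (fun e => (hlt i).not_ge (Subgroup.relIndex_eq_one.1 e) : (Cfsg.sigmaCore (L i)).relIndex (L i) ≠ 1)
  haveI := Fact.mk hs
  have hsL : s ∣ Nat.card (L i) := hsd.trans (Dvd.intro_left _ (Grp.card_mul_relIndex (hlt i).le))
  obtain ⟨z, hz⟩ := exists_prime_orderOf_dvd_card' (G := L i) s hsL
  have hzo : orderOf (z : G) = s := by rw [Subgroup.orderOf_coe, hz]
  obtain ⟨j, x, hx⟩ := hcover (z : G) fun e => hs.ne_one (by rw [← hzo, e, orderOf_one])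
  rw [Subsingleton.elim j i] at hx
  have h1 : s ∣ Nat.card (Cfsg.sigmaCore (L i)) := by
    rw [← hzo, ← MulEquiv.orderOf_eq (MulAut.conj x) (z : G)]
    exact Subgroup.orderOf_dvd_natCard _ hx
  exact (isPiHallOf_piCore hG (hL i) (alpha_subset_sigma hG (hL i)) Set.Subset.rfl).2.2 s hs
    (TransHyp.piCoreOf_primes (π := Cfsg.sigma (L i)) (X := L i) hs h1) hsd

end Cfsg.Agent.S1541
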