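import Cfsg.Statements.S0106
import Cfsg.Agent.Lib.Transfer.SL23Recognition
import Cfsg.Agent.Lib.Transfer.Frobenius
import Cfsg.Agent.Lib.Fus.MetacyclicTwoAut
import Cfsg.Agent.Lib.Block.SharplySolvable

set_option maxHeartbeats 1000000
set_option maxRecDepth 8000

set_option autoImplicit false
open Cfsg
open scoped commutatorElement

namespace Cfsg.Agent.S0106

open QuaternionGroup in
theorem quat_metacyclic (m : ℕ) [NeZero m] : Cfsg.IsMetacyclic (QuaternionGroup m) := by
  have hz : ∀ i : ZMod (2 * m), (a i : QuaternionGroup m) ∈ Subgroup.zpowers (a 1) := fun i => by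
    obtain ⟨t, rfl⟩ := ZMod.natCast_zmod_surjective i
    exact ⟨(t : ℤ), by simp [zpow_natCast, a_one_pow]⟩
  have hn : (Subgroup.zpowers (a 1 : QuaternionGroup m)).Normal := by
    refine Subgroup.normal_of_index_eq_two ?_
    have h := (Subgroup.zpowers (a 1 : QuaternionGroup m)).card_mul_index
    rw [Nat.card_zpowers, orderOf_a_one, Nat.card_eq_fintype_card, QuaternionGroup.card] at h
    exact Nat.eq_of_mul_eq_mul_left (show 0 < 2 * m from Nat.pos_of_ne_zero (NeZero.ne _)) (by rw [h]; ring)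
  refine Fus.MetaTwo.isMetacyclic_of_gens (n := a 1) (x := xa 0) hn fun y => ?_
  rcases y with i | i
  · exact ⟨0, by simpa using hz i⟩
  · refine ⟨1, ?_⟩
    rw [zpow_one, show (xa 0)⁻¹ * xa i = (a i : QuaternionGroup m) from by
      rw [inv_mul_eq_iff_eq_mul, xa_mul_a, zero_add]]
    exact hz i

open QuaternionGroup in
theorem quat_unique_invol (m : ℕ) [NeZero m] (x : QuaternionGroup m) (hx : x ≠ 1) (hxx : x * x = 1) :
    x = a (m : ZMod (2 * m)) := by
  rcases x with i | i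
  · rw [a_mul_a, one_def] at hxx
    have hi : i + i = 0 := a.inj hxx
    have h0 : i ≠ 0 := fun h => hx (by rw [h, one_def])
    have h1 : ((i.val + i.val : ℕ) : ZMod (2 * m)) = 0 := by rw [Nat.cast_add, ZMod.natCast_zmod_val]; exact hi
    obtain ⟨c, hc⟩ := (ZMod.natCast_eq_zero_iff _ _).1 h1
    have hlt := ZMod.val_lt i
    have hne : i.val ≠ 0 := fun h => h0 ((ZMod.val_eq_zero i).1 h)
    have : c = 1 := by
      rcases c with _ | _ | c
      · omega
      · rfl
      · exfalso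
        have : 2 * m * 2 ≤ 2 * m * (c + 1 + 1) := Nat.mul_le_mul_left _ (by omega)
        omega
    rw [this, mul_one] at hc
    conv_lhs => rw [← ZMod.natCast_zmod_val i, show i.val = m by omega]
  · exfalso
    have h := orderOf_dvd_of_pow_eq_one (n := 2) (by rw [pow_two]; exact hxx : (xa i : QuaternionGroup m) ^ 2 = 1)
    rw [orderOf_xa] at h
    exact absurd (Nat.le_of_dvd two_pos h) (by norm_num)

/-- Membership in the cyclic group of an element of order dividing four. -/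
def pw {Q : Type*} [Group Q] (x y : Q) : Prop := y = 1 ∨ y = x ∨ y = x * x ∨ y = x * x * x

theorem q8_fact1 : ∀ x y : QuaternionGroup 2, ¬ (y = 1 ∨ y = x ∨ y = x * x ∨ y = x * x * x) → y ≠ 1 → x ≠ 1 → ¬ (x * x = 1 ∧ y * y = 1) := by
  decide +kernel

set_option synthInstance.maxHeartbeats 400000 in
set_option synthInstance.maxSize 512 in
theorem q8_fact2 : ∀ x y : QuaternionGroup 2, ¬ (y = 1 ∨ y = x ∨ y = x * x ∨ y = x * x * x) → x * x ≠ 1 → y * y ≠ 1 →
    (y * x = x⁻¹ * y ∧ y * y = x * x ∧ x * x * x * x = 1 ∧ (∀ s : Fin 4, ∀ t : Fin 2, x ^ s.val * y ^ t.val = 1 → s = 0 ∧ t = 0) ∧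
      (∀ q, ∃ s : Fin 4, ∃ t : Fin 2, q = x ^ s.val * y ^ t.val)) := by
  decide +kernel

set_option synthInstance.maxHeartbeats 400000 in
set_option synthInstance.maxSize 512 in
theorem q8_fact3 : ∀ x y k : QuaternionGroup 2, ¬ (y = 1 ∨ y = x ∨ y = x * x ∨ y = x * x * x) →
    ¬ (k = 1 ∨ k = x ∨ k = x * x ∨ k = x * x * x) → ¬ (k = 1 ∨ k = y ∨ k = y * y ∨ k = y * y * y) →
    x * x ≠ 1 → k * k ≠ 1 → k = x * y ∨ k = y * x := by
  decide +kernel

theorem q8_facts : (∀ x y : QuaternionGroup 2, ¬ pw x y → y ≠ 1 → x ≠ 1 → ¬ (x * x = 1 ∧ y * y = 1)) ∧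
    (∀ x y : QuaternionGroup 2, ¬ pw x y → x * x ≠ 1 → y * y ≠ 1 →
      y * x = x⁻¹ * y ∧ y * y = x * x ∧ x * x * x * x = 1 ∧ (∀ s : Fin 4, ∀ t : Fin 2, x ^ s.val * y ^ t.val = 1 → s = 0 ∧ t = 0) ∧
      (∀ q, ∃ s : Fin 4, ∃ t : Fin 2, q = x ^ s.val * y ^ t.val)) ∧
    (∀ x y k : QuaternionGroup 2, ¬ pw x y → ¬ pw x k → ¬ pw y k → x * x ≠ 1 → k * k ≠ 1 →
      k = x * y ∨ k = y * x) :=
  ⟨q8_fact1, q8_fact2, q8_fact3⟩

theorem q8_facts' {Q : Type*} [Group Q] (e : Q ≃* QuaternionGroup 2) :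
    (∀ x y : Q, ¬ pw x y → y ≠ 1 → x ≠ 1 → ¬ (x * x = 1 ∧ y * y = 1)) ∧
    (∀ x y : Q, ¬ pw x y → x * x ≠ 1 → y * y ≠ 1 →
      y * x = x⁻¹ * y ∧ y * y = x * x ∧ x * x * x * x = 1 ∧ (∀ s : Fin 4, ∀ t : Fin 2, x ^ s.val * y ^ t.val = 1 → s = 0 ∧ t = 0) ∧
      (∀ q, ∃ s : Fin 4, ∃ t : Fin 2, q = x ^ s.val * y ^ t.val)) ∧
    (∀ x y k : Q, ¬ pw x y → ¬ pw x k → ¬ pw y k → x * x ≠ 1 → k * k ≠ 1 →
      k = x * y ∨ k = y * x) := by
  obtain ⟨f1, f2, f3⟩ := q8_facts
  have hpw : ∀ x y : Q, pw (e x) (e y) ↔ pw x y := fun x y => by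
    simp only [pw, ← map_mul, ← map_one e, e.injective.eq_iff]
  have h1 : ∀ x : Q, e x * e x = 1 ↔ x * x = 1 := fun x => by
    rw [← map_mul, ← map_one e, e.injective.eq_iff]
  refine ⟨fun x y h hy hx => ?_, fun x y h hx hy => ?_, fun x y k h h' h'' hx hk => ?_⟩
  · rw [← h1, ← h1]
    exact f1 _ _ ((hpw x y).not.2 h) (by simpa using hy) (by simpa using hx)
  · obtain ⟨a1, a2, a3, a4, a5⟩ := f2 _ _ ((hpw x y).not.2 h) ((h1 x).not.2 hx) ((h1 y).not.2 hy)
    refine ⟨e.injective (by rw [map_mul, map_mul, map_inv]; exact a1),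
      e.injective (by rw [map_mul, map_mul]; exact a2), e.injective (by rw [map_mul, map_mul, map_mul, map_one]; exact a3),
      fun s t hst => a4 s t (by rw [← map_pow, ← map_pow, ← map_mul, hst, map_one]), fun q => ?_⟩
    obtain ⟨s, t, hq⟩ := a5 (e q)
    exact ⟨s, t, e.injective (by rw [map_mul, map_pow, map_pow]; exact hq)⟩
  · rcases f3 _ _ _ ((hpw x y).not.2 h) ((hpw x k).not.2 h') ((hpw y k).not.2 h'') ((h1 x).not.2 hx) ((h1 k).not.2 hk) with r | r
    · exact Or.inl (e.injective (by rw [map_mul]; exact r))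
    · exact Or.inr (e.injective (by rw [map_mul]; exact r))

set_option maxHeartbeats 2000000 in
/-- A quaternion group normalized by an element rotating its three cyclic subgroups of order four. -/
theorem exists_section {G : Type*} [Group G] [Finite G] {Q : Subgroup G} (e : Q ≃* QuaternionGroup 2) {g : G}
    (hg : g ∈ Subgroup.normalizer (Q : Set G)) (hodd : Nat.Coprime (orderOf g) 2)
    (h3 : g ^ 3 ∈ Subgroup.centralizer (Q : Set G)) (x y : Q) (hxy : ¬ pw x y) (hx : x * x ≠ 1)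
    (hgx : g * x * g⁻¹ = (y : G)) (hgy : g * y * g⁻¹ = ((x * y : Q) : G)) :
    ∃ (H K : Subgroup G) (hK : (K.subgroupOf H).Normal),
      Nonempty ((H ⧸ K.subgroupOf H) ≃* Matrix.SpecialLinearGroup (Fin 2) (ZMod 3)) := by
  obtain ⟨f1, f2, f3⟩ := q8_facts' e
  set H := Q ⊔ Subgroup.zpowers g with hH
  set K := Subgroup.zpowers (g ^ 3) with hK
  have hKH : H ≤ Subgroup.normalizer (K : Set G) := by
    refine sup_le (fun q hq => Subgroup.centralizer_le_normalizer _ (Subgroup.mem_centralizer_iff.2 ?_))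
      (Subgroup.zpowers_le.2 (Subgroup.centralizer_le_normalizer _ (Subgroup.mem_centralizer_iff.2 ?_)))
    · rintro _ ⟨i, rfl⟩
      exact (Commute.zpow_left (show Commute (g ^ 3) q from (Subgroup.mem_centralizer_iff.1 h3 q hq).symm) i).eq
    · rintro _ ⟨i, rfl⟩
      exact (((Commute.refl g).pow_left 3).zpow_left i).eq
  have hn : (K.subgroupOf H).Normal := Subgroup.normal_subgroupOf_of_le_normalizer hKH
  refine ⟨H, K, hn, ?_⟩
  have hy : y * y ≠ 1 := fun h => hx (Subtype.ext (by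
    have h1 : (y : G) * y = 1 := congrArg Subtype.val h
    rw [← hgx] at h1
    have h2 : g * ((x : G) * x) * g⁻¹ = 1 := by rw [← h1]; group
    exact conj_eq_one_iff.1 h2))
  obtain ⟨r1, r2, r3, r4, r5⟩ := f2 x y hxy hx hy
  let ι : Q →* H := Subgroup.inclusion le_sup_left
  let π := QuotientGroup.mk' (K.subgroupOf H)
  set γ : H := ⟨g, Subgroup.mem_sup_right (Subgroup.mem_zpowers g)⟩ with hγ
  have hrel : Transfer.SL23.Rel (π (ι x)) (π (ι y)) (π γ) := by
    refine ⟨?_, ?_, ?_, ?_, ?_, ?_⟩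
    · rw [← map_pow, ← map_pow, show x ^ 4 = 1 by rw [← r3, pow_succ, pow_succ, pow_two], map_one, map_one]
    · rw [← map_mul, ← map_mul, ← map_mul, ← map_mul, r2]
    · rw [← map_mul, ← map_mul, r1, map_mul, map_mul, map_inv, map_inv]
    · rw [← map_pow]
      exact (QuotientGroup.eq_one_iff _).2 (Subgroup.mem_zpowers (g ^ 3))
    · rw [← map_inv, ← map_mul, ← map_mul]
      exact congrArg π (Subtype.ext hgx)
    · rw [← map_inv, ← map_mul, ← map_mul, ← map_mul, ← map_mul]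
      exact congrArg π (Subtype.ext hgy)
  refine Transfer.SL23.nonempty_equiv hrel ?_ ?_
  · rintro ⟨s, t, u⟩ h
    have h' : π (ι (x ^ s.val * y ^ t.val) * γ ^ u.val) = 1 := by
      rw [← h]; simp only [Transfer.SL23.ev, map_mul, map_pow]
    have hmem : ((x ^ s.val * y ^ t.val : Q) : G) * g ^ u.val ∈ K :=
      Subgroup.mem_subgroupOf.1 ((QuotientGroup.eq_one_iff (N := K.subgroupOf H) (ι (x ^ s.val * y ^ t.val) * γ ^ u.val)).1 h')
    have hQg : ((x ^ s.val * y ^ t.val : Q) : G) ∈ Subgroup.zpowers g := by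
      have h1 := mul_mem (Subgroup.zpowers_le.2 (pow_mem (Subgroup.mem_zpowers g) 3) hmem)
        (inv_mem (pow_mem (Subgroup.mem_zpowers g) u.val))
      rwa [mul_inv_cancel_right] at h1
    have h1 : x ^ s.val * y ^ t.val = 1 := by
      apply Subtype.ext
      refine orderOf_eq_one_iff.1 (Nat.eq_one_of_dvd_coprimes (hodd.pow_right 3) ?_ ?_)
      · rw [← Nat.card_zpowers g]; exact Subgroup.orderOf_dvd_natCard _ hQg
      · rw [show (2 : ℕ) ^ 3 = Nat.card Q by rw [Nat.card_congr e.toEquiv, Nat.card_eq_fintype_card, QuaternionGroup.card]; norm_num]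
        exact Subgroup.orderOf_dvd_natCard _ (x ^ s.val * y ^ t.val).2
    obtain ⟨hs, ht⟩ := r4 s t h1
    have hu : u = 0 := by
      rw [h1] at hmem
      have hc : g ^ u.val ∈ Subgroup.centralizer (Q : Set G) := Subgroup.zpowers_le.2 h3 (by simpa using hmem)
      by_contra hu
      have hgc : g ∈ Subgroup.centralizer (Q : Set G) := by
        rcases (show u.val = 1 ∨ u.val = 2 by have := u.isLt; have : u.val ≠ 0 := fun e => hu (Fin.ext e); omega) with h | h
        · rw [h, pow_one] at hc; exact hc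
        · rw [h] at hc
          have : g = g ^ 3 * (g ^ 2)⁻¹ := by group
          rw [this]
          exact mul_mem h3 (inv_mem hc)
      refine hxy (Or.inr (Or.inl (Subtype.ext ?_)))
      rw [← hgx, ← Subgroup.mem_centralizer_iff.1 hgc x x.2, mul_inv_cancel_right]
    rw [hs, ht, hu]
  · set C := Subgroup.closure ({π (ι x), π (ι y), π γ} : Set _) with hC
    have hx' : π (ι x) ∈ C := Subgroup.subset_closure (Set.mem_insert _ _)
    have hy' : π (ι y) ∈ C := Subgroup.subset_closure (Set.mem_insert_of_mem _ (Set.mem_insert _ _))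
    have hg' : π γ ∈ C := Subgroup.subset_closure (Set.mem_insert_of_mem _ (Set.mem_insert_of_mem _ rfl))
    have hle : H ≤ (C.comap π).map H.subtype := by
      refine sup_le (fun q hq => ⟨ι ⟨q, hq⟩, ?_, rfl⟩) (Subgroup.zpowers_le.2 ⟨γ, hg', rfl⟩)
      obtain ⟨s, t, hq'⟩ := r5 ⟨q, hq⟩
      show π (ι ⟨q, hq⟩) ∈ C
      rw [hq', map_mul, map_mul, map_pow, map_pow, map_pow, map_pow]
      exact mul_mem (pow_mem hx' _) (pow_mem hy' _)
    refine eq_top_iff.2 fun z _ => ?_
    obtain ⟨w, rfl⟩ := QuotientGroup.mk'_surjective (K.subgroupOf H) z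
    obtain ⟨w', hw', hww⟩ := hle w.2
    rw [show w = w' from Subtype.ext hww.symm]
    exact hw'


/-- A finite group with generalized quaternion Sylow 2-subgroups either has a normal 2-complement or has a section isomorphic to SL(2,3). -/
theorem result {G : Type*} [Group G] [Finite G] (T : Sylow 2 G) (n : ℕ) (hn : 1 ≤ n) (hT : Nonempty ((T : Subgroup G) ≃* QuaternionGroup (2 ^ n))) : Cfsg.HasNormalPComplement 2 G ∨ ∃ (H K : Subgroup G) (hK : (K.subgroupOf H).Normal), Nonempty ((H ⧸ K.subgroupOf H) ≃* Matrix.SpecialLinearGroup (Fin 2) (ZMod 3)) := by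

  by_cases hnpc : Cfsg.HasNormalPComplement 2 G
  · exact Or.inl hnpc
  right
  rw [Transfer.hasNormalPComplement_iff_frobeniusCondition T] at hnpc
  simp only [Transfer.FrobeniusCondition, not_forall] at hnpc
  obtain ⟨Q, hQT, g, hg, hgo, hgc⟩ := hnpc
  obtain ⟨eT⟩ := hT
  let σ : MulAut Q := Q.normalizerMonoidHom ⟨g, hg⟩
  have hσv : ∀ q : Q, ((σ q : Q) : G) = g * q * g⁻¹ := fun q => rfl
  have hσ1 : σ ≠ 1 := fun h => hgc (Subgroup.mem_centralizer_iff.2 fun q hq => by
    have h1 := hσv ⟨q, hq⟩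
    rw [h] at h1
    exact eq_mul_inv_iff_mul_eq.1 h1)
  have hσo : orderOf σ ∣ orderOf g := by
    have := orderOf_map_dvd (Q.normalizerMonoidHom) (⟨g, hg⟩ : Subgroup.normalizer (Q : Set G))
    rwa [Subgroup.orderOf_mk] at this
  have hA : ¬ IsPGroup 2 (MulAut Q) := fun h => by
    obtain ⟨k, hk⟩ := h σ
    exact hσ1 (orderOf_eq_one_iff.1 (Nat.eq_one_of_dvd_coprimes (hgo.pow_right k) hσo (orderOf_dvd_of_pow_eq_one hk)))
  haveI : NeZero (2 ^ n) := ⟨pow_ne_zero _ two_ne_zero⟩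
  have hmT : Cfsg.IsMetacyclic (T : Subgroup G) := by
    obtain ⟨N, x, hN, h⟩ := Fus.MetaTwo.exists_gens (quat_metacyclic (2 ^ n))
    refine Fus.MetaTwo.isMetacyclic_of_gens (n := eT.symm N) (x := eT.symm x) ?_ fun y => ?_
    · have := hN.map eT.symm.toMonoidHom eT.symm.surjective
      rwa [MonoidHom.map_zpowers] at this
    · obtain ⟨i, hi⟩ := h (eT y)
      obtain ⟨j, hj⟩ := Subgroup.mem_zpowers_iff.1 hi
      refine ⟨i, j, ?_⟩
      show eT.symm N ^ j = _
      rw [← map_zpow, hj, map_mul, map_inv, map_zpow, eT.symm_apply_apply]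
  let eQ := Subgroup.subgroupOfEquivOfLe hQT
  have hmQ : Cfsg.IsMetacyclic Q := by
    obtain ⟨N, x, hN, h⟩ := Fus.MetaTwo.exists_gens (Fus.MetaTwo.isMetacyclic_subgroup hmT (Q.subgroupOf T))
    refine Fus.MetaTwo.isMetacyclic_of_gens (n := eQ N) (x := eQ x) ?_ fun y => ?_
    · have := hN.map eQ.toMonoidHom eQ.surjective
      rwa [MonoidHom.map_zpowers] at this
    · obtain ⟨i, hi⟩ := h (eQ.symm y)
      obtain ⟨j, hj⟩ := Subgroup.mem_zpowers_iff.1 hi
      refine ⟨i, j, ?_⟩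
      show eQ N ^ j = _
      rw [← map_zpow, hj, map_mul, map_inv, map_zpow, eQ.apply_symm_apply]
  have hQ2 : IsPGroup 2 Q := T.isPGroup'.to_le hQT
  have huniq : ∀ a b : Q, a ≠ 1 → b ≠ 1 → a * a = 1 → b * b = 1 → a = b := fun a b ha hb haa hbb => by
    let f : Q →* QuaternionGroup (2 ^ n) := eT.toMonoidHom.comp (Subgroup.inclusion hQT)
    have hf : Function.Injective f := eT.injective.comp (Subgroup.inclusion_injective hQT)
    refine hf ((quat_unique_invol _ (f a) ?_ ?_).trans (quat_unique_invol _ (f b) ?_ ?_).symm)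
    · exact fun h => ha (hf (h.trans (map_one f).symm))
    · rw [← map_mul, haa, map_one]
    · exact fun h => hb (hf (h.trans (map_one f).symm))
    · rw [← map_mul, hbb, map_one]
  rcases Fus.MetaTwo.classify_of_not_isPGroup hQ2 hmQ hA with ⟨⟨e⟩⟩ | ⟨m, ⟨e⟩⟩
  swap
  · exfalso
    rcases m with _ | m
    · refine hgc (Subgroup.mem_centralizer_iff.2 fun q hq => ?_)
      haveI : Subsingleton (ZMod (2 ^ 0)) := by rw [pow_zero]; infer_instance
      have : (⟨q, hq⟩ : Q) = 1 := e.injective (Subsingleton.elim _ _)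
      rw [show q = 1 from congrArg Subtype.val this, one_mul, mul_one]
    · have hne : ((2 ^ m : ℕ) : ZMod (2 ^ (m + 1))) ≠ 0 := fun h => by
        have h' := Nat.le_of_dvd (Nat.two_pow_pos m) ((ZMod.natCast_eq_zero_iff _ _).1 h)
        rw [pow_succ] at h'
        have := Nat.two_pow_pos m
        omega
      have htwo : ((2 ^ m : ℕ) : ZMod (2 ^ (m + 1))) + ((2 ^ m : ℕ) : ZMod (2 ^ (m + 1))) = 0 := by
        rw [← Nat.cast_add, ZMod.natCast_eq_zero_iff, pow_succ, mul_two]
      set c := Multiplicative.ofAdd ((2 ^ m : ℕ) : ZMod (2 ^ (m + 1)))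
      have hc1 : c ≠ 1 := hne
      have hcc : c * c = 1 := htwo
      have := huniq (e.symm (c, 1)) (e.symm (1, c)) (by simp [hc1]) (by simp [hc1])
        (by rw [← map_mul, Prod.mk_mul_mk, hcc, one_mul]; exact map_one _)
        (by rw [← map_mul, Prod.mk_mul_mk, hcc, one_mul]; exact map_one _)
      exact hc1 (Prod.mk.injEq _ _ _ _ |>.mp (e.symm.injective this)).1
  have hσ3 : σ ^ 3 = 1 := by
    have h1 : orderOf σ ∣ 24 := (orderOf_dvd_natCard σ).trans
      ((Nat.card_congr (MulAut.congr e).toEquiv).dvd.trans Block.SharpTwo.q8_aut_card_dvd)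
    have h2 : Nat.Coprime (orderOf σ) 8 := (Nat.Coprime.coprime_dvd_left hσo hgo).pow_right 3
    exact orderOf_dvd_iff_pow_eq_one.1 (h2.dvd_of_dvd_mul_left (m := 8) (by simpa using h1))
  have hg3 : g ^ 3 ∈ Subgroup.centralizer (Q : Set G) := Subgroup.mem_centralizer_iff.2 fun q hq => by
    have h1 : ((σ ^ 3) ⟨q, hq⟩ : Q) = ⟨q, hq⟩ := by rw [hσ3]; rfl
    have h2 : g * (g * (g * q * g⁻¹) * g⁻¹) * g⁻¹ = q := congrArg Subtype.val h1
    calc q * g ^ 3 = g * (g * (g * q * g⁻¹) * g⁻¹) * g⁻¹ * g ^ 3 := by rw [h2]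
      _ = g ^ 3 * q := by rw [pow_succ, pow_succ, pow_one]; group
  have hσσσ : ∀ q : Q, σ (σ (σ q)) = q := fun q => DFunLike.congr_fun hσ3 q
  obtain ⟨f1, f2, f3⟩ := q8_facts' e
  obtain ⟨x, hx⟩ : ∃ x : Q, ¬ pw x (σ x) := by
    by_contra hcon
    push Not at hcon
    refine hσ1 (MulEquiv.ext fun q => ?_)
    have hq4 : q * q * q * q = 1 := e.injective (by
      rw [map_mul, map_mul, map_mul, map_one]
      exact (show ∀ z : QuaternionGroup 2, z * z * z * z = 1 by decide) (e q))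
    show σ q = q
    rcases hcon q with h | h | h | h
    · rw [h]; exact ((map_eq_one_iff σ σ.injective).1 h).symm
    · exact h
    · have h1 : σ (σ q) = 1 := by rw [h, map_mul, h, ← mul_assoc]; exact hq4
      have : q = 1 := (map_eq_one_iff σ σ.injective).1 ((map_eq_one_iff σ σ.injective).1 h1)
      rw [this, map_one]
    · have h1 : σ (σ q) = q := by
        rw [h, map_mul, map_mul, h]
        calc q * q * q * (q * q * q) * (q * q * q) = (q * q * q * q) * (q * q * q * q) * q := by simp only [mul_assoc]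
          _ = q := by rw [hq4, one_mul, one_mul]
      have h2 := hσσσ q
      rw [h1] at h2
      exact h2
  have hxx : x * x ≠ 1 := fun h => by
    rcases eq_or_ne x 1 with rfl | hx1
    · exact hx (Or.inl (map_one σ))
    · exact f1 x (σ x) hx ((map_ne_one_iff σ σ.injective).2 hx1) hx1 ⟨h, by rw [← map_mul, h, map_one]⟩
  set y := σ x with hy
  set k := σ y with hk
  have hpσ : ∀ a b : Q, pw (σ a) (σ b) ↔ pw a b := fun a b => by
    simp only [pw, ← map_mul, σ.injective.eq_iff, map_eq_one_iff σ σ.injective]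
  have hyk : ¬ pw y k := (hpσ x y).not.2 hx
  have hxk : ¬ pw x k := fun h => by
    -- then conjugating twice returns into the same cyclic group
    have hkx : ¬ pw k x := by
      have := (hpσ y k).not.2 hyk
      rwa [show σ k = x from hσσσ x] at this
    refine hkx ?_
    have hq4 : x * x * x * x = 1 := (f2 x y hx hxx (by rw [hy, ← map_mul, map_ne_one_iff σ σ.injective]; exact hxx)).2.2.1
    have hxk2 : k * k ≠ 1 := by rw [hk, hy, ← map_mul, ← map_mul, map_ne_one_iff σ σ.injective, map_ne_one_iff σ σ.injective]; exact hxx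
    rcases h with h | h | h | h
    · exact absurd (by rw [h, one_mul]) hxk2
    · exact Or.inr (Or.inl h.symm)
    · exact absurd (by rw [h, ← mul_assoc]; exact hq4) hxk2
    · refine Or.inr (Or.inr (Or.inr ?_))
      rw [h]
      calc x = (x * x * x * x) * (x * x * x * x) * x := by rw [hq4, one_mul, one_mul]
        _ = x * x * x * (x * x * x) * (x * x * x) := by simp only [mul_assoc]
  have hyy : y * y ≠ 1 := by rw [hy, ← map_mul, map_ne_one_iff σ σ.injective]; exact hxx
  have hkk : k * k ≠ 1 := by rw [hk, ← map_mul, map_ne_one_iff σ σ.injective]; exact hyy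
  rcases f3 x y k hx hxk hyk hxx hkk with h | h
  · exact exists_section e hg hgo hg3 x y hx hxx (hσv x).symm (by rw [← hσv y, ← hk, h])
  · have hinv : g⁻¹ ∈ Subgroup.normalizer (Q : Set G) := inv_mem hg
    have hgi : ∀ a b : Q, σ a = b → g⁻¹ * b * g⁻¹⁻¹ = (a : G) := fun a b hab => by
      rw [← hab, hσv]; group
    have hxy : y = x * k := by
      obtain ⟨r1, r2, -⟩ := f2 x y hx hxx hyy
      rw [h, r1, mul_inv_cancel_left]
    refine exists_section e hinv (by rwa [orderOf_inv]) (by rw [inv_pow]; exact inv_mem hg3) x k hxk hxx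
      (hgi k x (hσσσ x)) ?_
    rw [hgi y k hk.symm, ← hxy]

end Cfsg.Agent.S0106
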