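import Cfsg.Statements.S4249
import Cfsg.Agent.Lib.Recog.Hughes
import Cfsg.Agent.Lib.Grp.Cores
import Cfsg.Agent.Lib.Grp.Solvable
import Cfsg.Agent.Lib.Grp.Frattini

set_option autoImplicit false
open Cfsg

namespace Cfsg.Agent.S4249

open Cfsg.Agent Cfsg.Agent.Hughes
open scoped Pointwise IsMulCommutative

universe u

/-- A characteristic subgroup of a normal subgroup gives a normal subgroup. -/
theorem minimal_below {G : Type u} [Group G] [Finite G] (R : Subgroup G) [R.Normal] (hR : R ≠ ⊥) :
    ∃ N : Subgroup G, N.Normal ∧ N ≠ ⊥ ∧ N ≤ R ∧ ∀ M : Subgroup G, M.Normal → M ≤ N → M = ⊥ ∨ M = N := by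
  obtain ⟨N, ⟨hn, hb, hle⟩, hmin⟩ :=
    wellFounded_lt.has_min {N : Subgroup G | N.Normal ∧ N ≠ ⊥ ∧ N ≤ R} ⟨R, inferInstance, hR, le_rfl⟩
  refine ⟨N, hn, hb, hle, fun M hM hMN => ?_⟩
  by_contra hc
  push Not at hc
  exact hmin M ⟨hM, hc.1, hMN.trans hle⟩ (lt_of_le_of_ne hMN hc.2)

theorem commute_of_nilpotent {X : Type u} [Group X] [Finite X] (h : Group.IsNilpotent X) (x y : X)
    (hxy : (orderOf x).Coprime (orderOf y)) : x * y = y * x := by
  obtain ⟨φ⟩ := ((isNilpotent_of_finite_tfae (G := X)).out 0 4).mp h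
  have key : φ.symm x * φ.symm y = φ.symm y * φ.symm x := by
    funext r P'
    haveI := Fact.mk (Nat.prime_of_mem_primeFactors r.2)
    obtain ⟨i, hi⟩ := IsPGroup.iff_orderOf.mp P'.2 (φ.symm x r P')
    obtain ⟨j, hj⟩ := IsPGroup.iff_orderOf.mp P'.2 (φ.symm y r P')
    have dd : ∀ z : X, orderOf (φ.symm z r P') ∣ orderOf z := fun z =>
      orderOf_dvd_of_pow_eq_one (by
        rw [← Pi.pow_apply, ← Pi.pow_apply, ← map_pow, pow_orderOf_eq_one, map_one]; rfl)
    show φ.symm x r P' * φ.symm y r P' = φ.symm y r P' * φ.symm x r P'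
    by_cases hi0 : φ.symm x r P' = 1
    · simp [hi0]
    by_cases hj0 : φ.symm y r P' = 1
    · simp [hj0]
    exfalso
    have h1 : i ≠ 0 := fun h0 => hi0 (orderOf_eq_one_iff.mp (by rw [hi, h0, pow_zero]))
    have h2 : j ≠ 0 := fun h0 => hj0 (orderOf_eq_one_iff.mp (by rw [hj, h0, pow_zero]))
    exact (Nat.prime_of_mem_primeFactors r.2).one_lt.ne' (Nat.eq_one_of_dvd_coprimes hxy
      ((dvd_pow_self _ h1).trans (hi ▸ dd x)) ((dvd_pow_self _ h2).trans (hj ▸ dd y)))
  simpa using congrArg φ key

theorem aux (n : ℕ) : ∀ (G : Type u) [Group G] [Finite G], Nat.card G = n → ∀ (p : ℕ), p.Prime →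
    ∀ (H : Subgroup G), H.Normal → H ≠ ⊤ → (∀ g : G, g ∉ H → g ^ p = 1) → Group.IsNilpotent H := by
  induction n using Nat.strong_induction_on with
  | _ n ih =>
  intro G _ _ hn p hp H hHn hHtop hout
  classical
  haveI := hHn
  rcases eq_or_ne H ⊥ with rfl | hHb
  · infer_instance
  -- proper subgroups not inside `H`
  have hsub : ∀ M : Subgroup G, M ≠ ⊤ → ¬ M ≤ H → Group.IsNilpotent ↥(H ⊓ M) := by
    intro M hM hMH
    have := ih (Nat.card M) (by
      rw [← hn]; exact lt_of_le_of_ne (Nat.le_of_dvd Nat.card_pos M.card_subgroup_dvd_card)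
        (fun h => hM (Subgroup.eq_top_of_card_eq _ h))) M rfl p hp (H.subgroupOf M) inferInstance
      (fun h => hMH (Subgroup.subgroupOf_eq_top.mp h))
      (fun g hg => Subtype.ext (by rw [Subgroup.coe_pow]; exact hout g hg))
    let f : ↥(H ⊓ M) →* ↥(H.subgroupOf M) :=
      (Subgroup.inclusion (inf_le_right : H ⊓ M ≤ M)).codRestrict _ fun x => x.2.1
    exact Subgroup.isNilpotent_of_ker_le_center f (fun x hx => by
      have : x = 1 := Subtype.ext (congrArg (fun y : ↥(H.subgroupOf M) => ((y : M) : G)) hx)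
      rw [this]; exact Subgroup.one_mem _)
  obtain ⟨t0, -, ht0⟩ := SetLike.exists_of_lt (lt_top_iff_ne_top.mpr hHtop)
  have hfrat : ∀ (q : ℕ) [Fact q.Prime] (Q : Sylow q H),
      ¬ Subgroup.normalizer (((Q : Subgroup H).map H.subtype : Subgroup G) : Set G) ≤ H := by
    intro q _ Q hle
    have h := Sylow.normalizer_sup_eq_top Q
    rw [sup_eq_right.mpr hle] at h
    exact hHtop h
  -- some prime has nontrivial core in `H`
  have hcore : ∃ q : ℕ, q.Prime ∧ ∃ R : Subgroup G, R.Normal ∧ R ≤ H ∧ R ≠ ⊥ ∧ IsPGroup q R := by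
    by_contra hnone
    push Not at hnone
    have hcompl : ∀ q : ℕ, [Fact q.Prime] → q ≠ 2 → HasNormalPComplement q H := by
      intro q _ hq2
      obtain ⟨Q⟩ : Nonempty (Sylow q H) := inferInstance
      by_cases hQ : (Q : Subgroup H) = ⊥
      · apply Transfer.hasNormalPComplement_of_not_dvd_card
        intro hd
        exact Q.ne_bot_of_dvd_card hd hQ
      set Q' := (Q : Subgroup H).map H.subtype
      have hQ'p : IsPGroup q Q' := Q.2.map _
      have hQ'b : Q' ≠ ⊥ := by
        rw [ne_eq, Subgroup.map_eq_bot_iff_of_injective _ H.subtype_injective]; exact hQ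
      have hW : ∀ i, IsCharPFunctor q (Invol.zjFunctors i) := Invol.isCharPFunctor_zjFunctors
      have hloc : ∀ i, HasNormalPComplement q
          ↥(Subgroup.normalizer ((inducedFunctor (Invol.zjFunctors i) Q' : Subgroup G) : Set G) ⊓ H) := by
        intro i
        set W := inducedFunctor (Invol.zjFunctors i) Q'
        have hWle : W ≤ Q' := Subgroup.map_subtype_le _
        have hMH : ¬ Subgroup.normalizer (W : Set G) ≤ H := fun h =>
          hfrat q Q ((Invol.normalizer_le_normalizer_inducedFunctor (hW i) hQ'p).trans h)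
        have hMtop : Subgroup.normalizer (W : Set G) ≠ ⊤ := by
          intro htop
          haveI : W.Normal := Subgroup.normalizer_eq_top_iff.mp htop
          exact hnone q Fact.out W inferInstance (hWle.trans (Subgroup.map_subtype_le _))
            (Invol.inducedFunctor_ne_bot (hW i) hQ'p hQ'b) (hQ'p.to_le hWle)
        haveI := hsub _ hMtop hMH
        rw [inf_comm]
        exact nilpotent_has_complement inferInstance
      have hmapJ : (thompsonSubgroupAOf (Q : Subgroup H)).map H.subtype =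
          inducedFunctor (Invol.zjFunctors false) Q' := by
        change _ = (thompsonSubgroupA Q').map Q'.subtype
        let e := (Q : Subgroup H).equivMapOfInjective H.subtype H.subtype_injective
        have he : thompsonSubgroupA Q' = (thompsonSubgroupA (Q : Subgroup H)).map e.toMonoidHom :=
          (Invol.map_thompsonSubgroupA e).symm
        rw [he, thompsonSubgroupAOf, Subgroup.map_map, Subgroup.map_map]
        rfl
      have hmapZ : ((Q : Subgroup H) ⊓ Subgroup.centralizer ((Q : Subgroup H) : Set H)).map H.subtype =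
          inducedFunctor (Invol.zjFunctors true) Q' := by
        change _ = inducedFunctor (fun Q [Group Q] => Subgroup.center Q) Q'
        rw [Invol.inducedFunctor_center]
        ext x
        constructor
        · rintro ⟨y, ⟨hy1, hy2⟩, rfl⟩
          refine ⟨⟨y, hy1, rfl⟩, ?_⟩
          rintro _ ⟨c, hc, rfl⟩
          exact congrArg Subtype.val (Subgroup.mem_centralizer_iff.mp hy2 c hc)
        · rintro ⟨⟨y, hy1, rfl⟩, hy2⟩
          exact ⟨y, ⟨hy1, fun c hc => Subtype.ext
            (Subgroup.mem_centralizer_iff.mp hy2 _ ⟨c, hc, rfl⟩)⟩, rfl⟩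
      have pull : ∀ (W : Subgroup H) (M : Subgroup H), M ≤ Subgroup.normalizer (W : Set H) →
          HasNormalPComplement q ↥(Subgroup.normalizer ((W.map H.subtype : Subgroup G) : Set G) ⊓ H) →
          HasNormalPComplement q M := by
        intro W M hMW h
        let g : M →* ↥(Subgroup.normalizer ((W.map H.subtype : Subgroup G) : Set G) ⊓ H) :=
          (H.subtype.comp M.subtype).codRestrict _ fun m =>
            ⟨Subgroup.le_normalizer_map H.subtype (Subgroup.mem_map_of_mem _ (hMW m.2)), m.1.2⟩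
        exact Transfer.hasNormalPComplement_of_injective g
          (fun a b hab => Subtype.ext (Subtype.ext (congrArg (fun x : ↥(Subgroup.normalizer ((W.map H.subtype : Subgroup G) : Set G) ⊓ H) => (x : G)) hab))) h
      refine S2800.result Q (Or.inl hq2) ?_ ?_
      · refine pull ((Q : Subgroup H) ⊓ Subgroup.centralizer ((Q : Subgroup H) : Set H)) _ ?_
          (hmapZ.symm ▸ hloc true)
        exact Subgroup.centralizer_le_normalizer _
      · exact pull _ _ le_rfl (hmapJ.symm ▸ hloc false)
    -- `H` maps to a product of `q`-groups with trivial kernel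
    apply hHb
    have hK : ∀ q : {q : ℕ // q ∈ (Nat.card H).primeFactors ∧ q ≠ 2},
        ∃ K : Subgroup H, K.Normal ∧ ¬ (q : ℕ) ∣ Nat.card K ∧ ∃ k, K.index = (q : ℕ) ^ k := fun q => by
      haveI := Fact.mk (Nat.prime_of_mem_primeFactors q.2.1)
      exact Transfer.hasNormalPComplement_iff_exists.mp (hcompl q q.2.2)
    choose K hKn hKp hKi using hK
    haveI := hKn
    let f : H →* ∀ q, H ⧸ K q := MonoidHom.pi fun q => QuotientGroup.mk' (K q)
    have hker : IsPGroup 2 f.ker := by
      intro x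
      refine ⟨(Nat.card f.ker).factorization 2, ?_⟩
      have hdvd : orderOf x ∣ 2 ^ (Nat.card f.ker).factorization 2 := by
        have hall : ∀ r, r.Prime → r ∣ Nat.card f.ker → r = 2 := by
          intro r hr hrd
          by_contra hr2
          have hrH : r ∈ (Nat.card H).primeFactors :=
            Nat.mem_primeFactors.mpr ⟨hr, hrd.trans f.ker.card_subgroup_dvd_card, Nat.card_pos.ne'⟩
          refine hKp ⟨r, hrH, hr2⟩ (hrd.trans (Subgroup.card_dvd_of_le fun y hy => ?_))
          exact (QuotientGroup.eq_one_iff y).mp (congrFun hy ⟨r, hrH, hr2⟩)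
        rw [← Nat.eq_pow_of_factorization_eq_single (Nat.card_pos (α := f.ker)).ne'
          (p := 2) (k := (Nat.card f.ker).factorization 2) ?_]
        · exact orderOf_dvd_natCard x
        · ext r
          by_cases hr : r = 2
          · simp [hr]
          · rw [Finsupp.single_apply, if_neg (Ne.symm hr)]
            by_contra h0
            have hm := Nat.support_factorization (Nat.card f.ker) ▸ Finsupp.mem_support_iff.mpr h0
            exact hr (hall r (Nat.prime_of_mem_primeFactors hm) (Nat.dvd_of_mem_primeFactors hm))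
      exact orderOf_dvd_iff_pow_eq_one.mp hdvd
    have hfker : f.ker = ⊥ := by
      haveI : (pCore 2 H).Normal := Grp.pCore_isNormal
      have h2 : pCore 2 H = ⊥ := by
        have h := hnone 2 Nat.prime_two ((pCore 2 H).map H.subtype) inferInstance (Subgroup.map_subtype_le _)
        by_contra hne
        exact h (by rw [ne_eq, Subgroup.map_eq_bot_iff_of_injective _ H.subtype_injective]; exact hne)
          (Grp.pCore_isPGroup.map _)
      exact le_bot_iff.mp (h2 ▸ Grp.le_pCore inferInstance hker)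
    haveI : ∀ q, Group.IsNilpotent (H ⧸ K q) := fun q => by
      haveI := Fact.mk (Nat.prime_of_mem_primeFactors q.2.1)
      obtain ⟨k, hk⟩ := hKi q
      exact (IsPGroup.of_card (n := k) (by rw [← hk]; exact (K q).index_eq_card.symm) :
        IsPGroup (q : ℕ) (H ⧸ K q)).isNilpotent
    haveI : Finite {q : ℕ // q ∈ (Nat.card H).primeFactors ∧ q ≠ 2} :=
      Finite.of_injective (fun q => (⟨q.1, q.2.1⟩ : (Nat.card H).primeFactors)) (fun a b h => Subtype.ext (by simpa using h))
    haveI : Group.IsNilpotent H := Subgroup.isNilpotent_of_ker_le_center f (by rw [hfker]; exact bot_le)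
    -- but then a Sylow subgroup is normal in `G`
    by_contra hne
    obtain ⟨q, hq, hqd⟩ := Nat.exists_prime_and_dvd (n := Nat.card H)
      (fun h => hne (Subgroup.card_eq_one.mp h))
    haveI := Fact.mk hq
    obtain ⟨Q⟩ : Nonempty (Sylow q H) := inferInstance
    haveI : (Q : Subgroup H).Normal :=
      Sylow.normal_of_normalizerCondition normalizerCondition_of_isNilpotent Q
    haveI := Sylow.characteristic_of_normal Q inferInstance
    exact hnone q hq ((Q : Subgroup H).map H.subtype) inferInstance (Subgroup.map_subtype_le _)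
      (by rw [ne_eq, Subgroup.map_eq_bot_iff_of_injective _ H.subtype_injective]
          exact Q.ne_bot_of_dvd_card hqd) (Q.2.map _)
  obtain ⟨r, hr, R, hRn, hRH, hRb, hRp⟩ := hcore
  haveI := Fact.mk hr
  haveI := hRn
  obtain ⟨N, hNn, hNb, hNR, hNmin⟩ := minimal_below R hRb
  haveI := hNn
  have hNH : N ≤ H := hNR.trans hRH
  haveI : Group.IsSolvable N := by haveI := (hRp.to_le hNR).isNilpotent; infer_instance
  obtain ⟨hNab, r', hr', hNexp⟩ := Grp.minimal_normal_solvable (G := G) (N := N) inferInstance hNb hNmin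
  haveI := hNab
  have hrr : r' = r := by
    obtain ⟨x, hxN, hx1⟩ := N.bot_or_exists_ne_one.resolve_left hNb
    obtain ⟨k, hk⟩ := IsPGroup.iff_orderOf.mp (hRp.to_le hNR) ⟨x, hxN⟩
    rw [Subgroup.orderOf_mk] at hk
    have h1 : orderOf x = r' := ((Nat.dvd_prime hr').mp (orderOf_dvd_of_pow_eq_one (hNexp x hxN))).resolve_left
      (fun h => hx1 (orderOf_eq_one_iff.mp h))
    exact (Nat.prime_dvd_prime_iff_eq hr' hr).mp (hr'.dvd_of_dvd_pow (n := k) (by rw [← hk, h1]))
  subst hrr
  have hNr : ∀ x ∈ N, (orderOf x) ∣ r' := fun x hx => orderOf_dvd_of_pow_eq_one (hNexp x hx)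
  have hNpg : IsPGroup r' N := hRp.to_le hNR
  -- the quotient is nilpotent
  haveI hquot : Group.IsNilpotent ↥(H.map (QuotientGroup.mk' N)) := by
    refine ih (Nat.card (G ⧸ N)) ?_ (G ⧸ N) rfl p hp _ (Subgroup.Normal.map inferInstance _ (QuotientGroup.mk'_surjective N)) ?_ ?_
    · rw [← hn, Subgroup.card_eq_card_quotient_mul_card_subgroup N]
      exact lt_mul_of_one_lt_right Nat.card_pos ((Subgroup.one_lt_card_iff_ne_bot N).mpr hNb)
    · intro h
      apply hHtop
      have := congrArg (Subgroup.comap (QuotientGroup.mk' N)) h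
      rwa [Subgroup.comap_map_eq, QuotientGroup.ker_mk', sup_eq_left.mpr hNH, Subgroup.comap_top] at this
    · intro g hg
      obtain ⟨g, rfl⟩ := QuotientGroup.mk'_surjective N g
      rw [← map_pow, hout g (fun h => hg (Subgroup.mem_map_of_mem _ h)), map_one]
  let π : H →* H.map (QuotientGroup.mk' N) := (QuotientGroup.mk' N).subgroupMap H
  refine Subgroup.isNilpotent_of_ker_le_center π ?_
  intro x hx
  have hxN : (x : G) ∈ N := (QuotientGroup.eq_one_iff _).mp (congrArg Subtype.val hx)
  rw [Subgroup.mem_center_iff]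
  -- every prime-power element of `H` centralizes `N`
  suffices key : ∀ (q : ℕ) [Fact q.Prime] (Q : Sylow q H), ∀ u ∈ (Q : Subgroup H), ∀ m ∈ N,
      (u : G) * m = m * u by
    have hgen : (Subgroup.centralizer ({x} : Set H)) = ⊤ := by
      rw [← Subgroup.index_eq_one]
      by_contra hne
      obtain ⟨q, hq, hqd⟩ := Nat.exists_prime_and_dvd hne
      haveI := Fact.mk hq
      obtain ⟨Q⟩ : Nonempty (Sylow q H) := inferInstance
      refine Q.not_dvd_index (hqd.trans (Subgroup.index_dvd_of_le fun u hu => ?_))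
      exact Subgroup.mem_centralizer_singleton_iff.mpr (Subtype.ext (key q Q u hu x hxN))
    intro g
    exact Subgroup.mem_centralizer_singleton_iff.mp (hgen ▸ Subgroup.mem_top g)
  intro q _ Q
  set Q' := (Q : Subgroup H).map H.subtype with hQ'
  have hQ'p : IsPGroup q Q' := Q.2.map _
  -- `Q' N` is normal in `G`
  have hQNn : (Q' ⊔ N).Normal := by
    haveI : ((Q.mapSurjective (f := π) (MonoidHom.subgroupMap_surjective _ _) :
        Sylow q ↥(H.map (QuotientGroup.mk' N))) : Subgroup ↥(H.map (QuotientGroup.mk' N))).Normal :=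
      Sylow.normal_of_normalizerCondition normalizerCondition_of_isNilpotent
        (Q.mapSurjective (f := π) (MonoidHom.subgroupMap_surjective _ _) : Sylow q ↥(H.map (QuotientGroup.mk' N)))
    haveI := Sylow.characteristic_of_normal
      (Q.mapSurjective (f := π) (MonoidHom.subgroupMap_surjective _ _)) inferInstance
    haveI : (H.map (QuotientGroup.mk' N)).Normal :=
      Subgroup.Normal.map inferInstance _ (QuotientGroup.mk'_surjective N)
    have h1 : Q'.map (QuotientGroup.mk' N) =
        ((Q.mapSurjective (f := π) (MonoidHom.subgroupMap_surjective _ _) :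
          Sylow q ↥(H.map (QuotientGroup.mk' N))) : Subgroup _).map (H.map (QuotientGroup.mk' N)).subtype := by
      rw [Sylow.coe_mapSurjective, hQ', Subgroup.map_map, Subgroup.map_map]
      rfl
    have h2 : (Q'.map (QuotientGroup.mk' N)).Normal := h1 ▸ inferInstance
    have := h2.comap (QuotientGroup.mk' N)
    rwa [Subgroup.comap_map_eq, QuotientGroup.ker_mk'] at this
  -- common fixed points form a normal subgroup
  let F : Subgroup G := N ⊓ Subgroup.centralizer ((Q' ⊔ N : Subgroup G) : Set G)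
  have hFn : F.Normal := by
    refine ⟨fun m hm g => ⟨hNn.conj_mem m hm.1 g, ?_⟩⟩
    show g * m * g⁻¹ ∈ Subgroup.centralizer ((Q' ⊔ N : Subgroup G) : Set G)
    rw [Subgroup.mem_centralizer_iff]
    intro c hc
    have h' := Subgroup.mem_centralizer_iff.mp hm.2 _ (by simpa using hQNn.conj_mem c hc g⁻¹)
    calc c * (g * m * g⁻¹) = g * ((g⁻¹ * c * g) * m) * g⁻¹ := by group
      _ = g * (m * (g⁻¹ * c * g)) * g⁻¹ := by rw [h']
      _ = g * m * g⁻¹ * c := by group
  suffices hFN : F = N by
    intro u hu m hm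
    have : m ∈ F := hFN.symm ▸ hm
    exact Subgroup.mem_centralizer_iff.mp this.2 u (Subgroup.mem_sup_left ⟨u, hu, rfl⟩)
  rcases hNmin F hFn inf_le_left with hF | hF
  swap
  · exact hF
  exfalso
  have hfixbot : ∀ m ∈ N, (∀ u ∈ Q', u * m = m * u) → m = 1 := by
    intro m hm hu
    have : m ∈ F := by
      refine ⟨hm, ?_⟩
      show m ∈ Subgroup.centralizer ((Q' ⊔ N : Subgroup G) : Set G)
      have hle : Q' ⊔ N ≤ Subgroup.centralizer ({m} : Set G) := sup_le
        (fun u hu' => Subgroup.mem_centralizer_singleton_iff.mpr (hu u hu'))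
        (fun k hk => Subgroup.mem_centralizer_singleton_iff.mpr
          (congrArg Subtype.val (hNab.is_comm.comm ⟨k, hk⟩ ⟨m, hm⟩)))
      exact Subgroup.mem_centralizer_iff.mpr fun c hc =>
        Subgroup.mem_centralizer_singleton_iff.mp (hle hc)
    rw [hF, Subgroup.mem_bot] at this
    exact this
  by_cases hqr : q = r'
  · subst hqr
    -- a `q`-group acting on a `q`-group has fixed points
    have hT : IsPGroup q ↥(Q' ⊔ N) := hQ'p.to_sup_of_normal_right hNpg
    haveI := hT.isNilpotent
    haveI : Nontrivial ↥(Q' ⊔ N) := (Subgroup.nontrivial_iff_ne_bot _).mpr fun h => hNb (le_bot_iff.mp (h ▸ le_sup_right))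
    obtain ⟨m, hm, hm1⟩ := Subgroup.bot_or_exists_ne_one
      ((N.subgroupOf (Q' ⊔ N)) ⊓ Subgroup.center ↥(Q' ⊔ N)) |>.resolve_left
      (Grp.inf_center_ne_bot (N.subgroupOf (Q' ⊔ N))
        (fun h => hNb (by
          rw [Subgroup.subgroupOf_eq_bot] at h
          exact (inf_eq_left.mpr (le_sup_right : N ≤ Q' ⊔ N)).symm.trans h.eq_bot)))
    exact hm1 (Subtype.ext (hfixbot m hm.1 fun u hu =>
      congrArg Subtype.val (Subgroup.mem_center_iff.mp hm.2 ⟨u, Subgroup.mem_sup_left hu⟩)))
  have hNQ : (Nat.card N).Coprime (Nat.card Q') := IsPGroup.coprime_card_of_ne r' q (Ne.symm hqr) N Q' hNpg hQ'p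
  obtain ⟨t, htN, htH⟩ := SetLike.not_le_iff_exists.mp (hfrat q Q)
  have htu : ∀ h ∈ H, (t * h) ^ p = 1 := fun h hh =>
    hout _ fun hc => htH ((H.mul_mem_cancel_right hh).mp hc)
  have hQ'H : Q' ≤ H := Subgroup.map_subtype_le _
  by_cases hqp : q = p
  · subst hqp
    -- pair trick
    obtain ⟨P, hP⟩ := hQ'p.exists_le_sylow
    obtain ⟨b, hbP, hbH⟩ : ∃ b ∈ (P : Subgroup G), b ∉ H := by
      by_contra hc
      push Not at hc
      have hd : q ∣ H.index := by
        rw [Subgroup.index_eq_card]
        haveI : Nontrivial (G ⧸ H) := ⟨⟨(t : G ⧸ H), 1, fun h => htH ((QuotientGroup.eq_one_iff t).mp h)⟩⟩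
        have : orderOf (t : G ⧸ H) = q := orderOf_eq_prime
          (by rw [← QuotientGroup.mk_pow, show t ^ q = 1 by simpa using htu 1 H.one_mem]; rfl)
          (fun h => htH ((QuotientGroup.eq_one_iff t).mp h))
        exact this ▸ orderOf_dvd_natCard _
      exact P.not_dvd_index (hd.trans (Subgroup.index_dvd_of_le hc))
    -- elements of `P ∩ H` modulo the kernel of the action on `N`
    let C := Subgroup.centralizer (N : Set G)
    haveI : C.Normal := ⟨fun c hc g => Subgroup.mem_centralizer_iff.mpr fun m hm => by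
      have h' := Subgroup.mem_centralizer_iff.mp hc (g⁻¹ * m * g) (by simpa using hNn.conj_mem m hm g⁻¹)
      calc m * (g * c * g⁻¹) = g * ((g⁻¹ * m * g) * c) * g⁻¹ := by group
        _ = g * (c * (g⁻¹ * m * g)) * g⁻¹ := by rw [h']
        _ = g * c * g⁻¹ * m := by group⟩
    let φ : (P : Subgroup G) →* G ⧸ C := (QuotientGroup.mk' C).comp (P : Subgroup G).subtype
    let I : Subgroup φ.range := (((H.subgroupOf (P : Subgroup G))).map φ.rangeRestrict)
    haveI : I.Normal := Subgroup.Normal.map inferInstance _ φ.rangeRestrict_surjective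
    have hIb : I ≠ ⊥ := by
      intro hI
      apply hNb
      rw [Subgroup.eq_bot_iff_forall]
      intro m hm
      refine hfixbot m hm fun u hu => ?_
      have hmem : φ.rangeRestrict ⟨u, hP hu⟩ ∈ I := ⟨⟨u, hP hu⟩, hQ'H hu, rfl⟩
      rw [hI, Subgroup.mem_bot] at hmem
      have : u ∈ C := (QuotientGroup.eq_one_iff u).mp (congrArg Subtype.val hmem)
      exact (Subgroup.mem_centralizer_iff.mp this m hm).symm
    haveI : Group.IsNilpotent φ.range :=
      (P.2.of_surjective φ.rangeRestrict φ.rangeRestrict_surjective).isNilpotent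
    obtain ⟨a, ha, ha1⟩ := (Subgroup.bot_or_exists_ne_one (I ⊓ Subgroup.center φ.range)).resolve_left
      (Grp.inf_center_ne_bot I hIb)
    -- an element of order `q` there
    obtain ⟨k, hk⟩ := IsPGroup.iff_orderOf.mp (P.2.of_surjective φ.rangeRestrict φ.rangeRestrict_surjective) a
    have hk0 : k ≠ 0 := fun h => ha1 (orderOf_eq_one_iff.mp (by rw [hk, h, pow_zero]))
    set a' := a ^ q ^ (k - 1) with ha'
    have ha'o : orderOf a' = q := by
      rw [ha', orderOf_pow, hk, Nat.gcd_eq_right (pow_dvd_pow q (Nat.sub_le k 1)),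
        Nat.pow_div (Nat.sub_le k 1) hp.pos, show k - (k - 1) = 1 by omega, pow_one]
    have ha'mem : a' ∈ I ⊓ Subgroup.center φ.range := Subgroup.pow_mem _ ha _
    obtain ⟨⟨z, hzP⟩, hzH, hze⟩ := ha'mem.1
    have hzC : z ^ q ∈ C := by
      apply (QuotientGroup.eq_one_iff _).mp
      have := congrArg Subtype.val (show φ.rangeRestrict ⟨z, hzP⟩ ^ q = 1 by rw [hze]; exact orderOf_dvd_iff_pow_eq_one.mp ha'o.dvd)
      exact this
    have hzb : (z * b)⁻¹ * (b * z) ∈ C := by
      rw [← QuotientGroup.eq_one_iff]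
      have := congrArg Subtype.val (Subgroup.mem_center_iff.mp ha'mem.2 (φ.rangeRestrict ⟨b, hbP⟩))
      rw [← hze] at this
      change (b : G ⧸ C) * (z : G ⧸ C) = (z : G ⧸ C) * (b : G ⧸ C) at this
      simp [QuotientGroup.mk_mul, this]
    have hzc := centralizes_of_pair N hp
      (fun hd => hqr ((Nat.prime_dvd_prime_iff_eq hp hr').mp (hp.dvd_of_dvd_pow (by
        exact ((IsPGroup.iff_card.mp hNpg).choose_spec ▸ hd : q ∣ r' ^ _)))))
      z b (fun m hm => by
        have := Subgroup.mem_centralizer_iff.mp hzC m hm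
        rw [← this]; group)
      (fun m hm => by
        have := Subgroup.mem_centralizer_iff.mp hzb m hm
        calc z * b * m * (z * b)⁻¹ = z * b * (m * ((z * b)⁻¹ * (b * z))) * (b * z)⁻¹ := by group
          _ = z * b * (((z * b)⁻¹ * (b * z)) * m) * (b * z)⁻¹ := by rw [this]
          _ = b * z * m * (b * z)⁻¹ := by group)
      (fun j => ⟨hout _ fun hc => hbH ((H.mul_mem_cancel_left (H.pow_mem hzH j)).mp hc),
        fun m hm => hout _ fun hc => hbH ((H.mul_mem_cancel_left (H.pow_mem hzH j)).mp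
          ((H.mul_mem_cancel_right (hNH hm)).mp hc))⟩)
    have : (QuotientGroup.mk' C z) = 1 :=
      (QuotientGroup.eq_one_iff z).mpr (Subgroup.mem_centralizer_iff.mpr fun m hm => (hzc m hm).symm)
    have : a' = 1 := hze ▸ Subtype.ext this
    rw [this, orderOf_one] at ha'o
    exact hp.one_lt.ne ha'o
  have hQ'card : ¬ p ∣ Nat.card Q' := by
    obtain ⟨i, hi⟩ := IsPGroup.iff_card.mp hQ'p
    rw [hi]
    exact fun hd => hqp ((Nat.prime_dvd_prime_iff_eq hp Fact.out).mp (hp.dvd_of_dvd_pow hd)).symm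
  by_cases hrp : r' = p
  · -- coset average
    subst hrp
    refine hNb (bot_of_average N hp hNexp Q' hQ'card t htN (fun u hu => ⟨htu u (hQ'H hu), fun m hm => ?_⟩) hfixbot)
    rw [mul_assoc]; exact htu _ (H.mul_mem (hQ'H hu) (hNH hm))
  -- fixed-point-free action on the `p'`-group `Q' N`
  set M := Q' ⊔ N with hM
  have htM : ∀ m ∈ M, t * m * t⁻¹ ∈ M := fun m hm => hQNn.conj_mem m hm t
  let φ : M ≃* M := MulEquiv.ofBijective
    (((MulAut.conj t).toMonoidHom.comp M.subtype).codRestrict M fun m => htM m m.2)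
    (Finite.injective_iff_bijective.mp fun a b h => Subtype.ext ((MulAut.conj t).injective (congrArg Subtype.val h)))
  have hφ : ∀ m : M, (φ m : G) = t * m * t⁻¹ := fun m => rfl
  have hMp : ¬ p ∣ Nat.card M := by
    intro hd
    rw [hM] at hd
    have : Nat.card ↥(Q' ⊔ N) ∣ Nat.card Q' * Nat.card N := Grp.card_sup_dvd_mul (Subgroup.normalizer_eq_top (H := N) ▸ le_top)
    rcases (Nat.Prime.dvd_mul hp).mp (hd.trans this) with h | h
    · exact hQ'card h
    · obtain ⟨i, hi⟩ := IsPGroup.iff_card.mp hNpg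
      exact hrp ((Nat.prime_dvd_prime_iff_eq hp hr').mp (hp.dvd_of_dvd_pow (hi ▸ h))).symm
  have hMH : M ≤ H := sup_le hQ'H hNH
  have hfpf : ∀ m : M, φ m = m → m = 1 := by
    intro m hm
    have h1 : t * m = m * t := mul_inv_eq_iff_eq_mul.mp ((hφ m).symm.trans (congrArg Subtype.val hm))
    have h2 : (m : G) ^ p = 1 := by
      have := htu m (hMH m.2)
      rwa [(show Commute t m from h1).mul_pow, show t ^ p = 1 by simpa using htu 1 H.one_mem, one_mul] at this
    apply Subtype.ext
    have h3 : orderOf (m : G) ∣ p := orderOf_dvd_of_pow_eq_one h2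
    rcases (Nat.dvd_prime hp).mp h3 with h4 | h4
    · exact orderOf_eq_one_iff.mp h4
    · exact absurd (h4 ▸ (Subgroup.orderOf_coe m ▸ orderOf_dvd_natCard m)) hMp
  have hφp : φ ^ p = 1 := by
    have e : ∀ (k : ℕ) (m : M), ((φ ^ k) m : G) = t ^ k * m * (t ^ k)⁻¹ := by
      intro k m
      induction k with
      | zero => simp
      | succ k ih => rw [pow_succ', MulAut.mul_apply, hφ, ih, pow_succ']; group
    ext m
    rw [e, show t ^ p = 1 by simpa using htu 1 H.one_mem]
    simp
  have hφne : φ ≠ 1 := fun h => hNb ((Subgroup.eq_bot_iff_forall N).mpr fun m hm =>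
    congrArg Subtype.val (hfpf ⟨m, Subgroup.mem_sup_right hm⟩ (by rw [h]; rfl)))
  haveI := Fact.mk hp
  haveI : Group.IsNilpotent M := S0033.result φ hfpf p hp (orderOf_eq_prime hφp hφne)
  -- nilpotent with coprime parts: `Q'` centralizes `N`
  apply hNb
  rw [Subgroup.eq_bot_iff_forall]
  intro m hm
  refine hfixbot m hm fun u hu => ?_
  have := commute_of_nilpotent (X := M) inferInstance ⟨u, Subgroup.mem_sup_left hu⟩
    ⟨m, Subgroup.mem_sup_right hm⟩ (by
      rw [Subgroup.orderOf_mk, Subgroup.orderOf_mk]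
      exact Nat.Coprime.coprime_dvd_left (Subgroup.orderOf_mk u hu ▸ orderOf_dvd_natCard _)
        (Nat.Coprime.coprime_dvd_right (Subgroup.orderOf_mk m hm ▸ orderOf_dvd_natCard _) hNQ.symm))
  exact congrArg Subtype.val this

/-- Let G be a finite group and p a prime such that G is not a p-group, and suppose the Hughes subgroup H_p(G), generated by all elements g with g^p ≠ 1, is a proper subgroup. Then H_p(G) is nilpotent and has index p in G. -/
theorem result {G : Type*} [Group G] [Finite G] (p : ℕ) (hp : p.Prime) (hG : ¬ IsPGroup p G)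
    (hH : Subgroup.closure {g : G | g ^ p ≠ 1} ≠ ⊤) :
    Group.IsNilpotent (Subgroup.closure {g : G | g ^ p ≠ 1}) ∧ (Subgroup.closure {g : G | g ^ p ≠ 1}).index = p := by
  classical
  haveI := Fact.mk hp
  set H := Subgroup.closure {g : G | g ^ p ≠ 1}
  haveI hHn : H.Normal := by
    have hset : ∀ g, g ^ p ≠ 1 → ∀ x : G, (x * g * x⁻¹) ^ p ≠ 1 := fun g hg x h => by
      rw [conj_pow] at h
      apply hg
      have := congrArg (fun y => x⁻¹ * y * x) h
      simpa [mul_assoc] using this
    refine ⟨fun g hg x => ?_⟩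
    have hle : H.map (MulAut.conj x).toMonoidHom ≤ H := by
      rw [MonoidHom.map_closure, Subgroup.closure_le]
      rintro _ ⟨y, hy, rfl⟩
      exact Subgroup.subset_closure (hset y hy x)
    exact hle (Subgroup.mem_map_of_mem _ hg)
  have hout : ∀ g : G, g ∉ H → g ^ p = 1 := fun g hg => by
    by_contra h
    exact hg (Subgroup.subset_closure h)
  have hnil := aux (Nat.card G) G rfl p hp H hHn hH hout
  refine ⟨hnil, ?_⟩
  haveI := hnil
  have hqexp : ∀ x : G ⧸ H, x ^ p = 1 := by
    intro x
    obtain ⟨g, rfl⟩ := QuotientGroup.mk'_surjective H x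
    by_cases hg : g ∈ H
    · rw [show QuotientGroup.mk' H g = 1 from (QuotientGroup.eq_one_iff g).mpr hg, one_pow]
    · rw [← map_pow, hout g hg, map_one]
  have hqp : IsPGroup p (G ⧸ H) := fun x => ⟨1, by rw [pow_one]; exact hqexp x⟩
  obtain ⟨k, hk⟩ := IsPGroup.iff_card.mp hqp
  rw [← Subgroup.index_eq_card] at hk
  by_contra hidx
  -- some prime different from `p` divides `H`
  obtain ⟨q, hq, hqd, hqne⟩ : ∃ q : ℕ, q.Prime ∧ q ∣ Nat.card H ∧ q ≠ p := by
    by_contra hc
    push Not at hc
    apply hG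
    have hHp : Nat.card H = p ^ (Nat.card H).factorization p := by
      refine Nat.eq_pow_of_factorization_eq_single (Nat.card_pos (α := H)).ne' ?_
      ext r
      by_cases hr : r = p
      · simp [hr]
      · rw [Finsupp.single_apply, if_neg (Ne.symm hr)]
        by_contra h0
        have hm := Nat.support_factorization (Nat.card H) ▸ Finsupp.mem_support_iff.mpr h0
        exact hr (hc r (Nat.prime_of_mem_primeFactors hm) (Nat.dvd_of_mem_primeFactors hm))
    exact IsPGroup.of_card (n := (Nat.card H).factorization p + k)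
      (by rw [← H.card_mul_index, hk, pow_add, ← hHp])
  haveI := Fact.mk hq
  obtain ⟨Q⟩ : Nonempty (Sylow q H) := inferInstance
  haveI : (Q : Subgroup H).Normal :=
    Sylow.normal_of_normalizerCondition normalizerCondition_of_isNilpotent Q
  haveI := Sylow.characteristic_of_normal Q inferInstance
  set R := (Q : Subgroup H).map H.subtype
  haveI : R.Normal := inferInstance
  have hRb : R ≠ ⊥ := by
    rw [ne_eq, Subgroup.map_eq_bot_iff_of_injective _ H.subtype_injective]
    exact Q.ne_bot_of_dvd_card hqd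
  obtain ⟨N, hNn, hNb, hNR, hNmin⟩ := minimal_below R hRb
  haveI := hNn
  have hRp : IsPGroup q R := Q.2.map _
  have hNH : N ≤ H := hNR.trans (Subgroup.map_subtype_le _)
  haveI : Group.IsSolvable N := by haveI := (hRp.to_le hNR).isNilpotent; infer_instance
  obtain ⟨hNab, r', hr', hNexp⟩ := Grp.minimal_normal_solvable (G := G) (N := N) inferInstance hNb hNmin
  haveI := hNab
  have hNp : ¬ p ∣ Nat.card N := by
    obtain ⟨i, hi⟩ := IsPGroup.iff_card.mp (hRp.to_le hNR)
    rw [hi]
    exact fun hd => hqne ((Nat.prime_dvd_prime_iff_eq hp hq).mp (hp.dvd_of_dvd_pow hd)).symm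
  have hfpf : ∀ x : G, x ∉ H → ∀ n ∈ N, x * n = n * x → n = 1 := by
    intro x hx n hn hxn
    have h2 := hout (x * n) fun hc => hx ((H.mul_mem_cancel_right (hNH hn)).mp hc)
    rw [(show Commute x n from hxn).mul_pow, hout x hx, one_mul] at h2
    rcases (Nat.dvd_prime hp).mp (orderOf_dvd_of_pow_eq_one h2) with h4 | h4
    · exact orderOf_eq_one_iff.mp h4
    · exact absurd (h4 ▸ (Subgroup.orderOf_mk n hn ▸ orderOf_dvd_natCard _)) hNp
  obtain ⟨P⟩ : Nonempty (Sylow p G) := inferInstance
  have hgen : ∀ M : Subgroup G, H ≤ M → (P : Subgroup G) ≤ M → M = ⊤ := by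
    intro M hHM hPM
    rw [← Subgroup.index_eq_one]
    obtain ⟨j, -, hj⟩ := (Nat.dvd_prime_pow hp).mp (hk ▸ Subgroup.index_dvd_of_le hHM)
    rcases Nat.eq_zero_or_pos j with rfl | hj0
    · rw [hj, pow_zero]
    · exact absurd (((dvd_pow_self p hj0.ne').trans (hj ▸ dvd_rfl)).trans (Subgroup.index_dvd_of_le hPM))
        P.not_dvd_index
  obtain ⟨b0, hb0P, hb0H⟩ : ∃ b ∈ (P : Subgroup G), b ∉ H := by
    by_contra hc
    push Not at hc
    exact hH (hgen H le_rfl hc)
  let C := Subgroup.centralizer (N : Set G)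
  haveI : C.Normal := ⟨fun c hc g => Subgroup.mem_centralizer_iff.mpr fun m hm => by
      have h' := Subgroup.mem_centralizer_iff.mp hc (g⁻¹ * m * g) (by simpa using hNn.conj_mem m hm g⁻¹)
      calc m * (g * c * g⁻¹) = g * ((g⁻¹ * m * g) * c) * g⁻¹ := by group
        _ = g * (c * (g⁻¹ * m * g)) * g⁻¹ := by rw [h']
        _ = g * c * g⁻¹ * m := by group⟩
  let φ : (P : Subgroup G) →* G ⧸ C := (QuotientGroup.mk' C).comp (P : Subgroup G).subtype
  haveI : Nontrivial φ.range := by
    refine ⟨⟨φ.rangeRestrict ⟨b0, hb0P⟩, 1, fun h => hNb ((Subgroup.eq_bot_iff_forall N).mpr fun n hn => ?_)⟩⟩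
    have hbC : b0 ∈ C := (QuotientGroup.eq_one_iff b0).mp (congrArg Subtype.val h)
    exact hfpf b0 hb0H n hn (Subgroup.mem_centralizer_iff.mp hbC n hn).symm
  have hrp : IsPGroup p φ.range := P.2.of_surjective φ.rangeRestrict φ.rangeRestrict_surjective
  haveI := hrp.center_nontrivial
  obtain ⟨j, hj0, hj⟩ := (IsPGroup.nontrivial_iff_card (hrp.to_subgroup (Subgroup.center φ.range))).mp inferInstance
  obtain ⟨⟨a, ha⟩, ha'⟩ := exists_prime_orderOf_dvd_card' p (hj ▸ dvd_pow_self p hj0.ne' :
    p ∣ Nat.card (Subgroup.center φ.range))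
  rw [Subgroup.orderOf_mk] at ha'
  obtain ⟨⟨z, hzP⟩, hze⟩ := φ.rangeRestrict_surjective a
  have hzC : z ^ p ∈ C := (QuotientGroup.eq_one_iff _).mp (congrArg Subtype.val
    (show φ.rangeRestrict ⟨z, hzP⟩ ^ p = 1 by rw [hze]; exact orderOf_dvd_iff_pow_eq_one.mp ha'.dvd))
  -- an element avoiding `H⟨z⟩`
  obtain ⟨b, hbP, hb⟩ : ∃ b ∈ (P : Subgroup G), ∀ i : ℕ, z ^ i * b ∉ H := by
    by_contra hc
    push Not at hc
    apply hidx
    let M := (Subgroup.zpowers (QuotientGroup.mk' H z)).comap (QuotientGroup.mk' H)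
    have hM : M = ⊤ := by
      refine hgen M (fun h hh => ?_) (fun b hbP => ?_)
      · show QuotientGroup.mk' H h ∈ Subgroup.zpowers (QuotientGroup.mk' H z)
        rw [show QuotientGroup.mk' H h = 1 from (QuotientGroup.eq_one_iff h).mpr hh]
        exact one_mem _
      · obtain ⟨i, hi⟩ := hc b hbP
        have h1 : QuotientGroup.mk' H z ^ i * QuotientGroup.mk' H b = 1 := by
          rw [← map_pow, ← map_mul]; exact (QuotientGroup.eq_one_iff _).mpr hi
        show QuotientGroup.mk' H b ∈ Subgroup.zpowers (QuotientGroup.mk' H z)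
        rw [eq_inv_of_mul_eq_one_right h1]
        exact inv_mem (Subgroup.pow_mem _ (Subgroup.mem_zpowers _) i)
    have htop : Subgroup.zpowers (QuotientGroup.mk' H z) = ⊤ :=
      Subgroup.comap_injective (QuotientGroup.mk'_surjective H) (hM.trans (Subgroup.comap_top _).symm)
    have hcard : H.index = orderOf (QuotientGroup.mk' H z) := by
      rw [← Nat.card_zpowers, htop, Subgroup.card_top, Subgroup.index_eq_card]
    rcases (Nat.dvd_prime hp).mp (hcard ▸ orderOf_dvd_of_pow_eq_one (hqexp _)) with h | h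
    · exact absurd (Subgroup.index_eq_one.mp h) hH
    · exact h
  have hzb : (z * b)⁻¹ * (b * z) ∈ C := by
    rw [← QuotientGroup.eq_one_iff]
    have := congrArg Subtype.val (Subgroup.mem_center_iff.mp ha (φ.rangeRestrict ⟨b, hbP⟩))
    rw [← hze] at this
    change (b : G ⧸ C) * (z : G ⧸ C) = (z : G ⧸ C) * (b : G ⧸ C) at this
    simp [QuotientGroup.mk_mul, this]
  have hzc := centralizes_of_pair N hp hNp z b
    (fun m hm => by rw [← Subgroup.mem_centralizer_iff.mp hzC m hm]; group)
    (fun m hm => by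
      have := Subgroup.mem_centralizer_iff.mp hzb m hm
      calc z * b * m * (z * b)⁻¹ = z * b * (m * ((z * b)⁻¹ * (b * z))) * (b * z)⁻¹ := by group
        _ = z * b * (((z * b)⁻¹ * (b * z)) * m) * (b * z)⁻¹ := by rw [this]
        _ = b * z * m * (b * z)⁻¹ := by group)
    (fun i => ⟨hout _ (hb i), fun m hm => hout _ fun hc =>
      hb i ((H.mul_mem_cancel_right (hNH hm)).mp hc)⟩)
  have : (z : G ⧸ C) = 1 :=
    (QuotientGroup.eq_one_iff z).mpr (Subgroup.mem_centralizer_iff.mpr fun m hm => (hzc m hm).symm)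
  have : a = 1 := hze ▸ Subtype.ext this
  rw [this, orderOf_one] at ha'
  exact hp.one_lt.ne ha'

end Cfsg.Agent.S4249
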