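import Cfsg.Statements.S5278
import Cfsg.Agent.Lib.Fus.FailTorus
import Cfsg.Agent.Lib.Fus.JInduction
import Cfsg.Agent.Lib.Fus.Alperin
import Cfsg.Agent.Lib.Fus.Model

set_option autoImplicit false
set_option linter.style.haveILetI false
open Cfsg

namespace Cfsg.Agent.S5278

open Cfsg.Agent.Fus Subgroup FusionSystem

universe u

/-- The subgroup generated by the abelian subgroups of largest order commutes with injective maps. -/
theorem thompsonA_map {H : Type*} [Group H] {G : Type*} [Group G] {f : H →* G} (hf : Function.Injective f)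
    (R : Subgroup H) : thompsonSubgroupAOf (R.map f) = (thompsonSubgroupAOf R).map f := by
  have himg : ∀ A, IsMaxAb R A → IsMaxAb (R.map f) (A.map f) := by
    intro A hA
    refine ⟨Subgroup.map_mono hA.1, ?_, fun B hB hc => ?_⟩
    · rintro _ ⟨a, ha, rfl⟩ _ ⟨b, hb, rfl⟩
      rw [← map_mul, ← map_mul, hA.2.1 a ha b hb]
    · rw [Subgroup.card_map_of_injective hf, ← Subgroup.map_comap_eq_self
        (hB.trans (Subgroup.map_le_range f R)), Subgroup.card_map_of_injective hf]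
      refine hA.2.2 _ (fun b hb => ?_) fun a ha b hb => hf (by rw [map_mul, map_mul]; exact hc _ ha _ hb)
      exact (Subgroup.mem_map_iff_mem hf).mp (hB hb)
  have hpre : ∀ B, IsMaxAb (R.map f) B → IsMaxAb R (B.comap f) := by
    intro B hB
    refine ⟨fun b hb => (Subgroup.mem_map_iff_mem hf).mp (hB.1 hb),
      fun a ha b hb => hf (by rw [map_mul, map_mul]; exact hB.2.1 _ ha _ hb), fun A hA hc => ?_⟩
    rw [← Subgroup.card_map_of_injective hf (K := A), ← Subgroup.card_map_of_injective hf (K := B.comap f),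
      Subgroup.map_comap_eq_self (hB.1.trans (Subgroup.map_le_range f R))]
    refine hB.2.2 _ (Subgroup.map_mono hA) ?_
    rintro _ ⟨a, ha, rfl⟩ _ ⟨b, hb, rfl⟩
    rw [← map_mul, ← map_mul, hc a ha b hb]
  refine le_antisymm (thompsonA_le_of fun B hB => ?_) ?_
  · rw [← Subgroup.map_comap_eq_self (hB.1.trans (Subgroup.map_le_range f R))]
    exact Subgroup.map_mono (hpre B hB).le_thompsonA
  · exact Subgroup.map_le_iff_le_comap.mpr
      (thompsonA_le_of fun A hA => Subgroup.map_le_iff_le_comap.mp (himg A hA).le_thompsonA)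

/-- An element of a finite subgroup conjugating `Y ≤ S` into itself normalises it. -/
theorem norm_of_le_in {Ω : Type*} [Group Ω] {Y : Subgroup Ω} [Finite Y] {g : Ω}
    (h : ∀ x ∈ Y, g * x * g⁻¹ ∈ Y) : g ∈ Subgroup.normalizer (Y : Set Ω) := by
  have he : Y.map (MulAut.conj g).toMonoidHom = Y := Subgroup.eq_of_le_of_card_ge
    (by rintro _ ⟨x, hx, rfl⟩; exact h x hx) (Subgroup.card_map_of_injective (MulAut.conj g).injective).ge
  refine mem_normalizer_of_forall h fun x hx => ?_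
  rw [← he] at hx
  obtain ⟨z, hz, rfl⟩ := hx
  simpa [mul_assoc] using hz

section

variable {Ω : Type u} [Group Ω] {S : Subgroup Ω} [Finite S] {p : ℕ} [Fact p.Prime]
variable {F : FusionSystem S} {T : Subgroup Ω}

/-- All maps with large source preserve `T` when the automorphisms of subgroups with large normalisers do. -/
theorem pres_of_large (hS : IsPGroup p ↥S) (hF : F.IsSaturated p) {k : ℕ} (hT : T ≤ S)
    (htop : ∀ f, IsMap F S f → ∀ x ∈ T, f x ∈ T)
    (hauts : ∀ P, F.IsFullyNormalized P → T ≤ P → k < Nat.card ↥(normalizerIn S P) →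
      ∀ α ∈ F.autGroup P, ∀ x ∈ T, autFun α x ∈ T)
    {P : Subgroup Ω} {f : Ω → Ω} (hf : IsMap F P f) (hTP : T ≤ P) (hk : k ≤ Nat.card P) :
    ∀ x ∈ T, f x ∈ T := by
  haveI := finite_of_le hT
  refine alperin hS hF (fun P f => T ≤ P → k ≤ Nat.card P → ∀ x ∈ T, f x ∈ T)
    (fun P f g h e h1 h2 x hx => e x (h1 hx) ▸ h h1 h2 x hx) ?_
    (fun P Q g hg hPQ h h1 h2 x hx => ?_) (fun α hα _ _ => htop _ ((mem_autGroup le_rfl).1 hα)) ?_ hf hTP hk
  · intro P Q f g hf hg hfQ hDf hDg h1 h2 x hx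
    refine hDg ?_ ?_ _ (hDf h1 h2 x hx)
    · have he : fimg f T = T := Subgroup.eq_of_le_of_card_ge (fimg_le (hDf h1 h2)) (hf.res h1).card_fimg.ge
      exact he.ge.trans (fimg_le fun x hx => hfQ x (h1 hx))
    · haveI : Finite Q := finite_of_le hg.source_le
      exact (h2.trans hf.card_fimg.ge).trans (Subgroup.card_le_of_le (fimg_le hfQ))
  · haveI : Finite Q := finite_of_le hg.source_le
    exact h (h1.trans hPQ) (h2.trans (Subgroup.card_le_of_le hPQ)) x hx
  · intro P hP α hα h1 h2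
    rcases hP.1.1.eq_or_lt with rfl | hlt
    · exact htop _ ((mem_autGroup le_rfl).1 hα)
    haveI : Finite ↥(normalizerIn S P) := finite_of_le (S := S) inf_le_left
    exact hauts P hP.2.1 h1 (h2.trans_lt (card_lt_of_lt (lt_normalizerIn hS hlt))) α hα

end

/-- Let p be an odd prime, F a saturated fusion system over a finite p-group S, and T a subgroup of Z(S) such that the normalizer fusion system of J(S) in F is contained in the normalizer fusion system of T, J(S) being the subgroup generated by the abelian subgroups of S of largest order. Then either T is weakly closed in F, or Aut_F(T) has a nontrivial cyclic subgroup X of order prime to p that permutes transitively the non-identity elements of the commutator [T, X] (the subgroup of T generated by the elements ψ(t)·t⁻¹ with ψ in X and t in T). -/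
theorem result {Ω : Type*} [Group Ω] {S : Subgroup Ω} [Finite S] (p : ℕ) [Fact p.Prime] (hS : IsPGroup p ↥S) (F : Cfsg.FusionSystem S) (hF : F.IsSaturated p) (hp : p ≠ 2) (T : Subgroup Ω) (hT : T ≤ S ⊓ Subgroup.centralizer (S : Set Ω)) (hJT : ∀ NJ : Cfsg.FusionSystem (Cfsg.FusionSystem.normalizerIn S (Cfsg.thompsonSubgroupAOf S)), F.IsNormalizerSystem (Cfsg.thompsonSubgroupAOf S) NJ → ∀ NT : Cfsg.FusionSystem (Cfsg.FusionSystem.normalizerIn S T), F.IsNormalizerSystem T NT → NJ.IsSubsystemOf NT) : F.WeaklyClosed T ∨ ∃ X : Subgroup (MulAut ↥T), X ≤ F.autGroup T ∧ X ≠ ⊥ ∧ IsCyclic ↥X ∧ (Nat.card ↥X).Coprime p ∧ ∀ a b : ↥T, a ∈ Subgroup.closure {y : ↥T | ∃ ψ ∈ X, ∃ t : ↥T, y = ψ t * t⁻¹} → b ∈ Subgroup.closure {y : ↥T | ∃ ψ ∈ X, ∃ t : ↥T, y = ψ t * t⁻¹} → a ≠ 1 → b ≠ 1 → ∃ ψ ∈ X, ψ a = b := by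
  classical
  have hTS : T ≤ S := hT.trans inf_le_left
  have hTc : ∀ x ∈ S, ∀ t ∈ T, x * t = t * x := fun x hx t ht =>
    Subgroup.mem_centralizer_iff.mp (hT ht).2 x hx
  haveI := finite_of_le hTS
  have hTJ : ∀ P : Subgroup Ω, P ≤ S → T ≤ P → T ≤ thompsonSubgroupAOf P := fun P hP hTP => by
    haveI := finite_of_le hP
    exact fun t ht => centralizer_thompsonA_le
      ⟨hTP ht, Subgroup.mem_centralizer_iff.mpr fun x hx => hTc x (hP (thompsonA_le P hx)) t ht⟩
  have hJS : thompsonSubgroupAOf S ≤ S := thompsonA_le S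
  -- maps normalising `J(S)`
  have hgood : ∀ {Y : Subgroup Ω} {f : Ω → Ω}, IsMap F Y f → thompsonSubgroupAOf S ≤ Y →
      fimg f (thompsonSubgroupAOf S) = thompsonSubgroupAOf S → ∀ x ∈ T, f x ∈ T := by
    intro Y f hf hJY hfJ x hx
    obtain ⟨φ, -, hφe⟩ := (hf.res hJY).exists_hom
    have h1 : φ ∈ (normalizerSystem F _ hJS).Hom (thompsonSubgroupAOf S) := by
      refine mem_normalizerHom.mpr ⟨le_normalizerIn hJS, fun y => le_normalizerIn hJS ?_, f,
        by rw [sup_idem]; exact hf.res hJY, fun y => (hφe y).symm, hfJ⟩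
      rw [hφe]
      exact hfJ.le (apply_mem_fimg f y.2)
    have h2 := hJT _ (isNormalizerSystem_normalizerSystem F hJS) (normalizerSystem F T hTS)
      (isNormalizerSystem_normalizerSystem F hTS) _ h1
    obtain ⟨-, -, g, -, hge, hgT⟩ := mem_normalizerHom.mp h2
    have hxJ : x ∈ thompsonSubgroupAOf S := hTJ S le_rfl hTS hx
    have h3 := hgT.le (apply_mem_fimg g hx)
    rwa [show g x = f x from (hge ⟨x, hxJ⟩).trans (hφe ⟨x, hxJ⟩)] at h3
  have htop : ∀ f, IsMap F S f → ∀ x ∈ T, f x ∈ T := fun f hf =>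
    hgood hf hJS (hf.map_thompsonA hJS fun x hx => hf.apply_mem (hJS hx))
  obtain ⟨Bad, hBad⟩ : ∃ B : Set (Subgroup Ω), B = {P | F.IsFullyNormalized P ∧ T ≤ P ∧
      ∃ α ∈ F.autGroup P, ∃ x ∈ T, autFun α x ∉ T} := ⟨_, rfl⟩
  by_cases hne : Bad.Nonempty
  swap
  · refine Or.inl ⟨hTS, fun φ hφ => ?_⟩
    have hm : IsMap F T (toFun φ) := isMap_toFun hφ
    have hpres := pres_of_large (k := 0) hS hF hTS htop (fun P hP hTP _ α hα x hx => by
      by_contra hb
      exact hne ⟨P, hBad ▸ ⟨hP, hTP, α, hα, x, hx, hb⟩⟩) hm le_rfl (Nat.zero_le _)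
    rw [hm.range_eq_fimg fun x => (toFun_coe φ x).symm]
    exact Subgroup.eq_of_le_of_card_ge (fimg_le hpres) hm.card_fimg.ge
  right
  -- a largest bad subgroup
  have hfinBad : Bad.Finite := (finite_subgroups_le (S := S)).subset fun P hP => (hBad.le hP).1.1
  obtain ⟨μ, hμ⟩ : ∃ μ : Subgroup Ω → ℕ, ∀ P, μ P =
      Nat.card ↥(normalizerIn S P) * (Nat.card S + 1) + Nat.card P := ⟨_, fun _ => rfl⟩
  obtain ⟨R, hR, hmax⟩ := Set.exists_max_image Bad μ hfinBad hne
  obtain ⟨hRn, hTR, α, hα, x0, hx0, hbad⟩ := hBad.le hR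
  have hRS := hRn.1
  haveI := finite_of_le hRS
  obtain ⟨NR, hNR⟩ : ∃ N, N = normalizerIn S R := ⟨_, rfl⟩
  have hlex : ∀ Y, F.IsFullyNormalized Y →
      (Nat.card NR < Nat.card ↥(normalizerIn S Y) ∨
        (Nat.card NR ≤ Nat.card ↥(normalizerIn S Y) ∧ Nat.card R < Nat.card Y)) →
      T ≤ Y → ∀ β ∈ F.autGroup Y, ∀ x ∈ T, autFun β x ∈ T := by
    intro Y hY hbig hTY β hβ x hx
    by_contra hb
    have h := hmax Y (hBad ▸ ⟨hY, hTY, β, hβ, x, hx, hb⟩)
    rw [hμ, hμ, ← hNR] at h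
    have h1 : Nat.card R ≤ Nat.card S := Subgroup.card_le_of_le hRS
    rcases hbig with hb1 | ⟨hb1, hb2⟩
    · have := Nat.mul_le_mul_right (Nat.card S + 1) (Nat.succ_le_of_lt hb1)
      rw [Nat.succ_mul] at this
      omega
    · have := Nat.mul_le_mul_right (Nat.card S + 1) hb1
      omega
  have hlarge : ∀ {Y : Subgroup Ω} {f : Ω → Ω}, IsMap F Y f → T ≤ Y → Nat.card NR ≤ Nat.card Y →
      ∀ x ∈ T, f x ∈ T := fun hf => pres_of_large hS hF hTS htop
    (fun P hP hTP hlt => hlex P hP (Or.inl hlt) hTP) hf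
  have hauts : ∀ Y, T ≤ Y → Y ≤ S → (Nat.card NR < Nat.card ↥(normalizerIn S Y) ∨
      (Nat.card NR ≤ Nat.card ↥(normalizerIn S Y) ∧ Nat.card R < Nat.card Y)) →
      ∀ f, IsMap F Y f → fimg f Y = Y → ∀ x ∈ T, f x ∈ T := by
    intro Y hTY hYS hbig f hf hfY x hx
    obtain ⟨Y', hY', hY'n⟩ := exists_fullyNormalized F hYS
    obtain ⟨w, hw, hwY, hwN⟩ := exists_map_to_fullyNormalized hS hF hY'n hY'
    have hYN := le_normalizerIn (S := S) hYS
    have hk : Nat.card NR ≤ Nat.card ↥(normalizerIn S Y) := by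
      rcases hbig with h | h
      exacts [h.le, h.1]
    have hwT : ∀ t ∈ T, w t ∈ T := hlarge hw (hTY.trans hYN) hk
    have hwTe : fimg w T = T :=
      Subgroup.eq_of_le_of_card_ge (fimg_le hwT) (hw.res (hTY.trans hYN)).card_fimg.ge
    obtain ⟨v, hv, hv1, hv2, hv3⟩ := (hw.res hYN).exists_inv
    rw [hwY] at hv hv2 hv3
    have hcard' : Nat.card ↥(normalizerIn S Y) ≤ Nat.card ↥(normalizerIn S Y') := by
      haveI : Finite ↥(normalizerIn S Y') := finite_of_le (S := S) inf_le_left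
      rw [← hw.card_fimg]
      exact Subgroup.card_le_of_le (fimg_le hwN)
    have hTY' : T ≤ Y' := hwTe.ge.trans (hwY ▸ fimg_mono w hTY)
    have hfm : ∀ y ∈ Y', f (v y) ∈ Y := fun y hy => hfY.le (apply_mem_fimg f (hv2 y hy).1)
    have hmid : IsMap F Y' (fun y => w (f (v y))) :=
      (hv.comp hf fun y hy => (hv2 y hy).1).comp (hw.res hYN) hfm
    haveI := finite_of_le hY'n.1
    have hmidY : fimg (fun y => w (f (v y))) Y' = Y' := Subgroup.eq_of_le_of_card_ge
      (fimg_le fun y hy => hwY ▸ apply_mem_fimg w (hfm y hy)) hmid.card_fimg.ge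
    obtain ⟨β, hβ, hβe⟩ := hmid.exists_aut hmidY
    have hcY : Nat.card Y' = Nat.card Y := isConj_card hY'
    have h1 : w (f x) ∈ T := by
      have h := hlex Y' hY'n (by omega) hTY' β hβ (w x) (hwT x hx)
      rw [hβe _ (hTY' (hwT x hx))] at h
      simpa only [hv1 x (hTY hx)] using h
    obtain ⟨s, hs, hse⟩ := (hw.res (hTY.trans hYN)).mem_fimg_iff.mp (hwTe.ge h1)
    rw [← (hw.res hYN).injOn (hTY hs) (hfY.le (apply_mem_fimg f (hTY hx))) hse]
    exact hs
  -- `R` contains its centraliser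
  have hRc : centralizerIn S R ≤ R := by
    by_contra hnot
    have hαm := (mem_autGroup hRS).1 hα
    have hCN : centralizerIn S R ≤ Subgroup.normalizer (R : Set Ω) :=
      inf_le_right.trans (Subgroup.centralizer_le_normalizer _)
    obtain ⟨Y, hY⟩ : ∃ Y, Y = R ⊔ centralizerIn S R := ⟨_, rfl⟩
    have hRY : R ≤ Y := hY ▸ le_sup_left
    have hCY : centralizerIn S R ≤ Y := hY ▸ le_sup_right
    have hYS : Y ≤ S := hY ▸ sup_le hRS inf_le_left
    have hdec : ∀ g ∈ Y, ∃ a ∈ R, ∃ b ∈ centralizerIn S R, a * b = g := fun g hg => by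
      rw [hY, ← SetLike.mem_coe, Subgroup.coe_mul_of_right_le_normalizer_left _ _ hCN] at hg
      exact hg
    obtain ⟨β, hβ, hβe⟩ := receptive_extend (receptive_of_fullyNormalized hS hF hRn) hαm
      (fimg_autFun α) (N := Y) (fun g hg => by
        obtain ⟨a, ha, b, hb, rfl⟩ := hdec g hg
        refine ⟨⟨hYS hg, Subgroup.mul_mem _ (Subgroup.le_normalizer ha) (hCN hb)⟩,
          autFun α a, hαm.apply_mem ha, fun x hx => ?_⟩
        rw [← hαm.map_conj ha hx]
        congr 1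
        rw [mul_inv_rev, show a * b * x * (b⁻¹ * a⁻¹) = a * (b * x * b⁻¹) * a⁻¹ by group,
          ← Subgroup.mem_centralizer_iff.1 hb.2 x hx, mul_inv_cancel_right]) hRY
    have himg : fimg β R = R := (fimg_congr hβe).trans (fimg_autFun α)
    haveI := finite_of_le hYS
    have hβY : fimg β Y = Y := Subgroup.eq_of_le_of_card_ge (fimg_le fun g hg => by
      obtain ⟨a, ha, b, hb, rfl⟩ := hdec g hg
      rw [hβ.map_mul (hRY ha) (hCY hb)]
      refine Y.mul_mem (hRY (himg.le (apply_mem_fimg β ha))) (hCY ?_)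
      have := hβ.map_centralizerIn hRY (hCY hb) hb.2
      rwa [himg] at this) hβ.card_fimg.ge
    haveI : Finite ↥(normalizerIn S Y) := finite_of_le (S := S) inf_le_left
    have hNle : NR ≤ normalizerIn S Y := by
      rw [hNR]
      rintro g ⟨hgS, hgn⟩
      refine ⟨hgS, norm_of_le_in fun x hx => (?_ : Y ≤ Y.comap (MulAut.conj g).toMonoidHom) hx⟩
      conv_lhs => rw [hY]
      refine sup_le (fun r hr => hRY ((Subgroup.mem_normalizer_iff.mp hgn r).mp hr)) fun c hc => hCY ?_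
      refine ⟨S.mul_mem (S.mul_mem hgS hc.1) (S.inv_mem hgS), Subgroup.mem_centralizer_iff.mpr fun r hr => ?_⟩
      have h := Subgroup.mem_centralizer_iff.mp hc.2 _ ((Subgroup.mem_normalizer_iff''.mp hgn r).mp hr)
      calc r * (g * c * g⁻¹) = g * ((g⁻¹ * r * g) * c) * g⁻¹ := by group
        _ = g * (c * (g⁻¹ * r * g)) * g⁻¹ := by rw [h]
        _ = g * c * g⁻¹ * r := by group
    refine hbad ?_
    rw [← hβe x0 (hTR hx0)]
    refine hauts Y (hTR.trans hRY) hYS (Or.inr ⟨Subgroup.card_le_of_le hNle, card_lt_of_lt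
      (lt_of_le_of_ne hRY fun e => hnot (e ▸ hCY))⟩) β hβ hβY x0 hx0
  -- the model
  have hRNR : R ≤ NR := hNR ▸ le_normalizerIn hRS
  have hNRS : NR ≤ S := hNR ▸ inf_le_left
  subst hNR
  haveI : Finite ↥(normalizerIn S R) := finite_of_le hNRS
  have hNp : IsPGroup p ↥(normalizerIn S R) := hS.to_le hNRS
  obtain ⟨G, _, ι, hmod, hDn, -⟩ := exists_model_of_normal hNp (isSaturated_normalizerSystem hS hF hRn)
    (isNormal_normalizerSystem_self hRn.1) (fun x hx => hRc ⟨hNRS hx.1, hx.2⟩)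
  haveI := hmod.1
  obtain ⟨hιinj, hreal⟩ := hmod.2.1
  obtain ⟨Sy, hSy⟩ := hmod.2.2.1
  have hTN : T ≤ normalizerIn S R := hTR.trans hRNR
  let TG : Subgroup G := (T.subgroupOf (normalizerIn S R)).map ι
  let DG : Subgroup G := (R.subgroupOf (normalizerIn S R)).map ι
  have hmemT : ∀ x : ↥(normalizerIn S R), ι x ∈ TG ↔ (x : Ω) ∈ T := fun x =>
    (Subgroup.mem_map_iff_mem hιinj).trans Subgroup.mem_subgroupOf
  -- elements of the model give maps
  have hmap : ∀ (g : G) (X : Subgroup Ω) (hX : X ≤ normalizerIn S R),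
      (∀ x (hx : x ∈ X), g * ι ⟨x, hX hx⟩ * g⁻¹ ∈ ι.range) → ∃ f, IsMap F X f ∧
        ∀ x (hx : x ∈ X), ∃ h : f x ∈ normalizerIn S R, ι ⟨f x, h⟩ = g * ι ⟨x, hX hx⟩ * g⁻¹ := by
    intro g X hX hg
    choose z hz using fun x : X => hg x x.2
    let φ : X →* Ω := MonoidHom.mk' (fun x => (z x : Ω)) fun a b => by
      refine congrArg Subtype.val (?_ : z (a * b) = z a * z b)
      refine hιinj ?_
      rw [map_mul, hz, hz, hz, show (⟨((a * b : X) : Ω), hX (a * b).2⟩ : ↥(normalizerIn S R)) =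
        ⟨(a : Ω), hX a.2⟩ * ⟨(b : Ω), hX b.2⟩ from rfl, map_mul]
      group
    have hφ : φ ∈ (normalizerSystem F R hRn.1).Hom X :=
      (hreal X hX φ fun x => (z x).2).mpr ⟨g, fun x => hz x⟩
    refine ⟨toFun φ, isMap_toFun hφ.1, fun x hx => ?_⟩
    rw [toFun_apply φ hx]
    exact ⟨(z ⟨x, hx⟩).2, hz ⟨x, hx⟩⟩
  have hJG : ∀ x : ↥(normalizerIn S R), ι x ∈ thompsonSubgroupAOf ι.range ↔
      (x : Ω) ∈ thompsonSubgroupAOf (normalizerIn S R) := by
    intro x
    have h1 := thompsonA_map hιinj (⊤ : Subgroup ↥(normalizerIn S R))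
    have h2 := thompsonA_map (normalizerIn S R).subtype_injective (⊤ : Subgroup ↥(normalizerIn S R))
    rw [← MonoidHom.range_eq_map] at h1
    rw [← MonoidHom.range_eq_map, Subgroup.range_subtype] at h2
    rw [h1, h2, Subgroup.mem_map_iff_mem hιinj]
    exact (Subgroup.mem_map_iff_mem (normalizerIn S R).subtype_injective).symm
  have hPc : ∀ y ∈ ι.range, ∀ t ∈ TG, y * t = t * y := by
    rintro _ ⟨y, rfl⟩ _ ⟨t, ht, rfl⟩
    rw [← map_mul, ← map_mul]
    exact congrArg ι (Subtype.ext (hTc y (hNRS y.2) t ht))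
  obtain ⟨N0, hN0⟩ : ∃ N0, N0 = Subgroup.normalizer (TG : Set G) := ⟨_, rfl⟩
  have hN0T : ∀ m ∈ N0, ∀ t ∈ TG, m * t * m⁻¹ ∈ TG := fun m hm t ht =>
    (Subgroup.mem_normalizer_iff.mp (hN0 ▸ hm : m ∈ Subgroup.normalizer (TG : Set G)) t).mp ht
  have hDconj : ∀ (g : G) x (hx : x ∈ R), g * ι ⟨x, hRNR hx⟩ * g⁻¹ ∈ DG := fun g x hx =>
    hDn.conj_mem _ ⟨_, hx, rfl⟩ g
  have hne' : ¬ (⊤ : Subgroup G) ≤ N0 := by
    intro hle
    have hαm := (mem_autGroup hRS).1 hα
    have hαE : IsMap (normalizerSystem F R hRn.1) R (autFun α) :=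
      (isMap_normalizerSystem hRn.1).mpr ⟨hRNR, fun x hx => hRNR (autFun_mem α hx), autFun α,
        by rw [sup_idem]; exact hαm, fun x _ => rfl, fimg_autFun α⟩
    obtain ⟨φ, hφ, hφe⟩ := hαE.exists_hom
    obtain ⟨g, hg⟩ := (hreal R hRNR φ fun x => hφe x ▸ hRNR (autFun_mem α x.2)).mp hφ
    have h := hN0T g (hle trivial) _ ((hmemT ⟨x0, hTN hx0⟩).mpr hx0)
    rw [← hg ⟨x0, hTR hx0⟩, hmemT] at h
    exact hbad (hφe ⟨x0, hTR hx0⟩ ▸ h)
  have C : Fail.Hyp0 p (⊤ : Subgroup G) ι.range DG ⊥ TG N0 :=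
    { pM := ⟨le_top, hSy ▸ Sy.isPGroup', by rw [Subgroup.relIndex_top_right, ← hSy]; exact Sy.not_dvd_index⟩
      DM := fun g _ => Fail.norm_of_le fun d hd => hDn.conj_mem d hd g
      DP := Subgroup.map_le_range ι _
      TD := Subgroup.map_mono fun x hx => hTR hx
      W0T := bot_le
      central := fun m _ w hw => by rw [Subgroup.mem_bot.mp hw, one_mul, mul_one]
      tComm := fun y hy t ht => by
        rw [Subgroup.mem_bot, hPc y hy t ht, mul_inv_cancel_right, mul_inv_cancel]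
      tA := fun A hA t ht => hA.mem_of_commute (Subgroup.map_le_range ι _ ht)
        fun a ha => hPc a (hA.1 ha) t ht
      hfix := fun m _ h => hN0 ▸ Fail.norm_of_le fun t ht => by
        rw [mul_inv_eq_one.mp (Subgroup.mem_bot.mp (h t ht))]
        exact ht
      hJ := fun m _ hm => hN0 ▸ Fail.norm_of_le fun t ht => by
        obtain ⟨t, ht', rfl⟩ := ht
        replace ht' : (t : Ω) ∈ T := ht'
        obtain ⟨X, hX⟩ : ∃ X, X = thompsonSubgroupAOf (normalizerIn S R) := ⟨_, rfl⟩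
        have hXN : X ≤ normalizerIn S R := hX ▸ thompsonA_le _
        have hmX : ∀ x (hx : x ∈ X), m * ι ⟨x, hXN hx⟩ * m⁻¹ ∈ thompsonSubgroupAOf ι.range := fun x hx =>
          (Subgroup.mem_normalizer_iff.mp hm _).mp ((hJG _).mpr (hX ▸ hx))
        obtain ⟨f, hf, hfe⟩ := hmap m X hXN fun x hx => thompsonA_le _ (hmX x hx)
        haveI := finite_of_le (hXN.trans hNRS)
        have hfX : fimg f X = X := Subgroup.eq_of_le_of_card_ge (fimg_le fun x hx => by
          obtain ⟨h, he⟩ := hfe x hx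
          exact hX ▸ (hJG ⟨f x, h⟩).mp (he ▸ hmX x hx)) hf.card_fimg.ge
        have hTX : T ≤ X := hX ▸ hTJ _ hNRS hTN
        have hft : f (t : Ω) ∈ T := by
          by_cases hNS : normalizerIn S R = S
          · exact hgood hf (le_of_eq (by rw [hX, hNS])) (by rw [hX, hNS] at hfX; exact hfX) _ ht'
          refine hauts X hTX (hXN.trans hNRS) (Or.inl ?_) f hf hfX _ ht'
          have h1 := lt_normalizerIn hS (lt_of_le_of_ne hNRS hNS)
          haveI : Finite ↥(normalizerIn S X) := finite_of_le (S := S) inf_le_left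
          haveI : Finite ↥(normalizerIn S (normalizerIn S R)) := finite_of_le (S := S) inf_le_left
          refine (card_lt_of_lt h1).trans_le (Subgroup.card_le_of_le fun g hg => ⟨hg.1, ?_⟩)
          refine norm_of_le_in fun x hx => ?_
          have hcm := (isMap_conj F (hXN.trans hNRS) hg.1).map_thompsonA (R := normalizerIn S R)
            (hX ▸ le_rfl) fun y hy => (Subgroup.mem_normalizer_iff.mp hg.2 y).mp (thompsonA_le _ hy)
          rw [← hX] at hcm
          exact hcm.le (apply_mem_fimg (fun y => g * y * g⁻¹) hx)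
        obtain ⟨h, he⟩ := hfe (t : Ω) (hTX ht')
        rw [← he]
        exact (hmemT ⟨f t, h⟩).mpr hft }
  obtain ⟨y, -, hyT, hyord, ⟨t1, ht1, ht1ne⟩, htrans⟩ := Fail.torus hp hN0T C hne'
  -- the automorphism of `T`
  obtain ⟨f, hf, hfe⟩ := hmap y R hRNR fun x hx => Subgroup.map_le_range ι _ (hDconj y x hx)
  have hfT : ∀ x ∈ T, f x ∈ T := fun x hx => by
    obtain ⟨h, he⟩ := hfe x (hTR hx)
    exact (hmemT ⟨f x, h⟩).mp (he ▸ hyT _ ((hmemT ⟨x, hTN hx⟩).mpr hx))
  obtain ⟨ψ, hψ, hψe⟩ := (hf.res hTR).exists_aut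
    (Subgroup.eq_of_le_of_card_ge (fimg_le hfT) (hf.res hTR).card_fimg.ge)
  let e : ↥T → G := fun t => ι ⟨(t : Ω), hTN t.2⟩
  have he : ∀ a b, e (a * b) = e a * e b := fun a b => map_mul ι (⟨(a : Ω), hTN a.2⟩) ⟨(b : Ω), hTN b.2⟩
  have heinv : ∀ a, e a⁻¹ = (e a)⁻¹ := fun a => map_inv ι (⟨(a : Ω), hTN a.2⟩)
  have heinj : Function.Injective e := fun a b h => Subtype.ext (congrArg Subtype.val (hιinj h) :)
  have heT : ∀ a, e a ∈ TG := fun a => (hmemT _).mpr a.2
  have he1 : e 1 = 1 := map_one ι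
  have hψy : ∀ a, e (ψ a) = y * e a * y⁻¹ := by
    intro a
    obtain ⟨h, he'⟩ := hfe (a : Ω) (hTR a.2)
    refine Eq.trans (congrArg ι (Subtype.ext ?_)) he'
    show ((ψ a : T) : Ω) = f a
    rw [← autFun_coe, hψe _ a.2]
  have hψk : ∀ (k : ℕ) a, e ((ψ ^ k) a) = y ^ k * e a * (y ^ k)⁻¹ := by
    intro k
    induction k with
    | zero => intro a; simp
    | succ k ih =>
      intro a
      rw [pow_succ', MulAut.mul_apply, hψy, ih, pow_succ' y]
      group
  haveI : Finite (MulAut ↥T) := Finite.of_injective (fun β : MulAut ↥T => ⇑β) DFunLike.coe_injective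
  refine ⟨Subgroup.zpowers ψ, Subgroup.zpowers_le.mpr hψ, ?_, inferInstance, ?_, ?_⟩
  · intro h
    rw [Subgroup.zpowers_eq_bot] at h
    obtain ⟨t, ht, rfl⟩ := ht1
    refine ht1ne ?_
    have := hψy ⟨t, Subgroup.mem_subgroupOf.mp ht⟩
    rw [h, MulAut.one_apply] at this
    exact this.symm
  · rw [Nat.card_zpowers]
    refine hyord.coprime_dvd_left (orderOf_dvd_of_pow_eq_one (MulEquiv.ext fun a => heinj ?_))
    rw [hψk, pow_orderOf_eq_one, one_mul, inv_one, mul_one, MulAut.one_apply]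
  · have hcl : ∀ a ∈ Subgroup.closure {z : ↥T | ∃ β ∈ Subgroup.zpowers ψ, ∃ t : ↥T, z = β t * t⁻¹},
        e a ∈ Fail.commY y TG := by
      intro a ha
      induction ha using Subgroup.closure_induction with
      | mem z hz =>
        obtain ⟨β, hβ, t, rfl⟩ := hz
        obtain ⟨k, rfl⟩ := mem_powers_iff_mem_zpowers.mpr hβ
        show e ((ψ ^ k) t * t⁻¹) ∈ _
        induction k with
        | zero => rw [pow_zero, MulAut.one_apply, mul_inv_cancel, he1]; exact Subgroup.one_mem _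
        | succ k ih =>
          rw [show e ((ψ ^ (k + 1)) t * t⁻¹) =
            (y * e ((ψ ^ k) t) * y⁻¹ * (e ((ψ ^ k) t))⁻¹) * e ((ψ ^ k) t * t⁻¹) by
              rw [he, he, pow_succ', MulAut.mul_apply, hψy]; group]
          exact Subgroup.mul_mem _ (Subgroup.subset_closure ⟨_, heT _, rfl⟩) (ih (Subgroup.npow_mem_zpowers ψ k))
      | one => rw [he1]; exact Subgroup.one_mem _
      | mul a b _ _ iha ihb => rw [he]; exact Subgroup.mul_mem _ iha ihb
      | inv a _ iha => rw [heinv]; exact Subgroup.inv_mem _ iha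
    intro a b ha hb ha1 hb1
    obtain ⟨k, hk⟩ := htrans (e a) (hcl a ha) (e b) (hcl b hb) (fun h => ha1 (heinj (h.trans he1.symm)))
      (fun h => hb1 (heinj (h.trans he1.symm)))
    exact ⟨ψ ^ k, Subgroup.npow_mem_zpowers ψ k, heinj ((hψk k a).trans hk)⟩

end Cfsg.Agent.S5278
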