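import Cfsg.Statements.S4364
import Cfsg.Agent.Lib.Transfer.Kazarin

set_option maxHeartbeats 1000000
set_option maxRecDepth 8000

set_option autoImplicit false
open Cfsg

namespace Cfsg.Agent.S4364

/-- Let G be a finite group, p a prime and x an element whose conjugacy class has p-power size. Then for any two conjugates y and z of x, the commutator y z y⁻¹ z⁻¹ lies in O_p(G), the largest normal p-subgroup of G. -/
theorem result {G : Type*} [Group G] [Finite G] (p : ℕ) [Fact p.Prime]
    (x : G) (hx : ∃ a : ℕ, (Subgroup.centralizer ({x} : Set G)).index = p ^ a) (g h : G) :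
    (g * x * g⁻¹) * (h * x * h⁻¹) * (g * x * g⁻¹)⁻¹ * (h * x * h⁻¹)⁻¹ ∈ Cfsg.pCore p G := by
  obtain ⟨a, ha⟩ := hx
  haveI := Cfsg.Agent.Grp.pCore_isNormal (p := p) (G := G)
  set f := QuotientGroup.mk' (pCore p G) with hf
  have hs : Function.Surjective f := QuotientGroup.mk'_surjective _
  have hcore : pCore p (G ⧸ pCore p G) = ⊥ := by
    haveI := Cfsg.Agent.Grp.pCore_isNormal (p := p) (G := G ⧸ pCore p G)
    set K := (pCore p (G ⧸ pCore p G)).comap f with hK
    have hKp : IsPGroup p K := (Cfsg.Agent.Grp.pCore_isPGroup (p := p)).comap_of_ker_isPGroup f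
      (by rw [QuotientGroup.ker_mk']; exact Cfsg.Agent.Grp.pCore_isPGroup)
    have h1 : K ≤ pCore p G := Cfsg.Agent.Grp.le_pCore inferInstance hKp
    rw [← Subgroup.map_comap_eq_self_of_surjective hs (pCore p (G ⧸ pCore p G)), ← hK, Subgroup.map_eq_bot_iff,
      QuotientGroup.ker_mk']
    exact h1
  have hdvd : (Subgroup.centralizer ({f x} : Set (G ⧸ pCore p G))).index ∣ p ^ a := by
    rw [← ha]
    refine dvd_trans (Subgroup.index_dvd_of_le ?_) (Subgroup.index_map_dvd _ hs)
    rintro _ ⟨c, hc, rfl⟩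
    rw [SetLike.mem_coe, Subgroup.mem_centralizer_singleton_iff] at hc
    rw [Subgroup.mem_centralizer_singleton_iff, ← map_mul, ← map_mul, hc]
  obtain ⟨b, -, hb⟩ := (Nat.dvd_prime_pow (Fact.out : p.Prime)).1 hdvd
  have hc := (Cfsg.Agent.Transfer.Kazarin.conj_commute hcore hb (f g) (f h)).eq
  refine (QuotientGroup.eq_one_iff _).1 ?_
  show f ((g * x * g⁻¹) * (h * x * h⁻¹) * (g * x * g⁻¹)⁻¹ * (h * x * h⁻¹)⁻¹) = 1
  simp only [map_mul, map_inv]
  rw [hc]
  group

end Cfsg.Agent.S4364
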