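import Cfsg.Statements.S4037
import Cfsg.Agent.Lib.Transfer.Kazarin
import Cfsg.Agent.S4364
-- import your own Cfsg.Agent.* helpers here

set_option autoImplicit false
open Cfsg

namespace Cfsg.Agent.S4037

/-- If an element x of a finite group G has a conjugacy class of prime-power size, then the normal closure of x in G (the subgroup generated by the conjugacy class of x) is solvable. -/
theorem result {G : Type*} [Group G] [Finite G]
    (x : G) {p : ℕ} (hp : p.Prime) (k : ℕ) (hx : (ConjClasses.mk x).carrier.ncard = p ^ k) :
    Group.IsSolvable ↥(Subgroup.normalClosure ({x} : Set G)) := by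
  haveI : Fact p.Prime := ⟨hp⟩
  haveI := Cfsg.Agent.Grp.pCore_isNormal (p := p) (G := G)
  have hidx : (Subgroup.centralizer ({x} : Set G)).index = p ^ k := by
    rw [← hx]
    refine Eq.trans ?_ (congrArg Set.ncard (ConjAct.orbit_eq_carrier_conjClasses x))
    rw [← MulAction.index_stabilizer, ConjAct.stabilizer_eq_centralizer]
    rfl
  set M := Subgroup.normalClosure ({x} : Set G) with hM
  set f : ↥M →* G ⧸ pCore p G := (QuotientGroup.mk' (pCore p G)).comp M.subtype with hf
  have hcomm : ∀ a b : ↥M, f a * f b = f b * f a := by
    intro a b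
    have key : ∀ u ∈ M, ∀ v ∈ M, Commute (QuotientGroup.mk' (pCore p G) u) (QuotientGroup.mk' (pCore p G) v) := by
      intro u hu v hv
      induction hu using Subgroup.closure_induction with
      | mem y hy =>
        induction hv using Subgroup.closure_induction with
        | mem z hz =>
          obtain ⟨s, hs, hc⟩ := Group.mem_conjugatesOfSet_iff.1 hy
          rw [Set.mem_singleton_iff.1 hs] at hc
          obtain ⟨g, rfl⟩ := isConj_iff.1 hc
          obtain ⟨t, ht, hc'⟩ := Group.mem_conjugatesOfSet_iff.1 hz
          rw [Set.mem_singleton_iff.1 ht] at hc'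
          obtain ⟨h, rfl⟩ := isConj_iff.1 hc'
          have h1 := (QuotientGroup.eq_one_iff _).2 (Cfsg.Agent.S4364.result p x ⟨k, hidx⟩ g h)
          rw [← QuotientGroup.mk'_apply (pCore p G), map_mul, map_mul, map_inv, map_inv, mul_inv_eq_one,
            mul_inv_eq_iff_eq_mul] at h1
          exact h1
        | one => rw [map_one]; exact Commute.one_right _
        | mul a b _ _ ha hb => rw [map_mul]; exact ha.mul_right hb
        | inv a _ ha => rw [map_inv]; exact ha.inv_right
      | one => rw [map_one]; exact Commute.one_left _
      | mul a b _ _ ha hb => rw [map_mul]; exact ha.mul_left hb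
      | inv a _ ha => rw [map_inv]; exact ha.inv_left
    exact (key a.1 a.2 b.1 b.2).eq
  haveI hr : Group.IsSolvable ↥f.range := Group.isSolvable_of_comm (by
    rintro ⟨_, a, rfl⟩ ⟨_, b, rfl⟩
    exact Subtype.ext (hcomm a b))
  haveI hk : Group.IsSolvable ↥f.ker := by
    haveI : Group.IsNilpotent ↥f.ker := by
      refine IsPGroup.isNilpotent (p := p) ?_
      have : f.ker = (pCore p G).comap M.subtype := by
        rw [hf, ← MonoidHom.comap_ker, QuotientGroup.ker_mk']
      rw [this]
      exact (Cfsg.Agent.Grp.pCore_isPGroup (p := p)).comap_of_injective M.subtype M.subtype_injective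
    infer_instance
  exact Group.isSolvable_of_ker_le_range f.ker.subtype f.rangeRestrict (by
    rw [MonoidHom.ker_rangeRestrict, Subgroup.range_subtype])

end Cfsg.Agent.S4037
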