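import Cfsg.Statements.S4200
import Mathlib
import Cfsg.Agent.Lib.Grp.Basic

set_option maxHeartbeats 1000000
set_option maxRecDepth 8000

set_option autoImplicit false
open Cfsg

namespace Cfsg.Agent.S4200

/-- Let Y be a subgroup of the finite group X, of index m. Then the numbers of conjugacy classes satisfy k(Y) ≤ m·k(X) and k(X) ≤ m·k(Y), and the second inequality is strict unless Y is normal in X. -/
theorem result {X : Type*} [Group X] [Finite X] (Y : Subgroup X) : Nat.card (ConjClasses Y) ≤ Y.index * Nat.card (ConjClasses X) ∧ Nat.card (ConjClasses X) ≤ Y.index * Nat.card (ConjClasses Y) ∧ (¬ Y.Normal → Nat.card (ConjClasses X) < Y.index * Nat.card (ConjClasses Y)) := by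
  classical
  letI := Fintype.ofFinite X
  letI := Fintype.ofFinite Y
  set m := Y.index
  have hm : Nat.card X = Nat.card Y * m := Y.card_mul_index.symm
  have hsum : ∀ {H : Type _} [Group H] [Fintype H],
      Nat.card {p : H × H // Commute p.1 p.2} = ∑ x : H, Nat.card (Subgroup.centralizer ({x} : Set H)) := by
    intro H _ _
    rw [← Nat.card_sigma]
    exact Nat.card_congr
      { toFun := fun p => ⟨p.1.1, p.1.2, Subgroup.mem_centralizer_singleton_iff.mpr p.2.eq.symm⟩
        invFun := fun p => ⟨(p.1, p.2.1), (Subgroup.mem_centralizer_singleton_iff.mp p.2.2).symm⟩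
        left_inv := fun p => rfl
        right_inv := fun p => rfl }
  have hX := hsum (H := X)
  have hY := hsum (H := Y)
  rw [card_comm_eq_card_conjClasses_mul_card] at hX hY
  -- centralizers in `Y`
  set cY : X → ℕ := fun x => Nat.card ↥(Y ⊓ Subgroup.centralizer ({x} : Set X))
  have hcY : ∀ y : Y, Nat.card (Subgroup.centralizer ({y} : Set Y)) = cY y := fun y => by
    refine Nat.card_congr
      { toFun := fun c => ⟨c.1, c.1.2, Subgroup.mem_centralizer_singleton_iff.mpr
          (congrArg Subtype.val (Subgroup.mem_centralizer_singleton_iff.mp c.2))⟩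
        invFun := fun c => ⟨⟨c.1, c.2.1⟩, Subgroup.mem_centralizer_singleton_iff.mpr (Subtype.ext
          (Subgroup.mem_centralizer_singleton_iff.mp c.2.2))⟩
        left_inv := fun c => rfl
        right_inv := fun c => rfl }
  simp only [hcY] at hY
  have hstep : ∀ x : X, cY x * (Y ⊓ Subgroup.centralizer ({x} : Set X)).relIndex (Subgroup.centralizer {x}) =
      Nat.card (Subgroup.centralizer ({x} : Set X)) := fun x =>
    Agent.Grp.card_mul_relIndex inf_le_right
  have hrel : ∀ x : X, (Y ⊓ Subgroup.centralizer ({x} : Set X)).relIndex (Subgroup.centralizer {x}) ≤ m :=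
    fun x => by
      rw [Subgroup.inf_relIndex_right]
      exact Subgroup.relIndex_le_of_le_right le_top (by
        rw [Subgroup.relIndex_top_right]; exact Subgroup.index_ne_zero_of_finite) |>.trans
          (le_of_eq Y.relIndex_top_right)
  -- double counting
  have hswap : ∑ x : X, cY x = ∑ y : Y, Nat.card (Subgroup.centralizer ({(y : X)} : Set X)) := by
    simp only [cY]
    rw [← Nat.card_sigma, ← Nat.card_sigma]
    exact Nat.card_congr
      { toFun := fun p => ⟨⟨p.2.1, p.2.2.1⟩, ⟨p.1, Subgroup.mem_centralizer_singleton_iff.mpr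
          (Subgroup.mem_centralizer_singleton_iff.mp p.2.2.2).symm⟩⟩
        invFun := fun p => ⟨p.2.1, ⟨p.1.1, p.1.2, Subgroup.mem_centralizer_singleton_iff.mpr
          (Subgroup.mem_centralizer_singleton_iff.mp p.2.2).symm⟩⟩
        left_inv := fun p => rfl
        right_inv := fun p => rfl }
  have h1 : ∑ x : X, Nat.card (Subgroup.centralizer ({x} : Set X)) ≤
      m * ∑ y : Y, Nat.card (Subgroup.centralizer ({(y : X)} : Set X)) := by
    rw [← hswap, Finset.mul_sum]
    exact Finset.sum_le_sum fun x _ => by
      rw [← hstep x, mul_comm]; exact Nat.mul_le_mul_right _ (hrel x)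
  have h2 : ∀ y : Y, Nat.card (Subgroup.centralizer ({(y : X)} : Set X)) ≤ m * cY y := fun y => by
    rw [← hstep y, mul_comm]; exact Nat.mul_le_mul_right _ (hrel y)
  have h3 : ∑ y : Y, Nat.card (Subgroup.centralizer ({(y : X)} : Set X)) ≤ m * ∑ y : Y, cY y := by
    rw [Finset.mul_sum]
    exact Finset.sum_le_sum fun y _ => h2 y
  have hmpos : 0 < m := Nat.pos_of_ne_zero Subgroup.index_ne_zero_of_finite
  have hYpos : 0 < Nat.card Y := Nat.card_pos
  refine ⟨?_, ?_, fun hn => ?_⟩
  · have hinj : Nat.card {p : Y × Y // Commute p.1 p.2} ≤ Nat.card {p : X × X // Commute p.1 p.2} :=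
      Nat.card_le_card_of_injective
        (fun p => ⟨((p.1.1 : X), (p.1.2 : X)), congrArg Subtype.val p.2.eq⟩)
        (fun p q h => by
          have := congrArg Subtype.val h
          simp only [Prod.mk.injEq] at this
          exact Subtype.ext (Prod.ext (Subtype.ext this.1) (Subtype.ext this.2)))
    rw [card_comm_eq_card_conjClasses_mul_card, card_comm_eq_card_conjClasses_mul_card] at hinj
    refine Nat.le_of_mul_le_mul_right (hinj.trans (le_of_eq ?_)) hYpos
    rw [hm]; ring
  · refine Nat.le_of_mul_le_mul_right ?_ (Nat.mul_pos hYpos hmpos)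
    calc Nat.card (ConjClasses X) * (Nat.card Y * m) ≤ m * (m * ∑ y : Y, cY y) := by
          rw [← hm, hX]; exact h1.trans (Nat.mul_le_mul_left m h3)
      _ = m * Nat.card (ConjClasses Y) * (Nat.card Y * m) := by rw [← hY]; ring
  · by_contra hge
    rw [not_lt] at hge
    have heq : ∀ y : Y, Nat.card (Subgroup.centralizer ({(y : X)} : Set X)) = m * cY y := by
      by_contra hne
      obtain ⟨y, hy⟩ := not_forall.mp hne
      have h4 : ∑ y : Y, Nat.card (Subgroup.centralizer ({(y : X)} : Set X)) < m * ∑ y : Y, cY y := by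
        rw [Finset.mul_sum]
        exact Finset.sum_lt_sum (fun y _ => h2 y) ⟨y, Finset.mem_univ _, lt_of_le_of_ne (h2 y) hy⟩
      have h5 := (lt_of_le_of_lt h1 (Nat.mul_lt_mul_of_pos_left h4 hmpos))
      rw [← hX, ← hY, hm] at h5
      nlinarith
    apply hn
    refine ⟨fun y hy g => ?_⟩
    set Cy := Subgroup.centralizer ({y} : Set X)
    have hy' := heq ⟨y, hy⟩
    rw [← hstep y, mul_comm] at hy'
    have hr : Y.relIndex Cy = m := by
      rw [← Subgroup.inf_relIndex_right]
      exact Nat.eq_of_mul_eq_mul_right Nat.card_pos hy'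
    -- the cosets of `Y` are covered by the centralizer
    let φ : Cy ⧸ Y.subgroupOf Cy → X ⧸ Y :=
      Quotient.map' (fun c : Cy => (c : X)) fun a b h => by
        rw [QuotientGroup.leftRel_apply] at h ⊢
        exact h
    have hφ : Function.Injective φ := by
      intro a b
      induction a using QuotientGroup.induction_on with | _ a => ?_
      induction b using QuotientGroup.induction_on with | _ b => ?_
      intro h
      exact QuotientGroup.eq.mpr (Subgroup.mem_subgroupOf.mpr (QuotientGroup.eq.mp h))
    have hcard : Nat.card (Cy ⧸ Y.subgroupOf Cy) = Nat.card (X ⧸ Y) := hr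
    obtain ⟨q, hq⟩ := ((Nat.bijective_iff_injective_and_card φ).mpr ⟨hφ, hcard⟩).2 (QuotientGroup.mk g⁻¹)
    induction q using QuotientGroup.induction_on with | _ c => ?_
    have hz : (c : X)⁻¹ * g⁻¹ ∈ Y := QuotientGroup.eq.mp hq
    set z := (c : X)⁻¹ * g⁻¹
    have hc := Subgroup.mem_centralizer_singleton_iff.mp c.2
    have he : g * y * g⁻¹ = z⁻¹ * y * z := by
      calc g * y * g⁻¹ = z⁻¹ * ((c : X)⁻¹ * (y * c)) * z := by simp only [z]; group
        _ = z⁻¹ * y * z := by rw [← hc]; group
    rw [he]
    exact Y.mul_mem (Y.mul_mem (Y.inv_mem hz) hy) hz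

end Cfsg.Agent.S4200
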