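import Cfsg.Statements.S0122
import Cfsg.Agent.Lib.Transfer.RankTwo
import Cfsg.Agent.Lib.Grp.Signalizer
import Cfsg.Agent.Lib.Grp.Coprime

set_option maxHeartbeats 1000000
set_option maxRecDepth 8000

set_option autoImplicit false
open Cfsg
open scoped commutatorElement

namespace Cfsg.Agent.S0122

/-- For odd p, a p-group containing an elementary abelian subgroup of order p^4 has a normal elementary abelian subgroup of order p^4. -/
theorem result {G : Type*} [Group G] [Finite G] {p : ℕ} [Fact p.Prime] (hp : p ≠ 2) (hG : IsPGroup p G) (E : Subgroup G) (hE : Cfsg.IsElementaryAbelian p E) (hE4 : Nat.card E = p ^ 4) : ∃ A : Subgroup G, A.Normal ∧ Cfsg.IsElementaryAbelian p A ∧ Nat.card A = p ^ 4 := by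
  classical
  have hp' : p.Prime := Fact.out
  obtain ⟨A, hAn, hAab, hAe, hmem⟩ := Transfer.RankTwo.exists_normal_omega_max hp hG
  haveI := hAn
  have hAc : ∀ a ∈ A, ∀ b ∈ A, a * b = b * a := fun a ha b hb =>
    congrArg Subtype.val (hAab.is_comm.comm ⟨a, ha⟩ ⟨b, hb⟩)
  have hEc : ∀ a ∈ E, ∀ b ∈ E, a * b = b * a := fun a ha b hb =>
    congrArg Subtype.val (hE.1.is_comm.comm ⟨a, ha⟩ ⟨b, hb⟩)
  obtain ⟨j, hj⟩ := IsPGroup.iff_card.1 (hG.to_subgroup A)
  by_cases hA4 : 4 ≤ j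
  · obtain ⟨L, hLn, hLA, hLc⟩ := Transfer.RankTwo.exists_normal_card hG A 4 (hj ▸ Nat.pow_le_pow_right hp'.pos hA4)
    exact ⟨L, hLn, ⟨⟨⟨fun a b => Subtype.ext (hAc a (hLA a.2) b (hLA b.2))⟩⟩, fun a ha => hAe a (hLA ha)⟩, hLc⟩
  have hA3 : Nat.card A ≤ p ^ 3 := hj ▸ Nat.pow_le_pow_right hp'.pos (by omega)
  have hpow : ∀ a b : ℕ, a < b → p ^ a < p ^ b := fun a b h => Nat.pow_lt_pow_right hp'.one_lt h
  have hnot : ¬ E ≤ Subgroup.centralizer (A : Set G) := fun h => by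
    have := Subgroup.card_le_of_le (show E ≤ A from fun x hx => hmem x (h hx) (hE.2 x hx))
    rw [hE4] at this
    have := hpow 3 4 (by omega)
    omega
  -- a normal subgroup of order `p²` inside `A`
  by_cases hA2 : j ≤ 2
  · exfalso
    have h1 := Grp.RankThree.card_inf_centralizer_ge hG hAab (hj ▸ Nat.pow_le_pow_right hp'.pos hA2)
      (hE4 ▸ (hpow 3 4 (by omega)).le)
    have heq : E ⊓ Subgroup.centralizer (A : Set G) = A := Subgroup.eq_of_le_of_card_ge
      (fun x hx => hmem x hx.2 (hE.2 x hx.1)) ((hj.le.trans (Nat.pow_le_pow_right hp'.pos hA2)).trans h1)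
    refine hnot fun x hx => Subgroup.mem_centralizer_iff.2 fun a ha => hEc a ?_ x hx
    have : a ∈ E ⊓ Subgroup.centralizer (A : Set G) := heq.ge ha
    exact this.1
  obtain rfl : j = 3 := by omega
  obtain ⟨W, hWn, hWA, hWc⟩ := Transfer.RankTwo.exists_normal_card hG A 2 (hj ▸ (hpow 2 3 (by omega)).le)
  haveI := hWn
  have hWab : IsMulCommutative W := ⟨⟨fun a b => Subtype.ext (hAc a (hWA a.2) b (hWA b.2))⟩⟩
  obtain ⟨a₀, ha₀, ha₀W⟩ := SetLike.exists_of_lt (lt_of_le_of_ne hWA fun e => by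
    rw [e, hj] at hWc
    have := hpow 2 3 (by omega)
    omega)
  set CW := Subgroup.centralizer (W : Set G) with hCW
  haveI : CW.Normal := Subgroup.normal_centralizer
  -- every element of `A` is a product of an element of `W` and a power of `a₀`
  have hAgen : ∀ a ∈ A, ∃ w ∈ W, ∃ i : ℤ, a = w * a₀ ^ i := by
    have hle : W ⊔ Subgroup.zpowers a₀ = A := by
      refine Subgroup.eq_of_le_of_card_ge (sup_le hWA (Subgroup.zpowers_le.2 ha₀)) ?_
      obtain ⟨k, hk⟩ := IsPGroup.iff_card.1 (hG.to_subgroup (W ⊔ Subgroup.zpowers a₀))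
      have h1 : Nat.card W < Nat.card (W ⊔ Subgroup.zpowers a₀ : Subgroup G) := by
        by_contra hge
        exact ha₀W ((Subgroup.eq_of_le_of_card_ge le_sup_left (not_lt.1 hge)).symm ▸
          Subgroup.mem_sup_right (Subgroup.mem_zpowers a₀))
      rw [hWc, hk] at h1
      rw [hk, hj]
      exact Nat.pow_le_pow_right hp'.pos ((Nat.pow_lt_pow_iff_right hp'.one_lt).1 h1)
    intro a ha
    rw [← hle] at ha
    obtain ⟨w, hw, y, hy, rfl⟩ := Subgroup.mem_sup_of_normal_left.1 ha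
    obtain ⟨i, rfl⟩ := Subgroup.mem_zpowers_iff.1 hy
    exact ⟨w, hw, i, rfl⟩
  -- on `C(W)` the map `x ↦ [x, a₀]` takes values in `W`
  have hAstep : ∀ x : G, ⁅x, a₀⁆ ∈ W := by
    obtain ⟨L, hLn, hWL, hLA, hLc, hcom⟩ := Transfer.NormalSteps.exists_normal_step hG (lt_of_le_of_ne hWA fun e => ha₀W (e ▸ ha₀))
    have hLeq : L = A := Subgroup.eq_of_le_of_card_ge hLA (by rw [hLc, hWc, hj, ← pow_succ'])
    exact fun x => hcom x a₀ (hLeq ▸ ha₀)
  let ψ : CW →* W := MonoidHom.mk' (fun x => ⟨⁅(x : G), a₀⁆, hAstep x⟩) fun x y => Subtype.ext (by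
    show ⁅(x : G) * y, a₀⁆ = ⁅(x : G), a₀⁆ * ⁅(y : G), a₀⁆
    have h1 := Subgroup.mem_centralizer_iff.1 x.2 _ (hAstep (y : G))
    calc ⁅(x : G) * y, a₀⁆ = (x : G) * ⁅(y : G), a₀⁆ * (x : G)⁻¹ * ⁅(x : G), a₀⁆ := by
          simp only [commutatorElement_def]; group
      _ = ⁅(y : G), a₀⁆ * ⁅(x : G), a₀⁆ := by rw [← h1, mul_inv_cancel_right]
      _ = _ := hAc _ (hWA (hAstep _)) _ (hWA (hAstep _)))
  have hψker : ∀ x : G, ∀ hx : x ∈ CW, ψ ⟨x, hx⟩ = 1 → x ∈ Subgroup.centralizer (A : Set G) := by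
    intro x hx h
    refine Subgroup.mem_centralizer_iff.2 fun a ha => ?_
    obtain ⟨w, hw, i, rfl⟩ := hAgen a ha
    have h1 : Commute w x := Subgroup.mem_centralizer_iff.1 hx w hw
    have h2 : Commute a₀ x := (commutatorElement_eq_one_iff_mul_comm.1 (congrArg Subtype.val h)).symm
    exact (h1.mul_left (h2.zpow_left i)).eq
  -- the part of `E` centralizing `W`
  set E₁ := E ⊓ CW with hE₁
  have hE₁c : p ^ 3 ≤ Nat.card E₁ := by
    have h2 := Grp.RankThree.index_centralizer_le hG hWab hWc.le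
    have h3 : CW.relIndex E ≤ p := le_trans
      (Nat.le_of_dvd (Nat.pos_of_ne_zero Subgroup.index_ne_zero_of_finite) (Subgroup.relIndex_dvd_index_of_normal CW E)) h2
    have h1 : Nat.card E₁ * CW.relIndex E = Nat.card E := by
      rw [hE₁, ← Subgroup.inf_relIndex_left E CW, Subgroup.relIndex,
        ← Nat.card_congr (Subgroup.subgroupOfEquivOfLe (inf_le_left : E ⊓ CW ≤ E)).toEquiv]
      exact Subgroup.card_mul_index _
    rw [hE4] at h1
    refine Nat.le_of_mul_le_mul_right ?_ hp'.pos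
    calc p ^ 3 * p = p ^ 4 := by rw [← pow_succ]
      _ = Nat.card E₁ * CW.relIndex E := h1.symm
      _ ≤ Nat.card E₁ * p := Nat.mul_le_mul_left _ h3
  set E₀ := E ⊓ A with hE₀
  let ψ₁ : E₁ →* W := ψ.comp (Subgroup.inclusion inf_le_right)
  have hker : ψ₁.ker.map E₁.subtype ≤ E₀ := by
    rintro _ ⟨x, hx, rfl⟩
    exact ⟨x.2.1, hmem _ (hψker x x.2.2 hx) (hE.2 _ x.2.1)⟩
  have hcard₁ : Nat.card E₁ = Nat.card ψ₁.range * Nat.card ψ₁.ker := by
    rw [← Subgroup.index_ker, mul_comm]; exact (Subgroup.card_mul_index _).symm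
  have hkerc : Nat.card ψ₁.ker ≤ Nat.card E₀ := by
    rw [← Subgroup.card_map_of_injective (f := E₁.subtype) E₁.subtype_injective]
    exact Subgroup.card_le_of_le hker
  have hrng : Nat.card ψ₁.range ≤ p ^ 2 := hWc ▸ Subgroup.card_le_card_group _
  obtain ⟨r, hr⟩ := IsPGroup.iff_card.1 (hG.to_subgroup E₀)
  have hr2 : r ≤ 2 := by
    by_contra hlt
    have h1 : E₀ = A := Subgroup.eq_of_le_of_card_ge inf_le_right (by rw [hj, hr]; exact Nat.pow_le_pow_right hp'.pos (by omega))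
    exact hnot fun x hx => Subgroup.mem_centralizer_iff.2 fun a ha => hEc a (h1.ge ha).1 x hx
  have hAcard : Nat.card A = p * Nat.card W := by rw [hj, hWc, ← pow_succ']
  have hcenA : ∀ a ∈ A, a ∉ W → ∀ x ∈ CW, Commute x a → x ∈ Subgroup.centralizer (A : Set G) := by
    intro a ha haW x hx hxa
    rw [Transfer.NormalSteps.eq_closure_insert hWA hAcard ha haW, Subgroup.centralizer_closure]
    refine Subgroup.mem_centralizer_iff.2 ?_
    rintro y (rfl | hy)
    · exact hxa.eq.symm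
    · exact Subgroup.mem_centralizer_iff.1 hx y hy
  have hE₀W : E₀ ≤ W := by
    intro a ha
    by_contra haW
    have hle : E₁ ≤ E₀ := fun x hx =>
      ⟨hx.1, hmem x (hcenA a ha.2 haW x hx.2 (hEc x hx.1 a ha.1)) (hE.2 x hx.1)⟩
    have h1 := hE₁c.trans (Subgroup.card_le_of_le hle)
    rw [hr] at h1
    have := (Nat.pow_le_pow_iff_right hp'.one_lt).1 h1
    omega
  obtain ⟨m, hm, hmr⟩ := (Nat.dvd_prime_pow hp').1 (hWc ▸ Subgroup.card_subgroup_dvd_card ψ₁.range)
  have hbound : Nat.card E₁ ≤ p ^ (m + r) := by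
    rw [pow_add, ← hmr, ← hr, hcard₁]
    exact Nat.mul_le_mul_left _ hkerc
  -- `E` centralizes `W`
  have hEW : E ≤ CW := by
    intro e he
    refine Subgroup.mem_centralizer_iff.2 fun w hw => ?_
    by_cases hr' : r = 2
    · have h1 : E₀ = W := Subgroup.eq_of_le_of_card_ge hE₀W (by rw [hWc, hr, hr'])
      exact hEc w (h1.ge hw).1 e he
    have hm2 : m = 2 := by
      have := (Nat.pow_le_pow_iff_right hp'.one_lt).1 (hE₁c.trans hbound)
      omega
    have htop : ψ₁.range = ⊤ := Subgroup.eq_top_of_card_eq _ (by rw [hmr, hWc, hm2])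
    obtain ⟨⟨x, hxE, hxW⟩, hxw⟩ : (⟨w, hw⟩ : W) ∈ ψ₁.range := htop.symm ▸ Subgroup.mem_top _
    have hxw' : ⁅x, a₀⁆ = w := congrArg Subtype.val hxw
    have h1 : e * a₀ * e⁻¹ = ⁅e, a₀⁆ * a₀ := by rw [commutatorElement_def, inv_mul_cancel_right]
    have h2 : e * w * e⁻¹ = w := by
      rw [← hxw']
      calc e * ⁅x, a₀⁆ * e⁻¹ = ⁅e * x * e⁻¹, e * a₀ * e⁻¹⁆ := by simp only [commutatorElement_def]; group
        _ = ⁅x, ⁅e, a₀⁆ * a₀⁆ := by rw [hEc e he x hxE, mul_inv_cancel_right, h1]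
        _ = ⁅x, ⁅e, a₀⁆⁆ * (⁅e, a₀⁆ * ⁅x, a₀⁆ * ⁅e, a₀⁆⁻¹) := by simp only [commutatorElement_def]; group
        _ = ⁅x, a₀⁆ := by
          rw [hAc _ (hWA (hAstep e)) _ (hWA (hAstep x)), mul_inv_cancel_right,
            commutatorElement_eq_one_iff_mul_comm.2 (Subgroup.mem_centralizer_iff.1 hxW _ (hAstep e)).symm, one_mul]
    exact (mul_inv_eq_iff_eq_mul.1 h2).symm
  have hE₁E : E₁ = E := inf_eq_left.2 hEW
  rw [hE₁E, hE4] at hbound
  have h4 := (Nat.pow_le_pow_iff_right hp'.one_lt).1 hbound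
  have hWE : W ≤ E := (Subgroup.eq_of_le_of_card_ge hE₀W (by rw [hWc, hr, show r = 2 by omega])).ge.trans inf_le_left
  have hsurj : ψ₁.range = ⊤ := Subgroup.eq_top_of_card_eq _ (by rw [hmr, hWc, show m = 2 by omega])
  -- every element of `C(W)` lies in `E C(A)`
  have hEC : ∀ x ∈ CW, ∃ e ∈ E, e⁻¹ * x ∈ Subgroup.centralizer (A : Set G) := by
    intro x hx
    obtain ⟨⟨e, heE, heW⟩, he⟩ : ψ ⟨x, hx⟩ ∈ ψ₁.range := hsurj.symm ▸ Subgroup.mem_top _
    refine ⟨e, heE, hψker _ (mul_mem (inv_mem heW) hx) ?_⟩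
    have he' : ψ ⟨e, heW⟩ = ψ ⟨x, hx⟩ := he
    rw [show (⟨e⁻¹ * x, mul_mem (inv_mem heW) hx⟩ : CW) = (⟨e, heW⟩ : CW)⁻¹ * ⟨x, hx⟩ from rfl, map_mul, map_inv,
      he', inv_mul_cancel]
  set F := E ⊔ A with hF
  have hinf : E ⊓ A = W := le_antisymm hE₀W (le_inf hWE hWA)
  have hFc : Nat.card F = p ^ 5 := by
    have h1 := Grp.card_sup_mul_card_inf_normal (H := E) (N := A)
    rw [hinf, hWc, hE4, hj, ← hF] at h1
    refine Nat.eq_of_mul_eq_mul_right (pow_pos hp'.pos 2) (h1.trans ?_)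
    rw [← pow_add, ← pow_add]
  have hFN : F ≤ Subgroup.normalizer (E : Set G) := by
    refine sup_le Subgroup.le_normalizer ((Grp.invariant_iff).mp fun a ha e he => ?_)
    have h1 : ⁅e, a₀⁆ ∈ W := hAstep e
    obtain ⟨w, hw, i, rfl⟩ := hAgen a ha
    have h2 : e * a₀ ^ i * e⁻¹ = ⁅e, a₀⁆ ^ i * a₀ ^ i := by
      rw [← conj_zpow, ← (show Commute ⁅e, a₀⁆ a₀ from hAc _ (hWA h1) _ ha₀).mul_zpow, commutatorElement_def,
        inv_mul_cancel_right]
    have h3 : w * a₀ ^ i * e * (w * a₀ ^ i)⁻¹ = w * ((⁅e, a₀⁆ ^ i)⁻¹ * e) * w⁻¹ := by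
      calc w * a₀ ^ i * e * (w * a₀ ^ i)⁻¹ = w * (a₀ ^ i * (e * a₀ ^ i * e⁻¹)⁻¹ * e) * w⁻¹ := by group
        _ = _ := by rw [h2, mul_inv_rev, mul_inv_cancel_left]
    rw [h3]
    exact E.mul_mem (E.mul_mem (hWE hw) (E.mul_mem (E.inv_mem (E.zpow_mem (hWE h1) i)) he)) (E.inv_mem (hWE hw))
  -- `E` is the only elementary abelian subgroup of order `p⁴` of `F` containing `W`
  have huniq : ∀ g ∈ Subgroup.normalizer (F : Set G), E.map (MulAut.conj g).toMonoidHom ≤ E := by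
    intro g hg
    set E' := E.map (MulAut.conj g).toMonoidHom with hE'
    have hE'F : E' ≤ F := by
      rintro _ ⟨e, he, rfl⟩
      exact Grp.mem_conj_normalizer hg (Subgroup.mem_sup_left he)
    have hE'c : Nat.card E' = p ^ 4 := by rw [hE', Subgroup.card_map_of_injective (MulAut.conj g).injective, hE4]
    have hE'ab : ∀ x ∈ E', ∀ y ∈ E', x * y = y * x := by
      rintro _ ⟨x, hx, rfl⟩ _ ⟨y, hy, rfl⟩
      rw [← map_mul, ← map_mul, hEc x hx y hy]
    intro x hx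
    obtain ⟨e, he, a, ha, hea⟩ := Subgroup.mem_sup_of_normal_right.1 (hE'F hx)
    by_cases haW : a ∈ W
    · exact hea ▸ E.mul_mem he (hWE haW)
    exfalso
    have hle : E' ⊓ E ≤ W := fun y hy => by
      refine hinf.le ⟨hy.2, hmem y (hcenA a ha haW y (hEW hy.2) ?_) (hE.2 y hy.2)⟩
      have h1 : Commute y x := hE'ab y hy.1 x hx
      rw [← hea] at h1
      have h2 : Commute y e := hEc y hy.2 e he
      have := h2.inv_right.mul_right h1
      rwa [inv_mul_cancel_left] at this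
    have h5 := Grp.card_sup_mul_card_inf (H := E') (N := E) (hE'F.trans hFN)
    have h6 : Nat.card ↥(E' ⊔ E) ≤ p ^ 5 := hFc ▸ Subgroup.card_le_of_le (sup_le hE'F le_sup_left)
    have h7 : Nat.card ↥(E' ⊓ E) ≤ p ^ 2 := hWc ▸ Subgroup.card_le_of_le hle
    have h8 := Nat.mul_le_mul h6 h7
    rw [h5, hE'c, hE4, ← pow_add, ← pow_add] at h8
    have := (Nat.pow_le_pow_iff_right hp'.one_lt).1 h8
    omega
  have hfin : Subgroup.normalizer (F : Set G) = ⊤ := by
    by_contra hne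
    haveI := hG.isNilpotent
    obtain ⟨g, hgN, hg⟩ := SetLike.exists_of_lt (Group.normalizerCondition_of_isNilpotent _ (lt_top_iff_ne_top.2 hne))
    set N := Subgroup.normalizer (F : Set G) with hN
    have hEN : ∀ n ∈ N, n ∈ Subgroup.normalizer (E : Set G) := fun n hn => by
      rw [Subgroup.mem_normalizer_iff_map_conj_eq]
      exact Subgroup.eq_of_le_of_card_ge (huniq n hn) (Subgroup.card_map_of_injective (MulAut.conj n).injective).ge
    refine hg (Subgroup.mem_normalizer_iff_map_conj_eq.2 (Subgroup.eq_of_le_of_card_ge ?_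
      (Subgroup.card_map_of_injective (MulAut.conj g).injective).ge))
    show F.map (MulAut.conj g).toMonoidHom ≤ F
    rw [hF, Subgroup.map_sup]
    refine sup_le ?_ (le_sup_of_le_right ?_)
    · rintro _ ⟨e', he', rfl⟩
      set y := g * e' * g⁻¹ with hy
      have hyN : y ∈ N := Grp.mem_conj_normalizer hgN (Subgroup.le_normalizer (Subgroup.mem_sup_left he'))
      have hyW : y ∈ CW := (inferInstance : CW.Normal).conj_mem e' (hEW he') g
      obtain ⟨e, he, hc⟩ := hEC y hyW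
      show y ∈ E ⊔ A
      have hxN : g⁻¹ * e⁻¹ * g ∈ Subgroup.normalizer (E : Set G) := hEN _ (by
        simpa using Grp.mem_conj_normalizer ((Subgroup.normalizer (N : Set G)).inv_mem hgN)
          (Subgroup.le_normalizer (Subgroup.mem_sup_left (T := A) (E.inv_mem he))))
      set k := y * e⁻¹ * y⁻¹ * e⁻¹⁻¹ with hk
      have hkE : k ∈ E := E.mul_mem (Grp.mem_conj_normalizer (hEN y hyN) (E.inv_mem he)) (E.inv_mem (E.inv_mem he))
      have hke : g⁻¹ * k * g ∈ E := by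
        have h9 : g⁻¹ * k * g = e' * ((g⁻¹ * e⁻¹ * g) * e'⁻¹ * (g⁻¹ * e⁻¹ * g)⁻¹) := by rw [hk, hy]; group
        rw [h9]
        exact E.mul_mem he' (Grp.mem_conj_normalizer hxN (E.inv_mem he'))
      have hky : Commute k y := by
        calc k * y = g * ((g⁻¹ * k * g) * e') * g⁻¹ := by rw [hy]; group
          _ = g * (e' * (g⁻¹ * k * g)) * g⁻¹ := by rw [hEc _ hke e' he']
          _ = y * k := by rw [hy]; group
      have hpow := Grp.mul_pow_class_two (x := e⁻¹) (y := y) (c := k) (by rw [hk]; group)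
        (hEc k hkE _ (E.inv_mem he)) hky p
      obtain ⟨t, ht⟩ := hp'.dvd_choose_self two_ne_zero (by have := hp'.two_le; omega : 2 < p)
      rw [inv_pow, hE.2 e he, inv_one, mul_one, ht, pow_mul, hE.2 k hkE, one_pow, one_mul, hy, conj_pow,
        hE.2 e' he', mul_one, mul_inv_cancel, ← hy] at hpow
      have := Subgroup.mul_mem _ (Subgroup.mem_sup_left (T := A) he) (Subgroup.mem_sup_right (hmem _ hc hpow))
      rwa [mul_inv_cancel_left] at this
    · rintro _ ⟨a, ha, rfl⟩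
      exact hAn.conj_mem a ha g
  refine ⟨E, ⟨fun x hx g => ?_⟩, hE, hE4⟩
  exact huniq g (hfin.symm ▸ Subgroup.mem_top g) ⟨x, hx, rfl⟩

end Cfsg.Agent.S0122
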