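import Cfsg.Statements.S1337
import Cfsg.Agent.Lib.Grp.RankThreeFour


set_option autoImplicit false
open Cfsg

namespace Cfsg.Agent.S1337

/-- Let P be a finite p-group of p-rank greater than 2. Then P has a normal elementary abelian subgroup U of order p², and for every elementary abelian X ≤ P with |X| ≥ p²: X is joined to U by a chain of pairwise commuting elementary abelian subgroups of order ≥ p² if and only if C_P(X) has p-rank greater than 2. -/
theorem result {P : Type*} [Group P] [Finite P] (p : ℕ) [Fact p.Prime] (hP : IsPGroup p P) (hrk : ¬ Cfsg.PRankLE p 2 P) : ∃ U : Subgroup P, U.Normal ∧ Cfsg.IsElementaryAbelian p U ∧ Nat.card ↥U = p ^ 2 ∧ ∀ X : Subgroup P, Cfsg.IsElementaryAbelian p X → p ^ 2 ≤ Nat.card ↥X → (Relation.ReflTransGen (fun A B : Subgroup P => Cfsg.IsElementaryAbelian p A ∧ p ^ 2 ≤ Nat.card ↥A ∧ Cfsg.IsElementaryAbelian p B ∧ p ^ 2 ≤ Nat.card ↥B ∧ ∀ a ∈ A, ∀ b ∈ B, a * b = b * a) X U ↔ ¬ Cfsg.PRankLE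 p 2 ↥(Subgroup.centralizer (X : Set P))) := by
  classical
  have hp : p.Prime := Fact.out
  unfold Cfsg.PRankLE at hrk
  push Not at hrk
  obtain ⟨E₀, hE₀c, hE₀p, hE₀⟩ := hrk
  have key : ∀ (A : Subgroup P), p ^ 2 < Nat.card A → p ^ 3 ≤ Nat.card A := fun A hA => by
    obtain ⟨j, hj⟩ := IsPGroup.iff_card.mp (hP.to_subgroup A)
    rw [hj] at hA ⊢
    exact Nat.pow_le_pow_right hp.pos ((Nat.pow_lt_pow_iff_right hp.one_lt).mp hA)
  have hE3 := key E₀ hE₀
  obtain ⟨U, hUn, hUe, hUc⟩ := Cfsg.Agent.Grp.RankThree.exists_normal_sq hP ⟨hE₀c, hE₀p⟩ hE3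
  refine ⟨U, hUn, hUe, hUc, fun X hXe hXc => ?_⟩
  -- the join of two commuting elementary abelian subgroups
  have join : ∀ A B : Subgroup P, Cfsg.IsElementaryAbelian p A → Cfsg.IsElementaryAbelian p B →
      (∀ a ∈ A, ∀ b ∈ B, a * b = b * a) → Cfsg.IsElementaryAbelian p (A ⊔ B : Subgroup P) := by
    intro A B hA hB hab
    have hc : ∀ u ∈ (A : Set P) ∪ B, ∀ v ∈ (A : Set P) ∪ B, u * v = v * u := by
      rintro u (hu | hu) v (hv | hv)
      exacts [congrArg Subtype.val (hA.1.is_comm.comm ⟨u, hu⟩ ⟨v, hv⟩), hab u hu v hv, (hab v hv u hu).symm,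
        congrArg Subtype.val (hB.1.is_comm.comm ⟨u, hu⟩ ⟨v, hv⟩)]
    have hcl : A ⊔ B = Subgroup.closure ((A : Set P) ∪ B) := by
      rw [Subgroup.closure_union, Subgroup.closure_eq, Subgroup.closure_eq]
    have hcomm : ∀ u ∈ A ⊔ B, ∀ v ∈ A ⊔ B, u * v = v * u := fun u hu v hv => by
      rw [hcl] at hu hv
      induction hu, hv using Subgroup.closure_induction₂ with
      | mem x y hx hy => exact hc x hx y hy
      | one_left x _ => rw [one_mul, mul_one]
      | one_right x _ => rw [one_mul, mul_one]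
      | mul_left x y z _ _ _ h1 h2 => rw [mul_assoc, h2, ← mul_assoc, h1, mul_assoc]
      | mul_right y z x _ _ _ h1 h2 => rw [← mul_assoc, h1, mul_assoc, h2, mul_assoc]
      | inv_left x y _ _ h => exact Commute.inv_left h
      | inv_right x y _ _ h => exact Commute.inv_right h
    refine ⟨⟨⟨fun u v => Subtype.ext (hcomm u u.2 v v.2)⟩⟩, fun u hu => ?_⟩
    rw [hcl] at hu
    induction hu using Subgroup.closure_induction with
    | mem u hu => rcases hu with h | h; exacts [hA.2 u h, hB.2 u h]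
    | one => exact one_pow p
    | mul u v hu hv iu iv =>
      rw [(show Commute u v from hcomm u (hcl ▸ hu) v (hcl ▸ hv)).mul_pow, iu, iv, one_mul]
    | inv u _ iu => rw [inv_pow, iu, inv_one]
  have hcardC : ∀ (A : Subgroup P) (S : Set P), Cfsg.IsElementaryAbelian p A → A ≤ Subgroup.centralizer S →
      p ^ 2 < Nat.card A → ¬ Cfsg.PRankLE p 2 ↥(Subgroup.centralizer S) := by
    intro A S hA hle hlt hr
    have h1 := hr (A.subgroupOf (Subgroup.centralizer S))
      ⟨⟨fun u v => Subtype.ext (Subtype.ext (congrArg (fun t : A => (t : P)) (hA.1.is_comm.comm ⟨_, u.2⟩ ⟨_, v.2⟩)))⟩⟩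
      (fun u hu => Subtype.ext (hA.2 _ hu))
    rw [Nat.card_congr (Subgroup.subgroupOfEquivOfLe hle).toEquiv] at h1
    exact absurd h1 (not_le.mpr hlt)
  constructor
  · intro hchain hr
    have honly : ∀ Y : Subgroup P, Cfsg.IsElementaryAbelian p Y → p ^ 2 ≤ Nat.card Y →
        (∀ a ∈ X, ∀ b ∈ Y, a * b = b * a) → X = Y := by
      intro Y hY hYc hXY
      have hJ := join X Y hXe hY hXY
      have hle : X ⊔ Y ≤ Subgroup.centralizer (X : Set P) := fun u hu => Subgroup.mem_centralizer_iff.mpr fun x hx =>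
        congrArg Subtype.val (hJ.1.is_comm.comm ⟨x, (le_sup_left : X ≤ X ⊔ Y) hx⟩ ⟨u, hu⟩)
      have hJc : Nat.card (X ⊔ Y : Subgroup P) ≤ p ^ 2 := not_lt.mp fun h => hcardC _ _ hJ hle h hr
      have e1 : X = X ⊔ Y := Subgroup.eq_of_le_of_card_ge le_sup_left (hJc.trans hXc)
      have e2 : Y = X ⊔ Y := Subgroup.eq_of_le_of_card_ge le_sup_right (hJc.trans hYc)
      exact e1.trans e2.symm
    have hXU : X = U := by
      clear hUn hUe hUc
      induction hchain with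
      | refl => rfl
      | tail _ hstep ih =>
        rw [← ih] at hstep
        exact honly _ hstep.2.2.1 hstep.2.2.2.1 hstep.2.2.2.2
    subst hXU
    have h1 := Cfsg.Agent.Grp.RankThree.card_inf_centralizer_ge hP hUe.1 hUc.le hE3
    have hE2e : Cfsg.IsElementaryAbelian p (E₀ ⊓ Subgroup.centralizer (X : Set P) : Subgroup P) :=
      ⟨⟨⟨fun u v => Subtype.ext (congrArg (fun t : E₀ => (t : P)) (hE₀c.is_comm.comm ⟨_, u.2.1⟩ ⟨_, v.2.1⟩))⟩⟩,
        fun u hu => hE₀p u hu.1⟩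
    have h2 := honly _ hE2e h1 (fun a ha b hb => Subgroup.mem_centralizer_iff.mp hb.2 a ha)
    have h3 : X ≤ E₀ := fun x hx => (h2.le hx).1
    exact hcardC E₀ _ ⟨hE₀c, hE₀p⟩ (fun e he => Subgroup.mem_centralizer_iff.mpr fun x hx =>
      congrArg Subtype.val (hE₀c.is_comm.comm ⟨x, h3 hx⟩ ⟨e, he⟩)) hE₀ hr
  · intro hr
    unfold Cfsg.PRankLE at hr
    push Not at hr
    obtain ⟨E₁, hE₁c, hE₁p, hE₁⟩ := hr
    set F := E₁.map (Subgroup.centralizer (X : Set P)).subtype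
    have hFe : Cfsg.IsElementaryAbelian p F := by
      refine ⟨⟨⟨?_⟩⟩, ?_⟩
      · rintro ⟨_, u, hu, rfl⟩ ⟨_, v, hv, rfl⟩
        exact Subtype.ext (congrArg (fun t : E₁ => ((t : ↥(Subgroup.centralizer (X : Set P))) : P))
          (hE₁c.is_comm.comm ⟨u, hu⟩ ⟨v, hv⟩))
      · rintro _ ⟨u, hu, rfl⟩
        rw [← map_pow, hE₁p u hu, map_one]
    have hFX : ∀ a ∈ X, ∀ b ∈ F, a * b = b * a := by
      rintro a ha _ ⟨u, -, rfl⟩
      exact Subgroup.mem_centralizer_iff.mp u.2 a ha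
    have hFc : p ^ 3 ≤ Nat.card F := by
      refine key F ?_
      rw [Subgroup.card_map_of_injective (Subgroup.subtype_injective _)]
      exact hE₁
    have hF2 : p ^ 2 ≤ Nat.card F := le_trans (Nat.pow_le_pow_right hp.pos (by norm_num)) hFc
    have hG2 := Cfsg.Agent.Grp.RankThree.card_inf_centralizer_ge hP hUe.1 hUc.le hFc
    have hGe : Cfsg.IsElementaryAbelian p (F ⊓ Subgroup.centralizer (U : Set P) : Subgroup P) :=
      ⟨⟨⟨fun u v => Subtype.ext (congrArg (fun t : F => (t : P)) (hFe.1.is_comm.comm ⟨_, u.2.1⟩ ⟨_, v.2.1⟩))⟩⟩,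
        fun u hu => hFe.2 u hu.1⟩
    refine .head ⟨hXe, hXc, hFe, hF2, hFX⟩ (.head ⟨hFe, hF2, hGe, hG2, fun a ha b hb => ?_⟩
      (.head ⟨hGe, hG2, hUe, hUc.ge, fun a ha b hb => (Subgroup.mem_centralizer_iff.mp ha.2 b hb).symm⟩ .refl))
    exact congrArg Subtype.val (hFe.1.is_comm.comm ⟨a, ha⟩ ⟨b, hb.1⟩)

end Cfsg.Agent.S1337
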