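import Cfsg.Statements.S0132
import Cfsg.Agent.Lib.Transfer.Frobenius
import Cfsg.Agent.Lib.Transfer.Elements
import Cfsg.Agent.Lib.Grp.Cores

set_option linter.style.haveILetI false
set_option linter.unusedVariables false
-- import your own Cfsg.Agent.* helpers here

set_option autoImplicit false
open Cfsg

namespace Cfsg.Agent.S0132

/-- A minimal non-p-nilpotent finite group is a minimal non-nilpotent group with a normal Sylow p-subgroup. -/
theorem result {G : Type*} [Group G] [Finite G] {p : ℕ} [Fact p.Prime] (h1 : ¬ Cfsg.HasNormalPComplement p G) (h2 : ∀ H : Subgroup G, H ≠ ⊤ → Cfsg.HasNormalPComplement p H) : (∀ H : Subgroup G, H ≠ ⊤ → Group.IsNilpotent H) ∧ ¬ Group.IsNilpotent G ∧ ∀ P : Sylow p G, (P : Subgroup G).Normal := by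
  have hp : p.Prime := Fact.out
  -- a failure of the Frobenius condition
  set P₀ : Sylow p G := default with hP₀
  have hnF : ¬ Cfsg.Agent.Transfer.FrobeniusCondition p (P₀ : Subgroup G) := fun h =>
    h1 ((Cfsg.Agent.Transfer.hasNormalPComplement_iff_frobeniusCondition P₀).2 h)
  simp only [Cfsg.Agent.Transfer.FrobeniusCondition, not_forall] at hnF
  obtain ⟨Q, hQP, g, hg, hgc, hgn⟩ := hnF
  have hQp : IsPGroup p Q := P₀.isPGroup'.to_le hQP
  -- a prime power part which does not centralize `Q`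
  obtain ⟨q, hq, y, ⟨k, hk⟩, hyz, hyn⟩ : ∃ q : ℕ, q.Prime ∧ ∃ y : G, (∃ k, orderOf y = q ^ k) ∧
      y ∈ Subgroup.zpowers g ∧ y ∉ Subgroup.centralizer (Q : Set G) := by
    by_contra hc
    push Not at hc
    exact hgn (Cfsg.Agent.Transfer.prime_parts g _ fun q hq y hy hyz => hc q hq y hy hyz)
  have hyN : y ∈ Subgroup.normalizer (Q : Set G) := (Subgroup.zpowers_le.2 hg) hyz
  have hyc : Nat.Coprime (orderOf y) p := by
    refine Nat.Coprime.coprime_dvd_left ?_ hgc
    have := Subgroup.orderOf_dvd_natCard _ hyz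
    rwa [Nat.card_zpowers] at this
  -- `G = Q⟨y⟩`
  have htop : Q ⊔ Subgroup.zpowers y = ⊤ := by
    by_contra hne
    set L := Q ⊔ Subgroup.zpowers y with hL
    have hQL : Q ≤ L := le_sup_left
    have hyL : y ∈ L := Subgroup.mem_sup_right (Subgroup.mem_zpowers y)
    have hF := Cfsg.Agent.Transfer.frobeniusCondition_of_hasNormalPComplement (h2 L hne)
      (P := Q.subgroupOf L) (hQp.of_equiv (Subgroup.subgroupOfEquivOfLe hQL).symm)
    have hc := hF (Q.subgroupOf L) le_rfl ⟨y, hyL⟩
      (by rw [Subgroup.mem_normalizer_iff]; intro a; exact Subgroup.mem_normalizer_iff.1 hyN a)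
      (by rwa [Subgroup.orderOf_mk])
    exact hyn fun a ha => congrArg Subtype.val (hc ⟨a, hQL ha⟩ ha)
  have hQn : Q.Normal := Subgroup.normalizer_eq_top_iff.1 (top_le_iff.1 (htop ▸
    sup_le Subgroup.le_normalizer (Subgroup.zpowers_le.2 hyN)))
  have hcyc : Function.Surjective ((QuotientGroup.mk' Q).comp (Subgroup.zpowers y).subtype) := by
    intro a
    induction a using QuotientGroup.induction_on with
    | H z =>
      have hz : z ∈ Subgroup.zpowers y ⊔ Q := by rw [sup_comm, htop]; exact Subgroup.mem_top z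
      obtain ⟨b, hb, c, hc, rfl⟩ := Subgroup.mem_sup_of_normal_right.1 hz
      exact ⟨⟨b, hb⟩, QuotientGroup.eq.2 (by simpa using hc)⟩
  have hidx : ¬ p ∣ Q.index := by
    intro hd
    have h3 : Q.index ∣ orderOf y := by
      rw [Subgroup.index_eq_card, ← Nat.card_zpowers]
      exact Subgroup.card_dvd_of_surjective _ hcyc
    exact hp.coprime_iff_not_dvd.1 hyc.symm (hd.trans h3)
  have hsyl : ∀ P : Sylow p G, (P : Subgroup G) = Q := fun P =>
    congrArg Sylow.toSubgroup ((hQp.toSylow hidx).ext (Q := P) (by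
      have := (hQp.toSylow hidx).3 P.isPGroup' (hQp.le_sylow_of_normal P)
      simpa using this.symm)).symm
  refine ⟨fun H hH => ?_, fun hnil => ?_, fun P => (hsyl P).symm ▸ hQn⟩
  · -- proper subgroups are nilpotent
    have hc : IsCyclic (G ⧸ Q) := isCyclic_of_surjective _ hcyc
    set M := Cfsg.pResidual p H with hM
    set A := Q.subgroupOf H with hA
    have hMd : ¬ p ∣ Nat.card M := Cfsg.Agent.Transfer.hasNormalPComplement_iff_not_dvd.1 (h2 H hH)
    have hAp : IsPGroup p A := hQp.comap_subtype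
    let f : M →* G ⧸ Q := (QuotientGroup.mk' Q).comp (H.subtype.comp M.subtype)
    have hf : Function.Injective f := by
      rw [injective_iff_map_eq_one]
      intro a ha
      have haA : (a : H) ∈ A := (QuotientGroup.eq_one_iff ((a : H) : G)).1 ha
      obtain ⟨j, hj⟩ := IsPGroup.iff_orderOf.1 hAp ⟨_, haA⟩
      rw [Subgroup.orderOf_mk] at hj
      have hd := M.orderOf_dvd_natCard a.2
      rw [hj] at hd
      rcases j with _ | j
      · rw [pow_zero, orderOf_eq_one_iff] at hj
        exact Subtype.ext hj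
      · exact absurd ((dvd_pow_self p j.succ_ne_zero).trans hd) hMd
    have hMc : IsCyclic M := isCyclic_of_injective f hf
    have hMn : Group.IsNilpotent M := by
      letI : CommGroup M := IsCyclic.commGroup
      exact CommGroup.isNilpotent
    have hs := Cfsg.Agent.Grp.isNilpotent_sup_normal M A hMn hAp.isNilpotent
    have hMA : M ⊔ A = ⊤ := by
      obtain ⟨P, hP⟩ := hAp.exists_le_sylow
      rw [eq_top_iff, ← Cfsg.Agent.Transfer.sylow_sup_pResidual P]
      refine sup_le ?_ le_sup_left
      obtain ⟨R, hR⟩ := (P.isPGroup'.map H.subtype).exists_le_sylow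
      exact fun a ha => Subgroup.mem_sup_right (show (a : G) ∈ Q from (hsyl R).le (hR ⟨a, ha, rfl⟩))
    rw [hMA] at hs
    exact (Group.isNilpotent_congr Subgroup.topEquiv).1 hs
  · haveI := hnil
    haveI : Fact q.Prime := ⟨hq⟩
    obtain ⟨S, hS⟩ := (IsPGroup.of_card (n := k) (G := Subgroup.zpowers y)
      (by rw [Nat.card_zpowers, hk])).exists_le_sylow
    have hSn : (S : Subgroup G).Normal := Cfsg.Agent.Grp.isNilpotent_iff_sylow_normal.1 hnil q ⟨hq⟩ S
    rcases k with _ | k
    · rw [pow_zero, orderOf_eq_one_iff] at hk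
      exact hyn (hk ▸ Subgroup.one_mem _)
    have hqp : q ≠ p := by
      rintro rfl
      exact hp.coprime_iff_not_dvd.1 hyc.symm (hk ▸ dvd_pow_self q k.succ_ne_zero)
    have hco : (Nat.card (S : Subgroup G)).Coprime (Nat.card Q) := by
      obtain ⟨a, ha⟩ := IsPGroup.iff_card.1 S.isPGroup'
      obtain ⟨b, hb⟩ := IsPGroup.iff_card.1 hQp
      rw [ha, hb]
      exact Nat.coprime_pow_primes _ _ hq hp hqp
    exact hyn (Cfsg.Agent.Grp.commute_of_coprime_normal hco (hS (Subgroup.mem_zpowers y)))

end Cfsg.Agent.S0132
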