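import Cfsg.Statements.S0536
import Mathlib
import Cfsg.Agent.S0132
import Cfsg.Agent.Lib.Transfer.NormalComplement
import Cfsg.Agent.Lib.Grp.Basic
import Cfsg.Agent.Lib.Grp.FpfPrime
-- import your own Cfsg.Agent.* helpers here

set_option autoImplicit false
open Cfsg

namespace Cfsg.Agent.S0536

/-- Structure of minimal non-nilpotent groups: if a finite group is not nilpotent but all its proper subgroups are, then there are distinct primes p and q, a cyclic Sylow p-subgroup P and a normal Sylow q-subgroup Q with G generated by P and Q. -/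
theorem result {G : Type*} [Group G] [Finite G] (hG : Cfsg.IsMinimalNonNilpotent G) : ∃ p q : ℕ, p.Prime ∧ q.Prime ∧ p ≠ q ∧ ∃ (P : Sylow p G) (Q : Sylow q G), IsCyclic P ∧ (Q : Subgroup G).Normal ∧ (P : Subgroup G) ⊔ Q = ⊤ := by
  classical
  obtain ⟨r, hr, hno⟩ : ∃ r : ℕ, r.Prime ∧ ¬ HasNormalPComplement r G := by
    by_contra hall
    push Not at hall
    refine hG.1 ((Cfsg.Agent.Grp.isNilpotent_iff_sylow_normal).2 fun p hp P => ?_)
    set I : Subgroup G := ⨅ q : {q : ℕ // q.Prime ∧ q ≠ p}, pResidual (q : ℕ) G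
    haveI : I.Normal := Subgroup.normal_iInf_normal fun q => inferInstance
    have hI : IsPGroup p I := fun x => by
      refine ⟨(orderOf x).factorization p, orderOf_dvd_iff_pow_eq_one.1 (dvd_of_eq ?_)⟩
      conv_lhs => rw [← Nat.prod_factorization_pow_eq_self (orderOf_pos x).ne']
      rw [Finsupp.prod_of_support_subset _ (s := {p}) (fun q hq => ?_) _ (fun i _ => pow_zero i), Finset.prod_singleton]
      rw [Nat.support_factorization, Nat.mem_primeFactors] at hq
      rw [Finset.mem_singleton]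
      by_contra hne
      haveI := Fact.mk hq.1
      have h1 := (Cfsg.Agent.Transfer.mem_pResidual_iff (hall q hq.1)).1
        (Subgroup.mem_iInf.1 x.2 (⟨q, hq.1, hne⟩ : {q : ℕ // q.Prime ∧ q ≠ p}))
      rw [Subgroup.orderOf_coe] at h1
      exact hq.1.coprime_iff_not_dvd.1 h1.symm hq.2.1
    have hPI : (P : Subgroup G) ≤ I := le_iInf fun q x hx => by
      haveI := Fact.mk q.2.1
      refine (Cfsg.Agent.Transfer.mem_pResidual_iff (hall q q.2.1)).2 ?_
      obtain ⟨k, hk⟩ := IsPGroup.iff_orderOf.1 P.isPGroup' ⟨x, hx⟩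
      rw [Subgroup.orderOf_mk] at hk
      rw [hk]
      exact ((Nat.coprime_primes hp.out q.2.1).2 (Ne.symm q.2.2)).pow_left k
    exact (P.is_maximal' hI hPI) ▸ (inferInstance : I.Normal)
  haveI := Fact.mk hr
  have hprop : ∀ H : Subgroup G, H ≠ ⊤ → HasNormalPComplement r H := fun H hH =>
    Cfsg.Agent.Grp.hasNormalPComplement_of_nilpotent (hG.2 H hH)
  obtain ⟨-, -, hn⟩ := Cfsg.Agent.S0132.result hno hprop
  let R : Sylow r G := default
  haveI := hn R
  obtain ⟨p, x, hp, hpr, hxp, hxc⟩ : ∃ (p : ℕ) (x : G), p.Prime ∧ p ≠ r ∧ (∃ k, orderOf x = p ^ k) ∧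
      x ∉ Subgroup.centralizer ((R : Subgroup G) : Set G) := by
    by_contra hall
    push Not at hall
    obtain ⟨K, hK⟩ := Subgroup.exists_left_complement'_of_coprime (N := (R : Subgroup G)) R.card_coprime_index
    have hKr : ¬ r ∣ Nat.card K := fun hd => R.not_dvd_index (hK.index_eq_card.symm ▸ hd)
    have hKc : K ≤ Subgroup.centralizer ((R : Subgroup G) : Set G) := fun k hk =>
      Cfsg.Agent.Transfer.prime_parts k _ fun p hp y hy hyz => by
        by_cases hpr : p = r
        · subst hpr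
          obtain ⟨j, hj⟩ := hy
          rcases Nat.eq_zero_or_pos j with rfl | hj0
          · rw [pow_zero, orderOf_eq_one_iff] at hj; rw [hj]; exact one_mem _
          · exact absurd ((dvd_pow_self p hj0.ne').trans (hj ▸ K.orderOf_dvd_natCard (Subgroup.zpowers_le.2 hk hyz))) hKr
        · obtain ⟨j, hj⟩ := hy
          exact hall p y hp hpr ⟨j, hj⟩
    have hKn : K.Normal := by
      rw [← Subgroup.normalizer_eq_top_iff, ← top_le_iff, ← hK.sup_eq_top]
      refine sup_le Subgroup.le_normalizer ?_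
      intro z hz
      refine Subgroup.centralizer_le_normalizer _ (Subgroup.mem_centralizer_iff.2 fun y hy => ?_)
      exact (Subgroup.mem_centralizer_iff.1 (hKc hy) z hz).symm
    exact hno ⟨R, K, hKn, hK⟩
  haveI := Fact.mk hp
  obtain ⟨k, hk⟩ := hxp
  set U := (R : Subgroup G) ⊔ Subgroup.zpowers x with hU
  have htop : U = ⊤ := by
    by_contra hne
    haveI := hG.2 U hne
    have hnorm := (Cfsg.Agent.Grp.isNilpotent_iff_sylow_normal (G := U)).1 inferInstance
    have hx : x ∈ U := Subgroup.mem_sup_right (Subgroup.mem_zpowers x)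
    obtain ⟨S, hS⟩ := (IsPGroup.of_card (p := p) (n := k) (by rw [Nat.card_zpowers, Subgroup.orderOf_mk, hk]) :
      IsPGroup p (Subgroup.zpowers (⟨x, hx⟩ : U))).exists_le_sylow
    obtain ⟨T, hT⟩ := (show IsPGroup r ((R : Subgroup G).subgroupOf U) from R.isPGroup'.comap_subtype).exists_le_sylow
    refine hxc (Subgroup.mem_centralizer_iff.2 fun y hy => ?_)
    have h := Subgroup.commute_of_normal_of_disjoint _ _ (hnorm r inferInstance T) (hnorm p inferInstance S)
      (T.isPGroup'.disjoint_of_ne r p (Ne.symm hpr) _ _ S.isPGroup') ⟨y, Subgroup.mem_sup_left hy⟩ ⟨x, hx⟩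
      (hT hy) (hS (Subgroup.mem_zpowers _))
    exact congrArg Subtype.val h.eq
  have hxp' : IsPGroup p (Subgroup.zpowers x) := IsPGroup.of_card (by rw [Nat.card_zpowers, hk])
  obtain ⟨P, hP⟩ := hxp'.exists_le_sylow
  have hcard := Cfsg.Agent.Grp.card_sup_mul_card_inf_normal (H := Subgroup.zpowers x) (N := (R : Subgroup G))
  have hinf : Subgroup.zpowers x ⊓ (R : Subgroup G) = ⊥ :=
    (hxp'.disjoint_of_ne p r hpr _ _ R.isPGroup').eq_bot
  rw [hinf, Subgroup.card_bot, mul_one, sup_comm, ← hU, htop, Subgroup.card_top, Nat.card_zpowers, hk] at hcard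
  have hPeq : Subgroup.zpowers x = (P : Subgroup G) := by
    refine Subgroup.eq_of_le_of_card_ge hP ?_
    rw [Nat.card_zpowers, hk, P.card_eq_multiplicity]
    refine Nat.le_of_dvd (pow_pos hp.pos k) ?_
    have hd : p ^ (Nat.card G).factorization p ∣ p ^ k * Nat.card (R : Subgroup G) :=
      (Nat.ordProj_dvd _ _).trans (dvd_of_eq hcard)
    refine Nat.Coprime.dvd_of_dvd_mul_right ?_ hd
    obtain ⟨j, hj⟩ := IsPGroup.iff_card.1 R.isPGroup'
    rw [hj]
    exact Nat.coprime_pow_primes _ _ hp hr hpr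
  refine ⟨p, r, hp, hr, hpr, P, R, ?_, inferInstance, ?_⟩
  · show IsCyclic (P : Subgroup G)
    rw [← hPeq]; infer_instance
  · rw [← hPeq, sup_comm]; exact htop

end Cfsg.Agent.S0536
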