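import Cfsg.Statements.S0581
import Mathlib
import Cfsg.Agent.Lib.Grp.Solvable
import Cfsg.Agent.Lib.Grp.Cores
import Cfsg.Agent.Lib.Grp.Basic
import Cfsg.Agent.S0046
-- import your own Cfsg.Agent.* helpers here

set_option autoImplicit false
open Pointwise
open Cfsg

namespace Cfsg.Agent.S0581

set_option linter.style.haveILetI false

open scoped Pointwise

universe w

variable {G : Type w} [Group G] [Finite G]

theorem exists_sylow_le {H : Subgroup G} (hHall : (Nat.card H).Coprime H.index) {q : ℕ}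
    [hq : Fact q.Prime] (hd : q ∣ Nat.card H) : ∃ S : Sylow q G, (S : Subgroup G) ≤ H := by
  obtain ⟨S⟩ : Nonempty (Sylow q H) := Sylow.nonempty
  have hnd : ¬ q ∣ ((S : Subgroup H).map H.subtype).index := by
    rw [Subgroup.index_map_subtype]
    intro h
    rcases hq.out.dvd_mul.mp h with h | h
    · exact S.not_dvd_index h
    · exact hq.out.ne_one (Nat.dvd_one.1 (hHall ▸ Nat.dvd_gcd hd h))
  exact ⟨(S.isPGroup'.map H.subtype).toSylow hnd, Subgroup.map_subtype_le _⟩

omit [Finite G] in
theorem hall_conj {H : Subgroup G} (g : G) : Nat.card (MulAut.conj g • H : Subgroup G) = Nat.card H ∧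
    ((MulAut.conj g • H : Subgroup G)).index = H.index :=
  ⟨(Nat.card_congr (Subgroup.equivSMul (MulAut.conj g) H).toEquiv).symm,
    H.index_map_equiv (MulAut.conj g)⟩

theorem commute_of_nilpotent {H : Subgroup G} (hH : Group.IsNilpotent H) {q p : ℕ} [Fact q.Prime]
    [Fact p.Prime] (hqp : q ≠ p) {S T : Subgroup G} (hS : IsPGroup q S) (hT : IsPGroup p T)
    (hSH : S ≤ H) (hTH : T ≤ H) : S ≤ Subgroup.centralizer (T : Set G) := by
  obtain ⟨S', hS'⟩ := (hS.comap_subtype (K := H)).exists_le_sylow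
  obtain ⟨T', hT'⟩ := (hT.comap_subtype (K := H)).exists_le_sylow
  haveI := Grp.isNilpotent_iff_sylow_normal.1 hH q inferInstance S'
  haveI := Grp.isNilpotent_iff_sylow_normal.1 hH p inferInstance T'
  have h := Grp.commute_of_coprime_normal (M := (S' : Subgroup H)) (N := (T' : Subgroup H))
    (IsPGroup.coprime_card_of_ne q p hqp _ _ S'.isPGroup' T'.isPGroup')
  intro s hs t ht
  exact congrArg Subtype.val (h (hS' (show (⟨s, hSH hs⟩ : H) ∈ S.subgroupOf H from hs)) ⟨t, hTH ht⟩
    (hT' (show (⟨t, hTH ht⟩ : H) ∈ T.subgroupOf H from ht)))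

theorem core : ∀ (n : ℕ) (G : Type w) [Group G] [Finite G] (H K : Subgroup G),
    Nat.card G + Nat.card K = n → Group.IsNilpotent H → (Nat.card H).Coprime H.index →
    (∀ p : ℕ, p.Prime → p ∣ Nat.card K → p ∣ Nat.card H) →
    ∃ x : G, K ≤ MulAut.conj x • H := by
  intro n
  induction n using Nat.strong_induction_on with
  | _ n ih =>
  intro G _ _ H K hn hH hHall hK
  by_cases hK1 : K = ⊥
  · exact ⟨1, hK1 ▸ bot_le⟩
  haveI : Nontrivial K := (Subgroup.nontrivial_iff_ne_bot K).2 hK1
  -- proper subgroups of K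
  have hprop : ∀ M : Subgroup G, M < K → ∃ x : G, M ≤ MulAut.conj x • H := fun M hM => by
    refine ih _ ?_ G H M rfl hH hHall fun p hp hd => hK p hp (hd.trans (Subgroup.card_dvd_of_le hM.le))
    rw [← hn]
    exact Nat.add_lt_add_left (lt_of_le_of_ne (Subgroup.card_le_of_le hM.le)
      fun e => hM.ne (Subgroup.eq_of_le_of_card_ge hM.le e.ge)) _
  have hsol : Group.IsSolvable K := S0046.result fun M hM => by
    obtain ⟨x, hx⟩ := hprop (M.map K.subtype) (lt_of_le_of_ne (Subgroup.map_subtype_le M) fun e =>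
      hM.1 (Subgroup.map_injective K.subtype_injective (by
        rw [e, ← MonoidHom.range_eq_map, Subgroup.range_subtype])))
    haveI : Group.IsNilpotent (MulAut.conj x • H : Subgroup G) :=
      Group.nilpotent_of_mulEquiv (Subgroup.equivSMul (MulAut.conj x) H)
    exact Group.nilpotent_of_mulEquiv ((Subgroup.subgroupOfEquivOfLe hx).trans
      (M.equivMapOfInjective K.subtype K.subtype_injective).symm)
  obtain ⟨R₀, ⟨hRn, hRb⟩, hmin⟩ := Set.exists_min_image {N : Subgroup K | N.Normal ∧ N ≠ ⊥}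
    (fun N => Nat.card N) (Set.toFinite _) ⟨⊤, inferInstance, top_ne_bot⟩
  haveI := hRn
  obtain ⟨p, hp, hRp⟩ := Grp.minimal_normal_solvable_isPGroup inferInstance hRb
    (fun M hM hle => or_iff_not_imp_left.2 fun hb => Subgroup.eq_of_le_of_card_ge hle (hmin M ⟨hM, hb⟩))
  haveI := Fact.mk hp
  set R := R₀.map K.subtype with hR
  have hRK : R ≤ K := Subgroup.map_subtype_le R₀
  have hRpG : IsPGroup p R := hRp.map K.subtype
  have hRne : R ≠ ⊥ := fun e => hRb ((Subgroup.map_eq_bot_iff_of_injective _ K.subtype_injective).1 e)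
  have hpR : p ∣ Nat.card R := by
    haveI : Nontrivial R := (Subgroup.nontrivial_iff_ne_bot R).2 hRne
    obtain ⟨k, hk, e⟩ := hRpG.nontrivial_iff_card.1 inferInstance
    rw [e]; exact dvd_pow_self p hk.ne'
  have hpH : p ∣ Nat.card H := hK p hp (hpR.trans (Subgroup.card_dvd_of_le hRK))
  set NN := Subgroup.normalizer (R : Set G) with hNN
  have hKN : K ≤ NN := by
    intro k hk
    rw [Subgroup.mem_normalizer_iff]
    intro x
    constructor
    · rintro ⟨y, hy, rfl⟩
      exact ⟨⟨k, hk⟩ * y * ⟨k, hk⟩⁻¹, hRn.conj_mem y hy _, by simp⟩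
    · rintro ⟨y, hy, hyx⟩
      refine ⟨⟨k, hk⟩⁻¹ * y * ⟨k, hk⟩, hRn.conj_mem' y hy _, ?_⟩
      simp only [map_mul, map_inv, Subgroup.coe_subtype] at hyx ⊢
      rw [hyx]; group
  -- choose a conjugate of H containing a Sylow subgroup of the normalizer
  obtain ⟨PN₀, hPN₀⟩ := (hRpG.comap_subtype (K := NN)).exists_le_sylow
  set PN := (PN₀ : Subgroup NN).map NN.subtype with hPN
  obtain ⟨PG, hPG⟩ := (PN₀.isPGroup'.map NN.subtype).exists_le_sylow
  obtain ⟨Hp, hHp⟩ := exists_sylow_le hHall hpH
  obtain ⟨g, hg⟩ := MulAction.exists_smul_eq G Hp PG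
  set H' := MulAut.conj g • H with hH'
  obtain ⟨hc', hi'⟩ := hall_conj (H := H) g
  have hPGH : (PG : Subgroup G) ≤ H' := by
    rw [← hg, hH']
    exact Subgroup.pointwise_smul_le_pointwise_smul_iff.mpr hHp
  have hPNH : PN ≤ H' := hPG.trans hPGH
  have hRH : R ≤ H' := fun x hx =>
    hPNH ⟨⟨x, Subgroup.le_normalizer hx⟩, hPN₀ hx, rfl⟩
  have hH'n : Group.IsNilpotent H' := Group.nilpotent_of_mulEquiv (Subgroup.equivSMul (MulAut.conj g) H)
  have hHall' : (Nat.card H').Coprime H'.index := by rw [hc', hi']; exact hHall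
  suffices hfin : ∃ x : G, K ≤ MulAut.conj x • H' by
    obtain ⟨x, hx⟩ := hfin
    exact ⟨x * g, by rw [map_mul, mul_smul]; exact hx⟩
  by_cases hNt : NN = ⊤
  · -- quotient by R
    haveI : R.Normal := Subgroup.normalizer_eq_top_iff.1 hNt
    let π := QuotientGroup.mk' R
    have hsurj : Function.Surjective π := QuotientGroup.mk'_surjective R
    have hlt : Nat.card (G ⧸ R) + Nat.card (K.map π) < n := by
      rw [← hn]
      refine Nat.add_lt_add_of_lt_of_le ?_ (Nat.le_of_dvd Nat.card_pos (Subgroup.card_map_dvd _ _))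
      rw [Subgroup.card_eq_card_quotient_mul_card_subgroup R]
      exact lt_mul_of_one_lt_right Nat.card_pos ((Subgroup.one_lt_card_iff_ne_bot R).2 hRne)
    have hker : π.ker ≤ H' := by rw [QuotientGroup.ker_mk']; exact hRH
    haveI := hH'n
    obtain ⟨xb, hxb⟩ := ih _ hlt (G ⧸ R) (H'.map π) (K.map π) rfl
      (Group.nilpotent_of_surjective _ (π.subgroupMap_surjective H'))
      (by
        rw [Subgroup.index_map_eq _ hsurj hker]
        exact hHall'.coprime_dvd_left (Subgroup.card_map_dvd _ _))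
      (by
        intro q hq hd
        haveI := Fact.mk hq
        have hqK : q ∣ Nat.card K := hd.trans (Subgroup.card_map_dvd _ _)
        have hqH : q ∣ Nat.card H' := by rw [hc']; exact hK q hq hqK
        by_contra hnd
        have h1 := Subgroup.index_mul_card (H'.map π)
        rw [Subgroup.index_map_eq _ hsurj hker] at h1
        rcases hq.dvd_mul.mp (h1 ▸ hd.trans (Subgroup.card_subgroup_dvd_card _) : q ∣ H'.index * Nat.card (H'.map π)) with h2 | h2
        · exact hq.ne_one (Nat.dvd_one.1 (hHall' ▸ Nat.dvd_gcd hqH h2))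
        · exact hnd h2)
    obtain ⟨x, rfl⟩ := hsurj xb
    refine ⟨x, fun k hk => ?_⟩
    have h1 := hxb (Subgroup.mem_map_of_mem π hk)
    rw [Subgroup.mem_pointwise_smul_iff_inv_smul_mem] at h1 ⊢
    have h2 : π ((MulAut.conj x)⁻¹ • k) ∈ H'.map π := by
      simpa [← map_inv, MulAut.smul_def] using h1
    rwa [← Subgroup.mem_comap, Subgroup.comap_map_eq_self hker] at h2
  · have hlt : Nat.card NN + Nat.card (K.subgroupOf NN) < n := by
      rw [← hn, Nat.card_congr (Subgroup.subgroupOfEquivOfLe hKN).toEquiv]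
      exact Nat.add_lt_add_right (Grp.card_lt_of_ne_top hNt) _
    -- every prime part of H' ⊓ NN is full
    have hsyl : ∀ q : ℕ, q.Prime → q ∣ Nat.card H →
        ∃ S : Subgroup NN, IsPGroup q S ∧ ¬ q ∣ S.index ∧ S ≤ H'.subgroupOf NN := by
      intro q hq hd
      haveI := Fact.mk hq
      by_cases hqp : q = p
      · subst hqp
        exact ⟨PN₀, PN₀.isPGroup', PN₀.not_dvd_index, fun x hx => hPNH ⟨x, hx, rfl⟩⟩
      · obtain ⟨S, hS⟩ := exists_sylow_le hHall' (hc'.symm ▸ hd)
        have hSN : (S : Subgroup G) ≤ NN := (commute_of_nilpotent hH'n hqp S.isPGroup' hRpG hS hRH).trans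
          (Subgroup.centralizer_le_normalizer _)
        refine ⟨(S : Subgroup G).subgroupOf NN, S.isPGroup'.comap_subtype, fun hd' => ?_, fun x hx => hS hx⟩
        exact S.not_dvd_index (hd'.trans (Subgroup.relIndex_dvd_index_of_le hSN))
    haveI := hH'n
    obtain ⟨x, hx⟩ := ih _ hlt NN (H'.subgroupOf NN) (K.subgroupOf NN) rfl
      (by
        have f : (↥(H'.subgroupOf NN)) ≃* ↥((NN.subgroupOf H')) :=
          { toFun := fun a => ⟨⟨(a : NN), a.2⟩, (a : NN).2⟩
            invFun := fun a => ⟨⟨(a : H'), a.2⟩, (a : H').2⟩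
            left_inv := fun a => rfl
            right_inv := fun a => rfl
            map_mul' := fun a b => rfl }
        exact Group.nilpotent_of_mulEquiv f.symm)
      (by
        refine Nat.coprime_of_dvd fun q hq hd hd2 => ?_
        have hqH : q ∣ Nat.card H := by
          rw [← hc']
          exact hd.trans (Subgroup.card_comap_dvd_of_injective _ _ NN.subtype_injective)
        obtain ⟨S, -, hSi, hSle⟩ := hsyl q hq hqH
        exact hSi (hd2.trans (Subgroup.index_dvd_of_le hSle)))
      (by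
        intro q hq hd
        haveI := Fact.mk hq
        rw [Nat.card_congr (Subgroup.subgroupOfEquivOfLe hKN).toEquiv] at hd
        obtain ⟨S, hSp, hSi, hSle⟩ := hsyl q hq (hK q hq hd)
        have hqN : q ∣ Nat.card NN := hd.trans (Subgroup.card_dvd_of_le hKN)
        have hqS : q ∣ Nat.card S := by
          rw [← Subgroup.index_mul_card S] at hqN
          exact (hq.dvd_mul.mp hqN).resolve_left hSi
        exact hqS.trans (Subgroup.card_dvd_of_le hSle))
    refine ⟨(x : G), fun k hk => ?_⟩
    have h1 := hx (show (⟨k, hKN hk⟩ : NN) ∈ K.subgroupOf NN from hk)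
    rw [Subgroup.mem_pointwise_smul_iff_inv_smul_mem] at h1 ⊢
    simpa [← map_inv, MulAut.smul_def, Subgroup.mem_subgroupOf] using h1

/-- Let H be a nilpotent subgroup of a finite group G whose order is coprime to its index, and K a subgroup every prime divisor of whose order divides the order of H. Then K lies in some conjugate of H. -/
theorem result {G : Type*} [Group G] [Finite G] (H K : Subgroup G) (hH : Group.IsNilpotent H) (hHall : (Nat.card H).Coprime H.index) (hK : ∀ p : ℕ, p.Prime → p ∣ Nat.card K → p ∣ Nat.card H) : ∃ x : G, K ≤ MulAut.conj x • H := by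
  exact core _ G H K rfl hH hHall hK

end Cfsg.Agent.S0581
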