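import Cfsg.Statements.S1350
import Cfsg.Agent.Lib.Transfer.Local.Sigma

set_option maxHeartbeats 1000000
set_option maxRecDepth 8000

set_option autoImplicit false
open Cfsg

namespace Cfsg.Agent.S1350

/-- Let G be a minimal simple group of odd order and M a maximal subgroup. Then M_σ (the largest normal σ(M)-subgroup of M) is a Hall σ(M)-subgroup of M and also of G, and every Hall σ(M)-subgroup of M that is normal in M equals M_σ. -/
theorem result {G : Type*} [Group G] [Finite G] (hG : Cfsg.IsMinSimpleOddOrder G)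
    (M : Subgroup G) (hM : IsCoatom M) :
    Cfsg.IsPiHallOf (Cfsg.sigma M) (Cfsg.sigmaCore M) M ∧ Cfsg.IsPiHall (Cfsg.sigma M) (Cfsg.sigmaCore M) ∧
      ∀ N : Subgroup G, M ≤ Subgroup.normalizer (N : Set G) → Cfsg.IsPiHallOf (Cfsg.sigma M) N M →
        N = Cfsg.sigmaCore M := by

  have h := Cfsg.Agent.Transfer.Loc.isPiHallOf_piCore hG hM (π := Cfsg.sigma M) (Cfsg.Agent.Transfer.Loc.alpha_subset_sigma hG hM) le_rfl
  refine ⟨h, Cfsg.Agent.Transfer.Loc.isPiHall_piCore hG hM (π := Cfsg.sigma M) (Cfsg.Agent.Transfer.Loc.alpha_subset_sigma hG hM) le_rfl, fun N hMN hN => ?_⟩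
  refine Subgroup.eq_of_le_of_card_ge (Cfsg.Agent.Transfer.TransHyp.le_piCoreOf hN.1 hMN hN.2.1) ?_
  exact (Cfsg.Agent.Grp.PiHall.card_eq hN h).ge

end Cfsg.Agent.S1350
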