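import Cfsg.Statements.S1394
import Cfsg.Agent.Lib.Transfer.TransHyp

set_option maxHeartbeats 1000000
set_option maxRecDepth 8000

set_option autoImplicit false
open Cfsg

namespace Cfsg.Agent.S1394

open Subgroup
open scoped Pointwise


/-- Let G be a minimal simple group of odd order, A a subgroup satisfying the transitivity hypothesis whose centre has rank at least 2, K = O_{π(A)'}(C_G(A)), and q a prime dividing the order of C_G(A) but not that of A. Then any two maximal A-invariant q-subgroups of G are conjugate by an element of K. -/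
theorem result {G : Type*} [Group G] [Finite G] (hG : Cfsg.IsMinSimpleOddOrder G)
    (A : Subgroup G) (hA : Cfsg.TransitivityHypothesis A) (hZ : ¬ Cfsg.RankLE 1 ↥(A ⊓ Subgroup.centralizer (A : Set G)))
    (q : ℕ) (hq : q.Prime) (hqA : ¬ q ∣ Nat.card A) (hqC : q ∣ Nat.card (Subgroup.centralizer (A : Set G))) :
    ∀ Q₁ ∈ Cfsg.maxInvSubgroups ⊤ A {q}, ∀ Q₂ ∈ Cfsg.maxInvSubgroups ⊤ A {q}, ∃ k ∈ Cfsg.piCoreOf (Cfsg.primesNotDvd (Nat.card A)) (Subgroup.centralizer (A : Set G)), Q₂ = Q₁.map (MulAut.conj k).toMonoidHom := by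

  haveI := Fact.mk hq
  obtain ⟨p, hp, hr⟩ : ∃ p : ℕ, p.Prime ∧ ¬ Cfsg.PRankLE p 1 ↥(A ⊓ centralizer (A : Set G)) := by
    by_contra h; push Not at h; exact hZ h
  haveI := Fact.mk hp
  obtain ⟨B0, hBc, hBe, hB⟩ : ∃ B : Subgroup ↥(A ⊓ centralizer (A : Set G)), IsMulCommutative B ∧
      (∀ a ∈ B, a ^ p = 1) ∧ ¬ Nat.card B ≤ p ^ 1 := by
    by_contra hno
    exact hr fun B h1 h2 => by
      by_contra h3
      exact hno ⟨B, h1, h2, h3⟩
  set B := B0.map (A ⊓ centralizer (A : Set G)).subtype with hBdef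
  have hBel : Cfsg.IsElementaryAbelian p B := by
    haveI := hBc
    refine ⟨inferInstance, ?_⟩
    rintro _ ⟨b, hb, rfl⟩
    rw [← map_pow, hBe b hb, map_one]
  have hBbig : p < Nat.card B := by
    rw [hBdef, Subgroup.card_map_of_injective (Subgroup.subtype_injective _)]
    rw [pow_one] at hB
    exact not_le.mp hB
  have hBA : B ≤ A := (map_subtype_le _).trans inf_le_left
  have hBC : B ≤ centralizer (A : Set G) := (map_subtype_le _).trans inf_le_right
  have hB1 : B ≠ ⊥ := fun h => by rw [h, Subgroup.card_bot] at hBbig; exact absurd hp.one_lt (by omega)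
  obtain ⟨x, hx⟩ := exists_prime_orderOf_dvd_card' (G := centralizer (A : Set G)) q hqC
  set X := zpowers (x : G) with hX
  have hXo : Nat.card X = q := by rw [hX, Nat.card_zpowers, Subgroup.orderOf_coe, hx]
  have hXC : X ≤ centralizer (A : Set G) := zpowers_le.mpr x.2
  have hX1 : X ≠ ⊥ := fun h => by rw [h, Subgroup.card_bot] at hXo; exact hq.one_lt.ne hXo
  obtain ⟨Q₀, h₀, hXQ⟩ := Transfer.Transitivity.exists_max (E := A) (q := q) X
    (Transfer.Transitivity.mem_inv_iff.mpr ⟨IsPGroup.of_card (n := 1) (by rw [pow_one, hXo]),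
      fun a ha => centralizer_le_normalizer _ (mem_centralizer_iff.mpr fun y hy =>
        (mem_centralizer_iff.mp (hXC hy) a ha).symm)⟩)
  have key : ∀ Q₁ ∈ Cfsg.maxInvSubgroups ⊤ A ({q} : Set ℕ),
      ∃ k ∈ Cfsg.piCoreOf (Cfsg.primesNotDvd (Nat.card A)) (centralizer (A : Set G)), MulAut.conj k • Q₁ = Q₀ := by
    intro Q₁ h₁
    have m₁ := Transfer.Transitivity.mem_inv_iff.mp h₁.1
    have hQ₁ : Q₁ ≠ ⊥ := fun e => hX1 (eq_bot_iff.mpr (hXQ.trans ((h₁.2 Q₀ h₀.1 (e ▸ bot_le)).trans e).le))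
    obtain ⟨D, hD, hi, hn⟩ := Transfer.TransHyp.exists_hyperplane hqA hBel hB1 hBA m₁.1 (hBA.trans m₁.2) hQ₁
    have hD1 : D ≠ ⊥ := fun e => by
      rw [e, relIndex_bot_left] at hi
      omega
    obtain ⟨b, hb⟩ := Subgroup.ne_bot_iff_exists_ne_one.mp hD1
    have hbA : (b : G) ∈ A := hBA (hD b.2)
    refine Transfer.TransHyp.conj_of_meet hG hA hqA h₁ h₀
      (Transfer.TransHyp.centralizer_ne_top hG (b := (b : G)) (fun e => hb (Subtype.ext e)))
      (fun a ha => mem_centralizer_singleton_iff.mpr (mem_centralizer_iff.mp (hBC (hD b.2)) a ha))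
      (ne_bot_of_le_ne_bot hn (le_inf (inf_le_right.trans (centralizer_le (Set.singleton_subset_iff.mpr b.2))) inf_le_left))
      (ne_bot_of_le_ne_bot hX1 (le_inf (fun y hy => mem_centralizer_singleton_iff.mpr
        (mem_centralizer_iff.mp (hXC hy) b hbA).symm) hXQ))
  intro Q₁ h₁ Q₂ h₂
  obtain ⟨k₁, hk₁, e₁⟩ := key Q₁ h₁
  obtain ⟨k₂, hk₂, e₂⟩ := key Q₂ h₂
  refine ⟨k₂⁻¹ * k₁, mul_mem (inv_mem hk₂) hk₁, ?_⟩
  rw [Grp.map_conj_eq_smul, ← Grp.conj_smul_conj_smul, e₁, ← e₂, Grp.conj_smul_conj_smul, inv_mul_cancel, map_one, one_smul]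

end Cfsg.Agent.S1394
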