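import Cfsg.Statements.S0018
import Cfsg.Agent.Lib.Grp.Frattini
-- import your own Cfsg.Agent.* helpers here

set_option autoImplicit false
open Cfsg

namespace Cfsg.Agent.S0018

/-- A finite solvable group whose Sylow p-subgroups are abelian has p-length one: a Sylow p-subgroup together with the largest normal subgroup of order prime to p generates a normal subgroup. -/
theorem result {G : Type*} [Group G] [Finite G] [Group.IsSolvable G]
    (p : ℕ) [Fact p.Prime] (P : Sylow p G) (hP : IsMulCommutative P) :
    ((P : Subgroup G) ⊔ Cfsg.pPrimeCore p G).Normal := by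
  have := Cfsg.Agent.Grp.pPrimeCore_isNormal (p := p) (G := G)
  set f := QuotientGroup.mk' (Cfsg.pPrimeCore p G)
  have hf : Function.Surjective f := QuotientGroup.mk'_surjective _
  set Q := P.mapSurjective hf
  have hle := Cfsg.Agent.Grp.pCore_le_sylow Q
  have hQe : (Q : Subgroup (G ⧸ Cfsg.pPrimeCore p G)) = (P : Subgroup G).map f := Sylow.coe_mapSurjective hf P
  have : IsMulCommutative ↥((P : Subgroup G).map f) := inferInstance
  have hQC : (Q : Subgroup (G ⧸ Cfsg.pPrimeCore p G)) ≤
      Subgroup.centralizer (Cfsg.pCore p (G ⧸ Cfsg.pPrimeCore p G) : Set _) := by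
    rw [hQe] at hle ⊢
    exact (Subgroup.le_centralizer _).trans (Subgroup.centralizer_le hle)
  have := hQC.trans (Cfsg.Agent.Grp.centralizer_pCore_le Cfsg.Agent.Grp.pPrimeCore_quotient_eq_bot)
  have hn : ((P : Subgroup G).map f).Normal := by
    rw [← hQe, le_antisymm this hle]
    exact Cfsg.Agent.Grp.pCore_isNormal
  have := hn.comap f
  rwa [Subgroup.comap_map_eq, QuotientGroup.ker_mk'] at this

end Cfsg.Agent.S0018
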