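import Cfsg.Statements.S4023
import Cfsg.Agent.Lib.Grp.ConjSylow

set_option autoImplicit false
open Cfsg

namespace Cfsg.Agent.S4023

/-- Let p be a prime and G a finite group in which any two p-subgroups of the same order are conjugate, with Sylow p-subgroup P. Then P is cyclic, or elementary abelian, or p = 2 and P is a quaternion group of order 8, or p is odd and P is non-abelian of order p³ and exponent p. -/
theorem result {G : Type*} [Group G] [Finite G]
    {p : ℕ} [Fact p.Prime] (hC : ∀ H K : Subgroup G, IsPGroup p H → IsPGroup p K → Nat.card H = Nat.card K →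
      ∃ g : G, K = H.map (MulAut.conj g).toMonoidHom) (P : Sylow p G) :
    IsCyclic P ∨ Cfsg.IsElementaryAbelian p (P : Subgroup G) ∨
      (p = 2 ∧ Nonempty ((P : Subgroup G) ≃* QuaternionGroup 2)) ∨
      (p ≠ 2 ∧ ¬ IsMulCommutative P ∧ Nat.card P = p ^ 3 ∧ Monoid.exponent P = p) := by
  have hiso : ∀ A B : Subgroup (P : Subgroup G), Nat.card A = Nat.card B →
      (IsMulCommutative A → IsMulCommutative B) ∧ ((∀ x ∈ A, x ^ p = 1) → ∀ x ∈ B, x ^ p = 1) := by
    intro A B h
    obtain ⟨g, hg⟩ := hC (A.map (P : Subgroup G).subtype) (B.map (P : Subgroup G).subtype)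
      ((P.isPGroup'.to_subgroup A).map _) ((P.isPGroup'.to_subgroup B).map _)
      (by rw [Subgroup.card_map_of_injective (P : Subgroup G).subtype_injective,
        Subgroup.card_map_of_injective (P : Subgroup G).subtype_injective, h])
    have key : ∀ b ∈ B, ∃ a ∈ A, ((b : (P : Subgroup G)) : G) = g * (a : G) * g⁻¹ := by
      intro b hb
      obtain ⟨_, ⟨a, ha, rfl⟩, e⟩ := hg.le ⟨b, hb, rfl⟩
      exact ⟨a, ha, e.symm⟩
    refine ⟨fun hA => ⟨⟨fun x y => ?_⟩⟩, fun hA x hx => ?_⟩
    · obtain ⟨a, ha, ea⟩ := key x x.2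
      obtain ⟨b, hb, eb⟩ := key y y.2
      refine Subtype.ext (Subtype.ext ?_)
      show ((x : (P : Subgroup G)) : G) * (y : (P : Subgroup G)) = (y : (P : Subgroup G)) * (x : (P : Subgroup G))
      have hab := congrArg (fun t : A => ((t : (P : Subgroup G)) : G)) (hA.is_comm.comm (⟨a, ha⟩ : A) ⟨b, hb⟩)
      simp only [Subgroup.coe_mul] at hab
      rw [ea, eb]
      calc g * (a : G) * g⁻¹ * (g * (b : G) * g⁻¹) = g * ((a : G) * b) * g⁻¹ := by group
        _ = g * ((b : G) * a) * g⁻¹ := by rw [hab]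
        _ = _ := by group
    · obtain ⟨a, ha, ea⟩ := key x hx
      refine Subtype.ext ?_
      rw [Subgroup.coe_pow, ea, conj_pow, ← Subgroup.coe_pow, hA a ha]
      simp
  rcases Cfsg.Agent.Grp.ConjSylow.classify P.isPGroup' hiso with h | ⟨hab, h⟩ | h | h
  · exact Or.inl h
  · exact Or.inr (Or.inl ⟨⟨⟨hab⟩⟩, fun x hx => congrArg Subtype.val (h ⟨x, hx⟩)⟩)
  · exact Or.inr (Or.inr (Or.inl h))
  · exact Or.inr (Or.inr (Or.inr h))

end Cfsg.Agent.S4023
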