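import Cfsg.Statements.S4020
import Cfsg.Agent.Lib.Grp.EqualOrderP.Main

set_option autoImplicit false
open Cfsg

namespace Cfsg.Agent.S4020

/-- Let G be a finite group in which, for every prime p, any two p-subgroups of the same order are conjugate. Then every Sylow subgroup of G is cyclic, elementary abelian, or a quaternion group of order 8. -/
theorem result {G : Type*} [Group G] [Finite G]
    (hD : ∀ p : ℕ, p.Prime → ∀ H K : Subgroup G, IsPGroup p H → IsPGroup p K → Nat.card H = Nat.card K →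
      ∃ g : G, K = H.map (MulAut.conj g).toMonoidHom) {p : ℕ} [Fact p.Prime] (P : Sylow p G) :
    IsCyclic P ∨ Cfsg.IsElementaryAbelian p (P : Subgroup G) ∨ Nonempty ((P : Subgroup G) ≃* QuaternionGroup 2) := by
  have hp := Fact.out (p := p.Prime)
  rcases Grp.EqualOrderP.shape P.isPGroup' (Grp.EqualOrderP.iso_of_conj (hD p hp) P.isPGroup') with
    h | ⟨hc, he⟩ | ⟨-, h⟩ | ⟨hp2, hexp, hcard, hZ, x, y, c, hxy, hc1, hcZ, hyZ, hy2⟩
  · exact Or.inl h
  · exact Or.inr (Or.inl ⟨⟨⟨hc⟩⟩, fun a ha => congrArg Subtype.val (he ⟨a, ha⟩)⟩)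
  · exact Or.inr (Or.inr h)
  · exact (Grp.EqualOrderP.no_extraspecial (hD 2 Nat.prime_two) (hD p hp) P hp2 hexp hcard hZ
      hxy hc1 hcZ hyZ hy2).elim

end Cfsg.Agent.S4020
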