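import Cfsg.Statements.S4025
import Mathlib
import Cfsg.Agent.Lib.Grp.SolvableSubspaceTrans


set_option autoImplicit false
open Cfsg

namespace Cfsg.Agent.S4025

/-- Let p be a prime and G a finite group in which any two p-subgroups of the same order are conjugate, and suppose a Sylow p-subgroup P of G is elementary abelian of order pⁿ with n ≥ 3. Let N be the normalizer of P and K the largest normal subgroup of N of order prime to p, and assume N/K is solvable. Then either n = 3 and N/K embeds in the one-dimensional semi-affine group over the field with p³ elements (and for p = 2 it is isomorphic to the affine or the semi-affine group over the field with 8 elements), or n = 5, p = 2 and N/K is isomorphic to the one-dimensional semi-affine group over the field with 32 elements. -/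
theorem result {G : Type*} [Group G] [Finite G]
    {p : ℕ} [Fact p.Prime] (hC : ∀ H K : Subgroup G, IsPGroup p H → IsPGroup p K → Nat.card H = Nat.card K →
      ∃ g : G, K = H.map (MulAut.conj g).toMonoidHom) (P : Sylow p G) (n : ℕ) (hn : 3 ≤ n)
    (hel : Cfsg.IsElementaryAbelian p (P : Subgroup G)) (hcard : Nat.card P = p ^ n)
    (N : Subgroup G) (hN : N = Subgroup.normalizer ((P : Subgroup G) : Set G))
    (hsolv : Group.IsSolvable (↥N ⧸ Cfsg.pPrimeCore p ↥N)) :
    (n = 3 ∧ (∃ f : ↥N ⧸ Cfsg.pPrimeCore p ↥N →* ↥(Cfsg.semiaffineGroup (GaloisField p 3)), Function.Injective f) ∧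
      (p = 2 → Nonempty (↥N ⧸ Cfsg.pPrimeCore p ↥N ≃* Cfsg.semiaffineGroup (GaloisField 2 3)) ∨
               Nonempty (↥N ⧸ Cfsg.pPrimeCore p ↥N ≃* Cfsg.affineGroup (GaloisField 2 3)))) ∨
    (n = 5 ∧ p = 2 ∧ Nonempty (↥N ⧸ Cfsg.pPrimeCore p ↥N ≃* Cfsg.semiaffineGroup (GaloisField 2 5))) := by
  classical
  subst hN
  set N := Subgroup.normalizer ((P : Subgroup G) : Set G) with hNdef
  have hp := (Fact.out : p.Prime)
  have hPN : (P : Subgroup G) ≤ N := Subgroup.le_normalizer
  set V : Subgroup N := (P : Subgroup G).subgroupOf N with hVdef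
  haveI hVn : V.Normal := Subgroup.normal_in_normalizer
  have hVcard : Nat.card V = p ^ n :=
    (Nat.card_congr (Subgroup.subgroupOfEquivOfLe hPN).toEquiv).trans hcard
  letI : CommGroup V :=
    { (inferInstance : Group V) with
      mul_comm := fun a b => Subtype.ext (Subtype.ext ((congrArg Subtype.val
        (hel.1.is_comm.comm (⟨((a : N) : G), a.2⟩ : (P : Subgroup G)) ⟨((b : N) : G), b.2⟩) :))) }
  have hVexp : ∀ v : V, v ^ p = 1 := fun v => Subtype.ext (Subtype.ext (by
    simpa using hel.2 ((v : N) : G) v.2))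
  have hidx : ¬ p ∣ V.index := by
    intro h
    apply P.not_dvd_index
    rw [← Subgroup.relIndex_mul_index hPN]
    exact dvd_mul_of_dvd_left h _
  have hcop : (Nat.card V).Coprime V.index := by
    rw [hVcard]; exact ((hp.coprime_iff_not_dvd).mpr hidx).pow_left n
  obtain ⟨H, hH⟩ := Subgroup.exists_right_complement'_of_coprime hcop
  have hHcard : Nat.card H = V.index :=
    Nat.eq_of_mul_eq_mul_left (Nat.card_pos (α := V)) (hH.card_mul_card.trans V.card_mul_index.symm)
  have hdec : ∀ g : N, ∃ v : V, ∃ h : H, (v : N) * h = g := fun g => by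
    obtain ⟨⟨v, h⟩, e⟩ := hH.2 g
    exact ⟨v, h, e⟩
  let θ : H →* MulAut V := (MulAut.conjNormal (H := V)).comp H.subtype
  have hθ : ∀ (h : H) (v : V), ((θ h v : V) : N) = (h : N) * (v : N) * (h : N)⁻¹ := fun h v => rfl
  -- fusion inside `N`
  have hfus : ∀ A B : Subgroup V, Nat.card A = Nat.card B → ∃ g ∈ θ.range, A.map g.toMonoidHom = B := by
    intro A B hAB
    let ι : V →* G := N.subtype.comp V.subtype
    have hι : Function.Injective ι := fun a b h => Subtype.ext (Subtype.ext h)
    have hle : ∀ A : Subgroup V, A.map ι ≤ (P : Subgroup G) := by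
      rintro A _ ⟨a, -, rfl⟩; exact a.2
    obtain ⟨g, hg⟩ := hC (A.map ι) (B.map ι) (P.isPGroup'.to_le (hle A)) (P.isPGroup'.to_le (hle B))
      (by rw [Subgroup.card_map_of_injective hι, Subgroup.card_map_of_injective hι, hAB])
    set C := Subgroup.centralizer ((B.map ι : Subgroup G) : Set G)
    have hPC : (P : Subgroup G) ≤ C := fun x hx => Subgroup.mem_centralizer_iff.mpr fun b hb =>
      congrArg Subtype.val (hel.1.is_comm.comm (⟨b, hle B hb⟩ : (P : Subgroup G)) ⟨x, hx⟩)
    have hQC : ((g • P : Sylow p G) : Subgroup G) ≤ C := by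
      rw [Sylow.coe_subgroup_smul, Subgroup.pointwise_smul_def]
      rintro _ ⟨x, hx, rfl⟩
      refine Subgroup.mem_centralizer_iff.mpr fun b hb => ?_
      rw [SetLike.mem_coe, hg] at hb
      obtain ⟨a, ha, rfl⟩ := hb
      have hc : a * x = x * a :=
        congrArg Subtype.val (hel.1.is_comm.comm (⟨a, hle A ha⟩ : (P : Subgroup G)) ⟨x, hx⟩)
      show g * a * g⁻¹ * (g * x * g⁻¹) = g * x * g⁻¹ * (g * a * g⁻¹)
      calc g * a * g⁻¹ * (g * x * g⁻¹) = g * (a * x) * g⁻¹ := by group
        _ = g * (x * a) * g⁻¹ := by rw [hc]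
        _ = _ := by group
    obtain ⟨c, hc⟩ := MulAction.exists_smul_eq C ((g • P).subtype hQC) (P.subtype hPC)
    rw [Sylow.smul_subtype] at hc
    have hcg : ((c : G) * g) • P = P := by rw [mul_smul]; exact Sylow.subtype_injective hc
    have hn' : (c : G) * g ∈ N := Sylow.smul_eq_iff_mem_normalizer.mp hcg
    obtain ⟨v, h, e⟩ := hdec ⟨(c : G) * g, hn'⟩
    refine ⟨θ h, ⟨h, rfl⟩, Subgroup.eq_of_le_of_card_ge ?_ (by
      rw [Subgroup.card_map_of_injective (f := (θ h).toMonoidHom) (θ h).injective, hAB])⟩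
    rintro _ ⟨a, ha, rfl⟩
    have h1 : g * ι a * g⁻¹ ∈ B.map ι := by rw [hg]; exact ⟨ι a, ⟨a, ha, rfl⟩, rfl⟩
    obtain ⟨b, hb, hbe⟩ := h1
    have h2 : (c : G) * ι b * (c : G)⁻¹ = ι b := by
      rw [← Subgroup.mem_centralizer_iff.mp c.2 (ι b) ⟨b, hb, rfl⟩, mul_inv_cancel_right]
    have hv : ((v : N) : G) * ι (θ h a) * ((v : N) : G)⁻¹ = ι b := by
      rw [← h2, hbe]
      have e' : ((v : N) : G) * ((h : N) : G) = (c : G) * g := congrArg Subtype.val e
      show ((v : N) : G) * (((h : N) : G) * ι a * ((h : N) : G)⁻¹) * ((v : N) : G)⁻¹ = _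
      calc ((v : N) : G) * (((h : N) : G) * ι a * ((h : N) : G)⁻¹) * ((v : N) : G)⁻¹
          = (((v : N) : G) * ((h : N) : G)) * ι a * (((v : N) : G) * ((h : N) : G))⁻¹ := by group
        _ = _ := by rw [e']; group
    have hvc : v * θ h a * v⁻¹ = θ h a := by rw [mul_comm v (θ h a), mul_inv_cancel_right]
    have hb' : θ h a = b := hι (by
      rw [← hv]
      conv_lhs => rw [← hvc]
      rfl)
    show θ h a ∈ B
    rw [hb']; exact hb
  -- cores
  set K := Cfsg.pPrimeCore p ↥N with hKdef
  haveI hKn : K.Normal := Cfsg.Agent.Grp.pPrimeCore_isNormal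
  have hKH : K = θ.ker.map H.subtype := by
    refine le_antisymm (fun k hk => ?_) ?_
    · obtain ⟨v, h, e⟩ := hdec k
      -- `K` centralizes `V`
      have hKV : ∀ w : V, k * (w : N) = (w : N) * k := by
        intro w
        have h1 : k * (w : N) * k⁻¹ * (w : N)⁻¹ ∈ K ⊓ V := by
          refine ⟨?_, V.mul_mem (hVn.conj_mem _ w.2 k) (V.inv_mem w.2)⟩
          rw [show k * (w : N) * k⁻¹ * (w : N)⁻¹ = k * ((w : N) * k⁻¹ * (w : N)⁻¹) by group]
          exact mul_mem hk (hKn.conj_mem _ (inv_mem hk) _)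
        have h2 : K ⊓ V = ⊥ := by
          apply Cfsg.Agent.Grp.inf_eq_bot_of_coprime
          rw [hVcard]
          exact (Cfsg.Agent.Grp.pPrimeCore_coprime (p := p) (G := ↥N)).pow_right n
        rw [h2, Subgroup.mem_bot, mul_inv_eq_one, mul_inv_eq_iff_eq_mul] at h1
        exact h1
      have hv1 : v = 1 := by
        have hv' : orderOf ((QuotientGroup.mk' K) (v : N)) ∣ Nat.card H := by
          have : (QuotientGroup.mk' K) (v : N) = ((QuotientGroup.mk' K) (h : N))⁻¹ := by
            refine eq_inv_of_mul_eq_one_left ?_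
            rw [← map_mul, e]
            exact (QuotientGroup.eq_one_iff k).mpr hk
          rw [this, orderOf_inv]
          exact (orderOf_map_dvd _ _).trans ((Subgroup.orderOf_coe h).symm ▸ orderOf_dvd_natCard h)
        have hv'' : orderOf ((QuotientGroup.mk' K) (v : N)) ∣ p ^ 1 := by
          rw [pow_one]
          apply orderOf_dvd_of_pow_eq_one
          rw [← map_pow, ← Subgroup.coe_pow, hVexp, Subgroup.coe_one, map_one]
        have h1 : (QuotientGroup.mk' K) (v : N) = 1 := by
          rw [← orderOf_eq_one_iff]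
          exact Nat.eq_one_of_dvd_coprimes (by
            rw [hHcard]; exact ((hp.coprime_iff_not_dvd).mpr hidx).symm) hv' (pow_one p ▸ hv'')
        have h2 : (v : N) ∈ K ⊓ V := ⟨(QuotientGroup.eq_one_iff _).mp h1, v.2⟩
        rw [Cfsg.Agent.Grp.inf_eq_bot_of_coprime (by
          rw [hVcard]; exact (Cfsg.Agent.Grp.pPrimeCore_coprime (p := p) (G := ↥N)).pow_right n), Subgroup.mem_bot] at h2
        exact Subtype.ext h2
      rw [hv1, Subgroup.coe_one, one_mul] at e
      refine ⟨h, MulEquiv.ext fun w => Subtype.ext ?_, e⟩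
      rw [hθ, e, hKV w, mul_inv_cancel_right]
      rfl
    · refine Cfsg.Agent.Grp.le_pPrimeCore ⟨?_⟩ ?_
      · rintro _ ⟨k, hk, rfl⟩ g
        obtain ⟨v, h, rfl⟩ := hdec g
        refine ⟨h * k * h⁻¹, θ.normal_ker.conj_mem k hk h, ?_⟩
        show (h : N) * k * (h : N)⁻¹ = (v : N) * h * k * ((v : N) * h)⁻¹
        have hc : θ (h * k * h⁻¹) v = v := by
          rw [show θ (h * k * h⁻¹) = 1 from θ.normal_ker.conj_mem k hk h]; rfl
        have hc' : ((h : N) * k * (h : N)⁻¹) * (v : N) * ((h : N) * k * (h : N)⁻¹)⁻¹ = v :=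
          congrArg Subtype.val hc
        rw [mul_inv_eq_iff_eq_mul] at hc'
        calc (h : N) * k * (h : N)⁻¹ = ((h : N) * k * (h : N)⁻¹) * (v : N) * (v : N)⁻¹ := by group
          _ = (v : N) * ((h : N) * k * (h : N)⁻¹) * (v : N)⁻¹ := by rw [hc']
          _ = _ := by group
      · rw [Subgroup.card_map_of_injective H.subtype_injective]
        refine Nat.Coprime.coprime_dvd_left θ.ker.card_subgroup_dvd_card ?_
        rw [hHcard]
        exact ((hp.coprime_iff_not_dvd).mpr hidx).symm
  have hKker : ∀ h : H, (h : N) ∈ K ↔ θ h = 1 := fun h => by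
    rw [hKH]
    exact ⟨fun ⟨h', hh', e⟩ => by rw [← Subtype.ext e]; exact hh', fun hh => ⟨h, hh, rfl⟩⟩
  have hsolR : Group.IsSolvable θ.range := by
    let f : θ.range →* ↥N ⧸ K :=
      { toFun := fun g => QuotientGroup.mk ((g.2.choose : H) : N)
        map_one' := by
          rw [QuotientGroup.eq_one_iff, hKker]
          exact (1 : θ.range).2.choose_spec
        map_mul' := fun a b => by
          rw [← QuotientGroup.mk_mul, QuotientGroup.eq]
          have : ((((a * b).2.choose : H) : N))⁻¹ * (((a.2.choose : H) : N) * ((b.2.choose : H) : N)) =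
              ((((a * b).2.choose)⁻¹ * (a.2.choose * b.2.choose) : H) : N) := rfl
          rw [this, hKker, map_mul, map_inv, map_mul, (a * b).2.choose_spec, a.2.choose_spec, b.2.choose_spec]
          exact inv_mul_cancel _ }
    haveI := hsolv
    refine Cfsg.Agent.Grp.isSolvable_of_injective f ((injective_iff_map_eq_one f).mpr fun g hg => Subtype.ext ?_) hsolv
    have hg' : ((g.2.choose : H) : N) ∈ K := (QuotientGroup.eq_one_iff _).mp hg
    rw [hKker, g.2.choose_spec] at hg'
    exact hg'
  obtain ⟨hcases, h37, h5155, e, he⟩ := Cfsg.Agent.Grp.SubspaceTrans.main (p := p) hn hVexp hVcard θ.range hsolR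
    (fun A B hA hB => hfus A B (hA.trans hB.symm)) (fun A B hA hB => hfus A B (hA.trans hB.symm))
  -- the embedding
  have hVH : ∀ (v v' : V) (h h' : H), (v : N) * h = (v' : N) * h' → v = v' ∧ h = h' := fun v v' h h' e' => by
    have := hH.1 (a₁ := (v, h)) (a₂ := (v', h')) e'
    exact ⟨congrArg Prod.fst this, congrArg Prod.snd this⟩
  choose dv dh hd using hdec
  let E : V ≃ GaloisField p n := Additive.ofMul.trans e.toEquiv
  let act : N → Equiv.Perm (GaloisField p n) := fun g =>
    E.permCongr (((θ (dh g) : MulAut V) : V ≃* V).toEquiv.trans (Equiv.mulLeft (dv g)))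
  have hact : ∀ g (w : V), act g (E w) = E (dv g * θ (dh g) w) := fun g w => by
    simp [act, Equiv.permCongr_apply]
  have hmul : ∀ g g', act (g * g') = act g * act g' := by
    intro g g'
    have e' : ((dv g * θ (dh g) (dv g') : V) : N) * ((dh g * dh g' : H) : N) = g * g' := by
      rw [Subgroup.coe_mul, Subgroup.coe_mul, hθ]
      conv_rhs => rw [← hd g, ← hd g']
      group
    obtain ⟨e1, e2⟩ := hVH _ _ _ _ ((hd (g * g')).trans e'.symm)
    ext x
    obtain ⟨w, rfl⟩ := E.surjective x
    rw [Equiv.Perm.mul_apply, hact, hact, hact, e1, e2, map_mul θ, MulAut.mul_apply, map_mul (θ (dh g)), mul_assoc]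
  let Φ : N →* Equiv.Perm (GaloisField p n) := MonoidHom.mk' act hmul
  have hsemi : ∀ g, ∃ (a : (GaloisField p n)ˣ) (σ : GaloisField p n ≃+* GaloisField p n),
      (∀ w : V, e (Additive.ofMul (θ (dh g) w)) = (a : GaloisField p n) * σ (e (Additive.ofMul w))) ∧
      ∀ x, Φ g x = (a : GaloisField p n) * σ x + E (dv g) := by
    intro g
    obtain ⟨a, σ, h⟩ := he (θ (dh g)) ⟨_, rfl⟩
    refine ⟨a, σ, h, fun x => ?_⟩
    obtain ⟨w, rfl⟩ := E.surjective x
    show act g (E w) = _
    rw [hact]
    show e (Additive.ofMul (dv g * θ (dh g) w)) = (a : GaloisField p n) * σ (e (Additive.ofMul w)) + e (Additive.ofMul (dv g))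
    rw [ofMul_mul, map_add, h, add_comm]
  have hker : Φ.ker = K := by
    ext g
    rw [MonoidHom.mem_ker]
    constructor
    · intro hg
      have hall : ∀ w : V, dv g * θ (dh g) w = w := fun w => E.injective (by
        rw [← hact]; exact DFunLike.congr_fun hg (E w))
      have hv1 : dv g = 1 := by simpa using hall 1
      have hh1 : θ (dh g) = 1 := MulEquiv.ext fun w => by simpa [hv1] using hall w
      rw [← hd g, hv1, Subgroup.coe_one, one_mul, hKker]
      exact hh1
    · intro hg
      have hg' := hg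
      rw [hKH] at hg'
      obtain ⟨h, hh, rfl⟩ := hg'
      obtain ⟨e1, e2⟩ := hVH (dv (h : N)) 1 (dh (h : N)) h (by
        rw [hd, Subgroup.coe_one, one_mul])
      refine Equiv.ext fun x => ?_
      obtain ⟨w, rfl⟩ := E.surjective x
      show act (h : N) (E w) = E w
      rw [hact, e1, e2, show θ h = 1 from hh, MulAut.one_apply, one_mul]
  let Ψ : ↥N ⧸ K →* ↥(Cfsg.semiaffineGroup (GaloisField p n)) :=
    QuotientGroup.lift K (Φ.codRestrict _ fun g => by
      obtain ⟨a, σ, -, h⟩ := hsemi g
      exact ⟨a, E (dv g), σ, h⟩) (fun g hg => by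
        rw [← hker] at hg
        exact Subtype.ext hg)
  have hΨ : Function.Injective Ψ := by
    refine (injective_iff_map_eq_one Ψ).mpr fun q hq => ?_
    obtain ⟨g, rfl⟩ := QuotientGroup.mk_surjective q
    rw [QuotientGroup.eq_one_iff, ← hker]
    exact congrArg Subtype.val hq
  -- orders
  have hquot : Nat.card (↥N ⧸ K) = p ^ n * Nat.card θ.range := by
    have h1 := K.card_mul_index
    rw [Subgroup.index_eq_card] at h1
    have h2 : Nat.card θ.ker * Nat.card θ.range = Nat.card H := by
      rw [← Subgroup.index_ker θ, Subgroup.card_mul_index]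
    have h3 : Nat.card K = Nat.card θ.ker := by rw [hKH, Subgroup.card_map_of_injective H.subtype_injective]
    rw [h3, ← hH.card_mul_card, hVcard, ← h2] at h1
    refine Nat.eq_of_mul_eq_mul_left (Nat.card_pos (α := θ.ker)) ?_
    rw [h1]; ring
  have hRne : (n : ℕ) ≠ 0 := by omega
  haveI : Finite (GaloisField p n) := Nat.finite_of_card_ne_zero (by
    rw [GaloisField.card p n hRne]; exact pow_ne_zero _ hp.ne_zero)
  have hle := Nat.card_le_card_of_injective Ψ hΨ
  have hsa := Cfsg.Agent.Grp.SubspaceTrans.card_semiaffine_le (p := p) n hRne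
  have hiso : p ^ n * ((p ^ n - 1) * n) ≤ Nat.card (↥N ⧸ K) →
      Nonempty (↥N ⧸ K ≃* ↥(Cfsg.semiaffineGroup (GaloisField p n))) := fun h =>
    ⟨MulEquiv.ofBijective Ψ ((Nat.bijective_iff_injective_and_card Ψ).mpr
      ⟨hΨ, le_antisymm hle (hsa.trans h)⟩)⟩
  rcases hcases with rfl | ⟨rfl, rfl⟩
  · refine Or.inl ⟨rfl, ⟨Ψ, hΨ⟩, fun h2 => ?_⟩
    subst h2
    obtain ⟨c, hc⟩ := h37 rfl rfl
    have hc3 : c ≤ 3 := by
      have := hle.trans hsa
      rw [hquot, hc] at this
      norm_num at this ⊢
      omega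
    have hc0 : c ≠ 0 := fun e0 => by
      rw [e0, mul_zero] at hc
      exact (Nat.card_pos (α := θ.range)).ne' hc
    rcases (show c = 1 ∨ c = 2 ∨ c = 3 by omega) with rfl | rfl | rfl
    · right
      have hsig : ∀ g, Φ g ∈ Cfsg.affineGroup (GaloisField 2 3) := by
        intro g
        obtain ⟨a, σ, hw, h⟩ := hsemi g
        obtain ⟨b, hb⟩ := Cfsg.Agent.Grp.SubspaceTrans.Semi.pow_eq hw 7
        have h7 : θ (dh g) ^ 7 = 1 := by
          have h' := pow_card_eq_one' (G := θ.range) (x := ⟨θ (dh g), ⟨_, rfl⟩⟩)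
          rw [hc] at h'
          exact congrArg Subtype.val h'
        rw [h7] at hb
        have hb1 : (b : GaloisField 2 3) = 1 := by
          have := hb (Additive.toMul (e.symm 1))
          simp at this
          exact this.symm
        have hσ7 : σ ^ 7 = 1 := RingEquiv.ext fun x => by
          have := hb (Additive.toMul (e.symm x))
          simp [hb1] at this
          exact this.symm
        have h3 : σ ^ 3 = 1 := by
          haveI : Finite (GaloisField 2 3 ≃+* GaloisField 2 3) :=
            Nat.finite_of_card_ne_zero (by rw [Cfsg.Agent.Grp.SubspaceTrans.card_ringAut 3 (by norm_num)]; norm_num)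
          have := pow_card_eq_one' (G := GaloisField 2 3 ≃+* GaloisField 2 3) (x := σ)
          rwa [Cfsg.Agent.Grp.SubspaceTrans.card_ringAut 3 (by norm_num)] at this
        have hσ : σ = 1 := by
          rw [← orderOf_eq_one_iff]
          exact Nat.eq_one_of_dvd_coprimes (by norm_num : Nat.Coprime 7 3) (orderOf_dvd_of_pow_eq_one hσ7)
            (orderOf_dvd_of_pow_eq_one h3)
        exact ⟨a, E (dv g), fun x => by rw [h, hσ]; rfl⟩
      let Ψ' : ↥N ⧸ K →* ↥(Cfsg.affineGroup (GaloisField 2 3)) :=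
        QuotientGroup.lift K (Φ.codRestrict _ hsig) (fun g hg => by
          rw [← hker] at hg
          exact Subtype.ext hg)
      have hΨ' : Function.Injective Ψ' := by
        refine (injective_iff_map_eq_one Ψ').mpr fun q hq => ?_
        obtain ⟨g, rfl⟩ := QuotientGroup.mk_surjective q
        rw [QuotientGroup.eq_one_iff, ← hker]
        exact congrArg Subtype.val hq
      refine ⟨MulEquiv.ofBijective Ψ' ((Nat.bijective_iff_injective_and_card Ψ').mpr
        ⟨hΨ', le_antisymm (Nat.card_le_card_of_injective Ψ' hΨ') ?_⟩)⟩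
      refine (Cfsg.Agent.Grp.SubspaceTrans.card_affine_le (p := 2) 3 (by norm_num)).trans (le_of_eq ?_)
      rw [hquot, hc]
      norm_num
    · exfalso
      obtain ⟨g, hg⟩ := exists_prime_orderOf_dvd_card' (G := θ.range) 2 (by rw [hc]; norm_num)
      obtain ⟨a, σ, hw⟩ := he g g.2
      obtain ⟨b, hb⟩ := Cfsg.Agent.Grp.SubspaceTrans.Semi.pow_eq hw 2
      have h2' : (g : MulAut V) ^ 2 = 1 := by
        rw [← Subgroup.coe_pow, ← hg, pow_orderOf_eq_one]; rfl
      rw [h2'] at hb
      have hb1 : (b : GaloisField 2 3) = 1 := by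
        have := hb (Additive.toMul (e.symm 1))
        simp at this
        exact this.symm
      have hσ2 : σ ^ 2 = 1 := RingEquiv.ext fun x => by
        have := hb (Additive.toMul (e.symm x))
        simp [hb1] at this
        exact this.symm
      haveI : Finite (GaloisField 2 3 ≃+* GaloisField 2 3) :=
        Nat.finite_of_card_ne_zero (by rw [Cfsg.Agent.Grp.SubspaceTrans.card_ringAut 3 (by norm_num)]; norm_num)
      have h3 : σ ^ 3 = 1 := by
        have := pow_card_eq_one' (G := GaloisField 2 3 ≃+* GaloisField 2 3) (x := σ)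
        rwa [Cfsg.Agent.Grp.SubspaceTrans.card_ringAut 3 (by norm_num)] at this
      have hσ : σ = 1 := by
        rw [← orderOf_eq_one_iff]
        exact Nat.eq_one_of_dvd_coprimes (by norm_num : Nat.Coprime 2 3) (orderOf_dvd_of_pow_eq_one hσ2)
          (orderOf_dvd_of_pow_eq_one h3)
      have ha : a = 1 := by
        have h2a : a ^ 2 = 1 := Units.ext (by
          have h1 := congrArg (fun f : MulAut V => e (Additive.ofMul (f (Additive.toMul (e.symm 1))))) h2'
          simp [pow_two, hw, hσ] at h1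
          simpa [pow_two] using h1)
        rw [← orderOf_eq_one_iff]
        refine Nat.eq_one_of_dvd_coprimes (by norm_num : Nat.Coprime 2 7) (orderOf_dvd_of_pow_eq_one h2a) ?_
        have := orderOf_dvd_natCard a
        rwa [Nat.card_units, GaloisField.card 2 3 (by norm_num)] at this
      have h1 : (g : MulAut V) = 1 := MulEquiv.ext fun w => Additive.ofMul.injective (e.injective (by
        rw [hw, hσ, ha]; simp))
      have : orderOf g = 1 := by rw [orderOf_eq_one_iff]; exact Subtype.ext h1
      omega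
    · left
      apply hiso
      rw [hquot, hc]
      norm_num
  · refine Or.inr ⟨rfl, rfl, hiso ?_⟩
    have := h5155 rfl rfl
    rw [hquot]
    exact le_trans (le_of_eq (by norm_num)) (Nat.mul_le_mul_left _ this)

end Cfsg.Agent.S4025
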