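import Cfsg.Prelude
import Cfsg.Agent.Lib.Invol.J1.Main
import Cfsg.Agent.Lib.Spor.J1.Structure
-- import your own Cfsg.Agent.* helpers here

set_option autoImplicit false
open Cfsg

open scoped Pointwise commutatorElement

namespace Cfsg.Agent.S1644

/-- The first Janko group recognised by an involution centraliser, at the level of isomorphism: a finite simple group with abelian Sylow 2-subgroups of order 8 and an involution whose centraliser is isomorphic to Z/2 × A₅ is isomorphic to the subgroup of GL(7, 11) generated by the two explicit Janko matrices. -/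
theorem result {G : Type*} [Group G] [Finite G] [IsSimpleGroup G] (S : Sylow 2 G) (hS : IsMulCommutative (S : Subgroup G)) (h8 : Nat.card S = 8) (t : G) (ht : orderOf t = 2) (e : (Subgroup.centralizer ({t} : Set G)) ≃* Multiplicative (ZMod 2) × alternatingGroup (Fin 5)) : Cfsg.Spor.IsoJ1 G := by
  haveI : IsSimpleGroup Cfsg.Spor.J1 := Cfsg.Agent.J1Cert.simple_J1
  obtain ⟨f⟩ := Cfsg.Agent.J1Cert.centralizer_equiv
  have ht2 : Cfsg.IsTwoCentralInvolution t := by
    haveI : Fact (Nat.Prime 2) := ⟨Nat.prime_two⟩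
    obtain ⟨P, hP⟩ := (IsPGroup.of_card (n := 1) (by rw [Nat.card_zpowers, ht, pow_one]) :
      IsPGroup 2 (Subgroup.zpowers t)).exists_le_sylow
    refine ⟨ht, P, hP (Subgroup.mem_zpowers t), fun x hx => ?_⟩
    haveI : IsMulCommutative (P : Subgroup G) := by
      refine ⟨⟨fun a b => ?_⟩⟩
      apply (Sylow.equiv P S).injective
      rw [map_mul, map_mul]
      exact hS.is_comm.comm _ _
    exact congrArg Subtype.val ((inferInstance : IsMulCommutative (P : Subgroup G)).is_comm.comm
      ⟨x, hx⟩ ⟨t, hP (Subgroup.mem_zpowers t)⟩)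
  exact Cfsg.Agent.J1U.iso (Cfsg.Agent.J1U.hyp_of_centralizer t ht2 e)
    (Cfsg.Agent.J1U.hyp_of_centralizer Cfsg.Agent.J1Cert.tJ
      (Cfsg.Agent.J1U.two_central Cfsg.Agent.J1Cert.card_J1 _ Cfsg.Agent.J1Cert.orderOf_tJ f) f)

end Cfsg.Agent.S1644
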