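import Cfsg.Statements.S5891
import Cfsg.Agent.Lib.Classical.DicksonPGLKind
-- import your own Cfsg.Agent.* helpers here

set_option autoImplicit false
open Cfsg

namespace Cfsg.Agent.S5891
open Cfsg.Agent.Dickson


/-- Let F be a finite field of odd order q > 3 and characteristic p, and let M be a maximal subgroup of PGL₂(F) not containing the image L of SL₂(F) (a copy of PSL₂(F) of index 2). Then one of the following holds: |M| = q(q − 1) (M is the stabiliser of a point of the projective line); q ≠ 5 and M is dihedral of order 2(q − 1); M is dihedral of order 2(q + 1); q = p ≡ ±3 (mod 8) and M ≅ S₄; or q = q₀^r for an odd prime r and M ≅ PGL₂(F₀) with |F₀| = q₀. -/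
theorem result {F : Type*} [Field F] [Fintype F]
    (hodd : Odd (Fintype.card F)) (h3 : 3 < Fintype.card F) (M : Subgroup (Matrix.ProjGenLinGroup (Fin 2) F)) (hM : IsCoatom M)
    (hML : ¬ (Matrix.ProjGenLinGroup.mk.comp Matrix.SpecialLinearGroup.toGL).range ≤ M) :
    Nat.card M = Fintype.card F * (Fintype.card F - 1) ∨
    (Fintype.card F ≠ 5 ∧ Nonempty (M ≃* DihedralGroup (Fintype.card F - 1))) ∨
    Nonempty (M ≃* DihedralGroup (Fintype.card F + 1)) ∨
    ((Fintype.card F).Prime ∧ (Fintype.card F % 8 = 3 ∨ Fintype.card F % 8 = 5) ∧ Nonempty (M ≃* Equiv.Perm (Fin 4))) ∨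
    (∃ (F₀ : Type) (_ : Field F₀) (_ : Fintype F₀) (r : ℕ), r.Prime ∧ Odd r ∧ Fintype.card F = Fintype.card F₀ ^ r ∧
        Nonempty (M ≃* Matrix.ProjGenLinGroup (Fin 2) F₀)) := by
  classical
  obtain ⟨p, hp'⟩ := CharP.exists F
  haveI : Fact p.Prime := ⟨CharP.char_is_prime F p⟩
  obtain ⟨m, hm⟩ := id hodd
  have h5 : 5 ≤ Fintype.card F := by omega
  rw [PGLMax.toPGL_range_eq] at hML
  have hdel : del F = 2 := by
    rcases del_cases F with ⟨-, he⟩ | ⟨hd, -⟩
    · exact absurd he (Nat.not_even_iff_odd.mpr hodd)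
    · exact hd
  cases PGLMax.kind_of_coatom p hodd h5 hM hML with
  | borel a ha hap hH hc => exact Or.inl hc
  | torus a ha hap h3' hH iso =>
    have hT := card_tor_semi p ha hap
    rw [hdel] at hT
    rcases hT with e | e
    · refine Or.inr (Or.inl ⟨by omega, ?_⟩)
      rwa [show 2 * Nat.card (tor a) = Fintype.card F - 1 by omega] at iso
    · refine Or.inr (Or.inr (Or.inl ?_))
      rwa [show 2 * Nat.card (tor a) = Fintype.card F + 1 by omega] at iso
  | alt4 hq h8 hH iso =>
    exact Or.inr (Or.inr (Or.inr (Or.inl ⟨hq ▸ (Fact.out : p.Prime), by rw [hq]; exact h8, iso⟩)))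
  | subfield K r z hr ho hc h3' hMz =>
    obtain ⟨K', iF, iK, ⟨e⟩⟩ := exists_type_model K
    obtain ⟨c⟩ := nonempty_pgl_congr e
    obtain ⟨i⟩ := nonempty_pglImg K.subtype
    refine Or.inr (Or.inr (Or.inr (Or.inr ⟨K', iF, iK, r, hr, ho, ?_, ?_⟩)))
    · rw [← hc, ← Nat.card_eq_fintype_card, Nat.card_congr e.toEquiv]
    · exact ⟨(MulEquiv.subgroupCongr hMz).trans
        ((Subgroup.equivMapOfInjective _ _ (MulEquiv.injective _)).symm.trans (i.trans c.symm))⟩

end Cfsg.Agent.S5891
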