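import Cfsg.Statements.S4652
import Cfsg.Agent.Lib.Block.Height

set_option autoImplicit false
open Cfsg

namespace Cfsg.Agent.S4652

/-- Fix a prime p and a maximal ideal M of the algebraic integers containing p. The defect groups of the principal p-block of a finite group G are exactly the Sylow p-subgroups of G: a subgroup D is a defect group of the principal block if and only if D is a Sylow p-subgroup. -/
theorem result {G : Type*} [Group G] [Fintype G] (p : ℕ) [Fact p.Prime] (M : Ideal Cfsg.AlgInt) (hM : Cfsg.IsPModular p M) (D : Subgroup G) : Cfsg.IsDefectGroup p M (Cfsg.principalBlock M G) D ↔ ∃ S : Sylow p G, (S : Subgroup G) = D := by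
  classical
  have hp : p.Prime := Fact.out
  have hB : Cfsg.IsPBlock M (Cfsg.principalBlock M G) := Cfsg.Agent.Block.isPBlock_principalBlock
  have h1 : Cfsg.charDegree ((Cfsg.Agent.Block.trivialIrr G : Cfsg.IrrCharacter G) : G → ℂ) = 1 := by
    have h := Cfsg.Agent.Block.charDeg_spec' (Cfsg.Agent.Block.trivialIrr G)
    rw [show ((Cfsg.Agent.Block.trivialIrr G : Cfsg.IrrCharacter G) : G → ℂ) 1 = 1 from rfl] at h
    exact_mod_cast h.symm
  have hd : Cfsg.blockDefect p (Cfsg.principalBlock M G) = (Nat.card G).factorization p := by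
    have h := Cfsg.Agent.Block.le_defect_add hM hB (Cfsg.Agent.Block.trivial_mem_principalBlock hM)
    rw [h1, Nat.factorization_one] at h
    have h2 := Cfsg.Agent.Block.blockDefect_le (p := p) (Cfsg.principalBlock M G)
    simp only [Finsupp.coe_zero, Pi.zero_apply, add_zero] at h
    omega
  have key : ∀ E : Subgroup G, Cfsg.IsDefectGroup p M (Cfsg.principalBlock M G) E →
      ∃ S : Sylow p G, (S : Subgroup G) = E := fun E hE =>
    ⟨Sylow.ofCard E (by rw [Cfsg.Agent.Block.card_defectGroup hM hB hE, hd]), rfl⟩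
  refine ⟨key D, ?_⟩
  rintro ⟨S, rfl⟩
  obtain ⟨E, hE⟩ := Cfsg.Agent.Block.exists_isDefectGroup hM hB
  obtain ⟨S', hS'⟩ := key E hE
  obtain ⟨x, hx⟩ := MulAction.exists_smul_eq G S' S
  have h := Cfsg.Agent.Block.isDefectGroup_map_conj hM hE x
  rw [← hx, Sylow.coe_subgroup_smul, ← hS'] at *
  exact h

end Cfsg.Agent.S4652
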