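import Cfsg.Statements.S3313
import Mathlib
import Cfsg.Agent.Lib.Grp.Frattini
import Cfsg.Agent.Lib.Grp.Cores
import Cfsg.Agent.Lib.Grp.Components
-- import your own Cfsg.Agent.* helpers here

set_option autoImplicit false
open Cfsg

namespace Cfsg.Agent.S3313

open scoped Pointwise commutatorElement

variable {G : Type*} [Group G]

theorem card_of_factor {A B C : Subgroup G} (hA : A ≤ C) (hB : B ≤ C) (hd : A ⊓ B = ⊥)
    (hs : ∀ c ∈ C, ∃ a ∈ A, ∃ b ∈ B, c = a * b) : Nat.card C = Nat.card A * Nat.card B := by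
  rw [← Nat.card_prod]
  refine (Nat.card_congr (Equiv.ofBijective (fun p : A × B => (⟨p.1 * p.2, C.mul_mem (hA p.1.2) (hB p.2.2)⟩ : C))
    ⟨fun p q h => ?_, fun c => ?_⟩)).symm
  · have h' : (p.1 : G) * p.2 = q.1 * q.2 := congrArg Subtype.val h
    have h2 : (q.1 : G)⁻¹ * p.1 = q.2 * (p.2 : G)⁻¹ := by
      rw [inv_mul_eq_iff_eq_mul, ← mul_assoc, eq_mul_inv_iff_mul_eq, h']
    have h3 : (q.1 : G)⁻¹ * p.1 ∈ A ⊓ B := ⟨A.mul_mem (A.inv_mem q.1.2) p.1.2, h2 ▸ B.mul_mem q.2.2 (B.inv_mem p.2.2)⟩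
    rw [hd, Subgroup.mem_bot] at h3
    have e1 : q.1 = p.1 := Subtype.ext (inv_mul_eq_one.mp h3)
    have e2 : q.2 = p.2 := Subtype.ext (mul_inv_eq_one.mp (h2 ▸ h3))
    exact Prod.ext e1.symm e2.symm
  · obtain ⟨a, ha, b, hb, hc⟩ := hs c c.2
    exact ⟨(⟨a, ha⟩, ⟨b, hb⟩), Subtype.ext hc.symm⟩

theorem card_class_mul [Finite G] (z : G) :
    Nat.card {x : G // IsConj z x} * Nat.card (Subgroup.centralizer ({z} : Set G)) = Nat.card G := by
  rw [Subgroup.card_eq_card_quotient_mul_card_subgroup (Subgroup.centralizer ({z} : Set G))]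
  congr 1
  have key : ∀ a b : G, a * z * a⁻¹ = b * z * b⁻¹ ↔ a⁻¹ * b ∈ Subgroup.centralizer ({z} : Set G) := fun a b => by
    rw [Subgroup.mem_centralizer_singleton_iff]
    constructor <;> intro h
    · have := congrArg (fun t => a⁻¹ * t * b) h
      simpa [mul_assoc] using this.symm
    · have := congrArg (fun t => a * t * b⁻¹) h
      simpa [mul_assoc] using this.symm
  refine (Nat.card_congr (Equiv.ofBijective (fun q => (⟨q.out * z * q.out⁻¹, isConj_iff.mpr ⟨_, rfl⟩⟩ : {x : G // IsConj z x}))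
    ⟨fun p q h => ?_, fun x => ?_⟩)).symm
  · rw [← QuotientGroup.out_eq' p, ← QuotientGroup.out_eq' q, QuotientGroup.eq, ← key]
    exact congrArg Subtype.val h
  · obtain ⟨g, hg⟩ := isConj_iff.mp x.2
    refine ⟨(g : G ⧸ Subgroup.centralizer ({z} : Set G)), Subtype.ext ?_⟩
    show (g : G ⧸ Subgroup.centralizer ({z} : Set G)).out * z * _ = x.1
    rw [← hg, key, ← QuotientGroup.eq, QuotientGroup.out_eq']

theorem conj_involution_product (x y : G) (hx : x * x = 1) (hy : y * y = 1) : x * (x * y) * x⁻¹ = (x * y)⁻¹ := by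
  rw [mul_inv_rev, inv_eq_of_mul_eq_one_right hx, inv_eq_of_mul_eq_one_right hy, ← mul_assoc x x y, hx, one_mul]

theorem isConj_of_odd [Finite G] {x y : G} (hx : x * x = 1) (hy : y * y = 1) (ho : Odd (orderOf (x * y))) : IsConj x y := by
  obtain ⟨m, hm⟩ := ho
  have hu : (x * y) ^ m * (x * y) ^ m * (x * y) = 1 := by
    rw [← pow_add, ← pow_succ, show m + m + 1 = orderOf (x * y) by omega, pow_orderOf_eq_one]
  have hinv : x * (x * y) ^ m * x⁻¹ = ((x * y) ^ m)⁻¹ := by
    rw [← conj_pow, conj_involution_product x y hx hy, inv_pow]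
  refine isConj_iff.mpr ⟨((x * y) ^ m), ?_⟩
  have h1 : ((x * y) ^ m)⁻¹ * x = x * (x * y) ^ m := by rw [← hinv, inv_mul_cancel_right]
  have h2 : x * ((x * y) ^ m)⁻¹ = (x * y) ^ m * x := by
    have := congrArg (fun t => (x * y) ^ m * t * ((x * y) ^ m)⁻¹) h1
    simpa [mul_assoc] using this
  calc (x * y) ^ m * x * ((x * y) ^ m)⁻¹ = (x * y) ^ m * ((x * y) ^ m * x) := by rw [mul_assoc, h2]
    _ = ((x * y) ^ m * (x * y) ^ m * (x * y)) * y⁻¹ := by group
    _ = y := by rw [hu, one_mul, inv_eq_of_mul_eq_one_right hy]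

/-- the involution in `⟨xy⟩` -/
noncomputable def vinv (p : G × G) : G := (p.1 * p.2) ^ (orderOf (p.1 * p.2) / 2)

/-- pairs from the two classes with given involution -/
noncomputable def aCount (z t v : G) : ℕ := Nat.card {p : G × G // IsConj z p.1 ∧ IsConj t p.2 ∧ vinv p = v}

theorem vinv_conj (g : G) (p : G × G) : vinv (g * p.1 * g⁻¹, g * p.2 * g⁻¹) = g * vinv p * g⁻¹ := by
  show (g * p.1 * g⁻¹ * (g * p.2 * g⁻¹)) ^ (orderOf (g * p.1 * g⁻¹ * (g * p.2 * g⁻¹)) / 2) = _
  rw [show g * p.1 * g⁻¹ * (g * p.2 * g⁻¹) = MulAut.conj g (p.1 * p.2) by simp [mul_assoc],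
    ← map_pow, show orderOf (MulAut.conj g (p.1 * p.2)) = orderOf (p.1 * p.2) from
      orderOf_injective (MulAut.conj g).toMonoidHom (MulAut.conj g).injective _]
  rfl

theorem order_formula [Finite G] (z t : G) (hz : orderOf z = 2) (ht : orderOf t = 2) (hzt : ¬ IsConj z t)
    (hcl : ∀ x : G, orderOf x = 2 → IsConj x z ∨ IsConj x t) :
    Nat.card G = Nat.card (Subgroup.centralizer ({t} : Set G)) * aCount z t z +
      Nat.card (Subgroup.centralizer ({z} : Set G)) * aCount z t t := by
  classical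
  haveI := Fintype.ofFinite G
  have hinv : ∀ {a b : G}, orderOf a = 2 → IsConj a b → b * b = 1 := fun {a b} ha h => by
    obtain ⟨g, rfl⟩ := isConj_iff.mp h
    rw [conj_mul, show a * a = 1 by rw [← pow_two, ← ha, pow_orderOf_eq_one], mul_one, mul_inv_cancel]
  have hfib : ∀ v w : G, IsConj v w → aCount z t w = aCount z t v := by
    intro v w h
    obtain ⟨g, rfl⟩ := isConj_iff.mp h
    refine (Nat.card_congr (Equiv.subtypeEquiv (Equiv.prodCongr (MulAut.conj g).toEquiv (MulAut.conj g).toEquiv) fun p => ?_)).symm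
    show _ ↔ IsConj z (g * p.1 * g⁻¹) ∧ IsConj t (g * p.2 * g⁻¹) ∧ vinv (g * p.1 * g⁻¹, g * p.2 * g⁻¹) = g * v * g⁻¹
    rw [vinv_conj, mul_left_inj, mul_right_inj]
    exact and_congr ⟨fun h => h.trans (isConj_iff.mpr ⟨g, rfl⟩), fun h => h.trans (isConj_iff.mpr ⟨g, rfl⟩).symm⟩
      (and_congr_left fun _ => ⟨fun h => h.trans (isConj_iff.mpr ⟨g, rfl⟩), fun h => h.trans (isConj_iff.mpr ⟨g, rfl⟩).symm⟩)
  have hmem : ∀ p : {p : G × G // IsConj z p.1 ∧ IsConj t p.2},
      (IsConj z (vinv p.1) ∧ ¬ IsConj t (vinv p.1)) ∨ (¬ IsConj z (vinv p.1) ∧ IsConj t (vinv p.1)) := by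
    rintro ⟨⟨x, y⟩, hx, hy⟩
    have ho : ¬ Odd (orderOf (x * y)) := fun ho =>
      hzt ((hx.trans (isConj_of_odd (hinv hz hx) (hinv ht hy) ho)).trans hy.symm)
    obtain ⟨m, hm⟩ := Nat.not_odd_iff_even.mp ho
    have hpos := orderOf_pos (x * y)
    have hv : orderOf (vinv (x, y)) = 2 := by
      show orderOf ((x * y) ^ (orderOf (x * y) / 2)) = 2
      exact orderOf_pow_orderOf_div hpos.ne' ⟨m, by omega⟩
    rcases hcl _ hv with h | h
    · exact Or.inl ⟨h.symm, fun h' => hzt (h.symm.trans h'.symm)⟩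
    · exact Or.inr ⟨fun h' => hzt (h'.trans h), h.symm⟩
  let P := {p : G × G // IsConj z p.1 ∧ IsConj t p.2}
  have hP : Nat.card P = Nat.card {x : G // IsConj z x} * Nat.card {x : G // IsConj t x} := by
    rw [← Nat.card_prod]; exact Nat.card_congr (Equiv.subtypeProdEquivProd)
  have hsum : Nat.card P = Nat.card {x : G // IsConj z x} * aCount z t z + Nat.card {x : G // IsConj t x} * aCount z t t := by
    rw [Nat.card_eq_fintype_card (α := P), ← Finset.card_univ,
      Finset.card_eq_sum_card_fiberwise (f := fun p : P => vinv p.1) (t := Finset.univ) (fun _ _ => Finset.mem_univ _)]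
    have hval : ∀ v, ((Finset.univ : Finset P).filter (fun p => vinv p.1 = v)).card = aCount z t v := by
      intro v
      rw [← Fintype.card_subtype, ← Nat.card_eq_fintype_card]
      exact Nat.card_congr ((Equiv.subtypeSubtypeEquivSubtypeInter _ (fun p : G × G => vinv p = v)).trans
        (Equiv.subtypeEquivRight fun p => and_assoc))
    simp only [hval]
    rw [← Finset.sum_filter_add_sum_filter_not Finset.univ (fun v => IsConj z v)]
    congr 1
    · rw [Finset.sum_congr rfl (fun v hv => hfib z v (Finset.mem_filter.mp hv).2), Finset.sum_const, smul_eq_mul,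
        ← Fintype.card_subtype, ← Nat.card_eq_fintype_card]
    · rw [← Finset.sum_filter_add_sum_filter_not _ (fun v => IsConj t v),
        Finset.sum_eq_zero (s := Finset.filter (fun v => ¬ IsConj t v) _) (fun v hv => ?_), add_zero,
        Finset.sum_congr rfl (fun v hv => hfib t v (Finset.mem_filter.mp hv).2), Finset.sum_const, smul_eq_mul,
        Nat.card_eq_fintype_card, Fintype.card_subtype]
      · congr 2
        rw [Finset.filter_filter]
        exact Finset.filter_congr fun v _ => ⟨fun h => h.2, fun h => ⟨fun h' => hzt (h'.trans h.symm), h⟩⟩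
      · simp only [Finset.mem_filter, Finset.mem_univ, true_and] at hv
        rw [aCount, Nat.card_eq_zero]
        left
        refine ⟨fun ⟨p, h1, h2, h3⟩ => ?_⟩
        rcases hmem ⟨p, h1, h2⟩ with h | h
        · exact hv.1 (h3 ▸ h.1)
        · exact hv.2 (h3 ▸ h.2)
  have hG := Nat.card_pos (α := G)
  have e1 := card_class_mul z
  have e2 := card_class_mul t
  set A := Nat.card {x : G // IsConj z x}
  set B := Nat.card {x : G // IsConj t x}
  set Cz := Nat.card (Subgroup.centralizer ({z} : Set G))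
  set Ct := Nat.card (Subgroup.centralizer ({t} : Set G))
  rw [hP] at hsum
  refine Nat.eq_of_mul_eq_mul_left hG ?_
  calc Nat.card G * Nat.card G = (A * Cz) * (B * Ct) := by rw [e1, e2]
    _ = (A * B) * (Cz * Ct) := by ring
    _ = (A * Cz) * (Ct * aCount z t z) + (B * Ct) * (Cz * aCount z t t) := by rw [hsum]; ring
    _ = Nat.card G * (Ct * aCount z t z + Cz * aCount z t t) := by rw [e1, e2]; ring

theorem a5_count : (Finset.univ.filter fun x : alternatingGroup (Fin 5) => x ≠ 1 ∧ x * x = 1).card = 15 := by decide +kernel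
theorem a5_cent : ∀ b : alternatingGroup (Fin 5), b ≠ 1 → b * b = 1 →
    (Finset.univ.filter fun c : alternatingGroup (Fin 5) => c * b = b * c).card = 4 ∧
    (Finset.univ.filter fun c : alternatingGroup (Fin 5) => c * b = b * c ∧ (c ≠ 1 ∧ c * c = 1) ∧ c ≠ b).card = 2 := by decide +kernel
theorem a5_trans : ∀ a b : alternatingGroup (Fin 5), a ≠ 1 → a * a = 1 → b ≠ 1 → b * b = 1 → ∃ c, c * a * c⁻¹ = b := by decide +kernel
theorem a5_pairs : (Finset.univ.filter fun p : alternatingGroup (Fin 5) × alternatingGroup (Fin 5) =>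
    (p.1 ≠ 1 ∧ p.1 * p.1 = 1) ∧ p.2 * p.2 = 1 ∧ ¬ (p.1 * p.2 * (p.1 * p.2) = 1 ∧ p.1 * p.2 ≠ 1)).card = 195 := by decide +kernel
theorem exists_filter_set {α : Type*} [Fintype α] (P : α → Prop) [DecidablePred P] {n : ℕ}
    (h : (Finset.univ.filter P).card = n) : ∃ S : Finset α, S.card = n ∧ ∀ q, q ∈ S ↔ P q :=
  ⟨_, h, fun q => by simp⟩
theorem a5_pairs' : ∃ S : Finset (alternatingGroup (Fin 5) × alternatingGroup (Fin 5)), S.card = 195 ∧
    ∀ q, q ∈ S ↔ ((q.1 ≠ 1 ∧ q.1 * q.1 = 1) ∧ q.2 * q.2 = 1 ∧ ¬ (q.1 * q.2 * (q.1 * q.2) = 1 ∧ q.1 * q.2 ≠ 1)) :=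
  exists_filter_set _ a5_pairs
theorem a5_odd : ∀ x : alternatingGroup (Fin 5), x * x = 1 → ∀ b : alternatingGroup (Fin 5), b * b = 1 →
    (x * b) * (x * b) = 1 ∨ (x * b) * (x * b) * (x * b) = 1 ∨
      (x * b) * (x * b) * (x * b) * (x * b) * (x * b) = 1 := by decide +kernel

set_option maxHeartbeats 1000000 in
/-- The order of a simple group with the involution pattern of the Hall–Janko group. Let G be a non-abelian finite simple group with exactly two conjugacy classes of involutions, represented by z and t, such that: F*(C_G(z)) is an extraspecial 2-group; Q = O₂(C_G(z)) has order 32 and C_G(z) is the semidirect product of Q by a subgroup isomorphic to A₅; every involution of Q is conjugate to z and every other involution of C_G(z) is conjugate to t; C_G(t) is an internal direct product V × B with V a four-group containing t and B ≅ A₅; every involution of B is conjugate to z and every other involution of C_G(t) is conjugate to t. Then |G| = 604800. -/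
theorem result {G : Type*} [Group G] [Finite G]
    [IsSimpleGroup G] (hna : ¬ IsMulCommutative G) (z t : G) (hz : orderOf z = 2) (ht : orderOf t = 2)
    (hzt : ¬ IsConj z t) (hcl : ∀ x : G, orderOf x = 2 → IsConj x z ∨ IsConj x t)
    (hex : Cfsg.IsExtraspecial 2 ↥(Cfsg.generalizedFittingSubgroup ↥(Subgroup.centralizer ({z} : Set G))))
    (hQ : Nat.card ↥(Cfsg.pCore 2 ↥(Subgroup.centralizer ({z} : Set G))) = 32)
    (K : Subgroup G) (hK : Nonempty (↥K ≃* alternatingGroup (Fin 5)))
    (hKC : K ⊔ (Cfsg.pCore 2 ↥(Subgroup.centralizer ({z} : Set G))).map (Subgroup.centralizer ({z} : Set G)).subtype = Subgroup.centralizer ({z} : Set G))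
    (hKQ : K ⊓ (Cfsg.pCore 2 ↥(Subgroup.centralizer ({z} : Set G))).map (Subgroup.centralizer ({z} : Set G)).subtype = ⊥)
    (hQz : ∀ x ∈ (Cfsg.pCore 2 ↥(Subgroup.centralizer ({z} : Set G))).map (Subgroup.centralizer ({z} : Set G)).subtype, orderOf x = 2 → IsConj x z)
    (hCz : ∀ x ∈ Subgroup.centralizer ({z} : Set G), orderOf x = 2 →
      x ∉ (Cfsg.pCore 2 ↥(Subgroup.centralizer ({z} : Set G))).map (Subgroup.centralizer ({z} : Set G)).subtype → IsConj x t)
    (V B : Subgroup G) (hVB : Cfsg.IsInternalDirectProduct V B (Subgroup.centralizer ({t} : Set G)))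
    (hV : Nat.card ↥V = 4) (hV2 : ∀ v ∈ V, v ^ 2 = 1) (htV : t ∈ V) (hB : Nonempty (↥B ≃* alternatingGroup (Fin 5)))
    (hBz : ∀ x ∈ B, orderOf x = 2 → IsConj x z)
    (hCt : ∀ x ∈ Subgroup.centralizer ({t} : Set G), orderOf x = 2 → x ∉ B → IsConj x t) :
    Nat.card G = 604800 := by
  classical
  haveI : Fact (Nat.Prime 2) := ⟨Nat.prime_two⟩
  haveI : Fact (Nat.Prime 5) := ⟨by norm_num⟩
  letI := Fintype.ofFinite G
  set C := Subgroup.centralizer ({z} : Set G) with hCdef
  have hzz : z * z = 1 := by rw [← pow_two, ← hz, pow_orderOf_eq_one]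
  have htt : t * t = 1 := by rw [← pow_two, ← ht, pow_orderOf_eq_one]
  have hz1 : z ≠ 1 := fun h => by rw [h, orderOf_one] at hz; omega
  have ht1 : t ≠ 1 := fun h => by rw [h, orderOf_one] at ht; omega
  -- the core
  have hFQ : generalizedFittingSubgroup C = pCore 2 C := by
    refine le_antisymm (Cfsg.Agent.Grp.le_pCore ?_ hex.1.1) ((Cfsg.Agent.Grp.pCore_le_fittingSubgroup (p := 2)).trans le_sup_right)
    haveI := Cfsg.Agent.Grp.fittingSubgroup_isNormal (G := C)
    haveI : (Cfsg.layer C).Normal := inferInstance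
    rw [Cfsg.generalizedFittingSubgroup]; infer_instance
  rw [hFQ] at hex
  obtain ⟨⟨hQp, hfr, hder⟩, hc2⟩ := hex
  have hCQ : Subgroup.centralizer (pCore 2 C : Set C) ≤ pCore 2 C := by
    have := Cfsg.Agent.Grp.centralizer_gfitting_le (G := C)
    rwa [hFQ] at this
  set Q := (pCore 2 C).map C.subtype with hQdef
  have hQC : Q ≤ C := Subgroup.map_subtype_le _
  have hQmem : ∀ {x : G} (hx : x ∈ C), x ∈ Q ↔ (⟨x, hx⟩ : C) ∈ pCore 2 C := fun {x} hx =>
    ⟨fun ⟨y, hy, he⟩ => (show y = ⟨x, hx⟩ from Subtype.ext he) ▸ hy, fun h => ⟨_, h, rfl⟩⟩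
  have hQcard : Nat.card Q = 32 := by
    rw [← hQ]; exact (Nat.card_congr ((pCore 2 C).equivMapOfInjective _ Subtype.coe_injective).toEquiv).symm
  have hzC : z ∈ C := Subgroup.mem_centralizer_singleton_iff.mpr rfl
  have hCz' : ∀ c ∈ C, c * z = z * c := fun c hc => Subgroup.mem_centralizer_singleton_iff.mp hc
  have hzQ : z ∈ Q := (hQmem hzC).mpr (hCQ (Subgroup.mem_centralizer_iff.mpr fun y _ =>
    Subtype.ext (hCz' _ y.2)))
  have hQn : ∀ c ∈ C, ∀ q ∈ Q, c * q * c⁻¹ ∈ Q := by
    intro c hc q hq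
    rw [hQmem (C.mul_mem (C.mul_mem hc (hQC hq)) (C.inv_mem hc))]
    exact (Cfsg.Agent.Grp.pCore_isNormal (p := 2) (G := C)).conj_mem _ ((hQmem (hQC hq)).mp hq) ⟨c, hc⟩
  let inQ : ∀ {x : G}, x ∈ Q → pCore 2 C := fun {x} hx => ⟨⟨x, hQC hx⟩, (hQmem (hQC hx)).mp hx⟩
  have hcen : ∀ a ∈ Q, (∀ b ∈ Q, a * b = b * a) → a = 1 ∨ a = z := by
    intro a ha h
    have hmem : inQ ha ∈ Subgroup.center (pCore 2 C) := Subgroup.mem_center_iff.mpr fun b =>
      Subtype.ext (Subtype.ext (h _ ⟨_, b.2, rfl⟩).symm)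
    have hzmem : inQ hzQ ∈ Subgroup.center (pCore 2 C) := Subgroup.mem_center_iff.mpr fun b =>
      Subtype.ext (Subtype.ext (hCz' _ (b : C).2))
    by_contra hcon
    push Not at hcon
    haveI := Fintype.ofFinite (Subgroup.center (pCore 2 C))
    have h3 : ({1, ⟨_, hzmem⟩, ⟨_, hmem⟩} : Finset (Subgroup.center (pCore 2 C))).card ≤ 2 :=
      (Finset.card_le_univ _).trans (by rw [← Nat.card_eq_fintype_card, hc2])
    rw [Finset.card_insert_of_notMem (by simp [inQ, Subtype.ext_iff, Ne.symm hz1, Ne.symm hcon.1]),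
      Finset.card_pair (by simp [inQ, Subtype.ext_iff, Ne.symm hcon.2])] at h3
    omega
  have hcenval : ∀ a : pCore 2 C, a ∈ Subgroup.center (pCore 2 C) → ((a : C) : G) = 1 ∨ ((a : C) : G) = z := fun a ha =>
    hcen _ ⟨_, a.2, rfl⟩ fun b hb => (congrArg (fun u : pCore 2 C => ((u : C) : G)) (Subgroup.mem_center_iff.mp ha (inQ hb))).symm
  have hsq : ∀ a ∈ Q, a * a = 1 ∨ a * a = z := by
    intro a ha
    have h : inQ ha * inQ ha ∈ frattini (pCore 2 C) := by
      rw [← pow_two]; exact Cfsg.Agent.Grp.pGroup_pow_mem_frattini hQp _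
    rw [hfr] at h
    exact hcenval _ h
  have hcomm : ∀ a ∈ Q, ∀ b ∈ Q, a * b = b * a ∨ a * b = z * (b * a) := by
    intro a ha b hb
    have h : ⁅inQ ha, inQ hb⁆ ∈ Subgroup.center (pCore 2 C) := by
      rw [← hder, commutator_def]; exact Subgroup.commutator_mem_commutator (Subgroup.mem_top _) (Subgroup.mem_top _)
    rcases hcenval _ h with h' | h'
    · left
      simp only [inQ, commutatorElement_def, Subgroup.coe_mul, Subgroup.coe_inv] at h'
      rwa [mul_inv_eq_one, mul_inv_eq_iff_eq_mul] at h'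
    · right
      simp only [inQ, commutatorElement_def, Subgroup.coe_mul, Subgroup.coe_inv] at h'
      rw [mul_inv_eq_iff_eq_mul, mul_inv_eq_iff_eq_mul, mul_assoc] at h'
      exact h'
  -- orders of the centralizers
  obtain ⟨eB⟩ := hB
  obtain ⟨eK⟩ := hK
  have hA5 : Nat.card (alternatingGroup (Fin 5)) = 60 := by
    rw [Nat.card_eq_fintype_card]; decide +kernel
  have hKcard : Nat.card K = 60 := (Nat.card_congr eK.toEquiv).trans hA5
  have hBcard : Nat.card B = 60 := (Nat.card_congr eB.toEquiv).trans hA5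
  have hKle : K ≤ C := hKC ▸ le_sup_left
  have hCcard : Nat.card C = 60 * 32 := by
    rw [← hKcard, ← hQcard]
    refine card_of_factor hKle hQC hKQ fun c hc => ?_
    have hc' : c ∈ K ⊔ Q := hKC.symm ▸ hc
    have hnorm : K ≤ Subgroup.normalizer (Q : Set G) := fun k hk => by
      refine Subgroup.mem_normalizer_iff.mpr fun q => ⟨fun hq => hQn k (hKle hk) q hq, fun hq => ?_⟩
      have := hQn k⁻¹ (inv_mem (hKle hk)) _ hq
      simpa [mul_assoc] using this
    rw [← SetLike.mem_coe, Subgroup.coe_mul_of_left_le_normalizer_right _ _ hnorm, Set.mem_mul] at hc'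
    obtain ⟨a, ha, b, hb, hab⟩ := hc'
    exact ⟨a, ha, b, hb, hab.symm⟩
  obtain ⟨hVle, hBle, hVBc, hVBd, hVBs⟩ := hVB
  set D := Subgroup.centralizer ({t} : Set G)
  have hDfac : ∀ c ∈ D, ∃ v ∈ V, ∃ b ∈ B, c = v * b := by
    intro c hc
    have hc' : c ∈ V ⊔ B := hVBs.symm ▸ hc
    have hnorm : V ≤ Subgroup.normalizer (B : Set G) := fun v hv => by
      refine Subgroup.mem_normalizer_iff.mpr fun b => ⟨fun hb => ?_, fun hb => ?_⟩
      · rwa [hVBc v hv b hb, mul_inv_cancel_right]
      · have h := hVBc v⁻¹ (V.inv_mem hv) _ hb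
        have : b = v * b * v⁻¹ := by
          calc b = v⁻¹ * (v * b * v⁻¹) * v := by group
            _ = (v * b * v⁻¹) := by rw [h, inv_mul_cancel_right]
        exact this ▸ hb
    rw [← SetLike.mem_coe, Subgroup.coe_mul_of_left_le_normalizer_right _ _ hnorm, Set.mem_mul] at hc'
    obtain ⟨a, ha, b, hb, hab⟩ := hc'
    exact ⟨a, ha, b, hb, hab.symm⟩
  have hDcard : Nat.card D = 4 * 60 := by
    rw [← hV, ← hBcard]; exact card_of_factor hVle hBle hVBd hDfac
  have hDt : ∀ d ∈ D, d * t = t * d := fun d hd => Subgroup.mem_centralizer_singleton_iff.mp hd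
  have hVB0 : ∀ x, x ∈ V → x ∈ B → x = 1 := fun x h1 h2 => by
    have := Subgroup.mem_inf.mpr ⟨h1, h2⟩
    rwa [hVBd, Subgroup.mem_bot] at this
  have hinv : ∀ {a b : G}, orderOf a = 2 → IsConj a b → orderOf b = 2 := fun {a b} ha h => by
    obtain ⟨g, rfl⟩ := isConj_iff.mp h
    exact (orderOf_injective (MulAut.conj g).toMonoidHom (MulAut.conj g).injective a).trans ha
  have hord2 : ∀ {a : G}, a * a = 1 → a ≠ 1 → orderOf a = 2 := fun {a} h h1 => orderOf_eq_prime (by rw [pow_two, h]) h1
  have hordsq : ∀ {a : G}, orderOf a = 2 → a * a = 1 ∧ a ≠ 1 := fun {a} h =>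
    ⟨by rw [← pow_two, ← h, pow_orderOf_eq_one], fun h1 => by rw [h1, orderOf_one] at h; omega⟩
  -- the two kinds of involutions
  have hzinB : ∀ x ∈ D, IsConj z x → x ∈ B := fun x hx h => by
    by_contra hxB; exact hzt (h.trans (hCt x hx (hinv hz h) hxB))
  have hzinQ : ∀ x ∈ C, IsConj z x → x ∈ Q := fun x hx h => by
    by_contra hxQ; exact hzt (h.trans (hCz x hx (hinv hz h) hxQ))
  have htnQ : ∀ x, IsConj t x → x ∉ Q := fun x h hxQ => hzt ((hQz x hxQ (hinv ht h)).symm.trans h.symm)
  have htnB : ∀ x, IsConj t x → x ∉ B := fun x h hxB => hzt ((hBz x hxB (hinv ht h)).symm.trans h.symm)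
  -- facts on `B`
  have hBmul : ∀ a b : B, eB (a * b) = eB a * eB b := map_mul eB
  obtain ⟨b₀, hb₀1, hb₀2⟩ : ∃ b : B, b ≠ 1 ∧ b * b = 1 := by
    obtain ⟨a, ha⟩ := Finset.card_pos.mp (show 0 < (Finset.univ.filter fun x : alternatingGroup (Fin 5) => x ≠ 1 ∧ x * x = 1).card by
      rw [a5_count]; norm_num)
    simp only [Finset.mem_filter, Finset.mem_univ, true_and] at ha
    refine ⟨eB.symm a, fun h => ha.1 ?_, by rw [← map_mul, ha.2, map_one]⟩
    simpa using congrArg eB h
  have hBinv : ∀ {a : B}, a ≠ 1 → a * a = 1 → orderOf (a : G) = 2 := fun {a} h1 h2 =>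
    hord2 (congrArg Subtype.val h2) fun h => h1 (Subtype.ext h)
  have hBtrans : ∀ a b : B, a ≠ 1 → a * a = 1 → b ≠ 1 → b * b = 1 → ∃ c : B, c * a * c⁻¹ = b := by
    intro a b ha ha' hb hb'
    obtain ⟨c, hc⟩ := a5_trans (eB a) (eB b) (fun h => ha (eB.map_eq_one_iff.mp h)) (by rw [← map_mul, ha', map_one])
      (fun h => hb (eB.map_eq_one_iff.mp h)) (by rw [← map_mul, hb', map_one])
    exact ⟨eB.symm c, eB.injective (by simp [hc])⟩
  obtain ⟨g₀, hg₀⟩ := isConj_iff.mp (hBz b₀ b₀.2 (hBinv hb₀1 hb₀2))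
  -- the noncentral involutions of `Q`
  let X : Finset G := Finset.univ.filter fun x => x ∈ Q ∧ x * x = 1 ∧ x ≠ 1 ∧ x ≠ z
  have hXmem : ∀ x, x ∈ X ↔ (IsConj z x ∧ x ∈ C ∧ x ≠ z) := by
    intro x
    simp only [X, Finset.mem_filter, Finset.mem_univ, true_and]
    exact ⟨fun ⟨h1, h2, h3, h4⟩ => ⟨(hQz x h1 (hord2 h2 h3)).symm, hQC h1, h4⟩,
      fun ⟨h1, h2, h4⟩ => ⟨hzinQ x h2 h1, (hordsq (hinv hz h1)).1, (hordsq (hinv hz h1)).2, h4⟩⟩
  -- the quadratic form
  let χ : Q → ℤ := fun x => if (x : G) * x = 1 then 1 else -1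
  let β : Q → Q → ℤ := fun x d => if (x : G) * d = d * x then 1 else -1
  have hzQc : ∀ q ∈ Q, q * z = z * q := fun q hq => hCz' q (hQC hq)
  have hz_ne : ∀ {a : G}, a = z → a ≠ 1 := fun h h' => hz1 (h.symm.trans h')
  have hχmul : ∀ x d : Q, χ (x * d) = χ x * χ d * β x d := by
    intro x d
    simp only [χ, β, Subgroup.coe_mul]
    have hxd : (x : G) * d * (x * d) = (x : G) * ((d : G) * x) * d := by simp only [mul_assoc]
    by_cases hc : (x : G) * d = d * x
    · have e : (x : G) * d * (x * d) = ((x : G) * x) * (d * d) := by rw [hxd, ← hc]; simp only [mul_assoc]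
      simp only [if_pos hc, e]
      rcases hsq x x.2 with h1 | h1 <;> rcases hsq d d.2 with h2 | h2 <;> simp [h1, h2, hzz, hz1]
    · have h' : (d : G) * x = z * (x * d) := (hcomm d d.2 x x.2).resolve_left fun h => hc h.symm
      have e : (x : G) * d * (x * d) = z * (((x : G) * x) * (d * d)) := by
        rw [hxd, h', ← mul_assoc (x : G) z, hzQc x x.2]; simp only [mul_assoc]
      simp only [if_neg hc, e]
      rcases hsq x x.2 with h1 | h1 <;> rcases hsq d d.2 with h2 | h2 <;> simp [h1, h2, hzz, hz1]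
  have hχsq : ∀ x : Q, χ x * χ x = 1 := fun x => by simp only [χ]; split <;> norm_num
  have hflip : ∀ d e : Q, (e : G) * d ≠ d * e → ∀ x : Q, β (x * e) d = - β x d := by
    intro d e he x
    simp only [β, Subgroup.coe_mul]
    have h' : (e : G) * d = z * (d * e) := (hcomm e e.2 d d.2).resolve_left he
    by_cases hc : (x : G) * d = d * x
    · rw [if_pos hc, if_neg]
      intro h
      rw [mul_assoc, h', ← mul_assoc (d : G), ← hc, mul_assoc (x : G), ← mul_assoc (x : G) z,
        hzQc x x.2, mul_assoc z] at h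
      exact hz1 (mul_eq_right.mp h)
    · have h'' : (x : G) * d = z * (d * x) := (hcomm x x.2 d d.2).resolve_left hc
      rw [if_neg hc, if_pos, neg_neg]
      rw [mul_assoc, h', ← mul_assoc (x : G) z, hzQc x x.2, mul_assoc z, ← mul_assoc (x : G), h'', ← mul_assoc z,
        ← mul_assoc z, hzz, one_mul, mul_assoc]
  have hzero : ∀ d : Q, (d : G) ≠ 1 → (d : G) ≠ z → ∑ x : Q, β x d = 0 := by
    intro d h1 h2
    obtain ⟨e, he⟩ : ∃ e : Q, (e : G) * d ≠ d * e := by
      by_contra h
      push Not at h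
      exact (hcen d d.2 fun b hb => (h ⟨b, hb⟩).symm).elim h1 h2
    have h := Equiv.sum_comp (Equiv.mulRight e) (fun x => β x d)
    simp only [Equiv.coe_mulRight, hflip d e he, Finset.sum_neg_distrib] at h
    linarith
  set Sχ := ∑ x : Q, χ x
  have hS64 : Sχ * Sχ = 64 := by
    have e1 : Sχ * Sχ = ∑ x : Q, ∑ d : Q, χ d * β x d := by
      rw [Finset.sum_mul]
      refine Finset.sum_congr rfl fun x _ => ?_
      rw [Finset.mul_sum, ← Equiv.sum_comp (Equiv.mulLeft x) (fun y => χ x * χ y)]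
      refine Finset.sum_congr rfl fun d _ => ?_
      simp only [Equiv.coe_mulLeft]
      rw [hχmul, ← mul_assoc, ← mul_assoc, hχsq, one_mul]
    have hone : ∀ d : Q, ((d : G) = 1 ∨ (d : G) = z) → ∑ x : Q, χ d * β x d = 32 := by
      intro d hd
      have hb : ∀ x : Q, χ d * β x d = 1 := fun x => by
        rcases hd with h | h <;> simp [χ, β, h, hzQc x x.2, hzz]
      simp only [hb, Finset.sum_const, Finset.card_univ, ← Nat.card_eq_fintype_card, hQcard]
      norm_num
    rw [e1, Finset.sum_comm, ← Finset.sum_subset (Finset.subset_univ ({1, ⟨z, hzQ⟩} : Finset Q)) (fun d _ hd => by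
      simp only [Finset.mem_insert, Finset.mem_singleton, not_or, Subtype.ext_iff, Subgroup.coe_one] at hd
      rw [← Finset.mul_sum, hzero d hd.1 hd.2, mul_zero]), Finset.sum_pair (fun h => hz1 (congrArg Subtype.val h).symm),
      hone 1 (Or.inl rfl), hone _ (Or.inr rfl)]
    norm_num
  have hI0 : ∀ T : Finset Q, ∑ x ∈ T, χ x = 2 * (T.filter fun x : Q => (x : G) * x = 1).card - T.card := by
    intro T
    simp only [χ]
    rw [Finset.sum_ite, Finset.sum_const, Finset.sum_const]
    have h := Finset.card_filter_add_card_filter_not (s := T) (fun x : Q => (x : G) * x = 1)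
    simp only [smul_eq_mul, nsmul_eq_mul]
    omega
  set I0 := (Finset.univ.filter fun x : Q => (x : G) * x = 1).card with hI0def
  have hXI : X.card + 2 = I0 := by
    have himg : (Finset.univ.filter fun x : Q => (x : G) * x = 1).image Subtype.val = insert 1 (insert z X) := by
      ext g
      simp only [X, Finset.mem_image, Finset.mem_filter, Finset.mem_univ, true_and, Finset.mem_insert]
      constructor
      · rintro ⟨x, hx, rfl⟩
        by_cases h1 : (x : G) = 1
        · exact Or.inl h1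
        by_cases h2 : (x : G) = z
        · exact Or.inr (Or.inl h2)
        exact Or.inr (Or.inr ⟨x.2, hx, h1, h2⟩)
      · rintro (rfl | rfl | ⟨h1, h2, -, -⟩)
        · exact ⟨1, by simp, rfl⟩
        · exact ⟨⟨g, hzQ⟩, hzz, rfl⟩
        · exact ⟨⟨g, h1⟩, h2, rfl⟩
    rw [hI0def, ← Finset.card_image_of_injective _ Subtype.val_injective, himg,
      Finset.card_insert_of_notMem (by simp [X, Ne.symm hz1]), Finset.card_insert_of_notMem (by simp [X])]
  have hX18 : X.card = 18 ∨ X.card = 10 := by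
    have h := hI0 Finset.univ
    rw [Finset.card_univ, ← Nat.card_eq_fintype_card, hQcard] at h
    have h8 : Sχ = 8 ∨ Sχ = -8 := by
      have : (Sχ - 8) * (Sχ + 8) = 0 := by ring_nf; linarith [hS64, pow_two Sχ]
      rcases mul_eq_zero.mp this with h | h
      · left; omega
      · right; omega
    omega
  -- an element of order five fixes no noncentral involution of `Q`
  have hX10 : X.card = 10 := by
    rcases hX18 with h18 | h
    swap
    · exact h
    exfalso
    obtain ⟨f, hf⟩ := exists_prime_orderOf_dvd_card' (G := K) 5 (by rw [hKcard]; norm_num)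
    have hfo : orderOf (f : G) = 5 := by rw [Subgroup.orderOf_coe]; exact hf
    have hfC : (f : G) ∈ C := hKle f.2
    set F := Subgroup.zpowers (f : G)
    have hF5 : IsPGroup 5 F := IsPGroup.of_card (n := 1) (by rw [Nat.card_zpowers, hfo, pow_one])
    have hFC : F ≤ C := Subgroup.zpowers_le.mpr hfC
    let actQ : MulAction F Q :=
      { smul := fun k q => ⟨k * q * (k : G)⁻¹, hQn k (hFC k.2) q q.2⟩
        one_smul := fun q => Subtype.ext (show (1 : G) * q * (1 : G)⁻¹ = q by group)
        mul_smul := fun a b q => Subtype.ext (show ((a : G) * b) * q * ((a : G) * b)⁻¹ = a * (b * q * (b : G)⁻¹) * (a : G)⁻¹ by group) }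
    have hXinv : ∀ k ∈ C, ∀ x ∈ X, k * x * k⁻¹ ∈ X := by
      intro k hk x hx
      obtain ⟨h1, h2, h3⟩ := (hXmem x).mp hx
      refine (hXmem _).mpr ⟨h1.trans (isConj_iff.mpr ⟨k, rfl⟩), C.mul_mem (C.mul_mem hk h2) (C.inv_mem hk), fun h => h3 ?_⟩
      calc x = k⁻¹ * (k * x * k⁻¹) * k := by group
        _ = z := by rw [h, mul_assoc, ← hCz' k hk, inv_mul_cancel_left]
    let actX : MulAction F {x // x ∈ X} :=
      { smul := fun k q => ⟨k * q * (k : G)⁻¹, hXinv k (hFC k.2) q q.2⟩
        one_smul := fun q => Subtype.ext (show (1 : G) * q * (1 : G)⁻¹ = q by group)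
        mul_smul := fun a b q => Subtype.ext (show ((a : G) * b) * q * ((a : G) * b)⁻¹ = a * (b * q * (b : G)⁻¹) * (a : G)⁻¹ by group) }
    letI := actX
    have hm := hF5.card_modEq_card_fixedPoints {x // x ∈ X}
    have hne : Nat.card (@MulAction.fixedPoints F {x // x ∈ X} _ actX) ≠ 0 := by
      intro h0
      rw [h0, Nat.card_eq_fintype_card, Fintype.card_coe, h18] at hm
      exact absurd hm (by decide)
    obtain ⟨x, hx⟩ := (Nat.card_pos_iff.mp (Nat.pos_of_ne_zero hne)).1
    have hxc : (f : G) * x * (f : G)⁻¹ = x := congrArg Subtype.val (hx ⟨f, Subgroup.mem_zpowers _⟩)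
    let CQ := Q ⊓ Subgroup.centralizer ({(f : G)} : Set G)
    have hCQp : IsPGroup 2 CQ := (IsPGroup.of_card (n := 5) (by rw [hQcard]; norm_num) : IsPGroup 2 Q).to_le inf_le_left
    obtain ⟨j, hj⟩ := IsPGroup.iff_card.mp hCQp
    have hfix : Nat.card (@MulAction.fixedPoints F Q _ actQ) = Nat.card CQ := by
      refine Nat.card_congr
        { toFun := fun q => ⟨(q.1 : G), q.1.2, Subgroup.mem_centralizer_singleton_iff.mpr ?_⟩
          invFun := fun q => ⟨⟨q.1, q.2.1⟩, fun k => ?_⟩
          left_inv := fun q => rfl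
          right_inv := fun q => rfl }
      · exact (mul_inv_eq_iff_eq_mul.mp (congrArg Subtype.val (q.2 ⟨f, Subgroup.mem_zpowers _⟩))).symm
      · obtain ⟨i, hi⟩ := k.2
        refine Subtype.ext ?_
        show (k : G) * q.1 * (k : G)⁻¹ = q.1
        rw [← hi, mul_inv_eq_iff_eq_mul]
        exact ((show Commute (f : G) q.1 from (Subgroup.mem_centralizer_singleton_iff.mp q.2.2).symm).zpow_left i).eq
    letI := actQ
    have hm2 := hF5.card_modEq_card_fixedPoints Q
    rw [hfix, hj, hQcard] at hm2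
    have hxQ := (hXmem x).mp x.2
    have h4 : 3 ≤ 2 ^ j := by
      rw [← hj, Nat.card_eq_fintype_card]
      have hzin : z ∈ CQ := ⟨hzQ, Subgroup.mem_centralizer_singleton_iff.mpr (hCz' _ hfC).symm⟩
      have hxin : (x : G) ∈ CQ := ⟨hzinQ _ hxQ.2.1 hxQ.1,
        Subgroup.mem_centralizer_singleton_iff.mpr (mul_inv_eq_iff_eq_mul.mp hxc).symm⟩
      refine le_trans (le_of_eq ?_) (Finset.card_le_univ ({1, ⟨z, hzin⟩, ⟨_, hxin⟩} : Finset CQ))
      rw [Finset.card_insert_of_notMem (by simp [Subtype.ext_iff, Ne.symm hz1, Ne.symm (hordsq (hinv hz hxQ.1)).2]),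
        Finset.card_pair (by simp [Subtype.ext_iff, Ne.symm hxQ.2.2])]
    have hj5 : j = 5 := by
      have hle : 2 ^ j ≤ 2 ^ 5 := by
        rw [← hj]; exact (Nat.le_of_dvd Nat.card_pos (Subgroup.card_dvd_of_le inf_le_left)).trans hQcard.le
      have hjle : j ≤ 5 := (Nat.pow_le_pow_iff_right one_lt_two).mp hle
      interval_cases j <;> first | rfl | omega | exact absurd hm2 (by decide)
    have hQle : Q ≤ Subgroup.centralizer ({(f : G)} : Set G) := by
      have : CQ = Q := Subgroup.eq_of_le_of_card_ge inf_le_left (by rw [hQcard, hj, hj5]; norm_num)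
      exact this ▸ inf_le_right
    have hfQ : (⟨f, hfC⟩ : C) ∈ pCore 2 C := hCQ (Subgroup.mem_centralizer_iff.mpr fun q hq =>
      Subtype.ext (Subgroup.mem_centralizer_singleton_iff.mp (hQle ⟨q, hq, rfl⟩)))
    obtain ⟨i, hi⟩ := IsPGroup.iff_orderOf.mp hQp ⟨_, hfQ⟩
    rw [Subgroup.orderOf_mk, Subgroup.orderOf_mk, hfo] at hi
    have : 5 ∣ 2 := (Nat.Prime.dvd_of_dvd_pow (by norm_num) (dvd_of_eq hi))
    omega
  have hSneg : Sχ = -8 := by
    have h := hI0 Finset.univ
    rw [Finset.card_univ, ← Nat.card_eq_fintype_card, hQcard] at h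
    omega
  -- two commuting noncentral involutions of `Q`
  have hpair : ∀ x ∈ X, ∀ x' ∈ X, x * x' = x' * x → x' = x ∨ x' = z * x := by
    intro x hx x' hx' hc
    simp only [X, Finset.mem_filter, Finset.mem_univ, true_and] at hx hx'
    obtain ⟨hxQ, hx2, hx1, hxz⟩ := hx
    set xq : Q := ⟨x, hxQ⟩
    set T := Finset.univ.filter fun d : Q => x * (d : G) = d * x with hT
    obtain ⟨e, he⟩ : ∃ e : Q, (e : G) * x ≠ x * e := by
      by_contra h
      push Not at h
      exact (hcen x hxQ fun b hb => (h ⟨b, hb⟩).symm).elim hx1 hxz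
    have hT' : ∑ d ∈ Finset.univ.filter (fun d : Q => ¬ x * (d : G) = d * x), χ d = 0 := by
      have hterm : ∀ d : Q, ¬ x * (d : G) = d * x → χ (xq * d) = - χ d := fun d hd => by
        rw [hχmul, show χ xq = 1 from if_pos hx2, show β xq d = -1 from if_neg hd]; ring
      refine Finset.sum_involution (fun d _ => xq * d) (fun d hd => ?_) (fun d _ _ h => hx1 (congrArg Subtype.val (mul_eq_right.mp h)))
        (fun d hd => ?_) (fun d _ => by rw [← mul_assoc, show xq * xq = 1 from Subtype.ext hx2, one_mul])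
      · rw [hterm d (Finset.mem_filter.mp hd).2]; ring
      · refine Finset.mem_filter.mpr ⟨Finset.mem_univ _, fun h => (Finset.mem_filter.mp hd).2 ?_⟩
        simp only [Subgroup.coe_mul, xq] at h
        rw [mul_assoc] at h
        exact mul_left_cancel h
    have hTS : ∑ d ∈ T, χ d = -8 := by
      rw [← hSneg, show Sχ = ∑ d ∈ T, χ d + 0 by
        rw [← hT', hT, Finset.sum_filter_add_sum_filter_not], add_zero]
    have hTc : T.card = 16 := by
      have hbij : T.card = (Finset.univ.filter fun d : Q => ¬ x * (d : G) = d * x).card := by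
        refine Finset.card_bij' (fun d _ => d * e) (fun d _ => d * e⁻¹) (fun d hd => ?_) (fun d hd => ?_)
          (fun d _ => mul_inv_cancel_right d e) (fun d _ => inv_mul_cancel_right d e)
        · simp only [hT, Finset.mem_filter, Finset.mem_univ, true_and, Subgroup.coe_mul] at hd ⊢
          intro h
          rw [← mul_assoc, hd, mul_assoc, mul_assoc] at h
          exact he (mul_left_cancel h).symm
        · simp only [hT, Finset.mem_filter, Finset.mem_univ, true_and, Subgroup.coe_mul, Subgroup.coe_inv] at hd ⊢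
          have h1 := (hcomm x hxQ d d.2).resolve_left hd
          have h2 := (hcomm x hxQ e e.2).resolve_left (fun h => he h.symm)
          have h3 : x * (e : G)⁻¹ = z * ((e : G)⁻¹ * x) := by
            have h4 : (e : G) * x = z * (x * e) := by rw [h2, ← mul_assoc z z, hzz, one_mul]
            calc x * (e : G)⁻¹ = (e : G)⁻¹ * ((e : G) * x) * (e : G)⁻¹ := by group
              _ = ((e : G)⁻¹ * z) * (x * e) * (e : G)⁻¹ := by rw [h4]; group
              _ = z * ((e : G)⁻¹ * x) := by rw [hzQc _ (Q.inv_mem e.2)]; group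
          rw [← mul_assoc, h1, mul_assoc z, mul_assoc (d : G) x, h3, ← mul_assoc (d : G) z, hzQc d d.2,
            mul_assoc z (d : G), ← mul_assoc z z, hzz, one_mul, mul_assoc]
      have h := Finset.card_filter_add_card_filter_not (s := (Finset.univ : Finset Q)) (fun d : Q => x * (d : G) = d * x)
      rw [← hT, ← hbij, Finset.card_univ, ← Nat.card_eq_fintype_card, hQcard] at h
      omega
    have h4 : (T.filter fun d : Q => (d : G) * d = 1).card = 4 := by
      have h := hI0 T
      omega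
    have hsub : ({1, ⟨z, hzQ⟩, xq, ⟨z * x, Q.mul_mem hzQ hxQ⟩} : Finset Q) = T.filter fun d : Q => (d : G) * d = 1 := by
      refine Finset.eq_of_subset_of_card_le (fun d hd => ?_) ?_
      · simp only [Finset.mem_insert, Finset.mem_singleton] at hd
        have hzx := hzQc x hxQ
        have hzx2 : z * x * (z * x) = 1 := by
          rw [← hzx, mul_assoc, ← mul_assoc z x z, ← hzx, mul_assoc x z z, hzz, mul_one, hx2]
        rcases hd with rfl | rfl | rfl | rfl <;>
          simp [hT, xq, hx2, hzz, hzx, hzx2]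
        rw [← mul_assoc, hzx, mul_assoc]
      · rw [h4]
        have hne : (1 : G) ≠ z * x := fun h => hxz (by rw [← inv_eq_of_mul_eq_one_right h.symm, inv_eq_of_mul_eq_one_right hzz])
        rw [Finset.card_insert_of_notMem (by simp [xq, Subtype.ext_iff, Ne.symm hz1, Ne.symm hx1, hne]),
          Finset.card_insert_of_notMem (by simp [xq, Subtype.ext_iff, Ne.symm hxz, hx1]),
          Finset.card_pair (by simp [xq, Subtype.ext_iff, hz1])]
    have hm : (⟨x', hx'.1⟩ : Q) ∈ T.filter fun d : Q => (d : G) * d = 1 := by simp [hT, hc, hx'.2.1]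
    rw [← hsub] at hm
    simp only [Finset.mem_insert, Finset.mem_singleton, xq, Subtype.ext_iff, Subgroup.coe_one] at hm
    rcases hm with h | h | h | h
    · exact absurd h hx'.2.2.1
    · exact absurd h hx'.2.2.2
    · exact Or.inl h
    · exact Or.inr h
  -- the involutions conjugate to `t` centralizing `z`
  let P : Finset G := Finset.univ.filter fun y => IsConj t y ∧ y ∈ C
  have hPrep : ∀ y, y ∈ P → ∃ g : G, g * t * g⁻¹ = y ∧ g * (b₀ : G) * g⁻¹ = z := by
    intro y hy
    simp only [P, Finset.mem_filter, Finset.mem_univ, true_and] at hy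
    obtain ⟨g, rfl⟩ := isConj_iff.mp hy.1
    have hD : g⁻¹ * z * g ∈ D := by
      refine Subgroup.mem_centralizer_singleton_iff.mpr ?_
      have h := hCz' _ hy.2
      have := congrArg (fun u => g⁻¹ * u * g) h
      simpa [mul_assoc] using this.symm
    have hzb : IsConj z (g⁻¹ * z * g) := isConj_iff.mpr ⟨g⁻¹, by group⟩
    obtain ⟨h1, h2⟩ := hordsq (hinv hz hzb)
    obtain ⟨c, hc⟩ := hBtrans b₀ ⟨_, hzinB _ hD hzb⟩ hb₀1 hb₀2 (fun h => h2 (congrArg Subtype.val h)) (Subtype.ext h1)
    have hc' : (c : G) * b₀ * (c : G)⁻¹ = g⁻¹ * z * g := congrArg Subtype.val hc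
    refine ⟨g * c, ?_, ?_⟩
    · rw [show g * (c : G) * t * (g * c)⁻¹ = g * ((c : G) * t * (c : G)⁻¹) * g⁻¹ by group,
        hDt _ (hBle c.2), mul_inv_cancel_right]
    · rw [show g * (c : G) * b₀ * (g * c)⁻¹ = g * ((c : G) * b₀ * (c : G)⁻¹) * g⁻¹ by group, hc']
      group
  have hmemC : ∀ g d : G, g * (b₀ : G) * g⁻¹ = z → d * b₀ = b₀ * d → g * d * g⁻¹ ∈ C := fun g d hg hd => by
    refine Subgroup.mem_centralizer_singleton_iff.mpr ?_
    rw [← hg, conj_mul, conj_mul, hd]
  have hy₀C : g₀ * t * g₀⁻¹ ∈ C := hmemC g₀ t hg₀ (hDt _ (hBle b₀.2)).symm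
  have hb₀A : (eB b₀ ≠ 1) ∧ eB b₀ * eB b₀ = 1 :=
    ⟨fun h => hb₀1 (eB.map_eq_one_iff.mp h), by rw [← map_mul, hb₀2, map_one]⟩
  have hP120 : P.card = 120 := by
    set y₀ : C := ⟨_, hy₀C⟩
    have hclass : Nat.card {y : C // IsConj y₀ y} = P.card := by
      rw [← Fintype.card_coe, ← Nat.card_eq_fintype_card]
      refine Nat.card_congr (Equiv.ofBijective (fun y => ⟨(y.1 : G), Finset.mem_filter.mpr ⟨Finset.mem_univ _, ?_, y.1.2⟩⟩)
        ⟨fun a b h => Subtype.ext (Subtype.ext (congrArg (fun u : {x // x ∈ P} => u.1) h)), fun y => ?_⟩)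
      · obtain ⟨c, hc⟩ := isConj_iff.mp y.2
        rw [← hc]
        exact isConj_iff.mpr ⟨(c : G) * g₀, by show _ = (c : G) * (g₀ * t * g₀⁻¹) * (c : G)⁻¹; group⟩
      · obtain ⟨g, hgt, hgb⟩ := hPrep y.1 y.2
        have hcC : g * g₀⁻¹ ∈ C := by
          refine Subgroup.mem_centralizer_singleton_iff.mpr ?_
          conv_lhs => rw [← hg₀]
          conv_rhs => rw [← hgb]
          group
        refine ⟨⟨⟨y.1, (Finset.mem_filter.mp y.2).2.2⟩, isConj_iff.mpr ⟨⟨_, hcC⟩, Subtype.ext ?_⟩⟩, rfl⟩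
        show g * g₀⁻¹ * (g₀ * t * g₀⁻¹) * (g * g₀⁻¹)⁻¹ = y.1
        rw [← hgt]; group
    have hcent : Nat.card (Subgroup.centralizer ({y₀} : Set C)) = 16 := by
      have e1 : Nat.card (Subgroup.centralizer ({y₀} : Set C)) = Nat.card (D ⊓ Subgroup.centralizer ({(b₀ : G)} : Set G) : Subgroup G) := by
        have hconj : ∀ a b : G, g₀⁻¹ * a * g₀ * b = b * (g₀⁻¹ * a * g₀) ↔ a * (g₀ * b * g₀⁻¹) = g₀ * b * g₀⁻¹ * a := by
          intro a b
          constructor <;> intro h
          · have := congrArg (fun u => g₀ * u * g₀⁻¹) h; simpa [mul_assoc] using this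
          · have := congrArg (fun u => g₀⁻¹ * u * g₀) h; simpa [mul_assoc] using this
        have hg₀' : ∀ d : G, g₀⁻¹ * (g₀ * d * g₀⁻¹) * g₀ = d := fun d => by group
        refine Nat.card_congr
          { toFun := fun c => ⟨g₀⁻¹ * ((c : C) : G) * g₀, ?_, ?_⟩
            invFun := fun d => ⟨⟨g₀ * d.1 * g₀⁻¹, hmemC g₀ _ hg₀ (Subgroup.mem_centralizer_singleton_iff.mp d.2.2)⟩,
              Subgroup.mem_centralizer_singleton_iff.mpr (Subtype.ext ?_)⟩
            left_inv := fun c => Subtype.ext (Subtype.ext (show g₀ * (g₀⁻¹ * ((c : C) : G) * g₀) * g₀⁻¹ = _ by group))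
            right_inv := fun d => Subtype.ext (hg₀' d.1) }
        · exact Subgroup.mem_centralizer_singleton_iff.mpr ((hconj _ t).mpr
            (congrArg Subtype.val (Subgroup.mem_centralizer_singleton_iff.mp c.2)))
        · refine Subgroup.mem_centralizer_singleton_iff.mpr ((hconj _ _).mpr ?_)
          rw [hg₀]; exact hCz' _ (c : C).2
        · show g₀ * d.1 * g₀⁻¹ * (g₀ * t * g₀⁻¹) = g₀ * t * g₀⁻¹ * (g₀ * d.1 * g₀⁻¹)
          rw [conj_mul, conj_mul, hDt _ d.2.1]
      have e2 : Nat.card (B ⊓ Subgroup.centralizer ({(b₀ : G)} : Set G) : Subgroup G) = 4 := by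
        rw [← (a5_cent (eB b₀) hb₀A.1 hb₀A.2).1, ← Fintype.card_subtype, ← Nat.card_eq_fintype_card]
        refine Nat.card_congr
          { toFun := fun c => ⟨eB ⟨c.1, c.2.1⟩, by
              rw [← map_mul, ← map_mul]; exact congrArg eB (Subtype.ext (Subgroup.mem_centralizer_singleton_iff.mp c.2.2))⟩
            invFun := fun a => ⟨(eB.symm a.1 : B), (eB.symm a.1).2, Subgroup.mem_centralizer_singleton_iff.mpr ?_⟩
            left_inv := fun c => Subtype.ext (by simp)
            right_inv := fun a => Subtype.ext (by simp) }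
        have h : eB.symm a.1 * b₀ = b₀ * eB.symm a.1 := eB.injective (by simp [a.2])
        exact congrArg Subtype.val h
      rw [e1, card_of_factor (A := V) (B := B ⊓ Subgroup.centralizer ({(b₀ : G)} : Set G))
        (C := D ⊓ Subgroup.centralizer ({(b₀ : G)} : Set G))
        (fun v hv => ⟨hVle hv, Subgroup.mem_centralizer_singleton_iff.mpr (hVBc v hv _ b₀.2)⟩)
        (fun b hb => ⟨hBle hb.1, hb.2⟩)
        (eq_bot_iff.mpr fun u hu => Subgroup.mem_bot.mpr (hVB0 u hu.1 hu.2.1))
        (fun c hc => by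
          obtain ⟨v, hv, b, hb, rfl⟩ := hDfac c hc.1
          refine ⟨v, hv, b, ⟨hb, Subgroup.mem_centralizer_singleton_iff.mpr ?_⟩, rfl⟩
          have h := Subgroup.mem_centralizer_singleton_iff.mp hc.2
          rw [mul_assoc, ← mul_assoc (b₀ : G), ← hVBc v hv _ b₀.2, mul_assoc v (b₀ : G)] at h
          exact mul_left_cancel h), hV, e2]
    have := card_class_mul y₀
    rw [hclass, hcent, hCcard] at this
    omega
  have htwo : ∀ y ∈ P, (X.filter fun x => x * y = y * x).card = 2 := by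
    intro y hy
    obtain ⟨g, hgt, hgb⟩ := hPrep y hy
    rw [← (a5_cent (eB b₀) hb₀A.1 hb₀A.2).2]
    have hin : ∀ x ∈ X.filter (fun x => x * y = y * x), g⁻¹ * x * g ∈ B ∧ g⁻¹ * x * g * b₀ = b₀ * (g⁻¹ * x * g) := by
      intro x hx
      obtain ⟨hx1, hxy⟩ := Finset.mem_filter.mp hx
      obtain ⟨hc, hxC, -⟩ := (hXmem x).mp hx1
      refine ⟨hzinB _ (Subgroup.mem_centralizer_singleton_iff.mpr ?_) (hc.trans (isConj_iff.mpr ⟨g⁻¹, by group⟩)), ?_⟩
      · rw [← hgt] at hxy
        have := congrArg (fun u => g⁻¹ * u * g) hxy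
        simpa [mul_assoc] using this
      · have h := hCz' x hxC
        rw [← hgb] at h
        have := congrArg (fun u => g⁻¹ * u * g) h
        simpa [mul_assoc] using this
    refine Finset.card_bij (fun x hx => eB ⟨_, (hin x hx).1⟩) (fun x hx => ?_) (fun a ha b hb h => ?_) (fun a ha => ?_)
    · obtain ⟨hc, hxC, hxz⟩ := (hXmem x).mp (Finset.mem_filter.mp hx).1
      obtain ⟨hx2, hx1'⟩ := hordsq (hinv hz hc)
      refine Finset.mem_filter.mpr ⟨Finset.mem_univ _, ?_, ⟨fun h => ?_, ?_⟩, fun h => ?_⟩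
      · rw [← map_mul, ← map_mul]; exact congrArg eB (Subtype.ext (hin x hx).2)
      · refine hx1' ?_
        have h' : g⁻¹ * x * g = 1 := congrArg Subtype.val (eB.map_eq_one_iff.mp h)
        calc x = g * (g⁻¹ * x * g) * g⁻¹ := by group
          _ = 1 := by rw [h', mul_one, mul_inv_cancel]
      · rw [← map_mul, ← map_one eB]
        refine congrArg eB (Subtype.ext ?_)
        show g⁻¹ * x * g * (g⁻¹ * x * g) = 1
        rw [show g⁻¹ * x * g * (g⁻¹ * x * g) = g⁻¹ * (x * x) * g by group, hx2]; group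
      · refine hxz ?_
        have h' : g⁻¹ * x * g = b₀ := congrArg Subtype.val (eB.injective h)
        rw [← hgb, ← h']; group
    · have h' : g⁻¹ * a * g = g⁻¹ * b * g := congrArg Subtype.val (eB.injective h)
      exact mul_left_cancel (mul_right_cancel h')
    · simp only [Finset.mem_filter, Finset.mem_univ, true_and] at ha
      obtain ⟨hab, ⟨ha1, ha2⟩, hab0⟩ := ha
      set b := eB.symm a
      have hbb : (b : G) * b₀ = b₀ * b := congrArg Subtype.val
        (show b * b₀ = b₀ * b from eB.injective (by simp [b, hab]))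
      have hb1 : b ≠ 1 := fun h => ha1 (by simpa [b] using congrArg eB h)
      have hb2 : b * b = 1 := eB.injective (by simp [b, ha2])
      refine ⟨g * (b : G) * g⁻¹, Finset.mem_filter.mpr ⟨(hXmem _).mpr ⟨?_, hmemC g _ hgb hbb, fun h => hab0 ?_⟩, ?_⟩, ?_⟩
      · exact (hBz b b.2 (hBinv hb1 hb2)).symm.trans (isConj_iff.mpr ⟨g, rfl⟩)
      · have : (b : G) = b₀ := mul_left_cancel (mul_right_cancel (h.trans hgb.symm))
        exact (eB.apply_symm_apply a).symm.trans (congrArg eB (Subtype.ext this))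
      · rw [← hgt, conj_mul, conj_mul, hDt _ (hBle b.2)]
      · show eB ⟨g⁻¹ * (g * (b : G) * g⁻¹) * g, _⟩ = a
        exact (congrArg eB (Subtype.ext (by group; rfl))).trans (eB.apply_symm_apply a)
  -- the counts
  have haz : aCount z t z = 960 := by
    have hset : aCount z t z = ((X ×ˢ P).filter fun p => ¬ p.1 * p.2 = p.2 * p.1).card := by
      rw [aCount, ← Fintype.card_coe, ← Nat.card_eq_fintype_card]
      refine Nat.card_congr (Equiv.subtypeEquivRight fun p => ?_)
      obtain ⟨x, y⟩ := p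
      simp only [Finset.mem_filter, Finset.mem_product]
      constructor
      · rintro ⟨h1, h2, h3⟩
        obtain ⟨hx2, hx1⟩ := hordsq (hinv hz h1)
        obtain ⟨hy2, hy1⟩ := hordsq (hinv ht h2)
        have hxinv : x⁻¹ = x := inv_eq_of_mul_eq_one_right hx2
        have hv : z * (x * y) = x * y * z := by
          rw [← h3]; exact ((Commute.refl (x * y)).pow_left _).eq
        have hxv : x * z * x⁻¹ = z := by
          rw [← h3]
          show x * (x * y) ^ _ * x⁻¹ = (x * y) ^ _
          rw [← conj_pow, conj_involution_product x y hx2 hy2, inv_pow]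
          have : vinv (x, y) * vinv (x, y) = 1 := by rw [h3, hzz]
          exact inv_eq_of_mul_eq_one_right this
        have hxC : x ∈ C := Subgroup.mem_centralizer_singleton_iff.mpr (mul_inv_eq_iff_eq_mul.mp hxv)
        have hyC : y ∈ C := by
          have hxyC : x * y ∈ C := Subgroup.mem_centralizer_singleton_iff.mpr hv.symm
          exact (C.mul_mem_cancel_left hxC).mp hxyC
        have hxzne : x ≠ z := by
          intro hxz
          have hzy := hCz' y hyC
          have hne : z * y ≠ 1 := fun h => hzt (by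
            have hyz : y = z := (eq_inv_of_mul_eq_one_right h).trans (inv_eq_of_mul_eq_one_right hzz)
            rw [hyz] at h2; exact h2.symm)
          have hzy2 : z * y * (z * y) = 1 := by
            calc z * y * (z * y) = z * (y * z) * y := by simp only [mul_assoc]
              _ = (z * z) * (y * y) := by rw [hzy]; simp only [mul_assoc]
              _ = 1 := by rw [hzz, hy2, one_mul]
          rw [show vinv (x, y) = (x * y) ^ (orderOf (x * y) / 2) from rfl, hxz, hord2 hzy2 hne] at h3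
          simp at h3
          exact hy1 h3
        refine ⟨⟨(hXmem x).mpr ⟨h1, hxC, hxzne⟩, Finset.mem_filter.mpr ⟨Finset.mem_univ _, h2, hyC⟩⟩, fun hcxy => ?_⟩
        by_cases hxy : x * y = 1
        · exact hzt (h1.trans ((show x = y by rw [← hxinv]; exact inv_eq_of_mul_eq_one_right hxy) ▸ h2.symm))
        have hxy2 : x * y * (x * y) = 1 := by
          calc x * y * (x * y) = x * (y * x) * y := by simp only [mul_assoc]
            _ = (x * x) * (y * y) := by rw [← hcxy]; simp only [mul_assoc]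
            _ = 1 := by rw [hx2, hy2, one_mul]
        have hzxy : x * y = z := by
          rw [← h3, show vinv (x, y) = (x * y) ^ (orderOf (x * y) / 2) from rfl, hord2 hxy2 hxy]; simp
        refine htnQ y h2 ?_
        rw [show y = x⁻¹ * z by rw [← hzxy, inv_mul_cancel_left]]
        exact Q.mul_mem (Q.inv_mem (hzinQ x hxC h1)) hzQ
      · rintro ⟨⟨hxX, hyP⟩, hne⟩
        obtain ⟨hc, hxC, hxz⟩ := (hXmem x).mp hxX
        obtain ⟨-, hty, hyC⟩ := Finset.mem_filter.mp hyP
        refine ⟨hc, hty, ?_⟩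
        obtain ⟨hx2, hx1⟩ := hordsq (hinv hz hc)
        obtain ⟨hy2, hy1⟩ := hordsq (hinv ht hty)
        have hyinv : y⁻¹ = y := inv_eq_of_mul_eq_one_right hy2
        have hxinv : x⁻¹ = x := inv_eq_of_mul_eq_one_right hx2
        set x' := y * x * y⁻¹ with hx'
        have hcc : x * y * (x * y) = x * x' := by rw [hx', hyinv]; simp only [mul_assoc]
        have hxQ := hzinQ x hxC hc
        have hcQ : x * x' ∈ Q := Q.mul_mem hxQ (hQn y hyC x hxQ)
        have hc1 : x * x' ≠ 1 := fun h => hne (by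
          have h' : x' = x := by rw [← hxinv]; exact (inv_eq_of_mul_eq_one_right h).symm
          exact (mul_inv_eq_iff_eq_mul.mp h').symm)
        show (x * y) ^ (orderOf (x * y) / 2) = z
        have hcp : (x * y) ^ 2 = x * x' := by rw [pow_two, hcc]
        rcases hsq _ hcQ with h | h
        · have hx'X : x' ∈ X := by
            refine (hXmem _).mpr ⟨hc.trans (isConj_iff.mpr ⟨y, rfl⟩), C.mul_mem (C.mul_mem hyC hxC) (C.inv_mem hyC), fun e => hxz ?_⟩
            calc x = y⁻¹ * (y * x * y⁻¹) * y := by group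
              _ = z := by rw [← hx', e, mul_assoc, ← hCz' y hyC, inv_mul_cancel_left]
          have hxx' : x * x' = x' * x := by
            have h' := inv_eq_of_mul_eq_one_right h
            rw [mul_inv_rev, hxinv, inv_eq_of_mul_eq_one_right ((hordsq (hinv hz ((hXmem _).mp hx'X).1)).1)] at h'
            exact h'.symm
          rcases hpair x hxX x' hx'X hxx' with e | e
          · exact absurd (by rw [e, hx2]) hc1
          · have hcz : x * x' = z := by rw [e, ← mul_assoc, hCz' x hxC, mul_assoc, hx2, mul_one]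
            have ho : orderOf (x * y) = 2 ^ 2 := by
              refine orderOf_eq_prime_pow ?_ ?_
              · rw [pow_one, hcp, hcz]; exact hz1
              · rw [show 2 ^ (1 + 1) = 2 * 2 by norm_num, pow_mul, hcp, hcz, pow_two, hzz]
            rw [ho, show (2 : ℕ) ^ 2 / 2 = 2 by norm_num, hcp, hcz]
        · have ho : orderOf (x * y) = 2 ^ 3 := by
            refine orderOf_eq_prime_pow ?_ ?_
            · rw [show 2 ^ 2 = 2 * 2 by norm_num, pow_mul, hcp, pow_two, h]; exact hz1
            · rw [show 2 ^ (2 + 1) = 2 * (2 * 2) by norm_num, pow_mul, hcp, pow_mul, pow_two (x * x'), h, pow_two, hzz]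
          rw [ho, show (2 : ℕ) ^ 3 / 2 = 2 * 2 by norm_num, pow_mul, hcp, pow_two, h]
    rw [hset]
    have hc := Finset.card_filter_add_card_filter_not (s := X ×ˢ P) (fun p : G × G => p.1 * p.2 = p.2 * p.1)
    have hcomm2 : ((X ×ˢ P).filter fun p => p.1 * p.2 = p.2 * p.1).card = 240 := by
      rw [Finset.card_filter, Finset.sum_product_right,
        Finset.sum_congr rfl (fun y hy => (Finset.card_filter _ _).symm.trans (htwo y hy)), Finset.sum_const, hP120]
      norm_num
    rw [hcomm2, Finset.card_product, hX10, hP120] at hc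
    omega
  have hat : aCount z t t = 195 := by
    obtain ⟨S, hScard, hS⟩ := a5_pairs'
    rw [← hScard, ← Fintype.card_coe, ← Nat.card_eq_fintype_card, aCount]
    have key : ∀ p : G × G, IsConj z p.1 ∧ IsConj t p.2 ∧ vinv p = t → ∃ x b : B,
        (x : G) = p.1 ∧ t * (b : G) = p.2 ∧ (x ≠ 1 ∧ x * x = 1) ∧ b * b = 1 ∧ ¬ (x * b * (x * b) = 1 ∧ x * b ≠ 1) := by
      rintro ⟨x, y⟩ ⟨h1, h2, h3⟩
      obtain ⟨hx2, hx1⟩ := hordsq (hinv hz h1)
      obtain ⟨hy2, hy1⟩ := hordsq (hinv ht h2)
      have hv : t * (x * y) = x * y * t := by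
        rw [← h3]; exact ((Commute.refl (x * y)).pow_left _).eq
      have hxv : x * t * x⁻¹ = t := by
        rw [← h3]
        show x * (x * y) ^ _ * x⁻¹ = (x * y) ^ _
        rw [← conj_pow, conj_involution_product x y hx2 hy2, inv_pow]
        have : vinv (x, y) * vinv (x, y) = 1 := by rw [h3, htt]
        exact inv_eq_of_mul_eq_one_right this
      have hxD : x ∈ D := Subgroup.mem_centralizer_singleton_iff.mpr (mul_inv_eq_iff_eq_mul.mp hxv)
      have hyD : y ∈ D := (D.mul_mem_cancel_left hxD).mp (Subgroup.mem_centralizer_singleton_iff.mpr hv.symm)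
      have hxB := hzinB x hxD h1
      obtain ⟨p, hp, b, hb, rfl⟩ := hDfac y hyD
      have hp2 : p * p = 1 := by rw [← pow_two]; exact hV2 p hp
      have hb2 : b * b = 1 := by
        calc b * b = (p * p) * (b * b) := by rw [hp2, one_mul]
          _ = p * (p * b) * b := by simp only [mul_assoc]
          _ = p * (b * p) * b := by rw [hVBc p hp b hb]
          _ = p * b * (p * b) := by simp only [mul_assoc]
          _ = 1 := hy2
      have hp1 : p ≠ 1 := fun h => htnB _ h2 (by rw [h, one_mul]; exact hb)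
      set c := x * b with hc
      have hcB : c ∈ B := B.mul_mem hxB hb
      have hxy : x * (p * b) = p * c := by rw [← mul_assoc, ← hVBc p hp x hxB, mul_assoc]
      have hcpc : Commute p c := hVBc p hp c hcB
      have hpo : orderOf p = 2 := hord2 hp2 hp1
      by_cases hcs : c * c = 1 ∧ c ≠ 1
      · exfalso
        have hpc1 : p * c ≠ 1 := fun h => hcs.2 (hVB0 c (by rw [eq_inv_of_mul_eq_one_right h]; exact V.inv_mem hp) hcB)
        have ho : orderOf (p * c) = 2 := hord2 (by rw [← pow_two, hcpc.mul_pow, pow_two, pow_two, hp2, hcs.1, one_mul]) hpc1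
        have h4 : p * c = t := by
          rw [← h3, show vinv (x, p * b) = (x * (p * b)) ^ (orderOf (x * (p * b)) / 2) from rfl, hxy, ho]; simp
        exact hcs.2 (hVB0 c (by rw [show c = p⁻¹ * t by rw [← h4, inv_mul_cancel_left]]; exact V.mul_mem (V.inv_mem hp) htV) hcB)
      have hodd : Odd (orderOf c) := by
        by_cases hc1 : c = 1
        · rw [hc1, orderOf_one]; exact odd_one
        rcases a5_odd (eB ⟨x, hxB⟩) (by rw [← map_mul, ← map_one eB]; exact congrArg eB (Subtype.ext hx2)) (eB ⟨b, hb⟩)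
          (by rw [← map_mul, ← map_one eB]; exact congrArg eB (Subtype.ext hb2)) with h | h | h
        all_goals (rw [← map_mul] at h; simp only [← map_mul, eB.map_eq_one_iff, Subtype.ext_iff, Subgroup.coe_mul, Subgroup.coe_one] at h)
        · exact absurd ⟨h, hc1⟩ hcs
        · rw [orderOf_eq_prime (p := 3) (by simp [pow_succ, hc, h]) hc1]; decide
        · rw [orderOf_eq_prime (p := 5) (by simp [pow_succ, hc, h]) hc1]; decide
      have hpt : p = t := by
        rw [← h3, show vinv (x, p * b) = (x * (p * b)) ^ (orderOf (x * (p * b)) / 2) from rfl, hxy,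
          hcpc.orderOf_mul_eq_mul_orderOf_of_coprime (by rw [hpo]; exact (Nat.coprime_two_left).mpr hodd), hpo,
          Nat.mul_div_cancel_left _ two_pos, hcpc.mul_pow, pow_orderOf_eq_one, mul_one]
        obtain ⟨m, hm⟩ := hodd
        rw [hm, pow_succ, pow_mul, pow_two, hp2, one_pow, one_mul]
      refine ⟨⟨x, hxB⟩, ⟨b, hb⟩, rfl, by rw [hpt], ⟨fun h => hx1 (congrArg Subtype.val h), Subtype.ext hx2⟩, Subtype.ext hb2, fun h => ?_⟩
      exact hcs ⟨congrArg Subtype.val h.1, fun e => h.2 (Subtype.ext e)⟩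
    have key2 : ∀ x b : B, x ≠ 1 → x * x = 1 → b * b = 1 → ¬ (x * b * (x * b) = 1 ∧ x * b ≠ 1) →
        IsConj z (x : G) ∧ IsConj t (t * (b : G)) ∧ vinv ((x : G), t * (b : G)) = t := by
      intro x b hx1 hx2 hb2 hcs
      have hx := hBinv hx1 hx2
      have htb : Commute t (b : G) := hVBc t htV b b.2
      have htbB : t * (b : G) ∉ B := fun h => ht1 (hVB0 t htV ((B.mul_mem_cancel_right b.2).mp h))
      have htbo : orderOf (t * (b : G)) = 2 := hord2
        (by rw [← pow_two, htb.mul_pow, pow_two, pow_two, htt, show (b : G) * b = 1 from congrArg Subtype.val hb2, one_mul])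
        (fun h => htbB (h ▸ B.one_mem))
      refine ⟨(hBz x x.2 hx).symm, (hCt _ (D.mul_mem (hVle htV) (hBle b.2)) htbo htbB).symm, ?_⟩
      set c := (x : G) * b with hc
      have hodd : Odd (orderOf c) := by
        by_cases hc1 : c = 1
        · rw [hc1, orderOf_one]; exact odd_one
        rcases a5_odd (eB x) (by rw [← map_mul, hx2, map_one]) (eB b) (by rw [← map_mul, hb2, map_one]) with h | h | h
        all_goals simp only [← map_mul, eB.map_eq_one_iff] at h
        · exact absurd ⟨h, fun e => hc1 (congrArg Subtype.val e)⟩ hcs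
        all_goals simp only [Subtype.ext_iff, Subgroup.coe_mul, Subgroup.coe_one] at h
        · rw [orderOf_eq_prime (p := 3) (by simp [pow_succ, hc, h]) hc1]; decide
        · rw [orderOf_eq_prime (p := 5) (by simp [pow_succ, hc, h]) hc1]; decide
      have htc : Commute t c := hVBc t htV c (B.mul_mem x.2 b.2)
      show ((x : G) * (t * (b : G))) ^ (orderOf ((x : G) * (t * (b : G))) / 2) = t
      rw [show (x : G) * (t * (b : G)) = t * c by rw [← mul_assoc, ← hVBc t htV x x.2, mul_assoc],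
        htc.orderOf_mul_eq_mul_orderOf_of_coprime (by rw [ht]; exact (Nat.coprime_two_left).mpr hodd), ht,
        Nat.mul_div_cancel_left _ two_pos, htc.mul_pow, pow_orderOf_eq_one, mul_one]
      obtain ⟨m, hm⟩ := hodd
      rw [hm, pow_succ, pow_mul, pow_two, htt, one_pow, one_mul]
    choose fx fb hfx hfb hfp using key
    have hto : ∀ (q : G × G) (hq : IsConj z q.1 ∧ IsConj t q.2 ∧ vinv q = t), (eB (fx q hq), eB (fb q hq)) ∈ S := by
      intro q hq
      obtain ⟨⟨h1, h2⟩, h3, h4⟩ := hfp q hq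
      refine (hS _).mpr ⟨⟨fun h => h1 (eB.map_eq_one_iff.mp h), by rw [← map_mul, h2, map_one]⟩,
        by rw [← map_mul, h3, map_one], fun h => h4 ?_⟩
      exact ⟨eB.map_eq_one_iff.mp (by rw [map_mul, map_mul]; exact h.1),
        fun e => h.2 (by rw [← map_mul, e, map_one])⟩
    have hfrom : ∀ a b, (a, b) ∈ S → IsConj z ((eB.symm a : B) : G) ∧ IsConj t (t * ((eB.symm b : B) : G)) ∧
        vinv (((eB.symm a : B) : G), t * ((eB.symm b : B) : G)) = t := by
      intro a b hab
      obtain ⟨⟨h1, h2⟩, h3, h4⟩ := (hS _).mp hab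
      dsimp only at h1 h2 h3 h4
      refine key2 _ _ (fun h => h1 ?_) (by rw [← map_mul, h2, map_one]) (by rw [← map_mul, h3, map_one]) fun h => h4 ?_
      · simpa using congrArg eB h
      · rw [← map_mul, ← map_mul] at h
        exact ⟨eB.symm.map_eq_one_iff.mp h.1, fun e => h.2 (by rw [e, map_one])⟩
    refine Nat.card_congr
      { toFun := fun p => ⟨(eB (fx p.1 p.2), eB (fb p.1 p.2)), hto p.1 p.2⟩
        invFun := fun a => ⟨(((eB.symm a.1.1 : B) : G), t * ((eB.symm a.1.2 : B) : G)), hfrom _ _ a.2⟩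
        left_inv := fun p => Subtype.ext (Prod.ext (by simp [hfx]) (by simp [hfb]))
        right_inv := fun a => ?_ }
    refine Subtype.ext (Prod.ext ?_ ?_)
    · rw [← eB.apply_symm_apply a.1.1]
      exact congrArg eB (Subtype.ext (hfx _ _))
    · rw [← eB.apply_symm_apply a.1.2]
      exact congrArg eB (Subtype.ext (mul_left_cancel (hfb _ _)))
  rw [order_formula z t hz ht hzt hcl, ← hCdef, hCcard, haz, hat, hDcard]

end Cfsg.Agent.S3313
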