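import Cfsg.Statements.S0383
import Cfsg.Agent.Lib.Spor.Golay.CensusSimple
import Cfsg.Agent.Lib.Spor.Golay.CensusElem
import Cfsg.Agent.Lib.Spor.Golay.CensusNested
import Cfsg.Agent.Lib.Spor.Golay.M24Frames

set_option autoImplicit false
open scoped Pointwise
open Cfsg

namespace Cfsg.Agent.S0383

open Cfsg.Agent.Spor.Golay Cfsg.Agent.Spor.Golay.Census
open scoped Pointwise

/-- A dodecad stabiliser in the group of the length-24 code is simple. -/
theorem result (d : Finset Cfsg.GolayPt) (hd : d ∈ Cfsg.dodecads) : IsSimpleGroup (MulAction.stabilizer Cfsg.M24 d) := by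
  haveI := simple_M12
  obtain ⟨a, ha, rfl⟩ := exists_smul_dd hd
  exact (stdEquiv (stabilizer_pts 499903) (⟨a, ha⟩ : Cfsg.M24)).symm.isSimpleGroup_congr.mp inferInstance

end Cfsg.Agent.S0383
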