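import Cfsg.Statements.S4381
import Mathlib
import Cfsg.Agent.Lib.Grp.Coprime
import Cfsg.Agent.Lib.Grp.Frattini

set_option maxHeartbeats 1000000
set_option maxRecDepth 8000

set_option autoImplicit false
open Pointwise
open Cfsg
open scoped commutatorElement Pointwise

namespace Cfsg.Agent.S4381

/-- A subgroup has a retraction in an elementary abelian group. -/
theorem exists_retraction {V : Type*} [CommGroup V] [Finite V] {p : ℕ} [hp : Fact p.Prime] (he : ∀ x : V, x ^ p = 1)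
    (W : Subgroup V) : ∃ π₀ : V →* V, (∀ v, π₀ v ∈ W) ∧ ∀ w ∈ W, π₀ w = w := by
  obtain ⟨C, hC, hmax⟩ := Set.exists_max_image {C : Subgroup V | C ⊓ W = ⊥} (fun C => Nat.card C) (Set.toFinite _)
    ⟨⊥, bot_inf_eq W⟩
  have htop : C ⊔ W = ⊤ := by
    refine eq_top_iff.2 fun x _ => ?_
    by_contra hx
    have h1 : (C ⊔ Subgroup.zpowers x) ⊓ W = ⊥ := by
      refine eq_bot_iff.2 fun z hz => ?_
      obtain ⟨hz, hzW⟩ := hz
      obtain ⟨c, hc, y, hy, rfl⟩ := Subgroup.mem_sup.1 hz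
      obtain ⟨i, rfl⟩ := Subgroup.mem_zpowers_iff.1 hy
      have hi : x ^ i = 1 := by
        by_contra hne
        refine hx ?_
        have h2 : x ^ i ∈ C ⊔ W := by
          rw [show x ^ i = c⁻¹ * (c * x ^ i) by group]
          exact Subgroup.mul_mem_sup (C.inv_mem hc) hzW
        have hd : ¬ (p : ℤ) ∣ i := fun ⟨k, hk⟩ => hne (by rw [hk, zpow_mul, zpow_natCast, he, one_zpow])
        obtain ⟨a, b, hab⟩ := ((Nat.prime_iff_prime_int.1 hp.out).irreducible.coprime_iff_not_dvd).2 hd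
        have : x = (x ^ i) ^ b := by
          conv_lhs => rw [← zpow_one x, ← hab, zpow_add, mul_comm a, zpow_mul, zpow_natCast, he, one_zpow, one_mul,
            mul_comm b, zpow_mul]
        rw [this]; exact Subgroup.zpow_mem _ h2 b
      rw [hi, mul_one] at hzW ⊢
      exact hC ▸ (⟨hc, hzW⟩ : c ∈ C ⊓ W)
    have h3 := hmax _ h1
    have h4 := Subgroup.eq_of_le_of_card_ge (le_sup_left : C ≤ C ⊔ Subgroup.zpowers x) h3
    exact hx (Subgroup.mem_sup_left (h4.symm ▸ Subgroup.mem_sup_right (Subgroup.mem_zpowers x)))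
  have hbij : Function.Bijective ((QuotientGroup.mk' C).comp W.subtype) := by
    refine ⟨(injective_iff_map_eq_one _).2 fun w hw => ?_, fun v => ?_⟩
    · have h1 : (w : V) ∈ C ⊓ W := ⟨(QuotientGroup.eq_one_iff _).1 hw, w.2⟩
      rw [hC, Subgroup.mem_bot] at h1
      exact Subtype.ext h1
    · obtain ⟨x, rfl⟩ := QuotientGroup.mk'_surjective C v
      obtain ⟨c, hc, w, hw, rfl⟩ := Subgroup.mem_sup.1 (htop.ge (Subgroup.mem_top x))
      exact ⟨⟨w, hw⟩, by simp [(QuotientGroup.eq_one_iff c).2 hc]⟩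
  let e := MulEquiv.ofBijective _ hbij
  refine ⟨W.subtype.comp (e.symm.toMonoidHom.comp (QuotientGroup.mk' C)), fun v => (e.symm _).2, fun w hw => ?_⟩
  exact congrArg Subtype.val (e.symm_apply_apply ⟨w, hw⟩)

variable {A G : Type*} [Group A] [Finite A] [Group G] [Finite G] [MulDistribMulAction A G]

theorem exists_invariant_sylow' (hcop : (Nat.card A).Coprime (Nat.card G))
    (hsol : Group.IsSolvable A ∨ Group.IsSolvable G) (q : ℕ) [Fact q.Prime] :
    ∃ S : Subgroup G, (∀ a : A, ∀ x ∈ S, a • x ∈ S) ∧ (∃ i, Nat.card S = q ^ i) ∧ ¬ q ∣ S.index := by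
  let φ : A →* MulAut G := MulDistribMulAction.toMulAut A G
  let iG : G →* G ⋊[φ] A := SemidirectProduct.inl
  let iA : A →* G ⋊[φ] A := SemidirectProduct.inr
  haveI : Finite (G ⋊[φ] A) := Finite.of_equiv _ SemidirectProduct.equivProd.symm
  have hKA : iA.range ≤ Subgroup.normalizer (iG.range : Set (G ⋊[φ] A)) := by
    rintro _ ⟨a, rfl⟩
    exact Subgroup.mem_normalizer_fintype fun d hd => by
      obtain ⟨x, rfl⟩ := hd
      exact ⟨a • x, by rw [← map_inv iA, show iA a⁻¹ = SemidirectProduct.inr a⁻¹ from rfl]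
                       exact SemidirectProduct.inl_aut (φ := φ) a x⟩
  have cA : Nat.card iA.range = Nat.card A :=
    Nat.card_congr (MonoidHom.ofInjective SemidirectProduct.inr_injective).symm.toEquiv
  have cG : Nat.card iG.range = Nat.card G :=
    Nat.card_congr (MonoidHom.ofInjective SemidirectProduct.inl_injective).symm.toEquiv
  obtain ⟨X, hX, hXA⟩ := Cfsg.Agent.Grp.exists_invariant_sylow iA.range iG.range hKA (by rw [cA, cG]; exact hcop)
    (hsol.imp (fun h => by haveI := h; exact solvable_of_surjective iA.rangeRestrict_surjective)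
      (fun h => by haveI := h; exact solvable_of_surjective iG.rangeRestrict_surjective)) q
  refine ⟨X.comap iG, fun a x hx => ?_, ?_, ?_⟩
  · show iG (a • x) ∈ X
    rw [show iG (a • x) = iA a * iG x * iA a⁻¹ from SemidirectProduct.inl_aut (φ := φ) a x, map_inv]
    exact (Subgroup.mem_normalizer_iff.1 (hXA ⟨a, rfl⟩) _).1 hx
  · have hle : X ≤ iG.range := hX.1
    obtain ⟨i, hi⟩ := IsPGroup.iff_card.1 hX.2.1
    refine ⟨i, ?_⟩
    have hinj : Function.Injective iG := SemidirectProduct.inl_injective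
    rw [← hi, ← Subgroup.card_map_of_injective hinj, Subgroup.map_comap_eq_self hle]
  · rw [Subgroup.index_comap]
    exact hX.2.2

omit [Finite A] [Finite G] in
theorem frattini_invariant (a : A) {x : G} (hx : x ∈ frattini G) : a • x ∈ frattini G := by
  have h := (frattini_characteristic (G := G)).fixed (MulDistribMulAction.toMulAut A G a)
  rw [← h] at hx
  exact hx


/-- Let the finite group A act by automorphisms on the finite group G with the orders of A and G coprime, and assume that A or G is solvable. Call a proper A-invariant subgroup of G maximal A-invariant when no A-invariant subgroup lies strictly between it and G. Then all maximal A-invariant subgroups of G are conjugate under elements of the fixed-point subgroup C_G(A) if and only if G is a p-group for some prime p and A leaves invariant no subgroup strictly between the Frattini subgroup of G and G. In that case, if G is nontrivial, the Frattini subgroup is the only maximal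 A-invariant subgroup (a trivial G has none). -/
theorem result {A G : Type*} [Group A] [Finite A]
    [Group G] [Finite G] [MulDistribMulAction A G] (hcop : (Nat.card A).Coprime (Nat.card G)) (hsol : Group.IsSolvable A ∨ Group.IsSolvable G) :
    ((∀ M N : Subgroup G, (M ≠ ⊤ ∧ (∀ a : A, ∀ x ∈ M, a • x ∈ M) ∧ ∀ L : Subgroup G, M < L → (∀ a : A, ∀ x ∈ L, a • x ∈ L) → L = ⊤) → (N ≠ ⊤ ∧ (∀ a : A, ∀ x ∈ N, a • x ∈ N) ∧ ∀ L : Subgroup G, N < L → (∀ a : A, ∀ x ∈ L, a • x ∈ L) → L = ⊤) →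
        ∃ c : G, (∀ a : A, a • c = c) ∧ N = MulAut.conj c • M) ↔
      ((∃ p : ℕ, p.Prime ∧ IsPGroup p G) ∧ ∀ L : Subgroup G, frattini G < L → (∀ a : A, ∀ x ∈ L, a • x ∈ L) → L = ⊤)) ∧
    (((∃ p : ℕ, p.Prime ∧ IsPGroup p G) ∧ ∀ L : Subgroup G, frattini G < L → (∀ a : A, ∀ x ∈ L, a • x ∈ L) → L = ⊤) →
      ∀ M : Subgroup G, (M ≠ ⊤ ∧ (∀ a : A, ∀ x ∈ M, a • x ∈ M) ∧ ∀ L : Subgroup G, M < L → (∀ a : A, ∀ x ∈ L, a • x ∈ L) → L = ⊤) ↔ (M = frattini G ∧ M ≠ ⊤)) := by

  classical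
  set Max : Subgroup G → Prop := fun M => M ≠ ⊤ ∧ (∀ a : A, ∀ x ∈ M, a • x ∈ M) ∧ ∀ L : Subgroup G, M < L → (∀ a : A, ∀ x ∈ L, a • x ∈ L) → L = ⊤ with hMax
  have hinvsup : ∀ M : Subgroup G, (∀ a : A, ∀ x ∈ M, a • x ∈ M) → ∀ a : A, ∀ x ∈ M ⊔ frattini G, a • x ∈ M ⊔ frattini G := by
    intro M hM a x hx
    suffices h : M ⊔ frattini G ≤ (M ⊔ frattini G).comap (MulDistribMulAction.toMulAut A G a).toMonoidHom from h hx
    exact sup_le (fun y hy => Subgroup.mem_sup_left (hM a y hy)) (fun y hy => Subgroup.mem_sup_right (frattini_invariant a hy))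
  have hge : ∀ M, Max M → frattini G ≤ M := fun M hM => by
    rcases eq_or_lt_of_le (le_sup_left : M ≤ M ⊔ frattini G) with h | h
    · exact le_sup_right.trans h.ge
    · exact absurd (frattini_nongenerating (hM.2.2 _ h (hinvsup M hM.2.1))) hM.1
  have huniq : ((∃ p : ℕ, p.Prime ∧ IsPGroup p G) ∧ ∀ L : Subgroup G, frattini G < L → (∀ a : A, ∀ x ∈ L, a • x ∈ L) → L = ⊤) →
      ∀ M : Subgroup G, Max M ↔ (M = frattini G ∧ M ≠ ⊤) := by
    intro h M
    constructor
    · intro hM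
      refine ⟨?_, hM.1⟩
      rcases eq_or_lt_of_le (hge M hM) with he | hlt
      · exact he.symm
      · exact absurd (h.2 M hlt hM.2.1) hM.1
    · rintro ⟨rfl, hne⟩
      exact ⟨hne, fun a x hx => frattini_invariant a hx, h.2⟩
  refine ⟨⟨fun hconj => ?_, fun h M N hM hN => ⟨1, fun a => smul_one a, ?_⟩⟩, huniq⟩
  swap
  · rw [map_one, one_smul, ((huniq h M).1 hM).1, ((huniq h N).1 hN).1]
  have hex : ∀ L : Subgroup G, L ≠ ⊤ → (∀ a : A, ∀ x ∈ L, a • x ∈ L) → ∃ M, L ≤ M ∧ Max M := by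
    intro L hL hLA
    obtain ⟨M, hLM, hM⟩ := (Set.toFinite {M : Subgroup G | M ≠ ⊤ ∧ ∀ a : A, ∀ x ∈ M, a • x ∈ M}).exists_le_maximal
      (a := L) ⟨hL, hLA⟩
    refine ⟨M, hLM, hM.1.1, hM.1.2, fun K hK hKA => by_contra fun hne => ?_⟩
    exact hK.not_ge (hM.2 ⟨hne, hKA⟩ hK.le)
  have hP : ∃ p : ℕ, p.Prime ∧ IsPGroup p G := by
    rcases subsingleton_or_nontrivial G with hs | hn
    · exact ⟨2, Nat.prime_two, fun x => ⟨0, Subsingleton.elim _ _⟩⟩
    by_contra hne
    push Not at hne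
    have hsyl : ∀ q : ℕ, q.Prime → ∃ M, Max M ∧ q ^ ((Nat.card G).factorization q) ∣ Nat.card M := by
      intro q hq
      haveI := Fact.mk hq
      obtain ⟨S, hSA, ⟨i, hi⟩, hSi⟩ := exists_invariant_sylow' hcop hsol q
      have hi' : (Nat.card G).factorization q = i := by
        rw [← S.card_mul_index, Nat.factorization_mul Nat.card_pos.ne' S.index_ne_zero_of_finite, Finsupp.add_apply,
          Nat.factorization_eq_zero_of_not_dvd hSi, hi, hq.factorization_pow, Finsupp.single_eq_same, add_zero]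
      have hSt : S ≠ ⊤ := fun h => by
        rw [h, Subgroup.card_top] at hi
        exact hne q hq (IsPGroup.of_card hi)
      obtain ⟨M, hSM, hM⟩ := hex S hSt hSA
      exact ⟨M, hM, hi' ▸ hi ▸ Subgroup.card_dvd_of_le hSM⟩
    obtain ⟨q₀, hq₀, -⟩ := Nat.exists_prime_and_dvd (Finite.one_lt_card (α := G)).ne'
    obtain ⟨M₀, hM₀, -⟩ := hsyl q₀ hq₀
    refine hM₀.1 (Subgroup.eq_top_of_card_eq _ (Nat.dvd_antisymm M₀.card_subgroup_dvd_card ?_))
    rw [Nat.dvd_iff_prime_pow_dvd_dvd]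
    intro r k hr hk
    obtain ⟨M, hM, hd⟩ := hsyl r hr
    obtain ⟨c, -, rfl⟩ := hconj M₀ M hM₀ hM
    rw [Cfsg.Agent.Grp.card_conj_smul] at hd
    exact (pow_dvd_pow r ((hr.pow_dvd_iff_le_factorization Nat.card_pos.ne').1 hk)).trans hd
  refine ⟨hP, fun L hL hLA => by_contra fun hLt => ?_⟩
  obtain ⟨p, hp, hPG⟩ := hP
  haveI := Fact.mk hp
  obtain ⟨M, hLM, hM⟩ := hex L hLt hLA
  haveI hMn : M.Normal := ⟨fun x hx g => by
    rw [show g * x * g⁻¹ = ⁅g, x⁆ * x by rw [commutatorElement_def]; group]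
    exact M.mul_mem (hge M hM (Cfsg.Agent.Grp.pGroup_commutator_le_frattini hPG
      (by rw [_root_.commutator_def]; exact Subgroup.commutator_mem_commutator (Subgroup.mem_top g) (Subgroup.mem_top x)))) hx⟩
  have honly : ∀ N, Max N → N = M := by
    intro N hN
    obtain ⟨c, -, rfl⟩ := hconj M N hM hN
    exact Subgroup.Normal.conjAct hMn (ConjAct.toConjAct c)
  set Φ := frattini G
  haveI : Φ.Normal := inferInstance
  letI : CommGroup (G ⧸ Φ) := { (inferInstance : Group (G ⧸ Φ)) with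
    mul_comm := fun a b => by
      obtain ⟨a, rfl⟩ := QuotientGroup.mk_surjective a
      obtain ⟨b, rfl⟩ := QuotientGroup.mk_surjective b
      rw [← commutatorElement_eq_one_iff_mul_comm]
      exact (QuotientGroup.eq_one_iff _).2 (Cfsg.Agent.Grp.pGroup_commutator_le_frattini hPG
        (by rw [_root_.commutator_def]; exact Subgroup.commutator_mem_commutator (Subgroup.mem_top a) (Subgroup.mem_top b))) }
  set π := QuotientGroup.mk' Φ
  obtain ⟨π₀, hπW, hπid⟩ := exists_retraction (p := p) (fun v => by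
    obtain ⟨x, rfl⟩ := QuotientGroup.mk_surjective v
    exact (QuotientGroup.eq_one_iff _).2 (Cfsg.Agent.Grp.pGroup_pow_mem_frattini hPG x)) (M.map π)
  let σ : A → (G ⧸ Φ) →* (G ⧸ Φ) := fun a => QuotientGroup.map Φ Φ (MulDistribMulAction.toMulAut A G a).toMonoidHom
    (fun x hx => frattini_invariant a hx)
  have hσ : ∀ a (x : G), σ a (π x) = π (a • x) := fun a x => rfl
  have hσσ : ∀ a b v, σ a (σ b v) = σ (a * b) v := fun a b v => by
    obtain ⟨x, rfl⟩ := QuotientGroup.mk'_surjective Φ v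
    rw [hσ, hσ, hσ, mul_smul]
  have hσ1 : ∀ v, σ 1 v = v := fun v => by
    obtain ⟨x, rfl⟩ := QuotientGroup.mk'_surjective Φ v
    rw [hσ, one_smul]
  have hσW : ∀ a, ∀ w ∈ M.map π, σ a w ∈ M.map π := by
    rintro a _ ⟨x, hx, rfl⟩
    exact ⟨a • x, hM.2.1 a x hx, rfl⟩
  letI := Fintype.ofFinite A
  let ψ : (G ⧸ Φ) →* (G ⧸ Φ) := ∏ a : A, (σ a).comp (π₀.comp (σ a⁻¹))
  have hψ : ∀ v, ψ v = ∏ a : A, σ a (π₀ (σ a⁻¹ v)) := fun v => by simp [ψ, MonoidHom.finset_prod_apply]
  have hψW : ∀ v, ψ v ∈ M.map π := fun v => by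
    rw [hψ]; exact Subgroup.prod_mem _ fun a _ => hσW a _ (hπW _)
  have hψid : ∀ w ∈ M.map π, ψ w = w ^ Nat.card A := fun w hw => by
    rw [hψ, Nat.card_eq_fintype_card, ← Finset.card_univ, ← Finset.prod_const]
    refine Finset.prod_congr rfl fun a _ => ?_
    rw [hπid _ (hσW _ w hw), hσσ, mul_inv_cancel, hσ1]
  have hψσ : ∀ b v, ψ (σ b v) = σ b (ψ v) := fun b v => by
    rw [hψ, hψ, map_prod]
    refine Fintype.prod_equiv (Equiv.mulLeft b⁻¹) _ _ fun a => ?_
    rw [Equiv.coe_mulLeft, hσσ, hσσ, mul_inv_rev, inv_inv, mul_inv_cancel_left]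
  set K := ψ.ker.comap π with hK
  have hKA : ∀ a : A, ∀ x ∈ K, a • x ∈ K := fun a x hx => by
    show ψ (π (a • x)) = 1
    rw [← hσ, hψσ, show ψ (π x) = 1 from hx, map_one]
  have hWtriv : ∀ w ∈ M.map π, ψ w = 1 → w = 1 := fun w hw h => by
    obtain ⟨x, hx, rfl⟩ := hw
    rw [hψid _ ⟨x, hx, rfl⟩] at h
    refine orderOf_eq_one_iff.1 (Nat.eq_one_of_dvd_coprimes hcop (orderOf_dvd_of_pow_eq_one h) ?_)
    exact (orderOf_map_dvd π x).trans (orderOf_dvd_natCard x)
  have hMK : M ⊓ K ≤ Φ := fun x hx => (QuotientGroup.eq_one_iff x).1 (hWtriv _ ⟨x, hx.1, rfl⟩ hx.2)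
  by_cases hKt : K = ⊤
  · exact hL.not_ge (hLM.trans fun x hx => hMK ⟨hx, hKt ▸ Subgroup.mem_top x⟩)
  · obtain ⟨N, hKN, hN⟩ := hex K hKt hKA
    rw [honly N hN] at hKN
    have hinj : Function.Injective ψ := (injective_iff_map_eq_one _).2 fun v hv => by
      obtain ⟨x, rfl⟩ := QuotientGroup.mk'_surjective Φ v
      exact hWtriv _ ⟨x, hKN hv, rfl⟩ hv
    have hsurj := Finite.injective_iff_surjective.1 hinj
    refine hM.1 (eq_top_iff.2 fun g _ => ?_)
    obtain ⟨v, hv⟩ := hsurj (π g)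
    obtain ⟨m, hm, hmg⟩ := hψW v
    rw [hv] at hmg
    have : m⁻¹ * g ∈ Φ := by
      rw [← QuotientGroup.eq_one_iff]
      show π (m⁻¹ * g) = 1
      rw [map_mul, map_inv, hmg, inv_mul_cancel]
    simpa using M.mul_mem hm (hge M hM this)

end Cfsg.Agent.S4381
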