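import Cfsg.Statements.S1193
import Mathlib
import Cfsg.Agent.Lib.Recog.QuasiDihedral
-- import your own Cfsg.Agent.* helpers here

set_option autoImplicit false
open Cfsg

namespace Cfsg.Agent.S1193

/-- Let S be quasi-dihedral of order 2^(n+1). Then S' = Φ(S) is cyclic of order 2^(n-1), the centre of S has order 2, and the subgroup generated by the involutions of S is dihedral of order 2^n. -/
theorem result {S : Type*} [Group S] [Finite S] (hS : Cfsg.IsQuasiDihedral S) (n : ℕ) (hn : Nat.card S = 2 ^ (n + 1)) : commutator S = frattini S ∧ IsCyclic (commutator S) ∧ Nat.card (commutator S) = 2 ^ (n - 1) ∧ Nat.card (Subgroup.center S) = 2 ∧ Nonempty (↥(Subgroup.closure {x : S | orderOf x = 2}) ≃* DihedralGroup (2 ^ (n - 1))) := by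
  obtain ⟨hn3, a, b, h, hb, hc⟩ := Cfsg.Agent.MaxClass.exists_shape_of_isQuasiDihedral hS hn
  have hs := Cfsg.Agent.MaxClass.qd_shape h hn3 hb hc
  refine ⟨(Cfsg.Agent.MaxClass.qd_frattini h hn3 hb hc).symm, ?_, ?_, h.card_center (by omega) hs, ?_⟩
  · rw [h.shape_commutator (by omega) hs]
    exact Subgroup.isCyclic_zpowers _
  · have h1 := (commutator S).card_mul_index
    rw [h.index_commutator (by omega) hs, hn, show n + 1 = (n - 1) + 2 by omega, pow_add] at h1
    omega
  · rw [Cfsg.Agent.MaxClass.qd_closure_involutions h hn3 hb hc]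
    exact Cfsg.Agent.MaxClass.qd_dihedral h hn3 hb hc

end Cfsg.Agent.S1193
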