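import Cfsg.Statements.S3224
import Cfsg.Agent.Lib.Recog.DihedralHom

set_option autoImplicit false
open Cfsg Cfsg.Agent.Recog

namespace Cfsg.Agent.S3224

universe u

theorem eq_sq_of_four {G : Type u} [Group G] {g u : G} (hg : orderOf g = 4) (hu : u ∈ Subgroup.zpowers g)
    (hu2 : orderOf u = 2) : u = g ^ 2 := by
  obtain ⟨j, rfl⟩ := hu
  change orderOf (g ^ j) = 2 at hu2
  show g ^ j = g ^ 2
  rw [← zpow_mod_orderOf, hg] at hu2 ⊢
  obtain ⟨r, hr⟩ : ∃ r : ℕ, j % ((4 : ℕ) : ℤ) = r := Int.eq_ofNat_of_zero_le (Int.emod_nonneg _ (by norm_num))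
  have hr4 : r < 4 := by have := Int.emod_lt_of_pos j (show (0 : ℤ) < ((4 : ℕ) : ℤ) by norm_num); omega
  rw [hr, zpow_natCast] at hu2 ⊢
  interval_cases r
  · simp at hu2
  · rw [pow_one, hg] at hu2; norm_num at hu2
  · rfl
  · rw [orderOf_pow' g (by norm_num), hg] at hu2; norm_num at hu2

theorem card_lt_of_lt {G : Type u} [Group G] [Finite G] {A B : Subgroup G} (h : A < B) : Nat.card A < Nat.card B := by
  by_contra h'
  exact h.ne (Subgroup.eq_of_le_of_card_ge h.le (not_lt.mp h'))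

/-- Such a group has a cyclic subgroup of index two. -/
theorem exists_cyclic : ∀ (n : ℕ) {S : Type u} [Group S] [Finite S], IsPGroup 2 S → Nat.card S = n → 8 ≤ n →
    ∀ x : S, orderOf x = 2 → Nat.card ↥(Subgroup.centralizer ({x} : Set S)) = 4 →
    ∃ y : S, 2 * orderOf y = Nat.card S := by
  intro n
  induction n using Nat.strong_induction_on with
  | _ n ih =>
  intro S _ _ hS hn h8 x hx hC
  classical
  haveI : Fact (Nat.Prime 2) := ⟨Nat.prime_two⟩
  set C := Subgroup.centralizer ({x} : Set S) with hCdef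
  have memC : ∀ g, g ∈ C ↔ x * g = g * x := fun g => by
    rw [hCdef, Subgroup.mem_centralizer_iff]; simp
  have hxC : x ∈ C := (memC x).mpr rfl
  have hncomm : ¬ ∀ a b : S, a * b = b * a := fun h => by
    have : C = ⊤ := eq_top_iff.mpr fun g _ => (memC g).mpr (h x g)
    rw [this, Subgroup.card_top] at hC; omega
  obtain ⟨k, hk⟩ := IsPGroup.iff_card.mp hS
  have hk3 : 3 ≤ k := by
    by_contra hlt
    have : 2 ^ k ≤ 2 ^ 2 := Nat.pow_le_pow_right (by norm_num) (by omega)
    omega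
  -- a central involution
  haveI : Nontrivial S := Finite.one_lt_card_iff_nontrivial.mp (by omega)
  haveI := hS.center_nontrivial
  obtain ⟨z, hzZ, hz⟩ : ∃ z ∈ Subgroup.center S, orderOf z = 2 := by
    have hp := hS.to_subgroup (Subgroup.center S)
    obtain ⟨j, hj0, hj⟩ := (hp.nontrivial_iff_card).mp inferInstance
    obtain ⟨z, hz⟩ := exists_prime_orderOf_dvd_card' (G := Subgroup.center S) 2 (hj ▸ dvd_pow_self 2 (by omega))
    exact ⟨z, z.2, by rw [Subgroup.orderOf_coe, hz]⟩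
  have hzc : ∀ g, g * z = z * g := fun g => Subgroup.mem_center_iff.mp hzZ g
  have hxz : x ≠ z := fun h => by
    have : C = ⊤ := eq_top_iff.mpr fun g _ => (memC g).mpr (h ▸ (hzc g).symm)
    rw [this, Subgroup.card_top] at hC; omega
  -- the exponent of the centralizer is two
  have hC2 : ∀ g ∈ C, g ^ 2 = 1 := by
    intro g hg
    by_contra h2
    have hd : orderOf g ∣ 2 ^ 2 := by
      have := Subgroup.orderOf_dvd_natCard C hg
      rwa [hC] at this
    have hg4 : orderOf g = 4 := by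
      obtain ⟨j, hj, hgj⟩ := (Nat.dvd_prime_pow Nat.prime_two).mp hd
      rcases (show j ≤ 1 ∨ j = 2 by omega) with h | rfl
      · exact absurd (orderOf_dvd_iff_pow_eq_one.mp (hgj ▸ (pow_dvd_pow 2 h).trans (by norm_num))) h2
      · exact hgj
    have heq : Subgroup.zpowers g = C :=
      Subgroup.eq_of_le_of_card_ge (Subgroup.zpowers_le.mpr hg) (by rw [hC, Nat.card_zpowers, hg4])
    exact hxz ((eq_sq_of_four hg4 (heq ▸ hxC) hx).trans
      (eq_sq_of_four hg4 (heq ▸ (memC z).mpr (hzc x)) hz).symm)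
  have hxy : ∀ y : S, 2 < orderOf y → x * y ≠ y * x := fun y hy h => by
    have := orderOf_le_of_pow_eq_one (by norm_num) (hC2 y ((memC y).mpr h)); omega
  rcases (show k = 3 ∨ 4 ≤ k by omega) with rfl | hk4
  · -- order eight
    by_contra hno
    apply hncomm
    have h2 : ∀ g : S, g * g = 1 := fun g => by
      obtain ⟨j, hj, hg⟩ := (Nat.dvd_prime_pow Nat.prime_two).mp (hk ▸ orderOf_dvd_natCard g)
      rcases (show j ≤ 1 ∨ j = 2 ∨ j = 3 by omega) with h | rfl | rfl
      · rw [← pow_two]; exact orderOf_dvd_iff_pow_eq_one.mp (hg ▸ pow_dvd_pow 2 h |>.trans (by norm_num))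
      · exact absurd ⟨g, by rw [hg, hk]; norm_num⟩ hno
      · exact absurd ⟨g ^ 2, by rw [orderOf_pow, hg, hk]; norm_num⟩ hno
    intro a b
    have hinv : ∀ g : S, g⁻¹ = g := fun g => inv_eq_of_mul_eq_one_left (h2 g)
    calc a * b = (a * b)⁻¹ := (hinv _).symm
      _ = b * a := by rw [mul_inv_rev, hinv, hinv]
  -- the quotient by the central involution
  let Z := Subgroup.zpowers z
  haveI : Z.Normal := ⟨fun g hg a => by
    rw [Subgroup.mem_center_iff.mp (Subgroup.zpowers_le.mpr hzZ hg) a, mul_inv_cancel_right]; exact hg⟩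
  have hZcard : Nat.card Z = 2 := by rw [Nat.card_zpowers, hz]
  have memZ : ∀ g, g ∈ Z ↔ g = 1 ∨ g = z := by
    intro g
    constructor
    · rintro ⟨j, rfl⟩
      show z ^ j = 1 ∨ z ^ j = z
      rw [← zpow_mod_orderOf, hz]
      rcases Int.emod_two_eq_zero_or_one j with h | h <;> simp [h]
    · rintro (rfl | rfl)
      · exact Z.one_mem
      · exact Subgroup.mem_zpowers _
  have hxZ : x ∉ Z := fun h => by
    rcases (memZ x).mp h with h | h
    · simp [h] at hx
    · exact hxz h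
  have hQ : Nat.card (S ⧸ Z) = 2 ^ (k - 1) := by
    have h := Subgroup.card_eq_card_quotient_mul_card_subgroup Z
    rw [hZcard, hk, show k = k - 1 + 1 by omega, pow_succ] at h
    simpa using h.symm
  have hQp : IsPGroup 2 (S ⧸ Z) := hS.to_quotient Z
  have hxQ : orderOf (x : S ⧸ Z) = 2 := orderOf_eq_prime (by
    rw [← QuotientGroup.mk_pow, ← hx, pow_orderOf_eq_one]; rfl) (fun h => hxZ ((QuotientGroup.eq_one_iff x).mp h))
  set D := Subgroup.centralizer ({(x : S ⧸ Z)} : Set (S ⧸ Z)) with hDdef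
  have hpre : ∀ g, g ∈ D.comap (QuotientGroup.mk' Z) ↔ x * g = g * x ∨ x * g = g * x * z := by
    intro g
    rw [Subgroup.mem_comap, hDdef, Subgroup.mem_centralizer_iff]
    simp only [Set.mem_singleton_iff, forall_eq, QuotientGroup.mk'_apply, ← QuotientGroup.mk_mul]
    rw [eq_comm, QuotientGroup.eq, memZ, inv_mul_eq_one, inv_mul_eq_iff_eq_mul, eq_comm (a := g * x)]
  have hD4 : Nat.card D ≤ 4 := by
    have h1 : Nat.card (D.comap (QuotientGroup.mk' Z)) = 2 * Nat.card D := by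
      rw [mul_comm, ← hZcard]
      exact QuotientGroup.card_preimage_mk Z (D : Set (S ⧸ Z)) |>.trans (mul_comm _ _)
    have h2 : Nat.card (D.comap (QuotientGroup.mk' Z)) ≤ Nat.card C * 2 := by
      by_cases hex : ∃ g₀, x * g₀ = g₀ * x * z
      · obtain ⟨g₀, hg₀⟩ := hex
        have hmem : ∀ g, x * g = g * x * z → g₀⁻¹ * g ∈ C := by
          intro g h
          rw [memC]
          have e0 : g₀⁻¹ * x = x * z * g₀⁻¹ := by
            calc g₀⁻¹ * x = g₀⁻¹ * (x * g₀) * g₀⁻¹ := by group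
              _ = g₀⁻¹ * (g₀ * x * z) * g₀⁻¹ := by rw [hg₀]
              _ = _ := by group
          calc x * (g₀⁻¹ * g) = (x * z * g₀⁻¹) * g * z⁻¹ := by
                rw [mul_assoc x z g₀⁻¹, ← hzc g₀⁻¹, mul_assoc x (g₀⁻¹ * z) g, mul_assoc g₀⁻¹ z g, ← hzc g]; group
            _ = g₀⁻¹ * (x * g) * z⁻¹ := by rw [← e0]; group
            _ = g₀⁻¹ * g * x := by rw [h]; group
        let f : (D.comap (QuotientGroup.mk' Z)) → C × Bool := fun g =>
          if h : x * g.1 = g.1 * x then (⟨g.1, (memC _).mpr h⟩, false)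
          else (⟨g₀⁻¹ * g.1, hmem _ (((hpre g.1).mp g.2).resolve_left h)⟩, true)
        have finj : Function.Injective f := by
          intro a b h
          simp only [f] at h
          split_ifs at h with h1 h2 h3
          · exact Subtype.ext (congrArg (fun p => (p.1 : S)) h)
          · simp at h
          · simp at h
          · exact Subtype.ext (mul_left_cancel (congrArg (fun p => (p.1 : S)) h))
        calc _ ≤ Nat.card (C × Bool) := Nat.card_le_card_of_injective f finj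
          _ = Nat.card C * 2 := by rw [Nat.card_prod, Nat.card_eq_fintype_card (α := Bool), Fintype.card_bool]
      · exact (Subgroup.card_le_of_le (fun g hg => (memC g).mpr (((hpre g).mp hg).resolve_right
          fun h => hex ⟨g, h⟩))).trans (Nat.le_mul_of_pos_right _ (by norm_num))
    omega
  have hD4' : Nat.card D = 4 := by
    let X := Subgroup.zpowers (x : S ⧸ Z)
    have hX : Nat.card X = 2 := by rw [Nat.card_zpowers, hxQ]
    haveI := hQp.isNilpotent
    have hXtop : X < ⊤ := lt_top_iff_ne_top.mpr fun h => by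
      rw [h, Subgroup.card_top, hQ] at hX
      have : 2 ^ 3 ≤ 2 ^ (k - 1) := Nat.pow_le_pow_right (by norm_num) (by omega)
      omega
    have hlt : X < Subgroup.normalizer (X : Set (S ⧸ Z)) := normalizerCondition_of_isNilpotent X hXtop
    have hND : Subgroup.normalizer (X : Set (S ⧸ Z)) ≤ D := by
      intro g hg
      rw [hDdef, Subgroup.mem_centralizer_iff]
      rintro _ rfl
      obtain ⟨j, hj⟩ := (Subgroup.mem_normalizer_iff.mp hg _).mp (Subgroup.mem_zpowers (x : S ⧸ Z))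
      have hj' : (x : S ⧸ Z) ^ j = g * x * g⁻¹ := hj
      rw [← zpow_mod_orderOf, hxQ] at hj'
      rcases Int.emod_two_eq_zero_or_one j with h | h <;> simp [h] at hj'
      · exact absurd (orderOf_eq_one_iff.mpr (mul_left_cancel ((eq_mul_inv_iff_mul_eq.mp hj').symm.trans (by simp) : g * (x : S ⧸ Z) = g * 1))) (by rw [hxQ]; norm_num)
      · exact eq_mul_inv_iff_mul_eq.mp hj'
    have h2 := card_lt_of_lt (lt_of_lt_of_le hlt hND)
    obtain ⟨j, hj⟩ := IsPGroup.iff_card.mp (hQp.to_subgroup D)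
    rw [hX] at h2
    rcases (show j ≤ 1 ∨ j = 2 ∨ 3 ≤ j by omega) with h | rfl | h
    · have : 2 ^ j ≤ 2 ^ 1 := Nat.pow_le_pow_right (by norm_num) h
      omega
    · omega
    · have : 2 ^ 3 ≤ 2 ^ j := Nat.pow_le_pow_right (by norm_num) h
      omega
  have hlt : 2 ^ (k - 1) < n := by
    rw [← hn, hk]; exact Nat.pow_lt_pow_right (by norm_num) (by omega)
  have hge : 8 ≤ 2 ^ (k - 1) :=
    le_trans (by norm_num) (Nat.pow_le_pow_right (show 0 < 2 by norm_num) (show 3 ≤ k - 1 by omega))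
  obtain ⟨q, hq⟩ := ih _ hlt hQp hQ hge (x : S ⧸ Z) hxQ hD4'
  obtain ⟨y, rfl⟩ := QuotientGroup.mk'_surjective Z q
  simp only [QuotientGroup.mk'_apply] at hq
  set M := orderOf (y : S ⧸ Z) with hM
  have hMk : M = 2 ^ (k - 2) := by
    rw [hQ, show k - 1 = k - 2 + 1 by omega, pow_succ] at hq; omega
  have hdiv : M ∣ orderOf y := orderOf_map_dvd (QuotientGroup.mk' Z) y
  have hdiv2 : orderOf y ∣ M * 2 := by
    refine orderOf_dvd_of_pow_eq_one ?_
    have h1 : y ^ M ∈ Z := (QuotientGroup.eq_one_iff _).mp (by rw [QuotientGroup.mk_pow, hM, pow_orderOf_eq_one])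
    rw [pow_mul]
    exact orderOf_dvd_iff_pow_eq_one.mp (hZcard ▸ Subgroup.orderOf_dvd_natCard Z h1)
  refine ⟨y, ?_⟩
  rw [hMk, ← pow_succ] at hdiv2
  rw [hMk] at hdiv
  obtain ⟨j, hj, hy⟩ := (Nat.dvd_prime_pow Nat.prime_two).mp hdiv2
  rw [hy] at hdiv
  have hjk : k - 2 ≤ j := (Nat.pow_dvd_pow_iff_le_right (by norm_num)).mp hdiv
  rcases (show j = k - 2 ∨ j = k - 1 by omega) with rfl | rfl
  swap
  · rw [hy, hk, ← pow_succ']; congr 1; omega
  exfalso
  -- the half power would be a second fixed involution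
  have hM4 : 4 ≤ M := hMk ▸ le_trans (by norm_num) (Nat.pow_le_pow_right (show 0 < 2 by norm_num) (show 2 ≤ k - 2 by omega))
  haveI hnorm : (Subgroup.zpowers (y : S ⧸ Z)).Normal := by
    refine Subgroup.normal_of_index_eq_two ?_
    have h := (Subgroup.zpowers (y : S ⧸ Z)).card_mul_index
    rw [Nat.card_zpowers, ← hM, ← hq, mul_comm 2 M] at h
    exact Nat.eq_of_mul_eq_mul_left (by omega) h
  obtain ⟨i, hi⟩ := hnorm.conj_mem _ (Subgroup.mem_zpowers (y : S ⧸ Z)) (x : S ⧸ Z)
  have hi' : (x * y * x⁻¹)⁻¹ * y ^ i ∈ Z := QuotientGroup.eq.mp (by simpa using hi.symm)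
  set w := y ^ (M / 2) with hw
  have hMe : M = M / 2 * 2 := by
    rw [Nat.div_mul_cancel]; exact hMk ▸ dvd_pow_self 2 (by omega)
  have hwo : orderOf w = 2 := by
    have h2 : M / 2 * 2 = orderOf y := by rw [← hMe, hMk, hy]
    rw [hw, orderOf_pow_of_dvd (by omega) ⟨2, h2.symm⟩, ← h2, Nat.mul_div_cancel_left _ (by omega)]
  have hiodd : Odd i := by
    rw [← Int.not_even_iff_odd]
    rintro ⟨i', rfl⟩
    have h2 : (((x : S ⧸ Z) * y * (x : S ⧸ Z)⁻¹)) ^ (M / 2) = 1 := by
      rw [← hi]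
      show ((y : S ⧸ Z) ^ (i' + i')) ^ (M / 2) = 1
      rw [← zpow_natCast, ← zpow_mul, show (i' + i') * ((M / 2 : ℕ) : ℤ) = ((M : ℕ) : ℤ) * i' by
        conv_rhs => rw [hMe]
        push_cast; ring, zpow_mul, zpow_natCast, hM, pow_orderOf_eq_one, one_zpow]
    rw [conj_pow, mul_inv_eq_one] at h2
    nth_rw 2 [← mul_one (x : S ⧸ Z)] at h2
    have := orderOf_dvd_of_pow_eq_one (mul_left_cancel h2)
    rw [← hM] at this
    have := Nat.le_of_dvd (by omega) this
    omega
  have hwc : x * w = w * x := by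
    have hcase : x * y * x⁻¹ = y ^ i ∨ x * y * x⁻¹ = y ^ i * z := by
      rcases (memZ _).mp hi' with h | h
      · left; exact inv_mul_eq_one.mp h
      · right
        rw [inv_mul_eq_iff_eq_mul] at h
        rw [h, mul_assoc (x * y * x⁻¹) z z, show z * z = 1 by rw [← pow_two, ← hz, pow_orderOf_eq_one], mul_one]
    have h1 : (x * y * x⁻¹) ^ (M / 2) = w := by
      have hpow : (y ^ i) ^ (M / 2) = w := by
        obtain ⟨i', rfl⟩ := hiodd
        rw [← zpow_natCast, ← zpow_mul, show (2 * i' + 1) * ((M / 2 : ℕ) : ℤ) = ((M : ℕ) : ℤ) * i' + (M / 2 : ℕ) by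
          conv_rhs => arg 1; rw [hMe]
          push_cast; ring, zpow_add, zpow_mul, zpow_natCast, zpow_natCast, show y ^ M = 1 by rw [hMk, ← hy, pow_orderOf_eq_one],
          one_zpow, one_mul]
      rcases hcase with h | h <;> rw [h]
      · exact hpow
      · rw [Commute.mul_pow (hzc _), hpow]
        have heven : 2 ∣ M / 2 := by
          rw [hMk]
          exact ⟨2 ^ (k - 4), by rw [show k - 2 = k - 4 + 2 by omega, pow_add]; omega⟩
        obtain ⟨e, he⟩ := heven
        rw [he, pow_mul, ← hz, pow_orderOf_eq_one, one_pow, mul_one]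
    rw [conj_pow, ← hw] at h1
    exact mul_inv_eq_iff_eq_mul.mp h1
  -- then `w` lies among the four elements fixed by `x`
  have hwC : w ∈ C := (memC w).mpr hwc
  have hwz : w ∉ Z := fun h => by
    have h' : ((y : S ⧸ Z)) ^ (M / 2) = 1 := by rw [← QuotientGroup.mk_pow]; exact (QuotientGroup.eq_one_iff w).mpr h
    have := orderOf_dvd_of_pow_eq_one h'
    rw [← hM] at this
    have := Nat.le_of_dvd (by omega) this
    omega
  let W := Subgroup.closure ({z, w} : Set S)
  have hWC : W ≤ C := (Subgroup.closure_le C).mpr (by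
    rintro a (rfl | rfl)
    · exact (memC a).mpr (hzc x)
    · exact hwC)
  have hW4 : 4 ≤ Nat.card W := by
    have hzW : Z ≤ W := Subgroup.zpowers_le.mpr (Subgroup.subset_closure (by simp))
    have hlt : Z < W := lt_of_le_of_ne hzW fun h => hwz (h ▸ Subgroup.subset_closure (by simp))
    have h1 := card_lt_of_lt hlt
    obtain ⟨e, he⟩ := IsPGroup.iff_card.mp (hS.to_subgroup W)
    rw [hZcard] at h1
    rcases (show e ≤ 1 ∨ 2 ≤ e by omega) with h | h
    · have : 2 ^ e ≤ 2 ^ 1 := Nat.pow_le_pow_right (by norm_num) h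
      omega
    · rw [he]; exact le_trans (by norm_num) (Nat.pow_le_pow_right (show 0 < 2 by norm_num) h)
  have hWeq : W = C := Subgroup.eq_of_le_of_card_ge hWC (by omega)
  have hcy : W ≤ Subgroup.centralizer ({y} : Set S) := (Subgroup.closure_le _).mpr (by
    rintro a (rfl | rfl) <;> rw [SetLike.mem_coe, Subgroup.mem_centralizer_iff] <;> simp only [Set.mem_singleton_iff, forall_eq]
    · exact hzc y
    · exact (Commute.self_pow y _).eq)
  have hyx := Subgroup.mem_centralizer_iff.mp (hcy (hWeq ▸ hxC)) y rfl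
  exact hxy y (by rw [hy, ← hMk]; omega) hyx.symm

/-- A finite 2-group containing an involution whose centralizer has order 4 is dihedral, quasi-dihedral (semidihedral), or of order 4. -/
theorem result {S : Type*} [Group S] [Finite S] (hS : IsPGroup 2 S)
    (x : S) (hx : orderOf x = 2) (hC : Nat.card ↥(Subgroup.centralizer ({x} : Set S)) = 4) :
    (∃ n : ℕ, Nonempty (S ≃* DihedralGroup n)) ∨ Cfsg.IsQuasiDihedral S ∨ Nat.card S = 4 := by
  classical
  haveI : Fact (Nat.Prime 2) := ⟨Nat.prime_two⟩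
  obtain ⟨k, hk⟩ := IsPGroup.iff_card.mp hS
  have h4 : 4 ∣ Nat.card S := hC ▸ Subgroup.card_subgroup_dvd_card _
  by_cases h8 : Nat.card S = 4
  · exact Or.inr (Or.inr h8)
  have hk3 : 3 ≤ k := by
    rw [hk, show 4 = 2 ^ 2 by rfl, Nat.pow_dvd_pow_iff_le_right (by norm_num)] at h4
    rcases eq_or_lt_of_le h4 with rfl | h
    · exact absurd hk h8
    · omega
  obtain ⟨y, hy⟩ := exists_cyclic _ hS rfl (hk ▸ le_trans (by norm_num) (Nat.pow_le_pow_right (show 0 < 2 by norm_num) hk3)) x hx hC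
  obtain ⟨m, rfl⟩ : ∃ m, k = m + 1 := ⟨k - 1, by omega⟩
  have hym : orderOf y = 2 ^ m := by rw [hk, pow_succ] at hy; omega
  have hm : 2 ≤ m := by omega
  have hsmall : ∀ j : ℕ, (x * y ^ j = y ^ j * x) → orderOf (y ^ j) ∣ 4 := fun j h => by
    have hmem : y ^ j ∈ Subgroup.centralizer ({x} : Set S) := by
      rw [Subgroup.mem_centralizer_iff]; simpa using h
    exact hC ▸ Subgroup.orderOf_dvd_natCard _ hmem
  have hxy : x ∉ Subgroup.zpowers y := by
    intro h
    have hle : Subgroup.zpowers y ≤ Subgroup.centralizer ({x} : Set S) := by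
      rw [Subgroup.zpowers_le, Subgroup.mem_centralizer_iff]
      simp only [Set.mem_singleton_iff, forall_eq]
      obtain ⟨j, rfl⟩ := h
      exact (Commute.zpow_self y j).eq
    have h1 : orderOf y ≤ 4 := by
      rw [← hC, ← Nat.card_zpowers]; exact Subgroup.card_le_of_le hle
    rw [hym] at h1
    have hm2 : m = 2 := le_antisymm ((Nat.pow_le_pow_iff_right (show 1 < 2 by norm_num)).mp h1) hm
    subst hm2
    have heq : Subgroup.zpowers y = Subgroup.centralizer ({x} : Set S) :=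
      Subgroup.eq_of_le_of_card_ge hle (by rw [hC, Nat.card_zpowers, hym]; norm_num)
    haveI : (Subgroup.zpowers y).Normal := Subgroup.normal_of_index_eq_two (by
      have h := (Subgroup.zpowers y).card_mul_index
      rw [Nat.card_zpowers, hym, hk] at h
      norm_num at h ⊢; omega)
    -- the involution of a normal cyclic subgroup is central
    have hc : ∀ g : S, g ∈ Subgroup.centralizer ({x} : Set S) := by
      intro g
      rw [Subgroup.mem_centralizer_iff]
      simp only [Set.mem_singleton_iff, forall_eq]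
      obtain ⟨j, hj⟩ := (inferInstance : (Subgroup.zpowers y).Normal).conj_mem x h g
      obtain ⟨i, hi⟩ := h
      have hy4 : orderOf y = 4 := by rw [hym]; norm_num
      have e1 : y ^ i = y ^ 2 := eq_sq_of_four hy4 ⟨i, rfl⟩ (by rw [show y ^ i = x from hi, hx])
      have e2 : y ^ j = y ^ 2 := eq_sq_of_four hy4 ⟨j, rfl⟩ (by
        rw [show y ^ j = g * x * g⁻¹ from hj]
        exact (orderOf_injective (MulAut.conj g).toMonoidHom (MulAut.conj g).injective x).trans hx)
      have : g * x * g⁻¹ = x := by rw [← show y ^ j = g * x * g⁻¹ from hj, e2, ← e1]; exact hi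
      exact (mul_inv_eq_iff_eq_mul.mp this).symm
    rw [show Subgroup.centralizer ({x} : Set S) = ⊤ from eq_top_iff.mpr fun g _ => hc g, Subgroup.card_top] at hC
    exact h8 hC
  haveI : (Subgroup.zpowers y).Normal := Subgroup.normal_of_index_eq_two (by
    have h := (Subgroup.zpowers y).card_mul_index
    rw [Nat.card_zpowers, hym, hk, pow_succ] at h
    exact Nat.eq_of_mul_eq_mul_left (Nat.two_pow_pos m) h)
  obtain ⟨i, hi⟩ : ∃ i : ℕ, x * y * x⁻¹ = y ^ i := by
    obtain ⟨j, hj⟩ := (inferInstance : (Subgroup.zpowers y).Normal).conj_mem y (Subgroup.mem_zpowers y) x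
    refine ⟨(j % (orderOf y : ℤ)).toNat, ?_⟩
    rw [← zpow_natCast, Int.toNat_of_nonneg (Int.emod_nonneg _ (by have := orderOf_pos y; omega)), zpow_mod_orderOf]
    exact hj.symm
  have hpow : ∀ j : ℕ, x * y ^ j * x⁻¹ = y ^ (i * j) := fun j => by rw [← conj_pow, hi, pow_mul]
  have hxx : x * x = 1 := by rw [← pow_two, ← hx, pow_orderOf_eq_one]
  have hii : y ^ (i * i) = y := by
    rw [← hpow, ← hi, inv_eq_of_mul_eq_one_left hxx]
    calc x * (x * y * x) * x = (x * x) * y * (x * x) := by group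
      _ = y := by rw [hxx, one_mul, mul_one]
  have hii' : i * i ≡ 1 [MOD 2 ^ m] := by rw [← hym, ← pow_eq_pow_iff_modEq, hii, pow_one]
  have hz : ((2 ^ m : ℕ) : ℤ) ∣ ((i : ℤ) - 1) * ((i : ℤ) + 1) := by
    have := Nat.modEq_iff_dvd.mp hii'.symm
    rwa [show ((i : ℤ) - 1) * ((i : ℤ) + 1) = ((i * i : ℕ) : ℤ) - ((1 : ℕ) : ℤ) by push_cast; ring]
  have hyi : ∀ a : ℤ, ((2 ^ m : ℕ) : ℤ) ∣ (i : ℤ) - a → x * y * x⁻¹ = y ^ a := fun a h => by
    rw [hi, ← zpow_natCast, zpow_eq_zpow_iff_modEq, hym]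
    exact (Int.modEq_iff_dvd.mpr h).symm
  have hclass : x * y * x⁻¹ = y⁻¹ ∨ x * y * x⁻¹ = y ∨
      ∃ c : ℤ, (c = 1 ∨ c = -1) ∧ x * y * x⁻¹ = y ^ ((2 : ℤ) ^ (m - 1) + c) := by
    obtain ⟨l, rfl⟩ : ∃ l, m = l + 2 := ⟨m - 2, by omega⟩
    have hodd : ¬ (2 : ℤ) ∣ (i : ℤ) - 1 → False := fun h => by
      have h2 : (2 : ℤ) ∣ ((i : ℤ) - 1) * ((i : ℤ) + 1) := (show (2 : ℤ) ∣ ((2 ^ (l + 2) : ℕ) : ℤ) by
        push_cast; exact dvd_pow_self 2 (by omega)).trans hz
      rcases Int.prime_two.dvd_or_dvd h2 with h' | h' <;> omega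
    obtain ⟨a, ha⟩ : (2 : ℤ) ∣ (i : ℤ) - 1 := by_contra hodd
    have h4 : ((i : ℤ) - 1) * ((i : ℤ) + 1) = 4 * (a * (a + 1)) := by
      rw [show (i : ℤ) + 1 = 2 * a + 2 by omega, ha]; ring
    have hl : (2 : ℤ) ^ l ∣ a * (a + 1) := by
      rw [h4] at hz; push_cast at hz
      rw [pow_add, mul_comm, show (2 : ℤ) ^ 2 = 4 by norm_num] at hz
      exact (mul_dvd_mul_iff_left (by norm_num)).mp hz
    have key : (2 : ℤ) ^ l ∣ a ∨ (2 : ℤ) ^ l ∣ a + 1 := by
      rcases Int.even_or_odd a with he | he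
      · left
        have : IsCoprime ((2 : ℤ) ^ l) (a + 1) :=
          (Int.prime_two.coprime_iff_not_dvd.mpr (by rw [← even_iff_two_dvd, Int.not_even_iff_odd]; exact he.add_one)).pow_left
        exact this.dvd_of_dvd_mul_right hl
      · right
        have : IsCoprime ((2 : ℤ) ^ l) a :=
          (Int.prime_two.coprime_iff_not_dvd.mpr (by rw [← even_iff_two_dvd, Int.not_even_iff_odd]; exact he)).pow_left
        exact this.dvd_of_dvd_mul_left hl
    rcases key with ⟨b, hb⟩ | ⟨b, hb⟩ <;> rcases Int.even_or_odd' b with ⟨e, rfl | rfl⟩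
    · refine Or.inr (Or.inl ?_)
      simpa using hyi 1 ⟨e, by rw [ha, hb]; push_cast; ring⟩
    · refine Or.inr (Or.inr ⟨1, Or.inl rfl, hyi _ ⟨e, ?_⟩⟩)
      rw [show (i : ℤ) = 2 * a + 1 by omega, hb, show l + 2 - 1 = l + 1 by omega]; push_cast; ring
    · left
      simpa using hyi (-1) ⟨e, by rw [show (i : ℤ) = 2 * (a + 1) - 1 by omega, hb]; push_cast; ring⟩
    · refine Or.inr (Or.inr ⟨-1, Or.inr rfl, hyi _ ⟨e, ?_⟩⟩)
      rw [show (i : ℤ) = 2 * (a + 1) - 1 by omega, hb, show l + 2 - 1 = l + 1 by omega]; push_cast; ring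
  have hdih : x * y * x⁻¹ = y⁻¹ → ∃ n : ℕ, Nonempty (S ≃* DihedralGroup n) := fun h => by
    refine ⟨2 ^ m, ⟨(MulEquiv.ofBijective (dihedralHom (n := 2 ^ m) y x (hym ▸ pow_orderOf_eq_one y) hxx h) ?_).symm⟩⟩
    rw [Nat.bijective_iff_injective_and_card]
    refine ⟨?_, by rw [DihedralGroup.nat_card, hk, pow_succ, mul_comm]⟩
    rw [injective_iff_map_eq_one]
    haveI : NeZero (2 ^ m) := ⟨(Nat.two_pow_pos m).ne'⟩
    intro g hg
    have hr : ∀ a : ZMod (2 ^ m), dihedralHom (n := 2 ^ m) y x (hym ▸ pow_orderOf_eq_one y) hxx h (.r a) = y ^ a.val := by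
      intro a
      conv_lhs => rw [← ZMod.natCast_zmod_val a, ← DihedralGroup.r_one_pow, map_pow, dihedralHom_r]
    rcases g with a | a
    · rw [hr, ← orderOf_dvd_iff_pow_eq_one, hym] at hg
      rw [DihedralGroup.one_def, (ZMod.val_eq_zero a).mp (Nat.eq_zero_of_dvd_of_lt hg a.val_lt)]
    · rw [show DihedralGroup.sr a = DihedralGroup.sr 0 * DihedralGroup.r a by rw [DihedralGroup.sr_mul_r, zero_add],
        map_mul, hr, dihedralHom_sr] at hg
      exact absurd (eq_inv_of_mul_eq_one_left hg ▸ Subgroup.inv_mem _ (Subgroup.npow_mem_zpowers y _)) hxy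
  have hcent : ∀ j : ℕ, x * y ^ j * x⁻¹ = y ^ j → orderOf (y ^ j) ∣ 4 := fun j h =>
    hsmall j (mul_inv_eq_iff_eq_mul.mp h)
  have hnc : x * y * x⁻¹ ≠ y := by
    intro h
    have hc : ∀ g ∈ Subgroup.zpowers y ⊔ Subgroup.zpowers x, g ∈ Subgroup.centralizer ({x} : Set S) := by
      refine fun g hg => (sup_le ?_ ?_ : _ ≤ Subgroup.centralizer ({x} : Set S)) hg <;>
        rw [Subgroup.zpowers_le, Subgroup.mem_centralizer_iff] <;> simp only [Set.mem_singleton_iff, forall_eq]
      exact mul_inv_eq_iff_eq_mul.mp h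
    have hlt : Subgroup.zpowers y < Subgroup.zpowers y ⊔ Subgroup.zpowers x :=
      lt_of_le_of_ne le_sup_left fun h' => hxy (h' ▸ Subgroup.mem_sup_right (Subgroup.mem_zpowers x))
    have := (card_lt_of_lt hlt).trans_le (Subgroup.card_le_of_le hc)
    rw [Nat.card_zpowers, hym, hC] at this
    have : 2 ^ 2 ≤ 2 ^ m := Nat.pow_le_pow_right (by norm_num) hm
    omega
  rcases hclass with h | h | ⟨c, hc, h⟩
  · exact Or.inl (hdih h)
  · exact absurd h hnc
  rcases eq_or_lt_of_le hm with hm2 | hm3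
  · subst hm2
    rcases hc with rfl | rfl
    · refine Or.inl (hdih (h.trans ?_))
      rw [← zpow_neg_one y, zpow_eq_zpow_iff_modEq, hym]; decide
    · refine absurd (h.trans ?_) hnc
      norm_num
  rcases hc with rfl | rfl
  · exfalso
    -- here the square would be fixed, and has order above two
    have h2 : x * y ^ 2 * x⁻¹ = y ^ 2 := by
      rw [← conj_pow, h, ← zpow_natCast, ← zpow_mul, ← zpow_natCast y, zpow_eq_zpow_iff_modEq, hym]
      refine (Int.modEq_iff_dvd.mpr ⟨1, ?_⟩).symm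
      push_cast
      rw [show m = m - 1 + 1 by omega, pow_succ]; simp; ring
    have hmem : y ^ 2 ∈ Subgroup.centralizer ({x} : Set S) := by
      rw [Subgroup.mem_centralizer_iff]; simpa using mul_inv_eq_iff_eq_mul.mp h2
    have hxm : x ∈ Subgroup.centralizer ({x} : Set S) := by
      rw [Subgroup.mem_centralizer_iff]; simp
    have hlt : Subgroup.zpowers (y ^ 2) < Subgroup.centralizer ({x} : Set S) :=
      lt_of_le_of_ne (Subgroup.zpowers_le.mpr hmem) fun e =>
        hxy ((Subgroup.zpowers_le.mpr (Subgroup.npow_mem_zpowers y 2)) (e ▸ hxm))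
    have h4 := card_lt_of_lt hlt
    rw [hC, Nat.card_zpowers, orderOf_pow_of_dvd (by norm_num) (hym ▸ dvd_pow_self 2 (by omega)), hym] at h4
    have : 2 ^ 3 ≤ 2 ^ m := Nat.pow_le_pow_right (by norm_num) hm3
    omega
  · refine Or.inr (Or.inl ⟨m, hm3, hk, y, x, hym, hx, ?_⟩)
    rw [h, ← zpow_natCast, Nat.cast_sub (Nat.one_le_two_pow)]
    push_cast
    rw [sub_eq_add_neg]

end Cfsg.Agent.S3224
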