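import Cfsg.Statements.S2261
-- import your own Cfsg.Agent.* helpers here

set_option autoImplicit false
open Cfsg

namespace Cfsg.Agent.S2261

/-- Let F be a finite field with q elements and d ≥ 1. Then every element of PGL_d(F) = GL_d(F)/Z has order at most (q^d − 1)/(q − 1), and some element (the image of a Singer cycle) has exactly this order. -/
theorem result {F : Type*} [Field F] [Fintype F] (d : ℕ) (hd : 1 ≤ d) :
    (∀ g : (GL (Fin d) F ⧸ Subgroup.center (GL (Fin d) F)), (Fintype.card F - 1) * orderOf g ≤ Fintype.card F ^ d - 1) ∧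
    (∃ g : (GL (Fin d) F ⧸ Subgroup.center (GL (Fin d) F)), (Fintype.card F - 1) * orderOf g = Fintype.card F ^ d - 1) := by
  classical
  haveI : Nonempty (Fin d) := ⟨⟨0, hd⟩⟩
  let Z := Subgroup.center (GL (Fin d) F)
  let π : GL (Fin d) F →* GL (Fin d) F ⧸ Z := QuotientGroup.mk' Z
  have hπ : ∀ (g : GL (Fin d) F) (k : ℕ), π g ^ k = 1 ↔ ∃ c : F, ((g : Matrix (Fin d) (Fin d) F)) ^ k = c • 1 := by
    intro g k
    rw [← map_pow]
    refine (QuotientGroup.eq_one_iff _).trans (Matrix.GeneralLinearGroup.mem_center_iff_val_mem_range_scalar.trans ?_)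
    rw [Units.val_pow_eq_pow_val]
    constructor
    · rintro ⟨c, hc⟩
      exact ⟨c, by rw [← hc, Matrix.scalar_apply, Matrix.smul_one_eq_diagonal]⟩
    · rintro ⟨c, hc⟩
      exact ⟨c, by rw [hc, Matrix.scalar_apply, Matrix.smul_one_eq_diagonal]⟩
  have upper : ∀ g : GL (Fin d) F, (Fintype.card F - 1) * orderOf (π g) ≤ Fintype.card F ^ d - 1 := by
    intro g
    set A : Matrix (Fin d) (Fin d) F := (g : Matrix (Fin d) (Fin d) F) with hA
    set n := orderOf (π g) with hn
    let P : Fin n × Fˣ → Polynomial F := fun x =>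
      Polynomial.C (x.2 : F) * Polynomial.X ^ (x.1 : ℕ) %ₘ A.charpoly
    have hP : ∀ x : Fin n × Fˣ, Polynomial.aeval A (P x) = (x.2 : F) • A ^ (x.1 : ℕ) := by
      intro x
      simp only [P]
      rw [Polynomial.modByMonic_eq_sub_mul_div, map_sub, map_mul, map_mul, Matrix.aeval_self_charpoly,
        zero_mul, sub_zero, Polynomial.aeval_C, map_pow, Polynomial.aeval_X, Algebra.smul_def]
    have hdeg : ∀ x : Fin n × Fˣ, ∀ i, d ≤ i → (P x).coeff i = 0 := by
      intro x i hi
      refine Polynomial.coeff_eq_zero_of_degree_lt (lt_of_lt_of_le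
        (Polynomial.degree_modByMonic_lt _ A.charpoly_monic) ?_)
      rw [A.charpoly_degree_eq_dim, Fintype.card_fin]
      exact_mod_cast hi
    let Φ : Fin n × Fˣ → (Finset.univ.erase (0 : Fin d → F) : Finset (Fin d → F)) := fun x =>
      ⟨fun i => (P x).coeff i, Finset.mem_erase.2 ⟨fun h => by
        have h0 : P x = 0 := by
          ext i
          rcases Nat.lt_or_ge i d with hi | hi
          · exact congrFun h ⟨i, hi⟩
          · rw [hdeg x i hi, Polynomial.coeff_zero]
        have h1 := hP x
        rw [h0, map_zero, eq_comm, smul_eq_zero] at h1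
        rcases h1 with h1 | h1
        · exact x.2.ne_zero h1
        · rw [hA, ← Units.val_pow_eq_pow_val] at h1
          exact (g ^ (x.1 : ℕ)).ne_zero h1, Finset.mem_univ _⟩⟩
    have hΦ : Function.Injective Φ := by
      intro x y h
      have e : P x = P y := by
        ext i
        rcases Nat.lt_or_ge i d with hi | hi
        · exact congrFun (congrArg Subtype.val h) ⟨i, hi⟩
        · rw [hdeg x i hi, hdeg y i hi]
      have e1 : (x.2 : F) • A ^ (x.1 : ℕ) = (y.2 : F) • A ^ (y.1 : ℕ) := by rw [← hP, ← hP, e]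
      have key : ∀ (c c' : Fˣ) (i j : ℕ), i ≤ j → j < n → (c : F) • A ^ i = (c' : F) • A ^ j → i = j := by
        intro c c' i j hij hj he
        have e2 : A ^ (j - i) = ((c' : F)⁻¹ * c) • 1 := by
          have hu : IsUnit (A ^ i) := by
            rw [hA, ← Units.val_pow_eq_pow_val]; exact (g ^ i).isUnit
          rw [show A ^ j = A ^ (j - i) * A ^ i by rw [← pow_add, Nat.sub_add_cancel hij]] at he
          refine hu.mul_left_inj.1 ?_
          rw [smul_mul_assoc, one_mul, mul_smul, he, smul_smul, inv_mul_cancel₀ c'.ne_zero, one_smul]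
        have h0 := (hπ g (j - i)).2 ⟨_, e2⟩
        have := orderOf_dvd_of_pow_eq_one h0
        rw [← hn] at this
        rcases Nat.eq_zero_or_pos (j - i) with h | h
        · omega
        · have := Nat.le_of_dvd h this; omega
      have hxy : (x.1 : ℕ) = y.1 := by
        rcases le_total (x.1 : ℕ) y.1 with h | h
        · exact key x.2 y.2 _ _ h y.1.2 e1
        · exact (key y.2 x.2 _ _ h x.1.2 e1.symm).symm
      rw [hxy] at e1
      have hne : A ^ (y.1 : ℕ) ≠ 0 := by
        rw [hA, ← Units.val_pow_eq_pow_val]; exact (g ^ (y.1 : ℕ)).ne_zero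
      exact Prod.ext (Fin.ext hxy) (Units.ext (smul_left_injective F hne e1))
    have h1 := Fintype.card_le_of_injective Φ hΦ
    rwa [Fintype.card_prod, Fintype.card_fin, Fintype.card_units, Fintype.card_coe,
      Finset.card_erase_of_mem (Finset.mem_univ _), Finset.card_univ, Fintype.card_fun, Fintype.card_fin,
      mul_comm] at h1
  refine ⟨fun g => ?_, ?_⟩
  · obtain ⟨g, rfl⟩ := QuotientGroup.mk'_surjective Z g
    exact upper g
  obtain ⟨p, hp⟩ := CharP.exists F
  haveI : Fact p.Prime := ⟨CharP.char_is_prime F p⟩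
  haveI : NeZero d := ⟨by omega⟩
  let K := FiniteField.Extension F p d
  haveI : Finite K := Module.finite_of_finite F
  let b : Module.Basis (Fin d) F K := Module.finBasisOfFinrankEq F K (FiniteField.finrank_extension F p d)
  obtain ⟨ω, hω⟩ := IsCyclic.exists_ofOrder_eq_natCard (α := Kˣ)
  let g : GL (Fin d) F := Units.map (Algebra.leftMulMatrix b).toMonoidHom ω
  refine ⟨π g, le_antisymm (upper g) (Nat.le_of_dvd ?_ ?_)⟩
  · exact Nat.mul_pos (by have := Fintype.one_lt_card (α := F); omega) (orderOf_pos _)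
  · obtain ⟨c, hc⟩ := (hπ g (orderOf (π g))).1 (pow_orderOf_eq_one _)
    have h1 : (ω : K) ^ orderOf (π g) = algebraMap F K c := by
      refine Algebra.leftMulMatrix_injective b ?_
      rw [map_pow, AlgHom.commutes, Algebra.algebraMap_eq_smul_one]
      exact hc
    have hc0 : c ≠ 0 := fun h => by
      rw [h, map_zero] at h1
      exact pow_ne_zero _ ω.ne_zero h1
    have h2 : ω ^ ((Fintype.card F - 1) * orderOf (π g)) = 1 := by
      refine Units.ext ?_
      rw [Units.val_pow_eq_pow_val, mul_comm, pow_mul, h1, ← map_pow, FiniteField.pow_card_sub_one_eq_one c hc0,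
        map_one, Units.val_one]
    have h3 := orderOf_dvd_of_pow_eq_one h2
    rwa [hω, Nat.card_units, FiniteField.natCard_extension, Nat.card_eq_fintype_card] at h3

end Cfsg.Agent.S2261
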