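import Cfsg.Statements.S5892
import Cfsg.Agent.Lib.Classical.DicksonSmallQ
-- import your own Cfsg.Agent.* helpers here

set_option autoImplicit false
open Cfsg

namespace Cfsg.Agent.S5892
open Cfsg.Agent.Dickson

/-- Let F be a finite field of odd order q ≥ 5 and characteristic p, and let M be a maximal subgroup of PSL₂(F). Then one of the following holds: |M| = q(q − 1)/2 (the stabiliser of a point of the projective line); q ≥ 13 and M is dihedral of order q − 1; q ∉ {7, 9} and M is dihedral of order q + 1; q = q₀² and M ≅ PGL₂(F₀) with |F₀| = q₀; q = q₀^r for an odd prime r and M ≅ PSL₂(F₀) with |F₀| = q₀; q ≡ ±1 (mod 10) with q = p or q = p², p ≡ ±3 (mod 10), and M ≅ A₅; q = p ≡ ±3 (mod 8), q ≢ ±1 (mod 10), and M ≅ A₄; or q = p ≡ ±1 (mod 8) and M ≅ S₄. -/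
theorem result {F : Type*} [Field F] [Fintype F] (p : ℕ)
    [Fact p.Prime] [CharP F p] (hodd : Odd (Fintype.card F)) (h5 : 5 ≤ Fintype.card F)
    (M : Subgroup (Matrix.ProjectiveSpecialLinearGroup (Fin 2) F)) (hM : IsCoatom M) :
    2 * Nat.card M = Fintype.card F * (Fintype.card F - 1) ∨
    (13 ≤ Fintype.card F ∧ (∃ k : ℕ, 2 * k = Fintype.card F - 1 ∧ Nonempty (M ≃* DihedralGroup k))) ∨
    (Fintype.card F ≠ 7 ∧ Fintype.card F ≠ 9 ∧ (∃ k : ℕ, 2 * k = Fintype.card F + 1 ∧ Nonempty (M ≃* DihedralGroup k))) ∨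
    (∃ (F₀ : Type) (_ : Field F₀) (_ : Fintype F₀), Fintype.card F = Fintype.card F₀ ^ 2 ∧
        Nonempty (M ≃* Matrix.ProjGenLinGroup (Fin 2) F₀)) ∨
    (∃ (F₀ : Type) (_ : Field F₀) (_ : Fintype F₀) (r : ℕ), r.Prime ∧ Odd r ∧ Fintype.card F = Fintype.card F₀ ^ r ∧
        Nonempty (M ≃* Matrix.ProjectiveSpecialLinearGroup (Fin 2) F₀)) ∨
    ((Fintype.card F % 10 = 1 ∨ Fintype.card F % 10 = 9) ∧
        (Fintype.card F = p ∨ (Fintype.card F = p ^ 2 ∧ (p % 10 = 3 ∨ p % 10 = 7))) ∧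
        Nonempty (M ≃* alternatingGroup (Fin 5))) ∨
    (Fintype.card F = p ∧ (p % 8 = 3 ∨ p % 8 = 5) ∧ ¬ (p % 10 = 1 ∨ p % 10 = 9) ∧
        Nonempty (M ≃* alternatingGroup (Fin 4))) ∨
    (Fintype.card F = p ∧ (p % 8 = 1 ∨ p % 8 = 7) ∧ Nonempty (M ≃* Equiv.Perm (Fin 4))) := by
  classical
  have hd : del F = 2 := by
    rcases del_cases F with ⟨-, he⟩ | ⟨hd, -⟩
    · exact absurd he (Nat.not_even_iff_odd.mpr hodd)
    · exact hd
  cases coatom_cases p (by omega) hM with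
  | torus a ha hap h =>
    obtain ⟨h1, ⟨i⟩⟩ := normalizer_tor p ha hap
    subst h
    obtain ⟨hs1, hs2⟩ := small_torus p hodd h5 ha hap hM
    obtain ⟨m, hm⟩ := hodd
    rcases card_tor_semi p ha hap with e | e <;> rw [hd] at e
    · exact Or.inr (Or.inl ⟨hs1 (by omega), Nat.card (tor a), by omega, ⟨i⟩⟩)
    · exact Or.inr (Or.inr (Or.inl ⟨(hs2 (by omega)).1, (hs2 (by omega)).2, Nat.card (tor a), by omega, ⟨i⟩⟩))
  | borel a ha hap h =>
    subst h
    refine Or.inl ?_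
    rw [← card_borel p ha hap, hd, mul_comm]
  | alt4 hq h8 h10 iso => exact Or.inr (Or.inr (Or.inr (Or.inr (Or.inr (Or.inr (Or.inl ⟨hq, h8, h10, iso⟩))))))
  | perm4 hq h8 iso => exact Or.inr (Or.inr (Or.inr (Or.inr (Or.inr (Or.inr (Or.inr ⟨hq, h8, iso⟩))))))
  | alt5 hq h10 iso => exact Or.inr (Or.inr (Or.inr (Or.inr (Or.inr (Or.inl ⟨h10, hq, iso⟩)))))
  | subfield L r x hr hc h3 h =>
    subst h
    haveI : Fintype L := Fintype.ofFinite L
    obtain ⟨K, iK, iK', ⟨e⟩⟩ := exists_type_model L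
    have hcard : Fintype.card F = Fintype.card K ^ r := by
      rw [← hc, ← Nat.card_eq_fintype_card (α := K), Nat.card_congr e.toEquiv]
    rcases hr.eq_two_or_odd' with h2 | ho
    · obtain ⟨i⟩ := (nonempty_sfOver hr hc x).1 (Or.inl h2)
      obtain ⟨c⟩ := nonempty_pgl_congr e
      exact Or.inr (Or.inr (Or.inr (Or.inl ⟨K, iK, iK', h2 ▸ hcard, ⟨i.trans c.symm⟩⟩)))
    · obtain ⟨i⟩ := (nonempty_sfOver hr hc x).2 (Or.inl ho)
      obtain ⟨c⟩ := nonempty_psl_congr e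
      exact Or.inr (Or.inr (Or.inr (Or.inr (Or.inl ⟨K, iK, iK', r, hr, ho, hcard, ⟨i.trans c.symm⟩⟩))))

end Cfsg.Agent.S5892
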