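import Cfsg.Statements.S1625
import Cfsg.Agent.Lib.Spor.Cos.J3.Cover
import Cfsg.Agent.Lib.Spor.Cos.J3.Transfer

set_option autoImplicit false
open scoped MatrixGroups
open Cfsg

open Cfsg.Agent.Spor.Cos Cfsg.Agent.Spor.Cos.J3

namespace Cfsg.Agent.S1625

/-- The matrix group over the field with 4 elements generated by the 9×9 matrices of the definitions (ω a root of ω² + ω + 1) has order 150698880 and centre of order 3; its central quotient is simple of order 50232960 = 2^7·3^5·5·17·19. -/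
theorem result (F : Type) [Field F] [Fintype F] (hF : Fintype.card F = 4) (ω : F) (hω : ω ^ 2 + ω + 1 = 0) : Nat.card ↥(Subgroup.center ↥(Cfsg.Spor.threeJ3 F ω)) = 3 ∧ Nat.card ↥(Cfsg.Spor.threeJ3 F ω) = 150698880 ∧ Nat.card (Cfsg.Spor.J3 F ω) = 50232960 ∧ IsSimpleGroup (Cfsg.Spor.J3 F ω) := by
  obtain ⟨φ, -, ⟨e⟩⟩ := exists_transfer hF ω hω
  refine ⟨(Nat.card_congr (Subgroup.centerCongr e).toEquiv).symm.trans card_center_U9,
    (Nat.card_congr e.toEquiv).symm.trans card_U9, ?_⟩
  have hmap : (Subgroup.center U9).map e.toMonoidHom = Subgroup.center ↥(Cfsg.Spor.threeJ3 F ω) := by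
    ext x
    simp only [Subgroup.mem_map, MulEquiv.coe_toMonoidHom, Subgroup.mem_center_iff]
    constructor
    · rintro ⟨u, hu, rfl⟩ y
      obtain ⟨v, rfl⟩ := e.surjective y
      rw [← map_mul, ← map_mul, hu v]
    · intro hx
      refine ⟨e.symm x, fun v => e.injective ?_, e.apply_symm_apply x⟩
      rw [map_mul, map_mul, e.apply_symm_apply]
      exact hx (e v)
  let q : Cfsg.Spor.J3 F4 F4.w ≃* Cfsg.Spor.J3 F ω := QuotientGroup.congr _ _ e hmap
  have := isSimple_J3
  have : Nontrivial (Cfsg.Spor.J3 F ω) := q.toEquiv.symm.nontrivial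
  exact ⟨(Nat.card_congr q.toEquiv).symm.trans card_J3,
    IsSimpleGroup.isSimpleGroup_of_surjective q.toMonoidHom q.surjective⟩

end Cfsg.Agent.S1625
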