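import Cfsg.Statements.S3021
import Mathlib
import Cfsg.Agent.Lib.Invol.Closed
-- import your own Cfsg.Agent.* helpers here

set_option autoImplicit false
open Cfsg

namespace Cfsg.Agent.S3021

/-- Let G be a finite group, p a prime and H a p-subgroup of G that is extremely closed (for every g, the subgroup generated by H and g H g⁻¹ meets N_G(H) exactly in H). Then every p-subgroup Q of G containing H has N_G(Q) ≤ N_G(H); in particular every Sylow p-subgroup P of G containing H normalizes H, and H is strongly closed in P with respect to G. -/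
theorem result {G : Type*} [Group G] [Finite G] {p : ℕ} [Fact p.Prime] (H : Subgroup G) (hHp : IsPGroup p H) (hcl : Cfsg.IsExtremelyClosed H) : (∀ Q : Subgroup G, IsPGroup p Q → H ≤ Q → Subgroup.normalizer (Q : Set G) ≤ Subgroup.normalizer (H : Set G)) ∧ ∀ P : Sylow p G, H ≤ (P : Subgroup G) → (P : Subgroup G) ≤ Subgroup.normalizer (H : Set G) ∧ Cfsg.IsStronglyClosed H (P : Subgroup G) := by
  have key : ∀ Q : Subgroup G, IsPGroup p Q → H ≤ Q →
      Subgroup.normalizer (Q : Set G) ≤ Subgroup.normalizer (H : Set G) := by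
    intro Q hQ hHQ g hg
    set H' := H.map (MulAut.conj g).toMonoidHom with hH'
    have hH'Q : H' ≤ Q := by
      rintro _ ⟨x, hx, rfl⟩
      exact (Subgroup.mem_normalizer_iff.mp hg x).mp (hHQ hx)
    set L := H ⊔ H' with hL
    have := (hQ.to_le (sup_le hHQ hH'Q)).isNilpotent
    have htop : H.subgroupOf L = ⊤ := by
      by_contra hne
      obtain ⟨n, hn, hnH⟩ := SetLike.exists_of_lt
        (Group.normalizerCondition_of_isNilpotent (G := L) (H.subgroupOf L) (lt_top_iff_ne_top.mpr hne))
      refine hnH ?_
      have hnG : (n : G) ∈ Subgroup.normalizer (H : Set G) := by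
        rw [Subgroup.mem_normalizer_iff]
        intro x
        constructor
        · intro hx
          exact (Subgroup.mem_normalizer_iff.mp hn ⟨x, le_sup_left (a := H) (b := H') hx⟩).mp hx
        · intro hx
          have hxL : x ∈ L := by
            have := mul_mem (mul_mem (inv_mem n.2) (le_sup_left (a := H) (b := H') hx)) n.2
            simpa [mul_assoc] using this
          exact (Subgroup.mem_normalizer_iff.mp hn ⟨x, hxL⟩).mpr hx
      have h2 : (n : G) ∈ L ⊓ Subgroup.normalizer (H : Set G) := ⟨n.2, hnG⟩
      rw [hcl g] at h2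
      exact h2
    rw [Subgroup.subgroupOf_eq_top] at htop
    exact Invol.mem_normalizer_of_map_eq (Subgroup.eq_of_le_of_card_ge (le_sup_right.trans htop)
      (Subgroup.card_map_of_injective (MulAut.conj g).injective).ge)
  refine ⟨key, fun P hHP => ?_⟩
  have hPN : (P : Subgroup G) ≤ Subgroup.normalizer (H : Set G) :=
    Subgroup.le_normalizer.trans (key P P.isPGroup' hHP)
  refine ⟨hPN, hHP, fun x hx g hg => ?_⟩
  have : g * x * g⁻¹ ∈ (H ⊔ H.map (MulAut.conj g).toMonoidHom) ⊓ Subgroup.normalizer (H : Set G) :=
    ⟨Subgroup.mem_sup_right (Invol.conj_mem_map_conj hx), hPN hg⟩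
  rwa [hcl g] at this

end Cfsg.Agent.S3021
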