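import Cfsg.Statements.S3020
import Cfsg.Agent.Lib.Grp.Cores

set_option autoImplicit false
open Cfsg

namespace Cfsg.Agent.S3020

/-- Let G be a finite group, p a prime and H an abelian p-subgroup of G that is extremely closed (for every g, the subgroup generated by H and g H g⁻¹ meets N_G(H) exactly in H). Then for every g ∈ G, the subgroup T generated by H and g H g⁻¹ is the product of H with O_{p'}(T), and H meets O_{p'}(T) trivially; that is, O_{p'}(T) is a normal p-complement of H in T. -/
theorem result {G : Type*} [Group G] [Finite G] {p : ℕ} [Fact p.Prime] (H : Subgroup G) (hHp : IsPGroup p H) (hHab : IsMulCommutative H) (hcl : Cfsg.IsExtremelyClosed H) (g : G) (T : Subgroup G) (hT : T = H ⊔ H.map (MulAut.conj g).toMonoidHom) : H ⊔ (Cfsg.pPrimeCore p ↥T).map T.subtype = T ∧ H ⊓ (Cfsg.pPrimeCore p ↥T).map T.subtype = ⊥ := by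
  subst hT
  set T := H ⊔ H.map (MulAut.conj g).toMonoidHom with hT
  have hHT : H ≤ T := le_sup_left
  have hN : Subgroup.normalizer (H.subgroupOf T : Set T) ≤ H.subgroupOf T := by
    intro x hx
    have h1 : (x : G) ∈ T ⊓ Subgroup.normalizer (H : Set G) := by
      refine ⟨x.2, Subgroup.mem_normalizer_iff.2 fun h => ?_⟩
      constructor
      · intro hh
        exact (Subgroup.mem_normalizer_iff.1 hx ⟨h, hHT hh⟩).1 hh
      · intro hh
        have hh' : h ∈ T := by
          have := T.mul_mem (T.mul_mem (T.inv_mem x.2) (hHT hh)) x.2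
          simpa [mul_assoc] using this
        exact (Subgroup.mem_normalizer_iff.1 hx ⟨h, hh'⟩).2 hh
    rw [hcl g] at h1
    exact h1
  obtain ⟨P, hP⟩ := (hHp.comap_subtype (K := T)).exists_le_sylow
  have hPeq : H.subgroupOf T = P := by
    by_contra hne
    have hlt : H.subgroupOf T < P := lt_of_le_of_ne hP hne
    have := P.isPGroup'.isNilpotent
    have h2 := Group.normalizerCondition_of_isNilpotent (G := P) ((H.subgroupOf T).subgroupOf P)
      (lt_top_iff_ne_top.2 fun h => hne (le_antisymm hP (Subgroup.subgroupOf_eq_top.1 h)))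
    obtain ⟨x, hx, hxn⟩ := SetLike.exists_of_lt h2
    refine hxn (hN (Subgroup.mem_normalizer_iff.2 fun h => ?_))
    constructor
    · intro hh
      exact (Subgroup.mem_normalizer_iff.1 hx ⟨h, hP hh⟩).1 hh
    · intro hh
      have hh' : h ∈ (P : Subgroup T) := by
        have := (P : Subgroup T).mul_mem ((P : Subgroup T).mul_mem ((P : Subgroup T).inv_mem x.2) (hP hh)) x.2
        simpa [mul_assoc] using this
      exact (Subgroup.mem_normalizer_iff.1 hx ⟨h, hh'⟩).2 hh
  have hPc : Subgroup.normalizer (P : Set T) ≤ Subgroup.centralizer (P : Set T) := by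
    have hs : (P : Set T) = (H.subgroupOf T : Set T) := by rw [hPeq]; rfl
    rw [hs]
    refine hN.trans fun x hx => Subgroup.mem_centralizer_iff.2 fun y hy => Subtype.ext ?_
    exact congrArg (fun z : H => (z : G)) (hHab.is_comm.comm ⟨(y : G), hy⟩ ⟨(x : G), hx⟩)
  set N := (MonoidHom.transferSylow P hPc).ker
  have hcompl := MonoidHom.ker_transferSylow_isComplement' P hPc
  have hNle : N ≤ Cfsg.pPrimeCore p T := Cfsg.Agent.Grp.le_pPrimeCore (MonoidHom.normal_ker _)
    ((Nat.Prime.coprime_iff_not_dvd Fact.out).2 (MonoidHom.not_dvd_card_ker_transferSylow P hPc)).symm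
  have hHm : H = (H.subgroupOf T).map T.subtype := (Subgroup.map_subgroupOf_eq_of_le hHT).symm
  constructor
  · refine le_antisymm (sup_le hHT (Subgroup.map_subtype_le _)) ?_
    calc T = (N ⊔ (P : Subgroup T)).map T.subtype := by
          rw [hcompl.sup_eq_top, ← MonoidHom.range_eq_map, Subgroup.range_subtype]
      _ ≤ _ := by
          rw [Subgroup.map_sup, sup_comm, ← hPeq, ← hHm]
          exact sup_le_sup le_rfl (Subgroup.map_mono hNle)
  · rw [eq_bot_iff]
    rintro x ⟨hx, y, hy, rfl⟩
    have h1 : y ∈ H.subgroupOf T ⊓ Cfsg.pPrimeCore p T := ⟨hx, hy⟩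
    rw [Subgroup.mem_bot]
    obtain ⟨k, hk⟩ := (hHp.comap_subtype (K := T)) ⟨y, hx⟩
    have hk' : y ^ p ^ k = 1 := congrArg Subtype.val hk
    have hd : orderOf y ∣ p ^ k := orderOf_dvd_of_pow_eq_one hk'
    have hd2 : orderOf y ∣ Nat.card (Cfsg.pPrimeCore p T) := by
      rw [← Subgroup.orderOf_mk y hy]; exact orderOf_dvd_natCard _
    have hco : (p ^ k).Coprime (Nat.card (Cfsg.pPrimeCore p T)) :=
      Nat.Coprime.pow_left k ((Nat.Prime.coprime_iff_not_dvd Fact.out).2 Cfsg.Agent.Grp.pPrimeCore_not_dvd)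
    rw [orderOf_eq_one_iff.1 (Nat.eq_one_of_dvd_coprimes hco hd hd2)]
    rfl

end Cfsg.Agent.S3020
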