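import Cfsg.Statements.S3300
import Mathlib
import Cfsg.Agent.Lib.Invol.ExtraTransfer
import Cfsg.Agent.Lib.Grp.Frattini
import Cfsg.Agent.Lib.Grp.Cores
-- import your own Cfsg.Agent.* helpers here

set_option autoImplicit false
open Cfsg

namespace Cfsg.Agent.S3300

variable {G : Type*} [Group G]

open scoped commutatorElement
open Cfsg.Agent.Invol.ExtraTransfer Cfsg.Agent.Transfer.HallWielandt

theorem mem_stab_iff {H E : Subgroup G} {r : G ⧸ H} {k : E} :
    k ∈ MulAction.stabilizer E r ↔ (k : G) • r = r := Iff.rfl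

theorem comm_z_iff [Finite G] {z : G} {H E : Subgroup G} (hH : H = Subgroup.centralizer ({z} : Set G)) (r : G ⧸ H) (k : G) :
    k • r = r ↔ k * (r.out * z * r.out⁻¹) = (r.out * z * r.out⁻¹) * k := by
  rw [smul_eq_iff]
  subst hH
  rw [Subgroup.mem_centralizer_singleton_iff]
  constructor <;> intro h
  · have := congrArg (fun t => r.out * t * r.out⁻¹) h
    simpa [mul_assoc] using this
  · have := congrArg (fun t => r.out⁻¹ * t * r.out) h
    simpa [mul_assoc] using this

theorem inv_mul_comm_of {a b k c : G} (ha : a * k = c * (k * a)) (hb : b * k = c * (k * b)) :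
    a⁻¹ * b * k = k * (a⁻¹ * b) := by
  have h1 : c * k = a * k * a⁻¹ := by rw [ha]; group
  calc a⁻¹ * b * k = a⁻¹ * ((c * k) * b) := by rw [mul_assoc a⁻¹, hb, mul_assoc c]
    _ = k * (a⁻¹ * b) := by rw [h1]; group

theorem index_two_absurd [Finite G] {z : G} {H E : Subgroup G} (S : Setting z H E) (hz1 : z ≠ 1)
    (hH : H = Subgroup.centralizer ({z} : Set G))
    (hCE : ∀ g : G, (∀ e ∈ E, g * e = e * g) → g ∈ E)
    (hnf : ∀ g : G, g * z * g⁻¹ ∈ E → g * z * g⁻¹ = z) (h128 : 128 ≤ Nat.card E)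
    (r : G ⧸ H) (hr : r ≠ ((1 : G) : G ⧸ H)) (hzr : z • r = r) (hi : (MulAction.stabilizer E r).index = 2) : False := by
  classical
  set g := r.out
  set z' := g * z * g⁻¹ with hz'def
  have hfix : ∀ k : G, k • r = r ↔ k * z' = z' * k := comm_z_iff (E := E) hH r
  have hgH : ∀ x : G, x * z * x⁻¹ = z → x ∈ H := fun x hx => by
    rw [hH, Subgroup.mem_centralizer_singleton_iff]; exact mul_inv_eq_iff_eq_mul.mp hx
  have hne : z' ≠ z := fun h => hr (by
    rw [← QuotientGroup.out_eq' r, QuotientGroup.eq, mul_one]; exact inv_mem (hgH g h))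
  have hz'E : z' ∉ E := fun h => hne (hnf g h)
  have hz'z' : z' * z' = 1 := by rw [hz'def, conj_mul, S.zz, mul_one, mul_inv_cancel]
  have hz'1 : z' ≠ 1 := fun h => hz1 (conj_eq_one_iff.mp h)
  have hz'H : z' ∈ H := by rw [hH, Subgroup.mem_centralizer_singleton_iff]; exact ((hfix z).mp hzr).symm
  -- membership in the conjugate of `E`
  let inE' : G → Prop := fun x => g⁻¹ * x * g ∈ E
  have hzE' : ¬ inE' z := fun h => by
    have h' : g⁻¹ * z * g⁻¹⁻¹ ∈ E := by rwa [inv_inv]
    have h2 := hnf g⁻¹ h'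
    refine hne ?_
    rw [inv_inv] at h2
    calc z' = g * (g⁻¹ * z * g) * g⁻¹ := by rw [h2]
      _ = z := by group
  have hE'sq : ∀ x, inE' x → x * x = 1 ∨ x * x = z' := fun x hx => by
    have e : x * x = g * ((g⁻¹ * x * g) * (g⁻¹ * x * g)) * g⁻¹ := by group
    rcases S.sq _ hx with h | h
    · left; rw [e, h, mul_one, mul_inv_cancel]
    · right; rw [e, h]
  have hE'z' : ∀ x, inE' x → x * z' = z' * x := fun x hx => by
    have h := S.central _ (S.le hx)
    calc x * z' = g * ((g⁻¹ * x * g) * z) * g⁻¹ := by rw [hz'def]; group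
      _ = z' * x := by rw [h, hz'def]; group
  have hE'conj : ∀ k : G, k * z' = z' * k → ∀ x, inE' x → inE' (k * x * k⁻¹) := by
    intro k hk x hx
    have hc : g⁻¹ * k * g ∈ H := hgH _ (by
      calc g⁻¹ * k * g * z * (g⁻¹ * k * g)⁻¹ = g⁻¹ * (k * z' * k⁻¹) * g := by rw [hz'def]; group
        _ = g⁻¹ * z' * g := by rw [hk, mul_inv_cancel_right]
        _ = z := by rw [hz'def]; group)
    show g⁻¹ * (k * x * k⁻¹) * g ∈ E
    have := S.normal _ hc _ hx
    rwa [show g⁻¹ * k * g * (g⁻¹ * x * g) * (g⁻¹ * k * g)⁻¹ = g⁻¹ * (k * x * k⁻¹) * g by group] at this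
  have hmulE' : ∀ x y, inE' x → inE' y → inE' (x * y) := fun x y hx hy => by
    show g⁻¹ * (x * y) * g ∈ E
    rw [show g⁻¹ * (x * y) * g = (g⁻¹ * x * g) * (g⁻¹ * y * g) by group]
    exact E.mul_mem hx hy
  have hinvE' : ∀ x, inE' x → inE' x⁻¹ := fun x hx => by
    show g⁻¹ * x⁻¹ * g ∈ E
    rw [show g⁻¹ * x⁻¹ * g = (g⁻¹ * x * g)⁻¹ by group]
    exact E.inv_mem hx
  set St := MulAction.stabilizer E r
  have hSt : ∀ k : E, k ∈ St ↔ (k : G) * z' = z' * k := fun k => hfix k
  obtain ⟨y, hy⟩ : ∃ y : E, y ∉ St := by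
    by_contra h
    push Not at h
    rw [(Subgroup.eq_top_iff' St).mpr h, Subgroup.index_top] at hi
    omega
  have hyiff : ∀ k : E, k ∉ St → y * k ∈ St := fun k hk => (Subgroup.mul_mem_iff_of_index_two hi).mpr (iff_of_false hy hk)
  -- an element centralizing `St` and `y` centralizes `E`
  have hgen : ∀ x : G, (∀ k : E, k ∈ St → x * k = k * x) → x * y = y * x → ∀ e ∈ E, x * e = e * x := by
    intro x hx hxy e he
    by_cases hm : (⟨e, he⟩ : E) ∈ St
    · exact hx _ hm
    · have h1 := hx _ (hyiff _ hm)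
      simp only [Subgroup.coe_mul] at h1
      rw [← mul_assoc, hxy, mul_assoc, mul_assoc] at h1
      exact mul_left_cancel h1
  have hD : ∀ d ∈ E, inE' d → d = 1 := by
    intro d hd hd'
    have hdSt : (⟨d, hd⟩ : E) ∈ St := (hSt _).mpr (hE'z' d hd')
    have hc : ∀ k : E, k ∈ St → d * k = k * d := by
      intro k hk
      rcases S.comm d hd k k.2 with h | h
      · exact h
      · refine absurd ?_ hzE'
        have := hmulE' _ _ hd' (hE'conj k ((hSt k).mp hk) _ (hinvE' d hd'))
        rwa [show d * ((k : G) * d⁻¹ * (k : G)⁻¹) = (d * k) * ((k : G) * d)⁻¹ by group, h, mul_inv_cancel_right] at this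
    by_cases hdy : d * y = y * d
    · rcases S.cen d hd (hgen d hc hdy) with h | h
      · exact h
      · exact absurd (h ▸ hd') hzE'
    exfalso
    have hdd : d * d = 1 := by
      rcases S.sq d hd with h | h
      · exact h
      · exact absurd (h ▸ hmulE' _ _ hd' hd') hzE'
    have hdy' := (S.comm d hd y y.2).resolve_left hdy
    -- the action of `z'` on `y`
    set a := (y : G)⁻¹ * (z' * y * z'⁻¹) with hadef
    have haE : a ∈ E := E.mul_mem (E.inv_mem y.2) (S.normal _ hz'H _ y.2)
    have hac : ∀ k : E, k ∈ St → a * k = k * a := by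
      intro k hk
      have hkz := (hSt k).mp hk
      have hzk : z' * (k : G) * z'⁻¹ = k := by rw [← hkz, mul_inv_cancel_right]
      have hconj : ∀ c : G, z' * c * z'⁻¹ = c → (y : G) * k = c * (k * y) →
          z' * (y : G) * z'⁻¹ * k = c * (k * (z' * (y : G) * z'⁻¹)) := fun c hc h => by
        calc z' * (y : G) * z'⁻¹ * k = z' * (y : G) * z'⁻¹ * (z' * k * z'⁻¹) := by rw [hzk]
          _ = z' * ((y : G) * k) * z'⁻¹ := by group
          _ = (z' * c * z'⁻¹) * ((z' * k * z'⁻¹) * (z' * (y : G) * z'⁻¹)) := by rw [h]; group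
          _ = c * (k * (z' * (y : G) * z'⁻¹)) := by rw [hc, hzk]
      rw [hadef]
      rcases S.comm y y.2 k k.2 with h | h
      · exact inv_mul_comm_of (c := 1) (by rw [one_mul, h]) (hconj 1 (by group) (by rw [one_mul, h]))
      · exact inv_mul_comm_of h (hconj z (by rw [S.central _ hz'H, mul_inv_cancel_right]) h)
    have hay : z' * (y : G) * z'⁻¹ = y * a := by rw [hadef, mul_inv_cancel_left]
    have hsqy : z' * ((y : G) * y) * z'⁻¹ = y * y := by
      rcases S.sq y y.2 with h | h
      · rw [h, mul_one, mul_inv_cancel]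
      · rw [h, S.central _ hz'H, mul_inv_cancel_right]
    have hcases : a = 1 ∨ a = z ∨ a = d ∨ a = z * d := by
      by_cases hay' : a * y = y * a
      · exact (S.cen a haE (hgen a hac hay')).imp id Or.inl
      · have hay'' := (S.comm a haE y y.2).resolve_left hay'
        have hadc : ∀ k : E, k ∈ St → (a * d) * k = k * (a * d) := fun k hk => by
          rw [mul_assoc, hc k hk, ← mul_assoc, hac k hk, mul_assoc]
        have hady : (a * d) * y = y * (a * d) := by
          calc (a * d) * y = a * (z * (y * d)) := by rw [mul_assoc, hdy']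
            _ = z * (a * y) * d := by rw [← mul_assoc, S.central _ (S.le haE)]; simp only [mul_assoc]
            _ = y * (a * d) := by rw [hay'', ← mul_assoc z z, S.zz, one_mul, mul_assoc]
        rcases S.cen _ (E.mul_mem haE hd) (hgen _ hadc hady) with h | h
        · right; right; left
          rw [mul_eq_one_iff_eq_inv.mp h, inv_eq_of_mul_eq_one_right hdd]
        · right; right; right
          calc a = a * (d * d) := by rw [hdd, mul_one]
            _ = z * d := by rw [← mul_assoc, h]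
    have hz'k : ∀ k : E, k ∈ St → z' * k = k * z' := fun k hk => ((hSt k).mp hk).symm
    rcases hcases with h | h | h | h
    · refine hz'E (hCE z' (hgen z' hz'k ?_))
      rw [h, mul_one] at hay
      exact mul_inv_eq_iff_eq_mul.mp hay
    · refine hz'E ?_
      have hkey : z' * d ∈ E := hCE _ (hgen _ (fun k hk => by rw [mul_assoc, hc k hk, ← mul_assoc, hz'k k hk, mul_assoc]) (by
        calc z' * d * y = z' * (z * (y * d)) := by rw [mul_assoc, hdy']
          _ = z * (z' * y) * d := by rw [← mul_assoc z', S.central _ hz'H]; simp only [mul_assoc]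
          _ = z * ((y : G) * z) * z' * d := by rw [mul_inv_eq_iff_eq_mul.mp hay, h]; simp only [mul_assoc]
          _ = y * (z' * d) := by
            rw [S.central _ (S.le y.2), ← mul_assoc z z, S.zz, one_mul, mul_assoc]))
      exact (E.mul_mem_cancel_right hd).mp hkey
    all_goals
      have hyaya : (y : G) * a * (y * a) = y * y := by
        rw [← hay, ← hsqy]; group
      have hya : (y : G) * a = z * (a * y) := by
        rw [h]
        first
          | rw [hdy', ← mul_assoc z z, S.zz, one_mul]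
          | rw [← mul_assoc, S.central _ (S.le y.2), mul_assoc z d, hdy', mul_assoc, ← mul_assoc z z, S.zz, one_mul]
      have haa : a * a = 1 := by
        rw [h]
        first
          | exact hdd
          | rw [mul_assoc, ← mul_assoc d z, S.central _ (S.le hd), mul_assoc z d d, hdd, mul_one, S.zz]
      refine hz1 ?_
      have hw : (y : G) * a * (y * a) = y * (y * z) := by
        calc (y : G) * a * (y * a) = y * (a * y) * a := by simp only [mul_assoc]
          _ = y * (z * (y * a)) * a := by rw [hya, ← mul_assoc z z, S.zz, one_mul]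
          _ = y * (z * y) * (a * a) := by simp only [mul_assoc]
          _ = y * (y * z) := by rw [haa, mul_one, S.central _ (S.le y.2)]
      rw [hw] at hyaya
      exact mul_eq_left.mp (mul_left_cancel hyaya)
  -- `E ∩ C(z)`-part of the conjugate centralizes `St`
  have hE1 : ∀ x, inE' x → x ∈ H → ∀ k : E, k ∈ St → x * k = k * x := by
    intro x hx hxH k hk
    have h1 : x * k * x⁻¹ * (k : G)⁻¹ ∈ E := E.mul_mem (S.normal x hxH k k.2) (E.inv_mem k.2)
    have h2 : inE' (x * k * x⁻¹ * (k : G)⁻¹) := by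
      have := hmulE' _ _ hx (hE'conj k ((hSt k).mp hk) _ (hinvE' x hx))
      rwa [show x * ((k : G) * x⁻¹ * (k : G)⁻¹) = x * k * x⁻¹ * (k : G)⁻¹ by group] at this
    exact mul_inv_eq_iff_eq_mul.mp (mul_inv_eq_one.mp (hD _ h1 h2))
  -- count
  have h8 : Nat.card {x : G // inE' x ∧ x ∈ H} ≤ 4 := by
    let T : E → Prop := fun a => ∀ k : E, k ∈ St → (a : G) * k = k * a
    have hT : Nat.card {a : E // T a} ≤ 4 := by
      by_cases hall : ∀ a : {a : E // T a}, ((a : E) : G) * y = y * (a : E)
      · have hsub : ∀ a : {a : E // T a}, ((a : E) : G) ∈ ({1, z} : Finset G) := fun a => by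
          simpa using S.cen _ (a : E).2 (hgen _ a.2 (hall a))
        refine (Nat.card_le_card_of_injective (fun a => (⟨_, hsub a⟩ : ({1, z} : Finset G)))
          fun a b h => Subtype.ext (Subtype.ext (Subtype.mk.inj h))).trans ?_
        rw [Nat.card_eq_finsetCard]
        exact Finset.card_le_two.trans (by norm_num)
      · push Not at hall
        obtain ⟨b, hb⟩ := hall
        have hsub : ∀ a : {a : E // T a}, ((a : E) : G) ∈ ({1, z, ((b : E) : G)⁻¹, z * ((b : E) : G)⁻¹} : Finset G) := fun a => by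
          by_cases hau : ((a : E) : G) * y = y * (a : E)
          · rcases S.cen _ (a : E).2 (hgen _ a.2 hau) with h | h <;> simp [h]
          · have h1 := (S.comm _ (a : E).2 _ y.2).resolve_left hau
            have h2 := (S.comm _ (b : E).2 _ y.2).resolve_left hb
            have h3 : ((a : E) : G) * (b : E) * y = y * (((a : E) : G) * (b : E)) := by
              calc ((a : E) : G) * (b : E) * y = ((a : E) : G) * (z * ((y : G) * (b : E))) := by rw [mul_assoc, h2]
                _ = z * (((a : E) : G) * y) * (b : E) := by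
                  rw [← mul_assoc, S.central _ (S.le (a : E).2)]; simp only [mul_assoc]
                _ = (y : G) * (((a : E) : G) * (b : E)) := by rw [h1, ← mul_assoc z z, S.zz, one_mul, mul_assoc]
            have h4 : ∀ k : E, k ∈ St → ((a : E) : G) * (b : E) * k = k * (((a : E) : G) * (b : E)) := fun k hk => by
              rw [mul_assoc, b.2 k hk, ← mul_assoc, a.2 k hk, mul_assoc]
            rcases S.cen _ (E.mul_mem (a : E).2 (b : E).2) (hgen _ h4 h3) with h | h
            · rw [mul_eq_one_iff_eq_inv] at h; simp [h]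
            · rw [← eq_mul_inv_iff_mul_eq] at h; simp [h]
        refine (Nat.card_le_card_of_injective (fun a => (⟨_, hsub a⟩ :
          ({1, z, ((b : E) : G)⁻¹, z * ((b : E) : G)⁻¹} : Finset G)))
          fun a b h => Subtype.ext (Subtype.ext (Subtype.mk.inj h))).trans ?_
        rw [Nat.card_eq_finsetCard]
        exact Finset.card_le_four
    refine le_trans (Nat.card_le_card_of_injective (fun x : {x : G // inE' x ∧ x ∈ H} =>
      (⟨⟨(y : G)⁻¹ * (x.1 * y * x.1⁻¹), E.mul_mem (E.inv_mem y.2) (S.normal _ x.2.2 _ y.2)⟩, fun k hk => ?_⟩ :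
        {a : E // T a})) ?_) hT
    · have hxk := hE1 _ x.2.1 x.2.2 k hk
      have hyk := S.comm y y.2 k k.2
      show (y : G)⁻¹ * (x.1 * y * x.1⁻¹) * k = k * ((y : G)⁻¹ * (x.1 * y * x.1⁻¹))
      have hconj : ∀ c : G, x.1 * c * x.1⁻¹ = c → (y : G) * k = c * (k * y) →
          x.1 * (y : G) * x.1⁻¹ * k = c * (k * (x.1 * (y : G) * x.1⁻¹)) := fun c hc h => by
        have hxk' : x.1 * (k : G) * x.1⁻¹ = k := by rw [hxk, mul_inv_cancel_right]
        calc x.1 * (y : G) * x.1⁻¹ * k = x.1 * (y : G) * x.1⁻¹ * (x.1 * k * x.1⁻¹) := by rw [hxk']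
          _ = x.1 * ((y : G) * k) * x.1⁻¹ := by group
          _ = (x.1 * c * x.1⁻¹) * ((x.1 * k * x.1⁻¹) * (x.1 * (y : G) * x.1⁻¹)) := by rw [h]; group
          _ = c * (k * (x.1 * (y : G) * x.1⁻¹)) := by rw [hc, hxk']
      rcases hyk with h | h
      · exact inv_mul_comm_of (c := 1) (by rw [one_mul, h]) (hconj 1 (by group) (by rw [one_mul, h]))
      · exact inv_mul_comm_of h (hconj z (by rw [S.central _ x.2.2, mul_inv_cancel_right]) h)
    · intro x1 x2 h
      have h' : x1.1 * y * x1.1⁻¹ = x2.1 * y * x2.1⁻¹ := mul_left_cancel (congrArg (fun a : {a : E // T a} => ((a : E) : G)) h)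
      have hy2 : (x2.1⁻¹ * x1.1) * y = y * (x2.1⁻¹ * x1.1) := by
        have := congrArg (fun t => x2.1⁻¹ * t * x1.1) h'
        simpa [mul_assoc] using this
      have hm : x2.1⁻¹ * x1.1 ∈ E := hCE _ (hgen _ (fun k hk => by
        rw [mul_assoc, hE1 _ x1.2.1 x1.2.2 k hk, ← mul_assoc,
          (Commute.inv_left (show Commute x2.1 (k : G) from hE1 _ x2.2.1 x2.2.2 k hk)).eq, mul_assoc]) hy2)
      exact Subtype.ext (inv_mul_eq_one.mp (hD _ hm (hmulE' _ _ (hinvE' _ x2.2.1) x1.2.1))).symm
  -- the involution `z` on the conjugate of `E`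
  let E' : Subgroup G := E.map (MulAut.conj g).toMonoidHom
  have hmemE' : ∀ x, x ∈ E' ↔ inE' x := fun x => by
    simp only [E', Subgroup.mem_map, MulEquiv.coe_toMonoidHom, MulAut.conj_apply]
    constructor
    · rintro ⟨e, he, rfl⟩
      show g⁻¹ * (g * e * g⁻¹) * g ∈ E
      rwa [show g⁻¹ * (g * e * g⁻¹) * g = e by group]
    · exact fun hx => ⟨_, hx, by group⟩
  have hzz' : z * z' = z' * z := (hfix z).mp hzr
  have hcmz : ∀ x, inE' x → inE' (z * x * z⁻¹) := hE'conj z hzz'
  have hE'comm : ∀ a b, inE' a → inE' b → a * b = b * a ∨ a * b = z' * (b * a) := fun a b ha hb => by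
    rcases S.comm _ ha _ hb with h | h
    · left
      have := congrArg (fun t => g * t * g⁻¹) h
      simpa [mul_assoc] using this
    · right
      have := congrArg (fun t => g * t * g⁻¹) h
      simpa [hz'def, mul_assoc] using this
  let δ : G → G := fun x => x⁻¹ * (z * x * z⁻¹)
  let F : Subgroup G :=
    { carrier := {x | x ∈ E' ∧ (δ x = 1 ∨ δ x = z')}
      one_mem' := ⟨one_mem _, Or.inl (by simp [δ])⟩
      inv_mem' := by
        rintro x ⟨hx, hd⟩
        refine ⟨inv_mem hx, ?_⟩
        have hxz := hE'z' x ((hmemE' x).mp hx)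
        have e : δ x⁻¹ = x * (δ x)⁻¹ * x⁻¹ := by simp only [δ]; group
        rcases hd with h | h
        · left; rw [e, h, inv_one, mul_one, mul_inv_cancel]
        · right; rw [e, h, inv_eq_of_mul_eq_one_right hz'z', hxz, mul_inv_cancel_right]
      mul_mem' := by
        rintro a b ⟨ha, hda⟩ ⟨hb, hdb⟩
        refine ⟨mul_mem ha hb, ?_⟩
        have hbz := hE'z' b ((hmemE' b).mp hb)
        have e : δ (a * b) = b⁻¹ * δ a * b * δ b := by simp only [δ]; group
        rcases hda with h1 | h1 <;> rcases hdb with h2 | h2 <;>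
          simp [e, h1, h2, mul_assoc, ← hbz, hz'z'] }
  have hFle : F ≤ E' := fun x hx => hx.1
  have hz'F : z' ∈ F := ⟨(hmemE' _).mpr (by show g⁻¹ * z' * g ∈ E; rw [show g⁻¹ * z' * g = z by rw [hz'def]; group]; exact S.zmem),
    Or.inl (by show z'⁻¹ * (z * z' * z⁻¹) = 1; rw [hzz', mul_inv_cancel_right, inv_mul_cancel])⟩
  let Z' : Subgroup G := Subgroup.zpowers z'
  have hcardE' : Nat.card E' = Nat.card E :=
    (Nat.card_congr (E.equivMapOfInjective _ (MulAut.conj g).injective).toEquiv).symm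
  have hδF : ∀ x ∈ E', δ x ∈ F := fun x hx => by
    have hx' := (hmemE' x).mp hx
    have hd : inE' (δ x) := hmulE' _ _ (hinvE' _ hx') (hcmz x hx')
    refine ⟨(hmemE' _).mpr hd, ?_⟩
    have e : z * δ x * z⁻¹ = (δ x)⁻¹ := by
      simp only [δ]
      have hzi : z⁻¹ = z := inv_eq_of_mul_eq_one_right S.zz
      simp only [mul_inv_rev, inv_inv, hzi, mul_assoc, ← mul_assoc z z, S.zz, one_mul, mul_one]
    show (δ x)⁻¹ * (z * δ x * z⁻¹) = 1 ∨ (δ x)⁻¹ * (z * δ x * z⁻¹) = z'
    rw [e, ← mul_inv_rev]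
    rcases hE'sq _ hd with h | h
    · left; rw [h, inv_one]
    · right; rw [h, inv_eq_of_mul_eq_one_right hz'z']
  haveI hFn : (F.subgroupOf E').Normal := by
    refine ⟨fun a ha k => ?_⟩
    rw [Subgroup.mem_subgroupOf] at ha ⊢
    simp only [Subgroup.coe_mul, Subgroup.coe_inv]
    rcases hE'comm _ _ ((hmemE' _).mp k.2) ((hmemE' _).mp a.2) with h | h
    · rwa [h, mul_inv_cancel_right]
    · rw [h, ← mul_assoc z', mul_inv_cancel_right]
      exact F.mul_mem hz'F ha
  -- `|E' : F| ≤ |F : ⟨z'⟩|`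
  have hk1 : Nat.card E' * 2 ≤ Nat.card F * Nat.card F := by
    haveI : (Z'.subgroupOf E').Normal := by
      refine ⟨fun a ha k => ?_⟩
      rw [Subgroup.mem_subgroupOf] at ha ⊢
      simp only [Subgroup.coe_mul, Subgroup.coe_inv]
      obtain ⟨i, hi⟩ := ha
      have : Commute (k : G) z' := hE'z' _ ((hmemE' _).mp k.2)
      rw [← hi, (this.zpow_right i).eq, mul_inv_cancel_right]
      exact Subgroup.zpow_mem _ (Subgroup.mem_zpowers _) i
    let ξ : E' →* E' ⧸ Z'.subgroupOf E' :=
      MonoidHom.mk' (fun x => QuotientGroup.mk' _ (⟨δ x, hFle (hδF x x.2)⟩ : E')) (fun a b => by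
        have hd := (hmemE' _).mp (hFle (hδF a a.2))
        show QuotientGroup.mk' _ _ = QuotientGroup.mk' _ _ * QuotientGroup.mk' _ _
        rw [← map_mul, QuotientGroup.mk'_eq_mk']
        rcases hE'comm _ _ hd ((hmemE' _).mp b.2) with h | h
        · refine ⟨1, one_mem _, Subtype.ext ?_⟩
          show δ ((a : G) * b) * 1 = δ a * δ b
          rw [mul_one, show δ ((a : G) * b) = (b : G)⁻¹ * δ a * b * δ b by simp only [δ]; group, mul_assoc (b : G)⁻¹, h,
            inv_mul_cancel_left]
        · refine ⟨⟨z', hFle hz'F⟩, Subgroup.mem_zpowers z', Subtype.ext ?_⟩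
          have hbz := hE'z' _ ((hmemE' _).mp b.2)
          have hdz := hE'z' _ ((hmemE' _).mp (hFle (hδF b b.2)))
          show δ ((a : G) * b) * z' = δ a * δ b
          rw [show δ ((a : G) * b) = (b : G)⁻¹ * δ a * b * δ b by simp only [δ]; group, mul_assoc (b : G)⁻¹, h,
            mul_assoc _ (δ b) z', hdz, ← mul_assoc, ← mul_assoc (b : G)⁻¹,
            (show Commute (b : G) z' from hbz).inv_left.eq, mul_assoc z', inv_mul_cancel_left,
            ← hE'z' _ hd, mul_assoc, mul_assoc, ← mul_assoc z' z', hz'z', one_mul])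
    have hker : ξ.ker ≤ F.subgroupOf E' := fun x hx => by
      obtain ⟨i, hi⟩ := (QuotientGroup.eq_one_iff _).mp (MonoidHom.mem_ker.mp hx)
      refine ⟨x.2, ?_⟩
      have h2 : z' ^ (2 : ℤ) = 1 := by rw [zpow_two]; exact hz'z'
      rcases Int.even_or_odd' i with ⟨j, rfl | rfl⟩
      · left; show δ (x : G) = 1; rw [show δ (x : G) = z' ^ (2 * j) from hi.symm, zpow_mul, h2, one_zpow]
      · right; show δ (x : G) = z'; rw [show δ (x : G) = z' ^ (2 * j + 1) from hi.symm, zpow_add, zpow_mul, h2, one_zpow, one_mul, zpow_one]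
    have hrange : ξ.range ≤ (F.subgroupOf E').map (QuotientGroup.mk' _) := by
      rintro _ ⟨x, rfl⟩
      exact ⟨_, Subgroup.mem_subgroupOf.mpr (hδF x x.2), rfl⟩
    have e1 : Nat.card ξ.ker * Nat.card ξ.range = Nat.card E' := by
      rw [← Subgroup.index_ker, Subgroup.card_mul_index]
    have e2 : Nat.card ((F.subgroupOf E').map (QuotientGroup.mk' (Z'.subgroupOf E'))) * Nat.card Z' = Nat.card F := by
      let π := (QuotientGroup.mk' (Z'.subgroupOf E')).comp (F.subgroupOf E').subtype
      have hr : π.range = (F.subgroupOf E').map (QuotientGroup.mk' (Z'.subgroupOf E')) := by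
        rw [MonoidHom.range_comp, Subgroup.range_subtype]
      have hk : π.ker = (Z'.subgroupOf E').subgroupOf (F.subgroupOf E') := by
        rw [← MonoidHom.comap_ker, QuotientGroup.ker_mk']; rfl
      have hle : Z'.subgroupOf E' ≤ F.subgroupOf E' := fun x hx => (Subgroup.zpowers_le.mpr hz'F) hx
      rw [← hr, ← Subgroup.index_ker, hk,
        ← Nat.card_congr (Subgroup.subgroupOfEquivOfLe ((Subgroup.zpowers_le.mpr hz'F).trans hFle : Z' ≤ E')).toEquiv,
        ← Nat.card_congr (Subgroup.subgroupOfEquivOfLe hle).toEquiv, mul_comm, Subgroup.card_mul_index,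
        Nat.card_congr (Subgroup.subgroupOfEquivOfLe hFle).toEquiv]
    have hZ' : Nat.card Z' = 2 := by
      rw [Nat.card_zpowers]
      exact orderOf_eq_prime (by rw [pow_two, hz'z']) hz'1
    have c1 : Nat.card ξ.ker ≤ Nat.card F :=
      (Nat.le_of_dvd Nat.card_pos (Subgroup.card_dvd_of_le hker)).trans (Nat.card_congr (Subgroup.subgroupOfEquivOfLe hFle).toEquiv).le
    have c2 : Nat.card ξ.range ≤ Nat.card ((F.subgroupOf E').map (QuotientGroup.mk' (Z'.subgroupOf E'))) :=
      Nat.le_of_dvd Nat.card_pos (Subgroup.card_dvd_of_le hrange)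
    calc Nat.card E' * 2 = Nat.card ξ.ker * (Nat.card ξ.range * 2) := by rw [← e1, mul_assoc]
      _ ≤ Nat.card F * Nat.card F := Nat.mul_le_mul c1 (by rw [← e2, hZ']; exact Nat.mul_le_mul_right 2 c2)
  have hk2 : Nat.card F ≤ 2 * Nat.card {x : G // inE' x ∧ x ∈ H} := by
    by_cases hall : ∀ x ∈ F, δ x = 1
    · refine le_trans (Nat.card_le_card_of_injective (fun x : F => (⟨x.1, (hmemE' _).mp x.2.1, ?_⟩ :
        {x : G // inE' x ∧ x ∈ H})) fun a b h => Subtype.ext (congrArg (fun t : {x : G // inE' x ∧ x ∈ H} => t.1) h))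
        (Nat.le_mul_of_pos_left _ two_pos)
      rw [hH, Subgroup.mem_centralizer_singleton_iff]
      exact (mul_inv_eq_iff_eq_mul.mp (inv_mul_eq_one.mp (hall x.1 x.2)).symm).symm
    · push Not at hall
      obtain ⟨x0, hx0, hx01⟩ := hall
      have hx0' := hx0.2.resolve_left hx01
      have hin : ∀ x ∈ F, δ x = 1 → inE' x ∧ x ∈ H := fun x hx hd => ⟨(hmemE' _).mp hx.1, by
        rw [hH, Subgroup.mem_centralizer_singleton_iff]
        exact (mul_inv_eq_iff_eq_mul.mp (inv_mul_eq_one.mp hd).symm).symm⟩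
      have hδmul : ∀ x ∈ F, δ x ≠ 1 → δ (x * x0) = 1 := fun x hx hd => by
        rw [show δ (x * x0) = x0⁻¹ * δ x * x0 * δ x0 by simp only [δ]; group, hx.2.resolve_left hd, hx0',
          mul_assoc x0⁻¹, ← hE'z' x0 ((hmemE' _).mp hx0.1), inv_mul_cancel_left, hz'z']
      haveI : Finite {x : G // inE' x ∧ x ∈ H} := inferInstance
      let J : F → Bool × {x : G // inE' x ∧ x ∈ H} := fun x =>
        if h : δ x.1 = 1 then (false, ⟨_, hin _ x.2 h⟩) else (true, ⟨x.1 * x0, hin _ (F.mul_mem x.2 hx0) (hδmul _ x.2 h)⟩)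
      have hJ : Function.Injective J := fun a b h => by
        simp only [J] at h
        split_ifs at h with ha hb hb
        · exact Subtype.ext (congrArg (fun t : Bool × {x : G // inE' x ∧ x ∈ H} => t.2.1) h)
        · exact absurd (congrArg Prod.fst h) (by simp)
        · exact absurd (congrArg Prod.fst h) (by simp)
        · exact Subtype.ext (mul_right_cancel (congrArg (fun t : Bool × {x : G // inE' x ∧ x ∈ H} => t.2.1) h))
      refine (Nat.card_le_card_of_injective J hJ).trans ?_
      rw [Nat.card_prod]; simp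
  have hF8 : Nat.card F ≤ 8 := hk2.trans (by omega)
  have : Nat.card E' * 2 ≤ 64 := hk1.trans (by nlinarith)
  omega

theorem index_le_four {U : Type*} [Group U] [Finite U] (St : Subgroup U) [St.Normal] (a b : U)
    (h : ∀ k : U, (k : U ⧸ St) ∈ ({1, (a : U ⧸ St), (b : U ⧸ St), ((a * b : U) : U ⧸ St)} : Set (U ⧸ St))) :
    St.index ≤ 4 := by
  classical
  haveI := Fintype.ofFinite (U ⧸ St)
  rw [Subgroup.index, Nat.card_eq_fintype_card, ← Finset.card_univ]
  refine (Finset.card_le_card (t := {1, (a : U ⧸ St), (b : U ⧸ St), ((a * b : U) : U ⧸ St)}) fun q _ => ?_).trans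
    Finset.card_le_four
  induction q using QuotientGroup.induction_on with
  | H k => simpa using h k

theorem stab_normal [Finite G] {z : G} {H E : Subgroup G} (S : Setting z H E) {r : G ⧸ H} (hzr : z • r = r) :
    (MulAction.stabilizer E r).Normal := by
  refine ⟨fun a ha k => ?_⟩
  have ha' : (a : G) • r = r := ha
  show ((k * a * k⁻¹ : E) : G) • r = r
  simp only [Subgroup.coe_mul, Subgroup.coe_inv]
  rcases S.comm _ k.2 _ a.2 with h | h
  · rw [h, mul_inv_cancel_right, ha']
  · rw [h, ← mul_assoc z, mul_inv_cancel_right, mul_smul, ha', hzr]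

theorem zval_of_index_le_four [Finite G] {z : G} {H E : Subgroup G} (S : Setting z H E) {A : Type*} [CommGroup A]
    (φ : H →* A) {r : G ⧸ H} (hzr : z • r = r) (h64 : 64 ≤ Nat.card E) (hi : (MulAction.stabilizer E r).index ≤ 4) :
    fixVal φ z r = 1 := by
  classical
  set St := MulAction.stabilizer E r
  haveI : St.Normal := stab_normal S hzr
  by_cases hnc : ∃ a ∈ St, ∃ b ∈ St, a * b ≠ b * a
  · obtain ⟨a, ha, b, hb, hab⟩ := hnc
    have hz' : z = (a : G) * b * (a : G)⁻¹ * (b : G)⁻¹ := by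
      rw [(S.comm _ a.2 _ b.2).resolve_left fun h => hab (Subtype.ext h)]; group
    have ha' := (smul_eq_iff r).1 (show (a : G) • r = r from ha)
    have hb' := (smul_eq_iff r).1 (show (b : G) • r = r from hb)
    rw [fixVal, dif_pos ((smul_eq_iff r).1 hzr),
      show (⟨_, (smul_eq_iff r).1 hzr⟩ : H) = ⟨_, ha'⟩ * ⟨_, hb'⟩ * (⟨_, ha'⟩)⁻¹ * (⟨_, hb'⟩)⁻¹ from Subtype.ext (by
        show r.out⁻¹ * z * r.out = r.out⁻¹ * (a : G) * r.out * (r.out⁻¹ * (b : G) * r.out) *
          (r.out⁻¹ * (a : G) * r.out)⁻¹ * (r.out⁻¹ * (b : G) * r.out)⁻¹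
        conv_lhs => rw [hz']
        group), map_mul, map_mul, map_mul, map_inv, map_inv,
      mul_comm (φ ⟨_, ha'⟩), mul_inv_cancel_right, mul_inv_cancel]
  · exfalso
    push Not at hnc
    -- two elements generating `E` modulo the stabilizer
    have hgen : ∃ y1 y2 : E, ∀ k : E, (k : E ⧸ St) ∈ ({1, (y1 : E ⧸ St), (y2 : E ⧸ St), ((y1 * y2 : E) : E ⧸ St)} : Set (E ⧸ St)) := by
      by_cases h1 : ∀ q : E ⧸ St, q = 1
      · exact ⟨1, 1, fun k => Or.inl (h1 _)⟩
      push Not at h1
      obtain ⟨q1, hq1⟩ := h1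
      obtain ⟨y1, rfl⟩ := QuotientGroup.mk_surjective q1
      by_cases h2 : ∀ q : E ⧸ St, q = 1 ∨ q = y1
      · exact ⟨y1, y1, fun k => (h2 _).imp id Or.inl⟩
      push Not at h2
      obtain ⟨q2, hq2, hq21⟩ := h2
      obtain ⟨y2, rfl⟩ := QuotientGroup.mk_surjective q2
      refine ⟨y1, y2, fun k => ?_⟩
      haveI := Fintype.ofFinite (E ⧸ St)
      have hc : Fintype.card (E ⧸ St) ≤ 4 := by rw [← Nat.card_eq_fintype_card]; exact hi
      have hq3 : ((y1 * y2 : E) : E ⧸ St) ∉ ({1, (y1 : E ⧸ St), (y2 : E ⧸ St)} : Finset (E ⧸ St)) := by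
        simp only [Finset.mem_insert, Finset.mem_singleton, QuotientGroup.mk_mul, not_or]
        refine ⟨fun h => hq21 ?_, fun h => hq2 (mul_eq_left.mp h), fun h => hq1 (mul_eq_right.mp h)⟩
        have h11 : (y1 : E ⧸ St) * y1 = 1 := by
          rw [← QuotientGroup.mk_mul, QuotientGroup.eq_one_iff]
          show ((y1 : G) * y1) • r = r
          rcases S.sq _ y1.2 with h' | h' <;> rw [h']
          · exact one_smul G r
          · exact hzr
        calc (y2 : E ⧸ St) = ((y1 : E ⧸ St) * y1) * y2 := by rw [h11, one_mul]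
          _ = y1 := by rw [mul_assoc, h, mul_one]
      have hu : ({1, (y1 : E ⧸ St), (y2 : E ⧸ St)} : Finset (E ⧸ St)).card = 3 := by
        rw [Finset.card_insert_of_notMem (by simp [Ne.symm hq1, Ne.symm hq2]), Finset.card_pair (Ne.symm hq21)]
      have huniv : insert ((y1 * y2 : E) : E ⧸ St) ({1, (y1 : E ⧸ St), (y2 : E ⧸ St)} : Finset (E ⧸ St)) = Finset.univ :=
        Finset.eq_univ_of_card _ (le_antisymm (Finset.card_le_univ _) (by rw [Finset.card_insert_of_notMem hq3, hu]; omega))
      have := Finset.mem_univ (k : E ⧸ St)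
      rw [← huniv] at this
      simp only [Finset.mem_insert, Finset.mem_singleton] at this
      rcases this with h | h | h | h
      · exact Or.inr (Or.inr (Or.inr h))
      · exact Or.inl h
      · exact Or.inr (Or.inl h)
      · exact Or.inr (Or.inr (Or.inl h))
    obtain ⟨y1, y2, hy⟩ := hgen
    -- the commutation pattern determines a stabilizer element up to `z`
    let ψ : St → Bool × Bool := fun a => (decide ((a : E) * y1 = y1 * a), decide ((a : E) * y2 = y2 * a))
    have hzSt : (⟨z, S.zmem⟩ : E) ∈ St := hzr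
    have hcen' : ∀ a : E, a ∈ St → a * y1 = y1 * a → a * y2 = y2 * a → (a : G) = 1 ∨ (a : G) = z := by
      intro a ha h1 h2
      refine S.cen a a.2 fun e he => congrArg Subtype.val (show a * ⟨e, he⟩ = ⟨e, he⟩ * a from ?_)
      have key : ∀ w : E, a * w = w * a → ((⟨e, he⟩ : E) : E ⧸ St) = (w : E ⧸ St) → a * ⟨e, he⟩ = ⟨e, he⟩ * a := by
        intro w hw hq
        have hs : w⁻¹ * ⟨e, he⟩ ∈ St := QuotientGroup.eq.mp hq.symm
        have h3 := hnc a ha _ hs
        rw [← mul_assoc, (show Commute a w⁻¹ from (show Commute a w from hw).inv_right).eq, mul_assoc, mul_assoc] at h3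
        exact mul_left_cancel h3
      rcases hy ⟨e, he⟩ with h | h | h | h
      · exact key 1 (by rw [mul_one, one_mul]) h
      · exact key y1 h1 h
      · exact key y2 h2 h
      · exact key (y1 * y2) ((show Commute a y1 from h1).mul_right h2).eq h
    have hflip : ∀ a b y : E, ¬ a * y = y * a → ¬ b * y = y * b → (a⁻¹ * b) * y = y * (a⁻¹ * b) := by
      intro a b y ha hb
      have h1 := (S.comm _ a.2 _ y.2).resolve_left fun h => ha (Subtype.ext h)
      have h2 := (S.comm _ b.2 _ y.2).resolve_left fun h => hb (Subtype.ext h)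
      exact Subtype.ext (inv_mul_comm_of h1 h2)
    have hfib : ∀ a b : St, ψ a = ψ b → ((b : E) : G) = (a : E) ∨ ((b : E) : G) = ((a : E) : G) * z := by
      intro a b h
      simp only [ψ, Prod.mk.injEq, decide_eq_decide] at h
      obtain ⟨h1, h2⟩ := h
      have hc : ∀ y : E, ((a : E) * y = y * a ↔ (b : E) * y = y * b) → ((a : E)⁻¹ * b) * y = y * ((a : E)⁻¹ * b) := by
        intro y hiff
        by_cases ha : (a : E) * y = y * a
        · exact (((show Commute (a : E) y from ha).inv_left).mul_left (hiff.mp ha)).eq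
        · exact hflip _ _ _ ha fun hb => ha (hiff.mpr hb)
      rcases hcen' _ (St.mul_mem (St.inv_mem a.2) b.2) (hc y1 h1) (hc y2 h2) with h | h
      · left; rw [Subgroup.coe_mul, Subgroup.coe_inv, inv_mul_eq_one] at h; exact h.symm
      · right; rw [Subgroup.coe_mul, Subgroup.coe_inv, inv_mul_eq_iff_eq_mul] at h; exact h
    let J : St → (Bool × Bool) × Bool := fun a => (ψ a, decide (a = Function.invFun ψ (ψ a)))
    have hJ : Function.Injective J := by
      intro a b h
      simp only [J, Prod.mk.injEq, decide_eq_decide] at h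
      obtain ⟨h1, h2⟩ := h
      rw [← h1] at h2
      by_cases ha : a = Function.invFun ψ (ψ a)
      · exact ha.trans (h2.mp ha).symm
      · have hf : ψ (Function.invFun ψ (ψ a)) = ψ a := Function.invFun_eq ⟨a, rfl⟩
        rcases hfib _ a hf with e | e
        · exact absurd (Subtype.ext (Subtype.ext e)) ha
        rcases hfib _ b (hf.trans h1) with e' | e'
        · exact absurd (Subtype.ext (Subtype.ext e')) fun hb => ha (h2.mpr hb)
        · exact Subtype.ext (Subtype.ext (e.trans e'.symm))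
    have h8 := Nat.card_le_card_of_injective J hJ
    simp only [Nat.card_prod, Nat.card_eq_fintype_card (α := Bool), Fintype.card_bool] at h8
    have := St.card_mul_index
    have : Nat.card St * St.index ≤ 8 * 4 := Nat.mul_le_mul h8 hi
    omega

theorem quad_prod {A : Type*} [CommGroup A] (hA : ∀ a : A, a * a = 1) (a b c : A) :
    a * (a * c * (b * (b * c))) = 1 := by
  rw [← mul_assoc a, ← mul_assoc a a, hA, one_mul, ← mul_assoc b b, hA, one_mul, hA]

set_option maxHeartbeats 1000000 in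
theorem involution_transfer [Finite G] {z : G} {H E : Subgroup G} (S : Setting z H E) (hE2 : IsPGroup 2 E)
    {A : Type*} [CommGroup A] (hA : ∀ a : A, a * a = 1) (φ : H →* A) (h64 : 64 ≤ Nat.card E)
    (hno : ∀ r : G ⧸ H, r ≠ ((1 : G) : G ⧸ H) → z • r = r → (MulAction.stabilizer E r).index ≠ 2)
    (w : G) (hw : w ∈ H) (hww : w * w = 1) : φ.transfer w = φ ⟨w, hw⟩ := by
  classical
  haveI := Fintype.ofFinite (G ⧸ H)
  rw [transfer_eq_prod_fixed φ w (fun x l hl hld h => by
    have hl2 : l = 2 := by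
      have : orderOf w ∣ 2 := orderOf_dvd_of_pow_eq_one (by rw [sq, hww])
      have := Nat.le_of_dvd two_pos (hld.trans this)
      omega
    subst hl2
    refine (congrArg φ (Subtype.ext ?_)).trans (map_one φ)
    show x⁻¹ * w ^ 2 * x = 1
    rw [sq, hww, mul_one, inv_mul_cancel])]
  set base : G ⧸ H := ((1 : G) : G ⧸ H)
  have hbase : fixVal φ w base = φ ⟨w, hw⟩ := by
    rw [fixVal_mk φ (x := 1) (by simpa using hw)]
    exact congrArg φ (Subtype.ext (by simp))
  have hHbase : ∀ k ∈ H, k • base = base := fun k hk => by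
    rw [MulAction.Quotient.smul_mk, QuotientGroup.eq, smul_eq_mul, mul_one, mul_one]; exact inv_mem hk
  rw [← Finset.mul_prod_erase _ _ (Finset.mem_univ base), hbase]
  suffices hrest : ∏ q ∈ Finset.univ.erase base, fixVal φ w q = 1 by rw [hrest, mul_one]
  have hwz : w⁻¹ = w := inv_eq_of_mul_eq_one_right hww
  have hzw : w * z = z * w := S.central w hw
  rw [← Finset.prod_filter_mul_prod_filter_not (Finset.univ.erase base) (fun q => z • q = q)]
  have hmoved : ∏ q ∈ (Finset.univ.erase base).filter (fun q => ¬ z • q = q), fixVal φ w q = 1 := by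
    refine Finset.prod_involution (fun q _ => z • q) (fun q _ => ?_) (fun q hq _ => (Finset.mem_filter.mp hq).2)
      (fun q hq => Finset.mem_filter.mpr ⟨Finset.mem_erase.mpr ⟨fun h => (Finset.mem_filter.mp hq).2 ?_, Finset.mem_univ _⟩,
        fun h => (Finset.mem_filter.mp hq).2 (MulAction.injective z h)⟩)
      (fun q _ => by rw [smul_smul, S.zz, one_smul])
    · rw [fixVal_smul, show z⁻¹ * w * z = w by rw [mul_assoc, hzw, inv_mul_cancel_left]]
      exact hA _
    · have hb : q = base := MulAction.injective z (h.trans (hHbase z (S.le S.zmem)).symm)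
      rw [hb]; exact hHbase z (S.le S.zmem)
  rw [hmoved, mul_one]
  set Ω := (Finset.univ.erase base).filter (fun q => z • q = q) with hΩ
  have hΩmem : ∀ q, q ∈ Ω ↔ q ≠ base ∧ z • q = q := fun q => by simp [hΩ]
  let g : G ⧸ H → Finset (G ⧸ H) := fun q => Finset.univ.filter (fun p => p ∈ MulAction.orbit E q)
  rw [← Finset.prod_fiberwise_of_maps_to (g := g) (t := Ω.image g) (fun q hq => Finset.mem_image_of_mem _ hq)]
  refine Finset.prod_eq_one fun O hO => ?_
  obtain ⟨r₀, hr₀, rfl⟩ := Finset.mem_image.mp hO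
  rw [← Finset.prod_filter_mul_prod_filter_not (Ω.filter (fun q => g q = g r₀)) (fun q => w • q = q),
    Finset.prod_eq_one (s := Finset.filter (fun q => ¬ w • q = q) _) (fun q hq => fixVal_of_ne φ (Finset.mem_filter.mp hq).2),
    mul_one]
  set F := (Ω.filter (fun q => g q = g r₀)).filter (fun q => w • q = q) with hFdef
  rcases F.eq_empty_or_nonempty with hF | ⟨q₀, hq₀⟩
  · rw [hF, Finset.prod_empty]
  simp only [hFdef, Finset.mem_filter] at hq₀
  obtain ⟨⟨hq₀Ω, hq₀g⟩, hwq₀⟩ := hq₀
  obtain ⟨hq₀b, hzq₀⟩ := (hΩmem q₀).mp hq₀Ω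
  set St := MulAction.stabilizer E q₀
  haveI hStn : St.Normal := stab_normal S hzq₀
  have hFm : ∀ p, p ∈ F ↔ (∃ k : E, (k : G) • q₀ = p) ∧ w • p = p := by
    intro p
    simp only [hFdef, Finset.mem_filter]
    constructor
    · rintro ⟨⟨-, hp⟩, hwp⟩
      refine ⟨?_, hwp⟩
      have : p ∈ g q₀ := by rw [hq₀g, ← hp]; simp [g]
      have h2 : p ∈ MulAction.orbit E q₀ := by simpa [g] using this
      exact MulAction.mem_orbit_iff.mp h2
    · rintro ⟨⟨k, rfl⟩, hwp⟩
      refine ⟨⟨(hΩmem _).mpr ⟨fun h => hq₀b (MulAction.injective (k : G) (h.trans (hHbase k (S.le k.2)).symm)), ?_⟩, ?_⟩, hwp⟩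
      · rw [smul_smul, ← S.central _ (S.le k.2), mul_smul, hzq₀]
      · rw [← hq₀g]
        ext p
        simp only [g, Finset.mem_filter, Finset.mem_univ, true_and]
        rw [show MulAction.orbit E ((k : G) • q₀) = MulAction.orbit E q₀ from MulAction.orbit_eq_iff.mpr ⟨k, rfl⟩]
  -- the twist
  let δ : E → E := fun k => ⟨(k : G)⁻¹ * (w * k * w⁻¹), E.mul_mem (E.inv_mem k.2) (S.normal w hw _ k.2)⟩
  have hval : ∀ (k : E) (p : G ⧸ H), w • p = p → w • ((k : G) • p) = (k : G) • p →
      fixVal φ w ((k : G) • p) = fixVal φ w p * fixVal φ (δ k : G) p ∧ (δ k : G) • p = p := by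
    intro k p hp hkp
    have hd : (δ k : G) • p = p := by
      show ((k : G)⁻¹ * (w * k * w⁻¹)) • p = p
      rw [mul_smul, mul_smul, mul_smul, show w⁻¹ • p = p from inv_smul_eq_iff.mpr hp.symm, hkp, inv_smul_smul]
    refine ⟨?_, hd⟩
    rw [fixVal_smul, show (k : G)⁻¹ * w * k = (δ k : G) * w by show _ = (k : G)⁻¹ * (w * k * w⁻¹) * w; group,
      fixVal_mul φ hd hp, mul_comm]
  have hδhom : ∀ a b : E, (δ (a * b) : E ⧸ St) = (δ a : E ⧸ St) * (δ b : E ⧸ St) := by
    intro a b
    rw [show δ (a * b) = b⁻¹ * δ a * b * δ b from Subtype.ext (by simp [δ]; group), QuotientGroup.mk_mul]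
    congr 1
    rw [QuotientGroup.eq]
    show ((((b⁻¹ * δ a * b)⁻¹ * δ a : E)) : G) • q₀ = q₀
    simp only [Subgroup.coe_mul, Subgroup.coe_inv]
    rcases S.comm _ (δ a).2 _ b.2 with h | h
    · rw [mul_assoc (b : G)⁻¹, h, inv_mul_cancel_left, inv_mul_cancel, one_smul]
    · rw [mul_assoc (b : G)⁻¹, h, ← mul_assoc (b : G)⁻¹ z, S.central _ (inv_mem (S.le b.2)), mul_assoc z, inv_mul_cancel_left,
        mul_inv_rev, mul_assoc, mul_smul, mul_smul, inv_smul_eq_iff,
        show z⁻¹ = z from inv_eq_of_mul_eq_one_right S.zz, smul_smul, ← S.central _ (S.le (δ a).2), mul_smul, hzq₀]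
  let δq : E →* E ⧸ St := MonoidHom.mk' (fun k => (δ k : E ⧸ St)) hδhom
  have hker : ∀ k : E, δq k = 1 ↔ w • ((k : G) • q₀) = (k : G) • q₀ := by
    intro k
    show ((δ k : E) : E ⧸ St) = 1 ↔ _
    rw [QuotientGroup.eq_one_iff]
    show ((k : G)⁻¹ * (w * k * w⁻¹)) • q₀ = q₀ ↔ _
    rw [mul_smul, inv_smul_eq_iff, mul_smul, mul_smul, show w⁻¹ • q₀ = q₀ from inv_smul_eq_iff.mpr hwq₀.symm]
  have hq2 : ∀ x : E ⧸ St, x * x = 1 := fun x => by
    induction x using QuotientGroup.induction_on with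
    | H k =>
      rw [← QuotientGroup.mk_mul, QuotientGroup.eq_one_iff]
      show ((k : G) * k) • q₀ = q₀
      rcases S.sq _ k.2 with h | h <;> rw [h]
      · exact one_smul G q₀
      · exact hzq₀
  have hqinv : ∀ x : E ⧸ St, x⁻¹ = x := fun x => inv_eq_of_mul_eq_one_right (hq2 x)
  have hqcomm : ∀ x y : E ⧸ St, x * y = y * x := fun x y => by
    calc x * y = (x * y)⁻¹ := (hqinv _).symm
      _ = y * x := by rw [mul_inv_rev, hqinv, hqinv]
  have hidx : St.index ≠ 1 ∧ St.index ≠ 2 := by
    refine ⟨fun h => hq₀b (S.fixed q₀ fun k hk => ?_), hno q₀ hq₀b hzq₀⟩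
    have : (⟨k, hk⟩ : E) ∈ St := by rw [Subgroup.index_eq_one.mp h]; exact Subgroup.mem_top _
    exact this
  have hcardQ : Nat.card (E ⧸ St) = St.index := rfl
  -- all points of the orbit have the same stabilizer
  have hfixall : ∀ k p : E, (k : G) • ((p : G) • q₀) = (p : G) • q₀ ↔ (k : E ⧸ St) = 1 := by
    intro k p
    rw [QuotientGroup.eq_one_iff]
    show _ ↔ (k : G) • q₀ = q₀
    rw [smul_smul]
    rcases S.comm _ k.2 _ p.2 with h | h
    · rw [h, mul_smul]; exact (MulAction.injective (p : G)).eq_iff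
    · rw [h, mul_smul, mul_smul, smul_smul z, ← S.central _ (S.le p.2), mul_smul]
      constructor
      · intro hh
        exact MulAction.injective z ((MulAction.injective (p : G) hh).trans hzq₀.symm)
      · intro hh
        rw [hh, hzq₀]
  -- the involutory moves of the fixed points
  have hmove : ∀ v : E, δq v = 1 → ∀ p ∈ F, (v : G) • p ∈ F := by
    intro v hv p hp
    obtain ⟨⟨k, rfl⟩, hwp⟩ := (hFm p).mp hp
    rw [hFm]
    refine ⟨⟨v * k, (mul_smul _ _ _)⟩, ?_⟩
    have : δq (v * k) = 1 := by rw [map_mul, hv, one_mul]; exact (hker k).mpr hwp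
    have h := (hker (v * k)).mp this
    rwa [Subgroup.coe_mul, mul_smul] at h
  have hinvol : ∀ v : E, ∀ p ∈ F, (v : G) • ((v : G) • p) = p := by
    intro v p hp
    obtain ⟨⟨k, rfl⟩, -⟩ := (hFm p).mp hp
    rw [smul_smul]
    rcases S.sq _ v.2 with h | h <;> rw [h]
    · exact one_smul G _
    · rw [smul_smul, ← S.central _ (S.le k.2), mul_smul, hzq₀]
  have hfree : ∀ v : E, (v : E ⧸ St) ≠ 1 → ∀ p ∈ F, (v : G) • p ≠ p := by
    intro v hv p hp h
    obtain ⟨⟨k, rfl⟩, -⟩ := (hFm p).mp hp
    exact hv ((hfixall v k).mp h)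
  have hzF : ∀ p ∈ F, z • p = p := by
    intro p hp
    obtain ⟨⟨k, rfl⟩, -⟩ := (hFm p).mp hp
    rw [smul_smul, ← S.central _ (S.le k.2), mul_smul, hzq₀]
  -- four point blocks
  have hquad : ∀ v u : E, δq v = 1 → δq u = 1 → (v : E ⧸ St) ≠ 1 → (u : E ⧸ St) ≠ 1 → (u : E ⧸ St) ≠ v →
      ((δ v : G) * u = u * (δ v : G) ∨ fixVal φ z q₀ = 1) → ∏ p ∈ F, fixVal φ w p = 1 := by
    intro v u hv hu hv1 hu1 huv hcase
    have huv1 : ((v * u : E) : E ⧸ St) ≠ 1 := by
      rw [QuotientGroup.mk_mul]; exact fun h => huv (by rw [← hqinv (v : E ⧸ St)]; exact (eq_inv_of_mul_eq_one_right h))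
    have hcom : ∀ p ∈ F, (u : G) • ((v : G) • p) = (v : G) • ((u : G) • p) := by
      intro p hp
      rw [smul_smul, smul_smul]
      rcases S.comm _ u.2 _ v.2 with h | h
      · rw [h]
      · rw [h, mul_smul]
        have hm : (v : G) * u = ((v * u : E) : G) := rfl
        obtain ⟨⟨k, rfl⟩, -⟩ := (hFm p).mp hp
        rw [hm, smul_smul _ (k : G), smul_smul z, ← mul_assoc, ← S.central _ (S.le (v * u).2), mul_assoc,
          ← S.central _ (S.le k.2), ← mul_assoc, mul_smul, hzq₀]
    let B : G ⧸ H → Finset (G ⧸ H) := fun p => {p, (v : G) • p, (u : G) • p, (v : G) • ((u : G) • p)}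
    rw [← Finset.prod_fiberwise_of_maps_to (g := B) (t := F.image B) (fun q hq => Finset.mem_image_of_mem _ hq)]
    refine Finset.prod_eq_one fun b hb => ?_
    obtain ⟨p, hp, rfl⟩ := Finset.mem_image.mp hb
    have hvp := hmove v hv p hp
    have hup := hmove u hu p hp
    have hvup := hmove v hv _ hup
    have hBv : B ((v : G) • p) = B p := by
      ext t
      simp only [B, Finset.mem_insert, Finset.mem_singleton, hinvol v p hp, hcom p hp, hinvol v _ hup]
      tauto
    have hBu : B ((u : G) • p) = B p := by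
      ext t
      simp only [B, Finset.mem_insert, Finset.mem_singleton, hinvol u p hp]
      tauto
    have hBvu : B ((v : G) • ((u : G) • p)) = B p := by
      rw [← hBu]
      ext t
      simp only [B, Finset.mem_insert, Finset.mem_singleton, hinvol v _ hup, hcom _ hup, hinvol u p hp, hcom p hp]
      have := hinvol v _ (hmove u hu _ hup)
      simp only [hinvol u p hp] at this
      simp only [this]
      tauto
    have hfib : F.filter (fun q => B q = B p) = B p := by
      ext t
      simp only [Finset.mem_filter]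
      constructor
      · rintro ⟨-, ht⟩; rw [← ht]; simp [B]
      · intro ht
        simp only [B, Finset.mem_insert, Finset.mem_singleton] at ht
        rcases ht with rfl | rfl | rfl | rfl
        · exact ⟨hp, rfl⟩
        · exact ⟨hvp, hBv⟩
        · exact ⟨hup, hBu⟩
        · exact ⟨hvup, hBvu⟩
    rw [hfib]
    have n1 := hfree v hv1 p hp
    have n2 := hfree u hu1 p hp
    have n3 := hfree (v * u) huv1 p hp
    rw [Subgroup.coe_mul, mul_smul] at n3
    have n4 : (v : G) • p ≠ (u : G) • p := fun h => n3 (by rw [← h, hinvol v p hp])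
    have n5 : (v : G) • p ≠ (v : G) • ((u : G) • p) := fun h => n2 (MulAction.injective _ h).symm
    have n6 : (u : G) • p ≠ (v : G) • ((u : G) • p) := fun h => hfree v hv1 _ hup h.symm
    simp only [B]
    rw [Finset.prod_insert (by simp [Ne.symm n1, Ne.symm n2, Ne.symm n3]), Finset.prod_insert (by simp [n4, n5]),
      Finset.prod_pair n6]
    have hwp := ((hFm p).mp hp).2
    have hwup := ((hFm _).mp hup).2
    obtain ⟨e1, hd1⟩ := hval v p hwp ((hFm _).mp hvp).2
    obtain ⟨e2, hd2⟩ := hval v _ hwup ((hFm _).mp hvup).2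
    have hc : fixVal φ (δ v : G) ((u : G) • p) = fixVal φ (δ v : G) p := by
      rw [fixVal_smul]
      rcases S.comm _ (δ v).2 _ u.2 with h | h
      · rw [mul_assoc, h, inv_mul_cancel_left]
      · rcases hcase with h' | h'
        · rw [mul_assoc, h', inv_mul_cancel_left]
        · rw [mul_assoc, h, ← mul_assoc, S.central _ (inv_mem (S.le u.2)), mul_assoc, inv_mul_cancel_left,
            fixVal_mul φ (hzF p hp) hd1]
          obtain ⟨⟨k, rfl⟩, -⟩ := (hFm p).mp hp
          rw [fixVal_smul φ z (k : G) q₀, show (k : G)⁻¹ * z * k = z by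
            rw [mul_assoc, ← S.central _ (S.le k.2), inv_mul_cancel_left], h', one_mul]
    rw [e1, e2, hc]
    exact quad_prod hA _ _ _
  have h64' : St.index ≤ 4 → fixVal φ z q₀ = 1 := zval_of_index_le_four S φ hzq₀ h64
  by_cases hall : ∀ k : E, δq k = 1
  · obtain ⟨vq, hvq⟩ : ∃ x : E ⧸ St, x ≠ 1 := by
      haveI : Nontrivial (E ⧸ St) := Finite.one_lt_card_iff_nontrivial.mp (by
        rw [hcardQ]; have := St.index_ne_zero_of_finite; omega)
      exact exists_ne 1
    obtain ⟨v, rfl⟩ := QuotientGroup.mk_surjective vq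
    set b := δ v
    by_cases hu : ∃ u : E, (b : G) * u = u * b ∧ (u : E ⧸ St) ≠ 1 ∧ (u : E ⧸ St) ≠ v
    · obtain ⟨u, hu1, hu2, hu3⟩ := hu
      exact hquad v u (hall v) (hall u) hvq hu2 hu3 (Or.inl hu1)
    push Not at hu
    have hC : ∀ u : E, (b : G) * u = u * b → (u : E ⧸ St) = 1 ∨ (u : E ⧸ St) = v := fun u h => by
      by_cases h1 : (u : E ⧸ St) = 1
      · exact Or.inl h1
      · exact Or.inr (hu u h h1)
    obtain ⟨e, he⟩ : ∃ e : E, ∀ k : E, (b : G) * k = k * b ∨ (b : G) * (e⁻¹ * k : E) = (e⁻¹ * k : E) * b := by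
      by_cases h : ∀ k : E, (b : G) * k = k * b
      · exact ⟨1, fun k => Or.inl (h k)⟩
      push Not at h
      obtain ⟨e, he⟩ := h
      refine ⟨e, fun k => ?_⟩
      by_cases hk : (b : G) * k = k * b
      · exact Or.inl hk
      · right
        have he2 := (S.comm _ b.2 _ e.2).resolve_left he
        have hk2 := (S.comm _ b.2 _ k.2).resolve_left hk
        have hz2 : (e : G) * b = z * (b * e) := by rw [he2, ← mul_assoc z z, S.zz, one_mul]
        have hk3 : (k : G) * b = z * (b * k) := by rw [hk2, ← mul_assoc z z, S.zz, one_mul]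
        rw [Subgroup.coe_mul, Subgroup.coe_inv]
        exact (inv_mul_comm_of hz2 hk3).symm
    have hidx4 : St.index ≤ 4 := index_le_four St v e fun k => by
      rcases he k with h | h
      · rcases hC k h with h' | h' <;> simp [h']
      · have hk : (k : E ⧸ St) = (e : E ⧸ St) * ((e⁻¹ * k : E) : E ⧸ St) := by
          rw [← QuotientGroup.mk_mul, mul_inv_cancel_left]
        rcases hC _ h with h' | h'
        · rw [hk, h', mul_one]; simp
        · rw [hk, h', hqcomm]; simp
    obtain ⟨uq, hu1, hu2⟩ : ∃ x : E ⧸ St, x ≠ 1 ∧ x ≠ v := by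
      by_contra hcon
      push Not at hcon
      haveI := Fintype.ofFinite (E ⧸ St)
      have h2 : Fintype.card (E ⧸ St) ≤ 2 := by
        rw [← Finset.card_univ]
        refine (Finset.card_le_card (t := {1, (v : E ⧸ St)}) fun x _ => ?_).trans Finset.card_le_two
        by_cases hx : x = 1
        · simp [hx]
        · simp [hcon x hx]
      rw [← Nat.card_eq_fintype_card, hcardQ] at h2
      have := St.index_ne_zero_of_finite
      omega
    obtain ⟨u, rfl⟩ := QuotientGroup.mk_surjective uq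
    exact hquad v u (hall v) (hall u) hvq hu1 hu2 (Or.inr (h64' hidx4))
  push Not at hall
  obtain ⟨v', hv'⟩ := hall
  set v := δ v'
  have hv1 : (v : E ⧸ St) ≠ 1 := hv'
  have hδδ : ∀ k : E, ((δ (δ k) : E) : G) = 1 ∨ ((δ (δ k) : E) : G) = z := by
    intro k
    have e : w * (δ k : G) * w⁻¹ = (δ k : G)⁻¹ := by
      simp only [δ, mul_inv_rev, inv_inv, hwz, mul_assoc, ← mul_assoc w w, hww, one_mul, mul_one]
    show (δ k : G)⁻¹ * (w * (δ k : G) * w⁻¹) = 1 ∨ (δ k : G)⁻¹ * (w * (δ k : G) * w⁻¹) = z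
    rw [e, ← mul_inv_rev]
    rcases S.sq _ (δ k).2 with h | h
    · left; rw [h, inv_one]
    · right; rw [h, inv_eq_of_mul_eq_one_right S.zz]
  have hδδq : ∀ k : E, δq (δ k) = 1 := by
    intro k
    show ((δ (δ k) : E) : E ⧸ St) = 1
    rw [QuotientGroup.eq_one_iff]
    show ((δ (δ k) : E) : G) • q₀ = q₀
    rcases hδδ k with h | h <;> rw [h]
    · exact one_smul G q₀
    · exact hzq₀
  by_cases hu : ∃ u : E, δq u = 1 ∧ (u : E ⧸ St) ≠ 1 ∧ (u : E ⧸ St) ≠ v
  · obtain ⟨u, hu1, hu2, hu3⟩ := hu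
    refine hquad v u (hδδq v') hu1 hv1 hu2 hu3 (Or.inl ?_)
    rcases hδδ v' with h | h <;> rw [h]
    · rw [one_mul, mul_one]
    · exact (S.central _ (S.le u.2)).symm
  push Not at hu
  have hK : ∀ u : E, δq u = 1 → (u : E ⧸ St) = 1 ∨ (u : E ⧸ St) = v := fun u h => by
    by_cases h1 : (u : E ⧸ St) = 1
    · exact Or.inl h1
    · exact Or.inr (hu u h h1)
  have hidx4 : St.index ≤ 4 := index_le_four St v v' fun k => by
    rcases hK _ (hδδq k) with h | h
    · rcases hK k h with h' | h' <;> simp [h']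
    · have hk : δq (v'⁻¹ * k) = 1 := by
        rw [map_mul, map_inv]
        show (v : E ⧸ St)⁻¹ * (δ k : E ⧸ St) = 1
        rw [h, inv_mul_cancel]
      have hk' : (k : E ⧸ St) = (v' : E ⧸ St) * ((v'⁻¹ * k : E) : E ⧸ St) := by
        rw [← QuotientGroup.mk_mul, mul_inv_cancel_left]
      rcases hK _ hk with h' | h'
      · rw [hk', h', mul_one]; simp
      · rw [hk', h', hqcomm]; simp
  have hvF : (v : G) • q₀ ∈ F := hmove v (hδδq v') q₀ ((hFm q₀).mpr ⟨⟨1, one_smul G q₀⟩, hwq₀⟩)
  have hF2 : F = {q₀, (v : G) • q₀} := by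
    ext p
    rw [Finset.mem_insert, Finset.mem_singleton]
    constructor
    · intro hp
      obtain ⟨⟨k, rfl⟩, hwp⟩ := (hFm p).mp hp
      rcases hK k ((hker k).mpr hwp) with h | h
      · left; exact ((QuotientGroup.eq_one_iff k).mp h : (k : G) • q₀ = q₀)
      · right
        have := QuotientGroup.eq.mp h.symm
        have h' : ((v⁻¹ * k : E) : G) • q₀ = q₀ := this
        rwa [Subgroup.coe_mul, Subgroup.coe_inv, mul_smul, inv_smul_eq_iff] at h'
    · rintro (rfl | rfl)
      · exact (hFm _).mpr ⟨⟨1, one_smul G _⟩, hwq₀⟩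
      · exact hvF
  rw [hF2, Finset.prod_pair (hfree v hv1 q₀ ((hFm q₀).mpr ⟨⟨1, one_smul G q₀⟩, hwq₀⟩)).symm,
    (hval v q₀ hwq₀ ((hFm _).mp hvF).2).1, ← mul_assoc, hA, one_mul]
  rcases hδδ v' with h | h <;> rw [h]
  · exact fixVal_one φ q₀
  · exact h64' hidx4

/-- Let G be a finite group with no nontrivial 2-group quotient (O^2(G) = G), z an involution of G with H = C_G(z), and suppose E = O_2(H) is extraspecial with C_G(E) ≤ E and of order 2^(2n+1) with n ≥ 3. If H has a normal subgroup of index 2, then z is conjugate in G to an element of E other than z. -/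
theorem result {G : Type*} [Group G] [Finite G] (hres : Cfsg.pResidual 2 G = ⊤) (z : G) (hz : orderOf z = 2)
    (E : Subgroup G) (hE : E = (Cfsg.pCore 2 ↥(Subgroup.centralizer ({z} : Set G))).map (Subgroup.centralizer ({z} : Set G)).subtype)
    (hext : Cfsg.IsExtraspecial 2 ↥E) (hcent : Subgroup.centralizer (E : Set G) ≤ E) (n : ℕ) (hn : 3 ≤ n) (hcard : Nat.card ↥E = 2 ^ (2 * n + 1))
    (K : Subgroup G) (hKH : K ≤ Subgroup.centralizer ({z} : Set G))
    (hKn : ∀ h ∈ Subgroup.centralizer ({z} : Set G), K.map (MulAut.conj h).toMonoidHom = K)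
    (hKi : K.relIndex (Subgroup.centralizer ({z} : Set G)) = 2) :
    ∃ g : G, g * z * g⁻¹ ∈ E ∧ g * z * g⁻¹ ≠ z := by
  classical
  haveI : Fact (Nat.Prime 2) := ⟨Nat.prime_two⟩
  set H := Subgroup.centralizer ({z} : Set G) with hHdef
  have hEH : E ≤ H := by rw [hE]; exact Subgroup.map_subtype_le _
  have hzc : ∀ a ∈ E, a * z = z * a := fun a ha => (Subgroup.mem_centralizer_singleton_iff.mp (hEH ha))
  have hzz : z * z = 1 := by rw [← sq, ← hz]; exact pow_orderOf_eq_one z
  have hz1 : z ≠ 1 := fun h => by rw [h, orderOf_one] at hz; omega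
  have hzE : z ∈ E := hcent (Subgroup.mem_centralizer_iff.mpr fun a ha => hzc a ha)
  obtain ⟨⟨hp, hfr, hder⟩, hc2⟩ := hext
  have hzmem : (⟨z, hzE⟩ : E) ∈ Subgroup.center E := Subgroup.mem_center_iff.mpr fun b => Subtype.ext (hzc b b.2)
  have hcenE : ∀ a : E, a ∈ Subgroup.center E → a = 1 ∨ a = ⟨z, hzE⟩ := by
    intro a ha
    by_contra hcon
    push Not at hcon
    haveI := Fintype.ofFinite (Subgroup.center E)
    have h3 : ({1, ⟨⟨z, hzE⟩, hzmem⟩, ⟨a, ha⟩} : Finset (Subgroup.center E)).card ≤ 2 :=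
      (Finset.card_le_univ _).trans (by rw [← Nat.card_eq_fintype_card, hc2])
    rw [Finset.card_insert_of_notMem (by simp [Subtype.ext_iff, Ne.symm hz1]; exact fun h => hcon.1 (Subtype.ext h.symm)),
      Finset.card_pair (fun h => hcon.2 (congrArg Subtype.val h).symm)] at h3
    omega
  have hcen : ∀ a ∈ E, (∀ b ∈ E, a * b = b * a) → a = 1 ∨ a = z := fun a ha h =>
    (hcenE ⟨a, ha⟩ (Subgroup.mem_center_iff.mpr fun b => Subtype.ext (h b b.2).symm)).imp
      (congrArg Subtype.val) (congrArg Subtype.val)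
  have hcomm : ∀ a ∈ E, ∀ b ∈ E, a * b = b * a ∨ a * b = z * (b * a) := by
    intro a ha b hb
    have h : ⁅(⟨a, ha⟩ : E), ⟨b, hb⟩⁆ ∈ Subgroup.center E := by
      rw [← hder, commutator_def]; exact Subgroup.commutator_mem_commutator (Subgroup.mem_top _) (Subgroup.mem_top _)
    rcases hcenE _ h with h' | h'
    · left
      have := congrArg Subtype.val h'
      simp only [commutatorElement_def, Subgroup.coe_mul, Subgroup.coe_inv, Subgroup.coe_one] at this
      rwa [mul_inv_eq_one, mul_inv_eq_iff_eq_mul] at this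
    · right
      have := congrArg Subtype.val h'
      simp only [commutatorElement_def, Subgroup.coe_mul, Subgroup.coe_inv] at this
      rw [mul_inv_eq_iff_eq_mul, mul_inv_eq_iff_eq_mul, mul_assoc] at this
      exact this
  have hsq : ∀ a ∈ E, a * a = 1 ∨ a * a = z := by
    intro a ha
    have h : (⟨a, ha⟩ : E) * ⟨a, ha⟩ ∈ frattini E := by
      rw [← sq]; exact Cfsg.Agent.Grp.pGroup_pow_mem_frattini hp _
    rw [hfr] at h
    exact (hcenE _ h).imp (congrArg Subtype.val) (congrArg Subtype.val)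
  have hzder : ∃ a ∈ E, ∃ b ∈ E, a * b * a⁻¹ * b⁻¹ = z := by
    by_contra hcon
    push Not at hcon
    have hbot : commutator E = ⊥ := by
      rw [commutator_def, eq_bot_iff, Subgroup.commutator_le]
      intro a _ b _
      rw [Subgroup.mem_bot]
      refine Subtype.ext ?_
      simp only [commutatorElement_def, Subgroup.coe_mul, Subgroup.coe_inv, Subgroup.coe_one]
      rcases hcomm a a.2 b b.2 with h | h
      · rw [h]; group
      · exact absurd (by rw [h]; group) (hcon a a.2 b b.2)
    rw [← hder, hbot, Subgroup.card_bot] at hc2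
    omega
  have hnorm : ∀ h ∈ H, ∀ e ∈ E, h * e * h⁻¹ ∈ E := by
    intro h hh e he
    rw [hE] at he ⊢
    obtain ⟨e', he', rfl⟩ := he
    exact ⟨⟨h, hh⟩ * e' * ⟨h, hh⟩⁻¹, (Cfsg.Agent.Grp.pCore_isNormal (p := 2) (G := H)).conj_mem _ he' _, rfl⟩
  have hfixed : ∀ q : G ⧸ H, (∀ k ∈ E, k • q = q) → q = ((1 : G) : G ⧸ H) := by
    intro q hq
    obtain ⟨x, rfl⟩ := QuotientGroup.mk_surjective q
    have hmem : x * z * x⁻¹ ∈ Subgroup.centralizer (E : Set G) := Subgroup.mem_centralizer_iff.mpr fun k hk => by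
      have h := hq k hk
      rw [MulAction.Quotient.smul_mk, eq_comm, QuotientGroup.eq, smul_eq_mul] at h
      have hc := Subgroup.mem_centralizer_singleton_iff.mp h
      have := congrArg (fun w => x * w * x⁻¹) hc
      simpa [mul_assoc] using this
    have hzx : x * z * x⁻¹ = z := by
      rcases hcen _ (hcent hmem) (fun b hb => (Subgroup.mem_centralizer_iff.mp hmem b hb).symm) with h | h
      · exact absurd (by simpa using h) hz1
      · exact h
    refine (QuotientGroup.eq.mpr ?_).symm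
    rw [inv_one, one_mul]
    exact Subgroup.mem_centralizer_singleton_iff.mpr (mul_inv_eq_iff_eq_mul.mp hzx)
  have S : Setting z H E := ⟨hEH, hzE, hzz, fun h hh => Subgroup.mem_centralizer_singleton_iff.mp hh, hnorm,
    hcomm, hcen, hsq, hzder, hfixed⟩
  by_contra hcon
  push Not at hcon
  have h128 : 128 ≤ Nat.card E := by
    rw [hcard]
    exact le_trans (by norm_num) (Nat.pow_le_pow_right two_pos (show 7 ≤ 2 * n + 1 by omega))
  have hno : ∀ r : G ⧸ H, r ≠ ((1 : G) : G ⧸ H) → z • r = r → (MulAction.stabilizer E r).index ≠ 2 :=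
    fun r hr hzr hi => index_two_absurd S hz1 rfl
      (fun g hg => hcent (Subgroup.mem_centralizer_iff.mpr fun e he => (hg e he).symm)) hcon h128 r hr hzr hi
  have hK2 : (K.subgroupOf H).index = 2 := hKi
  haveI : (K.subgroupOf H).Normal := Subgroup.normal_of_index_eq_two hK2
  let φ : H →* H ⧸ K.subgroupOf H := QuotientGroup.mk' _
  have hA : ∀ a : H ⧸ K.subgroupOf H, a * a = 1 := fun a => by
    induction a using QuotientGroup.induction_on with
    | H x => exact (QuotientGroup.eq_one_iff _).mpr (Subgroup.mul_self_mem_of_index_two hK2 x)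
  letI : CommGroup (H ⧸ K.subgroupOf H) :=
    { (inferInstance : Group (H ⧸ K.subgroupOf H)) with
      mul_comm := fun a b => by
        have h := hA (a * b)
        have ha : a⁻¹ = a := inv_eq_of_mul_eq_one_right (hA a)
        have hb : b⁻¹ = b := inv_eq_of_mul_eq_one_right (hA b)
        calc a * b = (a * b)⁻¹ := (inv_eq_of_mul_eq_one_right h).symm
          _ = b * a := by rw [mul_inv_rev, ha, hb] }
  have hV : ∀ g : G, φ.transfer g = 1 := fun g => by
    have hg : g ∈ pResidual 2 G := hres ▸ Subgroup.mem_top g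
    refine Subgroup.closure_induction (fun x hx => ?_) (map_one _) (fun a b _ _ ha hb => by rw [map_mul, ha, hb, one_mul])
      (fun a _ ha => by rw [map_inv, ha, inv_one]) hg
    have h2 : φ.transfer x ^ 2 = 1 := by rw [sq]; exact hA _
    have h1 : φ.transfer x ^ orderOf x = 1 := by rw [← map_pow, pow_orderOf_eq_one, map_one]
    have := pow_gcd_eq_one.mpr ⟨h1, h2⟩
    rwa [show Nat.gcd (orderOf x) 2 = 1 from hx, pow_one] at this
  have hzval : ∀ r : G ⧸ H, r ≠ ((1 : G) : G ⧸ H) → z • r = r → fixVal φ z r = 1 := by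
    intro r _ hzr
    have hm := (smul_eq_iff r).1 hzr
    rw [fixVal, dif_pos hm, ← involution_transfer S hp hA φ (by omega) hno _ hm
      (by rw [show r.out⁻¹ * z * r.out * (r.out⁻¹ * z * r.out) = r.out⁻¹ * (z * z) * r.out by group, hzz]; group)]
    exact hV _
  have htop : K.subgroupOf H = ⊤ := by
    refine (Subgroup.eq_top_iff' _).mpr fun x => ?_
    rw [← QuotientGroup.eq_one_iff (N := K.subgroupOf H)]
    show φ x = 1
    rw [← transfer_eq_self_of_kills S hp hA φ hzval (fun r hr hzr hi => absurd hi (hno r hr hzr)) x]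
    exact hV _
  rw [htop, Subgroup.index_top] at hK2
  omega

end Cfsg.Agent.S3300
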