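import Cfsg.Statements.S5914
import Mathlib
import Cfsg.Agent.Lib.Block.MinimalPower
-- import your own Cfsg.Agent.* helpers here

set_option autoImplicit false
open Cfsg

namespace Cfsg.Agent.S5914

set_option linter.style.haveILetI false

universe w

theorem forward {G : Type w} [Group G] [Finite G] [Nontrivial G]
    (h : ∀ H : Subgroup G, H.Characteristic → H = ⊥ ∨ H = ⊤) :
    ∃ (S : Type) (_ : Group S) (_ : IsSimpleGroup S) (n : ℕ), 1 ≤ n ∧ Nonempty (G ≃* (Fin n → S)) := by
  classical
  let X := G ⋊[MonoidHom.id (MulAut G)] MulAut G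
  haveI : Finite X := Finite.of_equiv _ SemidirectProduct.equivProd.symm
  let ι : G →* X := SemidirectProduct.inl
  have hι : Function.Injective ι := SemidirectProduct.inl_injective
  haveI hNn : ι.range.Normal := by
    rw [SemidirectProduct.range_inl_eq_ker_rightHom]; infer_instance
  have hNb : ι.range ≠ ⊥ := by
    obtain ⟨g, hg⟩ := exists_ne (1 : G)
    intro hb
    exact hg (hι (by rw [map_one]; exact Subgroup.mem_bot.1 (hb ▸ ⟨g, rfl⟩)))
  obtain ⟨T, hT, m, hs, hm, ⟨e⟩⟩ := Block.MinimalPower.exists_simple_power ι.range hNb (fun M hM hle => by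
    rcases h (M.comap ι) (Subgroup.characteristic_iff_comap_eq.2 fun φ => by
      ext g
      simp only [Subgroup.mem_comap]
      change ι (φ g) ∈ M ↔ ι g ∈ M
      have he : ι (φ g) = SemidirectProduct.inr φ * ι g * SemidirectProduct.inr φ⁻¹ :=
        SemidirectProduct.inl_aut φ g
      rw [he, map_inv]
      exact ⟨fun hx => by simpa [mul_assoc] using hM.conj_mem' _ hx (SemidirectProduct.inr φ),
        fun hx => hM.conj_mem _ hx _⟩) with hb | ht
    · refine Or.inl (le_bot_iff.1 fun x hx => ?_)
      obtain ⟨g, rfl⟩ := hle hx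
      have : g ∈ M.comap ι := hx
      rw [hb, Subgroup.mem_bot] at this
      simp [this]
    · refine Or.inr (le_antisymm hle ?_)
      rintro _ ⟨g, rfl⟩
      exact (Subgroup.eq_top_iff' _).1 ht g)
  exact ⟨T, hT, hs, m, hm, ⟨(MonoidHom.ofInjective hι).trans e⟩⟩

theorem backward {G : Type w} [Group G] [Finite G] {S : Type} [Group S] [IsSimpleGroup S] {n : ℕ}
    (e : G ≃* (Fin n → S)) (H₀ : Subgroup G) (hH : H₀.Characteristic) : H₀ = ⊥ ∨ H₀ = ⊤ := by
  classical
  set H := H₀.map e.toMonoidHom with hHdef
  have hinv : ∀ ψ : MulAut (Fin n → S), ∀ f ∈ H, ψ f ∈ H := by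
    rintro ψ _ ⟨g, hg, rfl⟩
    have := Subgroup.characteristic_iff_comap_eq.1 hH ((e.trans ψ).trans e.symm)
    refine ⟨((e.trans ψ).trans e.symm) g, ?_, by simp⟩
    have hg' : g ∈ H₀.comap ((e.trans ψ).trans e.symm).toMonoidHom := by rw [this]; exact hg
    exact hg'
  by_cases hb : ∀ f ∈ H, ∀ i, f i = 1
  · left
    refine le_bot_iff.1 fun g hg => ?_
    have h1 : e g = 1 := funext (hb _ ⟨g, hg, rfl⟩)
    exact Subgroup.mem_bot.2 (e.injective (h1.trans e.map_one.symm))
  right
  push Not at hb
  obtain ⟨f, hf, i, hfi⟩ := hb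
  suffices hsingle : ∃ j, ∀ s, Pi.mulSingle j s ∈ H by
    obtain ⟨j, hj⟩ := hsingle
    have hall : ∀ k s, Pi.mulSingle k s ∈ H := by
      intro k s
      let ψ : MulAut (Fin n → S) :=
        { toFun := fun f => f ∘ Equiv.swap j k
          invFun := fun f => f ∘ Equiv.swap j k
          left_inv := fun f => by funext x; simp
          right_inv := fun f => by funext x; simp
          map_mul' := fun a b => rfl }
      have h1 := hinv ψ _ (hj s)
      convert h1 using 1
      funext x
      change (Pi.mulSingle k s : Fin n → S) x = (Pi.mulSingle j s : Fin n → S) (Equiv.swap j k x)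
      by_cases hx : x = k
      · subst hx; simp
      · by_cases hxj : x = j
        · subst hxj; simp [Ne.symm hx, hx]
        · simp [Equiv.swap_apply_of_ne_of_ne hxj hx, hx, hxj]
    have htop : ∀ v : Fin n → S, v ∈ H := fun v => by
      rw [← Finset.noncommProd_mulSingle v]
      exact Subgroup.noncommProd_mem _ _ fun k _ => hall k _
    refine (Subgroup.eq_top_iff' _).2 fun g => ?_
    obtain ⟨g', hg', hgg⟩ := htop (e g)
    exact e.injective hgg ▸ hg'
  refine ⟨i, ?_⟩
  by_cases hab : ∀ a b : S, a * b = b * a
  · by_cases hother : ∃ j, j ≠ i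
    · obtain ⟨j, hji⟩ := hother
      refine ?_
      letI : CommGroup S := { ‹Group S› with mul_comm := hab }
      let ψ : MulAut (Fin n → S) :=
        { toFun := fun v => v * Pi.mulSingle j (v i)
          invFun := fun v => v * (Pi.mulSingle j (v i))⁻¹
          left_inv := fun v => by
            funext x
            simp [Pi.mulSingle_eq_of_ne (Ne.symm hji)]
          right_inv := fun v => by
            funext x
            simp [Pi.mulSingle_eq_of_ne (Ne.symm hji)]
          map_mul' := fun a b => by
            change a * b * Pi.mulSingle j ((a * b) i) = a * Pi.mulSingle j (a i) * (b * Pi.mulSingle j (b i))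
            rw [Pi.mul_apply, Pi.mulSingle_mul]; exact mul_mul_mul_comm _ _ _ _ }
      have h1 : Pi.mulSingle j (f i) ∈ H := by
        have := mul_mem (inv_mem hf) (hinv ψ f hf)
        simpa [ψ] using this
      have hK : (H.comap (MonoidHom.mulSingle (fun _ : Fin n => S) j)) = ⊤ :=
        (IsSimpleGroup.eq_bot_or_eq_top_of_normal _ ⟨fun a ha b => by
          rwa [mul_comm b, mul_inv_cancel_right]⟩).resolve_left fun hb' => hfi (by
          have hm : f i ∈ H.comap (MonoidHom.mulSingle (fun _ : Fin n => S) j) := h1
          rwa [hb', Subgroup.mem_bot] at hm)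
      intro s
      -- move back to i
      let σ : MulAut (Fin n → S) :=
        { toFun := fun v => v ∘ Equiv.swap j i
          invFun := fun v => v ∘ Equiv.swap j i
          left_inv := fun v => by funext x; simp
          right_inv := fun v => by funext x; simp
          map_mul' := fun a b => rfl }
      have h2 := hinv σ _ ((Subgroup.eq_top_iff' _).1 hK s)
      convert h2 using 1
      funext x
      change (Pi.mulSingle i s : Fin n → S) x = (Pi.mulSingle j s : Fin n → S) (Equiv.swap j i x)
      by_cases hx : x = i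
      · subst hx; simp
      · by_cases hxj : x = j
        · subst hxj; simp [Ne.symm hx, hx]
        · simp [Equiv.swap_apply_of_ne_of_ne hxj hx, hx, hxj]
    · push Not at hother
      letI : CommGroup S := { ‹Group S› with mul_comm := hab }
      have hfe : f = Pi.mulSingle i (f i) := funext fun x => by rw [hother x]; simp
      have hK : (H.comap (MonoidHom.mulSingle (fun _ : Fin n => S) i)) = ⊤ :=
        (IsSimpleGroup.eq_bot_or_eq_top_of_normal _ ⟨fun a ha b => by
          rwa [mul_comm b, mul_inv_cancel_right]⟩).resolve_left fun hb' => hfi (by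
          have hm : f i ∈ H.comap (MonoidHom.mulSingle (fun _ : Fin n => S) i) :=
            show Pi.mulSingle i (f i) ∈ H from hfe ▸ hf
          rwa [hb', Subgroup.mem_bot] at hm)
      exact fun s => (Subgroup.eq_top_iff' _).1 hK s
  · have hHn : ∀ v a, a ∈ H → v * a * v⁻¹ ∈ H := fun v a ha => hinv (MulAut.conj v) a ha
    push Not at hab
    obtain ⟨a₀, b₀, hab⟩ := hab
    have hcen : ∃ s : S, s * f i ≠ f i * s := by
      by_contra hc
      push Not at hc
      have : Subgroup.center S = ⊤ := (IsSimpleGroup.eq_bot_or_eq_top_of_normal _ inferInstance).resolve_left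
        fun hb' => hfi (by
          have hm : f i ∈ Subgroup.center S := Subgroup.mem_center_iff.2 hc
          rwa [hb', Subgroup.mem_bot] at hm)
      have hm := (Subgroup.eq_top_iff' _).1 this a₀
      exact hab ((Subgroup.mem_center_iff.1 hm b₀).symm)
    obtain ⟨s, hs⟩ := hcen
    have h1 : Pi.mulSingle i (s * f i * s⁻¹ * (f i)⁻¹) ∈ H := by
      have h2 := mul_mem (hHn (Pi.mulSingle i s) f hf) (inv_mem hf)
      convert h2 using 1
      funext x
      by_cases hx : x = i
      · subst hx; simp
      · simp [Pi.mulSingle_eq_of_ne hx]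
    have hK : (H.comap (MonoidHom.mulSingle (fun _ : Fin n => S) i)) = ⊤ :=
      (IsSimpleGroup.eq_bot_or_eq_top_of_normal _ ⟨fun a ha b => by
        have h3 := hHn (Pi.mulSingle i b) _ ha
        change Pi.mulSingle i (b * a * b⁻¹) ∈ H
        convert h3 using 1
        simp [Pi.mulSingle_mul, Pi.mulSingle_inv]⟩).resolve_left fun hb' => hs (by
        have hm : s * f i * s⁻¹ * (f i)⁻¹ ∈ H.comap (MonoidHom.mulSingle (fun _ : Fin n => S) i) := h1
        rw [hb', Subgroup.mem_bot, mul_inv_eq_one, mul_inv_eq_iff_eq_mul] at hm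
        exact hm)
    exact fun t => (Subgroup.eq_top_iff' _).1 hK t

/-- A non-trivial finite group G is characteristically simple (its only characteristic subgroups are 1 and G) if and only if G is isomorphic to a direct power S^n (n ≥ 1) of some simple group S (possibly cyclic of prime order). -/
theorem result {G : Type*} [Group G] [Finite G] [Nontrivial G] :
    (∀ H : Subgroup G, H.Characteristic → H = ⊥ ∨ H = ⊤) ↔
    ∃ (S : Type) (_ : Group S) (_ : IsSimpleGroup S) (n : ℕ), 1 ≤ n ∧ Nonempty (G ≃* (Fin n → S)) := by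
  constructor
  · exact forward
  · rintro ⟨S, _, _, n, -, ⟨e⟩⟩ H hH
    exact backward e H hH

end Cfsg.Agent.S5914
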