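import Cfsg.Statements.S2821
import Cfsg.Agent.Lib.Invol.PReducedSub
-- import your own Cfsg.Agent.* helpers here

set_option autoImplicit false
open Cfsg

namespace Cfsg.Agent.S2821

/-- Let H be a finite group, p a prime, T a Sylow p-subgroup and L a subgroup of characteristic p containing T; let Y_L be the largest p-reduced normal subgroup of L (the join of the normal elementary abelian p-subgroups V of L with O_p(L/C_L(V)) = 1). Then T₀ := C_T(Y_L) is a Sylow p-subgroup of C_H(Y_L); moreover O_p(L) ≤ T₀ ≤ C_L(Y_L) and Ω₁(Z(T)) ≤ Z_L ≤ Y_L ≤ Ω₁(Z(O_p(L))), where Z_L is generated by the Ω₁(Z(S)) over the Sylow p-subgroups S of L. -/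
theorem result {H : Type*} [Group H] [Finite H] {p : ℕ} [Fact p.Prime] (T : Sylow p H) (L : Subgroup H) (hTL : (T : Subgroup H) ≤ L) (hL : Subgroup.centralizer (Cfsg.pCore p ↥L : Set ↥L) ≤ Cfsg.pCore p ↥L) (T₀ : Subgroup H) (hT₀ : T₀ = (T : Subgroup H) ⊓ Subgroup.centralizer (((Cfsg.largestPReducedOf p L) : Subgroup H) : Set H)) : (∃ P : Sylow p ↥(Subgroup.centralizer (((Cfsg.largestPReducedOf p L) : Subgroup H) : Set H)), (P : Subgroup ↥(Subgroup.centralizer (((Cfsg.largestPReducedOf p L) : Subgroup H) : Set H))) = T₀.subgroupOf (Subgroup.centralizer (((Cfsg.largestPReducedOf p L) : Subgroup H) : Set H))) ∧ (Cfsg.pCoreOf p L) ≤ T₀ ∧ T₀ ≤ L ⊓ Subgroup.centralizer (((Cfsg.largestPReducedOf p L) : Subgroup H) : Set H) ∧ (Cfsg.omegaOne p ((T : Subgroup H) ⊓ Subgroup.centralizer (((T : Subgroup H) : Subgroup H) : Set H))) ≤ Cfsg.sylowCenterClosure p L ∧ Cfsg.sylowCenterClosure p L ≤ (Cfsg.largestPReducedOf p L) ∧ (Cfsg.largestPReducedOf p L) ≤ (Cfsg.omegaOne p ((Cfsg.pCoreOf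 p L) ⊓ Subgroup.centralizer (((Cfsg.pCoreOf p L) : Subgroup H) : Set H))) := by
  classical
  set Y := Cfsg.largestPReducedOf p L with hY
  have hr := Cfsg.Agent.Invol.redIn_largest (p := p) L
  set C := Subgroup.centralizer (Y : Set H) with hC
  have hQT := Cfsg.Agent.Invol.pCoreOf_le_sylow T hTL
  have hQC : Cfsg.pCoreOf p L ≤ C := Subgroup.le_centralizer_iff.mp hr.centralizes_pCore
  have hTC : (T : Subgroup H) ≤ Subgroup.normalizer (C : Set H) := fun t ht =>
    Subgroup.mem_normalizer_fintype fun c hc => Subgroup.mem_centralizer_iff.mpr fun y hy => by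
      have h1 := Subgroup.mem_centralizer_iff.mp hc _
        ((Subgroup.mem_normalizer_iff''.mp (hr.2.2.1 (hTL ht)) y).mp hy)
      calc y * (t * c * t⁻¹) = t * (t⁻¹ * y * t * c) * t⁻¹ := by group
        _ = t * (c * (t⁻¹ * y * t)) * t⁻¹ := by rw [h1]
        _ = t * c * t⁻¹ * y := by group
  refine ⟨?_, hT₀ ▸ le_inf hQT hQC, hT₀ ▸ inf_le_inf_right _ hTL, ?_, ?_, ?_⟩
  · set X := (T : Subgroup H) ⊔ C with hX
    have hCn : (C.subgroupOf X).Normal :=
      (Subgroup.normal_subgroupOf_iff_le_normalizer le_sup_right).mpr (sup_le hTC Subgroup.le_normalizer)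
    have h := Cfsg.Agent.Grp.sylow_inf_normal_relIndex (T.subtype (le_sup_left : (T : Subgroup H) ≤ X))
      (C.subgroupOf X)
    have hnd : ¬ p ∣ (T₀.subgroupOf C).index := by
      rw [← Subgroup.relIndex, hT₀, Subgroup.inf_relIndex_right,
        ← Subgroup.relIndex_subgroupOf (H := (T : Subgroup H)) (le_sup_right : C ≤ X)]
      exact h
    exact ⟨((T.isPGroup'.to_le (hT₀.le.trans inf_le_left)).comap_subtype).toSylow hnd, rfl⟩
  · refine le_trans ?_ (le_iSup (fun S : Sylow p L => Cfsg.omegaOne p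
      (((S : Subgroup L).map L.subtype) ⊓ Subgroup.centralizer
        (((S : Subgroup L).map L.subtype : Subgroup H) : Set H))) (T.subtype hTL))
    rw [show ((T.subtype hTL : Sylow p L) : Subgroup L).map L.subtype = (T : Subgroup H) from
      Subgroup.map_subgroupOf_eq_of_le hTL]
  · rw [Cfsg.Agent.Invol.sylowCenterClosure_eq L (T.subtype hTL)]
    exact (Cfsg.Agent.Invol.redIn_map (Cfsg.Agent.Invol.closure_centSet_pReduced hL (T.subtype hTL))).le_largest
  · intro y hy
    refine Subgroup.subset_closure ⟨⟨hr.le_pCoreOf hy, ?_⟩, hr.2.1.2 y hy⟩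
    exact hr.centralizes_pCore hy

end Cfsg.Agent.S2821
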