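import Cfsg.Statements.S2803
import Cfsg.Agent.Lib.Invol.PReduced
-- import your own Cfsg.Agent.* helpers here

set_option autoImplicit false
open Cfsg

namespace Cfsg.Agent.S2803

/-- Let L be a finite group and p a prime with C_L(O_p(L)) ≤ O_p(L), T a Sylow p-subgroup, and Y the largest p-reduced normal subgroup of L. Put T_L = C_T(Y) and L_T = N_L(T_L). Then L = L_T · C_L(Y) (elementwise), T_L = O_p(L_T), and Y = Ω₁(Z(T_L)). -/
theorem result {L : Type*} [Group L] [Finite L] {p : ℕ} [Fact p.Prime] (hchar : Subgroup.centralizer (Cfsg.pCore p L : Set L) ≤ Cfsg.pCore p L) (T : Sylow p L) (Y : Subgroup L) (hY : (Cfsg.IsPReducedNormal p Y ∧ ∀ V : Subgroup L, Cfsg.IsPReducedNormal p V → V ≤ Y)) (TL : Subgroup L) (hTL : TL = (T : Subgroup L) ⊓ Subgroup.centralizer (Y : Set L)) : (∀ g : L, ∃ a ∈ Subgroup.normalizer (TL : Set L), ∃ c ∈ Subgroup.centralizer (Y : Set L), g = a * c) ∧ (Cfsg.pCore p ↥(Subgroup.normalizer (TL : Set L))).map (Subgroup.normalizer (TL : Set L)).subtype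 = TL ∧ Y = Cfsg.omegaOne p (TL ⊓ Subgroup.centralizer (TL : Set L)) := by
  classical
  obtain ⟨hYr, hYmax⟩ := hY
  have hYr' := Cfsg.Agent.Invol.pReduced_iff.mp hYr
  have hYn : Y.Normal := hYr.1
  set C := Subgroup.centralizer (Y : Set L) with hC
  have hCn : C.Normal := inferInstance
  have hTLC : TL ≤ C := hTL.le.trans inf_le_right
  set N := Subgroup.normalizer (TL : Set L) with hN
  have hTN : (T : Subgroup L) ≤ N := fun t ht => Subgroup.mem_normalizer_fintype fun x hx => by
    rw [hTL] at hx ⊢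
    exact ⟨(show t * x * t⁻¹ ∈ (T : Subgroup L) from mul_mem (mul_mem ht hx.1) (inv_mem ht)),
      hCn.conj_mem x hx.2 t⟩
  have hp : IsPGroup p ↥(TL.subgroupOf C) :=
    (T.isPGroup'.to_le (hTL.le.trans inf_le_left)).comap_subtype
  have hnd : ¬ p ∣ (TL.subgroupOf C).index := by
    rw [← Subgroup.relIndex, hTL, Subgroup.inf_relIndex_right]
    exact Cfsg.Agent.Grp.sylow_inf_normal_relIndex T C
  set S : Sylow p C := hp.toSylow hnd with hS
  -- the Frattini argument
  have hfr : ∀ g : L, ∃ a ∈ N, ∃ c ∈ C, g = a * c := by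
    intro g
    have h := Sylow.normalizer_sup_eq_top S
    have e : (S : Subgroup C).map C.subtype = TL := Subgroup.map_subgroupOf_eq_of_le hTLC
    rw [e] at h
    obtain ⟨a, ha, c, hc, rfl⟩ := Subgroup.mem_sup_of_normal_right.mp (h.ge (Subgroup.mem_top g))
    exact ⟨a, ha, c, hc, rfl⟩
  -- `O_p(N) = T_L`
  have hcore : (Cfsg.pCore p ↥N).map N.subtype = TL := by
    set R := (Cfsg.pCore p ↥N).map N.subtype with hR
    have hRT : R ≤ (T : Subgroup L) := by
      rintro _ ⟨r, hr, rfl⟩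
      exact Cfsg.Agent.Grp.pCore_le_sylow (T.subtype hTN) hr
    have hRn : ∀ a ∈ N, ∀ r ∈ R, a * r * a⁻¹ ∈ R := by
      rintro a ha _ ⟨r, hr, rfl⟩
      exact ⟨⟨a, ha⟩ * r * ⟨a, ha⟩⁻¹,
        (Cfsg.Agent.Invol.pCore_normal p ↥N).conj_mem r hr _, rfl⟩
    have hRCn : (R ⊔ C).Normal := ⟨fun x hx g => by
      obtain ⟨a, ha, c, hc, rfl⟩ := hfr g
      obtain ⟨r, hr, d, hd, rfl⟩ := Subgroup.mem_sup_of_normal_right.mp hx
      rw [show a * c * (r * d) * (a * c)⁻¹ = (a * r * a⁻¹) * (a * (r⁻¹ * c * r * d * c⁻¹) * a⁻¹) by group]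
      refine mul_mem (Subgroup.mem_sup_left (hRn a ha r hr)) (Subgroup.mem_sup_right (hCn.conj_mem _ ?_ a))
      have := hCn.conj_mem c hc r⁻¹
      rw [inv_inv] at this
      exact mul_mem (mul_mem this hd) (inv_mem hc)⟩
    have hle : R ⊔ C ≤ C := by
      refine hYr'.2.2 _ hRCn fun x hx => ?_
      obtain ⟨r, hr, d, hd, rfl⟩ := Subgroup.mem_sup_of_normal_right.mp hx
      obtain ⟨k, hk⟩ := Cfsg.Agent.Invol.pow_ppow_eq_one_of_mem T.isPGroup' (hRT hr)
      refine ⟨k, ?_⟩
      have he : ((r * d : L) : L ⧸ C) ^ p ^ k = 1 := by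
        rw [QuotientGroup.mk_mul, (QuotientGroup.eq_one_iff d).mpr hd, mul_one, ← QuotientGroup.mk_pow, hk,
          QuotientGroup.mk_one]
      rw [← QuotientGroup.mk_pow, QuotientGroup.eq_one_iff] at he
      exact he
    refine le_antisymm (hTL ▸ le_inf hRT (le_sup_left.trans hle)) fun x hx => ?_
    refine ⟨⟨x, Subgroup.le_normalizer hx⟩, ?_, rfl⟩
    exact Cfsg.Agent.Grp.le_pCore Subgroup.normal_in_normalizer
      (T.isPGroup'.to_le (hTL.le.trans inf_le_left)).comap_subtype hx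
  refine ⟨hfr, hcore, le_antisymm ?_ ?_⟩
  · intro y hy
    refine Subgroup.subset_closure ⟨⟨?_, Subgroup.mem_centralizer_iff.mpr fun x hx =>
      (Subgroup.mem_centralizer_iff.mp (hTLC hx) y hy).symm⟩, hYr'.2.1.2 y hy⟩
    rw [hTL]
    refine ⟨Cfsg.Agent.Grp.pCore_le_sylow T (Cfsg.Agent.Invol.pReduced_le_pCore hYr hy),
      Subgroup.mem_centralizer_iff.mpr fun x hx => Cfsg.Agent.Invol.comm_of_ea hYr'.2.1 hx hy⟩
  · set W := Cfsg.omegaOne p (TL ⊓ Subgroup.centralizer (TL : Set L)) with hW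
    set s := {x : L | x ∈ TL ⊓ Subgroup.centralizer (TL : Set L) ∧ x ^ p = 1} with hs
    set W' := Subgroup.normalClosure s with hW'
    have hQTL : Cfsg.pCore p L ≤ TL := by
      rw [hTL]
      refine le_inf (Cfsg.Agent.Grp.pCore_le_sylow T) ?_
      have := Cfsg.Agent.Invol.pReduced_centralizes_pCore hYr
      rwa [Subgroup.le_centralizer_iff] at this
    have hQn := Cfsg.Agent.Invol.pCore_normal p L
    have hW'Q : W' ≤ Subgroup.centralizer (Cfsg.pCore p L : Set L) :=
      Subgroup.normalClosure_le_normal fun x hx => Subgroup.mem_centralizer_iff.mpr fun q hq =>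
        Subgroup.mem_centralizer_iff.mp hx.1.2 q (hQTL hq)
    have hW'n : W'.Normal := Subgroup.normalClosure_normal
    have hred : Cfsg.IsPReducedNormal p W' := by
      rw [Cfsg.Agent.Invol.pReduced_iff]
      refine ⟨hW'n, ?_, fun M hM hMp => ?_⟩
      · rw [hW', Subgroup.normalClosure]
        refine Cfsg.Agent.Invol.isElementaryAbelian_closure (fun a ha b hb => ?_) fun a ha => ?_
        · exact (Subgroup.mem_centralizer_iff.mp (hW'Q (Subgroup.conjugatesOfSet_subset_normalClosure ha)) b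
            (hchar (hW'Q (Subgroup.conjugatesOfSet_subset_normalClosure hb)))).symm
        · obtain ⟨y, hy, hc⟩ := Group.mem_conjugatesOfSet_iff.mp ha
          obtain ⟨c, rfl⟩ := isConj_iff.mp hc
          rw [conj_pow, hy.2]; group
      · have hYW' : Y ≤ W' := by
          intro y hy
          refine Subgroup.subset_normalClosure ⟨⟨?_, Subgroup.mem_centralizer_iff.mpr fun x hx =>
            (Subgroup.mem_centralizer_iff.mp (hTLC hx) y hy).symm⟩, hYr'.2.1.2 y hy⟩
          rw [hTL]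
          exact ⟨Cfsg.Agent.Grp.pCore_le_sylow T (Cfsg.Agent.Invol.pReduced_le_pCore hYr hy),
            Subgroup.mem_centralizer_iff.mpr fun x hx => Cfsg.Agent.Invol.comm_of_ea hYr'.2.1 hx hy⟩
        have hMC : M ≤ C := hYr'.2.2 M hM (hMp.mono_right (Subgroup.centralizer_le hYW'))
        have h1 : M ≤ Subgroup.centralizer s := by
          refine Cfsg.Agent.Invol.le_of_pMod_sylow T hMp ?_
            (inf_le_right.trans (Subgroup.centralizer_le Subgroup.subset_normalClosure))
          intro m hm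
          refine Subgroup.mem_centralizer_iff.mpr fun x hx => ?_
          exact (Subgroup.mem_centralizer_iff.mp hx.1.2 m (hTL.ge ⟨hm.2, hMC hm.1⟩)).symm
        rw [Subgroup.le_centralizer_iff]
        refine Subgroup.normalClosure_le_normal fun x hx => ?_
        exact Subgroup.mem_centralizer_iff.mpr fun m hm => (Subgroup.mem_centralizer_iff.mp (h1 hm) x hx).symm
    exact (Subgroup.closure_le _).mpr fun x hx => hYmax W' hred (Subgroup.subset_normalClosure hx)

end Cfsg.Agent.S2803
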