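import Cfsg.Statements.S2824
import Cfsg.Agent.Lib.Invol.PReducedSub
import Cfsg.Agent.S2803
-- import your own Cfsg.Agent.* helpers here

set_option autoImplicit false
open Cfsg

namespace Cfsg.Agent.S2824

/-- Let H be a finite group, p a prime, T a Sylow p-subgroup, L and M subgroups of characteristic p containing T, Y_L the largest p-reduced normal subgroup of L and T₀ = C_T(Y_L). If M·C_H(Y_L) = L·C_H(Y_L), then L* := N_M(T₀) has Y_{L*} = Y_L and L·C_H(Y_L) = L*·C_H(Y_L). -/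
theorem result {H : Type*} [Group H] [Finite H] {p : ℕ} [Fact p.Prime] (T : Sylow p H) (L M : Subgroup H) (hTL : (T : Subgroup H) ≤ L) (hTM : (T : Subgroup H) ≤ M) (hL : Subgroup.centralizer (Cfsg.pCore p ↥L : Set ↥L) ≤ Cfsg.pCore p ↥L) (hM : Subgroup.centralizer (Cfsg.pCore p ↥M : Set ↥M) ≤ Cfsg.pCore p ↥M) (T₀ : Subgroup H) (hT₀ : T₀ = (T : Subgroup H) ⊓ Subgroup.centralizer (((Cfsg.largestPReducedOf p L) : Subgroup H) : Set H)) (hfac : M ⊔ Subgroup.centralizer (((Cfsg.largestPReducedOf p L) : Subgroup H) : Set H) = L ⊔ Subgroup.centralizer (((Cfsg.largestPReducedOf p L) : Subgroup H) : Set H)) (Ls : Subgroup H) (hLs : Ls = M ⊓ Subgroup.normalizer ((T₀ : Subgroup H) : Set H)) : (Cfsg.largestPReducedOf p Ls) = (Cfsg.largestPReducedOf p L) ∧ L ⊔ Subgroup.centralizer (((Cfsg.largestPReducedOf p L) : Subgroup H) : Set H) = Ls ⊔ Subgroup.centralizer (((Cfsg.largestPReducedOf p L) : Subgroup H) : Set H) := by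
  classical
  set Y := Cfsg.largestPReducedOf p L with hY
  have hr := Cfsg.Agent.Invol.redIn_largest (p := p) L
  set C := Subgroup.centralizer (Y : Set H) with hC
  have hMY : M ≤ Subgroup.normalizer (Y : Set H) :=
    le_sup_left.trans (hfac.le.trans (sup_le hr.2.2.1 (Subgroup.centralizer_le_normalizer _)))
  have hMC : ((C ⊓ M).subgroupOf M).Normal := by
    refine (Subgroup.normal_subgroupOf_iff_le_normalizer inf_le_right).mpr fun m hm =>
      Subgroup.mem_normalizer_fintype fun c hc => ⟨Subgroup.mem_centralizer_iff.mpr fun y hy => ?_,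
        (show m * c * m⁻¹ ∈ M from mul_mem (mul_mem hm hc.2) (inv_mem hm))⟩
    have h1 := Subgroup.mem_centralizer_iff.mp hc.1 _ ((Subgroup.mem_normalizer_iff''.mp (hMY hm) y).mp hy)
    calc y * (m * c * m⁻¹) = m * (m⁻¹ * y * m * c) * m⁻¹ := by group
      _ = m * (c * (m⁻¹ * y * m)) * m⁻¹ := by rw [h1]
      _ = m * c * m⁻¹ * y := by group
  have hT₀T : T₀ ≤ (T : Subgroup H) := hT₀.le.trans inf_le_left
  have hT₀C : T₀ ≤ C ⊓ M := hT₀.le.trans (le_inf inf_le_right (inf_le_left.trans hTM))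
  have hTLs : (T : Subgroup H) ≤ Ls := by
    rw [hLs]
    refine le_inf hTM fun t ht => Subgroup.mem_normalizer_fintype fun x hx => ?_
    rw [hT₀] at hx ⊢
    have hn := hMC.conj_mem (⟨x, hTM hx.1⟩ : M) (show x ∈ C ⊓ M from ⟨hx.2, hTM hx.1⟩) ⟨t, hTM ht⟩
    exact ⟨(show t * x * t⁻¹ ∈ (T : Subgroup H) from mul_mem (mul_mem ht hx.1) (inv_mem ht)), hn.1⟩
  have hsup : L ⊔ C = Ls ⊔ C := by
    refine le_antisymm ?_ (sup_le ((hLs.le.trans inf_le_left).trans (le_sup_left.trans hfac.le)) le_sup_right)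
    rw [← hfac]
    refine sup_le (fun m hm => ?_) le_sup_right
    -- Frattini inside `M`
    set K := C ⊓ M with hK
    have hp : IsPGroup p ↥((T₀.subgroupOf M).subgroupOf (K.subgroupOf M)) :=
      ((T.isPGroup'.to_le hT₀T).comap_subtype).comap_subtype
    have hnd : ¬ p ∣ ((T₀.subgroupOf M).subgroupOf (K.subgroupOf M)).index := by
      rw [← Subgroup.relIndex]
      have e : T₀.subgroupOf M = ((T.subtype hTM : Sylow p M) : Subgroup M) ⊓ K.subgroupOf M := by
        ext x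
        show (x : H) ∈ T₀ ↔ (x : H) ∈ (T : Subgroup H) ∧ (x : H) ∈ K
        rw [hT₀]
        exact ⟨fun h => ⟨h.1, h.2, x.2⟩, fun h => ⟨h.1, h.2.1⟩⟩
      rw [e, Subgroup.inf_relIndex_right]
      exact Cfsg.Agent.Grp.sylow_inf_normal_relIndex _ _
    have h := Sylow.normalizer_sup_eq_top (hp.toSylow hnd)
    have e : ((hp.toSylow hnd : Sylow p (K.subgroupOf M)) : Subgroup _).map (K.subgroupOf M).subtype =
        T₀.subgroupOf M := Subgroup.map_subgroupOf_eq_of_le (Subgroup.comap_mono hT₀C)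
    rw [e] at h
    obtain ⟨a, ha, c, hc, hac⟩ := Subgroup.mem_sup_of_normal_right.mp (h.ge (Subgroup.mem_top (⟨m, hm⟩ : M)))
    rw [show m = (a : H) * c from congrArg Subtype.val hac.symm]
    refine mul_mem (Subgroup.mem_sup_left ?_) (Subgroup.mem_sup_right (show (c : H) ∈ C from hc.1))
    rw [hLs]
    refine ⟨a.2, Subgroup.mem_normalizer_fintype fun x hx => ?_⟩
    exact (Subgroup.mem_normalizer_iff.mp ha ⟨x, (hT₀C hx).2⟩).mp hx
  refine ⟨le_antisymm ?_ ?_, hsup⟩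
  · -- the largest subgroup of `Ls` lies in `Y`
    set Y' := Cfsg.largestPReducedOf p Ls with hY'
    have hr' := Cfsg.Agent.Invol.redIn_largest (p := p) Ls
    intro x hx
    have hxT : x ∈ (T : Subgroup H) := Cfsg.Agent.Invol.pCoreOf_le_sylow T hTLs (hr'.le_pCoreOf hx)
    have hT₀Q : T₀ ≤ Cfsg.pCoreOf p Ls := by
      intro s hs
      have hsL : s ∈ Ls := hTLs (hT₀T hs)
      refine ⟨⟨s, hsL⟩, Cfsg.Agent.Invol.mem_pCore_of_subgroupOf ?_ (T.isPGroup'.to_le hT₀T) hs hsL, rfl⟩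
      exact (Subgroup.normal_subgroupOf_iff_le_normalizer (hT₀T.trans hTLs)).mpr (hLs.le.trans inf_le_right)
    have hxc : ∀ s ∈ T₀, s * x = x * s := fun s hs =>
      Subgroup.mem_centralizer_iff.mp (hr'.centralizes_pCore hx) s (hT₀Q hs)
    have hQ₀ : Cfsg.pCoreOf p L ≤ T₀ := by
      rw [hT₀]
      exact le_inf (Cfsg.Agent.Invol.pCoreOf_le_sylow T hTL) (Subgroup.le_centralizer_iff.mp hr.centralizes_pCore)
    have hxL : (⟨x, hTL hxT⟩ : L) ∈ Cfsg.pCore p L := hL (Subgroup.mem_centralizer_iff.mpr fun q hq =>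
      Subtype.ext (hxc q (hQ₀ ⟨q, hq, rfl⟩)))
    have hxT₀ : x ∈ T₀ := hQ₀ ⟨_, hxL, rfl⟩
    -- the characterization inside `L`
    have h3 := (Cfsg.Agent.S2803.result hL (T.subtype hTL) (Cfsg.largestPReduced p ↥L)
      ⟨Cfsg.Agent.Invol.largest_pReduced, fun V hV => le_sSup hV⟩ _ rfl).2.2
    refine ⟨⟨x, hTL hxT⟩, ?_, rfl⟩
    rw [SetLike.mem_coe, h3]
    refine Subgroup.subset_closure ⟨⟨⟨hxT, ?_⟩, Subgroup.mem_centralizer_iff.mpr fun s hs => Subtype.ext ?_⟩,
      Subtype.ext (hr'.2.1.2 x hx)⟩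
    · refine Subgroup.mem_centralizer_iff.mpr fun y hy => Subtype.ext ?_
      exact Subgroup.mem_centralizer_iff.mp (hT₀.le hxT₀).2 y ⟨y, hy, rfl⟩
    · refine hxc s ?_
      rw [hT₀]
      refine ⟨hs.1, Subgroup.mem_centralizer_iff.mpr ?_⟩
      rintro _ ⟨y, hy, rfl⟩
      exact congrArg Subtype.val (Subgroup.mem_centralizer_iff.mp hs.2 y hy)
  · exact (Cfsg.Agent.Invol.redIn_of_factor hr
      ((hr.le_pCoreOf.trans (Cfsg.Agent.Invol.pCoreOf_le_sylow T hTL)).trans hTLs) hsup.symm).le_largest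

end Cfsg.Agent.S2824
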