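import Cfsg.Statements.S0575
import Cfsg.Agent.Lib.Grp.Basic
-- import your own Cfsg.Agent.* helpers here

set_option autoImplicit false
open Cfsg

namespace Cfsg.Agent.S0575

/-- If H is a normal subgroup of a finite group G, then the Frattini subgroup of H, viewed in G, lies in the Frattini subgroup of G. -/
theorem result {G : Type*} [Group G] [Finite G] (H : Subgroup G) [H.Normal] : (frattini ↥H).map H.subtype ≤ frattini G := by
  refine le_iInf₂ fun M hM => ?_
  by_contra hle
  have : ((frattini ↥H).map H.subtype).Normal := inferInstance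
  have hsup : M ⊔ (frattini ↥H).map H.subtype = ⊤ :=
    hM.2 _ (lt_of_le_of_ne le_sup_left fun e => hle (e ▸ le_sup_right))
  have htop : M.subgroupOf H ⊔ frattini ↥H = ⊤ := by
    rw [eq_top_iff]
    intro x _
    have hx : (x : G) ∈ ((M ⊔ (frattini ↥H).map H.subtype : Subgroup G) : Set G) := by rw [hsup]; trivial
    rw [Subgroup.mul_normal] at hx
    obtain ⟨m, hm, _, ⟨f, hf, rfl⟩, e⟩ := hx
    have hxm : (x * f⁻¹ : ↥H) ∈ M.subgroupOf H := by
      show (x : G) * (f : G)⁻¹ ∈ M
      rw [← e]
      simpa using hm
    simpa using Subgroup.mul_mem_sup hxm hf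
  exact hle ((Subgroup.map_subtype_le _).trans (Subgroup.subgroupOf_eq_top.mp (frattini_nongenerating htop)))

end Cfsg.Agent.S0575
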