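import Cfsg.Statements.S0803
import Cfsg.Agent.Lib.Classical.DicksonCentral
-- import your own Cfsg.Agent.* helpers here

set_option autoImplicit false
open Cfsg

namespace Cfsg.Agent.S0803
open Cfsg.Agent.Dickson Cfsg.Agent.PSL2Spec


/-- PSL_2(q) has a subgroup isomorphic to S_4 iff q² ≡ 1 (mod 16). -/
theorem result {F : Type*} [Field F] [Fintype F] {q : ℕ} (hF : Fintype.card F = q) : (∃ H : Subgroup (Matrix.ProjectiveSpecialLinearGroup (Fin 2) F), Nonempty (H ≃* Equiv.Perm (Fin 4))) ↔ q ^ 2 % 16 = 1 := by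
  subst hF
  obtain ⟨p, hc⟩ := CharP.exists F
  haveI : Fact p.Prime := ⟨CharP.char_is_prime F p⟩
  constructor
  · rintro ⟨H, ⟨e⟩⟩
    obtain ⟨hodd, hm⟩ := mod_eight_of_perm_four p e
    rw [Nat.pow_mod]
    have : Fintype.card F % 16 = 1 ∨ Fintype.card F % 16 = 7 ∨ Fintype.card F % 16 = 9 ∨
        Fintype.card F % 16 = 15 := by omega
    rcases this with h | h | h | h <;> rw [h]
  · intro h
    rw [Nat.pow_mod] at h
    have hlt : Fintype.card F % 16 < 16 := Nat.mod_lt _ (by norm_num)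
    have hm : Fintype.card F % 8 = 1 ∨ Fintype.card F % 8 = 7 := by
      interval_cases hq : Fintype.card F % 16 <;> simp_all <;> omega
    have hodd : Odd (Fintype.card F) := Nat.odd_iff.mpr (by omega)
    obtain ⟨x, y, hxy⟩ := exists_quat (F := F) hodd
    obtain ⟨t, A, -, -, -, -, -, -, hS⟩ := exists_alt4 hodd hxy
    exact ⟨_, hS ((card_normalizer_klein p hodd hxy).1 hm)⟩

end Cfsg.Agent.S0803
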