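import Cfsg.Statements.S4396
import Mathlib
import Cfsg.Agent.Lib.Transfer.FrobeniusFree
import Cfsg.Agent.Lib.Recog.Frobenius
import Cfsg.Agent.Lib.Recog.Hughes
import Cfsg.Agent.Lib.Block.GreenIntersection

set_option maxHeartbeats 1000000
set_option maxRecDepth 8000

set_option autoImplicit false
open Cfsg

namespace Cfsg.Agent.S4396

/-- The part of a nilpotent normal subgroup of order prime to `p`. -/
theorem exists_prime_part {A : Type*} [Group A] [Finite A] (F : Subgroup A) [hF : F.Normal] (hnil : Group.IsNilpotent F) (p : ℕ)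
    [Fact p.Prime] : ∃ (P : Sylow p F) (N : Subgroup A), N.Normal ∧ N ≤ F ∧ ¬ p ∣ Nat.card N ∧
      ∀ f ∈ F, ∃ a : F, ∃ b ∈ N, a ∈ (P : Subgroup F) ∧ (f : A) = a * b := by
  obtain ⟨P, K, hKn, hK⟩ := Cfsg.Agent.Hughes.nilpotent_has_complement hnil (q := p)
  haveI := hKn
  haveI : Group.IsNilpotent F := hnil
  haveI hPn : (P : Subgroup F).Normal := Sylow.normal_of_normalizerCondition normalizerCondition_of_isNilpotent P
  have hcopK : (Nat.card K).Coprime (Nat.card P) := by
    rw [← hK.index_eq_card]; exact P.card_coprime_index.symm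
  have hiff : ∀ x : F, x ∈ K ↔ (orderOf x).Coprime (Nat.card P) := by
    intro x
    refine ⟨fun hx => hcopK.coprime_dvd_left (Subgroup.orderOf_mk x hx ▸ orderOf_dvd_natCard _), fun h => ?_⟩
    have h1 : orderOf (QuotientGroup.mk' K x) = 1 := by
      refine Nat.eq_one_of_dvd_coprimes h (orderOf_map_dvd _ x) ?_
      rw [← hK.symm.index_eq_card]
      exact orderOf_dvd_natCard _
    exact (QuotientGroup.eq_one_iff x).1 (orderOf_eq_one_iff.1 h1)
  have hmem : ∀ x : A, x ∈ K.map F.subtype ↔ x ∈ F ∧ (orderOf x).Coprime (Nat.card P) := by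
    intro x
    rw [Subgroup.mem_map]
    constructor
    · rintro ⟨y, hy, rfl⟩
      exact ⟨y.2, by rw [Subgroup.coe_subtype, Subgroup.orderOf_coe]; exact (hiff y).1 hy⟩
    · rintro ⟨hx, h⟩
      exact ⟨⟨x, hx⟩, (hiff _).2 (by rwa [Subgroup.orderOf_mk]), rfl⟩
  refine ⟨P, K.map F.subtype, ⟨fun n hn g => ?_⟩, Subgroup.map_subtype_le K, ?_, fun f hf => ?_⟩
  · rw [hmem] at hn ⊢
    refine ⟨hF.conj_mem n hn.1 g, ?_⟩
    rw [show g * n * g⁻¹ = MulAut.conj g n from rfl, MulEquiv.orderOf_eq]
    exact hn.2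
  · rw [Subgroup.card_map_of_injective F.subtype_injective, ← hK.index_eq_card]
    exact P.not_dvd_index
  · obtain ⟨⟨⟨a, ha⟩, ⟨b, hb⟩⟩, hab⟩ := hK.symm.2 ⟨f, hf⟩
    exact ⟨a, b, ⟨b, hb, rfl⟩, ha, (congrArg Subtype.val hab).symm⟩

/-- Let the finite group A act faithfully and linearly on a finite-dimensional vector space V over a field k, and suppose A is a Frobenius group with nilpotent kernel F (every Frobenius kernel is nilpotent) and complement H such that F fixes no nonzero vector. Then V is free as a module for H: there is a subspace W with V the direct sum of the translates hW, h ∈ H. (No assumption on the characteristic of k.) -/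
theorem result {k V A : Type*} [Field k] [AddCommGroup V] [Module k V] [FiniteDimensional k V] [Group A] [Finite A] [DecidableEq A]
    (ρ : Representation k A V) (hρ : Function.Injective ρ)
    (Fk Hc : Subgroup A) [Fk.Normal] (hHc : Cfsg.IsFrobeniusComplement Hc) (hker : Cfsg.frobeniusKernel Hc = (Fk : Set A)) (hnil : Group.IsNilpotent ↥Fk)
    (hCF : ∀ v : V, (∀ f ∈ Fk, ρ f v = v) → v = 0) :
    ∃ W : Submodule k V, DirectSum.IsInternal (fun h : ↥Hc => W.map (ρ (h : A))) := by

  classical
  haveI : Fintype A := Fintype.ofFinite A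
  have hK : (Fk : Set A) = Cfsg.frobeniusKernel Hc := hker.symm
  have hfpf : Transfer.ActsFPF Hc Fk := by
    intro h hh h1 n hn e
    have h2 : n ∈ Fk ⊓ Hc := ⟨hn, Frob.centralizer_le hHc hh h1 (Subgroup.mem_centralizer_singleton_iff.2 e.symm)⟩
    rwa [Frob.kernel_inf_eq_bot hK, Subgroup.mem_bot] at h2
  -- a normal part of invertible order without fixed vectors
  obtain ⟨N, hNn, hNle, hNcard, hCN⟩ : ∃ N : Subgroup A, N.Normal ∧ N ≤ Fk ∧ ((Nat.card N : ℕ) : k) ≠ 0 ∧
      ∀ v : V, (∀ f ∈ N, ρ f v = v) → v = 0 := by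
    by_cases h0 : ((Nat.card Fk : ℕ) : k) = 0
    · have hp : (ringChar k).Prime := (CharP.char_is_prime_or_zero k (ringChar k)).resolve_right fun e => by
        haveI := (CharP.charP_zero_iff_charZero k).1 (e ▸ ringChar.charP k)
        exact Nat.card_pos.ne' (Nat.cast_eq_zero.1 h0)
      haveI : Fact (ringChar k).Prime := ⟨hp⟩
      obtain ⟨P, N, hNn, hNle, hN, hdec⟩ := exists_prime_part Fk hnil (ringChar k)
      haveI := hNn
      refine ⟨N, hNn, hNle, fun e => hN ((ringChar.spec k _).1 e), fun v hv => ?_⟩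
      by_contra hv0
      let U : Submodule k V :=
        { carrier := {v | ∀ f ∈ N, ρ f v = v}
          add_mem' := fun {a b} ha hb f hf => by rw [map_add, ha f hf, hb f hf]
          zero_mem' := fun f _ => map_zero _
          smul_mem' := fun c v hv f hf => by rw [map_smul, hv f hf] }
      have hU : ∀ a, U ≤ U.comap (ρ a) := fun a w hw d hd => by
        have hd' : a⁻¹ * d * a ∈ N := by
          have := hNn.conj_mem d hd a⁻¹
          rwa [inv_inv] at this
        show ρ d (ρ a w) = ρ a w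
        rw [← Module.End.mul_apply, ← map_mul, show d * a = a * (a⁻¹ * d * a) by group, map_mul, Module.End.mul_apply, hw _ hd']
      obtain ⟨w, hw, hwf⟩ := Cfsg.Agent.Block.exists_fixed_vector (k := k) (p := ringChar k) P.isPGroup'
        ((ρ.subrepresentation U hU).comp (Fk.subtype.comp (P : Subgroup Fk).subtype))
        (v₀ := (⟨v, hv⟩ : U)) (fun e => hv0 (congrArg Subtype.val e))
      refine hw (Subtype.ext (hCF w fun f hf => ?_))
      obtain ⟨a, b, hb, ha, rfl⟩ := hdec f hf
      rw [map_mul, Module.End.mul_apply, w.2 b hb]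
      exact congrArg Subtype.val (hwf ⟨a, ha⟩)
    · exact ⟨Fk, inferInstance, le_rfl, h0, hCF⟩
  haveI := hNn
  haveI : Group.IsNilpotent Fk := hnil
  haveI : Group.IsNilpotent N :=
    Group.nilpotent_of_mulEquiv (Subgroup.subgroupOfEquivOfLe hNle)
  rw [Nat.card_eq_fintype_card] at hNcard
  obtain ⟨W, hinj, hsurj⟩ := Transfer.isFreeOver_of_solvable _ ρ Hc N rfl
    (fun h hh h1 n hn => hfpf h hh h1 n (hNle hn)) inferInstance hNcard (fun v => hCN _ fun f hf => by
      rw [map_sum]
      refine Fintype.sum_equiv (Equiv.mulLeft (⟨f, hf⟩ : N)) _ _ fun x => ?_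
      show ρ f (ρ (x : A) v) = ρ (f * x) v
      rw [map_mul]; rfl)
  refine ⟨W, DirectSum.isInternal_submodule_of_iSupIndep_of_iSup_eq_top ?_ ?_⟩
  · rw [iSupIndep_iff_finsetSum_eq_zero_imp_eq_zero]
    intro t x hx hx0 i hi
    choose g hg hg' using fun h (hh : h ∈ t) => Submodule.mem_map.1 (hx h hh)
    let G : Hc → W := fun h => if hh : h ∈ t then ⟨g h hh, hg h hh⟩ else 0
    have hG : ∀ h : Hc, ρ (h : A) (G h : V) = if h ∈ t then x h else 0 := fun h => by
      by_cases hh : h ∈ t
      · simp only [G, dif_pos hh, if_pos hh]; exact hg' h hh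
      · simp only [G, dif_neg hh, if_neg hh, ZeroMemClass.coe_zero, map_zero]
    have hG0 : G = 0 := hinj (by
      simp only [hG, Pi.zero_apply, ZeroMemClass.coe_zero, map_zero, Finset.sum_const_zero]
      rw [← Finset.sum_filter, Finset.filter_mem_eq_inter, Finset.univ_inter]
      exact hx0)
    have h2 := hG i
    rw [hG0, if_pos hi] at h2
    simpa using h2.symm
  · rw [eq_top_iff]
    intro v _
    obtain ⟨w, rfl⟩ := hsurj v
    exact Submodule.sum_mem _ fun h _ => Submodule.mem_iSup_of_mem h (Submodule.mem_map_of_mem (w h).2)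

end Cfsg.Agent.S4396
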