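import Cfsg.Statements.S4403
import Mathlib
import Cfsg.Agent.Lib.Transfer.CyclicSylow
import Cfsg.Agent.Lib.Transfer.RankOneCyclic
import Cfsg.Agent.Lib.Grp.Components
import Cfsg.Agent.Lib.Grp.Cores
import Cfsg.Agent.S4396

set_option maxHeartbeats 1000000
set_option maxRecDepth 8000

set_option autoImplicit false
open Cfsg
open scoped Pointwise

namespace Cfsg.Agent.S4403

open Cfsg.Agent

variable {K : Type*} [Group K] [Finite K] {p : ℕ} [hp : Fact p.Prime]

theorem eq_zpowers_of_commute (P : Sylow p K) [IsCyclic (P : Subgroup K)] {a b : K} (ha : orderOf a = p) (hb : orderOf b = p)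
    (hab : a * b = b * a) : a ∈ Subgroup.zpowers b := by
  have h1 : IsPGroup p (Subgroup.zpowers a) := IsPGroup.of_card (n := 1) (by rw [Nat.card_zpowers, ha, pow_one])
  have h2 : IsPGroup p (Subgroup.zpowers b) := IsPGroup.of_card (n := 1) (by rw [Nat.card_zpowers, hb, pow_one])
  have hn : Subgroup.zpowers b ≤ Subgroup.normalizer ((Subgroup.zpowers a) : Set K) :=
    (Subgroup.zpowers_le.2 (show b ∈ Subgroup.centralizer (Subgroup.zpowers a : Set K) by
      rw [Subgroup.mem_centralizer_iff]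
      intro y hy
      obtain ⟨i, rfl⟩ := Subgroup.mem_zpowers_iff.1 hy
      exact ((show Commute a b from hab).zpow_left i).eq)).trans (Subgroup.centralizer_le_normalizer _)
  obtain ⟨S, hS⟩ := (h1.to_sup_of_normal_left' h2 hn).exists_le_sylow
  haveI : IsCyclic (S : Subgroup K) := isCyclic_of_surjective _ (P.equiv S).surjective
  exact Cfsg.Agent.Transfer.RankOneCyclic.mem_zpowers_of_pow_eq_one (inferInstance : IsCyclic (S : Subgroup K))
    (hS (Subgroup.mem_sup_right (Subgroup.mem_zpowers b))) hb (hS (Subgroup.mem_sup_left (Subgroup.mem_zpowers a)))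
    (ha ▸ pow_orderOf_eq_one a)

theorem fitting_isPGroup (hO : Cfsg.pPrimeCore p K = ⊥) : IsPGroup p (Cfsg.fittingSubgroup K) := by
  haveI := Grp.fittingSubgroup_isNormal (G := K)
  obtain ⟨Q, N, hN, -, hNp, hdec⟩ := S4396.exists_prime_part (Cfsg.fittingSubgroup K) Grp.fittingSubgroup_isNilpotent p
  have hNbot : N = ⊥ := le_bot_iff.1 (hO ▸ Grp.le_pPrimeCore hN ((Nat.Prime.coprime_iff_not_dvd hp.out).2 hNp).symm)
  intro f
  obtain ⟨a, b, hb, ha, e⟩ := hdec f f.2
  rw [hNbot, Subgroup.mem_bot] at hb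
  rw [hb, mul_one] at e
  obtain ⟨i, hi⟩ := Q.isPGroup' ⟨a, ha⟩
  exact ⟨i, by rw [Subtype.ext e]; exact congrArg Subtype.val hi⟩

theorem no_layer (hO : Cfsg.pPrimeCore p K = ⊥) (P : Sylow p K) [IsCyclic (P : Subgroup K)] (hE : Cfsg.layer K = ⊥) :
    (P : Subgroup K).Normal ∧ Subgroup.centralizer ((P : Subgroup K) : Set K) = (P : Subgroup K) ∧
      (∀ (_ : (P : Subgroup K).Normal), IsCyclic (K ⧸ (P : Subgroup K))) ∧ (P : Subgroup K).index ∣ p - 1 := by
  haveI := Grp.fittingSubgroup_isNormal (G := K)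
  have hFP : Cfsg.fittingSubgroup K ≤ (P : Subgroup K) := by
    obtain ⟨S, hS⟩ := (fitting_isPGroup hO).exists_le_sylow
    obtain ⟨g, rfl⟩ := MulAction.exists_smul_eq K S P
    intro x hx
    rw [Sylow.coe_subgroup_smul, Subgroup.mem_pointwise_smul_iff_inv_smul_mem]
    refine hS ?_
    simpa [MulAut.smul_def, mul_assoc] using (Grp.fittingSubgroup_isNormal (G := K)).conj_mem x hx g⁻¹
  letI : CommGroup (P : Subgroup K) := IsCyclic.commGroup
  have hPC : (P : Subgroup K) ≤ Subgroup.centralizer (Cfsg.fittingSubgroup K : Set K) := fun x hx =>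
    Subgroup.mem_centralizer_iff.2 fun y hy => congrArg Subtype.val (mul_comm (⟨y, hFP hy⟩ : (P : Subgroup K)) ⟨x, hx⟩)
  have hC := Grp.centralizer_fitting_le_of_layer_eq_bot hE
  have hPF : Cfsg.fittingSubgroup K = (P : Subgroup K) := le_antisymm hFP (hPC.trans hC)
  haveI hPn : (P : Subgroup K).Normal := hPF ▸ inferInstance
  have hCP : Subgroup.centralizer ((P : Subgroup K) : Set K) = (P : Subgroup K) :=
    le_antisymm (by rw [← hPF]; exact hC) (by rw [← hPF] at hPC ⊢; exact hPC)
  obtain ⟨a, ha⟩ := IsPGroup.iff_card.1 P.isPGroup'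
  have ha1 : 1 ≤ a ∨ a = 0 := by omega
  let f : K ⧸ (P : Subgroup K) →* MulAut (P : Subgroup K) :=
    QuotientGroup.lift _ (MulAut.conjNormal : K →* MulAut (P : Subgroup K)) (fun x hx => MulEquiv.ext fun y => Subtype.ext (by
      rw [MulAut.conjNormal_apply]
      have := congrArg Subtype.val (mul_comm (⟨x, hx⟩ : (P : Subgroup K)) y)
      show x * (y : K) * x⁻¹ = y
      rw [show x * (y : K) = (y : K) * x from this, mul_inv_cancel_right]))
  have hf : Function.Injective f := by
    rw [injective_iff_map_eq_one]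
    intro q hq
    obtain ⟨g, rfl⟩ := QuotientGroup.mk_surjective q
    rw [QuotientGroup.eq_one_iff, ← hCP, Subgroup.mem_centralizer_iff]
    intro y hy
    have h1 : g * y * g⁻¹ = y := by
      have := congrArg (fun e : MulAut (P : Subgroup K) => ((e ⟨y, hy⟩ : (P : Subgroup K)) : K)) hq
      exact this
    calc y * g = g * y * g⁻¹ * g := by rw [h1]
      _ = g * y := by group
  let e : MulAut (P : Subgroup K) ≃* (ZMod (Nat.card (P : Subgroup K)))ˣ := IsCyclic.mulAutMulEquiv _
  let g : K ⧸ (P : Subgroup K) →* (ZMod (Nat.card (P : Subgroup K)))ˣ := e.toMonoidHom.comp f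
  have hg : Function.Injective g := e.injective.comp hf
  have hidx : (P : Subgroup K).index ∣ p - 1 := by
    rcases ha1 with ha1 | rfl
    · have h1 : (P : Subgroup K).index ∣ p ^ (a - 1) * (p - 1) := by
        rw [← Nat.totient_prime_pow hp.out ha1, ← ZMod.card_units_eq_totient, ← Nat.card_eq_fintype_card, Subgroup.index, ← ha]
        exact Subgroup.card_dvd_of_injective g hg
      exact (Nat.Coprime.pow_right _ ((Nat.Prime.coprime_iff_not_dvd hp.out).2 P.not_dvd_index).symm).dvd_of_dvd_mul_left h1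
    · rw [pow_zero] at ha
      have h1 : (P : Subgroup K).index ∣ 1 := by
        have := Subgroup.card_dvd_of_injective g hg
        rw [ha] at this
        rwa [Subgroup.index, show Nat.card (ZMod 1)ˣ = 1 by simp] at *
      exact h1.trans (one_dvd _)
  refine ⟨hPn, hCP, fun _ => ?_, hidx⟩
  by_cases hp2 : p = 2
  · have : Nat.card (K ⧸ (P : Subgroup K)) = 1 := Nat.dvd_one.1 (by subst hp2; exact hidx)
    haveI := (Nat.card_eq_one_iff_unique.1 this).1
    infer_instance
  · haveI := ZMod.isCyclic_units_of_prime_pow p hp.out hp2 a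
    haveI : IsCyclic (ZMod (Nat.card (P : Subgroup K)))ˣ := by rw [ha]; infer_instance
    exact isCyclic_of_injective g hg

theorem with_layer (hO : Cfsg.pPrimeCore p K = ⊥) (P : Sylow p K) [IsCyclic (P : Subgroup K)] (hE : Cfsg.layer K ≠ ⊥) :
    IsSimpleGroup ↥(Cfsg.generalizedFittingSubgroup K) ∧ ¬ IsMulCommutative ↥(Cfsg.generalizedFittingSubgroup K) ∧
      ¬ p ∣ (Cfsg.generalizedFittingSubgroup K).index := by
  have hF := fitting_isPGroup hO
  haveI := Grp.fittingSubgroup_isNormal (G := K)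
  -- every component has an element of order p outside its centre
  have comp : ∀ L : Subgroup K, Cfsg.IsComponent L → (∃ a ∈ L, orderOf a = p) ∧ ∀ z ∈ L, z ∈ Subgroup.centralizer (L : Set K) → z = 1 := by
    intro L hL
    have hpL : p ∣ Nat.card L := by
      by_contra h
      exact Grp.IsComponent.ne_bot hL (le_bot_iff.1 (hO ▸ Grp.le_pPrimeCore_of_isSubnormal hL.1
        ((Nat.Prime.coprime_iff_not_dvd hp.out).2 h).symm))
    refine ⟨?_, fun z hz hzc => ?_⟩
    · obtain ⟨a, ha⟩ := exists_prime_orderOf_dvd_card' p hpL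
      exact ⟨a, a.2, by rw [Subgroup.orderOf_coe]; exact ha⟩
    obtain ⟨j, hj⟩ := hF ⟨z, Grp.component_centralizer_inf_le_fitting hL ⟨hz, hzc⟩⟩
    have hzj : z ^ p ^ j = 1 := congrArg Subtype.val hj
    have hperf : commutator L = ⊤ := hL.2.1.commutator_eq_top
    obtain ⟨S⟩ : Nonempty (Sylow p L) := inferInstance
    haveI : IsCyclic (S : Subgroup L) := by
      obtain ⟨T, hT⟩ := (S.isPGroup'.map L.subtype).exists_le_sylow
      haveI : IsCyclic (T : Subgroup K) := isCyclic_of_surjective _ (P.equiv T).surjective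
      exact isCyclic_of_injective ((Subgroup.inclusion hT).comp ((S : Subgroup L).equivMapOfInjective L.subtype L.subtype_injective).toMonoidHom)
        ((Subgroup.inclusion_injective hT).comp (MulEquiv.injective _))
    have h1 : (⟨z, hz⟩ : L) ∈ Subgroup.center L := Subgroup.mem_center_iff.2 fun g => Subtype.ext
      (Subgroup.mem_centralizer_iff.1 hzc g g.2)
    exact congrArg Subtype.val (Transfer.CyclicSyl.center_pElement_eq_one hperf S h1 (Subtype.ext hzj))
  obtain ⟨L, hL⟩ : ∃ L : Subgroup K, Cfsg.IsComponent L := by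
    by_contra h
    push Not at h
    exact hE (le_bot_iff.1 (sSup_le fun L hL => absurd hL (h L)))
  obtain ⟨⟨a, haL, ha⟩, hLZ⟩ := comp L hL
  have ha1 : a ≠ 1 := fun e => hp.out.one_lt.ne' (by rw [← ha, e, orderOf_one])
  have huniq : Cfsg.layer K = L := le_antisymm (sSup_le fun M hM => by
    by_contra h
    have hne : M ≠ L := fun e => h e.le
    obtain ⟨⟨b, hbM, hb⟩, -⟩ := comp M hM
    have hc : a * b = b * a := Subgroup.mem_centralizer_iff.1 (Grp.IsComponent.commute hM hL hne hbM) a haL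
    exact ha1 (hLZ a haL (Grp.IsComponent.commute hM hL hne
      (Subgroup.zpowers_le.2 hbM (eq_zpowers_of_commute P ha hb hc))))) (Grp.IsComponent.le_layer hL)
  have hFbot : Cfsg.fittingSubgroup K = ⊥ := by
    by_contra h
    obtain ⟨i, hi⟩ := IsPGroup.iff_card.1 hF
    have hdvd : p ∣ Nat.card (Cfsg.fittingSubgroup K) := by
      rcases i.eq_zero_or_pos with rfl | hi0
      · exact absurd (Subgroup.card_eq_one.1 (by simpa using hi)) h
      · rw [hi]; exact dvd_pow_self p hi0.ne'
    obtain ⟨c, hc⟩ := exists_prime_orderOf_dvd_card' p hdvd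
    have hcL : ∀ l ∈ L, (c : K) * l = l * c := fun l hl => by
      have := Subgroup.mem_centralizer_iff.1 (Grp.layer_le_centralizer_fitting (huniq.symm ▸ hl : l ∈ Cfsg.layer K)) c c.2
      exact this
    have h1 := eq_zpowers_of_commute P ha (by rw [Subgroup.orderOf_coe]; exact hc : orderOf (c : K) = p) (hcL a haL).symm
    refine ha1 (hLZ a haL (Subgroup.zpowers_le.2 ?_ h1))
    rw [Subgroup.mem_centralizer_iff]
    exact fun l hl => (hcL l hl).symm
  have hGF : Cfsg.generalizedFittingSubgroup K = L := by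
    rw [Cfsg.generalizedFittingSubgroup, huniq, hFbot, sup_bot_eq]
  haveI hLn : L.Normal := huniq ▸ inferInstance
  rw [hGF]
  have hcen : Subgroup.center L = ⊥ := eq_bot_iff.2 fun z hz => Subgroup.mem_bot.2 (Subtype.ext (hLZ z z.2
    (Subgroup.mem_centralizer_iff.2 fun g hg => congrArg Subtype.val (Subgroup.mem_center_iff.1 hz ⟨g, hg⟩))))
  have hperf : commutator L = ⊤ := hL.2.1.commutator_eq_top
  refine ⟨?_, fun hc => ?_, ?_⟩
  · haveI := hL.2.2
    haveI : Nontrivial L := (Subgroup.nontrivial_iff_ne_bot L).2 (Grp.IsComponent.ne_bot hL)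
    exact IsSimpleGroup.isSimpleGroup_of_surjective (QuotientGroup.quotientBot.toMonoidHom.comp
      (QuotientGroup.quotientMulEquivOfEq hcen).toMonoidHom) (QuotientGroup.quotientBot.surjective.comp (MulEquiv.surjective _))
  · exact Grp.IsComponent.ne_bot hL (Grp.eq_bot_of_perfect_of_comm (Grp.IsComponent.perfect hL) fun x hx =>
      Subgroup.mem_centralizer_iff.2 fun y hy => congrArg Subtype.val (hc.is_comm.comm ⟨y, hy⟩ ⟨x, hx⟩))
  intro hpi
  -- P₀ = P ⊓ L
  let P₀ : Sylow p L := Classical.choice inferInstance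
  obtain ⟨T, hT⟩ := (P₀.isPGroup'.map L.subtype).exists_le_sylow
  haveI : IsCyclic (T : Subgroup K) := isCyclic_of_surjective _ (P.equiv T).surjective
  haveI : IsCyclic (P₀ : Subgroup L) := isCyclic_of_injective ((Subgroup.inclusion hT).comp ((P₀ : Subgroup L).equivMapOfInjective L.subtype L.subtype_injective).toMonoidHom)
    ((Subgroup.inclusion_injective hT).comp (MulEquiv.injective _))
  letI : CommGroup (T : Subgroup K) := IsCyclic.commGroup
  have hpL : p ∣ Nat.card L := ha ▸ (Subgroup.orderOf_mk a haL ▸ orderOf_dvd_natCard _)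
  obtain ⟨n, hn, hnc⟩ := SetLike.not_le_iff_exists.1 (Transfer.CyclicSyl.exists_normalizer_not_centralizer hperf hpL P₀)
  let Q : Subgroup K := (P₀ : Subgroup L).map L.subtype
  have hQT : Q ≤ (T : Subgroup K) := hT
  have hQeq : (T : Subgroup K) ⊓ L = Q := by
    refine le_antisymm (fun x hx => ?_) (le_inf hQT (Subgroup.map_subtype_le _))
    have h1 : IsPGroup p (((T : Subgroup K) ⊓ L).subgroupOf L) :=
      (T.isPGroup'.to_le inf_le_left).comap_subtype
    have h2 : (P₀ : Subgroup L) ≤ ((T : Subgroup K) ⊓ L).subgroupOf L := fun y hy => ⟨hT ⟨y, hy, rfl⟩, y.2⟩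
    exact ⟨⟨x, hx.2⟩, (P₀.3 h1 h2) ▸ (show (⟨x, hx.2⟩ : L) ∈ ((T : Subgroup K) ⊓ L).subgroupOf L from hx), rfl⟩
  have hQne : Q ≠ ⊥ := by
    rw [Ne, Subgroup.map_eq_bot_iff_of_injective _ L.subtype_injective]
    intro h
    have := P₀.dvd_card_of_dvd_card hpL
    rw [h, Subgroup.card_bot] at this
    exact hp.out.one_lt.ne' (Nat.dvd_one.1 this)
  have hQlt : Q < (T : Subgroup K) := lt_of_le_of_ne hQT fun e => by
    have h1 : Nat.card (T : Subgroup K) ∣ Nat.card L := Subgroup.card_dvd_of_le (e ▸ Subgroup.map_subtype_le _)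
    have h2 : Nat.card (T : Subgroup K) * p ∣ Nat.card K := by
      rw [← L.card_mul_index]; exact Nat.mul_dvd_mul h1 hpi
    rw [← (T : Subgroup K).card_mul_index] at h2
    exact T.not_dvd_index (Nat.dvd_of_mul_dvd_mul_left Nat.card_pos h2)
  let C : Subgroup K := Subgroup.centralizer (Q : Set K)
  have hTC : (T : Subgroup K) ≤ C := fun x hx => Subgroup.mem_centralizer_iff.2 fun y hy =>
    congrArg Subtype.val (mul_comm (⟨y, hQT hy⟩ : (T : Subgroup K)) ⟨x, hx⟩)
  -- normal p-complement of C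
  let TC : Sylow p C := T.subtype hTC
  haveI : IsCyclic (TC : Subgroup C) := isCyclic_of_surjective (Subgroup.subgroupOfEquivOfLe hTC).symm.toMonoidHom (MulEquiv.surjective _)
  obtain ⟨⟨y, hy⟩, hy1'⟩ := Subgroup.ne_bot_iff_exists_ne_one.1 hQne
  have hy1 : y ≠ 1 := fun e => hy1' (Subtype.ext e)
  obtain ⟨O, hOn, hOc⟩ := Transfer.CyclicSyl.exists_complement TC (fun m hm => by
    refine Transfer.CyclicSyl.mem_centralizer_of_normalizer TC hm (Or.inl ⟨⟨y, hTC (hQT hy)⟩, hQT hy,
      fun e => hy1 (congrArg Subtype.val e), Subtype.ext ?_⟩)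
    exact (Subgroup.mem_centralizer_iff.1 m.2 y hy).symm)
  haveI := hOn
  -- n normalises Q and C
  have hnQ : (n : K) ∈ Subgroup.normalizer (Q : Set K) := by
    rw [Subgroup.mem_normalizer_iff]
    intro u
    constructor
    · rintro ⟨v, hv, rfl⟩
      exact ⟨n * v * n⁻¹, (Subgroup.mem_normalizer_iff.1 hn v).1 hv, rfl⟩
    · rintro ⟨v, hv, e⟩
      refine ⟨n⁻¹ * v * n, (Subgroup.mem_normalizer_iff.1 hn _).2 (show n * (n⁻¹ * v * n) * n⁻¹ ∈ (P₀ : Subgroup L) by group; exact hv), ?_⟩
      rw [map_mul, map_mul, map_inv, e, Subgroup.coe_subtype]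
      group
  have hCn : ∀ c ∈ C, (n : K) * c * (n : K)⁻¹ ∈ C := fun c hc => Subgroup.mem_centralizer_iff.2 fun u hu => by
    have hu' := (Subgroup.mem_normalizer_iff.1 (inv_mem hnQ) u).1 hu
    rw [inv_inv] at hu'
    have := Subgroup.mem_centralizer_iff.1 hc _ hu'
    calc u * ((n : K) * c * (n : K)⁻¹) = (n : K) * (((n : K)⁻¹ * u * n) * c) * (n : K)⁻¹ := by group
      _ = _ := by rw [this]; group
  -- Frattini
  have hnT : ((n : K) • T : Sylow p K).toSubgroup ≤ C := fun x hx => by
    rw [Sylow.coe_subgroup_smul, Subgroup.mem_pointwise_smul_iff_inv_smul_mem] at hx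
    have := hCn _ (hTC hx)
    simpa [MulAut.smul_def, mul_assoc] using this
  obtain ⟨w, hw⟩ : ∃ w : C, w • (Sylow.subtype ((n : K) • T) hnT) = TC := MulAction.exists_smul_eq C _ _
  have hwT : ((w : K) * n) • T = T := by
    rw [mul_smul]
    exact Sylow.subtype_injective ((Sylow.smul_subtype hnT w).symm.trans hw)
  obtain ⟨⟨o, u⟩, hou⟩ := hOc.2 w
  -- m = u n normalises T
  have hm : ((o : C) : K)⁻¹ * ((w : K) * n) = ((u : C) : K) * n := by
    rw [← show ((o : C) : K) * ((u : C) : K) = (w : K) from congrArg Subtype.val hou]; group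
  have hwn : (w : K) * n ∈ Subgroup.normalizer ((T : Subgroup K) : Set K) := Sylow.smul_eq_iff_mem_normalizer.1 hwT
  have huT : ((u : C) : K) ∈ (T : Subgroup K) := u.2
  -- commutators of w n on T lie in L
  have hcomm : ∀ x ∈ (T : Subgroup K), (w : K) * n * x * ((w : K) * n)⁻¹ * x⁻¹ ∈ Q := by
    intro x hx
    have hxT : (w : K) * n * x * ((w : K) * n)⁻¹ * x⁻¹ ∈ (T : Subgroup K) :=
      mul_mem ((Subgroup.mem_normalizer_iff.1 hwn x).1 hx) (inv_mem hx)
    rw [← hQeq]
    refine ⟨hxT, ?_⟩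
    -- modulo L it lies in the images of O and of T
    let π := QuotientGroup.mk' L
    have hn1 : π (n : K) = 1 := (QuotientGroup.eq_one_iff _).2 n.2
    have hxu : ((u : C) : K) * x = x * ((u : C) : K) := congrArg Subtype.val (mul_comm (⟨_, huT⟩ : (T : Subgroup K)) ⟨x, hx⟩)
    have hO' : ((⟨x, hTC hx⟩ : C) * (o : C)⁻¹ * (⟨x, hTC hx⟩ : C)⁻¹) ∈ O :=
      hOn.conj_mem _ (inv_mem o.2) _
    have e1 : π ((w : K) * n * x * ((w : K) * n)⁻¹ * x⁻¹) = π ((o : C) * ((⟨x, hTC hx⟩ : C) * (o : C)⁻¹ * (⟨x, hTC hx⟩ : C)⁻¹) : C) := by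
      rw [← show ((o : C) : K) * ((u : C) : K) = (w : K) from congrArg Subtype.val hou]
      simp only [map_mul, map_inv, hn1, mul_one, Subgroup.coe_mul, InvMemClass.coe_inv]
      calc π ((o : C) : K) * π ((u : C) : K) * π x * (π ((o : C) : K) * π ((u : C) : K))⁻¹ * (π x)⁻¹
          = π ((o : C) : K) * (π (((u : C) : K) * x)) * (π ((u : C) : K))⁻¹ * (π ((o : C) : K))⁻¹ * (π x)⁻¹ := by
            rw [map_mul]; group
        _ = _ := by rw [hxu, map_mul]; group
    have hmem : ((o : C) * ((⟨x, hTC hx⟩ : C) * (o : C)⁻¹ * (⟨x, hTC hx⟩ : C)⁻¹)) ∈ O := mul_mem o.2 hO'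
    have h1 : orderOf (π ((w : K) * n * x * ((w : K) * n)⁻¹ * x⁻¹)) = 1 := by
      obtain ⟨i, hi⟩ := T.isPGroup' ⟨_, hxT⟩
      have hd1 : orderOf (π ((w : K) * n * x * ((w : K) * n)⁻¹ * x⁻¹)) ∣ p ^ i :=
        (orderOf_map_dvd π _).trans (orderOf_dvd_of_pow_eq_one (congrArg Subtype.val hi))
      have hd2 : orderOf (π ((w : K) * n * x * ((w : K) * n)⁻¹ * x⁻¹)) ∣ Nat.card O := by
        rw [e1]
        refine (orderOf_map_dvd π _).trans ?_
        rw [Subgroup.orderOf_coe, ← Subgroup.orderOf_mk _ hmem]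
        exact orderOf_dvd_natCard _
      refine Nat.eq_one_of_dvd_coprimes ?_ hd1 hd2
      rw [← hOc.index_eq_card]
      exact Nat.Coprime.pow_left i ((Nat.Prime.coprime_iff_not_dvd hp.out).2 TC.not_dvd_index)
    exact (QuotientGroup.eq_one_iff _).1 (orderOf_eq_one_iff.1 h1)
  have hcent := Transfer.CyclicSyl.mem_centralizer_of_normalizer T hwn (Or.inr ⟨Q, hQlt, hcomm⟩)
  have hnC : (n : K) ∈ C := by
    have : (w : K) * n ∈ C := fun u hu => Subgroup.mem_centralizer_iff.1 hcent u (hQT hu)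
    exact (Subgroup.mul_mem_cancel_left _ w.2).1 this
  refine hnc (Subgroup.mem_centralizer_iff.2 fun v hv => Subtype.ext ?_)
  exact Subgroup.mem_centralizer_iff.1 hnC v ⟨v, hv, rfl⟩

/-- Let K be a finite group, p a prime dividing its order with O_{p'}(K) = 1 (no nontrivial normal subgroup of order prime to p), and P a cyclic Sylow p-subgroup of K. Then either P is normal and self-centralizing in K with K/P cyclic of order dividing p − 1 (so K is the semidirect product of P by a group of automorphisms of P of order dividing p − 1), or the generalized Fitting subgroup F*(K) is a non-abelian simple group and p does not divide the index of F*(K) in K. -/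
theorem result {K : Type*} [Group K] [Finite K] (p : ℕ) [Fact p.Prime] (hp : p ∣ Nat.card K) (hO : Cfsg.pPrimeCore p K = ⊥)
    (P : Sylow p K) (hP : IsCyclic ↥(P : Subgroup K)) :
    ((P : Subgroup K).Normal ∧ Subgroup.centralizer ((P : Subgroup K) : Set K) = (P : Subgroup K) ∧
      (∀ (_ : (P : Subgroup K).Normal), IsCyclic (K ⧸ (P : Subgroup K))) ∧ (P : Subgroup K).index ∣ p - 1) ∨
    (IsSimpleGroup ↥(Cfsg.generalizedFittingSubgroup K) ∧ ¬ IsMulCommutative ↥(Cfsg.generalizedFittingSubgroup K) ∧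
      ¬ p ∣ (Cfsg.generalizedFittingSubgroup K).index) := by

  haveI := hP
  by_cases hE : Cfsg.layer K = ⊥
  · exact Or.inl (no_layer hO P hE)
  · exact Or.inr (with_layer hO P hE)

end Cfsg.Agent.S4403
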