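import Cfsg.Statements.S4480
import Cfsg.Agent.Lib.Block.KleinOrder
import Cfsg.Agent.Lib.Block.SchurIndicator
import Cfsg.Agent.Lib.Char.InvariantForm
-- import your own Cfsg.Agent.* helpers here

set_option autoImplicit false
open Cfsg
open scoped ComplexConjugate

namespace Cfsg.Agent.S4480

/-- Same setting as the Klein-four order formula: G of order 4·g₀ (g₀ odd) with no normal 2-complement, P a Sylow 2-subgroup, J an involution of P, M over 2, principal 2-block {1, χ₁, χ₂, χ₃} with χ_i(J) = ε_i = ±1. Suppose ε₁ε₂ε₃ = −1 and ε₃ = −1, and put q = x₃ = χ₃(1). Then there is a natural number m with 4·c(J) = m·c(P)·(q + 1), and the order of G equals (m³·c(P)/4)·(q³ − q)/2, that is 8·#G = m³·c(P)·(q³ − q). -/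
theorem result {G : Type*} [Group G] [Finite G] (M : Ideal Cfsg.AlgInt) (hM : Cfsg.IsPModular 2 M) (g₀ : ℕ) (hg₀ : Odd g₀) (hG : Nat.card G = 4 * g₀) (hnc : ¬ ∃ N : Subgroup G, N.Normal ∧ Nat.card N = g₀) (P : Sylow 2 G) (J : G) (hJ : J ∈ (P : Subgroup G)) (hJ2 : orderOf J = 2) (χ₁ χ₂ χ₃ : Cfsg.IrrCharacter G) (ε₁ ε₂ ε₃ : ℤ) (hB : Cfsg.principalBlock M G = {χ : Cfsg.IrrCharacter G | (χ : G → ℂ) = (fun _ => 1) ∨ χ = χ₁ ∨ χ = χ₂ ∨ χ = χ₃}) (hdist : (χ₁ : G → ℂ) ≠ (fun _ => 1) ∧ (χ₂ : G → ℂ) ≠ (fun _ => 1) ∧ (χ₃ : G → ℂ) ≠ (fun _ => 1) ∧ χ₁ ≠ χ₂ ∧ χ₁ ≠ χ₃ ∧ χ₂ ≠ χ₃) (hε : (ε₁ = 1 ∨ ε₁ = -1) ∧ (ε₂ = 1 ∨ ε₂ = -1) ∧ (ε₃ = 1 ∨ ε₃ = -1)) (hval : (χ₁ : G → ℂ) J = ε₁ ∧ (χ₂ : G → ℂ) J = ε₂ ∧ (χ₃ : G → ℂ) J = ε₃) (hprod : ε₁ * ε₂ * ε₃ = -1) (hε₃ : ε₃ = -1) : ∃ m : ℕ, 4 * Nat.card (Subgroup.centralizer ({J} : Set G)) = m * Nat.card (Subgroup.centralizer ((P : Subgroup G) : Set G)) * (Cfsg.charDegree (χ₃ : G → ℂ) + 1) ∧ 8 * Nat.card G = m ^ 3 * Nat.card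 (Subgroup.centralizer ((P : Subgroup G) : Set G)) * (Cfsg.charDegree (χ₃ : G → ℂ) ^ 3 - Cfsg.charDegree (χ₃ : G → ℂ)) := by
  classical
  cases nonempty_fintype G
  haveI : Fact (Nat.Prime 2) := ⟨Nat.prime_two⟩
  obtain ⟨hP, hone⟩ := Block.KleinOrder.setup_of_no_complement P hg₀ hG hnc
  obtain ⟨n1, n2, n3, d12, d13, d23⟩ := hdist
  obtain ⟨v1, v2, v3⟩ := hval
  set A := Finset.univ.filter (fun χ : IrrCharacter G => χ ∈ Cfsg.principalBlock M G) with hA
  have hAeq : A = {Block.trivialIrr G, χ₁, χ₂, χ₃} := by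
    ext χ
    simp only [A, Finset.mem_filter, Finset.mem_univ, true_and, hB, Set.mem_setOf_eq,
      Finset.mem_insert, Finset.mem_singleton]
    exact or_congr ⟨fun h => Subtype.ext h, fun h => by rw [h]; rfl⟩ Iff.rfl
  have t1 : Block.trivialIrr G ≠ χ₁ := fun h => n1 (by rw [← h]; rfl)
  have t2 : Block.trivialIrr G ≠ χ₂ := fun h => n2 (by rw [← h]; rfl)
  have t3 : Block.trivialIrr G ≠ χ₃ := fun h => n3 (by rw [← h]; rfl)
  have hsum : ∀ F : IrrCharacter G → ℂ, ∑ χ ∈ A, F χ =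
      F (Block.trivialIrr G) + F χ₁ + F χ₂ + F χ₃ := fun F => by
    rw [hAeq, Finset.sum_insert (by simp [t1, t2, t3]), Finset.sum_insert (by simp [d12, d13]),
      Finset.sum_insert (by simp [d23]), Finset.sum_singleton]
    ring
  have htr : ∀ g, ((Block.trivialIrr G : IrrCharacter G) : G → ℂ) g = 1 := fun _ => rfl
  set c := Nat.card (Subgroup.centralizer ({J} : Set G)) with hc
  set cP := Nat.card (Subgroup.centralizer ((P : Subgroup G) : Set G)) with hcP
  set x₁ := Cfsg.charDegree (χ₁ : G → ℂ) with hx₁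
  set x₂ := Cfsg.charDegree (χ₂ : G → ℂ) with hx₂
  set x₃ := Cfsg.charDegree (χ₃ : G → ℂ) with hx₃
  have hw := Block.weak_orth hM (Block.isPBlock_principalBlock (M := M) (G := G)) (x := 1) (y := J)
    (by rw [orderOf_one]; norm_num) (by rw [hJ2])
  rw [Block.finsum_mem_block] at hw
  simp only [← hA] at hw
  rw [hsum] at hw
  simp only [htr, v1, v2, v3, map_intCast, map_one, mul_one, Block.charDeg_spec', ← hx₁, ← hx₂,
    ← hx₃] at hw
  have hrel : (1 : ℚ) + x₁ * ε₁ + x₂ * ε₂ + x₃ * ε₃ = 0 := by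
    have : (((1 : ℚ) + x₁ * ε₁ + x₂ * ε₂ + x₃ * ε₃ : ℚ) : ℂ) = ((0 : ℚ) : ℂ) := by
      push_cast
      linear_combination hw
    exact_mod_cast this
  have hf := Block.KleinOrder.order_formula hM hP hone hJ hJ2
  simp only [← hA] at hf
  rw [hsum] at hf
  simp only [htr, v1, v2, v3, Block.charDeg_spec', ← hx₁, ← hx₂, ← hx₃, ← hc, ← hcP] at hf
  have hQ : 8 * (c : ℚ) ^ 3 = (Nat.card G : ℚ) * (cP : ℚ) ^ 2 *
      (1 + (ε₁ : ℚ) ^ 3 / x₁ + (ε₂ : ℚ) ^ 3 / x₂ + (ε₃ : ℚ) ^ 3 / x₃) := by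
    have : ((8 * (c : ℚ) ^ 3 : ℚ) : ℂ) = (((Nat.card G : ℚ) * (cP : ℚ) ^ 2 *
      (1 + (ε₁ : ℚ) ^ 3 / x₁ + (ε₂ : ℚ) ^ 3 / x₂ + (ε₃ : ℚ) ^ 3 / x₃) : ℚ) : ℂ) := by
      push_cast
      rw [hf]
      norm_num
    exact_mod_cast this
  obtain ⟨⟨e1, e2, e3⟩, v3'⟩ := And.intro hε v3
  have hpos : 1 ≤ x₁ ∧ 1 ≤ x₂ ∧ 1 ≤ x₃ :=
    ⟨Block.charDeg_pos χ₁, Block.charDeg_pos χ₂, Block.charDeg_pos χ₃⟩
  subst hε₃
  have he12 : ε₁ = 1 ∧ ε₂ = 1 := by
    rcases e1 with rfl | rfl <;> rcases e2 with rfl | rfl <;> try simp_all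
    exfalso
    push_cast at hrel
    have h1 : (1 : ℚ) ≤ x₁ := by exact_mod_cast hpos.1
    have h2 : (1 : ℚ) ≤ x₂ := by exact_mod_cast hpos.2.1
    have h3 : (1 : ℚ) ≤ x₃ := by exact_mod_cast hpos.2.2
    linarith
  obtain ⟨rfl, rfl⟩ := he12
  -- the degrees are odd
  obtain ⟨ζ₂, ζ₃, ζ₄, ε, hεε, -, -, -, -, -, hBζ, -, h4a, h4b, h4c, -⟩ :=
    Block.klein_principal hM P hP hone
  have hodd : ∀ χ : IrrCharacter G, χ ∈ A → Odd (Cfsg.charDegree (χ : G → ℂ)) := by
    intro χ hχ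
    have h := (Finset.mem_filter.1 hχ).2
    rw [hBζ] at h
    rw [Nat.odd_iff]
    rcases h with h | h | h | h
    · rw [h, Block.charDeg_trivial]
    · subst h; obtain ⟨k, hk⟩ := h4a; omega
    · subst h; obtain ⟨k, hk⟩ := h4b; rcases hεε with rfl | rfl <;> omega
    · subst h; obtain ⟨k, hk⟩ := h4c; omega
  -- the indicators
  have hcf : IsClassFunction G (fun g : G => if 2 ∣ orderOf g then (1 : ℂ) else 0) := fun g u => by
    show (if 2 ∣ orderOf (u * g * u⁻¹) then (1 : ℂ) else 0) = _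
    rw [show orderOf (u * g * u⁻¹) = orderOf g from MulEquiv.orderOf_eq (MulAut.conj u) g]
  have hin : ∀ χ : IrrCharacter G, classInner (fun g : G => if 2 ∣ orderOf g then (1 : ℂ) else 0)
      (χ : G → ℂ) = if χ ∈ A then (χ : G → ℂ) J / 4 else 0 := fun χ => by
    rw [Block.KleinOrder.inner_singular hM hP hone hJ hJ2 χ]
    exact if_congr (by simp [A]) rfl rfl
  have hzero : ∑ χ ∈ A, (χ : G → ℂ) J / 4 * Block.FS.ind (χ : G → ℂ) = 0 := by
    have h1 : Block.FS.ind (fun g : G => if 2 ∣ orderOf g then (1 : ℂ) else 0) = 0 := by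
      rw [Block.FS.ind, Finset.sum_eq_zero fun g _ => ?_, mul_zero]
      refine if_neg fun hg => ?_
      obtain ⟨u, v, huv, hcom, ⟨j, hj⟩, hv, hug, -⟩ := Block.exists_pPart_zpowers (p := 2) g
      obtain ⟨Q, hQ⟩ := (IsPGroup.of_card (n := j) (G := Subgroup.zpowers u)
        (by rw [Nat.card_zpowers, hj])).exists_le_sylow
      have hQk := Block.KleinOrder.sylow_klein hP Q
      have hu2 : u * u = 1 := by
        haveI := hQk
        exact congrArg Subtype.val (IsKleinFour.mul_self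
          (⟨u, hQ (Subgroup.mem_zpowers u)⟩ : (Q : Subgroup G)))
      refine hv (hg.trans ?_)
      rw [show g * g = v * v by rw [← huv, hcom.symm.mul_mul_mul_comm, hu2, one_mul]]
      exact orderOf_dvd_of_mem_zpowers
        (Subgroup.mul_mem _ (Subgroup.mem_zpowers v) (Subgroup.mem_zpowers v))
    have h2 : (fun g : G => if 2 ∣ orderOf g then (1 : ℂ) else 0) =
        fun g : G => ∑ χ ∈ A, (χ : G → ℂ) J / 4 * (χ : G → ℂ) g := by
      funext g
      have h3 := congrFun (Char.classFunction_expansion hcf) g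
      simp only [Finset.sum_apply, Pi.smul_apply, smul_eq_mul, hin, ite_mul, zero_mul] at h3
      rw [h3, ← Finset.sum_filter]
      exact Finset.sum_congr (Finset.ext fun χ => by simp) fun _ _ => rfl
    rw [h2, Block.FS.ind_sum] at h1
    exact h1
  have hconjJ : ∀ χ ∈ A, ∀ ξ : IrrCharacter G, (∀ g, (ξ : G → ℂ) g = conj ((χ : G → ℂ) g)) →
      ξ ∈ A ∧ (ξ : G → ℂ) J = (χ : G → ℂ) J := by
    intro χ hχ ξ hξ
    obtain ⟨k, hk⟩ := Block.char_involution_int χ
      (show J * J = 1 by rw [← pow_two, ← hJ2, pow_orderOf_eq_one])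
    have hJv : (ξ : G → ℂ) J = (χ : G → ℂ) J := by rw [hξ, hk, map_intCast]
    refine ⟨?_, hJv⟩
    by_contra hno
    have h1 := hin χ
    have h2 := hin ξ
    rw [if_pos hχ] at h1
    rw [if_neg hno] at h2
    have h3 : classInner (fun g : G => if 2 ∣ orderOf g then (1 : ℂ) else 0) (ξ : G → ℂ) =
        conj (classInner (fun g : G => if 2 ∣ orderOf g then (1 : ℂ) else 0) (χ : G → ℂ)) := by
      simp only [classInner, map_mul, map_inv₀, map_natCast, map_sum, Complex.conj_conj, hξ]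
      congr 1
      refine Finset.sum_congr rfl fun g _ => ?_
      by_cases hg : 2 ∣ orderOf g <;> simp [hg]
    rw [h2, h1, map_div₀, hk, map_intCast, map_ofNat] at h3
    have hne : (χ : G → ℂ) J ≠ 0 := by
      rw [hAeq] at hχ
      simp only [Finset.mem_insert, Finset.mem_singleton] at hχ
      rcases hχ with rfl | rfl | rfl | rfl <;> simp [htr, v1, v2, v3]
    rw [hk] at hne
    exact hne (by linear_combination -4 * h3)
  have hx12 : x₁ = x₂ := by
    by_contra hne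
    have hreal : ∀ χ ∈ A, ∀ g, ((χ : G → ℂ) g).im = 0 := by
      intro χ hχ
      let ξ : IrrCharacter G := ⟨_, Char.IsIrr.conj χ.2⟩
      obtain ⟨hξA, hξJ⟩ := hconjJ χ hχ ξ fun g => rfl
      have hfix : ξ = χ := by
        have hdeg : Cfsg.charDegree (ξ : G → ℂ) = Cfsg.charDegree (χ : G → ℂ) := by
          have h1 := Block.charDeg_spec' ξ
          have h2 := Block.charDeg_spec' χ
          change conj ((χ : G → ℂ) 1) = _ at h1
          rw [h2, map_natCast] at h1
          exact_mod_cast h1.symm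
        rw [hAeq] at hξA hχ
        simp only [Finset.mem_insert, Finset.mem_singleton] at hξA hχ
        rcases hχ with h | h | h | h
        · subst χ; exact Subtype.ext (funext fun g => map_one _)
        · subst χ
          rcases hξA with e | e | e | e
          · exfalso
            refine n1 (funext fun g => ?_)
            have := congrFun (congrArg Subtype.val e) g
            change conj ((χ₁ : G → ℂ) g) = 1 at this
            simpa using congrArg conj this
          · exact e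
          · exact absurd (by rw [hx₁, hx₂, ← hdeg, e]) hne
          · rw [e, v1, v3] at hξJ
            norm_num at hξJ
        · subst χ
          rcases hξA with e | e | e | e
          · exfalso
            refine n2 (funext fun g => ?_)
            have := congrFun (congrArg Subtype.val e) g
            change conj ((χ₂ : G → ℂ) g) = 1 at this
            simpa using congrArg conj this
          · exact absurd (by rw [hx₁, hx₂, ← hdeg, e]) hne
          · exact e
          · rw [e, v2, v3] at hξJ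
            norm_num at hξJ
        · subst χ
          rcases hξA with e | e | e | e
          · rw [e, htr, v3] at hξJ
            norm_num at hξJ
          · rw [e, v1, v3] at hξJ
            norm_num at hξJ
          · rw [e, v2, v3] at hξJ
            norm_num at hξJ
          · exact e
      intro g
      refine Complex.conj_eq_iff_im.1 ?_
      exact congrFun (congrArg Subtype.val hfix) g
    rw [Finset.sum_congr rfl (g := fun χ : IrrCharacter G => (χ : G → ℂ) J / 4) fun χ hχ => by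
      rw [show Block.FS.ind (χ : G → ℂ) = 1 from
        Char.Forms.ind_of_odd_real χ (hreal χ hχ) (hodd χ hχ), mul_one],
      hsum, htr, v1, v2, v3] at hzero
    norm_num at hzero
  have hq : x₃ = 2 * x₁ + 1 := by
    have h : (x₃ : ℚ) = ((2 * x₁ + 1 : ℕ) : ℚ) := by
      push_cast at hrel ⊢
      have h12 : (x₁ : ℚ) = x₂ := by exact_mod_cast hx12
      linarith
    exact_mod_cast h
  set a := x₁ with ha
  have hap : 1 ≤ a := hpos.1
  have ha0 : (a : ℚ) ≠ 0 := Nat.cast_ne_zero.2 (Nat.one_le_iff_ne_zero.1 hap)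
  -- the index of the centralizer is a multiple of the degree
  obtain ⟨I, hI⟩ : a ∣ (Subgroup.centralizer ({J} : Set G)).index := by
    refine Char.nat_dvd_of_isIntegral_div (by omega) ?_
    have h := Char.IsIrr.isIntegral_centralChar χ₁.2 J
    rw [v1, Int.cast_one, mul_one, Block.charDeg_spec'] at h
    exact h
  have hGc : Nat.card G = a * I * c := by
    rw [← hI, hc, Subgroup.index_mul_card]
  have hcPc : cP ∣ c := Subgroup.card_dvd_of_le (Subgroup.centralizer_le (Set.singleton_subset_iff.2 hJ))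
  obtain ⟨n, hn⟩ := hcPc
  have hcpos : 0 < c := Nat.card_pos
  have hcPpos : 0 < cP := Nat.card_pos
  have hkey : 4 * (n : ℚ) ^ 2 * (2 * a + 1) = (I : ℚ) * (a + 1) ^ 2 := by
    rw [hGc, ← hx12, hq, hn] at hQ
    push_cast at hQ
    have hn0 : (n : ℚ) ≠ 0 := Nat.cast_ne_zero.2 fun h => by rw [h, mul_zero] at hn; omega
    have hcP0 : (cP : ℚ) ≠ 0 := Nat.cast_ne_zero.2 hcPpos.ne'
    have h2a : (2 * (a : ℚ) + 1) ≠ 0 := by positivity
    field_simp at hQ
    linear_combination hQ / 2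
  have hkeyN : 4 * n ^ 2 * (2 * a + 1) = I * (a + 1) ^ 2 := by exact_mod_cast hkey
  obtain ⟨m, hm⟩ : a + 1 ∣ 2 * n := by
    have hco : Nat.Coprime ((a + 1) ^ 2) (2 * a + 1) := by
      refine Nat.Coprime.pow_left 2 ?_
      have h0 : Nat.gcd (a + 1) (2 * a + 1) ∣ 1 := by
        have h1 := Nat.dvd_sub (Dvd.dvd.mul_left (Nat.gcd_dvd_left (a + 1) (2 * a + 1)) 2)
          (Nat.gcd_dvd_right (a + 1) (2 * a + 1))
        rwa [show 2 * (a + 1) - (2 * a + 1) = 1 by omega] at h1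
      exact Nat.eq_one_of_dvd_one h0
    have hd : (a + 1) ^ 2 ∣ (2 * n) ^ 2 * (2 * a + 1) := ⟨I, by rw [mul_pow]; linarith⟩
    exact (Nat.pow_dvd_pow_iff (by norm_num)).1 (hco.dvd_of_dvd_mul_right hd)
  refine ⟨m, ?_, ?_⟩
  · rw [hn, hq]
    calc 4 * (cP * n) = cP * 2 * (2 * n) := by ring
      _ = _ := by rw [hm]; ring
  · have hle : x₃ ≤ x₃ ^ 3 := Nat.le_self_pow (by norm_num) _
    have hgoal : ((8 * Nat.card G : ℕ) : ℚ) = ((m ^ 3 * cP * (x₃ ^ 3 - x₃) : ℕ) : ℚ) := by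
      rw [Nat.cast_mul, Nat.cast_mul, Nat.cast_mul, Nat.cast_pow, Nat.cast_sub hle, hGc, hn, hq]
      push_cast
      have hm' : (2 * n : ℚ) = ((a : ℚ) + 1) * m := by exact_mod_cast hm
      have hI' : (I : ℚ) = (m : ℚ) ^ 2 * (2 * a + 1) := by
        have hne : ((a : ℚ) + 1) ^ 2 ≠ 0 := by positivity
        refine mul_right_cancel₀ hne ?_
        rw [← hkey]
        linear_combination (2 * (a : ℚ) + 1) * (2 * n + (a + 1) * m) * hm'
      rw [hI', show (n : ℚ) = ((a : ℚ) + 1) * m / 2 by linarith]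
      ring
    exact_mod_cast hgoal

end Cfsg.Agent.S4480
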