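import Cfsg.Statements.S0824
import Cfsg.Agent.Lib.Classical.SingularPerm
import Cfsg.Agent.S0288
-- import your own Cfsg.Agent.* helpers here

set_option autoImplicit false
open Cfsg

namespace Cfsg.Agent.S0824

/-- O⁻_4(2) ≅ S_5: the isometry group of the form x y + z_1² + z_1 z_2 + z_2² over the field with 2 elements is isomorphic to the symmetric group on 5 letters. -/
theorem result {F : Type*} [Field F] [Fintype F] (hF : Fintype.card F = 2) : Nonempty (↥(Cfsg.isometryGroup F (Cfsg.quadFormMinus 1 F 1 1)) ≃* Equiv.Perm (Fin 5)) := by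
  classical
  have e : F ≃+* ZMod 2 := (ZMod.ringEquivOfPrime F Nat.prime_two hF).symm
  have h2 : (1 + 1 : F) = 0 := e.injective (by rw [map_add, map_one, map_zero]; decide)
  set Q : ((Fin 1 ⊕ Fin 1) ⊕ Fin 2 → F) → F := Cfsg.quadFormMinus 1 F 1 1 with hQ
  have hsing : Nat.card (Classical.SingularPerm.Sing Q) = 5 := by
    rw [Nat.card_congr (Equiv.subtypeEquiv
      (q := fun w : (Fin 1 ⊕ Fin 1) ⊕ Fin 2 → ZMod 2 => w ≠ 0 ∧ Cfsg.quadFormMinus 1 (ZMod 2) 1 1 w = 0)
      (Equiv.piCongrRight fun _ => e.toEquiv) fun v => ?_), Nat.card_eq_fintype_card]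
    · decide +kernel
    · refine and_congr (not_congr ⟨fun h => by subst h; funext i; exact map_zero e,
        fun h => funext fun i => e.injective (by rw [Pi.zero_apply, map_zero]; exact congrFun h i)⟩) ?_
      rw [← e.injective.eq_iff (b := (0 : F)), map_zero, hQ]
      simp [Cfsg.quadFormMinus, map_sum]
  have hspan : Submodule.span F (Set.range fun v : Classical.SingularPerm.Sing Q => v.1) = ⊤ := by
    rw [eq_top_iff, ← (Pi.basisFun F ((Fin 1 ⊕ Fin 1) ⊕ Fin 2)).span_eq, Submodule.span_le]
    rintro _ ⟨i, rfl⟩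
    set W := Submodule.span F (Set.range fun v : Classical.SingularPerm.Sing Q => v.1)
    have mem : ∀ v, v ≠ 0 → Q v = 0 → v ∈ W := fun v h0 h => Submodule.subset_span ⟨⟨v, h0, h⟩, rfl⟩
    have hx : Pi.single (Sum.inl (Sum.inl 0)) (1 : F) ∈ W := mem _ (by simp) (by simp [hQ, Cfsg.quadFormMinus])
    have hy : Pi.single (Sum.inl (Sum.inr 0)) (1 : F) ∈ W := mem _ (by simp) (by simp [hQ, Cfsg.quadFormMinus])
    rw [Pi.basisFun_apply]
    rcases i with (i | i) | i
    · rw [Subsingleton.elim i 0]; exact hx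
    · rw [Subsingleton.elim i 0]; exact hy
    · have hz := mem (Pi.single (Sum.inl (Sum.inl 0)) (1 : F) + Pi.single (Sum.inl (Sum.inr 0)) 1 + Pi.single (Sum.inr i) 1)
        (fun h => by simpa using congrFun h (Sum.inr i))
        (by fin_cases i <;> simp [hQ, Cfsg.quadFormMinus, h2])
      simpa using W.sub_mem hz (W.add_mem hx hy)
  have hcard : Nat.card (Cfsg.isometryGroup F Q) = 120 := by
    have h := Cfsg.Agent.S0288.result (F := F) hF 2 (by norm_num) 1 1 (fun z₁ z₂ h => by
      have key : ∀ a b : ZMod 2, a ^ 2 + 1 * a * b + 1 * b ^ 2 = 0 → a = 0 ∧ b = 0 := by decide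
      have h' := congrArg e h
      simp only [map_add, map_mul, map_pow, map_one, map_zero] at h'
      obtain ⟨ha, hb⟩ := key _ _ h'
      exact ⟨e.injective (ha.trans (map_zero e).symm), e.injective (hb.trans (map_zero e).symm)⟩)
    norm_num [Finset.prod_range_succ] at h
    rw [Nat.card_eq_fintype_card]
    exact h
  haveI : Finite (Classical.SingularPerm.Sing Q) := Nat.finite_of_card_ne_zero (by rw [hsing]; norm_num)
  let φ := (Finite.equivFinOfCardEq hsing).permCongrHom.toMonoidHom.comp (Classical.SingularPerm.toPerm Q)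
  have hinj : Function.Injective φ :=
    (Finite.equivFinOfCardEq hsing).permCongrHom.injective.comp (Classical.SingularPerm.toPerm_injective Q hspan)
  refine ⟨MulEquiv.ofBijective φ (hinj.bijective_of_nat_card_le ?_)⟩
  rw [hcard, Nat.card_perm, Nat.card_fin]
  rfl

end Cfsg.Agent.S0824
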