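import Cfsg.Statements.S2946
import Cfsg.Prelude.Def_JComponents
import Cfsg.Agent.Lib.Invol.ZJElem
import Cfsg.Agent.Lib.Transfer.Thompson
import Cfsg.Agent.Lib.Grp.Frattini
import Cfsg.Agent.Lib.Grp.Cores

set_option linter.style.haveILetI false

set_option autoImplicit false
open Cfsg

namespace Cfsg.Agent.S2946

open Cfsg.Agent Cfsg.Agent.Invol
open scoped commutatorElement

theorem mem_omegaCenterOf {G : Type*} [Group G] {R : Subgroup G} {x : G} :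
    x ∈ Cfsg.omegaCenterOf R ↔ x ∈ R ∧ (∀ r ∈ R, r * x = x * r) ∧ x * x = 1 := by
  constructor
  · intro hx
    unfold Cfsg.omegaCenterOf Cfsg.omegaOne at hx
    induction hx using Subgroup.closure_induction with
    | mem y hy =>
      obtain ⟨hy1, hy2⟩ := hy
      exact ⟨hy1.1, fun r hr => Subgroup.mem_centralizer_iff.1 hy1.2 r hr, by rw [← pow_two, hy2]⟩
    | one => exact ⟨one_mem _, fun r _ => by simp, one_mul 1⟩
    | mul a b _ _ ha hb =>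
      refine ⟨mul_mem ha.1 hb.1, fun r hr => ((show Commute r a from ha.2.1 r hr).mul_right (hb.2.1 r hr)).eq, ?_⟩
      have hba : b * a = a * b := (ha.2.1 b hb.1)
      calc a * b * (a * b) = a * (b * a) * b := by group
        _ = a * a * (b * b) := by rw [hba]; group
        _ = 1 := by rw [ha.2.2, hb.2.2, one_mul]
    | inv a _ ha =>
      rw [inv_eq_of_mul_eq_one_right ha.2.2]; exact ha
  · rintro ⟨h1, h2, h3⟩
    exact Subgroup.subset_closure ⟨⟨h1, Subgroup.mem_centralizer_iff.2 h2⟩, by rw [pow_two, h3]⟩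

theorem exists_isMaxEl {G : Type*} [Group G] [Finite G] (R : Subgroup G) : ∃ A, IsMaxEl 2 R A := by
  obtain ⟨B, hB⟩ := Transfer.Thompson.exists_max (p := 2) (G := R)
  refine ⟨B.map R.subtype, isMaxEl_iff.2 ⟨Subgroup.map_subtype_le B, ?_⟩⟩
  rwa [Subgroup.subgroupOf, Subgroup.comap_map_eq_self_of_injective R.subtype_injective]

theorem normalizer_le_pCoreOf {G : Type*} [Group G] {K : Subgroup G} {g : G}
    (hg : g ∈ Subgroup.normalizer (K : Set G)) {q : G} (hq : q ∈ Cfsg.pCoreOf 2 K) :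
    g * q * g⁻¹ ∈ Cfsg.pCoreOf 2 K := by
  obtain ⟨a, ha, rfl⟩ := hq
  have hc : (Cfsg.pCore 2 ↥K).comap (K.normalizerMonoidHom ⟨g, hg⟩).toMonoidHom = Cfsg.pCore 2 ↥K :=
    Subgroup.characteristic_iff_comap_eq.1 inferInstance _
  rw [← hc] at ha
  exact ⟨_, ha, rfl⟩

theorem pow_comm_conj {G : Type*} [Group G] {v c d : G} (h : d * v * d⁻¹ = c * v) (hc : d * c * d⁻¹ = c)
    (n : ℕ) : d ^ n * v * (d ^ n)⁻¹ = c ^ n * v := by
  induction n with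
  | zero => simp
  | succ n ih =>
    calc d ^ (n + 1) * v * (d ^ (n + 1))⁻¹ = d * (d ^ n * v * (d ^ n)⁻¹) * d⁻¹ := by rw [pow_succ']; group
      _ = d * (c ^ n * v) * d⁻¹ := by rw [ih]
      _ = (d * c ^ n * d⁻¹) * (d * v * d⁻¹) := by rw [conj_mul]
      _ = c ^ n * (c * v) := by rw [h, ← conj_pow, hc]
      _ = c ^ (n + 1) * v := by rw [pow_succ, mul_assoc]



theorem hfour {G : Type*} [Group G] [Finite G] (W : Subgroup G) (h4 : Nat.card ↥W = 4) (hsq : ∀ w ∈ W, w * w = 1)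
    (u : G) (hu : u ∈ W) (v : G) (hv : v ∈ W) (hu1 : u ≠ 1) (hv1 : v ≠ 1) (huv : u ≠ v) (w : G) (hw : w ∈ W) :
    w = 1 ∨ w = u ∨ w = v ∨ w = u * v := by
  classical
  by_contra h
  simp only [not_or] at h
  obtain ⟨h1, h2, h3, h5⟩ := h
  have hsub : (({w, 1, u, v, u * v} : Finset G) : Set G) ⊆ (W : Set G) := by
    intro t ht
    simp only [Finset.coe_insert, Finset.coe_singleton, Set.mem_insert_iff, Set.mem_singleton_iff] at ht
    rcases ht with rfl | rfl | rfl | rfl | rfl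
    exacts [hw, one_mem W, hu, hv, mul_mem hu hv]
  have huv1 : u * v ≠ 1 := fun e => huv (by rw [← inv_eq_of_mul_eq_one_right (hsq u hu), inv_eq_of_mul_eq_one_right e])
  have hc : ({w, 1, u, v, u * v} : Finset G).card = 5 := by
    simp [h1, h2, h3, h5, hu1, hv1, huv, Ne.symm hu1, Ne.symm hv1, Ne.symm huv1, huv1]
  have := Set.ncard_le_ncard hsub (Set.toFinite _)
  rw [Set.ncard_coe_finset, hc, ← Nat.card_coe_set_eq, show Nat.card ↥((W : Set G)) = 4 from h4] at this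
  omega

theorem hpair {G : Type*} [Group G] [Finite G] (W : Subgroup G) (h4 : Nat.card ↥W = 4) (hsq : ∀ w ∈ W, w * w = 1)
    (hc : ∀ a ∈ W, ∀ b ∈ W, a * b = b * a) (b x : G) (hb2 : b ^ 2 = 1) (hx2 : x ^ 2 = 1) (hbx : b * x = x * b)
    (hbn : ∀ w ∈ W, b * w * b⁻¹ ∈ W) (hxn : ∀ w ∈ W, x * w * x⁻¹ ∈ W)
    (hb : b ∉ Subgroup.centralizer (W : Set G)) (hx : x ∉ Subgroup.centralizer (W : Set G)) :
    b⁻¹ * x ∈ Subgroup.centralizer (W : Set G) := by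
  obtain ⟨v, hv, hbv⟩ : ∃ v ∈ W, v * b ≠ b * v := by
    by_contra h; push_neg at h; exact hb (Subgroup.mem_centralizer_iff.2 h)
  rw [pow_two] at hb2 hx2
  obtain ⟨v', hv'⟩ : ∃ v', v' = b * v * b⁻¹ := ⟨_, rfl⟩
  have hv'W : v' ∈ W := hv' ▸ hbn v hv
  have hne : v ≠ v' := fun e => hbv (mul_inv_eq_iff_eq_mul.1 (hv'.symm.trans e.symm)).symm
  have hv1 : v ≠ 1 := fun e => hbv (by subst e; simp)
  have hv'1 : v' ≠ 1 := fun e => hv1 (conj_eq_one_iff.1 (hv'.symm.trans e))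
  have hbb : b * v' * b⁻¹ = v := by
    rw [hv', show b * (b * v * b⁻¹) * b⁻¹ = (b * b) * v * (b * b)⁻¹ by group, hb2]; simp
  have hall : ∀ w ∈ W, w = 1 ∨ w = v ∨ w = v' ∨ w = v * v' := hfour W h4 hsq v hv v' hv'W hv1 hv'1 hne
  -- `x` acts as `b`
  have hx0 : b * (x * v * x⁻¹) * b⁻¹ = x * v' * x⁻¹ := by
    calc b * (x * v * x⁻¹) * b⁻¹ = (b * x) * v * (b * x)⁻¹ := by group
      _ = (x * b) * v * (x * b)⁻¹ := by rw [hbx]
      _ = x * v' * x⁻¹ := by rw [hv']; group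
  have hxv : x * v * x⁻¹ = v' := by
    rcases hall _ (hxn v hv) with e | e | e | e
    · exact absurd (conj_eq_one_iff.1 e) hv1
    · exfalso
      rw [e] at hx0
      have e' : x * v' * x⁻¹ = v' := by rw [← hx0, ← hv']
      refine hx (Subgroup.mem_centralizer_iff.2 fun w hw => ?_)
      have c1 : Commute x v := (mul_inv_eq_iff_eq_mul.1 e : x * v = v * x)
      have c2 : Commute x v' := (mul_inv_eq_iff_eq_mul.1 e' : x * v' = v' * x)
      rcases hall w hw with rfl | rfl | rfl | rfl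
      exacts [(Commute.one_left x).eq, c1.eq.symm, c2.eq.symm, (c1.mul_right c2).eq.symm]
    · exact e
    · exfalso
      have h1 : b * (v * v') * b⁻¹ = v * v' := by rw [← conj_mul, ← hv', hbb, hc v' hv'W v hv]
      rw [e, h1] at hx0
      exact hne (mul_left_cancel (mul_right_cancel (e.trans hx0)))
  have hxv' : x * v' * x⁻¹ = v := by rw [← hx0, hxv, hbb]
  have h0 : ∀ u, b * (b⁻¹ * x * u * (b⁻¹ * x)⁻¹) * b⁻¹ = x * u * x⁻¹ := fun u => by group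
  have c1 : Commute (b⁻¹ * x) v := (mul_inv_eq_iff_eq_mul.1 (mul_left_cancel (mul_right_cancel
    ((h0 v).trans (hxv.trans hv')))) : _)
  have c2 : Commute (b⁻¹ * x) v' := (mul_inv_eq_iff_eq_mul.1 (mul_left_cancel (mul_right_cancel
    ((h0 v').trans (hxv'.trans hbb.symm)))) : _)
  refine Subgroup.mem_centralizer_iff.2 fun w hw => ?_
  rcases hall w hw with rfl | rfl | rfl | rfl
  exacts [(Commute.one_left _).eq, c1.eq.symm, c2.eq.symm, (c1.mul_right c2).eq.symm]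

/-- Let G be a finite group of characteristic 2 type in which every 2-local subgroup is solvable and the centralizer of Ω₁(Z(S)) lies in N_G(S) for every Sylow 2-subgroup S, and let T be a nontrivial 2-subgroup (below, J is the Thompson subgroup generated by the elementary abelian 2-subgroups of largest order), K a J(T)-component and Z₀ = Ω₁(Z(J(T))). Then Z₀ meets W_K = [Ω₁(Z(O₂(K))), K] in a subgroup of order 2, and Z₀ is the product of Z₀ ∩ Z(⟨K, J(T)⟩) and Z₀ ∩ W_K. -/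
theorem result {G : Type*} [Group G] [Finite G] (hL : Cfsg.IsCharacteristicTwoType G) (hN : ∀ N : Subgroup G, Cfsg.IsTwoLocal N → Group.IsSolvable ↥N)
    (hZ : ∀ S : Sylow 2 G, Subgroup.centralizer (Cfsg.omegaCenterOf (S : Subgroup G) : Set G) ≤ Subgroup.normalizer ((S : Subgroup G) : Set G)) (T : Subgroup G) (hT : IsPGroup 2 ↥T) (hT1 : T ≠ ⊥) (K : Subgroup G) (hK : Cfsg.IsJComponent T K)
    (Z₀ : Subgroup G) (hZ₀ : Z₀ = Cfsg.omegaCenterOf (Cfsg.thompsonSubgroupOf 2 T)) :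
    Nat.card ↥(Z₀ ⊓ Cfsg.wOf K) = 2 ∧
      (Z₀ ⊓ ((K ⊔ Cfsg.thompsonSubgroupOf 2 T) ⊓ Subgroup.centralizer ((K ⊔ Cfsg.thompsonSubgroupOf 2 T) : Set G))) ⊔ (Z₀ ⊓ Cfsg.wOf K) = Z₀ := by
  classical
  haveI : Fact (Nat.Prime 2) := ⟨Nat.prime_two⟩
  obtain ⟨hodd, hcom, hidx, hSyl, hW4, hWsq⟩ := hK
  obtain ⟨J, hJ⟩ : ∃ J, J = Cfsg.thompsonSubgroupOf 2 T := ⟨_, rfl⟩
  rw [← hJ] at hcom hSyl hZ₀ ⊢
  obtain ⟨W, hW⟩ : ∃ W, W = Cfsg.wOf K := ⟨_, rfl⟩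
  rw [← hW] at hW4 hWsq ⊢
  obtain ⟨Q, hQ⟩ : ∃ Q, Q = Cfsg.pCoreOf 2 K := ⟨_, rfl⟩
  rw [← hQ] at hidx
  have hJK : J ≤ Subgroup.normalizer (K : Set G) :=
    le_trans (Grp.right_le_normalizer_commutator J K) (le_of_eq (by rw [hcom]))
  have hQK : Q ≤ K := hQ ▸ Subgroup.map_subtype_le _
  have hNQ : ∀ g ∈ Subgroup.normalizer (K : Set G), ∀ q ∈ Q, g * q * g⁻¹ ∈ Q := fun g hg q hq =>
    hQ ▸ normalizer_le_pCoreOf hg (hQ ▸ hq)
  have hNV : ∀ g ∈ Subgroup.normalizer (K : Set G), ∀ v ∈ Cfsg.omegaCenterOf Q,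
      g * v * g⁻¹ ∈ Cfsg.omegaCenterOf Q := fun g hg v hv => by
    obtain ⟨h1, h2, h3⟩ := mem_omegaCenterOf.1 hv
    refine mem_omegaCenterOf.2 ⟨hNQ g hg v h1, fun r hr => ?_, by rw [conj_mul, h3, mul_one, mul_inv_cancel]⟩
    have h := h2 _ (hNQ _ (inv_mem hg) r hr)
    calc r * (g * v * g⁻¹) = g * ((g⁻¹ * r * g⁻¹⁻¹) * v) * g⁻¹ := by group
      _ = g * (v * (g⁻¹ * r * g⁻¹⁻¹)) * g⁻¹ := by rw [h]
      _ = g * v * g⁻¹ * r := by group
  have hW' : W = ⁅Cfsg.omegaCenterOf Q, K⁆ := by rw [hW, hQ]; rfl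
  have hWV : W ≤ Cfsg.omegaCenterOf Q := hW' ▸ Subgroup.commutator_le.2 fun v hv k hk => by
    rw [commutatorElement_def, show v * k * v⁻¹ * k⁻¹ = v * (k * v⁻¹ * k⁻¹) by group]
    exact mul_mem hv (hNV k (Subgroup.le_normalizer hk) _ (inv_mem hv))
  have hNW : ∀ g ∈ Subgroup.normalizer (K : Set G), ∀ w ∈ W, g * w * g⁻¹ ∈ W := fun g hg w hw => by
    have h : W.map (MulAut.conj g).toMonoidHom ≤ W := by
      rw [hW', Subgroup.map_commutator]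
      refine Subgroup.commutator_mono ?_ ?_
      · rintro _ ⟨v, hv, rfl⟩; exact hNV g hg v hv
      · rintro _ ⟨k, hk, rfl⟩; exact (Subgroup.mem_normalizer_iff.1 hg k).1 hk
    exact h ⟨w, hw, rfl⟩
  have hWc : ∀ a ∈ W, ∀ b ∈ W, a * b = b * a := fun a ha b hb =>
    (mem_omegaCenterOf.1 (hWV hb)).2.1 a (mem_omegaCenterOf.1 (hWV ha)).1
  have hWinv : ∀ w ∈ W, w⁻¹ = w := fun w hw => inv_eq_of_mul_eq_one_right (hWsq w hw)
  have hQcW : ∀ q ∈ Q, ∀ w ∈ W, q * w = w * q := fun q hq w hw => (mem_omegaCenterOf.1 (hWV hw)).2.1 q hq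
  -- some element of odd order moves `W`
  obtain ⟨d, hd, hdo, hdW⟩ : ∃ d ∈ K, Odd (orderOf d) ∧ ¬ ∀ w ∈ W, d * w = w * d := by
    by_contra h
    push_neg at h
    have hbot : W = ⊥ := by
      rw [hW', Subgroup.commutator_eq_bot_iff_le_centralizer]
      intro v hv
      rw [← hodd, Subgroup.centralizer_closure, Subgroup.mem_centralizer_iff]
      rintro d ⟨hdK, hdo⟩
      have hc : d * v * d⁻¹ * v⁻¹ ∈ W := by
        have := inv_mem (hW' ▸ Subgroup.commutator_mem_commutator hv hdK : ⁅v, d⁆ ∈ W)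
        rw [commutatorElement_def] at this
        simpa [mul_assoc] using this
      obtain ⟨c, hcd⟩ : ∃ c, c = d * v * d⁻¹ * v⁻¹ := ⟨_, rfl⟩
      rw [← hcd] at hc
      have h1 : d * v * d⁻¹ = c * v := by rw [hcd, inv_mul_cancel_right]
      have h2 : d * c * d⁻¹ = c := by rw [h d hdK hdo c hc, mul_inv_cancel_right]
      have h3 := pow_comm_conj h1 h2 (orderOf d)
      rw [pow_orderOf_eq_one, one_mul, inv_one, mul_one] at h3
      obtain ⟨j, hj⟩ := hdo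
      rw [hj, pow_succ, pow_mul, pow_two, hWsq c hc, one_pow, one_mul] at h3
      have hc1 : c = 1 := mul_eq_right.1 h3.symm
      rw [hc1, one_mul] at h1
      exact mul_inv_eq_iff_eq_mul.1 h1
    rw [hbot, Subgroup.card_bot] at hW4
    omega
  have hKW : ¬ K ≤ Subgroup.centralizer (W : Set G) := fun h => hdW fun w hw =>
    ((Subgroup.mem_centralizer_iff.1 (h hd)) w hw).symm
  have hKC : K ⊓ Subgroup.centralizer (W : Set G) = Q := by
    have hle : Q ≤ K ⊓ Subgroup.centralizer (W : Set G) :=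
      le_inf hQK fun q hq => Subgroup.mem_centralizer_iff.2 fun w hw => (hQcW q hq w hw).symm
    have hm := Subgroup.relIndex_mul_relIndex Q _ K hle inf_le_left
    rw [hidx] at hm
    rcases (Nat.dvd_prime Nat.prime_three).1 (Dvd.intro _ hm) with h | h
    · exact le_antisymm (Subgroup.relIndex_eq_one.1 h) hle
    · have h1 : (K ⊓ Subgroup.centralizer (W : Set G)).relIndex K = 1 := by rw [h] at hm; omega
      exact absurd (Subgroup.relIndex_eq_one.1 h1) fun h' => hKW (h'.trans inf_le_right)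
  -- the group `X` and a Sylow 2-subgroup containing `J`
  obtain ⟨X, hX⟩ : ∃ X, X = K ⊔ J := ⟨_, rfl⟩
  rw [← hX] at hSyl ⊢
  have hKX : K ≤ X := hX ▸ le_sup_left
  have hJX : J ≤ X := hX ▸ le_sup_right
  have hXN : X ≤ Subgroup.normalizer (K : Set G) := hX ▸ sup_le Subgroup.le_normalizer hJK
  have hXmem : ∀ x ∈ X, ∃ k ∈ K, ∃ j ∈ J, k * j = x := fun x hx => by
    rw [hX, ← SetLike.mem_coe, Subgroup.coe_mul_of_right_le_normalizer_left _ _ hJK] at hx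
    exact hx
  have hJp : IsPGroup 2 ↥J := hJ ▸ hT.to_le (Subgroup.map_subtype_le _)
  obtain ⟨P, hP⟩ := (hJp.of_equiv (Subgroup.subgroupOfEquivOfLe hJX).symm).exists_le_sylow
  obtain ⟨S, hS⟩ : ∃ S, S = (P : Subgroup ↥X).map X.subtype := ⟨_, rfl⟩
  have hSX : S ≤ X := hS ▸ Subgroup.map_subtype_le _
  have hJS : J ≤ S := hS ▸ fun j hj => ⟨⟨j, hJX hj⟩, hP hj, rfl⟩
  have hSp : IsPGroup 2 ↥S := hS ▸ P.isPGroup'.map _
  have hS2 : Cfsg.IsSylowTwoIn S X := by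
    refine ⟨hSX, hSp, ?_⟩
    rw [hS, Subgroup.relIndex, Subgroup.subgroupOf,
      Subgroup.comap_map_eq_self_of_injective X.subtype_injective, ← Nat.not_even_iff_odd, even_iff_two_dvd]
    exact P.not_dvd_index
  have hJeq : Cfsg.thompsonSubgroupOf 2 S = J := hSyl S hS2 hJS
  have hnorm : ∀ (N : Subgroup G), N ≤ X → IsPGroup 2 ↥N → (∀ x ∈ X, ∀ n ∈ N, x * n * x⁻¹ ∈ N) → N ≤ S := by
    intro N hN hNp hNn
    haveI : (N.subgroupOf X).Normal := ⟨fun n hn x => hNn x x.2 n hn⟩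
    have hle : N.subgroupOf X ≤ (P : Subgroup ↥X) :=
      (Grp.le_pCore inferInstance (hNp.of_equiv (Subgroup.subgroupOfEquivOfLe hN).symm)).trans (Grp.pCore_le_sylow P)
    rw [hS, ← Subgroup.map_subgroupOf_eq_of_le hN]
    exact Subgroup.map_mono hle
  have hQp : IsPGroup 2 ↥Q := hQ ▸ Grp.pCore_isPGroup.map _
  have hQS : Q ≤ S := hnorm Q (hQK.trans hKX) hQp fun x hx q hq => hNQ x (hXN hx) q hq
  have hWQ : W ≤ Q := fun w hw => (mem_omegaCenterOf.1 (hWV hw)).1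
  have hWS : W ≤ S := hWQ.trans hQS
  -- `J` moves `W`
  have hJW : ¬ J ≤ Subgroup.centralizer (W : Set G) := fun h => hKW (by
    rw [← hcom]
    refine Subgroup.commutator_le.2 fun k hk j hj => ?_
    rw [commutatorElement_def]
    refine mul_mem (Subgroup.mem_centralizer_iff.2 fun w hw => ?_) (inv_mem (h hj))
    have hc := Subgroup.mem_centralizer_iff.1 (h hj) (k⁻¹ * w * k⁻¹⁻¹) (hNW _ (inv_mem (Subgroup.le_normalizer hk)) w hw)
    calc w * (k * j * k⁻¹) = k * ((k⁻¹ * w * k⁻¹⁻¹) * j) * k⁻¹ := by group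
      _ = k * (j * (k⁻¹ * w * k⁻¹⁻¹)) * k⁻¹ := by rw [hc]
      _ = k * j * k⁻¹ * w := by group)
  obtain ⟨A, hA, a, haA, haW⟩ : ∃ A, IsMaxEl 2 S A ∧ ∃ a ∈ A, a ∉ Subgroup.centralizer (W : Set G) := by
    by_contra h
    push_neg at h
    exact hJW (hJeq ▸ thompsonEl_le_of h)
  -- the members meeting the centralizer of `W` in a subgroup of index two, enlarged by `W`
  have hcard4 : ∀ U : Subgroup G, U ≤ W → U ≠ W → Nat.card ↥U ≤ 2 := fun U hU hne => by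
    have h1 := Subgroup.card_dvd_of_le hU
    rw [hW4] at h1
    have h2 : Nat.card ↥U ≠ 4 := fun e => hne (Subgroup.eq_of_le_of_card_ge hU (by omega))
    have h3 : Nat.card ↥U ≤ 4 := Nat.le_of_dvd (by omega) h1
    have h4 : Nat.card ↥U ≠ 3 := fun e => by rw [e] at h1; omega
    omega
  have henl : ∀ B, IsMaxEl 2 S B → ¬ B ≤ Subgroup.centralizer (W : Set G) →
      IsMaxEl 2 S ((B ⊓ Subgroup.centralizer (W : Set G)) ⊔ W) := by
    intro B hB hBW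
    obtain ⟨b, hbB, hbW⟩ := SetLike.not_le_iff_exists.1 hBW
    obtain ⟨B₀, hB₀⟩ : ∃ B₀, B₀ = B ⊓ Subgroup.centralizer (W : Set G) := ⟨_, rfl⟩
    rw [← hB₀]
    have hN : B₀ ≤ Subgroup.normalizer (W : Set G) := hB₀ ▸ fun x hx => Subgroup.centralizer_le_normalizer _ hx.2
    have hel : (∀ x ∈ B₀ ⊔ W, ∀ y ∈ B₀ ⊔ W, x * y = y * x) ∧ ∀ x ∈ B₀ ⊔ W, x ^ 2 = 1 := by
      have hm : ∀ x ∈ B₀ ⊔ W, ∃ u ∈ B₀, ∃ w ∈ W, u * w = x := fun x hx => by
        rwa [← SetLike.mem_coe, Subgroup.coe_mul_of_left_le_normalizer_right _ _ hN] at hx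
      refine ⟨fun x hx y hy => ?_, fun x hx => ?_⟩
      · obtain ⟨u, hu, w, hw, rfl⟩ := hm x hx
        obtain ⟨u', hu', w', hw', rfl⟩ := hm y hy
        rw [hB₀] at hu hu'
        have h1 : Commute u u' := hB.2.1.1 u hu.1 u' hu'.1
        have h2 : Commute u w' := (Subgroup.mem_centralizer_iff.1 hu.2 w' hw').symm
        have h3 : Commute w u' := Subgroup.mem_centralizer_iff.1 hu'.2 w hw
        have h4 : Commute w w' := hWc w hw w' hw'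
        exact ((h1.mul_right h2).mul_left (h3.mul_right h4)).eq
      · obtain ⟨u, hu, w, hw, rfl⟩ := hm x hx
        rw [hB₀] at hu
        rw [(show Commute u w from (Subgroup.mem_centralizer_iff.1 hu.2 w hw).symm).mul_pow, hB.2.1.2 u hu.1,
          pow_two, hWsq w hw, one_mul]
    refine ⟨sup_le (hB₀ ▸ inf_le_left.trans hB.1) hWS, hel, fun C hC hC' => (hB.2.2 C hC hC').trans ?_⟩
    have hsm := Grp.card_sup_mul_card_inf hN
    rw [hW4] at hsm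
    have hi : Nat.card ↥(B₀ ⊓ W) ≤ 2 := hcard4 _ inf_le_right fun e => hbW (Subgroup.mem_centralizer_iff.2
      fun w hw => (hB.2.1.1 b hbB w (hB₀ ▸ ((e.symm.le hw).1)).1).symm)
    -- the index is at most two
    have hB2 : Nat.card ↥B ≤ 2 * Nat.card ↥B₀ := by
      obtain ⟨w₁, hw₁, hbw₁⟩ : ∃ w ∈ W, w * b ≠ b * w := by
        by_contra h; push_neg at h; exact hbW (Subgroup.mem_centralizer_iff.2 h)
      have hsub : (B : Set G) ⊆ (B₀ : Set G) ∪ (fun y => b * y) '' (B₀ : Set G) := by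
        intro x hx
        by_cases hxW : x ∈ Subgroup.centralizer (W : Set G)
        · exact Or.inl (hB₀ ▸ Subgroup.mem_inf.2 ⟨hx, hxW⟩)
        refine Or.inr ⟨b⁻¹ * x, hB₀ ▸ Subgroup.mem_inf.2 ⟨mul_mem (inv_mem hbB) hx, ?_⟩, by group⟩
        exact hpair W hW4 hWsq hWc b x (hB.2.1.2 b hbB) (hB.2.1.2 x hx) (hB.2.1.1 b hbB x hx)
          (fun w hw => hNW b (hXN (hSX (hB.1 hbB))) w hw) (fun w hw => hNW x (hXN (hSX (hB.1 hx))) w hw) hbW hxW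
      have h1 := (Set.ncard_le_ncard hsub (Set.toFinite _)).trans (Set.ncard_union_le _ _)
      rw [Set.ncard_image_of_injective _ (mul_right_injective b), ← Nat.card_coe_set_eq,
        ← Nat.card_coe_set_eq] at h1
      rw [two_mul]; exact h1
    nlinarith [Nat.card_pos (α := ↥(B₀ ⊔ W : Subgroup G))]
  have hWJ : W ≤ J := fun w hw =>
    hJeq ▸ (henl A hA fun h => haW (h haA)).le_thompsonEl (Subgroup.mem_sup_right hw)
  have haJ : a ∈ J := hJeq ▸ hA.le_thompsonEl haA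
  -- the fixed point `w₀`
  haveI : Group.IsNilpotent ↥J := hJp.isNilpotent
  haveI : (W.subgroupOf J).Normal := ⟨fun w hw j => hNW j (hJK j.2) w hw⟩
  obtain ⟨⟨w₀', hw₀'W, hw₀'Z⟩, hw₀'1⟩ := (Subgroup.ne_bot_iff_exists_ne_one).1 (Grp.inf_center_ne_bot (W.subgroupOf J) (fun h => by
    rw [Subgroup.subgroupOf_eq_bot, disjoint_iff, inf_eq_left.2 hWJ] at h
    rw [h, Subgroup.card_bot] at hW4; omega))
  obtain ⟨w₀, hw₀⟩ : ∃ w₀, w₀ = (w₀' : G) := ⟨_, rfl⟩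
  have hw₀W : w₀ ∈ W := hw₀ ▸ hw₀'W
  have hw₀1 : w₀ ≠ 1 := fun e => hw₀'1 (Subtype.ext (Subtype.ext (hw₀ ▸ e)))
  have hw₀J : ∀ j ∈ J, j * w₀ = w₀ * j := fun j hj =>
    hw₀ ▸ congrArg Subtype.val (Subgroup.mem_center_iff.1 hw₀'Z ⟨j, hj⟩)
  have hZmem : ∀ x, x ∈ Z₀ ↔ x ∈ J ∧ (∀ r ∈ J, r * x = x * r) ∧ x * x = 1 := fun x => hZ₀ ▸ mem_omegaCenterOf
  have hw₀Z : w₀ ∈ Z₀ := (hZmem w₀).2 ⟨hWJ hw₀W, hw₀J, hWsq w₀ hw₀W⟩
  have hcard2 : Nat.card ↥(Z₀ ⊓ W) = 2 := by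
    have h1 := hcard4 (Z₀ ⊓ W) inf_le_right fun e => haW (Subgroup.mem_centralizer_iff.2 fun w hw =>
      (((hZmem w).1 (e.symm.le hw).1).2.1 a haJ).symm)
    have h2 : 1 < Nat.card ↥(Z₀ ⊓ W) := Finite.one_lt_card_iff_nontrivial.2
      ⟨⟨⟨w₀, hw₀Z, hw₀W⟩, 1, fun e => hw₀1 (congrArg Subtype.val e)⟩⟩
    omega
  refine ⟨hcard2, le_antisymm (sup_le inf_le_left inf_le_left) ?_⟩
  -- the two fixed points `w₀` and `w₁`
  have helts : ∀ u ∈ W, ∀ v ∈ W, u ≠ 1 → v ≠ 1 → u ≠ v → ∀ w ∈ W, w = 1 ∨ w = u ∨ w = v ∨ w = u * v :=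
    fun u hu v hv hu1 hv1 huv w hw => hfour W hW4 hWsq u hu v hv hu1 hv1 huv w hw
  obtain ⟨w₁, hw₁⟩ : ∃ w₁, w₁ = d * w₀ * d⁻¹ := ⟨_, rfl⟩
  have hw₁W : w₁ ∈ W := hw₁ ▸ hNW d (Subgroup.le_normalizer hd) w₀ hw₀W
  have hw₁1 : w₁ ≠ 1 := fun e => hw₀1 (conj_eq_one_iff.1 (hw₁ ▸ e))
  have hw₀₁ : w₀ ≠ w₁ := by
    intro e
    apply hdW
    have hd0 : Commute d w₀ := (mul_inv_eq_iff_eq_mul.1 (hw₁ ▸ e.symm) : d * w₀ = w₀ * d)
    intro v hv
    by_cases hv0 : v = 1 ∨ v = w₀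
    · rcases hv0 with rfl | rfl
      · simp
      · exact hd0
    rw [not_or] at hv0
    have hdv : d * v * d⁻¹ ∈ W := hNW d (Subgroup.le_normalizer hd) v hv
    rcases helts w₀ hw₀W v hv hw₀1 hv0.1 (Ne.symm hv0.2) _ hdv with h | h | h | h
    · exact absurd (conj_eq_one_iff.1 h) hv0.1
    · refine absurd (mul_left_cancel (a := d) ?_) hv0.2
      rw [hd0.eq, ← mul_inv_eq_iff_eq_mul]; exact h
    · exact mul_inv_eq_iff_eq_mul.1 h
    · have h2 := pow_comm_conj h (by rw [hd0.eq, mul_inv_cancel_right]) (orderOf d)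
      rw [pow_orderOf_eq_one, one_mul, inv_one, mul_one] at h2
      obtain ⟨j, hj⟩ := hdo
      rw [hj, pow_succ, pow_mul, pow_two, hWsq w₀ hw₀W, one_pow, one_mul] at h2
      exact absurd (mul_eq_right.1 h2.symm) hw₀1
  have hmove : ∀ v ∈ W, v ≠ 1 → v ≠ w₀ → a * v * a⁻¹ = w₀ * v := by
    intro v hv hv1 hv0
    have h0 : a * w₀ * a⁻¹ = w₀ := by rw [hw₀J a haJ, mul_inv_cancel_right]
    rcases helts w₀ hw₀W v hv hw₀1 hv1 (Ne.symm hv0) _ (hNW a (hJK haJ) v hv) with h | h | h | h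
    · exact absurd (conj_eq_one_iff.1 h) hv1
    · exact absurd (mul_left_cancel (mul_right_cancel (h.trans h0.symm))) hv0
    · refine absurd (Subgroup.mem_centralizer_iff.2 fun w hw => ?_) haW
      have hav : Commute a v := (mul_inv_eq_iff_eq_mul.1 h : a * v = v * a)
      have ha0 : Commute a w₀ := hw₀J a haJ
      rcases helts w₀ hw₀W v hv hw₀1 hv1 (Ne.symm hv0) w hw with rfl | rfl | rfl | rfl
      exacts [(Commute.one_left a).eq, ha0.eq.symm, hav.eq.symm, (ha0.mul_right hav).eq.symm]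
    · exact h
  -- `K` lies in the group generated by two conjugates of `J`
  obtain ⟨H, hH⟩ : ∃ H, H = J ⊔ J.map (MulAut.conj d).toMonoidHom := ⟨_, rfl⟩
  have hHX : H ≤ X := hH ▸ sup_le hJX (by
    rintro _ ⟨j, hj, rfl⟩; exact mul_mem (mul_mem (hKX hd) (hJX hj)) (inv_mem (hKX hd)))
  have hJH : J ≤ H := hH ▸ le_sup_left
  have hJdH : ∀ j ∈ J, d * j * d⁻¹ ∈ H := fun j hj => hH ▸ Subgroup.mem_sup_right ⟨j, hj, rfl⟩
  obtain ⟨c, hc⟩ : ∃ c, c = a * (d * a * d⁻¹) := ⟨_, rfl⟩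
  have hcH : c ∈ H := hc ▸ mul_mem (hJH haJ) (hJdH a haJ)
  have h01 : w₀ * w₁ ∈ W := mul_mem hw₀W hw₁W
  have hd1 : ∀ w ∈ W, d⁻¹ * w * d ∈ W := fun w hw => by
    simpa using hNW d⁻¹ (inv_mem (Subgroup.le_normalizer hd)) w hw
  have hb0 : (d * a * d⁻¹) * w₀ * (d * a * d⁻¹)⁻¹ = w₁ * w₀ := by
    have h1 : d⁻¹ * w₀ * d ≠ 1 := fun e => hw₀1 (by
      calc w₀ = d * (d⁻¹ * w₀ * d) * d⁻¹ := by group
        _ = 1 := by rw [e]; group)
    have h2 : d⁻¹ * w₀ * d ≠ w₀ := fun e => hw₀₁ (by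
      calc w₀ = d * (d⁻¹ * w₀ * d) * d⁻¹ := by group
        _ = w₁ := by rw [e, hw₁])
    calc (d * a * d⁻¹) * w₀ * (d * a * d⁻¹)⁻¹ = d * (a * (d⁻¹ * w₀ * d) * a⁻¹) * d⁻¹ := by group
      _ = d * (w₀ * (d⁻¹ * w₀ * d)) * d⁻¹ := by rw [hmove _ (hd1 w₀ hw₀W) h1 h2]
      _ = w₁ * w₀ := by rw [hw₁]; group
  have hb1 : (d * a * d⁻¹) * w₁ * (d * a * d⁻¹)⁻¹ = w₁ := by
    calc (d * a * d⁻¹) * w₁ * (d * a * d⁻¹)⁻¹ = d * (a * w₀ * a⁻¹) * d⁻¹ := by rw [hw₁]; group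
      _ = w₁ := by rw [hw₀J a haJ, mul_inv_cancel_right, hw₁]
  have ha1 : a * w₁ * a⁻¹ = w₀ * w₁ := hmove w₁ hw₁W hw₁1 (Ne.symm hw₀₁)
  have hc0 : c * w₀ * c⁻¹ = w₁ := by
    calc c * w₀ * c⁻¹ = a * ((d * a * d⁻¹) * w₀ * (d * a * d⁻¹)⁻¹) * a⁻¹ := by rw [hc]; group
      _ = (a * w₁ * a⁻¹) * (a * w₀ * a⁻¹) := by rw [hb0, conj_mul]
      _ = w₁ * (w₀ * w₀) := by rw [ha1, hw₀J a haJ, mul_inv_cancel_right, hWc w₀ hw₀W w₁ hw₁W, mul_assoc]
      _ = w₁ := by rw [hWsq w₀ hw₀W, mul_one]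
  have hc1 : c * w₁ * c⁻¹ = w₀ * w₁ := by
    calc c * w₁ * c⁻¹ = a * ((d * a * d⁻¹) * w₁ * (d * a * d⁻¹)⁻¹) * a⁻¹ := by rw [hc]; group
      _ = w₀ * w₁ := by rw [hb1, ha1]
  have hSJ : ∀ s ∈ S, ∀ j ∈ J, s * j * s⁻¹ ∈ J := fun s hs j hj => by
    rw [← hJeq] at hj ⊢
    exact conj_mem_thompsonEl (Subgroup.le_normalizer hs) hj
  have hfix : ∀ x ∈ X, x * w₀ * x⁻¹ = w₀ → ∀ j ∈ J, x * j * x⁻¹ ∈ J := by
    intro x hx hx0 j hj
    obtain ⟨k, hk, i, hi, rfl⟩ := hXmem x hx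
    have hk0 : k * w₀ * k⁻¹ = w₀ := by
      calc k * w₀ * k⁻¹ = k * (i * w₀ * i⁻¹) * k⁻¹ := by rw [hw₀J i hi, mul_inv_cancel_right]
        _ = k * i * w₀ * (k * i)⁻¹ := by group
        _ = w₀ := hx0
    have hkQ : k ∈ Q := by
      by_contra hkQ
      have hkC : k ∉ Subgroup.centralizer (W : Set G) := fun h => hkQ (hKC ▸ Subgroup.mem_inf.2 ⟨hk, h⟩)
      have hkk : k * k ∈ Q := by
        rw [← hKC]
        refine Subgroup.mem_inf.2 ⟨mul_mem hk hk, Subgroup.mem_centralizer_iff.2 fun w hw => ?_⟩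
        have hk1 : k * w₁ * k⁻¹ = w₁ ∨ k * w₁ * k⁻¹ = w₀ * w₁ := by
          rcases helts w₀ hw₀W w₁ hw₁W hw₀1 hw₁1 hw₀₁ _ (hNW k (Subgroup.le_normalizer hk) w₁ hw₁W) with h | h | h | h
          · exact absurd (conj_eq_one_iff.1 h) hw₁1
          · exact absurd (mul_left_cancel (mul_right_cancel (h.trans hk0.symm))).symm hw₀₁
          · exact Or.inl h
          · exact Or.inr h
        have hkk0 : Commute (k * k) w₀ := (mul_inv_eq_iff_eq_mul.1 (by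
          rw [show k * k * w₀ * (k * k)⁻¹ = k * (k * w₀ * k⁻¹) * k⁻¹ by group, hk0, hk0]) : k * k * w₀ = w₀ * (k * k))
        have hkk1 : Commute (k * k) w₁ := (mul_inv_eq_iff_eq_mul.1 (by
          rw [show k * k * w₁ * (k * k)⁻¹ = k * (k * w₁ * k⁻¹) * k⁻¹ by group]
          rcases hk1 with h | h
          · rw [h, h]
          · rw [h, ← conj_mul, hk0, h, ← mul_assoc, hWsq w₀ hw₀W, one_mul]) : k * k * w₁ = w₁ * (k * k))
        rcases helts w₀ hw₀W w₁ hw₁W hw₀1 hw₁1 hw₀₁ w hw with rfl | rfl | rfl | rfl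
        exacts [(Commute.one_left _).eq, hkk0.eq.symm, hkk1.eq.symm, (hkk0.mul_right hkk1).eq.symm]
      -- the index of `Q` is odd
      have : k ∈ Q := by
        haveI : (Q.subgroupOf K).Normal := ⟨fun q hq g => hNQ g (Subgroup.le_normalizer g.2) q hq⟩
        obtain ⟨π, hπ⟩ : ∃ π, π = QuotientGroup.mk' (Q.subgroupOf K) := ⟨_, rfl⟩
        have h2 : orderOf (π ⟨k, hk⟩) ∣ 2 := orderOf_dvd_of_pow_eq_one (by
          rw [← map_pow, hπ]
          exact (QuotientGroup.eq_one_iff _).2 (by rw [Subgroup.mem_subgroupOf, pow_two]; exact hkk))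
        have h3 : orderOf (π ⟨k, hk⟩) ∣ 3 := by
          have := orderOf_dvd_natCard (π ⟨k, hk⟩)
          rwa [← Subgroup.index, show (Q.subgroupOf K).index = 3 from hidx] at this
        have h := orderOf_eq_one_iff.1 (Nat.eq_one_of_dvd_coprimes (by norm_num : Nat.Coprime 2 3) h2 h3)
        rw [hπ] at h
        exact Subgroup.mem_subgroupOf.1 ((QuotientGroup.eq_one_iff _).1 h)
      exact hkQ this
    rw [show k * i * j * (k * i)⁻¹ = k * (i * j * i⁻¹) * k⁻¹ by group]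
    exact hSJ k (hQS hkQ) _ (mul_mem (mul_mem hi hj) (inv_mem hi))
  have hconjH : ∀ x ∈ X, ∀ j ∈ J, x * j * x⁻¹ ∈ H := by
    intro x hx j hj
    obtain ⟨h, hh, hh0⟩ : ∃ h ∈ H, h * w₀ * h⁻¹ = x * w₀ * x⁻¹ := by
      rcases helts w₀ hw₀W w₁ hw₁W hw₀1 hw₁1 hw₀₁ _ (hNW x (hXN hx) w₀ hw₀W) with e | e | e | e
      · exact absurd (conj_eq_one_iff.1 e) hw₀1
      · exact ⟨1, one_mem _, by rw [e]; group⟩
      · exact ⟨c, hcH, by rw [e, hc0]⟩
      · exact ⟨c * c, mul_mem hcH hcH, by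
          rw [e, show c * c * w₀ * (c * c)⁻¹ = c * (c * w₀ * c⁻¹) * c⁻¹ by group, hc0, hc1]⟩
    have hf : (h⁻¹ * x) * w₀ * (h⁻¹ * x)⁻¹ = w₀ := by
      calc (h⁻¹ * x) * w₀ * (h⁻¹ * x)⁻¹ = h⁻¹ * (x * w₀ * x⁻¹) * h := by group
        _ = w₀ := by rw [← hh0]; group
    rw [show x * j * x⁻¹ = h * ((h⁻¹ * x) * j * (h⁻¹ * x)⁻¹) * h⁻¹ by group]
    exact mul_mem (mul_mem hh (hJH (hfix _ (mul_mem (inv_mem (hHX hh)) hx) hf j hj))) (inv_mem hh)
  have hKH : K ≤ H := hcom ▸ Subgroup.commutator_le.2 fun k hk j hj => by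
    rw [commutatorElement_def]
    exact mul_mem (hconjH k (hKX hk) j hj) (inv_mem (hJH hj))
  -- elements centralising the quotient of the common part modulo `W`
  obtain ⟨X₀, hX₀⟩ : ∃ X₀, X₀ = X ⊓ Subgroup.centralizer (W : Set G) := ⟨_, rfl⟩
  have hX₀n : ∀ x ∈ X, ∀ u ∈ X₀, x * u * x⁻¹ ∈ X₀ := fun x hx u hu => by
    rw [hX₀] at hu ⊢
    refine Subgroup.mem_inf.2 ⟨mul_mem (mul_mem hx hu.1) (inv_mem hx), Subgroup.mem_centralizer_iff.2 fun w hw => ?_⟩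
    have h := Subgroup.mem_centralizer_iff.1 hu.2 _ (hNW x⁻¹ (inv_mem (hXN hx)) w hw)
    calc w * (x * u * x⁻¹) = x * ((x⁻¹ * w * x⁻¹⁻¹) * u) * x⁻¹ := by group
      _ = x * (u * (x⁻¹ * w * x⁻¹⁻¹)) * x⁻¹ := by rw [h]
      _ = x * u * x⁻¹ * w := by group
  have hX₀p : IsPGroup 2 ↥X₀ := by
    haveI : (K.subgroupOf X).Normal := Subgroup.normal_subgroupOf_of_le_normalizer hXN
    intro u
    have hu : (u : G) ∈ X ∧ (u : G) ∈ Subgroup.centralizer (W : Set G) := by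
      have h := u.2; simp only [hX₀, Subgroup.mem_inf] at h; exact h
    obtain ⟨k, hk, i, hi, hki⟩ := hXmem u hu.1
    obtain ⟨n, hn⟩ := hJp ⟨i, hi⟩
    obtain ⟨π, hπ⟩ : ∃ π, π = QuotientGroup.mk' (K.subgroupOf X) := ⟨_, rfl⟩
    have h1 : π ⟨(u : G) ^ 2 ^ n, pow_mem hu.1 _⟩ = 1 := by
      have h0 : (⟨(u : G) ^ 2 ^ n, pow_mem hu.1 _⟩ : X) = (⟨k, hKX hk⟩ * ⟨i, hJX hi⟩) ^ 2 ^ n :=
        Subtype.ext (by show (u : G) ^ 2 ^ n = _; rw [← hki]; rfl)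
      rw [h0, map_pow, map_mul, show π ⟨k, hKX hk⟩ = 1 from hπ ▸ (QuotientGroup.eq_one_iff _).2 hk, one_mul,
        ← map_pow, show (⟨i, hJX hi⟩ : X) ^ 2 ^ n = 1 from Subtype.ext (congrArg Subtype.val hn :), map_one]
    rw [hπ] at h1
    have hQm : (u : G) ^ 2 ^ n ∈ Q :=
      hKC ▸ Subgroup.mem_inf.2 ⟨Subgroup.mem_subgroupOf.1 ((QuotientGroup.eq_one_iff _).1 h1), pow_mem hu.2 _⟩
    obtain ⟨m, hm⟩ := hQp ⟨_, hQm⟩
    exact ⟨n + m, Subtype.ext (by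
      have := congrArg Subtype.val hm
      simpa [pow_add, pow_mul] using this)⟩
  have hX₀S : X₀ ≤ S := hnorm X₀ (hX₀ ▸ inf_le_left) hX₀p hX₀n
  have henl₀ : ∀ B, IsMaxEl 2 S B → ¬ B ≤ Subgroup.centralizer (W : Set G) →
      IsMaxEl 2 X₀ ((B ⊓ Subgroup.centralizer (W : Set G)) ⊔ W) := fun B hB hBW => by
    obtain ⟨h1, h2, h3⟩ := henl B hB hBW
    refine ⟨?_, h2, fun C hC => h3 C (hC.trans hX₀S)⟩
    rw [hX₀]
    exact sup_le (le_inf (inf_le_left.trans (hB.1.trans hSX)) inf_le_right)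
      (le_inf (hWS.trans hSX) fun w hw => Subgroup.mem_centralizer_iff.2 fun v hv => hWc v hv w hw)
  obtain ⟨Y, hY⟩ : ∃ Y : Set G, Y = {y | ∀ B, IsMaxEl 2 X₀ B → y ∈ B} := ⟨_, rfl⟩
  have hYn : ∀ x ∈ X, ∀ y ∈ Y, x * y * x⁻¹ ∈ Y := by
    intro x hx y hy
    rw [hY] at hy ⊢
    intro B hB
    have hxn : x⁻¹ ∈ Subgroup.normalizer (X₀ : Set G) := Subgroup.mem_normalizer_iff.2 fun u =>
      ⟨fun hu => hX₀n _ (inv_mem hx) u hu, fun hu => by
        have := hX₀n x hx _ hu; rwa [show x * (x⁻¹ * u * x⁻¹⁻¹) * x⁻¹ = u by group] at this⟩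
    obtain ⟨b, hb, hbe⟩ := hy _ (hB.conj hxn)
    have : b = x * y * x⁻¹ := by rw [← hbe]; simp; group
    exact this ▸ hb
  let L : Subgroup G :=
    { carrier := {x | x ∈ X ∧ ∀ y ∈ Y, x * y * x⁻¹ * y⁻¹ ∈ W}
      one_mem' := ⟨one_mem X, fun y _ => by simp⟩
      mul_mem' := by
        rintro p q ⟨hp, hp'⟩ ⟨hq, hq'⟩
        refine ⟨mul_mem hp hq, fun y hy => ?_⟩
        rw [show p * q * y * (p * q)⁻¹ * y⁻¹ = (p * (q * y * q⁻¹) * p⁻¹ * (q * y * q⁻¹)⁻¹) * (q * y * q⁻¹ * y⁻¹) by group]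
        exact mul_mem (hp' _ (hYn q hq y hy)) (hq' y hy)
      inv_mem' := by
        rintro p ⟨hp, hp'⟩
        refine ⟨inv_mem hp, fun y hy => ?_⟩
        have h := inv_mem (hp' _ (hYn p⁻¹ (inv_mem hp) y hy))
        rwa [show (p * (p⁻¹ * y * p⁻¹⁻¹) * p⁻¹ * (p⁻¹ * y * p⁻¹⁻¹)⁻¹)⁻¹ = p⁻¹ * y * p⁻¹⁻¹ * y⁻¹ by group] at h }
  have hJL : J ≤ L := hJeq ▸ thompsonEl_le_of fun B hB b hb => by
    refine ⟨hSX (hB.1 hb), fun y hy => ?_⟩
    rw [hY] at hy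
    by_cases hBW : B ≤ Subgroup.centralizer (W : Set G)
    · have hB₀ : IsMaxEl 2 X₀ B :=
        ⟨hX₀ ▸ le_inf (hB.1.trans hSX) hBW, hB.2.1, fun C hC => hB.2.2 C (hC.trans hX₀S)⟩
      rw [hB.2.1.1 b hb y (hy B hB₀), mul_inv_cancel_right, mul_inv_cancel]
      exact one_mem W
    · have hm := hy _ (henl₀ B hB hBW)
      rw [← SetLike.mem_coe, Subgroup.coe_mul_of_left_le_normalizer_right _ _
        (fun v (hv : v ∈ B ⊓ Subgroup.centralizer (W : Set G)) => Subgroup.centralizer_le_normalizer _ hv.2)] at hm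
      obtain ⟨u, hu, w, hw, rfl⟩ := hm
      rw [show b * (u * w) * b⁻¹ * (u * w)⁻¹ = (b * u * b⁻¹) * (b * w * b⁻¹) * w⁻¹ * u⁻¹ by group,
        hB.2.1.1 b hb u hu.1, mul_inv_cancel_right,
        show u * (b * w * b⁻¹) * w⁻¹ * u⁻¹ = u * (b * w * b⁻¹ * w⁻¹) * u⁻¹ by group]
      have hbw : b * w * b⁻¹ * w⁻¹ ∈ W := mul_mem (hNW b (hXN (hSX (hB.1 hb))) w hw) (inv_mem hw)
      rw [← Subgroup.mem_centralizer_iff.1 hu.2 _ hbw, mul_inv_cancel_right]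
      exact hbw
  have hKL : K ≤ L := hcom ▸ Subgroup.commutator_le.2 fun k hk j hj => by
    rw [commutatorElement_def]
    refine mul_mem ⟨mul_mem (mul_mem (hKX hk) (hJX hj)) (inv_mem (hKX hk)), fun y hy => ?_⟩ (inv_mem (hJL hj))
    have h := hNW k (Subgroup.le_normalizer hk) _ ((hJL hj).2 _ (hYn k⁻¹ (inv_mem (hKX hk)) y hy))
    rwa [show k * (j * (k⁻¹ * y * k⁻¹⁻¹) * j⁻¹ * (k⁻¹ * y * k⁻¹⁻¹)⁻¹) * k⁻¹ = k * j * k⁻¹ * y * (k * j * k⁻¹)⁻¹ * y⁻¹ by group] at h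
  -- the decomposition
  intro z hz
  obtain ⟨hzJ, hzc, hzz⟩ := (hZmem z).1 hz
  have hzY : z ∈ Y := by
    rw [hY]
    intro B hB
    have hzW : z ∈ Subgroup.centralizer (W : Set G) := Subgroup.mem_centralizer_iff.2 fun w hw => hzc w (hWJ hw)
    have hBS : IsMaxEl 2 S B := ⟨hB.1.trans hX₀S, hB.2.1, fun C hC hC' =>
      ((henl A hA fun h => haW (h haA)).2.2 C hC hC').trans
        (hB.2.2 _ (henl₀ A hA fun h => haW (h haA)).1 (henl₀ A hA fun h => haW (h haA)).2.1)⟩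
    exact hBS.mem_of_commute (hJS hzJ) (by rw [pow_two, hzz]) fun b hb => hzc b (hJeq ▸ hBS.le_thompsonEl hb)
  obtain ⟨w, hw⟩ : ∃ w, w = d * z * d⁻¹ * z⁻¹ := ⟨_, rfl⟩
  have hwW : w ∈ W := hw ▸ (hKL hd).2 z hzY
  obtain ⟨u, hu, huw⟩ : ∃ u, (u = 1 ∨ u = w₀) ∧ (w * u = 1 ∨ w * u = w₁) := by
    rcases helts w₀ hw₀W w₁ hw₁W hw₀1 hw₁1 hw₀₁ w hwW with e | e | e | e
    · exact ⟨1, Or.inl rfl, Or.inl (by rw [e, one_mul])⟩
    · exact ⟨w₀, Or.inr rfl, Or.inl (by rw [e, hWsq w₀ hw₀W])⟩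
    · exact ⟨1, Or.inl rfl, Or.inr (by rw [e, mul_one])⟩
    · exact ⟨w₀, Or.inr rfl, Or.inr (by rw [e, hWc w₀ hw₀W w₁ hw₁W, mul_assoc, hWsq w₀ hw₀W, mul_one])⟩
  have huZ : u ∈ Z₀ ⊓ W := by
    rcases hu with rfl | rfl
    exacts [one_mem _, Subgroup.mem_inf.2 ⟨hw₀Z, hw₀W⟩]
  obtain ⟨y, hy⟩ : ∃ y, y = z * u := ⟨_, rfl⟩
  have hyZ : y ∈ Z₀ := hy ▸ mul_mem hz huZ.1
  have hzy : z = y * u := by rw [hy, mul_assoc, hWsq u huZ.2, mul_one]
  have hdy : d⁻¹ * y * d ∈ Z₀ := by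
    have hdu : d⁻¹ * (w * u) * d ∈ Z₀ := by
      rcases huw with e | e
      · rw [e]; simpa using one_mem Z₀
      · rw [e, hw₁, show d⁻¹ * (d * w₀ * d⁻¹) * d = w₀ by group]; exact hw₀Z
    have hzw : z * w = w * z := (hzc w (hWJ hwW)).symm
    have e : d⁻¹ * y * d = z * (d⁻¹ * (w * u) * d) := by
      have h1 : d * z * d⁻¹ = w * z := by rw [hw, inv_mul_cancel_right]
      calc d⁻¹ * y * d = d⁻¹ * (z * (w * w) * u) * d := by rw [hy, hWsq w hwW, mul_one]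
        _ = d⁻¹ * ((z * w) * (w * u)) * d := by group
        _ = d⁻¹ * ((d * z * d⁻¹) * (w * u)) * d := by rw [hzw, h1]
        _ = _ := by group
    rw [e]; exact mul_mem hz hdu
  have hyH : H ≤ Subgroup.centralizer ({y} : Set G) := hH ▸ sup_le
    (fun j hj => Subgroup.mem_centralizer_singleton_iff.2 (((hZmem y).1 hyZ).2.1 j hj)) (by
      rintro _ ⟨j, hj, rfl⟩
      refine Subgroup.mem_centralizer_singleton_iff.2 ?_
      have h := ((hZmem _).1 hdy).2.1 j hj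
      show d * j * d⁻¹ * y = y * (d * j * d⁻¹)
      calc d * j * d⁻¹ * y = d * (j * (d⁻¹ * y * d)) * d⁻¹ := by group
        _ = d * ((d⁻¹ * y * d) * j) * d⁻¹ := by rw [h]
        _ = y * (d * j * d⁻¹) := by group)
  rw [hzy]
  refine Subgroup.mul_mem_sup (Subgroup.mem_inf.2 ⟨hyZ, Subgroup.mem_inf.2 ⟨hJX ((hZmem y).1 hyZ).1,
    Subgroup.mem_centralizer_iff.2 fun x hx => ?_⟩⟩) huZ
  rcases hx with hx | hx
  · exact Subgroup.mem_centralizer_singleton_iff.1 (hyH (hKH hx))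
  · exact Subgroup.mem_centralizer_singleton_iff.1 (hyH (hJH hx))

end Cfsg.Agent.S2946
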