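import Cfsg.Prelude
import Cfsg.Agent.Lib.Grp.Coprime
-- import your own Cfsg.Agent.* helpers here

set_option autoImplicit false
open Cfsg

open scoped Pointwise commutatorElement

namespace Cfsg.Agent.S2941

/-- Let G be a finite group of characteristic 2 type in which every 2-local subgroup is solvable and the centralizer of Ω₁(Z(S)) lies in N_G(S) for every Sylow 2-subgroup S, and let T be a nontrivial 2-subgroup and K a J(T)-component (J the Thompson subgroup generated by the elementary abelian 2-subgroups of largest order). If a subgroup Q is normalized by ⟨K, J(T)⟩ and normalizes J(T), then Q normalizes K. -/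
theorem result {G : Type*} [Group G] [Finite G] (hL : Cfsg.IsCharacteristicTwoType G) (hN : ∀ N : Subgroup G, Cfsg.IsTwoLocal N → Group.IsSolvable ↥N)
    (hZ : ∀ S : Sylow 2 G, Subgroup.centralizer (Cfsg.omegaCenterOf (S : Subgroup G) : Set G) ≤ Subgroup.normalizer ((S : Subgroup G) : Set G)) (T : Subgroup G) (hT : IsPGroup 2 ↥T) (hT1 : T ≠ ⊥) (K : Subgroup G) (hK : Cfsg.IsJComponent T K)
    (Q : Subgroup G) (hQ1 : K ⊔ Cfsg.thompsonSubgroupOf 2 T ≤ Subgroup.normalizer (Q : Set G)) (hQ2 : Q ≤ Subgroup.normalizer (Cfsg.thompsonSubgroupOf 2 T : Set G)) :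
    Q ≤ Subgroup.normalizer (K : Set G) := by
  classical
  obtain ⟨hodd, hcom, -, -, -, -⟩ := hK
  set J := Cfsg.thompsonSubgroupOf 2 T with hJ
  set X := K ⊔ J with hX
  have hKX : K ≤ X := le_sup_left
  have hJX : J ≤ X := le_sup_right
  have hJK : J ≤ Subgroup.normalizer (K : Set G) :=
    le_trans (Grp.right_le_normalizer_commutator J K) (le_of_eq (by rw [hcom]))
  -- the commutators with `Q` fall into `X ⊓ Q`
  have hconjU : ∀ g ∈ X, ∀ u ∈ X ⊓ Q, g * u * g⁻¹ ∈ X ⊓ Q := fun g hg u hu =>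
    ⟨X.mul_mem (X.mul_mem hg hu.1) (X.inv_mem hg), (Subgroup.mem_normalizer_iff.mp (hQ1 hg) u).mp hu.2⟩
  let D : Subgroup G :=
    { carrier := {g | g ∈ X ∧ ∀ q ∈ Q, g * q * g⁻¹ * q⁻¹ ∈ X ⊓ Q}
      one_mem' := ⟨X.one_mem, fun q _ => by simp⟩
      mul_mem' := by
        rintro a b ⟨ha, ha'⟩ ⟨hb, hb'⟩
        refine ⟨X.mul_mem ha hb, fun q hq => ?_⟩
        rw [show a * b * q * (a * b)⁻¹ * q⁻¹ = a * (b * q * b⁻¹ * q⁻¹) * a⁻¹ * (a * q * a⁻¹ * q⁻¹) by group]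
        exact Subgroup.mul_mem _ (hconjU a ha _ (hb' q hq)) (ha' q hq)
      inv_mem' := by
        rintro a ⟨ha, ha'⟩
        refine ⟨X.inv_mem ha, fun q hq => ?_⟩
        rw [show a⁻¹ * q * a⁻¹⁻¹ * q⁻¹ = a⁻¹ * (a * q * a⁻¹ * q⁻¹)⁻¹ * a⁻¹⁻¹ by group]
        exact hconjU _ (X.inv_mem ha) _ (Subgroup.inv_mem _ (ha' q hq)) }
  have hJD : J ≤ D := fun j hj => ⟨hJX hj, fun q hq => ⟨by
      rw [show j * q * j⁻¹ * q⁻¹ = j * (q * j⁻¹ * q⁻¹) by group]
      exact X.mul_mem (hJX hj) (hJX ((Subgroup.mem_normalizer_iff.mp (hQ2 hq) _).mp (J.inv_mem hj))),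
    Q.mul_mem ((Subgroup.mem_normalizer_iff.mp (hQ1 (hJX hj)) q).mp hq) (Q.inv_mem hq)⟩⟩
  have hDn : ∀ g ∈ X, ∀ d ∈ D, g * d * g⁻¹ ∈ D := fun g hg d hd => by
    refine ⟨X.mul_mem (X.mul_mem hg hd.1) (X.inv_mem hg), fun q hq => ?_⟩
    have hq' : g⁻¹ * q * g ∈ Q := (Subgroup.mem_normalizer_iff''.mp (hQ1 hg) q).mp hq
    rw [show g * d * g⁻¹ * q * (g * d * g⁻¹)⁻¹ * q⁻¹ = g * (d * (g⁻¹ * q * g) * d⁻¹ * (g⁻¹ * q * g)⁻¹) * g⁻¹ by group]
    exact hconjU g hg _ (hd.2 _ hq')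
  have hKD : K ≤ D := le_trans hcom.ge (Subgroup.commutator_le.mpr fun k hk j hj => by
    rw [commutatorElement_def]
    exact D.mul_mem (hDn k (hKX hk) j (hJD hj)) (D.inv_mem (hJD hj)))
  have hQX : ∀ q ∈ Q, ∀ g ∈ X, q * g * q⁻¹ ∈ X := by
    intro q hq g hg
    have h1 : g ∈ D := (sup_le hKD hJD) hg
    have h2 := (h1.2 q hq).1
    have h3 := X.mul_mem (X.inv_mem hg) h2
    simpa [mul_assoc] using X.inv_mem h3
  have hJp : IsPGroup 2 ↥J := hT.to_le (Subgroup.map_subtype_le _)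
  have hoddK : ∀ g ∈ X, Odd (orderOf g) → g ∈ K := by
    intro g hg hgo
    haveI hn : (K.subgroupOf X).Normal :=
      Subgroup.normal_subgroupOf_of_le_normalizer (sup_le Subgroup.le_normalizer hJK)
    have hg' := hg
    rw [hX, ← SetLike.mem_coe, Subgroup.coe_mul_of_right_le_normalizer_left _ _ hJK] at hg'
    obtain ⟨k, hk, j, hj, hkj⟩ := hg'
    let q := QuotientGroup.mk' (K.subgroupOf X)
    have hqg : q ⟨g, hg⟩ = q ⟨j, hJX hj⟩ := by
      rw [show (⟨g, hg⟩ : X) = ⟨k, hKX hk⟩ * ⟨j, hJX hj⟩ from Subtype.ext hkj.symm, map_mul,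
        show q ⟨k, hKX hk⟩ = 1 from (QuotientGroup.eq_one_iff _).mpr hk, one_mul]
    have h1 : orderOf (q ⟨g, hg⟩) ∣ orderOf g := by
      refine (orderOf_map_dvd q _).trans ?_
      rw [Subgroup.orderOf_mk]
    obtain ⟨i, hi⟩ := IsPGroup.iff_orderOf.mp hJp ⟨j, hj⟩
    rw [Subgroup.orderOf_mk] at hi
    have h2 : orderOf (q ⟨g, hg⟩) ∣ 2 ^ i := by
      rw [hqg]
      refine (orderOf_map_dvd q _).trans ?_
      rw [Subgroup.orderOf_mk, hi]
    have h3 : q ⟨g, hg⟩ = 1 := orderOf_eq_one_iff.mp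
      (Nat.eq_one_of_dvd_coprimes (Nat.Coprime.pow_right i (Nat.coprime_two_right.mpr hgo)) h1 h2)
    exact Subgroup.mem_subgroupOf.mp ((QuotientGroup.eq_one_iff _).mp h3)
  intro q hq
  refine Subgroup.mem_normalizer_fintype fun x hx => ?_
  have : K.map (MulAut.conj q).toMonoidHom ≤ K := by
    conv_lhs => rw [← hodd]
    rw [MonoidHom.map_closure]
    refine (Subgroup.closure_le _).mpr ?_
    rintro _ ⟨g, ⟨hgK, hgo⟩, rfl⟩
    exact hoddK _ (hQX q hq g (hKX hgK)) (by rwa [MulEquiv.coe_toMonoidHom, MulEquiv.orderOf_eq])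
  exact this ⟨x, hx, rfl⟩

end Cfsg.Agent.S2941
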