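import Cfsg.Statements.S0612
import Cfsg.Agent.Lib.Transfer.OffenderStructure

set_option maxHeartbeats 1000000
set_option maxRecDepth 8000

set_option autoImplicit false
open Cfsg
open scoped commutatorElement Pointwise

namespace Cfsg.Agent.S0612

/-- In such a faithful group every nontrivial best offender decomposes as a direct product of minimal nontrivially-acting best offenders. -/
theorem result {G : Type*} [Group G] [Finite G] {p : ℕ} [Fact p.Prime] (V H : Subgroup G) (hV : Cfsg.IsElementaryAbelian p V) (hHV : H ≤ Subgroup.normalizer (V : Set G)) (hf : H ⊓ Subgroup.centralizer (V : Set G) = ⊥) (hS1 : Subgroup.centralizer (Cfsg.pPrimeCore p ↥H : Set ↥H) ≤ Cfsg.pPrimeCore p ↥H) (hS3 : H = ⨆ A : {A : Subgroup G // A ≤ H ∧ Cfsg.IsBestOffenderOn p V A}, (A : Subgroup G)) (hH1 : H ≠ ⊥) (A : Subgroup G) (hAH : A ≤ H) (hA : Cfsg.IsBestOffenderOn p V A) (hA1 : A ≠ ⊥) : ∃ (k : ℕ) (B : Fin k → Subgroup G), (∀ i, B i ≤ A ∧ Cfsg.IsBestOffenderOn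 p V (B i) ∧ ⁅V, B i⁆ ≠ ⊥ ∧ ∀ C : Subgroup G, C ≤ B i → Cfsg.IsBestOffenderOn p V C → ⁅V, C⁆ ≠ ⊥ → C = B i) ∧ iSupIndep B ∧ ⨆ i, B i = A := by
  have s := Transfer.Offender.setup_of hV hHV hf hS1
  obtain ⟨k, B, hB, hi, hs⟩ := s.exists_decomposition _ A rfl hAH (s.isExact_of_best hAH hA)
  refine ⟨k, B, fun i => ⟨(hB i).1, s.best_of_isExact ((hB i).1.trans hAH) (hB i).2.1, fun h => ?_, fun C hC _ hC1 => ?_⟩, hi, hs⟩
  · have h1 : B i ≤ Subgroup.centralizer (V : Set G) := by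
      rw [Subgroup.commutator_comm] at h
      exact Subgroup.commutator_eq_bot_iff_le_centralizer.mp h
    have h2 : B i = ⊥ := le_bot_iff.mp (hf ▸ le_inf ((hB i).1.trans hAH) h1)
    have h3 := (hB i).2.2
    rw [h2, Subgroup.card_bot] at h3
    exact (Fact.out : p.Prime).one_lt.ne h3
  · rcases (Nat.dvd_prime (Fact.out : p.Prime)).mp ((hB i).2.2 ▸ Subgroup.card_dvd_of_le hC) with h | h
    · exact absurd (by rw [Subgroup.card_eq_one.mp h, Subgroup.commutator_bot_right]) hC1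
    · exact Subgroup.eq_of_le_of_card_ge hC ((hB i).2.2.trans h.symm).le

end Cfsg.Agent.S0612
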