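import Cfsg.Statements.S0617
import Cfsg.Agent.Lib.Transfer.OffenderFactors

set_option maxHeartbeats 1000000
set_option maxRecDepth 8000

set_option autoImplicit false
open Cfsg
open scoped commutatorElement Pointwise

namespace Cfsg.Agent.S0617

/-- Structure Theorem for failure of factorization: a faithful group generated by best offenders, with self-centralizing p'-core, is a direct product of copies of SL(2, p) (p = 2 or 3), each acting on its own plane in V, which is the direct product of these planes and C_V(H). -/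
theorem result {G : Type*} [Group G] [Finite G] {p : ℕ} [Fact p.Prime] (V H : Subgroup G) (hV : Cfsg.IsElementaryAbelian p V) (hHV : H ≤ Subgroup.normalizer (V : Set G)) (hf : H ⊓ Subgroup.centralizer (V : Set G) = ⊥) (hS1 : Subgroup.centralizer (Cfsg.pPrimeCore p ↥H : Set ↥H) ≤ Cfsg.pPrimeCore p ↥H) (hS3 : H = ⨆ A : {A : Subgroup G // A ≤ H ∧ Cfsg.IsBestOffenderOn p V A}, (A : Subgroup G)) (hH1 : H ≠ ⊥) : (p = 2 ∨ p = 3) ∧ (∀ E : {E : Subgroup G // ∃ A : Subgroup G, A ≤ H ∧ Cfsg.IsBestOffenderOn p V A ∧ ⁅V, A⁆ ≠ ⊥ ∧ (∀ B : Subgroup G, B ≤ A → Cfsg.IsBestOffenderOn p V B → ⁅V, B⁆ ≠ ⊥ → B = A) ∧ E = ⁅((Cfsg.pPrimeCore p ↥H).map H.subtype), A⁆ ⊔ A}, H ≤ Subgroup.normalizer ((E : Subgroup G) : Set G) ∧ Nonempty (↥(E : Subgroup G) ≃* Matrix.SpecialLinearGroup (Fin 2) (ZMod p)) ∧ Nat.card ↥(⁅V, (E : Subgroup G)⁆) = p ^ 2) ∧ iSupIndep (fun E : {E : Subgroup G // ∃ A : Subgroup G, A ≤ H ∧ Cfsg.IsBestOffenderOn p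 V A ∧ ⁅V, A⁆ ≠ ⊥ ∧ (∀ B : Subgroup G, B ≤ A → Cfsg.IsBestOffenderOn p V B → ⁅V, B⁆ ≠ ⊥ → B = A) ∧ E = ⁅((Cfsg.pPrimeCore p ↥H).map H.subtype), A⁆ ⊔ A} => (E : Subgroup G)) ∧ (⨆ E : {E : Subgroup G // ∃ A : Subgroup G, A ≤ H ∧ Cfsg.IsBestOffenderOn p V A ∧ ⁅V, A⁆ ≠ ⊥ ∧ (∀ B : Subgroup G, B ≤ A → Cfsg.IsBestOffenderOn p V B → ⁅V, B⁆ ≠ ⊥ → B = A) ∧ E = ⁅((Cfsg.pPrimeCore p ↥H).map H.subtype), A⁆ ⊔ A}, (E : Subgroup G)) = H ∧ iSupIndep (fun o : Option {E : Subgroup G // ∃ A : Subgroup G, A ≤ H ∧ Cfsg.IsBestOffenderOn p V A ∧ ⁅V, A⁆ ≠ ⊥ ∧ (∀ B : Subgroup G, B ≤ A → Cfsg.IsBestOffenderOn p V B → ⁅V, B⁆ ≠ ⊥ → B = A) ∧ E = ⁅((Cfsg.pPrimeCore p ↥H).map H.subtype), A⁆ ⊔ A} => o.elim (V ⊓ Subgroup.centralizer (H : Set G)) (fun E => ⁅V, (E : Subgroup G)⁆)) ∧ (V ⊓ Subgroup.centralizer (H : Set G)) ⊔ (⨆ E : {E : Subgroup G // ∃ A : Subgroup G, A ≤ H ∧ Cfsg.IsBestOffenderOn p V A ∧ ⁅V, A⁆ ≠ ⊥ ∧ (∀ B : Subgroup G, B ≤ A →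 Cfsg.IsBestOffenderOn p V B → ⁅V, B⁆ ≠ ⊥ → B = A) ∧ E = ⁅((Cfsg.pPrimeCore p ↥H).map H.subtype), A⁆ ⊔ A}, ⁅V, (E : Subgroup G)⁆) = V := by
  set Q := (Cfsg.pPrimeCore p ↥H).map H.subtype
  have s : Transfer.Offender.Setup p V H Q := Transfer.Offender.setup_of hV hHV hf hS1
  have hiff : ∀ E : Subgroup G, Transfer.Offender.IsMinFactor p V H Q E ↔ Transfer.Offender.IsFactor p V H Q E := fun E => s.isMinFactor_iff
  let I := {E : Subgroup G // Transfer.Offender.IsMinFactor p V H Q E}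
  haveI : Fintype {E : Subgroup G // Transfer.Offender.IsFactor p V H Q E} := Fintype.ofFinite _
  let eI : I ≃ {E : Subgroup G // Transfer.Offender.IsFactor p V H Q E} :=
    Equiv.subtypeEquivRight hiff
  have hsup0 : (⨆ E : I, (E : Subgroup G)) =
      ⨆ E : {E : Subgroup G // Transfer.Offender.IsFactor p V H Q E}, (E : Subgroup G) :=
    eI.iSup_congr fun _ => rfl
  have hsup : (⨆ E : I, (E : Subgroup G)) = H := hsup0.trans (s.iSup_factor hS3)
  have hind : iSupIndep (fun E : I => (E : Subgroup G)) :=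
    s.iSupIndep_factor.comp eI.injective
  have hne : Nonempty I := by
    by_contra h
    rw [not_nonempty_iff] at h
    rw [iSup_of_empty] at hsup
    exact hH1 hsup.symm
  obtain ⟨E₀⟩ := hne
  have hcomp : ∀ E : I, (p = 2 ∨ p = 3) ∧ Transfer.Offender.Comp p V H Q E ⁅V, (E : Subgroup G)⁆
      (Transfer.Offender.fix V E) := fun E => ((hiff _).mp E.2).exists_comp s
  have huniv : (Finset.univ.sup fun E : {E : Subgroup G // Transfer.Offender.IsFactor p V H Q E} =>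
      (E : Subgroup G)) = H := by
    rw [Finset.sup_univ_eq_iSup, s.iSup_factor hS3]
  have hUsup : (Finset.univ.sup fun E : {E : Subgroup G // Transfer.Offender.IsFactor p V H Q E} =>
      ⁅V, (E : Subgroup G)⁆) = ⨆ E : I, ⁅V, (E : Subgroup G)⁆ := by
    rw [Finset.sup_univ_eq_iSup]
    exact (eI.iSup_congr fun _ => rfl).symm
  refine ⟨(hcomp E₀).1, fun E => ⟨((hcomp E).2.decomposition s hS3).1, (hcomp E).2.iso, (hcomp E).2.card_U⟩,
    hind, hsup, ?_, ?_⟩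
  · intro o
    rw [disjoint_iff]
    cases o with
    | none =>
      refine le_bot_iff.mp ?_
      refine le_trans (inf_le_inf le_rfl (?_ : _ ≤ ⨆ E : I, ⁅V, (E : Subgroup G)⁆)) (le_of_eq ?_)
      refine iSup₂_le ?_
      rotate_left
      · have := s.fix_inf_planes Finset.univ
        rw [hUsup, huniv] at this
        exact this
      · rintro (_ | E) h
        · exact absurd rfl h
        · exact le_iSup (fun E : I => ⁅V, (E : Subgroup G)⁆) E
    | some E =>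
      refine le_bot_iff.mp ((inf_le_inf_left _ (iSup₂_le ?_)).trans (hcomp E).2.inf_eq.le)
      rintro (_ | F) h
      · exact Transfer.Offender.fix_anti (hcomp E).2.EH
      · exact (((hiff _).mp E.2).orth s ((hiff _).mp F.2) fun e => h (congrArg some (Subtype.ext e))).1
  · refine le_antisymm (sup_le inf_le_left (iSup_le fun E => (hcomp E).2.UV)) ?_
    have := s.le_fix_sup_planes Finset.univ
    rw [hUsup, huniv] at this
    exact this

end Cfsg.Agent.S0617
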