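import Cfsg.Statements.S2401
import Cfsg.Agent.Lib.Lie.SteinbergSL
-- import your own Cfsg.Agent.* helpers here

set_option autoImplicit false
open Cfsg

namespace Cfsg.Agent.S2401

/-- The Steinberg presentation of `SL_n` over a finite field for `n ≥ 3`: the group generated by symbols `x_ij(t)` (`i ≠ j`, `t` in the field) subject to `x_ij(t) x_ij(u) = x_ij(t + u)` and, for `i ≠ l`, `x_ij(t) x_kl(u) x_ij(t)⁻¹ x_kl(u)⁻¹ = x_il(tu)` if `j = k` and `= 1` if `j ≠ k`, is isomorphic to `SL_n` by an isomorphism sending `x_ij(t)` to the elementary matrix `1 + t E_ij`. -/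
theorem result {K : Type*} [Field K] [Finite K] (n : ℕ) (hn : 3 ≤ n) :
    ∃ e : PresentedGroup
        ({g : FreeGroup ({ij : Fin n × Fin n // ij.1 ≠ ij.2} × K) | ∃ (a : {ij : Fin n × Fin n // ij.1 ≠ ij.2}) (t u : K),
            g = FreeGroup.of (a, t) * FreeGroup.of (a, u) * (FreeGroup.of (a, t + u))⁻¹} ∪
          {g | ∃ (a b : {ij : Fin n × Fin n // ij.1 ≠ ij.2}) (t u : K), a.1.1 ≠ b.1.2 ∧ a.1.2 ≠ b.1.1 ∧
            g = FreeGroup.of (a, t) * FreeGroup.of (b, u) * (FreeGroup.of (a, t))⁻¹ * (FreeGroup.of (b, u))⁻¹} ∪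
          {g | ∃ (a b : {ij : Fin n × Fin n // ij.1 ≠ ij.2}) (h : a.1.1 ≠ b.1.2) (t u : K), a.1.2 = b.1.1 ∧
            g = FreeGroup.of (a, t) * FreeGroup.of (b, u) * (FreeGroup.of (a, t))⁻¹ * (FreeGroup.of (b, u))⁻¹ *
              (FreeGroup.of (⟨(a.1.1, b.1.2), h⟩, t * u))⁻¹}) ≃* Matrix.SpecialLinearGroup (Fin n) K,
      ∀ (a : {ij : Fin n × Fin n // ij.1 ≠ ij.2}) (t : K), ((e (PresentedGroup.of (a, t)) : Matrix (Fin n) (Fin n) K)) = Matrix.transvection a.1.1 a.1.2 t := by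
  classical
  let rels : Set (FreeGroup ({ij : Fin n × Fin n // ij.1 ≠ ij.2} × K)) :=
    ({g : FreeGroup ({ij : Fin n × Fin n // ij.1 ≠ ij.2} × K) | ∃ (a : {ij : Fin n × Fin n // ij.1 ≠ ij.2}) (t u : K),
            g = FreeGroup.of (a, t) * FreeGroup.of (a, u) * (FreeGroup.of (a, t + u))⁻¹} ∪
          {g | ∃ (a b : {ij : Fin n × Fin n // ij.1 ≠ ij.2}) (t u : K), a.1.1 ≠ b.1.2 ∧ a.1.2 ≠ b.1.1 ∧
            g = FreeGroup.of (a, t) * FreeGroup.of (b, u) * (FreeGroup.of (a, t))⁻¹ * (FreeGroup.of (b, u))⁻¹} ∪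
          {g | ∃ (a b : {ij : Fin n × Fin n // ij.1 ≠ ij.2}) (h : a.1.1 ≠ b.1.2) (t u : K), a.1.2 = b.1.1 ∧
            g = FreeGroup.of (a, t) * FreeGroup.of (b, u) * (FreeGroup.of (a, t))⁻¹ * (FreeGroup.of (b, u))⁻¹ *
              (FreeGroup.of (⟨(a.1.1, b.1.2), h⟩, t * u))⁻¹})
  show ∃ e : PresentedGroup rels ≃* _, _
  let E := {ij : Fin n × Fin n // ij.1 ≠ ij.2}
  let X : Fin n → Fin n → K → PresentedGroup rels := fun i j t =>
    if h : i ≠ j then PresentedGroup.of (⟨(i, j), h⟩, t) else 1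
  have hX : ∀ (a : E) (t : K), PresentedGroup.of (rels := rels) (a, t) = X a.1.1 a.1.2 t :=
    fun a t => by simp only [X, dif_pos a.2]; rfl
  let P : Lie.SLSteinberg.SLPre K n (PresentedGroup rels) :=
    { X := X
      add := fun i j h t u => by
        simp only [X, dif_pos h]
        rw [← mul_inv_eq_one]
        exact PresentedGroup.one_of_mem (Or.inl (Or.inl ⟨⟨(i, j), h⟩, t, u, rfl⟩))
      comm₀ := fun i j k l h1 h2 h3 h4 t u => by
        have := PresentedGroup.one_of_mem (rels := rels)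
          (Or.inl (Or.inr ⟨⟨(i, j), h1⟩, ⟨(k, l), h2⟩, t, u, h4, h3, rfl⟩))
        simp only [map_mul, map_inv] at this
        simp only [X, dif_pos h1, dif_pos h2, Commute, SemiconjBy]
        exact commutatorElement_eq_one_iff_mul_comm.1 this
      comm₁ := fun i j k h1 h2 h3 t u => by
        have := PresentedGroup.one_of_mem (rels := rels)
          (Or.inr ⟨⟨(i, j), h1⟩, ⟨(j, k), h2⟩, h3, t, u, rfl, rfl⟩)
        simp only [map_mul, map_inv] at this
        simp only [X, dif_pos h1, dif_pos h2, dif_pos h3]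
        rw [mul_inv_eq_one, mul_inv_eq_iff_eq_mul, mul_inv_eq_iff_eq_mul] at this
        exact this }
  have hval : ∀ g ∈ rels, FreeGroup.lift (fun x : E × K =>
      Matrix.SpecialLinearGroup.transvection x.1.2 x.2) g = 1 := by
    rintro g ((⟨a, t, u, rfl⟩ | ⟨a, b, t, u, h1, h2, rfl⟩) | ⟨a, b, h, t, u, h2, rfl⟩)
    · simp only [map_mul, map_inv, FreeGroup.lift_apply_of, mul_inv_eq_one]
      refine Subtype.ext ?_
      simp only [Matrix.SpecialLinearGroup.coe_mul]
      exact Matrix.transvection_mul_transvection_same _ _ a.2 t u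
    · simp only [map_mul, map_inv, FreeGroup.lift_apply_of]
      rw [mul_inv_eq_one, mul_inv_eq_iff_eq_mul]
      refine Subtype.ext ?_
      simp only [Matrix.SpecialLinearGroup.coe_mul]
      exact (Lie.SLSteinberg.transvection_rels a.2 b.2 h1 t u).1 h2
    · simp only [map_mul, map_inv, FreeGroup.lift_apply_of]
      rw [mul_inv_eq_one, mul_inv_eq_iff_eq_mul, mul_inv_eq_iff_eq_mul]
      refine Subtype.ext ?_
      simp only [Matrix.SpecialLinearGroup.coe_mul]
      exact (Lie.SLSteinberg.transvection_rels a.2 b.2 h t u).2 h2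
  let A : Lie.SLSteinberg.SLSt K n (PresentedGroup rels) :=
    { P with
      θ := PresentedGroup.toGroup hval
      θX := fun i j h t => by
        show ((PresentedGroup.toGroup hval (X i j t) : _) : Matrix (Fin n) (Fin n) K) = _
        simp only [X, dif_pos h, PresentedGroup.toGroup.of, Matrix.SpecialLinearGroup.transvection_coe, Matrix.transvection]
      rel := fun i j h t u ht => P.rel_of_three hn i j h t u ht }
  have hgen : Subgroup.closure {g | ∃ i j, i ≠ j ∧ ∃ u, g = A.X i j u} = ⊤ := by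
    rw [eq_top_iff, ← PresentedGroup.closure_range_of rels, Subgroup.closure_le]
    rintro _ ⟨⟨a, t⟩, rfl⟩
    exact Subgroup.subset_closure ⟨_, _, a.2, t, hX a t⟩
  refine ⟨MulEquiv.ofBijective A.θ (Lie.SLSteinberg.bijective (by omega) A hgen), fun a t => ?_⟩
  show ((PresentedGroup.toGroup hval (PresentedGroup.of (a, t)) : _) : Matrix (Fin n) (Fin n) K) = _
  rw [PresentedGroup.toGroup.of]
  rfl

end Cfsg.Agent.S2401
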