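import Cfsg.Statements.S0369
import Cfsg.Agent.Lib.Spor.Golay.Basic

set_option autoImplicit false
open Cfsg

namespace Cfsg.Agent.S0369

open scoped Pointwise
open Cfsg.Agent.Spor.Golay

/-- The group of the length-24 code coincides with the automorphism group of its octad system. -/
theorem result : Cfsg.M24 = Cfsg.setSystemAut Cfsg.octads := by
  ext σ
  constructor
  · intro h
    rw [MulAction.mem_stabilizer_iff] at h ⊢
    ext s
    rw [Set.mem_smul_set_iff_inv_smul_mem]
    have hs : σ⁻¹ • s ∈ Cfsg.supports (Cfsg.golayCode : Set (Cfsg.GolayPt → ZMod 2)) ↔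
        s ∈ Cfsg.supports (Cfsg.golayCode : Set (Cfsg.GolayPt → ZMod 2)) := by
      conv_rhs => rw [← h]
      rw [Set.mem_smul_set_iff_inv_smul_mem]
    show _ ∧ _ ↔ _ ∧ _
    rw [hs, Finset.card_smul_finset]
  · intro h
    rw [mem_M24_iff]
    intro b hb
    have hs : pts b ∈ Cfsg.octads := mem_octads.mpr ⟨b, basis_octad b hb, rfl⟩
    have := Set.smul_mem_smul_set (a := σ) hs
    rw [MulAction.mem_stabilizer_iff.mp h] at this
    exact this.1

end Cfsg.Agent.S0369
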