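import Cfsg.Statements.S0412
import Cfsg.Agent.Lib.Spor.SteinerUnique824
import Cfsg.Agent.Lib.Spor.SteinerAut
import Cfsg.Agent.Lib.Spor.Golay.M24
import Cfsg.Agent.S0365
import Cfsg.Prelude.Def_Sporadic

set_option autoImplicit false
open Cfsg

namespace Cfsg.Agent.S0412

/-- Aut of an S(5, 8, 24) is simple of order 244823040 and 5-transitive on points. -/
theorem result {α : Type*} [Fintype α] [DecidableEq α] (hα : Fintype.card α = 24) {B : Set (Finset α)} (hB : Cfsg.IsSteinerSystem 5 8 B) : Cfsg.IsM24 (Cfsg.setSystemAut B) ∧ MulAction.IsMultiplyPretransitive (Cfsg.setSystemAut B) α 5 := by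
  obtain ⟨e, he⟩ := Cfsg.Agent.Spor.SteinerCode.exists_equiv824 hα hB
  let φ := (Cfsg.Agent.Spor.SteinerAut.autEquiv e he).trans (MulEquiv.subgroupCongr Cfsg.Agent.S0369.result.symm)
  refine ⟨⟨?_, ?_⟩, ?_⟩
  · haveI := Cfsg.Agent.S0365.result
    exact φ.isSimpleGroup_congr.mpr inferInstance
  · rw [Nat.card_congr φ.toEquiv, Cfsg.Agent.Spor.Golay.card_M24]
  · refine Cfsg.Agent.Spor.SteinerAut.pretransitive e he ?_
    rw [← Cfsg.Agent.S0369.result]
    exact Cfsg.Agent.Spor.Golay.M24_pretransitive5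

end Cfsg.Agent.S0412
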