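import Cfsg.Statements.S2034
import Cfsg.Agent.S0387
import Cfsg.Agent.Lib.Spor.Multiplier

set_option autoImplicit false
set_option linter.style.haveILetI false
open Cfsg
open scoped Pointwise commutatorElement

namespace Cfsg.Agent.S2034

open Cfsg.Agent.Spor

def mA : ℕ := 233950865888990746377447415904013344
def mB : ℕ := 735500604421669808992593446508235808
def mX : ℕ := 487607080158395075740321133224921120
def mY : ℕ := 487655643029606470073469406179395616
def mG : ℕ := 233233386906768391987032901617288256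
def mF : ℕ := 969222178033170032997141459473927200
def mE : ℕ := 217659858509939740509415197420686400

/-- The powers of a packed permutation. -/
def pw (P : ℕ) : ℕ → ℕ
  | 0 => Golay.idP
  | n + 1 => Golay.comp (pw P n) P

theorem valid_pw {P : ℕ} (h : Golay.valid P = true) : ∀ n, Golay.valid (pw P n) = true
  | 0 => Golay.valid_idP
  | n + 1 => Golay.valid_comp (valid_pw h n) h

theorem permOf_pw {P : ℕ} (h : Golay.valid P = true) : ∀ n, Golay.permOf (pw P n) = Golay.permOf P ^ n
  | 0 => Golay.permOf_idP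
  | n + 1 => by rw [pw, Golay.permOf_comp (valid_pw h n) h, permOf_pw h n, pow_succ]

def inM11 (P : ℕ) : Bool :=
  Golay.inM24 P && (Golay.imgMask (Golay.get P) 340831 == 340831) && (Golay.get P 0 == 0)

theorem sq_eq : Cfsg.Spor.squareDodecad = Golay.pts 340831 := by decide +kernel

theorem sq_mem : Cfsg.Spor.squareDodecad ∈ dodecads := by
  rw [sq_eq]
  exact Golay.mem_dodecads.mpr ⟨340831, Golay.mem_weightList.mpr
    ⟨Golay.mem_codeList.mpr (by decide +kernel), by decide +kernel⟩, rfl⟩

theorem permOf_mem {P : ℕ} (h : inM11 P = true) : Golay.permOf P ∈ Cfsg.Spor.M11 := by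
  simp only [inM11, Bool.and_eq_true, beq_iff_eq] at h
  obtain ⟨⟨h1, h2⟩, h3⟩ := h
  have hv : Golay.valid P = true := by
    simp only [Golay.inM24, Bool.and_eq_true] at h1; exact h1.1
  refine Subgroup.mem_inf.2 ⟨Subgroup.mem_inf.2 ⟨Golay.permOf_mem_M24 h1, ?_⟩, ?_⟩
  · rw [MulAction.mem_stabilizer_iff, sq_eq, Golay.permOf_smul_pts hv, h2]
  · rw [MulAction.mem_stabilizer_iff, Equiv.Perm.smul_def]
    refine Golay.idx_injective ?_
    rw [Golay.idx_permOf hv]
    exact h3

theorem checks : (inM11 mA && inM11 mB && inM11 mX && inM11 mY && inM11 mG && inM11 mF && inM11 mE) = true := by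
  decide +kernel

theorem rels : pw mA 8 = Golay.idP ∧ pw mA 4 ≠ Golay.idP ∧ pw mB 2 = Golay.idP ∧
    Golay.comp (Golay.comp mB mA) mB = pw mA 3 ∧ (List.range 8).all (fun i => pw mA i != mB) = true ∧
    pw mX 3 = Golay.idP ∧ pw mY 3 = Golay.idP ∧ mX ≠ Golay.idP ∧ (List.range 3).all (fun i => pw mX i != mY) = true ∧
    Golay.comp mX mY = Golay.comp mY mX ∧ pw mG 2 = Golay.idP ∧ Golay.comp (Golay.comp mG mX) mG = mX ∧
    Golay.comp (Golay.comp mG mY) mG = pw mY 2 ∧ pw mF 5 = Golay.idP ∧ mF ≠ Golay.idP ∧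
    pw mE 11 = Golay.idP ∧ mE ≠ Golay.idP := by
  decide +kernel

theorem permOf_inj {P Q : ℕ} (hP : Golay.valid P = true) (hQ : Golay.valid Q = true)
    (e : Golay.permOf P = Golay.permOf Q) (hpP : Golay.pack 24 (Golay.get P) = P)
    (hpQ : Golay.pack 24 (Golay.get Q) = Q) : P = Q := by
  rw [← hpP, ← hpQ]
  have hget : ∀ i, i < 24 → Golay.get P i = Golay.get Q i := fun i hi => by
    have h1 := Golay.idx_permOf hP (Golay.pt i)
    have h2 := Golay.idx_permOf hQ (Golay.pt i)
    rw [e, h2, Golay.idx_pt hi] at h1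
    exact h1.symm
  have : ∀ n, n ≤ 24 → ∀ f g : ℕ → ℕ, (∀ i, i < n → f i = g i) → Golay.pack n f = Golay.pack n g := by
    intro n
    induction n with
    | zero => intros; rfl
    | succ n ih =>
      intro hn f g hfg
      simp only [Golay.pack]
      first
        | rw [hfg n (by omega), ih (by omega) f g fun i hi => hfg i (by omega)]
        | rw [hfg 0 (by omega), ih (by omega) _ _ fun i hi => hfg (i + 1) (by omega)]
  exact this 24 le_rfl _ _ hget

theorem packs : ([mA, mB, mX, mY, mF, mE, Golay.idP, pw mA 4, pw mA 1, pw mA 2, pw mA 3, pw mA 5, pw mA 6,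
    pw mA 7, pw mX 1, pw mX 2].all fun P => Golay.pack 24 (Golay.get P) == P) = true := by
  decide +kernel

theorem card_M11 : Nat.card Cfsg.Spor.M11 = 7920 := by
  have h := Cfsg.Agent.S0387.result Cfsg.Spor.squareDodecad sq_mem (some 0) (by decide +kernel)
  rw [← h]
  refine Nat.card_congr
    { toFun := fun g => ⟨⟨g.1, g.2.1.1⟩, g.2.1.2, g.2.2⟩
      invFun := fun g => ⟨g.1.1, ⟨⟨g.1.2, g.2.1⟩, g.2.2⟩⟩
      left_inv := fun g => rfl
      right_inv := fun g => rfl }

theorem dvd_of_normalizing {G : Type*} [Group G] [Finite G] {a b : G} {p : ℕ} (hp : p.Prime)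
    (hb : b ^ p ∈ Subgroup.zpowers a) (hnot : b ∉ Subgroup.zpowers a)
    (hconj : b * a * b⁻¹ ∈ Subgroup.zpowers a) (hconj' : b⁻¹ * a * b ∈ Subgroup.zpowers a) :
    orderOf a * p ∣ Nat.card ↥(Subgroup.closure ({a, b} : Set G)) := by
  set Q := Subgroup.closure ({a, b} : Set G)
  set N := Subgroup.zpowers a
  have haQ : N ≤ Q := Subgroup.zpowers_le.2 (Subgroup.subset_closure (Or.inl rfl))
  have hbQ : b ∈ Q := Subgroup.subset_closure (Or.inr rfl)
  have hnorm : Q ≤ Subgroup.normalizer (N : Set G) := by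
    refine (Subgroup.closure_le _).2 ?_
    rintro g (rfl | rfl)
    · exact Subgroup.le_normalizer (Subgroup.mem_zpowers g)
    · refine Subgroup.mem_normalizer_iff.2 fun n => ⟨fun hn => ?_, fun hn => ?_⟩
      · obtain ⟨k, rfl⟩ := Subgroup.mem_zpowers_iff.1 hn
        rw [← conj_zpow]; exact zpow_mem hconj k
      · obtain ⟨k, hk⟩ := Subgroup.mem_zpowers_iff.1 hn
        have : n = (g⁻¹ * a * g⁻¹⁻¹) ^ k := by rw [conj_zpow, hk]; group
        rw [this, inv_inv]; exact zpow_mem hconj' k
  haveI : (N.subgroupOf Q).Normal := (Subgroup.normal_subgroupOf_iff_le_normalizer haQ).2 hnorm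
  have : Fact p.Prime := ⟨hp⟩
  have hord : orderOf (QuotientGroup.mk' (N.subgroupOf Q) ⟨b, hbQ⟩) = p := by
    refine orderOf_eq_prime ?_ fun e => hnot ((QuotientGroup.eq_one_iff (⟨b, hbQ⟩ : Q)).1 e)
    rw [← map_pow]
    exact (QuotientGroup.eq_one_iff ((⟨b, hbQ⟩ : Q) ^ p)).2 hb
  rw [Subgroup.card_eq_card_quotient_mul_card_subgroup (N.subgroupOf Q), mul_comm (Nat.card (↥Q ⧸ _)),
    Nat.card_congr (Subgroup.subgroupOfEquivOfLe haQ).toEquiv, Nat.card_zpowers]
  refine Nat.mul_dvd_mul_left _ ?_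
  conv_lhs => rw [← hord]
  exact orderOf_dvd_natCard _

abbrev M : Type := Cfsg.Spor.M11

theorem ker_bot (Δ : Type) [Group Δ] [Finite Δ] (σ : Δ →* M) (hσ : Cfsg.IsStemExtension σ) : σ.ker = ⊥ := by
  have hc := checks
  simp only [Bool.and_eq_true] at hc
  obtain ⟨⟨⟨⟨⟨⟨iA, iB⟩, iX⟩, iY⟩, iG⟩, iF⟩, iE⟩ := hc
  have hval : ∀ {P : ℕ}, inM11 P = true → Golay.valid P = true := fun h => by
    simp only [inM11, Golay.inM24, Bool.and_eq_true] at h; exact h.1.1.1
  obtain ⟨a8, a4, b2, bab, bnot, x3, y3, x1, ynot, xy, g2, gx, gy, f5, f1, e11, e1⟩ := rels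
  have hpk : ∀ P ∈ [mA, mB, mX, mY, mF, mE, Golay.idP, pw mA 4, pw mA 1, pw mA 2, pw mA 3, pw mA 5, pw mA 6,
      pw mA 7, pw mX 1, pw mX 2], Golay.pack 24 (Golay.get P) = P := fun P hP =>
    beq_iff_eq.1 (List.all_eq_true.1 packs P hP)
  let el : ∀ P : ℕ, inM11 P = true → M := fun P h => ⟨Golay.permOf P, permOf_mem h⟩
  set a := el mA iA with ha
  set b := el mB iB with hb
  set x := el mX iX with hx
  set y := el mY iY with hy
  set g := el mG iG with hg
  set f := el mF iF with hf
  set e := el mE iE with he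
  have hp : ∀ {P : ℕ} (h : inM11 P = true) (n : ℕ),
      ((el P h ^ n : M) : Equiv.Perm GolayPt) = Golay.permOf (pw P n) := fun {P} h n => by
    rw [permOf_pw (hval h) n]; rfl
  have one : ((1 : M) : Equiv.Perm GolayPt) = Golay.permOf Golay.idP := Golay.permOf_idP.symm
  have ea8 : a ^ 8 = 1 := Subtype.ext (by rw [hp iA, a8, one])
  have eb : b * b = 1 := by rw [← sq]; exact Subtype.ext (by rw [hp iB, b2, one])
  have erel : b * a * b = a ^ 3 := Subtype.ext (by
    rw [hp iA, ← bab, Golay.permOf_comp (Golay.valid_comp (hval iB) (hval iA)) (hval iB),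
      Golay.permOf_comp (hval iB) (hval iA)]; rfl)
  have ha8 : orderOf a = 8 := by
    have h : ¬ a ^ (2 ^ 2) = 1 := fun h => a4 (permOf_inj (valid_pw (hval iA) 4) Golay.valid_idP
      (by rw [← hp iA, ← one]; exact congrArg Subtype.val h) (hpk _ (by simp)) (hpk _ (by simp)))
    have : Fact (Nat.Prime 2) := ⟨Nat.prime_two⟩
    exact orderOf_eq_prime_pow h ea8
  have hbn : b ∉ Subgroup.zpowers a := by
    intro hmem
    obtain ⟨i, hi, hie⟩ := Finset.mem_image.1 ((mem_zpowers_iff_mem_range_orderOf).1 hmem)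
    rw [ha8, Finset.mem_range] at hi
    have := List.all_eq_true.1 bnot i (List.mem_range.2 hi)
    refine bne_iff_ne.1 this (permOf_inj (valid_pw (hval iA) i) (hval iB)
      (by rw [← hp iA]; exact congrArg Subtype.val hie) ?_ (hpk _ (by simp)))
    interval_cases i <;> exact hpk _ (by simp [pw])
  have ex3 : x ^ 3 = 1 := Subtype.ext (by rw [hp iX, x3, one])
  have ey3 : y ^ 3 = 1 := Subtype.ext (by rw [hp iY, y3, one])
  have : Fact (Nat.Prime 3) := ⟨Nat.prime_three⟩
  have hx3 : orderOf x = 3 := orderOf_eq_prime ex3 fun h => x1 (permOf_inj (hval iX) Golay.valid_idP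
    (by rw [← one]; exact congrArg Subtype.val h) (hpk _ (by simp)) (hpk _ (by simp)))
  have hxy : Commute x y := Subtype.ext (by
    show Golay.permOf mX * Golay.permOf mY = Golay.permOf mY * Golay.permOf mX
    rw [← Golay.permOf_comp (hval iX) (hval iY), xy, Golay.permOf_comp (hval iY) (hval iX)])
  have hyn : y ∉ Subgroup.zpowers x := by
    intro hmem
    obtain ⟨i, hi, hie⟩ := Finset.mem_image.1 ((mem_zpowers_iff_mem_range_orderOf).1 hmem)
    rw [hx3, Finset.mem_range] at hi
    have := List.all_eq_true.1 ynot i (List.mem_range.2 hi)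
    refine bne_iff_ne.1 this (permOf_inj (valid_pw (hval iX) i) (hval iY)
      (by rw [← hp iX]; exact congrArg Subtype.val hie) ?_ (hpk _ (by simp)))
    interval_cases i <;> exact hpk _ (by simp [pw])
  have egg : g⁻¹ = g := inv_eq_of_mul_eq_one_right (by rw [← sq]; exact Subtype.ext (by rw [hp iG, g2, one]))
  have egx : g * x * g⁻¹ = x := by
    rw [egg]; refine Subtype.ext ?_
    show Golay.permOf mG * Golay.permOf mX * Golay.permOf mG = _
    rw [← Golay.permOf_comp (hval iG) (hval iX),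
      ← Golay.permOf_comp (Golay.valid_comp (hval iG) (hval iX)) (hval iG), gx]
  have egy : g * y * g⁻¹ = y⁻¹ := by
    rw [egg, show y⁻¹ = y ^ 2 from inv_eq_of_mul_eq_one_right (by rw [← pow_succ']; exact ey3)]
    refine Subtype.ext ?_
    rw [hp iY, ← gy, Golay.permOf_comp (Golay.valid_comp (hval iG) (hval iY)) (hval iG),
      Golay.permOf_comp (hval iG) (hval iY)]; rfl
  have hf5 : orderOf f = 5 := by
    have : Fact (Nat.Prime 5) := ⟨by norm_num⟩
    exact orderOf_eq_prime (Subtype.ext (by rw [hp iF, f5, one])) fun h => f1 (permOf_inj (hval iF) Golay.valid_idP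
      (by rw [← one]; exact congrArg Subtype.val h) (hpk _ (by simp)) (hpk _ (by simp)))
  have he11 : orderOf e = 11 := by
    have : Fact (Nat.Prime 11) := ⟨by norm_num⟩
    exact orderOf_eq_prime (Subtype.ext (by rw [hp iE, e11, one])) fun h => e1 (permOf_inj (hval iE) Golay.valid_idP
      (by rw [← one]; exact congrArg Subtype.val h) (hpk _ (by simp)) (hpk _ (by simp)))
  choose lift hlift using hσ.1
  have hker := hσ.2.1
  refine Mult.ker_eq_bot σ hσ fun p hpr hdvd => ?_
  have hidx : ∀ (Q : Subgroup M) (n : ℕ), n ∣ Nat.card Q → ¬ p ∣ 7920 / n → n ∣ 7920 → ¬ p ∣ Q.index := by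
    intro Q n hn hp' hn' hpd
    have h := Q.card_mul_index
    rw [card_M11] at h
    refine hp' (dvd_trans hpd ?_)
    obtain ⟨k, hk⟩ := hn
    rw [← h, hk, mul_assoc, Nat.mul_div_cancel_left _ (Nat.pos_of_dvd_of_pos hn' (by norm_num))]
    exact dvd_mul_left _ _
  have cyc : ∀ (t : M), ∀ z ∈ σ.ker, orderOf z = p →
      z ∈ ⁅(Subgroup.closure (σ '' {lift t})).comap σ, (Subgroup.closure (σ '' {lift t})).comap σ⁆ → False :=
    fun t z _ hz hmem => Mult.no_elt_of_comm _ (Mult.comm_of_gens σ hker _ fun u hu v hv => by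
      rw [Set.mem_singleton_iff.1 hu, Set.mem_singleton_iff.1 hv]) hpr hz hmem
  by_cases h2 : p = 2
  · subst h2
    refine ⟨Subgroup.closure (σ '' {lift a, lift b}), hidx _ 16 ?_ (by norm_num) (by norm_num), fun z hz hzo hmem => ?_⟩
    · have h := dvd_of_normalizing (a := a) (b := b) Nat.prime_two
        (by rw [sq, eb]; exact one_mem _) hbn
        (by rw [inv_eq_of_mul_eq_one_right eb, erel]; exact pow_mem (Subgroup.mem_zpowers a) 3)
        (by rw [inv_eq_of_mul_eq_one_right eb, erel]; exact pow_mem (Subgroup.mem_zpowers a) 3)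
      rw [ha8] at h
      rwa [Set.image_pair, hlift, hlift]
    · have := Mult.semidihedral16 σ hker (a := lift a) (b := lift b) (by rw [hlift, eb]) (by rw [hlift, ha8])
        (by rw [hlift, hlift, erel]) hz hmem
      rw [this, orderOf_one] at hzo
      exact absurd hzo (by norm_num)
  by_cases h3 : p = 3
  · subst h3
    refine ⟨Subgroup.closure (σ '' {lift x, lift y}), hidx _ 9 ?_ (by norm_num) (by norm_num), fun z hz hzo hmem => ?_⟩
    · have h := dvd_of_normalizing (a := x) (b := y) Nat.prime_three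
        (by rw [ey3]; exact one_mem _) hyn
        (by rw [← hxy.eq, mul_inv_cancel_right]; exact Subgroup.mem_zpowers x)
        (by rw [mul_assoc, hxy.eq, inv_mul_cancel_left]; exact Subgroup.mem_zpowers x)
      rw [hx3] at h
      rwa [Set.image_pair, hlift, hlift]
    · have hc := Mult.odd_two_gen σ hker (p := 3) (by decide) (x := lift x) (y := lift y) (g := lift g)
        (by rw [hlift, ex3]) (by rw [hlift, hlift]; exact hxy) (by rw [hlift, hlift, egx]) (by rw [hlift, hlift, egy])
      refine Mult.no_elt_of_comm _ (Mult.comm_of_gens σ hker _ ?_) hpr hzo hmem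
      rintro u (rfl | rfl) v (rfl | rfl)
      exacts [Commute.refl _, hc, hc.symm, Commute.refl _]
  by_cases h5 : p = 5
  · subst h5
    refine ⟨Subgroup.closure (σ '' {lift f}), hidx _ 5 ?_ (by norm_num) (by norm_num), cyc f⟩
    rw [Set.image_singleton, hlift, ← Subgroup.zpowers_eq_closure, Nat.card_zpowers, hf5]
  by_cases h11 : p = 11
  · subst h11
    refine ⟨Subgroup.closure (σ '' {lift e}), hidx _ 11 ?_ (by norm_num) (by norm_num), cyc e⟩
    rw [Set.image_singleton, hlift, ← Subgroup.zpowers_eq_closure, Nat.card_zpowers, he11]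
  refine ⟨Subgroup.closure (σ '' {lift 1}), hidx _ 1 (one_dvd _) ?_ (one_dvd _), cyc 1⟩
  rw [Nat.div_one, show (7920 : ℕ) = 2 ^ 4 * 3 ^ 2 * 5 * 11 by norm_num]
  intro hd
  rcases (Nat.Prime.dvd_mul hpr).1 hd with hd | hd
  · rcases (Nat.Prime.dvd_mul hpr).1 hd with hd | hd
    · rcases (Nat.Prime.dvd_mul hpr).1 hd with hd | hd
      · exact h2 ((Nat.prime_dvd_prime_iff_eq hpr Nat.prime_two).1 (hpr.dvd_of_dvd_pow hd))
      · exact h3 ((Nat.prime_dvd_prime_iff_eq hpr Nat.prime_three).1 (hpr.dvd_of_dvd_pow hd))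
    · exact h5 ((Nat.prime_dvd_prime_iff_eq hpr (by norm_num)).1 hd)
  · exact h11 ((Nat.prime_dvd_prime_iff_eq hpr (by norm_num)).1 hd)

/-- The Schur multiplier of the Mathieu group M₁₁ (the stabiliser of a dodecad and one of its points in the automorphism group of the length-24 binary code) is trivial; here the Schur multiplier is described through stem extensions, as in the definitions: surjective homomorphisms onto the group from a finite group, whose kernel is central in that finite group and contained in that finite group's commutator subgroup. -/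
theorem result : Cfsg.HasCyclicSchurMultiplier ↥Cfsg.Spor.M11 1 := by
  exact Mult.trivial_of_forall fun Δ _ _ σ hσ => ker_bot Δ σ hσ

end Cfsg.Agent.S2034
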