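import Cfsg.Statements.S3378
import Mathlib
import Cfsg.Agent.S0493
import Cfsg.Agent.S3377
import Cfsg.Agent.Lib.Grp.Zassenhaus.Binary
import Cfsg.Agent.Lib.Invol.BrauerSuzuki
import Cfsg.Agent.Lib.Grp.Cores
-- import your own Cfsg.Agent.* helpers here

set_option autoImplicit false
open Cfsg

namespace Cfsg.Agent.S3378

open Cfsg.Agent
open scoped commutatorElement

universe u

theorem solvable_of_card_le : ∀ (n : ℕ) (G : Type u) [Group G] [Finite G], Nat.card G = n → n ≤ 100 → n ≠ 60 →
    n < 120 → (n < 60 ∨ n ∣ 120 ∨ 120 % n = 0) → Group.IsSolvable G := by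
  intro n
  induction n using Nat.strong_induction_on with
  | _ n ih =>
    intro G _ _ hn h100 h60 _ hsmall
    by_cases hsub : Subsingleton G
    · exact inferInstance
    haveI := not_subsingleton_iff_nontrivial.mp hsub
    have hlt60 : n < 60 := by
      rcases hsmall with h | h | h
      · exact h
      · rcases Nat.lt_or_ge n 61 with h' | h'
        · omega
        · obtain ⟨c, hc⟩ := h
          have : c ≤ 1 := by nlinarith
          interval_cases c <;> omega
      · rcases Nat.lt_or_ge n 61 with h' | h'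
        · omega
        · have := Nat.mod_add_div 120 n
          have : 120 / n ≤ 1 := Nat.lt_succ_iff.mp ((Nat.div_lt_iff_lt_mul (by omega)).mpr (by omega))
          interval_cases 120 / n <;> omega
    by_cases hs : IsSimpleGroup G
    · by_cases hc : IsCyclic G
      · letI := hc.commGroup
        exact inferInstance
      · have := Cfsg.Agent.S0493.result hc (by omega)
        omega
    · obtain ⟨N, hN, hb, ht⟩ : ∃ N : Subgroup G, N.Normal ∧ N ≠ ⊥ ∧ N ≠ ⊤ := by
        by_contra h
        push Not at h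
        exact hs ⟨fun N hN => or_iff_not_imp_left.mpr (h N hN)⟩
      haveI := hN
      have h1 := N.card_mul_index
      have hN1 : 1 < Nat.card N := N.one_lt_card_iff_ne_bot.mpr hb
      have hI1 : 1 < N.index := N.one_lt_index_of_ne_top ht
      have hNlt : Nat.card N < n := by nlinarith
      have hIlt : N.index < n := by nlinarith
      haveI : Group.IsSolvable N := ih _ hNlt N rfl (by omega) (by omega) (by omega) (Or.inl (by omega))
      haveI : Group.IsSolvable (G ⧸ N) :=
        ih _ hIlt (G ⧸ N) rfl (by omega) (by omega) (by omega) (Or.inl (by omega))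
      exact Group.isSolvable_of_ker_le_range N.subtype (QuotientGroup.mk' N)
        (by rw [QuotientGroup.ker_mk', Subgroup.range_subtype])

theorem solvable_of_lt {G : Type u} [Group G] [Finite G] (h : Nat.card G < 60) : Group.IsSolvable G :=
  solvable_of_card_le _ G rfl (by omega) (by omega) (by omega) (Or.inl h)

theorem binaryIco_of_card {G : Type u} [Group G] [Finite G] (hcard : Nat.card G = 120)
    (hns : ¬ Group.IsSolvable G) (hQ : ∀ P : Sylow 2 G, Nonempty ((P : Subgroup G) ≃* QuaternionGroup 2)) :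
    Grp.Zas.BinaryIco G := by
  haveI : Fact (Nat.Prime 2) := ⟨Nat.prime_two⟩
  obtain ⟨S⟩ : Nonempty (Sylow 2 G) := inferInstance
  obtain ⟨eS⟩ := hQ S
  have hq : ∀ a b : QuaternionGroup 2, a * a = 1 → b * b = 1 → a ≠ 1 → b ≠ 1 → a = b := by decide
  have hT : BS.TwoRankOne G := by
    refine BS.twoRankOne_of_sylow S fun u hu v hv hu2 hv2 => ?_
    have key : ∀ w (hw : w ∈ (S : Subgroup G)), orderOf w = 2 → eS ⟨w, hw⟩ * eS ⟨w, hw⟩ = 1 ∧ eS ⟨w, hw⟩ ≠ 1 := by
      intro w hw h2
      refine ⟨?_, fun e => ?_⟩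
      · rw [← map_mul, ← map_one eS]
        refine congrArg eS (Subtype.ext ?_)
        show w * w = 1
        rw [← pow_two, ← h2]; exact pow_orderOf_eq_one w
      · rw [MulEquiv.map_eq_one_iff] at e
        rw [show w = 1 from congrArg Subtype.val e, orderOf_one] at h2
        exact absurd h2 (by decide)
    exact congrArg Subtype.val (eS.injective (hq _ _ (key u hu hu2).1 (key v hv hv2).1 (key u hu hu2).2 (key v hv hv2).2))
  haveI := Grp.pPrimeCore_isNormal (p := 2) (G := G)
  have hO : Cfsg.pPrimeCore 2 G = ⊥ := by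
    by_contra hne
    have hodd := Grp.pPrimeCore_coprime (p := 2) (G := G)
    have h1 := (Cfsg.pPrimeCore 2 G).card_mul_index
    have hdvd : Nat.card (Cfsg.pPrimeCore 2 G) ∣ 120 := hcard ▸ Subgroup.card_subgroup_dvd_card _
    have h1lt : 1 < Nat.card (Cfsg.pPrimeCore 2 G) := (Cfsg.pPrimeCore 2 G).one_lt_card_iff_ne_bot.mpr hne
    have hle : Nat.card (Cfsg.pPrimeCore 2 G) ∣ 15 := by
      refine Nat.Coprime.dvd_of_dvd_mul_left (k := Nat.card _) (n := 15) (m := 8) ?_ (by norm_num; exact hdvd)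
      exact hodd.pow_right 3
    have h15 := Nat.le_of_dvd (by norm_num) hle
    have h2' : Nat.card (Cfsg.pPrimeCore 2 G) ≠ 2 := fun e => by rw [e] at hodd; exact absurd hodd (by decide)
    have h3 : 3 ≤ Nat.card (Cfsg.pPrimeCore 2 G) := by omega
    have hidx : (Cfsg.pPrimeCore 2 G).index ≤ 40 := by rw [hcard] at h1; nlinarith
    haveI : Group.IsSolvable (Cfsg.pPrimeCore 2 G) := solvable_of_lt (by omega)
    haveI : Group.IsSolvable (G ⧸ Cfsg.pPrimeCore 2 G) := solvable_of_lt (by rw [← Subgroup.index_eq_card]; omega)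
    exact hns (Group.isSolvable_of_ker_le_range (Cfsg.pPrimeCore 2 G).subtype (QuotientGroup.mk' (Cfsg.pPrimeCore 2 G))
      (by rw [QuotientGroup.ker_mk', Subgroup.range_subtype]))
  obtain ⟨z, hz⟩ := exists_prime_orderOf_dvd_card' (G := G) 2 (by rw [hcard]; norm_num)
  have hzc : ∀ g : G, Commute z g := by
    intro g
    have h := BS.commutator_mem_oddCore _ G rfl hT z hz g
    rw [hO, Subgroup.mem_bot, mul_inv_eq_one, mul_inv_eq_iff_eq_mul] at h
    exact h
  set Z := Subgroup.zpowers z with hZ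
  haveI : Z.Normal := ⟨fun a ha g => by
    obtain ⟨i, rfl⟩ := Subgroup.mem_zpowers_iff.mp ha
    rw [← ((hzc g).zpow_left i).eq, mul_inv_cancel_right]; exact ha⟩
  have hZ2 : Nat.card Z = 2 := by rw [hZ, Nat.card_zpowers, hz]
  have h60 : Nat.card (G ⧸ Z) = 60 := by
    have := Z.card_mul_index
    rw [hZ2, hcard] at this
    rw [← Subgroup.index_eq_card]; omega
  haveI hZsol : Group.IsSolvable Z := solvable_of_lt (by omega)
  have hnsQ : ¬ Group.IsSolvable (G ⧸ Z) := fun h =>
    hns (Group.isSolvable_of_ker_le_range Z.subtype (QuotientGroup.mk' Z)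
      (by rw [QuotientGroup.ker_mk', Subgroup.range_subtype]))
  haveI : IsSimpleGroup (G ⧸ Z) := by
    haveI : Nontrivial (G ⧸ Z) := Finite.one_lt_card_iff_nontrivial.mp (by omega)
    refine ⟨fun N hN => ?_⟩
    by_contra h
    push Not at h
    haveI := hN
    have h1 := N.card_mul_index
    have hN1 : 1 < Nat.card N := N.one_lt_card_iff_ne_bot.mpr h.1
    have hI1 : 1 < N.index := N.one_lt_index_of_ne_top h.2
    haveI : Group.IsSolvable N := solvable_of_lt (by rw [h60] at h1; nlinarith)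
    haveI : Group.IsSolvable ((G ⧸ Z) ⧸ N) := solvable_of_lt (by rw [← Subgroup.index_eq_card]; rw [h60] at h1; nlinarith)
    exact hnsQ (Group.isSolvable_of_ker_le_range N.subtype (QuotientGroup.mk' N)
      (by rw [QuotientGroup.ker_mk', Subgroup.range_subtype]))
  obtain ⟨e⟩ := Fus.alternating_five_of_card h60
  let f : G →* alternatingGroup (Fin 5) := e.toMonoidHom.comp (QuotientGroup.mk' Z)
  have hf : Function.Surjective f := e.surjective.comp (QuotientGroup.mk'_surjective Z)
  have hker : f.ker = Z := by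
    ext g
    rw [MonoidHom.mem_ker]
    show e (QuotientGroup.mk' Z g) = 1 ↔ _
    rw [MulEquiv.map_eq_one_iff]
    exact QuotientGroup.eq_one_iff g
  have huniq : ∀ u : G, orderOf u = 2 → u = z := fun u hu => hT u z hu hz (hzc u).symm
  refine ⟨⟨f, hf, by rw [hker, hZ2]⟩, fun u v hu hv => (huniq u hu).trans (huniq v hv).symm, ?_⟩
  set C := commutator G
  have hperfA : commutator (alternatingGroup (Fin 5)) = ⊤ := by
    haveI : IsSimpleGroup (alternatingGroup (Fin 5)) := e.symm.isSimpleGroup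
    refine (IsSimpleGroup.eq_bot_or_eq_top_of_normal _ inferInstance).resolve_left fun h => ?_
    have hne : ¬ ∀ a b : alternatingGroup (Fin 5), a * b = b * a := by decide +kernel
    refine hne fun a b => ?_
    have hm : ⁅a, b⁆ ∈ (⊥ : Subgroup (alternatingGroup (Fin 5))) := by
      rw [← h, commutator_def]; exact Subgroup.commutator_mem_commutator (Subgroup.mem_top a) (Subgroup.mem_top b)
    exact commutatorElement_eq_one_iff_mul_comm.mp (Subgroup.mem_bot.mp hm)
  have hs := Grp.Zas.surjective_comp_commutator f hf hperfA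
  by_contra hC
  have hzC : z ∉ C := by
    intro hzC
    refine hC (eq_top_iff.mpr fun g _ => ?_)
    obtain ⟨⟨c, hc⟩, he⟩ := hs (f g)
    have hmem : c⁻¹ * g ∈ Z := by
      rw [← hker, MonoidHom.mem_ker, map_mul, map_inv, show f c = f g from he, inv_mul_cancel]
    have h3 := C.mul_mem hc ((Subgroup.zpowers_le.mpr hzC) hmem)
    rwa [mul_inv_cancel_left] at h3
  obtain ⟨a, ha1, ha2⟩ : ∃ a : alternatingGroup (Fin 5), a ≠ 1 ∧ a * a = 1 := by decide +kernel
  obtain ⟨⟨c, hc⟩, he⟩ := hs a
  have hcc : c * c = 1 := by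
    have h1 : c * c ∈ Z := by
      rw [← hker, MonoidHom.mem_ker, map_mul, show f c = a from he, ha2]
    obtain ⟨i, hi⟩ := Subgroup.mem_zpowers_iff.mp h1
    rcases Int.even_or_odd' i with ⟨j, rfl | rfl⟩
    · rw [← hi, zpow_mul, zpow_two, ← pow_two, ← hz, pow_orderOf_eq_one, one_zpow]
    · exfalso
      refine hzC ?_
      have : z = c * c := by
        rw [← hi, zpow_add, zpow_mul, zpow_two, ← pow_two, ← hz, pow_orderOf_eq_one, one_zpow, one_mul, zpow_one]
      rw [this]; exact C.mul_mem hc hc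
  have hc1 : c ≠ 1 := fun e' => ha1 (by rw [← he]; show f c = 1; rw [e', map_one])
  exact hzC (huniq c (orderOf_eq_prime (by rw [pow_two, hcc]) hc1) ▸ hc)

def matX : Matrix.SpecialLinearGroup (Fin 2) (ZMod 5) := ⟨!![0, 4; 1, 4], by decide⟩
def matY : Matrix.SpecialLinearGroup (Fin 2) (ZMod 5) := ⟨!![1, 1; 0, 1], by decide⟩
def matZ : Matrix.SpecialLinearGroup (Fin 2) (ZMod 5) := ⟨!![4, 0; 0, 4], by decide⟩

/-- Every non-solvable group of order 120 whose Sylow 2-subgroups are quaternion of order 8 is isomorphic to SL(2,5), and SL(2,5) has the presentation ⟨x, y, z | x³ = y⁵ = z² = 1, z⁻¹xz = x, z⁻¹yz = y, (xy)² = z⟩. -/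
theorem result :
    (∀ (G : Type*) [Group G] [Finite G], Nat.card G = 120 → ¬ Group.IsSolvable G →
      (∀ P : Sylow 2 G, Nonempty ((P : Subgroup G) ≃* QuaternionGroup 2)) →
      Nonempty (G ≃* Matrix.SpecialLinearGroup (Fin 2) (ZMod 5))) ∧
    Nonempty (PresentedGroup ({FreeGroup.of (0 : Fin 3) ^ 3, FreeGroup.of (1 : Fin 3) ^ 5, FreeGroup.of (2 : Fin 3) ^ 2,
        (FreeGroup.of (2 : Fin 3))⁻¹ * FreeGroup.of 0 * FreeGroup.of 2 * (FreeGroup.of (0 : Fin 3))⁻¹,
        (FreeGroup.of (2 : Fin 3))⁻¹ * FreeGroup.of 1 * FreeGroup.of 2 * (FreeGroup.of (1 : Fin 3))⁻¹,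
        (FreeGroup.of (0 : Fin 3) * FreeGroup.of 1) ^ 2 * (FreeGroup.of (2 : Fin 3))⁻¹} : Set (FreeGroup (Fin 3)))
      ≃* Matrix.SpecialLinearGroup (Fin 2) (ZMod 5)) := by
  refine ⟨fun G _ _ hc hns hQ => (binaryIco_of_card hc hns hQ).nonempty_mulEquiv Grp.Zas.binaryIco_SL25, ?_⟩
  set a := FreeGroup.of (0 : Fin 3)
  set b := FreeGroup.of (1 : Fin 3)
  set c := FreeGroup.of (2 : Fin 3)
  set rels : Set (FreeGroup (Fin 3)) := {a ^ 3, b ^ 5, c ^ 2, c⁻¹ * a * c * a⁻¹, c⁻¹ * b * c * b⁻¹, (a * b) ^ 2 * c⁻¹} with hrels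
  set x : PresentedGroup rels := PresentedGroup.of 0
  set y : PresentedGroup rels := PresentedGroup.of 1
  set z : PresentedGroup rels := PresentedGroup.of 2
  have one := fun r (hr : r ∈ rels) => PresentedGroup.one_of_mem (rels := rels) (x := r) hr
  have hx3 : x ^ 3 = 1 := by
    have := one (a ^ 3) (Or.inl rfl)
    rwa [map_pow] at this
  have hy5' : y ^ 5 = 1 := by
    have := one (b ^ 5) (Or.inr (Or.inl rfl))
    rwa [map_pow] at this
  have hz2 : z ^ 2 = 1 := by
    have := one (c ^ 2) (Or.inr (Or.inr (Or.inl rfl)))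
    rwa [map_pow] at this
  have hzx : Commute z x := by
    have := one (c⁻¹ * a * c * a⁻¹) (Or.inr (Or.inr (Or.inr (Or.inl rfl))))
    simp only [map_mul, map_inv] at this
    change z⁻¹ * x * z * x⁻¹ = 1 at this
    rw [mul_inv_eq_one, mul_assoc, inv_mul_eq_iff_eq_mul] at this
    exact this.symm
  have hzy : Commute z y := by
    have := one (c⁻¹ * b * c * b⁻¹) (Or.inr (Or.inr (Or.inr (Or.inr (Or.inl rfl)))))
    simp only [map_mul, map_inv] at this
    change z⁻¹ * y * z * y⁻¹ = 1 at this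
    rw [mul_inv_eq_one, mul_assoc, inv_mul_eq_iff_eq_mul] at this
    exact this.symm
  have hxy : x * y * x * y = z := by
    have := one ((a * b) ^ 2 * c⁻¹) (Or.inr (Or.inr (Or.inr (Or.inr (Or.inr rfl)))))
    simp only [map_mul, map_inv, map_pow] at this
    change (x * y) ^ 2 * z⁻¹ = 1 at this
    rw [mul_inv_eq_one, pow_two] at this
    rw [← this]; simp [mul_assoc]
  set Z := Subgroup.zpowers z with hZ
  have hZc : ∀ g : PresentedGroup rels, Commute z g := by
    intro g
    have hg : g ∈ Subgroup.closure (Set.range (PresentedGroup.of (rels := rels))) := by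
      rw [PresentedGroup.closure_range_of]; exact Subgroup.mem_top g
    have hle : Subgroup.closure (Set.range (PresentedGroup.of (rels := rels))) ≤ Subgroup.centralizer {z} := by
      rw [Subgroup.closure_le]
      rintro _ ⟨i, rfl⟩
      refine Subgroup.mem_centralizer_singleton_iff.mpr ?_
      fin_cases i
      · exact hzx.symm.eq
      · exact hzy.symm.eq
      · rfl
    exact (show Commute g z from Subgroup.mem_centralizer_singleton_iff.mp (hle hg)).symm
  haveI : Z.Normal := ⟨fun w hw g => by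
    obtain ⟨i, rfl⟩ := Subgroup.mem_zpowers_iff.mp hw
    rw [← ((hZc g).zpow_left i).eq, mul_inv_cancel_right]; exact hw⟩
  set π := QuotientGroup.mk' Z with hπ
  set xb := π x with hxb
  set yb := π y with hyb
  have hπz : π z = 1 := (QuotientGroup.eq_one_iff z).mpr (Subgroup.mem_zpowers z)
  have hxa : xb * xb * xb = 1 := by rw [hxb, ← map_mul, ← map_mul, show x * x * x = 1 by rw [← hx3]; simp [pow_succ], map_one]
  have hya : yb * yb * yb * yb * yb = 1 := by
    simp only [hyb, ← map_mul]; rw [show y * y * y * y * y = 1 by rw [← hy5']; simp [pow_succ], map_one]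
  have hxya : xb * yb * xb * yb = 1 := by simp only [hxb, hyb, ← map_mul]; rw [hxy, hπz]
  obtain ⟨ex, ey⟩ := S3377.enumeration xb yb (H := Subgroup.zpowers yb) (Subgroup.mem_zpowers yb) hxa hya hxya
  have cover : ∀ g : PresentedGroup rels, ∀ k, ∃ l,
      S3377.cosetRep xb yb k * π g * (S3377.cosetRep xb yb l)⁻¹ ∈ Subgroup.zpowers yb := by
    intro g
    have hg : g ∈ Subgroup.closure (Set.range (PresentedGroup.of (rels := rels))) := by
      rw [PresentedGroup.closure_range_of]; exact Subgroup.mem_top g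
    have hmul : ∀ g g' : PresentedGroup rels ⧸ Z,
        (∀ k, ∃ l, S3377.cosetRep xb yb k * g * (S3377.cosetRep xb yb l)⁻¹ ∈ Subgroup.zpowers yb) →
        (∀ k, ∃ l, S3377.cosetRep xb yb k * g' * (S3377.cosetRep xb yb l)⁻¹ ∈ Subgroup.zpowers yb) →
        ∀ k, ∃ l, S3377.cosetRep xb yb k * (g * g') * (S3377.cosetRep xb yb l)⁻¹ ∈ Subgroup.zpowers yb := by
      intro g g' h h' k
      obtain ⟨l, hl⟩ := h k
      obtain ⟨m, hm⟩ := h' l
      refine ⟨m, ?_⟩
      have := (Subgroup.zpowers yb).mul_mem hl hm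
      rwa [show S3377.cosetRep xb yb k * g * (S3377.cosetRep xb yb l)⁻¹ * (S3377.cosetRep xb yb l * g' * (S3377.cosetRep xb yb m)⁻¹) =
        S3377.cosetRep xb yb k * (g * g') * (S3377.cosetRep xb yb m)⁻¹ by group] at this
    induction hg using Subgroup.closure_induction'' with
    | mem w hw =>
      obtain ⟨i, rfl⟩ := hw
      fin_cases i
      · exact ex
      · exact ey
      · intro k; refine ⟨k, ?_⟩; show _ * π z * _ ∈ _; rw [hπz]; simp
    | inv_mem w hw =>
      obtain ⟨i, rfl⟩ := hw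
      rw [map_inv]
      fin_cases i
      · show ∀ k, ∃ l, S3377.cosetRep xb yb k * xb⁻¹ * (S3377.cosetRep xb yb l)⁻¹ ∈ Subgroup.zpowers yb
        rw [show xb⁻¹ = xb * xb from inv_eq_of_mul_eq_one_right (show xb * (xb * xb) = 1 by rw [← mul_assoc]; exact hxa)]
        exact hmul _ _ ex ex
      · show ∀ k, ∃ l, S3377.cosetRep xb yb k * yb⁻¹ * (S3377.cosetRep xb yb l)⁻¹ ∈ Subgroup.zpowers yb
        rw [show yb⁻¹ = yb * yb * (yb * yb) from inv_eq_of_mul_eq_one_right (show yb * (yb * yb * (yb * yb)) = 1 by simp only [← mul_assoc]; exact hya)]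
        exact hmul _ _ (hmul _ _ ey ey) (hmul _ _ ey ey)
      · intro k; refine ⟨k, ?_⟩; show _ * (π z)⁻¹ * _ ∈ _; rw [hπz]; simp
    | one => exact fun k => ⟨k, by rw [map_one]; simp⟩
    | mul u v _ _ ihu ihv => rw [map_mul]; exact hmul _ _ ihu ihv
  let φ : (Fin 2 × Fin 5) × Fin 12 → PresentedGroup rels := fun q => z ^ q.1.1.val * (y ^ q.1.2.val * S3377.cosetRep x y q.2)
  have hmap : ∀ l, π (S3377.cosetRep x y l) = S3377.cosetRep xb yb l := by
    intro l; fin_cases l <;> simp [S3377.cosetRep, hxb, hyb]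
  have red : ∀ (n : ℕ) (w : PresentedGroup rels), 0 < n → w ^ n = 1 → ∀ m : ℤ, ∃ i : Fin n, w ^ m = w ^ i.val := by
    intro n w hn hw m
    refine ⟨⟨(m % n).toNat, by have := Int.emod_lt_of_pos m (Int.natCast_pos.mpr hn); omega⟩, ?_⟩
    show w ^ m = w ^ (m % n).toNat
    rw [← zpow_natCast, Int.toNat_of_nonneg (Int.emod_nonneg _ (by omega))]
    conv_lhs => rw [← Int.ediv_mul_add_emod m n, zpow_add, mul_comm (m / n), zpow_mul, zpow_natCast, hw, one_zpow, one_mul]
  have hφ : Function.Surjective φ := by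
    intro g
    obtain ⟨l, hl⟩ := cover g 0
    obtain ⟨m, hm⟩ := Subgroup.mem_zpowers_iff.mp hl
    have hmem : g * (y ^ m * S3377.cosetRep x y l)⁻¹ ∈ Z := by
      rw [← QuotientGroup.eq_one_iff]
      show π _ = 1
      rw [map_mul, map_inv, map_mul, map_zpow, hmap, ← hyb, hm, show S3377.cosetRep xb yb 0 = 1 from rfl]
      group
    obtain ⟨k, hk⟩ := Subgroup.mem_zpowers_iff.mp hmem
    obtain ⟨i, hi⟩ := red 5 y (by norm_num) hy5' m
    obtain ⟨j, hj⟩ := red 2 z (by norm_num) hz2 k
    refine ⟨((j, i), l), ?_⟩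
    show z ^ j.val * (y ^ i.val * S3377.cosetRep x y l) = g
    rw [← hi, ← hj, hk, inv_mul_cancel_right]
  have hrel : ∀ r ∈ rels, FreeGroup.lift ![matX, matY, matZ] r = 1 := by
    rintro r (rfl | rfl | rfl | rfl | rfl | rfl) <;>
      simp only [a, b, c, map_pow, map_mul, map_inv, FreeGroup.lift_apply_of, Matrix.cons_val_zero, Matrix.cons_val_one, Matrix.cons_val] <;>
      decide +kernel
  let f := PresentedGroup.toGroup hrel
  have hfx : f x = matX := PresentedGroup.toGroup.of hrel
  have hfy : f y = matY := PresentedGroup.toGroup.of hrel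
  have hfz : f z = matZ := PresentedGroup.toGroup.of hrel
  let ψ : (Fin 2 × Fin 5) × Fin 12 → Matrix.SpecialLinearGroup (Fin 2) (ZMod 5) :=
    fun q => matZ ^ q.1.1.val * (matY ^ q.1.2.val * S3377.cosetRep matX matY q.2)
  have hfψ : ∀ q, f (φ q) = ψ q := by
    intro q
    show f (z ^ q.1.1.val * (y ^ q.1.2.val * S3377.cosetRep x y q.2)) = _
    rw [map_mul, map_mul, map_pow, map_pow, hfy, hfz]
    congr 2
    obtain ⟨i, l⟩ := q
    fin_cases l <;> simp [S3377.cosetRep, hfx, hfy]
  have hψ : Function.Injective ψ := by decide +kernel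
  have hcard : Nat.card ((Fin 2 × Fin 5) × Fin 12) = Nat.card (Matrix.SpecialLinearGroup (Fin 2) (ZMod 5)) := by
    rw [Grp.Zas.card_SL25]; simp [Nat.card_eq_fintype_card]
  have hψs : Function.Surjective ψ := ((Nat.bijective_iff_injective_and_card ψ).mpr ⟨hψ, hcard⟩).2
  refine ⟨MulEquiv.ofBijective f ⟨?_, ?_⟩⟩
  · intro u v huv
    obtain ⟨q, rfl⟩ := hφ u
    obtain ⟨r, rfl⟩ := hφ v
    rw [hfψ, hfψ] at huv
    rw [hψ huv]
  · intro u
    obtain ⟨q, rfl⟩ := hψs u
    exact ⟨φ q, hfψ q⟩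

end Cfsg.Agent.S3378
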