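import Cfsg.Statements.S3333
import Cfsg.Agent.Lib.Block.NineCC.SymSix
-- import your own Cfsg.Agent.* helpers here

set_option autoImplicit false
open Cfsg

namespace Cfsg.Agent.S3333

/-- Let G be a finite group with a Sylow 3-subgroup S of order 9 that is its own centralizer, with N_G(S)/S dihedral of order 8, and such that C_G(x) ≤ N_G(S) for every non-identity x in S. Then S is normal in G or G is isomorphic to the symmetric group of degree 6. -/
theorem result {G : Type*} [Group G] [Finite G]
    (P : Sylow 3 G) (S : Subgroup G) (hSP : S = P) (hcard : Nat.card S = 9)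
    (hC : Subgroup.centralizer (S : Set G) = S)
    (eN : Subgroup.normalizer (S : Set G) ⧸ S.subgroupOf (Subgroup.normalizer (S : Set G)) ≃* DihedralGroup 4)
    (hcent : ∀ x ∈ S, x ≠ 1 → Subgroup.centralizer ({x} : Set G) ≤ Subgroup.normalizer (S : Set G)) :
    S.Normal ∨ Nonempty (G ≃* Equiv.Perm (Fin 6)) := by
  subst hSP
  haveI := Fintype.ofFinite G
  haveI := Fact.mk Nat.prime_three
  haveI := Fact.mk Nat.prime_two
  set N := Subgroup.normalizer ((P : Subgroup G) : Set G) with hN
  set T' := (P : Subgroup G).subgroupOf N with hT'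
  have hcT : Nat.card T' = 9 := by
    rw [hT', Nat.card_congr (Subgroup.subgroupOfEquivOfLe Subgroup.le_normalizer).toEquiv, hcard]
  have hcN : Nat.card N = 72 := by
    rw [Subgroup.card_eq_card_quotient_mul_card_subgroup T', Nat.card_congr eN.toEquiv,
      DihedralGroup.nat_card, hcT]
  -- the Sylow subgroup has exponent three
  have hel : ∀ t ∈ (P : Subgroup G), t ^ 3 = 1 := by
    by_contra hcon
    push Not at hcon
    obtain ⟨t, ht, ht3⟩ := hcon
    have ho : orderOf t = 9 := by
      refine orderOf_eq_prime_pow (p := 3) (n := 1) (by simpa using ht3) ?_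
      norm_num
      rw [← hcard]
      exact orderOf_dvd_iff_pow_eq_one.mp (Subgroup.orderOf_dvd_natCard _ ht)
    have hz : Subgroup.zpowers t = (P : Subgroup G) :=
      Subgroup.eq_of_le_of_card_ge (Subgroup.zpowers_le.mpr ht)
        (by rw [Nat.card_zpowers, ho, hcard])
    have hact : ∀ g ∈ N, ∃ m : ℤ, g * t * g⁻¹ = t ^ m := by
      intro g hg
      have h := (Subgroup.mem_normalizer_iff.mp hg t).mp ht
      rw [← hz] at h
      obtain ⟨m, hm⟩ := Subgroup.mem_zpowers_iff.mp h
      exact ⟨m, hm.symm⟩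
    have hcommut : ∀ u v : N, u * v * u⁻¹ * v⁻¹ ∈ T' := by
      intro u v
      obtain ⟨m, hm⟩ := hact u u.2
      obtain ⟨n, hn⟩ := hact v v.2
      have huv : ((u : G) * v) * t * ((u : G) * v)⁻¹ = ((v : G) * u) * t * ((v : G) * u)⁻¹ := by
        calc ((u : G) * v) * t * ((u : G) * v)⁻¹ = u * (v * t * (v : G)⁻¹) * (u : G)⁻¹ := by group
          _ = t ^ (m * n) := by rw [hn, ← conj_zpow, hm, ← zpow_mul]
          _ = v * (u * t * (u : G)⁻¹) * (v : G)⁻¹ := by
              rw [hm, ← conj_zpow, hn, ← zpow_mul, mul_comm m n]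
          _ = _ := by group
      rw [hT', Subgroup.mem_subgroupOf, ← hC]
      simp only [Subgroup.coe_mul, Subgroup.coe_inv]
      rw [Subgroup.mem_centralizer_iff]
      intro s hs
      rw [← hz] at hs
      obtain ⟨i, rfl⟩ := Subgroup.mem_zpowers_iff.mp hs
      refine (Commute.zpow_left (?_ : Commute t _) i).eq
      show t * _ = _ * t
      have h' : (u : G) * v * (u : G)⁻¹ * (v : G)⁻¹ * t =
          t * ((u : G) * v * (u : G)⁻¹ * (v : G)⁻¹) := by
        calc (u : G) * v * (u : G)⁻¹ * (v : G)⁻¹ * t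
            = ((u : G) * v) * ((((v : G) * u)⁻¹) * t * ((v : G) * u)) * ((v : G) * u)⁻¹ := by group
          _ = ((u : G) * v * ((((v : G) * u)⁻¹) * t * ((v : G) * u)) * ((u : G) * v)⁻¹) *
              ((u : G) * v) * ((v : G) * u)⁻¹ := by group
          _ = t * ((u : G) * v * (u : G)⁻¹ * (v : G)⁻¹) := by
              have hk : ∃ k : ℤ, ((v : G) * u)⁻¹ * t * ((v : G) * u) = t ^ k := by
                obtain ⟨k, hk⟩ := hact _ (inv_mem (mul_mem v.2 u.2))
                exact ⟨k, by rw [inv_inv] at hk; exact hk⟩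
              obtain ⟨k, hk⟩ := hk
              rw [hk, ← conj_zpow, huv, conj_zpow, ← hk]
              group
      exact h'.symm
    have h8 : ∀ x y : DihedralGroup 4, x * y * x⁻¹ * y⁻¹ = 1 := by
      intro x y
      obtain ⟨x', rfl⟩ := eN.surjective x
      obtain ⟨y', rfl⟩ := eN.surjective y
      induction x' using QuotientGroup.induction_on with
      | H u =>
        induction y' using QuotientGroup.induction_on with
        | H v =>
          rw [← map_inv, ← map_inv, ← map_mul, ← map_mul, ← map_mul, ← map_one eN]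
          exact congrArg eN ((QuotientGroup.eq_one_iff _).mpr (hcommut u v))
    exact absurd (h8 (.r 1) (.sr 0)) (by decide)
  have hcomm : ∀ s ∈ (P : Subgroup G), ∀ t ∈ (P : Subgroup G), s * t = t * s := fun s hs t ht => by
    rw [← hC] at ht
    exact Subgroup.mem_centralizer_iff.mp ht s hs
  obtain ⟨S⟩ : Nonempty (Sylow 2 ↥N) := inferInstance
  have hS : Nat.card (S : Subgroup ↥N) = 8 := by
    rw [S.card_eq_multiplicity, hcN, show (72 : ℕ) = 2 ^ 3 * 3 ^ 2 by norm_num,
      Nat.factorization_mul (by norm_num) (by norm_num), Nat.Prime.factorization_pow Nat.prime_two,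
      Nat.Prime.factorization_pow Nat.prime_three]
    simp
  let f : (S : Subgroup ↥N) →* DihedralGroup 4 :=
    eN.toMonoidHom.comp ((QuotientGroup.mk' T').comp (S : Subgroup ↥N).subtype)
  have hf : Function.Injective f := by
    refine (MonoidHom.ker_eq_bot_iff f).mp ((Subgroup.eq_bot_iff_forall _).mpr fun x hx => ?_)
    have h1 : (x : ↥N) ∈ T' :=
      (QuotientGroup.eq_one_iff _).mp (eN.map_eq_one_iff.mp (MonoidHom.mem_ker.mp hx))
    have d1 : orderOf x ∣ 8 := hS ▸ orderOf_dvd_natCard x
    have d2 : orderOf x ∣ 9 := by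
      rw [← Subgroup.orderOf_coe, ← hcT]
      exact Subgroup.orderOf_dvd_natCard _ h1
    exact orderOf_eq_one_iff.mp (Nat.dvd_one.mp (Nat.dvd_gcd d1 d2))
  have e : (S : Subgroup ↥N) ≃* DihedralGroup 4 := MulEquiv.ofBijective f
    ((Nat.bijective_iff_injective_and_card f).mpr ⟨hf, by rw [hS, DihedralGroup.nat_card]⟩)
  obtain ⟨Q⟩ := Fus.NineDihedral.exists_pair hel hcomm hcard hC S e
  exact Block.NineCC.normal_or_symSix Q hcent hcard hel hC

end Cfsg.Agent.S3333
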