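import Cfsg.Statements.S0526
import Cfsg.Agent.Lib.Grp.Supersolvable
-- import your own Cfsg.Agent.* helpers here

set_option autoImplicit false
open Cfsg

namespace Cfsg.Agent.S0526

open Cfsg.Agent.Grp
open scoped commutatorElement

/-- In a finite supersolvable group the commutator subgroup is nilpotent. -/
theorem result {G : Type*} [Group G] [Finite G] (hG : Cfsg.IsSupersolvable G) : Group.IsNilpotent (commutator G) := by
  rw [isSupersolvable_iff] at hG
  suffices ∀ K : Subgroup G, SSReach K → ∃ n : ℕ, K.subgroupOf (commutator G) ≤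
      Subgroup.upperCentralSeries (commutator G) n by
    obtain ⟨n, hn⟩ := this ⊤ hG
    exact ⟨n, top_unique (by rwa [Subgroup.top_subgroupOf] at hn)⟩
  intro K hK
  induction hK with
  | bot => exact ⟨0, by simp⟩
  | @step K g hK hn ih =>
    obtain ⟨n, hn'⟩ := ih
    refine ⟨n + 1, fun x hx => ?_⟩
    rw [Subgroup.mem_upperCentralSeries_succ_iff]
    intro y
    refine hn' ?_
    have := hK.normal
    set f := QuotientGroup.mk' K
    have hn2 : (Subgroup.zpowers (f g)).Normal := by
      have := hn.map f (QuotientGroup.mk'_surjective K)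
      rwa [Subgroup.map_sup, QuotientGroup.map_mk'_self, bot_sup_eq, MonoidHom.map_zpowers] at this
    have hc := commutator_le_centralizer_of_zpowers_normal (f g) hn2
    have hy : f y ∈ commutator (G ⧸ K) := by
      have h1 : f (y : G) ∈ Subgroup.map f (⁅(⊤ : Subgroup G), (⊤ : Subgroup G)⁆ : Subgroup G) := ⟨_, y.2, rfl⟩
      rw [Subgroup.map_commutator, Subgroup.map_top_of_surjective f (QuotientGroup.mk'_surjective K)] at h1
      exact h1
    have hxy : Commute (f (x : G)) (f (y : G)) := by
      obtain ⟨k, hk, w, ⟨m, rfl⟩, hkw⟩ := Subgroup.mem_sup_of_normal_left.mp (show (x : G) ∈ K ⊔ Subgroup.zpowers g from hx)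
      rw [← hkw, map_mul, show f k = 1 from (QuotientGroup.eq_one_iff k).mpr hk, one_mul, map_zpow]
      exact Commute.zpow_left (show Commute (f g) (f y) from (Subgroup.mem_centralizer_singleton_iff.mp (hc hy)).symm) m
    show ((x * y * x⁻¹ * y⁻¹ : commutator G) : G) ∈ K
    rw [← QuotientGroup.eq_one_iff]
    show f ((x * y * x⁻¹ * y⁻¹ : commutator G) : G) = 1
    simp only [Subgroup.coe_mul, Subgroup.coe_inv, map_mul, map_inv]
    rw [hxy.eq, mul_inv_cancel_right, mul_inv_cancel]

end Cfsg.Agent.S0526
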