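import Cfsg.Statements.S0579
import Mathlib
import Cfsg.Agent.Lib.Grp.SupersolvableCriteria
import Cfsg.Agent.Lib.Grp.Frattini
import Cfsg.Agent.Lib.Grp.Coprime
import Cfsg.Agent.S0051
-- import your own Cfsg.Agent.* helpers here

set_option autoImplicit false
open Cfsg

namespace Cfsg.Agent.S0579

open scoped commutatorElement

universe w

/-- Commutators and `(r-1)`-th powers of order prime to `r` centralize normal `r`-subgroups of
supersolvable groups. -/
theorem centralizes_of_supersolvable {r : ℕ} [hr : Fact r.Prime] : ∀ (n : ℕ) {X : Type w}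
    [Group X] [Finite X], Nat.card X = n → Cfsg.IsSupersolvable X →
    ∀ (W : Subgroup X) [W.Normal], IsPGroup r W → ∀ a b c : X,
      (c = ⁅a, b⁆ ∨ c = a ^ (r - 1)) → (orderOf c).Coprime r →
      ∀ w ∈ W, c * w = w * c := by
  intro n
  induction n using Nat.strong_induction_on with
  | _ n IH =>
  intro X _ _ hcard hX W _ hW a b c hc hcop w hw
  by_cases hW0 : W = ⊥
  · rw [hW0, Subgroup.mem_bot] at hw
    simp [hw]
  obtain ⟨C, hCn, hCW, hCp⟩ := Cfsg.Agent.Grp.exists_prime_normal_le hX W hW0
  haveI := hCn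
  have hCr : Nat.card C = r := by
    have h : IsPGroup r C := hW.to_le hCW
    obtain ⟨k, hk⟩ := IsPGroup.iff_card.mp h
    have hd : Nat.card C ∣ r ^ k := hk ▸ dvd_rfl
    exact (Nat.prime_dvd_prime_iff_eq hCp hr.out).mp (hCp.dvd_of_dvd_pow hd)
  haveI : IsCyclic C := isCyclic_of_prime_card hCr
  have hC0 : C ≠ ⊥ := fun h => hCp.ne_one (by rw [h, Subgroup.card_bot])
  -- `c` centralizes `C`
  have hcC : ∀ z ∈ C, c * z = z * c := by
    let φ : X →* MulAut C := MulAut.conjNormal
    have hφ : φ c = 1 := by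
      have hab : ∀ s t : MulAut C, s * t = t * s := fun s t =>
        (IsCyclic.mulAutMulEquiv C).injective (by rw [map_mul, map_mul, mul_comm])
      rcases hc with rfl | rfl
      · rw [map_commutatorElement, commutatorElement_eq_one_iff_commute]
        exact hab _ _
      · rw [map_pow]
        have h := pow_card_eq_one' (x := φ a)
        rw [IsCyclic.card_mulAut, hCr, Nat.totient_prime hr.out] at h
        exact h
    intro z hz
    have h3 : φ c ⟨z, hz⟩ = ⟨z, hz⟩ := by rw [hφ]; rfl
    have h4 : c * z * c⁻¹ = z := by simpa [φ] using congrArg Subtype.val h3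
    exact mul_inv_eq_iff_eq_mul.mp h4
  -- `c` centralizes `W` modulo `C`
  set f := QuotientGroup.mk' C with hf
  haveI : (W.map f).Normal :=
    Subgroup.Normal.map inferInstance f (QuotientGroup.mk'_surjective C)
  have hq := IH _ (hcard ▸ Cfsg.Agent.Grp.card_quotient_lt hC0) rfl
    (Cfsg.Agent.Grp.isSupersolvable_of_surjective (QuotientGroup.mk'_surjective C) hX)
    (W.map f) (hW.map f) (f a) (f b) (f c)
    (hc.imp (fun h => by rw [h, map_commutatorElement]) (fun h => by rw [h, map_pow]))
    (hcop.coprime_dvd_left (orderOf_map_dvd f c))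
  have hAK : Subgroup.zpowers c ≤ Subgroup.normalizer (W : Set X) := by
    rw [Subgroup.normalizer_eq_top (H := W)]
    exact le_top
  obtain ⟨k, hk⟩ := IsPGroup.iff_card.mp hW
  have h1 : ⁅W, Subgroup.zpowers c⁆ ≤ C := by
    rw [Subgroup.commutator_le]
    intro x hx y hy
    obtain ⟨i, rfl⟩ := Subgroup.mem_zpowers_iff.mp hy
    rw [← QuotientGroup.eq_one_iff (N := C)]
    show f ⁅x, c ^ i⁆ = 1
    rw [map_commutatorElement, map_zpow, commutatorElement_eq_one_iff_commute]
    exact (Commute.zpow_left (hq (f x) ⟨x, hx, rfl⟩) i).symm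
  have h2 : ⁅C, Subgroup.zpowers c⁆ = ⊥ := by
    rw [eq_bot_iff, Subgroup.commutator_le]
    intro x hx y hy
    obtain ⟨i, rfl⟩ := Subgroup.mem_zpowers_iff.mp hy
    rw [Subgroup.mem_bot, commutatorElement_eq_one_iff_commute]
    exact (Commute.zpow_left (hcC x hx) i).symm
  haveI : Group.IsNilpotent W := hW.isNilpotent
  have h3 := Cfsg.Agent.Grp.le_centralizer_of_series (Subgroup.zpowers c) W C hAK
    (by rw [Nat.card_zpowers, hk]; exact hcop.pow_right k) (Or.inr inferInstance) h1 h2
    (Subgroup.mem_zpowers c)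
  exact (Subgroup.mem_centralizer_iff.mp h3 w hw).symm

theorem exists_eigen_zmod {r : ℕ} [hr : Fact r.Prime] {V : Type w} [AddCommGroup V]
    [Module (ZMod r) V] [Finite V] [Nontrivial V] (φ : Module.End (ZMod r) V)
    (h : ∀ v, (⇑φ)^[r] v = φ v) : ∃ a : ZMod r, ∃ v : V, v ≠ 0 ∧ φ v = a • v := by
  have hφr : φ ^ r = φ := LinearMap.ext fun v => by rw [Module.End.coe_pow]; exact h v
  have hdvd : minpoly (ZMod r) φ ∣ Polynomial.X ^ r - Polynomial.X := by
    apply minpoly.dvd
    simp [hφr]
  have hne : (Polynomial.X ^ r - Polynomial.X : Polynomial (ZMod r)) ≠ 0 :=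
    FiniteField.X_pow_card_sub_X_ne_zero (ZMod r) hr.out.one_lt
  have hsplit : (Polynomial.X ^ r - Polynomial.X : Polynomial (ZMod r)).Splits := by
    rw [Polynomial.splits_iff_card_roots]
    have h1 := FiniteField.roots_X_pow_card_sub_X (ZMod r)
    rw [ZMod.card] at h1
    rw [h1, FiniteField.X_pow_card_sub_X_natDegree_eq (ZMod r) hr.out.one_lt]
    simp [ZMod.card]
  have hdeg : (minpoly (ZMod r) φ).degree ≠ 0 :=
    (minpoly.degree_pos (IsIntegral.of_finite (ZMod r) φ)).ne'
  obtain ⟨a, ha⟩ := (hsplit.of_dvd hne hdvd).exists_eval_eq_zero hdeg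
  obtain ⟨v, hv⟩ := (Module.End.hasEigenvalue_of_isRoot ha).exists_hasEigenvector
  exact ⟨a, v, hv.2, hv.apply_eq_smul⟩

/-- A minimal normal elementary abelian `r`-subgroup on which the group acts through an abelian
group of exponent dividing `r - 1` is cyclic. -/
theorem cyclic_of_scalar {G : Type w} [Group G] [Finite G] {r : ℕ} [hr : Fact r.Prime]
    (N : Subgroup G) [hN : N.Normal] (hN0 : N ≠ ⊥)
    (hmin : ∀ K : Subgroup G, K.Normal → K ≤ N → K = ⊥ ∨ K = N)
    (hab : ∀ x ∈ N, ∀ y ∈ N, x * y = y * x) (hexp : ∀ x ∈ N, x ^ r = 1)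
    (hcomm : ∀ g h : G, ∀ x ∈ N, g * h * x * (g * h)⁻¹ = h * g * x * (h * g)⁻¹)
    (hpow : ∀ g : G, ∀ x ∈ N, g ^ (r - 1) * x = x * g ^ (r - 1)) : IsCyclic N := by
  classical
  let cg : CommGroup N := { (inferInstance : Group N) with
    mul_comm := fun x y => Subtype.ext (hab x x.2 y y.2) }
  have hsmul : ∀ x : Additive N, r • x = 0 := fun x => by
    apply Additive.toMul.injective
    apply Subtype.ext
    show ((Additive.toMul x : N) : G) ^ r = 1
    exact hexp _ (Additive.toMul x : N).2
  haveI : Module (ZMod r) (Additive N) := AddCommGroup.zmodModule hsmul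
  -- every element of the group induces a power map
  have power : ∀ g : G, ∃ a : ℕ, ∀ x ∈ N, g * x * g⁻¹ = x ^ a := by
    intro g
    let f : Additive N →+ Additive N :=
      MonoidHom.toAdditive (MulAut.conjNormal g : MulAut N).toMonoidHom
    let φ : Additive N →ₗ[ZMod r] Additive N := f.toZModLinearMap r
    have hφf : ∀ v : Additive N, φ v = f v := fun v => rfl
    have hiter : ∀ (i : ℕ) (v : Additive N),
        ((Additive.toMul (f^[i] v) : N) : G) = g ^ i * (Additive.toMul v : N) * (g ^ i)⁻¹ := by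
      intro i
      induction i with
      | zero => intro v; simp
      | succ i ih =>
        intro v
        rw [Function.iterate_succ_apply, ih, pow_succ]
        show g ^ i * (((MulAut.conjNormal g : MulAut N) (Additive.toMul v) : N) : G) * _ = _
        rw [MulAut.conjNormal_apply]
        group
    have hfr : ∀ v, f^[r] v = f v := by
      intro v
      apply Additive.toMul.injective
      apply Subtype.ext
      have h1 := hiter r v
      have h2 := hiter 1 v
      rw [Function.iterate_one] at h2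
      rw [h1, h2]
      have hr1 : g ^ r = g ^ (r - 1) * g := by
        rw [← pow_succ, Nat.sub_add_cancel hr.out.one_le]
      have hx : g * (Additive.toMul v : N) * g⁻¹ ∈ N := hN.conj_mem _ (Additive.toMul v : N).2 g
      calc g ^ r * (Additive.toMul v : N) * (g ^ r)⁻¹
          = g ^ (r - 1) * (g * (Additive.toMul v : N) * g⁻¹) * (g ^ (r - 1))⁻¹ := by
            rw [hr1]; group
        _ = g ^ 1 * (Additive.toMul v : N) * (g ^ 1)⁻¹ := by
            rw [hpow g _ hx, mul_inv_cancel_right, pow_one]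
    haveI : Nontrivial N := (Subgroup.nontrivial_iff_ne_bot N).mpr hN0
    obtain ⟨a, v, hv0, hv⟩ := exists_eigen_zmod (r := r) φ hfr
    refine ⟨a.val, ?_⟩
    let E : Subgroup G :=
      { carrier := {x | x ∈ N ∧ g * x * g⁻¹ = x ^ a.val}
        one_mem' := ⟨one_mem N, by simp⟩
        mul_mem' := fun {x y} hx hy => ⟨mul_mem hx.1 hy.1, by
          rw [(show Commute x y from hab x hx.1 y hy.1).mul_pow, ← hx.2, ← hy.2]
          group⟩
        inv_mem' := fun {x} hx => ⟨inv_mem hx.1, by
          rw [inv_pow, ← hx.2]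
          group⟩ }
    have hE : E = N := by
      refine (hmin E ⟨fun x hx h => ⟨hN.conj_mem x hx.1 h, ?_⟩⟩ fun x hx => hx.1).resolve_left ?_
      · rw [conj_pow, ← hx.2]
        calc g * (h * x * h⁻¹) * g⁻¹ = g * h * x * (g * h)⁻¹ := by group
          _ = h * g * x * (h * g)⁻¹ := hcomm g h x hx.1
          _ = h * (g * x * g⁻¹) * h⁻¹ := by group
      · intro h
        have hmem : ((Additive.toMul v : N) : G) ∈ E := by
          refine ⟨(Additive.toMul v : N).2, ?_⟩
          have h1 : f v = a.val • v := by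
            rw [← hφf, hv]
            conv_lhs => rw [← ZMod.natCast_zmod_val a]
            rw [Nat.cast_smul_eq_nsmul]
          exact congrArg (fun u : Additive N => ((Additive.toMul u : N) : G)) h1
        rw [h, Subgroup.mem_bot] at hmem
        exact hv0 (Additive.toMul.injective (Subtype.ext hmem))
    intro x hx
    rw [← hE] at hx
    exact hx.2
  obtain ⟨⟨x, hx⟩, hx1⟩ := Subgroup.ne_bot_iff_exists_ne_one.mp hN0
  have hn : (Subgroup.zpowers x).Normal := by
    refine ⟨fun z hz g => ?_⟩
    obtain ⟨a, ha⟩ := power g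
    rw [ha z (Subgroup.zpowers_le.mpr hx hz)]
    exact pow_mem hz a
  have e := (hmin _ hn (Subgroup.zpowers_le.mpr hx)).resolve_left
    (fun h => hx1 (Subtype.ext (Subgroup.zpowers_eq_bot.mp h)))
  exact e ▸ inferInstance

theorem huppert : ∀ (n : ℕ) {G : Type w} [Group G] [Finite G], Nat.card G = n →
    (∀ M : Subgroup G, IsCoatom M → M.index.Prime) → Cfsg.IsSupersolvable G := by
  intro n
  induction n using Nat.strong_induction_on with
  | _ n IH =>
  intro G _ _ hcard h
  have hquot : ∀ (N : Subgroup G) [N.Normal], N ≠ ⊥ → Cfsg.IsSupersolvable (G ⧸ N) := by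
    intro N _ hN
    refine IH _ (hcard ▸ Cfsg.Agent.Grp.card_quotient_lt hN) rfl fun M hM => ?_
    have hs := QuotientGroup.mk'_surjective N
    rw [← Subgroup.index_comap_of_surjective M hs]
    refine h _ ⟨fun he => hM.1 ?_, fun K hK => ?_⟩
    · rw [← Subgroup.map_comap_eq_self_of_surjective hs M, he,
        Subgroup.map_top_of_surjective _ hs]
    · have hker : (QuotientGroup.mk' N).ker ≤ K :=
        (MonoidHom.ker_le_comap _ M).trans hK.le
      have : M < K.map (QuotientGroup.mk' N) := by
        refine lt_of_le_of_ne ?_ fun he => hK.ne ?_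
        · rw [← Subgroup.map_comap_eq_self_of_surjective hs M]
          exact Subgroup.map_mono hK.le
        · rw [he, Subgroup.comap_map_eq_self hker]
      have := hM.2 _ this
      rw [← Subgroup.comap_map_eq_self hker, this, Subgroup.comap_top]
  by_cases h1 : Nat.card G = 1
  · haveI : Subsingleton G := (Nat.card_eq_one_iff_unique.mp h1).1
    exact ⟨0, fun _ => ⊥, rfl, Subsingleton.elim _ _, fun _ => inferInstance, fun i => i.elim0⟩
  have hne : (Nat.card G).primeFactors.Nonempty := by
    rw [Nat.nonempty_primeFactors]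
    have := Nat.card_pos (α := G)
    omega
  set r := (Nat.card G).primeFactors.max' hne with hrdef
  have hrmem : r ∈ (Nat.card G).primeFactors := Finset.max'_mem _ _
  rw [Nat.mem_primeFactors] at hrmem
  have hmax : ∀ q : ℕ, q.Prime → q ∣ Nat.card G → q ≤ r := fun q hq hd =>
    Finset.le_max' _ q (Nat.mem_primeFactors.mpr ⟨hq, hd, Nat.card_pos.ne'⟩)
  haveI : Fact r.Prime := ⟨hrmem.1⟩
  obtain ⟨S⟩ : Nonempty (Sylow r G) := inferInstance
  -- the Sylow subgroup is normal
  have hSn : (S : Subgroup G).Normal := by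
    rw [← Subgroup.normalizer_eq_top_iff]
    by_contra hne'
    obtain ⟨M, hM, hle⟩ := (eq_top_or_exists_le_coatom _).resolve_left hne'
    have hq := h M hM
    have hSM : (S : Subgroup G) ≤ M := Subgroup.le_normalizer.trans hle
    have c1 : Subgroup.index (Subgroup.normalizer ((S : Subgroup G) : Set G)) ≡ 1 [MOD r] := by
      have := card_sylow_modEq_one r G
      rwa [Sylow.card_eq_index_normalizer S] at this
    have c2 : (Subgroup.normalizer ((S : Subgroup G) : Set G)).relIndex M ≡ 1 [MOD r] := by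
      have h' := card_sylow_modEq_one r M
      rw [Sylow.card_eq_index_normalizer (S.subtype hSM)] at h'
      change (Subgroup.normalizer (((S : Subgroup G).subgroupOf M : Subgroup M) : Set M)).index ≡ 1 [MOD r] at h'
      rw [← Subgroup.subgroupOf_normalizer_eq hSM] at h' 
      exact h'
    rw [← Subgroup.relIndex_mul_index hle] at c1
    have c3 : M.index ≡ 1 [MOD r] := by
      have := (c2.mul_right M.index).symm.trans c1
      simpa using this
    have hle' : M.index ≤ r := hmax _ hq M.index_dvd_card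
    have h2 : M.index % r = 1 := by rw [c3, Nat.mod_eq_of_lt hrmem.1.one_lt]
    rcases hle'.lt_or_eq with hlt | heq
    · rw [Nat.mod_eq_of_lt hlt] at h2
      exact hq.ne_one h2
    · rw [heq, Nat.mod_self] at h2
      omega
  set P : Subgroup G := (S : Subgroup G) with hPdef
  haveI := hSn
  have hPp : IsPGroup r P := S.isPGroup'
  have hPi : ¬ r ∣ P.index := S.not_dvd_index
  obtain ⟨k, hk⟩ := IsPGroup.iff_card.mp hPp
  have hcopP : (Nat.card P).Coprime P.index := S.card_coprime_index
  have hP0 : P ≠ ⊥ := fun he => hPi (by rw [he, Subgroup.index_bot]; exact hrmem.2.1)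
  haveI : Group.IsNilpotent P := hPp.isNilpotent
  let Z : Subgroup G := (Subgroup.center P).map P.subtype
  haveI hZn : Z.Normal := Cfsg.Agent.Grp.normal_of_characteristic_map (Subgroup.center P)
  let F : Subgroup G := (frattini P).map P.subtype
  haveI hFn : F.Normal := Cfsg.Agent.Grp.normal_of_characteristic_map (frattini P)
  have hFP : F ≤ P := Subgroup.map_subtype_le _
  obtain ⟨X, hX0, hXP, hXn, hXF⟩ : ∃ X : Subgroup G, X ≠ ⊥ ∧ X ≤ P ∧ X.Normal ∧
      (F ≠ ⊥ → X ≤ F) := by
    by_cases hF : F = ⊥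
    · exact ⟨P, hP0, le_rfl, inferInstance, fun h => absurd hF h⟩
    · exact ⟨F, hF, hFP, inferInstance, fun _ => le_rfl⟩
  obtain ⟨N, hNn, hN0, hNX, hNmin⟩ := Cfsg.Agent.Grp.exists_minimal_normal_le (hN := hXn) hX0
  haveI := hNn
  have hNP : N ≤ P := hNX.trans hXP
  have hsuper := hquot N hN0
  suffices IsCyclic N from Cfsg.Agent.Grp.isSupersolvable_of_cyclic_normal N hsuper
  -- `P` centralizes `N`
  have hcent : ∀ x ∈ P, ∀ z ∈ N, x * z = z * x := by
    have hne'' : N.subgroupOf P ≠ ⊥ := by
      intro he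
      rw [Subgroup.subgroupOf_eq_bot, disjoint_iff, inf_eq_left.mpr hNP] at he
      exact hN0 he
    have hm := Cfsg.Agent.Grp.inf_center_ne_bot (N.subgroupOf P) hne''
    have hle : N ≤ Z := by
      have : N ⊓ Z = N := by
        refine (hNmin _ inferInstance inf_le_left).resolve_left ?_
        intro he
        obtain ⟨⟨z, hz⟩, hzne⟩ := (Subgroup.ne_bot_iff_exists_ne_one).mp hm
        have : (z : G) ∈ N ⊓ Z := ⟨hz.1, ⟨z, hz.2, rfl⟩⟩
        rw [he, Subgroup.mem_bot] at this
        exact hzne (Subtype.ext (Subtype.ext this))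
      exact this ▸ inf_le_right
    intro x hx z hz
    obtain ⟨w, hw, rfl⟩ := hle hz
    exact congrArg Subtype.val (Subgroup.mem_center_iff.mp hw ⟨x, hx⟩)
  have hNab : ∀ x ∈ N, ∀ y ∈ N, x * y = y * x := fun x hx y hy => hcent x (hNP hx) y hy
  by_cases hF : F = ⊥
  · -- `P` is elementary abelian: `N` has a complement
    have hfr : frattini P = ⊥ := by
      exact (Subgroup.map_eq_bot_iff_of_injective _ P.subtype_injective).mp hF
    have hPexp : ∀ x ∈ P, x ^ r = 1 := fun x hx => by
      have := Cfsg.Agent.Grp.pGroup_pow_mem_frattini hPp (⟨x, hx⟩ : P)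
      rw [hfr, Subgroup.mem_bot] at this
      exact congrArg Subtype.val this
    have hPab : ∀ x ∈ P, ∀ y ∈ P, x * y = y * x := fun x hx y hy => by
      have := Cfsg.Agent.Grp.pGroup_commutator_le_frattini hPp
        (Subgroup.commutator_mem_commutator (Subgroup.mem_top (⟨x, hx⟩ : P))
          (Subgroup.mem_top (⟨y, hy⟩ : P)))
      rw [hfr, Subgroup.mem_bot, commutatorElement_eq_one_iff_commute] at this
      exact congrArg Subtype.val this.eq
    obtain ⟨A, -, ⟨hAP, hAN⟩, hAmax⟩ : ∃ A : Subgroup G, ⊥ ≤ A ∧ (A ≤ P ∧ A ⊓ N = ⊥) ∧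
        ∀ B : Subgroup G, (B ≤ P ∧ B ⊓ N = ⊥) → A ≤ B → B ≤ A := by
      obtain ⟨A, hA1, hA2⟩ := (Set.toFinite {A : Subgroup G | A ≤ P ∧ A ⊓ N = ⊥}).exists_le_maximal
        (a := ⊥) ⟨bot_le, bot_inf_eq N⟩
      exact ⟨A, hA1, hA2.1, fun B hB hAB => hA2.2 hB hAB⟩
    have hsup : N ⊔ A = P := by
      refine le_antisymm (sup_le hNP hAP) fun x hx => ?_
      by_contra hxn
      have hxA : x ∉ A := fun he => hxn (Subgroup.mem_sup_right he)
      refine hxA (hAmax (A ⊔ Subgroup.zpowers x) ⟨sup_le hAP (Subgroup.zpowers_le.mpr hx), ?_⟩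
        le_sup_left (Subgroup.mem_sup_right (Subgroup.mem_zpowers x)))
      rw [eq_bot_iff]
      rintro z ⟨hz, hzN⟩
      have hnorm : Subgroup.zpowers x ≤ Subgroup.normalizer (A : Set G) := by
        rw [Subgroup.zpowers_le, Subgroup.mem_normalizer_iff]
        intro y
        constructor
        · intro hy
          rwa [hPab x hx y (hAP hy), mul_inv_cancel_right]
        · intro hy
          have : y = x⁻¹ * (x * y * x⁻¹) * x := by group
          rw [this, mul_assoc, ← hPab x hx _ (hAP hy), inv_mul_cancel_left]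
          exact hy
      have hz' : z ∈ (↑(A ⊔ Subgroup.zpowers x) : Set G) := hz
      rw [Subgroup.coe_mul_of_right_le_normalizer_left A _ hnorm] at hz'
      obtain ⟨a, ha, y, hy, rfl⟩ := hz'
      obtain ⟨i, rfl⟩ := Subgroup.mem_zpowers_iff.mp hy
      by_cases hi : (r : ℤ) ∣ i
      · obtain ⟨j, rfl⟩ := hi
        have he : x ^ ((r : ℤ) * j) = 1 := by
          rw [zpow_mul, zpow_natCast, hPexp x hx, one_zpow]
        simp only [he, mul_one] at hzN ⊢
        rw [← hAN]
        exact ⟨ha, hzN⟩
      · exfalso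
        have hco : IsCoprime (r : ℤ) i :=
          ((Nat.prime_iff_prime_int.mp hrmem.1).coprime_iff_not_dvd).mpr hi
        obtain ⟨u, v, huv⟩ := hco
        have hxi : x ^ i ∈ N ⊔ A := by
          have : x ^ i = a⁻¹ * (a * x ^ i) := by group
          rw [this]
          exact mul_mem (Subgroup.mem_sup_right (inv_mem ha)) (Subgroup.mem_sup_left hzN)
        have hx' : x = (x ^ r) ^ u * (x ^ i) ^ v := by
          rw [← zpow_natCast x r, ← zpow_mul, ← zpow_mul, ← zpow_add,
            show (r : ℤ) * u + i * v = 1 by linarith, zpow_one]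
        exact hxn (by rw [hx', hPexp x hx, one_zpow, one_mul]; exact zpow_mem hxi v)
    haveI : IsMulCommutative N := ⟨⟨fun x y => Subtype.ext (hNab x x.2 y y.2)⟩⟩
    obtain ⟨H, hH⟩ := Cfsg.Agent.S0051.result N P hNP
      (hcopP.coprime_dvd_left (Subgroup.card_dvd_of_le hNP)) A hAP hAN hsup
    have hHne : H ≠ ⊤ := by
      intro he
      subst he
      exact hN0 (Subgroup.isComplement'_top_right.mp hH)
    obtain ⟨M, hM, hHM⟩ := (eq_top_or_exists_le_coatom H).resolve_left hHne
    have hNM : N ⊔ M = ⊤ := eq_top_iff.mpr (hH.sup_eq_top ▸ sup_le_sup_left hHM N)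
    have hnotle : ¬ N ≤ M := fun hle => hM.1 (by rw [← hNM, sup_eq_right.mpr hle])
    have hinf : (M ⊓ N).Normal := by
      refine ⟨fun z hz g => ⟨?_, hNn.conj_mem z hz.2 g⟩⟩
      obtain ⟨x, hx, m, hm, rfl⟩ := Subgroup.mem_sup_of_normal_left.mp
        (hNM ▸ Subgroup.mem_top g : g ∈ N ⊔ M)
      have h2 : m * z * m⁻¹ ∈ M := mul_mem (mul_mem hm hz.1) (inv_mem hm)
      have h3 : x * m * z * (x * m)⁻¹ = x * (m * z * m⁻¹) * x⁻¹ := by group
      show x * m * z * (x * m)⁻¹ ∈ M
      rw [h3, hNab x hx _ (hNn.conj_mem z hz.2 m), mul_inv_cancel_right]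
      exact h2
    have hbot : M ⊓ N = ⊥ := (hNmin _ hinf inf_le_right).resolve_right
      fun he => hnotle (he ▸ inf_le_left)
    have e1 := Cfsg.Agent.Grp.card_sup_mul_card_inf_normal (H := M) (N := N)
    rw [sup_comm, hNM, hbot, Subgroup.card_bot, mul_one, Subgroup.card_top,
      ← M.card_mul_index] at e1
    haveI : Fact M.index.Prime := ⟨h M hM⟩
    exact isCyclic_of_prime_card (Nat.eq_of_mul_eq_mul_left Nat.card_pos e1).symm
  · -- `N` lies in the Frattini subgroup of `P`
    have hNF : N ≤ F := hNX.trans (hXF hF)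
    have hNexp : ∀ x ∈ N, x ^ r = 1 := by
      let E : Subgroup G :=
        { carrier := {x | x ∈ N ∧ x ^ r = 1}
          one_mem' := ⟨one_mem N, one_pow r⟩
          mul_mem' := fun {x y} hx hy => ⟨mul_mem hx.1 hy.1, by
            rw [(show Commute x y from hNab x hx.1 y hy.1).mul_pow, hx.2, hy.2, one_mul]⟩
          inv_mem' := fun {x} hx => ⟨inv_mem hx.1, by rw [inv_pow, hx.2, inv_one]⟩ }
      have hE : E = N := by
        refine (hNmin E ⟨fun x hx g => ⟨hNn.conj_mem x hx.1 g, ?_⟩⟩
          fun x hx => hx.1).resolve_left ?_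
        · rw [conj_pow, hx.2, mul_one, mul_inv_cancel]
        · intro he
          obtain ⟨x, hx, hxord⟩ : ∃ x : G, x ∈ N ∧ orderOf x = r := by
            have hNp : IsPGroup r N := hPp.to_le hNP
            obtain ⟨j, hj⟩ := IsPGroup.iff_card.mp hNp
            have hj0 : j ≠ 0 := fun h0 => hN0 (Subgroup.card_eq_one.mp (by rw [hj, h0, pow_zero]))
            obtain ⟨x, hx⟩ := exists_prime_orderOf_dvd_card' (G := N) r (hj ▸ dvd_pow_self r hj0)
            exact ⟨x, x.2, by rwa [Subgroup.orderOf_coe]⟩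
          have : x ∈ E := ⟨hx, by rw [← hxord]; exact pow_orderOf_eq_one x⟩
          rw [he, Subgroup.mem_bot] at this
          rw [this, orderOf_one] at hxord
          exact hrmem.1.ne_one hxord.symm
      intro x hx
      rw [← hE] at hx
      exact hx.2
    obtain ⟨Q, hQ⟩ := Subgroup.exists_right_complement'_of_coprime hcopP
    have hQcard : Nat.card Q = P.index := hQ.symm.index_eq_card.symm
    have key : ∀ a b c : G, c ∈ Q → (c = ⁅a, b⁆ ∨ c = a ^ (r - 1)) →
        ∀ x ∈ N, c * x = x * c := by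
      intro a b c hcQ hc
      have hcop : (orderOf c).Coprime r := by
        refine (hrmem.1.coprime_iff_not_dvd.mpr fun hd => hPi ?_).symm
        rw [← hQcard]
        exact hd.trans (Subgroup.orderOf_mk c hcQ ▸ orderOf_dvd_natCard _)
      set f := QuotientGroup.mk' N with hf
      haveI : (P.map f).Normal :=
        Subgroup.Normal.map inferInstance f (QuotientGroup.mk'_surjective N)
      have hq := centralizes_of_supersolvable _ rfl hsuper (P.map f) (hPp.map f) (f a) (f b) (f c)
        (hc.imp (fun h => by rw [h, map_commutatorElement]) (fun h => by rw [h, map_pow]))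
        (hcop.coprime_dvd_left (orderOf_map_dvd f c))
      have hAK : Subgroup.zpowers c ≤ Subgroup.normalizer (P : Set G) := by
        rw [Subgroup.normalizer_eq_top (H := P)]
        exact le_top
      have h1 : ⁅P, Subgroup.zpowers c⁆ ≤ N := by
        rw [Subgroup.commutator_le]
        intro x hx y hy
        obtain ⟨i, rfl⟩ := Subgroup.mem_zpowers_iff.mp hy
        rw [← QuotientGroup.eq_one_iff (N := N)]
        show f ⁅x, c ^ i⁆ = 1
        rw [map_commutatorElement, map_zpow, commutatorElement_eq_one_iff_commute]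
        exact (Commute.zpow_left (hq (f x) ⟨x, hx, rfl⟩) i).symm
      have hfix : Subgroup.centralizer ((Subgroup.zpowers c : Subgroup G) : Set G) ⊓ P = P := by
        set C := (Subgroup.centralizer ((Subgroup.zpowers c : Subgroup G) : Set G)).subgroupOf P
          with hC
        have htop : C ⊔ frattini P = ⊤ := by
          rw [eq_top_iff]
          rintro ⟨x, hx⟩ -
          obtain ⟨m, hm, y, hy, he⟩ := Cfsg.Agent.Grp.exists_commutator_mul_fixed
            (Subgroup.zpowers c) P hAK (by rw [Nat.card_zpowers, hk]; exact hcop.pow_right k)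
            (Or.inr inferInstance) (k := x) hx
          obtain ⟨m', hm', hme⟩ := hNF (h1 hm)
          have hyP : y ∈ P := hy.1
          have : (⟨x, hx⟩ : P) = m' * ⟨y, hyP⟩ := Subtype.ext (by show x = _; rw [he, ← hme]; rfl)
          rw [this]
          exact mul_mem (Subgroup.mem_sup_right hm') (Subgroup.mem_sup_left hy.2)
        have hCtop : C = ⊤ := frattini_nongenerating htop
        refine le_antisymm inf_le_right fun x hx => ⟨?_, hx⟩
        exact (hCtop ▸ Subgroup.mem_top (⟨x, hx⟩ : P) : (⟨x, hx⟩ : P) ∈ C)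
      intro x hx
      have hxm : x ∈ Subgroup.centralizer ((Subgroup.zpowers c : Subgroup G) : Set G) :=
        (hfix.ge (hNP hx)).1
      exact Subgroup.mem_centralizer_iff.mp hxm c (Subgroup.mem_zpowers c)
    have hdec : ∀ g : G, ∃ p ∈ P, ∃ q ∈ Q, g = p * q := fun g => by
      obtain ⟨⟨p, q⟩, hpq, -⟩ := hQ.existsUnique g
      exact ⟨p, p.2, q, q.2, hpq.symm⟩
    have hfixP : ∀ p ∈ P, ∀ x ∈ N, p * x * p⁻¹ = x := fun p hp x hx => by
      rw [hcent p hp x hx, mul_inv_cancel_right]
    refine cyclic_of_scalar (r := r) N hN0 hNmin hNab hNexp ?_ ?_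
    · intro g g' x hx
      obtain ⟨p, hp, q, hq, rfl⟩ := hdec g
      obtain ⟨p', hp', q', hq', rfl⟩ := hdec g'
      have hswap := key q q' ⁅q, q'⁆
        (mul_mem (mul_mem (mul_mem hq hq') (inv_mem hq)) (inv_mem hq')) (Or.inl rfl)
        (q' * q * x * (q' * q)⁻¹) (hNn.conj_mem x hx _)
      have hy1 : q' * x * q'⁻¹ ∈ N := hNn.conj_mem x hx q'
      have hy2 : q * x * q⁻¹ ∈ N := hNn.conj_mem x hx q
      calc p * q * (p' * q') * x * (p * q * (p' * q'))⁻¹
          = p * (q * (p' * (q' * x * q'⁻¹) * p'⁻¹) * q⁻¹) * p⁻¹ := by group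
        _ = q * (q' * x * q'⁻¹) * q⁻¹ := by
          rw [hfixP p' hp' _ hy1, hfixP p hp _ (hNn.conj_mem _ hy1 q)]
        _ = ⁅q, q'⁆ * (q' * q * x * (q' * q)⁻¹) * ⁅q, q'⁆⁻¹ := by
          simp [commutatorElement_def, mul_assoc]
        _ = q' * (q * x * q⁻¹) * q'⁻¹ := by rw [hswap]; group
        _ = p' * (q' * (p * (q * x * q⁻¹) * p⁻¹) * q'⁻¹) * p'⁻¹ := by
          rw [hfixP p hp _ hy2, hfixP p' hp' _ (hNn.conj_mem _ hy2 q')]
        _ = p' * q' * (p * q) * x * (p' * q' * (p * q))⁻¹ := by group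
    · intro g x hx
      obtain ⟨p, hp, q, hq, rfl⟩ := hdec g
      have hit : ∀ i : ℕ, ∀ y ∈ N, (p * q) ^ i * y * ((p * q) ^ i)⁻¹ = q ^ i * y * (q ^ i)⁻¹ := by
        intro i
        induction i with
        | zero => simp
        | succ i ih =>
          intro y hy
          have hy' : q * y * q⁻¹ ∈ N := hNn.conj_mem y hy q
          calc (p * q) ^ (i + 1) * y * ((p * q) ^ (i + 1))⁻¹
              = (p * q) ^ i * (p * (q * y * q⁻¹) * p⁻¹) * ((p * q) ^ i)⁻¹ := by
                rw [pow_succ]; group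
            _ = q ^ i * (q * y * q⁻¹) * (q ^ i)⁻¹ := by rw [hfixP p hp _ hy', ih _ hy']
            _ = q ^ (i + 1) * y * (q ^ (i + 1))⁻¹ := by rw [pow_succ]; group
      have h5 := hit (r - 1) x hx
      rw [key q q (q ^ (r - 1)) (pow_mem hq _) (Or.inr rfl) x hx, mul_inv_cancel_right] at h5
      exact mul_inv_eq_iff_eq_mul.mp h5

/-- Huppert's supersolvability criterion: if every maximal subgroup of a finite group has prime index, then the group is supersolvable. -/
theorem result {G : Type*} [Group G] [Finite G] (h : ∀ M : Subgroup G, IsCoatom M → M.index.Prime) : Cfsg.IsSupersolvable G := by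
  exact huppert _ rfl h

end Cfsg.Agent.S0579
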