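import Cfsg.Statements.S4481
import Cfsg.Agent.Lib.Block.Dihedral.Main

set_option autoImplicit false
open Cfsg

namespace Cfsg.Agent.S4481

/-- The principal 2-block of a group with dihedral Sylow 2-subgroups. Let G be a finite group whose Sylow 2-subgroup P is dihedral of order 2^n ≥ 8, let σ be an element of P of order 2^(n−1), ζ a primitive 2^(n−1)-th root of unity, and M a maximal ideal of the algebraic integers containing 2. Then the principal 2-block consists of exactly 3 + 2^(n−2) irreducible characters, which can be labelled 1, χ₁, χ₂, χ₃ and χ^(j) for 1 ≤ j ≤ 2^(n−2) − 1 (all distinct), with signs δ₁, δ₂, δ₃ such that for 0 < λ < 2^(n−1): χ₁(σ^λ) = δ₁, χ₂(σ^λ) = δ₂(−1)^(λ+1), χ₃(σ^λ) = δ₃(−1)^(λ+1) and χ^(j)(σ^λ) = δ₁(ζ^(jλ) + ζ^(−jλ)); and for every element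 ρ of odd order and every j: 1 + δ₁χ₁(ρ) = −δ₂χ₂(ρ) − δ₃χ₃(ρ) = δ₁χ^(j)(ρ). -/
theorem result {G : Type*} [Group G] [Finite G] (M : Ideal Cfsg.AlgInt) (hM : Cfsg.IsPModular 2 M) (n : ℕ) (hn : 3 ≤ n) (P : Sylow 2 G) (hP : Nonempty ((P : Subgroup G) ≃* DihedralGroup (2 ^ (n - 1)))) (σ : G) (hσ : σ ∈ (P : Subgroup G)) (hσo : orderOf σ = 2 ^ (n - 1)) (ζ : ℂ) (hζ : IsPrimitiveRoot ζ (2 ^ (n - 1))) : Nat.card (Cfsg.principalBlock M G) = 3 + 2 ^ (n - 2) ∧ ∃ (χ₁ χ₂ χ₃ : Cfsg.IrrCharacter G) (χ' : Fin (2 ^ (n - 2) - 1) → Cfsg.IrrCharacter G) (δ₁ δ₂ δ₃ : ℤ), (δ₁ = 1 ∨ δ₁ = -1) ∧ (δ₂ = 1 ∨ δ₂ = -1) ∧ (δ₃ = 1 ∨ δ₃ = -1) ∧ Function.Injective χ' ∧ (χ₁ : G → ℂ) ≠ (fun _ => 1) ∧ (χ₂ : G → ℂ) ≠ (fun _ => 1) ∧ (χ₃ : G → ℂ) ≠ (fun _ => 1) ∧ χ₁ ≠ χ₂ ∧ χ₁ ≠ χ₃ ∧ χ₂ ≠ χ₃ ∧ (∀ j, χ' j ≠ χ₁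 ∧ χ' j ≠ χ₂ ∧ χ' j ≠ χ₃ ∧ (χ' j : G → ℂ) ≠ (fun _ => 1)) ∧ Cfsg.principalBlock M G = {χ : Cfsg.IrrCharacter G | (χ : G → ℂ) = (fun _ => 1) ∨ χ = χ₁ ∨ χ = χ₂ ∨ χ = χ₃ ∨ ∃ j, χ = χ' j} ∧ (∀ l : ℕ, 0 < l → l < 2 ^ (n - 1) → (χ₁ : G → ℂ) (σ ^ l) = δ₁ ∧ (χ₂ : G → ℂ) (σ ^ l) = δ₂ * (-1) ^ (l + 1) ∧ (χ₃ : G → ℂ) (σ ^ l) = δ₃ * (-1) ^ (l + 1) ∧ ∀ j : Fin (2 ^ (n - 2) - 1), (χ' j : G → ℂ) (σ ^ l) = δ₁ * (ζ ^ (((j : ℕ) + 1) * l) + (ζ ^ (((j : ℕ) + 1) * l))⁻¹)) ∧ ∀ ρ : G, Odd (orderOf ρ) → ∀ j : Fin (2 ^ (n - 2) - 1), 1 + δ₁ * (χ₁ : G → ℂ) ρ = -δ₂ * (χ₂ : G → ℂ) ρ - δ₃ * (χ₃ : G → ℂ) ρ ∧ 1 + δ₁ * (χ₁ : G → ℂ) ρ = δ₁ * (χ' j : G → ℂ) ρ := by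
  classical
  obtain ⟨e⟩ := hP
  have h := Cfsg.Agent.Block.Dih.data_of_equiv P hn e hσ hσo
  obtain ⟨k, rfl⟩ : ∃ k, n = k + 3 := ⟨n - 3, by omega⟩
  have hk1 : 1 ≤ 2 ^ k := Nat.one_le_two_pow
  have e1 : k + 3 - 2 = k + 1 := by omega
  have e2 : k + 3 - 1 = k + 2 := by omega
  have hp1 : (2 : ℕ) ^ (k + 3 - 2) = 2 * 2 ^ k := by rw [e1, pow_succ]; ring
  have hm : (2 : ℕ) ^ (k + 3 - 1) = 2 * ((2 ^ (k + 3 - 2) - 1) + 1) := by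
    rw [Nat.sub_add_cancel (by omega), e2, e1, pow_succ _ (k + 1)]; ring
  obtain ⟨a, b, c, η, d1, d2, d3, h1, h2, h3, hinj, hao, hbo, hco, hab, hac, hbc, hη, hset, hcard,
    hval, hrel⟩ := Cfsg.Agent.Block.Dih.dihedral_block hM h hm (by omega) (by omega) hζ
  have hne : ∀ x : Cfsg.IrrCharacter G, x ≠ Cfsg.Agent.Block.trivialIrr G →
      (x : G → ℂ) ≠ fun _ => 1 := fun x hx e => hx (Subtype.ext e)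
  refine ⟨by rw [hcard]; omega, a, b, c, η, d1, d2, d3, h1, h2, h3, hinj, hne a hao, hne b hbo,
    hne c hco, hab, hac, hbc, fun j => ⟨(hη j).1, (hη j).2.1, (hη j).2.2.1, hne _ (hη j).2.2.2⟩,
    ?_, hval, hrel⟩
  rw [hset]
  ext x
  simp only [Set.mem_setOf_eq]
  refine or_congr_left ⟨fun e => ?_, fun e => Subtype.ext e⟩
  rw [e]
  rfl

end Cfsg.Agent.S4481
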