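import Cfsg.Statements.S0223
import Mathlib
import Cfsg.Agent.Lib.Invol.StronglyEmbedded
-- import your own Cfsg.Agent.* helpers here

set_option autoImplicit false
open Cfsg

namespace Cfsg.Agent.S0223

/-- Let H be a proper subgroup of even order of the finite group G. Then H is strongly embedded if and only if (i) C_G(t) ≤ H for every involution t of H and (ii) H controls fusion of its involutions: involutions of H conjugate in G are conjugate in H. -/
theorem result {G : Type*} [Group G] [Finite G] (H : Subgroup G) (hH : H ≠ ⊤) (heven : Even (Nat.card H)) : Cfsg.IsStronglyEmbedded H ↔ ((∀ t ∈ H, orderOf t = 2 → Subgroup.centralizer ({t} : Set G) ≤ H) ∧ (∀ t ∈ H, ∀ s ∈ H, orderOf t = 2 → orderOf s = 2 → IsConj t s → ∃ h ∈ H, h * t * h⁻¹ = s)) := by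
  rw [Invol.isStronglyEmbedded_iff hH heven]
  constructor
  · intro h
    refine ⟨fun t ht ht2 c hc => h t ht ht2 c ?_, fun t ht s hs ht2 hs2 hconj => ?_⟩
    · rw [Subgroup.mem_centralizer_singleton_iff] at hc
      rw [mul_assoc, ← hc, inv_mul_cancel_left]
      exact ht
    · obtain ⟨g, hg⟩ := isConj_iff.mp hconj
      refine ⟨g, h s hs hs2 g ?_, hg⟩
      rw [← hg]
      simpa [mul_assoc] using ht
  · rintro ⟨hc, hf⟩ t ht ht2 g hg
    have ho : orderOf (g⁻¹ * t * g) = 2 := by
      rw [← ht2, ← Invol.orderOf_conj_eq g⁻¹ t, inv_inv]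
    obtain ⟨k, hk, hk'⟩ := hf _ hg t ht ho ht2 (isConj_iff.mpr ⟨g, by group⟩)
    have hmem : k⁻¹ * g ∈ H := by
      have hcen : g * k⁻¹ ∈ Subgroup.centralizer ({t} : Set G) := by
        rw [Subgroup.mem_centralizer_singleton_iff]
        conv_lhs => rw [← hk']
        group
      have h2 := mul_mem (hc t ht ht2 hcen) hk
      rw [inv_mul_cancel_right] at h2
      exact mul_mem (inv_mem hk) h2
    have := mul_mem hk hmem
    rwa [mul_inv_cancel_left] at this

end Cfsg.Agent.S0223
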