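import Cfsg.Statements.S1300
import Cfsg.Agent.Lib.Grp.CoprimeAbelian

set_option autoImplicit false
open Cfsg

namespace Cfsg.Agent.S1300

/-- For a finite group G, balance in the sense of commuting involutions is the same as 1-balance for the prime 2. -/
theorem result {G : Type*} [Group G] [Finite G] : Cfsg.IsBalanced G ↔ Cfsg.IsKBalanced 2 1 G := by
  have key : ∀ x : G, orderOf x = 2 → Cfsg.signalizerDelta 2 (Subgroup.zpowers x) = Cfsg.centralizerPPrimeCore 2 x := by
    intro x hx
    rw [Cfsg.signalizerDelta]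
    refine le_antisymm (iInf_le_of_le ⟨x, Subgroup.mem_zpowers x, fun e => by simp [e] at hx⟩ le_rfl) (le_iInf ?_)
    rintro ⟨a, ha, ha1⟩
    obtain ⟨k, rfl⟩ := Subgroup.mem_zpowers_iff.mp ha
    have e : x ^ k = x := by
      rw [← zpow_mod_orderOf, hx]
      rcases Int.emod_two_eq_zero_or_one k with h | h
      · exact absurd (by rw [← zpow_mod_orderOf, hx]; simp [h]) ha1
      · simp [h]
    exact le_of_eq (by simp only [e])
  have hsub : ∀ x : G, Cfsg.centralizerPPrimeCore 2 x ≤ Subgroup.centralizer {x} := fun x => Subgroup.map_subtype_le _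
  constructor
  · intro h A hA hcard b hb hcomm
    obtain ⟨a, ha⟩ := exists_prime_orderOf_dvd_card' (G := A) 2 (by rw [hcard]; norm_num)
    have hA' : A = Subgroup.zpowers (a : G) := (Subgroup.eq_of_le_of_card_ge (Subgroup.zpowers_le.mpr a.2)
      (by rw [Nat.card_zpowers, Subgroup.orderOf_coe, ha, hcard, pow_one])).symm
    rw [← Subgroup.orderOf_coe] at ha
    rw [hA', key _ ha, h _ b ha hb (hcomm a a.2)]
    exact inf_le_left
  · intro h x y hx hy hxy
    have one : ∀ x y : G, orderOf x = 2 → orderOf y = 2 → x * y = y * x →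
        Cfsg.centralizerPPrimeCore 2 x ⊓ Subgroup.centralizer {y} ≤
          Cfsg.centralizerPPrimeCore 2 y ⊓ Subgroup.centralizer {x} := by
      intro x y hx hy hxy
      refine le_inf ?_ (inf_le_left.trans (hsub x))
      have hel : Cfsg.IsElementaryAbelian 2 (Subgroup.zpowers x) := ⟨inferInstance, fun a ha => by
        obtain ⟨k, rfl⟩ := Subgroup.mem_zpowers_iff.mp ha
        rw [← zpow_natCast, ← zpow_mul, mul_comm, zpow_mul, zpow_natCast, ← hx, pow_orderOf_eq_one, one_zpow]⟩
      rw [← key x hx]
      refine h _ hel (by rw [Nat.card_zpowers, hx, pow_one]) y hy fun a ha => ?_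
      obtain ⟨k, rfl⟩ := Subgroup.mem_zpowers_iff.mp ha
      exact (Commute.zpow_left hxy k).eq
    exact le_antisymm (one x y hx hy hxy) (one y x hy hx hxy.symm)

end Cfsg.Agent.S1300
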