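import Cfsg.Statements.S0840
import Cfsg.Agent.Lib.Char.Schur

set_option autoImplicit false
open scoped ComplexConjugate
open Cfsg

namespace Cfsg.Agent.S0840

open Cfsg.Agent.Char
open scoped ComplexConjugate

/-- Class multiplication coefficients from the character table: for elements a, b, c of a finite group G, the number of ordered pairs (x, y) with x conjugate to a, y conjugate to b and x * y = c equals the product of the sizes of the conjugacy classes of a and b, divided by the order of G, times the sum over the irreducible characters χ of χ a * χ b * conj (χ c) / χ 1. -/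
theorem result {G : Type*} [Group G] [Finite G] (a b c : G) : (Nat.card {p : G × G // IsConj a p.1 ∧ IsConj b p.2 ∧ p.1 * p.2 = c} : ℂ) = (Nat.card {x : G // IsConj a x} : ℂ) * (Nat.card {x : G // IsConj b x} : ℂ) / (Nat.card G : ℂ) * ∑ᶠ χ : Cfsg.IrrCharacter G, (χ : G → ℂ) a * (χ : G → ℂ) b * conj ((χ : G → ℂ) c) / (χ : G → ℂ) 1 := by
  classical
  haveI := Fintype.ofFinite G
  rw [finsum_eq_sum_of_fintype, card_conjClass, card_conjClass]
  have h1 : (Nat.card G : ℂ) * (Nat.card {p : G × G // IsConj a p.1 ∧ IsConj b p.2 ∧ p.1 * p.2 = c} : ℂ) =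
      ∑ χ : IrrCharacter G, (χ : G → ℂ) 1 *
        ∑ x ∈ Finset.univ.filter (fun x => IsConj a x), ∑ y ∈ Finset.univ.filter (fun y => IsConj b y),
          (χ : G → ℂ) (x * (y * c⁻¹)) := by
    simp only [Finset.mul_sum]
    rw [Finset.sum_comm]
    rw [Finset.sum_congr rfl fun x _ => Finset.sum_comm]
    simp only [regular_expansion]
    rw [← Finset.sum_product', Finset.sum_ite, Finset.sum_const_zero, add_zero, Finset.sum_const,
      nsmul_eq_mul, mul_comm]
    congr 2
    rw [Nat.card_eq_fintype_card, Fintype.card_subtype]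
    congr 1
    ext ⟨x, y⟩
    simp [← mul_assoc, mul_inv_eq_one, and_assoc]
  have hA : ∀ (χ : IrrCharacter G) (d z : G), ∑ x ∈ Finset.univ.filter (fun x => IsConj d x),
      (χ : G → ℂ) (x * z) = ((Subgroup.centralizer ({d} : Set G)).index : ℂ) * (χ : G → ℂ) d / (χ : G → ℂ) 1 * (χ : G → ℂ) z := by
    intro χ d z
    have hf : IsClassFunction G (fun x => if IsConj d x then (1 : ℂ) else 0) := fun u v => by
      have hc : IsConj u (v * u * v⁻¹) := isConj_iff.mpr ⟨v, rfl⟩
      exact if_congr ⟨fun H => H.trans hc.symm, fun H => H.trans hc⟩ rfl rfl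
    have h2 := sum_classFun_mul_apply χ.2 hf z
    simp only [ite_mul, one_mul, zero_mul, ← Finset.sum_filter] at h2
    rw [h2, Finset.sum_congr rfl (fun x hx => (IsClass.eq_of_isConj (IsIrr.classFun χ.2) (Finset.mem_filter.mp hx).2).symm),
      Finset.sum_const, card_conjClass_finset, nsmul_eq_mul]
  rw [← mul_right_inj' (Nat.cast_ne_zero.mpr Nat.card_pos.ne' : (Nat.card G : ℂ) ≠ 0), h1,
    ← mul_assoc, mul_div_cancel₀ _ (Nat.cast_ne_zero.mpr Nat.card_pos.ne'), Finset.mul_sum]
  refine Finset.sum_congr rfl fun χ _ => ?_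
  rw [Finset.sum_comm]
  simp only [hA χ a]
  rw [← Finset.mul_sum, hA χ b, IsIrr.apply_inv χ.2]
  have hne := IsIrr.one_ne_zero χ.2
  field_simp

end Cfsg.Agent.S0840
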