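import Cfsg.Statements.S0054
import Cfsg.Agent.Lib.Grp.Basic
-- import your own Cfsg.Agent.* helpers here

set_option autoImplicit false
open Cfsg

namespace Cfsg.Agent.S0054

/-- A regular normal subgroup of a finite 2-transitive group is elementary abelian: it is commutative and all its elements have order dividing one prime. -/
theorem result {G : Type*} [Group G] [Finite G]
    {X : Type*} [Nonempty X] [MulAction G X] (h2 : MulAction.IsMultiplyPretransitive G X 2)
    (N : Subgroup G) [N.Normal] (htrans : MulAction.IsPretransitive N X) (hreg : ∀ x : X, MulAction.stabilizer N x = ⊥) :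
    IsMulCommutative N ∧ ∃ p : ℕ, p.Prime ∧ ∀ n ∈ N, n ^ p = 1 := by
  obtain ⟨x⟩ := (inferInstance : Nonempty X)
  have hinj : ∀ a b : N, a • x = b • x → a = b := by
    intro a b hab
    have : b⁻¹ * a ∈ MulAction.stabilizer N x := by
      rw [MulAction.mem_stabilizer_iff, mul_smul, hab, inv_smul_smul]
    rw [hreg x, Subgroup.mem_bot, inv_mul_eq_one] at this
    exact this.symm
  have hconj : ∀ a b : N, a ≠ 1 → b ≠ 1 → ∃ g : G, g * a * g⁻¹ = b := by
    intro a b ha hb
    have h1 : (a : G) • x ≠ x := fun e => ha (hinj a 1 (by rw [one_smul]; exact e))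
    have h3 : (b : G) • x ≠ x := fun e => hb (hinj b 1 (by rw [one_smul]; exact e))
    obtain ⟨g, hg1, hg2⟩ := MulAction.is_two_pretransitive_iff.mp h2 h1.symm h3.symm
    refine ⟨g, congrArg Subtype.val (hinj ⟨g * a * g⁻¹, Subgroup.Normal.conj_mem inferInstance _ a.2 g⟩ b ?_)⟩
    show (g * (a : G) * g⁻¹) • x = (b : G) • x
    rw [mul_smul, mul_smul, show g⁻¹ • x = x by rw [inv_smul_eq_iff, hg1], hg2]
  by_cases hN : N = ⊥
  · subst hN
    exact ⟨inferInstance, 2, Nat.prime_two, fun n hn => by rw [Subgroup.mem_bot.mp hn, one_pow]⟩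
  obtain ⟨q, hq, hqd⟩ := Nat.exists_prime_and_dvd (fun e => hN (Subgroup.card_eq_one.mp e) : Nat.card N ≠ 1)
  have := Fact.mk hq
  obtain ⟨a, ha⟩ := exists_prime_orderOf_dvd_card' (G := N) q hqd
  have ha1 : a ≠ 1 := fun e => by rw [e, orderOf_one] at ha; exact hq.ne_one ha.symm
  have hexp : ∀ n : N, n ^ q = 1 := by
    intro n
    rcases eq_or_ne n 1 with rfl | hn
    · exact one_pow q
    · obtain ⟨g, hg⟩ := hconj a n ha1 hn
      refine Subtype.ext ?_
      rw [SubgroupClass.coe_pow, ← hg, conj_pow, ← SubgroupClass.coe_pow, ← ha, pow_orderOf_eq_one]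
      simp
  refine ⟨?_, q, hq, fun n hn => by simpa using congrArg Subtype.val (hexp ⟨n, hn⟩)⟩
  have hP : IsPGroup q N := fun n => ⟨1, by rw [pow_one]; exact hexp n⟩
  have : Nontrivial N := (Subgroup.nontrivial_iff_ne_bot N).mpr hN
  obtain ⟨z, hz, hz1⟩ := (Subgroup.nontrivial_iff_exists_ne_one _).mp hP.center_nontrivial
  refine ⟨⟨fun u v => ?_⟩⟩
  rcases eq_or_ne u 1 with rfl | hu
  · simp
  obtain ⟨g, hg⟩ := hconj z u hz1 hu
  have hc := Subgroup.mem_center_iff.mp hz ⟨g⁻¹ * v * g, by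
    simpa using Subgroup.Normal.conj_mem (inferInstance : N.Normal) _ v.2 g⁻¹⟩
  have hc' := congrArg (fun w : N => g * (w : G) * g⁻¹) hc
  simp only [Subgroup.coe_mul] at hc'
  refine Subtype.ext ?_
  rw [Subgroup.coe_mul, Subgroup.coe_mul, ← hg]
  simpa [mul_assoc] using hc'.symm

end Cfsg.Agent.S0054
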