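import Cfsg.Statements.S0699
import Mathlib
import Cfsg.Agent.Lib.Block.Residue
-- import your own Cfsg.Agent.* helpers here

set_option autoImplicit false
open Cfsg

namespace Cfsg.Agent.S0699

/-- Wagner's Theorem: a non-trivial normal subgroup of a triply transitive permutation group of odd degree at least 5 is triply transitive. -/
theorem result {α : Type*} [Fintype α] [DecidableEq α] (G : Subgroup (Equiv.Perm α)) (hodd : Odd (Fintype.card α)) (h5 : 5 ≤ Fintype.card α) (hG : MulAction.IsMultiplyPretransitive G α 3) (N : Subgroup G) [N.Normal] (hN : N ≠ ⊥) : MulAction.IsMultiplyPretransitive N α 3 := by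
  classical
  have key3 : ∀ {a b c a' b' c' : α}, a ≠ b → a ≠ c → b ≠ c → a' ≠ b' → a' ≠ c' → b' ≠ c' →
      ∃ g : G, g • a = a' ∧ g • b = b' ∧ g • c = c' := by
    intro a b c a' b' c' h1 h2 h3 h4 h5 h6
    have i1 : Function.Injective ![a, b, c] := by
      intro i j
      fin_cases i <;> fin_cases j <;> simp [h1, h1.symm, h2, h2.symm, h3, h3.symm]
    have i2 : Function.Injective ![a', b', c'] := by
      intro i j
      fin_cases i <;> fin_cases j <;> simp [h4, h4.symm, h5, h5.symm, h6, h6.symm]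
    obtain ⟨g, hg⟩ := hG.exists_smul_eq ⟨_, i1⟩ ⟨_, i2⟩
    exact ⟨g, DFunLike.congr_fun hg 0, DFunLike.congr_fun hg 1, DFunLike.congr_fun hg 2⟩
  have hthird : ∀ a b : α, ∃ c, c ≠ a ∧ c ≠ b := by
    intro a b
    obtain ⟨c, hc⟩ := (Finset.card_pos (s := ({a, b} : Finset α)ᶜ)).1 (by
      have := Finset.card_le_two (a := a) (b := b)
      rw [Finset.card_compl]; omega)
    simp only [Finset.mem_compl, Finset.mem_insert, Finset.mem_singleton, not_or] at hc
    exact ⟨c, hc⟩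
  have hfour : ∀ a b c : α, ∃ e, e ≠ a ∧ e ≠ b ∧ e ≠ c := by
    intro a b c
    obtain ⟨e, he⟩ := (Finset.card_pos (s := ({a, b, c} : Finset α)ᶜ)).1 (by
      have := Finset.card_le_three (a := a) (b := b) (c := c)
      rw [Finset.card_compl]; omega)
    simp only [Finset.mem_compl, Finset.mem_insert, Finset.mem_singleton, not_or] at he
    exact ⟨e, he⟩
  have key2 : ∀ {a b a' b' : α}, a ≠ b → a' ≠ b' → ∃ g : G, g • a = a' ∧ g • b = b' := by
    intro a b a' b' h h'
    obtain ⟨c, hc1, hc2⟩ := hthird a b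
    obtain ⟨c', hc1', hc2'⟩ := hthird a' b'
    obtain ⟨g, h1, h2, -⟩ := key3 h hc1.symm hc2.symm h' hc1'.symm hc2'.symm
    exact ⟨g, h1, h2⟩
  have h2G : MulAction.IsMultiplyPretransitive G α 2 :=
    MulAction.is_two_pretransitive_iff.2 fun h h' => key2 h h'
  have hprim : MulAction.IsPreprimitive G α := MulAction.isPreprimitive_of_is_two_pretransitive h2G
  have hNt : MulAction.IsPretransitive N α := by
    refine MulAction.IsQuasiPreprimitive.isPretransitive_of_normal fun hfp => hN ?_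
    refine (Subgroup.eq_bot_iff_forall _).2 fun x hx => ?_
    refine Subtype.ext (Equiv.ext fun y => ?_)
    have h1 : y ∈ MulAction.fixedPoints N α := hfp ▸ Set.mem_univ y
    exact h1 ⟨x, hx⟩
  have hfaith : ∀ g : G, (∀ x : α, g • x = x) → g = 1 := fun g hg =>
    Subtype.ext (Equiv.ext fun x => hg x)
  have hne : Nonempty α := Fintype.card_pos_iff.1 (by omega)
  -- some point stabiliser in `N` is non-trivial
  obtain ⟨a₀, n₀, hn₀, hn₀a, hn₀1⟩ : ∃ a : α, ∃ n ∈ N, n • a = a ∧ n ≠ 1 := by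
    by_contra hfree
    push Not at hfree
    obtain ⟨a⟩ := hne
    have hbij : Function.Bijective (fun u : N => (u : G) • a) := by
      refine ⟨fun u v huv => ?_, fun b => ?_⟩
      · have h1 := hfree a ((v : G)⁻¹ * u) (N.mul_mem (N.inv_mem v.2) u.2)
          (by rw [mul_smul, show (u : G) • a = (v : G) • a from huv, inv_smul_smul])
        exact Subtype.ext (inv_mul_eq_one.1 h1).symm
      · obtain ⟨u, hu⟩ := MulAction.exists_smul_eq N a b
        exact ⟨u, hu⟩
    have hcard : Nat.card N = Fintype.card α := by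
      rw [Nat.card_congr (Equiv.ofBijective _ hbij), Nat.card_eq_fintype_card]
    obtain ⟨b, hb⟩ := hthird a a
    obtain ⟨⟨x, hxN⟩, hxb⟩ := MulAction.exists_smul_eq N a b
    have hxb' : x • a = b := hxb
    have hx1 : x ≠ 1 := fun h => hb.1 (by rw [← hxb', h, one_smul])
    have hinv : x⁻¹ • a ≠ x • a := by
      intro h
      have h1 := hfree a (x * x) (N.mul_mem hxN hxN) (by rw [mul_smul, ← h, smul_inv_smul])
      have h2 : orderOf (⟨x, hxN⟩ : N) ∣ 2 :=
        orderOf_dvd_of_pow_eq_one (Subtype.ext (by rw [pow_two]; exact h1))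
      rcases (Nat.dvd_prime Nat.prime_two).1 h2 with h3 | h3
      · rw [← Subgroup.orderOf_coe, orderOf_eq_one_iff] at h3
        exact hx1 h3
      · have h4 : (2 : ℕ) ∣ Fintype.card α := by rw [← h3, ← hcard]; exact orderOf_dvd_natCard _
        obtain ⟨r, hr⟩ := hodd
        omega
    have hxa : x • a ≠ a := fun h => hx1 (hfree a x hxN h)
    have hxa' : x⁻¹ • a ≠ a := fun h => hx1 (inv_eq_one.1 (hfree a _ (N.inv_mem hxN) h))
    obtain ⟨y, hy1, hy2, hy3⟩ := hfour a (x • a) (x⁻¹ • a)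
    obtain ⟨g, hga, hgx, hgy⟩ :=
      key3 hxa.symm hxa'.symm hinv.symm hxa.symm hy1.symm hy2.symm
    have hga' : g⁻¹ • a = a := inv_smul_eq_iff.2 hga.symm
    have hgx' : g * x * g⁻¹ = x := by
      have h1 := hfree a (x⁻¹ * (g * x * g⁻¹))
        (N.mul_mem (N.inv_mem hxN) (Subgroup.Normal.conj_mem ‹_› x hxN g))
        (by rw [mul_smul, mul_smul, mul_smul, hga', hgx, inv_smul_smul])
      exact (inv_mul_eq_one.1 h1).symm
    apply hy3
    have h3 : g * x⁻¹ * g⁻¹ = x⁻¹ := by rw [← conj_inv, hgx']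
    rw [← hgy]
    conv_rhs => rw [← h3, mul_smul, mul_smul, hga']
  obtain ⟨x₀, hx₀⟩ : ∃ x : α, n₀ • x ≠ x := by
    by_contra h
    push Not at h
    exact hn₀1 (hfaith _ h)
  -- hence `N` is doubly transitive
  have hN2 : ∀ {a x y : α}, a ≠ x → a ≠ y → x ≠ y → ∃ u ∈ N, u • a = a ∧ u • x = y := by
    intro a x y h1 h2 h3
    have h4 : a₀ ≠ x₀ := fun h => hx₀ (h ▸ hn₀a)
    have h5 : a₀ ≠ n₀ • x₀ := fun h => h4 (smul_left_cancel n₀ (hn₀a.trans h))
    obtain ⟨g, hga, hgx, hgy⟩ := key3 h4 h5 hx₀.symm h1 h2 h3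
    refine ⟨g * n₀ * g⁻¹, Subgroup.Normal.conj_mem ‹_› n₀ hn₀ g, ?_, ?_⟩
    · rw [mul_smul, mul_smul, inv_smul_eq_iff.2 hga.symm, hn₀a, hga]
    · rw [mul_smul, mul_smul, inv_smul_eq_iff.2 hgx.symm, hgy]
  have hN2' : ∀ {a b a' b' : α}, a ≠ b → a' ≠ b' → ∃ u ∈ N, u • a = a' ∧ u • b = b' := by
    intro a b a' b' h h'
    obtain ⟨⟨u, hu⟩, hua⟩ := MulAction.exists_smul_eq N a a'
    have hua' : u • a = a' := hua
    by_cases hb : u • b = b'
    · exact ⟨u, hu, hua', hb⟩
    obtain ⟨v, hv, hva, hvb⟩ := hN2 (a := a') (x := u • b) (y := b')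
      (by rw [← hua', Ne, smul_left_cancel_iff]; exact h) h' hb
    exact ⟨v * u, N.mul_mem hv hu, by rw [mul_smul, hua', hva], by rw [mul_smul, hvb]⟩
  suffices key : ∀ a b c d : α, a ≠ b → c ≠ a → c ≠ b → d ≠ a → d ≠ b →
      ∃ u ∈ N, u • a = a ∧ u • b = b ∧ u • c = d by
    refine ⟨fun x y => ?_⟩
    have hx : ∀ i j : Fin 3, i ≠ j → x i ≠ x j := fun i j hij h => hij (x.injective h)
    have hy : ∀ i j : Fin 3, i ≠ j → y i ≠ y j := fun i j hij h => hij (y.injective h)
    obtain ⟨u, hu, hu0, hu1⟩ := hN2' (hx 0 1 (by decide)) (hy 0 1 (by decide))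
    obtain ⟨v, hv, hv0, hv1, hv2⟩ := key (y 0) (y 1) (u • x 2) (y 2) (hy 0 1 (by decide))
      (by rw [← hu0, Ne, smul_left_cancel_iff]; exact hx 2 0 (by decide))
      (by rw [← hu1, Ne, smul_left_cancel_iff]; exact hx 2 1 (by decide))
      (hy 2 0 (by decide)) (hy 2 1 (by decide))
    refine ⟨⟨v * u, N.mul_mem hv hu⟩, ?_⟩
    ext i
    show (v * u) • x i = y i
    rw [mul_smul]
    fin_cases i
    · exact (congrArg (v • ·) hu0).trans hv0
    · exact (congrArg (v • ·) hu1).trans hv1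
    · exact hv2
  intro a b c₁ d₁ hab hc₁a hc₁b hd₁a hd₁b
  by_contra hcd
  let M : Subgroup G := N ⊓ MulAction.stabilizer G a ⊓ MulAction.stabilizer G b
  have hM : ∀ g, g ∈ M ↔ g ∈ N ∧ g • a = a ∧ g • b = b := fun g => by
    simp [M, and_assoc]
  let S : Subgroup G :=
    { carrier := {g | g ∈ N ∧ ((g • a = a ∧ g • b = b) ∨ (g • a = b ∧ g • b = a))}
      one_mem' := ⟨N.one_mem, Or.inl ⟨one_smul _ _, one_smul _ _⟩⟩
      mul_mem' := by
        rintro g h ⟨hg, h1⟩ ⟨hh, h2⟩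
        refine ⟨N.mul_mem hg hh, ?_⟩
        rcases h1 with ⟨h1, h1'⟩ | ⟨h1, h1'⟩ <;> rcases h2 with ⟨h2, h2'⟩ | ⟨h2, h2'⟩ <;>
          simp [mul_smul, h1, h1', h2, h2']
      inv_mem' := by
        rintro g ⟨hg, ⟨h1, h1'⟩ | ⟨h1, h1'⟩⟩ <;>
          exact ⟨N.inv_mem hg, by simp [inv_smul_eq_iff, h1, h1']⟩ }
  have hScard : Nat.card S = 2 * Nat.card M := by
    have h1 := Nat.card_congr (MulAction.orbitProdStabilizerEquivGroup S a)
    rw [Nat.card_prod] at h1
    have h2 : MulAction.orbit S a = ({a, b} : Set α) := by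
      ext z
      constructor
      · rintro ⟨⟨g, hg, h | h⟩, rfl⟩
        · exact Or.inl h.1
        · exact Or.inr h.1
      · rintro (rfl | rfl)
        · exact MulAction.mem_orbit_self _
        · obtain ⟨w, hw, hwa, hwb⟩ := hN2' hab hab.symm
          exact ⟨⟨w, hw, Or.inr ⟨hwa, hwb⟩⟩, hwa⟩
    rw [h2, Nat.card_coe_set_eq, Set.ncard_pair hab] at h1
    rw [← h1]
    congr 1
    refine Nat.card_congr
      { toFun := fun g => ⟨(g : S), ?_⟩
        invFun := fun g => ⟨⟨g, ?_⟩, ?_⟩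
        left_inv := fun g => rfl
        right_inv := fun g => rfl }
    · rw [hM]
      refine ⟨(g : S).2.1, g.2, ?_⟩
      rcases (g : S).2.2 with h | h
      · exact h.2
      · exact absurd (g.2.symm.trans h.1) hab
    · exact ⟨((hM g).1 g.2).1, Or.inl ((hM g).1 g.2).2⟩
    · exact ((hM g).1 g.2).2.1
  obtain ⟨T⟩ : Nonempty (Sylow 2 S) := inferInstance
  have hT : ∀ x y : α, x ≠ y → (∀ t : (T : Subgroup S), ((t : S) : G) • x = x) →
      (∀ t : (T : Subgroup S), ((t : S) : G) • y = y) → False := by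
    intro x y hxy hx hy
    obtain ⟨u, hu, hux, huy⟩ := hN2' hxy hab
    let φ : (T : Subgroup S) →* M :=
      { toFun := fun t => ⟨u * ((t : S) : G) * u⁻¹, (hM _).2 ⟨N.mul_mem (N.mul_mem hu (t : S).2.1)
            (N.inv_mem hu), by
          rw [mul_smul, mul_smul, inv_smul_eq_iff.2 hux.symm, hx t, hux], by
          rw [mul_smul, mul_smul, inv_smul_eq_iff.2 huy.symm, hy t, huy]⟩⟩
        map_one' := by ext; simp
        map_mul' := fun s t => by ext; simp [mul_assoc] }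
    have hinj : Function.Injective φ := fun s t hst => by
      apply Subtype.ext; apply Subtype.ext
      exact mul_left_cancel (mul_right_cancel (congrArg Subtype.val hst :
        u * ((s : S) : G) * u⁻¹ = u * ((t : S) : G) * u⁻¹))
    have h1 := Subgroup.card_dvd_of_injective φ hinj
    have h2 : (Nat.card S).factorization 2 = (Nat.card M).factorization 2 + 1 := by
      rw [hScard, Nat.factorization_mul (by norm_num) Nat.card_pos.ne',
        Nat.Prime.factorization Nat.prime_two]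
      simp [add_comm]
    rw [T.card_eq_multiplicity, h2, Nat.prime_two.pow_dvd_iff_le_factorization Nat.card_pos.ne'] at h1
    omega
  -- the orbits of the two-point stabiliser
  let O : α → Finset α := fun x => Finset.univ.filter (fun y => y ∈ MulAction.orbit M x)
  have hOmem : ∀ x y, y ∈ O x ↔ ∃ m ∈ M, m • x = y := fun x y => by
    simp only [O, Finset.mem_filter, Finset.mem_univ, true_and]
    exact ⟨fun ⟨m, hm⟩ => ⟨m, m.2, hm⟩, fun ⟨m, hm, h⟩ => ⟨⟨m, hm⟩, h⟩⟩
  have hOrest : ∀ x, x ≠ a → x ≠ b → ∀ y ∈ O x, y ≠ a ∧ y ≠ b := by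
    intro x hxa hxb y hy
    obtain ⟨m, hm, rfl⟩ := (hOmem x y).1 hy
    exact ⟨fun h => hxa (smul_left_cancel m (h.trans ((hM m).1 hm).2.1.symm)),
      fun h => hxb (smul_left_cancel m (h.trans ((hM m).1 hm).2.2.symm))⟩
  have hOg : ∀ g : G, g • a = a → g • b = b → ∀ x, (O (g • x)).card = (O x).card := by
    intro g hga hgb x
    refine (Finset.card_equiv (MulAction.toPerm g) fun y => ?_).symm
    rw [hOmem, hOmem, MulAction.toPerm_apply]
    constructor
    · rintro ⟨m, hm, rfl⟩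
      refine ⟨g * m * g⁻¹, (hM _).2 ⟨Subgroup.Normal.conj_mem ‹_› m ((hM m).1 hm).1 g, ?_, ?_⟩, ?_⟩
      · rw [mul_smul, mul_smul, inv_smul_eq_iff.2 hga.symm, ((hM m).1 hm).2.1, hga]
      · rw [mul_smul, mul_smul, inv_smul_eq_iff.2 hgb.symm, ((hM m).1 hm).2.2, hgb]
      · rw [mul_smul, mul_smul, inv_smul_smul]
    · rintro ⟨m, hm, hmx⟩
      refine ⟨g⁻¹ * m * g, (hM _).2 ⟨?_, ?_, ?_⟩, ?_⟩
      · have := Subgroup.Normal.conj_mem ‹_› m ((hM m).1 hm).1 g⁻¹
        rwa [inv_inv] at this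
      · rw [mul_smul, mul_smul, hga, ((hM m).1 hm).2.1, inv_smul_eq_iff.2 hga.symm]
      · rw [mul_smul, mul_smul, hgb, ((hM m).1 hm).2.2, inv_smul_eq_iff.2 hgb.symm]
      · rw [mul_smul, mul_smul, hmx, inv_smul_smul]
  -- they have odd size
  have hOodd : ∀ x, x ≠ a → x ≠ b → ((O x).card : ZMod 2) = 1 := by
    intro x hxa hxb
    have hsame : ∀ y, y ≠ a → y ≠ b → (O y).card = (O x).card := by
      intro y hya hyb
      obtain ⟨g, hga, hgb, hgy⟩ := key3 hab hxa.symm hxb.symm hab hya.symm hyb.symm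
      rw [← hgy, hOg g hga hgb]
    have h1 := Finset.card_eq_sum_card_image O ({a, b} : Finset α)ᶜ
    have h2 : ∀ o ∈ (({a, b} : Finset α)ᶜ).image O,
        ((({a, b} : Finset α)ᶜ).filter (fun y => O y = o)).card = (O x).card := by
      intro o ho
      obtain ⟨z, hz, rfl⟩ := Finset.mem_image.1 ho
      simp only [Finset.mem_compl, Finset.mem_insert, Finset.mem_singleton, not_or] at hz
      rw [← hsame z hz.1 hz.2]
      congr 1
      ext y
      simp only [Finset.mem_filter, Finset.mem_compl, Finset.mem_insert, Finset.mem_singleton, not_or]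
      constructor
      · rintro ⟨-, hy⟩
        rw [← hy]
        exact (hOmem y y).2 ⟨1, M.one_mem, one_smul _ _⟩
      · intro hy
        refine ⟨hOrest z hz.1 hz.2 y hy, Finset.filter_congr fun w _ => ?_⟩
        rw [MulAction.orbit_eq_iff.2 (Finset.mem_filter.1 hy).2]
    rw [Finset.sum_congr rfl h2, Finset.sum_const, smul_eq_mul, Finset.card_compl,
      Finset.card_pair hab] at h1
    have h3 : Odd ((O x).card) := by
      obtain ⟨r, hr⟩ := hodd
      have h4 : Odd (Fintype.card α - 2) := ⟨r - 1, by omega⟩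
      rw [h1] at h4
      exact (Nat.odd_mul.1 h4).2
    exact ZMod.natCast_eq_one_iff_odd.2 h3
  have hfixpt : ∀ Z : Finset α, ((Z.card : ZMod 2) = 1) →
      (∀ t : (T : Subgroup S), ∀ z, ((t : S) : G) • z ∈ Z ↔ z ∈ Z) →
      ∃ z ∈ Z, ∀ t : (T : Subgroup S), ((t : S) : G) • z = z := by
    intro Z hZ hinv
    by_contra hno
    push Not at hno
    have h1 := Cfsg.Agent.Block.sum_eq_sum_fixed (A := ZMod 2) (fun x => by revert x; decide) T.isPGroup'
      (fun z : α => if z ∈ Z then (1 : ZMod 2) else 0) (fun t z => if_congr (hinv t z) rfl rfl)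
    have h2 : ∀ z ∈ MulAction.fixedPoints (T : Subgroup S) α,
        (if z ∈ Z then (1 : ZMod 2) else 0) = 0 := fun z hz => if_neg fun hzZ => by
      obtain ⟨t, ht⟩ := hno z hzZ
      exact ht (hz t)
    rw [finsum_mem_congr rfl h2, finsum_mem_zero, Finset.sum_boole, Finset.filter_mem_eq_inter,
      Finset.univ_inter, hZ] at h1
    exact one_ne_zero h1
  obtain ⟨c, -, hc⟩ := hfixpt Finset.univ (by
    rw [Finset.card_univ]; exact ZMod.natCast_eq_one_iff_odd.2 hodd) (fun t z => by simp)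
  -- `T` contains an element swapping the two points
  obtain ⟨w, hwN, hwa, hwb, hwc⟩ : ∃ w ∈ N, w • a = b ∧ w • b = a ∧ w • c = c := by
    by_contra hno
    apply hT a b hab <;> intro t <;> rcases (t : S).2.2 with h | h
    · exact h.1
    · exact absurd ⟨_, (t : S).2.1, h.1, h.2, hc t⟩ hno
    · exact h.2
    · exact absurd ⟨_, (t : S).2.1, h.1, h.2, hc t⟩ hno
  have hca : c ≠ a := fun h => hab (by rw [← hwa, ← h, hwc, h])
  have hcb : c ≠ b := fun h => hab (by rw [← hwb, ← h, hwc, h])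
  -- every orbit is invariant
  have hSO : ∀ x, x ≠ a → x ≠ b → ∀ s ∈ S, ∀ y ∈ O x, s • y ∈ O x := by
    intro x hxa hxb s hs y hy
    obtain ⟨m, hm, rfl⟩ := (hOmem x y).1 hy
    rw [hOmem]
    obtain ⟨hsN, ⟨hsa, hsb⟩ | ⟨hsa, hsb⟩⟩ := hs
    · exact ⟨s * m, M.mul_mem ((hM s).2 ⟨hsN, hsa, hsb⟩) hm, by rw [mul_smul]⟩
    · obtain ⟨g, hga, hgb, hgx⟩ := key3 hab hca.symm hcb.symm hab hxa.symm hxb.symm
      obtain ⟨hmN, hma, hmb⟩ := (hM m).1 hm
      refine ⟨s * m * (g * w * g⁻¹), (hM _).2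
        ⟨N.mul_mem (N.mul_mem hsN hmN) (Subgroup.Normal.conj_mem ‹_› w hwN g), ?_, ?_⟩, ?_⟩
      · rw [mul_smul, mul_smul, mul_smul, mul_smul, inv_smul_eq_iff.2 hga.symm, hwa, hgb, hmb, hsb]
      · rw [mul_smul, mul_smul, mul_smul, mul_smul, inv_smul_eq_iff.2 hgb.symm, hwb, hga, hma, hsa]
      · rw [mul_smul, mul_smul, mul_smul, mul_smul, inv_smul_eq_iff.2 hgx.symm, hwc, hgx]
  -- every orbit contains the fixed point `c`
  have hall : ∀ x, x ≠ a → x ≠ b → c ∈ O x := by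
    intro x hxa hxb
    obtain ⟨z, hz, hzfix⟩ := hfixpt (O x) (hOodd x hxa hxb) (fun t z =>
      ⟨fun h => by
        have := hSO x hxa hxb _ (S.inv_mem (t : S).2) _ h
        rwa [inv_smul_smul] at this, fun h => hSO x hxa hxb _ (t : S).2 _ h⟩)
    by_cases hzc : z = c
    · exact hzc ▸ hz
    · exact absurd (hT z c hzc hzfix hc) id
  obtain ⟨m₁, hm₁, h₁⟩ := (hOmem c₁ c).1 (hall c₁ hc₁a hc₁b)
  obtain ⟨m₂, hm₂, h₂⟩ := (hOmem d₁ c).1 (hall d₁ hd₁a hd₁b)
  obtain ⟨hN', ha', hb'⟩ := (hM _).1 (M.mul_mem (M.inv_mem hm₂) hm₁)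
  exact hcd ⟨_, hN', ha', hb', by rw [mul_smul, h₁, ← h₂, inv_smul_smul]⟩

end Cfsg.Agent.S0699
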