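import Cfsg.Statements.S4281
import Cfsg.Agent.Lib.Lie.Chev.InvolutionDataE8
import Cfsg.Agent.Lib.Lie.Chev.InvolutionData
import Cfsg.Agent.Lib.Lie.Chev.TorusOrders

set_option autoImplicit false
open scoped BigOperators
open Cfsg

namespace Cfsg.Agent.S4281

open Cfsg.Agent.Lie.Chev

theorem checkPairNeg_ok : certFullE8.T.checkPairNeg = true := by decide +kernel

theorem checkOddPair_ok : certFullE8.T.checkOddPair = true := by decide +kernel

theorem checkOrthPairs_ok : certFullE8.T.checkOrthPairs = true := by decide +kernel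

theorem checkRows_ok : certFullE8.T.checkRows invE8 = true := by decide +kernel

theorem checkSeeds_ok : certFullE8.T.checkSeeds invE8 = true := by decide +kernel

theorem checkFrames_ok : certFullE8.T.checkFrames invE8 = true := by decide +kernel

theorem checkInv_ok : certFullE8.T.checkInv invE8 = true := by
  simp only [Tables.checkInv, checkPairNeg_ok, checkOddPair_ok, checkOrthPairs_ok, checkRows_ok,
    checkSeeds_ok, checkFrames_ok, Bool.and_self]

theorem checkStab_one : certFullE8.T.checkStab invE8Stab1 = true := by decide +kernel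

theorem checkStab_two : certFullE8.T.checkStab invE8Stab2 = true := by decide +kernel

theorem checkMasks_ok :
    certFullE8.T.checkMasks invE8Stab1.y invE8Stab2.y invE8Masks = true := by decide +kernel

/-- In the Chevalley group of type E₈ over a finite field of odd order q there are exactly two conjugacy classes of involutions; the centralizer of an involution in one class has order q⁵⁶(q⁸ − 1)·∏_{i=1}^{7}(q^{2i} − 1), and in the other class q⁶⁴(q² − 1)²(q⁶ − 1)(q⁸ − 1)(q¹⁰ − 1)(q¹² − 1)(q¹⁴ − 1)(q¹⁸ − 1). -/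
theorem result {F : Type*} [Field F] [Fintype F] (hF : Odd (Fintype.card F)) : ∃ s t : ↥(Cfsg.Lie.chevE8.group F), orderOf s = 2 ∧ orderOf t = 2 ∧ ¬ IsConj s t ∧ (∀ u : ↥(Cfsg.Lie.chevE8.group F), orderOf u = 2 → IsConj u s ∨ IsConj u t) ∧ Nat.card (Subgroup.centralizer ({s} : Set ↥(Cfsg.Lie.chevE8.group F))) = Fintype.card F ^ 56 * (Fintype.card F ^ 8 - 1) * ∏ i ∈ Finset.Icc 1 7, (Fintype.card F ^ (2 * i) - 1) ∧ Nat.card (Subgroup.centralizer ({t} : Set ↥(Cfsg.Lie.chevE8.group F))) = Fintype.card F ^ 64 * (Fintype.card F ^ 2 - 1) ^ 2 * (Fintype.card F ^ 6 - 1) * (Fintype.card F ^ 8 - 1) * (Fintype.card F ^ 10 - 1) * (Fintype.card F ^ 12 - 1) * (Fintype.card F ^ 14 - 1) * (Fintype.card F ^ 18 - 1) := by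
  obtain ⟨s, t, h1, h2, h3, h4, h5, h6⟩ := certFullE8.involution_classes (F := F) hF checkInv_ok
    checkStab_one checkStab_two checkMasks_ok (torusOrderE8 F) (by decide) (by decide) (by decide)
  refine ⟨s, t, h1, h2, h3, h4, ?_, ?_⟩
  · rw [h5, show (Tables.subRoots invE8Stab1.levels).length = 56 by decide,
      show invE8Stab1.degs = [2, 4, 6, 8, 10, 12, 14, 8] from rfl,
      show Finset.Icc 1 7 = ({1, 2, 3, 4, 5, 6, 7} : Finset ℕ) by decide]
    simp
    ring
  · rw [h6, show (Tables.subRoots invE8Stab2.levels).length = 64 by decide,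
      show invE8Stab2.degs = [2, 2, 6, 8, 10, 12, 14, 18] from rfl]
    simp [mul_assoc, pow_two]

end Cfsg.Agent.S4281
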