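import Cfsg.Statements.S1078
import Cfsg.Agent.Lib.Lie.Chev.SteinbergInst
-- import your own Cfsg.Agent.* helpers here

set_option autoImplicit false
open Cfsg

namespace Cfsg.Agent.S1078

/-- For G₂, F₄, E₈ the presented group has trivial centre (the universal and adjoint groups coincide). -/
theorem result {K : Type*} [Field K] (D : Cfsg.Lie.ChevalleyDatum) (hD : D ∈ [Cfsg.Lie.chevG2, Cfsg.Lie.chevF4, Cfsg.Lie.chevE8]) :
    Subgroup.center (D.SteinbergGroup K) = ⊥ := by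
  simp only [List.mem_cons, List.not_mem_nil, or_false] at hD
  rcases hD with rfl | rfl | rfl
  · rw [← (Lie.Chev.certFullG2.stGroupData K).ker_eq_center (by decide +kernel)]
    exact Lie.Chev.certFullG2.stGroup_ker_bot K (by decide +kernel) (l := 2) rfl
      (B := !![1, 2; 0, 1] * !![0, -1; 1, 2]) (by decide +kernel)
  · rw [← (Lie.Chev.certFullF4.stGroupData K).ker_eq_center (by decide +kernel)]
    exact Lie.Chev.certFullF4.stGroup_ker_bot K (by decide +kernel) (l := 4) rfl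
      (B := !![0, 0, 1, -2; 1, 0, 2, -4; 0, 0, 2, -3; 0, 1, 2, -2] *
        !![-1, 0, 0, 0; 1, 0, -1, 0; -2, -1, 0, 0; -2, -2, -2, -1]) (by decide +kernel)
  · rw [← (Lie.Chev.certFullE8.stGroupData K).ker_eq_center (by decide +kernel)]
    exact Lie.Chev.certFullE8.stGroup_ker_bot K (by decide +kernel) (l := 8) rfl
      (B := !![0, 0, 0, 0, 0, 0, 1, -2; 0, 0, 0, 0, 0, 0, 2, -3; 1, 0, 0, 0, 0, 0, 2, -4; 0, 1, 0, 0, 0, 0, 4, -6; 0, 0, 1, 0, 0, 0, 4, -5; 0, 0, 0, 1, 0, 0, 4, -4; 0, 0, 0, 0, 1, 0, 4, -3; 0, 0, 0, 0, 0, 1, 4, -2] *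
        !![-1, 0, 0, 0, 0, 0, 0, 0; 0, -1, 0, 0, 0, 0, 0, 0; 1, -2, 0, -1, 0, 0, 0, 0; 2, -3, 0, -2, -1, 0, 0, 0; 3, -4, 0, -3, -2, -1, 0, 0; 4, -5, 0, -4, -3, -2, -1, 0; -2, 1, -1, 0, 0, 0, 0, 0; -3, -2, -4, -5, -4, -3, -2, -1])
      (by decide +kernel)

end Cfsg.Agent.S1078
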