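import Cfsg.Statements.S0068
import Cfsg.Agent.Lib.Grp.Coprime
-- import your own Cfsg.Agent.* helpers here

set_option autoImplicit false
open Cfsg

namespace Cfsg.Agent.S0068

open scoped Pointwise commutatorElement

/-- Frobenius complements of even order: if H complements a nontrivial normal subgroup K, each nonidentity element of H has trivial centraliser in K, and H has even order, then H contains a unique involution s, K is abelian, and s inverts every element of K. -/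
theorem result {G : Type*} [Group G] [Finite G] (K H : Subgroup G) [K.Normal]
    (hc : Subgroup.IsComplement' K H) (hK : K ≠ ⊥) (hfpf : ∀ h ∈ H, h ≠ 1 → K ⊓ Subgroup.centralizer {h} = ⊥)
    (heven : 2 ∣ Nat.card H) :
    (∃ s ∈ H, orderOf s = 2 ∧ (∀ t ∈ H, orderOf t = 2 → t = s) ∧ ∀ k ∈ K, s * k * s⁻¹ = k⁻¹) ∧ IsMulCommutative K := by
  classical
  obtain ⟨⟨s, hsH⟩, hs⟩ := exists_prime_orderOf_dvd_card' (G := H) 2 heven
  have hkey : ∀ t ∈ H, orderOf t = 2 → ∀ k ∈ K, t * k * t⁻¹ = k⁻¹ := by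
    intro t htH ht
    have ht1 : t ≠ 1 := fun e => by simp [e] at ht
    have htt : t * t = 1 := by rw [← sq, ← ht, pow_orderOf_eq_one]
    have hti : t⁻¹ = t := inv_eq_of_mul_eq_one_right htt
    let φ : K → K := fun k => ⟨(k : G)⁻¹ * (t * k * t⁻¹),
      K.mul_mem (K.inv_mem k.2) (Subgroup.Normal.conj_mem inferInstance _ k.2 t)⟩
    have hφ : Function.Injective φ := by
      intro a b hab
      have e : (a : G)⁻¹ * (t * a * t⁻¹) = (b : G)⁻¹ * (t * b * t⁻¹) := congrArg Subtype.val hab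
      have h1 : (b : G) * (a : G)⁻¹ ∈ K ⊓ Subgroup.centralizer {t} := by
        refine ⟨K.mul_mem b.2 (K.inv_mem a.2), Subgroup.mem_centralizer_singleton_iff.mpr ?_⟩
        calc (b : G) * (a : G)⁻¹ * t = (b : G) * ((a : G)⁻¹ * (t * a * t⁻¹)) * t * (a : G)⁻¹ := by group
          _ = t * ((b : G) * (a : G)⁻¹) := by rw [e]; group
      rw [hfpf t htH ht1, Subgroup.mem_bot, mul_inv_eq_one] at h1
      exact Subtype.ext h1.symm
    intro k hk
    obtain ⟨a, ha⟩ := (Finite.injective_iff_surjective.mp hφ) ⟨k, hk⟩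
    rw [← show (a : G)⁻¹ * (t * a * t⁻¹) = k from congrArg Subtype.val ha]
    calc t * ((a : G)⁻¹ * (t * a * t⁻¹)) * t⁻¹ = (t * (a : G)⁻¹ * t⁻¹) * (t * t) * a * (t * t)⁻¹ := by group
      _ = ((a : G)⁻¹ * (t * a * t⁻¹))⁻¹ := by rw [htt]; group
  have hs' : orderOf s = 2 := by
    rw [← hs, ← Subgroup.orderOf_coe]
  refine ⟨⟨s, hsH, hs', fun t htH ht => ?_, hkey s hsH hs'⟩, ?_⟩
  · by_contra hne
    have hne1 : t * s⁻¹ ≠ 1 := fun e => hne (mul_inv_eq_one.mp e)
    obtain ⟨k, hk, hk1⟩ := (Subgroup.bot_or_exists_ne_one K).resolve_left hK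
    have hmem : k ∈ K ⊓ Subgroup.centralizer {t * s⁻¹} := by
      refine ⟨hk, Subgroup.mem_centralizer_singleton_iff.mpr ?_⟩
      have e1 := hkey s hsH hs' (s⁻¹ * k * s) (by simpa using Subgroup.Normal.conj_mem (inferInstance : K.Normal) k hk s⁻¹)
      have e2 := hkey t htH ht (s⁻¹ * k * s) (by simpa using Subgroup.Normal.conj_mem (inferInstance : K.Normal) k hk s⁻¹)
      have e3 : s * (s⁻¹ * k * s) * s⁻¹ = k := by group
      rw [e3] at e1
      rw [← e1] at e2
      calc k * (t * s⁻¹) = t * (s⁻¹ * k * s) * t⁻¹ * (t * s⁻¹) := by rw [e2]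
        _ = t * s⁻¹ * k := by group
    rw [hfpf _ (H.mul_mem htH (H.inv_mem hsH)) hne1, Subgroup.mem_bot] at hmem
    exact hk1 hmem
  · refine ⟨⟨fun a b => Subtype.ext ?_⟩⟩
    have e := hkey s hsH hs' _ (K.mul_mem a.2 b.2)
    rw [show s * ((a : G) * b) * s⁻¹ = (s * a * s⁻¹) * (s * b * s⁻¹) by group, hkey s hsH hs' a a.2, hkey s hsH hs' b b.2] at e
    have := congrArg (·⁻¹) e
    simpa using this.symm

end Cfsg.Agent.S0068
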