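import Cfsg.Statements.S4252
import Cfsg.Agent.Lib.Recog.Frobenius

set_option maxHeartbeats 1000000
set_option maxRecDepth 8000

set_option autoImplicit false
open Cfsg
open scoped Pointwise

namespace Cfsg.Agent.S4252

/-- Let a finite group G act on a finite set Ω with more than one point, transitively but not regularly, so that no non-identity element of G fixes two distinct points. Then the stabilizer H of any point is a Frobenius complement in G (nontrivial, proper, meeting its other conjugates trivially), and the Frobenius kernel of G with respect to H (the identity together with the elements lying in no conjugate of H) is exactly the set consisting of the identity and the elements fixing no point. -/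
theorem result {G Ω : Type*} [Group G] [Finite G] [Fintype Ω] [MulAction G Ω] (hΩ : 1 < Fintype.card Ω)
    (htrans : ∀ α β : Ω, ∃ g : G, g • α = β) (hnreg : ∃ g : G, g ≠ 1 ∧ ∃ α : Ω, g • α = α)
    (hfix : ∀ g : G, g ≠ 1 → ∀ α β : Ω, g • α = α → g • β = β → α = β) (α : Ω) :
    Cfsg.IsFrobeniusComplement (MulAction.stabilizer G α) ∧
      Cfsg.frobeniusKernel (MulAction.stabilizer G α) = {g : G | g = 1 ∨ ∀ ω : Ω, g • ω ≠ ω} := by
  set H := MulAction.stabilizer G α with hH
  have hconj : ∀ g x : G, x ∈ MulAut.conj g • H ↔ x • (g • α) = g • α := fun g x => by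
    rw [Cfsg.Agent.Frob.mem_smul_conj_iff, hH, MulAction.mem_stabilizer_iff, mul_smul, mul_smul, inv_smul_eq_iff]
  refine ⟨⟨?_, ?_, ?_⟩, ?_⟩
  · obtain ⟨g, hg1, β, hβ⟩ := hnreg
    obtain ⟨t, ht⟩ := htrans α β
    intro h
    have h1 : t⁻¹ * g * t ∈ H := by
      rw [hH, MulAction.mem_stabilizer_iff, mul_smul, mul_smul, ht, hβ, ← ht, inv_smul_smul]
    rw [h, Subgroup.mem_bot] at h1
    exact hg1 (by rw [show g = t * (t⁻¹ * g * t) * t⁻¹ by group, h1, mul_one, mul_inv_cancel])
  · intro h
    obtain ⟨β, hβ⟩ := Fintype.exists_ne_of_one_lt_card hΩ α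
    obtain ⟨t, ht⟩ := htrans α β
    have h1 : t ∈ H := h ▸ Subgroup.mem_top t
    exact hβ (ht.symm.trans h1)
  · intro g hg
    refine (Subgroup.eq_bot_iff_forall _).2 fun x hx => ?_
    by_contra hx1
    exact hg (hfix x hx1 α (g • α) hx.1 ((hconj g x).1 hx.2)).symm
  · ext x
    refine or_congr_right ⟨fun h ω hω => ?_, fun h g hg => h _ ((hconj g x).1 hg)⟩
    obtain ⟨t, ht⟩ := htrans α ω
    exact h t ((hconj t x).2 (by rw [ht, hω]))

end Cfsg.Agent.S4252
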