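import Cfsg.Statements.S3371
import Cfsg.Agent.S0016
import Cfsg.Agent.S3370
import Cfsg.Agent.Lib.Recog.NormalAbelianCyclic
import Cfsg.Agent.Lib.Grp.Frattini
import Cfsg.Agent.Lib.Grp.ThreeCountsTwo

set_option maxHeartbeats 1000000
set_option maxRecDepth 8000

set_option autoImplicit false
open Cfsg

namespace Cfsg.Agent.S3371

open Cfsg

section

variable {q : ℕ} [Fact q.Prime] {V : Type*} [AddCommGroup V] [Module (ZMod q) V]
  {G : Type*} [Group G] (ρ : G →* (V ≃ₗ[ZMod q] V))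

/-- The stabilizer of a vector. -/
def stab (v : V) : Subgroup G where
  carrier := {g | ρ g v = v}
  one_mem' := by simp
  mul_mem' {a b} (ha : ρ a v = v) (hb : ρ b v = v) := by
    show ρ (a * b) v = v
    rw [map_mul, LinearEquiv.mul_apply, hb, ha]
  inv_mem' {a} (ha : ρ a v = v) := by
    show ρ a⁻¹ v = v
    conv_lhs => rw [← ha]
    rw [← LinearEquiv.mul_apply, ← map_mul, inv_mul_cancel, map_one]
    rfl

theorem mem_stab {g : G} {v : V} : g ∈ stab ρ v ↔ ρ g v = v := Iff.rfl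

theorem mul_app (a b : G) (v : V) : ρ (a * b) v = ρ a (ρ b v) := by
  rw [map_mul, LinearEquiv.mul_apply]

theorem inv_app (a : G) (v : V) : ρ a⁻¹ (ρ a v) = v := by
  rw [← mul_app, inv_mul_cancel, map_one]; rfl

theorem app_inv (a : G) (v : V) : ρ a (ρ a⁻¹ v) = v := by
  rw [← mul_app, mul_inv_cancel, map_one]; rfl

theorem app_ne {v : V} (hv : v ≠ 0) (g : G) : ρ g v ≠ 0 := fun h => hv ((ρ g).map_eq_zero_iff.mp h)

theorem card_stab [Finite G] (v w : V)
    (h : Nat.card {u : V | ∃ g : G, ρ g v = u} = Nat.card {u : V | ∃ g : G, ρ g w = u}) :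
    Nat.card (stab ρ v) = Nat.card (stab ρ w) := by
  letI : MulAction G V := MulAction.compHom V ρ
  have key : ∀ x : V, (stab ρ x).index = Nat.card {u : V | ∃ g : G, ρ g x = u} := by
    intro x
    have h1 := MulAction.index_stabilizer G x
    rw [show MulAction.stabilizer G x = stab ρ x from rfl] at h1
    rw [h1, ← Nat.card_coe_set_eq]
    rfl
  have h2 := (stab ρ v).card_mul_index
  have h3 := (stab ρ w).card_mul_index
  rw [key] at h2 h3
  rw [← h, ← h2] at h3
  refine (Nat.eq_of_mul_eq_mul_right (Nat.pos_of_ne_zero fun h0 => ?_) h3).symm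
  rw [h0, mul_zero] at h2
  exact (Nat.card_pos (α := G)).ne h2

/-- The sum over the cyclic group generated by `c`. -/
def avg (p : ℕ) (c : G) (v : V) : V := ∑ k ∈ Finset.range p, ρ (c ^ k) v

theorem app_avg {p : ℕ} (hp : 0 < p) {c : G} (hc : c ^ p = 1) (v : V) :
    ρ c (avg ρ p c v) = avg ρ p c v := by
  obtain ⟨m, rfl⟩ := Nat.exists_eq_add_of_le' (Nat.one_le_of_lt hp)
  rw [avg, map_sum]
  rw [Finset.sum_range_succ (fun k => ρ c (ρ (c ^ k) v)), Finset.sum_range_succ' (fun k => ρ (c ^ k) v)]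
  congr 1
  · refine Finset.sum_congr rfl fun k _ => ?_
    rw [← mul_app, ← pow_succ']
  · rw [← mul_app, ← pow_succ', hc, pow_zero]

theorem avg_fixed {p : ℕ} {c : G} {v : V} (h : ρ c v = v) : avg ρ p c v = p • v := by
  rw [avg, Finset.sum_congr rfl (fun k _ => show ρ (c ^ k) v = v from (stab ρ v).pow_mem h k),
    Finset.sum_const, Finset.card_range]

theorem nsmul_p_ne {p : ℕ} [Fact p.Prime] (hqp : q ≠ p) {v : V} (hv : v ≠ 0) : p • v ≠ 0 := by
  rw [← Nat.cast_smul_eq_nsmul (ZMod q)]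
  refine smul_ne_zero (fun h => hqp ?_) hv
  rw [ZMod.natCast_eq_zero_iff] at h
  exact (Nat.prime_dvd_prime_iff_eq (Fact.out : q.Prime) (Fact.out : p.Prime)).mp h

theorem nsmul_p_inj {p : ℕ} [Fact p.Prime] (hqp : q ≠ p) {v w : V} (h : p • v = p • w) : v = w := by
  by_contra hne
  exact nsmul_p_ne hqp (sub_ne_zero.mpr hne) (by rw [nsmul_sub, h, sub_self])

theorem sum_avg {p : ℕ} [Fact p.Prime] {e z : G} (hez : Commute e z) (hzp : z ^ p = 1)
    (hfz : ∀ v : V, ρ z v = v → v = 0) (v : V) :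
    ∑ i ∈ Finset.range p, avg ρ p (e * z ^ i) v = p • v := by
  have hp : p.Prime := Fact.out
  simp only [avg]
  rw [Finset.sum_comm, ← Finset.add_sum_erase _ _ (Finset.mem_range.mpr hp.pos)]
  have h0 : ∑ i ∈ Finset.range p, ρ ((e * z ^ i) ^ 0) v = p • v := by simp
  rw [h0, add_eq_left]
  refine Finset.sum_eq_zero fun k hk => ?_
  obtain ⟨hk0, hk1⟩ : k ≠ 0 ∧ k < p := by simpa using hk
  have hzk : (z ^ k) ^ p = 1 := by rw [← pow_mul, mul_comm, pow_mul, hzp, one_pow]
  have h1 : ∀ i, ρ ((e * z ^ i) ^ k) v = ρ (e ^ k) (ρ ((z ^ k) ^ i) v) := fun i => by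
    rw [← mul_app, (hez.pow_right i).mul_pow, ← pow_mul, ← pow_mul, mul_comm i k]
  rw [Finset.sum_congr rfl fun i _ => h1 i, ← map_sum]
  have h2 : ρ (z ^ k) (avg ρ p (z ^ k) v) = avg ρ p (z ^ k) v := app_avg ρ hp.pos hzk v
  have h3 : z ^ k ∈ stab ρ (avg ρ p (z ^ k) v) := h2
  have hcop : k.Coprime p := (hp.coprime_iff_not_dvd.mpr
    (Nat.not_dvd_of_pos_of_lt (Nat.pos_of_ne_zero hk0) hk1)).symm
  obtain ⟨m, hm⟩ := exists_pow_eq_self_of_coprime (x := z)
    (hcop.coprime_dvd_right (orderOf_dvd_of_pow_eq_one hzp))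
  have h4' := Subgroup.pow_mem _ h3 m
  have h4 : z ∈ stab ρ (avg ρ p (z ^ k) v) := by rwa [hm] at h4'
  have h5 := hfz _ h4
  rw [avg] at h5
  rw [h5, map_zero]

/-- A group of order `p^2` and exponent `p` does not act freely. -/
theorem exists_fixed [Nontrivial V] {p : ℕ} [Fact p.Prime] (hqp : q ≠ p) {e z : G} (hez : Commute e z)
    (hep : e ^ p = 1) (hzp : z ^ p = 1) (hfz : ∀ v : V, ρ z v = v → v = 0) :
    ∃ i < p, ∃ v : V, v ≠ 0 ∧ ρ (e * z ^ i) v = v := by
  have hp : p.Prime := Fact.out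
  obtain ⟨v, hv⟩ := exists_ne (0 : V)
  by_contra hcon
  push Not at hcon
  refine nsmul_p_ne hqp hv ?_
  rw [← sum_avg ρ hez hzp hfz v]
  refine Finset.sum_eq_zero fun i hi => by_contra fun hne => ?_
  refine hcon i (Finset.mem_range.mp hi) _ hne (app_avg ρ hp.pos ?_ v)
  rw [(hez.pow_right i).mul_pow, hep, ← pow_mul, mul_comm, pow_mul, hzp, one_pow, one_mul]

/-- Two invariant summands with all stabilizers of the same size force a free action. -/
theorem free_of_central_fixed [Finite G] {p : ℕ} [Fact p.Prime] (hqp : q ≠ p) (hρ : Function.Injective ρ)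
    (heq : ∀ v w : V, v ≠ 0 → w ≠ 0 → Nat.card (stab ρ v) = Nat.card (stab ρ w)) {c : G}
    (hc1 : c ≠ 1) (hcp : c ^ p = 1) (hcz : ∀ g : G, g * c = c * g) {v0 : V} (hv0 : v0 ≠ 0)
    (hfix : ρ c v0 = v0) : ∀ v : V, v ≠ 0 → stab ρ v = ⊥ := by
  have hp : p.Prime := Fact.out
  set A : V → Prop := fun x => ρ c x = x with hA
  set B : V → Prop := fun x => avg ρ p c x = 0 with hB
  have hAinv : ∀ g x, A x → A (ρ g x) := fun g x hx => by
    simp only [hA] at hx ⊢
    rw [← mul_app, ← hcz, mul_app, hx]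
  have havg : ∀ g x, avg ρ p c (ρ g x) = ρ g (avg ρ p c x) := fun g x => by
    rw [avg, avg, map_sum]
    refine Finset.sum_congr rfl fun k _ => ?_
    rw [← mul_app, ← mul_app, ((show Commute g c from hcz g).pow_right k).eq]
  have hBinv : ∀ g x, B x → B (ρ g x) := fun g x hx => by
    simp only [hB] at hx ⊢
    rw [havg, hx, map_zero]
  have hadd : ∀ x y, avg ρ p c (x + y) = avg ρ p c x + avg ρ p c y := fun x y => by
    simp only [avg, map_add, Finset.sum_add_distrib]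
  have hAB : ∀ x, A x → B x → x = 0 := fun x ha hb => by
    simp only [hA, hB] at ha hb
    rw [avg_fixed ρ ha] at hb
    by_contra hx
    exact nsmul_p_ne hqp hx hb
  have hsum : ∀ x, ∃ a b, A a ∧ B b ∧ p • x = a + b := fun x => by
    refine ⟨avg ρ p c x, p • x - avg ρ p c x, app_avg ρ hp.pos hcp x, ?_, by abel⟩
    simp only [hB]
    have h1 := hadd (p • x - avg ρ p c x) (avg ρ p c x)
    rw [sub_add_cancel] at h1
    have h2 : avg ρ p c (avg ρ p c x) = p • avg ρ p c x := avg_fixed ρ (app_avg ρ hp.pos hcp x)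
    have h3 : avg ρ p c (p • x) = p • avg ρ p c x := by
      simp only [avg, map_nsmul, ← Finset.smul_sum]
    rw [h2, h3] at h1
    simpa using h1
  obtain ⟨w0, hw0, hw0'⟩ : ∃ w, w ≠ 0 ∧ B w := by
    by_contra hcon
    push Not at hcon
    refine hc1 (hρ (LinearEquiv.ext fun x => ?_))
    rw [map_one]
    obtain ⟨a, b, ha, hb, hab⟩ := hsum x
    have hb0 : b = 0 := by_contra fun h => hcon b h hb
    refine nsmul_p_inj hqp ?_
    show p • ρ c x = p • x
    rw [← map_nsmul, hab, hb0, add_zero]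
    exact ha
  have hpair : ∀ a b, A a → a ≠ 0 → B b → b ≠ 0 → stab ρ a = stab ρ b := by
    intro a b ha ha0 hb hb0
    have hne : a + b ≠ 0 := fun h => ha0 (hAB a ha (by
      have h1 := hadd a b
      simp only [hB] at hb ⊢
      rw [h, hb, add_zero] at h1
      rw [← h1]; simp [avg]))
    have hle : stab ρ (a + b) ≤ stab ρ a ⊓ stab ρ b := fun g hg => by
      rw [mem_stab, map_add] at hg
      have h1 : ρ g a - a = b - ρ g b := by
        rw [sub_eq_sub_iff_add_eq_add, hg, add_comm]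
      have h2 : ρ g a - a = 0 := hAB _ (by
        have := hAinv g a ha
        simp only [hA] at this ha ⊢
        rw [map_sub, this, ha]) (by
        rw [h1]
        have := hBinv g b hb
        simp only [hB] at this hb ⊢
        have h3 := hadd (b - ρ g b) (ρ g b)
        rw [sub_add_cancel, hb, this, add_zero] at h3
        exact h3.symm)
      refine ⟨sub_eq_zero.mp h2, ?_⟩
      rw [h2, eq_comm, sub_eq_zero] at h1
      exact h1.symm
    exact (Subgroup.eq_of_le_of_card_ge (hle.trans inf_le_left) (heq _ _ ha0 hne).le).symm.trans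
      (Subgroup.eq_of_le_of_card_ge (hle.trans inf_le_right) (heq _ _ hb0 hne).le)
  have hbot : stab ρ v0 = ⊥ := by
    refine (Subgroup.eq_bot_iff_forall _).mpr fun g hg => hρ (LinearEquiv.ext fun x => ?_)
    rw [map_one]
    obtain ⟨a, b, ha, hb, hab⟩ := hsum x
    refine nsmul_p_inj hqp ?_
    show p • ρ g x = p • x
    rw [← map_nsmul, hab, map_add]
    congr 1
    · by_cases ha0 : a = 0
      · rw [ha0, map_zero]
      · have h1 : g ∈ stab ρ a := by rwa [hpair a w0 ha ha0 hw0' hw0, ← hpair v0 w0 hfix hv0 hw0' hw0]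
        exact h1
    · by_cases hb0 : b = 0
      · rw [hb0, map_zero]
      · have h1 : g ∈ stab ρ b := by rwa [← hpair v0 b hfix hv0 hb hb0]
        exact h1
  intro v hv
  refine Subgroup.eq_bot_of_card_eq _ ?_
  rw [heq v v0 hv hv0, hbot, Subgroup.card_bot]

theorem cyclic_or_quaternion_of_free [Finite G] [Nontrivial V] {p : ℕ} [Fact p.Prime] (hG : IsPGroup p G)
    (hqp : q ≠ p) (hfree : ∀ v : V, v ≠ 0 → stab ρ v = ⊥) :
    IsCyclic G ∨ ∃ n : ℕ, Nonempty (G ≃* QuaternionGroup n) := by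
  have hp : p.Prime := Fact.out
  by_cases htriv : Subsingleton G
  · exact Or.inl inferInstance
  rw [not_subsingleton_iff_nontrivial] at htriv
  have hfp : ∀ g : G, g ≠ 1 → ∀ v : V, ρ g v = v → v = 0 := fun g hg v h => by
    by_contra hv
    exact hg (Subgroup.mem_bot.mp (hfree v hv ▸ (mem_stab ρ).mpr h))
  haveI := hG.center_nontrivial
  obtain ⟨⟨z, hz⟩, hzo⟩ := exists_prime_orderOf_dvd_card' (G := Subgroup.center G) p
    ((hG.to_subgroup _).card_eq_or_dvd.resolve_left Finite.one_lt_card.ne')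
  rw [Subgroup.orderOf_mk] at hzo
  have hz1 : z ≠ 1 := fun h => by rw [h, orderOf_one] at hzo; exact hp.ne_one hzo.symm
  have hzp : z ^ p = 1 := hzo ▸ pow_orderOf_eq_one z
  have huniq : ∀ H : Subgroup G, Nat.card H = p → H = Subgroup.zpowers z := by
    intro H hH
    obtain ⟨⟨e, heH⟩, heo⟩ := exists_prime_orderOf_dvd_card' (G := H) p (by rw [hH])
    rw [Subgroup.orderOf_mk] at heo
    by_contra hne
    have hez : Commute e z := Subgroup.mem_center_iff.mp hz e
    obtain ⟨i, -, v, hv, hfix⟩ := exists_fixed ρ hqp hez (heo ▸ pow_orderOf_eq_one e) hzp (hfp z hz1)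
    refine hv (hfp _ (fun h => hne ?_) v hfix)
    have he : e ∈ Subgroup.zpowers z := by
      rw [eq_inv_of_mul_eq_one_left h]
      exact inv_mem (pow_mem (Subgroup.mem_zpowers z) i)
    have h1 : Subgroup.zpowers e = Subgroup.zpowers z := Subgroup.eq_of_le_of_card_ge
      (Subgroup.zpowers_le.mpr he) (by rw [Nat.card_zpowers, Nat.card_zpowers, heo, hzo])
    rw [← h1]
    exact (Subgroup.eq_of_le_of_card_ge (Subgroup.zpowers_le.mpr heH)
      (by rw [Nat.card_zpowers, heo, hH])).symm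
  rcases Cfsg.Agent.S0016.result p hG (fun H K hH hK => (huniq H hH).trans (huniq K hK).symm) with h | ⟨-, n, h⟩
  · exact Or.inl h
  · exact Or.inr ⟨_, h⟩

theorem eq_one_of_pow_add_one' (hq2 : q ≠ 2) {h j : ℕ} (hh : 1 ≤ h) (e : q ^ h + 1 = 2 ^ j) : h = 1 :=
  Cfsg.Agent.S3370.eq_one_of_pow_add_one q h j Fact.out ((Fact.out : q.Prime).odd_of_ne_two hq2) hh e.symm

/-- The case of a cyclic subgroup of index two with involutions outside. -/
theorem reflection_case [Finite G] [Finite V] [Nontrivial V] (hρ : Function.Injective ρ) (hq2 : q ≠ 2)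
    (heq : ∀ v w : V, v ≠ 0 → w ≠ 0 → Nat.card (stab ρ v) = Nat.card (stab ρ w))
    {x y : G} {n : ℕ} (hn : 2 ≤ n) (hx : orderOf x = 2 ^ n) (hcard : Nat.card G = 2 ^ (n + 1))
    (hy : y ∉ Subgroup.zpowers x) (hy2 : y * y = 1) {r : ℤ} (hconj : y * x * y⁻¹ = x ^ r)
    (hr : ((2 : ℤ) ^ n) ∣ (1 - r) * 2 ^ (n - 2) - 2 ^ (n - 1))
    (hns : ¬ ∀ v : V, v ≠ 0 → stab ρ v = ⊥) (hzc : ∀ g : G, g * x ^ 2 ^ (n - 1) = x ^ 2 ^ (n - 1) * g)
    {J : ℕ} (hJ : Nat.card {t : G // t ∉ Subgroup.zpowers x ∧ t * t = 1} = 2 ^ J) :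
    Nat.card V = q ^ 2 ∧ q + 1 = 2 ^ J := by
  haveI : Fact (Nat.Prime 2) := ⟨Nat.prime_two⟩
  set z := x ^ 2 ^ (n - 1) with hz
  have hn1 : n - 1 + 1 = n := by omega
  have hzz : z ^ 2 = 1 := by
    rw [hz, ← pow_mul, ← pow_succ, hn1, ← hx, pow_orderOf_eq_one]
  have hz1 : z ≠ 1 := fun h => by
    have h1 := orderOf_dvd_of_pow_eq_one h
    rw [hx] at h1
    have := Nat.le_of_dvd (by positivity) h1
    have : 2 ^ (n - 1) < 2 ^ n := Nat.pow_lt_pow_right (by norm_num) (by omega)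
    omega
  have hqp : q ≠ 2 := hq2
  have hfz : ∀ v : V, ρ z v = v → v = 0 := fun v hv => by
    by_contra hv0
    exact hns (free_of_central_fixed ρ hqp hρ heq hz1 hzz hzc hv0 hv)
  have hidx : (Subgroup.zpowers x).index = 2 := by
    have h1 := (Subgroup.zpowers x).card_mul_index
    rw [Nat.card_zpowers, hx, hcard, pow_succ] at h1
    exact Nat.eq_of_mul_eq_mul_left (by positivity) h1
  have hmul : ∀ a b : G, a * b ∈ Subgroup.zpowers x ↔ (a ∈ Subgroup.zpowers x ↔ b ∈ Subgroup.zpowers x) :=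
    fun a b => Subgroup.mul_mem_iff_of_index_two hidx
  have hCfree : ∀ g ∈ Subgroup.zpowers x, g ≠ 1 → ∀ v : V, ρ g v = v → v = 0 := by
    intro g hg hg1 v hv
    refine hfz v ?_
    obtain ⟨k, hk⟩ := (IsPGroup.iff_orderOf.mp (IsPGroup.of_card (G := G) (p := 2) hcard) g)
    rcases k with _ | k
    · exact absurd (orderOf_eq_one_iff.mp (by simpa using hk)) hg1
    have hzo : orderOf z = 2 := orderOf_eq_prime hzz hz1
    have ho : orderOf (g ^ 2 ^ k) = 2 := by
      refine orderOf_eq_prime (by rw [← pow_mul, ← pow_succ, ← hk, pow_orderOf_eq_one]) fun h => ?_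
      have h1 := orderOf_dvd_of_pow_eq_one h
      rw [hk] at h1
      have := Nat.le_of_dvd (by positivity) h1
      have : 2 ^ k < 2 ^ (k + 1) := Nat.pow_lt_pow_right (by norm_num) (by omega)
      omega
    have he : Subgroup.zpowers (g ^ 2 ^ k) = Subgroup.zpowers z :=
      Cfsg.Agent.Grp.ThreeCounts.eq_of_card_cyclic (C := Subgroup.zpowers x) inferInstance (Subgroup.zpowers_le.mpr (pow_mem hg _))
        (Subgroup.zpowers_le.mpr (pow_mem (Subgroup.mem_zpowers x) _))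
        (by rw [Nat.card_zpowers, Nat.card_zpowers, ho, hzo])
    have h2 : z ∈ Subgroup.zpowers (g ^ 2 ^ k) := he ▸ Subgroup.mem_zpowers z
    exact (Subgroup.zpowers_le.mpr (Subgroup.pow_mem (stab ρ v) hv _)) h2
  let T := {t : G // t ∉ Subgroup.zpowers x ∧ t * t = 1}
  let F : T → Set V := fun t => {v : V | ρ t.1 v = v}
  -- every nonzero vector is fixed by exactly one element of `T`
  have hstab : ∀ v : V, v ≠ 0 → ∃! t : T, ρ t.1 v = v := by
    intro v hv
    have hne : stab ρ v ≠ ⊥ := fun h => hns fun w hw => Subgroup.eq_bot_of_card_eq _ (by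
      rw [heq w v hw hv, h, Subgroup.card_bot])
    obtain ⟨g, hg, hg1⟩ := (Subgroup.bot_or_exists_ne_one _).resolve_left hne
    have hgC : g ∉ Subgroup.zpowers x := fun h => hv (hCfree g h hg1 v hg)
    have hgg : g * g = 1 := by
      by_contra h
      exact hv (hCfree _ ((hmul g g).mpr Iff.rfl) h v ((stab ρ v).mul_mem hg hg))
    refine ⟨⟨g, hgC, hgg⟩, hg, fun t ht => Subtype.ext ?_⟩
    by_contra h
    refine hv (hCfree (t.1 * g) ((hmul _ _).mpr (iff_of_false t.2.1 hgC)) (fun e => h ?_) v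
      ((stab ρ v).mul_mem ht hg))
    exact (eq_inv_of_mul_eq_one_left e).trans (inv_eq_of_mul_eq_one_right hgg)
  have hcardF : ∀ t : T, Nat.card (F t) * Nat.card (F t) = Nat.card V := by
    rintro ⟨t, htC, htt⟩
    have htz : Commute t z := hzc t
    -- `t` is conjugate to `t * z`
    obtain ⟨g, hg⟩ : ∃ g : G, g * t * g⁻¹ = t * z := by
      refine ⟨x ^ (2 ^ (n - 2) : ℤ), ?_⟩
      obtain ⟨i, hi⟩ := Subgroup.mem_zpowers_iff.mp ((hmul t y).mpr (iff_of_false htC hy))
      have ht : t = x ^ i * y := by rw [hi, mul_assoc, hy2, mul_one]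
      have hyx : ∀ k : ℤ, y * x ^ k = x ^ (r * k) * y := fun k => by
        have := conj_zpow (a := y) (b := x) (i := k)
        rw [hconj, ← zpow_mul] at this
        rw [← mul_inv_eq_iff_eq_mul.mp (this.symm)]
      have hzt : t * z = z * t := htz.eq
      rw [hzt, ht, ← zpow_neg, ← mul_assoc, mul_assoc (x ^ (2 ^ (n - 2) : ℤ) * x ^ i), hyx, ← mul_assoc,
        ← zpow_add, ← zpow_add, hz, ← zpow_natCast, ← mul_assoc, ← zpow_add]
      congr 1
      rw [zpow_eq_zpow_iff_modEq, hx, Int.modEq_iff_dvd]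
      push_cast
      obtain ⟨d, hd⟩ := hr
      exact ⟨-d, by linear_combination -hd⟩
    let π : F ⟨t, htC, htt⟩ × F ⟨t, htC, htt⟩ → V := fun a => a.1.1 + ρ g a.2.1
    have htz2 : ∀ a : F ⟨t, htC, htt⟩, ρ (t * z) (ρ g a.1) = ρ g a.1 := fun a => by
      rw [← hg, ← mul_app, inv_mul_cancel_right, mul_app]
      exact congrArg (ρ g) a.2
    have havg : ∀ v : V, avg ρ 2 t v = v + ρ t v := fun v => by simp [avg, Finset.sum_range_succ]
    have hzneg : ∀ v : V, ρ z v = -v := fun v => by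
      refine eq_neg_of_add_eq_zero_left (hfz _ ?_)
      rw [map_add, ← mul_app, ← pow_two, hzz, map_one, add_comm]; rfl
    refine (Nat.card_prod _ _).symm.trans (Nat.card_eq_of_bijective π ⟨?_, ?_⟩)
    · intro a b hab
      have hab' : a.1.1 + ρ g a.2.1 = b.1.1 + ρ g b.2.1 := hab
      have h1 := congrArg (avg ρ 2 t) hab'
      have hneg : ∀ c : F ⟨t, htC, htt⟩, ρ t (ρ g c.1) = - ρ g c.1 := fun c => by
        have := htz2 c
        rw [mul_app, hzneg, map_neg, neg_eq_iff_eq_neg] at this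
        exact this
      simp only [havg, map_add, hneg, show ∀ c : F ⟨t, htC, htt⟩, ρ t c.1 = c.1 from fun c => c.2] at h1
      have h2 : a.1.1 = b.1.1 := nsmul_p_inj (p := 2) hqp (by
        simp only [two_nsmul]
        linear_combination (norm := abel) h1)
      refine Prod.ext (Subtype.ext h2) (Subtype.ext ((ρ g).injective ?_))
      rw [h2] at hab'
      exact add_left_cancel hab'
    · intro v
      have htinv : (t * z) * (t * z) = 1 := by
        rw [show t * z * (t * z) = t * z * (z * t) by rw [htz.eq], mul_assoc, ← mul_assoc z, ← pow_two z, hzz, one_mul, htt]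
      obtain ⟨v', rfl⟩ : ∃ v', 2 • v' = v := by
        refine ⟨((2 : ℕ) : ZMod q)⁻¹ • v, ?_⟩
        rw [← Nat.cast_smul_eq_nsmul (ZMod q), smul_smul, mul_inv_cancel₀, one_smul]
        intro h
        rw [ZMod.natCast_eq_zero_iff] at h
        exact hqp ((Nat.prime_dvd_prime_iff_eq (Fact.out : q.Prime) Nat.prime_two).mp h)
      refine ⟨⟨⟨avg ρ 2 t v', app_avg ρ two_pos (by rw [pow_two, htt]) v'⟩,
        ⟨ρ g⁻¹ (avg ρ 2 (t * z) v'), ?_⟩⟩, ?_⟩
      · show ρ t _ = _
        have h3 := app_avg ρ two_pos (show (t * z) ^ 2 = 1 by rw [pow_two, htinv]) v'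
        conv_rhs => rw [← h3, ← mul_app, ← hg]
        rw [← mul_app, show g⁻¹ * (g * t * g⁻¹) = t * g⁻¹ by group, hg]
      · show avg ρ 2 t v' + ρ g (ρ g⁻¹ (avg ρ 2 (t * z) v')) = 2 • v'
        rw [app_inv, ← sum_avg ρ htz hzz hfz v']
        simp [Finset.sum_range_succ]
  obtain ⟨d, hd⟩ : ∃ d, Nat.card V = q ^ d := ⟨Module.finrank (ZMod q) V, by
    haveI : Module.Finite (ZMod q) V := Module.Finite.of_finite
    rw [Module.natCard_eq_pow_finrank (K := ZMod q), Nat.card_zmod]⟩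
  have hFpow : ∀ t : T, ∃ h, Nat.card (F t) = q ^ h ∧ 2 * h = d := fun t => by
    have h1 := hcardF t
    rw [hd] at h1
    obtain ⟨h, -, hh⟩ := (Nat.dvd_prime_pow (Fact.out : q.Prime)).mp (Dvd.intro _ h1)
    refine ⟨h, hh, ?_⟩
    rw [hh, ← pow_add] at h1
    rw [two_mul]
    exact Nat.pow_right_injective (Fact.out : q.Prime).two_le h1
  obtain ⟨v1, hv1⟩ := exists_ne (0 : V)
  obtain ⟨t1, -, -⟩ := hstab v1 hv1
  obtain ⟨h, -, hhd⟩ := hFpow t1
  -- partition of the nonzero vectors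
  have hpart : Nat.card V - 1 = Nat.card T * (q ^ h - 1) := by
    classical
    haveI := Fintype.ofFinite V
    have e : (Σ t : T, {v : V // v ≠ 0 ∧ ρ t.1 v = v}) ≃ {v : V // v ≠ 0} :=
      Equiv.ofBijective (fun a => ⟨a.2.1, a.2.2.1⟩) ⟨fun a b hab => by
        obtain ⟨ta, va, hva, hta⟩ := a
        obtain ⟨tb, vb, hvb, htb⟩ := b
        have hv : va = vb := congrArg Subtype.val hab
        subst hv
        obtain rfl : ta = tb := (hstab va hva).unique hta htb
        rfl, fun v => by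
        obtain ⟨t, ht, -⟩ := hstab v.1 v.2
        exact ⟨⟨t, v.1, v.2, ht⟩, rfl⟩⟩
    have h1 := Nat.card_congr e
    haveI := Fintype.ofFinite T
    rw [Nat.card_sigma] at h1
    have h2 : Nat.card {v : V // v ≠ 0} = Nat.card V - 1 := by
      rw [Nat.card_eq_fintype_card, Nat.card_eq_fintype_card, Fintype.card_subtype_compl, Fintype.card_subtype_eq]
    have h3 : ∀ t : T, Nat.card {v : V // v ≠ 0 ∧ ρ t.1 v = v} = q ^ h - 1 := fun t => by
      obtain ⟨h', hh', hd'⟩ := hFpow t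
      obtain rfl : h' = h := by omega
      have h4 : {v : V | v ≠ 0 ∧ ρ t.1 v = v} = F t \ {0} := by
        ext v; simp [F, and_comm]
      show Nat.card {v : V | v ≠ 0 ∧ ρ t.1 v = v} = _
      rw [h4, Nat.card_coe_set_eq, Set.ncard_sdiff_singleton_of_mem (show (0 : V) ∈ F t from map_zero _), ← Nat.card_coe_set_eq, hh']
    rw [Finset.sum_congr rfl (fun t _ => h3 t), Finset.sum_const, smul_eq_mul, Finset.card_univ,
      ← Nat.card_eq_fintype_card, h2] at h1
    exact h1.symm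
  have hd0 : 1 ≤ d := by
    rcases Nat.eq_zero_or_pos d with h0 | h0
    · have : 1 < Nat.card V := Finite.one_lt_card
      rw [hd, h0, pow_zero] at this; omega
    · exact h0
  have hh1 : 1 ≤ h := by omega
  have hq3 : 2 ≤ q ^ h := (Fact.out : q.Prime).two_le.trans (Nat.le_self_pow (by omega) q)
  have hTe : q ^ h + 1 = 2 ^ J := by
    rw [← hJ]
    show q ^ h + 1 = Nat.card T
    rw [hd, ← hhd, two_mul, pow_add] at hpart
    refine Nat.eq_of_mul_eq_mul_right (show 0 < q ^ h - 1 by omega) ?_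
    rw [← hpart, Nat.mul_sub, Nat.add_mul, mul_one, one_mul]
    omega
  obtain rfl := eq_one_of_pow_add_one' hq2 hh1 hTe
  exact ⟨by rw [hd, ← hhd], by rwa [pow_one] at hTe⟩

end

section

theorem fermat_cases {q d a : ℕ} (hq : q.Prime) (hq2 : q ≠ 2) (h : 2 ^ a + 1 = q ^ d) : d = 1 ∨ (q = 3 ∧ d = 2) := by
  have hodd := hq.odd_of_ne_two hq2
  rcases Nat.even_or_odd d with ⟨m, hm⟩ | hdo
  · right
    rw [hm, pow_add] at h
    have hge : 1 ≤ q ^ m := Nat.one_le_pow _ _ hq.pos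
    obtain ⟨r, hr⟩ : ∃ r, q ^ m = r + 1 := ⟨q ^ m - 1, by omega⟩
    have hfac : r * (r + 2) = 2 ^ a := by
      rw [hr] at h
      have : (r + 1) * (r + 1) = r * (r + 2) + 1 := by ring
      omega
    obtain ⟨i, -, hi⟩ := (Nat.dvd_prime_pow Nat.prime_two).mp (Dvd.intro _ hfac : r ∣ 2 ^ a)
    obtain ⟨j, -, hj⟩ := (Nat.dvd_prime_pow Nat.prime_two).mp (Dvd.intro_left _ hfac : r + 2 ∣ 2 ^ a)
    have hro : Odd (q ^ m) := hodd.pow
    have hval : q ^ m = 3 := by
      rw [Nat.odd_iff] at hro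
      rcases i with _ | _ | i
      · simp at hi; omega
      · simp at hi; omega
      · exfalso
        rw [pow_succ, pow_succ] at hi
        have := Nat.one_le_two_pow (n := i)
        rcases j with _ | _ | j
        · rw [pow_zero] at hj; omega
        · rw [zero_add, pow_one] at hj; omega
        · rw [pow_succ, pow_succ] at hj
          omega
    have hm0 : m ≠ 0 := fun h0 => by rw [h0, pow_zero] at hval; omega
    have hq3 : q = 3 := (Nat.prime_dvd_prime_iff_eq hq Nat.prime_three).mp (hval ▸ dvd_pow_self q hm0)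
    subst hq3
    exact ⟨rfl, by rw [hm, Nat.pow_right_injective (le_refl 2 |>.trans (by norm_num)) (hval.trans (pow_one 3).symm)]⟩
  · left
    have hg := geom_sum_mul (q : ℤ) d
    set c := ∑ i ∈ Finset.range d, q ^ i with hc
    have hq1 : 1 ≤ q := hq.pos
    have hceq : c * (q - 1) = 2 ^ a := by
      have hcast : ((c * (q - 1) : ℕ) : ℤ) = ((2 ^ a : ℕ) : ℤ) := by
        have h' : ((2 : ℤ) ^ a + 1) = (q : ℤ) ^ d := by exact_mod_cast h
        rw [hc]; push_cast [Nat.cast_sub hq1]; linarith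
      exact_mod_cast hcast
    have hcodd : Odd c := by
      rw [hc, Finset.odd_sum_iff_odd_card_odd, Finset.filter_true_of_mem (fun i _ => hodd.pow), Finset.card_range]
      exact hdo
    obtain ⟨i, -, hi⟩ := (Nat.dvd_prime_pow Nat.prime_two).mp (hceq ▸ dvd_mul_right _ _ : c ∣ 2 ^ a)
    have hc1 : c = 1 := by
      rcases i with _ | i
      · simpa using hi
      · exfalso
        rw [hi, Nat.odd_iff, pow_succ] at hcodd
        omega
    by_contra hne
    have hd1 : 0 < d := hdo.pos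
    have : q ^ 1 ≤ c := Finset.single_le_sum (f := fun i => q ^ i) (fun i _ => Nat.zero_le _) (Finset.mem_range.mpr (by omega))
    rw [pow_one] at this
    have := hq.two_le
    omega

variable {q : ℕ} [Fact q.Prime] {V : Type*} [AddCommGroup V] [Module (ZMod q) V]
  {G : Type*} [Group G] (ρ : G →* (V ≃ₗ[ZMod q] V))

theorem monomial_case [Finite G] [Finite V] (hρ : Function.Injective ρ)
    (heq : ∀ v w : V, v ≠ 0 → w ≠ 0 → Nat.card (stab ρ v) = Nat.card (stab ρ w)) {a0 a1 : V}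
    (hli : LinearIndependent (ZMod q) ![a0, a1]) (hcard : Nat.card V = q ^ 2)
    (hd : ∀ g : G, (∃ α β : ZMod q, ρ g a0 = α • a0 ∧ ρ g a1 = β • a1) ∨
      (∃ α β : ZMod q, ρ g a0 = α • a1 ∧ ρ g a1 = β • a0))
    (htr : ∀ α : ZMod q, α ≠ 0 → ∃ g, ρ g a0 = α • a0) {g : G} (hg0 : ρ g a0 = a0) (hg1 : ρ g a1 = -a1)
    (hq2 : q ≠ 2 := by assumption) :
    ∃ ε : V ≃ₗ[ZMod q] (Fin 2 → ZMod q), ∀ f : (Fin 2 → ZMod q) ≃ₗ[ZMod q] (Fin 2 → ZMod q),
        (∃ g : G, f = ε.symm.trans ((ρ g).trans ε)) ↔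
        ∃ a s : ZMod q, a ≠ 0 ∧ (s = 1 ∨ s = -1) ∧
          ((∀ v, f v = ![a * v 0, s * a⁻¹ * v 1]) ∨ (∀ v, f v = ![s * a⁻¹ * v 1, a * v 0])) := by
  classical
  haveI : Module.Finite (ZMod q) V := Module.Finite.of_finite
  have hfr : Module.finrank (ZMod q) V = 2 := by
    have h := Module.natCard_eq_pow_finrank (K := ZMod q) (V := V)
    rw [hcard, Nat.card_zmod] at h
    exact (Nat.pow_right_injective (Fact.out : q.Prime).two_le h).symm
  let b := basisOfLinearIndependentOfCardEqFinrank hli (by rw [Fintype.card_fin, hfr])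
  have hb : ⇑b = ![a0, a1] := coe_basisOfLinearIndependentOfCardEqFinrank hli _
  have hext : ∀ g h : G, ρ g a0 = ρ h a0 → ρ g a1 = ρ h a1 → g = h := fun g h e0 e1 => hρ (by
    apply LinearEquiv.toLinearMap_injective
    refine b.ext fun i => ?_
    fin_cases i <;> simp [hb, e0, e1])
  have hcoef : ∀ s t s' t' : ZMod q, s • a0 + t • a1 = s' • a0 + t' • a1 → s = s' ∧ t = t' := fun s t s' t' h => by
    obtain ⟨h1, h2⟩ := LinearIndependent.pair_iff.mp hli (s - s') (t - t') (by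
      rw [sub_smul, sub_smul]; linear_combination (norm := abel) h)
    exact ⟨sub_eq_zero.mp h1, sub_eq_zero.mp h2⟩
  have h0 : a0 ≠ 0 := by simpa using hli.ne_zero 0
  have h1 : a1 ≠ 0 := by simpa using hli.ne_zero 1
  have hne : g ≠ 1 := fun h => by
    rw [h, map_one] at hg1
    have h2 : (2 : ZMod q) • a1 = 0 := by
      rw [two_smul]; exact eq_neg_iff_add_eq_zero.mp hg1
    refine hq2 ((Nat.prime_dvd_prime_iff_eq (Fact.out : q.Prime) Nat.prime_two).mp
      ((ZMod.natCast_eq_zero_iff _ _).mp ?_))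
    exact_mod_cast (smul_eq_zero.mp h2).resolve_right h1
  -- stabilizer of `a0 + c • a1`
  have key : ∀ c : ZMod q, c ≠ 0 → ∀ x : G, ρ x (a0 + c • a1) = a0 + c • a1 →
      x = 1 ∨ (ρ x a0 = c • a1 ∧ ρ x a1 = c⁻¹ • a0) := by
    intro c hc x hx
    rw [map_add, map_smul] at hx
    rcases hd x with ⟨α, β, e0, e1⟩ | ⟨α, β, e0, e1⟩ <;> rw [e0, e1, smul_smul] at hx
    · obtain ⟨hα, hβ⟩ := hcoef α (c * β) 1 c (by rw [one_smul]; exact hx)
      refine Or.inl (hext x 1 ?_ ?_) <;> rw [map_one]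
      · rw [e0, hα, one_smul]; rfl
      · rw [e1, mul_right_eq_self₀.mp hβ |>.resolve_right hc, one_smul]; rfl
    · obtain ⟨hβ, hα⟩ := hcoef (c * β) α 1 c (by rw [one_smul, add_comm, hx])
      exact Or.inr ⟨by rw [e0, hα], by rw [e1, eq_inv_of_mul_eq_one_right hβ]⟩
  have hge : 2 ≤ Nat.card (stab ρ a0) := by
    haveI : Nontrivial (stab ρ a0) := ⟨⟨g, hg0⟩, 1, fun h => hne (congrArg Subtype.val h)⟩
    exact Finite.one_lt_card
  have hneq : ∀ c : ZMod q, a0 + c • a1 ≠ 0 := fun c h => by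
    exact one_ne_zero (hcoef 1 c 0 0 (by rw [one_smul, h, zero_smul, zero_smul, add_zero])).1
  have hT : ∀ c : ZMod q, c ≠ 0 → ∃ t, ρ t a0 = c • a1 ∧ ρ t a1 = c⁻¹ • a0 := by
    intro c hc
    rw [heq a0 _ h0 (hneq c)] at hge
    haveI : Nontrivial (stab ρ (a0 + c • a1)) := Finite.one_lt_card_iff_nontrivial.mp hge
    obtain ⟨⟨x, hx⟩, hx1⟩ := exists_ne (1 : stab ρ (a0 + c • a1))
    exact ⟨x, (key c hc x hx).resolve_left fun h => hx1 (Subtype.ext h)⟩
  have hS : ∀ x, ρ x a0 = a0 → x = 1 ∨ x = g := by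
    intro x hx
    by_contra hcon
    push Not at hcon
    obtain ⟨t, ht0, ht1⟩ := hT 1 one_ne_zero
    have hle : Nat.card (stab ρ (a0 + (1 : ZMod q) • a1)) ≤ 2 := by
      have hsub : ((stab ρ (a0 + (1 : ZMod q) • a1) : Subgroup G) : Set G) ⊆ {1, t} := fun y hy => by
        rcases key 1 one_ne_zero y hy with h | ⟨e0, e1⟩
        · exact Or.inl h
        · exact Or.inr (hext y t (e0.trans ht0.symm) (e1.trans ht1.symm))
      refine (le_of_eq (Nat.card_coe_set_eq _)).trans ((Set.ncard_le_ncard hsub).trans ?_)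
      exact (Set.ncard_insert_le _ _).trans (by rw [Set.ncard_singleton])
    have h3 : 3 ≤ Nat.card (stab ρ a0) := by
      have hsub : ({1, g, x} : Set G) ⊆ ((stab ρ a0 : Subgroup G) : Set G) := by
        rintro y (rfl | rfl | rfl)
        · exact one_mem _
        · exact hg0
        · exact hx
      have hc : ({1, g, x} : Set G).ncard = 3 :=
        Set.ncard_eq_three.mpr ⟨1, g, x, hne.symm, fun h => hcon.1 h.symm, fun h => hcon.2 h.symm, rfl⟩
      rw [← hc]
      exact (Set.ncard_le_ncard hsub).trans (le_of_eq (Nat.card_coe_set_eq _).symm)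
    rw [heq a0 _ h0 (hneq 1)] at h3
    omega
  obtain ⟨t, ht0, ht1⟩ := hT 1 one_ne_zero
  simp only [one_smul, inv_one] at ht0 ht1
  have hdiag : ∀ x (α β : ZMod q), ρ x a0 = α • a0 → ρ x a1 = β • a1 → α ≠ 0 ∧ (β = α⁻¹ ∨ β = -α⁻¹) := by
    intro x α β e0 e1
    have hα : α ≠ 0 := fun h => app_ne ρ h0 x (by rw [e0, h, zero_smul])
    obtain ⟨u, hu0, hu1⟩ := hT α⁻¹ (inv_ne_zero hα)
    rw [inv_inv] at hu1
    have m0 : ρ (u * t) a0 = α • a0 := by rw [mul_app, ht0, hu1]
    have m1 : ρ (u * t) a1 = α⁻¹ • a1 := by rw [mul_app, ht1, hu0]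
    have h2 : ρ ((u * t)⁻¹ * x) a0 = a0 := by rw [mul_app, e0, ← m0, inv_app]
    refine ⟨hα, ?_⟩
    rcases hS _ h2 with h | h <;> rw [inv_mul_eq_iff_eq_mul] at h <;> subst h
    · rw [mul_one, m1] at e1
      exact Or.inl (smul_left_injective _ h1 e1.symm)
    · rw [mul_app, hg1, map_neg, m1, ← neg_smul] at e1
      exact Or.inr (smul_left_injective _ h1 e1.symm)
  let ε := b.equivFun
  have hsy : ∀ v : Fin 2 → ZMod q, ε.symm v = v 0 • a0 + v 1 • a1 := fun v => by
    rw [Module.Basis.equivFun_symm_apply, Fin.sum_univ_two, hb]; rfl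
  have hε : ∀ s t : ZMod q, ε (s • a0 + t • a1) = ![s, t] := fun s t => by
    have := congrArg ε (hsy ![s, t])
    rw [LinearEquiv.apply_symm_apply] at this
    simpa using this.symm
  have happ : ∀ (x : G) (v : Fin 2 → ZMod q), (ε.symm.trans ((ρ x).trans ε)) v = ε (v 0 • ρ x a0 + v 1 • ρ x a1) := by
    intro x v
    rw [LinearEquiv.trans_apply, LinearEquiv.trans_apply, hsy, map_add, map_smul, map_smul]
  refine ⟨ε, fun f => ⟨?_, ?_⟩⟩
  · rintro ⟨x, rfl⟩
    rcases hd x with ⟨α, β, e0, e1⟩ | ⟨α, β, e0, e1⟩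
    · obtain ⟨hα, hβ⟩ := hdiag x α β e0 e1
      have hv : ∀ v : Fin 2 → ZMod q, (ε.symm.trans ((ρ x).trans ε)) v = ![α * v 0, β * v 1] := fun v => by
        rw [happ, e0, e1, smul_smul, smul_smul, hε, mul_comm, mul_comm (v 1)]
      rcases hβ with hβ | hβ
      · exact ⟨α, 1, hα, Or.inl rfl, Or.inl fun v => by rw [hv, hβ, one_mul]⟩
      · exact ⟨α, -1, hα, Or.inr rfl, Or.inl fun v => by rw [hv, hβ, neg_one_mul]⟩
    · have f0 : ρ (x * t) a0 = β • a0 := by rw [mul_app, ht0, e1]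
      have f1 : ρ (x * t) a1 = α • a1 := by rw [mul_app, ht1, e0]
      obtain ⟨hβ, hα⟩ := hdiag _ β α f0 f1
      have hv : ∀ v : Fin 2 → ZMod q, (ε.symm.trans ((ρ x).trans ε)) v = ![β * v 1, α * v 0] := fun v => by
        rw [happ, e0, e1, smul_smul, smul_smul, add_comm, hε, mul_comm, mul_comm (v 0)]
      rcases hα with hα | hα
      · refine ⟨α, 1, hα ▸ inv_ne_zero hβ, Or.inl rfl, Or.inr fun v => ?_⟩
        rw [hv, hα, inv_inv, one_mul]
      · refine ⟨α, -1, hα ▸ neg_ne_zero.mpr (inv_ne_zero hβ), Or.inr rfl, Or.inr fun v => ?_⟩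
        rw [hv, hα, inv_neg, inv_inv, neg_one_mul, neg_neg]
  · rintro ⟨a, s, ha, hs, h⟩
    obtain ⟨u, hu0, hu1⟩ := hT a⁻¹ (inv_ne_zero ha)
    rw [inv_inv] at hu1
    obtain ⟨w, hw0, hw1⟩ := hT (s * a) (mul_ne_zero (by rcases hs with rfl | rfl <;> simp) ha)
    rcases h with h | h
    · -- diagonal
      rcases hs with rfl | rfl
      · refine ⟨u * t, LinearEquiv.ext fun v => ?_⟩
        rw [happ, mul_app, ht0, hu1, mul_app, ht1, hu0, smul_smul, smul_smul, hε, h, one_mul, mul_comm, mul_comm (v 1)]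
      · refine ⟨u * t * g, LinearEquiv.ext fun v => ?_⟩
        rw [happ, mul_app, hg0, mul_app, ht0, hu1, mul_app ρ (u * t) g, hg1, map_neg, mul_app, ht1, hu0, ← neg_smul, smul_smul,
          smul_smul, hε, h, neg_one_mul, mul_comm, mul_comm (v 1)]
    · rcases hs with rfl | rfl
      · rw [one_mul] at hw0 hw1
        refine ⟨w, LinearEquiv.ext fun v => ?_⟩
        rw [happ, hw0, hw1, smul_smul, smul_smul, add_comm, hε, h, one_mul, mul_comm, mul_comm (v 0)]
      · rw [neg_one_mul] at hw0 hw1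
        refine ⟨g * w, LinearEquiv.ext fun v => ?_⟩
        rw [happ, mul_app, hw0, mul_app, hw1, map_smul, map_smul, hg0, hg1, smul_neg, ← neg_smul, neg_neg,
          smul_smul, smul_smul, add_comm, hε, h, inv_neg, neg_one_mul, mul_comm, mul_comm (v 0)]

end

section

theorem exists_pair {G : Type*} [Group G] [Finite G] {p : ℕ} [Fact p.Prime] (hG : IsPGroup p G)
    (A : Subgroup G) (hA : A.Normal) (hAc : IsMulCommutative A) (hAn : ¬ IsCyclic A) :
    ∃ z e : G, orderOf z = p ∧ (∀ g, g * z = z * g) ∧ e ^ p = 1 ∧ e ∉ Subgroup.zpowers z ∧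
      ∀ g : G, ∃ i : ℕ, g * e * g⁻¹ = e * z ^ i := by
  have hp : p.Prime := Fact.out
  haveI := hG.isNilpotent
  have hcomm : ∀ a ∈ A, ∀ b ∈ A, Commute a b := fun a ha b hb =>
    congrArg Subtype.val (hAc.is_comm.comm ⟨a, ha⟩ ⟨b, hb⟩)
  let W : Subgroup G :=
    { carrier := {a | a ∈ A ∧ a ^ p = 1}
      one_mem' := ⟨one_mem _, one_pow _⟩
      mul_mem' := fun {a b} ha hb => ⟨mul_mem ha.1 hb.1, by rw [(hcomm a ha.1 b hb.1).mul_pow, ha.2, hb.2, one_mul]⟩
      inv_mem' := fun {a} ha => ⟨inv_mem ha.1, by rw [inv_pow, ha.2, inv_one]⟩ }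
  have hWn : W.Normal := ⟨fun a ha g => ⟨hA.conj_mem a ha.1 g, by rw [conj_pow, ha.2, mul_one, mul_inv_cancel]⟩⟩
  have hW1 : ∀ z : G, orderOf z = p → ∃ w ∈ W, w ∉ Subgroup.zpowers z := by
    intro z hz
    by_contra hcon
    push Not at hcon
    refine hAn ?_
    have huq : ∀ H K : Subgroup A, Nat.card H = p → Nat.card K = p → H = K := by
      intro H K hH hK
      have aux : ∀ L : Subgroup A, Nat.card L = p → L.map A.subtype = Subgroup.zpowers z := fun L hL => by
        have hL' : Nat.card (L.map A.subtype) = p := by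
          rw [Nat.card_congr (L.equivMapOfInjective _ A.subtype_injective).toEquiv.symm, hL]
        refine Subgroup.eq_of_le_of_card_ge (fun a ha => hcon a ⟨Subgroup.map_subtype_le L ha, ?_⟩) ?_
        · exact orderOf_dvd_iff_pow_eq_one.mp (hL' ▸ Subgroup.orderOf_dvd_natCard _ ha)
        · rw [hL', Nat.card_zpowers, hz]
      exact Subgroup.map_injective A.subtype_injective ((aux H hH).trans (aux K hK).symm)
    rcases Cfsg.Agent.S0016.result p (hG.to_subgroup A) huq with h | ⟨-, n, ⟨f⟩⟩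
    · exact h
    · rcases n with _ | n
      · haveI : IsCyclic (QuaternionGroup (2 ^ 0)) := by
          rw [pow_zero]; exact QuaternionGroup.quaternionGroup_one_isCyclic
        exact f.isCyclic.mpr inferInstance
      · exfalso
        haveI : NeZero (2 ^ (n + 1)) := ⟨by positivity⟩
        have h1 := congrArg f (hAc.is_comm.comm (f.symm (QuaternionGroup.a 1)) (f.symm (QuaternionGroup.xa 0)))
        rw [map_mul, map_mul, f.apply_symm_apply, f.apply_symm_apply, QuaternionGroup.a_mul_xa,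
          QuaternionGroup.xa_mul_a, zero_sub, zero_add] at h1
        have h2 : (-1 : ZMod (2 * 2 ^ (n + 1))) = 1 := QuaternionGroup.xa.inj h1
        have h3 : ((2 : ℕ) : ZMod (2 * 2 ^ (n + 1))) = 0 := by
          push_cast; linear_combination -h2
        rw [ZMod.natCast_eq_zero_iff] at h3
        have := Nat.le_of_dvd two_pos h3
        have : 2 ^ 1 ≤ 2 ^ (n + 1) := Nat.pow_le_pow_right two_pos (by omega)
        omega
  obtain ⟨z, hzW, hzo, hzc⟩ : ∃ z ∈ W, orderOf z = p ∧ ∀ g, g * z = z * g := by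
    have hne : W ≠ ⊥ := fun h => by
      refine hAn ?_
      haveI : Subsingleton A := by
        refine ⟨fun a b => ?_⟩
        have hall : ∀ a : A, a = 1 := fun a => by
          by_contra ha
          obtain ⟨k, hk⟩ := IsPGroup.iff_orderOf.mp hG (a : G)
          rcases k with _ | k
          · exact ha (Subtype.ext (orderOf_eq_one_iff.mp (by simpa using hk)))
          have h1 : (a : G) ^ p ^ k ∈ W := ⟨pow_mem a.2 _, by rw [← pow_mul, ← pow_succ, ← hk, pow_orderOf_eq_one]⟩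
          rw [h, Subgroup.mem_bot] at h1
          have h2 := Nat.le_of_dvd (pow_pos hp.pos _) (hk ▸ orderOf_dvd_of_pow_eq_one h1)
          exact absurd h2 (not_le.mpr (Nat.pow_lt_pow_right hp.one_lt (Nat.lt_succ_self k)))
        rw [hall a, hall b]
      infer_instance
    obtain ⟨z, hz, hz1⟩ := (Subgroup.bot_or_exists_ne_one _).resolve_left
      (Cfsg.Agent.Grp.inf_center_ne_bot W hne)
    exact ⟨z, hz.1, orderOf_eq_prime hz.1.2 hz1, fun g => Subgroup.mem_center_iff.mp hz.2 g⟩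
  have hZn : (Subgroup.zpowers z).Normal := ⟨fun a ha g => by
    obtain ⟨i, rfl⟩ := Subgroup.mem_zpowers_iff.mp ha
    have h : Commute g (z ^ i) := (show Commute g z from hzc g).zpow_right i
    rw [h.eq, mul_inv_cancel_right]
    exact ha⟩
  obtain ⟨w, hw, hwz⟩ := hW1 z hzo
  haveI : (W.map (QuotientGroup.mk' (Subgroup.zpowers z))).Normal :=
    Subgroup.Normal.map hWn _ (QuotientGroup.mk'_surjective _)
  haveI : Group.IsNilpotent (G ⧸ Subgroup.zpowers z) :=
    (hG.to_quotient _).isNilpotent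
  obtain ⟨e', he', he1⟩ := (Subgroup.bot_or_exists_ne_one _).resolve_left
    (Cfsg.Agent.Grp.inf_center_ne_bot (W.map (QuotientGroup.mk' (Subgroup.zpowers z))) (fun h => hwz (by
      have := Subgroup.mem_map_of_mem (QuotientGroup.mk' (Subgroup.zpowers z)) hw
      rwa [h, Subgroup.mem_bot, QuotientGroup.mk'_apply, QuotientGroup.eq_one_iff] at this)))
  obtain ⟨⟨e, heW, rfl⟩, hec⟩ := he'
  refine ⟨z, e, hzo, hzc, heW.2, fun h => he1 ((QuotientGroup.eq_one_iff _).mpr h), fun g => ?_⟩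
  have h1 := Subgroup.mem_center_iff.mp hec (g : G ⧸ Subgroup.zpowers z)
  rw [QuotientGroup.mk'_apply, ← QuotientGroup.mk_mul, ← QuotientGroup.mk_mul, QuotientGroup.eq] at h1
  obtain ⟨i, hi⟩ := mem_powers_iff_mem_zpowers.mpr (inv_mem h1)
  simp only at hi
  rw [mul_inv_rev, inv_inv] at hi
  refine ⟨i, ?_⟩
  have hc : Commute g (z ^ i) := (show Commute g z from hzc g).pow_right i
  have h2 : g * e = e * g * z ^ i := by rw [hi]; group
  rw [h2, mul_assoc e, hc.eq, ← mul_assoc, mul_inv_cancel_right]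

end

section

variable {q : ℕ} [Fact q.Prime] {V : Type*} [AddCommGroup V] [Module (ZMod q) V]
  {G : Type*} [Group G] [Finite G] (ρ : G →* (V ≃ₗ[ZMod q] V))

theorem two_mul_card_le [Finite V] (W : AddSubgroup V) (hW : W ≠ ⊤) : 2 * Nat.card W ≤ Nat.card V := by
  rw [← W.card_mul_index, mul_comm]
  refine Nat.mul_le_mul_left _ ?_
  have h1 : W.index ≠ 1 := fun h => hW (AddSubgroup.index_eq_one.mp h)
  have h2 : W.index ≠ 0 := AddSubgroup.index_ne_zero_of_finite
  omega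

theorem E_case [Finite V] [Nontrivial V] {p : ℕ} [Fact p.Prime] (hqp : q ≠ p) (hρ : Function.Injective ρ)
    (heq : ∀ v w : V, v ≠ 0 → w ≠ 0 → Nat.card (stab ρ v) = Nat.card (stab ρ w))
    (hns : ¬ ∀ v : V, v ≠ 0 → stab ρ v = ⊥) (hG : IsPGroup p G) {z e : G} (hzo : orderOf z = p)
    (hzc : ∀ g, g * z = z * g) (hep : e ^ p = 1) (hez : e ∉ Subgroup.zpowers z)
    (hconj : ∀ g : G, ∃ i : ℕ, g * e * g⁻¹ = e * z ^ i) :
    (Nat.card V = q ^ 2 ∧ (∃ m : ℕ, q = 2 ^ m + 1) ∧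
      ∃ ε : V ≃ₗ[ZMod q] (Fin 2 → ZMod q), ∀ f : (Fin 2 → ZMod q) ≃ₗ[ZMod q] (Fin 2 → ZMod q),
        (∃ g : G, f = ε.symm.trans ((ρ g).trans ε)) ↔
        ∃ a s : ZMod q, a ≠ 0 ∧ (s = 1 ∨ s = -1) ∧
          ((∀ v, f v = ![a * v 0, s * a⁻¹ * v 1]) ∨ (∀ v, f v = ![s * a⁻¹ * v 1, a * v 0]))) ∨
    (Nat.card V = 81 ∧ q = 3 ∧ p = 2) := by
  have hp : p.Prime := Fact.out
  have hzp : z ^ p = 1 := hzo ▸ pow_orderOf_eq_one z
  have hz1 : z ≠ 1 := fun h => by rw [h, orderOf_one] at hzo; exact hp.ne_one hzo.symm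
  have hfz : ∀ v : V, ρ z v = v → v = 0 := fun v hv => by
    by_contra hv0
    exact hns (free_of_central_fixed ρ hqp hρ heq hz1 hzp hzc hv0 hv)
  have hcez : Commute e z := hzc e
  have hcp : ∀ i, (e * z ^ i) ^ p = 1 := fun i => by
    rw [(hcez.pow_right i).mul_pow, hep, ← pow_mul, mul_comm, pow_mul, hzp, one_pow, one_mul]
  have hc1 : ∀ i, e * z ^ i ≠ 1 := fun i h => hez (by
    rw [eq_inv_of_mul_eq_one_left h]; exact inv_mem (pow_mem (Subgroup.mem_zpowers z) i))
  -- the eigenspaces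
  let Fx : ℕ → V → Prop := fun i v => ρ (e * z ^ i) v = v
  have hdisj : ∀ (i j : ℕ) {v0 : V}, Fx i v0 → Fx j v0 → ¬ i ≡ j [MOD p] → v0 = 0 := by
    intro i j v0 hi hj hij
    have h1 : (e * z ^ i)⁻¹ * (e * z ^ j) ∈ stab ρ v0 := mul_mem (inv_mem hi) hj
    have h2 : (e * z ^ i)⁻¹ * (e * z ^ j) = z ^ ((j : ℤ) - i) := by
      rw [zpow_sub, zpow_natCast, zpow_natCast]
      have hc : Commute (z ^ j) ((z ^ i)⁻¹) := (Commute.pow_pow_self z j i).inv_right
      rw [hc.eq]; group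
    rw [h2] at h1
    have h3 : ¬ (p : ℤ) ∣ (j : ℤ) - i := fun h => hij (Nat.modEq_iff_dvd.mpr h)
    obtain ⟨u, w, huw⟩ := ((Nat.prime_iff_prime_int.mp hp).coprime_iff_not_dvd.mpr h3)
    have h4 : z ∈ stab ρ v0 := by
      have h5 : z ^ (u * (p : ℤ) + w * ((j : ℤ) - i)) = z := by rw [huw, zpow_one]
      rw [zpow_add, mul_comm u, zpow_mul, zpow_natCast, hzp, one_zpow, one_mul, mul_comm w, zpow_mul] at h5
      exact h5 ▸ Subgroup.zpow_mem _ h1 w
    exact hfz _ h4
  have hmove : ∀ (g : G) (i : ℕ) (v : V), Fx i v → ∀ k, g * e * g⁻¹ = e * z ^ k → Fx (k + i) (ρ g v) := by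
    intro g i v hv k hk
    show ρ (e * z ^ (k + i)) (ρ g v) = ρ g v
    have h1 : e * z ^ (k + i) = g * (e * z ^ i) * g⁻¹ := by
      have hc : Commute g (z ^ i) := (show Commute g z from hzc g).pow_right i
      rw [pow_add, ← mul_assoc, ← hk, mul_assoc _ _ g⁻¹, mul_assoc, mul_assoc, mul_assoc, mul_assoc]
      rw [hc.inv_left.eq]
    rw [h1, ← mul_app, inv_mul_cancel_right, mul_app, hv]
  obtain ⟨g0, k0, hk0, hk0p⟩ : ∃ g k, g * e * g⁻¹ = e * z ^ k ∧ ¬ p ∣ k := by
    by_contra hcon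
    push Not at hcon
    have hec : ∀ g, g * e = e * g := fun g => by
      obtain ⟨k, hk⟩ := hconj g
      obtain ⟨m, rfl⟩ := hcon g k hk
      rw [pow_mul, hzp, one_pow, mul_one, mul_inv_eq_iff_eq_mul] at hk
      exact hk
    obtain ⟨i, -, v, hv, hfix⟩ := exists_fixed ρ hqp hcez hep hzp hfz
    refine hns (free_of_central_fixed ρ hqp hρ heq (hc1 i) (hcp i) (fun g => ?_) hv hfix)
    rw [← mul_assoc, hec, mul_assoc, ((show Commute g z from hzc g).pow_right i).eq, mul_assoc]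
  have hiter : ∀ n, g0 ^ n * e * (g0 ^ n)⁻¹ = e * z ^ (n * k0) := fun n => by
    induction n with
    | zero => simp
    | succ n ih =>
      rw [show g0 ^ (n + 1) * e * (g0 ^ (n + 1))⁻¹ = g0 * (g0 ^ n * e * (g0 ^ n)⁻¹) * g0⁻¹ by rw [pow_succ']; group,
        ih, ← mul_assoc, mul_assoc _ (z ^ _), (((show Commute g0 z from hzc g0).pow_right (n * k0)).inv_left).symm.eq,
        ← mul_assoc, hk0, mul_assoc, ← pow_add]
      congr 2
      ring
  -- every eigenspace is non-zero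
  have hnon : ∀ j : ℕ, ∃ v, v ≠ 0 ∧ Fx j v := by
    intro j
    obtain ⟨i, hi, v, hv, hfix⟩ := exists_fixed ρ hqp hcez hep hzp hfz
    obtain ⟨n, hn⟩ : ∃ n : ℕ, ((n * k0 + i : ℕ) : ZMod p) = (j : ZMod p) := by
      refine ⟨(((j : ZMod p) - i) * (k0 : ZMod p)⁻¹).val, ?_⟩
      push_cast
      rw [ZMod.natCast_val, ZMod.cast_id, mul_assoc, inv_mul_cancel₀
        (fun h => hk0p ((ZMod.natCast_eq_zero_iff _ _).mp h)), mul_one, sub_add_cancel]
    refine ⟨ρ (g0 ^ n) v, app_ne ρ hv _, ?_⟩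
    have h1 := hmove _ i v hfix _ (hiter n)
    have h2 : z ^ (n * k0 + i) = z ^ j := by
      rw [pow_eq_pow_iff_modEq, hzo, ← ZMod.natCast_eq_natCast_iff]
      exact hn
    show ρ (e * z ^ j) _ = _
    rw [← h2]; exact h1
  have hnat : ∀ (k i : ℕ) (v : V), Fx i v → ¬ k ≡ i [MOD p] → avg ρ p (e * z ^ k) v = 0 := by
    intro k i v hv hki
    refine hdisj k i (app_avg ρ hp.pos (hcp k) v) ?_ hki
    show ρ (e * z ^ i) _ = _
    rw [avg, map_sum]
    refine Finset.sum_congr rfl fun l _ => ?_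
    have hc : Commute (e * z ^ i) (e * z ^ k) :=
      ((Commute.refl e).mul_right (hcez.pow_right k)).mul_left
        ((hcez.pow_right i).symm.mul_right (Commute.pow_pow_self z i k))
    rw [← mul_app, (hc.pow_right l).eq, mul_app, hv]
  have havadd : ∀ (c : G) (v w : V), avg ρ p c (v + w) = avg ρ p c v + avg ρ p c w := fun c v w => by
    simp only [avg, map_add, Finset.sum_add_distrib]
  -- stabilizers
  have hsub : ∀ (g : G) (i : ℕ) (v : V), v ≠ 0 → Fx i v → ρ g v = v → g * e * g⁻¹ = e * z ^ 0 := by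
    intro g i v hv hfix hg
    obtain ⟨k, hk⟩ := hconj g
    have h1 := hmove g i v hfix k hk
    rw [hg] at h1
    by_contra hne
    refine hv (hdisj (k + i) i h1 hfix fun h => hne ?_)
    rw [hk]
    congr 1
    rw [pow_eq_pow_iff_modEq, hzo]
    exact Nat.ModEq.add_right_cancel' i (by simpa using h)
  have hsum2 : ∀ (i j : ℕ) (v u : V) (g : G), ¬ i ≡ j [MOD p] → v ≠ 0 → u ≠ 0 → Fx i v → Fx j u →
      ρ g (v + u) = v + u → (ρ g v = v ∧ ρ g u = u) ∨ (p = 2 ∧ ρ g v = u ∧ ρ g u = v) := by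
    intro i j v u g hij hv hu hfv hfu hg
    obtain ⟨k, hk⟩ := hconj g
    have hgv := hmove g i v hfv k hk
    have hgu := hmove g j u hfu k hk
    rw [map_add] at hg
    have e1 := congrArg (avg ρ p (e * z ^ i)) hg
    have e2 := congrArg (avg ρ p (e * z ^ j)) hg
    rw [havadd, havadd, avg_fixed ρ hfv, hnat i j u hfu hij] at e1
    rw [havadd, havadd, avg_fixed ρ hfu, hnat j i v hfv (fun h => hij h.symm)] at e2
    simp only [add_zero, zero_add] at e1 e2
    by_cases hk : k ≡ 0 [MOD p]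
    · left
      have m1 : k + i ≡ i [MOD p] := by simpa using hk.add_right i
      have m2 : k + j ≡ j [MOD p] := by simpa using hk.add_right j
      have hgv' : Fx i (ρ g v) := by
        show ρ (e * z ^ i) _ = _
        rw [← pow_eq_pow_iff_modEq.mpr (hzo.symm ▸ m1)]; exact hgv
      have hgu' : Fx j (ρ g u) := by
        show ρ (e * z ^ j) _ = _
        rw [← pow_eq_pow_iff_modEq.mpr (hzo.symm ▸ m2)]; exact hgu
      rw [avg_fixed ρ hgv', hnat i j _ hgu' hij, add_zero] at e1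
      rw [avg_fixed ρ hgu', hnat j i _ hgv' (fun h => hij h.symm), zero_add] at e2
      exact ⟨nsmul_p_inj hqp e1, nsmul_p_inj hqp e2⟩
    · have n1 : k + j ≡ i [MOD p] := by
        by_contra hne
        rw [hnat i _ _ hgv (fun h => hk (Nat.ModEq.add_right_cancel' i (by simpa using h.symm))),
          hnat i _ _ hgu (fun h => hne h.symm), add_zero] at e1
        exact nsmul_p_ne hqp hv e1.symm
      have n2 : k + i ≡ j [MOD p] := by
        by_contra hne
        rw [hnat j _ _ hgv (fun h => hne h.symm),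
          hnat j _ _ hgu (fun h => hk (Nat.ModEq.add_right_cancel' j (by simpa using h.symm))), add_zero] at e2
        exact nsmul_p_ne hqp hu e2.symm
      have hp2 : p = 2 := by
        have h3 : 2 * k + (i + j) ≡ 0 + (i + j) [MOD p] := by
          have := n1.add n2
          rwa [show k + j + (k + i) = 2 * k + (i + j) by ring, show i + j = 0 + (i + j) by ring,
            show 2 * k + (0 + (i + j)) = 2 * k + (i + j) by ring] at this
        have h4 : p ∣ 2 * k := (Nat.modEq_zero_iff_dvd).mp (Nat.ModEq.add_right_cancel' _ h3)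
        exact (Nat.prime_dvd_prime_iff_eq hp Nat.prime_two).mp
          ((hp.dvd_mul.mp h4).resolve_right fun h => hk (Nat.modEq_zero_iff_dvd.mpr h))
      have hgv' : Fx j (ρ g v) := by
        show ρ (e * z ^ j) _ = _
        rw [← pow_eq_pow_iff_modEq.mpr (hzo.symm ▸ n2)]; exact hgv
      have hgu' : Fx i (ρ g u) := by
        show ρ (e * z ^ i) _ = _
        rw [← pow_eq_pow_iff_modEq.mpr (hzo.symm ▸ n1)]; exact hgu
      rw [hnat i j _ hgv' hij, avg_fixed ρ hgu', zero_add] at e1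
      rw [avg_fixed ρ hgv', hnat j i _ hgu' (fun h => hij h.symm), add_zero] at e2
      exact Or.inr ⟨hp2, nsmul_p_inj hqp e2, nsmul_p_inj hqp e1⟩
  have hequal : ∀ (i j : ℕ) (v u : V), ¬ i ≡ j [MOD p] → v ≠ 0 → u ≠ 0 → Fx i v → Fx j u →
      (p = 2 → ∀ g, ρ g v ≠ u) → stab ρ v = stab ρ u := by
    intro i j v u hij hv hu hfv hfu hno
    have hne : v + u ≠ 0 := fun h => hv (hdisj i j hfv (by
      show ρ _ v = v
      rw [eq_neg_of_add_eq_zero_left h, map_neg, hfu]) hij)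
    have hle : ∀ g ∈ stab ρ (v + u), ρ g v = v ∧ ρ g u = u := fun g hg =>
      (hsum2 i j v u g hij hv hu hfv hfu hg).resolve_right fun h => hno h.1 g h.2.1
    exact (Subgroup.eq_of_le_of_card_ge (fun g hg => (hle g hg).1) (heq _ _ hv hne).le).symm.trans
      (Subgroup.eq_of_le_of_card_ge (fun g hg => (hle g hg).2) (heq _ _ hu hne).le)
  have hfinal : ∀ (v : V), v ≠ 0 → Fx 0 v → (∀ i < p, ∀ w, Fx i w → ∀ g ∈ stab ρ v, ρ g w = w) → False := by
    intro v hv hfix hall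
    refine hc1 0 (hρ (LinearEquiv.ext fun x => ?_))
    rw [map_one]
    refine nsmul_p_inj hqp ?_
    show p • ρ (e * z ^ 0) x = p • x
    rw [← map_nsmul, ← sum_avg ρ hcez hzp hfz x, map_sum]
    exact Finset.sum_congr rfl fun i hi =>
      hall i (Finset.mem_range.mp hi) _ (app_avg ρ hp.pos (hcp i) x) _ hfix
  have h01 : ¬ (0 : ℕ) ≡ 1 [MOD p] := fun h => by
    have := Nat.modEq_zero_iff_dvd.mp h.symm
    exact hp.one_lt.ne' (Nat.dvd_one.mp this)
  obtain ⟨v0, hv0, hfv0⟩ := hnon 0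
  obtain ⟨u1, hu1, hfu1⟩ := hnon 1
  by_cases hp2 : p = 2
  swap
  · exfalso
    have hK : ∀ i w, w ≠ 0 → Fx i w → stab ρ w = stab ρ v0 := by
      intro i w hw hfw
      by_cases hi : i ≡ 0 [MOD p]
      · have e1 := hequal i 1 w u1 (fun h => h01 (hi.symm.trans h)) hw hu1 hfw hfu1 (fun h => absurd h hp2)
        exact e1.trans (hequal 0 1 v0 u1 h01 hv0 hu1 hfv0 hfu1 (fun h => absurd h hp2)).symm
      · exact hequal i 0 w v0 hi hw hv0 hfw hfv0 (fun h => absurd h hp2)
    refine hfinal v0 hv0 hfv0 fun i _ w hw g hg => ?_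
    by_cases hw0 : w = 0
    · rw [hw0, map_zero]
    · have h1 : g ∈ stab ρ w := by rw [hK i w hw0 hw]; exact hg
      exact h1
  subst hp2
  have h10 : ¬ (1 : ℕ) ≡ 0 [MOD 2] := fun h => h01 h.symm
  have hswap : ∀ g : G, ∀ k, g * e * g⁻¹ = e * z ^ k → (k ≡ 0 [MOD 2] → ∀ i v, Fx i v → Fx i (ρ g v)) ∧
      (¬ k ≡ 0 [MOD 2] → ∀ v, (Fx 0 v → Fx 1 (ρ g v)) ∧ (Fx 1 v → Fx 0 (ρ g v))) := by
    intro g k hk
    refine ⟨fun h i v hv => ?_, fun h v => ⟨fun hv => ?_, fun hv => ?_⟩⟩ <;>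
      (have h1 := hmove g _ v hv k hk; show ρ _ _ = _)
    · rw [← pow_eq_pow_iff_modEq.mpr (show k + i ≡ i [MOD orderOf z] by rw [hzo]; simpa using h.add_right i)]
      exact h1
    · rw [← pow_eq_pow_iff_modEq.mpr (show k + 0 ≡ 1 [MOD orderOf z] by
        rw [hzo]; simp only [Nat.ModEq] at h ⊢; omega)]
      exact h1
    · rw [← pow_eq_pow_iff_modEq.mpr (show k + 1 ≡ 0 [MOD orderOf z] by
        rw [hzo]; simp only [Nat.ModEq] at h ⊢; omega)]
      exact h1
  have hk0' : ¬ k0 ≡ 0 [MOD 2] := fun h => hk0p (Nat.modEq_zero_iff_dvd.mp h)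
  let V0 : AddSubgroup V :=
    { carrier := {v | Fx 0 v}
      add_mem' := fun {a b} (ha : Fx 0 a) (hb : Fx 0 b) => by
        show ρ _ (a + b) = a + b
        rw [map_add, ha, hb]
      zero_mem' := map_zero _
      neg_mem' := fun {a} (ha : Fx 0 a) => by show ρ _ (-a) = -a; rw [map_neg, ha] }
  let V1 : AddSubgroup V :=
    { carrier := {v | Fx 1 v}
      add_mem' := fun {a b} (ha : Fx 1 a) (hb : Fx 1 b) => by
        show ρ _ (a + b) = a + b
        rw [map_add, ha, hb]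
      zero_mem' := map_zero _
      neg_mem' := fun {a} (ha : Fx 1 a) => by show ρ _ (-a) = -a; rw [map_neg, ha] }
  have hsw := (hswap g0 k0 hk0).2 hk0'
  by_cases htrans : ∃ v v' : V, v ≠ 0 ∧ v' ≠ 0 ∧ Fx 0 v ∧ Fx 0 v' ∧ ∀ g, ρ g v ≠ v'
  · exfalso
    obtain ⟨v, v', hv, hv', hfv, hfv', hno⟩ := htrans
    let Gv : V → Set V := fun w => {u | Fx 1 u ∧ ∃ g, ρ g w = u}
    have hdis : Disjoint (Gv v) (Gv v') := by
      rw [Set.disjoint_left]
      rintro u ⟨-, g, hg⟩ ⟨-, g', hg'⟩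
      refine hno (g'⁻¹ * g) ?_
      rw [mul_app, hg, ← hg', inv_app]
    obtain ⟨w, hw, hfw, hhalf⟩ : ∃ w, w ≠ 0 ∧ Fx 0 w ∧ 2 * (Gv w).ncard + 1 ≤ Nat.card V1 := by
      have h1 : (Gv v ∪ Gv v').ncard < Nat.card V1 := by
        refine (Set.ncard_lt_ncard (t := (V1 : Set V)) ⟨fun u hu => ?_, fun h => ?_⟩ (Set.toFinite _)).trans_eq
          (Nat.card_coe_set_eq _).symm
        · rcases hu with hu | hu <;> exact hu.1
        · rcases h (show (0 : V) ∈ (V1 : Set V) from V1.zero_mem) with ⟨-, g, hg⟩ | ⟨-, g, hg⟩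
          · exact app_ne ρ hv g hg
          · exact app_ne ρ hv' g hg
      rw [Set.ncard_union_eq hdis] at h1
      rcases Nat.le_total (Gv v).ncard (Gv v').ncard with h | h
      · exact ⟨v, hv, hfv, by omega⟩
      · exact ⟨v', hv', hfv', by omega⟩
    set K := stab ρ w with hK
    have hO : ∀ u, Fx 1 u → u ≠ 0 → u ∉ Gv w → stab ρ u = K := fun u hu hu0 hn =>
      (hequal 0 1 w u h01 hw hu0 hfw hu fun _ g hg => hn ⟨hu, g, hg⟩).symm
    let Fix : AddSubgroup V :=
      { carrier := {x | ∀ g ∈ K, ρ g x = x}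
        add_mem' := fun {a b} ha hb g hg => by rw [map_add, ha g hg, hb g hg]
        zero_mem' := fun g _ => map_zero _
        neg_mem' := fun {a} ha g hg => by rw [map_neg, ha g hg] }
    have hV1 : V1 ≤ Fix := by
      by_contra hle
      have h2 : Fix.addSubgroupOf V1 ≠ ⊤ := fun h => hle (AddSubgroup.addSubgroupOf_eq_top.mp h)
      have h3 := two_mul_card_le (V := V1) _ h2
      have h4 : Nat.card V1 ≤ (Gv w).ncard + Nat.card (Fix.addSubgroupOf V1) := by
        have h5 : (V1 : Set V) ⊆ Gv w ∪ ((Fix.addSubgroupOf V1).map V1.subtype : Set V) := by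
          intro u hu
          by_cases hG' : u ∈ Gv w
          · exact Or.inl hG'
          · refine Or.inr ⟨⟨u, hu⟩, fun g hg => ?_, rfl⟩
            by_cases hu0 : u = 0
            · show ρ g u = u
              rw [hu0, map_zero]
            · have h1 : g ∈ stab ρ u := by rw [hO u hu hu0 hG']; exact hg
              exact h1
        refine (le_of_eq (Nat.card_coe_set_eq _)).trans ((Set.ncard_le_ncard h5).trans ?_)
        refine (Set.ncard_union_le _ _).trans (add_le_add le_rfl (le_of_eq ?_))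
        rw [← Nat.card_coe_set_eq]
        exact (Nat.card_congr ((Fix.addSubgroupOf V1).equivMapOfInjective _ Subtype.val_injective).toEquiv).symm
      omega
    have hKV1 : ∀ u, Fx 1 u → u ≠ 0 → stab ρ u = K := fun u hu hu0 =>
      (Subgroup.eq_of_le_of_card_ge (fun g hg => hV1 hu g hg) (heq _ _ hu0 hw).le).symm
    refine hfinal w hw hfw fun i hi x hx g hg => ?_
    rcases (show i = 0 ∨ i = 1 by omega) with rfl | rfl
    · by_cases hx0 : x = 0
      · rw [hx0, map_zero]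
      by_cases hex : ∀ g, ρ g x ≠ ρ g0 v
      · have := hequal 0 1 x (ρ g0 v) h01 hx0 (app_ne ρ hv _) hx ((hsw v).1 hfv) (fun _ => hex)
        rw [hKV1 _ ((hsw v).1 hfv) (app_ne ρ hv _)] at this
        have h1 : g ∈ stab ρ x := by rw [this]; exact hg
        exact h1
      · push Not at hex
        obtain ⟨h, hh⟩ := hex
        have := hequal 0 1 x (ρ g0 v') h01 hx0 (app_ne ρ hv' _) hx ((hsw v').1 hfv') (fun _ g' hg' =>
          hno (g0⁻¹ * (g' * h⁻¹) * g0) (by
            rw [mul_app, mul_app, mul_app, ← hh, inv_app, hg', inv_app]))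
        rw [hKV1 _ ((hsw v').1 hfv') (app_ne ρ hv' _)] at this
        have h1 : g ∈ stab ρ x := by rw [this]; exact hg
        exact h1
    · exact hV1 hx g hg
  push Not at htrans
  -- `G` is transitive on the non-zero vectors of `V0`
  letI : MulAction G V := MulAction.compHom V ρ
  let N : Subgroup G := Subgroup.centralizer {e}
  have hN : ∀ g, g ∈ N ↔ g * e * g⁻¹ = e * z ^ 0 := fun g => by
    rw [Subgroup.mem_centralizer_singleton_iff, pow_zero, mul_one, mul_inv_eq_iff_eq_mul]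
  have hNmem : ∀ g v u, v ≠ 0 → u ≠ 0 → Fx 0 v → Fx 0 u → ρ g v = u → g ∈ N := by
    intro g v u hv hu hfv hfu hg
    obtain ⟨k, hk⟩ := hconj g
    rw [hN, hk]
    congr 1
    rw [pow_eq_pow_iff_modEq, hzo]
    by_contra hne
    exact hu (hdisj 1 0 (hg ▸ ((hswap g k hk).2 hne v).1 hfv) hfu h10)
  obtain ⟨a, ha⟩ : ∃ a, Nat.card V0 = 2 ^ a + 1 := by
    have horb : MulAction.orbit N v0 = {u : V | Fx 0 u ∧ u ≠ 0} := by
      ext u
      constructor
      · rintro ⟨⟨g, hg⟩, rfl⟩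
        exact ⟨(hswap g 0 ((hN g).mp hg)).1 rfl 0 v0 hfv0, app_ne ρ hv0 g⟩
      · rintro ⟨hu, hu0⟩
        obtain ⟨g, hg⟩ := htrans v0 u hv0 hu0 hfv0 hu
        exact ⟨⟨g, hNmem g v0 u hv0 hu0 hfv0 hu hg⟩, hg⟩
    obtain ⟨a, ha⟩ := (hG.to_subgroup N).card_orbit v0
    refine ⟨a, ?_⟩
    rw [horb, Nat.card_coe_set_eq] at ha
    rw [← ha, show (V0 : Type _) = ((V0 : Set V) : Type _) from rfl, Nat.card_coe_set_eq,
      show {u : V | Fx 0 u ∧ u ≠ 0} = (V0 : Set V) \ {0} from rfl,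
      Set.ncard_sdiff_singleton_add_one V0.zero_mem]
  have hV : Nat.card V = Nat.card V0 * Nat.card V0 := by
    refine (Nat.card_eq_of_bijective (fun a : V0 × V0 => a.1.1 + ρ g0 a.2.1) ⟨?_, ?_⟩).symm.trans (Nat.card_prod _ _)
    · intro a b hab
      have hab' : a.1.1 + ρ g0 a.2.1 = b.1.1 + ρ g0 b.2.1 := hab
      have h1 := congrArg (avg ρ 2 (e * z ^ 0)) hab'
      rw [havadd, havadd, avg_fixed ρ a.1.2, avg_fixed ρ b.1.2, hnat 0 1 _ ((hsw _).1 a.2.2) h01,
        hnat 0 1 _ ((hsw _).1 b.2.2) h01, add_zero, add_zero] at h1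
      have h2 := nsmul_p_inj hqp h1
      rw [h2] at hab'
      exact Prod.ext (Subtype.ext h2) (Subtype.ext ((ρ g0).injective (add_left_cancel hab')))
    · intro x
      have h2 : ((2 : ℕ) : ZMod q) ≠ 0 := fun h => hqp
        ((Nat.prime_dvd_prime_iff_eq (Fact.out : q.Prime) Nat.prime_two).mp ((ZMod.natCast_eq_zero_iff _ _).mp h))
      obtain ⟨y, rfl⟩ : ∃ y, 2 • y = x := ⟨((2 : ℕ) : ZMod q)⁻¹ • x, by
        rw [← Nat.cast_smul_eq_nsmul (ZMod q), smul_smul, mul_inv_cancel₀ h2, one_smul]⟩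
      have hinv : g0⁻¹ * e * g0⁻¹⁻¹ = e * z ^ k0 := by
        have hc : Commute g0⁻¹ z := (show Commute g0 z from hzc g0).inv_left
        have h3 : g0⁻¹ * (e * z ^ k0) * g0 = e := by rw [← hk0]; group
        rw [inv_inv]
        calc g0⁻¹ * e * g0 = g0⁻¹ * (e * z ^ k0 * (z ^ k0)) * g0 := by
              rw [mul_assoc e, ← pow_add, show z ^ (k0 + k0) = 1 by rw [← two_mul, pow_mul, hzp, one_pow], mul_one]
          _ = (g0⁻¹ * (e * z ^ k0) * g0) * z ^ k0 := by
              rw [mul_assoc g0⁻¹, mul_assoc (e * z ^ k0), ((show Commute g0 z from hzc g0).pow_right k0).symm.eq,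
                ← mul_assoc, ← mul_assoc]
          _ = e * z ^ k0 := by rw [h3]
      refine ⟨⟨⟨_, app_avg ρ two_pos (hcp 0) y⟩,
        ⟨ρ g0⁻¹ (avg ρ 2 (e * z ^ 1) y), ((hswap _ k0 hinv).2 hk0' _).2 (app_avg ρ two_pos (hcp 1) y)⟩⟩, ?_⟩
      show avg ρ 2 (e * z ^ 0) y + ρ g0 (ρ g0⁻¹ (avg ρ 2 (e * z ^ 1) y)) = 2 • y
      rw [app_inv, ← sum_avg ρ hcez hzp hfz y]
      simp [Finset.sum_range_succ]
  have hq2 : q ≠ 2 := hqp
  obtain ⟨d, hd⟩ : ∃ d, Nat.card V0 = q ^ d := by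
    obtain ⟨D, hD⟩ : ∃ D, Nat.card V = q ^ D := ⟨Module.finrank (ZMod q) V, by
      haveI : Module.Finite (ZMod q) V := Module.Finite.of_finite
      rw [Module.natCard_eq_pow_finrank (K := ZMod q), Nat.card_zmod]⟩
    obtain ⟨d, -, hd⟩ := (Nat.dvd_prime_pow (Fact.out : q.Prime)).mp (hD ▸ hV ▸ dvd_mul_right _ _ : Nat.card V0 ∣ q ^ D)
    exact ⟨d, hd⟩
  rcases fermat_cases (Fact.out : q.Prime) hq2 (ha.symm.trans hd) with rfl | ⟨rfl, rfl⟩
  swap
  · exact Or.inr ⟨by rw [hV, hd]; norm_num, rfl, rfl⟩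
  rw [pow_one] at hd
  refine Or.inl ⟨by rw [hV, hd, pow_two], ⟨a, by rw [← hd, ha]⟩, ?_⟩
  have hzneg : ∀ v : V, ρ z v = -v := fun v => by
    refine eq_neg_of_add_eq_zero_left (hfz _ ?_)
    rw [map_add, ← mul_app, ← pow_two, hzp, map_one, add_comm]; rfl
  have hfa1 : Fx 1 (ρ g0 v0) := (hsw v0).1 hfv0
  have hmem : ∀ u, Fx 0 u → ∃ α : ZMod q, u = α • v0 := by
    intro u hu
    have hinj : Function.Injective (fun α : ZMod q => (⟨α • v0, show ρ _ (α • v0) = α • v0 by rw [map_smul, hfv0]⟩ : V0)) :=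
      fun α β h => smul_left_injective _ hv0 (congrArg Subtype.val h)
    obtain ⟨α, hα⟩ := ((Nat.bijective_iff_injective_and_card _).mpr
      ⟨hinj, by rw [Nat.card_zmod, hd]⟩).2 ⟨u, hu⟩
    exact ⟨α, (congrArg Subtype.val hα).symm⟩
  have hinv0 : ∀ u, Fx 1 u → ∃ α : ZMod q, u = α • ρ g0 v0 := by
    intro u hu
    have hinj : Function.Injective (fun α : ZMod q => (⟨α • ρ g0 v0, show ρ _ (α • ρ g0 v0) = α • ρ g0 v0 by
      rw [map_smul, hfa1]⟩ : V1)) := fun α β h => smul_left_injective _ (app_ne ρ hv0 g0) (congrArg Subtype.val h)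
    have hV1c : Nat.card V1 ≤ q := by
      rw [← hd]
      refine Nat.card_le_card_of_injective (fun x : V1 => (⟨ρ g0 x.1, (hsw _).2 x.2⟩ : V0)) fun x y h =>
        Subtype.ext ((ρ g0).injective (congrArg Subtype.val h))
    have hle : q ≤ Nat.card V1 := by simpa [Nat.card_zmod] using Nat.card_le_card_of_injective _ hinj
    obtain ⟨α, hα⟩ := ((Nat.bijective_iff_injective_and_card _).mpr
      ⟨hinj, by rw [Nat.card_zmod]; omega⟩).2 ⟨u, hu⟩
    exact ⟨α, (congrArg Subtype.val hα).symm⟩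
  have hli : LinearIndependent (ZMod q) ![v0, ρ g0 v0] := by
    rw [LinearIndependent.pair_iff]
    intro s t hst
    have h1 := congrArg (avg ρ 2 (e * z ^ 0)) hst
    rw [havadd, avg_fixed ρ (show ρ _ (s • v0) = s • v0 by rw [map_smul, hfv0]),
      hnat 0 1 _ (show ρ _ (t • ρ g0 v0) = _ by rw [map_smul, hfa1]) h01] at h1
    have h2 : s = 0 := by
      by_contra hs
      refine nsmul_p_ne (p := 2) hqp (smul_ne_zero hs hv0) ?_
      simpa [avg] using h1
    rw [h2, zero_smul, zero_add, smul_eq_zero] at hst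
    exact ⟨h2, hst.resolve_right (app_ne ρ hv0 g0)⟩
  refine monomial_case ρ hρ heq hli (by rw [hV, hd, pow_two]) (fun g => ?_) (fun α hα => ?_) (g := e * z ^ 0) hfv0 ?_
  · obtain ⟨k, hk⟩ := hconj g
    by_cases h : k ≡ 0 [MOD 2]
    · obtain ⟨α, hα⟩ := hmem _ ((hswap g k hk).1 h 0 v0 hfv0)
      obtain ⟨β, hβ⟩ := hinv0 _ ((hswap g k hk).1 h 1 _ hfa1)
      exact Or.inl ⟨α, β, hα, hβ⟩
    · obtain ⟨α, hα⟩ := hinv0 _ (((hswap g k hk).2 h v0).1 hfv0)
      obtain ⟨β, hβ⟩ := hmem _ (((hswap g k hk).2 h _).2 hfa1)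
      exact Or.inr ⟨α, β, hα, hβ⟩
  · exact htrans v0 (α • v0) hv0 (smul_ne_zero hα hv0) hfv0 (show ρ _ _ = _ by rw [map_smul, hfv0])
  · have h1 : ρ (e * z ^ 1) (ρ g0 v0) = ρ g0 v0 := hfa1
    rw [pow_one, mul_app, hzneg, map_neg, neg_eq_iff_eq_neg] at h1
    rwa [pow_zero, mul_one]

end

section

variable {q : ℕ} [Fact q.Prime] {V : Type*} [AddCommGroup V] [Module (ZMod q) V]
  {G : Type*} [Group G] [Finite G] [Finite V] [Nontrivial V] (ρ : G →* (V ≃ₗ[ZMod q] V))

theorem center_of_shape {x y : G} {n : ℕ} (hn : 2 ≤ n) (hx : orderOf x = 2 ^ n)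
    (hidx : (Subgroup.zpowers x).index = 2) (hy : y ∉ Subgroup.zpowers x) {r : ℤ} (hr : Odd r)
    (hconj : y * x * y⁻¹ = x ^ r) (g : G) : g * x ^ 2 ^ (n - 1) = x ^ 2 ^ (n - 1) * g := by
  have hyz : y * x ^ 2 ^ (n - 1) * y⁻¹ = x ^ 2 ^ (n - 1) := by
    have hz : x ^ (2 ^ (n - 1) : ℕ) = x ^ ((2 ^ (n - 1) : ℕ) : ℤ) := (zpow_natCast _ _).symm
    rw [hz, ← conj_zpow, hconj, ← zpow_mul, zpow_eq_zpow_iff_modEq, hx, Int.modEq_iff_dvd]
    obtain ⟨s, rfl⟩ := hr
    refine ⟨-s, ?_⟩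
    have : (2 : ℤ) ^ n = 2 ^ (n - 1) * 2 := by rw [← pow_succ, show n - 1 + 1 = n by omega]
    push_cast
    linear_combination s * this
  have h1 : g ∈ Subgroup.centralizer {x ^ 2 ^ (n - 1)} := by
    have hC : ∀ c ∈ Subgroup.zpowers x, c ∈ Subgroup.centralizer {x ^ 2 ^ (n - 1)} := by
      rintro c ⟨i, rfl⟩
      rw [Subgroup.mem_centralizer_singleton_iff]
      exact ((Commute.zpow_self x i).pow_right _).eq
    have hyC : y ∈ Subgroup.centralizer {x ^ 2 ^ (n - 1)} := by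
      rw [Subgroup.mem_centralizer_singleton_iff]
      exact mul_inv_eq_iff_eq_mul.mp hyz
    by_cases hg : g ∈ Subgroup.zpowers x
    · exact hC g hg
    · have := mul_mem (hC _ ((Subgroup.mul_mem_iff_of_index_two hidx).mpr (iff_of_false hg hy))) (inv_mem hyC)
      rwa [mul_inv_cancel_right] at this
  exact Subgroup.mem_centralizer_singleton_iff.mp h1

theorem outside_sq {x y : G} (hidx : (Subgroup.zpowers x).index = 2) (hy : y ∉ Subgroup.zpowers x)
    (hy2 : y * y = 1) {r : ℤ} (hconj : y * x * y⁻¹ = x ^ r) (t : G) :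
    t ∉ Subgroup.zpowers x ↔ ∃ i : ℤ, t = x ^ i * y ∧ t * t = x ^ (i * (1 + r)) := by
  constructor
  · intro ht
    obtain ⟨i, hi⟩ := Subgroup.mem_zpowers_iff.mp
      ((Subgroup.mul_mem_iff_of_index_two hidx).mpr (iff_of_false ht hy) : t * y ∈ Subgroup.zpowers x)
    have ht' : t = x ^ i * y := by rw [hi, mul_assoc, hy2, mul_one]
    refine ⟨i, ht', ?_⟩
    rw [ht']
    have : y * x ^ i = x ^ (r * i) * y := by
      rw [zpow_mul, ← hconj, conj_zpow]; group
    rw [mul_assoc, ← mul_assoc y, this, mul_assoc (x ^ (r * i)), hy2, mul_one, ← zpow_add]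
    congr 1; ring
  · rintro ⟨i, rfl, -⟩ h
    exact hy ((Subgroup.mul_mem_cancel_left _ (Subgroup.zpow_mem _ (Subgroup.mem_zpowers x) i)).mp h)

theorem dihedral_case (hρ : Function.Injective ρ) (hq2 : q ≠ 2)
    (heq : ∀ v w : V, v ≠ 0 → w ≠ 0 → Nat.card (stab ρ v) = Nat.card (stab ρ w))
    (hns : ¬ ∀ v : V, v ≠ 0 → stab ρ v = ⊥) (hG : IsPGroup 2 G) {k : ℕ} (hk : 8 ≤ k) (φ : G ≃* DihedralGroup k) :
    Nat.card V = q ^ 2 ∧ ∃ m : ℕ, q = 2 ^ m - 1 ∧ Nonempty (G ≃* DihedralGroup (2 ^ m)) := by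
  haveI : Fact (Nat.Prime 2) := ⟨Nat.prime_two⟩
  haveI : NeZero k := ⟨by omega⟩
  have hcardk : Nat.card G = 2 * k := by rw [Nat.card_congr φ.toEquiv, DihedralGroup.nat_card]
  obtain ⟨N, hN⟩ := IsPGroup.iff_card.mp hG
  obtain ⟨n, -, rfl⟩ := (Nat.dvd_prime_pow Nat.prime_two).mp (hN ▸ hcardk ▸ dvd_mul_left _ _ : k ∣ 2 ^ N)
  have hn : 3 ≤ n := by
    by_contra h
    have : 2 ^ n ≤ 2 ^ 2 := Nat.pow_le_pow_right two_pos (by omega)
    omega
  set x := φ.symm (DihedralGroup.r 1)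
  set y := φ.symm (DihedralGroup.sr 0)
  have hx : orderOf x = 2 ^ n := by rw [φ.symm.orderOf_eq, DihedralGroup.orderOf_r_one]
  have hcard : Nat.card G = 2 ^ (n + 1) := by rw [hcardk, pow_succ']
  have hidx : (Subgroup.zpowers x).index = 2 := by
    have h1 := (Subgroup.zpowers x).card_mul_index
    rw [Nat.card_zpowers, hx, hcard, pow_succ] at h1
    exact Nat.eq_of_mul_eq_mul_left (by positivity) h1
  have hy2 : y * y = 1 := by rw [← map_mul, DihedralGroup.sr_mul_self, map_one]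
  have hy : y ∉ Subgroup.zpowers x := fun h => by
    obtain ⟨i, hi⟩ := Subgroup.mem_zpowers_iff.mp h
    have := congrArg φ hi
    rw [map_zpow, φ.apply_symm_apply, φ.apply_symm_apply, DihedralGroup.r_one_zpow] at this
    cases this
  have hconj : y * x * y⁻¹ = x ^ (-1 : ℤ) := by
    rw [inv_eq_of_mul_eq_one_right hy2, ← map_mul, ← map_mul, zpow_neg, zpow_one, ← map_inv]
    congr 1
    simp
  have hJ : Nat.card {t : G // t ∉ Subgroup.zpowers x ∧ t * t = 1} = 2 ^ n := by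
    have h1 : {t : G | t ∉ Subgroup.zpowers x ∧ t * t = 1} = ((Subgroup.zpowers x : Subgroup G) : Set G)ᶜ := by
      ext t
      refine ⟨fun h => h.1, fun h => ⟨h, ?_⟩⟩
      obtain ⟨i, -, h2⟩ := (outside_sq hidx hy hy2 hconj t).mp h
      simpa using h2
    show Nat.card {t : G | t ∉ Subgroup.zpowers x ∧ t * t = 1} = _
    rw [h1, Nat.card_coe_set_eq, Set.ncard_compl, hcard, ← Nat.card_coe_set_eq]
    show _ - Nat.card (Subgroup.zpowers x) = _
    rw [Nat.card_zpowers, hx, pow_succ]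
    omega
  obtain ⟨hV, hq⟩ := reflection_case ρ hρ hq2 heq (by omega) hx hcard hy hy2 hconj
    ⟨0, by
      rw [show n - 1 = n - 2 + 1 by omega, pow_succ]; ring⟩ hns
    (center_of_shape (r := (-1 : ℤ)) (by omega) hx hidx hy ⟨-1, by norm_num⟩ hconj) hJ
  exact ⟨hV, n, by omega, ⟨φ⟩⟩

theorem qd_case (hρ : Function.Injective ρ) (hq2 : q ≠ 2)
    (heq : ∀ v w : V, v ≠ 0 → w ≠ 0 → Nat.card (stab ρ v) = Nat.card (stab ρ w))
    (hns : ¬ ∀ v : V, v ≠ 0 → stab ρ v = ⊥) (hQ : Cfsg.IsQuasiDihedral G) :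
    Nat.card V = q ^ 2 ∧ ∃ m : ℕ, q = 2 ^ m - 1 ∧ Nat.card G = 2 ^ (m + 2) := by
  haveI : Fact (Nat.Prime 2) := ⟨Nat.prime_two⟩
  obtain ⟨n, hn, hcard, x, y, hx, hyo, hconj'⟩ := hQ
  obtain ⟨m, rfl⟩ : ∃ m, n = m + 1 := ⟨n - 1, by omega⟩
  simp only [add_tsub_cancel_right] at hconj'
  have hidx : (Subgroup.zpowers x).index = 2 := by
    have h1 := (Subgroup.zpowers x).card_mul_index
    rw [Nat.card_zpowers, hx, hcard, pow_succ _ (m + 1)] at h1
    exact Nat.eq_of_mul_eq_mul_left (by positivity) h1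
  have hy2 : y * y = 1 := by rw [← pow_two, ← hyo, pow_orderOf_eq_one]
  have h4 : 4 ≤ 2 ^ m := le_trans (by norm_num) (Nat.pow_le_pow_right two_pos (show 2 ≤ m by omega))
  set r : ℤ := 2 ^ m - 1 with hr
  have hconj : y * x * y⁻¹ = x ^ r := by
    rw [hconj', ← zpow_natCast, hr, Nat.cast_sub (Nat.one_le_two_pow)]
    push_cast; rfl
  have hy : y ∉ Subgroup.zpowers x := fun h => by
    obtain ⟨i, rfl⟩ := Subgroup.mem_zpowers_iff.mp h
    have h1 : x ^ (1 : ℤ) = x ^ r := by rw [← hconj, zpow_one]; group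
    rw [zpow_eq_zpow_iff_modEq, hx, Int.modEq_iff_dvd] at h1
    have h2 : (2 : ℤ) ^ (m + 1) ≤ r - 1 := by
      push_cast at h1
      refine Int.le_of_dvd ?_ h1
      have : (4 : ℤ) ≤ 2 ^ m := by exact_mod_cast h4
      omega
    rw [pow_succ, hr] at h2
    have : (4 : ℤ) ≤ 2 ^ m := by exact_mod_cast h4
    omega
  have hiff : ∀ i : ℤ, x ^ (i * (1 + r)) = 1 ↔ 2 ∣ i := by
    intro i
    rw [← orderOf_dvd_iff_zpow_eq_one, hx, hr, show (1 : ℤ) + (2 ^ m - 1) = 2 ^ m by ring]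
    push_cast
    rw [pow_succ, mul_comm i, mul_dvd_mul_iff_left (by positivity)]
  have hJ : Nat.card {t : G // t ∉ Subgroup.zpowers x ∧ t * t = 1} = 2 ^ m := by
    have h1 : {t : G | t ∉ Subgroup.zpowers x ∧ t * t = 1} =
        (fun c => c * y) '' ((Subgroup.zpowers (x ^ 2) : Subgroup G) : Set G) := by
      ext t
      constructor
      · rintro ⟨ht, htt⟩
        obtain ⟨i, ht', h2⟩ := (outside_sq hidx hy hy2 hconj t).mp ht
        rw [h2, hiff] at htt
        obtain ⟨j, rfl⟩ := htt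
        exact ⟨x ^ (2 * j), ⟨j, by show (x ^ 2) ^ j = _; rw [zpow_mul]; norm_cast⟩, ht'.symm⟩
      · rintro ⟨c, ⟨j, rfl⟩, rfl⟩
        have hc : (x ^ 2) ^ j = x ^ (2 * j) := by rw [zpow_mul]; norm_cast
        simp only [hc]
        have hmem : x ^ (2 * j) * y ∉ Subgroup.zpowers x := fun h =>
          hy ((Subgroup.mul_mem_cancel_left _ (Subgroup.zpow_mem _ (Subgroup.mem_zpowers x) _)).mp h)
        refine ⟨hmem, ?_⟩
        obtain ⟨i, hi, h2⟩ := (outside_sq hidx hy hy2 hconj _).mp hmem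
        rw [h2, hiff]
        have h3 := mul_right_cancel hi
        rw [zpow_eq_zpow_iff_modEq, hx, Int.modEq_iff_dvd] at h3
        have h4' : (2 : ℤ) ∣ i - 2 * j := (dvd_pow_self _ (Nat.succ_ne_zero m)).trans (by push_cast at h3; exact h3)
        exact (Int.dvd_iff_dvd_of_dvd_sub h4').mpr (dvd_mul_right 2 j)
    show Nat.card {t : G | t ∉ Subgroup.zpowers x ∧ t * t = 1} = _
    rw [h1, Nat.card_coe_set_eq, Set.ncard_image_of_injective _ (mul_left_injective y), ← Nat.card_coe_set_eq]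
    show Nat.card (Subgroup.zpowers (x ^ 2)) = _
    rw [Nat.card_zpowers, orderOf_pow' x (by norm_num), hx, Nat.gcd_eq_right (dvd_pow_self 2 (Nat.succ_ne_zero m)),
      pow_succ, Nat.mul_div_cancel _ two_pos]
  obtain ⟨hV, hq⟩ := reflection_case ρ hρ hq2 heq (n := m + 1) (by omega) hx hcard hy hy2 hconj
    ⟨-(2 : ℤ) ^ (m - 2), by
      obtain ⟨l, rfl⟩ : ∃ l, m = l + 2 := ⟨m - 2, by omega⟩
      simp only [hr, show l + 2 + 1 - 2 = l + 1 by omega, show l + 2 + 1 - 1 = l + 2 by omega,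
        add_tsub_cancel_right, pow_succ]
      ring⟩ hns
    (center_of_shape (n := m + 1) (by omega) hx hidx hy ⟨2 ^ (m - 1) - 1, by
      rw [hr, show (2 : ℤ) ^ m = 2 ^ (m - 1) * 2 by rw [← pow_succ, show m - 1 + 1 = m by omega]]; ring⟩ hconj) hJ
  exact ⟨hV, m, by omega, hcard⟩

end

section

theorem quaternion_unique {G : Type*} [Group G] [Finite G] (hG : IsPGroup 2 G) {k : ℕ} (φ : G ≃* QuaternionGroup k) :
    ∀ H K : Subgroup G, Nat.card H = 2 → Nat.card K = 2 → H = K := by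
  haveI : Fact (Nat.Prime 2) := ⟨Nat.prime_two⟩
  have hk : k ≠ 0 := by
    rintro rfl
    have : Finite (QuaternionGroup 0) := Finite.of_equiv G φ.toEquiv
    haveI : Infinite (ZMod (2 * 0)) := (inferInstance : Infinite ℤ)
    exact not_injective_infinite_finite (fun i : ZMod (2 * 0) => QuaternionGroup.a i) fun a b h => QuaternionGroup.a.inj h
  haveI : NeZero k := ⟨hk⟩
  have hinv : ∀ g : G, orderOf g = 2 → φ g = QuaternionGroup.a (k : ZMod (2 * k)) := by
    intro g hg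
    rw [← φ.orderOf_eq] at hg
    cases h : φ g with
    | xa i => rw [h, QuaternionGroup.orderOf_xa] at hg; omega
    | a i =>
      rw [h] at hg
      congr 1
      have h2 : QuaternionGroup.a i ^ 2 = 1 := hg ▸ pow_orderOf_eq_one _
      rw [pow_two, QuaternionGroup.a_mul_a, QuaternionGroup.one_def] at h2
      have h3 := QuaternionGroup.a.inj h2
      have hi : i ≠ 0 := fun e => by rw [e, ← QuaternionGroup.one_def, orderOf_one] at hg; omega
      have hd : 2 * k ∣ i.val + i.val := by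
        rw [← ZMod.natCast_eq_zero_iff]
        push_cast
        rw [ZMod.natCast_val, ZMod.cast_id]; exact h3
      have hlt := ZMod.val_lt i
      have hv : i.val ≠ 0 := fun e => hi ((ZMod.val_eq_zero i).mp e)
      obtain ⟨c, hc⟩ := hd
      rcases c with _ | _ | c
      · omega
      · rw [← ZMod.natCast_zmod_val i]; congr 1; omega
      · rw [show 2 * k * (c + 1 + 1) = 2 * k * c + 4 * k by ring] at hc
        omega
  intro H K hH hK
  have hgen : ∀ L : Subgroup G, Nat.card L = 2 → L = Subgroup.zpowers (φ.symm (QuaternionGroup.a (k : ZMod (2 * k)))) := by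
    intro L hL
    obtain ⟨⟨t, ht⟩, hto⟩ := exists_prime_orderOf_dvd_card' (G := L) 2 (by rw [hL])
    rw [Subgroup.orderOf_mk] at hto
    rw [← hinv t hto, φ.symm_apply_apply]
    exact (Subgroup.eq_of_le_of_card_ge (Subgroup.zpowers_le.mpr ht) (by rw [Nat.card_zpowers, hto, hL])).symm
  rw [hgen H hH, hgen K hK]

end

/-- Let q be a prime, V a non-trivial finite vector space over the field with q elements, and G a finite p-group (p prime) acting faithfully and linearly on V such that all G-orbits on the non-zero vectors have the same size. Then one of the following holds: G is cyclic or generalized quaternion and acts semiregularly on the non-zero vectors; or V has q² elements with q = 2^m − 1 and G is dihedral of order 2^(m+1) or semidihedral of order 2^(m+2); or V has q² elements with q = 2^m + 1 and, in suitable coordinates V = F_q², G is exactly the group of maps (x, y) ↦ (a x, ± a⁻¹ y) and (x, y) ↦ (± a⁻¹ y, a x) with a ≠ 0; or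 V has 81 elements (q = 3) and G is a 2-group. -/
theorem result (q : ℕ) [Fact q.Prime] {V : Type*} [AddCommGroup V] [Module (ZMod q) V] [Finite V] [Nontrivial V]
    {G : Type*} [Group G] [Finite G] (p : ℕ) [Fact p.Prime] (hG : IsPGroup p G)
    (ρ : G →* (V ≃ₗ[ZMod q] V)) (hρ : Function.Injective ρ)
    (hhalf : ∀ v w : V, v ≠ 0 → w ≠ 0 → Nat.card {u : V | ∃ g : G, ρ g v = u} = Nat.card {u : V | ∃ g : G, ρ g w = u}) :
    ((IsCyclic G ∨ ∃ n : ℕ, Nonempty (G ≃* QuaternionGroup n)) ∧ ∀ v : V, v ≠ 0 → ∀ g : G, ρ g v = v → g = 1) ∨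
    (Nat.card V = q ^ 2 ∧ ∃ m : ℕ, q = 2 ^ m - 1 ∧
      (Nonempty (G ≃* DihedralGroup (2 ^ m)) ∨ (Cfsg.IsQuasiDihedral G ∧ Nat.card G = 2 ^ (m + 2)))) ∨
    (Nat.card V = q ^ 2 ∧ (∃ m : ℕ, q = 2 ^ m + 1) ∧
      ∃ e : V ≃ₗ[ZMod q] (Fin 2 → ZMod q), ∀ f : (Fin 2 → ZMod q) ≃ₗ[ZMod q] (Fin 2 → ZMod q),
        (∃ g : G, f = e.symm.trans ((ρ g).trans e)) ↔
        ∃ a s : ZMod q, a ≠ 0 ∧ (s = 1 ∨ s = -1) ∧
          ((∀ v, f v = ![a * v 0, s * a⁻¹ * v 1]) ∨ (∀ v, f v = ![s * a⁻¹ * v 1, a * v 0]))) ∨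
    (Nat.card V = 81 ∧ q = 3 ∧ p = 2) := by
  classical
  have hp : p.Prime := Fact.out
  have heq : ∀ v w : V, v ≠ 0 → w ≠ 0 → Nat.card (stab ρ v) = Nat.card (stab ρ w) :=
    fun v w hv hw => card_stab ρ v w (hhalf v w hv hw)
  by_cases hns : ∀ v : V, v ≠ 0 → stab ρ v = ⊥
  · left
    refine ⟨?_, fun v hv g hg => Subgroup.mem_bot.mp (hns v hv ▸ (mem_stab ρ).mpr hg)⟩
    by_cases hqp : q = p
    · subst hqp
      letI : MulAction G V := MulAction.compHom V ρ
      obtain ⟨v, hv, hv0⟩ := hG.exists_fixed_point_of_prime_dvd_card_of_fixed_point V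
        (by
          haveI : Module.Finite (ZMod q) V := Module.Finite.of_finite
          rw [Module.natCard_eq_pow_finrank (K := ZMod q), Nat.card_zmod]
          exact dvd_pow_self q Module.finrank_pos.ne')
        (show (0 : V) ∈ MulAction.fixedPoints G V from fun g => map_zero (ρ g))
      have hsub : ∀ g : G, g = 1 := fun g => Subgroup.mem_bot.mp (hns v hv0.symm ▸ (mem_stab ρ).mpr (hv g))
      haveI : Subsingleton G := ⟨fun a b => by rw [hsub a, hsub b]⟩
      exact Or.inl inferInstance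
    · exact cyclic_or_quaternion_of_free ρ hG hqp hns
  have hqp : q ≠ p := by
    rintro rfl
    refine hns fun w hw => ?_
    letI : MulAction G V := MulAction.compHom V ρ
    obtain ⟨v, hv, hv0⟩ := hG.exists_fixed_point_of_prime_dvd_card_of_fixed_point V
      (by
        haveI : Module.Finite (ZMod q) V := Module.Finite.of_finite
        rw [Module.natCard_eq_pow_finrank (K := ZMod q), Nat.card_zmod]
        exact dvd_pow_self q Module.finrank_pos.ne')
      (show (0 : V) ∈ MulAction.fixedPoints G V from fun g => map_zero (ρ g))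
    have htop : stab ρ v = ⊤ := eq_top_iff.mpr fun g _ => hv g
    have hall : ∀ g : G, ∀ u, ρ g u = u := fun g u => by
      by_cases hu : u = 0
      · rw [hu, map_zero]
      have h1 : stab ρ u = ⊤ := Subgroup.eq_top_of_card_eq _ (by rw [heq u v hu hv0.symm, htop, Subgroup.card_top])
      exact (h1 ▸ Subgroup.mem_top g : g ∈ stab ρ u)
    exact (Subgroup.eq_bot_iff_forall _).mpr fun g _ => hρ (LinearEquiv.ext fun u => by rw [hall, map_one]; rfl)
  right
  by_cases hA : ∀ A : Subgroup G, A.Normal → IsMulCommutative A → IsCyclic A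
  · -- cyclic, quaternion, dihedral or semidihedral
    obtain ⟨v0, hv0, hv0'⟩ : ∃ v : V, v ≠ 0 ∧ stab ρ v ≠ ⊥ := by
      push Not at hns; exact hns
    have hone : (∀ H K : Subgroup G, Nat.card H = p → Nat.card K = p → H = K) → False := by
      intro hu
      haveI : Nontrivial G := by
        obtain ⟨g, -, hg⟩ := (Subgroup.bot_or_exists_ne_one _).resolve_left hv0'
        exact ⟨g, 1, hg⟩
      haveI := hG.center_nontrivial
      obtain ⟨⟨z, hz⟩, hzo⟩ := exists_prime_orderOf_dvd_card' (G := Subgroup.center G) p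
        ((hG.to_subgroup _).card_eq_or_dvd.resolve_left Finite.one_lt_card.ne')
      rw [Subgroup.orderOf_mk] at hzo
      haveI : Nontrivial (stab ρ v0) := (Subgroup.nontrivial_iff_ne_bot _).mpr hv0'
      obtain ⟨⟨t, ht⟩, hto⟩ := exists_prime_orderOf_dvd_card' (G := stab ρ v0) p ((hG.to_subgroup _).card_eq_or_dvd.resolve_left Finite.one_lt_card.ne')
      rw [Subgroup.orderOf_mk] at hto
      have h1 := hu (Subgroup.zpowers z) (Subgroup.zpowers t) (by rw [Nat.card_zpowers, hzo]) (by rw [Nat.card_zpowers, hto])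
      refine hns (free_of_central_fixed ρ hqp hρ heq (c := z) (fun h => ?_) (hzo ▸ pow_orderOf_eq_one z)
        (fun g => Subgroup.mem_center_iff.mp hz g) hv0 ?_)
      · rw [h, orderOf_one] at hzo; exact hp.ne_one hzo.symm
      · exact (Subgroup.zpowers_le.mpr ht) (h1 ▸ Subgroup.mem_zpowers z)
    rcases NAC.classify hG hA with hc | ⟨rfl, ⟨k, ⟨φ⟩⟩ | ⟨k, hk, ⟨φ⟩⟩ | hQ⟩
    · exact (hone fun H K hH hK => Cfsg.Agent.Grp.ThreeCounts.eq_of_card_cyclic (C := ⊤) (Subgroup.topEquiv.isCyclic.mpr hc) le_top le_top (hH.trans hK.symm)).elim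
    · exact (hone (quaternion_unique hG φ)).elim
    · obtain ⟨h1, m, h2, h3⟩ := dihedral_case ρ hρ hqp heq hns hG hk φ
      exact Or.inl ⟨h1, m, h2, Or.inl h3⟩
    · obtain ⟨h1, m, h2, h3⟩ := qd_case ρ hρ hqp heq hns hQ
      exact Or.inl ⟨h1, m, h2, Or.inr ⟨hQ, h3⟩⟩
  · push Not at hA
    obtain ⟨A, hA1, hA2, hA3⟩ := hA
    obtain ⟨z, e, hzo, hzc, hep, hez, hconj⟩ := exists_pair hG A hA1 hA2 hA3
    right
    rcases E_case ρ hqp hρ heq hns hG hzo hzc hep hez hconj with h | h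
    · exact Or.inl h
    · exact Or.inr h

end Cfsg.Agent.S3371
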