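import Cfsg.Statements.S3376
import Mathlib
-- import your own Cfsg.Agent.* helpers here

set_option autoImplicit false
open Cfsg

namespace Cfsg.Agent.S3376

theorem shift_table : ∀ i j k : ZMod 3, ¬ (i = 0 ∧ j = 0 ∧ k = 0) →
    (i = j ∧ j = k) ∨ ((k - i = i - j ∧ i - j = j - k) ∧ k - i ≠ 0) ∨
      (j + i + k ≠ 0) := by decide

theorem cube_alg {A : Type*} [CommGroup A] {u v w : A} (hv : v * v * v = 1) (hw : w * w * w = 1) :
    u / w / (w / v) / (w / v / (v / u)) = 1 := by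
  have h : u / w / (w / v) / (w / v / (v / u)) = (v * v * v) / (w * w * w) := by
    apply Additive.ofMul.injective
    simp only [ofMul_div, ofMul_mul]
    abel
  rw [h, hv, hw, div_one]

theorem norm_alg {A : Type*} [CommGroup A] (u v w : A) (hv : v * v * v = 1) :
    w * v⁻¹ * (u * v⁻¹) = u * v * w * (v⁻¹ * (v⁻¹ * v⁻¹)) := by
  apply Additive.ofMul.injective
  simp only [ofMul_inv, ofMul_mul]
  abel

theorem perm_cycleType {r : Equiv.Perm (Fin 9)} (h3 : r ^ 3 = 1) (hf : ∀ x, r x ≠ x) :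
    r.cycleType = Multiset.replicate 3 3 := by
  have h1 : ∀ n ∈ r.cycleType, n = 3 := fun n hn => by
    have hd := (Equiv.Perm.dvd_of_mem_cycleType hn).trans (orderOf_dvd_of_pow_eq_one h3)
    have h2 := Equiv.Perm.two_le_of_mem_cycleType hn
    rcases (Nat.dvd_prime Nat.prime_three).mp hd with h | h <;> omega
  have hs : r.cycleType.sum = 9 := by
    rw [Equiv.Perm.sum_cycleType, show r.support = Finset.univ from Finset.eq_univ_iff_forall.mpr fun x =>
      Equiv.Perm.mem_support.mpr (hf x)]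
    rfl
  have h2 := Multiset.eq_replicate_card.mpr h1
  rw [h2, Multiset.sum_replicate, smul_eq_mul] at hs
  rw [h2, show Multiset.card r.cycleType = 3 by omega]

theorem card_centralizer_perm {r : Equiv.Perm (Fin 9)} (h3 : r ^ 3 = 1) (hf : ∀ x, r x ≠ x) :
    Nat.card (Subgroup.centralizer ({r} : Set (Equiv.Perm (Fin 9)))) = 162 := by
  rw [Equiv.Perm.nat_card_centralizer, perm_cycleType h3 hf]
  decide

set_option maxHeartbeats 1000000 in
/-- Let G be a group of order 162 = 3⁴·2 with Sylow 3-subgroup S and Sylow 2-subgroup T, having an elementary abelian normal subgroup J of order 27, such that Z = Z(S) has order 3, Z centralizes T, and C_S(T) ≠ S. Then G is isomorphic to the centralizer in Sym(9) of a product of three disjoint 3-cycles. -/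
theorem result {G : Type*} [Group G] [Finite G] (hG : Nat.card G = 162)
    (S : Sylow 3 G) (T : Sylow 2 G) (J : Subgroup G) [hJn : J.Normal] (hJcomm : IsMulCommutative J)
    (hJexp : ∀ a ∈ J, a ^ 3 = 1) (hJcard : Nat.card J = 27)
    (Z : Subgroup G) (hZ : Z = (S : Subgroup G) ⊓ Subgroup.centralizer ((S : Subgroup G) : Set G)) (hZcard : Nat.card Z = 3)
    (hZT : Z ≤ Subgroup.centralizer ((T : Subgroup G) : Set G))
    (hST : (S : Subgroup G) ⊓ Subgroup.centralizer ((T : Subgroup G) : Set G) ≠ S) :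
    Nonempty (G ≃* Subgroup.centralizer ({Equiv.swap (0 : Fin 9) 1 * Equiv.swap 1 2 * Equiv.swap 3 4 * Equiv.swap 4 5 * Equiv.swap 6 7 * Equiv.swap 7 8} : Set (Equiv.Perm (Fin 9)))) := by
  haveI : Fact (Nat.Prime 3) := ⟨Nat.prime_three⟩
  haveI : Fact (Nat.Prime 2) := ⟨Nat.prime_two⟩
  have hScard : Nat.card (S : Subgroup G) = 81 := by
    rw [Sylow.card_eq_multiplicity, hG, show 162 = 3 ^ 4 * 2 by norm_num,
      Nat.factorization_mul (by norm_num) (by norm_num), Nat.Prime.factorization_pow Nat.prime_three,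
      Nat.Prime.factorization Nat.prime_two]
    simp
  have hTcard : Nat.card (T : Subgroup G) = 2 := by
    rw [Sylow.card_eq_multiplicity, hG, show 162 = 3 ^ 4 * 2 by norm_num,
      Nat.factorization_mul (by norm_num) (by norm_num), Nat.Prime.factorization_pow Nat.prime_three,
      Nat.Prime.factorization Nat.prime_two]
    simp
  have hSidx : (S : Subgroup G).index = 2 := by
    have := (S : Subgroup G).card_mul_index
    rw [hScard, hG] at this; omega
  have hSn : (S : Subgroup G).Normal := Subgroup.normal_of_index_eq_two hSidx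
  have hJS : J ≤ (S : Subgroup G) := by
    have hJp : IsPGroup 3 J := IsPGroup.of_card (n := 3) (by rw [hJcard]; norm_num)
    obtain ⟨P, hP⟩ := hJp.exists_le_sylow
    obtain ⟨g, hg⟩ := MulAction.exists_smul_eq G P S
    intro x hx
    rw [← hg]
    have h1 : g⁻¹ * x * g⁻¹⁻¹ ∈ P.toSubgroup := hP (hJn.conj_mem x hx g⁻¹)
    rw [Sylow.coe_subgroup_smul, Subgroup.mem_pointwise_smul_iff_inv_smul_mem]
    simpa using h1
  have hJi : J.relIndex (S : Subgroup G) = 3 := by
    have h1 := Subgroup.relIndex_mul_index hJS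
    have h2 := J.card_mul_index
    rw [hJcard, hG] at h2
    rw [hSidx] at h1
    omega
  have hJc : ∀ u ∈ J, ∀ v ∈ J, u * v = v * u := fun u hu v hv =>
    congrArg Subtype.val (hJcomm.is_comm.comm ⟨u, hu⟩ ⟨v, hv⟩)
  obtain ⟨⟨t, htT⟩, ht1⟩ : ∃ t : (T : Subgroup G), t ≠ 1 := by
    haveI : Nontrivial (T : Subgroup G) := Finite.one_lt_card_iff_nontrivial.mp (by rw [hTcard]; norm_num)
    exact exists_ne 1
  have htt : t * t = 1 := by
    have h := pow_card_eq_one' (x := (⟨t, htT⟩ : (T : Subgroup G)))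
    rw [hTcard, pow_two] at h
    exact congrArg Subtype.val h
  have hti : t⁻¹ = t := inv_eq_of_mul_eq_one_left htt
  have htS : t ∉ (S : Subgroup G) := fun h => ht1 (Subtype.ext (by
    have h1 := orderOf_dvd_of_pow_eq_one (show t ^ 2 = 1 by rw [pow_two, htt])
    have h2 := Subgroup.orderOf_dvd_natCard _ h
    rw [hScard] at h2
    exact orderOf_eq_one_iff.mp (Nat.dvd_one.mp (by simpa using Nat.dvd_gcd h1 h2))))
  have hTgen : ∀ u ∈ (T : Subgroup G), u = 1 ∨ u = t := by
    intro u hu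
    obtain ⟨w, -, hw⟩ := (Nat.card_eq_two_iff' (1 : (T : Subgroup G))).mp hTcard
    by_cases hu1 : u = 1
    · exact Or.inl hu1
    · exact Or.inr (congrArg Subtype.val ((hw ⟨u, hu⟩ fun e => hu1 (congrArg Subtype.val e)).trans
        (hw ⟨t, htT⟩ ht1).symm))
  have hZ' : ∀ u, u ∈ (S : Subgroup G) → (∀ v ∈ (S : Subgroup G), v * u = u * v) → u ∈ Z := fun u hu h => by
    rw [hZ]; exact ⟨hu, Subgroup.mem_centralizer_iff.mpr h⟩
  have hZS : ∀ u ∈ Z, u ∈ (S : Subgroup G) ∧ ∀ v ∈ (S : Subgroup G), v * u = u * v := fun u hu => by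
    rw [hZ] at hu; exact ⟨hu.1, Subgroup.mem_centralizer_iff.mp hu.2⟩
  -- an element outside `J`
  obtain ⟨x₀, hx₀S, hx₀J⟩ : ∃ x, x ∈ (S : Subgroup G) ∧ x ∉ J := by
    by_contra h
    push Not at h
    have h1 := Subgroup.card_le_of_le (show (S : Subgroup G) ≤ J from h)
    rw [hScard, hJcard] at h1
    omega
  have hJsub : (J.subgroupOf (S : Subgroup G)).Normal := inferInstance
  have hcube : ∀ y ∈ (S : Subgroup G), y ^ 3 ∈ J := fun y hy => by
    have := Subgroup.pow_index_mem (J.subgroupOf (S : Subgroup G)) ⟨y, hy⟩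
    rw [← Subgroup.relIndex, hJi] at this
    exact this
  have hdecomp : ∀ x, x ∈ (S : Subgroup G) → x ∉ J → ∀ y ∈ (S : Subgroup G), ∃ i : ℕ, (x ^ i)⁻¹ * y ∈ J := by
    intro x hx hxJ y hy
    have htop : Subgroup.zpowers (QuotientGroup.mk (s := J.subgroupOf (S : Subgroup G)) ⟨x, hx⟩) = ⊤ := by
      refine zpowers_eq_top_of_prime_card (p := 3) (by rw [← Subgroup.index_eq_card]; exact hJi) fun h => hxJ ?_
      rw [QuotientGroup.eq_one_iff] at h
      exact h
    obtain ⟨i, hi⟩ := (isOfFinOrder_of_finite _).mem_powers_iff_mem_zpowers.mpr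
      (htop ▸ Subgroup.mem_top (QuotientGroup.mk (s := J.subgroupOf (S : Subgroup G)) ⟨y, hy⟩))
    refine ⟨i, ?_⟩
    change (QuotientGroup.mk (s := J.subgroupOf (S : Subgroup G)) ⟨x, hx⟩) ^ i = _ at hi
    rw [← QuotientGroup.mk_pow, QuotientGroup.eq] at hi
    exact hi
  have hgenS : ∀ x, x ∈ (S : Subgroup G) → x ∉ J → ∀ u, x * u = u * x → (∀ v ∈ J, v * u = u * v) →
      ∀ v ∈ (S : Subgroup G), v * u = u * v := fun x hx hxJ u hxu hJu v hv => by
    obtain ⟨i, hi⟩ := hdecomp x hx hxJ v hv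
    rw [show v = x ^ i * ((x ^ i)⁻¹ * v) by group]
    exact ((Commute.pow_left hxu i).mul_left (hJu _ hi)).eq
  have hZJ : ∀ u ∈ Z, u ∈ J := by
    intro u hu
    by_contra huJ
    obtain ⟨huS, huc⟩ := hZS u hu
    have hall : ∀ v ∈ (S : Subgroup G), v ∈ Z := fun v hv => hZ' v hv fun w hw =>
      (hgenS u huS huJ v (huc v hv).symm (fun r hr => by
        obtain ⟨i, hi⟩ := hdecomp u huS huJ v hv
        rw [show v = u ^ i * ((u ^ i)⁻¹ * v) by group]
        exact ((Commute.pow_right (huc r (hJS hr)) i).mul_right (hJc r hr _ hi)).eq) w hw)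
    have h1 := Subgroup.card_le_of_le (show (S : Subgroup G) ≤ Z from hall)
    rw [hScard, hZcard] at h1
    omega
  have htZ : ∀ u ∈ Z, t * u = u * t := fun u hu => Subgroup.mem_centralizer_iff.mp (hZT hu) t htT
  have hSt : ∀ y ∈ (S : Subgroup G), t * y * t ∈ (S : Subgroup G) := fun y hy => by
    have := hSn.conj_mem y hy t; rwa [hti] at this
  -- if `t` centralized a generator modulo `J`, it would centralize `S`
  obtain ⟨x, hxS, hxJ, hxt⟩ : ∃ x, x ∈ (S : Subgroup G) ∧ x ∉ J ∧ t * x * t = x⁻¹ := by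
    refine ⟨x₀⁻¹ * (t * x₀ * t), mul_mem (inv_mem hx₀S) (hSt _ hx₀S), fun hJ' => ?_, ?_⟩
    swap
    · calc t * (x₀⁻¹ * (t * x₀ * t)) * t = (t * x₀⁻¹ * t) * x₀ * (t * t) := by group
        _ = (t * x₀⁻¹ * t⁻¹) * x₀ := by rw [htt, mul_one, hti]
        _ = (x₀⁻¹ * (t * x₀ * t⁻¹))⁻¹ := by group
        _ = (x₀⁻¹ * (t * x₀ * t))⁻¹ := by rw [hti]
    -- all graded pieces are centralized
    refine hST (le_antisymm inf_le_left fun y hy => ⟨hy, Subgroup.mem_centralizer_iff.mpr fun u hu => ?_⟩)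
    rcases hTgen u hu with hu' | hu' <;> rw [hu']
    · rw [one_mul, mul_one]
    have hstep : ∀ (H : Subgroup G), H ≤ (S : Subgroup G) → (∀ h ∈ H, t * h * t = h) → ∀ a ∈ (S : Subgroup G),
        a⁻¹ * (t * a * t) ∈ H → t * a * t = a := by
      intro H hHS hH a ha hc
      set c := a⁻¹ * (t * a * t) with hcdef
      have h1 : c * c = 1 := by
        have h2 : t * (t * a * t) * t = a := by
          rw [show t * (t * a * t) * t = (t * t) * a * (t * t) by group, htt, one_mul, mul_one]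
        rw [show t * a * t = a * c by rw [hcdef]; group,
          show t * (a * c) * t = (t * a * t⁻¹) * (t * c * t) by group, hti, hH c hc,
          show t * a * t = a * c by rw [hcdef]; group, mul_assoc] at h2
        exact mul_eq_left.mp h2
      have h3 : c = 1 := orderOf_eq_one_iff.mp (by
        have h4 := orderOf_dvd_of_pow_eq_one (show c ^ 2 = 1 by rw [pow_two, h1])
        have h5 := Subgroup.orderOf_dvd_natCard _ (hHS hc)
        rw [hScard] at h5
        exact Nat.dvd_one.mp (by simpa using Nat.dvd_gcd h4 h5))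
      rw [hcdef, inv_mul_eq_one] at h3
      exact h3.symm
    have hcomm : ∀ a ∈ J, x₀ * (t * a * t) * x₀⁻¹ * (t * a * t)⁻¹ = t * (x₀ * a * x₀⁻¹ * a⁻¹) * t := by
      intro a ha
      set h' := x₀⁻¹ * (t * x₀ * t) with hh'
      have ha' : t * a * t ∈ J := by have := hJn.conj_mem a ha t; rwa [hti] at this
      calc x₀ * (t * a * t) * x₀⁻¹ * (t * a * t)⁻¹ = x₀ * (h' * (t * a * t) * h'⁻¹) * x₀⁻¹ * (t * a * t)⁻¹ := by
            rw [hJc h' hJ' _ ha', mul_inv_cancel_right]
        _ = t * x₀ * t * t * a * t * t⁻¹ * x₀⁻¹ * t⁻¹ * (t⁻¹ * a⁻¹ * t⁻¹) := by rw [hh']; group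
        _ = t * (x₀ * a * x₀⁻¹ * a⁻¹) * t := by
            rw [hti, show t * x₀ * t * t * a * t * t * x₀⁻¹ * t * (t * a⁻¹ * t) =
              t * x₀ * (t * t) * a * (t * t) * x₀⁻¹ * (t * t) * a⁻¹ * t by group, htt]
            group
    -- the second centre
    let K : Subgroup G :=
      { carrier := {a | a ∈ J ∧ x₀ * a * x₀⁻¹ * a⁻¹ ∈ Z}
        one_mem' := ⟨one_mem _, by simp [one_mem]⟩
        mul_mem' := by
          rintro a b ⟨ha, ha'⟩ ⟨hb, hb'⟩
          refine ⟨mul_mem ha hb, ?_⟩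
          rw [show x₀ * (a * b) * x₀⁻¹ * (a * b)⁻¹ = (x₀ * a * x₀⁻¹) * (x₀ * b * x₀⁻¹ * b⁻¹) * a⁻¹ by group,
            show (x₀ * a * x₀⁻¹) * (x₀ * b * x₀⁻¹ * b⁻¹) = (x₀ * b * x₀⁻¹ * b⁻¹) * (x₀ * a * x₀⁻¹) from
              hJc _ (hJn.conj_mem a ha x₀) _ (hZJ _ hb'), mul_assoc]
          exact mul_mem hb' ha'
        inv_mem' := by
          rintro a ⟨ha, ha'⟩
          refine ⟨inv_mem ha, ?_⟩
          rw [show x₀ * a⁻¹ * x₀⁻¹ * a⁻¹⁻¹ = (a⁻¹ * (x₀ * a * x₀⁻¹))⁻¹ by group,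
            hJc _ (inv_mem ha) _ (hJn.conj_mem a ha x₀)]
          exact inv_mem ha' }
    have hZfix : ∀ h ∈ Z, t * h * t = h := fun h hh => by rw [htZ h hh, mul_assoc, htt, mul_one]
    have hzero : ∀ a ∈ J, x₀ * (a⁻¹ * (t * a * t)) * x₀⁻¹ * (a⁻¹ * (t * a * t))⁻¹ =
        (x₀ * a * x₀⁻¹ * a⁻¹)⁻¹ * (x₀ * (t * a * t) * x₀⁻¹ * (t * a * t)⁻¹) := by
      intro a ha
      have ha' : t * a * t ∈ J := by have := hJn.conj_mem a ha t; rwa [hti] at this
      set c := x₀ * a * x₀⁻¹ with hc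
      set d := x₀ * (t * a * t) * x₀⁻¹ with hd
      have hcm : c ∈ J := hJn.conj_mem a ha x₀
      have hdm : d ∈ J := hJn.conj_mem _ ha' x₀
      calc _ = (c⁻¹ * (d * (t * a * t)⁻¹)) * a := by rw [hc, hd]; group
        _ = a * (c⁻¹ * (d * (t * a * t)⁻¹)) :=
            (hJc _ ha _ (mul_mem (inv_mem hcm) (mul_mem hdm (inv_mem ha')))).symm
        _ = _ := by group
    have hkerZ : ∀ a ∈ J, x₀ * a * x₀⁻¹ * a⁻¹ = 1 → a ∈ Z := fun a ha h =>
      hZ' a (hJS ha) (hgenS x₀ hx₀S hx₀J a (mul_inv_eq_iff_eq_mul.mp (mul_inv_eq_one.mp h)) (fun v hv => hJc v hv a ha))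
    have hKfix : ∀ a ∈ K, t * a * t = a := fun a ha => hstep Z (fun h hh => (hZS h hh).1) hZfix a (hJS ha.1) (by
      refine hkerZ _ (mul_mem (inv_mem ha.1) (by have := hJn.conj_mem a ha.1 t; rwa [hti] at this)) ?_
      rw [hzero a ha.1, hcomm a ha.1, hZfix _ ha.2, inv_mul_cancel])
    have hJfix : ∀ a ∈ J, t * a * t = a := fun a ha => hstep K (fun h hh => hJS hh.1) hKfix a (hJS ha) (by
      refine ⟨mul_mem (inv_mem ha) (by have := hJn.conj_mem a ha t; rwa [hti] at this), ?_⟩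
      rw [hzero a ha, hcomm a ha, hKfix (x₀ * a * x₀⁻¹ * a⁻¹) ⟨mul_mem (hJn.conj_mem a ha x₀) (inv_mem ha), ?_⟩,
        inv_mul_cancel]
      · exact one_mem _
      set δa := x₀ * a * x₀⁻¹ * a⁻¹ with hδ
      have hδJ : δa ∈ J := mul_mem (hJn.conj_mem a ha x₀) (inv_mem ha)
      -- the third commutator vanishes
      refine hkerZ _ (mul_mem (hJn.conj_mem _ hδJ x₀) (inv_mem hδJ)) ?_
      let A : CommGroup J := { (inferInstance : Group J) with mul_comm := hJcomm.is_comm.comm }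
      let c : J →* J :=
        { toFun := fun u => ⟨x₀ * u * x₀⁻¹, hJn.conj_mem u u.2 x₀⟩
          map_one' := Subtype.ext (by simp)
          map_mul' := fun u v => Subtype.ext (by simp [mul_assoc]) }
      have hc3 : ∀ u : J, c (c (c u)) = u := fun u => Subtype.ext (by
        show x₀ * (x₀ * (x₀ * u * x₀⁻¹) * x₀⁻¹) * x₀⁻¹ = u
        rw [show x₀ * (x₀ * (x₀ * (u : G) * x₀⁻¹) * x₀⁻¹) * x₀⁻¹ = x₀ ^ 3 * u * (x₀ ^ 3)⁻¹ by simp [pow_succ, mul_assoc],
          hJc _ (hcube x₀ hx₀S) u u.2, mul_inv_cancel_right])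
      have hu3 : ∀ u : J, u ^ 3 = 1 := fun u => Subtype.ext (hJexp u u.2)
      have key : ∀ u : J, c (c (c u / u) / (c u / u)) / (c (c u / u) / (c u / u)) = 1 := fun u => by
        rw [map_div, map_div, map_div, hc3]
        exact cube_alg (by rw [← pow_two, ← pow_succ]; exact hu3 (c u)) (by rw [← pow_two, ← pow_succ]; exact hu3 (c (c u)))
      have := congrArg Subtype.val (key ⟨a, ha⟩)
      simpa [c, div_eq_mul_inv, hδ] using this)
    have hx : t * x₀ * t = x₀ := hstep J hJS hJfix x₀ hx₀S hJ'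
    obtain ⟨i, hi⟩ := hdecomp x₀ hx₀S hx₀J y hy
    have hc1 : Commute t x₀ := by
      show t * x₀ = x₀ * t
      conv_rhs => rw [← hx]
      rw [mul_assoc, htt, mul_one]
    have hc2 : Commute t ((x₀ ^ i)⁻¹ * y) := by
      show t * _ = _ * t
      conv_rhs => rw [← hJfix _ hi]
      rw [mul_assoc (t * _), htt, mul_one]
    have := ((hc1.pow_right i).mul_right hc2).eq
    rwa [mul_inv_cancel_left] at this
  have hx3 : x ^ 3 = 1 := by
    have hm : x ^ 3 ∈ Z := hZ' _ (Subgroup.pow_mem _ hxS 3) (hgenS x hxS hxJ _ (Commute.self_pow x 3).eq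
      fun v hv => hJc v hv _ (hcube x hxS))
    have h1 : t * x ^ 3 * t = (x ^ 3)⁻¹ := by
      have h := congrArg (fun g => g ^ 3) hxt
      rw [show t * x * t = t * x * t⁻¹ by rw [hti], conj_pow, hti, inv_pow] at h
      exact h
    rw [htZ _ hm, mul_assoc, htt, mul_one, eq_inv_iff_mul_eq_one] at h1
    have h2 := orderOf_dvd_of_pow_eq_one (show (x ^ 3) ^ 2 = 1 by rw [pow_two, h1])
    have h3 := Subgroup.orderOf_dvd_natCard _ (Subgroup.pow_mem _ hxS 3)
    rw [hScard] at h3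
    exact orderOf_eq_one_iff.mp (Nat.dvd_one.mp (by simpa using Nat.dvd_gcd h2 h3))
  letI A : CommGroup J := { (inferInstance : Group J) with mul_comm := hJcomm.is_comm.comm }
  let c : J →* J :=
    { toFun := fun u => ⟨x * u * x⁻¹, hJn.conj_mem u u.2 x⟩
      map_one' := Subtype.ext (by simp)
      map_mul' := fun u v => Subtype.ext (by simp [mul_assoc]) }
  let τ : J →* J :=
    { toFun := fun u => ⟨t * u * t, by have := hJn.conj_mem u u.2 t; rwa [hti] at this⟩
      map_one' := Subtype.ext (by simp [htt])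
      map_mul' := fun u v => Subtype.ext (by
        show t * ((u : G) * v) * t = (t * u * t) * (t * v * t)
        rw [show (t * (u : G) * t) * (t * v * t) = t * u * (t * t) * v * t by group, htt]; group) }
  have hc3 : ∀ u : J, c (c (c u)) = u := fun u => Subtype.ext (by
    show x * (x * (x * u * x⁻¹) * x⁻¹) * x⁻¹ = u
    rw [show x * (x * (x * (u : G) * x⁻¹) * x⁻¹) * x⁻¹ = x ^ 3 * u * (x ^ 3)⁻¹ by simp [pow_succ, mul_assoc], hx3]
    simp)
  have hττ : ∀ u : J, τ (τ u) = u := fun u => Subtype.ext (by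
    show t * (t * u * t) * t = u
    rw [show t * (t * (u : G) * t) * t = (t * t) * u * (t * t) by group, htt]; simp)
  have htx : x * t = t * x⁻¹ := by
    rw [← hxt, ← mul_assoc, ← mul_assoc, htt, one_mul]
  have hxit : t * x = x⁻¹ * t := by
    rw [← hxt, mul_assoc (t * x), htt, mul_one]
  have hτc : ∀ u : J, τ (c u) = c (c (τ u)) := fun u => Subtype.ext (by
    show t * (x * u * x⁻¹) * t = x * (x * (t * u * t) * x⁻¹) * x⁻¹
    have hxi : x⁻¹ = x * x := inv_eq_of_mul_eq_one_left (by rw [← pow_two, ← pow_succ]; exact hx3)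
    calc t * (x * (u : G) * x⁻¹) * t = (t * x) * u * (x⁻¹ * t) := by group
      _ = (x⁻¹ * t) * u * (t * x) := by rw [hxit, ← hxit]
      _ = (x * x) * (t * u * t) * x := by rw [← hxi]; group
      _ = x * (x * (t * u * t) * x⁻¹) * x⁻¹ := by
        have hx' : x = x⁻¹ * x⁻¹ := by rw [← mul_inv_rev, eq_inv_iff_mul_eq_one, ← mul_assoc, ← pow_two, ← pow_succ, hx3]
        conv_lhs => arg 2; rw [hx']
        group)
  have hu3 : ∀ u : J, u * u * u = 1 := fun u => by
    have := hJexp u u.2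
    exact Subtype.ext (by simpa [pow_succ] using this)
  let N : J →* J :=
    { toFun := fun u => u * c u * c (c u)
      map_one' := by simp
      map_mul' := fun u v => by rw [map_mul, map_mul]; ac_rfl }
  have hkerc : ∀ u : J, c u = u → (u : G) ∈ Z := fun u h => by
    refine hZ' _ (hJS u.2) (hgenS x hxS hxJ _ ?_ fun v hv => hJc v hv u u.2)
    exact mul_inv_eq_iff_eq_mul.mp (congrArg Subtype.val h)
  have hNZ : ∀ u : J, (N u : G) ∈ Z := fun u => hkerc _ (by
    show c (u * c u * c (c u)) = u * c u * c (c u)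
    rw [map_mul, map_mul, hc3]; ac_rfl)
  -- the norm is not trivial
  obtain ⟨b, hb⟩ : ∃ b : J, N b ≠ 1 := by
    by_contra hall
    push Not at hall
    let δ : J →* J :=
      { toFun := fun u => c u / u
        map_one' := by simp
        map_mul' := fun u v => by rw [map_mul, mul_div_mul_comm] }
    have hδδ : ∀ u : J, δ (δ u) = 1 := fun u => by
      show c (c u / u) / (c u / u) = 1
      rw [map_div, div_eq_mul_inv, div_eq_mul_inv, div_eq_mul_inv, mul_inv_rev, inv_inv]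
      calc c (c u) * (c u)⁻¹ * (u * (c u)⁻¹) = (u * c u * c (c u)) * (c u * c u * c u)⁻¹ := by
            rw [mul_inv_rev, mul_inv_rev]; exact norm_alg _ _ _ (hu3 _)
        _ = 1 := by rw [hu3, inv_one, mul_one]; exact hall u
    have hk3 : Nat.card δ.ker ≤ 3 := by
      rw [← hZcard, ← Subgroup.card_map_of_injective J.subtype_injective]
      refine Subgroup.card_le_of_le ?_
      rintro _ ⟨u, hu, rfl⟩
      exact hkerc u (div_eq_one.mp hu)
    have h1 := δ.ker.card_mul_index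
    rw [Subgroup.index_ker, hJcard] at h1
    have h2 : Nat.card δ.range ≤ Nat.card δ.ker := Subgroup.card_le_of_le (by
      rintro _ ⟨u, rfl⟩; exact hδδ u)
    nlinarith
  let a := b * τ b
  have hτa : τ a = a := by rw [map_mul, hττ, mul_comm]
  have hτN : ∀ u, τ (N u) = N u := fun u => Subtype.ext (by
    show t * (N u : G) * t = _
    rw [htZ _ (hNZ u), mul_assoc, htt, mul_one])
  have hNτ : ∀ u, N (τ u) = τ (N u) := fun u => by
    show τ u * c (τ u) * c (c (τ u)) = τ (u * c u * c (c u))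
    rw [map_mul, map_mul, hτc u, hτc (c u), hτc u, hc3]
    ac_rfl
  set z := N a with hz
  have hz1 : z ≠ 1 := fun h => hb (by
    have h1 : N b * N b = 1 := by
      rw [hz, map_mul, hNτ, hτN] at h
      exact h
    have := hu3 (N b)
    rwa [h1, one_mul] at this)
  have hzc : c z = z := by
    show c (a * c a * c (c a)) = a * c a * c (c a)
    rw [map_mul, map_mul, hc3]; ac_rfl
  have hzN : ∀ i : ℕ, z ^ i = 1 → 3 ∣ i := fun i h => by
    have h3 : orderOf z = 3 := orderOf_eq_prime (by rw [pow_succ, pow_two]; exact hu3 z) hz1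
    exact h3 ▸ orderOf_dvd_of_pow_eq_one h
  -- coordinates on `J`
  have hexp : ∀ u : J, ∀ m : ℕ, u ^ m = u ^ (m % 3) := fun u m => by
    conv_lhs => rw [← Nat.mod_add_div m 3]
    rw [pow_add, pow_mul, show u ^ 3 = 1 by rw [pow_succ, pow_two]; exact hu3 u, one_pow, mul_one]
  let ψ : ZMod 3 → ZMod 3 → ZMod 3 → J := fun i j k => a ^ i.val * c a ^ j.val * c (c a) ^ k.val
  have hψmul : ∀ i j k i' j' k', ψ i j k * ψ i' j' k' = ψ (i + i') (j + j') (k + k') := fun i j k i' j' k' => by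
    show (_ * _ * _) * (_ * _ * _) = a ^ (i + i').val * c a ^ (j + j').val * c (c a) ^ (k + k').val
    rw [ZMod.val_add, ← hexp, ZMod.val_add, ← hexp, ZMod.val_add, ← hexp, pow_add, pow_add, pow_add]
    ac_rfl
  have hψc : ∀ i j k, c (ψ i j k) = ψ k i j := fun i j k => by
    show c (_ * _ * _) = _
    rw [map_mul, map_mul, map_pow, map_pow, map_pow, hc3]
    show _ = a ^ k.val * c a ^ i.val * c (c a) ^ j.val
    ac_rfl
  have hψτ : ∀ i j k, τ (ψ i j k) = ψ i k j := fun i j k => by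
    show τ (_ * _ * _) = _
    rw [map_mul, map_mul, map_pow, map_pow, map_pow, hτc (c a), hτc a, hτa]
    rw [hc3]
    show _ = a ^ i.val * c a ^ k.val * c (c a) ^ j.val
    ac_rfl
  have hψ0 : ψ 0 0 0 = 1 := by simp [ψ]
  have hψd : ∀ i, ψ i i i = z ^ i.val := fun i => by
    show _ = (a * c a * c (c a)) ^ i.val
    rw [mul_pow, mul_pow]
  have hψinj0 : ∀ i j k, ψ i j k = 1 → i = 0 ∧ j = 0 ∧ k = 0 := by
    intro i j k h
    by_contra hne
    have hd : ∀ r, ψ r r r = 1 → r = 0 := fun r hr => by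
      rw [hψd] at hr
      have := hzN _ hr
      have hlt := ZMod.val_lt r
      exact (ZMod.val_eq_zero r).mp (by omega)
    have h1 : ψ k i j = 1 := by rw [← hψc, h, map_one]
    have h2 : ψ j k i = 1 := by rw [← hψc, h1, map_one]
    rcases shift_table i j k hne with ⟨e1, e2⟩ | ⟨⟨e1, e2⟩, e3⟩ | e
    · subst e1; subst e2; exact hne ⟨hd _ h, hd _ h, hd _ h⟩
    · have h4 : ψ (k - i) (i - j) (j - k) = 1 := by
        have h5 := hψmul (k - i) (i - j) (j - k) i j k
        rw [sub_add_cancel, sub_add_cancel, sub_add_cancel, h1, h, mul_one] at h5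
        exact h5
      rw [← e1] at e2
      rw [← e1, ← e2] at h4
      exact e3 (hd _ h4)
    · have h5 := hψmul (i + k) (j + i) (k + j) j k i
      rw [← hψmul i j k k i j, h, h1, h2, one_mul, one_mul, show i + k + j = j + i + k by ring,
        show j + i + k = j + i + k from rfl, show k + j + i = j + i + k by ring] at h5
      exact e (hd _ h5.symm)
  have hψinj : ∀ i j k i' j' k', ψ i j k = ψ i' j' k' → i = i' ∧ j = j' ∧ k = k' := fun i j k i' j' k' h => by
    have h1 : ψ (i - i') (j - j') (k - k') * ψ i' j' k' = ψ i' j' k' := by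
      rw [hψmul, sub_add_cancel, sub_add_cancel, sub_add_cancel, h]
    obtain ⟨a1, a2, a3⟩ := hψinj0 _ _ _ (mul_eq_right.mp h1)
    exact ⟨sub_eq_zero.mp a1, sub_eq_zero.mp a2, sub_eq_zero.mp a3⟩
  have hψτG : ∀ i j k, t * (ψ i j k : G) * t = ψ i k j := fun i j k => congrArg Subtype.val (hψτ i j k)
  have hψmulG : ∀ i j k i' j' k', (ψ i j k : G) * ψ i' j' k' = ψ (i + i') (j + j') (k + k') :=
    fun i j k i' j' k' => congrArg Subtype.val (hψmul i j k i' j' k')
  let U : Subgroup G :=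
    { carrier := {g | ∃ j k, g = (ψ 0 j k : G) ∨ g = (ψ 0 j k : G) * t}
      one_mem' := ⟨0, 0, Or.inl (by rw [hψ0]; rfl)⟩
      mul_mem' := by
        rintro g h ⟨j, k, rfl | rfl⟩ ⟨j', k', rfl | rfl⟩
        · exact ⟨j + j', k + k', Or.inl (by rw [hψmulG, add_zero])⟩
        · exact ⟨j + j', k + k', Or.inr (by rw [← mul_assoc, hψmulG, add_zero])⟩
        · refine ⟨j + k', k + j', Or.inr ?_⟩
          have h2 : t * (ψ 0 j' k' : G) = ψ 0 k' j' * t := by rw [← hψτG 0 j' k', mul_assoc (t * _), htt, mul_one]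
          rw [mul_assoc, h2, ← mul_assoc, hψmulG, add_zero]
        · refine ⟨j + k', k + j', Or.inl ?_⟩
          rw [show (ψ 0 j k : G) * t * ((ψ 0 j' k' : G) * t) = ψ 0 j k * (t * ψ 0 j' k' * t) by group, hψτG, hψmulG,
            add_zero]
      inv_mem' := by
        rintro g ⟨j, k, rfl | rfl⟩
        · refine ⟨-j, -k, Or.inl (inv_eq_of_mul_eq_one_right ?_)⟩
          rw [hψmulG, add_zero, add_neg_cancel, add_neg_cancel, hψ0]; rfl
        · refine ⟨-k, -j, Or.inr (inv_eq_of_mul_eq_one_right ?_)⟩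
          rw [show (ψ 0 j k : G) * t * ((ψ 0 (-k) (-j) : G) * t) = ψ 0 j k * (t * ψ 0 (-k) (-j) * t) by group, hψτG,
            hψmulG, add_zero, add_neg_cancel, add_neg_cancel, hψ0]; rfl }
  have htJ : t ∉ J := fun h => htS (hJS h)
  have hUcard : Nat.card U = 18 := by
    let f : ZMod 3 × ZMod 3 × Bool → U := fun p =>
      match p with
      | (j, k, false) => ⟨ψ 0 j k, j, k, Or.inl rfl⟩
      | (j, k, true) => ⟨(ψ 0 j k : G) * t, j, k, Or.inr rfl⟩
    have hnot : ∀ j k j' k', (ψ 0 j k : G) ≠ (ψ 0 j' k' : G) * t := fun j k j' k' h => htJ (by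
      rw [show t = (ψ 0 j' k' : G)⁻¹ * ψ 0 j k by rw [h, inv_mul_cancel_left]]
      exact mul_mem (inv_mem (ψ 0 j' k').2) (ψ 0 j k).2)
    have hf : Function.Bijective f := by
      refine ⟨?_, ?_⟩
      · rintro ⟨j, k, e⟩ ⟨j', k', e'⟩ h
        have h' := congrArg Subtype.val h
        cases e <;> cases e' <;> simp only [f] at h'
        · obtain ⟨-, rfl, rfl⟩ := hψinj _ _ _ _ _ _ (Subtype.ext h'); rfl
        · exact absurd h' (hnot _ _ _ _)
        · exact absurd h'.symm (hnot _ _ _ _)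
        · obtain ⟨-, rfl, rfl⟩ := hψinj _ _ _ _ _ _ (Subtype.ext (mul_right_cancel h')); rfl
      · rintro ⟨g, j, k, rfl | rfl⟩
        · exact ⟨(j, k, false), rfl⟩
        · exact ⟨(j, k, true), rfl⟩
    rw [← Nat.card_eq_of_bijective f hf]
    simp [Nat.card_prod]
  have hUidx : U.index = 9 := by
    have := U.card_mul_index
    rw [hUcard, hG] at this; omega
  have hUJ : ∀ g ∈ U, g ∈ J → ∃ j k, g = (ψ 0 j k : G) := by
    rintro g ⟨j, k, rfl | rfl⟩ hg
    · exact ⟨j, k, rfl⟩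
    · exact absurd ((J.mul_mem_cancel_left (ψ 0 j k).2).mp hg) htJ
  have hzU : ((z : J) : G) ∉ U := fun h => by
    obtain ⟨j, k, hjk⟩ := hUJ _ h z.2
    have h0 : z = ψ 1 1 1 := by rw [hψd, show (1 : ZMod 3).val = 1 from rfl, pow_one]
    exact one_ne_zero (hψinj 1 1 1 0 j k (h0.symm.trans (Subtype.ext hjk))).1
  have hzcen : ∀ g : G, g * (z : G) = (z : G) * g := by
    have hcen : ∀ v ∈ (S : Subgroup G), v * (z : G) = z * v := (hZS _ (hNZ a)).2
    intro g
    by_cases hg : g ∈ (S : Subgroup G)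
    · exact hcen g hg
    · have h1 : t⁻¹ * g ∈ (S : Subgroup G) := by
        rw [Subgroup.mul_mem_iff_of_index_two hSidx]
        exact iff_of_false (fun h => htS (by simpa using inv_mem h)) hg
      rw [show g = t * (t⁻¹ * g) by group, mul_assoc, hcen _ h1, ← mul_assoc, htZ _ (hNZ a), mul_assoc]
  have hcore : U.normalCore = ⊥ := by
    refine (Subgroup.eq_bot_iff_forall _).mpr fun g hg => ?_
    haveI := Subgroup.normalCore_normal U
    have hKJ : U.normalCore ⊓ J = ⊥ := by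
      by_contra hne
      obtain ⟨⟨w, hw⟩, hw1⟩ := Subgroup.ne_bot_iff_exists_ne_one.mp hne
      obtain ⟨j, k, hjk⟩ := hUJ w (Subgroup.normalCore_le U hw.1) hw.2
      have hmv : ∀ i j k, (ψ i j k : G) ∈ U.normalCore → (ψ k i j : G) ∈ U.normalCore := fun i j k h => by
        have := (Subgroup.normalCore_normal U).conj_mem _ h x
        rwa [show x * (ψ i j k : G) * x⁻¹ = ψ k i j from congrArg Subtype.val (hψc i j k)] at this
      have h1 : (ψ 0 j k : G) ∈ U.normalCore := hjk ▸ hw.1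
      obtain ⟨j1, k1, e1⟩ := hUJ _ (Subgroup.normalCore_le U (hmv _ _ _ h1)) (ψ k 0 j).2
      have ek : k = 0 := (hψinj _ _ _ _ _ _ (Subtype.ext e1)).1
      obtain ⟨j2, k2, e2⟩ := hUJ _ (Subgroup.normalCore_le U (hmv _ _ _ (hmv _ _ _ h1))) (ψ j k 0).2
      have ej : j = 0 := (hψinj _ _ _ _ _ _ (Subtype.ext e2)).1
      refine hw1 (Subtype.ext ?_)
      show w = 1
      rw [hjk, ek, ej, hψ0]; rfl
    rcases (Subgroup.normalCore_le U hg) with ⟨j, k, rfl | rfl⟩
    · exact Subgroup.mem_bot.mp (hKJ ▸ ⟨hg, (ψ 0 j k).2⟩)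
    · exfalso
      -- the element commutes with `J`
      have hcommJ : ((ψ 0 j k : G) * t) * (ψ 0 1 0 : G) = (ψ 0 1 0 : G) * ((ψ 0 j k : G) * t) :=
        (Subgroup.commute_of_normal_of_disjoint _ _ (Subgroup.normalCore_normal U) hJn (disjoint_iff.mpr hKJ) _ _ hg
          (ψ 0 1 0).2).eq
      have h2 : t * (ψ 0 1 0 : G) = ψ 0 0 1 * t := by rw [← hψτG 0 1 0, mul_assoc (t * _), htt, mul_one]
      rw [mul_assoc, h2, ← mul_assoc, ← mul_assoc, hψmulG, hψmulG] at hcommJ
      have h3 := (hψinj _ _ _ _ _ _ (Subtype.ext (mul_right_cancel hcommJ))).2.1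
      rw [add_zero] at h3
      exact one_ne_zero (add_eq_right.mp h3.symm)
  let e9 : G ⧸ U ≃ Fin 9 := (Finite.equivFinOfCardEq (by rw [← Subgroup.index_eq_card, hUidx]))
  let φ : G →* Equiv.Perm (Fin 9) := e9.permCongrHom.toMonoidHom.comp (MulAction.toPermHom G (G ⧸ U))
  have hφinj : Function.Injective φ := by
    refine e9.permCongrHom.injective.comp ?_
    rw [← MonoidHom.ker_eq_bot_iff, ← Subgroup.normalCore_eq_ker]
    exact hcore
  set r := φ (z : G) with hr
  have hr3 : r ^ 3 = 1 := by rw [hr, ← map_pow, hJexp _ z.2, map_one]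
  have hrf : ∀ p, r p ≠ p := fun p h => by
    have h1 : (z : G) • e9.symm p = e9.symm p := e9.injective (by simpa [hr, φ] using h)
    obtain ⟨g, hg⟩ := QuotientGroup.mk_surjective (e9.symm p)
    rw [← hg, MulAction.Quotient.smul_mk, QuotientGroup.eq, smul_eq_mul, ← hzcen g] at h1
    rw [mul_inv_rev, mul_assoc, inv_mul_cancel, mul_one] at h1
    exact hzU (by simpa using inv_mem h1)
  set σ := Equiv.swap (0 : Fin 9) 1 * Equiv.swap 1 2 * Equiv.swap 3 4 * Equiv.swap 4 5 * Equiv.swap 6 7 *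
    Equiv.swap 7 8 with hσ
  have hσ3 : σ ^ 3 = 1 := by rw [hσ]; decide
  have hσf : ∀ p, σ p ≠ p := by rw [hσ]; decide
  obtain ⟨π, hπ⟩ := isConj_iff.mp (Equiv.Perm.isConj_of_cycleType_eq
    ((perm_cycleType hr3 hrf).trans (perm_cycleType hσ3 hσf).symm))
  let Φ : G →* Subgroup.centralizer ({σ} : Set (Equiv.Perm (Fin 9))) :=
    ((MulAut.conj π).toMonoidHom.comp φ).codRestrict _ fun g => Subgroup.mem_centralizer_singleton_iff.mpr (by
      show π * φ g * π⁻¹ * σ = σ * (π * φ g * π⁻¹)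
      rw [← hπ, show π * φ g * π⁻¹ * (π * r * π⁻¹) = π * (φ g * r) * π⁻¹ by group,
        show π * r * π⁻¹ * (π * φ g * π⁻¹) = π * (r * φ g) * π⁻¹ by group, hr, ← map_mul, ← map_mul, hzcen g])
  have hΦ : Function.Bijective Φ := by
    rw [Nat.bijective_iff_injective_and_card, hG, card_centralizer_perm hσ3 hσf]
    exact ⟨fun g h e => hφinj ((MulAut.conj π).injective (congrArg Subtype.val e)), rfl⟩
  exact ⟨MulEquiv.ofBijective Φ hΦ⟩

end Cfsg.Agent.S3376
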