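import Cfsg.Statements.S3977
import Mathlib
import Cfsg.Agent.Lib.Grp.Frattini
import Cfsg.Agent.Lib.Grp.Basic
import Cfsg.Agent.Lib.Grp.GaschutzYen
-- import your own Cfsg.Agent.* helpers here

set_option autoImplicit false
open Cfsg

namespace Cfsg.Agent.S3977

open scoped commutatorElement

universe w

theorem cyclic_subgroup_eq {K : Type w} [Group K] [Finite K] [IsCyclic K] {A B : Subgroup K}
    (h : Nat.card A = Nat.card B) : A = B := by
  classical
  haveI := Fintype.ofFinite K
  have key : ∀ C : Subgroup K, ∀ x, x ∈ C ↔ x ^ Nat.card C = 1 := by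
    intro C
    have hsub : (Finset.univ.filter fun x => x ∈ C) ⊆
        Finset.univ.filter fun x : K => x ^ Nat.card C = 1 := fun x hx => by
      rw [Finset.mem_filter] at hx ⊢
      exact ⟨hx.1, orderOf_dvd_iff_pow_eq_one.1 (Subgroup.orderOf_dvd_natCard C hx.2)⟩
    have heq := Finset.eq_of_subset_of_card_le hsub
      ((IsCyclic.card_pow_eq_one_le (α := K) Nat.card_pos).trans
        (by rw [Nat.card_eq_fintype_card, Fintype.card_subtype]))
    intro x
    simpa using Finset.ext_iff.1 heq x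
  ext x
  rw [key A, key B, h]

theorem cyclic_of_unique : ∀ (m : ℕ) {G : Type w} [Group G] [Finite G] (p s : ℕ), p.Prime →
    Nat.card G = p ^ m → 1 ≤ s → s < m → (p ≠ 2 ∨ 2 ≤ s) →
    (∀ H K : Subgroup G, Nat.card H = p ^ s → Nat.card K = p ^ s → H = K) → IsCyclic G := by
  intro m
  induction m using Nat.strong_induction_on with
  | _ m IH =>
  intro G _ _ p s hp hG hs hsm h2 huniq
  haveI := Fact.mk hp
  have hPG : IsPGroup p G := IsPGroup.of_card hG
  by_contra hcyc
  have hne : ∀ x : G, Subgroup.zpowers x ≠ ⊤ := fun x hx => hcyc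
    ⟨x, fun y => Subgroup.mem_zpowers_iff.1 (by rw [hx]; trivial)⟩
  have hco : ∀ M : Subgroup G, IsCoatom M → Nat.card M = p ^ (m - 1) := by
    intro M hM
    have h := M.card_mul_index
    rw [(Cfsg.Agent.Grp.coatom_index_eq_of_pGroup hPG hM).2, hG] at h
    obtain ⟨j, rfl⟩ : ∃ j, m = j + 1 := ⟨m - 1, by omega⟩
    rw [pow_succ] at h
    simpa using Nat.eq_of_mul_eq_mul_right hp.pos h
  have hs1 : s < m - 1 := by
    by_contra hcon
    have hse : s = m - 1 := by omega
    obtain ⟨M, hM, -⟩ := (eq_top_or_exists_le_coatom (Subgroup.zpowers (1 : G))).resolve_left (hne 1)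
    obtain ⟨x, hx⟩ : ∃ x, x ∉ M := by
      by_contra hall
      push_neg at hall
      exact hM.1 (eq_top_iff.2 fun x _ => hall x)
    obtain ⟨M', hM', hxM'⟩ := (eq_top_or_exists_le_coatom (Subgroup.zpowers x)).resolve_left (hne x)
    exact hx ((huniq M' M (hse ▸ hco M' hM') (hse ▸ hco M hM)) ▸ hxM' (Subgroup.mem_zpowers x))
  have hMc : ∀ M : Subgroup G, IsCoatom M → IsCyclic M := fun M hM =>
    IH (m - 1) (by omega) p s hp (hco M hM) hs hs1 h2 fun H K hH hK => by
      refine Subgroup.map_injective M.subtype_injective (huniq _ _ ?_ ?_)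
      · rw [Subgroup.card_subtype, hH]
      · rw [Subgroup.card_subtype, hK]
  -- two maximal subgroups
  obtain ⟨M1, hM1, -⟩ := (eq_top_or_exists_le_coatom (Subgroup.zpowers (1 : G))).resolve_left (hne 1)
  obtain ⟨x0, hx0⟩ : ∃ x, x ∉ M1 := by
    by_contra hall
    push_neg at hall
    exact hM1.1 (eq_top_iff.2 fun x _ => hall x)
  obtain ⟨M2, hM2, hx02⟩ := (eq_top_or_exists_le_coatom (Subgroup.zpowers x0)).resolve_left (hne x0)
  haveI : Group.IsNilpotent G := hPG.isNilpotent
  haveI := Cfsg.Agent.Grp.coatom_normal_of_nilpotent hM1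
  haveI := Cfsg.Agent.Grp.coatom_normal_of_nilpotent hM2
  haveI := hMc M1 hM1
  haveI := hMc M2 hM2
  have hsup : M1 ⊔ M2 = ⊤ := hM1.2 _ (lt_of_le_of_ne le_sup_left fun e =>
    hx0 (e ▸ (Subgroup.mem_sup_right (hx02 (Subgroup.mem_zpowers x0)))))
  set Z := M1 ⊓ M2 with hZ
  have hZcard : Nat.card Z = p ^ (m - 2) := by
    have e := Cfsg.Agent.Grp.card_sup_mul_card_inf_normal (H := M1) (N := M2)
    rw [hsup, Subgroup.card_top, hG, hco M1 hM1, hco M2 hM2, ← pow_add,
      show (m - 1) + (m - 1) = m + (m - 2) by omega, pow_add] at e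
    exact Nat.eq_of_mul_eq_mul_left (pow_pos hp.pos m) e
  obtain ⟨a, haM⟩ : ∃ a : G, M1 = Subgroup.zpowers a := by
    obtain ⟨g, hg⟩ := (hMc M1 hM1).exists_generator
    exact ⟨g, le_antisymm (fun y hy => by
      obtain ⟨i, hi⟩ := hg ⟨y, hy⟩; exact ⟨i, congrArg Subtype.val hi⟩) (Subgroup.zpowers_le.2 g.2)⟩
  obtain ⟨b, hbM⟩ : ∃ b : G, M2 = Subgroup.zpowers b := by
    obtain ⟨g, hg⟩ := (hMc M2 hM2).exists_generator
    exact ⟨g, le_antisymm (fun y hy => by
      obtain ⟨i, hi⟩ := hg ⟨y, hy⟩; exact ⟨i, congrArg Subtype.val hi⟩) (Subgroup.zpowers_le.2 g.2)⟩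
  have hcen : ∀ z ∈ Z, ∀ g : G, g * z = z * g := by
    intro z hz
    have : M1 ⊔ M2 ≤ Subgroup.centralizer ({z} : Set G) := by
      refine sup_le ?_ ?_
      · intro y hy
        exact Subgroup.mem_centralizer_singleton_iff.2
          (congrArg Subtype.val ((IsCyclic.commGroup (α := M1)).mul_comm ⟨y, hy⟩ ⟨z, hz.1⟩))
      · intro y hy
        exact Subgroup.mem_centralizer_singleton_iff.2
          (congrArg Subtype.val ((IsCyclic.commGroup (α := M2)).mul_comm ⟨y, hy⟩ ⟨z, hz.2⟩))
    intro g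
    exact Subgroup.mem_centralizer_singleton_iff.1 (this (hsup ▸ Subgroup.mem_top g))
  have hao : orderOf a = p ^ (m - 1) := by rw [← Nat.card_zpowers, ← haM, hco M1 hM1]
  have hbo : orderOf b = p ^ (m - 1) := by rw [← Nat.card_zpowers, ← hbM, hco M2 hM2]
  have hpw : ∀ (M : Subgroup G) [M.Normal], IsCoatom M → ∀ y : G, y ^ p ∈ M := by
    intro M _ hM y
    rw [← (Cfsg.Agent.Grp.coatom_index_eq_of_pGroup hPG hM).2]
    exact Subgroup.pow_index_mem M y
  have haZ : a ^ p ∈ Z := ⟨hpw M1 hM1 a, hpw M2 hM2 a⟩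
  have hbZ : b ^ p ∈ Z := ⟨hpw M1 hM1 b, hpw M2 hM2 b⟩
  have hgen : Subgroup.zpowers (a ^ p) = Z := by
    refine Subgroup.eq_of_le_of_card_ge (Subgroup.zpowers_le.2 haZ) ?_
    rw [hZcard, Nat.card_zpowers, orderOf_pow' a hp.ne_zero, hao,
      Nat.gcd_eq_right (dvd_pow_self p (by omega)), show m - 1 = (m - 2) + 1 by omega, pow_succ,
      Nat.mul_div_cancel _ hp.pos]
  obtain ⟨k, hk⟩ := Subgroup.mem_zpowers_iff.1 (hgen.ge hbZ)
  set y := (a ^ k)⁻¹ with hy
  set c := ⁅y, b⁆ with hc
  have hcZ : c ∈ Z := by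
    refine ⟨?_, ?_⟩
    · have hyM : y ∈ M1 := by
        rw [haM]; exact inv_mem (zpow_mem (Subgroup.mem_zpowers a) k)
      have : c = y * (b * y⁻¹ * b⁻¹) := by rw [hc, commutatorElement_def]; group
      rw [this]
      exact mul_mem hyM (Subgroup.Normal.conj_mem inferInstance _ (inv_mem hyM) b)
    · have hbM' : b ∈ M2 := hbM ▸ Subgroup.mem_zpowers b
      have : c = (y * b * y⁻¹) * b⁻¹ := by rw [hc, commutatorElement_def]
      rw [this]
      exact show _ ∈ M2 from mul_mem (Subgroup.Normal.conj_mem inferInstance _ hbM' y) (inv_mem hbM')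
  have hyb : y * b = c * b * y := by rw [hc, commutatorElement_def]; group
  have hyp : y ^ p = (b ^ p)⁻¹ := by
    rw [hy, inv_pow, ← hk, ← zpow_natCast (a ^ k) p, ← zpow_mul, mul_comm, zpow_mul, zpow_natCast]
  have hcp : c ^ p = 1 := by
    have h1 : (b * y * b⁻¹) ^ p = y ^ p := by
      have : y ^ p ∈ Z := hyp ▸ inv_mem hbZ
      rw [conj_pow, hcen _ this b, mul_inv_cancel_right]
    have h3 : b * y * b⁻¹ = c⁻¹ * y := by
      calc b * y * b⁻¹ = c⁻¹ * (c * b * y) * b⁻¹ := by group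
        _ = c⁻¹ * y := by rw [← hyb]; group
    rw [h3, (show Commute c⁻¹ y from (hcen _ (inv_mem hcZ) y).symm).mul_pow] at h1
    have := mul_right_cancel (h1.trans (one_mul _).symm)
    rwa [inv_pow, inv_eq_one] at this
  have hu0 : (b * y) ^ p = c ^ (p.choose 2) := by
    rw [Cfsg.Agent.Grp.mul_pow_class_two hyb (hcen c hcZ b).symm (hcen c hcZ y).symm, hyp,
      mul_assoc, mul_inv_cancel, mul_one]
  have hnot : ∀ z ∈ Z, b * y * z ∉ M1 := by
    intro z hz hmem
    have hyM : y ∈ M1 := by rw [haM]; exact inv_mem (zpow_mem (Subgroup.mem_zpowers a) k)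
    have : b ∈ M1 := by
      have h1 := mul_mem (mul_mem hmem (inv_mem hz.1)) (inv_mem hyM)
      simpa using h1
    exact hM1.1 (top_unique (hsup ▸ sup_le le_rfl (hbM ▸ Subgroup.zpowers_le.2 this)))
  have hcyc1 : IsCyclic Z := isCyclic_of_injective (Subgroup.inclusion inf_le_left)
    (Subgroup.inclusion_injective (inf_le_left : Z ≤ M1))
  obtain ⟨g0, hg0⟩ := hcyc1.exists_generator
  have hg0o : orderOf g0 = p ^ (m - 2) := by
    rw [orderOf_eq_card_of_forall_mem_zpowers hg0, hZcard]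
  -- an element of order `p` outside `M1`
  obtain ⟨u, huM, hup⟩ : ∃ u : G, u ∉ M1 ∧ u ^ p = 1 := by
    rcases h2 with hp2 | hs2
    · refine ⟨b * y * 1, hnot 1 (one_mem Z), ?_⟩
      rw [mul_one, hu0]
      have : p ∣ p.choose 2 := hp.dvd_choose_self (by norm_num) (by
        have := hp.two_le; omega)
      obtain ⟨t, ht⟩ := this
      rw [ht, pow_mul, hcp, one_pow]
    · by_cases hp2 : p = 2
      · subst hp2
        rw [show Nat.choose 2 2 = 1 from rfl, pow_one] at hu0
        by_cases hc1 : c = 1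
        · exact ⟨b * y * 1, hnot 1 (one_mem Z), by rw [mul_one, hu0, hc1]⟩
        · set w := g0 ^ (2 ^ (m - 4)) with hw
          have hwo : orderOf w = 4 := by
            rw [hw, orderOf_pow' _ (pow_ne_zero _ two_ne_zero), hg0o,
              Nat.gcd_eq_right (pow_dvd_pow 2 (by omega)), show m - 2 = 2 + (m - 4) by omega, pow_add,
              Nat.mul_div_cancel _ (pow_pos two_pos _)]
            norm_num
          have hcw : c = (w : G) ^ 2 := by
            have h1 : Subgroup.zpowers (⟨c, hcZ⟩ : Z) = Subgroup.zpowers (w ^ 2) := by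
              refine cyclic_subgroup_eq ?_
              rw [Nat.card_zpowers, Nat.card_zpowers, orderOf_pow' _ two_ne_zero, hwo, Subgroup.orderOf_mk,
                orderOf_eq_prime hcp hc1]
              norm_num
            have h2' : (⟨c, hcZ⟩ : Z) ∈ Subgroup.zpowers (w ^ 2) := h1 ▸ Subgroup.mem_zpowers _
            obtain ⟨i, hi⟩ := Subgroup.mem_zpowers_iff.1 h2'
            have hi' : (((w : G)) ^ 2) ^ i = c := by simpa using congrArg Subtype.val hi
            have hw4 : ((w : G) ^ 2) ^ (2 : ℤ) = 1 := by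
              rw [zpow_ofNat, ← pow_mul, show (2 : ℕ) * 2 = 4 from rfl, ← hwo, ← SubmonoidClass.coe_pow, pow_orderOf_eq_one,
                OneMemClass.coe_one]
            rcases Int.even_or_odd i with ⟨t, rfl⟩ | ⟨t, rfl⟩
            · exact absurd (by rw [← hi', ← two_mul, zpow_mul, hw4, one_zpow]) hc1
            · rw [← hi', zpow_add, zpow_mul, hw4, one_zpow, one_mul, zpow_one]
          refine ⟨b * y * (w : G)⁻¹, hnot _ (inv_mem w.2), ?_⟩
          rw [(show Commute (b * y) (w : G)⁻¹ from hcen _ (inv_mem w.2) (b * y)).mul_pow, hu0, inv_pow,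
            ← hcw, mul_inv_cancel]
      · refine ⟨b * y * 1, hnot 1 (one_mem Z), ?_⟩
        rw [mul_one, hu0]
        have : p ∣ p.choose 2 := hp.dvd_choose_self (by norm_num) (by
          have := hp.two_le; omega)
        obtain ⟨t, ht⟩ := this
        rw [ht, pow_mul, hcp, one_pow]
  -- two subgroups of order `p` in a cyclic group
  obtain ⟨z0, hz0⟩ := exists_prime_orderOf_dvd_card' (G := Z) p
    (hZcard ▸ dvd_pow_self p (by omega : m - 2 ≠ 0))
  set T := Subgroup.zpowers u ⊔ Subgroup.zpowers (z0 : G) with hT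
  have hu1 : u ≠ 1 := fun h => huM (h ▸ one_mem M1)
  have huo : orderOf u = p := orderOf_eq_prime hup hu1
  have hTne : T ≠ ⊤ := by
    intro hTop
    haveI : (Subgroup.zpowers (z0 : G)).Normal := ⟨fun x hx g => by
      rw [hcen x (Subgroup.zpowers_le.2 z0.2 hx) g, mul_inv_cancel_right]; exact hx⟩
    have e := Cfsg.Agent.Grp.card_sup_mul_card_inf_normal (H := Subgroup.zpowers u)
      (N := Subgroup.zpowers (z0 : G))
    rw [← hT, hTop, Subgroup.card_top, Nat.card_zpowers, Nat.card_zpowers, huo, Subgroup.orderOf_coe,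
      hz0, hG] at e
    have h3 : p ^ 3 ≤ p ^ m := Nat.pow_le_pow_right hp.pos (by omega)
    have h4 := Nat.card_pos (α := (Subgroup.zpowers u ⊓ Subgroup.zpowers (z0 : G) : Subgroup G))
    have h5 : p ^ m ≤ p * p := (Nat.le_mul_of_pos_right _ h4).trans e.le
    rw [pow_succ, pow_two] at h3
    nlinarith [hp.two_le]
  obtain ⟨M, hM, hTM⟩ := (eq_top_or_exists_le_coatom T).resolve_left hTne
  haveI := hMc M hM
  have e : (Subgroup.zpowers u).subgroupOf M = (Subgroup.zpowers (z0 : G)).subgroupOf M := by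
    refine cyclic_subgroup_eq ?_
    rw [Nat.card_congr (Subgroup.subgroupOfEquivOfLe (le_sup_left.trans hTM)).toEquiv,
      Nat.card_congr (Subgroup.subgroupOfEquivOfLe (le_sup_right.trans hTM)).toEquiv,
      Nat.card_zpowers, Nat.card_zpowers, huo, Subgroup.orderOf_coe, hz0]
  have huT : u ∈ M := hTM (Subgroup.mem_sup_left (Subgroup.mem_zpowers u))
  have : (⟨u, huT⟩ : M) ∈ (Subgroup.zpowers (z0 : G)).subgroupOf M :=
    e ▸ (show (⟨u, huT⟩ : M) ∈ (Subgroup.zpowers u).subgroupOf M from Subgroup.mem_zpowers u)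
  exact huM (Subgroup.zpowers_le.2 z0.2.1 this)

/-- Let `p` be a prime and `G` a group of order `p ^ m` which has exactly one subgroup of order `p ^ s`, where `1 ≤ s < m`, and where `s ≥ 2` if `p = 2`. Then `G` is cyclic. (For `p = 2` and `s = 1` the generalized quaternion groups also occur; that case is the classical criterion for a unique involution.) -/
theorem result {G : Type*} [Group G] [Finite G] (p m s : ℕ) (hp : p.Prime) (hG : Nat.card G = p ^ m) (hs : 1 ≤ s) (hsm : s < m) (h2 : p ≠ 2 ∨ 2 ≤ s) (huniq : ∀ H K : Subgroup G, Nat.card H = p ^ s → Nat.card K = p ^ s → H = K) : IsCyclic G := by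
  exact cyclic_of_unique m p s hp hG hs hsm h2 huniq

end Cfsg.Agent.S3977
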