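import Cfsg.Statements.S0077
import Cfsg.Agent.Lib.Transfer.Burnside

set_option linter.style.haveILetI false
set_option linter.unusedVariables false
-- import your own Cfsg.Agent.* helpers here

set_option autoImplicit false
open Cfsg

namespace Cfsg.Agent.S0077

/-- If a subgroup Z of the centre of a Sylow p-subgroup P is weakly closed in P, then P meets the derived subgroup of G exactly where it meets the derived subgroup of the normalizer of Z. -/
theorem result {G : Type*} [Group G] [Finite G] {p : ℕ} [Fact p.Prime] (P : Sylow p G) (Z : Subgroup G) (hZ : Z ≤ Subgroup.centralizer (P : Set G)) (hW : Cfsg.IsWeaklyClosed Z P) : commutator G ⊓ (P : Subgroup G) = ⁅Subgroup.normalizer (Z : Set G), Subgroup.normalizer (Z : Set G)⁆ ⊓ (P : Subgroup G) := by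
  refine le_antisymm (le_inf (Cfsg.Agent.Transfer.commutator_inf_sylow_le P fun x hx u hu => ?_)
    inf_le_right) (inf_le_inf_right _ ?_)
  · obtain ⟨n, hn, he⟩ :=
      Cfsg.Agent.Transfer.exists_normalizer_conj_of_weaklyClosed P hZ hW hx hu
    rw [← he]
    have hxN : x⁻¹ ∈ Subgroup.normalizer (Z : Set G) := by
      rw [Subgroup.mem_normalizer_iff]
      intro z
      have key : ∀ w ∈ Z, x * w = w * x := fun w hw => hZ hw x hx
      constructor
      · intro hz
        rw [inv_inv, mul_assoc, ← key z hz, inv_mul_cancel_left]
        exact hz
      · intro hz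
        rw [inv_inv] at hz
        have h1 := key _ hz
        rw [← mul_assoc, mul_assoc x⁻¹, mul_inv_cancel_left] at h1
        have : z = x⁻¹ * z * x := by
          apply mul_right_cancel (b := x)
          simpa only [mul_assoc] using h1
        rwa [this]
    have hm := Subgroup.commutator_mem_commutator hxN hn
    rw [commutatorElement_def, inv_inv] at hm
    simpa only [mul_assoc] using hm
  · exact Subgroup.commutator_mono le_top le_top

end Cfsg.Agent.S0077
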