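import Cfsg.Statements.S0817
import Cfsg.Agent.Lib.Classical.OrthPlusOutAut
import Cfsg.Agent.Lib.Lie.Chev.OutD4
-- import your own Cfsg.Agent.* helpers here

set_option autoImplicit false
open Cfsg Cfsg.Agent.Classical Cfsg.Agent.Classical.OrthAut

namespace Cfsg.Agent.S0817

/-- |Aut(PΩ⁺_2m(q))| for q = p^f, m ≥ 4: |PΩ⁺_2m(q)| times f, times 3 when m = 4, times 2 if p = 2, and times 8 or 4 if p is odd according as m(q−1)/2 is even or odd. -/
theorem result {F : Type*} [Field F] [Fintype F] (p f : ℕ) [Fact p.Prime] (hf : 1 ≤ f) (hF : Fintype.card F = p ^ f) (m : ℕ) (hm : 4 ≤ m) : Nat.card (MulAut (Cfsg.POmega F (Cfsg.quadFormPlus m F))) = (if m = 4 then 3 else 1) * (if p = 2 then 2 else (if Even (m * (p ^ f - 1) / 2) then 8 else 4)) * f * Nat.card (Cfsg.POmega F (Cfsg.quadFormPlus m F)) := by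
  haveI : CharP F p := charP_of_card_eq_prime_pow hF
  obtain ⟨-, hRc⟩ := PSLAut.card_ringAut hF
  rw [← coe_qfPlus]
  have hp1 : 1 < p := (Fact.out : p.Prime).one_lt
  by_cases h4 : m = 4
  · subst h4
    obtain ⟨e⟩ := Lie.Chev.IsoD4.exists_iso F
    rw [if_pos rfl, ← Nat.card_congr (MulAut.congr e).toEquiv, ← Nat.card_congr e.toEquiv,
      Lie.Chev.OutD4.card_mulAut, hRc, hF]
    by_cases hp : p = 2
    · subst hp
      obtain ⟨k, hk⟩ := Nat.exists_eq_add_of_le hf
      have hg : Nat.gcd 2 (2 ^ f - 1) = 1 := by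
        refine Nat.coprime_two_left.2 (Nat.odd_iff.2 ?_)
        have := Nat.one_le_two_pow (n := k)
        rw [hk, pow_add, pow_one]; omega
      rw [hg, if_pos rfl]; ring
    · have hodd : p ^ f % 2 = 1 := Nat.odd_iff.1 (((Fact.out : p.Prime).odd_of_ne_two hp).pow)
      have hg : Nat.gcd 2 (p ^ f - 1) = 2 := Nat.gcd_eq_left (by omega)
      rw [hg, if_neg hp, if_pos (Nat.even_iff.2 (by omega))]; ring
  · have hm5 : 5 ≤ m := by omega
    have H := evenSpace_plus (F := F) hm5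
    rw [if_neg h4, one_mul]
    by_cases hp : p = 2
    · subst hp
      rw [if_pos rfl, H.card_mulAut_two CharTwo.two_eq_zero, hRc]
    · have h2 := two_ne_zero_of_card hF hp
      have hiff := isSquare_gramD_plus (F := F) hm5 hF hp
      have hodd : p ^ f % 2 = 1 := Nat.odd_iff.1 (((Fact.out : p.Prime).odd_of_ne_two hp).pow)
      obtain ⟨u, hu⟩ : ∃ u, p ^ f = 2 * u + 1 := ⟨p ^ f / 2, by omega⟩
      have he : ¬ Even (m * (p ^ f - 1) / 2) ↔ p ^ f % 4 = 3 ∧ Odd m := by
        rw [show p ^ f - 1 = u * 2 by omega, ← mul_assoc, Nat.mul_div_cancel _ (by norm_num : 0 < 2),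
          Nat.not_even_iff_odd, Nat.odd_mul, and_comm]
        refine and_congr_left fun _ => ?_
        rw [Nat.odd_iff]; omega
      rw [if_neg hp]
      by_cases hD : IsSquare (H.gramD : F)
      · rw [if_pos (not_not.1 fun h => hiff.1 hD (he.1 h)), H.card_mulAut_omega_mem h2 hD, hRc]
      · rw [if_neg (fun h => hD (hiff.2 fun h' => he.2 h' h)), (H.card_mulAut_omega_ne h2 hD).2, hRc]

end Cfsg.Agent.S0817
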