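import Cfsg.Statements.S1592
import Cfsg.Agent.Lib.Spor.Golay.Ternary

set_option autoImplicit false
open Cfsg

namespace Cfsg.Agent.S1592

open Cfsg.Agent.Spor.Ternary
/-- The points of a mask. -/
def pts (m : ℕ) : Finset Cfsg.ArrayPt := Finset.univ.filter fun p => m.testBit (idx p) = true

theorem idx_lt : ∀ p : Cfsg.ArrayPt, idx p < 12 := by decide +kernel

theorem idx_surj : ∀ i < 12, ∃ p : Cfsg.ArrayPt, idx p = i := by decide +kernel

theorem pts_injOn {a b : ℕ} (ha : a < 2 ^ 12) (hb : b < 2 ^ 12) (h : pts a = pts b) : a = b := by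
  refine Nat.eq_of_testBit_eq fun i => ?_
  by_cases hi : i < 12
  · obtain ⟨p, rfl⟩ := idx_surj i hi
    have := congrArg (fun s => p ∈ s) h
    simp only [pts, Finset.mem_filter, Finset.mem_univ, true_and, eq_iff_iff] at this
    exact Bool.eq_iff_iff.mpr this
  · have hle : 2 ^ 12 ≤ 2 ^ i := Nat.pow_le_pow_right two_pos (by omega)
    rw [Nat.testBit_lt_two_pow (ha.trans_le hle), Nat.testBit_lt_two_pow (hb.trans_le hle)]

theorem exists_mask (s : Finset Cfsg.ArrayPt) : ∃ m < 2 ^ 12, s = pts m := by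
  have h : (Finset.range (2 ^ 12)).image pts = Finset.univ := by
    refine Finset.eq_univ_of_card _ ?_
    rw [Finset.card_image_of_injOn, Finset.card_range, Fintype.card_finset]
    · simp
    · intro a ha b hb e
      exact pts_injOn (Finset.mem_range.mp ha) (Finset.mem_range.mp hb) e
  obtain ⟨m, hm, rfl⟩ := Finset.mem_image.mp (h ▸ Finset.mem_univ s)
  exact ⟨m, Finset.mem_range.mp hm, rfl⟩

theorem pts_subset_iff {a b : ℕ} (ha : a < 2 ^ 12) : pts a ⊆ pts b ↔ a &&& b = a := by
  constructor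
  · intro h
    refine pts_injOn (Nat.and_le_left.trans_lt ha) ha ?_
    ext p
    simp only [pts, Finset.mem_filter, Finset.mem_univ, true_and, Nat.testBit_and, Bool.and_eq_true]
    refine ⟨And.left, fun hp => ⟨hp, ?_⟩⟩
    simpa [pts] using h (show p ∈ pts a by simp [pts, hp])
  · intro h p hp
    simp only [pts, Finset.mem_filter, Finset.mem_univ, true_and] at hp ⊢
    rw [← h, Nat.testBit_and, Bool.and_eq_true] at hp
    exact hp.2

/-- Blocks with a word realising each. -/
def data : List (ℕ × ℕ) := [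
  (63, 229),
  (222, 696),
  (237, 289),
  (243, 574),
  (347, 439),
  (366, 318),
  (373, 667),
  (413, 154),
  (427, 61),
  (438, 102),
  (455, 499),
  (504, 594),
  (591, 565),
  (630, 579),
  (633, 379),
  (667, 112),
  (679, 22),
  (700, 117),
  (725, 415),
  (746, 543),
  (791, 97),
  (813, 37),
  (826, 192),
  (860, 711),
  (867, 247),
  (910, 66),
  (945, 163),
  (969, 514),
  (978, 327),
  (996, 252),
  (1117, 604),
  (1127, 259),
  (1146, 354),
  (1175, 187),
  (1198, 39),
  (1209, 190),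
  (1227, 301),
  (1268, 657),
  (1295, 49),
  (1331, 85),
  (1340, 144),
  (1366, 417),
  (1385, 541),
  (1434, 219),
  (1445, 10),
  (1484, 279),
  (1489, 325),
  (1506, 489),
  (1566, 156),
  (1579, 34),
  (1589, 100),
  (1619, 652),
  (1644, 306),
  (1677, 64),
  (1714, 165),
  (1734, 264),
  (1752, 432),
  (1761, 487),
  (1817, 217),
  (1830, 12),
  (1861, 262),
  (1866, 516),
  (1904, 567),
  (1923, 7),
  (1940, 90),
  (1960, 27),
  (2135, 346),
  (2155, 517),
  (2172, 441),
  (2191, 43),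
  (2229, 91),
  (2234, 138),
  (2265, 703),
  (2278, 255),
  (2334, 120),
  (2343, 25),
  (2361, 109),
  (2381, 307),
  (2418, 651),
  (2451, 166),
  (2476, 63),
  (2506, 273),
  (2516, 576),
  (2529, 244),
  (2589, 208),
  (2606, 48),
  (2611, 169),
  (2650, 462),
  (2661, 496),
  (2710, 174),
  (2729, 55),
  (2755, 250),
  (2764, 522),
  (2800, 324),
  (2827, 58),
  (2868, 171),
  (2886, 507),
  (2897, 568),
  (2920, 270),
  (2949, 19),
  (2968, 189),
  (2978, 3),
  (3099, 142),
  (3117, 73),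
  (3126, 183),
  (3150, 552),
  (3185, 406),
  (3228, 225),
  (3235, 4),
  (3269, 505),
  (3282, 570),
  (3304, 513),
  (3349, 172),
  (3370, 57),
  (3395, 493),
  (3416, 675),
  (3428, 495),
  (3462, 21),
  (3465, 28),
  (3504, 81),
  (3591, 13),
  (3640, 108),
  (3657, 271),
  (3668, 333),
  (3682, 246),
  (3722, 30),
  (3729, 82),
  (3748, 9),
  (3852, 36),
  (3858, 84),
  (3873, 1),
  (4032, 243)]

/-- The blocks as masks. -/
def L : List ℕ := data.map Prod.fst

/-- Information vector from a base-3 number. -/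
def kOf (n : ℕ) : Fin 6 → ZMod 3 := fun j => ((n / 3 ^ j.val % 3 : ℕ) : ZMod 3)

/-- The mask of a word. -/
def maskOf (x : Cfsg.ArrayPt → ZMod 3) : ℕ := ∑ p, if x p ≠ 0 then 2 ^ idx p else 0

theorem data_ok : (data.all fun d => decide (d.1 < 2 ^ 12) &&
    decide (Cfsg.ternarySupport (enc (kOf d.2)) = pts d.1) &&
    decide ((pts d.1).card = 6)) = true := by decide +kernel

theorem words_ok : ∀ k : Fin 6 → ZMod 3, (Cfsg.ternarySupport (enc k)).card = 6 →
    L.contains (maskOf (enc k)) = true ∧ Cfsg.ternarySupport (enc k) = pts (maskOf (enc k)) := by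
  decide +kernel

theorem cover_ok : ((List.range 4096).all fun m =>
    !(decide ((pts m).card = 5)) || (L.countP (fun b => m &&& b == m) == 1)) = true := by
  decide +kernel

theorem L_nodup : L.Nodup := by decide +kernel

theorem mem_L {h : Finset Cfsg.ArrayPt} :
    (∃ x ∈ Cfsg.ternaryGolayCode, Cfsg.ternarySupport x = h ∧ h.card = 6) ↔ ∃ b ∈ L, h = pts b := by
  constructor
  · rintro ⟨x, hx, rfl, h6⟩
    obtain ⟨k, rfl⟩ := exists_enc hx
    obtain ⟨h1, h2⟩ := words_ok k h6
    exact ⟨_, List.contains_iff_mem.mp h1, h2⟩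
  · rintro ⟨b, hb, rfl⟩
    obtain ⟨d, hd, rfl⟩ := List.mem_map.mp hb
    have h := List.all_eq_true.mp data_ok d hd
    simp only [Bool.and_eq_true, decide_eq_true_eq] at h
    exact ⟨_, enc_mem _, h.1.2, h.2⟩

theorem L_lt {b : ℕ} (hb : b ∈ L) : b < 2 ^ 12 := by
  obtain ⟨d, hd, rfl⟩ := List.mem_map.mp hb
  have h := List.all_eq_true.mp data_ok d hd
  simp only [Bool.and_eq_true, decide_eq_true_eq] at h
  exact h.1.1

/-- The supports of the weight-6 words of the length-12 ternary code form a Steiner system S(5, 6, 12) with 132 blocks. -/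
theorem result : Cfsg.IsSteinerSystem 5 6 {h : Finset Cfsg.ArrayPt | ∃ x ∈ Cfsg.ternaryGolayCode, Cfsg.ternarySupport x = h ∧ h.card = 6} ∧ {h : Finset Cfsg.ArrayPt | ∃ x ∈ Cfsg.ternaryGolayCode, Cfsg.ternarySupport x = h ∧ h.card = 6}.ncard = 132 := by
  refine ⟨⟨?_, fun s hs => ?_⟩, ?_⟩
  · rintro h ⟨x, -, -, h6⟩; exact h6
  · obtain ⟨m, hm, rfl⟩ := exists_mask s
    have h := List.all_eq_true.mp cover_ok m (List.mem_range.mpr hm)
    rw [decide_eq_true hs, Bool.not_true, Bool.false_or, beq_iff_eq, List.countP_eq_length_filter,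
      List.length_eq_one_iff] at h
    obtain ⟨b, hb⟩ := h
    have hb' : b ∈ L ∧ m &&& b = m := by
      have : b ∈ L.filter (fun b => m &&& b == m) := by rw [hb]; simp
      simpa using this
    refine ⟨pts b, ⟨mem_L.mpr ⟨b, hb'.1, rfl⟩, (pts_subset_iff hm).mpr hb'.2⟩, ?_⟩
    rintro h ⟨hh, hsub⟩
    obtain ⟨c, hc, rfl⟩ := mem_L.mp hh
    have : c ∈ L.filter (fun b => m &&& b == m) := by
      simp [hc, (pts_subset_iff hm).mp hsub]
    rw [hb, List.mem_singleton] at this
    rw [this]
  · have hset : {h : Finset Cfsg.ArrayPt | ∃ x ∈ Cfsg.ternaryGolayCode,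
        Cfsg.ternarySupport x = h ∧ h.card = 6} = ((L.toFinset.image pts : Finset _) : Set _) := by
      ext h
      simp only [Set.mem_setOf_eq, mem_L, Finset.coe_image, Set.mem_image, Finset.mem_coe,
        List.mem_toFinset]
      exact ⟨fun ⟨b, hb, e⟩ => ⟨b, hb, e.symm⟩, fun ⟨b, hb, e⟩ => ⟨b, hb, e.symm⟩⟩
    rw [hset, Set.ncard_coe_finset, Finset.card_image_of_injOn, List.toFinset_card_of_nodup L_nodup]
    · rfl
    · intro a ha b hb e
      exact pts_injOn (L_lt (by simpa using ha)) (L_lt (by simpa using hb)) e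

end Cfsg.Agent.S1592
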