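import Cfsg.Statements.S1593
import Cfsg.Agent.Lib.Spor.Golay.Ternary

set_option autoImplicit false
open Cfsg

namespace Cfsg.Agent.S1593

open Cfsg.Agent.Spor.Ternary
theorem link : ∀ p : Cfsg.ArrayPt, ∃ j q j', E j p ≠ 0 ∧ E j q ≠ 0 ∧ E j' q ≠ 0 ∧
    E j' (3, 2) ≠ 0 := by decide +kernel

/-- The only sign changes preserving the length-12 ternary code are the identity and negation of all coordinates. -/
theorem result (c : Cfsg.ArrayPt → (ZMod 3)ˣ) (h : (∀ x ∈ Cfsg.ternaryGolayCode, Cfsg.monomialMap 1 c x ∈ Cfsg.ternaryGolayCode)) : (∀ p, c p = 1) ∨ (∀ p, c p = -1) := by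
  have hj : ∀ j p, E j p ≠ 0 → c p = c (infoPos j) := by
    intro j p hp
    have h' := mem_iff.mp (h (E j) (E_mem j))
    have h1 := congrFun h' p
    have hk : (fun i => Cfsg.monomialMap 1 c (E j) (infoPos i)) =
        fun i => if j = i then (c (infoPos j) : ZMod 3) else 0 := by
      funext i
      show (c (infoPos i) : ZMod 3) * E j (infoPos i) = _
      rw [enc_info]
      split
      · next e => subst e; rw [mul_one]
      · rw [mul_zero]
    rw [hk] at h1
    change (c p : ZMod 3) * E j p = ∑ i, (if j = i then (c (infoPos j) : ZMod 3) else 0) * E i p at h1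
    simp only [ite_mul, zero_mul, Finset.sum_ite_eq, Finset.mem_univ, if_true] at h1
    exact Units.ext (mul_right_cancel₀ hp h1)
  have hall : ∀ p, c p = c (3, 2) := by
    intro p
    obtain ⟨j, q, j', h1, h2, h3, h4⟩ := link p
    rw [hj j p h1, ← hj j q h2, hj j' q h3, ← hj j' (3, 2) h4]
  have h2 : ∀ u : (ZMod 3)ˣ, u = 1 ∨ u = -1 := by decide
  rcases h2 (c (3, 2)) with e | e
  · exact Or.inl fun p => (hall p).trans e
  · exact Or.inr fun p => (hall p).trans e

end Cfsg.Agent.S1593
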