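import Cfsg.Statements.S5599
import Cfsg.Agent.Lib.Spor.Golay.CensusClasses

set_option autoImplicit false
open scoped Pointwise
open Cfsg

namespace Cfsg.Agent.S5599

open Cfsg.Agent.Spor.Golay Cfsg.Agent.Spor.Golay.Census
open scoped Pointwise

theorem mem22 {x : Equiv.Perm Cfsg.GolayPt} :
    x ∈ Cfsg.Spor.M22 ↔ x ∈ Cfsg.M24 ∧ x none = none ∧ x (some 0) = some 0 := by
  simp [Cfsg.Spor.M22, Cfsg.Spor.M23, Subgroup.mem_inf, and_assoc]

/-- In the automorphism group of the length-24 code, the two-point Mathieu group (permutations of the code's group fixing the extra point and the residue 0) has index 2 in the setwise stabiliser of that pair of points, and an element of the code's group interchanging the two points normalises the two-point group and induces on it, by conjugation, an automorphism that is not inner. -/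
theorem result (g : Equiv.Perm Cfsg.GolayPt) (hg : g ∈ Cfsg.M24) (h₁ : g none = some 0) (h₂ : g (some 0) = none) : Cfsg.Spor.M22.relIndex (Cfsg.M24 ⊓ MulAction.stabilizer (Equiv.Perm Cfsg.GolayPt) ({none, some 0} : Finset Cfsg.GolayPt)) = 2 ∧ (∀ x ∈ Cfsg.Spor.M22, g * x * g⁻¹ ∈ Cfsg.Spor.M22) ∧ ¬ ∃ h ∈ Cfsg.Spor.M22, ∀ x ∈ Cfsg.Spor.M22, g * x * g⁻¹ = h * x * h⁻¹ := by
  classical
  have hg' : g⁻¹ none = some 0 ∧ g⁻¹ (some 0) = none := by
    constructor <;> rw [Equiv.Perm.inv_eq_iff_eq] <;> simp [h₁, h₂]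
  refine ⟨?_, fun x hx => ?_, ?_⟩
  · rw [Subgroup.relIndex, Subgroup.index_eq_two_iff]
    have hgH : g ∈ Cfsg.M24 ⊓ MulAction.stabilizer (Equiv.Perm Cfsg.GolayPt) ({none, some 0} : Finset Cfsg.GolayPt) := by
      refine Subgroup.mem_inf.mpr ⟨hg, ?_⟩
      rw [MulAction.mem_stabilizer_iff, Finset.smul_finset_insert, Finset.smul_finset_singleton, Equiv.Perm.smul_def,
        Equiv.Perm.smul_def, h₁, h₂, Finset.pair_comm]
    refine ⟨⟨g, hgH⟩, fun b => ?_⟩
    obtain ⟨hbM, hbs⟩ := Subgroup.mem_inf.mp b.2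
    rw [MulAction.mem_stabilizer_iff] at hbs
    have hmem : ∀ p, p = none ∨ p = some 0 → (b : Equiv.Perm Cfsg.GolayPt) p = none ∨ (b : Equiv.Perm Cfsg.GolayPt) p = some 0 := by
      intro p hp
      have : (b : Equiv.Perm Cfsg.GolayPt) p ∈ (b : Equiv.Perm Cfsg.GolayPt) • ({none, some 0} : Finset Cfsg.GolayPt) :=
        Finset.smul_mem_smul_finset (by simpa using hp)
      rw [hbs] at this
      simpa using this
    have hne : (b : Equiv.Perm Cfsg.GolayPt) none ≠ (b : Equiv.Perm Cfsg.GolayPt) (some 0) :=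
      fun e => by simpa using (b : Equiv.Perm Cfsg.GolayPt).injective e
    simp only [Subgroup.mem_subgroupOf, mem22, Subgroup.coe_mul, Equiv.Perm.mul_apply, h₁, h₂, hbM,
      mul_mem hbM hg, true_and]
    rcases hmem none (Or.inl rfl) with e | e <;> rcases hmem (some 0) (Or.inr rfl) with e' | e'
    · exact absurd (e.trans e'.symm) hne
    · exact Or.inr ⟨⟨e, e'⟩, by simp [e, e']⟩
    · exact Or.inl ⟨⟨e', e⟩, by simp [e, e']⟩
    · exact absurd (e.trans e'.symm) hne
  · rw [mem22] at hx ⊢
    refine ⟨mul_mem (mul_mem hg hx.1) (inv_mem hg), ?_, ?_⟩ <;>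
      simp [Equiv.Perm.mul_apply, hg'.1, hg'.2, hx.2.1, hx.2.2, h₁, h₂]
  · rintro ⟨h, hh, hc⟩
    obtain ⟨c, hcdef⟩ : ∃ c, c = h⁻¹ * g := ⟨_, rfl⟩
    have hcM : c ∈ Cfsg.M24 := hcdef ▸ mul_mem (inv_mem (mem22.mp hh).1) hg
    have hcom : ∀ x ∈ Cfsg.Spor.M22, c * x = x * c := fun x hx => by
      have h1 : g * x = h * x * h⁻¹ * g := by rw [← hc x hx]; group
      rw [hcdef, mul_assoc, h1]
      group
    have hhn : h⁻¹ none = none ∧ h⁻¹ (some 0) = some 0 := by
      constructor <;> rw [Equiv.Perm.inv_eq_iff_eq] <;> simp [(mem22.mp hh).2.1, (mem22.mp hh).2.2]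
    have hc1 : c none = some 0 := by rw [hcdef, Equiv.Perm.mul_apply, h₁, hhn.2]
    have hc2 : c (some 0) = none := by rw [hcdef, Equiv.Perm.mul_apply, h₂, hhn.1]
    have hfix : ∀ p, p ≠ none → p ≠ some 0 → c p = p := by
      intro p hp1 hp2
      by_contra hne
      have hq1 : c p ≠ none := fun e => hp2 (c.injective (e.trans hc2.symm))
      have hq2 : c p ≠ some 0 := fun e => hp1 (c.injective (e.trans hc1.symm))
      obtain ⟨r, hr⟩ : ∃ r : Cfsg.GolayPt, r ∉ ({none, some 0, p, c p} : Finset Cfsg.GolayPt) := by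
        by_contra h
        simp only [not_exists, not_not] at h
        have h1 := Finset.card_le_card (show (Finset.univ : Finset Cfsg.GolayPt) ⊆ {none, some 0, p, c p} from fun r _ => h r)
        rw [Finset.card_univ, card_golayPt] at h1
        have h2 := h1.trans Finset.card_le_four
        omega
      simp only [Finset.mem_insert, Finset.mem_singleton, not_or] at hr
      haveI := M24_pretransitive (show 4 ≤ 5 by norm_num)
      let x : Fin 4 ↪ Cfsg.GolayPt := ⟨![none, some 0, p, c p], fun i j e => by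
        revert e
        fin_cases i <;> fin_cases j <;> simp [hp1, hp2, hq1, hq2, hne, hp1.symm, hp2.symm, hq1.symm, hq2.symm, Ne.symm hne]⟩
      let y : Fin 4 ↪ Cfsg.GolayPt := ⟨![none, some 0, p, r], fun i j e => by
        revert e
        fin_cases i <;> fin_cases j <;>
          simp [hp1, hp2, hr.1, hr.2.1, hr.2.2.1, hp1.symm, hp2.symm, Ne.symm hr.1, Ne.symm hr.2.1, Ne.symm hr.2.2.1]⟩
      obtain ⟨m, hm⟩ := MulAction.exists_smul_eq Cfsg.M24 x y
      have e : ∀ i, (m : Equiv.Perm Cfsg.GolayPt) (x i) = y i := fun i =>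
        congrArg (fun f : Fin 4 ↪ Cfsg.GolayPt => f i) hm
      have hm2 := Equiv.congr_fun (hcom m (mem22.mpr ⟨m.2, e 0, e 1⟩)) p
      rw [Equiv.Perm.mul_apply, Equiv.Perm.mul_apply, show (m : Equiv.Perm Cfsg.GolayPt) p = p from e 2,
        show (m : Equiv.Perm Cfsg.GolayPt) (c p) = r from e 3] at hm2
      exact hr.2.2.2 hm2.symm
    have h23 : idx (none : Cfsg.GolayPt) = 23 ∧ idx (some 0 : Cfsg.GolayPt) = 0 ∧
        trivOk [] ((List.range 23).drop 1) = true := by decide +kernel
    have h1 := eq_one_of_small hcM h23.2.2 fun b hb => by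
      obtain ⟨i, hi, rfl⟩ := List.getElem_of_mem hb
      simp only [List.length_drop, List.length_range] at hi
      simp only [List.getElem_drop, List.getElem_range]
      refine hfix _ (fun e => ?_) fun e => ?_
      · have := congrArg idx e
        rw [idx_pt (by omega), h23.1] at this
        omega
      · have := congrArg idx e
        rw [idx_pt (by omega), h23.2.1] at this
        omega
    rw [h1, Equiv.Perm.one_apply] at hc1
    exact Option.some_ne_none _ hc1.symm

end Cfsg.Agent.S5599
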