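import Cfsg.Statements.S5569
import Cfsg.Agent.Lib.Spor.JFourType.OrbitExcl
import Cfsg.Agent.Lib.Spor.JFourType.Mathieu.Final
import Cfsg.Agent.Lib.Spor.JFourType.Mathieu.SecondCentralizer

set_option autoImplicit false
open Cfsg

namespace Cfsg.Agent.S5569

/-- Let G be a finite non-abelian simple group of Janko-four type (an involution z whose centralizer H has an extraspecial largest normal 2-subgroup E of order 2^13 containing its centralizer in H, a normal subgroup N ≥ E of H with N/E of order 3 and H/N the automorphism group of M₂₂, and a subgroup P ≤ N of order 3 with C_E(P) = ⟨z⟩, N_H(P) ≠ C_H(P) and P ≤ C_H(P)′). Then the centralizer of an involution t of G that is not conjugate to z is a split extension of an elementary abelian normal subgroup of order 2^11 by a complement isomorphic to the automorphism group of M₂₂. -/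
theorem result {G : Type*} [Group G] [Finite G] [IsSimpleGroup G] (hG : ¬ IsMulCommutative G) (z : G) (hJ : Cfsg.IsOfJankoFourTypeAt z) (t : G) (ht : orderOf t = 2) (hnc : ¬ IsConj z t) :
    ∃ V K : Subgroup G, V ≤ Subgroup.centralizer ({t} : Set G) ∧ K ≤ Subgroup.centralizer ({t} : Set G) ∧
    Subgroup.centralizer ({t} : Set G) ≤ Subgroup.normalizer (V : Set G) ∧ Cfsg.IsElementaryAbelian 2 V ∧ Nat.card ↥V = 2 ^ 11 ∧
    K ⊓ V = ⊥ ∧ K ⊔ V = Subgroup.centralizer ({t} : Set G) ∧ Nonempty (↥K ≃* MulAut ↥Cfsg.Spor.M22) := by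
  obtain ⟨P, hJ⟩ := hJ
  obtain ⟨S⟩ := Cfsg.Agent.Spor.JFour.exists_setting hJ
  obtain ⟨Fr⟩ := Cfsg.Agent.Spor.JFour.exists_frameA S
  have hfus : Fr.Classes := fun v hv => Fr.inO_iff hG hv
  refine Fr.second_centralizer (Fr.duadic hG) Fr.F.sylowT ?_
    (fun v hv h0 hT => isConj_iff.2 ((hfus v hv).2 ⟨h0, hT⟩))
    (fun v hv hT => Fr.centralizer_le_normalizer (Fr.duadic hG) hfus hv hT) ht hnc
  intro s hs
  refine Fr.normalizer_of_conj_le fun a ha => ?_
  have hA : Fr.A.map (MulAut.conj s).toMonoidHom = Fr.A := by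
    refine Fr.unique_in_T ?_ ?_ ?_ ?_
    · rintro _ ⟨b, hb, rfl⟩
      exact mul_mem (mul_mem hs (Fr.A_le_T hb)) (inv_mem hs)
    · rintro _ ⟨b, hb, rfl⟩ _ ⟨c, hc, rfl⟩
      rw [← map_mul, ← map_mul, Fr.A_comm b hb c hc]
    · rintro _ ⟨b, hb, rfl⟩
      rw [← map_mul, Fr.A_sq b hb, map_one]
    · rw [Subgroup.card_map_of_injective (MulAut.conj s).injective, Fr.card_A]
  exact Subgroup.le_normalizer (hA ▸ Subgroup.mem_map.2 ⟨a, ha, rfl⟩)

end Cfsg.Agent.S5569
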