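import Cfsg.Statements.S2062
import Cfsg.Agent.Lib.Spor.Golay.AutOut
import Cfsg.Agent.Lib.Spor.Golay.AutM22

set_option autoImplicit false
open Cfsg

namespace Cfsg.Agent.S2062

/-- The outer automorphism group of the Mathieu group M₂₂ (the permutations in the automorphism group of the length-24 binary code that fix each of two given points) has order 2. -/
theorem result : Nat.card (Cfsg.Out ↥Cfsg.Spor.M22) = 2 := by
  open Cfsg.Agent.Spor.Golay Cfsg.Agent.Spor.Golay.Aut in
  refine Eq.trans (b := Nat.card (Cfsg.Out c22.grp)) ?_ ?_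
  · open Cfsg.Agent.Spor.Golay Cfsg.Agent.Spor.Golay.Aut in
    have e : Cfsg.Spor.M22 = c22.grp := by
      ext g
      simp only [Cfsg.Spor.M22, Cfsg.Spor.M23, Subgroup.mem_inf, MulAction.mem_stabilizer_iff,
        Case.grp, mem_Fix, show c22.M = [2 ^ 23, 2 ^ 0] from rfl, List.forall_mem_cons,
        List.forall_mem_singleton, List.not_mem_nil, false_implies,
        implies_true, and_true, pts_two_pow (show 23 < 24 by norm_num),
        pts_two_pow (show 0 < 24 by norm_num), Finset.smul_finset_singleton, Finset.singleton_inj,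
        show pt 23 = (none : GolayPt) by decide +kernel,
        show pt 0 = (some 0 : GolayPt) by decide +kernel, and_assoc]
    rw [e]
  · open Cfsg.Agent.Spor.Golay Cfsg.Agent.Spor.Golay.Aut in
    refine c22.out_two gen22_check g22Outer (by decide +kernel) gen22 (fun g hg hga => ?_) aut22
    open Cfsg.Agent.Spor.Golay Cfsg.Agent.Spor.Golay.Aut in
    have hn := n22_check
    simp only [Case.nCheck, Bool.and_eq_true, List.all_eq_true] at hn
    obtain ⟨hgens, -⟩ := c22.gen_facts gen22_check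
    obtain ⟨hv, -⟩ := hgens c22.A (by simp)
    have hg' := gen22_check
    simp only [Case.genCheck, Bool.and_eq_true] at hg'
    obtain ⟨⟨⟨⟨⟨⟨⟨⟨⟨⟨⟨-, -⟩, hAp⟩, hA1⟩, -⟩, -⟩, hPA⟩, -⟩, -⟩, -⟩, -⟩, -⟩ := hg'
    have ho := Case.orderOf_permOf hv (show Nat.Prime 11 by norm_num) hAp (by simpa using hA1)
    obtain ⟨-, he⟩ := powsOk_spec hv hPA
    obtain ⟨g1, g2, -⟩ := mem_Fix.mp hg
    obtain ⟨K, hK, hKv, hKe⟩ := he (show Nat.Prime 11 by norm_num) ho _ hga (fun e => by
      rw [mul_inv_eq_one, mul_eq_left] at e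
      rw [e, orderOf_one] at ho
      exact (by norm_num : (1 : ℕ) ≠ 11) ho)
    obtain ⟨Q, hQ, hQe⟩ := mem_of_normCheck tab24_ok chains24.2.1.1 chains24.2.1.2 idxs24.2.1 hv hn.1.1
      lits24.2.1 ln22 g1 g2 ⟨K, hK, hKv, by rw [hKe]; simp⟩
    exact ⟨Q, hQ, hn.1.1 Q hQ, hQe⟩

end Cfsg.Agent.S2062
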