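import Cfsg.Statements.S2063
import Cfsg.Agent.Lib.Spor.Golay.AutOut
import Cfsg.Agent.Lib.Spor.Golay.AutM23

set_option autoImplicit false
open Cfsg

namespace Cfsg.Agent.S2063

/-- The outer automorphism group of the Mathieu group M₂₃ (the stabiliser of a point in the automorphism group of the length-24 binary code) is trivial: every automorphism is inner. -/
theorem result : Nat.card (Cfsg.Out ↥Cfsg.Spor.M23) = 1 := by
  open Cfsg.Agent.Spor.Golay Cfsg.Agent.Spor.Golay.Aut in
  refine Eq.trans (b := Nat.card (Cfsg.Out c23.grp)) ?_ ?_
  · open Cfsg.Agent.Spor.Golay Cfsg.Agent.Spor.Golay.Aut in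
    have e : Cfsg.Spor.M23 = c23.grp := by
      ext g
      simp only [Cfsg.Spor.M23, Subgroup.mem_inf, MulAction.mem_stabilizer_iff, Case.grp, mem_Fix,
        show c23.M = [2 ^ 23] from rfl, List.forall_mem_singleton, List.not_mem_nil, false_implies,
        implies_true, and_true, pts_two_pow (show 23 < 24 by norm_num),
        Finset.smul_finset_singleton, Finset.singleton_inj,
        show pt 23 = (none : GolayPt) by decide +kernel]
    rw [e]
  · open Cfsg.Agent.Spor.Golay.Aut in
    exact c23.out_one gen23_check (by decide +kernel) aut23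

end Cfsg.Agent.S2063
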