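import Cfsg.Statements.S5392
import Cfsg.Agent.Lib.Spor.Leech.Monomial

set_option autoImplicit false
open Cfsg

namespace Cfsg.Agent.S5392

open Cfsg.Agent.Spor.Leech
open scoped Pointwise

theorem only_center (g : Co0) (hg : ∀ v : leechLattice, ∃ w : leechLattice,
    ((g • v : leechLattice) : Vec) - (v : Vec) = 2 • (w : Vec)) : g ∈ Subgroup.center Co0 := by
  have hcong : ∀ v : leechLattice, cls (g • v) = cls v := fun v => by
    obtain ⟨w, hw⟩ := hg v
    exact cls_eq.2 ⟨w, w.2, hw⟩
  have hs : g ∈ crossStab := by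
    show g • stdL = stdL
    rw [← crossOf_axis none, smul_crossOf]
    ext v
    simp [crossOf, hcong]
  obtain ⟨σ, hσ, c, hc, rfl⟩ := exists_mono hs
  have hpair : ∀ i j, i ≠ j → (flip c fun k => (Pi.single i 4 + Pi.single j 4 : Vec) (σ.symm k)) =
      Pi.single i 4 + Pi.single j 4 ∨ (flip c fun k => (Pi.single i 4 + Pi.single j 4 : Vec) (σ.symm k)) =
      -(Pi.single i 4 + Pi.single j 4) := by
    intro i j hij
    have hm := pair_mem i j (Or.inl (rfl : (4 : ℤ) = 4)) (Or.inl (rfl : (4 : ℤ) = 4))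
    have hn : sqNorm (Pi.single i 4 + Pi.single j 4 : Vec) = 32 := by
      rw [sqNorm, Finset.sum_eq_add i j hij (fun k _ hk => by simp [Pi.single_eq_of_ne hk.1, Pi.single_eq_of_ne hk.2])
        (by simp) (by simp)]
      simp [Pi.single_eq_of_ne hij, Pi.single_eq_of_ne hij.symm]
    have h := congr_short (mono hσ hc • (⟨_, hm⟩ : leechLattice)).2 hm (by rw [co_norm]; exact (le_of_eq hn).trans (by norm_num)) (by omega)
      (cls_eq.1 (hcong ⟨_, hm⟩))
    rw [mono_apply, signedPerm_eq] at h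
    rcases h with h | h | ⟨-, h, -⟩
    · exact Or.inl h
    · exact Or.inr h
    · omega
  obtain rfl : σ = 1 := by
    refine Equiv.ext fun i => ?_
    obtain ⟨j, hij⟩ := exists_ne i
    obtain ⟨l, hl⟩ : ∃ l, l ≠ i ∧ l ≠ j := by revert i j; decide +kernel
    have key : ∀ j, j ≠ i → σ i = i ∨ σ i = j := fun j hij => by
      rcases hpair i j hij.symm with h | h <;>
      · have h1 := congrFun h (σ i)
        by_contra hne
        push Not at hne
        simp only [Agent.Spor.Leech.flip, Equiv.symm_apply_apply, Pi.add_apply, Pi.neg_apply, Pi.single_eq_same,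
          Pi.single_eq_of_ne hij.symm, Pi.single_eq_of_ne hne.1, Pi.single_eq_of_ne hne.2] at h1
        split_ifs at h1 <;> omega
    show σ i = i
    rcases key j hij with a | a
    · exact a
    · rcases key l hl.1 with b | b
      · exact b
      · exact absurd (a.symm.trans b) hl.2.symm
  refine mem_center_iff.2 (eq_one_or_neg hc ?_ rfl)
  rcases c.eq_empty_or_nonempty with h | ⟨k, hk⟩
  · exact Or.inl h
  · refine Or.inr (Finset.eq_univ_iff_forall.2 fun j => ?_)
    by_contra hj
    have hkj : k ≠ j := fun e => hj (e ▸ hk)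
    rcases hpair k j hkj with h | h
    · have h1 := congrFun h k
      simp only [Agent.Spor.Leech.flip, if_pos hk, Pi.add_apply, Pi.single_eq_same, Equiv.Perm.one_def,
        Equiv.refl_symm, Equiv.refl_apply, Pi.single_eq_of_ne hkj] at h1
      omega
    · have h1 := congrFun h j
      simp only [Agent.Spor.Leech.flip, hj, if_false, Pi.add_apply, Pi.neg_apply, Pi.single_eq_same, Equiv.Perm.one_def,
        Equiv.refl_symm, Equiv.refl_apply, Pi.single_eq_of_ne hkj.symm] at h1
      omega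

theorem conn_smul_mem {M : AddSubgroup Vec}
    (hinv : ∀ g : Co0, ∀ v : leechLattice, (v : Vec) ∈ M → ((g • v : leechLattice) : Vec) ∈ M)
    {x y : Vec} (h : Conn x y) (hx : x ∈ M) : y ∈ M := by
  obtain ⟨g, v, rfl, rfl⟩ := h
  exact hinv g v hx

theorem irreducible (M : AddSubgroup Vec) (h2 : ∀ v ∈ leechLattice, (2 : ℤ) • v ∈ M) (hle : M ≤ leechLattice)
    (hinv : ∀ g : Co0, ∀ v : leechLattice, (v : Vec) ∈ M → ((g • v : leechLattice) : Vec) ∈ M) :
    (∀ x ∈ M, ∃ w ∈ leechLattice, x = (2 : ℤ) • w) ∨ M = leechLattice := by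
  by_cases h : ∀ x ∈ M, ∃ w ∈ leechLattice, x = (2 : ℤ) • w
  · exact Or.inl h
  push Not at h
  obtain ⟨x, hx, hne⟩ := h
  refine Or.inr (le_antisymm hle ?_)
  obtain ⟨y, hy, hyn, z, hz, hxy⟩ := exists_short (hle hx)
  have hyM : y ∈ M := by
    have e : y = x - (2 : ℤ) • z := by
      rw [two_zsmul, ← two_nsmul, ← hxy]; abel
    rw [e]; exact sub_mem hx (h2 z hz)
  have hy0 : y ≠ 0 := fun e => hne z hz (by rw [two_zsmul, ← two_nsmul, ← hxy, e, sub_zero])
  suffices h32 : ∃ u ∈ M, sqNorm u = 32 by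
    obtain ⟨u, hu, hun⟩ := h32
    have all : ∀ v ∈ leechLattice, sqNorm v = 32 → v ∈ M := fun v hv hvn =>
      conn_smul_mem hinv ((orbit_32 (hle hu) hun).trans (orbit_32 hv hvn).symm) hu
    refine le_of_gens (fun b hb => ?_) (fun i s hs => all _ (mem_lattice.2 (fours_good i hs)) (fours_norm i hs)) ?_
    · exact all _ (mem_lattice.2 (twos_good (Agent.Spor.Golay.basis_octad b hb))) (by revert b; decide +kernel)
    · exact all _ (mem_lattice.2 oddGen_good) (by decide +kernel)
  rcases norm_multiple hy with h | h | h | h | h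
  · exact absurd h hy0
  · exact ⟨y, hyM, h⟩
  · have all : ∀ v ∈ leechLattice, sqNorm v = 48 → v ∈ M := fun v hv hvn =>
      conn_smul_mem hinv ((orbit_48 hy h).trans (orbit_48 hv hvn).symm) hyM
    refine ⟨ofList [-5, -1, -1, -1, -1, -1, -1, -1, -1, -1, -1, -1, -1, -1, -1, -1, -1, -1, -1, -1, -1, -1, -1, -1] + ofList [1, 5, 1, 1, 1, 1, 1, 1, 1, 1, 1, 1, 1, 1, 1, 1, 1, 1, 1, 1, 1, 1, 1, 1],
      add_mem (all _ (mem_of_inL (by decide +kernel)) (by decide +kernel))
        (all _ (mem_of_inL (by decide +kernel)) (by decide +kernel)), by decide +kernel⟩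
  · have all : ∀ v ∈ leechLattice, sqNorm v = 64 → v ∈ M := fun v hv hvn =>
      conn_smul_mem hinv ((orbit_64 hy h).trans (orbit_64 hv hvn).symm) hyM
    refine ⟨ofList [8, 0, 0, 0, 0, 0, 0, 0, 0, 0, 0, 0, 0, 0, 0, 0, 0, 0, 0, 0, 0, 0, 0, 0] + ofList [-6, 0, 0, 0, 0, 0, 0, 0, 0, 0, 0, 0, 2, 0, 2, 0, 2, 2, 2, 0, 0, 0, 2, 2],
      add_mem (all _ (mem_of_inL (by decide +kernel)) (by decide +kernel))
        (all _ (mem_of_inL (by decide +kernel)) (by decide +kernel)), by decide +kernel⟩
  · omega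

/-- The Leech lattice modulo twice itself is a faithful irreducible module for the first Conway group: an automorphism of the rank-24 lattice built from the length-24 code that moves every lattice vector only by twice a lattice vector lies in the centre of the automorphism group (the centre consists of ±1, which act trivially there, so the kernel is exactly the centre), and an additive subgroup lying between twice the lattice and the lattice that is invariant under all lattice automorphisms is one of the two. -/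
theorem result : (∀ g : ↥Cfsg.Co0, (∀ v : ↥Cfsg.leechLattice, ∃ w : ↥Cfsg.leechLattice, ((g • v : ↥Cfsg.leechLattice) : Cfsg.GolayPt → ℤ) - (v : Cfsg.GolayPt → ℤ) = 2 • (w : Cfsg.GolayPt → ℤ)) → g ∈ Subgroup.center ↥Cfsg.Co0) ∧ ∀ M : AddSubgroup (Cfsg.GolayPt → ℤ), (∀ v ∈ Cfsg.leechLattice, (2 : ℤ) • v ∈ M) → M ≤ Cfsg.leechLattice → (∀ g : ↥Cfsg.Co0, ∀ v : ↥Cfsg.leechLattice, (v : Cfsg.GolayPt → ℤ) ∈ M → ((g • v : ↥Cfsg.leechLattice) : Cfsg.GolayPt → ℤ) ∈ M) → (∀ x ∈ M, ∃ w ∈ Cfsg.leechLattice, x = (2 : ℤ) • w) ∨ M = Cfsg.leechLattice := by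
  exact ⟨only_center, irreducible⟩

end Cfsg.Agent.S5392
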