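import Cfsg.Statements.S5552
import Cfsg.Agent.Lib.Spor.Leech.Orbits

set_option autoImplicit false
open Cfsg

namespace Cfsg.Agent.S5552

open Cfsg.Agent.Spor.Leech

/-- A lattice member from its entries. -/
def elt (l : List ℤ) (h : inL (ofList l) = true) : leechLattice := ⟨ofList l, mem_of_inL h⟩

theorem zmod2 : ∀ x : ZMod 2, x + x = 0 ∧ (x ≠ 0 → x = 1) := by decide

theorem parity_shift {v y z : leechLattice} (h : v = y + (z + z)) :
    ((sqNorm (v : Vec) / 16 : ℤ) : ZMod 2) = ((sqNorm (y : Vec) / 16 : ℤ) : ZMod 2) := by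
  have e : (v : Vec) = (y : Vec) + ((z : Vec) + (z : Vec)) := congrArg Subtype.val h
  have hd := dot_dvd y.2 z.2
  have hz := norm_dvd z.2
  have hy := norm_dvd y.2
  have h1 : dotInt (y : Vec) ((z : Vec) + (z : Vec)) = 2 * dotInt (y : Vec) (z : Vec) := by
    simp only [dotInt, Pi.add_apply, Finset.mul_sum]
    exact Finset.sum_congr rfl fun i _ => by ring
  rw [ZMod.intCast_eq_intCast_iff_dvd_sub, e, norm_add, norm_add, h1,
    show dotInt (z : Vec) (z : Vec) = sqNorm (z : Vec) from Finset.sum_congr rfl fun i _ => by ring]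
  push_cast
  omega

/-- On the Leech lattice of the definitions, let Q be a function to the field with two elements that is constant on cosets of twice the lattice, is a quadratic form there (Q(u+v+w) + Q(u) + Q(v) + Q(w) = Q(u+v) + Q(u+w) + Q(v+w) for all u, v, w), is invariant under every lattice automorphism, and is not identically zero. Then Q(v) is the squared length of v divided by 16, reduced modulo 2, for every lattice vector v (squared lengths of lattice vectors are multiples of 16). -/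
theorem result (Q : ↥Cfsg.leechLattice → ZMod 2) (hcoset : ∀ v w : ↥Cfsg.leechLattice, Q (v + (w + w)) = Q v) (hquad : ∀ u v w : ↥Cfsg.leechLattice, Q (u + v + w) + Q u + Q v + Q w = Q (u + v) + Q (u + w) + Q (v + w)) (hinv : ∀ (g : ↥Cfsg.Co0) (v : ↥Cfsg.leechLattice), Q (g • v) = Q v) (hne : ∃ v : ↥Cfsg.leechLattice, Q v ≠ 0) (v : ↥Cfsg.leechLattice) : Q v = ((Cfsg.sqNorm (v : Cfsg.GolayPt → ℤ) / 16 : ℤ) : ZMod 2) := by
  have h0 : Q 0 = 0 := by
    have h := hquad 0 0 0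
    simp only [add_zero] at h
    revert h; generalize Q 0 = q; revert q; decide
  have hconst : ∀ {x y : ↥Cfsg.leechLattice}, Conn (x : Cfsg.GolayPt → ℤ) (y : Cfsg.GolayPt → ℤ) →
      Q x = Q y := by
    rintro x y ⟨g, w, hw, hy⟩
    obtain rfl : w = x := Subtype.ext hw
    rw [← hinv g w, show g • w = y from Subtype.ext hy]
  have h32 : ∀ {x y : ↥Cfsg.leechLattice}, Cfsg.sqNorm (x : Cfsg.GolayPt → ℤ) = 32 →
      Cfsg.sqNorm (y : Cfsg.GolayPt → ℤ) = 32 → Q x = Q y := fun {x y} hx hy =>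
    hconst ((orbit_32 x.2 hx).trans (orbit_32 y.2 hy).symm)
  have h48 : ∀ {x y : ↥Cfsg.leechLattice}, Cfsg.sqNorm (x : Cfsg.GolayPt → ℤ) = 48 →
      Cfsg.sqNorm (y : Cfsg.GolayPt → ℤ) = 48 → Q x = Q y := fun {x y} hx hy =>
    hconst ((orbit_48 x.2 hx).trans (orbit_48 y.2 hy).symm)
  have h64 : ∀ {x y : ↥Cfsg.leechLattice}, Cfsg.sqNorm (x : Cfsg.GolayPt → ℤ) = 64 →
      Cfsg.sqNorm (y : Cfsg.GolayPt → ℤ) = 64 → Q x = Q y := fun {x y} hx hy =>
    hconst ((orbit_64 x.2 hx).trans (orbit_64 y.2 hy).symm)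
  let u1 := elt [4, 4, 0, 0, 0, 0, 0, 0, 0, 0, 0, 0, 0, 0, 0, 0, 0, 0, 0, 0, 0, 0, 0, 0] (by decide +kernel)
  let v1 := elt [-4, 0, 4, 0, 0, 0, 0, 0, 0, 0, 0, 0, 0, 0, 0, 0, 0, 0, 0, 0, 0, 0, 0, 0] (by decide +kernel)
  let w1 := elt [0, -2, -2, 2, 2, 0, -2, 0, 0, 0, 0, 0, 0, 0, 0, 2, 0, 0, 2, 0, 0, 0, 0, -2] (by decide +kernel)
  let u2 := elt [4, 4, 0, 0, 0, 0, 0, 0, 0, 0, 0, 0, 0, 0, 0, 0, 0, 0, 0, 0, 0, 0, 0, 0] (by decide +kernel)
  let v2 := elt [-4, 0, 4, 0, 0, 0, 0, 0, 0, 0, 0, 0, 0, 0, 0, 0, 0, 0, 0, 0, 0, 0, 0, 0] (by decide +kernel)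
  let w2 := elt [0, 0, -2, 0, 0, 0, 0, 0, 2, 0, 0, 0, -2, 0, 0, 0, 2, 0, 0, -2, 0, 2, 2, -2] (by decide +kernel)
  have nu1 : Cfsg.sqNorm (u1 : Cfsg.GolayPt → ℤ) = 32 := by decide +kernel
  have n48 : Cfsg.sqNorm ((u2 + v2 + w2 : ↥Cfsg.leechLattice) : Cfsg.GolayPt → ℤ) = 48 := by decide +kernel
  have n64 : Cfsg.sqNorm ((u2 + w2 : ↥Cfsg.leechLattice) : Cfsg.GolayPt → ℤ) = 64 := by decide +kernel
  have ha : Q u1 = 0 := by
    have h := hquad u1 v1 w1
    rw [h32 (x := v1) (y := u1) (by decide +kernel) nu1, h32 (x := w1) (y := u1) (by decide +kernel) nu1,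
      h32 (x := u1 + v1 + w1) (y := u1) (by decide +kernel) nu1, h32 (x := u1 + v1) (y := u1) (by decide +kernel) nu1,
      h48 (x := u1 + w1) (y := u2 + v2 + w2) (by decide +kernel) n48,
      h48 (x := v1 + w1) (y := u2 + v2 + w2) (by decide +kernel) n48] at h
    revert h; generalize Q u1 = a; generalize Q (u2 + v2 + w2) = b; revert a b; decide
  have hc : Q (u2 + w2) = 0 := by
    have h := hquad u2 v2 w2
    rw [h32 (x := u2) (y := u1) (by decide +kernel) nu1, h32 (x := v2) (y := u1) (by decide +kernel) nu1,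
      h32 (x := w2) (y := u1) (by decide +kernel) nu1, h32 (x := u2 + v2) (y := u1) (by decide +kernel) nu1,
      h48 (x := v2 + w2) (y := u2 + v2 + w2) (by decide +kernel) n48, ha] at h
    revert h; generalize Q (u2 + w2) = c; generalize Q (u2 + v2 + w2) = b; revert c b; decide
  have hshort : ∀ x : ↥Cfsg.leechLattice, ∃ y z : ↥Cfsg.leechLattice, x = y + (z + z) ∧
      Cfsg.sqNorm (y : Cfsg.GolayPt → ℤ) ≤ 64 := by
    intro x
    obtain ⟨y, hy, hn, z, hz, e⟩ := exists_short x.2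
    exact ⟨⟨y, hy⟩, ⟨z, hz⟩, Subtype.ext (by
      show (x : Cfsg.GolayPt → ℤ) = y + (z + z)
      rw [← two_nsmul, ← e]; abel), hn⟩
  have hb : Q (u2 + v2 + w2) = 1 := by
    refine (zmod2 _).2 fun hb => ?_
    obtain ⟨x, hx⟩ := hne
    obtain ⟨y, z, rfl, hn⟩ := hshort x
    rw [hcoset] at hx
    rcases norm_multiple y.2 with h | h | h | h | h
    · exact hx (by rw [show y = 0 from Subtype.ext h, h0])
    · exact hx (by rw [h32 h nu1, ha])
    · exact hx (by rw [h48 h n48, hb])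
    · exact hx (by rw [h64 h n64, hc])
    · omega
  obtain ⟨y, z, rfl, hn⟩ := hshort v
  rw [parity_shift rfl, hcoset]
  rcases norm_multiple y.2 with h | h | h | h | h
  · rw [show y = 0 from Subtype.ext h, h0]
    simp [Cfsg.sqNorm]
  · rw [h32 h nu1, ha, h]; decide
  · rw [h48 h n48, hb, h]; decide
  · rw [h64 h n64, hc, h]; decide
  · omega

end Cfsg.Agent.S5552
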