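import Cfsg.Statements.S3171
import Cfsg.Agent.Lib.Spor.M24SylowQuot
import Cfsg.Agent.Lib.Spor.AffineOctad
import Cfsg.Agent.S0364
-- import your own Cfsg.Agent.* helpers here

set_option autoImplicit false
open Cfsg

namespace Cfsg.Agent.S3171

open Cfsg.Agent.Spor Cfsg.Agent.Spor.Affine Cfsg.Agent.Spor.M24Quot

def b2z (b : Bool) : ZMod 2 := if b then 1 else 0

theorem b2z_xor : ∀ a b, b2z (a ^^ b) = b2z a + b2z b := by decide
theorem b2z_and : ∀ a b, b2z (a && b) = b2z a * b2z b := by decide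
theorem b2z_inj : ∀ a b, b2z a = b2z b → a = b := by decide

/-- The linear part. -/
def gfun (t : T9) : W 3 →ₗ[ZMod 2] W 3 where
  toFun w := (![w.1 0 + b2z t.u.a23 * w.1 1 + b2z t.u.a24 * w.1 2, w.1 1 + b2z t.u.a34 * w.1 2, w.1 2],
    w.2 + b2z t.v.a12 * w.1 0 + b2z t.v.a13 * w.1 1 + b2z t.v.a14 * w.1 2)
  map_add' a b := by
    refine Prod.ext (funext fun i => ?_) ?_
    · fin_cases i <;> simp <;> ring
    · simp; ring
  map_smul' c a := by
    refine Prod.ext (funext fun i => ?_) ?_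
    · fin_cases i <;> simp <;> ring
    · simp; ring

theorem gfun_inj (t : T9) : Function.Injective (gfun t) := fun a b h => by
  have h0 := congrFun (congrArg Prod.fst h) 0
  have h1 := congrFun (congrArg Prod.fst h) 1
  have h2 := congrFun (congrArg Prod.fst h) 2
  have h3 := congrArg Prod.snd h
  simp [gfun] at h0 h1 h2 h3
  rw [h2] at h1 h0 h3
  simp at h1
  rw [h1] at h0 h3
  simp at h0
  rw [h0] at h3
  simp at h3
  refine Prod.ext (funext fun i => ?_) h3
  fin_cases i <;> assumption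

noncomputable def gl (t : T9) : W 3 ≃ₗ[ZMod 2] W 3 :=
  LinearEquiv.ofBijective (gfun t) ⟨gfun_inj t, Finite.injective_iff_surjective.mp (gfun_inj t)⟩

/-- The translation part. -/
def wvec (x : Bool × T9) : W 3 := (![b2z x.2.v.a25, b2z x.2.v.a35, b2z x.2.v.a45], b2z x.1)

theorem gl_mul (s t : T9) : gl s * gl t = gl (mul s t) := by
  refine LinearEquiv.ext fun w => ?_
  show gfun s (gfun t w) = gfun (mul s t) w
  refine Prod.ext (funext fun i => ?_) ?_
  · fin_cases i <;> simp [gfun, mul, umul, b2z_xor, b2z_and] <;> ring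
  · simp [gfun, mul, umul, b2z_xor, b2z_and]; ring

theorem wvec_mul (x y : Bool × T9) : wvec x + gl x.2 (wvec y) = wvec (mul10 x y) := by
  show wvec x + gfun x.2 (wvec y) = _
  refine Prod.ext (funext fun i => ?_) ?_
  · fin_cases i <;> simp [gfun, wvec, mul10, mul, b2z_xor, b2z_and] <;> ring
  · simp [gfun, wvec, mul10, top15, b2z_xor, b2z_and]; ring

theorem coords (P : Sylow 2 ↥Cfsg.M24) :
    ∃ φ : ↥(P : Subgroup ↥Cfsg.M24) ≃ Bool × T9, ∀ x y, φ (x * y) = mul10 (φ x) (φ y) := by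
  classical
  haveI : Fact (Nat.Prime 2) := ⟨Nat.prime_two⟩
  obtain ⟨o, ho⟩ : ∃ o, o ∈ Cfsg.octads := ⟨_, Golay.mem_octads.mpr ⟨5279, by decide +kernel, rfl⟩⟩
  obtain ⟨p, hp⟩ : ∃ p, p ∉ o := by
    by_contra h
    push Not at h
    have h8 := Golay.octad_card ho
    rw [Finset.eq_univ_of_forall h, Finset.card_univ, Golay.card_golayPt] at h8
    omega
  haveI : Nontrivial ↥(Oct.U o) := Finite.one_lt_card_iff_nontrivial.mp (by rw [(Oct.card_facts ho hp).1]; norm_num)
  obtain ⟨⟨z, hzU⟩, hne⟩ := exists_ne (1 : ↥(Oct.U o))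
  obtain ⟨S, -⟩ := Oct.exists_setup_oct ho hzU fun h => hne (Subtype.ext h)
  let f : Bool × T9 → ↥Cfsg.M24 := fun x => S.tr (wvec x) * (S.sec (gl x.2) : ↥Cfsg.M24)
  have hf : ∀ x y, f x * f y = f (mul10 x y) := fun x y => by
    simp only [f]
    rw [S.pair_mul, gl_mul, wvec_mul]
    rfl
  have hinj : Function.Injective f := fun x y h => by
    obtain ⟨hw, hg⟩ := S.pair_inj h
    have hg' : ∀ w, gfun x.2 w = gfun y.2 w := fun w => congrArg (fun e : W 3 ≃ₗ[ZMod 2] W 3 => e w) hg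
    have a1 := hg' (![1, 0, 0], 0)
    have a2 := hg' (![0, 1, 0], 0)
    have a3 := hg' (![0, 0, 1], 0)
    simp [gfun] at a1 a2 a3
    simp [wvec] at hw
    obtain ⟨xc, ⟨x1, x2, x3⟩, ⟨y1, y2, y3, y4, y5, y6⟩⟩ := x
    obtain ⟨yc, ⟨p1, p2, p3⟩, ⟨q1, q2, q3, q4, q5, q6⟩⟩ := y
    simp only at a1 a2 a3 hw
    grind [b2z_inj]
  have hidem : ∀ x : Bool × T9, mul10 x x = x → x = (false, M24Quot.o) := by
    rintro ⟨c, t⟩ h
    have ht : t = M24Quot.o := idem _ (congrArg Prod.snd h)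
    subst ht
    cases c
    · rfl
    · exact absurd h (by decide)
  have hone : f (false, M24Quot.o) = 1 := by
    have := hf (false, M24Quot.o) (false, M24Quot.o)
    rw [show mul10 (false, M24Quot.o) (false, M24Quot.o) = (false, M24Quot.o) by decide] at this
    exact mul_eq_left.mp this
  let M : Submonoid ↥Cfsg.M24 :=
    { carrier := Set.range f
      one_mem' := ⟨_, hone⟩
      mul_mem' := by
        rintro _ _ ⟨a, rfl⟩ ⟨b, rfl⟩
        exact ⟨_, (hf a b).symm⟩ }
  let H : Subgroup ↥Cfsg.M24 :=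
    { M with
      inv_mem' := fun {a} ha => by
        have : a⁻¹ = a ^ (orderOf a - 1) := inv_eq_of_mul_eq_one_right (by
          rw [← pow_succ', Nat.sub_add_cancel (orderOf_pos a), pow_orderOf_eq_one])
        rw [this]
        exact M.pow_mem ha _ }
  let e : Bool × T9 ≃ ↥H := Equiv.ofInjective f hinj
  have hcard : Nat.card H = 2 ^ 10 := by
    rw [← Nat.card_congr e, Nat.card_eq_fintype_card]
    decide +kernel
  have hM : Nat.card ↥Cfsg.M24 = 244823040 := Cfsg.Agent.S0364.result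
  let S0 : Sylow 2 ↥Cfsg.M24 := Sylow.ofCard H (by
    rw [hcard, hM, show 244823040 = 2 ^ 10 * 239085 by norm_num, Nat.factorization_mul (by norm_num) (by norm_num),
      Finsupp.add_apply, Nat.Prime.factorization_pow Nat.prime_two, Finsupp.single_eq_same,
      Nat.factorization_eq_zero_of_not_dvd (by norm_num)])
  let i : ↥(P : Subgroup ↥Cfsg.M24) ≃* ↥H := P.equiv S0
  refine ⟨i.toEquiv.trans e.symm, fun x y => e.injective ?_⟩
  simp only [Equiv.trans_apply, Equiv.apply_symm_apply]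
  refine Subtype.ext ?_
  show ((i (x * y) : ↥H) : ↥Cfsg.M24) = f (mul10 (e.symm (i x)) (e.symm (i y)))
  rw [← hf, map_mul, Subgroup.coe_mul]
  conv_lhs => rw [← e.apply_symm_apply (i x), ← e.apply_symm_apply (i y)]
  rfl

/-- Let P be a Sylow 2-subgroup of the Mathieu group of degree 24 and S the quotient of P by its centre. Then the centre of every maximal subgroup of S has order at most 8; S has an elementary abelian subgroup of order 64; and S has only one abelian subgroup of order 64. -/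
theorem result (P : Sylow 2 ↥Cfsg.M24) :
    (∀ M : Subgroup (↥(P : Subgroup ↥Cfsg.M24) ⧸ Subgroup.center ↥(P : Subgroup ↥Cfsg.M24)), IsCoatom M →
        Nat.card ↥(Subgroup.center ↥M) ≤ 8) ∧
      (∃ A : Subgroup (↥(P : Subgroup ↥Cfsg.M24) ⧸ Subgroup.center ↥(P : Subgroup ↥Cfsg.M24)),
        Cfsg.IsElementaryAbelian 2 A ∧ Nat.card ↥A = 64) ∧
      ∀ A B : Subgroup (↥(P : Subgroup ↥Cfsg.M24) ⧸ Subgroup.center ↥(P : Subgroup ↥Cfsg.M24)),
        IsMulCommutative ↥A → Nat.card ↥A = 64 → IsMulCommutative ↥B → Nat.card ↥B = 64 → A = B := by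
  classical
  haveI : Fact (Nat.Prime 2) := ⟨Nat.prime_two⟩
  obtain ⟨φ, hφ⟩ := coords P
  obtain ⟨ψ, hψ⟩ := Spor.M24Quot.quot_coord φ hφ
  exact Spor.M24Quot.main ψ hψ (P.isPGroup'.to_quotient _)

end Cfsg.Agent.S3171
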