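import Cfsg.Statements.S0904
import Cfsg.Agent.Lib.Block.Elementary
import Cfsg.Agent.Lib.Block.Orth
import Cfsg.Agent.Lib.Block.Separated
import Cfsg.Agent.Lib.Char.ModP

set_option autoImplicit false
open Cfsg

namespace Cfsg.Agent.S0904

open scoped ComplexConjugate
open Cfsg.Agent.Block

/-- Weak orthogonality between `1` and a `p`-singular `r`-singular element, read modulo `q`. -/
theorem false_of_commute {G : Type*} [Group G] [Finite G] [IsSimpleGroup G] (p q r a b : ℕ)
    [Fact p.Prime] [Fact q.Prime] [Fact r.Prime] (hpr : p ≠ r) (hqr : q ≠ r)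
    (hcard : Nat.card G = p ^ a * q ^ b * r) (hna : ∃ x y : G, x * y ≠ y * x) (g : G)
    (hp : p ∣ orderOf g) (hr : r ∣ orderOf g) : False := by
  classical
  haveI := Fintype.ofFinite G
  obtain ⟨M, hM⟩ := Cfsg.Agent.Char.exists_isPModular p (Fact.out)
  obtain ⟨Mq, hMq⟩ := Cfsg.Agent.Char.exists_isPModular q (Fact.out)
  obtain ⟨Mr, hMr⟩ := Cfsg.Agent.Char.exists_isPModular r (Fact.out)
  have h0 := weak_orth hM (isPBlock_principalBlock (M := M) (G := G)) (x := 1) (y := g)
    (by rw [orderOf_one]; exact (Fact.out : p.Prime).not_dvd_one) hp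
  set S : Finset (IrrCharacter G) := (principalBlock M G).toFinite.toFinset with hS
  rw [finsum_mem_eq_finite_toFinset_sum _ (principalBlock M G).toFinite, ← hS] at h0
  have htriv : trivialIrr G ∈ S := by
    rw [hS, Set.Finite.mem_toFinset]
    exact trivial_mem_principalBlock hM
  rw [← Finset.add_sum_erase S _ htriv] at h0
  have hterm : ∀ χ ∈ S.erase (trivialIrr G),
      MemLocalIdeal Mq ((χ : G → ℂ) 1 * conj ((χ : G → ℂ) g)) := by
    intro χ hχ
    rw [Finset.mem_erase, hS, Set.Finite.mem_toFinset] at hχ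
    have hint : MemLocalRing Mq (conj ((χ : G → ℂ) g)) :=
      ring_of_integral hMq ((irr_isIntegral χ g).map (starRingEnd ℂ).toIntAlgHom)
    rw [charDeg_spec' χ]
    by_cases hqd : q ∣ charDegree (χ : G → ℂ)
    · exact ideal_mul_right hMq ((ideal_natCast_iff hMq _).2 hqd) hint
    by_cases hrd : r ∣ charDegree (χ : G → ℂ)
    · have hfull : (charDegree (χ : G → ℂ)).factorization r = (Nat.card G).factorization r := by
        refine le_antisymm ((Nat.factorization_le_iff_dvd (charDeg_pos χ).ne' Nat.card_pos.ne').2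
          (charDeg_dvd χ) r) ?_
        have hne : ¬ r ∣ p ^ a * q ^ b := (Fact.out : r.Prime).not_dvd_mul
          (fun h => hpr ((Nat.prime_dvd_prime_iff_eq Fact.out Fact.out).1
            ((Fact.out : r.Prime).dvd_of_dvd_pow h)).symm)
          (fun h => hqr ((Nat.prime_dvd_prime_iff_eq Fact.out Fact.out).1
            ((Fact.out : r.Prime).dvd_of_dvd_pow h)).symm)
        have h1 : (Nat.card G).factorization r = 1 := by
          rw [hcard, Nat.factorization_mul (fun h => hne (by rw [h]; exact dvd_zero r))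
            (Fact.out : r.Prime).ne_zero, Finsupp.add_apply,
            Nat.factorization_eq_zero_of_not_dvd hne, (Fact.out : r.Prime).factorization_self,
            zero_add]
        rw [h1]
        exact (Fact.out : r.Prime).factorization_pos_of_dvd (charDeg_pos χ).ne' hrd
      rw [defectZero_vanish hMr χ hfull hr, map_zero, mul_zero]
      exact ideal_zero hMq
    · exfalso
      have hdvd : charDegree (χ : G → ℂ) ∣ p ^ a * q ^ b * r := hcard ▸ charDeg_dvd χ
      have h1 : Nat.Coprime (charDegree (χ : G → ℂ)) r :=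
        ((Fact.out : r.Prime).coprime_iff_not_dvd.2 hrd).symm
      have h2 : Nat.Coprime (charDegree (χ : G → ℂ)) (q ^ b) :=
        (((Fact.out : q.Prime).coprime_iff_not_dvd.2 hqd).symm).pow_right b
      obtain ⟨k, -, hk⟩ := (Nat.dvd_prime_pow Fact.out).1
        (h2.dvd_of_dvd_mul_right (h1.dvd_of_dvd_mul_right hdvd))
      refine hχ.1 (Subtype.ext (principal_pPow_degree hM hna χ hχ.2 k ?_))
      rw [charDeg_spec' χ, hk, Nat.cast_pow]
  have hsum := ideal_sum hMq hterm
  have hone : MemLocalIdeal Mq 1 := by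
    rw [show ((trivialIrr G : IrrCharacter G) : G → ℂ) g = 1 from rfl, map_one, mul_one,
      show ((trivialIrr G : IrrCharacter G) : G → ℂ) 1 = 1 from rfl] at h0
    rw [eq_neg_of_add_eq_zero_left h0]
    exact ideal_neg hsum
  exact ideal_one hMq hone

/-- Let G be a finite simple group of order p ^ a * q ^ b * r with p, q, r distinct primes. Then every Sylow r-subgroup S of G satisfies C_G(S) = S. -/
theorem result {G : Type*} [Group G] [Finite G] [IsSimpleGroup G] (p q r a b : ℕ) (hp : p.Prime) (hq : q.Prime) [Fact r.Prime] (hpq : p ≠ q) (hpr : p ≠ r) (hqr : q ≠ r) (hcard : Nat.card G = p ^ a * q ^ b * r) (S : Sylow r G) : Subgroup.centralizer (S : Set G) = (S : Subgroup G) := by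
  classical
  haveI := Fact.mk hp
  haveI := Fact.mk hq
  have hSC : (S : Subgroup G) ≤ Subgroup.centralizer (S : Set G) := by
    have hc : Nat.card (S : Subgroup G) = r := by
      have hne : ¬ r ∣ p ^ a * q ^ b := (Fact.out : r.Prime).not_dvd_mul
        (fun h => hpr ((Nat.prime_dvd_prime_iff_eq Fact.out hp).1
          ((Fact.out : r.Prime).dvd_of_dvd_pow h)).symm)
        (fun h => hqr ((Nat.prime_dvd_prime_iff_eq Fact.out hq).1
          ((Fact.out : r.Prime).dvd_of_dvd_pow h)).symm)
      rw [S.card_eq_multiplicity, hcard, Nat.factorization_mul (fun h => hne (by rw [h]; exact dvd_zero r))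
        (Fact.out : r.Prime).ne_zero, Finsupp.add_apply, Nat.factorization_eq_zero_of_not_dvd hne,
        (Fact.out : r.Prime).factorization_self, zero_add, pow_one]
    haveI : IsCyclic (S : Subgroup G) := isCyclic_of_prime_card hc
    intro x hx
    exact Subgroup.mem_centralizer_iff.2 fun y hy => congrArg Subtype.val
      ((IsCyclic.commGroup (α := (S : Subgroup G))).mul_comm ⟨y, hy⟩ ⟨x, hx⟩)
  by_contra hne
  obtain ⟨ℓ, hℓ, hℓdvd, hℓr⟩ : ∃ ℓ : ℕ, ℓ.Prime ∧ ℓ ∣ Nat.card (Subgroup.centralizer (S : Set G)) ∧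
      ℓ ≠ r := by
    by_contra hno
    push Not at hno
    exact hne (S.is_maximal' (IsPGroup.of_card (n := (Nat.card _).primeFactorsList.length)
      (Nat.eq_prime_pow_of_unique_prime_dvd Nat.card_pos.ne' fun hd hdv => hno _ hd hdv)) hSC)
  haveI := Fact.mk hℓ
  obtain ⟨v, hv⟩ := exists_prime_orderOf_dvd_card' ℓ hℓdvd
  have hvG : orderOf (v : G) = ℓ := by rw [Subgroup.orderOf_coe, hv]
  obtain ⟨s, hs⟩ := exists_prime_orderOf_dvd_card' (G := (S : Subgroup G)) r (by
    obtain ⟨n, hn⟩ := IsPGroup.iff_card.1 S.isPGroup'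
    rcases Nat.eq_zero_or_pos n with h | h
    · exfalso
      have h1 := S.card_eq_multiplicity
      rw [hn, h, pow_zero] at h1
      exact Nat.ne_of_lt (Nat.one_lt_pow ((Fact.out : r.Prime).factorization_pos_of_dvd
        Nat.card_pos.ne' (hcard ▸ dvd_mul_left r _)).ne' (Fact.out : r.Prime).one_lt) h1
    · rw [hn]; exact dvd_pow_self r h.ne')
  have hsG : orderOf (s : G) = r := by rw [Subgroup.orderOf_coe, hs]
  have hcomm : Commute (v : G) (s : G) := (Subgroup.mem_centralizer_iff.1 v.2 _ s.2).symm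
  have hord : orderOf ((v : G) * s) = ℓ * r := by
    rw [hcomm.orderOf_mul_eq_mul_orderOf_of_coprime (by
      rw [hvG, hsG]; exact (Nat.coprime_primes hℓ Fact.out).2 hℓr), hvG, hsG]
  have hna : ∃ x y : G, x * y ≠ y * x := by
    by_contra hno
    push Not at hno
    letI : CommGroup G := { (inferInstance : Group G) with mul_comm := hno }
    have hprime := IsSimpleGroup.prime_card (α := G)
    have h1 : ℓ * r ∣ Nat.card G := hord ▸ orderOf_dvd_natCard _
    rcases (Nat.dvd_prime hprime).1 ((dvd_mul_right ℓ r).trans h1) with h | h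
    · exact hℓ.ne_one h
    rcases (Nat.dvd_prime hprime).1 ((dvd_mul_left r ℓ).trans h1) with h' | h'
    · exact (Fact.out : r.Prime).ne_one h'
    · exact hℓr (h.trans h'.symm)
  have hd : ℓ ∣ p ^ a * q ^ b * r := hcard ▸ hℓdvd.trans (Subgroup.card_subgroup_dvd_card _)
  rcases (Nat.Prime.dvd_mul hℓ).1 hd with h | h
  · rcases (Nat.Prime.dvd_mul hℓ).1 h with h | h
    · obtain rfl := (Nat.prime_dvd_prime_iff_eq hℓ hp).1 (hℓ.dvd_of_dvd_pow h)
      exact false_of_commute ℓ q r a b hpr hqr hcard hna _ (hord ▸ dvd_mul_right _ _)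
        (hord ▸ dvd_mul_left _ _)
    · obtain rfl := (Nat.prime_dvd_prime_iff_eq hℓ hq).1 (hℓ.dvd_of_dvd_pow h)
      exact false_of_commute ℓ p r b a hqr hpr (by rw [hcard]; ring) hna _
        (hord ▸ dvd_mul_right _ _) (hord ▸ dvd_mul_left _ _)
  · exact hℓr ((Nat.prime_dvd_prime_iff_eq hℓ Fact.out).1 h)

end Cfsg.Agent.S0904
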