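import Cfsg.Statements.S3732
import Cfsg.Agent.Lib.Plane.Existence
import Cfsg.Agent.Lib.Plane.Coordinates

set_option autoImplicit false
open Cfsg

namespace Cfsg.Agent.S3732

/-- The Ostrom–Wagner Theorem. Let Π be a finite projective plane (points P, lines L) whose collineation group is 2-transitive on points: for any two ordered pairs of distinct points there is a permutation of the points, together with a compatible permutation of the lines preserving incidence, carrying the first pair to the second. Then Π is Desarguesian: there is a finite field F and a bijection from P onto the points of the projective plane over F (the 1-dimensional subspaces of F³) under which the lines of Π correspond exactly to the 2-dimensional subspaces of F³. -/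
theorem result
    {P L : Type*} [Membership P L] [Fintype P] [Fintype L] [Configuration.ProjectivePlane P L]
    (h2t : ∀ p₁ p₂ q₁ q₂ : P, p₁ ≠ p₂ → q₁ ≠ q₂ →
      ∃ (σ : Equiv.Perm P) (τ : Equiv.Perm L), (∀ (p : P) (l : L), σ p ∈ τ l ↔ p ∈ l) ∧ σ p₁ = q₁ ∧ σ p₂ = q₂) :
    ∃ (F : Type) (_ : Field F) (_ : Fintype F) (φ : P ≃ Projectivization F (Fin 3 → F)),
      (∀ l : L, ∃ W : Submodule F (Fin 3 → F), Module.finrank F W = 2 ∧
          ∀ p : P, p ∈ l ↔ (φ p).submodule ≤ W) ∧
      (∀ W : Submodule F (Fin 3 → F), Module.finrank F W = 2 →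
          ∃ l : L, ∀ p : P, p ∈ l ↔ (φ p).submodule ≤ W) := by
  classical
  have hT : OW.TwoTrans (⊤ : Subgroup (OW.Coll P L)) := by
    intro a b c d hab hcd
    obtain ⟨σ, τ, h, h1, h2⟩ := h2t a b c d hab hcd
    exact ⟨⟨(σ, τ), h⟩, Subgroup.mem_top _, h1, h2⟩
  obtain ⟨p, -, -, hexp, hfl⟩ :=
    OW.full_elations hT (OW.exists_axial _ _ hT le_rfl)
  obtain ⟨O, -⟩ := OW.exists_point' P L
  obtain ⟨li, hO⟩ := OW.exists_not_through (L := L) O
  obtain ⟨X, hX, -⟩ := OW.exists_mem_ne li O
  obtain ⟨Y, hY, hYX⟩ := OW.exists_mem_ne li X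
  obtain ⟨xl, hOx, hXx⟩ := OW.exists_line_through (L := L) (fun e : O = X => hO (e ▸ hX))
  obtain ⟨yl, hOy, hYy⟩ := OW.exists_line_through (L := L) (fun e : O = Y => hO (e ▸ hY))
  let F : OW.Frame P L :=
    { li := li, xl := xl, yl := yl, X := X, Y := Y, O := O
      X_li := hX, Y_li := hY, X_ne_Y := hYX.symm, O_li := hO
      O_xl := hOx, X_xl := hXx, O_yl := hOy, Y_yl := hYy
      full := fun d l hd => by
        have h := hfl d l hd
        rwa [top_inf_eq] at h
      comm := fun l g hg h hh =>
        (hexp l).2 g ⟨Subgroup.mem_top _, hg⟩ h ⟨Subgroup.mem_top _, hh⟩ }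
  obtain ⟨φ, h1, h2⟩ := F.desarguesian
  haveI : Finite F.K := Finite.of_equiv _ F.cEquiv
  exact ⟨F.K, F.fieldK, Fintype.ofFinite _, φ, h1, h2⟩

end Cfsg.Agent.S3732
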