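import Cfsg.Statements.S0292
import Cfsg.Agent.Lib.Classical.OrthPOmegaCard
import Cfsg.Agent.Lib.Classical.OrthGenModels
-- import your own Cfsg.Agent.* helpers here

set_option autoImplicit false
open Cfsg

namespace Cfsg.Agent.S0292
open Cfsg.Agent.Classical Cfsg.Agent.Classical.OrthAut


/-- 2 |PΩ_{2m+1}(q)| = q^(m^2) prod_{i=1}^{m} (q^(2i) - 1), for q odd and m at least 3 (type B_m). -/
theorem result {F : Type*} [Field F] [Fintype F] {q : ℕ} (hF : Fintype.card F = q) (hodd : Odd q) (m : ℕ) (hm : 3 ≤ m) : 2 * Nat.card (Cfsg.POmega F (Cfsg.quadFormOdd m F)) = q ^ (m ^ 2) * ∏ i ∈ Finset.range m, (q ^ (2 * (i + 1)) - 1) := by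
  have h2 := two_ne_zero_of_odd hF hodd
  have hQ := nondegenerate_qfOdd m h2
  have hc : Nat.card (Subgroup.center (Omega F ⇑(qfOdd m F))) = 1 := by
    refine card_center_one hQ (tri_qfOdd hm) (by simp) fun g hg hgv => ?_
    have h := det_omega hg
    rw [hgv, Matrix.det_neg, Matrix.det_one, mul_one] at h
    simp at h
    exact absurd h fun e => h2 (by linear_combination -e)
  have hi := index_omega_odd hQ (genQ_odd hQ h2) h2 (by simp; omega)
  have hmul := card_pomega_mul (qfOdd m F)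
  rw [hc, hi, one_mul] at hmul
  have hord := order_qfOdd h2 (F := F) m
  rw [← hmul, ← cast_prod_sub_one, hF] at hord
  rw [← coe_qfOdd]
  have : 4 * Nat.card (POmega F ⇑(qfOdd m F)) = 2 * q ^ (m ^ 2) * ∏ i ∈ Finset.range m, (q ^ (2 * (i + 1)) - 1) := by
    exact_mod_cast hord
  rw [mul_assoc 2 (q ^ (m ^ 2))] at this
  omega

end Cfsg.Agent.S0292
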