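import Cfsg.Statements.S0247
import Cfsg.Agent.Lib.Classical.BinaryHeart
import Cfsg.Agent.Lib.Classical.BinaryTransport
import Cfsg.Agent.Lib.Classical.SympGen
-- import your own Cfsg.Agent.* helpers here

set_option autoImplicit false
open Cfsg

namespace Cfsg.Agent.S0247

/-- Sp_4(2) is isomorphic to the symmetric group S_6. -/
theorem result {F : Type*} [Field F] [Fintype F] (hF : Fintype.card F = 2) : Nonempty (Matrix.symplecticGroup (Fin 2) F ≃* Equiv.Perm (Fin 6)) := by
  haveI : Fact (Nat.Prime 2) := ⟨Nat.prime_two⟩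
  obtain ⟨e⟩ := Classical.Transport.symplectic_congr (l := Fin 2) (ZMod.ringEquivOfPrime F Nat.prime_two hF)
  have hinj := Classical.Heart.hom_injective (m := 2) le_rfl
  have hcard : Nat.card (Matrix.symplecticGroup (Fin 2) (ZMod 2)) = Nat.card (Equiv.Perm (Fin (2 * (2 + 1)))) := by
    rw [Classical.natCard_symplecticGroup, Nat.card_zmod,
      Nat.card_eq_fintype_card (α := Equiv.Perm (Fin (2 * (2 + 1)))), Fintype.card_perm, Fintype.card_fin]
    decide
  exact ⟨e.symm.trans (MulEquiv.ofBijective _ (hinj.bijective_of_nat_card_le hcard.le)).symm⟩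

end Cfsg.Agent.S0247
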