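import Cfsg.Statements.S1614
import Cfsg.Agent.Lib.Grp.PolarRec.Main
import Cfsg.Agent.S1615
import Cfsg.Agent.S0247
-- import your own Cfsg.Agent.* helpers here

set_option autoImplicit false
open Cfsg

namespace Cfsg.Agent.S1614

/-- If the commuting transpositions of one transposition generate a solvable group, a Fischer 3-transposition group is S5, S6, PSU(4, 2) or PSU(5, 2). -/
theorem result {G : Type*} [Group G] [Finite G] (hsol : ∀ N : Subgroup G, N.Normal → Group.IsSolvable ↥N → N = ⊥) (hperf : ⁅commutator G, commutator G⁆ = commutator G) {D : Set G} (hD : Cfsg.IsThreeTranspositionClass D) (x : G) (hx : x ∈ D) (hs : Group.IsSolvable ↥(Subgroup.closure {y : G | y ∈ D ∧ y ≠ x ∧ Commute x y})) : Nonempty (G ≃* Equiv.Perm (Fin 5)) ∨ Nonempty (G ≃* Equiv.Perm (Fin 6)) ∨ ∃ (F : Type) (_ : Field F) (_ : Fintype F), Fintype.card F = 4 ∧ (Nonempty (G ≃* Cfsg.PSU 4 F 2) ∨ Nonempty (G ≃* Cfsg.PSU 5 F 2)) :=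 by
  have H := Cfsg.Agent.Spor.ThreeTrans.hyp_of_no_solvable hsol hperf hD
  have hL : Group.IsSolvable ↥(Subgroup.closure (Cfsg.Agent.Spor.ThreeTrans.perp D x)) := hs
  obtain ⟨-, hcase⟩ := Cfsg.Agent.Spor.FischerStr.trichotomy (Cfsg.Agent.Grp.PolarRec.localClass_class H hx)
    (Cfsg.Agent.Grp.PolarRec.localClass_two H hx)
  rcases hcase with ⟨h2, -, -⟩ | ⟨-, h3, -⟩ | ⟨-, -, hlay⟩
  · have C := Cfsg.Agent.Grp.PolarRec.ctx_of_core H hx h2
    rcases Cfsg.Agent.Grp.PolarRec.models C (Cfsg.Agent.Grp.PolarRec.center_eq_bot hsol) with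
      ⟨m, τ, hm, hτ⟩ | ⟨F, i1, i2, h4, n, τ, hn, hτ⟩
    · have hm2 := Cfsg.Agent.Grp.PolarRec.symp_small hD hx hs τ hτ
      obtain rfl : m = 2 := by omega
      obtain ⟨e⟩ := Cfsg.Agent.S0247.result (F := ZMod 2) (ZMod.card 2)
      exact Or.inr (Or.inl ⟨τ.trans e⟩)
    · have hn5 := Cfsg.Agent.Grp.PolarRec.unit_small hD hx hs h4 τ hτ
      rcases (by omega : n = 4 ∨ n = 5) with rfl | rfl
      · exact Or.inr (Or.inr ⟨F, i1, i2, h4, Or.inl ⟨τ⟩⟩)
      · exact Or.inr (Or.inr ⟨F, i1, i2, h4, Or.inr ⟨τ⟩⟩)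
  · exact Or.inl (Cfsg.Agent.S1615.result hsol hperf hD x hx
      fun k => h3 (Cfsg.Agent.Grp.PolarRec.pCore_three_le_oddCore.trans k))
  · exact absurd Cfsg.Agent.Grp.PolarRec.layer_eq_bot hlay

end Cfsg.Agent.S1614
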