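import Cfsg.Statements.S4134
import Mathlib
import Cfsg.Agent.Lib.Transfer.OneClassSize

set_option maxHeartbeats 1000000
set_option maxRecDepth 8000

set_option autoImplicit false
open Cfsg

namespace Cfsg.Agent.S4134

/-- Let G be a finite group whose conjugacy classes have exactly two sizes, 1 and n > 1. Then n is a power of a prime p and G is the direct product of a p-group and an abelian group of order prime to p: its Sylow p-subgroup P is normal with an abelian normal complement centralizing it; moreover P has an abelian normal subgroup A with P/A of exponent dividing p. -/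
theorem result {G : Type*} [Group G] [Finite G] (n : ℕ) (hn : 1 < n)
    (h : ∀ x : G, (Subgroup.centralizer ({x} : Set G)).index = 1 ∨ (Subgroup.centralizer ({x} : Set G)).index = n) (hex : ∃ x : G, (Subgroup.centralizer ({x} : Set G)).index = n) :
    ∃ (p : ℕ) (_ : Fact p.Prime) (a : ℕ), n = p ^ a ∧ ∀ P : Sylow p G, (P : Subgroup G).Normal ∧
      (∃ N : Subgroup G, N.Normal ∧ N.IsComplement' (P : Subgroup G) ∧ IsMulCommutative N ∧
        ∀ x ∈ N, ∀ y ∈ (P : Subgroup G), x * y = y * x) ∧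
      ∃ A : Subgroup (P : Subgroup G), A.Normal ∧ IsMulCommutative A ∧ ∀ y : (P : Subgroup G), y ^ p ∈ A := by
  obtain ⟨p, hp, hpG⟩ := Cfsg.Agent.Transfer.OneClassSize.exists_prime hn h hex
  haveI : Fact p.Prime := ⟨hp⟩
  obtain ⟨k, hk⟩ := IsPGroup.iff_card.1 hpG
  obtain ⟨x, hx⟩ := hex
  have hdvd : n ∣ p ^ k := by
    rw [← hk, ← hx]
    exact Subgroup.index_dvd_of_le (Subgroup.center_le_centralizer _)
  obtain ⟨a, -, ha⟩ := (Nat.dvd_prime_pow hp).1 hdvd
  refine ⟨p, ⟨hp⟩, a, ha, fun P => ?_⟩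
  have hcen : ∀ w : G, ¬ p ∣ orderOf w → w ∈ Subgroup.center G := by
    intro w hw
    obtain ⟨t, ht⟩ := hpG w
    rw [← QuotientGroup.eq_one_iff, ← orderOf_eq_one_iff]
    refine Nat.eq_one_of_dvd_coprimes ((hp.coprime_iff_not_dvd.2 hw).pow_left t)
      (orderOf_dvd_of_pow_eq_one ht) (orderOf_map_dvd (QuotientGroup.mk' (Subgroup.center G)) w)
  have hPZ : (P : Subgroup G) ⊔ Subgroup.center G = ⊤ := by
    refine Subgroup.index_eq_one.1 (Nat.eq_one_of_dvd_coprimes (a := p ^ k) ?_
      (hk ▸ Subgroup.index_dvd_of_le le_sup_right) ((Subgroup.index_dvd_of_le le_sup_left).trans dvd_rfl))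
    exact (hp.coprime_iff_not_dvd.2 P.not_dvd_index).pow_left k
  have hPn : (P : Subgroup G).Normal := by
    rw [← Subgroup.normalizer_eq_top_iff, eq_top_iff, ← hPZ]
    exact sup_le Subgroup.le_normalizer ((Subgroup.center_le_centralizer _).trans (Subgroup.centralizer_le_normalizer _))
  haveI := hPn
  refine ⟨hPn, ?_, ?_⟩
  · obtain ⟨N, hN⟩ := Subgroup.exists_right_complement'_of_coprime (N := (P : Subgroup G))
      (P.card_coprime_index)
    have hNc : N ≤ Subgroup.center G := by
      intro w hw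
      refine hcen w fun hpw => ?_
      have h1 : p ∣ Nat.card N := hpw.trans (N.orderOf_dvd_natCard hw)
      rw [← hN.symm.index_eq_card] at h1
      exact P.not_dvd_index h1
    refine ⟨N, ⟨fun c hc g => by rw [Subgroup.mem_center_iff.1 (hNc hc) g, mul_inv_cancel_right]; exact hc⟩, hN.symm,
      ⟨⟨fun u v => Subtype.ext (Subgroup.mem_center_iff.1 (hNc v.2) u)⟩⟩, fun u hu v _ => ?_⟩
    exact (Subgroup.mem_center_iff.1 (hNc hu) v).symm
  · obtain ⟨A, hAn, hAc, hA⟩ := Cfsg.Agent.Transfer.OneClassSize.exists_abelian_normal hn h hpG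
    refine ⟨A.subgroupOf (P : Subgroup G), hAn.subgroupOf _,
      ⟨⟨fun u v => Subtype.ext (Subtype.ext (congrArg (fun a : A => (a : G)) (hAc.is_comm.comm
        ⟨_, Subgroup.mem_subgroupOf.1 u.2⟩ ⟨_, Subgroup.mem_subgroupOf.1 v.2⟩)))⟩⟩, fun y => ?_⟩
    rw [Subgroup.mem_subgroupOf, SubgroupClass.coe_pow]
    exact hA y

end Cfsg.Agent.S4134
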