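import Cfsg.Statements.S4146
import Cfsg.Agent.Lib.Transfer.FourSizes.Crossing

set_option autoImplicit false
open Cfsg Cfsg.Agent Cfsg.Agent.Transfer Cfsg.Agent.Transfer.ClassDisconnected

namespace Cfsg.Agent.S4146

/-- Let G be a finite group whose conjugacy class sizes are exactly 1, n, m and nm for coprime integers n, m > 1. Then G is nilpotent and n and m are prime powers. -/
theorem result {G : Type*} [Group G] [Finite G] (n m : ℕ) (hn : 1 < n) (hm : 1 < m) (hcop : n.Coprime m)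
    (h : Set.range (fun x : G => (Subgroup.centralizer ({x} : Set G)).index) = ({1, n, m, n * m} : Set ℕ)) :
    Group.IsNilpotent G ∧ IsPrimePow n ∧ IsPrimePow m := by
  have hmem : ∀ k : ℕ, k ∈ ({1, n, m, n * m} : Set ℕ) → ∃ x : G, cix x = k := fun k hk => by
    rw [← h] at hk; exact hk
  have H : FourSizes.Hyp4 G n m := by
    refine ⟨hn, hm, hcop, fun x => ?_, hmem n (by simp), hmem m (by simp), hmem (n * m) (by simp)⟩
    have hx : cix x ∈ ({1, n, m, n * m} : Set ℕ) := h ▸ ⟨x, rfl⟩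
    simpa using hx
  obtain ⟨p, q, i, j, x, v, hp, hq, hpq, hxo, hvo, hx, hv, hc, hcase⟩ := H.exists_primes
  rcases hcase with ⟨a, b, rfl, rfl⟩ | ⟨a, b, rfl, rfl⟩
  · exact ((⟨hp, hq, hpq, H⟩ : FourSizes.HP G p q a b).crossing_false hxo hx hvo hv hc).elim
  · have H' : FourSizes.HP G q p b a := ⟨hq, hp, hpq.symm, H⟩
    exact ⟨H'.isNilpotent_of_good hvo hv hxo hx, hp.isPrimePow.pow H'.symm.a_pos,
      hq.isPrimePow.pow H'.a_pos⟩

end Cfsg.Agent.S4146
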