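import Cfsg.Statements.S4034
import Cfsg.Agent.Lib.Recog.PRegularClass
import Cfsg.Agent.Lib.Grp.Hall
import Cfsg.Agent.Lib.Grp.Solvable

set_option autoImplicit false
open Cfsg

namespace Cfsg.Agent.S4034

open scoped Pointwise
open Cfsg.Agent.PRegularClass Cfsg.Agent.Grp

universe u

theorem class_ncard {X : Type u} [Group X] (x : X) :
    (ConjClasses.mk x).carrier.ncard = (Subgroup.centralizer ({x} : Set X)).index := by
  rw [← ConjAct.orbit_eq_carrier_conjClasses, ← MulAction.index_stabilizer,
    ConjAct.stabilizer_eq_centralizer]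
  rfl

/-- In a solvable group with trivial p-core and p-power p-regular class sizes, p-regular elements
commute inside a p-complement. -/
theorem comm_of_core_free {X : Type u} [Group X] [Finite X] [Group.IsSolvable X] {p : ℕ} [hp : Fact p.Prime]
    (hcore : Cfsg.pCore p X = ⊥)
    (hX : ∀ x : X, (orderOf x).Coprime p → ∃ k, (Subgroup.centralizer ({x} : Set X)).index = p ^ k)
    (x y : X) (hx : (orderOf x).Coprime p) (hy : (orderOf y).Coprime p) : x * y = y * x := by
  classical
  set F := Cfsg.fittingSubgroup X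
  haveI := fittingSubgroup_isNormal (G := X)
  have hF : (Nat.card F).Coprime p := by
    rw [Nat.coprime_comm, hp.out.coprime_iff_not_dvd]
    intro hdvd
    haveI := fittingSubgroup_isNilpotent (G := X)
    obtain ⟨P⟩ : Nonempty (Sylow p F) := inferInstance
    haveI : (P : Subgroup F).Normal :=
      Sylow.normal_of_normalizerCondition normalizerCondition_of_isNilpotent P
    haveI := Sylow.characteristic_of_normal P inferInstance
    have : (P : Subgroup F).map F.subtype ≤ Cfsg.pCore p X := le_pCore inferInstance (P.2.map _)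
    rw [hcore, le_bot_iff, Subgroup.map_eq_bot_iff_of_injective _ F.subtype_injective] at this
    exact P.ne_bot_of_dvd_card hdvd this
  have key : ∀ z : X, (orderOf z).Coprime p → z ∈ Subgroup.centralizer (F : Set X) := by
    intro z hz
    obtain ⟨k, hk⟩ := hX z hz
    set C := Subgroup.centralizer ({z} : Set X)
    set n := Nat.card X
    have hsplit : n = ordCompl[p] n * p ^ n.factorization p :=
      (Nat.ordProj_mul_ordCompl_eq_self n p).symm.trans (Nat.mul_comm _ _)
    have hco : (ordCompl[p] n).Coprime p :=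
      ((hp.out.coprime_iff_not_dvd).mpr (Nat.not_dvd_ordCompl hp.out Nat.card_pos.ne')).symm
    -- the largest p'-divisor of the order divides the order of the centralizer
    have hC : ordCompl[p] n ∣ Nat.card C :=
      (hco.pow_right k).dvd_of_dvd_mul_right
        (by rw [← hk, C.card_mul_index]; exact Nat.ordCompl_dvd n p)
    obtain ⟨c, hc⟩ := hC
    have hcC : (ordCompl[p] n).Coprime c := by
      have h1 : c ∣ p ^ n.factorization p := by
        apply Nat.dvd_of_mul_dvd_mul_left (Nat.ordCompl_pos p Nat.card_pos.ne' : 0 < ordCompl[p] n)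
        rw [← hc, ← hsplit]; exact C.card_subgroup_dvd_card
      exact Nat.Coprime.coprime_dvd_right h1 (hco.pow_right _)
    obtain ⟨K, hK⟩ := exists_hall (G := C) hc hcC
    let K' := K.map C.subtype
    have hK' : Nat.card K' = ordCompl[p] n := by
      rw [← hK]; exact (Nat.card_congr (K.equivMapOfInjective _ C.subtype_injective).toEquiv).symm
    obtain ⟨g, hg⟩ := exists_conj_le_hall (G := X) hsplit (hco.pow_right _) hK' (hF.pow_right _)
    rw [Subgroup.mem_centralizer_iff]
    intro f hf
    obtain ⟨a, ha, hae⟩ := hg ((inferInstance : F.Normal).conj_mem f hf g)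
    have hfa : a = f := (MulAut.conj g).injective (by simpa [MulAut.conj_apply] using hae)
    have : f ∈ C := Subgroup.map_subtype_le K (hfa ▸ ha)
    exact Subgroup.mem_centralizer_singleton_iff.mp this
  have hyF : y ∈ F := centralizer_fittingSubgroup_le (key y hy)
  exact (Subgroup.mem_centralizer_iff.mp (key x hx) y hyF).symm

/-- Let G be a finite group and p a prime. Every conjugacy class of p-regular elements of G (elements of order prime to p) has p-power size if and only if G has an abelian p-complement, i.e. an abelian subgroup of order prime to p and p-power index. -/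
theorem result {G : Type*} [Group G] [Finite G] {p : ℕ} (hp : p.Prime) :
    (∀ x : G, (orderOf x).Coprime p → ∃ k : ℕ, (ConjClasses.mk x).carrier.ncard = p ^ k) ↔
    (∃ H : Subgroup G, IsMulCommutative H ∧ ¬ p ∣ Nat.card H ∧ ∃ k : ℕ, H.index = p ^ k) := by
  classical
  haveI : Fact p.Prime := ⟨hp⟩
  simp only [class_ncard]
  set n := Nat.card G with hn
  have hsplit : n = ordCompl[p] n * p ^ n.factorization p :=
    (Nat.ordProj_mul_ordCompl_eq_self n p).symm.trans (Nat.mul_comm _ _)
  have hndvd : ¬ p ∣ ordCompl[p] n := Nat.not_dvd_ordCompl hp Nat.card_pos.ne'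
  have hco : (ordCompl[p] n).Coprime p := ((hp.coprime_iff_not_dvd).mpr hndvd).symm
  constructor
  · intro hX
    haveI := solvable_of_classes hp n G rfl hX
    obtain ⟨H, hH⟩ := exists_hall (G := G) hsplit (hco.pow_right _)
    refine ⟨H, ?_, hH ▸ hndvd, n.factorization p, ?_⟩
    · haveI := pCore_isNormal (G := G) (p := p)
      set N := Cfsg.pCore p G
      have hcore : Cfsg.pCore p (G ⧸ N) = ⊥ := by
        haveI := pCore_isNormal (G := G ⧸ N) (p := p)
        have h := le_pCore (p := p) (G := G)
          (Subgroup.Normal.comap inferInstance (QuotientGroup.mk' N))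
          ((pCore_isPGroup (p := p) (G := G ⧸ N)).comap_of_ker_isPGroup (QuotientGroup.mk' N)
            (by rw [QuotientGroup.ker_mk']; exact pCore_isPGroup))
        rw [eq_bot_iff]
        intro x hx
        obtain ⟨y, rfl⟩ := QuotientGroup.mk_surjective x
        exact Subgroup.mem_bot.mpr ((QuotientGroup.eq_one_iff y).mpr (h hx))
      have hXq : ∀ x : G ⧸ N, (orderOf x).Coprime p →
          ∃ k, (Subgroup.centralizer ({x} : Set (G ⧸ N))).index = p ^ k := by
        intro x hx
        obtain ⟨y, hy, hc⟩ := exists_regular_lift N hp x hx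
        obtain ⟨k, hk⟩ := hX y hy
        obtain ⟨i, -, hi⟩ := (Nat.dvd_prime_pow hp).mp (hk ▸ index_centralizer_quot_dvd N y)
        exact ⟨i, hc ▸ hi⟩
      refine ⟨⟨fun a b => ?_⟩⟩
      have hreg : ∀ c : H, (orderOf (c : G)).Coprime p := fun c => by
        rw [Subgroup.orderOf_coe]; exact Nat.Coprime.coprime_dvd_left (hH ▸ orderOf_dvd_natCard c) hco
      have hregq : ∀ c : H, (orderOf ((c : G) : G ⧸ N)).Coprime p := fun c =>
        Nat.Coprime.coprime_dvd_left (orderOf_map_dvd (QuotientGroup.mk' N) (c : G)) (hreg c)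
      have hq := comm_of_core_free hcore hXq _ _ (hregq a) (hregq b)
      rw [← QuotientGroup.mk_mul, ← QuotientGroup.mk_mul, QuotientGroup.eq] at hq
      apply Subtype.ext
      show (a : G) * b = b * a
      set c := ((a : G) * b)⁻¹ * (b * a) with hcdef
      have hcH : c ∈ H := H.mul_mem (H.inv_mem (H.mul_mem a.2 b.2)) (H.mul_mem b.2 a.2)
      obtain ⟨i, hi⟩ := IsPGroup.iff_orderOf.mp (pCore_isPGroup (p := p) (G := G)) ⟨c, hq⟩
      rw [Subgroup.orderOf_mk] at hi
      have h1 : orderOf c ∣ ordCompl[p] n := by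
        rw [← hH, ← Subgroup.orderOf_mk c hcH]; exact orderOf_dvd_natCard _
      have : orderOf c = 1 :=
        Nat.eq_one_of_dvd_coprimes (hco.pow_right i) h1 (hi ▸ dvd_rfl)
      exact inv_mul_eq_one.mp (orderOf_eq_one_iff.mp this)
    · apply Nat.eq_of_mul_eq_mul_left (Nat.card_pos (α := H))
      rw [H.card_mul_index, hH, ← hsplit]
  · rintro ⟨H, hcomm, hHp, k, hk⟩ x hx
    have hc : ∀ a ∈ H, ∀ b ∈ H, a * b = b * a := fun a ha b hb =>
      congrArg Subtype.val (hcomm.is_comm.comm ⟨a, ha⟩ ⟨b, hb⟩)
    haveI := solvable_of_abelian_complement hp n G rfl H hc ⟨k, hk⟩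
    have hHco : (Nat.card H).Coprime (p ^ k) := ((hp.coprime_iff_not_dvd).mpr hHp).symm.pow_right _
    obtain ⟨g, hg⟩ := exists_conj_le_hall (G := G) (hk ▸ H.card_mul_index.symm) hHco rfl
      (K := Subgroup.zpowers x) (by rw [Nat.card_zpowers]; exact hx.pow_right _)
    have hle : MulAut.conj g • H ≤ Subgroup.centralizer ({x} : Set G) := by
      intro y hy
      rw [Subgroup.mem_centralizer_singleton_iff]
      obtain ⟨a, ha, rfl⟩ := hy
      obtain ⟨b, hb, hbx⟩ := hg (Subgroup.mem_zpowers x)
      rw [← hbx]
      show MulAut.conj g a * MulAut.conj g b = MulAut.conj g b * MulAut.conj g a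
      rw [← map_mul, ← map_mul, hc a ha b hb]
    have hidx : (MulAut.conj g • H).index = p ^ k := by
      rw [← hk]; exact Subgroup.index_map_equiv H (MulAut.conj g)
    obtain ⟨i, -, hi⟩ := (Nat.dvd_prime_pow hp).mp (hidx ▸ Subgroup.index_dvd_of_le hle)
    exact ⟨i, hi⟩

end Cfsg.Agent.S4034
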