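import Cfsg.Statements.S0226
import Mathlib
import Cfsg.Agent.Lib.Invol.Basic
-- import your own Cfsg.Agent.* helpers here

set_option autoImplicit false
open Cfsg

namespace Cfsg.Agent.S0226

/-- A finite group of even order has an odd number of involutions. -/
theorem result {G : Type*} [Group G] [Finite G] (heven : Even (Nat.card G)) : Odd (Nat.card {t : G // orderOf t = 2}) := by
  classical
  have := Fintype.ofFinite G
  have hσ : (Equiv.inv G : Equiv.Perm G) ^ 2 ^ 1 = 1 := by
    ext g; simp [sq]
  have h := Equiv.Perm.card_compl_support_modEq (p := 2) hσ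
  have h2 : ((Equiv.inv G : Equiv.Perm G).support)ᶜ =
      insert 1 (Finset.univ.filter fun t : G => orderOf t = 2) := by
    ext g
    simp [Invol.orderOf_two_iff, inv_eq_iff_mul_eq_one]
    by_cases hg : g = 1 <;> simp [hg]
  rw [h2, Finset.card_insert_of_notMem (by simp), ← Nat.card_eq_fintype_card] at h
  rw [← Fintype.card_subtype, ← Nat.card_eq_fintype_card] at h
  rw [Nat.even_iff] at heven
  rw [Nat.odd_iff]
  unfold Nat.ModEq at h
  omega

end Cfsg.Agent.S0226
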