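import Cfsg.Statements.S2507
import Cfsg.Agent.Lib.Classical.DicksonCentral
-- import your own Cfsg.Agent.* helpers here

set_option autoImplicit false
open Cfsg

namespace Cfsg.Agent.S2507
open Cfsg.Agent.Dickson Cfsg.Agent.PSL2Spec


/-- Let F be a finite field with q = 2^f ≥ 4 elements. The conjugacy class sizes of PSL(2,F) are exactly 1, q(q − 1), q² − 1 and q(q + 1). -/
theorem result {F : Type*} [Field F] [Fintype F]
    (h2 : 2 ∣ Fintype.card F) (h4 : 4 ≤ Fintype.card F) :
    Set.range (fun g : (Matrix.ProjectiveSpecialLinearGroup (Fin 2) F) => (Subgroup.centralizer ({g} : Set (Matrix.ProjectiveSpecialLinearGroup (Fin 2) F))).index) =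
      {1, Fintype.card F * (Fintype.card F - 1), Fintype.card F ^ 2 - 1, Fintype.card F * (Fintype.card F + 1)} := by
  obtain ⟨p, hc⟩ := CharP.exists F
  haveI : Fact p.Prime := ⟨CharP.char_is_prime F p⟩
  have hev : Even (Fintype.card F) := even_iff_two_dvd.mpr h2
  have hp2 := p_eq_two p hev
  have hdel : del F = 1 := by
    rcases del_cases F with ⟨h, -⟩ | ⟨-, h⟩
    · exact h
    · exact absurd hev (Nat.not_even_iff_odd.mpr h)
  have hG : Nat.card (Matrix.ProjectiveSpecialLinearGroup (Fin 2) F) =
      Fintype.card F * ((Fintype.card F - 1) * (Fintype.card F + 1)) := by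
    have := card_psl (F := F); rwa [hdel, mul_one] at this
  obtain ⟨m, hm⟩ : ∃ m, Fintype.card F = m + 1 := ⟨Fintype.card F - 1, by omega⟩
  have hcen : ∀ g : Matrix.ProjectiveSpecialLinearGroup (Fin 2) F, g ≠ 1 →
      Subgroup.centralizer ({g} : Set (Matrix.ProjectiveSpecialLinearGroup (Fin 2) F)) = tor g := by
    intro g hg
    refine centralizer_eq_tor p hg ?_
    by_cases h : g * g = 1
    · left; rw [hp2, pow_two]; exact h
    · exact Or.inr h
  have hidx : ∀ (g : Matrix.ProjectiveSpecialLinearGroup (Fin 2) F) (c i : ℕ), g ≠ 1 → 0 < c →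
      Nat.card (tor g) = c → Fintype.card F * ((Fintype.card F - 1) * (Fintype.card F + 1)) = c * i →
      (Subgroup.centralizer ({g} : Set (Matrix.ProjectiveSpecialLinearGroup (Fin 2) F))).index = i := by
    intro g c i hg hc0 hcard hi
    have h := Subgroup.card_mul_index (tor g)
    rw [hcard, hG, hi] at h
    rw [hcen g hg]
    exact Nat.eq_of_mul_eq_mul_left hc0 h
  ext x
  simp only [Set.mem_range, Set.mem_insert_iff, Set.mem_singleton_iff]
  constructor
  · rintro ⟨g, rfl⟩
    by_cases hg : g = 1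
    · left
      rw [Subgroup.index_eq_one, Subgroup.centralizer_eq_top_iff_subset, Set.singleton_subset_iff, hg]
      exact Subgroup.one_mem _
    · by_cases hgp : g ^ p = 1
      · refine Or.inr (Or.inr (Or.inl (hidx g _ _ hg (by omega) (card_tor_uni p hg hgp) ?_)))
        rw [hm, Nat.add_sub_cancel, show (m + 1) ^ 2 - 1 = m * (m + 2) by
          rw [show (m + 1) ^ 2 = m * (m + 2) + 1 by ring]; omega]
      · rcases card_tor_semi p hg hgp with e | e <;> rw [hdel, Nat.div_one] at e
        · refine Or.inr (Or.inr (Or.inr (hidx g _ _ hg (by omega) e ?_)))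
          ring
        · refine Or.inr (Or.inl (hidx g _ _ hg (by omega) e ?_))
          ring
  · rintro (rfl | rfl | rfl | rfl)
    · refine ⟨1, ?_⟩
      rw [Subgroup.index_eq_one, Subgroup.centralizer_eq_top_iff_subset, Set.singleton_subset_iff]
      exact Subgroup.one_mem _
    · obtain ⟨a, ha, hap, he⟩ := exists_tor_plus (F := F) p
      rw [hdel, Nat.div_one] at he
      exact ⟨a, hidx a _ _ ha (by omega) he (by ring)⟩
    · obtain ⟨g, hg⟩ := exists_order_char (F := F) p
      have hg1 : g ≠ 1 := fun e => (Fact.out : p.Prime).ne_one (by rw [← hg, e, orderOf_one])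
      refine ⟨g, hidx g _ _ hg1 (by omega) (card_tor_uni p hg1 (orderOf_dvd_iff_pow_eq_one.mp hg.dvd)) ?_⟩
      rw [hm, Nat.add_sub_cancel, show (m + 1) ^ 2 - 1 = m * (m + 2) by
        rw [show (m + 1) ^ 2 = m * (m + 2) + 1 by ring]; omega]
    · obtain ⟨a, ha, hap, he⟩ := exists_tor_minus (F := F) p (by rw [hdel, Nat.div_one]; omega)
      rw [hdel, Nat.div_one] at he
      exact ⟨a, hidx a _ _ ha (by omega) he (by ring)⟩

end Cfsg.Agent.S2507
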