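import Cfsg.Statements.S2508
import Cfsg.Agent.Lib.Classical.DicksonCentral
-- import your own Cfsg.Agent.* helpers here

set_option autoImplicit false
open Cfsg

namespace Cfsg.Agent.S2508
open Cfsg.Agent.Dickson Cfsg.Agent.PSL2Spec Cfsg.Agent.Grp.SL2


/-- Let F be a finite field with q elements, q odd and q ≥ 7. If q ≡ 1 (mod 4) the conjugacy class sizes of PSL(2,F) are exactly 1, (q² − 1)/2, q(q + 1)/2, q(q − 1) and q(q + 1); if q ≡ 3 (mod 4) they are exactly 1, (q² − 1)/2, q(q − 1)/2, q(q + 1) and q(q − 1). -/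
theorem result {F : Type*} [Field F] [Fintype F]
    (hodd : ¬ 2 ∣ Fintype.card F) (h7 : 7 ≤ Fintype.card F) :
    (Fintype.card F % 4 = 1 →
      Set.range (fun g : (Matrix.ProjectiveSpecialLinearGroup (Fin 2) F) => (Subgroup.centralizer ({g} : Set (Matrix.ProjectiveSpecialLinearGroup (Fin 2) F))).index) =
        {1, (Fintype.card F ^ 2 - 1) / 2, Fintype.card F * (Fintype.card F + 1) / 2,
          Fintype.card F * (Fintype.card F - 1), Fintype.card F * (Fintype.card F + 1)}) ∧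
    (Fintype.card F % 4 = 3 →
      Set.range (fun g : (Matrix.ProjectiveSpecialLinearGroup (Fin 2) F) => (Subgroup.centralizer ({g} : Set (Matrix.ProjectiveSpecialLinearGroup (Fin 2) F))).index) =
        {1, (Fintype.card F ^ 2 - 1) / 2, Fintype.card F * (Fintype.card F - 1) / 2,
          Fintype.card F * (Fintype.card F + 1), Fintype.card F * (Fintype.card F - 1)}) := by
  obtain ⟨p, hc⟩ := CharP.exists F
  haveI : Fact p.Prime := ⟨CharP.char_is_prime F p⟩
  have hodd' : Odd (Fintype.card F) := Nat.odd_iff.mpr (Nat.two_dvd_ne_zero.mp hodd)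
  have hdel : del F = 2 := by
    rcases del_cases F with ⟨-, he⟩ | ⟨h, -⟩
    · exact absurd he (Nat.not_even_iff_odd.mpr hodd')
    · exact h
  obtain ⟨m, hm⟩ := hodd'
  have hm1 : (Fintype.card F - 1) / 2 = m := by omega
  have hp1 : (Fintype.card F + 1) / 2 = m + 1 := by omega
  have hsq : (Fintype.card F ^ 2 - 1) / 2 = 2 * m * (m + 1) := by
    rw [hm, show (2 * m + 1) ^ 2 = 2 * (2 * m * (m + 1)) + 1 by ring]; omega
  have hG : Nat.card (Matrix.ProjectiveSpecialLinearGroup (Fin 2) F) = (2 * m + 1) * (2 * m * (m + 1)) := by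
    have := card_psl (F := F)
    rw [hdel, hm, Nat.add_sub_cancel] at this
    linarith
  have hidx : ∀ (S : Subgroup (Matrix.ProjectiveSpecialLinearGroup (Fin 2) F)) (c i : ℕ), 0 < c →
      Nat.card S = c → (2 * m + 1) * (2 * m * (m + 1)) = c * i → S.index = i := by
    intro S c i hc0 hcard hi
    have h := Subgroup.card_mul_index S
    rw [hcard, hG, hi] at h
    exact Nat.eq_of_mul_eq_mul_left hc0 h
  -- the centraliser indices
  have hone : (Subgroup.centralizer ({1} : Set (Matrix.ProjectiveSpecialLinearGroup (Fin 2) F))).index = 1 := by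
    rw [Subgroup.index_eq_one, Subgroup.centralizer_eq_top_iff_subset, Set.singleton_subset_iff]
    exact Subgroup.one_mem _
  have huni : ∀ g : Matrix.ProjectiveSpecialLinearGroup (Fin 2) F, g ≠ 1 → g ^ p = 1 →
      (Subgroup.centralizer ({g} : Set (Matrix.ProjectiveSpecialLinearGroup (Fin 2) F))).index = 2 * m * (m + 1) := by
    intro g hg hgp
    rw [centralizer_eq_tor p hg (Or.inl hgp)]
    exact hidx _ _ _ (by omega) ((card_tor_uni p hg hgp).trans hm) rfl
  have hinv : ∀ g : Matrix.ProjectiveSpecialLinearGroup (Fin 2) F, orderOf g = 2 →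
      (Fintype.card F % 4 = 1 → (Subgroup.centralizer ({g} : Set (Matrix.ProjectiveSpecialLinearGroup (Fin 2) F))).index =
        (2 * m + 1) * (m + 1)) ∧
      (Fintype.card F % 4 = 3 → (Subgroup.centralizer ({g} : Set (Matrix.ProjectiveSpecialLinearGroup (Fin 2) F))).index =
        (2 * m + 1) * m) := by
    intro g hg
    obtain ⟨h1, hgp, h2⟩ := involution_semi p ⟨m, hm⟩ hg
    obtain ⟨-, e1, e3⟩ := card_tor_involution p ⟨m, hm⟩ hg
    rw [centralizer_involution p h1 hgp h2]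
    exact ⟨fun h => hidx _ (2 * m) _ (by omega) (by rw [(normalizer_tor p h1 hgp).1, e1 h, hm1]) (by ring),
      fun h => hidx _ (2 * (m + 1)) _ (by omega) (by rw [(normalizer_tor p h1 hgp).1, e3 h, hp1]) (by ring)⟩
  have hsemi : ∀ g : Matrix.ProjectiveSpecialLinearGroup (Fin 2) F, g ≠ 1 → g ^ p ≠ 1 → g * g ≠ 1 →
      (Nat.card (tor g) = m ∧ (Subgroup.centralizer ({g} : Set (Matrix.ProjectiveSpecialLinearGroup (Fin 2) F))).index =
        (2 * m + 1) * (2 * m + 2)) ∨
      (Nat.card (tor g) = m + 1 ∧ (Subgroup.centralizer ({g} : Set (Matrix.ProjectiveSpecialLinearGroup (Fin 2) F))).index =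
        (2 * m + 1) * (2 * m)) := by
    intro g hg hgp h2
    rw [centralizer_eq_tor p hg (Or.inr h2)]
    rcases card_tor_semi p hg hgp with e | e <;> rw [hdel] at e
    · exact Or.inl ⟨e.trans hm1, hidx _ m _ (by omega) (e.trans hm1) (by ring)⟩
    · exact Or.inr ⟨e.trans hp1, hidx _ (m + 1) _ (by omega) (e.trans hp1) (by ring)⟩
  have hwit : ∀ a : Matrix.ProjectiveSpecialLinearGroup (Fin 2) F, a ≠ 1 → a ^ p ≠ 1 → 3 ≤ Nat.card (tor a) →
      ∃ g : Matrix.ProjectiveSpecialLinearGroup (Fin 2) F, g ≠ 1 ∧ g ^ p ≠ 1 ∧ g * g ≠ 1 ∧ Nat.card (tor g) = Nat.card (tor a) := by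
    intro a ha hap h3
    obtain ⟨g, hg1, hgp, ho, ht⟩ := exists_generator p ha hap
    refine ⟨g, hg1, hgp, fun e => ?_, by rw [ht]⟩
    have := Nat.le_of_dvd two_pos (orderOf_dvd_of_pow_eq_one ((pow_two g).trans e))
    omega
  have hrange : ∀ (i : ℕ), i ∈ Set.range (fun g : (Matrix.ProjectiveSpecialLinearGroup (Fin 2) F) =>
      (Subgroup.centralizer ({g} : Set (Matrix.ProjectiveSpecialLinearGroup (Fin 2) F))).index) →
      i = 1 ∨ i = 2 * m * (m + 1) ∨
      (Fintype.card F % 4 = 1 → i = (2 * m + 1) * (m + 1)) ∧ (Fintype.card F % 4 = 3 → i = (2 * m + 1) * m) ∨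
      i = (2 * m + 1) * (2 * m + 2) ∨ i = (2 * m + 1) * (2 * m) := by
    rintro i ⟨g, rfl⟩
    by_cases hg : g = 1
    · subst hg; exact Or.inl hone
    by_cases hgp : g ^ p = 1
    · exact Or.inr (Or.inl (huni g hg hgp))
    by_cases h2 : g * g = 1
    · exact Or.inr (Or.inr (Or.inl (hinv g (orderOf_eq_prime ((pow_two g).trans h2) hg))))
    · rcases hsemi g hg hgp h2 with ⟨-, e⟩ | ⟨-, e⟩
      · exact Or.inr (Or.inr (Or.inr (Or.inl e)))
      · exact Or.inr (Or.inr (Or.inr (Or.inr e)))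
  have hmem : ∀ i, i = 1 ∨ i = 2 * m * (m + 1) ∨
      (Fintype.card F % 4 = 1 ∧ i = (2 * m + 1) * (m + 1)) ∨ (Fintype.card F % 4 = 3 ∧ i = (2 * m + 1) * m) ∨
      i = (2 * m + 1) * (2 * m + 2) ∨ i = (2 * m + 1) * (2 * m) →
      i ∈ Set.range (fun g : (Matrix.ProjectiveSpecialLinearGroup (Fin 2) F) =>
        (Subgroup.centralizer ({g} : Set (Matrix.ProjectiveSpecialLinearGroup (Fin 2) F))).index) := by
    obtain ⟨u, hu⟩ := exists_order_char (F := F) p
    obtain ⟨v, hv⟩ := exists_involution p (F := F) ⟨m, hm⟩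
    rintro i (rfl | rfl | ⟨h, rfl⟩ | ⟨h, rfl⟩ | rfl | rfl)
    · exact ⟨1, hone⟩
    · exact ⟨u, huni u (fun e => (Fact.out : p.Prime).ne_one (by rw [← hu, e, orderOf_one]))
        (orderOf_dvd_iff_pow_eq_one.mp hu.dvd)⟩
    · exact ⟨v, (hinv v hv).1 h⟩
    · exact ⟨v, (hinv v hv).2 h⟩
    · obtain ⟨a, ha, hap, he⟩ := exists_tor_minus (F := F) p (by rw [hdel]; omega)
      rw [hdel, hm1] at he
      obtain ⟨g, h1, h2, h3, h4⟩ := hwit a ha hap (by omega)
      rcases hsemi g h1 h2 h3 with ⟨-, e⟩ | ⟨e', -⟩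
      · exact ⟨g, e⟩
      · omega
    · obtain ⟨a, ha, hap, he⟩ := exists_tor_plus (F := F) p
      rw [hdel, hp1] at he
      obtain ⟨g, h1, h2, h3, h4⟩ := hwit a ha hap (by omega)
      rcases hsemi g h1 h2 h3 with ⟨e', -⟩ | ⟨-, e⟩
      · omega
      · exact ⟨g, e⟩
  have e1 : Fintype.card F * (Fintype.card F + 1) / 2 = (2 * m + 1) * (m + 1) := by
    rw [hm, show (2 * m + 1) * (2 * m + 1 + 1) = 2 * ((2 * m + 1) * (m + 1)) by ring]; omega
  have e3 : Fintype.card F * (Fintype.card F - 1) / 2 = (2 * m + 1) * m := by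
    rw [hm, Nat.add_sub_cancel, show (2 * m + 1) * (2 * m) = 2 * ((2 * m + 1) * m) by ring]; omega
  have e2 : Fintype.card F * (Fintype.card F - 1) = (2 * m + 1) * (2 * m) := by rw [hm, Nat.add_sub_cancel]
  have e4 : Fintype.card F * (Fintype.card F + 1) = (2 * m + 1) * (2 * m + 2) := by rw [hm]
  refine ⟨fun h => ?_, fun h => ?_⟩ <;>
    · ext i
      simp only [Set.mem_insert_iff, Set.mem_singleton_iff, e1, e3]
      simp only [hsq, e2, e4]
      constructor
      · intro hi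
        rcases hrange i hi with e | e | e | e | e
        · exact Or.inl e
        · exact Or.inr (Or.inl e)
        · first | exact Or.inr (Or.inr (Or.inl (e.1 h))) | exact Or.inr (Or.inr (Or.inl (e.2 h)))
        all_goals first | exact Or.inr (Or.inr (Or.inr (Or.inl e))) | exact Or.inr (Or.inr (Or.inr (Or.inr e)))
      · rintro (e | e | e | e | e)
        · exact hmem i (Or.inl e)
        · exact hmem i (Or.inr (Or.inl e))
        · first | exact hmem i (Or.inr (Or.inr (Or.inl ⟨h, e⟩))) | exact hmem i (Or.inr (Or.inr (Or.inr (Or.inl ⟨h, e⟩))))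
        all_goals first | exact hmem i (Or.inr (Or.inr (Or.inr (Or.inr (Or.inl e))))) | exact hmem i (Or.inr (Or.inr (Or.inr (Or.inr (Or.inr e)))))

end Cfsg.Agent.S2508
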