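import Cfsg.Statements.S0015
import Cfsg.Agent.Lib.Grp.Frattini
-- import your own Cfsg.Agent.* helpers here

set_option autoImplicit false
open Cfsg

namespace Cfsg.Agent.S0015

/-- In a finite nilpotent group, an abelian normal subgroup that is maximal among abelian normal subgroups equals its own centralizer. -/
theorem result {G : Type*} [Group G] [Finite G] [Group.IsNilpotent G]
    (N : Subgroup G) [N.Normal] [IsMulCommutative N]
    (hmax : ∀ M : Subgroup G, M.Normal → IsMulCommutative M → N ≤ M → M = N) :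
    Subgroup.centralizer (N : Set G) = N := by
  set C := Subgroup.centralizer (N : Set G)
  have hNC : N ≤ C := Subgroup.le_centralizer N
  by_contra hne
  set f := QuotientGroup.mk' N
  have hf : Function.Surjective f := QuotientGroup.mk'_surjective _
  have : (C.map f).Normal := Subgroup.Normal.map inferInstance f hf
  have hb : C.map f ≠ ⊥ := by
    rw [Ne, Subgroup.map_eq_bot_iff, QuotientGroup.ker_mk']
    exact fun h => hne (le_antisymm h hNC)
  obtain ⟨z, hz, hz1⟩ := (Subgroup.bot_or_exists_ne_one _).resolve_left (Cfsg.Agent.Grp.inf_center_ne_bot (C.map f) hb)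
  obtain ⟨x, hxC, rfl⟩ := hz.1
  set M := (Subgroup.zpowers (f x)).comap f
  have hzn : (Subgroup.zpowers (f x)).Normal := by
    refine ⟨fun a ha g => ?_⟩
    have hac : a ∈ Subgroup.center (G ⧸ N) := Subgroup.zpowers_le.mpr hz.2 ha
    rw [Subgroup.mem_center_iff.mp hac g, mul_inv_cancel_right]
    exact ha
  have hMn : M.Normal := hzn.comap f
  have hNM : N ≤ M := fun n hn => by
    show f n ∈ Subgroup.zpowers (f x)
    rw [show f n = 1 from (QuotientGroup.eq_one_iff n).mpr hn]; exact one_mem _
  have hxM : x ∈ M := Subgroup.mem_zpowers (f x)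
  have hdec : ∀ y ∈ M, ∃ n ∈ N, ∃ i : ℤ, y = n * x ^ i := by
    intro y hy
    obtain ⟨i, hi⟩ := hy
    refine ⟨y * (x ^ i)⁻¹, ?_, i, by group⟩
    have hi' : f x ^ i = f y := hi
    refine (QuotientGroup.eq_one_iff _).mp ?_
    show f (y * (x ^ i)⁻¹) = 1
    rw [map_mul, map_inv, map_zpow, hi', mul_inv_cancel]
  have hM : IsMulCommutative M := by
    refine ⟨⟨fun a b => Subtype.ext ?_⟩⟩
    obtain ⟨n, hn, i, ha⟩ := hdec a a.2
    obtain ⟨m, hm, j, hb⟩ := hdec b b.2
    show (a : G) * b = b * a
    rw [ha, hb]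
    have hx : ∀ n ∈ N, Commute n x := fun n hn => Subgroup.mem_centralizer_iff.mp hxC n hn
    have hnm : Commute n m := congrArg Subtype.val (mul_comm' (⟨n, hn⟩ : N) ⟨m, hm⟩)
    exact ((hnm.mul_right ((hx n hn).zpow_right j)).mul_left
      (((hx m hm).symm.zpow_left i).mul_right (Commute.zpow_zpow (Commute.refl x) i j))).eq
  have e := hmax M hMn hM hNM
  exact hz1 ((QuotientGroup.eq_one_iff x).mpr (e ▸ hxM))

end Cfsg.Agent.S0015
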