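import Cfsg.Statements.S4033
import Cfsg.Agent.Lib.Transfer.TwoRegular.Main

set_option maxHeartbeats 1000000
set_option maxRecDepth 8000

set_option autoImplicit false
open Cfsg

namespace Cfsg.Agent.S4033

open Cfsg Cfsg.Agent Subgroup

section
universe u

theorem class_ncard {X : Type u} [Group X] (x : X) :
    (ConjClasses.mk x).carrier.ncard = (Subgroup.centralizer ({x} : Set X)).index := by
  rw [← ConjAct.orbit_eq_carrier_conjClasses, ← MulAction.index_stabilizer,
    ConjAct.stabilizer_eq_centralizer]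
  rfl

end


/-- Let G be a finite group and p a prime, and suppose the conjugacy classes of p-regular elements of G (elements of order prime to p) have exactly two distinct sizes. Then either G has an abelian p-complement (an abelian subgroup of order prime to p and p-power index), or there are a prime q ≠ p, a Sylow p-subgroup P, a Sylow q-subgroup Q and a central subgroup A such that PQ is a normal subgroup of order #P·#Q and G is the internal direct product PQ × A. -/
theorem result {G : Type*} [Group G] [Finite G] {p : ℕ} (hp : p.Prime)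
    (h2 : Set.ncard (Set.range fun x : {x : G // (orderOf x).Coprime p} => (ConjClasses.mk (x : G)).carrier.ncard) = 2) :
    (∃ H : Subgroup G, IsMulCommutative H ∧ ¬ p ∣ Nat.card H ∧ ∃ k : ℕ, H.index = p ^ k) ∨
    (∃ (q : ℕ) (_ : Fact q.Prime) (P : Sylow p G) (Q : Sylow q G) (A : Subgroup G), q ≠ p ∧
        A ≤ Subgroup.center G ∧ Nat.card ↥((P : Subgroup G) ⊔ (Q : Subgroup G)) = Nat.card P * Nat.card Q ∧
        ((P : Subgroup G) ⊔ (Q : Subgroup G)).Normal ∧
        ((P : Subgroup G) ⊔ (Q : Subgroup G)) ⊓ A = ⊥ ∧ ((P : Subgroup G) ⊔ (Q : Subgroup G)) ⊔ A = ⊤) := by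

  obtain ⟨a, b, hab, hr⟩ := Set.ncard_eq_two.1 h2
  have h1 : (1 : ℕ) ∈ ({a, b} : Set ℕ) := by
    rw [← hr]
    refine ⟨⟨1, by rw [orderOf_one]; exact Nat.coprime_one_left p⟩, ?_⟩
    show (ConjClasses.mk (1 : G)).carrier.ncard = 1
    rw [class_ncard]
    show (Transfer.TwoRegular.cen (1 : G)).index = 1
    rw [Transfer.TwoRegular.cen_eq_top (one_mem _), Subgroup.index_top]
  obtain ⟨n, hn1, hset⟩ : ∃ n : ℕ, n ≠ 1 ∧ ({a, b} : Set ℕ) = {1, n} := by
    rcases h1 with h1 | h1
    · exact ⟨b, fun e => hab (h1.symm.trans e.symm), by rw [h1]⟩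
    · rw [Set.mem_singleton_iff] at h1
      exact ⟨a, fun e => hab (e.trans h1), by rw [h1, Set.pair_comm]⟩
  have hsize : ∀ x : G, (orderOf x).Coprime p → Transfer.ClassDisconnected.cix x = 1 ∨ Transfer.ClassDisconnected.cix x = n := by
    intro x hx
    have hmem : (ConjClasses.mk x).carrier.ncard ∈ ({1, n} : Set ℕ) := by
      rw [← hset, ← hr]; exact ⟨⟨x, hx⟩, rfl⟩
    rw [class_ncard] at hmem
    simpa using hmem
  obtain ⟨⟨x, hxp⟩, hxn⟩ : ∃ x : {x : G // (orderOf x).Coprime p}, (ConjClasses.mk (x : G)).carrier.ncard = n := by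
    have : n ∈ Set.range fun x : {x : G // (orderOf x).Coprime p} => (ConjClasses.mk (x : G)).carrier.ncard := by
      rw [hr, hset]; simp
    exact this
  rw [class_ncard] at hxn
  have hn0 : n ≠ 0 := fun e => Subgroup.index_ne_zero_of_finite (hxn.trans e)
  have hxc : x ∉ Subgroup.center G := fun hc => hn1 (by
    rw [← hxn]
    show (Transfer.TwoRegular.cen x).index = 1
    rw [Transfer.TwoRegular.cen_eq_top hc, Subgroup.index_top])
  exact Transfer.TwoRegular.Hyp.structure ⟨hp, by omega, hsize⟩ hxp hxc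

end Cfsg.Agent.S4033
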