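import Cfsg.Statements.S4035
import Cfsg.Agent.Lib.Grp.Real
-- import your own Cfsg.Agent.* helpers here

set_option autoImplicit false
open Cfsg

namespace Cfsg.Agent.S4035

open scoped Pointwise

/-- Let G be a finite group and p a prime such that p divides the size of no conjugacy class of p-regular elements (elements of order prime to p). Then G is the internal direct product of a Sylow p-subgroup P and a normal subgroup H of order prime to p: P is normal, P ⊓ H = 1 and PH = G. -/
theorem result {G : Type*} [Group G] [Finite G] {p : ℕ} [Fact p.Prime]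
    (h : ∀ x : G, (orderOf x).Coprime p → ¬ p ∣ (ConjClasses.mk x).carrier.ncard) (P : Sylow p G) :
    (P : Subgroup G).Normal ∧ ∃ H : Subgroup G, H.Normal ∧ ¬ p ∣ Nat.card H ∧
      (P : Subgroup G) ⊓ H = ⊥ ∧ (P : Subgroup G) ⊔ H = ⊤ := by
  set C := Subgroup.centralizer ((P : Subgroup G) : Set G) with hCdef
  set M := (P : Subgroup G) ⊔ C
  have hCN : C ≤ Subgroup.normalizer ((P : Subgroup G) : Set G) := Subgroup.centralizer_le_normalizer _
  have hreg : ∀ x : G, (orderOf x).Coprime p → ∀ y : G, Commute x y → (∃ i, orderOf y = p ^ i) →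
      ∃ g : G, g * (x * y) * g⁻¹ ∈ M := by
    intro x hx y hxy hy
    set Cx := Subgroup.centralizer ({x} : Set G)
    have hidx : ¬ p ∣ Cx.index := by
      have e : Nat.card (ConjClasses.mk x).carrier = (Subgroup.centralizer ({x} : Set G)).index := by
        refine Nat.eq_of_mul_eq_mul_right (Nat.card_pos (α := Subgroup.centralizer ({x} : Set G))) ?_
        rw [Subgroup.index_mul_card, Subgroup.nat_card_centralizer_nat_card_stabilizer,
          ← ConjAct.orbit_eq_carrier_conjClasses, ← Nat.card_prod]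
        exact Nat.card_congr (MulAction.orbitProdStabilizerEquivGroup (ConjAct G) x)
      rw [← e, Nat.card_coe_set_eq]
      exact h x hx
    have hyC : y ∈ Cx := Subgroup.mem_centralizer_singleton_iff.mpr hxy.eq.symm
    have hy' : IsPGroup p (Subgroup.zpowers y) := by
      obtain ⟨i, hi⟩ := hy
      exact IsPGroup.of_card (n := i) (by rw [Nat.card_zpowers, hi])
    obtain ⟨Q, hQ⟩ := (hy'.comap_subtype (K := Cx)).exists_le_sylow
    obtain ⟨R, hR⟩ := (Q.isPGroup'.map Cx.subtype).exists_le_sylow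
    have hQR : (Q : Subgroup Cx).map Cx.subtype = R := by
      refine Subgroup.eq_of_le_of_card_ge hR ?_
      refine Nat.le_of_dvd Nat.card_pos ?_
      have h1 : Nat.card G = Nat.card ((Q : Subgroup Cx).map Cx.subtype) * ((Q : Subgroup Cx).index * Cx.index) := by
        rw [Subgroup.card_map_of_injective (Subgroup.subtype_injective _), ← mul_assoc,
          Subgroup.card_mul_index, Subgroup.card_mul_index]
      obtain ⟨a, ha⟩ := IsPGroup.iff_card.mp R.isPGroup'
      have hd : Nat.card (R : Subgroup G) ∣ Nat.card ((Q : Subgroup Cx).map Cx.subtype) * ((Q : Subgroup Cx).index * Cx.index) :=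
        h1 ▸ Subgroup.card_subgroup_dvd_card _
      rw [ha] at hd ⊢
      refine (Nat.Coprime.pow_left a ?_).dvd_of_dvd_mul_right hd
      exact ((Fact.out : p.Prime).coprime_iff_not_dvd.mpr Q.not_dvd_index).mul_right
        ((Fact.out : p.Prime).coprime_iff_not_dvd.mpr hidx)
    obtain ⟨g, hg⟩ := MulAction.exists_smul_eq G R P
    have hgR : (P : Subgroup G) = MulAut.conj g • (R : Subgroup G) := by rw [← hg]; rfl
    refine ⟨g, ?_⟩
    rw [show g * (x * y) * g⁻¹ = (g * x * g⁻¹) * (g * y * g⁻¹) by group]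
    refine Subgroup.mul_mem _ (Subgroup.mem_sup_right ?_) (Subgroup.mem_sup_left ?_)
    · rw [hCdef, hgR, Subgroup.mem_centralizer_iff]
      intro z hz
      rw [SetLike.mem_coe, Cfsg.Agent.Grp.mem_smul_conj, ← hQR] at hz
      obtain ⟨w, -, hw⟩ := hz
      have hwx : (w : G) * x = x * w := (Subgroup.mem_centralizer_singleton_iff.mp w.2)
      simp only [Subgroup.coe_subtype] at hw
      rw [hw] at hwx
      calc z * (g * x * g⁻¹) = g * (g⁻¹ * z * g * x) * g⁻¹ := by group
        _ = g * (x * (g⁻¹ * z * g)) * g⁻¹ := by rw [hwx]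
        _ = g * x * g⁻¹ * z := by group
    · rw [hgR, Cfsg.Agent.Grp.mem_smul_conj, show g⁻¹ * (g * y * g⁻¹) * g = y by group, ← hQR]
      exact ⟨⟨y, hyC⟩, hQ (Subgroup.mem_zpowers y), rfl⟩
  have htop : M = ⊤ := by
    refine Cfsg.Agent.Grp.eq_top_of_conj_cover M fun z => ?_
    obtain ⟨k, m, hm, hkm⟩ := Nat.exists_eq_pow_mul_and_not_dvd (orderOf_pos z).ne' p (Fact.out : p.Prime).ne_one
    obtain ⟨a, b, haz, hbz, ha, hb, hab⟩ := Cfsg.Agent.Grp.exists_pow_decomp (g := z) (m := p ^ k) (n := m)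
      (Nat.Coprime.pow_left _ ((Fact.out : p.Prime).coprime_iff_not_dvd.mpr hm))
      (by rw [← hkm, pow_orderOf_eq_one])
    obtain ⟨i, hi⟩ := haz
    obtain ⟨j, hj⟩ := hbz
    have hc : Commute a b := by rw [← hi, ← hj]; exact Commute.zpow_zpow_self z i j
    rw [show z = b * a by rw [hab]; exact hc.eq]
    refine hreg b (Nat.Coprime.coprime_dvd_left (orderOf_dvd_of_pow_eq_one hb)
      ((Fact.out : p.Prime).coprime_iff_not_dvd.mpr hm).symm) a hc.symm ?_
    obtain ⟨i, -, hi⟩ := (Nat.dvd_prime_pow (Fact.out : p.Prime)).mp (orderOf_dvd_of_pow_eq_one ha)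
    exact ⟨i, hi⟩
  have hPn : (P : Subgroup G).Normal := Subgroup.normalizer_eq_top_iff.mp
    (top_unique (htop ▸ sup_le Subgroup.le_normalizer hCN))
  refine ⟨hPn, ?_⟩
  obtain ⟨H, hH⟩ := Subgroup.exists_right_complement'_of_coprime (N := (P : Subgroup G))
    P.card_coprime_index
  have hHc : ¬ p ∣ Nat.card H := by
    rw [← hH.symm.index_eq_card]
    exact P.not_dvd_index
  have hHC : H ≤ C := by
    intro x hx
    have hmem : x ∈ (P : Subgroup G) ⊔ C := by
      rw [show (P : Subgroup G) ⊔ C = ⊤ from htop]; trivial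
    obtain ⟨u, hu, c, hc, huc⟩ := Subgroup.mem_sup_of_normal_left.mp hmem
    have hcom : Commute u c := Subgroup.mem_centralizer_iff.mp hc u hu
    have h1 : x ^ Nat.card (P : Subgroup G) ∈ C := by
      rw [← huc, hcom.mul_pow, show u ^ Nat.card (P : Subgroup G) = 1 by
        exact orderOf_dvd_iff_pow_eq_one.mp (Subgroup.orderOf_dvd_natCard _ hu), one_mul]
      exact Subgroup.pow_mem _ hc _
    have hco : (Nat.card (P : Subgroup G)).Coprime (orderOf x) := by
      obtain ⟨a, ha⟩ := IsPGroup.iff_card.mp P.isPGroup'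
      rw [ha]
      exact Nat.Coprime.pow_left _ ((Fact.out : p.Prime).coprime_iff_not_dvd.mpr
        fun hd => hHc (hd.trans (Subgroup.orderOf_dvd_natCard H hx)))
    obtain ⟨n, hn⟩ := exists_pow_eq_self_of_coprime hco
    rw [← hn]
    exact Subgroup.pow_mem _ h1 _
  have hinf : (P : Subgroup G) ⊓ H = ⊥ := disjoint_iff.mp hH.disjoint
  have hsup : (P : Subgroup G) ⊔ H = ⊤ := hH.sup_eq_top
  refine ⟨H, Subgroup.normalizer_eq_top_iff.mp (top_unique (hsup ▸ sup_le ?_ Subgroup.le_normalizer)),
    hHc, hinf, hsup⟩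
  exact (Subgroup.le_centralizer_iff.mp hHC).trans (Subgroup.centralizer_le_normalizer _)

end Cfsg.Agent.S4035
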