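import Cfsg.Statements.S1461
import Cfsg.Agent.Lib.Transfer.PLengthOne

set_option maxHeartbeats 1000000
set_option maxRecDepth 8000

set_option autoImplicit false
open Cfsg
open scoped commutatorElement

namespace Cfsg.Agent.S1461

/-- Let G be a finite solvable group, p a prime with G = O_{p',p,p'}(G), and S a Sylow p-subgroup. Then: if S ≤ G' then S ≤ [N_G(S), N_G(S)]; if Y ⊆ S and xYx⁻¹ ⊆ S then x = g c for some g ∈ N_G(S) and c centralizing Y; and for every p-subgroup Q there is x ∈ C_G(Q ∩ S) with xQx⁻¹ ≤ S. -/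
theorem result {G : Type*} [Group G] [Finite G] [Group.IsSolvable G] (p : ℕ) [Fact p.Prime] (hpl : Cfsg.PLengthLE p 1 G) (S : Sylow p G) :
    ((S : Subgroup G) ≤ commutator G → (S : Subgroup G) ≤ ⁅Subgroup.normalizer ((S : Subgroup G) : Set G), Subgroup.normalizer ((S : Subgroup G) : Set G)⁆) ∧
      (∀ (Y : Set G) (x : G), Y ⊆ (S : Subgroup G) → (fun y => x * y * x⁻¹) '' Y ⊆ (S : Subgroup G) →
        ∃ g ∈ Subgroup.normalizer ((S : Subgroup G) : Set G), ∃ c ∈ Subgroup.centralizer Y, g * c = x) ∧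
      ∀ Q : Subgroup G, IsPGroup p Q → ∃ x ∈ Subgroup.centralizer ((Q ⊓ (S : Subgroup G) : Subgroup G) : Set G), Q.map (MulAut.conj x).toMonoidHom ≤ (S : Subgroup G) := by
  classical
  haveI hN : (Cfsg.pPrimeCore p G).Normal := Cfsg.Agent.Grp.pPrimeCore_isNormal
  set K := Cfsg.pPrimeCore p G with hK
  set N := Subgroup.normalizer ((S : Subgroup G) : Set G) with hN'
  have htop : K ⊔ N = ⊤ := Cfsg.Agent.Transfer.PLengthOne.sup_normalizer_eq_top hpl S
  have hSK : (S : Subgroup G) ⊓ K = ⊥ := Cfsg.Agent.Transfer.PLengthOne.sylow_inf_pPrimeCore S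
  have hfus : ∀ (Y : Set G) (x : G), Y ⊆ (S : Subgroup G) → (fun y => x * y * x⁻¹) '' Y ⊆ (S : Subgroup G) →
      ∃ g ∈ N, ∃ c ∈ Subgroup.centralizer Y, g * c = x := by
    intro Y x hY hxY
    obtain ⟨k, hk, n, hn, rfl⟩ := Subgroup.mem_sup_of_normal_left.1 (htop ▸ Subgroup.mem_top x : x ∈ K ⊔ N)
    have hc : n⁻¹ * k * n ∈ K := by simpa using hN.conj_mem k hk n⁻¹
    refine ⟨n, hn, n⁻¹ * k * n, Subgroup.mem_centralizer_iff.2 fun y hy => ?_, by group⟩
    set c := n⁻¹ * k * n with hcdef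
    have h1 : c * y * c⁻¹ * y⁻¹ ∈ (S : Subgroup G) ⊓ K := by
      refine ⟨(S : Subgroup G).mul_mem ?_ ((S : Subgroup G).inv_mem (hY hy)), ?_⟩
      · have h2 := (Subgroup.mem_normalizer_iff.1 (N.inv_mem hn) _).1 (hxY ⟨y, hy, rfl⟩)
        simpa [hcdef, mul_assoc] using h2
      · rw [mul_assoc, mul_assoc, ← mul_assoc y]
        exact K.mul_mem hc (hN.conj_mem _ (K.inv_mem hc) y)
    rw [hSK, Subgroup.mem_bot, mul_inv_eq_one, mul_inv_eq_iff_eq_mul] at h1
    exact h1.symm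
  refine ⟨fun hS s hs => ?_, hfus, fun Q hQ => ?_⟩
  · -- `S ≤ G'`
    set f := QuotientGroup.mk' K with hf
    have hfs : Function.Surjective f := QuotientGroup.mk'_surjective K
    have hmapN : N.map f = ⊤ := by
      rw [← Subgroup.map_top_of_surjective f hfs, ← htop, Subgroup.map_sup,
        (Subgroup.map_eq_bot_iff K).2 (QuotientGroup.ker_mk' K).ge, bot_sup_eq]
    have h1 : commutator G ≤ K ⊔ ⁅N, N⁆ := by
      rw [sup_comm, ← QuotientGroup.ker_mk' K, ← Subgroup.comap_map_eq, ← Subgroup.map_le_iff_le_comap,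
        Subgroup.map_commutator, hmapN, commutator_def, Subgroup.map_commutator,
        Subgroup.map_top_of_surjective f hfs]
    obtain ⟨k, hk, m, hm, hkm⟩ := Subgroup.mem_sup_of_normal_left.1 (h1 (hS hs))
    have hNN : ⁅N, N⁆ ≤ N := Subgroup.commutator_le_self N
    have hsN : s ∈ N := Subgroup.le_normalizer hs
    have hkN : k ∈ N := by
      have := N.mul_mem hsN (N.inv_mem (hNN hm))
      rwa [← hkm, mul_inv_cancel_right] at this
    have hmN : (⟨m, hNN hm⟩ : N) ∈ commutator N := by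
      rw [← Subgroup.map_subtype_commutator] at hm
      obtain ⟨m', hm', rfl⟩ := hm
      exact hm'
    let a : N →* Abelianization N := Abelianization.of
    have hsk : a ⟨s, hsN⟩ = a ⟨k, hkN⟩ := by
      rw [show (⟨s, hsN⟩ : N) = ⟨k, hkN⟩ * ⟨m, hNN hm⟩ from Subtype.ext hkm.symm, map_mul,
        show a ⟨m, hNN hm⟩ = 1 from MonoidHom.mem_ker.1 (by rwa [Abelianization.ker_of]), mul_one]
    obtain ⟨j, hj⟩ := IsPGroup.iff_orderOf.1 S.2 ⟨s, hs⟩
    rw [Subgroup.orderOf_mk] at hj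
    have hk1 : orderOf (a ⟨k, hkN⟩) ∣ Nat.card K :=
      (orderOf_map_dvd a _).trans (by rw [Subgroup.orderOf_mk]; exact K.orderOf_dvd_natCard hk)
    have hs1 : orderOf (a ⟨s, hsN⟩) ∣ p ^ j :=
      (orderOf_map_dvd a _).trans (by rw [Subgroup.orderOf_mk, hj])
    rw [← hsk] at hk1
    have h2 : (⟨s, hsN⟩ : N) ∈ commutator N := by
      rw [← Abelianization.ker_of, MonoidHom.mem_ker, ← orderOf_eq_one_iff]
      exact Nat.eq_one_of_dvd_coprimes ((Cfsg.Agent.Grp.pPrimeCore_coprime (p := p) (G := G)).pow_right j) hk1 hs1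
    rw [← Subgroup.map_subtype_commutator]
    exact ⟨_, h2, rfl⟩
  · obtain ⟨P, hP⟩ := hQ.exists_le_sylow
    obtain ⟨g, hg⟩ := MulAction.exists_smul_eq G P S
    have hgQ : ∀ q ∈ Q, g * q * g⁻¹ ∈ (S : Subgroup G) := fun q hq => by
      rw [← hg, Sylow.coe_subgroup_smul]
      exact ⟨q, hP hq, rfl⟩
    obtain ⟨n, hn, c, hc, hnc⟩ := hfus ((Q ⊓ (S : Subgroup G) : Subgroup G) : Set G) g (fun y hy => hy.2)
      (by rintro _ ⟨y, hy, rfl⟩; exact hgQ y hy.1)
    refine ⟨c, hc, ?_⟩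
    rintro _ ⟨q, hq, rfl⟩
    have h2 := (Subgroup.mem_normalizer_iff.1 (N.inv_mem hn) _).1 (hgQ q hq)
    rw [← hnc] at h2
    simpa [mul_assoc] using h2

end Cfsg.Agent.S1461
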