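import Cfsg.Statements.S1448
import Mathlib
import Cfsg.Agent.Lib.Transfer.OddRankTwoGen

set_option maxHeartbeats 1000000
set_option maxRecDepth 8000

set_option autoImplicit false
open Cfsg

namespace Cfsg.Agent.S1448

/-- Let G be a finite group, p an odd prime, R a nontrivial p-subgroup with no elementary abelian subgroup of order p ^ 3, and A a subgroup of odd order coprime to p normalizing R with [R, A] = R. Then 3 < p, and either R is abelian or R is generated by two elementwise-commuting subgroups R₁, R₂ with R₁ non-abelian of order p ^ 3 and exponent p, R₂ cyclic, and the elements of R₂ of order dividing p generating exactly [R₁, R₁]. -/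
theorem result {G : Type*} [Group G] [Finite G] (p : ℕ) [Fact p.Prime] (hp : p ≠ 2) (R A : Subgroup G) (hR : IsPGroup p R) (hR1 : R ≠ ⊥) (hr : Cfsg.PRankLE p 2 R)
    (hA : (A ≤ Subgroup.normalizer (R : Set G))) (hcop : (Nat.card A).Coprime p) (hAodd : Odd (Nat.card A)) (hRA : ⁅R, A⁆ = R) :
    3 < p ∧ (IsMulCommutative R ∨ ∃ R₁ R₂ : Subgroup G, R₁ ⊔ R₂ = R ∧ (∀ a ∈ R₁, ∀ b ∈ R₂, a * b = b * a) ∧
        ¬ IsMulCommutative R₁ ∧ Nat.card R₁ = p ^ 3 ∧ Monoid.exponent R₁ = p ∧ IsCyclic R₂ ∧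
        Subgroup.closure {x : G | x ∈ R₂ ∧ x ^ p = 1} = ⁅R₁, R₁⁆) := by
  classical
  obtain ⟨f, -, hgen⟩ := Transfer.MetaCoprime.gen_of_commutator R A hA hRA
  haveI : Nontrivial R := (Subgroup.nontrivial_iff_ne_bot R).2 hR1
  have hp3 := Transfer.MetaCoprime.three_lt_of_gen hp hR hr hAodd hcop f hgen
  refine ⟨hp3, ?_⟩
  by_cases hab : ∀ x y : R, x * y = y * x
  · exact Or.inl ⟨⟨hab⟩⟩
  right
  obtain ⟨S, hS, htop, hnab, hcard, hCc, hinf⟩ := Transfer.MetaCoprime.structure_of_gen hp hp3 hR hr hAodd hcop f hgen hab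
  set C := Subgroup.centralizer (S : Set R) with hC
  haveI := hCc
  refine ⟨S.map R.subtype, C.map R.subtype, ?_, ?_, ?_, ?_, ?_, ?_, ?_⟩
  · rw [← Subgroup.map_sup, htop, ← MonoidHom.range_eq_map, Subgroup.range_subtype]
  · rintro _ ⟨a, ha, rfl⟩ _ ⟨b, hb, rfl⟩
    exact congrArg Subtype.val (Subgroup.mem_centralizer_iff.1 hb a ha)
  · intro h
    refine hnab fun x hx y hy => Subtype.ext ?_
    exact congrArg (fun z : (S.map R.subtype : Subgroup G) => (z : G))
      (h.is_comm.comm ⟨(x : G), x, hx, rfl⟩ ⟨(y : G), y, hy, rfl⟩)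
  · rw [Subgroup.card_map_of_injective R.subtype_injective, hcard]
  · refine (Nat.dvd_prime (Fact.out : p.Prime)).1 (Monoid.exponent_dvd_of_forall_pow_eq_one fun x => ?_) |>.resolve_left ?_
    · obtain ⟨_, ⟨x, hx, rfl⟩⟩ := x
      have h : x ^ p = 1 := (hS x).1 hx
      refine Subtype.ext ?_
      show (x : G) ^ p = 1
      exact congrArg Subtype.val h
    · intro h
      rw [Monoid.exp_eq_one_iff] at h
      haveI := h
      have h1 := Nat.card_of_subsingleton (1 : (S.map R.subtype : Subgroup G))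
      rw [Subgroup.card_map_of_injective R.subtype_injective, hcard] at h1
      have h2 := Nat.one_lt_pow (show 3 ≠ 0 by norm_num) (Fact.out : p.Prime).one_lt
      omega
  · exact isCyclic_of_surjective (C.equivMapOfInjective R.subtype R.subtype_injective).toMonoidHom
      (C.equivMapOfInjective R.subtype R.subtype_injective).surjective
  · rw [← Subgroup.map_commutator, ← hinf]
    refine le_antisymm ((Subgroup.closure_le _).2 ?_) ?_
    · rintro _ ⟨⟨x, hx, rfl⟩, hxp⟩
      exact ⟨x, ⟨(hS x).2 (Subtype.ext hxp), hx⟩, rfl⟩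
    · rintro _ ⟨x, ⟨hx1, hx2⟩, rfl⟩
      exact Subgroup.subset_closure ⟨⟨x, hx2, rfl⟩, congrArg Subtype.val ((hS x).1 hx1)⟩

end Cfsg.Agent.S1448
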