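import Cfsg.Statements.S1412
import Mathlib
import Cfsg.Agent.S1448
import Cfsg.Agent.Lib.Transfer.Local.SylowFusion

set_option maxHeartbeats 1000000
set_option maxRecDepth 8000

set_option autoImplicit false
open Cfsg

namespace Cfsg.Agent.S1412

open Transfer Subgroup
open scoped commutatorElement

theorem inf_centralizer_eq_commutator {G : Type*} [Group G] [Finite G] {p : ℕ} [hp : Fact p.Prime] {R : Subgroup G}
    (hna : ¬ IsMulCommutative R) (hc : Nat.card R = p ^ 3) :
    R ⊓ centralizer (R : Set G) = ⁅R, R⁆ := by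
  have hRp : IsPGroup p R := IsPGroup.of_card hc
  have hnc : ∀ {m : ℕ}, Nat.card (center R) = p ^ m → m = 1 := by
    intro m hm
    have hidx : (center R).index * p ^ m = p ^ 3 := by rw [← hm, Subgroup.index_mul_card, hc]
    have hm3 : m ≤ 3 := (Nat.pow_le_pow_iff_right hp.out.one_lt).1 (Nat.le_of_dvd (pow_pos hp.out.pos 3) ⟨_, by rw [mul_comm]; exact hidx.symm⟩)
    by_contra hm1
    rcases (show m = 0 ∨ m = 2 ∨ m = 3 by omega) with rfl | rfl | rfl
    · haveI : Nontrivial R := Finite.one_lt_card_iff_nontrivial.1 (hc ▸ Nat.one_lt_pow (by norm_num) hp.out.one_lt)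
      haveI := hRp.center_nontrivial
      exact absurd (Finite.one_lt_card (α := center R)) (by rw [hm, pow_zero]; exact lt_irrefl 1)
    · refine hna ?_
      haveI : IsCyclic (R ⧸ center R) := isCyclic_of_prime_card (p := p) (by
        rw [← Subgroup.index_eq_card]
        exact Nat.eq_of_mul_eq_mul_right (pow_pos hp.out.pos 2) (hidx.trans (by ring)))
      exact ⟨⟨fun a b => commutative_of_cyclic_center_quotient (QuotientGroup.mk' (center R))
        (by rw [QuotientGroup.ker_mk']) a b⟩⟩
    · refine hna ⟨⟨fun a b => ?_⟩⟩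
      have ht : center R = ⊤ := (Subgroup.card_eq_iff_eq_top _).1 (by rw [hm, hc])
      exact (mem_center_iff.1 (show a ∈ center R by rw [ht]; trivial) b).symm
  obtain ⟨m, hm⟩ := IsPGroup.iff_card.1 (hRp.to_subgroup (center R))
  have hm1 := hnc hm
  subst hm1
  have hle : commutator R ≤ center R := by
    rw [← Subgroup.Normal.quotient_commutative_iff_commutator_le]
    have hidx : Nat.card (R ⧸ center R) = p ^ 2 := by
      rw [← Subgroup.index_eq_card]
      exact Nat.eq_of_mul_eq_mul_right (pow_pos hp.out.pos 1) ((hm ▸ Subgroup.index_mul_card (center R)).trans (by rw [hc]; ring))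
    exact ⟨⟨IsPGroup.commutative_of_card_eq_prime_sq hidx⟩⟩
  have heq : commutator R = center R := by
    refine Subgroup.eq_of_le_of_card_ge hle ?_
    obtain ⟨k, hk⟩ := IsPGroup.iff_card.1 (hRp.to_subgroup (commutator R))
    rw [hm, hk]
    refine Nat.pow_le_pow_right hp.out.pos (Nat.one_le_iff_ne_zero.2 fun hk0 => hna ⟨⟨fun a b => ?_⟩⟩)
    have h1 : ⁅a, b⁆ ∈ commutator R := commutator_mem_commutator (mem_top a) (mem_top b)
    rw [card_eq_one.1 (show Nat.card (commutator R) = 1 by rw [hk, hk0, pow_zero]), mem_bot] at h1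
    exact commutatorElement_eq_one_iff_mul_comm.1 h1
  have h2 := congrArg (Subgroup.map R.subtype) heq
  rw [_root_.commutator_def, Subgroup.map_commutator, ← MonoidHom.range_eq_map, range_subtype] at h2
  rw [h2]
  ext x
  constructor
  · rintro ⟨hx, hxc⟩
    exact ⟨⟨x, hx⟩, mem_center_iff.2 fun y => Subtype.ext (mem_centralizer_iff.1 hxc y y.2), rfl⟩
  · rintro ⟨y, hy, rfl⟩
    exact ⟨y.2, mem_centralizer_iff.2 fun z hz => congrArg Subtype.val (mem_center_iff.1 hy ⟨z, hz⟩)⟩

/-- Let G be a minimal simple group of odd order, p a prime and P a Sylow p-subgroup of G with no elementary abelian subgroup of order p ^ 3. Then either P is abelian, or P is generated by two elementwise-commuting subgroups P₁, P₂ with P₁ nonabelian of order p ^ 3 and exponent p, P₂ cyclic, and the elements of P₂ of order dividing p generating exactly the centre of P₁. -/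
theorem result {G : Type*} [Group G] [Finite G] (hG : Cfsg.IsMinSimpleOddOrder G) (p : ℕ) [Fact p.Prime] (P : Sylow p G) (hr : Cfsg.PRankLE p 2 (P : Subgroup G)) :
    IsMulCommutative (P : Subgroup G) ∨ ∃ P₁ P₂ : Subgroup G, P₁ ⊔ P₂ = (P : Subgroup G) ∧ (∀ a ∈ P₁, ∀ b ∈ P₂, a * b = b * a) ∧
        ¬ IsMulCommutative P₁ ∧ Nat.card P₁ = p ^ 3 ∧ Monoid.exponent P₁ = p ∧ IsCyclic P₂ ∧
        Subgroup.closure {x : G | x ∈ P₂ ∧ x ^ p = 1} = P₁ ⊓ Subgroup.centralizer (P₁ : Set G) := by

  rcases eq_or_ne (P : Subgroup G) ⊥ with h1 | h1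
  · exact Or.inl (by rw [h1]; infer_instance)
  set N := Subgroup.normalizer ((P : Subgroup G) : Set G) with hN
  haveI := Loc.solvable_of_ne_top hG (fun e => by
    obtain ⟨M, -, hM, hNM, -⟩ := Loc.exists_sigma_coatom hG P h1
    exact hM.1 (top_le_iff.1 (e.ge.trans hNM)) : N ≠ ⊤)
  have hPN : (P : Subgroup G) ≤ N := Subgroup.le_normalizer
  have hnd : ¬ p ∣ (P : Subgroup G).relIndex N := fun hd =>
    P.not_dvd_index (hd.trans (Subgroup.relIndex_dvd_index_of_le hPN))
  obtain ⟨n, hn⟩ := IsPGroup.iff_card.1 P.isPGroup'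
  have hp : p.Prime := Fact.out
  have hp2 : p ≠ 2 := Loc.ne_two hG (by
    rcases Nat.eq_zero_or_pos n with rfl | h0
    · exact absurd (card_eq_one.1 (show Nat.card (P : Subgroup G) = 1 by rw [hn, pow_zero])) h1
    · exact ((dvd_pow_self p h0.ne').trans (dvd_of_eq hn.symm)).trans (card_subgroup_dvd_card _))
  have hcPN : Nat.card ((P : Subgroup G).subgroupOf N) = p ^ n := by
    rw [Nat.card_congr (subgroupOfEquivOfLe hPN).toEquiv, hn]
  obtain ⟨V', hV'⟩ := Subgroup.exists_right_complement'_of_coprime (N := (P : Subgroup G).subgroupOf N) (by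
    rw [hcPN]; exact Nat.Coprime.pow_left n (hp.coprime_iff_not_dvd.2 hnd))
  have hVN : V'.map N.subtype ≤ N := map_subtype_le _
  have hcopV : (Nat.card (V'.map N.subtype)).Coprime p := by
    rw [card_map_of_injective N.subtype_injective, ← hV'.symm.index_eq_card]
    exact (hp.coprime_iff_not_dvd.2 hnd).symm
  have hsup : (P : Subgroup G) ⊔ V'.map N.subtype = N := by
    have h2 := congrArg (Subgroup.map N.subtype) hV'.sup_eq_top
    rwa [Subgroup.map_sup, map_subgroupOf_eq_of_le hPN, ← MonoidHom.range_eq_map, range_subtype] at h2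
  have hcop : (Nat.card ((P : Subgroup G).subgroupOf N)).Coprime (Nat.card V') := by
    rw [hcPN, ← card_map_of_injective N.subtype_injective (K := V')]
    exact (hcopV.symm).pow_left n
  have hRA : ⁅(P : Subgroup G), V'.map N.subtype⁆ = (P : Subgroup G) := by
    haveI : ((P : Subgroup G).subgroupOf N).Normal := Subgroup.normal_in_normalizer
    have h := Loc.commutator_eq_of_le_derived (A := (P : Subgroup G).subgroupOf N) (K := V')
      (by rw [Subgroup.normalizer_eq_top]; exact le_top) hcop (by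
        rw [hV'.sup_eq_top]
        intro y hy
        have h2 : (y : G) ∈ Subgroup.map N.subtype ⁅(⊤ : Subgroup N), (⊤ : Subgroup N)⁆ := by
          rw [Subgroup.map_commutator, ← MonoidHom.range_eq_map, range_subtype]
          exact Loc.sylow_le_derived_normalizer hG P hy
        obtain ⟨z, hz, hzy⟩ := h2
        rw [← N.subtype_injective hzy]; exact hz)
    have h3 := congrArg (Subgroup.map N.subtype) h
    rwa [Subgroup.map_commutator, map_subgroupOf_eq_of_le hPN] at h3
  obtain ⟨-, h⟩ := Cfsg.Agent.S1448.result p hp2 (P : Subgroup G) (V'.map N.subtype) P.isPGroup' h1 hr hVN hcopV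
    (hG.1.of_dvd_nat (card_subgroup_dvd_card _)) hRA
  refine h.imp_right fun ⟨P₁, P₂, h2, h3, h4, h5, h6, h7, h8⟩ => ⟨P₁, P₂, h2, h3, h4, h5, h6, h7, ?_⟩
  rw [h8, inf_centralizer_eq_commutator h4 h5]

end Cfsg.Agent.S1412
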