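import Cfsg.Statements.S1439
import Cfsg.Agent.Lib.Transfer.Local.TauOneBasics

set_option maxHeartbeats 1000000
set_option maxRecDepth 8000

set_option autoImplicit false
open Cfsg

namespace Cfsg.Agent.S1439

open scoped Pointwise
open Subgroup Transfer Transfer.Loc

/-- Let G be a minimal simple group of odd order and M a maximal subgroup, and let Y be the largest normal subgroup of F(M) involving no prime of σ(M). Then Y is cyclic, every prime divisor of its order lies in τ₂(M), and F(M) is generated by F(M_σ) and Y (a direct product, the orders being coprime). -/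
theorem result {G : Type*} [Group G] [Finite G] (hG : Cfsg.IsMinSimpleOddOrder G)
    (M : Subgroup G) (hM : IsCoatom M) :
    IsCyclic ↥(Cfsg.piCoreOf {q | q.Prime ∧ q ∉ Cfsg.sigma M} (Cfsg.fittingOf M)) ∧
      (∀ p : ℕ, p.Prime → p ∣ Nat.card ↥(Cfsg.piCoreOf {q | q.Prime ∧ q ∉ Cfsg.sigma M} (Cfsg.fittingOf M)) → p ∈ Cfsg.tau2 M) ∧
      Cfsg.fittingOf M = Cfsg.fittingOf (Cfsg.sigmaCore M) ⊔ Cfsg.piCoreOf {q | q.Prime ∧ q ∉ Cfsg.sigma M} (Cfsg.fittingOf M) := by

  haveI := solvable_of_ne_top hG hM.1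
  obtain ⟨π, hπ⟩ : ∃ π : Set ℕ, π = {q | q.Prime ∧ q ∉ Cfsg.sigma M} := ⟨_, rfl⟩
  obtain ⟨Y, hY⟩ : ∃ Y, Y = Cfsg.piCoreOf π (Cfsg.fittingOf M) := ⟨_, rfl⟩
  rw [← hπ, ← hY]
  have hYF : Y ≤ Cfsg.fittingOf M := hY ▸ TransHyp.piCoreOf_le _
  have hYM : Y ≤ M := hYF.trans (fittingOf_le M)
  have hMY : M ≤ normalizer (Y : Set G) := hY ▸ le_normalizer_core (le_normalizer_fittingOf M)
  have hYπ : ∀ r : ℕ, r.Prime → r ∣ Nat.card Y → r ∉ Cfsg.sigma M := fun r hr hd => by
    have h := TransHyp.piCoreOf_primes hr (hY ▸ hd)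
    rw [hπ] at h; exact h.2
  have hMσM : Cfsg.sigmaCore M ≤ M := TransHyp.piCoreOf_le M
  have hYC : Y ≤ centralizer (Cfsg.sigmaCore M : Set G) := commute_of_coprime
    (hYM.trans (TransHyp.le_normalizer_piCoreOf M)) (hMσM.trans hMY)
    (Nat.coprime_of_dvd fun r hr h1 h2 => by
      haveI := Fact.mk hr
      exact not_dvd_sigmaCore (hYπ r hr h1) h2)
  haveI : Group.IsNilpotent Y := Transfer.CN.isNilpotent_of_injective (inclusion hYF) (inclusion_injective hYF)
    (fittingOf_isNilpotent M)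
  have key : ∀ (p : ℕ) [Fact p.Prime] (T : Subgroup G), Grp.IsSylowIn p T Y → T ≠ ⊥ →
      p ∈ Cfsg.tau2 M ∧ IsCyclic T := by
    intro p hp T hT hT1
    have hpσ : p ∉ Cfsg.sigma M := hYπ p hp.out ((dvd_card_of_pGroup hT.2.1 hT1).trans (Subgroup.card_dvd_of_le hT.1))
    have hMT : M ≤ normalizer (T : Set G) := hMY.trans (normalizer_le_sylow inferInstance hT)
    obtain ⟨R, hR, hTR⟩ := exists_sylowIn_ge (hT.1.trans hYM) hT.2.1
    obtain ⟨B, B₀, h, hBR⟩ := exc_of_normal_centralizing hG hM hpσ hT.2.1 hT1 (hT.1.trans hYM) (hT.1.trans hYC) hMT hR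
    have hr1 : ¬ Cfsg.PRankLE p 1 M := not_prank_of_elem h.hAM h.hA.elem h.hA.card.ge
    have hr2 : Cfsg.PRankLE p 2 M := by
      by_contra hh; exact hpσ (alpha_subset_sigma hG hM ⟨hp.out, hh⟩)
    refine ⟨⟨hp.out, hpσ, hr2, hr1⟩, ?_⟩
    by_contra hc
    obtain ⟨D, hDT, hD, hD2⟩ := exists_elem_of_not_prank (not_prank_one_of_not_cyclic hG
      (ne_two hG ((dvd_card_of_pGroup hT.2.1 hT1).trans (card_subgroup_dvd_card T))) hT.2.1 hc)
    have hDB : D = B := Subgroup.eq_of_le_of_card_ge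
      (fun x hx => h.mem_of_pow hR hBR (hTR (hDT hx)) (hD.2 x hx)) (h.hA.card.le.trans hD2)
    refine sigmaCore_ne_bot hG hM (le_bot_iff.1 (h.fixed_plane ▸ le_inf le_rfl ?_))
    exact le_centralizer_iff.1 ((hDB ▸ hDT.trans hT.1).trans hYC)
  refine ⟨?_, fun p hp hd => ?_, ?_⟩
  · haveI : IsZGroup Y := ⟨fun p hp T => by
      haveI := Fact.mk hp
      rcases eq_or_ne ((T : Subgroup Y).map Y.subtype) ⊥ with h | h
      · rw [Subgroup.map_eq_bot_iff_of_injective _ Y.subtype_injective] at h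
        rw [h]; infer_instance
      · haveI := (key p _ (Grp.isSylowIn_iff.2 ⟨T, rfl⟩) h).2
        exact isCyclic_of_surjective _
          ((T : Subgroup Y).equivMapOfInjective Y.subtype Y.subtype_injective).symm.surjective⟩
    infer_instance
  · haveI := Fact.mk hp
    obtain ⟨T, hT⟩ := Grp.exists_isSylowIn p Y
    exact (key p T hT (sylow_ne_bot_of_dvd hT hd)).1
  · refine le_antisymm ?_ (sup_le ?_ hYF)
    · rw [fittingOf_eq]
      refine iSup_le fun r => ?_
      haveI := Fact.mk r.2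
      have hprime : ∀ q : ℕ, q.Prime → q ∣ Nat.card (O (r : ℕ) M) → q = r :=
        fun q hq hd => eq_of_dvd_pGroup (O_isPGroup (r : ℕ) M) hq hd
      by_cases hrσ : (r : ℕ) ∈ Cfsg.sigma M
      · refine le_trans (le_trans ?_ (O_le_fittingOf (r := (r : ℕ)) _)) le_sup_left
        exact le_O (TransHyp.le_piCoreOf (O_le _ _) (le_normalizer_core' M) fun q hq hd => hprime q hq hd ▸ hrσ)
          (hMσM.trans (le_normalizer_core' M)) (O_isPGroup _ _)
      · refine le_trans ?_ le_sup_right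
        rw [hY]
        refine TransHyp.le_piCoreOf (O_le_fittingOf M) ((fittingOf_le M).trans (le_normalizer_core' M)) fun q hq hd => ?_
        rw [hπ]; exact ⟨hq, hprime q hq hd ▸ hrσ⟩
    · rw [fittingOf_eq]
      refine iSup_le fun r => ?_
      haveI := Fact.mk r.2
      exact (le_O ((O_le _ _).trans hMσM) (le_normalizer_core (TransHyp.le_normalizer_piCoreOf M)) (O_isPGroup _ _)).trans
        (O_le_fittingOf M)

end Cfsg.Agent.S1439
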