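import Cfsg.Statements.S1415
import Mathlib
import Cfsg.Agent.Lib.Transfer.Local.Compl

set_option maxHeartbeats 1000000
set_option maxRecDepth 8000

set_option autoImplicit false
open Cfsg

namespace Cfsg.Agent.S1415

open Transfer Subgroup
open scoped commutatorElement Pointwise

/-- Let G be a minimal simple group of odd order, M a maximal subgroup and E a complement to M_σ in M. Then the derived subgroup E' is nilpotent; every Hall τ₁(M)-subgroup of E is cyclic; and every Hall τ₃(M)-subgroup E₃ of E is cyclic, contained in E' and normal in E. -/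
theorem result {G : Type*} [Group G] [Finite G] (hG : Cfsg.IsMinSimpleOddOrder G)
    (M : Subgroup G) (hM : IsCoatom M) (E : Subgroup G) (hE : Cfsg.IsComplIn E (Cfsg.sigmaCore M) M) :
    Group.IsNilpotent ↥⁅E, E⁆ ∧
      (∀ E₁ : Subgroup G, Cfsg.IsPiHallOf (Cfsg.tau1 M) E₁ E → IsCyclic E₁) ∧
      ∀ E₃ : Subgroup G, Cfsg.IsPiHallOf (Cfsg.tau3 M) E₃ E → IsCyclic E₃ ∧ E₃ ≤ ⁅E, E⁆ ∧ E ≤ Subgroup.normalizer (E₃ : Set G) := by

  haveI := Loc.solvable_of_ne_top hG hM.1
  haveI := Loc.isSolvable_of_le hE.1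
  haveI hnil : Group.IsNilpotent ↥⁅E, E⁆ := Loc.compl_derived_nilpotent hG hM hE
  refine ⟨hnil, fun E₁ h₁ => ?_, fun E₃ h₃ => ?_⟩
  · have hz : IsZGroup E₁ := ⟨fun p hp T => by
      haveI := Fact.mk hp
      set T' := (T : Subgroup E₁).map E₁.subtype with hT'
      by_contra hc
      have hc' : ¬ IsCyclic T' := fun h => hc (by
        haveI := h
        exact isCyclic_of_surjective _ ((T : Subgroup E₁).equivMapOfInjective E₁.subtype E₁.subtype_injective).symm.surjective)
      have hTp : IsPGroup p T' := T.isPGroup'.map _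
      obtain ⟨n, hn⟩ := IsPGroup.iff_card.1 hTp
      rcases Nat.eq_zero_or_pos n with rfl | h0
      · exact hc' (by rw [card_eq_one.1 (show Nat.card T' = 1 by rw [hn, pow_zero])]; infer_instance)
      have hd : p ∣ Nat.card E₁ :=
        ((dvd_pow_self p h0.ne').trans (dvd_of_eq hn.symm)).trans (card_dvd_of_le (map_subtype_le _))
      exact Loc.not_prank_one_of_not_cyclic hG (Loc.ne_two hG (hd.trans (card_subgroup_dvd_card _))) hTp hc'
        (Loc.prankLE_mono ((map_subtype_le _).trans (h₁.1.trans hE.1)) (h₁.2.1 p hp hd).2.2.2.2)⟩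
    have hder : ⁅E₁, E₁⁆ = ⊥ := by
      refine card_eq_one.1 (Nat.eq_one_iff_not_exists_prime_dvd.2 fun q hq hd => ?_)
      have h1 := h₁.2.1 q hq (hd.trans (card_dvd_of_le E₁.commutator_le_self))
      exact h1.2.2.2.1 (hd.trans (card_dvd_of_le (Subgroup.commutator_mono (h₁.1.trans hE.1) (h₁.1.trans hE.1))))
    haveI := hz
    haveI : IsMulCommutative E₁ :=
      le_centralizer_iff_isMulCommutative.1 (commutator_eq_bot_iff_le_centralizer.1 hder)
    haveI : Group.IsNilpotent E₁ := by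
      open scoped IsMulCommutative in exact inferInstance
    infer_instance
  · have hle : E₃ ≤ E₃ ⊓ ⁅E, E⁆ → E₃ ≤ ⁅E, E⁆ := fun h => h.trans inf_le_right
    have hsyl : ∀ (q : ℕ) [Fact q.Prime], q ∈ Cfsg.tau3 M → ∀ X : Subgroup G, Cfsg.Agent.Grp.IsSylowIn q X E₃ →
        IsCyclic X ∧ X ≤ ⁅E, E⁆ := by
      intro q hq hτ X hX
      refine Loc.compl_tau3_le hG hM hE hτ ⟨hX.1.trans h₃.1, hX.2.1, fun hd => ?_⟩
      rw [← Subgroup.relIndex_mul_relIndex X E₃ E hX.1 h₃.1] at hd
      exact (hq.out.dvd_mul.1 hd).elim hX.2.2 (h₃.2.2 q hq.out hτ)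
    have hbot : ∀ (q : ℕ) [Fact q.Prime], q ∉ Cfsg.tau3 M → ∀ X : Subgroup G, Cfsg.Agent.Grp.IsSylowIn q X E₃ →
        X = ⊥ := by
      intro q hq hτ X hX
      obtain ⟨n, hn⟩ := IsPGroup.iff_card.1 hX.2.1
      rcases Nat.eq_zero_or_pos n with rfl | h0
      · exact card_eq_one.1 (show Nat.card X = 1 by rw [hn, pow_zero])
      · exact absurd (h₃.2.1 q hq.out (((dvd_pow_self q h0.ne').trans (dvd_of_eq hn.symm)).trans (card_dvd_of_le hX.1))) hτ
    have h3E' : E₃ ≤ ⁅E, E⁆ := hle (Cfsg.Agent.Grp.le_of_forall_sylow inf_le_left fun q hq => by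
      obtain ⟨X, hX⟩ := Cfsg.Agent.Grp.exists_isSylowIn q E₃
      refine ⟨X, hX, le_inf hX.1 ?_⟩
      by_cases hτ : q ∈ Cfsg.tau3 M
      · exact (hsyl q hτ X hX).2
      · rw [hbot q hτ X hX]; exact bot_le)
    haveI := Cfsg.Agent.Grp.isNilpotent_of_le h3E' hnil
    refine ⟨?_, h3E', ?_⟩
    · haveI : IsZGroup E₃ := ⟨fun p hp T => by
        haveI := Fact.mk hp
        have hT : Cfsg.Agent.Grp.IsSylowIn p ((T : Subgroup E₃).map E₃.subtype) E₃ :=
          Cfsg.Agent.Grp.isSylowIn_iff.2 ⟨T, rfl⟩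
        have hc : IsCyclic ((T : Subgroup E₃).map E₃.subtype) := by
          by_cases hτ : p ∈ Cfsg.tau3 M
          · exact (hsyl p hτ _ hT).1
          · rw [hbot p hτ _ hT]; infer_instance
        exact isCyclic_of_surjective _ ((T : Subgroup E₃).equivMapOfInjective E₃.subtype E₃.subtype_injective).symm.surjective⟩
      infer_instance
    · -- a Hall subgroup of a nilpotent group is the product of its cores
      set π := Cfsg.tau3 M
      have heq : E₃ = Cfsg.piCoreOf π ⁅E, E⁆ := by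
        haveI := Loc.isSolvable_of_le (M.commutator_le_self.trans le_rfl : ⁅M, M⁆ ≤ M)
        refine le_antisymm ?_ ?_
        · have hsub : ∀ (q : ℕ) [Fact q.Prime], q ∈ π → ∀ X : Subgroup G, X ≤ ⁅E, E⁆ → IsPGroup q X →
              X ≤ Cfsg.piCoreOf π ⁅E, E⁆ := by
            intro q hq hτ X hX hXp
            haveI := hnil
            obtain ⟨T, hT⟩ := (hXp.of_equiv (subgroupOfEquivOfLe hX).symm).exists_le_sylow
            haveI : (T : Subgroup ↥⁅E, E⁆).Normal := inferInstance
            have hTn : ⁅E, E⁆ ≤ Subgroup.normalizer (((T : Subgroup ↥⁅E, E⁆).map ⁅E, E⁆.subtype : Subgroup G) : Set G) :=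
              Loc.map_normal_le_normalizer _
            refine le_trans ?_ (Cfsg.Agent.Transfer.TransHyp.le_piCoreOf (map_subtype_le _) hTn fun r hr hd => ?_)
            · rw [← map_subgroupOf_eq_of_le hX]; exact map_mono hT
            · rw [card_map_of_injective ⁅E, E⁆.subtype_injective] at hd
              obtain ⟨n, hn⟩ := IsPGroup.iff_card.1 T.isPGroup'
              rwa [(Nat.prime_dvd_prime_iff_eq hr hq.out).1 (hr.dvd_of_dvd_pow (hn ▸ hd))]
          refine le_trans (Cfsg.Agent.Grp.le_of_forall_sylow (H := E₃ ⊓ Cfsg.piCoreOf π ⁅E, E⁆) inf_le_left fun q hq => ?_) inf_le_right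
          obtain ⟨X, hX⟩ := Cfsg.Agent.Grp.exists_isSylowIn q E₃
          refine ⟨X, hX, le_inf hX.1 ?_⟩
          by_cases hτ : q ∈ Cfsg.tau3 M
          · exact hsub q hτ X (hX.1.trans h3E') hX.2.1
          · rw [hbot q hτ X hX]; exact bot_le
        · obtain ⟨g, hg, hle⟩ := Cfsg.Agent.Grp.PiHall.dominate h₃ ((Cfsg.Agent.Transfer.TransHyp.piCoreOf_le _).trans E.commutator_le_self)
            (fun r hr hd => Cfsg.Agent.Transfer.TransHyp.piCoreOf_primes hr hd)
          have hn := Cfsg.Agent.Grp.normalizer_le_smul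
            (Loc.le_normalizer_core (π := π) (Cfsg.Agent.Grp.left_le_normalizer_commutator E E)) hg
          rw [← hn] at hle
          exact Subgroup.pointwise_smul_le_pointwise_smul_iff.1 hle
      rw [heq]
      exact Loc.le_normalizer_core (Cfsg.Agent.Grp.left_le_normalizer_commutator E E)

end Cfsg.Agent.S1415
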