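import Cfsg.Statements.S1449
import Cfsg.Agent.Lib.Transfer.OddRankTwo

set_option maxHeartbeats 1000000
set_option maxRecDepth 8000

set_option autoImplicit false
open Cfsg
open scoped commutatorElement

namespace Cfsg.Agent.S1449

/-- Let G be a finite group, p an odd prime, R a p-subgroup with no elementary abelian subgroup of order p ^ 3, and A a solvable subgroup of odd order normalizing R with A ∩ C_G(R) = 1. Then the derived subgroup [A, A] is a p-group. -/
theorem result {G : Type*} [Group G] [Finite G] (p : ℕ) [Fact p.Prime] (hp : p ≠ 2) (R A : Subgroup G) (hR : IsPGroup p R) (hr : Cfsg.PRankLE p 2 R)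
    (hA : (A ≤ Subgroup.normalizer (R : Set G))) (hAs : Group.IsSolvable A) (hAodd : Odd (Nat.card A)) (hfaith : A ⊓ Subgroup.centralizer (R : Set G) = ⊥) :
    IsPGroup p ↥⁅A, A⁆ := by
  let f : A →* MulAut R :=
    { toFun := fun a =>
        { toFun := fun x => ⟨a * x * (a : G)⁻¹, (Subgroup.mem_normalizer_iff.1 (hA a.2) x).1 x.2⟩
          invFun := fun x => ⟨(a : G)⁻¹ * x * a, (Subgroup.mem_normalizer_iff''.1 (hA a.2) x).1 x.2⟩
          left_inv := fun x => Subtype.ext (by simp only [mul_assoc]; simp)
          right_inv := fun x => Subtype.ext (by simp only [mul_assoc]; simp)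
          map_mul' := fun x y => Subtype.ext (by simp [mul_assoc]) }
      map_one' := MulEquiv.ext fun x => Subtype.ext (by simp)
      map_mul' := fun a b => MulEquiv.ext fun x => Subtype.ext (by simp [mul_assoc]) }
  have hf : Function.Injective f := by
    rw [← MonoidHom.ker_eq_bot_iff, Subgroup.eq_bot_iff_forall]
    intro a ha
    refine Subtype.ext (Subgroup.mem_bot.1 (hfaith ▸ ⟨a.2, Subgroup.mem_centralizer_iff.2 fun x hx => ?_⟩))
    have h1 : (a : G) * x * (a : G)⁻¹ = x :=
      congrArg (fun e : MulAut R => ((e ⟨x, hx⟩ : R) : G)) (MonoidHom.mem_ker.1 ha)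
    exact (mul_inv_eq_iff_eq_mul.1 h1).symm
  have h := Transfer.OddRankTwo.derived_isPGroup_of_faithful hp hR hr hAodd hAs f hf
  have hmap : ⁅A, A⁆ = (commutator A).map A.subtype := by
    rw [_root_.commutator_def, Subgroup.map_commutator, ← MonoidHom.range_eq_map, Subgroup.range_subtype]
  rw [hmap]
  exact h.map A.subtype

end Cfsg.Agent.S1449
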