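import Cfsg.Statements.S1411
import Mathlib
import Cfsg.Agent.Lib.Transfer.Local.SylowFusion

set_option maxHeartbeats 1000000
set_option maxRecDepth 8000

set_option autoImplicit false
open Cfsg

namespace Cfsg.Agent.S1411

open Transfer Subgroup
open scoped commutatorElement Pointwise

/-- Let G be a minimal simple group of odd order, p a prime, P a Sylow p-subgroup of G and V a complement to P in its normalizer N_G(P). Then P equals the commutator subgroup [P, V], and P is contained in the derived subgroup of N_G(P). -/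
theorem result {G : Type*} [Group G] [Finite G] (hG : Cfsg.IsMinSimpleOddOrder G) (p : ℕ) [Fact p.Prime] (P : Sylow p G)
    (V : Subgroup G) (hV : Cfsg.IsComplIn (P : Subgroup G) V (Subgroup.normalizer ((P : Subgroup G) : Set G))) :
    (P : Subgroup G) = ⁅(P : Subgroup G), V⁆ ∧
      (P : Subgroup G) ≤ ⁅Subgroup.normalizer ((P : Subgroup G) : Set G), Subgroup.normalizer ((P : Subgroup G) : Set G)⁆ := by

  have hder := Loc.sylow_le_derived_normalizer hG P
  refine ⟨?_, hder⟩
  rcases eq_or_ne (P : Subgroup G) ⊥ with h1 | h1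
  · rw [h1, commutator_bot_left]
  obtain ⟨hPN, hVN, hPV, hcov⟩ := hV
  set N := Subgroup.normalizer ((P : Subgroup G) : Set G) with hN
  haveI := Loc.solvable_of_ne_top hG (fun e => by
    obtain ⟨M, -, hM, hNM, -⟩ := Loc.exists_sigma_coatom hG P h1
    exact hM.1 (top_le_iff.1 (e.ge.trans hNM)) : N ≠ ⊤)
  have hsup : (P : Subgroup G) ⊔ V = N := le_antisymm (sup_le hPN hVN) fun m hm => by
    obtain ⟨a, ha, b, hb, rfl⟩ := hcov m hm
    exact Subgroup.mul_mem_sup ha hb
  have hcard : Nat.card N = Nat.card (P : Subgroup G) * Nat.card V := by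
    have := Cfsg.Agent.Grp.card_sup_mul_card_inf (H := V) (N := (P : Subgroup G)) hVN
    rw [sup_comm, hsup, inf_comm, hPV, Subgroup.card_bot, mul_one] at this
    rw [this, mul_comm]
  have hcop : (Nat.card (P : Subgroup G)).Coprime (Nat.card V) := by
    obtain ⟨n, hn⟩ := IsPGroup.iff_card.1 P.isPGroup'
    have h2 : (P : Subgroup G).relIndex N = Nat.card V :=
      Nat.eq_of_mul_eq_mul_left Nat.card_pos ((Cfsg.Agent.Grp.card_mul_relIndex hPN).trans hcard)
    rw [hn]
    refine Nat.Coprime.pow_left n ((Fact.out : p.Prime).coprime_iff_not_dvd.2 fun hd => ?_)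
    exact P.not_dvd_index ((hd.trans (dvd_of_eq h2.symm)).trans (Subgroup.relIndex_dvd_index_of_le hPN))
  have h := Loc.commutator_eq_of_le_derived (A := (P : Subgroup G).subgroupOf N) (K := V.subgroupOf N)
    (Cfsg.Agent.Grp.PiHall.subgroupOf_le_normalizer N hVN)
    (by rwa [Nat.card_congr (subgroupOfEquivOfLe hPN).toEquiv, Nat.card_congr (subgroupOfEquivOfLe hVN).toEquiv])
    (by
      rw [← subgroupOf_sup hPN hVN, hsup, subgroupOf_self]
      intro y hy
      have h2 : (y : G) ∈ Subgroup.map N.subtype ⁅(⊤ : Subgroup N), (⊤ : Subgroup N)⁆ := by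
        rw [Subgroup.map_commutator, ← MonoidHom.range_eq_map, range_subtype]; exact hder hy
      obtain ⟨z, hz, hzy⟩ := h2
      rw [← N.subtype_injective hzy]; exact hz)
  have h3 := congrArg (Subgroup.map N.subtype) h
  rwa [Subgroup.map_commutator, map_subgroupOf_eq_of_le hPN, map_subgroupOf_eq_of_le hVN, eq_comm] at h3

end Cfsg.Agent.S1411
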