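import Cfsg.Statements.S1482
import Mathlib
import Cfsg.Agent.Lib.Transfer.Local.Maximal

set_option maxHeartbeats 1000000
set_option maxRecDepth 8000

set_option autoImplicit false
open Cfsg

namespace Cfsg.Agent.S1482

open Subgroup
open Transfer

/-- Let G be a minimal simple group of odd order, H a maximal subgroup whose Fitting subgroup F has at least two prime divisors, and M a subgroup of F containing the centre of F such that the only M-invariant subgroup of G of order coprime to #F is the trivial one. Then H is the only maximal subgroup of G containing M. -/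
theorem result {G : Type*} [Group G] [Finite G] (hG : Cfsg.IsMinSimpleOddOrder G) (H : Subgroup G) (hH : IsCoatom H) (hF2 : 2 ≤ (Nat.card (Cfsg.fittingOf H)).primeFactors.card)
    (M : Subgroup G) (hM : M ≤ Cfsg.fittingOf H) (hZM : Cfsg.fittingOf H ⊓ Subgroup.centralizer (Cfsg.fittingOf H : Set G) ≤ M)
    (hinv : ∀ Y ∈ Cfsg.invSubgroups ⊤ M (Cfsg.primesNotDvd (Nat.card (Cfsg.fittingOf H))), Y = ⊥) :
    ∀ L : Subgroup G, IsCoatom L → M ≤ L → L = H := by

  intro L hL hML
  haveI := Loc.solvable_of_ne_top hG hH.1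
  haveI := Loc.solvable_of_ne_top hG hL.1
  let π : Set ℕ := ((Nat.card (Cfsg.fittingOf H)).primeFactors : Set ℕ)
  have hπ : ∀ r : ℕ, r ∈ π ↔ r.Prime ∧ r ∣ Nat.card (Cfsg.fittingOf H) := fun r => by
    simp [π, Nat.mem_primeFactors, Nat.card_pos.ne']
  have hπH : ∀ r : ℕ, r.Prime → (Loc.O r H ≠ ⊥ ↔ r ∈ π) := fun r hr => by
    haveI := Fact.mk hr
    rw [hπ]
    exact ⟨fun h => ⟨hr, Loc.dvd_of_O_ne_bot h⟩, fun h => Loc.O_ne_bot_of_dvd h.2⟩
  refine (Loc.eq_of_linked (H := H) (L := L) π (fun q hq => ((hπ q).1 hq).1) (fun q => ?_) hπH ?_ ?_ ?_ ?_ ?_).symm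
  · obtain ⟨p, hp, hne⟩ := Finset.exists_mem_ne hF2 q
    exact ⟨p, hp, hne⟩
  · intro Y hY hn hp
    refine hinv Y ⟨le_top, fun r hr hd => ⟨hr, fun h => hp r hr hd ((hπ r).2 ⟨hr, h⟩)⟩, hML.trans hn⟩
  · intro q hq
    haveI := Fact.mk ((hπ q).1 hq).1
    exact le_trans (le_trans (le_inf (inf_le_left.trans (Loc.O_le_fittingOf H)) (Loc.Z_centralizes_fittingOf H)) hZM) hML
  · intro q hq
    haveI := Fact.mk ((hπ q).1 hq).1
    exact Loc.centralizer_Z_le hG hH ((hπH q ((hπ q).1 hq).1).2 hq)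
  · intro q hq hne
    haveI := Fact.mk hq
    exact Loc.centralizer_Z_le hG hL hne
  · exact fun K hK hKH h1 h2 => Loc.coatom_eq hG hH hL hK hKH h1 h2

end Cfsg.Agent.S1482
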