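import Cfsg.Statements.S4126
import Mathlib
import Cfsg.Agent.Lib.Grp.GaschutzYen
import Cfsg.Agent.Lib.Transfer.Frobenius
import Cfsg.Agent.Lib.Grp.Coprime
import Cfsg.Agent.Lib.Grp.Frattini

set_option maxHeartbeats 1000000
set_option maxRecDepth 8000

set_option autoImplicit false
open Cfsg Cfsg.Agent.Grp
open scoped Pointwise commutatorElement

namespace Cfsg.Agent.S4126

/-- A coprime operator group fixing the elements of order `p` (and 4 if `p = 2`) centralizes the `p`-group. -/
theorem le_centralizer_of_omega {G : Type*} [Group G] [Finite G] {p : ℕ} [hp : Fact p.Prime]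
    (A : Subgroup G) (hA : (Nat.card A).Coprime p) :
    ∀ U : Subgroup G, IsPGroup p U → A ≤ Subgroup.normalizer (U : Set G) →
      (∀ u ∈ U, (u ^ p = 1 ∨ (p = 2 ∧ u ^ 4 = 1)) → ∀ a ∈ A, a * u = u * a) → A ≤ Subgroup.centralizer (U : Set G) := by
  intro U
  induction U using (wellFounded_lt (α := Subgroup G)).induction with
  | _ U ih =>
  intro hU hAU hfix
  obtain ⟨m, hm⟩ := IsPGroup.iff_card.mp hU
  have hcop : (Nat.card A).Coprime (Nat.card U) := by rw [hm]; exact hA.pow_right m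
  have hsolv : Group.IsSolvable A ∨ Group.IsSolvable U :=
    Or.inr (@IsNilpotent.to_isSolvable _ _ hU.isNilpotent)
  have key : ∀ W : Subgroup G, W ≤ U → A ≤ Subgroup.normalizer (W : Set G) → W ≠ U →
      A ≤ Subgroup.centralizer (W : Set G) := fun W hW hAW hne =>
    ih W (lt_of_le_of_ne hW hne) (hU.to_le hW) hAW fun u hu => hfix u (hW hu)
  by_cases hUA : ⁅U, A⁆ = U
  swap
  · have h1 := key _ (commutator_le_left_of_le_normalizer hAU) (right_le_normalizer_commutator A U) hUA
    rw [← Subgroup.commutator_eq_bot_iff_le_centralizer, Subgroup.commutator_comm A,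
      commutator_commutator_eq A U hAU hcop hsolv] at h1
    rw [← Subgroup.commutator_eq_bot_iff_le_centralizer, Subgroup.commutator_comm]
    exact h1
  set Φ := (frattini U).map U.subtype
  have hΦU : Φ ≤ U := Subgroup.map_subtype_le _
  have hAΦ : A ≤ Subgroup.normalizer (Φ : Set G) := fun a ha => by
    rw [mem_normalizer_iff_smul, ← map_conj_eq_smul]
    exact map_char_eq (hAU ha) _
  rcases eq_or_ne U ⊥ with rfl | hne
  · intro a _
    rw [Subgroup.mem_centralizer_iff]
    intro g hg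
    rw [Subgroup.mem_bot.mp hg, one_mul, mul_one]
  have hΦne : Φ ≠ U := by
    intro e
    have : Nontrivial U := (Subgroup.nontrivial_iff_ne_bot U).mpr hne
    obtain ⟨M, hM⟩ := (eq_top_or_exists_le_coatom (⊥ : Subgroup U)).resolve_left bot_ne_top
    refine hM.1.1 (top_le_iff.mp fun u _ => ?_)
    obtain ⟨v, hv, hv'⟩ := (e.ge u.2 : (u : G) ∈ Φ)
    rw [show u = v from Subtype.ext hv'.symm]
    exact frattini_le_coatom hM.1 hv
  have hAΦc := key Φ hΦU hAΦ hΦne
  -- `Φ` is central in `U`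
  have hUΦ : U ≤ Subgroup.normalizer (Φ : Set G) := fun u hu => by
    rw [mem_normalizer_iff_smul, ← map_conj_eq_smul]
    exact map_char_eq (Subgroup.le_normalizer hu) _
  have h1 : ⁅⁅A, Φ⁆, U⁆ = ⊥ := by
    rw [Subgroup.commutator_eq_bot_iff_le_centralizer.mpr hAΦc, Subgroup.commutator_bot_left]
  have hΦUle : ⁅Φ, U⁆ ≤ Φ := commutator_le_left_of_le_normalizer hUΦ
  have h2 : ⁅⁅Φ, U⁆, A⁆ = ⊥ := by
    rw [← le_bot_iff, Subgroup.commutator_comm]
    exact le_trans (Subgroup.commutator_mono le_rfl hΦUle)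
      (Subgroup.commutator_eq_bot_iff_le_centralizer.mpr hAΦc).le
  have hΦc : Φ ≤ Subgroup.centralizer (U : Set G) := by
    have h3 : ⁅⁅U, A⁆, Φ⁆ = ⊥ := Subgroup.commutator_commutator_eq_bot_of_rotate h1 h2
    rw [hUA, Subgroup.commutator_comm, Subgroup.commutator_eq_bot_iff_le_centralizer] at h3
    exact h3
  have hpow : ∀ u ∈ U, u ^ p ∈ Φ := fun u hu =>
    ⟨_, pGroup_pow_mem_frattini hU ⟨u, hu⟩, by simp⟩
  have hcomm : ∀ u ∈ U, ∀ v ∈ U, ⁅u, v⁆ ∈ Φ := fun u hu v hv =>
    ⟨_, pGroup_commutator_le_frattini hU (Subgroup.commutator_mem_commutator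
      (Subgroup.mem_top (⟨u, hu⟩ : U)) (Subgroup.mem_top (⟨v, hv⟩ : U))), by simp [commutatorElement_def]⟩
  have hexp : ∀ u ∈ U, ∀ v ∈ U, ⁅u, v⁆ ^ p = 1 := by
    intro u hu v hv
    set c := ⁅u, v⁆ with hc
    have hcu : ∀ w ∈ U, Commute c w := fun w hw =>
      (Subgroup.mem_centralizer_iff.mp (hΦc (hcomm u hu v hv)) w hw).symm
    have hn : ∀ n : ℕ, u * v ^ n * u⁻¹ = c ^ n * v ^ n := by
      intro n
      rw [← (hcu v hv).mul_pow, ← conj_pow]
      congr 1
      rw [hc, commutatorElement_def]; group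
    have h4 := hn p
    rw [show u * v ^ p * u⁻¹ = v ^ p from mul_inv_eq_iff_eq_mul.mpr
      (Subgroup.mem_centralizer_iff.mp (hΦc (hpow v hv)) u hu)] at h4
    exact mul_eq_right.mp h4.symm
  -- the generators of `[U, A] = U` are fixed
  have hall : U ≤ Subgroup.centralizer (A : Set G) := by
    rw [← hUA, Subgroup.commutator_le]
    intro u hu a ha
    have hy : a * u⁻¹ * a⁻¹ ∈ U := mem_conj_normalizer (hAU ha) (inv_mem hu)
    set y := a * u⁻¹ * a⁻¹ with hydef
    have hord : (u * y) ^ p = 1 ∨ (p = 2 ∧ (u * y) ^ 4 = 1) := by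
      have hcy : ∀ w ∈ U, Commute ⁅y, u⁆ w := fun w hw =>
        (Subgroup.mem_centralizer_iff.mp (hΦc (hcomm y hy u hu)) w hw).symm
      have hpe : (u * y) ^ p = ⁅y, u⁆ ^ p.choose 2 := by
        rw [mul_pow_class_two (c := ⁅y, u⁆) (by rw [commutatorElement_def]; group) (hcy u hu) (hcy y hy),
          mul_assoc, hydef, conj_pow, inv_pow]
        have hfix' : a * (u ^ p)⁻¹ = (u ^ p)⁻¹ * a :=
          (Subgroup.mem_centralizer_iff.mp (hAΦc ha) _ (inv_mem (hpow u hu))).symm
        rw [hfix', mul_inv_cancel_right, mul_inv_cancel, mul_one]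
      rcases eq_or_ne p 2 with h2 | hp2
      · subst h2
        refine Or.inr ⟨rfl, ?_⟩
        rw [show (u * y) ^ 4 = ((u * y) ^ 2) ^ 2 by rw [← pow_mul], hpe, Nat.choose_self, pow_one]
        exact hexp y hy u hu
      · left
        have hdvd : p ∣ p.choose 2 := hp.out.dvd_choose_self two_ne_zero (by have := hp.out.two_le; omega)
        obtain ⟨k, hk⟩ := hdvd
        rw [hpe, hk, pow_mul, hexp y hy u hu, one_pow]
    have e : ⁅u, a⁆ = u * y := by rw [hydef, commutatorElement_def]; group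
    rw [e]
    exact Subgroup.mem_centralizer_iff.mpr fun b hb => hfix _ (mul_mem hu hy) hord b hb
  exact Subgroup.le_centralizer_iff.mp hall

/-- Coprime operators centralize the small elements. -/
theorem fixes_omega {G : Type*} [Group G] [Finite G] {p : ℕ} [Fact p.Prime]
    (h : ∀ x : G, (orderOf x = p ∨ (p = 2 ∧ orderOf x = 4)) → ∃ a : ℕ, (Subgroup.centralizer ({x} : Set G)).index = p ^ a)
    (P : Sylow p G) (A : Subgroup G) (hA : (Nat.card A).Coprime p) :
    ∀ x : G, (x ^ p = 1 ∨ (p = 2 ∧ x ^ 4 = 1)) → ∀ a ∈ A, a * x = x * a := by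
  set Ω : Set G := {x | x ^ p = 1 ∨ (p = 2 ∧ x ^ 4 = 1)} with hΩ
  have hconjΩ : ∀ x ∈ Ω, ∀ g : G, g * x * g⁻¹ ∈ Ω := by
    intro x hx g
    rcases hx with hx | ⟨h2, hx⟩
    · left; rw [conj_pow, hx, mul_one, mul_inv_cancel]
    · exact Or.inr ⟨h2, by rw [conj_pow, hx, mul_one, mul_inv_cancel]⟩
  -- conjugacy is realised inside the Sylow subgroup
  have hconj : ∀ x ∈ Ω, ∀ g : G, ∃ u ∈ (P : Subgroup G), g * x * g⁻¹ = u * x * u⁻¹ := by
    intro x hx g
    rcases eq_or_ne x 1 with rfl | hx1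
    · exact ⟨1, one_mem _, by group⟩
    have hord : ∃ a : ℕ, (Subgroup.centralizer ({x} : Set G)).index = p ^ a := by
      rcases hx with hx | ⟨rfl, hx⟩
      · exact h x (Or.inl (orderOf_eq_prime hx hx1))
      · by_cases h2 : x ^ 2 = 1
        · exact h x (Or.inl (orderOf_eq_prime h2 hx1))
        · exact h x (Or.inr ⟨rfl, orderOf_eq_prime_pow (p := 2) (n := 1) (by simpa using h2) (by simpa using hx)⟩)
    obtain ⟨a, ha⟩ := hord
    set C := Subgroup.centralizer ({x} : Set G) with hC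
    set D := (P : Subgroup G) ⊓ C with hD
    obtain ⟨k, hk⟩ := (P.isPGroup'.to_le (inf_le_left : D ≤ _)).exists_card_eq
    obtain ⟨n, hn⟩ := P.isPGroup'.exists_card_eq
    have h1 : p ^ k * p ^ a ∣ p ^ n := by
      have h2 : p ^ k ∣ Nat.card C := hk ▸ Subgroup.card_dvd_of_le inf_le_right
      have h3 : p ^ k * p ^ a ∣ Nat.card G := by
        rw [← C.card_mul_index, ha]; exact mul_dvd_mul_right h2 _
      have hn' : n = (Nat.card G).factorization p :=
        Nat.pow_right_injective (Fact.out : p.Prime).two_le (hn.symm.trans P.card_eq_multiplicity)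
      rw [← pow_add] at h3 ⊢
      rw [hn']
      exact pow_dvd_pow p (((Fact.out : p.Prime).pow_dvd_iff_le_factorization Nat.card_pos.ne').1 h3)
    have hdec : ∀ g : G, ∃ u ∈ (P : Subgroup G), u⁻¹ * g ∈ C := by
      let f : (P : Subgroup G) ⧸ D.subgroupOf (P : Subgroup G) → G ⧸ C := Quotient.map' (fun u => (u : G))
        (fun u v huv => by
          rw [QuotientGroup.leftRel_apply] at huv ⊢
          exact huv.2)
      have hf : Function.Injective f := by
        intro x y
        refine Quotient.inductionOn₂' x y fun u v huv => ?_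
        have h2 : (u : G)⁻¹ * v ∈ C := QuotientGroup.eq.1 huv
        exact QuotientGroup.eq.2 (Subgroup.mem_subgroupOf.2 ⟨(u⁻¹ * v : (P : Subgroup G)).2, h2⟩)
      have hle : Nat.card (G ⧸ C) ≤ Nat.card ((P : Subgroup G) ⧸ D.subgroupOf (P : Subgroup G)) := by
        have h2 := (D.subgroupOf (P : Subgroup G)).card_mul_index
        rw [Nat.card_congr (Subgroup.subgroupOfEquivOfLe (inf_le_left : D ≤ _)).toEquiv, hk, hn] at h2
        rw [← Subgroup.index_eq_card, ← Subgroup.index_eq_card, ha]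
        refine Nat.le_of_dvd (Nat.pos_of_ne_zero Subgroup.index_ne_zero_of_finite) ?_
        exact (Nat.mul_dvd_mul_iff_left (pow_pos (Fact.out : p.Prime).pos k)).1 (h2 ▸ h1)
      have hb : Function.Bijective f := hf.bijective_of_nat_card_le hle
      intro g
      obtain ⟨z, hz⟩ := hb.2 (g : G ⧸ C)
      induction z using QuotientGroup.induction_on with
      | H u => exact ⟨u, u.2, QuotientGroup.eq.1 hz⟩
    obtain ⟨u, hu, huC⟩ := hdec g
    refine ⟨u, hu, ?_⟩
    have := Subgroup.mem_centralizer_singleton_iff.1 huC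
    calc g * x * g⁻¹ = u * ((u⁻¹ * g) * x) * g⁻¹ := by group
      _ = u * (x * (u⁻¹ * g)) * g⁻¹ := by rw [this]
      _ = u * x * u⁻¹ := by group
  have hΩP : ∀ x ∈ Ω, x ∈ (P : Subgroup G) := by
    intro x hx
    have hp : IsPGroup p (Subgroup.zpowers x) := by
      rcases hx with hx | ⟨rfl, hx⟩
      · exact IsPGroup.iff_orderOf.2 fun y => by
          obtain ⟨j, -, hj⟩ := (Nat.dvd_prime_pow (Fact.out : p.Prime) (m := 1)).1
            (show orderOf y ∣ p ^ 1 by
              rw [pow_one, ← Subgroup.orderOf_coe]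
              refine orderOf_dvd_of_pow_eq_one ?_
              obtain ⟨i, hi⟩ := y.2
              rw [← hi, ← zpow_natCast, ← zpow_mul, mul_comm, zpow_mul, zpow_natCast, hx, one_zpow])
          exact ⟨j, hj⟩
      · exact IsPGroup.iff_orderOf.2 fun y => by
          obtain ⟨j, -, hj⟩ := (Nat.dvd_prime_pow Nat.prime_two (m := 2)).1
            (show orderOf y ∣ 2 ^ 2 by
              rw [← Subgroup.orderOf_coe]
              refine orderOf_dvd_of_pow_eq_one ?_
              obtain ⟨i, hi⟩ := y.2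
              rw [← hi, ← zpow_natCast, ← zpow_mul, mul_comm, zpow_mul, zpow_natCast,
                show (2 : ℕ) ^ 2 = 4 by norm_num, hx, one_zpow])
          exact ⟨j, hj⟩
    obtain ⟨S, hS⟩ := hp.exists_le_sylow
    obtain ⟨g, hg⟩ := MulAction.exists_smul_eq G S P
    have hgx : g * x * g⁻¹ ∈ (P : Subgroup G) := by
      rw [← hg, Sylow.coe_subgroup_smul, Subgroup.mem_pointwise_smul_iff_inv_smul_mem]
      simpa [MulAut.smul_def, mul_assoc] using hS (Subgroup.mem_zpowers x)
    obtain ⟨u, hu, he⟩ := hconj x hx g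
    rw [he] at hgx
    have := mul_mem (mul_mem (inv_mem hu) hgx) hu
    simpa [mul_assoc] using this
  -- induction along the upper central series of `P`
  set R : ℕ → Subgroup G := fun i => (Subgroup.upperCentralSeries (P : Subgroup G) i).map (P : Subgroup G).subtype with hR
  have hRP : ∀ i, R i ≤ (P : Subgroup G) := fun i => Subgroup.map_subtype_le _
  have hRn : ∀ i, ∀ u ∈ (P : Subgroup G), ∀ r ∈ R i, u * r * u⁻¹ ∈ R i := by
    rintro i u hu _ ⟨r, hr, rfl⟩
    exact ⟨⟨u, hu⟩ * r * ⟨u, hu⟩⁻¹, Subgroup.Normal.conj_mem inferInstance r hr _, rfl⟩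
  have hstep : ∀ i, ∀ u ∈ (P : Subgroup G), ∀ r ∈ R (i + 1), u * r * u⁻¹ * r⁻¹ ∈ R i := by
    rintro i u hu _ ⟨r, hr, rfl⟩
    have h1 := Subgroup.mem_upperCentralSeries_succ_iff.1 hr ⟨u, hu⟩
    refine ⟨⟨u, hu⟩ * r * ⟨u, hu⟩⁻¹ * r⁻¹, ?_, rfl⟩
    have h2 := inv_mem h1
    simpa [commutatorElement_def, mul_assoc] using h2
  have main : ∀ i, ∀ x ∈ Ω, x ∈ R i → ∀ a ∈ A, a * x = x * a := by
    intro i
    induction i with
    | zero =>
      intro x _ hx a _
      rw [hR] at hx
      simp only [Subgroup.upperCentralSeries_zero, Subgroup.map_bot, Subgroup.mem_bot] at hx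
      simp [hx]
    | succ i ih =>
      set W := Subgroup.closure (Ω ∩ R (i + 1)) with hW
      have hWP : W ≤ (P : Subgroup G) := (Subgroup.closure_le _).2 fun x hx => hΩP x hx.1
      have hinv : ∀ x ∈ Ω, x ∈ R (i + 1) → ∀ g : G, g * x * g⁻¹ ∈ R (i + 1) ∧ g * x * g⁻¹ * x⁻¹ ∈ R i := by
        intro x hx hxR g
        obtain ⟨u, hu, he⟩ := hconj x hx g
        rw [he]
        exact ⟨hRn _ u hu x hxR, hstep i u hu x hxR⟩
      have hWinv : ∀ g : G, ∀ y ∈ W, g * y * g⁻¹ ∈ W := by
        intro g y hy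
        induction hy using Subgroup.closure_induction with
        | mem x hx => exact Subgroup.subset_closure ⟨hconjΩ x hx.1 g, (hinv x hx.1 hx.2 g).1⟩
        | one => simp [W.one_mem]
        | mul y z _ _ ihy ihz =>
          rw [show g * (y * z) * g⁻¹ = (g * y * g⁻¹) * (g * z * g⁻¹) by group]
          exact W.mul_mem ihy ihz
        | inv y _ ihy =>
          rw [show g * y⁻¹ * g⁻¹ = (g * y * g⁻¹)⁻¹ by group]
          exact W.inv_mem ihy
      have hcong : ∀ g : G, ∀ y ∈ W, g * y * g⁻¹ * y⁻¹ ∈ R i := by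
        intro g y hy
        induction hy using Subgroup.closure_induction with
        | mem x hx => exact (hinv x hx.1 hx.2 g).2
        | one => simp [(R i).one_mem]
        | mul y z hy hz ihy ihz =>
          rw [show g * (y * z) * g⁻¹ * (y * z)⁻¹ = (g * y * g⁻¹ * y⁻¹) * (y * (g * z * g⁻¹ * z⁻¹) * y⁻¹) by group]
          exact (R i).mul_mem ihy (hRn i y (hWP hy) _ ihz)
        | inv y hy ihy =>
          rw [show g * y⁻¹ * g⁻¹ * y⁻¹⁻¹ = y⁻¹ * (g * y * g⁻¹ * y⁻¹)⁻¹ * y⁻¹⁻¹ by group]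
          exact hRn i y⁻¹ (inv_mem (hWP hy)) _ ((R i).inv_mem ihy)
      set T := W ⊓ R i with hT
      have hTinv : ∀ g : G, ∀ y ∈ T, g * y * g⁻¹ ∈ T := fun g y hy =>
        Subgroup.mem_inf.2 ⟨hWinv g y hy.1, by
          have := (R i).mul_mem (hcong g y hy.1) hy.2
          simpa [mul_assoc] using this⟩
      have hnormal : ∀ S : Subgroup G, (∀ g : G, ∀ y ∈ S, g * y * g⁻¹ ∈ S) → A ≤ Subgroup.normalizer (S : Set G) :=
        fun S hS => by
          have : S.Normal := ⟨fun n hn g => hS g n hn⟩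
          exact Subgroup.le_normalizer_of_normal
      have hWp : IsPGroup p W := P.isPGroup'.to_le hWP
      have hAT : A ≤ Subgroup.centralizer (T : Set G) :=
        le_centralizer_of_omega A hA T (hWp.to_le inf_le_left) (hnormal T hTinv)
          fun u hu hu' => ih u hu' hu.2
      obtain ⟨m, hm⟩ := hWp.exists_card_eq
      have hAW : A ≤ Subgroup.centralizer (W : Set G) := by
        refine Cfsg.Agent.Grp.le_centralizer_of_series A W T (hnormal W hWinv) (hm ▸ hA.pow_right m)
          (Or.inr (@IsNilpotent.to_isSolvable _ _ hWp.isNilpotent)) ?_ ?_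
        · rw [Subgroup.commutator_le]
          intro y hy a _
          have h1 : y * a * y⁻¹ * a⁻¹ = (a * y * a⁻¹ * y⁻¹)⁻¹ := by group
          rw [commutatorElement_def, h1]
          exact T.inv_mem (Subgroup.mem_inf.2 ⟨W.mul_mem (hWinv a y hy) (W.inv_mem hy), hcong a y hy⟩)
        · rw [Subgroup.commutator_comm, Subgroup.commutator_eq_bot_iff_le_centralizer]
          exact hAT
      intro x hx hxR a ha
      exact (Subgroup.mem_centralizer_iff.1 (hAW ha) x (Subgroup.subset_closure ⟨hx, hxR⟩)).symm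
  intro x hx
  obtain ⟨n, hn⟩ := (P.isPGroup'.isNilpotent).nilpotent'
  exact main n x hx ⟨⟨x, hΩP x hx⟩, hn ▸ Subgroup.mem_top _, rfl⟩


/-- Let G be a finite group and p a prime. Suppose every element of order p, and when p = 2 also every element of order 4, has a conjugacy class of p-power size. Then G has a normal p-complement. -/
theorem result {G : Type*} [Group G] [Finite G] (p : ℕ) [Fact p.Prime]
    (h : ∀ x : G, (orderOf x = p ∨ (p = 2 ∧ orderOf x = 4)) → ∃ a : ℕ, (Subgroup.centralizer ({x} : Set G)).index = p ^ a) :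
    Cfsg.HasNormalPComplement p G := by

  obtain ⟨P⟩ := (inferInstance : Nonempty (Sylow p G))
  rw [Cfsg.Agent.Transfer.hasNormalPComplement_iff_frobeniusCondition P]
  intro Q hQ g hg hgc q hq
  have hA : (Nat.card (Subgroup.zpowers g)).Coprime p := by rw [Nat.card_zpowers]; exact hgc
  have := le_centralizer_of_omega (Subgroup.zpowers g) hA Q (P.isPGroup'.to_le hQ) (Subgroup.zpowers_le.2 hg)
    (fun u _ hu' => fixes_omega h P (Subgroup.zpowers g) hA u hu')
  exact Subgroup.mem_centralizer_iff.1 (this (Subgroup.mem_zpowers g)) q hq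

end Cfsg.Agent.S4126
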