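import Cfsg.Statements.S1132
import Cfsg.Agent.Lib.Char.RankOneInverted

set_option autoImplicit false
open Cfsg

namespace Cfsg.Agent.S1132

/-- In the rank-one set-up (`G` finite and doubly transitive on `Ω`, `t` an involution moving `a`, `Q` normal in `G_a` with `G_a = Q D`, `Q ⊓ D = 1` for the two-point stabiliser `D = G_a ⊓ G_{t • a}`, `|Q|` even, `|D|` odd), with the action faithful and `G` containing two distinct commuting involutions: a Sylow 2-subgroup of `Q` is abelian or a Suzuki 2-group. -/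
theorem result {G Ω : Type*} [Group G] [Finite G] [MulAction G Ω] [FaithfulSMul G Ω] {a : Ω} {t : G} {Q : Subgroup G}
    (hS : Cfsg.IsRankOneSetup G Ω a t Q)
    (h2 : ∃ x y : G, x ≠ 1 ∧ y ≠ 1 ∧ x ≠ y ∧ x * x = 1 ∧ y * y = 1 ∧ x * y = y * x)
    (S : Sylow 2 ↥Q) : IsMulCommutative (S : Subgroup ↥Q) ∨ Cfsg.IsSuzukiTwoGroup ↥(S : Subgroup ↥Q) := by
  obtain ⟨k₀, hk₀, hK⟩ := Cfsg.Agent.Char.RankOne.inverted_cyclic hS h2
  refine or_iff_not_imp_left.2 fun hne => ?_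
  have hnil := Lie.RankOne.nilpotent_Q hS h2
  have hSn : (S : Subgroup ↥Q).Normal := by
    have q := (Group.isNilpotent_of_finite_tfae (G := ↥Q)).out 0 3
    rw [q] at hnil
    exact hnil 2 inferInstance S
  have hSc := S.characteristic_of_normal hSn
  have hmem : ∀ s ∈ Cfsg.involutionsIn (MulAction.stabilizer G a : Set G),
      ∃ h : s ∈ Q, (⟨s, h⟩ : ↥Q) ∈ (S : Subgroup ↥Q) := by
    intro s hs
    have hQ := Lie.RankOne.invol_mem_Q hS hs.1 hs.2.2
    refine ⟨hQ, ?_⟩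
    have hp : IsPGroup 2 ↥(Subgroup.zpowers (⟨s, hQ⟩ : ↥Q)) := by
      refine IsPGroup.of_card (n := 1) ?_
      rw [Nat.card_zpowers, pow_one]
      exact orderOf_eq_prime (Subtype.ext (by simpa [pow_two] using hs.2.2))
        (fun h => hs.2.1 (congrArg Subtype.val h))
    obtain ⟨P, hP⟩ := hp.exists_le_sylow
    obtain ⟨g, rfl⟩ := MulAction.exists_smul_eq (↥Q) S P
    rw [Sylow.smul_eq_of_normal] at hP
    exact hP (Subgroup.mem_zpowers _)
  have hN : Subgroup.zpowers k₀ ≤ Subgroup.normalizer (Q : Set G) := by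
    rw [Lie.RankOne.normalizer_Q hS]
    exact fun k hk => ((hK k).2 hk).1.1
  let ψ : ↥(Subgroup.zpowers k₀) →* MulAut ↥Q :=
    Q.normalizerMonoidHom.comp (Subgroup.inclusion hN)
  have hψ : ∀ k, ((S : Subgroup ↥Q)).map (ψ k).toMonoidHom = (S : Subgroup ↥Q) := fun k =>
    Subgroup.characteristic_iff_map_eq.1 hSc (ψ k)
  let κ : ↥(Subgroup.zpowers k₀) →* MulAut ↥(S : Subgroup ↥Q) :=
    { toFun := fun k => ((ψ k).subgroupMap (S : Subgroup ↥Q)).trans (MulEquiv.subgroupCongr (hψ k))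
      map_one' := MulEquiv.ext fun x => Subtype.ext (by
        show ψ 1 (x : ↥Q) = (x : ↥Q)
        rw [map_one]; rfl)
      map_mul' := fun k l => MulEquiv.ext fun x => Subtype.ext (by
        show ψ (k * l) (x : ↥Q) = ψ k (ψ l (x : ↥Q))
        rw [map_mul]; rfl) }
  have hκ : ∀ k x, (((κ k x : ↥(S : Subgroup ↥Q)) : ↥Q) : G) =
      (k : G) * ((x : ↥Q) : G) * (k : G)⁻¹ := fun k x => rfl
  refine ⟨inferInstance, S.isPGroup', ?_, ?_, κ.range, ?_, ?_⟩
  · by_contra h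
    push Not at h
    exact hne ⟨⟨h⟩⟩
  · obtain ⟨s, s', hs, hs', hss⟩ := Lie.RankOne.exists_two_involutions hS h2
    obtain ⟨h, hm⟩ := hmem s hs
    obtain ⟨h', hm'⟩ := hmem s' hs'
    exact ⟨⟨_, hm⟩, ⟨_, hm'⟩, fun e => hss (congrArg (fun z : ↥(S : Subgroup ↥Q) => ((z : ↥Q) : G)) e),
      fun e => hs.2.1 (congrArg (fun z : ↥(S : Subgroup ↥Q) => ((z : ↥Q) : G)) e), Subtype.ext (Subtype.ext hs.2.2),
      fun e => hs'.2.1 (congrArg (fun z : ↥(S : Subgroup ↥Q) => ((z : ↥Q) : G)) e), Subtype.ext (Subtype.ext hs'.2.2)⟩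
  · exact isCyclic_of_surjective κ.rangeRestrict κ.rangeRestrict_surjective
  · intro x y hx hx2 hy hy2
    have hI : ∀ z : ↥(S : Subgroup ↥Q), z ≠ 1 → z * z = 1 →
        ((z : ↥Q) : G) ∈ Cfsg.involutionsIn (MulAction.stabilizer G a : Set G) := fun z hz hz2 =>
      ⟨hS.le (z : ↥Q).2, fun h => hz (Subtype.ext (Subtype.ext h)),
        congrArg (fun w : ↥(S : Subgroup ↥Q) => ((w : ↥Q) : G)) hz2⟩
    obtain ⟨k, hk, hkxy⟩ := Cfsg.Agent.Char.RankOne.inverted_trans hS (hI x hx hx2) (hI y hy hy2)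
    refine ⟨κ.rangeRestrict ⟨k, (hK k).1 hk⟩, Subtype.ext (Subtype.ext ?_), ?_⟩
    · exact (hκ _ x).trans hkxy
    rintro ⟨_, l, rfl⟩ hl
    have hl' : (l : G) * ((x : ↥Q) : G) * (l : G)⁻¹ = k * ((x : ↥Q) : G) * k⁻¹ :=
      (hκ l x).symm.trans ((congrArg (fun w : ↥(S : Subgroup ↥Q) => ((w : ↥Q) : G)) hl).trans hkxy.symm)
    have hm : k⁻¹ * (l : G) = 1 := by
      by_contra hm
      have hmK := (hK _).2 (mul_mem (inv_mem ((hK k).1 hk)) l.2)
      refine hx (Subtype.ext (Subtype.ext ((Subgroup.eq_bot_iff_forall _).1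
        (Lie.RankOne.inverted_fpf hS hmK hm) _ ⟨(x : ↥Q).2,
        Subgroup.mem_centralizer_singleton_iff.2 ?_⟩)))
      have h := congrArg (fun w => k⁻¹ * w * (l : G)) hl'
      simpa [mul_assoc] using h.symm
    have hlk : l = ⟨k, (hK k).1 hk⟩ := Subtype.ext (inv_mul_eq_one.1 hm).symm
    exact Subtype.ext (congrArg κ hlk)

end Cfsg.Agent.S1132
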