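import Cfsg.Statements.S0599
import Cfsg.Agent.Lib.Transfer.Timmesfeld

set_option maxHeartbeats 1000000
set_option maxRecDepth 8000

set_option autoImplicit false
open Cfsg
open scoped commutatorElement

namespace Cfsg.Agent.S0599

/-- Replacement, with the measure. -/
theorem strong {G : Type*} [Group G] [Finite G] {p : ℕ} [Fact p.Prime] (V A : Subgroup G) (hV : Cfsg.IsElementaryAbelian p V) (hAV : A ≤ Subgroup.normalizer (V : Set G)) (hA : Cfsg.IsBestOffenderOn p V A) (U : Subgroup G) (hU : U ≤ V) : Cfsg.IsBestOffenderOn p V (A ⊓ Subgroup.centralizer ((⁅U, A⁆ : Subgroup G) : Set G)) ∧ V ⊓ Subgroup.centralizer ((A ⊓ Subgroup.centralizer ((⁅U, A⁆ : Subgroup G) : Set G) : Subgroup G) : Set G) = ⁅U, A⁆ ⊔ (V ⊓ Subgroup.centralizer (A : Set G)) ∧ (⁅V, A⁆ ≠ ⊥ → ⁅V, A ⊓ Subgroup.centralizer ((⁅U, A⁆ : Subgroup G) : Set G)⁆ ≠ ⊥) ∧ Nat.card ↥(A ⊓ Subgroup.centralizer ((⁅U, A⁆ : Subgroup G) : Set G)) * Nat.card ↥(V ⊓ Subgroup.centralizer ((A ⊓ Subgroup.centralizer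 ((⁅U, A⁆ : Subgroup G) : Set G) : Subgroup G) : Set G)) = Nat.card A * Nat.card ↥(V ⊓ Subgroup.centralizer (A : Set G)) := by
  classical
  obtain ⟨hAmax, hAcomm, hApow⟩ := hA
  letI : CommGroup V := { (inferInstance : Group V) with mul_comm := fun a b => hV.1.is_comm.comm a b }
  have hconj : ∀ a ∈ A, ∀ v ∈ V, a * v * a⁻¹ ∈ V := fun a ha v hv => (Subgroup.mem_normalizer_iff.1 (hAV ha) v).1 hv
  let T : A →* AddMonoid.End (Additive V) :=
    { toFun := fun a =>
        { toFun := fun w => Additive.ofMul ⟨(a : G) * (Additive.toMul w : V) * (a : G)⁻¹, hconj a a.2 _ (Additive.toMul w).2⟩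
          map_zero' := by
            apply Additive.toMul.injective
            exact Subtype.ext (by simp)
          map_add' := fun x y => by
            apply Additive.toMul.injective
            exact Subtype.ext (show (a : G) * ((Additive.toMul x : V) * (Additive.toMul y : V) : V) * (a : G)⁻¹ =
              (a : G) * (Additive.toMul x : V) * (a : G)⁻¹ * ((a : G) * (Additive.toMul y : V) * (a : G)⁻¹) by
              rw [Subgroup.coe_mul]; group) }
      map_one' := AddMonoidHom.ext fun w => Additive.toMul.injective (Subtype.ext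
        (show ((1 : A) : G) * ((Additive.toMul w : V) : G) * ((1 : A) : G)⁻¹ = ((Additive.toMul w : V) : G) by simp))
      map_mul' := fun a b => AddMonoidHom.ext fun w => by
        apply Additive.toMul.injective
        exact Subtype.ext (show ((a * b : A) : G) * _ * ((a * b : A) : G)⁻¹ =
          (a : G) * ((b : G) * _ * (b : G)⁻¹) * (a : G)⁻¹ by rw [Subgroup.coe_mul]; group) }
  let φ : Additive V → G := fun w => ((Additive.toMul w : V) : G)
  have hφi : Function.Injective φ := fun x y h => Additive.toMul.injective (Subtype.ext h)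
  have hφV : ∀ w, φ w ∈ V := fun w => (Additive.toMul w).2
  have hφT : ∀ (a : A) w, φ (T a w) = a * φ w * (a : G)⁻¹ := fun a w => rfl
  let im : AddSubgroup (Additive V) → Subgroup G := fun X => (AddSubgroup.toSubgroup' X).map V.subtype
  have hmem : ∀ X x, x ∈ im X ↔ ∃ w ∈ X, φ w = x := fun X x =>
    ⟨fun ⟨v, hv, e⟩ => ⟨Additive.ofMul v, hv, e⟩, fun ⟨w, hw, e⟩ => ⟨Additive.toMul w, hw, e⟩⟩
  have himfix : ∀ B : Subgroup A, im (Cfsg.Agent.Transfer.Timmesfeld.fix T B) =
      V ⊓ Subgroup.centralizer ((B.map A.subtype : Subgroup G) : Set G) := fun B => by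
    ext x
    rw [hmem]
    constructor
    · rintro ⟨w, hw, rfl⟩
      refine ⟨hφV w, Subgroup.mem_centralizer_iff.2 ?_⟩
      rintro _ ⟨b, hb, rfl⟩
      have h1 := congrArg φ (hw b hb)
      rw [hφT, mul_inv_eq_iff_eq_mul] at h1
      exact h1
    · rintro ⟨hx, hc⟩
      refine ⟨Additive.ofMul ⟨x, hx⟩, fun b hb => hφi ?_, rfl⟩
      rw [hφT, mul_inv_eq_iff_eq_mul]
      exact Subgroup.mem_centralizer_iff.1 hc b ⟨b, hb, rfl⟩
  have hcard : ∀ X, Nat.card (im X) = Nat.card X := fun X =>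
    (Subgroup.card_map_of_injective V.subtype_injective).trans (Nat.card_congr ⟨fun v => ⟨Additive.ofMul v.1, v.2⟩,
      fun w => ⟨Additive.toMul w.1, w.2⟩, fun v => rfl, fun w => rfl⟩)
  have hmeas : ∀ B : Subgroup A, Cfsg.Agent.Transfer.Timmesfeld.meas T B = Nat.card ↥(B.map A.subtype) *
      Nat.card ↥(V ⊓ Subgroup.centralizer ((B.map A.subtype : Subgroup G) : Set G)) := fun B => by
    rw [← himfix B, hcard, Subgroup.card_map_of_injective A.subtype_injective]; rfl
  have htopmap : (⊤ : Subgroup A).map A.subtype = A := by rw [← MonoidHom.range_eq_map, Subgroup.range_subtype]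
  have hmax : ∀ B : Subgroup A, Cfsg.Agent.Transfer.Timmesfeld.meas T B ≤ Cfsg.Agent.Transfer.Timmesfeld.meas T ⊤ := fun B => by
    rw [hmeas, hmeas, htopmap]; exact hAmax _ (Subgroup.map_subtype_le B)
  have hcomm : ∀ a b : A, ∀ w, T a (T b w) = T b (T a w) := fun a b w => hφi (by
    rw [hφT, hφT, hφT, hφT]
    have h1 : (b : G)⁻¹ * (a : G)⁻¹ * (b : G) * a ∈ Subgroup.centralizer (V : Set G) := by
      have := hAcomm (Subgroup.commutator_mem_commutator (A.inv_mem b.2) (A.inv_mem a.2))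
      rwa [commutatorElement_def, inv_inv, inv_inv] at this
    have h2 := Subgroup.mem_centralizer_iff.1 h1 (φ w) (hφV w)
    calc (a : G) * ((b : G) * φ w * (b : G)⁻¹) * (a : G)⁻¹
        = (a : G) * b * (φ w * ((b : G)⁻¹ * (a : G)⁻¹ * (b : G) * a)) * (a : G)⁻¹ * (b : G)⁻¹ := by group
      _ = _ := by rw [h2]; group)
  -- `s` is the finite set `U` inside `V`
  letI := Fintype.ofFinite (Additive V)
  set s : Finset (Additive V) := Finset.univ.filter fun w => φ w ∈ U with hs
  set X := Cfsg.Agent.Transfer.Timmesfeld.comm T (s : Set (Additive V)) with hX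
  have hgen : ∀ u ∈ U, ∀ a : A, (u * a * u⁻¹ * (a : G)⁻¹) = ⁅u, (a : G)⁆ := fun u _ a => rfl
  have himsup : ∀ P Q, im (P ⊔ Q) = im P ⊔ im Q := fun P Q => by
    show (AddSubgroup.toSubgroup' (P ⊔ Q)).map V.subtype = _
    rw [OrderIso.map_sup, Subgroup.map_sup]
  have himX : im X = ⁅U, A⁆ := by
    refine le_antisymm ?_ (Subgroup.commutator_le.2 fun u hu a ha => (hmem _ _).2
      ⟨Additive.ofMul ⟨u, hU hu⟩ - T ⟨a, ha⟩ (Additive.ofMul ⟨u, hU hu⟩),
        AddSubgroup.subset_closure ⟨_, by simp [hs, φ, hu], ⟨a, ha⟩, rfl⟩, ?_⟩)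
    · intro x hx
      obtain ⟨w, hw, rfl⟩ := (hmem X x).1 hx
      refine AddSubgroup.closure_induction (p := fun w _ => φ w ∈ ⁅U, A⁆) ?_ (one_mem _)
        (fun x y _ _ hx hy => mul_mem hx hy) (fun x _ hx => inv_mem hx) hw
      rintro _ ⟨u, hu, a, rfl⟩
      have huU : φ u ∈ U := by simpa [hs] using hu
      have e : φ (u - T a u) = ⁅φ u, (a : G)⁆ := by
        show ((Additive.toMul u / Additive.toMul (T a u) : V) : G) = _
        rw [Subgroup.coe_div, commutatorElement_def]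
        show φ u / φ (T a u) = _
        rw [hφT, div_eq_mul_inv]; group
      rw [e]
      exact Subgroup.commutator_mem_commutator huU a.2
    · show ((⟨u, hU hu⟩ / Additive.toMul (T ⟨a, ha⟩ (Additive.ofMul ⟨u, hU hu⟩)) : V) : G) = _
      rw [Subgroup.coe_div, commutatorElement_def]
      show u / φ (T ⟨a, ha⟩ (Additive.ofMul ⟨u, hU hu⟩)) = _
      rw [hφT, div_eq_mul_inv]
      show u * (a * u * a⁻¹)⁻¹ = _
      group
  have hstab : (Cfsg.Agent.Transfer.Timmesfeld.stab T X).map A.subtype =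
      A ⊓ Subgroup.centralizer ((im X : Subgroup G) : Set G) := by
    ext x
    constructor
    · rintro ⟨b, hb, rfl⟩
      refine ⟨b.2, Subgroup.mem_centralizer_iff.2 fun y hy => ?_⟩
      obtain ⟨w, hw, rfl⟩ := (hmem X y).1 hy
      have h1 := congrArg φ (hb w hw)
      rw [hφT, mul_inv_eq_iff_eq_mul] at h1
      exact h1.symm
    · rintro ⟨hx, hc⟩
      refine ⟨⟨x, hx⟩, fun w hw => hφi ?_, rfl⟩
      rw [hφT, mul_inv_eq_iff_eq_mul]
      exact (Subgroup.mem_centralizer_iff.1 hc _ ((hmem X _).2 ⟨w, hw, rfl⟩)).symm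
  rw [himX] at hstab
  obtain ⟨hm, hfix⟩ := Cfsg.Agent.Transfer.Timmesfeld.replacement T hcomm hmax s
  rw [← hX] at hm hfix
  set A' := A ⊓ Subgroup.centralizer ((⁅U, A⁆ : Subgroup G) : Set G) with hA'
  rw [hmeas, hmeas, hstab, htopmap] at hm
  have hfix' : V ⊓ Subgroup.centralizer (A' : Set G) = ⁅U, A⁆ ⊔ (V ⊓ Subgroup.centralizer (A : Set G)) := by
    have h1 := congrArg im hfix
    rw [himfix, hstab] at h1
    rw [h1, himsup, himX, himfix, htopmap]
  refine ⟨⟨fun B hB => ?_, ?_, fun a ha => hApow a ha.1⟩, hfix', fun hne h0 => hne ?_, hm⟩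
  · rw [hm]; exact hAmax B (hB.trans inf_le_left)
  · exact (Subgroup.commutator_mono inf_le_left inf_le_left).trans hAcomm
  · rw [Subgroup.commutator_eq_bot_iff_le_centralizer] at h0
    rw [inf_eq_left.2 h0] at hfix'
    have htop : Cfsg.Agent.Transfer.Timmesfeld.comm T Set.univ ⊔ Cfsg.Agent.Transfer.Timmesfeld.fix T ⊤ = ⊤ := by
      refine eq_top_iff.2 fun w _ => ?_
      have h2 : φ w ∈ im (X ⊔ Cfsg.Agent.Transfer.Timmesfeld.fix T ⊤) := by
        rw [himsup, himX, himfix, htopmap, ← hfix']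
        exact hφV w
      obtain ⟨w', hw', e⟩ := (hmem _ _).1 h2
      rw [← hφi e]
      have hle : X ≤ Cfsg.Agent.Transfer.Timmesfeld.comm T Set.univ := AddSubgroup.closure_mono
        (fun x ⟨u, _, a, e⟩ => ⟨u, trivial, a, e⟩)
      exact sup_le_sup_right hle _ hw'
    have htriv := Cfsg.Agent.Transfer.Timmesfeld.trivial_of_sup_eq_top T hcomm (p := p)
      (fun w => hφi (by
        show ((Additive.toMul w ^ p : V) : G) = 1
        rw [Subgroup.coe_pow]; exact hV.2 _ (hφV w)))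
      (fun a => by
        rw [← map_pow]
        refine AddMonoidHom.ext fun w => hφi ?_
        have h1 := Subgroup.mem_centralizer_iff.1 (hApow a a.2) (φ w) (hφV w)
        show ((a ^ p : A) : G) * φ w * ((a ^ p : A) : G)⁻¹ = φ w
        rw [Subgroup.coe_pow, ← h1, mul_inv_cancel_right]) htop
    rw [Subgroup.commutator_eq_bot_iff_le_centralizer]
    intro v hv
    refine Subgroup.mem_centralizer_iff.2 fun a ha => ?_
    have h1 := congrArg φ (htriv ⟨a, ha⟩ (Additive.ofMul ⟨v, hv⟩))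
    rw [hφT, mul_inv_eq_iff_eq_mul] at h1
    exact h1

/-- The Timmesfeld replacement Theorem: replacing a best offender A by C_A([U, A]) gives a best offender with fixed points [U, A]C_V(A), still nontrivial on V if A was. -/
theorem result {G : Type*} [Group G] [Finite G] {p : ℕ} [Fact p.Prime] (V A : Subgroup G) (hV : Cfsg.IsElementaryAbelian p V) (hAV : A ≤ Subgroup.normalizer (V : Set G)) (hA : Cfsg.IsBestOffenderOn p V A) (U : Subgroup G) (hU : U ≤ V) : Cfsg.IsBestOffenderOn p V (A ⊓ Subgroup.centralizer ((⁅U, A⁆ : Subgroup G) : Set G)) ∧ V ⊓ Subgroup.centralizer ((A ⊓ Subgroup.centralizer ((⁅U, A⁆ : Subgroup G) : Set G) : Subgroup G) : Set G) = ⁅U, A⁆ ⊔ (V ⊓ Subgroup.centralizer (A : Set G)) ∧ (⁅V, A⁆ ≠ ⊥ → ⁅V, A ⊓ Subgroup.centralizer ((⁅U, A⁆ : Subgroup G) : Set G)⁆ ≠ ⊥) := by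
  obtain ⟨h1, h2, h3, -⟩ := strong V A hV hAV hA U hU
  exact ⟨h1, h2, h3⟩

end Cfsg.Agent.S0599
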