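import Cfsg.Statements.S0622
import Cfsg.Agent.Lib.Transfer.Thompson
import Mathlib

set_option maxHeartbeats 1000000
set_option maxRecDepth 8000

set_option autoImplicit false
universe u
open Cfsg

namespace Cfsg.Agent.S0622

theorem map_thompson {S S' : Type u} [Group S] [Group S'] [Finite S] (p : ℕ) (η : S ≃* S') :
    (Cfsg.thompsonSubgroup p S).map η.toMonoidHom = Cfsg.thompsonSubgroup p S' := by
  haveI : Finite S' := Finite.of_equiv S η.toEquiv
  refine le_antisymm ?_ ?_
  · refine Subgroup.map_le_iff_le_comap.2 (sSup_le fun A hA => ?_)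
    exact Subgroup.map_le_iff_le_comap.1 (le_sSup (Cfsg.Agent.Transfer.Thompson.map_equiv_mem η hA))
  · refine sSup_le fun A hA x hx => ⟨η.symm x, ?_, η.apply_symm_apply x⟩
    exact (le_sSup (Cfsg.Agent.Transfer.Thompson.map_equiv_mem η.symm hA) : _ ≤ Cfsg.thompsonSubgroup p S)
      (Subgroup.mem_map_of_mem η.symm.toMonoidHom hx)

theorem map_omegaOne {S S' : Type u} [Group S] [Group S'] (p : ℕ) (η : S ≃* S') (H : Subgroup S) :
    (Cfsg.omegaOne p H).map η.toMonoidHom = Cfsg.omegaOne p (H.map η.toMonoidHom) := by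
  unfold Cfsg.omegaOne
  rw [MonoidHom.map_closure]
  congr 1
  ext y
  constructor
  · rintro ⟨x, ⟨hx, hxp⟩, rfl⟩
    exact ⟨Subgroup.mem_map_of_mem _ hx, by rw [← map_pow, hxp, map_one]⟩
  · rintro ⟨⟨x, hx, rfl⟩, hxp⟩
    exact ⟨x, ⟨hx, η.injective (by rw [map_one]; exact (map_pow η.toMonoidHom x p).trans hxp)⟩, rfl⟩

theorem map_center' {S S' : Type u} [Group S] [Group S'] (η : S ≃* S') :
    (Subgroup.center S).map η.toMonoidHom = Subgroup.center S' := by
  ext y
  constructor
  · rintro ⟨x, hx, rfl⟩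
    refine Subgroup.mem_center_iff.2 fun z => ?_
    obtain ⟨w, rfl⟩ := η.surjective z
    show η w * η x = η x * η w
    rw [← map_mul, ← map_mul, Subgroup.mem_center_iff.1 hx w]
  · intro hy
    refine ⟨η.symm y, Subgroup.mem_center_iff.2 fun w => η.injective ?_, η.apply_symm_apply y⟩
    rw [map_mul, map_mul, η.apply_symm_apply, Subgroup.mem_center_iff.1 hy]

theorem map_omegaCenter {S S' : Type u} [Group S] [Group S'] [Finite S] (p : ℕ) (η : S ≃* S') :
    (Cfsg.omegaCenterThompson p S).map η.toMonoidHom = Cfsg.omegaCenterThompson p S' := by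
  unfold Cfsg.omegaCenterThompson
  rw [map_omegaOne, Subgroup.map_inf _ _ η.toMonoidHom η.injective, map_thompson]
  congr 2
  ext y
  rw [Subgroup.mem_map_equiv, Subgroup.mem_centralizer_iff, Subgroup.mem_centralizer_iff, ← map_thompson p η]
  constructor
  · rintro h z ⟨w, hw, rfl⟩
    have := congrArg η (h w hw)
    rwa [map_mul, map_mul, η.apply_symm_apply] at this
  · intro h w hw
    apply η.injective
    rw [map_mul, map_mul, η.apply_symm_apply]
    exact h _ ⟨w, hw, rfl⟩

theorem family_mem {S : Type u} [Group S] [Finite S] (p : ℕ) :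
    Cfsg.omegaCenterThompson p S ∈ {W : Subgroup S | Cfsg.omegaOne p (Subgroup.center S) ≤ W ∧
        ∀ (H : Type u) [Group H] (τ : S →* H), Cfsg.IsStableEmbedding p τ → (W.map τ).Normal} := by
  refine ⟨(Subgroup.closure_le _).2 fun x hx => Subgroup.subset_closure ⟨⟨?_, ?_⟩, hx.2⟩, ?_⟩
  · obtain ⟨A, hA⟩ := Cfsg.Agent.Transfer.Thompson.exists_max (G := S) (p := p)
    exact Cfsg.Agent.Transfer.Thompson.le_thompsonSubgroup hA
      (Cfsg.Agent.Transfer.Thompson.mem_of_commute hA hx.2 fun a _ => (Subgroup.mem_center_iff.1 hx.1 a).symm)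
  · exact Subgroup.center_le_centralizer _ hx.1
  · intro H _ τ hτ
    obtain ⟨hinj, -, -, -, hJn, -⟩ := hτ
    refine ⟨fun z hz g => ?_⟩
    obtain ⟨x, hx, rfl⟩ := hz
    show g * τ x * g⁻¹ ∈ (Cfsg.omegaCenterThompson p S).map τ
    suffices hle : Cfsg.omegaCenterThompson p S ≤
        (((Cfsg.omegaCenterThompson p S).map τ).comap (MulAut.conj g).toMonoidHom).comap τ from hle hx
    refine (Subgroup.closure_le _).2 fun x hx => ?_
    obtain ⟨y, hy, he⟩ := hJn.conj_mem _ (Subgroup.mem_map_of_mem τ hx.1.1) g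
    refine ⟨y, Subgroup.subset_closure ⟨⟨hy, Subgroup.mem_centralizer_iff.2 fun j hj => hinj ?_⟩, hinj ?_⟩, he⟩
    · obtain ⟨j', hj', he'⟩ := hJn.conj_mem _ (Subgroup.mem_map_of_mem τ hj) g⁻¹
      have h2 : j' * x = x * j' := Subgroup.mem_centralizer_iff.1 hx.1.2 j' hj'
      have h3 : τ j = g * τ j' * g⁻¹ := by rw [he']; group
      rw [map_mul, map_mul, he, h3]
      calc g * τ j' * g⁻¹ * (g * τ x * g⁻¹) = g * τ (j' * x) * g⁻¹ := by rw [map_mul]; group
        _ = _ := by rw [h2, map_mul]; group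
    · rw [map_pow, he, conj_pow, ← map_pow, hx.2, map_one, mul_one, mul_inv_cancel]

theorem map_le_of_equiv {S S' : Type u} [Group S] [Group S'] [Finite S] (p : ℕ) (η : S ≃* S') :
    Cfsg.stableNormalClosure p S' ≤ (Cfsg.stableNormalClosure p S).map η.toMonoidHom := by
  refine sInf_le ⟨?_, ?_⟩
  · rw [← map_center' η, ← map_omegaOne]
    exact Subgroup.map_mono (le_sInf fun W hW => hW.1)
  · intro H _ τ hτ
    obtain ⟨hinj, hfin, ⟨P, hP⟩, hc, hJn, hst⟩ := hτ
    rw [Subgroup.map_map]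
    set σ := τ.comp η.toMonoidHom with hσ
    have hσst : Cfsg.IsStableEmbedding p σ := by
      refine ⟨hinj.comp η.injective, hfin, ⟨P, ?_⟩, hc, ?_, fun V _ hV => hst V ?_⟩
      · rw [hP, hσ, MonoidHom.range_comp, MonoidHom.range_eq_top.2 (show Function.Surjective η.toMonoidHom from η.surjective), ← MonoidHom.range_eq_map]
      · rw [hσ, ← Subgroup.map_map, map_thompson]; exact hJn
      · rw [hσ, ← Subgroup.map_map, map_omegaCenter] at hV; exact hV
    have hσinj : Function.Injective σ := hσst.1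
    refine ⟨fun z hz g => ?_⟩
    obtain ⟨x, hx, rfl⟩ := hz
    have hW₀ := family_mem (S := S) p
    obtain ⟨y, hy, he⟩ := (hW₀.2 H σ hσst).conj_mem _ (Subgroup.mem_map_of_mem σ ((sInf_le hW₀ : Cfsg.stableNormalClosure p S ≤ Cfsg.omegaCenterThompson p S) hx)) g
    refine ⟨y, Subgroup.mem_sInf.2 fun W hW => ?_, he⟩
    obtain ⟨y', hy', he'⟩ := (hW.2 H σ hσst).conj_mem _ (Subgroup.mem_map_of_mem σ ((sInf_le hW : Cfsg.stableNormalClosure p S ≤ W) hx)) g
    exact (hσinj (he'.trans he.symm) : y' = y) ▸ hy'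


/-- Basic properties of the stable normal closure W(S) of Ω₁(Z(S)) in a finite p-group: characteristic, squeezed between Ω₁(Z(S)) and Ω₁(Z(J(S))), nontrivial for S ≠ 1, and transported by group isomorphisms. -/
theorem result {S : Type u} [Group S] [Finite S] {p : ℕ} [Fact p.Prime] (hS : IsPGroup p S) : (Cfsg.stableNormalClosure p S).Characteristic ∧ Cfsg.omegaOne p (Subgroup.center S) ≤ Cfsg.stableNormalClosure p S ∧ Cfsg.stableNormalClosure p S ≤ Cfsg.omegaCenterThompson p S ∧ (Nontrivial S → Cfsg.stableNormalClosure p S ≠ ⊥) ∧ ∀ (S' : Type u) [Group S'] (η : S ≃* S'), (Cfsg.stableNormalClosure p S).map η.toMonoidHom = Cfsg.stableNormalClosure p S' := by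

  haveI := hS
  have hZle : Cfsg.omegaOne p (Subgroup.center S) ≤ Cfsg.stableNormalClosure p S := le_sInf fun W hW => hW.1
  have heq : ∀ (S' : Type u) [Group S'] (η : S ≃* S'),
      (Cfsg.stableNormalClosure p S).map η.toMonoidHom = Cfsg.stableNormalClosure p S' := fun S' _ η => by
    haveI : Finite S' := Finite.of_equiv S η.toEquiv
    refine le_antisymm ?_ (map_le_of_equiv p η)
    refine (Subgroup.map_mono (f := η.toMonoidHom) (map_le_of_equiv p η.symm)).trans ?_
    rintro _ ⟨_, ⟨y, hy, rfl⟩, rfl⟩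
    show η (η.symm y) ∈ _
    rwa [η.apply_symm_apply]
  refine ⟨Subgroup.characteristic_iff_map_eq.2 fun φ => heq S φ, hZle, sInf_le (family_mem p), ?_, heq⟩
  intro _ hbot
  rw [hbot, le_bot_iff] at hZle
  haveI := hS.center_nontrivial
  have hdvd : p ∣ Nat.card (Subgroup.center S) := by
    obtain ⟨k, hk⟩ := IsPGroup.iff_card.1 (hS.to_subgroup (Subgroup.center S))
    rw [hk]
    refine dvd_pow_self p fun h => ?_
    rw [h, pow_zero] at hk
    exact (Finite.one_lt_card).ne' hk
  obtain ⟨x, hx⟩ := exists_prime_orderOf_dvd_card' p hdvd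
  have h1 : (x : S) ∈ Cfsg.omegaOne p (Subgroup.center S) :=
    Subgroup.subset_closure ⟨x.2, by rw [← Subgroup.coe_pow, ← hx, pow_orderOf_eq_one, Subgroup.coe_one]⟩
  rw [hZle, Subgroup.mem_bot] at h1
  rw [show x = 1 from Subtype.ext h1, orderOf_one] at hx
  exact (Fact.out : p.Prime).ne_one hx.symm

end Cfsg.Agent.S0622
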