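import Cfsg.Statements.S0208
import Mathlib
import Cfsg.Agent.Lib.Invol.Basic
-- import your own Cfsg.Agent.* helpers here

set_option autoImplicit false
open Cfsg

namespace Cfsg.Agent.S0208

/-- If x, y are involutions and xy has odd order, then some element of the subgroup generated by x and y conjugates x to y. -/
theorem result {G : Type*} [Group G] [Finite G] (x y : G) (hx : orderOf x = 2) (hy : orderOf y = 2) (hodd : Odd (orderOf (x * y))) : ∃ d ∈ Subgroup.closure ({x, y} : Set G), d * x * d⁻¹ = y := by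
  obtain ⟨m, hm⟩ := hodd
  refine ⟨(x * y) ^ (m : ℤ), Invol.zpow_mem_closure_pair _, ?_⟩
  conv_rhs => rw [Invol.y_eq' hx hy]
  rw [← zpow_neg, mul_assoc, Invol.mul_zpow_comm hx hy, neg_neg, ← mul_assoc, ← zpow_add]
  congr 1
  rw [← orderOf_dvd_sub_iff_zpow_eq_zpow, hm]
  exact ⟨1, by push_cast; ring⟩

end Cfsg.Agent.S0208
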