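import Cfsg.Statements.S0213
import Mathlib
import Cfsg.Agent.Lib.Invol.Sylow
import Cfsg.Agent.S0208
-- import your own Cfsg.Agent.* helpers here

set_option autoImplicit false
open Cfsg

namespace Cfsg.Agent.S0213

/-- Thompson Order Formula, two-class case: if every involution of the finite group G is conjugate to exactly one of the non-conjugate involutions x₁, x₂, and nᵢ is the number of pairs (u, v) with u conjugate to x₁, v conjugate to x₂ and xᵢ in the cyclic group generated by uv, then |G| = |C(x₂)| n₁ + |C(x₁)| n₂. -/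
theorem result {G : Type*} [Group G] [Finite G] (x₁ x₂ : G) (h₁ : orderOf x₁ = 2) (h₂ : orderOf x₂ = 2) (hnc : ¬ IsConj x₁ x₂) (hall : ∀ t : G, orderOf t = 2 → IsConj x₁ t ∨ IsConj x₂ t) : Nat.card G = Nat.card (Subgroup.centralizer ({x₂} : Set G)) * Nat.card {p : G × G // IsConj x₁ p.1 ∧ IsConj x₂ p.2 ∧ x₁ ∈ Subgroup.zpowers (p.1 * p.2)} + Nat.card (Subgroup.centralizer ({x₁} : Set G)) * Nat.card {p : G × G // IsConj x₁ p.1 ∧ IsConj x₂ p.2 ∧ x₂ ∈ Subgroup.zpowers (p.1 * p.2)} := by
  classical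
  have := Fintype.ofFinite G
  let K : G → Finset G := fun x => Finset.univ.filter fun y => IsConj x y
  let n : G → ℕ := fun z => ((K x₁ ×ˢ K x₂).filter fun q => z ∈ Subgroup.zpowers (q.1 * q.2)).card
  have hord : ∀ {a y : G}, orderOf a = 2 → IsConj a y → orderOf y = 2 :=
    fun ha h => by rw [← Invol.orderOf_eq_of_isConj h, ha]
  have hpair : ∀ z, Nat.card {p : G × G // IsConj x₁ p.1 ∧ IsConj x₂ p.2 ∧ z ∈ Subgroup.zpowers (p.1 * p.2)} = n z := by
    intro z
    rw [Nat.card_eq_fintype_card, Fintype.card_subtype]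
    congr 1
    ext q
    simp [K, and_assoc]
  rw [hpair, hpair]
  -- the counting function is a class function
  have hinv : ∀ (g z : G), n (g * z * g⁻¹) = n z := by
    intro g z
    refine (Finset.card_equiv ((MulAut.conj g).toEquiv.prodCongr (MulAut.conj g).toEquiv) fun q => ?_).symm
    have hmem : z ∈ Subgroup.zpowers (q.1 * q.2) ↔
        g * z * g⁻¹ ∈ Subgroup.zpowers (g * q.1 * g⁻¹ * (g * q.2 * g⁻¹)) := by
      have e : g * q.1 * g⁻¹ * (g * q.2 * g⁻¹) = g * (q.1 * q.2) * g⁻¹ := by group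
      rw [e, Subgroup.mem_zpowers_iff, Subgroup.mem_zpowers_iff]
      refine exists_congr fun k => ?_
      rw [conj_zpow, mul_left_inj, mul_right_inj]
    have hc : ∀ x y : G, IsConj x (g * y * g⁻¹) ↔ IsConj x y := fun x y =>
      ⟨fun h => h.trans (isConj_iff.mpr ⟨g, rfl⟩).symm, fun h => h.trans (isConj_iff.mpr ⟨g, rfl⟩)⟩
    simp only [K, Finset.mem_filter, Finset.mem_product, Finset.mem_univ, true_and, Equiv.prodCongr_apply, Prod.map, MulEquiv.toEquiv_eq_coe, EquivLike.coe_coe, MulAut.conj_apply, hc, hmem]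
  -- each pair determines a unique involution
  let f : G × G → G := fun q => (q.1 * q.2) ^ (orderOf (q.1 * q.2) / 2)
  have hf : ∀ q ∈ K x₁ ×ˢ K x₂, orderOf (f q) = 2 ∧ ∀ z, orderOf z = 2 →
      (z ∈ Subgroup.zpowers (q.1 * q.2) ↔ f q = z) := by
    intro q hq
    obtain ⟨hq1, hq2⟩ := Finset.mem_product.mp hq
    replace hq1 : IsConj x₁ q.1 := (Finset.mem_filter.mp hq1).2
    replace hq2 : IsConj x₂ q.2 := (Finset.mem_filter.mp hq2).2
    have hev : Even (orderOf (q.1 * q.2)) := by
      rw [← Nat.not_odd_iff_even]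
      intro ho
      obtain ⟨d, -, hd⟩ := S0208.result q.1 q.2 (hord h₁ hq1) (hord h₂ hq2) ho
      exact hnc ((hq1.trans (isConj_iff.mpr ⟨d, hd⟩)).trans hq2.symm)
    obtain ⟨c, hc⟩ := hev
    have hpos := orderOf_pos (q.1 * q.2)
    have hfo : orderOf (f q) = 2 := by
      have hdiv : orderOf (q.1 * q.2) / 2 = c := by omega
      change orderOf ((q.1 * q.2) ^ (orderOf (q.1 * q.2) / 2)) = 2
      rw [hdiv, orderOf_pow' _ (by omega : c ≠ 0), hc, ← two_mul, Nat.gcd_mul_left_left,
        Nat.mul_div_cancel _ (by omega)]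
    refine ⟨hfo, fun z hz => ⟨fun hmem => ?_, fun h => h ▸ Subgroup.npow_mem_zpowers _ _⟩⟩
    have := Invol.involution_unique_of_isCyclic (G := Subgroup.zpowers (q.1 * q.2))
      (x := ⟨f q, Subgroup.npow_mem_zpowers _ _⟩) (y := ⟨z, hmem⟩)
      (by rw [Subgroup.orderOf_mk, hfo]) (by rw [Subgroup.orderOf_mk, hz])
    exact congrArg Subtype.val this
  have hdisj : Disjoint (K x₁) (K x₂) := by
    rw [Finset.disjoint_left]
    intro y hy1 hy2
    exact hnc ((Finset.mem_filter.mp hy1).2.trans (Finset.mem_filter.mp hy2).2.symm)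
  have hmain : (K x₁).card * (K x₂).card = (K x₁).card * n x₁ + (K x₂).card * n x₂ := by
    rw [← Finset.card_product, Finset.card_eq_sum_card_fiberwise (f := f) (t := K x₁ ∪ K x₂)
      (fun q hq => by
        rcases hall _ (hf q hq).1 with h | h
        · exact Finset.mem_union_left _ (Finset.mem_filter.mpr ⟨Finset.mem_univ _, h⟩)
        · exact Finset.mem_union_right _ (Finset.mem_filter.mpr ⟨Finset.mem_univ _, h⟩)),
      Finset.sum_union hdisj]
    have key : ∀ x, orderOf x = 2 → ∀ y ∈ K x,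
        ((K x₁ ×ˢ K x₂).filter fun q => f q = y).card = n x := by
      intro x hx y hy
      have hxy := (Finset.mem_filter.mp hy).2
      have : ((K x₁ ×ˢ K x₂).filter fun q => f q = y).card = n y := by
        refine congrArg Finset.card (Finset.filter_congr fun q hq => ?_)
        exact ((hf q hq).2 y (hord hx hxy)).symm
      rw [this]
      obtain ⟨g, rfl⟩ := isConj_iff.mp hxy
      exact hinv g x
    rw [Finset.sum_congr rfl (key x₁ h₁), Finset.sum_congr rfl (key x₂ h₂), Finset.sum_const,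
      Finset.sum_const, smul_eq_mul, smul_eq_mul]
  have hclass : ∀ x : G, (K x).card * Nat.card (Subgroup.centralizer ({x} : Set G)) = Nat.card G := by
    intro x
    have h1 : (K x).card = Nat.card (MulAction.orbit (ConjAct G) x) := by
      rw [← Fintype.card_coe, ← Nat.card_eq_fintype_card]
      refine Nat.card_congr (Equiv.subtypeEquivRight fun y => ?_)
      simp only [K, Finset.mem_filter, Finset.mem_univ, true_and]
      rw [ConjAct.mem_orbit_conjAct]
      exact ⟨IsConj.symm, IsConj.symm⟩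
    have h2 : Nat.card (Subgroup.centralizer ({x} : Set G)) = Nat.card (MulAction.stabilizer (ConjAct G) x) := by
      refine Nat.card_congr (Equiv.subtypeEquiv ConjAct.toConjAct.toEquiv fun y => ?_)
      rw [Subgroup.mem_centralizer_singleton_iff, MulAction.mem_stabilizer_iff]
      change _ ↔ ConjAct.toConjAct y • x = x
      rw [ConjAct.toConjAct_smul, mul_inv_eq_iff_eq_mul]
    rw [h1, h2, ← Nat.card_prod, Nat.card_congr (MulAction.orbitProdStabilizerEquivGroup (ConjAct G) x)]
    exact Nat.card_congr ConjAct.toConjAct.toEquiv.symm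
  have e1 := hclass x₁
  have e2 := hclass x₂
  set c₁ := Nat.card (Subgroup.centralizer ({x₁} : Set G))
  set c₂ := Nat.card (Subgroup.centralizer ({x₂} : Set G))
  set k₁ := (K x₁).card
  set k₂ := (K x₂).card
  have hg0 : 0 < Nat.card G := Nat.card_pos
  refine Nat.eq_of_mul_eq_mul_left hg0 ?_
  calc Nat.card G * Nat.card G = (k₁ * c₁) * (k₂ * c₂) := by rw [e1, e2]
    _ = (k₁ * k₂) * (c₁ * c₂) := by ring
    _ = (k₁ * n x₁ + k₂ * n x₂) * (c₁ * c₂) := by rw [hmain]
    _ = (k₁ * c₁) * (c₂ * n x₁) + (k₂ * c₂) * (c₁ * n x₂) := by ring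
    _ = Nat.card G * (c₂ * n x₁ + c₁ * n x₂) := by rw [e1, e2]; ring

end Cfsg.Agent.S0213
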