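import Cfsg.Statements.S3277
import Cfsg.Agent.Lib.Invol.V4Centralizer
import Cfsg.Agent.Lib.Invol.V4Simple
import Cfsg.Agent.Lib.Block.KleinOrder
import Cfsg.Agent.Lib.Fus.SmallSimple

set_option autoImplicit false
open Cfsg

namespace Cfsg.Agent.S3277

set_option linter.style.haveILetI false in
/-- Let G be a finite group containing an involution whose centralizer is elementary abelian of order 4. If G has no normal 2-complement and no normal elementary abelian 2-subgroup of order 2 or 4, then G is isomorphic to the alternating group of degree 5 (that is, to PSL(2, 5)). -/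
theorem result {G : Type*} [Group G] [Finite G] (x : G) (hx : orderOf x = 2)
    (hC4 : Nat.card ↥(Subgroup.centralizer ({x} : Set G)) = 4) (hCe : ∀ c ∈ Subgroup.centralizer ({x} : Set G), c ^ 2 = 1)
    (hnc : ¬ Cfsg.HasNormalPComplement 2 G)
    (hne : ∀ E : Subgroup G, E.Normal → Cfsg.IsElementaryAbelian 2 E → Nat.card ↥E ≠ 2 ∧ Nat.card ↥E ≠ 4) :
    Nonempty (G ≃* ↥(alternatingGroup (Fin 5))) := by
  haveI := Fact.mk Nat.prime_two
  have hexp : ∀ c ∈ Subgroup.centralizer ({x} : Set G), c * c = 1 := fun c hc => by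
    rw [← pow_two]; exact hCe c hc
  obtain ⟨S, hS⟩ := (IsPGroup.of_card (n := 2) (by rw [hC4]; rfl) :
    IsPGroup 2 (Subgroup.centralizer ({x} : Set G))).exists_le_sylow
  have h4le := Subgroup.card_le_of_le hS
  rcases eq_or_lt_of_le (hC4 ▸ h4le) with h4 | h4
  · -- the centralizer is a Sylow subgroup
    have hGc : Nat.card G = 4 * (S : Subgroup G).index := by rw [h4, Subgroup.card_mul_index]
    have hodd : Odd (S : Subgroup G).index :=
      Nat.odd_iff.2 (Nat.two_dvd_ne_zero.1 S.not_dvd_index)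
    have hnc' : ¬ ∃ N : Subgroup G, N.Normal ∧ Nat.card N = (S : Subgroup G).index := by
      rintro ⟨N, hN, hNc⟩
      refine hnc (Transfer.hasNormalPComplement_iff_exists.2
        ⟨N, hN, hNc ▸ S.not_dvd_index, 2, ?_⟩)
      have h := N.card_mul_index
      rw [hNc, hGc, mul_comm 4] at h
      exact Nat.eq_of_mul_eq_mul_left (Nat.pos_of_ne_zero Subgroup.index_ne_zero_of_finite) h
    obtain ⟨-, hone⟩ := Block.KleinOrder.setup_of_no_complement S hodd hGc hnc'
    have hone' : ∀ u : G, orderOf u = 2 → IsConj x u := fun u hu => hone x u hx hu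
    rcases Cfsg.Agent.Invol.V4Order.order_eq x hx hC4 hexp hone' with h | h
    · exfalso
      refine (hne _ (Cfsg.Agent.Invol.V4Order.normal_of_twelve hx hC4 hexp hone' h)
        ⟨⟨⟨fun a b => ?_⟩⟩, hCe⟩).2 hC4
      have hi : ∀ c : Subgroup.centralizer ({x} : Set G), c⁻¹ = c := fun c =>
        inv_eq_of_mul_eq_one_right (Subtype.ext (hexp c c.2))
      calc a * b = (a * b)⁻¹ := (hi _).symm
        _ = b * a := by rw [mul_inv_rev, hi, hi]
    · haveI := Cfsg.Agent.Invol.V4Order.simple_of_sixty hx hC4 hexp hone' h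
      exact Cfsg.Agent.Fus.alternating_five_of_card h
  · obtain ⟨M, hMn, hM, hxM⟩ := Cfsg.Agent.Invol.V4Cent.exists_index_two x hx S hC4 hS h4
    haveI := hMn
    exact (Cfsg.Agent.Invol.V4Cent.false_of_index_two x hx hC4 hexp hnc hne M hM hxM).elim

end Cfsg.Agent.S3277
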