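import Cfsg.Statements.S5938
import Cfsg.Agent.Lib.Classical.DicksonOvergroups
-- import your own Cfsg.Agent.* helpers here

set_option autoImplicit false
open Cfsg

namespace Cfsg.Agent.S5938
open Cfsg.Agent.Dickson Cfsg.Agent.PSL2Spec

/-- Let p be a prime with p ≡ ±1 (mod 8) and F a field with p elements. Then PSL_2(F) has a maximal subgroup isomorphic to the symmetric group S_4. -/
theorem result {F : Type*} [Field F] [Fintype F] (p : ℕ) [Fact p.Prime] (hF : Fintype.card F = p) (hp : p % 8 = 1 ∨ p % 8 = 7) : ∃ H : Subgroup (Matrix.ProjectiveSpecialLinearGroup (Fin 2) F), IsCoatom H ∧ Nonempty (H ≃* Equiv.Perm (Fin 4)) := by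
  classical
  haveI : CharP F p := charP_of_prime_card hF
  have hodd : Odd (Fintype.card F) := by rw [hF, Nat.odd_iff]; omega
  have h5 : 5 ≤ Fintype.card F := by rw [hF]; have := (Fact.out : p.Prime).two_le; omega
  obtain ⟨x, y, hxy⟩ := exists_quat (F := F) hodd
  obtain ⟨t, A, -, -, -, hA, -, ⟨i⟩, hS⟩ := exists_alt4 hodd hxy
  have h24 := (card_normalizer_klein p hodd hxy).1 (hF ▸ hp)
  obtain ⟨j⟩ := hS h24
  refine ⟨_, isCoatom_of_forall (klein_le_proper hodd h5 hxy) fun M hM hle => ?_, ⟨j⟩⟩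
  have hg : Function.Injective (A.subtype.comp i.symm.toMonoidHom) := A.subtype_injective.comp i.symm.injective
  have hgM : (A.subtype.comp i.symm.toMonoidHom).range ≤ M := by
    rintro _ ⟨s, rfl⟩
    exact hle (hA (i.symm s).2)
  have hd := Subgroup.card_dvd_of_le hle
  rw [h24] at hd
  rcases alt4_cases p hodd h5 hM _ hg hgM with ⟨-, -, -, hc⟩ | ⟨-, -, hc⟩ | ⟨-, -, hc⟩ |
    ⟨L, r, z, hr, hc, h3, -⟩
  · rw [hc] at hd; norm_num at hd
  · exact (Subgroup.eq_of_le_of_card_ge hle (by rw [hc, h24])).symm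
  · rw [hc] at hd; norm_num at hd
  · exfalso
    rw [hF] at hc
    exact absurd (hc ▸ (Fact.out : p.Prime)) (Nat.Prime.not_prime_pow hr.two_le)

end Cfsg.Agent.S5938
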