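import Cfsg.Statements.S4089
import Mathlib
import Cfsg.Agent.Lib.Grp.Subnormal
import Cfsg.Agent.Lib.Grp.Baer
import Cfsg.Agent.Lib.Char.PairLE

set_option maxHeartbeats 1000000
set_option maxRecDepth 8000

set_option autoImplicit false
open Cfsg
open scoped Pointwise

namespace Cfsg.Agent.S4089

open Cfsg.Agent

variable {G : Type*} [Group G] [Finite G] {p : ℕ} [Fact p.Prime]

theorem map_pCore_normal (N : Subgroup G) {g : G} (hg : g ∈ N) :
    g ∈ Subgroup.normalizer (((Cfsg.pCore p N).map N.subtype : Subgroup G) : Set G) := by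
  haveI := Grp.pCore_isNormal (p := p) (G := N)
  have h : ∀ x ∈ N, ∀ y ∈ (Cfsg.pCore p N).map N.subtype, x * y * x⁻¹ ∈ (Cfsg.pCore p N).map N.subtype := by
    rintro x hx _ ⟨y, hy, rfl⟩
    exact ⟨⟨x, hx⟩ * y * ⟨x, hx⟩⁻¹, (Grp.pCore_isNormal (p := p) (G := N)).conj_mem y hy _, rfl⟩
  rw [Subgroup.mem_normalizer_iff]
  intro y
  refine ⟨fun hy => h g hg y hy, fun hy => ?_⟩
  have := h g⁻¹ (inv_mem hg) _ hy
  simpa [mul_assoc] using this

theorem sn_iff {H : Subgroup G} (hH : IsPGroup p H) (g : G) :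
    ((H).subgroupOf (H ⊔ Subgroup.zpowers g)).IsSubnormal ↔
      ∃ U : Subgroup G, IsPGroup p U ∧ H ≤ U ∧ g ∈ Subgroup.normalizer (U : Set G) := by
  set X := H ⊔ Subgroup.zpowers g
  have hgX : g ∈ X := Subgroup.mem_sup_right (Subgroup.mem_zpowers g)
  constructor
  · intro h
    refine ⟨(Cfsg.pCore p X).map X.subtype, (Grp.pCore_isPGroup).map _, fun x hx => ?_, map_pCore_normal X hgX⟩
    exact ⟨⟨x, Subgroup.mem_sup_left hx⟩, Grp.le_pCore_of_isSubnormal h hH.comap_subtype hx, rfl⟩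
  · rintro ⟨U, hU, hHU, hg⟩
    have hX : X ≤ Subgroup.normalizer (U : Set G) := sup_le (hHU.trans Subgroup.le_normalizer) (Subgroup.zpowers_le.2 hg)
    haveI hn : (U.subgroupOf X).Normal := Subgroup.normal_subgroupOf_of_le_normalizer hX
    refine Grp.isSubnormal_of_le_fitting fun x hx => ?_
    exact (Grp.le_pCore hn hU.comap_subtype).trans Grp.pCore_le_fittingSubgroup (hHU hx)

/-- The radical closure of a p-subgroup normalised by g. -/
theorem exists_radical {U : Subgroup G} (hU : IsPGroup p U) {g : G} (hg : g ∈ Subgroup.normalizer (U : Set G)) :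
    ∃ R : Subgroup G, U ≤ R ∧ (Cfsg.pCore p (Subgroup.normalizer (R : Set G))).map (Subgroup.normalizer (R : Set G)).subtype = R ∧
      g ∈ Subgroup.normalizer (R : Set G) := by
  suffices h : ∀ (d : ℕ) (U : Subgroup G), Nat.card G - Nat.card U = d → IsPGroup p U → g ∈ Subgroup.normalizer (U : Set G) →
      ∃ R : Subgroup G, U ≤ R ∧ (Cfsg.pCore p (Subgroup.normalizer (R : Set G))).map (Subgroup.normalizer (R : Set G)).subtype = R ∧
      g ∈ Subgroup.normalizer (R : Set G) from h _ U rfl hU hg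
  intro d
  induction d using Nat.strong_induction_on with
  | _ d ih =>
  intro U hd hU hg
  set N := Subgroup.normalizer (U : Set G)
  set V := (Cfsg.pCore p N).map N.subtype
  have hUV : U ≤ V := fun x hx => by
    haveI hn : (U.subgroupOf N).Normal := Subgroup.normal_subgroupOf_of_le_normalizer le_rfl
    exact ⟨⟨x, Subgroup.le_normalizer hx⟩, Grp.le_pCore hn hU.comap_subtype hx, rfl⟩
  rcases eq_or_lt_of_le hUV with e | e
  · exact ⟨U, le_rfl, e.symm, hg⟩
  · have hlt : Nat.card G - Nat.card V < d := by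
      have h1 : Nat.card U < Nat.card V := lt_of_le_of_ne (Subgroup.card_le_of_le hUV) fun h =>
        e.ne (Subgroup.eq_of_le_of_card_ge hUV h.ge)
      have h2 : Nat.card V ≤ Nat.card G := Subgroup.card_le_card_group _
      omega
    obtain ⟨R, h1, h2, h3⟩ := ih _ hlt V rfl (Grp.pCore_isPGroup.map _) (map_pCore_normal N hg)
    exact ⟨R, hUV.trans h1, h2, h3⟩

theorem radical_isPGroup {R : Subgroup G}
    (hR : (Cfsg.pCore p (Subgroup.normalizer (R : Set G))).map (Subgroup.normalizer (R : Set G)).subtype = R) : IsPGroup p R :=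
  hR ▸ Grp.pCore_isPGroup.map _

/-- A radical p-subgroup is the intersection of the Sylow subgroups containing it. -/
theorem sInf_le_radical {R : Subgroup G}
    (hR : (Cfsg.pCore p (Subgroup.normalizer (R : Set G))).map (Subgroup.normalizer (R : Set G)).subtype = R) :
    sInf {K : Subgroup G | ∃ Q : Sylow p G, R ≤ (Q : Subgroup G) ∧ K = (Q : Subgroup G)} ≤ R := by
  set I := sInf {K : Subgroup G | ∃ Q : Sylow p G, R ≤ (Q : Subgroup G) ∧ K = (Q : Subgroup G)}
  obtain ⟨Q, hQ⟩ := (radical_isPGroup hR).exists_le_sylow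
  have hIQ : I ≤ (Q : Subgroup G) := sInf_le ⟨Q, hQ, rfl⟩
  have hRI : R ≤ I := le_sInf (by rintro K ⟨T, hT, rfl⟩; exact hT)
  have hIp : IsPGroup p I := Q.isPGroup'.to_le hIQ
  by_contra hne
  have hlt : R < I := lt_of_le_not_ge hRI hne
  haveI := Fintype.ofFinite G
  have h1 := Cfsg.Agent.Char.BP.exists_normalizer_gt hIp hlt
  set N := Subgroup.normalizer (R : Set G)
  have hconj : ∀ n ∈ N, ∀ x ∈ I, n * x * n⁻¹ ∈ I := by
    intro n hn x hx
    rw [Subgroup.mem_sInf]
    rintro K ⟨T, hT, rfl⟩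
    have hT' : R ≤ ((n⁻¹ • T : Sylow p G) : Subgroup G) := fun r hr => by
      rw [Sylow.coe_subgroup_smul, Subgroup.mem_pointwise_smul_iff_inv_smul_mem]
      refine hT ?_
      have := (Subgroup.mem_normalizer_iff.1 hn r).1 hr
      simpa [MulAut.smul_def, mul_assoc] using this
    have h2 := Subgroup.mem_sInf.1 hx _ ⟨_, hT', rfl⟩
    rw [Sylow.coe_subgroup_smul, Subgroup.mem_pointwise_smul_iff_inv_smul_mem] at h2
    simpa [MulAut.smul_def, mul_assoc] using h2
  haveI hn' : ((I ⊓ N).subgroupOf N).Normal := ⟨fun x hx n => by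
    rw [Subgroup.mem_subgroupOf, Subgroup.mem_inf] at hx ⊢
    exact ⟨hconj n n.2 x hx.1, N.mul_mem (N.mul_mem n.2 x.2) (inv_mem n.2)⟩⟩
  refine h1.not_ge fun x hx => ?_
  exact hR ▸ (⟨⟨x, hx.2⟩, Grp.le_pCore hn' (hIp.to_le inf_le_left).comap_subtype hx, rfl⟩ :
    x ∈ (Cfsg.pCore p N).map N.subtype)

/-- Let G be a finite group, p a prime and H a p-subgroup of G. Then the set of elements g of G such that H is subnormal in the subgroup generated by H and g is the union of the normalizers N_G(R) over the subgroups R of G containing H with R = O_p(N_G(R)); and this set does not change when H is replaced by the intersection of all Sylow p-subgroups of G containing H. -/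
theorem result {G : Type*} [Group G] [Finite G] (p : ℕ) [Fact p.Prime]
    (H : Subgroup G) (hH : IsPGroup p H) :
    {g : G | ((H).subgroupOf (H ⊔ Subgroup.zpowers g)).IsSubnormal} =
      {g : G | ∃ R : Subgroup G, H ≤ R ∧ (Cfsg.pCore p (Subgroup.normalizer (R : Set G))).map (Subgroup.normalizer (R : Set G)).subtype = R ∧ g ∈ Subgroup.normalizer (R : Set G)} ∧
    ∀ g : G, (((H).subgroupOf (H ⊔ Subgroup.zpowers g)).IsSubnormal ↔
      (((sInf {K : Subgroup G | ∃ Q : Sylow p G, H ≤ (Q : Subgroup G) ∧ K = (Q : Subgroup G)})).subgroupOf ((sInf {K : Subgroup G | ∃ Q : Sylow p G, H ≤ (Q : Subgroup G) ∧ K = (Q : Subgroup G)}) ⊔ Subgroup.zpowers g)).IsSubnormal) := by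

  refine ⟨Set.ext fun g => ?_, fun g => ?_⟩
  · constructor
    · intro h
      obtain ⟨U, hU, hHU, hg⟩ := (sn_iff hH g).1 h
      obtain ⟨R, h1, h2, h3⟩ := exists_radical hU hg
      exact ⟨R, hHU.trans h1, h2, h3⟩
    · rintro ⟨R, h1, h2, h3⟩
      exact (sn_iff hH g).2 ⟨R, radical_isPGroup h2, h1, h3⟩
  · set I := sInf {K : Subgroup G | ∃ Q : Sylow p G, H ≤ (Q : Subgroup G) ∧ K = (Q : Subgroup G)}
    obtain ⟨Q, hQ⟩ := hH.exists_le_sylow
    have hI : IsPGroup p I := Q.isPGroup'.to_le (sInf_le ⟨Q, hQ, rfl⟩)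
    have hHI : H ≤ I := le_sInf (by rintro K ⟨T, hT, rfl⟩; exact hT)
    rw [sn_iff hH, sn_iff hI]
    constructor
    · rintro ⟨U, hU, hHU, hg⟩
      obtain ⟨R, h1, h2, h3⟩ := exists_radical hU hg
      refine ⟨R, radical_isPGroup h2, (sInf_le_sInf ?_).trans (sInf_le_radical h2), h3⟩
      rintro K ⟨T, hT, rfl⟩
      exact ⟨T, (hHU.trans h1).trans hT, rfl⟩
    · rintro ⟨U, hU, hIU, hg⟩
      exact ⟨U, hU, hHI.trans hIU, hg⟩

end Cfsg.Agent.S4089
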