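import Cfsg.Statements.S0001
import Cfsg.Agent.Lib.Grp.SchurZassenhaus
-- import your own Cfsg.Agent.* helpers here

set_option autoImplicit false
open Pointwise
open Cfsg

namespace Cfsg.Agent.S0001

/-- Conjugacy half of the Schur–Zassenhaus Theorem, under a solvability assumption on the normal Hall subgroup or on its quotient. -/
theorem result {G : Type*} [Group G] [Finite G] (N : Subgroup G) [N.Normal]
    (hN : (Nat.card N).Coprime N.index) (hsolv : Group.IsSolvable N ∨ Group.IsSolvable (G ⧸ N))
    (H K : Subgroup G) (hH : Subgroup.IsComplement' N H) (hK : Subgroup.IsComplement' N K) :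
    ∃ g : G, MulAut.conj g • H = K := by
  have hH' := hH.card_mul_card
  have hK' := hK.card_mul_card
  rw [← Subgroup.card_mul_index N] at hH' hK'
  have eH := Nat.eq_of_mul_eq_mul_left Nat.card_pos hH'
  have eK := Nat.eq_of_mul_eq_mul_left Nat.card_pos hK'
  refine Cfsg.Agent.Grp.szConj G N inferInstance hN H K eH eK (hsolv.imp_right fun h => ?_)
  refine Cfsg.Agent.Grp.isSolvable_of_injective ((QuotientGroup.mk' N).comp H.subtype) ?_ h
  rw [injective_iff_map_eq_one]
  intro x hx
  have : (x : G) ∈ N ⊓ H := ⟨(QuotientGroup.eq_one_iff _).mp hx, x.2⟩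
  rw [disjoint_iff.mp hH.disjoint, Subgroup.mem_bot] at this
  exact Subtype.ext this

end Cfsg.Agent.S0001
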