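import Cfsg.Statements.S0007
import Cfsg.Agent.Lib.Grp.Basic
-- import your own Cfsg.Agent.* helpers here

set_option autoImplicit false
open Cfsg

namespace Cfsg.Agent.S0007

/-- Subgroups of coprime index: the intersection has index equal to the product of the indices, and every element is a product of an element of the first subgroup and an element of the second. -/
theorem result {G : Type*} [Group G] [Finite G] (H K : Subgroup G)
    (h : H.index.Coprime K.index) :
    (H ⊓ K).index = H.index * K.index ∧ ∀ g : G, ∃ x ∈ H, ∃ y ∈ K, g = x * y := by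
  have e1 : (H ⊓ K).index = K.relIndex H * H.index := by
    rw [← Subgroup.inf_relIndex_left, Subgroup.relIndex_mul_index inf_le_left]
  have h2 : K.index ∣ K.relIndex H := by
    refine h.symm.dvd_of_dvd_mul_right ?_
    rw [← e1]
    exact Subgroup.index_dvd_of_le inf_le_right
  have e2 : (H ⊓ K).index = H.index * K.index := by
    refine le_antisymm Subgroup.index_inf_le ?_
    refine Nat.le_of_dvd (Nat.pos_of_ne_zero Subgroup.index_ne_zero_of_finite) ?_
    rw [e1, mul_comm H.index]
    exact mul_dvd_mul_right h2 _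
  refine ⟨e2, fun g => ?_⟩
  classical
  let f : H × K → G := fun x => (x.1 : G) * x.2
  have hinj : ∀ x y : H × K, f x = f y ↔ (∃ d : ↥(H ⊓ K), (y.1 : G) = x.1 * d ∧ (y.2 : G) = (d : G)⁻¹ * x.2) := by
    intro x y
    constructor
    · intro e
      refine ⟨⟨(x.1 : G)⁻¹ * y.1, H.mul_mem (H.inv_mem x.1.2) y.1.2, ?_⟩, by simp, ?_⟩
      · have : (x.1 : G)⁻¹ * y.1 = x.2 * (y.2 : G)⁻¹ := by
          rw [eq_mul_inv_iff_mul_eq, mul_assoc, show (y.1 : G) * y.2 = f y from rfl, ← e]; simp [f]
        rw [this]; exact K.mul_mem x.2.2 (K.inv_mem y.2.2)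
      · simp only [f] at e; simp [mul_assoc, e]
    · rintro ⟨d, h1, h2⟩; simp [f, h1, h2, mul_assoc]
  suffices hsurj : Function.Surjective f by
    obtain ⟨x, hx⟩ := hsurj g
    exact ⟨x.1, x.1.2, x.2, x.2.2, hx.symm⟩
  rw [← Set.range_eq_univ]
  refine Set.eq_of_subset_of_ncard_le (Set.subset_univ _) ?_
  rw [Set.ncard_univ]
  have hle : Nat.card (H × K) ≤ Nat.card ↥(H ⊓ K) * Nat.card (Set.range f) := by
    rw [← Nat.card_prod]
    refine Nat.card_le_card_of_injective (fun x : H × K =>
      ((⟨((Classical.choose (show ∃ y, f y = f x from ⟨x, rfl⟩)).1 : G)⁻¹ * x.1, ?_⟩ : ↥(H ⊓ K)),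
        (⟨f x, x, rfl⟩ : Set.range f))) ?_
    · obtain ⟨d, hd, -⟩ := (hinj _ x).mp (Classical.choose_spec (show ∃ y, f y = f x from ⟨x, rfl⟩))
      rw [hd, inv_mul_cancel_left]; exact d.2
    · intro x y e
      simp only [Prod.mk.injEq, Subtype.mk.injEq] at e
      have e2 : f x = f y := congrArg Subtype.val e.2
      have hc : Classical.choose (show ∃ z, f z = f x from ⟨x, rfl⟩) = Classical.choose (show ∃ z, f z = f y from ⟨y, rfl⟩) := by
        congr 1; rw [e2]
      have e1 := e.1
      rw [hc] at e1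
      have h1 : (x.1 : G) = y.1 := mul_left_cancel e1
      have h2 : (x.2 : G) = y.2 := mul_left_cancel (a := (y.1 : G))
        (by simp only [f] at e2; rwa [h1] at e2)
      exact Prod.ext (Subtype.ext h1) (Subtype.ext h2)
  rw [Nat.card_prod] at hle
  have a := Subgroup.card_mul_index H
  have b := Subgroup.card_mul_index K
  have c := Subgroup.card_mul_index (H ⊓ K)
  rw [e2] at c
  rw [← Nat.card_coe_set_eq]
  have hpos : 0 < H.index * K.index := Nat.pos_of_ne_zero (e2 ▸ Subgroup.index_ne_zero_of_finite)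
  have : Nat.card G * Nat.card G ≤ Nat.card G * Nat.card (Set.range f) := by
    calc Nat.card G * Nat.card G = (Nat.card H * Nat.card K) * (H.index * K.index) := by
          rw [mul_mul_mul_comm, a, b]
      _ ≤ (Nat.card ↥(H ⊓ K) * Nat.card (Set.range f)) * (H.index * K.index) :=
          Nat.mul_le_mul_right _ hle
      _ = _ := by rw [← c]; ring
  exact Nat.le_of_mul_le_mul_left this Nat.card_pos

end Cfsg.Agent.S0007
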