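import Cfsg.Statements.S0011
import Cfsg.Agent.Lib.Grp.Frattini
-- import your own Cfsg.Agent.* helpers here

set_option autoImplicit false
open Cfsg

namespace Cfsg.Agent.S0011

/-- If the Frattini quotient of a finite group is nilpotent then the group is nilpotent. -/
theorem result {G : Type*} [Group G] [Finite G]
    (h : Group.IsNilpotent (G ⧸ frattini G)) : Group.IsNilpotent G := by
  refine (Group.isNilpotent_of_finite_tfae.out 0 2).mpr fun M hM => ?_
  set f := QuotientGroup.mk' (frattini G)
  have hf : Function.Surjective f := QuotientGroup.mk'_surjective _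
  have hle : frattini G ≤ M := frattini_le_coatom hM
  have hker : f.ker ≤ M := by rw [QuotientGroup.ker_mk']; exact hle
  have hco : IsCoatom (M.map f) := by
    refine ⟨fun e => hM.1 ?_, fun H hH => ?_⟩
    · rw [← Subgroup.comap_map_eq_self hker, e, Subgroup.comap_top]
    · have : M < H.comap f := by
        refine lt_of_le_of_ne (Subgroup.map_le_iff_le_comap.mp hH.le) fun e => hH.ne ?_
        rw [e, Subgroup.map_comap_eq_self_of_surjective hf]
      rw [← Subgroup.map_comap_eq_self_of_surjective hf H, hM.2 _ this, Subgroup.map_top_of_surjective f hf]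
  have := Cfsg.Agent.Grp.coatom_normal_of_nilpotent hco
  have := this.comap f
  rwa [Subgroup.comap_map_eq_self hker] at this

end Cfsg.Agent.S0011
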