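import Cfsg.Statements.S0014
import Cfsg.Agent.Lib.Grp.Frattini
import Cfsg.Agent.Lib.Grp.Basic
-- import your own Cfsg.Agent.* helpers here

set_option autoImplicit false
open Cfsg

namespace Cfsg.Agent.S0014

/-- Burnside's basis Theorem: in a finite p-group whose Frattini quotient has order p ^ n, every generating set contains n elements that already generate, and no set with fewer than n elements generates. -/
theorem result {G : Type*} [Group G] [Finite G] (p n : ℕ) [Fact p.Prime]
    (hG : IsPGroup p G) (hn : (frattini G).index = p ^ n) :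
    (∀ S : Finset G, Subgroup.closure (S : Set G) = ⊤ → ∃ T : Finset G, T ⊆ S ∧ T.card = n ∧ Subgroup.closure (T : Set G) = ⊤) ∧
    (∀ T : Finset G, Subgroup.closure (T : Set G) = ⊤ → n ≤ T.card) := by
  classical
  set F := frattini G with hF
  have hFn : F.Normal := inferInstance
  have hcomm := Cfsg.Agent.Grp.pGroup_commutator_le_frattini hG
  have hnorm : ∀ H : Subgroup G, F ≤ H → H.Normal := fun H hH =>
    Subgroup.Normal.of_commutator_le G (hcomm.trans hH)
  set J : Finset G → Subgroup G := fun T => Subgroup.closure (T : Set G) ⊔ F with hJ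
  have hJn : ∀ T, (J T).Normal := fun T => hnorm _ le_sup_right
  have hstep : ∀ (T : Finset G) (t : G), J (insert t T) = J T ⊔ Subgroup.zpowers t := by
    intro T t
    simp only [hJ, Finset.coe_insert, Set.insert_eq, Subgroup.closure_union, Subgroup.zpowers_eq_closure]
    rw [sup_comm (Subgroup.closure {t}), sup_assoc, sup_assoc, sup_comm F]
  have hle : ∀ (T : Finset G) (t : G), Nat.card (J (insert t T)) ≤ p * Nat.card (J T) := by
    intro T t
    have := hJn T
    have e1 := Cfsg.Agent.Grp.card_sup_mul_card_inf_normal (H := Subgroup.zpowers t) (N := J T)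
    rw [sup_comm, ← hstep] at e1
    have h1 : Subgroup.zpowers (t ^ p) ≤ Subgroup.zpowers t ⊓ J T :=
      Subgroup.zpowers_le.mpr ⟨Subgroup.pow_mem _ (Subgroup.mem_zpowers t) p,
        Subgroup.mem_sup_right (Cfsg.Agent.Grp.pGroup_pow_mem_frattini hG t)⟩
    have h2 : Nat.card (Subgroup.zpowers t) ≤ p * Nat.card ↥(Subgroup.zpowers t ⊓ J T) := by
      refine le_trans ?_ (Nat.mul_le_mul_left p (Subgroup.card_le_of_le h1))
      rw [Nat.card_zpowers, Nat.card_zpowers, orderOf_pow' t (Fact.out : p.Prime).ne_zero]
      calc orderOf t = (orderOf t).gcd p * (orderOf t / (orderOf t).gcd p) :=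
            (Nat.mul_div_cancel' (Nat.gcd_dvd_left _ _)).symm
        _ ≤ p * (orderOf t / (orderOf t).gcd p) :=
            Nat.mul_le_mul_right _ (Nat.gcd_le_right _ (Fact.out : p.Prime).pos)
    refine Nat.le_of_mul_le_mul_right ?_ (Nat.card_pos (α := ↥(Subgroup.zpowers t ⊓ J T)))
    rw [e1]
    calc Nat.card (Subgroup.zpowers t) * Nat.card (J T)
        ≤ p * Nat.card ↥(Subgroup.zpowers t ⊓ J T) * Nat.card (J T) := Nat.mul_le_mul_right _ h2
      _ = _ := by ring
  have hub : ∀ T : Finset G, Nat.card (J T) ≤ p ^ T.card * Nat.card F := by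
    intro T
    induction T using Finset.induction_on with
    | empty => simp [hJ]
    | insert t T ht ih =>
      rw [Finset.card_insert_of_notMem ht, pow_succ', mul_assoc]
      exact (hle T t).trans (Nat.mul_le_mul_left _ ih)
  have hcardG : Nat.card G = p ^ n * Nat.card F := by rw [← hn, mul_comm, Subgroup.card_mul_index]
  have hlower : ∀ T : Finset G, Subgroup.closure (T : Set G) = ⊤ → n ≤ T.card := by
    intro T hT
    have := hub T
    rw [show J T = ⊤ by simp [hJ, hT], Subgroup.card_top, hcardG] at this
    exact (Nat.pow_le_pow_iff_right (Fact.out : p.Prime).one_lt).mp (Nat.le_of_mul_le_mul_right this Nat.card_pos)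
  refine ⟨fun S hS => ?_, hlower⟩
  obtain ⟨T, hT, hmin⟩ := (S.powerset.filter fun T : Finset G => Subgroup.closure (T : Set G) = ⊤).exists_min_image
    Finset.card ⟨S, by simp [hS]⟩
  simp only [Finset.mem_filter, Finset.mem_powerset] at hT hmin
  refine ⟨T, hT.1, le_antisymm ?_ (hlower T hT.2), hT.2⟩
  have hlb : ∀ T' ⊆ T, p ^ T'.card * Nat.card F ≤ Nat.card (J T') := by
    intro T'
    induction T' using Finset.induction_on with
    | empty => simp [hJ]
    | insert t T' ht ih =>
      intro hsub
      have htT : t ∈ T := hsub (Finset.mem_insert_self _ _)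
      have hsub' : T' ⊆ T := (Finset.subset_insert _ _).trans hsub
      have hlt : J T' < J (insert t T') := by
        rw [hstep]
        refine lt_of_le_of_ne le_sup_left fun e => ?_
        have hmem : t ∈ Subgroup.closure ((T.erase t : Finset G) : Set G) ⊔ F :=
          sup_le_sup_right (Subgroup.closure_mono (by
            intro a ha
            simp only [Finset.coe_erase, Set.mem_diff, Set.mem_singleton_iff, Finset.mem_coe] at ha ⊢
            exact ⟨hsub' ha, fun h => ht (h ▸ ha)⟩)) F (e.symm ▸ Subgroup.mem_sup_right (Subgroup.mem_zpowers t))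
        have htop : Subgroup.closure ((T.erase t : Finset G) : Set G) ⊔ F = ⊤ := by
          rw [eq_top_iff, ← hT.2, Subgroup.closure_le]
          intro a ha
          by_cases hat : a = t
          · exact hat ▸ hmem
          · exact Subgroup.mem_sup_left (Subgroup.subset_closure (by simp [hat, Finset.mem_coe.mp ha]))
        have h1 := frattini_nongenerating htop
        have h2 := hmin (T.erase t) ⟨(Finset.erase_subset _ _).trans hT.1, h1⟩
        have h3 := Finset.card_erase_lt_of_mem htT
        omega
      obtain ⟨a, ha⟩ := IsPGroup.iff_card.mp (hG.to_subgroup (J T'))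
      obtain ⟨b, hb⟩ := IsPGroup.iff_card.mp (hG.to_subgroup (J (insert t T')))
      have hab : a < b := by
        by_contra hle'
        refine hlt.ne (Subgroup.eq_of_le_of_card_ge hlt.le ?_)
        rw [ha, hb]
        exact Nat.pow_le_pow_right (Fact.out : p.Prime).pos (not_lt.mp hle')
      rw [Finset.card_insert_of_notMem ht, pow_succ', mul_assoc]
      refine (Nat.mul_le_mul_left p (ih hsub')).trans ?_
      rw [ha, hb, ← pow_succ']
      exact Nat.pow_le_pow_right (Fact.out : p.Prime).pos hab
  have := (hlb T subset_rfl).trans (Subgroup.card_le_card_group (J T))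
  rw [hcardG] at this
  exact (Nat.pow_le_pow_iff_right (Fact.out : p.Prime).one_lt).mp (Nat.le_of_mul_le_mul_right this Nat.card_pos)

end Cfsg.Agent.S0014
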