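import Cfsg.Statements.S0019
import Cfsg.Agent.Lib.Grp.SchurZassenhaus
-- import your own Cfsg.Agent.* helpers here

set_option autoImplicit false
open Cfsg

namespace Cfsg.Agent.S0019

open scoped Pointwise

universe w

theorem wielandt_aux : ∀ (n : ℕ) (G : Type w) [Group G] [Finite G], Nat.card G = n →
    ∀ A B C : Subgroup G, Group.IsSolvable A → Group.IsSolvable B → Group.IsSolvable C →
      (∀ g : G, ∃ x ∈ A, ∃ y ∈ B, g = x * y) → (∀ g : G, ∃ x ∈ A, ∃ y ∈ C, g = x * y) →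
      B.index.Coprime C.index → Group.IsSolvable G := by
  intro n
  induction n using Nat.strong_induction_on with
  | _ n ih =>
  intro G _ _ hn A B C hA hB hC hAB hAC hcop
  rcases eq_or_ne A ⊥ with rfl | hA1
  · have : B = ⊤ := eq_top_iff.mpr fun g _ => by
      obtain ⟨x, hx, y, hy, rfl⟩ := hAB g
      rw [Subgroup.mem_bot] at hx
      simpa [hx] using hy
    subst this
    exact Cfsg.Agent.Grp.isSolvable_of_injective ((Subgroup.topEquiv (G := G)).symm.toMonoidHom) (Subgroup.topEquiv (G := G)).symm.injective hB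
  have hAne : Nontrivial A := (Subgroup.nontrivial_iff_ne_bot A).mpr hA1
  obtain ⟨M0, hM0n, hM0b, -, hM0min⟩ := Cfsg.Agent.Grp.exists_minimal_normal_le (N := (⊤ : Subgroup A)) top_ne_bot
  obtain ⟨p, hp, hMp⟩ := Cfsg.Agent.Grp.minimal_normal_solvable_isPGroup inferInstance hM0b hM0min
  have := Fact.mk hp
  set M := M0.map A.subtype with hM
  have key : ∀ B : Subgroup G, Group.IsSolvable B → (∀ g : G, ∃ x ∈ A, ∃ y ∈ B, g = x * y) → ¬ p ∣ B.index →
      ∃ N : Subgroup G, N.Normal ∧ N ≠ ⊥ ∧ Group.IsSolvable N := by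
    intro B hB hAB hpB
    obtain ⟨Q⟩ : Nonempty (Sylow p B) := Sylow.nonempty
    have hQi : ¬ p ∣ ((Q : Subgroup B).map B.subtype).index := by
      rw [Subgroup.index_map_subtype]
      exact hp.not_dvd_mul Q.not_dvd_index hpB
    let P : Sylow p G := (Q.isPGroup'.map B.subtype).toSylow hQi
    obtain ⟨P1, hP1⟩ := (hMp.map A.subtype).exists_le_sylow
    obtain ⟨g, rfl⟩ := MulAction.exists_smul_eq G P P1
    obtain ⟨a, ha, b, hb, rfl⟩ := hAB g
    have haM : ∀ a ∈ A, ∀ x ∈ M, a⁻¹ * x * a ∈ M := by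
      rintro a ha x ⟨y, hy, rfl⟩
      exact ⟨_, hM0n.conj_mem y hy (⟨a, ha⟩⁻¹), by simp⟩
    have hMB : M ≤ B := by
      intro x hx
      have h := Cfsg.Agent.Grp.mem_smul_conj.mp (hP1 (haM a⁻¹ (A.inv_mem ha) x hx))
      have h' : (a * b)⁻¹ * (a * x * a⁻¹) * (a * b) ∈ B := by
        have := Subgroup.map_subtype_le _ h
        simpa using this
      have e : x = b * ((a * b)⁻¹ * (a * x * a⁻¹) * (a * b)) * b⁻¹ := by group
      rw [e]
      exact B.mul_mem (B.mul_mem hb h') (B.inv_mem hb)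
    have hne : M ≠ ⊥ := by
      rw [hM, Ne, Subgroup.map_eq_bot_iff_of_injective _ (Subgroup.subtype_injective A)]
      exact hM0b
    refine ⟨Subgroup.normalClosure (M : Set G), inferInstance, fun h => hne (le_bot_iff.mp
      (Subgroup.le_normalClosure.trans h.le)), Cfsg.Agent.Grp.isSolvable_of_le ?_ hB⟩
    rw [Subgroup.normalClosure, Subgroup.closure_le]
    intro y hy
    obtain ⟨x, hx, hxy⟩ := Group.mem_conjugatesOfSet_iff.mp hy
    obtain ⟨c, rfl⟩ := isConj_iff.mp hxy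
    obtain ⟨a', ha', b', hb', e⟩ := hAB c⁻¹
    have hc : c = b'⁻¹ * a'⁻¹ := by rw [← mul_inv_rev, ← e, inv_inv]
    subst hc
    show b'⁻¹ * a'⁻¹ * x * (b'⁻¹ * a'⁻¹)⁻¹ ∈ B
    have := B.mul_mem (B.mul_mem (B.inv_mem hb') (hMB (haM a' ha' x hx))) hb'
    simpa [mul_assoc] using this
  obtain ⟨N, hNn, hNb, hNs⟩ : ∃ N : Subgroup G, N.Normal ∧ N ≠ ⊥ ∧ Group.IsSolvable N := by
    by_cases hpB : p ∣ B.index
    · exact key C hC hAC fun h => hp.one_lt.ne' (Nat.eq_one_of_dvd_coprimes hcop hpB h)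
    · exact key B hB hAB hpB
  set f := QuotientGroup.mk' N
  have hf : Function.Surjective f := QuotientGroup.mk'_surjective N
  have himg : ∀ B : Subgroup G, (∀ g : G, ∃ x ∈ A, ∃ y ∈ B, g = x * y) →
      ∀ g : G ⧸ N, ∃ x ∈ A.map f, ∃ y ∈ B.map f, g = x * y := by
    intro B hAB g
    obtain ⟨g, rfl⟩ := hf g
    obtain ⟨x, hx, y, hy, rfl⟩ := hAB g
    exact ⟨_, Subgroup.mem_map_of_mem f hx, _, Subgroup.mem_map_of_mem f hy, map_mul f x y⟩
  have hq := ih _ (hn ▸ Cfsg.Agent.Grp.card_quotient_lt hNb) (G ⧸ N) rfl (A.map f) (B.map f) (C.map f)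
    (Cfsg.Agent.Grp.isSolvable_map hA f) (Cfsg.Agent.Grp.isSolvable_map hB f) (Cfsg.Agent.Grp.isSolvable_map hC f)
    (himg B hAB) (himg C hAC)
    ((hcop.coprime_dvd_left (Subgroup.index_map_dvd B hf)).coprime_dvd_right (Subgroup.index_map_dvd C hf))
  exact Group.isSolvable_iff_subgroup_quotient N |>.mpr ⟨hNs, hq⟩

/-- A finite group that factorises as H₁H₂ and as H₁H₃ with all three subgroups solvable and the indices of H₂ and H₃ coprime is solvable. -/
theorem result {G : Type*} [Group G] [Finite G] (H₁ H₂ H₃ : Subgroup G)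
    (h₁ : Group.IsSolvable H₁) (h₂ : Group.IsSolvable H₂) (h₃ : Group.IsSolvable H₃)
    (h12 : ∀ g : G, ∃ x ∈ H₁, ∃ y ∈ H₂, g = x * y) (h13 : ∀ g : G, ∃ x ∈ H₁, ∃ y ∈ H₃, g = x * y)
    (hcop : H₂.index.Coprime H₃.index) : Group.IsSolvable G := by
  exact wielandt_aux _ G rfl H₁ H₂ H₃ h₁ h₂ h₃ h12 h13 hcop

end Cfsg.Agent.S0019
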