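import Cfsg.Statements.S0020
import Mathlib
import Cfsg.Agent.Lib.Grp.HallSystem
import Cfsg.Agent.Lib.Grp.Carter
import Cfsg.Agent.Lib.Grp.Frattini

set_option autoImplicit false
open Pointwise
open Cfsg
open scoped Pointwise commutatorElement

namespace Cfsg.Agent.S0020

/-- A finite solvable group admits a Sylow system: Sylow subgroups, one for each prime, that pairwise permute as sets. -/
theorem result {G : Type*} [Group G] [Finite G] [Group.IsSolvable G] :
    ∃ S : (p : Nat.Primes) → Sylow (p : ℕ) G,
      ∀ p q : Nat.Primes, (S p : Set G) * (S q : Set G) = (S q : Set G) * (S p : Set G) := by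
  classical
  obtain ⟨K, hK⟩ := Agent.Grp.HallSys.exists_system (G := G)
  set F : Finset Nat.Primes := (Nat.card G).primeFactors.subtype Nat.Prime with hF
  have hv : ∀ p : Nat.Primes, p ∉ F → (Nat.card G).factorization p = 0 := fun p hp => by
    by_contra h
    exact hp (Finset.mem_subtype.mpr (Nat.support_factorization (Nat.card G) ▸ Finsupp.mem_support_iff.mpr h))
  -- the subgroup of the primes in `A`
  let H : Finset Nat.Primes → Subgroup G := fun A => (F \ A).inf K
  have hidx : ∀ B : Finset Nat.Primes, (B.inf K).index = ∏ q ∈ B, (q : ℕ) ^ (Nat.card G).factorization q := by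
    intro B
    induction B using Finset.induction_on with
    | empty => simp
    | insert s B hs ih =>
      rw [Finset.inf_insert, Finset.prod_insert hs, ← hK s, ← ih]
      refine Agent.Grp.HallConv.index_inf_of_coprime ?_
      rw [ih, hK s]
      exact Nat.Coprime.prod_right fun q hq => Nat.coprime_pow_primes _ _ s.2 q.2 fun e => hs (Subtype.ext e ▸ hq)
  have hcard : ∀ A : Finset Nat.Primes, Nat.card (H A) = ∏ q ∈ A, (q : ℕ) ^ (Nat.card G).factorization q := by
    intro A
    have h1 := (H A).card_mul_index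
    change Nat.card (H A) * ((F \ A).inf K).index = _ at h1
    rw [hidx] at h1
    refine Nat.eq_of_mul_eq_mul_right (Finset.prod_pos fun q _ => pow_pos q.2.pos _) (h1.trans ?_)
    have h2 : ∏ q ∈ F, (q : ℕ) ^ (Nat.card G).factorization q = Nat.card G := by
      calc (∏ q ∈ F, (q : ℕ) ^ (Nat.card G).factorization q)
            = ∏ q ∈ (Nat.card G).primeFactors.filter Nat.Prime, q ^ (Nat.card G).factorization q := by
            rw [hF, ← Finset.subtype_map, Finset.prod_map]; rfl
        _ = Nat.card G := by
            rw [Finset.filter_true_of_mem fun q hq => (Nat.mem_primeFactors.1 hq).1]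
            conv_rhs => rw [← Nat.prod_factorization_pow_eq_self (Nat.card_pos (α := G)).ne']
            rfl
    rw [← Finset.prod_filter_of_ne (p := fun q => q ∈ F) (s := A) (fun q _ hq => by
      by_contra hqF
      exact hq (by rw [hv q hqF, pow_zero]))]
    rw [show A.filter (fun q => q ∈ F) = F ∩ A by rw [Finset.inter_comm]; exact Finset.filter_mem_eq_inter,
      ← Finset.prod_union (Finset.disjoint_left.mpr fun q hq hq' => (Finset.mem_sdiff.mp hq').2 (Finset.mem_inter.mp hq).2),
      Finset.union_comm, Finset.sdiff_union_inter, h2]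
  have hs : ∀ p : Nat.Primes, ∃ S : Sylow (p : ℕ) G, (S : Subgroup G) = H {p} := fun p => by
    haveI := Fact.mk p.2
    exact ⟨Sylow.ofCard (H {p}) (by rw [hcard]; simp), Sylow.coe_ofCard _ _⟩
  choose S hS using hs
  refine ⟨S, fun p q => ?_⟩
  show ((S p : Subgroup G) : Set G) * ((S q : Subgroup G) : Set G) = ((S q : Subgroup G) : Set G) * ((S p : Subgroup G) : Set G)
  rw [hS, hS]
  by_cases hpq : p = q
  · rw [hpq]
  suffices key : ∀ a b : Nat.Primes, a ≠ b → (H {a} : Set G) * (H {b} : Set G) = (H {a, b} : Set G) by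
    rw [key p q hpq, key q p (Ne.symm hpq), Finset.pair_comm]
  intro a b hab
  have hmono : ∀ c ∈ ({a, b} : Finset Nat.Primes), H {c} ≤ H {a, b} := fun c hc =>
    Finset.inf_mono (Finset.sdiff_subset_sdiff (Finset.Subset.refl _) (Finset.singleton_subset_iff.mpr hc))
  have hle : (H {a} : Set G) * (H {b} : Set G) ⊆ (H {a, b} : Set G) := by
    rintro _ ⟨x, hx, y, hy, rfl⟩
    exact mul_mem (hmono a (by simp) hx) (hmono b (by simp) hy)
  refine Set.eq_of_subset_of_ncard_le hle ?_ (Set.toFinite _)
  have hco : (Nat.card (H {a})).Coprime (Nat.card (H {b})) := by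
    rw [hcard, hcard, Finset.prod_singleton, Finset.prod_singleton]
    exact Nat.coprime_pow_primes _ _ a.2 b.2 fun e => hab (Subtype.ext e)
  have hinj : Function.Injective fun x : H {a} × H {b} => (x.1 : G) * x.2 :=
    Subgroup.mul_injective_of_disjoint (disjoint_iff.2 (Subgroup.inf_eq_bot_of_coprime hco))
  have hrange : Set.range (fun x : H {a} × H {b} => (x.1 : G) * x.2) = (H {a} : Set G) * (H {b} : Set G) := by
    ext z
    constructor
    · rintro ⟨⟨x, y⟩, rfl⟩; exact ⟨x, x.2, y, y.2, rfl⟩
    · rintro ⟨x, hx, y, hy, rfl⟩; exact ⟨(⟨x, hx⟩, ⟨y, hy⟩), rfl⟩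
  rw [← hrange, Set.ncard_range_of_injective hinj, Nat.card_prod, ← Nat.card_coe_set_eq]
  show Nat.card (H {a, b}) ≤ _
  rw [hcard, hcard, hcard, Finset.prod_pair hab, Finset.prod_singleton, Finset.prod_singleton]

end Cfsg.Agent.S0020
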