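import Cfsg.Statements.S0030
import Cfsg.Agent.Lib.Grp.Coprime
-- import your own Cfsg.Agent.* helpers here

set_option autoImplicit false
open Cfsg

namespace Cfsg.Agent.S0030

open scoped Pointwise

/-- Under coprime action fixed points of a product of two invariant subgroups factor: if K = X Y with X and Y normalised by A then every A-fixed element of K is a product of an A-fixed element of X and an A-fixed element of Y. -/
theorem result {G : Type*} [Group G] [Finite G] (A K : Subgroup G) (hAK : A ≤ Subgroup.normalizer (K : Set G))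
    (hcop : (Nat.card A).Coprime (Nat.card K)) (hsolv : Group.IsSolvable A ∨ Group.IsSolvable K)
    (X Y : Subgroup G) (hX : X ≤ K) (hY : Y ≤ K) (hXA : A ≤ Subgroup.normalizer (X : Set G)) (hYA : A ≤ Subgroup.normalizer (Y : Set G))
    (hXY : ∀ k ∈ K, ∃ x ∈ X, ∃ y ∈ Y, k = x * y) (k : G) (hk : k ∈ K ⊓ Subgroup.centralizer (A : Set G)) :
    ∃ x ∈ X ⊓ Subgroup.centralizer (A : Set G), ∃ y ∈ Y ⊓ Subgroup.centralizer (A : Set G), k = x * y := by
  set T := Y ⊔ A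
  have hA : ∀ a ∈ A, a • ((1 : G) : G ⧸ T) = ((1 : G) : G ⧸ T) := by
    intro a ha
    show ((a * 1 : G) : G ⧸ T) = _
    rw [mul_one]
    exact QuotientGroup.eq.mpr (by simpa using T.inv_mem (Subgroup.mem_sup_right ha))
  obtain ⟨x₀, hx₀, y₀, hy₀, hk₀⟩ := hXY k hk.1
  have hAk : ∀ a ∈ A, a • ((k : G) : G ⧸ T) = ((k : G) : G ⧸ T) := by
    intro a ha
    show ((a * k : G) : G ⧸ T) = _
    refine QuotientGroup.eq.mpr ?_
    rw [mul_inv_rev, mul_assoc]
    have hc := Subgroup.mem_centralizer_iff.mp hk.2 a ha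
    rw [show k⁻¹ * (a⁻¹ * k) = a⁻¹ by
      rw [show a⁻¹ * k = k * a⁻¹ by rw [inv_mul_eq_iff_eq_mul, ← mul_assoc, hc, mul_inv_cancel_right]]
      group]
    exact T.inv_mem (Subgroup.mem_sup_right ha)
  obtain ⟨c, hc, hck⟩ := Cfsg.Agent.Grp.exists_centralizer_smul A X
    {z : G ⧸ T | ∃ x ∈ X, x • ((1 : G) : G ⧸ T) = z} hXA
    (hcop.coprime_dvd_right (Subgroup.card_dvd_of_le hX))
    (hsolv.imp_right (Cfsg.Agent.Grp.isSolvable_of_le hX))
    (fun u ⟨x, hx, hu⟩ v ⟨x', hx', hv⟩ => ⟨x' * x⁻¹, X.mul_mem hx' (X.inv_mem hx), by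
      rw [← hu, ← hv, ← mul_smul, inv_mul_cancel_right]⟩)
    (x := ((1 : G) : G ⧸ T)) (y := ((k : G) : G ⧸ T)) ⟨1, X.one_mem, one_smul _ _⟩
    ⟨x₀, hx₀, by
      show ((x₀ * 1 : G) : G ⧸ T) = _
      refine QuotientGroup.eq.mpr (Subgroup.mem_sup_left ?_)
      rw [hk₀]; simpa using hy₀⟩ hA hAk
  refine ⟨c, hc, c⁻¹ * k, ?_, by group⟩
  have hT : c⁻¹ * k ∈ T := by
    have : ((c * 1 : G) : G ⧸ T) = ((k : G) : G ⧸ T) := hck
    simpa using QuotientGroup.eq.mp this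
  have hCk : c⁻¹ * k ∈ Subgroup.centralizer (A : Set G) :=
    Subgroup.mul_mem _ (Subgroup.inv_mem _ hc.2) hk.2
  refine ⟨?_, hCk⟩
  rw [← SetLike.mem_coe, show ((T : Subgroup G) : Set G) = (Y : Set G) * (A : Set G) from
    Subgroup.coe_mul_of_right_le_normalizer_left Y A hYA] at hT
  obtain ⟨y, hy, a, ha, he⟩ := hT
  have hK : c⁻¹ * k ∈ K := K.mul_mem (K.inv_mem (hX hc.1)) hk.1
  have e' : y * a = c⁻¹ * k := he
  have haK : a ∈ A ⊓ K := ⟨ha, by
    have := K.mul_mem (K.inv_mem (hY hy)) hK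
    rwa [← e', inv_mul_cancel_left] at this⟩
  rw [Cfsg.Agent.Grp.inf_eq_bot_of_coprime hcop, Subgroup.mem_bot] at haK
  rw [← e', haK, mul_one]
  exact hy

end Cfsg.Agent.S0030
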