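import Cfsg.Statements.S0031
import Cfsg.Agent.Lib.Grp.Basic
-- import your own Cfsg.Agent.* helpers here

set_option autoImplicit false
open Cfsg

namespace Cfsg.Agent.S0031

open scoped Pointwise

/-- A fixed-point-free automorphism of a finite group maps some Sylow p-subgroup to itself. -/
theorem result {G : Type*} [Group G] [Finite G] (φ : G ≃* G)
    (hφ : MonoidHom.FixedPointFree (φ : G →* G)) (p : ℕ) [Fact p.Prime] :
    ∃ P : Sylow p G, (P : Subgroup G).map (φ : G →* G) = P := by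
  obtain ⟨P₀⟩ : Nonempty (Sylow p G) := Sylow.nonempty
  obtain ⟨g, hg⟩ := MulAction.exists_smul_eq G P₀ (P₀.mapSurjective (f := (φ : G →* G)) φ.surjective)
  have hg' : MulAut.conj g • (P₀ : Subgroup G) = (P₀ : Subgroup G).map (φ : G →* G) := by
    rw [← Sylow.coe_mapSurjective (f := (φ : G →* G)) φ.surjective P₀, ← hg]; rfl
  have hinj : Function.Injective (fun x : G => (φ x)⁻¹ * x) := by
    intro x y h
    have h1 : (φ x)⁻¹ * x = (φ y)⁻¹ * y := h
    have : φ (y * x⁻¹) = y * x⁻¹ := by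
      rw [map_mul, map_inv]
      calc φ y * (φ x)⁻¹ = φ y * ((φ x)⁻¹ * x) * x⁻¹ := by group
        _ = y * x⁻¹ := by rw [h1]; group
    exact (mul_inv_eq_one.mp (hφ (y * x⁻¹) this)).symm
  obtain ⟨h, hh⟩ := Finite.surjective_of_injective hinj g
  refine ⟨h • P₀, ?_⟩
  rw [Sylow.coe_subgroup_smul]
  have e : (MulAut.conj h • (P₀ : Subgroup G)).map (φ : G →* G) = MulAut.conj (φ h) • ((P₀ : Subgroup G).map (φ : G →* G)) := by
    rw [← Cfsg.Agent.Grp.map_conj_eq_smul, ← Cfsg.Agent.Grp.map_conj_eq_smul, Subgroup.map_map, Subgroup.map_map]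
    congr 1
    ext x
    simp
  rw [e, ← hg', ← mul_smul, ← map_mul, ← hh]
  congr 2
  group

end Cfsg.Agent.S0031
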