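import Cfsg.Statements.S0036
import Cfsg.Agent.Lib.Recog.Frobenius
-- import your own Cfsg.Agent.* helpers here

set_option autoImplicit false
open Cfsg

namespace Cfsg.Agent.S0036

open scoped Pointwise

/-- When a Frobenius complement contains an involution, an elementary argument shows the Frobenius kernel is closed under multiplication (hence a subgroup). -/
theorem result {G : Type*} [Group G] [Finite G] (H : Subgroup G) (hH : Cfsg.IsFrobeniusComplement H)
    (t : G) (ht : t ∈ H) (ht1 : t ≠ 1) (ht2 : t * t = 1) :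
    ∀ x ∈ Cfsg.frobeniusKernel H, ∀ y ∈ Cfsg.frobeniusKernel H, x * y ∈ Cfsg.frobeniusKernel H := by
  classical
  have hti : t⁻¹ = t := inv_eq_of_mul_eq_one_right ht2
  -- `t` times a conjugate outside `H` lies in the kernel
  have hker : ∀ g : G, g ∉ H → t * (g * t * g⁻¹) ∈ Cfsg.frobeniusKernel H := by
    intro g hg
    set s := g * t * g⁻¹ with hs
    have hss : s * s = 1 := by rw [hs, show g * t * g⁻¹ * (g * t * g⁻¹) = g * (t * t) * g⁻¹ by group, ht2]; group
    have hsi : s⁻¹ = s := inv_eq_of_mul_eq_one_right hss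
    by_contra hmem
    obtain ⟨hu1, f, hf⟩ := Cfsg.Agent.Frob.exists_conj_mem_of_notMem_kernel hmem
    have hconj : ∀ w : G, w * w = 1 → w * (t * s) * w⁻¹ = (t * s)⁻¹ → f⁻¹ * w * f ∈ H := by
      intro w hw e
      have h := Cfsg.Agent.Frob.inv_mul_mem_of_mem_conj hH hu1 (g := f) (f := w * f) hf (by
        rw [show (w * f)⁻¹ * (t * s) * (w * f) = f⁻¹ * (w⁻¹ * (t * s) * w) * f by group]
        have hwi : w⁻¹ = w := inv_eq_of_mul_eq_one_right hw
        rw [hwi]
        rw [hwi] at e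
        rw [e, show f⁻¹ * (t * s)⁻¹ * f = (f⁻¹ * (t * s) * f)⁻¹ by group]
        exact H.inv_mem hf)
      rwa [← mul_assoc] at h
    have e1 : t * (t * s) * t⁻¹ = (t * s)⁻¹ := by rw [hti, mul_inv_rev, hsi, hti, ← mul_assoc t t s, ht2, one_mul]
    have e2 : s * (t * s) * s⁻¹ = (t * s)⁻¹ := by rw [hsi, mul_inv_rev, hsi, hti, mul_assoc, mul_assoc t, hss, mul_one]
    have h1 := hconj t ht2 e1
    have h2 := hconj s hss e2
    have hfH : f ∈ H := by
      simpa using Cfsg.Agent.Frob.inv_mul_mem_of_mem_conj hH ht1 (g := 1) (f := f) (by simpa using ht) h1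
    have h3 : s ∈ H := by simpa [mul_assoc] using H.mul_mem (H.mul_mem hfH h2) (H.inv_mem hfH)
    exact ht1 (Cfsg.Agent.Frob.eq_one_of_conj_mem hH hg ht h3)
  -- every kernel element is `t` times a conjugate of `t`
  let Φ : G ⧸ H → Cfsg.frobeniusKernel H := fun q =>
    if hq : q.out ∈ H then ⟨1, Cfsg.Agent.Frob.one_mem_kernel⟩ else ⟨_, hker q.out hq⟩
  have hone : ∀ q : G ⧸ H, q.out ∈ H → q = ((1 : G) : G ⧸ H) := fun q hq => by
    rw [← QuotientGroup.out_eq' q]
    exact QuotientGroup.eq.mpr (by simpa using H.inv_mem hq)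
  have hne : ∀ g : G, g ∉ H → t * (g * t * g⁻¹) ≠ 1 := by
    intro g hg e
    refine ht1 (Cfsg.Agent.Frob.eq_one_of_conj_mem hH hg ht ?_)
    rw [← inv_eq_of_mul_eq_one_right e, hti]
    exact ht
  have hΦ : Function.Injective Φ := by
    intro a b hab
    have hab' := congrArg Subtype.val hab
    simp only [Φ] at hab'
    by_cases ha : a.out ∈ H <;> by_cases hb : b.out ∈ H
    · rw [hone a ha, hone b hb]
    · rw [dif_pos ha, dif_neg hb] at hab'
      exact absurd hab'.symm (hne _ hb)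
    · rw [dif_neg ha, dif_pos hb] at hab'
      exact absurd hab' (hne _ ha)
    · rw [dif_neg ha, dif_neg hb] at hab'
      have e := mul_left_cancel hab'
      have hne' : a.out * t * a.out⁻¹ ≠ 1 := fun h => ht1 (conj_eq_one_iff.mp h)
      have := Cfsg.Agent.Frob.inv_mul_mem_of_mem_conj hH hne' (g := a.out) (f := b.out)
        (by simpa [mul_assoc] using ht) (by rw [e]; simpa [mul_assoc] using ht)
      rw [← QuotientGroup.out_eq' a, ← QuotientGroup.out_eq' b]
      exact QuotientGroup.eq.mpr this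
  have hsurj : Function.Surjective Φ := (hΦ.bijective_of_nat_card_le
    (by rw [Cfsg.Agent.Frob.card_kernel hH, ← Subgroup.index_eq_card])).2
  have hform : ∀ z ∈ Cfsg.frobeniusKernel H, ∃ g : G, z = t * (g * t * g⁻¹) := by
    intro z hz
    obtain ⟨q, hq⟩ := hsurj ⟨z, hz⟩
    have hq' := congrArg Subtype.val hq
    simp only [Φ] at hq'
    by_cases hh : q.out ∈ H
    · rw [dif_pos hh] at hq'
      exact ⟨1, by rw [← hq', one_mul, inv_one, mul_one, ht2]⟩
    · rw [dif_neg hh] at hq'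
      exact ⟨q.out, hq'.symm⟩
  have hinv : ∀ z ∈ Cfsg.frobeniusKernel H, t * z * t = z⁻¹ := by
    intro z hz
    obtain ⟨g, rfl⟩ := hform z hz
    rw [← mul_assoc t t, ht2, one_mul, mul_inv_rev, mul_inv_rev, mul_inv_rev, inv_inv, hti]
    group
  intro x hx y hy
  obtain ⟨g₀, hxe⟩ := hform x hx
  obtain ⟨g, hge⟩ := hform (g₀⁻¹ * y * g₀⁻¹⁻¹) (Cfsg.Agent.Frob.conj_mem_kernel hy g₀⁻¹)
  have hye : y = (g₀ * t * g₀⁻¹) * (g₀ * g * t * (g₀ * g)⁻¹) := by
    calc y = g₀ * (g₀⁻¹ * y * g₀⁻¹⁻¹) * g₀⁻¹ := by group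
      _ = _ := by rw [hge]; group
  have hxy : x * y = t * ((g₀ * g) * t * (g₀ * g)⁻¹) := by
    rw [hxe, hye, ← mul_assoc, mul_assoc t (g₀ * t * g₀⁻¹) (g₀ * t * g₀⁻¹),
      show g₀ * t * g₀⁻¹ * (g₀ * t * g₀⁻¹) = g₀ * (t * t) * g₀⁻¹ by group, ht2, mul_one, mul_inv_cancel, mul_one]
  by_cases hgH : g₀ * g ∈ H
  · have hh : x * y ∈ H := hxy ▸ H.mul_mem ht (H.mul_mem (H.mul_mem hgH ht) (H.inv_mem hgH))
    refine Or.inl ?_
    by_contra hne1
    have e1 := hinv y hy
    have e2 := hinv x hx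
    have key : x * (t * (x * y) * t) * x⁻¹ = (x * y)⁻¹ := by
      have e3 : t * (x * y) * t = (t * x * t) * (t * y * t) := by
        rw [show (t * x * t) * (t * y * t) = t * x * (t * t) * y * t by group, ht2]; group
      rw [e3, e1, e2]; group
    have hth : t * (x * y) * t ∈ H := H.mul_mem (H.mul_mem ht hh) ht
    have hxH : x ∈ H := by
      by_contra hxH
      have := Cfsg.Agent.Frob.eq_one_of_conj_mem hH hxH hth (key ▸ H.inv_mem hh)
      rw [this, mul_one, mul_inv_cancel] at key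
      exact hne1 (inv_eq_one.mp key.symm)
    have hx1 := Cfsg.Agent.Frob.eq_one_of_mem_kernel_of_mem hx hxH
    rw [hx1, one_mul] at hh hne1
    exact hne1 (Cfsg.Agent.Frob.eq_one_of_mem_kernel_of_mem hy hh)
  · rw [hxy]; exact hker _ hgH

end Cfsg.Agent.S0036
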