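import Cfsg.Statements.S0038
import Cfsg.Agent.Lib.Grp.FrobeniusConj
import Cfsg.Agent.Lib.Grp.Zassenhaus.Basics

set_option autoImplicit false
open Pointwise
open Cfsg

namespace Cfsg.Agent.S0038

/-- All Frobenius complements of a finite group are conjugate to one another. -/
theorem result {G : Type*} [Group G] [Finite G] (H H₀ : Subgroup G)
    (hH : Cfsg.IsFrobeniusComplement H) (hH₀ : Cfsg.IsFrobeniusComplement H₀) :
    ∃ g : G, MulAut.conj g • H₀ = H := by
  have key : ∀ A B : Subgroup G, Cfsg.IsFrobeniusComplement A → Cfsg.IsFrobeniusComplement B → A ≤ B → A = B := by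
    intro A B hA hB hle
    refine le_antisymm hle fun b hb => ?_
    have : Nontrivial B := B.nontrivial_iff_ne_bot.mpr hB.1
    obtain ⟨⟨z, hzB⟩, hzc, hz1⟩ := (Subgroup.bot_or_exists_ne_one (Subgroup.center B)).resolve_left
      (Grp.Zas.hasFpf_of_complement hB).center_ne_bot
    have hz1' : z ≠ 1 := fun e => hz1 (Subtype.ext e)
    have hcz : ∀ x ∈ B, x * z = z * x := fun x hx =>
      congrArg Subtype.val (Subgroup.mem_center_iff.mp hzc ⟨x, hx⟩)
    obtain ⟨⟨a, ha⟩, ha1⟩ := Subgroup.ne_bot_iff_exists_ne_one.mp hA.1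
    have hzA : z ∈ A := Frob.centralizer_le hA ha (fun e => ha1 (Subtype.ext e))
      (Subgroup.mem_centralizer_singleton_iff.mpr (hcz a (hle ha)).symm)
    by_contra hbA
    have hzAb : z ∈ MulAut.conj b • A := by
      rw [Subgroup.mem_pointwise_smul_iff_inv_smul_mem]
      simp only [MulAut.smul_def, MulAut.inv_def, MulAut.conj_symm_apply]
      rw [mul_assoc, ← hcz b hb, inv_mul_cancel_left]
      exact hzA
    have hmem : z ∈ A ⊓ MulAut.conj b • A := ⟨hzA, hzAb⟩
    rw [hA.2.2 b hbA, Subgroup.mem_bot] at hmem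
    exact hz1' hmem
  rcases le_total (Nat.card H₀) (Nat.card H) with hle | hle
  · obtain ⟨g, hg⟩ := Grp.frobenius_conj_into _ G rfl H H₀ hH hH₀ hle
    exact ⟨g, key _ _ (Grp.IsFrobeniusComplement.conj hH₀ g) hH hg⟩
  · obtain ⟨g, hg⟩ := Grp.frobenius_conj_into _ G rfl H₀ H hH₀ hH hle
    refine ⟨g⁻¹, ?_⟩
    rw [← key _ _ (Grp.IsFrobeniusComplement.conj hH g) hH₀ hg, smul_smul, ← map_mul, inv_mul_cancel, map_one, one_smul]

end Cfsg.Agent.S0038
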