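import Cfsg.Statements.S0039
import Cfsg.Agent.Lib.Recog.Frobenius
-- import your own Cfsg.Agent.* helpers here

set_option autoImplicit false
open Cfsg

namespace Cfsg.Agent.S0039

open scoped Pointwise

/-- In a finite group that is a semidirect product of a normal subgroup K by a nontrivial subgroup H, H is a Frobenius complement exactly when each nonidentity element of H acts without nonidentity fixed points on K by conjugation. -/
theorem result {G : Type*} [Group G] [Finite G] (K H : Subgroup G) [K.Normal]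
    (hc : Subgroup.IsComplement' K H) (hK : K ≠ ⊥) (hH : H ≠ ⊥) :
    Cfsg.IsFrobeniusComplement H ↔ ∀ h ∈ H, h ≠ 1 → K ⊓ Subgroup.centralizer {h} = ⊥ := by
  have hKH : K ⊓ H = ⊥ := disjoint_iff.mp hc.disjoint
  constructor
  · intro h x hx hx1
    exact le_bot_iff.mp (hKH ▸ inf_le_inf_left K (Cfsg.Agent.Frob.centralizer_le h hx hx1))
  · intro h
    refine ⟨hH, fun e => hK (by rw [e, inf_top_eq] at hKH; exact hKH), fun g hg => ?_⟩
    rw [Subgroup.eq_bot_iff_forall]
    rintro x ⟨hx, hx'⟩
    by_contra hx1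
    replace hx' := (Cfsg.Agent.Frob.mem_smul_conj_iff g x).mp hx'
    obtain ⟨k, hk, b, hb, rfl⟩ := Subgroup.mem_sup_of_normal_left.mp (show g ∈ K ⊔ H by rw [hc.sup_eq_top]; trivial)
    have hy : k⁻¹ * x * k ∈ H := by
      have := H.mul_mem (H.mul_mem hb hx') (H.inv_mem hb)
      simpa [mul_assoc] using this
    have h1 : k⁻¹ * x * k * x⁻¹ ∈ K ⊓ H := ⟨by
      rw [show k⁻¹ * x * k * x⁻¹ = k⁻¹ * (x * k * x⁻¹) by group]
      exact K.mul_mem (K.inv_mem hk) (Subgroup.Normal.conj_mem inferInstance k hk x), H.mul_mem hy (H.inv_mem hx)⟩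
    rw [hKH, Subgroup.mem_bot, mul_inv_eq_one] at h1
    have h2 : k ∈ K ⊓ Subgroup.centralizer {x} := ⟨hk, by
      refine Subgroup.mem_centralizer_singleton_iff.mpr ?_
      calc k * x = k * (k⁻¹ * x * k) := by rw [h1]
        _ = x * k := by group⟩
    rw [h x hx hx1, Subgroup.mem_bot] at h2
    exact hg (by rw [h2, one_mul]; exact hb)

end Cfsg.Agent.S0039
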