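import Cfsg.Statements.S0041
import Cfsg.Agent.Lib.Grp.Zassenhaus.Basics

set_option autoImplicit false
open Cfsg

namespace Cfsg.Agent.S0041

/-- A group acting on a nontrivial abelian group so that no nonidentity element has a nonidentity fixed point is cyclic, provided it is abelian or its order is a product of two (possibly equal) primes. -/
theorem result {G : Type*} [Group G] [Finite G] (A V : Subgroup G) [IsMulCommutative V]
    (hV : V ≠ ⊥) (hAV : A ≤ Subgroup.normalizer (V : Set G)) (hfpf : ∀ a ∈ A, a ≠ 1 → V ⊓ Subgroup.centralizer {a} = ⊥)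
    (hA : IsMulCommutative A ∨ ∃ p q : ℕ, p.Prime ∧ q.Prime ∧ Nat.card A = p * q) : IsCyclic A := by
  classical
  rcases eq_or_ne A ⊥ with rfl | hA1
  · infer_instance
  have : Nontrivial V := V.nontrivial_iff_ne_bot.mpr hV
  have : Nontrivial A := A.nontrivial_iff_ne_bot.mpr hA1
  have hinv : ∀ a ∈ A, ∀ v ∈ V, a * v * a⁻¹ ∈ V := fun a ha v hv =>
    (Subgroup.mem_normalizer_iff.mp (hAV ha) v).mp hv
  let φ : A →* MulAut V :=
    { toFun := fun a =>
        { toFun := fun v => ⟨(a : G) * v * (a : G)⁻¹, hinv a a.2 v v.2⟩
          invFun := fun v => ⟨(a : G)⁻¹ * v * (a : G), by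
            have := hinv _ (inv_mem a.2) v v.2; rwa [inv_inv] at this⟩
          left_inv := fun v => Subtype.ext (by simp [mul_assoc])
          right_inv := fun v => Subtype.ext (by simp [mul_assoc])
          map_mul' := fun v w => Subtype.ext (by simp [mul_assoc]) }
      map_one' := MulEquiv.ext fun v => Subtype.ext (by simp)
      map_mul' := fun a b => MulEquiv.ext fun v => Subtype.ext (by simp [mul_assoc]) }
  have h : Grp.Zas.HasFpf A := Grp.Zas.hasFpf_of_fpf_aut φ fun a ha v hv => by
    have hc : (a : G) * v * (a : G)⁻¹ = v := congrArg Subtype.val hv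
    have hm : (v : G) ∈ V ⊓ Subgroup.centralizer {(a : G)} :=
      ⟨v.2, Subgroup.mem_centralizer_singleton_iff.mpr (mul_inv_eq_iff_eq_mul.mp hc).symm⟩
    rw [hfpf a a.2 (fun e => ha (Subtype.ext e)), Subgroup.mem_bot] at hm
    exact Subtype.ext hm
  rcases hA with hab | ⟨p, q, hp, hq, hpq⟩
  · letI : CommGroup A := { (inferInstance : Group A) with mul_comm := hab.is_comm.comm }
    have : IsZGroup A := ⟨fun r hr P => by
      haveI := Fact.mk hr
      rcases h.sylow_cases P with h1 | ⟨rfl, n, ⟨e⟩⟩
      · exact h1
      · rcases Nat.eq_zero_or_pos n with rfl | hn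
        · refine e.isCyclic.mpr (isCyclic_of_orderOf_eq_card (QuaternionGroup.xa 0) ?_)
          have : NeZero (2 ^ 0) := ⟨by norm_num⟩
          rw [QuaternionGroup.orderOf_xa, Nat.card_eq_fintype_card, QuaternionGroup.card, pow_zero, mul_one]
        · exfalso
          have : NeZero (2 ^ n) := ⟨by positivity⟩
          have e1 : QuaternionGroup.a 1 * QuaternionGroup.xa 0 =
              (QuaternionGroup.xa 0 * QuaternionGroup.a 1 : QuaternionGroup (2 ^ n)) := by
            refine e.symm.injective ?_
            rw [map_mul, map_mul]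
            exact Subtype.ext (mul_comm _ _)
          rw [QuaternionGroup.a_mul_xa, QuaternionGroup.xa_mul_a, QuaternionGroup.xa.injEq, zero_sub, zero_add,
            neg_eq_iff_add_eq_zero, ← Nat.cast_one, ← Nat.cast_add, ZMod.natCast_eq_zero_iff] at e1
          have := Nat.le_of_dvd (by norm_num) e1
          have : 2 ≤ 2 ^ n := Nat.le_self_pow hn.ne' 2
          omega⟩
    infer_instance
  · have := Fact.mk hp
    have := Fact.mk hq
    rcases eq_or_ne p q with rfl | hne
    · have hP : IsPGroup p A := IsPGroup.of_card (n := 2) (by rw [hpq, pow_two])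
      rcases h.sylow_cases (hP.to_subgroup ⊤ |>.toSylow (by
          rw [Subgroup.index_top]; exact hp.not_dvd_one)) with h1 | ⟨rfl, n, ⟨e⟩⟩
      · exact Subgroup.topEquiv.isCyclic.mp h1
      · refine Subgroup.topEquiv.isCyclic.mp (e.isCyclic.mpr ?_)
        have hn : n = 0 := by
          have : NeZero (2 ^ n) := ⟨by positivity⟩
          have h4 := Nat.card_congr e.toEquiv
          rw [Nat.card_eq_fintype_card (α := QuaternionGroup (2 ^ n)), QuaternionGroup.card] at h4
          have h5 : Nat.card A = 4 * 2 ^ n := (Nat.card_congr Subgroup.topEquiv.toEquiv).symm.trans h4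
          rw [hpq] at h5
          by_contra hn
          have : 2 ≤ 2 ^ n := Nat.le_self_pow hn 2
          omega
        subst hn
        refine isCyclic_of_orderOf_eq_card (QuaternionGroup.xa 0) ?_
        have : NeZero (2 ^ 0) := ⟨by norm_num⟩
        rw [QuaternionGroup.orderOf_xa, Nat.card_eq_fintype_card, QuaternionGroup.card, pow_zero, mul_one]
    · wlog hlt : q < p generalizing p q
      · exact this q p hq hp (by rw [hpq, mul_comm]) ‹_› ‹_› hne.symm (by omega)
      obtain ⟨y, hy⟩ := exists_prime_orderOf_dvd_card' (G := A) p (by rw [hpq]; exact dvd_mul_right p q)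
      obtain ⟨z, hz⟩ := exists_prime_orderOf_dvd_card' (G := A) q (by rw [hpq]; exact dvd_mul_left q p)
      have hidx : (Subgroup.zpowers y).index = q := by
        have := (Subgroup.zpowers y).card_mul_index
        rw [Nat.card_zpowers, hy, hpq] at this
        exact Nat.eq_of_mul_eq_mul_left hp.pos this
      have hyn : (Subgroup.zpowers y).Normal := Subgroup.normal_of_index_eq_minFac_card (by
        rw [hidx, hpq]
        have h1 : (p * q).minFac ≤ q := Nat.minFac_le_of_dvd hq.two_le (dvd_mul_left q p)
        rcases (Nat.minFac_prime (show p * q ≠ 1 from by nlinarith [hp.two_le, hq.two_le])).dvd_mul.mp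
          (Nat.minFac_dvd (p * q)) with hd | hd
        · have := (Nat.prime_dvd_prime_iff_eq (Nat.minFac_prime (show p * q ≠ 1 from by
            nlinarith [hp.two_le, hq.two_le])) hp).mp hd
          omega
        · exact ((Nat.prime_dvd_prime_iff_eq (Nat.minFac_prime (show p * q ≠ 1 from by
            nlinarith [hp.two_le, hq.two_le])) hq).mp hd).symm)
      have hcy := h.commute_of_normalize hy hz (hyn.conj_mem y (Subgroup.mem_zpowers y) z)
      refine isCyclic_of_orderOf_eq_card (y * z) ?_
      rw [hcy.symm.orderOf_mul_eq_mul_orderOf_of_coprime (by rw [hy, hz]; exact (Nat.coprime_primes hp hq).mpr hne),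
        hy, hz, hpq]

end Cfsg.Agent.S0041
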