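import Cfsg.Statements.S0047
import Mathlib
-- import your own Cfsg.Agent.* helpers here

set_option autoImplicit false
open Cfsg

namespace Cfsg.Agent.S0047

/-- Itô: commutators of elements of two permutable abelian subgroups commute. -/
theorem commutator_commute {G : Type*} [Group G] (A B : Subgroup G) [IsMulCommutative A] [IsMulCommutative B]
    (hAB : ∀ g : G, ∃ a ∈ A, ∃ b ∈ B, g = a * b) {a b a₁ b₁ : G} (ha : a ∈ A) (hb : b ∈ B)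
    (ha₁ : a₁ ∈ A) (hb₁ : b₁ ∈ B) :
    Commute (a * b * a⁻¹ * b⁻¹) (a₁⁻¹ * b₁⁻¹ * a₁ * b₁) := by
  have cA : ∀ x ∈ A, ∀ y ∈ A, x * y = y * x := fun x hx y hy => congrArg Subtype.val (mul_comm' (⟨x, hx⟩ : A) (⟨y, hy⟩ : A))
  have cB : ∀ x ∈ B, ∀ y ∈ B, x * y = y * x := fun x hx y hy => congrArg Subtype.val (mul_comm' (⟨x, hx⟩ : B) ⟨y, hy⟩)
  obtain ⟨a₂, ha₂, b₂, hb₂, h2⟩ := hAB (b₁ * a * b₁⁻¹)
  obtain ⟨a₃', ha₃, b₃', hb₃, h3⟩ := hAB ((a₁ * b * a₁⁻¹)⁻¹)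
  set b₃ := b₃'⁻¹
  set a₃ := a₃'⁻¹
  have h3' : a₁ * b * a₁⁻¹ = b₃ * a₃ := by
    rw [← mul_inv_rev, ← h3, inv_inv]
  have e1 : b₁ * (a * b * a⁻¹ * b⁻¹) * b₁⁻¹ = a₂ * b * a₂⁻¹ * b⁻¹ := by
    calc b₁ * (a * b * a⁻¹ * b⁻¹) * b₁⁻¹
        = (b₁ * a * b₁⁻¹) * (b₁ * b * b₁⁻¹) * (b₁ * a * b₁⁻¹)⁻¹ * (b₁ * b * b₁⁻¹)⁻¹ := by group
      _ = a₂ * b₂ * b * (a₂ * b₂)⁻¹ * b⁻¹ := by rw [h2, cB b₁ hb₁ b hb, mul_inv_cancel_right]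
      _ = a₂ * b * a₂⁻¹ * b⁻¹ := by rw [mul_assoc a₂, cB b₂ hb₂ b hb]; group
  have e2 : ∀ x ∈ A, a₁ * (x * b * x⁻¹ * b⁻¹) * a₁⁻¹ = x * b₃ * x⁻¹ * b₃⁻¹ := fun x hx => by
    calc a₁ * (x * b * x⁻¹ * b⁻¹) * a₁⁻¹
        = (a₁ * x * a₁⁻¹) * (a₁ * b * a₁⁻¹) * (a₁ * x * a₁⁻¹)⁻¹ * (a₁ * b * a₁⁻¹)⁻¹ := by group
      _ = x * (b₃ * a₃) * x⁻¹ * (b₃ * a₃)⁻¹ := by rw [h3', cA a₁ ha₁ x hx, mul_inv_cancel_right]
      _ = x * b₃ * (a₃ * x⁻¹) * a₃⁻¹ * b₃⁻¹ := by group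
      _ = x * b₃ * x⁻¹ * b₃⁻¹ := by rw [cA a₃ (inv_mem ha₃) x⁻¹ (inv_mem hx)]; group
  have e3 : b₁ * (a * b₃ * a⁻¹ * b₃⁻¹) * b₁⁻¹ = a₂ * b₃ * a₂⁻¹ * b₃⁻¹ := by
    calc b₁ * (a * b₃ * a⁻¹ * b₃⁻¹) * b₁⁻¹
        = (b₁ * a * b₁⁻¹) * (b₁ * b₃ * b₁⁻¹) * (b₁ * a * b₁⁻¹)⁻¹ * (b₁ * b₃ * b₁⁻¹)⁻¹ := by group
      _ = a₂ * b₂ * b₃ * (a₂ * b₂)⁻¹ * b₃⁻¹ := by
        rw [h2, cB b₁ hb₁ b₃ (inv_mem hb₃), mul_inv_cancel_right]
      _ = a₂ * b₃ * a₂⁻¹ * b₃⁻¹ := by rw [mul_assoc a₂, cB b₂ hb₂ b₃ (inv_mem hb₃)]; group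
  have h : (a₁ * b₁) * (a * b * a⁻¹ * b⁻¹) * (a₁ * b₁)⁻¹ = (b₁ * a₁) * (a * b * a⁻¹ * b⁻¹) * (b₁ * a₁)⁻¹ := by
    calc _ = a₁ * (b₁ * (a * b * a⁻¹ * b⁻¹) * b₁⁻¹) * a₁⁻¹ := by group
      _ = a₂ * b₃ * a₂⁻¹ * b₃⁻¹ := by rw [e1, e2 a₂ ha₂]
      _ = b₁ * (a₁ * (a * b * a⁻¹ * b⁻¹) * a₁⁻¹) * b₁⁻¹ := by rw [e2 a ha, e3]
      _ = _ := by group
  have h' := congrArg (fun w => (b₁ * a₁)⁻¹ * w * (a₁ * b₁)) h
  show a * b * a⁻¹ * b⁻¹ * (a₁⁻¹ * b₁⁻¹ * a₁ * b₁) = a₁⁻¹ * b₁⁻¹ * a₁ * b₁ * (a * b * a⁻¹ * b⁻¹)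
  simpa [mul_assoc] using h'.symm


/-- A finite group which is the product AB of two abelian subgroups A and B is solvable. -/
theorem result {G : Type*} [Group G] [Finite G] (A B : Subgroup G)
    [IsMulCommutative A] [IsMulCommutative B] (hAB : ∀ g : G, ∃ a ∈ A, ∃ b ∈ B, g = a * b) :
    Group.IsSolvable G := by
  set s : Set G := {w | ∃ a ∈ A, ∃ b ∈ B, w = a * b * a⁻¹ * b⁻¹} with hs
  set N := Subgroup.closure s with hN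
  have hcomm : ∀ x ∈ N, ∀ y ∈ N, x * y = y * x := by
    have hgen : ∀ x ∈ s, ∀ y ∈ s, x * y = y * x := by
      rintro _ ⟨a, ha, b, hb, rfl⟩ _ ⟨a', ha', b', hb', rfl⟩
      have := commutator_commute A B hAB ha hb (inv_mem ha') (inv_mem hb')
      simpa using this.eq
    have h1 : s ⊆ Subgroup.centralizer s := fun x hx => Subgroup.mem_centralizer_iff.2 fun y hy => hgen y hy x hx
    have h2 : N ≤ Subgroup.centralizer s := (Subgroup.closure_le _).2 h1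
    have h3 : N ≤ Subgroup.centralizer (N : Set G) := by
      refine (Subgroup.closure_le _).2 fun x hx => Subgroup.mem_centralizer_iff.2 fun y hy => ?_
      exact (Subgroup.mem_centralizer_iff.1 (h2 hy) x hx).symm
    exact fun x hx y hy => (Subgroup.mem_centralizer_iff.1 (h3 hy) x hx)
  have cA : ∀ x ∈ A, ∀ y ∈ A, x * y = y * x := fun x hx y hy => congrArg Subtype.val (mul_comm' (⟨x, hx⟩ : A) (⟨y, hy⟩ : A))
  have cB : ∀ x ∈ B, ∀ y ∈ B, x * y = y * x := fun x hx y hy => congrArg Subtype.val (mul_comm' (⟨x, hx⟩ : B) ⟨y, hy⟩)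
  have mA : ∀ c ∈ A, ∀ w ∈ s, c * w * c⁻¹ ∈ N := by
    rintro c hc _ ⟨a, ha, b, hb, rfl⟩
    have e : c * (a * b * a⁻¹ * b⁻¹) * c⁻¹ = (c * a) * b * (c * a)⁻¹ * b⁻¹ * (c * b * c⁻¹ * b⁻¹)⁻¹ := by group
    rw [e]
    exact mul_mem (Subgroup.subset_closure ⟨_, mul_mem hc ha, b, hb, rfl⟩)
      (inv_mem (Subgroup.subset_closure ⟨c, hc, b, hb, rfl⟩))
  have mB : ∀ c ∈ B, ∀ w ∈ s, c * w * c⁻¹ ∈ N := by
    rintro c hc _ ⟨a, ha, b, hb, rfl⟩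
    have e : c * (a * b * a⁻¹ * b⁻¹) * c⁻¹ = (a * c * a⁻¹ * c⁻¹)⁻¹ * (a * (c * b) * a⁻¹ * (c * b)⁻¹) := by group
    rw [e]
    exact mul_mem (inv_mem (Subgroup.subset_closure ⟨a, ha, c, hc, rfl⟩))
      (Subgroup.subset_closure ⟨a, ha, _, mul_mem hc hb, rfl⟩)
  have hgen : ∀ c : G, (∀ w ∈ s, c * w * c⁻¹ ∈ N) → ∀ x ∈ N, c * x * c⁻¹ ∈ N := by
    intro c hc x hx
    induction hx using Subgroup.closure_induction with
    | mem w hw => exact hc w hw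
    | one => simp [one_mem]
    | mul u v _ _ hu hv => rw [← conj_mul]; exact mul_mem hu hv
    | inv u _ hu => rw [← conj_inv]; exact inv_mem hu
  haveI : N.Normal := ⟨fun x hx g => by
    obtain ⟨a, ha, b, hb, rfl⟩ := hAB g
    have := hgen a (mA a ha) _ (hgen b (mB b hb) x hx)
    simpa [mul_assoc] using this⟩
  haveI : Group.IsSolvable N := Group.isSolvable_of_comm fun x y => Subtype.ext (hcomm x x.2 y y.2)
  haveI : Group.IsSolvable (G ⧸ N) := Group.isSolvable_of_comm fun x y => by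
    obtain ⟨g, rfl⟩ := QuotientGroup.mk'_surjective N x
    obtain ⟨g', rfl⟩ := QuotientGroup.mk'_surjective N y
    obtain ⟨a, ha, b, hb, rfl⟩ := hAB g
    obtain ⟨a', ha', b', hb', rfl⟩ := hAB g'
    have hq : ∀ u ∈ A, ∀ v ∈ B, Commute (QuotientGroup.mk' N u) (QuotientGroup.mk' N v) := by
      intro u hu v hv
      have h1 : QuotientGroup.mk' N (u * v * u⁻¹ * v⁻¹) = 1 :=
        (QuotientGroup.eq_one_iff _).2 (Subgroup.subset_closure ⟨u, hu, v, hv, rfl⟩)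
      rw [map_mul, map_mul, map_mul, map_inv, map_inv, mul_inv_eq_one, mul_inv_eq_iff_eq_mul] at h1
      exact h1
    simp only [map_mul]
    have c1 : Commute (QuotientGroup.mk' N a) (QuotientGroup.mk' N a') := (show Commute a a' from cA a ha a' ha').map _
    have c2 : Commute (QuotientGroup.mk' N b) (QuotientGroup.mk' N b') := (show Commute b b' from cB b hb b' hb').map _
    exact ((c1.mul_left (hq a' ha' b hb).symm).mul_right ((hq a ha b' hb').mul_left c2)).eq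
  exact Group.isSolvable_of_ker_le_range N.subtype (QuotientGroup.mk' N) (le_of_eq (by simp))

end Cfsg.Agent.S0047
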