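import Cfsg.Statements.S0048
import Cfsg.Agent.Lib.Grp.Solvable
-- import your own Cfsg.Agent.* helpers here

set_option autoImplicit false
open Cfsg

namespace Cfsg.Agent.S0048

universe w

theorem index_aux : ∀ (n : ℕ) (G : Type w) [Group G] [Finite G] [Group.IsSolvable G], Nat.card G = n →
    ∀ M : Subgroup G, IsCoatom M → IsPrimePow M.index := by
  intro n
  induction n using Nat.strong_induction_on with
  | _ n ih =>
  intro G _ _ _ hn M hM
  have : Nontrivial G := by
    by_contra h
    rw [not_nontrivial_iff_subsingleton] at h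
    exact hM.1 (eq_top_iff.mpr fun x _ => Subsingleton.elim (1:G) x ▸ one_mem M)
  obtain ⟨N, hNn, hNb, -, hNmin⟩ := Cfsg.Agent.Grp.exists_minimal_normal_le (N := (⊤ : Subgroup G)) top_ne_bot
  by_cases hNM : N ≤ M
  · set f := QuotientGroup.mk' N
    have hf : Function.Surjective f := QuotientGroup.mk'_surjective N
    have hker : f.ker ≤ M := by rw [QuotientGroup.ker_mk']; exact hNM
    have hco : IsCoatom (M.map f) := by
      refine ⟨fun e => hM.1 ?_, fun H hH => ?_⟩
      · rw [← Subgroup.comap_map_eq_self hker, e, Subgroup.comap_top]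
      · have : M < H.comap f := by
          refine lt_of_le_of_ne (Subgroup.map_le_iff_le_comap.mp hH.le) fun e => hH.ne ?_
          rw [e, Subgroup.map_comap_eq_self_of_surjective hf]
        rw [← Subgroup.map_comap_eq_self_of_surjective hf H, hM.2 _ this, Subgroup.map_top_of_surjective f hf]
    have := ih _ (hn ▸ Cfsg.Agent.Grp.card_quotient_lt hNb) (G ⧸ N) rfl _ hco
    rwa [Subgroup.index_map_eq M hf hker] at this
  · obtain ⟨hab, -⟩ := Cfsg.Agent.Grp.minimal_normal_solvable inferInstance hNb hNmin
    obtain ⟨p, hp, hNp⟩ := Cfsg.Agent.Grp.minimal_normal_solvable_isPGroup inferInstance hNb hNmin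
    have := Fact.mk hp
    have hsup : M ⊔ N = ⊤ := hM.2 _ (lt_of_le_of_ne le_sup_left fun e => hNM (e ▸ le_sup_right))
    have hint : (M ⊓ N).Normal := by
      refine Subgroup.normalizer_eq_top_iff.mp (eq_top_iff.mpr (hsup.ge.trans (sup_le ?_ ?_)))
      · intro m hm
        rw [Cfsg.Agent.Grp.mem_normalizer_iff_smul, Subgroup.smul_inf, (Cfsg.Agent.Grp.mem_normalizer_iff_smul.mp (Subgroup.le_normalizer hm)),
          Cfsg.Agent.Grp.mem_normalizer_iff_smul.mp (show m ∈ Subgroup.normalizer (N : Set G) by
            rw [Subgroup.normalizer_eq_top]; trivial)]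
      · intro x hx
        refine Subgroup.centralizer_le_normalizer _ (Subgroup.mem_centralizer_iff.mpr fun y hy => ?_)
        exact congrArg Subtype.val (mul_comm' (⟨y, hy.2⟩ : N) ⟨x, hx⟩)
    have hbot : M ⊓ N = ⊥ := (hNmin _ hint inf_le_right).resolve_right fun e => hNM (e ▸ inf_le_left)
    have hc := Cfsg.Agent.Grp.card_sup_mul_card_inf_normal (H := M) (N := N)
    rw [hsup, hbot, Subgroup.card_top, Subgroup.card_bot, mul_one, ← Subgroup.card_mul_index M] at hc
    obtain ⟨k, hk⟩ := IsPGroup.iff_card.mp hNp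
    have hk0 : k ≠ 0 := fun h => hNb (Subgroup.card_eq_one.mp (by rw [hk, h, pow_zero]))
    rw [Nat.eq_of_mul_eq_mul_left Nat.card_pos hc, hk]
    exact ⟨p, k, hp.prime, Nat.pos_of_ne_zero hk0, rfl⟩

/-- In a finite solvable group every maximal subgroup has index a prime power. -/
theorem result {G : Type*} [Group G] [Finite G] [Group.IsSolvable G]
    (M : Subgroup G) (hM : IsCoatom M) : IsPrimePow M.index := by
  exact index_aux _ G rfl M hM

end Cfsg.Agent.S0048
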