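import Cfsg.Statements.S0049
import Cfsg.Agent.Lib.Grp.Cores
-- import your own Cfsg.Agent.* helpers here

set_option autoImplicit false
open Cfsg

namespace Cfsg.Agent.S0049

/-- A prime divisor of the order of a finite group also divides the index of the Frattini subgroup. -/
theorem result {G : Type*} [Group G] [Finite G] (p : ℕ) (hp : p.Prime) (hdvd : p ∣ Nat.card G) :
    p ∣ (frattini G).index := by
  have := Fact.mk hp
  obtain ⟨P⟩ : Nonempty (Sylow p G) := Sylow.nonempty
  by_contra hni
  have hP : (P : Subgroup G) ≤ frattini G :=
    Cfsg.Agent.Grp.le_of_coprime_index (by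
      obtain ⟨n, hn⟩ := IsPGroup.iff_card.mp P.isPGroup'
      rw [hn]; exact (hp.coprime_iff_not_dvd.mpr hni).pow_left n)
  have hnil : Group.IsNilpotent (frattini G) := frattini_nilpotent
  set Q : Sylow p (frattini G) := P.subtype hP
  have : (Q : Subgroup (frattini G)).Characteristic := Q.characteristic_of_normal inferInstance
  have hPn : (P : Subgroup G).Normal := by
    have h : ((Q : Subgroup (frattini G)).map (frattini G).subtype).Normal := inferInstance
    rwa [show ((Q : Subgroup (frattini G)).map (frattini G).subtype) = P from
      Subgroup.map_subgroupOf_eq_of_le hP] at h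
  obtain ⟨K, hK⟩ := Subgroup.exists_right_complement'_of_coprime (N := (P : Subgroup G)) P.card_coprime_index
  have htop := frattini_nongenerating (K := K)
    (eq_top_iff.mpr ((hK.sup_eq_top.ge).trans (sup_le (hP.trans le_sup_right) le_sup_left)))
  have := hK.card_mul_card
  rw [htop, Subgroup.card_top] at this
  have h1 : Nat.card (P : Subgroup G) = 1 := Nat.eq_of_mul_eq_mul_right Nat.card_pos (this.trans (one_mul _).symm)
  have h2 := P.dvd_card_of_dvd_card hdvd
  rw [h1] at h2
  exact hp.one_lt.ne' (Nat.dvd_one.mp h2)

end Cfsg.Agent.S0049
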