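import Cfsg.Statements.S0050
import Cfsg.Agent.Lib.Grp.Hall
import Cfsg.Agent.Lib.Grp.Coprime
-- import your own Cfsg.Agent.* helpers here

set_option autoImplicit false
open Cfsg

namespace Cfsg.Agent.S0050

open scoped Pointwise

/-- Frattini argument for Hall subgroups: if L is a solvable normal subgroup and H a subgroup of L of order coprime to its index in L, then L together with the normaliser of H generates the whole group. -/
theorem result {G : Type*} [Group G] [Finite G] (L : Subgroup G) [L.Normal] (hL : Group.IsSolvable L)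
    (H : Subgroup G) (hHL : H ≤ L) (hHall : (Nat.card H).Coprime (H.relIndex L)) :
    L ⊔ Subgroup.normalizer (H : Set G) = ⊤ := by
  rw [eq_top_iff]
  intro g _
  have hgL : MulAut.conj g • L = L :=
    Cfsg.Agent.Grp.mem_normalizer_iff_smul.mp (by rw [Subgroup.normalizer_eq_top]; trivial)
  have hle : MulAut.conj g • H ≤ L := hgL ▸ Subgroup.pointwise_smul_le_pointwise_smul_iff.mpr hHL
  obtain ⟨x, hx⟩ := Cfsg.Agent.Grp.hall_conj (Cfsg.Agent.Grp.card_mul_relIndex hHL).symm hHall
    (H := H.subgroupOf L) (K := (MulAut.conj g • H).subgroupOf L)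
    (Nat.card_congr (Subgroup.subgroupOfEquivOfLe hHL).toEquiv)
    ((Nat.card_congr (Subgroup.subgroupOfEquivOfLe hle).toEquiv).trans (Cfsg.Agent.Grp.card_conj_smul g H))
  have hx' : MulAut.conj (x : G) • H = MulAut.conj g • H := by
    have := congrArg (Subgroup.map L.subtype) hx
    rwa [← Cfsg.Agent.Grp.conj_smul_map, Subgroup.map_subgroupOf_eq_of_le hHL,
      Subgroup.map_subgroupOf_eq_of_le hle] at this
  have hn : (x : G)⁻¹ * g ∈ Subgroup.normalizer (H : Set G) := by
    rw [Cfsg.Agent.Grp.mem_normalizer_iff_smul, ← Cfsg.Agent.Grp.conj_smul_conj_smul, ← hx',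
      Cfsg.Agent.Grp.conj_smul_conj_smul, inv_mul_cancel, map_one, one_smul]
  simpa using Subgroup.mul_mem_sup x.2 hn

end Cfsg.Agent.S0050
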