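import Cfsg.Statements.S0052
import Cfsg.Agent.Lib.Grp.Coprime
-- import your own Cfsg.Agent.* helpers here

set_option autoImplicit false
open Pointwise
open Cfsg

namespace Cfsg.Agent.S0052

open scoped Pointwise

/-- Gaschütz's Theorem, conjugacy: for an abelian normal subgroup K ≤ U with the order of K coprime to the index of U, two complements of K in G having the same intersection with U are conjugate. -/
theorem result {G : Type*} [Group G] [Finite G] (K U : Subgroup G) [K.Normal] [IsMulCommutative K]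
    (hKU : K ≤ U) (hcop : (Nat.card K).Coprime U.index)
    (H₀ H₁ : Subgroup G) (h₀ : Subgroup.IsComplement' K H₀) (h₁ : Subgroup.IsComplement' K H₁) (hU : H₀ ⊓ U = H₁ ⊓ U) :
    ∃ g : G, MulAut.conj g • H₀ = H₁ := by
  classical
  let _ : Fintype (G ⧸ U) := Fintype.ofFinite _
  open scoped IsMulCommutative in
  let _ : CommGroup K := inferInstance
  have hex : ∀ (H : Subgroup G), Subgroup.IsComplement' K H → ∀ x : G, ∃ r : H, x * (r : G)⁻¹ ∈ K := by
    intro H h x
    have hx : x ∈ K ⊔ H := by rw [h.sup_eq_top]; trivial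
    obtain ⟨k, hk, r, hr, rfl⟩ := Subgroup.mem_sup_of_normal_left.mp hx
    exact ⟨⟨r, hr⟩, by simpa [mul_assoc] using hk⟩
  choose r0 hr0 using hex H₀ h₀
  choose r1 hr1 using hex H₁ h₁
  have huniq : ∀ (H : Subgroup G), Subgroup.IsComplement' K H → ∀ (x : G) (a b : G), a ∈ H → b ∈ H →
      x * a⁻¹ ∈ K → x * b⁻¹ ∈ K → a = b := by
    intro H h x a b ha hb hxa hxb
    have hm : a * b⁻¹ ∈ K ⊓ H := ⟨by simpa [mul_assoc] using K.mul_mem (K.inv_mem hxa) hxb, H.mul_mem ha (H.inv_mem hb)⟩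
    rw [disjoint_iff.mp h.disjoint, Subgroup.mem_bot, mul_inv_eq_one] at hm
    exact hm
  have hmul : ∀ (H : Subgroup G) (r : G → H), (∀ x, x * (r x : G)⁻¹ ∈ K) → Subgroup.IsComplement' K H →
      ∀ x y, (r (x * y) : G) = r x * r y := by
    intro H r hr h x y
    refine huniq H h (x * y) _ _ (r (x * y)).2 (H.mul_mem (r x).2 (r y).2) (hr _) ?_
    rw [show x * y * ((r x : G) * r y)⁻¹ = (x * (y * (r y : G)⁻¹) * x⁻¹) * (x * (r x : G)⁻¹) by group]
    exact K.mul_mem (Subgroup.Normal.conj_mem inferInstance _ (hr y) x) (hr x)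
  have hdK : ∀ x, (r1 x : G) * (r0 x : G)⁻¹ ∈ K := fun x => by
    simpa [mul_assoc] using K.mul_mem (K.inv_mem (hr1 x)) (hr0 x)
  let d : G → K := fun x => ⟨_, hdK x⟩
  have hφm : ∀ (g : G) (k : K), g * k * g⁻¹ ∈ K := fun g k => Subgroup.Normal.conj_mem inferInstance _ k.2 g
  let φ : G → K →* K := fun g =>
    { toFun := fun k => ⟨_, hφm g k⟩
      map_one' := Subtype.ext (by simp)
      map_mul' := fun _ _ => Subtype.ext (by simp [mul_assoc]) }
  have hcoc : ∀ x y, d (x * y) = d x * φ (r0 x : G) (d y) := by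
    intro x y
    refine Subtype.ext ?_
    show (r1 (x * y) : G) * (r0 (x * y) : G)⁻¹ = (r1 x : G) * (r0 x : G)⁻¹ * ((r0 x : G) * ((r1 y : G) * (r0 y : G)⁻¹) * (r0 x : G)⁻¹)
    rw [hmul H₁ r1 hr1 h₁, hmul H₀ r0 hr0 h₀]
    group
  have hdU : ∀ u ∈ U, d u = 1 := by
    intro u hu
    refine Subtype.ext (mul_inv_eq_one.mpr ?_)
    have h0 : (r0 u : G) ∈ H₁ ⊓ U := by
      rw [← hU]
      exact ⟨(r0 u).2, by simpa [mul_assoc] using U.mul_mem (U.inv_mem (hKU (hr0 u))) hu⟩
    exact huniq H₁ h₁ u _ _ (r1 u).2 h0.1 (hr1 u) (hr0 u)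
  have hdU' : ∀ x u, u ∈ U → d (x * u) = d x := fun x u hu => by rw [hcoc, hdU u hu, map_one, mul_one]
  let D : K := ∏ q : G ⧸ U, d q.out
  have hshift : ∀ x : G, ∏ q : G ⧸ U, d (x * q.out) = D := by
    intro y
    refine Fintype.prod_equiv (MulAction.toPerm y) _ _ fun q => ?_
    obtain ⟨u, hu⟩ := QuotientGroup.mk_out_eq_mul U (y * q.out)
    have : (MulAction.toPerm y q : G ⧸ U) = ((y * q.out : G) : G ⧸ U) := by
      conv_lhs => rw [← QuotientGroup.out_eq' q]
      rfl
    rw [this, hu, hdU' _ _ u.2]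
  let k : K := (powCoprime hcop).symm D
  have hk : k ^ U.index = D := (powCoprime hcop).apply_symm_apply D
  have hd : ∀ x, k = d x * φ (r0 x : G) k := by
    intro x
    have h1 := Finset.prod_congr (s₁ := (Finset.univ : Finset (G ⧸ U))) rfl fun q _ => hcoc x q.out
    rw [hshift, Finset.prod_mul_distrib, Finset.prod_const, Finset.card_univ, ← Nat.card_eq_fintype_card,
      ← Subgroup.index_eq_card, ← map_prod] at h1
    refine (powCoprime hcop).injective ?_
    show k ^ U.index = (d x * φ (r0 x : G) k) ^ U.index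
    rw [mul_pow, hk, ← map_pow, hk]
    exact h1
  refine ⟨(k : G), le_antisymm ?_ ?_⟩
  all_goals intro z hz
  · rw [Cfsg.Agent.Grp.mem_smul_conj] at hz
    set w := (k : G)⁻¹ * z * (k : G) with hw
    have h0 : (r0 w : G) = w := huniq H₀ h₀ w _ _ (r0 w).2 hz (hr0 w) (by simp)
    have e := congrArg Subtype.val (hd w)
    change (k : G) = (r1 w : G) * (r0 w : G)⁻¹ * ((r0 w : G) * k * (r0 w : G)⁻¹) at e
    rw [h0] at e
    have : z = (r1 w : G) := by
      have e2 : (k : G) * w = (r1 w : G) * k := by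
        calc (k : G) * w = (r1 w : G) * w⁻¹ * (w * k * w⁻¹) * w := by rw [← e]
          _ = _ := by group
      rw [show z = (k : G) * w * (k : G)⁻¹ by rw [hw]; group, e2, mul_inv_cancel_right]
    exact this ▸ (r1 w).2
  · rw [Cfsg.Agent.Grp.mem_smul_conj]
    have h1 : (r1 z : G) = z := huniq H₁ h₁ z _ _ (r1 z).2 hz (hr1 z) (by simp)
    have e := congrArg Subtype.val (hd z)
    change (k : G) = (r1 z : G) * (r0 z : G)⁻¹ * ((r0 z : G) * k * (r0 z : G)⁻¹) at e
    rw [h1] at e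
    have e2 : (k : G)⁻¹ * z * k = r0 z := by
      have e3 : (k : G) * r0 z = z * k := by
        calc (k : G) * r0 z = z * (r0 z : G)⁻¹ * ((r0 z : G) * k * (r0 z : G)⁻¹) * r0 z := by rw [← e]
          _ = _ := by group
      rw [mul_assoc, ← e3, inv_mul_cancel_left]
    rw [e2]; exact (r0 z).2

end Cfsg.Agent.S0052
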