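import Cfsg.Statements.S0053
import Cfsg.Agent.Lib.Grp.Basic
-- import your own Cfsg.Agent.* helpers here

set_option autoImplicit false
open Cfsg

namespace Cfsg.Agent.S0053

open scoped Pointwise

/-- An abelian minimal normal subgroup N of a finite group is complemented exactly when N is not inside the Frattini subgroup. -/
theorem result {G : Type*} [Group G] [Finite G]
    (N : Subgroup G) [N.Normal] [IsMulCommutative N] (hN : N ≠ ⊥)
    (hmin : ∀ M : Subgroup G, M.Normal → M ≤ N → M = ⊥ ∨ M = N) :
    (∃ H : Subgroup G, Subgroup.IsComplement' N H) ↔ ¬ N ≤ frattini G := by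
  constructor
  · rintro ⟨H, hH⟩ hle
    have hne : H ≠ ⊤ := by
      intro h
      have := hH.disjoint
      rw [h, disjoint_top] at this
      exact hN this
    have := frattini_nongenerating (K := H) (eq_top_iff.mpr (hH.sup_eq_top.ge.trans
      (sup_le (hle.trans le_sup_right) le_sup_left)))
    exact hne this
  · intro hnle
    obtain ⟨M, hM, hNM⟩ : ∃ M : Subgroup G, IsCoatom M ∧ ¬ N ≤ M := by
      by_contra h
      push Not at h
      exact hnle (le_iInf₂ fun M hM => h M hM)
    have hsup : M ⊔ N = ⊤ := hM.2 _ (lt_of_le_of_ne le_sup_left fun e => hNM (e ▸ le_sup_right))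
    have hint : (M ⊓ N).Normal := by
      refine Subgroup.normalizer_eq_top_iff.mp (eq_top_iff.mpr (hsup.ge.trans (sup_le ?_ ?_)))
      · intro m hm
        rw [Cfsg.Agent.Grp.mem_normalizer_iff_smul, Subgroup.smul_inf,
          Cfsg.Agent.Grp.mem_normalizer_iff_smul.mp (Subgroup.le_normalizer hm),
          Cfsg.Agent.Grp.mem_normalizer_iff_smul.mp (show m ∈ Subgroup.normalizer (N : Set G) by
            rw [Subgroup.normalizer_eq_top]; trivial)]
      · intro x hx
        refine Subgroup.centralizer_le_normalizer _ (Subgroup.mem_centralizer_iff.mpr fun y hy => ?_)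
        exact congrArg Subtype.val (mul_comm' (⟨y, hy.2⟩ : N) ⟨x, hx⟩)
    have hbot : M ⊓ N = ⊥ := (hmin _ hint inf_le_right).resolve_right fun e => hNM (e ▸ inf_le_left)
    refine ⟨M, Subgroup.isComplement'_of_disjoint_and_mul_eq_univ (disjoint_iff.mpr (by rw [inf_comm]; exact hbot)) ?_⟩
    rw [← Subgroup.normal_mul, sup_comm, hsup]
    rfl

end Cfsg.Agent.S0053
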