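import Cfsg.Statements.S0056
import Cfsg.Agent.Lib.Grp.CoprimeAbelian
-- import your own Cfsg.Agent.* helpers here

set_option autoImplicit false
open Cfsg

namespace Cfsg.Agent.S0056

/-- A coprime action on an abelian group that fixes all elements of prime order is trivial. -/
theorem result {G : Type*} [Group G] [Finite G] (A V : Subgroup G) [IsMulCommutative V]
    (hAV : A ≤ Subgroup.normalizer (V : Set G)) (hcop : (Nat.card A).Coprime (Nat.card V))
    (hΩ : ∀ v ∈ V, (orderOf v).Prime → ∀ a ∈ A, a * v = v * a) : A ≤ Subgroup.centralizer (V : Set G) := by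
  rw [← Subgroup.commutator_eq_bot_iff_le_centralizer, Subgroup.commutator_comm]
  by_contra hne
  obtain ⟨x, hx, hxp⟩ := Cfsg.Agent.Grp.exists_prime_order_mem hne
  have hxV := Cfsg.Agent.Grp.commutator_le_left_of_le_normalizer hAV hx
  have : x ∈ (V ⊓ Subgroup.centralizer (A : Set G)) ⊓ ⁅V, A⁆ :=
    ⟨⟨hxV, Subgroup.mem_centralizer_iff.mpr fun a ha => hΩ x hxV hxp a ha⟩, hx⟩
  rw [Cfsg.Agent.Grp.abelian_commutator_inf_fixed A V hAV hcop, Subgroup.mem_bot] at this
  rw [this, orderOf_one] at hxp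
  exact Nat.not_prime_one hxp

end Cfsg.Agent.S0056
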