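import Cfsg.Statements.S0057
import Cfsg.Agent.Lib.Grp.Coprime
import Cfsg.Agent.Lib.Grp.CoprimeAbelian
import Cfsg.Agent.Lib.Grp.Frattini
-- import your own Cfsg.Agent.* helpers here

set_option autoImplicit false
open Cfsg

namespace Cfsg.Agent.S0057

open scoped Pointwise commutatorElement

/-- Under coprime action, if the centraliser of A in K has prime index p in K then the commutator subgroup [K, A] has order exactly p. -/
theorem result {G : Type*} [Group G] [Finite G] (A K : Subgroup G) (hAK : A ≤ Subgroup.normalizer (K : Set G))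
    (hcop : (Nat.card A).Coprime (Nat.card K)) (hsolv : Group.IsSolvable A ∨ Group.IsSolvable K)
    (p : ℕ) (hp : p.Prime) (hidx : (K ⊓ Subgroup.centralizer (A : Set G)).relIndex K = p) :
    Nat.card (⁅K, A⁆ : Subgroup G) = p := by
  have := Fact.mk hp
  set D := ⁅K, A⁆ with hD
  set C := K ⊓ Subgroup.centralizer (A : Set G) with hC
  have hDK : D ≤ K := Cfsg.Agent.Grp.commutator_le_left_of_le_normalizer hAK
  have hKD := Cfsg.Agent.Grp.left_le_normalizer_commutator A K
  have hAD := Cfsg.Agent.Grp.right_le_normalizer_commutator A K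
  have hsupK : D ⊔ C = K := Cfsg.Agent.Grp.commutator_sup_fixed A K hAK hcop hsolv
  have hDD : ⁅D, A⁆ = D := Cfsg.Agent.Grp.commutator_commutator_eq A K hAK hcop hsolv
  set CD := D ⊓ Subgroup.centralizer (A : Set G)
  have hcopD := hcop.coprime_dvd_right (Subgroup.card_dvd_of_le hDK)
  have hsolvD := hsolv.imp_right (Cfsg.Agent.Grp.isSolvable_of_le hDK)
  have hidxD : CD.relIndex D = p := by
    have e1 := Cfsg.Agent.Grp.card_sup_mul_card_inf (H := C) (N := D) (inf_le_left.trans hKD)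
    rw [sup_comm, hsupK, show C ⊓ D = CD by
      rw [hC, inf_comm K, inf_assoc, inf_eq_right.mpr hDK, inf_comm]] at e1
    have e2 := Cfsg.Agent.Grp.card_mul_relIndex (inf_le_left : C ≤ K)
    have e3 := Cfsg.Agent.Grp.card_mul_relIndex (inf_le_left : CD ≤ D)
    rw [hidx] at e2
    rw [← e2, ← e3] at e1
    refine (Nat.eq_of_mul_eq_mul_left (Nat.mul_pos (Nat.card_pos (α := C)) (Nat.card_pos (α := CD))) ?_).symm
    linarith [e1]
  obtain ⟨X, hX⟩ := Cfsg.Agent.Grp.exists_isSylowIn p CD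
  obtain ⟨P₀, hP₀, hP₀A⟩ := Cfsg.Agent.Grp.exists_invariant_sylow A D hAD hcopD hsolvD p
  set CP := P₀ ⊓ Subgroup.centralizer (A : Set G)
  have hP₀D : P₀ ≤ D := hP₀.1
  have hCPne : CP ≠ P₀ := by
    intro h
    have hle : P₀ ≤ CD := le_inf hP₀D (inf_eq_left.mp h)
    exact hP₀.2.2 ((hidxD.ge.trans hidxD.le |> fun _ => hidxD ▸ Subgroup.relIndex_dvd_of_le_left D hle))
  have hcover : P₀ ⊔ CD = D ∧ ∀ d ∈ D, ∃ u ∈ P₀, ∃ c ∈ CD, d = c * u := by
    have hcp : p ≤ (CD.subgroupOf P₀).index := by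
      obtain ⟨n, hn⟩ := hP₀.2.1.index (CD.subgroupOf P₀)
      rcases n with _ | n
      · refine absurd (le_antisymm inf_le_left (le_inf le_rfl ?_)) hCPne
        exact (Subgroup.relIndex_eq_one.mp (show CD.relIndex P₀ = 1 by simpa [Subgroup.relIndex] using hn)).trans inf_le_right
      · rw [hn]; exact Nat.le_of_dvd (pow_pos hp.pos _) (dvd_pow_self p n.succ_ne_zero)
    set emb := Subgroup.quotientSubgroupOfEmbeddingOfLE CD hP₀D
    have hbij : Function.Bijective emb := by
      refine emb.injective.bijective_of_nat_card_le ?_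
      rw [← Subgroup.index_eq_card, ← Subgroup.index_eq_card, show (CD.subgroupOf D).index = p from hidxD]
      exact hcp
    have hsurj : ∀ d ∈ D, ∃ u ∈ P₀, ∃ c ∈ CD, d = u * c := by
      intro d hd
      obtain ⟨q, hq⟩ := hbij.2 (QuotientGroup.mk ⟨d, hd⟩)
      induction q using QuotientGroup.induction_on with
      | _ u =>
        rw [Subgroup.quotientSubgroupOfEmbeddingOfLE_apply_mk, QuotientGroup.eq] at hq
        exact ⟨u, u.2, (u : G)⁻¹ * d, hq, by group⟩
    refine ⟨le_antisymm (sup_le hP₀D inf_le_left) fun d hd => ?_, fun d hd => ?_⟩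
    · obtain ⟨u, hu, c, hc, rfl⟩ := hsurj d hd
      exact Subgroup.mul_mem_sup hu hc
    · obtain ⟨u, hu, c, hc, h⟩ := hsurj d⁻¹ (D.inv_mem hd)
      exact ⟨u⁻¹, P₀.inv_mem hu, c⁻¹, CD.inv_mem hc, by rw [← mul_inv_rev, ← h, inv_inv]⟩
  have hnorm : D ≤ Subgroup.normalizer (P₀ : Set G) := by
    rw [← hDD, Subgroup.commutator_le]
    intro d hd a ha
    obtain ⟨u, hu, c, hc, rfl⟩ := hcover.2 d hd
    -- every Sylow subgroup `c P₀ c⁻¹` is invariant
    have hQ : ∀ b ∈ D, A ≤ Subgroup.normalizer ((MulAut.conj b • P₀ : Subgroup G) : Set G) := by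
      intro b hb
      obtain ⟨v, hv, c', hc', rfl⟩ := hcover.2 b hb
      rw [← Cfsg.Agent.Grp.conj_smul_conj_smul, Cfsg.Agent.Grp.conj_smul_eq_self_of_mem hv]
      intro a' ha'
      rw [Cfsg.Agent.Grp.mem_normalizer_iff_smul, Cfsg.Agent.Grp.conj_smul_conj_smul,
        Subgroup.mem_centralizer_iff.mp hc'.2 a' ha', ← Cfsg.Agent.Grp.conj_smul_conj_smul,
        Cfsg.Agent.Grp.normalizer_le_smul hP₀A ha']
    have h1 := hQ (c * u)⁻¹ (D.inv_mem hd) ha
    rw [Cfsg.Agent.Grp.mem_normalizer_iff_smul] at h1 ⊢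
    rw [Cfsg.Agent.Grp.conj_smul_conj_smul] at h1
    have h2 := congrArg (fun Z => MulAut.conj (c * u) • Z) h1
    simp only [Cfsg.Agent.Grp.conj_smul_conj_smul, mul_inv_cancel, map_one, one_smul] at h2
    have h3 : MulAut.conj a⁻¹ • P₀ = P₀ := Cfsg.Agent.Grp.normalizer_le_smul hP₀A (A.inv_mem ha)
    calc MulAut.conj ⁅c * u, a⁆ • P₀ = MulAut.conj (c * u * a * (c * u)⁻¹) • MulAut.conj a⁻¹ • P₀ := by
          rw [Cfsg.Agent.Grp.conj_smul_conj_smul]; rfl
      _ = P₀ := by rw [h3, mul_assoc (c * u) a, h2]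
  have hDP : D = P₀ := by
    refine le_antisymm ?_ hP₀D
    conv_lhs => rw [← hDD]
    rw [Subgroup.commutator_le]
    intro d hd a ha
    obtain ⟨u, hu, c, hc, rfl⟩ := hcover.2 d hd
    rw [commutatorElement_mul_left_eq_conj_mul, commutatorElement_eq_one_iff_mul_comm.mpr
      (Subgroup.mem_centralizer_iff.mp hc.2 a ha).symm, mul_one]
    exact (Subgroup.mem_normalizer_iff.mp (hnorm hc.1) _).mp
      (Cfsg.Agent.Grp.commutator_le_left_of_le_normalizer hP₀A (Subgroup.commutator_mem_commutator hu ha))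
  have hDp : IsPGroup p D := hDP ▸ hP₀.2.1
  have : Group.IsNilpotent D := hDp.isNilpotent
  have hCDn : (CD.subgroupOf D).Normal := by
    refine (Cfsg.Agent.Grp.coatom_index_eq_of_pGroup hDp ?_).1
    refine ⟨fun e => hp.ne_one ?_, fun H hH => ?_⟩
    · rw [← hidxD]; exact Subgroup.relIndex_eq_one.mpr (Subgroup.subgroupOf_eq_top.mp e)
    · have h1 := Subgroup.relIndex_mul_index hH.le
      rw [show (CD.subgroupOf D).index = p from hidxD] at h1
      rcases (Nat.dvd_prime hp).mp (Dvd.intro_left _ h1) with h | h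
      · exact Subgroup.index_eq_one.mp h
      · rw [h] at h1
        exact absurd (Subgroup.relIndex_eq_one.mp (Nat.eq_of_mul_eq_mul_right hp.pos (h1.trans (one_mul p).symm))) (not_le_of_gt hH)
  have hDN := (Subgroup.normal_subgroupOf_iff_le_normalizer (inf_le_left : CD ≤ D)).mp hCDn
  have hzC : ⁅⁅D, A⁆, CD⁆ = ⊥ := by
    have hCA : ⁅CD, A⁆ = ⊥ := Subgroup.commutator_eq_bot_iff_le_centralizer.mpr inf_le_right
    refine Subgroup.commutator_commutator_eq_bot_of_rotate ?_ ?_
    · rw [Subgroup.commutator_comm A CD, hCA, Subgroup.commutator_bot_left]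
    · refine le_bot_iff.mp (hCA ▸ Subgroup.commutator_mono ?_ le_rfl)
      exact Subgroup.le_normalizer_iff_commutator_le_left.mp hDN
  rw [hDD] at hzC
  have hcent : D ≤ Subgroup.centralizer (CD : Set G) := Subgroup.commutator_eq_bot_iff_le_centralizer.mp hzC
  have hcomm : IsMulCommutative D := by
    have hcyc : IsCyclic (D ⧸ CD.subgroupOf D) :=
      isCyclic_of_prime_card (p := p) (by rw [← Subgroup.index_eq_card]; exact hidxD)
    refine (QuotientGroup.mk' (CD.subgroupOf D)).isMulCommutative_of_isCyclic_of_ker_le_center ?_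
    rw [QuotientGroup.ker_mk']
    intro z hz
    rw [Subgroup.mem_center_iff]
    exact fun y => Subtype.ext (Subgroup.mem_centralizer_iff.mp (hcent y.2) z hz).symm
  have hzero := Cfsg.Agent.Grp.abelian_commutator_inf_fixed A D hAD hcopD
  rw [hDD, inf_eq_left.mpr (inf_le_left : CD ≤ D)] at hzero
  have e3 := Cfsg.Agent.Grp.card_mul_relIndex (inf_le_left : CD ≤ D)
  rw [hidxD, show D ⊓ Subgroup.centralizer (A : Set G) = ⊥ from hzero, Subgroup.card_bot, one_mul] at e3
  exact e3.symm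

end Cfsg.Agent.S0057
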