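import Cfsg.Statements.S0059
import Cfsg.Agent.Lib.Grp.Coprime
-- import your own Cfsg.Agent.* helpers here

set_option autoImplicit false
open Cfsg

namespace Cfsg.Agent.S0059

/-- Let a finite group act on a set on which a normal subgroup K of coprime order and index is transitive, with K or the quotient solvable. Then any complement H of K has a fixed point, and any two H-fixed points are interchanged by an element of K centralising H. -/
theorem result {G : Type*} [Group G] [Finite G] {X : Type*} [Nonempty X] [MulAction G X]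
    (K H : Subgroup G) [K.Normal] (hc : Subgroup.IsComplement' K H) (hcop : (Nat.card K).Coprime K.index)
    (hsolv : Group.IsSolvable K ∨ Group.IsSolvable (G ⧸ K)) (htrans : MulAction.IsPretransitive K X) :
    (∃ x : X, ∀ h ∈ H, h • x = x) ∧
    ∀ x y : X, (∀ h ∈ H, h • x = x) → (∀ h ∈ H, h • y = y) → ∃ k ∈ K ⊓ Subgroup.centralizer (H : Set G), k • x = y := by
  have hAK : H ≤ Subgroup.normalizer (K : Set G) := by rw [Subgroup.normalizer_eq_top]; exact le_top
  have e := hc.card_mul_card
  rw [← Subgroup.card_mul_index K] at e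
  have hH := Nat.eq_of_mul_eq_mul_left Nat.card_pos e
  have hcop' : (Nat.card H).Coprime (Nat.card K) := by rw [hH]; exact hcop.symm
  have hsolv' : Group.IsSolvable H ∨ Group.IsSolvable K := hsolv.symm.imp_left fun h => by
    refine Cfsg.Agent.Grp.isSolvable_of_injective ((QuotientGroup.mk' K).comp H.subtype) ?_ h
    rw [injective_iff_map_eq_one]
    intro x hx
    have : (x : G) ∈ K ⊓ H := ⟨(QuotientGroup.eq_one_iff _).mp hx, x.2⟩
    rw [disjoint_iff.mp hc.disjoint, Subgroup.mem_bot] at this
    exact Subtype.ext this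
  have htr : ∀ x ∈ (Set.univ : Set X), ∀ y ∈ (Set.univ : Set X), ∃ k ∈ K, k • x = y := fun x _ y _ => by
    obtain ⟨k, hk⟩ := htrans.exists_smul_eq x y
    exact ⟨k, k.2, hk⟩
  refine ⟨?_, fun x y hx hy => ?_⟩
  · obtain ⟨x, -, hx⟩ := Cfsg.Agent.Grp.exists_fixed_point H K Set.univ hAK hcop' hsolv' Set.univ_nonempty
      (fun _ _ _ _ => trivial) (fun _ _ _ _ => trivial) htr
    exact ⟨x, hx⟩
  · exact Cfsg.Agent.Grp.exists_centralizer_smul H K Set.univ hAK hcop' hsolv' htr trivial trivial hx hy

end Cfsg.Agent.S0059
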