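import Cfsg.Statements.S0060
import Mathlib
import Cfsg.Agent.Lib.Grp.Cores
-- import your own Cfsg.Agent.* helpers here

set_option autoImplicit false
open Pointwise
open Cfsg

namespace Cfsg.Agent.S0060

/-- Brodkey's Theorem: in a finite group with abelian Sylow p-subgroups and no nontrivial normal p-subgroup, some conjugate of a Sylow p-subgroup meets it trivially. -/
theorem result {G : Type*} [Group G] [Finite G] (p : ℕ) [Fact p.Prime]
    (S : Sylow p G) (hS : IsMulCommutative S) (hOp : Cfsg.pCore p G = ⊥) :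
    ∃ g : G, (S : Subgroup G) ⊓ MulAut.conj g • (S : Subgroup G) = ⊥ := by
  have hab : ∀ (T : Sylow p G), ∀ x ∈ (T : Subgroup G), ∀ y ∈ (T : Subgroup G), x * y = y * x := by
    intro T x hx y hy
    obtain ⟨g, rfl⟩ := MulAction.exists_smul_eq G S T
    rw [Sylow.coe_subgroup_smul] at hx hy
    obtain ⟨a, ha, rfl⟩ := hx
    obtain ⟨b, hb, rfl⟩ := hy
    have := congrArg Subtype.val (mul_comm' (⟨a, ha⟩ : S) (⟨b, hb⟩ : S))
    have h2 := congrArg (fun w => g * w * g⁻¹) (this : a * b = b * a)
    simpa [conj_mul] using h2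
  obtain ⟨g, hg⟩ := Finite.exists_min (fun g : G => Nat.card ↥((S : Subgroup G) ⊓ MulAut.conj g • (S : Subgroup G)))
  refine ⟨g, ?_⟩
  set T : Sylow p G := g • S with hT
  have hTc : (T : Subgroup G) = MulAut.conj g • (S : Subgroup G) := Sylow.coe_subgroup_smul
  rw [← hTc] at hg ⊢
  set D := (S : Subgroup G) ⊓ (T : Subgroup G) with hD
  set N := Subgroup.centralizer (D : Set G) with hN
  have hSN : (S : Subgroup G) ≤ N := fun x hx => Subgroup.mem_centralizer_iff.2 fun d hd => hab S d hd.1 x hx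
  have hTN : (T : Subgroup G) ≤ N := fun x hx => Subgroup.mem_centralizer_iff.2 fun d hd => hab T d hd.2 x hx
  have hle : D ≤ pCore p G := by
    rw [Cfsg.Agent.Grp.pCore_eq_iInf_sylow]
    refine le_iInf fun R => ?_
    obtain ⟨Q, hQ⟩ := (show IsPGroup p ((R : Subgroup G).subgroupOf N) from
      R.isPGroup'.comap_subtype).exists_le_sylow
    obtain ⟨c, hc⟩ := MulAction.exists_smul_eq N Q (T.subtype hTN)
    obtain ⟨h', hh'⟩ := MulAction.exists_smul_eq G S ((c : G) • R)
    have hsub : (S : Subgroup G) ⊓ (((c : G) • R : Sylow p G) : Subgroup G) ≤ D := by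
      rintro x ⟨hxS, hxR⟩
      refine ⟨hxS, ?_⟩
      rw [SetLike.mem_coe, Sylow.coe_subgroup_smul] at hxR
      obtain ⟨r, hr, rfl⟩ := hxR
      have hrN : r ∈ N := by
        have := mul_mem (mul_mem (inv_mem c.2) (hSN hxS)) c.2
        simpa [mul_assoc] using this
      have h1 : c * ⟨r, hrN⟩ * c⁻¹ ∈ ((c • Q : Sylow p N) : Subgroup N) := by
        rw [Sylow.coe_subgroup_smul]
        exact ⟨_, hQ hr, rfl⟩
      rw [hc] at h1
      exact h1
    have hcard := hg h'
    rw [← Sylow.coe_subgroup_smul, hh'] at hcard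
    have heq := Subgroup.eq_of_le_of_card_ge hsub hcard
    intro d hd
    rw [← heq] at hd
    have hdR := hd.2
    rw [SetLike.mem_coe, Sylow.coe_subgroup_smul] at hdR
    obtain ⟨r, hr, e⟩ := hdR
    rw [heq] at hd
    have e' : (c : G) * r * (c : G)⁻¹ = d := e
    have : r = d := by
      have h2 := Subgroup.mem_centralizer_iff.1 c.2 d hd
      rw [mul_inv_eq_iff_eq_mul, h2] at e'
      exact mul_left_cancel e'
    exact this ▸ hr
  exact eq_bot_iff.2 (hle.trans (le_of_eq hOp))

end Cfsg.Agent.S0060
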