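import Cfsg.Statements.S0063
-- import your own Cfsg.Agent.* helpers here

set_option autoImplicit false
open Cfsg

namespace Cfsg.Agent.S0063

universe w

theorem class_aux : ∀ (n : ℕ) (G : Type w) [Group G] [Finite G] (p m : ℕ) [Fact p.Prime],
    Nat.card G = n → n = p ^ m → 1 < m → Group.nilpotencyClass G ≤ m - 1 := by
  intro n
  induction n using Nat.strong_induction_on with
  | _ n ih =>
  intro G _ _ p m _ hn hnm hm
  have hp : p.Prime := Fact.out
  have hG : Nat.card G = p ^ m := hn.trans hnm
  have hpG : IsPGroup p G := IsPGroup.of_card hG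
  have := hpG.isNilpotent
  have : Nontrivial G := Finite.one_lt_card_iff_nontrivial.mp (hG ▸ Nat.one_lt_pow (by omega) hp.one_lt)
  have hcomm : (∀ a b : G, a * b = b * a) → Group.nilpotencyClass G ≤ m - 1 := by
    intro hc
    have : IsMulCommutative G := ⟨⟨hc⟩⟩
    exact (Group.IsNilpotent.nilpotencyClass_le_one_iff.mpr this).trans (by omega)
  by_cases hab : ∀ a b : G, a * b = b * a
  · exact hcomm hab
  obtain ⟨j, hjm, hj⟩ := (Nat.dvd_prime_pow hp).mp
    (hG ▸ (Subgroup.center G).index_dvd_card)
  rw [Subgroup.index_eq_card] at hj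
  have hj2 : 2 ≤ j := by
    by_contra hlt
    apply hab
    have : IsCyclic (G ⧸ Subgroup.center G) := by
      interval_cases j
      · have : Subsingleton (G ⧸ Subgroup.center G) := (Nat.card_eq_one_iff_unique.mp (by simpa using hj)).1
        infer_instance
      · exact isCyclic_of_prime_card (p := p) (by simpa using hj)
    have hcc : IsMulCommutative G :=
      (QuotientGroup.mk' (Subgroup.center G)).isMulCommutative_of_isCyclic_of_ker_le_center (by simp)
    exact fun a b => hcc.is_comm.comm a b
  have hlt : Nat.card (G ⧸ Subgroup.center G) < n := by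
    have h0 := Subgroup.card_mul_index (Subgroup.center G)
    have h1 : 1 < Nat.card (Subgroup.center G) :=
      Finite.one_lt_card_iff_nontrivial.mpr hpG.center_nontrivial
    rw [Subgroup.index_eq_card, hn] at h0
    have h2 : 0 < Nat.card (G ⧸ Subgroup.center G) := Nat.card_pos
    nlinarith
  have hjlt : j < m := by
    rw [hnm, hj] at hlt
    exact (Nat.pow_lt_pow_iff_right hp.one_lt).mp hlt
  have := ih _ hlt (G ⧸ Subgroup.center G) p j rfl hj hj2
  rw [Group.nilpotencyClass_quotient_center] at this
  omega

/-- A finite group of prime-power order p ^ m with m > 1 is nilpotent of class at most m - 1. -/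
theorem result {G : Type*} [Group G] [Finite G] (p m : ℕ) [Fact p.Prime]
    (hG : Nat.card G = p ^ m) (hm : 1 < m) : Group.nilpotencyClass G ≤ m - 1 := by
  exact class_aux _ G p m rfl hG hm

end Cfsg.Agent.S0063
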