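import Cfsg.Statements.S0064
import Cfsg.Agent.Lib.Grp.Baer
-- import your own Cfsg.Agent.* helpers here

set_option autoImplicit false
open Cfsg

namespace Cfsg.Agent.S0064

/-- A finite group is nilpotent exactly when each of its subgroups is subnormal. -/
theorem result {G : Type*} [Group G] [Finite G] :
    Group.IsNilpotent G ↔ ∀ H : Subgroup G, H.IsSubnormal := by
  refine ⟨fun h H => Cfsg.Agent.Grp.isSubnormal_of_nilpotent H, fun h => ?_⟩
  refine (Group.isNilpotent_of_finite_tfae.out 2 0).mp fun (M : Subgroup G) (hM : IsCoatom M) => ?_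
  rcases (h M).lt_normal with h' | ⟨K, hK, hle, hlt⟩
  · exact absurd h' hM.1
  · rcases hM.le_iff.mp hle with rfl | rfl
    · exact absurd rfl hlt.ne
    · exact hK

end Cfsg.Agent.S0064
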