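import Cfsg.Statements.S0066
import Mathlib
import Cfsg.Agent.Lib.Grp.SubnormalJoin
-- import your own Cfsg.Agent.* helpers here

set_option autoImplicit false
open Pointwise
open Cfsg

namespace Cfsg.Agent.S0066

/-- Wielandt's subnormality criterion: a subgroup that is subnormal in its join with each of its conjugates is subnormal in the whole finite group. -/
theorem result {G : Type*} [Group G] [Finite G] (A : Subgroup G)
    (h : ∀ g : G, (A.subgroupOf (A ⊔ MulAut.conj g • A)).IsSubnormal) : A.IsSubnormal := by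
  suffices key : ∀ (n : ℕ) (X : Type u_1) [Group X] [Finite X], Nat.card X = n → ∀ A : Subgroup X,
      (∀ g : X, (A.subgroupOf (A ⊔ MulAut.conj g • A)).IsSubnormal) → A.IsSubnormal from key _ G rfl A h
  intro n
  induction n using Nat.strong_induction_on with
  | _ n ih =>
    intro X _ _ hn A hA
    by_contra hns
    have hpr : Cfsg.Agent.Grp.SnJoin.ProperSn A := by
      intro H hH hAH
      refine ih _ (hn ▸ Cfsg.Agent.Grp.card_lt_of_ne_top hH) H rfl _ fun g => ?_
      set L := A.subgroupOf H ⊔ MulAut.conj g • A.subgroupOf H with hL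
      have hmap : ∀ w : H, w ∈ L → (w : X) ∈ A ⊔ MulAut.conj (g : X) • A := by
        intro w hw
        have h1 : L ≤ (A ⊔ MulAut.conj (g : X) • A).comap H.subtype := by
          refine sup_le (fun v hv => Subgroup.mem_sup_left hv) ?_
          rintro _ ⟨v, hv, rfl⟩
          exact Subgroup.mem_sup_right ⟨(v : X), hv, rfl⟩
        exact h1 hw
      let f : L →* ↥(A ⊔ MulAut.conj (g : X) • A) :=
        (H.subtype.comp L.subtype).codRestrict _ fun w => hmap w w.2
      exact (hA (g : X)).comap f
    set D := Subgroup.normalClosure (A : Set X)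
    have hnt : ∀ g : X, A ⊔ MulAut.conj g • A ≠ ⊤ := fun g e => hns
      (Subgroup.IsSubnormal.trans le_sup_left (hA g) (by rw [e]; exact Subgroup.IsSubnormal.top))
    obtain h0 | ⟨M, hM, hAM⟩ := eq_top_or_exists_le_coatom A
    · exact hns (h0 ▸ Subgroup.IsSubnormal.top)
    have hD : D ≤ M := by
      refine (Subgroup.closure_le _).2 fun x hx => ?_
      obtain ⟨a, ha, hc⟩ := Group.mem_conjugatesOfSet_iff.1 hx
      obtain ⟨g, rfl⟩ := isConj_iff.1 hc
      obtain e | ⟨K, hK, hle⟩ := eq_top_or_exists_le_coatom (A ⊔ MulAut.conj g • A)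
      · exact absurd e (hnt g)
      rw [Cfsg.Agent.Grp.SnJoin.zipper _ A rfl hns hpr M K hM hK hAM (le_sup_left.trans hle)]
      exact hle (Subgroup.mem_sup_right ⟨a, ha, rfl⟩)
    exact hns (Subgroup.IsSubnormal.trans Subgroup.le_normalClosure
      (hpr D (fun e => hM.1 (top_le_iff.1 (e ▸ hD))) Subgroup.le_normalClosure)
      (Subgroup.normalClosure_normal).isSubnormal)

end Cfsg.Agent.S0066
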