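import Cfsg.Statements.S0070
import Cfsg.Agent.Lib.Grp.Frattini
-- import your own Cfsg.Agent.* helpers here

set_option autoImplicit false
open Cfsg

namespace Cfsg.Agent.S0070

/-- The Fitting subgroup commutes with passing to the Frattini quotient: the Fitting subgroup of G modulo its Frattini subgroup is the image of the Fitting subgroup of G. -/
theorem result {G : Type*} [Group G] [Finite G] :
    Cfsg.fittingSubgroup (G ⧸ frattini G) = (Cfsg.fittingSubgroup G).map (QuotientGroup.mk' (frattini G)) := by
  set f := QuotientGroup.mk' (frattini G)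
  have hf : Function.Surjective f := QuotientGroup.mk'_surjective _
  have hFn := Cfsg.Agent.Grp.fittingSubgroup_isNormal (G := G ⧸ frattini G)
  refine le_antisymm ?_ (Cfsg.Agent.Grp.le_fittingSubgroup
    (Cfsg.Agent.Grp.fittingSubgroup_isNormal.map f hf)
    (Cfsg.Agent.Grp.isNilpotent_map Cfsg.Agent.Grp.fittingSubgroup_isNilpotent f))
  set A := (Cfsg.fittingSubgroup (G ⧸ frattini G)).comap f with hA
  have hAn : A.Normal := hFn.comap f
  have e : A.map f = Cfsg.fittingSubgroup (G ⧸ frattini G) := Subgroup.map_comap_eq_self_of_surjective hf _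
  have hnil := Cfsg.Agent.Grp.nilpotent_of_quotient_frattini A (frattini G) le_rfl
    (e ▸ Cfsg.Agent.Grp.fittingSubgroup_isNilpotent)
  rw [← e]
  exact Subgroup.map_mono (Cfsg.Agent.Grp.le_fittingSubgroup hAn hnil)

end Cfsg.Agent.S0070
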