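import Cfsg.Statements.S0073
import Cfsg.Agent.Lib.Transfer.Abelian
import Cfsg.Agent.Lib.Transfer.NormalComplement

set_option linter.style.haveILetI false
set_option linter.unusedVariables false
-- import your own Cfsg.Agent.* helpers here

set_option autoImplicit false
open Cfsg

namespace Cfsg.Agent.S0073

/-- For a finite non-abelian simple group, either the cube of the least prime divisor of the order divides the order, or 12 does. -/
theorem result {G : Type*} [Group G] [Finite G] [IsSimpleGroup G] (hG : ∃ x y : G, x * y ≠ y * x) : (Nat.card G).minFac ^ 3 ∣ Nat.card G ∨ 12 ∣ Nat.card G := by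
  set p := (Nat.card G).minFac with hpdef
  obtain ⟨x, y, hxy⟩ := hG
  have hne : Nat.card G ≠ 1 := fun h => by
    have := (Nat.card_eq_one_iff_unique.1 h).1
    exact hxy (Subsingleton.elim _ _)
  have hp : p.Prime := Nat.minFac_prime hne
  haveI : Fact p.Prime := ⟨hp⟩
  by_contra hcon
  push Not at hcon
  obtain ⟨hp3, h12⟩ := hcon
  let P : Sylow p G := default
  obtain ⟨a, ha⟩ := IsPGroup.iff_card.1 P.isPGroup'
  have ha2 : a ≤ 2 := by
    by_contra h
    exact hp3 ((pow_dvd_pow p (by omega : 3 ≤ a)).trans (ha ▸ Subgroup.card_subgroup_dvd_card _))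
  have hc : IsMulCommutative P := by
    interval_cases a
    · have : Subsingleton P := (Nat.card_eq_one_iff_unique.1 (by simpa using ha)).1
      exact ⟨⟨fun u v => Subsingleton.elim _ _⟩⟩
    · haveI := isCyclic_of_prime_card (α := P) (p := p) (by simpa using ha)
      exact IsCyclic.isMulCommutative
    · exact ⟨⟨IsPGroup.commutative_of_card_eq_prime_sq (p := p) (G := P) ha⟩⟩
  have hno : ¬ Cfsg.HasNormalPComplement p G := by
    intro h
    have hd := Cfsg.Agent.Transfer.hasNormalPComplement_iff_not_dvd.1 h
    rcases (inferInstance : (Cfsg.pResidual p G).Normal).eq_bot_or_eq_top with hM | hM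
    · obtain ⟨k, hk⟩ := Cfsg.Agent.Transfer.exists_pResidual_index (G := G) p
      rw [hM, Subgroup.index_bot] at hk
      have hpG : IsPGroup p G := IsPGroup.of_card hk
      have hZ : Subgroup.center G = ⊤ := by
        rcases (inferInstance : (Subgroup.center G).Normal).eq_bot_or_eq_top with hz | hz
        · haveI : Nontrivial G := ⟨⟨x * y, y * x, hxy⟩⟩
          have := hpG.center_nontrivial
          rw [Subgroup.nontrivial_iff_ne_bot] at this
          exact absurd hz this
        · exact hz
      exact hxy ((Subgroup.mem_center_iff.1 (hZ ▸ Subgroup.mem_top y) x))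
    · rw [hM, Subgroup.card_top] at hd
      exact hd (Nat.minFac_dvd _)
  apply hno
  refine Cfsg.Agent.Transfer.hasNormalPComplement_of_prime_elements P hc fun q hq hqp g hg ⟨k, hk⟩ => ?_
  haveI : Fact q.Prime := ⟨hq⟩
  rcases k with _ | k
  · rw [pow_zero, orderOf_eq_one_iff] at hk
    intro z _; simp [hk]
  have hqd : q ∣ Nat.card G := (dvd_pow_self q k.succ_ne_zero).trans (hk ▸ orderOf_dvd_natCard g)
  have hlt : p < q := lt_of_le_of_ne (Nat.minFac_le_of_dvd hq.two_le hqd) (Ne.symm hqp)
  refine Cfsg.Agent.Transfer.conj_eq_self_of_counting (P : Subgroup G) hg hk fun d hd hne' hmod => ?_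
  rw [ha] at hd hne' hmod
  obtain ⟨j, hj, rfl⟩ := (Nat.dvd_prime_pow hp).1 hd
  have hj' : j < a := lt_of_le_of_ne hj fun h => hne' (h ▸ rfl)
  have h5 : q ∣ p ^ a - p ^ j := (Nat.modEq_iff_dvd' (Nat.pow_le_pow_right hp.pos hj)).1 hmod.symm
  have hsmall : ∀ m, q ∣ m → m ≠ 0 → q ≤ m := fun m h h' => Nat.le_of_dvd (Nat.pos_of_ne_zero h') h
  have hndp : ¬ q ∣ p := fun h => hqp ((Nat.prime_dvd_prime_iff_eq hq hp).1 h)
  have h2 := hp.two_le
  have hp1 : ¬ q ∣ p - 1 := fun h => by have := hsmall _ h (by omega); omega
  interval_cases a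
  · omega
  · interval_cases j
    exact hp1 (by simpa using h5)
  · interval_cases j
    · have he : p ^ 2 - p ^ 0 = (p - 1) * (p + 1) := by
        rw [mul_comm, ← Nat.sq_sub_sq, one_pow, pow_zero]
      rw [he] at h5
      rcases hq.dvd_mul.1 h5 with h | h
      · exact hp1 h
      · have hle := hsmall _ h (by omega)
        have hq1 : q = p + 1 := by omega
        have hp2 : p = 2 := by
          rcases hp.eq_two_or_odd with h' | h'
          · exact h'
          · exfalso
            have : q = 2 := hq.eq_two_or_odd.resolve_right (by omega)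
            omega
        apply h12
        have h4 : 4 ∣ Nat.card G := by
          have := ha ▸ Subgroup.card_subgroup_dvd_card (P : Subgroup G)
          rw [hp2] at this
          simpa using this
        have h3 : 3 ∣ Nat.card G := by rw [hq1, hp2] at hqd; exact hqd
        exact Nat.Coprime.mul_dvd_of_dvd_of_dvd (by norm_num : Nat.Coprime 4 3) h4 h3
    · have he : p ^ 2 - p ^ 1 = p * (p - 1) := by rw [pow_one, pow_two, Nat.mul_sub, mul_one]
      rw [he] at h5
      rcases hq.dvd_mul.1 h5 with h | h
      · exact hndp h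
      · exact hp1 h

end Cfsg.Agent.S0073
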