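import Cfsg.Statements.S0078
import Cfsg.Agent.Lib.Transfer.Tate
import Cfsg.Agent.Lib.Transfer.Burnside

set_option linter.style.haveILetI false
set_option linter.unusedVariables false
-- import your own Cfsg.Agent.* helpers here

set_option autoImplicit false
open Cfsg

namespace Cfsg.Agent.S0078

/-- In a p-normal group, a Sylow p-subgroup P meets O^p(G) exactly where it meets O^p(V), for any subgroup V containing the normalizer of the centre of P. -/
theorem result {G : Type*} [Group G] [Finite G] {p : ℕ} [Fact p.Prime] (P : Sylow p G) (hn : ∀ Q : Sylow p G, (P : Subgroup G) ⊓ Subgroup.centralizer (P : Set G) ≤ (Q : Subgroup G) → (Q : Subgroup G) ⊓ Subgroup.centralizer (Q : Set G) = (P : Subgroup G) ⊓ Subgroup.centralizer (P : Set G)) (V : Subgroup G) (hV : Subgroup.normalizer (((P : Subgroup G) ⊓ Subgroup.centralizer (P : Set G) : Subgroup G) : Set G) ≤ V) : (P : Subgroup G) ⊓ Cfsg.pResidual p G = (P : Subgroup G) ⊓ (Cfsg.pResidual p V).map V.subtype := by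
  set Z := (P : Subgroup G) ⊓ Subgroup.centralizer (P : Set G) with hZ
  have hPV : (P : Subgroup G) ≤ Subgroup.normalizer (Z : Set G) := by
    intro a ha
    rw [Subgroup.mem_normalizer_iff]
    intro z
    constructor
    · intro hz
      rw [show a * z * a⁻¹ = z by rw [(hz.2 a ha), mul_assoc, mul_inv_cancel, mul_one]]
      exact hz
    · intro hz
      have h1 : a * (a * z * a⁻¹) = a * z * a⁻¹ * a := hz.2 a ha
      have h2 : a * z * a⁻¹ = z := by
        apply mul_left_cancel (a := a)
        rw [h1]; group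
      rwa [h2] at hz
  have hconj : ∀ (g x : G), x ∈ ((g • P : Sylow p G) : Subgroup G) ↔ g⁻¹ * x * g ∈ (P : Subgroup G) := by
    intro g x
    rw [Sylow.coe_subgroup_smul, Subgroup.mem_pointwise_smul_iff_inv_smul_mem]
    simp [mul_assoc]
  have hW : Cfsg.IsWeaklyClosed Z P := by
    refine ⟨inf_le_left, fun g hg => ?_⟩
    have hle : Z ≤ ((g⁻¹ • P : Sylow p G) : Subgroup G) := fun z hz => by
      rw [hconj, inv_inv]
      exact hg ⟨z, hz, rfl⟩
    have he := hn _ hle
    ext w
    constructor
    · rintro ⟨z, hz, rfl⟩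
      rw [← he] at hz
      obtain ⟨hz1, hz2⟩ := hz
      replace hz1 := (hconj _ _).1 hz1
      rw [inv_inv] at hz1
      refine ⟨hz1, fun a ha => ?_⟩
      have ha' : g⁻¹ * a * g ∈ ((g⁻¹ • P : Sylow p G) : Subgroup G) := by
        rw [hconj]; simp only [mul_assoc, mul_inv_cancel_left, mul_inv_cancel, mul_one, inv_inv]; exact ha
      have := hz2 _ ha'
      simp only [MulEquiv.coe_toMonoidHom, MulAut.conj_apply]
      calc a * (g * z * g⁻¹) = g * ((g⁻¹ * a * g) * z) * g⁻¹ := by group
        _ = g * (z * (g⁻¹ * a * g)) * g⁻¹ := by rw [this]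
        _ = _ := by group
    · intro hw
      refine ⟨g⁻¹ * w * g, ?_, by simp [mul_assoc]⟩
      rw [← he]
      refine ⟨(hconj _ _).2 (by simp only [mul_assoc, mul_inv_cancel_left, inv_mul_cancel_left, mul_inv_cancel, mul_one, inv_inv]; exact hw.1), fun a ha => ?_⟩
      have ha' : g * a * g⁻¹ ∈ (P : Subgroup G) := by
        have := (hconj g⁻¹ a).1 ha; rwa [inv_inv] at this
      have := hw.2 _ ha'
      calc a * (g⁻¹ * w * g) = g⁻¹ * ((g * a * g⁻¹) * w) * g := by group
        _ = g⁻¹ * (w * (g * a * g⁻¹)) * g := by rw [this]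
        _ = _ := by group
  refine le_antisymm (le_inf inf_le_left ?_) (inf_le_inf_left _ ?_)
  · rw [inf_comm]
    refine Cfsg.Agent.Transfer.tate_of_le_commutator P V (hPV.trans hV) ?_
    refine le_trans ?_ (show ⁅Subgroup.normalizer (Z : Set G), Subgroup.normalizer (Z : Set G)⁆ ≤
      (commutator V).map V.subtype from ?_)
    · intro x hx
      have hx' : x ∈ commutator G ⊓ (P : Subgroup G) :=
        ⟨Cfsg.Agent.Transfer.sylow_inf_pResidual_le_commutator P ⟨hx.2, hx.1⟩, hx.2⟩
      refine (Cfsg.Agent.Transfer.commutator_inf_sylow_le P fun a ha u hu => ?_) hx'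
      obtain ⟨n, hn', he⟩ := Cfsg.Agent.Transfer.exists_normalizer_conj_of_weaklyClosed P
        inf_le_right hW ha hu
      rw [← he]
      have hm := Subgroup.commutator_mem_commutator
        (Subgroup.inv_mem _ (hPV ha)) hn'
      rw [commutatorElement_def, inv_inv] at hm
      simpa only [mul_assoc] using hm
    · rw [Subgroup.map_subtype_commutator]
      exact Subgroup.commutator_mono hV hV
  · exact Cfsg.Agent.Transfer.pResidual_map_le V.subtype

end Cfsg.Agent.S0078
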