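import Cfsg.Statements.S0079
import Cfsg.Agent.Lib.Transfer.NormalComplement
import Cfsg.Agent.Lib.Transfer.Fusion
import Mathlib

set_option maxHeartbeats 1000000
set_option maxRecDepth 8000

set_option autoImplicit false
open Cfsg

namespace Cfsg.Agent.S0079

/-- In a nilpotent group elements of coprime orders commute. -/
theorem commute_of_coprime_orderOf (X : Type*) [Group X] [Group.IsNilpotent X] :
    ∀ x y : X, (orderOf x).Coprime (orderOf y) → Commute x y := by
  refine Group.nilpotent_center_quotient_ind (P := fun X _ _ => ∀ x y : X, (orderOf x).Coprime (orderOf y) → Commute x y) X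
    (fun X _ _ x y _ => Subsingleton.elim _ _) (fun X _ _ ih x y hxy => ?_)
  have h1 := ih (x : X ⧸ Subgroup.center X) (y : X ⧸ Subgroup.center X)
    ((hxy.coprime_dvd_left (orderOf_map_dvd (QuotientGroup.mk' _) x)).coprime_dvd_right (orderOf_map_dvd (QuotientGroup.mk' _) y))
  set c := x * y * x⁻¹ * y⁻¹ with hc
  have hcZ : c ∈ Subgroup.center X := by
    rw [← QuotientGroup.eq_one_iff, hc]
    simp only [QuotientGroup.mk_mul, QuotientGroup.mk_inv, h1.eq, mul_inv_cancel_right, mul_inv_cancel]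
  have hcc : ∀ g : X, Commute c g := fun g => (Subgroup.mem_center_iff.1 hcZ g).symm
  have e1 : x * y * x⁻¹ = c * y := by rw [hc, inv_mul_cancel_right]
  have e2 : ∀ n : ℕ, x * y ^ n * x⁻¹ = c ^ n * y ^ n := fun n => by rw [← conj_pow, e1, (hcc y).mul_pow]
  have h2 : c ^ orderOf y = 1 := by
    have := e2 (orderOf y)
    rw [pow_orderOf_eq_one, mul_one, mul_one, mul_inv_cancel] at this
    exact this.symm
  have e3 : ∀ n : ℕ, x ^ n * y * (x ^ n)⁻¹ = c ^ n * y := fun n => by
    induction n with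
    | zero => simp
    | succ n ih =>
      have hxc : x * c ^ n = c ^ n * x := (((hcc x).symm).pow_right n).eq
      calc x ^ (n + 1) * y * (x ^ (n + 1))⁻¹ = x * (x ^ n * y * (x ^ n)⁻¹) * x⁻¹ := by rw [pow_succ']; group
        _ = (x * c ^ n) * y * x⁻¹ := by rw [ih]; group
        _ = c ^ n * (x * y * x⁻¹) := by rw [hxc]; group
        _ = c ^ (n + 1) * y := by rw [e1, pow_succ, mul_assoc (c ^ n)]
  have h3 : c ^ orderOf x = 1 := by
    have := e3 (orderOf x)
    rw [pow_orderOf_eq_one, one_mul, inv_one, mul_one] at this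
    simpa using this
  have h4 := pow_gcd_eq_one.2 ⟨h3, h2⟩
  rw [hxy.gcd_eq_one, pow_one] at h4
  rw [h4, one_mul, mul_inv_eq_iff_eq_mul] at e1
  exact e1

/-- A nilpotent Hall subgroup has a normal complement exactly when elements of it that are conjugate in the whole group are already conjugate inside it. -/
theorem result {G : Type*} [Group G] [Finite G] (H : Subgroup G) (hH : Group.IsNilpotent H) (hHall : Nat.Coprime (Nat.card H) H.index) : (∃ N : Subgroup G, N.Normal ∧ N.IsComplement' H) ↔ ∀ x ∈ H, ∀ y ∈ H, (∃ g : G, g * x * g⁻¹ = y) → ∃ h ∈ H, h * x * h⁻¹ = y := by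
  classical
  constructor
  · rintro ⟨N, hN, hc⟩ x hx y hy ⟨g, rfl⟩
    haveI := hN
    obtain ⟨⟨n, h⟩, hg : (n : G) * h = g⟩ := hc.2 g
    refine ⟨h, h.2, ?_⟩
    -- both elements are congruent modulo `N`
    have hq : ((g * x * g⁻¹ : G) : G ⧸ N) = (((h : G) * x * (h : G)⁻¹ : G) : G ⧸ N) := by
      have hn1 : ((n : G) : G ⧸ N) = 1 := (QuotientGroup.eq_one_iff _).2 n.2
      rw [← hg]
      simp only [QuotientGroup.mk_mul, QuotientGroup.mk_inv, hn1, one_mul]
    have hmem : (g * x * g⁻¹)⁻¹ * ((h : G) * x * (h : G)⁻¹) ∈ N ⊓ H :=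
      ⟨QuotientGroup.eq.1 hq, H.mul_mem (H.inv_mem hy) (H.mul_mem (H.mul_mem h.2 hx) (H.inv_mem h.2))⟩
    rw [hc.disjoint.eq_bot, Subgroup.mem_bot, inv_mul_eq_one] at hmem
    exact hmem.symm
  · intro hfus
    haveI := hH
    set I := {p : ℕ // p.Prime ∧ p ∣ Nat.card H}
    -- for each prime divisor the p-residual is a normal p-complement
    have key : ∀ i : I, ∃ N : Subgroup G, N.Normal ∧ ¬ (i.1 ∣ Nat.card N) ∧ N.index ∣ Nat.card H ∧
        ∃ k, N.index = i.1 ^ k := by
      intro i
      haveI : Fact i.1.Prime := ⟨i.2.1⟩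
      obtain ⟨S⟩ : Nonempty (Sylow i.1 H) := inferInstance
      set S' := (S : Subgroup H).map H.subtype with hS'
      have hS'p : IsPGroup i.1 S' := S.isPGroup'.map _
      have hidx : ¬ i.1 ∣ S'.index := by
        rw [hS', Subgroup.index_map_subtype, i.2.1.dvd_mul, not_or]
        refine ⟨S.not_dvd_index, fun h => ?_⟩
        exact i.2.1.not_dvd_one (hHall ▸ Nat.dvd_gcd i.2.2 h)
      let P : Sylow i.1 G := hS'p.toSylow hidx
      have hP : (P : Subgroup G) = S' := rfl
      have hNn : (S : Subgroup H).Normal := Sylow.normal_of_normalizerCondition Group.normalizerCondition_of_isNilpotent S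
      have hNPC : Cfsg.HasNormalPComplement i.1 G := by
        refine Cfsg.Agent.Transfer.hasNormalPComplement_of_control P fun x hx y hy hg => ?_
        rw [hP] at hx hy ⊢
        obtain ⟨xs, hxs, rfl⟩ := hx
        obtain ⟨ys, hys, rfl⟩ := hy
        obtain ⟨h, hh, hhxy⟩ := hfus _ xs.2 _ ys.2 hg
        -- split the conjugating element along the nilpotent group
        obtain ⟨k, m, hm, hkm⟩ := Nat.exists_eq_pow_mul_and_not_dvd (orderOf_pos (⟨h, hh⟩ : H)).ne' i.1 i.2.1.ne_one
        obtain ⟨u, v, huv⟩ : ∃ u v : ℤ, (1 : ℤ) = u * (i.1 ^ k : ℕ) + v * m := by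
          have hcop : Nat.Coprime (i.1 ^ k) m := (i.2.1.coprime_iff_not_dvd.2 hm).pow_left k
          have h1 := Nat.gcd_eq_gcd_ab (i.1 ^ k) m
          rw [hcop.gcd_eq_one] at h1
          exact ⟨Nat.gcdA (i.1 ^ k) m, Nat.gcdB (i.1 ^ k) m, by push_cast at h1 ⊢; linarith⟩
        set hp' : H := (⟨h, hh⟩ : H) ^ (v * m : ℤ) with hhp
        set hq' : H := (⟨h, hh⟩ : H) ^ (u * (i.1 ^ k : ℕ) : ℤ) with hhq
        have hsplit : (⟨h, hh⟩ : H) = hp' * hq' := by
          rw [hhp, hhq, ← zpow_add, add_comm, ← huv, zpow_one]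
        have hpS : hp' ∈ (S : Subgroup H) := by
          have hzp : IsPGroup i.1 (Subgroup.zpowers hp') := by
            have hd : orderOf hp' ∣ i.1 ^ k := by
              rw [orderOf_dvd_iff_pow_eq_one, hhp, ← zpow_natCast, ← zpow_mul, show v * (m : ℤ) * ((i.1 ^ k : ℕ) : ℤ) = ((i.1 ^ k * m : ℕ) : ℤ) * v by push_cast; ring,
                zpow_mul, zpow_natCast, ← hkm, pow_orderOf_eq_one, one_zpow]
            obtain ⟨j, -, hj⟩ := (Nat.dvd_prime_pow i.2.1).1 hd
            exact IsPGroup.of_card (n := j) (by rw [Nat.card_zpowers, hj])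
          obtain ⟨T', hT'⟩ := hzp.exists_le_sylow
          haveI := Sylow.unique_of_normal S hNn
          rw [Subsingleton.elim S T']
          exact hT' (Subgroup.mem_zpowers hp')
        have hqc : Commute hq' xs := by
          have hd : orderOf hq' ∣ m := by
            rw [orderOf_dvd_iff_pow_eq_one, hhq, ← zpow_natCast, ← zpow_mul, show u * ((i.1 ^ k : ℕ) : ℤ) * (m : ℤ) = ((i.1 ^ k * m : ℕ) : ℤ) * u by push_cast; ring,
              zpow_mul, zpow_natCast, ← hkm, pow_orderOf_eq_one, one_zpow]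
          obtain ⟨j, hj⟩ := IsPGroup.exists_orderOf_eq_pow S.isPGroup' (⟨xs, hxs⟩ : (S : Subgroup H))
          rw [Subgroup.orderOf_mk] at hj
          exact commute_of_coprime_orderOf _ _ _ (hj ▸ (((i.2.1.coprime_iff_not_dvd.2 hm).pow_left j).coprime_dvd_right hd).symm)
        refine ⟨(hp' : G), ⟨hp', hpS, rfl⟩, ?_⟩
        show (hp' : G) * (xs : G) * (hp' : G)⁻¹ = (ys : G)
        rw [← hhxy]
        have : (hp' : H) * xs * hp'⁻¹ = (⟨h, hh⟩ : H) * xs * (⟨h, hh⟩ : H)⁻¹ := by
          rw [hsplit, mul_assoc hp' hq' xs, hqc.eq]; group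
        exact congrArg (H.subtype) this
      obtain ⟨N, hN, hd, k, hk⟩ := Cfsg.Agent.Transfer.hasNormalPComplement_iff_exists.1 hNPC
      refine ⟨N, hN, hd, ?_, k, hk⟩
      have := (Cfsg.Agent.Transfer.isComplement'_sylow P hd hk).symm.index_eq_card
      rw [this, hP, hS', Subgroup.card_map_of_injective H.subtype_injective]
      exact Subgroup.card_subgroup_dvd_card _
    choose N hNn hNd hNidx k hNk using key
    haveI : Finite I := Finite.of_injective (fun i : I => (⟨i.1, Nat.lt_succ_of_le (Nat.le_of_dvd Nat.card_pos i.2.2)⟩ : Fin (Nat.card H + 1)))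
      fun a b h => Subtype.ext (congrArg Fin.val h)
    haveI := Fintype.ofFinite I
    set M := ⨅ i, N i with hM
    haveI hMn : M.Normal := Subgroup.normal_iInf_normal hNn
    have hcard : (Nat.card M).Coprime (Nat.card H) := Nat.coprime_of_dvd fun q hq hqM hqH =>
      hNd ⟨q, hq, hqH⟩ (hqM.trans (Subgroup.card_dvd_of_le (iInf_le N ⟨q, hq, hqH⟩)))
    have hidx : M.index ≤ Nat.card H := by
      refine (Subgroup.index_iInf_le _).trans (Nat.le_of_dvd Nat.card_pos ?_)
      refine Finset.prod_dvd_of_isRelPrime ?_ fun i _ => hNidx i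
      intro a _ b _ hab
      show IsRelPrime _ _
      rw [← Nat.coprime_iff_isRelPrime]
      simp only [hNk]
      exact Nat.Coprime.pow _ _ ((Nat.coprime_primes a.2.1 b.2.1).2 fun h => hab (Subtype.ext h))
    refine ⟨M, hMn, Subgroup.isComplement'_of_coprime (le_antisymm ?_ ?_) hcard⟩
    · refine Nat.le_of_dvd Nat.card_pos ?_
      exact hcard.mul_dvd_of_dvd_of_dvd (Subgroup.card_subgroup_dvd_card M) (Subgroup.card_subgroup_dvd_card H)
    · rw [← M.card_mul_index]
      exact Nat.mul_le_mul_left _ hidx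

end Cfsg.Agent.S0079
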