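import Cfsg.Statements.S0082
import Cfsg.Agent.Lib.Transfer.Abelian
import Cfsg.Agent.Lib.Transfer.Tate

set_option linter.style.haveILetI false
set_option linter.unusedVariables false
-- import your own Cfsg.Agent.* helpers here

set_option autoImplicit false
open Cfsg

namespace Cfsg.Agent.S0082

/-- With a cyclic Sylow p-subgroup, either there is a normal p-complement or the elements of order prime to p generate the whole group. -/
theorem result {G : Type*} [Group G] [Finite G] {p : ℕ} [Fact p.Prime] (P : Sylow p G) (hP : IsCyclic P) : Cfsg.HasNormalPComplement p G ∨ Cfsg.pResidual p G = ⊤ := by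
  haveI := hP
  have hc : IsMulCommutative P := IsCyclic.isMulCommutative
  obtain ⟨hb, hs⟩ := Cfsg.Agent.Transfer.abelian_sylow_decomp P hc
  set C := (P : Subgroup G) ⊓ Subgroup.centralizer (Subgroup.normalizer (P : Set G) : Set G) with hC
  set D := (P : Subgroup G) ⊓ Cfsg.pResidual p G with hD
  -- two subgroups of the cyclic `p`-group `P` meeting trivially: one of them is trivial
  have key : D = ⊥ ∨ C = ⊥ := by
    by_contra hne
    push Not at hne
    have hex : ∀ S : Subgroup G, S ≤ (P : Subgroup G) → S ≠ ⊥ → ∃ x ∈ S, orderOf x = p := by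
      intro S hS hS1
      obtain ⟨m, hm⟩ := IsPGroup.iff_card.1 (P.isPGroup'.to_le hS)
      have hm0 : m ≠ 0 := by
        rintro rfl
        exact hS1 (Subgroup.card_eq_one.1 (by rw [hm, pow_zero]))
      obtain ⟨x, hx⟩ := exists_prime_orderOf_dvd_card' (G := S) p (hm ▸ dvd_pow_self p hm0)
      exact ⟨x, x.2, by rw [← hx, Subgroup.orderOf_coe]⟩
    obtain ⟨x, hxD, hx⟩ := hex D inf_le_left hne.1
    obtain ⟨y, hyC, hy⟩ := hex C inf_le_left hne.2
    have hxy : Subgroup.zpowers (⟨x, hxD.1⟩ : P) = Subgroup.zpowers (⟨y, hyC.1⟩ : P) := by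
      classical
      haveI : Fintype P := Fintype.ofFinite _
      have hp0 : 0 < p := (Fact.out : p.Prime).pos
      have hle := IsCyclic.card_pow_eq_one_le (α := P) hp0
      have hsub : ∀ z : P, orderOf z = p →
          (Subgroup.zpowers z : Set P) = {g : P | g ^ p = 1} := by
        intro z hz
        refine Set.eq_of_subset_of_ncard_le (fun g hg => ?_) ?_ (Set.toFinite _)
        · have h1 : orderOf g ∣ orderOf z := by
            have := Subgroup.orderOf_dvd_natCard _ hg
            rwa [Nat.card_zpowers] at this
          exact orderOf_dvd_iff_pow_eq_one.1 (h1.trans hz.dvd)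
        · have he : ({g : P | g ^ p = 1} : Set P) = ↑(Finset.univ.filter fun g : P => g ^ p = 1) := by
            ext g; simp only [Finset.coe_filter, Finset.mem_univ, true_and]; exact Iff.rfl
          have hz' : (Subgroup.zpowers z : Set P).ncard = orderOf z := by
            rw [← Nat.card_coe_set_eq]; exact Nat.card_zpowers z
          rw [he, Set.ncard_coe_finset, hz']
          exact hle.trans hz.ge
      apply SetLike.coe_injective
      rw [hsub _ ((Subgroup.orderOf_mk x hxD.1).trans hx), hsub _ ((Subgroup.orderOf_mk y hyC.1).trans hy)]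
    have hxC : x ∈ C := by
      have : (⟨x, hxD.1⟩ : P) ∈ Subgroup.zpowers (⟨y, hyC.1⟩ : P) := hxy ▸ Subgroup.mem_zpowers _
      obtain ⟨i, hi⟩ := this
      have hi' : y ^ i = x := congrArg Subtype.val hi
      rw [← hi']
      exact C.zpow_mem hyC i
    have hx1 : x = 1 := hb.le ⟨hxD, hxC⟩
    rw [hx1, orderOf_one] at hx
    exact (Fact.out : p.Prime).ne_one hx.symm
  rcases key with h | h
  · exact Or.inl (Cfsg.Agent.Transfer.hasNormalPComplement_of_inf_eq_bot P (by rw [inf_comm]; exact h))
  · right
    rw [h, sup_bot_eq] at hs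
    rw [eq_top_iff, ← Cfsg.Agent.Transfer.sylow_sup_pResidual P]
    exact sup_le (hs.trans inf_le_right) le_rfl

end Cfsg.Agent.S0082
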