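import Cfsg.Statements.S0083
import Cfsg.Agent.Lib.Transfer.Abelian

set_option linter.style.haveILetI false
set_option linter.unusedVariables false
-- import your own Cfsg.Agent.* helpers here

set_option autoImplicit false
open Cfsg

namespace Cfsg.Agent.S0083

/-- For an abelian Sylow p-subgroup P, a normal p-complement exists exactly when the normalizer of P is an internal direct product of P with some subgroup. -/
theorem result {G : Type*} [Group G] [Finite G] {p : ℕ} [Fact p.Prime] (P : Sylow p G) (hP : IsMulCommutative P) : Cfsg.HasNormalPComplement p G ↔ ∃ Q : Subgroup G, Q ≤ Subgroup.centralizer (P : Set G) ∧ Q ⊓ (P : Subgroup G) = ⊥ ∧ Q ⊔ (P : Subgroup G) = Subgroup.normalizer (P : Set G) := by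
  constructor
  · intro h
    set N := Subgroup.normalizer (P : Set G) with hN
    have hPN := Cfsg.Agent.Transfer.sylow_le_normalizer P
    set Q := (Cfsg.pResidual p N).map N.subtype with hQ
    have hQN : Q ≤ N := Subgroup.map_subtype_le _
    have hb : Q ⊓ (P : Subgroup G) = ⊥ := by
      rw [eq_bot_iff]
      rintro x ⟨⟨y, hy, rfl⟩, hx⟩
      have hbN := Cfsg.Agent.Transfer.pResidual_inf_sylow_eq_bot (P.subtype hPN)
        (Cfsg.Agent.Transfer.hasNormalPComplement_subgroup N h)
      have : y = 1 := hbN.le ⟨hy, hx⟩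
      simp [this]
    refine ⟨Q, ?_, hb, le_antisymm (sup_le hQN hPN) ?_⟩
    · rintro _ ⟨y, hy, rfl⟩ x hx
      have hm : x * (y : G) * x⁻¹ * (y : G)⁻¹ ∈ Q ⊓ (P : Subgroup G) := by
        refine ⟨?_, ?_⟩
        · have hnN : (Cfsg.pResidual p N).Normal := inferInstance
          exact ⟨(⟨x, hPN hx⟩ * y * (⟨x, hPN hx⟩)⁻¹) * y⁻¹, mul_mem (hnN.conj_mem y hy _) (inv_mem hy), rfl⟩
        · rw [mul_assoc, mul_assoc, ← mul_assoc (y : G)]
          exact (P : Subgroup G).mul_mem hx
            ((Subgroup.mem_set_normalizer_iff.1 y.2 x⁻¹).1 ((P : Subgroup G).inv_mem hx))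
      rw [hb, Subgroup.mem_bot, mul_inv_eq_one, mul_inv_eq_iff_eq_mul] at hm
      exact hm
    · intro n hn
      have hn' : (⟨n, hn⟩ : N) ∈ ((P.subtype hPN : Sylow p N) : Subgroup N) ⊔ Cfsg.pResidual p N := by
        rw [Cfsg.Agent.Transfer.sylow_sup_pResidual]; exact Subgroup.mem_top _
      obtain ⟨a, ha, o, ho, he⟩ := Subgroup.mem_sup_of_normal_right.1 hn'
      have he' : (a : G) * (o : G) = n := congrArg Subtype.val he
      rw [← he']
      exact mul_mem (Subgroup.mem_sup_right (show (a : G) ∈ (P : Subgroup G) from ha))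
        (Subgroup.mem_sup_left ⟨o, ho, rfl⟩)
  · rintro ⟨Q, hQ1, hQ2, hQ3⟩
    have hle : Subgroup.normalizer (P : Set G) ≤ Subgroup.centralizer (P : Set G) := by
      rw [← hQ3]
      refine sup_le hQ1 fun a ha x hx => ?_
      exact congrArg Subtype.val (hP.is_comm.comm ⟨x, hx⟩ ⟨a, ha⟩)
    exact ⟨P, _, inferInstance, MonoidHom.ker_transferSylow_isComplement' P hle⟩

end Cfsg.Agent.S0083
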