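import Cfsg.Statements.S0084
import Cfsg.Agent.Lib.Transfer.Abelian

set_option linter.style.haveILetI false
set_option linter.unusedVariables false
-- import your own Cfsg.Agent.* helpers here

set_option autoImplicit false
open Cfsg

namespace Cfsg.Agent.S0084

/-- A group whose Sylow 2-subgroups are Klein four-groups and whose order is prime to 3 has a normal 2-complement. -/
theorem result {G : Type*} [Group G] [Finite G] (T : Sylow 2 G) (hT : IsKleinFour T) (h3 : ¬ 3 ∣ Nat.card G) : Cfsg.HasNormalPComplement 2 G := by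
  haveI := hT
  have hc : IsMulCommutative T := ⟨⟨mul_comm_of_exponent_two hT.exponent_two⟩⟩
  refine Cfsg.Agent.Transfer.hasNormalPComplement_of_prime_elements T hc fun q hq hq2 g hg ⟨k, hk⟩ => ?_
  haveI : Fact q.Prime := ⟨hq⟩
  rcases k with _ | k
  · rw [pow_zero, orderOf_eq_one_iff] at hk
    intro x _; simp [hk]
  refine Cfsg.Agent.Transfer.conj_eq_self_of_counting (T : Subgroup G) hg hk fun d hd hne hmod => ?_
  have h4 : Nat.card (T : Subgroup G) = 4 := hT.card_four
  have hqd : q ∣ Nat.card G := (dvd_pow_self q k.succ_ne_zero).trans (hk ▸ orderOf_dvd_natCard g)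
  have hq3 : q ≠ 3 := fun h => h3 (h ▸ hqd)
  rw [h4] at hd hne hmod
  have hle : d ≤ 4 := Nat.le_of_dvd (by norm_num) hd
  have h5 : q ∣ 4 - d := (Nat.modEq_iff_dvd' hle).1 hmod.symm
  have h6 : q ≤ 3 := by
    have : q ≤ 4 - d := Nat.le_of_dvd (by omega) h5
    have : 1 ≤ d := Nat.pos_of_dvd_of_pos hd (by norm_num)
    omega
  have := hq.two_le
  omega

end Cfsg.Agent.S0084
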