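import Cfsg.Statements.S0085
import Cfsg.Agent.Lib.Transfer.Abelian

set_option linter.style.haveILetI false
set_option linter.unusedVariables false
-- import your own Cfsg.Agent.* helpers here

set_option autoImplicit false
open Cfsg

namespace Cfsg.Agent.S0085

/-- A group whose Sylow 2-subgroups are elementary abelian of order 8 and whose order is prime to 3 and to 7 has a normal 2-complement. -/
theorem result {G : Type*} [Group G] [Finite G] (T : Sylow 2 G) (h8 : Nat.card T = 8) (he : ∀ x : T, x * x = 1) (h3 : ¬ 3 ∣ Nat.card G) (h7 : ¬ 7 ∣ Nat.card G) : Cfsg.HasNormalPComplement 2 G := by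
  have hc : IsMulCommutative T := ⟨⟨fun a b => by
    have h1 := inv_eq_of_mul_eq_one_right (he (a * b))
    rw [mul_inv_rev, inv_eq_of_mul_eq_one_right (he a), inv_eq_of_mul_eq_one_right (he b)] at h1
    exact h1.symm⟩⟩
  refine Cfsg.Agent.Transfer.hasNormalPComplement_of_prime_elements T hc fun q hq hq2 g hg ⟨k, hk⟩ => ?_
  haveI : Fact q.Prime := ⟨hq⟩
  rcases k with _ | k
  · rw [pow_zero, orderOf_eq_one_iff] at hk
    intro x _; simp [hk]
  refine Cfsg.Agent.Transfer.conj_eq_self_of_counting (T : Subgroup G) hg hk fun d hd hne hmod => ?_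
  have hqd : q ∣ Nat.card G := (dvd_pow_self q k.succ_ne_zero).trans (hk ▸ orderOf_dvd_natCard g)
  have hq3 : q ≠ 3 := fun h => h3 (h ▸ hqd)
  have hq7 : q ≠ 7 := fun h => h7 (h ▸ hqd)
  rw [h8] at hd hne hmod
  have hle : d ≤ 8 := Nat.le_of_dvd (by norm_num) hd
  have h5 : q ∣ 8 - d := (Nat.modEq_iff_dvd' hle).1 hmod.symm
  have hpos : 1 ≤ d := Nat.pos_of_dvd_of_pos hd (by norm_num)
  have hq8 : q ≤ 7 := by
    have : q ≤ 8 - d := Nat.le_of_dvd (by omega) h5
    omega
  interval_cases d <;> interval_cases q <;> first | omega | (norm_num at *)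

end Cfsg.Agent.S0085
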