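import Cfsg.Statements.S0087
import Mathlib
import Cfsg.Agent.Lib.Grp.Basic

set_option maxHeartbeats 1000000
set_option maxRecDepth 8000

set_option autoImplicit false
open Cfsg

namespace Cfsg.Agent.S0087

universe u

/-- An element whose order divides that of a normal Hall subgroup lies in it. -/
theorem mem_of_orderOf_dvd {X : Type*} [Group X] [Finite X] (M : Subgroup X) [M.Normal]
    (hM : Nat.Coprime (Nat.card M) M.index) {x : X} (hx : orderOf x ∣ Nat.card M) : x ∈ M := by
  rw [← QuotientGroup.eq_one_iff, ← orderOf_eq_one_iff]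
  refine Nat.eq_one_of_dvd_coprimes hM ?_ ?_
  · exact (orderOf_map_dvd (QuotientGroup.mk' M) x).trans hx
  · exact orderOf_dvd_natCard _

def Hyp {G : Type u} [Group G] (H : Subgroup G) : Prop :=
  Nat.Coprime (Nat.card H) H.index ∧
    Subgroup.normalizer (H : Set G) ≤ Subgroup.centralizer (H : Set G)

theorem Hyp.abelian {G : Type u} [Group G] {H : Subgroup G} (h : Hyp H) :
    H ≤ Subgroup.centralizer (H : Set G) :=
  Subgroup.le_normalizer.trans h.2

def Goal (n : ℕ) : Prop := ∀ (G : Type u) [Group G] [Finite G], Nat.card G = n → ∀ H : Subgroup G,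
    Hyp H → ∃ N : Subgroup G, N.Normal ∧ N.IsComplement' H

theorem Hyp.restrict {G : Type u} [Group G] [Finite G] {H : Subgroup G} (h : Hyp H) {U : Subgroup G}
    (hU : H ≤ U) : Hyp (H.subgroupOf U) := by
  refine ⟨?_, ?_⟩
  · rw [Nat.card_congr (Subgroup.subgroupOfEquivOfLe hU).toEquiv]
    exact h.1.coprime_dvd_right (Subgroup.relIndex_dvd_index_of_le hU)
  · intro x hx
    rw [Subgroup.mem_centralizer_iff]
    intro y hy
    rw [← Subgroup.subgroupOf_normalizer_eq hU] at hx
    exact Subtype.ext (Subgroup.mem_centralizer_iff.1 (h.2 hx) y hy)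

theorem le_centralizer_of_proper {G : Type u} [Group G] [Finite G]
    (ih : ∀ m < Nat.card G, Goal.{u} m) {H : Subgroup G} (h : Hyp H) {U A : Subgroup G}
    (hHU : H ≤ U) (hU : U ≠ ⊤) (hA : A ≤ H) (hnorm : U ≤ Subgroup.normalizer (A : Set G)) :
    U ≤ Subgroup.centralizer (A : Set G) := by
  obtain ⟨M, hM, hc⟩ := ih _ (Cfsg.Agent.Grp.card_lt_of_ne_top hU) U rfl _ (h.restrict hHU)
  have hAU : A ≤ U := hA.trans hHU
  have hAn : (A.subgroupOf U).Normal := (Subgroup.normal_subgroupOf_iff_le_normalizer hAU).2 hnorm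
  have hdis : Disjoint M (A.subgroupOf U) :=
    hc.disjoint.mono_right (Subgroup.comap_mono hA)
  intro u hu
  rw [Subgroup.mem_centralizer_iff]
  intro a ha
  obtain ⟨⟨m, t⟩, he⟩ := hc.2 ⟨u, hu⟩
  have h1 := congrArg Subtype.val
    (Subgroup.commute_of_normal_of_disjoint M (A.subgroupOf U) hM hAn hdis (m : U) ⟨a, hAU ha⟩ m.2 ha).eq
  have h2 : a * ((t : U) : G) = ((t : U) : G) * a :=
    (Subgroup.mem_centralizer_iff.1 (h.abelian t.2)) a (hA ha)
  have he' : ((m : U) : G) * ((t : U) : G) = u := congrArg Subtype.val he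
  rw [← he', ← mul_assoc, show a * ((m : U) : G) = ((m : U) : G) * a from h1.symm, mul_assoc, h2,
    mul_assoc]

theorem goal : ∀ n, Goal.{u} n := by
  intro n
  induction n using Nat.strong_induction_on with
  | _ n ih =>
  intro G _ _ hn H h
  subst hn
  by_cases hnq : ∃ q : ℕ, q.Prime ∧ ∃ Q : Sylow q G, (Q : Subgroup G) ≤ H ∧
      Subgroup.normalizer ((Q : Subgroup G) : Set G) ≠ ⊤
  · obtain ⟨q, hq, Q, hQH, hQN⟩ := hnq
    have := Fact.mk hq
    have hHNQ : H ≤ Subgroup.normalizer ((Q : Subgroup G) : Set G) :=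
      (h.abelian.trans (Subgroup.centralizer_le hQH)).trans (Subgroup.centralizer_le_normalizer _)
    have hNQ := le_centralizer_of_proper ih h hHNQ hQN hQH le_rfl
    set K := (MonoidHom.transferSylow Q hNQ).ker with hKdef
    have hK : K.IsComplement' (Q : Subgroup G) := MonoidHom.ker_transferSylow_isComplement' Q hNQ
    set A : Subgroup G := H ⊓ K with hAdef
    have hHNA : H ≤ Subgroup.normalizer (A : Set G) :=
      (h.abelian.trans (Subgroup.centralizer_le inf_le_left)).trans (Subgroup.centralizer_le_normalizer _)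
    have hNA : Subgroup.normalizer (A : Set G) ≤ Subgroup.centralizer (A : Set G) := by
      by_cases htop : Subgroup.normalizer (A : Set G) = ⊤
      · have hAn : A.Normal := Subgroup.normalizer_eq_top_iff.1 htop
        have hQC : (Q : Subgroup G) ≤ Subgroup.centralizer (A : Set G) :=
          (hQH.trans h.abelian).trans (Subgroup.centralizer_le inf_le_left)
        have hNQA := le_centralizer_of_proper ih h hHNQ hQN (inf_le_left : A ≤ H) (htop ▸ le_top)
        have hfr := Sylow.normalizer_sup_eq_top' (N := Subgroup.centralizer (A : Set G)) Q hQC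
        intro x _
        have : (⊤ : Subgroup G) ≤ Subgroup.centralizer (A : Set G) := hfr ▸ sup_le hNQA le_rfl
        exact this (Subgroup.mem_top x)
      · exact le_centralizer_of_proper ih h hHNA htop inf_le_left le_rfl
    have hKtop : K ≠ ⊤ := by
      intro he
      rw [he] at hK
      have hbot : (Q : Subgroup G) = ⊥ := Subgroup.isComplement'_top_left.1 hK
      exact hQN (by rw [hbot]; exact Subgroup.normalizer_eq_top _)
    have hAK : A ≤ K := inf_le_right
    have hA : Hyp (A.subgroupOf K) := by
      refine ⟨?_, ?_⟩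
      · rw [Nat.card_congr (Subgroup.subgroupOfEquivOfLe hAK).toEquiv]
        refine Nat.Coprime.coprime_dvd_left (Subgroup.card_dvd_of_le inf_le_left) ?_
        refine h.1.coprime_dvd_right ?_
        show A.relIndex K ∣ H.index
        rw [hAdef, Subgroup.inf_relIndex_right]
        have h2 : H.relIndex K ∣ H.index := by
          have h3 := Subgroup.relIndex_mul_relIndex (H ⊓ K) K (H ⊔ K) inf_le_right le_sup_right
          have h4 := Subgroup.relIndex_mul_relIndex (H ⊓ K) H (H ⊔ K) inf_le_left le_sup_left
          rw [Subgroup.inf_relIndex_left] at h4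
          rw [Subgroup.inf_relIndex_right, Subgroup.relIndex_sup_right, ← h4, mul_comm] at h3
          rw [Nat.eq_of_mul_eq_mul_left (Nat.pos_of_ne_zero Subgroup.index_ne_zero_of_finite) h3]
          exact Subgroup.relIndex_dvd_index_of_le le_sup_left
        exact h2
      · intro x hx
        rw [← Subgroup.subgroupOf_normalizer_eq hAK] at hx
        rw [Subgroup.mem_centralizer_iff]
        intro y hy
        exact Subtype.ext (Subgroup.mem_centralizer_iff.1 (hNA hx) y hy)
    obtain ⟨M, hM, hc⟩ := ih _ (Cfsg.Agent.Grp.card_lt_of_ne_top hKtop) K rfl _ hA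
    have hMcop : Nat.Coprime (Nat.card M) M.index := by
      rw [hc.symm.index_eq_card, ← hc.index_eq_card]
      exact hA.1.symm
    have hMG : (M.map K.subtype).Normal := ⟨fun z hz g => by
      obtain ⟨m, hm, rfl⟩ := hz
      have hgK : g * (m : G) * g⁻¹ ∈ K := (MonoidHom.normal_ker _).conj_mem _ m.2 g
      refine ⟨⟨_, hgK⟩, mem_of_orderOf_dvd M hMcop ?_, rfl⟩
      rw [← Subgroup.orderOf_coe]
      show orderOf (MulAut.conj g (m : G)) ∣ _
      rw [MulEquiv.orderOf_eq, Subgroup.orderOf_coe]
      exact (Subgroup.orderOf_coe (⟨m, hm⟩ : M)).symm ▸ orderOf_dvd_natCard _⟩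
    refine ⟨M.map K.subtype, hMG, ?_⟩
    refine Subgroup.isComplement'_of_card_mul_and_disjoint ?_ ?_
    · have hsup : H ⊔ K = ⊤ := top_unique (hK.sup_eq_top ▸ sup_le le_sup_right (hQH.trans le_sup_left))
      have hH : Nat.card H = Nat.card (A.subgroupOf K) * K.index := by
        rw [Nat.card_congr (Subgroup.subgroupOfEquivOfLe hAK).toEquiv, hAdef,
          ← Subgroup.relIndex_top_right, ← hsup, Subgroup.relIndex_sup_right,
          ← Subgroup.inf_relIndex_left (H := H) (K := K), ← Subgroup.relIndex_bot_left,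
          ← Subgroup.relIndex_bot_left, Subgroup.relIndex_mul_relIndex _ _ _ bot_le inf_le_left]
      rw [Subgroup.card_map_of_injective K.subtype_injective, hH, ← mul_assoc, hc.card_mul,
        K.card_mul_index]
    · rw [Subgroup.disjoint_def]
      rintro x ⟨m, hm, rfl⟩ hx
      have : m = 1 := Subgroup.disjoint_def.1 hc.disjoint hm ⟨hx, m.2⟩
      simp [this]
  · push Not at hnq
    have hHn : H.Normal := by
      suffices hd : Nat.card H ∣ Nat.card H.normalCore by
        rw [← Subgroup.eq_of_le_of_card_ge H.normalCore_le (Nat.le_of_dvd Nat.card_pos hd)]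
        infer_instance
      rw [← Nat.factorization_prime_le_iff_dvd Nat.card_pos.ne' Nat.card_pos.ne']
      intro q hq
      have := Fact.mk hq
      obtain ⟨Q₀⟩ := (inferInstance : Nonempty (Sylow q H))
      obtain ⟨R, hR⟩ := (Q₀.isPGroup'.map H.subtype).exists_le_sylow
      have hc0 : Nat.card ↥((Q₀ : Subgroup H).map H.subtype) = q ^ (Nat.card H).factorization q := by
        rw [Subgroup.card_map_of_injective H.subtype_injective, Q₀.card_eq_multiplicity]
      by_cases hqH : q ∣ Nat.card H
      · have hv : (Nat.card G).factorization q = (Nat.card H).factorization q := by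
          rw [← H.card_mul_index, Nat.factorization_mul Nat.card_pos.ne'
            Subgroup.index_ne_zero_of_finite, Finsupp.add_apply,
            Nat.factorization_eq_zero_of_not_dvd (n := H.index) fun hd =>
              hq.one_lt.ne' (Nat.eq_one_of_dvd_coprimes h.1 hqH hd), add_zero]
        have he : (Q₀ : Subgroup H).map H.subtype = (R : Subgroup G) :=
          Subgroup.eq_of_le_of_card_ge hR (by rw [hc0, R.card_eq_multiplicity, hv])
        have hRH : (R : Subgroup G) ≤ H := he ▸ Subgroup.map_subtype_le _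
        have hRn : (R : Subgroup G).Normal := Subgroup.normalizer_eq_top_iff.1 (hnq q hq R hRH)
        have hRc : (R : Subgroup G) ≤ H.normalCore := Subgroup.normal_le_normalCore.2 hRH
        have h5 := Subgroup.card_dvd_of_le hRc
        rw [R.card_eq_multiplicity, hv] at h5
        exact (hq.pow_dvd_iff_le_factorization Nat.card_pos.ne').1 h5
      · rw [Nat.factorization_eq_zero_of_not_dvd hqH]
        exact Nat.zero_le _
    obtain ⟨N, hN⟩ := Subgroup.exists_right_complement'_of_coprime h.1
    refine ⟨N, ⟨fun x hx g => ?_⟩, hN.symm⟩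
    obtain ⟨⟨a, b⟩, rfl⟩ := hN.2 g
    have hcen : ∀ z : G, (a : G) * z = z * a := fun z => by
      have hz : z ∈ Subgroup.normalizer (H : Set G) := by
        rw [Subgroup.normalizer_eq_top]
        exact Subgroup.mem_top z
      exact Subgroup.mem_centralizer_iff.1 (h.2 hz) a a.2
    have : (a : G) * b * x * ((a : G) * b)⁻¹ = b * x * (b : G)⁻¹ := by
      rw [show (a : G) * b * x * ((a : G) * b)⁻¹ = (a : G) * ((b : G) * x * (b : G)⁻¹) * (a : G)⁻¹ by group,
        hcen, mul_inv_cancel_right]
    show (a : G) * b * x * ((a : G) * b)⁻¹ ∈ N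
    rw [this]
    exact mul_mem (mul_mem b.2 hx) (inv_mem b.2)

/-- A Hall subgroup that is central in its normalizer has a normal complement. -/
theorem result {G : Type*} [Group G] [Finite G] (H : Subgroup G) (hHall : Nat.Coprime (Nat.card H) H.index) (h : Subgroup.normalizer (H : Set G) ≤ Subgroup.centralizer (H : Set G)) : ∃ N : Subgroup G, N.Normal ∧ N.IsComplement' H := by

  exact goal _ G rfl H ⟨hHall, h⟩

end Cfsg.Agent.S0087
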