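import Cfsg.Statements.S0089
import Cfsg.Agent.Lib.Transfer.Abelian

set_option linter.style.haveILetI false
set_option linter.unusedVariables false
-- import your own Cfsg.Agent.* helpers here

set_option autoImplicit false
open Cfsg

namespace Cfsg.Agent.S0089

/-- When all Sylow subgroups are abelian, the derived subgroup meets the centre trivially. -/
theorem result {G : Type*} [Group G] [Finite G] (h : ∀ p : ℕ, p.Prime → ∀ P : Sylow p G, IsMulCommutative P) : commutator G ⊓ Subgroup.center G = ⊥ := by
  rw [eq_bot_iff]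
  intro x hx
  refine Cfsg.Agent.Transfer.prime_parts x ⊥ fun q hq y hy hyz => ?_
  haveI : Fact q.Prime := ⟨hq⟩
  have hyx : y ∈ commutator G ⊓ Subgroup.center G := (Subgroup.zpowers_le.2 hx) hyz
  obtain ⟨k, hk⟩ := hy
  obtain ⟨P, hP⟩ := (IsPGroup.of_card (n := k) (G := Subgroup.zpowers y)
    (by rw [Nat.card_zpowers, hk])).exists_le_sylow
  have hb := Cfsg.Agent.Transfer.hall_inf_commutator_inf_center (P : Subgroup G) (h q hq P)
    P.card_coprime_index
  exact hb.le ⟨⟨hP (Subgroup.mem_zpowers y), hyx.1⟩, hyx.2⟩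

end Cfsg.Agent.S0089
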