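import Cfsg.Statements.S0091
import Cfsg.Agent.Lib.Transfer.Fusion

set_option linter.style.haveILetI false
set_option linter.unusedVariables false
-- import your own Cfsg.Agent.* helpers here

set_option autoImplicit false
open Cfsg

namespace Cfsg.Agent.S0091

/-- If a nontrivial Sylow p-subgroup controls its own fusion then it is not contained in the derived subgroup. -/
theorem result {G : Type*} [Group G] [Finite G] {p : ℕ} [Fact p.Prime] (P : Sylow p G) (hp : p ∣ Nat.card G) (h : ∀ x ∈ P, ∀ y ∈ P, (∃ g : G, g * x * g⁻¹ = y) → ∃ z ∈ P, z * x * z⁻¹ = y) : ¬ (P : Subgroup G) ≤ commutator G := by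
  intro hle
  have hnpc := Cfsg.Agent.Transfer.hasNormalPComplement_of_control P h
  obtain ⟨k, hk⟩ := Cfsg.Agent.Transfer.exists_pResidual_index (G := G) p
  -- the commutator subgroup and `O^p(G)` together miss a nontrivial element of `P`
  have hQ : Cfsg.pResidual p G ⊓ (P : Subgroup G) = ⊥ :=
    Cfsg.Agent.Transfer.pResidual_inf_sylow_eq_bot P hnpc
  set M := Cfsg.pResidual p G with hM
  have hsup : (P : Subgroup G) ⊔ M = ⊤ := Cfsg.Agent.Transfer.sylow_sup_pResidual P
  have hq : commutator G ≤ ⁅(P : Subgroup G), (P : Subgroup G)⁆ ⊔ M := by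
    let f := (QuotientGroup.mk' M).comp (P : Subgroup G).subtype
    have hf : Function.Surjective f := fun q => by
      induction q using QuotientGroup.induction_on with
      | H g =>
        obtain ⟨a, ha, o, ho, rfl⟩ := Subgroup.mem_sup_of_normal_right.1 (hsup.symm ▸ Subgroup.mem_top g :
          g ∈ (P : Subgroup G) ⊔ M)
        exact ⟨⟨a, ha⟩, (QuotientGroup.eq.2 (by simpa using ho))⟩
    have h1 : (commutator G).map (QuotientGroup.mk' M) ≤
        (⁅(P : Subgroup G), (P : Subgroup G)⁆).map (QuotientGroup.mk' M) := by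
      rw [commutator_def, Subgroup.map_commutator, Subgroup.map_commutator]
      have : (P : Subgroup G).map (QuotientGroup.mk' M) = (⊤ : Subgroup G).map (QuotientGroup.mk' M) := by
        rw [Subgroup.map_top_of_surjective _ (QuotientGroup.mk'_surjective M), eq_top_iff]
        intro q _
        obtain ⟨a, ha⟩ := hf q
        exact ⟨a, a.2, ha⟩
      rw [this]
    rwa [Subgroup.map_le_map_iff, QuotientGroup.ker_mk'] at h1
  have hb : (P : Subgroup G) ≤ ⁅(P : Subgroup G), (P : Subgroup G)⁆ := by
    intro x hx
    obtain ⟨a, ha, o, ho, rfl⟩ := Subgroup.mem_sup_of_normal_right.1 (hq (hle hx))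
    have haP : a ∈ (P : Subgroup G) := Subgroup.commutator_le.2 (fun u hu v hv => by
      rw [commutatorElement_def]
      exact mul_mem (mul_mem (mul_mem hu hv) (inv_mem hu)) (inv_mem hv)) ha
    have : o ∈ M ⊓ (P : Subgroup G) := ⟨ho, by
      have := mul_mem (inv_mem haP) hx
      rwa [inv_mul_cancel_left] at this⟩
    rw [hQ, Subgroup.mem_bot] at this
    rwa [this, mul_one]
  have hbot : (P : Subgroup G) = ⊥ :=
    Cfsg.Agent.Transfer.eq_bot_of_le_commutator P.isPGroup'.isNilpotent le_rfl hb
  have := P.dvd_card_of_dvd_card hp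
  rw [hbot, Subgroup.card_bot] at this
  exact (Fact.out : p.Prime).not_dvd_one this

end Cfsg.Agent.S0091
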