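import Cfsg.Statements.S0092
import Mathlib
import Cfsg.Agent.Lib.Transfer.Abelian
import Cfsg.Agent.Lib.Transfer.Residual
import Cfsg.Agent.S0052

set_option maxHeartbeats 1000000
set_option maxRecDepth 8000

set_option autoImplicit false
open Cfsg
open scoped Pointwise

namespace Cfsg.Agent.S0092

/-- If the Sylow p-subgroups of O^p(G) are abelian then G splits over O^p(G). -/
theorem result {G : Type*} [Group G] [Finite G] {p : ℕ} [Fact p.Prime] (h : ∀ Q : Sylow p (Cfsg.pResidual p G), IsMulCommutative Q) : ∃ K : Subgroup G, K.IsComplement' (Cfsg.pResidual p G) := by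
  set N := Cfsg.pResidual p G with hNdef
  have hNn : N.Normal := Cfsg.Agent.Transfer.instNormalPResidual p
  obtain ⟨Q⟩ := (inferInstance : Nonempty (Sylow p N))
  have hQab := h Q
  have hres : Cfsg.pResidual p N = ⊤ := by
    rw [eq_top_iff]
    rintro ⟨x, hx⟩ -
    suffices hs : ∃ hx' : x ∈ N, (⟨x, hx'⟩ : N) ∈ Cfsg.pResidual p N by
      obtain ⟨_, hs⟩ := hs; exact hs
    clear! Q
    induction hx using Subgroup.closure_induction with
    | mem a ha => exact ⟨(Subgroup.subset_closure ha : a ∈ Cfsg.pResidual p G),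
        Cfsg.Agent.Transfer.mem_pResidual_of_coprime (by rw [← Subgroup.orderOf_coe]; exact ha)⟩
    | one => exact ⟨one_mem _, one_mem _⟩
    | mul a b _ _ iha ihb =>
        obtain ⟨ha, ha'⟩ := iha
        obtain ⟨hb, hb'⟩ := ihb
        exact ⟨mul_mem ha hb, mul_mem ha' hb'⟩
    | inv a _ iha =>
        obtain ⟨ha, ha'⟩ := iha
        exact ⟨inv_mem ha, inv_mem ha'⟩
  have hC := (Cfsg.Agent.Transfer.abelian_sylow_decomp Q hQab).1
  rw [hres, inf_top_eq] at hC
  set M₀ : Subgroup N := Subgroup.normalizer ((Q : Subgroup N) : Set N) with hM₀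
  set A : Subgroup M₀ := (Q : Subgroup N).subgroupOf M₀ with hA
  have hQM : (Q : Subgroup N) ≤ M₀ := Subgroup.le_normalizer
  have hAn : A.Normal := Subgroup.normal_in_normalizer
  have hAcard : Nat.card A = Nat.card (Q : Subgroup N) :=
    Nat.card_congr (Subgroup.subgroupOfEquivOfLe hQM).toEquiv
  have hAhall : Nat.Coprime (Nat.card A) A.index := by
    rw [hAcard, Q.card_eq_multiplicity]
    refine Nat.Coprime.pow_left _ ((Fact.out : p.Prime).coprime_iff_not_dvd.2 fun hd => Q.not_dvd_index ?_)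
    exact hd.trans (Subgroup.relIndex_dvd_index_of_le hQM)
  have hAab : IsMulCommutative A := ⟨⟨fun x y => Subtype.ext (Subtype.ext
    (congrArg Subtype.val (hQab.is_comm.comm ⟨x.1.1, x.2⟩ ⟨y.1.1, y.2⟩) : _))⟩⟩
  obtain ⟨K₀, hK₀⟩ := Subgroup.exists_right_complement'_of_coprime hAhall
  let j : M₀ →* G := N.subtype.comp M₀.subtype
  have hj : Function.Injective j := N.subtype_injective.comp M₀.subtype_injective
  set K : Subgroup G := K₀.map j with hK
  set Q' : Subgroup G := (Q : Subgroup N).map N.subtype with hQ'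
  set H : Subgroup G := Subgroup.normalizer (Q' : Set G) with hH
  have hfrat : H ⊔ N = ⊤ := Sylow.normalizer_sup_eq_top Q
  have hrange : ∀ x, x ∈ j.range ↔ x ∈ N ∧ x ∈ H := by
    intro x
    constructor
    · rintro ⟨⟨⟨y, hy⟩, hy'⟩, rfl⟩
      exact ⟨hy, Subgroup.le_normalizer_map N.subtype ⟨⟨y, hy⟩, hy', rfl⟩⟩
    · rintro ⟨hxN, hxH⟩
      refine ⟨⟨⟨x, hxN⟩, ?_⟩, rfl⟩
      rw [hM₀, Subgroup.mem_normalizer_iff]
      intro z
      have := Subgroup.mem_normalizer_iff.1 hxH (z : G)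
      constructor
      · intro hz
        obtain ⟨w, hw, hwe⟩ := this.1 ⟨z, hz, rfl⟩
        rwa [show (⟨x, hxN⟩ : N) * z * ⟨x, hxN⟩⁻¹ = w from Subtype.ext hwe.symm]
      · intro hz
        obtain ⟨w, hw, hwe⟩ := this.2 ⟨_, hz, rfl⟩
        rwa [show z = w from Subtype.ext hwe.symm]
  have hmemA : ∀ m : M₀, m ∈ A ↔ j m ∈ Q' := fun m =>
    (Subgroup.mem_map_iff_mem N.subtype_injective).symm
  have hQ'N : Q' ≤ N := Subgroup.map_subtype_le _
  set L : Subgroup G := H ⊓ Subgroup.normalizer (K : Set G) with hL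
  have hsupL : N ⊔ L = ⊤ := by
    rw [eq_top_iff, ← hfrat]
    refine sup_le (fun g hg => ?_) le_sup_left
    set K₁ : Subgroup M₀ := (MulAut.conj g • K).comap j with hK₁
    have hin : MulAut.conj g • K ≤ j.range := by
      intro x hx
      rw [Subgroup.mem_pointwise_smul_iff_inv_smul_mem] at hx
      obtain ⟨m, hm, hme⟩ := hx
      rw [hrange]
      obtain ⟨h1, h2⟩ := (hrange _).1 ⟨m, rfl⟩
      have hxe : x = g * j m * g⁻¹ := by
        rw [hme]; simp [MulAut.smul_def, mul_assoc]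
      rw [hxe]
      exact ⟨hNn.conj_mem _ h1 g, mul_mem (mul_mem hg h2) (inv_mem hg)⟩
    have hcard1 : Nat.card K₁ = Nat.card K₀ := by
      rw [← Subgroup.card_map_of_injective hj (K := K₁), hK₁, Subgroup.map_comap_eq_self hin,
        ← Nat.card_congr (Subgroup.equivSMul (MulAut.conj g) K).toEquiv, hK, Subgroup.card_map_of_injective hj]
    have hc1 : A.IsComplement' K₁ := by
      refine Subgroup.isComplement'_of_card_mul_and_disjoint (by rw [hcard1]; exact hK₀.card_mul_card) ?_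
      rw [Subgroup.disjoint_def]
      intro m hmA hmK
      rw [hK₁, Subgroup.mem_comap, Subgroup.mem_pointwise_smul_iff_inv_smul_mem] at hmK
      obtain ⟨k, hk, hke⟩ := hmK
      have hke' : j k = g⁻¹ * j m * g := by
        rw [hke]; simp [MulAut.smul_def]
      have hkA : k ∈ A := by
        rw [hmemA, hke']
        have := (Subgroup.mem_normalizer_iff.1 (inv_mem hg) (j m)).1 ((hmemA m).1 hmA)
        rwa [inv_inv] at this
      have h1 : k = 1 := Subgroup.disjoint_def.1 hK₀.disjoint hkA hk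
      subst h1
      rw [map_one] at hke'
      apply hj
      rw [map_one, show j m = g * (g⁻¹ * j m * g) * g⁻¹ by group, ← hke']
      group
    obtain ⟨m, hm⟩ := Cfsg.Agent.S0052.result A A le_rfl hAhall K₀ K₁ hK₀ hc1
      (by rw [inf_comm, disjoint_iff.1 hK₀.disjoint, inf_comm, disjoint_iff.1 hc1.disjoint])
    have hmK : MulAut.conj (j m) • K = MulAut.conj g • K := by
      rw [← Subgroup.map_comap_eq_self hin, ← hK₁, ← hm]
      ext x
      rw [Subgroup.mem_pointwise_smul_iff_inv_smul_mem]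
      constructor
      · rintro ⟨k, hk, hke⟩
        refine ⟨m * k * m⁻¹, ?_, ?_⟩
        · show m * k * m⁻¹ ∈ MulAut.conj m • K₀
          rw [Subgroup.mem_pointwise_smul_iff_inv_smul_mem]
          simpa [MulAut.smul_def, mul_assoc] using hk
        · rw [map_mul, map_mul, map_inv, hke]
          simp [MulAut.smul_def, mul_assoc]
      · rintro ⟨k, hk, rfl⟩
        have hk' : k ∈ MulAut.conj m • K₀ := hk
        rw [Subgroup.mem_pointwise_smul_iff_inv_smul_mem] at hk'
        refine ⟨_, hk', ?_⟩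
        simp [MulAut.smul_def]
    have hgm : (j m)⁻¹ * g ∈ L := by
      refine Subgroup.mem_inf.2 ⟨H.mul_mem (H.inv_mem ((hrange _).1 ⟨m, rfl⟩).2) hg, ?_⟩
      rw [Subgroup.mem_normalizer_iff]
      intro z
      have e1 : MulAut.conj ((j m)⁻¹ * g) • K = K := by
        rw [map_mul, mul_smul, ← hmK, map_inv, inv_smul_smul]
      conv_rhs => rw [← e1, Subgroup.mem_pointwise_smul_iff_inv_smul_mem]
      simp [MulAut.smul_def, mul_assoc]
    rw [show g = j m * ((j m)⁻¹ * g) by group]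
    exact Subgroup.mul_mem_sup ((hrange _).1 ⟨m, rfl⟩).1 hgm
  -- no element of order `p` in `L ⊓ N`
  have hnoP : ∀ x ∈ L ⊓ N, (∃ k, orderOf x = p ^ k) → x = 1 := by
    rintro x ⟨⟨hxH, hxK⟩, hxN⟩ ⟨k, hk⟩
    obtain ⟨m, rfl⟩ := (hrange x).2 ⟨hxN, hxH⟩
    rw [orderOf_injective j hj] at hk
    have hmA : m ∈ A := by
      rw [← QuotientGroup.eq_one_iff, ← orderOf_eq_one_iff]
      refine Nat.eq_one_of_dvd_coprimes (a := p ^ k) (b := A.index) ?_
        (hk ▸ orderOf_map_dvd (QuotientGroup.mk' A) m) (orderOf_dvd_natCard _)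
      exact Nat.Coprime.pow_left _ ((Fact.out : p.Prime).coprime_iff_not_dvd.2 fun hd =>
        Q.not_dvd_index (hd.trans (Subgroup.relIndex_dvd_index_of_le hQM)))
    have hcent : ∀ y : M₀, Commute m y := by
      intro y
      obtain ⟨⟨a, k'⟩, rfl⟩ := hK₀.2 y
      refine Commute.mul_right ?_ ?_
      · exact congrArg Subtype.val (hAab.is_comm.comm ⟨m, hmA⟩ a)
      · have h1 : m * k' * m⁻¹ ∈ K₀ := by
          have := (Subgroup.mem_normalizer_iff.1 hxK (j k')).1 ⟨k', k'.2, rfl⟩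
          rw [← map_inv, ← map_mul, ← map_mul] at this
          exact (Subgroup.mem_map_iff_mem hj).1 this
        have h2 : m * k' * m⁻¹ * (k' : M₀)⁻¹ = 1 := by
          refine Subgroup.disjoint_def.1 hK₀.disjoint ?_ (mul_mem h1 (inv_mem k'.2))
          rw [show m * k' * m⁻¹ * (k' : M₀)⁻¹ = m * ((k' : M₀) * m⁻¹ * (k' : M₀)⁻¹) by group]
          exact mul_mem hmA (hAn.conj_mem _ (inv_mem hmA) _)
        rw [mul_inv_eq_one, mul_inv_eq_iff_eq_mul] at h2
        exact h2
    have h3 : (m : N) ∈ (⊥ : Subgroup N) := hC ▸ Subgroup.mem_inf.2 ⟨hmA, Subgroup.mem_inf.2 ⟨hmA,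
      Subgroup.mem_centralizer_iff.2 fun y hy => (congrArg Subtype.val (hcent ⟨y, hy⟩).eq).symm⟩⟩
    rw [Subgroup.mem_bot] at h3
    rw [show m = 1 from Subtype.ext h3, map_one]
  obtain ⟨R⟩ := (inferInstance : Nonempty (Sylow p L))
  refine ⟨(R : Subgroup L).map L.subtype, Subgroup.isComplement'_of_disjoint_and_mul_eq_univ ?_ ?_⟩
  · rw [Subgroup.disjoint_def]
    intro x hx hxN
    exact hnoP x ⟨Subgroup.map_subtype_le _ hx, hxN⟩ <| by
      obtain ⟨r, hr, rfl⟩ := hx
      obtain ⟨k, hk⟩ := IsPGroup.iff_orderOf.1 R.isPGroup' ⟨r, hr⟩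
      exact ⟨k, by rw [← hk, L.subtype_apply, Subgroup.orderOf_coe]; exact Subgroup.orderOf_coe (⟨r, hr⟩ : (R : Subgroup L))⟩
  · rw [← Subgroup.mul_normal, Set.eq_univ_iff_forall]
    intro x
    rw [SetLike.mem_coe]
    have hsurj : Function.Surjective ((QuotientGroup.mk' N).comp L.subtype) := by
      intro y
      obtain ⟨y, rfl⟩ := QuotientGroup.mk'_surjective N y
      obtain ⟨n, hn, l, hl, rfl⟩ := Subgroup.mem_sup_of_normal_left.1 (hsupL ▸ Subgroup.mem_top y : y ∈ N ⊔ L)
      refine ⟨⟨l, hl⟩, ?_⟩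
      rw [map_mul, show QuotientGroup.mk' N n = 1 from (QuotientGroup.eq_one_iff n).2 hn, one_mul]
      rfl
    have htop : ((R.mapSurjective hsurj : Sylow p (G ⧸ N)) : Subgroup (G ⧸ N)) = ⊤ :=
      ((R.mapSurjective hsurj).3 (Cfsg.Agent.Transfer.isPGroup_quotient_pResidual p |>.to_subgroup ⊤) le_top).symm
    have : QuotientGroup.mk' N x ∈ ((R : Subgroup L).map ((QuotientGroup.mk' N).comp L.subtype)) := by
      rw [← Sylow.coe_mapSurjective hsurj R, htop]; exact Subgroup.mem_top _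
    obtain ⟨r, hr, hre⟩ := this
    rw [show x = (r : G) * ((r : G)⁻¹ * x) by group]
    exact Subgroup.mul_mem_sup ⟨r, hr, rfl⟩ (QuotientGroup.eq.1 hre)

end Cfsg.Agent.S0092
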