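import Cfsg.Statements.S0093
import Cfsg.Agent.Lib.Invol.Critical
-- import your own Cfsg.Agent.* helpers here

set_option autoImplicit false
open Cfsg

namespace Cfsg.Agent.S0093

/-- Every finite p-group has a critical subgroup: a characteristic subgroup H whose Frattini subgroup and whose commutator with the whole group lie in the centre of H, and whose centralizer is contained in H. -/
theorem result {P : Type*} [Group P] [Finite P] {p : ℕ} [Fact p.Prime] (hP : IsPGroup p P) : ∃ H : Subgroup P, H.Characteristic ∧ (frattini H).map H.subtype ≤ Subgroup.centralizer (H : Set P) ∧ ⁅H, (⊤ : Subgroup P)⁆ ≤ H ⊓ Subgroup.centralizer (H : Set P) ∧ Subgroup.centralizer (H : Set P) ≤ H := by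
  obtain ⟨H, hH, h1, h2, h3⟩ := Invol.exists_critical hP
  refine ⟨H, hH, ?_, h1, h3⟩
  have hc : ∀ x : H, (x : P) ∈ Subgroup.centralizer (H : Set P) → x ∈ Subgroup.center H := fun x hx =>
    Subgroup.mem_center_iff.mpr fun y => Subtype.ext (Subgroup.mem_centralizer_iff.mp hx y y.2)
  have hf : frattini H ≤ Subgroup.center H := by
    refine Grp.frattini_le_of_elementary (Fact.out : p.Prime) ?_ fun x => hc _ (h2 x x.2).2
    rw [commutator_def, Subgroup.commutator_le]
    exact fun a _ b _ => hc _ (h1 (Subgroup.commutator_mem_commutator a.2 (Subgroup.mem_top _))).2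
  rintro _ ⟨x, hx, rfl⟩
  exact Subgroup.mem_centralizer_iff.mpr fun y hy =>
    congrArg Subtype.val (Subgroup.mem_center_iff.mp (hf hx) ⟨y, hy⟩)

end Cfsg.Agent.S0093
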