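import Cfsg.Statements.S0097
import Cfsg.Agent.S0094
import Cfsg.Agent.Lib.Transfer.PGroups
import Cfsg.Agent.Lib.Grp.Frattini

set_option maxHeartbeats 1000000
set_option maxRecDepth 8000

set_option autoImplicit false
open Cfsg
open scoped commutatorElement

namespace Cfsg.Agent.S0097

/-- For odd p and E extraspecial, the subgroup generated by the elements of order dividing p has exponent dividing p and index at most p. -/
theorem result {E : Type*} [Group E] [Finite E] {p : ℕ} [Fact p.Prime] (hp : p ≠ 2) (h : Cfsg.IsExtraspecial p E) : (Subgroup.closure {x : E | x ^ p = 1}).index ≤ p ∧ ∀ g ∈ Subgroup.closure {x : E | x ^ p = 1}, g ^ p = 1 := by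
  obtain ⟨hs, hcard⟩ := h
  have hE := hs.1
  have hcm := hs.2.2
  have hcl : Transfer.PGroups.SmallClass p E := by
    refine Or.inl ⟨hp, ?_⟩
    rw [hcm, eq_bot_iff, Subgroup.commutator_le]
    intro a ha b _
    rw [Subgroup.mem_bot, commutatorElement_eq_one_iff_mul_comm]
    exact (Subgroup.mem_center_iff.mp ha b).symm
  refine ⟨?_, fun g hg => Transfer.PGroups.pow_eq_one_of_mem_closure hcl hg⟩
  have hd : ∀ g ∈ commutator E, g ^ p = 1 := fun g hg => S0094.result hs g (hcm ▸ hg)
  let f : E →* Subgroup.center E := MonoidHom.mk'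
    (fun x => ⟨x ^ p, hs.2.1 ▸ Grp.pGroup_pow_mem_frattini hE x⟩)
    (fun x y => Subtype.ext (Transfer.PGroups.mul_pow_of_derived hcl hd x y))
  have hk : f.ker ≤ Subgroup.closure {x : E | x ^ p = 1} := fun x hx =>
    Subgroup.subset_closure (congrArg Subtype.val hx)
  refine le_trans (Nat.le_of_dvd (Nat.pos_of_ne_zero Subgroup.index_ne_zero_of_finite)
    (Subgroup.index_dvd_of_le hk)) ?_
  rw [Subgroup.index_ker, ← hcard]
  exact Nat.card_le_card_of_injective _ f.range.subtype_injective

end Cfsg.Agent.S0097
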