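import Cfsg.Statements.S0099
import Cfsg.Agent.Lib.Transfer.ExtraspecialIso

set_option maxHeartbeats 1000000
set_option maxRecDepth 8000

set_option autoImplicit false
open Cfsg

namespace Cfsg.Agent.S0099

/-- Among three extraspecial 2-groups of equal order, some two are isomorphic. -/
theorem result {E₁ : Type*} {E₂ : Type*} {E₃ : Type*} [Group E₁] [Group E₂] [Group E₃] [Finite E₁] [Finite E₂] [Finite E₃] (h₁ : Cfsg.IsExtraspecial 2 E₁) (h₂ : Cfsg.IsExtraspecial 2 E₂) (h₃ : Cfsg.IsExtraspecial 2 E₃) (h12 : Nat.card E₁ = Nat.card E₂) (h23 : Nat.card E₂ = Nat.card E₃) : Nonempty (E₁ ≃* E₂) ∨ Nonempty (E₂ ≃* E₃) ∨ Nonempty (E₁ ≃* E₃) := by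
  haveI : Fact (Nat.Prime 2) := ⟨Nat.prime_two⟩
  obtain ⟨z₁, g₁, n₁⟩ := Cfsg.Agent.Transfer.ExtraIso.exists_ext h₁
  obtain ⟨z₂, g₂, n₂⟩ := Cfsg.Agent.Transfer.ExtraIso.exists_ext h₂
  obtain ⟨z₃, g₃, n₃⟩ := Cfsg.Agent.Transfer.ExtraIso.exists_ext h₃
  obtain ⟨m₁, -, a₁, b₁⟩ := Cfsg.Agent.Transfer.ExtraIso.count_formula _ E₁ z₁ g₁ rfl n₁
  obtain ⟨m₂, -, a₂, b₂⟩ := Cfsg.Agent.Transfer.ExtraIso.count_formula _ E₂ z₂ g₂ rfl n₂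
  obtain ⟨m₃, -, a₃, b₃⟩ := Cfsg.Agent.Transfer.ExtraIso.count_formula _ E₃ z₃ g₃ rfl n₃
  obtain rfl : m₁ = m₂ := by
    have := Nat.pow_right_injective le_rfl (a₁.symm.trans (h12.trans a₂))
    omega
  obtain rfl : m₁ = m₃ := by
    have := Nat.pow_right_injective le_rfl (a₁.symm.trans ((h12.trans h23).trans a₃))
    omega
  rcases (show Cfsg.Agent.Transfer.ExtraIso.invCount E₁ = Cfsg.Agent.Transfer.ExtraIso.invCount E₂ ∨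
      Cfsg.Agent.Transfer.ExtraIso.invCount E₂ = Cfsg.Agent.Transfer.ExtraIso.invCount E₃ ∨
      Cfsg.Agent.Transfer.ExtraIso.invCount E₁ = Cfsg.Agent.Transfer.ExtraIso.invCount E₃ by omega) with h | h | h
  · obtain ⟨f, -⟩ := Cfsg.Agent.Transfer.ExtraIso.iso_of_count _ E₁ E₂ z₁ z₂ g₁ g₂ rfl h12.symm h
    exact Or.inl ⟨f⟩
  · obtain ⟨f, -⟩ := Cfsg.Agent.Transfer.ExtraIso.iso_of_count _ E₂ E₃ z₂ z₃ g₂ g₃ rfl h23.symm h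
    exact Or.inr (Or.inl ⟨f⟩)
  · obtain ⟨f, -⟩ := Cfsg.Agent.Transfer.ExtraIso.iso_of_count _ E₁ E₃ z₁ z₃ g₁ g₃ rfl (h12.trans h23).symm h
    exact Or.inr (Or.inr ⟨f⟩)

end Cfsg.Agent.S0099
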