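import Cfsg.Statements.S0101
import Cfsg.Agent.Lib.Transfer.Tate

set_option linter.style.haveILetI false
set_option linter.unusedVariables false
-- import your own Cfsg.Agent.* helpers here

set_option autoImplicit false
open Cfsg

namespace Cfsg.Agent.S0101

/-- In a perfect central extension, the kernel meets each Sylow p-subgroup P inside the Frattini subgroup of P. -/
theorem result {H : Type*} {G : Type*} [Group H] [Group G] [Finite H] (σ : H →* G) (hσ : Function.Surjective σ) (hc : σ.ker ≤ Subgroup.center H) (hH : commutator H = ⊤) {p : ℕ} [Fact p.Prime] (P : Sylow p H) : σ.ker ⊓ (P : Subgroup H) ≤ (frattini P).map (P : Subgroup H).subtype := by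
  rintro x ⟨hxk, hxP⟩
  refine ⟨⟨x, hxP⟩, ?_, rfl⟩
  rw [SetLike.mem_coe, frattini, Order.radical, Subgroup.mem_iInf]
  intro L
  rw [Subgroup.mem_iInf]
  intro hL
  have hi := Cfsg.Agent.Transfer.coatom_index_eq P.isPGroup' hL
  haveI : L.Normal := Subgroup.NormalizerCondition.normal_of_coatom L
    (Group.normalizerCondition_of_isNilpotent (h := P.isPGroup'.isNilpotent)) hL
  haveI : IsCyclic ((P : Subgroup H) ⧸ L) := isCyclic_of_prime_card (p := p) hi
  letI : CommGroup ((P : Subgroup H) ⧸ L) := IsCyclic.commGroup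
  let τ : H →* (P : Subgroup H) ⧸ L := MonoidHom.transfer (QuotientGroup.mk' L)
  have hker : τ x = 1 := by
    have hle : commutator H ≤ τ.ker := Abelianization.commutator_subset_ker τ
    exact hle (hH ▸ Subgroup.mem_top x)
  have hxc := hc hxk
  have hcent : ∀ (k : ℕ) (g₀ : H), g₀⁻¹ * x ^ k * g₀ ∈ (P : Subgroup H) → g₀⁻¹ * x ^ k * g₀ = x ^ k :=
    fun k g₀ _ => by
      have hk : x ^ k ∈ Subgroup.center H := pow_mem hxc k
      rw [mul_assoc, ← Subgroup.mem_center_iff.1 hk g₀, inv_mul_cancel_left]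
  rw [MonoidHom.transfer_eq_pow _ _ hcent] at hker
  have h2 : (⟨x, hxP⟩ : (P : Subgroup H)) ^ (P : Subgroup H).index ∈ L :=
    (QuotientGroup.eq_one_iff _).1 hker
  refine Cfsg.Agent.Transfer.mem_of_pow_mem h2 ?_
  obtain ⟨k, hk⟩ := IsPGroup.iff_orderOf.1 P.isPGroup' ⟨x, hxP⟩
  rw [hk]
  exact ((Fact.out : p.Prime).coprime_iff_not_dvd.2 P.not_dvd_index).pow_left k

end Cfsg.Agent.S0101
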