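import Cfsg.Statements.S0104
import Cfsg.Agent.Lib.Transfer.Burnside

set_option linter.style.haveILetI false
set_option linter.unusedVariables false
-- import your own Cfsg.Agent.* helpers here

set_option autoImplicit false
open Cfsg

namespace Cfsg.Agent.S0104

/-- A subgroup Z of a Sylow p-subgroup P that is normalized by N_G(P) is weakly closed in P exactly when it is normal in every Sylow p-subgroup containing it. -/
theorem result {G : Type*} [Group G] [Finite G] {p : ℕ} [Fact p.Prime] (P : Sylow p G) (Z : Subgroup G) (hZP : Z ≤ (P : Subgroup G)) (hZN : Subgroup.normalizer (P : Set G) ≤ Subgroup.normalizer (Z : Set G)) : Cfsg.IsWeaklyClosed Z P ↔ ∀ R : Sylow p G, Z ≤ (R : Subgroup G) → (R : Subgroup G) ≤ Subgroup.normalizer (Z : Set G) := by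
  have hPN : (P : Subgroup G) ≤ Subgroup.normalizer (Z : Set G) := by
    refine le_trans ?_ hZN
    intro a ha
    rw [← Sylow.smul_eq_iff_mem_normalizer]
    apply Sylow.ext
    rw [Sylow.coe_subgroup_smul]
    exact Subgroup.conj_smul_eq_self_of_mem ha
  have hiff : ∀ k : G, k ∈ Subgroup.normalizer (Z : Set G) ↔
      Z.map (MulAut.conj k).toMonoidHom = Z := by
    intro k
    rw [Subgroup.mem_normalizer_iff]
    constructor
    · intro h
      ext z
      constructor
      · rintro ⟨w, hw, rfl⟩; exact (h w).1 hw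
      · intro hz
        exact ⟨k⁻¹ * z * k, (h _).2 (by simpa [mul_assoc] using hz), by simp [mul_assoc]⟩
    · intro h z
      constructor
      · intro hz
        have : (MulAut.conj k).toMonoidHom z ∈ Z.map (MulAut.conj k).toMonoidHom := ⟨z, hz, rfl⟩
        rwa [h] at this
      · intro hz
        rw [← h] at hz
        obtain ⟨w, hw, hwe⟩ := hz
        have : w = z := (MulAut.conj k).injective hwe
        rwa [← this]
  constructor
  · intro hW R hR
    obtain ⟨r, hr⟩ := MulAction.exists_smul_eq G R P
    have hRP : ∀ a ∈ (R : Subgroup G), r * a * r⁻¹ ∈ (P : Subgroup G) := fun a ha => by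
      rw [← hr, Sylow.coe_subgroup_smul]
      exact Subgroup.smul_mem_pointwise_smul a (MulAut.conj r) _ ha
    have hrN : r ∈ Subgroup.normalizer (Z : Set G) := (hiff r).2 (hW.2 r (by
      rintro _ ⟨z, hz, rfl⟩; exact hRP z (hR hz)))
    intro a ha
    have h1 := Subgroup.mul_mem _ (Subgroup.mul_mem _ (Subgroup.inv_mem _ hrN) (hPN (hRP a ha))) hrN
    simpa [mul_assoc] using h1
  · intro h
    refine ⟨hZP, fun g hg => ?_⟩
    have hR : Z ≤ ((g⁻¹ • P : Sylow p G) : Subgroup G) := fun z hz => by
      rw [Sylow.coe_subgroup_smul, Subgroup.mem_pointwise_smul_iff_inv_smul_mem]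
      have : g * z * g⁻¹ ∈ (P : Subgroup G) := hg ⟨z, hz, rfl⟩
      simpa [mul_assoc] using this
    have hRN := h _ hR
    obtain ⟨s, hs, hn⟩ := Cfsg.Agent.Transfer.exists_mem_mul_mem_normalizer P hPN g⁻¹ (fun a ha => by
      apply hRN
      rw [Sylow.coe_subgroup_smul]
      have := Subgroup.smul_mem_pointwise_smul a (MulAut.conj g⁻¹) (P : Subgroup G) ha
      simpa [mul_assoc] using this)
    have h1 : g⁻¹ ∈ Subgroup.normalizer (Z : Set G) := by
      have := Subgroup.mul_mem _ (Subgroup.inv_mem _ hs) (hZN hn)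
      simpa using this
    exact (hiff g).1 (inv_mem_iff.1 h1)

end Cfsg.Agent.S0104
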