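import Cfsg.Statements.S0105
import Cfsg.Agent.Lib.Transfer.Abelian

set_option linter.style.haveILetI false
set_option linter.unusedVariables false
-- import your own Cfsg.Agent.* helpers here

set_option autoImplicit false
open Cfsg

namespace Cfsg.Agent.S0105

/-- With an abelian Sylow p-subgroup P, some quotient of G is isomorphic to the part of P central in N_G(P). -/
theorem result {G : Type*} [Group G] [Finite G] {p : ℕ} [Fact p.Prime] (P : Sylow p G) (hP : IsMulCommutative P) : ∃ (N : Subgroup G) (hN : N.Normal), Nonempty (G ⧸ N ≃* ((P : Subgroup G) ⊓ Subgroup.centralizer (Subgroup.normalizer (P : Set G) : Set G) : Subgroup G)) := by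
  obtain ⟨hb, hs⟩ := Cfsg.Agent.Transfer.abelian_sylow_decomp P hP
  set C := (P : Subgroup G) ⊓ Subgroup.centralizer (Subgroup.normalizer (P : Set G) : Set G) with hC
  refine ⟨Cfsg.pResidual p G, inferInstance, ?_⟩
  let f : C →* G ⧸ Cfsg.pResidual p G := (QuotientGroup.mk' _).comp C.subtype
  have hinj : Function.Injective f := by
    rw [injective_iff_map_eq_one]
    intro x hx
    have hxM : (x : G) ∈ Cfsg.pResidual p G := (QuotientGroup.eq_one_iff (x : G)).1 hx
    exact Subtype.ext (hb.le ⟨⟨x.2.1, hxM⟩, x.2⟩)
  have hsurj : Function.Surjective f := by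
    intro q
    induction q using QuotientGroup.induction_on with
    | H g =>
      have hg : g ∈ C ⊔ Cfsg.pResidual p G := by
        have htop : (⊤ : Subgroup G) ≤ C ⊔ Cfsg.pResidual p G := by
          rw [← Cfsg.Agent.Transfer.sylow_sup_pResidual P]
          exact sup_le (hs.trans (sup_le (inf_le_right.trans le_sup_right) le_sup_left)) le_sup_right
        exact htop (Subgroup.mem_top g)
      obtain ⟨a, ha, o, ho, rfl⟩ := Subgroup.mem_sup_of_normal_right.1 hg
      exact ⟨⟨a, ha⟩, QuotientGroup.eq.2 (by simpa using ho)⟩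
  exact ⟨(MulEquiv.ofBijective f ⟨hinj, hsurj⟩).symm⟩

end Cfsg.Agent.S0105
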