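import Cfsg.Statements.S0109
import Cfsg.Agent.Lib.Invol.ZJElem
import Cfsg.Agent.Lib.Transfer.PStableFree
import Cfsg.Agent.Lib.Grp.Solvable
import Cfsg.Agent.Lib.Grp.Cores
import Cfsg.Agent.Lib.Transfer.Thompson

set_option maxHeartbeats 1000000
set_option maxRecDepth 8000

set_option autoImplicit false
open Cfsg

namespace Cfsg.Agent.S0109

/-- The Thompson factorization Theorem for solvable groups states that, with p odd (and abelian Sylow 2-subgroups when p = 3) and no nontrivial normal subgroup of order prime to p, every element of G is a product of an element normalizing J(P) and an element centralizing the elements of order dividing p in the centre of P. -/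
theorem result {G : Type*} [Group G] [Finite G] {p : ℕ} [Fact p.Prime] (hp : p ≠ 2) (hs : Group.IsSolvable G) (h3 : p = 3 → ∀ T : Sylow 2 G, IsMulCommutative T) (hF : ∀ N : Subgroup G, N.Normal → Nat.Coprime (Nat.card N) p → N = ⊥) (P : Sylow p G) (g : G) : ∃ a ∈ Subgroup.normalizer (Cfsg.thompsonSubgroupOf p (P : Subgroup G) : Set G), ∃ c ∈ Subgroup.centralizer {x : G | x ∈ (P : Subgroup G) ∧ (∀ y ∈ (P : Subgroup G), x * y = y * x) ∧ x ^ p = 1}, g = a * c := by
  haveI := hs
  have hO : Cfsg.pPrimeCore p G = ⊥ := hF _ Grp.pPrimeCore_isNormal Grp.pPrimeCore_coprime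
  have hc := Grp.centralizer_pCore_le (p := p) hO
  have hfree : ¬ Cfsg.Involves ↥(Cfsg.qd p) G := by
    by_cases h : p = 3
    · exact Transfer.qdFree_of_sylow_two_comm hp (h3 h)
    · intro hi
      obtain ⟨H, f, hf⟩ := Transfer.exists_sl_section_of_qd hi
      haveI : Group.IsSolvable H := inferInstance
      haveI := solvable_of_surjective hf
      have htop := Grp.Quad.eq_top_of_commutator hp h
        (commutator (Matrix.SpecialLinearGroup (Fin 2) (ZMod p))) fun s =>
          Subgroup.commutator_mem_commutator (Subgroup.mem_top _) (Subgroup.mem_top _)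
      haveI : Nontrivial (Matrix.SpecialLinearGroup (Fin 2) (ZMod p)) := ⟨Grp.SL2.up 1, 1, fun e => by
        simpa [Grp.SL2.up] using congrFun (congrFun (congrArg Subtype.val e) 0) 1⟩
      exact (Group.IsSolvable.commutator_lt_top_of_nontrivial _).ne htop
  have hst : ∀ (V : Subgroup G) [V.Normal], IsPGroup p V → Cfsg.IsPStableOn p V :=
    fun V _ hV => Grp.Quad.isPStableOn_of_free hp hfree V hV
  set D : Subgroup G := (P : Subgroup G)
  haveI hWn : (Invol.centerOmega p D).Normal :=
    Invol.centerOmega_normal hp hc hst P ⟨le_rfl, fun x _ g h => h⟩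
  set W := Invol.centerOmega p D
  set C := Subgroup.centralizer (W : Set G) with hC
  haveI : C.Normal := Subgroup.normal_centralizer
  set J := Cfsg.thompsonSubgroupOf p D
  have hJC : J ≤ C := fun j hj => Subgroup.mem_centralizer_iff.mpr fun w hw =>
    (Subgroup.mem_centralizer_iff.mp (Invol.mem_centerOmega.mp hw).1.2 j hj).symm
  have hΩW : ∀ x ∈ D, (∀ y ∈ D, x * y = y * x) → x ^ p = 1 → x ∈ W := fun x hx hxc hxp => by
    refine Invol.mem_centerOmega.mpr ⟨⟨?_, ?_⟩, hxp⟩
    · obtain ⟨A, hA⟩ := Transfer.Thompson.exists_max (p := p) (G := D)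
      have hA' : Invol.IsMaxEl p D (A.map D.subtype) := Invol.isMaxEl_iff.mpr
        ⟨Subgroup.map_subtype_le A, by rwa [Subgroup.subgroupOf, Subgroup.comap_map_eq_self_of_injective D.subtype_injective]⟩
      exact hA'.le_thompsonEl (hA'.mem_of_commute hx hxp fun a ha => (hxc a (hA'.1 ha)).symm)
    · exact Subgroup.mem_centralizer_iff.mpr fun j hj => (hxc j (Invol.thompsonEl_le D hj)).symm
  set T := D ⊓ C with hT
  obtain ⟨-, Q, hQ⟩ := Fus.isSylowOf_inf_normal P C
  have hTC : T ≤ C := inf_le_right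
  have hTD : T ≤ D := inf_le_left
  have hJT : J ≤ T := le_inf (Invol.thompsonEl_le D) hJC
  have hJeq : Cfsg.thompsonSubgroupOf p T = J := by
    obtain ⟨A₀, hA₀⟩ := Transfer.Thompson.exists_max (p := p) (G := D)
    have hA' : Invol.IsMaxEl p D (A₀.map D.subtype) := Invol.isMaxEl_iff.mpr
      ⟨Subgroup.map_subtype_le A₀, by rwa [Subgroup.subgroupOf, Subgroup.comap_map_eq_self_of_injective D.subtype_injective]⟩
    refine le_antisymm (Invol.thompsonEl_le_of fun A hA => ?_) (Invol.thompsonEl_le_of fun A hA => ?_)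
    · exact Invol.IsMaxEl.le_thompsonEl ⟨hA.1.trans hTD, hA.2.1, fun B hB hc' =>
        (hA'.2.2 B hB hc').trans (hA.2.2 _ (hA'.le_thompsonEl.trans hJT) hA'.2.1)⟩
    · exact Invol.IsMaxEl.le_thompsonEl ⟨hA.le_thompsonEl.trans hJT, hA.2.1,
        fun B hB hc' => hA.2.2 B (hB.trans hTD) hc'⟩
  have h1 : Subgroup.normalizer (T : Set G) ⊔ C = ⊤ := by
    have hQT : (Q : Subgroup C).map C.subtype = T := by
      rw [hQ, Subgroup.subgroupOf_map_subtype, inf_eq_left.2 hTC]
    rw [← hQT]
    exact Sylow.normalizer_sup_eq_top Q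
  obtain ⟨n, hn, c, hcC, e⟩ := Subgroup.mem_sup_of_normal_right.1
    (show g ∈ Subgroup.normalizer (T : Set G) ⊔ C by rw [h1]; exact Subgroup.mem_top g)
  refine ⟨n, ?_, c, Subgroup.mem_centralizer_iff.mpr fun x hx =>
    Subgroup.mem_centralizer_iff.mp hcC x (hΩW x hx.1 hx.2.1 hx.2.2), e.symm⟩
  rw [← hJeq]
  refine Fus.mem_normalizer_of_forall (fun x hx => Invol.conj_mem_thompsonEl hn hx) fun x hx => ?_
  simpa using Invol.conj_mem_thompsonEl (inv_mem hn) hx

end Cfsg.Agent.S0109
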