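import Cfsg.Statements.S0110
import Cfsg.Agent.Lib.Transfer.PGroups

set_option maxHeartbeats 1000000
set_option maxRecDepth 8000

set_option autoImplicit false
open Cfsg
open scoped commutatorElement

namespace Cfsg.Agent.S0110

/-- In a p-group G, an extraspecial subgroup E with [G, E] ≤ Z(E) satisfies G = E C_G(E). -/
theorem result {G : Type*} [Group G] [Finite G] {p : ℕ} [Fact p.Prime] (hG : IsPGroup p G) (E : Subgroup G) (hE : Cfsg.IsExtraspecial p E) (h : ⁅(⊤ : Subgroup G), E⁆ ≤ E ⊓ Subgroup.centralizer (E : Set G)) : E ⊔ Subgroup.centralizer (E : Set G) = ⊤ := by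
  obtain ⟨⟨_, _, hcm⟩, hcard⟩ := hE
  set Z : Subgroup G := (Subgroup.center E).map E.subtype with hZdef
  have hZ : Nat.card Z = p := by
    rw [hZdef, Subgroup.card_map_of_injective E.subtype_injective, hcard]
  have hmemZ : ∀ z : G, z ∈ Z ↔ z ∈ E ∧ ∀ t ∈ E, z * t = t * z := by
    intro z
    constructor
    · rintro ⟨w, hw, rfl⟩
      exact ⟨w.2, fun t ht => (congrArg Subtype.val (Subgroup.mem_center_iff.mp hw ⟨t, ht⟩)).symm⟩
    · rintro ⟨hz, hzc⟩
      exact ⟨⟨z, hz⟩, Subgroup.mem_center_iff.mpr fun t => Subtype.ext (hzc t.1 t.2).symm, rfl⟩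
  have hcomm : ∀ a ∈ E, ∀ b ∈ E, ⁅a, b⁆ ∈ Z := fun a ha b hb =>
    ⟨⁅(⟨a, ha⟩ : E), ⟨b, hb⟩⁆, hcm ▸ Subgroup.commutator_mem_commutator (Subgroup.mem_top _)
      (Subgroup.mem_top _), rfl⟩
  have hg : Transfer.PGroups.Good Z E :=
    ⟨fun z hz => ((hmemZ z).mp hz).1, hcomm, fun z hz t ht => ((hmemZ z).mp hz).2 t ht,
      fun z hz hzc => (hmemZ z).mpr ⟨hz, hzc⟩⟩
  have hgE : ∀ g : G, ∀ t ∈ E, ⁅g, t⁆ ∈ Z := by
    intro g t ht
    obtain ⟨h1, h2⟩ := h (Subgroup.commutator_mem_commutator (Subgroup.mem_top g) ht)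
    exact (hmemZ _).mpr ⟨h1, fun s hs => (Subgroup.mem_centralizer_iff.mp h2 s hs).symm⟩
  have hgZ : ∀ g : G, ∀ z ∈ Z, g * z = z * g := by
    intro g
    have hle : (Subgroup.center E) ≤ (Subgroup.centralizer {g}).comap E.subtype := by
      rw [← hcm, commutator_eq_closure, Subgroup.closure_le]
      rintro _ ⟨a, b, rfl⟩
      refine Subgroup.mem_centralizer_singleton_iff.mpr ?_
      have e1 : g * (a : G) * g⁻¹ = ⁅g, (a : G)⁆ * a := by simp [commutatorElement_def]
      have e2 : g * (b : G) * g⁻¹ = ⁅g, (b : G)⁆ * b := by simp [commutatorElement_def]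
      have hz1 := ((hmemZ _).mp (hgE g a a.2)).2
      have hz2 := ((hmemZ _).mp (hgE g b b.2)).2
      have key : g * ⁅(a : G), (b : G)⁆ * g⁻¹ = ⁅(a : G), (b : G)⁆ := by
        calc g * ⁅(a : G), (b : G)⁆ * g⁻¹
            = (g * a * g⁻¹) * (g * b * g⁻¹) * (g * a * g⁻¹)⁻¹ * (g * b * g⁻¹)⁻¹ := by
              simp only [commutatorElement_def]; group
          _ = _ := by
              rw [e1, e2]
              set z := ⁅g, (a : G)⁆
              set w := ⁅g, (b : G)⁆
              have hw : w ∈ E := ((hmemZ _).mp (hgE g b b.2)).1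
              calc z * a * (w * b) * (z * a)⁻¹ * (w * b)⁻¹
                  = z * ((a : G) * w * (b : G) * (a : G)⁻¹) * z⁻¹ * (b : G)⁻¹ * w⁻¹ := by group
                _ = ((a : G) * w * (b : G) * (a : G)⁻¹) * (b : G)⁻¹ * w⁻¹ := by
                    rw [hz1 _ (E.mul_mem (E.mul_mem (E.mul_mem a.2 hw) b.2) (E.inv_mem a.2)),
                      mul_inv_cancel_right]
                _ = w * ⁅(a : G), (b : G)⁆ * w⁻¹ := by
                    rw [commutatorElement_def, ← hz2 _ a.2]; group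
                _ = ⁅(a : G), (b : G)⁆ := by
                    rw [hz2 _ ((hmemZ _).mp (hcomm _ a.2 _ b.2)).1, mul_inv_cancel_right]
      change ⁅(a : G), (b : G)⁆ * g = g * ⁅(a : G), (b : G)⁆
      exact (mul_inv_eq_iff_eq_mul.mp key).symm
    rintro _ ⟨z, hz, rfl⟩
    exact (Subgroup.mem_centralizer_singleton_iff.mp (hle hz)).symm
  refine eq_top_iff.mpr fun g _ => ?_
  obtain ⟨k, hk, hkc⟩ := Transfer.PGroups.good_inner hZ hg g (hgE g) (hgZ g)
  have hc : k⁻¹ * g ∈ Subgroup.centralizer (E : Set G) :=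
    Subgroup.mem_centralizer_iff.mpr fun t ht => (hkc t ht).symm
  rw [← mul_inv_cancel_left k g]
  exact Subgroup.mul_mem_sup hk hc

end Cfsg.Agent.S0110
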