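import Cfsg.Statements.S0119
import Cfsg.Agent.Lib.Grp.Frattini
import Mathlib

set_option maxHeartbeats 1000000
set_option maxRecDepth 8000

set_option autoImplicit false
open Cfsg
open scoped commutatorElement

namespace Cfsg.Agent.S0119

/-- If a p'-group A of automorphisms of a p-group G satisfies G = [G, A] and acts trivially on every characteristic abelian subgroup, then G is special with centre equal to the fixed points of A. -/
theorem result {G : Type*} [Group G] [Finite G] {p : ℕ} [Fact p.Prime] (hG : IsPGroup p G) (A : Subgroup (MulAut G)) (hA : Nat.Coprime (Nat.card A) p) (hGA : Subgroup.closure {x : G | ∃ g : G, ∃ a ∈ A, x = g⁻¹ * a g} = ⊤) (hchar : ∀ H : Subgroup G, H.Characteristic → IsMulCommutative H → ∀ a ∈ A, ∀ h ∈ H, a h = h) : Cfsg.IsSpecial p G ∧ (∀ g : G, (g ∈ Subgroup.center G ↔ ∀ a ∈ A, a g = g)) := by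
  classical
  haveI := hG.isNilpotent
  haveI := Fintype.ofFinite A
  have hfix_comm : ∀ a ∈ A, ∀ g : G, a (a⁻¹ g) = g := fun a _ g => by rw [← MulAut.mul_apply, mul_inv_cancel, MulAut.one_apply]
  -- fixed points modulo the derived group
  have hfpf : ∀ x : G, (∀ a ∈ A, x⁻¹ * a x ∈ commutator G) → x ∈ commutator G := by
    intro x hx
    let f : G →* Abelianization G := Abelianization.of
    let N : G →* Abelianization G := ∏ a : A, f.comp (a : MulAut G).toMonoidHom
    have hN : ∀ g, N g = ∏ a : A, f ((a : MulAut G) g) := fun g => MonoidHom.finsetProd_apply _ _ _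
    have htop : (⊤ : Subgroup G) ≤ N.ker := by
      rw [← hGA, Subgroup.closure_le]
      rintro _ ⟨g, a, ha, rfl⟩
      rw [SetLike.mem_coe, MonoidHom.mem_ker, hN]
      have e : ∀ b : A, f ((b : MulAut G) (g⁻¹ * a g)) = (f ((b : MulAut G) g))⁻¹ * f (((b * ⟨a, ha⟩ : A) : MulAut G) g) := fun b => by
        rw [map_mul, map_inv, map_mul, map_inv, Subgroup.coe_mul, MulAut.mul_apply]
      simp only [e]
      rw [Finset.prod_mul_distrib, Finset.prod_inv_distrib, inv_mul_eq_one]
      exact (Equiv.prod_comp (Equiv.mulRight (⟨a, ha⟩ : A)) (fun b : A => f ((b : MulAut G) g))).symm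
    have h1 : N x = 1 := htop (Subgroup.mem_top x)
    have h2 : ∀ a : A, f ((a : MulAut G) x) = f x := fun a => by
      have := hx a a.2
      rw [← Abelianization.ker_of, MonoidHom.mem_ker, map_mul, map_inv, inv_mul_eq_one] at this
      exact this.symm
    rw [hN] at h1
    simp only [h2, Finset.prod_const, Finset.card_univ] at h1
    rw [← Abelianization.ker_of, MonoidHom.mem_ker, ← orderOf_eq_one_iff]
    obtain ⟨k, hk⟩ := hG x
    have h3 : orderOf (f x) ∣ p ^ k := orderOf_dvd_of_pow_eq_one (by rw [← map_pow, hk, map_one])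
    have h4 : orderOf (f x) ∣ Nat.card A := by rw [Nat.card_eq_fintype_card]; exact orderOf_dvd_of_pow_eq_one h1
    exact Nat.eq_one_of_dvd_coprimes (hA.pow_right k) h4 h3
  -- class two
  let γ : ℕ → Subgroup G := fun i => (⊤ : Subgroup G).lowerCentralSeries i
  have hex : ∃ c, γ c = ⊥ := Subgroup.nilpotent_iff_lowerCentralSeries.mp (inferInstance : Group.IsNilpotent G)
  have h2 : γ 2 = ⊥ := by
    by_contra hne
    have hspec := Nat.find_spec hex
    have hmin : ∀ i < Nat.find hex, γ i ≠ ⊥ := fun i hi => Nat.find_min hex hi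
    have hanti : Antitone γ := Subgroup.lowerCentralSeries_antitone _
    obtain ⟨d, hd⟩ : ∃ d, Nat.find hex = d + 3 := ⟨Nat.find hex - 3, by
      by_contra hc
      exact hne (le_bot_iff.1 (hspec ▸ hanti (by omega : Nat.find hex ≤ 2)))⟩
    rw [hd] at hspec hmin
    have hs : ∀ i, γ (i + 1) = ⁅γ i, (⊤ : Subgroup G)⁆ := fun i => Subgroup.lowerCentralSeries_succ ⊤ i
    set K := γ (d + 1) with hK
    have hKc : ⁅⁅(⊤ : Subgroup G), (⊤ : Subgroup G)⁆, K⁆ = ⊥ := by
      refine Subgroup.commutator_commutator_eq_bot_of_rotate ?_ ?_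
      · rw [Subgroup.commutator_comm (⊤ : Subgroup G) K, ← hs, ← hs]; exact hspec
      · rw [← hs, ← hs]; exact hspec
    have hKab : IsMulCommutative K := by
      refine ⟨⟨fun a b => Subtype.ext ?_⟩⟩
      have ha : (a : G) ∈ ⁅(⊤ : Subgroup G), (⊤ : Subgroup G)⁆ := by
        have h := hanti (show 1 ≤ d + 1 by omega) a.2
        rwa [hs 0] at h
      exact commutatorElement_eq_one_iff_mul_comm.1
        (Subgroup.mem_bot.1 (hKc ▸ Subgroup.commutator_mem_commutator ha b.2))
    haveI hKchar : K.Characteristic := by show ((⊤ : Subgroup G).lowerCentralSeries (d + 1)).Characteristic; infer_instance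
    have hfix := hchar K hKchar hKab
    have hcen : ∀ z ∈ γ (d + 2), ∀ g : G, z * g = g * z := fun z hz g => commutatorElement_eq_one_iff_mul_comm.1
      (Subgroup.mem_bot.1 (hspec ▸ (hs (d + 2)).ge (Subgroup.commutator_mem_commutator hz (Subgroup.mem_top g))))
    refine hmin (d + 2) (by omega) (le_bot_iff.1 ?_)
    show γ ((d + 1) + 1) ≤ ⊥
    rw [hs, Subgroup.commutator_le]
    intro k hk g _
    have htop : (⊤ : Subgroup G) ≤ Subgroup.centralizer ({k} : Set G) := by
      rw [← hGA, Subgroup.closure_le]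
      rintro _ ⟨g, a, ha, rfl⟩
      rw [SetLike.mem_coe, Subgroup.mem_centralizer_singleton_iff]
      have h1 : ∀ u : G, ⁅k, u⁆ ∈ γ (d + 2) := fun u =>
        (hs (d + 1)).ge (Subgroup.commutator_mem_commutator hk (Subgroup.mem_top u))
      have h3 : ⁅k, a g⁆ = ⁅k, g⁆ := by
        have h := hfix a ha _ (hanti (show d + 1 ≤ d + 2 by omega) (h1 g))
        rw [map_commutatorElement, hfix a ha k hk] at h
        exact h
      have e : ⁅k, a g⁆ = ⁅k, g⁆ * (g * ⁅k, g⁻¹ * a g⁆ * g⁻¹) := by
        simp only [commutatorElement_def]; group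
      rw [h3, left_eq_mul, mul_inv_eq_one] at e
      exact (commutatorElement_eq_one_iff_mul_comm.1 (by
        have := hcen _ (h1 (g⁻¹ * a g)) g
        rw [← this] at e
        exact right_eq_mul.1 e.symm)).symm
    exact Subgroup.mem_bot.2 (commutatorElement_eq_one_iff_mul_comm.2
      (Subgroup.mem_centralizer_singleton_iff.1 (htop (Subgroup.mem_top g))).symm)
  have hcen : commutator G ≤ Subgroup.center G := by
    intro z hz
    rw [Subgroup.mem_center_iff]
    intro g
    have hs : γ 2 = ⁅γ 1, (⊤ : Subgroup G)⁆ := Subgroup.lowerCentralSeries_succ ⊤ 1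
    have hz1 : z ∈ γ 1 := by
      show z ∈ (⊤ : Subgroup G).lowerCentralSeries 1
      rw [Subgroup.lowerCentralSeries_succ, Subgroup.lowerCentralSeries_zero]
      exact hz
    exact (commutatorElement_eq_one_iff_mul_comm.1
      (Subgroup.mem_bot.1 (h2 ▸ hs.ge (Subgroup.commutator_mem_commutator hz1 (Subgroup.mem_top g))))).symm
  have hcfix : ∀ a ∈ A, ∀ z ∈ Subgroup.center G, a z = z := hchar (Subgroup.center G) inferInstance inferInstance
  have hZ : Subgroup.center G = commutator G := by
    refine le_antisymm (fun z hz => hfpf z fun a ha => ?_) hcen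
    rw [hcfix a ha z hz, inv_mul_cancel]
    exact Subgroup.one_mem _
  have hpow : ∀ (m : ℕ) (x y : G), ⁅x ^ m, y⁆ = ⁅x, y⁆ ^ m := fun m x y => by
    induction m with
    | zero => simp
    | succ m ih =>
      have hz := Subgroup.mem_center_iff.1 (hcen (Subgroup.commutator_mem_commutator (Subgroup.mem_top x) (Subgroup.mem_top y)))
      have e : ⁅x * x ^ m, y⁆ = x * ⁅x ^ m, y⁆ * x⁻¹ * ⁅x, y⁆ := by simp only [commutatorElement_def]; group
      rw [pow_succ' x, e, ih, show x * ⁅x, y⁆ ^ m * x⁻¹ = ⁅x, y⁆ ^ m from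
        (mul_inv_eq_iff_eq_mul.2 ((show Commute x ⁅x, y⁆ from hz x).pow_right m).eq), pow_succ]
  -- exponent of the derived group
  have hexn : ∃ n, ∀ x y : G, ⁅x, y⁆ ^ p ^ n = 1 := by
    obtain ⟨n, hn⟩ := IsPGroup.iff_card.1 hG
    exact ⟨n, fun x y => by rw [← hn]; exact pow_card_eq_one'⟩
  have hp1 : ∀ x y : G, ⁅x, y⁆ ^ p = 1 := by
    have hspec := Nat.find_spec hexn
    by_cases hn : Nat.find hexn ≤ 1
    · intro x y
      have := hspec x y
      rcases Nat.le_one_iff_eq_zero_or_eq_one.1 hn with h | h <;> rw [h] at this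
      · rw [pow_zero, pow_one] at this; rw [this, one_pow]
      · rwa [pow_one] at this
    exfalso
    obtain ⟨n, hn'⟩ : ∃ n, Nat.find hexn = n + 2 := ⟨Nat.find hexn - 2, by omega⟩
    rw [hn'] at hspec
    set q := p ^ (n + 1) with hq
    refine Nat.find_min hexn (show n + 1 < Nat.find hexn by omega) fun x y => ?_
    rw [← hq, ← hpow q x y]
    let S : Set G := {g | (∃ u : G, g = u ^ q) ∨ g ∈ commutator G}
    set K := Subgroup.closure S with hK
    have hcS : ∀ u ∈ S, ∀ v ∈ S, u * v = v * u := by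
      rintro u (⟨u, rfl⟩ | hu) v (⟨v, rfl⟩ | hv)
      · refine commutatorElement_eq_one_iff_mul_comm.1 ?_
        rw [hpow, ← inv_inj, ← inv_pow, commutatorElement_inv, hpow, ← pow_mul, inv_one,
          show q * q = p ^ (n + 2) * p ^ n by rw [hq]; ring, pow_mul, hspec, one_pow]
      · exact Subgroup.mem_center_iff.1 (hcen hv) _
      · exact (Subgroup.mem_center_iff.1 (hcen hu) _).symm
      · exact Subgroup.mem_center_iff.1 (hcen hv) _
    have hKab : IsMulCommutative K := Subgroup.isMulCommutative_closure hcS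
    have hKc : K.Characteristic := by
      rw [Subgroup.characteristic_iff_map_le]
      intro φ
      rw [hK, MonoidHom.map_closure, Subgroup.closure_le]
      rintro _ ⟨g, hg | hg, rfl⟩
      · obtain ⟨u, rfl⟩ := hg
        exact Subgroup.subset_closure (Or.inl ⟨φ u, map_pow φ u q⟩)
      · refine Subgroup.subset_closure (Or.inr ?_)
        have hc : (commutator G).map φ.toMonoidHom ≤ commutator G :=
          Subgroup.characteristic_iff_map_le.1 inferInstance φ
        exact hc ⟨g, hg, rfl⟩
    have hxq : x ^ q ∈ commutator G := hfpf _ fun a ha => by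
      rw [hchar K hKc hKab a ha _ (Subgroup.subset_closure (Or.inl ⟨x, rfl⟩)), inv_mul_cancel]
      exact Subgroup.one_mem _
    exact commutatorElement_eq_one_iff_mul_comm.2 ((Subgroup.mem_center_iff.1 (hcen hxq) y).symm)
  have hfr : frattini G = Subgroup.center G := by
    refine le_antisymm (Cfsg.Agent.Grp.frattini_le_of_elementary (p := p) Fact.out hZ.ge fun x => ?_)
      (hZ.le.trans (Cfsg.Agent.Grp.pGroup_commutator_le_frattini hG))
    rw [Subgroup.mem_center_iff]
    intro y
    exact (commutatorElement_eq_one_iff_mul_comm.1 (by rw [hpow, hp1])).symm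
  refine ⟨⟨hG, hfr, hZ.symm⟩, fun g => ⟨fun hg a ha => hcfix a ha g hg, fun hg => ?_⟩⟩
  rw [hZ]
  exact hfpf g fun a ha => by rw [hg a ha, inv_mul_cancel]; exact Subgroup.one_mem _

end Cfsg.Agent.S0119
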