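import Cfsg.Statements.S0120
import Cfsg.Agent.Lib.Grp.OmegaFixed
-- import your own Cfsg.Agent.* helpers here

set_option autoImplicit false
open Cfsg

namespace Cfsg.Agent.S0120

/-- For odd p, a p'-automorphism of a p-group acting trivially on the elements of order dividing p is trivial. -/
theorem result {G : Type*} [Group G] [Finite G] {p : ℕ} [Fact p.Prime] (hp : p ≠ 2) (hG : IsPGroup p G) (a : MulAut G) (ha : Nat.Coprime (orderOf a) p) (h : ∀ x : G, x ^ p = 1 → a x = x) : a = 1 := by
  refine MulEquiv.ext fun x => ?_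
  refine Cfsg.Agent.Grp.OmegaFix.aut_eq_one hp _ G rfl hG a (orderOf a) ha (fun y => ?_) h x
  have hit : ∀ (i : ℕ) (y : G), (a ^ i) y = (⇑a)^[i] y := by
    intro i
    induction i with
    | zero => intro y; rfl
    | succ i ih => intro y; rw [pow_succ', MulAut.mul_apply, ih, Function.iterate_succ_apply']
  rw [← hit, pow_orderOf_eq_one]; rfl

end Cfsg.Agent.S0120
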