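import Cfsg.Statements.S0125
import Cfsg.Agent.Lib.Transfer.Abelian

set_option linter.style.haveILetI false
set_option linter.unusedVariables false
-- import your own Cfsg.Agent.* helpers here

set_option autoImplicit false
open Cfsg

namespace Cfsg.Agent.S0125

/-- The centralizer of a self-centralizing normal subgroup A of a Sylow p-subgroup is the direct product of A with a normal p'-subgroup. -/
theorem result {G : Type*} [Group G] [Finite G] {p : ℕ} [Fact p.Prime] (R : Sylow p G) (A : Subgroup G) (hAR : A ≤ (R : Subgroup G)) (hAn : (R : Subgroup G) ≤ Subgroup.normalizer (A : Set G)) (hC : (R : Subgroup G) ⊓ Subgroup.centralizer (A : Set G) = A) : ∃ H : Subgroup G, H ≤ Subgroup.centralizer (A : Set G) ∧ Nat.Coprime (Nat.card H) p ∧ Subgroup.centralizer (A : Set G) ≤ Subgroup.normalizer (H : Set G) ∧ H ⊓ A = ⊥ ∧ H ⊔ A = Subgroup.centralizer (A : Set G) := by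
  set C := Subgroup.centralizer (A : Set G) with hCdef
  have hAC : A ≤ C := hC.ge.trans inf_le_right
  set Nm := Subgroup.normalizer (A : Set G) with hNm
  have hCN : C ≤ Nm := Subgroup.centralizer_le_normalizer _
  haveI hn : (C.subgroupOf Nm).Normal := Subgroup.normal_subgroupOf_centralizer_normalizer _
  have hi : ¬ p ∣ (A.subgroupOf C).index := by
    have h1 := Cfsg.Agent.Grp.sylow_inf_normal_relIndex (R.subtype hAn) (C.subgroupOf Nm)
    rw [Sylow.coe_subtype, Subgroup.relIndex_subgroupOf hCN] at h1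
    rwa [← Subgroup.inf_relIndex_right, hC] at h1
  have hpg : IsPGroup p (A.subgroupOf C) :=
    (R.isPGroup'.to_le hAR).of_equiv (Subgroup.subgroupOfEquivOfLe hAC).symm
  set P : Sylow p C := hpg.toSylow hi with hP
  have hPc : Subgroup.normalizer ((P : Sylow p C) : Set C) ≤ Subgroup.centralizer ((P : Sylow p C) : Set C) :=
    fun g _ x hx => Subtype.ext (g.2 (x : G) hx)
  obtain ⟨K, hnK, hcomp, hKd⟩ : ∃ K : Subgroup C, K.Normal ∧ K.IsComplement' (A.subgroupOf C) ∧
      ¬ p ∣ Nat.card K :=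
    ⟨_, inferInstance, MonoidHom.ker_transferSylow_isComplement' P hPc,
      MonoidHom.not_dvd_card_ker_transferSylow P hPc⟩
  refine ⟨K.map C.subtype, Subgroup.map_subtype_le _, ?_, ?_, ?_, ?_⟩
  · rw [Subgroup.card_subtype, Nat.coprime_comm]
    exact (Fact.out : p.Prime).coprime_iff_not_dvd.2 hKd
  · intro g hg
    rw [Subgroup.mem_normalizer_iff]
    intro x
    constructor
    · rintro ⟨y, hy, rfl⟩
      exact ⟨⟨g, hg⟩ * y * (⟨g, hg⟩)⁻¹, hnK.conj_mem y hy _, rfl⟩
    · rintro ⟨y, hy, hye⟩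
      refine ⟨(⟨g, hg⟩)⁻¹ * y * ⟨g, hg⟩, by simpa using hnK.conj_mem y hy (⟨g, hg⟩)⁻¹, ?_⟩
      change g⁻¹ * (y : G) * g = x
      rw [show (y : G) = g * x * g⁻¹ from hye]; group
  · rw [eq_bot_iff]
    rintro x ⟨⟨y, hy, rfl⟩, hx⟩
    have : y = 1 := hcomp.disjoint.le_bot ⟨hy, hx⟩
    simp [this]
  · refine le_antisymm (sup_le (Subgroup.map_subtype_le _) hAC) fun g hg => ?_
    obtain ⟨⟨k, a⟩, he⟩ := hcomp.2 ⟨g, hg⟩
    have he' : (((k : C) : G)) * ((a : C) : G) = g := congrArg Subtype.val he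
    rw [← he']
    exact mul_mem (Subgroup.mem_sup_left ⟨k, k.2, rfl⟩) (Subgroup.mem_sup_right (show ((a : C) : G) ∈ A from a.2))

end Cfsg.Agent.S0125
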