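import Cfsg.Statements.S0126
import Mathlib
import Cfsg.Agent.Lib.Grp.OmegaFixed
import Cfsg.Agent.Lib.Grp.Frattini
import Cfsg.Agent.Lib.Grp.Basic
import Cfsg.Agent.Lib.Invol.RankOne
-- import your own Cfsg.Agent.* helpers here

set_option autoImplicit false
open Cfsg

namespace Cfsg.Agent.S0126

universe u

/-- An element of order `p` outside a central subgroup of order `p`, central modulo it. -/
theorem exists_second {p : ℕ} [Fact p.Prime] (hp : p ≠ 2) : ∀ (n : ℕ) (R : Type u) [Group R] [Finite R],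
    Nat.card R = n → IsPGroup p R → ∀ z : R, z ∈ Subgroup.center R → z ^ p = 1 →
      (∃ y : R, y ^ p = 1 ∧ y ∉ Subgroup.zpowers z) →
      ∃ w : R, w ^ p = 1 ∧ w ∉ Subgroup.zpowers z ∧ ∀ g : R, g * w * g⁻¹ * w⁻¹ ∈ Subgroup.zpowers z := by
  intro n
  induction n using Nat.strong_induction_on with
  | _ n ih =>
    intro R _ _ hn hR z hz hzp ⟨y, hy, hyz⟩
    haveI := hR.isNilpotent
    have hzg : ∀ g : R, Commute z g := fun g => (Subgroup.mem_center_iff.1 hz g).symm
    haveI hZn : (Subgroup.zpowers z).Normal := ⟨fun x hx g => by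
      rw [Subgroup.mem_center_iff.1 (Subgroup.zpowers_le.2 hz hx) g, mul_inv_cancel_right]; exact hx⟩
    set E := Subgroup.zpowers z ⊔ Subgroup.zpowers y with hE
    by_cases hEtop : E = ⊤
    · refine ⟨y, hy, hyz, fun g => ?_⟩
      obtain ⟨a, ha, b, hb, rfl⟩ := Subgroup.mem_sup_of_normal_left.1 (hEtop ▸ Subgroup.mem_top g : g ∈ E)
      obtain ⟨i, rfl⟩ := Subgroup.mem_zpowers_iff.1 ha
      obtain ⟨j, rfl⟩ := Subgroup.mem_zpowers_iff.1 hb
      have hc : Commute (z ^ i * y ^ j) y := ((hzg y).zpow_left i).mul_left ((Commute.refl y).zpow_left j)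
      rw [hc.eq, mul_inv_cancel_right, mul_inv_cancel]
      exact one_mem _
    obtain ⟨M, hM, hEM⟩ := (eq_top_or_exists_le_coatom E).resolve_left hEtop
    haveI : M.Normal := Subgroup.NormalizerCondition.normal_of_coatom M Group.normalizerCondition_of_isNilpotent hM
    have hzM : z ∈ M := hEM (Subgroup.mem_sup_left (Subgroup.mem_zpowers z))
    have hyM : y ∈ M := hEM (Subgroup.mem_sup_right (Subgroup.mem_zpowers y))
    let Ω : Subgroup R :=
      { carrier := {x | x ∈ M ∧ x ^ p = 1 ∧ ∀ m ∈ M, ∀ k ∈ M, Commute (m * x * m⁻¹ * x⁻¹) k}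
        one_mem' := ⟨one_mem _, one_pow _, fun m _ k _ => by simp⟩
        inv_mem' := fun {x} ⟨hx, hxp, hxc⟩ => ⟨inv_mem hx, by rw [inv_pow, hxp, inv_one], fun m hm k hk => by
          have e : m * x⁻¹ * m⁻¹ * x⁻¹⁻¹ = x⁻¹ * (m * x * m⁻¹ * x⁻¹)⁻¹ * x := by group
          rw [e, ((hxc m hm x hx).inv_left.inv_right).symm.eq, inv_mul_cancel_right]
          exact (hxc m hm k hk).inv_left⟩
        mul_mem' := fun {u v} ⟨hu, hup, huc⟩ ⟨hv, hvp, hvc⟩ => ⟨mul_mem hu hv, by
          have hz' : v * u * v⁻¹ * u⁻¹ = v * u * v⁻¹ * u⁻¹ := rfl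
          have hzz : (v * u * v⁻¹ * u⁻¹) ^ p = 1 := by
            have h2 : v * u * v⁻¹ = (v * u * v⁻¹ * u⁻¹) * u := by group
            have h3 : (v * u * v⁻¹) ^ p = 1 := by rw [conj_pow, hup, mul_one, mul_inv_cancel]
            rw [h2, (huc v hv u hu).mul_pow, hup, mul_one] at h3
            exact h3
          rw [Cfsg.Agent.Grp.OmegaFix.mul_pow_central u v _ hz' (huc v hv u hu) (huc v hv v hv) p, hup, hvp]
          obtain ⟨c, hc⟩ := (Fact.out : p.Prime).dvd_choose_self two_ne_zero (by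
            have := (Fact.out : p.Prime).two_le; omega : 2 < p)
          rw [hc, pow_mul, hzz, one_pow, one_mul, one_mul],
          fun m hm k hk => by
            have e : m * (u * v) * m⁻¹ * (u * v)⁻¹ = (m * u * m⁻¹ * u⁻¹) * (u * (m * v * m⁻¹ * v⁻¹) * u⁻¹) := by group
            rw [e, (hvc m hm u hu).symm.eq, mul_inv_cancel_right]
            exact (huc m hm k hk).mul_left (hvc m hm k hk)⟩ }
    haveI : Ω.Normal := ⟨fun x ⟨hx, hxp, hxc⟩ g => ⟨(inferInstance : M.Normal).conj_mem x hx g,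
      by rw [conj_pow, hxp, mul_one, mul_inv_cancel], fun m hm k hk => by
        have h1 := (hxc _ ((inferInstance : M.Normal).conj_mem m hm g⁻¹) _
          ((inferInstance : M.Normal).conj_mem k hk g⁻¹)).map (MulAut.conj g).toMonoidHom
        simpa [mul_assoc] using h1⟩⟩
    have hzΩ : z ∈ Ω := ⟨hzM, hzp, fun m _ k _ => by
      rw [← (hzg m).eq, mul_inv_cancel_right, mul_inv_cancel]; exact Commute.one_left k⟩
    have hlt : Nat.card M < n := by
      rw [← hn]
      exact (Nat.le_of_dvd Nat.card_pos M.card_subgroup_dvd_card).lt_of_ne fun e => hM.1 (Subgroup.eq_top_of_card_eq M e)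
    obtain ⟨w, hwp, hwz, hwc⟩ := ih _ hlt M rfl (hR.to_subgroup M) ⟨z, hzM⟩
      (Subgroup.mem_center_iff.2 fun g => Subtype.ext (hzg g).eq.symm) (Subtype.ext (by simpa using hzp))
      ⟨⟨y, hyM⟩, Subtype.ext (by simpa using hy), fun h => hyz (by
        obtain ⟨i, hi⟩ := Subgroup.mem_zpowers_iff.1 h
        exact Subgroup.mem_zpowers_iff.2 ⟨i, by simpa using congrArg Subtype.val hi⟩)⟩
    have hwΩ : (w : R) ∈ Ω := ⟨w.2, by simpa using congrArg Subtype.val hwp, fun m hm k _ => by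
      obtain ⟨i, hi⟩ := Subgroup.mem_zpowers_iff.1 (hwc ⟨m, hm⟩)
      have h1 : m * (w : R) * m⁻¹ * (w : R)⁻¹ = z ^ i := by simpa using (congrArg Subtype.val hi).symm
      rw [h1]; exact (hzg k).zpow_left i⟩
    set π := QuotientGroup.mk' (Subgroup.zpowers z)
    haveI : (Ω.map π).Normal := Subgroup.Normal.map inferInstance π (QuotientGroup.mk'_surjective _)
    have hne : Ω.map π ≠ ⊥ := fun h => hwz (by
      have h1 : π (w : R) ∈ Ω.map π := Subgroup.mem_map_of_mem π hwΩ
      rw [h, Subgroup.mem_bot] at h1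
      obtain ⟨i, hi⟩ := Subgroup.mem_zpowers_iff.1 ((QuotientGroup.eq_one_iff _).1 h1)
      exact Subgroup.mem_zpowers_iff.2 ⟨i, Subtype.ext (by simpa using hi)⟩)
    haveI := (hR.to_quotient (Subgroup.zpowers z)).isNilpotent
    obtain ⟨q, hq, hq1⟩ := (Subgroup.bot_or_exists_ne_one _).resolve_left (Cfsg.Agent.Grp.inf_center_ne_bot (Ω.map π) hne)
    obtain ⟨⟨v, hv, rfl⟩, hqc⟩ := hq
    refine ⟨v, hv.2.1, fun h => hq1 ((QuotientGroup.eq_one_iff v).2 h), fun g => (QuotientGroup.eq_one_iff _).1 ?_⟩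
    show π (g * v * g⁻¹ * v⁻¹) = 1
    rw [map_mul, map_mul, map_mul, map_inv, map_inv, Subgroup.mem_center_iff.1 hqc (π g), mul_inv_cancel_right,
      mul_inv_cancel]


/-- For odd p, every non-cyclic p-group contains a normal elementary abelian subgroup of order p^2. -/
theorem result {R : Type*} [Group R] [Finite R] {p : ℕ} [Fact p.Prime] (hp : p ≠ 2) (hR : IsPGroup p R) (hnc : ¬ IsCyclic R) : ∃ A : Subgroup R, A.Normal ∧ Cfsg.IsElementaryAbelian p A ∧ Nat.card A = p ^ 2 := by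
  rcases subsingleton_or_nontrivial R with hs | hnt
  · exact absurd isCyclic_of_subsingleton hnc
  haveI := hR.center_nontrivial
  obtain ⟨zc, hzc⟩ := exists_prime_orderOf_dvd_card' (G := Subgroup.center R) p (by
    obtain ⟨k, hk⟩ := IsPGroup.iff_card.1 (hR.to_subgroup (Subgroup.center R))
    rcases Nat.eq_zero_or_pos k with rfl | hk0
    · have := Finite.one_lt_card (α := Subgroup.center R); rw [hk, pow_zero] at this; omega
    · exact hk ▸ dvd_pow_self p hk0.ne')
  set z : R := (zc : R) with hzdef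
  have hz : orderOf z = p := by rw [hzdef, Subgroup.orderOf_coe, hzc]
  have hzp : z ^ p = 1 := hz ▸ pow_orderOf_eq_one z
  obtain ⟨w, hw, hwz, hwc⟩ := exists_second hp _ R rfl hR z zc.2 hzp (by
    by_contra h
    push Not at h
    exact hnc (Cfsg.Agent.Invol.isCyclic_of_pow_eq_one_mem hR hp zc.2 hzp h))
  set A := Subgroup.zpowers z ⊔ Subgroup.zpowers w
  have hzg : ∀ g : R, Commute z g := fun g => (Subgroup.mem_center_iff.1 zc.2 g).symm
  haveI : (Subgroup.zpowers z).Normal := ⟨fun x hx g => by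
    rw [Subgroup.mem_center_iff.1 (Subgroup.zpowers_le.2 zc.2 hx) g, mul_inv_cancel_right]; exact hx⟩
  have hmem : ∀ x ∈ A, ∃ i j : ℤ, x = z ^ i * w ^ j := by
    intro x hx
    obtain ⟨a, ha, b, hb, rfl⟩ := Subgroup.mem_sup_of_normal_left.1 hx
    obtain ⟨i, rfl⟩ := Subgroup.mem_zpowers_iff.1 ha
    obtain ⟨j, rfl⟩ := Subgroup.mem_zpowers_iff.1 hb
    exact ⟨i, j, rfl⟩
  have hcm : ∀ i j k l : ℤ, Commute (z ^ i * w ^ j) (z ^ k * w ^ l) := fun i j k l =>
    (((hzg _).zpow_left i).mul_left (((hzg w).symm.zpow_zpow j k).mul_right ((Commute.refl w).zpow_zpow j l)))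
  refine ⟨A, ⟨fun x hx g => ?_⟩, ⟨⟨⟨fun a b => ?_⟩⟩, fun a ha' => ?_⟩, ?_⟩
  · obtain ⟨i, j, rfl⟩ := hmem x hx
    have h1 : g * w * g⁻¹ ∈ A := by
      rw [show g * w * g⁻¹ = (g * w * g⁻¹ * w⁻¹) * w by group]
      exact mul_mem (Subgroup.mem_sup_left (hwc g)) (Subgroup.mem_sup_right (Subgroup.mem_zpowers w))
    rw [← conj_mul, ← conj_zpow, ← conj_zpow, (hzg g).symm.eq, mul_inv_cancel_right]
    exact mul_mem (Subgroup.mem_sup_left (zpow_mem (Subgroup.mem_zpowers z) i)) (zpow_mem h1 j)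
  · obtain ⟨i, j, ha⟩ := hmem a a.2
    obtain ⟨k, l, hb⟩ := hmem b b.2
    exact Subtype.ext (by show (a : R) * b = b * a; rw [ha, hb]; exact (hcm i j k l).eq)
  · obtain ⟨i, j, ha⟩ := hmem a ha'
    rw [ha, (((hzg w).zpow_zpow i j)).mul_pow, ← zpow_natCast, ← zpow_natCast, ← zpow_mul, ← zpow_mul,
      mul_comm i, mul_comm j, zpow_mul, zpow_mul, zpow_natCast, zpow_natCast, hzp, hw, one_zpow, one_zpow, one_mul]
  · have hwo : orderOf w = p := orderOf_eq_prime hw fun h => hwz (h ▸ one_mem _)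
    have h := Cfsg.Agent.Grp.card_sup_mul_card_inf_normal (H := Subgroup.zpowers w) (N := Subgroup.zpowers z)
    have hinf : Subgroup.zpowers w ⊓ Subgroup.zpowers z = ⊥ := by
      by_contra hne
      have hd := Subgroup.card_dvd_of_le (inf_le_left : Subgroup.zpowers w ⊓ Subgroup.zpowers z ≤ _)
      rw [Nat.card_zpowers, hwo] at hd
      rcases (Nat.dvd_prime (Fact.out : p.Prime)).1 hd with e | e
      · exact hne (Subgroup.card_eq_one.1 e)
      · have he : Subgroup.zpowers w ⊓ Subgroup.zpowers z = Subgroup.zpowers w :=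
          Subgroup.eq_of_le_of_card_ge inf_le_left (by rw [Nat.card_zpowers, hwo, e])
        have hw' := Subgroup.mem_zpowers w
        rw [← he] at hw'
        exact hwz hw'.2
    rw [hinf, Subgroup.card_bot, mul_one, Nat.card_zpowers, Nat.card_zpowers, hwo, hz, sup_comm] at h
    rw [h, pow_two]

end Cfsg.Agent.S0126
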