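import Cfsg.Statements.S0127
import Cfsg.Agent.Lib.Transfer.OmegaMetacyclic
import Mathlib

set_option maxHeartbeats 1000000
set_option maxRecDepth 8000

set_option autoImplicit false
open Cfsg

namespace Cfsg.Agent.S0127

/-- For odd p, in a non-cyclic p-group with a cyclic subgroup of index p, the elements of order dividing p generate an elementary abelian subgroup of order p^2. -/
theorem result {R : Type*} [Group R] [Finite R] {p : ℕ} [Fact p.Prime] (hp : p ≠ 2) (hR : IsPGroup p R) (hnc : ¬ IsCyclic R) (C : Subgroup R) (hC : IsCyclic C) (hCi : C.index = p) : Cfsg.IsElementaryAbelian p (Subgroup.closure {x : R | x ^ p = 1}) ∧ Nat.card (Subgroup.closure {x : R | x ^ p = 1}) = p ^ 2 := by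
  have hpr := (Fact.out : p.Prime)
  haveI := hR.isNilpotent
  have hCn : C.Normal := Cfsg.Agent.Grp.coatom_normal_of_nilpotent (by
    refine ⟨fun h => by rw [h, Subgroup.index_top] at hCi; exact hpr.one_lt.ne hCi, fun D hD => ?_⟩
    have h1 := Subgroup.relIndex_mul_index hD.le
    rw [hCi] at h1
    rcases hpr.eq_one_or_self_of_dvd _ ⟨_, h1.symm.trans (mul_comm _ _)⟩ with h | h
    · exact Subgroup.index_eq_one.1 h
    · exfalso
      rw [h] at h1
      exact hD.not_ge (Subgroup.relIndex_eq_one.1 ((Nat.mul_eq_right hpr.ne_zero).1 h1)))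
  have hm : Cfsg.IsMetacyclic R := ⟨C, hCn, hC, isCyclic_of_prime_card (p := p) hCi⟩
  obtain ⟨V, hV, hVab, hVc⟩ := Cfsg.Agent.Transfer.omega_card_metacyclic hp hR hm hnc
  have he : Subgroup.closure {x : R | x ^ p = 1} = V := le_antisymm
    ((Subgroup.closure_le _).2 fun x hx => (hV x).2 hx) (fun x hx => Subgroup.subset_closure ((hV x).1 hx))
  rw [he]
  exact ⟨⟨hVab, fun a ha => (hV a).1 ha⟩, hVc⟩

end Cfsg.Agent.S0127
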