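import Cfsg.Statements.S0131
import Cfsg.Agent.Lib.Transfer.Fusion

set_option linter.style.haveILetI false
set_option linter.unusedVariables false
-- import your own Cfsg.Agent.* helpers here

set_option autoImplicit false
open Cfsg

namespace Cfsg.Agent.S0131

/-- P/P' has a normal complement in G exactly when the focal subgroup G' ∩ P is as small as possible, namely P'. -/
theorem result {G : Type*} [Group G] [Finite G] {p : ℕ} [Fact p.Prime] (P : Sylow p G) : (∃ N : Subgroup G, N.Normal ∧ N ⊓ (P : Subgroup G) = ⁅(P : Subgroup G), (P : Subgroup G)⁆ ∧ N ⊔ (P : Subgroup G) = ⊤) ↔ commutator G ⊓ (P : Subgroup G) = ⁅(P : Subgroup G), (P : Subgroup G)⁆ := by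
  constructor
  · rintro ⟨N, hN, hNP, hNT⟩
    refine le_antisymm ?_ ?_
    · rw [← hNP]
      refine inf_le_inf_right _ ?_
      -- `G / N` is a quotient of `P / P'`
      rw [commutator_def, Subgroup.commutator_le]
      intro a _ b _
      have ha : a ∈ (P : Subgroup G) ⊔ N := by rw [sup_comm, hNT]; exact Subgroup.mem_top a
      have hb : b ∈ (P : Subgroup G) ⊔ N := by rw [sup_comm, hNT]; exact Subgroup.mem_top b
      obtain ⟨u, hu, m, hm, rfl⟩ := Subgroup.mem_sup_of_normal_right.1 ha
      obtain ⟨v, hv, n, hn, rfl⟩ := Subgroup.mem_sup_of_normal_right.1 hb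
      rw [← QuotientGroup.eq_one_iff]
      have hm1 : (m : G ⧸ N) = 1 := (QuotientGroup.eq_one_iff m).2 hm
      have hn1 : (n : G ⧸ N) = 1 := (QuotientGroup.eq_one_iff n).2 hn
      have huv : ((u * v * u⁻¹ * v⁻¹ : G) : G ⧸ N) = 1 := by
        rw [QuotientGroup.eq_one_iff]
        have : u * v * u⁻¹ * v⁻¹ ∈ N ⊓ (P : Subgroup G) := hNP ▸ Subgroup.commutator_mem_commutator hu hv
        exact this.1
      simp only [QuotientGroup.mk_mul, QuotientGroup.mk_inv] at huv
      simp only [commutatorElement_def, QuotientGroup.mk_mul, QuotientGroup.mk_inv, hm1, hn1,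
        mul_one, huv]
    · exact le_inf (Subgroup.commutator_mono le_top le_top)
        (Subgroup.commutator_le.2 fun u hu v hv => mul_mem (mul_mem (mul_mem hu hv) (inv_mem hu)) (inv_mem hv))
  · intro h
    refine ⟨(P : Subgroup G).transferFocal.ker, inferInstance, ?_, ?_⟩
    · rw [Subgroup.ker_transferFocal_inf_eq_focalSubgroup P, ← Subgroup.commutator_inf_eq_focalSubgroup P, h]
    · rw [eq_top_iff]
      intro g _
      obtain ⟨y, hy⟩ := Subgroup.focalSubgroupOf.pow_index_surjective P ((P : Subgroup G).transferFocal g)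
      obtain ⟨x, rfl⟩ := QuotientGroup.mk'_surjective _ y
      have hx : (P : Subgroup G).transferFocal x = (P : Subgroup G).transferFocal g :=
        ((P : Subgroup G).transferFocal_eq_pow x).trans hy
      have hk : g * (x : G)⁻¹ ∈ (P : Subgroup G).transferFocal.ker := by
        rw [MonoidHom.mem_ker, map_mul, map_inv, hx, mul_inv_cancel]
      rw [show g = g * (x : G)⁻¹ * x by group]
      exact mul_mem (Subgroup.mem_sup_left hk) (Subgroup.mem_sup_right x.2)

end Cfsg.Agent.S0131
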