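import Cfsg.Statements.S0145
import Cfsg.Agent.Lib.Char.Complete

set_option autoImplicit false
open scoped ComplexConjugate
open Cfsg

namespace Cfsg.Agent.S0145

open Cfsg.Agent.Char

/-- Column orthogonality: the sum over the irreducible characters χ of χ g * conj (χ h) is the order of the centralizer of g if g and h are conjugate, and is 0 otherwise. -/
theorem result {G : Type*} [Group G] [Finite G] (g h : G) : (IsConj g h → ∑ᶠ χ : Cfsg.IrrCharacter G, (χ : G → ℂ) g * conj ((χ : G → ℂ) h) = (Nat.card (Subgroup.centralizer ({g} : Set G)) : ℂ)) ∧ (¬ IsConj g h → ∑ᶠ χ : Cfsg.IrrCharacter G, (χ : G → ℂ) g * conj ((χ : G → ℂ) h) = 0) := by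
  classical
  haveI := Fintype.ofFinite G
  rw [finsum_eq_sum_of_fintype, sum_irr_mul_conj g h]
  refine ⟨fun hc => ?_, fun hc => if_neg hc⟩
  rw [if_pos hc]
  obtain ⟨c, rfl⟩ := isConj_iff.mp hc
  have hm : (Subgroup.centralizer ({g} : Set G)).map (MulAut.conj c).toMonoidHom =
      Subgroup.centralizer ({c * g * c⁻¹} : Set G) := by
    ext x
    constructor
    · rintro ⟨y, hy, rfl⟩
      have hy' : y * g = g * y := Subgroup.mem_centralizer_singleton_iff.mp hy
      rw [Subgroup.mem_centralizer_singleton_iff]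
      simp [mul_assoc, ← mul_assoc y g, hy']
    · intro hx
      have hx' : x * (c * g * c⁻¹) = c * g * c⁻¹ * x := Subgroup.mem_centralizer_singleton_iff.mp hx
      refine ⟨c⁻¹ * x * c, ?_, by simp [mul_assoc]⟩
      apply Subgroup.mem_centralizer_singleton_iff.mpr
      calc c⁻¹ * x * c * g = c⁻¹ * (x * (c * g * c⁻¹)) * c := by group
        _ = c⁻¹ * (c * g * c⁻¹ * x) * c := by rw [hx']
        _ = g * (c⁻¹ * x * c) := by group
  rw [← hm, Subgroup.card_map_of_injective (MulAut.conj c).injective]

end Cfsg.Agent.S0145
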