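import Cfsg.Statements.S0147
import Cfsg.Agent.Lib.Char.Induce

set_option autoImplicit false
open Cfsg

namespace Cfsg.Agent.S0147

open Cfsg.Agent.Char

/-- Transitivity of induction: inducing from H to K and then from K to G is the same as inducing from H to G. -/
theorem result {G : Type*} [Group G] [Fintype G] (H K : Subgroup G) [Fintype K] (hHK : H ≤ K) (θ : H → ℂ) : Cfsg.indFun K (Cfsg.indFun (H.subgroupOf K) (fun x => θ ⟨(x : K), Subgroup.mem_subgroupOf.mp x.2⟩)) = Cfsg.indFun H θ := by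
  classical
  funext g
  simp only [indFun]
  have hcardH : Nat.card (H.subgroupOf K) = Nat.card H :=
    Nat.card_congr (Subgroup.subgroupOfEquivOfLe hHK).toEquiv
  set f := extendByZero H θ with hf
  have inner : ∀ z : G, extendByZero K (indFun (H.subgroupOf K)
      (fun x => θ ⟨(x : K), Subgroup.mem_subgroupOf.mp x.2⟩)) z =
      (Nat.card H : ℂ)⁻¹ * ∑ y : K, f ((y : G)⁻¹ * z * y) := by
    intro z
    rw [← hcardH]
    unfold indFun
    by_cases hz : z ∈ K
    · rw [extendByZero_of_mem _ hz]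
      congr 1
      refine Finset.sum_congr rfl fun y _ => ?_
      by_cases hy : (y : G)⁻¹ * z * y ∈ H
      · rw [hf, extendByZero_of_mem _ hy,
          extendByZero_of_mem _ (Subgroup.mem_subgroupOf.mpr hy : y⁻¹ * ⟨z, hz⟩ * y ∈ H.subgroupOf K)]
        rfl
      · rw [hf, extendByZero_not_mem _ hy,
          extendByZero_not_mem _ (fun h => hy (Subgroup.mem_subgroupOf.mp h) : y⁻¹ * ⟨z, hz⟩ * y ∉ _)]
    · rw [extendByZero_not_mem _ hz, Finset.sum_eq_zero, mul_zero]
      intro y _
      refine extendByZero_not_mem _ fun h => hz ?_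
      simpa [mul_assoc] using mul_mem (mul_mem y.2 (hHK h)) (inv_mem y.2)
  rw [Finset.sum_congr rfl fun x (_ : x ∈ Finset.univ) => inner (x⁻¹ * g * x), ← Finset.mul_sum]
  rw [← mul_assoc, Finset.sum_comm]
  have hy : ∀ y : K, ∑ x : G, f ((y : G)⁻¹ * (x⁻¹ * g * x) * y) = ∑ x : G, f (x⁻¹ * g * x) :=
    fun y => Fintype.sum_equiv (Equiv.mulRight (y : G)) _ _ fun x => by simp [mul_assoc]
  rw [Finset.sum_congr rfl fun y _ => hy y, Finset.sum_const, Finset.card_univ,
    ← Nat.card_eq_fintype_card, nsmul_eq_mul]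
  have hK : (Nat.card K : ℂ) ≠ 0 := Nat.cast_ne_zero.mpr Nat.card_pos.ne'
  field_simp

end Cfsg.Agent.S0147
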