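import Cfsg.Statements.S0149
import Cfsg.Agent.Lib.Char.Induce

set_option autoImplicit false
open Cfsg

namespace Cfsg.Agent.S0149

open Cfsg.Agent.Char

/-- Let T be a subset of G meeting each of its conjugates by elements outside its normalizer N only in the identity, and let ψ be a class function of N vanishing on N away from T. Then the function induced from ψ agrees with ψ at every non-identity element of T. -/
theorem result {G : Type*} [Group G] [Fintype G] (T : Set G) (hTI : ∀ g : G, g ∉ Subgroup.normalizer T → ∀ t ∈ T, g * t * g⁻¹ ∈ T → t = 1) (hTN : T ⊆ Subgroup.normalizer T) (ψ : Subgroup.normalizer T → ℂ) (hψ : Cfsg.IsClassFunction (Subgroup.normalizer T) ψ) (hψT : ∀ x : Subgroup.normalizer T, (x : G) ∉ T → ψ x = 0) (t : Subgroup.normalizer T) (htT : (t : G) ∈ T) (ht1 : t ≠ 1) : Cfsg.indFun (Subgroup.normalizer T) ψ t = ψ t := by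
  classical
  have hx : ∀ x : G, extendByZero (Subgroup.normalizer T) ψ (x⁻¹ * (t : G) * x) =
      if x ∈ Subgroup.normalizer T then ψ t else 0 := by
    intro x
    split_ifs with hx
    · let y : Subgroup.normalizer T := ⟨x, hx⟩
      have e : x⁻¹ * (t : G) * x = ((y⁻¹ * t * y : Subgroup.normalizer T) : G) := rfl
      rw [e, extendByZero_apply]
      simpa using hψ t y⁻¹
    · by_cases hm : x⁻¹ * (t : G) * x ∈ Subgroup.normalizer T
      · rw [extendByZero_of_mem _ hm]
        by_cases hT : x⁻¹ * (t : G) * x ∈ T
        · refine absurd (hTI x⁻¹ (fun h => hx (by simpa using inv_mem h)) t htT (by simpa using hT)) ?_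
          exact fun h => ht1 (Subtype.ext h)
        · exact hψT _ hT
      · exact extendByZero_not_mem _ hm
  classical
  simp only [indFun, hx]
  rw [← Finset.sum_filter, Finset.sum_const, nsmul_eq_mul]
  rw [show (Finset.univ.filter fun x => x ∈ Subgroup.normalizer T).card =
    Nat.card (Subgroup.normalizer T) from by
      rw [Nat.card_eq_fintype_card, Fintype.card_subtype]]
  rw [← mul_assoc, inv_mul_cancel₀ (Nat.cast_ne_zero.mpr Nat.card_pos.ne'), one_mul]

end Cfsg.Agent.S0149
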