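import Cfsg.Statements.S0153
import Cfsg.Agent.Lib.Char.Complete

set_option autoImplicit false
open Cfsg

namespace Cfsg.Agent.S0153

open Cfsg.Agent.Char

/-- Complex representations of a finite group with equal characters are equivalent. -/
theorem result {G : Type*} [Group G] [Finite G] {V W : Type*} [AddCommGroup V] [Module ℂ V] [FiniteDimensional ℂ V] [AddCommGroup W] [Module ℂ W] [FiniteDimensional ℂ W] (ρ : Representation ℂ G V) (σ : Representation ℂ G W) (h : ρ.character = σ.character) : Nonempty (ρ.Equiv σ) := by
  classical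
  have : Fintype G := Fintype.ofFinite G
  have hdim : Module.finrank ℂ V = Module.finrank ℂ W := by
    have := congrFun h 1
    rw [Representation.char_one, Representation.char_one] at this
    exact_mod_cast this
  suffices H : ∀ (n : ℕ) (f : V →ₗ[ℂ] W), (∀ g v, f (ρ g v) = σ g (f v)) →
      Module.finrank ℂ (LinearMap.ker f) = n →
      ∃ f : V →ₗ[ℂ] W, (∀ g v, f (ρ g v) = σ g (f v)) ∧ Function.Injective f by
    obtain ⟨f, hf, hinj⟩ := H _ 0 (by simp) rfl
    refine ⟨Representation.Equiv.mk (LinearEquiv.ofBijective f
      ⟨hinj, (LinearMap.injective_iff_surjective_of_finrank_eq_finrank hdim).mp hinj⟩) fun g => ?_⟩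
    exact LinearMap.ext fun v => hf g v
  intro n
  induction n using Nat.strong_induction_on with
  | _ n ih =>
    intro f hf hn
    by_cases hker : LinearMap.ker f = ⊥
    · exact ⟨f, hf, LinearMap.ker_eq_bot.mp hker⟩
    let S : Subrepresentation ρ := ⟨LinearMap.ker f, fun g v hv => by
      rw [LinearMap.mem_ker] at hv ⊢; rw [hf, hv, map_zero]⟩
    let R : Subrepresentation σ := ⟨LinearMap.range f, fun g w hw => by
      obtain ⟨v, rfl⟩ := hw; exact ⟨ρ g v, hf g v⟩⟩
    haveI : NeZero (Nat.card G : ℂ) := ⟨Nat.cast_ne_zero.mpr Nat.card_pos.ne'⟩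
    obtain ⟨T, hT⟩ := exists_isCompl S
    obtain ⟨C, hC⟩ := exists_isCompl R
    have hcT : IsCompl (LinearMap.ker f) T.toSubmodule :=
      ⟨disjoint_iff.mpr (congrArg Subrepresentation.toSubmodule hT.inf_eq_bot),
        codisjoint_iff.mpr (congrArg Subrepresentation.toSubmodule hT.sup_eq_top)⟩
    have hcC : IsCompl (LinearMap.range f) C.toSubmodule :=
      ⟨disjoint_iff.mpr (congrArg Subrepresentation.toSubmodule hC.inf_eq_bot),
        codisjoint_iff.mpr (congrArg Subrepresentation.toSubmodule hC.sup_eq_top)⟩
    let fT : T.toSubmodule →ₗ[ℂ] R.toSubmodule :=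
      (f.comp T.toSubmodule.subtype).codRestrict _ fun t => ⟨t, rfl⟩
    have hbij : Function.Bijective fT := by
      constructor
      · intro a b hab
        apply Subtype.ext
        have hab' : f a = f b := congrArg Subtype.val hab
        have h0 : (a : V) - b ∈ LinearMap.ker f ⊓ T.toSubmodule :=
          ⟨by rw [SetLike.mem_coe, LinearMap.mem_ker, map_sub, hab', sub_self], sub_mem a.2 b.2⟩
        rw [hcT.inf_eq_bot, Submodule.mem_bot, sub_eq_zero] at h0
        exact h0
      · rintro ⟨w, v, rfl⟩
        obtain ⟨k, hk, t, ht, rfl⟩ := Submodule.mem_sup.mp (hcT.sup_eq_top.symm ▸ Submodule.mem_top (x := v))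
        refine ⟨⟨t, ht⟩, Subtype.ext ?_⟩
        show f t = f (k + t)
        rw [map_add, LinearMap.mem_ker.mp hk, zero_add]
    have hTR : T.toRepresentation.character = R.toRepresentation.character :=
      Representation.char_iso (Representation.Equiv.mk (LinearEquiv.ofBijective fT hbij) fun g =>
        LinearMap.ext fun t => Subtype.ext (hf g t))
    have hρ : ρ.character = S.toRepresentation.character + T.toRepresentation.character :=
      funext fun g => trace_eq_add_of_isCompl hcT (ρ g)
        (fun _ hx => S.apply_mem_toSubmodule g hx) (fun _ hx => T.apply_mem_toSubmodule g hx)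
    have hσ : σ.character = R.toRepresentation.character + C.toRepresentation.character :=
      funext fun g => trace_eq_add_of_isCompl hcC (σ g)
        (fun _ hx => R.apply_mem_toSubmodule g hx) (fun _ hx => C.apply_mem_toSubmodule g hx)
    have hSC : C.toRepresentation.character = S.toRepresentation.character := by
      rw [hρ, hσ, hTR, add_comm] at h
      exact (add_left_cancel h).symm
    have hSne : classInner S.toRepresentation.character S.toRepresentation.character ≠ 0 := by
      rw [Ne, classInner_self_eq_zero]
      intro h0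
      have := congrFun h0 1
      rw [Representation.char_one, Pi.zero_apply, Nat.cast_eq_zero] at this
      exact hker (Submodule.finrank_eq_zero.mp this)
    have hhom := classInner_character C.toRepresentation S.toRepresentation
    rw [hSC] at hhom
    rw [hhom, Nat.cast_ne_zero] at hSne
    haveI : Nontrivial (Representation.IntertwiningMap S.toRepresentation C.toRepresentation) :=
      Module.nontrivial_of_finrank_pos (R := ℂ) (Nat.pos_of_ne_zero hSne)
    obtain ⟨e, he⟩ := exists_ne (0 : Representation.IntertwiningMap S.toRepresentation C.toRepresentation)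
    let P : V →ₗ[ℂ] LinearMap.ker f := Submodule.projectionOnto _ _ hcT
    have hP : ∀ g v, P (ρ g v) = S.toRepresentation g (P v) := by
      intro g v
      obtain ⟨k, hk, t, ht, rfl⟩ := Submodule.mem_sup.mp (hcT.sup_eq_top.symm ▸ Submodule.mem_top (x := v))
      have h1 : P k = ⟨k, hk⟩ := Submodule.projectionOnto_apply_left hcT ⟨k, hk⟩
      have h2 : P t = 0 := Submodule.projectionOnto_apply_eq_zero_iff hcT |>.mpr ht
      have h3 : P (ρ g k) = ⟨ρ g k, S.apply_mem_toSubmodule g hk⟩ :=
        Submodule.projectionOnto_apply_left hcT ⟨ρ g k, S.apply_mem_toSubmodule g hk⟩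
      have h4 : P (ρ g t) = 0 :=
        Submodule.projectionOnto_apply_eq_zero_iff hcT |>.mpr (T.apply_mem_toSubmodule g ht)
      simp only [map_add, h1, h2, h3, h4, map_zero, add_zero]
      rfl
    let f' : V →ₗ[ℂ] W := f + C.toSubmodule.subtype.comp (e.toLinearMap.comp P)
    have hf' : ∀ g v, f' (ρ g v) = σ g (f' v) := by
      intro g v
      have he2 : e.toLinearMap (S.toRepresentation g (P v)) = C.toRepresentation g (e.toLinearMap (P v)) :=
        LinearMap.congr_fun (e.isIntertwining' g) (P v)
      show f (ρ g v) + ((e.toLinearMap (P (ρ g v)) : C.toSubmodule) : W) =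
        σ g (f v + ((e.toLinearMap (P v) : C.toSubmodule) : W))
      rw [map_add, hf, hP, he2]
      rfl
    have hle : LinearMap.ker f' ≤ LinearMap.ker f := by
      intro v hv
      rw [LinearMap.mem_ker] at hv ⊢
      have h0 : f v + ((e.toLinearMap (P v) : C.toSubmodule) : W) = 0 := hv
      have h1 : f v ∈ LinearMap.range f ⊓ C.toSubmodule :=
        ⟨⟨v, rfl⟩, by rw [SetLike.mem_coe, eq_neg_of_add_eq_zero_left h0]; exact neg_mem (Subtype.mem _)⟩
      rwa [hcC.inf_eq_bot, Submodule.mem_bot] at h1
    have hlt : LinearMap.ker f' < LinearMap.ker f := by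
      refine lt_of_le_of_ne hle fun heq => he ?_
      refine Representation.IntertwiningMap.ext (LinearMap.ext fun s => Subtype.ext ?_)
      have hs : (s : V) ∈ LinearMap.ker f' := heq.symm ▸ s.2
      have h0 : f (s : V) + ((e.toLinearMap (P (s : V)) : C.toSubmodule) : W) = 0 := hs
      rw [show f (s : V) = 0 from s.2, zero_add,
        show P (s : V) = s from Submodule.projectionOnto_apply_left hcT s] at h0
      exact h0
    exact ih _ (hn ▸ Submodule.finrank_lt_finrank_of_lt hlt) f' hf' rfl

end Cfsg.Agent.S0153
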