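import Cfsg.Statements.S0154
import Cfsg.Agent.Lib.Char.Complete

set_option autoImplicit false
open Cfsg

namespace Cfsg.Agent.S0154

open Cfsg.Agent.Char

/-- A finite group has exactly as many irreducible complex characters of degree 1 as the index of its commutator subgroup. -/
theorem result {G : Type*} [Group G] [Finite G] : Nat.card {χ : Cfsg.IrrCharacter G // (χ : G → ℂ) 1 = 1} = (commutator G).index := by
  classical
  haveI := Fintype.ofFinite G
  have hE : Nat.card {χ : IrrCharacter G // (χ : G → ℂ) 1 = 1} = Nat.card (G →* ℂˣ) := by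
    symm
    refine Nat.card_eq_of_bijective
      (fun l : G →* ℂˣ => (⟨⟨_, isIrr_linear l⟩, by simp⟩ :
        {χ : IrrCharacter G // (χ : G → ℂ) 1 = 1})) ⟨fun l m h => ?_, fun χ => ?_⟩
    · refine MonoidHom.ext fun g => Units.ext ?_
      exact congrFun (congrArg (fun x : {χ : IrrCharacter G // (χ : G → ℂ) 1 = 1} =>
        ((x : IrrCharacter G) : G → ℂ)) h) g
    · obtain ⟨l, hl⟩ := linearHom_of_isCharacter (IsIrr.isCharacter χ.1.2) χ.2
      exact ⟨l, Subtype.ext (Subtype.ext hl.symm)⟩
  rw [hE, Nat.card_congr (Abelianization.lift : (G →* ℂˣ) ≃ (Abelianization G →* ℂˣ))]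
  obtain ⟨e⟩ := CommGroup.monoidHom_mulEquiv_of_hasEnoughRootsOfUnity (Abelianization G) ℂ
  rw [Nat.card_congr e.toEquiv]
  exact (commutator G).index_eq_card.symm

end Cfsg.Agent.S0154
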