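import Cfsg.Statements.S0157
import Cfsg.Agent.Lib.Char.Contrib
import Cfsg.Agent.Lib.Char.Complete
-- import your own Cfsg.Agent.* helpers here

set_option autoImplicit false
open Cfsg

namespace Cfsg.Agent.S0157

/-- For a transitive action of a finite group on a finite set with at least two points: the action is 2-transitive if and only if the function sending g to (number of fixed points of g) − 1 is an irreducible character. -/
theorem result {G : Type*} [Group G] [Finite G] (X : Type*) [MulAction G X] [Finite X] [MulAction.IsPretransitive G X] (hX : 2 ≤ Nat.card X) : Cfsg.IsIrrCharacter G (fun g => (Nat.card (MulAction.fixedBy X g) : ℂ) - 1) ↔ MulAction.IsMultiplyPretransitive G X 2 := by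
  classical
  cases nonempty_fintype G
  cases nonempty_fintype X
  haveI : Nontrivial X := Finite.one_lt_card_iff_nontrivial.1 hX
  obtain ⟨a, b, hab⟩ := exists_pair_ne X
  set π : G → ℂ := fun g => (Nat.card (MulAction.fixedBy X g) : ℂ) with hπ
  haveI : Fintype (MulAction.orbitRel.Quotient G X) := Fintype.ofFinite _
  haveI : Fintype (MulAction.orbitRel.Quotient G (X × X)) := Fintype.ofFinite _
  have h1 : ∑ g : G, π g = (Nat.card G : ℂ) := by
    have h := MulAction.sum_card_fixedBy_eq_card_orbits_mul_card_group G X
    have h' : Fintype.card (MulAction.orbitRel.Quotient G X) = 1 := by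
      refine Fintype.card_eq_one_iff.2 ⟨Quotient.mk _ a, fun q => ?_⟩
      induction q using Quotient.inductionOn with
      | h c =>
        obtain ⟨g, hg⟩ := MulAction.exists_smul_eq G a c
        exact Quotient.sound (MulAction.orbitRel_apply.2 ⟨g, hg⟩)
    rw [h', one_mul] at h
    simp only [hπ, Nat.card_eq_fintype_card]
    exact_mod_cast h
  set r := Fintype.card (MulAction.orbitRel.Quotient G (X × X)) with hr
  have h2 : ∑ g : G, π g * π g = (r : ℂ) * (Nat.card G : ℂ) := by
    have h := MulAction.sum_card_fixedBy_eq_card_orbits_mul_card_group G (X × X)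
    have e : ∀ g : G, Fintype.card (MulAction.fixedBy (X × X) g) =
        Fintype.card (MulAction.fixedBy X g) * Fintype.card (MulAction.fixedBy X g) := fun g => by
      rw [← Fintype.card_prod]
      exact Fintype.card_congr
        { toFun := fun q => (⟨q.1.1, (Prod.ext_iff.1 q.2).1⟩, ⟨q.1.2, (Prod.ext_iff.1 q.2).2⟩)
          invFun := fun q => ⟨(q.1.1, q.2.1), Prod.ext q.1.2 q.2.2⟩
          left_inv := fun q => rfl
          right_inv := fun q => rfl }
    simp only [e] at h
    simp only [hπ, Nat.card_eq_fintype_card]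
    exact_mod_cast h
  -- it is the permutation character of a point stabilizer
  have hπc : Cfsg.IsCharacter G π := by
    have he : π = Cfsg.indFun (MulAction.stabilizer G a) (fun _ => 1) := funext fun g => by
      rw [Cfsg.Agent.Char.Contrib.indFun_one_apply, hπ]
      let e := (MulAction.orbitEquivQuotientStabilizer G a).symm.trans
        (Equiv.subtypeUnivEquiv fun c => by
          obtain ⟨u, hu⟩ := MulAction.exists_smul_eq G a c
          exact ⟨u, hu⟩)
      have he : ∀ q : G ⧸ MulAction.stabilizer G a, e (g • q) = g • e q := by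
        intro q
        induction q using QuotientGroup.induction_on with
        | _ u =>
          show ((MulAction.orbitEquivQuotientStabilizer G a).symm ((g * u : G) : G ⧸ _) : X) =
            g • ((MulAction.orbitEquivQuotientStabilizer G a).symm (u : G ⧸ _) : X)
          rw [MulAction.orbitEquivQuotientStabilizer_symm_apply,
            MulAction.orbitEquivQuotientStabilizer_symm_apply, mul_smul]
      refine congrArg Nat.cast (Nat.card_congr (e.subtypeEquiv fun q => ?_).symm)
      rw [MulAction.mem_fixedBy, ← he, e.apply_eq_iff_eq]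
    rw [he]
    exact Cfsg.Agent.Char.isCharacter_indFun _ Cfsg.Agent.Char.IsChar.one
  have hstar : ∀ g, (starRingEnd ℂ) (π g) = π g := fun g => Complex.conj_natCast _
  have hG : (Nat.card G : ℂ) ≠ 0 := Nat.cast_ne_zero.2 Nat.card_pos.ne'
  have hsum : ∑ g : G, (π g - 1) * (starRingEnd ℂ) (π g - 1) = ((r : ℂ) - 1) * (Nat.card G : ℂ) := by
    simp only [map_sub, map_one, hstar, sub_mul, mul_sub, mul_one, one_mul,
      Finset.sum_sub_distrib, h1, h2, Finset.sum_const, Finset.card_univ, nsmul_eq_mul,
      ← Nat.card_eq_fintype_card]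
    ring
  have hsub : Cfsg.IsCharacter G (fun g => π g - 1) := by
    refine Cfsg.Agent.Char.isCharacter_of_classInner_nat (fun g h => by
      show π (h * g * h⁻¹) - 1 = π g - 1
      rw [Cfsg.Agent.Char.IsChar.classFun hπc g h]) fun ψ hψ => ?_
    rw [show (fun g => π g - 1) = π - (fun _ => (1 : ℂ)) from rfl,
      Cfsg.Agent.Char.classInner_sub_left]
    obtain ⟨n, hn⟩ := Cfsg.Agent.Char.IsChar.classInner_nat hπc
      (Cfsg.Agent.Char.IsIrr.isCharacter hψ)
    rw [hn]
    by_cases h : ψ = fun _ => 1
    · subst h
      rw [Cfsg.Agent.Char.classInner_self_irr hψ]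
      refine ⟨0, ?_⟩
      rw [← hn, Cfsg.classInner]
      simp only [map_one, mul_one, h1, inv_mul_cancel₀ hG, sub_self, Nat.cast_zero]
    · rw [Cfsg.Agent.Char.classInner_irr_ne Cfsg.Agent.Char.isIrr_one hψ (Ne.symm h)]
      exact ⟨n, sub_zero _⟩
  have hiff : Cfsg.IsIrrCharacter G (fun g => π g - 1) ↔ r = 2 := by
    have hn : Cfsg.classInner (fun g => π g - 1) (fun g => π g - 1) = (r : ℂ) - 1 := by
      rw [Cfsg.classInner, hsum, mul_comm, mul_inv_cancel_right₀ hG]
    constructor
    · intro h
      rw [Cfsg.Agent.Char.classInner_self_irr h] at hn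
      have : (r : ℂ) = 2 := by linear_combination -hn
      exact_mod_cast this
    · intro h
      refine Cfsg.Agent.Char.IsChar.irr_of_norm_one hsub ?_
      rw [hn, h]
      norm_num
  show Cfsg.IsIrrCharacter G (fun g => π g - 1) ↔ _
  rw [hiff, MulAction.is_two_pretransitive_iff]
  have hne : (Quotient.mk _ (a, a) : MulAction.orbitRel.Quotient G (X × X)) ≠
      Quotient.mk _ (a, b) := fun h => by
    obtain ⟨g, hg⟩ := MulAction.orbitRel_apply.1 (Quotient.exact h)
    exact hab ((MulAction.injective g) ((Prod.ext_iff.1 hg).1.trans (Prod.ext_iff.1 hg).2.symm))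
  constructor
  · intro h a' b' c d h1 h2
    obtain ⟨u, v, huv, huniv⟩ := Finset.card_eq_two.1
      (show (Finset.univ : Finset (MulAction.orbitRel.Quotient G (X × X))).card = 2 by
        rw [Finset.card_univ]; exact h)
    have hcase : ∀ q : MulAction.orbitRel.Quotient G (X × X),
        q = Quotient.mk _ (a, a) ∨ q = Quotient.mk _ (a, b) := by
      intro q
      have hm : ∀ q : MulAction.orbitRel.Quotient G (X × X), q = u ∨ q = v := fun q => by
        simpa [huniv] using Finset.mem_univ q
      rcases hm q with rfl | rfl <;> rcases hm (Quotient.mk _ (a, a)) with e | e <;>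
        rcases hm (Quotient.mk _ (a, b)) with e' | e' <;> simp_all
    have hoff : ∀ x y : X, x ≠ y → (Quotient.mk _ (x, y) : MulAction.orbitRel.Quotient G (X × X)) =
        Quotient.mk _ (a, b) := fun x y hxy => (hcase _).resolve_left fun e => by
      obtain ⟨g, hg⟩ := MulAction.orbitRel_apply.1 (Quotient.exact e)
      exact hxy ((Prod.ext_iff.1 hg).1.symm.trans (Prod.ext_iff.1 hg).2)
    obtain ⟨g, hg⟩ := MulAction.orbitRel_apply.1
      (Quotient.exact ((hoff c d h2).trans (hoff a' b' h1).symm))
    exact ⟨g, (Prod.ext_iff.1 hg).1, (Prod.ext_iff.1 hg).2⟩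
  · intro h
    rw [hr, ← Finset.card_univ, Finset.card_eq_two]
    refine ⟨_, _, hne, Finset.eq_univ_iff_forall.2 (fun q => ?_) |>.symm⟩
    induction q using Quotient.inductionOn with
    | h q =>
      obtain ⟨c, d⟩ := q
      by_cases hcd : c = d
      · subst hcd
        obtain ⟨g, hg⟩ := MulAction.exists_smul_eq G a c
        exact Finset.mem_insert.2 (.inl (Quotient.sound (MulAction.orbitRel_apply.2 ⟨g, Prod.ext hg hg⟩)))
      · obtain ⟨g, hg, hg'⟩ := h hab hcd
        exact Finset.mem_insert.2 (.inr (Finset.mem_singleton.2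
          (Quotient.sound (MulAction.orbitRel_apply.2 ⟨g, Prod.ext hg hg'⟩))))

end Cfsg.Agent.S0157
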