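import Cfsg.Statements.S0160
import Cfsg.Agent.Lib.Char.Perm

set_option autoImplicit false
open Cfsg

namespace Cfsg.Agent.S0160

open Cfsg.Agent.Char

/-- A finite group has as many real-valued irreducible complex characters as conjugacy classes closed under taking inverses. -/
theorem result {G : Type*} [Group G] [Finite G] : Nat.card {χ : Cfsg.IrrCharacter G // ∀ g : G, ((χ : G → ℂ) g).im = 0} = Nat.card {C : ConjClasses G // ∀ g : G, ConjClasses.mk g = C → IsConj g g⁻¹} := by
  classical
  let inv' : ConjClasses G → ConjClasses G := Quotient.map (fun g : G => g⁻¹) (fun a b h => by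
    obtain ⟨c, rfl⟩ := isConj_iff.mp h
    exact isConj_iff.mpr ⟨c, by group⟩)
  let f : IrrCharacter G → IrrCharacter G := fun χ => ⟨_, IsIrr.conj χ.2⟩
  have h := brauer_perm f inv' fun χ g g' hg => by
    have hg' : IsConj g' g⁻¹ := ConjClasses.mk_eq_mk_iff_isConj.mp hg
    rw [IsClass.eq_of_isConj (IsIrr.classFun χ.2) hg', IsIrr.apply_inv χ.2]
  refine Eq.trans (Nat.card_congr (Equiv.subtypeEquivRight fun χ => ?_)) (h.trans ?_)
  · rw [Subtype.ext_iff, funext_iff]
    exact forall_congr' fun g => Complex.conj_eq_iff_im.symm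
  · refine Nat.card_congr (Equiv.subtypeEquivRight fun C => ?_)
    obtain ⟨x, rfl⟩ := C.exists_rep
    constructor
    · intro hx g hg
      have h1 : IsConj g x := ConjClasses.mk_eq_mk_iff_isConj.mp hg
      have h2 : IsConj x⁻¹ x := ConjClasses.mk_eq_mk_iff_isConj.mp hx
      obtain ⟨c, hc⟩ := isConj_iff.mp h1
      exact h1.trans (h2.symm.trans (isConj_iff.mpr ⟨c⁻¹, by rw [← hc]; group⟩))
    · intro hx
      exact ConjClasses.mk_eq_mk_iff_isConj.mpr (hx x rfl).symm

end Cfsg.Agent.S0160
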