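import Cfsg.Statements.S0161
import Cfsg.Agent.Lib.Char.Perm
import Cfsg.Agent.S0160

set_option autoImplicit false
open Cfsg

namespace Cfsg.Agent.S0161

open Cfsg.Agent.Char

/-- In a finite group of odd order, a real-valued irreducible complex character is the trivial character. -/
theorem result {G : Type*} [Group G] [Finite G] (hodd : Odd (Nat.card G)) (χ : Cfsg.IrrCharacter G) (hreal : ∀ g : G, ((χ : G → ℂ) g).im = 0) : (χ : G → ℂ) = fun _ => 1 := by
  classical
  have hn : Nat.card {χ : IrrCharacter G // ∀ g : G, ((χ : G → ℂ) g).im = 0} = 1 := by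
    rw [Cfsg.Agent.S0160.result, Nat.card_eq_one_iff_unique]
    have key : ∀ C : {C : ConjClasses G // ∀ g : G, ConjClasses.mk g = C → IsConj g g⁻¹},
        C.1 = ConjClasses.mk 1 := by
      rintro ⟨C, hC⟩
      obtain ⟨x, rfl⟩ := C.exists_rep
      obtain ⟨c, hc⟩ := isConj_iff.mp (hC x rfl)
      have h2 : Commute (c ^ 2) x := by
        have h3 : c * x⁻¹ * c⁻¹ = x := by
          have := congrArg (·⁻¹) hc
          simpa [mul_assoc] using this
        show c ^ 2 * x = x * c ^ 2
        calc c ^ 2 * x = c * (c * x * c⁻¹) * c⁻¹ * c ^ 2 := by simp [pow_two, mul_assoc]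
          _ = c * x⁻¹ * c⁻¹ * c ^ 2 := by rw [hc]
          _ = x * c ^ 2 := by rw [h3]
      have hcop : (2 : ℕ).Coprime (orderOf c) :=
        Nat.coprime_two_left.mpr (hodd.of_dvd_nat (orderOf_dvd_natCard c))
      obtain ⟨m, hm⟩ := exists_pow_eq_self_of_coprime hcop
      have h4 : Commute c x := hm ▸ h2.pow_left m
      rw [h4.eq, mul_inv_cancel_right] at hc
      have h5 : x ^ 2 = 1 := by rw [pow_two]; nth_rewrite 2 [hc]; exact mul_inv_cancel x
      have h6 : x = 1 := by
        have := hodd.of_dvd_nat (orderOf_dvd_natCard x)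
        rcases (Nat.dvd_prime Nat.prime_two).mp (orderOf_dvd_of_pow_eq_one h5) with h7 | h7
        · exact orderOf_eq_one_iff.mp h7
        · rw [h7] at this; exact absurd this (by decide)
      subst h6
      rfl
    refine ⟨⟨fun a b => Subtype.ext ((key a).trans (key b).symm)⟩, ⟨⟨ConjClasses.mk 1, fun g hg => ?_⟩⟩⟩
    rw [isConj_one_left.mp (ConjClasses.mk_eq_mk_iff_isConj.mp hg)]
    simp
  obtain ⟨hsub, -⟩ := Nat.card_eq_one_iff_unique.mp hn
  have h := hsub.elim ⟨χ, hreal⟩ ⟨⟨_, isIrr_one⟩, fun g => by simp⟩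
  exact congrArg (fun x : {χ : IrrCharacter G // ∀ g : G, ((χ : G → ℂ) g).im = 0} => ((x : IrrCharacter G) : G → ℂ)) h

end Cfsg.Agent.S0161
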