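import Cfsg.Statements.S0162
import Cfsg.Agent.Lib.Char.Integral
import Cfsg.Agent.S0161

set_option autoImplicit false
open Cfsg

namespace Cfsg.Agent.S0162

open Cfsg.Agent.Char

/-- If a finite group has odd order, its order is congruent to its number of conjugacy classes modulo 16. -/
theorem result {G : Type*} [Group G] [Finite G] (hodd : Odd (Nat.card G)) : Nat.card G ≡ Nat.card (ConjClasses G) [MOD 16] := by
  classical
  haveI := Fintype.ofFinite G
  choose d hd hd' using fun χ : IrrCharacter G => IsIrr.one_eq_pos χ.2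
  have hsum : ∑ χ : IrrCharacter G, d χ ^ 2 = Nat.card G := by
    have h1 : ((∑ χ : IrrCharacter G, d χ ^ 2 : ℕ) : ℂ) = (Nat.card G : ℂ) := by
      rw [← sum_degree_sq (G := G), Nat.cast_sum]
      exact Finset.sum_congr rfl fun χ _ => by rw [hd', Nat.cast_pow]
    exact_mod_cast h1
  have hodd' : ∀ χ, d χ ^ 2 ≡ 1 [MOD 8] := fun χ => by
    have hr := (Nat.odd_iff.mp (hodd.of_dvd_nat (IsIrr.degree_dvd_card χ.2 (hd' χ))))
    have h8 : d χ % 8 = 1 ∨ d χ % 8 = 3 ∨ d χ % 8 = 5 ∨ d χ % 8 = 7 := by omega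
    show d χ ^ 2 % 8 = 1 % 8
    rw [Nat.pow_mod]
    rcases h8 with h | h | h | h <;> simp [h]
  let one : IrrCharacter G := ⟨fun _ => 1, isIrr_one⟩
  let bar : IrrCharacter G → IrrCharacter G := fun χ => ⟨_, IsIrr.conj χ.2⟩
  have hbar : ∀ χ, bar (bar χ) = χ := fun χ => Subtype.ext (funext fun g => Complex.conj_conj _)
  have hfix : ∀ χ, bar χ = χ → χ = one := fun χ h => Subtype.ext (Cfsg.Agent.S0161.result hodd χ
    fun g => Complex.conj_eq_iff_im.mp (congrFun (congrArg Subtype.val h) g))
  -- pair the nonprincipal characters with their conjugates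
  have key : ∀ s : Finset (IrrCharacter G), (∀ χ ∈ s, bar χ ∈ s ∧ bar χ ≠ χ) →
      ∑ χ ∈ s, d χ ^ 2 ≡ s.card [MOD 16] := by
    intro s
    induction s using Finset.strongInduction with
    | _ s ih =>
      intro hs
      rcases s.eq_empty_or_nonempty with rfl | ⟨χ, hχ⟩
      · rfl
      obtain ⟨h1, h2⟩ := hs χ hχ
      have hd2 : d (bar χ) = d χ := by
        have e : ((d (bar χ) : ℕ) : ℂ) = d χ := by
          rw [← hd', ← hd']
          show (starRingEnd ℂ) ((χ : G → ℂ) 1) = _
          rw [hd', map_natCast]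
        exact_mod_cast e
      have hsub : ({χ, bar χ} : Finset (IrrCharacter G)) ⊆ s := by
        intro x hx
        rcases Finset.mem_insert.mp hx with rfl | hx
        · exact hχ
        · rw [Finset.mem_singleton.mp hx]; exact h1
      have hih := ih (s \ {χ, bar χ}) (Finset.sdiff_ssubset hsub ⟨χ, by simp⟩) fun ψ hψ => by
        obtain ⟨hψs, hψn⟩ := Finset.mem_sdiff.mp hψ
        refine ⟨Finset.mem_sdiff.mpr ⟨(hs ψ hψs).1, fun h => hψn ?_⟩, (hs ψ hψs).2⟩
        rcases Finset.mem_insert.mp h with h | h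
        · rw [← hbar ψ, h]; simp
        · rw [← hbar ψ, Finset.mem_singleton.mp h, hbar]; simp
      have hpair : d χ ^ 2 + d χ ^ 2 ≡ 2 [MOD 16] := by
        have := (hodd' χ).mul_left' 2
        simpa [two_mul] using this
      rw [← Finset.sum_sdiff hsub, Finset.sum_pair h2.symm, hd2, ← Finset.card_sdiff_add_card_eq_card hsub,
        Finset.card_pair h2.symm]
      exact hih.add hpair
  have h := key (Finset.univ.erase one) fun χ hχ => by
    have hne := (Finset.mem_erase.mp hχ).1
    refine ⟨Finset.mem_erase.mpr ⟨fun h => hne ?_, Finset.mem_univ _⟩, fun h => hne (hfix χ h)⟩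
    rw [← hbar χ, h]
    exact Subtype.ext (funext fun g => map_one _)
  rw [← card_irrCharacter, Nat.card_eq_fintype_card (α := IrrCharacter G), ← hsum,
    ← Finset.add_sum_erase _ _ (Finset.mem_univ one), ← Finset.card_univ,
    ← Finset.card_erase_add_one (Finset.mem_univ one), add_comm _ 1]
  refine Nat.ModEq.add ?_ h
  have : d one = 1 := by exact_mod_cast ((hd' one).symm.trans rfl : ((d one : ℕ) : ℂ) = 1)
  rw [this]
  rfl

end Cfsg.Agent.S0162
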