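import Cfsg.Statements.S0165
import Cfsg.Agent.Lib.Block.Separated
import Cfsg.Agent.Lib.Char.ModP
-- import your own Cfsg.Agent.* helpers here

set_option autoImplicit false
open Cfsg

namespace Cfsg.Agent.S0165

/-- If p ^ n is the exact power of the prime p dividing the order of a finite group and p ^ n divides the degree of an irreducible complex representation, then its character vanishes at every element of order divisible by p. -/
theorem result {G : Type*} [Group G] [Finite G] {V : Type*} [AddCommGroup V] [Module ℂ V] [FiniteDimensional ℂ V] (ρ : Representation ℂ G V) [ρ.IsIrreducible] (p n : ℕ) (hp : p.Prime) (hn : p ^ n ∣ Nat.card G) (hn' : ¬ p ^ (n + 1) ∣ Nat.card G) (hdeg : p ^ n ∣ Module.finrank ℂ V) (x : G) (hx : p ∣ orderOf x) : ρ.character x = 0 := by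
  classical
  haveI := Fact.mk hp
  obtain ⟨M, hM⟩ := Cfsg.Agent.Char.exists_isPModular p hp
  have hχ := Cfsg.Agent.Char.isIrrCharacter_character ρ
  refine Cfsg.Agent.Block.defectZero_vanish hM ⟨ρ.character, hχ⟩ ?_ hx
  have hpos := Cfsg.Agent.Char.finrank_pos_of_irreducible ρ
  have hd : Cfsg.charDegree ρ.character = Module.finrank ℂ V := by
    rw [Cfsg.charDegree, Representation.char_one, Complex.natCast_re, Nat.floor_natCast]
  have h1 : (Nat.card G).factorization p = n := by
    refine le_antisymm ?_ ((hp.pow_dvd_iff_le_factorization Nat.card_pos.ne').1 hn)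
    by_contra h
    exact hn' ((hp.pow_dvd_iff_le_factorization Nat.card_pos.ne').2 (by omega))
  refine le_antisymm ?_ ?_
  · exact (Nat.factorization_le_iff_dvd (Cfsg.Agent.Block.charDeg_pos _).ne' Nat.card_pos.ne').2
      (Cfsg.Agent.Block.charDeg_dvd ⟨ρ.character, hχ⟩) p
  · rw [h1, hd]
    exact (hp.pow_dvd_iff_le_factorization hpos.ne').1 hdeg

end Cfsg.Agent.S0165
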