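import Cfsg.Statements.S0167
import Cfsg.Agent.Lib.Char.Schur

set_option autoImplicit false
open Cfsg

namespace Cfsg.Agent.S0167

open Cfsg.Agent.Char
open scoped ComplexConjugate

/-- An element g of a finite group is a commutator if and only if the sum over the irreducible characters χ of χ g / χ 1 is nonzero. -/
theorem result {G : Type*} [Group G] [Finite G] (g : G) : (∃ a b : G, g = a * b * a⁻¹ * b⁻¹) ↔ ∑ᶠ χ : Cfsg.IrrCharacter G, (χ : G → ℂ) g / (χ : G → ℂ) 1 ≠ 0 := by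
  classical
  haveI := Fintype.ofFinite G
  rw [finsum_eq_sum_of_fintype]
  have key : (Nat.card G : ℂ) * (Nat.card {p : G × G // p.1 * p.2 * p.1⁻¹ * p.2⁻¹ = g} : ℂ) =
      (Nat.card G : ℂ) * (Nat.card G : ℂ) * conj (∑ χ : IrrCharacter G, (χ : G → ℂ) g / (χ : G → ℂ) 1) := by
    have h1 : (Nat.card G : ℂ) * (Nat.card {p : G × G // p.1 * p.2 * p.1⁻¹ * p.2⁻¹ = g} : ℂ) =
        ∑ χ : IrrCharacter G, (χ : G → ℂ) 1 * ∑ b : G, ∑ a : G, (χ : G → ℂ) (a * b * a⁻¹ * (b⁻¹ * g⁻¹)) := by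
      simp only [Finset.mul_sum]
      rw [Finset.sum_comm]
      rw [Finset.sum_congr rfl fun x _ => Finset.sum_comm]
      simp only [regular_expansion]
      rw [Finset.sum_comm, ← Finset.sum_product', Finset.sum_ite, Finset.sum_const_zero, add_zero,
        Finset.sum_const, nsmul_eq_mul, mul_comm]
      congr 2
      rw [Nat.card_eq_fintype_card, Fintype.card_subtype]
      congr 1
      ext ⟨x, y⟩
      simp [← mul_assoc, mul_inv_eq_one]
    rw [h1, map_sum, Finset.mul_sum]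
    refine Finset.sum_congr rfl fun χ _ => ?_
    simp only [sum_conj_apply χ.2]
    have hb : ∑ b : G, (χ : G → ℂ) b * (χ : G → ℂ) (b⁻¹ * g⁻¹) =
        (Nat.card G : ℂ) * (χ : G → ℂ) g⁻¹ / (χ : G → ℂ) 1 := by
      rw [← sum_mul_conj_shift χ.2 g⁻¹]
      refine Fintype.sum_equiv (Equiv.inv G) _ _ fun b => ?_
      rw [Equiv.inv_apply, IsIrr.apply_inv χ.2, Complex.conj_conj]
    have e : ∀ b : G, (Nat.card G : ℂ) * (χ : G → ℂ) b / (χ : G → ℂ) 1 * (χ : G → ℂ) (b⁻¹ * g⁻¹) =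
        (Nat.card G : ℂ) / (χ : G → ℂ) 1 * ((χ : G → ℂ) b * (χ : G → ℂ) (b⁻¹ * g⁻¹)) := fun b => by ring
    simp only [e]
    rw [← Finset.mul_sum, hb, IsIrr.apply_inv χ.2, map_div₀]
    obtain ⟨n, hn, hn'⟩ := IsIrr.one_eq_pos χ.2
    have : (n : ℂ) ≠ 0 := Nat.cast_ne_zero.mpr hn.ne'
    rw [hn', map_natCast]
    field_simp
  have hG : (Nat.card G : ℂ) ≠ 0 := Nat.cast_ne_zero.mpr Nat.card_pos.ne'
  constructor
  · rintro ⟨a, b, rfl⟩ h0
    rw [h0, map_zero, mul_zero, mul_eq_zero, Nat.cast_eq_zero] at key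
    haveI : Nonempty {p : G × G // p.1 * p.2 * p.1⁻¹ * p.2⁻¹ = a * b * a⁻¹ * b⁻¹} := ⟨⟨(a, b), rfl⟩⟩
    rcases key with h | h
    · exact Nat.card_pos.ne' h
    · exact Nat.card_pos.ne' (Nat.cast_eq_zero.mp h)
  · intro hne
    by_contra hno
    haveI : IsEmpty {p : G × G // p.1 * p.2 * p.1⁻¹ * p.2⁻¹ = g} :=
      ⟨fun p => hno ⟨p.1.1, p.1.2, p.2.symm⟩⟩
    rw [Nat.card_of_isEmpty (α := {p : G × G // p.1 * p.2 * p.1⁻¹ * p.2⁻¹ = g}), Nat.cast_zero,
      mul_zero, eq_comm, mul_eq_zero, map_eq_zero] at key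
    exact hne (key.resolve_left (mul_ne_zero hG hG))

end Cfsg.Agent.S0167
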