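import Cfsg.Statements.S0170
import Cfsg.Agent.Lib.Char.Exceptional

set_option autoImplicit false
open Cfsg

namespace Cfsg.Agent.S0170

/-- Exceptional characters. Let S be a subset of a finite group contained in its normalizer N and meeting its conjugates by elements outside N only in the identity. Given n ≥ 2 distinct irreducible characters of N of equal degree that vanish on N away from S, there exist a sign ε and n distinct irreducible characters θ_i of G such that inducing χ_i − χ_j to G gives ε (θ_i − θ_j) for all i, j. -/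
theorem result {G : Type*} [Group G] [Fintype G] (S : Set G) (hSN : S ⊆ Subgroup.normalizer S) (hTI : ∀ g : G, g ∉ Subgroup.normalizer S → ∀ s ∈ S, g * s * g⁻¹ ∈ S → s = 1) (n : ℕ) (hn : 2 ≤ n) (χ : Fin n → (Subgroup.normalizer S → ℂ)) (hirr : ∀ i, Cfsg.IsIrrCharacter (Subgroup.normalizer S) (χ i)) (hinj : Function.Injective χ) (hvan : ∀ i, ∀ x : Subgroup.normalizer S, (x : G) ∉ S → χ i x = 0) (hdeg : ∀ i j, χ i 1 = χ j 1) : ∃ ε : ℂ, (ε = 1 ∨ ε = -1) ∧ ∃ θ : Fin n → (G → ℂ), (∀ i, Cfsg.IsIrrCharacter G (θ i)) ∧ Function.Injective θ ∧ ∀ i j, Cfsg.indFun (Subgroup.normalizer S) (χ i) - Cfsg.indFun (Subgroup.normalizer S) (χ j) = ε • (θ i - θ j) := by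
  classical
  haveI := Fintype.ofFinite (Subgroup.normalizer S)
  have hg : ∀ i j, IsGeneralizedCharacter _ (χ i - χ j) := fun i j =>
    Cfsg.Agent.Char.IsGenChar.sub
      (Cfsg.Agent.Char.IsGenChar.of_isCharacter (Cfsg.Agent.Char.IsIrr.isCharacter (hirr i)))
      (Cfsg.Agent.Char.IsGenChar.of_isCharacter (Cfsg.Agent.Char.IsIrr.isCharacter (hirr j)))
  have hsupp : ∀ i j, ∀ x : Subgroup.normalizer S, (x : G) ∉ S → (χ i - χ j) x = 0 := fun i j x hx => by
    rw [Pi.sub_apply, hvan i x hx, hvan j x hx, sub_self]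
  refine Cfsg.Agent.Char.Exceptional.exists_family hn (fun i => indFun (Subgroup.normalizer S) (χ i))
    (fun i j => ?_) (fun i j => ?_) (fun i j k l => ?_)
  · rw [← Cfsg.Agent.Char.indFun_sub]
    exact Cfsg.Agent.Char.IsGenChar.ind _ (hg i j)
  · rw [Cfsg.Agent.Char.indFun_one_eq, Cfsg.Agent.Char.indFun_one_eq, hdeg i j]
  · rw [← Cfsg.Agent.Char.indFun_sub, ← Cfsg.Agent.Char.indFun_sub,
      Cfsg.Agent.Char.Exceptional.ti_isometry hTI (hsupp i j)
        (Cfsg.Agent.Char.IsGenChar.classFun (hg k l)) (hsupp k l)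
        (by rw [Pi.sub_apply, hdeg k l, sub_self]),
      Cfsg.Agent.Char.Exceptional.classInner_sub_sub]
    simp only [Cfsg.Agent.Char.classInner_irr_eq_ite (hirr _) (hirr _), hinj.eq_iff]

end Cfsg.Agent.S0170
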