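import Cfsg.Statements.S0171
import Cfsg.Agent.Lib.Char.Kernel

set_option autoImplicit false
open Cfsg

namespace Cfsg.Agent.S0171

open Cfsg.Agent.Char

/-- Let G = K H with K normal, K ⊓ H trivial, and no non-identity element of H commuting with a non-identity element of K (a Frobenius group with kernel K and complement H). Then every non-principal irreducible character of K induces to an irreducible character of G. -/
theorem result {G : Type*} [Group G] [Fintype G] (K H : Subgroup G) [K.Normal] (hKH : K ⊓ H = ⊥) (hKH' : K ⊔ H = ⊤) (hfpf : ∀ h ∈ H, h ≠ 1 → ∀ k ∈ K, h * k = k * h → k = 1) (τ : K → ℂ) (hτ : Cfsg.IsIrrCharacter K τ) (hτ1 : τ ≠ fun _ => 1) : Cfsg.IsIrrCharacter G (Cfsg.indFun K τ) := by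
  classical
  haveI := Fintype.ofFinite K
  refine indFun_irr_of_inertia_eq K hτ (inertia_eq_of_fpf K (fun k hk hk1 g hg => ?_) hτ hτ1)
  by_contra hgK
  have hgk : g * k = k * g := Subgroup.mem_centralizer_singleton_iff.mp hg
  obtain ⟨a, ha, h, hh, rfl⟩ : ∃ a ∈ K, ∃ h ∈ H, g = a * h :=
    let ⟨a, ha, h, hh, e⟩ := Subgroup.mem_sup_of_normal_left.mp (hKH' ▸ Subgroup.mem_top g : g ∈ K ⊔ H)
    ⟨a, ha, h, hh, e.symm⟩
  have hh1 : h ≠ 1 := fun e => hgK (by rw [e, mul_one]; exact ha)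
  -- the coset K h consists of K-conjugates of h
  let F : K → K := fun b => ⟨b * h * (b : G)⁻¹ * h⁻¹, by
    have := K.mul_mem b.2 ((inferInstance : K.Normal).conj_mem _ (K.inv_mem b.2) h)
    simpa [mul_assoc] using this⟩
  have hF : Function.Injective F := by
    intro b c hbc
    have e : (b : G) * h * (b : G)⁻¹ = c * h * (c : G)⁻¹ := mul_right_cancel (congrArg Subtype.val hbc)
    refine Subtype.ext (inv_mul_eq_one.mp (hfpf h hh hh1 ((c : G)⁻¹ * b) (K.mul_mem (K.inv_mem c.2) b.2) ?_)).symm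
    calc h * ((c : G)⁻¹ * b) = (c : G)⁻¹ * (c * h * (c : G)⁻¹) * b := by group
      _ = (c : G)⁻¹ * (b * h * (b : G)⁻¹) * b := by rw [e]
      _ = (c : G)⁻¹ * b * h := by group
  obtain ⟨b, hb⟩ := Finite.injective_iff_surjective.mp hF ⟨a, ha⟩
  have hb' : (b : G) * h * (b : G)⁻¹ * h⁻¹ = a := congrArg Subtype.val hb
  have hab : a * h = (b : G) * h * (b : G)⁻¹ := by rw [← hb']; group
  refine hk1 ?_
  have := hfpf h hh hh1 ((b : G)⁻¹ * k * b)
    (by simpa using (inferInstance : K.Normal).conj_mem k hk (b : G)⁻¹) (by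
      calc h * ((b : G)⁻¹ * k * b) = (b : G)⁻¹ * (a * h * k) * b := by rw [hab]; group
        _ = (b : G)⁻¹ * (k * (a * h)) * b := by rw [hgk]
        _ = (b : G)⁻¹ * k * b * h := by rw [hab]; group)
  calc k = (b : G) * ((b : G)⁻¹ * k * b) * (b : G)⁻¹ := by group
    _ = 1 := by rw [this]; group

end Cfsg.Agent.S0171
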