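import Cfsg.Statements.S0172
import Mathlib

set_option autoImplicit false
open Cfsg

namespace Cfsg.Agent.S0172

/-- Class number of a Frobenius group: if G = K H with K normal, K ⊓ H trivial and no non-identity element of H commuting with a non-identity element of K, then |H| * k(G) + 1 = |H| * k(H) + k(K), where k denotes the number of conjugacy classes. -/
theorem result {G : Type*} [Group G] [Finite G] (K H : Subgroup G) [K.Normal] (hKH : K ⊓ H = ⊥) (hKH' : K ⊔ H = ⊤) (hfpf : ∀ h ∈ H, h ≠ 1 → ∀ k ∈ K, h * k = k * h → k = 1) : Nat.card H * Nat.card (ConjClasses G) + 1 = Nat.card H * Nat.card (ConjClasses H) + Nat.card (ConjClasses K) := by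
  classical
  haveI := Fintype.ofFinite G
  have hsum : ∀ (X : Subgroup G), ∑ g : X, Nat.card {y : X // Commute g y} =
      Nat.card (ConjClasses X) * Nat.card X := by
    intro X
    rw [← card_comm_eq_card_conjClasses_mul_card, ← Nat.card_sigma]
    exact Nat.card_congr ⟨fun s => ⟨(s.1, s.2.1), s.2.2⟩, fun q => ⟨q.1.1, q.1.2, q.2⟩,
      fun _ => rfl, fun _ => rfl⟩
  have hsumG : ∑ g : G, Nat.card {y : G // Commute g y} = Nat.card (ConjClasses G) * Nat.card G := by
    rw [← card_comm_eq_card_conjClasses_mul_card, ← Nat.card_sigma]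
    exact Nat.card_congr ⟨fun s => ⟨(s.1, s.2.1), s.2.2⟩, fun q => ⟨q.1.1, q.1.2, q.2⟩,
      fun _ => rfl, fun _ => rfl⟩
  have hdec : ∀ g : G, ∃ k ∈ K, ∃ h ∈ H, k * h = g := fun g => by
    have : g ∈ ((K ⊔ H : Subgroup G) : Set G) := hKH' ▸ Subgroup.mem_top g
    rw [Subgroup.normal_mul] at this
    exact Set.mem_mul.1 this
  have huniq : ∀ {h h' : G}, h ∈ H → h' ∈ H → h' * h⁻¹ ∈ K → h' = h := fun {h h'} hh hh' hk => by
    have : h' * h⁻¹ ∈ K ⊓ H := ⟨hk, H.mul_mem hh' (H.inv_mem hh)⟩
    rw [hKH, Subgroup.mem_bot, mul_inv_eq_one] at this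
    exact this
  have hcK : ∀ k : K, (k : G) ≠ 1 → Nat.card {y : G // Commute (k : G) y} = Nat.card {y : K // Commute k y} := by
    intro k hk
    symm
    refine Nat.card_congr (Equiv.ofBijective (fun y => ⟨(y.1 : G), congrArg Subtype.val y.2.eq⟩)
      ⟨fun a b e => Subtype.ext (Subtype.ext (congrArg Subtype.val e :)), fun ⟨y, hy⟩ => ?_⟩)
    suffices hy' : y ∈ K from ⟨⟨⟨y, hy'⟩, Subtype.ext hy.eq⟩, rfl⟩
    obtain ⟨a, ha, h, hh, rfl⟩ := hdec y
    by_contra hn
    have hh1 : h ≠ 1 := fun e => hn (by rw [e, mul_one]; exact ha)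
    -- the conjugate of `k` by `h` equals a conjugate inside `K`; count orbits of `h`
    obtain ⟨b, hb, hconj⟩ : ∃ b ∈ K, b * h * b⁻¹ = a * h := by
      let f : K → K := fun c => ⟨(c : G) * (h * (c : G)⁻¹ * h⁻¹),
        K.mul_mem c.2 (Subgroup.Normal.conj_mem ‹K.Normal› _ (K.inv_mem c.2) h)⟩
      have hf : Function.Injective f := by
        intro c d e
        have e' : (c : G) * (h * (c : G)⁻¹ * h⁻¹) = (d : G) * (h * (d : G)⁻¹ * h⁻¹) :=
          congrArg Subtype.val e
        have hcomm : h * ((d : G)⁻¹ * c) = ((d : G)⁻¹ * c) * h := by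
          have := congrArg (fun t => (d : G)⁻¹ * t * h * c) e'
          simpa [mul_assoc] using this.symm
        have := hfpf h hh hh1 _ (K.mul_mem (K.inv_mem d.2) c.2) hcomm
        exact Subtype.ext (inv_mul_eq_one.1 this).symm
      obtain ⟨c, hc⟩ := (Finite.injective_iff_surjective.1 hf) ⟨a, ha⟩
      refine ⟨c, c.2, ?_⟩
      have e : (c : G) * (h * (c : G)⁻¹ * h⁻¹) = a := congrArg Subtype.val hc
      rw [← e]; group
    rw [← hconj] at hy
    have h2 : h * (b⁻¹ * k * b) = (b⁻¹ * k * b) * h := by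
      have := congrArg (fun t => b⁻¹ * t * b) hy.eq
      simpa [mul_assoc] using this.symm
    have := hfpf h hh hh1 _ (K.mul_mem (K.mul_mem (K.inv_mem hb) k.2) hb) h2
    refine hk ?_
    have e := congrArg (fun t => b * t * b⁻¹) this
    simpa [mul_assoc] using e
  let φ : K × {h : H // h ≠ 1} → G := fun q => (q.1 : G) * ((q.2.1 : G)) * (q.1 : G)⁻¹
  have hφK : ∀ q, φ q ∉ K := by
    intro q hq
    refine q.2.2 (Subtype.ext ?_)
    have h1 := K.mul_mem (K.mul_mem (K.inv_mem q.1.2) hq) q.1.2
    have e : (q.1 : G)⁻¹ * φ q * (q.1 : G) = (q.2.1 : G) := by simp [φ, mul_assoc]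
    rw [e] at h1
    exact huniq H.one_mem q.2.1.2 (by simpa using h1)
  have hφi : Function.Injective φ := by
    rintro ⟨a, h, hh⟩ ⟨b, h', hh'⟩ e
    simp only [φ] at e
    set c := (b : G)⁻¹ * (a : G) with hc
    have hcK' : c ∈ K := K.mul_mem (K.inv_mem b.2) a.2
    have e1 : c * (h : G) * c⁻¹ = (h' : G) := by
      have := congrArg (fun t => (b : G)⁻¹ * t * b) e
      simpa [hc, mul_assoc] using this
    have e2 : (h' : G) = h := huniq h.2 h'.2 (by
      rw [← e1]
      have := K.mul_mem hcK' (Subgroup.Normal.conj_mem ‹K.Normal› _ (K.inv_mem hcK') (h : G))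
      simpa [mul_assoc] using this)
    rw [e2, mul_inv_eq_iff_eq_mul] at e1
    have hc1 := hfpf h h.2 (fun e => hh (Subtype.ext e)) c hcK' e1.symm
    rw [hc, inv_mul_eq_one] at hc1
    exact Prod.ext (Subtype.ext hc1.symm) (Subtype.ext (Subtype.ext e2.symm))
  have hcardG : Nat.card G = Nat.card K * Nat.card H := by
    refine ((Nat.card_congr (Equiv.ofBijective (fun q : K × H => (q.1 : G) * q.2) ⟨?_, fun g => ?_⟩)).symm.trans
      (Nat.card_prod K H))
    · rintro ⟨a, h⟩ ⟨b, h'⟩ e
      have e' : (b : G)⁻¹ * a = h' * (h : G)⁻¹ := by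
        rw [inv_mul_eq_iff_eq_mul, ← mul_assoc, eq_mul_inv_iff_mul_eq]; exact e
      have := huniq h.2 h'.2 (e' ▸ K.mul_mem (K.inv_mem b.2) a.2)
      rw [this, mul_inv_cancel, inv_mul_eq_one] at e'
      exact Prod.ext (Subtype.ext e'.symm) (Subtype.ext this.symm)
    · obtain ⟨k, hk, h, hh, e⟩ := hdec g
      exact ⟨(⟨k, hk⟩, ⟨h, hh⟩), e⟩
  have himg : Finset.univ.image φ = Finset.univ.filter fun g : G => g ∉ K := by
    refine Finset.eq_of_subset_of_card_le (fun g hg => ?_) ?_
    · obtain ⟨q, -, rfl⟩ := Finset.mem_image.1 hg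
      simp [hφK q]
    · rw [Finset.card_image_of_injective _ hφi, Finset.filter_not, Finset.card_sdiff,
        Finset.inter_univ]
      simp only [Finset.card_univ, Fintype.card_prod, ne_eq, Fintype.card_subtype_compl,
        Fintype.card_subtype_eq]
      rw [← Fintype.card_subtype, ← Nat.card_eq_fintype_card (α := G), hcardG,
        ← Nat.card_eq_fintype_card, ← Nat.card_eq_fintype_card, Nat.mul_sub, mul_one]
  have hcH : ∀ q, Nat.card {y : G // Commute (φ q) y} = Nat.card {y : H // Commute q.2.1 y} := by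
    rintro ⟨a, h, hh⟩
    symm
    refine Nat.card_congr (Equiv.ofBijective (fun y => ⟨(a : G) * y.1 * (a : G)⁻¹, ?_⟩) ⟨?_, ?_⟩)
    · show _ * _ = _ * _
      have := congrArg Subtype.val y.2.eq
      simp only [Subgroup.coe_mul] at this
      simp [φ, mul_assoc, mul_left_cancel_iff, ← mul_assoc (h : G), this]
    · intro u v e
      have := congrArg Subtype.val e
      simp only [mul_left_inj, mul_right_inj] at this
      exact Subtype.ext (Subtype.ext this)
    · rintro ⟨y, hy⟩
      obtain ⟨c, hc, w, hw, hcw⟩ := hdec ((a : G)⁻¹ * y * a)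
      have hy' : (h : G) * (c * w) = c * w * h := by
        have := congrArg (fun t => (a : G)⁻¹ * t * a) hy.eq
        simpa [φ, hcw, mul_assoc] using this
      have e2 : (h : G) * w = w * h := by
        refine huniq (H.mul_mem hw h.2) (H.mul_mem h.2 hw) ?_
        have e : (h : G) * w * ((w : G) * h)⁻¹ =
            ((h : G) * c⁻¹ * (h : G)⁻¹) * ((h : G) * (c * w) * ((w : G) * h)⁻¹) := by group
        rw [e, hy']
        exact K.mul_mem (Subgroup.Normal.conj_mem ‹K.Normal› _ (K.inv_mem hc) _)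
          (by simpa [mul_assoc] using hc)
      have e3 : (h : G) * c = c * h := by
        rw [← mul_assoc, mul_assoc c w, ← e2, ← mul_assoc] at hy'
        exact mul_right_cancel hy'
      have hc1 := hfpf h h.2 (fun e => hh (Subtype.ext e)) c hc e3
      rw [hc1, one_mul] at hcw
      refine ⟨⟨⟨w, hw⟩, Subtype.ext e2⟩, Subtype.ext ?_⟩
      show (a : G) * w * (a : G)⁻¹ = y
      rw [hcw]; group
  have hsplit := Finset.sum_filter_add_sum_filter_not Finset.univ (fun g : G => g ∈ K)
    (fun g => Nat.card {y : G // Commute g y})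
  rw [hsumG, ← himg, Finset.sum_image hφi.injOn] at hsplit
  simp only [hcH] at hsplit
  rw [Fintype.sum_prod_type] at hsplit
  simp only [] at hsplit
  rw [Finset.sum_const, Finset.card_univ, smul_eq_mul,
    ← Nat.card_eq_fintype_card, ← Finset.sum_subtype (Finset.univ.filter fun h : H => h ≠ 1)
    (fun h => by simp) (fun h => Nat.card {y : H // Commute h y}),
    Finset.sum_subtype (p := fun g : G => g ∈ K) (Finset.univ.filter fun g : G => g ∈ K) (fun g => by simp)
    (fun g => Nat.card {y : G // Commute g y})] at hsplit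
  have e1 := Finset.add_sum_erase (Finset.univ : Finset K) (fun g : K => Nat.card {y : G // Commute (g : G) y}) (Finset.mem_univ 1)
  have e2 := Finset.add_sum_erase (Finset.univ : Finset K) (fun g : K => Nat.card {y : K // Commute g y}) (Finset.mem_univ 1)
  have e3 := Finset.add_sum_erase (Finset.univ : Finset H) (fun g : H => Nat.card {y : H // Commute g y}) (Finset.mem_univ 1)
  rw [hsum] at e2 e3
  rw [Finset.sum_congr rfl (fun g hg => hcK g (fun e => Finset.ne_of_mem_erase hg (Subtype.ext e)))] at e1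
  rw [← Finset.filter_ne'] at e3
  simp only [OneMemClass.coe_one, Commute.one_left, Nat.card_congr (Equiv.subtypeUnivEquiv (fun _ => trivial))] at e1 e2 e3
  refine Nat.eq_of_mul_eq_mul_left (Nat.card_pos (α := K)) ?_
  rw [← e1, hcardG] at hsplit
  set X := ∑ x ∈ Finset.univ.erase (1 : K), Nat.card {y : K // Commute x y}
  set Y := ∑ x ∈ Finset.univ.filter (fun h : H => h ≠ 1), Nat.card {y : H // Commute x y}
  calc Nat.card K * (Nat.card H * Nat.card (ConjClasses G) + 1)
      = Nat.card (ConjClasses G) * (Nat.card K * Nat.card H) + Nat.card K := by ring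
    _ = Nat.card K * Nat.card H + X + Nat.card K * Y + Nat.card K := by rw [← hsplit]
    _ = Nat.card K * (Nat.card H + Y) + (Nat.card K + X) := by ring
    _ = _ := by rw [e2, e3]; ring

end Cfsg.Agent.S0172
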