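import Cfsg.Statements.S0173
import Cfsg.Agent.Lib.Char.Perm

set_option autoImplicit false
open Cfsg

namespace Cfsg.Agent.S0173

open Cfsg.Agent.Char

/-- Brauer's permutation lemma for a single automorphism: the number of conjugacy classes mapped to themselves equals the number of irreducible complex characters χ with χ ∘ α = χ. -/
theorem result {G : Type*} [Group G] [Finite G] (α : G ≃* G) : Nat.card {C : ConjClasses G // ConjClasses.map α.toMonoidHom C = C} = Nat.card {χ : Cfsg.IrrCharacter G // (χ : G → ℂ) ∘ α = (χ : G → ℂ)} := by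
  classical
  have hc : ∀ χ : IrrCharacter G, IsIrrCharacter G ((χ : G → ℂ) ∘ α) := fun χ => by
    haveI := Fintype.ofFinite G
    refine IsChar.irr_of_norm_one (IsChar.comp α.toMonoidHom (IsIrr.isCharacter χ.2)) ?_
    refine Eq.trans ?_ (classInner_self_irr χ.2)
    simp only [classInner]
    congr 1
    exact Fintype.sum_equiv α.toEquiv _ _ fun g => rfl
  rw [← brauer_perm (fun χ => (⟨_, hc χ⟩ : IrrCharacter G)) (ConjClasses.map α.toMonoidHom)
    (fun χ g g' h => ?_)]
  · exact Nat.card_congr (Equiv.subtypeEquivRight fun χ => Subtype.ext_iff)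
  · exact (IsClass.eq_of_isConj (IsIrr.classFun χ.2) (ConjClasses.mk_eq_mk_iff_isConj.mp
      (h.trans rfl : ConjClasses.mk g' = ConjClasses.mk (α g)))).symm

end Cfsg.Agent.S0173
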