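import Cfsg.Statements.S0175
import Mathlib
import Cfsg.Agent.Lib.Char.Kernel
import Cfsg.Agent.Lib.Char.Induce
import Cfsg.Agent.Lib.Char.Integral
-- import your own Cfsg.Agent.* helpers here

set_option autoImplicit false
open Cfsg

namespace Cfsg.Agent.S0175

set_option linter.style.haveILetI false

open Cfsg.Agent.Char
open scoped commutatorElement

universe w

variable {G : Type w} [Group G] [Fintype G]

theorem core (hM : ∀ χ : G → ℂ, IsIrrCharacter G χ → ∃ (H : Subgroup G) (lam : H →* ℂˣ), χ = indFun H (fun h => (lam h : ℂ))) :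
    ∀ (n : ℕ) (χ : IrrCharacter G), (∀ d : ℕ, (χ : G → ℂ) 1 = d → d ≤ n) →
      ∀ g ∈ derivedSeries G n, (χ : G → ℂ) g = (χ : G → ℂ) 1 := by
  classical
  intro n
  induction n with
  | zero =>
    intro χ hd g _
    obtain ⟨d, hd0, hd1⟩ := IsIrr.one_eq_pos χ.2
    have := hd d hd1
    omega
  | succ n ih =>
    intro χ hd
    obtain ⟨H, lam, hχ⟩ := hM χ χ.2
    haveI := Fintype.ofFinite H
    have hidx : H.index ≤ n + 1 := hd _ (by rw [hχ, indFun_one_eq]; simp)
    -- the derived term lies in H
    have hDH : derivedSeries G n ≤ H := by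
      intro g hg
      set ψ := indFun H (fun _ : H => (1 : ℂ)) with hψdef
      have hψ : IsCharacter G ψ := isCharacter_indFun H (IsIrr.isCharacter isIrr_one)
      obtain ⟨a, ha, hdec⟩ := IsChar.exists_decomp_inner hψ
      choose d hdp hd1 using fun φ : IrrCharacter G => IsIrr.one_eq_pos φ.2
      have hψ1 : ψ 1 = (H.index : ℂ) := by rw [hψdef, indFun_one_eq, mul_one]
      have hsum : H.index = ∑ φ : IrrCharacter G, a φ * d φ := by
        have : (H.index : ℂ) = ((∑ φ : IrrCharacter G, a φ * d φ : ℕ) : ℂ) := by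
          rw [← hψ1, congrFun hdec 1, sum_irr_apply, Nat.cast_sum]
          exact Finset.sum_congr rfl fun φ _ => by rw [hd1 φ, Nat.cast_mul]
        exact_mod_cast this
      let one : IrrCharacter G := ⟨fun _ => 1, isIrr_one⟩
      have hone : 0 < a one := by
        refine Nat.pos_of_ne_zero fun h0 => ?_
        have h1 := ha one
        rw [h0, Nat.cast_zero, hψdef, classInner_indFun H _ (IsIrr.classFun one.2)] at h1
        have h2 := classInner_self_irr (isIrr_one (G := H))
        exact one_ne_zero (h2.symm.trans h1)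
      have hval : ∀ φ : IrrCharacter G, a φ ≠ 0 → (φ : G → ℂ) g = (φ : G → ℂ) 1 := by
        intro φ hφ
        by_cases he : φ = one
        · subst he; rfl
        refine ih φ (fun e he1 => ?_) g hg
        rw [hd1 φ, Nat.cast_inj] at he1
        subst he1
        have h2 : a φ * d φ + a one * d one ≤ H.index := by
          rw [hsum, ← Finset.sum_pair (f := fun φ => a φ * d φ) he]
          exact Finset.sum_le_sum_of_subset (Finset.subset_univ _)
        have h3 : 0 < a one * d one := Nat.mul_pos hone (hdp one)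
        have h4 : d φ ≤ a φ * d φ := Nat.le_mul_of_pos_left _ (Nat.pos_of_ne_zero hφ)
        omega
      have hψg : ψ g = ψ 1 := by
        rw [congrFun hdec g, congrFun hdec 1, sum_irr_apply, sum_irr_apply]
        refine Finset.sum_congr rfl fun φ _ => ?_
        by_cases h : a φ = 0
        · simp [h]
        · rw [hval φ h]
      rw [hψ1, hψdef] at hψg
      simp only [indFun] at hψg
      have hc : (Nat.card H : ℂ) ≠ 0 := Nat.cast_ne_zero.2 Nat.card_pos.ne'
      rw [inv_mul_eq_iff_eq_mul₀ hc, ← Nat.cast_mul, H.card_mul_index] at hψg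
      have heq : ∀ x : G, extendByZero H (fun _ : H => (1 : ℂ)) x = if x ∈ H then 1 else 0 := fun x => by
        by_cases hx : x ∈ H
        · rw [if_pos hx, extendByZero_of_mem _ hx]
        · rw [if_neg hx, extendByZero_not_mem _ hx]
      simp only [heq, Finset.sum_boole, Nat.cast_inj] at hψg
      rw [Nat.card_eq_fintype_card, ← Finset.card_univ, Finset.card_filter_eq_iff] at hψg
      have := hψg 1 (Finset.mem_univ _)
      simpa using this
    intro g hg
    have hDk : ∀ k ∈ derivedSeries G (n + 1), ∀ hk : k ∈ H, lam ⟨k, hk⟩ = 1 := by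
      intro k hk
      have h1 : derivedSeries G (n + 1) ≤ (lam.ker).map H.subtype := by
        rw [derivedSeries_succ, Subgroup.commutator_le]
        intro p hp q hq
        refine ⟨⁅(⟨p, hDH hp⟩ : H), (⟨q, hDH hq⟩ : H)⁆, ?_, by simp [map_commutatorElement]⟩
        simp [map_commutatorElement, commutatorElement_eq_one_iff_mul_comm, mul_comm]
      obtain ⟨y, hy, rfl⟩ := h1 hk
      exact fun hk' => hy
    have hval : ∀ x : G, ∀ k ∈ derivedSeries G (n + 1),
        extendByZero H (fun h => (lam h : ℂ)) (x⁻¹ * k * x) = 1 := by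
      intro x k hk
      have h1 : x⁻¹ * k * x ∈ derivedSeries G (n + 1) := (derivedSeries_normal G (n + 1)).conj_mem' k hk x
      have h2 : x⁻¹ * k * x ∈ H := hDH (derivedSeries_antitone G (Nat.le_succ n) h1)
      rw [extendByZero_of_mem _ h2, hDk _ h1 h2, Units.val_one]
    rw [hχ]
    simp only [indFun]
    congr 1
    exact Finset.sum_congr rfl fun x _ => by rw [hval x g hg, hval x 1 (one_mem _)]

theorem main (hM : ∀ χ : G → ℂ, IsIrrCharacter G χ → ∃ (H : Subgroup G) (lam : H →* ℂˣ), χ = indFun H (fun h => (lam h : ℂ))) :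
    Group.IsSolvable G := by
  refine (isSolvable_def G).2 ⟨Fintype.card G, le_bot_iff.1 fun g hg => ?_⟩
  refine isConj_one_left.mp ((isConj_iff_irr g 1).mpr fun χ => core hM _ χ (fun d hd => ?_) g hg)
  refine Nat.le_of_dvd Fintype.card_pos ?_
  rw [← Nat.card_eq_fintype_card]
  exact IsIrr.degree_dvd_card χ.2 hd

/-- Taketa's Theorem on M-groups: if every irreducible complex character of a finite group is induced from a linear character (a homomorphism to ℂˣ) of some subgroup, the group is solvable. -/
theorem result {G : Type*} [Group G] [Fintype G] (hM : ∀ χ : G → ℂ, Cfsg.IsIrrCharacter G χ → ∃ (H : Subgroup G) (lam : H →* ℂˣ), χ = Cfsg.indFun H (fun h => (lam h : ℂ))) : Group.IsSolvable G := by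
  exact main hM

end Cfsg.Agent.S0175
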