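import Cfsg.Statements.S0177
import Cfsg.Agent.Lib.Char.ArtinInduction
-- import your own Cfsg.Agent.* helpers here

set_option autoImplicit false
open Cfsg

namespace Cfsg.Agent.S0177

/-- The Artin induction Theorem: for a character χ of a finite group, |G| • χ is a ℤ-linear combination of functions induced from homomorphisms of cyclic subgroups into ℂˣ. -/
theorem result {G : Type*} [Group G] [Fintype G] (χ : G → ℂ) (hχ : Cfsg.IsCharacter G χ) : ∃ l : List ((A : Subgroup G) × ((A →* ℂˣ) × ℤ)), (∀ t ∈ l, IsCyclic t.1) ∧ (Nat.card G : ℂ) • χ = (l.map fun t => (t.2.2 : ℂ) • Cfsg.indFun t.1 (fun a => (t.2.1 a : ℂ))).sum := by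
  have hmem := Cfsg.Agent.Char.Brauer.artin hχ
  revert hmem
  generalize (Nat.card G : ℂ) • χ = f
  intro hf
  induction hf using AddSubgroup.closure_induction with
  | mem f hf =>
    obtain ⟨E, hE, φ, rfl⟩ := hf
    exact ⟨[⟨E, φ, 1⟩], fun t ht => by simp at ht; subst ht; exact hE, by simp⟩
  | zero => exact ⟨[], by simp, by simp⟩
  | add u v _ _ hu hv =>
    obtain ⟨l, hl, rfl⟩ := hu
    obtain ⟨r, hr, rfl⟩ := hv
    exact ⟨l ++ r, fun t ht => (List.mem_append.1 ht).elim (hl t) (hr t), by simp⟩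
  | neg u hu0 hu =>
    obtain ⟨l, hl, rfl⟩ := hu
    refine ⟨l.map fun t => ⟨t.1, t.2.1, -t.2.2⟩, fun t ht => ?_, ?_⟩
    · obtain ⟨s, hs, rfl⟩ := List.mem_map.1 ht
      exact hl s hs
    · clear hl hu0
      induction l with
      | nil => simp
      | cons t l ih =>
        simp only [List.map_cons, List.sum_cons, ← ih, neg_add, Int.cast_neg, neg_smul]

end Cfsg.Agent.S0177
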