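import Cfsg.Statements.S0180
import Cfsg.Agent.Lib.Char.Galois

set_option autoImplicit false
open Cfsg

namespace Cfsg.Agent.S0180

open Cfsg.Agent.Char

/-- Every irreducible complex character of a finite group takes only rational values if and only if g is conjugate to g ^ m for every element g and every m coprime to the group order. -/
theorem result {G : Type*} [Group G] [Finite G] : (∀ χ : Cfsg.IrrCharacter G, ∀ g : G, ∃ q : ℚ, (χ : G → ℂ) g = (q : ℂ)) ↔ ∀ m : ℕ, m.Coprime (Nat.card G) → ∀ g : G, IsConj g (g ^ m) := by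
  refine ⟨fun h m hm g => (isConj_iff_irr g (g ^ m)).mpr fun χ => ?_, fun h χ g => ?_⟩
  · obtain ⟨σ, hσ⟩ := exists_galois (G := G) m hm
    obtain ⟨q, hq⟩ := h χ g
    rw [← hσ _ (IsIrr.isCharacter χ.2) g, hq, map_ratCast]
  · obtain ⟨m, hm⟩ := IsChar.exists_int_of_fixed (IsIrr.isCharacter χ.2) g fun k hk => by
      obtain ⟨k', hk', hkk'⟩ := exists_coprime_lift Nat.card_pos (orderOf_dvd_natCard g) hk
      rw [← pow_eq_pow_iff_modEq.mpr hkk']
      exact (IsClass.eq_of_isConj (IsIrr.classFun χ.2) (h k' hk' g)).symm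
    exact ⟨m, by simp [hm]⟩

end Cfsg.Agent.S0180
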