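import Cfsg.Statements.S0181
import Cfsg.Agent.Lib.Char.Kernel

set_option autoImplicit false
open Cfsg

namespace Cfsg.Agent.S0181

open Cfsg.Agent.Char

/-- Let H be a normal subgroup of a finite group G and ρ an irreducible complex representation whose kernel does not contain H. If g commutes with no non-identity element of H, then the character of ρ vanishes at g. -/
theorem result {G : Type*} [Group G] [Finite G] {V : Type*} [AddCommGroup V] [Module ℂ V] [FiniteDimensional ℂ V] (ρ : Representation ℂ G V) [ρ.IsIrreducible] (H : Subgroup G) [H.Normal] (hker : ∃ h ∈ H, ρ h ≠ LinearMap.id) (g : G) (hg : ∀ h ∈ H, h * g = g * h → h = 1) : ρ.character g = 0 := by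
  classical
  haveI := Fintype.ofFinite G
  haveI := Fintype.ofFinite H
  have hHn : H.Normal := inferInstance
  let P : Module.End ℂ V := ∑ h : H, ρ h
  have hfix : ∀ k : H, ρ k * P = P := fun k => by
    simp only [P, Finset.mul_sum, ← map_mul]
    exact Fintype.sum_equiv (Equiv.mulLeft k) _ _ fun h => rfl
  have hcomm : ∀ x, P ∘ₗ ρ x = ρ x ∘ₗ P := fun x => by
    show P * ρ x = ρ x * P
    simp only [P, Finset.mul_sum, Finset.sum_mul, ← map_mul]
    refine (Fintype.sum_equiv (conjEquivN H x).toEquiv _ _ fun h => ?_).symm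
    simp [conjEquivN_apply]
  obtain ⟨c, hc⟩ := schur_scalar ρ P hcomm
  have hc0 : c = 0 := by
    by_contra hne
    obtain ⟨h, hh, hh'⟩ := hker
    refine hh' ?_
    have := hfix ⟨h, hh⟩
    rw [hc, ← Module.End.one_eq_id, mul_smul_comm, mul_one] at this
    exact smul_right_injective _ hne this
  -- the character is constant on the coset of g
  let F : H → H := fun h => ⟨(h : G) * g * (h : G)⁻¹ * g⁻¹, by
    have := H.mul_mem h.2 (hHn.conj_mem _ (H.inv_mem h.2) g)
    simpa [mul_assoc] using this⟩
  have hF : Function.Injective F := by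
    intro a b hab
    have e : (a : G) * g * (a : G)⁻¹ = b * g * (b : G)⁻¹ := mul_right_cancel (congrArg Subtype.val hab)
    refine Subtype.ext (inv_mul_eq_one.mp (hg ((b : G)⁻¹ * a) (H.mul_mem (H.inv_mem b.2) a.2) ?_)).symm
    calc (b : G)⁻¹ * a * g = (b : G)⁻¹ * (a * g * (a : G)⁻¹) * a := by group
      _ = (b : G)⁻¹ * (b * g * (b : G)⁻¹) * a := by rw [e]
      _ = g * ((b : G)⁻¹ * a) := by group
  have hconst : ∀ h : H, ρ.character ((h : G) * g) = ρ.character g := fun h => by
    obtain ⟨a, rfl⟩ := Finite.injective_iff_surjective.mp hF h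
    simp [F]
  have h1 : (LinearMap.trace ℂ V) (P * ρ g) = (Nat.card H : ℂ) * ρ.character g := by
    simp only [P, Finset.sum_mul, map_sum, ← map_mul]
    have hc' : ∀ h : H, LinearMap.trace ℂ V (ρ ((h : G) * g)) = ρ.character g := hconst
    simp only [hc']
    simp [Nat.card_eq_fintype_card]
  rw [hc, hc0, zero_smul, zero_mul, map_zero, eq_comm, mul_eq_zero] at h1
  exact h1.resolve_left (Nat.cast_ne_zero.mpr Nat.card_pos.ne')

end Cfsg.Agent.S0181
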