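import Cfsg.Statements.S0184
import Cfsg.Agent.Lib.Char.Complete
import Cfsg.Agent.Lib.Grp.Frattini

set_option autoImplicit false
open Cfsg

namespace Cfsg.Agent.S0184

open Cfsg.Agent.Char

theorem zpowers_eq_of_orderOf_eq {A : Type*} [Group A] [Finite A] [IsCyclic A] {a b : A}
    (h : orderOf a = orderOf b) : Subgroup.zpowers a = Subgroup.zpowers b := by
  classical
  haveI := Fintype.ofFinite A
  have hS : ∀ c : A, orderOf c = orderOf a →
      (Finset.univ.filter fun x => x ∈ Subgroup.zpowers c) =
        Finset.univ.filter fun x => x ^ orderOf a = 1 := by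
    intro c hc
    refine Finset.eq_of_subset_of_card_le (fun x hx => ?_) ?_
    · obtain ⟨k, rfl⟩ := Subgroup.mem_zpowers_iff.mp (Finset.mem_filter.mp hx).2
      refine Finset.mem_filter.mpr ⟨Finset.mem_univ _, ?_⟩
      rw [← zpow_natCast, ← zpow_mul, mul_comm, zpow_mul, zpow_natCast, ← hc, pow_orderOf_eq_one,
        one_zpow]
    · refine (IsCyclic.card_pow_eq_one_le (orderOf_pos a)).trans (le_of_eq ?_)
      rw [← Fintype.card_subtype, ← Nat.card_eq_fintype_card]
      exact (hc.symm.trans (Nat.card_zpowers c).symm)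
  ext x
  simpa using Finset.ext_iff.mp ((hS a rfl).trans (hS b h.symm).symm) x

/-- A finite p-group admits a faithful irreducible complex representation if and only if its centre is cyclic. -/
theorem result {G : Type*} [Group G] [Finite G] (p : ℕ) [Fact p.Prime] (hG : IsPGroup p G) : (∃ (n : ℕ) (ρ : Representation ℂ G (Fin n → ℂ)), ρ.IsIrreducible ∧ Function.Injective ρ) ↔ IsCyclic (Subgroup.center G) := by
  classical
  haveI := Fintype.ofFinite G
  constructor
  · rintro ⟨n, ρ, hρ, hinj⟩
    have hsc : ∀ z : Subgroup.center G, ∃ c : ℂ, ρ z = c • LinearMap.id := fun z =>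
      schur_scalar ρ (ρ z) fun g => by
        show ρ z * ρ g = ρ g * ρ z
        rw [← map_mul, ← map_mul, Subgroup.mem_center_iff.mp z.2 g]
    choose c hc using hsc
    haveI : Nontrivial (Fin n → ℂ) := Module.nontrivial_of_finrank_pos (R := ℂ) (finrank_pos_of_irreducible ρ)
    have hsi : Function.Injective (fun a : ℂ => a • (LinearMap.id : (Fin n → ℂ) →ₗ[ℂ] (Fin n → ℂ))) := by
      intro a b h
      have hn : (Module.finrank ℂ (Fin n → ℂ) : ℂ) ≠ 0 := Nat.cast_ne_zero.mpr (finrank_pos_of_irreducible ρ).ne'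
      have h1 := congrArg (LinearMap.trace ℂ (Fin n → ℂ)) h
      simp only [map_smul, LinearMap.trace_id, smul_eq_mul] at h1
      exact mul_right_cancel₀ hn h1
    let f : Subgroup.center G →* ℂ :=
      { toFun := c
        map_one' := hsi (by
          show c 1 • LinearMap.id = (1 : ℂ) • LinearMap.id
          rw [← hc 1, one_smul, Subgroup.coe_one, map_one, Module.End.one_eq_id])
        map_mul' := fun a b => hsi (by
          show c (a * b) • LinearMap.id = (c a * c b) • LinearMap.id
          rw [← hc, Subgroup.coe_mul, map_mul, hc a, hc b]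
          ext x
          simp [mul_assoc, mul_left_comm]) }
    refine isCyclic_of_subgroup_isDomain f fun a b hab => ?_
    refine Subtype.ext (hinj ?_)
    rw [hc a, hc b, show c a = c b from hab]
  · intro hcyc
    by_cases hnt : Nontrivial G
    swap
    · haveI := not_nontrivial_iff_subsingleton.mp hnt
      obtain ⟨n, ρ, hρ, -⟩ := isIrr_one (G := G)
      exact ⟨n, ρ, hρ, fun _ _ _ => Subsingleton.elim _ _⟩
    haveI := hG.center_nontrivial
    obtain ⟨z, hz⟩ := exists_prime_orderOf_dvd_card' (G := Subgroup.center G) p (by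
      obtain ⟨m, hm⟩ := (hG.to_subgroup (Subgroup.center G)).exists_card_eq
      rw [hm]
      refine dvd_pow_self p fun h0 => ?_
      rw [h0, pow_zero] at hm
      exact (Finite.one_lt_card (α := Subgroup.center G)).ne' hm)
    have hz1 : (z : G) ≠ 1 := by
      intro h
      rw [← orderOf_eq_one_iff, Subgroup.orderOf_coe] at h
      rw [h] at hz
      exact (Fact.out : p.Prime).ne_one hz.symm
    -- some irreducible character is nontrivial on z
    obtain ⟨χ, hχ⟩ : ∃ χ : IrrCharacter G, (χ : G → ℂ) z ≠ (χ : G → ℂ) 1 := by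
      by_contra h
      push Not at h
      exact hz1 (isConj_one_left.mp ((isConj_iff_irr (z : G) 1).mpr h))
    obtain ⟨n, ρ, hρ, hρχ⟩ := χ.2
    refine ⟨n, ρ, hρ, (MonoidHom.ker_eq_bot_iff ρ).mp ?_⟩
    by_contra hker
    haveI : Nontrivial (MonoidHom.ker ρ) := (Subgroup.nontrivial_iff_ne_bot _).mpr hker
    -- the kernel meets the centre, whose only subgroup of order p is generated by z
    obtain ⟨y, hy, hy1⟩ : ∃ y : Subgroup.center G, (y : G) ∈ MonoidHom.ker ρ ∧ orderOf y = p := by
      haveI := hG.to_subgroup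
      have hne : MonoidHom.ker ρ ⊓ Subgroup.center G ≠ ⊥ :=
        (haveI := MonoidHom.normal_ker ρ; haveI := hG.isNilpotent; Grp.inf_center_ne_bot (MonoidHom.ker ρ) hker)
      haveI : Nontrivial ↥(MonoidHom.ker ρ ⊓ Subgroup.center G) := (Subgroup.nontrivial_iff_ne_bot _).mpr hne
      obtain ⟨w, hw⟩ := exists_prime_orderOf_dvd_card' (G := ↥(MonoidHom.ker ρ ⊓ Subgroup.center G)) p (by
        obtain ⟨m, hm⟩ := (hG.to_subgroup (MonoidHom.ker ρ ⊓ Subgroup.center G)).exists_card_eq
        rw [hm]
        refine dvd_pow_self p fun h0 => ?_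
        rw [h0, pow_zero] at hm
        exact (Finite.one_lt_card (α := ↥(MonoidHom.ker ρ ⊓ Subgroup.center G))).ne' hm)
      exact ⟨⟨w, w.2.2⟩, w.2.1, by rw [← Subgroup.orderOf_coe, ← hw, ← Subgroup.orderOf_coe]⟩
    have hsame : Subgroup.zpowers y = Subgroup.zpowers z := by
      obtain ⟨g, hg⟩ := IsCyclic.exists_generator (α := Subgroup.center G)
      exact zpowers_eq_of_orderOf_eq (hy1.trans hz.symm)
    obtain ⟨k, hk⟩ := Subgroup.mem_zpowers_iff.mp (hsame ▸ Subgroup.mem_zpowers z : z ∈ Subgroup.zpowers y)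
    have hzk : (z : G) ∈ MonoidHom.ker ρ := by
      rw [← hk, Subgroup.coe_zpow]
      exact zpow_mem hy k
    refine hχ ?_
    rw [← hρχ, Representation.char_one, character_eq_finrank_iff]
    exact MonoidHom.mem_ker.mp hzk

end Cfsg.Agent.S0184
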