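import Cfsg.Statements.S0185
import Cfsg.Agent.Lib.Char.Constituent
import Cfsg.Agent.Lib.Char.Integral

set_option autoImplicit false
open Cfsg

namespace Cfsg.Agent.S0185

open Cfsg.Agent.Char

/-- If a finite group has a faithful complex representation of degree less than the smallest prime dividing its order, the group is abelian. -/
theorem result {G : Type*} [Group G] [Finite G] {V : Type*} [AddCommGroup V] [Module ℂ V] [FiniteDimensional ℂ V] (ρ : Representation ℂ G V) (hfaithful : Function.Injective ρ) (hdeg : ∀ p : ℕ, p.Prime → p ∣ Nat.card G → Module.finrank ℂ V < p) (a b : G) : a * b = b * a := by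
  classical
  haveI := Fintype.ofFinite G
  obtain ⟨c, hc, hdec⟩ := IsChar.exists_decomp_inner (isCharacter_character ρ)
  have hlin : ∀ χ : IrrCharacter G, c χ ≠ 0 → (χ : G → ℂ) 1 = 1 := by
    intro χ hχ
    obtain ⟨n, hn, hn'⟩ := IsIrr.one_eq_pos χ.2
    have hle : n ≤ Module.finrank ℂ V := degree_le_of_constituent (isCharacter_character ρ) χ.2
      (by rw [hc]; exact_mod_cast hχ) (Representation.char_one ρ) hn'
    have hdvd := IsIrr.degree_dvd_card χ.2 hn'
    rcases eq_or_ne n 1 with h1 | h1
    · rw [hn', h1, Nat.cast_one]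
    · obtain ⟨p, hp, hpn⟩ := Nat.exists_prime_and_dvd h1
      exact absurd (lt_of_lt_of_le (hdeg p hp (hpn.trans hdvd)) (le_trans (Nat.le_of_dvd hn hpn) hle)) (lt_irrefl _)
  have hker : ρ.character (a * b * (b * a)⁻¹) = (Module.finrank ℂ V : ℂ) := by
    rw [← Representation.char_one ρ, hdec, sum_irr_apply, sum_irr_apply]
    refine Finset.sum_congr rfl fun χ _ => ?_
    rcases eq_or_ne (c χ) 0 with h | h
    · simp [h]
    · obtain ⟨l, hl⟩ := linearHom_of_isCharacter (IsIrr.isCharacter χ.2) (hlin χ h)
      rw [hl]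
      simp [mul_comm (l a) (l b)]
  rw [character_eq_finrank_iff] at hker
  exact mul_inv_eq_one.mp (hfaithful (by rw [hker, map_one, Module.End.one_eq_id]))

end Cfsg.Agent.S0185
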