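import Cfsg.Statements.S0186
import Cfsg.Agent.Lib.Char.Constituent
import Cfsg.Agent.Lib.Char.Integral

set_option autoImplicit false
open Cfsg

namespace Cfsg.Agent.S0186

open Cfsg.Agent.Char

/-- Let G be a finite simple group of order n and p a prime dividing n. If G has more than n / p^2 conjugacy classes, then every Sylow p-subgroup of G is abelian. -/
theorem result {G : Type*} [Group G] [Finite G] [IsSimpleGroup G] (p : ℕ) [Fact p.Prime] (hp : p ∣ Nat.card G) (hmany : Nat.card G < p ^ 2 * Nat.card (ConjClasses G)) (P : Sylow p G) (a b : G) (ha : a ∈ P) (hb : b ∈ P) : a * b = b * a := by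
  classical
  haveI := Fintype.ofFinite G
  haveI := Fintype.ofFinite (P : Subgroup G)
  by_contra hne
  obtain ⟨k, hk⟩ : ∃ k, Nat.card (IrrCharacter G) = k := ⟨_, rfl⟩
  rw [← card_irrCharacter, hk] at hmany
  have hp0 := (Fact.out : p.Prime)
  -- the Sylow subgroup is not abelian, so p ^ 2 divides the group order
  have hP2 : p ^ 2 ∣ Nat.card G := by
    obtain ⟨m, hm⟩ := P.isPGroup'.exists_card_eq
    refine dvd_trans ?_ (P : Subgroup G).card_subgroup_dvd_card
    rw [hm]
    refine pow_dvd_pow p ?_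
    by_contra hlt
    refine hne ?_
    have hcyc : IsCyclic (P : Subgroup G) := by
      rcases Nat.le_one_iff_eq_zero_or_eq_one.mp (Nat.le_of_lt_succ (Nat.lt_of_not_le hlt)) with h | h
      · rw [h, pow_zero] at hm
        haveI := (Nat.card_eq_one_iff_unique.mp hm).1
        infer_instance
      · rw [h, pow_one] at hm
        exact isCyclic_of_prime_card hm
    exact congrArg Subtype.val ((IsCyclic.commGroup (α := (P : Subgroup G))).mul_comm ⟨a, ha⟩ ⟨b, hb⟩)
  -- every nonprincipal character has degree at least p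
  have hdeg : ∀ χ : IrrCharacter G, (χ : G → ℂ) ≠ (fun _ => 1) → ∀ n : ℕ, (χ : G → ℂ) 1 = n → p ≤ n := by
    intro χ hχ n hn
    by_contra hlt
    -- all constituents on P are linear
    have hres := IsChar.res (IsIrr.isCharacter χ.2) (P : Subgroup G)
    have hab : (χ : G → ℂ) (a * b * (b * a)⁻¹) = (χ : G → ℂ) 1 := by
      obtain ⟨c, hc, hdec⟩ := IsChar.exists_decomp_inner hres
      have e1 := congrFun hdec ((⟨a, ha⟩ : (P : Subgroup G)) * ⟨b, hb⟩ * (⟨b, hb⟩ * ⟨a, ha⟩)⁻¹)
      have e2 := congrFun hdec 1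
      simp only [Subgroup.coe_mul, Subgroup.coe_inv, Subgroup.coe_one] at e1 e2
      rw [e1, e2, sum_irr_apply, sum_irr_apply]
      refine Finset.sum_congr rfl fun φ _ => ?_
      rcases eq_or_ne (c φ) 0 with h | h
      · simp [h]
      · obtain ⟨m, hm, hm'⟩ := IsIrr.one_eq_pos φ.2
        have hle : m ≤ n := degree_le_of_constituent hres φ.2
          (by rw [hc]; exact_mod_cast h) (by simpa using hn) hm'
        have hdvd := IsIrr.degree_dvd_card φ.2 hm'
        obtain ⟨i, hi⟩ := P.isPGroup'.exists_card_eq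
        rw [hi] at hdvd
        obtain ⟨j, -, rfl⟩ := (Nat.dvd_prime_pow hp0).mp hdvd
        rcases Nat.eq_zero_or_pos j with rfl | hj
        · obtain ⟨l, hl⟩ := linearHom_of_isCharacter (IsIrr.isCharacter φ.2) (by rw [hm']; simp)
          congr 1
          rw [hl]
          dsimp only
          congr 1
          rw [map_one, map_mul, map_inv, map_mul, map_mul, mul_comm (l ⟨b, hb⟩), mul_inv_cancel]
        · exact absurd ((Nat.le_of_dvd (pow_pos hp0.pos j) (dvd_pow_self p hj.ne')).trans hle) hlt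
    rcases (charKer_normal (IsIrr.isCharacter χ.2)).eq_bot_or_eq_top with h | h
    · refine hne (mul_inv_eq_one.mp ?_)
      exact Subgroup.mem_bot.mp (h ▸ (mem_charKer (IsIrr.isCharacter χ.2)).mpr hab)
    · exact hχ (irr_const_eq_one χ.2 fun x => (mem_charKer (IsIrr.isCharacter χ.2)).mp (h ▸ Subgroup.mem_top x))
  choose d hd hd' using fun χ : IrrCharacter G => IsIrr.one_eq_pos χ.2
  have hsum : ∑ χ : IrrCharacter G, d χ ^ 2 = Nat.card G := by
    have h1 : ((∑ χ : IrrCharacter G, d χ ^ 2 : ℕ) : ℂ) = (Nat.card G : ℂ) := by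
      rw [← sum_degree_sq (G := G), Nat.cast_sum]
      exact Finset.sum_congr rfl fun χ _ => by rw [hd', Nat.cast_pow]
    exact_mod_cast h1
  let one : IrrCharacter G := ⟨fun _ => 1, isIrr_one⟩
  rw [← Finset.add_sum_erase _ _ (Finset.mem_univ one)] at hsum
  have hle : (k - 1) * p ^ 2 ≤ ∑ χ ∈ Finset.univ.erase one, d χ ^ 2 := by
    have := Finset.card_nsmul_le_sum (Finset.univ.erase one) (fun χ => d χ ^ 2) (p ^ 2) fun χ hχ =>
      Nat.pow_le_pow_left (hdeg χ (fun h => (Finset.mem_erase.mp hχ).1 (Subtype.ext h)) _ (hd' χ)) 2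
    rwa [Finset.card_erase_of_mem (Finset.mem_univ _), Finset.card_univ, ← Nat.card_eq_fintype_card, hk, smul_eq_mul] at this
  have h1 : 1 ≤ d one ^ 2 := Nat.one_le_pow _ _ (hd one)
  obtain ⟨m, hm⟩ := hP2
  have hlow : (k - 1) * p ^ 2 < Nat.card G := by omega
  rw [hm] at hlow hmany
  rw [mul_comm] at hlow
  have h2 := Nat.lt_of_mul_lt_mul_left hlow
  have h3 := Nat.lt_of_mul_lt_mul_left hmany
  omega

end Cfsg.Agent.S0186
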