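import Cfsg.Statements.S0187
import Cfsg.Agent.Lib.Char.Constituent

set_option autoImplicit false
open Cfsg

namespace Cfsg.Agent.S0187

open Cfsg.Agent.Char

/-- A finite group is commutative if and only if every irreducible complex character has degree 1. -/
theorem result {G : Type*} [Group G] [Finite G] : (∀ a b : G, a * b = b * a) ↔ ∀ χ : Cfsg.IrrCharacter G, (χ : G → ℂ) 1 = 1 := by
  refine ⟨fun h χ => IsIrr.one_of_comm h χ.2, fun h a b => ?_⟩
  have h1 : a * b * (b * a)⁻¹ = 1 := isConj_one_left.mp ((isConj_iff_irr _ _).mpr fun χ => by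
    obtain ⟨l, hl⟩ := linearHom_of_isCharacter (IsIrr.isCharacter χ.2) (h χ)
    simp [hl, mul_comm (l a) (l b)])
  exact mul_inv_eq_one.mp h1

end Cfsg.Agent.S0187
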