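import Cfsg.Statements.S0188
import Cfsg.Agent.Lib.Char.Complete

set_option autoImplicit false
open Cfsg

namespace Cfsg.Agent.S0188

open Cfsg.Agent.Char
open scoped ComplexConjugate

/-- The irreducible complex characters of G × H are precisely the functions (g, h) ↦ φ g * ψ h with φ, ψ irreducible characters of G and H. -/
theorem result {G : Type*} [Group G] [Finite G] {H : Type*} [Group H] [Finite H] (θ : G × H → ℂ) : Cfsg.IsIrrCharacter (G × H) θ ↔ ∃ (φ : G → ℂ) (ψ : H → ℂ), Cfsg.IsIrrCharacter G φ ∧ Cfsg.IsIrrCharacter H ψ ∧ θ = fun x => φ x.1 * ψ x.2 := by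
  classical
  haveI := Fintype.ofFinite G
  haveI := Fintype.ofFinite H
  have hprod : ∀ (φ : G → ℂ) (ψ : H → ℂ), IsIrrCharacter G φ → IsIrrCharacter H ψ →
      IsIrrCharacter (G × H) (fun x => φ x.1 * ψ x.2) := by
    intro φ ψ hφ hψ
    refine IsChar.irr_of_norm_one (IsChar.mul (IsChar.comp (MonoidHom.fst G H) (IsIrr.isCharacter hφ))
      (IsChar.comp (MonoidHom.snd G H) (IsIrr.isCharacter hψ))) ?_
    have h1 := classInner_self_irr hφ
    have h2 := classInner_self_irr hψ
    simp only [classInner] at h1 h2 ⊢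
    rw [Fintype.sum_prod_type, Nat.card_prod, Nat.cast_mul, mul_inv]
    calc _ = ((Nat.card G : ℂ)⁻¹ * ∑ g, φ g * conj (φ g)) * ((Nat.card H : ℂ)⁻¹ * ∑ h, ψ h * conj (ψ h)) := by
          rw [mul_mul_mul_comm, Finset.sum_mul_sum]
          congr 1
          refine Finset.sum_congr rfl fun g _ => Finset.sum_congr rfl fun h _ => ?_
          simp only [Pi.mul_apply, MonoidHom.coe_fst, MonoidHom.coe_snd, map_mul]
          ring
      _ = 1 := by rw [h1, h2, one_mul]
  refine ⟨fun hθ => ?_, fun ⟨φ, ψ, hφ, hψ, h⟩ => h ▸ hprod φ ψ hφ hψ⟩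
  by_contra hno
  push Not at hno
  -- θ would be orthogonal to all products
  have horth : ∀ φ ψ, IsIrrCharacter G φ → IsIrrCharacter H ψ →
      ∑ g : G, ∑ h : H, θ (g, h) * conj (φ g) * conj (ψ h) = 0 := by
    intro φ ψ hφ hψ
    have h := classInner_irr_ne hθ (hprod φ ψ hφ hψ) (hno φ ψ hφ hψ)
    simp only [classInner, Fintype.sum_prod_type, map_mul, mul_eq_zero, inv_eq_zero,
      Nat.cast_eq_zero, Nat.card_pos.ne', false_or] at h
    simpa [mul_assoc] using h
  have hcl := IsIrr.classFun hθ
  have hrow : ∀ h : H, (fun g => θ (g, h)) = 0 := by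
    intro h
    refine eq_zero_of_orth_irr (fun a b => by simpa using hcl (a, h) (b, 1)) fun φ hφ => ?_
    have hcol : (fun h => classInner (fun g => θ (g, h)) φ) = 0 := by
      refine eq_zero_of_orth_irr (fun a b => ?_) fun ψ hψ => ?_
      · simp only [classInner]
        congr 1
        refine Finset.sum_congr rfl fun g _ => ?_
        rw [show θ (g, b * a * b⁻¹) = θ (g, a) by simpa using hcl (g, a) (1, b)]
      · simp only [classInner, Finset.mul_sum, Finset.sum_mul]
        rw [Finset.sum_comm]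
        have := horth φ ψ hφ hψ
        simp only [mul_assoc, ← Finset.mul_sum] at this ⊢
        rw [this, mul_zero, mul_zero]
    exact congrFun hcol h
  exact IsIrr.one_ne_zero hθ (congrFun (hrow 1) 1)

end Cfsg.Agent.S0188
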