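import Cfsg.Statements.S0190
import Cfsg.Agent.Lib.Char.Induce

set_option autoImplicit false
open Cfsg

namespace Cfsg.Agent.S0190

open Cfsg.Agent.Char

/-- For a transitive action of a finite group on X, the permutation character g ↦ (number of fixed points of g) is the function induced from the principal character of the stabilizer of any point. -/
theorem result {G : Type*} [Group G] [Fintype G] (X : Type*) [MulAction G X] [Finite X] [MulAction.IsPretransitive G X] (x : X) : (fun g : G => (Nat.card (MulAction.fixedBy X g) : ℂ)) = Cfsg.indFun (MulAction.stabilizer G x) (fun _ => 1) := by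
  classical
  funext g
  have hfib : ∀ y : G, (y⁻¹ * g * y ∈ MulAction.stabilizer G x) ↔ g • (y • x) = y • x := by
    intro y
    rw [MulAction.mem_stabilizer_iff, mul_smul, mul_smul, inv_smul_eq_iff]
  have hh : ∀ y : G, extendByZero (MulAction.stabilizer G x) (fun _ => (1 : ℂ)) (y⁻¹ * g * y) =
      if g • (y • x) = y • x then 1 else 0 := by
    intro y
    split_ifs with h
    · rw [extendByZero_of_mem _ ((hfib y).mpr h)]
    · exact extendByZero_not_mem _ fun h' => h ((hfib y).mp h')
  simp only [indFun, hh, Finset.sum_boole]
  rw [eq_inv_mul_iff_mul_eq₀ (Nat.cast_ne_zero.mpr Nat.card_pos.ne'), ← Nat.cast_mul]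
  congr 1
  rw [← Fintype.card_subtype, ← Nat.card_eq_fintype_card, ← Nat.card_prod]
  have hs : ∀ z : X, ∃ y : G, y • x = z := fun z => MulAction.exists_smul_eq G x z
  choose s hs using hs
  exact Nat.card_congr
    { toFun := fun p => ⟨s p.2 * p.1, by
        rw [mul_smul, MulAction.mem_stabilizer_iff.mp p.1.2, hs]; exact p.2.2⟩
      invFun := fun y => (⟨(s ((y : G) • x))⁻¹ * y, by
        rw [MulAction.mem_stabilizer_iff, mul_smul, inv_smul_eq_iff, hs]⟩, ⟨(y : G) • x, y.2⟩)
      left_inv := fun p => by
        have e : (s p.2 * p.1 : G) • x = p.2 := by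
          rw [mul_smul, MulAction.mem_stabilizer_iff.mp p.1.2, hs]
        ext
        · simp [e]
        · simp [e]
      right_inv := fun y => by ext; simp }

end Cfsg.Agent.S0190
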