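import Cfsg.Statements.S0191
import Cfsg.Agent.Lib.Char.Galois

set_option autoImplicit false
open Cfsg

namespace Cfsg.Agent.S0191

open Cfsg.Agent.Char

/-- An irreducible complex representation of a finite group of degree greater than 1 has a character that vanishes somewhere. -/
theorem result {G : Type*} [Group G] [Finite G] {V : Type*} [AddCommGroup V] [Module ℂ V] [FiniteDimensional ℂ V] (ρ : Representation ℂ G V) [ρ.IsIrreducible] (hdeg : 1 < Module.finrank ℂ V) : ∃ g : G, ρ.character g = 0 := by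
  classical
  haveI := Fintype.ofFinite G
  by_contra hno
  push Not at hno
  have hirr := isIrrCharacter_character ρ
  set χ := ρ.character with hχdef
  choose b c hb hc hk using fun g : G => exists_rep_eigenbasis ρ g
  have hk1 : ∀ g, χ g = ∑ i, c g i := fun g => by simpa using hk g 1
  -- the product of all values is a rational integer
  have hfix : ∀ σ : ℂ ≃+* ℂ, ∀ k : ℕ, k.Coprime (Nat.card G) →
      (∀ ζ : ℂ, ζ ^ Nat.card G = 1 → σ ζ = ζ ^ k) →
      σ (∏ g ∈ Finset.univ.erase (1 : G), χ g) = ∏ g ∈ Finset.univ.erase (1 : G), χ g := by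
    intro σ k hk' hσ
    obtain ⟨m, hm⟩ : ∃ m : ℕ, ∀ g : G, (g ^ k) ^ m = g := by
      rcases Nat.lt_or_ge 1 (Nat.card G) with h | h
      · obtain ⟨m, -, hm⟩ := Nat.exists_mul_mod_eq_one_of_coprime hk' h
        exact ⟨m, fun g => by rw [← pow_mul, ← pow_mod_natCard, hm, pow_one]⟩
      · haveI := Finite.card_le_one_iff_subsingleton.mp h
        exact ⟨0, fun g => Subsingleton.elim _ _⟩
    rw [map_prod]
    refine Finset.prod_nbij' (fun g => g ^ k) (fun g => g ^ m) (fun g hg => ?_) (fun g hg => ?_)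
      (fun g _ => hm g) (fun g _ => by rw [← pow_mul, mul_comm, pow_mul]; exact hm g)
      (fun g _ => ringAut_character_eq_pow (IsIrr.isCharacter hirr) σ hσ (orderOf_dvd_natCard g))
    · exact Finset.mem_erase.mpr ⟨fun h => (Finset.mem_erase.mp hg).1 (by rw [← hm g, h, one_pow]), Finset.mem_univ _⟩
    · exact Finset.mem_erase.mpr ⟨fun h => (Finset.mem_erase.mp hg).1 (by rw [← hm g, ← pow_mul, mul_comm, pow_mul, h, one_pow]), Finset.mem_univ _⟩
  set X := ∏ g ∈ Finset.univ.erase (1 : G), χ g with hX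
  have hint : IsIntegral ℤ X := IsIntegral.prod _ fun g _ => isIntegral_character ρ g
  have hXc : X = ∑ e ∈ (Finset.univ.erase (1 : G)).pi (fun _ => (Finset.univ : Finset (Fin (Module.finrank ℂ V)))),
      ∏ g ∈ (Finset.univ.erase (1 : G)).attach, c g.1 (e g.1 g.2) := by
    rw [hX, Finset.prod_congr rfl fun g _ => hk1 g, Finset.prod_sum]
  obtain ⟨q, hq⟩ := exists_rat_of_fixed Nat.card_pos
    ((Finset.univ.erase (1 : G)).pi (fun _ => (Finset.univ : Finset (Fin (Module.finrank ℂ V)))))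
    (fun e => ∏ g ∈ (Finset.univ.erase (1 : G)).attach, c g.1 (e g.1 g.2))
    (fun e _ => by
      rw [← Finset.prod_pow, Finset.prod_eq_one]
      intro g _
      obtain ⟨t, ht⟩ := orderOf_dvd_natCard (g.1)
      rw [ht, pow_mul, hc, one_pow])
    (fun k hkc => by
      obtain ⟨σ, hσ⟩ := exists_ringAut_pow (Nat.card G) k Nat.card_pos hkc
      have := hfix σ k hkc hσ
      rw [hXc, map_sum] at this
      refine Eq.trans ?_ this
      refine Finset.sum_congr rfl fun e _ => ?_
      rw [map_prod, ← Finset.prod_pow]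
      refine Finset.prod_congr rfl fun g _ => ?_
      obtain ⟨t, ht⟩ := orderOf_dvd_natCard (g.1)
      exact (hσ _ (by rw [ht, pow_mul, hc, one_pow])).symm)
  rw [← hXc] at hq
  obtain ⟨z, hz⟩ := int_of_isIntegral_rat (hq ▸ hint)
  have hX1 : 1 ≤ ‖X‖ := by
    have hz0 : z ≠ 0 := fun h => by
      have : X = 0 := by rw [hq, hz, h, Int.cast_zero]
      exact (Finset.prod_ne_zero_iff.mpr fun g _ => hno g) this
    rw [hq, hz, Complex.norm_intCast]
    exact_mod_cast Int.one_le_abs hz0
  -- compare with the first orthogonality relation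
  have hsum : ∑ g : G, ‖χ g‖ ^ 2 = (Nat.card G : ℝ) := by
    have h1 := classInner_self_irr hirr
    rw [classInner_self] at h1
    have h2 : (Nat.card G : ℝ)⁻¹ * ∑ g : G, ‖χ g‖ ^ 2 = 1 := by exact_mod_cast h1
    rwa [inv_mul_eq_one₀ (Nat.cast_ne_zero.mpr Nat.card_pos.ne'), eq_comm] at h2
  have hlog : ((Finset.univ.erase (1 : G)).card : ℝ) ≤ ∑ g ∈ Finset.univ.erase (1 : G), ‖χ g‖ ^ 2 := by
    have h1 : ∀ g : G, Real.log (‖χ g‖ ^ 2) ≤ ‖χ g‖ ^ 2 - 1 := fun g =>
      Real.log_le_sub_one_of_pos (by have := norm_pos_iff.mpr (hno g); positivity)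
    have h2 : 0 ≤ ∑ g ∈ Finset.univ.erase (1 : G), Real.log (‖χ g‖ ^ 2) := by
      rw [← Real.log_prod (fun g _ => pow_ne_zero 2 (norm_ne_zero_iff.mpr (hno g))), Finset.prod_pow]
      refine Real.log_nonneg (one_le_pow₀ ?_)
      rwa [← norm_prod]
    have h3 := h2.trans (Finset.sum_le_sum fun g _ => h1 g)
    rw [Finset.sum_sub_distrib, Finset.sum_const, nsmul_eq_mul, mul_one] at h3
    linarith
  rw [← Finset.add_sum_erase _ _ (Finset.mem_univ (1 : G)),
    (show χ 1 = _ from Representation.char_one ρ), Complex.norm_natCast] at hsum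
  rw [Finset.card_erase_of_mem (Finset.mem_univ _), Finset.card_univ, ← Nat.card_eq_fintype_card,
    Nat.cast_sub (Nat.one_le_iff_ne_zero.mpr Nat.card_pos.ne')] at hlog
  have h4 : (2 : ℝ) ≤ Module.finrank ℂ V := by exact_mod_cast hdeg
  push_cast at hlog
  nlinarith

end Cfsg.Agent.S0191
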