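import Cfsg.Statements.S0192
import Cfsg.Agent.Lib.Char.Complete

set_option autoImplicit false
open Cfsg

namespace Cfsg.Agent.S0192

open Cfsg.Agent.Char

/-- Brauer's generation criterion. Let G be a finite simple group, H₁ and H₂ subgroups, and χ a non-principal irreducible character. If the multiplicity of the principal character in χ restricted to H₁ ⊓ H₂ is less than the sum of the corresponding multiplicities for H₁ and H₂, then H₁ and H₂ do not generate G. -/
theorem result {G : Type*} [Group G] [Fintype G] [IsSimpleGroup G] (H₁ H₂ : Subgroup G) [Fintype H₁] [Fintype H₂] [Fintype ↥(H₁ ⊓ H₂)] (χ : G → ℂ) (hχ : Cfsg.IsIrrCharacter G χ) (hχ1 : χ ≠ fun _ => 1) (hlt : (Cfsg.classInner (fun x : ↥(H₁ ⊓ H₂) => χ x) (fun _ => 1)).re < (Cfsg.classInner (fun x : H₁ => χ x) (fun _ => 1)).re + (Cfsg.classInner (fun x : H₂ => χ x) (fun _ => 1)).re) : H₁ ⊔ H₂ ≠ ⊤ := by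
  intro htop
  obtain ⟨n, ρ, hρ, rfl⟩ := hχ
  have key : ∀ (K : Subgroup G) [Fintype K],
      classInner (fun x : K => ρ.character x) (fun _ => 1) =
        (Module.finrank ℂ (Representation.invariants (ρ.comp K.subtype)) : ℂ) := by
    intro K _
    rw [← Representation.card_inv_mul_sum_char_eq_finrank, classInner]
    refine congrArg _ (Finset.sum_congr rfl fun x _ => ?_)
    rw [map_one, mul_one]
    rfl
  simp only [key, Complex.natCast_re] at hlt
  set U := Representation.invariants (ρ.comp H₁.subtype)
  set W := Representation.invariants (ρ.comp H₂.subtype)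
  set Z := Representation.invariants (ρ.comp (H₁ ⊓ H₂ : Subgroup G).subtype)
  have hUW : U ⊓ W = ⊥ := by
    rw [eq_bot_iff]
    rintro v ⟨hv1, hv2⟩
    have hfix : ∀ g : G, ρ g v = v := by
      intro g
      have hg : g ∈ H₁ ⊔ H₂ := htop ▸ Subgroup.mem_top g
      let S : Subgroup G :=
        { carrier := {g | ρ g v = v}
          one_mem' := by simp
          mul_mem' := fun {a b} (ha : ρ a v = v) (hb : ρ b v = v) => by
            show ρ (a * b) v = v
            rw [map_mul, Module.End.mul_apply, hb, ha]
          inv_mem' := fun {a} (ha : ρ a v = v) => by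
            show ρ a⁻¹ v = v
            calc ρ a⁻¹ v = ρ a⁻¹ (ρ a v) := by rw [ha]
              _ = v := by rw [← Module.End.mul_apply, ← map_mul]; simp }
      exact (sup_le (show H₁ ≤ S from fun h hh => hv1 ⟨h, hh⟩) (show H₂ ≤ S from fun h hh => hv2 ⟨h, hh⟩)) hg
    by_contra hv0
    have hv0' : v ≠ 0 := fun h => hv0 (h ▸ Submodule.zero_mem _)
    let L : Subrepresentation ρ := ⟨Submodule.span ℂ {v}, fun g x hx => by
      obtain ⟨a, rfl⟩ := Submodule.mem_span_singleton.mp hx
      rw [map_smul, hfix]; exact hx⟩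
    have hL : L = ⊤ := (hρ.2 L).resolve_left fun h => hv0' (by
      have : v ∈ L.toSubmodule := Submodule.mem_span_singleton_self v
      rw [h] at this
      exact (Submodule.mem_bot ℂ).mp this)
    refine hχ1 (funext fun g => ?_)
    have hone : ρ g = LinearMap.id := LinearMap.ext fun x => by
      have : x ∈ L.toSubmodule := by rw [hL]; exact Submodule.mem_top
      obtain ⟨a, rfl⟩ := Submodule.mem_span_singleton.mp this
      rw [map_smul, hfix]; rfl
    have hdim : Module.finrank ℂ (Fin n → ℂ) = 1 := by
      have e : L.toSubmodule = ⊤ := by rw [hL]; rfl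
      rw [← finrank_top ℂ (Fin n → ℂ), ← e]
      exact finrank_span_singleton hv0'
    rw [Representation.character, hone, LinearMap.trace_id, hdim, Nat.cast_one]
  have hle : Module.finrank ℂ U + Module.finrank ℂ W ≤ Module.finrank ℂ Z := by
    rw [← Submodule.finrank_sup_add_finrank_inf_eq, hUW, finrank_bot, add_zero]
    refine Submodule.finrank_mono (sup_le ?_ ?_)
    · exact fun v hv h => hv ⟨h, h.2.1⟩
    · exact fun v hv h => hv ⟨h, h.2.2⟩
  have : ((Module.finrank ℂ U + Module.finrank ℂ W : ℕ) : ℝ) ≤ (Module.finrank ℂ Z : ℝ) := by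
    exact_mod_cast hle
  push_cast at this
  linarith

end Cfsg.Agent.S0192
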