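import Cfsg.Statements.S0194
import Cfsg.Agent.Lib.Char.Clifford
import Cfsg.Agent.S0161

set_option autoImplicit false
open scoped ComplexConjugate
open Cfsg

namespace Cfsg.Agent.S0194

open Cfsg.Agent.Char

/-- Let G have odd order, H be a normal subgroup and θ a non-principal irreducible character of H. Then the function induced from θ is orthogonal to its complex conjugate. -/
theorem result {G : Type*} [Group G] [Fintype G] (hodd : Odd (Nat.card G)) (H : Subgroup G) [H.Normal] (θ : H → ℂ) (hθ : Cfsg.IsIrrCharacter H θ) (hθ1 : θ ≠ fun _ => 1) : Cfsg.classInner (fun g => conj (Cfsg.indFun H θ g)) (Cfsg.indFun H θ) = 0 := by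
  classical
  haveI := Fintype.ofFinite H
  have e : (fun g => (starRingEnd ℂ) (indFun H θ g)) = indFun H (fun h => (starRingEnd ℂ) (θ h)) :=
    funext fun g => (indFun_conj H θ g).symm
  rw [e, classInner_indFun_indFun, Finset.sum_eq_zero, mul_zero]
  intro x _
  refine classInner_irr_ne (IsIrr.conjN H (IsIrr.conj hθ) x) hθ fun hx => hθ1 ?_
  -- conjugation by x maps the conjugate character to θ
  have h2 : conjN H (x ^ 2) θ = θ := by
    have hx' : conjN H x θ = fun h => (starRingEnd ℂ) (θ h) := by
      funext h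
      have := congrFun hx h
      rw [← this, conjN_apply, conjN_apply, Complex.conj_conj]
    rw [pow_two, conjN_mul, hx']
    exact hx
  obtain ⟨m, hm⟩ := exists_pow_eq_self_of_coprime
    (Nat.coprime_two_left.mpr (hodd.of_dvd_nat (orderOf_dvd_natCard x)))
  have h3 : x ∈ inertia H θ := hm ▸ pow_mem ((mem_inertia H).mpr h2) m
  have h4 : conjN H x θ = θ := h3
  have hreal : ∀ h : H, (θ h).im = 0 := fun h => by
    have e1 := congrFun hx h
    rw [conjN_apply, show θ ⟨x * h * x⁻¹, _⟩ = θ h from congrFun h4 h] at e1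
    exact Complex.conj_eq_iff_im.mp e1
  exact Cfsg.Agent.S0161.result (hodd.of_dvd_nat H.card_subgroup_dvd_card) ⟨θ, hθ⟩ hreal

end Cfsg.Agent.S0194
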