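import Cfsg.Statements.S0195
import Cfsg.Agent.Lib.Char.Eigen

set_option autoImplicit false
open Cfsg

namespace Cfsg.Agent.S0195

open Cfsg.Agent.Char

/-- Let A be a subgroup of G that equals the centralizer of each of its non-identity elements. If g lies outside the normalizer of A, then the only element of A conjugated by g into A is the identity (A is a trivial-intersection set). -/
theorem result {G : Type*} [Group G] [Finite G] (A : Subgroup G) (hA : ∀ x ∈ A, x ≠ 1 → Subgroup.centralizer ({x} : Set G) = A) (g : G) (hg : g ∉ Subgroup.normalizer (A : Set G)) (x : G) (hx : x ∈ A) (hgx : g * x * g⁻¹ ∈ A) : x = 1 := by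
  have hnorm : ∀ (a : G), a ∈ A → a ≠ 1 → g * a * g⁻¹ ∈ A → A.map (MulAut.conj g).toMonoidHom = A := by
    intro a ha ha1 hga
    have h2 : g * a * g⁻¹ ≠ 1 := fun h => ha1 (conj_eq_one_iff.mp h)
    conv_rhs => rw [← hA _ hga h2]
    conv_lhs => rw [← hA a ha ha1]
    ext y
    constructor
    · rintro ⟨z, hz, rfl⟩
      have hz' : z * a = a * z := Subgroup.mem_centralizer_singleton_iff.mp hz
      apply Subgroup.mem_centralizer_singleton_iff.mpr
      calc g * z * g⁻¹ * (g * a * g⁻¹) = g * (z * a) * g⁻¹ := by group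
        _ = g * (a * z) * g⁻¹ := by rw [hz']
        _ = g * a * g⁻¹ * (g * z * g⁻¹) := by group
    · intro hy
      have hy' : y * (g * a * g⁻¹) = g * a * g⁻¹ * y := Subgroup.mem_centralizer_singleton_iff.mp hy
      refine ⟨g⁻¹ * y * g, Subgroup.mem_centralizer_singleton_iff.mpr ?_, by simp [mul_assoc]⟩
      calc g⁻¹ * y * g * a = g⁻¹ * (y * (g * a * g⁻¹)) * g := by group
        _ = g⁻¹ * (g * a * g⁻¹ * y) * g := by rw [hy']
        _ = a * (g⁻¹ * y * g) := by group
  by_contra hx1
  refine hg (Subgroup.mem_normalizer_iff.mpr fun y => ?_)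
  have hm := hnorm x hx hx1 hgx
  constructor
  · intro hy
    exact hm ▸ ⟨y, hy, rfl⟩
  · intro hy
    rw [← hm] at hy
    obtain ⟨z, hz, hzy⟩ := hy
    simpa [mul_assoc] using ((MulAut.conj g).injective hzy ▸ hz : y ∈ A)

end Cfsg.Agent.S0195
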