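import Cfsg.Statements.S0196
import Cfsg.Agent.Lib.Char.Complete

set_option autoImplicit false
open Cfsg

namespace Cfsg.Agent.S0196

open Cfsg.Agent.Char

/-- Let A be a subgroup of a finite group G that equals the centralizer of each of its non-identity elements, and let N be its normalizer. Then the index of A in N divides |A| − 1 (N/A permutes the non-identity elements of A in orbits of full length). -/
theorem result {G : Type*} [Group G] [Finite G] (A : Subgroup G) (hA : ∀ x ∈ A, x ≠ 1 → Subgroup.centralizer ({x} : Set G) = A) : (A.subgroupOf (Subgroup.normalizer (A : Set G))).index ∣ Nat.card A - 1 := by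
  classical
  by_cases hA1 : A = ⊥
  · subst hA1; simp
  set N := Subgroup.normalizer (A : Set G) with hN
  let X := {a : A // a ≠ 1}
  have hmem : ∀ (n : N) (a : A), (n : G) * a * (n : G)⁻¹ ∈ A := fun n a =>
    (Subgroup.mem_normalizer_iff.mp n.2 _).mp a.2
  let act : MulAction N X :=
    { smul := fun n a => ⟨⟨(n : G) * a.1 * (n : G)⁻¹, hmem n a.1⟩, fun e => a.2 (Subtype.ext (by
        simpa [mul_eq_one_iff_eq_inv] using congrArg Subtype.val e))⟩
      one_smul := fun a => Subtype.ext (Subtype.ext (by
        show ((1 : N) : G) * (a.1 : G) * ((1 : N) : G)⁻¹ = a.1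
        simp))
      mul_smul := fun m n a => Subtype.ext (Subtype.ext (by
        show ((m * n : N) : G) * (a.1 : G) * ((m * n : N) : G)⁻¹ =
          (m : G) * ((n : G) * (a.1 : G) * (n : G)⁻¹) * (m : G)⁻¹
        push_cast; group)) }
  have hst : ∀ a : X, MulAction.stabilizer N a = A.subgroupOf N := by
    intro a
    have hne : (a.1 : G) ≠ 1 := fun e => a.2 (Subtype.ext e)
    ext n
    rw [MulAction.mem_stabilizer_iff, Subgroup.mem_subgroupOf]
    conv_rhs => rw [← hA _ a.1.2 hne, Subgroup.mem_centralizer_singleton_iff]
    constructor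
    · intro h
      have h' : (n : G) * (a.1 : G) * (n : G)⁻¹ = a.1 := congrArg (fun z : X => (z.1 : G)) h
      exact mul_inv_eq_iff_eq_mul.mp h'
    · intro h
      exact Subtype.ext (Subtype.ext (mul_inv_eq_iff_eq_mul.mpr h))
  have hX : Nat.card X = Nat.card A - 1 := by
    have : Fintype A := Fintype.ofFinite _
    simp only [X, Nat.card_eq_fintype_card]
    rw [Fintype.card_subtype_compl, Fintype.card_subtype_eq]
  rw [← hX, Nat.card_congr (MulAction.selfEquivSigmaOrbitsQuotientStabilizer N X)]
  have : Fintype (Quotient (MulAction.orbitRel N X)) := Fintype.ofFinite _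
  rw [Nat.card_sigma]
  refine Finset.dvd_sum fun ω _ => ?_
  rw [hst, ← Subgroup.index_eq_card]

end Cfsg.Agent.S0196
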