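import Cfsg.Prelude
import Cfsg.Agent.Lib.Invol.GLTwoThreeCount
import Cfsg.Agent.Lib.Invol.PResidual
-- import your own Cfsg.Agent.* helpers here

set_option autoImplicit false
open Cfsg

open scoped Pointwise commutatorElement

namespace Cfsg.Agent.S0197

/-- If a finite simple group has an involution whose centralizer is isomorphic to the general linear group GL(2, 3), then the group has order 5616 or 7920. -/
theorem result {G : Type*} [Group G] [Finite G] [IsSimpleGroup G] (t : G) (ht : orderOf t = 2) (e : Subgroup.centralizer ({t} : Set G) ≃* Matrix.GeneralLinearGroup (Fin 2) (ZMod 3)) : Nat.card G = 5616 ∨ Nat.card G = 7920 := by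
  haveI : Fact (Nat.Prime 3) := ⟨Nat.prime_three⟩
  have h3 : 3 ∣ Nat.card ↥(Subgroup.centralizer ({t} : Set G)) := by
    rw [Nat.card_congr e.toEquiv, Invol.GL23.card_Q]; norm_num
  obtain ⟨c, hc⟩ := exists_prime_orderOf_dvd_card' (G := Subgroup.centralizer ({t} : Set G)) 3 h3
  rw [← Subgroup.orderOf_coe] at hc
  have hmem : (c : G) ∈ pResidual 2 G := Subgroup.subset_closure (show (orderOf (c : G)).Coprime 2 by
    rw [hc]; decide)
  refine Invol.GL23.natCard_of_centralizer ?_ ht e
  haveI : (pResidual 2 G).Normal := inferInstance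
  refine (IsSimpleGroup.eq_bot_or_eq_top_of_normal (pResidual 2 G) inferInstance).resolve_left fun hb => ?_
  rw [hb, Subgroup.mem_bot] at hmem
  rw [hmem, orderOf_one] at hc
  norm_num at hc

end Cfsg.Agent.S0197
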