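import Cfsg.Statements.S0198
import Cfsg.Agent.Lib.Char.Constituent

set_option autoImplicit false
open Cfsg

namespace Cfsg.Agent.S0198

open Cfsg.Agent.Char

/-- The isometry lemma behind exceptional characters. Let τ be a family of generalized characters of a finite group G indexed by Fin n, with τ i₀ = 0, every τ i vanishing at the identity, and inner products ⟨τ i, τ j⟩ = 2 if i = j and 1 otherwise for i, j ≠ i₀. Then there are a sign ε and pairwise distinct irreducible characters μ i with τ i = ε (μ i − μ i₀) for all i. -/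
theorem result {G : Type*} [Group G] [Fintype G] (n : ℕ) (i₀ : Fin n) (τ : Fin n → (G → ℂ)) (h0 : τ i₀ = 0) (hgen : ∀ i, Cfsg.IsGeneralizedCharacter G (τ i)) (hone : ∀ i, τ i 1 = 0) (hgram : ∀ i j, i ≠ i₀ → j ≠ i₀ → Cfsg.classInner (τ i) (τ j) = if i = j then 2 else 1) : ∃ ε : ℂ, (ε = 1 ∨ ε = -1) ∧ ∃ μ : Fin n → (G → ℂ), (∀ i, Cfsg.IsIrrCharacter G (μ i)) ∧ Function.Injective μ ∧ ∀ i, τ i = ε • (μ i - μ i₀) := by
  classical
  by_cases hn : ∀ i, i = i₀
  · refine ⟨1, .inl rfl, fun _ => fun _ => 1, fun _ => isIrr_one, fun i j _ => (hn i).trans (hn j).symm,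
      fun i => ?_⟩
    rw [hn i, h0]; simp
  push Not at hn
  obtain ⟨i₁, hi₁⟩ := hn
  choose φ ψ hφ hψ hne heq using fun (i : {i // i ≠ i₀}) =>
    IsGenChar.norm_two (hgen i.1) (by simpa using hgram i.1 i.1 i.2 i.2) (hone i.1)
  -- every two differences share exactly one member, on the same side
  have inner : ∀ i j : {i // i ≠ i₀}, i ≠ j →
      (if φ i = φ j then (1 : ℂ) else 0) + (if ψ i = ψ j then 1 else 0)
        - (if φ i = ψ j then 1 else 0) - (if ψ i = φ j then 1 else 0) = 1 := by
    intro i j hij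
    have h := hgram i.1 j.1 i.2 j.2
    rw [if_neg fun h => hij (Subtype.ext h), heq i, heq j, classInner_sub_left, classInner_sub_right,
      classInner_sub_right, classInner_irr_eq_ite (hφ i) (hφ j), classInner_irr_eq_ite (hφ i) (hψ j),
      classInner_irr_eq_ite (hψ i) (hφ j), classInner_irr_eq_ite (hψ i) (hψ j)] at h
    linear_combination h
  have step : ∀ i j : {i // i ≠ i₀}, i ≠ j →
      (ψ i = ψ j ∧ φ i ≠ φ j) ∨ (φ i = φ j ∧ ψ i ≠ ψ j) := by
    intro i j hij
    have h := inner i j hij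
    have := hne i
    have := hne j
    by_cases a : φ i = φ j <;> by_cases b : ψ i = ψ j
    · exfalso
      rw [if_pos a, if_pos b, if_neg (fun c => hne j (a.symm.trans c)),
        if_neg (fun d => hne i (a.trans d.symm))] at h
      norm_num at h
    · exact .inr ⟨a, b⟩
    · exact .inl ⟨b, a⟩
    · exfalso
      rw [if_neg a, if_neg b] at h
      by_cases c : φ i = ψ j <;> by_cases d : ψ i = φ j <;> norm_num [c, d] at h
  -- hence one member is common to all of them
  have common : (∀ i j : {i // i ≠ i₀}, ψ i = ψ j) ∨ (∀ i j : {i // i ≠ i₀}, φ i = φ j) := by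
    by_contra hc
    push Not at hc
    obtain ⟨⟨a, b, hab⟩, ⟨c, d, hcd⟩⟩ := hc
    have hab' : φ a = φ b := ((step a b fun h => hab (h ▸ rfl)).resolve_left fun h => hab h.1).1
    have hcd' : ψ c = ψ d := ((step c d fun h => hcd (h ▸ rfl)).resolve_right fun h => hcd h.1).1
    have key : ∀ u, φ u = φ a ∨ (ψ u = ψ a ∧ ψ u = ψ b) := by
      intro u
      by_cases h1 : u = a
      · exact .inl (h1 ▸ rfl)
      by_cases h2 : u = b
      · exact .inl (h2 ▸ hab'.symm)
      rcases step u a h1 with h3 | h3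
      · rcases step u b h2 with h4 | h4
        · exact .inr ⟨h3.1, h4.1⟩
        · exact .inl (h4.1.trans hab'.symm)
      · exact .inl h3.1
    have key' : ∀ u, φ u = φ a := fun u => (key u).resolve_right fun h => hab (h.1.symm.trans h.2)
    exact hcd ((key' c).trans (key' d).symm)
  rcases common with hB | hA
  · refine ⟨1, .inl rfl, fun i => if h : i = i₀ then ψ ⟨i₁, hi₁⟩ else φ ⟨i, h⟩, fun i => ?_,
      fun i j hij => ?_, fun i => ?_⟩
    · dsimp only
      split_ifs
      exacts [hψ _, hφ _]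
    · dsimp only at hij
      split_ifs at hij with h1 h2 h2
      · exact h1.trans h2.symm
      · exact absurd (hij.symm.trans (hB _ ⟨j, h2⟩)) (hne _)
      · exact absurd (hij.trans (hB _ ⟨i, h1⟩)) (hne _)
      · by_contra hne'
        have hne'' : (⟨i, h1⟩ : {i // i ≠ i₀}) ≠ ⟨j, h2⟩ := fun h => hne' (congrArg Subtype.val h)
        rcases step _ _ hne'' with h3 | h3
        · exact h3.2 hij
        · exact h3.2 (hB _ _)
    · dsimp only
      by_cases h : i = i₀
      · subst h; simp [h0]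
      · rw [one_smul, dif_neg h, dif_pos rfl, heq ⟨i, h⟩, hB ⟨i, h⟩ ⟨i₁, hi₁⟩]
  · refine ⟨-1, .inr rfl, fun i => if h : i = i₀ then φ ⟨i₁, hi₁⟩ else ψ ⟨i, h⟩, fun i => ?_,
      fun i j hij => ?_, fun i => ?_⟩
    · dsimp only
      split_ifs
      exacts [hφ _, hψ _]
    · dsimp only at hij
      split_ifs at hij with h1 h2 h2
      · exact h1.trans h2.symm
      · exact absurd ((hA ⟨j, h2⟩ _).trans hij) (hne _)
      · exact absurd ((hA ⟨i, h1⟩ _).trans hij.symm) (hne _)
      · by_contra hne'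
        have hne'' : (⟨i, h1⟩ : {i // i ≠ i₀}) ≠ ⟨j, h2⟩ := fun h => hne' (congrArg Subtype.val h)
        rcases step _ _ hne'' with h3 | h3
        · exact h3.2 (hA _ _)
        · exact h3.2 hij
    · dsimp only
      by_cases h : i = i₀
      · subst h; simp [h0]
      · rw [dif_neg h, dif_pos rfl, heq ⟨i, h⟩, hA ⟨i, h⟩ ⟨i₁, hi₁⟩]; simp

end Cfsg.Agent.S0198
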