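import Cfsg.Statements.S0203
import Mathlib
import Cfsg.Agent.Lib.Invol.KleinSylow
-- import your own Cfsg.Agent.* helpers here

set_option autoImplicit false
open Cfsg

namespace Cfsg.Agent.S0203

/-- If a Sylow 2-subgroup P of a finite group G is a Klein four-group, then G has three classes of involutions if and only if P has a normal complement in G. -/
theorem result {G : Type*} [Group G] [Finite G] (P : Sylow 2 G) (hP : IsKleinFour (P : Subgroup G)) : Nat.card {C : ConjClasses G // ∃ t : G, orderOf t = 2 ∧ ConjClasses.mk t = C} = 3 ↔ ∃ N : Subgroup G, N.Normal ∧ Subgroup.IsComplement' N (P : Subgroup G) := by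
  constructor
  · intro h3
    have hu : Invol.KleinUnfused P := by
      by_contra h
      have h1 : Nat.card (Invol.InvolClass G) = 1 := Invol.card_involClass_of_fused P hP h
      have h3' : Nat.card (Invol.InvolClass G) = 3 := h3
      omega
    have hle : Subgroup.normalizer (P : Set G) ≤ Subgroup.centralizer (P : Set G) := by
      intro n hn
      rw [Subgroup.mem_centralizer_iff]
      intro x hx
      have hmem : n * x * n⁻¹ ∈ P := (Subgroup.mem_normalizer_iff.mp hn x).mp hx
      exact (mul_inv_eq_iff_eq_mul.mp (hu x hx _ hmem (isConj_iff.mpr ⟨n, rfl⟩)).symm).symm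
    exact ⟨_, MonoidHom.normal_ker _, MonoidHom.ker_transferSylow_isComplement' P hle⟩
  · rintro ⟨N, hN, hc⟩
    refine Invol.card_involClass_of_unfused P hP (fun x hx y hy hxy => ?_)
    obtain ⟨g, rfl⟩ := isConj_iff.mp hxy
    obtain ⟨⟨⟨n, hn⟩, ⟨p, hp⟩⟩, rfl⟩ := hc.2 g
    change x = n * p * x * (n * p)⁻¹
    have hpx : p * x * p⁻¹ = x := by
      rw [Invol.klein_comm P hP hp hx, mul_inv_cancel_right]
    have hrw : n * p * x * (n * p)⁻¹ = n * x * n⁻¹ := by
      calc n * p * x * (n * p)⁻¹ = n * (p * x * p⁻¹) * n⁻¹ := by group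
        _ = n * x * n⁻¹ := by rw [hpx]
    have hy' : n * x * n⁻¹ ∈ (P : Subgroup G) := by
      have : n * p * x * (n * p)⁻¹ ∈ (P : Subgroup G) := hy
      rwa [hrw] at this
    rw [hrw]
    have hmem1 : n * x * n⁻¹ * x⁻¹ ∈ N := by
      have : n * x * n⁻¹ * x⁻¹ = n * (x * n⁻¹ * x⁻¹) := by group
      rw [this]
      exact mul_mem hn (hN.conj_mem _ (inv_mem hn) x)
    have hmem2 : n * x * n⁻¹ * x⁻¹ ∈ (P : Subgroup G) := mul_mem hy' (inv_mem hx)
    exact (mul_inv_eq_one.mp (Subgroup.disjoint_def.mp hc.disjoint hmem1 hmem2)).symm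

end Cfsg.Agent.S0203
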