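import Cfsg.Statements.S0209
import Mathlib
import Cfsg.Agent.Lib.Invol.Basic
-- import your own Cfsg.Agent.* helpers here

set_option autoImplicit false
open Cfsg

namespace Cfsg.Agent.S0209

/-- If x, y are involutions whose product has even order n, the element (xy)^(n/2) is an involution that commutes with x and with y. -/
theorem result {G : Type*} [Group G] [Finite G] (x y : G) (hx : orderOf x = 2) (hy : orderOf y = 2) (heven : Even (orderOf (x * y))) : orderOf ((x * y) ^ (orderOf (x * y) / 2)) = 2 ∧ Commute ((x * y) ^ (orderOf (x * y) / 2)) x ∧ Commute ((x * y) ^ (orderOf (x * y) / 2)) y := by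
  obtain ⟨m, hm⟩ := heven
  have hn : 0 < orderOf (x * y) := orderOf_pos _
  have hdiv : orderOf (x * y) / 2 = m := by omega
  have hz : orderOf ((x * y) ^ (orderOf (x * y) / 2)) = 2 := by
    rw [hdiv, orderOf_pow' _ (by omega : m ≠ 0), hm, Nat.gcd_eq_right ⟨2, by ring⟩]
    exact (by rw [← two_mul, Nat.mul_div_cancel _ (by omega : 0 < m)] : (m + m) / m = 2)
  refine ⟨hz, ?_, ?_⟩
  · have h := Invol.conj_mul_zpow_eq_inv hx hy (((orderOf (x * y) / 2 : ℕ)) : ℤ)
    rw [zpow_neg, zpow_natCast, Invol.inv_of_orderOf_two hz, mul_inv_eq_iff_eq_mul] at h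
    exact h.symm
  · have hy' : y = x * (x * y) := Invol.y_eq hx
    have h := Invol.conj_mul_zpow_eq_inv hx hy (((orderOf (x * y) / 2 : ℕ)) : ℤ)
    rw [zpow_neg, zpow_natCast, Invol.inv_of_orderOf_two hz, mul_inv_eq_iff_eq_mul] at h
    have h' : Commute ((x * y) ^ (orderOf (x * y) / 2)) (x * (x * y)) :=
      (Commute.mul_right h.symm (Commute.pow_self _ _))
    rw [← hy'] at h'
    exact h'

end Cfsg.Agent.S0209
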