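import Cfsg.Statements.S0210
import Mathlib
import Cfsg.Agent.Lib.Invol.Basic
-- import your own Cfsg.Agent.* helpers here

set_option autoImplicit false
open Cfsg

namespace Cfsg.Agent.S0210

/-- If x, y are involutions whose product has even order, no element of the subgroup generated by x and y conjugates x to y. -/
theorem result {G : Type*} [Group G] [Finite G] (x y : G) (hx : orderOf x = 2) (hy : orderOf y = 2) (heven : Even (orderOf (x * y))) (d : G) (hd : d ∈ Subgroup.closure ({x, y} : Set G)) : d * x * d⁻¹ ≠ y := by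
  intro h
  obtain ⟨k, hk⟩ := Invol.exists_conj_left_eq hx hy hd
  rw [hk] at h
  conv_rhs at h => rw [Invol.y_eq' hx hy]
  have h2 := mul_right_cancel h
  rw [← orderOf_dvd_sub_iff_zpow_eq_zpow] at h2
  obtain ⟨m, hm⟩ := heven
  rw [hm] at h2
  obtain ⟨c, hc⟩ := h2
  push_cast at hc
  have : (2 : ℤ) ∣ 1 := ⟨(m : ℤ) * c - k, by linear_combination hc⟩
  omega

end Cfsg.Agent.S0210
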