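import Cfsg.Statements.S0211
import Mathlib
import Cfsg.Agent.Lib.Invol.Basic
-- import your own Cfsg.Agent.* helpers here

set_option autoImplicit false
open Cfsg

namespace Cfsg.Agent.S0211

/-- Let x, y be involutions with xy of even order n and z = (xy)^(n/2). Then xz is conjugate to x by an element of the subgroup generated by x, y if and only if 4 divides n. -/
theorem result {G : Type*} [Group G] [Finite G] (x y : G) (hx : orderOf x = 2) (hy : orderOf y = 2) (heven : Even (orderOf (x * y))) : (∃ d ∈ Subgroup.closure ({x, y} : Set G), d * x * d⁻¹ = x * (x * y) ^ (orderOf (x * y) / 2)) ↔ 4 ∣ orderOf (x * y) := by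
  obtain ⟨m, hm⟩ := heven
  have hn : 0 < orderOf (x * y) := orderOf_pos _
  have hdiv : orderOf (x * y) / 2 = m := by omega
  rw [hdiv]
  have hzx : x * (x * y) ^ m = (x * y) ^ (-(m : ℤ)) * x := by
    rw [← Invol.mul_zpow_comm hx hy, zpow_natCast]
  rw [hzx]
  constructor
  · rintro ⟨d, hd, h⟩
    obtain ⟨k, hk⟩ := Invol.exists_conj_left_eq hx hy hd
    rw [hk] at h
    have h2 := mul_right_cancel h
    rw [← orderOf_dvd_sub_iff_zpow_eq_zpow, hm] at h2
    obtain ⟨c, hc⟩ := h2
    push_cast at hc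
    have he : (2 : ℤ) ∣ (m : ℤ) := ⟨(m : ℤ) * c - k, by linear_combination hc⟩
    omega
  · rintro ⟨j, hj⟩
    refine ⟨(x * y) ^ (-(j : ℤ)), Invol.zpow_mem_closure_pair _, ?_⟩
    rw [← zpow_neg, mul_assoc, Invol.mul_zpow_comm hx hy, neg_neg, ← mul_assoc, ← zpow_add]
    congr 2
    omega

end Cfsg.Agent.S0211
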