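import Cfsg.Statements.S0212
import Mathlib
import Cfsg.Agent.Lib.Invol.Basic
import Cfsg.Agent.S0238
-- import your own Cfsg.Agent.* helpers here

set_option autoImplicit false
open Cfsg

namespace Cfsg.Agent.S0212

/-- The Brauer–Fowler bound: if G is a finite simple group and t an involution of G whose centralizer has order n, then |G| ≤ (2n^2)!. -/
theorem result {G : Type*} [Group G] [Finite G] [IsSimpleGroup G] (t : G) (ht : orderOf t = 2) : Nat.card G ≤ Nat.factorial (2 * (Nat.card (Subgroup.centralizer ({t} : Set G))) ^ 2) := by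
  classical
  have := Fintype.ofFinite G
  set C := Subgroup.centralizer ({t} : Set G) with hC
  set n := Nat.card C with hn
  have hn0 : 0 < n := Nat.card_pos
  by_cases hZ : Subgroup.center G = ⊤
  · -- `G` is abelian, so the centralizer is everything
    have hCtop : C = ⊤ := by
      rw [eq_top_iff]
      intro g _
      exact Subgroup.mem_centralizer_singleton_iff.mpr (Subgroup.mem_center_iff.mp (hZ ▸ Subgroup.mem_top t) g)
    have hg : n = Nat.card G := by rw [hn, hCtop, Subgroup.card_top]
    rw [← hg]
    exact le_trans (by nlinarith) (Nat.self_le_factorial _)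
  have hZbot : Subgroup.center G = ⊥ :=
    ((IsSimpleGroup.eq_bot_or_eq_top_of_normal _ inferInstance).resolve_right hZ)
  set S : Finset G := Finset.univ.filter (fun x : G => orderOf x = 2) with hS
  set m := S.card with hm
  have hgnm : Nat.card G ≤ n * m := by
    rw [Subgroup.card_eq_card_quotient_mul_card_subgroup C, mul_comm, hm, ← Fintype.card_coe,
      ← Nat.card_eq_fintype_card]
    refine Nat.mul_le_mul_left _ ?_
    refine Nat.card_le_card_of_injective (fun q : G ⧸ C => (⟨Quotient.liftOn' q (fun g => g * t * g⁻¹)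
      (fun a b hab => ?_), ?_⟩ : S)) ?_
    · have h : a⁻¹ * b ∈ C := QuotientGroup.leftRel_apply.mp hab
      rw [hC, Subgroup.mem_centralizer_singleton_iff] at h
      calc a * t * a⁻¹ = a * (t * (a⁻¹ * b)) * b⁻¹ := by group
        _ = a * (a⁻¹ * b * t) * b⁻¹ := by rw [h]
        _ = b * t * b⁻¹ := by group
    · induction q using QuotientGroup.induction_on with | _ g => ?_
      exact Finset.mem_filter.mpr ⟨Finset.mem_univ _, (Invol.orderOf_conj_eq g t).trans ht⟩
    · intro q r hqr
      induction q using QuotientGroup.induction_on with | _ a => ?_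
      induction r using QuotientGroup.induction_on with | _ b => ?_
      have h : a * t * a⁻¹ = b * t * b⁻¹ := congrArg Subtype.val hqr
      rw [QuotientGroup.eq, hC, Subgroup.mem_centralizer_singleton_iff]
      calc a⁻¹ * b * t = a⁻¹ * (b * t * b⁻¹) * b := by group
        _ = a⁻¹ * (a * t * a⁻¹) * b := by rw [h]
        _ = t * (a⁻¹ * b) := by group
  -- `t` is not central, so there are at least two involutions
  have hm2 : 2 ≤ m := by
    obtain ⟨g, hg⟩ : ∃ g : G, g * t * g⁻¹ ≠ t := by
      by_contra h
      push Not at h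
      have : t ∈ Subgroup.center G := Subgroup.mem_center_iff.mpr fun g => mul_inv_eq_iff_eq_mul.mp (h g)
      rw [hZbot, Subgroup.mem_bot] at this
      exact Invol.ne_one_of_orderOf_two ht this
    exact Finset.one_lt_card.mpr ⟨_, Finset.mem_filter.mpr ⟨Finset.mem_univ _, (Invol.orderOf_conj_eq g t).trans ht⟩,
      t, Finset.mem_filter.mpr ⟨Finset.mem_univ _, ht⟩, hg⟩
  -- some nontrivial element has a large centralizer
  have hne : (Finset.univ.erase (1 : G)).Nonempty :=
    ⟨t, Finset.mem_erase.mpr ⟨Invol.ne_one_of_orderOf_two ht, Finset.mem_univ _⟩⟩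
  obtain ⟨x, hx, hmax⟩ := Finset.exists_max_image (Finset.univ.erase (1 : G))
    (fun y => Nat.card (Subgroup.centralizer ({y} : Set G))) hne
  have hx1 : x ≠ 1 := (Finset.mem_erase.mp hx).1
  set D := Subgroup.centralizer ({x} : Set G) with hD
  have hsum : m * m ≤ m + (Nat.card G - 1) * Nat.card D := by
    have h1 : (S ×ˢ S).card = ∑ y : G, ((S ×ˢ S).filter fun q => q.1 * q.2 = y).card :=
      Finset.card_eq_sum_card_fiberwise (fun q _ => Finset.mem_univ _)
    rw [Finset.card_product, ← Finset.add_sum_erase _ _ (Finset.mem_univ (1 : G))] at h1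
    rw [h1]
    refine Nat.add_le_add ?_ ?_
    · refine Finset.card_le_card_of_injOn Prod.fst
        (fun q hq => (Finset.mem_product.mp (Finset.mem_filter.mp hq).1).1) ?_
      intro a ha b hb hab
      have e1 := (Finset.mem_filter.mp ha).2
      have e2 := (Finset.mem_filter.mp hb).2
      refine Prod.ext hab (mul_left_cancel (a := a.1) ?_)
      rw [e1]
      conv_rhs => rw [hab]
      exact e2.symm
    · refine (Finset.sum_le_card_nsmul _ _ (Nat.card D) fun y hy => ?_).trans (le_of_eq ?_)
      · have := (S0238.result y).1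
        refine le_trans (le_of_eq ?_) (this.trans (hmax y hy))
        rw [Nat.card_eq_fintype_card, Fintype.card_subtype]
        congr 1
        ext q
        simp [hS, and_assoc]
      · rw [smul_eq_mul, Finset.card_erase_of_mem (Finset.mem_univ _), Finset.card_univ,
          ← Nat.card_eq_fintype_card]
  -- hence a subgroup of small index
  have hDtop : D ≠ ⊤ := by
    intro h
    have : x ∈ Subgroup.center G := Subgroup.mem_center_iff.mpr fun g =>
      Subgroup.mem_centralizer_singleton_iff.mp (h ▸ Subgroup.mem_top g : g ∈ D)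
    rw [hZbot, Subgroup.mem_bot] at this
    exact hx1 this
  have hidx : D.index ≤ 2 * n ^ 2 := by
    have hDg := D.card_mul_index
    have hD0 : 0 < Nat.card D := Nat.card_pos
    have hg0 : 0 < Nat.card G := Nat.card_pos
    by_contra hlt
    push Not at hlt
    have h2 : m * m ≤ 2 * (Nat.card G * Nat.card D) := by
      have : (Nat.card G - 1) * Nat.card D ≤ Nat.card G * Nat.card D := Nat.mul_le_mul_right _ (Nat.sub_le _ _)
      nlinarith
    have h3 : Nat.card G * Nat.card G ≤ n * n * (2 * (Nat.card G * Nat.card D)) :=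
      le_trans (Nat.mul_le_mul hgnm hgnm) (le_trans (le_of_eq (by ring)) (Nat.mul_le_mul_left _ h2))
    have h4 : Nat.card G ≤ 2 * n ^ 2 * Nat.card D :=
      Nat.le_of_mul_le_mul_left (le_trans h3 (le_of_eq (by ring))) hg0
    nlinarith
  have hcore : D.normalCore = ⊥ :=
    (IsSimpleGroup.eq_bot_or_eq_top_of_normal _ inferInstance).resolve_right
      fun h => hDtop (top_le_iff.mp (h.symm.le.trans D.normalCore_le))
  have hinj : Function.Injective (MulAction.toPermHom G (G ⧸ D)) := by
    rw [← MonoidHom.ker_eq_bot_iff, ← Subgroup.normalCore_eq_ker, hcore]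
  exact le_of_le_of_eq (calc Nat.card G ≤ Nat.card (Equiv.Perm (G ⧸ D)) := Nat.card_le_card_of_injective _ hinj
    _ = (Nat.card (G ⧸ D)).factorial := Nat.card_perm
    _ ≤ (2 * n ^ 2).factorial := Nat.factorial_le (by rw [← Subgroup.index_eq_card]; exact hidx)) (by rfl)

end Cfsg.Agent.S0212
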