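import Cfsg.Statements.S0216
import Mathlib
import Cfsg.Agent.Lib.Invol.Sylow
-- import your own Cfsg.Agent.* helpers here

set_option autoImplicit false
open Cfsg

namespace Cfsg.Agent.S0216

/-- For an involution u in a Sylow 2-subgroup P of a finite group G, the following are equivalent: no G-conjugate of u other than u lies in P; every commutator of u with an element of G has odd order. -/
theorem result {G : Type*} [Group G] [Finite G] (P : Sylow 2 G) (u : G) (hu : orderOf u = 2) (huP : u ∈ P) : (∀ g : G, g * u * g⁻¹ ∈ P → g * u * g⁻¹ = u) ↔ (∀ g : G, Odd (orderOf (u * g * u⁻¹ * g⁻¹))) := by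
  constructor
  · intro hiso g
    have hv : orderOf (g * u * g⁻¹) = 2 := by rw [Invol.orderOf_conj_eq, hu]
    have hcomm : u * g * u⁻¹ * g⁻¹ = u * (g * u * g⁻¹) := by
      rw [Invol.inv_of_orderOf_two hu]; group
    rw [hcomm]
    obtain ⟨a, b, hb, hab⟩ := Nat.exists_eq_two_pow_mul_odd (orderOf_pos (u * (g * u * g⁻¹))).ne'
    rcases Nat.eq_zero_or_pos a with rfl | ha
    · rw [hab]; simpa using hb
    · exfalso
      obtain ⟨d, -, hd, hord⟩ := Invol.exists_conj_two_part hu hv hab hb
      set w := (u * (g * u * g⁻¹)) ^ b with hw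
      have hv' : orderOf (u * w) = 2 := by rw [← hd, Invol.orderOf_conj_eq, hv]
      have hpq : orderOf (u * (u * w)) = 2 ^ a := by
        rw [← mul_assoc, Invol.mul_self_of_orderOf_two hu, one_mul, hord]
      have hQ := Invol.isPGroup_closure_pair hu hv' hpq
      have heq : d * (g * u * g⁻¹) * d⁻¹ = (d * g) * u * (d * g)⁻¹ := by group
      rw [heq] at hd
      have key := Invol.eq_of_isolated huP hiso hQ Invol.left_mem_closure_pair (g := d * g)
        (hd ▸ Invol.right_mem_closure_pair)
      rw [hd, mul_eq_left] at key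
      rw [key, orderOf_one] at hord
      exact (Nat.one_lt_two_pow ha.ne').ne hord
  · intro hodd g hg
    have hcomm : u * g * u⁻¹ * g⁻¹ = u * (g * u * g⁻¹) := by
      rw [Invol.inv_of_orderOf_two hu]; group
    have hmem : u * (g * u * g⁻¹) ∈ (P : Subgroup G) := mul_mem huP hg
    obtain ⟨k, hk⟩ := P.isPGroup' ⟨_, hmem⟩
    have hdvd : orderOf (u * (g * u * g⁻¹)) ∣ 2 ^ k :=
      orderOf_dvd_of_pow_eq_one (congrArg Subtype.val hk)
    have h1 : orderOf (u * (g * u * g⁻¹)) = 1 :=
      Nat.Coprime.eq_one_of_dvd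
        (Nat.Coprime.pow_right k (Nat.coprime_two_right.mpr (hcomm ▸ hodd g))) hdvd
    rw [orderOf_eq_one_iff, mul_eq_one_iff_eq_inv'] at h1
    rw [h1, Invol.inv_of_orderOf_two hu]

end Cfsg.Agent.S0216
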