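import Cfsg.Statements.S0218
import Mathlib
-- import your own Cfsg.Agent.* helpers here

set_option autoImplicit false
open Cfsg

namespace Cfsg.Agent.S0218

/-- The generalized quaternion group of order 2^(n+3) contains exactly one element of order 2. -/
theorem result (n : ℕ) : Nat.card {x : QuaternionGroup (2 ^ (n + 1)) // orderOf x = 2} = 1 := by
  have : NeZero (2 * 2 ^ (n + 1)) := ⟨by positivity⟩
  have : NeZero (2 ^ (n + 1)) := ⟨by positivity⟩
  rw [Nat.card_eq_one_iff_unique]
  have hm : orderOf (QuaternionGroup.a ((2 ^ (n + 1) : ℕ) : ZMod (2 * 2 ^ (n + 1)))) = 2 := by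
    rw [QuaternionGroup.orderOf_a, ZMod.val_cast_of_lt (by
      have : 0 < 2 ^ (n + 1) := by positivity
      omega), Nat.gcd_eq_right ⟨2, by ring⟩, Nat.mul_div_cancel _ (by positivity)]
  refine ⟨⟨?_⟩, ⟨⟨_, hm⟩⟩⟩
  suffices H : ∀ y : QuaternionGroup (2 ^ (n + 1)), orderOf y = 2 →
      y = QuaternionGroup.a ((2 ^ (n + 1) : ℕ) : ZMod (2 * 2 ^ (n + 1))) by
    rintro ⟨p, hp⟩ ⟨q, hq⟩
    exact Subtype.ext ((H p hp).trans (H q hq).symm)
  rintro (i | i) hi
  · have h2 := pow_orderOf_eq_one (QuaternionGroup.a i)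
    rw [hi, sq, QuaternionGroup.a_mul_a, QuaternionGroup.one_def, QuaternionGroup.a.injEq] at h2
    have hne : i ≠ 0 := by
      rintro rfl
      simp at hi
    have hlt := ZMod.val_lt i
    have h3 := congrArg ZMod.val h2
    rw [ZMod.val_add, ZMod.val_zero] at h3
    obtain ⟨c, hc⟩ := Nat.dvd_of_mod_eq_zero h3
    have h0 : i.val ≠ 0 := fun h => hne ((ZMod.val_eq_zero i).mp h)
    have hc1 : c = 1 := by
      rcases c with _ | _ | c
      · omega
      · rfl
      · exfalso
        nlinarith [hc, hlt]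
    subst hc1
    congr 1
    conv_lhs => rw [← ZMod.natCast_zmod_val i]
    congr 1
    omega
  · rw [QuaternionGroup.orderOf_xa] at hi
    omega

end Cfsg.Agent.S0218
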