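import Cfsg.Statements.S0220
import Mathlib
import Cfsg.Agent.Lib.Invol.Sylow
import Cfsg.Agent.S0219
-- import your own Cfsg.Agent.* helpers here

set_option autoImplicit false
open Cfsg

namespace Cfsg.Agent.S0220

/-- If x is an involution of a finite group G and a Sylow 2-subgroup of the centralizer of x is cyclic, then G has a subgroup of index 2; in particular G is not simple unless it has order 2. -/
theorem result {G : Type*} [Group G] [Finite G] (x : G) (hx : orderOf x = 2) (S : Sylow 2 ↥(Subgroup.centralizer ({x} : Set G))) (hS : IsCyclic (S : Subgroup ↥(Subgroup.centralizer ({x} : Set G)))) : ∃ H : Subgroup G, H.index = 2 := by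
  generalize hC : Subgroup.centralizer ({x} : Set G) = C at S hS
  have hxC : x ∈ C := hC ▸ Subgroup.mem_centralizer_singleton_iff.mpr rfl
  have hmemC : ∀ c : C, (c : G) * x = x * c :=
    fun c => Subgroup.mem_centralizer_singleton_iff.mp (hC.symm ▸ c.2)
  -- the involution lies in every Sylow 2-subgroup of its centralizer
  have hxS : (⟨x, hxC⟩ : C) ∈ S := by
    obtain ⟨g, hg⟩ := Invol.exists_conj_mem_sylow (p := 2) (n := 1)
      (x := (⟨x, hxC⟩ : C)) (by rw [Subgroup.orderOf_mk, hx, pow_one]) S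
    have : g * ⟨x, hxC⟩ * g⁻¹ = (⟨x, hxC⟩ : C) := by
      refine Subtype.ext ?_
      change (g : G) * x * (g : G)⁻¹ = x
      rw [hmemC, mul_inv_cancel_right]
    rwa [this] at hg
  obtain ⟨T, hT⟩ := (S.isPGroup'.map C.subtype).exists_le_sylow
  have heven : Even (Nat.card G) := by
    rw [even_iff_two_dvd, ← hx]
    exact orderOf_dvd_natCard x
  have hxT : x ∈ T := hT ⟨⟨x, hxC⟩, hxS, rfl⟩
  have : Nontrivial (T : Subgroup G) :=
    ⟨⟨⟨x, hxT⟩, 1, fun h => Invol.ne_one_of_orderOf_two hx (congrArg Subtype.val h)⟩⟩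
  have := T.isPGroup'.center_nontrivial
  obtain ⟨m, hm⟩ := (T.isPGroup'.to_subgroup (Subgroup.center (T : Subgroup G))).exists_card_eq
  have hm0 : m ≠ 0 := by
    rintro rfl
    have := Finite.one_lt_card (α := Subgroup.center (T : Subgroup G))
    simp [hm] at this
  obtain ⟨z, hz⟩ := exists_prime_orderOf_dvd_card' (G := Subgroup.center (T : Subgroup G)) 2
    (hm ▸ dvd_pow_self 2 hm0)
  have hzc : ∀ t : (T : Subgroup G), (t : G) * ((z : (T : Subgroup G)) : G) = ((z : (T : Subgroup G)) : G) * t :=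
    fun t => congrArg Subtype.val (Subgroup.mem_center_iff.mp z.2 t)
  have hz2 : orderOf ((z : (T : Subgroup G)) : G) = 2 := by
    rw [Subgroup.orderOf_coe, Subgroup.orderOf_coe, hz]
  have hzC : ((z : (T : Subgroup G)) : G) ∈ C :=
    hC ▸ Subgroup.mem_centralizer_singleton_iff.mpr (hzc ⟨x, hxT⟩).symm
  -- `z` centralises `S`, so lies in it, and equals `x`
  have hzS : (⟨_, hzC⟩ : C) ∈ S := by
    have hp : IsPGroup 2 (Subgroup.zpowers (⟨_, hzC⟩ : C)) :=
      Invol.isPGroup_zpowers (n := 1) (by rw [Subgroup.orderOf_mk, hz2, pow_one])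
    have hn : (⟨_, hzC⟩ : C) ∈ Subgroup.normalizer ((S : Subgroup C) : Set C) := by
      refine Subgroup.centralizer_le_normalizer _ (Subgroup.mem_centralizer_iff.mpr fun h hh => ?_)
      exact Subtype.ext (hzc ⟨(h : G), hT ⟨h, hh, rfl⟩⟩)
    have hle : Subgroup.zpowers (⟨_, hzC⟩ : C) ≤ S := by
      rw [← inf_eq_left, ← hp.inf_normalizer_sylow, inf_eq_left, Subgroup.zpowers_le]
      exact hn
    exact hle (Subgroup.mem_zpowers _)
  have := hS
  have hzx : ((z : (T : Subgroup G)) : G) = x := by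
    have h := Invol.involution_unique_of_isCyclic (G := (S : Subgroup C))
      (x := ⟨_, hzS⟩) (y := ⟨_, hxS⟩)
      (by rw [Subgroup.orderOf_mk, Subgroup.orderOf_mk, hz2])
      (by rw [Subgroup.orderOf_mk, Subgroup.orderOf_mk, hx])
    exact congrArg Subtype.val (congrArg Subtype.val h)
  have hTC : (T : Subgroup G) ≤ C := fun t ht => by
    rw [← hC, Subgroup.mem_centralizer_singleton_iff, ← hzx]
    exact hzc ⟨t, ht⟩
  have hTS : (T : Subgroup G).subgroupOf C = S :=
    S.is_maximal' (T.isPGroup'.comap_subtype) (fun c hc => hT ⟨c, hc, rfl⟩)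
  have hTcyc : IsCyclic (T : Subgroup G) :=
    ((Subgroup.subgroupOfEquivOfLe hTC).symm.trans (MulEquiv.subgroupCongr hTS)).isCyclic.mpr hS
  exact S0219.result heven T hTcyc

end Cfsg.Agent.S0220
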