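import Cfsg.Prelude
import Cfsg.Agent.S0111
import Cfsg.Agent.Lib.Invol.NormalFour
import Cfsg.Agent.Lib.Grp.Basic
import Cfsg.Agent.Lib.Grp.RankThreeFour
-- import your own Cfsg.Agent.* helpers here

set_option autoImplicit false
open Cfsg

open scoped Pointwise commutatorElement

namespace Cfsg.Agent.S0221

/-- Let G be a finite group with no subgroup of index 2 whose 2-rank is at least 3 (it contains an elementary abelian subgroup of order 8). Then the centralizer of every involution of G also contains an elementary abelian subgroup of order 8. -/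
theorem result {G : Type*} [Group G] [Finite G] (hno : ∀ H : Subgroup G, H.index ≠ 2) (hrank : ∃ E : Subgroup G, Nat.card E = 8 ∧ ∀ e ∈ E, e ^ 2 = 1) (x : G) (hx : orderOf x = 2) : ∃ E : Subgroup G, E ≤ Subgroup.centralizer ({x} : Set G) ∧ Nat.card E = 8 ∧ ∀ e ∈ E, e ^ 2 = 1 := by
  classical
  haveI : Fact (Nat.Prime 2) := ⟨Nat.prime_two⟩
  haveI : Fintype G := Fintype.ofFinite G
  -- conjugation transports the conclusion
  have htrans : ∀ (g y : G), g * x * g⁻¹ = y →
      (∃ E : Subgroup G, E ≤ Subgroup.centralizer ({y} : Set G) ∧ Nat.card E = 8 ∧ ∀ e ∈ E, e ^ 2 = 1) →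
      ∃ E : Subgroup G, E ≤ Subgroup.centralizer ({x} : Set G) ∧ Nat.card E = 8 ∧ ∀ e ∈ E, e ^ 2 = 1 := by
    intro g y hy ⟨E, hEc, hE8, hE2⟩
    refine ⟨E.map (MulAut.conj g⁻¹).toMonoidHom, ?_, ?_, ?_⟩
    · rintro _ ⟨e, he, rfl⟩
      have h := Subgroup.mem_centralizer_singleton_iff.mp (hEc he)
      subst hy
      rw [Subgroup.mem_centralizer_singleton_iff]
      simp only [MulEquiv.coe_toMonoidHom, MulAut.conj_apply, inv_inv]
      calc g⁻¹ * e * g * x = g⁻¹ * (e * (g * x * g⁻¹)) * g := by group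
        _ = g⁻¹ * ((g * x * g⁻¹) * e) * g := by rw [h]
        _ = _ := by group
    · rw [Subgroup.card_map_of_injective (MulAut.conj g⁻¹).injective, hE8]
    · rintro _ ⟨e, he, rfl⟩
      rw [← map_pow, hE2 e he, map_one]
  obtain ⟨E₀, hE₀, hE₀2⟩ := hrank
  obtain ⟨S, hS⟩ : ∃ S : Sylow 2 G, E₀ ≤ (S : Subgroup G) :=
    (IsPGroup.of_card (p := 2) (n := 3) hE₀).exists_le_sylow
  obtain ⟨U, hUn, hU4, hU2⟩ := Invol.NormalFour.exists_normal_four S.2 (E₀.subgroupOf S)
    (by rw [Nat.card_congr (Subgroup.subgroupOfEquivOfLe hS).toEquiv, hE₀])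
    (fun e he => Subtype.ext (hE₀2 _ he))
  haveI := hUn
  haveI : Fact (Nat.Prime 2) := ⟨Nat.prime_two⟩
  -- closing up: an elementary subgroup of order at least 8
  have hclose : ∀ (y : G) (A : Subgroup G), (∀ a ∈ A, a ^ 2 = 1) → A ≤ Subgroup.centralizer ({y} : Set G) →
      8 ≤ Nat.card A →
      ∃ E : Subgroup G, E ≤ Subgroup.centralizer ({y} : Set G) ∧ Nat.card E = 8 ∧ ∀ e ∈ E, e ^ 2 = 1 := by
    intro y A hA hAy h8
    have hAp : IsPGroup 2 A := fun a => ⟨1, Subtype.ext (by simpa using hA _ a.2)⟩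
    obtain ⟨L, -, hLA, hL⟩ := Transfer.RankTwo.exists_normal_card hAp (⊤ : Subgroup A) 3
      (by rw [Subgroup.card_top]; simpa using h8)
    refine ⟨L.map A.subtype, (Subgroup.map_subtype_le L).trans hAy, ?_, ?_⟩
    · rw [Subgroup.card_map_of_injective A.subtype_injective, hL]; norm_num
    · rintro _ ⟨a, -, rfl⟩; exact hA _ a.2
  obtain ⟨U', hU'⟩ : ∃ U', U' = U.map (S : Subgroup G).subtype := ⟨_, rfl⟩
  obtain ⟨T, hT⟩ : ∃ T, T = (S : Subgroup G) ⊓ Subgroup.centralizer (U' : Set G) := ⟨_, rfl⟩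
  have hU'S : U' ≤ (S : Subgroup G) := hU' ▸ Subgroup.map_subtype_le _
  have hU'2 : ∀ u ∈ U', u ^ 2 = 1 := by
    rw [hU']; rintro _ ⟨u, hu, rfl⟩; exact (congrArg Subtype.val (hU2 u hu) :)
  have hU'4 : Nat.card U' = 4 := by rw [hU', Subgroup.card_map_of_injective (S : Subgroup G).subtype_injective, hU4]
  have hU'ab : ∀ u ∈ U', ∀ v ∈ U', u * v = v * u := by
    intro u hu v hv
    have h := hU'2 _ (U'.mul_mem hu hv)
    rw [pow_two] at h
    have hi : ∀ w ∈ U', w⁻¹ = w := fun w hw => inv_eq_of_mul_eq_one_right (by rw [← pow_two]; exact hU'2 w hw)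
    rw [← inv_eq_of_mul_eq_one_right h, mul_inv_rev, hi u hu, hi v hv]
  have hU'T : U' ≤ T := hT ▸ le_inf hU'S fun u hu => Subgroup.mem_centralizer_iff.mpr fun v hv => hU'ab v hv u hu
  -- the index of `T` is at most two
  have hidx : T.relIndex (S : Subgroup G) ≤ 2 := by
    let C : Subgroup ↥(S : Subgroup G) := Subgroup.centralizer (U : Set ↥(S : Subgroup G))
    have hTC : T.subgroupOf (S : Subgroup G) = C := by
      ext s
      rw [Subgroup.mem_subgroupOf, hT, Subgroup.mem_inf, Subgroup.mem_centralizer_iff, Subgroup.mem_centralizer_iff]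
      constructor
      · exact fun h u hu => Subtype.ext (h.2 u (hU' ▸ ⟨u, hu, rfl⟩))
      · refine fun h => ⟨s.2, fun v hv => ?_⟩
        rw [SetLike.mem_coe, hU'] at hv
        obtain ⟨u, hu, rfl⟩ := hv
        exact (congrArg Subtype.val (h u hu) :)
    show (T.subgroupOf (S : Subgroup G)).index ≤ 2
    rw [hTC]
    haveI : IsMulCommutative U := ⟨⟨fun u v => Subtype.ext (Subtype.ext (hU'ab _ (hU' ▸ ⟨u, u.2, rfl⟩) _ (hU' ▸ ⟨v, v.2, rfl⟩)))⟩⟩
    exact Grp.RankThree.index_centralizer_le S.2 inferInstance (by rw [hU4]; norm_num)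
  -- every involution of `T` has a large centraliser
  have hTgood : ∀ y ∈ T, orderOf y = 2 →
      ∃ E : Subgroup G, E ≤ Subgroup.centralizer ({y} : Set G) ∧ Nat.card E = 8 ∧ ∀ e ∈ E, e ^ 2 = 1 := by
    intro y hy hyo
    have hyS : y ∈ (S : Subgroup G) := (hT ▸ hy).1
    have hyU : ∀ u ∈ U', u * y = y * u := Subgroup.mem_centralizer_iff.mp (hT ▸ hy).2
    have hy2 : y ^ 2 = 1 := hyo ▸ pow_orderOf_eq_one y
    -- general construction
    have hmk : ∀ W : Subgroup G, (∀ w ∈ W, w ^ 2 = 1) → (∀ w ∈ W, ∀ u ∈ U', u * w = w * u) → (∀ w ∈ W, y * w = w * y) →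
        ¬ W ≤ U' → ∃ E : Subgroup G, E ≤ Subgroup.centralizer ({y} : Set G) ∧ Nat.card E = 8 ∧ ∀ e ∈ E, e ^ 2 = 1 := by
      intro W hW hWU hWy hnle
      have hn : W ≤ Subgroup.normalizer (U' : Set G) := fun w hw => by
        refine Subgroup.mem_normalizer_fintype fun u hu => ?_
        rw [show w * u * w⁻¹ = u by rw [← hWU w hw u hu, mul_inv_cancel_right]]
        exact hu
      refine hclose y (U' ⊔ W) ?_ (sup_le (fun u hu => Subgroup.mem_centralizer_singleton_iff.mpr (hyU u hu))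
        fun w hw => Subgroup.mem_centralizer_singleton_iff.mpr (hWy w hw).symm) ?_
      · intro a ha
        rw [← SetLike.mem_coe, Subgroup.coe_mul_of_right_le_normalizer_left U' W hn] at ha
        obtain ⟨u, hu, w, hw, rfl⟩ := ha
        rw [(show Commute u w from hWU w hw u hu).mul_pow, hU'2 u hu, hW w hw, mul_one]
      · obtain ⟨k, hk⟩ := Subgroup.card_dvd_of_le (le_sup_left : U' ≤ U' ⊔ W)
        rw [hU'4] at hk
        have h0 : k ≠ 0 := fun e => Nat.card_pos.ne' (by rw [hk, e, mul_zero])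
        have h1 : k ≠ 1 := fun e => hnle (le_sup_right.trans
          (Subgroup.eq_of_le_of_card_ge (le_sup_left : U' ≤ U' ⊔ W) (by rw [hk, e, hU'4])).ge)
        omega
    by_cases hyU' : y ∈ U'
    swap
    · refine hmk (Subgroup.zpowers y) ?_ ?_ ?_ fun h => hyU' (h (Subgroup.mem_zpowers y))
      · intro w hw
        obtain ⟨j, rfl⟩ := Subgroup.mem_zpowers_iff.mp hw
        rw [← zpow_natCast, ← zpow_mul, mul_comm, zpow_mul, zpow_natCast, hy2, one_zpow]
      · intro w hw u hu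
        obtain ⟨j, rfl⟩ := Subgroup.mem_zpowers_iff.mp hw
        exact ((show Commute u y from hyU u hu).zpow_right j).eq
      · intro w hw
        obtain ⟨j, rfl⟩ := Subgroup.mem_zpowers_iff.mp hw
        exact ((Commute.refl y).zpow_right j).eq
    by_cases hcen : ∀ e ∈ E₀, e * y = y * e
    · exact ⟨E₀, fun e he => Subgroup.mem_centralizer_singleton_iff.mpr (hcen e he), hE₀, hE₀2⟩
    refine hmk (E₀ ⊓ T) (fun w hw => hE₀2 w hw.1)
      (fun w hw u hu => Subgroup.mem_centralizer_iff.mp (hT ▸ hw.2).2 u hu)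
      (fun w hw => Subgroup.mem_centralizer_iff.mp (hT ▸ hw.2).2 y hyU') fun h => hcen ?_
    have h4 : 4 ≤ Nat.card (E₀ ⊓ T : Subgroup G) := by
      have e1 := Grp.card_mul_relIndex (inf_le_left : E₀ ⊓ T ≤ E₀)
      have h3 : T.relIndex E₀ ≤ T.relIndex (S : Subgroup G) := Subgroup.relIndex_le_of_le_right hS
        (by rw [Subgroup.relIndex]; exact Subgroup.index_ne_zero_of_finite)
      rw [inf_comm, Subgroup.inf_relIndex_right, inf_comm, hE₀] at e1
      nlinarith [h3.trans hidx]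
    have heq : E₀ ⊓ T = U' := Subgroup.eq_of_le_of_card_ge h (hU'4 ▸ h4)
    intro e he
    have hyE : y ∈ E₀ := (heq.ge hyU').1
    have h := hE₀2 _ (E₀.mul_mem he hyE)
    rw [pow_two] at h
    have hi : ∀ w ∈ E₀, w⁻¹ = w := fun w hw => inv_eq_of_mul_eq_one_right (by rw [← pow_two]; exact hE₀2 w hw)
    rw [← inv_eq_of_mul_eq_one_right h, mul_inv_rev, hi e he, hi y hyE]
  -- move `x` into `T`
  obtain ⟨g, hg⟩ : ∃ g : G, g * x * g⁻¹ ∈ (S : Subgroup G) := by
    obtain ⟨R, hR⟩ := (IsPGroup.of_card (p := 2) (n := 1) (by rw [Nat.card_zpowers, hx]; norm_num) :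
      IsPGroup 2 (Subgroup.zpowers x)).exists_le_sylow
    obtain ⟨g, hg⟩ := MulAction.exists_smul_eq G R S
    refine ⟨g, ?_⟩
    rw [← hg, Sylow.coe_subgroup_smul]
    exact ⟨x, hR (Subgroup.mem_zpowers x), rfl⟩
  have hgo : orderOf (g * x * g⁻¹) = 2 := by
    rw [← hx]; exact orderOf_injective (MulAut.conj g).toMonoidHom (MulAut.conj g).injective x
  refine htrans g _ rfl ?_
  by_cases hgT : g * x * g⁻¹ ∈ T
  · exact hTgood _ hgT hgo
  have hTS : T ≤ (S : Subgroup G) := hT ▸ inf_le_left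
  have hi2 : T.relIndex (S : Subgroup G) = 2 := by
    have h0 : T.relIndex (S : Subgroup G) ≠ 0 := by rw [Subgroup.relIndex]; exact Subgroup.index_ne_zero_of_finite
    have h1 : T.relIndex (S : Subgroup G) ≠ 1 := fun e => hgT (Subgroup.relIndex_eq_one.mp e hg)
    omega
  rcases S0111.result S T hTS hi2 _ hgo hg hgT with ⟨M, -, hM, -⟩ | ⟨k, hk⟩
  · exact absurd hM (hno M)
  · have hko : orderOf (k * (g * x * g⁻¹) * k⁻¹) = 2 := by
      rw [← hgo]; exact orderOf_injective (MulAut.conj k).toMonoidHom (MulAut.conj k).injective _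
    obtain ⟨E, hEc, hE8, hE2⟩ := hTgood _ hk hko
    refine ⟨E.map (MulAut.conj k⁻¹).toMonoidHom, ?_, ?_, ?_⟩
    · rintro _ ⟨e, he, rfl⟩
      have h := Subgroup.mem_centralizer_singleton_iff.mp (hEc he)
      rw [Subgroup.mem_centralizer_singleton_iff]
      simp only [MulEquiv.coe_toMonoidHom, MulAut.conj_apply, inv_inv]
      calc k⁻¹ * e * k * (g * x * g⁻¹) = k⁻¹ * (e * (k * (g * x * g⁻¹) * k⁻¹)) * k := by group
        _ = k⁻¹ * ((k * (g * x * g⁻¹) * k⁻¹) * e) * k := by rw [h]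
        _ = _ := by group
    · rw [Subgroup.card_map_of_injective (MulAut.conj k⁻¹).injective, hE8]
    · rintro _ ⟨e, he, rfl⟩
      rw [← map_pow, hE2 e he, map_one]

end Cfsg.Agent.S0221
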