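import Cfsg.Statements.S0224
import Mathlib
import Cfsg.Agent.Lib.Invol.StronglyEmbedded
-- import your own Cfsg.Agent.* helpers here

set_option autoImplicit false
open Cfsg

namespace Cfsg.Agent.S0224

/-- Let H be a proper subgroup of even order of the finite group G. Then H is strongly embedded if and only if each involution of H fixes exactly one point (namely the coset H) in the action of G on the cosets of H. -/
theorem result {G : Type*} [Group G] [Finite G] (H : Subgroup G) (hH : H ≠ ⊤) (heven : Even (Nat.card H)) : Cfsg.IsStronglyEmbedded H ↔ ∀ t ∈ H, orderOf t = 2 → Nat.card {c : G ⧸ H // t • c = c} = 1 := by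
  rw [Invol.isStronglyEmbedded_iff hH heven]
  have hfix : ∀ t g : G, t • (g : G ⧸ H) = (g : G ⧸ H) ↔ g⁻¹ * t * g ∈ H := by
    intro t g
    rw [MulAction.Quotient.smul_coe, smul_eq_mul, eq_comm, QuotientGroup.eq, ← mul_assoc]
  constructor
  · intro h t ht ht2
    rw [Nat.card_eq_one_iff_unique]
    refine ⟨⟨?_⟩, ⟨⟨((1 : G) : G ⧸ H), (hfix t 1).mpr (by simpa using ht)⟩⟩⟩
    rintro ⟨c, hc⟩ ⟨c', hc'⟩
    induction c using QuotientGroup.induction_on with | _ g => ?_
    induction c' using QuotientGroup.induction_on with | _ g' => ?_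
    exact Subtype.ext (QuotientGroup.eq.mpr
      (mul_mem (inv_mem (h t ht ht2 g ((hfix t g).mp hc))) (h t ht ht2 g' ((hfix t g').mp hc'))))
  · intro h t ht ht2 g hg
    obtain ⟨hsub, -⟩ := Nat.card_eq_one_iff_unique.mp (h t ht ht2)
    have := @Subsingleton.elim _ hsub ⟨((1 : G) : G ⧸ H), (hfix t 1).mpr (by simpa using ht)⟩
      ⟨(g : G ⧸ H), (hfix t g).mpr hg⟩
    simpa using QuotientGroup.eq.mp (congrArg Subtype.val this)

end Cfsg.Agent.S0224
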