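import Cfsg.Statements.S0228
import Mathlib
import Cfsg.Agent.Lib.Invol.Sylow
-- import your own Cfsg.Agent.* helpers here

set_option autoImplicit false
open Cfsg

namespace Cfsg.Agent.S0228

/-- A group of order 12 in which no involution is central is isomorphic to the alternating group on four letters. -/
theorem result {G : Type*} [Group G] [Finite G] (hG : Nat.card G = 12) (hz : ∀ z : G, orderOf z = 2 → z ∉ Subgroup.center G) : Nonempty (G ≃* alternatingGroup (Fin 4)) := by
  classical
  have : Fact (Nat.Prime 3) := ⟨Nat.prime_three⟩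
  obtain ⟨P⟩ : Nonempty (Sylow 3 G) := inferInstance
  have hPcard : Nat.card (P : Subgroup G) = 3 := by
    obtain ⟨k, hk⟩ := P.isPGroup'.exists_card_eq
    have hd : 3 ^ k ∣ 12 := hG ▸ hk ▸ Subgroup.card_subgroup_dvd_card _
    have h3 : 3 ∣ 3 ^ k := hk ▸ P.dvd_card_of_dvd_card (hG ▸ (by norm_num))
    have hk2 : k ≤ 2 := by
      by_contra h
      have h27 := (pow_dvd_pow 3 (by omega : 3 ≤ k)).trans hd
      norm_num at h27
    rw [hk]
    interval_cases k <;> simp_all
  have hidx : (P : Subgroup G).index = 4 := by
    have := (P : Subgroup G).card_mul_index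
    rw [hPcard, hG] at this
    omega
  -- a Sylow 3-subgroup is not normal
  have hnorm : Subgroup.normalizer (P : Set G) = P := by
    have h1 := card_sylow_modEq_one 3 G
    have h2 : Nat.card (Sylow 3 G) ∣ 4 := hidx ▸ P.card_dvd_index
    have h3 := P.card_eq_index_normalizer
    have h4 : Nat.card (Sylow 3 G) = 1 ∨ Nat.card (Sylow 3 G) = 4 := by
      unfold Nat.ModEq at h1
      have := Nat.le_of_dvd (by norm_num) h2
      interval_cases h : Nat.card (Sylow 3 G) <;> omega
    rcases h4 with h4 | h4
    · exfalso
      rw [h4, eq_comm, Subgroup.index_eq_one] at h3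
      have hcyc : IsCyclic (P : Subgroup G) := isCyclic_of_prime_card hPcard
      have haut : Nat.card (MulAut (P : Subgroup G)) = 2 := by
        rw [hcyc.card_mulAut, hPcard]; rfl
      set φ := (P : Subgroup G).normalizerMonoidHom
      have hker := Subgroup.card_mul_index φ.ker
      rw [Subgroup.index_ker] at hker
      have hrange : Nat.card φ.range ∣ 2 := haut ▸ Subgroup.card_subgroup_dvd_card _
      have hN : Nat.card (Subgroup.normalizer (P : Set G)) = 12 := by
        rw [h3, Subgroup.card_top, hG]
      have ecoe : ((P : Subgroup G) : Set G) = (P : Set G) := rfl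
      simp only [ecoe] at hker
      rw [hN] at hker
      have hkev : Even (Nat.card φ.ker) := by
        rcases (Nat.dvd_prime Nat.prime_two).mp hrange with h | h <;> rw [h] at hker <;>
          [skip; skip] <;> rw [Nat.even_iff] <;> omega
      obtain ⟨z, hzk, hz2⟩ := Invol.exists_orderOf_two_mem hkev
      have hz2' : orderOf (z : G) = 2 := by rw [Subgroup.orderOf_coe, hz2]
      have hzP : (P : Subgroup G) ≤ Subgroup.centralizer ({(z : G)} : Set G) := by
        intro p hp
        rw [Subgroup.normalizerMonoidHom_ker] at hzk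
        exact Subgroup.mem_centralizer_singleton_iff.mpr (hzk p hp)
      obtain ⟨Q, hQ⟩ := (Invol.isPGroup_zpowers (p := 2) (n := 1)
        (by rw [hz2', pow_one] : orderOf (z : G) = 2 ^ 1)).exists_le_sylow
      have hQcard : Nat.card (Q : Subgroup G) = 2 ^ 2 := by
        have hd : 2 ^ 2 ∣ Nat.card (Q : Subgroup G) :=
          Q.pow_dvd_card_of_pow_dvd_card (hG ▸ (by norm_num))
        obtain ⟨k, hk⟩ := Q.isPGroup'.exists_card_eq
        have hd' : 2 ^ k ∣ 12 := hG ▸ hk ▸ Subgroup.card_subgroup_dvd_card _
        rw [hk] at hd ⊢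
        have hk2 : k ≤ 3 := by
          by_contra h
          have h16 := (pow_dvd_pow 2 (by omega : 4 ≤ k)).trans hd'
          norm_num at h16
        interval_cases k <;> simp_all
      have hQc := IsPGroup.isMulCommutative_of_card_eq_prime_sq hQcard
      have hzQ : (Q : Subgroup G) ≤ Subgroup.centralizer ({(z : G)} : Set G) := by
        intro q hq
        exact Subgroup.mem_centralizer_singleton_iff.mpr
          (congrArg Subtype.val (hQc.is_comm.comm ⟨q, hq⟩ ⟨z, hQ (Subgroup.mem_zpowers _)⟩))
      have h12 : 12 ∣ Nat.card (Subgroup.centralizer ({(z : G)} : Set G)) := by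
        have a := Subgroup.card_dvd_of_le hzP
        have b := Subgroup.card_dvd_of_le hzQ
        rw [hPcard] at a
        rw [hQcard] at b
        exact Nat.Coprime.mul_dvd_of_dvd_of_dvd (m := 3) (n := 4) (by norm_num) a b
      have htop : Subgroup.centralizer ({(z : G)} : Set G) = ⊤ :=
        Subgroup.eq_top_of_card_eq _ (Nat.dvd_antisymm (Subgroup.card_subgroup_dvd_card _) (hG ▸ h12))
      refine hz _ hz2' (Subgroup.mem_center_iff.mpr fun g => ?_)
      exact Subgroup.mem_centralizer_singleton_iff.mp (htop ▸ Subgroup.mem_top g)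
    · refine (Subgroup.eq_of_le_of_card_ge Subgroup.le_normalizer ?_).symm
      change Nat.card (Subgroup.normalizer (P : Set G)) ≤ _
      have := (Subgroup.normalizer (P : Set G)).card_mul_index
      rw [← h3, h4, hG] at this
      omega
  have hcard : Nat.card (Sylow 3 G) = 4 := by rw [P.card_eq_index_normalizer, hnorm, hidx]
  have := Fintype.ofFinite (Sylow 3 G)
  let φ := MulAction.toPermHom G (Sylow 3 G)
  have hinj : Function.Injective φ := by
    rw [← MonoidHom.ker_eq_bot_iff, ← Subgroup.card_eq_one]
    obtain ⟨Q, hQ⟩ : ∃ Q : Sylow 3 G, Q ≠ P := by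
      by_contra h
      push Not at h
      have hs : Subsingleton (Sylow 3 G) := ⟨fun A B => (h A).trans (h B).symm⟩
      have := Finite.card_le_one_iff_subsingleton.mpr hs
      omega
    have hle : ∀ R : Sylow 3 G, φ.ker ≤ R := by
      intro R
      obtain ⟨a, ha⟩ := MulAction.exists_smul_eq G P R
      intro k hk
      have hk' : a⁻¹ * k * a ∈ φ.ker := by
        simpa using (MonoidHom.normal_ker φ).conj_mem k hk a⁻¹
      have hfix : (a⁻¹ * k * a) • P = P := DFunLike.congr_fun (MonoidHom.mem_ker.mp hk') P
      rw [Sylow.smul_eq_iff_mem_normalizer] at hfix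
      have hm : a⁻¹ * k * a ∈ (P : Subgroup G) := hnorm ▸ hfix
      rw [← ha]
      have := Subgroup.smul_mem_pointwise_smul _ (MulAut.conj a) _ hm
      simp only [MulAut.smul_def, MulAut.conj_apply] at this
      open Pointwise in change k ∈ MulAut.conj a • (P : Subgroup G)
      simpa [mul_assoc] using this
    have hd := Subgroup.card_dvd_of_le (hle P)
    rw [hPcard] at hd
    refine ((Nat.dvd_prime Nat.prime_three).mp hd).resolve_right fun h3 => hQ ?_
    refine Sylow.ext ?_
    rw [← Subgroup.eq_of_le_of_card_ge (hle P) (by rw [h3, hPcard]),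
      Subgroup.eq_of_le_of_card_ge (hle Q) ((Nat.card_congr (Q.equiv P).toEquiv).trans (hPcard.trans h3.symm)).le]
  have : Nontrivial (Sylow 3 G) := Finite.one_lt_card_iff_nontrivial.mp (by omega)
  have hidx2 : φ.range.index = 2 := by
    have h := φ.range.card_mul_index
    rw [Nat.card_perm, hcard, ← Nat.card_congr (MonoidHom.ofInjective hinj).toEquiv, hG] at h
    simp [Nat.factorial] at h
    omega
  exact ⟨((MonoidHom.ofInjective hinj).trans (MulEquiv.subgroupCongr
    (Equiv.Perm.eq_alternatingGroup_of_index_eq_two hidx2))).trans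
      (Equiv.altCongrHom (Fintype.equivFinOfCardEq (by rw [← Nat.card_eq_fintype_card, hcard])))⟩

end Cfsg.Agent.S0228
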