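import Cfsg.Statements.S0229
import Mathlib
import Cfsg.Agent.Lib.Invol.Sylow
-- import your own Cfsg.Agent.* helpers here

set_option autoImplicit false
open Cfsg

namespace Cfsg.Agent.S0229

/-- Let t be an involution of a Sylow 2-subgroup S of a finite group G, conjugate in G to no other element of S, and let s be an involution of G not conjugate to t. Then the order of st is twice an odd number. -/
theorem result {G : Type*} [Group G] [Finite G] (S : Sylow 2 G) (t : G) (ht : orderOf t = 2) (htS : t ∈ S) (hiso : ∀ g : G, g * t * g⁻¹ ∈ S → g * t * g⁻¹ = t) (s : G) (hs : orderOf s = 2) (hns : ¬ IsConj s t) : orderOf (s * t) % 4 = 2 := by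
  have hst : orderOf (t * s) = orderOf (s * t) := by
    rw [← Invol.orderOf_conj_eq s (t * s)]
    congr 1
    group
  rw [← hst]
  obtain ⟨a, b, hb, hab⟩ := Nat.exists_eq_two_pow_mul_odd (orderOf_pos (t * s)).ne'
  obtain ⟨d, -, hd, hord⟩ := Invol.exists_conj_two_part ht hs hab hb
  rcases Nat.lt_or_ge a 2 with ha | ha
  · obtain ⟨j, hj⟩ := hb
    interval_cases a
    · exfalso
      rw [pow_zero] at hord
      rw [orderOf_eq_one_iff.mp hord, mul_one] at hd
      exact hns (isConj_iff.mpr ⟨d, hd⟩)
    · omega
  · exfalso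
    set w := (t * s) ^ b with hw
    have hv' : orderOf (t * w) = 2 := by rw [← hd, Invol.orderOf_conj_eq, hs]
    have hpq : orderOf (t * (t * w)) = 2 ^ a := by
      rw [← mul_assoc, Invol.mul_self_of_orderOf_two ht, one_mul, hord]
    have hQ := Invol.isPGroup_closure_pair ht hv' hpq
    have hwt : t * (t * w) = w := by
      rw [← mul_assoc, Invol.mul_self_of_orderOf_two ht, one_mul]
    have hwQ : w ∈ Subgroup.closure ({t, t * w} : Set G) := by
      have := mul_mem (Invol.left_mem_closure_pair (x := t) (y := t * w))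
        Invol.right_mem_closure_pair
      rwa [hwt] at this
    have key := Invol.eq_of_isolated htS hiso hQ Invol.left_mem_closure_pair (g := w)
      (mul_mem (mul_mem hwQ Invol.left_mem_closure_pair) (inv_mem hwQ))
    have hinv : t * w * t⁻¹ = w⁻¹ := by
      rw [hw, ← conj_pow, Invol.conj_mul_eq_inv ht hs, inv_pow]
    have h2 : w * w = 1 := by
      have hc : w * t = t * w := mul_inv_eq_iff_eq_mul.mp key
      rw [← hc, mul_inv_cancel_right] at hinv
      exact mul_eq_one_iff_eq_inv.mpr hinv
    have h5 : orderOf w ∣ 2 := orderOf_dvd_of_pow_eq_one (by rw [sq, h2])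
    rw [hord] at h5
    have h6 := Nat.le_of_dvd (by norm_num) h5
    have h7 : 2 ^ 2 ≤ 2 ^ a := Nat.pow_le_pow_right (by norm_num) ha
    omega

end Cfsg.Agent.S0229
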