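import Cfsg.Statements.S0230
import Cfsg.Agent.S1875
-- import your own Cfsg.Agent.* helpers here

set_option autoImplicit false
open Cfsg

namespace Cfsg.Agent.S0230

/-- Let G be a finite group with two non-conjugate involutions, and let t be an involution whose centralizer has maximal order among centralizers of involutions. Then |G| < |C_G(t)|^3. -/
theorem result {G : Type*} [Group G] [Finite G] (s t : G) (hs : orderOf s = 2) (ht : orderOf t = 2) (hnc : ¬ IsConj s t) (hmax : ∀ u : G, orderOf u = 2 → Nat.card (Subgroup.centralizer ({u} : Set G)) ≤ Nat.card (Subgroup.centralizer ({t} : Set G))) : Nat.card G < Nat.card (Subgroup.centralizer ({t} : Set G)) ^ 3 := by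
  classical
  have := Fintype.ofFinite G
  set m := Nat.card (Subgroup.centralizer ({t} : Set G)) with hm
  let C : G → Finset G := fun w => Finset.univ.filter fun x => x ∈ Subgroup.centralizer ({w} : Set G)
  have hC : ∀ w : G, orderOf w = 2 → ((C w).erase 1).card ≤ m - 1 := by
    intro w hw
    rw [Finset.card_erase_of_mem (by simp [C])]
    refine Nat.sub_le_sub_right ?_ 1
    have := hmax w hw
    rwa [Nat.card_eq_fintype_card (α := ↥(Subgroup.centralizer ({w} : Set G))), Fintype.card_subtype] at this
  have hsub : (Finset.univ.filter fun x => IsConj t x) ⊆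
      (((C s).erase 1).filter fun w => orderOf w = 2).biUnion fun w => (C w).erase 1 := by
    intro v hv
    have hv2 : orderOf v = 2 := (Invol.orderOf_eq_of_isConj (Finset.mem_filter.mp hv).2).symm.trans ht
    have he : Even (orderOf (s * v)) := Nat.not_odd_iff_even.mp fun ho =>
      hnc ((S1875.isConj_of_odd hs hv2 ho).trans (Finset.mem_filter.mp hv).2.symm)
    set k := orderOf (s * v) / 2
    have hw2 : orderOf ((s * v) ^ k) = 2 := S1875.orderOf_half he
    have hinv : ((s * v) ^ k)⁻¹ = (s * v) ^ k :=
      Invol.inv_of_orderOf_two hw2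
    have h1 : s * (s * v) ^ k = (s * v) ^ k * s := by
      have h2 := Invol.mul_zpow_comm hs hv2 (k : ℤ)
      rwa [zpow_natCast, zpow_neg, zpow_natCast, hinv] at h2
    have h3 : v * (s * v) ^ k = (s * v) ^ k * v := by
      have hv' : v = s * (s * v) := Invol.y_eq hs
      calc v * (s * v) ^ k = s * ((s * v) * (s * v) ^ k) := by rw [← mul_assoc, ← hv']
        _ = s * (s * v) ^ k * (s * v) := by rw [← pow_succ', pow_succ, mul_assoc]
        _ = (s * v) ^ k * (s * (s * v)) := by rw [h1, mul_assoc]
        _ = (s * v) ^ k * v := by rw [← hv']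
    refine Finset.mem_biUnion.mpr ⟨(s * v) ^ k, Finset.mem_filter.mpr ⟨Finset.mem_erase.mpr
      ⟨Invol.ne_one_of_orderOf_two hw2, ?_⟩, hw2⟩, Finset.mem_erase.mpr ⟨Invol.ne_one_of_orderOf_two hv2, ?_⟩⟩
    · simp only [C, Finset.mem_filter, Finset.mem_univ, true_and, Subgroup.mem_centralizer_singleton_iff]
      exact h1.symm
    · simp only [C, Finset.mem_filter, Finset.mem_univ, true_and, Subgroup.mem_centralizer_singleton_iff]
      exact h3
  have hidx : (Subgroup.centralizer ({t} : Set G)).index ≤ (m - 1) * (m - 1) := by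
    rw [← Char.card_conjClass_finset t]
    refine (Finset.card_le_card hsub).trans ((Finset.card_biUnion_le_card_mul _ _ (m - 1) ?_).trans ?_)
    · intro w hw
      exact hC w (Finset.mem_filter.mp hw).2
    · exact Nat.mul_le_mul_right _ ((Finset.card_filter_le _ _).trans (hC s hs))
  have h0 : 0 < m := Nat.card_pos
  calc Nat.card G = (Subgroup.centralizer ({t} : Set G)).index * m :=
        (Subgroup.centralizer ({t} : Set G)).index_mul_card.symm
    _ ≤ (m - 1) * (m - 1) * m := Nat.mul_le_mul_right _ hidx
    _ < m * m * m := by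
        refine Nat.mul_lt_mul_of_pos_right ?_ h0
        exact Nat.mul_lt_mul'' (by omega) (by omega)
    _ = m ^ 3 := by ring

end Cfsg.Agent.S0230
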