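import Cfsg.Statements.S0231
import Mathlib
import Cfsg.Agent.Lib.Invol.Sylow
-- import your own Cfsg.Agent.* helpers here

set_option autoImplicit false
open scoped Pointwise
open Cfsg

namespace Cfsg.Agent.S0231

/-- Let T be a Sylow 2-subgroup of the finite group G which is not normal and which intersects every other Sylow 2-subgroup trivially. Then G has a single conjugacy class of involutions. -/
theorem result {G : Type*} [Group G] [Finite G] (T : Sylow 2 G) (hnn : ¬ (T : Subgroup G).Normal) (hTI : ∀ g : G, MulAut.conj g • (T : Subgroup G) ≠ T → MulAut.conj g • (T : Subgroup G) ⊓ T = ⊥) (s t : G) (hs : orderOf s = 2) (ht : orderOf t = 2) : IsConj s t := by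
  -- two Sylow subgroups with a common nontrivial element coincide
  have hdisj : ∀ (P Q : Sylow 2 G) (z : G), z ∈ P → z ∈ Q → z ≠ 1 → P = Q := by
    intro P Q z hzP hzQ hz1
    by_contra hPQ
    obtain ⟨a, ha⟩ := MulAction.exists_smul_eq G Q T
    have hne : a • P ≠ T := fun h => hPQ (MulAction.injective a (h.trans ha.symm))
    obtain ⟨b, hb⟩ := MulAction.exists_smul_eq G T (a • P)
    have hb' : MulAut.conj b • (T : Subgroup G) = ((a • P : Sylow 2 G) : Subgroup G) := by
      rw [← hb]; rfl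
    have h := hTI b (fun h => hne (Sylow.ext (hb'.symm.trans h)))
    rw [hb'] at h
    have hmem : a * z * a⁻¹ ∈ ((a • P : Sylow 2 G) : Subgroup G) ⊓ T := by
      refine Subgroup.mem_inf.mpr ⟨?_, ?_⟩
      · exact Subgroup.smul_mem_pointwise_smul z (MulAut.conj a) _ hzP
      · rw [← ha]; exact Subgroup.smul_mem_pointwise_smul z (MulAut.conj a) _ hzQ
    rw [h, Subgroup.mem_bot] at hmem
    exact hz1 (by simpa using hmem)
  have hmem : ∀ u : G, orderOf u = 2 → ∃ P : Sylow 2 G, u ∈ P := fun u hu => by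
    obtain ⟨P, hP⟩ := (Invol.isPGroup_zpowers (p := 2) (n := 1)
      (by rw [hu, pow_one] : orderOf u = 2 ^ 1)).exists_le_sylow
    exact ⟨P, hP (Subgroup.mem_zpowers u)⟩
  have hcomm : ∀ (u v : G) (P Q : Sylow 2 G), orderOf u = 2 → orderOf v = 2 → Commute u v →
      u ∈ P → v ∈ Q → P = Q := by
    intro u v P Q hu hv huv hP hQ
    have h2 : orderOf (u * v) ∣ 2 ^ 1 := orderOf_dvd_of_pow_eq_one (by
      rw [pow_one, huv.mul_pow, sq, sq, Invol.mul_self_of_orderOf_two hu,
        Invol.mul_self_of_orderOf_two hv, one_mul])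
    obtain ⟨i, -, hi⟩ := (Nat.dvd_prime_pow Nat.prime_two).mp h2
    obtain ⟨R, hR⟩ := (Invol.isPGroup_closure_pair hu hv hi).exists_le_sylow
    rw [hdisj P R u hP (hR Invol.left_mem_closure_pair) (Invol.ne_one_of_orderOf_two hu),
      hdisj Q R v hQ (hR Invol.right_mem_closure_pair) (Invol.ne_one_of_orderOf_two hv)]
  -- non-conjugate involutions share their Sylow subgroup
  have hsame : ∀ (u v : G) (P Q : Sylow 2 G), orderOf u = 2 → orderOf v = 2 → ¬ IsConj u v →
      u ∈ P → v ∈ Q → P = Q := by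
    intro u v P Q hu hv hnc hP hQ
    rcases Nat.even_or_odd (orderOf (u * v)) with he | ho
    · obtain ⟨m, hm⟩ := he
      have hn := orderOf_pos (u * v)
      have hm0 : m ≠ 0 := by omega
      have hz : orderOf ((u * v) ^ m) = 2 := by
        rw [orderOf_pow' _ hm0, hm, ← two_mul, Nat.gcd_mul_left_left,
          Nat.mul_div_cancel _ (by omega)]
      obtain ⟨R, hR⟩ := hmem _ hz
      have hcu : Commute u ((u * v) ^ m) := by
        have h := Invol.conj_mul_zpow_eq_inv hu hv (m : ℤ)
        rw [zpow_neg, zpow_natCast, Invol.inv_of_orderOf_two hz, mul_inv_eq_iff_eq_mul] at h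
        exact h
      have hcv : Commute v ((u * v) ^ m) := by
        rw [Invol.y_eq (y := v) hu]
        have : u * (u * (u * v)) = u * v := by rw [← Invol.y_eq hu]
        rw [this]
        exact hcu.mul_left (Commute.self_pow _ _)
      rw [hcomm u _ P R hu hz hcu hP hR, hcomm v _ Q R hv hz hcv hQ hR]
    · exfalso
      obtain ⟨j, hj⟩ := ho
      obtain ⟨d, -, hd, hord⟩ :=
        Invol.exists_conj_two_part hu hv (a := 0) (b := orderOf (u * v)) (by simp) ⟨j, hj⟩
      rw [pow_orderOf_eq_one, mul_one] at hd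
      exact hnc (isConj_iff.mpr ⟨d, hd⟩).symm
  obtain ⟨P, hP⟩ := hmem s hs
  obtain ⟨Q, hQ⟩ := hmem t ht
  by_contra hnc
  obtain ⟨R, hRP⟩ : ∃ R : Sylow 2 G, R ≠ P := by
    by_contra h
    push Not at h
    have : Subsingleton (Sylow 2 G) := ⟨fun A B => (h A).trans (h B).symm⟩
    exact hnn T.normal_of_subsingleton
  obtain ⟨g, hg⟩ := MulAction.exists_smul_eq G Q R
  have htR : g * t * g⁻¹ ∈ R := by
    rw [← hg]; exact Subgroup.smul_mem_pointwise_smul t (MulAut.conj g) _ hQ
  have hc : IsConj t (g * t * g⁻¹) := isConj_iff.mpr ⟨g, rfl⟩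
  exact hRP (hsame s (g * t * g⁻¹) P R hs (by rw [Invol.orderOf_conj_eq, ht])
    (fun h => hnc (h.trans hc.symm)) hP htR).symm

end Cfsg.Agent.S0231
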