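import Cfsg.Statements.S0232
import Mathlib
import Cfsg.Agent.Lib.Grp.PowerCount
import Cfsg.Agent.Lib.Grp.Basic
-- import your own Cfsg.Agent.* helpers here

set_option autoImplicit false
open Cfsg

namespace Cfsg.Agent.S0232

universe w

theorem brauer_fowler_core {G : Type w} [Group G] [Finite G] (hZ : Subgroup.center G = ⊥)
    (t : G) (ht : orderOf t = 2) :
    ∃ H : Subgroup G, H ≠ ⊤ ∧ Nat.card G < (Nat.card H) ^ 3 := by
  classical
  haveI := Fintype.ofFinite G
  have ht1 : t ≠ 1 := fun h => by rw [h, orderOf_one] at ht; omega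
  have hproper : ∀ x : G, x ≠ 1 → Subgroup.centralizer ({x} : Set G) ≠ ⊤ := by
    intro x hx h
    refine hx ?_
    rw [← Subgroup.mem_bot, ← hZ, Subgroup.mem_center_iff]
    intro g
    exact Subgroup.mem_centralizer_singleton_iff.1 (h ▸ Subgroup.mem_top g)
  obtain ⟨x, hx, hmax⟩ := Finset.exists_max_image (Finset.univ.erase (1 : G))
    (fun y => Nat.card (Subgroup.centralizer ({y} : Set G)))
    ⟨t, Finset.mem_erase.2 ⟨ht1, Finset.mem_univ _⟩⟩
  set H := Subgroup.centralizer ({x} : Set G) with hH
  refine ⟨H, hproper x (Finset.mem_erase.1 hx).1, ?_⟩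
  set k := Nat.card H with hk
  have hmax' : ∀ y : G, y ≠ 1 → Nat.card (Subgroup.centralizer ({y} : Set G)) ≤ k := fun y hy =>
    hmax y (Finset.mem_erase.2 ⟨hy, Finset.mem_univ _⟩)
  by_contra hcon
  push_neg at hcon
  set S : Finset G := Finset.univ.filter (fun y : G => orderOf y = 2) with hS
  set m := S.card with hm
  set C := Subgroup.centralizer ({t} : Set G) with hC
  -- the class of `t`
  have hnm : Nat.card G ≤ Nat.card C * m := by
    rw [Subgroup.card_eq_card_quotient_mul_card_subgroup C, mul_comm, hm]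
    refine Nat.mul_le_mul_left _ ?_
    have e : C.index = Nat.card {y : G // IsConj t y} := (Cfsg.Agent.Char.card_conjClass t).symm
    rw [show Nat.card (G ⧸ C) = C.index from rfl, e, Nat.card_eq_fintype_card, Fintype.card_subtype]
    refine Finset.card_le_card fun y hy => ?_
    obtain ⟨g, hg⟩ := isConj_iff.1 (Finset.mem_filter.1 hy).2
    refine Finset.mem_filter.2 ⟨Finset.mem_univ _, ?_⟩
    rw [← hg, show g * t * g⁻¹ = MulAut.conj g t from rfl, MulEquiv.orderOf_eq, ht]
  have hSS : ∀ a ∈ S, a * a = 1 := fun a ha => by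
    rw [← pow_two, ← (Finset.mem_filter.1 ha).2, pow_orderOf_eq_one]
  have hsum : m * m ≤ m + (Nat.card G - 1) * k := by
    have h1 : (S ×ˢ S).card = ∑ y : G, ((S ×ˢ S).filter fun q => q.1 * q.2 = y).card :=
      Finset.card_eq_sum_card_fiberwise (fun q _ => Finset.mem_univ _)
    rw [Finset.card_product, ← Finset.add_sum_erase _ _ (Finset.mem_univ (1 : G))] at h1
    rw [h1]
    refine Nat.add_le_add ?_ ?_
    · refine (Finset.card_le_card_of_injOn (fun q => q.1) (fun q hq => (Finset.mem_product.1
        (Finset.mem_filter.1 hq).1).1) ?_)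
      rintro ⟨a, b⟩ hab ⟨c, d⟩ hcd h
      simp only at h
      subst h
      have e1 := (Finset.mem_filter.1 hab).2
      have e2 := (Finset.mem_filter.1 hcd).2
      rw [Prod.mk.injEq]
      exact ⟨rfl, mul_left_cancel (e1.trans e2.symm)⟩
    · refine (Finset.sum_le_card_nsmul _ _ k fun y hy => ?_).trans_eq ?_
      · have hy1 : y ≠ 1 := (Finset.mem_erase.1 hy).1
        set F := (S ×ˢ S).filter fun q => q.1 * q.2 = y
        by_cases hne : F.Nonempty
        swap
        · rw [Finset.not_nonempty_iff_eq_empty.1 hne]; simp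
        obtain ⟨⟨a₀, b₀⟩, h₀⟩ := hne
        refine le_trans ?_ (hmax' y hy1)
        rw [Nat.card_eq_fintype_card, Fintype.card_subtype]
        refine Finset.card_le_card_of_injOn (fun q => a₀ * q.1) ?_ ?_
        · rintro ⟨a, b⟩ hab
          refine Finset.mem_filter.2 ⟨Finset.mem_univ _, ?_⟩
          rw [Subgroup.mem_centralizer_singleton_iff]
          have inv : ∀ a b : G, (a, b) ∈ F → a * y * a = y⁻¹ ∧ a * a = 1 := by
            intro a b hab
            obtain ⟨hm', he⟩ := Finset.mem_filter.1 hab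
            obtain ⟨ha, hb⟩ := Finset.mem_product.1 hm'
            refine ⟨?_, hSS a ha⟩
            rw [← he, mul_inv_rev, inv_eq_of_mul_eq_one_right (hSS b hb),
              inv_eq_of_mul_eq_one_right (hSS a ha), ← mul_assoc a a b, hSS a ha, one_mul]
          obtain ⟨i1, j1⟩ := inv a b hab
          obtain ⟨i0, j0⟩ := inv a₀ b₀ h₀
          have k1 : a * y = y⁻¹ * a := by
            calc a * y = a * y * (a * a) := by rw [j1, mul_one]
              _ = (a * y * a) * a := by group
              _ = y⁻¹ * a := by rw [i1]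
          have k0 : a₀ * y⁻¹ = y * a₀ := by
            calc a₀ * y⁻¹ = a₀ * (a₀ * y * a₀) := by rw [i0]
              _ = (a₀ * a₀) * y * a₀ := by group
              _ = y * a₀ := by rw [j0, one_mul]
          calc a₀ * a * y = a₀ * (a * y) := by group
            _ = (a₀ * y⁻¹) * a := by rw [k1]; group
            _ = y * (a₀ * a) := by rw [k0]; group
        · rintro ⟨a, b⟩ hab ⟨c, d⟩ hcd h
          have hac : a = c := mul_left_cancel h
          subst hac
          have e1 := (Finset.mem_filter.1 hab).2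
          have e2 := (Finset.mem_filter.1 hcd).2
          rw [Prod.mk.injEq]
          exact ⟨rfl, mul_left_cancel (e1.trans e2.symm)⟩
      · rw [Finset.card_erase_of_mem (Finset.mem_univ _), smul_eq_mul, Finset.card_univ,
          ← Nat.card_eq_fintype_card]
  have hCk : Nat.card C ≤ k := hmax' t ht1
  have heven : 2 ∣ Nat.card C := by
    have := Subgroup.orderOf_dvd_natCard C (Subgroup.mem_centralizer_singleton_iff.2 rfl : t ∈ C)
    rwa [ht] at this
  have hk0 : 0 < k := Nat.card_pos
  -- the number of involutions is odd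
  have hodd : m % 2 = 1 := by
    have h2 : 2 ∣ Nat.card G := heven.trans (Subgroup.card_subgroup_dvd_card C)
    have hd := Cfsg.Agent.Grp.PowCount.dvd_card_sol _ G rfl 2 h2
    have e : Nat.card {g : G // g ^ 2 = 1} = m + 1 := by
      rw [Nat.card_eq_fintype_card, Fintype.card_subtype, hm]
      have : (Finset.univ.filter fun g : G => g ^ 2 = 1) = insert 1 S := by
        ext g
        simp only [hS, Finset.mem_filter, Finset.mem_univ, true_and, Finset.mem_insert]
        rw [← orderOf_dvd_iff_pow_eq_one, Nat.dvd_prime Nat.prime_two, orderOf_eq_one_iff]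
      rw [this, Finset.card_insert_of_notMem (by simp [hS])]
    omega
  have hg0 : 0 < Nat.card G := Nat.card_pos
  have hmk : k ^ 2 ≤ m := by nlinarith
  have hmk2 : m ≤ k ^ 2 := by
    obtain ⟨g', hg'⟩ : ∃ g', Nat.card G = g' + 1 := ⟨Nat.card G - 1, by omega⟩
    rw [hg', Nat.add_sub_cancel] at hsum
    by_contra hlt
    push_neg at hlt
    have h1 : g' + 1 ≤ k * m := (hg' ▸ hnm).trans (Nat.mul_le_mul_right m hCk)
    have h2 : (g' + 1) * k ≤ k * m * k := Nat.mul_le_mul_right k h1
    have h3 : (k ^ 2 + 1) * m ≤ m * m := Nat.mul_le_mul_right m hlt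
    nlinarith
  have hmeq : m = k ^ 2 := le_antisymm hmk2 hmk
  have hCeq : Nat.card C = k := by
    refine le_antisymm hCk ?_
    by_contra hlt
    push_neg at hlt
    nlinarith
  rw [hCeq] at heven
  obtain ⟨j, hj⟩ := heven
  rw [hmeq, hj, pow_two, show 2 * j * (2 * j) = 2 * (2 * j * j) by ring, Nat.mul_mod_right] at hodd
  omega

theorem brauer_fowler : ∀ (n : ℕ) {G : Type w} [Group G] [Finite G], Nat.card G = n →
    Even (Nat.card G) → 2 < Nat.card G →
    ∃ H : Subgroup G, H ≠ ⊤ ∧ Nat.card G < (Nat.card H) ^ 3 := by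
  intro n
  induction n using Nat.strong_induction_on with
  | _ n IH =>
  intro G _ _ hcard heven hgt
  by_cases hZ : Subgroup.center G = ⊥
  · obtain ⟨t, ht⟩ := exists_prime_orderOf_dvd_card' (G := G) 2 (even_iff_two_dvd.1 heven)
    exact brauer_fowler_core hZ t ht
  have hne : Nat.card (Subgroup.center G) ≠ 1 := fun h => hZ (Subgroup.card_eq_one.1 h)
  obtain ⟨p, hp, hpd⟩ := Nat.exists_prime_and_dvd hne
  haveI := Fact.mk hp
  obtain ⟨z, hz⟩ := exists_prime_orderOf_dvd_card' (G := Subgroup.center G) p hpd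
  set N := Subgroup.zpowers (z : G) with hN
  have hNc : Nat.card N = p := by rw [hN, Nat.card_zpowers, Subgroup.orderOf_coe, hz]
  haveI : N.Normal := ⟨fun x hx g => by
    have : x ∈ Subgroup.center G := Subgroup.zpowers_le.mpr z.2 hx
    rw [Subgroup.mem_center_iff] at this
    rw [this g, mul_inv_cancel_right]
    exact hx⟩
  have hN0 : N ≠ ⊥ := fun h => hp.ne_one (by rw [← hNc, h, Subgroup.card_bot])
  have hGN : Nat.card G = Nat.card (G ⧸ N) * p := by
    rw [Subgroup.card_eq_card_quotient_mul_card_subgroup N, hNc]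
  have hp2 := hp.two_le
  by_cases hq : Nat.card (G ⧸ N) = 2
  · refine ⟨N, fun h => ?_, ?_⟩
    · rw [h, Subgroup.card_top] at hNc
      rw [hq] at hGN
      omega
    · rw [hGN, hq, hNc]
      rw [pow_succ, pow_two]
      refine Nat.mul_lt_mul_of_pos_right ?_ hp.pos
      nlinarith
  by_cases hqe : Even (Nat.card (G ⧸ N))
  · have hq2 : 2 < Nat.card (G ⧸ N) := by
      obtain ⟨r, hr⟩ := hqe
      have := Nat.card_pos (α := G ⧸ N)
      omega
    obtain ⟨H, hH, hlt⟩ := IH _ (hcard ▸ Cfsg.Agent.Grp.card_quotient_lt hN0) rfl hqe hq2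
    refine ⟨H.comap (QuotientGroup.mk' N), fun h => hH ?_, ?_⟩
    · rw [← Subgroup.map_comap_eq_self_of_surjective (QuotientGroup.mk'_surjective N) H, h,
        Subgroup.map_top_of_surjective _ (QuotientGroup.mk'_surjective N)]
    · have e : Nat.card (H.comap (QuotientGroup.mk' N)) = Nat.card H * p := by
        have e1 := Subgroup.card_mul_index (H.comap (QuotientGroup.mk' N))
        rw [Subgroup.index_comap_of_surjective _ (QuotientGroup.mk'_surjective N), hGN,
          ← H.card_mul_index] at e1
        exact Nat.eq_of_mul_eq_mul_right (Nat.pos_of_ne_zero Subgroup.index_ne_zero_of_finite)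
          (e1.trans (by ring))
      rw [e, hGN, mul_pow]
      calc Nat.card (G ⧸ N) * p < Nat.card H ^ 3 * p := Nat.mul_lt_mul_of_pos_right hlt hp.pos
        _ ≤ Nat.card H ^ 3 * p ^ 3 := Nat.mul_le_mul_left _ (Nat.le_self_pow (by norm_num) p)
  · -- then `p = 2` and there is a subgroup of index two
    have hp2' : p = 2 := by
      rw [hGN, Nat.even_mul] at heven
      exact hp.even_iff.1 (heven.resolve_left hqe)
    subst hp2'
    have hcop : (Nat.card N).Coprime N.index := by
      rw [hNc]
      exact Nat.prime_two.coprime_iff_not_dvd.2 fun h => hqe (even_iff_two_dvd.2 h)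
    obtain ⟨X, hX⟩ := Subgroup.exists_right_complement'_of_coprime hcop
    have hXc : Nat.card X = Nat.card (G ⧸ N) := hX.symm.index_eq_card.symm
    refine ⟨X, fun h => ?_, ?_⟩
    · rw [h, Subgroup.card_top, hGN] at hXc
      have := Nat.card_pos (α := G ⧸ N)
      omega
    · rw [hXc, hGN]
      have hM : 2 < Nat.card (G ⧸ N) := by
        rw [hGN] at hgt
        rw [Nat.not_even_iff_odd] at hqe
        obtain ⟨r, hr⟩ := hqe
        omega
      rw [pow_succ, pow_two]
      nlinarith [Nat.mul_le_mul hM.le hM.le]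

/-- A finite group G of even order greater than 2 has a proper subgroup H with |G| < |H|^3. -/
theorem result {G : Type*} [Group G] [Finite G] (heven : Even (Nat.card G)) (hgt : 2 < Nat.card G) : ∃ H : Subgroup G, H ≠ ⊤ ∧ Nat.card G < (Nat.card H) ^ 3 := by
  exact brauer_fowler _ rfl heven hgt

end Cfsg.Agent.S0232
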