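import Cfsg.Statements.S0233
import Mathlib
-- import your own Cfsg.Agent.* helpers here

set_option autoImplicit false
open Cfsg

namespace Cfsg.Agent.S0233

set_option linter.style.haveILetI false
set_option linter.unusedSimpArgs false

universe w

theorem main {G : Type w} [Group G] [Finite G] (heven : Even (Nat.card G))
    (hZ : Odd (Nat.card (Subgroup.center G))) : ∃ H : Subgroup G, H ≠ ⊤ ∧ (H.index = 2 ∨
      2 * H.index * (Nat.card {t : G // orderOf t = 2}) ^ 2 <
        Nat.card G * (Nat.card G + Nat.card {t : G // orderOf t = 2})) := by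
  classical
  haveI := Fintype.ofFinite G
  haveI := Fact.mk Nat.prime_two
  by_contra hno
  push Not at hno
  set I : Finset G := Finset.univ.filter fun t => orderOf t = 2 with hI
  have hnI : Nat.card {t : G // orderOf t = 2} = I.card := by
    rw [Nat.card_eq_fintype_card, Fintype.card_subtype]
  rw [hnI] at hno
  set n := I.card with hn
  set g := Nat.card G with hg
  have hn0 : 0 < n := by
    obtain ⟨t, ht⟩ := exists_prime_orderOf_dvd_card' (G := G) 2 (even_iff_two_dvd.1 heven)
    exact Finset.card_pos.2 ⟨t, by simp [hI, ht]⟩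
  have hsq : ∀ t ∈ I, t * t = 1 ∧ t ≠ 1 := by
    intro t ht
    have h2 : orderOf t = 2 := by simpa [hI] using ht
    exact ⟨by rw [← pow_two, ← h2, pow_orderOf_eq_one], fun e => by simp [e] at h2⟩
  let fib : G → Finset G := fun x => I.filter fun s => s * x ∈ I
  have htot : n * n = ∑ x : G, (fib x).card := by
    rw [← Finset.card_product,
      Finset.card_eq_sum_card_fiberwise (f := fun p : G × G => p.1 * p.2) (t := Finset.univ)
        (fun p _ => Finset.mem_univ _)]
    refine Finset.sum_congr rfl fun x _ => ?_
    refine Finset.card_bij' (fun p _ => p.1) (fun s _ => (s, s * x)) ?_ ?_ ?_ ?_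
    · intro p hp
      obtain ⟨hp1, hp2⟩ := Finset.mem_filter.1 hp
      obtain ⟨h1, h2⟩ := Finset.mem_product.1 hp1
      refine Finset.mem_filter.2 ⟨h1, ?_⟩
      rw [← hp2, ← mul_assoc, (hsq _ h1).1, one_mul]; exact h2
    · intro s hs
      obtain ⟨h1, h2⟩ := Finset.mem_filter.1 hs
      refine Finset.mem_filter.2 ⟨Finset.mem_product.2 ⟨h1, h2⟩, ?_⟩
      change s * (s * x) = x
      rw [← mul_assoc, (hsq _ h1).1, one_mul]
    · intro p hp
      obtain ⟨hp1, hp2⟩ := Finset.mem_filter.1 hp
      refine Prod.ext rfl ?_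
      change p.1 * x = p.2
      rw [← hp2, ← mul_assoc, (hsq _ (Finset.mem_product.1 hp1).1).1, one_mul]
    · intro s _; rfl
  have hinv : ∀ x : G, ∀ s ∈ fib x, s * s = 1 ∧ s * x * s⁻¹ = x⁻¹ := by
    intro x s hs
    obtain ⟨h1, h2⟩ := Finset.mem_filter.1 hs
    refine ⟨(hsq _ h1).1, ?_⟩
    rw [inv_eq_of_mul_eq_one_left (hsq _ h1).1]
    refine eq_inv_of_mul_eq_one_left ?_
    calc s * x * s * x = (s * x) * (s * x) := by group
      _ = 1 := (hsq _ h2).1
  have hle : ∀ x : G, (fib x).card ≤ Nat.card (Subgroup.centralizer ({x} : Set G)) := by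
    intro x
    rcases (fib x).eq_empty_or_nonempty with h | ⟨s₀, hs₀⟩
    · simp [h]
    rw [Nat.card_eq_fintype_card, Fintype.card_subtype]
    refine Finset.card_le_card_of_injOn (fun s => s₀⁻¹ * s) ?_ (fun a _ b _ h => mul_left_cancel h)
    intro s hs
    simp only [Finset.coe_filter, Finset.mem_univ, true_and, Set.mem_setOf_eq,
      Subgroup.mem_centralizer_singleton_iff]
    have e1 : s * x = x⁻¹ * s := mul_inv_eq_iff_eq_mul.1 (hinv x s hs).2
    have e2 : s₀ * x = x⁻¹ * s₀ := mul_inv_eq_iff_eq_mul.1 (hinv x s₀ hs₀).2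
    calc s₀⁻¹ * s * x = s₀⁻¹ * (x⁻¹ * s) := by rw [mul_assoc, e1]
      _ = s₀⁻¹ * (x⁻¹ * s₀) * (s₀⁻¹ * s) := by group
      _ = x * (s₀⁻¹ * s) := by rw [← e2]; group
  have hcent : ∀ x : G, x ∈ Subgroup.center G → x * x = 1 → x = 1 := by
    intro x hx hx2
    by_contra h1
    have h2 : orderOf x = 2 := orderOf_eq_prime (by rwa [pow_two]) h1
    exact Nat.not_even_iff_odd.2 (hZ.of_dvd_nat (h2 ▸ Subgroup.orderOf_dvd_natCard _ hx)) even_two
  -- the bound for each element
  have hpt : ∀ x : G, x ≠ 1 → (fib x).card * (g + n) + (if x ∈ I then 2 * (g + n) else 0) ≤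
      n * n * (if x ∈ I then 2 else 1) := by
    intro x hx
    by_cases hxI : x ∈ I
    · rw [if_pos hxI, if_pos hxI]
      have hC : Subgroup.centralizer ({x} : Set G) ≠ ⊤ := by
        intro h
        refine hx (hcent x (Subgroup.mem_center_iff.2 fun y => ?_) (hsq x hxI).1)
        exact Subgroup.mem_centralizer_singleton_iff.1 (h ▸ Subgroup.mem_top y)
      have hb := (hno _ hC).2
      have hcard := Subgroup.index_mul_card (Subgroup.centralizer ({x} : Set G))
      have h2 : (fib x).card + 2 ≤ Nat.card (Subgroup.centralizer ({x} : Set G)) := by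
        rw [Nat.card_eq_fintype_card, Fintype.card_subtype]
        have hd : Disjoint (fib x) {1, x} := by
          rw [Finset.disjoint_left]
          intro s hs
          obtain ⟨h1, h2⟩ := Finset.mem_filter.1 hs
          simp only [Finset.mem_insert, Finset.mem_singleton]
          rintro (rfl | rfl)
          · exact (hsq _ h1).2 rfl
          · exact (hsq _ h2).2 (hsq _ hxI).1
        have h3 := Finset.card_union_of_disjoint hd
        rw [Finset.card_pair (Ne.symm hx)] at h3
        rw [← h3]
        refine Finset.card_le_card fun s hs => ?_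
        simp only [Finset.mem_filter, Finset.mem_univ, true_and, Subgroup.mem_centralizer_singleton_iff]
        simp only [Finset.mem_union, Finset.mem_insert, Finset.mem_singleton] at hs
        rcases hs with hs | rfl | rfl
        · have e := (hinv x s hs).2
          rw [inv_eq_of_mul_eq_one_left (hsq x hxI).1] at e
          exact mul_inv_eq_iff_eq_mul.1 e
        · simp
        · rfl
      have h4 : g * (g + n) * ((fib x).card + 2) ≤ 2 * n ^ 2 * g :=
        calc g * (g + n) * ((fib x).card + 2)
            ≤ 2 * (Subgroup.centralizer ({x} : Set G)).index * n ^ 2 *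
              Nat.card (Subgroup.centralizer ({x} : Set G)) := Nat.mul_le_mul hb h2
          _ = 2 * n ^ 2 * g := by rw [hg, ← hcard]; ring
      have h5 : (g + n) * ((fib x).card + 2) ≤ 2 * n ^ 2 :=
        Nat.le_of_mul_le_mul_left (by rw [← mul_assoc, mul_comm g (2 * n ^ 2)]; exact h4) Nat.card_pos
      calc _ = (g + n) * ((fib x).card + 2) := by ring
        _ ≤ 2 * n ^ 2 := h5
        _ = _ := by ring
    · rw [if_neg hxI, if_neg hxI, add_zero, mul_one]
      rcases (fib x).eq_empty_or_nonempty with h | ⟨s₀, hs₀⟩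
      · simp [h]
      have hx2 : x * x ≠ 1 := fun e => hxI (by
        simp [hI, orderOf_eq_prime (show x ^ 2 = 1 by rwa [pow_two]) hx])
      set C := Subgroup.centralizer ({x} : Set G) with hCdef
      let D : Subgroup G :=
        { carrier := {y | y * x * y⁻¹ = x ∨ y * x * y⁻¹ = x⁻¹}
          one_mem' := Or.inl (by group)
          mul_mem' := by
            rintro a b ha hb
            have e : a * b * x * (a * b)⁻¹ = a * (b * x * b⁻¹) * a⁻¹ := by group
            have ei : a * x⁻¹ * a⁻¹ = (a * x * a⁻¹)⁻¹ := by group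
            simp only [Set.mem_setOf_eq] at ha hb ⊢
            rw [e]
            rcases hb with hb | hb <;> rw [hb]
            · exact ha
            · rw [ei]
              rcases ha with ha | ha <;> rw [ha]
              · exact Or.inr rfl
              · exact Or.inl (inv_inv x)
          inv_mem' := by
            rintro a ha
            simp only [Set.mem_setOf_eq] at ha ⊢
            rw [inv_inv]
            rcases ha with ha | ha
            · left
              conv_lhs => rw [← ha]
              group
            · right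
              have h' : a * x⁻¹ * a⁻¹ = x := by
                rw [show a * x⁻¹ * a⁻¹ = (a * x * a⁻¹)⁻¹ by group, ha, inv_inv]
              conv_lhs => rw [← h']
              group }
      have hCD : C ≤ D := fun y hy => Or.inl (by
        rw [mul_inv_eq_iff_eq_mul]; exact Subgroup.mem_centralizer_singleton_iff.1 hy)
      have hs0D : s₀ ∈ D := Or.inr (hinv x s₀ hs₀).2
      have hs0C : s₀ ∉ C := fun h => hx2 (by
        have e := (hinv x s₀ hs₀).2
        rw [mul_inv_eq_iff_eq_mul, Subgroup.mem_centralizer_singleton_iff.1 h] at e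
        rw [mul_eq_one_iff_eq_inv]
        exact mul_right_cancel e)
      have hrel : C.relIndex D = 2 := by
        rw [Subgroup.relIndex, Subgroup.index_eq_two_iff]
        refine ⟨⟨s₀, hs0D⟩, fun b => ?_⟩
        have h1 : ∀ y : G, y ∈ C ↔ y * x * y⁻¹ = x := fun y => by
          rw [hCdef, Subgroup.mem_centralizer_singleton_iff, mul_inv_eq_iff_eq_mul]
        simp only [Subgroup.mem_subgroupOf, Subgroup.coe_mul, h1]
        have e : (b : G) * s₀ * x * ((b : G) * s₀)⁻¹ = ((b : G) * x * (b : G)⁻¹)⁻¹ := by
          rw [show (b : G) * s₀ * x * ((b : G) * s₀)⁻¹ = (b : G) * (s₀ * x * s₀⁻¹) * (b : G)⁻¹ by group,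
            (hinv x s₀ hs₀).2]
          group
        rw [e]
        have hne : x⁻¹ ≠ x := fun e' => hx2 (by rw [mul_eq_one_iff_eq_inv]; exact e'.symm)
        rcases b.2 with hb | hb
        · refine Or.inr ⟨hb, ?_⟩
          rw [hb]; exact hne
        · refine Or.inl ⟨by rw [hb, inv_inv], ?_⟩
          rw [hb]; exact hne
      have hDtop : D ≠ ⊤ := by
        intro h
        have h2 : C.index = 2 := by
          rw [h, Subgroup.relIndex_top_right] at hrel; exact hrel
        exact (hno C (fun e => by rw [e, Subgroup.index_top] at h2; omega)).1 h2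
      have hb := (hno D hDtop).2
      have hidx : C.index = 2 * D.index := by
        rw [← Subgroup.relIndex_mul_index hCD, hrel]
      have hcard := Subgroup.index_mul_card C
      have h4 : g * (g + n) * (fib x).card ≤ n ^ 2 * g :=
        calc g * (g + n) * (fib x).card ≤ 2 * D.index * n ^ 2 * Nat.card C := Nat.mul_le_mul hb (hle x)
          _ = n ^ 2 * g := by rw [hg, ← hcard, hidx]; ring
      have h5 : (g + n) * (fib x).card ≤ n ^ 2 :=
        Nat.le_of_mul_le_mul_left (by rw [← mul_assoc, mul_comm g (n ^ 2)]; exact h4) Nat.card_pos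
      calc _ = (g + n) * (fib x).card := mul_comm _ _
        _ ≤ n ^ 2 := h5
        _ = _ := pow_two n
  -- summation
  have h1 : (fib 1).card = n := by
    rw [show fib 1 = I from Finset.filter_true_of_mem fun s hs => by simpa using hs]
  have hI1 : (1 : G) ∉ I := fun h => (hsq 1 h).2 rfl
  have hs := Finset.sum_le_sum (s := Finset.univ.erase (1 : G))
    (fun x hx => hpt x (Finset.ne_of_mem_erase hx))
  have hmem : (Finset.univ.erase (1 : G)).filter (· ∈ I) = I := by
    ext x
    simp only [Finset.mem_filter, Finset.mem_erase, Finset.mem_univ, and_true]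
    exact ⟨fun h => h.2, fun h => ⟨fun e => hI1 (e ▸ h), h⟩⟩
  have hce : (Finset.univ.erase (1 : G)).card + 1 = g := by
    rw [Finset.card_erase_add_one (Finset.mem_univ _), Finset.card_univ, hg, Nat.card_eq_fintype_card]
  have hsplit : ((Finset.univ.erase (1 : G)).filter (fun x => ¬ x ∈ I)).card + n + 1 = g := by
    have := Finset.card_filter_add_card_filter_not (s := Finset.univ.erase (1 : G)) (· ∈ I)
    rw [hmem] at this
    omega
  rw [Finset.sum_add_distrib, ← Finset.sum_mul, ← Finset.mul_sum, Finset.sum_ite, Finset.sum_ite,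
    hmem, Finset.sum_const, Finset.sum_const, Finset.sum_const, Finset.sum_const, smul_eq_mul,
    smul_eq_mul, smul_eq_mul, smul_eq_mul, ← hn] at hs
  have hsum : ∑ x ∈ Finset.univ.erase (1 : G), (fib x).card + n = n * n := by
    rw [htot, ← Finset.sum_erase_add _ _ (Finset.mem_univ (1 : G)), h1]
  nlinarith [hs, hsum, hsplit, Nat.mul_pos hn0 hn0]

/-- Let G be a finite group of even order with exactly n involutions whose centre has odd order, and put a = |G|/n. Then G has a proper subgroup H with |G : H| = 2 or |G : H| < a(a+1)/2; over ℕ the latter reads 2·|G:H|·n² < |G|·(|G| + n). -/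
theorem result {G : Type*} [Group G] [Finite G] (heven : Even (Nat.card G)) (hZ : Odd (Nat.card (Subgroup.center G))) : ∃ H : Subgroup G, H ≠ ⊤ ∧ (H.index = 2 ∨ 2 * H.index * (Nat.card {t : G // orderOf t = 2}) ^ 2 < Nat.card G * (Nat.card G + Nat.card {t : G // orderOf t = 2})) := by
  exact main heven hZ

end Cfsg.Agent.S0233
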