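import Cfsg.Statements.S0234
import Mathlib
import Cfsg.Agent.Lib.Block.SchurIndicator
import Cfsg.Agent.Lib.Char.Det
-- import your own Cfsg.Agent.* helpers here

set_option autoImplicit false
open Cfsg

namespace Cfsg.Agent.S0234

open Cfsg.Agent
open scoped ComplexConjugate commutatorElement

universe w

theorem linear_trivial {G : Type w} [Group G] [Finite G] [IsSimpleGroup G]
    (hnab : ∃ a b : G, a * b ≠ b * a) (l : G →* ℂˣ) (g : G) : l g = 1 := by
  rcases IsSimpleGroup.eq_bot_or_eq_top_of_normal l.ker inferInstance with h | h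
  · obtain ⟨a, b, hab⟩ := hnab
    refine absurd ?_ hab
    have : ⁅a, b⁆ ∈ l.ker := by
      rw [MonoidHom.mem_ker, map_commutatorElement, commutatorElement_eq_one_iff_commute]
      exact mul_comm _ _
    rw [h, Subgroup.mem_bot, commutatorElement_eq_one_iff_commute] at this
    exact this.eq
  · exact MonoidHom.mem_ker.1 (h ▸ Subgroup.mem_top g)

theorem no_degree_two {G : Type w} [Group G] [Fintype G] [IsSimpleGroup G]
    (hnab : ∃ a b : G, a * b ≠ b * a) (t : G) (ht : orderOf t = 2)
    (χ : IrrCharacter G) : (χ : G → ℂ) 1 ≠ 2 := by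
  classical
  intro h2
  obtain ⟨n, ρ, hρ, hch, hn, -⟩ := Char.IsIrr.exists_rep χ.2
  have hn2 : n = 2 := by exact_mod_cast (hn.symm.trans h2)
  subst hn2
  have hdet : LinearMap.det (ρ t) = 1 := by
    rw [← Char.detUnits_apply ρ t, linear_trivial hnab]
    rfl
  set M := LinearMap.toMatrix' (ρ t) with hM
  have hMd : M.det = 1 := by rw [hM, LinearMap.det_toMatrix', hdet]
  have hMM : M * M = 1 := by
    rw [hM, ← LinearMap.toMatrix'_comp]
    have : (ρ t).comp (ρ t) = LinearMap.id := by
      rw [← Module.End.mul_eq_comp, ← map_mul, ← pow_two, orderOf_dvd_iff_pow_eq_one.1 ht.dvd, map_one]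
      rfl
    rw [this, LinearMap.toMatrix'_id]
  have hadj : M = M.adjugate := by
    have h1 : M * M.adjugate = 1 := by rw [Matrix.mul_adjugate, hMd, one_smul]
    calc M = M * (M * M.adjugate) := by rw [h1, mul_one]
      _ = M.adjugate := by rw [← mul_assoc, hMM, one_mul]
  rw [Matrix.adjugate_fin_two] at hadj
  have e00 : M 0 0 = M 1 1 := by
    have := congrFun (congrFun hadj 0) 0
    simpa using this
  have e01 : M 0 1 = 0 := by
    have := congrFun (congrFun hadj 0) 1
    simp only [Matrix.of_apply, Matrix.cons_val_zero, Matrix.cons_val_one] at this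
    linear_combination this / 2
  have e10 : M 1 0 = 0 := by
    have := congrFun (congrFun hadj 1) 0
    simp only [Matrix.of_apply, Matrix.cons_val_zero, Matrix.cons_val_one] at this
    linear_combination this / 2
  have hMs : M = M 0 0 • (1 : Matrix (Fin 2) (Fin 2) ℂ) := by
    ext i j
    fin_cases i <;> fin_cases j <;> simp [e00, e01, e10]
  have hscal : ρ t = M 0 0 • LinearMap.id := by
    apply LinearMap.toMatrix'.injective
    rw [map_smul, LinearMap.toMatrix'_id, ← hM]
    exact hMs
  have hker : ρ.ker = ⊥ := by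
    rcases IsSimpleGroup.eq_bot_or_eq_top_of_normal ρ.ker inferInstance with h | h
    · exact h
    · exfalso
      have hconst : (χ : G → ℂ) = fun _ => (2 : ℂ) := by
        funext g
        have hg : ρ g = 1 := MonoidHom.mem_ker.1 (h ▸ Subgroup.mem_top g)
        rw [← h2, ← hch, Representation.character, Representation.character, hg, map_one ρ]
      have := Char.classInner_self_irr χ.2
      rw [hconst, classInner] at this
      have hn0 : (Nat.card G : ℂ) ≠ 0 := Nat.cast_ne_zero.mpr Nat.card_pos.ne'
      simp only [Finset.sum_const, Finset.card_univ, ← Nat.card_eq_fintype_card, nsmul_eq_mul,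
        map_ofNat, ← mul_assoc, inv_mul_cancel₀ hn0, one_mul] at this
      norm_num at this
  have hcen : t ∈ Subgroup.center G := by
    rw [Subgroup.mem_center_iff]
    intro g
    refine (MonoidHom.ker_eq_bot_iff ρ).1 hker ?_
    rw [map_mul, map_mul, hscal]
    ext v
    simp
  rcases IsSimpleGroup.eq_bot_or_eq_top_of_normal (Subgroup.center G) inferInstance with h | h
  · rw [h, Subgroup.mem_bot] at hcen
    rw [hcen, orderOf_one] at ht
    omega
  · obtain ⟨a, b, hab⟩ := hnab
    exact hab (Subgroup.mem_center_iff.1 (h ▸ Subgroup.mem_top b) a)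

theorem three_mul_involutions {G : Type w} [Group G] [Fintype G] [IsSimpleGroup G]
    (hnab : ∃ a b : G, a * b ≠ b * a) (t : G) (ht : orderOf t = 2) :
    3 * Nat.card {t : G // orderOf t = 2} < Nat.card G := by
  classical
  have hn0 : (Nat.card G : ℂ) ≠ 0 := Nat.cast_ne_zero.mpr Nat.card_pos.ne'
  -- degrees
  have hdeg : ∀ χ : IrrCharacter G, ∃ d : ℕ, 0 < d ∧ (χ : G → ℂ) 1 = d := fun χ =>
    Char.IsIrr.one_eq_pos χ.2
  choose d hd0 hd using hdeg
  let one : IrrCharacter G := ⟨fun _ => 1, Char.isIrr_one⟩
  have hd1 : d one = 1 := by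
    have h := hd one
    have : ((1 : ℕ) : ℂ) = (d one : ℂ) := by rw [← h]; simp [one]
    exact_mod_cast this.symm
  have hbig : ∀ χ : IrrCharacter G, χ ≠ one → 3 ≤ d χ := by
    intro χ hne
    have h2 : d χ ≠ 2 := fun h => no_degree_two hnab t ht χ (by rw [hd, h]; norm_num)
    have h1 : d χ ≠ 1 := by
      intro h
      obtain ⟨l, hl⟩ := Char.linearHom_of_isCharacter (Char.IsIrr.isCharacter χ.2) (by rw [hd, h]; norm_num)
      refine hne (Subtype.ext (hl.trans (funext fun g => ?_)))
      rw [linear_trivial hnab l g]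
      simp [one]
    have := hd0 χ
    omega
  -- the involution count
  have hcount : (Nat.card {g : G // g * g = 1} : ℂ) =
      ∑ χ : IrrCharacter G, (d χ : ℂ) * Block.FS.ind (χ : G → ℂ) := by
    calc (Nat.card {g : G // g * g = 1} : ℂ)
        = (Nat.card G : ℂ)⁻¹ * ∑ g : G, (if g * g = 1 then (Nat.card G : ℂ) else 0) := by
          rw [← Finset.sum_filter, Finset.sum_const, nsmul_eq_mul, Nat.card_eq_fintype_card,
            Fintype.card_subtype, mul_comm _ ((_ : ℂ) * _), mul_assoc, mul_inv_cancel₀ hn0, mul_one]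
      _ = (Nat.card G : ℂ)⁻¹ * ∑ g : G, ∑ χ : IrrCharacter G, (χ : G → ℂ) 1 * (χ : G → ℂ) (g * g) := by
          congr 1
          exact Finset.sum_congr rfl fun g _ => (Char.regular_expansion (g * g)).symm
      _ = ∑ χ : IrrCharacter G, (d χ : ℂ) * Block.FS.ind (χ : G → ℂ) := by
          rw [Finset.sum_comm, Finset.mul_sum]
          refine Finset.sum_congr rfl fun χ _ => ?_
          rw [← Finset.mul_sum, Block.FS.ind, ← hd χ]
          ring
  have hle : Nat.card {g : G // g * g = 1} ≤ ∑ χ : IrrCharacter G, d χ := by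
    have h1 : ‖(Nat.card {g : G // g * g = 1} : ℂ)‖ ≤ ∑ χ : IrrCharacter G, (d χ : ℝ) := by
      rw [hcount]
      refine (norm_sum_le _ _).trans (Finset.sum_le_sum fun χ _ => ?_)
      rw [norm_mul, Complex.norm_natCast]
      rcases Block.FS.ind_eq χ with ⟨h, -⟩ | ⟨h | h, -⟩ <;> simp [h]
    rw [Complex.norm_natCast] at h1
    exact_mod_cast h1
  have hsq : ∑ χ : IrrCharacter G, d χ * d χ = Nat.card G := by
    have h := Char.sum_degree_sq (G := G)
    simp only [hd, pow_two] at h
    exact_mod_cast h
  -- split off the principal character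
  rw [← Finset.add_sum_erase _ _ (Finset.mem_univ one), hd1] at hle hsq
  have h3 : 3 * ∑ χ ∈ Finset.univ.erase one, d χ ≤ ∑ χ ∈ Finset.univ.erase one, d χ * d χ := by
    rw [Finset.mul_sum]
    exact Finset.sum_le_sum fun χ hχ => Nat.mul_le_mul_right _ (hbig χ (Finset.mem_erase.1 hχ).1)
  have hm : Nat.card {g : G // g * g = 1} = Nat.card {t : G // orderOf t = 2} + 1 := by
    rw [Nat.card_eq_fintype_card, Nat.card_eq_fintype_card, Fintype.card_subtype, Fintype.card_subtype,
      show (Finset.univ.filter fun g : G => g * g = 1) =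
        insert 1 (Finset.univ.filter fun g : G => orderOf g = 2) by
        ext g
        simp only [Finset.mem_filter, Finset.mem_univ, true_and, Finset.mem_insert]
        rw [← pow_two, ← orderOf_dvd_iff_pow_eq_one, Nat.dvd_prime Nat.prime_two, orderOf_eq_one_iff],
      Finset.card_insert_of_notMem (by simp)]
  omega

/-- In a finite simple group G of even order greater than 2, the number n of involutions satisfies 3n < |G|. -/
theorem result {G : Type*} [Group G] [Finite G] [IsSimpleGroup G] (heven : Even (Nat.card G)) (hgt : 2 < Nat.card G) : 3 * Nat.card {t : G // orderOf t = 2} < Nat.card G := by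
  haveI := Fintype.ofFinite G
  obtain ⟨t, ht⟩ := exists_prime_orderOf_dvd_card' (G := G) 2 (even_iff_two_dvd.1 heven)
  refine three_mul_involutions ?_ t ht
  by_contra hcon
  push_neg at hcon
  letI : CommGroup G := { (inferInstance : Group G) with mul_comm := hcon }
  have hp : (Nat.card G).Prime := (IsSimpleGroup.prime_card (α := G))
  have := hp.eq_two_or_odd
  rcases this with h | h
  · omega
  · rw [Nat.even_iff] at heven; omega

end Cfsg.Agent.S0234
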