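import Cfsg.Statements.S0236
import Mathlib
import Cfsg.Agent.Lib.Invol.Basic
-- import your own Cfsg.Agent.* helpers here

set_option autoImplicit false
open Cfsg

namespace Cfsg.Agent.S0236

/-- If x is an involution, the number of ordered pairs (u, v) of involutions with uv = x, plus one, equals the number of involutions in the centralizer of x. -/
theorem result {G : Type*} [Group G] [Finite G] (x : G) (hx : orderOf x = 2) : Nat.card {p : G × G // orderOf p.1 = 2 ∧ orderOf p.2 = 2 ∧ p.1 * p.2 = x} + 1 = Nat.card {t : G // orderOf t = 2 ∧ Commute t x} := by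
  classical
  have hxx := Invol.mul_self_of_orderOf_two hx
  have e : {p : G × G // orderOf p.1 = 2 ∧ orderOf p.2 = 2 ∧ p.1 * p.2 = x} ≃
      {t : {t : G // orderOf t = 2 ∧ Commute t x} // ¬ t = ⟨x, hx, Commute.refl x⟩} := by
    refine
      { toFun := fun p => ⟨⟨p.1.1, p.2.1, ?_⟩, ?_⟩
        invFun := fun t => ⟨(t.1.1, t.1.1 * x), t.1.2.1, ?_, ?_⟩
        left_inv := ?_
        right_inv := fun t => rfl }
    · obtain ⟨⟨u, v⟩, hu, hv, huv⟩ := p
      change u * v = x at huv
      change u * x = x * u
      have := Invol.conj_mul_eq_inv hu hv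
      rw [huv, Invol.inv_of_orderOf_two hx] at this
      exact mul_inv_eq_iff_eq_mul.mp this
    · intro h
      obtain ⟨⟨u, v⟩, hu, hv, huv⟩ := p
      have hux : u = x := congrArg Subtype.val h
      change u * v = x at huv
      rw [hux, mul_eq_left] at huv
      exact Invol.ne_one_of_orderOf_two hv huv
    · obtain ⟨⟨t, ht, hc⟩, hne⟩ := t
      refine Invol.orderOf_two_iff.mpr ⟨?_, ?_⟩
      · change t * x * (t * x) = 1
        nth_rewrite 2 [hc.eq]
        rw [mul_assoc, ← mul_assoc x, hxx, one_mul, Invol.mul_self_of_orderOf_two ht]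
      · intro h
        apply hne
        refine Subtype.ext ?_
        change t = x
        rw [← Invol.inv_of_orderOf_two hx]
        exact eq_inv_of_mul_eq_one_left h
    · change t.1.1 * (t.1.1 * x) = x
      rw [← mul_assoc, Invol.mul_self_of_orderOf_two t.1.2.1, one_mul]
    · rintro ⟨⟨u, v⟩, hu, hv, huv⟩
      refine Subtype.ext (Prod.ext rfl ?_)
      change u * x = v
      change u * v = x at huv
      rw [← huv, ← mul_assoc, Invol.mul_self_of_orderOf_two hu, one_mul]
  rw [Nat.card_congr e, ← Nat.card_congr (Equiv.optionSubtypeNe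
    (⟨x, hx, Commute.refl x⟩ : {t : G // orderOf t = 2 ∧ Commute t x})), Finite.card_option]

end Cfsg.Agent.S0236
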