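import Cfsg.Statements.S0237
import Mathlib
-- import your own Cfsg.Agent.* helpers here

set_option autoImplicit false
open Cfsg

namespace Cfsg.Agent.S0237

/-- If x is real (conjugate to x⁻¹) in a finite group G, the number of g with g x g⁻¹ = x⁻¹ equals |C_G(x)|. -/
theorem result {G : Type*} [Group G] [Finite G] (x : G) (hreal : IsConj x x⁻¹) : Nat.card {g : G // g * x * g⁻¹ = x⁻¹} = Nat.card (Subgroup.centralizer ({x} : Set G)) := by
  obtain ⟨g₀, hg₀⟩ := isConj_iff.mp hreal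
  refine Nat.card_congr
    { toFun := fun g => ⟨g₀⁻¹ * g.1, ?_⟩
      invFun := fun c => ⟨g₀ * c.1, ?_⟩
      left_inv := fun g => by simp
      right_inv := fun c => by simp }
  · rw [Subgroup.mem_centralizer_singleton_iff]
    have h : g.1 * x * g.1⁻¹ = g₀ * x * g₀⁻¹ := g.2.trans hg₀.symm
    rw [mul_inv_eq_iff_eq_mul] at h
    rw [mul_assoc, h]
    group
  · have h := Subgroup.mem_centralizer_singleton_iff.mp c.2
    conv_rhs => rw [← hg₀]
    calc g₀ * c.1 * x * (g₀ * c.1)⁻¹ = g₀ * (c.1 * x) * (g₀ * c.1)⁻¹ := by group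
      _ = g₀ * (x * c.1) * (g₀ * c.1)⁻¹ := by rw [h]
      _ = g₀ * x * g₀⁻¹ := by group

end Cfsg.Agent.S0237
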