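import Cfsg.Statements.S0239
import Mathlib
-- import your own Cfsg.Agent.* helpers here

set_option autoImplicit false
open Cfsg

namespace Cfsg.Agent.S0239

/-- If some nontrivial element x of a finite group G is conjugate to x⁻¹, then |G| is even. -/
theorem result {G : Type*} [Group G] [Finite G] (x : G) (hx : x ≠ 1) (hreal : IsConj x x⁻¹) : Even (Nat.card G) := by
  rw [even_iff_two_dvd]
  by_contra hodd
  obtain ⟨g, hg⟩ := isConj_iff.mp hreal
  have h2 : Nat.Coprime 2 (orderOf g) :=
    Nat.Coprime.coprime_dvd_right (orderOf_dvd_natCard g)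
      ((Nat.Prime.coprime_iff_not_dvd Nat.prime_two).mpr hodd)
  obtain ⟨m, hm⟩ := exists_pow_eq_self_of_coprime h2
  have hi : g * x⁻¹ * g⁻¹ = x := by
    have h := congrArg (fun z => z⁻¹) hg
    simpa [mul_inv_rev, mul_assoc] using h
  have hc : Commute (g ^ 2) x := by
    show g ^ 2 * x = x * g ^ 2
    have e : g ^ 2 * x * (g ^ 2)⁻¹ = g * (g * x * g⁻¹) * g⁻¹ := by simp [pow_two, mul_assoc]
    rw [hg, hi] at e
    exact mul_inv_eq_iff_eq_mul.mp e
  have hgx : Commute g x := by
    have := hc.pow_left m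
    rwa [hm] at this
  have : x = x⁻¹ := by
    rw [← hg, hgx.eq]; group
  have hx2 : x ^ 2 = 1 := by
    rw [pow_two]; nth_rw 2 [this]; group
  have : orderOf x = 2 := orderOf_eq_prime hx2 hx
  exact hodd (this ▸ orderOf_dvd_natCard x)

end Cfsg.Agent.S0239
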