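import Cfsg.Statements.S0240
import Mathlib
import Cfsg.Agent.Lib.Invol.Basic
-- import your own Cfsg.Agent.* helpers here

set_option autoImplicit false
open Cfsg

namespace Cfsg.Agent.S0240

/-- Let G be a finite group with n involutions and H a subgroup with |H|·(n+1) > |G|. Then some nontrivial h ∈ H is strongly real in G: an involution t of G satisfies t h t⁻¹ = h⁻¹. -/
theorem result {G : Type*} [Group G] [Finite G] (H : Subgroup G) (hH : Nat.card G < Nat.card H * (Nat.card {t : G // orderOf t = 2} + 1)) : ∃ h : G, h ∈ H ∧ h ≠ 1 ∧ ∃ t : G, orderOf t = 2 ∧ t * h * t⁻¹ = h⁻¹ := by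
  classical
  have hins : Nat.card {t : G // t = 1 ∨ orderOf t = 2} = Nat.card {t : G // orderOf t = 2} + 1 := by
    have := Fintype.ofFinite G
    simp only [Nat.card_eq_fintype_card, Fintype.card_subtype]
    rw [Finset.filter_or, Finset.card_union_of_disjoint (by
      simp [Finset.disjoint_filter]), Finset.filter_eq' Finset.univ (1 : G), if_pos (Finset.mem_univ 1),
      Finset.card_singleton, add_comm]
  have hni : ¬ Function.Injective (fun p : {t : G // t = 1 ∨ orderOf t = 2} × H => p.1.1 * p.2.1) := by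
    intro hinj
    have := Nat.card_le_card_of_injective _ hinj
    rw [Nat.card_prod, hins, mul_comm] at this
    omega
  simp only [Function.Injective, not_forall] at hni
  obtain ⟨⟨⟨t, ht⟩, ⟨h, hh⟩⟩, ⟨⟨t', ht'⟩, ⟨h', hh'⟩⟩, heq, hne⟩ := hni
  change t * h = t' * h' at heq
  have htt : t ≠ t' := by
    rintro rfl
    rw [mul_left_cancel_iff] at heq
    subst heq
    exact hne rfl
  have hk : t'⁻¹ * t = h' * h⁻¹ := by
    rw [eq_mul_inv_iff_mul_eq, mul_assoc, heq]
    group
  refine ⟨t'⁻¹ * t, hk ▸ mul_mem hh' (inv_mem hh), ?_, ?_⟩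
  · intro h1
    exact htt (inv_mul_eq_one.mp h1).symm
  · rcases ht' with rfl | ht'
    · rcases ht with rfl | ht
      · exact absurd rfl htt
      · refine ⟨t, ht, ?_⟩
        simp [Invol.inv_of_orderOf_two ht, Invol.mul_self_of_orderOf_two ht]
    · refine ⟨t', ht', ?_⟩
      rcases ht with rfl | ht
      · simp [Invol.inv_of_orderOf_two ht', Invol.mul_self_of_orderOf_two ht']
      · rw [Invol.inv_of_orderOf_two ht']
        have := Invol.conj_mul_eq_inv ht' ht
        rwa [Invol.inv_of_orderOf_two ht'] at this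

end Cfsg.Agent.S0240
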