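import Cfsg.Statements.S0241
import Mathlib
import Cfsg.Agent.Lib.Invol.Basic
-- import your own Cfsg.Agent.* helpers here

set_option autoImplicit false
open Cfsg

namespace Cfsg.Agent.S0241

/-- If x ≠ 1 is conjugate to x⁻¹ in a finite group G and |C_G(x)| is odd, then some involution t satisfies t x t⁻¹ = x⁻¹. -/
theorem result {G : Type*} [Group G] [Finite G] (x : G) (hx : x ≠ 1) (hreal : IsConj x x⁻¹) (hodd : Odd (Nat.card (Subgroup.centralizer ({x} : Set G)))) : ∃ t : G, orderOf t = 2 ∧ t * x * t⁻¹ = x⁻¹ := by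
  obtain ⟨g, hg⟩ := isConj_iff.mp hreal
  have hg2 : g ^ 2 ∈ Subgroup.centralizer ({x} : Set G) := by
    rw [Subgroup.mem_centralizer_singleton_iff]
    have h2 : g * x⁻¹ * g⁻¹ = x := by
      have := congrArg (fun y => y⁻¹) hg
      simpa [mul_assoc] using this
    have : g ^ 2 * x * (g ^ 2)⁻¹ = x := by
      calc g ^ 2 * x * (g ^ 2)⁻¹ = g * (g * x * g⁻¹) * g⁻¹ := by simp [sq, mul_assoc]
        _ = x := by rw [hg, h2]
    exact mul_inv_eq_iff_eq_mul.mp this
  obtain ⟨k, hk⟩ := hodd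
  have h1 : (g ^ 2) ^ (2 * k + 1) = 1 := by
    have := pow_card_eq_one' (x := (⟨g ^ 2, hg2⟩ : Subgroup.centralizer ({x} : Set G)))
    rw [hk] at this
    simpa using congrArg Subtype.val this
  have hinv : g ^ (2 * k + 1) * x * (g ^ (2 * k + 1))⁻¹ = x⁻¹ := by
    have hc : Commute ((g ^ 2) ^ k) x :=
      (Commute.pow_left (Subgroup.mem_centralizer_singleton_iff.mp hg2) k)
    rw [pow_succ', pow_mul]
    calc g * (g ^ 2) ^ k * x * (g * (g ^ 2) ^ k)⁻¹
          = g * ((g ^ 2) ^ k * x) * (g * (g ^ 2) ^ k)⁻¹ := by group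
      _ = g * (x * (g ^ 2) ^ k) * (g * (g ^ 2) ^ k)⁻¹ := by rw [hc.eq]
      _ = g * x * g⁻¹ := by group
      _ = x⁻¹ := hg
  refine ⟨g ^ (2 * k + 1), Invol.orderOf_two_iff.mpr ⟨?_, ?_⟩, hinv⟩
  · rw [← pow_add, ← h1, ← pow_mul]
    congr 1
    ring
  · intro h
    rw [h] at hinv
    simp only [one_mul, inv_one, mul_one] at hinv
    have hx2 : orderOf x = 2 := Invol.orderOf_two_iff.mpr ⟨mul_eq_one_iff_eq_inv.mpr hinv, hx⟩
    have hmem : x ∈ Subgroup.centralizer ({x} : Set G) := Subgroup.mem_centralizer_singleton_iff.mpr rfl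
    have hd : orderOf (⟨x, hmem⟩ : Subgroup.centralizer ({x} : Set G)) ∣
        Nat.card (Subgroup.centralizer ({x} : Set G)) := orderOf_dvd_natCard _
    rw [Subgroup.orderOf_mk, hx2, hk] at hd
    omega

end Cfsg.Agent.S0241
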