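import Cfsg.Statements.S0244
import Mathlib
import Cfsg.Agent.Lib.Classical.SLGroup


set_option autoImplicit false
open Cfsg

namespace Cfsg.Agent.S0244


/-- Sp_2 = SL_2: a matrix on Fin 1 ⊕ Fin 1 lies in Mathlib's symplectic group iff its determinant is 1. -/
theorem result {R : Type*} [CommRing R] (A : Matrix (Fin 1 ⊕ Fin 1) (Fin 1 ⊕ Fin 1) R) : A ∈ Matrix.symplecticGroup (Fin 1) R ↔ A.det = 1 := by
  rw [SymplecticGroup.mem_iff, ← Matrix.ext_iff]
  have hd : A.det = A (Sum.inl 0) (Sum.inl 0) * A (Sum.inr 0) (Sum.inr 0)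
      - A (Sum.inl 0) (Sum.inr 0) * A (Sum.inr 0) (Sum.inl 0) := by
    rw [← Matrix.det_submatrix_equiv_self (finSumFinEquiv (m := 1) (n := 1)).symm A, Matrix.det_fin_two]
    rfl
  simp only [Sum.forall, Fin.forall_fin_one, Matrix.mul_apply, Fintype.sum_sum_type, Fin.sum_univ_one,
    Matrix.transpose_apply, Matrix.J]
  simp [hd]
  constructor
  · rintro ⟨⟨-, h⟩, -, -⟩
    linear_combination -h
  · intro h
    refine ⟨⟨?_, ?_⟩, ?_, ?_⟩
    all_goals first | linear_combination -h | linear_combination h | ring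

end Cfsg.Agent.S0244
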