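import Cfsg.Statements.S0246
import Mathlib
import Cfsg.Agent.Lib.Classical.Symp


set_option autoImplicit false
open Cfsg

namespace Cfsg.Agent.S0246


/-- The centre of Sp_{2m}(q), m at least 1, is {1, -1}: it has order gcd(2, q-1). -/
theorem result {F : Type*} [Field F] [Fintype F] {q : ℕ} (hF : Fintype.card F = q) (m : ℕ) (hm : 1 ≤ m) : Nat.card (Subgroup.center (Matrix.symplecticGroup (Fin m) F)) = Nat.gcd 2 (q - 1) := by
  classical
  subst hF
  let M : Matrix.symplecticGroup (Fin m) F → Matrix (Fin m ⊕ Fin m) (Fin m ⊕ Fin m) F := Subtype.val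
  have hsub : Nat.card {l : Fˣ // l ^ 2 = 1} = Nat.gcd 2 (Fintype.card F - 1) := by
    have : ({l : Fˣ | l ^ 2 = 1} : Set Fˣ) = ((powMonoidHom 2 : Fˣ →* Fˣ).ker : Set Fˣ) := by
      ext; simp [MonoidHom.mem_ker]
    rw [show Nat.card {l : Fˣ // l ^ 2 = 1} = Nat.card ↥({l : Fˣ | l ^ 2 = 1} : Set Fˣ) from rfl,
      this, SetLike.coe_sort_coe, IsCyclic.card_powMonoidHom_ker, Nat.card_units,
      Nat.card_eq_fintype_card, Nat.gcd_comm]
  rw [← hsub]
  symm
  have hmem : ∀ l : Fˣ, l ^ 2 = 1 →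
      (l : F) • (1 : Matrix (Fin m ⊕ Fin m) (Fin m ⊕ Fin m) F) ∈ Matrix.symplecticGroup (Fin m) F := by
    intro l hl
    refine Cfsg.Agent.Classical.mem_symplecticGroup_iff_form.2 fun u v => ?_
    have : (l : F) * l = 1 := by rw [← Units.val_mul, ← sq, hl, Units.val_one]
    simp only [Matrix.smul_mulVec, Matrix.one_mulVec, Cfsg.Agent.Classical.sympForm_smul_left,
      Cfsg.Agent.Classical.sympForm_smul_right, ← mul_assoc, this, one_mul]
  refine Nat.card_congr (Equiv.ofBijective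
    (fun l => ⟨⟨(l.1 : F) • 1, hmem l.1 l.2⟩, Subgroup.mem_center_iff.2 fun g => Subtype.ext (by simp)⟩)
    ⟨?_, ?_⟩)
  · rintro ⟨l, hl⟩ ⟨l', hl'⟩ h
    have := congrFun (congrFun (congrArg (fun z => M z.1) h) (Sum.inl ⟨0, hm⟩)) (Sum.inl ⟨0, hm⟩)
    simp [M] at this
    exact Subtype.ext (Units.ext this)
  · rintro ⟨A, hA⟩
    obtain ⟨l, hl, hAl⟩ := Cfsg.Agent.Classical.eq_scalar_of_commute_sympTv A
      (fun v => (Subgroup.mem_center_iff.1 hA _).symm)
    have hl0 : l ≠ 0 := by rintro rfl; simp at hl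
    exact ⟨⟨Units.mk0 l hl0, Units.ext (by simpa using hl)⟩,
      Subtype.ext (Subtype.ext (hAl (by omega)).symm)⟩

end Cfsg.Agent.S0246
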