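import Cfsg.Statements.S0257
import Mathlib
import Cfsg.Agent.Lib.Classical.SLTwoSmall
import Cfsg.Agent.Lib.Classical.SLGroup
import Cfsg.Agent.Lib.Classical.SLNormal
import Cfsg.Agent.Lib.Fus.SmallSimple
-- import your own Cfsg.Agent.* helpers here

set_option autoImplicit false
open Cfsg

namespace Cfsg.Agent.S0257

/-- SL_2(3) has a normal subgroup of index 3 isomorphic to the quaternion group of order 8, and its centre has order 2. -/
theorem result {F : Type*} [Field F] [Fintype F] (hF : Fintype.card F = 3) : (∃ Q : Subgroup (Matrix.SpecialLinearGroup (Fin 2) F), Q.Normal ∧ Q.index = 3 ∧ Nonempty (Q ≃* QuaternionGroup 2)) ∧ Nat.card (Subgroup.center (Matrix.SpecialLinearGroup (Fin 2) F)) = 2 := by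
  classical
  let e := Classical.SLTwoSmall.mapEquiv (ZMod.ringEquivOfPrime F Nat.prime_three hF) 2
  haveI := Classical.SLTwoSmall.range_normal
  refine ⟨⟨Classical.SLTwoSmall.quatHom.range.map e.toMonoidHom, Subgroup.Normal.map inferInstance _ e.surjective, ?_, ?_⟩, ?_⟩
  · rw [Subgroup.index_map_of_bijective (f := e.toMonoidHom) e.bijective]; exact Classical.SLTwoSmall.index_range
  · exact ⟨(Classical.SLTwoSmall.quatHom.range.equivMapOfInjective e.toMonoidHom e.injective).symm.trans
      (MonoidHom.ofInjective Classical.SLTwoSmall.quatHom_injective).symm⟩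
  · exact (Nat.card_congr (Subgroup.centerCongr e.symm).toEquiv).trans Classical.SLTwoSmall.card_center

end Cfsg.Agent.S0257
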