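import Cfsg.Statements.S0259
import Mathlib
import Cfsg.Agent.Lib.Classical.GLTwoSylow
-- import your own Cfsg.Agent.* helpers here

set_option autoImplicit false
open Cfsg

namespace Cfsg.Agent.S0259

open scoped Pointwise

/-- Distinct Sylow p-subgroups of GL_2(q), p the characteristic, intersect trivially. -/
theorem result {F : Type*} [Field F] [Fintype F] (p : ℕ) [Fact p.Prime] [CharP F p] (P Q : Sylow p (Matrix.GeneralLinearGroup (Fin 2) F)) (h : P ≠ Q) : (P : Subgroup (Matrix.GeneralLinearGroup (Fin 2) F)) ⊓ (Q : Subgroup (Matrix.GeneralLinearGroup (Fin 2) F)) = ⊥ := by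
  classical
  obtain ⟨g, hg⟩ := Classical.GLTwoSylow.sylow_eq_conj p P
  obtain ⟨k, hk⟩ := Classical.GLTwoSylow.sylow_eq_conj p Q
  rw [Subgroup.eq_bot_iff_forall]
  intro x hx
  by_contra hx1
  apply h
  have h1 : x ∈ MulAut.conj g • (Classical.GLTwoSylow.uHom (F := F)).range := hg ▸ hx.1
  have h2 : x ∈ MulAut.conj k • (Classical.GLTwoSylow.uHom (F := F)).range := hk ▸ hx.2
  rw [Subgroup.mem_pointwise_smul_iff_inv_smul_mem] at h1 h2
  obtain ⟨t, ht⟩ := h1
  have ht0 : t.toAdd ≠ 0 := fun e => hx1 (by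
    rw [show t = 1 from Multiplicative.toAdd.injective e, map_one] at ht
    simpa [MulAut.smul_def, mul_assoc] using congrArg (fun y => g * y * g⁻¹) ht.symm)
  have hb : k⁻¹ * g ∈ Classical.GLTwoSylow.borel F := by
    refine Classical.GLTwoSylow.lower_zero_of_conj ht0 ?_
    have e : k⁻¹ * g * Classical.GLTwoSylow.u t.toAdd * (k⁻¹ * g)⁻¹ = (MulAut.conj k)⁻¹ • x := by
      rw [show Classical.GLTwoSylow.u t.toAdd = (MulAut.conj g)⁻¹ • x from ht]
      simp [MulAut.smul_def, mul_assoc]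
    rw [e]; exact h2
  rw [← Classical.GLTwoSylow.normalizer_uRange] at hb
  refine Sylow.ext ?_
  rw [hg, hk, show g = k * (k⁻¹ * g) by group, map_mul, mul_smul]
  congr 1
  ext y
  rw [Subgroup.mem_pointwise_smul_iff_inv_smul_mem]
  simpa [MulAut.smul_def, mul_assoc] using ((Subgroup.mem_normalizer_iff''.mp hb) y).symm

end Cfsg.Agent.S0259
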