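import Cfsg.Statements.S0260
import Mathlib
import Cfsg.Agent.Lib.Classical.GLTwoSylow
import Cfsg.Agent.Lib.Classical.SLGroup
-- import your own Cfsg.Agent.* helpers here

set_option autoImplicit false
open Cfsg

namespace Cfsg.Agent.S0260

variable {F : Type*} [Field F]

def upM (t : F) : Matrix.SpecialLinearGroup (Fin 2) F := ⟨!![1, t; 0, 1], by simp [Matrix.det_fin_two]⟩

def lowM (t : F) : Matrix.SpecialLinearGroup (Fin 2) F := ⟨!![1, 0; t, 1], by simp [Matrix.det_fin_two]⟩

@[simp] theorem upM_coe (t : F) : (upM t).1 = !![1, t; 0, 1] := rfl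

@[simp] theorem lowM_coe (t : F) : (lowM t).1 = !![1, 0; t, 1] := rfl

theorem upM_add (s t : F) : upM (s + t) = upM s * upM t := by
  refine Subtype.ext ?_
  ext i j
  fin_cases i <;> fin_cases j <;> simp [add_comm]

def upHom (F : Type*) [Field F] : Multiplicative F →* Matrix.SpecialLinearGroup (Fin 2) F :=
  MonoidHom.mk' (fun t => upM t.toAdd) fun _ _ => upM_add _ _

@[simp] theorem upHom_coe (t : Multiplicative F) : (upHom F t).1 = !![1, t.toAdd; 0, 1] := rfl

/-- Any two distinct Sylow p-subgroups of SL_2(q), p the characteristic, generate SL_2(q). -/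
theorem result {F : Type*} [Field F] [Fintype F] (p : ℕ) [Fact p.Prime] [CharP F p] (P Q : Sylow p (Matrix.SpecialLinearGroup (Fin 2) F)) (h : P ≠ Q) : (P : Subgroup (Matrix.SpecialLinearGroup (Fin 2) F)) ⊔ (Q : Subgroup (Matrix.SpecialLinearGroup (Fin 2) F)) = ⊤ := by
  classical
  obtain ⟨f, hp, hf⟩ := FiniteField.card F p
  let upF := upHom F
  have hupinj : Function.Injective upF := fun s t h => by
    have := congrArg (fun g : (Matrix.SpecialLinearGroup (Fin 2) F) => g.1 0 1) h
    simpa [upF] using this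
  set U := upF.range
  have hUc : Nat.card U = Fintype.card F := by
    rw [← Nat.card_congr (MonoidHom.ofInjective hupinj).toEquiv, Nat.card_eq_fintype_card, Fintype.card_multiplicative]
  have hUp : IsPGroup p U := IsPGroup.of_card (n := f) (by rw [hUc, hf])
  obtain ⟨S, hS⟩ := hUp.exists_le_sylow
  have hSU : U = S := by
    refine Subgroup.eq_of_le_of_card_ge hS ?_
    let φ := Matrix.SpecialLinearGroup.toGL (n := Fin 2) (R := F)
    obtain ⟨T, hT⟩ := (S.2.map φ).exists_le_sylow
    have h1 := Subgroup.card_le_of_le hT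
    rw [Subgroup.card_map_of_injective Matrix.SpecialLinearGroup.toGL_injective,
      Classical.GLTwoSylow.sylow_card p 2 T] at h1
    rw [hUc]; simpa using h1
  obtain ⟨t, ht⟩ := MulAction.exists_smul_eq (Matrix.SpecialLinearGroup (Fin 2) F) S P
  obtain ⟨r, hr⟩ := MulAction.exists_smul_eq (Matrix.SpecialLinearGroup (Fin 2) F) S Q
  have hmemP : ∀ x ∈ U, t * x * t⁻¹ ∈ (P : Subgroup (Matrix.SpecialLinearGroup (Fin 2) F)) := fun x hx => by
    rw [← ht]
    exact ⟨x, hSU ▸ hx, rfl⟩
  have hmemQ : ∀ x ∈ U, r * x * r⁻¹ ∈ (Q : Subgroup (Matrix.SpecialLinearGroup (Fin 2) F)) := fun x hx => by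
    rw [← hr]
    exact ⟨x, hSU ▸ hx, rfl⟩
  let k : (Matrix.SpecialLinearGroup (Fin 2) F) := t⁻¹ * r
  have hk : k.1 1 0 ≠ 0 := by
    intro hk
    refine h ?_
    rw [← ht, ← hr]
    have hkU : k ∈ Subgroup.normalizer (U : Set (Matrix.SpecialLinearGroup (Fin 2) F)) := by
      have hd := k.2
      rw [Matrix.det_fin_two, hk, mul_zero, sub_zero] at hd
      have hconj : ∀ s : F, k * upF (Multiplicative.ofAdd s) = upF (Multiplicative.ofAdd (k.1 0 0 * s * k.1 0 0)) * k := by
        intro s
        refine Subtype.ext ?_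
        ext i j
        fin_cases i <;> fin_cases j <;> simp [upF, Matrix.mul_apply, Fin.sum_univ_two, hk]
        linear_combination (-(k.1 0 0 * s)) * hd
      have hle : U.map (MulAut.conj k).toMonoidHom ≤ U := by
        rintro _ ⟨_, ⟨s, rfl⟩, rfl⟩
        refine ⟨Multiplicative.ofAdd (k.1 0 0 * s.toAdd * k.1 0 0), ?_⟩
        show _ = k * upF s * k⁻¹
        rw [eq_mul_inv_iff_mul_eq]
        exact (hconj s.toAdd).symm
      have he := Subgroup.eq_of_le_of_card_ge hle (by rw [Subgroup.card_map_of_injective (f := (MulAut.conj k).toMonoidHom) (MulAut.conj k).injective])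
      rw [Subgroup.mem_normalizer_iff]
      intro x
      constructor
      · exact fun hx => hle ⟨x, hx, rfl⟩
      · intro hx
        rw [← he] at hx
        obtain ⟨y, hy, hy'⟩ := hx
        exact (MulAut.conj k).injective hy' ▸ hy
    rw [← inv_smul_eq_iff.mp (show t⁻¹ • r • S = S by
      rw [← mul_smul]
      exact Sylow.smul_eq_iff_mem_normalizer.mpr (show k ∈ Subgroup.normalizer (((S : Subgroup (Matrix.SpecialLinearGroup (Fin 2) F))) : Set (Matrix.SpecialLinearGroup (Fin 2) F)) from hSU ▸ hkU))]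
  -- generation
  set H := (P : Subgroup (Matrix.SpecialLinearGroup (Fin 2) F)) ⊔ (Q : Subgroup (Matrix.SpecialLinearGroup (Fin 2) F))
  let H' := H.map (MulAut.conj t⁻¹).toMonoidHom
  have hU' : U ≤ H' := fun x hx => ⟨t * x * t⁻¹, Subgroup.mem_sup_left (hmemP x hx), by simp [mul_assoc]⟩
  have hkU' : ∀ x ∈ U, k * x * k⁻¹ ∈ H' := fun x hx =>
    ⟨r * x * r⁻¹, Subgroup.mem_sup_right (hmemQ x hx), by simp [k, mul_assoc]⟩
  have htop : H' = ⊤ := by
    have hd := k.2
    rw [Matrix.det_fin_two] at hd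
    set c := k.1 1 0 with hc
    have hlow : ∀ s : F, lowM s ∈ H' := by
      intro s
      set x := upF (Multiplicative.ofAdd (-(k.1 0 0 / c)))
      set y := upF (Multiplicative.ofAdd (-(s / (c * c))))
      have hmem : x * (k * y * k⁻¹) * x⁻¹ ∈ H' :=
        mul_mem (mul_mem (hU' ⟨_, rfl⟩) (hkU' _ ⟨_, rfl⟩)) (inv_mem (hU' ⟨_, rfl⟩))
      have he : x * (k * y * k⁻¹) * x⁻¹ = lowM s := by
        rw [show x * (k * y * k⁻¹) * x⁻¹ = (x * k) * y * (x * k)⁻¹ by group, mul_inv_eq_iff_eq_mul]
        refine Subtype.ext ?_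
        ext i j
        fin_cases i <;> fin_cases j <;> simp [x, y, upF, Matrix.mul_apply, Fin.sum_univ_two, Matrix.vecMul, dotProduct, ← hc] <;> field_simp <;>
          first | simp | ring1 | linear_combination s * hd | linear_combination (-s) * hd | (ring_nf; linear_combination s * hd) | (ring_nf; linear_combination (-s) * hd)
      rwa [he] at hmem
    rw [eq_top_iff, ← Classical.SL_closure_transvections, Subgroup.closure_le]
    rintro _ ⟨⟨i, j, hij, a⟩, rfl⟩
    fin_cases i <;> fin_cases j
    · exact absurd rfl hij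
    · refine hU' ⟨Multiplicative.ofAdd a, Subtype.ext ?_⟩
      ext r s; fin_cases r <;> fin_cases s <;>
        simp [upF, Matrix.TransvectionStruct.toSpecialLinearGroup, Matrix.SpecialLinearGroup.transvection_coe, Matrix.transvection]
    · refine (congrArg (fun z => z ∈ H') (Subtype.ext ?_ : _ = lowM a)).mpr (hlow a)
      ext r s; fin_cases r <;> fin_cases s <;>
        simp [Matrix.TransvectionStruct.toSpecialLinearGroup, Matrix.SpecialLinearGroup.transvection_coe, Matrix.transvection]
    · exact absurd rfl hij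
  refine eq_top_iff.mpr fun g _ => ?_
  have hg : t⁻¹ * g * t ∈ H' := htop ▸ Subgroup.mem_top _
  obtain ⟨z, hz, hze⟩ := hg
  simp at hze
  exact hze ▸ hz

end Cfsg.Agent.S0260
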