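import Cfsg.Statements.S0267
import Mathlib
import Cfsg.Agent.Lib.Recog.ProjLine
-- import your own Cfsg.Agent.* helpers here

set_option autoImplicit false
open Cfsg

namespace Cfsg.Agent.S0267

/-- SL_2(q) is 3-transitive on the q+1 points of the projective line if and only if q is even. -/
theorem result {F : Type*} [Field F] [Fintype F] : MulAction.IsMultiplyPretransitive (Matrix.SpecialLinearGroup (Fin 2) F) (Projectivization F (Fin 2 → F)) 3 ↔ ringChar F = 2 := by
  classical
  open Cfsg.Agent.Recog.ProjLine in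
  constructor
  · intro h
    by_contra hne
    obtain ⟨a, ha⟩ := FiniteField.exists_nonsquare hne
    have ha0 : a ≠ 0 := fun h0 => ha (h0 ▸ IsSquare.zero)
    let d : Matrix.GeneralLinearGroup (Fin 2) F := Matrix.GeneralLinearGroup.mkOfDetNeZero !![1, 0; 0, a]
      (by simpa [Matrix.det_fin_two] using ha0)
    have hd : d • (p01 : P1 F) ≠ p0 ∧ d • (p01 : P1 F) ≠ p1 := by
      constructor <;> intro e
      · have : d • (p0 : P1 F) = p0 := by
          rw [p0, Projectivization.smul_mk, Projectivization.mk_eq_mk_iff']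
          exact ⟨1, funext fun i => by fin_cases i <;> simp [d, e0, Units.smul_def, Matrix.GeneralLinearGroup.mkOfDetNeZero, Matrix.vecHead, Matrix.vecTail]⟩
        exact ne01.2.1 (MulAction.injective d (e.trans this.symm)).symm
      · have : d • (p1 : P1 F) = p1 := by
          rw [p1, Projectivization.smul_mk, Projectivization.mk_eq_mk_iff']
          exact ⟨a, funext fun i => by fin_cases i <;> simp [d, e1, Units.smul_def, Matrix.GeneralLinearGroup.mkOfDetNeZero, Matrix.vecHead, Matrix.vecTail]⟩
        exact ne01.2.2 (MulAction.injective d (e.trans this.symm)).symm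
    have tri : ∀ p q r : P1 F, p ≠ q → p ≠ r → q ≠ r → Function.Injective ![p, q, r] := by
      intro p q r h1 h2 h3 i j hij
      fin_cases i <;> fin_cases j <;> first | rfl | exact absurd hij h1 | exact absurd hij h2 | exact absurd hij h3 | exact absurd hij.symm h1 | exact absurd hij.symm h2 | exact absurd hij.symm h3
    let x : Fin 3 ↪ P1 F := ⟨![p0, p1, p01], tri _ _ _ ne01.1 ne01.2.1 ne01.2.2⟩
    let y : Fin 3 ↪ P1 F := ⟨![p0, p1, d • (p01 : P1 F)], tri _ _ _ ne01.1 hd.1.symm hd.2.symm⟩
    obtain ⟨s, hs⟩ := h.exists_smul_eq x y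
    let g : Matrix.GeneralLinearGroup (Fin 2) F := Matrix.SpecialLinearGroup.toGL s
    have hsg : ∀ p : P1 F, g • p = s • p := fun p => by
      induction p using Projectivization.ind with | h v hv => rfl
    have hx : ∀ i, g • x i = y i := fun i => (hsg _).trans (DFunLike.congr_fun hs i)
    have f0 : g • (p0 : P1 F) = p0 := hx 0
    have f1 : g • (p1 : P1 F) = p1 := hx 1
    have f2 : g • (p01 : P1 F) = d • p01 := hx 2
    have hd0 : d • (p0 : P1 F) = p0 := by
      rw [p0, Projectivization.smul_mk, Projectivization.mk_eq_mk_iff']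
      exact ⟨1, funext fun i => by fin_cases i <;> simp [d, e0, Units.smul_def, Matrix.GeneralLinearGroup.mkOfDetNeZero, Matrix.vecHead, Matrix.vecTail]⟩
    have hd1 : d • (p1 : P1 F) = p1 := by
      rw [p1, Projectivization.smul_mk, Projectivization.mk_eq_mk_iff']
      exact ⟨a, funext fun i => by fin_cases i <;> simp [d, e1, Units.smul_def, Matrix.GeneralLinearGroup.mkOfDetNeZero, Matrix.vecHead, Matrix.vecTail]⟩
    obtain ⟨u, hu⟩ := scalar_of_fix (g := d⁻¹ * g) (by rw [mul_smul, f0, inv_smul_eq_iff, hd0])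
      (by rw [mul_smul, f1, inv_smul_eq_iff, hd1]) (by rw [mul_smul, f2, inv_smul_smul])
    have hg : g = d * Matrix.GeneralLinearGroup.scalar (Fin 2) u := by rw [hu, mul_inv_cancel_left]
    have hdet := congrArg (fun k : Matrix.GeneralLinearGroup (Fin 2) F => (k : Matrix (Fin 2) (Fin 2) F).det) hg
    have h1 : (1 : F) = a * (u : F) ^ 2 := by
      simp only [g, Units.val_mul, Matrix.det_mul] at hdet
      rw [show ((Matrix.SpecialLinearGroup.toGL s : Matrix.GeneralLinearGroup (Fin 2) F) : Matrix (Fin 2) (Fin 2) F) = s.1 from rfl, s.2] at hdet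
      simpa [d, Matrix.GeneralLinearGroup.mkOfDetNeZero, Matrix.GeneralLinearGroup.coe_scalar, Matrix.det_fin_two] using hdet
    exact ha ⟨(u : F)⁻¹, by field_simp; linear_combination -h1⟩
  · intro h2
    haveI : CharP F 2 := h2 ▸ ringChar.charP F
    obtain ⟨h3, -⟩ := pgl_three (F := F)
    refine ⟨fun x y => ?_⟩
    obtain ⟨k, hk⟩ := h3.exists_smul_eq x y
    obtain ⟨k, rfl⟩ := Matrix.ProjGenLinGroup.mk_surjective k
    obtain ⟨r, hr⟩ := FiniteField.isSquare_of_char_two h2 ((k : Matrix (Fin 2) (Fin 2) F).det)⁻¹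
    have hdet := Matrix.GeneralLinearGroup.det_ne_zero k
    let s : Matrix.SpecialLinearGroup (Fin 2) F := ⟨r • (k : Matrix (Fin 2) (Fin 2) F), by
      rw [Matrix.det_smul, Fintype.card_fin, pow_two, ← hr, inv_mul_cancel₀ hdet]⟩
    refine ⟨s, ?_⟩
    ext i
    show s • x i = y i
    rw [← DFunLike.congr_fun hk i]
    show s • x i = k • x i
    induction x i using Projectivization.ind with | h v hv =>
    rw [Projectivization.smul_mk, Projectivization.smul_mk, Projectivization.mk_eq_mk_iff']
    refine ⟨r, ?_⟩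
    show r • ((k : Matrix (Fin 2) (Fin 2) F) • v) = (r • (k : Matrix (Fin 2) (Fin 2) F)) • v
    rw [smul_assoc]

end Cfsg.Agent.S0267
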