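import Cfsg.Statements.S0268
import Mathlib
-- import your own Cfsg.Agent.* helpers here

set_option autoImplicit false
open Cfsg

namespace Cfsg.Agent.S0268

/-- For q odd, -1 is the unique involution of SL_2(q). -/
theorem result {F : Type*} [Field F] [Fintype F] (hF : Odd (Fintype.card F)) (g : Matrix.SpecialLinearGroup (Fin 2) F) (h1 : g ≠ 1) (h2 : g * g = 1) : (g : Matrix (Fin 2) (Fin 2) F) = -1 := by
  have h2F : (2 : F) ≠ 0 := by
    refine Ring.two_ne_zero fun h => ?_
    have := (FiniteField.even_card_iff_char_two (F := F)).mp h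
    rw [Nat.odd_iff] at hF
    omega
  have hd : (g : Matrix (Fin 2) (Fin 2) F) 0 0 * g 1 1 - g 0 1 * g 1 0 = 1 := by
    rw [← Matrix.det_fin_two]; exact g.2
  have hsq : (g : Matrix (Fin 2) (Fin 2) F) * g = 1 := congrArg Subtype.val h2
  have e := fun i j => congrFun (congrFun hsq i) j
  have e00 := e 0 0; have e01 := e 0 1; have e10 := e 1 0; have e11 := e 1 1
  simp [Matrix.mul_apply, Fin.sum_univ_two] at e00 e01 e10 e11
  set a := (g : Matrix (Fin 2) (Fin 2) F) 0 0
  set b := (g : Matrix (Fin 2) (Fin 2) F) 0 1
  set c := (g : Matrix (Fin 2) (Fin 2) F) 1 0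
  set d := (g : Matrix (Fin 2) (Fin 2) F) 1 1
  have ht : a + d ≠ 0 := fun h => h2F (by linear_combination a * h - hd - e00)
  have hb : b = 0 := by
    have : b * (a + d) = 0 := by linear_combination e01
    exact (mul_eq_zero.mp this).resolve_right ht
  have hc : c = 0 := by
    have : c * (a + d) = 0 := by linear_combination e10
    exact (mul_eq_zero.mp this).resolve_right ht
  have had : a = d := by
    have hdd : a * d = 1 := by linear_combination hd + c * hb
    have haa : a * a = 1 := by linear_combination e00 - c * hb
    linear_combination d * haa - a * hdd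
  have ha : a = -1 := by
    have haa : a * a = 1 := by linear_combination e00 - c * hb
    refine (mul_self_eq_one_iff.mp haa).resolve_left fun ha1 => h1 (Subtype.ext ?_)
    ext i j
    fin_cases i <;> fin_cases j
    exacts [ha1, hb, hc, had.symm.trans ha1]
  ext i j
  fin_cases i <;> fin_cases j
  · simpa using ha
  · simpa using hb
  · simpa using hc
  · simpa using had.symm.trans ha

end Cfsg.Agent.S0268
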