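import Cfsg.Statements.S0273
import Mathlib
import Cfsg.Agent.Lib.Classical.GLTwoSylow
-- import your own Cfsg.Agent.* helpers here

set_option autoImplicit false
open Cfsg

namespace Cfsg.Agent.S0273

open scoped Pointwise

/-- In GL_2(q) the centraliser of a non-trivial element of a Sylow p-subgroup (p the characteristic) has order q (q-1): the Sylow subgroup times the scalars. -/
theorem result {F : Type*} [Field F] [Fintype F] {q : ℕ} (hF : Fintype.card F = q) (p : ℕ) [Fact p.Prime] [CharP F p] (P : Sylow p (Matrix.GeneralLinearGroup (Fin 2) F)) (a : Matrix.GeneralLinearGroup (Fin 2) F) (ha : a ∈ P) (ha1 : a ≠ 1) : Nat.card (Subgroup.centralizer ({a} : Set (Matrix.GeneralLinearGroup (Fin 2) F))) = q * (q - 1) := by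
  subst hF
  classical
  obtain ⟨g, hg⟩ := Classical.GLTwoSylow.sylow_eq_conj p P
  have ha' : a ∈ MulAut.conj g • (Classical.GLTwoSylow.uHom (F := F)).range := hg ▸ ha
  rw [Subgroup.mem_pointwise_smul_iff_inv_smul_mem] at ha'
  obtain ⟨t, ht⟩ := ha'
  set s := t.toAdd
  have ht' : a = g * Classical.GLTwoSylow.u s * g⁻¹ := by
    rw [show Classical.GLTwoSylow.u s = (MulAut.conj g)⁻¹ • a from ht]
    simp [MulAut.smul_def, mul_assoc]
  have hs : s ≠ 0 := fun e => ha1 (by
    have h1 : Classical.GLTwoSylow.u (0 : F) = 1 := by ext i j; fin_cases i <;> fin_cases j <;> simp [Classical.GLTwoSylow.u]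
    rw [ht', e, h1, mul_one, mul_inv_cancel])
  subst ht'
  let e1 : Subgroup.centralizer ({g * Classical.GLTwoSylow.u s * g⁻¹} : Set (Matrix.GeneralLinearGroup (Fin 2) F)) ≃
      {x : Matrix.GeneralLinearGroup (Fin 2) F // x * Classical.GLTwoSylow.u s = Classical.GLTwoSylow.u s * x} :=
    { toFun := fun x => ⟨g⁻¹ * x * g, by
        have h := Subgroup.mem_centralizer_singleton_iff.mp x.2
        calc g⁻¹ * ↑x * g * Classical.GLTwoSylow.u s = g⁻¹ * (↑x * (g * Classical.GLTwoSylow.u s * g⁻¹)) * g := by group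
          _ = g⁻¹ * ((g * Classical.GLTwoSylow.u s * g⁻¹) * ↑x) * g := by rw [h]
          _ = _ := by group⟩
      invFun := fun x => ⟨g * x * g⁻¹, Subgroup.mem_centralizer_singleton_iff.mpr (by
        calc g * ↑x * g⁻¹ * (g * Classical.GLTwoSylow.u s * g⁻¹) = g * (↑x * Classical.GLTwoSylow.u s) * g⁻¹ := by group
          _ = g * (Classical.GLTwoSylow.u s * ↑x) * g⁻¹ := by rw [x.2]
          _ = _ := by group)⟩
      left_inv := fun x => by apply Subtype.ext; simp [mul_assoc]
      right_inv := fun x => by apply Subtype.ext; simp [mul_assoc] }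
  let e2 : {x : Matrix.GeneralLinearGroup (Fin 2) F // x * Classical.GLTwoSylow.u s = Classical.GLTwoSylow.u s * x} ≃ {c : F // c ≠ 0} × F :=
    { toFun := fun x => (⟨((x : Matrix.GeneralLinearGroup (Fin 2) F) : Matrix (Fin 2) (Fin 2) F) 0 0, fun h => by
          obtain ⟨h1, h2⟩ := (Classical.GLTwoSylow.centralizer_u hs _).mp x.2
          exact (Matrix.GeneralLinearGroup.det (x : Matrix.GeneralLinearGroup (Fin 2) F)).ne_zero (by simp [Matrix.det_fin_two, h, h1])⟩,
        ((x : Matrix.GeneralLinearGroup (Fin 2) F) : Matrix (Fin 2) (Fin 2) F) 0 1)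
      invFun := fun y => ⟨Matrix.GeneralLinearGroup.mkOfDetNeZero !![y.1.1, y.2; 0, y.1.1] (by simp [Matrix.det_fin_two_of, y.1.2]),
        (Classical.GLTwoSylow.centralizer_u hs _).mpr (by simp [Matrix.GeneralLinearGroup.mkOfDetNeZero])⟩
      left_inv := fun x => by
        obtain ⟨h1, h2⟩ := (Classical.GLTwoSylow.centralizer_u hs _).mp x.2
        refine Subtype.ext (Units.ext ?_)
        ext i j
        fin_cases i <;> fin_cases j <;> simp [Matrix.GeneralLinearGroup.mkOfDetNeZero, h1, h2]
      right_inv := fun y => by simp [Matrix.GeneralLinearGroup.mkOfDetNeZero] }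
  rw [Nat.card_congr (e1.trans e2), Nat.card_prod, Classical.GLTwoSylow.natCard_ne_zero, Nat.card_eq_fintype_card, mul_comm]

end Cfsg.Agent.S0273
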