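import Cfsg.Statements.S0274
import Mathlib
import Cfsg.Agent.Lib.Grp.SL2Core
-- import your own Cfsg.Agent.* helpers here

set_option autoImplicit false
open Cfsg

namespace Cfsg.Agent.S0274

/-- Dickson's Theorem for SL_2: if p is odd and H is a subgroup of SL_2(q), q a power of p, with more than one Sylow p-subgroup, then H contains a copy of SL_2(p). -/
theorem result {F : Type*} [Field F] [Fintype F] (p : ℕ) [Fact p.Prime] [CharP F p] (hp : p ≠ 2) (H : Subgroup (Matrix.SpecialLinearGroup (Fin 2) F)) (hH : 1 < Nat.card (Sylow p H)) : ∃ K : Subgroup (Matrix.SpecialLinearGroup (Fin 2) F), K ≤ H ∧ Nonempty (K ≃* Matrix.SpecialLinearGroup (Fin 2) (ZMod p)) := by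
  classical
  have : Finite (Sylow p H) := inferInstance
  have := Finite.one_lt_card_iff_nontrivial.mp hH
  obtain ⟨P, Q, hne⟩ := exists_pair_ne (Sylow p H)
  have hbot : ∀ R : Sylow p H, (R : Subgroup H) ≠ ⊥ := by
    intro R hR
    refine hne ?_
    have hP : (P : Subgroup H) = ⊥ := Subgroup.card_eq_one.mp (by
      rw [P.card_eq_multiplicity, ← R.card_eq_multiplicity]; exact Subgroup.card_eq_one.mpr hR)
    have hQ : (Q : Subgroup H) = ⊥ := Subgroup.card_eq_one.mp (by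
      rw [Q.card_eq_multiplicity, ← R.card_eq_multiplicity]; exact Subgroup.card_eq_one.mpr hR)
    exact Sylow.ext (hP.trans hQ.symm)
  obtain ⟨a, ha1⟩ := Subgroup.ne_bot_iff_exists_ne_one.mp (hbot P)
  obtain ⟨b, hb1⟩ := Subgroup.ne_bot_iff_exists_ne_one.mp (hbot Q)
  have ha1' : (a : H) ≠ 1 := fun e => ha1 (Subtype.ext e)
  have hb1' : (b : H) ≠ 1 := fun e => hb1 (Subtype.ext e)
  refine Cfsg.Agent.Grp.SL2.exists_equiv_of_pair hp H (a : H).2 (b : H).2
    (Cfsg.Agent.Grp.SL2.tr_of_pGroup hp P.isPGroup' a.2)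
    (Cfsg.Agent.Grp.SL2.tr_of_pGroup hp Q.isPGroup' b.2) fun hc => hne ?_
  have hbP := Cfsg.Agent.Grp.SL2.mem_sylow_of_commute hp P
    (Cfsg.Agent.Grp.SL2.tr_of_pGroup hp Q.isPGroup' b.2) a.2 ha1'
    (Cfsg.Agent.Grp.SL2.commute_coe.mp hc).symm
  exact Cfsg.Agent.Grp.SL2.sylow_eq_of_mem hp hbP b.2 hb1'

end Cfsg.Agent.S0274
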