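import Cfsg.Statements.S0289
import Mathlib
import Cfsg.Agent.Lib.Classical.OrthCount


set_option autoImplicit false
open Cfsg

namespace Cfsg.Agent.S0289


/-- The hyperbolic quadratic form on F^(2m), m at least 1, has q^(2m-1) + q^m - q^(m-1) zeros (that is, (q^m - 1)(q^(m-1) + 1) non-zero isotropic vectors). -/
theorem result {F : Type*} [Field F] [Fintype F] {q : ℕ} (hF : Fintype.card F = q) (m : ℕ) (hm : 1 ≤ m) : Nat.card {v : Fin m ⊕ Fin m → F // Cfsg.quadFormPlus m F v = 0} = q ^ (2 * m - 1) + q ^ m - q ^ (m - 1) := by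
  subst hF
  obtain ⟨k, rfl⟩ := Nat.exists_eq_add_of_le hm
  have h := Cfsg.Agent.Classical.zeros_qfPlus (F := F) (1 + k)
  rw [Cfsg.Agent.Classical.coe_qfPlus] at h
  have hq : (Fintype.card F : ℤ) ≠ 0 := by exact_mod_cast Fintype.card_ne_zero
  have hle : Fintype.card F ^ (1 + k - 1) ≤ Fintype.card F ^ (2 * (1 + k) - 1) + Fintype.card F ^ (1 + k) :=
    le_add_left (Nat.pow_le_pow_right Fintype.card_pos (by omega))
  apply Nat.cast_injective (R := ℤ)
  refine mul_right_cancel₀ hq (h.trans ?_)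
  rw [Nat.cast_sub hle]
  push_cast
  have e1 : 2 * (1 + k) - 1 = 2 * k + 1 := by omega
  have e2 : 1 + k - 1 = k := by omega
  rw [e1, e2]
  ring

end Cfsg.Agent.S0289
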