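import Cfsg.Statements.S0294
import Cfsg.Agent.Lib.Classical.OrthPOmegaCard
import Cfsg.Agent.Lib.Classical.OrthGenModels
import Cfsg.Agent.S0791
-- import your own Cfsg.Agent.* helpers here

set_option autoImplicit false
open Cfsg

namespace Cfsg.Agent.S0294
open Cfsg.Agent.Classical Cfsg.Agent.Classical.OrthAut


/-- gcd(4, q^m + 1) |PΩ^-_{2m}(q)| = q^(m(m-1)) (q^m + 1) prod_{i=1}^{m-1} (q^(2i) - 1), m at least 4 (type ²D_m). -/
theorem result {F : Type*} [Field F] [Fintype F] {q : ℕ} (hF : Fintype.card F = q) (m : ℕ) (hm : 4 ≤ m) (a b : F) (hab : ∀ z₁ z₂ : F, z₁ ^ 2 + a * z₁ * z₂ + b * z₂ ^ 2 = 0 → z₁ = 0 ∧ z₂ = 0) : Nat.gcd 4 (q ^ m + 1) * Nat.card (Cfsg.POmega F (Cfsg.quadFormMinus (m - 1) F a b)) = q ^ (m * (m - 1)) * (q ^ m + 1) * ∏ i ∈ Finset.range (m - 1), (q ^ (2 * (i + 1)) - 1) := by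
  obtain ⟨k, rfl⟩ : ∃ k, m = k + 1 := ⟨m - 1, by omega⟩
  rw [Nat.add_sub_cancel, mul_comm (k + 1) k]
  have hq := hF ▸ (Fintype.card_pos : 0 < Fintype.card F)
  rw [← coe_qfMinus]
  obtain ⟨Q, hQdef⟩ : ∃ Q, Q = qfMinus k F a b := ⟨_, rfl⟩
  rw [← hQdef]
  have hQ : (QuadraticMap.polarBilin Q).Nondegenerate := hQdef ▸ nondegenerate_qfMinus k hab
  have hT : Tri Q := hQdef ▸ tri_qfMinus (by omega) a b
  have hord := order_qfMinus (F := F) k hab
  rw [← hQdef] at hord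
  have hmul := card_pomega_mul Q
  have hX : Nat.card (Subgroup.center (Omega F ⇑Q)) * (Omega F ⇑Q).index * Nat.card (POmega F ⇑Q) =
      2 * (q ^ (k * (k + 1)) * (q ^ (k + 1) + 1) * ∏ i ∈ Finset.range k, (q ^ (2 * (i + 1)) - 1)) := by
    rw [← cast_prod_sub_one, hF, ← hmul] at hord
    have h1 : 1 ≤ q ^ (k + 1) := Nat.one_le_pow _ _ hq
    zify [h1]
    rw [show ∀ a b c : ℤ, 2 * (a * b * c) = 2 * a * b * c from fun a b c => by ring]
    exact_mod_cast hord
  clear hord hmul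
  generalize q ^ (k * (k + 1)) * (q ^ (k + 1) + 1) * ∏ i ∈ Finset.range k, (q ^ (2 * (i + 1)) - 1) = X at hX ⊢
  have hn1 : 1 ≤ Fintype.card ((Fin k ⊕ Fin k) ⊕ Fin 2) := by simp <;> omega
  by_cases h2 : (2 : F) = 0
  · have hc : Nat.card (Subgroup.center (Omega F ⇑Q)) = 1 := by
      haveI : CharP F 2 := CharTwo.of_one_ne_zero_of_two_eq_zero one_ne_zero h2
      refine card_center_one hQ hT hn1 fun g _ hgv => hgv.trans ?_
      ext i j
      simp [CharTwo.neg_eq]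
    have he : q % 2 = 0 := by
      haveI : CharP F 2 := CharTwo.of_one_ne_zero_of_two_eq_zero one_ne_zero h2
      have := FiniteField.even_card_of_char_two (ringChar.eq F 2)
      omega
    rw [hc, index_omega_two hQ (genQ_of_card (Or.inr (by simp; omega))) h2 hn1, one_mul] at hX
    have hg : Nat.gcd 4 (q ^ (k + 1) + 1) = 1 := by
      have he' : q ^ (k + 1) % 2 = 0 := by rw [Nat.pow_mod, he, zero_pow (by omega), Nat.zero_mod]
      have h1 : 1 ≤ q ^ (k + 1) := Nat.one_le_pow _ _ hq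
      rw [show (4 : ℕ) = 2 ^ 2 by norm_num]
      refine Nat.Coprime.pow_left 2 ?_
      rw [Nat.coprime_two_left, Nat.odd_iff]
      omega
    rw [hg, one_mul]; omega
  · have hodd : Odd q := by
      rw [Nat.odd_iff]
      by_contra hne
      refine h2 ?_
      haveI := ringChar.of_eq (FiniteField.even_card_iff_char_two.2 (show Fintype.card F % 2 = 0 by omega))
      exact CharTwo.two_eq_zero
    rw [index_omega_odd hQ (genQ_odd hQ h2) h2 (by simp <;> omega)] at hX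
    have h1 : 1 ≤ q ^ (k + 1) := Nat.one_le_pow _ _ hq
    have h4 := Nat.odd_iff.1 (hodd.pow (n := k + 1))
    have hiff := S0791.result hF hodd (k + 1) (by omega) a b hab
    rw [Nat.add_sub_cancel, ← coe_qfMinus, ← hQdef] at hiff
    rw [Nat.gcd_rec]
    by_cases hs : q ^ (k + 1) % 4 = 3
    · rw [card_center_two hQ hT hn1 h2 (hiff.2 hs)] at hX
      rw [show (q ^ (k + 1) + 1) % 4 = 0 by omega, Nat.gcd_zero_left]
      omega
    · rw [card_center_one hQ hT hn1 fun g hg hgv => absurd (hiff.1 ⟨g, hg, hgv⟩) hs] at hX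
      rw [show (q ^ (k + 1) + 1) % 4 = 2 by omega, show Nat.gcd 2 4 = 2 by norm_num]
      omega

end Cfsg.Agent.S0294
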