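import Cfsg.Statements.S0305
import Mathlib
-- import your own Cfsg.Agent.* helpers here

set_option autoImplicit false
open Cfsg

namespace Cfsg.Agent.S0305

/-- GO^+_2(q) is dihedral of order 2(q-1). -/
theorem result {F : Type*} [Field F] [Fintype F] {q : ℕ} (hF : Fintype.card F = q) : Nonempty (Cfsg.isometryGroup F (Cfsg.quadFormPlus 1 F) ≃* DihedralGroup (q - 1)) := by
  classical
  subst hF
  obtain ⟨ω, hω⟩ := IsCyclic.exists_generator (α := Fˣ)
  set N := Fintype.card F - 1 with hN
  haveI : NeZero N := ⟨by have := Fintype.one_lt_card (α := F); omega⟩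
  have hord : orderOf ω = N := by
    rw [orderOf_eq_card_of_forall_mem_zpowers hω, Nat.card_eq_fintype_card, Fintype.card_units]
  have hpow : ω ^ N = 1 := hord ▸ pow_orderOf_eq_one ω
  let l : (Fin 1 ⊕ Fin 1) := .inl 0
  let r : (Fin 1 ⊕ Fin 1) := .inr 0
  -- the two kinds of isometries
  let D : Bool → Fˣ → Matrix (Fin 1 ⊕ Fin 1) (Fin 1 ⊕ Fin 1) F := fun s u => Matrix.of fun i j =>
    if s then (if i = j then 0 else if i = l then (u : F) else ((u⁻¹ : Fˣ) : F))
    else (if i = j then (if i = l then (u : F) else ((u⁻¹ : Fˣ) : F)) else 0)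
  have hall : ∀ i : (Fin 1 ⊕ Fin 1), i = l ∨ i = r := by rintro (i | i) <;> [left; right] <;> simp [l, r, Fin.fin_one_eq_zero i]
  have hlr : l ≠ r := by simp [l, r]
  have hmulD : ∀ s t u v, D s u * D t v = D (xor s t) (if s then u * v⁻¹ else u * v) := by
    intro s t u v
    ext i j
    rcases hall i with rfl | rfl <;> rcases hall j with rfl | rfl <;> cases s <;> cases t <;>
      simp [D, Matrix.mul_apply, Fintype.sum_sum_type, Fin.sum_univ_one, l, r, mul_comm]
  have hD1 : D false 1 = 1 := by
    ext i j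
    rcases hall i with rfl | rfl <;> rcases hall j with rfl | rfl <;> simp [D, l, r]
  let U : Bool → Fˣ → Matrix.GeneralLinearGroup (Fin 1 ⊕ Fin 1) F := fun s u =>
    ⟨D s u, D s (if s then u else u⁻¹), by rw [hmulD]; cases s <;> simp [hD1], by rw [hmulD]; cases s <;> simp [hD1]⟩
  have hiso : ∀ s u, U s u ∈ isometryGroup F (quadFormPlus 1 F) := by
    intro s u v w
    show quadFormPlus 1 F (Matrix.mulVec (D s u) v) = quadFormPlus 1 F v
    cases s <;> simp [quadFormPlus, D, Matrix.mulVec, dotProduct, Fintype.sum_sum_type, Fin.sum_univ_one, l] <;> field_simp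
  let rot : ZMod N → Fˣ := fun i => ω ^ i.val
  have hrot : ∀ i j, rot (i + j) = rot i * rot j := fun i j => by
    simp only [rot, ← pow_add]
    exact pow_eq_pow_iff_modEq.mpr (by rw [hord, ZMod.val_add]; exact Nat.mod_modEq _ _)
  have hrot0 : rot 0 = 1 := by simp [rot]
  have hrotn : ∀ i, rot (-i) = (rot i)⁻¹ := fun i =>
    eq_inv_of_mul_eq_one_left (by rw [← hrot, neg_add_cancel, hrot0])
  let f : DihedralGroup N → Matrix.GeneralLinearGroup (Fin 1 ⊕ Fin 1) F
    | .r i => U false (rot i)
    | .sr i => U true (rot (-i))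
  have hrots : ∀ i j, rot (i - j) = rot i * (rot j)⁻¹ := fun i j => by rw [sub_eq_add_neg, hrot, hrotn]
  let φ : DihedralGroup N →* isometryGroup F (quadFormPlus 1 F) := MonoidHom.mk'
    (fun x => ⟨f x, by cases x <;> exact hiso _ _⟩) (by
      rintro (i | i) (j | j) <;> refine Subtype.ext (Units.ext ?_)
      · show D false (rot (i + j)) = D false (rot i) * D false (rot j)
        rw [hmulD, hrot]; simp
      · show D true (rot (-(j - i))) = D false (rot i) * D true (rot (-j))
        rw [hmulD, neg_sub, hrots, hrotn]; simp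
      · show D true (rot (-(i + j))) = D true (rot (-i)) * D false (rot j)
        rw [hmulD, neg_add, hrot, hrotn, hrotn]; simp
      · show D false (rot (j - i)) = D true (rot (-i)) * D true (rot (-j))
        rw [hmulD, hrots, hrotn, hrotn]; simp [mul_comm])
  have hDinj : ∀ s t u v, D s u = D t v → s = t ∧ u = v := by
    intro s t u v h
    have h1 := congrFun (congrFun h l) l
    have h2 := congrFun (congrFun h l) r
    cases s <;> cases t <;> simp [D, l, r] at h1 h2 <;>
      first | exact ⟨rfl, Units.ext h1⟩ | exact ⟨rfl, Units.ext h2⟩ | exact absurd h1 (Units.ne_zero _) | exact absurd h1.symm (Units.ne_zero _)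
  have hrinj : Function.Injective rot := fun i j h => by
    apply ZMod.val_injective N
    have := pow_eq_pow_iff_modEq.mp h
    rw [hord] at this
    exact this.eq_of_lt_of_lt (ZMod.val_lt i) (ZMod.val_lt j)
  have hinj : Function.Injective φ := by
    rintro (i | i) (j | j) h <;> have h' := congrArg Units.val (congrArg Subtype.val h)
    on_goal 1 => replace h' := hDinj false false (rot i) (rot j) h'
    on_goal 2 => replace h' := hDinj false true (rot i) (rot (-j)) h'
    on_goal 3 => replace h' := hDinj true false (rot (-i)) (rot j) h'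
    on_goal 4 => replace h' := hDinj true true (rot (-i)) (rot (-j)) h'
    · exact congrArg _ (hrinj h'.2)
    · simp at h'
    · simp at h'
    · exact congrArg _ (neg_injective (hrinj h'.2))
  refine ⟨(MulEquiv.ofBijective φ ⟨hinj, fun g => ?_⟩).symm⟩
  have hg : ∀ v, quadFormPlus 1 F (Matrix.mulVec (g.1 : Matrix (Fin 1 ⊕ Fin 1) (Fin 1 ⊕ Fin 1) F) v) = quadFormPlus 1 F v := fun v => g.2 v v
  set M := (g.1 : Matrix (Fin 1 ⊕ Fin 1) (Fin 1 ⊕ Fin 1) F) with hM
  have e1 := hg (Pi.single l 1)
  have e2 := hg (Pi.single r 1)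
  have e3 := hg (Pi.single l 1 + Pi.single r 1)
  simp [quadFormPlus, Matrix.mulVec_add, l, r] at e1 e2 e3
  have hsurj : ∀ u : Fˣ, ∃ i : ZMod N, rot i = u := fun u => by
    obtain ⟨k, hk⟩ := (mem_powers_iff_mem_zpowers.mpr (hω u) : u ∈ Submonoid.powers ω)
    refine ⟨(k : ZMod N), ?_⟩
    show ω ^ (k : ZMod N).val = u
    rw [ZMod.val_natCast, ← hord, pow_mod_orderOf]; exact hk
  rcases e1 with h | h
  · have hb : M (.inr 0) (.inl 0) ≠ 0 := fun h' => by
      have := Matrix.GeneralLinearGroup.det_ne_zero g.1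
      exact this (Matrix.det_eq_zero_of_column_eq_zero (Sum.inl 0) fun i => by
        rcases hall i with rfl | rfl <;> assumption)
    have hd : M (.inr 0) (.inr 0) = 0 := by
      rcases e2 with h2 | h2
      · exfalso
        exact Matrix.GeneralLinearGroup.det_ne_zero g.1 (Matrix.det_eq_zero_of_row_eq_zero (Sum.inl 0) fun i => by
          rcases hall i with rfl | rfl <;> assumption)
      · exact h2
    rw [h, hd] at e3
    have e3' : M (.inl 0) (.inr 0) * M (.inr 0) (.inl 0) = 1 := by simpa [mul_comm] using e3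
    obtain ⟨i, hi⟩ := hsurj (Units.mk0 _ (left_ne_zero_of_mul_eq_one e3'))
    refine ⟨.sr (-i), Subtype.ext (Units.ext (Matrix.ext fun a b => ?_))⟩
    show D true (rot (- -i)) a b = M a b
    rw [neg_neg, hi]
    rcases hall a with rfl | rfl <;> rcases hall b with rfl | rfl <;> simp [D, l, r, h, hd]
    exact (eq_inv_of_mul_eq_one_right e3').symm
  · have hd : M (.inl 0) (.inr 0) = 0 := by
      rcases e2 with h2 | h2
      · exact h2
      · exfalso
        exact Matrix.GeneralLinearGroup.det_ne_zero g.1 (Matrix.det_eq_zero_of_row_eq_zero (Sum.inr 0) fun i => by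
          rcases hall i with rfl | rfl <;> assumption)
    rw [h, hd] at e3
    have e3' : M (.inl 0) (.inl 0) * M (.inr 0) (.inr 0) = 1 := by simpa [mul_comm] using e3
    obtain ⟨i, hi⟩ := hsurj (Units.mk0 _ (left_ne_zero_of_mul_eq_one e3'))
    refine ⟨.r i, Subtype.ext (Units.ext (Matrix.ext fun a b => ?_))⟩
    show D false (rot i) a b = M a b
    rw [hi]
    rcases hall a with rfl | rfl <;> rcases hall b with rfl | rfl <;> simp [D, l, r, h, hd]
    exact (eq_inv_of_mul_eq_one_right e3').symm

end Cfsg.Agent.S0305
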