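import Cfsg.Statements.S0306
import Cfsg.Agent.Lib.Classical.OrthBinary
-- import your own Cfsg.Agent.* helpers here

set_option autoImplicit false
open Cfsg

namespace Cfsg.Agent.S0306

/-- GO^-_2(q) is dihedral of order 2(q+1). -/
theorem result {F : Type*} [Field F] [Fintype F] {q : ℕ} (hF : Fintype.card F = q) (a b : F) (hab : ∀ z₁ z₂ : F, z₁ ^ 2 + a * z₁ * z₂ + b * z₂ ^ 2 = 0 → z₁ = 0 ∧ z₂ = 0) : Nonempty (Cfsg.isometryGroup F (Cfsg.quadFormMinus 0 F a b) ≃* DihedralGroup (q + 1)) := by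
  classical
  subst hF
  let e : ((Fin 0 ⊕ Fin 0) ⊕ Fin 2) ≃ Fin 2 := Equiv.emptySum _ _
  let ψ : GL (Fin 2) F ≃* GL ((Fin 0 ⊕ Fin 0) ⊕ Fin 2) F :=
    Units.mapEquiv (Matrix.reindexAlgEquiv F F e.symm).toMulEquiv
  have hq : ∀ v, quadFormMinus 0 F a b v = Cfsg.Agent.Classical.OrthBinary.q2 a b (v ∘ Sum.inr) :=
    fun v => by simp [quadFormMinus, Cfsg.Agent.Classical.OrthBinary.q2]
  have hψ : ∀ (g : GL (Fin 2) F) (v : (Fin 0 ⊕ Fin 0) ⊕ Fin 2 → F),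
      ((ψ g : GL ((Fin 0 ⊕ Fin 0) ⊕ Fin 2) F) : Matrix ((Fin 0 ⊕ Fin 0) ⊕ Fin 2) ((Fin 0 ⊕ Fin 0) ⊕ Fin 2) F).mulVec v ∘ Sum.inr =
        (g : Matrix (Fin 2) (Fin 2) F).mulVec (v ∘ Sum.inr) := by
    intro g v
    funext i
    show ∑ j, Matrix.reindexAlgEquiv F F e.symm (g : Matrix (Fin 2) (Fin 2) F) (Sum.inr i) j * v j =
      ∑ k, (g : Matrix (Fin 2) (Fin 2) F) i k * v (Sum.inr k)
    simp [Matrix.reindexAlgEquiv_apply, e]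
  have hmap : (Cfsg.Agent.Classical.OrthBinary.O2 a b).map ψ.toMonoidHom =
      isometryGroup F (quadFormMinus 0 F a b) := by
    ext x
    constructor
    · rintro ⟨g, hg, rfl⟩ u v
      show quadFormMinus 0 F a b (((ψ g : GL ((Fin 0 ⊕ Fin 0) ⊕ Fin 2) F) : Matrix ((Fin 0 ⊕ Fin 0) ⊕ Fin 2) ((Fin 0 ⊕ Fin 0) ⊕ Fin 2) F).mulVec u) = quadFormMinus 0 F a b u
      rw [hq, hq, hψ]
      exact Cfsg.Agent.Classical.OrthBinary.mem_O2.1 hg _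
    · intro hx
      obtain ⟨g, rfl⟩ := ψ.surjective x
      refine ⟨g, Cfsg.Agent.Classical.OrthBinary.mem_O2.2 fun z => ?_, rfl⟩
      have h : quadFormMinus 0 F a b (((ψ g : GL ((Fin 0 ⊕ Fin 0) ⊕ Fin 2) F) : Matrix ((Fin 0 ⊕ Fin 0) ⊕ Fin 2) ((Fin 0 ⊕ Fin 0) ⊕ Fin 2) F).mulVec
          (Sum.elim 0 z)) = quadFormMinus 0 F a b (Sum.elim 0 z) := hx _ (Sum.elim 0 z)
      rw [hq, hq, hψ, show ((Sum.elim 0 z : (Fin 0 ⊕ Fin 0) ⊕ Fin 2 → F) ∘ Sum.inr) = z from rfl] at h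
      exact h
  obtain ⟨i⟩ := Cfsg.Agent.Classical.OrthBinary.nonempty_O2_dihedral hab
  exact ⟨((MulEquiv.subgroupCongr hmap).symm.trans ((Cfsg.Agent.Classical.OrthBinary.O2 a b).equivMapOfInjective _ ψ.injective).symm).trans i⟩

end Cfsg.Agent.S0306
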