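import Cfsg.Statements.S0307
import Mathlib
import Cfsg.Agent.Lib.Classical.SLGroup


set_option autoImplicit false
open Cfsg

namespace Cfsg.Agent.S0307


/-- PSL_n(q) is normal in PGL_n(q) with cyclic quotient of order gcd(n, q-1): the image of the natural map PSL_n → PGL_n is the kernel of a surjective homomorphism onto the cyclic group of that order. -/
theorem result {F : Type*} [Field F] [Fintype F] {q : ℕ} (hF : Fintype.card F = q) (n : ℕ) (hn : 1 ≤ n) : ∃ g : Matrix.ProjGenLinGroup (Fin n) F →* Multiplicative (ZMod (Nat.gcd n (q - 1))), Function.Surjective g ∧ g.ker = (Matrix.ProjectiveSpecialLinearGroup.toPGL : Matrix.ProjectiveSpecialLinearGroup (Fin n) F →* Matrix.ProjGenLinGroup (Fin n) F).range := by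
  subst hF
  haveI : Nonempty (Fin n) := ⟨⟨0, hn⟩⟩
  set g := Nat.gcd n (Fintype.card F - 1) with hg
  haveI : NeZero g := ⟨by
    rw [hg]; exact (Nat.gcd_pos_of_pos_left _ hn).ne'⟩
  obtain ⟨u, hu⟩ := IsCyclic.exists_generator (α := Fˣ)
  have hcard : Nat.card Fˣ = Fintype.card F - 1 := Classical.natCard_units_field
  let e : Multiplicative (ZMod (Nat.card Fˣ)) ≃* Fˣ := zmodCyclicMulEquiv inferInstance
  have hgd : g ∣ Nat.card Fˣ := by rw [hcard]; exact Nat.gcd_dvd_right _ _
  let χ : Fˣ →* Multiplicative (ZMod g) :=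
    ((ZMod.castHom hgd (ZMod g)).toAddMonoidHom.toMultiplicative).comp e.symm.toMonoidHom
  have hχ : Function.Surjective χ :=
    ((Multiplicative.ofAdd.surjective).comp ((ZMod.castHom_surjective hgd).comp Multiplicative.toAdd.surjective)).comp e.symm.surjective
  have hker : ∀ a : Fˣ, χ a = 1 ↔ ∃ b : Fˣ, b ^ n = a := by
    intro a
    have hpow : ∀ b : Fˣ, χ (b ^ n) = 1 := fun b => by
      rw [map_pow]
      refine Multiplicative.toAdd.injective ?_
      rw [toAdd_pow, toAdd_one, nsmul_eq_mul, (ZMod.natCast_eq_zero_iff n g).2 (Nat.gcd_dvd_left _ _), zero_mul]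
    refine ⟨fun ha => ?_, fun ⟨b, hb⟩ => hb ▸ hpow b⟩
    have hle : (powMonoidHom n : Fˣ →* Fˣ).range ≤ χ.ker := by
      rintro _ ⟨b, rfl⟩; exact MonoidHom.mem_ker.2 (hpow b)
    have heq : (powMonoidHom n : Fˣ →* Fˣ).range = χ.ker := by
      refine Subgroup.eq_of_le_of_card_ge hle (le_of_eq ?_)
      have h1 := χ.ker.card_eq_card_quotient_mul_card_subgroup
      rw [Nat.card_congr (QuotientGroup.quotientKerEquivOfSurjective χ hχ).toEquiv, Nat.card_eq_fintype_card (α := Multiplicative (ZMod g)),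
        Fintype.card_multiplicative, ZMod.card] at h1
      have h2 := (powMonoidHom n : Fˣ →* Fˣ).ker.card_eq_card_quotient_mul_card_subgroup
      rw [Nat.card_congr (QuotientGroup.quotientKerEquivRange _).toEquiv, IsCyclic.card_powMonoidHom_ker,
        Nat.gcd_comm, hcard, ← hg, ← hcard, mul_comm] at h2
      exact Nat.eq_of_mul_eq_mul_left (Nat.pos_of_ne_zero (NeZero.ne g)) (h1.symm.trans h2)
    have : a ∈ (powMonoidHom n : Fˣ →* Fˣ).range := by rw [heq]; exact MonoidHom.mem_ker.2 ha
    exact this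
  let f : Matrix.GeneralLinearGroup (Fin n) F →* Multiplicative (ZMod g) := χ.comp Matrix.GeneralLinearGroup.det
  have hf : f.comp (Matrix.GeneralLinearGroup.scalar (Fin n)) = 1 := by
    ext a
    show χ (Matrix.GeneralLinearGroup.det _) = 1
    refine (hker _).2 ⟨a, Units.ext ?_⟩
    simp
  refine ⟨Matrix.ProjGenLinGroup.lift f hf, ?_, ?_⟩
  · intro y
    obtain ⟨a, ha⟩ := hχ y
    obtain ⟨A, hA⟩ := Matrix.GeneralLinearGroup.det_surjective (n := Fin n) a
    exact ⟨Matrix.ProjGenLinGroup.mk A, by rw [Matrix.ProjGenLinGroup.lift_mk]; show χ _ = y; rw [hA, ha]⟩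
  · ext y
    obtain ⟨A, rfl⟩ := Matrix.ProjGenLinGroup.mk_surjective y
    rw [MonoidHom.mem_ker, Matrix.ProjGenLinGroup.lift_mk]
    constructor
    · intro hA
      obtain ⟨b, hb⟩ := (hker _).1 hA
      have hdet : Matrix.det (((b⁻¹ : Fˣ) : F) • (A : Matrix (Fin n) (Fin n) F)) = 1 := by
        rw [Matrix.det_smul, Fintype.card_fin]
        have := congrArg Units.val hb
        simp only [Units.val_pow_eq_pow_val, Matrix.GeneralLinearGroup.val_det_apply] at this
        rw [← this, ← mul_pow, Units.inv_mul, one_pow]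
      refine ⟨QuotientGroup.mk (⟨_, hdet⟩ : Matrix.SpecialLinearGroup (Fin n) F), ?_⟩
      refine (Matrix.ProjectiveSpecialLinearGroup.toPGL_mk _).trans ?_
      rw [Matrix.ProjGenLinGroup.mk_eq_mk_iff]
      refine ⟨b, Units.ext ?_⟩
      simp [← Matrix.smul_eq_mul_diagonal]
      show (b : F) • (((b : F)⁻¹) • (A : Matrix (Fin n) (Fin n) F)) = _
      rw [smul_smul, mul_inv_cancel₀ b.ne_zero, one_smul]
    · rintro ⟨X, hX⟩
      induction X using QuotientGroup.induction_on with | H X => ?_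
      rw [Matrix.ProjectiveSpecialLinearGroup.toPGL_mk] at hX
      have h2 := Matrix.ProjGenLinGroup.lift_mk hf (Matrix.SpecialLinearGroup.toGL X)
      rw [hX, Matrix.ProjGenLinGroup.lift_mk] at h2
      rw [h2]
      show χ _ = 1
      refine (hker _).2 ⟨1, Units.ext ?_⟩
      simp

end Cfsg.Agent.S0307
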