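import Cfsg.Statements.S0310
import Cfsg.Agent.Lib.Lie.BNTits
-- import your own Cfsg.Agent.* helpers here

set_option autoImplicit false
open Cfsg

namespace Cfsg.Agent.S0310

/-- For a set `J` of distinguished generators, the subgroup generated by `B` and `J` is exactly the union of
the double cosets `B n B` with `n` in the subgroup generated by `J` (so `B W_J B` is a subgroup). -/
theorem result {G : Type*} [Group G] (P : Cfsg.BNPair G) {J : Set G}
    (hJ : J ⊆ P.S) (g : G) :
    g ∈ P.parabolic J ↔ ∃ n ∈ Subgroup.closure J, g ∈ DoubleCoset.doubleCoset n (P.B : Set G) P.B := by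
  rw [Lie.mem_parabolic_iff P hJ]
  constructor
  · rintro ⟨w, hw, hg⟩
    obtain ⟨l, -, el, hl⟩ := Lie.reduced_word_of_mem P hw
    obtain ⟨m, hm, em⟩ := Lie.exists_rep_of_word P l
    refine ⟨m, Subgroup.closure_mono ?_ hm, ?_⟩
    · rintro x ⟨s, hs, e⟩
      exact e ▸ hl s hs
    · rw [← el, ← em, Lie.cell_eq_doubleCoset] at hg
      exact hg
  · rintro ⟨n, hn, hg⟩
    have hN : n ∈ P.N := (Lie.exists_word_of_mem_closure P hJ hn).1
    exact ⟨_, Lie.proj_mem_weylPara P hJ hn hN, by rwa [Lie.cell_eq_doubleCoset]⟩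

end Cfsg.Agent.S0310
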