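import Cfsg.Statements.S0317
import Cfsg.Agent.Lib.Lie.BNTits
-- import your own Cfsg.Agent.* helpers here

set_option autoImplicit false
open Cfsg

namespace Cfsg.Agent.S0317

/-- The distinguished generators of the Weyl group of a (B,N)-pair are a minimal generating set: none of the
representatives lies in the subgroup generated by the remaining ones together with `B ⊓ N`. -/
theorem result {G : Type*} [Group G] (P : Cfsg.BNPair G) {s : G}
    (hs : s ∈ P.S) : s ∉ Subgroup.closure (P.S \ {s}) ⊔ (P.B ⊓ P.N) := by
  intro h
  have hsub : P.S \ {s} ⊆ P.S := Set.sdiff_subset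
  have hm : s ∈ P.parabolic (P.S \ {s}) :=
    (sup_le le_sup_right (inf_le_left.trans le_sup_left) :
      Subgroup.closure (P.S \ {s}) ⊔ (P.B ⊓ P.N) ≤ P.parabolic (P.S \ {s})) h
  have := Lie.parabolic_injective P (J := P.S \ {s}) (K := (P.S \ {s}) ∪ {s}) hsub
    (Set.union_subset hsub (Set.singleton_subset_iff.2 hs))
    (le_antisymm (sup_le le_sup_left (le_sup_of_le_right (Subgroup.closure_mono
      Set.subset_union_left))) (sup_le le_sup_left ((Subgroup.closure_le _).2
      (Set.union_subset (fun x hx => (le_sup_right : _ ≤ P.parabolic (P.S \ {s}))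
        (Subgroup.subset_closure hx)) (Set.singleton_subset_iff.2 hm)))))
  exact ((this ▸ Or.inr rfl : s ∈ P.S \ {s})).2 rfl

end Cfsg.Agent.S0317
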