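import Cfsg.Statements.S0321
import Cfsg.Agent.Lib.Lie.BNTits
-- import your own Cfsg.Agent.* helpers here

set_option autoImplicit false
open Cfsg

namespace Cfsg.Agent.S0321

/-- For `n ∈ N` not in `B`, the union `B ∪ B n B` is (the underlying set of) a subgroup exactly when `n` agrees
modulo `B ⊓ N` with one of the distinguished representatives; thus the distinguished involutions are
determined by `B` and `N`. -/
theorem result {G : Type*} [Group G] (P : Cfsg.BNPair G) {n : G}
    (hn : n ∈ P.N) (hnB : n ∉ P.B) :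
    (∃ H : Subgroup G, (H : Set G) = (P.B : Set G) ∪ DoubleCoset.doubleCoset n (P.B : Set G) P.B) ↔ ∃ s ∈ P.S, s⁻¹ * n ∈ P.B := by
  constructor
  · rintro ⟨H, hH⟩
    have hB : P.B ≤ H := fun x hx => by rw [← SetLike.mem_coe, hH]; exact Or.inl hx
    have hnH : n ∈ H := by
      rw [← SetLike.mem_coe, hH]
      exact Or.inr (DoubleCoset.mem_doubleCoset.2 ⟨1, one_mem P.B, 1, one_mem P.B, by simp⟩)
    obtain ⟨w, hw, hnw⟩ :=
      (Lie.mem_parabolic_iff P (J := {s | s ∈ P.S ∧ s ∈ H}) (fun s hs => hs.1)).1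
        (Lie.eq_parabolic P H hB ▸ hnH)
    obtain ⟨l, -, el, hlJ⟩ := Lie.reduced_word_of_mem P hw
    cases l with
    | nil =>
      rw [← el, Lie.wprod_nil, Lie.cell_one] at hnw
      exact absurd hnw hnB
    | cons s l =>
      have hs := hlJ s (by simp)
      refine ⟨s, s.2, ?_⟩
      have hsH : (s : G) ∈ (H : Set G) := hs.2
      rw [hH] at hsH
      rcases hsH with h | h
      · exact absurd h (Lie.s_notMem_B P s)
      · rw [← Lie.cell_eq_doubleCoset P ⟨n, hn⟩] at h
        exact (Lie.proj_eq P).1 (Lie.cell_unique P (Lie.mem_cell_self P (Lie.sN P s)) h)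
  · rintro ⟨s, hs, hsn⟩
    refine ⟨P.parabolic {s}, ?_⟩
    have hJ : ({s} : Set G) ⊆ P.S := Set.singleton_subset_iff.2 hs
    have hpn : Lie.proj P ⟨n, hn⟩ = Lie.refl P ⟨s, hs⟩ := ((Lie.proj_eq P).2 hsn).symm
    ext x
    rw [SetLike.mem_coe, Lie.mem_parabolic_iff P hJ, Set.mem_union,
      ← Lie.cell_eq_doubleCoset P ⟨n, hn⟩, hpn]
    constructor
    · rintro ⟨w, hw, hx⟩
      obtain ⟨l, hl, el, hlJ⟩ := Lie.reduced_word_of_mem P hw
      match l with
      | [] => left; rwa [← el, Lie.wprod_nil, Lie.cell_one] at hx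
      | [r] =>
        right
        have : r = ⟨s, hs⟩ := Subtype.ext (hlJ r (by simp))
        rwa [← el, this, Lie.wprod_cons, Lie.wprod_nil, mul_one] at hx
      | a :: b :: l =>
        exfalso
        have h1 : a = b := Subtype.ext ((hlJ a (by simp)).trans (hlJ b (by simp)).symm)
        subst h1
        rw [← el, Lie.wprod_cons, Lie.wprod_cons, Lie.refl_cancel] at hl
        have := Lie.len_le P l
        simp at hl
        omega
    · rintro (h | h)
      · exact ⟨1, one_mem _, by rw [Lie.cell_one]; exact h⟩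
      · exact ⟨_, Lie.refl_mem_weylPara P (show ((⟨s, hs⟩ : P.S) : G) ∈ ({s} : Set G) from rfl), h⟩

end Cfsg.Agent.S0321
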