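import Cfsg.Statements.S0322
import Cfsg.Agent.Lib.Lie.BNTits
-- import your own Cfsg.Agent.* helpers here

set_option autoImplicit false
open Cfsg

namespace Cfsg.Agent.S0322

/-- A group with a (B,N)-pair of rank one acts doubly transitively on the left cosets of `B`. -/
theorem result {G : Type*} [Group G] (P : Cfsg.BNPair G) (h : P.rank = 1) : MulAction.IsMultiplyPretransitive G (G ⧸ P.B) 2 := by
  obtain ⟨hne, hfin⟩ := Nat.card_pos_iff.1 (show 0 < Nat.card P.S by rw [← BNPair.rank, h]; omega)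
  obtain ⟨hsub, ⟨s⟩⟩ := Nat.card_eq_one_iff_unique.1 h
  have hword : ∀ (l : List P.S), Lie.wprod P l = 1 ∨ Lie.wprod P l = Lie.refl P s := by
    intro l
    induction l with
    | nil => exact Or.inl rfl
    | cons r l ih =>
      rw [Lie.wprod_cons, Subsingleton.elim r s]
      rcases ih with e | e <;> rw [e]
      · right; rw [mul_one]
      · left; exact Lie.refl_mul_self P s
  have key : ∀ g : G, g ∉ P.B → ∃ b ∈ P.B, ∃ c ∈ P.B, g = b * (s : G) * c := by
    intro g hg
    obtain ⟨w, hw⟩ := Lie.exists_cell P g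
    obtain ⟨l, rfl⟩ := Lie.exists_word P w
    rcases hword l with e | e <;> rw [e] at hw
    · rw [Lie.cell_one] at hw; exact absurd hw hg
    · exact (Lie.mem_cell_proj P).1 hw
  rw [MulAction.is_two_pretransitive_iff]
  have key2 : ∀ a b : G ⧸ P.B, a ≠ b → ∃ g : G, g • (QuotientGroup.mk 1 : G ⧸ P.B) = a ∧
      g • (QuotientGroup.mk (s : G) : G ⧸ P.B) = b := by
    intro a b
    induction a using QuotientGroup.induction_on with
    | H x =>
    induction b using QuotientGroup.induction_on with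
    | H y =>
    intro hxy
    obtain ⟨b₁, h₁, c, hc, e⟩ := key (x⁻¹ * y) (fun hm => hxy (QuotientGroup.eq.2 hm))
    refine ⟨x * b₁, ?_, ?_⟩
    · rw [MulAction.Quotient.smul_mk, smul_eq_mul, mul_one]
      exact QuotientGroup.eq.2 (by simpa using h₁)
    · rw [MulAction.Quotient.smul_mk, smul_eq_mul]
      refine QuotientGroup.eq.2 ?_
      rw [show y = x * (x⁻¹ * y) by group, e]
      simpa [mul_assoc] using hc
  intro a b c d hab hcd
  obtain ⟨g, hg1, hg2⟩ := key2 a b hab
  obtain ⟨k, hk1, hk2⟩ := key2 c d hcd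
  refine ⟨k * g⁻¹, ?_, ?_⟩
  · rw [mul_smul, inv_smul_eq_iff.2 hg1.symm, hk1]
  · rw [mul_smul, inv_smul_eq_iff.2 hg2.symm, hk2]

end Cfsg.Agent.S0322
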