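import Cfsg.Statements.S0323
import Cfsg.Agent.Lib.Lie.BNPair
-- import your own Cfsg.Agent.* helpers here

set_option autoImplicit false
open scoped Pointwise
open Cfsg

namespace Cfsg.Agent.S0323

/-- A doubly transitive action on a set with at least three points yields a (B,N)-pair of rank one:
`B` is the stabiliser of a point `x`, `N` the setwise stabiliser of a pair `{x, y}`. -/
theorem result {G Ω : Type*} [Group G] [MulAction G Ω]
    (h2 : MulAction.IsMultiplyPretransitive G Ω 2) {x y z : Ω} (hxy : x ≠ y) (hyz : y ≠ z) (hxz : x ≠ z) :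
    ∃ P : Cfsg.BNPair G, P.B = MulAction.stabilizer G x ∧
      P.N = MulAction.stabilizer G ({x, y} : Set Ω) ∧ P.rank = 1 := by
  rw [MulAction.is_two_pretransitive_iff] at h2
  obtain ⟨s, hsx, hsy⟩ := h2 hxy hxy.symm
  let B : Subgroup G := MulAction.stabilizer G x
  let N : Subgroup G := MulAction.stabilizer G ({x, y} : Set Ω)
  have mB : ∀ {g : G}, g ∈ B ↔ g • x = x := fun {g} => MulAction.mem_stabilizer_iff
  have mN : ∀ {g : G}, g ∈ N → g • x = x ∨ g • x = y := fun {g} hg => by
    have h : g • ({x, y} : Set Ω) = {x, y} := hg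
    have := h ▸ Set.smul_mem_smul_set (a := g) (show x ∈ ({x, y} : Set Ω) by simp)
    simpa using this
  have mN' : ∀ {g : G}, g ∈ N → g • x = x → g • y = y := fun {g} hg hgx => by
    have h : g • ({x, y} : Set Ω) = {x, y} := hg
    have := h ▸ Set.smul_mem_smul_set (a := g) (show y ∈ ({x, y} : Set Ω) by simp)
    simp only [Set.mem_insert_iff, Set.mem_singleton_iff] at this
    exact this.resolve_left fun e => hxy (smul_left_cancel g (hgx.trans e.symm))
  have hsN : s ∈ N := by
    show s • ({x, y} : Set Ω) = {x, y}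
    simp [Set.smul_set_insert, hsx, hsy, Set.pair_comm]
  have cross : ∀ (g k : G), g • x ≠ x → k • x ≠ x → ∃ b ∈ B, (b * g) • x = k • x := by
    intro g k hg hk
    obtain ⟨b, hb, hb'⟩ := h2 (Ne.symm hg) (Ne.symm hk)
    exact ⟨b, mB.2 hb, by rw [mul_smul, hb']⟩
  have big : ∀ (g k : G), g ∉ B → k ∉ B →
      g ∈ DoubleCoset.doubleCoset k (B : Set G) B := by
    intro g k hg hk
    obtain ⟨b, hb, e⟩ := cross k g (fun h => hk (mB.2 h)) (fun h => hg (mB.2 h))

    refine DoubleCoset.mem_doubleCoset.2 ⟨b, hb, (b * k)⁻¹ * g, mB.2 ?_, by group⟩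
    rw [mul_smul, ← e, inv_smul_smul]
  have hsB : s ∉ B := fun h => hxy ((mB.1 h).symm.trans hsx)
  refine ⟨{ B := B, N := N, S := {s}, sup_eq_top := ?_, conj_mem := ?_, subset := ?_,
            sq_mem := ?_, inj := ?_, closure_sup := ?_, mul_mem_union := ?_, conj_ne := ?_ },
    rfl, rfl, ?_⟩
  · refine eq_top_iff.2 fun g _ => ?_
    by_cases hg : g ∈ B
    · exact Subgroup.mem_sup_left hg
    · obtain ⟨a, ha, b, hb, rfl⟩ := DoubleCoset.mem_doubleCoset.1 (big g s hg hsB)
      exact mul_mem (mul_mem (Subgroup.mem_sup_left ha) (Subgroup.mem_sup_right hsN))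
        (Subgroup.mem_sup_left hb)
  · rintro n hn t ⟨htB, htN⟩
    have hty := mN' htN (mB.1 htB)
    have hn' : n⁻¹ • x = x ∨ n⁻¹ • x = y := mN (inv_mem hn)
    refine mB.2 ?_
    rw [mul_smul, mul_smul]
    rcases hn' with e | e <;> rw [e]
    · rw [mB.1 htB, inv_smul_eq_iff.1 e |>.symm]
    · rw [hty, inv_smul_eq_iff.1 e |>.symm]
  · simpa using hsN
  · rintro t rfl
    exact mB.2 (by rw [mul_smul, hsx, hsy])
  · rintro a rfl b rfl -
    rfl
  · refine le_antisymm (sup_le ((Subgroup.closure_le _).2 (by simpa using hsN)) inf_le_right)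
      fun n hn => ?_
    rcases mN hn with e | e
    · exact Subgroup.mem_sup_right ⟨mB.2 e, hn⟩
    · rw [show n = s * (s⁻¹ * n) by group]
      refine mul_mem (Subgroup.mem_sup_left (Subgroup.subset_closure rfl))
        (Subgroup.mem_sup_right ⟨mB.2 ?_, N.mul_mem (N.inv_mem hsN) hn⟩)
      rw [mul_smul, e, inv_smul_eq_iff, hsx]
  · rintro t rfl n hn b hb
    by_cases hn' : n ∈ B
    · by_cases hm : t * b * n ∈ B
      · exact absurd (show t ∈ B by
          simpa [mul_assoc] using mul_mem hm (inv_mem (mul_mem hb hn'))) hsB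
      · left
        exact big _ _ hm fun h => hsB (by simpa [mul_assoc] using B.mul_mem h (B.inv_mem hn'))
    · have e : n • x = y := (mN hn).resolve_left fun h => hn' (mB.2 h)
      have htn : t * n ∈ B := mB.2 (by rw [mul_smul, e, hsy])
      by_cases hm : t * b * n ∈ B
      · left
        exact DoubleCoset.mem_doubleCoset.2
          ⟨1, one_mem B, (t * n)⁻¹ * (t * b * n), mul_mem (inv_mem htn) hm, by group⟩
      · right
        exact big _ _ hm hn'
  · rintro t rfl h
    obtain ⟨g, hgx, hgy⟩ := h2 hxy hxz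
    have : t * g * t ∈ B := by
      rw [← SetLike.mem_coe, ← h]
      exact ⟨g, mB.2 hgx, rfl⟩
    have h' := mB.1 this
    rw [mul_smul, mul_smul, hsx, hgy] at h'
    exact hyz (smul_left_cancel t (hsy.trans h'.symm))
  · show Nat.card ({s} : Set G) = 1
    simp

end Cfsg.Agent.S0323
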