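import Cfsg.Statements.S0341
import Cfsg.Agent.Lib.Lie.RegularNormalDegree

set_option autoImplicit false
open Cfsg

namespace Cfsg.Agent.S0341

/-- If a finite group acts faithfully and doubly transitively, no non-identity element fixes three points, some
non-identity element fixes two points, and some normal subgroup acts regularly, then the number of points
is `2^p` with `p` prime. -/
theorem result {G Ω : Type*} [Group G]
    [MulAction G Ω] [Fintype Ω] [FaithfulSMul G Ω] (h2 : MulAction.IsMultiplyPretransitive G Ω 2)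
    (h3 : ∀ g : G, ∀ a b c : Ω, a ≠ b → b ≠ c → a ≠ c → g • a = a → g • b = b → g • c = c → g = 1)
    (hfix : ∃ g : G, g ≠ 1 ∧ ∃ a b : Ω, a ≠ b ∧ g • a = a ∧ g • b = b)
    (N : Subgroup G) [N.Normal] (hNt : MulAction.IsPretransitive N Ω)
    (hNr : ∀ a : Ω, MulAction.stabilizer N a = ⊥) :
    ∃ p : ℕ, p.Prime ∧ Fintype.card Ω = 2 ^ p := by
  classical
  haveI : Finite G := Finite.of_injective (MulAction.toPermHom G Ω) MulAction.toPerm_injective
  obtain ⟨g₁, hg₁, a, b₁, hab₁, hga, hgb⟩ := hfix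
  have htw : ∀ {a b c d : Ω}, a ≠ b → c ≠ d → ∃ g : G, g • a = c ∧ g • b = d :=
    fun {a b c d} h h' => MulAction.is_two_pretransitive_iff.1 h2 h h'
  have hbij : Function.Bijective (fun x : N => x • a) :=
    ⟨fun x y e => by
      have hm : y⁻¹ * x ∈ MulAction.stabilizer N a := by
        rw [MulAction.mem_stabilizer_iff, mul_smul, show x • a = y • a from e, inv_smul_smul]
      rw [hNr a, Subgroup.mem_bot, inv_mul_eq_one] at hm
      exact hm.symm,
    fun c => MulAction.exists_smul_eq N a c⟩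
  set H := MulAction.stabilizer G a with hH
  have hconj : ∀ (h : H) (x : N), (h : G) • (x • a) = MulAut.conjNormal (h : G) x • a := by
    intro h x
    show (h : G) • ((x : G) • a) = ((MulAut.conjNormal (h : G) x : N) : G) • a
    rw [MulAut.conjNormal_apply, mul_smul, mul_smul,
      inv_smul_eq_iff.2 (MulAction.mem_stabilizer_iff.1 h.2).symm]
  have htrans : ∀ x y : N, x ≠ 1 → y ≠ 1 → ∃ h : H, MulAut.conjNormal (h : G) x = y := by
    intro x y hx hy
    have hxa : a ≠ x • a := fun e => hx (hbij.1 ((one_smul N a).trans e).symm)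
    have hya : a ≠ y • a := fun e => hy (hbij.1 ((one_smul N a).trans e).symm)
    obtain ⟨g, hg1, hg2⟩ := htw hxa hya
    refine ⟨⟨g, hg1⟩, hbij.1 ?_⟩
    show MulAut.conjNormal g x • a = y • a
    rw [← hconj ⟨g, hg1⟩ x]
    exact hg2
  have hfix2 : ∀ h : H, h ≠ 1 → ∀ x y : N, x ≠ 1 → y ≠ 1 → MulAut.conjNormal (h : G) x = x →
      MulAut.conjNormal (h : G) y = y → x = y := by
    intro h h1 x y hx hy ex ey
    by_contra hne
    refine h1 (Subtype.ext (h3 h a (x • a) (y • a) (fun e => hx (hbij.1 ((one_smul N a).trans e).symm))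
      (fun e => hne (hbij.1 e)) (fun e => hy (hbij.1 ((one_smul N a).trans e).symm)) h.2 ?_ ?_))
    · rw [hconj, ex]
    · rw [hconj, ey]
  have hex : ∀ x : N, x ≠ 1 → ∃ h : H, h ≠ 1 ∧ MulAut.conjNormal (h : G) x = x := by
    intro x hx
    obtain ⟨t, ht1, ht2⟩ := htw hab₁ (fun e => hx (hbij.1 ((one_smul N a).trans e).symm) : a ≠ x • a)
    have hm : t * g₁ * t⁻¹ ∈ H := by
      rw [MulAction.mem_stabilizer_iff, mul_smul, mul_smul, inv_smul_eq_iff.2 ht1.symm, hga, ht1]
    refine ⟨⟨_, hm⟩, fun e => hg₁ (conj_eq_one_iff.1 (congrArg Subtype.val e)), hbij.1 ?_⟩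
    show MulAut.conjNormal (t * g₁ * t⁻¹) x • a = x • a
    rw [← hconj ⟨_, hm⟩ x]
    show (t * g₁ * t⁻¹) • (x • a) = x • a
    rw [mul_smul, mul_smul, inv_smul_eq_iff.2 ht2.symm, hgb, ht2]
  have hsq : ∀ x : N, x * x = 1 := by
    intro x
    by_contra hxx
    have hx : x ≠ 1 := fun e => hxx (by rw [e, mul_one])
    obtain ⟨h, h1, hh⟩ := hex x hx
    exact hx (mul_eq_left.1 (hfix2 h h1 x (x * x) hx hxx hh (by rw [map_mul, hh])).symm)
  have hcomm : ∀ x y : N, x * y = y * x := fun x y =>
    calc x * y = (x * y)⁻¹ := (inv_eq_of_mul_eq_one_right (hsq _)).symm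
      _ = y⁻¹ * x⁻¹ := mul_inv_rev x y
      _ = y * x := by rw [inv_eq_of_mul_eq_one_right (hsq y), inv_eq_of_mul_eq_one_right (hsq x)]
  letI : CommGroup N := { (inferInstance : Group N) with mul_comm := hcomm }
  haveI : Finite N := Subgroup.instFiniteSubtypeMem N
  letI : Module (ZMod 2) (Additive N) := AddCommGroup.zmodModule (fun v => by
    rw [two_nsmul]; exact hsq (Additive.toMul v))
  let ρ : H →* (Additive N ≃ₗ[ZMod 2] Additive N) :=
    { toFun := fun h => (MulEquiv.toAdditive (MulAut.conjNormal (h : G) : N ≃* N)).toLinearEquiv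
        (ZMod.map_smul (MulEquiv.toAdditive (MulAut.conjNormal (h : G) : N ≃* N)).toAddMonoidHom)
      map_one' := LinearEquiv.ext fun v => by
        show Additive.ofMul (MulAut.conjNormal ((1 : H) : G) (Additive.toMul v)) = v
        rw [Subgroup.coe_one, map_one]
        rfl
      map_mul' := fun h k => LinearEquiv.ext fun v => by
        show Additive.ofMul (MulAut.conjNormal ((h * k : H) : G) (Additive.toMul v)) = _
        rw [Subgroup.coe_mul, map_mul]
        rfl }
  have hρ : ∀ (h : H) (v : Additive N), ρ h v = Additive.ofMul (MulAut.conjNormal (h : G) (Additive.toMul v)) :=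
    fun h v => rfl
  have hcard : Fintype.card Ω = 2 ^ Module.finrank (ZMod 2) (Additive N) := by
    rw [← Nat.card_eq_fintype_card, ← Nat.card_eq_of_bijective _ hbij,
      show Nat.card N = Nat.card (Additive N) from Nat.card_congr Additive.ofMul,
      Recog.HuppertCases.card_V (q := 2)]
  refine ⟨_, Lie.RegularNormalDegree.finrank_prime (ρ := ρ) ?_ ?_ ?_ ?_, hcard⟩
  · intro v w hv hw
    obtain ⟨h, hh⟩ := htrans (Additive.toMul v) (Additive.toMul w) hv hw
    exact ⟨h, by rw [hρ, hh]; rfl⟩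
  · intro h h1 v w hv hw ev ew
    exact hfix2 h h1 (Additive.toMul v) (Additive.toMul w) hv hw ev ew
  · refine (injective_iff_map_eq_one _).2 fun h hh => Subtype.ext (FaithfulSMul.eq_of_smul_eq_smul (α := Ω) fun c => ?_)
    obtain ⟨x, rfl⟩ := hbij.2 c
    show (h : G) • (x • a) = (1 : G) • (x • a)
    rw [one_smul, hconj]
    exact congrArg (· • a) (LinearEquiv.ext_iff.1 hh (Additive.ofMul x))
  · obtain ⟨x, hx⟩ := hbij.2 b₁
    have hx1 : x ≠ 1 := fun e => hab₁ (by rw [← hx, e]; exact (one_smul N a).symm)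
    obtain ⟨h, h1, hh⟩ := hex x hx1
    exact ⟨h, h1, Additive.ofMul x, hx1, congrArg Additive.ofMul hh⟩

end Cfsg.Agent.S0341
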