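import Cfsg.Statements.S0345
import Cfsg.Agent.Lib.Grp.ZasSimple
-- import your own Cfsg.Agent.* helpers here

set_option autoImplicit false
open Cfsg

namespace Cfsg.Agent.S0345

/-- In a finite simple Zassenhaus group the stabiliser `H` of two points `a ≠ b` is cyclic, and some involution
interchanging `a` and `b` inverts every element of `H`. -/
theorem result {G Ω : Type*} [Group G] [Finite G] [MulAction G Ω] [Finite Ω]
    (hZ : Cfsg.IsZassenhausGroup G Ω) [IsSimpleGroup G]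
    {a b : Ω} (hab : a ≠ b) :
    IsCyclic ↥(MulAction.stabilizer G a ⊓ MulAction.stabilizer G b) ∧
      ∃ v : G, orderOf v = 2 ∧ v • a = b ∧ v • b = a ∧ ∀ h ∈ MulAction.stabilizer G a ⊓ MulAction.stabilizer G b, v * h * v⁻¹ = h⁻¹ := by
  classical
  obtain ⟨D, rfl, rfl⟩ := Agent.Block.Zas.frame_of_zassenhaus hZ hab
  obtain ⟨hc, hs⟩ := Agent.Grp.ZasS.swaps D (D.two_le_F hZ) (D.H_ne_bot hZ)
  obtain ⟨v, hva, hvb⟩ := D.two D.hab D.b_ne
  refine ⟨hc, v, orderOf_eq_prime (by rw [sq]; exact (hs v hva hvb).1) (fun e => D.hab ?_), hva, hvb,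
    (hs v hva hvb).2⟩
  rwa [e, one_smul] at hva

end Cfsg.Agent.S0345
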