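import Cfsg.Statements.S0353
import Cfsg.Agent.Lib.Spor.SteinerTables

set_option autoImplicit false
open Cfsg

namespace Cfsg.Agent.S0353

open Cfsg.Agent.Spor.Steiner in
theorem aux {α : Type*} [Fintype α] [DecidableEq α] (hα : Fintype.card α = 24)
    {B : Set (Finset α)} (hB : Cfsg.IsSteinerSystem 5 8 B) {b c : Finset α}
    (hb : b ∈ B) (hc : c ∈ B) (h4 : (b ∩ c).card = 4) : symmDiff b c ∈ B := by
  classical
  have hb8 := card_eq hB hb
  have hc8 := card_eq hB hc
  have hd : ∀ d : Finset α, d ∩ symmDiff b c = symmDiff (d ∩ b) (d ∩ c) := by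
    intro d; ext x; simp [Finset.mem_symmDiff]; tauto
  have key : ∀ d : Finset α, (symmDiff b c ∩ d).card + 2 * (b ∩ c ∩ d).card =
      (b ∩ d).card + (c ∩ d).card := by
    intro d
    have e1 : symmDiff b c ∩ d = (b ∩ d) \ c ∪ (c ∩ d) \ b := by
      ext x; simp [Finset.mem_symmDiff]; tauto
    have e2 : Disjoint ((b ∩ d) \ c) ((c ∩ d) \ b) := by
      rw [Finset.disjoint_left]; intro x; simp; tauto
    rw [e1, Finset.card_union_of_disjoint e2]
    have f1 := Finset.card_sdiff_add_card_inter (b ∩ d) c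
    have f2 := Finset.card_sdiff_add_card_inter (c ∩ d) b
    have g1 : b ∩ d ∩ c = b ∩ c ∩ d := by ext x; simp; tauto
    have g2 : c ∩ d ∩ b = b ∩ c ∩ d := by ext x; simp; tauto
    rw [g1] at f1
    rw [g2] at f2
    omega
  have heven : ∀ {x d : Finset α}, x ∈ B → d ∈ B → (x ∩ d).card % 2 = 0 := by
    intro x d hx hd'
    by_cases h : x = d
    · subst h; rw [Finset.inter_self, card_eq hB hx]
    · rcases card_inter824 hα hB hx hd' h with e | e | e <;> omega
  have hA : (symmDiff b c).card = 8 := by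
    have h := key Finset.univ
    simp at h
    omega
  have hodd : ∀ i, i % 2 = 1 → meetCount B (symmDiff b c) i = 0 := by
    intro i hi
    refine meetCount_eq_zero fun d hd' e => ?_
    have := key d
    have h1 := heven hb hd'
    have h2 := heven hc hd'
    rw [Finset.inter_comm] at e
    omega
  obtain ⟨-, -, -, -, -, e5⟩ := eqns824 hα hB (symmDiff b c) (n := 9) (by omega)
  simp [Finset.sum_range_succ, hodd 5 rfl, hodd 7 rfl, hA, Nat.choose] at e5
  have h8 : 0 < meetCount B (symmDiff b c) 8 := by omega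
  obtain ⟨d, hd'⟩ := Finset.card_pos.mp h8
  obtain ⟨hdB, hcard⟩ := Finset.mem_filter.mp hd'
  rw [mem_blocks] at hdB
  have h1 : d ∩ symmDiff b c = d := Finset.eq_of_subset_of_card_le Finset.inter_subset_left
    (by rw [hcard, card_eq hB hdB])
  have h2 : d ∩ symmDiff b c = symmDiff b c :=
    Finset.eq_of_subset_of_card_le Finset.inter_subset_right (by rw [hcard, hA])
  rw [← h2, h1]
  exact hdB

/-- In an S(5, 8, 24), the symmetric difference of two blocks meeting in four points is a block. -/
theorem result {α : Type*} [Fintype α] [DecidableEq α] (hα : Fintype.card α = 24) {B : Set (Finset α)} (hB : Cfsg.IsSteinerSystem 5 8 B) {b c : Finset α} (hb : b ∈ B) (hc : c ∈ B) (h4 : (b ∩ c).card = 4) : symmDiff b c ∈ B := by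
  exact aux hα hB hb hc h4

end Cfsg.Agent.S0353
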