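import Cfsg.Statements.S0357
import Cfsg.Agent.Lib.Spor.SteinerTables

set_option autoImplicit false
open Cfsg

namespace Cfsg.Agent.S0357

/-- In a Steiner system S(5, 6, 12), the complement of every block is again a block. -/
theorem result {α : Type*} [Fintype α] [DecidableEq α] (hα : Fintype.card α = 12) {B : Set (Finset α)} (hB : Cfsg.IsSteinerSystem 5 6 B) {b : Finset α} (hb : b ∈ B) : bᶜ ∈ B := by
  have h := (Cfsg.Agent.Spor.Steiner.table612 hα hB hb).1
  obtain ⟨c, hc⟩ := Finset.card_pos.mp (h.symm ▸ Nat.one_pos :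
    0 < Cfsg.Agent.Spor.Steiner.meetCount B b 0)
  obtain ⟨hcB, hcard⟩ := Finset.mem_filter.mp hc
  rw [Cfsg.Agent.Spor.Steiner.mem_blocks] at hcB
  have hsub : c ⊆ bᶜ := fun x hx => Finset.mem_compl.mpr fun hxb => by
    have : x ∈ c ∩ b := Finset.mem_inter.mpr ⟨hx, hxb⟩
    rw [Finset.card_eq_zero.mp hcard] at this
    exact Finset.notMem_empty x this
  have heq : c = bᶜ := Finset.eq_of_subset_of_card_le hsub (by
    rw [Finset.card_compl, hα, hB.1 b hb, hB.1 c hcB])
  exact heq ▸ hcB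

end Cfsg.Agent.S0357
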