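import Cfsg.Statements.S0367
import Cfsg.Agent.Lib.Spor.Golay.M24Facts

set_option autoImplicit false
open scoped Pointwise
open Cfsg

namespace Cfsg.Agent.S0367

/-- The permutation group preserving the length-24 code is transitive on octads. -/
theorem result (o o' : Finset Cfsg.GolayPt) (ho : o ∈ Cfsg.octads) (ho' : o' ∈ Cfsg.octads) : ∃ g : Cfsg.M24, g • o = o' := by
  obtain ⟨g, hg, rfl⟩ := Cfsg.Agent.Spor.Golay.exists_smul_octA ho
  obtain ⟨h, hh, rfl⟩ := Cfsg.Agent.Spor.Golay.exists_smul_octA ho'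
  refine ⟨⟨h * g⁻¹, Cfsg.M24.mul_mem hh (Cfsg.M24.inv_mem hg)⟩, ?_⟩
  show (h * g⁻¹) • (g • Cfsg.Agent.Spor.Golay.pts Cfsg.Agent.Spor.Golay.octA) =
    h • Cfsg.Agent.Spor.Golay.pts Cfsg.Agent.Spor.Golay.octA
  rw [mul_smul, inv_smul_smul]

end Cfsg.Agent.S0367
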