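import Cfsg.Statements.S0371
import Cfsg.Agent.Lib.Spor.Golay.Basic

set_option autoImplicit false
open Cfsg

namespace Cfsg.Agent.S0371

/-- Multiplication by a nonzero square residue modulo 23, fixing the extra point, lies in the group of the length-24 code. -/
theorem result (u : (ZMod 23)ˣ) (hu : IsSquare u) : Equiv.optionCongr (Units.mulLeft u) ∈ Cfsg.M24 := by
  have hall : ∀ x : ZMod 23, (∃ r : ZMod 23, x = r * r) → x ≠ 0 →
      Cfsg.Agent.Spor.Golay.basis.all (fun b => Cfsg.Agent.Spor.Golay.isCode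
        (Cfsg.Agent.Spor.Golay.imgMask (fun i => Cfsg.Agent.Spor.Golay.idx
          (Option.map (x * ·) (Cfsg.Agent.Spor.Golay.pt i))) b)) = true := by
    decide +kernel
  haveI : Fact (Nat.Prime 23) := ⟨by norm_num⟩
  obtain ⟨r, hr⟩ := hu
  refine Cfsg.Agent.Spor.Golay.mem_M24_of_fun (Option.map ((u : ZMod 23) * ·)) (fun p => ?_)
    (hall u ⟨r, by rw [hr]; rfl⟩ (Units.ne_zero u))
  cases p <;> rfl

end Cfsg.Agent.S0371
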