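import Cfsg.Statements.S0377
import Cfsg.Agent.Lib.Spor.Golay.CensusSimple
import Cfsg.Agent.Lib.Spor.Golay.CensusElem
import Cfsg.Agent.Lib.Spor.Golay.CensusNested
import Cfsg.Agent.Lib.Spor.Golay.M24Frames

set_option autoImplicit false
open Cfsg

namespace Cfsg.Agent.S0377

open Cfsg.Agent.Spor.Golay Cfsg.Agent.Spor.Golay.Census
open scoped Pointwise

/-- A point stabiliser in the group of the length-24 code is simple. -/
theorem result (p : Cfsg.GolayPt) : IsSimpleGroup (MulAction.stabilizer Cfsg.M24 p) := by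
  haveI := simple_M23
  haveI := M24_pretransitive1
  obtain ⟨a, rfl⟩ := MulAction.exists_smul_eq Cfsg.M24 (pt 0) p
  have hK : ∀ g : Cfsg.M24, g ∈ MulAction.stabilizer Cfsg.M24 (pt 0) ↔ (g : Equiv.Perm Cfsg.GolayPt) ∈ Fx [[1]] := by
    intro g
    rw [← stabilizer_pts, MulAction.mem_stabilizer_iff, MulAction.mem_stabilizer_iff, Subgroup.smul_def, Subgroup.smul_def,
      show (1 : ℕ) = 2 ^ 0 from rfl, smul_pts_point (by norm_num)]
    rfl
  exact (stdEquiv hK a).symm.isSimpleGroup_congr.mp inferInstance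

end Cfsg.Agent.S0377
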