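import Cfsg.Statements.S0381
import Cfsg.Agent.Lib.Spor.Golay.M24Facts

set_option autoImplicit false
open Cfsg

namespace Cfsg.Agent.S0381

open Cfsg.Agent.Spor.Golay
open scoped Pointwise
theorem fix_octA (k : Equiv.Perm Cfsg.GolayPt) :
    k ∈ Fix [] sixA ↔ k ∈ Cfsg.M24 ∧ ∀ p ∈ pts octA, k p = p := by
  constructor
  · intro hk
    obtain ⟨i, hi, hv, rfl⟩ := eq_permOf_of_mem_sixA hk
    refine ⟨(mem_Fix.mp hk).1, fun p hp => idx_injective ?_⟩
    obtain ⟨-, -, -, -, h, -⟩ := octA_checks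
    rw [dd_checks.2.2.2.2.1] at h
    simp only [List.all_cons, List.all_nil, Bool.and_true, List.all_eq_true, List.mem_range,
      Bool.or_eq_true, Bool.not_eq_true', beq_iff_eq] at h
    rw [idx_permOf hv]
    rcases h i hi (idx p) (idx_lt p) with h | h
    · rw [mem_pts, h] at hp; exact absurd hp Bool.false_ne_true
    · exact h
  · rintro ⟨hk, h⟩
    refine mem_Fix.mpr ⟨hk, by simp, fun b hb => h _ ?_⟩
    revert b
    decide +kernel

/-- The pointwise stabiliser of an octad in the group of the length-24 code has order 16 and every element of it squares to the identity. -/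
theorem result (o : Finset Cfsg.GolayPt) (ho : o ∈ Cfsg.octads) : Nat.card ↥(Cfsg.M24 ⊓ fixingSubgroup (Equiv.Perm Cfsg.GolayPt) (o : Set Cfsg.GolayPt)) = 16 ∧ ∀ g ∈ Cfsg.M24 ⊓ fixingSubgroup (Equiv.Perm Cfsg.GolayPt) (o : Set Cfsg.GolayPt), g * g = 1 := by
  obtain ⟨g, hg, rfl⟩ := exists_smul_octA ho
  have hiff : ∀ k, k ∈ Cfsg.M24 ⊓ fixingSubgroup (Equiv.Perm Cfsg.GolayPt)
      ((g • pts octA : Finset Cfsg.GolayPt) : Set Cfsg.GolayPt) ↔ g⁻¹ * k * g ∈ Fix [] sixA := by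
    intro k
    rw [Subgroup.mem_inf, mem_fixingSubgroup_iff, fix_octA]
    constructor
    · rintro ⟨hk, h⟩
      refine ⟨Cfsg.M24.mul_mem (Cfsg.M24.mul_mem (Cfsg.M24.inv_mem hg) hk) hg, fun p hp => ?_⟩
      have := h (g p) (Finset.mem_coe.mpr (Finset.smul_mem_smul_finset hp))
      rw [Equiv.Perm.smul_def] at this
      simp [this]
    · rintro ⟨hk, h⟩
      refine ⟨by simpa [mul_assoc] using
        Cfsg.M24.mul_mem (Cfsg.M24.mul_mem hg hk) (Cfsg.M24.inv_mem hg), fun q hq => ?_⟩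
      obtain ⟨p, hp, rfl⟩ := Finset.mem_smul_finset.mp (Finset.mem_coe.mp hq)
      have := h p hp
      simp only [Equiv.Perm.mul_apply, Equiv.Perm.inv_eq_iff_eq] at this
      exact this
  refine ⟨?_, fun k hk => ?_⟩
  · rw [← card_Fix_sixA]
    exact Nat.card_congr (Equiv.subtypeEquiv (MulAut.conj g⁻¹).toEquiv
      (fun k => (hiff k).trans (by simp)))
  · obtain ⟨i, hi, hv, he⟩ := eq_permOf_of_mem_sixA ((hiff k).mp hk)
    have hsq := List.all_eq_true.mp dd_checks.2.2.2.2.2.2 i hi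
    rw [beq_iff_eq] at hsq
    have h2 : (g⁻¹ * k * g) * (g⁻¹ * k * g) = 1 := by
      rw [he, ← permOf_comp hv hv, hsq, permOf_idP]
    have h3 := congrArg (fun z => g * z * g⁻¹) h2
    simpa [mul_assoc] using h3

end Cfsg.Agent.S0381
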