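import Cfsg.Statements.S0384
import Cfsg.Agent.Lib.Spor.Golay.M24Frames

set_option autoImplicit false
open scoped Pointwise
open Cfsg

namespace Cfsg.Agent.S0384

open Cfsg.Agent.Spor.Golay
open scoped Pointwise

/-- A dodecad stabiliser is sharply 5-transitive on the dodecad. -/
theorem result (d : Finset Cfsg.GolayPt) (hd : d ∈ Cfsg.dodecads) (x y : Fin 5 ↪ Cfsg.GolayPt) (hx : ∀ i, x i ∈ d) (hy : ∀ i, y i ∈ d) : ∃! g : MulAction.stabilizer Cfsg.M24 d, ∀ i, ((g : Cfsg.M24) : Equiv.Perm Cfsg.GolayPt) (x i) = y i := by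
  obtain ⟨g, hg, hgd, hgx⟩ := exists_frame_dodecad hd x hx
  obtain ⟨h, hh, hhd, hhy⟩ := exists_frame_dodecad hd y hy
  have hmem : h * g⁻¹ ∈ Cfsg.M24 := Cfsg.M24.mul_mem hh (Cfsg.M24.inv_mem hg)
  have hst : (⟨h * g⁻¹, hmem⟩ : Cfsg.M24) ∈ MulAction.stabilizer Cfsg.M24 d := by
    show (h * g⁻¹) • d = d
    rw [mul_smul, ← hgd, inv_smul_smul, hgd, hhd]
  refine ⟨⟨⟨h * g⁻¹, hmem⟩, hst⟩, fun i => ?_, ?_⟩
  · show (h * g⁻¹) (x i) = y i
    rw [Equiv.Perm.mul_apply, ← hgx i, Equiv.Perm.coe_inv, Equiv.symm_apply_apply, hhy i]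
  · intro k hk
    have hkd : ((k : Cfsg.M24) : Equiv.Perm Cfsg.GolayPt) • d = d := k.2
    have h1 := eq_one_of_fix_dodecad hd x hx
      (k := (h * g⁻¹)⁻¹ * ((k : Cfsg.M24) : Equiv.Perm Cfsg.GolayPt))
      (Cfsg.M24.mul_mem (Cfsg.M24.inv_mem hmem) k.1.2)
      (by rw [mul_smul, hkd]; exact inv_smul_eq_iff.mpr hst.symm)
      (fun i => by
        rw [Equiv.Perm.mul_apply, hk i, Equiv.Perm.inv_eq_iff_eq]
        rw [Equiv.Perm.mul_apply, ← hgx i, Equiv.Perm.coe_inv, Equiv.symm_apply_apply, hhy i])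
    exact Subtype.ext (Subtype.ext (inv_mul_eq_one.mp h1).symm)

end Cfsg.Agent.S0384
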