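import Cfsg.Statements.S0385
import Cfsg.Agent.Lib.Spor.Golay.Cosets

set_option autoImplicit false
open Cfsg

namespace Cfsg.Agent.S0385

open Cfsg.Agent.Spor.Golay
open scoped symmDiff

/-- The 6-point intersections of octads with a fixed dodecad form a Steiner system S(5, 6, 12) on the dodecad. -/
theorem result (d : Finset Cfsg.GolayPt) (hd : d ∈ Cfsg.dodecads) : Cfsg.IsSteinerSystem 5 6 {h : Finset {p : Cfsg.GolayPt // p ∈ d} | ∃ o ∈ Cfsg.octads, (o ∩ d).card = 6 ∧ h = Finset.subtype (fun p => p ∈ d) o} := by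
  classical
  refine ⟨?_, fun s hs => ?_⟩
  · rintro h ⟨o, ho, h6, rfl⟩
    rw [Finset.card_subtype, Finset.filter_mem_eq_inter]
    exact h6
  · let e : {p : Cfsg.GolayPt // p ∈ d} ↪ Cfsg.GolayPt := Function.Embedding.subtype _
    obtain ⟨o, ⟨ho, hso⟩, huniq⟩ := octads_steiner.2 (s.map e) (by rw [Finset.card_map, hs])
    have hsd : s.map e ⊆ d := fun p hp => by
      obtain ⟨q, -, rfl⟩ := Finset.mem_map.mp hp
      exact q.2
    have h5 : 5 ≤ (o ∩ d).card := by
      rw [← hs, ← Finset.card_map e]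
      exact Finset.card_le_card (Finset.subset_inter hso hsd)
    have hle : (o ∩ d).card ≤ 8 := (octad_card ho) ▸ Finset.card_le_card Finset.inter_subset_left
    have h1 := card_symmDiff_add o d
    rw [octad_card ho, hd.2] at h1
    have h6 : (o ∩ d).card = 6 := by
      rcases card_code (symmDiff_mem_supports ho.1 hd.1) with e | e | e | e | e <;> omega
    refine ⟨Finset.subtype (fun p => p ∈ d) o, ⟨⟨o, ho, h6, rfl⟩, fun q hq =>
      Finset.mem_subtype.mpr (hso (Finset.mem_map_of_mem e hq))⟩, ?_⟩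
    rintro h ⟨⟨o', ho', -, rfl⟩, hsub⟩
    rw [huniq o' ⟨ho', fun p hp => by
      obtain ⟨q, hq, rfl⟩ := Finset.mem_map.mp hp
      exact Finset.mem_subtype.mp (hsub hq)⟩]

end Cfsg.Agent.S0385
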