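import Cfsg.Statements.S0386
import Cfsg.Agent.Lib.Spor.Golay.Cosets
import Cfsg.Agent.Lib.Spor.SteinerTables

set_option autoImplicit false
open Cfsg

namespace Cfsg.Agent.S0386

open Cfsg.Agent.Spor.Golay Cfsg.Agent.Spor.Steiner
open scoped symmDiff

/-- For a fixed dodecad, 132 octads meet it in 6 points, 132 in 2 points and 495 in 4 points. -/
theorem result (d : Finset Cfsg.GolayPt) (hd : d ∈ Cfsg.dodecads) : {o : Finset Cfsg.GolayPt | o ∈ Cfsg.octads ∧ (o ∩ d).card = 6}.ncard = 132 ∧ {o : Finset Cfsg.GolayPt | o ∈ Cfsg.octads ∧ (o ∩ d).card = 2}.ncard = 132 ∧ {o : Finset Cfsg.GolayPt | o ∈ Cfsg.octads ∧ (o ∩ d).card = 4}.ncard = 495 := by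
  have hval : ∀ o ∈ Cfsg.octads, (o ∩ d).card = 2 ∨ (o ∩ d).card = 4 ∨ (o ∩ d).card = 6 := by
    intro o ho
    have h1 := card_symmDiff_add o d
    have hle : (o ∩ d).card ≤ 8 := (octad_card ho) ▸ Finset.card_le_card Finset.inter_subset_left
    rw [octad_card ho, hd.2] at h1
    rcases card_code (symmDiff_mem_supports ho.1 hd.1) with e | e | e | e | e <;> omega
  have hz : ∀ i, i ≠ 2 → i ≠ 4 → i ≠ 6 → meetCount Cfsg.octads d i = 0 := fun i a b c =>
    meetCount_eq_zero fun o ho e => by rcases hval o ho with h | h | h <;> omega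
  have hc : d.card = 12 := hd.2
  obtain ⟨e0, e1, e2, -, -, -⟩ := eqns824 card_golayPt octads_steiner d (n := 13) (by omega)
  simp [Finset.sum_range_succ, hz 0, hz 1, hz 3, hz 5, hz 7, hz 8, hz 9, hz 10, hz 11, hz 12, hc,
    Nat.choose] at e0 e1 e2
  simp only [← meetCount_eq_ncard]
  omega

end Cfsg.Agent.S0386
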