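import Cfsg.Statements.S0389
import Cfsg.Agent.Lib.Spor.Golay.M24Frames

set_option autoImplicit false
open scoped Pointwise
open Cfsg

namespace Cfsg.Agent.S0389

open Cfsg.Agent.Spor.Golay
open scoped Pointwise
theorem checks : lowOk table [dd] [(chainP.getD 0 (0, 0, [])).1] (chainP.drop 1) = true ∧
    idxOk tableLen (chainP.drop 1) = true ∧
    fullOk (16777215 ^^^ dd) [(chainP.getD 0 (0, 0, [])).1] (chainP.drop 1) = true ∧
    (chainP.drop 1).length = 3 ∧
    base5 0 = pt (chainP.getD 0 (0, 0, [])).1 ∧ dd.testBit (chainP.getD 0 (0, 0, [])).1 = true := by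
  decide +kernel

theorem frame {d : Finset Cfsg.GolayPt} (hd : d ∈ Cfsg.dodecads) {p : Cfsg.GolayPt} (hp : p ∈ d)
    (x : Fin 3 ↪ Cfsg.GolayPt) (hx : ∀ i, x i ∉ d) :
    ∃ g ∈ Cfsg.M24, g • pts dd = d ∧ g (base5 0) = p ∧
      ∀ i : Fin 3, g (pt ((chainP.drop 1).getD i.val (0, 0, [])).1) = x i := by
  obtain ⟨hlow, hn, hfull, hlen, hb0, -⟩ := checks
  have h5 : 5 ≤ d.card := by rw [hd.2]; norm_num
  obtain ⟨z, hz⟩ := exists_five d h5
  obtain ⟨g, hg, hgd, hgx⟩ := exists_frame_dodecad hd (z.trans (Equiv.swap (z 0) p).toEmbedding)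
    (fun i => by
      show Equiv.swap (z 0) p (z i) ∈ d
      rw [Equiv.swap_apply_def]; split_ifs <;> first | exact hp | exact hz _)
  have hgp : g (base5 0) = p := (hgx 0).trans (Equiv.swap_apply_left _ _)
  obtain ⟨k, hk, he⟩ := exists_tuple tableOk (U := 16777215 ^^^ dd) (chainP.drop 1)
    [(chainP.getD 0 (0, 0, [])).1] hlow hn hfull (fun k hk => by
      have h := (mem_Fix.mp hk).2.1 dd (List.mem_singleton_self _)
      rw [← pts_compl]
      ext q
      rw [Finset.mem_compl, Finset.mem_smul_finset]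
      constructor
      · rintro ⟨r, hr, rfl⟩
        rw [Equiv.Perm.smul_def, apply_mem_of_smul_eq h]
        exact Finset.mem_compl.mp hr
      · intro hq
        refine ⟨k.symm q, Finset.mem_compl.mpr fun hr => hq ?_, Equiv.apply_symm_apply k q⟩
        simpa using (apply_mem_of_smul_eq h).mpr hr)
    (List.ofFn fun i => (g⁻¹ : Equiv.Perm Cfsg.GolayPt) (x i)) (by rw [List.length_ofFn, hlen])
    (List.nodup_ofFn.mpr fun i j h => x.injective ((g⁻¹ : Equiv.Perm Cfsg.GolayPt).injective h))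
    (fun y hy => by
      obtain ⟨i, rfl⟩ := List.mem_ofFn.mp hy
      have hnot : (g⁻¹ : Equiv.Perm Cfsg.GolayPt) (x i) ∉ pts dd := fun hc => hx i (by
        have := (apply_mem_of_smul_eq hgd).mpr hc
        simpa using this)
      refine ⟨by rw [← pts_compl, Finset.mem_compl]; exact hnot, fun b hb hbe => hnot ?_⟩
      rw [List.mem_singleton] at hb
      rw [hbe, hb, ← hb0]
      exact base5_dd)
  obtain ⟨k1, k2, k3⟩ := mem_Fix.mp hk
  refine ⟨g * k, Cfsg.M24.mul_mem hg k1, by rw [mul_smul, k2 dd (List.mem_singleton_self _), hgd],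
    by rw [Equiv.Perm.mul_apply, hb0, k3 _ (List.mem_singleton_self _), ← hb0, hgp], fun i => ?_⟩
  rw [List.length_ofFn] at he
  have := congrArg (fun L => L[i.val]?) he
  have hki : k (pt ((chainP.drop 1).getD i.val (0, 0, [])).1) =
      (g⁻¹ : Equiv.Perm Cfsg.GolayPt) (x i) := by
    fin_cases i <;> simpa [chainP] using this
  rw [Equiv.Perm.mul_apply, hki, Equiv.Perm.coe_inv, Equiv.apply_symm_apply]
where
  base5_dd : base5 0 ∈ pts dd := by decide +kernel

/-- The stabiliser of a dodecad and a point on it is 3-transitive on the complementary dodecad. -/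
theorem result (d : Finset Cfsg.GolayPt) (hd : d ∈ Cfsg.dodecads) (p : Cfsg.GolayPt) (hp : p ∈ d) (x y : Fin 3 ↪ Cfsg.GolayPt) (hx : ∀ i, x i ∉ d) (hy : ∀ i, y i ∉ d) : ∃ g ∈ MulAction.stabilizer Cfsg.M24 d ⊓ MulAction.stabilizer Cfsg.M24 p, ∀ i, (g : Equiv.Perm Cfsg.GolayPt) (x i) = y i := by
  obtain ⟨g, hg, hgd, hgp, hgx⟩ := frame hd hp x hx
  obtain ⟨h, hh, hhd, hhp, hhy⟩ := frame hd hp y hy
  refine ⟨⟨h * g⁻¹, Cfsg.M24.mul_mem hh (Cfsg.M24.inv_mem hg)⟩, ⟨?_, ?_⟩, fun i => ?_⟩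
  · show (h * g⁻¹) • d = d
    rw [mul_smul, ← hgd, inv_smul_smul, hgd, hhd]
  · show (h * g⁻¹) p = p
    rw [Equiv.Perm.mul_apply, ← hgp, Equiv.Perm.coe_inv, Equiv.symm_apply_apply, hhp, hgp]
  · show (h * g⁻¹) (x i) = y i
    rw [Equiv.Perm.mul_apply, ← hgx i, Equiv.Perm.coe_inv, Equiv.symm_apply_apply, hhy i]

end Cfsg.Agent.S0389
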