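import Cfsg.Statements.S0406
import Cfsg.Agent.Lib.Spor.LeechUnique.Final

set_option autoImplicit false
open Matrix
open Cfsg

namespace Cfsg.Agent.S0406

open Cfsg.Agent.Spor.LeechUnique

/-- A rank-24 even lattice with no roots and the stated numbers of vectors of norms 4, 6, 8 is isomorphic to the Leech lattice. -/
theorem result (B : Matrix (Fin 24) (Fin 24) ℤ) (hsymm : B.IsSymm) (hpos : ∀ x : Fin 24 → ℤ, x ≠ 0 → 0 < x ⬝ᵥ (B *ᵥ x)) (heven : ∀ x : Fin 24 → ℤ, (2 : ℤ) ∣ x ⬝ᵥ (B *ᵥ x)) (h2 : ∀ x : Fin 24 → ℤ, x ⬝ᵥ (B *ᵥ x) ≠ 2) (h4 : {x : Fin 24 → ℤ | x ⬝ᵥ (B *ᵥ x) = 4}.ncard = 196560) (h6 : {x : Fin 24 → ℤ | x ⬝ᵥ (B *ᵥ x) = 6}.ncard = 16773120) (h8 : {x : Fin 24 → ℤ | x ⬝ᵥ (B *ᵥ x) = 8}.ncard = 398034000) : ∃ f : (Fin 24 → ℤ) ≃+ Cfsg.leechLattice, ∀ x : Fin 24 → ℤ, Cfsg.sqNorm ((f x : Cfsg.leechLattice) : Cfsg.GolayPt → ℤ) = 8 * (x ⬝ᵥ (B *ᵥ x)) := by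
  have h : Props B := ⟨hsymm, hpos, heven, h2, h4, h6, h8⟩
  obtain ⟨e, he, ho, hc⟩ := exists_frame h
  obtain ⟨s, σ, hs, him, hsur⟩ := image_eq (coord_mHyp h he ho hc)
  let f0 : (Fin 24 → ℤ) →+ Cfsg.leechLattice :=
    ((monomial s σ).comp (coordHom B e)).codRestrict Cfsg.leechLattice fun v => him _ ⟨v, rfl⟩
  have hinj : Function.Injective f0 := fun u v huv => by
    refine coord_injective h he ho (funext fun i => ?_)
    have h1 := congrFun (congrArg Subtype.val huv) (σ i)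
    simp only [f0, AddMonoidHom.codRestrict_apply, AddMonoidHom.comp_apply, monomial,
      AddMonoidHom.coe_mk, ZeroHom.coe_mk, Equiv.symm_apply_apply] at h1
    rcases hs i with e1 | e1 <;> rw [e1] at h1 <;> linarith
  have hsurj : Function.Surjective f0 := fun y => by
    obtain ⟨_, ⟨v, rfl⟩, hx⟩ := hsur _ y.2
    exact ⟨v, Subtype.ext hx⟩
  refine ⟨AddEquiv.ofBijective f0 ⟨hinj, hsurj⟩, fun v => ?_⟩
  have h1 := nrm_coord h he ho v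
  rw [ip] at h1
  rw [← h1]
  show Cfsg.sqNorm ((f0 v : Cfsg.leechLattice) : Cfsg.GolayPt → ℤ) = _
  rw [Cfsg.sqNorm, ← σ.sum_comp]
  refine Finset.sum_congr rfl fun i _ => ?_
  show (s (σ.symm (σ i)) * coordHom B e v (σ.symm (σ i))) ^ 2 = _
  rw [Equiv.symm_apply_apply]
  rcases hs i with e1 | e1 <;> rw [e1] <;> ring

end Cfsg.Agent.S0406
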