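import Cfsg.Statements.S0421
import Cfsg.Agent.Lib.Invol.Order95040.Structure
import Cfsg.Agent.Lib.Fus.MathieuTwoGroups
import Cfsg.Agent.Lib.Spor.Golay.M24Facts

set_option autoImplicit false
open scoped Pointwise
open Cfsg

namespace Cfsg.Agent.S0421

/-- Simple groups of order 95040 are all isomorphic to the concrete Mathieu group of degree 12. -/
theorem result {G : Type*} [Group G] [Finite G] (hG : Cfsg.IsM12 G) (d : Finset Cfsg.GolayPt) (hd : d ∈ Cfsg.dodecads) : Nonempty (G ≃* ↥(MulAction.stabilizer Cfsg.M24 d)) := by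
  obtain ⟨hs, hc⟩ := hG
  haveI := hs
  obtain ⟨e⟩ := Cfsg.Agent.Invol.M12Ord.isoM12_of_card (G := G) hc
  let φ : ↥Cfsg.Spor.M12 ≃* ↥(MulAction.stabilizer Cfsg.M24 Cfsg.Spor.squareDodecad) :=
    { toFun := fun g => ⟨⟨g.1, g.2.1⟩, g.2.2⟩
      invFun := fun g => ⟨g.1.1, ⟨g.1.2, g.2⟩⟩
      left_inv := fun g => rfl
      right_inv := fun g => rfl
      map_mul' := fun a b => rfl }
  obtain ⟨a, ha, hsq⟩ := Cfsg.Agent.Spor.Golay.exists_smul_dd Cfsg.Agent.Fus.Mathieu.square_mem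
  obtain ⟨b, hb, hd'⟩ := Cfsg.Agent.Spor.Golay.exists_smul_dd hd
  have h : ((⟨b, hb⟩ : Cfsg.M24) * (⟨a, ha⟩ : Cfsg.M24)⁻¹) • Cfsg.Spor.squareDodecad = d := by
    rw [← hsq, mul_smul]
    show b • a⁻¹ • a • _ = d
    rw [inv_smul_smul, hd']
  exact ⟨(e.trans φ).trans (MulAction.stabilizerEquivStabilizer h.symm)⟩

end Cfsg.Agent.S0421
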