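import Cfsg.Statements.S0423
import Cfsg.Agent.Lib.Spor.J2.U3
-- import your own Cfsg.Agent.* helpers here

set_option autoImplicit false
open Cfsg

namespace Cfsg.Agent.S0423

/-- Existence of a simple group of order 604800. -/
theorem result : ∃ G : Subgroup (Equiv.Perm (Fin 100)), Cfsg.IsJ2 G := by
  classical
  haveI := J2Cert.simple_J2
  let H := J2Cert.HU
  have hidx : Nat.card (Cfsg.Spor.J2 ⧸ H) = 100 := by
    rw [← Subgroup.index_eq_card]; exact J2Cert.index_HU
  haveI : Finite (Cfsg.Spor.J2 ⧸ H) := Nat.finite_of_card_ne_zero (by rw [hidx]; norm_num)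
  let e : (Cfsg.Spor.J2 ⧸ H) ≃ Fin 100 := Finite.equivFinOfCardEq hidx
  let φ : Cfsg.Spor.J2 →* Equiv.Perm (Fin 100) :=
    e.permCongrHom.toMonoidHom.comp (MulAction.toPermHom Cfsg.Spor.J2 (Cfsg.Spor.J2 ⧸ H))
  have hinj : Function.Injective φ := by
    rw [← MonoidHom.ker_eq_bot_iff]
    refine (IsSimpleGroup.eq_bot_or_eq_top_of_normal φ.ker inferInstance).resolve_right fun htop => ?_
    have hall : ∀ g : Cfsg.Spor.J2, g ∈ H := fun g => by
      have hg : φ g = 1 := MonoidHom.mem_ker.1 (htop ▸ Subgroup.mem_top g)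
      have h1 := congrArg (fun p => e.symm (p (e ((1 : Cfsg.Spor.J2) : Cfsg.Spor.J2 ⧸ H)))) hg
      simp [φ, MulAction.toPermHom_apply, QuotientGroup.eq] at h1
      simpa using H.inv_mem h1
    have : H.index = 1 := Subgroup.index_eq_one.2 (eq_top_iff.2 fun g _ => hall g)
    rw [J2Cert.index_HU] at this
    norm_num at this
  let eq' := MonoidHom.ofInjective hinj
  refine ⟨φ.range, ?_, ?_⟩
  · exact eq'.symm.isSimpleGroup
  · rw [← Nat.card_congr eq'.toEquiv]
    exact J2Cert.card_J2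

end Cfsg.Agent.S0423
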