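import Cfsg.Statements.S0427
import Cfsg.Agent.Lib.Spor.Steiner622Graph

set_option autoImplicit false
open Cfsg

namespace Cfsg.Agent.S0427

/-- The block graph (adjacent = disjoint) of an S(3, 6, 22) is strongly regular with parameters (77, 16, 0, 4). -/
theorem result {α : Type*} [Fintype α] (hα : Fintype.card α = 22) {B : Set (Finset α)} (hB : Cfsg.IsSteinerSystem 3 6 B) [Fintype B] [DecidableRel (Cfsg.blockGraph B).Adj] : (Cfsg.blockGraph B).IsSRGWith 77 16 0 4 := by
  classical
  open Cfsg.Agent.Spor.Steiner in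
  have hn : Finset.card (blocks B) = 77 := by
    have := blocks_card hB
    simp [hα, Nat.choose] at this
    omega
  open Cfsg.Agent.Spor.Steiner in
  have hadj : ∀ b c : B, (Cfsg.blockGraph B).Adj b c ↔ Disjoint (b : Finset α) c := by
    intro b c
    simp only [Cfsg.blockGraph, SimpleGraph.fromRel_adj, disjoint_comm (a := (c : Finset α)), or_self]
    exact ⟨And.right, fun h => ⟨fun e => not_disjoint_self622 hB b.2 (e ▸ h), h⟩⟩
  open Cfsg.Agent.Spor.Steiner in
  have hcn : ∀ b c : B, b ≠ c → Fintype.card ((Cfsg.blockGraph B).commonNeighbors b c) =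
      if Disjoint (b : Finset α) c then 0 else 4 := by
    intro b c hne
    rw [← Nat.card_eq_fintype_card, Nat.card_coe_set_eq,
      ← common_disjoint622 hα hB b.2 c.2 (fun e => hne (Subtype.ext e)),
      ← ncard_subtype (fun d => Disjoint (b : Finset α) d ∧ Disjoint (c : Finset α) d)]
    congr 1
    ext d
    simp [SimpleGraph.mem_commonNeighbors, hadj]
  refine ⟨?_, fun b => ?_, fun b c h => ?_, fun b c hne h => ?_⟩
  · rw [← Nat.card_eq_fintype_card, Nat.card_coe_set_eq, Cfsg.Agent.Spor.Steiner.ncard_eq_card, hn]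
  · rw [← SimpleGraph.card_neighborSet_eq_degree, ← Nat.card_eq_fintype_card, Nat.card_coe_set_eq,
      ← Cfsg.Agent.Spor.Steiner.disjoint_count622 hα hB b.2,
      ← Cfsg.Agent.Spor.Steiner.ncard_subtype (fun d => Disjoint (b : Finset α) d)]
    congr 1
    ext d
    simp [hadj]
  · rw [hcn b c h.ne, if_pos ((hadj b c).mp h)]
  · rw [hcn b c hne, if_neg fun h' => h ((hadj b c).mpr h')]

end Cfsg.Agent.S0427
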