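import Cfsg.Statements.S0428
import Cfsg.Agent.Lib.Spor.Steiner622Graph

set_option autoImplicit false
open Cfsg

namespace Cfsg.Agent.S0428

open Cfsg.Agent.Spor.Steiner in
theorem aux {α : Type*} [Fintype α] [DecidableEq α] (hα : Fintype.card α = 22)
    {B : Set (Finset α)} (hB : Cfsg.IsSteinerSystem 3 6 B) [Fintype B]
    [DecidableRel (Cfsg.pointBlockGraph B).Adj]
    (v w : Option (α ⊕ B)) :
    {x | (Cfsg.pointBlockGraph B).Adj v x}.ncard = 22 ∧
    (v ≠ w → {x | (Cfsg.pointBlockGraph B).Adj v x ∧ (Cfsg.pointBlockGraph B).Adj w x}.ncard =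
      if (Cfsg.pointBlockGraph B).Adj v w then 0 else 6) := by
  classical
  have hns : ∀ b : B, ¬Disjoint (b : Finset α) b := fun b => not_disjoint_self622 hB b.2
  have hpp : ∀ a a' : α, ¬(Cfsg.pointBlockGraph B).Adj (some (Sum.inl a)) (some (Sum.inl a')) := by
    intro a a'; simp [Cfsg.pointBlockGraph, Cfsg.pointBlockRel]
  have hbb : ∀ b c : B, (Cfsg.pointBlockGraph B).Adj (some (Sum.inr b)) (some (Sum.inr c)) ↔
      Disjoint (b : Finset α) c := by
    intro b c
    simp only [Cfsg.pointBlockGraph, SimpleGraph.fromRel_adj, Cfsg.pointBlockRel,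
      disjoint_comm (a := (c : Finset α)), or_self]
    exact ⟨And.right, fun h => ⟨fun e => hns b (by
      obtain rfl : b = c := by simpa using e
      exact h), h⟩⟩
  have hpb : ∀ (a : α) (b : B), ((Cfsg.pointBlockGraph B).Adj (some (Sum.inl a)) (some (Sum.inr b)) ↔
      a ∈ (b : Finset α)) ∧ ((Cfsg.pointBlockGraph B).Adj (some (Sum.inr b)) (some (Sum.inl a)) ↔
      a ∈ (b : Finset α)) := by
    intro a b; simp [Cfsg.pointBlockGraph, Cfsg.pointBlockRel]
  have hbp := fun a b => (hpb a b).2
  replace hpb := fun a b => (hpb a b).1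
  have hnp : ∀ a : α, (Cfsg.pointBlockGraph B).Adj none (some (Sum.inl a)) ∧
      (Cfsg.pointBlockGraph B).Adj (some (Sum.inl a)) none := by
    intro a; simp [Cfsg.pointBlockGraph, Cfsg.pointBlockRel]
  have hnb : ∀ b : B, ¬(Cfsg.pointBlockGraph B).Adj none (some (Sum.inr b)) ∧
      ¬(Cfsg.pointBlockGraph B).Adj (some (Sum.inr b)) none := by
    intro b; simp [Cfsg.pointBlockGraph, Cfsg.pointBlockRel]
  have hone : ∀ a : α, Finset.card {d ∈ blocks B | a ∈ d} = 21 := by
    intro a
    have := blocks_through hB (s := {a}) (by simp)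
    simp [hα, Nat.choose] at this
    omega
  have h6 : ∀ b : B, (b : Finset α).card = 6 := fun b => card_eq hB b.2
  have htwo : ∀ a a' : α, a ≠ a' → Finset.card {d ∈ blocks B | a ∈ d ∧ a' ∈ d} = 5 := by
    intro a a' hne
    have := blocks_through hB (s := {a, a'}) (by rw [Finset.card_pair hne]; omega)
    simp [hα, Finset.card_pair hne, Nat.choose, Finset.insert_subset_iff] at this
    omega
  have hcd := @common_disjoint622 α _ _ B hα hB
  have htd := @through_disjoint622 α _ _ B hα hB
  rw [ncard_option_sum, ncard_option_sum]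
  rcases v with _ | a | b
  · refine ⟨?_, fun hne => ?_⟩
    · simp [hnp, hnb, hα]
    rcases w with _ | a | b
    · exact absurd rfl hne
    · simp [hnp, hnb, hpp]
    · simp [hnp, hnb, hbp, h6]
  · refine ⟨?_, fun hne => ?_⟩
    · simp [hnp, hpp, hpb, ncard_subtype (fun d => a ∈ d), hone]
    rcases w with _ | a' | b
    · simp [hnp, hnb, hpp]
    · have hne' : a ≠ a' := fun e => hne (by rw [e])
      simp [hnp, hpp, hpb, ncard_subtype (fun d => a ∈ d ∧ a' ∈ d), htwo a a' hne']
    · by_cases hab : a ∈ (b : Finset α)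
      · simp [hnb, hpp, hpb, hbb, ncard_subtype (fun d => a ∈ d ∧ Disjoint (b : Finset α) d), hab]
        exact fun d _ had hd => Finset.disjoint_left.mp hd hab had
      · simp [hnb, hpp, hpb, hbb, ncard_subtype (fun d => a ∈ d ∧ Disjoint (b : Finset α) d), hab,
          htd b.2 hab]
  · refine ⟨?_, fun hne => ?_⟩
    · simp [hnb, hbp, hbb, h6, ncard_subtype (fun d => Disjoint (b : Finset α) d),
        disjoint_count622 hα hB b.2]
    rcases w with _ | a | c
    · simp [hnb, hnp, hbp, h6]
    · by_cases hab : a ∈ (b : Finset α)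
      · simp [hnb, hpp, hpb, hbp, hbb, hab,
          ncard_subtype (fun d => Disjoint (b : Finset α) d ∧ a ∈ d)]
        exact fun d _ hd had => Finset.disjoint_left.mp hd hab had
      · have := htd b.2 hab
        simp only [and_comm (a := a ∈ _)] at this
        simp [hnb, hpp, hpb, hbp, hbb, hab,
          ncard_subtype (fun d => Disjoint (b : Finset α) d ∧ a ∈ d), this]
    · have hne' : (b : Finset α) ≠ c := fun e => hne (by rw [Subtype.ext e])
      simp only [hnb, hbp, hbb, ncard_subtype (fun d => Disjoint (b : Finset α) d ∧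
        Disjoint (c : Finset α) d), false_and, if_false, zero_add]
      rw [hcd b.2 c.2 hne']
      simp only [Finset.filter_and, Finset.filter_mem_eq_inter, Finset.univ_inter]
      by_cases hd : Disjoint (b : Finset α) c
      · simp [hd, Finset.disjoint_iff_inter_eq_empty.mp hd]
      · have hm : ((b : Finset α) ∩ c).card = 2 := by
          rcases card_inter622 hα hB b.2 c.2 hne' with e | e
          · exact absurd (Finset.disjoint_iff_inter_eq_empty.mpr (Finset.card_eq_zero.mp e)) hd
          · exact e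
        simp [hd, hm]

/-- The point-block graph of an S(3, 6, 22) is strongly regular with parameters (100, 22, 0, 6). -/
theorem result {α : Type*} [Fintype α] (hα : Fintype.card α = 22) {B : Set (Finset α)} (hB : Cfsg.IsSteinerSystem 3 6 B) [Fintype B] [DecidableRel (Cfsg.pointBlockGraph B).Adj] : (Cfsg.pointBlockGraph B).IsSRGWith 100 22 0 6 := by
  classical
  refine ⟨?_, fun v => ?_, fun v w h => ?_, fun v w hne h => ?_⟩
  · have := Cfsg.Agent.Spor.Steiner.blocks_card hB
    simp [hα, Nat.choose] at this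
    rw [Fintype.card_option, Fintype.card_sum, hα, ← Nat.card_eq_fintype_card (α := B),
      Nat.card_coe_set_eq, Cfsg.Agent.Spor.Steiner.ncard_eq_card]
    omega
  · rw [← SimpleGraph.card_neighborSet_eq_degree, ← Nat.card_eq_fintype_card, Nat.card_coe_set_eq]
    exact (aux hα hB v v).1
  · rw [← Nat.card_eq_fintype_card, Nat.card_coe_set_eq]
    exact ((aux hα hB v w).2 h.ne).trans (if_pos h)
  · rw [← Nat.card_eq_fintype_card, Nat.card_coe_set_eq]
    exact ((aux hα hB v w).2 hne).trans (if_neg h)

end Cfsg.Agent.S0428
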