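import Cfsg.Statements.S0441
import Cfsg.Agent.Lib.Spor.ThreeTransRank

set_option autoImplicit false
open Cfsg

namespace Cfsg.Agent.S0441

/-- Fischer's rank-three property. Let a finite group be generated by a conjugacy class D of 3-transpositions, with non-abelian simple commutator subgroup. Then for a in D there are members of D other than a commuting with a and members not commuting with a, and the centraliser of a acts transitively on each of these two sets. -/
theorem result {G : Type*} [Group G] [Finite G] {D : Set G} (hD : Cfsg.IsThreeTranspositionClass D) (hsimple : IsSimpleGroup (commutator G)) (hnonab : ∃ x y : commutator G, x * y ≠ y * x) {a : G} (ha : a ∈ D) : (∃ b ∈ D, b ≠ a ∧ Commute a b) ∧ (∃ c ∈ D, ¬ Commute a c) ∧ (∀ b ∈ D, ∀ b' ∈ D, b ≠ a → b' ≠ a → Commute a b → Commute a b' → ∃ g : G, Commute g a ∧ g * b * g⁻¹ = b') ∧ (∀ c ∈ D, ∀ c' ∈ D, ¬ Commute a c → ¬ Commute a c' → ∃ g : G, Commute g a ∧ g * c * g⁻¹ = c') := by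
  open Cfsg.Agent.Spor.ThreeTrans in
  have H := hyp_of_simple hD hsimple hnonab
  open Cfsg.Agent.Spor.ThreeTrans in
  refine ⟨?_, ?_, ?_, ?_⟩
  · obtain ⟨b, hb, hne, hc⟩ := perp_nonempty H ha
    exact ⟨b, hb, hne, hc⟩
  · obtain ⟨c, hc, hnc⟩ := apart_nonempty H ha
    exact ⟨c, hc, fun e => hnc e.symm⟩
  · intro b hb b' hb' hne hne' hcm hcm'
    obtain ⟨g, hg, e⟩ := transitive_perp H ha (y := b) (y' := b') ⟨hb, hne, hcm⟩ ⟨hb', hne', hcm'⟩
    exact ⟨g, localGroup_commute (Subgroup.closure_mono (Set.subset_insert _ _) hg), e⟩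
  · intro c hc c' hc' hnc hnc'
    obtain ⟨g, hg, e⟩ := transitive_apart H ha (a₀ := c) (b₀ := c')
      ⟨hc, fun e => hnc e.symm⟩ ⟨hc', fun e => hnc' e.symm⟩
    exact ⟨g, localGroup_commute hg, e⟩

end Cfsg.Agent.S0441
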