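import Cfsg.Statements.S0442

set_option autoImplicit false
open Cfsg

namespace Cfsg.Agent.S0442



/-- A standard trick for producing elements of an involution centraliser: for an involution a and an element g, let b be the conjugate g⁻¹ * a * g. If a * b has odd order 2m + 1 then g * (a * b) ^ m commutes with a; if a * b has even order 2m then (a * b) ^ m and (a * (g * a * g⁻¹)) ^ m commute with a. -/
theorem result {G : Type*} [Group G] (a g : G) (ha : orderOf a = 2) : (∀ m : ℕ, orderOf (a * (g⁻¹ * a * g)) = 2 * m + 1 → Commute (g * (a * (g⁻¹ * a * g)) ^ m) a) ∧ (∀ m : ℕ, orderOf (a * (g⁻¹ * a * g)) = 2 * m → Commute ((a * (g⁻¹ * a * g)) ^ m) a ∧ Commute ((a * (g * a * g⁻¹)) ^ m) a) := by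
  have ha2 : a * a = 1 := by
    have := pow_orderOf_eq_one a
    rwa [ha, pow_two] at this
  have ha' : ∀ x : G, a * (a * x) = x := fun x => by rw [← mul_assoc, ha2, one_mul]
  have hai : a⁻¹ = a := inv_eq_of_mul_eq_one_right ha2
  set b := g⁻¹ * a * g with hbdef
  have hb2 : b * b = 1 := by simp [hbdef, mul_assoc, ha']
  have hbi : b⁻¹ = b := inv_eq_of_mul_eq_one_right hb2
  have hba : b * a = (a * b)⁻¹ := by rw [mul_inv_rev, hai, hbi]
  have hflip : ∀ k : ℕ, a * (a * b) ^ k * a = ((a * b)⁻¹) ^ k := by
    intro k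
    have h := conj_pow (i := k) (a := a) (b := a * b)
    rw [hai] at h
    rw [← h, ← hba]
    congr 1
    simp [mul_assoc, ha']
  constructor
  · intro m hm
    have hk : (a * b) ^ (m + 1) * (a * b) ^ m = 1 := by
      rw [← pow_add, show m + 1 + m = 2 * m + 1 by omega, ← hm, pow_orderOf_eq_one]
    have hag : a * g = g * b := by simp [hbdef, mul_assoc]
    have hw : a * (g * (a * b) ^ m) * a = g * (a * b) ^ m := by
      calc a * (g * (a * b) ^ m) * a = g * (b * a) * (a * (a * b) ^ m * a) := by
            rw [← mul_assoc a g, hag]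
            simp [mul_assoc, ha']
        _ = g * ((a * b)⁻¹) ^ (m + 1) := by rw [hflip, hba, mul_assoc, ← pow_succ']
        _ = g * (a * b) ^ m := by rw [inv_pow, inv_eq_of_mul_eq_one_right hk]
    show g * (a * b) ^ m * a = a * (g * (a * b) ^ m)
    conv_lhs => rw [← hw]
    rw [mul_assoc, ha2, mul_one]
  · intro m hm
    have hk : (a * b) ^ m * (a * b) ^ m = 1 := by
      rw [← pow_add, show m + m = 2 * m by omega, ← hm, pow_orderOf_eq_one]
    refine ⟨?_, ?_⟩
    · have hw := hflip m
      rw [inv_pow, inv_eq_of_mul_eq_one_right hk] at hw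
      show (a * b) ^ m * a = a * (a * b) ^ m
      conv_lhs => rw [← hw]
      rw [mul_assoc, ha2, mul_one]
    · set c := g * a * g⁻¹ with hcdef
      have hc2 : c * c = 1 := by simp [hcdef, mul_assoc, ha']
      have hci : c⁻¹ = c := inv_eq_of_mul_eq_one_right hc2
      have hac : a * c = g * (a * b)⁻¹ * g⁻¹ := by
        rw [← hba]; simp [hbdef, hcdef, mul_assoc]
      have hk' : (a * c) ^ m * (a * c) ^ m = 1 := by
        rw [hac, conj_pow, inv_pow, inv_eq_of_mul_eq_one_right hk]
        simp only [mul_assoc, inv_mul_cancel_left]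
        rw [← mul_assoc ((a * b) ^ m), hk, one_mul, mul_inv_cancel]
      have hca : c * a = (a * c)⁻¹ := by rw [mul_inv_rev, hai, hci]
      have hw : a * (a * c) ^ m * a = (a * c) ^ m := by
        have h := conj_pow (i := m) (a := a) (b := a * c)
        rw [hai] at h
        rw [← h, show a * (a * c) * a = (a * c)⁻¹ by rw [← hca]; simp [mul_assoc, ha'],
          inv_pow, inv_eq_of_mul_eq_one_right hk']
      show (a * c) ^ m * a = a * (a * c) ^ m
      conv_lhs => rw [← hw]
      rw [mul_assoc, ha2, mul_one]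

end Cfsg.Agent.S0442
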