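import Cfsg.Statements.S0446

set_option autoImplicit false
open Cfsg

namespace Cfsg.Agent.S0446

/-- Every finite group of even order contains a 2-central involution, i.e. an element of order 2 in the centre of some Sylow 2-subgroup. -/
theorem result {G : Type*} [Group G] [Finite G] (h : Even (Nat.card G)) : ∃ t : G, Cfsg.IsTwoCentralInvolution t := by
  haveI : Fact (Nat.Prime 2) := ⟨Nat.prime_two⟩
  obtain ⟨P⟩ : Nonempty (Sylow 2 G) := inferInstance
  have hne : (P : Subgroup G) ≠ ⊥ := by
    intro hbot
    have := P.card_eq_multiplicity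
    rw [hbot, Subgroup.card_bot] at this
    have h0 : (Nat.card G).factorization 2 = 0 := by
      rcases Nat.pow_eq_one.mp this.symm with h | h
      · omega
      · exact h
    rw [Nat.factorization_eq_zero_iff] at h0
    rcases h0 with h0 | h0 | h0
    · exact h0 Nat.prime_two
    · exact h0 (even_iff_two_dvd.mp h)
    · exact Nat.card_pos.ne' h0
  haveI : Nontrivial (P : Subgroup G) := (Subgroup.nontrivial_iff_ne_bot _).mpr hne
  haveI : Finite (P : Subgroup G) := inferInstance
  have := P.2.center_nontrivial
  have h2 : 2 ∣ Nat.card (Subgroup.center (P : Subgroup G)) := by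
    obtain ⟨k, hk, hcard⟩ := (P.2.to_subgroup (Subgroup.center (P : Subgroup G))).nontrivial_iff_card.mp this
    exact hcard ▸ dvd_pow_self 2 (by omega)
  obtain ⟨z, hz⟩ := exists_prime_orderOf_dvd_card' 2 h2
  refine ⟨((z : (P : Subgroup G)) : G), ?_, P, (z : (P : Subgroup G)).2, fun x hx => ?_⟩
  · rw [Subgroup.orderOf_coe, Subgroup.orderOf_coe, hz]
  · exact congrArg Subtype.val (Subgroup.mem_center_iff.mp z.2 ⟨x, hx⟩)

end Cfsg.Agent.S0446
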