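import Cfsg.Statements.S0447
import Cfsg.Agent.Lib.Grp.SpinCoverAlt
import Cfsg.Agent.S0051
-- import your own Cfsg.Agent.* helpers here

set_option autoImplicit false
open Cfsg

namespace Cfsg.Agent.S0447

open Equiv
open scoped commutatorElement

theorem isCyclic_of_card_le_two_aux {K : Type*} [Group K] [Finite K] (h : Nat.card K ≤ 1) : IsCyclic K := by
  haveI : Subsingleton K := Finite.card_le_one_iff_subsingleton.1 h
  exact isCyclic_of_subsingleton

theorem isConj_involution {n : ℕ} (hn : n ≤ 7) {t a : alternatingGroup (Fin n)} (ht : orderOf t = 2)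
    (ha : orderOf a = 2) (hodd : ∃ s : Perm (Fin n), Perm.sign s = -1 ∧ Commute s (a : Perm (Fin n))) :
    ∃ g : alternatingGroup (Fin n), g * t * g⁻¹ = a := by
  have key : ∀ t : alternatingGroup (Fin n), orderOf t = 2 → (t : Perm (Fin n)).cycleType = Multiset.replicate 2 2 := by
    intro t ht
    rw [← Subgroup.orderOf_coe] at ht
    obtain ⟨k, hk⟩ := Perm.cycleType_prime_order (σ := (t : Perm (Fin n))) (by rw [ht]; exact Nat.prime_two)
    rw [ht] at hk
    have h1 := Finset.card_le_univ (t : Perm (Fin n)).support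
    rw [← Perm.sum_cycleType, hk, Multiset.sum_replicate, Fintype.card_fin, smul_eq_mul] at h1
    have h2 := t.2
    rw [Perm.mem_alternatingGroup, Perm.sign_of_cycleType, hk, Multiset.sum_replicate, Multiset.card_replicate,
      smul_eq_mul] at h2
    rw [hk]
    obtain rfl | rfl | rfl : k = 0 ∨ k = 1 ∨ k = 2 := by omega
    · exact absurd h2 (by decide)
    · rfl
    · exact absurd h2 (by decide)
  obtain ⟨g, hg⟩ := isConj_iff.1 ((Perm.isConj_iff_cycleType_eq).2 ((key t ht).trans (key a ha).symm))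
  obtain ⟨s, hs, hsa⟩ := hodd
  rcases Int.units_eq_one_or (Perm.sign g) with h | h
  · exact ⟨⟨g, Perm.mem_alternatingGroup.2 h⟩, Subtype.ext hg⟩
  · refine ⟨⟨s * g, Perm.mem_alternatingGroup.2 (by rw [map_mul, hs, h]; decide)⟩, Subtype.ext ?_⟩
    show s * g * (t : Perm (Fin n)) * (s * g)⁻¹ = a
    calc s * g * (t : Perm (Fin n)) * (s * g)⁻¹ = s * (g * (t : Perm (Fin n)) * g⁻¹) * s⁻¹ := by group
    _ = a := by rw [hg, hsa.eq, mul_inv_cancel_right]

theorem unique_involution {n : ℕ} {H : Type} [Group H] [Finite H] (hn : n ≤ 7)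
    (hns : IsNonsplitDoubleCover H (alternatingGroup (Fin n))) (a b : alternatingGroup (Fin n)) (m : ℕ) (hm : m = 2 ∨ m = 4)
    (ha : orderOf a = 2) (hb : orderOf b = 2) (hab : orderOf (a * b) = m) (hnot : a ∉ Subgroup.zpowers (a * b))
    (hodd : ∀ t ∈ [a, b, (a * b) ^ (m / 2)], ∃ s : Perm (Fin n), Perm.sign s = -1 ∧ Commute s (t : Perm (Fin n)))
    (hidx : Odd (Nat.card (alternatingGroup (Fin n)) / (2 * m))) {x : H} (hx : orderOf x = 2) :
    x ∈ Subgroup.center H := by
  obtain ⟨hZ, ⟨e⟩, hno⟩ := hns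
  set Z := Subgroup.center H with hZdef
  let π : H →* alternatingGroup (Fin n) := e.toMonoidHom.comp (QuotientGroup.mk' Z)
  have hker : ∀ y : H, π y = 1 ↔ y ∈ Z := fun y => by
    show e (y : H ⧸ Z) = 1 ↔ _
    rw [MulEquiv.map_eq_one_iff, QuotientGroup.eq_one_iff]
  have hsurj : Function.Surjective π := e.surjective.comp (QuotientGroup.mk'_surjective Z)
  have hsq : ∀ z ∈ Z, z ^ 2 = 1 := fun z hz => by
    have h := pow_card_eq_one' (x := (⟨z, hz⟩ : Z))
    rw [hZ] at h
    exact congrArg Subtype.val h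
  have hx2 : x ^ 2 = 1 := by rw [← hx, pow_orderOf_eq_one]
  by_contra hxZ
  have hπx : orderOf (π x) = 2 :=
    orderOf_eq_prime (by rw [← map_pow, hx2, map_one]) (fun h => hxZ ((hker x).1 h))
  have hlift : ∀ t : alternatingGroup (Fin n), orderOf t = 2 →
      (∃ s : Perm (Fin n), Perm.sign s = -1 ∧ Commute s (t : Perm (Fin n))) → ∀ y : H, π y = t → y ^ 2 = 1 := by
    intro t ht hs y hy
    obtain ⟨g, hg⟩ := isConj_involution hn hπx ht hs
    obtain ⟨g', hg'⟩ := hsurj g
    have hz : (g' * x * g'⁻¹)⁻¹ * y ∈ Z := (hker _).1 (by rw [map_mul, map_inv, map_mul, map_mul, map_inv, hg', hg, hy, inv_mul_cancel])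
    rw [show y = (g' * x * g'⁻¹) * ((g' * x * g'⁻¹)⁻¹ * y) by group,
      Commute.mul_pow (Subgroup.mem_center_iff.1 hz _), hsq _ hz, conj_pow, hx2]
    group
  obtain ⟨A0, hA0⟩ := hsurj a
  obtain ⟨B0, hB0⟩ := hsurj b
  have hA2 : A0 ^ 2 = 1 := hlift a ha (hodd a (by simp)) A0 hA0
  have hB2 : B0 ^ 2 = 1 := hlift b hb (hodd b (by simp)) B0 hB0
  set u := A0 * B0 with hu
  have hum : u ^ m = 1 := by
    have hhalf : orderOf ((a * b) ^ (m / 2)) = 2 := by
      rw [orderOf_pow' _ (by omega), hab]
      rcases hm with rfl | rfl <;> rfl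
    have h := hlift _ hhalf (hodd _ (by simp)) (u ^ (m / 2)) (by rw [map_pow, hu, map_mul, hA0, hB0])
    rwa [← pow_mul, show m / 2 * 2 = m by omega] at h
  have hAi : A0⁻¹ = A0 := inv_eq_of_mul_eq_one_right (by rw [← pow_two, hA2])
  have hBi : B0⁻¹ = B0 := inv_eq_of_mul_eq_one_right (by rw [← pow_two, hB2])
  have hnorm : ∀ i : ℕ, A0 * u ^ i = (u ^ i)⁻¹ * A0 := fun i => by
    have h : A0 * u * A0⁻¹ = u⁻¹ := by
      rw [hu, mul_inv_rev, hBi, hAi, ← mul_assoc A0 A0 B0, ← pow_two, hA2, one_mul]
    rw [← inv_pow, ← h, conj_pow, inv_mul_cancel_right]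
  let S : Subgroup H :=
    { carrier := {y | ∃ i : ℕ, y = u ^ i ∨ y = u ^ i * A0}
      one_mem' := ⟨0, Or.inl (pow_zero u).symm⟩
      mul_mem' := by
        have hinv : ∀ i : ℕ, (u ^ i)⁻¹ = u ^ (i * (m - 1)) := fun i => by
          refine inv_eq_of_mul_eq_one_right ?_
          rw [← pow_add, show i + i * (m - 1) = m * i by rw [Nat.mul_sub_one]; rcases hm with rfl | rfl <;> omega,
            pow_mul, hum, one_pow]
        rintro y y' ⟨i, hy⟩ ⟨j, hy'⟩
        rcases hy with rfl | rfl <;> rcases hy' with rfl | rfl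
        · exact ⟨i + j, Or.inl (pow_add u i j).symm⟩
        · exact ⟨i + j, Or.inr (by rw [pow_add, mul_assoc])⟩
        · exact ⟨i + j * (m - 1), Or.inr (by rw [mul_assoc, hnorm, hinv, ← mul_assoc, ← pow_add])⟩
        · exact ⟨i + j * (m - 1), Or.inl (by
            rw [mul_assoc, ← mul_assoc A0, hnorm, hinv, mul_assoc, ← pow_two, hA2, mul_one, ← pow_add])⟩
      inv_mem' := by
        rintro y ⟨i, rfl | rfl⟩
        · refine ⟨i * (m - 1), Or.inl (inv_eq_of_mul_eq_one_right ?_)⟩
          rw [← pow_add, show i + i * (m - 1) = m * i by rw [Nat.mul_sub_one]; rcases hm with rfl | rfl <;> omega,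
            pow_mul, hum, one_pow]
        · exact ⟨i, Or.inr (inv_eq_of_mul_eq_one_right (by
            rw [mul_assoc, ← mul_assoc A0, hnorm, mul_assoc (u ^ i)⁻¹, ← pow_two, hA2, mul_one, mul_inv_cancel]))⟩ }
  have hcard : Nat.card S ≤ 2 * m := by
    let f : Fin m × Bool → S := fun p => ⟨if p.2 then u ^ (p.1 : ℕ) * A0 else u ^ (p.1 : ℕ), ⟨p.1, by
      rcases p with ⟨i, _ | _⟩ <;> simp⟩⟩
    have hf : Function.Surjective f := by
      rintro ⟨y, i, rfl | rfl⟩
      · exact ⟨(⟨i % m, Nat.mod_lt _ (by omega)⟩, false), Subtype.ext (pow_eq_pow_mod i hum).symm⟩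
      · exact ⟨(⟨i % m, Nat.mod_lt _ (by omega)⟩, true), Subtype.ext (by
          show u ^ (i % m) * A0 = u ^ i * A0
          rw [← pow_eq_pow_mod i hum])⟩
    refine (Nat.card_le_card_of_surjective f hf).trans ?_
    rw [Nat.card_prod, Nat.card_fin, Nat.card_eq_fintype_card, Fintype.card_bool, mul_comm]
  have hge : 2 * m ≤ Nat.card (S.map π) := by
    have hsub : Subgroup.zpowers (a * b) ≤ S.map π :=
      Subgroup.zpowers_le.2 ⟨u, ⟨1, Or.inl (pow_one u).symm⟩, by rw [hu, map_mul, hA0, hB0]⟩
    have hdvd := Subgroup.card_dvd_of_le hsub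
    rw [Nat.card_zpowers, hab] at hdvd
    obtain ⟨k, hk⟩ := hdvd
    have hne : Subgroup.zpowers (a * b) ≠ S.map π := fun h => hnot (h ▸ ⟨A0, ⟨0, Or.inr (by rw [pow_zero, one_mul])⟩, hA0⟩)
    have hk2 : 2 ≤ k := by
      by_contra hk2
      have hk1 : k = 1 := by
        have : 0 < Nat.card (S.map π) := Nat.card_pos
        rw [hk] at this
        rcases Nat.eq_zero_or_pos k with rfl | h <;> omega
      exact hne (Subgroup.eq_of_le_of_card_ge hsub (by rw [hk, hk1, mul_one, Nat.card_zpowers, hab]))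
    rw [hk]; nlinarith
  have hinj : Set.InjOn π (S : Set H) := by
    have hmap : Nat.card (S.map π) ≤ Nat.card S := Nat.le_of_dvd Nat.card_pos (Subgroup.card_map_dvd S π)
    have hsrj : Function.Surjective (π.subgroupMap S) := π.subgroupMap_surjective S
    have hb : Function.Bijective (π.subgroupMap S) := hsrj.bijective_of_nat_card_le (by omega)
    intro p hp q hq hpq
    exact congrArg Subtype.val (hb.1 (a₁ := ⟨p, hp⟩) (a₂ := ⟨q, hq⟩) (Subtype.ext hpq))
  have hdisj : S ⊓ Z = ⊥ := by
    rw [eq_bot_iff]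
    rintro y ⟨hyS, hyZ⟩
    exact hinj hyS S.one_mem (by rw [(hker y).2 hyZ, map_one])
  have hU : ((Z ⊔ S).index).Coprime 2 := by
    have hUc : Z ⊔ S = (S.map π).comap π := by
      rw [Subgroup.comap_map_eq, sup_comm]
      congr 1
      exact Subgroup.ext fun y => ((hker y).symm.trans MonoidHom.mem_ker.symm)
    rw [hUc, Subgroup.index_comap_of_surjective _ hsurj]
    have h := Subgroup.card_mul_index (S.map π)
    have hc : Nat.card (S.map π) = 2 * m := le_antisymm
      ((Nat.le_of_dvd Nat.card_pos (Subgroup.card_map_dvd S π)).trans hcard) hge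
    rw [hc] at h
    rw [← h, Nat.mul_div_cancel_left _ (by omega)] at hidx
    exact Nat.coprime_two_right.2 hidx
  haveI : IsMulCommutative Z := ⟨⟨fun p q => Subtype.ext (Subgroup.mem_center_iff.1 q.2 p)⟩⟩
  obtain ⟨L, hL⟩ := S0051.result Z (Z ⊔ S) le_sup_left (by rw [hZ]; exact hU.symm) S le_sup_right hdisj rfl
  exact hno L hL

/-- Involutions in double covers of alternating groups: for n ≤ 7, a finite non-split double cover of the alternating group of degree n has exactly one element of order 2 (the central one); for degree 8 there is a non-split double cover with two distinct involutions. -/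
theorem result : (∀ (n : ℕ) (H : Type) (_ : Group H) (_ : Finite H), n ≤ 7 → Cfsg.IsNonsplitDoubleCover H (alternatingGroup (Fin n)) → ∀ x y : H, orderOf x = 2 → orderOf y = 2 → x = y) ∧ ∃ (H : Type) (_ : Group H) (_ : Finite H), Cfsg.IsNonsplitDoubleCover H (alternatingGroup (Fin 8)) ∧ ∃ x y : H, x ≠ y ∧ orderOf x = 2 ∧ orderOf y = 2 := by
  refine ⟨fun n H _ _ hn hns x y hx hy => ?_, ?_⟩
  · have hc : ∀ w : H, orderOf w = 2 → w ∈ Subgroup.center H := by
      intro w hw
      rcases le_or_gt n 3 with h3 | h4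
      · exfalso
        obtain ⟨hZ, ⟨e⟩, hno⟩ := hns
        haveI : IsCyclic (alternatingGroup (Fin n)) := by
          interval_cases n
          · exact isCyclic_of_subsingleton
          · exact isCyclic_of_subsingleton
          · exact isCyclic_of_card_le_two_aux (by rw [nat_card_alternatingGroup, Nat.card_fin]; decide)
          · haveI : Fact (Nat.Prime 3) := ⟨by norm_num⟩
            exact isCyclic_of_prime_card (p := 3) (by rw [nat_card_alternatingGroup, Nat.card_fin]; decide)
        haveI : IsCyclic (H ⧸ Subgroup.center H) := isCyclic_of_surjective e.symm.toMonoidHom e.symm.surjective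
        have htop : Subgroup.center H = ⊤ := (Subgroup.eq_top_iff' _).2 fun g => Subgroup.mem_center_iff.2 fun g' =>
          commutative_of_cyclic_center_quotient (QuotientGroup.mk' (Subgroup.center H)) (by simp) g' g
        exact hno ⊥ (by rw [htop]; exact Subgroup.isComplement'_top_bot)
      · interval_cases n
        · exact unique_involution hn hns ⟨Equiv.swap 0 1 * Equiv.swap 2 3, by rw [Equiv.Perm.mem_alternatingGroup]; decide⟩ ⟨Equiv.swap 0 2 * Equiv.swap 1 3, by rw [Equiv.Perm.mem_alternatingGroup]; decide⟩ 2 (Or.inl rfl)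
            (orderOf_eq_prime (by decide) (by decide)) (orderOf_eq_prime (by decide) (by decide))
            (orderOf_eq_prime (by decide) (by decide))
            (by rw [← mem_powers_iff_mem_zpowers, mem_powers_iff_mem_range_orderOf, orderOf_eq_prime (p := 2) (by decide) (by decide)]; decide)
            (by simp only [List.forall_mem_cons, List.not_mem_nil, false_imp_iff, implies_true, and_true]
                exact ⟨⟨Equiv.swap 0 1, by decide, show _ = _ by decide⟩, ⟨Equiv.swap 0 2, by decide, show _ = _ by decide⟩, ⟨Equiv.swap 0 3, by decide, show _ = _ by decide⟩⟩)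
            (by rw [nat_card_alternatingGroup, Nat.card_fin]; decide) hw
        · exact unique_involution hn hns ⟨Equiv.swap 0 1 * Equiv.swap 2 3, by rw [Equiv.Perm.mem_alternatingGroup]; decide⟩ ⟨Equiv.swap 0 2 * Equiv.swap 1 3, by rw [Equiv.Perm.mem_alternatingGroup]; decide⟩ 2 (Or.inl rfl)
            (orderOf_eq_prime (by decide) (by decide)) (orderOf_eq_prime (by decide) (by decide))
            (orderOf_eq_prime (by decide) (by decide))
            (by rw [← mem_powers_iff_mem_zpowers, mem_powers_iff_mem_range_orderOf, orderOf_eq_prime (p := 2) (by decide) (by decide)]; decide)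
            (by simp only [List.forall_mem_cons, List.not_mem_nil, false_imp_iff, implies_true, and_true]
                exact ⟨⟨Equiv.swap 0 1, by decide, show _ = _ by decide⟩, ⟨Equiv.swap 0 2, by decide, show _ = _ by decide⟩, ⟨Equiv.swap 0 3, by decide, show _ = _ by decide⟩⟩)
            (by rw [nat_card_alternatingGroup, Nat.card_fin]; decide) hw
        · exact unique_involution hn hns ⟨Equiv.swap 0 1 * Equiv.swap 2 3, by rw [Equiv.Perm.mem_alternatingGroup]; decide⟩ ⟨Equiv.swap 0 2 * Equiv.swap 4 5, by rw [Equiv.Perm.mem_alternatingGroup]; decide⟩ 4 (Or.inr rfl)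
            (orderOf_eq_prime (by decide) (by decide)) (orderOf_eq_prime (by decide) (by decide))
            (orderOf_eq_prime_pow (p := 2) (n := 1) (by decide) (by decide))
            (by rw [← mem_powers_iff_mem_zpowers, mem_powers_iff_mem_range_orderOf, orderOf_eq_prime_pow (p := 2) (n := 1) (by decide) (by decide)]; decide)
            (by simp only [List.forall_mem_cons, List.not_mem_nil, false_imp_iff, implies_true, and_true]
                exact ⟨⟨Equiv.swap 0 1, by decide, show _ = _ by decide⟩, ⟨Equiv.swap 0 2, by decide, show _ = _ by decide⟩, ⟨Equiv.swap 4 5, by decide, show _ = _ by decide⟩⟩)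
            (by rw [nat_card_alternatingGroup, Nat.card_fin]; decide) hw
        · exact unique_involution hn hns ⟨Equiv.swap 0 1 * Equiv.swap 2 3, by rw [Equiv.Perm.mem_alternatingGroup]; decide⟩ ⟨Equiv.swap 0 2 * Equiv.swap 4 5, by rw [Equiv.Perm.mem_alternatingGroup]; decide⟩ 4 (Or.inr rfl)
            (orderOf_eq_prime (by decide) (by decide)) (orderOf_eq_prime (by decide) (by decide))
            (orderOf_eq_prime_pow (p := 2) (n := 1) (by decide) (by decide))
            (by rw [← mem_powers_iff_mem_zpowers, mem_powers_iff_mem_range_orderOf, orderOf_eq_prime_pow (p := 2) (n := 1) (by decide) (by decide)]; decide)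
            (by simp only [List.forall_mem_cons, List.not_mem_nil, false_imp_iff, implies_true, and_true]
                exact ⟨⟨Equiv.swap 0 1, by decide, show _ = _ by decide⟩, ⟨Equiv.swap 0 2, by decide, show _ = _ by decide⟩, ⟨Equiv.swap 4 5, by decide, show _ = _ by decide⟩⟩)
            (by rw [nat_card_alternatingGroup, Nat.card_fin]; decide) hw
    obtain ⟨p, q, hpq, hp⟩ := Nat.card_eq_two_iff.1 hns.1
    have hone : ∀ w : Subgroup.center H, w = p ∨ w = q := fun w => by
      have := (Set.eq_univ_iff_forall.1 hp) w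
      simpa using this
    have hx1 : x ≠ 1 := fun h => by rw [h, orderOf_one] at hx; norm_num at hx
    have hy1 : y ≠ 1 := fun h => by rw [h, orderOf_one] at hy; norm_num at hy
    rcases hone ⟨x, hc x hx⟩ with h | h <;> rcases hone ⟨y, hc y hy⟩ with h' | h' <;> rcases hone 1 with h'' | h''
    all_goals first
      | exact congrArg Subtype.val (h.trans h'.symm)
      | exact absurd (congrArg Subtype.val (h.trans h''.symm)) hx1
      | exact absurd (congrArg Subtype.val (h'.trans h''.symm)) hy1
  · haveI : IsSimpleGroup (alternatingGroup (Fin 8)) := alternatingGroup.isSimpleGroup (by simp)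
    have hsurj := Grp.SpinCover.proj_surjective (n := 8) (by norm_num)
    have hcen : Subgroup.center (Grp.SpinCover.G 8) = Subgroup.zpowers (Grp.SpinCover.z 8) := by
      refine le_antisymm ?_ (Subgroup.zpowers_le.2 Grp.SpinCover.z_central)
      rw [← Grp.SpinCover.ker_proj]
      intro g hg
      rw [MonoidHom.mem_ker]
      have hg' : Grp.SpinCover.proj 8 g ∈ Subgroup.center (alternatingGroup (Fin 8)) := Subgroup.mem_center_iff.2 fun t => by
        obtain ⟨t', rfl⟩ := hsurj t
        rw [← map_mul, Subgroup.mem_center_iff.1 hg t', map_mul]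
      rw [alternatingGroup.center_eq_bot (by simp)] at hg'
      exact hg'
    have hcomm : Grp.SpinCover.z 8 ∈ commutator (Grp.SpinCover.G 8) :=
      Grp.SpinCover.z_mem_commutator (a := 0) (b := 1) (c := 2) (e := 3) (by decide) (by decide) (by decide) (by decide)
        (by decide) (by decide)
    have hz1 : Grp.SpinCover.z 8 ≠ 1 := fun h => by
      have := Grp.SpinCover.orderOf_z (n := 8)
      rw [h, orderOf_one] at this
      norm_num at this
    refine ⟨Grp.SpinCover.G 8, inferInstance, inferInstance, ⟨?_, ⟨?_⟩, fun L hL => hz1 ?_⟩, ?_⟩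
    · rw [hcen, Nat.card_zpowers, Grp.SpinCover.orderOf_z]
    · exact (QuotientGroup.quotientMulEquivOfEq (hcen.trans Grp.SpinCover.ker_proj.symm)).trans
        (QuotientGroup.quotientKerEquivOfSurjective _ hsurj)
    · have hL' : commutator (Grp.SpinCover.G 8) ≤ L := by
        rw [commutator_def, Subgroup.commutator_le]
        intro g _ g' _
        obtain ⟨⟨⟨c1, hc1⟩, ⟨l1, hl1⟩⟩, rfl⟩ := hL.2 g
        obtain ⟨⟨⟨c2, hc2⟩, ⟨l2, hl2⟩⟩, rfl⟩ := hL.2 g'
        have e1 : ⁅c1 * l1, c2 * l2⁆ = ⁅l1, l2⁆ := by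
          have k1 := Subgroup.mem_center_iff.1 hc1
          have k2 := Subgroup.mem_center_iff.1 hc2
          rw [commutatorElement_def, commutatorElement_def, mul_inv_rev, mul_inv_rev]
          calc c1 * l1 * (c2 * l2) * (l1⁻¹ * c1⁻¹) * (l2⁻¹ * c2⁻¹)
              = c1 * (l1 * c2) * l2 * l1⁻¹ * c1⁻¹ * l2⁻¹ * c2⁻¹ := by group
            _ = c2 * (l1 * l2 * l1⁻¹ * c1) * c1⁻¹ * l2⁻¹ * c2⁻¹ := by
              rw [k2 l1, k1]; simp only [← mul_assoc]; rw [← k2 c1]
            _ = (c2 * (l1 * l2 * l1⁻¹ * l2⁻¹)) * c2⁻¹ := by group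
            _ = l1 * l2 * l1⁻¹ * l2⁻¹ := by rw [← k2, mul_inv_cancel_right]
        show ⁅c1 * l1, c2 * l2⁆ ∈ L
        rw [e1, commutatorElement_def]
        exact mul_mem (mul_mem (mul_mem hl1 hl2) (inv_mem hl1)) (inv_mem hl2)
      have hbot := hL.disjoint.eq_bot
      have : Grp.SpinCover.z 8 ∈ Subgroup.center _ ⊓ L := ⟨Grp.SpinCover.z_central, hL' hcomm⟩
      rwa [hbot, Subgroup.mem_bot] at this
    · let p := Grp.SpinCover.W (show (0 : Fin 8) ≠ 1 by decide) (show (2 : Fin 8) ≠ 3 by decide)
      let q := Grp.SpinCover.W (show (4 : Fin 8) ≠ 5 by decide) (show (6 : Fin 8) ≠ 7 by decide)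
      have hdd : ∀ i j k l : Fin 8, i ≠ k → i ≠ l → j ≠ k → j ≠ l →
          Grp.SpinCover.d i j * Grp.SpinCover.d k l = -(Grp.SpinCover.d k l * Grp.SpinCover.d i j) := fun i j k l h1 h2 h3 h4 => by
        simp only [Grp.SpinCover.d, sub_mul, mul_sub]
        rw [Grp.SpinCover.L_anti h1, Grp.SpinCover.L_anti h2, Grp.SpinCover.L_anti h3, Grp.SpinCover.L_anti h4]
        abel
      have hsqw : ∀ i j k l : Fin 8, i ≠ j → k ≠ l → i ≠ k → i ≠ l → j ≠ k → j ≠ l →
          Grp.SpinCover.w i j k l * Grp.SpinCover.w i j k l = -1 := fun i j k l h h' h1 h2 h3 h4 => by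
        rw [Grp.SpinCover.w, smul_mul_assoc, mul_smul_comm, mul_assoc, ← mul_assoc (Grp.SpinCover.d k l),
          hdd k l i j h1.symm h3.symm h2.symm h4.symm, neg_mul, mul_assoc, Grp.SpinCover.d_sq h', mul_smul_comm, mul_one, mul_neg,
          mul_smul_comm, Grp.SpinCover.d_sq h, smul_neg, smul_neg, smul_smul, smul_smul, smul_smul]
        norm_num
      have hcm : Grp.SpinCover.w (0 : Fin 8) 1 2 3 * Grp.SpinCover.w 4 5 6 7 = Grp.SpinCover.w 4 5 6 7 * Grp.SpinCover.w 0 1 2 3 := by
        have hd : ∀ i j : Fin 8, 4 ≤ i.val → 4 ≤ j.val →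
            Grp.SpinCover.w (0 : Fin 8) 1 2 3 * Grp.SpinCover.d i j = Grp.SpinCover.d i j * Grp.SpinCover.w 0 1 2 3 := fun i j hi hj => by
          have hfix : ∀ i : Fin 8, 4 ≤ i.val → (Equiv.swap (0 : Fin 8) 1 * Equiv.swap 2 3 : Equiv.Perm (Fin 8)) i = i := by decide
          rw [Grp.SpinCover.d, mul_sub, sub_mul, Grp.SpinCover.w_L (by decide) (by decide), Grp.SpinCover.w_L (by decide) (by decide),
            hfix i hi, hfix j hj]
        show _ * ((1 / 2 : ℚ) • (_ * _)) = ((1 / 2 : ℚ) • (_ * _)) * _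
        rw [mul_smul_comm, smul_mul_assoc, ← mul_assoc, hd 4 5 (by decide) (by decide), mul_assoc,
          hd 6 7 (by decide) (by decide), ← mul_assoc]
      refine ⟨p * q, Grp.SpinCover.z 8, fun h => ?_, orderOf_eq_prime ?_ ?_, Grp.SpinCover.orderOf_z⟩
      · have h' := congrArg (fun g => ((Grp.SpinCover.proj 8 g : alternatingGroup (Fin 8)) : Equiv.Perm (Fin 8))) h
        simp only [map_mul, Subgroup.coe_mul] at h'
        rw [Grp.SpinCover.proj_eq p (Grp.SpinCover.w_L (by decide) (by decide)),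
          Grp.SpinCover.proj_eq q (Grp.SpinCover.w_L (by decide) (by decide)),
          Grp.SpinCover.proj_eq (Grp.SpinCover.z 8) (σ := 1) (fun k => by simp [Grp.SpinCover.z])] at h'
        exact absurd h' (by decide)
      · refine Subtype.ext (Units.ext ?_)
        show ((_ * _ : Grp.SpinCover.Op 8)) ^ 2 = 1
        rw [pow_two]
        show Grp.SpinCover.w (0 : Fin 8) 1 2 3 * Grp.SpinCover.w 4 5 6 7 * (Grp.SpinCover.w 0 1 2 3 * Grp.SpinCover.w 4 5 6 7) = 1
        rw [mul_assoc, ← mul_assoc (Grp.SpinCover.w (4 : Fin 8) 5 6 7), ← hcm, mul_assoc, hsqw _ _ _ _ (by decide) (by decide) (by decide) (by decide) (by decide) (by decide),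
          mul_neg, mul_one, mul_neg, hsqw _ _ _ _ (by decide) (by decide) (by decide) (by decide) (by decide) (by decide), neg_neg]
      · intro h
        have h' := congrArg (fun g => ((Grp.SpinCover.proj 8 g : alternatingGroup (Fin 8)) : Equiv.Perm (Fin 8))) h
        simp only [map_mul, map_one, Subgroup.coe_mul, Subgroup.coe_one] at h'
        rw [Grp.SpinCover.proj_eq p (Grp.SpinCover.w_L (by decide) (by decide)),
          Grp.SpinCover.proj_eq q (Grp.SpinCover.w_L (by decide) (by decide))] at h'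
        exact absurd h' (by decide)

end Cfsg.Agent.S0447
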