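import Cfsg.Statements.S0458
import Cfsg.Agent.Lib.Spor.Cos.J3.IsSimple

set_option autoImplicit false
open Cfsg

open Cfsg.Agent.Spor.Cos Cfsg.Agent.Spor.Cos.J3

namespace Cfsg.Agent.S0458

/-- Janko's third group exists as a transitive permutation group of degree 6156 with point stabiliser of order 8160: a simple group of order 50232960. -/
theorem result : ∃ H : Subgroup (Equiv.Perm (Fin 6156)), Cfsg.IsJ3 H ∧ MulAction.IsPretransitive H (Fin 6156) ∧ Nat.card (MulAction.stabilizer H (0 : Fin 6156)) = 8160 := by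
  have := finite
  have hinj : Function.Injective piA := by
    refine (injective_iff_map_eq_one _).2 fun y hy => det y fun q _ => ?_
    rw [hy, Equiv.Perm.one_apply]
  have hcard : Nat.card ↥piA.range = 50232960 :=
    (Nat.card_congr (MonoidHom.ofInjective hinj).toEquiv).symm.trans card_eq
  have := isSimple
  have : Nontrivial ↥piA.range := (MonoidHom.ofInjective hinj).toEquiv.symm.nontrivial
  have hs : IsSimpleGroup ↥piA.range :=
    IsSimpleGroup.isSimpleGroup_of_surjective (H := ↥piA.range) (MonoidHom.ofInjective hinj).toMonoidHom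
      (MonoidHom.ofInjective hinj).surjective
  obtain ⟨H, hH⟩ : ∃ H : Subgroup (Equiv.Perm (Fin 6156)), H = piA.range := ⟨_, rfl⟩
  refine ⟨H, hH ▸ ⟨hs, hcard⟩, ⟨fun p q => ?_⟩, ?_⟩
  · obtain ⟨y, hy⟩ := trA p
    obtain ⟨z, hz⟩ := trA q
    refine ⟨⟨piA (z * y⁻¹), hH ▸ ⟨z * y⁻¹, rfl⟩⟩, ?_⟩
    show piA (z * y⁻¹) p = q
    have key : piA (z * y⁻¹) (piA y baseA) = piA z baseA := by
      rw [← Equiv.Perm.mul_apply, ← map_mul, inv_mul_cancel_right]
    rw [hy, hz] at key
    exact key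
  · have hm : ∀ y, piA y ∈ H := fun y => hH ▸ ⟨y, rfl⟩
    rw [← card_stab_base]
    refine (Nat.card_congr (Equiv.ofBijective
      (fun y : stab piA baseA => (⟨⟨piA y.1, hm y.1⟩, y.2⟩ : MulAction.stabilizer H (0 : Fin 6156)))
      ⟨fun y z h => Subtype.ext (hinj (congrArg (fun r => r.1.1) h)), ?_⟩)).symm
    rintro ⟨⟨r, hr⟩, hy⟩
    obtain ⟨y, rfl⟩ := show ∃ y, piA y = r from MonoidHom.mem_range.1 (hH ▸ hr)
    exact ⟨⟨y, hy⟩, rfl⟩

end Cfsg.Agent.S0458
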