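import Cfsg.Statements.S0459
import Cfsg.Agent.Lib.Spor.Cos.Ru.IsSimple
import Cfsg.Agent.Lib.Spor.Cos.Ru.Tits

set_option autoImplicit false
open Cfsg

open Cfsg.Agent.Spor.Cos Cfsg.Agent.Spor.Cos.Ru

namespace Cfsg.Agent.S0459

/-- The Rudvalis group exists as a transitive permutation group of degree 4060: simple of order 145926144000, with point stabiliser of order 35942400 containing a simple subgroup of order 17971200 (the order of the Tits group). -/
theorem result : ∃ H : Subgroup (Equiv.Perm (Fin 4060)), Cfsg.IsRu H ∧ MulAction.IsPretransitive H (Fin 4060) ∧ Nat.card (MulAction.stabilizer H (0 : Fin 4060)) = 35942400 ∧ ∃ T : Subgroup (MulAction.stabilizer H (0 : Fin 4060)), Cfsg.IsTits T := by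
  obtain ⟨H, hH⟩ : ∃ H : Subgroup (Equiv.Perm (Fin 4060)), H = genGroup actA := ⟨_, rfl⟩
  obtain ⟨hT, hTc⟩ := parts_isSimple
  have hm : ∀ y : G4060, pi y ∈ H := fun y => hH ▸ y.2
  let e : stab pi base ≃* MulAction.stabilizer H (0 : Fin 4060) :=
    { toFun := fun y => ⟨⟨pi y.1, hm y.1⟩, y.2⟩
      invFun := fun r => ⟨⟨r.1.1, hH ▸ r.1.2⟩, r.2⟩
      left_inv := fun _ => rfl
      right_inv := fun _ => rfl
      map_mul' := fun _ _ => rfl }
  refine ⟨H, hH ▸ ⟨isSimple, card_eq⟩, ⟨fun p q => ?_⟩, ?_, ?_⟩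
  · obtain ⟨y, hy⟩ := transitive p
    obtain ⟨z, hz⟩ := transitive q
    refine ⟨⟨pi (z * y⁻¹), hm _⟩, ?_⟩
    show pi (z * y⁻¹) p = q
    have key : pi (z * y⁻¹) (pi y base) = pi z base := by
      rw [← Equiv.Perm.mul_apply, ← map_mul, inv_mul_cancel_right]
    rw [hy, hz] at key
    exact key
  · rw [← card_stab_base]
    exact (Nat.card_congr e.toEquiv).symm
  · let f := e.toMonoidHom.comp (MonoidHom.codRestrict (partFst actA actT) (stab pi base) part_mem_stab)
    have hf : Function.Injective f := e.injective.comp fun y z h => part_injective (congrArg Subtype.val h)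
    refine ⟨f.range, @simple_of_equiv _ _ _ _ hT (MonoidHom.ofInjective hf), ?_⟩
    exact (Nat.card_congr (MonoidHom.ofInjective hf).toEquiv).symm.trans hTc

end Cfsg.Agent.S0459
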