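import Cfsg.Statements.S0460
import Cfsg.Agent.Lib.Spor.Cos.ON.IsSimple
import Cfsg.Agent.Lib.Spor.Cos.ON.J1.Exists
import Cfsg.Agent.Lib.Spor.Cos.ON.M11.Exists

set_option autoImplicit false
open Cfsg

open Cfsg.Agent.Spor.Cos Cfsg.Agent.Spor.Cos.ON

namespace Cfsg.Agent.S0460

/-- The O'Nan group exists as a transitive permutation group of degree 122760: simple of order 460815505920, point stabiliser of order 3753792, and containing simple subgroups of orders 175560 and 7920. -/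
theorem result : ∃ H : Subgroup (Equiv.Perm (Fin 122760)), Cfsg.IsON H ∧ MulAction.IsPretransitive H (Fin 122760) ∧ Nat.card (MulAction.stabilizer H (0 : Fin 122760)) = 3753792 ∧ (∃ K : Subgroup H, Cfsg.IsJ1 K) ∧ (∃ K : Subgroup H, Cfsg.IsM11 K) := by
  have := finite
  have hinj : Function.Injective piA := by
    refine (injective_iff_map_eq_one _).2 fun y hy => det y fun q _ => ?_
    rw [hy, Equiv.Perm.one_apply]
  have hcard : Nat.card ↥piA.range = 460815505920 :=
    (Nat.card_congr (MonoidHom.ofInjective hinj).toEquiv).symm.trans card_eq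
  have := isSimple
  have : Nontrivial ↥piA.range := (MonoidHom.ofInjective hinj).toEquiv.symm.nontrivial
  have hs : IsSimpleGroup ↥piA.range :=
    IsSimpleGroup.isSimpleGroup_of_surjective (H := ↥piA.range) (MonoidHom.ofInjective hinj).toMonoidHom
      (MonoidHom.ofInjective hinj).surjective
  obtain ⟨H, hH⟩ : ∃ H : Subgroup (Equiv.Perm (Fin 122760)), H = piA.range := ⟨_, rfl⟩
  have key : ∀ {k : ℕ}, (∃ K : Subgroup Spor.ON, IsSimpleGroup K ∧ Nat.card K = k) →
      ∃ K : Subgroup H, IsSimpleGroup K ∧ Nat.card K = k := by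
    rintro k ⟨K, h1, h2⟩
    let f : Spor.ON →* H := MonoidHom.codRestrict piA H fun y => hH ▸ ⟨y, rfl⟩
    have hf : Function.Injective f := fun y z h => hinj (congrArg Subtype.val h)
    let e := K.equivMapOfInjective f hf
    refine ⟨K.map f, @simple_congr _ _ _ _ h1 e, ?_⟩
    rw [← Nat.card_congr e.toEquiv, h2]
  refine ⟨H, hH ▸ ⟨hs, hcard⟩, ⟨fun p q => ?_⟩, ?_, key J1.exists_subgroup, key M11.exists_subgroup⟩
  · obtain ⟨y, hy⟩ := trA p
    obtain ⟨z, hz⟩ := trA q
    refine ⟨⟨piA (z * y⁻¹), hH ▸ ⟨z * y⁻¹, rfl⟩⟩, ?_⟩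
    show piA (z * y⁻¹) p = q
    have key : piA (z * y⁻¹) (piA y baseA) = piA z baseA := by
      rw [← Equiv.Perm.mul_apply, ← map_mul, inv_mul_cancel_right]
    rw [hy, hz] at key
    exact key
  · have hm : ∀ y, piA y ∈ H := fun y => hH ▸ ⟨y, rfl⟩
    rw [← Wide.card_stab trA (k := 3753792) card_eq]
    refine (Nat.card_congr (Equiv.ofBijective
      (fun y : Wide.stab piA baseA => (⟨⟨piA y.1, hm y.1⟩, y.2⟩ : MulAction.stabilizer H (0 : Fin 122760)))
      ⟨fun y z h => Subtype.ext (hinj (congrArg (fun r => r.1.1) h)), ?_⟩)).symm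
    rintro ⟨⟨r, hr⟩, hy⟩
    obtain ⟨y, rfl⟩ := show ∃ y, piA y = r from MonoidHom.mem_range.1 (hH ▸ hr)
    exact ⟨⟨y, hy⟩, rfl⟩

end Cfsg.Agent.S0460
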