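import Cfsg.Statements.S0479
import Cfsg.Agent.Lib.Spor.Cos.ON.IsSimple
import Cfsg.Agent.Lib.Spor.Cos.ONRep.Cover
-- import your own Cfsg.Agent.* helpers here

set_option autoImplicit false
open Cfsg

namespace Cfsg.Agent.S0479

/-- A triple cover of the O'Nan group as 45 × 45 matrices over the field with seven elements: SL(45, 7) has a subgroup whose centre has order 3 and whose quotient by its centre is simple of order 460815505920. -/
theorem result : ∃ H : Subgroup (Matrix.SpecialLinearGroup (Fin 45) (ZMod 7)), Nat.card (Subgroup.center H) = 3 ∧ Cfsg.IsON (H ⧸ Subgroup.center H) := by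
  have := Cfsg.Agent.Spor.Cos.ON.isSimple
  have hcard := Cfsg.Agent.Spor.Cos.ON.card_eq
  have hnc : ∃ x y : Spor.ON, x * y ≠ y * x := by
    by_contra h
    push Not at h
    let : CommGroup Spor.ON := { (inferInstance : Group Spor.ON) with mul_comm := h }
    have := Cfsg.Agent.Spor.Cos.ON.finite
    have hp := IsSimpleGroup.prime_card (α := Spor.ON)
    rw [hcard] at hp
    norm_num at hp
  obtain ⟨H, h1, ⟨e⟩⟩ := Cfsg.Agent.Spor.Cos.ONRep.exists_sl_cover Cfsg.Agent.Spor.Cos.ON.g hnc
    (fun σ hi hb hout => Cfsg.Agent.Spor.Cos.ON.exists_hom σ hi hb hout)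
  exact ⟨H, h1, e.isSimpleGroup_congr.2 this, (Nat.card_congr e.toEquiv).trans hcard⟩

end Cfsg.Agent.S0479
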