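import Cfsg.Prelude
import Cfsg.Agent.Lib.Block.FischerTypes.M24Parity
import Cfsg.Agent.Lib.Spor.FischerThm.Simple

set_option autoImplicit false
open Cfsg
open scoped commutatorElement

namespace Cfsg.Agent.S0480

/-- The simple 3-transposition groups: if a finite non-abelian simple group G is generated by a conjugacy class of 3-transpositions, then G is isomorphic to a symplectic group Sp(2n, 2), or to a projective special unitary group PSU(n, 2) (defined over the field with four elements), or to the projective commutator subgroup of an orthogonal group in odd dimension over the field with three elements, or G has order 64561751654400, or G has order 4089470473293004800. -/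
theorem result {G : Type*} [Group G] [Finite G] [IsSimpleGroup G] (hna : ∃ x y : G, x * y ≠ y * x) {D : Set G} (hD : Cfsg.IsThreeTranspositionClass D) : (∃ n : ℕ, Nonempty (G ≃* Matrix.symplecticGroup (Fin n) (ZMod 2))) ∨ (∃ (F : Type) (_ : Field F) (_ : Fintype F) (n : ℕ), Fintype.card F = 4 ∧ Nonempty (G ≃* Cfsg.PSU n F 2)) ∨ (∃ m : ℕ, Nonempty (G ≃* Cfsg.POmega (ZMod 3) (Cfsg.quadFormOdd m (ZMod 3)))) ∨ Cfsg.IsFi22 G ∨ Cfsg.IsFi23 G := by
  obtain ⟨x, y, hxy⟩ := hna
  have hper : commutator G = ⊤ := ((commutator G).normal_of_characteristic.eq_bot_or_eq_top).resolve_left fun h =>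
    hxy (commutatorElement_eq_one_iff_mul_comm.mp (by
      rw [← Subgroup.mem_bot, ← h]
      exact Subgroup.commutator_mem_commutator (Subgroup.mem_top x) (Subgroup.mem_top y)))
  have hZ : Subgroup.center G = ⊥ := (inferInstance : (Subgroup.center G).Normal).eq_bot_or_eq_top.resolve_right
    fun h => hxy (Subgroup.mem_center_iff.mp (h ▸ Subgroup.mem_top y) x)
  have hs : IsSimpleGroup (commutator G) := by
    let e : ↥(commutator G) ≃* G := (MulEquiv.subgroupCongr hper).trans Subgroup.topEquiv
    haveI : Nontrivial ↥(commutator G) := e.toEquiv.nontrivial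
    exact IsSimpleGroup.isSimpleGroup_of_surjective e.symm.toMonoidHom e.symm.surjective
  by_cases hw : ∃ a ∈ D, ∃ b ∈ D, a ≠ b ∧ Commute a b
  · have g := Spor.FischerThm.good_of_simple hD hZ hs hw
    rcases Spor.FischerThm.classify g with h | ⟨n, hn, e, -⟩ | ⟨m, -, e, -⟩ | ⟨F, iF, iT, h4, n, -, e, -⟩
    · rcases h with
        ⟨n, hn, e, -⟩ | ⟨m, hm, e, -⟩ | ⟨m, hm, e, -⟩ | ⟨n, hn, Q, hQ, c, hc, e, -⟩ | h | h | h
      · exact (Spor.FischerThm.sym_absurd (by omega) hper e).elim
      · exact (Spor.FischerThm.orth_simple_absurd _ (Spor.OrthTwo.nondeg_plus m) (by simp; omega) hper e).elim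
      · exact (Spor.FischerThm.orth_simple_absurd _ (Spor.OrthTwo.nondeg_minus m) (by simp; omega) hper e).elim
      · exact Or.inr (Or.inr (Or.inl (Spor.FischerThm.refl_perfect hn hQ hc hper hZ e)))
      · have C := Block.FischerTypes.M22.ctx (Spor.FischerThm.good_group g) g.primitive h
        exact Or.inr (Or.inr (Or.inr (Or.inl ⟨inferInstance,
          Block.FischerTypes.M22.card_group C (Block.FischerTypes.M22.numbered_ctx C)⟩)))
      · have B := Block.FischerTypes.M23.base (Spor.FischerThm.good_group g) g.primitive h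
        obtain ⟨a, ha, -⟩ := hw
        exact Or.inr (Or.inr (Or.inr (Or.inr ⟨inferInstance,
          (Block.FischerTypes.M23.card_group B ⟨a, ha⟩).trans (by norm_num)⟩)))
      · have B := Block.FischerTypes.M24.base (Spor.FischerThm.good_group g) g.primitive h
        obtain ⟨χ, hχ⟩ := Block.FischerTypes.M24.parity_exists B
        obtain ⟨a, ha, -⟩ := hw
        have h1 := Spor.FischerThm.perfect_hom hper χ a
        rw [hχ a ha] at h1
        exact absurd h1 (by decide)
    · exact (Spor.FischerThm.sym_absurd (by omega) hper e).elim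
    · exact Or.inl ⟨m, ⟨e⟩⟩
    · exact Or.inr (Or.inl ⟨F, iF, iT, n, h4, ⟨e⟩⟩)
  · push Not at hw
    obtain ⟨e, -⟩ := Spor.FischerThm.width_one hD hZ hs fun a ha b hb hc => by
      by_contra hne
      exact hw a ha b hb hne hc
    exact (Spor.FischerThm.sym_absurd (by norm_num) hper e).elim

end Cfsg.Agent.S0480
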