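import Cfsg.Statements.S0481
import Mathlib
-- import your own Cfsg.Agent.* helpers here

set_option autoImplicit false
open Cfsg

namespace Cfsg.Agent.S0481

open scoped Pointwise

/-- Large extraspecial subgroups: let z be an involution of a finite group G whose centraliser C contains a normal 2-subgroup Q with centre of order 2 and all squares central, such that every element of G centralising Q lies in Q. Then C contains a Sylow 2-subgroup of G, and any involution of G whose centraliser contains a Sylow 2-subgroup of G is conjugate to z. -/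
theorem result {G : Type*} [Group G] [Finite G] (z : G) (hz : orderOf z = 2) (Q : Subgroup G) (hQC : Q ≤ Subgroup.centralizer ({z} : Set G)) (hQn : ∀ g ∈ Subgroup.centralizer ({z} : Set G), ∀ q ∈ Q, g * q * g⁻¹ ∈ Q) (hQ2 : IsPGroup 2 Q) (hZ : Nat.card (Subgroup.center Q) = 2) (hsq : ∀ x : Q, x ^ 2 ∈ Subgroup.center Q) (hlarge : Subgroup.centralizer (Q : Set G) ≤ Q) : (∃ P : Sylow 2 G, (P : Subgroup G) ≤ Subgroup.centralizer ({z} : Set G)) ∧ ∀ u : G, orderOf u = 2 → (∃ P : Sylow 2 G, (P : Subgroup G) ≤ Subgroup.centralizer ({u} : Set G)) → IsConj z u := by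
  classical
  haveI : Fact (Nat.Prime 2) := ⟨Nat.prime_two⟩
  set C := Subgroup.centralizer ({z} : Set G) with hC
  have hzQ : z ∈ Q := hlarge (Subgroup.mem_centralizer_iff.mpr fun q hq => Subgroup.mem_centralizer_singleton_iff.mp (hQC hq))
  have hz1 : z ≠ 1 := fun e => by rw [e, orderOf_one] at hz; omega
  have hzZ : (⟨z, hzQ⟩ : Q) ∈ Subgroup.center Q :=
    Subgroup.mem_center_iff.mpr fun q => Subtype.ext (Subgroup.mem_centralizer_singleton_iff.mp (hQC q.2))
  have hcen : ∀ u ∈ Subgroup.centralizer (Q : Set G), u = 1 ∨ u = z := by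
    intro u hu
    have huQ := hlarge hu
    have huZ : (⟨u, huQ⟩ : Q) ∈ Subgroup.center Q :=
      Subgroup.mem_center_iff.mpr fun q => Subtype.ext (Subgroup.mem_centralizer_iff.mp hu q q.2)
    obtain ⟨w, -, huniq⟩ := (Nat.card_eq_two_iff' (1 : Subgroup.center Q)).mp hZ
    have ez := huniq ⟨_, hzZ⟩ (fun e => hz1 (congrArg (fun t : Subgroup.center Q => ((t : Q) : G)) e))
    by_cases h : (⟨_, huZ⟩ : Subgroup.center Q) = 1
    · exact Or.inl (congrArg (fun t : Subgroup.center Q => ((t : Q) : G)) h)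
    · exact Or.inr (congrArg (fun t : Subgroup.center Q => ((t : Q) : G)) ((huniq _ h).trans ez.symm))
  have hQC' : IsPGroup 2 (Q.subgroupOf C) := hQ2.of_equiv (Subgroup.subgroupOfEquivOfLe hQC).symm
  obtain ⟨T, hT⟩ := hQC'.exists_le_sylow
  set T' : Subgroup G := (T : Subgroup C).map C.subtype with hT'
  have hT'C : T' ≤ C := Subgroup.map_subtype_le _
  have hQT : Q ≤ T' := fun q hq => ⟨⟨q, hQC hq⟩, hT hq, rfl⟩
  have hpT : IsPGroup 2 T' := T.isPGroup'.map _
  obtain ⟨P, hP⟩ := hpT.exists_le_sylow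
  have hPe : (P : Subgroup G) = T' := by
    refine le_antisymm (fun g hg => ?_) hP
    by_contra hgT
    have hlt : T'.subgroupOf P < ⊤ := lt_top_iff_ne_top.mpr fun e => hgT (Subgroup.subgroupOf_eq_top.mp e hg)
    haveI : Group.IsNilpotent (P : Subgroup G) := P.isPGroup'.isNilpotent
    obtain ⟨s, hs, hsK⟩ := SetLike.exists_of_lt (normalizerCondition_of_isNilpotent _ hlt)
    have hnorm : ∀ t ∈ T', (s : G)⁻¹ * t * s ∈ T' := fun t ht =>
      (Subgroup.mem_normalizer_iff''.mp hs (⟨t, hP ht⟩ : (P : Subgroup G))).mp ht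
    have hsz : Commute (s : G) z := by
      have hmem : (s : G) * z * (s : G)⁻¹ ∈ Subgroup.centralizer (Q : Set G) := by
        refine Subgroup.mem_centralizer_iff.mpr fun q hq => ?_
        have h := Subgroup.mem_centralizer_singleton_iff.mp (hT'C (hnorm q (hQT hq)))
        calc q * ((s : G) * z * (s : G)⁻¹) = s * ((s : G)⁻¹ * q * s * z) * (s : G)⁻¹ := by group
          _ = s * (z * ((s : G)⁻¹ * q * s)) * (s : G)⁻¹ := by rw [h]
          _ = (s : G) * z * (s : G)⁻¹ * q := by group
      rcases hcen _ hmem with h | h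
      · exact absurd (conj_eq_one_iff.mp h) hz1
      · exact mul_inv_eq_iff_eq_mul.mp h
    -- the enlarged 2-subgroup still lies in `C`
    let W : Subgroup G := (P : Subgroup G) ⊓ C
    have hW : IsPGroup 2 (W.subgroupOf C) :=
      (P.isPGroup'.to_le inf_le_left).of_equiv (Subgroup.subgroupOfEquivOfLe inf_le_right).symm
    have hTW : (T : Subgroup C) ≤ W.subgroupOf C := fun t ht => ⟨hP ⟨t, ht, rfl⟩, t.2⟩
    have heq := T.is_maximal' hW hTW
    have : (⟨s, Subgroup.mem_centralizer_singleton_iff.mpr hsz.eq⟩ : C) ∈ (T : Subgroup C) := by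
      rw [← heq]
      exact ⟨s.2, Subgroup.mem_centralizer_singleton_iff.mpr hsz.eq⟩
    exact hsK ⟨_, this, rfl⟩
  refine ⟨⟨P, hPe ▸ hT'C⟩, fun u hu ⟨R, hR⟩ => ?_⟩
  obtain ⟨g, hg⟩ := MulAction.exists_smul_eq G R P
  have hmem : g * u * g⁻¹ ∈ Subgroup.centralizer (Q : Set G) := by
    refine Subgroup.mem_centralizer_iff.mpr fun q hq => ?_
    have hqP : q ∈ (P : Subgroup G) := hP (hQT hq)
    have e : (P : Subgroup G) = MulAut.conj g • (R : Subgroup G) := by rw [← hg]; rfl
    rw [e, Subgroup.mem_pointwise_smul_iff_inv_smul_mem] at hqP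
    have h := Subgroup.mem_centralizer_singleton_iff.mp (hR hqP)
    simp only [MulAut.smul_def, MulAut.conj_inv_apply] at h
    calc q * (g * u * g⁻¹) = g * (g⁻¹ * q * g * u) * g⁻¹ := by group
      _ = g * (u * (g⁻¹ * q * g)) * g⁻¹ := by rw [h]
      _ = g * u * g⁻¹ * q := by group
  rcases hcen _ hmem with h | h
  · exact absurd (conj_eq_one_iff.mp h) (fun e => by rw [e, orderOf_one] at hu; omega)
  · exact (isConj_iff.mpr ⟨g, h⟩).symm

end Cfsg.Agent.S0481
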