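import Cfsg.Statements.S0503
import Cfsg.Agent.Lib.Spor.JTwoType.Disc.Entry
import Cfsg.Agent.Lib.Spor.JTwoType.BalanceTwo
import Cfsg.Agent.Lib.Spor.J2.Group
import Cfsg.Agent.Lib.Fus.J3Fusion.Iso
-- import your own Cfsg.Agent.* helpers here

set_option autoImplicit false
open Cfsg

namespace Cfsg.Agent.S0503

/-- A finite simple group containing an elementary abelian subgroup of order 8 whose Sylow 2-subgroups have a
disconnected commuting graph of Klein four-subgroups is simple of order 604800 or 50232960. -/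
theorem result {G : Type*} [Group G] [Finite G] [IsSimpleGroup G]
    (h3 : ¬ Cfsg.PRankLE 2 2 G) (S : Sylow 2 G) (hS : ¬ Cfsg.IsFourConnected (S : Subgroup G)) :
    Cfsg.IsJ2 G ∨ Cfsg.IsJ3 G := by
  obtain ⟨c, -⟩ := Cfsg.Agent.Spor.JTwoType.Disc.exists_conf h3 S hS
  obtain ⟨s⟩ := Cfsg.Agent.Spor.JTwoType.Disc.Conf.exists_shape c
  rcases (⟨c.S, s, inferInstance⟩ : Cfsg.Agent.Spor.JTwoType.Setting G).isoJ2_or_isoJ3 with h | h
  · obtain ⟨e⟩ := h
    exact Or.inl ⟨inferInstance, (Nat.card_congr e.toEquiv).trans Cfsg.Agent.J2Cert.card_J2⟩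
  · obtain ⟨e⟩ := Cfsg.Agent.Fus.J3Fusion.exists_iso h
    exact Or.inr ⟨inferInstance, (Nat.card_congr e.toEquiv).symm.trans Cfsg.Agent.Spor.Cos.J3.card_eq⟩

end Cfsg.Agent.S0503
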