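import Cfsg.Statements.S0513
import Cfsg.Agent.Lib.Spor.U52Type.Final
import Cfsg.Agent.Lib.Spor.U52Type.Cores
import Cfsg.Agent.Lib.Spor.U52Type.Model

set_option autoImplicit false
open Cfsg

namespace Cfsg.Agent.S0513

/-- A finite simple group whose Sylow 2-subgroups are isomorphic to a Sylow 2-subgroup of the projective special
unitary group of dimension 5 over the field with 4 elements (q = 2) is isomorphic to that unitary group. -/
theorem result {G : Type*} [Group G] [Finite G] [IsSimpleGroup G]
    {F : Type*} [Field F] [Fintype F] (hF : Fintype.card F = 4) (S : Sylow 2 G) (P : Sylow 2 (Cfsg.PSU 5 F 2))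
    (hS : Nonempty ((S : Subgroup G) ≃* (P : Subgroup (Cfsg.PSU 5 F 2)))) :
    Nonempty (G ≃* Cfsg.PSU 5 F 2) := by
  obtain ⟨e⟩ := hS
  obtain ⟨P0, ⟨s0⟩⟩ := Cfsg.Agent.Spor.U52Type.exists_shape_U5 hF
  have hcard : Nat.card (Cfsg.PSU 5 F 2) = 13685760 := by
    have hc := Cfsg.Agent.S0280.result (show Fintype.card F = 2 ^ 2 by rw [hF]; norm_num) 5 (by norm_num)
    norm_num [Finset.prod_range_succ, Nat.even_iff] at hc
    omega
  have : Finite (Cfsg.PSU 5 F 2) := Nat.finite_of_card_ne_zero (by rw [hcard]; norm_num)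
  let s := s0.ofEquiv ((Sylow.equiv P0 P).trans e.symm)
  have hnc : ¬ IsMulCommutative G := fun hc => by
    haveI := hc
    letI : CommGroup G := { ‹Group G› with mul_comm := hc.is_comm.comm }
    have hp : (Nat.card G).Prime := IsSimpleGroup.prime_card
    have h2 := Subgroup.card_subgroup_dvd_card (S : Subgroup G)
    rw [s.card] at h2
    rcases hp.eq_one_or_self_of_dvd _ h2 with h | h
    · norm_num at h
    · rw [← h] at hp
      norm_num at hp
  let d : Cfsg.Agent.Spor.U52Type.Setting G := ⟨S, s, inferInstance, hnc⟩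
  exact d.recognise d.fused.centr hF

end Cfsg.Agent.S0513
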