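import Cfsg.Statements.S0525
import Cfsg.Agent.Lib.Grp.Supersolvable
-- import your own Cfsg.Agent.* helpers here

set_option autoImplicit false
open Cfsg

namespace Cfsg.Agent.S0525

open Cfsg.Agent.Grp

theorem reach_left {G H : Type*} [Group G] [Group H] {K : Subgroup G} (h : SSReach K) :
    SSReach (K.prod (⊥ : Subgroup H)) := by
  induction h with
  | bot => rw [Subgroup.bot_prod_bot]; exact SSReach.bot
  | @step K g _ hn ih =>
    have e : (K ⊔ Subgroup.zpowers g).prod (⊥ : Subgroup H) =
        K.prod ⊥ ⊔ Subgroup.zpowers ((g, 1) : G × H) := by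
      refine le_antisymm ?_ (sup_le (Subgroup.prod_mono le_sup_left le_rfl)
        (Subgroup.zpowers_le.mpr ⟨Subgroup.mem_sup_right (Subgroup.mem_zpowers g), rfl⟩))
      rw [Subgroup.prod_le_iff]
      refine ⟨?_, by simp⟩
      rw [Subgroup.map_sup, MonoidHom.map_zpowers]
      refine sup_le_sup ?_ le_rfl
      rintro _ ⟨k, hk, rfl⟩
      exact ⟨hk, rfl⟩
    have hn' : ((K ⊔ Subgroup.zpowers g).prod (⊥ : Subgroup H)).Normal := inferInstance
    rw [e] at hn' ⊢
    exact SSReach.step _ ih hn'

theorem reach_right {G H : Type*} [Group G] [Group H] {K : Subgroup H} (h : SSReach K)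
    (h0 : SSReach ((⊤ : Subgroup G).prod (⊥ : Subgroup H))) :
    SSReach ((⊤ : Subgroup G).prod K) := by
  induction h with
  | bot => exact h0
  | @step K g _ hn ih =>
    have e : (⊤ : Subgroup G).prod (K ⊔ Subgroup.zpowers g) =
        (⊤ : Subgroup G).prod K ⊔ Subgroup.zpowers ((1, g) : G × H) := by
      refine le_antisymm ?_ (sup_le (Subgroup.prod_mono le_rfl le_sup_left)
        (Subgroup.zpowers_le.mpr ⟨trivial, Subgroup.mem_sup_right (Subgroup.mem_zpowers g)⟩))
      rw [Subgroup.prod_le_iff]
      constructor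
      · refine le_trans ?_ le_sup_left
        rintro _ ⟨k, hk, rfl⟩
        exact ⟨trivial, K.one_mem⟩
      · rw [Subgroup.map_sup, MonoidHom.map_zpowers]
        refine sup_le_sup ?_ le_rfl
        rintro _ ⟨k, hk, rfl⟩
        exact ⟨trivial, hk⟩
    have hn' : ((⊤ : Subgroup G).prod (K ⊔ Subgroup.zpowers g)).Normal := inferInstance
    rw [e] at hn' ⊢
    exact SSReach.step _ ih hn'

/-- A direct product of two finite supersolvable groups is supersolvable. -/
theorem result {G H : Type*} [Group G] [Group H] [Finite G] [Finite H] (hG : Cfsg.IsSupersolvable G) (hH : Cfsg.IsSupersolvable H) : Cfsg.IsSupersolvable (G × H) := by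
  rw [isSupersolvable_iff] at hG hH ⊢
  rw [← Subgroup.top_prod_top]
  exact reach_right hH (reach_left hG)

end Cfsg.Agent.S0525
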