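import Cfsg.Statements.S0527
import Cfsg.Agent.Lib.Grp.Supersolvable
-- import your own Cfsg.Agent.* helpers here

set_option autoImplicit false
open Cfsg

namespace Cfsg.Agent.S0527

open Cfsg.Agent.Grp
open scoped Pointwise

theorem index_prime {G : Type*} [Group G] [Finite G] (c : G) [hn : (Subgroup.zpowers c).Normal]
    (M : Subgroup G) (hM : IsCoatom M) (hc : c ∉ M) : M.index.Prime := by
  classical
  have hex : ∃ m, 0 < m ∧ c ^ m ∈ M := ⟨orderOf c, orderOf_pos c, by rw [pow_orderOf_eq_one]; exact M.one_mem⟩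
  set m := Nat.find hex
  obtain ⟨hm0, hmM⟩ := Nat.find_spec hex
  have hiff : ∀ z : ℤ, c ^ z ∈ M ↔ (m : ℤ) ∣ z := by
    intro z
    constructor
    · intro hz
      by_contra hnd
      have h0 : 0 ≤ z % m := Int.emod_nonneg z (by omega)
      have hlt : z % m < m := Int.emod_lt_of_pos z (by omega)
      have hne : z % m ≠ 0 := fun h => hnd (Int.dvd_of_emod_eq_zero h)
      have hmem : c ^ (z % m).toNat ∈ M := by
        rw [← zpow_natCast, Int.toNat_of_nonneg h0, Int.emod_def, zpow_sub, zpow_mul, zpow_natCast]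
        exact M.mul_mem hz (M.inv_mem (M.zpow_mem hmM _))
      exact Nat.find_min hex (show (z % m).toNat < m by omega) ⟨by omega, hmem⟩
    · rintro ⟨k, rfl⟩
      rw [zpow_mul, zpow_natCast]
      exact M.zpow_mem hmM k
  have htop : M ⊔ Subgroup.zpowers c = ⊤ :=
    hM.2 _ (lt_of_le_of_ne le_sup_left fun e => hc (e ▸ Subgroup.mem_sup_right (Subgroup.mem_zpowers c)))
  have hidx : M.index = m := by
    have e1 := card_sup_mul_card_inf_normal (H := M) (N := Subgroup.zpowers c)
    rw [htop, Subgroup.card_top, ← Subgroup.card_mul_index M] at e1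
    have e2 : M ⊓ Subgroup.zpowers c = Subgroup.zpowers (c ^ m) := by
      refine le_antisymm ?_ (Subgroup.zpowers_le.mpr ⟨hmM, Subgroup.pow_mem _ (Subgroup.mem_zpowers c) m⟩)
      rintro _ ⟨hz, z, rfl⟩
      obtain ⟨k, rfl⟩ := (hiff z).mp hz
      exact ⟨k, by simp [zpow_mul]⟩
    have hmo : m ∣ orderOf c := by
      have := (hiff (orderOf c)).mp (by rw [zpow_natCast, pow_orderOf_eq_one]; exact M.one_mem)
      exact_mod_cast this
    rw [e2, Nat.card_zpowers, Nat.card_zpowers, orderOf_pow' c hm0.ne', Nat.gcd_eq_right hmo] at e1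
    have h3 : M.index * (orderOf c / m) = m * (orderOf c / m) := by
      rw [Nat.mul_div_cancel' hmo]
      refine Nat.eq_of_mul_eq_mul_left (Nat.card_pos (α := M)) ?_
      rw [← mul_assoc]; exact e1
    exact Nat.eq_of_mul_eq_mul_right (Nat.div_pos (Nat.le_of_dvd (orderOf_pos c) hmo) hm0) h3
  rw [hidx]
  have hm1 : m ≠ 1 := fun h => hc (by have : c ^ m ∈ M := hmM; rwa [h, pow_one] at this)
  obtain ⟨l, hl, hlm⟩ := Nat.exists_prime_and_dvd hm1
  by_contra hnp
  have hlne : l ≠ m := fun h => hnp (h ▸ hl)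
  have hLn : (Subgroup.zpowers (c ^ l)).Normal := by
    refine ⟨fun y hy x => ?_⟩
    obtain ⟨k, rfl⟩ := hy
    obtain ⟨n, hn'⟩ := hn.conj_mem c (Subgroup.mem_zpowers c) x
    simp only at hn'
    refine ⟨n * k, ?_⟩
    simp only
    rw [← conj_zpow, ← conj_pow, ← hn', ← zpow_natCast (c ^ n) l, ← zpow_mul, ← zpow_mul, ← zpow_natCast c l, ← zpow_mul]
    congr 1; ring
  have hLM : c ^ l ∉ M := fun h => by
    have := (hiff l).mp (by rwa [zpow_natCast])
    exact hlne ((Nat.prime_dvd_prime_iff_eq hl hl).mp dvd_rfl |>.trans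
      (Nat.dvd_antisymm hlm (by exact_mod_cast this)))
  have htop2 : M ⊔ Subgroup.zpowers (c ^ l) = ⊤ :=
    hM.2 _ (lt_of_le_of_ne le_sup_left fun e => hLM (e ▸ Subgroup.mem_sup_right (Subgroup.mem_zpowers _)))
  obtain ⟨a, ha, _, ⟨t, rfl⟩, hat⟩ := Subgroup.mem_sup_of_normal_right.mp (show c ∈ M ⊔ Subgroup.zpowers (c ^ l) by rw [htop2]; trivial)
  have h1 : c ^ (1 - (l : ℤ) * t) ∈ M := by
    rw [zpow_sub, zpow_one, zpow_mul, zpow_natCast]
    simp only at hat
    rw [show c * ((c ^ l) ^ t)⁻¹ = a by rw [mul_inv_eq_iff_eq_mul]; exact hat.symm]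
    exact ha
  have h2 : (l : ℤ) ∣ 1 - (l : ℤ) * t := dvd_trans (Int.natCast_dvd_natCast.mpr hlm) ((hiff _).mp h1)
  have h3 : (l : ℤ) ∣ 1 := by
    have := dvd_add h2 (dvd_mul_right (l : ℤ) t)
    simpa using this
  exact hl.ne_one (Nat.dvd_one.mp (by exact_mod_cast h3))

theorem reach_max {G : Type*} [Group G] [Finite G] (M : Subgroup G) (hM : IsCoatom M)
    (K : Subgroup G) (hK : SSReach K) : K ≤ M ∨ M.index.Prime := by
  induction hK with
  | bot => exact Or.inl bot_le
  | @step K g hK hn ih =>
    rcases ih with ih | ih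
    · by_cases hg : g ∈ M
      · exact Or.inl (sup_le ih (Subgroup.zpowers_le.mpr hg))
      · right
        have := hK.normal
        set f := QuotientGroup.mk' K
        have hf : Function.Surjective f := QuotientGroup.mk'_surjective K
        have hker : f.ker ≤ M := by rw [QuotientGroup.ker_mk']; exact ih
        have hn2 : (Subgroup.zpowers (f g)).Normal := by
          have := hn.map f hf
          rwa [Subgroup.map_sup, QuotientGroup.map_mk'_self, bot_sup_eq, MonoidHom.map_zpowers] at this
        have hco : IsCoatom (M.map f) := by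
          refine ⟨fun e => hM.1 ?_, fun H hH => ?_⟩
          · rw [← Subgroup.comap_map_eq_self hker, e, Subgroup.comap_top]
          · have : M < H.comap f := by
              refine lt_of_le_of_ne (Subgroup.map_le_iff_le_comap.mp hH.le) fun e => hH.ne ?_
              rw [e, Subgroup.map_comap_eq_self_of_surjective hf]
            rw [← Subgroup.map_comap_eq_self_of_surjective hf H, hM.2 _ this, Subgroup.map_top_of_surjective f hf]
        have := index_prime (f g) (M.map f) hco (fun h => hg (by
          rw [← Subgroup.comap_map_eq_self hker]; exact h))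
        rwa [Subgroup.index_map_eq M hf hker] at this
    · exact Or.inr ih

/-- In a finite supersolvable group the index of any maximal subgroup is a prime number. -/
theorem result {G : Type*} [Group G] [Finite G] (hG : Cfsg.IsSupersolvable G) (M : Subgroup G) (hM : IsCoatom M) : M.index.Prime := by
  rcases reach_max M hM ⊤ (isSupersolvable_iff.mp hG) with h | h
  · exact absurd (top_unique h) hM.1
  · exact h

end Cfsg.Agent.S0527
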