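import Cfsg.Statements.S0528
import Cfsg.Agent.Lib.Grp.Supersolvable
-- import your own Cfsg.Agent.* helpers here

set_option autoImplicit false
open Cfsg

namespace Cfsg.Agent.S0528

open Cfsg.Agent.Grp

/-- An extension of a cyclic normal subgroup by a supersolvable group is supersolvable: if N is a cyclic normal subgroup of a finite group G and G modulo N is supersolvable, then G is supersolvable. -/
theorem result {G : Type*} [Group G] [Finite G] (N : Subgroup G) [N.Normal] [IsCyclic N] (h : Cfsg.IsSupersolvable (G ⧸ N)) : Cfsg.IsSupersolvable G := by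
  rw [isSupersolvable_iff] at h ⊢
  have hbot : SSReach ((⊥ : Subgroup (G ⧸ N)).comap (QuotientGroup.mk' N)) := by
    rw [MonoidHom.comap_bot, QuotientGroup.ker_mk']
    obtain ⟨⟨g, hg⟩, hgen⟩ := IsCyclic.exists_generator (α := N)
    have e : N = (⊥ : Subgroup G) ⊔ Subgroup.zpowers g := by
      rw [bot_sup_eq]
      refine le_antisymm (fun x hx => ?_) (Subgroup.zpowers_le.mpr hg)
      obtain ⟨m, hm⟩ := hgen ⟨x, hx⟩
      exact ⟨m, congrArg Subtype.val hm⟩
    have hn : ((⊥ : Subgroup G) ⊔ Subgroup.zpowers g).Normal := e ▸ inferInstance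
    rw [e]
    exact SSReach.step g SSReach.bot hn
  have := h.comap' _ hbot
  rwa [Subgroup.comap_top] at this

end Cfsg.Agent.S0528
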