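import Cfsg.Statements.S0531
import Mathlib
import Cfsg.Agent.Lib.Grp.SupersolvableCriteria
-- import your own Cfsg.Agent.* helpers here

set_option autoImplicit false
open Cfsg

namespace Cfsg.Agent.S0531

universe w

theorem clt_of_supersolvable : ∀ (n : ℕ) {G : Type w} [Group G] [Finite G],
    Nat.card G = n → Cfsg.IsSupersolvable G → Cfsg.HasSubgroupOfEveryOrder G := by
  intro n
  induction n using Nat.strong_induction_on with
  | _ n IH =>
  intro G _ _ hcard hG d hd
  by_cases h1 : Nat.card G = 1
  · exact ⟨⊥, by rw [Subgroup.card_bot]; exact (Nat.dvd_one.mp (h1 ▸ hd)).symm⟩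
  have htop : (⊤ : Subgroup G) ≠ ⊥ := fun h => h1 (by rw [← Subgroup.card_top, h, Subgroup.card_bot])
  obtain ⟨N, hN, -, hp⟩ := Cfsg.Agent.Grp.exists_prime_normal_le hG ⊤ htop
  haveI := hN
  set p := Nat.card N with hpN
  have hne : N ≠ ⊥ := fun h => hp.ne_one (by rw [hpN, h, Subgroup.card_bot])
  have hq : Nat.card G = Nat.card (G ⧸ N) * p := Subgroup.card_eq_card_quotient_mul_card_subgroup N
  have hGq := Cfsg.Agent.Grp.isSupersolvable_of_surjective (QuotientGroup.mk'_surjective N) hG
  have IH' := IH _ (hcard ▸ Cfsg.Agent.Grp.card_quotient_lt hne) rfl hGq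
  have pre : ∀ S : Subgroup (G ⧸ N),
      Nat.card (S.comap (QuotientGroup.mk' N)) = Nat.card S * p := by
    intro S
    have e1 := Subgroup.card_mul_index (S.comap (QuotientGroup.mk' N))
    rw [Subgroup.index_comap_of_surjective _ (QuotientGroup.mk'_surjective N), hq,
      ← S.card_mul_index] at e1
    exact Nat.eq_of_mul_eq_mul_right (Nat.pos_of_ne_zero Subgroup.index_ne_zero_of_finite)
      (e1.trans (by ring))
  by_cases hpd : p ∣ d
  · obtain ⟨e, rfl⟩ := hpd
    rw [hq, mul_comm _ p] at hd
    obtain ⟨S, hS⟩ := IH' e (Nat.dvd_of_mul_dvd_mul_left hp.pos hd)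
    exact ⟨S.comap (QuotientGroup.mk' N), by rw [pre, hS, mul_comm]⟩
  · have hcop : Nat.Coprime d p := (hp.coprime_iff_not_dvd.mpr hpd).symm
    rw [hq] at hd
    obtain ⟨S, hS⟩ := IH' d (hcop.dvd_of_dvd_mul_right hd)
    set T := S.comap (QuotientGroup.mk' N) with hT
    have hNT : N ≤ T := fun x hx => by
      rw [hT, Subgroup.mem_comap,
        show QuotientGroup.mk' N x = 1 from (QuotientGroup.eq_one_iff x).mpr hx]
      exact one_mem S
    have c1 : Nat.card (N.subgroupOf T) = p :=
      Nat.card_congr (Subgroup.subgroupOfEquivOfLe hNT).toEquiv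
    have c2 : (N.subgroupOf T).index = d := by
      have := (N.subgroupOf T).card_mul_index
      rw [c1, hT, pre, hS, mul_comm d] at this
      exact Nat.eq_of_mul_eq_mul_left hp.pos this
    obtain ⟨X, hX⟩ := Subgroup.exists_right_complement'_of_coprime (N := N.subgroupOf T)
      (by rw [c1, c2]; exact hcop.symm)
    exact ⟨X.map T.subtype, by rw [Subgroup.card_subtype, ← c2]; exact hX.symm.index_eq_card.symm⟩

/-- A finite supersolvable group has a subgroup of each order dividing its order. -/
theorem result {G : Type*} [Group G] [Finite G] (hG : Cfsg.IsSupersolvable G) : Cfsg.HasSubgroupOfEveryOrder G := by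
  exact clt_of_supersolvable _ rfl hG

end Cfsg.Agent.S0531
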