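import Cfsg.Statements.S3998
import Cfsg.Agent.Lib.Grp.Supersolvable
import Cfsg.Agent.Lib.Grp.SchurZassenhaus
-- import your own Cfsg.Agent.* helpers here

set_option autoImplicit false
open Cfsg

namespace Cfsg.Agent.S3998

open Cfsg.Agent.Grp

universe u

/-- `N` is a normal Hall subgroup for the primes at least `k`. -/
def IsTowerTerm {G : Type*} [Group G] (k : ℕ) (N : Subgroup G) : Prop :=
  N.Normal ∧ (∀ q : ℕ, q.Prime → q ∣ Nat.card N → k ≤ q) ∧ (∀ q : ℕ, q.Prime → q ∣ N.index → q < k)

theorem tower_aux (n : ℕ) : ∀ (G : Type u) [Group G] [Finite G], Cfsg.IsSupersolvable G →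
    Nat.card G = n → ∀ k : ℕ, ∃ N : Subgroup G, IsTowerTerm k N := by
  induction n using Nat.strong_induction_on with
  | _ n ih =>
  intro G _ _ hG hn k
  by_cases h1 : Nat.card G = 1
  · refine ⟨⊤, inferInstance, fun q hq hd => ?_, fun q hq hd => ?_⟩
    · rw [Subgroup.card_top, h1] at hd; exact absurd (Nat.dvd_one.mp hd) hq.ne_one
    · rw [Subgroup.index_top] at hd; exact absurd (Nat.dvd_one.mp hd) hq.ne_one
  -- a normal subgroup of prime order
  obtain ⟨C, hC, hCp⟩ : ∃ C : Subgroup G, C.Normal ∧ (Nat.card C).Prime := by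
    have hall : ∀ K : Subgroup G, SSReach K → K = ⊥ ∨ ∃ C : Subgroup G, C.Normal ∧ (Nat.card C).Prime := by
      intro K hK
      induction hK with
      | bot => exact Or.inl rfl
      | @step K g hK hn ih' =>
        rcases ih' with rfl | h
        · by_cases hg : g = 1
          · left; simp [hg]
          right
          rw [bot_sup_eq] at hn
          obtain ⟨r, hr, hdvd⟩ := Nat.exists_prime_and_dvd (n := orderOf g) (by simpa using hg)
          refine ⟨Subgroup.zpowers (g ^ (orderOf g / r)), ⟨fun x hx y => ?_⟩, ?_⟩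
          · obtain ⟨i, rfl⟩ := Subgroup.mem_zpowers_iff.mp hx
            obtain ⟨j, hj⟩ := hn.conj_mem g (Subgroup.mem_zpowers g) y
            simp only at hj
            refine Subgroup.mem_zpowers_iff.mpr ⟨j * i, ?_⟩
            rw [← conj_zpow, ← conj_pow, ← hj, ← zpow_natCast, ← zpow_natCast, ← zpow_mul,
              ← zpow_mul, ← zpow_mul]
            congr 1
            ring
          · rw [Nat.card_zpowers, orderOf_pow_orderOf_div (orderOf_pos g).ne' hdvd]
            exact hr
        · exact Or.inr h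
    rcases hall ⊤ (isSupersolvable_iff.mp hG) with h | h
    · exact absurd (by rw [← Subgroup.card_top, h, Subgroup.card_bot]) h1
    · exact h
  obtain ⟨N', hN', hN'1, hN'2⟩ := ih _ (hn ▸ card_quotient_lt (N := C)
      (fun h => hCp.ne_one (by rw [h, Subgroup.card_bot]))) (G ⧸ C)
    (isSupersolvable_of_surjective (QuotientGroup.mk'_surjective C) hG) rfl k
  set L := N'.comap (QuotientGroup.mk' C) with hL
  have hLn : L.Normal := hN'.comap _
  have hCL : C ≤ L := fun c hc => by
    rw [hL, Subgroup.mem_comap, show QuotientGroup.mk' C c = 1 from (QuotientGroup.eq_one_iff c).mpr hc]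
    exact N'.one_mem
  have hindex : L.index = N'.index := Subgroup.index_comap_of_surjective _ (QuotientGroup.mk'_surjective C)
  have hcard : Nat.card L = Nat.card C * Nat.card N' := by
    have e1 := L.card_mul_index
    have e2 := N'.card_mul_index
    rw [hindex, Subgroup.card_eq_card_quotient_mul_card_subgroup C, ← e2] at e1
    refine Nat.eq_of_mul_eq_mul_right (Nat.pos_of_ne_zero (Subgroup.index_ne_zero_of_finite (H := N'))) ?_
    rw [e1]; ring
  by_cases hrk : k ≤ Nat.card C
  · refine ⟨L, hLn, fun q hq hd => ?_, fun q hq hd => hN'2 q hq (hindex ▸ hd)⟩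
    rw [hcard] at hd
    rcases hq.dvd_mul.mp hd with h | h
    · exact ((Nat.prime_dvd_prime_iff_eq hq hCp).mp h) ▸ hrk
    · exact hN'1 q hq h
  have hcop : (Nat.card C).Coprime (Nat.card N') :=
    hCp.coprime_iff_not_dvd.mpr fun h => hrk (hN'1 _ hCp h)
  set C' := C.subgroupOf L
  have hC' : Nat.card C' = Nat.card C := Nat.card_congr (Subgroup.subgroupOfEquivOfLe hCL).toEquiv
  have hC'i : C'.index = Nat.card N' := by
    have := C'.card_mul_index
    rw [hC', hcard] at this
    exact Nat.eq_of_mul_eq_mul_left Nat.card_pos this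
  obtain ⟨X', hX'⟩ := Subgroup.exists_right_complement'_of_coprime (N := C')
    (by rw [hC', hC'i]; exact hcop)
  set X := X'.map L.subtype with hX
  have hXL : X ≤ L := Subgroup.map_subtype_le _
  have hXcard : Nat.card X = Nat.card N' := by
    rw [hX, Subgroup.card_subtype, ← hC'i]
    exact hX'.symm.index_eq_card.symm
  have hcent : X ≤ Subgroup.centralizer (C : Set G) := by
    intro x hx
    let φ : G →* MulAut C := MulAut.conjNormal
    have hord : orderOf (φ x) = 1 := by
      have := Fact.mk hCp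
      have hcyc : IsCyclic C := isCyclic_of_prime_card (p := Nat.card C) rfl
      have h1 : orderOf (φ x) ∣ Nat.card C - 1 := by
        rw [← Nat.totient_prime hCp, ← IsCyclic.card_mulAut]
        exact orderOf_dvd_natCard _
      have h2 : orderOf (φ x) ∣ Nat.card N' :=
        (orderOf_map_dvd φ x).trans (hXcard ▸ Subgroup.orderOf_mk x hx ▸ orderOf_dvd_natCard _)
      by_contra hne
      obtain ⟨q, hq, hqd⟩ := Nat.exists_prime_and_dvd hne
      have hpos : 0 < Nat.card C - 1 := by have := hCp.two_le; omega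
      have := Nat.le_of_dvd hpos (hqd.trans h1)
      have := hN'1 q hq (hqd.trans h2)
      omega
    rw [orderOf_eq_one_iff] at hord
    rw [Subgroup.mem_centralizer_iff]
    intro c hc
    have h3 : φ x ⟨c, hc⟩ = ⟨c, hc⟩ := by rw [hord]; rfl
    have h4 : x * c * x⁻¹ = c := by simpa [φ] using congrArg Subtype.val h3
    exact (mul_inv_eq_iff_eq_mul.mp h4).symm
  -- `X` consists of the elements of `L` whose order is prime to `|C|`
  have hchar : ∀ g : G, g ∈ X ↔ g ∈ L ∧ g ^ Nat.card N' = 1 := by
    refine fun g => ⟨fun hg => ⟨hXL hg, ?_⟩, fun ⟨hgL, hg⟩ => ?_⟩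
    · rw [← hXcard]; exact congrArg Subtype.val (pow_card_eq_one' (x := (⟨g, hg⟩ : X)))
    obtain ⟨⟨c, x⟩, hcx, -⟩ := hX'.existsUnique ⟨g, hgL⟩
    simp only at hcx
    have hxX : ((x : L) : G) ∈ X := ⟨x, x.2, rfl⟩
    have hcC : ((c : L) : G) ∈ C := c.2
    have hxc : Commute ((c : L) : G) ((x : L) : G) := Subgroup.mem_centralizer_iff.mp (hcent hxX) _ hcC
    have e : ((c : L) : G) * (x : L) = g := congrArg Subtype.val hcx
    have h5 : ((c : L) : G) ^ Nat.card N' = 1 := by
      rw [← e, hxc.mul_pow] at hg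
      have : ((x : L) : G) ^ Nat.card N' = 1 := by
        rw [← hXcard]; exact congrArg Subtype.val (pow_card_eq_one' (x := (⟨_, hxX⟩ : X)))
      rwa [this, mul_one] at hg
    have h6 : ((c : L) : G) = 1 := by
      rw [← orderOf_eq_one_iff]
      exact Nat.eq_one_of_dvd_coprimes hcop
        (Subgroup.orderOf_mk _ hcC ▸ orderOf_dvd_natCard _) (orderOf_dvd_of_pow_eq_one h5)
    rw [← e, h6, one_mul]
    exact hxX
  have hXn : X.Normal := ⟨fun g hg y => by
    rw [hchar] at hg ⊢
    exact ⟨hLn.conj_mem g hg.1 y, by rw [conj_pow, hg.2, mul_one, mul_inv_cancel]⟩⟩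
  refine ⟨X, hXn, fun q hq hd => hN'1 q hq (hXcard ▸ hd), fun q hq hd => ?_⟩
  have hrel : X.relIndex L = Nat.card C := by
    have := card_mul_relIndex hXL
    rw [hXcard, hcard, mul_comm (Nat.card C)] at this
    exact Nat.eq_of_mul_eq_mul_left Nat.card_pos this
  rw [← Subgroup.relIndex_mul_index hXL, hrel, hindex] at hd
  rcases hq.dvd_mul.mp hd with h | h
  · rw [(Nat.prime_dvd_prime_iff_eq hq hCp).mp h]; omega
  · exact hN'2 q hq h

/-- Let G and H be finite groups with the same order type (for every m the same number of elements of order m). If G is supersolvable then H is solvable. -/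
theorem result {G H : Type*} [Group G] [Finite G] [Group H] [Finite H] (hT : (∀ m : ℕ, Nat.card {g : G // orderOf g = m} = Nat.card {h : H // orderOf h = m})) (hG : Cfsg.IsSupersolvable G) :
    Group.IsSolvable H := by
  classical
  have hGS := hG
  have := Fintype.ofFinite G
  have := Fintype.ofFinite H
  -- a bijection preserving element orders
  let e : G ≃ H := Equiv.ofFiberEquiv (f := fun g : G => orderOf g) (g := fun h : H => orderOf h)
    fun m => Classical.choice (Finite.card_eq.mp (hT m))
  have he : ∀ g : G, orderOf (e g) = orderOf g := fun g =>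
    Equiv.ofFiberEquiv_map (f := fun g : G => orderOf g) (g := fun h : H => orderOf h) _ g
  have hcardGH : Nat.card G = Nat.card H := Nat.card_congr e
  suffices ∀ d k : ℕ, Nat.card G + 1 - k = d → ∀ N : Subgroup G, IsTowerTerm k N →
      ∃ M : Subgroup H, M.Normal ∧ Nat.card M = Nat.card N ∧ Group.IsSolvable M by
    obtain ⟨N, hN⟩ := tower_aux _ G hGS rfl 0
    obtain ⟨M, -, hM, hMs⟩ := this _ 0 rfl N hN
    have hN1 : N = ⊤ := Subgroup.index_eq_one.mp (by
      by_contra h
      obtain ⟨q, hq, hd⟩ := Nat.exists_prime_and_dvd h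
      exact absurd (hN.2.2 q hq hd) (by omega))
    have hMtop : M = ⊤ := Subgroup.eq_top_of_card_eq M (by rw [hM, hN1, Subgroup.card_top, hcardGH])
    rw [hMtop] at hMs
    exact Group.isSolvable_of_surjective (f := (Subgroup.topEquiv : (⊤ : Subgroup H) ≃* H).toMonoidHom)
      (Subgroup.topEquiv : (⊤ : Subgroup H) ≃* H).surjective
  intro d
  induction d using Nat.strong_induction_on with
  | _ d ih =>
  intro k hd N hN
  by_cases hk : Nat.card G < k
  · have hNbot : N = ⊥ := by
      by_contra h
      obtain ⟨q, hq, hqd⟩ := Nat.exists_prime_and_dvd (mt Subgroup.card_eq_one.mp h)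
      have := Nat.le_of_dvd Nat.card_pos (hqd.trans N.card_subgroup_dvd_card)
      have := hN.2.1 q hq hqd
      omega
    exact ⟨⊥, inferInstance, by rw [hNbot, Subgroup.card_bot, Subgroup.card_bot], inferInstance⟩
  obtain ⟨N₁, hN₁⟩ := tower_aux _ G hGS rfl (k + 1)
  obtain ⟨M, hMn, hM, hMs⟩ := ih (Nat.card G + 1 - (k + 1)) (by omega) (k + 1) rfl N₁ hN₁
  have := hN.1
  have hle : N₁ ≤ N := le_of_coprime_index (Nat.coprime_of_dvd fun q hq hd1 hd2 => by
    have := hN₁.2.1 q hq hd1
    have := hN.2.2 q hq hd2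
    omega)
  set a := N₁.relIndex N with ha
  have hNcard : Nat.card N = Nat.card N₁ * a := (card_mul_relIndex hle).symm
  by_cases ha1 : a = 1
  · exact ⟨M, hMn, by rw [hM, hNcard, ha1, mul_one], hMs⟩
  have haq : ∀ q : ℕ, q.Prime → q ∣ a → q = k := fun q hq hqa => by
    have h1 := hN.2.1 q hq (hNcard ▸ hqa.mul_left _)
    have h2 := hN₁.2.2 q hq (hqa.trans ⟨_, (Subgroup.relIndex_mul_index hle).symm⟩)
    omega
  have hkp : k.Prime := by
    obtain ⟨q, hq, hqd⟩ := Nat.exists_prime_and_dvd ha1
    exact haq q hq hqd ▸ hq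
  have := Fact.mk hkp
  have hindM : M.index = a * N.index := by
    have e1 := M.card_mul_index
    rw [hM, ← hcardGH, ← N.card_mul_index, hNcard, mul_assoc] at e1
    exact Nat.eq_of_mul_eq_mul_left Nat.card_pos e1
  let Q : Sylow k (H ⧸ M) := default
  have hQ : Nat.card Q = a := by
    have hna : ¬ k ∣ N.index := fun h => lt_irrefl _ (hN.2.2 k hkp h)
    have ha0 : a ≠ 0 := fun h => by rw [h, mul_zero] at hNcard; exact Nat.card_pos.ne' hNcard
    rw [Q.card_eq_multiplicity, ← Subgroup.index_eq_card, hindM,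
      Nat.factorization_mul ha0 Subgroup.index_ne_zero_of_finite, Finsupp.add_apply,
      Nat.factorization_eq_zero_of_not_dvd hna, add_zero]
    rw [Nat.eq_prime_pow_of_unique_prime_dvd ha0 fun {q} hq hd => haq q hq hd,
      Nat.Prime.factorization_pow hkp, Finsupp.single_eq_same]
  -- counting solutions of `x ^ |N| = 1`
  have hsol : Nat.card {x : H // x ^ Nat.card N = 1} = Nat.card N := by
    rw [← Nat.card_congr (e.subtypeEquiv (p := fun g => g ∈ N) fun g => ?_)]
    rw [← orderOf_dvd_iff_pow_eq_one, he]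
    refine ⟨fun hg => Subgroup.orderOf_mk g hg ▸ orderOf_dvd_natCard _, fun hg => ?_⟩
    rw [← QuotientGroup.eq_one_iff (N := N), ← orderOf_eq_one_iff]
    refine Nat.eq_one_of_dvd_coprimes (Nat.coprime_of_dvd fun q hq hd1 hd2 => ?_)
      ((orderOf_map_dvd (QuotientGroup.mk' N) g).trans hg)
      (Subgroup.index_eq_card N ▸ orderOf_dvd_natCard _)
    have := hN.2.1 q hq hd1
    have := hN.2.2 q hq hd2
    omega
  let T := {y : H ⧸ M | y ^ a = 1}
  have hTle : Nat.card T ≤ a := by
    have hpre : Nat.card (QuotientGroup.mk' M ⁻¹' T : Set H) = Nat.card M * Nat.card T := by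
      exact (Nat.card_congr (QuotientGroup.preimageMkEquivSubgroupProdSet M T)).trans (Nat.card_prod _ _)
    have hle2 : Nat.card (QuotientGroup.mk' M ⁻¹' T : Set H) ≤ Nat.card {x : H // x ^ Nat.card N = 1} := by
      refine Nat.card_le_card_of_injective (fun x => ⟨x.1, ?_⟩)
        fun x y h => Subtype.ext (by simpa using h)
      have h1 : (x.1 : H) ^ a ∈ M := (QuotientGroup.eq_one_iff _).mp x.2
      have h2 : ((⟨_, h1⟩ : M)) ^ Nat.card M = 1 := pow_card_eq_one'
      rw [hNcard, ← hM, mul_comm, pow_mul]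
      exact congrArg Subtype.val h2
    rw [hsol, hpre, hNcard, hM] at hle2
    exact Nat.le_of_mul_le_mul_left hle2 Nat.card_pos
  have hall : ∀ R : Sylow k (H ⧸ M), ((R : Subgroup (H ⧸ M)) : Set (H ⧸ M)) = T := fun R => by
    have hR : Nat.card R = a := by rw [← hQ, Sylow.card_eq_multiplicity, Sylow.card_eq_multiplicity]
    refine Set.eq_of_subset_of_ncard_le (fun y hy => ?_) ?_ (Set.toFinite _)
    · show y ^ a = 1
      rw [← hR]; exact congrArg Subtype.val (pow_card_eq_one' (x := (⟨y, hy⟩ : (R : Subgroup (H ⧸ M)))))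
    · rw [← Nat.card_coe_set_eq, ← Nat.card_coe_set_eq]
      exact hTle.trans hR.ge
  have hQn : (Q : Subgroup (H ⧸ M)).Normal := by
    have : Subsingleton (Sylow k (H ⧸ M)) :=
      ⟨fun R S => Sylow.ext (SetLike.coe_injective ((hall R).trans (hall S).symm))⟩
    exact Q.normal_of_subsingleton
  refine ⟨(Q : Subgroup (H ⧸ M)).comap (QuotientGroup.mk' M), hQn.comap _, ?_, ?_⟩
  · have hp : Nat.card ((Q : Subgroup (H ⧸ M)).comap (QuotientGroup.mk' M)) =
        Nat.card M * Nat.card Q := by
      have e1 := ((Q : Subgroup (H ⧸ M)).comap (QuotientGroup.mk' M)).card_mul_index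
      rw [Subgroup.index_comap_of_surjective _ (QuotientGroup.mk'_surjective M),
        Subgroup.card_eq_card_quotient_mul_card_subgroup M, ← (Q : Subgroup (H ⧸ M)).card_mul_index] at e1
      refine Nat.eq_of_mul_eq_mul_right (Nat.pos_of_ne_zero
        (Subgroup.index_ne_zero_of_finite (H := (Q : Subgroup (H ⧸ M))))) ?_
      rw [e1]; ring
    rw [hp, hM, hQ, hNcard]
  · set J := (Q : Subgroup (H ⧸ M)).comap (QuotientGroup.mk' M)
    have hMJ : M ≤ J := fun m hm => by
      rw [Subgroup.mem_comap, show QuotientGroup.mk' M m = 1 from (QuotientGroup.eq_one_iff m).mpr hm]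
      exact Subgroup.one_mem _
    let f : J →* (Q : Subgroup (H ⧸ M)) :=
      ((QuotientGroup.mk' M).comp J.subtype).codRestrict _ fun x => x.2
    have hQs : Group.IsSolvable (Q : Subgroup (H ⧸ M)) := by
      have := Q.2.isNilpotent
      infer_instance
    refine Group.isSolvable_of_ker_le_range (Subgroup.inclusion hMJ) f fun x hx => ?_
    have hx' : QuotientGroup.mk' M (x : H) = 1 := congrArg Subtype.val hx
    exact ⟨⟨x, (QuotientGroup.eq_one_iff _).mp hx'⟩, rfl⟩

end Cfsg.Agent.S3998
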