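import Cfsg.Statements.S0533
import Mathlib
import Cfsg.Agent.Lib.Grp.SupersolvableCriteria
import Cfsg.Agent.S3998
-- import your own Cfsg.Agent.* helpers here

set_option autoImplicit false
open Cfsg

namespace Cfsg.Agent.S0533

universe w

theorem clt_of_injective {H K : Type w} [Group H] [Group K] (f : H →* K) (hf : Function.Injective f)
    (h : ∀ S : Subgroup K, Cfsg.HasSubgroupOfEveryOrder S) (T : Subgroup H) :
    Cfsg.HasSubgroupOfEveryOrder T := by
  intro d hd
  let e := T.equivMapOfInjective f hf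
  rw [Nat.card_congr e.toEquiv] at hd
  obtain ⟨S, hS⟩ := h _ d hd
  exact ⟨S.map e.symm.toMonoidHom, by
    rw [Subgroup.card_map_of_injective e.symm.injective, hS]⟩

theorem supersolvable_of_clt : ∀ (n : ℕ) {G : Type w} [Group G] [Finite G],
    Nat.card G = n → (∀ H : Subgroup G, Cfsg.HasSubgroupOfEveryOrder H) →
    Cfsg.IsSupersolvable G := by
  intro n
  induction n using Nat.strong_induction_on with
  | _ n IH =>
  intro G _ _ hcard h
  have hsub : ∀ M : Subgroup G, M ≠ ⊤ → Cfsg.IsSupersolvable M := fun M hM =>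
    IH _ (hcard ▸ Cfsg.Agent.Grp.card_lt_of_ne_top hM) rfl
      (clt_of_injective M.subtype M.subtype_injective h)
  have htop : ∀ d : ℕ, d ∣ Nat.card G → ∃ H : Subgroup G, Nat.card H = d := by
    intro d hd
    rw [← Subgroup.card_top (G := G)] at hd
    obtain ⟨S, hS⟩ := h ⊤ d hd
    exact ⟨S.map (⊤ : Subgroup G).subtype, by rw [Subgroup.card_subtype, hS]⟩
  by_cases h1 : Nat.card G = 1
  · haveI : Subsingleton G := (Nat.card_eq_one_iff_unique.mp h1).1
    exact ⟨0, fun _ => ⊥, rfl, Subsingleton.elim _ _, fun _ => inferInstance, fun i => i.elim0⟩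
  have hidx : ∀ p : ℕ, p.Prime → p ∣ Nat.card G → ∃ M : Subgroup G, M.index = p ∧ M ≠ ⊤ := by
    intro p hp hd
    obtain ⟨M, hM⟩ := htop (Nat.card G / p) (Nat.div_dvd_of_dvd hd)
    have : M.index = p := by
      have := M.card_mul_index
      rw [hM] at this
      exact Nat.eq_of_mul_eq_mul_left (by rw [← hM]; exact Nat.card_pos)
        (this.trans (Nat.div_mul_cancel hd).symm)
    exact ⟨M, this, fun he => hp.ne_one (by rw [← this, he, Subgroup.index_top])⟩
  -- the largest prime divisor
  have hne : (Nat.card G).primeFactors.Nonempty := by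
    rw [Nat.nonempty_primeFactors]
    have := Nat.card_pos (α := G)
    omega
  set r := (Nat.card G).primeFactors.max' hne with hr
  have hrmem : r ∈ (Nat.card G).primeFactors := Finset.max'_mem _ _
  rw [Nat.mem_primeFactors] at hrmem
  have hmax : ∀ q : ℕ, q.Prime → q ∣ Nat.card G → q ≤ r := fun q hq hd =>
    Finset.le_max' _ q (Nat.mem_primeFactors.mpr ⟨hq, hd, Nat.card_pos.ne'⟩)
  haveI : Fact r.Prime := ⟨hrmem.1⟩
  -- a normal Sylow `r`-subgroup
  obtain ⟨P, hPn, hPp, hPi⟩ : ∃ P : Subgroup G, P.Normal ∧ IsPGroup r P ∧ ¬ r ∣ P.index := by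
    obtain ⟨M, hMi, hMne⟩ := hidx _ (Nat.minFac_prime h1) (Nat.minFac_dvd _)
    haveI : M.Normal := Subgroup.normal_of_index_eq_minFac_card hMi
    set q := (Nat.card G).minFac with hq
    by_cases hqr : q = r
    · refine ⟨⊤, inferInstance, ?_, by simpa using hrmem.1.ne_one⟩
      refine IsPGroup.iff_card.mpr ⟨(Nat.card G).factorization r, ?_⟩
      rw [Subgroup.card_top]
      refine Nat.eq_of_factorization_eq Nat.card_pos.ne' (pow_ne_zero _ hrmem.1.ne_zero) fun p => ?_
      rw [hrmem.1.factorization_pow]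
      by_cases hp : p.Prime ∧ p ∣ Nat.card G
      · have : p = r := le_antisymm (hmax p hp.1 hp.2) (hqr ▸ Nat.minFac_le_of_dvd hp.1.two_le hp.2)
        simp [this]
      · have h0 : (Nat.card G).factorization p = 0 := by
          rw [Nat.factorization_eq_zero_iff]; tauto
        rw [h0]
        by_cases hpr : p = r
        · exact absurd ⟨hpr ▸ hrmem.1, hpr ▸ hrmem.2.1⟩ hp
        · simp [Ne.symm hpr]
    obtain ⟨N, hN, hN1, hN2⟩ := Cfsg.Agent.S3998.tower_aux _ M (hsub M hMne) rfl r
    haveI := hN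
    have hNr : IsPGroup r N := by
      refine IsPGroup.iff_card.mpr ⟨(Nat.card N).factorization r, ?_⟩
      refine Nat.eq_of_factorization_eq Nat.card_pos.ne' (pow_ne_zero _ hrmem.1.ne_zero) fun p => ?_
      rw [hrmem.1.factorization_pow]
      by_cases hpr : p = r
      · simp [hpr]
      · have : (Nat.card N).factorization p = 0 := by
          rw [Nat.factorization_eq_zero_iff]
          by_contra hc
          push_neg at hc
          obtain ⟨hp, hd, -⟩ := hc
          exact hpr (le_antisymm (hmax p hp ((hd.trans N.card_subgroup_dvd_card).trans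
            M.card_subgroup_dvd_card)) (hN1 p hp hd))
        rw [this]; simp [Ne.symm hpr]
    have hNi : ¬ r ∣ N.index := fun hd => lt_irrefl r (hN2 r hrmem.1 hd)
    let S : Sylow r M := hNr.toSylow hNi
    haveI : N.Characteristic := Sylow.characteristic_of_normal S hN
    refine ⟨N.map M.subtype, Cfsg.Agent.Grp.normal_of_characteristic_map N,
      hNr.map M.subtype, fun hd => ?_⟩
    rw [Subgroup.index_map_subtype, hMi] at hd
    rcases hrmem.1.dvd_mul.mp hd with h' | h'
    · exact hNi h'
    · exact hqr ((Nat.prime_dvd_prime_iff_eq hrmem.1 (Nat.minFac_prime h1)).mp h').symm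
  -- a subgroup of index `r`
  obtain ⟨M, hMi, hMne⟩ := hidx r hrmem.1 hrmem.2.1
  haveI := hPn
  have hPM : P ⊔ M = ⊤ := by
    rw [← Subgroup.index_eq_one]
    have h1 : (P ⊔ M).index ∣ M.index := Subgroup.index_dvd_of_le le_sup_right
    have h2 : (P ⊔ M).index ∣ P.index := Subgroup.index_dvd_of_le le_sup_left
    rw [hMi] at h1
    rcases (Nat.dvd_prime hrmem.1).mp h1 with h' | h'
    · exact h'
    · exact absurd (h' ▸ h2) hPi
  have hrel : (M ⊓ P).relIndex P = r := by
    have e1 := Cfsg.Agent.Grp.card_sup_mul_card_inf_normal (H := M) (N := P)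
    have e2 := Cfsg.Agent.Grp.card_mul_relIndex (inf_le_right : M ⊓ P ≤ P)
    rw [sup_comm, hPM, Subgroup.card_top, ← M.card_mul_index, hMi, ← e2] at e1
    have hpos : 0 < Nat.card M * Nat.card (M ⊓ P : Subgroup G) :=
      Nat.mul_pos Nat.card_pos Nat.card_pos
    exact (Nat.eq_of_mul_eq_mul_left hpos (by linarith)).symm
  refine Cfsg.Agent.Grp.isSupersolvable_of_supplement _ P M rfl hPp (hsub M hMne) hPM ?_ hrel
  have hsub' : ((M ⊓ P).subgroupOf P).Normal := by
    haveI : Group.IsNilpotent P := hPp.isNilpotent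
    refine Cfsg.Agent.Grp.coatom_normal_of_nilpotent ⟨fun he => ?_, fun K hK => ?_⟩
    · have : (M ⊓ P).relIndex P = 1 := by rw [Subgroup.relIndex, he, Subgroup.index_top]
      exact hrmem.1.ne_one (hrel ▸ this)
    · have h3 : K.index ∣ r := by
        rw [← hrel]; exact Subgroup.index_dvd_of_le hK.le
      rcases (Nat.dvd_prime hrmem.1).mp h3 with h' | h'
      · exact Subgroup.index_eq_one.mp h'
      · exfalso
        have e1 := Subgroup.card_mul_index ((M ⊓ P).subgroupOf P)
        have e2 := K.card_mul_index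
        rw [show ((M ⊓ P).subgroupOf P).index = r from hrel, ← e2, h'] at e1
        have e3 := Nat.eq_of_mul_eq_mul_right hrmem.1.pos e1
        exact hK.ne (Subgroup.eq_of_le_of_card_ge hK.le e3.ge)
  refine ⟨fun z hz g => ?_⟩
  obtain ⟨x, hx, m, hm, rfl⟩ := Subgroup.mem_sup_of_normal_left.mp
    (hPM ▸ Subgroup.mem_top g : g ∈ P ⊔ M)
  have h2 : m * z * m⁻¹ ∈ M ⊓ P :=
    ⟨show _ ∈ M from mul_mem (mul_mem hm hz.1) (inv_mem hm), hPn.conj_mem z hz.2 m⟩
  have h3 := hsub'.conj_mem ⟨m * z * m⁻¹, h2.2⟩ h2 ⟨x, hx⟩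
  have : x * m * z * (x * m)⁻¹ = x * (m * z * m⁻¹) * x⁻¹ := by group
  rw [this]
  exact h3

/-- If every subgroup of a finite group has subgroups of all orders dividing its order, then the group is supersolvable. -/
theorem result {G : Type*} [Group G] [Finite G] (h : ∀ H : Subgroup G, Cfsg.HasSubgroupOfEveryOrder H) : Cfsg.IsSupersolvable G := by
  exact supersolvable_of_clt _ rfl h

end Cfsg.Agent.S0533
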