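import Cfsg.Statements.S0532
import Mathlib
import Cfsg.Agent.S0533
import Cfsg.Agent.S3998
-- import your own Cfsg.Agent.* helpers here

set_option autoImplicit false
open Cfsg

namespace Cfsg.Agent.S0532

/-- If each subgroup of a finite group satisfies the converse of Lagrange's theorem, then a Sylow subgroup for the largest prime dividing the group order is normal. -/
theorem result {G : Type*} [Group G] [Finite G] (h : ∀ H : Subgroup G, Cfsg.HasSubgroupOfEveryOrder H) (p : ℕ) [Fact p.Prime] (hdvd : p ∣ Nat.card G) (hmax : ∀ q : ℕ, q.Prime → q ∣ Nat.card G → q ≤ p) (P : Sylow p G) : (P : Subgroup G).Normal := by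
  have hp : p.Prime := Fact.out
  have hS := Cfsg.Agent.S0533.supersolvable_of_clt _ rfl h
  obtain ⟨N, hN, hN1, hN2⟩ := Cfsg.Agent.S3998.tower_aux _ G hS rfl p
  haveI := hN
  have hNp : IsPGroup p N := by
    refine IsPGroup.iff_card.mpr ⟨(Nat.card N).factorization p, ?_⟩
    refine Nat.eq_of_factorization_eq Nat.card_pos.ne' (pow_ne_zero _ hp.ne_zero) fun q => ?_
    rw [hp.factorization_pow]
    by_cases hqp : q = p
    · simp [hqp]
    · have : (Nat.card N).factorization q = 0 := by
        rw [Nat.factorization_eq_zero_iff]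
        by_contra hc
        push_neg at hc
        obtain ⟨hq, hd, -⟩ := hc
        exact hqp (le_antisymm (hmax q hq (hd.trans N.card_subgroup_dvd_card)) (hN1 q hq hd))
      rw [this]; simp [Ne.symm hqp]
  let S : Sylow p G := hNp.toSylow (fun hd => lt_irrefl p (hN2 p hp hd))
  obtain ⟨g, hg⟩ := MulAction.exists_smul_eq G S P
  haveI hSn : (S : Subgroup G).Normal := hN
  rw [← hg, Sylow.coe_subgroup_smul]
  exact (Subgroup.Normal.map hSn (MulAut.conj g).toMonoidHom (MulAut.conj g).surjective)

end Cfsg.Agent.S0532
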