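import Cfsg.Statements.S0529
import Mathlib
import Cfsg.Agent.S0532
import Cfsg.Agent.S0531
import Cfsg.Agent.Lib.Grp.Supersolvable
import Cfsg.Agent.Lib.Grp.SupersolvableCriteria
import Cfsg.Agent.Lib.Grp.Basic

set_option autoImplicit false
open Cfsg

namespace Cfsg.Agent.S0529

universe w

/-- The chain, by induction on the order. -/
theorem aux : ∀ (k : ℕ) (G : Type w) [Group G] [Finite G], Nat.card G = k → Cfsg.IsSupersolvable G →
    ∃ (n : ℕ) (H : Fin (n + 1) → Subgroup G), H 0 = ⊥ ∧ H (Fin.last n) = ⊤ ∧ (∀ i, (H i).Normal) ∧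
      (∀ i : Fin n, H i.castSucc ≤ H i.succ ∧ ((H i.castSucc).relIndex (H i.succ)).Prime) ∧
      ∀ i j : Fin n, i ≤ j → (H j.castSucc).relIndex (H j.succ) ≤ (H i.castSucc).relIndex (H i.succ) := by
  intro k
  induction k using Nat.strong_induction_on with
  | _ k ih =>
  intro G _ _ hk hG
  rcases subsingleton_or_nontrivial G with hs | hs
  · exact ⟨0, fun _ => ⊥, rfl, Subsingleton.elim _ _, fun _ => inferInstance, fun i => i.elim0, fun i => i.elim0⟩
  have hpr : (Nat.card G).primeFactors.Nonempty := Nat.nonempty_primeFactors.mpr Finite.one_lt_card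
  set p := (Nat.card G).primeFactors.max' hpr
  obtain ⟨hp, hpd, -⟩ := Nat.mem_primeFactors.mp ((Nat.card G).primeFactors.max'_mem hpr)
  haveI := Fact.mk hp
  have hmax : ∀ q : ℕ, q.Prime → q ∣ Nat.card G → q ≤ p := fun q hq hqd =>
    Finset.le_max' _ q (Nat.mem_primeFactors.mpr ⟨hq, hqd, Nat.card_pos.ne'⟩)
  obtain ⟨P⟩ : Nonempty (Sylow p G) := inferInstance
  have hPn : (P : Subgroup G).Normal := Cfsg.Agent.S0532.result
    (fun H => Cfsg.Agent.S0531.result (Cfsg.Agent.Grp.isSupersolvable_of_injective H.subtype_injective hG)) p hpd hmax P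
  obtain ⟨N, hN, hNP, hNp⟩ := Cfsg.Agent.Grp.exists_prime_normal_le hG (P : Subgroup G) (P.ne_bot_of_dvd_card hpd)
  have hNc : Nat.card N = p := by
    obtain ⟨j, hj⟩ := IsPGroup.iff_card.mp (P.isPGroup'.to_le hNP)
    exact (Nat.prime_dvd_prime_iff_eq hNp hp).mp (hNp.dvd_of_dvd_pow hj.dvd)
  have hN0 : N ≠ ⊥ := fun h => hNp.ne_one (by rw [h, Subgroup.card_bot])
  set f := QuotientGroup.mk' N
  obtain ⟨n, H, h0, hl, hn, hstep, hmono⟩ := ih _ (hk ▸ Cfsg.Agent.Grp.card_quotient_lt hN0) (G ⧸ N) rfl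
    (Cfsg.Agent.Grp.isSupersolvable_of_surjective (QuotientGroup.mk'_surjective N) hG)
  have hrel : ∀ A B : Subgroup (G ⧸ N), (A.comap f).relIndex (B.comap f) = A.relIndex B := fun A B => by
    rw [Subgroup.relIndex_comap, Subgroup.map_comap_eq_self_of_surjective (QuotientGroup.mk'_surjective N)]
  have hle : ∀ i : Fin n, (H i.castSucc).relIndex (H i.succ) ≤ p := fun i =>
    hmax _ (hstep i).2 (((Subgroup.relIndex_dvd_card _ _).trans (Subgroup.card_subgroup_dvd_card _)).trans
      (Subgroup.card_quotient_dvd_card N))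
  have hfirst : (⊥ : Subgroup G).relIndex ((H 0).comap f) = p := by
    rw [h0, MonoidHom.comap_bot, QuotientGroup.ker_mk', Subgroup.relIndex_bot_left, hNc]
  refine ⟨n + 1, Fin.cons ⊥ (fun i => (H i).comap f), Fin.cons_zero _ _, ?_, ?_, ?_, ?_⟩
  · rw [← Fin.succ_last, Fin.cons_succ, hl, Subgroup.comap_top]
  · refine Fin.cases ?_ fun i => ?_
    · rw [Fin.cons_zero]; infer_instance
    · rw [Fin.cons_succ]; exact (hn i).comap f
  · refine Fin.cases ?_ fun i => ?_
    · rw [Fin.castSucc_zero, Fin.cons_zero, Fin.cons_succ]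
      exact ⟨bot_le, hfirst.symm ▸ hp⟩
    · rw [Fin.castSucc_succ, Fin.cons_succ, Fin.cons_succ, hrel]
      exact ⟨Subgroup.comap_mono (hstep i).1, (hstep i).2⟩
  · intro i j
    refine Fin.cases ?_ (fun i => ?_) i <;> refine Fin.cases ?_ (fun j => ?_) j
    · intro _; exact le_rfl
    · intro _
      rw [Fin.castSucc_succ, Fin.castSucc_zero, Fin.cons_zero, Fin.cons_succ, Fin.cons_succ, Fin.cons_succ, hrel, hfirst]
      exact hle j
    · intro h; exact absurd h (by simp [Fin.le_def])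
    · intro h
      rw [Fin.castSucc_succ, Fin.castSucc_succ, Fin.cons_succ, Fin.cons_succ, Fin.cons_succ, Fin.cons_succ, hrel, hrel]
      exact hmono i j (Fin.succ_le_succ_iff.mp h)

/-- A finite supersolvable group has a chain of normal subgroups, from the trivial subgroup to the whole group, in which every step has prime index and the primes occurring are non-increasing as one goes up the chain. -/
theorem result {G : Type*} [Group G] [Finite G] (hG : Cfsg.IsSupersolvable G) : ∃ (n : ℕ) (H : Fin (n + 1) → Subgroup G), H 0 = ⊥ ∧ H (Fin.last n) = ⊤ ∧ (∀ i, (H i).Normal) ∧ (∀ i : Fin n, H i.castSucc ≤ H i.succ ∧ ((H i.castSucc).relIndex (H i.succ)).Prime) ∧ ∀ i j : Fin n, i ≤ j → (H j.castSucc).relIndex (H j.succ) ≤ (H i.castSucc).relIndex (H i.succ) := by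
  exact aux _ G rfl hG

end Cfsg.Agent.S0529
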