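import Cfsg.Statements.S0530
import Mathlib
import Cfsg.Agent.Lib.Grp.SupersolvableCriteria
-- import your own Cfsg.Agent.* helpers here

set_option autoImplicit false
open Cfsg

namespace Cfsg.Agent.S0530

universe w

theorem two_mul_prime_pow : ∀ (m : ℕ) {G : Type w} [Group G] [Finite G] (p n : ℕ),
    Nat.card G = m → p.Prime → Nat.card G = 2 * p ^ n → Cfsg.IsSupersolvable G := by
  intro m
  induction m using Nat.strong_induction_on with
  | _ m IH =>
  intro G _ _ p n hcard hp hG
  haveI := Fact.mk hp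
  rcases Nat.eq_zero_or_pos n with rfl | hn
  · rw [pow_zero, mul_one] at hG
    haveI : IsCyclic G := isCyclic_of_prime_card (p := 2) hG
    haveI : IsCyclic (⊤ : Subgroup G) :=
      isCyclic_of_surjective Subgroup.topEquiv.symm.toMonoidHom Subgroup.topEquiv.symm.surjective
    refine Cfsg.Agent.Grp.isSupersolvable_of_cyclic_normal (⊤ : Subgroup G) ?_
    haveI : Subsingleton (G ⧸ (⊤ : Subgroup G)) := QuotientGroup.subsingleton_quotient_top
    exact ⟨0, fun _ => ⊥, rfl, Subsingleton.elim _ _, fun _ => inferInstance, fun i => i.elim0⟩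
  -- a normal subgroup `N` of order `p`
  obtain ⟨N, hN, hNcard⟩ : ∃ N : Subgroup G, N.Normal ∧ Nat.card N = p := by
    by_cases hp2 : p = 2
    · subst hp2
      have hpg : IsPGroup 2 G := IsPGroup.of_card (n := n + 1) (by rw [hG, pow_succ, mul_comm])
      haveI : Nontrivial G := Finite.one_lt_card_iff_nontrivial.mp (by
        rw [hG]; have := Nat.one_le_two_pow (n := n); omega)
      haveI := hpg.center_nontrivial
      obtain ⟨k, hk⟩ := IsPGroup.iff_card.1 (hpg.to_subgroup (Subgroup.center G))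
      have hk0 : k ≠ 0 := fun h => by
        have := Finite.one_lt_card (α := Subgroup.center G)
        rw [hk, h, pow_zero] at this
        omega
      obtain ⟨z, hz⟩ := exists_prime_orderOf_dvd_card' (G := Subgroup.center G) 2
        (hk ▸ dvd_pow_self 2 hk0)
      refine ⟨Subgroup.zpowers (z : G), ⟨fun x hx g => ?_⟩, by
        rw [Nat.card_zpowers, Subgroup.orderOf_coe, hz]⟩
      have : x ∈ Subgroup.center G := Subgroup.zpowers_le.mpr z.2 hx
      rw [Subgroup.mem_center_iff] at this
      rw [this g, mul_inv_cancel_right]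
      exact hx
    -- odd `p`: the Sylow subgroup is normal of index two
    obtain ⟨P⟩ : Nonempty (Sylow p G) := inferInstance
    have hPc : Nat.card (P : Subgroup G) = p ^ n := by
      rw [P.card_eq_multiplicity, hG, Nat.factorization_mul (by norm_num) (pow_ne_zero _ hp.ne_zero),
        Finsupp.add_apply, Nat.Prime.factorization_pow hp, Nat.factorization_eq_zero_of_not_dvd
          (fun h => hp2 ((Nat.prime_dvd_prime_iff_eq hp Nat.prime_two).1 h))]
      simp
    have hPi : (P : Subgroup G).index = 2 := by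
      have := (P : Subgroup G).card_mul_index
      rw [hPc, hG, mul_comm 2] at this
      exact Nat.eq_of_mul_eq_mul_left (pow_pos hp.pos n) this
    haveI hPn : (P : Subgroup G).Normal := Subgroup.normal_of_index_eq_two hPi
    haveI : Group.IsNilpotent (P : Subgroup G) := P.isPGroup'.isNilpotent
    let Z : Subgroup G := (Subgroup.center (P : Subgroup G)).map (P : Subgroup G).subtype
    haveI hZn : Z.Normal := Cfsg.Agent.Grp.normal_of_characteristic_map _
    -- an element outside `P` of order two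
    obtain ⟨t, ht⟩ := exists_prime_orderOf_dvd_card' (G := G) 2 (hG ▸ dvd_mul_right 2 _)
    have ht2 : t * t = 1 := by rw [← pow_two, ← ht, pow_orderOf_eq_one]
    have htP : t ∉ (P : Subgroup G) := fun h => by
      have h2 := Subgroup.orderOf_dvd_natCard _ h
      rw [ht, hPc] at h2
      exact hp2 ((Nat.prime_dvd_prime_iff_eq Nat.prime_two hp).1 (Nat.prime_two.dvd_of_dvd_pow h2)).symm
    haveI hPnt : Nontrivial (P : Subgroup G) := Finite.one_lt_card_iff_nontrivial.mp (by
      rw [hPc]; exact Nat.one_lt_pow hn.ne' hp.one_lt)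
    haveI := P.isPGroup'.center_nontrivial
    obtain ⟨k, hk⟩ := IsPGroup.iff_card.1 (P.isPGroup'.to_subgroup (Subgroup.center (P : Subgroup G)))
    have hk0 : k ≠ 0 := fun h => by
      have := Finite.one_lt_card (α := Subgroup.center (P : Subgroup G))
      rw [hk, h, pow_zero] at this
      omega
    obtain ⟨z, hz⟩ := exists_prime_orderOf_dvd_card' (G := Subgroup.center (P : Subgroup G)) p
      (hk ▸ dvd_pow_self p hk0)
    have hzZ : (((z : (P : Subgroup G)) : G)) ∈ Z := ⟨_, z.2, rfl⟩
    set w : G := ((z : (P : Subgroup G)) : G) with hw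
    have hwo : orderOf w = p := by rw [hw, Subgroup.orderOf_coe, Subgroup.orderOf_coe, hz]
    have hcen : ∀ u ∈ Z, ∀ x ∈ (P : Subgroup G), x * u = u * x := by
      rintro _ ⟨u, hu, rfl⟩ x hx
      exact congrArg Subtype.val (Subgroup.mem_center_iff.1 hu ⟨x, hx⟩)
    -- an element of order `p` in `Z` inverted or fixed by `t`
    obtain ⟨y, hyZ, hyo, hyt⟩ : ∃ y, y ∈ Z ∧ orderOf y = p ∧ t * y * t⁻¹ ∈ Subgroup.zpowers y := by
      have hw' : t * w * t⁻¹ ∈ Z := hZn.conj_mem w hzZ t
      have htt : t * (t * w * t⁻¹) * t⁻¹ = w := by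
        calc t * (t * w * t⁻¹) * t⁻¹ = (t * t) * w * (t * t)⁻¹ := by group
          _ = w := by rw [ht2]; group
      have hc : Commute w (t * w * t⁻¹) := hcen _ hw' _ (Subgroup.map_subtype_le _ hzZ)
      by_cases h : w * (t * w * t⁻¹) = 1
      · refine ⟨w, hzZ, hwo, ?_⟩
        rw [eq_inv_of_mul_eq_one_right h]
        exact inv_mem (Subgroup.mem_zpowers w)
      · refine ⟨w * (t * w * t⁻¹), mul_mem hzZ hw', ?_, ?_⟩
        · refine orderOf_eq_prime ?_ h
          rw [hc.mul_pow, conj_pow, ← hwo, pow_orderOf_eq_one]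
          group
        · have : t * (w * (t * w * t⁻¹)) * t⁻¹ = w * (t * w * t⁻¹) := by
            calc t * (w * (t * w * t⁻¹)) * t⁻¹
                = (t * w * t⁻¹) * (t * (t * w * t⁻¹) * t⁻¹) := by group
              _ = (t * w * t⁻¹) * w := by rw [htt]
              _ = w * (t * w * t⁻¹) := hc.eq.symm
          rw [this]
          exact Subgroup.mem_zpowers _
    refine ⟨Subgroup.zpowers y, ⟨fun x hx g => ?_⟩, by rw [Nat.card_zpowers, hyo]⟩
    have hxZ : x ∈ Z := Subgroup.zpowers_le.mpr hyZ hx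
    have hfix : ∀ u ∈ (P : Subgroup G), u * x * u⁻¹ = x := fun u hu => by
      rw [hcen x hxZ u hu, mul_inv_cancel_right]
    by_cases hg : g ∈ (P : Subgroup G)
    · rw [hfix g hg]; exact hx
    · have hgt : g * t ∈ (P : Subgroup G) :=
        (Subgroup.mul_mem_iff_of_index_two hPi).2 (iff_of_false hg htP)
      obtain ⟨i, rfl⟩ := Subgroup.mem_zpowers_iff.1 hx
      have e : g * y ^ i * g⁻¹ = (g * t) * (t * y ^ i * t⁻¹) * (g * t)⁻¹ := by
        have h' : t⁻¹ = t := inv_eq_of_mul_eq_one_right ht2
        calc g * y ^ i * g⁻¹ = g * (t * t) * y ^ i * ((t * t)⁻¹ * g⁻¹) := by rw [ht2]; group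
          _ = (g * t) * (t * y ^ i * t⁻¹) * (g * t)⁻¹ := by group
      have hmem : t * y ^ i * t⁻¹ ∈ Subgroup.zpowers y := by
        rw [← conj_zpow]; exact zpow_mem hyt i
      rw [e, hcen _ (Subgroup.zpowers_le.mpr hyZ hmem) _ hgt, mul_inv_cancel_right]
      exact hmem
  haveI := hN
  haveI : IsCyclic N := isCyclic_of_prime_card hNcard
  refine Cfsg.Agent.Grp.isSupersolvable_of_cyclic_normal N ?_
  have hN0 : N ≠ ⊥ := fun h => hp.ne_one (by rw [← hNcard, h, Subgroup.card_bot])
  refine IH _ (hcard ▸ Cfsg.Agent.Grp.card_quotient_lt hN0) p (n - 1) rfl hp ?_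
  have := Subgroup.card_eq_card_quotient_mul_card_subgroup N
  rw [hNcard, hG] at this
  obtain ⟨j, rfl⟩ : ∃ j, n = j + 1 := ⟨n - 1, by omega⟩
  rw [Nat.add_sub_cancel]
  refine Nat.eq_of_mul_eq_mul_right hp.pos ?_
  rw [← this, pow_succ]; ring

/-- A finite group whose order is twice a prime power is supersolvable. -/
theorem result {G : Type*} [Group G] [Finite G] (p n : ℕ) (hp : p.Prime) (hG : Nat.card G = 2 * p ^ n) : Cfsg.IsSupersolvable G := by
  exact two_mul_prime_pow _ p n rfl hp hG

end Cfsg.Agent.S0530
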