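import Cfsg.Statements.S0534
import Mathlib
import Cfsg.Agent.Lib.Grp.HallSystemParts

set_option autoImplicit false
open Cfsg

namespace Cfsg.Agent.S0534

universe w

theorem exists_subgroup_card : ∀ (n : ℕ) (A : Type w) [CommGroup A] [Finite A], n ∣ Nat.card A →
    ∃ H : Subgroup A, Nat.card H = n := by
  intro n
  induction n using Nat.strong_induction_on with
  | _ n ih =>
  intro A _ _ hn
  rcases eq_or_ne n 1 with rfl | h1
  · exact ⟨⊥, Subgroup.card_bot⟩
  obtain ⟨p, hp, hpn⟩ := Nat.exists_prime_and_dvd h1
  haveI := Fact.mk hp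
  obtain ⟨x, hx⟩ := exists_prime_orderOf_dvd_card' p (hpn.trans hn)
  set N := Subgroup.zpowers x with hN
  have hNc : Nat.card N = p := (Nat.card_zpowers x).trans hx
  obtain ⟨m, rfl⟩ := hpn
  have hm : 0 < m := Nat.pos_of_ne_zero fun h => by
    subst h; rw [mul_zero, zero_dvd_iff] at hn; exact Nat.card_pos.ne' hn
  rw [Subgroup.card_eq_card_quotient_mul_card_subgroup N, hNc, mul_comm p] at hn
  obtain ⟨H, hH⟩ := ih m (lt_mul_of_one_lt_left hm hp.one_lt) (A ⧸ N) (Nat.dvd_of_mul_dvd_mul_right hp.pos hn)
  refine ⟨H.comap (QuotientGroup.mk' N), ?_⟩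
  have e := (H.comap (QuotientGroup.mk' N)).card_mul_index
  rw [Subgroup.index_comap_of_surjective _ (QuotientGroup.mk'_surjective N),
    Subgroup.card_eq_card_quotient_mul_card_subgroup N, hNc, ← H.card_mul_index, hH] at e
  exact Nat.eq_of_mul_eq_mul_right (Nat.pos_of_ne_zero H.index_ne_zero_of_finite) (e.trans (by ring))

/-- Let G be a finite solvable group and A a finite abelian group such that every prime dividing the order of A divides the order of G and, for each prime p dividing the order of G, the exponent of p in the order of A is one less than its exponent in the order of G. Then G × A has a subgroup of every order dividing its order. -/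
theorem result {G A : Type*} [Group G] [CommGroup A] [Finite G] [Finite A] [Group.IsSolvable G] (hA : ∀ p : ℕ, p.Prime → p ∣ Nat.card A → p ∣ Nat.card G) (hexp : ∀ p : ℕ, p.Prime → p ∣ Nat.card G → (Nat.card A).factorization p + 1 = (Nat.card G).factorization p) : Cfsg.HasSubgroupOfEveryOrder (G × A) := by
  classical
  intro d hd
  have hd0 : d ≠ 0 := fun h => by subst h; rw [zero_dvd_iff] at hd; exact Nat.card_pos.ne' hd
  obtain ⟨K, hK⟩ := Agent.Grp.HallSys.exists_system (G := G)
  set π : Finset Nat.Primes := (Agent.Grp.HallSys.primesOf G).filter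
    (fun q => (Nat.card G).factorization q ≤ d.factorization q) with hπ
  have hpart := Agent.Grp.HallSys.card_part hK π
  set h := Nat.card (Agent.Grp.HallSys.part K π)
  have hfh : ∀ q : ℕ, q.Prime → h.factorization q =
      if q ∣ Nat.card G ∧ (Nat.card G).factorization q ≤ d.factorization q then (Nat.card G).factorization q else 0 := by
    intro q hq
    rw [hpart, Nat.factorization_prod fun r _ => pow_ne_zero _ r.2.ne_zero, Finsupp.finsetSum_apply]
    simp only [Nat.factorization_pow, Finsupp.smul_apply, smul_eq_mul]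
    have hr : ∀ r : Nat.Primes, r ≠ ⟨q, hq⟩ → (Nat.card G).factorization r * (r : ℕ).factorization q = 0 := fun r hr => by
      rw [r.2.factorization, Finsupp.single_eq_of_ne (fun e => hr (Subtype.ext e.symm)), mul_zero]
    split_ifs with hc
    · have hmem : (⟨q, hq⟩ : Nat.Primes) ∈ π := Finset.mem_filter.mpr
        ⟨Finset.mem_subtype.mpr (Nat.mem_primeFactors.mpr ⟨hq, hc.1, Nat.card_pos.ne'⟩), hc.2⟩
      refine (Finset.sum_eq_single_of_mem _ hmem fun r _ hrne => hr r hrne).trans ?_
      rw [hq.factorization_self, mul_one]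
    · refine Finset.sum_eq_zero fun r hr' => hr r fun e => hc ?_
      subst e
      obtain ⟨h1, h2⟩ := Finset.mem_filter.mp hr'
      exact ⟨(Nat.mem_primeFactors.mp (Finset.mem_subtype.mp h1)).2.1, h2⟩
  have hh0 : h ≠ 0 := Nat.card_pos.ne'
  have hdf : ∀ q, d.factorization q ≤ (Nat.card G).factorization q + (Nat.card A).factorization q := fun q => by
    have := (Nat.factorization_le_iff_dvd hd0 Nat.card_pos.ne').mpr hd q
    rwa [Nat.card_prod, Nat.factorization_mul Nat.card_pos.ne' Nat.card_pos.ne', Finsupp.add_apply] at this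
  have hhd : h ∣ d := by
    rw [← Nat.factorization_prime_le_iff_dvd hh0 hd0]
    intro q hq
    rw [hfh q hq]
    split_ifs with hc
    · exact hc.2
    · exact Nat.zero_le _
  obtain ⟨e, hde⟩ := hhd
  have he0 : e ≠ 0 := fun h0 => hd0 (by rw [hde, h0, mul_zero])
  have hea : e ∣ Nat.card A := by
    rw [← Nat.factorization_prime_le_iff_dvd he0 Nat.card_pos.ne']
    intro q hq
    have h1 := hdf q
    have h2 := hfh q hq
    have hdq : d.factorization q = h.factorization q + e.factorization q := by
      rw [hde, Nat.factorization_mul hh0 he0, Finsupp.add_apply]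
    rw [hdq] at h1 h2
    by_cases hqG : q ∣ Nat.card G
    · have h3 := hexp q hq hqG
      by_cases hc : (Nat.card G).factorization q ≤ h.factorization q + e.factorization q
      · rw [if_pos ⟨hqG, hc⟩] at h2; omega
      · rw [if_neg fun hh => hc hh.2] at h2; omega
    · rw [Nat.factorization_eq_zero_of_not_dvd hqG] at h1 h2
      have h3 : (Nat.card A).factorization q = 0 :=
        Nat.factorization_eq_zero_of_not_dvd fun hqa => hqG (hA q hq hqa)
      omega
  obtain ⟨B, hB⟩ := exists_subgroup_card e A hea
  refine ⟨(Agent.Grp.HallSys.part K π).prod B, ?_⟩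
  rw [Nat.card_congr ((Agent.Grp.HallSys.part K π).prodEquiv B).toEquiv, Nat.card_prod, hB, hde]

end Cfsg.Agent.S0534
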