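import Cfsg.Statements.S0535
import Cfsg.Agent.Lib.Grp.HallConverse

set_option autoImplicit false
open Cfsg

namespace Cfsg.Agent.S0535

/-- Suppose that for every nontrivial subgroup H of a finite group and every prime p dividing the order of H there is a proper subgroup of H whose index in H is a power of p. Then the group is solvable. -/
theorem result {G : Type*} [Group G] [Finite G] (h : ∀ H : Subgroup G, H ≠ ⊥ → ∀ p : ℕ, p.Prime → p ∣ Nat.card H → ∃ K : Subgroup H, K ≠ ⊤ ∧ ∃ k : ℕ, K.index = p ^ k) : Group.IsSolvable G := by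
  classical
  suffices H : ∀ (n : ℕ) (L : Subgroup G), Nat.card L = n → Group.IsSolvable L by
    haveI := H _ ⊤ rfl
    exact solvable_of_surjective (f := (Subgroup.topEquiv : (⊤ : Subgroup G) ≃* G).toMonoidHom) Subgroup.topEquiv.surjective
  intro n
  induction n using Nat.strong_induction_on with
  | _ n ih =>
    intro L hL
    by_cases htwo : ∃ p q a b : ℕ, p.Prime ∧ q.Prime ∧ Nat.card L = p ^ a * q ^ b
    · obtain ⟨p, q, a, b, hp, hq, e⟩ := htwo
      exact S0144.result p q a b hp hq e
    have hL0 : L ≠ ⊥ := fun e => htwo ⟨2, 2, 0, 0, Nat.prime_two, Nat.prime_two, by rw [e, Subgroup.card_bot]; norm_num⟩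
    have key : ∀ p ∈ (Nat.card L).primeFactors, ∃ K : Subgroup L, Group.IsSolvable K ∧ ∃ k, K.index = p ^ k := by
      intro p hp
      obtain ⟨hpp, hpd, -⟩ := Nat.mem_primeFactors.mp hp
      obtain ⟨K, hK, hidx⟩ := h L hL0 p hpp hpd
      refine ⟨K, ?_, hidx⟩
      have h1 := ih (Nat.card (K.map L.subtype)) (by
        rw [← hL, Subgroup.card_map_of_injective L.subtype_injective]
        refine lt_of_le_of_ne (Subgroup.card_le_card_group K) fun e => hK (Subgroup.eq_top_of_card_eq K e)) _ rfl
      haveI := h1
      exact solvable_of_solvable_injective (f := (Subgroup.equivMapOfInjective K L.subtype L.subtype_injective).toMonoidHom)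
        (Subgroup.equivMapOfInjective K L.subtype L.subtype_injective).injective
    set F := (Nat.card L).primeFactors with hF
    have hnosub : ∀ p q, p.Prime → q.Prime → ¬ F ⊆ {p, q} := by
      intro p q hp hq hsub
      by_cases hpq : p = q
      · subst hpq
        refine htwo ⟨p, p, (Nat.card L).factorization p, 0, hp, hp, ?_⟩
        conv_lhs => rw [← Nat.prod_factorization_pow_eq_self (Nat.card_pos (α := L)).ne']
        rw [Finsupp.prod_of_support_subset _ (s := {p}) (by rw [Nat.support_factorization]; exact hsub.trans (by simp)) _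
          (fun i _ => pow_zero i), Finset.prod_singleton, pow_zero, mul_one]
      · refine htwo ⟨p, q, (Nat.card L).factorization p, (Nat.card L).factorization q, hp, hq, ?_⟩
        conv_lhs => rw [← Nat.prod_factorization_pow_eq_self (Nat.card_pos (α := L)).ne']
        rw [Finsupp.prod_of_support_subset _ (s := {p, q}) (by rw [Nat.support_factorization]; exact hsub) _
          (fun i _ => pow_zero i), Finset.prod_pair hpq]
    obtain ⟨p, hp, -⟩ := Finset.not_subset.mp (hnosub 2 2 Nat.prime_two Nat.prime_two)
    have hpp := (Nat.mem_primeFactors.mp hp).1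
    obtain ⟨q, hq, hqp⟩ := Finset.not_subset.mp (hnosub p p hpp hpp)
    have hqq := (Nat.mem_primeFactors.mp hq).1
    obtain ⟨r, hr, hr'⟩ := Finset.not_subset.mp (hnosub p q hpp hqq)
    have hrr := (Nat.mem_primeFactors.mp hr).1
    simp only [Finset.mem_insert, Finset.mem_singleton, not_or] at hqp hr'
    obtain ⟨A, hA, i, hi⟩ := key p hp
    obtain ⟨B, hB, j, hj⟩ := key q hq
    obtain ⟨C, hC, l, hl⟩ := key r hr
    refine Grp.HallConv.isSolvable_of_three _ L rfl A B C hA hB hC ?_ ?_ ?_
    · rw [hi, hj]; exact Nat.coprime_pow_primes _ _ hpp hqq (Ne.symm hqp.1)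
    · rw [hi, hl]; exact Nat.coprime_pow_primes _ _ hpp hrr (Ne.symm hr'.1)
    · rw [hj, hl]; exact Nat.coprime_pow_primes _ _ hqq hrr (Ne.symm hr'.2)

end Cfsg.Agent.S0535
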