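import Cfsg.Statements.S0537
import Mathlib
import Cfsg.Agent.S0536
import Cfsg.Agent.Lib.Grp.Cores

set_option autoImplicit false
open Cfsg

namespace Cfsg.Agent.S0537

/-- A finite non-abelian group in which every proper subgroup is abelian is either of prime-power order, or is generated by a cyclic Sylow p-subgroup and a normal Sylow q-subgroup that is elementary abelian, for distinct primes p and q. -/
theorem result {G : Type*} [Group G] [Finite G] (hna : ¬ IsMulCommutative G) (h : ∀ H : Subgroup G, H ≠ ⊤ → IsMulCommutative H) : (∃ p : ℕ, p.Prime ∧ IsPGroup p G) ∨ ∃ p q : ℕ, p.Prime ∧ q.Prime ∧ p ≠ q ∧ ∃ (P : Sylow p G) (Q : Sylow q G), IsCyclic P ∧ (Q : Subgroup G).Normal ∧ Cfsg.IsElementaryAbelian q (Q : Subgroup G) ∧ (P : Subgroup G) ⊔ Q = ⊤ := by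
  classical
  by_cases hnil : Group.IsNilpotent G
  · refine Or.inl ?_
    by_contra hno
    push Not at hno
    refine hna ?_
    have hS := Cfsg.Agent.Grp.isNilpotent_iff_sylow_normal.mp hnil
    have hab : ∀ (p : ℕ) [Fact p.Prime] (P : Sylow p G), IsMulCommutative (P : Subgroup G) := fun p hp P =>
      h _ fun e => hno p hp.out (by
        have := P.isPGroup'
        rw [e] at this
        exact this.of_equiv Subgroup.topEquiv)
    -- the product of the abelian normal Sylow subgroups
    have hgen : ∀ X : Subgroup G, (∀ (p : ℕ) [Fact p.Prime] (P : Sylow p G), (P : Subgroup G) ≤ X) → X = ⊤ := by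
      intro X hX
      refine Subgroup.eq_top_of_card_eq X (Nat.dvd_antisymm (Subgroup.card_subgroup_dvd_card X) ?_)
      rw [← Nat.factorization_prime_le_iff_dvd Nat.card_pos.ne' Nat.card_pos.ne']
      intro p hp
      haveI := Fact.mk hp
      obtain ⟨P⟩ : Nonempty (Sylow p G) := inferInstance
      rw [← hp.pow_dvd_iff_le_factorization Nat.card_pos.ne', ← P.card_eq_multiplicity]
      exact Subgroup.card_dvd_of_le (hX p P)
    have hZ : Subgroup.center G = ⊤ := by
      refine hgen _ fun p hp P x hx => Subgroup.mem_center_iff.mpr fun g => ?_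
      have hC : Subgroup.centralizer ({x} : Set G) = ⊤ := hgen _ fun q hq R y hy => by
        rw [Subgroup.mem_centralizer_singleton_iff]
        rcases eq_or_ne p q with rfl | hne
        · haveI : Subsingleton (Sylow _ G) := @Unique.instSubsingleton _ (Sylow.unique_of_normal P (hS p hp P))
          rw [Subsingleton.elim R P] at hy
          haveI := hab p P
          exact congrArg Subtype.val (mul_comm' (⟨y, hy⟩ : (P : Subgroup G)) ⟨x, hx⟩)
        · exact (Subgroup.commute_of_normal_of_disjoint _ _ (hS p hp P) (hS q hq R)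
            (P.isPGroup'.disjoint_of_ne p q hne _ _ R.isPGroup') x y hx hy).eq.symm
      exact Subgroup.mem_centralizer_singleton_iff.mp (hC ▸ Subgroup.mem_top g : g ∈ Subgroup.centralizer ({x} : Set G))
    exact ⟨⟨fun a b => (Subgroup.mem_center_iff.mp (hZ ▸ Subgroup.mem_top b : b ∈ Subgroup.center G) a)⟩⟩
  · have hmin : Cfsg.IsMinimalNonNilpotent G := ⟨hnil, fun H hH => by
      haveI := h H hH
      letI : CommGroup H := { (inferInstance : Group H) with mul_comm := mul_comm' }
      exact inferInstance⟩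
    obtain ⟨p, q, hp, hq, hpq, P, Q, hP, hQ, htop⟩ := Cfsg.Agent.S0536.result hmin
    refine Or.inr ⟨p, q, hp, hq, hpq, P, Q, hP, hQ, ?_, htop⟩
    haveI := Fact.mk hp
    haveI := Fact.mk hq
    have hQtop : (Q : Subgroup G) ≠ ⊤ := fun e => hnil (by
      have := Q.isPGroup'
      rw [e] at this
      exact (this.of_equiv Subgroup.topEquiv).isNilpotent)
    have hQab := h _ hQtop
    refine ⟨hQab, fun a ha => by_contra fun hne => ?_⟩
    obtain ⟨⟨x, hxP⟩, hx⟩ := hP.exists_generator
    have hQc : ∀ u ∈ (Q : Subgroup G), ∀ v ∈ (Q : Subgroup G), u * v = v * u := fun u hu v hv =>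
      congrArg Subtype.val (mul_comm' (⟨u, hu⟩ : (Q : Subgroup G)) ⟨v, hv⟩)
    -- the elements killed by `q`
    let O : Subgroup G :=
      { carrier := {u | u ∈ (Q : Subgroup G) ∧ u ^ q = 1}
        one_mem' := ⟨one_mem _, one_pow _⟩
        mul_mem' := fun {u v} hu hv => ⟨mul_mem hu.1 hv.1, by
          rw [(show Commute u v from hQc u hu.1 v hv.1).mul_pow, hu.2, hv.2, one_mul]⟩
        inv_mem' := fun {u} hu => ⟨inv_mem hu.1, by rw [inv_pow, hu.2, inv_one]⟩ }
    haveI hOn : O.Normal := ⟨fun u hu g => ⟨hQ.conj_mem u hu.1 g, by rw [conj_pow, hu.2]; group⟩⟩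
    have hPO : (P : Subgroup G) ⊔ O ≠ ⊤ := by
      intro e
      refine hne ?_
      have hmem : a ∈ (((P : Subgroup G) ⊔ O : Subgroup G) : Set G) := by rw [e]; trivial
      rw [Subgroup.mul_normal] at hmem
      obtain ⟨u, hu, o, ho, rfl⟩ := hmem
      have hu1 : u ∈ (P : Subgroup G) ⊓ (Q : Subgroup G) := ⟨hu, by have := mul_mem ha (inv_mem ho.1); rwa [mul_inv_cancel_right] at this⟩
      rw [(P.isPGroup'.disjoint_of_ne p q hpq _ _ Q.isPGroup').eq_bot, Subgroup.mem_bot] at hu1
      show (u * o) ^ q = 1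
      rw [hu1, one_mul, ho.2]
    haveI := h _ hPO
    have hfix : ∀ o ∈ O, x * o = o * x := fun o ho => congrArg Subtype.val
      (mul_comm' (⟨x, Subgroup.mem_sup_left hxP⟩ : ↥((P : Subgroup G) ⊔ O)) ⟨o, Subgroup.mem_sup_right ho⟩)
    have hcent : ∀ u ∈ (Q : Subgroup G), x * u = u * x := by
      by_contra hnc
      push Not at hnc
      obtain ⟨u, hu, hxu⟩ := hnc
      set w := x * u * x⁻¹ * u⁻¹ with hw
      have hwQ : w ∈ (Q : Subgroup G) := mul_mem (hQ.conj_mem u hu x) (inv_mem hu)
      have hw1 : w ≠ 1 := fun e => hxu (mul_inv_eq_iff_eq_mul.mp (mul_inv_eq_one.mp e))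
      -- a power of `w` of order `q`
      obtain ⟨c, hc⟩ := IsPGroup.iff_orderOf.mp Q.isPGroup' ⟨w, hwQ⟩
      rw [Subgroup.orderOf_mk] at hc
      obtain ⟨c, rfl⟩ : ∃ c', c = c' + 1 := ⟨c - 1, by
        rcases Nat.eq_zero_or_pos c with rfl | h0
        · exact absurd (orderOf_eq_one_iff.mp (by rw [hc, pow_zero])) hw1
        · omega⟩
      set t := q ^ c with ht
      have hwt : w ^ t ∈ O := ⟨pow_mem hwQ t, by rw [← pow_mul, ht, ← pow_succ, ← hc, pow_orderOf_eq_one]⟩
      have hwt1 : w ^ t ≠ 1 := fun e => by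
        have := orderOf_dvd_of_pow_eq_one e
        rw [hc, Nat.pow_dvd_pow_iff_le_right hq.one_lt] at this
        omega
      have hut : x * u ^ t * x⁻¹ = w ^ t * u ^ t := by
        have hcm : Commute w u := hQc w hwQ u hu
        rw [← conj_pow, ← hcm.mul_pow, show w * u = x * u * x⁻¹ by rw [hw, inv_mul_cancel_right]]
      have hk : ∀ k : ℕ, x ^ k * u ^ t * (x ^ k)⁻¹ = (w ^ t) ^ k * u ^ t := by
        intro k
        induction k with
        | zero => simp
        | succ k ih =>
          have hfx : x * (w ^ t) ^ k * x⁻¹ = (w ^ t) ^ k :=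
            mul_inv_eq_iff_eq_mul.mpr (hfix _ (O.pow_mem hwt k))
          calc x ^ (k + 1) * u ^ t * (x ^ (k + 1))⁻¹ = x * (x ^ k * u ^ t * (x ^ k)⁻¹) * x⁻¹ := by rw [pow_succ']; group
            _ = (x * (w ^ t) ^ k * x⁻¹) * (x * u ^ t * x⁻¹) := by rw [ih]; group
            _ = _ := by rw [hfx, hut, pow_succ, mul_assoc]
      have h1 := hk (orderOf x)
      rw [pow_orderOf_eq_one, one_mul, inv_one, mul_one, eq_comm, mul_eq_right, ← orderOf_dvd_iff_pow_eq_one] at h1
      refine hwt1 (orderOf_eq_one_iff.mp (Nat.eq_one_of_dvd_coprimes ?_ (orderOf_dvd_of_pow_eq_one hwt.2) h1))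
      obtain ⟨d, hd⟩ := IsPGroup.iff_orderOf.mp P.isPGroup' ⟨x, hxP⟩
      rw [Subgroup.orderOf_mk] at hd
      rw [hd]
      exact ((Nat.coprime_primes hq hp).mpr hpq.symm).pow_right d
    refine hna ?_
    have hgen : ∀ g : G, ∃ i : ℤ, ∃ u ∈ (Q : Subgroup G), g = x ^ i * u := by
      intro g
      have : g ∈ (((P : Subgroup G) ⊔ (Q : Subgroup G) : Subgroup G) : Set G) := by rw [htop]; trivial
      rw [Subgroup.mul_normal] at this
      obtain ⟨v, hv, u, hu, rfl⟩ := this
      obtain ⟨i, hi⟩ := Subgroup.mem_zpowers_iff.mp (hx ⟨v, hv⟩)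
      exact ⟨i, u, hu, by rw [← show x ^ i = v from congrArg Subtype.val hi]⟩
    refine ⟨⟨fun g g' => ?_⟩⟩
    obtain ⟨i, u, hu, rfl⟩ := hgen g
    obtain ⟨j, v, hv, rfl⟩ := hgen g'
    exact ((((Commute.refl x).zpow_zpow i j).mul_right ((show Commute x v from hcent v hv).zpow_left i)).mul_left
      (((show Commute x u from hcent u hu).zpow_left j).symm.mul_right (hQc u hu v hv))).eq

end Cfsg.Agent.S0537
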