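import Cfsg.Statements.S0540
import Mathlib
import Cfsg.Agent.Lib.Grp.SubnormalFamily

set_option autoImplicit false
open Pointwise
open Cfsg

namespace Cfsg.Agent.S0540

/-- A uniqueness lemma of zipper type. Let A be a subgroup of a finite group G and U a nonempty family of subgroups. For V in U write S(V) for the set of conjugates of A that lie in V and are subnormal in V. Assume: A belongs to S(V) for every V in U; a member of some S(W) that lies in V belongs to S(V); and for all V, W in U the normalizer of the join of S(V) ∩ S(W) lies in some member of U. Then U has a greatest element. -/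
theorem result {G : Type*} [Group G] [Finite G] (A : Subgroup G) (U : Set (Subgroup G)) (hU : U.Nonempty) (S : Subgroup G → Set (Subgroup G)) (hS : ∀ V B : Subgroup G, B ∈ S V ↔ (∃ g : G, B = MulAut.conj g • A) ∧ B ≤ V ∧ (B.subgroupOf V).IsSubnormal) (h1 : ∀ V ∈ U, A ∈ S V) (h2 : ∀ V ∈ U, ∀ W ∈ U, ∀ B ∈ S W, B ≤ V → B ∈ S V) (h3 : ∀ V ∈ U, ∀ W ∈ U, ∃ X ∈ U, Subgroup.normalizer ((sSup (S V ∩ S W) : Subgroup G) : Set G) ≤ X) : ∃ M ∈ U, ∀ V ∈ U, V ≤ M := by
  classical
  by_contra hno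
  obtain ⟨V0, hV0⟩ := (Set.toFinite U).exists_maximal hU
  -- two distinct maximal members exist
  have hpair : ∃ V W : Subgroup G, Maximal (· ∈ U) V ∧ Maximal (· ∈ U) W ∧ V ≠ W := by
    by_contra hc
    push Not at hc
    refine hno ⟨V0, hV0.prop, fun V hV => ?_⟩
    obtain ⟨M, hle, hM⟩ := (Set.toFinite U).exists_le_maximal hV
    rwa [hc V0 M hV0 hM]
  set P := {x : Subgroup G × Subgroup G | Maximal (· ∈ U) x.1 ∧ Maximal (· ∈ U) x.2 ∧ x.1 ≠ x.2}
  obtain ⟨⟨V, W⟩, ⟨hV, hW, hne⟩, hmax⟩ := Set.exists_max_image P (fun x => (S x.1 ∩ S x.2).ncard) (Set.toFinite P)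
    (let ⟨V, W, h⟩ := hpair; ⟨(V, W), h⟩)
  set T := S V ∩ S W with hT
  obtain ⟨X, hX, hXn⟩ := h3 V hV.prop W hW.prop
  obtain ⟨Y, hXY, hY⟩ := (Set.toFinite U).exists_le_maximal hX
  have main : ∀ Z : Subgroup G, Maximal (· ∈ U) Z → T ⊆ S Z → Y = Z := by
    intro Z hZ hTZ
    by_contra hne'
    have hsnS : ∀ B ∈ S Z, B ≤ Z ∧ (B.subgroupOf Z).IsSubnormal := fun B hB => ((hS Z B).mp hB).2
    have hcl : ∀ B ∈ S Z, ∀ g ∈ Z, MulAut.conj g • B ∈ S Z := by
      intro B hB g hg
      obtain ⟨⟨a, ha⟩, hBZ, hsn⟩ := (hS Z B).mp hB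
      refine (hS Z _).mpr ⟨⟨g * a, by rw [ha, Agent.Grp.conj_smul_conj_smul]⟩, ?_, ?_⟩
      · rw [← Agent.Grp.conj_smul_eq_self_of_mem hg]
        exact Subgroup.pointwise_smul_le_pointwise_smul_iff.mpr hBZ
      · have e : (MulAut.conj g • B).subgroupOf Z = (B.subgroupOf Z).map (MulAut.conj (⟨g, hg⟩ : Z)).toMonoidHom := by
          ext x
          rw [Agent.Grp.map_conj_eq_smul, Agent.Grp.mem_smul_conj, Subgroup.mem_subgroupOf, Subgroup.mem_subgroupOf,
            Agent.Grp.mem_smul_conj]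
          rfl
        rw [e]
        exact hsn.map (MulAut.conj (⟨g, hg⟩ : Z)).surjective
    rcases eq_or_ne T (S Z) with he | he
    · refine hne' (le_antisymm (hZ.2 hY.prop ?_) ?_)
      all_goals
        refine le_trans (fun g hg => ?_) (hXn.trans hXY)
        rw [Agent.Grp.mem_normalizer_iff_smul]
        have hinv : ∀ g ∈ Z, MulAut.conj g • sSup T ≤ sSup T := fun g hg => by
          rw [Subgroup.pointwise_smul_subset_iff]
          refine sSup_le fun B hB => ?_
          rw [← Subgroup.pointwise_smul_subset_iff]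
          refine le_sSup ?_
          rw [he] at hB ⊢
          exact hcl B hB g hg
        exact le_antisymm (hinv g hg) (by
          rw [Subgroup.subset_pointwise_smul_iff, ← map_inv]; exact hinv g⁻¹ (inv_mem hg))
    · obtain ⟨B, hB, hBT, hBN⟩ := Agent.Grp.SnFamily.of_good Z (Agent.Grp.SnFamily.good Z) (S Z) T
        (fun B hB => (hsnS B hB).1) (fun B hB => (hsnS B hB).2) hcl (Set.ssubset_iff_subset_ne.mpr ⟨hTZ, he⟩)
      have hnY : ∀ C ∈ S Z, C ≤ Y → C ∈ S Y := fun C hC hle => h2 Y hY.prop Z hZ.prop C hC hle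
      have hBY : B ∈ S Y := hnY B hB ((hBN.trans hXn).trans hXY)
      have hTY : T ⊆ S Y := fun C hC => hnY C (hTZ hC)
        (((le_sSup hC).trans Subgroup.le_normalizer).trans (hXn.trans hXY))
      have hlt : T ⊂ S Z ∩ S Y := Set.ssubset_iff_subset_ne.mpr ⟨fun C hC => ⟨hTZ hC, hTY hC⟩,
        fun e => hBT (e ▸ ⟨hB, hBY⟩)⟩
      exact absurd (hmax (Z, Y) ⟨hZ, hY, Ne.symm hne'⟩) (Nat.not_le.mpr (Set.ncard_lt_ncard hlt (Set.toFinite _)))
  exact hne ((main V hV Set.inter_subset_left).symm.trans (main W hW Set.inter_subset_right))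

end Cfsg.Agent.S0540
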