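import Cfsg.Statements.S0541
import Mathlib
import Cfsg.Agent.Lib.Grp.SubnormalFamily

set_option autoImplicit false
open Pointwise
open Cfsg

namespace Cfsg.Agent.S0541

/-- Let Z and Y be subgroups of a finite group G and p a prime. Suppose that for every g in G the subgroup generated by the conjugates of g Z g⁻¹ under Y is a p-group. Then there is a Sylow p-subgroup P of G such that Y normalizes the subgroup generated by all conjugates of Z contained in P. -/
theorem result {G : Type*} [Group G] [Finite G] (p : ℕ) [Fact p.Prime] (Z Y : Subgroup G) (h : ∀ g : G, IsPGroup p ↥(⨆ y ∈ Y, MulAut.conj (y * g) • Z)) : ∃ P : Sylow p G, Y ≤ Subgroup.normalizer ((⨆ g ∈ {g : G | MulAut.conj g • Z ≤ (P : Subgroup G)}, MulAut.conj g • Z : Subgroup G) : Set G) := by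
  classical
  set conjs : Set (Subgroup G) := {U | ∃ g : G, U = MulAut.conj g • Z}
  set Φ : Set (Subgroup G) := {R | IsPGroup p R ∧ (∀ y ∈ Y, MulAut.conj y • R = R) ∧ ∃ S₀ ⊆ conjs, sSup S₀ = R}
  have hne : Φ.Nonempty := ⟨⊥, IsPGroup.of_bot, fun y _ => Subgroup.smul_bot _, ∅, Set.empty_subset _, sSup_empty⟩
  obtain ⟨R, ⟨hRp, hRY, hR₀⟩, hRmax⟩ := (Set.toFinite Φ).exists_maximal hne
  obtain ⟨S₀, hS₀, hsup⟩ := hR₀
  obtain ⟨P, hRP⟩ := hRp.exists_le_sylow
  refine ⟨P, fun y hy => ?_⟩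
  set W := ⨆ g ∈ {g : G | MulAut.conj g • Z ≤ (P : Subgroup G)}, MulAut.conj g • Z with hW
  suffices hWR : W = R by rw [hWR, Agent.Grp.mem_normalizer_iff_smul]; exact hRY y hy
  have hRW : R ≤ W := by
    rw [← hsup]
    refine sSup_le fun U hU => ?_
    obtain ⟨g, rfl⟩ := hS₀ hU
    exact le_biSup (fun g => MulAut.conj g • Z) (show g ∈ {g : G | MulAut.conj g • Z ≤ (P : Subgroup G)} from
      ((le_sSup hU).trans hsup.le).trans hRP)
  refine le_antisymm ?_ hRW
  by_contra hWR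
  set S : Set (Subgroup G) := {U | U ∈ conjs ∧ U ≤ (P : Subgroup G)}
  set T : Set (Subgroup G) := {U ∈ S | U ≤ R}
  haveI : Group.IsNilpotent (P : Subgroup G) := P.isPGroup'.isNilpotent
  have hsupT : sSup T = R := le_antisymm (sSup_le fun U hU => hU.2) (hsup ▸ sSup_le_sSup fun U hU =>
    ⟨⟨hS₀ hU, ((le_sSup hU).trans hsup.le).trans hRP⟩, (le_sSup hU).trans hsup.le⟩)
  obtain ⟨U, hU, hUT, hUN⟩ := Agent.Grp.SnFamily.of_good (P : Subgroup G) (Agent.Grp.SnFamily.good _) S T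
    (fun U hU => hU.2) (fun U hU => Agent.Grp.SnFamily.isSubnormal_of_isNilpotent inferInstance _)
    (fun U ⟨⟨a, ha⟩, hUP⟩ g hg => ⟨⟨g * a, by rw [ha, Agent.Grp.conj_smul_conj_smul]⟩, by
      rw [← Agent.Grp.conj_smul_eq_self_of_mem hg]
      exact Subgroup.pointwise_smul_le_pointwise_smul_iff.mpr hUP⟩)
    (Set.ssubset_iff_subset_ne.mpr ⟨fun U hU => hU.1, fun e => hWR (iSup₂_le fun g hg => by
      have : MulAut.conj g • Z ∈ T := e ▸ (⟨⟨g, rfl⟩, hg⟩ : MulAut.conj g • Z ∈ S)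
      exact this.2)⟩)
  rw [hsupT] at hUN
  obtain ⟨⟨g, rfl⟩, hUP⟩ := hU
  set E := ⨆ y ∈ Y, MulAut.conj (y * g) • Z with hE
  have hEY : ∀ y ∈ Y, MulAut.conj y • E = E := by
    have hle : ∀ y ∈ Y, MulAut.conj y • E ≤ E := fun y hy => by
      rw [Subgroup.pointwise_smul_subset_iff]
      refine iSup₂_le fun z hz => ?_
      rw [← Subgroup.pointwise_smul_subset_iff, Agent.Grp.conj_smul_conj_smul, ← mul_assoc]
      exact le_biSup (fun y => MulAut.conj (y * g) • Z) (mul_mem hy hz)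
    intro y hy
    refine le_antisymm (hle y hy) ?_
    rw [Subgroup.subset_pointwise_smul_iff, ← map_inv]
    exact hle y⁻¹ (inv_mem hy)
  have hEN : E ≤ Subgroup.normalizer (R : Set G) := by
    refine iSup₂_le fun z hz x hx => ?_
    rw [← Agent.Grp.conj_smul_conj_smul] at hx
    have h1 := hUN (Agent.Grp.mem_smul_conj.mp hx)
    rw [Agent.Grp.mem_normalizer_iff_smul] at h1 ⊢
    rw [show x = z * (z⁻¹ * x * z) * z⁻¹ by group, ← Agent.Grp.conj_smul_conj_smul, ← Agent.Grp.conj_smul_conj_smul,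
      hRY z⁻¹ (inv_mem hz), h1, hRY z hz]
  have hmem : E ⊔ R ∈ Φ := by
    refine ⟨IsPGroup.to_sup_of_normal_right' (h g) hRp hEN,
      fun y hy => by rw [Subgroup.smul_sup, hEY y hy, hRY y hy],
      ((fun y => MulAut.conj (y * g) • Z) '' (Y : Set G)) ∪ S₀, ?_, ?_⟩
    · exact Set.union_subset (by rintro _ ⟨y, -, rfl⟩; exact ⟨y * g, rfl⟩) hS₀
    · rw [sSup_union, hsup, sSup_image, hE]
      rfl
  refine hUT ⟨⟨⟨g, rfl⟩, hUP⟩, ?_⟩
  refine le_trans ?_ ((le_sup_left : E ≤ E ⊔ R).trans (hRmax hmem le_sup_right))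
  exact le_of_eq_of_le (by rw [one_mul]) (le_biSup (fun y => MulAut.conj (y * g) • Z) (one_mem Y))

end Cfsg.Agent.S0541
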