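import Cfsg.Statements.S0542
import Cfsg.Agent.Lib.Grp.Basic
-- import your own Cfsg.Agent.* helpers here

set_option autoImplicit false
open Cfsg

namespace Cfsg.Agent.S0542

open scoped Pointwise

/-- A Sylow p-subgroup of a finite group meets every subnormal subgroup H in a Sylow p-subgroup of H. -/
theorem result {G : Type*} [Group G] [Finite G] (p : ℕ) [Fact p.Prime] (H : Subgroup G) (hH : H.IsSubnormal) (S : Sylow p G) : ∃ Q : Sylow p H, (Q : Subgroup H) = (S : Subgroup G).subgroupOf H := by
  suffices hh : ¬ p ∣ (S : Subgroup G).relIndex H by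
    obtain ⟨Q, hQ⟩ := (IsPGroup.comap_subtype S.isPGroup' (K := H)).exists_le_sylow
    refine ⟨Q, le_antisymm ?_ hQ⟩
    by_contra hne
    have h1 := Subgroup.relIndex_mul_index hQ
    obtain ⟨n, hn⟩ := Q.isPGroup'.index (((S : Subgroup G).subgroupOf H).subgroupOf (Q : Subgroup H))
    rcases n with _ | n
    · exact hne (Subgroup.relIndex_eq_one.mp (by simpa [Subgroup.relIndex] using hn))
    · refine hh ((dvd_pow_self p n.succ_ne_zero).trans ?_)
      rw [← hn]
      exact Dvd.intro _ h1
  induction hH with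
  | top => simpa using S.not_dvd_index
  | step H K hle _ hn ih =>
    set SK := (S : Subgroup G) ⊓ K
    have hSK : ¬ p ∣ SK.relIndex K := by rwa [Subgroup.inf_relIndex_right]
    rw [← show SK.relIndex H = (S : Subgroup G).relIndex H by
      rw [← Subgroup.inf_relIndex_right, ← Subgroup.inf_relIndex_right (H := (S : Subgroup G)), inf_assoc, inf_eq_right.mpr hle]]
    have hnorm : SK ≤ Subgroup.normalizer (H : Set G) :=
      inf_le_right.trans ((Subgroup.normal_subgroupOf_iff_le_normalizer hle).mp hn)
    have e1 := Cfsg.Agent.Grp.card_sup_mul_card_inf hnorm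
    have e2 := Cfsg.Agent.Grp.card_mul_relIndex (le_sup_left : SK ≤ SK ⊔ H)
    have e3 := Cfsg.Agent.Grp.relIndex_mul_card_inf H SK
    rw [← e2, ← e3, inf_comm H SK] at e1
    have : SK.relIndex (SK ⊔ H) = SK.relIndex H := by
      refine Nat.eq_of_mul_eq_mul_left (Nat.mul_pos (Nat.card_pos (α := SK)) (Nat.card_pos (α := ↥(SK ⊓ H)))) ?_
      linarith [e1]
    exact fun h => hSK ((this ▸ h).trans (Dvd.intro _ (Subgroup.relIndex_mul_relIndex SK (SK ⊔ H) K le_sup_left (sup_le inf_le_right hle))))

end Cfsg.Agent.S0542
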