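import Cfsg.Statements.S0546
import Mathlib
import Cfsg.Agent.Lib.Grp.HallSystem
import Cfsg.Agent.Lib.Grp.Carter
import Cfsg.Agent.Lib.Grp.Frattini

set_option autoImplicit false
open Cfsg
open scoped Pointwise commutatorElement

namespace Cfsg.Agent.S0546

/-- The normal closure of a system normalizer of a finite solvable group is the whole group. -/
theorem result {G : Type*} [Group G] [Finite G] [Group.IsSolvable G] (K : Nat.Primes → Subgroup G) (hK : Cfsg.IsComplementSystem K) : Subgroup.normalClosure ((Cfsg.systemNormalizer K : Subgroup G) : Set G) = ⊤ := by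
  set N := Subgroup.normalClosure ((Cfsg.systemNormalizer K : Subgroup G) : Set G)
  by_contra hN
  haveI : Nontrivial (G ⧸ N) := QuotientGroup.nontrivial_iff.mpr hN
  set f := QuotientGroup.mk' (commutator (G ⧸ N)) with hf
  set M := (commutator (G ⧸ N)).comap (QuotientGroup.mk' N) with hM
  have hlt : commutator (G ⧸ N) < ⊤ := Group.IsSolvable.commutator_lt_top_of_nontrivial (G := G ⧸ N)
  have hab : ∀ (L : Subgroup (G ⧸ M)), Subgroup.normalizer (L : Set (G ⧸ M)) = ⊤ := by
    intro L
    rw [Subgroup.normalizer_eq_top_iff]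
    refine ⟨fun x hx y => ?_⟩
    obtain ⟨y, rfl⟩ := QuotientGroup.mk'_surjective M y
    obtain ⟨x, rfl⟩ := QuotientGroup.mk'_surjective M x
    have h1 : y * x * y⁻¹ * x⁻¹ ∈ M := by
      show QuotientGroup.mk' N (y * x * y⁻¹ * x⁻¹) ∈ commutator (G ⧸ N)
      rw [map_mul, map_mul, map_mul, map_inv, map_inv, commutator_def]
      exact Subgroup.commutator_mem_commutator (Subgroup.mem_top _) (Subgroup.mem_top _)
    have h2 : QuotientGroup.mk' M (y * x * y⁻¹ * x⁻¹) = 1 := (QuotientGroup.eq_one_iff _).mpr h1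
    rw [map_mul, map_mul, map_mul, map_inv, map_inv, mul_inv_eq_one] at h2
    rwa [h2]
  have htop : Cfsg.systemNormalizer (fun p => (K p).map (QuotientGroup.mk' M)) = ⊤ := by
    exact iInf_eq_top.mpr fun p => hab _
  rw [Agent.Grp.HallSys.map_systemNormalizer hK M] at htop
  have hDM : Cfsg.systemNormalizer K ≤ M := fun x hx => by
    show QuotientGroup.mk' N x ∈ commutator (G ⧸ N)
    rw [show QuotientGroup.mk' N x = 1 from (QuotientGroup.eq_one_iff x).mpr (Subgroup.subset_normalClosure hx)]
    exact one_mem _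
  have hbot : (Cfsg.systemNormalizer K).map (QuotientGroup.mk' M) = ⊥ := by
    rw [Subgroup.map_eq_bot_iff, QuotientGroup.ker_mk']; exact hDM
  have hMtop : M = ⊤ := by
    rw [hbot] at htop
    exact (Subgroup.eq_top_iff' M).mpr fun x => (QuotientGroup.eq_one_iff x).mp
      (Subgroup.mem_bot.mp (htop ▸ Subgroup.mem_top _))
  refine hlt.ne ((Subgroup.eq_top_iff' _).mpr fun y => ?_)
  obtain ⟨x, rfl⟩ := QuotientGroup.mk'_surjective N y
  exact (hMtop ▸ Subgroup.mem_top x : x ∈ M)

end Cfsg.Agent.S0546
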