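import Cfsg.Statements.S0547
import Cfsg.Agent.Lib.Grp.Primitive
-- import your own Cfsg.Agent.* helpers here

set_option autoImplicit false
open Cfsg

namespace Cfsg.Agent.S0547

open Cfsg.Agent.Grp

/-- Let a finite solvable group G act faithfully and primitively on a set, and let M be a minimal normal subgroup of G. Then M is transitive with trivial point stabilizers, and the number of points equals the order of M, which is a prime power p ^ d with d ≥ 1. -/
theorem result {G : Type*} [Group G] [Finite G] [Group.IsSolvable G] {Ω : Type*} [Nonempty Ω] [MulAction G Ω] [FaithfulSMul G Ω] (hprim : MulAction.IsPreprimitive G Ω) (M : Subgroup G) [M.Normal] (hM : M ≠ ⊥) (hmin : ∀ K : Subgroup G, K.Normal → K ≤ M → K = ⊥ ∨ K = M) : MulAction.IsPretransitive M Ω ∧ (∀ ω : Ω, MulAction.stabilizer M ω = ⊥) ∧ ∃ p d : ℕ, p.Prime ∧ 0 < d ∧ Nat.card Ω = p ^ d ∧ Nat.card M = p ^ d := by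
  have key := solvable_primitive hprim M hM hmin
  obtain ⟨ω⟩ := (inferInstance : Nonempty Ω)
  obtain ⟨-, -, htr, -, -⟩ := key ω
  have hst : ∀ ω : Ω, MulAction.stabilizer M ω = ⊥ := fun α => by
    rw [Subgroup.eq_bot_iff_forall]
    intro x hx
    exact Subtype.ext (Subgroup.mem_bot.mp ((key α).1 ▸ (⟨x.2, hx⟩ : (x : G) ∈ M ⊓ MulAction.stabilizer G α)))
  have := htr
  refine ⟨htr, hst, ?_⟩
  obtain ⟨p, hp, hNp⟩ := minimal_normal_solvable_isPGroup inferInstance hM hmin
  have := Fact.mk hp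
  obtain ⟨d, hd⟩ := IsPGroup.iff_card.mp hNp
  have hd0 : d ≠ 0 := fun h => hM (Subgroup.card_eq_one.mp (by rw [hd, h, pow_zero]))
  refine ⟨p, d, hp, Nat.pos_of_ne_zero hd0, ?_, hd⟩
  rw [← hd, ← MulAction.index_stabilizer_of_transitive (G := M) ω, hst, Subgroup.index_bot]

end Cfsg.Agent.S0547
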