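import Cfsg.Statements.S0549
import Cfsg.Agent.Lib.Grp.Basic
-- import your own Cfsg.Agent.* helpers here

set_option autoImplicit false
open Cfsg

namespace Cfsg.Agent.S0549

open scoped Pointwise

/-- Let U be a maximal subgroup of a finite group G whose normal core is trivial, and N a nontrivial normal subgroup with centralizer C. Then C ∩ U = 1, and either C = 1 or C is a minimal normal subgroup of G. -/
theorem result {G : Type*} [Group G] [Finite G] (U : Subgroup G) (hU : IsCoatom U) (hcore : U.normalCore = ⊥) (N : Subgroup G) [N.Normal] (hN : N ≠ ⊥) : Subgroup.centralizer (N : Set G) ⊓ U = ⊥ ∧ (Subgroup.centralizer (N : Set G) = ⊥ ∨ (Subgroup.centralizer (N : Set G) ≠ ⊥ ∧ ∀ K : Subgroup G, K.Normal → K ≤ Subgroup.centralizer (N : Set G) → K = ⊥ ∨ K = Subgroup.centralizer (N : Set G))) := by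
  set C := Subgroup.centralizer (N : Set G)
  have hNU : ¬ N ≤ U := fun h => hN (le_bot_iff.mp (hcore ▸ Subgroup.normal_le_normalCore.mpr h))
  have hsup : U ⊔ N = ⊤ := hU.2 _ (lt_of_le_of_ne le_sup_left fun e => hNU (e ▸ le_sup_right))
  have hn : (C ⊓ U).Normal := by
    refine Subgroup.normalizer_eq_top_iff.mp (top_unique (hsup.ge.trans (sup_le ?_ ?_)))
    · intro u hu
      rw [Subgroup.mem_normalizer_iff]
      intro y
      exact ⟨fun hy => ⟨Subgroup.Normal.conj_mem inferInstance y hy.1 u, U.mul_mem (U.mul_mem hu hy.2) (U.inv_mem hu)⟩,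
        fun hy => ⟨by simpa [mul_assoc] using Subgroup.Normal.conj_mem (inferInstance : C.Normal) _ hy.1 u⁻¹,
          by simpa [mul_assoc] using U.mul_mem (U.mul_mem (U.inv_mem hu) hy.2) hu⟩⟩
    · intro n hn
      refine Subgroup.centralizer_le_normalizer _ (Subgroup.mem_centralizer_iff.mpr fun y hy => ?_)
      exact (Subgroup.mem_centralizer_iff.mp hy.1 n hn).symm
  have h0 : C ⊓ U = ⊥ := le_bot_iff.mp (hcore ▸ Subgroup.normal_le_normalCore.mpr inf_le_right)
  refine ⟨h0, (eq_or_ne C ⊥).imp id fun hC => ⟨hC, fun K hK hKC => or_iff_not_imp_left.mpr fun hK1 => ?_⟩⟩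
  have hKU : ¬ K ≤ U := fun h => hK1 (le_bot_iff.mp (h0 ▸ le_inf hKC h))
  have hsupK : U ⊔ K = ⊤ := hU.2 _ (lt_of_le_of_ne le_sup_left fun e => hKU (e ▸ le_sup_right))
  refine le_antisymm hKC fun c hc => ?_
  obtain ⟨k, hk, u, hu, rfl⟩ := Subgroup.mem_sup_of_normal_left.mp (show c ∈ K ⊔ U by rw [sup_comm, hsupK]; trivial)
  have hu1 : u ∈ C ⊓ U := ⟨by simpa using C.mul_mem (C.inv_mem (hKC hk)) hc, hu⟩
  rw [h0, Subgroup.mem_bot] at hu1
  rw [hu1, mul_one]; exact hk

end Cfsg.Agent.S0549
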