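import Cfsg.Statements.S0550
import Mathlib
import Cfsg.Agent.Lib.Grp.Basic

set_option autoImplicit false
open Cfsg

namespace Cfsg.Agent.S0550

/-- Let U be a maximal subgroup with trivial normal core in a finite group G, and A ≠ B two minimal normal subgroups. Then A is the centralizer of B and B that of A, U complements each of them, A and B are non-abelian, and A, B and (A ⊔ B) ∩ U are pairwise isomorphic. -/
theorem result {G : Type*} [Group G] [Finite G] (U : Subgroup G) (hU : IsCoatom U) (hcore : U.normalCore = ⊥) (A B : Subgroup G) [A.Normal] [B.Normal] (hA : A ≠ ⊥) (hB : B ≠ ⊥) (hAmin : ∀ K : Subgroup G, K.Normal → K ≤ A → K = ⊥ ∨ K = A) (hBmin : ∀ K : Subgroup G, K.Normal → K ≤ B → K = ⊥ ∨ K = B) (hAB : A ≠ B) : Subgroup.centralizer (B : Set G) = A ∧ Subgroup.centralizer (A : Set G) = B ∧ Subgroup.IsComplement' A U ∧ Subgroup.IsComplement' B U ∧ ¬ IsMulCommutative A ∧ Nonempty (A ≃* B) ∧ Nonempty (A ≃* ↥((A ⊔ B) ⊓ U)) := by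
  have hnle : ∀ N : Subgroup G, N.Normal → N ≤ U → N = ⊥ := fun N hN hle =>
    eq_bot_iff.mpr (hcore ▸ Subgroup.normal_le_normalCore.mpr hle)
  have hint : A ⊓ B = ⊥ := (hAmin _ inferInstance inf_le_left).resolve_right fun h =>
    hAB ((hBmin A inferInstance (h ▸ inf_le_right)).resolve_left hA)
  have hcomm : ∀ a ∈ A, ∀ b ∈ B, a * b = b * a := fun a ha b hb =>
    Subgroup.commute_of_normal_of_disjoint A B inferInstance inferInstance (disjoint_iff.mpr hint) a b ha hb
  have hsupU : ∀ N : Subgroup G, N.Normal → N ≠ ⊥ → U ⊔ N = ⊤ := fun N hN hN0 =>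
    hU.2 _ (lt_of_le_of_ne le_sup_left fun e => hN0 (hnle N hN (e ▸ le_sup_right)))
  -- a subgroup of `U` normalised by `U` and by one of the minimal normal subgroups is trivial
  have hkill : ∀ X N : Subgroup G, N.Normal → N ≠ ⊥ → X ≤ U → U ≤ Subgroup.normalizer (X : Set G) →
      N ≤ Subgroup.normalizer (X : Set G) → X = ⊥ := fun X N hN hN0 hXU h1 h2 =>
    hnle X (Subgroup.normalizer_eq_top_iff.mp (top_le_iff.mp (hsupU N hN hN0 ▸ sup_le h1 h2))) hXU
  have hnor : ∀ N : Subgroup G, N.Normal → U ≤ Subgroup.normalizer ((N ⊓ U : Subgroup G) : Set G) := fun N hN u hu =>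
    Agent.Grp.mem_normalizer_iff_smul.mpr (by
      rw [Subgroup.smul_inf, Agent.Grp.mem_normalizer_iff_smul.mp ((Subgroup.normalizer_eq_top (H := N)).ge (Subgroup.mem_top u)),
        Agent.Grp.mem_normalizer_iff_smul.mp (Subgroup.le_normalizer hu)])
  have hcenU : ∀ N M : Subgroup G, N.Normal → M.Normal → M ≠ ⊥ → (∀ a ∈ M, ∀ b ∈ N, a * b = b * a) → N ⊓ U = ⊥ := by
    intro N M hN hM hM0 hc
    refine hkill _ M hM hM0 inf_le_right (hnor N hN) fun a ha => ?_
    exact Subgroup.centralizer_le_normalizer _ (Subgroup.mem_centralizer_iff.mpr fun y hy => (hc a ha y hy.1).symm)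
  have hAU : A ⊓ U = ⊥ := hcenU A B inferInstance inferInstance hB fun b hb a ha => (hcomm a ha b hb).symm
  have hBU : B ⊓ U = ⊥ := hcenU B A inferInstance inferInstance hA hcomm
  have hcompl : ∀ N : Subgroup G, N.Normal → N ≠ ⊥ → N ⊓ U = ⊥ → Subgroup.IsComplement' N U := fun N hN hN0 h =>
    Subgroup.isComplement'_of_disjoint_and_mul_eq_univ (disjoint_iff.mpr h) (by
      rw [← Subgroup.normal_mul, sup_comm, hsupU N hN hN0, Subgroup.coe_top])
  have hcen : ∀ N M : Subgroup G, N.Normal → M.Normal → N ≠ ⊥ → M ≠ ⊥ → (∀ a ∈ N, ∀ b ∈ M, a * b = b * a) →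
      Subgroup.centralizer (M : Set G) = N := by
    intro N M hN hM hN0 hM0 hc
    haveI : (Subgroup.centralizer (M : Set G)).Normal := inferInstance
    have hle : N ≤ Subgroup.centralizer (M : Set G) := fun a ha => Subgroup.mem_centralizer_iff.mpr fun b hb => (hc a ha b hb).symm
    have h0 : Subgroup.centralizer (M : Set G) ⊓ U = ⊥ :=
      hcenU _ M inferInstance hM hM0 fun a ha b hb => Subgroup.mem_centralizer_iff.mp hb a ha
    refine le_antisymm (fun x hx => ?_) hle
    have : x ∈ ((U ⊔ N : Subgroup G) : Set G) := by rw [hsupU N hN hN0]; trivial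
    rw [Subgroup.mul_normal] at this
    obtain ⟨u, hu, a, ha, rfl⟩ := this
    have h1 : u ∈ Subgroup.centralizer (M : Set G) ⊓ U := ⟨by simpa using mul_mem hx (inv_mem (hle ha)), hu⟩
    rw [h0, Subgroup.mem_bot] at h1
    simpa [h1] using ha
  have hCB := hcen A B inferInstance inferInstance hA hB hcomm
  have hCA := hcen B A inferInstance inferInstance hB hA fun b hb a ha => (hcomm a ha b hb).symm
  set W := (A ⊔ B) ⊓ U with hW
  have hsupA : ∀ N : Subgroup G, N.Normal → N ≠ ⊥ → N ≤ A ⊔ B → W ⊔ N = A ⊔ B := fun N hN hN0 hle => by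
    refine le_antisymm (sup_le inf_le_left hle) fun x hx => ?_
    have : x ∈ ((U ⊔ N : Subgroup G) : Set G) := by rw [hsupU N hN hN0]; trivial
    rw [Subgroup.mul_normal] at this
    obtain ⟨u, hu, a, ha, rfl⟩ := this
    exact Subgroup.mul_mem_sup ⟨by simpa using mul_mem hx (inv_mem (hle ha)), hu⟩ ha
  have hiso : ∀ N M : Subgroup G, N.Normal → N ⊓ W = ⊥ → N ⊓ M = ⊥ → W ⊔ N = M ⊔ N → Nonempty (M ≃* W) := by
    intro N M hN h1 h2 h3
    set f := QuotientGroup.mk' N
    have hinj : ∀ X : Subgroup G, N ⊓ X = ⊥ → Function.Injective (f.comp X.subtype) := fun X hX => by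
      rw [injective_iff_map_eq_one]
      intro x hx
      exact Subtype.ext (hX.le (Subgroup.mem_inf.mpr ⟨(QuotientGroup.eq_one_iff _).mp hx, x.2⟩))
    have e : (f.comp M.subtype).range = (f.comp W.subtype).range := by
      rw [MonoidHom.range_comp, MonoidHom.range_comp, Subgroup.range_subtype, Subgroup.range_subtype]
      have := congrArg (Subgroup.map f) h3
      rw [Subgroup.map_sup, Subgroup.map_sup, show N.map f = ⊥ from QuotientGroup.map_mk'_self N, sup_bot_eq, sup_bot_eq] at this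
      exact this.symm
    exact ⟨((MonoidHom.ofInjective (hinj M h2)).trans (MulEquiv.subgroupCongr e)).trans (MonoidHom.ofInjective (hinj W h1)).symm⟩
  obtain ⟨eB⟩ := hiso A B inferInstance (eq_bot_iff.mpr fun x hx => hAU.le (Subgroup.mem_inf.mpr ⟨hx.1, hx.2.2⟩)) hint
    (by rw [hsupA A inferInstance hA le_sup_left, sup_comm])
  obtain ⟨eA⟩ := hiso B A inferInstance (eq_bot_iff.mpr fun x hx => hBU.le (Subgroup.mem_inf.mpr ⟨hx.1, hx.2.2⟩))
    (by rw [inf_comm]; exact hint) (hsupA B inferInstance hB le_sup_right)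
  refine ⟨hCB, hCA, hcompl A inferInstance hA hAU, hcompl B inferInstance hB hBU, fun hab => ?_, ⟨eA.trans eB.symm⟩, ⟨eA⟩⟩
  exact hAB ((hBmin A inferInstance (hCA ▸ Subgroup.le_centralizer_iff_isMulCommutative.mpr hab)).resolve_left hA)

end Cfsg.Agent.S0550
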