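import Cfsg.Statements.S0551
import Mathlib
import Cfsg.Agent.S0549
import Cfsg.Agent.Lib.Grp.Solvable
import Cfsg.Agent.Lib.Grp.Frattini
import Cfsg.Agent.Lib.Grp.Basic
import Cfsg.Agent.Lib.Grp.Coprime
-- import your own Cfsg.Agent.* helpers here

set_option autoImplicit false
open Pointwise
open Cfsg

namespace Cfsg.Agent.S0551

open scoped Pointwise
open Cfsg.Agent.Grp

universe w

theorem le_of_corefree {G : Type w} [Group G] {U : Subgroup G} (hUc : U.normalCore = ⊥)
    {K : Subgroup G} [K.Normal] (hK : K ≤ U) : K = ⊥ :=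
  le_bot_iff.1 (hUc ▸ Subgroup.normal_le_normalCore.2 hK)

theorem complement_of_corefree {G : Type w} [Group G] [Finite G] {U : Subgroup G} (hU : IsCoatom U)
    (hUc : U.normalCore = ⊥) (N : Subgroup G) [hN : N.Normal] [IsMulCommutative N] (hN0 : N ≠ ⊥) :
    N ⊔ U = ⊤ ∧ N ⊓ U = ⊥ ∧ Subgroup.centralizer (N : Set G) ⊓ U = ⊥ := by
  have hNU : ¬ N ≤ U := fun h => hN0 (le_of_corefree hUc h)
  have hsup : N ⊔ U = ⊤ := hU.2 _ (lt_of_le_of_ne le_sup_right fun e => hNU (le_sup_left.trans e.ge))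
  obtain ⟨h1, -⟩ := Cfsg.Agent.S0549.result U hU hUc N hN0
  refine ⟨hsup, ?_, h1⟩
  refine le_bot_iff.1 (le_trans (inf_le_inf_right U fun a ha => ?_) h1.le)
  exact Subgroup.mem_centralizer_iff.2 fun b hb =>
    congrArg Subtype.val (mul_comm' (⟨b, hb⟩ : N) ⟨a, ha⟩)

theorem normalizer_inf_eq {G : Type w} [Group G] {U : Subgroup G} (hU : IsCoatom U)
    (hUc : U.normalCore = ⊥) (L : Subgroup G) [L.Normal] (hne : L ⊓ U ≠ ⊥) :
    Subgroup.normalizer ((L ⊓ U : Subgroup G) : Set G) = U := by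
  have hle : U ≤ Subgroup.normalizer ((L ⊓ U : Subgroup G) : Set G) :=
    (le_inf (by rw [Subgroup.normalizer_eq_top]; exact le_top) Subgroup.le_normalizer).trans
      (Subgroup.inf_normalizer_le_normalizer_inf (H := L) (K := U))
  rcases hU.le_iff.1 hle with h | h
  · haveI := Subgroup.normalizer_eq_top_iff.1 h
    exact absurd (le_of_corefree hUc inf_le_right) hne
  · exact h

theorem corefree_conj {G : Type w} [Group G] [Finite G] [Group.IsSolvable G] (U V : Subgroup G)
    (hU : IsCoatom U) (hV : IsCoatom V) (hUc : U.normalCore = ⊥) (hVc : V.normalCore = ⊥) :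
    ∃ g : G, MulAut.conj g • U = V := by
  classical
  have htop : (⊤ : Subgroup G) ≠ ⊥ := fun h => hU.1 (top_unique (h.le.trans bot_le))
  obtain ⟨N, hN, hN0, -, hmin⟩ := exists_minimal_normal_le htop
  haveI := hN
  obtain ⟨hab, p, hp, hexp⟩ := minimal_normal_solvable (inferInstance : Group.IsSolvable N) hN0 hmin
  haveI := hab
  haveI := Fact.mk hp
  have hNp : IsPGroup p N := fun x => ⟨1, by simpa using Subtype.ext (hexp x x.2)⟩
  obtain ⟨hUs, hUi, hUC⟩ := complement_of_corefree hU hUc N hN0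
  obtain ⟨hVs, hVi, -⟩ := complement_of_corefree hV hVc N hN0
  by_cases hU0 : U = ⊥
  · have hNtop : N = ⊤ := by rwa [hU0, sup_bot_eq] at hUs
    rw [hNtop, top_inf_eq] at hVi
    exact ⟨1, by rw [map_one, one_smul, hU0, hVi]⟩
  -- a chief factor above `N`
  haveI : Nontrivial (G ⧸ N) := by
    obtain ⟨⟨u, hu⟩, hu1⟩ := Subgroup.ne_bot_iff_exists_ne_one.1 hU0
    refine ⟨QuotientGroup.mk u, 1, fun h => hu1 (Subtype.ext ?_)⟩
    have : u ∈ N ⊓ U := ⟨(QuotientGroup.eq_one_iff u).1 h, hu⟩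
    rwa [hUi, Subgroup.mem_bot] at this
  obtain ⟨L', hL', hL'0, -, hL'min⟩ := exists_minimal_normal_le (top_ne_bot : (⊤ : Subgroup (G ⧸ N)) ≠ ⊥)
  haveI := hL'
  obtain ⟨q, hq, hL'q⟩ := minimal_normal_solvable_isPGroup (inferInstance : Group.IsSolvable L') hL'0 hL'min
  haveI := Fact.mk hq
  set L := L'.comap (QuotientGroup.mk' N) with hL
  haveI : L.Normal := hL'.comap _
  have hNL : N ≤ L := fun x hx => by
    rw [hL, Subgroup.mem_comap, show QuotientGroup.mk' N x = 1 from (QuotientGroup.eq_one_iff x).2 hx]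
    exact one_mem L'
  have hcardL : Nat.card L = Nat.card N * Nat.card L' := by
    have e1 := L.card_mul_index
    rw [hL, Subgroup.index_comap_of_surjective _ (QuotientGroup.mk'_surjective N),
      Subgroup.card_eq_card_quotient_mul_card_subgroup N, ← L'.card_mul_index] at e1
    exact Nat.eq_of_mul_eq_mul_right (Nat.pos_of_ne_zero Subgroup.index_ne_zero_of_finite)
      (e1.trans (by ring))
  -- complements of `N` in `L`
  have key : ∀ W : Subgroup G, N ⊔ W = ⊤ → N ⊓ W = ⊥ → Nat.card (L ⊓ W : Subgroup G) = Nat.card L' := by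
    intro W hs hi
    have hsup : (L ⊓ W) ⊔ N = L := by
      refine le_antisymm (sup_le inf_le_left hNL) fun x hx => ?_
      obtain ⟨n, hn, w, hw, rfl⟩ := Subgroup.mem_sup_of_normal_left.1
        (hs ▸ Subgroup.mem_top x : x ∈ N ⊔ W)
      refine mul_mem (Subgroup.mem_sup_right hn) (Subgroup.mem_sup_left ⟨?_, hw⟩)
      simpa using mul_mem (inv_mem (hNL hn)) hx
    have e := card_sup_mul_card_inf_normal (H := L ⊓ W) (N := N)
    rw [hsup, hcardL, show (L ⊓ W) ⊓ N = ⊥ from le_bot_iff.1 (hi ▸ le_inf inf_le_right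
      (inf_le_left.trans inf_le_right)), Subgroup.card_bot, mul_one, mul_comm] at e
    exact Nat.eq_of_mul_eq_mul_right Nat.card_pos e.symm
  have hU' := key U hUs hUi
  have hV' := key V hVs hVi
  have hL'1 : Nat.card L' ≠ 1 := fun h => hL'0 (Subgroup.card_eq_one.1 h)
  obtain ⟨j, hj⟩ := IsPGroup.iff_card.1 hL'q
  obtain ⟨i, hi⟩ := IsPGroup.iff_card.1 hNp
  -- the primes differ
  have hpq : p ≠ q := by
    intro hpq
    subst hpq
    have hLp : IsPGroup p L := IsPGroup.of_card (n := i + j) (by rw [hcardL, hi, hj, pow_add])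
    haveI : Group.IsNilpotent L := hLp.isNilpotent
    haveI : (N.subgroupOf L).Normal := hN.subgroupOf L
    have hne : N.subgroupOf L ≠ ⊥ := fun h => by
      rw [Subgroup.subgroupOf_eq_bot, disjoint_iff, inf_eq_left.2 hNL] at h
      exact hN0 h
    have hm := inf_center_ne_bot (N.subgroupOf L) hne
    haveI hZ : ((Subgroup.center L).map L.subtype).Normal := normal_of_characteristic_map _
    have hle : N ≤ (Subgroup.center L).map L.subtype := by
      refine inf_eq_left.1 ((hmin _ inferInstance inf_le_left).resolve_left fun h => ?_)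
      obtain ⟨⟨z, hz⟩, hzne⟩ := Subgroup.ne_bot_iff_exists_ne_one.1 hm
      have : (z : G) ∈ N ⊓ (Subgroup.center L).map L.subtype := ⟨hz.1, ⟨z, hz.2, rfl⟩⟩
      rw [h, Subgroup.mem_bot] at this
      exact hzne (Subtype.ext (Subtype.ext this))
    have hLC : L ≤ Subgroup.centralizer (N : Set G) := fun x hx => by
      rw [Subgroup.mem_centralizer_iff]
      intro n hn
      obtain ⟨w, hw, rfl⟩ := hle hn
      exact (congrArg Subtype.val (Subgroup.mem_center_iff.1 hw ⟨x, hx⟩)).symm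
    have : L ⊓ U = ⊥ := le_bot_iff.1 ((inf_le_inf_right U hLC).trans hUC.le)
    rw [this, Subgroup.card_bot] at hU'
    exact hL'1 hU'.symm
  have hcop : (Nat.card L').Coprime (Nat.card N) := by
    rw [hi, hj]; exact Nat.Coprime.pow _ _ ((Nat.coprime_primes hq hp).2 (Ne.symm hpq))
  -- both are Sylow subgroups of `L`
  have syl : ∀ W : Subgroup G, Nat.card (L ⊓ W : Subgroup G) = Nat.card L' →
      ∃ S : Sylow q L, (S : Subgroup L).map L.subtype = L ⊓ W := by
    intro W hW
    have hc : Nat.card ((L ⊓ W).subgroupOf L) = Nat.card L' := by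
      rw [Nat.card_congr (Subgroup.subgroupOfEquivOfLe (inf_le_left : L ⊓ W ≤ L)).toEquiv, hW]
    have hSp : IsPGroup q ((L ⊓ W).subgroupOf L) := IsPGroup.of_card (hc.trans hj)
    refine ⟨hSp.toSylow fun hd => ?_, ?_⟩
    · have e := ((L ⊓ W).subgroupOf L).card_mul_index
      rw [hc, hcardL, mul_comm (Nat.card N)] at e
      rw [Nat.eq_of_mul_eq_mul_left Nat.card_pos e] at hd
      have hj0 : j ≠ 0 := fun h => hL'1 (by rw [hj, h, pow_zero])
      exact Nat.not_coprime_of_dvd_of_dvd hq.one_lt (hj ▸ dvd_pow_self q hj0) hd hcop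
    · exact Subgroup.map_subgroupOf_eq_of_le inf_le_left
  obtain ⟨SU, hSU⟩ := syl U hU'
  obtain ⟨SV, hSV⟩ := syl V hV'
  obtain ⟨l, hl⟩ := MulAction.exists_smul_eq L SU SV
  have hne : L ⊓ U ≠ ⊥ := fun h => hL'1 (by rw [← hU', h, Subgroup.card_bot])
  have hne' : L ⊓ V ≠ ⊥ := fun h => hL'1 (by rw [← hV', h, Subgroup.card_bot])
  refine ⟨l, ?_⟩
  have e : MulAut.conj (l : G) • (L ⊓ U) = L ⊓ V := by
    rw [← hSU, ← hSV, ← hl, Sylow.coe_subgroup_smul, ← Cfsg.Agent.Grp.conj_smul_map]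
    rfl
  have hle : MulAut.conj (l : G) • U ≤ Subgroup.normalizer ((L ⊓ V : Subgroup G) : Set G) := by
    intro y hy
    rw [mem_smul_conj] at hy
    rw [mem_normalizer_iff_smul, ← e]
    have h1 := mem_normalizer_iff_smul.1 ((normalizer_inf_eq hU hUc L hne).ge hy)
    calc MulAut.conj y • MulAut.conj (l : G) • (L ⊓ U)
        = MulAut.conj (l : G) • MulAut.conj ((l : G)⁻¹ * y * l) • (L ⊓ U) := by
          rw [conj_smul_conj_smul, conj_smul_conj_smul]; congr 2; group
      _ = MulAut.conj (l : G) • (L ⊓ U) := by rw [h1]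
  rw [normalizer_inf_eq hV hVc L hne'] at hle
  have hco : IsCoatom (MulAut.conj (l : G) • U) := by
    rw [← map_conj_eq_smul]
    exact (OrderIso.isCoatom_iff (MulEquiv.mapSubgroup (MulAut.conj (l : G))) U).2 hU
  exact ((hco.le_iff.1 hle).resolve_left hV.1).symm

/-- In a finite solvable group all core-free maximal subgroups are conjugate. -/
theorem result {G : Type*} [Group G] [Finite G] [Group.IsSolvable G] (U V : Subgroup G) (hU : IsCoatom U) (hV : IsCoatom V) (hUc : U.normalCore = ⊥) (hVc : V.normalCore = ⊥) : ∃ g : G, MulAut.conj g • U = V := by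
  exact corefree_conj U V hU hV hUc hVc

end Cfsg.Agent.S0551
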