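import Cfsg.Statements.S0552
import Cfsg.Agent.Lib.Grp.Solvable
import Cfsg.Agent.Lib.Grp.Cores
-- import your own Cfsg.Agent.* helpers here

set_option autoImplicit false
open Cfsg

namespace Cfsg.Agent.S0552

/-- Let σ be an automorphism of a finite solvable group G fixing every element of the Fitting subgroup. If σ is not the identity then the order of σ and the order of G have a common prime factor. -/
theorem result {G : Type*} [Group G] [Finite G] [Group.IsSolvable G] (σ : G ≃* G) (hσ : ∀ x ∈ Cfsg.fittingSubgroup G, σ x = x) (hne : σ ≠ MulEquiv.refl G) : ¬ (orderOf σ).Coprime (Nat.card G) := by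
  intro hcop
  refine hne (MulEquiv.ext fun g => ?_)
  set F := Cfsg.fittingSubgroup G
  have hFn : F.Normal := Cfsg.Agent.Grp.fittingSubgroup_isNormal
  have hC : Subgroup.centralizer (F : Set G) ≤ F := Cfsg.Agent.Grp.centralizer_fittingSubgroup_le
  set z := g⁻¹ * σ g with hz
  have hzF : z ∈ F := by
    refine hC (Subgroup.mem_centralizer_iff.mpr fun f hf => ?_)
    have e := hσ _ (hFn.conj_mem f hf g)
    simp only [map_mul, map_inv, hσ f hf] at e
    calc f * z = g⁻¹ * (g * f * g⁻¹) * σ g := by rw [hz]; group
      _ = g⁻¹ * (σ g * f * (σ g)⁻¹) * σ g := by rw [e]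
      _ = z * f := by rw [hz]; group
  have hpow : ∀ n : ℕ, (σ ^ n : MulAut G) g = g * z ^ n := by
    intro n
    induction n with
    | zero => simp
    | succ n ih =>
      rw [pow_succ', MulAut.mul_apply, ih, map_mul, map_pow, hσ z hzF, show σ g = g * z by rw [hz]; group, pow_succ', mul_assoc]
  have h1 : z ^ orderOf σ = 1 := by
    have := hpow (orderOf σ)
    rw [show (σ ^ orderOf σ : MulAut G) = 1 from pow_orderOf_eq_one σ, MulAut.one_apply] at this
    simpa using this.symm
  have h2 : z = 1 := orderOf_eq_one_iff.mp (Nat.dvd_one.mp (hcop ▸ Nat.dvd_gcd (orderOf_dvd_of_pow_eq_one h1) (orderOf_dvd_natCard z)))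
  rw [show σ g = g * z by rw [hz]; group, h2, mul_one]
  rfl

end Cfsg.Agent.S0552
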