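import Cfsg.Statements.S0553
import Mathlib
import Cfsg.Agent.Lib.Grp.Solvable
import Cfsg.Agent.Lib.Grp.Cores
-- import your own Cfsg.Agent.* helpers here

set_option autoImplicit false
open Cfsg

namespace Cfsg.Agent.S0553

set_option linter.style.haveILetI false

universe w

theorem core : ∀ (n : ℕ) (G : Type w) [Group G] [Finite G] [Group.IsSolvable G] [Nontrivial G],
    Nat.card G = n → (∀ M : Subgroup G, IsCoatom M → (Nat.card M).Coprime M.index) →
    ∃ p : ℕ, p.Prime ∧ p ∣ Nat.card G ∧ ∀ P : Sylow p G, (P : Subgroup G).Normal := by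
  intro n
  induction n using Nat.strong_induction_on with
  | _ n ih =>
  intro G _ _ _ _ hn h
  obtain ⟨N, ⟨hNn, hNb⟩, hmin⟩ := Set.exists_min_image {N : Subgroup G | N.Normal ∧ N ≠ ⊥}
    (fun N => Nat.card N) (Set.toFinite _) ⟨⊤, inferInstance, top_ne_bot⟩
  haveI := hNn
  have hmin' : ∀ M : Subgroup G, M.Normal → M ≤ N → M = ⊥ ∨ M = N := fun M hM hle =>
    or_iff_not_imp_left.2 fun hb => Subgroup.eq_of_le_of_card_ge hle (hmin M ⟨hM, hb⟩)
  obtain ⟨hab, p, hp, hexp⟩ := Grp.minimal_normal_solvable inferInstance hNb hmin'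
  haveI := Fact.mk hp
  have hNp : IsPGroup p N := fun x => ⟨1, by simpa using Subtype.ext (hexp x x.2)⟩
  obtain ⟨k, hk⟩ := IsPGroup.iff_card.1 hNp
  have hk0 : k ≠ 0 := by
    rintro rfl
    exact hNb (Subgroup.card_eq_one.1 (by rw [hk, pow_zero]))
  have hpG : p ∣ Nat.card G :=
    ((dvd_pow_self p hk0).trans (hk ▸ dvd_rfl)).trans (Subgroup.card_subgroup_dvd_card N)
  by_cases hNt : N = ⊤
  · refine ⟨p, hp, hpG, fun P => ?_⟩
    have : (P : Subgroup G) = ⊤ := by
      refine (P.is_maximal' (Q := ⊤) ?_ le_top).symm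
      intro x
      obtain ⟨j, hj⟩ := hNp ⟨x.1, hNt ▸ Subgroup.mem_top x.1⟩
      exact ⟨j, Subtype.ext (by simpa using congrArg Subtype.val hj)⟩
    rw [this]; infer_instance
  haveI : Nontrivial (G ⧸ N) := QuotientGroup.nontrivial_iff.2 hNt
  have hlt : Nat.card (G ⧸ N) < n := by
    rw [← hn, Subgroup.card_eq_card_quotient_mul_card_subgroup N]
    exact lt_mul_of_one_lt_right Nat.card_pos (Subgroup.one_lt_card_iff_ne_bot N |>.2 hNb)
  have hq' : ∀ M : Subgroup (G ⧸ N), IsCoatom M → (Nat.card M).Coprime M.index := by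
    intro M hM
    have hsurj := QuotientGroup.mk'_surjective N
    have hc : IsCoatom (M.comap (QuotientGroup.mk' N)) := Subgroup.isCoatom_comap_of_surjective hsurj hM
    have h1 := h _ hc
    rw [Subgroup.index_comap_of_surjective _ hsurj] at h1
    refine h1.coprime_dvd_left ?_
    conv_lhs => rw [← Subgroup.map_comap_eq_self_of_surjective hsurj M]
    exact Subgroup.card_map_dvd _ _
  obtain ⟨q, hq, hqG, hQn⟩ := ih _ hlt (G ⧸ N) rfl hq'
  haveI := Fact.mk hq
  have hqdvd : q ∣ Nat.card G := hqG.trans (Subgroup.card_quotient_dvd_card N)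
  obtain ⟨Q⟩ : Nonempty (Sylow q G) := Sylow.nonempty
  suffices hQ : (Q : Subgroup G).Normal ∨ ∀ P : Sylow p G, (P : Subgroup G).Normal by
    rcases hQ with hQ | hQ
    · refine ⟨q, hq, hqdvd, fun P => ?_⟩
      haveI := Sylow.unique_of_normal Q hQ
      rw [Subsingleton.elim P Q]; exact hQ
    · exact ⟨p, hp, hpG, hQ⟩
  set R := (Q : Subgroup G) ⊔ N with hR
  have hRn : R.Normal := by
    have hsurj := QuotientGroup.mk'_surjective N
    have h1 : R = ((Q : Subgroup G).map (QuotientGroup.mk' N)).comap (QuotientGroup.mk' N) := by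
      rw [Subgroup.comap_map_eq, QuotientGroup.ker_mk']
    rw [h1]
    haveI := hQn (Q.mapSurjective hsurj)
    exact (this : ((Q : Subgroup G).map (QuotientGroup.mk' N)).Normal).comap _
  by_cases hqp : q = p
  · subst hqp
    left
    have : N ≤ (Q : Subgroup G) := (Grp.le_pCore hNn hNp).trans (Grp.pCore_le_sylow Q)
    rwa [hR, sup_eq_left.2 this] at hRn
  let Q' : Sylow q R := Q.subtype le_sup_left
  have hfr := Sylow.normalizer_sup_eq_top (N := R) Q'
  have hmap : (Q' : Subgroup R).map R.subtype = (Q : Subgroup G) :=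
    Subgroup.map_subgroupOf_eq_of_le le_sup_left
  rw [hmap] at hfr
  set NQ := Subgroup.normalizer ((Q : Subgroup G) : Set G) with hNQ
  have hsup : NQ ⊔ N = ⊤ := by
    rw [eq_top_iff, ← hfr, hR]
    exact sup_le le_sup_left (sup_le (Subgroup.le_normalizer.trans le_sup_left) le_sup_right)
  by_cases hNQt : NQ = ⊤
  · exact Or.inl (Subgroup.normalizer_eq_top_iff.1 hNQt)
  right
  obtain ⟨M, hM, hle⟩ := (eq_top_or_exists_le_coatom NQ).resolve_left hNQt
  have hMN : M ⊔ N = ⊤ := top_le_iff.1 (hsup ▸ sup_le_sup_right hle N)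
  have hI : M ⊓ N = ⊥ := by
    refine (hmin' _ ?_ inf_le_right).resolve_right fun hc => hM.1 ?_
    · rw [← Subgroup.normalizer_eq_top_iff, eq_top_iff, ← hMN]
      refine sup_le ?_ ?_
      · intro m hm
        rw [Subgroup.mem_normalizer_iff]
        intro x
        simp only [Subgroup.mem_inf]
        exact and_congr ((Subgroup.mul_mem_cancel_right _ (inv_mem hm)).trans
          (Subgroup.mul_mem_cancel_left _ hm)).symm
          ⟨fun hx => hNn.conj_mem x hx m, fun hx => by
            simpa [mul_assoc] using hNn.conj_mem' _ hx m⟩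
      · intro a ha
        refine Subgroup.centralizer_le_normalizer _ ?_
        intro x hx
        exact congrArg Subtype.val (mul_comm' (⟨x, hx.2⟩ : N) ⟨a, ha⟩)
    · rw [← hMN, sup_eq_left.2 (hc ▸ inf_le_left)]
  have hcompl : Subgroup.IsComplement' M N :=
    Subgroup.isComplement'_of_disjoint_and_mul_eq_univ (disjoint_iff.2 hI) (by
      rw [← Subgroup.mul_normal, hMN]; rfl)
  have hidx : M.index = Nat.card N := hcompl.symm.index_eq_card
  have hnp : ¬ p ∣ Nat.card M := by
    intro hd
    have := h M hM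
    rw [hidx, hk] at this
    exact hp.ne_one (Nat.dvd_one.1 (this ▸ Nat.dvd_gcd hd (dvd_pow_self p hk0)))
  have hNi : ¬ p ∣ N.index := by
    rwa [hcompl.index_eq_card]
  intro P
  haveI := Sylow.unique_of_normal (hNp.toSylow hNi) hNn
  rw [Subsingleton.elim P (hNp.toSylow hNi)]
  exact hNn

/-- Let G be a nontrivial finite solvable group in which every maximal subgroup has order coprime to its index. Then for some prime p dividing the order of G the Sylow p-subgroups of G are normal. -/
theorem result {G : Type*} [Group G] [Finite G] [Group.IsSolvable G] [Nontrivial G] (h : ∀ M : Subgroup G, IsCoatom M → (Nat.card M).Coprime M.index) : ∃ p : ℕ, p.Prime ∧ p ∣ Nat.card G ∧ ∀ P : Sylow p G, (P : Subgroup G).Normal := by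
  exact core _ G rfl h

end Cfsg.Agent.S0553
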