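import Cfsg.Statements.S0554
import Cfsg.Agent.Lib.Grp.Solvable
import Cfsg.Agent.Lib.Grp.Cores
-- import your own Cfsg.Agent.* helpers here

set_option autoImplicit false
open Cfsg

namespace Cfsg.Agent.S0554

universe w

theorem absorb {G : Type w} [Group G] (N : Subgroup G) [N.Normal] :
    ∀ (t : ℕ) (S : Fin t → Subgroup G) (j : Fin t), N ≤ S j → ∀ (s : Fin t → G), (∀ i, s i ∈ S i) →
    ∀ n ∈ N, ∃ s' : Fin t → G, (∀ i, s' i ∈ S i) ∧ (List.ofFn s).prod * n = (List.ofFn s').prod := by
  intro t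
  induction t with
  | zero => exact fun S j => j.elim0
  | succ t ih =>
    intro S j hj s hs n hn
    rw [List.ofFn_succ, List.prod_cons]
    rcases Fin.eq_zero_or_eq_succ j with rfl | ⟨j', rfl⟩
    · set r := (List.ofFn fun i => s (Fin.succ i)).prod
      refine ⟨Fin.cons (s 0 * (r * n * r⁻¹)) (fun i => s i.succ), fun i => ?_, ?_⟩
      · refine Fin.cases ?_ (fun i => ?_) i
        · simp only [Fin.cons_zero]
          exact (S 0).mul_mem (hs 0) (hj (Subgroup.Normal.conj_mem inferInstance n hn r))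
        · simpa only [Fin.cons_succ] using hs i.succ
      · rw [List.ofFn_cons, List.prod_cons, show s 0 * (r * n * r⁻¹) * r = s 0 * r * n by group]
    · obtain ⟨s', hs', he⟩ := ih (fun i => S i.succ) j' hj (fun i => s i.succ) (fun i => hs i.succ) n hn
      refine ⟨Fin.cons (s 0) s', fun i => ?_, ?_⟩
      · refine Fin.cases ?_ (fun i => ?_) i
        · simpa only [Fin.cons_zero] using hs 0
        · simpa only [Fin.cons_succ] using hs' i
      · rw [List.ofFn_cons, List.prod_cons, mul_assoc, he]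

theorem prod_aux : ∀ (n : ℕ) (G : Type w) [Group G] [Finite G] [Group.IsSolvable G], Nat.card G = n →
    ∀ (t : ℕ) (p : Fin t → ℕ), (∀ i, (p i).Prime) →
    (∀ q : ℕ, q.Prime → q ∣ Nat.card G → ∃ i, p i = q) → ∀ (S : (i : Fin t) → Sylow (p i) G) (g : G),
    ∃ s : Fin t → G, (∀ i, s i ∈ (S i : Subgroup G)) ∧ g = (List.ofFn s).prod := by
  intro n
  induction n using Nat.strong_induction_on with
  | _ n ih =>
  intro G _ _ _ hn t p hp hall S g
  rcases subsingleton_or_nontrivial G with hG | hG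
  · exact ⟨fun _ => 1, fun i => Subgroup.one_mem _, Subsingleton.elim _ _⟩
  obtain ⟨N, hNn, hNb, -, hNmin⟩ := Cfsg.Agent.Grp.exists_minimal_normal_le (N := (⊤ : Subgroup G)) top_ne_bot
  obtain ⟨q, hq, hNq⟩ := Cfsg.Agent.Grp.minimal_normal_solvable_isPGroup inferInstance hNb hNmin
  have := Fact.mk hq
  have hqd : q ∣ Nat.card G := by
    obtain ⟨k, hk⟩ := IsPGroup.iff_card.mp hNq
    have hk0 : k ≠ 0 := fun h => hNb (Subgroup.card_eq_one.mp (by rw [hk, h, pow_zero]))
    exact ((dvd_pow_self q hk0).trans (hk ▸ dvd_rfl)).trans (Subgroup.card_subgroup_dvd_card N)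
  obtain ⟨j, hj⟩ := hall q hq hqd
  have hNS : N ≤ (S j : Subgroup G) := by
    have := Fact.mk (hp j)
    refine le_trans ?_ (Cfsg.Agent.Grp.pCore_le_sylow (S j))
    exact Cfsg.Agent.Grp.le_pCore hNn (by rw [hj]; exact hNq)
  have hf : Function.Surjective (QuotientGroup.mk' N) := QuotientGroup.mk'_surjective N
  obtain ⟨s, hs, hse⟩ := ih _ (hn ▸ Cfsg.Agent.Grp.card_quotient_lt hNb) (G ⧸ N) rfl t p hp
    (fun r hr hrd => hall r hr (hrd.trans (Subgroup.card_quotient_dvd_card N)))
    (fun i => haveI := Fact.mk (hp i); (S i).mapSurjective hf) (QuotientGroup.mk' N g)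
  choose s' hs' hse' using fun i => hs i
  obtain ⟨n, hnN, hgn⟩ : ∃ n ∈ N, g = (List.ofFn s').prod * n := by
    refine ⟨((List.ofFn s').prod)⁻¹ * g, ?_, by group⟩
    rw [← QuotientGroup.eq_one_iff]
    show QuotientGroup.mk' N ((List.ofFn s').prod⁻¹ * g) = 1
    rw [map_mul, map_inv, map_list_prod, List.map_ofFn, hse, show (⇑(QuotientGroup.mk' N) ∘ s') = s from funext hse', inv_mul_cancel]
  obtain ⟨s'', hs'', he⟩ := absorb N t (fun i => (S i : Subgroup G)) j hNS s' hs' n hnN
  exact ⟨s'', hs'', hgn.trans he⟩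

/-- Let G be a finite solvable group and let S assign to each of t distinct primes, including every prime divisor of the order of G, a Sylow subgroup of G. Then every element of G is a product s_0 s_1 ⋯ s_(t-1) with s_i in S i, the factors taken in the given order. -/
theorem result {G : Type*} [Group G] [Finite G] [Group.IsSolvable G] (t : ℕ) (p : Fin t → ℕ) (hp : ∀ i, (p i).Prime) (hinj : Function.Injective p) (hall : ∀ q : ℕ, q.Prime → q ∣ Nat.card G → ∃ i, p i = q) (S : (i : Fin t) → Sylow (p i) G) : ∀ g : G, ∃ s : (i : Fin t) → G, (∀ i, s i ∈ (S i : Subgroup G)) ∧ g = (List.ofFn s).prod := by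
  exact prod_aux _ G rfl t p hp hall S

end Cfsg.Agent.S0554
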