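import Cfsg.Statements.S0555
import Cfsg.Agent.Lib.Grp.Supersolvable
-- import your own Cfsg.Agent.* helpers here

set_option autoImplicit false
open Cfsg

namespace Cfsg.Agent.S0555

open scoped commutatorElement

/-- Let i ≥ 1. If in the derived series of a group the quotient of the i-th term by the (i+1)-st and the quotient of the (i+1)-st by the (i+2)-nd are both cyclic, then the (i+1)-st and (i+2)-nd terms coincide. -/
theorem result {G : Type*} [Group G] (i : ℕ) (hi : 1 ≤ i) (h₁ : IsCyclic (↥(derivedSeries G i) ⧸ (derivedSeries G (i + 1)).subgroupOf (derivedSeries G i))) (h₂ : IsCyclic (↥(derivedSeries G (i + 1)) ⧸ (derivedSeries G (i + 2)).subgroupOf (derivedSeries G (i + 1)))) : derivedSeries G (i + 1) = derivedSeries G (i + 2) := by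
  have hsucc : ∀ j, derivedSeries G (j + 1) = ⁅derivedSeries G j, derivedSeries G j⁆ := fun j => rfl
  set A := derivedSeries G i with hA
  set B := derivedSeries G (i + 1) with hB
  set C := derivedSeries G (i + 2) with hC
  have hCB : C ≤ B := derivedSeries_antitone G (Nat.le_succ _)
  have hBA : B ≤ A := derivedSeries_antitone G (Nat.le_succ _)
  have hAG : A ≤ commutator G := by
    obtain ⟨j, rfl⟩ := Nat.exists_eq_add_of_le hi
    rw [← derivedSeries_one]
    exact derivedSeries_antitone G (Nat.le_add_right 1 j)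
  set f := QuotientGroup.mk' C with hf
  have hcycB : ∃ b : G, b ∈ B ∧ B.map f = Subgroup.zpowers (f b) := by
    obtain ⟨q, hq⟩ := h₂.exists_generator
    obtain ⟨b, rfl⟩ := QuotientGroup.mk_surjective q
    refine ⟨b, b.2, le_antisymm ?_ (Subgroup.zpowers_le.mpr ⟨b, b.2, rfl⟩)⟩
    rintro _ ⟨x, hx, rfl⟩
    obtain ⟨m, hm⟩ := hq (QuotientGroup.mk ⟨x, hx⟩)
    refine ⟨m, ?_⟩
    simp only at hm ⊢
    rw [← QuotientGroup.mk_zpow, QuotientGroup.eq, Subgroup.mem_subgroupOf] at hm
    rw [← map_zpow, hf, QuotientGroup.mk'_eq_mk']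
    exact ⟨_, hm, by simp⟩
  obtain ⟨b, hbB, hb⟩ := hcycB
  have hBn : (Subgroup.zpowers (f b)).Normal := by
    rw [← hb]; exact (derivedSeries_normal G (i + 1)).map f (QuotientGroup.mk'_surjective C)
  have hAc : ∀ a ∈ A, ∀ x ∈ B, Commute (f a) (f x) := by
    intro a ha x hx
    have h1 : f a ∈ commutator (G ⧸ C) := by
      have : f a ∈ Subgroup.map f (⁅(⊤ : Subgroup G), (⊤ : Subgroup G)⁆ : Subgroup G) := ⟨a, hAG ha, rfl⟩
      rwa [Subgroup.map_commutator, Subgroup.map_top_of_surjective f (QuotientGroup.mk'_surjective C)] at this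
    have h2 := Subgroup.mem_centralizer_singleton_iff.mp
      (Cfsg.Agent.Grp.commutator_le_centralizer_of_zpowers_normal (f b) hBn h1)
    obtain ⟨m, hm⟩ : f x ∈ Subgroup.zpowers (f b) := hb ▸ ⟨x, hx, rfl⟩
    simp only at hm
    rw [← hm]
    exact Commute.zpow_right h2 m
  obtain ⟨q, hq⟩ := h₁.exists_generator
  obtain ⟨a₀, rfl⟩ := QuotientGroup.mk_surjective q
  have hdec : ∀ a ∈ A, ∃ m : ℤ, ∃ x ∈ B, a = (a₀ : G) ^ m * x := by
    intro a ha
    obtain ⟨m, hm⟩ := hq (QuotientGroup.mk ⟨a, ha⟩)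
    simp only at hm
    rw [← QuotientGroup.mk_zpow, QuotientGroup.eq, Subgroup.mem_subgroupOf] at hm
    exact ⟨m, _, hm, by simp⟩
  refine le_antisymm ?_ hCB
  rw [hB, hsucc, Subgroup.commutator_le]
  intro u hu v hv
  obtain ⟨m, x, hx, rfl⟩ := hdec u hu
  obtain ⟨n, y, hy, rfl⟩ := hdec v hv
  rw [← QuotientGroup.eq_one_iff]
  show f ⁅(a₀ : G) ^ m * x, (a₀ : G) ^ n * y⁆ = 1
  rw [map_commutatorElement, commutatorElement_eq_one_iff_commute, map_mul, map_mul, map_zpow, map_zpow]
  have c1 : Commute (f (a₀ : G)) (f x) := hAc _ a₀.2 x hx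
  have c2 : Commute (f (a₀ : G)) (f y) := hAc _ a₀.2 y hy
  have c3 : Commute (f x) (f y) := hAc x (hBA hx) y hy
  exact ((Commute.zpow_zpow (Commute.refl _) m n).mul_right (c2.zpow_left m)).mul_left
    ((c1.symm.zpow_right n).mul_right c3)

end Cfsg.Agent.S0555
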