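import Cfsg.Statements.S0556
import Mathlib
import Cfsg.Agent.Lib.Grp.FrobeniusTheorem
-- import your own Cfsg.Agent.* helpers here

set_option autoImplicit false
open Cfsg

namespace Cfsg.Agent.S0556

set_option linter.style.haveILetI false

universe w

theorem commutator_le_of_sup {G : Type w} [Group G] (A N : Subgroup G) [N.Normal] [IsMulCommutative A]
    (h : A ⊔ N = ⊤) : derivedSeries G 1 ≤ N := by
  rw [derivedSeries_one, commutator_eq_closure, Subgroup.closure_le]
  rintro _ ⟨x, y, rfl⟩
  rw [SetLike.mem_coe, ← QuotientGroup.eq_one_iff, ← QuotientGroup.mk'_apply, map_commutatorElement,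
    commutatorElement_eq_one_iff_mul_comm]
  have key : ∀ g : G, ∃ a ∈ A, QuotientGroup.mk' N g = QuotientGroup.mk' N a := by
    intro g
    obtain ⟨a, ha, n, hn, rfl⟩ := Subgroup.mem_sup_of_normal_right.1 (h ▸ Subgroup.mem_top g)
    exact ⟨a, ha, by simp [(QuotientGroup.eq_one_iff n).2 hn]⟩
  obtain ⟨a, ha, hxa⟩ := key x
  obtain ⟨b, hb, hyb⟩ := key y
  rw [hxa, hyb, ← map_mul, ← map_mul,
    show a * b = b * a from congrArg Subtype.val (mul_comm' (⟨a, ha⟩ : A) ⟨b, hb⟩)]

theorem derived_succ_bot {G : Type w} [Group G] (k : ℕ) {N : Subgroup G} [IsMulCommutative N]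
    (h : derivedSeries G k ≤ N) : derivedSeries G (k + 1) = ⊥ := by
  rw [derivedSeries_succ, Subgroup.commutator_eq_bot_iff_le_centralizer]
  intro x hx y hy
  exact congrArg Subtype.val (mul_comm' (⟨y, h hy⟩ : N) ⟨x, h hx⟩)

theorem metabelian {G : Type w} [Group G] [Finite G] (A : Subgroup G) (hA : IsCoatom A)
    [IsMulCommutative A] (hcore : A.normalCore = ⊥) : derivedSeries G 2 = ⊥ := by
  by_cases hAn : A.Normal
  · have hAb : A = ⊥ := by
      haveI := hAn
      rw [← hcore, Subgroup.normalCore_eq_self]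
    haveI : Nontrivial G := by
      rcases subsingleton_or_nontrivial G with h | h
      · exact absurd (Subgroup.ext fun x => by simp [Subsingleton.elim x 1]) hA.1
      · exact h
    haveI : IsSimpleGroup G := ⟨fun N hN => by
      rcases eq_or_ne N ⊥ with h | h
      · exact Or.inl h
      · exact Or.inr (hA.2 N (hAb ▸ bot_lt_iff_ne_bot.2 h))⟩
    obtain ⟨x, hx⟩ := exists_ne (1 : G)
    have hz : Subgroup.zpowers x = ⊤ := hA.2 _ (hAb ▸ bot_lt_iff_ne_bot.2 (by simpa using hx))
    haveI : IsMulCommutative (⊤ : Subgroup G) := hz ▸ inferInstance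
    exact derived_succ_bot 1 (N := ⊤) le_top
  have hAne : A ≠ ⊥ := fun h => hAn (h ▸ inferInstance)
  have hN : Subgroup.normalizer (A : Set G) = A := by
    refine (hA.le_iff.1 Subgroup.le_normalizer).resolve_left fun h => hAn (Subgroup.normalizer_eq_top_iff.1 h)
  have hfrob : IsFrobeniusComplement A := by
    refine ⟨hAne, hA.1, fun g hg => ?_⟩
    rw [Subgroup.eq_bot_iff_forall]
    intro x hx
    obtain ⟨hx1, hx2⟩ := Subgroup.mem_inf.1 hx
    have hcen : ∀ y, y ∈ A ⊔ A.map (MulAut.conj g).toMonoidHom → y * x = x * y := by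
      have hle : A ⊔ A.map (MulAut.conj g).toMonoidHom ≤ Subgroup.centralizer ({x} : Set G) := by
        refine sup_le ?_ ?_
        · intro y hy
          rw [Subgroup.mem_centralizer_singleton_iff]
          exact congrArg Subtype.val (mul_comm' (⟨y, hy⟩ : A) ⟨x, hx1⟩)
        · rintro _ ⟨a, ha, rfl⟩
          obtain ⟨b, hb, rfl⟩ := hx2
          rw [Subgroup.mem_centralizer_singleton_iff]
          change MulAut.conj g a * MulAut.conj g b = MulAut.conj g b * MulAut.conj g a
          rw [← map_mul, ← map_mul]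
          exact congrArg _ (congrArg Subtype.val (mul_comm' (⟨a, ha⟩ : A) ⟨b, hb⟩))
      exact fun y hy => Subgroup.mem_centralizer_singleton_iff.1 (hle hy)
    have htop : A ⊔ A.map (MulAut.conj g).toMonoidHom = ⊤ := by
      refine hA.2 _ (lt_of_le_of_ne le_sup_left fun he => hg ?_)
      have hle : A.map (MulAut.conj g).toMonoidHom ≤ A := sup_eq_left.1 he.symm
      have heq : A.map (MulAut.conj g).toMonoidHom = A :=
        Subgroup.eq_of_le_of_card_ge hle (by rw [Subgroup.card_map_of_injective (MulAut.conj g).injective])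
      rw [← hN, Subgroup.mem_normalizer_iff]
      intro h
      constructor
      · intro hh; rw [← heq]; exact ⟨h, hh, rfl⟩
      · intro hh
        rw [← heq] at hh
        obtain ⟨a, ha, hae⟩ := hh
        exact (MulAut.conj g).injective (show MulAut.conj g a = MulAut.conj g h from hae) ▸ ha
    have hxc : x ∈ Subgroup.center G :=
      Subgroup.mem_center_iff.2 fun y => hcen y (htop ▸ Subgroup.mem_top y)
    have hzn : (Subgroup.zpowers x).Normal := ⟨fun a ha y => by
      obtain ⟨j, rfl⟩ := ha
      rw [Subgroup.mem_center_iff.1 ((Subgroup.center G).zpow_mem hxc j) y, mul_inv_cancel_right]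
      exact ⟨j, rfl⟩⟩
    haveI := hzn
    have hle := (Subgroup.normal_le_normalCore (N := Subgroup.zpowers x) (H := A)).2
      (Subgroup.zpowers_le.2 hx1)
    rw [hcore, le_bot_iff, Subgroup.zpowers_eq_bot] at hle
    exact hle
  haveI := Fintype.ofFinite G
  obtain ⟨N, -, hNn, hcompl, hnil⟩ := Grp.frobenius_kernel_spec hfrob
  haveI := hNn
  haveI := hnil
  have hNb : N ≠ ⊥ := by
    rintro rfl
    exact hA.1 (by simpa using hcompl.sup_eq_top)
  haveI : Nontrivial N := (Subgroup.nontrivial_iff_ne_bot N).2 hNb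
  set Z := (Subgroup.center N).map N.subtype with hZ
  haveI : Z.Normal := inferInstance
  have hZb : Z ≠ ⊥ := fun h => by
    rw [hZ, Subgroup.map_eq_bot_iff_of_injective _ N.subtype_injective] at h
    exact Group.IsNilpotent.center_ne_bot N h
  have hZN : Z ≤ N := Subgroup.map_subtype_le _
  haveI hZc : IsMulCommutative Z := ⟨⟨fun a b => Subtype.ext (by
    obtain ⟨a', ha', hae⟩ := a.2
    obtain ⟨b', hb', hbe⟩ := b.2
    change (a : G) * b = b * a
    rw [← hae, ← hbe, ← map_mul, ← map_mul, Subgroup.mem_center_iff.1 ha' b'])⟩⟩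
  have hAZ : A ⊔ Z = ⊤ := hA.2 _ (lt_of_le_of_ne le_sup_left fun he => hZb (le_bot_iff.1 (by
    calc Z ≤ A ⊓ N := le_inf (sup_eq_left.1 he.symm) hZN
      _ = ⊥ := hcompl.symm.disjoint.eq_bot)))
  exact derived_succ_bot 1 (N := Z) (commutator_le_of_sup A Z hAZ)

theorem main {G : Type w} [Group G] [Finite G] (A : Subgroup G) (hA : IsCoatom A)
    [IsMulCommutative A] : derivedSeries G 3 = ⊥ := by
  set C := A.normalCore
  have hCA : C ≤ A := A.normalCore_le
  haveI : IsMulCommutative C := ⟨⟨fun a b => Subtype.ext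
    (congrArg (fun z : A => (z : G)) (mul_comm' (⟨a, hCA a.2⟩ : A) ⟨b, hCA b.2⟩))⟩⟩
  let π := QuotientGroup.mk' C
  have hsurj : Function.Surjective π := QuotientGroup.mk'_surjective C
  have hker : π.ker ≤ A := by rw [QuotientGroup.ker_mk']; exact hCA
  have hA' : IsCoatom (A.map π) := by
    refine ⟨fun h => hA.1 ?_, fun K hK => ?_⟩
    · exact ((Subgroup.comap_map_eq_self hker).symm.trans (congrArg (Subgroup.comap π) h)).trans (Subgroup.comap_top π)
    · have h1 : A < K.comap π := by
        exact lt_of_eq_of_lt (Subgroup.comap_map_eq_self hker).symm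
          ((Subgroup.comap_lt_comap_of_surjective hsurj).2 hK)
      rw [← Subgroup.map_comap_eq_self_of_surjective hsurj K, hA.2 _ h1,
        Subgroup.map_top_of_surjective π hsurj]
  haveI : IsMulCommutative (A.map π) := Subgroup.map_isMulCommutative A π
  have hcore : (A.map π).normalCore = ⊥ := by
    have h1 : ((A.map π).normalCore).comap π ≤ A.normalCore := by
      rw [Subgroup.normal_le_normalCore]
      exact (Subgroup.comap_mono (Subgroup.normalCore_le _)).trans_eq (Subgroup.comap_map_eq_self hker)
    rw [← Subgroup.map_comap_eq_self_of_surjective hsurj (A.map π).normalCore, ← le_bot_iff]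
    refine (Subgroup.map_mono h1).trans ?_
    rw [le_bot_iff, Subgroup.map_eq_bot_iff, QuotientGroup.ker_mk']
  have h2 := metabelian (A.map π) hA' hcore
  refine derived_succ_bot 2 (N := C) ?_
  rw [← QuotientGroup.ker_mk' C, ← Subgroup.map_eq_bot_iff, map_derivedSeries_eq hsurj, h2]

/-- If a finite group has a maximal subgroup that is abelian, then the third term of its derived series is trivial (so the group is solvable of derived length at most three). -/
theorem result {G : Type*} [Group G] [Finite G] (A : Subgroup G) (hA : IsCoatom A) [IsMulCommutative A] : derivedSeries G 3 = ⊥ := by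
  exact main A hA

end Cfsg.Agent.S0556
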