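import Cfsg.Statements.S0557
import Mathlib

set_option autoImplicit false
open Cfsg
open scoped commutatorElement

namespace Cfsg.Agent.S0557

/-- Let H be a subgroup of a finite group G with order coprime to its index. If iterating the focal-subgroup construction starting from H reaches the trivial subgroup after finitely many steps, then H has a normal complement in G. -/
theorem result {G : Type*} [Group G] [Finite G] (H : Subgroup G) (hHall : (Nat.card H).Coprime H.index) (n : ℕ) (hfoc : (fun K : Subgroup G => Subgroup.focalSubgroup K)^[n] H = ⊥) : ∃ N : Subgroup G, N.Normal ∧ Subgroup.IsComplement' N H := by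
  classical
  obtain ⟨N, hN, hN'⟩ : ∃ N : Subgroup G, N.Normal ∧ Subgroup.IsComplement' N H := by
    suffices key : ∀ (n : ℕ) (L : Subgroup G) (H : Subgroup G), H ≤ L → (Nat.card H).Coprime (H.relIndex L) →
        (fun K : Subgroup G => Subgroup.focalSubgroup K)^[n] H = ⊥ →
        ∃ N : Subgroup G, N ≤ L ∧ (N.subgroupOf L).Normal ∧ Nat.card N * Nat.card H = Nat.card L ∧ (Nat.card N).Coprime (Nat.card H) by
      obtain ⟨N, -, hNn, hc, hcop⟩ := key n ⊤ H le_top (by rwa [Subgroup.relIndex_top_right]) hfoc
      refine ⟨N, ?_, Subgroup.isComplement'_of_coprime (by rw [hc, Subgroup.card_top]) hcop⟩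
      refine ⟨fun a ha g => ?_⟩
      have := hNn.conj_mem ⟨a, Subgroup.mem_top a⟩ ha ⟨g, Subgroup.mem_top g⟩
      exact this
    intro n
    induction n with
    | zero =>
      intro L H hHL _ hfoc
      simp only [Function.iterate_zero, id_eq] at hfoc
      subst hfoc
      exact ⟨L, le_rfl, by rw [Subgroup.subgroupOf_self]; infer_instance, by rw [Subgroup.card_bot, mul_one], by rw [Subgroup.card_bot]; exact Nat.coprime_one_right _⟩
    | succ n ih =>
      intro L H hHL hcop hfoc
      rw [Function.iterate_succ_apply] at hfoc
      set H' := H.subgroupOf L with hH'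
      have hH'c : Nat.card H' = Nat.card H := Nat.card_congr (Subgroup.subgroupOfEquivOfLe hHL).toEquiv
      have hcop' : (Nat.card H').Coprime H'.index := by rw [hH'c]; exact hcop
      haveI : H'.FiniteIndex := inferInstance
      have hsurj : Function.Surjective H'.transferFocal := by
        intro q
        obtain ⟨m, hm⟩ := exists_pow_eq_self_of_coprime (x := q) (n := H'.index)
          ((hcop'.symm).coprime_dvd_right ((orderOf_dvd_natCard q).trans (Subgroup.card_quotient_dvd_card _)))
        obtain ⟨h, hh⟩ := QuotientGroup.mk'_surjective _ (q ^ m)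
        refine ⟨(h : L), (H'.transferFocal_eq_pow h).trans ?_⟩
        rw [show ((h : ↥H') : ↥H' ⧸ H'.focalSubgroupOf) = q ^ m from hh, ← pow_mul, mul_comm, pow_mul, hm]
      set N1 := H'.transferFocal.ker with hN1
      have hinter : N1 ⊓ H' = H'.focalSubgroup := by
        rw [← H'.map_focalSubgroupOf]
        refine le_antisymm ?_ ?_
        · rintro a ⟨ha1, ha2⟩
          refine ⟨⟨a, ha2⟩, ?_, rfl⟩
          have h1 : H'.transferFocal a = 1 := ha1
          rw [show a = ((⟨a, ha2⟩ : H') : L) from rfl, H'.transferFocal_eq_pow] at h1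
          rw [SetLike.mem_coe, ← QuotientGroup.eq_one_iff]
          refine orderOf_eq_one_iff.mp (Nat.eq_one_of_dvd_coprimes hcop' ?_ (orderOf_dvd_of_pow_eq_one h1))
          exact (orderOf_dvd_natCard _).trans (Subgroup.card_quotient_dvd_card _)
        · rintro _ ⟨a, ha, rfl⟩
          refine ⟨?_, a.2⟩
          show H'.transferFocal (a : L) = 1
          rw [H'.transferFocal_eq_pow, (QuotientGroup.eq_one_iff a).mpr ha, one_pow]
      set K := H'.focalSubgroup.map L.subtype with hK
      set L1 := N1.map L.subtype with hL1
      have hKfoc : K ≤ Subgroup.focalSubgroup H := by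
        rw [hK, Subgroup.focalSubgroup_def, MonoidHom.map_closure, Subgroup.focalSubgroup_def]
        refine Subgroup.closure_mono ?_
        rintro _ ⟨_, ⟨hg, x, hx, u, rfl⟩, rfl⟩
        exact ⟨hg, x, hx, u, map_commutatorElement L.subtype x u⟩
      have hmono : ∀ (i : ℕ) (A B : Subgroup G), A ≤ B →
          (fun K : Subgroup G => Subgroup.focalSubgroup K)^[i] A ≤ (fun K : Subgroup G => Subgroup.focalSubgroup K)^[i] B := by
        intro i
        induction i with
        | zero => exact fun A B h => h
        | succ i ihi =>
          intro A B h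
          rw [Function.iterate_succ_apply, Function.iterate_succ_apply]
          refine ihi _ _ ?_
          rw [Subgroup.focalSubgroup_def, Subgroup.focalSubgroup_def]
          refine Subgroup.closure_mono ?_
          rintro g ⟨hg, x, hx, u, rfl⟩
          exact ⟨h hg, x, h hx, u, rfl⟩
      have hKL1 : K ≤ L1 := Subgroup.map_mono (hinter ▸ inf_le_left)
      have hrel : K.relIndex L1 = H'.focalSubgroup.relIndex N1 := Subgroup.relIndex_map_map_of_injective _ _ L.subtype_injective
      have hL1L : L1 ≤ L := Subgroup.map_subtype_le _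
      have hN1i : N1.index = Nat.card (H' ⧸ H'.focalSubgroupOf) := by
        rw [hN1, Subgroup.index_ker, MonoidHom.range_eq_top.mpr hsurj, Subgroup.card_top]
      have hHcard : Nat.card H' = N1.index * Nat.card K := by
        rw [hN1i, hK, Subgroup.card_map_of_injective L.subtype_injective, ← H'.map_focalSubgroupOf,
          Subgroup.card_map_of_injective H'.subtype_injective]
        exact Subgroup.card_eq_card_quotient_mul_card_subgroup _
      have hcopK : (Nat.card K).Coprime (K.relIndex L1) := by
        have h1 : H'.focalSubgroup.relIndex N1 = H'.index := by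
          have hle : H'.focalSubgroup ≤ N1 := hinter ▸ inf_le_left
          have a1 := Subgroup.card_mul_index (H'.focalSubgroup.subgroupOf N1)
          rw [Nat.card_congr (Subgroup.subgroupOfEquivOfLe hle).toEquiv] at a1
          have a2 := Subgroup.card_mul_index N1
          rw [← a1, ← Subgroup.card_mul_index H', hHcard, hK, Subgroup.card_map_of_injective L.subtype_injective] at a2
          show (H'.focalSubgroup.subgroupOf N1).index = H'.index
          refine Nat.eq_of_mul_eq_mul_left (Nat.mul_pos (Nat.card_pos (α := H'.focalSubgroup)) (Nat.pos_of_ne_zero (Subgroup.index_ne_zero_of_finite (H := N1)))) ?_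
          linarith
        rw [hrel, h1]
        exact Nat.Coprime.coprime_dvd_left (hK ▸ (by
          rw [Subgroup.card_map_of_injective L.subtype_injective]; exact Subgroup.card_dvd_of_le (hinter ▸ inf_le_right))) hcop'
      obtain ⟨N, hNL1, hNn, hNc, hNcop⟩ := ih L1 K hKL1 hcopK (le_bot_iff.mp ((hmono n _ _ hKfoc).trans hfoc.le))
      have hNH : Nat.card N * Nat.card H = Nat.card L := by
        have e : Nat.card L1 = Nat.card N1 := by rw [hL1, Subgroup.card_map_of_injective L.subtype_injective]
        rw [← hH'c, hHcard, ← Subgroup.card_mul_index N1, ← e, ← hNc]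
        ring
      have hNH' : (Nat.card N).Coprime (Nat.card H) := by
        have h1 : Nat.card N = H.relIndex L := by
          refine Nat.eq_of_mul_eq_mul_right (Nat.card_pos (α := H)) ?_
          rw [hNH, ← hH'c, mul_comm]
          exact (Subgroup.card_mul_index H').symm
        rw [h1]; exact hcop.symm
      refine ⟨N, hNL1.trans hL1L, ?_, hNH, hNH'⟩
      refine ⟨fun a ha g => ?_⟩
      have ha' : (a : G) ∈ N := ha
      show (g : G) * a * (g : G)⁻¹ ∈ N
      obtain ⟨a1, ha1, ha1e⟩ := hNL1 ha'
      have hmem : (g : G) * a * (g : G)⁻¹ ∈ L1 := by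
        refine ⟨g * a * g⁻¹, ?_, rfl⟩
        have : a = a1 := Subtype.ext ha1e.symm
        rw [this]
        exact (MonoidHom.normal_ker _).conj_mem a1 ha1 g
      haveI := hNn
      have hidx : Nat.card (L1 ⧸ N.subgroupOf L1) = Nat.card K := by
        have h2 := Subgroup.card_eq_card_quotient_mul_card_subgroup (N.subgroupOf L1)
        rw [Nat.card_congr (Subgroup.subgroupOfEquivOfLe hNL1).toEquiv, ← hNc, mul_comm] at h2
        exact (Nat.eq_of_mul_eq_mul_right Nat.card_pos h2).symm
      suffices h : (⟨_, hmem⟩ : L1) ∈ N.subgroupOf L1 from h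
      rw [← QuotientGroup.eq_one_iff, ← orderOf_eq_one_iff]
      refine Nat.eq_one_of_dvd_coprimes hNcop ?_ (hidx ▸ orderOf_dvd_natCard _)
      refine (orderOf_map_dvd (QuotientGroup.mk' _) _).trans ?_
      rw [Subgroup.orderOf_mk]
      have h3 : orderOf ((g : G) * a * (g : G)⁻¹) = orderOf (a : G) :=
        orderOf_injective (MulAut.conj (g : G)).toMonoidHom (MulAut.conj (g : G)).injective (a : G)
      rw [h3]
      exact Subgroup.orderOf_dvd_natCard _ ha'
  exact ⟨N, hN, hN'⟩

end Cfsg.Agent.S0557
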