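import Cfsg.Statements.S0558
import Mathlib
import Cfsg.Agent.Lib.Grp.Carter
import Cfsg.Agent.Lib.Transfer.Fusion
import Cfsg.Agent.Lib.Transfer.NormalComplement

set_option autoImplicit false
open Cfsg

namespace Cfsg.Agent.S0558

/-- Let H be a subgroup of a finite group G that is not a Sylow subgroup of G for any prime, and suppose that for every prime p dividing the order of H and every Sylow p-subgroup P of H the normalizer of P in G is exactly H. Then some normal subgroup of G is a complement to H. -/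
theorem result {G : Type*} [Group G] [Finite G] (H : Subgroup G) (hnot : ∀ p : ℕ, p.Prime → ∀ P : Sylow p G, (P : Subgroup G) ≠ H) (hnorm : ∀ p : ℕ, p.Prime → p ∣ Nat.card H → ∀ P : Sylow p H, Subgroup.normalizer (((P : Subgroup H).map H.subtype : Subgroup G) : Set G) = H) : ∃ N : Subgroup G, N.Normal ∧ Subgroup.IsComplement' N H := by
  classical
  -- the Sylow subgroups of `H` are Sylow in `G`
  have hsyl : ∀ p : ℕ, p.Prime → p ∣ Nat.card H → ∀ P : Sylow p H, ∃ S : Sylow p G,
      (S : Subgroup G) = (P : Subgroup H).map H.subtype := by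
    intro p hp hpd P
    haveI := Fact.mk hp
    set Pm := (P : Subgroup H).map H.subtype with hPm
    obtain ⟨S, hS⟩ := (P.isPGroup'.map H.subtype).exists_le_sylow
    refine ⟨S, le_antisymm ?_ hS⟩
    have hSH : (S : Subgroup G) ⊓ H ≤ Pm := by
      intro x hx
      have h1 : ((S : Subgroup G) ⊓ H).subgroupOf H = (P : Subgroup H) := P.is_maximal'
        ((S.isPGroup'.to_le inf_le_left).of_equiv (Subgroup.subgroupOfEquivOfLe inf_le_right).symm)
        (fun y hy => ⟨hS ⟨y, hy, rfl⟩, y.2⟩)
      exact ⟨⟨x, hx.2⟩, h1 ▸ (show (⟨x, hx.2⟩ : H) ∈ ((S : Subgroup G) ⊓ H).subgroupOf H from hx), rfl⟩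
    haveI : Group.IsNilpotent (S : Subgroup G) := S.isPGroup'.isNilpotent
    have htop : Pm.subgroupOf (S : Subgroup G) = ⊤ :=
      normalizerCondition_iff_only_full_group_self_normalizing.mp
        (Group.normalizerCondition_of_isNilpotent (G := (S : Subgroup G))) _ (by
        refine le_antisymm (fun x hx => ?_) Subgroup.le_normalizer
        refine hSH ⟨x.2, (hnorm p hp hpd P).le ?_⟩
        rw [Subgroup.mem_normalizer_iff]
        intro y
        constructor
        · intro hy
          exact (Subgroup.mem_normalizer_iff.mp hx ⟨y, hS hy⟩).mp hy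
        · intro hy
          have hyR : y ∈ (S : Subgroup G) := by
            have := mul_mem (mul_mem (inv_mem x.2) (hS hy)) x.2
            simpa [mul_assoc] using this
          exact (Subgroup.mem_normalizer_iff.mp hx ⟨y, hyR⟩).mpr hy)
    exact Subgroup.subgroupOf_eq_top.mp htop
  have hnormal : ∀ p : ℕ, p.Prime → p ∣ Nat.card H → ∀ P : Sylow p H, (P : Subgroup H).Normal := by
    intro p hp hpd P
    have h1 : H ≤ Subgroup.normalizer (((P : Subgroup H).map H.subtype : Subgroup G) : Set G) := (hnorm p hp hpd P).ge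
    have h2 := (Subgroup.normal_subgroupOf_iff_le_normalizer (Subgroup.map_subtype_le (P : Subgroup H))).mpr h1
    rwa [Subgroup.subgroupOf, Subgroup.comap_map_eq_self_of_injective H.subtype_injective] at h2
  have hnil : Group.IsNilpotent H := by
    refine ((Group.isNilpotent_of_finite_tfae (G := H)).out 3 0).mp fun p hp P => ?_
    haveI := hp
    by_cases hpd : p ∣ Nat.card H
    · exact hnormal p hp.out hpd P
    · have : (P : Subgroup H) = ⊥ := by
        rw [← Subgroup.card_eq_one, P.card_eq_multiplicity, Nat.factorization_eq_zero_of_not_dvd hpd, pow_zero]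
      rw [this]; infer_instance
  have htwo : ∀ p : ℕ, p.Prime → p ∣ Nat.card H → ∃ q : ℕ, q.Prime ∧ q ∣ Nat.card H ∧ q ≠ p := by
    intro p hp hpd
    by_contra hne
    push Not at hne
    haveI := Fact.mk hp
    obtain ⟨P⟩ : Nonempty (Sylow p H) := inferInstance
    obtain ⟨S, hS⟩ := hsyl p hp hpd P
    have hH : IsPGroup p H := IsPGroup.of_card (n := (Nat.card H).primeFactorsList.length)
      (Nat.eq_prime_pow_of_unique_prime_dvd Nat.card_pos.ne' fun {q} hq hqd => hne q hq hqd)
    have hPtop : (P : Subgroup H) = ⊤ := (P.is_maximal' (hH.to_subgroup ⊤) le_top).symm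
    exact hnot p hp S (by rw [hS, hPtop, ← MonoidHom.range_eq_map, Subgroup.range_subtype])
  have hcompl : ∀ p : ℕ, p.Prime → p ∣ Nat.card H → Cfsg.HasNormalPComplement p G := by
    intro p hp hpd
    haveI := Fact.mk hp
    obtain ⟨P⟩ : Nonempty (Sylow p H) := inferInstance
    obtain ⟨S, hS⟩ := hsyl p hp hpd P
    refine Agent.Transfer.hasNormalPComplement_of_control S ?_
    rintro x hx y hy ⟨g, hg⟩
    rw [hS] at hx hy ⊢
    set Pm := (P : Subgroup H).map H.subtype with hPm
    obtain ⟨E, hEH, hEn, hEc, -, hEel⟩ := Agent.Grp.Carter.exists_pPrime_part hnil p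
    have hPH : Pm ≤ H := Subgroup.map_subtype_le _
    have hPn : H ≤ Subgroup.normalizer (Pm : Set G) := (hnorm p hp hpd P).ge
    have hcomm : ∀ u ∈ E, ∀ v ∈ Pm, u * v = v * u := by
      intro u hu v hv
      have h1 : u * v * u⁻¹ * v⁻¹ ∈ Pm := mul_mem ((Subgroup.mem_normalizer_iff.mp (hPn (hEH hu)) v).mp hv) (inv_mem hv)
      have h2 : u * v * u⁻¹ * v⁻¹ ∈ E := by
        rw [show u * v * u⁻¹ * v⁻¹ = u * (v * u⁻¹ * v⁻¹) by group]
        exact mul_mem hu ((Subgroup.mem_normalizer_iff.mp (hEn (hPH hv)) _).mp (inv_mem hu))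
      obtain ⟨l, hl⟩ := IsPGroup.iff_card.mp (P.isPGroup'.map H.subtype)
      have h3 := (Subgroup.inf_eq_bot_of_coprime (H := Pm) (K := E) (by rw [hPm, hl]; exact hEc.symm.pow_left l)).le
        (Subgroup.mem_inf.mpr ⟨h1, h2⟩)
      rw [Subgroup.mem_bot, mul_inv_eq_one, mul_inv_eq_iff_eq_mul] at h3
      exact h3
    obtain ⟨q, hq, hqd, hqp⟩ := htwo p hp hpd
    haveI := Fact.mk hq
    obtain ⟨Q⟩ : Nonempty (Sylow q H) := inferInstance
    obtain ⟨T, hT⟩ := hsyl q hq hqd Q
    have hTE : (T : Subgroup G) ≤ E := fun u hu => by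
      refine hEel u ((hT ▸ Subgroup.map_subtype_le _ : (T : Subgroup G) ≤ H) hu) ?_
      obtain ⟨k, hk⟩ := T.isPGroup' ⟨u, hu⟩
      exact (((Nat.coprime_primes hq hp).mpr hqp).pow_left k).coprime_dvd_left
        (orderOf_dvd_of_pow_eq_one (congrArg Subtype.val hk))
    set C := Subgroup.centralizer ({y} : Set G) with hC
    have hT1 : (T : Subgroup G) ≤ C := fun u hu => Subgroup.mem_centralizer_singleton_iff.mpr (hcomm u (hTE hu) y hy)
    have hT2 : ((g • T : Sylow q G) : Subgroup G) ≤ C := by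
      rw [Sylow.coe_subgroup_smul]
      rintro _ ⟨u, hu, rfl⟩
      refine Subgroup.mem_centralizer_singleton_iff.mpr ?_
      show g * u * g⁻¹ * y = y * (g * u * g⁻¹)
      rw [← hg, show g * u * g⁻¹ * (g * x * g⁻¹) = g * (u * x) * g⁻¹ by group, hcomm u (hTE hu) x hx]
      group
    obtain ⟨c, hc⟩ := MulAction.exists_smul_eq C ((g • T).subtype hT2) (T.subtype hT1)
    have hz : (c : G) * g ∈ H := by
      rw [← hnorm q hq hqd Q, ← hT, Agent.Grp.mem_normalizer_iff_smul]
      have h1 := congrArg (fun R : Sylow q C => (R : Subgroup C).map C.subtype) hc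
      simp only [Sylow.coe_subgroup_smul, Sylow.coe_subtype, Subgroup.map_subgroupOf_eq_of_le hT1] at h1
      rw [← Agent.Grp.conj_smul_map, Subgroup.map_subgroupOf_eq_of_le (by rwa [Sylow.coe_subgroup_smul] at hT2)] at h1
      rw [← Agent.Grp.conj_smul_conj_smul]
      exact h1
    have hzx : (c : G) * g * x * ((c : G) * g)⁻¹ = y := by
      have h1 := Subgroup.mem_centralizer_singleton_iff.mp c.2
      calc (c : G) * g * x * ((c : G) * g)⁻¹ = (c : G) * (g * x * g⁻¹) * (c : G)⁻¹ := by group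
        _ = _ := by rw [hg, h1, mul_inv_cancel_right]
    have h0 : ((c : G) * g) ^ (p ^ (Nat.card G).factorization p * (Nat.card G / p ^ (Nat.card G).factorization p)) = 1 := by
      rw [Nat.mul_div_cancel' (Nat.ordProj_dvd _ _)]; exact pow_card_eq_one'
    obtain ⟨a, b, ⟨i, hi⟩, ⟨j, hj⟩, ha, hb, hab⟩ :=
      Agent.Grp.exists_pow_decomp ((Nat.coprime_ordCompl hp Nat.card_pos.ne').pow_left _) h0
    have haH : a ∈ H := hi ▸ zpow_mem hz i
    have hbE : b ∈ E := hEel b (hj ▸ zpow_mem hz j)
      (((Nat.coprime_ordCompl hp Nat.card_pos.ne').symm).coprime_dvd_left (orderOf_dvd_of_pow_eq_one hb))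
    have haP : a ∈ Pm := by
      haveI := hnormal p hp hpd P
      have h1 : IsPGroup p ↥(Subgroup.zpowers (⟨a, haH⟩ : H)) := by
        obtain ⟨k, -, hk⟩ := (Nat.dvd_prime_pow hp).mp (orderOf_dvd_of_pow_eq_one ha)
        exact IsPGroup.of_card (n := k) (by rw [Nat.card_zpowers, Subgroup.orderOf_mk, hk])
      have h2 := P.is_maximal' (IsPGroup.to_sup_of_normal_right h1 P.isPGroup') le_sup_right
      exact ⟨⟨a, haH⟩, h2 ▸ Subgroup.mem_sup_left (Subgroup.mem_zpowers _), rfl⟩
    refine ⟨a, haP, ?_⟩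
    rw [← hzx, hab, show a * b * x * (a * b)⁻¹ = a * (b * x * b⁻¹) * a⁻¹ by group, hcomm b hbE x hx, mul_inv_cancel_right]
  set F : Finset ℕ := (Nat.card H).primeFactors
  set N : Subgroup G := ⨅ p : {p : ℕ // p.Prime ∧ p ∣ Nat.card H}, Cfsg.pResidual (p : ℕ) G with hN
  have hres : ∀ p ∈ F, (Cfsg.pResidual p G).index = p ^ (Nat.card H).factorization p := by
    intro p hp
    obtain ⟨hp1, hp2, -⟩ := Nat.mem_primeFactors.mp hp
    haveI := Fact.mk hp1
    obtain ⟨M, hMn, hM, k, hk⟩ := Agent.Transfer.hasNormalPComplement_iff_exists.mp (hcompl p hp1 hp2)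
    rw [← Agent.Transfer.eq_pResidual hM hk]
    obtain ⟨P⟩ : Nonempty (Sylow p H) := inferInstance
    obtain ⟨S, hS⟩ := hsyl p hp1 hp2 P
    rw [(Agent.Transfer.isComplement'_sylow S hM hk).symm.index_eq_card, hS,
      Subgroup.card_map_of_injective H.subtype_injective, P.card_eq_multiplicity]
  have hidx : ∀ B : Finset ℕ, B ⊆ F → (B.inf fun p => Cfsg.pResidual p G).index = ∏ p ∈ B, p ^ (Nat.card H).factorization p := by
    intro B hB
    induction B using Finset.induction_on with
    | empty => simp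
    | insert s B hs ih =>
      rw [Finset.insert_subset_iff] at hB
      rw [Finset.inf_insert, Finset.prod_insert hs, ← hres s hB.1, ← ih hB.2]
      refine Agent.Grp.HallConv.index_inf_of_coprime ?_
      rw [ih hB.2, hres s hB.1]
      exact Nat.Coprime.prod_right fun q hq => Nat.coprime_pow_primes _ _ (Nat.mem_primeFactors.mp hB.1).1
        (Nat.mem_primeFactors.mp (hB.2 hq)).1 fun e => hs (e ▸ hq)
  have hNF : N = F.inf fun p => Cfsg.pResidual p G := by
    refine le_antisymm (Finset.le_inf fun p hp => ?_) (le_iInf fun p => Finset.inf_le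
      (Nat.mem_primeFactors.mpr ⟨p.2.1, p.2.2, Nat.card_pos.ne'⟩))
    obtain ⟨hp1, hp2, -⟩ := Nat.mem_primeFactors.mp hp
    exact iInf_le (fun p : {p : ℕ // p.Prime ∧ p ∣ Nat.card H} => Cfsg.pResidual (p : ℕ) G) ⟨p, hp1, hp2⟩
  have hNidx : N.index = Nat.card H := by
    rw [hNF, hidx F (Finset.Subset.refl _)]
    conv_rhs => rw [← Nat.prod_factorization_pow_eq_self (Nat.card_pos (α := H)).ne']
    rfl
  refine ⟨N, Subgroup.normal_iInf_normal fun p => inferInstance,
    Subgroup.isComplement'_of_coprime (by rw [← hNidx, N.card_mul_index]) (Nat.coprime_of_dvd fun q hq hqN hqH => ?_)⟩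
  haveI := Fact.mk hq
  exact Agent.Transfer.hasNormalPComplement_iff_not_dvd.mp (hcompl q hq hqH) (hqN.trans (Subgroup.card_dvd_of_le
    (iInf_le (fun p : {p : ℕ // p.Prime ∧ p ∣ Nat.card H} => Cfsg.pResidual (p : ℕ) G) ⟨q, hq, hqH⟩)))

end Cfsg.Agent.S0558
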