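import Cfsg.Statements.S0560
import Cfsg.Agent.Lib.Grp.Coprime
-- import your own Cfsg.Agent.* helpers here

set_option autoImplicit false
open Pointwise
open Cfsg

namespace Cfsg.Agent.S0560

open scoped Pointwise

/-- Let the finite group G be the product HK of two subgroups and p a prime. Then there are Sylow p-subgroups P of H and Q of K and a Sylow p-subgroup R of G whose underlying set is the product set of P and Q. -/
theorem result {G : Type*} [Group G] [Finite G] (H K : Subgroup G) (hHK : ∀ g : G, ∃ h ∈ H, ∃ k ∈ K, g = h * k) (p : ℕ) [Fact p.Prime] : ∃ (P : Sylow p H) (Q : Sylow p K) (R : Sylow p G), ((R : Subgroup G) : Set G) = (((P : Subgroup H).map H.subtype : Subgroup G) : Set G) * (((Q : Subgroup K).map K.subtype : Subgroup G) : Set G) := by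
  have hp : p.Prime := Fact.out
  obtain ⟨P₀⟩ : Nonempty (Sylow p H) := Sylow.nonempty
  obtain ⟨Q₀⟩ : Nonempty (Sylow p K) := Sylow.nonempty
  obtain ⟨R₁, hR₁⟩ := (P₀.isPGroup'.map H.subtype).exists_le_sylow
  obtain ⟨R₂, hR₂⟩ := (Q₀.isPGroup'.map K.subtype).exists_le_sylow
  obtain ⟨g, hg⟩ := MulAction.exists_smul_eq G R₂ R₁
  obtain ⟨h, hh, k, hk, rfl⟩ := hHK g
  refine ⟨(⟨h, hh⟩ : H)⁻¹ • P₀, (⟨k, hk⟩ : K) • Q₀, h⁻¹ • R₁, ?_⟩
  set P := (((⟨h, hh⟩ : H)⁻¹ • P₀ : Sylow p H) : Subgroup H).map H.subtype with hP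
  set Q := (((⟨k, hk⟩ : K) • Q₀ : Sylow p K) : Subgroup K).map K.subtype with hQ
  set R := ((h⁻¹ • R₁ : Sylow p G) : Subgroup G) with hR
  have hPR : P ≤ R := by
    rw [hP, hR, Sylow.coe_subgroup_smul, Sylow.coe_subgroup_smul, ← Cfsg.Agent.Grp.conj_smul_map]
    exact Subgroup.pointwise_smul_le_pointwise_smul_iff.mpr hR₁
  have hQR : Q ≤ R := by
    have e : h⁻¹ • R₁ = k • R₂ := by rw [← hg, smul_smul, inv_mul_cancel_left]
    rw [hQ, hR, e, Sylow.coe_subgroup_smul, Sylow.coe_subgroup_smul, ← Cfsg.Agent.Grp.conj_smul_map]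
    exact Subgroup.pointwise_smul_le_pointwise_smul_iff.mpr hR₂
  have hPH : P ≤ H := Subgroup.map_subtype_le _
  have hQK : Q ≤ K := Subgroup.map_subtype_le _
  have hPc : Nat.card P = p ^ (Nat.card H).factorization p := by
    rw [hP, Subgroup.card_map_of_injective (Subgroup.subtype_injective H), Sylow.card_eq_multiplicity]
  have hQc : Nat.card Q = p ^ (Nat.card K).factorization p := by
    rw [hQ, Subgroup.card_map_of_injective (Subgroup.subtype_injective K), Sylow.card_eq_multiplicity]
  have hRc : Nat.card R = p ^ (Nat.card G).factorization p := Sylow.card_eq_multiplicity _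
  have hHKc : Nat.card H * Nat.card K = Nat.card G * Nat.card ↥(H ⊓ K) := by
    have hsurj : Function.Surjective (fun u : H => ((u : G) : G ⧸ K)) := by
      intro q
      obtain ⟨z, rfl⟩ := QuotientGroup.mk_surjective q
      obtain ⟨a, ha, b, hb, rfl⟩ := hHK z
      exact ⟨⟨a, ha⟩, QuotientGroup.eq.mpr (by simpa using hb)⟩
    have hb : K.relIndex H = K.index := by
      refine le_antisymm ?_ ?_
      · exact Subgroup.relIndex_top_right K ▸ Subgroup.relIndex_le_of_le_right le_top (by rw [Subgroup.relIndex_top_right]; exact Subgroup.FiniteIndex.index_ne_zero)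
      · rw [Subgroup.index_eq_card, Subgroup.relIndex, Subgroup.index_eq_card]
        refine Nat.card_le_card_of_surjective (fun q : H ⧸ K.subgroupOf H => Quotient.liftOn' q (fun u : H => ((u : G) : G ⧸ K)) fun a b hab => ?_) fun q => ?_
        · rw [QuotientGroup.leftRel_apply, Subgroup.mem_subgroupOf] at hab
          exact QuotientGroup.eq.mpr (by simpa using hab)
        · obtain ⟨u, hu⟩ := hsurj q
          exact ⟨QuotientGroup.mk u, hu⟩
    rw [← Cfsg.Agent.Grp.relIndex_mul_card_inf H K, hb, ← Subgroup.card_mul_index K]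
    ring
  have hfac : (Nat.card H).factorization p + (Nat.card K).factorization p =
      (Nat.card G).factorization p + (Nat.card ↥(H ⊓ K)).factorization p := by
    have := congrArg (fun n => Nat.factorization n p) hHKc
    rw [Nat.factorization_mul (Nat.card_pos (α := H)).ne' (Nat.card_pos (α := K)).ne',
      Nat.factorization_mul (Nat.card_pos (α := G)).ne' (Nat.card_pos (α := ↥(H ⊓ K))).ne'] at this
    simpa only [Finsupp.add_apply] using this
  obtain ⟨c, hc⟩ := IsPGroup.iff_card.mp ((IsPGroup.of_card hPc).to_le (inf_le_left : P ⊓ Q ≤ P))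
  have hcle : c ≤ (Nat.card ↥(H ⊓ K)).factorization p :=
    (hp.pow_dvd_iff_le_factorization Nat.card_pos.ne').mp (hc ▸ Subgroup.card_dvd_of_le (inf_le_inf hPH hQK))
  set emb := Subgroup.quotientSubgroupOfEmbeddingOfLE Q hPR
  have hbij : Function.Bijective emb := by
    refine emb.injective.bijective_of_nat_card_le ?_
    rw [← Subgroup.index_eq_card, ← Subgroup.index_eq_card]
    show Q.relIndex R ≤ Q.relIndex P
    have h1 := Cfsg.Agent.Grp.card_mul_relIndex hQR
    have h2 := Cfsg.Agent.Grp.relIndex_mul_card_inf P Q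
    rw [hc, hPc] at h2
    rw [hQc, hRc] at h1
    refine Nat.le_of_mul_le_mul_left ?_ (pow_pos hp.pos (c + (Nat.card K).factorization p))
    calc p ^ (c + (Nat.card K).factorization p) * Q.relIndex R
        = p ^ c * p ^ (Nat.card G).factorization p := by rw [pow_add, mul_assoc, h1]
      _ ≤ p ^ (Nat.card H).factorization p * p ^ (Nat.card K).factorization p := by
          rw [← pow_add, ← pow_add]; exact Nat.pow_le_pow_right hp.pos (by omega)
      _ = _ := by rw [← h2, pow_add]; ring
  ext z
  constructor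
  · intro hz
    obtain ⟨q, hq⟩ := hbij.2 (QuotientGroup.mk ⟨z, hz⟩)
    induction q using QuotientGroup.induction_on with
    | _ u =>
      rw [Subgroup.quotientSubgroupOfEmbeddingOfLE_apply_mk, QuotientGroup.eq] at hq
      exact ⟨u, u.2, (u : G)⁻¹ * z, hq, by group⟩
  · rintro ⟨a, ha, b, hb, rfl⟩
    exact R.mul_mem (hPR ha) (hQR hb)

end Cfsg.Agent.S0560
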