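import Cfsg.Statements.S0561
import Mathlib
import Cfsg.Agent.Lib.Grp.HallSystemParts

set_option autoImplicit false
open Pointwise
open Cfsg

namespace Cfsg.Agent.S0561

/-- Let the finite solvable group G be the product HK of subgroups, and let A be normal in H and B normal in K, where A and B are Hall subgroups of G (order coprime to index). Then for all x, y the product set of xAx⁻¹ and yBy⁻¹ is a subgroup of G. -/
theorem result {G : Type*} [Group G] [Finite G] [Group.IsSolvable G] (H K A B : Subgroup G) (hHK : ∀ g : G, ∃ h ∈ H, ∃ k ∈ K, g = h * k) (hA : A ≤ H) (hAn : (A.subgroupOf H).Normal) (hB : B ≤ K) (hBn : (B.subgroupOf K).Normal) (hAh : (Nat.card A).Coprime A.index) (hBh : (Nat.card B).Coprime B.index) (x y : G) : ∃ S : Subgroup G, (S : Set G) = ((MulAut.conj x • A : Subgroup G) : Set G) * ((MulAut.conj y • B : Subgroup G) : Set G) := by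
  obtain ⟨K0, hK0⟩ := Agent.Grp.HallSys.exists_system (G := G)
  classical
  obtain ⟨CA, ga, hga⟩ := Agent.Grp.HallSys.exists_conj_part hK0 hAh
  obtain ⟨CB, gb, hgb⟩ := Agent.Grp.HallSys.exists_conj_part hK0 hBh
  set U := Agent.Grp.HallSys.part K0 CA
  set V := Agent.Grp.HallSys.part K0 CB
  -- reduce the pair of conjugates to one fixed pair
  have key : ∀ x y : G, ∃ g : G, MulAut.conj x • A = MulAut.conj g • A ∧ MulAut.conj y • B = MulAut.conj g • B := by
    intro x y
    obtain ⟨h, hh, k, hk, e⟩ := hHK (x⁻¹ * y)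
    refine ⟨x * h, ?_, ?_⟩
    · rw [← Agent.Grp.conj_smul_conj_smul, Agent.Grp.mem_normalizer_iff_smul.mp
        ((Subgroup.normal_subgroupOf_iff_le_normalizer hA).mp hAn hh)]
    · rw [show y = x * h * k by rw [mul_assoc, ← e, mul_inv_cancel_left], ← Agent.Grp.conj_smul_conj_smul _ k,
        Agent.Grp.mem_normalizer_iff_smul.mp ((Subgroup.normal_subgroupOf_iff_le_normalizer hB).mp hBn hk)]
  obtain ⟨g, hg1, hg2⟩ := key x y
  obtain ⟨g0, h1, h2⟩ := key ga⁻¹ gb⁻¹
  have hU : MulAut.conj g0 • A = U := by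
    rw [← h1, ← hga, Agent.Grp.conj_smul_conj_smul, inv_mul_cancel, map_one, one_smul]
  have hV : MulAut.conj g0 • B = V := by
    rw [← h2, ← hgb, Agent.Grp.conj_smul_conj_smul, inv_mul_cancel, map_one, one_smul]
  refine ⟨MulAut.conj (g * g0⁻¹) • Agent.Grp.HallSys.part K0 (CA ∪ CB), ?_⟩
  rw [hg1, hg2, show MulAut.conj g • A = MulAut.conj (g * g0⁻¹) • U by
      rw [← hU, Agent.Grp.conj_smul_conj_smul, inv_mul_cancel_right],
    show MulAut.conj g • B = MulAut.conj (g * g0⁻¹) • V by
      rw [← hV, Agent.Grp.conj_smul_conj_smul, inv_mul_cancel_right],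
    Subgroup.coe_pointwise_smul, Subgroup.coe_pointwise_smul, Subgroup.coe_pointwise_smul,
    ← Agent.Grp.HallSys.part_mul_part hK0 CA CB]
  exact smul_mul' (MulAut.conj (g * g0⁻¹)) (U : Set G) (V : Set G)

end Cfsg.Agent.S0561
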