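import Cfsg.Statements.S0562
import Cfsg.Agent.Lib.Grp.Coprime
-- import your own Cfsg.Agent.* helpers here

set_option autoImplicit false
open Cfsg

namespace Cfsg.Agent.S0562

open scoped Pointwise

/-- Let the finite group G be the product HK of subgroups, A normal in H, B normal in K, and L the normalizer of the subgroup generated by A and B. Then every element of L is a product of an element of L ∩ H and an element of L ∩ K. -/
theorem result {G : Type*} [Group G] [Finite G] (H K A B : Subgroup G) (hHK : ∀ g : G, ∃ h ∈ H, ∃ k ∈ K, g = h * k) (hA : A ≤ H) (hAn : (A.subgroupOf H).Normal) (hB : B ≤ K) (hBn : (B.subgroupOf K).Normal) : ∀ g ∈ Subgroup.normalizer ((A ⊔ B : Subgroup G) : Set G), ∃ h ∈ Subgroup.normalizer ((A ⊔ B : Subgroup G) : Set G) ⊓ H, ∃ k ∈ Subgroup.normalizer ((A ⊔ B : Subgroup G) : Set G) ⊓ K, g = h * k := by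
  intro g hg
  obtain ⟨h, hh, k, hk, rfl⟩ := hHK g
  set N := A ⊔ B
  rw [Cfsg.Agent.Grp.mem_normalizer_iff_smul, ← Cfsg.Agent.Grp.conj_smul_conj_smul] at hg
  have hA' := Cfsg.Agent.Grp.normalizer_le_smul ((Subgroup.normal_subgroupOf_iff_le_normalizer hA).mp hAn) (H.inv_mem hh)
  have hB' := Cfsg.Agent.Grp.normalizer_le_smul ((Subgroup.normal_subgroupOf_iff_le_normalizer hB).mp hBn) hk
  have e : MulAut.conj k • N = MulAut.conj h⁻¹ • N := by
    have := congrArg (fun Z => MulAut.conj h⁻¹ • Z) hg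
    simpa only [Cfsg.Agent.Grp.conj_smul_conj_smul, inv_mul_cancel_left, inv_mul_cancel, map_one, one_smul] using this
  have hle : N ≤ MulAut.conj k • N := by
    refine sup_le ?_ ?_
    · rw [e]; exact hA'.ge.trans (Subgroup.pointwise_smul_le_pointwise_smul_iff.mpr le_sup_left)
    · exact hB'.ge.trans (Subgroup.pointwise_smul_le_pointwise_smul_iff.mpr le_sup_right)
  have hkN : k ∈ Subgroup.normalizer (N : Set G) := by
    rw [Cfsg.Agent.Grp.mem_normalizer_iff_smul]
    exact (Subgroup.eq_of_le_of_card_ge hle (Cfsg.Agent.Grp.card_conj_smul _ _).le).symm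
  refine ⟨h, ⟨?_, hh⟩, k, ⟨hkN, hk⟩, rfl⟩
  rw [Cfsg.Agent.Grp.mem_normalizer_iff_smul] at hkN
  rw [hkN] at hg
  exact Cfsg.Agent.Grp.mem_normalizer_iff_smul.mpr hg

end Cfsg.Agent.S0562
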