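import Cfsg.Statements.S0566
import Mathlib
import Cfsg.Agent.Lib.Grp.SchurZassenhaus

set_option autoImplicit false
open Pointwise
open Cfsg

namespace Cfsg.Agent.S0566

/-- Let A and B be nontrivial subgroups of a finite group G such that for every x the product set of A and xBx⁻¹ is a proper subgroup of G. Then there is a proper normal subgroup of G containing A or containing B. -/
theorem result {G : Type*} [Group G] [Finite G] (A B : Subgroup G) (hA : A ≠ ⊥) (hB : B ≠ ⊥) (h : ∀ x : G, ∃ S : Subgroup G, S ≠ ⊤ ∧ (S : Set G) = (A : Set G) * ((MulAut.conj x • B : Subgroup G) : Set G)) : ∃ N : Subgroup G, N.Normal ∧ N ≠ ⊤ ∧ (A ≤ N ∨ B ≤ N) := by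
  suffices key : ∀ (k : ℕ) (A : Subgroup G), Nat.card G - Nat.card A = k → A ≠ ⊥ →
      (∀ x : G, ∃ S : Subgroup G, S ≠ ⊤ ∧ (S : Set G) = (A : Set G) * ((MulAut.conj x • B : Subgroup G) : Set G)) →
      ∃ N : Subgroup G, N.Normal ∧ N ≠ ⊤ ∧ (A ≤ N ∨ B ≤ N) from key _ A rfl hA h
  clear h hA A
  intro k
  induction k using Nat.strong_induction_on with
  | _ k ih =>
  intro A hk hA h
  have hAtop : A ≠ ⊤ := by
    intro e
    obtain ⟨S, hS, hSe⟩ := h 1
    refine hS ((Subgroup.eq_top_iff' S).mpr fun g => ?_)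
    rw [← SetLike.mem_coe, hSe]
    exact ⟨g, e ▸ Subgroup.mem_top g, 1, one_mem _, mul_one g⟩
  by_cases hn : ∀ x : G, MulAut.conj x • B ≤ Subgroup.normalizer (A : Set G)
  · have hle : Subgroup.normalClosure (B : Set G) ≤ Subgroup.normalizer (A : Set G) := by
      refine (Subgroup.closure_le _).2 fun y hy => ?_
      obtain ⟨b, hb, hc⟩ := Group.mem_conjugatesOfSet_iff.1 hy
      obtain ⟨g, rfl⟩ := isConj_iff.1 hc
      exact hn g (Agent.Grp.mem_smul_conj.mpr (by simpa [mul_assoc] using hb))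
    by_cases ht : Subgroup.normalClosure (B : Set G) = ⊤
    · exact ⟨A, Subgroup.normalizer_eq_top_iff.mp (top_le_iff.mp (ht ▸ hle)), hAtop, Or.inl le_rfl⟩
    · exact ⟨_, inferInstance, ht, Or.inr Subgroup.le_normalClosure⟩
  push Not at hn
  obtain ⟨x, hx⟩ := hn
  set C := MulAut.conj x • B with hC
  obtain ⟨S, hS, hSe⟩ := h x
  set A1 := ⨆ c : C, MulAut.conj (c : G) • A with hA1
  have hAS : A ≤ S := fun a ha => by
    rw [← SetLike.mem_coe, hSe]; exact ⟨a, ha, 1, one_mem _, mul_one a⟩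
  have hCS : C ≤ S := fun c hc => by
    rw [← SetLike.mem_coe, hSe]; exact ⟨1, one_mem _, c, hc, one_mul c⟩
  have hA1S : A1 ≤ S := iSup_le fun c => by
    rw [← Agent.Grp.conj_smul_eq_self_of_mem (hCS c.2)]
    exact Subgroup.pointwise_smul_le_pointwise_smul_iff.mpr hAS
  have hAA1 : A < A1 := by
    refine lt_of_le_of_ne (le_iSup_of_le (1 : C) (by simp)) fun e => hx fun c hc => ?_
    rw [Agent.Grp.mem_normalizer_iff_smul]
    refine Subgroup.eq_of_le_of_card_ge ?_ (Agent.Grp.card_conj_smul c A).ge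
    conv_rhs => rw [e]
    exact le_iSup (fun c : C => MulAut.conj (c : G) • A) ⟨c, hc⟩
  -- the new subgroup still permutes with all conjugates of `B`
  have hperm : ∀ y : G, ∀ w ∈ A1, ∀ b ∈ MulAut.conj y • B, ∃ b' ∈ MulAut.conj y • B, ∃ w' ∈ A1, w * b = b' * w' := by
    intro y w hw
    refine Subgroup.iSup_induction (fun c : C => MulAut.conj (c : G) • A)
      (C := fun w => ∀ b ∈ MulAut.conj y • B, ∃ b' ∈ MulAut.conj y • B, ∃ w' ∈ A1, w * b = b' * w') hw ?_ ?_ ?_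
    · intro c u hu b hb
      obtain ⟨T, -, hTe⟩ := h ((c : G)⁻¹ * y)
      have hu' := Agent.Grp.mem_smul_conj.mp hu
      have hb' : (c : G)⁻¹ * b * (c : G) ∈ MulAut.conj ((c : G)⁻¹ * y) • B := by
        rw [Agent.Grp.mem_smul_conj] at hb ⊢
        simpa [mul_assoc] using hb
      have h1 : ((c : G)⁻¹ * u * (c : G)) * ((c : G)⁻¹ * b * (c : G)) ∈ (T : Set G) := by
        rw [hTe]; exact ⟨_, hu', _, hb', rfl⟩
      have h2 := T.inv_mem h1
      rw [← SetLike.mem_coe, hTe] at h2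
      obtain ⟨a, ha, d, hd, e⟩ := h2
      refine ⟨(c : G) * d⁻¹ * (c : G)⁻¹, ?_, (c : G) * a⁻¹ * (c : G)⁻¹, ?_, ?_⟩
      · rw [SetLike.mem_coe, Agent.Grp.mem_smul_conj] at hd
        rw [Agent.Grp.mem_smul_conj]
        simpa [mul_assoc] using inv_mem hd
      · refine le_iSup (fun c : C => MulAut.conj (c : G) • A) c (Agent.Grp.mem_smul_conj.mpr ?_)
        simpa [mul_assoc] using inv_mem ha
      · have e2 : d⁻¹ * a⁻¹ = (c : G)⁻¹ * u * (c : G) * ((c : G)⁻¹ * b * (c : G)) := by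
          rw [← mul_inv_rev]; exact inv_eq_iff_eq_inv.mpr e
        calc u * b = (c : G) * ((c : G)⁻¹ * u * (c : G) * ((c : G)⁻¹ * b * (c : G))) * (c : G)⁻¹ := by group
          _ = _ := by rw [← e2]; group
    · intro b hb
      exact ⟨b, hb, 1, one_mem _, by group⟩
    · intro u v hu hv b hb
      obtain ⟨b1, hb1, v', hv', e1⟩ := hv b hb
      obtain ⟨b2, hb2, u', hu', e2⟩ := hu b1 hb1
      exact ⟨b2, hb2, u' * v', mul_mem hu' hv', by rw [mul_assoc, e1, ← mul_assoc, e2, mul_assoc]⟩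
  refine (ih _ ?_ A1 rfl (fun e => hA (le_bot_iff.mp (e ▸ hAA1.le))) fun y => ?_).imp fun N hN => ⟨hN.1, hN.2.1, hN.2.2.imp_left hAA1.le.trans⟩
  · have : Nat.card A < Nat.card A1 := lt_of_not_ge fun hle => hAA1.ne (Subgroup.eq_of_le_of_card_ge hAA1.le hle)
    have := Subgroup.card_le_card_group A1
    omega
  have hset : ((A1 ⊔ MulAut.conj y • B : Subgroup G) : Set G) = (A1 : Set G) * ((MulAut.conj y • B : Subgroup G) : Set G) := by
    refine Set.Subset.antisymm (fun g hg => ?_) ?_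
    · refine Subgroup.closure_induction (p := fun g _ => g ∈ (A1 : Set G) * ((MulAut.conj y • B : Subgroup G) : Set G))
        ?_ ?_ ?_ ?_ (show g ∈ Subgroup.closure ((A1 : Set G) ∪ ((MulAut.conj y • B : Subgroup G) : Set G)) by
          rwa [Subgroup.closure_union, Subgroup.closure_eq, Subgroup.closure_eq])
      · rintro z (hz | hz)
        · exact ⟨z, hz, 1, one_mem _, mul_one z⟩
        · exact ⟨1, one_mem _, z, hz, one_mul z⟩
      · exact ⟨1, one_mem _, 1, one_mem _, one_mul 1⟩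
      · rintro _ _ _ _ ⟨a, ha, b, hb, rfl⟩ ⟨a', ha', b', hb', rfl⟩
        obtain ⟨b2, hb2, a2, ha2, e⟩ := hperm y _ (inv_mem ha') _ (inv_mem hb)
        refine ⟨a * a2⁻¹, mul_mem ha (inv_mem ha2), b2⁻¹ * b', mul_mem (inv_mem hb2) hb', ?_⟩
        have e' := congrArg (·⁻¹) e
        simp only [mul_inv_rev, inv_inv] at e'
        calc a * a2⁻¹ * (b2⁻¹ * b') = a * (a2⁻¹ * b2⁻¹) * b' := by group
          _ = _ := by rw [← e']; group
      · rintro _ _ ⟨a, ha, b, hb, rfl⟩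
        obtain ⟨b2, hb2, a2, ha2, e⟩ := hperm y _ ha _ hb
        refine ⟨a2⁻¹, inv_mem ha2, b2⁻¹, inv_mem hb2, ?_⟩
        show a2⁻¹ * b2⁻¹ = (a * b)⁻¹
        rw [e, mul_inv_rev]
    · rintro _ ⟨a, ha, b, hb, rfl⟩; exact Subgroup.mul_mem_sup ha hb
  refine ⟨_, fun htop => hS ((Subgroup.eq_top_iff' S).mpr fun g => ?_), hset⟩
  -- if the product were everything then so would be the product with `C`
  have hall : ∀ g : G, g ∈ (A1 : Set G) * ((MulAut.conj y • B : Subgroup G) : Set G) := fun g => by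
    rw [← hset, htop]; trivial
  obtain ⟨a0, ha0, b0, hb0, e0⟩ := hall (x * y⁻¹)
  obtain ⟨a1, ha1, b1, hb1, e1⟩ := hall (a0⁻¹ * g * a0)
  have hconj : MulAut.conj a0 • (MulAut.conj y • B) = C := by
    rw [hC, ← show a0 * b0 * y = x by rw [show a0 * b0 = x * y⁻¹ from e0, inv_mul_cancel_right],
      ← Agent.Grp.conj_smul_conj_smul, ← Agent.Grp.conj_smul_conj_smul a0,
      Agent.Grp.conj_smul_eq_self_of_mem hb0]
  have h3 : g = (a0 * a1 * a0⁻¹) * (a0 * b1 * a0⁻¹) := by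
    have e1' : a1 * b1 = a0⁻¹ * g * a0 := e1
    calc g = a0 * (a0⁻¹ * g * a0) * a0⁻¹ := by group
      _ = _ := by rw [← e1']; group
  rw [h3]
  refine mul_mem (hA1S (mul_mem (mul_mem ha0 ha1) (inv_mem ha0))) (hCS ?_)
  rw [← hconj, Agent.Grp.mem_smul_conj, show a0⁻¹ * (a0 * b1 * a0⁻¹) * a0 = b1 by group]
  exact hb1

end Cfsg.Agent.S0566
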