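import Cfsg.Statements.S0567
import Cfsg.Agent.Lib.Grp.Coprime
-- import your own Cfsg.Agent.* helpers here

set_option autoImplicit false
open Cfsg

namespace Cfsg.Agent.S0567

open scoped Pointwise commutatorElement

/-- A subgroup H of a group G is subnormal exactly when, for some m, the subgroup obtained from G by taking the commutator with H m times in succession is contained in H. -/
theorem result {G : Type*} [Group G] (H : Subgroup G) : H.IsSubnormal ↔ ∃ m : ℕ, (fun K : Subgroup G => ⁅K, H⁆)^[m] ⊤ ≤ H := by
  set f := fun K : Subgroup G => ⁅K, H⁆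
  constructor
  · intro hH
    suffices ∀ X : Subgroup G, X.IsSubnormal → H ≤ X → ∃ m, f^[m] ⊤ ≤ X from this H hH le_rfl
    intro X hX
    induction hX with
    | top => exact fun _ => ⟨0, le_top⟩
    | step X Y hle _ hn ih =>
      intro hHX
      obtain ⟨m, hm⟩ := ih (hHX.trans hle)
      refine ⟨m + 1, ?_⟩
      rw [Function.iterate_succ_apply']
      exact (Subgroup.commutator_mono hm hHX).trans (Subgroup.le_normalizer_iff_commutator_le_right.mp ((Subgroup.normal_subgroupOf_iff_le_normalizer hle).mp hn))
  · rintro ⟨m, hm⟩
    have hnorm : ∀ j, H ≤ Subgroup.normalizer ((f^[j] ⊤ : Subgroup G) : Set G) := by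
      intro j
      induction j with
      | zero => exact le_top.trans (le_of_eq (Subgroup.normalizer_eq_top (H := (⊤ : Subgroup G))).symm)
      | succ j ih =>
        rw [Function.iterate_succ_apply']
        exact Cfsg.Agent.Grp.right_le_normalizer_commutator H _
    have hsub : ∀ j, (H ⊔ f^[j] ⊤).IsSubnormal := by
      intro j
      induction j with
      | zero => simp
      | succ j ih =>
        set K := f^[j] ⊤ with hK
        have hle : f^[j + 1] ⊤ ≤ K := by
          rw [Function.iterate_succ_apply']
          exact Subgroup.le_normalizer_iff_commutator_le_left.mp (hnorm j)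
        refine Subgroup.IsSubnormal.step _ _ (sup_le_sup_left hle H) ih ?_
        rw [Subgroup.normal_subgroupOf_iff_le_normalizer (sup_le_sup_left hle H)]
        refine sup_le (le_sup_left.trans Subgroup.le_normalizer) fun k hk => ?_
        rw [Cfsg.Agent.Grp.mem_normalizer_iff_smul]
        have hKn : ∀ y ∈ K, MulAut.conj y • (H ⊔ f^[j + 1] ⊤) ≤ H ⊔ f^[j + 1] ⊤ := by
          intro y hy
          rw [Function.iterate_succ_apply', Subgroup.smul_sup]
          refine sup_le (fun z hz => ?_) ((Cfsg.Agent.Grp.normalizer_le_smul (Cfsg.Agent.Grp.left_le_normalizer_commutator H K) hy).le.trans le_sup_right)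
          rw [Cfsg.Agent.Grp.mem_smul_conj] at hz
          have e : z = ⁅y, y⁻¹ * z * y⁆ * (y⁻¹ * z * y) := by simp [commutatorElement_def, mul_assoc]
          rw [e]
          exact Subgroup.mul_mem _ (Subgroup.mem_sup_right (Subgroup.commutator_mem_commutator hy hz)) (Subgroup.mem_sup_left hz)
        refine le_antisymm (hKn k hk) ?_
        have := (Subgroup.pointwise_smul_le_pointwise_smul_iff (a := MulAut.conj k)).mpr (hKn k⁻¹ (K.inv_mem hk))
        rwa [Cfsg.Agent.Grp.conj_smul_conj_smul, mul_inv_cancel, map_one, one_smul] at this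
    have := hsub m
    rwa [sup_eq_left.mpr hm] at this

end Cfsg.Agent.S0567
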