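import Cfsg.Statements.S0568
import Mathlib
import Cfsg.Agent.Lib.Grp.HallSystem
import Cfsg.Agent.Lib.Grp.Carter
import Cfsg.Agent.Lib.Grp.Frattini

set_option autoImplicit false
open Cfsg
open scoped Pointwise commutatorElement

namespace Cfsg.Agent.S0568

/-- Let D be the system normalizer of a Hall complement system of a finite solvable group G, and let A < B be normal subgroups with no normal subgroup of G strictly between them (a chief factor). If G centralizes B modulo A then B ≤ A ⊔ D (D covers the factor); otherwise B ∩ D ≤ A (D avoids it). -/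
theorem result {G : Type*} [Group G] [Finite G] [Group.IsSolvable G] (K : Nat.Primes → Subgroup G) (hK : Cfsg.IsComplementSystem K) (A B : Subgroup G) [A.Normal] [B.Normal] (hAB : A < B) (hchief : ∀ N : Subgroup G, N.Normal → A ≤ N → N ≤ B → N = A ∨ N = B) : (⁅B, (⊤ : Subgroup G)⁆ ≤ A → B ≤ A ⊔ Cfsg.systemNormalizer K) ∧ (¬ ⁅B, (⊤ : Subgroup G)⁆ ≤ A → B ⊓ Cfsg.systemNormalizer K ≤ A) := by
  set f := QuotientGroup.mk' A with hf
  set D := Cfsg.systemNormalizer K
  constructor
  · intro hcen
    have h1 : B.map f ≤ D.map f := by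
      rw [← Agent.Grp.HallSys.map_systemNormalizer hK A]
      rintro _ ⟨b, hb, rfl⟩
      refine (Agent.Grp.HallSys.mem_systemNormalizer (Agent.Grp.HallSys.map hK A)).mpr fun p => ?_
      refine Subgroup.centralizer_le_normalizer _ (Subgroup.mem_centralizer_iff.mpr fun y _ => ?_)
      obtain ⟨y, rfl⟩ := QuotientGroup.mk'_surjective A y
      have h2 : b * y * b⁻¹ * y⁻¹ ∈ A := hcen (Subgroup.commutator_mem_commutator hb (Subgroup.mem_top y))
      have h3 : f (b * y * b⁻¹ * y⁻¹) = 1 := (QuotientGroup.eq_one_iff _).mpr h2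
      rw [map_mul, map_mul, map_mul, map_inv, map_inv, mul_inv_eq_one, mul_inv_eq_iff_eq_mul] at h3
      exact h3.symm
    rw [Subgroup.map_le_iff_le_comap, Subgroup.comap_map_eq, QuotientGroup.ker_mk', sup_comm] at h1
    exact h1
  · intro hnc
    set V := B.map f with hV
    haveI hVn : V.Normal := Subgroup.Normal.map inferInstance f (QuotientGroup.mk'_surjective A)
    have hV0 : V ≠ ⊥ := fun h => hAB.not_ge (by
      rw [hV, Subgroup.map_eq_bot_iff, QuotientGroup.ker_mk'] at h; exact h)
    have hVmin : ∀ W : Subgroup (G ⧸ A), W.Normal → W ≤ V → W = ⊥ ∨ W = V := by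
      intro W hW hWV
      have hle : W.comap f ≤ B := by
        refine (Subgroup.comap_mono hWV).trans ?_
        rw [hV, Subgroup.comap_map_eq, QuotientGroup.ker_mk']
        exact sup_le le_rfl hAB.le
      have hWc : (W.comap f).map f = W := Subgroup.map_comap_eq_self_of_surjective (QuotientGroup.mk'_surjective A) W
      rcases hchief (W.comap f) (hW.comap f) (fun a ha => by
          show f a ∈ W
          rw [show f a = 1 from (QuotientGroup.eq_one_iff a).mpr ha]; exact one_mem _) hle with h | h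
      · exact Or.inl (by rw [← hWc, h]; exact QuotientGroup.map_mk'_self A)
      · exact Or.inr (by rw [← hWc, h])
    obtain ⟨p, hp, hVp⟩ := Agent.Grp.minimal_normal_solvable_isPGroup (N := V) inferInstance hV0 hVmin
    haveI := Fact.mk hp
    let pp : Nat.Primes := ⟨p, hp⟩
    set L := fun q => (K q).map f with hL0
    have hL : Cfsg.IsComplementSystem L := Agent.Grp.HallSys.map hK A
    -- the centre of `V` in itself
    haveI : Nontrivial V := (Subgroup.nontrivial_iff_ne_bot V).mpr hV0
    have hVab : ∀ x ∈ V, ∀ y ∈ V, x * y = y * x := by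
      have hc : (Subgroup.center V).map V.subtype = V := by
        rcases hVmin ((Subgroup.center V).map V.subtype) inferInstance (Subgroup.map_subtype_le _) with h | h
        · exact absurd ((Subgroup.map_eq_bot_iff_of_injective _ V.subtype_injective).mp h)
            hVp.bot_lt_center.ne'
        · exact h
      intro x hx y hy
      rw [← hc] at hx
      obtain ⟨x, hx', rfl⟩ := hx
      exact congrArg Subtype.val (Subgroup.mem_center_iff.mp hx' ⟨y, hy⟩).symm
    set C := Subgroup.centralizer (V : Set (G ⧸ A)) with hC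
    haveI : C.Normal := inferInstance
    have hCtop : C ≠ ⊤ := by
      intro h
      refine hnc (Subgroup.commutator_le.mpr fun b hb y _ => (QuotientGroup.eq_one_iff _).mp ?_)
      show f (b * y * b⁻¹ * y⁻¹) = 1
      have h2 := Subgroup.mem_centralizer_iff.mp (h ▸ Subgroup.mem_top (f y) : f y ∈ C) (f b)
        (Subgroup.mem_map_of_mem f hb)
      rw [map_mul, map_mul, map_mul, map_inv, map_inv, h2]
      group
    haveI : Nontrivial ((G ⧸ A) ⧸ C) := QuotientGroup.nontrivial_iff.mpr hCtop
    obtain ⟨W, hWn, hW0, -, hWmin⟩ := Agent.Grp.exists_minimal_normal_le (N := (⊤ : Subgroup ((G ⧸ A) ⧸ C))) top_ne_bot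
    obtain ⟨q, hq, hWq⟩ := Agent.Grp.minimal_normal_solvable_isPGroup inferInstance hW0 hWmin
    haveI := Fact.mk hq
    set g := QuotientGroup.mk' C
    set U := W.comap g with hU
    have hUW : U.map g = W := Subgroup.map_comap_eq_self_of_surjective (QuotientGroup.mk'_surjective C) W
    have hUC : ¬ U ≤ C := fun h => hW0 (by
      rw [← hUW, Subgroup.map_eq_bot_iff, QuotientGroup.ker_mk']; exact h)
    -- fixed points of `U` on `V` are trivial
    have hfix : V ⊓ Subgroup.centralizer (U : Set (G ⧸ A)) = ⊥ := by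
      refine (hVmin _ inferInstance inf_le_left).resolve_right fun h => hUC ?_
      exact Subgroup.le_centralizer_iff.mp (h ▸ inf_le_right)
    have hqp : q ≠ p := by
      intro e
      subst e
      obtain ⟨P⟩ : Nonempty (Sylow q U) := inferInstance
      set P' := (P : Subgroup U).map U.subtype with hP'
      have hPU : P' ⊔ C = U := by
        have hCU : C ≤ U := fun x hx => by
          show g x ∈ W
          rw [show g x = 1 from (QuotientGroup.eq_one_iff x).mpr hx]; exact one_mem _
        refine le_antisymm (sup_le (Subgroup.map_subtype_le _) hCU) fun x hx => ?_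
        let φ : U →* W := (g.comp U.subtype).codRestrict W fun x => x.2
        have hφ : Function.Surjective φ := fun w => by
          obtain ⟨y, hy⟩ := QuotientGroup.mk'_surjective C (w : (G ⧸ A) ⧸ C)
          exact ⟨⟨y, show g y ∈ W by rw [hy]; exact w.2⟩, Subtype.ext hy⟩
        have htop : (P : Subgroup U).map φ = ⊤ := by
          obtain ⟨k, hk⟩ := IsPGroup.iff_card.mp hWq
          rw [← Subgroup.index_eq_one]
          refine Nat.eq_one_of_dvd_coprimes ((hq.coprime_iff_not_dvd.mpr P.not_dvd_index).pow_left k).symm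
            (Subgroup.index_map_dvd _ hφ) ?_
          exact hk ▸ Subgroup.index_dvd_card _
        obtain ⟨⟨u, hu⟩, huP, he⟩ : φ ⟨x, hx⟩ ∈ (P : Subgroup U).map φ := htop ▸ Subgroup.mem_top _
        have h2 : u⁻¹ * x ∈ C := QuotientGroup.eq.mp (congrArg Subtype.val he)
        simpa using Subgroup.mul_mem_sup (show u ∈ P' from ⟨⟨u, hu⟩, huP, rfl⟩) h2
      have hS : IsPGroup q ↥(P' ⊔ V) := IsPGroup.to_sup_of_normal_right (P.isPGroup'.map _) hVp
      haveI : Nontrivial ↥(P' ⊔ V) := (Subgroup.nontrivial_iff_ne_bot _).mpr fun h => hV0 (eq_bot_iff.mpr (h ▸ le_sup_right))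
      obtain ⟨z, hz1, hz⟩ : ∃ z : ↥(P' ⊔ V), z ≠ 1 ∧ z ∈ (V.subgroupOf (P' ⊔ V)) ⊓ Subgroup.center ↥(P' ⊔ V) := by
        haveI := hS.isNilpotent
        have h0 : V.subgroupOf (P' ⊔ V) ≠ ⊥ := fun h => hV0 (by
          rw [← Subgroup.map_subgroupOf_eq_of_le (le_sup_right : V ≤ P' ⊔ V), h, Subgroup.map_bot])
        obtain ⟨z, hz, hz1⟩ := Subgroup.bot_or_exists_ne_one ((V.subgroupOf (P' ⊔ V)) ⊓ Subgroup.center ↥(P' ⊔ V)) |>.resolve_left (by
          intro h
          exact Agent.Grp.inf_center_ne_bot _ h0 h)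
        exact ⟨z, hz1, hz⟩
      have hzmem : (z : G ⧸ A) ∈ V ⊓ Subgroup.centralizer (U : Set (G ⧸ A)) := by
        refine ⟨hz.1, Subgroup.mem_centralizer_iff.mpr fun y hy => ?_⟩
        have : U ≤ Subgroup.centralizer {(z : G ⧸ A)} := by
          rw [← hPU]
          refine sup_le (fun w hw => Subgroup.mem_centralizer_singleton_iff.mpr ?_) (fun w hw => Subgroup.mem_centralizer_singleton_iff.mpr ?_)
          · exact congrArg Subtype.val (Subgroup.mem_center_iff.mp hz.2 ⟨w, Subgroup.mem_sup_left hw⟩)
          · exact (Subgroup.mem_centralizer_iff.mp hw _ hz.1).symm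
        exact Subgroup.mem_centralizer_singleton_iff.mp (this hy)
      rw [hfix, Subgroup.mem_bot] at hzmem
      exact hz1 (Subtype.ext hzmem)
    have hUK : U ≤ L pp ⊔ C := by
      obtain ⟨k, hk⟩ := IsPGroup.iff_card.mp hWq
      have h1 : W ≤ (L pp).map g := Agent.Grp.HallSys.le_of_coprime (Agent.Grp.HallSys.map hL C)
        (p := pp) (N := W) (hk ▸ ((Nat.coprime_primes hq hp).mpr hqp).pow_left k)
      refine (Subgroup.comap_mono h1).trans ?_
      rw [Subgroup.comap_map_eq, QuotientGroup.ker_mk']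
    intro x ⟨hxB, hxD⟩
    rw [← QuotientGroup.eq_one_iff]
    have hxV : f x ∈ V := Subgroup.mem_map_of_mem f hxB
    have hxD' : f x ∈ Cfsg.systemNormalizer L := by
      rw [Agent.Grp.HallSys.map_systemNormalizer hK A]; exact Subgroup.mem_map_of_mem f hxD
    have hcK : L pp ≤ Subgroup.centralizer {f x} := by
      intro y hy
      rw [Subgroup.mem_centralizer_singleton_iff]
      have h1 : y * f x * y⁻¹ * (f x)⁻¹ ∈ V := mul_mem (hVn.conj_mem _ hxV y) (inv_mem hxV)
      have h2 : y * f x * y⁻¹ * (f x)⁻¹ ∈ L pp := by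
        rw [show y * f x * y⁻¹ * (f x)⁻¹ = y * (f x * y⁻¹ * (f x)⁻¹) by group]
        exact mul_mem hy ((Subgroup.mem_normalizer_iff.mp
          ((Agent.Grp.HallSys.mem_systemNormalizer hL).mp hxD' pp) _).mp (inv_mem hy))
      obtain ⟨k, hk⟩ := IsPGroup.iff_card.mp hVp
      have h3 := (Subgroup.inf_eq_bot_of_coprime (H := V) (K := L pp)
        (hk ▸ ((Agent.Grp.HallSys.coprime hL pp).symm.pow_left k))).le (Subgroup.mem_inf.mpr ⟨h1, h2⟩)
      rw [Subgroup.mem_bot, mul_inv_eq_one, mul_inv_eq_iff_eq_mul] at h3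
      exact h3
    have hmem : f x ∈ V ⊓ Subgroup.centralizer (U : Set (G ⧸ A)) := by
      refine ⟨hxV, Subgroup.mem_centralizer_iff.mpr fun y hy => ?_⟩
      have : L pp ⊔ C ≤ Subgroup.centralizer {f x} := sup_le hcK fun w hw =>
        Subgroup.mem_centralizer_singleton_iff.mpr (Subgroup.mem_centralizer_iff.mp hw _ hxV).symm
      exact Subgroup.mem_centralizer_singleton_iff.mp (this (hUK hy))
    rw [hfix, Subgroup.mem_bot] at hmem
    exact hmem

end Cfsg.Agent.S0568
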