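import Cfsg.Statements.S0569
import Mathlib
import Cfsg.Agent.Lib.Grp.HallSystem
import Cfsg.Agent.Lib.Grp.Carter
import Cfsg.Agent.Lib.Grp.Frattini

set_option autoImplicit false
open Cfsg
open scoped Pointwise commutatorElement

namespace Cfsg.Agent.S0569

/-- In a finite solvable group: each nilpotent self-normalizing subgroup contains the system normalizer of some Hall complement system, and the system normalizer of any Hall complement system lies in some nilpotent self-normalizing subgroup. -/
theorem result {G : Type*} [Group G] [Finite G] [Group.IsSolvable G] : (∀ C : Subgroup G, Cfsg.IsCarterSubgroup C → ∃ K : Nat.Primes → Subgroup G, Cfsg.IsComplementSystem K ∧ Cfsg.systemNormalizer K ≤ C) ∧ ∀ K : Nat.Primes → Subgroup G, Cfsg.IsComplementSystem K → ∃ C : Subgroup G, Cfsg.IsCarterSubgroup C ∧ Cfsg.systemNormalizer K ≤ C := by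
  constructor
  · intro C hC
    obtain ⟨K, hK, hext⟩ := Agent.Grp.Carter.exists_extends hC.1
    exact ⟨K, hK, Agent.Grp.Carter.systemNormalizer_le hC hK hext⟩
  · intro K hK
    obtain ⟨⟨C, hC⟩, -⟩ := Agent.Grp.Carter.aux _ G rfl
    obtain ⟨L, hL, hext⟩ := Agent.Grp.Carter.exists_extends hC.1
    obtain ⟨g, hg⟩ := Agent.Grp.HallSys.isConjugate hK hL
    refine ⟨MulAut.conj g⁻¹ • C, Agent.Grp.Carter.carter_smul hC g⁻¹, fun x hx => ?_⟩
    rw [Agent.Grp.mem_smul_conj, inv_inv]
    refine Agent.Grp.Carter.systemNormalizer_le hC hL hext ((Agent.Grp.HallSys.mem_systemNormalizer hL).mpr fun p => ?_)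
    rw [Agent.Grp.mem_normalizer_iff_smul, ← hg p, Agent.Grp.conj_smul_conj_smul, inv_mul_cancel_right,
      ← Agent.Grp.conj_smul_conj_smul, Agent.Grp.mem_normalizer_iff_smul.mp ((Agent.Grp.HallSys.mem_systemNormalizer hK).mp hx p)]

end Cfsg.Agent.S0569
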