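import Cfsg.Statements.S0570
import Mathlib
import Cfsg.Agent.Lib.Grp.HallSystem
import Cfsg.Agent.Lib.Grp.Carter
import Cfsg.Agent.Lib.Grp.Frattini

set_option autoImplicit false
open Cfsg
open scoped Pointwise commutatorElement

namespace Cfsg.Agent.S0570

/-- Let G be a finite group with a nilpotent normal subgroup F such that G modulo F is nilpotent (nilpotent length at most two). Then a subgroup of G is a Carter subgroup if and only if it is the system normalizer of some Hall complement system. -/
theorem result {G : Type*} [Group G] [Finite G] (F : Subgroup G) [F.Normal] (hF : Group.IsNilpotent F) (hGF : Group.IsNilpotent (G ⧸ F)) (C : Subgroup G) : Cfsg.IsCarterSubgroup C ↔ ∃ K : Nat.Primes → Subgroup G, Cfsg.IsComplementSystem K ∧ C = Cfsg.systemNormalizer K := by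
  haveI := hF
  haveI := hGF
  haveI : Group.IsSolvable F := inferInstance
  haveI : Group.IsSolvable (G ⧸ F) := inferInstance
  haveI : Group.IsSolvable G := Group.isSolvable_of_ker_le_range F.subtype (QuotientGroup.mk' F) (le_of_eq (by simp))
  have key : ∀ C : Subgroup G, Cfsg.IsCarterSubgroup C → ∀ K : Nat.Primes → Subgroup G,
      Cfsg.IsComplementSystem K → Agent.Grp.Carter.Extends K C → C = Cfsg.systemNormalizer K := fun C hC K hK hext =>
    le_antisymm (Agent.Grp.Carter.le_systemNormalizer F hF hGF hC hK hext)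
      (Agent.Grp.Carter.systemNormalizer_le hC hK hext)
  constructor
  · intro hC
    obtain ⟨K, hK, hext⟩ := Agent.Grp.Carter.exists_extends hC.1
    exact ⟨K, hK, key C hC K hK hext⟩
  · rintro ⟨K, hK, rfl⟩
    obtain ⟨⟨C, hC⟩, -⟩ := Agent.Grp.Carter.aux _ G rfl
    obtain ⟨L, hL, hext⟩ := Agent.Grp.Carter.exists_extends hC.1
    obtain ⟨g, hg⟩ := Agent.Grp.HallSys.isConjugate hK hL
    have : Cfsg.systemNormalizer K = MulAut.conj g⁻¹ • C := by
      ext x
      rw [Agent.Grp.mem_smul_conj, inv_inv, key C hC L hL hext, Agent.Grp.HallSys.mem_systemNormalizer hK,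
        Agent.Grp.HallSys.mem_systemNormalizer hL]
      refine forall_congr' fun p => ?_
      rw [Agent.Grp.mem_normalizer_iff_smul, Agent.Grp.mem_normalizer_iff_smul, ← hg p,
        Agent.Grp.conj_smul_conj_smul, inv_mul_cancel_right, ← Agent.Grp.conj_smul_conj_smul]
      exact (smul_left_cancel_iff (MulAut.conj g)).symm
    rw [this]
    exact Agent.Grp.Carter.carter_smul hC g⁻¹

end Cfsg.Agent.S0570
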