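import Cfsg.Statements.S0573
import Mathlib
-- import your own Cfsg.Agent.* helpers here

set_option autoImplicit false
open Cfsg

namespace Cfsg.Agent.S0573

open scoped commutatorElement
universe w

theorem ito573_gen {G : Type w} [Group G] (A B : Subgroup G)
    (hA : ∀ x ∈ A, ∀ y ∈ A, x * y = y * x) (hB : ∀ x ∈ B, ∀ y ∈ B, x * y = y * x)
    (hAB : ∀ g : G, ∃ a ∈ A, ∃ b ∈ B, g = a * b) :
    ∃ K : Subgroup G, K.Normal ∧ (∀ x ∈ K, ∀ y ∈ K, x * y = y * x) ∧
      (∀ x y : G, ⁅x, y⁆ ∈ K) ∧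
      K = Subgroup.closure {x | ∃ a ∈ A, ∃ b ∈ B, ⁅a, b⁆ = x} := by
  set S : Set G := {x | ∃ a ∈ A, ∃ b ∈ B, ⁅a, b⁆ = x} with hS
  have hBA : ∀ g : G, ∃ b ∈ B, ∃ a ∈ A, g = b * a := by
    intro g
    obtain ⟨a, ha, b, hb, h⟩ := hAB g⁻¹
    exact ⟨b⁻¹, inv_mem hb, a⁻¹, inv_mem ha, by rw [← mul_inv_rev, ← h, inv_inv]⟩
  have hA' : ∀ a' ∈ A, ∀ b ∈ B, ∃ b1 ∈ B, ∀ a ∈ A,
      a' * ⁅a, b⁆ * a'⁻¹ = ⁅a, b1⁆ := by
    intro a' ha' b _
    obtain ⟨b1, hb1, a1, ha1, h1⟩ := hBA (a' * b * a'⁻¹)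
    refine ⟨b1, hb1, fun a ha => ?_⟩
    have h2 : a' * a = a * a' := hA _ ha' _ ha
    have h3 : a1 * a⁻¹ = a⁻¹ * a1 := hA _ ha1 _ (inv_mem ha)
    calc a' * ⁅a, b⁆ * a'⁻¹ = a * (a' * b * a'⁻¹) * a⁻¹ * (a' * b * a'⁻¹)⁻¹ := by
          simp only [commutatorElement_def, mul_inv_rev, inv_inv, mul_assoc]
          rw [← mul_assoc a' a, h2]
          have h5 : a'⁻¹ * a⁻¹ = a⁻¹ * a'⁻¹ := by rw [← mul_inv_rev, ← mul_inv_rev, h2]
          rw [← mul_assoc a'⁻¹ a⁻¹, h5]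
          simp [mul_assoc]
      _ = ⁅a, b1⁆ := by
          rw [h1]
          simp only [commutatorElement_def, mul_inv_rev, mul_assoc]
          rw [← mul_assoc a1 a⁻¹, h3]
          simp [mul_assoc]
  have hB' : ∀ b' ∈ B, ∀ a ∈ A, ∃ a2 ∈ A, ∀ b ∈ B,
      b' * ⁅a, b⁆ * b'⁻¹ = ⁅a2, b⁆ := by
    intro b' hb' a _
    obtain ⟨a2, ha2, b2, hb2, h1⟩ := hAB (b' * a * b'⁻¹)
    refine ⟨a2, ha2, fun b hb => ?_⟩
    have h2 : b' * b = b * b' := hB _ hb' _ hb
    have h3 : b2 * b = b * b2 := hB _ hb2 _ hb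
    calc b' * ⁅a, b⁆ * b'⁻¹ = (b' * a * b'⁻¹) * b * (b' * a * b'⁻¹)⁻¹ * b⁻¹ := by
          simp only [commutatorElement_def, mul_inv_rev, inv_inv, mul_assoc]
          have h5 : b⁻¹ * b'⁻¹ = b'⁻¹ * b⁻¹ := by rw [← mul_inv_rev, ← mul_inv_rev, h2]
          have h6 : b'⁻¹ * b = b * b'⁻¹ := hB _ (inv_mem hb') _ hb
          rw [← mul_assoc b'⁻¹ b, h6, h5]
          simp [mul_assoc]
      _ = ⁅a2, b⁆ := by
          rw [h1]
          simp only [commutatorElement_def, mul_inv_rev, mul_assoc]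
          rw [← mul_assoc b2 b, h3]
          simp [mul_assoc]
  have hn : (Subgroup.closure S).Normal := by
    refine ⟨fun x hx g => ?_⟩
    obtain ⟨a', ha', b', hb', rfl⟩ := hAB g
    induction hx using Subgroup.closure_induction with
    | mem z hz =>
      obtain ⟨a, ha, b, hb, rfl⟩ := hz
      obtain ⟨a2, ha2, h2⟩ := hB' b' hb' a ha
      obtain ⟨b1, hb1, h1⟩ := hA' a' ha' b hb
      apply Subgroup.subset_closure
      refine ⟨a2, ha2, b1, hb1, ?_⟩
      rw [← h1 a2 ha2, ← h2 b hb]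
      group
    | one => simp
    | mul x y _ _ ihx ihy =>
      have := mul_mem ihx ihy
      convert this using 1
      group
    | inv x _ ih =>
      have := inv_mem ih
      convert this using 1
      group
  refine ⟨Subgroup.closure S, hn, ?_, ?_, rfl⟩
  · have hcomm : ∀ x ∈ S, ∀ y ∈ S, x * y = y * x := by
      rintro _ ⟨a', ha', b', hb', rfl⟩ _ ⟨a, ha, b, hb, rfl⟩
      obtain ⟨a2, ha2, h2⟩ := hB' b'⁻¹ (inv_mem hb') a ha
      obtain ⟨b1, hb1, h1⟩ := hA' a'⁻¹ (inv_mem ha') b hb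
      have e : a'⁻¹ * (b'⁻¹ * ⁅a, b⁆ * b'⁻¹⁻¹) * a'⁻¹⁻¹ =
          b'⁻¹ * (a'⁻¹ * ⁅a, b⁆ * a'⁻¹⁻¹) * b'⁻¹⁻¹ := by
        rw [h2 b hb, h1 a ha, h1 a2 ha2, h2 b1 hb1]
      generalize hc : ⁅a, b⁆ = c at e ⊢
      rw [commutatorElement_def]
      calc a' * b' * a'⁻¹ * b'⁻¹ * c
          = a' * b' * (a'⁻¹ * (b'⁻¹ * c * b'⁻¹⁻¹) * a'⁻¹⁻¹) * (a'⁻¹ * b'⁻¹) := by group
        _ = a' * b' * (b'⁻¹ * (a'⁻¹ * c * a'⁻¹⁻¹) * b'⁻¹⁻¹) * (a'⁻¹ * b'⁻¹) := by rw [e]
        _ = c * (a' * b' * a'⁻¹ * b'⁻¹) := by group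
    exact fun x hx y hy => by
      have := Subgroup.isMulCommutative_closure hcomm
      exact congrArg Subtype.val
        (this.is_comm.comm (⟨x, hx⟩ : Subgroup.closure S) ⟨y, hy⟩)
  · have : ∀ g h : G, (QuotientGroup.mk g : G ⧸ Subgroup.closure S) * QuotientGroup.mk h =
        QuotientGroup.mk h * QuotientGroup.mk g := by
      intro g h
      have key : ∀ a ∈ A, ∀ b ∈ B,
          Commute (QuotientGroup.mk a : G ⧸ Subgroup.closure S) (QuotientGroup.mk b) := by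
        intro a ha b hb
        rw [← commutatorElement_eq_one_iff_commute,
          ← QuotientGroup.mk'_apply, ← QuotientGroup.mk'_apply (N := Subgroup.closure S) (x := b),
          ← map_commutatorElement, QuotientGroup.mk'_apply, QuotientGroup.eq_one_iff]
        exact Subgroup.subset_closure ⟨a, ha, b, hb, rfl⟩
      obtain ⟨a, ha, b, hb, rfl⟩ := hAB g
      obtain ⟨c, hc, d, hd, rfl⟩ := hAB h
      have k1 : Commute (QuotientGroup.mk a : G ⧸ Subgroup.closure S) (QuotientGroup.mk c) := by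
        show _ * _ = _ * _
        rw [← QuotientGroup.mk_mul, hA a ha c hc, QuotientGroup.mk_mul]
      have k2 : Commute (QuotientGroup.mk b : G ⧸ Subgroup.closure S) (QuotientGroup.mk d) := by
        show _ * _ = _ * _
        rw [← QuotientGroup.mk_mul, hB b hb d hd, QuotientGroup.mk_mul]
      rw [QuotientGroup.mk_mul, QuotientGroup.mk_mul]
      exact ((k1.mul_right (key a ha d hd)).mul_left ((key c hc b hb).symm.mul_right k2)).eq
    intro x y
    rw [← QuotientGroup.eq_one_iff, ← QuotientGroup.mk'_apply, map_commutatorElement,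
      commutatorElement_eq_one_iff_commute]
    exact this x y

theorem ito573_full {G : Type w} [Group G] [Finite G] (A B K : Subgroup G)
    (hA : ∀ x ∈ A, ∀ y ∈ A, x * y = y * x) (hB : ∀ x ∈ B, ∀ y ∈ B, x * y = y * x)
    (hAB : ∀ g : G, ∃ a ∈ A, ∃ b ∈ B, g = a * b)
    (hn : K.Normal) (hK : ∀ x ∈ K, ∀ y ∈ K, x * y = y * x)
    (hgen : K = Subgroup.closure {x | ∃ a ∈ A, ∃ b ∈ B, ⁅a, b⁆ = x})
    (hc : A ⊓ B = ⊥) (hz : Subgroup.center G = ⊥)
    (hAK : ∀ g : G, ∃ a ∈ A, ∃ k ∈ K, g = a * k)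
    (hBK : ∀ g : G, ∃ b ∈ B, ∃ k ∈ K, g = b * k) : A = ⊥ := by
  classical
  have hcen : ∀ (C : Subgroup G), (∀ g : G, ∃ c ∈ C, ∃ k ∈ K, g = c * k) →
      (∀ x ∈ C, ∀ y ∈ C, x * y = y * x) → C ⊓ K = ⊥ := by
    intro C hC hC2
    rw [eq_bot_iff, ← hz]
    intro z hz'
    rw [Subgroup.mem_center_iff]
    intro g
    obtain ⟨c, hc', k, hk, rfl⟩ := hC g
    rw [mul_assoc, hK k hk z hz'.2, ← mul_assoc, hC2 c hc' z hz'.1, mul_assoc]
  have hAK0 := hcen A hAK hA
  have hBK0 := hcen B hBK hB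
  let cgA : CommGroup A := { (inferInstance : Group A) with
    mul_comm := fun x y => Subtype.ext (hA x x.2 y y.2) }
  let cgK : CommGroup K := { (inferInstance : Group K) with
    mul_comm := fun x y => Subtype.ext (hK x x.2 y y.2) }
  let V := Additive K
  let act : G → AddMonoid.End V := fun g =>
    { toFun := fun k => Additive.ofMul ⟨g⁻¹ * (Additive.toMul k : K) * g, by
        simpa using hn.conj_mem _ (Additive.toMul k).2 g⁻¹⟩
      map_zero' := by
        show Additive.ofMul (⟨g⁻¹ * ((1 : K) : G) * g, _⟩ : K) = Additive.ofMul (1 : K)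
        congr 1; ext; simp
      map_add' := fun x y => by
        show Additive.ofMul (⟨g⁻¹ * ((Additive.toMul x * Additive.toMul y : K) : G) * g, _⟩ : K)
          = Additive.ofMul ((⟨g⁻¹ * (Additive.toMul x : K) * g, _⟩ : K) *
              ⟨g⁻¹ * (Additive.toMul y : K) * g, _⟩)
        congr 1; ext; simp [mul_assoc] }
  have act_val : ∀ (g : G) (k : K),
      ((Additive.toMul (act g (Additive.ofMul k)) : K) : G) = g⁻¹ * k * g := fun g k => rfl
  have act_comm : ∀ x ∈ Set.range (fun a : A => act a), ∀ y ∈ Set.range (fun a : A => act a),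
      x * y = y * x := by
    rintro _ ⟨a, rfl⟩ _ ⟨b, rfl⟩
    refine DFunLike.ext _ _ fun k => ?_
    show act a (act b k) = act b (act a k)
    apply Additive.toMul.injective
    apply Subtype.ext
    show (a : G)⁻¹ * ((b : G)⁻¹ * _ * b) * a = (b : G)⁻¹ * ((a : G)⁻¹ * _ * a) * b
    have h := hA b b.2 a a.2
    have h' : (a : G)⁻¹ * (b : G)⁻¹ = (b : G)⁻¹ * (a : G)⁻¹ := by
      rw [← mul_inv_rev, ← mul_inv_rev, h]
    simp only [← mul_assoc]
    rw [h', mul_assoc _ (b : G) (a : G), h, ← mul_assoc]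
  let R := Subring.closure (Set.range (fun a : A => act a))
  letI : CommRing R := Subring.closureCommRingOfComm act_comm
  let d : A → R := fun a => ⟨act a, Subring.subset_closure ⟨a, rfl⟩⟩ - 1
  have d_val : ∀ (a : A) (k : K), ((Additive.toMul (d a • Additive.ofMul k : V) : K) : G)
      = (a : G)⁻¹ * k * a * (k : G)⁻¹ := by
    intro a k
    have : (d a • Additive.ofMul k : V) = act a (Additive.ofMul k) - Additive.ofMul k := rfl
    rw [this, toMul_sub]
    simp [act_val, div_eq_mul_inv]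
  let I : Ideal R := Ideal.span (Set.range d)
  have hI : (⊤ : Submodule R V) ≤ I • ⊤ := by
    let P : Subgroup G :=
      { carrier := {g | ∃ h : g ∈ K, (Additive.ofMul (⟨g, h⟩ : K) : V) ∈ I • (⊤ : Submodule R V)}
        one_mem' := ⟨one_mem K, by
          show (Additive.ofMul (1 : K) : V) ∈ _
          exact Submodule.zero_mem _⟩
        mul_mem' := fun {x y} hx hy => by
          obtain ⟨hx, hx'⟩ := hx
          obtain ⟨hy, hy'⟩ := hy
          exact ⟨mul_mem hx hy, Submodule.add_mem _ hx' hy'⟩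
        inv_mem' := fun {x} hx => by
          obtain ⟨hx, hx'⟩ := hx
          exact ⟨inv_mem hx, Submodule.neg_mem _ hx'⟩ }
    have hP : K ≤ P := by
      conv_lhs => rw [hgen]
      rw [Subgroup.closure_le]
      rintro _ ⟨a, ha, b, hb, rfl⟩
      obtain ⟨a', ha', k, hk, rfl⟩ := hAK b
      have e : ⁅a, a' * k⁆ = (a⁻¹)⁻¹ * (a' * k * a'⁻¹) * a⁻¹ * (a' * k * a'⁻¹)⁻¹ := by
        have h2 : a * a' = a' * a := hA _ ha _ ha'
        have h3 : a⁻¹ * a' = a' * a⁻¹ := hA _ (inv_mem ha) _ ha'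
        rw [commutatorElement_def]
        simp only [mul_inv_rev, inv_inv, mul_assoc]
        have h4 : a'⁻¹ * a⁻¹ = a⁻¹ * a'⁻¹ := by rw [← mul_inv_rev, ← mul_inv_rev, h2]
        rw [← mul_assoc a'⁻¹ a⁻¹, h4]
        simp
      have hk' : a' * k * a'⁻¹ ∈ K := hn.conj_mem _ hk _
      have hv := d_val ⟨a⁻¹, inv_mem ha⟩ ⟨_, hk'⟩
      rw [e]
      have hm : (a⁻¹)⁻¹ * (a' * k * a'⁻¹) * a⁻¹ * (a' * k * a'⁻¹)⁻¹ ∈ K := by
        rw [← hv]; exact SetLike.coe_mem _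
      refine ⟨hm, ?_⟩
      have : (Additive.ofMul (⟨_, hm⟩ : K) : V) =
          d ⟨a⁻¹, inv_mem ha⟩ • (Additive.ofMul (⟨_, hk'⟩ : K) : V) := by
        apply Additive.toMul.injective
        exact Subtype.ext hv.symm
      rw [this]
      exact Submodule.smul_mem_smul (Ideal.subset_span ⟨_, rfl⟩) trivial
    intro v _
    obtain ⟨h, h'⟩ := hP (Additive.toMul v).2
    exact h'
  haveI : Finite V := inferInstanceAs (Finite K)
  obtain ⟨r, hr, hre⟩ := Submodule.exists_mem_and_smul_eq_self_of_fg_of_le_smul I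
    (⊤ : Submodule R V) (Module.Finite.fg_top) hI
  -- the cocycle
  have hφ : ∀ a : A, ∃ k : K, (a : G) * k ∈ B := by
    intro a
    obtain ⟨b, hb, k, hk, h⟩ := hBK a
    exact ⟨⟨k⁻¹, inv_mem hk⟩, by simp [h, hb]⟩
  choose φ hφ using hφ
  have hsym : ∀ a b : A, (d b • Additive.ofMul (φ a) : V) = d a • Additive.ofMul (φ b) := by
    intro a b
    apply Additive.toMul.injective
    apply Subtype.ext
    rw [d_val, d_val]
    have h1 := hB _ (hφ a) _ (hφ b)
    have h2 : (a : G) * b = b * a := hA _ a.2 _ b.2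
    have ka : (b : G)⁻¹ * φ a * b ∈ K := by simpa using hn.conj_mem _ (φ a).2 (b : G)⁻¹
    have kb : (a : G)⁻¹ * φ b * a ∈ K := by simpa using hn.conj_mem _ (φ b).2 (a : G)⁻¹
    have h4 : (b : G)⁻¹ * φ a * b * φ b = (a : G)⁻¹ * φ b * a * φ a := by
      calc (b : G)⁻¹ * φ a * b * φ b
          = ((a : G) * b)⁻¹ * ((a * φ a) * (b * φ b)) := by group
        _ = ((b : G) * a)⁻¹ * ((b * φ b) * (a * φ a)) := by rw [h1, h2]
        _ = (a : G)⁻¹ * φ b * a * φ a := by group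
    generalize hp : (b : G)⁻¹ * φ a * b = p at ka h4 ⊢
    generalize hq : (a : G)⁻¹ * φ b * a = q at kb h4 ⊢
    have e1 : q * (φ b : G)⁻¹ = (φ b : G)⁻¹ * q := hK _ kb _ (inv_mem (φ b).2)
    have e2 : p = q * φ a * (φ b : G)⁻¹ := by rw [← h4]; group
    rw [e2, mul_assoc q, hK _ (φ a).2 _ (inv_mem (φ b).2)]
    group
  have hm : ∀ i ∈ I, ∃ m : V, ∀ b : A, (i • Additive.ofMul (φ b) : V) = d b • m := by
    intro i hi
    induction hi using Submodule.span_induction with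
    | mem x hx =>
      obtain ⟨a, rfl⟩ := hx
      exact ⟨Additive.ofMul (φ a), fun b => (hsym a b).symm⟩
    | zero => exact ⟨0, fun b => by simp⟩
    | add x y _ _ ihx ihy =>
      obtain ⟨m1, h1⟩ := ihx
      obtain ⟨m2, h2⟩ := ihy
      exact ⟨m1 + m2, fun b => by rw [add_smul, smul_add, h1, h2]⟩
    | smul s x _ ih =>
      obtain ⟨m, h⟩ := ih
      exact ⟨s • m, fun b => by
        rw [smul_eq_mul, mul_smul, h, ← mul_smul, ← mul_smul, mul_comm]⟩
  obtain ⟨m, hm⟩ := hm r hr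
  -- conjugation by `m` carries A onto B
  have hmB : ∀ a ∈ A, ((Additive.toMul m : K) : G) * a * ((Additive.toMul m : K) : G)⁻¹ ∈ B := by
    intro a ha
    have h := hm ⟨a, ha⟩
    rw [hre _ trivial] at h
    have h' := congrArg (fun v : V => ((Additive.toMul v : K) : G)) h
    have h'' : (φ ⟨a, ha⟩ : G) = a⁻¹ * (Additive.toMul m : K) * a *
        ((Additive.toMul m : K) : G)⁻¹ := h'.trans (d_val ⟨a, ha⟩ (Additive.toMul m))
    have hb := hφ ⟨a, ha⟩
    rw [h''] at hb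
    simpa [mul_assoc] using hb
  set μ : G := ((Additive.toMul m : K) : G) with hμ
  have hBc : ∀ b ∈ B, μ⁻¹ * b * μ ∈ A := by
    intro b hb
    obtain ⟨a, ha, k, hk, rfl⟩ := hAK b
    have e := hmB a ha
    have e2 : (a * (a⁻¹ * μ * a * μ⁻¹))⁻¹ * (a * k) ∈ B ⊓ K := by
      have e' : a * (a⁻¹ * μ * a * μ⁻¹) ∈ B := by simpa [mul_assoc] using e
      refine ⟨show _ ∈ B from mul_mem (inv_mem e') hb, ?_⟩
      have : a⁻¹ * μ * a * μ⁻¹ ∈ K :=
        mul_mem (by simpa using hn.conj_mem _ (Additive.toMul m).2 a⁻¹) (inv_mem (Additive.toMul m).2)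
      simpa [mul_assoc] using mul_mem (inv_mem this) hk
    rw [hBK0, Subgroup.mem_bot, inv_mul_eq_one] at e2
    rw [← e2]
    simpa [mul_assoc] using ha
  obtain ⟨a0, ha0, b0, hb0, h0⟩ := hAB μ⁻¹
  -- μ = b0⁻¹ * a0⁻¹
  rw [eq_bot_iff]
  intro a ha
  have h := hmB a ha
  have hμ' : μ = b0⁻¹ * a0⁻¹ := by rw [← mul_inv_rev, ← h0, inv_inv]
  have hcomm : a0⁻¹ * a * a0 = a := by
    rw [mul_assoc, hA a ha a0 ha0]; group
  rw [hμ'] at h
  have : b0⁻¹ * a * b0 ∈ B := by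
    have : b0⁻¹ * a0⁻¹ * a * (b0⁻¹ * a0⁻¹)⁻¹ = b0⁻¹ * (a0⁻¹ * a * a0) * b0 := by group
    rw [this, hcomm] at h
    exact h
  have : a ∈ B := by simpa [mul_assoc] using mul_mem (mul_mem hb0 this) (inv_mem hb0)
  rw [← hc]
  exact ⟨ha, this⟩

theorem ito573 : ∀ (n : ℕ) {G : Type w} [Group G] [Finite G] [Nontrivial G] (A B : Subgroup G),
    Nat.card G = n →
    (∀ x ∈ A, ∀ y ∈ A, x * y = y * x) → (∀ x ∈ B, ∀ y ∈ B, x * y = y * x) →
    (∀ g : G, ∃ a ∈ A, ∃ b ∈ B, g = a * b) →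
    ∃ N : Subgroup G, N.Normal ∧ N ≠ ⊥ ∧ (N ≤ A ∨ N ≤ B) := by
  intro n
  induction n using Nat.strong_induction_on with
  | _ n IH =>
  intro G _ _ _ A B hcard hA hB hAB
  classical
  -- central elements lying in A or B
  have central : ∀ z ∈ Subgroup.center G, z ≠ 1 → (z ∈ A ∨ z ∈ B) →
      ∃ N : Subgroup G, N.Normal ∧ N ≠ ⊥ ∧ (N ≤ A ∨ N ≤ B) := by
    intro z hz hne hzz
    refine ⟨Subgroup.zpowers z, ⟨fun x hx g => ?_⟩, by simpa using hne, ?_⟩
    · have : x ∈ Subgroup.center G := Subgroup.zpowers_le.mpr hz hx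
      rw [Subgroup.mem_center_iff] at this
      rw [this g, mul_inv_cancel_right]
      exact hx
    · rcases hzz with h | h
      · exact Or.inl (Subgroup.zpowers_le.mpr h)
      · exact Or.inr (Subgroup.zpowers_le.mpr h)
  have cent2 : ∀ x : G, (∀ a ∈ A, a * x = x * a) → (∀ b ∈ B, b * x = x * b) →
      x ∈ Subgroup.center G := by
    intro x h1 h2
    rw [Subgroup.mem_center_iff]
    intro g
    obtain ⟨a, ha, b, hb, rfl⟩ := hAB g
    rw [mul_assoc, h2 b hb, ← mul_assoc, h1 a ha, mul_assoc]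
  by_cases hc : A ⊓ B = ⊥
  swap
  · obtain ⟨z, hz, hne⟩ := (Subgroup.ne_bot_iff_exists_ne_one).mp hc |> fun ⟨⟨z, hz⟩, h⟩ =>
      (⟨z, hz, fun e => h (Subtype.ext e)⟩ : ∃ z, z ∈ A ⊓ B ∧ z ≠ 1)
    exact central z (cent2 z (fun a ha => hA a ha z hz.1) (fun b hb => hB b hb z hz.2)) hne
      (Or.inl hz.1)
  by_cases hz : Subgroup.center G = ⊥
  swap
  · obtain ⟨z, hzc, hne⟩ := (Subgroup.ne_bot_iff_exists_ne_one).mp hz |> fun ⟨⟨z, hz⟩, h⟩ =>
      (⟨z, hz, fun e => h (Subtype.ext e)⟩ : ∃ z, z ∈ Subgroup.center G ∧ z ≠ 1)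
    obtain ⟨a, ha, b, hb, rfl⟩ := hAB z
    rw [Subgroup.mem_center_iff] at hzc
    have hb' : b ∈ Subgroup.center G := by
      refine cent2 b (fun c hc => ?_) (fun c hc => hB c hc b hb)
      have h := hzc c
      rw [← mul_assoc, hA c hc a ha, mul_assoc, mul_assoc] at h
      exact mul_left_cancel h
    by_cases hb1 : b = 1
    · subst hb1
      rw [mul_one] at hne hzc
      exact central a (Subgroup.mem_center_iff.mpr hzc) hne (Or.inl ha)
    · exact central b hb' hb1 (Or.inr hb)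
  obtain ⟨K, hn, hK, hKc, hgen⟩ := ito573_gen A B hA hB hAB
  -- a proper normal subgroup containing one factor
  have step : ∀ (X Y : Subgroup G), (∀ x ∈ X, ∀ y ∈ X, x * y = y * x) →
      (∀ x ∈ Y, ∀ y ∈ Y, x * y = y * x) →
      (∀ g : G, ∃ a ∈ X, ∃ b ∈ Y, g = a * b) → X ⊔ K ≠ ⊤ → X ≠ ⊥ →
      ∃ N : Subgroup G, N.Normal ∧ N ≠ ⊥ ∧ (N ≤ X ∨ N ≤ Y) := by
    intro X Y hX hY hXY hne hX0
    set H := X ⊔ K with hH
    have hKH : K ≤ H := le_sup_right
    have hXH : X ≤ H := le_sup_left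
    have hHn : H.Normal := ⟨fun x hx g => by
      have : ⁅g, x⁆ ∈ H := hKH (hKc g x)
      simpa [commutatorElement_def] using mul_mem this hx⟩
    haveI : Nontrivial H := by
      rw [Subgroup.nontrivial_iff_ne_bot]
      exact fun h => hX0 (le_bot_iff.mp (h ▸ hXH))
    have hlt : Nat.card H < n := by
      rw [← hcard]
      rcases (Subgroup.card_le_card_group H).lt_or_eq with h | h
      · exact h
      · exact absurd (Subgroup.eq_top_of_card_eq H h) hne
    obtain ⟨N, hNn, hN0, hN⟩ := IH _ hlt (X.subgroupOf H) (Y.subgroupOf H) rfl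
      (fun x hx y hy => Subtype.ext (hX _ hx _ hy)) (fun x hx y hy => Subtype.ext (hY _ hx _ hy))
      (fun g => by
        obtain ⟨a, ha, b, hb, h⟩ := hXY g
        have hbH : b ∈ H := by
          have : b = a⁻¹ * g := by rw [h]; group
          rw [this]; exact mul_mem (inv_mem (hXH ha)) g.2
        exact ⟨⟨a, hXH ha⟩, ha, ⟨b, hbH⟩, hb, Subtype.ext h⟩)
    rcases hN with hNX | hNY
    · -- a nontrivial element of X central in H
      have : ∃ z : H, z ∈ N ∧ z ≠ 1 ∧ ∀ h : H, h * z = z * h := by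
        have gen : ∀ z : H, (∀ k ∈ K, k * (z : G) = z * k) → z ∈ N → ∀ h : H, h * z = z * h := by
          intro z hzk hzN h
          have : H ≤ Subgroup.centralizer {(z : G)} := by
            refine sup_le (fun x hx => ?_) (fun x hx => ?_)
            · exact Subgroup.mem_centralizer_singleton_iff.mpr (hX x hx _ (hNX hzN))
            · exact Subgroup.mem_centralizer_singleton_iff.mpr (hzk x hx)
          exact Subtype.ext (Subgroup.mem_centralizer_singleton_iff.mp (this h.2))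
        haveI : (K.subgroupOf H).Normal := hn.subgroupOf H
        by_cases hNK : N ⊓ K.subgroupOf H = ⊥
        · obtain ⟨⟨z, hz⟩, hne⟩ := (Subgroup.ne_bot_iff_exists_ne_one).mp hN0
          refine ⟨z, hz, fun e => hne (Subtype.ext e), gen z (fun k hk => ?_) hz⟩
          exact congrArg Subtype.val (Subgroup.commute_of_normal_of_disjoint N (K.subgroupOf H)
            hNn inferInstance (disjoint_iff.mpr hNK) z ⟨k, hKH hk⟩ hz hk).symm.eq
        · obtain ⟨⟨z, hz⟩, hne⟩ := (Subgroup.ne_bot_iff_exists_ne_one).mp hNK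
          exact ⟨z, hz.1, fun e => hne (Subtype.ext e),
            gen z (fun k hk => hK k hk _ hz.2) hz.1⟩
      obtain ⟨z, hzN, hz1, hzc⟩ := this
      refine ⟨H ⊓ Subgroup.centralizer (H : Set G), ?_, ?_, Or.inl ?_⟩
      · infer_instance
      · rw [Subgroup.ne_bot_iff_exists_ne_one]
        refine ⟨⟨z, z.2, ?_⟩, fun e => hz1 ?_⟩
        · exact Subgroup.mem_centralizer_iff.mpr fun h hh => congrArg Subtype.val (hzc ⟨h, hh⟩)
        · exact Subtype.ext (congrArg (fun w => (w.val : G)) e)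
      · rintro x ⟨hxH, hxc⟩
        replace hxc := Subgroup.mem_centralizer_iff.mp hxc
        obtain ⟨a, ha, b, hb, rfl⟩ := hXY x
        have : b = 1 := by
          rw [← Subgroup.mem_bot, ← hz, Subgroup.mem_center_iff]
          intro g
          obtain ⟨c, hc', e, he, rfl⟩ := hXY g
          have h1 : c * b = b * c := by
            have h := hxc c (hXH hc')
            rw [← mul_assoc, hX c hc' a ha, mul_assoc, mul_assoc] at h
            exact mul_left_cancel h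
          rw [mul_assoc, hY e he b hb, ← mul_assoc, h1, mul_assoc]
        simpa [this] using ha
    · refine ⟨N.map H.subtype, ⟨fun x hx g => ?_⟩, ?_, Or.inr ?_⟩
      · obtain ⟨x, hxN, rfl⟩ := hx
        obtain ⟨a, ha, b, hb, rfl⟩ := hXY g
        refine ⟨⟨a, hXH ha⟩ * x * ⟨a, hXH ha⟩⁻¹, hNn.conj_mem _ hxN _, ?_⟩
        have hxY : (x : G) ∈ Y := hNY hxN
        have : b * (x : G) * b⁻¹ = x := by rw [hY b hb _ hxY, mul_inv_cancel_right]
        calc H.subtype (⟨a, hXH ha⟩ * x * ⟨a, hXH ha⟩⁻¹) = a * (x : G) * a⁻¹ := rfl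
          _ = a * (b * (x : G) * b⁻¹) * a⁻¹ := by rw [this]
          _ = a * b * H.subtype x * (a * b)⁻¹ := by simp [mul_assoc]
      · simpa [Subgroup.map_eq_bot_iff_of_injective _ H.subtype_injective] using hN0
      · rintro _ ⟨x, hxN, rfl⟩
        exact hNY hxN
  have triv : ∀ (X Y : Subgroup G), (∀ g : G, ∃ a ∈ X, ∃ b ∈ Y, g = a * b) → X = ⊥ →
      ∃ N : Subgroup G, N.Normal ∧ N ≠ ⊥ ∧ N ≤ Y := by
    intro X Y hXY hX
    refine ⟨⊤, inferInstance, top_ne_bot, fun g _ => ?_⟩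
    obtain ⟨a, ha, b, hb, rfl⟩ := hXY g
    rw [hX, Subgroup.mem_bot] at ha
    simpa [ha] using hb
  have hBA : ∀ g : G, ∃ b ∈ B, ∃ a ∈ A, g = b * a := by
    intro g
    obtain ⟨a, ha, b, hb, h⟩ := hAB g⁻¹
    exact ⟨b⁻¹, inv_mem hb, a⁻¹, inv_mem ha, by rw [← mul_inv_rev, ← h, inv_inv]⟩
  by_cases hA0 : A = ⊥
  · obtain ⟨N, h1, h2, h3⟩ := triv A B hAB hA0
    exact ⟨N, h1, h2, Or.inr h3⟩
  by_cases hB0 : B = ⊥
  · obtain ⟨N, h1, h2, h3⟩ := triv B A hBA hB0
    exact ⟨N, h1, h2, Or.inl h3⟩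
  by_cases hAK : A ⊔ K = ⊤
  swap
  · exact step A B hA hB hAB hAK hA0
  by_cases hBK : B ⊔ K = ⊤
  swap
  · obtain ⟨N, h1, h2, h3⟩ := step B A hB hA hBA hBK hB0
    exact ⟨N, h1, h2, h3.symm⟩
  have mulset : ∀ X : Subgroup G, X ⊔ K = ⊤ → ∀ g : G, ∃ x ∈ X, ∃ k ∈ K, g = x * k := by
    intro X hX g
    have : g ∈ X ⊔ K := hX ▸ Subgroup.mem_top g
    rw [Subgroup.mem_sup_of_normal_right] at this
    obtain ⟨x, hx, k, hk, h⟩ := this
    exact ⟨x, hx, k, hk, h.symm⟩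
  exact absurd (ito573_full A B K hA hB hAB hn hK hgen hc hz (mulset A hAK) (mulset B hBK)) hA0

/-- If a nontrivial finite group G is the product AB of abelian subgroups A and B, then some nontrivial normal subgroup of G is contained in A or in B. -/
theorem result {G : Type*} [Group G] [Finite G] [Nontrivial G] (A B : Subgroup G) [IsMulCommutative A] [IsMulCommutative B] (hAB : ∀ g : G, ∃ a ∈ A, ∃ b ∈ B, g = a * b) : ∃ N : Subgroup G, N.Normal ∧ N ≠ ⊥ ∧ (N ≤ A ∨ N ≤ B) := by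
  exact ito573 _ A B rfl (fun x hx y hy => congrArg Subtype.val
      ((inferInstance : IsMulCommutative A).is_comm.comm (⟨x, hx⟩ : A) ⟨y, hy⟩))
    (fun x hx y hy => congrArg Subtype.val
      ((inferInstance : IsMulCommutative B).is_comm.comm (⟨x, hx⟩ : B) ⟨y, hy⟩)) hAB

end Cfsg.Agent.S0573
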