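import Cfsg.Statements.S0571
import Mathlib
import Cfsg.Agent.S0573
import Cfsg.Agent.Lib.Grp.SupersolvableCriteria
-- import your own Cfsg.Agent.* helpers here

set_option autoImplicit false
open Cfsg

namespace Cfsg.Agent.S0571

universe w

theorem prod_cyclic : ∀ (n : ℕ) {G : Type w} [Group G] [Finite G] (A B : Subgroup G),
    Nat.card G = n → IsCyclic A → IsCyclic B →
    (∀ g : G, ∃ a ∈ A, ∃ b ∈ B, g = a * b) → Cfsg.IsSupersolvable G := by
  intro n
  induction n using Nat.strong_induction_on with
  | _ n IH =>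
  intro G _ _ A B hcard hA hB hAB
  by_cases h1 : Nat.card G = 1
  · haveI : Subsingleton G := (Nat.card_eq_one_iff_unique.mp h1).1
    exact ⟨0, fun _ => ⊥, rfl, Subsingleton.elim _ _, fun _ => inferInstance, fun i => i.elim0⟩
  haveI : Nontrivial G := Finite.one_lt_card_iff_nontrivial.mp (by
    have := Nat.card_pos (α := G); omega)
  have comm : ∀ (C : Subgroup G), IsCyclic C → ∀ x ∈ C, ∀ y ∈ C, x * y = y * x := by
    intro C hC x hx y hy
    obtain ⟨g, hg⟩ := hC.exists_generator
    obtain ⟨i, hi⟩ := hg ⟨x, hx⟩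
    obtain ⟨j, hj⟩ := hg ⟨y, hy⟩
    have := (Commute.refl g).zpow_zpow i j
    simp only at hi hj
    rw [hi, hj] at this
    exact congrArg Subtype.val this.eq
  obtain ⟨N, hN, hN0, hle⟩ := Cfsg.Agent.S0573.ito573 _ A B rfl (comm A hA) (comm B hB) hAB
  haveI := hN
  haveI : IsCyclic N := by
    rcases hle with h | h
    · exact isCyclic_of_injective (Subgroup.inclusion h) (Subgroup.inclusion_injective h)
    · exact isCyclic_of_injective (Subgroup.inclusion h) (Subgroup.inclusion_injective h)
  refine Cfsg.Agent.Grp.isSupersolvable_of_cyclic_normal N ?_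
  set f := QuotientGroup.mk' N with hf
  refine IH _ (hcard ▸ Cfsg.Agent.Grp.card_quotient_lt hN0) (A.map f) (B.map f) rfl
    (isCyclic_of_surjective (f.subgroupMap A) (f.subgroupMap_surjective A))
    (isCyclic_of_surjective (f.subgroupMap B) (f.subgroupMap_surjective B)) fun q => ?_
  obtain ⟨g, rfl⟩ := QuotientGroup.mk'_surjective N q
  obtain ⟨a, ha, b, hb, rfl⟩ := hAB g
  exact ⟨f a, ⟨a, ha, rfl⟩, f b, ⟨b, hb, rfl⟩, map_mul f a b⟩

/-- If a finite group G is the product AB of two cyclic subgroups (every element is a product ab), then G is supersolvable. -/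
theorem result {G : Type*} [Group G] [Finite G] (A B : Subgroup G) [IsCyclic A] [IsCyclic B] (hAB : ∀ g : G, ∃ a ∈ A, ∃ b ∈ B, g = a * b) : Cfsg.IsSupersolvable G := by
  exact prod_cyclic _ A B rfl inferInstance inferInstance hAB

end Cfsg.Agent.S0571
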