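import Cfsg.Statements.S0576
import Mathlib
-- import your own Cfsg.Agent.* helpers here

set_option autoImplicit false
open Cfsg

namespace Cfsg.Agent.S0576

/-- Let H be a normal subgroup of a finite group G with H contained in the Frattini subgroup of G. Then the group of inner automorphisms of H is contained in the Frattini subgroup of the automorphism group of H. -/
theorem result {G : Type*} [Group G] [Finite G] (H : Subgroup G) [H.Normal] (hH : H ≤ frattini G) : (MulAut.conj : ↥H →* MulAut ↥H).range ≤ frattini (MulAut ↥H) := by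
  refine le_iInf₂ fun M hM => ?_
  by_contra hle
  set f : G →* MulAut H := MulAut.conjNormal
  set R := (MulAut.conj : ↥H →* MulAut ↥H).range
  haveI : R.Normal := ⟨by
    rintro _ ⟨h, rfl⟩ φ
    exact ⟨φ h, MulEquiv.ext fun x => by simp [MulAut.mul_apply, MulAut.conj_apply]⟩⟩
  have hf : ∀ h : H, f (h : G) = MulAut.conj h := fun h => MulEquiv.ext fun x => Subtype.ext (by simp [f])
  have htop : R ⊔ M = ⊤ := hM.2 _ (lt_of_le_of_ne le_sup_right fun e => hle (e ▸ le_sup_left))
  have hP : H ⊔ M.comap f = ⊤ := by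
    refine top_le_iff.1 fun g _ => ?_
    obtain ⟨r, ⟨h, rfl⟩, m, hm, he⟩ := Subgroup.mem_sup_of_normal_left.1 (htop ▸ Subgroup.mem_top (f g) : f g ∈ R ⊔ M)
    rw [show g = (h : G) * ((h : G)⁻¹ * g) by group]
    refine mul_mem (Subgroup.mem_sup_left h.2) (Subgroup.mem_sup_right ?_)
    rw [Subgroup.mem_comap, map_mul, map_inv, hf, ← he, inv_mul_cancel_left]
    exact hm
  have hPtop : M.comap f = ⊤ := frattini_nongenerating (top_le_iff.1 (hP ▸ sup_le_sup_right hH _) |> fun e => by rwa [sup_comm] at e)
  refine hle ?_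
  rintro _ ⟨h, rfl⟩
  rw [← hf]
  exact (hPtop ▸ Subgroup.mem_top (h : G) : (h : G) ∈ M.comap f)

end Cfsg.Agent.S0576
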