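import Cfsg.Statements.S0577
import Mathlib
import Cfsg.Agent.S0536
import Cfsg.Agent.Lib.Grp.Cores
import Cfsg.Agent.Lib.Grp.Basic

set_option autoImplicit false
open Cfsg

namespace Cfsg.Agent.S0577

/-- Let G be a finite minimal non-nilpotent group and Q a normal Sylow q-subgroup of G, and let D be the commutator subgroup of Q regarded in G (a normal subgroup). Then G modulo D is non-abelian and all its proper subgroups are abelian. -/
theorem result {G : Type*} [Group G] [Finite G] (hG : Cfsg.IsMinimalNonNilpotent G) (q : ℕ) [Fact q.Prime] (hq : q ∣ Nat.card G) (Q : Sylow q G) (hQ : (Q : Subgroup G).Normal) (D : Subgroup G) [D.Normal] (hD : D = (commutator ↥(Q : Subgroup G)).map (Q : Subgroup G).subtype) : ¬ IsMulCommutative (G ⧸ D) ∧ ∀ K : Subgroup (G ⧸ D), K ≠ ⊤ → IsMulCommutative K := by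
  classical
  obtain ⟨p, q', hp, hq', hpq', P, Q', hPc, hQ'n, htop⟩ := Cfsg.Agent.S0536.result hG
  haveI := Fact.mk hp
  haveI := Fact.mk hq'
  have hq0 : q.Prime := Fact.out
  have hcard : Nat.card G = Nat.card (P : Subgroup G) * Nat.card (Q' : Subgroup G) := by
    haveI := hQ'n
    have e := Cfsg.Agent.Grp.card_sup_mul_card_inf_normal (H := (P : Subgroup G)) (N := (Q' : Subgroup G))
    rw [(P.isPGroup'.disjoint_of_ne p q' hpq' _ _ Q'.isPGroup').eq_bot, Subgroup.card_bot, mul_one, htop, Subgroup.card_top] at e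
    exact e
  have honly : q = p ∨ q = q' := by
    rw [hcard] at hq
    rcases hq0.dvd_mul.mp hq with h | h
    · obtain ⟨k, hk⟩ := IsPGroup.iff_card.mp P.isPGroup'
      exact Or.inl ((Nat.prime_dvd_prime_iff_eq hq0 hp).mp (hq0.dvd_of_dvd_pow (hk ▸ h)))
    · obtain ⟨k, hk⟩ := IsPGroup.iff_card.mp Q'.isPGroup'
      exact Or.inr ((Nat.prime_dvd_prime_iff_eq hq0 hq').mp (hq0.dvd_of_dvd_pow (hk ▸ h)))
  have hPnot : ¬ (P : Subgroup G).Normal := by
    intro hPn
    refine hG.1 (Cfsg.Agent.Grp.isNilpotent_iff_sylow_normal.mpr fun r hr R => ?_)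
    by_cases hrd : r ∣ Nat.card G
    · rw [hcard] at hrd
      rcases hr.out.dvd_mul.mp hrd with h | h
      · obtain ⟨k, hk⟩ := IsPGroup.iff_card.mp P.isPGroup'
        obtain rfl := (Nat.prime_dvd_prime_iff_eq hr.out hp).mp (hr.out.dvd_of_dvd_pow (hk ▸ h))
        haveI : Subsingleton (Sylow _ G) := @Unique.instSubsingleton _ (Sylow.unique_of_normal P hPn)
        rw [Subsingleton.elim R P]; exact hPn
      · obtain ⟨k, hk⟩ := IsPGroup.iff_card.mp Q'.isPGroup'
        obtain rfl := (Nat.prime_dvd_prime_iff_eq hr.out hq').mp (hr.out.dvd_of_dvd_pow (hk ▸ h))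
        haveI : Subsingleton (Sylow _ G) := @Unique.instSubsingleton _ (Sylow.unique_of_normal Q' hQ'n)
        rw [Subsingleton.elim R Q']; exact hQ'n
    · have : (R : Subgroup G) = ⊥ := by
        rw [← Subgroup.card_eq_one, R.card_eq_multiplicity, Nat.factorization_eq_zero_of_not_dvd hrd, pow_zero]
      rw [this]; infer_instance
  obtain rfl : q = q' := honly.resolve_left fun e => by
    subst e
    haveI : Subsingleton (Sylow _ G) := @Unique.instSubsingleton _ (Sylow.unique_of_normal Q hQ)
    exact hPnot (by rw [Subsingleton.elim P Q]; exact hQ)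
  haveI : Subsingleton (Sylow _ G) := @Unique.instSubsingleton _ (Sylow.unique_of_normal Q hQ)
  obtain rfl : Q' = Q := Subsingleton.elim _ _
  set Qs := (Q' : Subgroup G) with hQs
  have hDQ : D ≤ Qs := hD ▸ Subgroup.map_subtype_le _
  set f := QuotientGroup.mk' D with hf
  constructor
  · intro hab
    -- the image of `P` is normal, hence `D` and its normalizer generate `G`
    have hPD : ((P : Subgroup G) ⊔ D).Normal := by
      have h1 : ((P : Subgroup G).map f).Normal := ⟨fun x hx y => by
        rwa [show y * x * y⁻¹ = x by rw [mul_comm' y x, mul_inv_cancel_right]]⟩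
      have h2 := h1.comap f
      rwa [Subgroup.comap_map_eq, QuotientGroup.ker_mk'] at h2
    have hle : (P : Subgroup G) ≤ (P : Subgroup G) ⊔ D := le_sup_left
    have h3 := Sylow.normalizer_sup_eq_top (P.subtype hle)
    rw [Sylow.coe_subtype, Subgroup.map_subgroupOf_eq_of_le hle] at h3
    set R := Subgroup.normalizer ((P : Subgroup G) : Set G) with hR
    have hRD : R ⊔ D = ⊤ := top_le_iff.mp (h3 ▸ sup_le le_sup_left (sup_le (Subgroup.le_normalizer.trans le_sup_left) le_sup_right))
    haveI : Group.IsNilpotent Qs := Q'.isPGroup'.isNilpotent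
    -- inside `Q` the commutator subgroup lies in the Frattini subgroup
    have hX : R.subgroupOf Qs ⊔ commutator Qs = ⊤ := by
      refine top_le_iff.mp fun x _ => ?_
      have : (x : G) ∈ ((R ⊔ D : Subgroup G) : Set G) := by rw [hRD]; trivial
      rw [Subgroup.mul_normal] at this
      obtain ⟨r, hr, d, hd, e⟩ := this
      have hrQ : r ∈ Qs := by
        have := mul_mem x.2 (inv_mem (hDQ hd))
        rw [← e] at this
        simpa using this
      have hd' : d ∈ (commutator Qs).map Qs.subtype := hD ▸ hd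
      obtain ⟨d', hd', rfl⟩ := hd'
      rw [show x = ⟨r, hrQ⟩ * d' from Subtype.ext e.symm]
      exact Subgroup.mul_mem_sup hr hd'
    have hQR : R.subgroupOf Qs = ⊤ := by
      by_contra hne
      obtain h | ⟨M, hM, hle'⟩ := eq_top_or_exists_le_coatom (R.subgroupOf Qs)
      · exact hne h
      haveI : M.Normal := Subgroup.NormalizerCondition.normal_of_coatom M Group.normalizerCondition_of_isNilpotent hM
      have hcomm : commutator Qs ≤ M := by
        rw [commutator_def, Subgroup.commutator_le]
        intro a _ b _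
        rw [← QuotientGroup.eq_one_iff (N := M)]
        have hcyc : ∀ u v : Qs ⧸ M, u * v = v * u := by
          intro u v
          obtain ⟨u, rfl⟩ := QuotientGroup.mk'_surjective M u
          obtain ⟨v, rfl⟩ := QuotientGroup.mk'_surjective M v
          by_cases hu : u ∈ M
          · rw [show QuotientGroup.mk' M u = 1 from (QuotientGroup.eq_one_iff u).mpr hu, one_mul, mul_one]
          · have ht := hM.2 (M ⊔ Subgroup.zpowers u) (lt_of_le_of_ne le_sup_left fun e => hu (e ▸ Subgroup.mem_sup_right (Subgroup.mem_zpowers u)))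
            have hv : v ∈ M ⊔ Subgroup.zpowers u := ht ▸ Subgroup.mem_top v
            obtain ⟨m, hm, _, ⟨i, rfl⟩, rfl⟩ := Subgroup.mem_sup_of_normal_left.mp hv
            rw [map_mul, show QuotientGroup.mk' M m = 1 from (QuotientGroup.eq_one_iff m).mpr hm, one_mul, map_zpow]
            exact ((Commute.refl _).zpow_right i).eq
        show QuotientGroup.mk' M (a * b * a⁻¹ * b⁻¹) = 1
        rw [map_mul, map_mul, map_mul, map_inv, map_inv, hcyc (QuotientGroup.mk' M a)]
        group
      exact hM.1 (top_le_iff.mp (hX ▸ sup_le hle' hcomm))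
    refine hPnot (Subgroup.normalizer_eq_top_iff.mp (top_le_iff.mp ?_))
    rw [← htop]
    exact sup_le Subgroup.le_normalizer (Subgroup.subgroupOf_eq_top.mp hQR)
  · intro K hK
    set L := K.comap f with hL
    have hLtop : L ≠ ⊤ := fun e => hK (by
      rw [← Subgroup.map_comap_eq_self_of_surjective (QuotientGroup.mk'_surjective D) K, ← hL, e,
        Subgroup.map_top_of_surjective f (QuotientGroup.mk'_surjective D)])
    have hLnil := hG.2 L hLtop
    -- `p`-elements of `L` commute
    obtain ⟨S⟩ : Nonempty (Sylow p L) := inferInstance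
    haveI hSn : (S : Subgroup L).Normal := Cfsg.Agent.Grp.isNilpotent_iff_sylow_normal.mp hLnil p inferInstance S
    have hScyc : IsCyclic (S : Subgroup L) := by
      obtain ⟨T, hT⟩ := (S.isPGroup'.map L.subtype).exists_le_sylow
      obtain ⟨g, hg⟩ := MulAction.exists_smul_eq G P T
      haveI : IsCyclic (T : Subgroup G) := by
        rw [← hg, Sylow.coe_subgroup_smul]
        exact isCyclic_of_surjective (Subgroup.equivSMul (MulAut.conj g) (P : Subgroup G)).toMonoidHom
          (Subgroup.equivSMul (MulAut.conj g) (P : Subgroup G)).surjective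
      let φ : (S : Subgroup L) →* (T : Subgroup G) :=
        (L.subtype.comp (S : Subgroup L).subtype).codRestrict _ fun x => hT ⟨x, x.2, rfl⟩
      exact isCyclic_of_injective φ fun a b e => by
        have e' := congrArg Subtype.val e
        exact Subtype.ext (Subtype.ext e')
    have hdec : ∀ g : L, ∃ a b : L, a ∈ (S : Subgroup L) ∧ (b : G) ∈ Qs ∧ g = a * b := by
      intro g
      obtain ⟨k, hk⟩ := IsPGroup.iff_card.mp P.isPGroup'
      obtain ⟨l, hl⟩ := IsPGroup.iff_card.mp Q'.isPGroup'
      have h1 : g ^ (p ^ k * q ^ l) = 1 := Subtype.ext (by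
        rw [SubmonoidClass.coe_pow, OneMemClass.coe_one, ← hk, ← hl, ← hcard, pow_card_eq_one'])
      obtain ⟨a, b, -, -, ha, hb, e⟩ := Cfsg.Agent.Grp.exists_pow_decomp (Nat.coprime_pow_primes k l hp hq' hpq') h1
      refine ⟨a, b, ?_, ?_, e⟩
      · obtain ⟨j, -, hj⟩ := (Nat.dvd_prime_pow hp).mp (orderOf_dvd_of_pow_eq_one ha)
        have h2 := S.is_maximal' (IsPGroup.to_sup_of_normal_right
          (IsPGroup.of_card (p := p) (n := j) (by rw [Nat.card_zpowers, hj]) : IsPGroup p (Subgroup.zpowers a)) S.isPGroup') le_sup_right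
        exact h2 ▸ Subgroup.mem_sup_left (Subgroup.mem_zpowers a)
      · obtain ⟨j, -, hj⟩ := (Nat.dvd_prime_pow hq').mp (orderOf_dvd_of_pow_eq_one hb)
        have h2 := Q'.is_maximal' (IsPGroup.to_sup_of_normal_right
          (IsPGroup.of_card (p := q) (n := j) (by rw [Nat.card_zpowers, Subgroup.orderOf_coe, hj]) : IsPGroup q (Subgroup.zpowers (b : G))) Q'.isPGroup') le_sup_right
        exact h2.le (Subgroup.mem_sup_left (Subgroup.mem_zpowers _))
    have hcop : ∀ a b : L, a ∈ (S : Subgroup L) → (b : G) ∈ Qs → a * b = b * a := fun a b ha hb => by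
      obtain ⟨T, hT⟩ := (Q'.isPGroup'.comap_subtype : IsPGroup q (Qs.subgroupOf L)).exists_le_sylow
      exact Subgroup.commute_of_normal_of_disjoint _ _ hSn (Cfsg.Agent.Grp.isNilpotent_iff_sylow_normal.mp hLnil q inferInstance T)
        (S.isPGroup'.disjoint_of_ne p q hpq' _ _ T.isPGroup') a b ha (hT hb)
    refine ⟨⟨fun ⟨x, hx⟩ ⟨y, hy⟩ => Subtype.ext ?_⟩⟩
    obtain ⟨x, rfl⟩ := QuotientGroup.mk'_surjective D x
    obtain ⟨y, rfl⟩ := QuotientGroup.mk'_surjective D y
    obtain ⟨a, b, ha, hb, ex⟩ := hdec ⟨x, hx⟩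
    obtain ⟨c, d, hc, hd, ey⟩ := hdec ⟨y, hy⟩
    have hac : a * c = c * a := by
      letI := hScyc.commGroup
      exact congrArg Subtype.val (mul_comm (⟨a, ha⟩ : (S : Subgroup L)) ⟨c, hc⟩)
    have hbd : Commute (f (b : G)) (f (d : G)) := by
      rw [Commute, SemiconjBy, ← map_mul, ← map_mul]
      refine QuotientGroup.eq.mpr ?_
      rw [hD]
      refine ⟨(⟨_, hd⟩⁻¹ : Qs) * ⟨_, hb⟩⁻¹ * ⟨_, hd⟩ * ⟨_, hb⟩, ?_, by simp [mul_assoc]⟩
      rw [commutator_def]
      have := Subgroup.commutator_mem_commutator (Subgroup.mem_top (⟨_, hd⟩⁻¹ : Qs)) (Subgroup.mem_top (⟨_, hb⟩⁻¹ : Qs))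
      rwa [commutatorElement_def, inv_inv, inv_inv] at this
    have ex' : x = (a : G) * b := congrArg Subtype.val ex
    have ey' : y = (c : G) * d := congrArg Subtype.val ey
    show f x * f y = f y * f x
    rw [ex', ey', map_mul, map_mul]
    have c1 : Commute (f (a : G)) (f (c : G)) := (show Commute (a : G) c from congrArg Subtype.val hac).map f
    have c2 : Commute (f (a : G)) (f (d : G)) := (show Commute (a : G) d from congrArg Subtype.val (hcop a d ha hd)).map f
    have c3 : Commute (f (c : G)) (f (b : G)) := (show Commute (c : G) b from congrArg Subtype.val (hcop c b hc hb)).map f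
    exact ((c1.mul_right c2).mul_left (c3.symm.mul_right hbd)).eq

end Cfsg.Agent.S0577
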