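import Cfsg.Statements.S0578
import Cfsg.Agent.Lib.Grp.Cores
-- import your own Cfsg.Agent.* helpers here

set_option autoImplicit false
open Cfsg

namespace Cfsg.Agent.S0578

/-- If in a finite group the normalizer of each abelian subgroup coincides with its centralizer, then the group is abelian. -/
theorem result {G : Type*} [Group G] [Finite G] (h : ∀ A : Subgroup G, IsMulCommutative A → Subgroup.normalizer (A : Set G) = Subgroup.centralizer (A : Set G)) : IsMulCommutative G := by
  classical
  have hab : ∀ (p : ℕ) [Fact p.Prime] (P : Sylow p G), IsMulCommutative (P : Subgroup G) := by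
    intro p _ P
    have := P.isPGroup'.isNilpotent
    set Z := Subgroup.center (P : Subgroup G)
    have hcen : Subgroup.center ((P : Subgroup G) ⧸ Z) = ⊥ := by
      rw [eq_bot_iff]
      intro q hq
      obtain ⟨x, rfl⟩ := QuotientGroup.mk'_surjective Z q
      rw [Subgroup.mem_bot]
      refine (QuotientGroup.eq_one_iff x).mpr ?_
      set A' := Z ⊔ Subgroup.zpowers x
      have hA'c : IsMulCommutative A' := by
        have : A' ≤ Subgroup.centralizer (A' : Set (P : Subgroup G)) := by
          refine sup_le (fun z hz => Subgroup.mem_centralizer_iff.mpr fun y _ => Subgroup.mem_center_iff.mp hz y) ?_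
          rw [Subgroup.zpowers_le]
          refine Subgroup.mem_centralizer_iff.mpr fun y hy => ?_
          have : A' ≤ Subgroup.centralizer {x} := sup_le
            (fun z hz => Subgroup.mem_centralizer_singleton_iff.mpr (Subgroup.mem_center_iff.mp hz x).symm)
            (Subgroup.zpowers_le.mpr (Subgroup.mem_centralizer_singleton_iff.mpr rfl))
          exact Subgroup.mem_centralizer_singleton_iff.mp (this hy)
        exact ⟨⟨fun a b => Subtype.ext (Subgroup.mem_centralizer_iff.mp (this b.2) a a.2)⟩⟩
      have hA'n : A'.Normal := by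
        refine ⟨fun z hz y => ?_⟩
        obtain ⟨u, hu, w, ⟨i, rfl⟩, rfl⟩ := Subgroup.mem_sup_of_normal_left.mp hz
        have hq' := Subgroup.mem_center_iff.mp hq (QuotientGroup.mk' Z y)
        have h1 : y * x * y⁻¹ ∈ A' := by
          have : x⁻¹ * (y * x * y⁻¹) ∈ Z := (QuotientGroup.eq_one_iff _).mp (by
            show QuotientGroup.mk' Z _ = 1
            rw [map_mul, map_mul, map_mul, map_inv, map_inv, hq', mul_inv_cancel_right, inv_mul_cancel])
          have := Subgroup.mul_mem A' (Subgroup.mem_sup_right (Subgroup.mem_zpowers x)) (Subgroup.mem_sup_left (T := Subgroup.zpowers x) this)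
          rwa [mul_inv_cancel_left] at this
        rw [show y * (u * x ^ i) * y⁻¹ = (y * u * y⁻¹) * (y * x ^ i * y⁻¹) by group, ← conj_zpow]
        exact Subgroup.mul_mem _ (Subgroup.mem_sup_left (Subgroup.Normal.conj_mem inferInstance u hu y))
          (Subgroup.zpow_mem _ h1 i)
      set A := A'.map (P : Subgroup G).subtype
      have hNC := h A (by infer_instance)
      refine Subgroup.mem_center_iff.mpr fun y => Subtype.ext ?_
      have hy : (y : G) ∈ Subgroup.normalizer (A : Set G) :=
        Subgroup.le_normalizer_map _ ⟨y, by rw [Subgroup.normalizer_eq_top]; trivial, rfl⟩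
      rw [hNC] at hy
      exact (Subgroup.mem_centralizer_iff.mp hy x ⟨x, Subgroup.mem_sup_right (Subgroup.mem_zpowers x), rfl⟩).symm
    refine ⟨⟨fun a b => ?_⟩⟩
    have htriv : Subsingleton ((P : Subgroup G) ⧸ Z) := by
      by_contra hns
      rw [not_subsingleton_iff_nontrivial] at hns
      exact Group.IsNilpotent.center_ne_bot _ hcen
    have : b ∈ Z := (QuotientGroup.eq_one_iff b).mp (Subsingleton.elim _ _)
    exact Subgroup.mem_center_iff.mp this a
  have hker : ∀ (p : ℕ) [Fact p.Prime] (P : Sylow p G), ∃ K : Subgroup G, commutator G ≤ K ∧ ¬ p ∣ Nat.card K := by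
    intro p _ P
    have hP : Subgroup.normalizer ((P : Subgroup G) : Set G) ≤ Subgroup.centralizer ((P : Subgroup G) : Set G) :=
      (h _ (hab p P)).le
    refine ⟨(MonoidHom.transferSylow P hP).ker, ?_, MonoidHom.not_dvd_card_ker_transferSylow P hP⟩
    have := hab p P
    rw [commutator_def, Subgroup.commutator_le]
    intro a _ b _
    rw [MonoidHom.mem_ker, map_commutatorElement, commutatorElement_eq_one_iff_mul_comm]
    exact mul_comm' _ _
  have hcomm : commutator G = ⊥ := by
    by_contra hne
    obtain ⟨q, hq, hqd⟩ := Nat.exists_prime_and_dvd (fun e => hne (Subgroup.card_eq_one.mp e) : Nat.card (commutator G) ≠ 1)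
    have := Fact.mk hq
    obtain ⟨K, hK, hKc⟩ := hker q default
    exact hKc (hqd.trans (Subgroup.card_dvd_of_le hK))
  refine ⟨⟨fun a b => ?_⟩⟩
  have := Subgroup.commutator_mem_commutator (Subgroup.mem_top a) (Subgroup.mem_top b)
  rw [← commutator_def, hcomm, Subgroup.mem_bot, commutatorElement_eq_one_iff_mul_comm] at this
  exact this

end Cfsg.Agent.S0578
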