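import Cfsg.Statements.S0580
import Mathlib
import Cfsg.Agent.S0144
import Cfsg.Agent.Lib.Grp.SylowMaximal
-- import your own Cfsg.Agent.* helpers here

set_option autoImplicit false
open Cfsg

namespace Cfsg.Agent.S0580

/-- If every maximal subgroup of a finite group has prime index, then the group is solvable. -/
theorem result {G : Type*} [Group G] [Finite G] (h : ∀ M : Subgroup G, IsCoatom M → M.index.Prime) : Group.IsSolvable G := by
  exact Cfsg.Agent.Grp.SylMax.isSolvable_of_coatom_index Nat.Prime (fun p i hp hi hmod _ h1 hlt => by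
    have h := hlt i hi dvd_rfl
    rw [Nat.ModEq, Nat.mod_eq_of_lt h, Nat.mod_eq_of_lt hp.one_lt] at hmod
    omega) _ G rfl h (fun Y _ _ a b e => Cfsg.Agent.S0144.result 2 3 a b Nat.prime_two Nat.prime_three e)

end Cfsg.Agent.S0580
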