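import Cfsg.Statements.S0582
import Mathlib
import Cfsg.Agent.Lib.Grp.Supersolvable
import Cfsg.Agent.S3998
-- import your own Cfsg.Agent.* helpers here

set_option autoImplicit false
open Pointwise
open Cfsg

namespace Cfsg.Agent.S0582

set_option linter.style.haveILetI false

open scoped Pointwise

universe w

theorem top_sylow {G : Type w} [Group G] [Finite G] (H : Subgroup G) (hH : IsSupersolvable H)
    (hHall : (Nat.card H).Coprime H.index) (r : ℕ) [hr : Fact r.Prime] (hrH : r ∣ Nat.card H)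
    (hmax : ∀ q : ℕ, q.Prime → q ∣ Nat.card H → q ≤ r) :
    ∃ P : Sylow r G, (P : Subgroup G) ≤ H ∧ H ≤ Subgroup.normalizer ((P : Subgroup G) : Set G) := by
  obtain ⟨N, hNn, hN1, hN2⟩ := S3998.tower_aux _ H hH rfl r
  haveI := hNn
  have hNr : IsPGroup r N := by
    refine IsPGroup.iff_card.mpr ⟨(Nat.card N).factorization r, ?_⟩
    refine Nat.eq_of_factorization_eq Nat.card_pos.ne' (pow_ne_zero _ hr.out.ne_zero) fun p => ?_
    rw [hr.out.factorization_pow]
    by_cases hpr : p = r
    · simp [hpr]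
    · have : (Nat.card N).factorization p = 0 := by
        rw [Nat.factorization_eq_zero_iff]
        by_contra hc
        push Not at hc
        obtain ⟨hp, hd, -⟩ := hc
        exact hpr (le_antisymm (hmax p hp (hd.trans N.card_subgroup_dvd_card)) (hN1 p hp hd))
      rw [this]; simp [Ne.symm hpr]
  have hnd : ¬ r ∣ (N.map H.subtype).index := by
    rw [Subgroup.index_map_subtype]
    intro hd
    rcases hr.out.dvd_mul.mp hd with h | h
    · exact lt_irrefl r (hN2 r hr.out h)
    · exact hr.out.ne_one (Nat.dvd_one.1 (hHall ▸ Nat.dvd_gcd hrH h))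
  refine ⟨(hNr.map H.subtype).toSylow hnd, Subgroup.map_subtype_le N, ?_⟩
  intro h hh
  rw [Subgroup.mem_normalizer_iff]
  intro x
  change x ∈ N.map H.subtype ↔ h * x * h⁻¹ ∈ N.map H.subtype
  constructor
  · rintro ⟨y, hy, rfl⟩
    exact ⟨⟨h, hh⟩ * y * ⟨h, hh⟩⁻¹, hNn.conj_mem y hy _, by simp⟩
  · rintro ⟨y, hy, hyx⟩
    refine ⟨⟨h, hh⟩⁻¹ * y * ⟨h, hh⟩, hNn.conj_mem' y hy _, ?_⟩
    simp only [map_mul, map_inv, Subgroup.coe_subtype] at hyx ⊢
    rw [hyx]
    group

theorem core : ∀ (n : ℕ) (G : Type w) [Group G] [Finite G] (H K : Subgroup G), Nat.card G = n →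
    IsSupersolvable H → IsSupersolvable K → Nat.card H = Nat.card K →
    (Nat.card H).Coprime H.index → ∃ x : G, MulAut.conj x • H = K := by
  intro n
  induction n using Nat.strong_induction_on with
  | _ n ih =>
  intro G _ _ H K hn hH hK hcard hHall
  by_cases hH1 : Nat.card H = 1
  · refine ⟨1, ?_⟩
    rw [map_one, one_smul, (Subgroup.card_eq_one.1 hH1 : H = ⊥),
      (Subgroup.card_eq_one.1 (hcard ▸ hH1) : K = ⊥)]
  have hne : (Nat.card H).primeFactors.Nonempty := by
    rw [Nat.nonempty_primeFactors]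
    have := Nat.card_pos (α := H)
    omega
  set r := (Nat.card H).primeFactors.max' hne with hr
  have hrmem : r ∈ (Nat.card H).primeFactors := Finset.max'_mem _ _
  rw [Nat.mem_primeFactors] at hrmem
  haveI : Fact r.Prime := ⟨hrmem.1⟩
  have hmax : ∀ q : ℕ, q.Prime → q ∣ Nat.card H → q ≤ r := fun q hq hd =>
    Finset.le_max' _ q (Nat.mem_primeFactors.mpr ⟨hq, hd, Nat.card_pos.ne'⟩)
  have hKi : K.index = H.index := by
    have h1 := H.index_mul_card
    have h2 := K.index_mul_card
    rw [← h2, ← hcard] at h1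
    exact (Nat.eq_of_mul_eq_mul_right Nat.card_pos h1).symm
  obtain ⟨P, hPH, hHP⟩ := top_sylow H hH hHall r hrmem.2.1 hmax
  obtain ⟨P', hPK, hKP⟩ := top_sylow K hK (by rwa [hKi, ← hcard]) r (hcard ▸ hrmem.2.1) (hcard ▸ hmax)
  obtain ⟨g, hg⟩ := MulAction.exists_smul_eq G P P'
  have hgP : MulAut.conj g • (P : Subgroup G) = (P' : Subgroup G) := by
    rw [← hg]; rfl
  set H₁ := MulAut.conj g • H with hH₁
  have hPH₁ : (P' : Subgroup G) ≤ H₁ := by
    rw [← hgP]; exact Subgroup.pointwise_smul_le_pointwise_smul_iff.mpr hPH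
  set NN := Subgroup.normalizer ((P' : Subgroup G) : Set G) with hNN
  have hH₁N : H₁ ≤ NN := by
    intro x hx
    rw [hH₁, Subgroup.mem_pointwise_smul_iff_inv_smul_mem] at hx
    have hx' : g⁻¹ * x * g ∈ Subgroup.normalizer ((P : Subgroup G) : Set G) := by
      refine hHP ?_
      simpa using hx
    rw [Subgroup.mem_normalizer_iff] at hx' ⊢
    intro y
    rw [← hgP, Subgroup.mem_pointwise_smul_iff_inv_smul_mem, Subgroup.mem_pointwise_smul_iff_inv_smul_mem]
    have h1 := hx' (g⁻¹ * y * g)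
    simp only [← map_inv, MulAut.smul_def, MulAut.conj_apply, inv_inv]
    rw [show g⁻¹ * (x * y * x⁻¹) * g = g⁻¹ * x * g * (g⁻¹ * y * g) * (g⁻¹ * x * g)⁻¹ by group]
    exact h1
  have hcard₁ : Nat.card H₁ = Nat.card H := by
    rw [hH₁]
    exact (Nat.card_congr (Subgroup.equivSMul (MulAut.conj g) H).toEquiv).symm
  have hidx₁ : H₁.index = H.index := by
    have h1 := H.index_mul_card
    have h2 := H₁.index_mul_card
    rw [← h1, hcard₁] at h2
    exact Nat.eq_of_mul_eq_mul_right Nat.card_pos h2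
  let P₀ : Subgroup NN := (P' : Subgroup G).subgroupOf NN
  haveI : P₀.Normal := (Subgroup.normal_subgroupOf_iff_le_normalizer Subgroup.le_normalizer).mpr le_rfl
  let π := QuotientGroup.mk' P₀
  have hsurj : Function.Surjective π := QuotientGroup.mk'_surjective P₀
  let A := H₁.subgroupOf NN
  let B := K.subgroupOf NN
  have hPA : P₀ ≤ A := fun x hx => hPH₁ hx
  have hPB : P₀ ≤ B := fun x hx => hPK hx
  have hA : IsSupersolvable A :=
    Grp.isSupersolvable_of_injective (f := ((Subgroup.equivSMul (MulAut.conj g) H).symm.toMonoidHom).comp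
        (Subgroup.subgroupOfEquivOfLe hH₁N).toMonoidHom)
      ((Subgroup.equivSMul (MulAut.conj g) H).symm.injective.comp (Subgroup.subgroupOfEquivOfLe hH₁N).injective) hH
  have hB : IsSupersolvable B :=
    Grp.isSupersolvable_of_injective (f := (Subgroup.subgroupOfEquivOfLe hKP).toMonoidHom)
      (Subgroup.subgroupOfEquivOfLe hKP).injective hK
  have hmapc : ∀ C : Subgroup NN, P₀ ≤ C → Nat.card (C.map π) * Nat.card P₀ = Nat.card C := by
    intro C hC
    have h1 := Subgroup.index_mul_card C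
    have h2 := Subgroup.index_mul_card (C.map π)
    have h3 : (C.map π).index = C.index :=
      Subgroup.index_map_eq _ hsurj (by rw [QuotientGroup.ker_mk']; exact hC)
    have h4 := Subgroup.card_eq_card_quotient_mul_card_subgroup P₀
    rw [h3] at h2
    rw [h4, ← h2, mul_assoc] at h1
    exact (Nat.eq_of_mul_eq_mul_left (Nat.pos_of_ne_zero Subgroup.index_ne_zero_of_finite) h1).symm
  have hAc : Nat.card A = Nat.card H := by
    rw [Nat.card_congr (Subgroup.subgroupOfEquivOfLe hH₁N).toEquiv, hcard₁]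
  have hBc : Nat.card B = Nat.card H := by
    rw [Nat.card_congr (Subgroup.subgroupOfEquivOfLe hKP).toEquiv, hcard]
  have hlt : Nat.card (NN ⧸ P₀) < n := by
    have h4 := Subgroup.card_eq_card_quotient_mul_card_subgroup P₀
    have h5 : 1 < Nat.card P₀ := by
      rw [Nat.card_congr (Subgroup.subgroupOfEquivOfLe Subgroup.le_normalizer).toEquiv]
      exact (Subgroup.one_lt_card_iff_ne_bot _).2
        (P'.ne_bot_of_dvd_card (hrmem.2.1.trans H.card_subgroup_dvd_card))
    rw [← hn]
    calc Nat.card (NN ⧸ P₀) < Nat.card (NN ⧸ P₀) * Nat.card P₀ := lt_mul_of_one_lt_right Nat.card_pos h5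
      _ = Nat.card NN := h4.symm
      _ ≤ Nat.card G := Nat.le_of_dvd Nat.card_pos (Subgroup.card_subgroup_dvd_card NN)
  have hcop : (Nat.card (A.map π)).Coprime (A.map π).index := by
    rw [Subgroup.index_map_eq _ hsurj (by rw [QuotientGroup.ker_mk']; exact hPA)]
    refine (hHall.coprime_dvd_left (hAc ▸ Subgroup.card_map_dvd _ _)).coprime_dvd_right ?_
    rw [← hidx₁]
    exact Subgroup.relIndex_dvd_index_of_le hH₁N
  obtain ⟨xb, hxb⟩ := ih _ hlt (NN ⧸ P₀) (A.map π) (B.map π) rfl
    (Grp.isSupersolvable_of_surjective (π.subgroupMap_surjective A) hA)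
    (Grp.isSupersolvable_of_surjective (π.subgroupMap_surjective B) hB)
    (Nat.eq_of_mul_eq_mul_right Nat.card_pos
      ((hmapc A hPA).trans (hAc.trans (hBc.symm.trans (hmapc B hPB).symm)))) hcop
  obtain ⟨x, rfl⟩ := hsurj xb
  refine ⟨(x : G) * g, ?_⟩
  rw [map_mul, mul_smul, ← hH₁]
  have hle : ∀ a ∈ H₁, (x : G) * a * (x : G)⁻¹ ∈ K := by
    intro a ha
    have h1 : π (x * ⟨a, hH₁N ha⟩ * x⁻¹) ∈ B.map π := by
      rw [← hxb, map_mul, map_mul, map_inv]
      exact Subgroup.smul_mem_pointwise_smul _ (MulAut.conj (π x)) _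
        (Subgroup.mem_map_of_mem π (show (⟨a, hH₁N ha⟩ : NN) ∈ A from ha))
    rw [← Subgroup.mem_comap, Subgroup.comap_map_eq_self (by rw [QuotientGroup.ker_mk']; exact hPB)] at h1
    simpa [B, Subgroup.mem_subgroupOf] using h1
  refine Subgroup.eq_of_le_of_card_ge ?_ ?_
  · intro y hy
    rw [Subgroup.mem_pointwise_smul_iff_inv_smul_mem] at hy
    have := hle _ hy
    simpa [mul_assoc] using this
  · rw [← Nat.card_congr (Subgroup.equivSMul (MulAut.conj (x : G)) H₁).toEquiv, hcard₁, hcard]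

/-- Let H and K be supersolvable subgroups of a finite group G of the same order, that order being coprime to their index. Then H and K are conjugate in G. -/
theorem result {G : Type*} [Group G] [Finite G] (H K : Subgroup G) (hH : Cfsg.IsSupersolvable H) (hK : Cfsg.IsSupersolvable K) (hcard : Nat.card H = Nat.card K) (hHall : (Nat.card H).Coprime H.index) : ∃ x : G, MulAut.conj x • H = K := by
  exact core _ G H K rfl hH hK hcard hHall

end Cfsg.Agent.S0582
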