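import Cfsg.Statements.S0583
import Cfsg.Agent.Lib.Grp.Frattini
-- import your own Cfsg.Agent.* helpers here

set_option autoImplicit false
open Cfsg

namespace Cfsg.Agent.S0583

/-- In a finite group the Fitting subgroup is contained in the centralizer of each minimal normal subgroup. -/
theorem result {G : Type*} [Group G] [Finite G] (M : Subgroup G) [M.Normal] (hM : M ≠ ⊥) (hmin : ∀ K : Subgroup G, K.Normal → K ≤ M → K = ⊥ ∨ K = M) : Cfsg.fittingSubgroup G ≤ Subgroup.centralizer (M : Set G) := by
  rw [← Subgroup.commutator_eq_bot_iff_le_centralizer]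
  have hF := Cfsg.Agent.Grp.fittingSubgroup_isNormal (G := G)
  have := Cfsg.Agent.Grp.fittingSubgroup_isNilpotent (G := G)
  set F := Cfsg.fittingSubgroup G
  rcases hmin (F ⊓ M) inferInstance inf_le_right with h | h
  · exact le_bot_iff.mp ((Subgroup.commutator_le_inf F M).trans h.le)
  · have hMF : M ≤ F := h ▸ inf_le_left
    rcases hmin ⁅F, M⁆ inferInstance (Subgroup.commutator_le_right _ _) with h' | h'
    · exact h'
    exfalso
    apply hM
    obtain ⟨n, hn⟩ := (Subgroup.nilpotent_iff_lowerCentralSeries (G := ↥F)).mp inferInstance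
    have hall : ∀ k, M ≤ ((⊤ : Subgroup ↥F).lowerCentralSeries k).map F.subtype := by
      intro k
      induction k with
      | zero =>
        rw [Subgroup.lowerCentralSeries_zero, ← MonoidHom.range_eq_map, Subgroup.range_subtype]
        exact hMF
      | succ k ihk =>
        rw [Subgroup.lowerCentralSeries_succ, Subgroup.map_commutator, ← MonoidHom.range_eq_map,
          Subgroup.range_subtype, Subgroup.commutator_comm]
        exact h'.symm.le.trans (Subgroup.commutator_mono le_rfl ihk)
    exact le_bot_iff.mp ((hall n).trans (by rw [hn, Subgroup.map_bot]))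

end Cfsg.Agent.S0583
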