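import Cfsg.Statements.S0585
import Cfsg.Agent.Lib.Grp.Basic
-- import your own Cfsg.Agent.* helpers here

set_option autoImplicit false
open Cfsg

namespace Cfsg.Agent.S0585

open scoped Pointwise

/-- If the Frattini subgroup of a finite group G is trivial, then every abelian normal subgroup of G has a complement in G. -/
theorem result {G : Type*} [Group G] [Finite G] (hΦ : frattini G = ⊥) (A : Subgroup G) [A.Normal] [IsMulCommutative A] : ∃ H : Subgroup G, Subgroup.IsComplement' A H := by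
  classical
  obtain ⟨H, hH, hmin⟩ : ∃ H : Subgroup G, A ⊔ H = ⊤ ∧ ∀ H' : Subgroup G, A ⊔ H' = ⊤ → H' ≤ H → H ≤ H' := by
    obtain ⟨H, h1, h2⟩ := exists_minimal_of_wellFoundedLT (fun H : Subgroup G => A ⊔ H = ⊤) ⟨⊤, sup_top_eq _⟩
    exact ⟨H, h1, fun H' e hle => h2 e hle⟩
  set N := A ⊓ H
  have hN : N.Normal := by
    refine Subgroup.normalizer_eq_top_iff.mp (eq_top_iff.mpr (hH.ge.trans (sup_le ?_ ?_)))
    · intro a ha
      refine Subgroup.centralizer_le_normalizer _ (Subgroup.mem_centralizer_iff.mpr fun y hy => ?_)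
      exact congrArg Subtype.val (mul_comm' (⟨y, hy.1⟩ : A) ⟨a, ha⟩)
    · intro h hh
      rw [Subgroup.mem_normalizer_iff]
      intro y
      exact ⟨fun hy => ⟨Subgroup.Normal.conj_mem inferInstance y hy.1 h, H.mul_mem (H.mul_mem hh hy.2) (H.inv_mem hh)⟩,
        fun hy => ⟨by simpa [mul_assoc] using Subgroup.Normal.conj_mem (inferInstance : A.Normal) _ hy.1 h⁻¹,
          by simpa [mul_assoc] using H.mul_mem (H.mul_mem (H.inv_mem hh) hy.2) hh⟩⟩
  have hNb : N = ⊥ := by
    by_contra hne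
    obtain ⟨M, hM, hNM⟩ : ∃ M : Subgroup G, IsCoatom M ∧ ¬ N ≤ M := by
      by_contra hcon
      push Not at hcon
      refine hne (le_bot_iff.mp (hΦ ▸ ?_))
      rw [frattini, Order.radical]
      exact le_iInf₂ fun M hM => hcon M hM
    have htop : M ⊔ N = ⊤ := hM.2 _ (lt_of_le_of_ne le_sup_left fun e => hNM (e ▸ le_sup_right))
    set H' := H ⊓ M
    have hHle : H ≤ N ⊔ H' := by
      intro h hh
      obtain ⟨n, hn, m, hm, hnm⟩ := Subgroup.mem_sup_of_normal_left.mp
        (show h ∈ N ⊔ M by rw [sup_comm, htop]; trivial)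
      rw [← hnm]
      refine Subgroup.mul_mem_sup hn ⟨?_, hm⟩
      rw [show m = n⁻¹ * h by rw [← hnm]; group]
      exact H.mul_mem (H.inv_mem hn.2) hh
    have hsup : A ⊔ H' = ⊤ :=
      top_unique (hH.ge.trans (sup_le le_sup_left (hHle.trans (sup_le_sup_right inf_le_left _))))
    exact hNM ((inf_le_right : N ≤ H).trans ((hmin _ hsup inf_le_left).trans inf_le_right))
  exact ⟨H, Subgroup.isComplement'_of_disjoint_and_mul_eq_univ (disjoint_iff.mpr hNb)
    (by rw [← Subgroup.normal_mul, hH, Subgroup.coe_top])⟩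

end Cfsg.Agent.S0585
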