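import Cfsg.Statements.S0586
import Mathlib
import Cfsg.Agent.Lib.Grp.Frattini
import Cfsg.Agent.Lib.Grp.Basic
import Cfsg.Agent.Lib.Grp.Coprime
import Cfsg.Agent.Lib.Grp.Baer
import Cfsg.Agent.S0585
-- import your own Cfsg.Agent.* helpers here

set_option autoImplicit false
open Cfsg

namespace Cfsg.Agent.S0586

open scoped Pointwise commutatorElement

/-- If the Frattini subgroup of a finite group G is trivial, then the Fitting subgroup of G equals the join of all abelian minimal normal subgroups of G. -/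
theorem result {G : Type*} [Group G] [Finite G] (hΦ : frattini G = ⊥) : Cfsg.fittingSubgroup G = sSup {N : Subgroup G | N.Normal ∧ N ≠ ⊥ ∧ IsMulCommutative N ∧ ∀ K : Subgroup G, K.Normal → K ≤ N → K = ⊥ ∨ K = N} := by
  classical
  set F := fittingSubgroup G with hF
  haveI hFn : F.Normal := Cfsg.Agent.Grp.fittingSubgroup_isNormal (G := G)
  haveI : Group.IsNilpotent F := Cfsg.Agent.Grp.fittingSubgroup_isNilpotent (G := G)
  -- the Fitting subgroup is abelian
  have hcomm : ⁅F, F⁆ = ⊥ := by
    rw [eq_bot_iff, ← hΦ, frattini, Order.radical]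
    refine le_iInf₂ fun M hM => ?_
    change IsCoatom M at hM
    by_cases hFM : F ≤ M
    · exact (Subgroup.commutator_le_self F).trans hFM
    set D := F ⊓ M with hD
    set X := ⁅F, F⁆ ⊔ D with hX
    have hXF : X ≤ F := sup_le (Subgroup.commutator_le_self F) inf_le_left
    -- a maximal subgroup of `F` containing `D`
    have hDne : D.subgroupOf F ≠ ⊤ := fun h => hFM ((Subgroup.subgroupOf_eq_top.mp h).trans inf_le_right)
    obtain ⟨C, hC, hDC⟩ := (eq_top_or_exists_le_coatom _).resolve_left hDne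
    haveI := Cfsg.Agent.Grp.coatom_normal_of_nilpotent hC
    have hcC : ⁅F, F⁆ ≤ C.map F.subtype := by
      have : commutator F ≤ C := by
        haveI := Fact.mk (Cfsg.Agent.Grp.normal_index_prime_of_coatom hC)
        haveI : IsCyclic (F ⧸ C) := isCyclic_of_prime_card (p := C.index) rfl
        refine Subgroup.Normal.quotient_commutative_iff_commutator_le.mp ⟨⟨fun a b => ?_⟩⟩
        exact (IsCyclic.commGroup (α := F ⧸ C)).mul_comm a b
      rw [← Subgroup.map_subtype_commutator]
      exact Subgroup.map_mono this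
    have hXlt : X ≠ F := by
      intro h
      have hle : F ≤ C.map F.subtype := by
        refine le_trans h.ge ?_
        refine sup_le hcC ?_
        intro x hx
        exact ⟨⟨x, hx.1⟩, hDC hx, rfl⟩
      refine hC.1 (eq_top_iff.mpr fun z _ => ?_)
      obtain ⟨c, hc, he⟩ := hle z.2
      exact Subtype.ext he ▸ hc
    by_contra hcM
    -- `G = M F`, and `X M = G` would force `X = F`
    have hnorm : M ≤ Subgroup.normalizer (X : Set G) := by
      intro m hm
      rw [Cfsg.Agent.Grp.mem_normalizer_iff_smul]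
      have hFm : MulAut.conj m • F = F :=
        Cfsg.Agent.Grp.mem_normalizer_iff_smul.mp (by rw [Subgroup.normalizer_eq_top]; trivial)
      have hcm : MulAut.conj m • ⁅F, F⁆ = ⁅F, F⁆ := by
        rw [← Cfsg.Agent.Grp.map_conj_eq_smul, Subgroup.map_commutator,
          Cfsg.Agent.Grp.map_conj_eq_smul, hFm]
      rw [hX, Subgroup.smul_sup, hcm, hD, Subgroup.smul_inf, hFm,
        Cfsg.Agent.Grp.conj_smul_eq_self_of_mem hm]
    have hMX : M ⊔ X = ⊤ := hM.2 _ (lt_of_le_of_ne le_sup_left fun e => hcM (le_sup_left.trans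
      ((le_sup_right : X ≤ M ⊔ X).trans e.ge)))
    refine hXlt (le_antisymm hXF fun y hy => ?_)
    have hy' : y ∈ (↑(X ⊔ M) : Set G) := by rw [sup_comm, hMX]; trivial
    rw [Subgroup.coe_mul_of_right_le_normalizer_left X M hnorm] at hy'
    obtain ⟨a, ha, m, hm, rfl⟩ := hy'
    refine mul_mem ha (Subgroup.mem_sup_right ⟨?_, hm⟩)
    have := mul_mem (inv_mem (hXF ha)) hy
    simpa using this
  have hab : ∀ a ∈ F, ∀ b ∈ F, a * b = b * a := fun a ha b hb => by
    have := Subgroup.commutator_mem_commutator ha hb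
    rw [hcomm, Subgroup.mem_bot, commutatorElement_eq_one_iff_commute] at this
    exact this.eq
  set S := {N : Subgroup G | N.Normal ∧ N ≠ ⊥ ∧ IsMulCommutative N ∧
    ∀ K : Subgroup G, K.Normal → K ≤ N → K = ⊥ ∨ K = N} with hS
  have hSF : sSup S ≤ F := sSup_le fun N hN => by
    haveI := hN.2.2.1
    refine Cfsg.Agent.Grp.le_fittingSubgroup hN.1 ?_
    letI : CommGroup N := { (inferInstance : Group N) with mul_comm := mul_comm' }
    infer_instance
  refine le_antisymm ?_ hSF
  haveI : (sSup S).Normal := by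
    rw [← Subgroup.normalizer_eq_top_iff, eq_top_iff]
    intro g _
    rw [Cfsg.Agent.Grp.mem_normalizer_iff_smul]
    refine Subgroup.eq_of_le_of_card_ge ?_ (Cfsg.Agent.Grp.card_conj_smul g _).ge
    rw [← Cfsg.Agent.Grp.map_conj_eq_smul, Subgroup.map_le_iff_le_comap]
    refine sSup_le fun N hN => ?_
    rw [← Subgroup.map_le_iff_le_comap]
    refine le_trans ?_ (le_sSup hN)
    rintro _ ⟨x, hx, rfl⟩
    simpa using hN.1.conj_mem x hx g
  haveI : IsMulCommutative (sSup S : Subgroup G) :=
    ⟨⟨fun a b => Subtype.ext (hab a (hSF a.2) b (hSF b.2))⟩⟩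
  obtain ⟨H, hH⟩ := Cfsg.Agent.S0585.result hΦ (sSup S)
  have hFH : F ⊓ H = ⊥ := by
    by_contra hne
    haveI : (F ⊓ H).Normal := by
      rw [← Subgroup.normalizer_eq_top_iff, eq_top_iff, ← hH.sup_eq_top]
      refine sup_le ?_ ?_
      · intro a ha
        refine Subgroup.centralizer_le_normalizer _ (Subgroup.mem_centralizer_iff.mpr fun y hy => ?_)
        exact hab y hy.1 a (hSF ha)
      · exact (le_inf (by rw [Subgroup.normalizer_eq_top]; exact le_top) Subgroup.le_normalizer).trans
          (Subgroup.inf_normalizer_le_normalizer_inf (H := F) (K := H))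
    obtain ⟨K, hKn, hK0, hKle, hKmin⟩ := Cfsg.Agent.Grp.exists_minimal_normal_le hne
    haveI : IsMulCommutative K :=
      ⟨⟨fun a b => Subtype.ext (hab a (hKle a.2).1 b (hKle b.2).1)⟩⟩
    have hKS : K ≤ sSup S := le_sSup ⟨hKn, hK0, inferInstance, hKmin⟩
    exact hK0 (le_bot_iff.mp (le_trans (le_inf hKS (hKle.trans inf_le_right)) hH.disjoint.le_bot))
  intro x hx
  obtain ⟨⟨a, h⟩, he, -⟩ := hH.existsUnique x
  have hh : (h : G) ∈ F ⊓ H := by
    refine ⟨?_, h.2⟩
    have : (h : G) = (a : G)⁻¹ * x := by rw [← he]; group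
    rw [this]
    exact show _ ∈ F from mul_mem (inv_mem (hSF a.2)) hx
  rw [hFH, Subgroup.mem_bot] at hh
  simp only [hh, mul_one] at he
  rw [← he]
  exact a.2

end Cfsg.Agent.S0586
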