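import Cfsg.Statements.S0587
import Cfsg.Agent.Lib.Grp.Coprime
import Cfsg.Agent.Lib.Grp.Cores
-- import your own Cfsg.Agent.* helpers here

set_option autoImplicit false
open Cfsg

namespace Cfsg.Agent.S0587

open scoped Pointwise

/-- Let G be a finite group whose largest normal p-subgroup L is nontrivial, and M a maximal subgroup of G with trivial normal core. Then L is elementary abelian, M is a complement to L, L is a minimal normal subgroup of G, the centralizer of L is L, and for every prime q such that the largest normal q-subgroup of M is nontrivial, the order of L is congruent to 1 modulo q and q ≠ p. -/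
theorem result {G : Type*} [Group G] [Finite G] (p : ℕ) [Fact p.Prime] (hL : Cfsg.pCore p G ≠ ⊥) (M : Subgroup G) (hM : IsCoatom M) (hcore : M.normalCore = ⊥) : Cfsg.IsElementaryAbelian p (Cfsg.pCore p G) ∧ Subgroup.IsComplement' (Cfsg.pCore p G) M ∧ (∀ K : Subgroup G, K.Normal → K ≤ Cfsg.pCore p G → K = ⊥ ∨ K = Cfsg.pCore p G) ∧ Subgroup.centralizer ((Cfsg.pCore p G : Subgroup G) : Set G) = Cfsg.pCore p G ∧ ∀ (q : ℕ) [Fact q.Prime], Cfsg.pCore q ↥M ≠ ⊥ → Nat.card (Cfsg.pCore p G) % q = 1 % q ∧ q ≠ p := by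
  set L := Cfsg.pCore p G with hLdef
  have hLn : L.Normal := Cfsg.Agent.Grp.pCore_isNormal
  have hLp : IsPGroup p L := Cfsg.Agent.Grp.pCore_isPGroup
  have hsmall : ∀ K : Subgroup G, K.Normal → K ≤ M → K = ⊥ := fun K hK hKM =>
    le_bot_iff.mp (hcore ▸ Subgroup.normal_le_normalCore.mpr hKM)
  have hLM : ¬ L ≤ M := fun h => hL (hsmall L hLn h)
  have hsup : ∀ K : Subgroup G, K.Normal → K ≠ ⊥ → M ⊔ K = ⊤ := fun K hK h1 =>
    hM.2 _ (lt_of_le_of_ne le_sup_left fun e => h1 (hsmall K hK (e ▸ le_sup_right)))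
  have hD : L ⊓ M = ⊥ := by
    refine hsmall _ ?_ inf_le_right
    have hle : M ≤ Subgroup.normalizer ((L ⊓ M : Subgroup G) : Set G) := fun m hm => by
      rw [Cfsg.Agent.Grp.mem_normalizer_iff_smul, Subgroup.smul_inf, Cfsg.Agent.Grp.conj_smul_eq_self_of_mem hm,
        Cfsg.Agent.Grp.normalizer_le_smul (le_top.trans (Subgroup.normalizer_eq_top (H := L)).ge) (Subgroup.mem_top m)]
    refine Subgroup.normalizer_eq_top_iff.mp (hM.2 _ (lt_of_le_of_ne hle fun e => ?_))
    have := hLp.isNilpotent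
    have hlt : ((L ⊓ M).subgroupOf L) < ⊤ := lt_top_iff_ne_top.mpr fun h => hLM ((Subgroup.subgroupOf_eq_top.mp h).trans inf_le_right)
    obtain ⟨y, hy, hyN⟩ := SetLike.exists_of_lt (Group.normalizerCondition_of_isNilpotent _ hlt)
    refine hyN (show (y : G) ∈ L ⊓ M from ⟨y.2, ?_⟩)
    rw [e]
    refine Subgroup.mem_normalizer_iff.mpr fun w => ?_
    by_cases hw : w ∈ L
    · exact Subgroup.mem_normalizer_iff.mp hy ⟨w, hw⟩
    · refine iff_of_false (fun h => hw h.1) fun h => hw ?_
      simpa [mul_assoc] using hLn.conj_mem _ h.1 (y : G)⁻¹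
  have hcompl : Subgroup.IsComplement' L M := Subgroup.isComplement'_of_disjoint_and_mul_eq_univ
    (disjoint_iff.mpr hD) (by rw [← Subgroup.normal_mul, sup_comm, hsup L hLn hL, Subgroup.coe_top])
  have hmin : ∀ K : Subgroup G, K.Normal → K ≤ L → K = ⊥ ∨ K = L := by
    intro K hK hKL
    refine or_iff_not_imp_left.mpr fun h1 => le_antisymm hKL fun l hl => ?_
    obtain ⟨k, hk, m, hm, rfl⟩ := Subgroup.mem_sup_of_normal_left.mp (show l ∈ K ⊔ M by rw [sup_comm, hsup K hK h1]; trivial)
    have : m ∈ L ⊓ M := ⟨by simpa using L.mul_mem (L.inv_mem (hKL hk)) hl, hm⟩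
    rw [hD, Subgroup.mem_bot] at this
    rw [this, mul_one]; exact hk
  have hnontriv : Nontrivial L := (Subgroup.nontrivial_iff_ne_bot L).mpr hL
  have hcomm : IsMulCommutative L := by
    set Z := (Subgroup.center L).map L.subtype
    rcases hmin Z inferInstance (Subgroup.map_subtype_le _) with h | h
    · exact absurd ((Subgroup.map_eq_bot_iff_of_injective _ (Subgroup.subtype_injective L)).mp h)
        ((Subgroup.nontrivial_iff_ne_bot _).mp hLp.center_nontrivial)
    · refine ⟨⟨fun a b => ?_⟩⟩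
      obtain ⟨c, hc, hcb⟩ : (b : G) ∈ Z := h.symm ▸ b.2
      rw [← Subtype.ext hcb]
      exact Subgroup.mem_center_iff.mp hc a
  have hexp : ∀ x ∈ L, x ^ p = 1 := by
    have hc : ∀ a b : L, a * b = b * a := fun a b => mul_comm' a b
    let φ : L →* L :=
      { toFun := fun x => x ^ p, map_one' := one_pow p, map_mul' := fun a b => Commute.mul_pow (hc a b) p }
    have hkn : (φ.ker.map L.subtype).Normal := by
      refine ⟨?_⟩
      rintro _ ⟨z, hz, rfl⟩ g
      refine ⟨⟨g * z * g⁻¹, hLn.conj_mem z z.2 g⟩, ?_, rfl⟩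
      have hz' : z ^ p = 1 := hz
      exact Subtype.ext (by
        show ((⟨g * z * g⁻¹, hLn.conj_mem z z.2 g⟩ : L) ^ p : L).1 = ((1 : L) : G)
        rw [SubgroupClass.coe_pow, conj_pow, ← SubgroupClass.coe_pow, hz']
        simp)
    rcases hmin _ hkn (Subgroup.map_subtype_le _) with h | h
    · exfalso
      have hd : p ∣ Nat.card L := by
        obtain ⟨k, hk⟩ := IsPGroup.iff_card.mp hLp
        have hk0 : k ≠ 0 := fun e => hL (Subgroup.card_eq_one.mp (by rw [hk, e, pow_zero]))
        exact hk ▸ dvd_pow_self p hk0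
      obtain ⟨z, hz⟩ := exists_prime_orderOf_dvd_card' (G := L) p hd
      have : z ∈ φ.ker := by show z ^ p = 1; rw [← hz, pow_orderOf_eq_one]
      rw [(Subgroup.map_eq_bot_iff_of_injective _ (Subgroup.subtype_injective L)).mp h, Subgroup.mem_bot] at this
      rw [this, orderOf_one] at hz
      exact (Fact.out : p.Prime).ne_one hz.symm
    · intro x hx
      obtain ⟨z, hz, rfl⟩ : x ∈ φ.ker.map L.subtype := h.symm ▸ hx
      simpa using congrArg Subtype.val (show z ^ p = 1 from hz)
  have hLC : L ≤ Subgroup.centralizer (L : Set G) := fun a ha =>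
    Subgroup.mem_centralizer_iff.mpr fun b hb => congrArg Subtype.val (mul_comm' (⟨b, hb⟩ : L) ⟨a, ha⟩)
  have hCM : Subgroup.centralizer (L : Set G) ⊓ M = ⊥ := by
    refine hsmall _ ?_ inf_le_right
    refine Subgroup.normalizer_eq_top_iff.mp (top_unique ((hsup L hLn hL).ge.trans (sup_le ?_ ?_)))
    · intro m hm
      rw [Cfsg.Agent.Grp.mem_normalizer_iff_smul, Subgroup.smul_inf, Cfsg.Agent.Grp.conj_smul_eq_self_of_mem hm,
        Cfsg.Agent.Grp.normalizer_le_smul (le_top.trans (Subgroup.normalizer_eq_top (H := Subgroup.centralizer (L : Set G))).ge) (Subgroup.mem_top m)]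
    · exact fun l hl => Subgroup.centralizer_le_normalizer _ (Subgroup.mem_centralizer_iff.mpr fun y hy =>
        (Subgroup.mem_centralizer_iff.mp hy.1 l hl).symm)
  have hCeq : Subgroup.centralizer (L : Set G) = L := by
    refine le_antisymm (fun c hc => ?_) hLC
    obtain ⟨l, hl, m, hm, rfl⟩ := Subgroup.mem_sup_of_normal_left.mp (show c ∈ L ⊔ M by rw [sup_comm, hsup L hLn hL]; trivial)
    have : m ∈ Subgroup.centralizer (L : Set G) ⊓ M :=
      ⟨by simpa using Subgroup.mul_mem _ (Subgroup.inv_mem _ (hLC hl)) hc, hm⟩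
    rw [hCM, Subgroup.mem_bot] at this
    rw [this, mul_one]; exact hl
  refine ⟨⟨hcomm, hexp⟩, hcompl, hmin, hCeq, fun q _ hq => ?_⟩
  set Q := (Cfsg.pCore q M).map M.subtype with hQ
  have hQp : IsPGroup q Q := (Cfsg.Agent.Grp.pCore_isPGroup (p := q) (G := M)).map _
  let _ : MulAction Q L :=
    { smul := fun a l => ⟨(a : G) * l * (a : G)⁻¹, hLn.conj_mem l l.2 a⟩
      one_smul := fun l => Subtype.ext (show (1 : G) * l * (1 : G)⁻¹ = l by simp)
      mul_smul := fun a b l => Subtype.ext (show ((a * b : Q) : G) * l * ((a * b : Q) : G)⁻¹ =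
        (a : G) * ((b : G) * l * (b : G)⁻¹) * (a : G)⁻¹ by simp [mul_assoc]) }
  have hmod := hQp.card_modEq_card_fixedPoints L
  have hQn : M ≤ Subgroup.normalizer (Q : Set G) := by
    have hn := Cfsg.Agent.Grp.pCore_isNormal (p := q) (G := M)
    intro m hm
    rw [Cfsg.Agent.Grp.mem_normalizer_iff_smul, hQ, show m = M.subtype ⟨m, hm⟩ from rfl, Cfsg.Agent.Grp.conj_smul_map,
      Cfsg.Agent.Grp.normalizer_le_smul (le_top.trans (Subgroup.normalizer_eq_top (H := Cfsg.pCore q M)).ge) (Subgroup.mem_top (⟨m, hm⟩ : M))]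
  have hfix : L ⊓ Subgroup.centralizer (Q : Set G) = ⊥ := by
    have hn : (L ⊓ Subgroup.centralizer (Q : Set G)).Normal := by
      refine Subgroup.normalizer_eq_top_iff.mp (top_unique ((hsup L hLn hL).ge.trans (sup_le ?_ ?_)))
      · intro m hm
        have hm' := hQn hm
        rw [Subgroup.mem_normalizer_iff]
        intro y
        have key : y ∈ Subgroup.centralizer (Q : Set G) ↔ m * y * m⁻¹ ∈ Subgroup.centralizer (Q : Set G) := by
          simp only [Subgroup.mem_centralizer_iff]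
          constructor
          · intro hy w hw
            have := hy _ ((Subgroup.mem_normalizer_iff''.mp hm' w).mp hw)
            calc w * (m * y * m⁻¹) = m * ((m⁻¹ * w * m) * y) * m⁻¹ := by group
              _ = m * (y * (m⁻¹ * w * m)) * m⁻¹ := by rw [this]
              _ = m * y * m⁻¹ * w := by group
          · intro hy w hw
            have := hy _ ((Subgroup.mem_normalizer_iff.mp hm' w).mp hw)
            calc w * y = m⁻¹ * ((m * w * m⁻¹) * (m * y * m⁻¹)) * m := by group
              _ = m⁻¹ * ((m * y * m⁻¹) * (m * w * m⁻¹)) * m := by rw [this]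
              _ = y * w := by group
        simp only [Subgroup.mem_inf]
        refine and_congr ⟨fun h => hLn.conj_mem y h m, fun h => ?_⟩ key
        simpa [mul_assoc] using hLn.conj_mem _ h m⁻¹
      · exact fun l hl => Subgroup.centralizer_le_normalizer _ (Subgroup.mem_centralizer_iff.mpr fun y hy =>
          congrArg Subtype.val (mul_comm' (⟨y, hy.1⟩ : L) ⟨l, hl⟩))
    refine (hmin _ hn inf_le_left).resolve_right fun h => hq ?_
    have hQ1 : Q ≤ Subgroup.centralizer (L : Set G) ⊓ M :=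
      le_inf (Subgroup.le_centralizer_iff.mp (h.ge.trans inf_le_right)) (Subgroup.map_subtype_le _)
    rw [hCM, le_bot_iff] at hQ1
    exact (Subgroup.map_eq_bot_iff_of_injective _ (Subgroup.subtype_injective M)).mp hQ1
  have hone : Nat.card (MulAction.fixedPoints Q L) = 1 := by
    rw [Nat.card_eq_one_iff_unique]
    refine ⟨⟨?_⟩, ⟨⟨1, fun a => Subtype.ext (show (a : G) * (1 : G) * (a : G)⁻¹ = 1 by simp)⟩⟩⟩
    have : ∀ l ∈ MulAction.fixedPoints Q L, (l : L) = 1 := by
      intro l hl
      refine Subtype.ext (Subgroup.mem_bot.mp (hfix ▸ (⟨l.2, Subgroup.mem_centralizer_iff.mpr fun a ha => ?_⟩ :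
        (l : G) ∈ L ⊓ Subgroup.centralizer (Q : Set G))))
      exact mul_inv_eq_iff_eq_mul.mp (congrArg Subtype.val (hl ⟨a, ha⟩))
    exact fun a b => Subtype.ext ((this _ a.2).trans (this _ b.2).symm)
  rw [hone] at hmod
  refine ⟨hmod, ?_⟩
  rintro rfl
  obtain ⟨k, hk⟩ := IsPGroup.iff_card.mp hLp
  have hk0 : k ≠ 0 := fun e => hL (Subgroup.card_eq_one.mp (by rw [hk, e, pow_zero]))
  have h0 : q ∣ Nat.card L := hk ▸ dvd_pow_self q hk0
  have hmod' : Nat.card L % q = 1 % q := hmod
  rw [Nat.mod_eq_zero_of_dvd h0, Nat.mod_eq_of_lt (Fact.out : q.Prime).one_lt] at hmod' 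
  omega

end Cfsg.Agent.S0587
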