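import Cfsg.Statements.S0588
import Cfsg.Agent.Lib.Grp.Coprime
-- import your own Cfsg.Agent.* helpers here

set_option autoImplicit false
open Cfsg

namespace Cfsg.Agent.S0588

open scoped Pointwise

/-- If a subgroup H of a finite group G contains the centralizer of every non-identity element of H, then the order of H is coprime to its index. -/
theorem result {G : Type*} [Group G] [Finite G] (H : Subgroup G) (h : ∀ x ∈ H, x ≠ 1 → Subgroup.centralizer ({x} : Set G) ≤ H) : (Nat.card H).Coprime H.index := by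
  refine Nat.coprime_of_dvd fun p hp hpH hpI => ?_
  have := Fact.mk hp
  obtain ⟨P⟩ : Nonempty (Sylow p H) := Sylow.nonempty
  set P' := (P : Subgroup H).map H.subtype with hP'
  obtain ⟨R, hR⟩ := (P.isPGroup'.map H.subtype).exists_le_sylow
  have hPb : P' ≠ ⊥ := by
    rw [Ne, Subgroup.map_eq_bot_iff_of_injective _ (Subgroup.subtype_injective H)]
    exact P.ne_bot_of_dvd_card hpH
  obtain ⟨⟨x, hxP⟩, hx⟩ := Subgroup.ne_bot_iff_exists_ne_one.mp hPb
  have hx1 : x ≠ 1 := fun e => hx (Subtype.ext e)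
  have hRb : Nontrivial (R : Subgroup G) := ⟨⟨⟨x, hR hxP⟩, 1, fun e => hx1 (congrArg Subtype.val e)⟩⟩
  obtain ⟨z, hz, hz1⟩ := (Subgroup.nontrivial_iff_exists_ne_one _).mp R.isPGroup'.center_nontrivial
  have hxz : (z : G) ∈ Subgroup.centralizer {x} := by
    rw [Subgroup.mem_centralizer_singleton_iff]
    exact (congrArg Subtype.val (Subgroup.mem_center_iff.mp hz ⟨x, hR hxP⟩)).symm
  have hzH : (z : G) ∈ H := h x (Subgroup.map_subtype_le _ hxP) hx1 hxz
  have hRH : (R : Subgroup G) ≤ H := by
    intro y hy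
    refine h z hzH (fun e => hz1 (Subtype.ext e)) ?_
    rw [Subgroup.mem_centralizer_singleton_iff]
    exact congrArg Subtype.val (Subgroup.mem_center_iff.mp hz ⟨y, hy⟩)
  exact R.not_dvd_index (hpI.trans (Subgroup.index_dvd_of_le hRH))

end Cfsg.Agent.S0588
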