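import Cfsg.Statements.S0590
import Mathlib

set_option maxHeartbeats 1000000
set_option maxRecDepth 8000

set_option autoImplicit false
open Cfsg
open scoped commutatorElement

namespace Cfsg.Agent.S0590

/-- Quadratic action on an elementary abelian p-group forces the acting group modulo the kernel of the action to be elementary abelian. -/
theorem result {G : Type*} [Group G] [Finite G] {p : ℕ} [Fact p.Prime] (V H : Subgroup G) (hV : Cfsg.IsElementaryAbelian p V) (hHV : H ≤ Subgroup.normalizer (V : Set G)) (hq : ⁅⁅V, H⁆, H⁆ = ⊥) : ⁅H, H⁆ ≤ Subgroup.centralizer (V : Set G) ∧ ∀ a ∈ H, a ^ p ∈ Subgroup.centralizer (V : Set G) := by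
  have hab : ∀ x ∈ V, ∀ y ∈ V, x * y = y * x := fun x hx y hy => congrArg Subtype.val (hV.1.is_comm.comm ⟨x, hx⟩ ⟨y, hy⟩)
  have hd : ∀ h ∈ H, ∀ v ∈ V, h * v * h⁻¹ * v⁻¹ ∈ V := fun h hh v hv =>
    mul_mem ((Subgroup.mem_normalizer_iff.1 (hHV hh) v).1 hv) (inv_mem hv)
  have hfix : ∀ h ∈ H, ∀ k ∈ H, ∀ v ∈ V, k * (h * v * h⁻¹ * v⁻¹) * k⁻¹ = h * v * h⁻¹ * v⁻¹ := by
    intro h hh k hk v hv
    have h1 : h * v * h⁻¹ * v⁻¹ ∈ ⁅V, H⁆ := by
      rw [Subgroup.commutator_comm]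
      exact Subgroup.commutator_mem_commutator hh hv
    have h2 := Subgroup.commutator_mem_commutator h1 hk
    rw [hq, Subgroup.mem_bot, commutatorElement_eq_one_iff_mul_comm] at h2
    rw [← h2, mul_inv_cancel_right]
  -- the displacements add up
  have hmul : ∀ h ∈ H, ∀ k ∈ H, ∀ v ∈ V,
      (k * h) * v * (k * h)⁻¹ = (h * v * h⁻¹ * v⁻¹) * (k * v * k⁻¹ * v⁻¹) * v := by
    intro h hh k hk v hv
    calc (k * h) * v * (k * h)⁻¹ = (k * (h * v * h⁻¹ * v⁻¹) * k⁻¹) * (k * v * k⁻¹ * v⁻¹) * v := by group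
      _ = _ := by rw [hfix h hh k hk v hv]
  have hcomm : ∀ h ∈ H, ∀ k ∈ H, ∀ v ∈ V, (k * h) * v * (k * h)⁻¹ = (h * k) * v * (h * k)⁻¹ := by
    intro h hh k hk v hv
    rw [hmul h hh k hk v hv, hmul k hk h hh v hv, hab _ (hd h hh v hv) _ (hd k hk v hv)]
  constructor
  · rw [Subgroup.commutator_le]
    intro h hh k hk
    refine Subgroup.mem_centralizer_iff.2 fun v hv => ?_
    have h1 := hcomm h hh k hk _ ((Subgroup.mem_normalizer_iff.1 (hHV (inv_mem (mul_mem hk hh))) v).1 hv)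
    have h2 : ⁅h, k⁆ * v * ⁅h, k⁆⁻¹ = v := by
      rw [commutatorElement_def]
      simp only [inv_inv] at h1
      calc h * k * h⁻¹ * k⁻¹ * v * (h * k * h⁻¹ * k⁻¹)⁻¹ = (h * k) * ((k * h)⁻¹ * v * (k * h)) * (h * k)⁻¹ := by group
        _ = (k * h) * ((k * h)⁻¹ * v * (k * h)) * (k * h)⁻¹ := h1.symm
        _ = v := by group
    exact (mul_inv_eq_iff_eq_mul.1 h2).symm
  · intro a ha
    refine Subgroup.mem_centralizer_iff.2 fun v hv => ?_
    set d := a * v * a⁻¹ * v⁻¹ with hd0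
    have hpow : ∀ m : ℕ, a ^ m * v * (a ^ m)⁻¹ = d ^ m * v := by
      intro m
      induction m with
      | zero => simp
      | succ m ih =>
        have hdm : a * d ^ m * a⁻¹ = d ^ m := by rw [← conj_pow, hd0, hfix a ha a ha v hv]
        calc a ^ (m + 1) * v * (a ^ (m + 1))⁻¹ = a * (a ^ m * v * (a ^ m)⁻¹) * a⁻¹ := by rw [pow_succ']; group
          _ = (a * d ^ m * a⁻¹) * (a * v * a⁻¹ * v⁻¹) * v := by rw [ih]; group
          _ = _ := by rw [hdm, ← hd0, pow_succ]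
    have h1 := hpow p
    rw [hd0, hV.2 _ (hd a ha v hv), one_mul] at h1
    exact (mul_inv_eq_iff_eq_mul.1 h1).symm

end Cfsg.Agent.S0590
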