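import Cfsg.Statements.S0591
import Mathlib

set_option maxHeartbeats 1000000
set_option maxRecDepth 8000

set_option autoImplicit false
open Cfsg
open scoped commutatorElement

namespace Cfsg.Agent.S0591

/-- For a quadratically acting element a on an elementary abelian p-group V, the fixed points C_V(a) have order at least the square root of the order of V. -/
theorem result {G : Type*} [Group G] [Finite G] {p : ℕ} [Fact p.Prime] (V : Subgroup G) (hV : Cfsg.IsElementaryAbelian p V) (a : G) (ha : a ∈ Subgroup.normalizer (V : Set G)) (hq : ⁅⁅V, Subgroup.zpowers a⁆, Subgroup.zpowers a⁆ = ⊥) : Nat.card V ≤ Nat.card ↥(V ⊓ Subgroup.centralizer (Subgroup.zpowers a : Set G)) ^ 2 := by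
  have hab : ∀ x ∈ V, ∀ y ∈ V, x * y = y * x := fun x hx y hy => congrArg Subtype.val (hV.1.is_comm.comm ⟨x, hx⟩ ⟨y, hy⟩)
  have hd : ∀ v ∈ V, a * v * a⁻¹ * v⁻¹ ∈ V := fun v hv =>
    mul_mem ((Subgroup.mem_normalizer_iff.1 ha v).1 hv) (inv_mem hv)
  set C := V ⊓ Subgroup.centralizer (Subgroup.zpowers a : Set G)
  have hC : ∀ v ∈ V, a * v * a⁻¹ = v → v ∈ C := fun v hv hfix => ⟨hv, Subgroup.mem_centralizer_iff.2 fun b hb => by
    obtain ⟨i, rfl⟩ := Subgroup.mem_zpowers_iff.1 hb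
    exact ((show Commute a v from mul_inv_eq_iff_eq_mul.1 hfix).zpow_left i).eq⟩
  let φ : V →* V :=
    { toFun := fun v => ⟨a * v * a⁻¹ * (v : G)⁻¹, hd v v.2⟩
      map_one' := Subtype.ext (by simp)
      map_mul' := fun v w => Subtype.ext (by
        show a * ((v : G) * w) * a⁻¹ * ((v : G) * w)⁻¹ = a * v * a⁻¹ * (v : G)⁻¹ * (a * w * a⁻¹ * (w : G)⁻¹)
        calc a * ((v : G) * w) * a⁻¹ * ((v : G) * w)⁻¹ = a * v * a⁻¹ * ((a * w * a⁻¹ * (w : G)⁻¹) * (v : G)⁻¹) := by group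
          _ = a * v * a⁻¹ * ((v : G)⁻¹ * (a * w * a⁻¹ * (w : G)⁻¹)) := by rw [hab _ (hd w w.2) _ (inv_mem v.2)]
          _ = _ := by group) }
  rw [← φ.ker.card_mul_index, Subgroup.index_ker, pow_two]
  refine Nat.mul_le_mul ?_ ?_
  · exact Nat.card_le_card_of_injective (fun v : φ.ker => (⟨((v : V) : G), hC _ v.1.2 (mul_inv_eq_one.1 (congrArg (fun u : V => (u : G)) (MonoidHom.mem_ker.1 v.2)))⟩ : C))
      fun v w h => Subtype.ext (Subtype.ext (congrArg (fun u : C => (u : G)) h))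
  · refine Nat.card_le_card_of_injective (fun v : φ.range => (⟨((v : V) : G), hC _ v.1.2 ?_⟩ : C))
      fun v w h => Subtype.ext (Subtype.ext (congrArg (fun u : C => (u : G)) h))
    obtain ⟨_, u, rfl⟩ := v
    have h1 : a * (u : G) * a⁻¹ * (u : G)⁻¹ ∈ ⁅V, Subgroup.zpowers a⁆ := by
      rw [Subgroup.commutator_comm]
      exact Subgroup.commutator_mem_commutator (Subgroup.mem_zpowers a) u.2
    have h2 := Subgroup.commutator_mem_commutator h1 (Subgroup.mem_zpowers a)
    rw [hq, Subgroup.mem_bot, commutatorElement_eq_one_iff_mul_comm] at h2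
    show a * (a * u * a⁻¹ * (u : G)⁻¹) * a⁻¹ = a * u * a⁻¹ * (u : G)⁻¹
    rw [← h2, mul_inv_cancel_right]

end Cfsg.Agent.S0591
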