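import Cfsg.Statements.S0592
import Mathlib
import Cfsg.Agent.Lib.Grp.Quadratic
-- import your own Cfsg.Agent.* helpers here

set_option autoImplicit false
open Cfsg

namespace Cfsg.Agent.S0592

open Cfsg.Agent.Grp in
theorem Cfsg.Agent.Grp.Quad.scalar_of_orderOf {K W : Type*} [Field K] [Fintype K] [AddCommGroup W] [Module K W]
    [Nontrivial W] [Finite W] {p : ℕ} [Fact p.Prime] [CharP K p] {g : Module.End K W} {e k : ℕ}
    (hg : g ^ (p ^ e * k) = 1) (hk : k ∣ Fintype.card K - 1) : ∃ μ, g.HasEigenvalue μ := by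
  classical
  open Polynomial in
  have hdvd : minpoly K g ∣ (X ^ Fintype.card K - X : K[X]) ^ p ^ e := by
    refine dvd_trans (minpoly.dvd K g (p := (X ^ k - 1 : K[X]) ^ p ^ e) ?_) (pow_dvd_pow_of_dvd ?_ _)
    · rw [sub_pow_char_pow, ← pow_mul, one_pow, map_sub, map_one, map_pow, aeval_X, mul_comm k, hg, sub_self]
    · obtain ⟨j, hj⟩ := hk
      have h1 : (X ^ k - 1 : K[X]) ∣ X ^ (Fintype.card K - 1) - 1 := by
        rw [hj, pow_mul]; exact sub_one_dvd_pow_sub_one _ _
      refine h1.trans ⟨X, ?_⟩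
      rw [sub_mul, one_mul, ← pow_succ, Nat.sub_add_cancel Fintype.card_pos]
  have hne : ((Polynomial.X ^ Fintype.card K - Polynomial.X : Polynomial K)) ≠ 0 :=
    FiniteField.X_pow_card_sub_X_ne_zero K Fintype.one_lt_card
  have hsp : (Polynomial.X ^ Fintype.card K - Polynomial.X : Polynomial K).Splits := by
    rw [Polynomial.splits_iff_card_roots, FiniteField.roots_X_pow_card_sub_X,
      FiniteField.X_pow_card_sub_X_natDegree_eq K Fintype.one_lt_card]
    rfl
  obtain ⟨μ, hμ⟩ := ((hsp.pow (p ^ e)).of_dvd (pow_ne_zero _ hne) hdvd).exists_eval_eq_zero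
    (minpoly.degree_pos (Algebra.IsIntegral.isIntegral g)).ne'
  exact ⟨μ, Module.End.hasEigenvalue_of_isRoot hμ⟩

/-- Two quadratically acting generators of a linear group that is not a p-group, with the p'-part of the order of their product dividing q - 1, give a homomorphism onto a subgroup of SL(2, q) that is not a p-group. -/
theorem result {K : Type*} [Field K] [Fintype K] {p : ℕ} [Fact p.Prime] [CharP K p] {W : Type*} [AddCommGroup W] [Module K W] [FiniteDimensional K W] [Finite W] [Nontrivial W] (H : Subgroup (W ≃ₗ[K] W)) (a b : W ≃ₗ[K] W) (hH : H = Subgroup.closure {a, b}) (ha : ∀ w : W, a (a w - w) = a w - w) (hb : ∀ w : W, b (b w - w) = b w - w) (hnp : ¬ IsPGroup p H) (hk : ∃ e k : ℕ, orderOf (a * b) = p ^ e * k ∧ k ∣ Fintype.card K - 1) : ∃ φ : H →* Matrix.SpecialLinearGroup (Fin 2) K, ¬ IsPGroup p φ.range := by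
  classical
  subst hH
  haveI : Finite (W ≃ₗ[K] W) := Finite.of_injective (fun e : W ≃ₗ[K] W => (e : W → W)) DFunLike.coe_injective
  set H := Subgroup.closure ({a, b} : Set (W ≃ₗ[K] W))
  let ρ : H →* Module.End K W :=
    { toFun := fun h => (h : W ≃ₗ[K] W).toLinearMap
      map_one' := LinearMap.ext fun w => rfl
      map_mul' := fun h h' => LinearMap.ext fun w => rfl }
  let a' : H := ⟨a, Subgroup.subset_closure (by simp)⟩
  let b' : H := ⟨b, Subgroup.subset_closure (by simp)⟩
  have hgen : Subgroup.closure ({a', b'} : Set H) = ⊤ := by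
    refine Subgroup.map_injective H.subtype_injective ?_
    rw [MonoidHom.map_closure, Set.image_pair, ← MonoidHom.range_eq_map, Subgroup.range_subtype]
    rfl
  obtain ⟨y, hy⟩ := not_forall.mp hnp
  obtain ⟨n, m, hm, hnm⟩ := Nat.exists_eq_pow_mul_and_not_dvd (orderOf_pos y).ne' p (Fact.out : p.Prime).ne_one
  set x := y ^ p ^ n
  have hx1 : x ≠ 1 := fun e => hy ⟨n, e⟩
  have hxp : (orderOf x).Coprime p := by
    rw [orderOf_pow' y (pow_ne_zero _ (Fact.out : p.Prime).ne_zero), hnm, Nat.gcd_mul_right_left,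
      Nat.mul_div_cancel_left _ (pow_pos (Fact.out : p.Prime).pos n)]
    exact ((Fact.out : p.Prime).coprime_iff_not_dvd.mpr hm).symm
  have hρx : ρ x ≠ 1 := fun e => hx1 (Subtype.ext (LinearEquiv.ext fun w => LinearMap.congr_fun e w))
  obtain ⟨T, U', σ, hσ, hirr, hσx⟩ := Cfsg.Agent.Grp.Quad.exists_irred_quot ρ hρx hxp
  haveI : Finite (T ⧸ U') := Finite.of_surjective _ (Submodule.Quotient.mk_surjective U')
  obtain ⟨q, hq⟩ := not_forall.mp (fun h => hσx (LinearMap.ext h))
  haveI : Nontrivial (T ⧸ U') := ⟨⟨_, _, hq⟩⟩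
  have hquad : ∀ c : H, (∀ w : W, (c : W ≃ₗ[K] W) ((c : W ≃ₗ[K] W) w - w) = (c : W ≃ₗ[K] W) w - w) →
      ∀ w, σ c (σ c w - w) = σ c w - w := by
    intro c hc w
    obtain ⟨w, rfl⟩ := Submodule.Quotient.mk_surjective _ w
    obtain ⟨h1, e1⟩ := hσ c w
    rw [e1, ← Submodule.Quotient.mk_sub]
    obtain ⟨h2, e2⟩ := hσ c (⟨ρ c w, h1⟩ - w)
    rw [e2]
    exact congrArg _ (Subtype.ext (hc w))
  have hqa := hquad a' ha
  have hqb := hquad b' hb
  obtain ⟨e, k, hek, hkq⟩ := hk
  have hpow : (σ (a' * b')) ^ (p ^ e * k) = 1 := by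
    rw [← map_pow, show (a' * b') ^ (p ^ e * k) = 1 from Subtype.ext (by
      rw [SubmonoidClass.coe_pow, Subgroup.coe_mul, ← hek, pow_orderOf_eq_one, Subgroup.coe_one]), map_one]
  obtain ⟨μ, hμ⟩ := Cfsg.Agent.Grp.Quad.scalar_of_orderOf hpow hkq
  obtain ⟨v, hv⟩ := hμ.exists_hasEigenvector
  have hμ0 : μ ≠ 0 := by
    rintro rfl
    have h := congrArg (σ (a' * b')⁻¹) hv.apply_eq_smul
    rw [zero_smul, map_zero, ← Module.End.mul_apply, ← map_mul, inv_mul_cancel, map_one, Module.End.one_apply] at h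
    exact hv.2 h
  set S : Module.End K (T ⧸ U') := (σ a' - 1) * (σ b' - 1) + (σ b' - 1) * (σ a' - 1) with hS
  have hinv : ∀ c : H, (∀ w, σ c (σ c w - w) = σ c w - w) → ∀ w, σ c⁻¹ w = w - (σ c w - w) := by
    intro c hc w
    have h : σ c (w - (σ c w - w)) = w := by rw [map_sub, hc]; abel
    conv_lhs => rw [← h]
    rw [← Module.End.mul_apply, ← map_mul, inv_mul_cancel, map_one, Module.End.one_apply]
  have hSab : ∀ w, S w = σ (a' * b') w + σ (a' * b')⁻¹ w - (w + w) := by
    intro w
    rw [mul_inv_rev, map_mul, map_mul, Module.End.mul_apply, Module.End.mul_apply, hinv a' hqa, hinv b' hqb, hS]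
    simp only [LinearMap.add_apply, Module.End.mul_apply, LinearMap.sub_apply, Module.End.one_apply, map_sub]
    abel
  set c₀ : K := μ + μ⁻¹ - 2
  have hSv : S v = c₀ • v := by
    have h1 := hv.apply_eq_smul
    have h2 : σ (a' * b')⁻¹ v = μ⁻¹ • v := by
      have h := congrArg (σ (a' * b')⁻¹) h1
      rw [← Module.End.mul_apply, ← map_mul, inv_mul_cancel, map_one, Module.End.one_apply, map_smul] at h
      rw [eq_inv_smul_iff₀ hμ0, ← h]
    rw [hSab, h1, h2, sub_smul, add_smul, two_smul]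
  have hcomm : ∀ g : H, Commute (σ g) S := by
    intro g
    have hq' : ∀ c, (∀ w, σ c (σ c w - w) = σ c w - w) → (σ c - 1) * (σ c - 1) = 0 := fun c hc =>
      LinearMap.ext fun w => by simp [sub_eq_zero, hc w]
    have hg : g ∈ Subgroup.closure ({a', b'} : Set H) := hgen ▸ Subgroup.mem_top g
    induction hg using Subgroup.closure_induction with
    | mem z hz =>
      rcases hz with rfl | rfl
      · have h := hq' a' hqa
        have : Commute (σ a' - 1) S := by
          show _ * _ = _ * _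
          rw [hS, mul_add, add_mul, ← mul_assoc, h, zero_mul, zero_add, mul_assoc (σ b' - 1), h, mul_zero,
            add_zero, mul_assoc]
        simpa using this.add_left (Commute.one_left S)
      · have h := hq' b' hqb
        have : Commute (σ b' - 1) S := by
          show _ * _ = _ * _
          rw [hS, mul_add, add_mul, ← mul_assoc (σ b' - 1) (σ b' - 1), h, zero_mul, add_zero,
            mul_assoc (σ a' - 1), h, mul_zero, zero_add, mul_assoc]
        simpa using this.add_left (Commute.one_left S)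
    | one => simp
    | mul x y _ _ hx hy => rw [map_mul]; exact hx.mul_left hy
    | inv x _ hx =>
      show σ x⁻¹ * S = S * σ x⁻¹
      calc σ x⁻¹ * S = σ x⁻¹ * (S * σ x) * σ x⁻¹ := by
            rw [mul_assoc, mul_assoc, ← map_mul, mul_inv_cancel, map_one, mul_one]
        _ = σ x⁻¹ * (σ x * S) * σ x⁻¹ := by rw [hx.eq]
        _ = S * σ x⁻¹ := by rw [← mul_assoc, ← map_mul, inv_mul_cancel, map_one, one_mul]
  have hscal : ∀ w, S w = c₀ • w := by
    have htop : LinearMap.ker (S - c₀ • 1) = ⊤ := (hirr _ fun g z hz => by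
      simp only [LinearMap.mem_ker, LinearMap.sub_apply, LinearMap.smul_apply, Module.End.one_apply] at hz ⊢
      rw [← Module.End.mul_apply, ← (hcomm g).eq, Module.End.mul_apply, ← map_smul, ← map_sub, hz, map_zero]).resolve_left fun h => hv.2 (by
        rw [← Submodule.mem_bot (R := K), ← h, LinearMap.mem_ker]
        simp [hSv])
    intro w
    have := htop.ge (Submodule.mem_top (x := w))
    simpa [sub_eq_zero] using this
  obtain ⟨E, φ, -, -, -, hE⟩ := Cfsg.Agent.Grp.Quad.rank_two σ hgen hqa hqb hirr ⟨x, q, hq⟩ c₀ (fun w => by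
    rw [← hscal, hS]
    simp only [LinearMap.add_apply, Module.End.mul_apply, LinearMap.sub_apply, Module.End.one_apply])
  refine ⟨φ, fun hP => hq (E.injective ?_)⟩
  obtain ⟨j, hj⟩ := hP ⟨φ x, ⟨x, rfl⟩⟩
  have h1 : φ x ^ p ^ j = 1 := congrArg Subtype.val hj
  have : φ x = 1 := orderOf_eq_one_iff.mp (Nat.eq_one_of_dvd_coprimes (hxp.pow_right j)
    (orderOf_map_dvd φ x) (orderOf_dvd_of_pow_eq_one h1))
  rw [hE, this, Matrix.SpecialLinearGroup.coe_one, Matrix.one_mulVec, Module.End.one_apply]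

end Cfsg.Agent.S0592
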