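import Cfsg.Statements.S0594
import Mathlib
import Cfsg.Agent.Lib.Grp.SL2Section
-- import your own Cfsg.Agent.* helpers here

set_option autoImplicit false
open Cfsg

namespace Cfsg.Agent.S0594

open Cfsg.Agent.Grp.Quad
open scoped commutatorElement

/-- For odd p, two quadratic generators of a faithful group that is not a p-group, one of which acts nontrivially on a normal subgroup of order prime to p, force p = 3 and a section isomorphic to SL(2,3). -/
theorem result {G : Type*} [Group G] [Finite G] {p : ℕ} [Fact p.Prime] (hp : p ≠ 2) (V H : Subgroup G) (hV : Cfsg.IsElementaryAbelian p V) (hHV : H ≤ Subgroup.normalizer (V : Set G)) (hf : H ⊓ Subgroup.centralizer (V : Set G) = ⊥) (a b : G) (hab : H = Subgroup.closure {a, b}) (ha : ⁅⁅V, Subgroup.zpowers a⁆, Subgroup.zpowers a⁆ = ⊥) (hb : ⁅⁅V, Subgroup.zpowers b⁆, Subgroup.zpowers b⁆ = ⊥) (hnp : ¬ IsPGroup p H) (Q : Subgroup G) (hQH : Q ≤ H) (hQn : H ≤ Subgroup.normalizer (Q : Set G)) (hQ : (Nat.card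 Q).Coprime p) (hQa : ⁅Q, Subgroup.zpowers a⁆ ≠ ⊥) : p = 3 ∧ ∃ (K L : Subgroup G) (hL : (L.subgroupOf K).Normal), K ≤ H ∧ Nonempty ((K ⧸ L.subgroupOf K) ≃* Matrix.SpecialLinearGroup (Fin 2) (ZMod 3)) := by
  classical
  subst hab
  obtain ⟨q, hqQ, hq1⟩ : ∃ q ∈ Q, ⁅q, a⁆ ≠ 1 := by
    by_contra hcon
    push Not at hcon
    refine hQa (Subgroup.commutator_eq_bot_iff_le_centralizer.mpr fun z hz => ?_)
    rw [Subgroup.mem_centralizer_iff]
    intro y hy
    obtain ⟨i, rfl⟩ := Subgroup.mem_zpowers_iff.mp hy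
    have hza : Commute z a := commutatorElement_eq_one_iff_mul_comm.mp (hcon z hz)
    exact (hza.zpow_right i).eq.symm
  have haH : a ∈ Subgroup.closure {a, b} := Subgroup.subset_closure (by simp)
  have hbH : b ∈ Subgroup.closure {a, b} := Subgroup.subset_closure (by simp)
  have hxQ : ⁅q, a⁆ ∈ Q := by
    rw [commutatorElement_def, mul_assoc, mul_assoc, ← mul_assoc a]
    exact mul_mem hqQ (Cfsg.Agent.Grp.mem_conj_normalizer (hQn haH) (inv_mem hqQ))
  obtain ⟨H₀, f, hle, hsurj, hthree⟩ := exists_section_of_pair hp hV (hHV haH) (hHV hbH)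
    (quadOn_of_commutator ha) (quadOn_of_commutator hb) (x := ⁅q, a⁆) (hQH hxQ)
    (hQ.coprime_dvd_left (Q.orderOf_dvd_natCard hxQ))
    (fun h => hq1 (Subgroup.mem_bot.mp (hf.le (Subgroup.mem_inf.mpr ⟨hQH hxQ, h⟩))))
  have h3 := hthree Q hQH hQn hQ ⟨q, hqQ, rfl⟩
  subst h3
  have e : (f.ker.map H₀.subtype).subgroupOf H₀ = f.ker :=
    Subgroup.comap_map_eq_self_of_injective H₀.subtype_injective _
  have hn : ((f.ker.map H₀.subtype).subgroupOf H₀).Normal := by rw [e]; infer_instance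
  exact ⟨rfl, H₀, f.ker.map H₀.subtype, hn, hle,
    ⟨(QuotientGroup.quotientMulEquivOfEq e).trans (QuotientGroup.quotientKerEquivOfSurjective f hsurj)⟩⟩

end Cfsg.Agent.S0594
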