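import Cfsg.Statements.S0595
import Mathlib
import Cfsg.Agent.Lib.Grp.SL2Section
-- import your own Cfsg.Agent.* helpers here

set_option autoImplicit false
open Cfsg

namespace Cfsg.Agent.S0595

open Cfsg.Agent.Grp.Quad

/-- For odd p, a faithful action on an elementary abelian p-group that is not p-stable forces non-abelian Sylow 2-subgroups. -/
theorem result {G : Type*} [Group G] [Finite G] {p : ℕ} [Fact p.Prime] (hp : p ≠ 2) (V H : Subgroup G) (hV : Cfsg.IsElementaryAbelian p V) (hHV : H ≤ Subgroup.normalizer (V : Set G)) (hf : H ⊓ Subgroup.centralizer (V : Set G) = ⊥) (a : G) (haH : a ∈ H) (hq : ⁅⁅V, Subgroup.zpowers a⁆, Subgroup.zpowers a⁆ = ⊥) (hna : a ∉ (Cfsg.pCore p H).map H.subtype) (T : Sylow 2 H) : ¬ IsMulCommutative T := by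
  have hqa := quadOn_of_commutator hq
  obtain ⟨b, x, hbH, hqb, hxH, hxp, hx⟩ := exists_pair_of_not_core hHV hf haH hqa hna
  obtain ⟨H₀, f, hle, hsurj, -⟩ := exists_section_of_pair hp hV (hHV haH) (hHV hbH) hqa hqb hxH hxp hx
  have hleH : H₀ ≤ H := hle.trans ((Subgroup.closure_le H).mpr (by rintro y (rfl | rfl) <;> assumption))
  exact sylow_two_not_comm hp (f.comp (Subgroup.subgroupOfEquivOfLe hleH).toMonoidHom)
    (hsurj.comp (Subgroup.subgroupOfEquivOfLe hleH).surjective) T

end Cfsg.Agent.S0595
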