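import Cfsg.Statements.S0596
import Mathlib
import Cfsg.Agent.Lib.Grp.SL2Section
-- import your own Cfsg.Agent.* helpers here

set_option autoImplicit false
open Cfsg

namespace Cfsg.Agent.S0596

open Cfsg.Agent.Grp.Quad

/-- For odd p, a p-separable group with a faithful action on an elementary abelian p-group that is not p-stable has p = 3 and involves SL(2,3). -/
theorem result {G : Type*} [Group G] [Finite G] {p : ℕ} [Fact p.Prime] (hp : p ≠ 2) (V H : Subgroup G) (hV : Cfsg.IsElementaryAbelian p V) (hHV : H ≤ Subgroup.normalizer (V : Set G)) (hf : H ⊓ Subgroup.centralizer (V : Set G) = ⊥) (hsep : Cfsg.IsPSolvable p H) (a : G) (haH : a ∈ H) (hq : ⁅⁅V, Subgroup.zpowers a⁆, Subgroup.zpowers a⁆ = ⊥) (hna : a ∉ (Cfsg.pCore p H).map H.subtype) : p = 3 ∧ ∃ (K L : Subgroup G) (hL : (L.subgroupOf K).Normal), K ≤ H ∧ Nonempty ((K ⧸ L.subgroupOf K) ≃* Matrix.SpecialLinearGroup (Fin 2) (ZMod 3)) := by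
  classical
  have hqa := quadOn_of_commutator hq
  obtain ⟨b, x, hbH, hqb, hxH, hxp, hx⟩ := exists_pair_of_not_core hHV hf haH hqa hna
  obtain ⟨H₀, f, hle, hsurj, -⟩ := exists_section_of_pair hp hV (hHV haH) (hHV hbH) hqa hqb hxH hxp hx
  have hleH : H₀ ≤ H := hle.trans ((Subgroup.closure_le H).mpr (by rintro y (rfl | rfl) <;> assumption))
  have h3 := three_of_isPSolvable hp hsep (f.comp (Subgroup.subgroupOfEquivOfLe hleH).toMonoidHom)
    (hsurj.comp (Subgroup.subgroupOfEquivOfLe hleH).surjective)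
  subst h3
  have e : (f.ker.map H₀.subtype).subgroupOf H₀ = f.ker :=
    Subgroup.comap_map_eq_self_of_injective H₀.subtype_injective _
  have hn : ((f.ker.map H₀.subtype).subgroupOf H₀).Normal := by rw [e]; infer_instance
  exact ⟨rfl, H₀, f.ker.map H₀.subtype, hn, hleH,
    ⟨(QuotientGroup.quotientMulEquivOfEq e).trans (QuotientGroup.quotientKerEquivOfSurjective f hsurj)⟩⟩

end Cfsg.Agent.S0596
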