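import Cfsg.Statements.S0597
import Cfsg.Agent.Lib.Grp.Subnormal
import Cfsg.Agent.Lib.Grp.SubnormalJoin
import Mathlib

set_option maxHeartbeats 1000000
set_option maxRecDepth 8000

set_option autoImplicit false
open Cfsg
open scoped commutatorElement

namespace Cfsg.Agent.S0597

/-- If two subnormal subgroups of a faithful group on an elementary abelian p-group satisfy [V, E₁, E₂] = 1, then their commutator lies in the largest normal p-subgroup. -/
theorem result {G : Type*} [Group G] [Finite G] {p : ℕ} [Fact p.Prime] (V H : Subgroup G) (hV : Cfsg.IsElementaryAbelian p V) (hHV : H ≤ Subgroup.normalizer (V : Set G)) (hf : H ⊓ Subgroup.centralizer (V : Set G) = ⊥) (E₁ E₂ : Subgroup G) (h₁ : E₁ ≤ H) (h₂ : E₂ ≤ H) (hs₁ : (E₁.subgroupOf H).IsSubnormal) (hs₂ : (E₂.subgroupOf H).IsSubnormal) (hc : ⁅⁅V, E₁⁆, E₂⁆ = ⊥) : ⁅E₁, E₂⁆ ≤ (Cfsg.pCore p H).map H.subtype := by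
  set W := ⁅V, E₁⁆ with hW
  have hV' : ∀ h ∈ H, ∀ v ∈ V, h * v * h⁻¹ ∈ V := fun h hh v hv => (Subgroup.mem_normalizer_iff.1 (hHV hh) v).1 hv
  have hab : ∀ x ∈ V, ∀ y ∈ V, x * y = y * x := fun x hx y hy => congrArg Subtype.val (hV.1.is_comm.comm ⟨x, hx⟩ ⟨y, hy⟩)
  have hWV : W ≤ V := Subgroup.commutator_le.2 fun v hv e he => by
    rw [commutatorElement_def, mul_assoc v e, mul_assoc v]
    exact V.mul_mem hv (hV' e (h₁ he) _ (V.inv_mem hv))
  have hE1W : ∀ e ∈ E₁, ∀ v ∈ V, e * v * e⁻¹ * v⁻¹ ∈ W := fun e he v hv => by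
    rw [hW, Subgroup.commutator_comm]
    exact Subgroup.commutator_mem_commutator he hv
  have hE2W : ∀ e ∈ E₂, ∀ w ∈ W, e * w * e⁻¹ = w := fun e he w hw => by
    have h := Subgroup.commutator_mem_commutator hw he
    rw [hc, Subgroup.mem_bot, commutatorElement_eq_one_iff_mul_comm] at h
    rw [← h, mul_inv_cancel_right]
  have hsup : E₁ ⊔ E₂ ≤ H := sup_le h₁ h₂
  set E := E₁ ⊔ E₂ with hE
  -- `W` is invariant under `E`
  have hWE : E ≤ Subgroup.normalizer (W : Set G) := by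
    refine sup_le (fun e he => ?_) (fun e he => Subgroup.mem_normalizer_iff.2 fun w => ⟨fun hw => by rw [hE2W e he w hw]; exact hw, fun hw => ?_⟩)
    · have key : ∀ e ∈ E₁, ∀ w ∈ W, e * w * e⁻¹ ∈ W := fun e he w hw => by
        have h1 : e * w * e⁻¹ * w⁻¹ ∈ W := hE1W e he w (hWV hw)
        simpa using mul_mem h1 hw
      exact Subgroup.mem_normalizer_iff.2 fun w => ⟨key e he w, fun hw => by simpa [mul_assoc] using key e⁻¹ (inv_mem he) _ hw⟩
    · have h1 : e⁻¹ * (e * w * e⁻¹) * e⁻¹⁻¹ = e * w * e⁻¹ := hE2W e⁻¹ (inv_mem he) _ hw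
      rw [← h1] at hw
      simpa [mul_assoc] using hw
  -- the kernel on the two layers
  let K : Subgroup G :=
    { carrier := {e | e ∈ E ∧ (∀ w ∈ W, e * w * e⁻¹ = w) ∧ ∀ v ∈ V, e * v * e⁻¹ * v⁻¹ ∈ W}
      one_mem' := ⟨one_mem _, fun w _ => by simp, fun v _ => by simp⟩
      mul_mem' := fun {a b} ha hb => ⟨mul_mem ha.1 hb.1, fun w hw => by
        calc a * b * w * (a * b)⁻¹ = a * (b * w * b⁻¹) * a⁻¹ := by group
          _ = w := by rw [hb.2.1 w hw, ha.2.1 w hw], fun v hv => by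
        have h1 := hb.2.2 v hv
        have h2 : a * b * v * (a * b)⁻¹ * v⁻¹ = (a * (b * v * b⁻¹ * v⁻¹) * a⁻¹) * (a * v * a⁻¹ * v⁻¹) := by group
        rw [h2, ha.2.1 _ h1]
        exact mul_mem h1 (ha.2.2 v hv)⟩
      inv_mem' := fun {a} ha => ⟨inv_mem ha.1, fun w hw => by
        nth_rewrite 1 [← ha.2.1 w hw]
        group, fun v hv => by
        have h1 := ha.2.2 (a⁻¹ * v * a) (by simpa using hV' a⁻¹ (hsup (inv_mem ha.1)) v hv)
        have h2 : a * (a⁻¹ * v * a) * a⁻¹ * (a⁻¹ * v * a)⁻¹ = (a⁻¹ * v * a⁻¹⁻¹ * v⁻¹)⁻¹ := by group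
        rw [h2] at h1
        exact inv_mem_iff.1 h1⟩ }
  have hKn : E ≤ Subgroup.normalizer (K : Set G) := by
    have key : ∀ e ∈ E, ∀ k ∈ K, e * k * e⁻¹ ∈ K := fun e he k hk => by
      refine ⟨mul_mem (mul_mem he hk.1) (inv_mem he), fun w hw => ?_, fun v hv => ?_⟩
      · have h1 : e⁻¹ * w * e ∈ W := (Subgroup.mem_normalizer_iff''.1 (hWE he) w).1 hw
        calc e * k * e⁻¹ * w * (e * k * e⁻¹)⁻¹ = e * (k * (e⁻¹ * w * e) * k⁻¹) * e⁻¹ := by group
          _ = w := by rw [hk.2.1 _ h1]; group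
      · have h1 := hk.2.2 (e⁻¹ * v * e) (by simpa using hV' e⁻¹ (hsup (inv_mem he)) v hv)
        have h2 : e * k * e⁻¹ * v * (e * k * e⁻¹)⁻¹ * v⁻¹ = e * (k * (e⁻¹ * v * e) * k⁻¹ * (e⁻¹ * v * e)⁻¹) * e⁻¹ := by group
        rw [h2]
        exact (Subgroup.mem_normalizer_iff.1 (hWE he) _).1 h1
    exact fun e he => Subgroup.mem_normalizer_iff.2 fun k => ⟨key e he k, fun hk => by
      simpa [mul_assoc] using key e⁻¹ (inv_mem he) _ hk⟩
  -- `[E₁, E₂] ≤ K`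
  have hFK : ⁅E₁, E₂⁆ ≤ K := Subgroup.commutator_le.2 fun a ha b hb => by
    refine ⟨mul_mem (mul_mem (mul_mem (Subgroup.mem_sup_left ha) (Subgroup.mem_sup_right hb))
      (inv_mem (Subgroup.mem_sup_left ha))) (inv_mem (Subgroup.mem_sup_right hb)), fun w hw => ?_, fun v hv => ?_⟩
    · have h1 : a⁻¹ * w * a ∈ W := (Subgroup.mem_normalizer_iff''.1 (hWE (Subgroup.mem_sup_left ha)) w).1 hw
      rw [commutatorElement_def]
      calc a * b * a⁻¹ * b⁻¹ * w * (a * b * a⁻¹ * b⁻¹)⁻¹ = a * (b * (a⁻¹ * (b⁻¹ * w * b⁻¹⁻¹) * a) * b⁻¹) * a⁻¹ := by group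
        _ = w := by rw [hE2W _ (inv_mem hb) w hw, hE2W b hb _ h1]; group
    · rw [commutatorElement_def]
      set u := b⁻¹ * v * b with hu
      have huV : u ∈ V := by simpa [hu] using hV' b⁻¹ (h₂ (inv_mem hb)) v hv
      -- modulo `W`, `a` is trivial
      have d1 : a⁻¹ * u * a⁻¹⁻¹ * u⁻¹ ∈ W := hE1W a⁻¹ (inv_mem ha) u huV
      set d := a⁻¹ * u * a⁻¹⁻¹ * u⁻¹ with hd
      have d2 : a * v * a⁻¹ * v⁻¹ ∈ W := hE1W a ha v hv
      have h3 : a * b * a⁻¹ * b⁻¹ * v * (a * b * a⁻¹ * b⁻¹)⁻¹ * v⁻¹ = (a * (b * d * b⁻¹) * a⁻¹) * (a * v * a⁻¹ * v⁻¹) := by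
        rw [hd, hu]; group
      rw [h3, hE2W b hb d d1]
      exact mul_mem ((Subgroup.mem_normalizer_iff.1 (hWE (Subgroup.mem_sup_left ha)) d).1 d1) d2
  have hKp : IsPGroup p K := fun k => ⟨1, Subtype.ext (by
    have hk := k.2
    have hmem : (k : G) ^ p ∈ H ⊓ Subgroup.centralizer (V : Set G) := by
      refine ⟨pow_mem (hsup hk.1) p, Subgroup.mem_centralizer_iff.2 fun v hv => ?_⟩
      set d := (k : G) * v * (k : G)⁻¹ * v⁻¹ with hd
      have hdW : d ∈ W := hk.2.2 v hv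
      have hpow : ∀ m : ℕ, (k : G) ^ m * v * ((k : G) ^ m)⁻¹ = d ^ m * v := fun m => by
        induction m with
        | zero => simp
        | succ m ih =>
          calc (k : G) ^ (m + 1) * v * ((k : G) ^ (m + 1))⁻¹ = (k : G) * ((k : G) ^ m * v * ((k : G) ^ m)⁻¹) * (k : G)⁻¹ := by
                rw [pow_succ']; group
            _ = ((k : G) * d ^ m * (k : G)⁻¹) * ((k : G) * v * (k : G)⁻¹) := by rw [ih]; group
            _ = d ^ m * (d * v) := by rw [hk.2.1 _ (pow_mem hdW m), show d * v = (k : G) * v * (k : G)⁻¹ from by rw [hd]; group]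
            _ = d ^ (m + 1) * v := by rw [pow_succ d m]; exact (mul_assoc _ _ _).symm
      have h1 := hpow p
      rw [hV.2 _ (hWV hdW), one_mul, mul_inv_eq_iff_eq_mul] at h1
      exact h1.symm
    rw [hf, Subgroup.mem_bot] at hmem
    rw [pow_one, SubgroupClass.coe_pow, hmem]; rfl)⟩
  have hEsn : (E.subgroupOf H).IsSubnormal := by
    rw [hE, Subgroup.subgroupOf_sup h₁ h₂]
    exact Cfsg.Agent.Grp.SnJoin.isSubnormal_sup _ H rfl _ _ hs₁ hs₂
  have hKE : K ≤ E := fun k hk => hk.1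
  have hKsn : (K.subgroupOf H).IsSubnormal := by
    refine Subgroup.IsSubnormal.step _ _ (fun k hk => hKE hk) hEsn (Subgroup.normal_subgroupOf_of_le_normalizer ?_)
    intro e he
    exact Subgroup.mem_normalizer_iff.2 fun k => Subgroup.mem_normalizer_iff.1 (hKn he) (k : G)
  have hle := Cfsg.Agent.Grp.le_pCore_of_isSubnormal hKsn (hKp.comap_of_injective H.subtype H.subtype_injective)
  intro x hx
  exact ⟨⟨x, hsup (hKE (hFK hx))⟩, hle (hFK hx), rfl⟩

end Cfsg.Agent.S0597
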