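import Cfsg.Statements.S0607
import Cfsg.Agent.S0599
import Cfsg.Agent.Lib.Transfer.Timmesfeld
import Mathlib

set_option maxHeartbeats 1000000
set_option maxRecDepth 8000

set_option autoImplicit false
open Cfsg
open scoped commutatorElement

namespace Cfsg.Agent.S0607

open scoped Pointwise in
theorem card_sup_mul {G : Type*} [Group G] [Finite G] {H K : Subgroup G} (hle : H ≤ Subgroup.normalizer (K : Set G)) :
    Nat.card ↥(H ⊔ K) * Nat.card ↥(H ⊓ K) = Nat.card H * Nat.card K := by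
  have h1 : K.relIndex (H ⊔ K) = K.relIndex H := by
    have h2 : H.subgroupOf (Subgroup.normalizer (K : Set G)) ⊔ K.subgroupOf (Subgroup.normalizer (K : Set G)) =
        (H ⊔ K).subgroupOf (Subgroup.normalizer (K : Set G)) := (Subgroup.subgroupOf_sup hle Subgroup.le_normalizer).symm
    haveI : (K.subgroupOf (Subgroup.normalizer (K : Set G))).Normal := Subgroup.normal_in_normalizer
    rw [← Subgroup.relIndex_subgroupOf (sup_le hle Subgroup.le_normalizer), ← h2, Subgroup.relIndex_sup_right,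
      Subgroup.relIndex_subgroupOf hle]
  have h3 := Cfsg.Agent.Transfer.Timmesfeld.relIndex_mul_card H K
  have h4 := Cfsg.Agent.Transfer.Timmesfeld.relIndex_mul_card (H ⊔ K) K
  rw [inf_eq_right.2 le_sup_right, h1] at h4
  rw [← h4, ← h3]; ring


/-- The replacement Theorem for the Thompson subgroup: from A of maximal order among elementary abelian p-subgroups one obtains A₀ = [V, A] C_A([V, A]) of the same kind, quadratic on V and nontrivial on V when A is. -/
theorem result {G : Type*} [Group G] [Finite G] {p : ℕ} [Fact p.Prime] (V : Subgroup G) [V.Normal] (hV : Cfsg.IsElementaryAbelian p V) (A : Subgroup G) (hA : A ∈ Cfsg.maxElementaryAbelianSubgroups p G) : (⁅V, A⁆ ⊔ (A ⊓ Subgroup.centralizer ((⁅V, A⁆ : Subgroup G) : Set G))) ∈ Cfsg.maxElementaryAbelianSubgroups p G ∧ ⁅⁅V, ⁅V, A⁆ ⊔ (A ⊓ Subgroup.centralizer ((⁅V, A⁆ : Subgroup G) : Set G))⁆, ⁅V, A⁆ ⊔ (A ⊓ Subgroup.centralizer ((⁅V, A⁆ : Subgroup G) : Set G))⁆ = ⊥ ∧ (⁅V, A⁆ ≠ ⊥ → ⁅V, ⁅V, A⁆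 ⊔ (A ⊓ Subgroup.centralizer ((⁅V, A⁆ : Subgroup G) : Set G))⁆ ≠ ⊥) := by

  classical
  obtain ⟨⟨hAc, hAp⟩, hAmax⟩ := hA
  have hVn : ∀ X : Subgroup G, X ≤ Subgroup.normalizer (V : Set G) := fun X => by
    rw [Subgroup.normalizer_eq_top_iff.2 (inferInstance : V.Normal)]; exact le_top
  have hVc : ∀ x ∈ V, ∀ y ∈ V, x * y = y * x := fun x hx y hy =>
    congrArg Subtype.val (hV.1.is_comm.comm (⟨x, hx⟩ : V) ⟨y, hy⟩)
  have hAcc : ∀ x ∈ A, ∀ y ∈ A, x * y = y * x := fun x hx y hy =>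
    congrArg Subtype.val (hAc.is_comm.comm (⟨x, hx⟩ : A) ⟨y, hy⟩)
  -- elementary abelian products
  have helem : ∀ W B : Subgroup G, W ≤ V → B ≤ A → (∀ w ∈ W, ∀ b ∈ B, w * b = b * w) →
      Cfsg.IsElementaryAbelian p (B ⊔ W) := by
    intro W B hW hB hc
    have hcom : ∀ u ∈ (B : Set G) ∪ W, ∀ v ∈ (B : Set G) ∪ W, u * v = v * u := by
      rintro u (hu | hu) v (hv | hv)
      · exact hAcc u (hB hu) v (hB hv)
      · exact (hc v hv u hu).symm
      · exact hc u hu v hv
      · exact hVc u (hW hu) v (hW hv)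
    haveI := Subgroup.isMulCommutative_closure hcom
    rw [← Subgroup.closure_eq B, ← Subgroup.closure_eq W, ← Subgroup.closure_union]
    refine ⟨inferInstance, fun g hg => ?_⟩
    induction hg using Subgroup.closure_induction with
    | mem z hz => rcases hz with hz | hz; exacts [hAp z (hB hz), hV.2 z (hW hz)]
    | one => exact one_pow p
    | mul u v hu hv hu1 hv1 =>
      have hc' : Commute u v := congrArg Subtype.val
        (mul_comm' (⟨u, hu⟩ : Subgroup.closure ((B : Set G) ∪ W)) ⟨v, hv⟩)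
      rw [hc'.mul_pow, hu1, hv1, one_mul]
    | inv u hu hu1 => rw [inv_pow, hu1, inv_one]
  -- `C_V(A) = A ∩ V`
  have hCV : V ⊓ Subgroup.centralizer (A : Set G) = A ⊓ V := by
    refine le_antisymm (le_inf ?_ inf_le_left) (le_inf inf_le_right fun x hx =>
      Subgroup.mem_centralizer_iff.2 fun a ha => hAcc a ha x hx.1)
    have h1 := helem (V ⊓ Subgroup.centralizer (A : Set G)) A inf_le_left le_rfl fun w hw b hb =>
      (Subgroup.mem_centralizer_iff.1 hw.2 b hb).symm
    have e : A = A ⊔ (V ⊓ Subgroup.centralizer (A : Set G)) := Subgroup.eq_of_le_of_card_ge le_sup_left (hAmax _ h1)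
    exact le_sup_right.trans e.ge
  have hbest : Cfsg.IsBestOffenderOn p V A := by
    refine ⟨fun B hB => ?_, fun x hx => ?_, fun a ha => by rw [hAp a ha]; exact Subgroup.one_mem _⟩
    · set W := V ⊓ Subgroup.centralizer (B : Set G) with hW
      have h1 := hAmax _ (helem W B inf_le_left hB fun w hw b hb => (Subgroup.mem_centralizer_iff.1 hw.2 b hb).symm)
      have hBW : B ≤ Subgroup.normalizer (W : Set G) := fun b hb => Subgroup.centralizer_le_normalizer _
        (Subgroup.mem_centralizer_iff.2 fun w hw => (Subgroup.mem_centralizer_iff.1 hw.2 b hb).symm)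
      rw [← card_sup_mul hBW, hCV]
      exact Nat.mul_le_mul h1 (Subgroup.card_le_of_le (inf_le_inf hB inf_le_left))
    · rw [Subgroup.commutator_eq_bot_iff_le_centralizer.2 (fun x hx => Subgroup.mem_centralizer_iff.2
        fun y hy => hAcc y hy x hx), Subgroup.mem_bot] at hx
      rw [hx]; exact Subgroup.one_mem _
  obtain ⟨hbest', hfix, hne, hm⟩ := Cfsg.Agent.S0599.strong V A hV (hVn A) hbest V le_rfl
  set U := ⁅V, A⁆ with hU
  set A' := A ⊓ Subgroup.centralizer (U : Set G) with hA'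
  have hUV : U ≤ V := Subgroup.commutator_le_left V A
  have hA'U : A' ≤ Subgroup.normalizer (U : Set G) := inf_le_right.trans (Subgroup.centralizer_le_normalizer _)
  have hE : Cfsg.IsElementaryAbelian p (U ⊔ A') := by
    rw [sup_comm]
    exact helem U A' hUV inf_le_left fun w hw b hb => Subgroup.mem_centralizer_iff.1 hb.2 w hw
  -- orders
  rw [hCV] at hfix
  have hmeq : Nat.card A' * Nat.card ↥(V ⊓ Subgroup.centralizer (A' : Set G)) = Nat.card A * Nat.card ↥(A ⊓ V) := by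
    rw [hm, hCV]
  have hcard : Nat.card ↥(U ⊔ A') = Nat.card A := by
    have h1 := card_sup_mul hA'U
    have h2 := card_sup_mul (H := A ⊓ V) (K := U) (fun x hx => Subgroup.centralizer_le_normalizer _
      (Subgroup.mem_centralizer_iff.2 fun u hu => hVc u (hUV hu) x hx.2))
    have h3 : (A ⊓ V) ⊓ U = A' ⊓ U := le_antisymm
      (fun x hx => ⟨⟨hx.1.1, Subgroup.mem_centralizer_iff.2 fun u hu => hVc u (hUV hu) x hx.1.2⟩, hx.2⟩)
      (fun x hx => ⟨⟨hx.1.1, hUV hx.2⟩, hx.2⟩)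
    rw [sup_comm, ← hfix, h3] at h2
    have hpos : 0 < Nat.card ↥(A' ⊓ U) * Nat.card ↥(A ⊓ V) := Nat.mul_pos Nat.card_pos Nat.card_pos
    refine Nat.eq_of_mul_eq_mul_right hpos ?_
    calc Nat.card ↥(U ⊔ A') * (Nat.card ↥(A' ⊓ U) * Nat.card ↥(A ⊓ V))
        = (Nat.card A' * Nat.card U) * Nat.card ↥(A ⊓ V) := by rw [← mul_assoc, sup_comm, h1]
      _ = Nat.card A' * (Nat.card ↥(A ⊓ V) * Nat.card U) := by ring
      _ = (Nat.card A' * Nat.card ↥(V ⊓ Subgroup.centralizer (A' : Set G))) * Nat.card ↥(A' ⊓ U) := by rw [← h2]; ring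
      _ = _ := by rw [hmeq]; ring
  have hVA : ⁅V, U ⊔ A'⁆ ≤ U := by
    refine Subgroup.commutator_le.2 fun v hv x hx => ?_
    rw [← SetLike.mem_coe, Subgroup.coe_mul_of_right_le_normalizer_left U A' hA'U] at hx
    obtain ⟨u, hu, a, ha, rfl⟩ := hx
    have h1 : ⁅v, u * a⁆ = u * ⁅v, a⁆ * u⁻¹ := by
      simp only [commutatorElement_def]
      have h2 := hVc v hv u (hUV hu)
      calc v * (u * a) * v⁻¹ * (u * a)⁻¹ = (v * u) * a * v⁻¹ * a⁻¹ * u⁻¹ := by group
        _ = _ := by rw [h2]; group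
    show ⁅v, u * a⁆ ∈ U
    rw [h1]
    exact U.mul_mem (U.mul_mem hu (Subgroup.commutator_mem_commutator hv ha.1)) (U.inv_mem hu)
  refine ⟨⟨hE, fun B hB => hcard ▸ hAmax B hB⟩, ?_, fun h h0 => hne h ?_⟩
  · rw [Subgroup.commutator_eq_bot_iff_le_centralizer]
    intro x hx
    refine Subgroup.mem_centralizer_iff.2 fun y hy => ?_
    exact congrArg Subtype.val (hE.1.is_comm.comm (⟨y, hy⟩ : ↥(U ⊔ A')) ⟨x, Subgroup.mem_sup_left (hVA hx)⟩)
  · exact le_bot_iff.1 ((Subgroup.commutator_mono le_rfl le_sup_right).trans h0.le)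

end Cfsg.Agent.S0607
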