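import Cfsg.Statements.S0609
import Cfsg.Agent.Lib.Grp.QuotientNormalizer
import Cfsg.Agent.Lib.Grp.Frattini
import Cfsg.Agent.Lib.Transfer.Thompson

set_option maxHeartbeats 1000000
set_option maxRecDepth 8000

set_option autoImplicit false
open Cfsg

namespace Cfsg.Agent.S0609

/-- An isomorphism carries the Thompson subgroup to the Thompson subgroup. -/
theorem map_thompson {P Q : Type*} [Group P] [Group Q] [Finite P] {p : ℕ} (e : P ≃* Q) :
    (Cfsg.thompsonSubgroup p P).map e.toMonoidHom = Cfsg.thompsonSubgroup p Q := by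
  haveI : Finite Q := Finite.of_equiv P e.toEquiv
  unfold Cfsg.thompsonSubgroup
  rw [(Subgroup.gc_map_comap e.toMonoidHom).l_sSup]
  refine le_antisymm (iSup₂_le fun A hA => le_sSup (Cfsg.Agent.Transfer.Thompson.map_equiv_mem e hA)) (sSup_le fun B hB => ?_)
  refine le_trans ?_ (le_iSup₂ (B.map e.symm.toMonoidHom) (Cfsg.Agent.Transfer.Thompson.map_equiv_mem e.symm hB))
  intro b hb
  exact ⟨e.symm b, ⟨b, hb, rfl⟩, e.apply_symm_apply b⟩

/-- Thompson factorizability passes to and from the quotient by the largest normal subgroup of order prime to p. -/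
theorem result {G : Type*} [Group G] [Finite G] {p : ℕ} [Fact p.Prime] : Cfsg.IsThompsonFactorizable p G ↔ Cfsg.IsThompsonFactorizable p (G ⧸ Cfsg.pPrimeCore p G) := by

  set N := Cfsg.pPrimeCore p G with hN
  haveI : N.Normal := Cfsg.Agent.Grp.pPrimeCore_isNormal
  set q := QuotientGroup.mk' N with hq
  have hqs : Function.Surjective q := QuotientGroup.mk'_surjective N
  have hcore : Cfsg.pPrimeCore p (G ⧸ N) = ⊥ := Cfsg.Agent.Grp.pPrimeCore_quotient_eq_bot
  have hNcop : (Nat.card N).Coprime p := Cfsg.Agent.Grp.pPrimeCore_coprime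
  -- the two subgroups attached to a Sylow subgroup map to the corresponding ones
  have key : ∀ S : Sylow p G,
      (Cfsg.omegaOne p ((S : Subgroup G) ⊓ Subgroup.centralizer ((S : Subgroup G) : Set G))).map q =
        Cfsg.omegaOne p (((S : Subgroup G).map q) ⊓ Subgroup.centralizer (((S : Subgroup G).map q : Subgroup (G ⧸ N)) : Set (G ⧸ N))) ∧
      (Cfsg.thompsonSubgroupOf p (S : Subgroup G)).map q = Cfsg.thompsonSubgroupOf p ((S : Subgroup G).map q) ∧
      Subgroup.centralizer (((Cfsg.omegaOne p ((S : Subgroup G) ⊓ Subgroup.centralizer ((S : Subgroup G) : Set G))).map q : Subgroup (G ⧸ N)) : Set (G ⧸ N)) =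
        (Subgroup.centralizer (Cfsg.omegaOne p ((S : Subgroup G) ⊓ Subgroup.centralizer ((S : Subgroup G) : Set G)) : Set G)).map q ∧
      Subgroup.normalizer (((Cfsg.thompsonSubgroupOf p (S : Subgroup G)).map q : Subgroup (G ⧸ N)) : Set (G ⧸ N)) =
        (Subgroup.normalizer (Cfsg.thompsonSubgroupOf p (S : Subgroup G) : Set G)).map q := by
    intro S
    have hcop : ∀ H : Subgroup G, H ≤ (S : Subgroup G) → (Nat.card N).Coprime (Nat.card H) ∧ Group.IsSolvable H := fun H hH => by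
      have hHp := S.isPGroup'.to_le hH
      obtain ⟨k, hk⟩ := IsPGroup.iff_card.1 hHp
      haveI := hHp.isNilpotent
      exact ⟨hk ▸ hNcop.pow_right k, inferInstance⟩
    have hinj : ∀ u ∈ (S : Subgroup G), q u = 1 → u = 1 := fun u hu h => by
      obtain ⟨h1, -⟩ := hcop (S : Subgroup G) le_rfl
      exact (Subgroup.inf_eq_bot_of_coprime h1).le ⟨(QuotientGroup.eq_one_iff u).1 h, hu⟩
    have hZle : (S : Subgroup G) ⊓ Subgroup.centralizer ((S : Subgroup G) : Set G) ≤ (S : Subgroup G) := inf_le_left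
    have hJle : Cfsg.thompsonSubgroupOf p (S : Subgroup G) ≤ (S : Subgroup G) := Subgroup.map_subtype_le _
    have hOle : Cfsg.omegaOne p ((S : Subgroup G) ⊓ Subgroup.centralizer ((S : Subgroup G) : Set G)) ≤ (S : Subgroup G) :=
      (Subgroup.closure_le _).2 fun u hu => hu.1.1
    refine ⟨?_, ?_, ?_, ?_⟩
    · unfold Cfsg.omegaOne
      rw [MonoidHom.map_closure]
      congr 1
      ext y
      constructor
      · rintro ⟨u, ⟨⟨hu, huc⟩, hup⟩, rfl⟩
        refine ⟨⟨Subgroup.mem_map_of_mem q hu, Subgroup.mem_centralizer_iff.2 ?_⟩, by rw [← map_pow, hup, map_one]⟩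
        rintro _ ⟨v, hv, rfl⟩
        rw [← map_mul, ← map_mul, Subgroup.mem_centralizer_iff.1 huc v hv]
      · rintro ⟨⟨⟨u, hu, rfl⟩, hyc⟩, hyp⟩
        refine ⟨u, ⟨⟨hu, Subgroup.mem_centralizer_iff.2 fun v hv => ?_⟩, hinj _ (pow_mem hu p) (by rw [map_pow, hyp])⟩, rfl⟩
        have h1 := Subgroup.mem_centralizer_iff.1 hyc _ (Subgroup.mem_map_of_mem q hv)
        rw [← map_mul, ← map_mul] at h1
        refine inv_mul_eq_one.1 (hinj _ (Subgroup.mul_mem _ (Subgroup.inv_mem _ (Subgroup.mul_mem _ hv hu)) (Subgroup.mul_mem _ hu hv)) ?_)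
        rw [map_mul, map_inv, h1, inv_mul_cancel]
    · let e : (S : Subgroup G) ≃* (S : Subgroup G).map q :=
        MulEquiv.ofBijective (q.subgroupMap (S : Subgroup G))
          ⟨(injective_iff_map_eq_one _).2 fun u hu => Subtype.ext (hinj u u.2 (congrArg Subtype.val hu)),
            q.subgroupMap_surjective _⟩
      unfold Cfsg.thompsonSubgroupOf
      rw [← map_thompson e, Subgroup.map_map, Subgroup.map_map]
      rfl
    · exact Cfsg.Agent.Grp.QuotNorm.centralizer_map N _ (hcop _ hOle).1 (Or.inr (hcop _ hOle).2)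
    · exact Cfsg.Agent.Grp.QuotNorm.normalizer_map N _ (hcop _ hJle).1 (Or.inr (hcop _ hJle).2)
  constructor
  · intro h S' g'
    obtain ⟨g, rfl⟩ := hqs g'
    obtain ⟨S, rfl⟩ := Sylow.mapSurjective_surjective hqs p S'
    obtain ⟨x, hx, c, hc, n, hn, rfl⟩ := h S g
    obtain ⟨k1, k2, k3, k4⟩ := key S
    refine ⟨1, one_mem _, q c, ?_, q n, ?_, by rw [map_mul, map_mul, show q x = 1 from (QuotientGroup.eq_one_iff x).2 hx]⟩
    · rw [Sylow.coe_mapSurjective, ← k1, k3]; exact Subgroup.mem_map_of_mem q hc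
    · rw [Sylow.coe_mapSurjective, ← k2, k4]; exact Subgroup.mem_map_of_mem q hn
  · intro h S g
    obtain ⟨x', hx', c', hc', n', hn', he⟩ := h (S.mapSurjective hqs) (q g)
    obtain ⟨k1, k2, k3, k4⟩ := key S
    rw [Sylow.coe_mapSurjective, ← k1, k3] at hc'
    rw [Sylow.coe_mapSurjective, ← k2, k4] at hn'
    obtain ⟨c, hc, rfl⟩ := hc'
    obtain ⟨n, hn, rfl⟩ := hn'
    rw [hcore, Subgroup.mem_bot] at hx'
    rw [hx', one_mul, ← map_mul] at he
    refine ⟨g * (c * n)⁻¹, (QuotientGroup.eq_one_iff _).1 ?_, c, hc, n, hn, by group⟩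
    show q (g * (c * n)⁻¹) = 1
    rw [map_mul, he, ← map_mul, mul_inv_cancel, map_one]

end Cfsg.Agent.S0609
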