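import Cfsg.Statements.S0613
import Cfsg.Agent.Lib.Transfer.OffenderStructure

set_option maxHeartbeats 1000000
set_option maxRecDepth 8000

set_option autoImplicit false
open Cfsg
open scoped commutatorElement Pointwise

namespace Cfsg.Agent.S0613

/-- A minimal nontrivially-acting best offender and a conjugate of it under a non-centralizing element of the p'-core generate SL(2, p) acting naturally on a plane, and p is 2 or 3. -/
theorem result {G : Type*} [Group G] [Finite G] {p : ℕ} [Fact p.Prime] (V H : Subgroup G) (hV : Cfsg.IsElementaryAbelian p V) (hHV : H ≤ Subgroup.normalizer (V : Set G)) (hf : H ⊓ Subgroup.centralizer (V : Set G) = ⊥) (hS1 : Subgroup.centralizer (Cfsg.pPrimeCore p ↥H : Set ↥H) ≤ Cfsg.pPrimeCore p ↥H) (hS3 : H = ⨆ A : {A : Subgroup G // A ≤ H ∧ Cfsg.IsBestOffenderOn p V A}, (A : Subgroup G)) (hH1 : H ≠ ⊥) (A : Subgroup G) (hAH : A ≤ H) (hA : Cfsg.IsBestOffenderOn p V A) (hAV : ⁅V, A⁆ ≠ ⊥) (hmin :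 ∀ B : Subgroup G, B ≤ A → Cfsg.IsBestOffenderOn p V B → ⁅V, B⁆ ≠ ⊥ → B = A) (x : G) (hx : x ∈ ((Cfsg.pPrimeCore p ↥H).map H.subtype)) (hxA : x ∉ Subgroup.centralizer (A : Set G)) : (p = 2 ∨ p = 3) ∧ Nat.card ↥(⁅V, A ⊔ A.map (MulAut.conj x).toMonoidHom⁆) = p ^ 2 ∧ (A ⊔ A.map (MulAut.conj x).toMonoidHom) ⊓ Subgroup.centralizer ((⁅V, A ⊔ A.map (MulAut.conj x).toMonoidHom⁆ : Subgroup G) : Set G) = ⊥ ∧ Nonempty (↥(A ⊔ A.map (MulAut.conj x).toMonoidHom) ≃* Matrix.SpecialLinearGroup (Fin 2) (ZMod p)) := by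
  have s := Transfer.Offender.setup_of hV hHV hf hS1
  obtain ⟨hex, hc⟩ := s.card_eq_of_minimal hAH hA hAV hmin
  obtain ⟨a, u, hAa, ht⟩ := Transfer.Offender.exists_isTrans hV (hAH.trans hHV) hex hc
  have haA : a ∈ A := hAa ▸ Subgroup.mem_zpowers a
  have hxa : x * a ≠ a * x := fun e => hxA (by
    rw [hAa, ← Grp.centralizer_singleton_eq_zpowers]
    exact Subgroup.mem_centralizer_singleton_iff.mpr e)
  obtain ⟨h23, E, U, W, hE, -, -, -, hUc, -, -, hVE, hfaith, hiso, -⟩ := s.exists_plane (hAH haA) ht hx hxa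
  have hEeq : A ⊔ A.map (MulAut.conj x).toMonoidHom = E := by
    rw [hE, hAa]
    refine le_antisymm (sup_le (Subgroup.zpowers_le.mpr (Subgroup.subset_closure (Set.mem_insert _ _))) ?_) ((Subgroup.closure_le _).mpr ?_)
    · rw [MonoidHom.map_zpowers, Subgroup.zpowers_le]
      exact Subgroup.subset_closure (Set.mem_insert_of_mem _ rfl)
    · rintro g (hg | hg) <;> rw [SetLike.mem_coe, hg]
      · exact Subgroup.mem_sup_left (Subgroup.mem_zpowers a)
      · exact Subgroup.mem_sup_right ⟨a, Subgroup.mem_zpowers a, rfl⟩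
  rw [hEeq, hVE]
  exact ⟨h23, hUc, hfaith, hiso⟩

end Cfsg.Agent.S0613
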