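import Cfsg.Statements.S0614
import Cfsg.Agent.Lib.Transfer.OffenderStructure

set_option maxHeartbeats 1000000
set_option maxRecDepth 8000

set_option autoImplicit false
open Cfsg
open scoped commutatorElement Pointwise

namespace Cfsg.Agent.S0614

/-- The commutator of the p'-core with a minimal nontrivially-acting best offender is a 3-group (when p = 2) or a non-abelian 2-group (when p = 3). -/
theorem result {G : Type*} [Group G] [Finite G] {p : ℕ} [Fact p.Prime] (V H : Subgroup G) (hV : Cfsg.IsElementaryAbelian p V) (hHV : H ≤ Subgroup.normalizer (V : Set G)) (hf : H ⊓ Subgroup.centralizer (V : Set G) = ⊥) (hS1 : Subgroup.centralizer (Cfsg.pPrimeCore p ↥H : Set ↥H) ≤ Cfsg.pPrimeCore p ↥H) (hS3 : H = ⨆ A : {A : Subgroup G // A ≤ H ∧ Cfsg.IsBestOffenderOn p V A}, (A : Subgroup G)) (hH1 : H ≠ ⊥) (A : Subgroup G) (hAH : A ≤ H) (hA : Cfsg.IsBestOffenderOn p V A) (hAV : ⁅V, A⁆ ≠ ⊥) (hmin :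 ∀ B : Subgroup G, B ≤ A → Cfsg.IsBestOffenderOn p V B → ⁅V, B⁆ ≠ ⊥ → B = A) : (p = 2 ∧ IsPGroup 3 ↥(⁅((Cfsg.pPrimeCore p ↥H).map H.subtype), A⁆)) ∨ (p = 3 ∧ IsPGroup 2 ↥(⁅((Cfsg.pPrimeCore p ↥H).map H.subtype), A⁆) ∧ ¬ IsMulCommutative ↥(⁅((Cfsg.pPrimeCore p ↥H).map H.subtype), A⁆)) := by
  have s := Transfer.Offender.setup_of hV hHV hf hS1
  obtain ⟨hex, hc⟩ := s.card_eq_of_minimal hAH hA hAV hmin
  obtain ⟨h23, U, W, hcomp, -, hnc⟩ := s.exists_comp hAH hex hc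
  set R := ⁅((Cfsg.pPrimeCore p ↥H).map H.subtype), A⁆
  have hRQ : R ≤ (Cfsg.pPrimeCore p ↥H).map H.subtype :=
    Grp.commutator_le_left_of_le_normalizer (hAH.trans s.Qnorm)
  have hd := Subgroup.card_dvd_of_le (le_sup_left : R ≤ R ⊔ A)
  obtain ⟨e⟩ := hcomp.iso
  rw [Nat.card_congr e.toEquiv] at hd
  have hco : (Nat.card R).Coprime p := s.Qcop.coprime_dvd_left (Subgroup.card_dvd_of_le hRQ)
  rcases h23 with rfl | rfl
  · refine Or.inl ⟨rfl, ?_⟩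
    have h6 : Nat.card (Matrix.SpecialLinearGroup (Fin 2) (ZMod 2)) = 2 * 3 := by
      rw [Nat.card_eq_fintype_card]; decide
    have h3 : Nat.card R ∣ 3 := hco.dvd_of_dvd_mul_left (h6 ▸ hd)
    obtain ⟨i, -, hi⟩ := (Nat.dvd_prime_pow Nat.prime_three).mp (show Nat.card R ∣ 3 ^ 1 by simpa using h3)
    exact IsPGroup.of_card hi
  · refine Or.inr ⟨rfl, ?_, fun hcm => ?_⟩
    · have h24 : Nat.card (Matrix.SpecialLinearGroup (Fin 2) (ZMod 3)) = 3 * 2 ^ 3 := by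
        rw [Nat.card_eq_fintype_card]; decide
      have h8 : Nat.card R ∣ 2 ^ 3 := hco.dvd_of_dvd_mul_left (h24 ▸ hd)
      obtain ⟨i, -, hi⟩ := (Nat.dvd_prime_pow Nat.prime_two).mp h8
      exact IsPGroup.of_card hi
    · obtain ⟨d, hd', e', he', hne⟩ := hnc rfl
      exact hne (congrArg Subtype.val (hcm.is_comm.comm ⟨e', he'⟩ ⟨d, hd'⟩))

end Cfsg.Agent.S0614
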