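import Cfsg.Statements.S0615
import Mathlib
import Cfsg.Agent.S0597
import Cfsg.Agent.Lib.Grp.SubnormalJoin
import Cfsg.Agent.Lib.Grp.Subnormal
import Cfsg.Agent.Lib.Grp.Cores
import Cfsg.Agent.Lib.Grp.Signalizer

set_option maxHeartbeats 1000000
set_option maxRecDepth 8000

set_option autoImplicit false
open Cfsg
open scoped commutatorElement Pointwise

namespace Cfsg.Agent.S0615

open Subgroup in
theorem comm_facts {G : Type*} [Group G] {V E : Subgroup G} (hEV : E ≤ Subgroup.normalizer (V : Set G)) :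
    ⁅V, E⁆ ≤ V ∧ E ≤ Subgroup.normalizer ((⁅V, E⁆ : Subgroup G) : Set G) := by
  have hV : ∀ e ∈ E, ∀ v ∈ V, e * v * e⁻¹ ∈ V := fun e he v hv => Cfsg.Agent.Grp.mem_conj_normalizer (hEV he) hv
  refine ⟨Subgroup.commutator_le.2 fun v hv e he => ?_, Cfsg.Agent.Grp.invariant_iff.mp fun e he c hc => ?_⟩
  · rw [commutatorElement_def, mul_assoc v e, mul_assoc v]
    exact V.mul_mem hv (hV e he _ (V.inv_mem hv))
  · have h : (⁅V, E⁆).map (MulAut.conj e).toMonoidHom ≤ ⁅V, E⁆ := by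
      rw [Subgroup.map_commutator]
      refine Subgroup.commutator_mono (Subgroup.map_le_iff_le_comap.2 fun v hv => hV e he v hv)
        (Subgroup.map_le_iff_le_comap.2 fun x hx => mul_mem (mul_mem he hx) (inv_mem he))
    exact h ⟨c, hc, rfl⟩

/-- `x` acts by a transformation whose commutators with `X` fall into both modules. -/
theorem fix_of_disjoint {G : Type*} [Group G] {A B X : Subgroup G} (hd : A ⊓ B = ⊥)
    (hXB : X ≤ Subgroup.normalizer (B : Set G)) (hc : ∀ b ∈ B, ∀ x ∈ X, x * b * x⁻¹ * b⁻¹ ∈ A) :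
    ∀ b ∈ B, ∀ x ∈ X, x * b * x⁻¹ = b := fun b hb x hx => by
  have h : x * b * x⁻¹ * b⁻¹ ∈ A ⊓ B := ⟨hc b hb x hx, B.mul_mem (Cfsg.Agent.Grp.mem_conj_normalizer (hXB hx) hb) (B.inv_mem hb)⟩
  rw [hd, Subgroup.mem_bot, mul_inv_eq_one] at h
  exact h

theorem comm_mem' {G : Type*} [Group G] {V X : Subgroup G} {v x : G} (hv : v ∈ V) (hx : x ∈ X) :
    x * v * x⁻¹ * v⁻¹ ∈ ⁅V, X⁆ := by
  rw [Subgroup.commutator_comm]
  exact Subgroup.commutator_mem_commutator hx hv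

theorem pCore_bot_of_sn {G : Type*} [Group G] [Finite G] {p : ℕ} [Fact p.Prime] {E F : Subgroup G}
    (hFE : F ≤ E) (hsn : (F.subgroupOf E).IsSubnormal) (hE : Cfsg.pCore p ↥E = ⊥) :
    Cfsg.pCore p ↥F = ⊥ := by
  have hinj : Function.Injective (Subgroup.inclusion hFE) := Subgroup.inclusion_injective hFE
  haveI : (Cfsg.pCore p ↥F).Normal := Cfsg.Agent.Grp.pCore_isNormal
  have hr : (Subgroup.inclusion hFE).range = F.subgroupOf E := by
    ext x
    exact ⟨fun ⟨y, hy⟩ => hy ▸ y.2, fun hx => ⟨⟨(x : G), hx⟩, Subtype.ext rfl⟩⟩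
  set P := (Cfsg.pCore p ↥F).map (Subgroup.inclusion hFE) with hP
  have hPle : P ≤ F.subgroupOf E := hr ▸ Subgroup.map_le_range _ _
  have hn : (P.subgroupOf (F.subgroupOf E)).Normal := by
    refine Subgroup.normal_subgroupOf_of_le_normalizer fun a ha => ?_
    rw [← hr] at ha
    obtain ⟨b, rfl⟩ := ha
    exact (Cfsg.Agent.Grp.invariant_iff (A := (Subgroup.inclusion hFE).range) (X := P)).mp (fun g hg n hn => by
      obtain ⟨c, rfl⟩ := hg
      obtain ⟨m, hm, rfl⟩ := hn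
      exact ⟨c * m * c⁻¹, Subgroup.Normal.conj_mem inferInstance m hm c, by simp⟩) (⟨b, rfl⟩ : _ ∈ (Subgroup.inclusion hFE).range)
  have h1 := Cfsg.Agent.Grp.le_pCore_of_isSubnormal (Subgroup.IsSubnormal.step _ _ hPle hsn hn)
    (Cfsg.Agent.Grp.pCore_isPGroup.map (Subgroup.inclusion hFE))
  rw [hE, le_bot_iff, hP, Subgroup.map_eq_bot_iff_of_injective _ hinj] at h1
  exact h1

set_option maxHeartbeats 4000000 in
theorem main {G : Type*} [Group G] [Finite G] {p : ℕ} [Fact p.Prime] {V : Subgroup G} (hV : Cfsg.IsElementaryAbelian p V) :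
    ∀ n : ℕ, ∀ E E₁ E₂ : Subgroup G, Nat.card E = n → E ≤ Subgroup.normalizer (V : Set G) →
    E ⊓ Subgroup.centralizer (V : Set G) = ⊥ → E = E₁ ⊔ E₂ → (E₁.subgroupOf E).IsSubnormal → (E₂.subgroupOf E).IsSubnormal →
    Cfsg.pCore p ↥E = ⊥ →
    (∀ U : Subgroup G, U ≤ ⁅V, E₁⁆ → E₁ ≤ Subgroup.normalizer (U : Set G) → U = ⊥ ∨ U = ⁅V, E₁⁆) →
    (∀ U : Subgroup G, U ≤ ⁅V, E₂⁆ → E₂ ≤ Subgroup.normalizer (U : Set G) → U = ⊥ ∨ U = ⁅V, E₂⁆) →
    ¬ ⁅V, E₁⁆ ≤ ⁅V, E₂⁆ → ¬ ⁅V, E₂⁆ ≤ ⁅V, E₁⁆ → 2 < Nat.card E₁ → 2 < Nat.card E₂ →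
    ⁅E₁, E₂⁆ = ⊥ ∧ E₁ ⊓ E₂ = ⊥ ∧ ⁅V, E₁⁆ ⊓ ⁅V, E₂⁆ = ⊥ ∧ ⁅V, E⁆ = ⁅V, E₁⁆ ⊔ ⁅V, E₂⁆ := by
  intro n
  induction n using Nat.strong_induction_on with
  | _ n ih =>
  intro E E₁ E₂ hn hEV hf hgen hs₁ hs₂ hOp hirr₁ hirr₂ h12 h21 hc₁ hc₂
  have h₁E : E₁ ≤ E := hgen ▸ le_sup_left
  have h₂E : E₂ ≤ E := hgen ▸ le_sup_right
  have hV1 : ⁅V, E₁⁆ ≤ V := (comm_facts (h₁E.trans hEV)).1
  have hN1 : E₁ ≤ Subgroup.normalizer ((⁅V, E₁⁆ : Subgroup G) : Set G) := (comm_facts (h₁E.trans hEV)).2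
  have hV2 : ⁅V, E₂⁆ ≤ V := (comm_facts (h₂E.trans hEV)).1
  have hN2 : E₂ ≤ Subgroup.normalizer ((⁅V, E₂⁆ : Subgroup G) : Set G) := (comm_facts (h₂E.trans hEV)).2
  have hab : ∀ x ∈ V, ∀ y ∈ V, x * y = y * x := fun x hx y hy => congrArg Subtype.val (hV.1.is_comm.comm ⟨x, hx⟩ ⟨y, hy⟩)
  -- conjugates of a factor
  have conj : ∀ X : Subgroup G, X ≤ E → (X.subgroupOf E).IsSubnormal →
      (∀ U : Subgroup G, U ≤ ⁅V, X⁆ → X ≤ Subgroup.normalizer (U : Set G) → U = ⊥ ∨ U = ⁅V, X⁆) →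
      2 < Nat.card X → X ≠ E → ∀ g ∈ E,
      (⁅V, X⁆).map (MulAut.conj g).toMonoidHom = ⁅V, X⁆ ∨
        (⁅V, X⁆ ⊓ (⁅V, X⁆).map (MulAut.conj g).toMonoidHom = ⊥ ∧
          (∀ v ∈ ⁅V, X⁆, ∀ x ∈ X, x * (g * v * g⁻¹) * x⁻¹ = g * v * g⁻¹) ∧
          ∀ v ∈ ⁅V, X⁆, ∀ x ∈ X, (g * x * g⁻¹) * v * (g * x * g⁻¹)⁻¹ = v) := by
    intro X hXE hXs hXirr hXc hXne g hg
    by_cases heq : (⁅V, X⁆).map (MulAut.conj g).toMonoidHom = ⁅V, X⁆
    · exact Or.inl heq
    right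
    have hgV : V.map (MulAut.conj g).toMonoidHom = V := by
      refine le_antisymm ?_ fun v hv => ?_
      · rintro _ ⟨v, hv, rfl⟩; exact Cfsg.Agent.Grp.mem_conj_normalizer (hEV hg) hv
      · exact ⟨g⁻¹ * v * g, by simpa using Cfsg.Agent.Grp.mem_conj_normalizer (hEV (inv_mem hg)) hv, by simp [mul_assoc]⟩
    set Y := X.map (MulAut.conj g).toMonoidHom with hY
    have hYV : ⁅V, Y⁆ = (⁅V, X⁆).map (MulAut.conj g).toMonoidHom := by rw [Subgroup.map_commutator, hgV]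
    have hYE : Y ≤ E := by rintro _ ⟨x, hx, rfl⟩; exact mul_mem (mul_mem hg (hXE hx)) (inv_mem hg)
    have hYo : Y.subgroupOf E = (X.subgroupOf E).map (MulAut.conj (⟨g, hg⟩ : ↥E)).toMonoidHom := by
      ext y
      constructor
      · rintro ⟨x, hx, hxy⟩; exact ⟨⟨x, hXE hx⟩, hx, Subtype.ext hxy⟩
      · rintro ⟨x, hx, rfl⟩; exact ⟨(x : G), hx, rfl⟩
    have hYs : (Y.subgroupOf E).IsSubnormal := hYo ▸ hXs.map (MulAut.conj (⟨g, hg⟩ : ↥E)).surjective
    -- a proper normal subgroup containing both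
    obtain ⟨N, hNn, hXN, hNt⟩ := (hXs.lt_normal).resolve_left fun h =>
      hXne (le_antisymm hXE (Subgroup.subgroupOf_eq_top.1 h))
    have hYN : Y.subgroupOf E ≤ N := by
      rw [hYo]; rintro _ ⟨x, hx, rfl⟩; exact hNn.conj_mem x (hXN hx) _
    set F := X ⊔ Y with hF
    have hFE : F ≤ E := sup_le hXE hYE
    have hFo : F.subgroupOf E = X.subgroupOf E ⊔ Y.subgroupOf E := Subgroup.subgroupOf_sup hXE hYE
    have hFs : (F.subgroupOf E).IsSubnormal := by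
      rw [hFo]; exact Cfsg.Agent.Grp.SnJoin.isSubnormal_sup _ E rfl _ _ hXs hYs
    have hlt : Nat.card F < n := by
      rw [← hn]
      rcases (Subgroup.card_le_of_le hFE).lt_or_eq with h | h
      · exact h
      exfalso
      have h2 : F = E := Subgroup.eq_of_le_of_card_ge hFE h.ge
      have h3 : F.subgroupOf E ≤ N := hFo ▸ sup_le hXN hYN
      rw [h2, Subgroup.subgroupOf_self, top_le_iff] at h3
      exact hNt.ne h3
    have key : ∀ Z : Subgroup G, Z ≤ F → (Z.subgroupOf E).IsSubnormal → (Z.subgroupOf F).IsSubnormal := by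
      intro Z hZF hZs
      exact hZs.comap (Subgroup.inclusion hFE)
    have hYc : Nat.card Y = Nat.card X := Subgroup.card_map_of_injective (MulAut.conj g).injective
    have hcard : Nat.card ↥(⁅V, Y⁆ : Subgroup G) = Nat.card ↥(⁅V, X⁆ : Subgroup G) := by
      rw [hYV]; exact Subgroup.card_map_of_injective (MulAut.conj g).injective
    have hYirr : ∀ U : Subgroup G, U ≤ ⁅V, Y⁆ → Y ≤ Subgroup.normalizer (U : Set G) → U = ⊥ ∨ U = ⁅V, Y⁆ := by
      intro U hU hYU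
      rw [hYV] at hU ⊢
      have hU' : U = (U.comap (MulAut.conj g).toMonoidHom).map (MulAut.conj g).toMonoidHom :=
        (Subgroup.map_comap_eq_self_of_surjective (f := (MulAut.conj g).toMonoidHom) (MulAut.conj g).surjective U).symm
      rcases hXirr (U.comap (MulAut.conj g).toMonoidHom) (fun u hu => by
          obtain ⟨w, hw, hwu⟩ := hU hu
          rwa [← (MulAut.conj g).injective hwu]) (Cfsg.Agent.Grp.invariant_iff.mp fun x hx u hu => by
          have h := Cfsg.Agent.Grp.mem_conj_normalizer (hYU ⟨x, hx, rfl⟩) hu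
          show (MulAut.conj g) (x * u * x⁻¹) ∈ U
          rw [map_mul, map_mul, map_inv]
          exact h) with h | h
      · left; rw [hU', h, Subgroup.map_bot]
      · right; rw [hU', h]
    obtain ⟨hXY, -, hdis, -⟩ := ih _ hlt F X Y rfl (hFE.trans hEV)
      (le_bot_iff.1 (le_trans (inf_le_inf_right _ hFE) hf.le)) rfl (key X le_sup_left hXs) (key Y le_sup_right hYs)
      (pCore_bot_of_sn hFE hFs hOp) hXirr hYirr
      (fun h => heq (hYV ▸ (Subgroup.eq_of_le_of_card_ge h hcard.le).symm))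
      (fun h => heq (hYV ▸ Subgroup.eq_of_le_of_card_ge h hcard.ge)) hXc (hYc ▸ hXc)
    have hcm : ∀ x ∈ X, ∀ y ∈ Y, x * y = y * x := fun x hx y hy => by
      have h := Subgroup.commutator_mem_commutator hx hy
      rwa [hXY, Subgroup.mem_bot, commutatorElement_eq_one_iff_mul_comm] at h
    have hn1 : X ≤ Subgroup.normalizer ((⁅V, Y⁆ : Subgroup G) : Set G) := Cfsg.Agent.Grp.invariant_iff.mp fun x hx c hc => by
      have h : (⁅V, Y⁆).map (MulAut.conj x).toMonoidHom ≤ ⁅V, Y⁆ := by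
        rw [Subgroup.map_commutator]
        refine Subgroup.commutator_mono (Subgroup.map_le_iff_le_comap.2 fun v hv => Cfsg.Agent.Grp.mem_conj_normalizer (hEV (hXE hx)) hv)
          (Subgroup.map_le_iff_le_comap.2 fun y hy => ?_)
        show x * y * x⁻¹ ∈ Y
        rwa [hcm x hx y hy, mul_inv_cancel_right]
      exact h ⟨c, hc, rfl⟩
    have hn2 : Y ≤ Subgroup.normalizer ((⁅V, X⁆ : Subgroup G) : Set G) := Cfsg.Agent.Grp.invariant_iff.mp fun y hy c hc => by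
      have h : (⁅V, X⁆).map (MulAut.conj y).toMonoidHom ≤ ⁅V, X⁆ := by
        rw [Subgroup.map_commutator]
        refine Subgroup.commutator_mono (Subgroup.map_le_iff_le_comap.2 fun v hv => Cfsg.Agent.Grp.mem_conj_normalizer (hEV (hYE hy)) hv)
          (Subgroup.map_le_iff_le_comap.2 fun x hx => ?_)
        show y * x * y⁻¹ ∈ X
        rwa [← hcm x hx y hy, mul_inv_cancel_right]
      exact h ⟨c, hc, rfl⟩
    have hXV : ⁅V, X⁆ ≤ V := (comm_facts (hXE.trans hEV)).1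
    have hYV' : ⁅V, Y⁆ ≤ V := (comm_facts (hYE.trans hEV)).1
    refine ⟨hYV ▸ hdis, fun v hv x hx => ?_, fun v hv x hx => ?_⟩
    · exact fix_of_disjoint hdis hn1 (fun b hb a ha => comm_mem' (hYV' hb) ha) _ (hYV ▸ ⟨v, hv, rfl⟩) x hx
    · exact fix_of_disjoint ((inf_comm _ _).trans hdis) hn2 (fun b hb a ha => comm_mem' (hXV hb) ha) v hv _ ⟨x, hx, rfl⟩
  -- one of them normalizes the module of the other
  have hone : E₂ ≤ Subgroup.normalizer ((⁅V, E₁⁆ : Subgroup G) : Set G) ∨ E₁ ≤ Subgroup.normalizer ((⁅V, E₂⁆ : Subgroup G) : Set G) := by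
    by_contra hcon
    rw [not_or] at hcon
    obtain ⟨hA, hB⟩ := hcon
    obtain ⟨g, hg, hgn⟩ := SetLike.not_le_iff_exists.1 hA
    have h1ne : E₁ ≠ E := fun h => h21 (by
      rw [h]; exact Subgroup.commutator_mono le_rfl h₂E)
    have h2ne : E₂ ≠ E := fun h => h12 (by
      rw [h]; exact Subgroup.commutator_mono le_rfl h₁E)
    have hmove : ∀ (W : Subgroup G) (y : G), y ∉ Subgroup.normalizer (W : Set G) → W.map (MulAut.conj y).toMonoidHom ≠ W := by
      intro W y hy h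
      exact hy (Subgroup.mem_normalizer_iff.2 fun w => ⟨fun hw => (SetLike.ext_iff.1 h _).1 ⟨w, hw, rfl⟩, fun hw => by
        obtain ⟨w', hw', he⟩ := (SetLike.ext_iff.1 h _).2 hw
        rwa [← (MulAut.conj y).injective he]⟩)
    obtain ⟨hd1, hfix1, hfix1'⟩ := (conj E₁ h₁E hs₁ hirr₁ hc₁ h1ne g (h₂E hg)).resolve_left (hmove _ g hgn)
    -- faithfulness on the module
    have hfaith : ∀ x ∈ E₁, (∀ v ∈ ⁅V, E₁⁆, x * v * x⁻¹ = v) → x = 1 := by
      intro x hx hxv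
      -- the centralizer of the module in `E₁` is a subnormal `p`-subgroup
      let K : Subgroup G := E₁ ⊓ Subgroup.centralizer ((⁅V, E₁⁆ : Subgroup G) : Set G)
      have hKp : IsPGroup p K := fun k => ⟨1, Subtype.ext (by
        have hmem : (k : G) ^ p ∈ E ⊓ Subgroup.centralizer (V : Set G) := by
          refine ⟨pow_mem (h₁E k.2.1) p, Subgroup.mem_centralizer_iff.2 fun v hv => ?_⟩
          set d := (k : G) * v * (k : G)⁻¹ * v⁻¹ with hd
          have hdW : d ∈ ⁅V, E₁⁆ := comm_mem' hv k.2.1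
          have hdx : (k : G) * d * (k : G)⁻¹ = d := by
            rw [← Subgroup.mem_centralizer_iff.1 k.2.2 d hdW, mul_inv_cancel_right]
          have hpow : ∀ m : ℕ, (k : G) ^ m * v * ((k : G) ^ m)⁻¹ = d ^ m * v := fun m => by
            induction m with
            | zero => simp
            | succ m ih2 =>
              calc (k : G) ^ (m + 1) * v * ((k : G) ^ (m + 1))⁻¹ = (k : G) * ((k : G) ^ m * v * ((k : G) ^ m)⁻¹) * (k : G)⁻¹ := by
                    rw [pow_succ']; group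
                _ = ((k : G) * d * (k : G)⁻¹) ^ m * ((k : G) * v * (k : G)⁻¹) := by rw [ih2, conj_pow (a := (k : G)) (b := d)]; group
                _ = d ^ m * (d * v) := by rw [hdx, show d * v = (k : G) * v * (k : G)⁻¹ from by rw [hd]; group]
                _ = d ^ (m + 1) * v := by rw [pow_succ d m]; exact (mul_assoc _ _ _).symm
          have h1 := hpow p
          rw [hV.2 _ (hV1 hdW), one_mul, mul_inv_eq_iff_eq_mul] at h1
          exact h1.symm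
        rw [hf, Subgroup.mem_bot] at hmem
        rw [pow_one, SubgroupClass.coe_pow, hmem]; rfl)⟩
      have hKn : (K.subgroupOf E₁).Normal := Subgroup.normal_subgroupOf_of_le_normalizer
        ((Cfsg.Agent.Grp.invariant_iff (A := E₁) (X := K)).mp fun y hy k hk => ⟨mul_mem (mul_mem hy hk.1) (E₁.inv_mem hy),
          Subgroup.mem_centralizer_iff.2 fun c hc => by
            have h1 := Subgroup.mem_centralizer_iff.1 hk.2 (y⁻¹ * c * y)
              (by simpa using Cfsg.Agent.Grp.mem_conj_normalizer (hN1 (inv_mem hy)) hc)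
            calc c * (y * k * y⁻¹) = y * ((y⁻¹ * c * y) * k) * y⁻¹ := by group
              _ = y * k * y⁻¹ * c := by rw [h1]; group⟩)
      have hKE : K.subgroupOf E ≤ E₁.subgroupOf E := fun k hk => hk.1
      have hKn' : ((K.subgroupOf E).subgroupOf (E₁.subgroupOf E)).Normal := by
        constructor
        intro k hk y
        exact hKn.conj_mem ⟨((k : ↥E) : G), k.2⟩ hk ⟨((y : ↥E) : G), y.2⟩
      have h6 := Cfsg.Agent.Grp.le_pCore_of_isSubnormal (Subgroup.IsSubnormal.step _ _ hKE hs₁ hKn')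
        (hKp.comap_of_injective E.subtype E.subtype_injective)
      rw [hOp] at h6
      have hxK : (⟨x, h₁E hx⟩ : ↥E) ∈ K.subgroupOf E :=
        ⟨hx, Subgroup.mem_centralizer_iff.2 fun c hc => (mul_inv_eq_iff_eq_mul.1 (hxv c hc)).symm⟩
      simpa using h6 hxK
    have hfix0 : ∀ a ∈ ⁅V, E₁⁆, (∀ x ∈ E₁, x * a * x⁻¹ = a) → a = 1 := by
      intro a ha hax
      have hU := hirr₁ (⁅V, E₁⁆ ⊓ Subgroup.centralizer (E₁ : Set G)) inf_le_left
        (Cfsg.Agent.Grp.invariant_iff.mp fun x hx u hu => by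
          have := Subgroup.mem_centralizer_iff.1 hu.2 x hx
          rw [this, mul_inv_cancel_right]; exact hu)
      have hmem : a ∈ ⁅V, E₁⁆ ⊓ Subgroup.centralizer (E₁ : Set G) :=
        ⟨ha, Subgroup.mem_centralizer_iff.2 fun x hx => mul_inv_eq_iff_eq_mul.1 (hax x hx)⟩
      rcases hU with h | h
      · rwa [h, Subgroup.mem_bot] at hmem
      exfalso
      have hbot : E₁ = ⊥ := (Subgroup.eq_bot_iff_forall _).2 fun x hx => hfaith x hx fun v hv => by
        rw [← h] at hv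
        rw [Subgroup.mem_centralizer_iff.1 hv.2 x hx, mul_inv_cancel_right]
      rw [hbot, Subgroup.card_bot] at hc₁
      omega
    -- the moving elements act as inversion
    have hmv : ∀ e ∈ E₁, e ∉ Subgroup.normalizer ((⁅V, E₂⁆ : Subgroup G) : Set G) →
        ∀ v ∈ ⁅V, E₁⁆, e * v * e⁻¹ = v⁻¹ := by
      intro e he hen v hv
      obtain ⟨-, -, hfix2⟩ := (conj E₂ h₂E hs₂ hirr₂ hc₂ h2ne e (h₁E he)).resolve_left (hmove _ e hen)
      obtain ⟨-, hfix2a, -⟩ := (conj E₂ h₂E hs₂ hirr₂ hc₂ h2ne e (h₁E he)).resolve_left (hmove _ e hen)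
      set w := g * v * g⁻¹ with hw
      have hwV : w ∈ V := Cfsg.Agent.Grp.mem_conj_normalizer (hEV (h₂E hg)) (hV1 hv)
      have hd : v * w⁻¹ ∈ ⁅V, E₂⁆ := by
        have := (⁅V, E₂⁆).inv_mem (comm_mem' (hV1 hv) hg)
        rwa [← hw, mul_inv_rev, inv_inv] at this
      set a := e * v * e⁻¹ with ha
      have haM : a ∈ ⁅V, E₁⁆ := Cfsg.Agent.Grp.mem_conj_normalizer (hN1 he) hv
      have hc : g * (a * w⁻¹) * g⁻¹ = a * w⁻¹ := by
        have h := hfix2a _ hd g hg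
        have he' : e * (v * w⁻¹) * e⁻¹ = a * w⁻¹ := by
          calc e * (v * w⁻¹) * e⁻¹ = (e * v * e⁻¹) * (e * w * e⁻¹)⁻¹ := by group
            _ = a * w⁻¹ := by rw [hw, hfix1 v hv e he, ← ha, ← hw]
        rwa [he'] at h
      set u := g * g * v * (g * g)⁻¹ with hu
      have huV : u ∈ V := Cfsg.Agent.Grp.mem_conj_normalizer (hEV (h₂E (mul_mem hg hg))) (hV1 hv)
      have hprod : g * (a * v) * g⁻¹ = a * u := by
        calc g * (a * v) * g⁻¹ = (g * (a * w⁻¹) * g⁻¹) * ((g * w * g⁻¹) * w) := by rw [hw]; group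
          _ = (a * w⁻¹) * (u * w) := by rw [hc, hw, hu]; group
          _ = a * (w⁻¹ * u * w) := by group
          _ = a * u := by rw [mul_assoc w⁻¹, hab u huV w hwV, inv_mul_cancel_left]
      have havM : a * v ∈ ⁅V, E₁⁆ := mul_mem haM hv
      rcases conj E₁ h₁E hs₁ hirr₁ hc₁ h1ne (g * g) (h₂E (mul_mem hg hg)) with h | ⟨-, hfixu, -⟩
      · have huM : u ∈ ⁅V, E₁⁆ := (SetLike.ext_iff.1 h _).1 ⟨v, hv, rfl⟩
        have hmem : g * (a * v) * g⁻¹ ∈ ⁅V, E₁⁆ ⊓ (⁅V, E₁⁆).map (MulAut.conj g).toMonoidHom :=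
          ⟨hprod ▸ mul_mem haM huM, ⟨a * v, havM, rfl⟩⟩
        rw [hd1, Subgroup.mem_bot, conj_eq_one_iff] at hmem
        exact eq_inv_of_mul_eq_one_left hmem
      · have ha1 : a = 1 := hfix0 a haM fun x hx => by
          have h1 := hfix1 (a * v) havM x hx
          rw [hprod] at h1
          calc x * a * x⁻¹ = (x * (a * u) * x⁻¹) * (x * u * x⁻¹)⁻¹ := by group
            _ = a := by rw [h1, hu, hfixu v hv x hx, mul_inv_cancel_right]
        have : v = 1 := conj_eq_one_iff.1 (ha.symm.trans ha1)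
        rw [ha1, this, inv_one]
    -- so there is only one moving element
    obtain ⟨e, he, hen⟩ := SetLike.not_le_iff_exists.1 hB
    have huniq : ∀ y ∈ E₁, y ∉ Subgroup.normalizer ((⁅V, E₂⁆ : Subgroup G) : Set G) → y = e := by
      intro y hy hyn
      have h := hfaith (y⁻¹ * e) (mul_mem (inv_mem hy) he) fun v hv => by
        calc y⁻¹ * e * v * (y⁻¹ * e)⁻¹ = y⁻¹ * (e * v * e⁻¹) * y := by group
          _ = y⁻¹ * (y * v * y⁻¹) * y := by rw [hmv e he hen v hv, hmv y hy hyn v hv]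
          _ = v := by group
      exact inv_mul_eq_one.1 h
    have hall : ∀ y ∈ E₁, y = 1 ∨ y = e := by
      intro y hy
      by_cases hyn : y ∈ Subgroup.normalizer ((⁅V, E₂⁆ : Subgroup G) : Set G)
      · left
        have h : e * y ∉ Subgroup.normalizer ((⁅V, E₂⁆ : Subgroup G) : Set G) := fun h =>
          hen (by simpa using mul_mem h (inv_mem hyn))
        simpa using huniq _ (mul_mem he hy) h
      · exact Or.inr (huniq y hy hyn)
    have hle : Nat.card E₁ ≤ 2 := by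
      have h1 : (E₁ : Set G) ⊆ {1, e} := fun y hy => hall y hy
      calc Nat.card E₁ = (E₁ : Set G).ncard := rfl
        _ ≤ ({1, e} : Set G).ncard := Set.ncard_le_ncard h1 (Set.toFinite _)
        _ ≤ 2 := (Set.ncard_insert_le _ _).trans (by rw [Set.ncard_singleton])
    omega
  -- the modules meet trivially
  have hdis : ⁅V, E₁⁆ ⊓ ⁅V, E₂⁆ = ⊥ := by
    rcases hone with h | h
    · rcases hirr₂ (⁅V, E₁⁆ ⊓ ⁅V, E₂⁆) inf_le_right ((Cfsg.Agent.Grp.invariant_iff (X := ⁅V, E₁⁆ ⊓ ⁅V, E₂⁆)).mp fun y hy u hu =>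
        ⟨Cfsg.Agent.Grp.mem_conj_normalizer (h hy) hu.1, Cfsg.Agent.Grp.mem_conj_normalizer (hN2 hy) hu.2⟩) with h' | h'
      · exact h'
      · exact absurd (h' ▸ inf_le_left) h21
    · rcases hirr₁ (⁅V, E₁⁆ ⊓ ⁅V, E₂⁆) inf_le_left ((Cfsg.Agent.Grp.invariant_iff (X := ⁅V, E₁⁆ ⊓ ⁅V, E₂⁆)).mp fun y hy u hu =>
        ⟨Cfsg.Agent.Grp.mem_conj_normalizer (hN1 hy) hu.1, Cfsg.Agent.Grp.mem_conj_normalizer (h hy) hu.2⟩) with h' | h'
      · exact h'
      · exact absurd (h' ▸ inf_le_right) h12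
  have hcom : ⁅E₁, E₂⁆ = ⊥ := by
    rcases hone with h | h
    · have hz : ⁅⁅V, E₁⁆, E₂⁆ = ⊥ := Subgroup.commutator_eq_bot_iff_le_centralizer.2 fun b hb => Subgroup.mem_centralizer_iff.2 fun x hx =>
        mul_inv_eq_iff_eq_mul.1 (fix_of_disjoint ((inf_comm _ _).trans hdis) h (fun b' hb' a ha => comm_mem' (hV1 hb') ha) b hb x hx)
      have h5 := Cfsg.Agent.S0597.result (p := p) V E hV hEV hf E₁ E₂ h₁E h₂E hs₁ hs₂ hz
      rw [hOp, Subgroup.map_bot, le_bot_iff] at h5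
      exact h5
    · have hz : ⁅⁅V, E₂⁆, E₁⁆ = ⊥ := Subgroup.commutator_eq_bot_iff_le_centralizer.2 fun b hb => Subgroup.mem_centralizer_iff.2 fun x hx =>
        mul_inv_eq_iff_eq_mul.1 (fix_of_disjoint hdis h (fun b' hb' a ha => comm_mem' (hV2 hb') ha) b hb x hx)
      have h5 := Cfsg.Agent.S0597.result (p := p) V E hV hEV hf E₂ E₁ h₂E h₁E hs₂ hs₁ hz
      rw [hOp, Subgroup.map_bot, le_bot_iff] at h5
      rw [Subgroup.commutator_comm]
      exact h5
  refine ⟨hcom, ?_, hdis, ?_⟩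
  · rw [eq_bot_iff]
    rintro x ⟨hx1, hx2⟩
    have hmem : x ∈ E ⊓ Subgroup.centralizer (V : Set G) := ⟨h₁E hx1, Subgroup.mem_centralizer_iff.2 fun v hv => by
      have h : x * v * x⁻¹ * v⁻¹ ∈ ⁅V, E₁⁆ ⊓ ⁅V, E₂⁆ := ⟨comm_mem' hv hx1, comm_mem' hv hx2⟩
      rw [hdis, Subgroup.mem_bot, mul_inv_eq_one, mul_inv_eq_iff_eq_mul] at h
      exact h.symm⟩
    rwa [hf] at hmem
  · refine le_antisymm ?_ (sup_le (Subgroup.commutator_mono le_rfl h₁E) (Subgroup.commutator_mono le_rfl h₂E))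
    set W := ⁅V, E₁⁆ ⊔ ⁅V, E₂⁆ with hW
    have hWV : W ≤ V := sup_le hV1 hV2
    have hWn : ∀ e ∈ E, e ∈ Subgroup.normalizer (W : Set G) := by
      intro e he
      rw [hgen] at he
      refine (sup_le (fun y hy => Cfsg.Agent.Grp.invariant_iff.mp (fun x hx c hc => ?_) hy)
        (fun y hy => Cfsg.Agent.Grp.invariant_iff.mp (fun x hx c hc => ?_) hy) :
        E₁ ⊔ E₂ ≤ Subgroup.normalizer (W : Set G)) he
      · have := mul_mem (Subgroup.mem_sup_left (T := ⁅V, E₂⁆) (comm_mem' (hWV hc) hx)) hc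
        simpa using this
      · have := mul_mem (Subgroup.mem_sup_right (S := ⁅V, E₁⁆) (comm_mem' (hWV hc) hx)) hc
        simpa using this
    let K : Subgroup G :=
      { carrier := {e | e ∈ E ∧ ∀ v ∈ V, e * v * e⁻¹ * v⁻¹ ∈ W}
        one_mem' := ⟨one_mem _, fun v _ => by simp⟩
        mul_mem' := fun {a b} ha hb => ⟨mul_mem ha.1 hb.1, fun v hv => by
          have h2 : a * b * v * (a * b)⁻¹ * v⁻¹ = (a * (b * v * b⁻¹ * v⁻¹) * a⁻¹) * (a * v * a⁻¹ * v⁻¹) := by group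
          rw [h2]
          exact mul_mem (Cfsg.Agent.Grp.mem_conj_normalizer (hWn a ha.1) (hb.2 v hv)) (ha.2 v hv)⟩
        inv_mem' := fun {a} ha => ⟨inv_mem ha.1, fun v hv => by
          have h1 := Cfsg.Agent.Grp.mem_conj_normalizer (hWn a⁻¹ (inv_mem ha.1)) (W.inv_mem (ha.2 v hv))
          have h2 : a⁻¹ * v * a⁻¹⁻¹ * v⁻¹ = a⁻¹ * (a * v * a⁻¹ * v⁻¹)⁻¹ * a⁻¹⁻¹ := by group
          rw [h2]; exact h1⟩ }
    have hEK : E ≤ K := by
      conv_lhs => rw [hgen]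
      exact sup_le (fun x hx => ⟨h₁E hx, fun v hv => Subgroup.mem_sup_left (comm_mem' hv hx)⟩)
        (fun x hx => ⟨h₂E hx, fun v hv => Subgroup.mem_sup_right (comm_mem' hv hx)⟩)
    rw [Subgroup.commutator_comm]
    exact Subgroup.commutator_le.2 fun e he v hv => (hEK he).2 v hv

/-- Two subnormal subgroups acting irreducibly on their incomparable commutator modules, in a faithful group with trivial largest normal p-subgroup, generate their direct product, and the commutator module splits accordingly. -/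
theorem result {G : Type*} [Group G] [Finite G] {p : ℕ} [Fact p.Prime] (V E E₁ E₂ : Subgroup G) (hV : Cfsg.IsElementaryAbelian p V) (hEV : E ≤ Subgroup.normalizer (V : Set G)) (hf : E ⊓ Subgroup.centralizer (V : Set G) = ⊥) (hgen : E = E₁ ⊔ E₂) (hs₁ : (E₁.subgroupOf E).IsSubnormal) (hs₂ : (E₂.subgroupOf E).IsSubnormal) (hOp : Cfsg.pCore p ↥E = ⊥) (hirr₁ : (∀ U : Subgroup G, U ≤ ⁅V, E₁⁆ → E₁ ≤ Subgroup.normalizer (U : Set G) → U = ⊥ ∨ U = ⁅V, E₁⁆)) (hirr₂ : (∀ U : Subgroup G, U ≤ ⁅V, E₂⁆ → E₂ ≤ Subgroup.normalizer (U : Set G) → U = ⊥ ∨ U = ⁅V, E₂⁆)) (h12 : ¬ ⁅V, E₁⁆ ≤ ⁅V, E₂⁆) (h21 : ¬ ⁅V, E₂⁆ ≤ ⁅V, E₁⁆) (hc₁ : 2 < Nat.card E₁) (hc₂ : 2 < Nat.card E₂) : ⁅E₁, E₂⁆ = ⊥ ∧ E₁ ⊓ E₂ = ⊥ ∧ ⁅V, E₁⁆ ⊓ ⁅V, E₂⁆ = ⊥ ∧ ⁅V, E⁆ = ⁅V, E₁⁆ ⊔ ⁅V, E₂⁆ := by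

  exact main hV _ E E₁ E₂ rfl hEV hf hgen hs₁ hs₂ hOp hirr₁ hirr₂ h12 h21 hc₁ hc₂

end Cfsg.Agent.S0615
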