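import Cfsg.Statements.S0619
import Cfsg.Agent.Lib.Transfer.OffenderAction
import Cfsg.Agent.Lib.Invol.ZJElem

set_option maxHeartbeats 1000000
set_option maxRecDepth 8000

set_option autoImplicit false
open Cfsg
open scoped commutatorElement Pointwise

namespace Cfsg.Agent.S0619

/-- For a p-separable group and a normal elementary abelian p-subgroup V with no nontrivial normal p-subgroup modulo its centralizer C, the Thompson subgroup J(G) moves Ω₁(Z(J(C))) only inside V. -/
theorem result {G : Type*} [Group G] [Finite G] {p : ℕ} [Fact p.Prime] (hsep : Cfsg.IsPSolvable p G) (V : Subgroup G) [V.Normal] (hV : Cfsg.IsElementaryAbelian p V) (hO : Cfsg.pCore p (G ⧸ Subgroup.centralizer (V : Set G)) = ⊥) : ⁅Cfsg.omegaOne p (Cfsg.centerThompsonOf p (Subgroup.centralizer (V : Set G))), Cfsg.thompsonSubgroup p G⁆ ≤ V := by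
  set C := Subgroup.centralizer (V : Set G) with hC
  set W := Cfsg.omegaOne p (Cfsg.centerThompsonOf p C) with hW
  have s := Transfer.Offender.holoSetup (p := p) hV hsep hO
  have hVC : V ≤ C := fun v hv => Subgroup.mem_centralizer_iff.mpr fun w hw =>
    Grp.elemAb_comm hV w hw v hv
  set q := QuotientGroup.mk' V
  suffices h : Cfsg.thompsonSubgroup p G ≤ (Subgroup.centralizer ((W.map q : Subgroup (G ⧸ V)) : Set (G ⧸ V))).comap q by
    refine Subgroup.commutator_le.mpr fun w hw j hj => ?_
    rw [← QuotientGroup.ker_mk' V, MonoidHom.mem_ker, map_commutatorElement,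
      commutatorElement_eq_one_iff_mul_comm]
    exact Subgroup.mem_centralizer_iff.mp (h hj) _ ⟨w, hw, rfl⟩
  refine sSup_le fun A hA => ?_
  -- the offender inequality
  have hbest := Transfer.Offender.isBestOffenderOn_holo (Transfer.Thompson.isBestOffenderOn_of_max hV hA)
  have hex := s.isExact_of_best (by rintro _ ⟨a, -, rfl⟩; exact ⟨a, rfl⟩) hbest
  have hcV : Nat.card ↥(Transfer.Offender.holoBase V) = Nat.card V :=
    (Nat.card_congr (MonoidHom.ofInjective SemidirectProduct.inl_injective).toEquiv).symm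
  have h1 := hex.2
  rw [Transfer.Offender.card_holo_fix, hcV] at h1
  have h2 := Transfer.Offender.card_map_mul_inf_ker (Transfer.Offender.holoHom V) A
  rw [Transfer.Offender.holoHom_ker] at h2
  set A₀ := A ⊓ C with hA₀
  set B := A₀ ⊔ V with hB
  have hc0 : ∀ a ∈ A₀, ∀ v ∈ V, a * v = v * a := fun a ha v hv =>
    (Subgroup.mem_centralizer_iff.mp ha.2 v hv).symm
  have hn : A₀ ≤ Subgroup.normalizer (V : Set G) := Subgroup.le_normalizer_of_normal
  have hBel : Cfsg.IsElementaryAbelian p B := by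
    have : B = Subgroup.closure ((A₀ : Set G) ∪ V) := by
      rw [Subgroup.closure_union, Subgroup.closure_eq, Subgroup.closure_eq]
    rw [this]
    refine Transfer.Thompson.isElementaryAbelian_closure ?_ ?_
    · rintro a (ha | ha) b (hb | hb)
      · exact Transfer.Thompson.comm_of hA.1 ha.1 hb.1
      · exact hc0 a ha b hb
      · exact (hc0 b hb a ha).symm
      · exact Transfer.Thompson.comm_of hV ha hb
    · rintro a (ha | ha)
      · exact hA.1.2 a ha.1
      · exact hV.2 a ha
  have hBcard : Nat.card A ≤ Nat.card B := by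
    have h3 := Grp.card_sup_mul_card_inf hn
    have h4 : Nat.card ↥(A₀ ⊓ V) ≤ Nat.card ↥(Transfer.Offender.fix V A) :=
      Nat.le_of_dvd Nat.card_pos (Subgroup.card_dvd_of_le fun x hx => ⟨hx.2,
        Subgroup.mem_centralizer_iff.mpr fun a ha => Transfer.Thompson.comm_of hA.1 ha hx.1.1⟩)
    refine Nat.le_of_mul_le_mul_right (c := Nat.card ↥(Transfer.Offender.fix V A)) ?_ Nat.card_pos
    calc Nat.card A * Nat.card ↥(Transfer.Offender.fix V A)
        = (Nat.card ↥(Subgroup.map (Transfer.Offender.holoHom V) A) * Nat.card ↥(Transfer.Offender.fix V A)) * Nat.card A₀ := by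
          rw [← h2]; ring
      _ = Nat.card B * Nat.card ↥(A₀ ⊓ V) := by rw [h1, h3]; ring
      _ ≤ _ := Nat.mul_le_mul_left _ h4
  have hBC : B ≤ C := sup_le inf_le_right hVC
  have hBmax : Invol.IsMaxEl p C B := ⟨hBC, ⟨Grp.elemAb_comm hBel, hBel.2⟩, fun D hD hc =>
    le_trans (hA.2 D (Transfer.Thompson.isElementaryAbelian_of hc.1 hc.2)) hBcard⟩
  have hWB : W ≤ B := (Subgroup.closure_le _).mpr fun x hx =>
    hBmax.mem_of_commute (hBC.trans le_rfl |> fun _ => Invol.thompsonEl_le C hx.1.1) hx.2 fun b hb =>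
      Subgroup.mem_centralizer_iff.mp hx.1.2 b (hBmax.le_thompsonEl hb)
  intro a ha
  refine Subgroup.mem_centralizer_iff.mpr ?_
  rintro _ ⟨w, hw, rfl⟩
  have hw' := hWB hw
  rw [hB, ← SetLike.mem_coe, Subgroup.coe_mul_of_left_le_normalizer_right _ _ hn] at hw'
  obtain ⟨a₀, ha₀, v, hv, rfl⟩ := hw'
  have e1 : q v = 1 := (QuotientGroup.eq_one_iff v).mpr hv
  show q (a₀ * v) * q a = q a * q (a₀ * v)
  rw [map_mul, e1, mul_one, ← map_mul, ← map_mul, Transfer.Thompson.comm_of hA.1 ha₀.1 ha]

end Cfsg.Agent.S0619
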