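import Cfsg.Statements.S0621
import Cfsg.Agent.Lib.Transfer.OffenderFailure

set_option maxHeartbeats 1000000
set_option maxRecDepth 8000

set_option autoImplicit false
open Cfsg
open scoped commutatorElement Pointwise

namespace Cfsg.Agent.S0621

/-- Let K be p-separable with O_p'(K) = 1, normalized by an elementary abelian q-group X for a prime q not dividing the order of K. If the Thompson factorization fails in K, then p is 2 or 3 and the fixed points of X contain a plane W of order p² and a subgroup inducing SL(2, p) on it. -/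
theorem result {G : Type*} [Group G] [Finite G] {p : ℕ} [Fact p.Prime] {q : ℕ} [Fact q.Prime] (K X : Subgroup G) (hXK : X ≤ Subgroup.normalizer (K : Set G)) (hX : Cfsg.IsElementaryAbelian q X) (hq : ¬ q ∣ Nat.card K) (hsep : Cfsg.IsPSolvable p ↥K) (hO : Cfsg.pPrimeCore p ↥K = ⊥) (hnf : ¬ Cfsg.IsThompsonFactorizable p ↥K) : (p = 2 ∨ p = 3) ∧ ∃ W D : Subgroup G, W ≤ K ⊓ Subgroup.centralizer (X : Set G) ∧ D ≤ K ⊓ Subgroup.centralizer (X : Set G) ∧ Cfsg.IsElementaryAbelian p W ∧ Nat.card W = p ^ 2 ∧ D ≤ Subgroup.normalizer (W : Set G) ∧ ∃ hn : ((Subgroup.centralizer (W : Set G)).subgroupOf D).Normal, Nonempty ((↥D ⧸ (Subgroup.centralizer (W : Set G)).subgroupOf D) ≃* Matrix.SpecialLinearGroup (Fin 2) (ZMod p)) := by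
  obtain ⟨h23, W, D, hW, hD, hWe, hWc, hDn, g, hgs, hker⟩ :=
    Transfer.Offender.exists_fixed_plane hsep hO (Grp.elemAb_isPGroup hX) hq
      (K.normalizerMonoidHom.comp (Subgroup.inclusion hXK)) hnf
  have hfix : ∀ S : Subgroup K, (∀ w ∈ S, ∀ y : X, (K.normalizerMonoidHom.comp (Subgroup.inclusion hXK)) y w = w) →
      S.map K.subtype ≤ K ⊓ Subgroup.centralizer (X : Set G) := by
    rintro S hS _ ⟨w, hw, rfl⟩
    exact ⟨w.2, Subgroup.mem_centralizer_iff.mpr fun x hx =>
      mul_inv_eq_iff_eq_mul.mp (congrArg Subtype.val (hS w hw ⟨x, hx⟩))⟩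
  have hle : D.map K.subtype ≤ Subgroup.normalizer ((W.map K.subtype : Subgroup G) : Set G) := by
    refine Grp.invariant_iff.mp ?_
    rintro _ ⟨d, hd, rfl⟩ _ ⟨w, hw, rfl⟩
    exact ⟨d * w * d⁻¹, Grp.mem_conj_normalizer (hDn hd) hw, rfl⟩
  let e : D ≃* D.map K.subtype := Subgroup.equivMapOfInjective D K.subtype K.subtype_injective
  let g' : ↥(D.map K.subtype) →* Matrix.SpecialLinearGroup (Fin 2) (ZMod p) := g.comp e.symm.toMonoidHom
  have hker' : g'.ker = (Subgroup.centralizer ((W.map K.subtype : Subgroup G) : Set G)).subgroupOf (D.map K.subtype) := by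
    ext x
    obtain ⟨d, rfl⟩ := e.surjective x
    rw [MonoidHom.mem_ker, Subgroup.mem_subgroupOf, Subgroup.mem_centralizer_iff]
    show g (e.symm (e d)) = 1 ↔ _
    rw [e.symm_apply_apply, ← MonoidHom.mem_ker, hker, Subgroup.mem_subgroupOf, Subgroup.mem_centralizer_iff]
    constructor
    · rintro h _ ⟨w, hw, rfl⟩
      exact congrArg Subtype.val (h w hw)
    · exact fun h w hw => Subtype.ext (h _ ⟨w, hw, rfl⟩)
  refine ⟨h23, W.map K.subtype, D.map K.subtype, hfix W hW, hfix D hD, Transfer.Thompson.isElementaryAbelian_map K.subtype hWe,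
    by rw [Subgroup.card_map_of_injective K.subtype_injective, hWc], hle, ?_⟩
  have hn : ((Subgroup.centralizer ((W.map K.subtype : Subgroup G) : Set G)).subgroupOf (D.map K.subtype)).Normal :=
    hker' ▸ inferInstance
  exact ⟨hn, ⟨(QuotientGroup.quotientMulEquivOfEq hker'.symm).trans
    (QuotientGroup.quotientKerEquivOfSurjective g' (hgs.comp e.symm.surjective))⟩⟩

end Cfsg.Agent.S0621
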