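import Cfsg.Statements.S0627
import Cfsg.Agent.Lib.Transfer.StableClosure
import Cfsg.Agent.Lib.Transfer.PStableFree
import Cfsg.Agent.Lib.Grp.PSolvable
import Mathlib

set_option maxHeartbeats 1000000
set_option maxRecDepth 8000

set_option autoImplicit false
open Cfsg

namespace Cfsg.Agent.S0627

/-- In a p-separable group with p at least 5, the normalizer of W(S) supplements the largest normal subgroup of order prime to p. -/
theorem result {G : Type*} [Group G] [Finite G] {p : ℕ} [Fact p.Prime] (hp : 5 ≤ p) (hsep : Cfsg.IsPSolvable p G) (S : Sylow p G) : Cfsg.pPrimeCore p G ⊔ Subgroup.normalizer (((Cfsg.stableNormalClosure p ↥(S : Subgroup G)).map (S : Subgroup G).subtype) : Set G) = ⊤ := by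
  classical
  set O := Cfsg.pPrimeCore p G with hO
  haveI : O.Normal := Grp.pPrimeCore_isNormal
  set f := QuotientGroup.mk' O with hf
  have hfs : Function.Surjective f := QuotientGroup.mk'_surjective O
  have hsep' : Cfsg.IsPSolvable p (G ⧸ O) := Grp.isPSolvable_map hsep f hfs
  set P : Sylow p (G ⧸ O) := S.mapSurjective hfs with hP
  have hOc : (Nat.card O).Coprime p := Grp.pPrimeCore_coprime
  have hinj : ∀ x ∈ (S : Subgroup G), f x = 1 → x = 1 := by
    intro x hx h
    obtain ⟨k, hk⟩ := S.isPGroup' ⟨x, hx⟩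
    have h1 : orderOf x ∣ p ^ k := orderOf_dvd_of_pow_eq_one (congrArg Subtype.val hk)
    have h2 : orderOf x ∣ Nat.card O := O.orderOf_dvd_natCard ((QuotientGroup.eq_one_iff x).1 h)
    exact orderOf_eq_one_iff.1 (Nat.eq_one_of_dvd_coprimes (hOc.pow_right k) h2 h1)
  have hPmap : (P : Subgroup (G ⧸ O)) = (S : Subgroup G).map f := rfl
  let g : ↥(S : Subgroup G) →* ↥(P : Subgroup (G ⧸ O)) :=
    (f.comp (S : Subgroup G).subtype).codRestrict (P : Subgroup (G ⧸ O)) fun x => hPmap.ge ⟨x, x.2, rfl⟩
  have hg : Function.Bijective g := by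
    constructor
    · rw [injective_iff_map_eq_one]
      intro x hx
      exact Subtype.ext (hinj x x.2 (congrArg Subtype.val hx))
    · rintro ⟨y, hy⟩
      obtain ⟨x, hx, rfl⟩ := hPmap.le hy
      exact ⟨⟨x, hx⟩, rfl⟩
  let η := MulEquiv.ofBijective g hg
  set W0 := (Cfsg.stableNormalClosure p ↥(S : Subgroup G)).map (S : Subgroup G).subtype with hW0
  have hWmap : W0.map f = (Cfsg.stableNormalClosure p ↥(P : Subgroup (G ⧸ O))).map (P : Subgroup (G ⧸ O)).subtype := by
    rw [← (S0622.result (p := p) S.isPGroup').2.2.2.2 _ η, hW0, Subgroup.map_map, Subgroup.map_map]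
    rfl
  have hstab : Cfsg.IsActionPStable p (G ⧸ O) :=
    Transfer.isActionPStable_of_qdFree (by omega) (Transfer.qdFree_of_isPSolvable hp hsep')
  haveI hn : (W0.map f).Normal := by
    rw [hWmap]
    exact Transfer.StableClosure.normal_of_stable hstab
      (Grp.centralizer_pCore_le_of_pSolvable hsep' Grp.pPrimeCore_quotient_eq_bot) P
  set M := (W0.map f).comap f with hM
  haveI : M.Normal := hn.comap f
  have hMeq : M = W0 ⊔ O := by rw [hM, Subgroup.comap_map_eq, hf, QuotientGroup.ker_mk']
  have hW0M : W0 ≤ M := hMeq ▸ le_sup_left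
  have hW0S : W0 ≤ (S : Subgroup G) := Subgroup.map_subtype_le _
  have hW0p : IsPGroup p W0 := S.isPGroup'.to_le hW0S
  have hidx : ¬ p ∣ (W0.subgroupOf M).index := by
    intro hd
    have h1 := Grp.card_sup_mul_card_inf_normal (H := W0) (N := O)
    rw [← hMeq] at h1
    have h2 := Subgroup.card_mul_index (W0.subgroupOf M)
    rw [Nat.card_congr (Subgroup.subgroupOfEquivOfLe hW0M).toEquiv] at h2
    rw [← h2, mul_assoc] at h1
    have h3 : (W0.subgroupOf M).index ∣ Nat.card O :=
      ⟨_, (Nat.eq_of_mul_eq_mul_left Nat.card_pos h1).symm⟩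
    exact (Fact.out : p.Prime).coprime_iff_not_dvd.1 hOc.symm (hd.trans h3)
  let Q : Sylow p M := (hW0p.comap_subtype (K := M)).toSylow hidx
  have h := Sylow.normalizer_sup_eq_top Q
  rw [show (Q : Subgroup M).map M.subtype = W0 from by
    show (W0.subgroupOf M).map M.subtype = W0
    rw [Subgroup.subgroupOf_map_subtype, inf_eq_left.2 hW0M]] at h
  rw [eq_top_iff, ← h]
  refine sup_le le_sup_right ?_
  rw [hMeq]
  exact sup_le (Subgroup.le_normalizer.trans le_sup_right) le_sup_left

end Cfsg.Agent.S0627
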