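import Cfsg.Statements.S0628
import Cfsg.Agent.Lib.Transfer.SylowFunctorComplement
import Cfsg.Agent.Lib.Transfer.StableClosure
import Mathlib

set_option maxHeartbeats 1000000
set_option maxRecDepth 8000

set_option autoImplicit false
open Cfsg

namespace Cfsg.Agent.S0628

universe v

/-- `W(R)` inside the ambient group. -/
abbrev stableOf (p : ℕ) (G : Type v) [Group G] (R : Subgroup G) : Subgroup G :=
  (Cfsg.stableNormalClosure p ↥R).map R.subtype

theorem isSylowFunctor (p : ℕ) [Fact p.Prime] :
    Transfer.SylowFunctor.IsSylowFunctor.{v} p (fun G [Group G] R => stableOf p G R) where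
  le R := Subgroup.map_subtype_le _
  map := by
    intro G H _ _ _ f R hR hinj
    let g : ↥R →* ↥(R.map f) := f.subgroupMap R
    have hg : Function.Bijective g := by
      refine ⟨(injective_iff_map_eq_one _).2 fun x hx => Subtype.ext (hinj x x.2 (congrArg Subtype.val hx)),
        f.subgroupMap_surjective R⟩
    show ((Cfsg.stableNormalClosure p ↥R).map R.subtype).map f = (Cfsg.stableNormalClosure p ↥(R.map f)).map (R.map f).subtype
    rw [← (S0622.result (p := p) hR).2.2.2.2 _ (MulEquiv.ofBijective g hg), Subgroup.map_map, Subgroup.map_map]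
    rfl
  ne_bot := by
    intro G _ _ R hR hne h
    haveI : Nontrivial ↥R := (Subgroup.nontrivial_iff_ne_bot R).2 hne
    exact (S0622.result (p := p) hR).2.2.2.1 inferInstance
      ((Subgroup.map_eq_bot_iff_of_injective _ R.subtype_injective).1 h)
  normalizer_le := by
    intro G _ _ R hR n hn
    have hchar := (S0622.result (p := p) hR).2.2.2.2
    have key : ∀ m ∈ Subgroup.normalizer (R : Set G), ∀ x ∈ stableOf p G R, m * x * m⁻¹ ∈ stableOf p G R := by
      rintro m hm _ ⟨x, hx, rfl⟩
      let α : MulAut ↥R := R.normalizerMonoidHom ⟨m, hm⟩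
      exact ⟨α x, (hchar _ α).le ⟨x, hx, rfl⟩, rfl⟩
    rw [Subgroup.mem_normalizer_iff]
    intro x
    refine ⟨key n hn x, fun hx => ?_⟩
    have := key n⁻¹ ((Subgroup.normalizer (R : Set G)).inv_mem hn) _ hx
    convert this using 1
    group
  normal := by
    intro G _ _ _ hc hst S
    exact Transfer.StableClosure.normal_of_stable hst hc S


/-- The normal p-complement Theorem of Thompson in the form with W(S): for odd p, G has a normal p-complement as soon as the normalizer of the characteristic subgroup W(S) of a Sylow p-subgroup S has one. -/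
theorem result {G : Type*} [Group G] [Finite G] {p : ℕ} [Fact p.Prime] (hp : p ≠ 2) (S : Sylow p G) (hN : Cfsg.HasNormalPComplement p ↥(Subgroup.normalizer (((Cfsg.stableNormalClosure p ↥(S : Subgroup G)).map (S : Subgroup G).subtype) : Set G))) : Cfsg.HasNormalPComplement p G := by

  exact Transfer.SylowFunctor.hasNormalPComplement hp (isSylowFunctor p) G S hN

end Cfsg.Agent.S0628
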