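import Cfsg.Statements.S0630
import Mathlib
import Cfsg.Agent.Lib.Grp.Frattini
import Cfsg.Agent.Lib.Grp.Cores
import Cfsg.Agent.Lib.Invol.Transport

set_option maxHeartbeats 1000000
set_option maxRecDepth 8000

set_option autoImplicit false
open Cfsg

namespace Cfsg.Agent.S0630

theorem pPrimePCore_eq {X : Type*} [Group X] [Finite X] {p : ℕ} [Fact p.Prime] (B : Subgroup X) [B.Normal]
    (hB : B = ⊥) : (Cfsg.pCore p (X ⧸ B)).comap (QuotientGroup.mk' B) = Cfsg.pCore p X := by
  subst hB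
  let e : X ≃* X ⧸ (⊥ : Subgroup X) := QuotientGroup.quotientBot.symm
  have he : e.toMonoidHom = QuotientGroup.mk' (⊥ : Subgroup X) := by
    ext x; rfl
  rw [← Cfsg.Agent.Invol.map_pCore_equiv e, ← he, Subgroup.comap_map_eq_self_of_injective e.injective]

/-- p-constraint passes to and from the quotient by the largest normal subgroup of order prime to p. -/
theorem result {G : Type*} [Group G] [Finite G] {p : ℕ} [Fact p.Prime] : Cfsg.IsPConstrained p G ↔ Cfsg.IsPConstrained p (G ⧸ Cfsg.pPrimeCore p G) := by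

  set K := Cfsg.pPrimeCore p G with hK
  set f := QuotientGroup.mk' K with hf
  have hfs : Function.Surjective f := QuotientGroup.mk'_surjective K
  have hbot : Cfsg.pPrimeCore p (G ⧸ K) = ⊥ := Cfsg.Agent.Grp.pPrimeCore_quotient_eq_bot
  have hX : Cfsg.pPrimePCore p (G ⧸ K) = Cfsg.pCore p (G ⧸ K) := pPrimePCore_eq _ hbot
  set Y := Cfsg.pPrimePCore p G with hY
  set Q := Cfsg.pCore p (G ⧸ K) with hQ
  have hQp : IsPGroup p Q := Cfsg.Agent.Grp.pCore_isPGroup
  -- the Sylow subgroups of `O_{p',p}` cover the core of the quotient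
  have himg : ∀ P : Sylow p Y, (((P : Subgroup Y).map Y.subtype).map f) = Q := by
    intro P
    let g : Y →* Q := (f.comp Y.subtype).codRestrict Q (fun y => y.2)
    have hg : Function.Surjective g := by
      rintro ⟨q, hq⟩
      obtain ⟨x, rfl⟩ := hfs q
      exact ⟨⟨x, hq⟩, rfl⟩
    have htop : ((P.mapSurjective hg : Sylow p Q) : Subgroup Q) = ⊤ :=
      ((P.mapSurjective hg).3 (hQp.to_subgroup ⊤) le_top).symm
    rw [Sylow.coe_mapSurjective] at htop
    rw [Subgroup.map_map]
    have h1 : (f.comp Y.subtype) = Q.subtype.comp g := rfl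
    rw [h1, ← Subgroup.map_map, htop, ← MonoidHom.range_eq_map, Subgroup.range_subtype]
  constructor
  · intro h S c hc
    have hS : (S : Subgroup (Cfsg.pPrimePCore p (G ⧸ K))) = ⊤ := by
      have hp' : IsPGroup p (Cfsg.pPrimePCore p (G ⧸ K)) := by rw [hX]; exact hQp
      exact (S.3 (hp'.to_subgroup ⊤) le_top).symm
    rw [hS, ← MonoidHom.range_eq_map, Subgroup.range_subtype, hX] at hc
    rw [hX]
    obtain ⟨g, rfl⟩ := hfs c
    obtain ⟨P⟩ := (inferInstance : Nonempty (Sylow p Y))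
    have hY' : Y.Normal := by rw [hY, Cfsg.pPrimePCore]; infer_instance
    have hfr := Sylow.normalizer_sup_eq_top (N := Y) P
    set P' := (P : Subgroup Y).map Y.subtype with hP'
    obtain ⟨n, hn, y, hy, rfl⟩ := Subgroup.mem_sup_of_normal_right.1 (hfr ▸ Subgroup.mem_top g :
      g ∈ Subgroup.normalizer (P' : Set G) ⊔ Y)
    -- write `y` through the Sylow subgroup
    obtain ⟨u, hu, hue⟩ : f y ∈ P'.map f := by rw [himg P]; exact hy
    have hyk : u⁻¹ * y ∈ K := QuotientGroup.eq.1 hue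
    have hK' : K.Normal := Cfsg.Agent.Grp.pPrimeCore_isNormal
    have hnu : n * u ∈ Subgroup.normalizer (P' : Set G) := mul_mem hn (Subgroup.le_normalizer hu)
    have hnu' : f (n * y) = f (n * u) := by rw [map_mul, map_mul, ← hue]
    rw [hnu'] at hc ⊢
    have hcent : n * u ∈ Subgroup.centralizer (P' : Set G) := by
      rw [Subgroup.mem_centralizer_iff]
      intro x hx
      have h1 : (n * u) * x * (n * u)⁻¹ * x⁻¹ ∈ P' :=
        P'.mul_mem ((Subgroup.mem_normalizer_iff.1 hnu x).1 hx) (P'.inv_mem hx)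
      have h2 : (n * u) * x * (n * u)⁻¹ * x⁻¹ ∈ K := by
        rw [← QuotientGroup.eq_one_iff]
        show f _ = 1
        have h3 := Subgroup.mem_centralizer_iff.1 hc (f x) ((himg P) ▸ Subgroup.mem_map_of_mem f hx)
        simp only [map_mul, map_inv] at h3 ⊢
        rw [← h3]
        group
      have h4 : orderOf ((n * u) * x * (n * u)⁻¹ * x⁻¹) = 1 := by
        obtain ⟨k, hk⟩ := IsPGroup.iff_orderOf.1 (P.isPGroup'.map Y.subtype) ⟨_, h1⟩
        refine Nat.eq_one_of_dvd_coprimes (Cfsg.Agent.Grp.pPrimeCore_coprime (p := p) (G := G) |>.pow_right k)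
          ?_ (hk ▸ (Subgroup.orderOf_coe (⟨_, h1⟩ : P')).dvd)
        rw [show orderOf ((n * u) * x * (n * u)⁻¹ * x⁻¹) = orderOf (⟨_, h2⟩ : K) from Subgroup.orderOf_coe (⟨_, h2⟩ : K)]
        exact orderOf_dvd_natCard _
      rw [orderOf_eq_one_iff, mul_inv_eq_one, mul_inv_eq_iff_eq_mul] at h4
      exact h4.symm
    exact (h P hcent : n * u ∈ Y)
  · intro h P g hg
    obtain ⟨S⟩ := (inferInstance : Nonempty (Sylow p (Cfsg.pPrimePCore p (G ⧸ K))))
    have hS : (S : Subgroup (Cfsg.pPrimePCore p (G ⧸ K))) = ⊤ := by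
      have hp' : IsPGroup p (Cfsg.pPrimePCore p (G ⧸ K)) := by rw [hX]; exact hQp
      exact (S.3 (hp'.to_subgroup ⊤) le_top).symm
    have h1 := h S
    rw [hS, ← MonoidHom.range_eq_map, Subgroup.range_subtype, hX] at h1
    show f g ∈ Q
    refine h1 (Subgroup.mem_centralizer_iff.2 ?_)
    intro q hq
    rw [← himg P] at hq
    obtain ⟨x, hx, rfl⟩ := hq
    rw [← map_mul, Subgroup.mem_centralizer_iff.1 hg x hx, map_mul]

end Cfsg.Agent.S0630
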