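import Cfsg.Statements.S0632
import Cfsg.Agent.Lib.Grp.QuotientNormalizer
import Cfsg.Agent.Lib.Grp.Frattini
import Mathlib

set_option maxHeartbeats 1000000
set_option maxRecDepth 8000

set_option autoImplicit false
open Cfsg
open scoped commutatorElement

namespace Cfsg.Agent.S0632

open scoped Pointwise
/-- Data of a coprime quotient: the action of the normalizer on a p-subgroup is unchanged. -/
theorem exists_equiv {G : Type*} [Group G] [Finite G] {p : ℕ} [Fact p.Prime] (N : Subgroup G) [N.Normal]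
    (hN : (Nat.card N).Coprime p) (P : Subgroup G) (hP : IsPGroup p P) :
    ∃ Φ : (Subgroup.normalizer (P : Set G)) ⧸ (Subgroup.centralizer (P : Set G)).subgroupOf (Subgroup.normalizer (P : Set G)) ≃*
        (Subgroup.normalizer ((P.map (QuotientGroup.mk' N) : Subgroup (G ⧸ N)) : Set (G ⧸ N))) ⧸
          (Subgroup.centralizer ((P.map (QuotientGroup.mk' N) : Subgroup (G ⧸ N)) : Set (G ⧸ N))).subgroupOf
            (Subgroup.normalizer ((P.map (QuotientGroup.mk' N) : Subgroup (G ⧸ N)) : Set (G ⧸ N))),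
      ∀ A : Subgroup G, A ≤ Subgroup.normalizer (P : Set G) →
        ((A.subgroupOf (Subgroup.normalizer (P : Set G))).map (QuotientGroup.mk' _)).map Φ.toMonoidHom =
          ((A.map (QuotientGroup.mk' N)).subgroupOf
            (Subgroup.normalizer ((P.map (QuotientGroup.mk' N) : Subgroup (G ⧸ N)) : Set (G ⧸ N)))).map (QuotientGroup.mk' _) := by
  obtain ⟨k, hk⟩ := IsPGroup.iff_card.1 hP
  haveI := hP.isNilpotent
  have hcop : (Nat.card N).Coprime (Nat.card P) := hk ▸ hN.pow_right k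
  set q := QuotientGroup.mk' N
  have hNm := Cfsg.Agent.Grp.QuotNorm.normalizer_map N P hcop (Or.inr inferInstance)
  have hCm := Cfsg.Agent.Grp.QuotNorm.centralizer_map N P hcop (Or.inr inferInstance)
  let g : Subgroup.normalizer (P : Set G) →* Subgroup.normalizer ((P.map q : Subgroup (G ⧸ N)) : Set (G ⧸ N)) :=
    (q.comp (Subgroup.normalizer (P : Set G)).subtype).codRestrict _ fun x => hNm ▸ Subgroup.mem_map_of_mem q x.2
  have hle : (Subgroup.centralizer (P : Set G)).subgroupOf (Subgroup.normalizer (P : Set G)) ≤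
      ((Subgroup.centralizer ((P.map q : Subgroup (G ⧸ N)) : Set (G ⧸ N))).subgroupOf
        (Subgroup.normalizer ((P.map q : Subgroup (G ⧸ N)) : Set (G ⧸ N)))).comap g := fun x hx =>
    hCm ▸ Subgroup.mem_map_of_mem q hx
  let ψ := QuotientGroup.map _ _ g hle
  have hψ : Function.Bijective ψ := by
    refine ⟨(injective_iff_map_eq_one ψ).2 fun w hw => ?_, fun w => ?_⟩
    · obtain ⟨x, rfl⟩ := QuotientGroup.mk_surjective w
      have hqc : q x ∈ Subgroup.centralizer ((P.map q : Subgroup (G ⧸ N)) : Set (G ⧸ N)) :=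
        (QuotientGroup.eq_one_iff (g x)).1 hw
      refine (QuotientGroup.eq_one_iff x).2 (Subgroup.mem_subgroupOf.2 (Subgroup.mem_centralizer_iff.2 fun v hv => ?_))
      have h1 := Subgroup.mem_centralizer_iff.1 hqc _ (Subgroup.mem_map_of_mem q hv)
      have h2 : (x : G) * v * (x : G)⁻¹ * v⁻¹ ∈ N ⊓ P := by
        refine ⟨(QuotientGroup.eq_one_iff _).1 ?_, P.mul_mem ((Subgroup.mem_normalizer_iff.1 x.2 v).1 hv) (P.inv_mem hv)⟩
        show q ((x : G) * v * (x : G)⁻¹ * v⁻¹) = 1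
        rw [map_mul, map_mul, map_mul, map_inv, map_inv, ← h1]
        group
      rw [Subgroup.inf_eq_bot_of_coprime hcop, Subgroup.mem_bot, mul_inv_eq_one, mul_inv_eq_iff_eq_mul] at h2
      exact h2.symm
    · obtain ⟨⟨y, hy⟩, rfl⟩ := QuotientGroup.mk_surjective w
      rw [hNm] at hy
      obtain ⟨x, hx, rfl⟩ := hy
      exact ⟨(⟨x, hx⟩ : Subgroup.normalizer (P : Set G)), rfl⟩
  refine ⟨MulEquiv.ofBijective ψ hψ, fun A hA => ?_⟩
  refine le_antisymm ?_ ?_
  · rintro _ ⟨_, ⟨x, hx, rfl⟩, rfl⟩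
    exact ⟨g x, Subgroup.mem_map_of_mem q hx, rfl⟩
  · rintro _ ⟨y, ⟨a, ha, hay⟩, rfl⟩
    refine ⟨_, ⟨⟨a, hA ha⟩, ha, rfl⟩, ?_⟩
    show QuotientGroup.mk' _ (g ⟨a, hA ha⟩) = _
    congr 1
    exact Subtype.ext hay

theorem map_core_le {X Y : Type*} [Group X] [Group Y] [Finite X] {p : ℕ} [Fact p.Prime] (f : X ≃* Y) :
    (Cfsg.pCore p X).map f.toMonoidHom ≤ Cfsg.pCore p Y :=
  Cfsg.Agent.Grp.le_pCore (Cfsg.Agent.Grp.pCore_isNormal.map _ f.surjective) (Cfsg.Agent.Grp.pCore_isPGroup.map _)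

/-- Isomorphisms preserve the `p`-core. -/
theorem le_pCore_iff {X Y : Type*} [Group X] [Group Y] [Finite X] {p : ℕ} [Fact p.Prime] (e : X ≃* Y) (H : Subgroup X) :
    H.map e.toMonoidHom ≤ Cfsg.pCore p Y ↔ H ≤ Cfsg.pCore p X := by
  haveI : Finite Y := Finite.of_equiv X e.toEquiv
  constructor
  · intro h x hx
    have h2 := map_core_le e.symm (Subgroup.mem_map_of_mem e.symm.toMonoidHom (h (Subgroup.mem_map_of_mem e.toMonoidHom hx)))
    simpa using h2
  · exact fun h => (Subgroup.map_mono h).trans (map_core_le e)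

/-- For a group with a nontrivial normal p-subgroup, p-stability passes to and from the quotient by the largest normal subgroup of order prime to p. -/
theorem result {G : Type*} [Group G] [Finite G] {p : ℕ} [Fact p.Prime] (hO : Cfsg.pCore p G ≠ ⊥) : Cfsg.IsPStable p G ↔ Cfsg.IsPStable p (G ⧸ Cfsg.pPrimeCore p G) := by

  set N := Cfsg.pPrimeCore p G with hNdef
  haveI hNn : N.Normal := Cfsg.Agent.Grp.pPrimeCore_isNormal
  set q := QuotientGroup.mk' N with hq
  have hqs : Function.Surjective q := QuotientGroup.mk'_surjective N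
  have hcore : Cfsg.pPrimeCore p (G ⧸ N) = ⊥ := Cfsg.Agent.Grp.pPrimeCore_quotient_eq_bot
  have hNcop : (Nat.card N).Coprime p := Cfsg.Agent.Grp.pPrimeCore_coprime
  have hinj : ∀ (R : Subgroup G), IsPGroup p R → ∀ x ∈ R, q x = 1 → x = 1 := fun R hR x hx h => by
    obtain ⟨k, hk⟩ := IsPGroup.iff_card.1 hR
    exact (Subgroup.inf_eq_bot_of_coprime (hk ▸ hNcop.pow_right k : (Nat.card N).Coprime (Nat.card R))).le
      ⟨(QuotientGroup.eq_one_iff x).1 h, hx⟩
  -- `O_{p',p}` of the quotient is its `p`-core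
  have hPP : ∀ H : Subgroup (G ⧸ N), H ≤ Cfsg.pPrimePCore p (G ⧸ N) ↔ H ≤ Cfsg.pCore p (G ⧸ N) := fun H => by
    haveI : (Cfsg.pPrimeCore p (G ⧸ N)).Normal := Cfsg.Agent.Grp.pPrimeCore_isNormal
    have heq : Cfsg.pPrimePCore p (G ⧸ N) = Cfsg.pCore p (G ⧸ N) := by
      unfold Cfsg.pPrimePCore
      set f := QuotientGroup.mk' (Cfsg.pPrimeCore p (G ⧸ N)) with hf
      have hfi : Function.Injective f := by rw [← MonoidHom.ker_eq_bot_iff, hf, QuotientGroup.ker_mk', hcore]
      have hfs : Function.Surjective f := QuotientGroup.mk'_surjective _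
      refine le_antisymm (Cfsg.Agent.Grp.le_pCore (Subgroup.Normal.comap Cfsg.Agent.Grp.pCore_isNormal f)
        (Cfsg.Agent.Grp.pCore_isPGroup.comap_of_injective f hfi)) ?_
      exact Subgroup.map_le_iff_le_comap.1 (Cfsg.Agent.Grp.le_pCore (Cfsg.Agent.Grp.pCore_isNormal.map f hfs) (Cfsg.Agent.Grp.pCore_isPGroup.map f))
    rw [heq]
  have hPP' : ∀ H : Subgroup G, H ≤ Cfsg.pPrimePCore p G ↔ H.map q ≤ Cfsg.pCore p (G ⧸ N) := fun H =>
    Subgroup.map_le_iff_le_comap.symm
  constructor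
  · rintro ⟨hodd, -, hst⟩
    refine ⟨hodd, fun hb => hO ?_, ?_⟩
    · have h1 : (Cfsg.pCore p G).map q ≤ Cfsg.pCore p (G ⧸ N) :=
        Cfsg.Agent.Grp.le_pCore (Cfsg.Agent.Grp.pCore_isNormal.map q hqs) (Cfsg.Agent.Grp.pCore_isPGroup.map q)
      rw [hb, le_bot_iff, Subgroup.map_eq_bot_iff, hq, QuotientGroup.ker_mk'] at h1
      refine le_bot_iff.1 fun x hx => ?_
      exact Subgroup.mem_bot.2 (hinj _ Cfsg.Agent.Grp.pCore_isPGroup x hx ((QuotientGroup.eq_one_iff x).2 (h1 hx)))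
    intro A' P' hA' hP' hnorm hle hN' hquad
    rw [hcore, bot_sup_eq] at hN'
    -- lift `P'`
    obtain ⟨S⟩ : Nonempty (Sylow p G) := inferInstance
    haveI := hN'
    have hPS : P' ≤ (S : Subgroup G).map q := hP'.le_sylow_of_normal (S.mapSurjective hqs)
    set P := (S : Subgroup G) ⊓ P'.comap q with hP
    have hPp : IsPGroup p P := S.isPGroup'.to_le inf_le_left
    have hPm : P.map q = P' := by
      refine le_antisymm (Subgroup.map_le_iff_le_comap.2 inf_le_right) fun v hv => ?_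
      obtain ⟨s, hs, rfl⟩ := hPS hv
      exact ⟨s, ⟨hs, hv⟩, rfl⟩
    -- lift `A'` inside the normalizer of `P`
    have hNm : (Subgroup.normalizer (P : Set G)).map q = ⊤ := by
      obtain ⟨k, hk⟩ := IsPGroup.iff_card.1 hPp
      haveI := hPp.isNilpotent
      rw [hq, ← Cfsg.Agent.Grp.QuotNorm.normalizer_map N P (hk ▸ hNcop.pow_right k) (Or.inr inferInstance), ← hq, hPm,
        Subgroup.normalizer_eq_top]
    set M := Subgroup.normalizer (P : Set G) ⊓ A'.comap q with hM
    have hMm : M.map q = A' := by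
      refine le_antisymm (Subgroup.map_le_iff_le_comap.2 inf_le_right) fun v hv => ?_
      obtain ⟨m, hm, rfl⟩ := (hNm ▸ Subgroup.mem_top v : v ∈ (Subgroup.normalizer (P : Set G)).map q)
      exact ⟨m, ⟨hm, hv⟩, rfl⟩
    obtain ⟨T⟩ : Nonempty (Sylow p M) := inferInstance
    set A := (T : Subgroup M).map M.subtype with hA
    have hAp : IsPGroup p A := T.isPGroup'.map _
    have hAN : A ≤ Subgroup.normalizer (P : Set G) := (Subgroup.map_subtype_le _).trans inf_le_left
    have hAm : A.map q = A' := by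
      let g : M →* A' := (q.comp M.subtype).codRestrict A' fun x => x.2.2
      have hg : Function.Surjective g := fun ⟨v, hv⟩ => by
        rw [← hMm] at hv
        obtain ⟨m, hm, rfl⟩ := hv
        exact ⟨⟨m, hm⟩, rfl⟩
      have htop : (T : Subgroup M).map g = ⊤ := by
        exact ((T.mapSurjective hg).is_maximal' (Q := ⊤) (hA'.to_subgroup ⊤) le_top).symm
      refine le_antisymm ((Subgroup.map_mono (Subgroup.map_subtype_le _)).trans hMm.le) fun v hv => ?_
      obtain ⟨t, ht, htv⟩ := (htop ▸ Subgroup.mem_top (⟨v, hv⟩ : A') : (⟨v, hv⟩ : A') ∈ (T : Subgroup M).map g)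
      exact ⟨t, Subgroup.mem_map_of_mem _ ht, congrArg Subtype.val htv⟩
    have hPA : ⁅P, A⁆ ≤ P := Subgroup.commutator_le.2 fun x hx y hy => by
      rw [commutatorElement_def, mul_assoc x y, mul_assoc x]
      exact P.mul_mem hx ((Subgroup.mem_normalizer_iff.1 (hAN hy) _).1 (P.inv_mem hx))
    have hquad' : ⁅⁅P, A⁆, A⁆ = ⊥ := by
      have h2 : ⁅⁅P, A⁆, A⁆ ≤ P := (Subgroup.commutator_mono hPA le_rfl).trans hPA
      refine le_bot_iff.1 fun x hx => Subgroup.mem_bot.2 (hinj P hPp x (h2 hx) ?_)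
      have h1 := Subgroup.mem_map_of_mem q hx
      rwa [Subgroup.map_commutator, Subgroup.map_commutator, hPm, hAm, hquad, Subgroup.mem_bot] at h1
    have hNP : (Cfsg.pPrimeCore p G ⊔ P).Normal := by
      have : Cfsg.pPrimeCore p G ⊔ P = P'.comap q := by
        rw [← hPm, Subgroup.comap_map_eq, hq, QuotientGroup.ker_mk', sup_comm]
      rw [this]
      exact hN'.comap q
    have hconc := hst A P hAp hPp (fun a ha x hx => (Subgroup.mem_normalizer_iff.1 (hAN ha) x).1 hx)
      ((hPP' P).2 (hPm ▸ (hPP P').1 hle)) hNP hquad'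
    obtain ⟨Φ, hΦ⟩ := exists_equiv N hNcop P hPp
    rw [← hPm, ← hAm, ← hΦ A hAN]
    exact (le_pCore_iff Φ _).2 hconc
  · rintro ⟨hodd, -, hst⟩
    refine ⟨hodd, hO, fun A P hA hP hnorm hle hN' hquad => ?_⟩
    have hAN : A ≤ Subgroup.normalizer (P : Set G) := fun a ha => Subgroup.mem_normalizer_iff.2 fun x =>
      ⟨fun hx => hnorm a ha x hx, fun hx => by simpa [mul_assoc] using hnorm a⁻¹ (inv_mem ha) _ hx⟩
    have h1 := hst (A.map q) (P.map q) (hA.map q) (hP.map q) (by
      rintro _ ⟨a, ha, rfl⟩ _ ⟨x, hx, rfl⟩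
      exact ⟨_, hnorm a ha x hx, by rw [map_mul, map_mul, map_inv]⟩)
      ((hPP _).2 ((hPP' P).1 hle)) (by
        rw [hcore, bot_sup_eq]
        have h := hN'.map q hqs
        rwa [Subgroup.map_sup, hq, QuotientGroup.map_mk'_self, bot_sup_eq] at h)
      (by rw [← Subgroup.map_commutator, ← Subgroup.map_commutator, hquad, Subgroup.map_bot])
    obtain ⟨Φ, hΦ⟩ := exists_equiv N hNcop P hP
    rw [hq, ← hΦ A hAN] at h1
    exact (le_pCore_iff Φ _).1 h1

end Cfsg.Agent.S0632
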