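import Cfsg.Statements.S0633
import Mathlib
import Cfsg.Agent.Lib.Transfer.HallHighB

set_option maxHeartbeats 1000000
set_option maxRecDepth 8000

set_option autoImplicit false
open Cfsg

namespace Cfsg.Agent.S0633

open scoped TensorProduct

theorem baseChange_injective {F : Type*} [Field F] (K : Type*) [Field K] [Algebra F K] {V : Type*}
    [AddCommGroup V] [Module F V] [FiniteDimensional F V] :
    Function.Injective (Module.End.baseChangeHom F K V) := by
  intro f g h
  refine LinearMap.ext fun w => ?_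
  have hinj : ∀ v : V, (1 : K) ⊗ₜ[F] v = 0 → v = 0 := by
    intro v hv
    let b := Module.finBasis F V
    refine b.repr.injective (Finsupp.ext fun i => (algebraMap F K).injective ?_)
    have h1 := congrArg (fun t => (b.baseChange K).repr t i) hv
    simp only [Module.Basis.baseChange_repr_tmul, map_zero, Finsupp.coe_zero, Pi.zero_apply] at h1
    rw [map_zero, Finsupp.coe_zero, Pi.zero_apply, map_zero, Algebra.algebraMap_eq_smul_one]
    exact h1
  have h1 : (1 : K) ⊗ₜ[F] f w = (1 : K) ⊗ₜ[F] g w := LinearMap.congr_fun h ((1 : K) ⊗ₜ[F] w)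
  exact sub_eq_zero.mp (hinj _ ((TensorProduct.tmul_sub _ _ _).trans (sub_eq_zero.mpr h1)))


/-- Theorem B of Hall and Higman on the minimal polynomial of a p-element of order p^n in a p-solvable linear group on a nonzero vector space in characteristic p with no nontrivial normal p-subgroup: its degree is p^n, except when some p^n₀ - 1 (n₀ ≤ n) is a power of a prime q for which the Sylow q-subgroups are non-abelian, in which case the degree is at least p^(n-n₀)(p^n₀ - 1). -/
theorem result {F : Type*} [Field F] {p : ℕ} [Fact p.Prime] [CharP F p] {V : Type*} [AddCommGroup V] [Module F V] [FiniteDimensional F V] [Nontrivial V] (H : Subgroup (V ≃ₗ[F] V)) [Finite H] (hsol : Cfsg.IsPSolvable p H) (hOp : Cfsg.pCore p H = ⊥) (x : V ≃ₗ[F] V) (hx : x ∈ H) (n : ℕ) (hn : orderOf x = p ^ n) (r : ℕ) (hr : minpoly F (x : Module.End F V) = (Polynomial.X - 1) ^ r) : r = p ^ n ∨ ∃ n₀ q m : ℕ, 1 ≤ n₀ ∧ n₀ ≤ n ∧ q.Prime ∧ 1 ≤ m ∧ p ^ n₀ - 1 = q ^ m ∧ (∀ Q : Sylow q H, ¬ IsMulCommutative Q) ∧ p ^ (n - n₀) * (p ^ n₀ - 1) ≤ r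 := by

  classical
  haveI hp : Fact p.Prime := inferInstance
  set T : Module.End F V := (x : Module.End F V) with hT
  have haev : (T - 1) ^ r = 0 := by
    have h := minpoly.aeval F T
    rw [hr] at h
    simpa using h
  let τ : H →* Module.End F V :=
    { toFun := fun g => ((g : V ≃ₗ[F] V) : Module.End F V)
      map_one' := rfl
      map_mul' := fun a b => rfl }
  have hTn : T ^ p ^ n = 1 := by
    have h1 : (⟨x, hx⟩ : H) ^ p ^ n = 1 := Subtype.ext (by
      rw [SubmonoidClass.coe_pow, Subgroup.coe_one, ← hn, pow_orderOf_eq_one])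
    have h2 := congrArg τ h1
    rwa [map_pow, map_one] at h2
  haveI : CharP (Module.End F V) p :=
    charP_of_injective_algebraMap (algebraMap F (Module.End F V)).injective p
  have hrle : r ≤ p ^ n := by
    have h1 : minpoly F T ∣ (Polynomial.X - 1) ^ p ^ n := minpoly.dvd F T (by
      rw [map_pow, map_sub, map_one, Polynomial.aeval_X,
        sub_pow_char_pow_of_commute (p := p) (n := n) (h := Commute.one_right T), one_pow, hTn, sub_self])
    rw [hr] at h1
    have hm : ((Polynomial.X : Polynomial F) - 1).Monic := by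
      simpa using Polynomial.monic_X_sub_C (1 : F)
    have h2 := Polynomial.natDegree_le_of_dvd h1 (pow_ne_zero _ hm.ne_zero)
    rw [hm.natDegree_pow, hm.natDegree_pow, show ((Polynomial.X : Polynomial F) - 1).natDegree = 1 by
      simpa using Polynomial.natDegree_X_sub_C (1 : F)] at h2
    omega
  rcases eq_or_lt_of_le hrle with he | hlt
  · exact Or.inl he
  rcases Nat.eq_zero_or_pos n with h0 | h0
  · exfalso
    subst h0
    have : r = 0 := by simpa using hlt
    rw [this, pow_zero] at haev
    exact one_ne_zero haev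
  right
  obtain ⟨m, rfl⟩ : ∃ m, n = m + 1 := ⟨n - 1, by omega⟩
  let K := AlgebraicClosure F
  haveI : CharP K p := charP_of_injective_algebraMap (algebraMap F K).injective p
  let ρ : H →* Module.End K (TensorProduct F K V) :=
    (Module.End.baseChangeHom F K V).toMonoidHom.comp τ
  have hρ : Function.Injective ρ := fun a b h =>
    Subtype.ext (LinearEquiv.toLinearMap_injective (baseChange_injective K h))
  have hxH : (⟨x, hx⟩ : H) ^ p ^ (m + 1) = 1 := Subtype.ext (by
    rw [SubmonoidClass.coe_pow, Subgroup.coe_one, ← hn, pow_orderOf_eq_one])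
  have hne : (⟨x, hx⟩ : H) ^ p ^ m ≠ 1 := by
    intro h
    have h1 : x ^ p ^ m = 1 := congrArg Subtype.val h
    have h2 := Nat.le_of_dvd (pow_pos hp.out.pos m) (orderOf_dvd_of_pow_eq_one h1)
    rw [hn] at h2
    exact absurd (Nat.pow_lt_pow_right hp.out.one_lt (Nat.lt_succ_self m)) (not_lt.mpr h2)
  have hs : (ρ ⟨x, hx⟩ - 1) ^ r = 0 := by
    have h1 := congrArg (Module.End.baseChangeHom F K V) haev
    rw [map_pow, map_sub, map_one, map_zero] at h1
    exact h1
  obtain ⟨q, k, b, hq, hk, hkm, hb, hpk, hdeg, hS⟩ :=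
    Cfsg.Agent.Transfer.HHB.exceptional_of_norm hsol hOp hρ hxH hs (by omega) hne
  refine ⟨k, q, b, Nat.pos_of_ne_zero hk, hkm, hq, Nat.pos_of_ne_zero hb, by omega, fun Q => hS Q, ?_⟩
  rw [Nat.mul_sub_one, ← pow_add, Nat.sub_add_cancel hkm]
  exact hdeg

end Cfsg.Agent.S0633
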