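import Cfsg.Statements.S0634
import Cfsg.Agent.Lib.Grp.PSolvable
import Cfsg.Agent.Lib.Grp.Cores
import Mathlib

set_option maxHeartbeats 1000000
set_option maxRecDepth 8000

set_option autoImplicit false
open Cfsg

namespace Cfsg.Agent.S0634

/-- In a p-soluble group each p-factor of the upper p-series contains its own centralizer in the corresponding quotient. -/
theorem result {G : Type*} [Group G] [Finite G] {p : ℕ} [Fact p.Prime] (hsol : Cfsg.IsPSolvable p G) (k : ℕ) : Subgroup.centralizer ((((Cfsg.upperPSeries p G (2 * k + 2)).1.map (QuotientGroup.mk' (Cfsg.upperPSeries p G (2 * k + 1)).1)) : Subgroup (G ⧸ (Cfsg.upperPSeries p G (2 * k + 1)).1)) : Set (G ⧸ (Cfsg.upperPSeries p G (2 * k + 1)).1)) ≤ (Cfsg.upperPSeries p G (2 * k + 2)).1.map (QuotientGroup.mk' (Cfsg.upperPSeries p G (2 * k + 1)).1) := by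
  set U := (Cfsg.upperPSeries p G (2 * k + 1)).1 with hU
  haveI : U.Normal := (Cfsg.upperPSeries p G (2 * k + 1)).2
  set q := QuotientGroup.mk' U with hq
  have hqs : Function.Surjective q := QuotientGroup.mk'_surjective U
  have h2 : (Cfsg.upperPSeries p G (2 * k + 2)).1 = (Cfsg.pCore p (G ⧸ U)).comap q := by
    show (Cfsg.upperPSeries p G ((2 * k + 1) + 1)).1 = _
    rw [Cfsg.upperPSeries]
    simp only [show ¬ Even (2 * k + 1) by simp, if_false]
    rfl
  have hO : Cfsg.pPrimeCore p (G ⧸ U) = ⊥ := by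
    set U₀ := (Cfsg.upperPSeries p G (2 * k)).1 with hU₀
    haveI : U₀.Normal := (Cfsg.upperPSeries p G (2 * k)).2
    set q₀ := QuotientGroup.mk' U₀ with hq₀
    have hq₀s : Function.Surjective q₀ := QuotientGroup.mk'_surjective U₀
    have hU1 : U = (Cfsg.pPrimeCore p (G ⧸ U₀)).comap q₀ := by
      rw [hU, Cfsg.upperPSeries]
      simp only [show Even (2 * k) by simp, if_true]
      rfl
    haveI : (Cfsg.pPrimeCore p (G ⧸ U)).Normal := Cfsg.Agent.Grp.pPrimeCore_isNormal
    haveI : (Cfsg.pPrimeCore p (G ⧸ U₀)).Normal := Cfsg.Agent.Grp.pPrimeCore_isNormal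
    set M := (Cfsg.pPrimeCore p (G ⧸ U)).comap q with hM
    have hU₀U : U₀ ≤ U := by
      rw [hU1]; exact fun x hx => by
        rw [Subgroup.mem_comap, hq₀, QuotientGroup.mk'_apply, (QuotientGroup.eq_one_iff x).2 hx]; exact one_mem _
    have hUM : U ≤ M := fun x hx => by
      rw [hM, Subgroup.mem_comap, hq, QuotientGroup.mk'_apply, (QuotientGroup.eq_one_iff x).2 hx]; exact one_mem _
    have e1 : U₀.relIndex U = Nat.card ↥(Cfsg.pPrimeCore p (G ⧸ U₀)) := by
      have hk0 : U₀ = (⊥ : Subgroup (G ⧸ U₀)).comap q₀ := by rw [MonoidHom.comap_bot]; exact (QuotientGroup.ker_mk' U₀).symm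
      refine (congrArg (fun X : Subgroup G => X.relIndex U) hk0).trans ?_
      rw [Subgroup.relIndex_comap, hU1, Subgroup.map_comap_eq_self_of_surjective hq₀s, Subgroup.relIndex_bot_left]
    have e2 : U.relIndex M = Nat.card ↥(Cfsg.pPrimeCore p (G ⧸ U)) := by
      have hk0 : U = (⊥ : Subgroup (G ⧸ U)).comap q := by rw [MonoidHom.comap_bot]; exact (QuotientGroup.ker_mk' U).symm
      refine (congrArg (fun X : Subgroup G => X.relIndex M) hk0).trans ?_
      rw [Subgroup.relIndex_comap, hM, Subgroup.map_comap_eq_self_of_surjective hqs, Subgroup.relIndex_bot_left]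
    have hcop : (Nat.card ↥(M.map q₀)).Coprime p := by
      have h1 : U₀.relIndex M = Nat.card ↥(M.map q₀) := by
        have hk0 : U₀ = (⊥ : Subgroup (G ⧸ U₀)).comap q₀ := by rw [MonoidHom.comap_bot]; exact (QuotientGroup.ker_mk' U₀).symm
        refine (congrArg (fun X : Subgroup G => X.relIndex M) hk0).trans ?_
        rw [Subgroup.relIndex_comap, Subgroup.relIndex_bot_left]
      rw [← h1, ← Subgroup.relIndex_mul_relIndex U₀ U M hU₀U hUM, e1, e2]
      exact Nat.Coprime.mul_left Cfsg.Agent.Grp.pPrimeCore_coprime Cfsg.Agent.Grp.pPrimeCore_coprime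
    have hMU : M ≤ U := by
      rw [hU1, ← Subgroup.map_le_iff_le_comap]
      exact Cfsg.Agent.Grp.le_pPrimeCore ((inferInstance : M.Normal).map q₀ hq₀s) hcop
    rw [← Subgroup.map_comap_eq_self_of_surjective hqs (Cfsg.pPrimeCore p (G ⧸ U)), ← hM, le_antisymm hMU hUM, hq,
      QuotientGroup.map_mk'_self]
  rw [h2, Subgroup.map_comap_eq_self_of_surjective hqs]
  exact Cfsg.Agent.Grp.centralizer_pCore_le_of_pSolvable (Cfsg.Agent.Grp.isPSolvable_map hsol q hqs) hO

end Cfsg.Agent.S0634
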