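import Cfsg.Statements.S0635
import Mathlib
import Cfsg.Agent.Lib.Grp.Cores
import Cfsg.Agent.Lib.Grp.PSolvable
import Cfsg.Agent.Lib.Grp.PLengthSeries

set_option maxHeartbeats 1000000
set_option maxRecDepth 8000

set_option autoImplicit false
open Cfsg

namespace Cfsg.Agent.S0635
universe u

theorem aux : ∀ (c : ℕ) (G : Type u) [Group G] [Finite G] (p : ℕ) [Fact p.Prime], Cfsg.IsPSolvable p G →
    ∀ S : Sylow p G, Group.nilpotencyClass ↥(S : Subgroup G) ≤ c → Cfsg.PLengthLE p c G
  | 0, G, _, _, p, hp, hG, S, hc => by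
    haveI := S.isPGroup'.isNilpotent
    have h1 := Group.nilpotencyClass_zero_iff_subsingleton.1 (Nat.le_zero.1 hc)
    have hd : ¬ p ∣ Nat.card G := by
      intro hd
      have h2 := S.dvd_card_of_dvd_card hd
      rw [Nat.card_of_subsingleton (1 : (S : Subgroup G))] at h2
      exact hp.out.ne_one (Nat.dvd_one.1 h2)
    exact top_le_iff.mp (Cfsg.Agent.Grp.le_uSer_succ_even Even.zero inferInstance (S := ⊥) bot_le
      (by rwa [Subgroup.relIndex_bot_left, Subgroup.card_top]))
  | c + 1, G, _, _, p, hp, hG, S, hc => by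
    haveI := S.isPGroup'.isNilpotent
    set U := Cfsg.Agent.Grp.uSer p G 2 with hU
    haveI hUn : U.Normal := (Cfsg.upperPSeries p G 2).2
    haveI hU1n : (Cfsg.Agent.Grp.uSer p G 1).Normal := (Cfsg.upperPSeries p G 1).2
    haveI hcn : (Cfsg.pPrimeCore p G).Normal := Cfsg.Agent.Grp.pPrimeCore_isNormal
    -- the centre of `S` lies in the second term
    have hZ : ∀ x : (S : Subgroup G), x ∈ Subgroup.center (S : Subgroup G) → (x : G) ∈ U := by
      intro x hx
      set π := QuotientGroup.mk' (Cfsg.Agent.Grp.uSer p G 1)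
      have hπ : Function.Surjective π := QuotientGroup.mk'_surjective _
      have hbot : Cfsg.pPrimeCore p (G ⧸ Cfsg.Agent.Grp.uSer p G 1) = ⊥ := by
        refine le_bot_iff.1 ((Subgroup.comap_le_comap_of_surjective hπ).1 ?_)
        rw [MonoidHom.comap_bot, QuotientGroup.ker_mk']
        refine Cfsg.Agent.Grp.le_uSer_absorb Even.zero (Subgroup.Normal.comap Cfsg.Agent.Grp.pPrimeCore_isNormal π)
          (S := Cfsg.Agent.Grp.uSer p G 1) le_rfl ?_
        have e := Subgroup.relIndex_ker (K := (Cfsg.pPrimeCore p (G ⧸ Cfsg.Agent.Grp.uSer p G 1)).comap π) π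
        rw [QuotientGroup.ker_mk'] at e
        rw [e, Subgroup.map_comap_eq_self_of_surjective hπ]
        exact Cfsg.Agent.Grp.pPrimeCore_not_dvd
      have hle : Cfsg.pCore p (G ⧸ Cfsg.Agent.Grp.uSer p G 1) ≤ ((S.mapSurjective hπ : Sylow p _) : Subgroup _) :=
        Cfsg.Agent.Grp.pCore_le_sylow _
      rw [hU, Cfsg.Agent.Grp.uSer_succ_odd odd_one, Subgroup.mem_comap]
      refine Cfsg.Agent.Grp.centralizer_pCore_le_of_pSolvable (Cfsg.Agent.Grp.isPSolvable_map hG π hπ) hbot
        (Subgroup.mem_centralizer_iff.2 fun y hy => ?_)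
      obtain ⟨s, hs, rfl⟩ := hle hy
      show π s * π (x : G) = π (x : G) * π s
      rw [← map_mul, ← map_mul]
      exact congrArg π (congrArg Subtype.val (Subgroup.mem_center_iff.1 hx ⟨s, hs⟩))
    have hS' : Group.nilpotencyClass ↥((S.mapSurjective (QuotientGroup.mk'_surjective U) : Sylow p _) : Subgroup (G ⧸ U)) ≤ c := by
      let f : (S : Subgroup G) →* ((S.mapSurjective (QuotientGroup.mk'_surjective U) : Sylow p _) : Subgroup (G ⧸ U)) :=
        (QuotientGroup.mk' U).subgroupMap (S : Subgroup G)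
      have hfs : Function.Surjective f := (QuotientGroup.mk' U).subgroupMap_surjective _
      let f' := QuotientGroup.lift (Subgroup.center (S : Subgroup G)) f fun x hx =>
        Subtype.ext ((QuotientGroup.eq_one_iff _).2 (hZ x hx))
      have hfs' : Function.Surjective f' := fun y => by
        obtain ⟨x, hx⟩ := hfs y
        exact ⟨QuotientGroup.mk x, hx⟩
      refine (Group.nilpotencyClass_le_of_surjective f' hfs').trans ?_
      rw [Group.nilpotencyClass_quotient_center]
      omega
    rw [Nat.add_comm c 1]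
    exact Cfsg.Agent.Grp.pLengthLE_extension U (a := 1) (Cfsg.Agent.Grp.uSer_mono (by omega))
      (aux c _ p (Cfsg.Agent.Grp.isPSolvable_map hG _ (QuotientGroup.mk'_surjective U)) _ hS')

/-- The p-length of a p-soluble group is at most the nilpotency class of its Sylow p-subgroups. -/
theorem result {G : Type*} [Group G] [Finite G] {p : ℕ} [Fact p.Prime] (hsol : Cfsg.IsPSolvable p G) (S : Sylow p G) : Cfsg.PLengthLE p (Group.nilpotencyClass ↥(S : Subgroup G)) G := by

  exact aux _ G p hsol S le_rfl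

end Cfsg.Agent.S0635
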