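import Cfsg.Statements.S0640
import Cfsg.Agent.Lib.Transfer.RankTwo
import Cfsg.Agent.Lib.Invol.Critical
import Cfsg.Agent.Lib.Transfer.OmegaFixed

set_option maxHeartbeats 1000000
set_option maxRecDepth 8000

set_option autoImplicit false
open Cfsg
open scoped commutatorElement

namespace Cfsg.Agent.S0640

/-- Restriction of an automorphism to an invariant subgroup. -/
def resAut {R : Type*} [Group R] (β : MulAut R) (L : Subgroup R) (h : ∀ x, β x ∈ L ↔ x ∈ L) : MulAut L where
  toFun x := ⟨β x, (h x).2 x.2⟩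
  invFun x := ⟨β.symm x, (h _).1 (by simp)⟩
  left_inv x := Subtype.ext (β.symm_apply_apply x)
  right_inv x := Subtype.ext (β.apply_symm_apply x)
  map_mul' x y := Subtype.ext (map_mul β (x : R) y)

theorem resAut_pow {R : Type*} [Group R] (β : MulAut R) (L : Subgroup R) (h : ∀ x, β x ∈ L ↔ x ∈ L) (n : ℕ)
    (x : L) : ((resAut β L h ^ n) x : R) = (β ^ n) x := by
  induction n generalizing x with
  | zero => rfl
  | succ n ih => rw [pow_succ, pow_succ, MulAut.mul_apply, MulAut.mul_apply, ih]; rfl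

theorem resAut_pow_one {R : Type*} [Group R] {β : MulAut R} {q : ℕ} (hq : β ^ q = 1) (L : Subgroup R)
    (h : ∀ x, β x ∈ L ↔ x ∈ L) : resAut β L h ^ q = 1 :=
  MulEquiv.ext fun x => Subtype.ext (by rw [resAut_pow, hq]; rfl)

theorem modEq_fixed {K : Type*} [Group K] [Finite K] {q : ℕ} [Fact q.Prime] (β : MulAut K)
    (hβ : β ^ q = 1) : Nat.card K ≡ Nat.card {x : K // β x = x} [MOD q] := by
  have hP : IsPGroup q (Subgroup.zpowers β) := fun g => ⟨1, Subtype.ext (by
    obtain ⟨i, hi⟩ := Subgroup.mem_zpowers_iff.1 g.2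
    rw [pow_one, SubgroupClass.coe_pow, ← hi, ← zpow_natCast (β ^ i), ← zpow_mul, mul_comm, zpow_mul, zpow_natCast, hβ,
      one_zpow]; rfl)⟩
  have h := hP.card_modEq_card_fixedPoints K
  suffices e : Nat.card (MulAction.fixedPoints (Subgroup.zpowers β) K) = Nat.card {x : K // β x = x} by rw [← e]; exact h
  refine Nat.card_congr (Equiv.subtypeEquivRight fun x => ?_)
  refine ⟨fun hx => hx ⟨β, Subgroup.mem_zpowers β⟩, fun hx => ?_⟩
  rintro ⟨g, hg⟩
  show g x = x
  have : g ∈ MulAction.stabilizer (MulAut K) x := Subgroup.zpowers_le.2 hx hg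
  exact this

/-- An automorphism moving something in a group of order at most `p²`, or of order at most `p³` and fixing a
non-identity element. -/
theorem dvd_sq_sub_one {K : Type*} [Group K] [Finite K] {p q : ℕ} [hp : Fact p.Prime] [hq : Fact q.Prime] (hqp : q ≠ p)
    (hK : IsPGroup p K) (β : MulAut K) (hβ : β ^ q = 1) (hne : β ≠ 1)
    (hc : Nat.card K ≤ p ^ 2 ∨ (Nat.card K ≤ p ^ 3 ∧ ∃ z : K, z ≠ 1 ∧ β z = z)) : q ∣ p ^ 2 - 1 := by
  let F : Subgroup K :=
    { carrier := {x | β x = x}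
      one_mem' := map_one β
      mul_mem' := fun {a b} ha hb => by show β (a * b) = a * b; rw [map_mul, ha, hb]
      inv_mem' := fun {a} ha => by show β a⁻¹ = a⁻¹; rw [map_inv, ha] }
  obtain ⟨j, hj⟩ := IsPGroup.iff_card.1 hK
  obtain ⟨i, hi⟩ := IsPGroup.iff_card.1 (hK.to_subgroup F)
  have hlt : i < j := by
    by_contra h
    have : F = ⊤ := Subgroup.eq_top_of_le_card F (by rw [hi, hj]; exact Nat.pow_le_pow_right hp.out.pos (by omega))
    exact hne (MulEquiv.ext fun x => (this.ge (Subgroup.mem_top x) : x ∈ F))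
  have hji : j ≤ i + 2 := by
    rcases hc with h | ⟨h, z, hz, hzf⟩
    · rw [hj] at h
      have := (Nat.pow_le_pow_iff_right hp.out.one_lt).1 h
      omega
    · rw [hj] at h
      have := (Nat.pow_le_pow_iff_right hp.out.one_lt).1 h
      rcases Nat.eq_zero_or_pos i with rfl | hpos
      · exfalso
        rw [pow_zero] at hi
        have hF : F = ⊥ := Subgroup.eq_bot_of_card_eq F hi
        exact hz (Subgroup.mem_bot.1 (hF.le (hzf : z ∈ F)))
      · omega
  have hm : p ^ j ≡ p ^ i [MOD q] := by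
    have := modEq_fixed β hβ
    rw [hj] at this
    rw [← hi]; exact this
  have hd : q ∣ p ^ i * (p ^ (j - i) - 1) := by
    rw [Nat.mul_sub, mul_one, ← pow_add, Nat.add_sub_cancel' hlt.le]
    exact (Nat.modEq_iff_dvd' (Nat.pow_le_pow_right hp.out.pos hlt.le)).1 hm.symm
  have hd' : q ∣ p ^ (j - i) - 1 := ((hq.out.dvd_mul).1 hd).resolve_left fun h =>
    hqp ((Nat.prime_dvd_prime_iff_eq hq.out hp.out).1 (hq.out.dvd_of_dvd_pow h))
  refine hd'.trans ?_
  rcases (show j - i = 1 ∨ j - i = 2 by omega) with h | h <;> rw [h]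
  rw [pow_one]
  exact ⟨p + 1, by simpa [mul_comm] using Nat.sq_sub_sq p 1⟩


/-- For odd p, a prime q ≠ p dividing the order of the automorphism group of a p-group of rank at most 2 divides p² - 1 and is less than p. -/
theorem result {R : Type*} [Group R] [Finite R] {p : ℕ} [Fact p.Prime] (hp : p ≠ 2) (hR : IsPGroup p R) (hrk : Cfsg.PRankLE p 2 R) (q : ℕ) (hq : q.Prime) (hqp : q ≠ p) (hdvd : q ∣ Nat.card (MulAut R)) : q ∣ p ^ 2 - 1 ∧ q < p := by

  haveI : Fact q.Prime := ⟨hq⟩
  have hp' : p.Prime := Fact.out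
  obtain ⟨α, hα⟩ := exists_prime_orderOf_dvd_card' q hdvd
  have hαq : α ^ q = 1 := hα ▸ pow_orderOf_eq_one α
  obtain ⟨H, hHc, hHR, -, hCH⟩ := Invol.exists_critical hR
  haveI := hHc
  have hmap : ∀ x, α x ∈ H ↔ x ∈ H := fun x => by
    conv_rhs => rw [← Subgroup.Characteristic.fixed (H := H) inferInstance α]
    rfl
  set β := resAut α H hmap with hβ
  have hβq : β ^ q = 1 := resAut_pow_one hαq H hmap
  have hβne : β ≠ 1 := fun h => by
    have h1 : α = 1 := Invol.aut_eq_one_of_fixed hR hCH (hα ▸ (Nat.coprime_primes hq hp').2 hqp)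
      (fun x hx => congrArg Subtype.val (DFunLike.congr_fun h (⟨x, hx⟩ : H)))
    rw [h1, orderOf_one] at hα
    exact hq.one_lt.ne hα
  obtain ⟨x₀, hx₀, hx₀m⟩ : ∃ x : H, x ^ p = 1 ∧ β x ≠ x := by
    by_contra hcon
    push Not at hcon
    refine hβne (Transfer.aut_eq_one_of_fix_omega (a := β) hp (hR.to_subgroup H) ?_ hcon)
    exact Nat.Coprime.coprime_dvd_left (orderOf_dvd_of_pow_eq_one hβq) ((Nat.coprime_primes hq hp').2 hqp)
  have hcen : ∀ x y z : H, Commute ⁅x, y⁆ z := fun x y z => Subtype.ext (by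
    have h1 := hHR (Subgroup.commutator_mem_commutator x.2 (Subgroup.mem_top (y : R)))
    exact (Subgroup.mem_centralizer_iff.1 h1.2 z z.2).symm)
  let K : Subgroup H :=
    { carrier := {x | x ^ p = 1}
      one_mem' := one_pow p
      mul_mem' := fun {x y} hx hy => by
        show (x * y) ^ p = 1
        have hc : ⁅y, x⁆ ^ p = 1 := by
          have h2 : y * x * y⁻¹ = ⁅y, x⁆ * x := by rw [commutatorElement_def]; group
          have h3 : (y * x * y⁻¹) ^ p = 1 := by rw [conj_pow, hx, mul_one, mul_inv_cancel]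
          rwa [h2, (hcen y x x).mul_pow, hx, mul_one] at h3
        rw [Grp.mul_pow_class_two (x := x) (y := y) (c := ⁅y, x⁆) (by rw [commutatorElement_def]; group)
          (hcen y x x) (hcen y x y) p, hx, hy]
        obtain ⟨m, hm⟩ := hp'.dvd_choose_self two_ne_zero (by have := hp'.two_le; omega : 2 < p)
        rw [hm, pow_mul, hc, one_pow, one_mul, one_mul]
      inv_mem' := fun {x} hx => by show x⁻¹ ^ p = 1; rw [inv_pow, show x ^ p = 1 from hx, inv_one] }
  have hKi : ∀ x, β x ∈ K ↔ x ∈ K := fun x => by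
    show β x ^ p = 1 ↔ x ^ p = 1
    rw [← map_pow, EmbeddingLike.map_eq_one_iff]
  set γ := resAut β K hKi with hγ
  have hγq : γ ^ q = 1 := resAut_pow_one hβq K hKi
  have hKR : IsPGroup p K := (hR.to_subgroup H).to_subgroup K
  have hrkK : Cfsg.PRankLE p 2 K := Transfer.RankTwo.rankLE_subgroup (Transfer.RankTwo.rankLE_subgroup hrk H) K
  have hKe : ∀ x : K, x ^ p = 1 := fun x => Subtype.ext x.2
  have hK3 : Nat.card K ≤ p ^ 3 := Transfer.RankTwo.card_le_cube hKR hrkK hKe
  have hγne : γ ≠ 1 := fun h => hx₀m (congrArg Subtype.val (DFunLike.congr_fun h (⟨x₀, hx₀⟩ : K)))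
  have hdv : q ∣ p ^ 2 - 1 := by
    by_cases hK2 : Nat.card K ≤ p ^ 2
    · exact dvd_sq_sub_one hqp hKR γ hγq hγne (Or.inl hK2)
    haveI hnt : Nontrivial K := Finite.one_lt_card_iff_nontrivial.1 (lt_of_le_of_lt (pow_pos hp'.pos 2) (not_le.1 hK2))
    set Z := Subgroup.center K with hZ
    have hZi : ∀ x, γ x ∈ Z ↔ x ∈ Z := fun x => by
      conv_rhs => rw [hZ, ← Subgroup.Characteristic.fixed (H := Subgroup.center K) inferInstance γ]
      rfl
    by_cases hzfix : ∀ z ∈ Z, γ z = z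
    · haveI := hKR.center_nontrivial
      obtain ⟨z, hz⟩ := exists_ne (1 : Z)
      exact dvd_sq_sub_one hqp hKR γ hγq hγne (Or.inr ⟨hK3, z, fun h => hz (Subtype.ext h), hzfix z z.2⟩)
    · push Not at hzfix
      obtain ⟨z, hz, hzm⟩ := hzfix
      refine dvd_sq_sub_one hqp (hKR.to_subgroup Z) (resAut γ Z hZi) (resAut_pow_one hγq Z hZi)
        (fun h => hzm (congrArg Subtype.val (DFunLike.congr_fun h (⟨z, hz⟩ : Z)))) (Or.inl ?_)
      refine hrkK Z inferInstance fun a _ => hKe a
  refine ⟨hdv, ?_⟩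
  have h1 : q ∣ (p + 1) * (p - 1) := by rwa [← Nat.sq_sub_sq, one_pow]
  have h2 := hp'.two_le
  rcases (hq.dvd_mul).1 h1 with h | h
  · have hle := Nat.le_of_dvd (by omega) h
    by_contra hge
    have he : q = p + 1 := by omega
    rcases hq.eq_two_or_odd with h' | h' <;> rcases hp'.eq_two_or_odd with h'' | h'' <;> omega
  · have := Nat.le_of_dvd (by omega) h
    omega

end Cfsg.Agent.S0640
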