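import Cfsg.Statements.S0642
import Mathlib
import Cfsg.Agent.Lib.Grp.Frattini

set_option maxHeartbeats 1000000
set_option maxRecDepth 8000

set_option autoImplicit false
open Cfsg
open scoped commutatorElement

namespace Cfsg.Agent.S0642

/-- A regular group generated by two elements satisfying the square identity is abelian. -/
theorem comm_of_two_generated {H : Type*} [Group H] [Finite H] (hH : IsPGroup 2 H) (a b : H)
    (hgen : Subgroup.closure ({a, b} : Set H) = ⊤) (c : H)
    (hc : c ∈ Cfsg.powerClosure 2 1 (commutator H)) (he : (a * b) ^ 2 = a ^ 2 * b ^ 2 * c) :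
    a * b = b * a := by
  set D := commutator H with hD
  set Φ := (frattini D).map D.subtype with hΦ
  have hDp : IsPGroup 2 D := hH.to_subgroup D
  have hΦn : Φ.Normal := by
    rw [hΦ]; exact ConjAct.normal_of_characteristic_of_normal
  have hcΦ : c ∈ Φ := by
    have : Cfsg.powerClosure 2 1 D ≤ Φ := by
      rw [Cfsg.powerClosure, Subgroup.closure_le]
      rintro _ ⟨x, hx, rfl⟩
      exact ⟨⟨x, hx⟩ ^ 2, Cfsg.Agent.Grp.pGroup_pow_mem_frattini hDp _, by simp⟩
    exact this hc
  set π := QuotientGroup.mk' Φ with hπ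
  have hab : π a * π b = π b * π a := by
    have h1 := congrArg π he
    rw [map_pow, map_mul, map_mul, map_mul, map_pow, map_pow,
      show π c = 1 from (QuotientGroup.eq_one_iff c).2 hcΦ, mul_one] at h1
    simp only [pow_two] at h1
    have h2 : π a * (π b * π a) * π b = π a * (π a * π b) * π b := by
      calc π a * (π b * π a) * π b = π a * π b * (π a * π b) := by group
        _ = π a * π a * (π b * π b) := h1
        _ = π a * (π a * π b) * π b := by group
    exact (mul_left_cancel (mul_right_cancel h2)).symm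
  have hDΦ : D ≤ Φ := by
    have hcom : ∀ x y : H ⧸ Φ, x * y = y * x := by
      have hgen' : Subgroup.closure ({π a, π b} : Set (H ⧸ Φ)) = ⊤ := by
        rw [← Set.image_pair, ← MonoidHom.map_closure, hgen,
          Subgroup.map_top_of_surjective π (QuotientGroup.mk'_surjective Φ)]
      have hc1 : IsMulCommutative (Subgroup.closure ({π a, π b} : Set (H ⧸ Φ))) :=
        Subgroup.isMulCommutative_closure (by
          rintro x (rfl | rfl) y (rfl | rfl)
          exacts [rfl, hab, hab.symm, rfl])
      intro x y
      exact congrArg Subtype.val (hc1.is_comm.comm ⟨x, hgen' ▸ Subgroup.mem_top x⟩ ⟨y, hgen' ▸ Subgroup.mem_top y⟩)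
    rw [hD, ← Subgroup.Normal.quotient_commutative_iff_commutator_le]
    exact ⟨⟨hcom⟩⟩
  have hDbot : D = ⊥ := by
    by_contra hne
    have : Nontrivial D := (Subgroup.nontrivial_iff_ne_bot D).2 hne
    obtain ⟨M, hM⟩ := (eq_top_or_exists_le_coatom (⊥ : Subgroup D)).resolve_left bot_ne_top
    refine hM.1.1 (top_le_iff.1 fun d _ => ?_)
    obtain ⟨v, hv, hv'⟩ := hDΦ d.2
    rw [show d = v from Subtype.ext hv'.symm]
    exact frattini_le_coatom hM.1 hv
  have := (commutator_eq_bot_iff (G := H)).1 hDbot
  exact this.is_comm.comm a b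

/-- Among finite 2-groups the regular ones are exactly the abelian ones. -/
theorem result {G : Type*} [Group G] [Finite G] (hG : IsPGroup 2 G) : Cfsg.IsRegularPGroup 2 G ↔ ∀ a b : G, a * b = b * a := by

  constructor
  · intro h a b
    set H := Subgroup.closure ({a, b} : Set G) with hH
    have ha : a ∈ H := Subgroup.subset_closure (Set.mem_insert _ _)
    have hb : b ∈ H := Subgroup.subset_closure (Set.mem_insert_of_mem _ rfl)
    obtain ⟨c, hc, he⟩ := h.2 a b 1
    rw [← hH] at hc
    have hmap : Cfsg.powerClosure 2 1 ⁅H, H⁆ ≤ (Cfsg.powerClosure 2 1 (commutator H)).map H.subtype := by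
      have e : ⁅H, H⁆ = (commutator H).map H.subtype := by
        rw [commutator_def, Subgroup.map_commutator, ← MonoidHom.range_eq_map, Subgroup.range_subtype]
      rw [e, Cfsg.powerClosure, Cfsg.powerClosure, MonoidHom.map_closure]
      refine Subgroup.closure_mono ?_
      rintro _ ⟨_, ⟨x, hx, rfl⟩, rfl⟩
      exact ⟨_, ⟨x, hx, rfl⟩, map_pow _ _ _⟩
    obtain ⟨c', hc', rfl⟩ := hmap hc
    have hgen : Subgroup.closure ({⟨a, ha⟩, ⟨b, hb⟩} : Set H) = ⊤ := by
      apply Subgroup.map_injective H.subtype_injective
      rw [MonoidHom.map_closure, Set.image_pair, ← MonoidHom.range_eq_map, Subgroup.range_subtype]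
      rfl
    have := comm_of_two_generated (hG.to_subgroup H) ⟨a, ha⟩ ⟨b, hb⟩ hgen c' hc'
      (Subtype.ext (by simpa using he))
    exact congrArg Subtype.val this
  · intro h
    refine ⟨hG, fun a b n => ⟨1, one_mem _, ?_⟩⟩
    rw [mul_one]
    exact (show Commute a b from h a b).mul_pow _

end Cfsg.Agent.S0642
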