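import Cfsg.Statements.S0645
import Mathlib

set_option maxHeartbeats 1000000
set_option maxRecDepth 8000

set_option autoImplicit false
open Cfsg

namespace Cfsg.Agent.S0645

theorem exp_one_mod {p : ℕ} [hp : Fact p.Prime] (hodd : p ≠ 2) {N : ℕ} {r : ℤ} (hrp : ((p : ℤ) ^ (N + 2)) ∣ r ^ p - 1) :
    ((p : ℤ) ^ (N + 1)) ∣ r - 1 := by
  have hP : Prime (p : ℤ) := Nat.prime_iff_prime_int.1 hp.out
  have h1 : (p : ℤ) ∣ r - 1 := by
    have h : ((r : ZMod p) ^ p - 1) = 0 := by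
      rw [← Int.cast_pow, ← Int.cast_one, ← Int.cast_sub, ZMod.intCast_zmod_eq_zero_iff_dvd]
      exact (dvd_pow_self _ (by omega)).trans hrp
    rw [ZMod.pow_card] at h
    rw [← ZMod.intCast_zmod_eq_zero_iff_dvd, Int.cast_sub, Int.cast_one]
    exact h
  have hr : ¬ (p : ℤ) ∣ r := fun h => hP.not_dvd_one (by simpa using dvd_sub h h1)
  by_contra hcon
  have hkey : emultiplicity (p : ℤ) (r ^ p - 1 ^ p) = emultiplicity (p : ℤ) (r - 1) + emultiplicity p p :=
    Int.emultiplicity_pow_sub_pow hp.out (hp.out.odd_of_ne_two hodd) h1 hr p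
  rw [one_pow] at hkey
  have h2 : ((N + 2 : ℕ) : ℕ∞) ≤ emultiplicity (p : ℤ) (r ^ p - 1) := le_emultiplicity_of_pow_dvd hrp
  have h3 : emultiplicity (p : ℤ) (r - 1) < ((N + 1 : ℕ) : ℕ∞) := emultiplicity_lt_iff_not_dvd.2 hcon
  rw [hkey, Nat.Prime.emultiplicity_self hp.out] at h2
  have h4 : emultiplicity (p : ℤ) (r - 1) + 1 < ((N + 2 : ℕ) : ℕ∞) := by
    obtain ⟨m, hm⟩ := ENat.ne_top_iff_exists.1 h3.ne_top
    rw [← hm] at h3 ⊢
    norm_cast at h3 ⊢
    omega
  exact h4.not_ge h2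


/-- Classification of p-groups with a cyclic maximal subgroup, odd p: a non-abelian one of order p^n has generators a of order p^(n-1) and b of order p, b outside the cyclic subgroup generated by a, with b a b⁻¹ = a^(1 + p^(n-2)). -/
theorem result {G : Type*} [Group G] [Finite G] {p : ℕ} [Fact p.Prime] (hp : p ≠ 2) (n : ℕ) (hn : 3 ≤ n) (hG : Nat.card G = p ^ n) (C : Subgroup G) (hC : IsCyclic C) (hCi : C.index = p) (hna : ∃ x y : G, x * y ≠ y * x) : ∃ a b : G, orderOf a = p ^ (n - 1) ∧ orderOf b = p ∧ b ∉ Subgroup.zpowers a ∧ b * a * b⁻¹ = a ^ (1 + p ^ (n - 2)) := by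

  classical
  have hp' : p.Prime := Fact.out
  obtain ⟨a, ha⟩ := (Subgroup.isCyclic_iff_exists_zpowers_eq_top C).1 hC
  obtain ⟨N, rfl⟩ : ∃ N, n = N + 3 := ⟨n - 3, by omega⟩
  simp only [show N + 3 - 1 = N + 2 by omega, show N + 3 - 2 = N + 1 by omega]
  have hoa : orderOf a = p ^ (N + 2) := by
    have h := C.card_mul_index
    rw [hCi, hG, pow_succ] at h
    rw [← Nat.card_zpowers, ha]
    exact Nat.eq_of_mul_eq_mul_right hp'.pos h
  have hGp : IsPGroup p G := IsPGroup.of_card hG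
  haveI : Group.IsNilpotent G := hGp.isNilpotent
  have hCtop : C ≠ ⊤ := fun e => by rw [e, Subgroup.index_top] at hCi; exact hp'.one_lt.ne hCi
  have hCn : C.Normal := Subgroup.normal_of_index_eq_minFac_card (by
    rw [hCi, hG, Nat.pow_minFac (by omega), hp'.minFac_eq])
  obtain ⟨b, hb⟩ : ∃ b, b ∉ C := by
    by_contra h
    push Not at h
    exact hCtop (eq_top_iff.2 fun x _ => h x)
  have hbp : b ^ p ∈ C := by
    rw [← hCi]; exact Subgroup.pow_index_mem C b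
  obtain ⟨r, hr⟩ : ∃ r : ℤ, a ^ r = b * a * b⁻¹ := by
    have h := hCn.conj_mem a (ha ▸ Subgroup.mem_zpowers a) b
    rw [← ha] at h
    exact h
  have hconj : ∀ m : ℕ, ∀ i : ℤ, b ^ m * a ^ i * (b ^ m)⁻¹ = a ^ (i * r ^ m) := fun m => by
    induction m with
    | zero => intro i; simp
    | succ m ih =>
      intro i
      rw [pow_succ', show b * b ^ m * a ^ i * (b * b ^ m)⁻¹ = b * (b ^ m * a ^ i * (b ^ m)⁻¹) * b⁻¹ by group, ih,
        ← MulAut.conj_apply, map_zpow, MulAut.conj_apply, ← hr, ← zpow_mul]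
      ring_nf
  rw [← ha] at hbp
  obtain ⟨t, ht⟩ := hbp
  simp only at ht
  have hzero : ∀ i j : ℤ, a ^ i = a ^ j ↔ ((p : ℤ) ^ (N + 2)) ∣ i - j := fun i j => by
    rw [← mul_inv_eq_one, ← zpow_sub, ← orderOf_dvd_iff_zpow_eq_one, hoa]; push_cast; rfl
  have hrp : ((p : ℤ) ^ (N + 2)) ∣ r ^ p - 1 := by
    rw [← hzero]
    have h := hconj p 1
    rw [one_mul, zpow_one, ← ht] at h
    rw [← h, zpow_one, (Commute.self_zpow a t).symm.eq, mul_inv_cancel_right]
  obtain ⟨k, hk⟩ := exp_one_mod hp hrp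
  have hr1 : ¬ ((p : ℤ) ^ (N + 2)) ∣ r - 1 := by
    intro h
    rw [← hzero, zpow_one, hr, mul_inv_eq_iff_eq_mul] at h
    obtain ⟨x, y, hxy⟩ := hna
    have htop : Subgroup.closure {a, b} = ⊤ := by
      by_contra hne
      have hle : C ≤ Subgroup.closure {a, b} := by
        rw [← ha, Subgroup.zpowers_le]; exact Subgroup.subset_closure (by simp)
      have hlt : C < Subgroup.closure {a, b} :=
        lt_of_le_of_ne hle fun e => hb (e ▸ Subgroup.subset_closure (by simp))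
      have := Subgroup.index_strictAnti hlt
      rw [hCi] at this
      have h1 := Subgroup.index_dvd_of_le hle
      rw [hCi] at h1
      rcases (Nat.dvd_prime hp').1 h1 with h2 | h2
      · exact hne (Subgroup.index_eq_one.1 h2)
      · omega
    haveI : IsMulCommutative (Subgroup.closure {a, b}) := Subgroup.isMulCommutative_closure (by
      rintro u (rfl | rfl) v (rfl | rfl) <;> first | rfl | exact h | exact h.symm)
    exact hxy (congrArg Subtype.val (mul_comm' (⟨x, htop ▸ Subgroup.mem_top x⟩ : Subgroup.closure {a, b})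
      ⟨y, htop ▸ Subgroup.mem_top y⟩))
  have hk1 : ¬ (p : ℤ) ∣ k := fun ⟨c, hc⟩ => hr1 ⟨c, by rw [hk, hc]; ring⟩
  obtain ⟨u, v, huv⟩ := ((Nat.prime_iff_prime_int.1 hp').coprime_iff_not_dvd.2 hk1).symm
  -- `u k ≡ 1 (mod p)`
  obtain ⟨s, hs⟩ : ∃ s : ℕ, (p : ℤ) ∣ s * k - 1 := by
    obtain ⟨s, hs⟩ := Int.eq_ofNat_of_zero_le (Int.emod_nonneg u (by exact_mod_cast hp'.ne_zero : (p : ℤ) ≠ 0))
    refine ⟨s, ⟨-(u / p) * k - v, ?_⟩⟩
    rw [← hs]
    have := Int.mul_ediv_add_emod u p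
    linear_combination k * this + huv
  have hpow : ∀ m : ℕ, ((p : ℤ) ^ (N + 2)) ∣ r ^ m - (1 + m * k * (p : ℤ) ^ (N + 1)) := fun m => by
    induction m with
    | zero => simp
    | succ m ih =>
      obtain ⟨c, hc⟩ := ih
      refine ⟨c * r + m * k * k * (p : ℤ) ^ N, ?_⟩
      have e : r = 1 + (p : ℤ) ^ (N + 1) * k := by linear_combination hk
      push_cast
      rw [pow_succ r m, show r ^ m = 1 + m * k * (p : ℤ) ^ (N + 1) + (p : ℤ) ^ (N + 2) * c by linear_combination hc]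
      rw [e]
      ring
  have hbsa : b ^ s * a * (b ^ s)⁻¹ = a ^ (1 + (p : ℤ) ^ (N + 1)) := by
    have h := hconj s 1
    rw [one_mul, zpow_one] at h
    rw [h, hzero]
    obtain ⟨c, hc⟩ := hs
    obtain ⟨d, hd⟩ := hpow s
    exact ⟨d + c, by linear_combination hd + (p : ℤ) ^ (N + 1) * hc⟩
  set b' := b ^ s with hb'
  -- the conjugation by `b'`, and the `p`-th powers
  set R : ℤ := 1 + (p : ℤ) ^ (N + 1) with hR
  have hsum : ∀ i : ℤ, ∀ m : ℕ, (a ^ i * b') ^ m = a ^ (i * ∑ j ∈ Finset.range m, R ^ j) * b' ^ m := fun i m => by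
    induction m with
    | zero => simp
    | succ m ih =>
      have hcj : ∀ (j : ℕ) (l : ℤ), b' ^ j * a ^ l = a ^ (l * R ^ j) * b' ^ j := fun j => by
        induction j with
        | zero => intro l; simp
        | succ j ihj =>
          intro l
          have h1 : b' * a ^ (l * R ^ j) * b'⁻¹ = a ^ (l * R ^ (j + 1)) := by
            rw [← MulAut.conj_apply, map_zpow, MulAut.conj_apply, hbsa, ← zpow_mul]; ring_nf
          rw [pow_succ', mul_assoc, ihj, ← h1]; group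
      rw [pow_succ, ih, show a ^ (i * ∑ j ∈ Finset.range m, R ^ j) * b' ^ m * (a ^ i * b') =
        a ^ (i * ∑ j ∈ Finset.range m, R ^ j) * (b' ^ m * a ^ i) * b' by group, hcj, ← mul_assoc, ← zpow_add,
        Finset.sum_range_succ, mul_add, mul_assoc, ← pow_succ]
  have hsum' : ((p : ℤ) ^ (N + 2)) ∣ (∑ j ∈ Finset.range p, R ^ j) - p := by
    have e : ∀ j : ℕ, ((p : ℤ) ^ (N + 2)) ∣ R ^ j - (1 + j * (p : ℤ) ^ (N + 1)) := fun j => by
      induction j with
      | zero => simp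
      | succ j ih =>
        obtain ⟨c, hc⟩ := ih
        refine ⟨c * R + j * (p : ℤ) ^ N, ?_⟩
        rw [pow_succ R j, show R ^ j = 1 + j * (p : ℤ) ^ (N + 1) + (p : ℤ) ^ (N + 2) * c by linear_combination hc, hR]
        push_cast
        ring
    have h1 : ((p : ℤ) ^ (N + 2)) ∣ (∑ j ∈ Finset.range p, R ^ j) -
        ∑ j ∈ Finset.range p, (1 + (j : ℤ) * (p : ℤ) ^ (N + 1)) := by
      rw [← Finset.sum_sub_distrib]; exact Finset.dvd_sum fun j _ => e j
    have hg : (∑ j ∈ Finset.range p, (j : ℤ)) = (p : ℤ) * (((p - 1) / 2 : ℕ) : ℤ) := by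
      have h2 : 2 ∣ p - 1 := by
        obtain ⟨q, hq⟩ := hp'.odd_of_ne_two hp
        exact ⟨q, by omega⟩
      rw [← Nat.cast_sum, Finset.sum_range_id, ← Nat.cast_mul, Nat.mul_div_assoc p h2]
    obtain ⟨c, hc⟩ := h1
    refine ⟨c + (((p - 1) / 2 : ℕ) : ℤ), ?_⟩
    rw [Finset.sum_add_distrib, Finset.sum_const, Finset.card_range, nsmul_one, ← Finset.sum_mul, hg] at hc
    linear_combination hc
  have hb'C : b' ∉ C := by
    intro h
    rw [← ha] at h
    obtain ⟨i, hi⟩ := h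
    simp only at hi
    have h1 := hbsa
    rw [← hi, (Commute.self_zpow a i).symm.eq, mul_inv_cancel_right] at h1
    nth_rewrite 1 [← zpow_one a] at h1
    rw [hzero, hR, show (1 : ℤ) - (1 + (p : ℤ) ^ (N + 1)) = -(p : ℤ) ^ (N + 1) by ring, dvd_neg] at h1
    have := (pow_dvd_pow_iff (Nat.cast_ne_zero.2 hp'.ne_zero) (Nat.prime_iff_prime_int.1 hp').not_isUnit).1 h1
    omega
  have hb'p : ∃ m : ℤ, b' ^ p = a ^ ((p : ℤ) * m) := by
    have h1 : b' ^ p ∈ C := by rw [← hCi]; exact Subgroup.pow_index_mem C b'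
    rw [← ha] at h1
    obtain ⟨i, hi⟩ := h1
    simp only at hi
    have h2 : (p : ℤ) ∣ i := by
      have h3 : b' * a ^ i * b'⁻¹ = a ^ i := by
        rw [hi, mul_inv_eq_iff_eq_mul, ← pow_succ, ← pow_succ']
      rw [← MulAut.conj_apply, map_zpow, MulAut.conj_apply, hbsa, ← zpow_mul, hzero] at h3
      rw [show R * i - i = (p : ℤ) ^ (N + 1) * i by rw [hR]; ring, pow_succ _ (N + 1)] at h3
      exact (mul_dvd_mul_iff_left (pow_ne_zero _ (Nat.cast_ne_zero.2 hp'.ne_zero))).1 h3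
    obtain ⟨m, rfl⟩ := h2
    exact ⟨m, hi.symm⟩
  obtain ⟨m, hm⟩ := hb'p
  have hbC : a ^ (-m) * b' ∉ C := fun h => hb'C (by
    have := C.mul_mem (C.inv_mem (C.zpow_mem (ha ▸ Subgroup.mem_zpowers a : a ∈ C) (-m))) h
    rwa [inv_mul_cancel_left] at this)
  have hbp1 : (a ^ (-m) * b') ^ p = 1 := by
    rw [hsum, hm, ← zpow_add, ← zpow_zero a, hzero, sub_zero]
    obtain ⟨c, hc⟩ := hsum'
    exact ⟨-m * c, by linear_combination (-m) * hc⟩
  refine ⟨a, a ^ (-m) * b', hoa, orderOf_eq_prime hbp1 (fun e => hbC (e ▸ C.one_mem)), ?_, ?_⟩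
  · rwa [ha]
  · rw [mul_inv_rev, show a ^ (-m) * b' * a * (b'⁻¹ * (a ^ (-m))⁻¹) = a ^ (-m) * (b' * a * b'⁻¹) * (a ^ (-m))⁻¹ by group,
      hbsa, ← zpow_neg, ← zpow_add, ← zpow_add, ← zpow_natCast a (1 + p ^ (N + 1)), hR]
    push_cast
    ring_nf

end Cfsg.Agent.S0645
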