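import Cfsg.Statements.S0646
import Mathlib
import Cfsg.Agent.Lib.Recog.MaxClassFacts
-- import your own Cfsg.Agent.* helpers here

set_option autoImplicit false
open Cfsg

namespace Cfsg.Agent.S0646

/-- Classification of non-abelian 2-groups with a cyclic maximal subgroup: dihedral, generalized quaternion, and for order at least 16 the modular group and the semidihedral group, each given by generators a (of index 2) and b with the stated relations. -/
theorem result {G : Type*} [Group G] [Finite G] (n : ℕ) (hn : 3 ≤ n) (hG : Nat.card G = 2 ^ n) (C : Subgroup G) (hC : IsCyclic C) (hCi : C.index = 2) (hna : ∃ x y : G, x * y ≠ y * x) : ∃ a b : G, orderOf a = 2 ^ (n - 1) ∧ b ∉ Subgroup.zpowers a ∧ ((b ^ 2 = 1 ∧ b * a * b⁻¹ = a⁻¹) ∨ (b ^ 2 = a ^ (2 ^ (n - 2)) ∧ b * a * b⁻¹ = a⁻¹) ∨ (4 ≤ n ∧ b ^ 2 = 1 ∧ b * a * b⁻¹ = a ^ (1 + 2 ^ (n - 2))) ∨ (4 ≤ n ∧ b ^ 2 = 1 ∧ b * a * b⁻¹ = a ^ (2 ^ (n - 2) - 1))) := by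
  haveI := hC
  obtain ⟨a, rfl⟩ : ∃ a : G, C = Subgroup.zpowers a := by
    obtain ⟨⟨a, ha⟩, hgen⟩ := IsCyclic.exists_generator (α := C)
    refine ⟨a, le_antisymm (fun x hx => ?_) (Subgroup.zpowers_le.2 ha)⟩
    obtain ⟨k, hk⟩ := hgen ⟨x, hx⟩
    exact ⟨k, congrArg Subtype.val hk⟩
  obtain ⟨m, rfl⟩ : ∃ m, n = m + 1 := ⟨n - 1, by omega⟩
  have ha : orderOf a = 2 ^ m := by
    have h1 := (Subgroup.zpowers a).card_mul_index
    rw [hCi, hG, Nat.card_zpowers, pow_succ] at h1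
    omega
  obtain ⟨b, hb⟩ : ∃ b, b ∉ Subgroup.zpowers a := by
    by_contra hh
    push Not at hh
    rw [(Subgroup.eq_top_iff' _).2 hh, Subgroup.index_top] at hCi
    norm_num at hCi
  have h : Cfsg.Agent.MaxClass.Cyc2 m a b := ⟨ha, hG, hb⟩
  have hab : b * a ≠ a * b := fun he => by
    obtain ⟨x, y, hxy⟩ := hna
    refine hxy ?_
    have hc : Commute b a := he
    rcases h.cases x with ⟨i, rfl⟩ | ⟨i, rfl⟩ <;> rcases h.cases y with ⟨j, rfl⟩ | ⟨j, rfl⟩
    · exact ((Commute.refl a).zpow_zpow i j).eq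
    · exact (((hc.symm.zpow_left i).mul_right ((Commute.refl a).zpow_zpow i j))).eq
    · exact ((hc.zpow_right j).mul_left ((Commute.refl a).zpow_zpow i j)).eq
    · exact (((Commute.refl b).mul_right (hc.zpow_right j)).mul_left
        ((hc.symm.zpow_left i).mul_right ((Commute.refl a).zpow_zpow i j))).eq
  obtain ⟨b', h', hcase⟩ := h.normalForm (by omega) hab
  have e1 : m + 1 - 1 = m := by omega
  have e2 : m + 1 - 2 = m - 1 := by omega
  refine ⟨a, b', by rw [e1, ha], h'.nmem, ?_⟩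
  rw [e2]
  rcases hcase with (⟨hb2, hc⟩ | ⟨hb2, hc⟩ | ⟨hm, hb2, hc⟩) | ⟨hm, hb2, hc⟩
  · exact Or.inl ⟨(pow_two b').trans hb2, hc⟩
  · exact Or.inr (Or.inl ⟨(pow_two b').trans hb2, hc⟩)
  · exact Or.inr (Or.inr (Or.inr ⟨by omega, (pow_two b').trans hb2, hc⟩))
  · exact Or.inr (Or.inr (Or.inl ⟨by omega, (pow_two b').trans hb2, hc⟩))

end Cfsg.Agent.S0646
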