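import Cfsg.Statements.S0647
import Mathlib

set_option maxHeartbeats 1000000
set_option maxRecDepth 8000

set_option autoImplicit false
open Cfsg

namespace Cfsg.Agent.S0647

/-- For a nonempty family of maximal abelian subgroups of a finite group, the intersection of the family is the centre of the subgroup it generates, which is also the full centralizer of that subgroup. -/
theorem result {S : Type*} [Group S] [Finite S] (𝒜 : Set (Subgroup S)) (hne : 𝒜.Nonempty) (hab : ∀ A ∈ 𝒜, IsMulCommutative A) (hmax : ∀ A ∈ 𝒜, ∀ B : Subgroup S, IsMulCommutative B → A ≤ B → B = A) : sInf 𝒜 = sSup 𝒜 ⊓ Subgroup.centralizer ((sSup 𝒜 : Subgroup S) : Set S) ∧ sInf 𝒜 = Subgroup.centralizer ((sSup 𝒜 : Subgroup S) : Set S) := by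
  obtain ⟨A₀, hA₀⟩ := hne
  have key : sInf 𝒜 = Subgroup.centralizer ((sSup 𝒜 : Subgroup S) : Set S) := by
    refine le_antisymm ?_ ?_
    · rw [Subgroup.le_centralizer_iff]
      refine sSup_le fun A hA => Subgroup.le_centralizer_iff.1 fun x hx => Subgroup.mem_centralizer_iff.2 fun a ha => ?_
      exact congrArg Subtype.val ((hab A hA).is_comm.comm ⟨a, ha⟩ ⟨x, (sInf_le hA : sInf 𝒜 ≤ A) hx⟩)
    · intro x hx
      refine Subgroup.mem_sInf.2 fun A hA => ?_
      have hc : ∀ a ∈ A, a * x = x * a := fun a ha =>
        Subgroup.mem_centralizer_iff.1 hx a ((le_sSup hA : A ≤ sSup 𝒜) ha)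
      have hcl : IsMulCommutative (A ⊔ Subgroup.zpowers x : Subgroup S) := by
        have hab' : ∀ a ∈ A, ∀ b ∈ A, a * b = b * a := fun a ha b hb =>
          congrArg Subtype.val ((hab A hA).is_comm.comm ⟨a, ha⟩ ⟨b, hb⟩)
        have h1 : A ⊔ Subgroup.zpowers x = Subgroup.closure (insert x (A : Set S)) := by
          rw [Set.insert_eq, Subgroup.closure_union, Subgroup.closure_eq, ← Subgroup.zpowers_eq_closure, sup_comm]
        rw [h1]
        exact Subgroup.isMulCommutative_closure (by
          rintro a (rfl | ha) b (rfl | hb)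
          · rfl
          · exact (hc b hb).symm
          · exact hc a ha
          · exact hab' a ha b hb)
      exact (hmax A hA _ hcl le_sup_left).le (Subgroup.mem_sup_right (Subgroup.mem_zpowers x))
  refine ⟨?_, key⟩
  rw [← key]
  exact (inf_eq_right.2 ((sInf_le hA₀).trans (le_sSup hA₀))).symm

end Cfsg.Agent.S0647
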