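import Cfsg.Statements.S0648
import Mathlib
import Cfsg.Agent.Lib.Transfer.ReplacementPieces
import Cfsg.Agent.Lib.Grp.Signalizer

set_option maxHeartbeats 1000000
set_option maxRecDepth 8000

set_option autoImplicit false
open Cfsg
open scoped commutatorElement Pointwise

namespace Cfsg.Agent.S0648

open Subgroup in
theorem gens_comm {G : Type*} [Group G] (B : Subgroup G) {s : Set G} (hs : s ⊆ B)
    (h : ∀ x ∈ s, ∀ y ∈ s, (∀ z ∈ B, Commute z ⁅x, y⁆) ∧ ⁅x, y⁆ * ⁅x, y⁆ = 1) :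
    ∀ w ∈ ⁅Subgroup.closure s, Subgroup.closure s⁆, w ^ 2 = 1 := by
  let K : Subgroup G :=
    { carrier := {w | w ∈ B ∧ (∀ z ∈ B, Commute z w) ∧ w ^ 2 = 1}
      one_mem' := ⟨one_mem _, fun z _ => Commute.one_right z, one_pow 2⟩
      mul_mem' := fun {a b} ha hb => ⟨mul_mem ha.1 hb.1, fun z hz => (ha.2.1 z hz).mul_right (hb.2.1 z hz),
        by rw [(hb.2.1 a ha.1).mul_pow, ha.2.2, hb.2.2, mul_one]⟩
      inv_mem' := fun {a} ha => ⟨inv_mem ha.1, fun z hz => (ha.2.1 z hz).inv_right, by rw [inv_pow, ha.2.2, inv_one]⟩ }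
  have key : ∀ y ∈ B, ∀ t : Set G, t ⊆ B → (∀ x ∈ t, ⁅x, y⁆ ∈ K) → ∀ x ∈ Subgroup.closure t, ⁅x, y⁆ ∈ K := by
    intro y hy t ht htK x hx
    refine (Subgroup.closure_induction (p := fun x _ => x ∈ B ∧ ⁅x, y⁆ ∈ K) (fun x hx => ⟨ht hx, htK x hx⟩)
      ⟨one_mem _, by rw [commutatorElement_one_left]; exact one_mem _⟩
      (fun a b _ _ ha hb => ⟨mul_mem ha.1 hb.1, ?_⟩) (fun a _ ha => ⟨inv_mem ha.1, ?_⟩) hx).2
    · rw [Cfsg.Agent.Transfer.ReplacementPieces.comm_mul_left, (hb.2.2.1 a ha.1).eq, mul_inv_cancel_right]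
      exact mul_mem hb.2 ha.2
    · have h0 := Cfsg.Agent.Transfer.ReplacementPieces.comm_mul_left a⁻¹ a y
      rw [inv_mul_cancel, commutatorElement_one_left, (ha.2.2.1 _ (inv_mem ha.1)).eq, mul_inv_cancel_right] at h0
      rw [show ⁅a⁻¹, y⁆ = (⁅a, y⁆)⁻¹ from eq_inv_of_mul_eq_one_right h0.symm]
      exact inv_mem ha.2
  have hcl : Subgroup.closure s ≤ B := (Subgroup.closure_le _).2 hs
  have h1 : ∀ y ∈ s, ∀ x ∈ Subgroup.closure s, ⁅x, y⁆ ∈ K := fun y hy => key y (hs hy) s hs fun x hx =>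
    ⟨mul_mem (mul_mem (mul_mem (hs hx) (hs hy)) (inv_mem (hs hx))) (inv_mem (hs hy)), (h x hx y hy).1, (sq _).trans (h x hx y hy).2⟩
  intro w hw
  refine ((Subgroup.commutator_le.2 fun x hx y hy => key y (hcl hy) s hs (fun g hg => ?_) x hx :
    ⁅Subgroup.closure s, Subgroup.closure s⁆ ≤ K) hw).2.2
  rw [← commutatorElement_inv]
  exact inv_mem (h1 g hg y hy)


/-- If A acts on B centralizing [B, B], then [B, A] has derived subgroup central in B, and for abelian A and b ∈ B with [[b, A], A, A] = 1 the derived subgroup of the subgroup [b, A] generated by the commutators of b with A has exponent dividing 2. -/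
theorem result {G : Type*} [Group G] [Finite G] (A B : Subgroup G) (hAB : A ≤ Subgroup.normalizer (B : Set G)) (hc : ⁅⁅B, B⁆, A⁆ = ⊥) : ⁅⁅B, A⁆, ⁅B, A⁆⁆ ≤ B ⊓ Subgroup.centralizer (B : Set G) ∧ (IsMulCommutative A → ∀ b ∈ B, ⁅⁅(Subgroup.closure {g : G | ∃ a ∈ A, g = b⁻¹ * a * b * a⁻¹}), A⁆, A⁆ = ⊥ → ∀ w ∈ ⁅(Subgroup.closure {g : G | ∃ a ∈ A, g = b⁻¹ * a * b * a⁻¹}), (Subgroup.closure {g : G | ∃ a ∈ A, g = b⁻¹ * a * b * a⁻¹})⁆, w ^ 2 = 1) := by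

  have hN : ∀ a ∈ A, ∀ x ∈ B, a * x * a⁻¹ ∈ B := fun a ha x hx => (Subgroup.mem_normalizer_iff.1 (hAB ha) x).1 hx
  have hcA : ∀ a ∈ A, ∀ x ∈ B, ∀ y ∈ B, Commute a ⁅x, y⁆ := fun a ha x hx y hy => by
    have h := Subgroup.commutator_mem_commutator (Subgroup.commutator_mem_commutator hx hy) ha
    rw [hc, Subgroup.mem_bot, commutatorElement_eq_one_iff_mul_comm] at h
    exact h.symm
  have hXB : ⁅B, A⁆ ≤ B := Subgroup.commutator_le.2 fun x hx a ha => by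
    rw [commutatorElement_def, mul_assoc x a, mul_assoc x]
    exact B.mul_mem hx (hN a ha _ (B.inv_mem hx))
  refine ⟨?_, fun hA b hb hw w hwm => ?_⟩
  · have hXC : ⁅B, A⁆ ≤ Subgroup.centralizer ((⁅B, B⁆ : Subgroup G) : Set G) := by
      have hC : A ≤ Subgroup.centralizer ((⁅B, B⁆ : Subgroup G) : Set G) := by
        rw [← Subgroup.commutator_eq_bot_iff_le_centralizer, Subgroup.commutator_comm]; exact hc
      refine Subgroup.commutator_le.2 fun x hx a ha => ?_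
      rw [commutatorElement_def]
      refine mul_mem (Subgroup.mem_centralizer_iff.2 fun z hz => ?_) (inv_mem (hC ha))
      have hz' : x⁻¹ * z * x ∈ ⁅B, B⁆ :=
        (Subgroup.mem_normalizer_iff''.1 ((Cfsg.Agent.Grp.invariant_iff (A := B) (X := ⁅B, B⁆)).mp (fun g hg c hc => (Subgroup.le_normalizer hg |> fun h => (Subgroup.map_commutator B B (MulAut.conj g).toMonoidHom).le.trans (Subgroup.commutator_mono (Subgroup.map_le_iff_le_comap.2 fun y hy => mul_mem (mul_mem hg hy) (inv_mem hg)) (Subgroup.map_le_iff_le_comap.2 fun y hy => mul_mem (mul_mem hg hy) (inv_mem hg))) ⟨c, hc, rfl⟩)) hx) z).1 hz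
      have h := Subgroup.mem_centralizer_iff.1 (hC ha) _ hz'
      calc z * (x * a * x⁻¹) = x * ((x⁻¹ * z * x) * a) * x⁻¹ := by group
        _ = x * a * x⁻¹ * z := by rw [h]; group
    have h0 : ⁅⁅B, B⁆, ⁅B, A⁆⁆ = ⊥ := by
      rw [Subgroup.commutator_comm]; exact Subgroup.commutator_eq_bot_iff_le_centralizer.2 hXC
    have h1 : ⁅⁅⁅B, A⁆, B⁆, ⁅B, A⁆⁆ = ⊥ :=
      le_bot_iff.1 (h0 ▸ Subgroup.commutator_mono (Subgroup.commutator_mono hXB le_rfl) le_rfl)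
    have h2 : ⁅⁅B, ⁅B, A⁆⁆, ⁅B, A⁆⁆ = ⊥ :=
      le_bot_iff.1 (h0 ▸ Subgroup.commutator_mono (Subgroup.commutator_mono le_rfl hXB) le_rfl)
    have h3 := Subgroup.commutator_commutator_eq_bot_of_rotate h1 h2
    exact le_inf ((Subgroup.commutator_mono hXB hXB).trans (Subgroup.commutator_le_self B))
      (Subgroup.commutator_eq_bot_iff_le_centralizer.1 h3)
  · have hAc : ∀ x ∈ A, ∀ y ∈ A, x * y = y * x := fun x hx y hy => congrArg Subtype.val (hA.is_comm.comm ⟨x, hx⟩ ⟨y, hy⟩)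
    set X := Subgroup.closure {g : G | ∃ a ∈ A, g = b⁻¹ * a * b * a⁻¹} with hX
    have hmem : ∀ a ∈ A, ⁅a, b⁻¹⁆ ∈ X := fun a ha => by
      rw [← commutatorElement_inv]
      refine inv_mem (Subgroup.subset_closure ⟨a, ha, ?_⟩)
      rw [commutatorElement_def]; group
    have hsq := Cfsg.Agent.Transfer.ReplacementPieces.sq_eq_one hAB hAc hcA (B.inv_mem hb) fun a ha a' ha' c hc' => by
      have h : ⁅a, ⁅a', b⁻¹⁆⁆ ∈ ⁅X, A⁆ := by
        rw [Subgroup.commutator_comm]; exact Subgroup.commutator_mem_commutator ha (hmem a' ha')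
      have h' := Subgroup.commutator_mem_commutator h hc'
      rw [hw, Subgroup.mem_bot, commutatorElement_eq_one_iff_mul_comm] at h'
      exact h'.symm
    refine gens_comm B ?_ ?_ w hwm
    · rintro g ⟨a, ha, rfl⟩
      rw [mul_assoc b⁻¹ a, mul_assoc b⁻¹]
      exact B.mul_mem (B.inv_mem hb) (hN a ha b hb)
    · rintro _ ⟨a, ha, rfl⟩ _ ⟨a', ha', rfl⟩
      obtain ⟨h1, h2⟩ := hsq a ha a' ha'
      have e : ∀ a : G, b⁻¹ * a * b * a⁻¹ = (⁅a, b⁻¹⁆)⁻¹ := fun a => by simp only [commutatorElement_def]; group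
      rw [e a, e a']
      have hdB : ∀ c ∈ A, ⁅c, b⁻¹⁆ ∈ B := fun c hc' => B.mul_mem (hN c hc' _ (B.inv_mem hb)) (B.inv_mem (B.inv_mem hb))
      have h3 : ⁅(⁅a, b⁻¹⁆)⁻¹, (⁅a', b⁻¹⁆)⁻¹⁆ = ⁅⁅a, b⁻¹⁆, ⁅a', b⁻¹⁆⁆ := by
        have hc2 := h1 _ (B.mul_mem (B.inv_mem (hdB a ha)) (B.inv_mem (hdB a' ha')))
        calc ⁅(⁅a, b⁻¹⁆)⁻¹, (⁅a', b⁻¹⁆)⁻¹⁆
            = ((⁅a, b⁻¹⁆)⁻¹ * (⁅a', b⁻¹⁆)⁻¹) * ⁅⁅a, b⁻¹⁆, ⁅a', b⁻¹⁆⁆ * ((⁅a, b⁻¹⁆)⁻¹ * (⁅a', b⁻¹⁆)⁻¹)⁻¹ := by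
              simp only [commutatorElement_def]; group
          _ = _ := by rw [hc2.eq, mul_inv_cancel_right]
      rw [h3]
      exact ⟨h1, h2⟩

end Cfsg.Agent.S0648
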