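import Cfsg.Statements.S0649
import Mathlib

set_option maxHeartbeats 1000000
set_option maxRecDepth 8000

set_option autoImplicit false
open Cfsg

namespace Cfsg.Agent.S0649

/-- In the Glauberman replacement situation, if B does not normalize A then some element of B normalizes N_S(A) without normalizing A. -/
theorem result {S : Type*} [Group S] [Finite S] {p : ℕ} [Fact p.Prime] (hS : IsPGroup p S) (B : Subgroup S) [B.Normal] (hB2 : p = 2 → IsMulCommutative B) (A : Subgroup S) (hA : IsMulCommutative A) (hBA : ⁅B, B⁆ ≤ A) (hnot : ¬ B ≤ Subgroup.normalizer (A : Set S)) : ∃ b ∈ B, b ∈ Subgroup.normalizer ((Subgroup.normalizer (A : Set S)) : Set S) ∧ b ∉ Subgroup.normalizer (A : Set S) := by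
  set N := Subgroup.normalizer (A : Set S) with hN
  haveI : Group.IsNilpotent S := hS.isNilpotent
  set K := B ⊔ N with hK
  have hlt : N.subgroupOf K < ⊤ := by
    refine lt_top_iff_ne_top.2 fun h => hnot ?_
    exact le_sup_left.trans (Subgroup.subgroupOf_eq_top.1 h)
  haveI : Group.IsNilpotent K := (hS.to_subgroup K).isNilpotent
  obtain ⟨y, hy, hyN⟩ := SetLike.exists_of_lt (Group.normalizerCondition_of_isNilpotent _ hlt)
  have hy' : (y : S) ∈ (↑(B ⊔ N) : Set S) := y.2
  rw [Subgroup.normal_mul] at hy'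
  obtain ⟨b, hb, n, hn, hbn⟩ := hy'
  have hyn : (y : S) ∈ Subgroup.normalizer (N : Set S) := by
    refine Subgroup.mem_normalizer_iff.2 fun m => ⟨fun hm => ?_, fun hm => ?_⟩
    · exact (Subgroup.mem_normalizer_iff.1 hy ⟨m, Subgroup.mem_sup_right hm⟩).1 hm
    · have hmK : m ∈ K := by
        have : (y : S)⁻¹ * ((y : S) * m * (y : S)⁻¹) * y ∈ K :=
          mul_mem (mul_mem (inv_mem y.2) (Subgroup.mem_sup_right hm)) y.2
        simpa [mul_assoc] using this
      exact (Subgroup.mem_normalizer_iff.1 hy ⟨m, hmK⟩).2 hm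
  refine ⟨b, hb, ?_, fun hbN => hyN ?_⟩
  · rw [show b = (y : S) * n⁻¹ by rw [← hbn]; exact (mul_inv_cancel_right b n).symm]
    exact mul_mem hyn (Subgroup.le_normalizer (inv_mem hn))
  · show (y : S) ∈ N
    rw [← hbn]
    exact mul_mem hbN hn

end Cfsg.Agent.S0649
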