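import Cfsg.Statements.S0650
import Mathlib
import Cfsg.Agent.Lib.Transfer.ReplacementPieces
import Cfsg.Agent.Lib.Fus.GlaubermanReplacement
import Cfsg.Agent.Lib.Grp.GaschutzYen
import Cfsg.Agent.Lib.Grp.Signalizer
import Cfsg.Agent.Lib.Grp.Coprime

set_option maxHeartbeats 1000000
set_option maxRecDepth 8000

set_option autoImplicit false
open Cfsg
open scoped commutatorElement Pointwise

namespace Cfsg.Agent.S0650

/-- The Glauberman replacement Theorem: from an abelian A ⊇ [B, B] not normalized by the normal subgroup B and a suitable b ∈ B one gets the abelian subgroup A* = (A ∩ b⁻¹Ab)[A, b] of the same order, containing [B, B], meeting B strictly more than A does but not containing B, mutually normalizing with A, with strictly larger normalizer containing b, and (p odd) of no larger exponent. -/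
theorem result {S : Type*} [Group S] [Finite S] {p : ℕ} [Fact p.Prime] (hS : IsPGroup p S) (B : Subgroup S) [B.Normal] (hB2 : p = 2 → IsMulCommutative B) (A : Subgroup S) (hA : IsMulCommutative A) (hBA : ⁅B, B⁆ ≤ A) (hnot : ¬ B ≤ Subgroup.normalizer (A : Set S)) (b : S) (hb : b ∈ B) (hbN : b ∈ Subgroup.normalizer ((Subgroup.normalizer (A : Set S)) : Set S)) (hbA : b ∉ Subgroup.normalizer (A : Set S)) : Nat.card ↥((A ⊓ A.map (MulAut.conj (b⁻¹)).toMonoidHom) ⊔ Subgroup.closure {g : S | ∃ a ∈ A, g = a * b⁻¹ * a⁻¹ * b}) = Nat.card A ∧ IsMulCommutative ↥((A ⊓ A.map (MulAut.conj (b⁻¹)).toMonoidHom) ⊔ Subgroup.closure {g : S | ∃ a ∈ A, g = a * b⁻¹ * a⁻¹ * b}) ∧ ⁅B, B⁆ ≤ ((A ⊓ A.map (MulAut.conj (b⁻¹)).toMonoidHom) ⊔ Subgroup.closure {g : S | ∃ a ∈ A, g = a * b⁻¹ * a⁻¹ * b}) ∧ A ⊓ B < ((A ⊓ A.map (MulAut.conj (b⁻¹)).toMonoidHom) ⊔ Subgroup.closure {g : S | ∃ a ∈ A, g = a * b⁻¹ * a⁻¹ * b})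 ⊓ B ∧ ((A ⊓ A.map (MulAut.conj (b⁻¹)).toMonoidHom) ⊔ Subgroup.closure {g : S | ∃ a ∈ A, g = a * b⁻¹ * a⁻¹ * b}) ⊓ B < B ∧ A ≤ Subgroup.normalizer (((A ⊓ A.map (MulAut.conj (b⁻¹)).toMonoidHom) ⊔ Subgroup.closure {g : S | ∃ a ∈ A, g = a * b⁻¹ * a⁻¹ * b} : Subgroup S) : Set S) ∧ ((A ⊓ A.map (MulAut.conj (b⁻¹)).toMonoidHom) ⊔ Subgroup.closure {g : S | ∃ a ∈ A, g = a * b⁻¹ * a⁻¹ * b}) ≤ Subgroup.normalizer (A : Set S) ∧ b ∈ Subgroup.normalizer (((A ⊓ A.map (MulAut.conj (b⁻¹)).toMonoidHom) ⊔ Subgroup.closure {g : S | ∃ a ∈ A, g = a * b⁻¹ * a⁻¹ * b} : Subgroup S) : Set S) ∧ Subgroup.normalizer (A : Set S) < Subgroup.normalizer (((A ⊓ A.map (MulAut.conj (b⁻¹)).toMonoidHom) ⊔ Subgroup.closure {g : S | ∃ a ∈ A, g = a * b⁻¹ * a⁻¹ * b} : Subgroup S) : Set S) ∧ (p ≠ 2 → Monoid.exponent ↥((A ⊓ A.map (MulAut.conj (b⁻¹)).toMonoidHom) ⊔ Subgroup.closure {g : S | ∃ a ∈ A, g = a * b⁻¹ * a⁻¹ * b}) ∣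 Monoid.exponent A) := by
  have hAc : ∀ x ∈ A, ∀ y ∈ A, x * y = y * x := fun x hx y hy => congrArg Subtype.val (hA.is_comm.comm ⟨x, hx⟩ ⟨y, hy⟩)
  have hBn : ∀ g : S, ∀ x ∈ B, g * x * g⁻¹ ∈ B := fun g x hx => Subgroup.Normal.conj_mem inferInstance x hx g
  set N := Subgroup.normalizer (A : Set S) with hN
  set A' := A.map (MulAut.conj b⁻¹).toMonoidHom with hA'
  have hmemA' : ∀ x, x ∈ A' ↔ b * x * b⁻¹ ∈ A := fun x => by
    refine ⟨?_, fun h => ⟨_, h, by simp [mul_assoc]⟩⟩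
    rintro ⟨a, ha, rfl⟩
    simpa [mul_assoc] using ha
  have hA'N : A' ≤ N := by
    rintro _ ⟨a, ha, rfl⟩
    exact Cfsg.Agent.Grp.mem_conj_normalizer ((Subgroup.normalizer (N : Set S)).inv_mem hbN) (Subgroup.le_normalizer ha)
  have hNA' : N ≤ Subgroup.normalizer (A' : Set S) := (Cfsg.Agent.Grp.invariant_iff).mp fun n hn x hx => by
    rw [hmemA'] at hx ⊢
    have := Cfsg.Agent.Grp.mem_conj_normalizer (Cfsg.Agent.Grp.mem_conj_normalizer hbN hn) hx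
    rwa [show b * (n * x * n⁻¹) * b⁻¹ = (b * n * b⁻¹) * (b * x * b⁻¹) * (b * n * b⁻¹)⁻¹ by group]
  have hBBA : ∀ x ∈ B, ∀ y ∈ B, ⁅x, y⁆ ∈ A := fun x hx y hy => hBA (Subgroup.commutator_mem_commutator hx hy)
  have hbZ : ∀ y : S, y ∈ B → ∀ x ∈ A, x ∈ B → y * x * y⁻¹ ∈ A := fun y hy x hx hxB => by
    have := A.mul_mem (hBBA y hy x hxB) hx
    rwa [commutatorElement_def, inv_mul_cancel_right] at this
  -- `b` normalizes `Z = A ⊓ A'`
  set Z := A ⊓ A' with hZ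
  have hWZ : ∀ x ∈ A, x ∈ B → x ∈ Z := fun x hx hxB => ⟨hx, (hmemA' x).2 (hbZ b hb x hx hxB)⟩
  have hbb : ∀ z ∈ A, (b * z * b⁻¹ ∈ A ↔ b⁻¹ * z * b ∈ A) := by
    have key : ∀ y ∈ B, ∀ z ∈ A, y * z * y⁻¹ ∈ A → y⁻¹ * z * y ∈ A := fun y hy z hz h => by
      have h1 : y * z * y⁻¹ * z⁻¹ ∈ A := A.mul_mem h (A.inv_mem hz)
      have h2 : y * z * y⁻¹ * z⁻¹ ∈ B := by
        rw [mul_assoc y, mul_assoc y]; exact B.mul_mem hy (hBn z _ (B.inv_mem hy))
      have h3 := hbZ y⁻¹ (B.inv_mem hy) _ h1 h2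
      have h4 := A.mul_mem (A.inv_mem h3) hz
      convert h4 using 1
      group
    exact fun z hz => ⟨key b hb z hz, fun h => by simpa using key b⁻¹ (B.inv_mem hb) z hz (by simpa using h)⟩
  have hbZn : ∀ z ∈ Z, b * z * b⁻¹ ∈ Z ∧ b⁻¹ * z * b ∈ Z := by
    intro z hz
    have h1 := (hmemA' z).1 hz.2
    have h2 := (hbb z hz.1).1 h1
    refine ⟨⟨h1, (hmemA' _).2 ?_⟩, h2, (hmemA' _).2 (by simpa [mul_assoc] using hz.1)⟩
    exact (hbb _ h1).2 (by simpa [mul_assoc] using hz.1)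
  have hBBZ : ∀ x ∈ B, ∀ y ∈ B, ⁅x, y⁆ ∈ Z := fun x hx y hy => hWZ _ (hBBA x hx y hy)
    (B.mul_mem (B.mul_mem (B.mul_mem hx hy) (B.inv_mem hx)) (B.inv_mem hy))
  -- the translates
  let d : S → S := fun a => ⁅a, b⁻¹⁆
  have hd : ∀ a, d a = a * (b⁻¹ * a⁻¹ * b) := fun a => by simp only [d, commutatorElement_def]; group
  have hdA' : ∀ a ∈ A, b⁻¹ * a⁻¹ * b ∈ A' := fun a ha => (hmemA' _).2 (by simpa [mul_assoc] using ha)
  have hdN : ∀ a ∈ A, d a ∈ N := fun a ha => hd a ▸ mul_mem (Subgroup.le_normalizer ha) (hA'N (hdA' a ha))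
  have hdB : ∀ a, d a ∈ B := fun a => by
    simp only [d, commutatorElement_def]
    exact B.mul_mem (hBn a _ (B.inv_mem hb)) (B.inv_mem (B.inv_mem hb))
  -- `Z` is central in `⟨A, A'⟩`
  have hA'c : ∀ x ∈ A', ∀ y ∈ A', x * y = y * x := by
    rintro _ ⟨x, hx, rfl⟩ _ ⟨y, hy, rfl⟩
    rw [← map_mul, ← map_mul, hAc x hx y hy]
  have hZd : ∀ z ∈ Z, ∀ a ∈ A, Commute z (d a) := fun z hz a ha =>
    (hd a).symm ▸ Commute.mul_right (hAc z hz.1 a ha) (hA'c z hz.2 _ (hdA' a ha))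
  have hw : ∀ a ∈ A, ∀ a' ∈ A, ⁅a, d a'⁆ ∈ Z := fun a ha a' ha' => by
    have h1 : ⁅a, d a'⁆ ∈ A := by
      rw [commutatorElement_def, mul_assoc a, mul_assoc a]
      exact A.mul_mem ha (Cfsg.Agent.Grp.mem_conj_normalizer (hdN a' ha') (A.inv_mem ha))
    exact hWZ _ h1 (by rw [commutatorElement_def]; exact B.mul_mem (hBn a _ (hdB a')) (B.inv_mem (hdB a')))
  have hdd : ∀ a ∈ A, ∀ a' ∈ A, Commute (d a) (d a') := by
    intro a ha a' ha'
    by_cases hp : p = 2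
    · exact congrArg Subtype.val ((hB2 hp).is_comm.comm ⟨_, hdB a⟩ ⟨_, hdB a'⟩)
    · obtain ⟨-, hsq⟩ := Cfsg.Agent.Transfer.ReplacementPieces.sq_eq_one (A := A) (B := B)
        (fun a _ => Subgroup.mem_normalizer_iff.2 fun x => ⟨hBn a x, fun h => by simpa [mul_assoc] using hBn a⁻¹ _ h⟩)
        hAc (fun c hc x hx y hy => hAc c hc _ (hBBA x hx y hy)) (B.inv_mem hb)
        (fun a ha a' ha' c hc => hAc c hc _ (hw a ha a' ha').1) a ha a' ha'
      have h := Cfsg.Agent.Fus.eq_one_of_sq_eq_one hp (hS.to_subgroup ⊤) (Subgroup.mem_top _) hsq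
      exact commutatorElement_eq_one_iff_mul_comm.1 h
  have hprod : ∀ a ∈ A, ∀ a' ∈ A, d (a * a') = ⁅a, d a'⁆ * (d a' * d a) := fun a _ a' _ => by
    simp only [d, commutatorElement_def]; group
  have hconj : ∀ a ∈ A, ∀ a' ∈ A, a * d a' * a⁻¹ = ⁅a, d a'⁆ * d a' := fun a _ a' _ => by
    rw [commutatorElement_def]; group
  set T := Z ⊔ Subgroup.closure {g : S | ∃ a ∈ A, g = a * b⁻¹ * a⁻¹ * b} with hT
  have hgen : {g : S | ∃ a ∈ A, g = a * b⁻¹ * a⁻¹ * b} = {g : S | ∃ a ∈ A, g = d a} := by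
    ext g; simp only [Set.mem_ofPred_eq, hd, mul_assoc]
  -- shape of the elements
  let P : Subgroup S :=
    { carrier := {x | ∃ z ∈ Z, ∃ a ∈ A, x = z * d a}
      one_mem' := ⟨1, one_mem _, 1, one_mem _, by simp [d]⟩
      mul_mem' := by
        rintro _ _ ⟨z, hz, a, ha, rfl⟩ ⟨z', hz', a', ha', rfl⟩
        refine ⟨z * z' * (⁅a, d a'⁆)⁻¹, Z.mul_mem (Z.mul_mem hz hz') (Z.inv_mem (hw a ha a' ha')), a * a', A.mul_mem ha ha', ?_⟩
        rw [hprod a ha a' ha', mul_assoc (z * z'), inv_mul_cancel_left, ← (hdd a ha a' ha').eq]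
        calc z * d a * (z' * d a') = z * (d a * z') * d a' := by group
          _ = z * z' * (d a * d a') := by rw [← (hZd z' hz' a ha).eq]; group
      inv_mem' := by
        rintro _ ⟨z, hz, a, ha, rfl⟩
        have h1 : ⁅a⁻¹, d a⁆ * (d a * d a⁻¹) = 1 := by
          rw [← hprod a⁻¹ (A.inv_mem ha) a ha, inv_mul_cancel]; simp [d]
        refine ⟨z⁻¹ * ⁅a⁻¹, d a⁆, Z.mul_mem (Z.inv_mem hz) (hw _ (A.inv_mem ha) a ha), a⁻¹, A.inv_mem ha, ?_⟩
        have hc := hZd _ (hw _ (A.inv_mem ha) a ha) a ha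
        rw [← mul_assoc, hc.eq] at h1
        calc (z * d a)⁻¹ = (d a)⁻¹ * z⁻¹ := mul_inv_rev _ _
          _ = z⁻¹ * (d a)⁻¹ := ((hZd z⁻¹ (Z.inv_mem hz) a ha).inv_right).eq.symm
          _ = z⁻¹ * (⁅a⁻¹, d a⁆ * d a⁻¹) := by rw [inv_eq_of_mul_eq_one_right (a := d a) (b := ⁅a⁻¹, d a⁆ * d a⁻¹) (by rw [← mul_assoc]; exact h1)]
          _ = z⁻¹ * ⁅a⁻¹, d a⁆ * d a⁻¹ := (mul_assoc _ _ _).symm }
  have hZT : Z ≤ T := le_sup_left
  have hdT : ∀ a ∈ A, d a ∈ T := fun a ha =>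
    Subgroup.mem_sup_right (Subgroup.subset_closure (hgen ▸ ⟨a, ha, rfl⟩))
  have hTP : ∀ x ∈ T, ∃ z ∈ Z, ∃ a ∈ A, x = z * d a := by
    have : T ≤ P := by
      refine sup_le (fun z hz => ⟨z, hz, 1, one_mem _, by simp [d]⟩) ((Subgroup.closure_le P).2 ?_)
      rw [hgen]
      rintro _ ⟨a, ha, rfl⟩
      exact ⟨1, one_mem _, a, ha, (one_mul _).symm⟩
    exact fun x hx => this hx
  have hTc : ∀ x ∈ T, ∀ y ∈ T, Commute x y := by
    intro x hx y hy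
    obtain ⟨z, hz, a, ha, rfl⟩ := hTP x hx
    obtain ⟨z', hz', a', ha', rfl⟩ := hTP y hy
    exact (Commute.mul_right (hAc z hz.1 z' hz'.1) (hZd z hz a' ha')).mul_left
      ((hZd z' hz' a ha).symm.mul_right (hdd a ha a' ha'))
  have hTN : T ≤ N := fun x hx => by
    obtain ⟨z, hz, a, ha, rfl⟩ := hTP x hx
    exact mul_mem (Subgroup.le_normalizer hz.1) (hdN a ha)
  have inv : ∀ g : S, (∀ z ∈ Z, g * z * g⁻¹ ∈ Z) → (∀ a ∈ A, g * d a * g⁻¹ ∈ T) →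
      ∀ x ∈ T, g * x * g⁻¹ ∈ T := fun g hg hg' x hx => by
    obtain ⟨z, hz, a, ha, rfl⟩ := hTP x hx
    rw [show g * (z * d a) * g⁻¹ = (g * z * g⁻¹) * (g * d a * g⁻¹) by group]
    exact mul_mem (hZT (hg z hz)) (hg' a ha)
  have hAT : A ≤ Subgroup.normalizer (T : Set S) := Cfsg.Agent.Grp.invariant_iff.mp fun a ha => inv a
    (fun z hz => by rw [hAc a ha z hz.1, mul_inv_cancel_right]; exact hz)
    (fun a' ha' => by rw [hconj a ha a' ha']; exact mul_mem (hZT (hw a ha a' ha')) (hdT a' ha'))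
  have hbT : b ∈ Subgroup.normalizer (T : Set S) := by
    have key : ∀ y : S, y ∈ B → (∀ z ∈ Z, y * z * y⁻¹ ∈ Z) → ∀ x ∈ T, y * x * y⁻¹ ∈ T := fun y hy hyZ => inv y hyZ fun a ha => by
      have h := mul_mem (hZT (hBBZ y hy _ (hdB a))) (hdT a ha)
      rwa [commutatorElement_def, inv_mul_cancel_right] at h
    refine Subgroup.mem_normalizer_iff.2 fun x => ⟨key b hb (fun z hz => (hbZn z hz).1) x, fun h => ?_⟩
    simpa [mul_assoc] using key b⁻¹ (B.inv_mem hb) (fun z hz => by simpa using (hbZn z hz).2) _ h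
  have hNT : N ≤ Subgroup.normalizer (T : Set S) := Cfsg.Agent.Grp.invariant_iff.mp fun n hn => inv n
    (fun z hz => ⟨Cfsg.Agent.Grp.mem_conj_normalizer hn hz.1, Cfsg.Agent.Grp.mem_conj_normalizer (hNA' hn) hz.2⟩)
    (fun a ha => by
      set n' := b * n * b⁻¹ with hn'
      have hn'N : n' ∈ N := Cfsg.Agent.Grp.mem_conj_normalizer hbN hn
      set a₂ := n' * a * n'⁻¹ with ha₂
      have ha₂A : a₂ ∈ A := Cfsg.Agent.Grp.mem_conj_normalizer hn'N ha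
      set x := n' * n⁻¹ with hx
      have hxB : x ∈ B := by
        rw [hx, hn', mul_assoc b n, mul_assoc b]; exact B.mul_mem hb (hBn n _ (B.inv_mem hb))
      have hxN : x ∈ N := mul_mem hn'N (inv_mem hn)
      set a₁ := n * a * n⁻¹ with ha₁
      have ha₁A : a₁ ∈ A := Cfsg.Agent.Grp.mem_conj_normalizer hn ha
      have hz : a₁ * a₂⁻¹ ∈ Z := by
        have e : a₂ = x * a₁ * x⁻¹ := by rw [ha₂, hx, ha₁]; group
        refine hWZ _ (A.mul_mem ha₁A (A.inv_mem ha₂A)) ?_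
        rw [e, show a₁ * (x * a₁ * x⁻¹)⁻¹ = (a₁ * x * a₁⁻¹) * x⁻¹ by group]
        exact B.mul_mem (hBn _ x hxB) (B.inv_mem hxB)
      have : n * d a * n⁻¹ = (a₁ * a₂⁻¹) * d a₂ := by
        rw [hd, hd, ha₁, ha₂, hn']; group
      rw [this]
      exact mul_mem (hZT hz) (hdT a₂ ha₂A))
  have hWlt : A ⊓ B < T ⊓ B := by
    refine lt_of_le_of_ne (fun x hx => ⟨hZT (hWZ x hx.1 hx.2), hx.2⟩) fun e => hbA ?_
    have h : ∀ a ∈ A, b⁻¹ * a * b ∈ A := fun a ha => by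
      have h1 : d a⁻¹ ∈ A ⊓ B := e ▸ ⟨hdT _ (A.inv_mem ha), hdB _⟩
      have h2 := A.mul_mem ha h1.1
      rw [hd, inv_inv, mul_inv_cancel_left] at h2
      exact h2
    exact Subgroup.mem_normalizer_iff.2 fun a => ⟨fun ha => (hbb a ha).2 (h a ha), fun ha => by simpa [mul_assoc] using h _ ha⟩
  have hcard : Nat.card T = Nat.card A := by
    have hinf : T ⊓ A = Z := by
      refine le_antisymm (fun x hx => ?_) (le_inf hZT inf_le_left)
      obtain ⟨z, hz, a, ha, rfl⟩ := hTP x hx.1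
      have h1 : d a ∈ A := (A.mul_mem_cancel_left hz.1).1 hx.2
      exact Z.mul_mem hz (hWZ _ h1 (hdB a))
    have hsup : T ⊔ A = A' ⊔ A := by
      refine le_antisymm (sup_le (fun x hx => ?_) le_sup_right) (sup_le (fun u hu => ?_) le_sup_right)
      · obtain ⟨z, hz, a, ha, rfl⟩ := hTP x hx
        rw [hd]
        exact mul_mem (Subgroup.mem_sup_right hz.1) (mul_mem (Subgroup.mem_sup_right ha) (Subgroup.mem_sup_left (hdA' a ha)))
      · have ha := (hmemA' u).1 hu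
        have : u = (b * u * b⁻¹) * d (b * u * b⁻¹)⁻¹ := by rw [hd]; group
        rw [this]
        exact mul_mem (Subgroup.mem_sup_right ha) (Subgroup.mem_sup_left (hdT _ (A.inv_mem ha)))
    have h1 := Cfsg.Agent.Grp.card_sup_mul_card_inf (H := T) (N := A) hTN
    have h2 := Cfsg.Agent.Grp.card_sup_mul_card_inf (H := A') (N := A) hA'N
    rw [hinf, hsup] at h1
    rw [inf_comm, ← hZ, Subgroup.card_map_of_injective (MulAut.conj b⁻¹).injective] at h2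
    exact Nat.eq_of_mul_eq_mul_right Nat.card_pos (h1.symm.trans h2)
  refine ⟨hcard, ⟨⟨fun x y => Subtype.ext (hTc x x.2 y y.2)⟩⟩, fun x hx => hZT ?_, hWlt, ?_, hAT, hTN, hbT, ?_, fun hp => ?_⟩
  · exact (Subgroup.commutator_le.2 hBBZ : ⁅B, B⁆ ≤ Z) hx
  · refine lt_of_le_of_ne inf_le_right fun e => hbA (hTN ?_)
    exact (e.symm ▸ hb : b ∈ T ⊓ B).1
  · exact lt_of_le_of_ne hNT fun e => hbA (by rw [e]; exact hbT)
  · refine Monoid.exponent_dvd_of_forall_pow_eq_one fun x => Subtype.ext ?_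
    set n := Monoid.exponent A with hn
    have hodd : n % 2 = 1 := by
      have hpodd := (Fact.out : p.Prime).odd_of_ne_two hp
      obtain ⟨k, hk⟩ := IsPGroup.iff_card.1 (hS.to_subgroup A)
      obtain ⟨j, -, hj⟩ := (Nat.dvd_prime_pow (Fact.out : p.Prime)).1 (hk ▸ Group.exponent_dvd_nat_card (G := A))
      rw [hn, hj]
      exact Nat.odd_iff.1 hpodd.pow
    have hAn : ∀ a ∈ A, a ^ n = 1 := fun a ha => congrArg Subtype.val (Monoid.pow_exponent_eq_one (⟨a, ha⟩ : A))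
    obtain ⟨z, hz, a, ha, hx⟩ := hTP x x.2
    show (x : S) ^ n = 1
    rw [hx, (hZd z hz a ha).mul_pow, hAn z hz.1, one_mul, hd]
    set u := b⁻¹ * a⁻¹ * b with hu
    set c := u * a * u⁻¹ * a⁻¹ with hc
    have hcA : c ∈ A := A.mul_mem (Cfsg.Agent.Grp.mem_conj_normalizer (hA'N (hdA' a ha)) ha) (A.inv_mem ha)
    have hcA' : c ∈ A' := by
      rw [hc, mul_assoc u a, mul_assoc u]
      exact A'.mul_mem (hdA' a ha) (Cfsg.Agent.Grp.mem_conj_normalizer (hNA' (Subgroup.le_normalizer ha)) (A'.inv_mem (hdA' a ha)))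
    have hpow := Cfsg.Agent.Grp.mul_pow_class_two (x := a) (y := u) (c := c) (by rw [hc]; group)
      (hAc c hcA a ha) (hA'c c hcA' u (hdA' a ha)) n
    have hch : n ∣ n.choose 2 := by
      rw [Nat.choose_two_right, Nat.mul_div_assoc _ (by omega : 2 ∣ n - 1)]
      exact dvd_mul_right _ _
    obtain ⟨m, hm⟩ := hch
    have hun : u ^ n = 1 := by
      rw [hu, show b⁻¹ * a⁻¹ * b = b⁻¹ * a⁻¹ * b⁻¹⁻¹ by rw [inv_inv], conj_pow (a := b⁻¹) (b := a⁻¹), inv_pow, hAn a ha, inv_one, mul_one, inv_inv, inv_mul_cancel]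
    rw [hpow, hm, pow_mul, hAn c hcA, one_pow, hAn a ha, hun, one_mul, one_mul]

end Cfsg.Agent.S0650
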