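import Cfsg.Statements.S0652
import Cfsg.Agent.Lib.Transfer.ReplacementProperty

set_option maxHeartbeats 1000000
set_option maxRecDepth 8000

set_option autoImplicit false
open Cfsg

namespace Cfsg.Agent.S0652

/-- For odd p and D normal in the p-group S, the elementary abelian subgroups of D of largest order satisfy the replacement property for class-2 normal subgroups of S. -/
theorem result {S : Type*} [Group S] [Finite S] {p : ℕ} [Fact p.Prime] (hS : IsPGroup p S) (hp : p ≠ 2) (D : Subgroup S) [D.Normal] : ∀ (B : Subgroup S) [B.Normal], ⁅⁅B, B⁆, B⁆ = ⊥ → (∃ U ∈ (Set.image (fun A : Subgroup ↥D => A.map D.subtype) (Cfsg.maxElementaryAbelianSubgroups p ↥D)), ⁅B, B⁆ ≤ U ∧ ¬ B ≤ U) → ∃ A ∈ (Set.image (fun A : Subgroup ↥D => A.map D.subtype) (Cfsg.maxElementaryAbelianSubgroups p ↥D)), ⁅B, B⁆ ≤ A ∧ ¬ B ≤ A ∧ B ≤ Subgroup.normalizer (A : Set S) := by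
  intro B _ hB hex
  refine Cfsg.Agent.Transfer.ReplacementProperty.exists_normalized hS hp D B hB _ ?_ ?_ hex
  · rintro _ ⟨A₀, hA₀, rfl⟩
    refine ⟨Subgroup.map_subtype_le A₀, ?_⟩
    rintro _ ⟨x, hx, rfl⟩ _ ⟨y, hy, rfl⟩
    haveI := hA₀.1.1
    exact congrArg (fun t : A₀ => ((t : D) : S)) (mul_comm' (⟨x, hx⟩ : A₀) ⟨y, hy⟩)
  · rintro _ ⟨A₀, hA₀, rfl⟩ A' hle hc hcard hexp
    have hodd : p % 2 = 1 := ((Fact.out : p.Prime).eq_two_or_odd).resolve_left hp
    refine ⟨A'.subgroupOf D, ⟨⟨⟨⟨fun x y => Subtype.ext (Subtype.ext (hc _ x.2 _ y.2))⟩⟩, fun x hx => Subtype.ext ?_⟩,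
      fun C hC => ?_⟩, Subgroup.map_subgroupOf_eq_of_le hle⟩
    · refine hexp p hodd ?_ _ hx
      rintro _ ⟨a, ha, rfl⟩
      exact congrArg Subtype.val (hA₀.1.2 a ha)
    rw [Nat.card_congr (Subgroup.subgroupOfEquivOfLe hle).toEquiv, hcard,
      Subgroup.card_map_of_injective D.subtype_injective]
    exact hA₀.2 C hC

end Cfsg.Agent.S0652
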