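import Cfsg.Statements.S0654
import Cfsg.Agent.Lib.Transfer.OmegaCenterThompson
import Cfsg.Agent.Lib.Invol.ZJFunctor
import Mathlib

set_option maxHeartbeats 1000000
set_option maxRecDepth 8000

set_option autoImplicit false
open Cfsg

namespace Cfsg.Agent.S0654

/-- The ZJ-Theorem for the elementary-abelian Thompson subgroup: for an odd prime p, a finite group G with C_G(O_p(G)) ≤ O_p(G) acting p-stably on its normal p-subgroups, and a Sylow p-subgroup S of G, the subgroup generated by the elements of order dividing p in Z(J_e(S)) is characteristic in G. -/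
theorem result {G : Type*} [Group G] [Finite G] {p : ℕ} [Fact p.Prime] (hp : p ≠ 2) (hc : Subgroup.centralizer (Cfsg.pCore p G : Set G) ≤ Cfsg.pCore p G) (hst : ∀ (P : Subgroup G) [P.Normal], IsPGroup p P → Cfsg.IsPStableOn p P) (S : Sylow p G) : ((Cfsg.omegaCenterThompson p ↥(S : Subgroup G)).map (S : Subgroup G).subtype).Characteristic := by
  classical
  rw [Transfer.omegaCenterThompson_map_subtype]
  have hSC : ∀ T : Sylow p G, Cfsg.IsStronglyClosed (T : Subgroup G) (T : Subgroup G) := fun T =>
    ⟨le_rfl, fun _ _ _ h => h⟩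
  have hn := Invol.centerOmega_normal hp hc hst S (hSC S)
  rw [Subgroup.characteristic_iff_map_le]
  intro φ
  set P : Sylow p G := S.mapSurjective (f := φ.toMonoidHom) φ.surjective with hP
  obtain ⟨g, hg⟩ := MulAction.exists_smul_eq G S P
  have h1 : (Invol.centerOmega p (S : Subgroup G)).map φ.toMonoidHom = Invol.centerOmega p (P : Subgroup G) := by
    show _ = Invol.centerOmega p ((S : Subgroup G).map φ.toMonoidHom)
    exact (Invol.isZJFunctor_centerOmega (p := p)).map φ.toMonoidHom (S : Subgroup G)
      (fun x _ hx => φ.injective (hx.trans (map_one φ).symm))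
  have h2 : Invol.centerOmega p (P : Subgroup G) =
      (Invol.centerOmega p (S : Subgroup G)).map (MulAut.conj g).toMonoidHom := by
    rw [← hg, Sylow.coe_subgroup_smul]
    exact ((Invol.isZJFunctor_centerOmega (p := p)).map (MulAut.conj g).toMonoidHom (S : Subgroup G)
      (fun x _ hx => (MulAut.conj g).injective (hx.trans (map_one _).symm))).symm
  rw [h1, h2]
  rintro _ ⟨x, hx, rfl⟩
  exact hn.conj_mem x hx g

end Cfsg.Agent.S0654
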