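import Cfsg.Statements.S0655
import Cfsg.Agent.Lib.Transfer.Thompson

set_option maxHeartbeats 1000000
set_option maxRecDepth 8000

set_option autoImplicit false
open Cfsg

namespace Cfsg.Agent.S0655

/-- In a p-group the intersection of all elementary abelian subgroups of largest order is the subgroup generated by the elements of order dividing p in the centre (equivalently the centralizer) of the elementary-version Thompson subgroup. -/
theorem result {S : Type*} [Group S] [Finite S] {p : ℕ} [Fact p.Prime] (hS : IsPGroup p S) : sInf (Cfsg.maxElementaryAbelianSubgroups p S) = Cfsg.omegaCenterThompson p S ∧ Cfsg.omegaCenterThompson p S = Cfsg.omegaOne p (Subgroup.centralizer (Cfsg.thompsonSubgroup p S : Set S)) := by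
  have hp := hS
  have h1 : omegaCenterThompson p S ≤ omegaOne p (Subgroup.centralizer (thompsonSubgroup p S : Set S)) :=
    Subgroup.closure_mono fun x hx => ⟨hx.1.2, hx.2⟩
  have h2 : omegaOne p (Subgroup.centralizer (thompsonSubgroup p S : Set S)) ≤
      sInf (maxElementaryAbelianSubgroups p S) :=
    (Subgroup.closure_le _).mpr fun x hx => Transfer.Thompson.mem_sInf_of_centralizes hx.2 hx.1
  have h3 : sInf (maxElementaryAbelianSubgroups p S) ≤ omegaCenterThompson p S := by
    obtain ⟨A₀, hA₀⟩ := Transfer.Thompson.exists_max (p := p) (G := S)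
    intro x hx
    have hx' := Subgroup.mem_sInf.mp hx
    refine Subgroup.subset_closure ⟨⟨Transfer.Thompson.le_thompsonSubgroup hA₀ (hx' A₀ hA₀), ?_⟩,
      hA₀.1.2 x (hx' A₀ hA₀)⟩
    have hle : thompsonSubgroup p S ≤ Subgroup.centralizer {x} := sSup_le fun A hA a ha =>
      Subgroup.mem_centralizer_iff.mpr fun y hy => by
        rw [Set.mem_singleton_iff.mp hy]
        exact Transfer.Thompson.comm_of hA.1 (hx' A hA) ha
    refine Subgroup.mem_centralizer_iff.mpr fun a ha => ?_
    exact (Subgroup.mem_centralizer_iff.mp (hle ha) x rfl).symm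
  exact ⟨le_antisymm h3 (h1.trans h2), le_antisymm h1 (h2.trans h3)⟩

end Cfsg.Agent.S0655
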