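import Cfsg.Statements.S0656
import Cfsg.Agent.Lib.Grp.QuadraticGroup

set_option maxHeartbeats 1000000
set_option maxRecDepth 8000

set_option autoImplicit false
open Cfsg

namespace Cfsg.Agent.S0656

/-- For odd p, a faithful group on an elementary abelian p-group with no nontrivial normal p-subgroup in which some nontrivial p-element acts quadratically has a section isomorphic to SL(2, p). -/
theorem result {G : Type*} [Group G] [Finite G] {p : ℕ} [Fact p.Prime] (hp : p ≠ 2) (V H : Subgroup G) (hV : Cfsg.IsElementaryAbelian p V) (hHV : H ≤ Subgroup.normalizer (V : Set G)) (hf : H ⊓ Subgroup.centralizer (V : Set G) = ⊥) (hO : Cfsg.pCore p ↥H = ⊥) (x : G) (hxH : x ∈ H) (hx1 : x ≠ 1) (hxp : ∃ k : ℕ, orderOf x = p ^ k) (hq : ⁅⁅V, Subgroup.zpowers x⁆, Subgroup.zpowers x⁆ = ⊥) : ∃ (K L : Subgroup G) (hL : (L.subgroupOf K).Normal), K ≤ H ∧ Nonempty ((K ⧸ L.subgroupOf K) ≃* Matrix.SpecialLinearGroup (Fin 2) (ZMod p)) := by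
  classical
  obtain ⟨n, y, hy, hyp, hy1⟩ := Grp.Quad.exists_pair (p := p) (MonoidHom.id ↥H) Function.surjective_id
    (a := (⟨x, hxH⟩ : H)) (by
      rw [MonoidHom.id_apply, hO, Subgroup.mem_bot]
      exact fun e => hx1 (congrArg Subtype.val e))
  have hxN := hHV hxH
  have hquad := Grp.Quad.quadOn_of_commutator hq
  have hmap : (Subgroup.closure {(⟨x, hxH⟩ : H), n * ⟨x, hxH⟩ * n⁻¹}).map H.subtype =
      Subgroup.closure {x, (n : G) * x * (n : G)⁻¹} := by
    rw [MonoidHom.map_closure, Set.image_pair]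
    rfl
  have hyS : (y : G) ∈ Subgroup.closure {x, (n : G) * x * (n : G)⁻¹} :=
    hmap ▸ Subgroup.mem_map_of_mem H.subtype hy
  obtain ⟨F, _, _, _, φ, P, hP, -, -, hle, -⟩ := Grp.Quad.exists_sl_two_group hp hV hxN
    ((Subgroup.normalizer (V : Set G)).mul_mem ((Subgroup.normalizer (V : Set G)).mul_mem (hHV n.2) hxN)
      ((Subgroup.normalizer (V : Set G)).inv_mem (hHV n.2)))
    hquad (hquad.conj (hHV n.2)) hyS (by rwa [Subgroup.orderOf_coe])
    (fun hc => hy1 (Subtype.ext (Subgroup.mem_bot.mp (hf ▸ ⟨y.2, hc⟩ : (y : G) ∈ (⊥ : Subgroup G)))))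
  let ι := (Grp.SL2.conjHom P hP).comp (Grp.SL2.primeHom F p)
  have hι : Function.Injective ι :=
    (Grp.SL2.conjHom_injective P hP).comp (Grp.SL2.primeHom_injective (F := F) p)
  set K₀ : Subgroup ↥(Subgroup.closure ({x, (n : G) * x * (n : G)⁻¹} : Set G)) := ι.range.comap φ
  let e := MonoidHom.ofInjective hι
  let ψ : K₀ →* Matrix.SpecialLinearGroup (Fin 2) (ZMod p) :=
    e.symm.toMonoidHom.comp ((φ.comp K₀.subtype).codRestrict ι.range fun k => k.2)
  have hψ : Function.Surjective ψ := by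
    intro A
    obtain ⟨s, hs⟩ := hle (by
      rw [← MonoidHom.range_comp]; exact ⟨A, rfl⟩ : ι A ∈ ((Grp.SL2.primeHom F p).range.map (Grp.SL2.conjHom P hP)))
    refine ⟨⟨s, A, hs.symm⟩, e.injective ?_⟩
    change e (e.symm _) = e A
    rw [MulEquiv.apply_symm_apply]
    exact Subtype.ext hs
  let θ := (Subgroup.equivMapOfInjective K₀ (Subgroup.subtype _) (Subgroup.subtype_injective _))
  let χ : ↥(K₀.map (Subgroup.subtype _)) →* Matrix.SpecialLinearGroup (Fin 2) (ZMod p) :=
    ψ.comp θ.symm.toMonoidHom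
  have hker : (χ.ker.map (K₀.map (Subgroup.subtype _)).subtype).subgroupOf (K₀.map (Subgroup.subtype _)) = χ.ker :=
    Subgroup.comap_map_eq_self_of_injective (Subgroup.subtype_injective _) χ.ker
  have hnorm : ((χ.ker.map (K₀.map (Subgroup.subtype _)).subtype).subgroupOf (K₀.map (Subgroup.subtype _))).Normal := by
    rw [hker]; infer_instance
  refine ⟨K₀.map (Subgroup.subtype _), χ.ker.map (K₀.map (Subgroup.subtype _)).subtype, hnorm, ?_, ?_⟩
  · refine (Subgroup.map_subtype_le _).trans ((Subgroup.closure_le _).mpr ?_)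
    rintro z (rfl | rfl)
    · exact hxH
    · exact H.mul_mem (H.mul_mem n.2 hxH) (H.inv_mem n.2)
  · exact ⟨(QuotientGroup.quotientMulEquivOfEq hker).trans
      (QuotientGroup.quotientKerEquivOfSurjective χ (hψ.comp θ.symm.surjective))⟩

end Cfsg.Agent.S0656
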