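import Cfsg.Statements.S0657
import Mathlib
import Cfsg.Agent.Lib.Grp.QdNotStable
-- import your own Cfsg.Agent.* helpers here

set_option autoImplicit false
open Cfsg

namespace Cfsg.Agent.S0657

open Cfsg.Agent.Grp.Quad

/-- For odd p, a group that fails to be p-stable modulo its largest normal subgroup of order prime to p, and whose upper p-series does not stop there, has a section isomorphic to SL(2, p). -/
theorem result {G : Type*} [Group G] [Finite G] {p : ℕ} [Fact p.Prime] (hp : p ≠ 2) (hO : Cfsg.pPrimeCore p G < Cfsg.pPrimePCore p G) (hns : ¬ Cfsg.IsPStable p (G ⧸ Cfsg.pPrimeCore p G)) : ∃ (K L : Subgroup G) (hL : (L.subgroupOf K).Normal), K ≤ ⊤ ∧ Nonempty ((K ⧸ L.subgroupOf K) ≃* Matrix.SpecialLinearGroup (Fin 2) (ZMod p)) := by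
  classical
  have hinv : Cfsg.Involves ↥(Cfsg.qd p) (G ⧸ Cfsg.pPrimeCore p G) := by
    by_contra hfree
    have hst := isNormalizerPStable_of_free hp hfree
    refine hns ⟨(Fact.out : p.Prime).odd_of_ne_two hp, fun h => hO.ne ?_, ?_⟩
    · rw [Cfsg.pPrimePCore, h, MonoidHom.comap_bot, QuotientGroup.ker_mk']
    · intro A P _ hP hAP _ _ hcomm
      rintro _ ⟨⟨a, haN⟩, haA, rfl⟩
      refine hst P hP a haN (le_bot_iff.mp (le_trans ?_ hcomm.le))
      have hz : Subgroup.zpowers a ≤ A := Subgroup.zpowers_le.mpr haA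
      exact Subgroup.commutator_mono (Subgroup.commutator_mono le_rfl hz) hz
  obtain ⟨K', R', _, ⟨e⟩⟩ := hinv
  have hsec : Cfsg.Agent.Invol.IsSectionOf (Matrix.SpecialLinearGroup (Fin 2) (ZMod p)) G :=
    (Cfsg.Agent.Invol.IsSectionOf.of_surjective (Cfsg.Agent.Fus.qdBlock p)
      Cfsg.Agent.Fus.qdBlock_surjective).trans
      ((Cfsg.Agent.Invol.IsSectionOf.trans ⟨K', e.toMonoidHom.comp (QuotientGroup.mk' _),
        e.surjective.comp (QuotientGroup.mk'_surjective _)⟩
        (Cfsg.Agent.Invol.IsSectionOf.of_surjective _ (QuotientGroup.mk'_surjective (Cfsg.pPrimeCore p G)))))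
  obtain ⟨K, R, hR, he⟩ := hsec.exists_quotient
  exact ⟨K, R, hR, le_top, he⟩

end Cfsg.Agent.S0657
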