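import Cfsg.Statements.S0658
import Cfsg.Agent.Lib.Invol.ZJLocalNormal
import Cfsg.Agent.Lib.Invol.PStableBridge
import Cfsg.Agent.Lib.Transfer.Transitivity
-- import your own Cfsg.Agent.* helpers here

set_option autoImplicit false
open Cfsg

namespace Cfsg.Agent.S0658

/-- In a group of characteristic p type all of whose p-locals are p-stable (p odd), the normalizer of Z(J(P)) contains the normalizer of every nontrivial subgroup of the Sylow p-subgroup P. -/
theorem result {G : Type*} [Group G] [Finite G] {p : ℕ} [Fact p.Prime] (hp : p ≠ 2) (hloc : ∀ Q : Subgroup G, IsPGroup p Q → Q ≠ ⊥ → Cfsg.pPrimeCore p ↥(Subgroup.normalizer (Q : Set G)) = ⊥ ∧ Cfsg.IsPConstrained p ↥(Subgroup.normalizer (Q : Set G)) ∧ Cfsg.IsPStable p ↥(Subgroup.normalizer (Q : Set G))) (P : Sylow p G) (Q : Subgroup G) (hQP : Q ≤ (P : Subgroup G)) (hQ1 : Q ≠ ⊥) : Subgroup.normalizer (Q : Set G) ≤ Subgroup.normalizer (Cfsg.centerThompsonAOf ((P : Subgroup G)) : Set G) := by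
  refine Invol.zj_normalizer_le_of_local Invol.isZJFunctor_centerThompsonA (fun U hU hU1 T hT => ?_)
    P hQP hQ1
  obtain ⟨hO, hc, hs⟩ := hloc U hU hU1
  set N := Subgroup.normalizer (U : Set G) with hN
  obtain ⟨S, hS⟩ := Grp.isSylowIn_iff.mp hT
  haveI : (Cfsg.pPrimeCore p N).Normal := Grp.pPrimeCore_isNormal
  obtain ⟨-, h2⟩ := Invol.zj_factorization hp Invol.isZJFunctor_centerThompsonA
    (Transfer.Transitivity.centralizer_pCore_quotient hc)
    (fun V _ hV => Invol.isPStableOn_quotient_of_isPStable hs V hV) S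
  rw [hO, bot_sup_eq] at h2
  intro x hx
  have h3 : (⟨x, hx⟩ : N) ∈ Subgroup.normalizer (Cfsg.centerThompsonAOf (S : Subgroup N) : Set N) :=
    h2 ▸ Subgroup.mem_top _
  have h4 := Subgroup.le_normalizer_map N.subtype ⟨_, h3, rfl⟩
  rwa [(Invol.isZJFunctor_centerThompsonA (p := p)).map N.subtype _ (fun x _ hx => Subtype.ext hx), hS] at h4

end Cfsg.Agent.S0658
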