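import Cfsg.Statements.S0660
import Mathlib

set_option maxHeartbeats 1000000
set_option maxRecDepth 8000

set_option autoImplicit false
open Cfsg
open scoped Pointwise

namespace Cfsg.Agent.S0660

/-- Under a coprime action on an abelian group, an invariant subgroup that is complemented admits an invariant complement. -/
theorem result {G : Type*} [Group G] [Finite G] (V A U : Subgroup G) (hVab : IsMulCommutative V) (hAV : A ≤ Subgroup.normalizer (V : Set G)) (hcop : (Nat.card A).Coprime (Nat.card V)) (hUV : U ≤ V) (hAU : A ≤ Subgroup.normalizer (U : Set G)) (W : Subgroup G) (hWV : W ≤ V) (hUW : U ⊓ W = ⊥) (hUWV : U ⊔ W = V) : ∃ W' : Subgroup G, W' ≤ V ∧ A ≤ Subgroup.normalizer (W' : Set G) ∧ U ⊓ W' = ⊥ ∧ U ⊔ W' = V := by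
  classical
  haveI := hVab
  haveI := Fintype.ofFinite A
  letI : CommGroup V := { (inferInstance : Group V) with mul_comm := hVab.is_comm.comm }
  set U' := U.subgroupOf V
  set W' := W.subgroupOf V
  have hcompl : ∀ v : V, ∃ u : V, u ∈ U' ∧ u⁻¹ * v ∈ W' := fun v => by
    have hv : (v : G) ∈ U ⊔ W := hUWV ▸ v.2
    have hsub : U' ⊔ W' = ⊤ := by
      refine Subgroup.map_injective V.subtype_injective ?_
      rw [Subgroup.map_sup, Subgroup.map_subgroupOf_eq_of_le hUV, Subgroup.map_subgroupOf_eq_of_le hWV, hUWV,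
        ← MonoidHom.range_eq_map, Subgroup.range_subtype]
    obtain ⟨u, hu, w, hw, huw⟩ := Subgroup.mem_sup.1 (hsub ▸ Subgroup.mem_top v : v ∈ U' ⊔ W')
    exact ⟨u, hu, by rw [← huw, inv_mul_cancel_left]; exact hw⟩
  choose π hπU hπW using hcompl
  have huniq : ∀ (v u : V), u ∈ U' → u⁻¹ * v ∈ W' → π v = u := fun v u hu hw => by
    have h1 : u⁻¹ * π v ∈ U' ⊓ W' := ⟨U'.mul_mem (U'.inv_mem hu) (hπU v), by
      have h2 := mul_mem hw (inv_mem (hπW v))
      rwa [mul_inv_rev, inv_inv, mul_assoc, mul_inv_cancel_left] at h2⟩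
    have h3 : ((u⁻¹ * π v : V) : G) ∈ U ⊓ W := ⟨h1.1, h1.2⟩
    rw [hUW, Subgroup.mem_bot] at h3
    exact (inv_mul_eq_one.1 (Subtype.ext h3)).symm
  let πh : V →* V :=
    { toFun := π
      map_one' := huniq 1 1 (one_mem _) (by simp)
      map_mul' := fun v w => huniq _ _ (mul_mem (hπU v) (hπU w)) (by
        rw [mul_inv, mul_mul_mul_comm]; exact mul_mem (hπW v) (hπW w)) }
  have hcV : ∀ a : A, ∀ v : V, (a : G) * (v : G) * (a : G)⁻¹ ∈ V := fun a v => (Subgroup.mem_normalizer_iff.1 (hAV a.2) v).1 v.2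
  let c : A → (V →* V) := fun a =>
    { toFun := fun v => ⟨(a : G) * v * (a : G)⁻¹, hcV a v⟩
      map_one' := Subtype.ext (by simp)
      map_mul' := fun v w => Subtype.ext (by simp [mul_assoc]) }
  have hc : ∀ (a b : A) (v : V), c (a * b) v = c a (c b v) := fun a b v => Subtype.ext (by simp [c, mul_assoc])
  have hc1 : ∀ v : V, c 1 v = v := fun v => Subtype.ext (by simp [c])
  have hcU : ∀ (a : A) (v : V), v ∈ U' → c a v ∈ U' := fun a v hv => (Subgroup.mem_normalizer_iff.1 (hAU a.2) v).1 hv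
  let f : V →* V := ∏ a : A, (c a).comp (πh.comp (c a⁻¹))
  have hf : ∀ v, f v = ∏ a : A, c a (π (c a⁻¹ v)) := fun v => MonoidHom.finsetProd_apply _ _ _
  have hfU : ∀ v, f v ∈ U' := fun v => by
    rw [hf]
    exact prod_mem fun a _ => hcU a _ (hπU _)
  have hfix : ∀ v ∈ U', f v = v ^ Nat.card A := fun v hv => by
    have h1 : ∀ a : A, c a (π (c a⁻¹ v)) = v := fun a => by
      rw [huniq _ _ (hcU a⁻¹ v hv) (by rw [inv_mul_cancel]; exact one_mem _), ← hc, mul_inv_cancel, hc1]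
    rw [hf, Finset.prod_congr rfl fun a _ => h1 a, Finset.prod_const, Finset.card_univ, Nat.card_eq_fintype_card]
  have hinj : ∀ v ∈ U', v ∈ f.ker → v = 1 := fun v hv hk => by
    rw [MonoidHom.mem_ker, hfix v hv] at hk
    have h1 : orderOf v = 1 := Nat.eq_one_of_dvd_coprimes hcop (orderOf_dvd_of_pow_eq_one hk) (orderOf_dvd_natCard v)
    exact orderOf_eq_one_iff.1 h1
  refine ⟨f.ker.map V.subtype, Subgroup.map_subtype_le _, fun b hb => ?_, ?_, ?_⟩
  · have hinv : ∀ (b : A) (v : V), v ∈ f.ker → c b v ∈ f.ker := fun b v hv => by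
      rw [MonoidHom.mem_ker, hf] at hv ⊢
      have h1 : ∀ a : A, c (b * a) (π (c (b * a)⁻¹ (c b v))) = c b (c a (π (c a⁻¹ v))) := fun a => by
        rw [← hc (b * a)⁻¹ b, show (b * a)⁻¹ * b = a⁻¹ by group, hc]
      refine ((Fintype.prod_equiv (Equiv.mulLeft b) _ _ (fun a => (h1 a).symm)).symm).trans ?_
      rw [← map_prod, hv, map_one]
    refine Subgroup.mem_normalizer_iff.2 fun x => ⟨?_, fun hx => ?_⟩
    · rintro ⟨v, hv, rfl⟩
      exact ⟨c ⟨b, hb⟩ v, hinv _ _ hv, rfl⟩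
    · obtain ⟨v, hv, hvx⟩ := hx
      refine ⟨c (⟨b, hb⟩⁻¹) v, hinv _ _ hv, ?_⟩
      show b⁻¹ * (v : G) * b⁻¹⁻¹ = x
      rw [show (v : G) = b * x * b⁻¹ from hvx]; group
  · refine (Subgroup.eq_bot_iff_forall _).2 ?_
    rintro _ ⟨hu, v, hv, rfl⟩
    rw [hinj v hu hv]
    rfl
  · refine le_antisymm (sup_le hUV (Subgroup.map_subtype_le _)) fun x hx => ?_
    -- the power map is onto on `U`
    have hsurj : ∀ u ∈ U', ∃ w ∈ U', w ^ Nat.card A = u := fun u hu => by
      obtain ⟨k, hk⟩ := exists_pow_eq_self_of_coprime (x := u) (Nat.Coprime.coprime_dvd_right (orderOf_dvd_natCard u) hcop)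
      exact ⟨u ^ k, pow_mem hu k, by rw [← pow_mul, mul_comm, pow_mul, hk]⟩
    obtain ⟨w, hw, hwe⟩ := hsurj _ (hfU ⟨x, hx⟩)
    have h1 : w⁻¹ * ⟨x, hx⟩ ∈ f.ker := by
      rw [MonoidHom.mem_ker, map_mul, map_inv, hfix w hw, hwe, inv_mul_cancel]
    have h2 : x = (w : G) * ((w⁻¹ * ⟨x, hx⟩ : V) : G) := by simp
    rw [h2]
    exact mul_mem (Subgroup.mem_sup_left hw) (Subgroup.mem_sup_right ⟨_, h1, rfl⟩)

end Cfsg.Agent.S0660
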