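import Cfsg.Statements.S0661
import Cfsg.Agent.Lib.Recog.LocalConstrained
import Cfsg.Agent.Lib.Grp.Cores
import Mathlib

set_option maxHeartbeats 1000000
set_option maxRecDepth 8000

set_option autoImplicit false
open Cfsg

namespace Cfsg.Agent.S0661

/-- If, modulo the largest normal subgroup of order prime to p, the largest normal p-subgroup contains its centralizer, then for every p-subgroup P the p'-core of N_G(P) is just O_p'(G) ∩ N_G(P). -/
theorem result {G : Type*} [Group G] [Finite G] {p : ℕ} [Fact p.Prime] (hc : Subgroup.centralizer (Cfsg.pCore p (G ⧸ Cfsg.pPrimeCore p G) : Set (G ⧸ Cfsg.pPrimeCore p G)) ≤ Cfsg.pCore p (G ⧸ Cfsg.pPrimeCore p G)) (P : Subgroup G) (hP : IsPGroup p P) : (Cfsg.pPrimeCore p ↥(Subgroup.normalizer (P : Set G))).map (Subgroup.normalizer (P : Set G)).subtype = Cfsg.pPrimeCore p G ⊓ Subgroup.normalizer (P : Set G) := by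
  set N := Subgroup.normalizer (P : Set G) with hN
  set K := Cfsg.pPrimeCore p G with hK
  haveI : (Cfsg.pPrimeCore p G).Normal := Cfsg.Agent.Grp.pPrimeCore_isNormal
  haveI : (Cfsg.pPrimeCore p ↥N).Normal := Cfsg.Agent.Grp.pPrimeCore_isNormal
  set D := (Cfsg.pPrimeCore p ↥N).map N.subtype with hD
  refine le_antisymm (le_inf ?_ (Subgroup.map_subtype_le _)) ?_
  · have hPN : P ≤ N := Subgroup.le_normalizer
    haveI : (P.subgroupOf N).Normal := Subgroup.normal_subgroupOf_of_le_normalizer le_rfl
    have hcop : (Nat.card ↥(Cfsg.pPrimeCore p ↥N)).Coprime (Nat.card ↥(P.subgroupOf N)) := by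
      obtain ⟨k, hk⟩ := IsPGroup.iff_card.1 (show IsPGroup p ↥(P.subgroupOf N) from hP.comap_subtype)
      rw [hk]
      exact (Cfsg.Agent.Grp.pPrimeCore_coprime (p := p) (G := ↥N)).pow_right k
    have hDC : D ≤ Subgroup.centralizer (P : Set G) := by
      rintro _ ⟨d, hd, rfl⟩
      refine Subgroup.mem_centralizer_iff.2 fun x hx => ?_
      exact congrArg Subtype.val (Subgroup.mem_centralizer_iff.1
        (Cfsg.Agent.Grp.commute_of_coprime_normal hcop hd) ⟨x, hPN hx⟩ hx)
    set f := QuotientGroup.mk' (Cfsg.pPrimeCore p G) with hf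
    set W := (Subgroup.centralizer (P : Set G)).map f with hW
    have hWC : Subgroup.centralizer (P.map f : Set (G ⧸ Cfsg.pPrimeCore p G)) = W :=
      (Cfsg.Agent.Grp.map_centralizer_pGroup hP).symm
    have hW1 := Cfsg.Agent.Recog.LocalConstrained.centralizer_pCore_le hc (hP.map f) hWC.le
      (hWC.ge.trans (Subgroup.centralizer_le_normalizer _)) (Or.inr hWC.ge)
    have hW2 := Cfsg.Agent.Recog.LocalConstrained.pPrimeCore_eq_bot_of_centralizer hW1
    have hn : ((D.map f).subgroupOf W).Normal := by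
      refine Subgroup.normal_subgroupOf_of_le_normalizer ?_
      refine (Subgroup.map_mono ?_).trans (Subgroup.le_normalizer_map f)
      refine le_trans (Subgroup.centralizer_le_normalizer _) (le_trans ?_ (?_ : N ≤ Subgroup.normalizer (D : Set G)))
      · exact le_rfl
      · have h1 := Subgroup.le_normalizer_map (H := Cfsg.pPrimeCore p ↥N) N.subtype
        rw [Subgroup.normalizer_eq_top, ← MonoidHom.range_eq_map, Subgroup.range_subtype] at h1
        exact h1
    have hcD : (Nat.card ↥((D.map f).subgroupOf W)).Coprime p := by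
      refine (Cfsg.Agent.Grp.pPrimeCore_coprime (p := p) (G := ↥N)).coprime_dvd_left ?_
      exact (Subgroup.card_comap_dvd_of_injective _ _ Subtype.val_injective).trans
        ((Subgroup.card_map_dvd _ _).trans (Subgroup.card_map_dvd _ _))
    intro d hd
    have h1 : (⟨f d, Subgroup.mem_map_of_mem f (hDC hd)⟩ : W) ∈ Cfsg.pPrimeCore p ↥W :=
      Cfsg.Agent.Grp.le_pPrimeCore hn hcD (Subgroup.mem_map_of_mem f hd)
    rw [hW2, Subgroup.mem_bot] at h1
    exact (QuotientGroup.eq_one_iff d).1 (congrArg Subtype.val h1)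
  · rintro x ⟨hxK, hxN⟩
    refine ⟨⟨x, hxN⟩, Cfsg.Agent.Grp.le_pPrimeCore (N := K.subgroupOf N) inferInstance ?_ hxK, rfl⟩
    exact (Cfsg.Agent.Grp.pPrimeCore_coprime (p := p) (G := G)).coprime_dvd_left
      (Subgroup.card_comap_dvd_of_injective _ _ Subtype.val_injective)

end Cfsg.Agent.S0661
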