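import Cfsg.Statements.S0663
import Cfsg.Agent.Lib.Transfer.MaxAbelianExponent
import Mathlib

set_option maxHeartbeats 1000000
set_option maxRecDepth 8000

set_option autoImplicit false
open Cfsg
open scoped commutatorElement Pointwise

namespace Cfsg.Agent.S0663

theorem mem_sup_set {L : Type*} [Group L] {H M : Subgroup L} (h : H ≤ Subgroup.normalizer (M : Set L)) {x : L}
    (hx : x ∈ H ⊔ M) : ∃ a ∈ H, ∃ b ∈ M, a * b = x := by
  rw [← SetLike.mem_coe, Subgroup.coe_mul_of_left_le_normalizer_right H M h] at hx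
  exact Set.mem_mul.1 hx

theorem commutator_lt' {L : Type*} [Group L] [Finite L] {p : ℕ} [Fact p.Prime] {T M : Subgroup L} (hT : IsPGroup p T)
    (hMT : M ≤ T) (hn : T ≤ Subgroup.normalizer (M : Set L)) (hM : M ≠ ⊥) : ⁅M, T⁆ < M := by
  haveI : Group.IsNilpotent T := hT.isNilpotent
  haveI : (M.subgroupOf T).Normal := Subgroup.normal_subgroupOf_of_le_normalizer hn
  have h1 := Cfsg.Agent.Transfer.MaxAbelianExponent.commutator_lt_of_normal (N := M.subgroupOf T)
    (by rwa [Ne, Subgroup.subgroupOf_eq_bot, disjoint_iff, inf_eq_left.2 hMT])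
  have h2 := (Subgroup.map_lt_map_iff_of_injective T.subtype_injective).2 h1
  rwa [Subgroup.map_commutator, Subgroup.map_subgroupOf_eq_of_le hMT, ← MonoidHom.range_eq_map,
    Subgroup.range_subtype] at h2

theorem normalizes_commutator {L : Type*} [Group L] {M T : Subgroup L} (hn : T ≤ Subgroup.normalizer (M : Set L)) :
    T ≤ Subgroup.normalizer ((⁅M, T⁆ : Subgroup L) : Set L) := by
  have hone : ∀ t ∈ T, ∀ y ∈ ⁅M, T⁆, t * y * t⁻¹ ∈ ⁅M, T⁆ := by
    intro t ht y hy
    have h := Subgroup.mem_map_of_mem (MulAut.conj t).toMonoidHom hy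
    rw [Subgroup.map_commutator] at h
    refine Subgroup.commutator_mono ?_ ?_ h
    · rintro _ ⟨m, hm, rfl⟩; exact (Subgroup.mem_normalizer_iff.1 (hn ht) m).1 hm
    · rintro _ ⟨m, hm, rfl⟩; exact T.mul_mem (T.mul_mem ht hm) (T.inv_mem ht)
  intro t ht
  refine Subgroup.mem_normalizer_iff.2 fun y => ⟨hone t ht y, fun h => ?_⟩
  simpa [mul_assoc] using hone t⁻¹ (T.inv_mem ht) _ h

theorem card_le_of_lt {L : Type*} [Group L] [Finite L] {p : ℕ} [hp : Fact p.Prime] {A B : Subgroup L}
    (hB : IsPGroup p B) (h : A < B) : p * Nat.card A ≤ Nat.card B := by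
  obtain ⟨b, hb⟩ := IsPGroup.iff_card.1 hB
  obtain ⟨a, ha⟩ := IsPGroup.iff_card.1 (hB.to_le h.le)
  have hne : Nat.card A ≠ Nat.card B := fun e => h.ne (Subgroup.eq_of_le_of_card_ge h.le e.ge)
  rw [ha, hb] at hne ⊢
  have hab : a ≤ b := (Nat.pow_le_pow_iff_right hp.out.one_lt).1 (ha ▸ hb ▸ Subgroup.card_le_of_le h.le)
  rw [← pow_succ']
  exact Nat.pow_le_pow_right hp.out.pos (lt_of_le_of_ne hab fun e => hne (by rw [e]))


/-- A p-group acts uniserially on a p-group N of order p^n exactly when the iterated commutator chain from N has length n; in that case the chain terms are all the invariant subgroups of N and they are normal in N. -/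
theorem result {L : Type*} [Group L] [Finite L] {p : ℕ} [Fact p.Prime] (N G : Subgroup L) (hN : IsPGroup p N) (hG : IsPGroup p G) (hGN : G ≤ Subgroup.normalizer (N : Set L)) (n : ℕ) (hn : Nat.card N = p ^ n) : ((∀ H : Subgroup L, H ≤ N → G ≤ Subgroup.normalizer (H : Set L) → H ≠ ⊥ → (⁅H, G⁆).relIndex H = p) ↔ Cfsg.iterCommutator N G (n - 1) ≠ ⊥ ∨ n = 0) ∧ ((∀ H : Subgroup L, H ≤ N → G ≤ Subgroup.normalizer (H : Set L) → H ≠ ⊥ → (⁅H, G⁆).relIndex H = p) → ∀ H : Subgroup L, H ≤ N → G ≤ Subgroup.normalizer (H : Set L) → (∃ i ≤ n, H = Cfsg.iterCommutator N G i) ∧ N ≤ Subgroup.normalizer (H : Set L)) := by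

  classical
  have hp : p.Prime := Fact.out
  set T := N ⊔ G with hT
  set C := Cfsg.iterCommutator N G with hC
  have hTp : IsPGroup p T := hN.to_sup_of_normal_left' hG hGN
  have hNT : N ≤ T := le_sup_left
  have hGT : G ≤ T := le_sup_right
  -- the series of the action of `T`
  let D : ℕ → Subgroup L := fun i => Nat.rec (motive := fun _ => Subgroup L) N (fun _ M => ⁅M, T⁆) i
  have hD : ∀ i, D i ≤ N ∧ T ≤ Subgroup.normalizer ((D i : Subgroup L) : Set L) := fun i => by
    induction i with
    | zero => exact ⟨le_rfl, sup_le Subgroup.le_normalizer hGN⟩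
    | succ i ih =>
      refine ⟨le_trans ?_ ih.1, normalizes_commutator ih.2⟩
      rw [show D (i + 1) = ⁅D i, T⁆ from rfl]
      exact Subgroup.le_normalizer_iff_commutator_le_left.1 ih.2
  have hCD : ∀ i, C i ≤ D i := fun i => by
    induction i with
    | zero => exact le_rfl
    | succ i ih => exact Subgroup.commutator_mono ih hGT
  have hCN : ∀ i, C i ≤ N := fun i => (hCD i).trans (hD i).1
  have hDcard : ∀ i, i ≤ n → Nat.card (D i) ≤ p ^ (n - i) := fun i => by
    induction i with
    | zero => intro _; exact hn.le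
    | succ i ih =>
      intro hi
      have h0 := ih (by omega)
      by_cases hb : D i = ⊥
      · have : D (i + 1) ≤ ⊥ := hb ▸ Subgroup.le_normalizer_iff_commutator_le_left.1 (hD i).2
        rw [le_bot_iff.1 this, Subgroup.card_bot]
        exact Nat.one_le_pow _ _ hp.pos
      · have h1 := card_le_of_lt (hN.to_le (hD i).1) (commutator_lt' hTp ((hD i).1.trans hNT) (hD i).2 hb)
        rw [show n - i = (n - (i + 1)) + 1 by omega, pow_succ'] at h0
        exact Nat.le_of_mul_le_mul_left (h1.trans h0) hp.pos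
  -- the uniserial property gives the orders
  let P := ∀ H : Subgroup L, H ≤ N → G ≤ Subgroup.normalizer (H : Set L) → H ≠ ⊥ → (⁅H, G⁆).relIndex H = p
  have hGC : ∀ i, G ≤ Subgroup.normalizer (C i : Set L) := fun i => by
    induction i with
    | zero => exact hGN
    | succ i ih => exact normalizes_commutator ih
  have hCle : ∀ i, C (i + 1) ≤ C i := fun i => Subgroup.le_normalizer_iff_commutator_le_left.1 (hGC i)
  have hord : P → ∀ i, i ≤ n → Nat.card (C i) = p ^ (n - i) := fun hu i => by
    induction i with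
    | zero => intro _; exact hn
    | succ i ih =>
      intro hi
      have h0 := ih (by omega)
      have hne : C i ≠ ⊥ := fun e => by
        rw [e, Subgroup.card_bot] at h0
        exact absurd h0.symm (Nat.one_lt_pow (by omega) hp.one_lt).ne'
      have h1 := hu (C i) (hCN i) (hGC i) hne
      have h2 := Subgroup.relIndex_mul_relIndex ⊥ (C (i + 1)) (C i) bot_le (hCle i)
      rw [Subgroup.relIndex_bot_left, Subgroup.relIndex_bot_left, h0,
        show (C (i + 1)).relIndex (C i) = p from h1, show n - i = (n - (i + 1)) + 1 by omega, pow_succ] at h2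
      exact Nat.eq_of_mul_eq_mul_right hp.pos h2
  have hchain : (Cfsg.iterCommutator N G (n - 1) ≠ ⊥ ∨ n = 0) → ∀ i, i ≤ n → Nat.card (C i) = p ^ (n - i) := by
    intro h i hi
    refine le_antisymm ((Subgroup.card_le_of_le (hCD i)).trans (hDcard i hi)) ?_
    rcases Nat.eq_zero_or_pos n with hn0 | hpos
    · obtain rfl : i = 0 := by omega
      exact hn.ge
    have hne : C (n - 1) ≠ ⊥ := h.resolve_right hpos.ne'
    have hanti : Antitone C := antitone_nat_of_succ_le hCle
    rcases Nat.lt_or_eq_of_le hi with hlt | rfl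
    · have key : ∀ k, k ≤ n - 1 → p ^ (k + 1) ≤ Nat.card (C (n - 1 - k)) := fun k => by
        induction k with
        | zero =>
          intro _
          have h1 := card_le_of_lt (hN.to_le (hCN (n - 1))) (bot_lt_iff_ne_bot.2 hne)
          rwa [Subgroup.card_bot, mul_one, ← pow_one p] at h1
        | succ k ihk =>
          intro hk
          have hne' : C (n - 1 - (k + 1)) ≠ ⊥ := fun e => hne (le_bot_iff.1 (e ▸ hanti (by omega)))
          have hsub : n - 1 - k = (n - 1 - (k + 1)) + 1 := by omega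
          have hlt' : C (n - 1 - k) < C (n - 1 - (k + 1)) := by
            rw [hsub]
            refine lt_of_le_of_lt (Subgroup.commutator_mono le_rfl (le_sup_right : G ≤ C (n - 1 - (k + 1)) ⊔ G)) ?_
            exact commutator_lt' ((hN.to_le (hCN _)).to_sup_of_normal_left' hG (hGC _)) le_sup_left
              (sup_le Subgroup.le_normalizer (hGC _)) hne'
          rw [pow_succ']
          exact le_trans (Nat.mul_le_mul_left p (ihk (by omega))) (card_le_of_lt (hN.to_le (hCN _)) hlt')
      have h1 := key (n - 1 - i) (by omega)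
      rwa [show n - 1 - (n - 1 - i) = i by omega, show n - 1 - i + 1 = n - i by omega] at h1
    · rw [Nat.sub_self, pow_zero]; exact Nat.card_pos
  -- the structure
  have hstruct : (Cfsg.iterCommutator N G (n - 1) ≠ ⊥ ∨ n = 0) → ∀ H : Subgroup L, H ≤ N →
      G ≤ Subgroup.normalizer (H : Set L) → (∃ i ≤ n, H = C i) ∧ N ≤ Subgroup.normalizer (H : Set L) := by
    intro h
    have hcard := hchain h
    have hCeq : ∀ i, i ≤ n → C i = D i := fun i hi =>
      Subgroup.eq_of_le_of_card_ge (hCD i) (by rw [hcard i hi]; exact hDcard i hi)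
    have hbot : C n = ⊥ := Subgroup.card_eq_one.1 (by rw [hcard n le_rfl, Nat.sub_self, pow_zero])
    have hNC : ∀ i, i ≤ n → N ≤ Subgroup.normalizer (C i : Set L) := fun i hi => by
      rw [hCeq i hi]; exact hNT.trans (hD i).2
    intro H hH hHG
    suffices hex : ∃ i ≤ n, H = C i by
      obtain ⟨i, hi, e⟩ := hex
      exact ⟨⟨i, hi, e⟩, e ▸ hNC i hi⟩
    by_cases hHb : H = ⊥
    · exact ⟨n, le_rfl, hHb.trans hbot.symm⟩
    have hnot : ¬ H ≤ C n := fun hle => hHb (le_bot_iff.1 (hbot ▸ hle))
    have hex' : ∃ j, ¬ H ≤ C j := ⟨n, hnot⟩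
    have hspec := Nat.find_spec hex'
    set m := Nat.find hex' with hm
    have hmn : m ≤ n := Nat.find_le hnot
    have hm0 : m ≠ 0 := fun e => hspec (e ▸ hH)
    obtain ⟨i, hi⟩ := Nat.exists_eq_succ_of_ne_zero hm0
    have hHi : H ≤ C i := not_not.1 (Nat.find_min hex' (show i < Nat.find hex' by omega))
    rw [hi] at hspec
    have hsup : C i ≤ H ⊔ C (i + 1) := by
      have hlt : C (i + 1) < H ⊔ C (i + 1) := lt_of_le_of_ne le_sup_right fun e => hspec (e.ge.trans' le_sup_left)
      have h1 := card_le_of_lt (hN.to_le (sup_le hH (hCN _))) hlt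
      refine (Subgroup.eq_of_le_of_card_ge (sup_le hHi (hCle i)) ?_).ge
      rw [hcard i (by omega), show n - i = (n - (i + 1)) + 1 by omega, pow_succ', ← hcard (i + 1) (by omega)]
      exact h1
    have hstep : ∀ j, i ≤ j → j + 2 ≤ n → C j ≤ H ⊔ C (j + 1) → C (j + 1) ≤ H ⊔ C (j + 2) := by
      intro j _ hj hsj
      refine Subgroup.commutator_le.2 fun y hy g hg => ?_
      obtain ⟨a, ha, b, hb, rfl⟩ := mem_sup_set (hH.trans (hNC (j + 1) (by omega))) (hsj hy)
      have e : ⁅a * b, g⁆ = a * ⁅b, g⁆ * a⁻¹ * ⁅a, g⁆ := by simp only [commutatorElement_def]; group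
      rw [e]
      refine mul_mem (mul_mem (mul_mem (Subgroup.mem_sup_left ha)
        (Subgroup.mem_sup_right (Subgroup.commutator_mem_commutator hb hg))) (inv_mem (Subgroup.mem_sup_left ha)))
        (Subgroup.mem_sup_left ?_)
      exact Subgroup.le_normalizer_iff_commutator_le_left.1 hHG (Subgroup.commutator_mem_commutator ha hg)
    have hsteps : ∀ j, i ≤ j → j + 1 ≤ n → C j ≤ H ⊔ C (j + 1) := fun j hj => by
      induction j, hj using Nat.le_induction with
      | base => intro _; exact hsup
      | succ j hj ih => intro hjn; exact hstep j hj hjn (ih (by omega))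
    have hall : ∀ k, i + 1 ≤ k → k ≤ n → C (i + 1) ≤ H ⊔ C k := fun k hk => by
      induction k, hk using Nat.le_induction with
      | base => intro _; exact le_sup_right
      | succ k hk ih => intro hkn; exact (ih (by omega)).trans (sup_le le_sup_left (hsteps k (by omega) hkn))
    have h2 := hall n (by omega) le_rfl
    rw [hbot, sup_bot_eq] at h2
    exact ⟨i, by omega, le_antisymm hHi (hsup.trans (sup_le le_rfl h2))⟩
  refine ⟨⟨fun hu => ?_, fun h H hH hHG hne => ?_⟩, fun hu H hH hHG => hstruct ?_ H hH hHG⟩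
  case refine_1 | refine_3 =>
    rcases Nat.eq_zero_or_pos n with hn0 | hpos
    · exact Or.inr hn0
    refine Or.inl fun e => ?_
    have h1 : Nat.card (Cfsg.iterCommutator N G (n - 1)) = p ^ (n - (n - 1)) := hord hu (n - 1) (by omega)
    rw [show Cfsg.iterCommutator N G (n - 1) = ⊥ from e, Subgroup.card_bot] at h1
    rw [show n - (n - 1) = 1 by omega, pow_one] at h1
    exact hp.one_lt.ne h1
  obtain ⟨⟨i, hi, rfl⟩, -⟩ := hstruct h H hH hHG
  have hin : i < n := lt_of_le_of_ne hi fun e => hne (Subgroup.card_eq_one.1 (by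
    rw [hchain h i hi, e, Nat.sub_self, pow_zero]))
  have h2 := Subgroup.relIndex_mul_relIndex ⊥ (C (i + 1)) (C i) bot_le (hCle i)
  rw [Subgroup.relIndex_bot_left, Subgroup.relIndex_bot_left, hchain h i hi, hchain h (i + 1) (by omega),
    show n - i = (n - (i + 1)) + 1 by omega, pow_succ] at h2
  exact Nat.eq_of_mul_eq_mul_left (pow_pos hp.pos _) h2

end Cfsg.Agent.S0663
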