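import Cfsg.Statements.S0666
import Cfsg.Agent.Lib.Grp.FrobeniusTheorem
import Cfsg.Agent.Lib.Recog.Frobenius
import Mathlib

set_option maxHeartbeats 1000000
set_option maxRecDepth 8000

set_option autoImplicit false
open Cfsg

namespace Cfsg.Agent.S0666

/-- A Frobenius group acting on a nontrivial abelian group of order prime to that of its kernel, with the kernel acting without nontrivial fixed points, has a complement with a nontrivial fixed point. -/
theorem result {G : Type*} [Group G] [Finite G] (V F : Subgroup G) (hVab : IsMulCommutative V) (hV1 : V ≠ ⊥) (hFV : F ≤ Subgroup.normalizer (V : Set G)) (H : Subgroup ↥F) (hH : Cfsg.IsFrobeniusComplement H) (hcop : (Nat.card V).Coprime (Nat.card (Cfsg.frobeniusKernel H))) (hCK : V ⊓ Subgroup.centralizer (Subtype.val '' Cfsg.frobeniusKernel H : Set G) = ⊥) : V ⊓ Subgroup.centralizer ((H.map F.subtype : Subgroup G) : Set G) ≠ ⊥ := by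
  classical
  intro hbot
  apply hV1
  letI : CommGroup V := { (inferInstance : Group V) with mul_comm := fun a b => hVab.is_comm.comm a b }
  haveI := Fintype.ofFinite F
  obtain ⟨K, hK⟩ := Cfsg.Agent.Grp.exists_frobenius_kernel hH
  have hKn : K.Normal := Cfsg.Agent.Frob.kernel_normal hK
  haveI := Fintype.ofFinite K
  haveI := Fintype.ofFinite H
  have hconj : ∀ (f : F) (v : G), v ∈ V → (f : G) * v * (f : G)⁻¹ ∈ V := fun f v hv =>
    (Subgroup.mem_normalizer_iff.1 (hFV f.2) v).1 hv
  let c : F → V →* V := fun f =>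
    { toFun := fun v => ⟨(f : G) * v * (f : G)⁻¹, hconj f v v.2⟩
      map_one' := Subtype.ext (by simp)
      map_mul' := fun a b => Subtype.ext (show (f : G) * ((a : G) * b) * (f : G)⁻¹ =
        (f : G) * a * (f : G)⁻¹ * ((f : G) * b * (f : G)⁻¹) by group) }
  have hc1 : ∀ v, c 1 v = v := fun v => Subtype.ext (by show ((1 : F) : G) * v * ((1 : F) : G)⁻¹ = v; simp)
  have hcm : ∀ (a b : F) (v : V), c (a * b) v = c a (c b v) := fun a b v => Subtype.ext (by
    show ((a * b : F) : G) * v * ((a * b : F) : G)⁻¹ = (a : G) * ((b : G) * v * (b : G)⁻¹) * (a : G)⁻¹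
    rw [Subgroup.coe_mul]; group)
  have hfix : ∀ (S : Set F) (u : V), (∀ f ∈ S, c f u = u) → (u : G) ∈ Subgroup.centralizer (Subtype.val '' S) := by
    intro S u hu
    refine Subgroup.mem_centralizer_iff.2 ?_
    rintro _ ⟨f, hf, rfl⟩
    exact mul_inv_eq_iff_eq_mul.1 (congrArg Subtype.val (hu f hf))
  -- products over `K`
  have hPK : ∀ v : V, ∏ k : K, c k v = 1 := fun v => by
    have h1 : ((∏ k : K, c k v : V) : G) ∈ Subgroup.centralizer (Subtype.val '' Cfsg.frobeniusKernel H) := by
      refine hfix _ _ fun f hf => ?_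
      rw [← hK] at hf
      rw [map_prod]
      simp only [← hcm]
      exact Fintype.prod_equiv (Equiv.mulLeft (⟨f, hf⟩ : K)) _ _ fun k => rfl
    have h2 := Subgroup.mem_inf.2 ⟨(∏ k : K, c k v).2, h1⟩
    rw [hCK, Subgroup.mem_bot] at h2
    exact Subtype.ext h2
  -- products over `H`
  have hPH : ∀ v : V, ∏ h : H, c h v = 1 := fun v => by
    have h1 : ((∏ h : H, c h v : V) : G) ∈ Subgroup.centralizer ((H.map F.subtype : Subgroup G) : Set G) := by
      rw [Subgroup.coe_map]
      refine hfix _ _ fun f hf => ?_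
      rw [map_prod]
      simp only [← hcm]
      exact Fintype.prod_equiv (Equiv.mulLeft (⟨f, hf⟩ : H)) _ _ fun k => rfl
    have h2 := Subgroup.mem_inf.2 ⟨(∏ h : H, c h v).2, h1⟩
    rw [hbot, Subgroup.mem_bot] at h2
    exact Subtype.ext h2
  -- double product
  rw [Subgroup.eq_bot_iff_forall]
  intro v hv
  let w : V := ⟨v, hv⟩
  have hdouble : ∏ k : K, ∏ h : H, c ((k : F) * h * (k : F)⁻¹) w = 1 := Finset.prod_eq_one fun k _ => by
    simp only [hcm]
    rw [← map_prod, hPH, map_one]
  rw [Finset.prod_comm, Finset.prod_eq_single (1 : H) (fun h _ hne => ?_)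
    (fun h1 => absurd (Finset.mem_univ (1 : H)) h1)] at hdouble
  · simp only [Subgroup.coe_one, mul_one, mul_inv_cancel, hc1, Finset.prod_const, Finset.card_univ,
      ← Nat.card_eq_fintype_card] at hdouble
    have hcard : Nat.card K = Nat.card (Cfsg.frobeniusKernel H) := Nat.card_congr (Equiv.setCongr hK)
    rw [← hcard] at hcop
    have h3 : orderOf w = 1 := Nat.eq_one_of_dvd_coprimes hcop (orderOf_dvd_natCard w)
      (orderOf_dvd_of_pow_eq_one hdouble)
    exact congrArg Subtype.val (orderOf_eq_one_iff.1 h3)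
  · let e : K → K := fun k => ⟨(k : F) * h * (k : F)⁻¹ * (h : F)⁻¹, by
      rw [show (k : F) * h * (k : F)⁻¹ * (h : F)⁻¹ = (k : F) * ((h : F) * (k : F)⁻¹ * (h : F)⁻¹) by group]
      exact K.mul_mem k.2 (hKn.conj_mem _ (K.inv_mem k.2) _)⟩
    have he : Function.Injective e := fun a b hab => by
      have h1 : (a : F) * h * (a : F)⁻¹ = (b : F) * h * (b : F)⁻¹ := mul_right_cancel (congrArg Subtype.val hab)
      have h2 : (b : F)⁻¹ * a ∈ Subgroup.centralizer ({(h : F)} : Set F) := by
        rw [Subgroup.mem_centralizer_singleton_iff]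
        calc (b : F)⁻¹ * a * h = (b : F)⁻¹ * ((a : F) * h * (a : F)⁻¹) * a := by group
          _ = (h : F) * ((b : F)⁻¹ * a) := by rw [h1]; group
      have h3 : (b : F)⁻¹ * a ∈ K ⊓ H :=
        ⟨K.mul_mem (K.inv_mem b.2) a.2, Cfsg.Agent.Frob.centralizer_le hH h.2 (fun e => hne (Subtype.ext e)) h2⟩
      rw [Cfsg.Agent.Frob.kernel_inf_eq_bot hK, Subgroup.mem_bot, inv_mul_eq_one] at h3
      exact (Subtype.ext h3).symm
    rw [← hPK (c h w)]
    refine Fintype.prod_bijective e (Finite.injective_iff_bijective.1 he) _ _ fun k => ?_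
    rw [← hcm]
    congr 2
    show (k : F) * h * (k : F)⁻¹ = (k : F) * h * (k : F)⁻¹ * (h : F)⁻¹ * h
    group

end Cfsg.Agent.S0666
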