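import Cfsg.Statements.S0677
import Mathlib
import Cfsg.Agent.S0676
import Cfsg.Agent.S0675
import Cfsg.Agent.Lib.Block.PrimeDegreeModule
-- import your own Cfsg.Agent.* helpers here

set_option autoImplicit false
open Cfsg

namespace Cfsg.Agent.S0677

/-- In a transitive permutation group of prime degree `p` whose Sylow `p`-normaliser has even order, the point stabilisers are the only subgroups of index `p`. -/
theorem result {α : Type*} [Fintype α] [DecidableEq α] {p : ℕ} [Fact p.Prime] (hα : Fintype.card α = p) (G : Subgroup (Equiv.Perm α)) [MulAction.IsPretransitive G α] (P : Sylow p G) (heven : Even (Nat.card (Subgroup.normalizer ((P : Subgroup G) : Set G)))) (H : Subgroup G) (hH : H.index = p) : ∃ a : α, H = MulAction.stabilizer G a := by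
  classical
  have hp : p.Prime := Fact.out
  -- it suffices to find a fixed point
  suffices hfix : ∃ a : α, ∀ h ∈ H, h • a = a by
    obtain ⟨a, ha⟩ := hfix
    refine ⟨a, ?_⟩
    refine Subgroup.eq_of_le_of_card_ge (fun h hh => ha h hh) (le_of_eq ?_)
    have h1 := MulAction.index_stabilizer_of_transitive G a
    rw [Nat.card_eq_fintype_card, hα, ← hH] at h1
    have h2 := H.card_mul_index
    have h3 := (MulAction.stabilizer G a).card_mul_index
    rw [h1, ← h2] at h3
    exact Nat.eq_of_mul_eq_mul_right (hH ▸ hp.pos) h3
  have hpH : ¬ p ∣ Nat.card H := by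
    intro h
    apply Cfsg.Agent.Block.primeDeg_not_sq_dvd hα G
    rw [← H.card_mul_index, hH, sq]
    exact Nat.mul_dvd_mul_right h p
  by_cases hsol : Group.IsSolvable G
  · -- the solvable case: affine groups
    obtain ⟨A, hAn, hA0, hAc⟩ : ∃ A : Subgroup G, A.Normal ∧ A ≠ ⊥ ∧ ∀ x ∈ A, ∀ y ∈ A, x * y = y * x := by
      obtain ⟨n, hn⟩ := (Group.isSolvable_def G).1 hsol
      induction n with
      | zero =>
        exfalso
        rw [derivedSeries_zero] at hn
        have h1 := Cfsg.Agent.Block.primeDeg_dvd_card hα G
        rw [← Subgroup.card_top (G := G), hn, Subgroup.card_bot] at h1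
        exact hp.one_lt.ne' (Nat.eq_one_of_dvd_one h1)
      | succ n ih =>
        by_cases h0 : derivedSeries G n = ⊥
        · exact ih h0
        · rw [derivedSeries_succ, Subgroup.commutator_eq_bot_iff_le_centralizer] at hn
          exact ⟨derivedSeries G n, inferInstance, h0, fun x hx y hy => (hn hx y hy).symm⟩
    have hAt : MulAction.IsPretransitive A α := by
      have hprim : MulAction.IsPreprimitive G α :=
        MulAction.IsPreprimitive.of_prime_card (by rw [Nat.card_eq_fintype_card, hα]; exact hp)
      refine MulAction.IsQuasiPreprimitive.isPretransitive_of_normal fun hfp => hA0 ?_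
      refine (Subgroup.eq_bot_iff_forall _).2 fun x hx => ?_
      refine Subtype.ext (Equiv.ext fun y => ?_)
      have h1 : y ∈ MulAction.fixedPoints A α := hfp ▸ Set.mem_univ y
      exact h1 ⟨x, hx⟩
    have hpA : p ∣ Nat.card A := by
      obtain ⟨a⟩ : Nonempty α := Fintype.card_pos_iff.1 (hα ▸ hp.pos)
      have h1 := (MulAction.index_stabilizer_of_transitive A a).symm
      rw [Nat.card_eq_fintype_card, hα] at h1
      rw [h1]
      exact Subgroup.index_dvd_card _
    obtain ⟨x, hx⟩ := exists_prime_orderOf_dvd_card' (G := A) p hpA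
    obtain ⟨Q, hQ⟩ := (IsPGroup.of_card (p := p) (n := 1) (by
      rw [Nat.card_zpowers, Subgroup.orderOf_coe, hx, pow_one]) :
        IsPGroup p (Subgroup.zpowers (x : G))).exists_le_sylow
    have hQc := Cfsg.Agent.Block.primeDeg_card_sylow hα G Q
    have hQx : Subgroup.zpowers (x : G) = (Q : Subgroup G) := Subgroup.eq_of_le_of_card_ge hQ (by
      rw [hQc, Nat.card_zpowers, Subgroup.orderOf_coe, hx])
    have hQA : (Q : Subgroup G) = A := by
      refine le_antisymm (hQx ▸ Subgroup.zpowers_le.2 x.2) fun y hy => ?_
      rw [← Cfsg.Agent.Block.primeDeg_centralizer hα G Q]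
      intro z hz
      have hzA : z ∈ A := by
        have : z ∈ Subgroup.zpowers (x : G) := by rw [hQx]; exact hz
        exact (Subgroup.zpowers_le.2 x.2) this
      exact hAc z hzA y hy
    obtain ⟨a⟩ : Nonempty α := Fintype.card_pos_iff.1 (hα ▸ hp.pos)
    obtain ⟨σ, hσQ, hgen, hσord, e, -, hσ⟩ := Cfsg.Agent.Block.exists_zmod_equiv hα G Q a
    have hσn : ∀ (n : ℕ) j, ((σ ^ n : G) : Equiv.Perm α) (e j) = e (j + n) := by
      intro n
      induction n with
      | zero => simp
      | succ n ih =>
        intro j
        rw [pow_succ', Subgroup.coe_mul, Equiv.Perm.mul_apply, ih, hσ, Nat.cast_succ, add_assoc]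
    let π : G → ZMod p → ZMod p := fun g j => e.symm ((g : Equiv.Perm α) (e j))
    have hπ : ∀ g j, π g j = π g 0 + (π g 1 - π g 0) * j := by
      intro g
      obtain ⟨m, hm⟩ := hgen (g * σ * g⁻¹) (hQA ▸ hAn.conj_mem σ (hQA ▸ hσQ) g)
      have haff : ∀ j, π g j = π g 0 + (m : ZMod p) * j := by
        intro j
        rw [← ZMod.natCast_zmod_val j]
        induction j.val with
        | zero => simp
        | succ n ih =>
          have h1 := DFunLike.congr_fun (congrArg Subtype.val hm) ((g : Equiv.Perm α) (e n))
          simp only [Subgroup.coe_mul, Subgroup.coe_inv, Equiv.Perm.mul_apply,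
            Equiv.Perm.coe_inv, Equiv.symm_apply_apply, hσ] at h1
          show e.symm ((g : Equiv.Perm α) (e ((n + 1 : ℕ) : ZMod p))) = _
          rw [Nat.cast_succ, h1, ← e.apply_symm_apply ((g : Equiv.Perm α) (e n)), hσn,
            e.symm_apply_apply]
          show π g n + _ = _
          rw [ih]
          ring
      intro j
      rw [haff j, haff 1]
      ring
    have hmul : ∀ g k j, π (g * k) j = π g (π k j) := by intro g k j; simp [π]
    let M : G → ZMod p := fun g => π g 1 - π g 0
    have hM : ∀ g k, M (g * k) = M g * M k := by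
      intro g k
      simp only [M, hmul]
      rw [hπ g (π k 1), hπ g (π k 0)]
      ring
    have hM1 : M 1 = 1 := by simp [M, π]
    have hone : ∀ g ∈ H, M g = 1 → g = 1 := by
      intro g hg hg1
      have hgσ : g = σ ^ (π g 0).val := by
        refine Subtype.ext (Equiv.ext fun y => ?_)
        rw [← e.apply_symm_apply y, hσn, ← e.apply_symm_apply ((g : Equiv.Perm α) (e (e.symm y)))]
        congr 1
        show π g (e.symm y) = _
        rw [hπ, ← show M g = π g 1 - π g 0 from rfl, hg1, one_mul, ZMod.natCast_zmod_val, add_comm]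
      by_contra hg0
      apply hpH
      have h1 : orderOf g ∣ p := by
        rw [hgσ]
        exact (orderOf_pow_dvd _).trans (dvd_of_eq hσord)
      rcases (Nat.dvd_prime hp).1 h1 with h2 | h2
      · exact absurd (orderOf_eq_one_iff.1 h2) hg0
      · rw [← h2, ← Subgroup.orderOf_mk g hg]
        exact orderOf_dvd_natCard _
    by_cases hbot : ∀ h ∈ H, h = 1
    · exact ⟨a, fun h hh => by rw [hbot h hh, one_smul]⟩
    push Not at hbot
    obtain ⟨h, hh, hh1⟩ := hbot
    have hMh : M h ≠ 1 := fun h1 => hh1 (hone h hh h1)
    have hMh' : 1 - M h ≠ 0 := sub_ne_zero.2 hMh.symm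
    have huniq : ∀ j, π h j = j → j = π h 0 / (1 - M h) := by
      intro j hj
      rw [eq_div_iff hMh']
      have h1 : π h 0 + M h * j = j := (hπ h j).symm.trans hj
      linear_combination -h1
    have hfixh : π h (π h 0 / (1 - M h)) = π h 0 / (1 - M h) := by
      rw [hπ h (π h 0 / (1 - M h))]
      show π h 0 + M h * _ = _
      field_simp
      ring
    refine ⟨e (π h 0 / (1 - M h)), fun k hk => ?_⟩
    have hcomm : h * k = k * h := by
      have h0 : ∀ g, M g * M g⁻¹ = 1 := fun g => by rw [← hM, mul_inv_cancel, hM1]
      have h1 : h * k * h⁻¹ * k⁻¹ = 1 := hone _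
        (H.mul_mem (H.mul_mem (H.mul_mem hh hk) (H.inv_mem hh)) (H.inv_mem hk))
        (by rw [hM, hM, hM]; linear_combination (M h * M h⁻¹) * h0 k + h0 h)
      rwa [mul_inv_eq_one, mul_inv_eq_iff_eq_mul] at h1
    have h2 : π h (π k (π h 0 / (1 - M h))) = π k (π h 0 / (1 - M h)) := by
      rw [← hmul, hcomm, hmul, hfixh]
    have h3 := huniq _ h2
    apply e.symm.injective
    rw [e.symm_apply_apply]
    exact h3
  · -- the insoluble case
    have h3t : MulAction.IsMultiplyPretransitive G α 3 :=
      Cfsg.Agent.S0676.result hα G hsol P heven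
    have h2t : MulAction.IsMultiplyPretransitive G α 2 :=
      (Cfsg.Agent.S0675.result (hα ▸ hp) G).resolve_left hsol
    rw [MulAction.is_two_pretransitive_iff] at h2t
    have hp3 : 3 < p := by
      by_contra h
      exact hsol (Cfsg.Agent.Block.isSolvable_of_card_le_three hα (by omega) G)
    obtain ⟨a⟩ : Nonempty α := Fintype.card_pos_iff.1 (hα ▸ hp.pos)
    let O : Finset α := Finset.univ.filter (fun x => x ∈ MulAction.orbit H a)
    have hOinv : ∀ (h : H) x, h • x ∈ MulAction.orbit H a ↔ x ∈ MulAction.orbit H a := fun h x =>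
      ⟨fun hm => by simpa using MulAction.mem_orbit_of_mem_orbit h⁻¹ hm,
        MulAction.mem_orbit_of_mem_orbit h⟩
    let inc : G ⧸ H → α → Prop := fun q x => Quotient.liftOn' q (fun g => g⁻¹ • x ∈ O) (by
      intro g g' hgg
      rw [QuotientGroup.leftRel_apply] at hgg
      have h1 : g'⁻¹ • x = (⟨g⁻¹ * g', hgg⟩⁻¹ : H) • (g⁻¹ • x) := by
        simp [Subgroup.smul_def, mul_smul]
      simp only [O, Finset.mem_filter, Finset.mem_univ, true_and, h1]
      exact propext (hOinv _ _).symm)
    have hinc : ∀ (g : G) (q : G ⧸ H) x, inc (g • q) (g • x) ↔ inc q x := by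
      intro g q x
      induction q using QuotientGroup.induction_on with
      | _ k => 
        show (g * k)⁻¹ • g • x ∈ O ↔ k⁻¹ • x ∈ O
        simp [mul_smul]
    have hBcard : ∀ q : G ⧸ H, (Finset.univ.filter (inc q)).card = O.card := by
      intro q
      induction q using QuotientGroup.induction_on with
      | _ k =>
        refine Finset.card_equiv (MulAction.toPerm k⁻¹) fun x => ?_
        rw [Finset.mem_filter]
        exact ⟨fun h => h.2, fun h => ⟨Finset.mem_univ _, h⟩⟩
    have := Fintype.ofFinite (G ⧸ H)
    have hQcard : Fintype.card (G ⧸ H) = p := by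
      rw [← Nat.card_eq_fintype_card, ← Subgroup.index_eq_card, hH]
    let N : α → α → α → ℕ := fun x y z =>
      (Finset.univ.filter (fun q => inc q x ∧ inc q y ∧ inc q z)).card
    have hN : ∀ (g : G) x y z, N (g • x) (g • y) (g • z) = N x y z := by
      intro g x y z
      refine (Finset.card_equiv (MulAction.toPerm g) fun q => ?_).symm
      simp [hinc]
    have hrep : ∀ x, N x x x = O.card := by
      intro x
      have hconst : ∀ y, N y y y = N x x x := fun y => by
        obtain ⟨g, rfl⟩ := MulAction.exists_smul_eq G x y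
        exact hN g x x x
      have h1 : ∑ y, N y y y = ∑ q : G ⧸ H, (Finset.univ.filter (inc q)).card := by
        simp only [N, and_self, Finset.card_filter]
        exact Finset.sum_comm
      simp only [hconst, hBcard, Finset.sum_const, Finset.card_univ, hα, hQcard, smul_eq_mul] at h1
      exact Nat.eq_of_mul_eq_mul_left hp.pos h1
    have haO : a ∈ O := by simp [O]
    have hOlt : O.card < p := by
      refine lt_of_le_of_ne ((Finset.card_le_univ O).trans hα.le) fun h => hpH ?_
      have h1 := Nat.card_congr (MulAction.orbitProdStabilizerEquivGroup H a)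
      rw [Nat.card_prod] at h1
      have h2 : Nat.card (MulAction.orbit H a) = p := by
        rw [← h, Nat.card_eq_fintype_card, Fintype.card_subtype]
      exact ⟨_, (h2 ▸ h1).symm⟩
    have hfix1 : O.card = 1 → ∃ b : α, ∀ h ∈ H, h • b = b := by
      intro h1
      obtain ⟨c, hc⟩ := Finset.card_eq_one.1 h1
      refine ⟨a, fun h hh => ?_⟩
      have h2 : h • a ∈ O := by
        simp only [O, Finset.mem_filter, Finset.mem_univ, true_and]
        exact ⟨⟨h, hh⟩, rfl⟩
      rw [hc, Finset.mem_singleton] at h2 haO
      rw [h2, ← haO]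
    obtain ⟨b, hb⟩ : ∃ b, b ≠ a := Fintype.exists_ne_of_one_lt_card (by rw [hα]; exact hp.one_lt) a
    obtain ⟨c, hc⟩ : ∃ c, c ∉ ({a, b} : Finset α) := by
      by_contra h
      push Not at h
      have h1 := Finset.card_le_card (fun x (_ : x ∈ Finset.univ) => h x)
      have h2 := Finset.card_le_two (a := a) (b := b)
      rw [Finset.card_univ, hα] at h1
      omega
    simp only [Finset.mem_insert, Finset.mem_singleton, not_or] at hc
    have hl : ∀ x, x ≠ a → N a x x = N a b b := by
      intro x hx
      obtain ⟨g, hga, hgb⟩ := h2t hb.symm hx.symm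
      rw [← hN g a b b, hga, hgb]
    have hm : ∀ x y, x ≠ a → y ≠ a → x ≠ y → N a x y = N a b c := by
      intro x y hx hy hxy
      have i1 : Function.Injective ![a, b, c] := by
        intro i j
        fin_cases i <;> fin_cases j <;> simp [hb, hb.symm, hc.1, Ne.symm hc.1, hc.2, Ne.symm hc.2]
      have i2 : Function.Injective ![a, x, y] := by
        intro i j
        fin_cases i <;> fin_cases j <;> simp [hx, hx.symm, hy, hy.symm, hxy, hxy.symm]
      obtain ⟨g, hg⟩ := h3t.exists_smul_eq ⟨_, i1⟩ ⟨_, i2⟩
      have hg' : ∀ i, g • ![a, b, c] i = ![a, x, y] i := fun i => DFunLike.congr_fun hg i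
      rw [← hN g a b c]
      exact congrArg₂ (fun u v => u v) (congrArg₂ N (hg' 0).symm (hg' 1).symm) (hg' 2).symm
    rcases eq_or_ne (N a b b) (N a b c) with heq | hne
    · apply hfix1
      have hl0 : N a b b = 0 := by
        by_contra h0
        obtain ⟨q, hq⟩ := Finset.card_pos.1 (Nat.pos_of_ne_zero h0)
        rw [Finset.mem_filter] at hq
        have hall : ∀ y, inc q y := by
          intro y
          by_cases hya : y = a
          · rw [hya]; exact hq.2.1
          by_cases hyb : y = b
          · rw [hyb]; exact hq.2.2.1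
          have hsub : Finset.univ.filter (fun q => inc q a ∧ inc q b ∧ inc q y) =
              Finset.univ.filter (fun q => inc q a ∧ inc q b ∧ inc q b) := by
            refine Finset.eq_of_subset_of_card_le (fun r hr => ?_) ?_
            · rw [Finset.mem_filter] at hr ⊢
              exact ⟨hr.1, hr.2.1, hr.2.2.1, hr.2.2.1⟩
            · show N a b b ≤ N a b y
              rw [hm b y hb hya (Ne.symm hyb), heq]
          have : q ∈ Finset.univ.filter (fun q => inc q a ∧ inc q b ∧ inc q y) := by
            rw [hsub, Finset.mem_filter]; exact hq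
          exact (Finset.mem_filter.1 this).2.2.2
        have h1 := hBcard q
        rw [Finset.filter_true_of_mem (fun y _ => hall y), Finset.card_univ, hα] at h1
        omega
      obtain ⟨q, hq⟩ := Finset.card_pos.1 (show 0 < N a a a by
        rw [hrep]; exact Finset.card_pos.2 ⟨a, haO⟩)
      rw [Finset.mem_filter] at hq
      rw [← hBcard q, Finset.card_eq_one]
      refine ⟨a, Finset.eq_singleton_iff_unique_mem.2 ⟨by simp [hq.2.1], fun y hy => ?_⟩⟩
      by_contra hya
      rw [Finset.mem_filter] at hy
      have h1 : 0 < N a y y := Finset.card_pos.2 ⟨q, by simp [hq.2.1, hy.2]⟩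
      rw [hl y hya, hl0] at h1
      omega
    · have hle : N a b c < N a b b := lt_of_le_of_ne (Finset.card_le_card fun r hr => by
        rw [Finset.mem_filter] at hr ⊢
        exact ⟨hr.1, hr.2.1, hr.2.2.1, hr.2.2.1⟩) hne.symm
      let v : {x // x ≠ a} → ({q : G ⧸ H // inc q a} → ℚ) := fun x q => if inc q.1 x.1 then 1 else 0
      have hdot : ∀ x y : {x // x ≠ a}, ∑ q, v x q * v y q = (N a x.1 y.1 : ℚ) := by
        intro x y
        simp only [v, ite_mul, one_mul, zero_mul, ← ite_and]
        rw [Finset.sum_boole]
        norm_cast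
        refine Finset.card_bij (fun q _ => q.1) (fun q hq => ?_)
          (fun q _ r _ h => Subtype.ext h) (fun q hq => ?_)
        · simp only [Finset.mem_filter, Finset.mem_univ, true_and] at hq ⊢
          exact ⟨q.2, hq⟩
        · simp only [Finset.mem_filter, Finset.mem_univ, true_and] at hq
          exact ⟨⟨q, hq.1⟩, by simp [hq.2], rfl⟩
      have hli : LinearIndependent ℚ v := by
        rw [Fintype.linearIndependent_iff]
        intro w hw
        have h1 : ∀ y, ((N a b b : ℚ) - N a b c) * w y + N a b c * ∑ x, w x = 0 := by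
          intro y
          have h2 : ∑ q, (∑ x, w x • v x) q * v y q = 0 := by rw [hw]; simp
          simp only [Finset.sum_apply, Pi.smul_apply, smul_eq_mul, Finset.sum_mul, mul_assoc] at h2
          rw [Finset.sum_comm] at h2
          simp only [← Finset.mul_sum, hdot] at h2
          rw [← h2, Finset.mul_sum, ← Finset.add_sum_erase _ _ (Finset.mem_univ y),
            ← Finset.add_sum_erase _ _ (Finset.mem_univ y), hl y.1 y.2,
            Finset.sum_congr rfl (fun x hx => show (N a b c : ℚ) * w x = w x * (N a x.1 y.1 : ℚ) by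
              rw [hm x.1 y.1 x.2 y.2 (fun h => Finset.ne_of_mem_erase hx (Subtype.ext h)), mul_comm])]
          ring
        have h3 : ∀ y, w y = (-(N a b c : ℚ) * ∑ x, w x) / ((N a b b : ℚ) - N a b c) := by
          intro y
          have : ((N a b b : ℚ) - N a b c) ≠ 0 := sub_ne_zero.2 (by exact_mod_cast hne)
          rw [eq_div_iff this]
          linear_combination h1 y
        have h4 : ∑ x, w x = 0 := by
          by_contra h4
          have h5 : (∑ x, w x) * (((N a b b : ℚ) - N a b c) +
              Fintype.card {x // x ≠ a} * N a b c) = 0 := by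
            have := Finset.sum_congr rfl (fun y (_ : y ∈ Finset.univ) => h1 y)
            rw [Finset.sum_add_distrib, ← Finset.mul_sum, Finset.sum_const, Finset.sum_const_zero,
              Finset.card_univ, nsmul_eq_mul] at this
            linear_combination this
          have h6 : (N a b c : ℚ) < N a b b := by exact_mod_cast hle
          have h7 : (0 : ℚ) ≤ Fintype.card {x // x ≠ a} * N a b c :=
            mul_nonneg (Nat.cast_nonneg _) (Nat.cast_nonneg _)
          rcases mul_eq_zero.1 h5 with h | h
          · exact h4 h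
          · linarith
        intro y
        rw [h3 y, h4, mul_zero, zero_div]
      have hrank := hli.fintype_card_le_finrank
      rw [Module.finrank_fintype_fun_eq_card, Fintype.card_subtype_compl, Fintype.card_subtype_eq, hα,
        Fintype.card_subtype] at hrank
      have h8 : (Finset.univ.filter (fun q => inc q a)).card = O.card := by
        rw [← hrep a]
        simp [N]
      rw [h8] at hrank
      have hcompl : Oᶜ.card = 1 := by
        rw [Finset.card_compl, hα]
        omega
      obtain ⟨d, hd⟩ := Finset.card_eq_one.1 hcompl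
      refine ⟨d, fun h hh => ?_⟩
      have h9 : h • d ∈ Oᶜ := by
        have hdO : d ∈ Oᶜ := hd ▸ Finset.mem_singleton_self d
        simp only [O, Finset.mem_compl, Finset.mem_filter, Finset.mem_univ, true_and] at hdO ⊢
        exact fun h10 => hdO ((hOinv ⟨h, hh⟩ d).1 h10)
      rwa [hd, Finset.mem_singleton] at h9

end Cfsg.Agent.S0677
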