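import Cfsg.Statements.S0681
import Mathlib

set_option autoImplicit false
open Cfsg

namespace Cfsg.Agent.S0681

theorem zero_mul' {F : Type*} [NearField F] (a : F) : (0 : F) * a = 0 := by
  have h := NearField.right_distrib (0 : F) 0 a
  rw [add_zero] at h
  exact left_eq_add.1 h

theorem mul_ne_zero' {F : Type*} [NearField F] {a b : F} (ha : a ≠ 0) (hb : b ≠ 0) : a * b ≠ 0 := by
  intro h
  obtain ⟨b', h1, h2⟩ := NearField.exists_inv b hb
  apply ha
  rw [← mul_one a, ← h1, ← mul_assoc, h, zero_mul']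

theorem neg_mul' {F : Type*} [NearField F] (a b : F) : (-a) * b = -(a * b) := by
  rw [← add_eq_zero_iff_eq_neg, ← NearField.right_distrib, neg_add_cancel, zero_mul']


/-- The affine maps `x ↦ x * a + b`, `a ≠ 0`, of a near-field form a sharply doubly transitive permutation group. -/
theorem result {F : Type*} [Cfsg.NearField F] : ∃ H : Subgroup (Equiv.Perm F), (∀ σ : Equiv.Perm F, σ ∈ H ↔ ∃ a b : F, a ≠ 0 ∧ ∀ x : F, σ x = x * a + b) ∧ MulAction.IsMultiplyPretransitive H F 2 ∧ ∀ x : Fin 2 ↪ F, MulAction.stabilizer H x = ⊥ := by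
  let H : Subgroup (Equiv.Perm F) :=
    { carrier := {σ | ∃ a b : F, a ≠ 0 ∧ ∀ x : F, σ x = x * a + b}
      one_mem' := ⟨1, 0, fun h => NearField.zero_ne_one h.symm, fun x => by simp⟩
      mul_mem' := by
        rintro σ τ ⟨a, b, ha, hσ⟩ ⟨c, d, hc, hτ⟩
        refine ⟨c * a, d * a + b, mul_ne_zero' hc ha, fun x => ?_⟩
        rw [Equiv.Perm.coe_mul, Function.comp_apply, hτ, hσ, NearField.right_distrib, mul_assoc,
          add_assoc]
      inv_mem' := by
        rintro σ ⟨a, b, ha, hσ⟩
        obtain ⟨a', h1, h2⟩ := NearField.exists_inv a ha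
        refine ⟨a', (-b) * a', ?_, fun x => ?_⟩
        · intro h; rw [h, NearField.mul_zero] at h1; exact NearField.zero_ne_one h1
        · apply σ.injective
          rw [Equiv.Perm.coe_inv, Equiv.apply_symm_apply, hσ, ← NearField.right_distrib, mul_assoc,
            h2, mul_one, add_assoc, neg_add_cancel, add_zero] }
  have h2 : MulAction.IsMultiplyPretransitive H F 2 := by
    rw [MulAction.is_two_pretransitive_iff]
    intro x y u v hxy huv
    have main : ∀ u v : F, u ≠ v → ∃ σ : H, σ • (0 : F) = u ∧ σ • (1 : F) = v := by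
      intro u v huv
      have ha : -u + v ≠ 0 := fun h => huv (by rw [← neg_inj]; exact eq_neg_of_add_eq_zero_left h |>.trans rfl)
      have ha' : v + -u ≠ 0 := fun h => huv (add_neg_eq_zero.1 h).symm
      obtain ⟨a', h1, h2⟩ := NearField.exists_inv (v + -u) ha'
      have ha'' : a' ≠ 0 := fun h => by rw [h, NearField.mul_zero] at h1; exact NearField.zero_ne_one h1
      let σ : Equiv.Perm F :=
        { toFun := fun x => x * (v + -u) + u
          invFun := fun x => (x + -u) * a'
          left_inv := fun x => by simp [add_assoc, mul_assoc, h1]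
          right_inv := fun x => by simp [add_assoc, mul_assoc, h2] }
      refine ⟨⟨σ, v + -u, u, ha', fun x => rfl⟩, ?_, ?_⟩
      · change (0 : F) * (v + -u) + u = u
        rw [zero_mul', zero_add]
      · change (1 : F) * (v + -u) + u = v
        rw [one_mul, add_assoc, neg_add_cancel, add_zero]
    obtain ⟨σ, hσ0, hσ1⟩ := main x y hxy
    obtain ⟨τ, hτ0, hτ1⟩ := main u v huv
    exact ⟨τ * σ⁻¹, by rw [mul_smul, ← hσ0, inv_smul_smul, hτ0], by rw [mul_smul, ← hσ1, inv_smul_smul, hτ1]⟩
  refine ⟨H, fun σ => Iff.rfl, h2, fun x => ?_⟩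
  rw [Subgroup.eq_bot_iff_forall]
  rintro ⟨σ, a, b, ha, hσ⟩ hfix
  apply Subtype.ext
  ext z
  have h0 : σ (x 0) = x 0 := DFunLike.congr_fun (show _ = x from hfix) 0
  have h1 : σ (x 1) = x 1 := DFunLike.congr_fun (show _ = x from hfix) 1
  rw [hσ] at h0 h1
  have hb : b = -(x 1 * a) + x 1 := by
    rw [eq_neg_add_iff_add_eq]; exact h1
  have hd : (x 0 + -x 1) * a = x 0 + -x 1 := by
    calc (x 0 + -x 1) * a = x 0 * a + -(x 1 * a) := by
          rw [NearField.right_distrib, neg_mul']
      _ = x 0 * a + (b + -x 1) := by rw [hb, add_assoc, add_neg_cancel, add_zero]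
      _ = x 0 + -x 1 := by rw [← add_assoc, h0]
  have hne : x 0 + -x 1 ≠ 0 := fun h => absurd (x.injective (add_neg_eq_zero.1 h)) (by decide)
  obtain ⟨d', hd1, hd2⟩ := NearField.exists_inv _ hne
  have ha1 : a = 1 := by
    have := congrArg (fun t => d' * t) hd
    simp only [← mul_assoc, hd2, one_mul] at this
    exact this
  have hb0 : b = 0 := by
    rw [ha1, mul_one] at h1
    simpa using h1
  simp [hσ, ha1, hb0]

end Cfsg.Agent.S0681
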