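import Cfsg.Statements.S0682
import Mathlib

set_option autoImplicit false
open Cfsg

namespace Cfsg.Agent.S0682

/-- A finite near-field has prime-power order; its additive group is commutative of prime exponent. -/
theorem result {F : Type*} [Cfsg.NearField F] [Finite F] : ∃ p j : ℕ, p.Prime ∧ 1 ≤ j ∧ Nat.card F = p ^ j ∧ (∀ x y : F, x + y = y + x) ∧ ∀ x : F, p • x = 0 := by
  classical
  have z0 : ∀ a : F, (0 : F) * a = 0 := by
    intro a
    have h := NearField.right_distrib (0 : F) 0 a
    rw [add_zero] at h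
    exact left_eq_add.1 h
  have hhom : ∀ x y : F, x ≠ 0 → ∃ f : F →+ F, f x = y := by
    intro x y hx
    obtain ⟨x', -, hx'⟩ := NearField.exists_inv x hx
    obtain ⟨x'', hx1, -⟩ := NearField.exists_inv x hx
    exact ⟨AddMonoidHom.mk' (fun t => t * (x'' * y)) (fun a b => NearField.right_distrib a b _),
      by simp [← mul_assoc, hx1]⟩
  have h10 : (1 : F) ≠ 0 := fun h => NearField.zero_ne_one h.symm
  have hpos : 0 < addOrderOf (1 : F) := (isOfFinAddOrder_of_finite (1 : F)).addOrderOf_pos
  set m := addOrderOf (1 : F)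
  have hm1 : m ≠ 1 := fun h => h10 (AddMonoid.addOrderOf_eq_one_iff.1 h)
  have hexp : ∀ x : F, m • x = 0 := by
    intro x
    obtain ⟨f, hf⟩ := hhom 1 x h10
    rw [← hf, ← map_nsmul, addOrderOf_nsmul_eq_zero, map_zero]
  have hp : m.Prime := by
    obtain ⟨d, hd⟩ := Nat.minFac_dvd m
    have hq := Nat.minFac_prime hm1
    have hdm : d < m := by
      rw [hd]
      refine lt_mul_of_one_lt_left ?_ hq.one_lt
      rcases Nat.eq_zero_or_pos d with h | h
      · rw [h, mul_zero] at hd; omega
      · exact h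
    rcases Nat.eq_zero_or_pos d with h | h
    · rw [h, mul_zero] at hd; omega
    have hx : d • (1 : F) ≠ 0 := fun h0 => by
      have := Nat.le_of_dvd h (addOrderOf_dvd_of_nsmul_eq_zero h0)
      change m ≤ d at this
      omega
    obtain ⟨f, hf⟩ := hhom (d • (1 : F)) 1 hx
    have : m.minFac • (1 : F) = 0 := by
      rw [← hf, ← map_nsmul, ← mul_nsmul, mul_comm, ← hd, addOrderOf_nsmul_eq_zero, map_zero]
    have := Nat.le_of_dvd hq.pos (addOrderOf_dvd_of_nsmul_eq_zero this)
    change m ≤ m.minFac at this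
    rw [show m = m.minFac from le_antisymm this (Nat.minFac_le hpos)]
    exact hq
  have := Fact.mk hp
  have hP : IsPGroup m (Multiplicative F) := fun x => ⟨1, by
    rw [pow_one]; exact Multiplicative.toAdd.injective (hexp x.toAdd)⟩
  have : Nontrivial (Multiplicative F) := ⟨⟨Multiplicative.ofAdd 0, Multiplicative.ofAdd 1, by
    exact fun h => NearField.zero_ne_one (congrArg Multiplicative.toAdd h)⟩⟩
  obtain ⟨⟨c, hc⟩, hc1⟩ := @exists_ne _ hP.center_nontrivial 1
  have hc0 : c.toAdd ≠ 0 := fun h => hc1 (Subtype.ext (by simpa using h))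
  have hcomm : ∀ x y : F, x + y = y + x := by
    intro x y
    obtain ⟨c', -, hc'⟩ := NearField.exists_inv c.toAdd hc0
    obtain ⟨c'', hc1', -⟩ := NearField.exists_inv c.toAdd hc0
    by_cases hx : x = 0
    · simp [hx]
    have hu : c'' * x ≠ 0 := by
      intro h
      apply hx
      calc x = c.toAdd * c'' * x := by rw [hc1', one_mul]
        _ = c.toAdd * 0 := by rw [mul_assoc, h]
        _ = 0 := NearField.mul_zero _
    obtain ⟨u', hu1, hu2⟩ := NearField.exists_inv _ hu
    have hcc : ∀ w : F, w + c.toAdd = c.toAdd + w := fun w =>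
      congrArg Multiplicative.toAdd (Subgroup.mem_center_iff.1 hc (Multiplicative.ofAdd w))
    have := congrArg (· * (c'' * x)) (hcc (y * u'))
    simp only [NearField.right_distrib] at this
    rw [mul_assoc, hu2, mul_one, ← mul_assoc, hc1', one_mul] at this
    exact this.symm
  obtain ⟨j, hj⟩ := IsPGroup.iff_card.1 hP
  refine ⟨m, j, hp, ?_, hj, hcomm, hexp⟩
  by_contra h
  have hj0 : j = 0 := by omega
  rw [hj0, pow_zero] at hj
  have := (Nat.card_eq_one_iff_unique.1 hj).1
  exact false_of_nontrivial_of_subsingleton (Multiplicative F)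

end Cfsg.Agent.S0682
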