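import Cfsg.Agent.Lib.Block.SharpTwoPoints
import Cfsg.Statements.S0683
-- import your own Cfsg.Agent.* helpers here

set_option autoImplicit false
open Cfsg

namespace Cfsg.Agent.S0683

/-- A finite sharply doubly transitive permutation group is the affine group of a near-field: the permuted set carries a near-field structure for which the group consists exactly of the maps `x ↦ x * a + b` with `a ≠ 0`. -/
theorem result {α : Type*} [Fintype α] [DecidableEq α] (H : Subgroup (Equiv.Perm α)) [MulAction.IsMultiplyPretransitive H α 2] (hsharp : ∀ x : Fin 2 ↪ α, MulAction.stabilizer H x = ⊥) (h2 : 2 ≤ Fintype.card α) : ∃ _ : Cfsg.NearField α, ∀ σ : Equiv.Perm α, σ ∈ H ↔ ∃ a b : α, a ≠ 0 ∧ ∀ x : α, σ x = x * a + b := by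
  classical
  have hS := Cfsg.Agent.Block.SharpPoints.sharp_of_perm H hsharp
  obtain ⟨p, j, N, hp, hj, hcard, hNcard, hmem, hNn, hcomm, hexp, htrans, hidx⟩ :=
    hS.exists_translations (by rw [Nat.card_eq_fintype_card]; exact h2)
  obtain ⟨o, u, hou⟩ := Fintype.one_lt_card_iff.1 (by omega : 1 < Fintype.card α)
  choose t htN hto using fun b : α => htrans o b
  have hNeq : ∀ x ∈ N, ∀ y ∈ N, ∀ a : α, x • a = y • a → x = y := fun x hx y hy a e => by
    by_contra hne
    have h1 : y⁻¹ * x ≠ 1 := fun h => hne (inv_mul_eq_one.1 h).symm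
    exact ((hmem _).1 (N.mul_mem (N.inv_mem hy) hx)).resolve_left h1 a (by
      rw [mul_smul]; exact inv_smul_eq_iff.2 e)
  have tuniq : ∀ x ∈ N, ∀ b : α, x • o = b → x = t b := fun x hx b e =>
    hNeq x hx (t b) (htN b) o (e.trans (hto b).symm)
  have hm : ∀ a : α, ∃ k : H, a ≠ o → k • o = o ∧ k • u = a := fun a => by
    by_cases ha : a = o
    · exact ⟨1, fun h => absurd ha h⟩
    · obtain ⟨k, hk⟩ := hS.trans o u o a hou (Ne.symm ha)
      exact ⟨k, fun _ => hk⟩
  choose m hm using hm
  have muniq : ∀ k : H, k • o = o → ∀ a : α, a ≠ o → k • u = a → k = m a := fun k hk a ha e => by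
    refine inv_mul_eq_one.1 (hS.free (k⁻¹ * m a) o u hou ?_ ?_)
    · rw [mul_smul, (hm a ha).1]; exact inv_smul_eq_iff.2 hk.symm
    · rw [mul_smul, (hm a ha).2]; exact inv_smul_eq_iff.2 e.symm
  let add : α → α → α := fun a b => t b • a
  let mul : α → α → α := fun x a => if a = o then o else m a • x
  have add_comm' : ∀ a b, add a b = add b a := fun a b => by
    show t b • a = t a • b
    calc t b • a = t b • t a • o := by rw [hto a]
      _ = t a • t b • o := by rw [← mul_smul, hcomm _ (htN b) _ (htN a), mul_smul]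
      _ = t a • b := by rw [hto b]
  have t_add : ∀ a b, t (add a b) = t b * t a := fun a b =>
    (tuniq _ (N.mul_mem (htN b) (htN a)) _ (by rw [mul_smul, hto a])).symm
  have t_o : t o = 1 := (tuniq 1 N.one_mem o (one_smul H o)).symm
  have m_u : m u = 1 := (muniq 1 (one_smul H o) u hou.symm (one_smul H u)).symm
  have m_ne : ∀ a x : α, a ≠ o → x ≠ o → m a • x ≠ o := fun a x ha hx e =>
    hx (MulAction.injective (m a) (e.trans (hm a ha).1.symm))
  have mul_assoc' : ∀ x a b, mul (mul x a) b = mul x (mul a b) := fun x a b => by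
    show (if b = o then o else m b • (if a = o then o else m a • x)) =
      if (if b = o then o else m b • a) = o then o else m (if b = o then o else m b • a) • x
    by_cases hb : b = o
    · simp [hb]
    by_cases ha : a = o
    · simp [ha, hb, (hm b hb).1]
    rw [if_neg hb, if_neg ha, if_neg hb, if_neg (m_ne b a hb ha), ← mul_smul]
    congr 1
    refine muniq (m b * m a) ?_ _ (m_ne b a hb ha) ?_
    · rw [mul_smul, (hm a ha).1, (hm b hb).1]
    · rw [mul_smul, (hm a ha).2]
  have distrib : ∀ x y a, mul (add x y) a = add (mul x a) (mul y a) := fun x y a => by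
    show (if a = o then o else m a • t y • x) = t (if a = o then o else m a • y) • (if a = o then o else m a • x)
    by_cases ha : a = o
    · simp [ha, t_o]
    rw [if_neg ha, if_neg ha, if_neg ha, ← tuniq (m a * t y * (m a)⁻¹) (hNn.conj_mem _ (htN y) (m a)) (m a • y)
      (by rw [mul_smul, mul_smul, inv_smul_eq_iff.2 (hm a ha).1.symm, hto])]
    rw [mul_smul, mul_smul, inv_smul_smul]
  letI iA : AddGroup α :=
    { add := add
      zero := o
      neg := fun a => (t a)⁻¹ • o
      add_assoc := fun a b c => by
        show t c • t b • a = t (t c • b) • a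
        rw [show t (t c • b) = t c * t b from t_add b c, mul_smul]
      zero_add := fun a => hto a
      add_zero := fun a => by
        show t o • a = a
        rw [t_o, one_smul]
      neg_add_cancel := fun a => by
        show t a • (t a)⁻¹ • o = o
        rw [smul_inv_smul]
      nsmul := @nsmulRec α ⟨o⟩ ⟨add⟩
      zsmul := @zsmulRec α ⟨o⟩ ⟨add⟩ ⟨fun a => (t a)⁻¹ • o⟩ (@nsmulRec α ⟨o⟩ ⟨add⟩) }
  letI iM : Monoid α :=
    { mul := mul
      one := u
      mul_assoc := mul_assoc'
      one_mul := fun a => by
        show (if a = o then o else m a • u) = a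
        by_cases ha : a = o
        · rw [if_pos ha, ha]
        · rw [if_neg ha, (hm a ha).2]
      mul_one := fun a => by
        show (if u = o then o else m u • a) = a
        rw [if_neg hou.symm, m_u, one_smul] }
  refine ⟨{ iA, iM with
    right_distrib := distrib
    mul_zero := fun a => if_pos rfl
    zero_ne_one := hou
    exists_inv := fun a ha => ?_ }, fun σ => ?_⟩
  · have hb : (m a)⁻¹ • u ≠ o := fun e => hou (by
      rw [inv_smul_eq_iff, (hm a ha).1] at e; exact e.symm)
    refine ⟨(m a)⁻¹ • u, ?_, ?_⟩
    · show (if (m a)⁻¹ • u = o then o else m ((m a)⁻¹ • u) • a) = u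
      rw [if_neg hb, ← muniq (m a)⁻¹ (inv_smul_eq_iff.2 (hm a ha).1.symm) _ hb rfl]
      exact inv_smul_eq_iff.2 (hm a ha).2.symm
    · show (if a = o then o else m a • (m a)⁻¹ • u) = u
      rw [if_neg (show a ≠ o from ha), smul_inv_smul]
  · constructor
    · intro hσ
      set g : H := ⟨σ, hσ⟩ with hg
      set k := (t (g • o))⁻¹ * g with hk
      have hko : k • o = o := by rw [hk, mul_smul]; exact inv_smul_eq_iff.2 (hto _).symm
      have hku : k • u ≠ o := fun e => hou (MulAction.injective k (e.trans hko.symm)).symm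
      refine ⟨k • u, g • o, hku, fun x => ?_⟩
      show g • x = t (g • o) • (if k • u = o then o else m (k • u) • x)
      rw [if_neg hku, ← muniq k hko _ hku rfl, ← mul_smul, hk, mul_inv_cancel_left]
    · rintro ⟨a, b, ha, hσ⟩
      have : σ = ((t b * m a : H) : Equiv.Perm α) := Equiv.ext fun x => by
        rw [hσ]
        show t b • (if a = o then o else m a • x) = t b • m a • x
        rw [if_neg (show a ≠ o from ha)]
      rw [this]
      exact (t b * m a).2

end Cfsg.Agent.S0683
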