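import Cfsg.Agent.Lib.Block.SharplySolvable
import Cfsg.Statements.S0688
-- import your own Cfsg.Agent.* helpers here

set_option autoImplicit false
open Cfsg

namespace Cfsg.Agent.S0688

open Cfsg.Agent.Block.SharpTwo

set_option maxHeartbeats 2000000

/-- Degrees of the soluble exceptional sharply doubly transitive groups: if a solvable linear group over the prime field is regular on the non-zero vectors of `V` and has no irreducible cyclic normal subgroup, then `V` has 25, 49, 121 or 529 elements. -/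
theorem result {p : ℕ} [Fact p.Prime] {V : Type*} [AddCommGroup V] [Module (ZMod p) V] [Finite V] (H : Subgroup (V ≃ₗ[ZMod p] V)) (hreg : ∀ v w : V, v ≠ 0 → w ≠ 0 → ∃! h : H, (h : V ≃ₗ[ZMod p] V) v = w) (hI : ∀ A : Subgroup H, A.Normal → IsCyclic A → ∃ W : Submodule (ZMod p) V, W ≠ ⊥ ∧ W ≠ ⊤ ∧ ∀ a ∈ A, ∀ v ∈ W, ((a : H) : V ≃ₗ[ZMod p] V) v ∈ W) (hsolv : Group.IsSolvable H) : Nat.card V = 25 ∨ Nat.card V = 49 ∨ Nat.card V = 121 ∨ Nat.card V = 529 := by
  classical
  have hp := (Fact.out : p.Prime)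
  have := finite_of (H := H)
  have := RegNZ.nontrivial_of hreg hI
  obtain ⟨A, ⟨hAn, hAc⟩, hAmax⟩ : ∃ A : Subgroup H, (A.Normal ∧ IsMulCommutative A) ∧
      ∀ B : Subgroup H, (B.Normal ∧ IsMulCommutative B) → Nat.card B ≤ Nat.card A := by
    obtain ⟨A, hA, hA'⟩ := Set.exists_max_image {B : Subgroup H | B.Normal ∧ IsMulCommutative B}
      (fun B => Nat.card B) (Set.toFinite _) ⟨⊥, inferInstance, inferInstance⟩
    exact ⟨A, hA, hA'⟩
  have hmax : MaxNormAb A := ⟨hAn, hAc, fun B hB hBc hle =>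
    (Subgroup.eq_of_le_of_card_ge hle (hAmax B ⟨hB, hBc⟩)).symm⟩
  obtain ⟨-, hna⟩ := RegNZ.centralizer_not_abelian hreg hI hmax
  obtain ⟨N, ⟨hNn, hNle, hNna⟩, hNmin⟩ : ∃ N : Subgroup H,
      (N.Normal ∧ N ≤ Subgroup.centralizer (A : Set H) ∧ ¬ IsMulCommutative N) ∧
      ∀ M : Subgroup H, (M.Normal ∧ M ≤ Subgroup.centralizer (A : Set H) ∧ ¬ IsMulCommutative M) →
        Nat.card N ≤ Nat.card M := by
    obtain ⟨N, hN, hN'⟩ := Set.exists_min_image
      {M : Subgroup H | M.Normal ∧ M ≤ Subgroup.centralizer (A : Set H) ∧ ¬ IsMulCommutative M}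
      (fun M => Nat.card M) (Set.toFinite _) ⟨_, inferInstance, le_rfl, hna⟩
    exact ⟨N, hN, hN'⟩
  have hmin : MinNonAb A N := ⟨hNn, hNle, hNna, fun M hM hle hc =>
    Subgroup.eq_of_le_of_card_ge hle (hNmin M ⟨hM, hle.trans hNle, hc⟩)⟩
  obtain ⟨-, hcen, hscal, h2⟩ := RegNZ.plane_consequences hreg hI hmax hmin
  obtain ⟨e⟩ : Nonempty (N ≃* QuaternionGroup 2) := by
    refine (RegNZ.minimal_cases hreg hI hmax hmin).resolve_right fun ⟨e⟩ => ?_
    have hNsol : Group.IsSolvable N := inferInstance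
    have hsl : Group.IsSolvable SL25 := Group.isSolvable_of_surjective (f := e.toMonoidHom) e.surjective
    exact Cfsg.Agent.Grp.Zas.not_isSolvable_of_binaryIco Cfsg.Agent.Grp.Zas.binaryIco_SL25 hsl
  obtain ⟨v, hv⟩ := exists_ne (0 : V)
  choose c hc using hscal
  have hc0 : ∀ a : A, c a a.2 ≠ 0 := fun a h => hv (by
    have := LinearMap.congr_fun (hc a a.2) v
    rw [h, zero_smul] at this
    exact (LinearEquiv.map_eq_zero_iff ((a : H) : V ≃ₗ[ZMod p] V)).1 this)
  let χ : A →* (ZMod p)ˣ := MonoidHom.mk' (fun a => Units.mk0 _ (hc0 a)) fun a b => by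
    refine Units.ext (smul_left_injective (ZMod p) hv ?_)
    show c _ _ • v = (c _ _ * c _ _) • v
    have e1 : toEnd H ((a * b : A) : H) = toEnd H a * toEnd H b := map_mul (toEnd H) _ _
    rw [hc _ (a * b).2, hc _ a.2, hc _ b.2] at e1
    have h := (LinearMap.congr_fun e1 v).symm
    simp only [Module.End.mul_apply, LinearMap.smul_apply, Module.End.one_apply, map_smul] at h
    rw [← h, smul_smul, mul_comm]
  have hA : Nat.card A ∣ p - 1 := by
    rw [← ZMod.card_units p, ← Nat.card_eq_fintype_card]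
    refine Subgroup.card_dvd_of_injective χ fun a b h => Subtype.ext (RegNZ.inj_at hreg hv ?_)
    have h' : c a a.2 = c b b.2 := congrArg Units.val h
    rw [hc a a.2, hc b b.2, h']
  have hidx : A.index ∣ 24 := by
    let φ : H →* MulAut N := MulAut.conjNormal
    have hker : φ.ker = A := by
      rw [← hcen]
      ext x
      rw [MonoidHom.mem_ker, Subgroup.mem_centralizer_iff]
      constructor
      · intro hx n hn
        have h := congrArg Subtype.val (DFunLike.congr_fun hx (⟨n, hn⟩ : N))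
        simp only [φ, MulAut.conjNormal_apply, MulAut.one_apply] at h
        exact (mul_inv_eq_iff_eq_mul.1 h).symm
      · intro hx
        refine MulEquiv.ext fun n => Subtype.ext ?_
        simp only [φ, MulAut.conjNormal_apply, MulAut.one_apply]
        rw [← hx n n.2, mul_inv_cancel_right]
    rw [← hker, Subgroup.index_ker]
    refine (Subgroup.card_subgroup_dvd_card φ.range).trans ?_
    rw [Nat.card_congr (MulAut.congr e).toEquiv]
    exact q8_aut_card_dvd
  have h8 : 8 ∣ Nat.card H := by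
    refine (Dvd.dvd.trans ?_ (Subgroup.card_subgroup_dvd_card N))
    rw [Nat.card_congr e.toEquiv, Nat.card_eq_fintype_card]; decide
  have hV : Nat.card V = p ^ 2 := by
    rw [Module.natCard_eq_pow_finrank (K := ZMod p), Nat.card_zmod, h2]
  have hH : Nat.card H + 1 = p ^ 2 := by rw [RegNZ.card hreg, h2]
  have hp1 : p + 1 ∣ 24 := by
    have h1 : Nat.card H ∣ (p - 1) * 24 := by
      rw [← Subgroup.card_mul_index A]; exact Nat.mul_dvd_mul hA hidx
    rw [show Nat.card H = (p - 1) * (p + 1) by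
      rw [mul_comm, ← Nat.sq_sub_sq, one_pow]; omega] at h1
    exact Nat.dvd_of_mul_dvd_mul_left (Nat.sub_pos_of_lt hp.one_lt) h1
  have hne2 : p ≠ 2 := by rintro rfl; norm_num at hH; omega
  have hne3 : p ≠ 3 := by
    rintro rfl
    -- the cyclic subgroup of order four is irreducible
    have hcard : Nat.card H = 8 := by norm_num at hH; omega
    have hNtop : N = ⊤ := Subgroup.eq_top_of_card_eq N (by
      rw [hcard, Nat.card_congr e.toEquiv, Nat.card_eq_fintype_card]; decide)
    set i : H := (e.symm (QuaternionGroup.a 1) : H) with hidef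
    have hi4 : orderOf i = 4 := by
      rw [hidef, Subgroup.orderOf_coe, MulEquiv.orderOf_eq, QuaternionGroup.orderOf_a_one]
    have hnormal : (Subgroup.zpowers i).Normal := Subgroup.normal_of_index_eq_two (by
      have := Subgroup.card_mul_index (Subgroup.zpowers i)
      rw [Nat.card_zpowers, hi4, hcard] at this
      omega)
    obtain ⟨W, hWb, hWt, hWinv⟩ := hI _ hnormal inferInstance
    obtain ⟨w, hw, hw0⟩ := Submodule.exists_mem_ne_zero_of_ne_bot hWb
    have hW1 : Module.finrank (ZMod 3) W = 1 := by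
      have h1 := Submodule.finrank_lt hWt
      have : Nontrivial W := ⟨⟨⟨w, hw⟩, 0, fun h => hw0 (congrArg Subtype.val h)⟩⟩
      have h0 := Module.finrank_pos (R := ZMod 3) (M := W)
      omega
    have hWspan : Submodule.span (ZMod 3) {w} = W := Submodule.eq_of_le_of_finrank_eq
      (Submodule.span_le.2 (Set.singleton_subset_iff.2 hw)) (by rw [finrank_span_singleton hw0, hW1])
    obtain ⟨s, hs⟩ := Submodule.mem_span_singleton.1
      (hWspan.symm ▸ hWinv i (Subgroup.mem_zpowers i) w hw)
    have hi2 : i * i ≠ 1 := fun h => by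
      have := orderOf_le_of_pow_eq_one two_pos (by rw [pow_two]; exact h : i ^ 2 = 1)
      omega
    have hsq : (i * i) * (i * i) = 1 := by
      rw [← pow_orderOf_eq_one i, hi4]; simp [pow_succ, mul_assoc]
    have hne : toEnd H (i * i) w = -w := by
      have h0 : toEnd H (i * i) w + w = 0 := RegNZ.fpf hreg hi2 (by
        rw [map_add, ← Module.End.mul_apply, ← map_mul, hsq, map_one, Module.End.one_apply, add_comm])
      exact eq_neg_of_add_eq_zero_left h0
    have hs' : toEnd H i w = s • w := hs.symm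
    rw [map_mul, Module.End.mul_apply, hs', map_smul, hs', smul_smul, eq_neg_iff_add_eq_zero] at hne
    nth_rewrite 2 [← one_smul (ZMod 3) w] at hne
    rw [← add_smul, smul_eq_zero] at hne
    have h3 : ∀ s : ZMod 3, s * s + 1 ≠ 0 := fun s => (by decide : ∀ t : Fin 3, t * t + 1 ≠ 0) s
    exact hne.elim (h3 s) hw0
  have hmem : p + 1 ∈ Nat.divisors 24 := Nat.mem_divisors.2 ⟨hp1, by norm_num⟩
  have hp' := (by decide +kernel : ∀ x ∈ Nat.divisors 24, (x - 1).Prime → x - 1 ∈ [2, 3, 5, 7, 11, 23])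
    (p + 1) hmem (by simpa using hp)
  simp only [Nat.add_sub_cancel, List.mem_cons, List.not_mem_nil, or_false] at hp'
  rw [hV]
  rcases hp' with rfl | rfl | rfl | rfl | rfl | rfl <;> simp_all

end Cfsg.Agent.S0688
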