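import Cfsg.Statements.S0690
import Cfsg.Agent.Lib.Grp.Zassenhaus.Basics

set_option autoImplicit false
open Cfsg

namespace Cfsg.Agent.S0690

/-- Zassenhaus: a perfect non-trivial group of fixed-point-free automorphisms of a finite group is isomorphic to `SL(2,5)`. -/
theorem result {K : Type*} [Group K] [Finite K] (G : Subgroup (MulAut K)) (hfpf : ∀ φ ∈ G, φ ≠ 1 → ∀ k : K, φ k = k → k = 1) (hperf : commutator G = ⊤) (hne : G ≠ ⊥) : Nonempty (G ≃* Matrix.SpecialLinearGroup (Fin 2) (ZMod 5)) := by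
  classical
  have : Nontrivial G := G.nontrivial_iff_ne_bot.mpr hne
  obtain ⟨φ, hφ⟩ := exists_ne (1 : G)
  have : Nontrivial K := by
    refine not_subsingleton_iff_nontrivial.mp fun hs => hφ (Subtype.ext (MulEquiv.ext fun k => ?_))
    exact Subsingleton.elim _ _
  have h : Grp.Zas.HasFpf G := Grp.Zas.hasFpf_of_fpf_aut G.subtype fun g hg k hk =>
    hfpf g g.2 (fun e => hg (Subtype.ext e)) k hk
  have hns : ¬ Group.IsSolvable G := fun hs =>
    (Group.IsSolvable.commutator_lt_top_of_nontrivial G).ne hperf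
  obtain ⟨-, M, hM, ⟨e⟩⟩ := h.structure_nonsolvable hns
  set E := Grp.Zas.threeCore G
  have := hM.normal_E
  have := hM.normal_M
  have hab : ∀ N : Subgroup G, ∀ [N.Normal], Group.IsSolvable (G ⧸ N) → N = ⊤ := by
    intro N _ hs
    by_contra hN
    have : Nontrivial (G ⧸ N) := QuotientGroup.nontrivial_iff.mpr hN
    refine (Group.IsSolvable.commutator_lt_top_of_nontrivial (G ⧸ N)).ne ?_
    have h1 := Subgroup.map_commutator ⊤ ⊤ (QuotientGroup.mk' N)
    rw [← commutator_def, hperf, Subgroup.map_top_of_surjective _ (QuotientGroup.mk'_surjective N)] at h1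
    exact h1.symm
  have hEM : E ⊔ M = ⊤ := by
    rcases hM.index with h1 | h2
    · exact Subgroup.index_eq_one.mp h1
    · refine hab _ ?_
      have : Fact (Nat.Prime 2) := ⟨Nat.prime_two⟩
      have : IsCyclic (G ⧸ (E ⊔ M)) := isCyclic_of_prime_card (p := 2) (by rw [← Subgroup.index_eq_card, h2])
      letI := IsCyclic.commGroup (α := G ⧸ (E ⊔ M))
      infer_instance
  have hEtop : E = ⊤ := by
    refine hab E ?_
    have : IsZGroup M := ⟨fun p hp P => by haveI := Fact.mk hp; exact hM.zgroup p P⟩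
    have := Grp.Zas.isSolvable_of_isZGroup (G := M)
    refine Group.isSolvable_of_surjective (f := (QuotientGroup.mk' E).comp M.subtype) ?_
    intro q
    obtain ⟨g, rfl⟩ := QuotientGroup.mk'_surjective E q
    obtain ⟨a, ha, m, hm, rfl⟩ := Subgroup.mem_sup_of_normal_left.mp (hEM ▸ Subgroup.mem_top g)
    refine ⟨⟨m, hm⟩, ?_⟩
    show QuotientGroup.mk' E m = QuotientGroup.mk' E (a * m)
    rw [map_mul, show QuotientGroup.mk' E a = 1 from (QuotientGroup.eq_one_iff a).mpr ha, one_mul]
  exact ⟨(Subgroup.topEquiv.symm.trans (MulEquiv.subgroupCongr hEtop.symm)).trans e⟩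

end Cfsg.Agent.S0690
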