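import Cfsg.Statements.S0691
import Mathlib
import Cfsg.Agent.Lib.Block.MatrixClosure
-- import your own Cfsg.Agent.* helpers here

set_option autoImplicit false
open Cfsg

namespace Cfsg.Agent.S0691

/-- An exceptional sharply doubly transitive group of degree 5^2: the listed matrices generate a subgroup of GL(2,5) of order 24 acting regularly on the non-zero vectors. -/
theorem result (A : Matrix.GeneralLinearGroup (Fin 2) (ZMod 5)) (B : Matrix.GeneralLinearGroup (Fin 2) (ZMod 5)) (C : Matrix.GeneralLinearGroup (Fin 2) (ZMod 5)) (hA : (A : Matrix (Fin 2) (Fin 2) (ZMod 5)) = !![2, 0; 0, -2]) (hB : (B : Matrix (Fin 2) (Fin 2) (ZMod 5)) = !![0, -1; 1, 0]) (hC : (C : Matrix (Fin 2) (Fin 2) (ZMod 5)) = !![1, 2; 1, -2]) : Nat.card (Subgroup.closure ({A, B, C} : Set (Matrix.GeneralLinearGroup (Fin 2) (ZMod 5)))) = 24 ∧ ∀ v w : Fin 2 → ZMod 5, v ≠ 0 → w ≠ 0 → ∃! h : Subgroup.closure ({A,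 B, C} : Set (Matrix.GeneralLinearGroup (Fin 2) (ZMod 5))), Matrix.mulVec ((h : Matrix.GeneralLinearGroup (Fin 2) (ZMod 5)) : Matrix (Fin 2) (Fin 2) (ZMod 5)) v = w := by
  classical
  haveI : Fact (Nat.Prime 5) := ⟨by norm_num⟩
  let gens : List Cfsg.Agent.Block.Quad := [(2, 0, 0, 3), (0, 4, 1, 0), (1, 2, 1, 3)]
  let S : Set (Matrix.GeneralLinearGroup (Fin 2) (ZMod 5)) := {A, B, C}
  have eA : (A : Matrix (Fin 2) (Fin 2) (ZMod 5)) = Cfsg.Agent.Block.quadMat 5 (2, 0, 0, 3) := by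
    rw [hA]; simp [Cfsg.Agent.Block.quadMat]; decide
  have eB : (B : Matrix (Fin 2) (Fin 2) (ZMod 5)) = Cfsg.Agent.Block.quadMat 5 (0, 4, 1, 0) := by
    rw [hB]; simp [Cfsg.Agent.Block.quadMat]; decide
  have eC : (C : Matrix (Fin 2) (Fin 2) (ZMod 5)) = Cfsg.Agent.Block.quadMat 5 (1, 2, 1, 3) := by
    rw [hC]; simp [Cfsg.Agent.Block.quadMat]; decide
  obtain ⟨hc, hmem⟩ := Cfsg.Agent.Block.quad_closure gens S
    (by
      rintro g (rfl | rfl | rfl)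
      · exact ⟨_, List.getElem_mem (n := 0) (by decide : 0 < gens.length), eA⟩
      · exact ⟨_, List.getElem_mem (n := 1) (by decide : 1 < gens.length), eB⟩
      · exact ⟨_, List.getElem_mem (n := 2) (by decide : 2 < gens.length), eC⟩
      )
    (by
      intro i hi
      change i < 3 at hi
      interval_cases i
      · exact ⟨A, by simp [S], eA⟩
      · exact ⟨B, by simp [S], eB⟩
      · exact ⟨C, by simp [S], eC⟩
      )
    [(1, 0, 0, 1), (2, 0, 0, 3), (0, 4, 1, 0), (1, 2, 1, 3), (4, 0, 0, 4), (0, 3, 3, 0), (2, 4, 3, 4), (0, 2, 2, 0), (4, 2, 1, 2), (2, 1, 2, 4), (3, 3, 4, 1), (3, 0, 0, 2), (0, 1, 4, 0), (4, 3, 4, 2), (3, 4, 3, 1), (1, 1, 2, 3), (3, 1, 2, 1), (1, 4, 3, 3), (1, 3, 4, 3), (3, 2, 1, 1), (2, 2, 1, 4), (2, 3, 4, 4), (4, 4, 3, 2), (4, 1, 2, 2)]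
    [[], [0], [1], [2], [0, 0], [1, 0], [2, 0], [0, 1], [2, 1], [0, 2], [2, 2], [0, 0, 0], [1, 0, 0], [2, 0, 0], [2, 1, 0], [2, 2, 0], [0, 2, 1], [2, 2, 1], [1, 0, 2], [2, 0, 2], [2, 2, 0, 0], [2, 2, 1, 0], [2, 0, 2, 1], [2, 1, 0, 2]]
    (by decide +kernel) (by decide +kernel) (by decide +kernel) (by decide +kernel) (by decide +kernel) (by decide +kernel)
  have hf : ∀ h ∈ Subgroup.closure S, ∀ v : Fin 2 → ZMod 5, v ≠ 0 → Matrix.mulVec (h : Matrix (Fin 2) (Fin 2) (ZMod 5)) v = v → h = 1 := by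
    intro h hh v hv e
    obtain ⟨x, hx, hhx⟩ := hmem h hh
    by_cases h1 : x = (1, 0, 0, 1)
    · exact Units.ext (by rw [hhx, h1, Cfsg.Agent.Block.quadMat_one]; rfl)
    · exfalso
      refine hv (Cfsg.Agent.Block.quad_fpf ?_ v (hhx ▸ e))
      have key : ([(1, 0, 0, 1), (2, 0, 0, 3), (0, 4, 1, 0), (1, 2, 1, 3), (4, 0, 0, 4), (0, 3, 3, 0), (2, 4, 3, 4), (0, 2, 2, 0), (4, 2, 1, 2), (2, 1, 2, 4), (3, 3, 4, 1), (3, 0, 0, 2), (0, 1, 4, 0), (4, 3, 4, 2), (3, 4, 3, 1), (1, 1, 2, 3), (3, 1, 2, 1), (1, 4, 3, 3), (1, 3, 4, 3), (3, 2, 1, 1), (2, 2, 1, 4), (2, 3, 4, 4), (4, 4, 3, 2), (4, 1, 2, 2)] : List Cfsg.Agent.Block.Quad).all (fun y => y == (1, 0, 0, 1) ||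
          !((y.1 * y.2.2.2 + 1) % 5 == (y.2.1 * y.2.2.1 + y.1 + y.2.2.2) % 5)) = true := by decide +kernel
      simp only [List.all_eq_true] at key
      simpa [h1] using key x hx
  obtain ⟨hcard, hreg⟩ := Cfsg.Agent.Block.regular_of_fpf (Subgroup.closure S) hf (by rw [hc]; rfl)
  exact ⟨hcard.trans (by norm_num), hreg⟩

end Cfsg.Agent.S0691
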