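import Cfsg.Statements.S0693
import Mathlib
import Cfsg.Agent.Lib.Block.MatrixClosure
-- import your own Cfsg.Agent.* helpers here

set_option autoImplicit false
open Cfsg

namespace Cfsg.Agent.S0693

/-- An exceptional sharply doubly transitive group of degree 59^2: the listed matrices generate a subgroup of GL(2,59) of order 3480 acting regularly on the non-zero vectors. -/
theorem result (A : Matrix.GeneralLinearGroup (Fin 2) (ZMod 59)) (B : Matrix.GeneralLinearGroup (Fin 2) (ZMod 59)) (C : Matrix.GeneralLinearGroup (Fin 2) (ZMod 59)) (hA : (A : Matrix (Fin 2) (Fin 2) (ZMod 59)) = !![0, -1; 1, 0]) (hB : (B : Matrix (Fin 2) (Fin 2) (ZMod 59)) = !![9, 15; -10, -10]) (hC : (C : Matrix (Fin 2) (Fin 2) (ZMod 59)) = !![4, 0; 0, 4]) : Nat.card (Subgroup.closure ({A, B, C} : Set (Matrix.GeneralLinearGroup (Fin 2) (ZMod 59)))) = 3480 ∧ ∀ v w : Fin 2 → ZMod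 59, v ≠ 0 → w ≠ 0 → ∃! h : Subgroup.closure ({A, B, C} : Set (Matrix.GeneralLinearGroup (Fin 2) (ZMod 59))), Matrix.mulVec ((h : Matrix.GeneralLinearGroup (Fin 2) (ZMod 59)) : Matrix (Fin 2) (Fin 2) (ZMod 59)) v = w := by
  classical
  haveI : Fact (Nat.Prime 59) := ⟨by norm_num⟩
  let gens : List Cfsg.Agent.Block.Quad := [(0, 58, 1, 0), (9, 15, 49, 49)]
  let S : Set (Matrix.GeneralLinearGroup (Fin 2) (ZMod 59)) := {A, B}
  have eA : (A : Matrix (Fin 2) (Fin 2) (ZMod 59)) = Cfsg.Agent.Block.quadMat 59 (0, 58, 1, 0) := by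
    rw [hA]; simp [Cfsg.Agent.Block.quadMat]; decide
  have eB : (B : Matrix (Fin 2) (Fin 2) (ZMod 59)) = Cfsg.Agent.Block.quadMat 59 (9, 15, 49, 49) := by
    rw [hB]; simp [Cfsg.Agent.Block.quadMat]; decide
  obtain ⟨hc, hmem⟩ := Cfsg.Agent.Block.quad_closure gens S
    (by
      rintro g (rfl | rfl)
      · exact ⟨_, List.getElem_mem (n := 0) (by decide : 0 < gens.length), eA⟩
      · exact ⟨_, List.getElem_mem (n := 1) (by decide : 1 < gens.length), eB⟩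
      )
    (by
      intro i hi
      change i < 2 at hi
      interval_cases i
      · exact ⟨A, by simp [S], eA⟩
      · exact ⟨B, by simp [S], eB⟩
      )
    [(1, 0, 0, 1), (0, 58, 1, 0), (9, 15, 49, 49), (58, 0, 0, 58), (10, 10, 9, 15), (15, 50, 49, 10), (49, 44, 10, 9), (0, 1, 58, 0), (50, 44, 10, 10), (10, 49, 15, 50), (49, 50, 49, 44), (48, 20, 46, 45), (44, 10, 9, 49), (49, 49, 50, 44), (44, 9, 10, 49), (10, 15, 49, 50), (13, 14, 48, 20), (50, 10, 44, 10), (20, 11, 45, 13), (55, 48, 23, 4), (1, 29, 4, 58), (49, 10, 44, 9), (10, 9, 10, 15), (11, 39, 13, 14), (15, 49, 50, 10), (14, 46, 20, 11), (36, 55, 55, 48), (55, 1, 1, 29), (11, 13, 39, 14), (48, 4, 4, 36), (29, 58, 58, 55), (14, 20, 46, 11), (46, 45, 11, 39), (9, 49, 15, 49), (39, 48, 14, 46), (4, 11, 36, 55), (58, 30, 55, 1), (20, 45, 11, 13), (55, 23, 48, 4), (1, 4, 29, 58), (13, 48,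 14, 20), (28, 35, 34, 32), (38, 31, 30, 54), (35, 32, 31, 25), (45, 13, 39, 48), (23, 4, 4, 11), (4, 58, 58, 30), (48, 46, 20, 45), (11, 55, 55, 23), (30, 1, 1, 4), (45, 39, 13, 48), (25, 27, 28, 35), (29, 5, 38, 31), (28, 34, 35, 32), (35, 31, 32, 25), (31, 21, 54, 29), (32, 24, 25, 28), (54, 28, 29, 38), (39, 14, 48, 46), (4, 36, 11, 55), (58, 55, 30, 1), (46, 11, 45, 39), (31, 24, 25, 27), (21, 28, 29, 5), (24, 27, 28, 34), (27, 34, 35, 31), (5, 30, 31, 21), (34, 31, 32, 24), (30, 21, 54, 28), (5, 38, 38, 53), (10, 19, 19, 48), (28, 5, 38, 30), (34, 32, 31, 24), (30, 54, 21, 28), (31, 25, 24, 27), (24, 28, 27, 34), (28, 38, 5, 30), (27, 35, 34, 31), (5, 31, 30, 21), (21, 6, 5, 38), (40, 11, 10, 19), (21, 29, 28, 5), (38, 54, 53, 21), (19, 49, 48, 40), (18, 19, 45, 41), (25, 16, 42, 34), (32, 25, 24, 28), (54, 29, 28, 38), (25, 28, 27, 35), (29,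 38, 5, 31), (54, 21, 21, 6), (49, 40, 40, 11), (31, 54, 21, 29), (6, 38, 38, 54), (11, 19, 19, 49), (14, 18, 18, 19), (17, 25, 25, 16), (38, 30, 31, 54), (19, 41, 41, 14), (16, 34, 34, 17), (38, 53, 54, 21), (19, 48, 49, 40), (21, 5, 6, 38), (40, 10, 11, 19), (41, 40, 14, 18), (34, 43, 17, 25), (18, 45, 19, 41), (25, 42, 16, 34), (42, 34, 34, 43), (56, 52, 52, 3), (40, 18, 18, 45), (53, 21, 21, 5), (48, 40, 40, 10), (45, 41, 41, 40), (43, 25, 25, 42), (7, 56, 56, 52), (41, 14, 40, 18), (34, 17, 43, 25), (52, 3, 3, 7), (3, 7, 7, 56)]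
    [[], [0], [1], [0, 0], [1, 0], [0, 1], [1, 1], [0, 0, 0], [1, 0, 0], [0, 1, 0], [1, 1, 0], [1, 0, 1], [0, 1, 1], [1, 0, 0, 0], [0, 1, 0, 0], [1, 1, 0, 0], [1, 0, 1, 0], [0, 1, 1, 0], [0, 1, 0, 1], [1, 1, 0, 1], [1, 0, 1, 1], [0, 1, 0, 0, 0], [1, 1, 0, 0, 0], [1, 0, 1, 0, 0], [0, 1, 1, 0, 0], [0, 1, 0, 1, 0], [1, 1, 0, 1, 0], [1, 0, 1, 1, 0], [1, 0, 1, 0, 1], [0, 1, 1, 0, 1], [0, 1, 0, 1, 1], [1, 1, 0, 1, 1], [1, 0, 1, 0, 0, 0], [0, 1, 1, 0, 0, 0], [0, 1, 0, 1, 0, 0], [1, 1, 0, 1, 0, 0], [1, 0, 1, 1, 0, 0], [1, 0, 1, 0, 1, 0], [0, 1, 1, 0, 1, 0], [0, 1, 0, 1, 1, 0], [1, 1, 0, 1, 1, 0], [1, 1, 0, 1, 0, 1], [1, 0, 1, 1, 0, 1], [1, 0, 1, 0, 1, 1], [0, 1, 0, 1, 0, 0, 0], [1, 1, 0, 1, 0, 0, 0], [1, 0, 1, 1, 0, 0, 0], [1, 0, 1, 0, 1, 0, 0], [0, 1, 1, 0, 1, 0, 0], [0, 1, 0, 1, 1, 0, 0], [1, 1, 0, 1, 1, 0, 0], [1, 1, 0, 1, 0, 1, 0], [1, 0, 1, 1, 0, 1,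 0], [1, 0, 1, 0, 1, 1, 0], [0, 1, 1, 0, 1, 0, 1], [0, 1, 0, 1, 1, 0, 1], [1, 1, 0, 1, 1, 0, 1], [1, 1, 0, 1, 0, 1, 1], [1, 0, 1, 0, 1, 0, 0, 0], [0, 1, 1, 0, 1, 0, 0, 0], [0, 1, 0, 1, 1, 0, 0, 0], [1, 1, 0, 1, 1, 0, 0, 0], [1, 1, 0, 1, 0, 1, 0, 0], [1, 0, 1, 1, 0, 1, 0, 0], [1, 0, 1, 0, 1, 1, 0, 0], [0, 1, 1, 0, 1, 0, 1, 0], [0, 1, 0, 1, 1, 0, 1, 0], [1, 1, 0, 1, 1, 0, 1, 0], [1, 1, 0, 1, 0, 1, 1, 0], [1, 0, 1, 1, 0, 1, 0, 1], [1, 0, 1, 0, 1, 1, 0, 1], [0, 1, 1, 0, 1, 0, 1, 1], [1, 1, 0, 1, 0, 1, 0, 0, 0], [1, 0, 1, 1, 0, 1, 0, 0, 0], [1, 0, 1, 0, 1, 1, 0, 0, 0], [0, 1, 1, 0, 1, 0, 1, 0, 0], [0, 1, 0, 1, 1, 0, 1, 0, 0], [1, 1, 0, 1, 1, 0, 1, 0, 0], [1, 1, 0, 1, 0, 1, 1, 0, 0], [1, 0, 1, 1, 0, 1, 0, 1, 0], [1, 0, 1, 0, 1, 1, 0, 1, 0], [0, 1, 1, 0, 1, 0, 1, 1, 0], [0, 1, 0, 1, 1, 0, 1, 0, 1], [1, 1, 0, 1, 1, 0, 1, 0, 1], [1, 1, 0, 1, 0, 1, 1, 0, 1],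 [1, 0, 1, 1, 0, 1, 0, 1, 1], [0, 1, 1, 0, 1, 0, 1, 0, 0, 0], [0, 1, 0, 1, 1, 0, 1, 0, 0, 0], [1, 1, 0, 1, 1, 0, 1, 0, 0, 0], [1, 1, 0, 1, 0, 1, 1, 0, 0, 0], [1, 0, 1, 1, 0, 1, 0, 1, 0, 0], [1, 0, 1, 0, 1, 1, 0, 1, 0, 0], [0, 1, 1, 0, 1, 0, 1, 1, 0, 0], [0, 1, 0, 1, 1, 0, 1, 0, 1, 0], [1, 1, 0, 1, 1, 0, 1, 0, 1, 0], [1, 1, 0, 1, 0, 1, 1, 0, 1, 0], [1, 0, 1, 1, 0, 1, 0, 1, 1, 0], [1, 0, 1, 0, 1, 1, 0, 1, 0, 1], [0, 1, 1, 0, 1, 0, 1, 1, 0, 1], [0, 1, 0, 1, 1, 0, 1, 0, 1, 1], [1, 0, 1, 1, 0, 1, 0, 1, 0, 0, 0], [1, 0, 1, 0, 1, 1, 0, 1, 0, 0, 0], [0, 1, 0, 1, 1, 0, 1, 0, 1, 0, 0], [1, 1, 0, 1, 1, 0, 1, 0, 1, 0, 0], [1, 1, 0, 1, 0, 1, 1, 0, 1, 0, 0], [1, 0, 1, 1, 0, 1, 0, 1, 1, 0, 0], [0, 1, 1, 0, 1, 0, 1, 1, 0, 1, 0], [0, 1, 0, 1, 1, 0, 1, 0, 1, 1, 0], [1, 1, 0, 1, 0, 1, 1, 0, 1, 0, 1], [1, 0, 1, 1, 0, 1, 0, 1, 1, 0, 1], [1, 0, 1, 0, 1, 1, 0, 1, 0, 1, 1],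 [0, 1, 0, 1, 1, 0, 1, 0, 1, 0, 0, 0], [1, 1, 0, 1, 1, 0, 1, 0, 1, 0, 0, 0], [1, 1, 0, 1, 0, 1, 1, 0, 1, 0, 0, 0], [0, 1, 0, 1, 1, 0, 1, 0, 1, 1, 0, 0], [1, 0, 1, 1, 0, 1, 0, 1, 1, 0, 1, 0], [1, 0, 1, 0, 1, 1, 0, 1, 0, 1, 1, 0], [0, 1, 1, 0, 1, 0, 1, 1, 0, 1, 0, 1], [0, 1, 0, 1, 1, 0, 1, 0, 1, 1, 0, 1], [1, 1, 0, 1, 0, 1, 1, 0, 1, 0, 1, 1]]
    (by decide +kernel) (by decide +kernel) (by decide +kernel) (by decide +kernel) (by decide +kernel) (by decide +kernel)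
  have hC29 : (C : Matrix (Fin 2) (Fin 2) (ZMod 59)) = (4 : ZMod 59) • 1 := by
    rw [hC]; ext i j; fin_cases i <;> fin_cases j <;> simp
  have hpow : ∀ k : ℕ, ((C ^ k : Matrix.GeneralLinearGroup (Fin 2) (ZMod 59)) : Matrix (Fin 2) (Fin 2) (ZMod 59)) = ((4 : ZMod 59) ^ k) • 1 := by
    intro k
    rw [Units.val_pow_eq_pow_val, hC29, smul_pow, one_pow]
  set H := Subgroup.closure ({A, B, C} : Set (Matrix.GeneralLinearGroup (Fin 2) (ZMod 59)))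
  have hAB : Subgroup.closure S ≤ H := Subgroup.closure_mono (by
    intro x hx
    rcases hx with rfl | rfl
    · exact Or.inl rfl
    · exact Or.inr (Or.inl rfl))
  have hordC : orderOf C = 29 := by
    haveI : Fact (Nat.Prime 29) := ⟨by norm_num⟩
    refine orderOf_eq_prime ?_ ?_
    · refine Units.ext ?_
      rw [hpow, show ((4 : ZMod 59) ^ 29) = 1 by rfl, one_smul]; rfl
    · intro e
      have := congrArg (fun g : Matrix.GeneralLinearGroup (Fin 2) (ZMod 59) => (g : Matrix (Fin 2) (Fin 2) (ZMod 59)) 0 0) e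
      simp [hC] at this
      rw [show (4 : ZMod 59) = ((4 : ℕ) : ZMod 59) from rfl, show (1 : ZMod 59) = ((1 : ℕ) : ZMod 59) by simp,
        ZMod.natCast_eq_natCast_iff'] at this
      norm_num at this
  have hdec : ∀ h ∈ H, ∃ k : ℕ, k < 29 ∧ ∃ u ∈ Subgroup.closure S, h = C ^ k * u := by
    intro h hh
    rw [← Subgroup.mem_toSubmonoid, Subgroup.closure_toSubmonoid_of_finite] at hh
    induction hh using Submonoid.closure_induction_left with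
    | one => exact ⟨0, by norm_num, 1, one_mem _, by simp⟩
    | mul_left a ha b _ ih =>
      obtain ⟨k, -, u, hu, rfl⟩ := ih
      have hcomm : a * C ^ k = C ^ k * a := by
        apply Units.ext
        rw [Units.val_mul, Units.val_mul, hpow, mul_smul_comm, smul_mul_assoc, mul_one, one_mul]
      rcases ha with rfl | rfl | rfl
      · refine ⟨k % 29, Nat.mod_lt _ (by norm_num), a * u, mul_mem (Subgroup.subset_closure (by simp [S])) hu, ?_⟩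
        conv_rhs => rw [← hordC, pow_mod_orderOf]
        rw [← mul_assoc, hcomm, mul_assoc]
      · refine ⟨k % 29, Nat.mod_lt _ (by norm_num), a * u, mul_mem (Subgroup.subset_closure (by simp [S])) hu, ?_⟩
        conv_rhs => rw [← hordC, pow_mod_orderOf]
        rw [← mul_assoc, hcomm, mul_assoc]
      · refine ⟨(k + 1) % 29, Nat.mod_lt _ (by norm_num), u, hu, ?_⟩
        conv_rhs => rw [← hordC, pow_mod_orderOf]
        rw [← mul_assoc, pow_succ']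
  have hf : ∀ h ∈ H, ∀ v : Fin 2 → ZMod 59, v ≠ 0 → Matrix.mulVec (h : Matrix (Fin 2) (Fin 2) (ZMod 59)) v = v → h = 1 := by
    intro h hh v hv e
    obtain ⟨k, hk, u, hu, rfl⟩ := hdec h hh
    obtain ⟨x, hx, hux⟩ := hmem u hu
    rw [Units.val_mul, hpow, smul_mul_assoc, one_mul, hux] at e
    have hdet : (((4 : ZMod 59) ^ k) • Cfsg.Agent.Block.quadMat 59 x - 1).det = 0 := by
      by_contra hne
      exact hv (Matrix.eq_zero_of_mulVec_eq_zero hne (by rw [Matrix.sub_mulVec, e, Matrix.one_mulVec, sub_self]))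
    have hfour : ((4 : ZMod 59) ^ k) = ((4 ^ k % 59 : ℕ) : ZMod 59) := by
      rw [ZMod.natCast_mod, Nat.cast_pow]; norm_num
    have key : ((List.range 29).all fun k => ([(1, 0, 0, 1), (0, 58, 1, 0), (9, 15, 49, 49), (58, 0, 0, 58), (10, 10, 9, 15), (15, 50, 49, 10), (49, 44, 10, 9), (0, 1, 58, 0), (50, 44, 10, 10), (10, 49, 15, 50), (49, 50, 49, 44), (48, 20, 46, 45), (44, 10, 9, 49), (49, 49, 50, 44), (44, 9, 10, 49), (10, 15, 49, 50), (13, 14, 48, 20), (50, 10, 44, 10), (20, 11, 45, 13), (55, 48, 23, 4), (1, 29, 4, 58), (49, 10, 44, 9), (10, 9, 10, 15), (11, 39, 13, 14), (15, 49, 50, 10), (14, 46, 20, 11), (36, 55, 55, 48), (55, 1, 1, 29), (11, 13, 39, 14), (48, 4, 4, 36), (29, 58, 58, 55), (14, 20, 46, 11), (46, 45, 11, 39), (9, 49, 15, 49), (39, 48, 14, 46), (4, 11, 36, 55), (58, 30, 55, 1), (20, 45, 11, 13), (55, 23, 48, 4), (1, 4, 29, 58),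 (13, 48, 14, 20), (28, 35, 34, 32), (38, 31, 30, 54), (35, 32, 31, 25), (45, 13, 39, 48), (23, 4, 4, 11), (4, 58, 58, 30), (48, 46, 20, 45), (11, 55, 55, 23), (30, 1, 1, 4), (45, 39, 13, 48), (25, 27, 28, 35), (29, 5, 38, 31), (28, 34, 35, 32), (35, 31, 32, 25), (31, 21, 54, 29), (32, 24, 25, 28), (54, 28, 29, 38), (39, 14, 48, 46), (4, 36, 11, 55), (58, 55, 30, 1), (46, 11, 45, 39), (31, 24, 25, 27), (21, 28, 29, 5), (24, 27, 28, 34), (27, 34, 35, 31), (5, 30, 31, 21), (34, 31, 32, 24), (30, 21, 54, 28), (5, 38, 38, 53), (10, 19, 19, 48), (28, 5, 38, 30), (34, 32, 31, 24), (30, 54, 21, 28), (31, 25, 24, 27), (24, 28, 27, 34), (28, 38, 5, 30), (27, 35, 34, 31), (5, 31, 30, 21), (21, 6, 5, 38), (40, 11, 10, 19), (21, 29, 28, 5), (38, 54, 53, 21), (19, 49, 48, 40), (18, 19, 45, 41), (25, 16, 42, 34), (32, 25, 24, 28), (54, 29, 28, 38), (25, 28, 27,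 35), (29, 38, 5, 31), (54, 21, 21, 6), (49, 40, 40, 11), (31, 54, 21, 29), (6, 38, 38, 54), (11, 19, 19, 49), (14, 18, 18, 19), (17, 25, 25, 16), (38, 30, 31, 54), (19, 41, 41, 14), (16, 34, 34, 17), (38, 53, 54, 21), (19, 48, 49, 40), (21, 5, 6, 38), (40, 10, 11, 19), (41, 40, 14, 18), (34, 43, 17, 25), (18, 45, 19, 41), (25, 42, 16, 34), (42, 34, 34, 43), (56, 52, 52, 3), (40, 18, 18, 45), (53, 21, 21, 5), (48, 40, 40, 10), (45, 41, 41, 40), (43, 25, 25, 42), (7, 56, 56, 52), (41, 14, 40, 18), (34, 17, 43, 25), (52, 3, 3, 7), (3, 7, 7, 56)] : List Cfsg.Agent.Block.Quad).all (fun y => (k == 0 && y == (1, 0, 0, 1)) ||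
        !(((4 ^ k % 59) * (4 ^ k % 59) * y.1 * y.2.2.2 + 1) % 59 == ((4 ^ k % 59) * (4 ^ k % 59) * y.2.1 * y.2.2.1 + (4 ^ k % 59) * y.1 + (4 ^ k % 59) * y.2.2.2) % 59))) = true := by decide +kernel
    simp only [List.all_eq_true, List.mem_range] at key
    have h2 := key k hk x hx
    simp only [Bool.or_eq_true, Bool.and_eq_true, beq_iff_eq, Bool.not_eq_true', beq_eq_false_iff_ne] at h2
    rcases h2 with ⟨hk0, hx1⟩ | hne
    · subst hk0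
      rw [pow_zero, one_mul]
      exact Units.ext (by rw [hux, hx1, Cfsg.Agent.Block.quadMat_one]; rfl)
    · exfalso
      apply hne
      rw [← ZMod.natCast_eq_natCast_iff']
      rw [Matrix.det_fin_two] at hdet
      simp [Cfsg.Agent.Block.quadMat] at hdet
      rw [hfour] at hdet
      simp only [Nat.cast_add, Nat.cast_mul, Nat.cast_one]
      linear_combination hdet
  have h120 : (120 : ℕ) ∣ Nat.card H := by
    have h0 : Nat.card (Subgroup.closure S) = 120 := hc.trans (by decide +kernel)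
    exact h0 ▸ Subgroup.card_dvd_of_le hAB
  have h29 : (29 : ℕ) ∣ Nat.card H := by
    rw [← hordC, ← Nat.card_zpowers]
    exact Subgroup.card_dvd_of_le (Subgroup.zpowers_le.2 (Subgroup.subset_closure (by simp)))
  have hdvd : 120 * 29 ∣ Nat.card H := Nat.Coprime.mul_dvd_of_dvd_of_dvd (by norm_num) h120 h29
  obtain ⟨hcard, hreg⟩ := Cfsg.Agent.Block.regular_of_fpf H hf (le_trans (by norm_num) (Nat.le_of_dvd Nat.card_pos hdvd))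
  exact ⟨hcard.trans (by norm_num), hreg⟩

end Cfsg.Agent.S0693
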