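import Cfsg.Statements.S0694
import Mathlib
-- import your own Cfsg.Agent.* helpers here

set_option autoImplicit false
open Cfsg

namespace Cfsg.Agent.S0694

/-- The Dickson pair condition: for a prime power `q` and `n > 1`, (every prime factor of `n` divides `q - 1`, and `4 ∣ n → 4 ∣ q - 1`) holds exactly when `q ^ n ≡ 1` modulo `n * (q - 1)` but `q ^ i` is not, for `0 < i < n`. -/
theorem result (q n : ℕ) (hq : IsPrimePow q) (hn : 1 < n) : ((∀ r : ℕ, r.Prime → r ∣ n → r ∣ q - 1) ∧ (4 ∣ n → 4 ∣ q - 1)) ↔ (q ^ n ≡ 1 [MOD n * (q - 1)] ∧ ∀ i : ℕ, 0 < i → i < n → ¬ q ^ i ≡ 1 [MOD n * (q - 1)]) := by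
  classical
  have hq2 : 2 ≤ q := hq.two_le
  have hq1 : q - 1 ≠ 0 := by omega
  have hn0 : n ≠ 0 := by omega
  have hpow : ∀ i, i ≠ 0 → q ^ i - 1 ≠ 0 := fun i hi => by
    have := Nat.one_lt_pow hi (by omega : 1 < q)
    omega
  have hdvd : ∀ i, q ^ i ≡ 1 [MOD n * (q - 1)] ↔ n * (q - 1) ∣ q ^ i - 1 := fun i => by
    rw [← Nat.modEq_iff_dvd' (Nat.one_le_pow _ _ (by omega))]
    exact ⟨Nat.ModEq.symm, Nat.ModEq.symm⟩
  -- divisibility by valuations
  have hmul : ∀ i, i ≠ 0 → (∀ r, r.Prime → r ∣ n →
      padicValNat r n + padicValNat r (q - 1) ≤ padicValNat r (q ^ i - 1)) →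
      n * (q - 1) ∣ q ^ i - 1 := by
    intro i hi h
    rw [Nat.dvd_iff_prime_pow_dvd_dvd]
    intro r k hr hk
    have := Fact.mk hr
    rw [padicValNat_dvd_iff_le (mul_ne_zero hn0 hq1), padicValNat.mul hn0 hq1] at hk
    by_cases hrn : r ∣ n
    · rw [padicValNat_dvd_iff_le (hpow i hi)]
      exact hk.trans (h r hr hrn)
    · rw [padicValNat.eq_zero_of_not_dvd hrn, zero_add] at hk
      exact ((pow_dvd_pow r hk).trans pow_padicValNat_dvd).trans (Nat.sub_one_dvd_pow_sub_one q i)
  have hunmul : ∀ i, i ≠ 0 → n * (q - 1) ∣ q ^ i - 1 → ∀ r, r.Prime →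
      padicValNat r n + padicValNat r (q - 1) ≤ padicValNat r (q ^ i - 1) := by
    intro i hi h r hr
    have := Fact.mk hr
    rw [← padicValNat.mul hn0 hq1, ← padicValNat_dvd_iff_le (hpow i hi)]
    exact pow_padicValNat_dvd.trans h
  -- lifting the exponent
  have hodd : ∀ r i, r.Prime → r ≠ 2 → r ∣ q - 1 → i ≠ 0 →
      padicValNat r (q ^ i - 1) = padicValNat r (q - 1) + padicValNat r i := by
    intro r i hr hr2 hrq hi
    have := Fact.mk hr
    have h := padicValNat.pow_sub_pow (p := r) (x := q) (y := 1) (hr.odd_of_ne_two hr2) (by omega)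
      hrq (fun h => by
        have h' := Nat.dvd_sub h hrq
        rw [Nat.sub_sub_self (show 1 ≤ q by omega)] at h'
        exact hr.not_dvd_one h') hi
    rwa [one_pow] at h
  have htwo : ∀ i, 2 ∣ q - 1 → i ≠ 0 → Even i →
      padicValNat 2 (q ^ i - 1) + 1 =
        padicValNat 2 (q + 1) + padicValNat 2 (q - 1) + padicValNat 2 i := by
    intro i hq' hi he
    have := Fact.mk Nat.prime_two
    have h := padicValNat.pow_two_sub_pow (x := q) (y := 1) (by omega) hq' (by omega) hi he
    rwa [one_pow] at h
  have hone : 2 ∣ q - 1 → 1 ≤ padicValNat 2 (q + 1) := fun h => by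
    have := Fact.mk Nat.prime_two
    exact one_le_padicValNat_of_dvd (by omega) (by omega)
  have hgood : ∀ r i, r.Prime → r ∣ q - 1 → i ≠ 0 → r ∣ i →
      padicValNat r i + padicValNat r (q - 1) ≤ padicValNat r (q ^ i - 1) := by
    intro r i hr hrq hi hri
    by_cases h2 : r = 2
    · subst h2
      have h1 := htwo i hrq hi (even_iff_two_dvd.2 hri)
      have h1' := hone hrq
      omega
    · rw [hodd r i hr h2 hrq hi]
      omega
  constructor
  · rintro ⟨h1, h4⟩
    refine ⟨(hdvd n).2 (hmul n hn0 fun r hr hrn => hgood r n hr (h1 r hr hrn) hn0 hrn),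
      fun i hi hin h => ?_⟩
    rw [hdvd] at h
    have hni : n ∣ i := by
      rw [Nat.dvd_iff_prime_pow_dvd_dvd]
      intro r k hr hk
      have := Fact.mk hr
      rw [padicValNat_dvd_iff_le hn0] at hk
      rw [padicValNat_dvd_iff_le (by omega)]
      refine hk.trans ?_
      rcases Nat.eq_zero_or_pos (padicValNat r n) with h0 | h0
      · omega
      have hrn : r ∣ n := dvd_of_one_le_padicValNat h0
      have hrq := h1 r hr hrn
      have hv := hunmul i (by omega) h r hr
      by_cases hr2 : r = 2
      · subst hr2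
        by_cases hie : Even i
        · have h5 := htwo i hrq (by omega) hie
          by_cases hq4 : 4 ∣ q - 1
          · have h6 : padicValNat 2 (q + 1) = 1 := by
              rw [show q + 1 = 2 * ((q + 1) / 2) by omega, padicValNat.mul (by norm_num) (by omega),
                padicValNat.self one_lt_two,
                padicValNat.eq_zero_of_not_dvd (n := (q + 1) / 2) (by omega)]
            omega
          · have h6 : padicValNat 2 n ≤ 1 := by
              by_contra h'
              exact hq4 (h4 ((pow_dvd_pow 2 (show 2 ≤ padicValNat 2 n by omega)).trans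
                pow_padicValNat_dvd))
            have h7 : 1 ≤ padicValNat 2 i := one_le_padicValNat_of_dvd (by omega) hie.two_dvd
            omega
        · exfalso
          have h5 : 2 ^ (padicValNat 2 (q - 1) + 1) ∣ q ^ i - 1 := by
            rw [padicValNat_dvd_iff_le (hpow i (by omega))]; omega
          have h6 : 2 ^ (padicValNat 2 (q - 1) + 1) ∣ q ^ 2 - 1 := by
            rw [pow_succ, show q ^ 2 - 1 = (q - 1) * (q + 1) by
              rw [← one_pow 2, Nat.sq_sub_sq, one_pow, mul_comm]]
            exact mul_dvd_mul pow_padicValNat_dvd (by omega)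
          have h7 := Nat.dvd_gcd h5 h6
          rw [Nat.pow_sub_one_gcd_pow_sub_one, Nat.Coprime.gcd_eq_one (Nat.coprime_two_right.2
            (Nat.not_even_iff_odd.1 hie)), pow_one, padicValNat_dvd_iff_le hq1] at h7
          omega
      · rw [hodd r i hr hr2 hrq (by omega)] at hv
        omega
    exact absurd (Nat.le_of_dvd hi hni) (by omega)
  · rintro ⟨hn', hmin⟩
    rw [hdvd] at hn'
    have hall : ∀ r, r.Prime → r ∣ n → r ∣ q - 1 := by
      by_contra hbad
      push Not at hbad
      obtain ⟨r₁, hr₁, hr₁n, hr₁q⟩ := hbad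
      let Bad := n.primeFactors.filter (fun r => ¬ r ∣ q - 1)
      have hne : Bad.Nonempty :=
        ⟨r₁, Finset.mem_filter.2 ⟨Nat.mem_primeFactors.2 ⟨hr₁, hr₁n, hn0⟩, hr₁q⟩⟩
      set r₀ := Bad.max' hne with hr₀def
      obtain ⟨hr₀', hr₀q⟩ := Finset.mem_filter.1 (Bad.max'_mem hne)
      rw [← hr₀def] at hr₀' hr₀q
      obtain ⟨hr₀, hr₀n, -⟩ := Nat.mem_primeFactors.1 hr₀'
      obtain ⟨i, hi⟩ := hr₀n
      have hi0 : i ≠ 0 := fun h => hn0 (by rw [hi, h, mul_zero])
      have hin : i < n := by
        rw [hi]; exact lt_mul_left (Nat.pos_of_ne_zero hi0) hr₀.one_lt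
      apply hmin i (Nat.pos_of_ne_zero hi0) hin
      rw [hdvd]
      refine hmul i hi0 fun r hr hrn => ?_
      have := Fact.mk hr
      by_cases hrq : r ∣ q - 1
      · have hne' : r ≠ r₀ := fun h => hr₀q (h ▸ hrq)
        have hri : r ∣ i := ((Nat.coprime_primes hr hr₀).2 hne').dvd_of_dvd_mul_left (hi ▸ hrn)
        have h1 : padicValNat r n = padicValNat r i := by
          rw [hi, padicValNat.mul hr₀.ne_zero hi0, padicValNat.eq_zero_of_not_dvd
            (fun h => hne' ((Nat.prime_dvd_prime_iff_eq hr hr₀).1 h)), zero_add]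
        rw [h1]
        exact hgood r i hr hrq hi0 hri
      · rw [padicValNat.eq_zero_of_not_dvd hrq, add_zero, ← padicValNat_dvd_iff_le (hpow i hi0)]
        obtain ⟨e, he⟩ : ∃ e, padicValNat r n = e + 1 :=
          ⟨padicValNat r n - 1, by have := one_le_padicValNat_of_dvd (p := r) hn0 hrn; omega⟩
        have hre : r ^ padicValNat r n ∣ q ^ n - 1 :=
          pow_padicValNat_dvd.trans ((dvd_mul_right n (q - 1)).trans hn')
        have hcop : Nat.Coprime q (r ^ padicValNat r n) := by
          apply Nat.Coprime.pow_right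
          rw [Nat.coprime_comm, hr.coprime_iff_not_dvd]
          intro hrq'
          have h1 : r ∣ q ^ n - 1 := (hrn.trans (dvd_mul_right n (q - 1))).trans hn'
          have h2 := Nat.dvd_sub (dvd_pow hrq' hn0) h1
          rw [Nat.sub_sub_self (Nat.one_le_pow _ _ (by omega))] at h2
          exact hr.not_dvd_one h2
        have hphi : r ^ padicValNat r n ∣ q ^ Nat.totient (r ^ padicValNat r n) - 1 :=
          (Nat.modEq_iff_dvd' (Nat.one_le_pow _ _ (by omega))).1 (Nat.ModEq.pow_totient hcop).symm
        have h7 := Nat.dvd_gcd hre hphi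
        rw [Nat.pow_sub_one_gcd_pow_sub_one] at h7
        refine h7.trans (Nat.pow_sub_one_dvd_pow_sub_one q ?_)
        rw [he, Nat.totient_prime_pow_succ hr, hi]
        by_cases hr0 : r = r₀
        · rw [← hr0]
          have hdiv : r ^ e ∣ i := by
            have h8 : r ^ (e + 1) ∣ r * i := by
              rw [← he, show r * i = n by rw [hi, hr0]]; exact pow_padicValNat_dvd
            rw [pow_succ'] at h8
            exact Nat.dvd_of_mul_dvd_mul_left hr.pos h8
          obtain ⟨m, rfl⟩ := hdiv
          rw [show r * (r ^ e * m) = r ^ e * (r * m) by ring, Nat.gcd_mul_left]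
          refine mul_dvd_mul_left _ ?_
          rw [Nat.Coprime.gcd_mul_left_cancel m (by
            rw [hr.coprime_iff_not_dvd]
            intro h
            have := Nat.le_of_dvd (by have := hr.two_le; omega) h
            have := hr.two_le
            omega)]
          exact Nat.gcd_dvd_left _ _
        · have hlt : r < r₀ := lt_of_le_of_ne (Finset.le_max' _ _
            (Finset.mem_filter.2 ⟨Nat.mem_primeFactors.2 ⟨hr, hrn, hn0⟩, hrq⟩)) hr0
          have hc : Nat.Coprime r₀ (r ^ e * (r - 1)) := by
            refine Nat.Coprime.mul_right (Nat.Coprime.pow_right _ ((Nat.coprime_primes hr₀ hr).2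
              (Ne.symm hr0))) ?_
            rw [hr₀.coprime_iff_not_dvd]
            intro h
            have := Nat.le_of_dvd (by have := hr.two_le; omega) h
            omega
          rw [Nat.Coprime.gcd_mul_left_cancel i hc]
          exact Nat.gcd_dvd_left _ _
    refine ⟨hall, fun h4 => ?_⟩
    by_contra hq4
    have := Fact.mk Nat.prime_two
    have h2q := hall 2 Nat.prime_two (by omega)
    obtain ⟨i, hi⟩ : 2 ∣ n := by omega
    apply hmin i (by omega) (by omega)
    rw [hdvd]
    refine hmul i (by omega) fun r hr hrn => ?_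
    have := Fact.mk hr
    by_cases hr2 : r = 2
    · subst hr2
      have h1 := htwo i h2q (by omega) (even_iff_two_dvd.2 (by omega))
      have h2 : 2 ≤ padicValNat 2 (q + 1) :=
        (padicValNat_dvd_iff_le (by omega)).1 (show 2 ^ 2 ∣ q + 1 by norm_num; omega)
      have h3 : padicValNat 2 n = padicValNat 2 i + 1 := by
        rw [hi, padicValNat.mul (by norm_num) (by omega), padicValNat.self one_lt_two, add_comm]
      omega
    · have hri : r ∣ i := ((Nat.coprime_primes hr Nat.prime_two).2 hr2).dvd_of_dvd_mul_left (hi ▸ hrn)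
      have h3 : padicValNat r n = padicValNat r i := by
        rw [hi, padicValNat.mul (by norm_num) (by omega), padicValNat.eq_zero_of_not_dvd
          (fun h => hr2 ((Nat.prime_dvd_prime_iff_eq hr Nat.prime_two).1 h)), zero_add]
      rw [h3]
      exact hgood r i hr (hall r hr hrn) (by omega) hri

end Cfsg.Agent.S0694
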