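import Cfsg.Statements.S0701
import Mathlib

set_option autoImplicit false
open Cfsg

namespace Cfsg.Agent.S0701

/-- The centraliser in the full symmetric group of a transitive permutation group `G` is semiregular, and it is transitive if and only if `G` is regular. -/
theorem result {α : Type*} (G : Subgroup (Equiv.Perm α)) [MulAction.IsPretransitive G α] : (∀ c ∈ Subgroup.centralizer (G : Set (Equiv.Perm α)), ∀ a : α, c a = a → c = 1) ∧ (MulAction.IsPretransitive (Subgroup.centralizer (G : Set (Equiv.Perm α))) α ↔ ∀ a : α, MulAction.stabilizer G a = ⊥) := by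
  refine ⟨?_, ?_, ?_⟩
  · intro c hc a hca
    ext x
    obtain ⟨g, rfl⟩ := MulAction.exists_smul_eq G a x
    have := DFunLike.congr_fun (hc (g : Equiv.Perm α) g.2) a
    simp only [Equiv.Perm.coe_mul, Function.comp_apply] at this
    rw [hca] at this
    simpa [Subgroup.smul_def] using this.symm
  · intro hC a
    rw [Subgroup.eq_bot_iff_forall]
    intro g hg
    apply Subtype.ext
    ext b
    obtain ⟨⟨c, hc⟩, rfl⟩ := MulAction.exists_smul_eq (Subgroup.centralizer (G : Set (Equiv.Perm α))) a b
    have := DFunLike.congr_fun (hc (g : Equiv.Perm α) g.2) a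
    simp only [Equiv.Perm.coe_mul, Function.comp_apply] at this
    have hga : (g : Equiv.Perm α) a = a := hg
    rw [hga] at this
    simpa [Subgroup.smul_def] using this
  · intro hreg
    rw [MulAction.isPretransitive_iff]
    intro a b
    have inj : ∀ x : α, Function.Injective (fun g : G => g • x) := by
      intro x g h hgh
      have : h⁻¹ * g ∈ MulAction.stabilizer G x := by
        simp only at hgh
        simp [MulAction.mem_stabilizer_iff, mul_smul, hgh]
      rw [hreg x, Subgroup.mem_bot, inv_mul_eq_one] at this
      exact this.symm
    let e := fun x : α => Equiv.ofBijective (fun g : G => g • x)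
      ⟨inj x, fun y => MulAction.exists_smul_eq G x y⟩
    have key : ∀ g : G, ((e a).symm.trans (e b)) (g • a) = g • b := by
      intro g
      rw [Equiv.trans_apply, show g • a = e a g from rfl, Equiv.symm_apply_apply]
      rfl
    refine ⟨⟨(e a).symm.trans (e b), ?_⟩, ?_⟩
    · intro h hh
      ext x
      obtain ⟨g, rfl⟩ := MulAction.exists_smul_eq G a x
      simp only [Equiv.Perm.coe_mul, Function.comp_apply]
      rw [key, show h (g • a) = ((⟨h, hh⟩ : G) * g) • a by rw [mul_smul]; rfl, key, mul_smul]
      rfl
    · have := key 1
      rw [one_smul, one_smul] at this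
      exact this

end Cfsg.Agent.S0701
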