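import Cfsg.Statements.S0702
import Mathlib
-- import your own Cfsg.Agent.* helpers here

set_option autoImplicit false
open Cfsg

namespace Cfsg.Agent.S0702

/-- For a transitive permutation group `G` on a finite set, the centraliser of `G` in the symmetric group is isomorphic to `N_G(G_ω)/G_ω`, and its orbit of `ω` is the set of fixed points of `G_ω`. -/
theorem result {α : Type*} [Finite α] (G : Subgroup (Equiv.Perm α)) [MulAction.IsPretransitive G α] (a : α) : Nonempty (Subgroup.centralizer (G : Set (Equiv.Perm α)) ≃* Subgroup.normalizer ((MulAction.stabilizer G a : Subgroup G) : Set G) ⧸ (MulAction.stabilizer G a).subgroupOf (Subgroup.normalizer ((MulAction.stabilizer G a : Subgroup G) : Set G))) ∧ MulAction.orbit (Subgroup.centralizer (G : Set (Equiv.Perm α))) a = MulAction.fixedPoints (MulAction.stabilizer G a) α := by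
  classical
  set K := MulAction.stabilizer G a with hK
  set N := Subgroup.normalizer (K : Set G) with hN
  set C := Subgroup.centralizer (G : Set (Equiv.Perm α))
  have hcomm : ∀ c ∈ C, ∀ (g : G) (x : α), c (g • x) = g • c x := by
    intro c hc g x
    exact (Equiv.Perm.congr_fun (Subgroup.mem_centralizer_iff.1 hc g g.2) x).symm
  have hrep : ∀ x : α, ∃ g : G, g • a = x := fun x => MulAction.exists_smul_eq G a x
  have hrep' := hrep
  choose rep hrep using hrep
  have hn_fix : ∀ n ∈ N, ∀ k ∈ K, (k * n) • a = n • a := by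
    intro n hn k hk
    have h1 : n⁻¹ * k * n ∈ K := by simpa using (Subgroup.mem_normalizer_iff.1 (inv_mem hn) k).1 hk
    calc (k * n) • a = (n * (n⁻¹ * k * n)) • a := by group
      _ = n • ((n⁻¹ * k * n) • a) := mul_smul _ _ _
      _ = n • a := by rw [MulAction.mem_stabilizer_iff.1 h1]
  have hwd : ∀ n ∈ N, ∀ g h : G, g • a = h • a → (g * n) • a = (h * n) • a := by
    intro n hn g h hgh
    have hk : h⁻¹ * g ∈ K := by
      rw [hK, MulAction.mem_stabilizer_iff, mul_smul, hgh, inv_smul_smul]
    have := hn_fix n hn _ hk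
    calc (g * n) • a = h • ((h⁻¹ * g * n) • a) := by rw [← mul_smul]; congr 1; group
      _ = h • (n • a) := by rw [this]
      _ = (h * n) • a := (mul_smul _ _ _).symm
  let mk : N → Equiv.Perm α := fun n =>
    { toFun := fun x => (rep x * (n : G)) • a
      invFun := fun x => (rep x * (n : G)⁻¹) • a
      left_inv := fun x => by
        show (rep ((rep x * (n : G)) • a) * (n : G)⁻¹) • a = x
        rw [hwd _ (inv_mem n.2) _ (rep x * (n : G)) (hrep _), mul_inv_cancel_right, hrep]
      right_inv := fun x => by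
        show (rep ((rep x * (n : G)⁻¹) • a) * (n : G)) • a = x
        rw [hwd _ n.2 _ (rep x * (n : G)⁻¹) (hrep _), inv_mul_cancel_right, hrep] }
  have hmk_apply : ∀ (n : N) (g : G), mk n (g • a) = (g * (n : G)) • a := fun n g =>
    hwd _ n.2 _ _ (hrep _)
  have hmkC : ∀ n, mk n ∈ C := by
    intro n
    rw [Subgroup.mem_centralizer_iff]
    intro σ hσ
    refine Equiv.ext fun x => ?_
    show σ (mk n x) = mk n (σ x)
    have h1 : σ x = ((⟨σ, hσ⟩ : G) * rep x) • a := by rw [mul_smul, hrep]; rfl
    rw [h1, hmk_apply, mul_assoc, mul_smul]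
    rfl
  let F : N →* C := MonoidHom.mk' (fun n => ⟨mk n⁻¹, hmkC _⟩) (fun n m => by
    apply Subtype.ext
    refine Equiv.ext fun x => ?_
    show (rep x * ((n * m)⁻¹ : N)) • a = mk n⁻¹ ((rep x * ((m⁻¹ : N) : G)) • a)
    rw [hmk_apply, mul_assoc, mul_inv_rev]
    rfl)
  have hFker : F.ker = K.subgroupOf N := by
    ext n
    rw [MonoidHom.mem_ker, Subgroup.mem_subgroupOf]
    constructor
    · intro h
      have h1 := Equiv.Perm.congr_fun (congrArg Subtype.val h) a
      have h2 : mk n⁻¹ a = a := h1
      have h3 := hmk_apply n⁻¹ (1 : G)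
      rw [one_smul, one_mul, h2] at h3
      have h4 : ((n : G)⁻¹) ∈ K := h3.symm
      simpa using inv_mem h4
    · intro h
      apply Subtype.ext
      refine Equiv.ext fun x => ?_
      show mk n⁻¹ x = x
      conv_lhs => rw [← hrep x, hmk_apply, mul_smul]
      have : ((n⁻¹ : N) : G) • a = a := inv_mem (s := K) h
      rw [this, hrep]
  have hsurj : Function.Surjective F := by
    rintro ⟨c, hc⟩
    obtain ⟨m, hm⟩ := hrep' (c a)
    have hmN : m ∈ N := by
      rw [hN, Subgroup.mem_normalizer_iff]
      intro k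
      have hci := hcomm c hc
      show k ∈ MulAction.stabilizer G a ↔ m * k * m⁻¹ ∈ MulAction.stabilizer G a
      have hcK : ∀ g : G, g • c a = c a ↔ g • a = a := fun g => by
        rw [← hci g a, EmbeddingLike.apply_eq_iff_eq]
      rw [MulAction.mem_stabilizer_iff, MulAction.mem_stabilizer_iff, ← hcK (m * k * m⁻¹), ← hm,
        ← mul_smul, inv_mul_cancel_right, mul_smul]
      exact ⟨fun h => by rw [h], fun h => MulAction.injective m h⟩
    refine ⟨(⟨m, hmN⟩ : N)⁻¹, ?_⟩
    apply Subtype.ext
    refine Equiv.ext fun x => ?_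
    show mk ((⟨m, hmN⟩ : N)⁻¹)⁻¹ x = c x
    conv_lhs => rw [← hrep x]
    rw [inv_inv, hmk_apply, mul_smul, hm, ← hcomm c hc, hrep]
  refine ⟨⟨?_⟩, ?_⟩
  · exact (QuotientGroup.quotientKerEquivOfSurjective F hsurj).symm.trans
      (QuotientGroup.quotientMulEquivOfEq hFker)
  · ext x
    rw [MulAction.mem_fixedPoints]
    constructor
    · rintro ⟨⟨c, hc⟩, rfl⟩ ⟨k, hk⟩
      show k • c a = c a
      rw [← hcomm c hc, MulAction.mem_stabilizer_iff.1 hk]
    · intro hx
      obtain ⟨m, hm⟩ := hrep' x
      have hle : ∀ k ∈ K, m⁻¹ * k * m ∈ K := fun k hk => by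
        rw [hK, MulAction.mem_stabilizer_iff, mul_smul, mul_smul, hm,
          show k • x = x from hx ⟨k, hk⟩, ← hm, inv_smul_smul]
      have hmN : m ∈ N := by
        refine inv_mem_iff.1 ?_
        exact Subgroup.mem_normalizer_fintype (S := (K : Set G)) fun k hk => by simpa using hle k hk
      refine ⟨⟨mk ⟨m, hmN⟩, hmkC _⟩, ?_⟩
      show mk ⟨m, hmN⟩ a = x
      have := hmk_apply ⟨m, hmN⟩ (1 : G)
      rw [one_smul, one_mul] at this
      rw [this]; exact hm

end Cfsg.Agent.S0702
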