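import Cfsg.Statements.S0703
import Mathlib
import Cfsg.Agent.Lib.Block.RegularNormal
-- import your own Cfsg.Agent.* helpers here

set_option autoImplicit false
open Cfsg

namespace Cfsg.Agent.S0703

/-- An abelian transitive minimal normal subgroup `M` of a permutation group on a finite set is self-centralising in the symmetric group, regular, elementary abelian, and is the unique minimal normal subgroup. -/
theorem result {α : Type*} [Finite α] (G : Subgroup (Equiv.Perm α)) (M : Subgroup G) [M.Normal] (hM : M ≠ ⊥) (hmin : ∀ L : Subgroup G, L.Normal → L ≤ M → L = ⊥ ∨ L = M) (hab : IsMulCommutative M) (htrans : MulAction.IsPretransitive M α) : Subgroup.centralizer ((M.map G.subtype : Subgroup (Equiv.Perm α)) : Set (Equiv.Perm α)) = M.map G.subtype ∧ (∀ a : α, MulAction.stabilizer M a = ⊥) ∧ (∃ p : ℕ, p.Prime ∧ ∀ m ∈ M, m ^ p = 1) ∧ ∀ L : Subgroup G, L.Normal → L ≠ ⊥ → (∀ L' : Subgroup G, L'.Normal → L' ≤ L → L' = ⊥ ∨ L' = L) → L = M := by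
  classical
  set M' : Subgroup (Equiv.Perm α) := M.map G.subtype with hM'
  have hcm : ∀ x ∈ M, ∀ y ∈ M, x * y = y * x := fun x hx y hy =>
    congrArg Subtype.val (hab.is_comm.comm (⟨x, hx⟩ : M) ⟨y, hy⟩)
  haveI : Nonempty α := by
    by_contra hne
    rw [not_nonempty_iff] at hne
    apply hM
    rw [eq_bot_iff]
    intro x _
    rw [Subgroup.mem_bot]
    exact Subtype.ext (Equiv.ext fun z => hne.elim z)
  have ht' : MulAction.IsPretransitive M' α := by
    refine ⟨fun x y => ?_⟩
    obtain ⟨⟨⟨m, hmG⟩, hm⟩, h⟩ := htrans.exists_smul_eq x y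
    exact ⟨⟨m, ⟨m, hmG⟩, hm, rfl⟩, h⟩
  have hc' : ∀ x ∈ M', ∀ y ∈ M', x * y = y * x := by
    rintro _ ⟨x, hx, rfl⟩ _ ⟨y, hy, rfl⟩
    rw [← map_mul, ← map_mul, hcm x hx y hy]
  obtain ⟨hreg, hcent⟩ := Cfsg.Agent.Block.regular_of_commute ht' ht' hc'
  have hC : Subgroup.centralizer (M' : Set (Equiv.Perm α)) = M' := by
    refine le_antisymm (fun g hg => hcent inferInstance g fun m hm => ?_) (fun g hg => ?_)
    · exact (Subgroup.mem_centralizer_iff.1 hg m hm).symm
    · exact Subgroup.mem_centralizer_iff.2 fun m hm => hc' m hm g hg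
  refine ⟨hC, fun a => ?_, Cfsg.Agent.Block.minimal_normal_abelian_exponent hM hmin hab, fun L hL hL1 hLmin => ?_⟩
  · rw [eq_bot_iff]
    intro m hm
    rw [Subgroup.mem_bot]
    have h1 : (⟨((m : G) : Equiv.Perm α), (m : G), m.2, rfl⟩ : M') ∈ MulAction.stabilizer M' a := hm
    rw [hreg a, Subgroup.mem_bot] at h1
    apply Subtype.ext
    apply Subtype.ext
    exact (congrArg Subtype.val h1 : ((m : G) : Equiv.Perm α) = 1)
  · by_contra hne
    obtain ⟨-, hc⟩ := Cfsg.Agent.Block.minimal_normal_disjoint hLmin hmin hne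
    have hle : L ≤ M := by
      intro l hl
      have h1 : (l : Equiv.Perm α) ∈ Subgroup.centralizer (M' : Set (Equiv.Perm α)) := by
        rw [Subgroup.mem_centralizer_iff]
        rintro _ ⟨m, hm, rfl⟩
        exact (congrArg Subtype.val (hc l hl m hm)).symm
      rw [hC] at h1
      obtain ⟨m, hm, hml⟩ := h1
      exact (Subtype.ext hml : m = l) ▸ hm
    rcases hmin L hL hle with h | h
    · exact hL1 h
    · exact hne h

end Cfsg.Agent.S0703
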