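import Cfsg.Statements.S0704
import Mathlib
import Cfsg.Agent.Lib.Block.RegularNormal
-- import your own Cfsg.Agent.* helpers here

set_option autoImplicit false
open Cfsg

namespace Cfsg.Agent.S0704

/-- Two distinct transitive minimal normal subgroups `M`, `N` of a permutation group are regular, non-abelian, isomorphic, each other's centraliser in the symmetric group, and the only minimal normal subgroups. -/
theorem result {α : Type*} (G : Subgroup (Equiv.Perm α)) (M N : Subgroup G) [M.Normal] [N.Normal] (hM : M ≠ ⊥) (hN : N ≠ ⊥) (hMmin : ∀ L : Subgroup G, L.Normal → L ≤ M → L = ⊥ ∨ L = M) (hNmin : ∀ L : Subgroup G, L.Normal → L ≤ N → L = ⊥ ∨ L = N) (hMN : M ≠ N) (hMt : MulAction.IsPretransitive M α) (hNt : MulAction.IsPretransitive N α) : (∀ a : α, MulAction.stabilizer M a = ⊥) ∧ (∀ a : α, MulAction.stabilizer N a = ⊥) ∧ ¬ IsMulCommutative M ∧ Nonempty (M ≃* N) ∧ Subgroup.centralizer ((M.map G.subtype : Subgroup (Equiv.Perm α)) : Set (Equiv.Perm α)) = N.map G.subtype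 ∧ Subgroup.centralizer ((N.map G.subtype : Subgroup (Equiv.Perm α)) : Set (Equiv.Perm α)) = M.map G.subtype ∧ ∀ L : Subgroup G, L.Normal → L ≠ ⊥ → (∀ L' : Subgroup G, L'.Normal → L' ≤ L → L' = ⊥ ∨ L' = L) → L = M ∨ L = N := by
  classical
  obtain ⟨-, hc⟩ := Cfsg.Agent.Block.minimal_normal_disjoint hMmin hNmin hMN
  obtain ⟨a⟩ : Nonempty α := by
    by_contra hne
    rw [not_nonempty_iff] at hne
    apply hM
    rw [eq_bot_iff]
    intro x _
    rw [Subgroup.mem_bot]
    exact Subtype.ext (Equiv.ext fun z => hne.elim z)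
  obtain ⟨hMreg, hMc⟩ := Cfsg.Agent.Block.regular_of_commute hMt hNt hc
  obtain ⟨hNreg, hNc⟩ := Cfsg.Agent.Block.regular_of_commute hNt hMt (fun n hn m hm => (hc m hm n hn).symm)
  have tr : ∀ K : Subgroup G, MulAction.IsPretransitive K α → MulAction.IsPretransitive (K.map G.subtype) α := by
    intro K hK
    refine ⟨fun x y => ?_⟩
    obtain ⟨⟨⟨m, hmG⟩, hm⟩, h⟩ := hK.exists_smul_eq x y
    exact ⟨⟨m, ⟨m, hmG⟩, hm, rfl⟩, h⟩
  have cent : ∀ A B : Subgroup G, MulAction.IsPretransitive A α → MulAction.IsPretransitive B α →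
      (∀ x ∈ A, ∀ y ∈ B, x * y = y * x) →
      Subgroup.centralizer ((A.map G.subtype : Subgroup (Equiv.Perm α)) : Set (Equiv.Perm α)) = B.map G.subtype := by
    intro A B hA hB hAB
    have hAB' : ∀ x ∈ A.map G.subtype, ∀ y ∈ B.map G.subtype, x * y = y * x := by
      rintro _ ⟨x, hx, rfl⟩ _ ⟨y, hy, rfl⟩
      rw [← map_mul, ← map_mul, hAB x hx y hy]
    obtain ⟨-, h2⟩ := Cfsg.Agent.Block.regular_of_commute (tr A hA) (tr B hB) hAB'
    refine le_antisymm (fun g hg => h2 ⟨a⟩ g fun m hm => ?_) (fun g hg => ?_)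
    · exact (Subgroup.mem_centralizer_iff.1 hg m hm).symm
    · exact Subgroup.mem_centralizer_iff.2 fun m hm => hAB' m hm g hg
  have hex : ∀ n : N, ∃ m : M, m • a = n • a := fun n => hMt.exists_smul_eq a (n • a)
  choose φ hφ using hex
  have hinjM : ∀ m m' : M, m • a = m' • a → m = m' := by
    intro m m' h
    have h1 : m'⁻¹ * m ∈ MulAction.stabilizer M a := by
      rw [MulAction.mem_stabilizer_iff, mul_smul, h, inv_smul_smul]
    rw [hMreg a, Subgroup.mem_bot, inv_mul_eq_one] at h1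
    exact h1.symm
  have hinjN : ∀ m m' : N, m • a = m' • a → m = m' := by
    intro m m' h
    have h1 : m'⁻¹ * m ∈ MulAction.stabilizer N a := by
      rw [MulAction.mem_stabilizer_iff, mul_smul, h, inv_smul_smul]
    rw [hNreg a, Subgroup.mem_bot, inv_mul_eq_one] at h1
    exact h1.symm
  have hanti : ∀ x y : N, φ (x * y) = φ y * φ x := by
    intro x y
    apply hinjM
    rw [hφ, mul_smul, mul_smul, hφ x, ← hφ y]
    show (x : G) • ((φ y : M) : G) • a = ((φ y : M) : G) • (x : G) • a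
    rw [← mul_smul, ← mul_smul, hc _ (φ y).2 _ x.2]
  let e : N →* M := MonoidHom.mk' (fun n => (φ n)⁻¹) (fun x y => by rw [hanti, mul_inv_rev])
  have he : Function.Bijective e := by
    constructor
    · intro x y h
      have h' : φ x = φ y := inv_inj.1 h
      exact hinjN x y (by rw [← hφ x, h', hφ y])
    · intro m
      obtain ⟨n, hn⟩ := hNt.exists_smul_eq a (m⁻¹ • a)
      exact ⟨n, inv_eq_iff_eq_inv.2 (hinjM _ _ (by rw [hφ, hn]))⟩
  have hnab : ¬ IsMulCommutative M := by
    intro hab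
    apply hMN
    have hle : N ≤ M := by
      intro n hn
      obtain ⟨-, h2⟩ := Cfsg.Agent.Block.regular_of_commute hMt hMt
        (fun x hx y hy => congrArg Subtype.val (hab.is_comm.comm (⟨x, hx⟩ : M) ⟨y, hy⟩))
      exact h2 ⟨a⟩ n fun m hm => (hc m hm n hn).symm
    rcases hMmin N inferInstance hle with h | h
    · exact absurd h hN
    · exact h.symm
  refine ⟨hMreg, hNreg, hnab, ⟨(MulEquiv.ofBijective e he).symm⟩, cent M N hMt hNt hc,
    cent N M hNt hMt (fun n hn m hm => (hc m hm n hn).symm), fun L hL hL1 hLmin => ?_⟩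
  by_contra hne
  push Not at hne
  haveI := hL
  obtain ⟨-, hLM⟩ := Cfsg.Agent.Block.minimal_normal_disjoint hLmin hMmin hne.1
  have hle : L ≤ N := fun l hl => hMc ⟨a⟩ l (fun m hm => hLM l hl m hm)
  rcases hNmin L hL hle with h | h
  · exact hL1 h
  · exact hne.2 h

end Cfsg.Agent.S0704
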