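import Cfsg.Statements.S0705
import Mathlib
-- import your own Cfsg.Agent.* helpers here

set_option autoImplicit false
open scoped Pointwise
open Cfsg

namespace Cfsg.Agent.S0705

/-- A generously `k`-transitive permutation group (every `(k+1)`-subset has its full symmetric group induced by the setwise stabiliser) of degree greater than `k` is `k`-transitive, and for a `k`-subset the setwise and pointwise stabilisers have the same orbits outside it. -/
theorem result {α : Type*} [Fintype α] [DecidableEq α] (G : Subgroup (Equiv.Perm α)) {k : ℕ} (hk : k < Fintype.card α) (hgen : ∀ s : Finset α, s.card = k + 1 → ∀ σ : Equiv.Perm ↥s, ∃ g ∈ G, ∀ x : ↥s, g (x : α) = σ x) : MulAction.IsMultiplyPretransitive G α k ∧ ∀ s : Finset α, s.card = k → ∀ a b : α, a ∉ s → b ∉ s → (∃ g ∈ G, g • s = s ∧ g a = b) → ∃ g ∈ G, (∀ x ∈ s, g x = x) ∧ g a = b := by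
  classical
  open Pointwise in
  have key : ∀ (u : Finset α), u.card = k + 1 → ∀ σ : Equiv.Perm α, (∀ x ∈ u, σ x ∈ u) →
      ∃ g : G, ∀ x ∈ u, g • x = σ x := by
    intro u hu σ hσ
    have hiff : ∀ x, x ∈ u ↔ σ x ∈ u := by
      have h1 : u.image σ = u :=
        Finset.eq_of_subset_of_card_le (fun y hy => by
          obtain ⟨x, hx, rfl⟩ := Finset.mem_image.1 hy; exact hσ x hx)
          (by rw [Finset.card_image_of_injective _ σ.injective])
      intro x
      refine ⟨hσ x, fun hx => ?_⟩
      rw [← h1, Finset.mem_image] at hx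
      obtain ⟨y, hy, hyx⟩ := hx
      exact σ.injective hyx ▸ hy
    obtain ⟨g, hg, h⟩ := hgen u hu (σ.subtypePerm fun x => (hiff x).symm)
    exact ⟨⟨g, hg⟩, fun x hx => h ⟨x, hx⟩⟩
  open Pointwise in
  have hom : ∀ d : ℕ, ∀ s t : Finset α, s.card = k → t.card = k → (t \ s).card = d →
      ∃ g : G, ∀ x ∈ s, g • x ∈ t := by
    intro d
    induction d with
    | zero =>
      intro s t hs ht hd
      have hts : t ⊆ s := by
        rw [← Finset.sdiff_eq_empty_iff_subset]
        exact Finset.card_eq_zero.1 hd
      have := Finset.eq_of_subset_of_card_le hts (by omega)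
      exact ⟨1, fun x hx => by rw [one_smul, this]; exact hx⟩
    | succ d ih =>
      intro s t hs ht hd
      obtain ⟨a, ha⟩ := Finset.card_pos.1 (by omega : 0 < (t \ s).card)
      rw [Finset.mem_sdiff] at ha
      obtain ⟨b, hb⟩ : (s \ t).Nonempty := by
        rw [← Finset.card_pos]
        have := Finset.card_sdiff_comm (show s.card = t.card by omega)
        omega
      rw [Finset.mem_sdiff] at hb
      set u := insert a s with hu
      obtain ⟨g, hg⟩ := key u (by rw [hu, Finset.card_insert_of_notMem ha.2, hs]) (Equiv.swap b a) (by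
        intro x hx
        rw [Equiv.swap_apply_def]
        split_ifs with h1 h2
        · exact Finset.mem_insert_self _ _
        · exact Finset.mem_insert_of_mem hb.1
        · exact hx)
      set s' := insert a (s.erase b) with hs'
      have hs'c : s'.card = k := by
        rw [hs', Finset.card_insert_of_notMem (fun h => ha.2 (Finset.mem_of_mem_erase h)),
          Finset.card_erase_of_mem hb.1, hs]
        have : 0 < k := by rw [← hs]; exact Finset.card_pos.2 ⟨b, hb.1⟩
        omega
      have hd' : (t \ s').card = d := by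
        have : t \ s' = (t \ s).erase a := by
          ext x
          simp only [hs', Finset.mem_sdiff, Finset.mem_insert, Finset.mem_erase, not_or, not_and]
          constructor
          · rintro ⟨hx, hxa, hxs⟩
            exact ⟨hxa, hx, hxs (fun h => hb.2 (h ▸ hx))⟩
          · rintro ⟨hxa, hx, hxs⟩
            exact ⟨hx, hxa, fun _ => hxs⟩
        rw [this, Finset.card_erase_of_mem (Finset.mem_sdiff.2 ha), hd]
        omega
      obtain ⟨g', hg'⟩ := ih s' t hs'c ht hd'
      refine ⟨g' * g, fun x hx => ?_⟩
      rw [mul_smul]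
      refine hg' _ ?_
      rw [hg x (Finset.mem_insert_of_mem hx), hs']
      by_cases hxb : x = b
      · subst hxb
        rw [Equiv.swap_apply_left]
        exact Finset.mem_insert_self _ _
      · have hxa : x ≠ a := fun h => ha.2 (h ▸ hx)
        rw [Equiv.swap_apply_of_ne_of_ne hxb hxa]
        exact Finset.mem_insert_of_mem (Finset.mem_erase.2 ⟨hxb, hx⟩)
  have hfull : ∀ (t : Finset α), t.card = k → ∀ τ : Equiv.Perm ↥t, ∀ b, b ∉ t →
      ∃ g : G, (∀ x : ↥t, g • (x : α) = τ x) ∧ g • b = b := by
    intro t ht τ b hb
    obtain ⟨g, hg⟩ := key (insert b t) (by rw [Finset.card_insert_of_notMem hb, ht])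
      (τ.extendDomain (Equiv.refl {x // x ∈ t})) (by
        intro x hx
        by_cases hxt : x ∈ t
        · rw [Equiv.Perm.extendDomain_apply_subtype τ _ hxt]
          exact Finset.mem_insert_of_mem (τ _).2
        · rw [Equiv.Perm.extendDomain_apply_not_subtype τ _ hxt]
          exact hx)
    refine ⟨g, fun x => ?_, ?_⟩
    · rw [hg x (Finset.mem_insert_of_mem x.2), Equiv.Perm.extendDomain_apply_subtype τ _ x.2]
      rfl
    · rw [hg b (Finset.mem_insert_self _ _), Equiv.Perm.extendDomain_apply_not_subtype τ _ hb]
  refine ⟨⟨fun x y => ?_⟩, ?_⟩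
  · set s := Finset.univ.map x
    set t := Finset.univ.map y
    have hs : s.card = k := by simp [s]
    have ht : t.card = k := by simp [t]
    obtain ⟨g, hg⟩ := hom _ s t hs ht rfl
    let f : Fin k → ↥t := fun i => ⟨g • x i, hg _ (Finset.mem_map_of_mem x (Finset.mem_univ i))⟩
    have hf : Function.Bijective f := (Fintype.bijective_iff_injective_and_card f).2
      ⟨fun i j h => x.injective (MulAction.injective g (congrArg Subtype.val h)), by simp [ht]⟩
    let h' : Fin k → ↥t := fun i => ⟨y i, Finset.mem_map_of_mem y (Finset.mem_univ i)⟩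
    have hh : Function.Bijective h' := (Fintype.bijective_iff_injective_and_card h').2
      ⟨fun i j h => y.injective (congrArg Subtype.val h), by simp [ht]⟩
    obtain ⟨b, hb⟩ : ∃ b, b ∉ t := by
      by_contra h; push Not at h
      have := Finset.card_le_card (fun z _ => h z : (Finset.univ : Finset α) ⊆ t)
      rw [Finset.card_univ] at this; omega
    obtain ⟨g', hg', -⟩ := hfull t ht ((Equiv.ofBijective f hf).symm.trans (Equiv.ofBijective h' hh)) b hb
    refine ⟨g' * g, ?_⟩
    ext i
    rw [Function.Embedding.smul_apply, mul_smul]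
    have h1 := hg' (f i)
    rw [Equiv.trans_apply, Equiv.ofBijective_symm_apply_apply] at h1
    exact h1
  · intro s hs a b ha hb hex
    open Pointwise in
    obtain ⟨g, hgG, hgs, hga⟩ := hex
    have hmem : ∀ x ∈ s, g x ∈ s := fun x hx => by
      open Pointwise in
      have := Finset.smul_mem_smul_finset (a := g) hx
      rw [hgs] at this
      exact this
    let π : ↥s → ↥s := fun x => ⟨g x, hmem x x.2⟩
    have hπ : Function.Bijective π := Finite.injective_iff_bijective.1
      (fun x y h => Subtype.ext (g.injective (congrArg Subtype.val h)))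
    obtain ⟨h, hh, hhb⟩ := hfull s hs (Equiv.ofBijective π hπ).symm b hb
    refine ⟨(h : Equiv.Perm α) * g, mul_mem h.2 hgG, fun x hx => ?_, ?_⟩
    · have h1 := hh (π ⟨x, hx⟩)
      rw [Equiv.ofBijective_symm_apply_apply] at h1
      exact h1
    · show (h : Equiv.Perm α) (g a) = b
      rw [hga]
      exact hhb

end Cfsg.Agent.S0705
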