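import Cfsg.Statements.S0706
import Mathlib
-- import your own Cfsg.Agent.* helpers here

set_option autoImplicit false
open Cfsg

namespace Cfsg.Agent.S0706

/-- In a generously `k`-transitive permutation group, for a prime `p ≤ k` and a `k`-set `Γ`, there are no `p` points outside `Γ` lying in distinct orbits of the pointwise stabiliser of `Γ` all of length prime to `p` (at most `p - 1` such orbits). -/
theorem result {α : Type*} [Fintype α] [DecidableEq α] (G : Subgroup (Equiv.Perm α)) {k : ℕ} (hk : k < Fintype.card α) (hgen : ∀ s : Finset α, s.card = k + 1 → ∀ σ : Equiv.Perm ↥s, ∃ g ∈ G, ∀ x : ↥s, g (x : α) = σ x) {p : ℕ} (hp : p.Prime) (hpk : p ≤ k) (Γ : Finset α) (hΓ : Γ.card = k) (f : Fin p → α) (hf : ∀ i, f i ∉ Γ) (hdist : ∀ i j, i ≠ j → f j ∉ MulAction.orbit (fixingSubgroup G (Γ : Set α)) (f i)) : ∃ i, p ∣ Nat.card (MulAction.orbit (fixingSubgroup G (Γ : Set α)) (f i)) := by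
  classical
  haveI := Fact.mk hp
  by_contra hno
  push Not at hno
  set H := fixingSubgroup G (Γ : Set α) with hHdef
  have hmemH : ∀ g : G, g ∈ H ↔ ∀ x ∈ Γ, (g : Equiv.Perm α) x = x := fun g => mem_fixingSubgroup_iff G
  -- `k`-transitivity on sets
  have hcard : ∀ Δ : Finset α, Δ.card = k →
      Nat.card (fixingSubgroup G (Δ : Set α)) = Nat.card H := by
    intro Δ hΔ
    suffices ∃ g : G, Δ.image (fun x => (g : Equiv.Perm α) x) = Γ by
      obtain ⟨g, hg⟩ := this
      rw [hHdef, ← hg]
      refine Nat.card_congr ((MulAut.conj g).subgroupMap (fixingSubgroup G (Δ : Set α)) |>.toEquiv.trans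
        (Equiv.setCongr ?_))
      ext h
      simp only [SetLike.mem_coe, Subgroup.mem_map, mem_fixingSubgroup_iff, Finset.coe_image,
        Set.forall_mem_image]
      constructor
      · rintro ⟨u, hu, rfl⟩ x hx
        show ((g : Equiv.Perm α) * u * (g : Equiv.Perm α)⁻¹) ((g : Equiv.Perm α) x) = _
        have h3 : (u : Equiv.Perm α) x = x := hu x hx
        simp [h3]
      · intro hh
        refine ⟨g⁻¹ * h * g, fun x hx => ?_, by simp [mul_assoc]⟩
        show ((g : Equiv.Perm α)⁻¹ * h * (g : Equiv.Perm α)) x = x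
        have := hh hx
        simp only [Equiv.Perm.coe_mul, Function.comp_apply]
        rw [show (h : Equiv.Perm α) ((g : Equiv.Perm α) x) = (g : Equiv.Perm α) x from this]
        simp
    -- move one point at a time
    have hmove : ∀ m : ℕ, ∀ Δ : Finset α, Δ.card = k → (Δ \ Γ).card = m →
        ∃ g : G, Δ.image (fun x => (g : Equiv.Perm α) x) = Γ := by
      intro m
      induction m using Nat.strong_induction_on with
      | _ m ih =>
        intro Δ hΔ hm
        rcases Nat.eq_zero_or_pos m with rfl | hpos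
        · refine ⟨1, ?_⟩
          rw [Finset.card_eq_zero, Finset.sdiff_eq_empty_iff_subset] at hm
          simp [Finset.eq_of_subset_of_card_le hm (by omega)]
        obtain ⟨a, ha⟩ := Finset.card_pos.mp (hm ▸ hpos)
        rw [Finset.mem_sdiff] at ha
        obtain ⟨b, hb⟩ : (Γ \ Δ).Nonempty := by
          rw [← Finset.card_pos]
          have e1 := Finset.card_sdiff_add_card_inter Δ Γ
          have e2 := Finset.card_sdiff_add_card_inter Γ Δ
          rw [Finset.inter_comm] at e2
          omega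
        rw [Finset.mem_sdiff] at hb
        obtain ⟨g, hg, hgσ⟩ := hgen (insert b Δ) (by rw [Finset.card_insert_of_notMem hb.2, hΔ])
          (Equiv.swap ⟨a, Finset.mem_insert_of_mem ha.1⟩ ⟨b, Finset.mem_insert_self b Δ⟩)
        have hga : g a = b := by
          have := hgσ ⟨a, Finset.mem_insert_of_mem ha.1⟩
          rwa [Equiv.swap_apply_left] at this
        have hgx : ∀ x ∈ Δ, x ≠ a → g x = x := by
          intro x hx hxa
          have := hgσ ⟨x, Finset.mem_insert_of_mem hx⟩
          have h1 : (⟨x, Finset.mem_insert_of_mem hx⟩ : ↥(insert b Δ)) ≠ ⟨a, Finset.mem_insert_of_mem ha.1⟩ :=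
            fun e => hxa (Subtype.ext_iff.mp e)
          have h2 : (⟨x, Finset.mem_insert_of_mem hx⟩ : ↥(insert b Δ)) ≠ ⟨b, Finset.mem_insert_self b Δ⟩ :=
            fun e => by
              have e1 : x = b := Subtype.ext_iff.mp e
              exact hb.2 (e1 ▸ hx)
          rwa [Equiv.swap_apply_of_ne_of_ne h1 h2] at this
        have himg : Δ.image g = insert b (Δ.erase a) := by
          ext y
          simp only [Finset.mem_image, Finset.mem_insert, Finset.mem_erase]
          constructor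
          · rintro ⟨x, hx, rfl⟩
            by_cases hxa : x = a
            · left; rw [hxa, hga]
            · right; rw [hgx x hx hxa]; exact ⟨hxa, hx⟩
          · rintro (rfl | ⟨hya, hy⟩)
            · exact ⟨a, ha.1, hga⟩
            · exact ⟨y, hy, hgx y hy hya⟩
        obtain ⟨g', hg'⟩ := ih _ (show (Δ.image g \ Γ).card < m by
          rw [← hm]
          refine Finset.card_lt_card ⟨fun y hy => ?_, fun h => ?_⟩
          · rw [Finset.mem_sdiff, himg, Finset.mem_insert, Finset.mem_erase] at hy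
            rw [Finset.mem_sdiff]
            rcases hy.1 with rfl | ⟨-, h2⟩
            · exact absurd hb.1 hy.2
            · exact ⟨h2, hy.2⟩
          · have := h (Finset.mem_sdiff.mpr ha)
            rw [Finset.mem_sdiff, himg, Finset.mem_insert, Finset.mem_erase] at this
            rcases this.1 with h' | h'
            · exact hb.2 (h' ▸ ha.1)
            · exact h'.1 rfl) (Δ.image g) (by rw [Finset.card_image_of_injective _ g.injective, hΔ]) rfl
        refine ⟨g' * ⟨g, hg⟩, ?_⟩
        rw [← hg', Finset.image_image]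
        rfl
    exact hmove _ Δ hΔ rfl
  -- a `p`-cycle on a subset `B` of `Γ`
  obtain ⟨B, hBΓ, hB⟩ := Finset.exists_subset_card_eq (hΓ.symm ▸ hpk : p ≤ Γ.card)
  let e : ↥B ≃ Fin p := B.equivFinOfCardEq hB
  let τ : Equiv.Perm ↥B := e.symm.permCongr (finRotate p)
  let σ : Equiv.Perm α := Equiv.Perm.ofSubtype τ
  have hσB : ∀ x, x ∉ B → σ x = x := fun x hx => Equiv.Perm.ofSubtype_apply_of_not_mem τ hx
  have hσmem : ∀ x ∈ B, σ x ∈ B := fun x hx => by
    rw [Equiv.Perm.ofSubtype_apply_of_mem τ hx]; exact Subtype.coe_prop _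
  -- lifts fixing a given point
  have hlift : ∀ x, x ∉ Γ → ∃ g : G, (∀ y ∈ Γ, (g : Equiv.Perm α) y = σ y) ∧ (g : Equiv.Perm α) x = x := by
    intro x hx
    have hst : ∀ y, y ∈ insert x Γ ↔ σ y ∈ insert x Γ := by
      intro y
      by_cases hy : y ∈ B
      · exact ⟨fun _ => Finset.mem_insert_of_mem (hBΓ (hσmem y hy)), fun _ => Finset.mem_insert_of_mem (hBΓ hy)⟩
      · rw [hσB y hy]
    obtain ⟨g, hg, hgσ⟩ := hgen (insert x Γ) (by rw [Finset.card_insert_of_notMem hx, hΓ])
      (σ.subtypePerm (p := (· ∈ insert x Γ)) fun y => (hst y).symm)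
    refine ⟨⟨g, hg⟩, fun y hy => hgσ ⟨y, Finset.mem_insert_of_mem hy⟩, ?_⟩
    have h' := hgσ ⟨x, Finset.mem_insert_self x Γ⟩
    rw [Equiv.Perm.subtypePerm_apply] at h'
    exact h'.trans (hσB x fun h => hx (hBΓ h))
  choose g hg hgf using fun i => hlift (f i) (hf i)
  haveI : NeZero p := ⟨hp.ne_zero⟩
  set g₀ := g 0
  -- the setwise action
  let X : Subgroup G :=
    { carrier := {u | (∀ x ∈ Γ, (u : Equiv.Perm α) x ∈ Γ) ∧ ∀ i, u • f i ∈ MulAction.orbit H (f i)
          ∧ ∀ h ∈ H, u * h * u⁻¹ ∈ H}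
      one_mem' := ⟨fun x hx => hx, fun i => ⟨by rw [one_smul]; exact MulAction.mem_orbit_self _,
        fun h hh => by simpa using hh⟩⟩
      mul_mem' := fun {u v} hu hv => ⟨fun x hx => hu.1 _ (hv.1 x hx), fun i => ⟨by
          obtain ⟨h, hh⟩ := (hv.2 i).1
          rw [mul_smul, ← hh]
          show u • ((h : G) • f i) ∈ _
          rw [← mul_smul, show u * (h : G) = (u * (h : G) * u⁻¹) * u by group, mul_smul]
          exact MulAction.orbit_eq_iff.mpr (hu.2 i).1 ▸
            MulAction.mem_orbit (u • f i) (⟨_, (hu.2 i).2 h h.2⟩ : H),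
        fun h hh => by
          have := (hu.2 i).2 _ ((hv.2 i).2 h hh)
          simpa [mul_assoc] using this⟩⟩
      inv_mem' := fun {u} hu => ⟨fun x hx => by
          have hinj : Set.SurjOn (fun y => (u : Equiv.Perm α) y) Γ Γ :=
            Finset.surjOn_of_injOn_of_card_le _ hu.1 (u : Equiv.Perm α).injective.injOn le_rfl
          obtain ⟨y, hy, hxy⟩ := hinj hx
          rw [← hxy]
          show ((u : Equiv.Perm α)⁻¹) ((u : Equiv.Perm α) y) ∈ Γ
          simpa using hy,
        fun i => by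
          have hN : ∀ h ∈ H, u⁻¹ * h * u ∈ H := fun h hh => by
            have hsur : Set.SurjOn (fun a : G => u * a * u⁻¹) H H :=
              ((H : Set G).toFinite).surjOn_iff_bijOn_of_mapsTo (fun a ha => (hu.2 i).2 a ha) |>.mpr
                (((H : Set G).toFinite).injOn_iff_bijOn_of_mapsTo (fun a ha => (hu.2 i).2 a ha) |>.mp
                  (fun a _ b _ hab => by simpa using hab)) |> fun s => s
            obtain ⟨a, ha, rfl⟩ := hsur hh
            simpa [mul_assoc] using ha
          refine ⟨?_, fun h hh => by simpa using hN h hh⟩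
          obtain ⟨h, hh⟩ := (hu.2 i).1
          have h2 : f i = u⁻¹ • (h : G) • f i := by
            show f i = u⁻¹ • (fun m : H => m • f i) h
            rw [hh, inv_smul_smul]
          refine ⟨⟨u⁻¹ * (h : G)⁻¹ * u, hN _ (H.inv_mem h.2)⟩, ?_⟩
          show (u⁻¹ * (h : G)⁻¹ * u) • f i = u⁻¹ • f i
          conv_lhs => rw [h2]
          rw [← mul_smul, ← mul_smul]
          congr 1
          group⟩ }
  have hHX : H ≤ X := fun h hh => ⟨fun x hx => by rw [(hmemH h).mp hh x hx]; exact hx,
    fun i => ⟨MulAction.mem_orbit _ (⟨h, hh⟩ : H), fun u hu => H.mul_mem (H.mul_mem hh hu) (H.inv_mem hh)⟩⟩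
  have hgΓ : ∀ x ∈ Γ, (g₀ : Equiv.Perm α) x ∈ Γ := fun x hx => by
    rw [hg 0 x hx]
    by_cases hxB : x ∈ B
    · exact hBΓ (hσmem x hxB)
    · rw [hσB x hxB]; exact hx
  have hg₀X : g₀ ∈ X := by
    have hN : ∀ h ∈ H, g₀ * h * g₀⁻¹ ∈ H := by
      intro h hh
      rw [hmemH]
      intro x hx
      obtain ⟨y, hy, hxy⟩ := Finset.surjOn_of_injOn_of_card_le _ hgΓ
        (g₀ : Equiv.Perm α).injective.injOn le_rfl hx
      rw [← hxy]
      simp [(hmemH h).mp hh y hy]
    refine ⟨hgΓ, fun i => ⟨?_, hN⟩⟩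
    have hi : g₀ * (g i)⁻¹ ∈ H := by
      rw [hmemH]
      intro x hx
      obtain ⟨y, hy, hxy⟩ : ∃ y ∈ Γ, (g i : Equiv.Perm α) y = x := by
        refine Finset.surjOn_of_injOn_of_card_le (fun y => (g i : Equiv.Perm α) y) (fun y hy => ?_)
          (g i : Equiv.Perm α).injective.injOn le_rfl hx
        show (g i : Equiv.Perm α) y ∈ Γ
        rw [hg i y hy, ← hg 0 y hy]
        exact hgΓ y hy
      rw [← hxy]
      show (g 0 : Equiv.Perm α) (((g i : Equiv.Perm α))⁻¹ ((g i : Equiv.Perm α) y)) = _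
      rw [Equiv.Perm.inv_def, Equiv.symm_apply_apply, hg 0 y hy, hg i y hy]
    refine ⟨⟨_, hi⟩, ?_⟩
    show (g₀ * (g i)⁻¹) • f i = g₀ • f i
    rw [mul_smul]
    congr 1
    rw [inv_smul_eq_iff]
    exact (hgf i).symm
  -- a Sylow subgroup of the extension
  set K := H ⊔ Subgroup.zpowers g₀ with hK
  have hKX : K ≤ X := sup_le hHX (Subgroup.zpowers_le.mpr hg₀X)
  let A := Γ \ B
  have hKA : ∀ u ∈ K, ∀ x ∈ A, (u : Equiv.Perm α) x = x := by
    intro u hu x hx
    have hle : K ≤ MulAction.stabilizer G x := by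
      refine sup_le (fun h hh => (hmemH h).mp hh x (Finset.mem_sdiff.mp hx).1) (Subgroup.zpowers_le.mpr ?_)
      show (g₀ : Equiv.Perm α) x = x
      rw [hg 0 x (Finset.mem_sdiff.mp hx).1, hσB x (Finset.mem_sdiff.mp hx).2]
    exact hle hu
  haveI : (H.subgroupOf K).Normal := ⟨fun h hh u => by
    rw [Subgroup.mem_subgroupOf] at hh ⊢
    exact ((hKX u.2).2 0).2 _ hh⟩
  obtain ⟨Q⟩ : Nonempty (Sylow p K) := inferInstance
  -- a fixed point in every orbit
  have hfix : ∀ i, ∃ y, y ∈ MulAction.orbit H (f i) ∧ ∀ u : K, u ∈ (Q : Subgroup K) → (u : G) • y = y := by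
    intro i
    let O := {y // y ∈ MulAction.orbit H (f i)}
    letI : MulAction ↥(Q : Subgroup K) O :=
      { smul := fun u y => ⟨((u : K) : G) • y.1, by
          obtain ⟨h, hh⟩ := y.2
          rw [← hh]
          show ((u : K) : G) • ((h : G) • f i) ∈ _
          rw [← mul_smul, show ((u : K) : G) * (h : G) = (((u : K) : G) * (h : G) * ((u : K) : G)⁻¹) * ((u : K) : G) by group,
            mul_smul]
          exact MulAction.orbit_eq_iff.mpr ((hKX (u : K).2).2 i).1 ▸
            MulAction.mem_orbit (((u : K) : G) • f i) (⟨_, ((hKX (u : K).2).2 i).2 h h.2⟩ : H)⟩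
        one_smul := fun y => Subtype.ext (one_smul G _)
        mul_smul := fun u v y => Subtype.ext (mul_smul _ _ _) }
    obtain ⟨⟨y, hy⟩, hyf⟩ := Q.isPGroup'.nonempty_fixed_point_of_prime_not_dvd_card O (hno i)
    exact ⟨y, hy, fun u hu => congrArg Subtype.val (hyf ⟨u, hu⟩)⟩
  choose y hy hyQ using hfix
  have hyinj : Function.Injective y := by
    intro i j hij
    by_contra hne
    refine hdist i j hne ?_
    rw [← MulAction.orbit_eq_iff.mpr (hy i), hij, MulAction.orbit_eq_iff.mpr (hy j)]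
    exact MulAction.mem_orbit_self _
  have hyΓ : ∀ i, y i ∉ Γ := by
    intro i hi
    obtain ⟨h, hh⟩ := hy i
    have : (h : G) • f i = y i := hh
    have h2 : f i = y i := by
      have h3 : (h : G)⁻¹ • y i = y i := (hmemH _).mp (H.inv_mem h.2) _ hi
      rw [← h3, ← this, inv_smul_smul]
    exact hf i (h2 ▸ hi)
  let Δ := A ∪ Finset.univ.image y
  have hΔ : Δ.card = k := by
    rw [Finset.card_union_of_disjoint, Finset.card_image_of_injective _ hyinj,
      Finset.card_sdiff_of_subset hBΓ, hΓ, hB, Finset.card_univ, Fintype.card_fin]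
    · omega
    · rw [Finset.disjoint_right]
      intro a ha haA
      obtain ⟨i, -, rfl⟩ := Finset.mem_image.mp ha
      exact hyΓ i (Finset.mem_sdiff.mp haA).1
  have hQle : (Q : Subgroup K).map K.subtype ≤ fixingSubgroup G (Δ : Set α) := by
    rintro _ ⟨u, hu, rfl⟩
    rw [mem_fixingSubgroup_iff]
    intro a ha
    rcases Finset.mem_union.mp ha with ha | ha
    · exact hKA _ u.2 a ha
    · obtain ⟨i, -, rfl⟩ := Finset.mem_image.mp ha
      exact hyQ i u hu
  have hdvd := Subgroup.card_dvd_of_le hQle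
  rw [Subgroup.card_map_of_injective (Subgroup.subtype_injective _), hcard Δ hΔ,
    Sylow.card_eq_multiplicity, hp.pow_dvd_iff_le_factorization Nat.card_pos.ne'] at hdvd
  -- but `p` divides the index
  have hg₀H : g₀ ∉ H := by
    obtain ⟨b, hb⟩ := Finset.card_pos.mp (hB.symm ▸ hp.pos : 0 < B.card)
    intro hmem
    have h1 : σ b = b := by rw [← hg 0 b (hBΓ hb)]; exact (hmemH _).mp hmem b (hBΓ hb)
    rw [Equiv.Perm.ofSubtype_apply_of_mem τ hb] at h1
    have h2 : τ ⟨b, hb⟩ = ⟨b, hb⟩ := Subtype.ext h1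
    simp only [τ, Equiv.permCongr_apply, Equiv.symm_symm, Equiv.symm_apply_eq] at h2
    obtain ⟨m, rfl⟩ := Nat.exists_eq_succ_of_ne_zero hp.ne_zero
    rw [finRotate_succ_apply] at h2
    have := congrArg (fun z => z - e ⟨b, hb⟩) h2
    simp at this
    have := hp.two_le
    omega
  have hg₀p : g₀ ^ p ∈ H := by
    rw [hmemH]
    intro x hx
    have hs : ∀ m : ℕ, ((g₀ ^ m : G) : Equiv.Perm α) x = (σ ^ m) x ∧ (σ ^ m) x ∈ Γ := by
      intro m
      induction m with
      | zero => simp [hx]
      | succ m ih =>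
        rw [pow_succ', pow_succ', Subgroup.coe_mul, Equiv.Perm.coe_mul, Equiv.Perm.coe_mul,
          Function.comp_apply, Function.comp_apply, ih.1]
        refine ⟨hg 0 _ ih.2, ?_⟩
        rw [← hg 0 _ ih.2]
        exact hgΓ _ ih.2
    rw [(hs p).1]
    have h1 : finRotate p ^ p = 1 := by
      ext i
      obtain ⟨m, rfl⟩ := Nat.exists_eq_succ_of_ne_zero hp.ne_zero
      have : ∀ j : ℕ, (((finRotate (m + 1) ^ j) i : Fin (m + 1)) : ℕ) = ((i : ℕ) + j) % (m + 1) := by
        intro j
        induction j with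
        | zero => simp [Nat.mod_eq_of_lt i.isLt]
        | succ j ih =>
          rw [pow_succ', Equiv.Perm.coe_mul, Function.comp_apply, finRotate_succ_apply, Fin.val_add, ih]
          rw [Fin.val_one', ← Nat.add_mod, add_assoc]
      rw [this (m + 1)]
      simp [Nat.mod_eq_of_lt i.isLt]
    have h2 : σ ^ p = 1 := by
      show (Equiv.Perm.ofSubtype τ) ^ p = 1
      rw [← map_pow, show τ = e.symm.permCongrHom (finRotate p) from rfl, ← map_pow, h1, map_one, map_one]
    rw [h2]
    rfl
  have hidx : p ∣ (H.subgroupOf K).index := by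
    let q : K ⧸ H.subgroupOf K := QuotientGroup.mk ⟨g₀, Subgroup.mem_sup_right (Subgroup.mem_zpowers g₀)⟩
    have hq : orderOf q = p := orderOf_eq_prime
      (by rw [← QuotientGroup.mk_pow, QuotientGroup.eq_one_iff]; exact hg₀p)
      (by rw [Ne, QuotientGroup.eq_one_iff]; exact hg₀H)
    rw [← hq]
    exact orderOf_dvd_natCard q
  have hcardK : Nat.card H * (H.subgroupOf K).index = Nat.card K := by
    rw [← Nat.card_congr (Subgroup.subgroupOfEquivOfLe (le_sup_left : H ≤ K)).toEquiv]
    exact Subgroup.card_mul_index _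
  rw [← hcardK, Nat.factorization_mul Nat.card_pos.ne' Subgroup.index_ne_zero_of_finite, Finsupp.add_apply] at hdvd
  have := hp.factorization_pos_of_dvd Subgroup.index_ne_zero_of_finite hidx
  omega

end Cfsg.Agent.S0706
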