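import Cfsg.Statements.S0707
import Mathlib

set_option autoImplicit false
open Cfsg

namespace Cfsg.Agent.S0707

/-- In a primitive permutation group, distinct points have distinct stabilisers unless the group is regular of prime degree. -/
theorem result {α : Type*} (G : Subgroup (Equiv.Perm α)) [MulAction.IsPreprimitive G α] (h : ¬ (Nat.card α).Prime ∨ ∃ a : α, MulAction.stabilizer G a ≠ ⊥) {a b : α} (hab : a ≠ b) : MulAction.stabilizer G a ≠ MulAction.stabilizer G b := by
  classical
  intro heq
  have : Nontrivial α := ⟨⟨a, b, hab⟩⟩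
  let B : Set α := {c | MulAction.stabilizer G a ≤ MulAction.stabilizer G c}
  have hBall : ∀ c : α, MulAction.stabilizer G a ≤ MulAction.stabilizer G c := by
    have hco : ∀ c : α, IsCoatom (MulAction.stabilizer G c) := fun c =>
      MulAction.IsPreprimitive.isCoatom_stabilizer_of_isPreprimitive (G := ↥G) c
    have hN : MulAction.stabilizer G a < Subgroup.normalizer (MulAction.stabilizer G a : Set G) := by
      obtain ⟨g, hg⟩ := MulAction.exists_smul_eq G a b
      refine lt_of_le_of_ne Subgroup.le_normalizer (fun h => hab ?_)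
      have hgN : g ∈ Subgroup.normalizer (MulAction.stabilizer G a : Set G) := by
        rw [Subgroup.mem_normalizer_iff]
        intro x
        have h1 : g * x * g⁻¹ ∈ MulAction.stabilizer G b ↔ x ∈ MulAction.stabilizer G a := by
          rw [← hg]; simp [MulAction.mem_stabilizer_iff, mul_smul]
        rw [← heq] at h1
        exact h1.symm
      rw [← h] at hgN
      rw [← hg]
      exact hgN.symm
    have htop : Subgroup.normalizer (MulAction.stabilizer G a : Set G) = ⊤ := (hco a).2 _ hN
    intro c x hx
    obtain ⟨g, rfl⟩ := MulAction.exists_smul_eq G a c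
    have hgi : g⁻¹ ∈ Subgroup.normalizer (MulAction.stabilizer G a : Set G) := by rw [htop]; trivial
    have := (Subgroup.mem_normalizer_iff.1 hgi x).1 hx
    simpa [MulAction.mem_stabilizer_iff, mul_smul, inv_smul_eq_iff] using this
  have hbot : ∀ c : α, MulAction.stabilizer G c = ⊥ := by
    have ha : MulAction.stabilizer G a = ⊥ := by
      rw [Subgroup.eq_bot_iff_forall]
      intro g hg
      exact Subtype.ext (Equiv.ext fun c => hBall c hg)
    intro c
    rw [Subgroup.eq_bot_iff_forall]
    intro g hg
    obtain ⟨h, rfl⟩ := MulAction.exists_smul_eq G a c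
    have : h⁻¹ * g * h ∈ MulAction.stabilizer G a := by
      simpa [MulAction.mem_stabilizer_iff, mul_smul, inv_smul_eq_iff] using hg
    rw [ha, Subgroup.mem_bot] at this
    calc g = h * (h⁻¹ * g * h) * h⁻¹ := by group
      _ = 1 := by rw [this]; group
  rcases h with h | ⟨c, hc⟩
  · apply h
    have hco : IsCoatom (⊥ : Subgroup G) := by
      rw [← hbot a]; exact MulAction.IsPreprimitive.isCoatom_stabilizer_of_isPreprimitive (G := ↥G) a
    obtain ⟨g, hga⟩ := MulAction.exists_smul_eq G a b
    have hg1 : g ≠ 1 := fun h1 => hab (by rw [← hga, h1, one_smul])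
    have hgen : ∀ x : G, x ≠ 1 → Subgroup.zpowers x = ⊤ := fun x hx =>
      hco.2 _ (bot_lt_iff_ne_bot.2 (by simpa using hx))
    have hfin : IsOfFinOrder g := by
      by_contra hinf
      have h2 : g ^ (2 : ℤ) ≠ 1 := by
        intro h2
        exact hinf (isOfFinOrder_iff_zpow_eq_one.2 ⟨2, by norm_num, h2⟩)
      have : g ∈ Subgroup.zpowers (g ^ (2 : ℤ)) := by rw [hgen _ h2]; trivial
      obtain ⟨k, hk⟩ := this
      have hk' : g ^ (2 * k - 1) = 1 := by
        simp only [← zpow_mul] at hk
        rw [zpow_sub, zpow_one, hk, mul_inv_cancel]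
      exact hinf (isOfFinOrder_iff_zpow_eq_one.2 ⟨_, by omega, hk'⟩)
    have hcard : Nat.card α = orderOf g := by
      rw [← Nat.card_zpowers, hgen g hg1, Subgroup.card_top]
      refine (Nat.card_congr (Equiv.ofBijective (fun x : G => x • a)
        ⟨fun x y hxy => ?_, fun y => MulAction.exists_smul_eq G a y⟩)).symm
      simp only at hxy
      have : y⁻¹ * x ∈ MulAction.stabilizer G a := by
        simp [MulAction.mem_stabilizer_iff, mul_smul, hxy]
      rw [hbot a, Subgroup.mem_bot, inv_mul_eq_one] at this
      exact this.symm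
    rw [hcard]
    have hpos := hfin.orderOf_pos
    have hne : orderOf g ≠ 1 := by simpa [orderOf_eq_one_iff] using hg1
    by_contra hnp
    obtain ⟨d, hd, hd1, hd2⟩ := Nat.exists_dvd_of_not_prime2 (by omega) hnp
    have hgd : g ^ d ≠ 1 := pow_ne_one_of_lt_orderOf (by omega) hd2
    have h1 : orderOf (g ^ d) = orderOf g := by
      rw [← Nat.card_zpowers, hgen _ hgd, ← hgen g hg1, Nat.card_zpowers]
    rw [orderOf_pow_of_dvd (by omega) hd] at h1
    exact absurd h1 (Nat.ne_of_lt (Nat.div_lt_self hpos hd1))
  · exact hc (hbot c)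

end Cfsg.Agent.S0707
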