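import Cfsg.Statements.S0708
import Mathlib

set_option autoImplicit false
open Cfsg

namespace Cfsg.Agent.S0708

/-- Fixing four distinct points forces the identity. -/
theorem eq_one_of_fix {G : Type*} [Group G] {Ω : Type*} [MulAction G Ω]
    (hsharp : ∀ x : Fin 4 ↪ Ω, MulAction.stabilizer G x = ⊥) {g : G} {a b c d : Ω} (hab : a ≠ b)
    (hac : a ≠ c) (had : a ≠ d) (hbc : b ≠ c) (hbd : b ≠ d) (hcd : c ≠ d) (ha : g • a = a)
    (hb : g • b = b) (hc : g • c = c) (hd : g • d = d) : g = 1 := by
  let x : Fin 4 ↪ Ω := ⟨![a, b, c, d], by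
    intro i j hij
    fin_cases i <;> fin_cases j <;> simp_all⟩
  have h : g ∈ MulAction.stabilizer G x := by
    rw [MulAction.mem_stabilizer_iff]
    ext i
    show g • x i = x i
    fin_cases i
    exacts [ha, hb, hc, hd]
  rwa [hsharp x, Subgroup.mem_bot] at h

/-- Any two quadruples of distinct points are related. -/
theorem exists_map {G : Type*} [Group G] {Ω : Type*} [MulAction G Ω]
    (h4 : MulAction.IsMultiplyPretransitive G Ω 4) {a b c d a' b' c' d' : Ω} (hab : a ≠ b)
    (hac : a ≠ c) (had : a ≠ d) (hbc : b ≠ c) (hbd : b ≠ d) (hcd : c ≠ d) (hab' : a' ≠ b')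
    (hac' : a' ≠ c') (had' : a' ≠ d') (hbc' : b' ≠ c') (hbd' : b' ≠ d') (hcd' : c' ≠ d') :
    ∃ g : G, g • a = a' ∧ g • b = b' ∧ g • c = c' ∧ g • d = d' := by
  let x : Fin 4 ↪ Ω := ⟨![a, b, c, d], by
    intro i j hij
    fin_cases i <;> fin_cases j <;> simp_all⟩
  let y : Fin 4 ↪ Ω := ⟨![a', b', c', d'], by
    intro i j hij
    fin_cases i <;> fin_cases j <;> simp_all⟩
  haveI := h4
  obtain ⟨g, hg⟩ := MulAction.exists_smul_eq G x y
  have h : ∀ i, g • x i = y i := fun i => by rw [← hg]; rfl
  exact ⟨g, h 0, h 1, h 2, h 3⟩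

/-- Tits' argument: a sharply 4-transitive group (no finiteness assumed) has finite degree at most 11, and at most 6 when the degree is even. -/
theorem result {G : Type*} [Group G] {Ω : Type*} [MulAction G Ω] (h4 : MulAction.IsMultiplyPretransitive G Ω 4) (hsharp : ∀ x : Fin 4 ↪ Ω, MulAction.stabilizer G x = ⊥) (hne : Nonempty (Fin 4 ↪ Ω)) : Finite Ω ∧ Nat.card Ω ≤ 11 ∧ (Even (Nat.card Ω) → Nat.card Ω ≤ 6) := by
  classical
  obtain ⟨q⟩ := hne
  set a := q 0 with ha'
  set b := q 1 with hb'
  set c := q 2 with hc'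
  set d := q 3 with hd'
  have hab : a ≠ b := fun h => absurd (q.injective h) (by decide)
  have hac : a ≠ c := fun h => absurd (q.injective h) (by decide)
  have had : a ≠ d := fun h => absurd (q.injective h) (by decide)
  have hbc : b ≠ c := fun h => absurd (q.injective h) (by decide)
  have hbd : b ≠ d := fun h => absurd (q.injective h) (by decide)
  have hcd : c ≠ d := fun h => absurd (q.injective h) (by decide)
  -- `t` fixes `a`, `b` and swaps `c`, `d`
  obtain ⟨t, hta, htb, htc, htd⟩ := exists_map h4 hab hac had hbc hbd hcd hab had hac hbd hbc hcd.symm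
  obtain ⟨s, hsa, hsb, hsc, hsd⟩ := exists_map h4 hab hac had hbc hbd hcd hab.symm hbc hbd hac had hcd
  have hfix3 : ∀ g : G, g ≠ 1 → ∀ x y z w : Ω, g • x = x → g • y = y → g • z = z → g • w = w →
      x ≠ y → x ≠ z → x ≠ w → y ≠ z → y ≠ w → z = w := by
    intro g hg x y z w hx hy hz hw hxy hxz hxw hyz hyw
    by_contra hzw
    exact hg (eq_one_of_fix hsharp hxy hxz hxw hyz hyw hzw hx hy hz hw)
  -- the involution fixing `a`, `b` and swapping `x`, `y`
  have hinv : ∀ x y : Ω, a ≠ x → a ≠ y → b ≠ x → b ≠ y → x ≠ y → ∀ u : G, u • a = a → u • b = b →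
      u • x = y → ∀ v : G, v • a = a → v • b = b → v • x = y → u • y = x → v • y = x → u = v := by
    intro x y hax hay hbx hby hxy u hua hub hux v hva hvb hvx huy hvy
    have := eq_one_of_fix hsharp (g := v⁻¹ * u) hab hax hay hbx hby hxy
      (by rw [mul_smul, hua, inv_smul_eq_iff, hva]) (by rw [mul_smul, hub, inv_smul_eq_iff, hvb])
      (by rw [mul_smul, hux, inv_smul_eq_iff, hvx]) (by rw [mul_smul, huy, inv_smul_eq_iff, hvy])
    rwa [inv_mul_eq_one, eq_comm] at this
  have hsab : ∀ x, a ≠ x → b ≠ x → a ≠ s • x ∧ b ≠ s • x := fun x hax hbx =>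
    ⟨fun h => hbx (smul_left_cancel s (hsb.trans h)), fun h => hax (smul_left_cancel s (hsa.trans h))⟩
  have hss : ∀ x : Ω, s • s • x = x := fun x => by
    have := eq_one_of_fix hsharp (g := s * s) hab hac had hbc hbd hcd
      (by rw [mul_smul, hsa, hsb]) (by rw [mul_smul, hsb, hsa])
      (by rw [mul_smul, hsc, hsc]) (by rw [mul_smul, hsd, hsd])
    rw [← mul_smul, this, one_smul]
  have hsne : s ≠ 1 := fun h => hab (by rw [← hsa, h, one_smul])
  have htne : t ≠ 1 := fun h => hcd (by rw [← htc, h, one_smul])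
  -- commuting
  have hcommute : ∀ x, a ≠ x → b ≠ x → s • x ≠ x → ∀ u : G, u • a = a → u • b = b → u • x = s • x →
      u • (s • x) = x → ∀ z : Ω, s • u • z = u • s • z := by
    intro x hax hbx hsx u hua hub hux hux' z
    obtain ⟨hasx, hbsx⟩ := hsab x hax hbx
    have e : s * u * s = u := hinv x (s • x) hax hasx hbx hbsx (Ne.symm hsx) (s * u * s)
      (by rw [mul_smul, mul_smul, hsa, hub, hsb]) (by rw [mul_smul, mul_smul, hsb, hua, hsa])
      (by rw [mul_smul, mul_smul, hux']) u hua hub hux
      (by rw [mul_smul, mul_smul, hss, hux, hss]) hux'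
    conv_lhs => rw [← hss z]
    rw [← mul_smul, ← mul_smul, e]
  have hconj : ∀ x, a ≠ x → b ≠ x → s • x ≠ x → ∃ g u : G, g • a = a ∧ g • b = b ∧ u = g * t * g⁻¹ ∧
      u • a = a ∧ u • b = b ∧ u • x = s • x ∧ u • (s • x) = x := by
    intro x hax hbx hsx
    obtain ⟨hasx, hbsx⟩ := hsab x hax hbx
    obtain ⟨g, hga, hgb, hgc, hgd⟩ := exists_map h4 hab hac had hbc hbd hcd hab hax hasx hbx hbsx (Ne.symm hsx)
    refine ⟨g, g * t * g⁻¹, hga, hgb, rfl, ?_, ?_, ?_, ?_⟩
    · rw [mul_smul, mul_smul, show g⁻¹ • a = a by rw [inv_smul_eq_iff, hga], hta, hga]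
    · rw [mul_smul, mul_smul, show g⁻¹ • b = b by rw [inv_smul_eq_iff, hgb], htb, hgb]
    · rw [mul_smul, mul_smul, show g⁻¹ • x = c by rw [inv_smul_eq_iff, hgc], htc, hgd]
    · rw [mul_smul, mul_smul, show g⁻¹ • (s • x) = d by rw [inv_smul_eq_iff, hgd], htd, hgc]
  -- at most three fixed points
  have hcard : ∀ g : G, g ≠ 1 → {x : Ω | g • x = x}.Finite ∧ {x : Ω | g • x = x}.ncard ≤ 3 := by
    intro g hg
    have key : ∀ F : Finset Ω, (↑F : Set Ω) ⊆ {x : Ω | g • x = x} → F.card ≤ 3 := by
      intro F hF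
      by_contra hlt
      obtain ⟨F', hF', hF'c⟩ := Finset.exists_subset_card_eq (n := 4) (s := F) (by omega)
      let e := Finset.equivFinOfCardEq hF'c
      have hm : ∀ i, g • (e.symm i : Ω) = e.symm i := fun i => hF (hF' (e.symm i).2)
      have hd' : ∀ i j, i ≠ j → (e.symm i : Ω) ≠ e.symm j := fun i j hij h =>
        hij (e.symm.injective (Subtype.ext h))
      exact hd' 2 3 (by decide) (hfix3 g hg _ _ _ _ (hm 0) (hm 1) (hm 2) (hm 3) (hd' 0 1 (by decide))
        (hd' 0 2 (by decide)) (hd' 0 3 (by decide)) (hd' 1 2 (by decide)) (hd' 1 3 (by decide)))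
    have hfin : {x : Ω | g • x = x}.Finite := by
      by_contra hinf
      obtain ⟨F, hF, hFc⟩ := (Set.Infinite.exists_subset_card_eq hinf 4)
      have := key F hF
      omega
    refine ⟨hfin, ?_⟩
    rw [Set.ncard_eq_toFinset_card _ hfin]
    exact key _ (by simp)
  by_cases he : ∃ e : Ω, t • e = e ∧ e ≠ a ∧ e ≠ b
  · -- three fixed points
    obtain ⟨e, hte, hea, heb⟩ := he
    have huniq : ∀ u : G, u ≠ 1 → ∀ m, a ≠ m → b ≠ m → u • a = a → u • b = b → u • m = m →
        ∀ z : Ω, u • z = z → z = a ∨ z = b ∨ z = m := by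
      intro u hu m ham hbm hua hub hum z hz
      by_contra hno
      push Not at hno
      exact hno.2.2 (hfix3 u hu a b m z hua hub hum hz hab ham (Ne.symm hno.1) hbm (Ne.symm hno.2.1)).symm
    have hsame : ∀ m, a ≠ m → b ≠ m → ∀ x, a ≠ x → b ≠ x → ∀ u v : G, u • a = a → u • b = b →
        u • m = m → v • a = a → v • b = b → v • m = m → u • u • x = x → v • v • x = x →
        u • x ≠ x → v • x ≠ x → u = v := by
      intro m ham hbm x hax hbx u v hua hub hum hva hvb hvm huu hvv hux hvx
      have haux : a ≠ u • x := fun h => hax (smul_left_cancel u (hua.trans h))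
      have hbux : b ≠ u • x := fun h => hbx (smul_left_cancel u (hub.trans h))
      have havx : a ≠ v • x := fun h => hax (smul_left_cancel v (hva.trans h))
      have hbvx : b ≠ v • x := fun h => hbx (smul_left_cancel v (hvb.trans h))
      obtain ⟨g, hga, hgb, hgx, hgu⟩ := exists_map h4 hab hax haux hbx hbux (Ne.symm hux) hab hax havx
        hbx hbvx (Ne.symm hvx)
      have ev : g * u * g⁻¹ = v := hinv x (v • x) hax havx hbx hbvx (Ne.symm hvx) _
        (by rw [mul_smul, mul_smul, show g⁻¹ • a = a by rw [inv_smul_eq_iff, hga], hua, hga])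
        (by rw [mul_smul, mul_smul, show g⁻¹ • b = b by rw [inv_smul_eq_iff, hgb], hub, hgb])
        (by rw [mul_smul, mul_smul, show g⁻¹ • x = x by rw [inv_smul_eq_iff, hgx], hgu]) v hva hvb rfl
        (by rw [mul_smul, mul_smul, show g⁻¹ • (v • x) = u • x by rw [inv_smul_eq_iff, hgu], huu, hgx])
        hvv
      have hgm : g • m = m := by
        have hvne : v ≠ 1 := fun h => hvx (by rw [h, one_smul])
        rcases huniq v hvne m ham hbm hva hvb hvm (g • m) (by
          rw [← ev, mul_smul, mul_smul, inv_smul_smul, hum]) with h | h | h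
        · exact absurd (smul_left_cancel g (hga.trans h.symm)) ham
        · exact absurd (smul_left_cancel g (hgb.trans h.symm)) hbm
        · exact h
      have hmx : m ≠ x := fun h => hux (h ▸ hum)
      have hg1 := eq_one_of_fix hsharp hab ham hax hbm hbx hmx hga hgb hgm hgx
      rw [hg1] at ev
      simpa using ev
    -- an involution for each fixed point of `s`
    have hex : ∀ m : Ω, s • m = m → ∃ u : G, u • a = a ∧ u • b = b ∧ u • m = m ∧ u ≠ 1 ∧ ∀ z : Ω, u • u • z = z := by
      intro m hm
      have ham : a ≠ m := fun h => hab (by rw [← hsa, h, hm])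
      have hbm : b ≠ m := fun h => hab (by rw [← hsb, h, hm])
      obtain ⟨w, hwa, hwb, hwm⟩ : ∃ w, w ≠ a ∧ w ≠ b ∧ w ≠ m := by
        by_cases h : c = m
        · exact ⟨d, had.symm, hbd.symm, fun h' => hcd (h.trans h'.symm)⟩
        · exact ⟨c, hac.symm, hbc.symm, h⟩
      obtain ⟨w', hwa', hwb', hwe'⟩ : ∃ w, w ≠ a ∧ w ≠ b ∧ w ≠ e := by
        refine ⟨c, hac.symm, hbc.symm, fun h => hcd ?_⟩
        rw [h, ← hte, ← h, htc]
      obtain ⟨g, hga, hgb, hge, -⟩ := exists_map h4 hab (Ne.symm hea) (Ne.symm hwa') (Ne.symm heb)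
        (Ne.symm hwb') (Ne.symm hwe') hab ham (Ne.symm hwa) hbm (Ne.symm hwb) (Ne.symm hwm)
      have htt : ∀ z : Ω, t • t • z = z := fun z => by
        have := eq_one_of_fix hsharp (g := t * t) hab hac had hbc hbd hcd
          (by rw [mul_smul, hta, hta]) (by rw [mul_smul, htb, htb])
          (by rw [mul_smul, htc, htd]) (by rw [mul_smul, htd, htc])
        rw [← mul_smul, this, one_smul]
      refine ⟨g * t * g⁻¹, ?_, ?_, ?_, ?_, fun z => ?_⟩
      · rw [mul_smul, mul_smul, show g⁻¹ • a = a by rw [inv_smul_eq_iff, hga], hta, hga]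
      · rw [mul_smul, mul_smul, show g⁻¹ • b = b by rw [inv_smul_eq_iff, hgb], htb, hgb]
      · rw [mul_smul, mul_smul, show g⁻¹ • m = e by rw [inv_smul_eq_iff, hge], hte, hge]
      · exact fun h => htne (conj_eq_one_iff.1 h)
      · rw [mul_smul, mul_smul, mul_smul, mul_smul, inv_smul_smul, htt, smul_inv_smul]
    choose U hUa hUb hUm hUne hUU using hex
    have hsfin := hcard s hsne
    have hst : ∀ m (hm : s • m = m), s * U m hm ≠ 1 := fun m hm h => hab (by
      have := congrArg (fun g : G => g • a) h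
      simp only [mul_smul, hUa, one_smul, hsa] at this
      exact this.symm)
    have hcover : ∀ x, x ≠ a → x ≠ b → ∃ m : {m : Ω // s • m = m}, (s * U m.1 m.2) • x = x := by
      intro x hxa hxb
      by_cases hsx : s • x = x
      · exact ⟨⟨x, hsx⟩, by rw [mul_smul, hUm x hsx, hsx]⟩
      obtain ⟨g, u, hga, hgb, hu, hua, hub, hux, hux'⟩ := hconj x (Ne.symm hxa) (Ne.symm hxb) hsx
      set m := g • e with hm'
      have hum : u • m = m := by rw [hu, mul_smul, mul_smul, inv_smul_smul, hte]
      have ham : a ≠ m := fun h => hea (smul_left_cancel g (hga.trans h)).symm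
      have hbm : b ≠ m := fun h => heb (smul_left_cancel g (hgb.trans h)).symm
      have hsm : s • m = m := by
        have hune : u ≠ 1 := fun h => hsx (by rw [← hux, h, one_smul])
        rcases huniq u hune m ham hbm hua hub hum (s • m) (by
          rw [← hcommute x (Ne.symm hxa) (Ne.symm hxb) hsx u hua hub hux hux' m, hum]) with h | h | h
        · exact absurd h.symm (hsab m ham hbm).1
        · exact absurd h.symm (hsab m ham hbm).2
        · exact h
      refine ⟨⟨m, hsm⟩, ?_⟩
      have hUx : U m hsm • x ≠ x := fun h => by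
        rcases huniq _ (hUne m hsm) m ham hbm (hUa m hsm) (hUb m hsm) (hUm m hsm) x h with h' | h' | h'
        · exact hxa h'
        · exact hxb h'
        · exact hsx (h' ▸ hsm)
      have := hsame m ham hbm x (Ne.symm hxa) (Ne.symm hxb) u (U m hsm) hua hub hum (hUa m hsm)
        (hUb m hsm) (hUm m hsm) (by rw [hux, hux']) (hUU m hsm x) (by rw [hux]; exact hsx) hUx
      rw [mul_smul, ← this, hux, hss]
    haveI : Finite {m : Ω // s • m = m} := hsfin.1.to_subtype
    haveI : Fintype {m : Ω // s • m = m} := Fintype.ofFinite _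
    let A : {m : Ω // s • m = m} → Set Ω := fun m => {x | (s * U m.1 m.2) • x = x}
    have hsub : (Set.univ : Set Ω) ⊆ {a, b} ∪ ⋃ m, A m := by
      intro x _
      by_cases hxa : x = a
      · exact Or.inl (Or.inl hxa)
      by_cases hxb : x = b
      · exact Or.inl (Or.inr hxb)
      obtain ⟨m, hm⟩ := hcover x hxa hxb
      exact Or.inr (Set.mem_iUnion.2 ⟨m, hm⟩)
    have hAfin : (⋃ m, A m).Finite := Set.finite_iUnion fun m => (hcard _ (hst m.1 m.2)).1
    have hfin : Finite Ω := Set.finite_univ_iff.1 (((Set.toFinite {a, b}).union hAfin).subset hsub)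
    refine ⟨hfin, ?_, ?_⟩
    · rw [← Set.ncard_univ]
      refine (Set.ncard_le_ncard hsub (Set.toFinite _)).trans ((Set.ncard_union_le _ _).trans ?_)
      have h2 : ({a, b} : Set Ω).ncard ≤ 2 := by rw [Set.ncard_pair hab]
      have h9 : (⋃ m, A m).ncard ≤ 9 := by
        calc (⋃ m, A m).ncard ≤ ∑ m, (A m).ncard := Set.ncard_iUnion_le_of_fintype A
          _ ≤ ∑ _m : {m : Ω // s • m = m}, 3 := Finset.sum_le_sum fun m _ => (hcard _ (hst m.1 m.2)).2
          _ = Nat.card {m : Ω // s • m = m} * 3 := by
            rw [Finset.sum_const, Finset.card_univ, Nat.card_eq_fintype_card, smul_eq_mul]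
          _ ≤ 9 := by
            have := hsfin.2
            rw [← Nat.card_coe_set_eq] at this
            change Nat.card {m : Ω // s • m = m} ≤ 3 at this
            omega
      omega
    · intro hev
      exfalso
      have : Fintype Ω := Fintype.ofFinite Ω
      haveI : Fact (Nat.Prime 2) := ⟨Nat.prime_two⟩
      have hmod : Nat.card Ω ≡ Nat.card {x : Ω | t • x = x} [MOD 2] := by
        have hp : IsPGroup 2 (Subgroup.zpowers t) := by
          refine IsPGroup.of_card (n := 1) ?_
          rw [Nat.card_zpowers, pow_one]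
          refine orderOf_eq_prime ?_ htne
          rw [pow_two]
          exact eq_one_of_fix hsharp hab hac had hbc hbd hcd (by rw [mul_smul, hta, hta])
            (by rw [mul_smul, htb, htb]) (by rw [mul_smul, htc, htd]) (by rw [mul_smul, htd, htc])
        refine (hp.card_modEq_card_fixedPoints (α := Ω)).trans (congrArg (· % 2) ?_)
        refine Nat.card_congr (Equiv.setCongr (Set.ext fun x => ?_))
        refine ⟨fun h => h ⟨t, Subgroup.mem_zpowers t⟩, fun h g => ?_⟩
        have : (g : G) ∈ MulAction.stabilizer G x :=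
          (Subgroup.zpowers_le.2 (show t ∈ MulAction.stabilizer G x from h)) g.2
        exact this
      have h3 : {x : Ω | t • x = x} = {a, b, e} := by
        refine Set.ext fun z => ⟨fun hz => huniq t htne e (Ne.symm hea) (Ne.symm heb) hta htb hte z hz, ?_⟩
        rintro (rfl | rfl | rfl)
        exacts [hta, htb, hte]
      rw [h3, Nat.card_coe_set_eq, Set.ncard_insert_of_notMem (by simp [hab, Ne.symm hea]),
        Set.ncard_pair (Ne.symm heb)] at hmod
      rw [Nat.ModEq, Nat.even_iff.1 hev] at hmod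
      omega
  · -- two fixed points
    push Not at he
    have htfix : ∀ z : Ω, t • z = z → z = a ∨ z = b := fun z hz => or_iff_not_imp_left.2 (he z hz)
    have hst' : ∀ z : Ω, s • t • z = t • s • z := fun z => by
      have e : s * t * s = t := hinv c d hac had hbc hbd hcd (s * t * s)
        (by rw [mul_smul, mul_smul, hsa, htb, hsb]) (by rw [mul_smul, mul_smul, hsb, hta, hsa])
        (by rw [mul_smul, mul_smul, hsc, htc, hsd]) t hta htb htc
        (by rw [mul_smul, mul_smul, hsd, htd, hsc]) htd
      conv_lhs => rw [← hss z]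
      rw [← mul_smul, ← mul_smul, e]
    have hsfix : ∀ z : Ω, s • z = z → z = c ∨ z = d := by
      intro z hz
      by_contra hno
      push Not at hno
      have h1 : s • t • z = t • z := by rw [hst', hz]
      have hzc : t • z ≠ c := fun h => hno.2 (smul_left_cancel t (h.trans htd.symm))
      have hzd : t • z ≠ d := fun h => hno.1 (smul_left_cancel t (h.trans htc.symm))
      have hne : z ≠ t • z := fun h => by
        rcases htfix z h.symm with rfl | rfl
        · exact hab (hz.symm.trans hsa)
        · exact hab (hsb.symm.trans hz)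
      exact hne (hfix3 s hsne c d z (t • z) hsc hsd hz h1 hcd (Ne.symm hno.1) (Ne.symm hzc)
        (Ne.symm hno.2) (Ne.symm hzd))
    have hcover : ∀ x, x ≠ a → x ≠ b → x ≠ c → x ≠ d → (s * t) • x = x := by
      intro x hxa hxb hxc hxd
      have hsx : s • x ≠ x := fun h => (hsfix x h).elim hxc hxd
      obtain ⟨g, u, hga, hgb, hu, hua, hub, hux, hux'⟩ := hconj x (Ne.symm hxa) (Ne.symm hxb) hsx
      have hcm := hcommute x (Ne.symm hxa) (Ne.symm hxb) hsx u hua hub hux hux'
      have hune : u ≠ 1 := fun h => hsx (by rw [← hux, h, one_smul])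
      have hufix : ∀ z : Ω, u • z = z → z = a ∨ z = b := by
        intro z hz
        rcases htfix (g⁻¹ • z) (by
          conv_rhs => rw [← hz, hu, mul_smul, mul_smul, inv_smul_smul]) with h | h
        · left; rw [inv_smul_eq_iff, hga] at h; exact h
        · right; rw [inv_smul_eq_iff, hgb] at h; exact h
      have huc : u • c = d := (hsfix _ (by rw [hcm, hsc])).resolve_left fun h =>
        (hufix c h).elim (Ne.symm hac) (Ne.symm hbc)
      have hud : u • d = c := (hsfix _ (by rw [hcm, hsd])).resolve_right fun h =>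
        (hufix d h).elim (Ne.symm had) (Ne.symm hbd)
      have hut : u = t := hinv c d hac had hbc hbd hcd u hua hub huc t hta htb htc hud htd
      rw [mul_smul, ← hut, hux, hss]
    set B : Set Ω := {x | (s * t) • x = x} with hB
    have hstne : s * t ≠ 1 := fun h => hab (by
      have := congrArg (fun g : G => g • a) h
      simp only [mul_smul, hta, one_smul, hsa] at this
      exact this.symm)
    obtain ⟨hBfin, hB3⟩ := hcard _ hstne
    have hB2 : B.ncard ≤ 2 := by
      by_contra h
      change B.ncard ≤ 3 at hB3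
      have h3 : B.ncard = 3 := by omega
      obtain ⟨x, y, z, hxy, hxz, hyz, hBeq⟩ := Set.ncard_eq_three.1 h3
      have hmove : ∀ w ∈ B, t • w ∈ B ∧ t • w ≠ w ∧ t • t • w = w := by
        intro w hw
        have hw' : s • t • w = w := by rw [← mul_smul]; exact hw
        refine ⟨?_, ?_, ?_⟩
        · show (s * t) • (t • w) = t • w
          rw [mul_smul, hst', hw']
        · intro hfix
          rcases htfix w hfix with rfl | rfl
          · rw [hta, hsa] at hw'; exact hab hw'.symm
          · rw [htb, hsb] at hw'; exact hab hw'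
        · have := eq_one_of_fix hsharp (g := t * t) hab hac had hbc hbd hcd
            (by rw [mul_smul, hta, hta]) (by rw [mul_smul, htb, htb])
            (by rw [mul_smul, htc, htd]) (by rw [mul_smul, htd, htc])
          rw [← mul_smul, this, one_smul]
      have hx := hmove x (by rw [hBeq]; simp)
      have hy := hmove y (by rw [hBeq]; simp)
      have hz := hmove z (by rw [hBeq]; simp)
      have hx1 := hx.1; have hy1 := hy.1; have hz1 := hz.1
      rw [hBeq] at hx1 hy1 hz1
      simp only [Set.mem_insert_iff, Set.mem_singleton_iff] at hx1 hy1 hz1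
      obtain ⟨-, hx2, hx3⟩ := hx
      obtain ⟨-, hy2, hy3⟩ := hy
      obtain ⟨-, hz2, hz3⟩ := hz
      rcases hx1 with e1 | e1 | e1
      · exact hx2 e1
      · rcases hz1 with e2 | e2 | e2
        · exact hyz (e1.symm.trans ((congrArg (t • ·) e2).symm.trans hz3))
        · exact hxz (smul_left_cancel t (e1.trans e2.symm))
        · exact hz2 e2
      · rcases hy1 with e2 | e2 | e2
        · exact hyz ((e1.symm.trans ((congrArg (t • ·) e2).symm.trans hy3))).symm
        · exact hy2 e2
        · exact hxy (smul_left_cancel t (e1.trans e2.symm))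
    have hsub : (Set.univ : Set Ω) ⊆ {a, b} ∪ {c, d} ∪ B := by
      intro x _
      by_cases hxa : x = a
      · exact Or.inl (Or.inl (Or.inl hxa))
      by_cases hxb : x = b
      · exact Or.inl (Or.inl (Or.inr hxb))
      by_cases hxc : x = c
      · exact Or.inl (Or.inr (Or.inl hxc))
      by_cases hxd : x = d
      · exact Or.inl (Or.inr (Or.inr hxd))
      exact Or.inr (hcover x hxa hxb hxc hxd)
    have hU : ({a, b} ∪ {c, d} ∪ B : Set Ω).Finite := ((Set.toFinite _).union (Set.toFinite _)).union hBfin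
    have hfin : Finite Ω := Set.finite_univ_iff.1 (hU.subset hsub)
    have h6 : Nat.card Ω ≤ 6 := by
      rw [← Set.ncard_univ]
      refine (Set.ncard_le_ncard hsub (Set.toFinite _)).trans ((Set.ncard_union_le _ _).trans ?_)
      have := Set.ncard_union_le ({a, b} : Set Ω) {c, d}
      rw [Set.ncard_pair hab, Set.ncard_pair hcd] at this
      omega
    exact ⟨hfin, by omega, fun _ => h6⟩

end Cfsg.Agent.S0708
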