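import Cfsg.Statements.S0709
import Mathlib
-- import your own Cfsg.Agent.* helpers here

set_option autoImplicit false
open Cfsg

namespace Cfsg.Agent.S0709

/-- Witt's Lemma for constructing transitive extensions. Points `q 1, …, q t` (`t ≥ 2`) of a finite set are given; `G` fixes `q i` for `i ≥ 3` and is doubly transitive on the remaining points; `s 1 ∈ G` swaps `q 1, q 2`; for `2 ≤ i ≤ t-1`, `s i` swaps `q i, q (i+1)` and fixes the other `q j`; with `H` the stabiliser of `q 1, q 2` in `G`: `s i ^ 2 ∈ H`, `(s i * s (i+1)) ^ 3 ∈ H`, `(s i * s j) ^ 2 ∈ H` for `j ≥ i + 2`, and `s i` (`i ≥ 2`) normalises the stabiliser of `q 2` in `G`. Then `G` and the `s i` generate a `t`-transitive group whose pointwise stabiliser of the `q`'s is `H`. -/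
theorem result {α : Type*} [Fintype α] [DecidableEq α] (t : ℕ) (ht : 2 ≤ t) (q : ℕ → α) (hq : ∀ i j : ℕ, 1 ≤ i → i ≤ t → 1 ≤ j → j ≤ t → q i = q j → i = j) (G : Subgroup (Equiv.Perm α)) (hfix : ∀ g ∈ G, ∀ i : ℕ, 3 ≤ i → i ≤ t → g (q i) = q i) (h2 : ∀ a b c d : α, (∀ i, 3 ≤ i → i ≤ t → a ≠ q i ∧ b ≠ q i ∧ c ≠ q i ∧ d ≠ q i) → a ≠ b → c ≠ d → ∃ g ∈ G, g a = c ∧ g b = d) (s : ℕ → Equiv.Perm α) (hs1 : s 1 ∈ G) (hs1q : s 1 (q 1) = q 2 ∧ s 1 (q 2) = q 1) (hsq : ∀ i : ℕ, 2 ≤ i → i + 1 ≤ t → s i (q i) = q (i + 1) ∧ s i (q (i + 1)) = q i ∧ ∀ j : ℕ, 1 ≤ j → j ≤ t → j ≠ i → j ≠ i + 1 → s i (q j) = q j) (H : Subgroup (Equiv.Perm α)) (hH : H = G ⊓ MulAction.stabilizer (Equiv.Perm α) (q 1) ⊓ MulAction.stabilizer (Equiv.Perm α) (q 2)) (hsq2 : ∀ i : ℕ, 1 ≤ i → i + 1 ≤ t → s i ^ 2 ∈ H) (hbraid : ∀ i : ℕ, 1 ≤ i → i + 2 ≤ t → (s i * s (i + 1)) ^ 3 ∈ H) (hcomm : ∀ i j : ℕ, 1 ≤ i → i + 2 ≤ j → j + 1 ≤ t → (s i * s j) ^ 2 ∈ H ∧ (s j * s i) ^ 2 ∈ H)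 (hnorm : ∀ i : ℕ, 2 ≤ i → i + 1 ≤ t → ∀ g ∈ G ⊓ MulAction.stabilizer (Equiv.Perm α) (q 2), s i * g * (s i)⁻¹ ∈ G ⊓ MulAction.stabilizer (Equiv.Perm α) (q 2)) : MulAction.IsMultiplyPretransitive ↥(Subgroup.closure ((G : Set (Equiv.Perm α)) ∪ {x | ∃ i : ℕ, 2 ≤ i ∧ i + 1 ≤ t ∧ x = s i})) α t ∧ Subgroup.closure ((G : Set (Equiv.Perm α)) ∪ {x | ∃ i : ℕ, 2 ≤ i ∧ i + 1 ≤ t ∧ x = s i}) ⊓ fixingSubgroup (Equiv.Perm α) {x | ∃ i : ℕ, 1 ≤ i ∧ i ≤ t ∧ x = q i} = H := by
  classical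
  let P1 : Subgroup (Equiv.Perm α) := G ⊓ MulAction.stabilizer (Equiv.Perm α) (q 2)
  let P : ℕ → Subgroup (Equiv.Perm α) := fun r =>
    if r ≤ 1 then P1 else Subgroup.closure ((G : Set (Equiv.Perm α)) ∪ {x | ∃ i : ℕ, 2 ≤ i ∧ i + 1 ≤ r ∧ x = s i})
  have hP1 : ∀ r, r ≤ 1 → P r = P1 := fun r h => if_pos h
  have hPc : ∀ r, 2 ≤ r → P r = Subgroup.closure ((G : Set (Equiv.Perm α)) ∪ {x | ∃ i : ℕ, 2 ≤ i ∧ i + 1 ≤ r ∧ x = s i}) :=
    fun r h => if_neg (by omega)
  have hP2 : P 2 = G := by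
    rw [hPc 2 le_rfl]
    refine le_antisymm ((Subgroup.closure_le _).mpr (Set.union_subset (fun x hx => hx) ?_)) ?_
    · rintro x ⟨i, h1, h2', -⟩; omega
    · exact fun x hx => Subgroup.subset_closure (Or.inl hx)
  have hmono : ∀ r, P r ≤ P (r + 1) := by
    intro r
    rcases Nat.lt_or_ge r 2 with h | h
    · rw [hP1 r (by omega)]
      rcases Nat.lt_or_ge (r + 1) 2 with h' | h'
      · rw [hP1 _ (by omega)]
      · rw [show r + 1 = 2 by omega, hP2]; exact inf_le_left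
    · rw [hPc r h, hPc (r + 1) (by omega)]
      refine Subgroup.closure_mono (Set.union_subset_union_right _ ?_)
      rintro x ⟨i, h1, h2', rfl⟩; exact ⟨i, h1, by omega, rfl⟩
  have hs_mem : ∀ r, 1 ≤ r → s r ∈ P (r + 1) := by
    intro r hr
    rcases Nat.lt_or_ge r 2 with h | h
    · rw [show r = 1 by omega, hP2]; exact hs1
    · rw [hPc _ (by omega)]; exact Subgroup.subset_closure (Or.inr ⟨r, h, le_rfl, rfl⟩)
  have hclos : ∀ r, 1 ≤ r → ∀ Q : Subgroup (Equiv.Perm α), P r ≤ Q → s r ∈ Q →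
      (r = 1 → G ≤ Q) → P (r + 1) ≤ Q := by
    intro r hr Q h1 h2' h3
    rcases Nat.lt_or_ge r 2 with h | h
    · obtain rfl : r = 1 := by omega
      rw [hP2]; exact h3 rfl
    · rw [hPc _ (by omega), Subgroup.closure_le]
      rintro x (hx | ⟨i, hi, hi', rfl⟩)
      · exact h1 (by rw [hPc r h]; exact Subgroup.subset_closure (Or.inl hx))
      · rcases eq_or_ne i r with rfl | hne
        · exact h2'
        · exact h1 (by rw [hPc r h]; exact Subgroup.subset_closure (Or.inr ⟨i, hi, by omega, rfl⟩))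
  have hHle : ∀ r, H ≤ P r := by
    intro r
    induction r with
    | zero =>
      rw [hP1 0 (by omega), hH]
      exact fun x hx => ⟨hx.1.1, hx.2⟩
    | succ r ih => exact ih.trans (hmono r)
  have hfix2 : ∀ g ∈ P1, g (q 2) = q 2 := fun g hg => hg.2
  -- two-transitivity of `G` on the free points
  have hfree : ∀ i, i = 1 ∨ i = 2 → ∀ j, 3 ≤ j → j ≤ t → q i ≠ q j := fun i hi j hj hjt e => by
    have := hq i j (by omega) (by omega) (by omega) hjt e; omega
  have hq12 : q 1 ≠ q 2 := fun e => by have := hq 1 2 le_rfl (by omega) (by omega) ht e; omega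
  have hGcos : ∀ x ∈ G, x ∈ P1 ∨ ∃ a ∈ P1, ∃ b ∈ P1, x = a * s 1 * b := by
    intro x hx
    by_cases h : x (q 2) = q 2
    · exact Or.inl ⟨hx, h⟩
    right
    have hxfree : ∀ j, 3 ≤ j → j ≤ t → x (q 2) ≠ q j := fun j hj hjt e => by
      have := x.injective (e.trans (hfix x hx j hj hjt).symm)
      exact hfree 2 (Or.inr rfl) j hj hjt this
    obtain ⟨a, ha, ha1, ha2⟩ := h2 (q 1) (q 2) (x (q 2)) (q 2)
      (fun j hj hjt => ⟨hfree 1 (Or.inl rfl) j hj hjt, hfree 2 (Or.inr rfl) j hj hjt, hxfree j hj hjt,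
        hfree 2 (Or.inr rfl) j hj hjt⟩) hq12 h
    refine ⟨a, ⟨ha, ha2⟩, (a * s 1)⁻¹ * x, ⟨G.mul_mem (G.inv_mem (G.mul_mem ha hs1)) hx, ?_⟩, by group⟩
    show (a * s 1)⁻¹ (x (q 2)) = q 2
    rw [Equiv.Perm.inv_def, Equiv.symm_apply_eq, Equiv.Perm.coe_mul, Function.comp_apply, hs1q.2, ha1]
  -- normalisation
  have hnormal : ∀ r, 1 ≤ r → ∀ i, r + 1 ≤ i → i + 1 ≤ t → ∀ g ∈ P r, s i * g * (s i)⁻¹ ∈ P r := by
    intro r hr
    induction r, hr using Nat.le_induction with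
    | base =>
      intro i hi hit g hg
      rw [hP1 1 le_rfl] at hg ⊢
      exact hnorm i hi hit g hg
    | succ r hr ih =>
      intro i hi hit g hg
      let Q : Subgroup (Equiv.Perm α) := (P (r + 1)).comap (MulAut.conj (s i)).toMonoidHom
      have hsr : s i * s r * (s i)⁻¹ ∈ P (r + 1) := by
        have e : s i * s r * (s i)⁻¹ = (s i * s r) ^ 2 * (s r)⁻¹ * (s i ^ 2)⁻¹ := by
          simp only [sq]; group
        rw [e]
        exact (P (r + 1)).mul_mem ((P (r + 1)).mul_mem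
          (hHle _ (hcomm r i hr (by omega) hit).2) ((P (r + 1)).inv_mem (hs_mem r hr)))
          ((P (r + 1)).inv_mem (hHle _ (hsq2 i (by omega) hit)))
      have hle : P r ≤ Q := fun x hx => hmono r (ih i (by omega) hit x hx)
      exact hclos r hr Q hle hsr (fun h1 x hx => by
        subst h1
        rcases hGcos x hx with h | ⟨a, ha, b, hb, rfl⟩
        · exact hle (by rw [hP1 1 le_rfl]; exact h)
        · exact Q.mul_mem (Q.mul_mem (hle (by rw [hP1 1 le_rfl]; exact ha)) hsr)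
            (hle (by rw [hP1 1 le_rfl]; exact hb))) hg
  -- the double coset decomposition
  have hbruhat : ∀ r, 1 ≤ r → r + 1 ≤ t → ∀ x ∈ P (r + 1),
      x ∈ P r ∨ ∃ a ∈ P r, ∃ b ∈ P r, x = a * s r * b := by
    intro r hr
    induction r, hr using Nat.le_induction with
    | base =>
      intro _ x hx
      rw [hP2] at hx
      rw [hP1 1 le_rfl]
      exact hGcos x hx
    | succ r hr ih =>
      intro hrt x hx
      set R := P (r + 1)
      set u := s (r + 1)
      have hu2 : u ^ 2 ∈ R := hHle _ (hsq2 (r + 1) (by omega) hrt)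
      have hn : ∀ g ∈ P r, u * g * u⁻¹ ∈ P r := hnormal r hr (r + 1) le_rfl hrt
      have hn' : ∀ g ∈ P r, u⁻¹ * g * u ∈ P r := by
        intro g hg
        have e : u⁻¹ * g * u = (u ^ 2)⁻¹ * (u * g * u⁻¹) * u ^ 2 := by simp only [sq]; group
        rw [e]
        have h' : u ^ 2 ∈ P r := hHle _ (hsq2 (r + 1) (by omega) hrt)
        exact (P r).mul_mem ((P r).mul_mem ((P r).inv_mem h') (hn g hg)) h'
      let S : Set (Equiv.Perm α) := {x | x ∈ R ∨ ∃ a ∈ R, ∃ b ∈ R, x = a * u * b}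
      have hleft : ∀ a ∈ R, ∀ x ∈ S, a * x ∈ S := by
        rintro a ha x (hx | ⟨c, hc, d, hd, rfl⟩)
        · exact Or.inl (R.mul_mem ha hx)
        · exact Or.inr ⟨a * c, R.mul_mem ha hc, d, hd, by group⟩
      have hright : ∀ a ∈ R, ∀ x ∈ S, x * a ∈ S := by
        rintro a ha x (hx | ⟨c, hc, d, hd, rfl⟩)
        · exact Or.inl (R.mul_mem hx ha)
        · exact Or.inr ⟨c, hc, d * a, R.mul_mem hd ha, by group⟩
      have huru : ∀ g ∈ R, u * g * u ∈ S := by
        intro g hg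
        rcases ih (by omega) g hg with h | ⟨a, ha, b, hb, rfl⟩
        · refine Or.inl ?_
          rw [show u * g * u = (u * g * u⁻¹) * u ^ 2 by rw [sq]; group]
          exact R.mul_mem (hmono r (hn g h)) hu2
        · have hv : s r ∈ R := hs_mem r hr
          have hcube : (s r * u) ^ 3 ∈ R := hHle _ (hbraid r hr (by omega))
          have e : u * (a * s r * b) * u = (u * a * u⁻¹) *
              ((s r)⁻¹ * (s r * u) ^ 3) * (u ^ 2)⁻¹ * u * ((s r)⁻¹ * (u⁻¹ * b * u)) := by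
            simp only [pow_succ, pow_zero, one_mul]; group
          rw [e]
          exact Or.inr ⟨_, R.mul_mem (R.mul_mem (hmono r (hn a ha)) (R.mul_mem (R.inv_mem hv) hcube))
            (R.inv_mem hu2), _, R.mul_mem (R.inv_mem hv) (hmono r (hn' b hb)), rfl⟩
      have hmul : ∀ x ∈ S, ∀ y ∈ S, x * y ∈ S := by
        rintro x (hx | ⟨a, ha, b, hb, rfl⟩) y hy
        · exact hleft x hx y hy
        rcases hy with hy | ⟨c, hc, d, hd, rfl⟩
        · exact hright y hy _ (Or.inr ⟨a, ha, b, hb, rfl⟩)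
        · rw [show a * u * b * (c * u * d) = a * (u * (b * c) * u) * d by group]
          exact hright d hd _ (hleft a ha _ (huru _ (R.mul_mem hb hc)))
      have hinv : ∀ x ∈ S, x⁻¹ ∈ S := by
        rintro x (hx | ⟨a, ha, b, hb, rfl⟩)
        · exact Or.inl (R.inv_mem hx)
        · refine Or.inr ⟨b⁻¹, R.inv_mem hb, (u ^ 2)⁻¹ * a⁻¹, R.mul_mem (R.inv_mem hu2) (R.inv_mem ha), ?_⟩
          rw [sq]; group
      let Q : Subgroup (Equiv.Perm α) :=
        { carrier := S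
          one_mem' := Or.inl R.one_mem
          mul_mem' := fun {x y} hx hy => hmul x hx y hy
          inv_mem' := fun {x} hx => hinv x hx }
      exact hclos (r + 1) (by omega) Q (fun y hy => Or.inl hy)
        (Or.inr ⟨1, R.one_mem, 1, R.one_mem, by simp [u]⟩) (fun h => by omega) hx
  -- fixed points
  have hPfix : ∀ r, 1 ≤ r → ∀ g ∈ P r, ∀ j, r + 1 ≤ j → j ≤ t → g (q j) = q j := by
    intro r hr g hg j hj hjt
    have hst : P r ≤ MulAction.stabilizer (Equiv.Perm α) (q j) := by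
      rcases Nat.lt_or_ge r 2 with h | h
      · rw [hP1 r (by omega)]
        intro x hx
        rcases Nat.lt_or_ge j 3 with h' | h'
        · rw [show j = 2 by omega]; exact hx.2
        · exact hfix x hx.1 j h' hjt
      · rw [hPc r h, Subgroup.closure_le]
        rintro x (hx | ⟨i, hi, hi', rfl⟩)
        · exact hfix x hx j (by omega) hjt
        · exact (hsq i hi (by omega)).2.2 j (by omega) hjt (by omega) (by omega)
    exact hst hg
  have hsmove : ∀ r, 1 ≤ r → r + 1 ≤ t → s r (q (r + 1)) = q r := by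
    intro r hr hrt
    rcases Nat.lt_or_ge r 2 with h | h
    · obtain rfl : r = 1 := by omega
      exact hs1q.2
    · exact (hsq r h hrt).2.1
  have htrans : ∀ r, 1 ≤ r → r ≤ t → ∀ y, (∀ j, r + 1 ≤ j → j ≤ t → y ≠ q j) → ∃ g ∈ P r, g (q r) = y := by
    intro r hr
    induction r, hr using Nat.le_induction with
    | base =>
      intro _ y hy
      by_cases hy2 : y = q 2
      · exact absurd hy2 (hy 2 le_rfl ht)
      obtain ⟨a, ha, ha1, ha2⟩ := h2 (q 1) (q 2) y (q 2)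
        (fun j hj hjt => ⟨hfree 1 (Or.inl rfl) j hj hjt, hfree 2 (Or.inr rfl) j hj hjt, hy j (by omega) hjt,
          hfree 2 (Or.inr rfl) j hj hjt⟩) hq12 hy2
      exact ⟨a, by rw [hP1 1 le_rfl]; exact ⟨ha, ha2⟩, ha1⟩
    | succ r hr ih =>
      intro hrt y hy
      by_cases hyq : y = q (r + 1)
      · exact ⟨1, Subgroup.one_mem _, by rw [Equiv.Perm.coe_one, id_eq, hyq]⟩
      obtain ⟨g, hg, hgy⟩ := ih (by omega) y (fun j hj hjt => by
        rcases eq_or_ne j (r + 1) with rfl | hne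
        · exact hyq
        · exact hy j (by omega) hjt)
      refine ⟨g * s r, (P (r + 1)).mul_mem (hmono r hg) (hs_mem r hr), ?_⟩
      rw [Equiv.Perm.coe_mul, Function.comp_apply, hsmove r hr hrt, hgy]
  have hstab : ∀ r, 1 ≤ r → r + 1 ≤ t → ∀ g ∈ P (r + 1), g (q (r + 1)) = q (r + 1) → g ∈ P r := by
    intro r hr hrt g hg hgq
    rcases hbruhat r hr hrt g hg with h | ⟨a, ha, b, hb, rfl⟩
    · exact h
    exfalso
    rw [Equiv.Perm.coe_mul, Equiv.Perm.coe_mul, Function.comp_apply, Function.comp_apply,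
      hPfix r hr b hb (r + 1) le_rfl hrt, hsmove r hr hrt, ← hPfix r hr a ha (r + 1) le_rfl hrt] at hgq
    have := hq r (r + 1) hr (by omega) (by omega) hrt (a.injective hgq)
    omega
  have hdown : ∀ r, 1 ≤ r → r ≤ t → ∀ x : ℕ → α,
      (∀ i j, 1 ≤ i → i ≤ r → 1 ≤ j → j ≤ r → x i = x j → i = j) →
      (∀ i, 1 ≤ i → i ≤ r → ∀ j, r + 1 ≤ j → j ≤ t → x i ≠ q j) →
      ∃ g ∈ P r, ∀ i, 1 ≤ i → i ≤ r → g (q i) = x i := by
    intro r hr
    induction r, hr using Nat.le_induction with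
    | base =>
      intro hrt x _ hx2
      obtain ⟨g, hg, hgx⟩ := htrans 1 le_rfl hrt (x 1) (hx2 1 le_rfl le_rfl)
      exact ⟨g, hg, fun i hi hi' => by rw [show i = 1 by omega, hgx]⟩
    | succ r hr ih =>
      intro hrt x hx1 hx2
      obtain ⟨g, hg, hgx⟩ := htrans (r + 1) (by omega) hrt (x (r + 1)) (hx2 (r + 1) (by omega) le_rfl)
      obtain ⟨g', hg', hg'x⟩ := ih (by omega) (fun i => g⁻¹ (x i))
        (fun i j hi hi' hj hj' h => hx1 i j hi (by omega) hj (by omega) (g⁻¹.injective h))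
        (fun i hi hi' j hj hjt h => by
          have h' : x i = g (q j) := by rw [← h]; simp
          rcases eq_or_ne j (r + 1) with rfl | hne
          · rw [hgx] at h'
            have := hx1 i (r + 1) hi (by omega) (by omega) le_rfl h'
            omega
          · rw [hPfix (r + 1) (by omega) g hg j (by omega) hjt] at h'
            exact hx2 i hi (by omega) j (by omega) hjt h')
      refine ⟨g * g', (P (r + 1)).mul_mem hg (hmono r hg'), fun i hi hi' => ?_⟩
      rw [Equiv.Perm.coe_mul, Function.comp_apply]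
      rcases eq_or_ne i (r + 1) with rfl | hne
      · rw [hPfix r hr g' hg' (r + 1) le_rfl hrt, hgx]
      · rw [hg'x i hi (by omega)]
        simp
  have hpoint : ∀ r, 1 ≤ r → r ≤ t → ∀ g ∈ P r, (∀ i, 1 ≤ i → i ≤ t → g (q i) = q i) → g ∈ H := by
    intro r hr
    induction r, hr using Nat.le_induction with
    | base =>
      intro _ g hg hgq
      rw [hP1 1 le_rfl] at hg
      rw [hH]
      exact ⟨⟨hg.1, hgq 1 le_rfl (by omega)⟩, hg.2⟩
    | succ r hr ih =>
      intro hrt g hg hgq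
      exact ih (by omega) g (hstab r hr hrt g hg (hgq (r + 1) (by omega) hrt)) hgq
  rw [← hPc t ht]
  refine ⟨⟨fun x y => ?_⟩, le_antisymm ?_ ?_⟩
  · have hbase : ∀ z : Fin t ↪ α, ∃ g ∈ P t, ∀ i : Fin t, g (q (i + 1)) = z i := by
      intro z
      let x' : ℕ → α := fun i => if h : i - 1 < t then z ⟨i - 1, h⟩ else q 1
      obtain ⟨g, hg, hgx⟩ := hdown t (by omega) le_rfl x'
        (fun i j hi hi' hj hj' h => by
          simp only [x', dif_pos (show i - 1 < t by omega), dif_pos (show j - 1 < t by omega)] at h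
          have := congrArg Fin.val (z.injective h)
          simp only at this
          omega)
        (fun i _ _ j hj hjt => by omega)
      refine ⟨g, hg, fun i => ?_⟩
      rw [hgx (i + 1) (by omega) (by omega)]
      simp only [x']
      rw [dif_pos (show (i : ℕ) + 1 - 1 < t by omega)]
      rfl
    obtain ⟨a, ha, hax⟩ := hbase x
    obtain ⟨b, hb, hby⟩ := hbase y
    refine ⟨⟨b * a⁻¹, (P t).mul_mem hb ((P t).inv_mem ha)⟩, Function.Embedding.ext fun i => ?_⟩
    show (b * a⁻¹) (x i) = y i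
    rw [← hax i, Equiv.Perm.coe_mul, Function.comp_apply, Equiv.Perm.inv_def, Equiv.symm_apply_apply, hby i]
  · rintro g ⟨hg1, hg2⟩
    exact hpoint t (by omega) le_rfl g hg1 fun i hi hi' => (mem_fixingSubgroup_iff _).mp hg2 _ ⟨i, hi, hi', rfl⟩
  · intro g hg
    refine ⟨hHle t hg, (mem_fixingSubgroup_iff _).mpr ?_⟩
    rintro _ ⟨i, hi, hit, rfl⟩
    rw [hH] at hg
    rcases Nat.lt_or_ge i 3 with h | h
    · rcases (show i = 1 ∨ i = 2 by omega) with rfl | rfl
      · exact hg.1.2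
      · exact hg.2
    · exact hfix g hg.1.1 i h hit

end Cfsg.Agent.S0709
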