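import Cfsg.Statements.S0710
import Mathlib
import Cfsg.Agent.Lib.Block.PrimeDegree

set_option autoImplicit false
open Cfsg

namespace Cfsg.Agent.S0710

/-- No transitive permutation group on 13 points has order `13 * 12 * 11 * 10 * 9 * 8`. -/
theorem result {α : Type*} [Fintype α] [DecidableEq α] (hα : Fintype.card α = 13) (G : Subgroup (Equiv.Perm α)) [MulAction.IsPretransitive G α] : Nat.card G ≠ 13 * 12 * 11 * 10 * 9 * 8 := by
  intro hG
  have := Fact.mk (show (13).Prime by norm_num)
  obtain ⟨P⟩ : Nonempty (Sylow 13 G) := inferInstance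
  have h1 := Cfsg.Agent.Block.primeDeg_card_normalizer_dvd hα G P
  have h2 : 13 ∣ Nat.card (Subgroup.normalizer ((P : Subgroup G) : Set G)) := by
    have := Cfsg.Agent.Block.primeDeg_card_sylow hα G P
    exact this.symm.dvd.trans (Subgroup.card_dvd_of_le Subgroup.le_normalizer)
  obtain ⟨d, hd⟩ := h2
  have h3 : d ∣ 12 := by
    rw [hd] at h1
    exact Nat.dvd_of_mul_dvd_mul_left (by norm_num) h1
  have h4 := (Subgroup.normalizer ((P : Subgroup G) : Set G)).card_mul_index
  have hs := Sylow.card_eq_index_normalizer P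
  simp only [hd, hG] at h4
  change _ * (Subgroup.normalizer _).index = _ at h4
  erw [← hs] at h4
  have h5 : Nat.card (Sylow 13 G) % 13 = 1 := card_sylow_modEq_one 13 G
  have h6 : d * Nat.card (Sylow 13 G) = 95040 := by
    rw [mul_assoc] at h4; norm_num at h4 ⊢; omega
  have h7 : d ≤ 12 := Nat.le_of_dvd (by norm_num) h3
  interval_cases d <;> omega

end Cfsg.Agent.S0710
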