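import Cfsg.Statements.S0711
import Mathlib
-- import your own Cfsg.Agent.* helpers here

set_option autoImplicit false
open Cfsg

namespace Cfsg.Agent.S0711

/-- A `k`-transitive permutation group (`k ≥ 3`) with a non-identity element of support smaller than `2k - 2` contains a non-identity element of support at most 3, and therefore contains the alternating group. -/
theorem result {α : Type*} [Fintype α] [DecidableEq α] (G : Subgroup (Equiv.Perm α)) {k : ℕ} (hk : 3 ≤ k) (hkn : k ≤ Fintype.card α) (hG : MulAction.IsMultiplyPretransitive G α k) (g : Equiv.Perm α) (hg : g ∈ G) (hg1 : g ≠ 1) (hsupp : g.support.card < 2 * k - 2) : (∃ h : Equiv.Perm α, h ∈ G ∧ h ≠ 1 ∧ h.support.card ≤ 3) ∧ alternatingGroup α ≤ G := by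
  classical
  -- realising prescribed images of at most `k` points
  have real : ∀ (L : Finset α) (φ : α → α), L.card ≤ k → Set.InjOn φ L →
      ∃ h ∈ G, ∀ x ∈ L, h x = φ x := by
    intro L φ hL hinj
    haveI := hG
    haveI := MulAction.isMultiplyPretransitive_of_le (G := G) (α := α) (m := L.card) (n := k) hL
      (by rw [Nat.card_eq_fintype_card]; exact hkn)
    let e₁ : Fin L.card ↪ α := (L.equivFin.symm.toEmbedding).trans (Function.Embedding.subtype _)
    let e₂ : Fin L.card ↪ α := ⟨fun i => φ (e₁ i), fun i j hij =>
      e₁.injective (hinj (L.equivFin.symm i).2 (L.equivFin.symm j).2 hij)⟩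
    obtain ⟨h, hh⟩ := MulAction.exists_smul_eq G e₁ e₂
    refine ⟨h, h.2, fun x hx => ?_⟩
    have := DFunLike.congr_fun hh (L.equivFin ⟨x, hx⟩)
    simpa [e₁, e₂, Subgroup.smul_def] using this
  -- an element of minimal support
  obtain ⟨g₀, ⟨hg₀, hg₀1⟩, hmin⟩ := (Set.toFinite {h : Equiv.Perm α | h ∈ G ∧ h ≠ 1}).exists_minimalFor
    (fun h => h.support.card) _ ⟨g, hg, hg1⟩
  have hmin' : ∀ h ∈ G, h ≠ 1 → g₀.support.card ≤ h.support.card := fun h h1 h2 => by
    by_contra hlt
    exact absurd (hmin ⟨h1, h2⟩ (le_of_not_ge hlt)) hlt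
  have hs : g₀.support.card < 2 * k - 2 := lt_of_le_of_lt (hmin' g hg hg1) hsupp
  clear hsupp hg hg1 hmin g
  set s := g₀.support.card with hsdef
  have h2G : MulAction.IsMultiplyPretransitive G α 2 := by
    haveI := hG
    exact MulAction.isMultiplyPretransitive_of_le (n := k) (by omega)
      (by rw [Nat.card_eq_fintype_card]; exact hkn)
  suffices h3 : s ≤ 3 by
    refine ⟨⟨g₀, hg₀, hg₀1, h3⟩, ?_⟩
    haveI : MulAction.IsPreprimitive G α := MulAction.isPreprimitive_of_is_two_pretransitive h2G
    have h2 := Equiv.Perm.two_le_card_support_of_ne_one hg₀1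
    rcases (show s = 2 ∨ s = 3 by omega) with h | h
    · rw [Equiv.Perm.subgroup_eq_top_of_isPreprimitive_of_isSwap_mem inferInstance g₀
        (Equiv.Perm.card_support_eq_two.1 h) hg₀]
      exact le_top
    · exact Equiv.Perm.alternatingGroup_le_of_isPreprimitive_of_isThreeCycle_mem inferInstance
        (card_support_eq_three_iff.1 h) hg₀
  by_contra h4
  have h4' : 4 ≤ s := by omega
  -- comparing `g₀` with a conjugate
  have hconj : ∀ h ∈ G, h * g₀ * h⁻¹ ≠ g₀ → ∀ U : Finset α,
      (∀ x, x ∉ U → g₀ x = (h * g₀ * h⁻¹) x) → s ≤ U.card := by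
    intro h hh hne U hU
    refine (hmin' (g₀⁻¹ * (h * g₀ * h⁻¹))
      (G.mul_mem (G.inv_mem hg₀) (G.mul_mem (G.mul_mem hh hg₀) (G.inv_mem hh))) ?_).trans
      (Finset.card_le_card fun x hx => ?_)
    · intro h1
      exact hne (inv_mul_eq_one.1 h1).symm
    · rw [Equiv.Perm.mem_support] at hx
      by_contra hxU
      apply hx
      rw [Equiv.Perm.mul_apply, ← hU x hxU]
      simp
  rcases le_or_gt s k with hsk | hsk
  · -- short support
    by_cases hinvol : ∀ x, g₀ (g₀ x) = x
    · obtain ⟨x, hx⟩ : g₀.support.Nonempty := Finset.card_pos.1 (by omega)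
      rw [Equiv.Perm.mem_support] at hx
      obtain ⟨u, hu, hu'⟩ := Finset.exists_mem_notMem_of_card_lt_card
        (s := ({x, g₀ x} : Finset α)) (t := g₀.support) (by rw [Finset.card_pair hx.symm]; omega)
      simp only [Finset.mem_insert, Finset.mem_singleton, not_or] at hu'
      rw [Equiv.Perm.mem_support] at hu
      obtain ⟨hux, huy⟩ := hu'
      have hvx : g₀ u ≠ x := fun h' => huy (by rw [← hinvol u, h'])
      have hvy : g₀ u ≠ g₀ x := fun h' => hux (g₀.injective h')
      rcases (show s = 4 ∨ 4 < s by omega) with hs4 | hs4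
      · by_cases hz : ∃ z, z ∉ g₀.support
        · -- move one point of the support out
          obtain ⟨z, hz⟩ := hz
          have hset : ({x, g₀ x, u, g₀ u} : Finset α) = g₀.support := by
            refine Finset.eq_of_subset_of_card_le ?_ ?_
            · simp only [Finset.insert_subset_iff, Finset.singleton_subset_iff, Equiv.Perm.mem_support]
              exact ⟨hx, fun h' => hx (g₀.injective h'), hu, fun h' => hu (g₀.injective h')⟩
            · rw [← hsdef, hs4, Finset.card_insert_of_notMem (by simp [hx.symm, Ne.symm hux, Ne.symm hvx]),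
                Finset.card_insert_of_notMem (by simp [Ne.symm huy, Ne.symm hvy]),
                Finset.card_pair hu.symm]
          have hz' : z ∉ ({x, g₀ x, u, g₀ u} : Finset α) := hset ▸ hz
          simp only [Finset.mem_insert, Finset.mem_singleton, not_or] at hz'
          obtain ⟨h, hh, hhL⟩ := real {x, g₀ x, u, g₀ u} (fun w => if w = g₀ u then z else w)
            (by rw [hset]; omega) (by
              intro w₁ hw₁ w₂ hw₂ hw
              simp only [Finset.coe_insert, Finset.coe_singleton, Set.mem_insert_iff,
                Set.mem_singleton_iff] at hw₁ hw₂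
              simp only at hw
              split_ifs at hw with e₁ e₂ e₂
              · rw [e₁, e₂]
              · rw [← hw] at hw₂
                exact absurd hw₂ (by simp [hz'])
              · rw [hw] at hw₁
                exact absurd hw₁ (by simp [hz'])
              · exact hw)
          have hh' : ∀ w, h⁻¹ (h w) = w := fun w => by simp
          have hx' : h x = x := by rw [hhL x (by simp), if_neg (Ne.symm hvx)]
          have hy' : h (g₀ x) = g₀ x := by rw [hhL (g₀ x) (by simp), if_neg (Ne.symm hvy)]
          have hu'' : h u = u := by rw [hhL u (by simp), if_neg hu.symm]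
          have hv'' : h (g₀ u) = z := by rw [hhL (g₀ u) (by simp), if_pos rfl]
          have hne : h * g₀ * h⁻¹ ≠ g₀ := by
            intro h'
            have := DFunLike.congr_fun h' u
            rw [Equiv.Perm.mul_apply, Equiv.Perm.mul_apply] at this
            nth_rewrite 1 [← hu''] at this
            rw [hh', hv''] at this
            exact hz'.2.2.2 this
          have := hconj h hh hne {u, g₀ u, z} (by
            intro w hw
            simp only [Finset.mem_insert, Finset.mem_singleton, not_or] at hw
            obtain ⟨hwu, hwv, hwz⟩ := hw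
            rw [Equiv.Perm.mul_apply, Equiv.Perm.mul_apply]
            by_cases hwx : w = x
            · subst hwx
              nth_rewrite 2 [← hx']
              rw [hh', hy']
            by_cases hwy : w = g₀ x
            · subst hwy
              nth_rewrite 2 [← hy']
              rw [hh', hinvol x, hx']
            have h1 : w ∉ g₀.support := by rw [← hset]; simp [hwu, hwv, hwx, hwy]
            have h2 : h⁻¹ w ∉ g₀.support := by
              rw [← hset]
              simp only [Finset.mem_insert, Finset.mem_singleton, not_or]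
              have e : h (h⁻¹ w) = w := by simp
              refine ⟨fun h' => hwx ?_, fun h' => hwy ?_, fun h' => hwu ?_, fun h' => hwz ?_⟩ <;>
                rw [h'] at e
              · exact e.symm.trans hx'
              · exact e.symm.trans hy'
              · exact e.symm.trans hu''
              · exact e.symm.trans hv''
            rw [Equiv.Perm.notMem_support] at h1 h2
            rw [h2, h1]
            simp)
          have := Finset.card_le_three (a := u) (b := g₀ u) (c := z)
          omega
        · -- the symmetric group of degree four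
          push Not at hz
          have hn : Fintype.card α = 4 := by
            have : g₀.support = Finset.univ := Finset.eq_univ_iff_forall.2 hz
            rw [← Finset.card_univ, ← this, ← hsdef, hs4]
          obtain ⟨h, hh, hhL⟩ := real Finset.univ (Equiv.swap x u) (by rw [Finset.card_univ]; omega)
            (Equiv.injective _).injOn
          have hswap : Equiv.swap x u ∈ G := by
            have : h = Equiv.swap x u := Equiv.ext fun w => hhL w (Finset.mem_univ w)
            exact this ▸ hh
          have h5 := hmin' _ hswap (by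
            rw [Ne, Equiv.swap_eq_one_iff]; exact Ne.symm hux)
          rw [Equiv.Perm.card_support_swap (Ne.symm hux)] at h5
          omega
      · -- swap points of two transpositions
        obtain ⟨h, hh, hhL⟩ := real g₀.support (Equiv.swap x u) hsk (Equiv.injective _).injOn
        have hxs : x ∈ g₀.support := Equiv.Perm.mem_support.2 hx
        have hus : u ∈ g₀.support := Equiv.Perm.mem_support.2 hu
        have hEq : ∀ w, (h * g₀ * h⁻¹) w = Equiv.swap x u (g₀ (Equiv.swap x u w)) := by
          intro w
          rw [Equiv.Perm.mul_apply, Equiv.Perm.mul_apply]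
          by_cases hw : h⁻¹ w ∈ g₀.support
          · have e : Equiv.swap x u (h⁻¹ w) = w := by rw [← hhL _ hw]; simp
            have e' : Equiv.swap x u w = h⁻¹ w := by
              conv_lhs => rw [← e]
              rw [Equiv.swap_apply_self]
            rw [e', hhL _ (Equiv.Perm.apply_mem_support.2 hw)]
          · have hw' : w ∉ g₀.support := by
              intro hw'
              have hsw : Equiv.swap x u w ∈ g₀.support := by
                rw [Equiv.swap_apply_def]; split_ifs <;> assumption
              have e := hhL _ hsw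
              rw [Equiv.swap_apply_self] at e
              exact hw (by rw [← e]; simpa using hsw)
            have hwx : w ≠ x := fun e => hw' (e ▸ hxs)
            have hwu : w ≠ u := fun e => hw' (e ▸ hus)
            rw [Equiv.Perm.notMem_support.1 hw, Equiv.swap_apply_of_ne_of_ne hwx hwu,
              Equiv.Perm.notMem_support.1 hw', Equiv.swap_apply_of_ne_of_ne hwx hwu]
            simp
        have hne : h * g₀ * h⁻¹ ≠ g₀ := by
          intro h'
          have := DFunLike.congr_fun h' x
          rw [hEq, Equiv.swap_apply_left, Equiv.swap_apply_of_ne_of_ne hvx hu] at this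
          exact hvy this
        have := hconj h hh hne {x, g₀ x, u, g₀ u} (fun w hw => by
          simp only [Finset.mem_insert, Finset.mem_singleton, not_or] at hw
          rw [hEq, Equiv.swap_apply_of_ne_of_ne hw.1 hw.2.2.1, Equiv.swap_apply_of_ne_of_ne]
          · intro h'; exact hw.2.1 (by rw [← hinvol w, h'])
          · intro h'; exact hw.2.2.2 (by rw [← hinvol w, h']))
        have := (Finset.card_insert_le x ({g₀ x, u, g₀ u} : Finset α)).trans
          (Nat.succ_le_succ Finset.card_le_three)
        omega
    · push Not at hinvol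
      obtain ⟨x, hx2⟩ := hinvol
      have hx : g₀ x ≠ x := fun h' => hx2 (by rw [h', h'])
      have hxs : x ∈ g₀.support := Equiv.Perm.mem_support.2 hx
      have hys : g₀ x ∈ g₀.support := Equiv.Perm.apply_mem_support.2 hxs
      obtain ⟨h, hh, hhL⟩ := real g₀.support (Equiv.swap x (g₀ x)) hsk (Equiv.injective _).injOn
      have hEq : ∀ w, (h * g₀ * h⁻¹) w = Equiv.swap x (g₀ x) (g₀ (Equiv.swap x (g₀ x) w)) := by
        intro w
        rw [Equiv.Perm.mul_apply, Equiv.Perm.mul_apply]
        by_cases hw : h⁻¹ w ∈ g₀.support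
        · have e : Equiv.swap x (g₀ x) (h⁻¹ w) = w := by rw [← hhL _ hw]; simp
          have e' : Equiv.swap x (g₀ x) w = h⁻¹ w := by
            conv_lhs => rw [← e]
            rw [Equiv.swap_apply_self]
          rw [e', hhL _ (Equiv.Perm.apply_mem_support.2 hw)]
        · have hw' : w ∉ g₀.support := by
            intro hw'
            have hsw : Equiv.swap x (g₀ x) w ∈ g₀.support := by
              rw [Equiv.swap_apply_def]; split_ifs <;> assumption
            have e := hhL _ hsw
            rw [Equiv.swap_apply_self] at e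
            exact hw (by rw [← e]; simpa using hsw)
          have hwx : w ≠ x := fun e => hw' (e ▸ hxs)
          have hwu : w ≠ g₀ x := fun e => hw' (e ▸ hys)
          rw [Equiv.Perm.notMem_support.1 hw, Equiv.swap_apply_of_ne_of_ne hwx hwu,
            Equiv.Perm.notMem_support.1 hw', Equiv.swap_apply_of_ne_of_ne hwx hwu]
          simp
      have hne : h * g₀ * h⁻¹ ≠ g₀ := by
        intro h'
        have := DFunLike.congr_fun h' x
        rw [hEq, Equiv.swap_apply_left,
          Equiv.swap_apply_of_ne_of_ne hx2 (fun e => hx (g₀.injective e))] at this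
        exact hx (g₀.injective this)
      have := hconj h hh hne {g₀⁻¹ x, x, g₀ x} (fun w hw => by
        simp only [Finset.mem_insert, Finset.mem_singleton, not_or] at hw
        rw [hEq, Equiv.swap_apply_of_ne_of_ne hw.2.1 hw.2.2, Equiv.swap_apply_of_ne_of_ne]
        · intro h'; exact hw.1 (by conv_rhs => rw [← h']; simp)
        · intro h'; exact hw.2.1 (g₀.injective h'))
      have := Finset.card_le_three (a := g₀⁻¹ x) (b := x) (c := g₀ x)
      omega
  by_cases hfull : g₀.support = Finset.univ
  · -- full support
    have hn : Fintype.card α = s := by rw [hsdef, hfull, Finset.card_univ]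
    have hk4 : 4 ≤ k := by omega
    obtain ⟨x, hx⟩ : g₀.support.Nonempty := Finset.card_pos.1 (by omega)
    rw [Equiv.Perm.mem_support] at hx
    obtain ⟨y, -, hy⟩ := Finset.exists_mem_notMem_of_card_lt_card
      (s := ({x, g₀ x, g₀⁻¹ x} : Finset α)) (t := g₀.support)
      (lt_of_le_of_lt Finset.card_le_three (by omega))
    simp only [Finset.mem_insert, Finset.mem_singleton, not_or] at hy
    have hyy : g₀ y ≠ y := Equiv.Perm.mem_support.1 (by rw [hfull]; exact Finset.mem_univ _)
    have hyx : g₀ y ≠ x := fun h' => hy.2.2 (by rw [← h']; simp)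
    have hygx : g₀ y ≠ g₀ x := fun h' => hy.1 (g₀.injective h')
    obtain ⟨z, hz⟩ := (Finset.card_pos (s := ({x, g₀ x, y, g₀ y} : Finset α)ᶜ)).1 (by
      have := (Finset.card_insert_le x ({g₀ x, y, g₀ y} : Finset α)).trans
        (Nat.succ_le_succ Finset.card_le_three)
      rw [Finset.card_compl]; omega)
    simp only [Finset.mem_compl, Finset.mem_insert, Finset.mem_singleton, not_or] at hz
    obtain ⟨h, hh, hhL⟩ := real {x, g₀ x, y, g₀ y} (fun w => if w = g₀ y then z else w)
      (((Finset.card_insert_le x ({g₀ x, y, g₀ y} : Finset α)).trans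
        (Nat.succ_le_succ Finset.card_le_three)).trans hk4) (by
        intro w₁ hw₁ w₂ hw₂ hw
        simp only [Finset.coe_insert, Finset.coe_singleton, Set.mem_insert_iff,
          Set.mem_singleton_iff] at hw₁ hw₂
        simp only at hw
        split_ifs at hw with e₁ e₂ e₂
        · rw [e₁, e₂]
        · rw [← hw] at hw₂
          exact absurd hw₂ (by simp [hz])
        · rw [hw] at hw₁
          exact absurd hw₁ (by simp [hz])
        · exact hw)
    have hx' : h x = x := by rw [hhL x (by simp), if_neg hyx.symm]
    have hgx' : h (g₀ x) = g₀ x := by rw [hhL (g₀ x) (by simp), if_neg hygx.symm]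
    have hy' : h y = y := by rw [hhL y (by simp), if_neg hyy.symm]
    have hgy' : h (g₀ y) = z := by rw [hhL (g₀ y) (by simp), if_pos rfl]
    have hh' : ∀ w, h⁻¹ (h w) = w := fun w => by simp
    have hne : h * g₀ * h⁻¹ ≠ g₀ := by
      intro h'
      have := DFunLike.congr_fun h' y
      rw [Equiv.Perm.mul_apply, Equiv.Perm.mul_apply] at this
      nth_rewrite 1 [← hy'] at this
      rw [hh', hgy'] at this
      exact hz.2.2.2 this
    have := hconj h hh hne (Finset.univ.erase x) (fun w hw => by
      simp only [Finset.mem_erase, Finset.mem_univ, and_true, not_not] at hw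
      subst hw
      rw [Equiv.Perm.mul_apply, Equiv.Perm.mul_apply]
      nth_rewrite 2 [← hx']
      rw [hh', hgx'])
    rw [Finset.card_erase_of_mem (Finset.mem_univ x), Finset.card_univ] at this
    omega
  -- a chain of `k - 1` points of the support
  have hA : ∀ j, j ≤ s → ∃ A ⊆ g₀.support, A.card = j ∧
      (A.filter (fun a => g₀ a ∉ A)).card ≤ 1 := by
    intro j
    induction j with
    | zero => exact fun _ => ⟨∅, Finset.empty_subset _, by simp⟩
    | succ j ih =>
      intro hj
      obtain ⟨A, hAs, hAc, hA1⟩ := ih (by omega)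
      rcases (Nat.le_one_iff_eq_zero_or_eq_one.1 hA1) with h0 | h1
      · obtain ⟨b, hb, hbA⟩ := Finset.exists_mem_notMem_of_card_lt_card
          (s := A) (t := g₀.support) (by omega)
        refine ⟨insert b A, Finset.insert_subset hb hAs, by rw [Finset.card_insert_of_notMem hbA, hAc],
          Finset.card_le_one.2 fun u hu v hv => ?_⟩
        rw [Finset.card_eq_zero, Finset.filter_eq_empty_iff] at h0
        simp only [Finset.mem_filter, Finset.mem_insert, not_or] at hu hv
        have hu' : u = b := hu.1.resolve_right fun h' => h0 h' hu.2.2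
        have hv' : v = b := hv.1.resolve_right fun h' => h0 h' hv.2.2
        rw [hu', hv']
      · obtain ⟨a, ha⟩ := Finset.card_eq_one.1 h1
        have ha' : a ∈ A ∧ g₀ a ∉ A := Finset.mem_filter.1 (ha ▸ Finset.mem_singleton_self a)
        refine ⟨insert (g₀ a) A, Finset.insert_subset (Equiv.Perm.apply_mem_support.2 (hAs ha'.1)) hAs,
          by rw [Finset.card_insert_of_notMem ha'.2, hAc], Finset.card_le_one.2 fun u hu v hv => ?_⟩
        simp only [Finset.mem_filter, Finset.mem_insert, not_or] at hu hv
        have hu' : u = g₀ a := hu.1.resolve_right fun h' => hu.2.1 (by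
          have h5 : u ∈ A.filter (fun w => g₀ w ∉ A) := Finset.mem_filter.2 ⟨h', hu.2.2⟩
          rw [ha, Finset.mem_singleton] at h5; rw [h5])
        have hv' : v = g₀ a := hv.1.resolve_right fun h' => hv.2.1 (by
          have h5 : v ∈ A.filter (fun w => g₀ w ∉ A) := Finset.mem_filter.2 ⟨h', hv.2.2⟩
          rw [ha, Finset.mem_singleton] at h5; rw [h5])
        rw [hu', hv']
  obtain ⟨A, hAs, hAc, hA1⟩ := hA (k - 1) (by omega)
  obtain ⟨w₀, hw₀⟩ : ∃ w, w ∉ g₀.support := by
    by_contra hno
    push Not at hno
    exact hfull (Finset.eq_univ_iff_forall.2 hno)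
  -- `h` fixes `A` and moves `y` to `z`
  have hchoose : ∃ y z, y ∈ g₀.support ∧ y ∉ A ∧ z ∉ A ∧ z ≠ y ∧
      ((∃ a ∈ A, g₀ a = y ∧ z ∈ g₀.support ∧ A.filter (fun a => g₀ a ∉ A) = {a}) ∨
        (z ∉ g₀.support ∧ A.filter (fun a => g₀ a ∉ A) = ∅)) := by
    rcases (Nat.le_one_iff_eq_zero_or_eq_one.1 hA1) with h0 | h1
    · obtain ⟨y, hy, hyA⟩ := Finset.exists_mem_notMem_of_card_lt_card
        (s := A) (t := g₀.support) (by omega)
      exact ⟨y, w₀, hy, hyA, fun h' => hw₀ (hAs h'), fun h' => hw₀ (h' ▸ hy),
        Or.inr ⟨hw₀, Finset.card_eq_zero.1 h0⟩⟩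
    · obtain ⟨a, ha⟩ := Finset.card_eq_one.1 h1
      have ha' : a ∈ A ∧ g₀ a ∉ A := Finset.mem_filter.1 (ha ▸ Finset.mem_singleton_self a)
      obtain ⟨z, hz, hzA⟩ := Finset.exists_mem_notMem_of_card_lt_card
        (s := insert (g₀ a) A) (t := g₀.support) (by rw [Finset.card_insert_of_notMem ha'.2]; omega)
      simp only [Finset.mem_insert, not_or] at hzA
      exact ⟨g₀ a, z, Equiv.Perm.apply_mem_support.2 (hAs ha'.1), ha'.2, hzA.2, hzA.1,
        Or.inl ⟨a, ha'.1, rfl, hz, ha⟩⟩
  obtain ⟨y, z, hy, hyA, hzA, hzy, hcase⟩ := hchoose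
  obtain ⟨h, hh, hhL⟩ := real (insert y A) (fun w => if w = y then z else w)
    (by rw [Finset.card_insert_of_notMem hyA]; omega) (by
      intro w₁ hw₁ w₂ hw₂ hw
      simp only [Finset.coe_insert, Set.mem_insert_iff, Finset.mem_coe] at hw₁ hw₂
      simp only at hw
      split_ifs at hw with e₁ e₂ e₂
      · rw [e₁, e₂]
      · exact absurd (hw ▸ hw₂.resolve_left e₂) hzA
      · exact absurd (hw.symm ▸ hw₁.resolve_left e₁) hzA
      · exact hw)
  have hfix : ∀ a ∈ A, h a = a := fun a ha => by
    rw [hhL a (Finset.mem_insert_of_mem ha), if_neg (fun e : a = y => hyA (e ▸ ha))]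
  have hfix' : ∀ a ∈ A, h⁻¹ a = a := fun a ha => by
    conv_lhs => rw [← hfix a ha]
    simp
  have hhy : h y = z := by rw [hhL y (Finset.mem_insert_self _ _), if_pos rfl]
  have hz' : h⁻¹ z = y := by rw [← hhy]; simp
  let B := g₀.support.map h.toEmbedding
  have hBc : B.card = s := Finset.card_map _
  have hB : ∀ w, w ∈ B ↔ h⁻¹ w ∈ g₀.support := fun w => by
    simp [B, Finset.mem_map_equiv, Equiv.Perm.inv_def]
  let C := A.filter (fun a => g₀ a ∈ A)
  have hagree : ∀ w, w ∉ (g₀.support ∪ B) \ C → g₀ w = (h * g₀ * h⁻¹) w := by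
    intro w hw
    rw [Equiv.Perm.mul_apply, Equiv.Perm.mul_apply]
    by_cases hwC : w ∈ C
    · obtain ⟨hwA, hgwA⟩ := Finset.mem_filter.1 hwC
      rw [hfix' w hwA, hfix _ hgwA]
    · simp only [Finset.mem_sdiff, Finset.mem_union, hB, hwC, not_false_eq_true, and_true,
        not_or] at hw
      rw [Equiv.Perm.notMem_support.1 hw.1, Equiv.Perm.notMem_support.1 hw.2]
      simp
  have hC : C.card + (A.filter (fun a => g₀ a ∉ A)).card = k - 1 := by
    rw [← hAc]; exact Finset.card_filter_add_card_filter_not _
  have hsub : A ⊆ g₀.support ∩ B := fun a ha =>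
    Finset.mem_inter.2 ⟨hAs ha, by rw [hB, hfix' a ha]; exact hAs ha⟩
  have hCU : C ⊆ g₀.support ∪ B := fun a ha =>
    Finset.mem_union_left _ (hAs (Finset.mem_filter.1 ha).1)
  have hsd := Finset.card_sdiff_of_subset hCU
  have hui := Finset.card_union_add_card_inter g₀.support B
  rcases hcase with ⟨a, haA, hay, hzs, hAa⟩ | ⟨hzs, hAe⟩
  · have hne : h * g₀ * h⁻¹ ≠ g₀ := by
      intro h'
      have := DFunLike.congr_fun h' a
      rw [Equiv.Perm.mul_apply, Equiv.Perm.mul_apply, hfix' a haA, hay, hhy] at this
      exact hzy this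
    have h5 := hconj h hh hne _ hagree
    have h6 : (insert z A).card ≤ (g₀.support ∩ B).card := Finset.card_le_card
      (Finset.insert_subset (Finset.mem_inter.2 ⟨hzs, by rw [hB, hz']; exact hy⟩) hsub)
    rw [Finset.card_insert_of_notMem hzA] at h6
    rw [hAa, Finset.card_singleton] at hC
    omega
  · have hne : h * g₀ * h⁻¹ ≠ g₀ := by
      intro h'
      have := DFunLike.congr_fun h' z
      rw [Equiv.Perm.mul_apply, Equiv.Perm.mul_apply, hz', Equiv.Perm.notMem_support.1 hzs] at this
      rw [← hhy] at this
      exact (Equiv.Perm.mem_support.1 hy) (h.injective this)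
    have h5 := hconj h hh hne _ hagree
    have h6 : A.card ≤ (g₀.support ∩ B).card := Finset.card_le_card hsub
    rw [hAe, Finset.card_empty] at hC
    omega

end Cfsg.Agent.S0711
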