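import Cfsg.Statements.S0712
import Mathlib
-- import your own Cfsg.Agent.* helpers here

set_option autoImplicit false
open Cfsg

namespace Cfsg.Agent.S0712

/-- Jordan: a primitive group in which the pointwise stabiliser of a set `s` is doubly transitive on the complement of `s` (which has at least 2 points) is `(|s| + 2)`-transitive. -/
theorem result {α : Type*} [Fintype α] [DecidableEq α] (G : Subgroup (Equiv.Perm α)) (hG : MulAction.IsPreprimitive G α) (s : Set α) {m : ℕ} (hsm : s.ncard = m) (hm : m + 2 ≤ Fintype.card α) (h2 : MulAction.IsMultiplyPretransitive (fixingSubgroup G s) (SubMulAction.ofFixingSubgroup G s) 2) : MulAction.IsMultiplyPretransitive G α (m + 2) := by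
  classical
  haveI := h2
  have hs_prim : MulAction.IsPreprimitive (fixingSubgroup G s) (SubMulAction.ofFixingSubgroup G s) :=
    MulAction.isPreprimitive_of_is_two_pretransitive h2
  have hm' : MulAction.IsMultiplyPretransitive G α m := by
    rcases Nat.eq_zero_or_pos m with h0 | h0
    · subst h0; exact MulAction.is_zero_pretransitive
    · obtain ⟨n, rfl⟩ : ∃ n, m = n + 1 := ⟨m - 1, by omega⟩
      haveI := hG.isMultiplyPreprimitive (n := n) hsm (by rw [Nat.card_eq_fintype_card]; omega) hs_prim
      exact MulAction.isMultiplyPretransitive_of_le (n := n + 2) (by omega)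
        (by rw [Nat.card_eq_fintype_card]; omega)
  have hc : Fintype.card s = m := by rw [← hsm, ← Nat.card_coe_set_eq, Nat.card_eq_fintype_card]
  let e : Fin m ≃ s := (Fintype.equivFinOfCardEq hc).symm
  have hmove : ∀ x : Fin (m + 2) ↪ α, ∃ g : G, ∀ i : Fin m, g • x (Fin.castAdd 2 i) = (e i : α) := by
    intro x
    obtain ⟨g, hg⟩ := MulAction.exists_smul_eq G ((Fin.castAddEmb 2).trans x)
      (e.toEmbedding.trans (Function.Embedding.subtype _))
    exact ⟨g, fun i => DFunLike.congr_fun hg i⟩
  have hout : ∀ (x : Fin (m + 2) ↪ α) (g : G), (∀ i : Fin m, g • x (Fin.castAdd 2 i) = (e i : α)) →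
      ∀ j : Fin 2, g • x (Fin.natAdd m j) ∈ SubMulAction.ofFixingSubgroup G s := by
    intro x g hg j hmem
    have h1 := hg (e.symm ⟨_, hmem⟩)
    rw [Equiv.apply_symm_apply] at h1
    have := congrArg Fin.val (x.injective (MulAction.injective g h1))
    simp only [Fin.val_castAdd, Fin.val_natAdd] at this
    omega
  refine ⟨fun x y => ?_⟩
  obtain ⟨g, hg⟩ := hmove x
  obtain ⟨k, hk⟩ := hmove y
  obtain ⟨u, hu⟩ := MulAction.exists_smul_eq (fixingSubgroup G s)
    (⟨fun j => ⟨_, hout x g hg j⟩, fun i j h => by
      have := x.injective (MulAction.injective g (congrArg Subtype.val h))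
      exact Fin.ext (by simpa using congrArg Fin.val this)⟩ : Fin 2 ↪ SubMulAction.ofFixingSubgroup G s)
    ⟨fun j => ⟨_, hout y k hk j⟩, fun i j h => by
      have := y.injective (MulAction.injective k (congrArg Subtype.val h))
      exact Fin.ext (by simpa using congrArg Fin.val this)⟩
  refine ⟨k⁻¹ * (u : G) * g, ?_⟩
  ext i
  rw [Function.Embedding.smul_apply, mul_smul, mul_smul, inv_smul_eq_iff]
  refine Fin.addCases (fun i => ?_) (fun j => ?_) i
  · rw [hg, hk]
    exact u.2 ⟨_, (e i).2⟩
  · exact congrArg Subtype.val (DFunLike.congr_fun hu j)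

end Cfsg.Agent.S0712
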