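import Cfsg.Statements.S0714
import Mathlib
-- import your own Cfsg.Agent.* helpers here

set_option autoImplicit false
open Cfsg

namespace Cfsg.Agent.S0714

/-- Over any field, the permutation module of the alternating group of degree at least 5 has exactly four invariant subspaces: zero, the constant functions, the functions with coordinate sum zero, and everything. -/
theorem result {α : Type*} [Fintype α] [DecidableEq α] (hα : 5 ≤ Fintype.card α) {K : Type*} [Field K] (W : Subrepresentation (Cfsg.permRep K (alternatingGroup α) α)) : W.toSubmodule = ⊥ ∨ W = Cfsg.permConstants K (alternatingGroup α) α ∨ W = Cfsg.permSumZero K (alternatingGroup α) α ∨ W.toSubmodule = ⊤ := by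
  classical
  have hne : Nonempty α := Fintype.card_pos_iff.1 (by omega)
  let E : α → α → α → K := fun x y => Pi.single x 1 - Pi.single y 1
  have hperm : ∀ (g : alternatingGroup α) x, permRep K (alternatingGroup α) α g (Pi.single x 1) =
      Pi.single ((g : Equiv.Perm α) x) 1 := by
    intro g x
    funext z
    show (Pi.single x (1 : K) : α → K) (g⁻¹ • z) = _
    simp [Pi.single_apply, inv_smul_eq_iff, Subgroup.smul_def, Equiv.symm_apply_eq]
  -- a fourth and fifth point
  have hextra : ∀ x y z : α, ∃ s t, s ≠ t ∧ s ≠ x ∧ s ≠ y ∧ s ≠ z ∧ t ≠ x ∧ t ≠ y ∧ t ≠ z := by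
    intro x y z
    have h1 : 1 < ({x, y, z} : Finset α)ᶜ.card := by
      have := Finset.card_le_three (a := x) (b := y) (c := z)
      rw [Finset.card_compl]
      omega
    obtain ⟨s, hs, t, ht, hst⟩ := Finset.one_lt_card.1 h1
    simp only [Finset.mem_compl, Finset.mem_insert, Finset.mem_singleton, not_or] at hs ht
    exact ⟨s, t, hst, hs.1, hs.2.1, hs.2.2, ht.1, ht.2.1, ht.2.2⟩
  -- double transpositions and three-cycles
  have hdt : ∀ x y s t : α, x ≠ y → s ≠ t →
      Equiv.swap x y * Equiv.swap s t ∈ alternatingGroup α := by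
    intro x y s t h h'
    simp [Equiv.Perm.mem_alternatingGroup, Equiv.Perm.sign_swap h, Equiv.Perm.sign_swap h']
  by_cases hall : ∀ v ∈ W.toSubmodule, ∀ x y, v x = v y
  · have hle : W.toSubmodule ≤ (permConstants K (alternatingGroup α) α).toSubmodule := by
      intro v hv
      exact Submodule.mem_span_singleton.2 ⟨v (Classical.arbitrary α), funext fun x => by
        simp [hall v hv x (Classical.arbitrary α)]⟩
    rcases eq_or_ne W.toSubmodule ⊥ with h0 | h0
    · exact Or.inl h0
    · refine Or.inr (Or.inl (Subrepresentation.toSubmodule_injective (le_antisymm hle ?_)))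
      obtain ⟨v, hv, hv0⟩ := (Submodule.ne_bot_iff _).1 h0
      obtain ⟨c, hc⟩ := Submodule.mem_span_singleton.1 (hle hv)
      refine (Submodule.span_singleton_le_iff_mem _ _).2 ?_
      have hc0 : c ≠ 0 := fun h => hv0 (by rw [← hc, h, zero_smul])
      have := W.toSubmodule.smul_mem c⁻¹ hv
      rwa [← hc, smul_smul, inv_mul_cancel₀ hc0, one_smul] at this
  push Not at hall
  obtain ⟨v, hv, x, y, hxy⟩ := hall
  have hxy' : x ≠ y := fun h => hxy (by rw [h])
  -- a difference of two basis vectors
  have hdiff : ∃ a b, a ≠ b ∧ E a b ∈ W.toSubmodule := by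
    obtain ⟨z, -, -, hzx, hzy, -⟩ := hextra x y y
    obtain ⟨s, t, hst, hsx, hsy, hsz, htx, hty, htz⟩ := hextra x y z
    let c : alternatingGroup α := ⟨Equiv.swap x y * Equiv.swap y z, hdt x y y z hxy' hzy.symm⟩
    let u : α → K := permRep K (alternatingGroup α) α c⁻¹ v - v
    have hu : u ∈ W.toSubmodule := W.toSubmodule.sub_mem (W.apply_mem_toSubmodule _ hv) hv
    have hu' : ∀ w, u w = v ((Equiv.swap x y * Equiv.swap y z) w) - v w := by
      intro w
      show v (c⁻¹⁻¹ • w) - v w = _
      rw [inv_inv]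
      rfl
    have hux : u x = v y - v x := by
      rw [hu']; simp [Equiv.swap_apply_of_ne_of_ne hxy' hzx.symm]
    have huy : u y = v z - v y := by
      rw [hu']; simp [Equiv.swap_apply_of_ne_of_ne hzx hzy]
    have huz : u z = v x - v z := by
      rw [hu']; simp
    have hout : ∀ w, w ≠ x → w ≠ y → w ≠ z → u w = 0 := by
      intro w h1 h2 h3
      rw [hu']; simp [Equiv.swap_apply_of_ne_of_ne h2 h3, Equiv.swap_apply_of_ne_of_ne h1 h2]
    have key : ∀ a b o, a ≠ b → ({a, b, o} : Finset α) = {x, y, z} → u a ≠ u b → E a b ∈ W.toSubmodule := by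
      intro a b o hab hset hne'
      have hs' : s ∉ ({a, b, o} : Finset α) := by rw [hset]; simp [hsx, hsy, hsz]
      have ht' : t ∉ ({a, b, o} : Finset α) := by rw [hset]; simp [htx, hty, htz]
      simp only [Finset.mem_insert, Finset.mem_singleton, not_or] at hs' ht'
      have hu0 : ∀ w, w ≠ a → w ≠ b → w ≠ o → u w = 0 := by
        intro w h1 h2 h3
        have : w ∉ ({x, y, z} : Finset α) := by rw [← hset]; simp [h1, h2, h3]
        simp only [Finset.mem_insert, Finset.mem_singleton, not_or] at this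
        exact hout w this.1 this.2.1 this.2.2
      let g : alternatingGroup α := ⟨Equiv.swap a b * Equiv.swap s t, hdt a b s t hab hst⟩
      have h1 := W.toSubmodule.smul_mem (u b - u a)⁻¹
        (W.toSubmodule.sub_mem (W.apply_mem_toSubmodule g⁻¹ hu) hu)
      convert h1 using 1
      funext w
      show E a b w = (u b - u a)⁻¹ * (u (g⁻¹⁻¹ • w) - u w)
      rw [inv_inv]
      show _ = (u b - u a)⁻¹ * (u ((Equiv.swap a b * Equiv.swap s t) w) - u w)
      have hinv : u b - u a ≠ 0 := sub_ne_zero.2 (Ne.symm hne')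
      by_cases hwa : w = a
      · subst hwa
        simp [E, Equiv.swap_apply_of_ne_of_ne (Ne.symm hs'.1) (Ne.symm ht'.1), Pi.single_apply, hab,
          inv_mul_cancel₀ hinv]
      by_cases hwb : w = b
      · subst hwb
        simp [E, Equiv.swap_apply_of_ne_of_ne (Ne.symm hs'.2.1) (Ne.symm ht'.2.1), Pi.single_apply,
          Ne.symm hab]
        field_simp
        ring
      by_cases hwo : w = o
      · subst hwo
        simp [E, Equiv.swap_apply_of_ne_of_ne (Ne.symm hs'.2.2) (Ne.symm ht'.2.2),
          Equiv.swap_apply_of_ne_of_ne hwa hwb, Pi.single_apply, hwa, hwb]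
      simp [E, Pi.single_apply, hwa, hwb]
      by_cases hws : w = s
      · subst hws
        simp [Equiv.swap_apply_of_ne_of_ne ht'.1 ht'.2.1, hu0 _ hwa hwb hwo,
          hu0 t ht'.1 ht'.2.1 ht'.2.2]
      by_cases hwt : w = t
      · subst hwt
        simp [Equiv.swap_apply_of_ne_of_ne hs'.1 hs'.2.1, hu0 _ hwa hwb hwo,
          hu0 s hs'.1 hs'.2.1 hs'.2.2]
      simp [Equiv.swap_apply_of_ne_of_ne hws hwt, Equiv.swap_apply_of_ne_of_ne hwa hwb]
    by_cases h12 : u x = u y
    swap
    · exact ⟨x, y, hxy', key x y z hxy' rfl h12⟩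
    by_cases h23 : u y = u z
    swap
    · exact ⟨y, z, hzy.symm, key y z x hzy.symm (by ext w; simp; tauto) h23⟩
    -- characteristic three
    let d : alternatingGroup α := ⟨Equiv.swap z s * Equiv.swap s t, hdt z s s t hsz.symm hst⟩
    have h1 := W.toSubmodule.smul_mem (u z)⁻¹
      (W.toSubmodule.sub_mem hu (W.apply_mem_toSubmodule d⁻¹ hu))
    have hu0 : u z ≠ 0 := by
      intro h0
      rw [h0] at h23
      rw [h23] at h12
      exact hxy (sub_eq_zero.1 (hux ▸ h12)).symm
    refine ⟨z, t, htz.symm, ?_⟩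
    convert h1 using 1
    funext w
    show E z t w = (u z)⁻¹ * (u w - u (d⁻¹⁻¹ • w))
    rw [inv_inv]
    show _ = (u z)⁻¹ * (u w - u ((Equiv.swap z s * Equiv.swap s t) w))
    by_cases hwz : w = z
    · subst hwz
      simp [E, Equiv.swap_apply_of_ne_of_ne hsz.symm htz.symm, hout s hsx hsy hsz, htz.symm,
        inv_mul_cancel₀ hu0]
    by_cases hwt : w = t
    · subst hwt
      simp [E, Pi.single_apply, hout _ htx hty htz, htz, inv_mul_cancel₀ hu0]
    by_cases hws : w = s
    · subst hws
      simp [E, Pi.single_apply, hout _ hsx hsy hsz, hwz, hwt,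
        Equiv.swap_apply_of_ne_of_ne htz hst.symm, hout _ htx hty htz]
    simp [E, hwz, hwt, Equiv.swap_apply_of_ne_of_ne hws hwt, Equiv.swap_apply_of_ne_of_ne hwz hws]
  obtain ⟨a, b, hab, hE⟩ := hdiff
  have hAll : ∀ c d, c ≠ d → E c d ∈ W.toSubmodule := by
    intro c d hcd
    have h2 : MulAction.IsMultiplyPretransitive (alternatingGroup α) α 2 := by
      haveI := alternatingGroup.isMultiplyPretransitive α
      exact MulAction.isMultiplyPretransitive_of_le (n := Nat.card α - 2)
        (by rw [Nat.card_eq_fintype_card]; omega) (Nat.sub_le _ _)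
    obtain ⟨g, hga, hgb⟩ := (MulAction.is_two_pretransitive_iff.1 h2) hab hcd
    have := W.apply_mem_toSubmodule g hE
    rw [show E c d = permRep K (alternatingGroup α) α g (E a b) by
      simp only [E, map_sub, hperm]
      rw [← hga, ← hgb]
      rfl]
    exact this
  have hSZ : (permSumZero K (alternatingGroup α) α).toSubmodule ≤ W.toSubmodule := by
    intro w hw
    have h1 : w = ∑ c, w c • E c a := by
      funext z
      simp only [Finset.sum_apply, Pi.smul_apply, E, Pi.sub_apply, smul_eq_mul, mul_sub,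
        Finset.sum_sub_distrib]
      rw [← Finset.sum_mul, show ∑ c, w c = 0 from hw, zero_mul, sub_zero]
      simp [Pi.single_apply]
    rw [h1]
    refine Submodule.sum_mem _ fun c _ => ?_
    by_cases hca : c = a
    · simp [hca, E]
    · exact W.toSubmodule.smul_mem _ (hAll c a hca)
  by_cases hle : W.toSubmodule ≤ (permSumZero K (alternatingGroup α) α).toSubmodule
  · exact Or.inr (Or.inr (Or.inl (Subrepresentation.toSubmodule_injective (le_antisymm hle hSZ))))
  refine Or.inr (Or.inr (Or.inr ?_))
  obtain ⟨w, hw, hw'⟩ := SetLike.not_le_iff_exists.1 hle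
  have hS : ∑ c, w c ≠ 0 := hw'
  rw [eq_top_iff]
  intro f _
  have h1 : f - ((∑ c, f c) / ∑ c, w c) • w ∈ W.toSubmodule := hSZ (by
    show ∑ c, (f - ((∑ c, f c) / ∑ c, w c) • w) c = 0
    simp [Finset.sum_sub_distrib, ← Finset.mul_sum, div_mul_cancel₀ _ hS])
  simpa using W.toSubmodule.add_mem h1 (W.toSubmodule.smul_mem ((∑ c, f c) / ∑ c, w c) hw)

end Cfsg.Agent.S0714
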