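import Cfsg.Statements.S0716
import Mathlib
import Cfsg.Agent.Lib.Block.Subdegree
-- import your own Cfsg.Agent.* helpers here

set_option autoImplicit false
open Cfsg

namespace Cfsg.Agent.S0716

/-- (a) If all non-principal irreducible constituents of the permutation character of a transitive group have the same degree `f`, the character is multiplicity-free and all non-trivial subdegrees equal `f`. (b) A transitive group of rank at most 5 has multiplicity-free permutation character. -/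
theorem result {G : Type*} [Group G] [Fintype G] {Ω : Type*} [Fintype Ω] [MulAction G Ω] [MulAction.IsPretransitive G Ω] (a : Ω) : ((f : ℕ) → (∀ χ : G → ℂ, Cfsg.IsIrrCharacter G χ → χ ≠ (fun _ => 1) → Cfsg.classInner (fun g : G => (Nat.card (MulAction.fixedBy Ω g) : ℂ)) χ ≠ 0 → χ 1 = f) → (∀ χ : G → ℂ, Cfsg.IsIrrCharacter G χ → Cfsg.classInner (fun g : G => (Nat.card (MulAction.fixedBy Ω g) : ℂ)) χ = 0 ∨ Cfsg.classInner (fun g : G => (Nat.card (MulAction.fixedBy Ω g) : ℂ)) χ = 1) ∧ ∀ b : Ω, b ≠ a → Nat.card (MulAction.orbit (MulAction.stabilizer G a) b) = f) ∧ (Nat.card (MulAction.orbitRel.Quotient (MulAction.stabilizer G a) Ω) ≤ 5 → ∀ χ : G → ℂ, Cfsg.IsIrrCharacter G χ → Cfsg.classInner (fun g : G => (Nat.card (MulAction.fixedBy Ω g) : ℂ)) χ = 0 ∨ Cfsg.classInner (fun g : G => (Nat.card (MulAction.fixedBy Ω g) : ℂ)) χ = 1) := by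
  classical
  haveI : Nonempty Ω := ⟨a⟩
  set K := MulAction.stabilizer G a
  set Q := MulAction.orbitRel.Quotient K Ω
  haveI : Fintype Q := Fintype.ofFinite _
  choose m hm using Cfsg.Agent.Block.PermChar.exists_mult (G := G) (Ω := Ω)
  set ι := Cfsg.Agent.Block.PermChar.one₀ G with hι
  have hm1 : m ι = 1 := by
    have := hm ι
    rw [Cfsg.Agent.Block.PermChar.mult_one] at this
    exact_mod_cast this.symm
  have hrank : Nat.card Q = Nat.card (MulAction.orbitRel.Quotient G (Ω × Ω)) := by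
    let F : Q → MulAction.orbitRel.Quotient G (Ω × Ω) := fun q =>
      Quotient.liftOn' q (fun x => Quotient.mk'' (a, x)) (fun x y hxy => by
        obtain ⟨g, hg⟩ := hxy
        exact Quotient.sound' ⟨(g : G), Prod.ext (show (g : G) • a = a from g.2) hg⟩)
    refine Nat.card_congr (Equiv.ofBijective F ⟨?_, ?_⟩)
    · intro p q
      induction p using Quotient.inductionOn' with
      | h x =>
        induction q using Quotient.inductionOn' with
        | h y =>
          intro h
          obtain ⟨g, hg⟩ := Quotient.exact' h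
          exact Quotient.sound' ⟨⟨g, (congrArg Prod.fst hg : g • a = a)⟩, congrArg Prod.snd hg⟩
    · intro q
      induction q using Quotient.inductionOn' with
      | h x =>
        obtain ⟨g, hg⟩ := MulAction.exists_smul_eq G x.1 a
        exact ⟨Quotient.mk'' (g • x.2), Quotient.sound' ⟨g, Prod.ext hg rfl⟩⟩
  have hsq : ∑ χ : Cfsg.IrrCharacter G, m χ * m χ = Nat.card Q := by
    have := Cfsg.Agent.Block.PermChar.sum_mult_sq (G := G) (Ω := Ω)
    simp only [hm, Complex.conj_natCast] at this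
    rw [← hrank] at this
    exact_mod_cast this
  rw [← Finset.add_sum_erase _ _ (Finset.mem_univ ι), hm1] at hsq
  have key : ∀ f : ℕ, (∀ χ : G → ℂ, Cfsg.IsIrrCharacter G χ → χ ≠ (fun _ => 1) → Cfsg.classInner (fun g : G => (Nat.card (MulAction.fixedBy Ω g) : ℂ)) χ ≠ 0 → χ 1 = f) →
      (∀ χ : Cfsg.IrrCharacter G, m χ ≤ 1) ∧ ∀ b : Ω, b ≠ a → Nat.card (MulAction.orbit K b) = f := by
    intro f hf
    have hf' : ∀ χ : Cfsg.IrrCharacter G, χ ≠ ι → m χ ≠ 0 → (χ : G → ℂ) 1 = (f : ℂ) := fun χ hne h0 =>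
      hf χ.1 χ.2 (fun e => hne (Subtype.ext e))
        (show Cfsg.Agent.Block.PermChar.mult G Ω (χ : G → ℂ) ≠ 0 by rw [hm]; exact_mod_cast h0)
    have hdvd : ∀ b : Ω, b ≠ a → f ∣ Nat.card (MulAction.orbit K b) := fun b hb =>
      Cfsg.Agent.Block.PermChar.dvd_subdegree f (fun χ hne h0 => ⟨1, by
        rw [hf' χ hne (fun e => h0 (by rw [hm, e, Nat.cast_zero])), Nat.cast_one, mul_one]⟩) hb
    have hn : Nat.card Ω = 1 + f * ∑ χ ∈ (Finset.univ : Finset (Cfsg.IrrCharacter G)).erase ι, m χ := by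
      have h1 := congrFun (Cfsg.Agent.Block.PermChar.piFun_decomp (G := G) (Ω := Ω)) 1
      rw [Finset.sum_apply, ← Finset.add_sum_erase _ _ (Finset.mem_univ ι)] at h1
      apply Nat.cast_injective (R := ℂ)
      have hp1 : Cfsg.Agent.Block.PermChar.piFun G Ω 1 = (Nat.card Ω : ℂ) := by
        rw [Cfsg.Agent.Block.PermChar.piFun]
        congr 1
        exact Nat.card_congr ((Equiv.setCongr (Set.eq_univ_of_forall fun x => one_smul G x)).trans (Equiv.Set.univ Ω))
      rw [hp1] at h1
      rw [h1, Nat.cast_add, Nat.cast_mul, Nat.cast_sum, Finset.mul_sum]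
      congr 1
      · rw [Pi.smul_apply, smul_eq_mul, hm, hm1]; exact mul_one _
      · refine Finset.sum_congr rfl fun χ hχ => ?_
        rw [Pi.smul_apply, smul_eq_mul, hm]
        by_cases h0 : m χ = 0
        · rw [h0, Nat.cast_zero, zero_mul, mul_zero]
        · rw [hf' χ (Finset.mem_erase.1 hχ).1 h0, mul_comm]
    rcases Nat.eq_zero_or_pos f with h0 | h0
    · subst h0
      rw [zero_mul, add_zero] at hn
      have hsub : Subsingleton Ω := Finite.card_le_one_iff_subsingleton.1 hn.le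
      have hQ : Nat.card Q ≤ 1 := by
        rw [Finite.card_le_one_iff_subsingleton]
        refine ⟨fun p q => ?_⟩
        induction p using Quotient.inductionOn' with
        | h x =>
          induction q using Quotient.inductionOn' with
          | h y => rw [Subsingleton.elim x y]
      refine ⟨fun χ => ?_, fun b hb => absurd (Subsingleton.elim b a) hb⟩
      by_cases h : χ = ι
      · rw [h, hm1]
      · have := Finset.single_le_sum (f := fun χ => m χ * m χ) (fun _ _ => Nat.zero_le _)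
          (Finset.mem_erase.2 ⟨h, Finset.mem_univ χ⟩)
        nlinarith
    set q₀ : Q := Quotient.mk'' a with hq₀
    have hsz : Nat.card Ω = ∑ q : Q, Nat.card (MulAction.orbit K q.out) := by
      rw [Nat.card_congr (MulAction.selfEquivSigmaOrbits K Ω), Nat.card_sigma]
    rw [← Finset.add_sum_erase _ _ (Finset.mem_univ q₀)] at hsz
    have hbase : Nat.card (MulAction.orbit K q₀.out) = 1 := by
      have h1 : q₀.out ∈ MulAction.orbit K a := Quotient.exact' (Quotient.out_eq' q₀)
      obtain ⟨g, hg⟩ := h1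
      have hga : q₀.out = a := by rw [← hg]; exact g.2
      rw [hga, Nat.card_eq_one_iff_unique]
      refine ⟨⟨?_⟩, ⟨⟨a, MulAction.mem_orbit_self a⟩⟩⟩
      rintro ⟨x, u, rfl⟩ ⟨y, v, rfl⟩
      exact Subtype.ext ((show u • a = a from u.2).trans (show v • a = a from v.2).symm)
    rw [hbase, hn] at hsz
    have hge : ∀ q ∈ (Finset.univ : Finset Q).erase q₀, f ≤ Nat.card (MulAction.orbit K q.out) := by
      intro q hq
      haveI : Nonempty (MulAction.orbit K q.out) := ⟨⟨_, MulAction.mem_orbit_self _⟩⟩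
      refine Nat.le_of_dvd Nat.card_pos (hdvd _ fun e => (Finset.mem_erase.1 hq).1 ?_)
      rw [← Quotient.out_eq' q, e]
    have h2 := Finset.sum_le_sum hge
    rw [Finset.sum_const, smul_eq_mul, Finset.card_erase_of_mem (Finset.mem_univ q₀), Finset.card_univ,
      ← Nat.card_eq_fintype_card] at h2
    set S := (Finset.univ : Finset (Cfsg.IrrCharacter G)).erase ι
    have h3 : ∑ χ ∈ S, m χ ≤ ∑ χ ∈ S, m χ * m χ := Finset.sum_le_sum fun χ _ => Nat.le_mul_self _
    have h4 : Nat.card Q - 1 ≤ ∑ χ ∈ S, m χ := by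
      apply Nat.le_of_mul_le_mul_right _ h0
      rw [mul_comm (∑ χ ∈ S, m χ) f]
      omega
    have heq : ∑ χ ∈ S, m χ = ∑ χ ∈ S, m χ * m χ := by omega
    refine ⟨fun χ => ?_, ?_⟩
    · by_cases h : χ = ι
      · rw [h, hm1]
      · have := (Finset.sum_eq_sum_iff_of_le (fun χ _ => Nat.le_mul_self (m χ))).1 heq χ
          (Finset.mem_erase.2 ⟨h, Finset.mem_univ χ⟩)
        rcases Nat.eq_zero_or_pos (m χ) with h5 | h5
        · omega
        · nlinarith
    · intro b hb
      have h6 : ∑ q ∈ (Finset.univ : Finset Q).erase q₀, f = ∑ q ∈ (Finset.univ : Finset Q).erase q₀, Nat.card (MulAction.orbit K q.out) := by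
        rw [Finset.sum_const, smul_eq_mul, Finset.card_erase_of_mem (Finset.mem_univ q₀), Finset.card_univ,
          ← Nat.card_eq_fintype_card]
        have h7 : ∑ χ ∈ S, m χ = Nat.card Q - 1 := by omega
        rw [← h7, mul_comm]
        omega
      set q : Q := Quotient.mk'' b
      have hmem : q ∈ (Finset.univ : Finset Q).erase q₀ := by
        refine Finset.mem_erase.2 ⟨fun e => hb ?_, Finset.mem_univ q⟩
        obtain ⟨g, hg⟩ := Quotient.exact' e
        rw [← hg]; exact g.2
      have := (Finset.sum_eq_sum_iff_of_le hge).1 h6 q hmem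
      rw [this]
      have hrel : q.out ∈ MulAction.orbit K b := Quotient.exact' (Quotient.out_eq' q)
      rw [MulAction.orbit_eq_iff.2 hrel]
  have hgoal : ∀ χ : Cfsg.IrrCharacter G, m χ ≤ 1 →
      Cfsg.classInner (fun g : G => (Nat.card (MulAction.fixedBy Ω g) : ℂ)) (χ : G → ℂ) = 0 ∨
        Cfsg.classInner (fun g : G => (Nat.card (MulAction.fixedBy Ω g) : ℂ)) (χ : G → ℂ) = 1 := by
    intro χ h
    show Cfsg.Agent.Block.PermChar.mult G Ω (χ : G → ℂ) = 0 ∨ Cfsg.Agent.Block.PermChar.mult G Ω (χ : G → ℂ) = 1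
    rw [hm]
    rcases Nat.le_one_iff_eq_zero_or_eq_one.1 h with e | e <;> simp [e]
  refine ⟨fun f hf => ⟨fun χ hχ => hgoal ⟨χ, hχ⟩ ((key f hf).1 _), (key f hf).2⟩, fun h5 χ hχ => hgoal ⟨χ, hχ⟩ ?_⟩
  by_contra hcon
  push Not at hcon
  have hne : (⟨χ, hχ⟩ : Cfsg.IrrCharacter G) ≠ ι := fun e => by rw [e, hm1] at hcon; omega
  set S := (Finset.univ : Finset (Cfsg.IrrCharacter G)).erase ι
  have hzero : ∀ ψ ∈ S, ψ ≠ ⟨χ, hχ⟩ → m ψ = 0 := by
    intro ψ hψ hne'
    have := Finset.sum_le_sum_of_subset (f := fun x => m x * m x)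
      (show ({⟨χ, hχ⟩, ψ} : Finset (Cfsg.IrrCharacter G)) ⊆ S by
        intro x hx
        simp only [Finset.mem_insert, Finset.mem_singleton] at hx
        rcases hx with rfl | rfl
        · exact Finset.mem_erase.2 ⟨hne, Finset.mem_univ _⟩
        · exact hψ)
    rw [Finset.sum_pair (Ne.symm hne')] at this
    have h4 : 4 ≤ m ⟨χ, hχ⟩ * m ⟨χ, hχ⟩ := Nat.mul_le_mul hcon hcon
    have : m ψ * m ψ = 0 := by omega
    exact mul_self_eq_zero.1 this
  obtain ⟨d, -, hd⟩ := Cfsg.Agent.Char.IsIrr.one_eq_pos hχ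
  have := (key d (fun ψ hψ h1 h0 => by
    by_cases e : (⟨ψ, hψ⟩ : Cfsg.IrrCharacter G) = ⟨χ, hχ⟩
    · have e' : ψ = χ := congrArg Subtype.val e
      rw [e']; exact hd
    · exfalso
      apply h0
      show Cfsg.Agent.Block.PermChar.mult G Ω ψ = 0
      have := hm ⟨ψ, hψ⟩
      rw [hzero ⟨ψ, hψ⟩ (Finset.mem_erase.2 ⟨fun e' => h1 (congrArg Subtype.val e'), Finset.mem_univ _⟩) e, Nat.cast_zero] at this
      exact this)).1 ⟨χ, hχ⟩
  omega

end Cfsg.Agent.S0716
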