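import Cfsg.Statements.S0717
import Mathlib
import Cfsg.Agent.Lib.Block.PermChar
-- import your own Cfsg.Agent.* helpers here

set_option autoImplicit false
open Cfsg

namespace Cfsg.Agent.S0717

/-- All suborbits of a transitive group are self-paired (every pair of points is interchanged by some group element) if and only if the permutation character is multiplicity-free and each of its irreducible constituents is real-valued. -/
theorem result {G : Type*} [Group G] [Fintype G] {Ω : Type*} [Fintype Ω] [MulAction G Ω] [MulAction.IsPretransitive G Ω] : (∀ a b : Ω, ∃ g : G, g • a = b ∧ g • b = a) ↔ ∀ χ : G → ℂ, Cfsg.IsIrrCharacter G χ → Cfsg.classInner (fun g : G => (Nat.card (MulAction.fixedBy Ω g) : ℂ)) χ ≠ 0 → Cfsg.classInner (fun g : G => (Nat.card (MulAction.fixedBy Ω g) : ℂ)) χ = 1 ∧ ∀ g : G, (starRingEnd ℂ) (χ g) = χ g := by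
  classical
  constructor
  · intro h χ hχ hne
    have hsymm : ∀ M : Matrix Ω Ω ℂ, Cfsg.Agent.Block.PermChar.Inv G Ω M → M.transpose = M := by
      intro M hM
      ext x y
      rw [Matrix.transpose_apply]
      obtain ⟨g, hgx, hgy⟩ := h x y
      have := hM g x y
      rwa [hgx, hgy] at this
    refine ⟨(Cfsg.Agent.Block.PermChar.free_of_comm (fun M N hM hN => ?_) ⟨χ, hχ⟩).resolve_left hne,
      Cfsg.Agent.Block.PermChar.real_of_symm hsymm (χ := ⟨χ, hχ⟩) hne⟩
    have h1 := hsymm _ (Cfsg.Agent.Block.PermChar.Inv.mul hM hN)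
    rw [Matrix.transpose_mul, hsymm M hM, hsymm N hN] at h1
    exact h1.symm
  · intro h a b
    let M : Matrix Ω Ω ℂ := Matrix.of fun x y => if ∃ g : G, g • a = x ∧ g • b = y then 1 else 0
    have hM : Cfsg.Agent.Block.PermChar.Inv G Ω M := by
      intro k x y
      refine if_congr ⟨?_, ?_⟩ rfl rfl
      · rintro ⟨g, h1, h2⟩
        exact ⟨k⁻¹ * g, by rw [mul_smul, h1, inv_smul_smul], by rw [mul_smul, h2, inv_smul_smul]⟩
      · rintro ⟨g, h1, h2⟩
        exact ⟨k * g, by rw [mul_smul, h1], by rw [mul_smul, h2]⟩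
    have hs := congrFun (congrFun (Cfsg.Agent.Block.PermChar.symm_of_free_real
      (fun χ => by
        by_cases h0 : Cfsg.Agent.Block.PermChar.mult G Ω (χ : G → ℂ) = 0
        · exact Or.inl h0
        · exact Or.inr (h χ.1 χ.2 h0).1)
      (fun χ h0 => (h χ.1 χ.2 h0).2) hM) b) a
    have hab : M a b = 1 := if_pos ⟨1, one_smul _ _, one_smul _ _⟩
    rw [Matrix.transpose_apply, hab] at hs
    by_contra hno
    have : M b a = 0 := if_neg hno
    rw [this] at hs
    exact one_ne_zero hs

end Cfsg.Agent.S0717
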