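import Cfsg.Statements.S0718
import Mathlib
import Cfsg.Agent.Lib.Block.PermChar
-- import your own Cfsg.Agent.* helpers here

set_option autoImplicit false
open Cfsg

namespace Cfsg.Agent.S0718

/-- Multiplicity-freeness of the permutation character is equivalent to commutativity of the centraliser ring, i.e. of the algebra of `G`-equivariant endomorphisms of the complex permutation module. -/
theorem result {G : Type*} [Group G] [Fintype G] {Ω : Type*} [Fintype Ω] [MulAction G Ω] : (∀ χ : G → ℂ, Cfsg.IsIrrCharacter G χ → Cfsg.classInner (fun g : G => (Nat.card (MulAction.fixedBy Ω g) : ℂ)) χ = 0 ∨ Cfsg.classInner (fun g : G => (Nat.card (MulAction.fixedBy Ω g) : ℂ)) χ = 1) ↔ ∀ S T : (Ω → ℂ) →ₗ[ℂ] (Ω → ℂ), S ∈ ((Cfsg.permRep ℂ G Ω).linHom (Cfsg.permRep ℂ G Ω)).invariants → T ∈ ((Cfsg.permRep ℂ G Ω).linHom (Cfsg.permRep ℂ G Ω)).invariants → S ∘ₗ T = T ∘ₗ S := by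
  classical
  constructor
  · intro h S T hS hT
    rw [Cfsg.Agent.Block.PermChar.mem_linHom_invariants_iff] at hS hT
    apply LinearMap.toMatrix'.injective
    rw [LinearMap.toMatrix'_comp, LinearMap.toMatrix'_comp]
    exact Cfsg.Agent.Block.PermChar.comm_of_free (fun χ => h χ.1 χ.2) hS hT
  · intro h χ hχ
    refine Cfsg.Agent.Block.PermChar.free_of_comm (fun M N hM hN => ?_) ⟨χ, hχ⟩
    have h1 : ∀ X : Matrix Ω Ω ℂ, Cfsg.Agent.Block.PermChar.Inv G Ω X →
        Matrix.toLin' X ∈ ((Cfsg.permRep ℂ G Ω).linHom (Cfsg.permRep ℂ G Ω)).invariants := fun X hX => by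
      rw [Cfsg.Agent.Block.PermChar.mem_linHom_invariants_iff, LinearMap.toMatrix'_toLin']; exact hX
    have h2 := congrArg LinearMap.toMatrix' (h _ _ (h1 M hM) (h1 N hN))
    rwa [LinearMap.toMatrix'_comp, LinearMap.toMatrix'_comp, LinearMap.toMatrix'_toLin',
      LinearMap.toMatrix'_toLin'] at h2

end Cfsg.Agent.S0718
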