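import Cfsg.Statements.S0722
import Mathlib
-- import your own Cfsg.Agent.* helpers here

set_option autoImplicit false
open Cfsg

namespace Cfsg.Agent.S0722

/-- In a primitive group `H`, with `N` a minimal normal subgroup and `K` a point stabiliser, `K ⊓ N` is maximal among proper `K`-invariant subgroups of `N`. -/
theorem result {α : Type*} [Finite α] (H : Subgroup (Equiv.Perm α)) [MulAction.IsPreprimitive H α] (N : Subgroup H) [N.Normal] (hN : N ≠ ⊥) (hmin : ∀ M : Subgroup H, M.Normal → M ≤ N → M = ⊥ ∨ M = N) (a : α) (X : Subgroup H) (hX : X ≤ N) (hKX : MulAction.stabilizer H a ⊓ N ≤ X) (hinv : MulAction.stabilizer H a ≤ Subgroup.normalizer (X : Set H)) : X = MulAction.stabilizer H a ⊓ N ∨ X = N := by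
  classical
  rcases subsingleton_or_nontrivial α with hs | hn
  · exfalso
    apply hN
    rw [eq_bot_iff]
    intro x _
    rw [Subgroup.mem_bot]
    exact Subtype.ext (Equiv.ext fun z => Subsingleton.elim _ _)
  set K := MulAction.stabilizer H a
  have hco : IsCoatom K :=
    (MulAction.isCoatom_stabilizer_iff_preprimitive H a).2 inferInstance
  rcases hco.le_iff.1 (le_sup_right : K ≤ X ⊔ K) with h | h
  · right
    apply le_antisymm hX
    intro n hn
    have hmem : n ∈ ((X ⊔ K : Subgroup H) : Set H) := by rw [h]; trivial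
    rw [Subgroup.coe_mul_of_right_le_normalizer_left X K hinv] at hmem
    obtain ⟨x, hx, k, hk, rfl⟩ := hmem
    have : k ∈ K ⊓ N := ⟨hk, by simpa using N.mul_mem (N.inv_mem (hX hx)) hn⟩
    exact X.mul_mem hx (hKX this)
  · left
    exact le_antisymm (le_inf (h ▸ le_sup_left) hX) hKX

end Cfsg.Agent.S0722
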