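import Cfsg.Statements.S0723
import Cfsg.Agent.Lib.Block.DiagonalPower
import Cfsg.Agent.Lib.Block.MinimalPower
import Cfsg.Agent.S0722

set_option autoImplicit false
open Cfsg

namespace Cfsg.Agent.S0723

/-- The core of the O'Nan–Scott Theorem. Let `H` be a primitive permutation group on a finite set whose unique minimal normal subgroup `N` is non-abelian, and `K` a point stabiliser. Then there are a non-abelian simple group `T` and an isomorphism `N ≃* T^m` (`m ≥ 1`) under which `K ⊓ N` becomes either a product `∏ K_i` of proper subgroups `K_i < T`, or the set of functions constant on each block of a partition of the index set into blocks of one common size `k ≥ 2`. -/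
theorem result {α : Type*} [Finite α] (H : Subgroup (Equiv.Perm α)) [MulAction.IsPreprimitive H α] (N : Subgroup H) [N.Normal] (hN : N ≠ ⊥) (hmin : ∀ M : Subgroup H, M.Normal → M ≤ N → M = ⊥ ∨ M = N) (huniq : ∀ L : Subgroup H, L.Normal → L ≠ ⊥ → (∀ M : Subgroup H, M.Normal → M ≤ L → M = ⊥ ∨ M = L) → L = N) (hnab : ¬ IsMulCommutative N) (a : α) : ∃ (T : Type) (_ : Group T) (m : ℕ) (e : N ≃* (Fin m → T)), IsSimpleGroup T ∧ ¬ IsMulCommutative T ∧ 0 < m ∧ ((∃ K : Fin m → Subgroup T, (∀ i, K i ≠ ⊤) ∧ ∀ n : N, (n : H) ∈ MulAction.stabilizer H a ↔ ∀ i, e n i ∈ K i) ∨ (∃ (k : ℕ) (c : Fin m → Fin m), 2 ≤ k ∧ (∀ j : Fin m, Nat.card {i : Fin m // c i = j} = k ∨ Nat.card {i : Fin m // c i = j} = 0) ∧ ∀ n : N, (n : H) ∈ MulAction.stabilizer H a ↔ ∀ i j : Fin m, c i = c j → e n i = e n j)) := by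
  classical
  obtain ⟨T, _, m, hT, hm, ⟨e⟩⟩ := Cfsg.Agent.Block.MinimalPower.exists_simple_power N hN hmin
  have hna : ¬ IsMulCommutative T := fun h => hnab ⟨⟨fun x y => e.injective (by
    rw [map_mul, map_mul]
    funext i
    exact h.1.comm _ _)⟩⟩
  haveI : Finite T := by
    haveI : Finite (Fin m → T) := Finite.of_equiv N e.toEquiv
    exact Finite.of_injective (fun t : T => Function.const (Fin m) t)
      fun x y h => congrFun h ⟨0, hm⟩
  set K := MulAction.stabilizer H a with hKdef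
  let conjK : K → ((Fin m → T) ≃* (Fin m → T)) := fun k =>
    e.symm.trans ((MulAut.conjNormal (H := N) (k : H)).trans e)
  have hconj : ∀ (k : K) (n : N), conjK k (e n) = e (MulAut.conjNormal (H := N) (k : H) n) :=
    fun k n => by simp [conjK]
  let R : Subgroup (Fin m → T) := (K.subgroupOf N).map e.toMonoidHom
  have hR : ∀ n : N, e n ∈ R ↔ (n : H) ∈ K := fun n => by
    refine ⟨?_, fun h => ⟨n, h, rfl⟩⟩
    rintro ⟨n', hn', he⟩
    exact (e.injective he) ▸ hn'
  have hne : R ≠ ⊤ := by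
    intro h
    refine hN (eq_bot_iff.2 fun n hn => Subgroup.mem_bot.2 (Subtype.ext (Equiv.ext fun x => ?_)))
    haveI := (inferInstance : MulAction.IsPreprimitive H α).toIsPretransitive
    obtain ⟨g, rfl⟩ := MulAction.exists_smul_eq H a x
    have hfix : g⁻¹ * n * g ∈ K := (hR ⟨_, by simpa using Subgroup.Normal.conj_mem (H := N) inferInstance n hn g⁻¹⟩).1
      (h ▸ Subgroup.mem_top _)
    rw [MulAction.mem_stabilizer_iff, mul_smul, mul_smul, inv_smul_eq_iff] at hfix
    exact hfix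
  have key := Cfsg.Agent.Block.DiagPower.dichotomy hna (Set.range conjK) R ?_ hne ?_ ?_
  · rcases key with ⟨Ki, h1, h2⟩ | ⟨β, k, c, hk, hc, h2⟩
    · exact ⟨T, inferInstance, m, e, hT, hna, hm, Or.inl ⟨Ki, h1, fun n => (hR n).symm.trans (h2 _)⟩⟩
    · refine ⟨T, inferInstance, m, e.trans (MulEquiv.piCongrRight β), hT, hna, hm,
        Or.inr ⟨k, c, hk, hc, fun n => (hR n).symm.trans ((h2 _).trans ?_)⟩⟩
      exact Iff.rfl
  · rintro _ ⟨k, rfl⟩ r hr
    obtain ⟨n, rfl⟩ := e.surjective r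
    rw [hconj, hR, MulAut.conjNormal_apply]
    exact K.mul_mem (K.mul_mem k.2 ((hR n).1 hr)) (K.inv_mem k.2)
  · intro X hRX hX
    let X' : Subgroup H := (X.comap e.toMonoidHom).map N.subtype
    have hX' : ∀ n : N, (n : H) ∈ X' ↔ e n ∈ X := fun n => by
      refine ⟨?_, fun h => ⟨n, h, rfl⟩⟩
      rintro ⟨n', hn', he⟩
      exact (Subtype.ext he : n' = n) ▸ hn'
    have hle : X' ≤ N := Subgroup.map_subtype_le _
    have hcl : ∀ k ∈ K, ∀ x ∈ X', k * x * k⁻¹ ∈ X' := by
      rintro k hk _ ⟨n, hn, rfl⟩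
      have := hX _ ⟨⟨k, hk⟩, rfl⟩ _ hn
      rw [show e.toMonoidHom n = e n from rfl, hconj, ← hX', MulAut.conjNormal_apply] at this
      exact this
    rcases Cfsg.Agent.S0722.result H N hN hmin a X' hle
      (fun x hx => (hX' ⟨x, hx.2⟩).2 (hRX ((hR ⟨x, hx.2⟩).2 hx.1)))
      (fun k hk => Subgroup.mem_normalizer_iff.2 fun x => ⟨fun hx => hcl k hk x hx, fun hx => by
        have := hcl k⁻¹ (K.inv_mem hk) _ hx
        simpa [mul_assoc] using this⟩) with h | h
    · left
      refine Subgroup.ext fun r => ?_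
      obtain ⟨n, rfl⟩ := e.surjective r
      rw [hR, ← hX', h]
      exact ⟨fun hh => hh.1, fun hh => ⟨hh, n.2⟩⟩
    · right
      refine eq_top_iff.2 fun r _ => ?_
      obtain ⟨n, rfl⟩ := e.surjective r
      exact (hX' n).1 (h.ge n.2)
  · intro M hM hinv
    let M' : Subgroup H := (M.comap e.toMonoidHom).map N.subtype
    have hM' : ∀ n : N, (n : H) ∈ M' ↔ e n ∈ M := fun n => by
      refine ⟨?_, fun h => ⟨n, h, rfl⟩⟩
      rintro ⟨n', hn', he⟩
      exact (Subtype.ext he : n' = n) ▸ hn'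
    have hsup : K ⊔ N = ⊤ := by
      haveI : Nontrivial α := by
        by_contra hα
        haveI := not_nontrivial_iff_subsingleton.1 hα
        exact hN (eq_bot_iff.2 fun n _ => Subgroup.mem_bot.2
          (Subtype.ext (Equiv.ext fun z => Subsingleton.elim _ _)))
      rcases ((MulAction.isCoatom_stabilizer_iff_preprimitive H a).2 inferInstance).le_iff.1
        (le_sup_left : K ≤ K ⊔ N) with h | h
      · exact h
      · exfalso
        refine hne (eq_top_iff.2 fun r _ => ?_)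
        obtain ⟨n, rfl⟩ := e.surjective r
        exact (hR n).2 (((le_sup_right : N ≤ K ⊔ N).trans h.le) n.2)
    have hcl : ∀ g ∈ K ⊔ N, ∀ x ∈ M', g * x * g⁻¹ ∈ M' := by
      intro g hg
      rw [← SetLike.mem_coe, Subgroup.mul_normal K N] at hg
      obtain ⟨k, hk, u, hu, rfl⟩ := hg
      rintro _ ⟨n, hn, rfl⟩
      have h1 : (u : H) * (n : H) * u⁻¹ ∈ M' := by
        refine (hM' ⟨u * n * u⁻¹, N.mul_mem (N.mul_mem hu n.2) (N.inv_mem hu)⟩).2 ?_
        rw [show (⟨u * n * u⁻¹, _⟩ : N) = ⟨u, hu⟩ * n * ⟨u, hu⟩⁻¹ from Subtype.ext rfl, map_mul,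
          map_mul, map_inv]
        exact hM.conj_mem _ hn _
      obtain ⟨n', hn', he⟩ := h1
      have h2 := hinv _ ⟨⟨k, hk⟩, rfl⟩ _ hn'
      rw [show e.toMonoidHom n' = e n' from rfl, hconj, ← hM', MulAut.conjNormal_apply] at h2
      rw [show (n' : H) = u * n * u⁻¹ from he] at h2
      simpa [mul_assoc] using h2
    have hMn : M'.Normal := ⟨fun x hx g => hcl g (hsup ▸ Subgroup.mem_top g) x hx⟩
    rcases hmin M' hMn (Subgroup.map_subtype_le _) with h | h
    · left
      refine eq_bot_iff.2 fun r hr => ?_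
      obtain ⟨n, rfl⟩ := e.surjective r
      have h1 := (hM' n).2 hr
      rw [h, Subgroup.mem_bot] at h1
      rw [Subgroup.mem_bot, show n = 1 from Subtype.ext h1, map_one]
    · right
      refine eq_top_iff.2 fun r _ => ?_
      obtain ⟨n, rfl⟩ := e.surjective r
      exact (hM' n).1 (h.ge n.2)

end Cfsg.Agent.S0723
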