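import Cfsg.Statements.S0724
import Mathlib

set_option autoImplicit false
open Cfsg

namespace Cfsg.Agent.S0724

/-- Blichfeldt's Theorem: if a finite set `L` of natural numbers contains the number of fixed points of every non-identity element of a permutation group `G` of degree `n`, then the order of `G` divides `∏ (n - l)` over `l ∈ L`. -/
theorem result {α : Type*} [Fintype α] [DecidableEq α] (G : Subgroup (Equiv.Perm α)) (L : Finset ℕ) (hL : ∀ g ∈ G, g ≠ 1 → Nat.card (MulAction.fixedBy α g) ∈ L) : Nat.card G ∣ ∏ l ∈ L, (Fintype.card α - l) := by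
  classical
  let π : G → ℤ := fun g => (Nat.card (MulAction.fixedBy α g) : ℤ)
  have hpow : ∀ k : ℕ, (Nat.card G : ℤ) ∣ ∑ g : G, π g ^ k := by
    intro k
    have h := MulAction.sum_card_fixedBy_eq_card_orbits_mul_card_group G (Fin k → α)
    refine ⟨(Fintype.card (Quotient (MulAction.orbitRel G (Fin k → α))) : ℤ), ?_⟩
    rw [Nat.card_eq_fintype_card, ← Nat.cast_mul, mul_comm]
    rw [← h, Nat.cast_sum]
    refine Finset.sum_congr rfl (fun g _ => ?_)
    simp only [π, ← Nat.card_eq_fintype_card, ← Nat.cast_pow]
    congr 1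
    let e : (Fin k → MulAction.fixedBy α g) ≃ MulAction.fixedBy (Fin k → α) g :=
      { toFun := fun f => ⟨fun i => f i, funext fun i => (f i).2⟩
        invFun := fun f i => ⟨f.1 i, congrFun f.2 i⟩
        left_inv := fun f => rfl
        right_inv := fun f => rfl }
    rw [← Nat.card_congr e, Nat.card_fun, Nat.card_eq_fintype_card (α := Fin k), Fintype.card_fin]
  let P : Polynomial ℤ := ∏ l ∈ L, (Polynomial.X - Polynomial.C (l : ℤ))
  have hsum : (Nat.card G : ℤ) ∣ ∑ g : G, P.eval (π g) := by
    simp only [Polynomial.eval_eq_sum_range]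
    rw [Finset.sum_comm]
    refine Finset.dvd_sum (fun i _ => ?_)
    rw [← Finset.mul_sum]
    exact Dvd.dvd.mul_left (hpow i) _
  rw [Finset.sum_eq_single_of_mem (1 : G) (Finset.mem_univ _)] at hsum
  · have h1 : π (1 : G) = Fintype.card α := by
      simp [π, MulAction.fixedBy]
    rw [h1, Polynomial.eval_prod] at hsum
    simp only [Polynomial.eval_sub, Polynomial.eval_X, Polynomial.eval_C] at hsum
    by_cases hbig : ∃ l ∈ L, Fintype.card α ≤ l
    · obtain ⟨l, hl, hle⟩ := hbig
      rw [Finset.prod_eq_zero hl (Nat.sub_eq_zero_of_le hle)]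
      exact dvd_zero _
    · push Not at hbig
      rw [← Int.natCast_dvd_natCast, Nat.cast_prod]
      convert hsum using 1
      exact Finset.prod_congr rfl (fun l hl => by rw [Nat.cast_sub (hbig l hl).le])
  · intro g _ hg
    rw [Polynomial.eval_prod]
    refine Finset.prod_eq_zero (hL g g.2 (by simpa using hg)) ?_
    simp only [Polynomial.eval_sub, Polynomial.eval_X, Polynomial.eval_C, π]
    rw [sub_eq_zero]
    rfl

end Cfsg.Agent.S0724
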