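import Cfsg.Statements.S0726
import Mathlib

set_option autoImplicit false
open Cfsg

namespace Cfsg.Agent.S0726

/-- The left and right regular permutation representations of a group are each other's centralisers in the symmetric group: the centraliser of the left regular image is the right regular image, and a transitive subgroup centralising the left regular image is the whole right regular image. -/
theorem result {G : Type*} [Group G] : Subgroup.centralizer ((MulAction.toPermHom G G).range : Set (Equiv.Perm G)) = (MulAction.toPermHom Gᵐᵒᵖ G).range ∧ ∀ H : Subgroup (Equiv.Perm G), H ≤ Subgroup.centralizer ((MulAction.toPermHom G G).range : Set (Equiv.Perm G)) → MulAction.IsPretransitive H G → H = (MulAction.toPermHom Gᵐᵒᵖ G).range := by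
  have key : ∀ c ∈ Subgroup.centralizer ((MulAction.toPermHom G G).range : Set (Equiv.Perm G)),
      c = MulAction.toPermHom Gᵐᵒᵖ G (MulOpposite.op (c 1)) := by
    intro c hc
    ext x
    have := DFunLike.congr_fun (hc (MulAction.toPermHom G G x) ⟨x, rfl⟩) 1
    simp only [Equiv.Perm.coe_mul, Function.comp_apply, MulAction.toPermHom_apply,
      MulAction.toPerm_apply, smul_eq_mul, mul_one] at this
    simpa using this.symm
  refine ⟨le_antisymm ?_ ?_, ?_⟩
  · intro c hc
    exact ⟨_, (key c hc).symm⟩
  · rintro _ ⟨g, rfl⟩ _ ⟨h, rfl⟩
    ext x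
    simp [MulOpposite.smul_eq_mul_unop, mul_assoc]
  · intro H hH htr
    refine le_antisymm (fun c hc => ⟨_, (key c (hH hc)).symm⟩) ?_
    rintro _ ⟨g, rfl⟩
    obtain ⟨⟨c, hc⟩, hc1⟩ := htr.exists_smul_eq 1 g.unop
    have hc1' : c 1 = g.unop := hc1
    have := key c (hH hc)
    rw [hc1', MulOpposite.op_unop] at this
    rwa [← this]

end Cfsg.Agent.S0726
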