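import Cfsg.Statements.S0729
import Cfsg.Agent.S0728
import Cfsg.Agent.Lib.Block.Zas.IndexTwo.Main

set_option autoImplicit false
open Cfsg

namespace Cfsg.Agent.S0729

/-- In a sharply triply transitive group of even degree at least 6, the two-point stabiliser `H = G_{a,b}` has a normal subgroup of index 2 that is normalised by the element `s` interchanging `a, b` and fixing a third point `c`. -/
theorem result {α : Type*} [Fintype α] [DecidableEq α] (heven : Even (Fintype.card α)) (h6 : 6 ≤ Fintype.card α) (G : Subgroup (Equiv.Perm α)) (h3 : MulAction.IsMultiplyPretransitive G α 3) (hsharp : ∀ x : Fin 3 ↪ α, MulAction.stabilizer G x = ⊥) {a b c : α} (hab : a ≠ b) (hac : a ≠ c) (hbc : b ≠ c) (s : G) (hsa : s • a = b) (hsb : s • b = a) (hsc : s • c = c) : ∃ N : Subgroup G, N ≤ MulAction.stabilizer G a ⊓ MulAction.stabilizer G b ∧ (N.subgroupOf (MulAction.stabilizer G a ⊓ MulAction.stabilizer G b)).Normal ∧ N.relIndex (MulAction.stabilizer G a ⊓ MulAction.stabilizer G b) = 2 ∧ ∀ n ∈ N, s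 * n * s⁻¹ ∈ N := by
  classical
  obtain ⟨D, rfl, rfl, hd, htr⟩ := Block.Zas.frame_of_sharp h3 hsharp hab (by
    rw [Nat.card_eq_fintype_card]; omega)
  obtain ⟨χ, hχ, hinv⟩ := Block.Zas.IndexTwo.exists_sign D h3 hd htr heven h6
    (fun A B hA hB hA3 hB3 => S0728.result heven h6 G h3 hsharp D.hab A B hA hB hA3 hB3)
    hac.symm hbc.symm hsa hsb hsc
  have hle : χ.ker.map D.H.subtype ≤ D.H := Subgroup.map_subtype_le _
  have hsub : (χ.ker.map D.H.subtype).subgroupOf D.H = χ.ker :=
    Subgroup.comap_map_eq_self_of_injective D.H.subtype_injective _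
  refine ⟨χ.ker.map D.H.subtype, hle, ?_, ?_, ?_⟩
  · show ((χ.ker.map D.H.subtype).subgroupOf D.H).Normal
    rw [hsub]; infer_instance
  · show ((χ.ker.map D.H.subtype).subgroupOf D.H).index = 2
    rw [hsub, Subgroup.index_ker]
    have hr : χ.range = ⊤ := eq_top_iff.mpr fun x _ => by
      rcases Int.units_eq_one_or x with rfl | rfl
      · exact one_mem _
      · obtain ⟨h, hh⟩ : ∃ h, χ h ≠ 1 := by
          by_contra e
          push Not at e
          exact hχ (MonoidHom.ext e)
        exact ⟨h, (Int.units_eq_one_or (χ h)).resolve_left hh⟩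
    rw [hr, Nat.card_congr Subgroup.topEquiv.toEquiv, Nat.card_eq_fintype_card, Fintype.card_units_int]
  · rintro _ ⟨n, hn, rfl⟩
    refine ⟨⟨s * n * s⁻¹, D.swap_conj_mem hsa hsb n⟩, ?_, rfl⟩
    show χ _ = 1
    rw [hinv]; exact hn

end Cfsg.Agent.S0729
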