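import Cfsg.Statements.S0733
import Mathlib
-- import your own Cfsg.Agent.* helpers here

set_option autoImplicit false
open Cfsg

namespace Cfsg.Agent.S0733

/-- A permutation group of affine type — generated by the translations of a finite vector space `V` over `ZMod p` together with a group `G₀` of linear automorphisms — is primitive on `V` if and only if `G₀` is irreducible on `V`. -/
theorem result {p : ℕ} [Fact p.Prime] {V : Type*} [AddCommGroup V] [Module (ZMod p) V] [Finite V] [Nontrivial V] (G₀ : Subgroup (V ≃ₗ[ZMod p] V)) (G : Subgroup (Equiv.Perm V)) (hG : ∀ σ : Equiv.Perm V, σ ∈ G ↔ ∃ g ∈ G₀, ∃ b : V, ∀ x : V, σ x = (g : V ≃ₗ[ZMod p] V) x + b) : MulAction.IsPreprimitive G V ↔ ∀ W : Submodule (ZMod p) V, (∀ g ∈ G₀, ∀ v ∈ W, (g : V ≃ₗ[ZMod p] V) v ∈ W) → W = ⊥ ∨ W = ⊤ := by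
  classical
  open Pointwise in
  have htr : ∀ b : V, ∃ σ ∈ G, ∀ x : V, σ x = x + b := fun b =>
    ⟨Equiv.addRight b, (hG _).2 ⟨1, one_mem _, b, fun x => rfl⟩, fun x => rfl⟩
  open Pointwise in
  haveI : MulAction.IsPretransitive G V := by
    refine ⟨fun x y => ?_⟩
    obtain ⟨σ, hσ, h⟩ := htr (y - x)
    exact ⟨⟨σ, hσ⟩, show σ x = y by rw [h]; abel⟩
  constructor
  · intro hprim W hW
    have hB : MulAction.IsBlock G (W : Set V) := by
      rw [MulAction.isBlock_iff_smul_eq_of_nonempty]
      rintro ⟨σ, hσ⟩ ⟨z, ⟨w, hw, hwz⟩, hz⟩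
      obtain ⟨g, hg, b, h⟩ := (hG σ).1 hσ
      have hwz' : σ w = z := hwz
      have hb : b ∈ W := by
        have : b = z - (g : V ≃ₗ[ZMod p] V) w := by rw [← hwz', h]; abel
        rw [this]; exact W.sub_mem hz (hW g hg w hw)
      have hsub : ∀ v ∈ W, σ v ∈ W := fun v hv => by rw [h]; exact W.add_mem (hW g hg v hv) hb
      ext x
      constructor
      · rintro ⟨v, hv, rfl⟩
        exact hsub v hv
      · intro hx
        refine ⟨σ.symm x, ?_, σ.apply_symm_apply x⟩
        let f : W → W := fun v => ⟨σ v, hsub v v.2⟩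
        have hf : Function.Injective f := fun u v huv => Subtype.ext (σ.injective (congrArg Subtype.val huv))
        obtain ⟨v, hv⟩ := (Finite.injective_iff_surjective.1 hf) ⟨x, hx⟩
        have h' : σ v = x := congrArg Subtype.val hv
        rw [← h', σ.symm_apply_apply]
        exact v.2
    rcases hprim.isTrivialBlock_of_isBlock hB with h | h
    · exact Or.inl ((Submodule.eq_bot_iff W).2 fun v hv => h hv W.zero_mem)
    · exact Or.inr (SetLike.coe_injective (by rw [h, Submodule.top_coe]))
  · intro hirr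
    refine MulAction.IsPreprimitive.of_isTrivialBlock_base (0 : V) (fun {B} h0 hB => ?_)
    have hmove : ∀ σ ∈ G, ∀ u ∈ B, σ u ∈ B → ∀ v ∈ B, σ v ∈ B := by
      intro σ hσ u hu hσu v hv
      have := (MulAction.isBlock_iff_smul_eq_of_nonempty.1 hB) (g := (⟨σ, hσ⟩ : G))
        ⟨σ u, ⟨u, hu, rfl⟩, hσu⟩
      rw [← this]
      exact ⟨v, hv, rfl⟩
    let S : AddSubmonoid V :=
      { carrier := B
        zero_mem' := h0
        add_mem' := fun {x y} hx hy => by
          obtain ⟨σ, hσ, h⟩ := htr y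
          have := hmove σ hσ 0 h0 (by rw [h, zero_add]; exact hy) x hx
          rwa [h] at this }
    have hsmul : ∀ (c : ZMod p), ∀ x ∈ B, c • x ∈ B := by
      intro c x hx
      rw [← ZMod.natCast_zmod_val c, Nat.cast_smul_eq_nsmul]
      exact AddSubmonoid.nsmul_mem S hx _
    let W : Submodule (ZMod p) V :=
      { S with smul_mem' := hsmul }
    have hW : ∀ g ∈ G₀, ∀ v ∈ W, (g : V ≃ₗ[ZMod p] V) v ∈ W := by
      intro g hg v hv
      have := hmove g.toEquiv ((hG _).2 ⟨g, hg, 0, fun x => by simp⟩) 0 h0 (by simpa using h0) v hv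
      exact this
    rcases hirr W hW with h | h
    · left
      intro x hx y hy
      have hx' : x ∈ W := hx
      have hy' : y ∈ W := hy
      rw [h, Submodule.mem_bot] at hx' hy'
      rw [hx', hy']
    · right
      rw [Set.eq_univ_iff_forall]
      intro x
      have : x ∈ W := h ▸ Submodule.mem_top
      exact this

end Cfsg.Agent.S0733
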