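import Cfsg.Statements.S0734
import Mathlib
-- import your own Cfsg.Agent.* helpers here

set_option autoImplicit false
open Cfsg

namespace Cfsg.Agent.S0734

/-- Higman's criterion for primitivity: a transitive action on a finite set is primitive if and only if every non-trivial orbital graph (edges = images of a fixed pair of distinct points) is connected. -/
theorem result {G : Type*} [Group G] {Ω : Type*} [Finite Ω] [MulAction G Ω] [MulAction.IsPretransitive G Ω] [Nontrivial Ω] : MulAction.IsPreprimitive G Ω ↔ ∀ a b : Ω, a ≠ b → (SimpleGraph.fromRel fun x y : Ω => ∃ g : G, g • a = x ∧ g • b = y).Connected := by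
  classical
  let Gr : Ω → Ω → SimpleGraph Ω := fun a b =>
    SimpleGraph.fromRel fun x y : Ω => ∃ g : G, g • a = x ∧ g • b = y
  constructor
  · intro hprim a b hab
    let B : Set Ω := {x | (Gr a b).Reachable a x}
    have hinv : ∀ (g : G) (x y : Ω), (Gr a b).Adj x y → (Gr a b).Adj (g • x) (g • y) := by
      intro g x y hxy
      simp only [Gr, SimpleGraph.fromRel_adj] at hxy ⊢
      refine ⟨fun h => hxy.1 (MulAction.injective g h), ?_⟩
      rcases hxy.2 with ⟨k, h1, h2⟩ | ⟨k, h1, h2⟩
      · exact Or.inl ⟨g * k, by rw [mul_smul, h1], by rw [mul_smul, h2]⟩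
      · exact Or.inr ⟨g * k, by rw [mul_smul, h1], by rw [mul_smul, h2]⟩
    have hreach : ∀ (g : G) (x y : Ω), (Gr a b).Reachable x y → (Gr a b).Reachable (g • x) (g • y) := by
      intro g x y h
      exact h.map ⟨fun z => g • z, fun {u v} huv => hinv g u v huv⟩
    have hB : MulAction.IsBlock G B := by
      rw [MulAction.isBlock_iff_smul_eq_of_nonempty]
      rintro g ⟨z, ⟨w, hw, rfl⟩, hz⟩
      have hga : (Gr a b).Reachable a (g • a) := hz.trans (hreach g a w hw).symm
      ext x
      constructor
      · rintro ⟨v, hv, rfl⟩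
        exact hga.trans (hreach g a v hv)
      · intro hx
        refine ⟨g⁻¹ • x, ?_, smul_inv_smul g x⟩
        have h1 := hreach g⁻¹ _ _ (hga.symm.trans hx)
        rw [inv_smul_smul] at h1
        exact h1
    have hb : b ∈ B := by
      refine SimpleGraph.Adj.reachable ?_
      simp only [Gr, SimpleGraph.fromRel_adj]
      exact ⟨hab, Or.inl ⟨1, one_smul _ _, one_smul _ _⟩⟩
    rcases hprim.isTrivialBlock_of_isBlock hB with h | h
    · exact absurd (h (SimpleGraph.Reachable.refl a) hb) hab
    · refine ⟨fun x y => ?_⟩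
      have hx : x ∈ B := h ▸ Set.mem_univ x
      have hy : y ∈ B := h ▸ Set.mem_univ y
      exact hx.symm.trans hy
  · intro hconn
    refine MulAction.IsPreprimitive.mk (fun {B} hB => ?_)
    by_cases hs : B.Subsingleton
    · exact Or.inl hs
    right
    obtain ⟨a, ha, b, hb, hab⟩ := Set.not_subsingleton_iff.1 hs
    rw [Set.eq_univ_iff_forall]
    intro x
    have step : ∀ u v : Ω, (Gr a b).Adj u v → u ∈ B → v ∈ B := by
      intro u v huv hu
      simp only [Gr, SimpleGraph.fromRel_adj] at huv
      open Pointwise in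
      have hs' : ∀ k : G, ∀ s t : Ω, s ∈ B → t ∈ B → k • s ∈ B → k • t ∈ B := by
        intro k s t hs ht hks
        have : k • B = B := (MulAction.isBlock_iff_smul_eq_of_nonempty.1 hB) ⟨k • s, ⟨s, hs, rfl⟩, hks⟩
        rw [← this]
        exact ⟨t, ht, rfl⟩
      rcases huv.2 with ⟨k, h1, h2⟩ | ⟨k, h1, h2⟩
      · exact h2 ▸ hs' k a b ha hb (h1 ▸ hu)
      · exact h1 ▸ hs' k b a hb ha (h2 ▸ hu)
    obtain ⟨w⟩ := (hconn a b hab).preconnected a x
    have hall : ∀ u v : Ω, (Gr a b).Walk u v → u ∈ B → v ∈ B := by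
      intro u v p
      induction p with
      | nil => exact id
      | cons h _ ih => exact fun hu => ih (step _ _ h hu)
    exact hall a x w ha

end Cfsg.Agent.S0734
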