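import Cfsg.Statements.S0735
-- import your own Cfsg.Agent.* helpers here

set_option autoImplicit false
open Cfsg

namespace Cfsg.Agent.S0735

/-- A 2-homogeneous permutation group (transitive on 2-subsets) of even order is doubly transitive; a non-trivial 2-homogeneous group is primitive. -/
theorem result {α : Type*} [Fintype α] [DecidableEq α] (G : Subgroup (Equiv.Perm α)) (h2 : MulAction.IsPretransitive G (Set.powersetCard α 2)) (hα : 3 ≤ Fintype.card α) : (Even (Nat.card G) → MulAction.IsMultiplyPretransitive G α 2) ∧ (G ≠ ⊥ → MulAction.IsPreprimitive G α) := by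
  classical
  open Pointwise in
  have key : ∀ a b c d : α, a ≠ b → c ≠ d → ∃ g : G, (g • a = c ∧ g • b = d) ∨ (g • a = d ∧ g • b = c) := by
    intro a b c d hab hcd
    obtain ⟨g, hg⟩ := MulAction.exists_smul_eq G
      (⟨{a, b}, Finset.card_pair hab⟩ : Set.powersetCard α 2) ⟨{c, d}, Finset.card_pair hcd⟩
    refine ⟨g, ?_⟩
    have h1 : g • ({a, b} : Finset α) = {c, d} := congrArg Subtype.val hg
    have ha : g • a ∈ ({c, d} : Finset α) := by
      rw [← h1]; exact Finset.smul_mem_smul_finset (by simp)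
    have hb : g • b ∈ ({c, d} : Finset α) := by
      rw [← h1]; exact Finset.smul_mem_smul_finset (by simp)
    have hne : g • a ≠ g • b := fun h => hab (MulAction.injective g h)
    simp only [Finset.mem_insert, Finset.mem_singleton] at ha hb
    rcases ha with ha | ha <;> rcases hb with hb | hb
    · exact absurd (ha.trans hb.symm) hne
    · exact Or.inl ⟨ha, hb⟩
    · exact Or.inr ⟨ha, hb⟩
    · exact absurd (ha.trans hb.symm) hne
  have third : ∀ a b : α, ∃ c, c ≠ a ∧ c ≠ b := by
    intro a b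
    have : ({a, b} : Finset α) ≠ Finset.univ := by
      intro h
      have h2 := congrArg Finset.card h
      have h3 : ({a, b} : Finset α).card ≤ 2 := Finset.card_le_two
      rw [Finset.card_univ] at h2
      omega
    obtain ⟨c, hc⟩ := not_forall.1 (mt Finset.eq_univ_iff_forall.2 this)
    simp only [Finset.mem_insert, Finset.mem_singleton, not_or] at hc
    exact ⟨c, hc⟩
  have hpre : MulAction.IsPretransitive G α := by
    refine ⟨fun a b => ?_⟩
    by_cases hab : a = b
    · exact ⟨1, by simp [hab]⟩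
    obtain ⟨c, hca, hcb⟩ := third a b
    obtain ⟨g, ⟨h1, h2⟩ | ⟨h1, h2⟩⟩ := key a c b c (Ne.symm hca) (Ne.symm hcb)
    · exact ⟨g, h1⟩
    · exact ⟨g * g, by rw [mul_smul, h1, h2]⟩
  refine ⟨fun heven => ?_, fun _ => ?_⟩
  · obtain ⟨g, hg⟩ := exists_prime_orderOf_dvd_card' (G := G) 2 (even_iff_two_dvd.1 heven)
    have hg1 : g ≠ 1 := by intro h; rw [h, orderOf_one] at hg; omega
    obtain ⟨a, ha⟩ : ∃ a : α, g • a ≠ a := by
      by_contra h; push Not at h
      exact hg1 (Subtype.ext (Equiv.Perm.ext fun x => h x))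
    have hsw : g • g • a = a := by
      rw [← mul_smul, ← pow_two, ← hg, pow_orderOf_eq_one, one_smul]
    have swapc : ∀ c d : α, c ≠ d → ∃ k : G, k • c = d ∧ k • d = c := by
      intro c d hcd
      obtain ⟨u, ⟨h1, h2⟩ | ⟨h1, h2⟩⟩ := key a (g • a) c d (Ne.symm ha) hcd
      all_goals refine ⟨u * g * u⁻¹, ?_, ?_⟩
      all_goals simp only [mul_smul]
      all_goals first
        | rw [inv_smul_eq_iff.2 h1.symm, h2]
        | rw [inv_smul_eq_iff.2 h2.symm, hsw, h1]
        | rw [inv_smul_eq_iff.2 h1.symm, hsw, h1]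
        | rw [inv_smul_eq_iff.2 h2.symm, hsw, h2]
    rw [MulAction.is_two_pretransitive_iff]
    intro a b c d hab hcd
    obtain ⟨u, h | h⟩ := key a b c d hab hcd
    · exact ⟨u, h⟩
    · obtain ⟨k, hk1, hk2⟩ := swapc c d hcd
      exact ⟨k * u, by rw [mul_smul, h.1, hk2], by rw [mul_smul, h.2, hk1]⟩
  · refine MulAction.IsPreprimitive.mk (fun {B} hB => ?_)
    by_cases hs : B.Subsingleton
    · exact Or.inl hs
    right
    obtain ⟨a, ha, b, hb, hab⟩ := Set.not_subsingleton_iff.1 hs
    rw [Set.eq_univ_iff_forall]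
    intro c
    by_cases hca : a = c
    · exact hca ▸ ha
    obtain ⟨g, h⟩ := key a b a c hab hca
    have hga : g • B = B := by
      refine (MulAction.isBlock_iff_smul_eq_or_disjoint.1 hB g).resolve_right ?_
      rw [Set.not_disjoint_iff]
      refine ⟨a, ?_, ha⟩
      rcases h with ⟨h1, h2⟩ | ⟨h1, h2⟩
      · exact ⟨a, ha, h1⟩
      · exact ⟨b, hb, h2⟩
    rw [← hga]
    rcases h with ⟨h1, h2⟩ | ⟨h1, h2⟩
    · exact ⟨b, hb, h2⟩
    · exact ⟨a, ha, h1⟩

end Cfsg.Agent.S0735
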