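import Cfsg.Statements.S0740
import Mathlib
-- import your own Cfsg.Agent.* helpers here

set_option autoImplicit false
open Cfsg

namespace Cfsg.Agent.S0740

/-- In a finite Zassenhaus group any two points `a ≠ b` are swapped by an involution; every such involution has exactly one fixed point when the degree is odd and 0 or 2 fixed points when the degree is even; and if the two-point stabiliser has even order, some such involution has exactly 2 fixed points. -/
theorem result {G Ω : Type*} [Group G] [Finite G] [MulAction G Ω] [Fintype Ω] (hZ : Cfsg.IsZassenhausGroup G Ω) {a b : Ω} (hab : a ≠ b) : (∃ s : G, orderOf s = 2 ∧ s • a = b ∧ s • b = a) ∧ (∀ s : G, orderOf s = 2 → s • a = b → s • b = a → (Odd (Fintype.card Ω) → Nat.card (MulAction.fixedBy Ω s) = 1) ∧ (Even (Fintype.card Ω) → Nat.card (MulAction.fixedBy Ω s) = 0 ∨ Nat.card (MulAction.fixedBy Ω s) = 2)) ∧ (Even (Fintype.card Ω) → Even (Nat.card ↥(MulAction.stabilizer G a ⊓ MulAction.stabilizer G b)) → ∃ s : G, orderOf s = 2 ∧ s • a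 = b ∧ s • b = a ∧ Nat.card (MulAction.fixedBy Ω s) = 2) := by
  classical
  obtain ⟨hf, h2, hfree, -, -⟩ := hZ
  rw [MulAction.is_two_pretransitive_iff] at h2
  have hconj : ∀ t : G, orderOf t = 2 → ∀ c d : Ω, c ≠ d → t • c = d → ∀ g : G, g • c = a → g • d = b →
      orderOf (g * t * g⁻¹) = 2 ∧ (g * t * g⁻¹) • a = b ∧ (g * t * g⁻¹) • b = a := by
    intro t ht c d hcd htc g hgc hgd
    have htd : t • d = c := by
      rw [← htc, ← mul_smul, ← sq, ← ht, pow_orderOf_eq_one, one_smul]
    refine ⟨by rw [← ht]; exact ((SemiconjBy.conj_mk g t).orderOf_eq g).symm, ?_, ?_⟩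
    · rw [mul_smul, mul_smul, inv_smul_eq_iff.2 hgc.symm, htc, hgd]
    · rw [mul_smul, mul_smul, inv_smul_eq_iff.2 hgd.symm, htd, hgc]
  have hmoves : ∀ t : G, orderOf t = 2 → ∃ c : Ω, t • c ≠ c := by
    intro t ht
    by_contra h
    push Not at h
    have h1 : t = 1 := eq_of_smul_eq_smul (α := Ω) fun x => by rw [h, one_smul]
    rw [h1, orderOf_one] at ht
    omega
  have hcount : ∀ s : G, orderOf s = 2 → Nat.card (MulAction.fixedBy Ω s) ≤ 2 ∧
      Fintype.card Ω ≡ Nat.card (MulAction.fixedBy Ω s) [MOD 2] := by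
    intro s hs
    constructor
    · by_contra h
      rw [Nat.card_eq_fintype_card, Fintype.card_subtype, not_le, Finset.two_lt_card] at h
      obtain ⟨x, hx, y, hy, z, hz, hxy, hxz, hyz⟩ := h
      simp only [Finset.mem_filter, Finset.mem_univ, true_and, MulAction.mem_fixedBy] at hx hy hz
      have h1 := hfree s x y z hxy hyz hxz hx hy hz
      rw [h1, orderOf_one] at hs
      omega
    · have hP : IsPGroup 2 (Subgroup.zpowers s) :=
        IsPGroup.of_card (n := 1) (by rw [Nat.card_zpowers, hs, pow_one])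
      have h1 := hP.card_modEq_card_fixedPoints Ω
      rw [Nat.card_eq_fintype_card] at h1
      have h3 : MulAction.fixedPoints (Subgroup.zpowers s) Ω = MulAction.fixedBy Ω s := by
        ext x
        constructor
        · exact fun hx => hx ⟨s, Subgroup.mem_zpowers s⟩
        · rintro hx ⟨u, hu⟩
          have h4 : Subgroup.zpowers s ≤ MulAction.stabilizer G x := Subgroup.zpowers_le.2 hx
          exact h4 hu
      rw [h3] at h1
      exact h1
  refine ⟨?_, ?_, ?_⟩
  · obtain ⟨g, hga, -⟩ := h2 hab hab.symm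
    have h2' : 2 ∣ Nat.card G := by
      obtain ⟨g, hga, hgb⟩ := h2 hab hab.symm
      by_contra hodd
      have h5 : Odd (orderOf g) := by
        rw [← Nat.not_even_iff_odd, even_iff_two_dvd]
        exact fun h => hodd (h.trans (orderOf_dvd_natCard g))
      obtain ⟨r, hr⟩ := h5
      have hsq : g ^ 2 • a = a := by rw [sq, mul_smul, hga, hgb]
      have h6 : ∀ j : ℕ, (g ^ 2) ^ j • a = a := fun j => by
        induction j with
        | zero => simp
        | succ j ih => rw [pow_succ, mul_smul, hsq, ih]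
      have h7 : g ^ (2 * r + 1) • a = b := by rw [pow_succ', pow_mul, mul_smul, h6, hga]
      rw [← hr, pow_orderOf_eq_one, one_smul] at h7
      exact hab h7
    obtain ⟨t, ht⟩ := exists_prime_orderOf_dvd_card' 2 h2'
    obtain ⟨c, hc⟩ := hmoves t ht
    obtain ⟨k, hkc, hkd⟩ := h2 (fun h => hc h.symm) hab
    exact ⟨_, hconj t ht c _ (fun h => hc h.symm) rfl k hkc hkd⟩
  · intro s hs _ _
    obtain ⟨hle, hmod⟩ := hcount s hs
    unfold Nat.ModEq at hmod
    refine ⟨fun ho => ?_, fun he => ?_⟩
    · rw [Nat.odd_iff] at ho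
      omega
    · rw [Nat.even_iff] at he
      omega
  · intro he hH
    obtain ⟨t, ht⟩ := exists_prime_orderOf_dvd_card'
      (G := (MulAction.stabilizer G a ⊓ MulAction.stabilizer G b : Subgroup G)) 2 hH.two_dvd
    have ht' : orderOf (t : G) = 2 := by rw [Subgroup.orderOf_coe, ht]
    obtain ⟨c, hc⟩ := hmoves t ht'
    obtain ⟨k, hkc, hkd⟩ := h2 (fun h => hc h.symm) hab
    obtain ⟨h1, h3, h4⟩ := hconj t ht' c _ (fun h => hc h.symm) rfl k hkc hkd
    refine ⟨_, h1, h3, h4, ?_⟩
    obtain ⟨hle, -⟩ := hcount _ h1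
    refine le_antisymm hle ?_
    have h5 : ∀ z, (t : G) • z = z → k • z ∈ MulAction.fixedBy Ω (k * t * k⁻¹) := fun z hz => by
      rw [MulAction.mem_fixedBy, mul_smul, mul_smul, inv_smul_smul, hz]
    have : Nontrivial (MulAction.fixedBy Ω (k * (t : G) * k⁻¹)) :=
      ⟨⟨k • a, h5 a t.2.1⟩, ⟨k • b, h5 b t.2.2⟩,
        fun h => hab (smul_left_cancel k (congrArg Subtype.val h))⟩
    exact Finite.one_lt_card

end Cfsg.Agent.S0740
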