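import Cfsg.Statements.S0741
import Mathlib
import Cfsg.Agent.Lib.Block.Zas.Involution
import Cfsg.Agent.Lib.Block.Zas.Setup
-- import your own Cfsg.Agent.* helpers here

set_option autoImplicit false
open Cfsg

namespace Cfsg.Agent.S0741

/-- If the two-point stabilisers of a finite Zassenhaus group of degree `n + 1` have even order `d`, then `2d ≥ n - 1`. -/
theorem result {G Ω : Type*} [Group G] [Finite G] [MulAction G Ω] [Fintype Ω] (hZ : Cfsg.IsZassenhausGroup G Ω) {a b : Ω} (hab : a ≠ b) (heven : Even (Nat.card ↥(MulAction.stabilizer G a ⊓ MulAction.stabilizer G b))) : Fintype.card Ω - 2 ≤ 2 * Nat.card ↥(MulAction.stabilizer G a ⊓ MulAction.stabilizer G b) := by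
  obtain ⟨D, ha, hb⟩ := Cfsg.Agent.Block.Zas.frame_of_zassenhaus hZ hab
  have h := D.half_of_even (D.two_le_F hZ) (show Even (Nat.card ↥(MulAction.stabilizer G D.a ⊓ MulAction.stabilizer G D.b)) by rw [ha, hb]; exact heven)
  have hc := D.card_points
  rw [Nat.card_eq_fintype_card] at hc
  have e : Nat.card D.H = Nat.card ↥(MulAction.stabilizer G a ⊓ MulAction.stabilizer G b) := by
    show Nat.card ↥(MulAction.stabilizer G D.a ⊓ MulAction.stabilizer G D.b) = _
    rw [ha, hb]
  omega

end Cfsg.Agent.S0741
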