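import Cfsg.Statements.S0742
import Mathlib
import Cfsg.Agent.Lib.Block.Zas.Setup
import Cfsg.Agent.Lib.Block.Zas.Half
-- import your own Cfsg.Agent.* helpers here

set_option autoImplicit false
open Cfsg

namespace Cfsg.Agent.S0742

/-- A finite Zassenhaus group of degree `n + 1` with two-point stabilisers of even order `d` satisfying `2d ≤ n - 1` has `n = p^f` for an odd prime `p` and is isomorphic to `PSL(2, p^f)`. -/
theorem result {G Ω : Type*} [Group G] [Finite G] [MulAction G Ω] [Fintype Ω] (hZ : Cfsg.IsZassenhausGroup G Ω) {a b : Ω} (hab : a ≠ b) (heven : Even (Nat.card ↥(MulAction.stabilizer G a ⊓ MulAction.stabilizer G b))) (hd : 2 * Nat.card ↥(MulAction.stabilizer G a ⊓ MulAction.stabilizer G b) ≤ Fintype.card Ω - 2) : ∃ (p f : ℕ) (K : Type) (_ : Field K) (_ : Fintype K), p.Prime ∧ p ≠ 2 ∧ Fintype.card K = p ^ f ∧ Fintype.card Ω = p ^ f + 1 ∧ Nonempty (G ≃* Matrix.ProjectiveSpecialLinearGroup (Fin 2) K) := by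
  classical
  obtain ⟨D, rfl, rfl⟩ := Agent.Block.Zas.frame_of_zassenhaus hZ hab
  have he : Even (Nat.card D.H) := heven
  have hn := D.two_le_F hZ
  have hc := D.card_points
  rw [Nat.card_eq_fintype_card] at hc
  have hd' : 2 * Nat.card D.H ≤ Fintype.card Ω - 2 := hd
  have h1 := D.half_of_even hn he
  have hhalf : 2 * Nat.card D.H = Nat.card D.F - 1 := by omega
  have hinv : ∀ s : G, s • D.a = D.b → s • D.b = D.a → ∀ h ∈ D.H, s * h * s⁻¹ = h⁻¹ :=
    fun s hsa hsb h hh => D.inversion_of_swaps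
      (fun g ga gb => D.swaps_involutions_of_even hn he hhalf ga gb) hsa hsb hh
  obtain ⟨K, i1, i2, hK, hcard, hiso⟩ := D.iso_psl_of_half hn (D.H_ne_bot hZ) hhalf hinv
  haveI : CharP K (ringChar K) := ringChar.charP K
  haveI hp := Fact.mk (CharP.char_is_prime K (ringChar K))
  obtain ⟨f, hp', hf⟩ := FiniteField.card K (ringChar K)
  exact ⟨ringChar K, f, K, i1, i2, hp', hK, hf, by omega, hiso⟩

end Cfsg.Agent.S0742
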