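import Cfsg.Statements.S0752
import Mathlib
import Cfsg.Agent.Lib.Classical.QuadClass


set_option autoImplicit false
open Cfsg

namespace Cfsg.Agent.S0752


/-- Classification of alternating forms: for an alternating bilinear form B on a finite-dimensional space over any field there is a basis indexed by (Fin m ⊕ Fin m) ⊕ Fin k such that B (e_i, f_j) = δ_ij, the e's are pairwise orthogonal, the f's are pairwise orthogonal, and the last k basis vectors are orthogonal to everything (they span the radical). -/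
theorem result {F V : Type*} [Field F] [AddCommGroup V] [Module F V] [FiniteDimensional F V] (B : LinearMap.BilinForm F V) (hA : B.IsAlt) : ∃ (m k : ℕ) (b : Module.Basis ((Fin m ⊕ Fin m) ⊕ Fin k) F V), (∀ i j : Fin m, B (b (Sum.inl (Sum.inl i))) (b (Sum.inl (Sum.inr j))) = if i = j then 1 else 0) ∧ (∀ i j : Fin m, B (b (Sum.inl (Sum.inl i))) (b (Sum.inl (Sum.inl j))) = 0) ∧ (∀ i j : Fin m, B (b (Sum.inl (Sum.inr i))) (b (Sum.inl (Sum.inr j))) = 0) ∧ (∀ (j : Fin k) (v : V), B (b (Sum.inr j)) v = 0) := by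
  obtain ⟨m, k, e, f, r, hmk, -, -, hEF, hEE, hFF, hrad, hspan⟩ :=
    Cfsg.Agent.Classical.exists_symplectic_family B hA _ ⊤ rfl
  let v : (Fin m ⊕ Fin m) ⊕ Fin k → V := Sum.elim (Sum.elim e f) r
  have hsp : ⊤ ≤ Submodule.span F (Set.range v) := by
    refine hspan.trans (Submodule.span_mono ?_)
    rintro x ((⟨i, rfl⟩ | ⟨i, rfl⟩) | ⟨i, rfl⟩)
    · exact ⟨Sum.inl (Sum.inl i), rfl⟩
    · exact ⟨Sum.inl (Sum.inr i), rfl⟩
    · exact ⟨Sum.inr i, rfl⟩
  have hc : Fintype.card ((Fin m ⊕ Fin m) ⊕ Fin k) = Module.finrank F V := by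
    rw [finrank_top] at hmk
    simp only [Fintype.card_sum, Fintype.card_fin]; omega
  refine ⟨m, k, basisOfTopLeSpanOfCardEqFinrank v hsp hc, ?_⟩
  rw [coe_basisOfTopLeSpanOfCardEqFinrank]
  exact ⟨hEF, hEE, hFF, fun j u => hrad j u trivial⟩

end Cfsg.Agent.S0752
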