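import Cfsg.Statements.S0754
import Mathlib


set_option autoImplicit false
open Cfsg

namespace Cfsg.Agent.S0754


/-- In a field F with q^2 elements, every non-zero μ with μ^q = μ (that is, μ in the subfield of order q) has exactly q + 1 solutions λ of λ^(q+1) = μ. -/
theorem result {F : Type*} [Field F] [Fintype F] {q : ℕ} (hF : Fintype.card F = q ^ 2) (μ : F) (hμ : μ ≠ 0) (hμq : μ ^ q = μ) : Nat.card {x : F // x ^ (q + 1) = μ} = q + 1 := by
  classical
  have hu : Nat.card {x : F // x ^ (q + 1) = μ} = Nat.card {x : Fˣ // x ^ (q + 1) = Units.mk0 μ hμ} := by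
    refine Nat.card_congr
      { toFun := fun x => ⟨Units.mk0 x.1 (fun h => hμ (by rw [← x.2, h, zero_pow]; omega)),
          Units.ext (by simpa using x.2)⟩
        invFun := fun x => ⟨(x.1 : F), by simpa [Units.ext_iff] using x.2⟩
        left_inv := fun x => rfl
        right_inv := fun x => by simp }
  rw [hu]
  have hq : 2 ≤ q := by
    by_contra h
    have h1 := Fintype.one_lt_card (α := F)
    have : q ^ 2 ≤ 1 ^ 2 := Nat.pow_le_pow_left (by omega) 2
    omega
  let f : Fˣ →* Fˣ := powMonoidHom (q + 1)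
  let g : Fˣ →* Fˣ := powMonoidHom (q - 1)
  have hcard : Nat.card Fˣ = (q + 1) * (q - 1) := by
    rw [Nat.card_units, Nat.card_eq_fintype_card, hF, ← Nat.sq_sub_sq, one_pow]
  have hfk : Nat.card f.ker = q + 1 := by
    rw [IsCyclic.card_powMonoidHom_ker, hcard, Nat.gcd_mul_right_left]
  have hgk : Nat.card g.ker = q - 1 := by
    rw [IsCyclic.card_powMonoidHom_ker, hcard, Nat.gcd_mul_left_left]
  have hle : f.range ≤ g.ker := by
    rintro _ ⟨x, rfl⟩
    rw [MonoidHom.mem_ker]
    show (x ^ (q + 1)) ^ (q - 1) = 1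
    rw [← pow_mul, ← hcard, pow_card_eq_one']
  have hr : Nat.card f.range = q - 1 := by
    have h := f.ker.card_eq_card_quotient_mul_card_subgroup
    rw [hcard, hfk, Nat.card_congr (QuotientGroup.quotientKerEquivRange f).toEquiv, mul_comm] at h
    exact (Nat.eq_of_mul_eq_mul_right (by omega) h).symm
  have heq := Subgroup.eq_of_le_of_card_ge hle (by omega)
  have hmem : Units.mk0 μ hμ ∈ g.ker := by
    rw [MonoidHom.mem_ker]
    refine Units.ext ?_
    show μ ^ (q - 1) = 1
    refine mul_right_cancel₀ hμ ?_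
    rw [one_mul, ← pow_succ, Nat.sub_add_cancel (by omega), hμq]
  rw [← heq] at hmem
  obtain ⟨x0, hx0⟩ := hmem
  let eqv : {x : Fˣ // x ^ (q + 1) = Units.mk0 μ hμ} ≃ f.ker :=
    { toFun := fun x => ⟨x0⁻¹ * x.1, by
        rw [MonoidHom.mem_ker, map_mul, map_inv, hx0]
        show (Units.mk0 μ hμ)⁻¹ * x.1 ^ (q + 1) = 1
        rw [x.2, inv_mul_cancel]⟩
      invFun := fun k => ⟨x0 * k.1, by
        show f (x0 * k.1) = _
        rw [map_mul, MonoidHom.mem_ker.1 k.2, mul_one, hx0]⟩
      left_inv := fun x => by simp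
      right_inv := fun k => by simp }
  exact (Nat.card_congr eqv).trans hfk

end Cfsg.Agent.S0754
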