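import Cfsg.Statements.S0755
import Mathlib
import Cfsg.Agent.Lib.Classical.QuadClass


set_option autoImplicit false
open Cfsg

namespace Cfsg.Agent.S0755


/-- Classification of Hermitian forms over finite fields: if σ is a non-identity involutive automorphism of the finite field F and B is a non-degenerate conjugate-symmetric σ-sesquilinear form on the finite-dimensional space V, then V has a B-orthonormal basis. -/
theorem result {F V : Type*} [Field F] [Finite F] [AddCommGroup V] [Module F V] [FiniteDimensional F V] (σ : F →+* F) (hσ : σ ≠ RingHom.id F) (hσ2 : ∀ a : F, σ (σ a) = a) (B : V →ₛₗ[σ] V →ₗ[F] F) (hS : B.IsSymm) (hB : B.Nondegenerate) : ∃ b : Module.Basis (Fin (Module.finrank F V)) F V, ∀ i j, B (b i) (b j) = if i = j then 1 else 0 := by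
  obtain ⟨b, -, hb⟩ := Cfsg.Agent.Classical.exists_orthonormal_family_herm B hσ hσ2 hS _ ⊤
    (fun w _ hw => by
      by_contra hcon
      push Not at hcon
      exact hw (hB.1 w fun u => hcon u trivial)) (finrank_top F V)
  have hli : LinearIndependent F b := Cfsg.Agent.Classical.linearIndependent_of_orth b (fun i => B (b i))
    (fun i j h => by simp [hb, h]) (fun i => by simp [hb])
  rcases Nat.eq_zero_or_pos (Module.finrank F V) with h | h
  · exact ⟨Module.finBasis F V, fun i => absurd i.2 (by omega)⟩
  · have : Nonempty (Fin (Module.finrank F V)) := ⟨⟨0, h⟩⟩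
    refine ⟨basisOfLinearIndependentOfCardEqFinrank hli (Fintype.card_fin _), ?_⟩
    rw [coe_basisOfLinearIndependentOfCardEqFinrank]; exact hb

end Cfsg.Agent.S0755
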