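import Cfsg.Statements.S0756
import Mathlib
import Cfsg.Agent.Lib.Classical.QuadClass


set_option autoImplicit false
open Cfsg

namespace Cfsg.Agent.S0756


/-- Classification of symmetric bilinear forms over finite fields of odd characteristic: if B is non-degenerate symmetric on V of dimension n + 1 and α is a fixed non-square of F, there is an orthogonal basis b_0, ..., b_n with B(b_i, b_i) = 1 for i < n and B(b_n, b_n) ∈ {1, α}. -/
theorem result {F V : Type*} [Field F] [Finite F] [AddCommGroup V] [Module F V] [FiniteDimensional F V] (h2 : (2 : F) ≠ 0) (B : LinearMap.BilinForm F V) (hS : B.IsSymm) (hB : B.Nondegenerate) {n : ℕ} (hn : Module.finrank F V = n + 1) (α : F) (hα : ¬ IsSquare α) : ∃ b : Module.Basis (Fin (n + 1)) F V, (∀ i j, i ≠ j → B (b i) (b j) = 0) ∧ (∀ i, i ≠ Fin.last n → B (b i) (b i) = 1) ∧ (B (b (Fin.last n)) (b (Fin.last n)) = 1 ∨ B (b (Fin.last n)) (b (Fin.last n)) = α) := by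
  have := Fintype.ofFinite F
  obtain ⟨b, d, hd, ho, h1, hl⟩ := Cfsg.Agent.Classical.exists_diag_basis B h2 hS hB hn
  have hα0 : α ≠ 0 := fun h => hα (h ▸ IsSquare.zero)
  obtain ⟨s, hs0, hs⟩ : ∃ s : F, s ≠ 0 ∧ (s * s * d = 1 ∨ s * s * d = α) := by
    by_cases hq : IsSquare d
    · obtain ⟨t, rfl⟩ := hq
      have : t ≠ 0 := by rintro rfl; simp at hd
      exact ⟨t⁻¹, inv_ne_zero this, Or.inl (by field_simp)⟩
    · obtain ⟨t, ht⟩ := Cfsg.Agent.Classical.isSquare_of_two_nonsquares h2 hq hα
      have : t ≠ 0 := fun h => by rw [h, mul_zero] at ht; exact mul_ne_zero hd hα0 ht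
      exact ⟨α / t, div_ne_zero hα0 this, Or.inr (by field_simp; linear_combination ht)⟩
  classical
  refine ⟨b.unitsSMul (fun i => if i = Fin.last n then Units.mk0 s hs0 else 1), ?_, ?_, ?_⟩
  · intro i j hij
    simp [Module.Basis.unitsSMul_apply, Units.smul_def]
    split_ifs <;> simp [ho i j hij]
  · intro i hi
    simp [Module.Basis.unitsSMul_apply, hi, h1 i hi]
  · simp [Module.Basis.unitsSMul_apply, Units.smul_def, hl, ← mul_assoc, hs]

end Cfsg.Agent.S0756
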