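import Cfsg.Statements.S0757
import Mathlib


set_option autoImplicit false
open Cfsg

namespace Cfsg.Agent.S0757


/-- The two diagonal forms Σ x_i^2 and Σ_(i<n) x_i^2 + α x_n^2 on F^(n+1), with α a non-square and 2 ≠ 0 in F, are inequivalent quadratic forms (so over a finite field of odd order there are exactly two classes of non-singular symmetric bilinear forms in each dimension). -/
theorem result {F : Type*} [Field F] (h2 : (2 : F) ≠ 0) (n : ℕ) (α : F) (hα : ¬ IsSquare α) : ¬ (QuadraticMap.weightedSumSquares F (fun _ : Fin (n + 1) => (1 : F))).Equivalent (QuadraticMap.weightedSumSquares F (fun i : Fin (n + 1) => if i = Fin.last n then α else (1 : F))) := by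
  classical
  rintro ⟨e⟩
  have : Invertible (2 : F) := invertibleOfNonzero h2
  set w : Fin (n + 1) → F := fun i => if i = Fin.last n then α else 1
  set M : Matrix (Fin (n + 1)) (Fin (n + 1)) F :=
    LinearMap.toMatrix' (e.toLinearEquiv : (Fin (n + 1) → F) →ₗ[F] (Fin (n + 1) → F))
  have hpol : ∀ (u : Fin (n + 1) → F) x y,
      QuadraticMap.polar (⇑(QuadraticMap.weightedSumSquares F u)) x y = ∑ i, u i * (2 * (x i * y i)) := by
    intro u x y
    simp only [QuadraticMap.polar, QuadraticMap.weightedSumSquares_apply, Pi.add_apply, smul_eq_mul,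
      ← Finset.sum_sub_distrib]
    exact Finset.sum_congr rfl fun i _ => by ring
  have key : M.transpose * Matrix.diagonal w * M = 1 := by
    ext i j
    have h := hpol w (e (Pi.single i 1)) (e (Pi.single j 1))
    rw [QuadraticMap.polar, ← map_add, e.map_app, e.map_app, e.map_app] at h
    have h' := hpol (fun _ => (1 : F)) (Pi.single i 1) (Pi.single j 1)
    rw [QuadraticMap.polar] at h'
    rw [h'] at h
    have e1 : (M.transpose * Matrix.diagonal w * M) i j
        = ∑ k, w k * ((e (Pi.single i 1)) k * (e (Pi.single j 1)) k) := by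
      rw [Matrix.mul_apply]
      refine Finset.sum_congr rfl fun k _ => ?_
      rw [Matrix.mul_diagonal, Matrix.transpose_apply]
      simp [M, LinearMap.toMatrix'_apply]; ring
    rw [e1]
    have h'' : ∑ k, w k * (2 * ((e (Pi.single i 1)) k * (e (Pi.single j 1)) k)) =
        2 * ∑ k, w k * ((e (Pi.single i 1)) k * (e (Pi.single j 1)) k) := by
      rw [Finset.mul_sum]; exact Finset.sum_congr rfl fun k _ => by ring
    rw [h''] at h
    refine mul_left_cancel₀ h2 (h.symm.trans ?_)
    simp [Matrix.one_apply, Pi.single_apply, eq_comm]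
  have hd := congrArg Matrix.det key
  rw [Matrix.det_mul, Matrix.det_mul, Matrix.det_transpose, Matrix.det_diagonal, Matrix.det_one] at hd
  simp [w, Finset.prod_ite_eq'] at hd
  have hM : M.det ≠ 0 := by rintro h; rw [h] at hd; simp at hd
  exact hα ⟨M.det⁻¹, by field_simp; linear_combination hd⟩

end Cfsg.Agent.S0757
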