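import Cfsg.Statements.S0758
import Mathlib


set_option autoImplicit false
open Cfsg

namespace Cfsg.Agent.S0758


/-- For a finite field F of odd order q and a non-square α: the form x² + y² is isotropic iff q ≡ 1 mod 4, and the form x² + α y² is isotropic iff q ≡ 3 mod 4. -/
theorem result {F : Type*} [Field F] [Fintype F] (h2 : (2 : F) ≠ 0) (α : F) (hα : ¬ IsSquare α) : ((∃ x y : F, (x ≠ 0 ∨ y ≠ 0) ∧ x ^ 2 + y ^ 2 = 0) ↔ Fintype.card F % 4 = 1) ∧ ((∃ x y : F, (x ≠ 0 ∨ y ≠ 0) ∧ x ^ 2 + α * y ^ 2 = 0) ↔ Fintype.card F % 4 = 3) := by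
  classical
  have hc : ringChar F ≠ 2 := fun h => h2 (by
    have := ringChar.spec F 2
    exact_mod_cast this.2 (by rw [h]))
  have hodd : Fintype.card F % 2 = 1 := FiniteField.odd_card_of_char_ne_two hc
  have key : ∀ β : F, β ≠ 0 → ((∃ x y : F, (x ≠ 0 ∨ y ≠ 0) ∧ x ^ 2 + β * y ^ 2 = 0) ↔ IsSquare (-β)) := by
    intro β hβ
    constructor
    · rintro ⟨x, y, hxy, h⟩
      have hy : y ≠ 0 := by
        rintro rfl
        simp at h hxy
        exact hxy h
      exact ⟨x / y, by field_simp; linear_combination -h⟩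
    · rintro ⟨s, hs⟩
      exact ⟨s, 1, Or.inr one_ne_zero, by linear_combination -hs⟩
  have h1 : IsSquare (-1 : F) ↔ Fintype.card F % 4 = 1 := by
    rw [FiniteField.isSquare_neg_one_iff]; omega
  have hα0 : α ≠ 0 := fun h => hα (h ▸ IsSquare.zero)
  constructor
  · have := key 1 one_ne_zero
    simpa [h1] using this
  · rw [key α hα0]
    have hmul : IsSquare (-α) ↔ ¬ IsSquare (-1 : F) := by
      constructor
      · rintro h h'
        exact hα (by simpa using h.mul h')
      · intro h
        have hq := fun a ha => quadraticChar_neg_one_iff_not_isSquare (F := F) (a := a) |>.2 ha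
        have hh : quadraticChar F (-α) = 1 := by
          rw [show -α = (-1) * α by ring, map_mul, hq _ h, hq _ hα]; norm_num
        exact (quadraticChar_one_iff_isSquare (neg_ne_zero.2 hα0)).1 hh
    rw [hmul, h1]; omega

end Cfsg.Agent.S0758
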