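import Cfsg.Statements.S0759
import Mathlib
import Cfsg.Agent.Lib.Classical.QuadModels


set_option autoImplicit false
open Cfsg

namespace Cfsg.Agent.S0759
theorem isSquare_neg_one_pow_iff {F : Type*} [Field F] [Fintype F] (h2 : (2 : F) ≠ 0) (m : ℕ) :
    IsSquare ((-1 : F) ^ m) ↔ ¬ (Fintype.card F % 4 = 3 ∧ Odd m) := by
  rcases Nat.even_or_odd m with h | h
  · rw [h.neg_one_pow]
    simp [Nat.not_odd_iff_even.2 h]
  · rw [h.neg_one_pow, FiniteField.isSquare_neg_one_iff]
    simp [h]

theorem card_odd {F : Type*} [Field F] [Fintype F] (h2 : (2 : F) ≠ 0) : Fintype.card F % 2 = 1 :=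
  FiniteField.odd_card_of_char_ne_two fun hc => h2 (by
    exact_mod_cast (ringChar.spec F 2).2 (by rw [hc]))


/-- Type of the orthonormal form: over a finite field of odd order q and for m ≥ 1, the quadratic form Σ_(i<2m) x_i² on F^(2m) admits an m-dimensional subspace on which it vanishes identically if and only if it is not the case that q ≡ 3 (mod 4) and m is odd. -/
theorem result {F : Type*} [Field F] [Fintype F] (h2 : (2 : F) ≠ 0) (m : ℕ) (hm : 1 ≤ m) : (∃ W : Submodule F (Fin (2 * m) → F), Module.finrank F W = m ∧ ∀ w ∈ W, ∑ i, w i ^ 2 = 0) ↔ ¬ (Fintype.card F % 4 = 3 ∧ Odd m) := by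
  classical
  let Q : QuadraticForm F (Fin (2 * m) → F) :=
    QuadraticMap.weightedSumSquares F (fun _ : Fin (2 * m) => (1 : F))
  have hQa : ∀ w, Q w = ∑ i, w i ^ 2 := fun w => by
    simp [Q, QuadraticMap.weightedSumSquares_apply, sq]
  have hpol : ∀ u v, QuadraticMap.polar ⇑Q u v = ∑ i, 2 * (u i * v i) := fun u v => by
    simp only [QuadraticMap.polar, hQa, Pi.add_apply, ← Finset.sum_sub_distrib]
    exact Finset.sum_congr rfl fun i _ => by ring
  have hnd : (QuadraticMap.polarBilin Q).Nondegenerate := by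
    refine Cfsg.Agent.Classical.nondegenerate_of_separatingLeft Q fun u hu => funext fun i => ?_
    have h := hu (Pi.single i 1)
    rw [QuadraticMap.polarBilin_apply_apply, hpol, Finset.sum_eq_single i
      (fun j _ hj => by simp [hj]) (by simp)] at h
    simpa [h2] using h
  have hV : Module.finrank F (Fin (2 * m) → F) = 2 * m := Module.finrank_fin_fun F
  have hg : Cfsg.Agent.Classical.gramDet (QuadraticMap.polarBilin Q) (Pi.basisFun F (Fin (2 * m)))
      = (2 ^ m) ^ 2 := by
    have hm : LinearMap.BilinForm.toMatrix (Pi.basisFun F (Fin (2 * m))) (QuadraticMap.polarBilin Q) =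
        (2 : F) • 1 := by
      ext i j
      rw [LinearMap.BilinForm.toMatrix_apply, QuadraticMap.polarBilin_apply_apply, hpol]
      simp [Pi.single_apply, Matrix.one_apply, eq_comm]
    rw [Cfsg.Agent.Classical.gramDet, hm, Matrix.det_smul, Fintype.card_fin, Matrix.det_one, mul_one,
      ← pow_mul, mul_comm]
  have hiso : IsSquare ((-1 : F) ^ m) ↔
      ∃ g : (Fin (2 * m) → F) ≃ₗ[F] (Fin m ⊕ Fin m → F),
        ∀ v, Cfsg.Agent.Classical.qfPlus m F (g v) = Q v := by
    rw [Cfsg.Agent.Classical.isometric_iff_disc h2 hnd (Cfsg.Agent.Classical.nondegenerate_qfPlus m)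
      (Pi.basisFun F (Fin (2 * m))) (Pi.basisFun F (Fin m ⊕ Fin m)) (by simp; ring), hg,
      Cfsg.Agent.Classical.gramDet_qfPlus,
      Cfsg.Agent.Classical.isSquare_mul_sq (pow_ne_zero _ h2)]
  rw [← isSquare_neg_one_pow_iff h2, hiso]
  constructor
  · rintro ⟨W, hW, hW0⟩
    rcases Cfsg.Agent.Classical.exists_even_basis hV Q hnd with
      ⟨b, hq, hEF, hEE⟩ | ⟨-, b, ζ, hζ, hq, hEF, hEE, hER, hx, hxy, hy⟩
    · obtain ⟨g, hg⟩ := Cfsg.Agent.Classical.exists_isometry_of_bases
        (Q := Cfsg.Agent.Classical.qfPlus m F) (Q' := Q) (Pi.basisFun F (Fin m ⊕ Fin m)) b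
        (fun i => by
          rcases i with i | i <;>
            simp [hq, Cfsg.Agent.Classical.qfPlus_apply, quadFormPlus])
        (fun i j => by
          rcases i with i | i <;> rcases j with j | j <;>
            simp [hEF, hEE, QuadraticMap.polar_comm (⇑Q) (b (Sum.inr _)) (b (Sum.inl _)),
              Cfsg.Agent.Classical.polar_qfPlus, Pi.single_apply, eq_comm])
      exact ⟨g.symm, fun v => by rw [← hg (g.symm v), g.apply_symm_apply]⟩
    · exfalso
      obtain ⟨k, rfl⟩ : ∃ k, m = k + 1 := ⟨m - 1, by omega⟩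
      revert b
      rw [Nat.add_sub_cancel]
      intro b hq hEF hEE hER hx hxy hy
      have hab : ∀ z₁ z₂ : F, z₁ ^ 2 + 1 * z₁ * z₂ + ζ * z₂ ^ 2 = 0 → z₁ = 0 ∧ z₂ = 0 := by
        intro z₁ z₂ h
        by_cases hz : z₂ = 0
        · subst hz
          exact ⟨eq_zero_of_pow_eq_zero (n := 2) (by linear_combination h), rfl⟩
        · exfalso
          exact hζ (z₁ / z₂) (by field_simp; linear_combination h)
      have hxx : QuadraticMap.polar ⇑Q (b (Sum.inr 0)) (b (Sum.inr 0)) = 2 := by
        rw [QuadraticMap.polar_self, hx]; simp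
      have hyy : QuadraticMap.polar ⇑Q (b (Sum.inr 1)) (b (Sum.inr 1)) = 2 * ζ := by
        rw [QuadraticMap.polar_self, hy]; simp
      obtain ⟨g, hg⟩ := Cfsg.Agent.Classical.exists_isometry_of_bases
        (Q := Q) (Q' := Cfsg.Agent.Classical.qfMinus k F 1 ζ) b
        (Pi.basisFun F ((Fin k ⊕ Fin k) ⊕ Fin 2))
        (fun i => by
          rcases i with (i | i) | i
          · simp [hq, Cfsg.Agent.Classical.qfMinus_apply, quadFormMinus]
          · simp [hq, Cfsg.Agent.Classical.qfMinus_apply, quadFormMinus]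
          · fin_cases i <;> simp [hx, hy, Cfsg.Agent.Classical.qfMinus_apply, quadFormMinus])
        (fun i j => by
          have hyx : QuadraticMap.polar ⇑Q (b (Sum.inr 1)) (b (Sum.inr 0)) = 1 := by
            rw [QuadraticMap.polar_comm]; exact hxy
          rcases i with (i | i) | i <;> rcases j with (j | j) | j <;>
            (try fin_cases i) <;> (try fin_cases j) <;>
            simp [hEF, hEE, hER, hxy, hyx, hxx, hyy,
              QuadraticMap.polar_comm (⇑Q) (b (Sum.inl (Sum.inr _))) (b (Sum.inl (Sum.inl _))),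
              QuadraticMap.polar_comm (⇑Q) (b (Sum.inr _)) (b (Sum.inl _)),
              Cfsg.Agent.Classical.polar_qfMinus, Cfsg.Agent.Classical.qfMinus_apply, quadFormMinus,
              Pi.single_apply, eq_comm])
      have h := Cfsg.Agent.Classical.singular_finrank_le_minus k hab (W.map (g : _ →ₗ[F] _)) (by
        rintro _ ⟨u, hu, rfl⟩
        exact (hg u).trans ((hQa u).trans (hW0 u hu)))
      rw [LinearEquiv.finrank_map_eq, hW] at h
      omega
  · rintro ⟨g, hg⟩
    obtain ⟨U, hU, hUr⟩ := Cfsg.Agent.Classical.exists_singular_plus (F := F) m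
    refine ⟨U.map (g.symm : _ →ₗ[F] _), by rw [LinearEquiv.finrank_map_eq, hUr], ?_⟩
    rintro _ ⟨u, hu, rfl⟩
    rw [← hQa, ← hg]
    show Cfsg.Agent.Classical.qfPlus m F (g (g.symm u)) = 0
    rw [g.apply_symm_apply]; exact hU u hu

end Cfsg.Agent.S0759
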