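import Cfsg.Statements.S0760
import Mathlib
import Cfsg.Agent.Lib.Classical.Witt


set_option autoImplicit false
open Cfsg

namespace Cfsg.Agent.S0760


/-- Witt index is well defined: if Q is a quadratic form on a finite-dimensional space V over a finite field with non-degenerate polar form, and W₁, W₂ are subspaces on which Q vanishes that are maximal with this property, then W₁ and W₂ have the same dimension, and twice this dimension is at most dim V. -/
theorem result {F V : Type*} [Field F] [Finite F] [AddCommGroup V] [Module F V] [FiniteDimensional F V] (Q : QuadraticForm F V) (hQ : (QuadraticMap.polarBilin Q).Nondegenerate) (W₁ W₂ : Submodule F V) (h₁ : ∀ w ∈ W₁, Q w = 0) (h₂ : ∀ w ∈ W₂, Q w = 0) (hmax₁ : ∀ W : Submodule F V, W₁ ≤ W → (∀ w ∈ W, Q w = 0) → W = W₁) (hmax₂ : ∀ W : Submodule F V, W₂ ≤ W → (∀ w ∈ W, Q w = 0) → W = W₂) : Module.finrank F W₁ = Module.finrank F W₂ ∧ 2 * Module.finrank F W₁ ≤ Module.finrank F V := by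
  have key : ∀ A C : Submodule F V, (∀ w ∈ A, Q w = 0) → (∀ w ∈ C, Q w = 0) →
      (∀ W : Submodule F V, A ≤ W → (∀ w ∈ W, Q w = 0) → W = A) →
      Module.finrank F C ≤ Module.finrank F A := by
    intro A C hA hC hmax
    by_contra hlt
    push Not at hlt
    obtain ⟨f, hf⟩ : ∃ f : A →ₗ[F] C, Function.Injective f := by
      let bA := Module.finBasis F A
      let bC := Module.finBasis F C
      refine ⟨bA.constr F (fun i => bC (Fin.castLE hlt.le i)), ?_⟩
      rw [← LinearMap.ker_eq_bot]
      refine LinearMap.ker_eq_bot'.2 fun x hx => bA.ext_elem fun i => ?_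
      have hli := bC.linearIndependent.comp _ (Fin.castLE_injective hlt.le)
      rw [Module.Basis.constr_apply_fintype] at hx
      simpa [Module.Basis.equivFun_apply] using Fintype.linearIndependent_iff.1 hli _ hx i
    obtain ⟨g, hg, hgA⟩ := Cfsg.Agent.Classical.witt_quadratic Q hQ A (C.subtype.comp f)
      (Subtype.val_injective.comp hf) (fun x => by rw [hA x.1 x.2]; exact hC _ (f x).2)
    have h := hmax (C.comap (g : V →ₗ[F] V)) (fun w hw => by
        show g w ∈ C
        rw [hgA ⟨w, hw⟩]
        exact (f ⟨w, hw⟩).2)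
      (fun w hw => by rw [← hg w]; exact hC _ hw)
    rw [← h, show C.comap (g : V →ₗ[F] V) = C.map (g.symm : V →ₗ[F] V) from
      (Submodule.map_equiv_eq_comap_symm g.symm C).symm, LinearEquiv.finrank_map_eq] at hlt
    exact lt_irrefl _ hlt
  refine ⟨le_antisymm (key W₂ W₁ h₂ h₁ hmax₂) (key W₁ W₂ h₁ h₂ hmax₁), ?_⟩
  have hle : W₁ ≤ LinearMap.BilinForm.orthogonal (QuadraticMap.polarBilin Q) W₁ := by
    intro w hw
    rw [LinearMap.BilinForm.mem_orthogonal_iff]
    intro z hz
    show QuadraticMap.polar (⇑Q) z w = 0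
    rw [QuadraticMap.polar, h₁ _ (W₁.add_mem hz hw), h₁ _ hz, h₁ _ hw]; ring
  have h1 := Submodule.finrank_mono hle
  rw [LinearMap.BilinForm.finrank_orthogonal hQ] at h1
  have := W₁.finrank_le
  omega

end Cfsg.Agent.S0760
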