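import Cfsg.Statements.S0761
import Mathlib


set_option autoImplicit false
open Cfsg

namespace Cfsg.Agent.S0761


/-- Hyperbolic partners: let B be a non-degenerate bilinear form on a finite-dimensional space, either alternating, or symmetric with 2 ≠ 0. If Z is a subspace on which B vanishes, x ∉ Z is isotropic and orthogonal to Z, then there is an isotropic y with B x y = 1 which is orthogonal to Z. -/
theorem result {F V : Type*} [Field F] [AddCommGroup V] [Module F V] [FiniteDimensional F V] (B : LinearMap.BilinForm F V) (hB : B.Nondegenerate) (hform : B.IsAlt ∨ (B.IsSymm ∧ (2 : F) ≠ 0)) (x : V) (Z : Submodule F V) (hxZ : x ∉ Z) (hx : B x x = 0) (hxz : ∀ z ∈ Z, B x z = 0) (hZ : ∀ z ∈ Z, ∀ z' ∈ Z, B z z' = 0) : ∃ y : V, B y y = 0 ∧ B x y = 1 ∧ ∀ z ∈ Z, B z y = 0 := by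
  have hrefl : ∀ z ∈ Z, B z x = 0 := by
    intro z hz
    rcases hform with hA | ⟨hS, -⟩
    · exact hA.isRefl _ _ (hxz z hz)
    · rw [hS.eq]; exact hxz z hz
  obtain ⟨φ, hφx, hφZ⟩ : ∃ φ : Module.Dual F V, φ x = 1 ∧ ∀ z ∈ Z, φ z = 0 := by
    obtain ⟨φ, h1, h2⟩ := Submodule.exists_dual_map_eq_bot_of_notMem hxZ inferInstance
    refine ⟨(φ x)⁻¹ • φ, by simp [h1], fun z hz => ?_⟩
    have : φ z ∈ Z.map φ := Submodule.mem_map_of_mem hz
    rw [h2, Submodule.mem_bot] at this
    simp [this]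
  have hflip : ∃ y, ∀ u, B u y = φ u := by
    obtain ⟨y, hy⟩ := (B.flip.toDual hB.flip).surjective φ
    exact ⟨y, fun u => by rw [← hy]; rfl⟩
  obtain ⟨y, hy⟩ := hflip
  rcases hform with hA | ⟨hS, h2⟩
  · exact ⟨y, hA y, by rw [hy, hφx], fun z hz => by rw [hy]; exact hφZ z hz⟩
  · refine ⟨y + (-(B y y) / 2) • x, ?_, ?_, fun z hz => ?_⟩
    · simp only [map_add, map_smul, LinearMap.add_apply, LinearMap.smul_apply, smul_eq_mul, hx,
        show B y x = 1 by rw [hS.eq, hy, hφx], show B x y = 1 by rw [hy, hφx]]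
      field_simp; ring
    · simp [hx, hy, hφx]
    · simp [hrefl z hz, hy, hφZ z hz]

end Cfsg.Agent.S0761
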