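import Cfsg.Statements.S0762
import Mathlib


set_option autoImplicit false
open Cfsg

namespace Cfsg.Agent.S0762


/-- In characteristic two over a finite field, a quadratic form on a space of dimension at least 3 vanishes on some non-zero vector. -/
theorem result {F V : Type*} [Field F] [Finite F] [CharP F 2] [AddCommGroup V] [Module F V] [FiniteDimensional F V] (Q : QuadraticForm F V) (h3 : 3 ≤ Module.finrank F V) : ∃ v : V, v ≠ 0 ∧ Q v = 0 := by
  obtain ⟨v, hv⟩ : ∃ v : V, v ≠ 0 := by
    have : Nontrivial V := Module.nontrivial_of_finrank_pos (R := F) (by omega)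
    exact exists_ne 0
  by_cases hQv : Q v = 0
  · exact ⟨v, hv, hQv⟩
  set φ : V →ₗ[F] F := QuadraticMap.polarBilin Q v
  have h1 := φ.finrank_range_add_finrank_ker
  have h2 : Module.finrank F φ.range ≤ 1 := (Submodule.finrank_le _).trans_eq (Module.finrank_self F)
  obtain ⟨w, hw, hwv⟩ : ∃ w, w ∈ φ.ker ∧ w ∉ Submodule.span F {v} := by
    by_contra h
    push Not at h
    have := Submodule.finrank_mono (s := φ.ker) h
    rw [finrank_span_singleton hv] at this
    omega
  have : Finite F := inferInstance
  have hp : QuadraticMap.polar ⇑Q v w = 0 := LinearMap.mem_ker.1 hw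
  have := Fintype.ofFinite F
  obtain ⟨a, ha⟩ : IsSquare (Q w / Q v) :=
    FiniteField.isSquare_of_char_two (ringChar.eq F 2) _
  refine ⟨a • v + w, fun h => hwv ?_, ?_⟩
  · rw [eq_neg_of_add_eq_zero_right h]
    exact Submodule.neg_mem _ (Submodule.smul_mem _ _ (Submodule.mem_span_singleton_self v))
  · rw [QuadraticMap.map_add ⇑Q, QuadraticMap.map_smul, QuadraticMap.polar_smul_left, hp, ← ha,
      smul_eq_mul, div_mul_cancel₀ _ hQv, smul_zero, add_zero]
    exact CharTwo.add_self_eq_zero _

end Cfsg.Agent.S0762
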