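import Cfsg.Statements.S0763
import Mathlib
import Cfsg.Agent.Lib.Classical.QuadModels


set_option autoImplicit false
open Cfsg

namespace Cfsg.Agent.S0763


/-- Binary quadratic forms in characteristic two over a finite field: if Q is a quadratic form on a 2-dimensional space whose polar form is non-degenerate, then either there are vectors v, w with Q v = Q w = 0 and polar value 1 (Q is xy in these coordinates), or there are v, w and μ with Q v = 1, Q w = μ, polar value 1 and x² + x + μ without roots in F (Q is x² + xy + μy²). -/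
theorem result {F V : Type*} [Field F] [Finite F] [CharP F 2] [AddCommGroup V] [Module F V] (Q : QuadraticForm F V) (h2 : Module.finrank F V = 2) (hQ : (QuadraticMap.polarBilin Q).Nondegenerate) : (∃ v w : V, LinearIndependent F ![v, w] ∧ Q v = 0 ∧ Q w = 0 ∧ QuadraticMap.polar Q v w = 1) ∨ (∃ (v w : V) (μ : F), LinearIndependent F ![v, w] ∧ (∀ x : F, x ^ 2 + x + μ ≠ 0) ∧ Q v = 1 ∧ Q w = μ ∧ QuadraticMap.polar Q v w = 1) := by
  have : FiniteDimensional F V := Module.finite_of_finrank_eq_succ h2
  rcases Cfsg.Agent.Classical.exists_even_basis (m := 1) (by rw [h2]) Q hQ with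
    ⟨b, hq, hEF, -⟩ | ⟨-, b, ζ, hζ, -, -, -, -, hx, hxy, hy⟩
  · refine Or.inl ⟨b (Sum.inl 0), b (Sum.inr 0), ?_, (hq 0).1, (hq 0).2, by simpa using hEF 0 0⟩
    have h := b.linearIndependent.comp ![Sum.inl 0, Sum.inr 0]
      (by intro i j hij; fin_cases i <;> fin_cases j <;> simp at hij ⊢)
    exact (linearIndependent_equiv' (Equiv.refl (Fin 2)) (by ext i; fin_cases i <;> rfl)).1 h
  · refine Or.inr ⟨b (Sum.inr 0), b (Sum.inr 1), ζ, ?_, hζ, hx, hy, hxy⟩
    have h := b.linearIndependent.comp ![Sum.inr 0, Sum.inr 1]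
      (by intro i j hij; fin_cases i <;> fin_cases j <;> simp at hij ⊢)
    exact (linearIndependent_equiv' (Equiv.refl (Fin 2)) (by ext i; fin_cases i <;> rfl)).1 h

end Cfsg.Agent.S0763
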