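import Cfsg.Statements.S0768
import Mathlib
import Cfsg.Agent.Lib.Classical.SympSimple


set_option autoImplicit false
open scoped LinearAlgebra.Projectivization
open Cfsg

namespace Cfsg.Agent.S0768


/-- Primitivity: for m ≥ 1 and F finite, the symplectic group of the form sympForm (as a subgroup of the general linear group) acts primitively on the projective space of F^(2m). -/
theorem result {F : Type*} [Field F] [Finite F] (m : ℕ) (hm : 1 ≤ m) : MulAction.IsPreprimitive ↥(Cfsg.spGL m F) (ℙ F (Fin m ⊕ Fin m → F)) := by
  let φ : Matrix.symplecticGroup (Fin m) F → ↥(spGL m F) := fun A =>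
    ⟨⟨A.1, (A⁻¹).1, congrArg Subtype.val (mul_inv_cancel A), congrArg Subtype.val (inv_mul_cancel A)⟩,
      fun u v => Cfsg.Agent.Classical.sympForm_map A u v⟩
  exact @MulAction.IsPreprimitive.of_surjective _ _ _ _ _ _ _ _ φ
    { toFun := id
      map_smul' := fun A p => by
        induction p using Projectivization.ind with | _ v hv =>
        rfl }
    Cfsg.Agent.Classical.symp_isPreprimitive_proj Function.surjective_id

end Cfsg.Agent.S0768
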