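import Cfsg.Statements.S0769
import Mathlib
-- import your own Cfsg.Agent.* helpers here

set_option autoImplicit false
open Cfsg

namespace Cfsg.Agent.S0769

/-- Order of the Borel subgroup of GL_n(q): the invertible lower-triangular n × n matrices over a field with q elements number q^(n(n-1)/2) (q-1)^n (unitriangular part times the diagonal torus). -/
theorem result {F : Type*} [Field F] [Fintype F] {q : ℕ} (hF : Fintype.card F = q) (n : ℕ) : Nat.card {g : Matrix.GeneralLinearGroup (Fin n) F // ∀ i j : Fin n, i < j → (g : Matrix (Fin n) (Fin n) F) i j = 0} = q ^ (n * (n - 1) / 2) * (q - 1) ^ n := by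
  classical
  let T := {g : Matrix.GeneralLinearGroup (Fin n) F // ∀ i j : Fin n, i < j → (g : Matrix (Fin n) (Fin n) F) i j = 0}
  have hlow : ∀ M : Matrix (Fin n) (Fin n) F, (∀ i j : Fin n, i < j → M i j = 0) → M.det = ∏ i, M i i := fun M h =>
    Matrix.det_of_lowerTriangular M (fun i j hij => h i j hij)
  have hdiag : ∀ g : T, ∀ i, (g.1 : Matrix (Fin n) (Fin n) F) i i ≠ 0 := by
    intro g i hi
    apply Matrix.GeneralLinearGroup.det_ne_zero g.1
    rw [hlow _ g.2]
    exact Finset.prod_eq_zero (Finset.mem_univ i) hi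
  let mk : (Fin n → {a : F // a ≠ 0}) × ((Σ i : Fin n, Fin i.val) → F) → Matrix (Fin n) (Fin n) F := fun x i j =>
    if h : j.val < i.val then x.2 ⟨i, ⟨j.val, h⟩⟩ else if i = j then (x.1 i).1 else 0
  have hmk : ∀ x, ∀ i j : Fin n, i < j → mk x i j = 0 := fun x i j hij => by
    have h1 : ¬ j.val < i.val := by have := Fin.lt_def.mp hij; omega
    show (if h : j.val < i.val then x.2 ⟨i, ⟨j.val, h⟩⟩ else if i = j then (x.1 i).1 else 0) = 0
    rw [dif_neg h1, if_neg hij.ne]
  have hmkd : ∀ x, (mk x).det ≠ 0 := fun x => by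
    rw [hlow _ (hmk x)]
    exact Finset.prod_ne_zero_iff.mpr fun i _ => by simpa [mk] using (x.1 i).2
  let e : T ≃ (Fin n → {a : F // a ≠ 0}) × ((Σ i : Fin n, Fin i.val) → F) :=
    { toFun := fun g => (fun i => ⟨_, hdiag g i⟩,
        fun p => (g.1 : Matrix (Fin n) (Fin n) F) p.1 ⟨p.2.val, p.2.isLt.trans p.1.isLt⟩)
      invFun := fun x => ⟨Matrix.GeneralLinearGroup.mkOfDetNeZero (mk x) (hmkd x), hmk x⟩
      left_inv := fun g => by
        refine Subtype.ext (Units.ext (Matrix.ext fun i j => ?_))
        show mk _ i j = (g.1 : Matrix (Fin n) (Fin n) F) i j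
        rcases lt_trichotomy j.val i.val with h | h | h
        · exact dif_pos h
        · obtain rfl : j = i := Fin.ext h
          exact (dif_neg (lt_irrefl _)).trans (if_pos rfl)
        · have h1 : ¬ j.val < i.val := by omega
          have h2 : i ≠ j := fun e => by rw [e] at h; omega
          refine Eq.trans ?_ (g.2 i j (Fin.lt_def.mpr h)).symm
          exact hmk _ i j (Fin.lt_def.mpr h)
      right_inv := fun x => by
        refine Prod.ext (funext fun i => Subtype.ext ?_) (funext fun p => ?_)
        · show mk x i i = _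
          exact (dif_neg (lt_irrefl _)).trans (if_pos rfl)
        · show mk x p.1 _ = _
          exact dif_pos p.2.isLt }
  have hnz : Fintype.card {a : F // a ≠ 0} = q - 1 := by
    rw [Fintype.card_subtype_compl, Fintype.card_subtype_eq, hF]
  have hsig : Fintype.card (Σ i : Fin n, Fin i.val) = n * (n - 1) / 2 := by
    rw [Fintype.card_sigma]
    simp only [Fintype.card_fin]
    rw [Fin.sum_univ_eq_sum_range (fun i => i) n, Finset.sum_range_id]
  rw [Nat.card_congr e, Nat.card_eq_fintype_card, Fintype.card_prod, Fintype.card_fun, Fintype.card_fun, hnz, hsig,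
    Fintype.card_fin, hF, mul_comm]

end Cfsg.Agent.S0769
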