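import Cfsg.Statements.S0770
-- import your own Cfsg.Agent.* helpers here

set_option autoImplicit false
open Cfsg

namespace Cfsg.Agent.S0770

/-- For a field with at least 3 elements, an invertible matrix normalises the subgroup of invertible diagonal matrices of GL_n if and only if it is monomial (exactly one non-zero entry in each row). -/
theorem result {F : Type*} [Field F] (hF : ∃ a : F, a ≠ 0 ∧ a ≠ 1) (n : ℕ) (g : Matrix.GeneralLinearGroup (Fin n) F) : g ∈ Subgroup.normalizer ((Units.map (Matrix.diagonalRingHom (Fin n) F).toMonoidHom).range : Subgroup (Matrix.GeneralLinearGroup (Fin n) F)) ↔ ∀ i : Fin n, ∃! j : Fin n, (g : Matrix (Fin n) (Fin n) F) i j ≠ 0 := by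
  classical
  obtain ⟨a, ha0, ha1⟩ := hF
  set T := ((Units.map (Matrix.diagonalRingHom (Fin n) F).toMonoidHom).range : Subgroup (Matrix.GeneralLinearGroup (Fin n) F))
  have hmem : ∀ h : Matrix.GeneralLinearGroup (Fin n) F, h ∈ T ↔
      ∃ d : Fin n → F, (∀ i, d i ≠ 0) ∧ (h : Matrix (Fin n) (Fin n) F) = Matrix.diagonal d := by
    intro h
    constructor
    · rintro ⟨d, rfl⟩
      exact ⟨d, fun i => ((Pi.isUnit_iff.1 d.isUnit) i).ne_zero, rfl⟩
    · rintro ⟨d, hd, hh⟩
      exact ⟨(Pi.isUnit_iff.2 fun i => (hd i).isUnit).unit, Units.ext hh.symm⟩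
  have hrow : ∀ i, ∃ j, (g : Matrix (Fin n) (Fin n) F) i j ≠ 0 := by
    intro i
    by_contra h
    push Not at h
    exact (Matrix.isUnit_iff_isUnit_det _ |>.1 g.isUnit).ne_zero (Matrix.det_eq_zero_of_row_eq_zero i h)
  constructor
  · intro hg i
    obtain ⟨j, hj⟩ := hrow i
    refine ⟨j, hj, fun k hk => ?_⟩
    by_contra hkj
    set d : Fin n → F := Function.update 1 j a
    have hd : ∀ l, d l ≠ 0 := fun l => by
      by_cases hl : l = j <;> simp [d, hl, ha0]
    obtain ⟨t, ht, htd⟩ : ∃ t ∈ T, (t : Matrix (Fin n) (Fin n) F) = Matrix.diagonal d :=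
      ⟨(Matrix.GeneralLinearGroup.mk'' (Matrix.diagonal d) (by
        rw [Matrix.det_diagonal]; exact (Finset.prod_ne_zero_iff.2 fun l _ => hd l).isUnit)),
        (hmem _).2 ⟨d, hd, rfl⟩, rfl⟩
    obtain ⟨d', -, hd'⟩ := (hmem _).1 ((Subgroup.mem_normalizer_iff.1 hg t).1 ht)
    have h : (g : Matrix (Fin n) (Fin n) F) * Matrix.diagonal d = Matrix.diagonal d' * g := by
      rw [← htd, ← hd', Units.val_mul, Units.val_mul, mul_assoc, Units.inv_mul, mul_one]
    have h1 := congrFun (congrFun h i) j
    have h2 := congrFun (congrFun h i) k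
    rw [Matrix.mul_diagonal, Matrix.diagonal_mul, mul_comm (d' i)] at h1 h2
    have e1 := mul_left_cancel₀ hj h1
    have e2 := mul_left_cancel₀ hk h2
    rw [← e1] at e2
    simp [d, Function.update_of_ne hkj] at e2
    exact ha1 e2.symm
  · intro hg
    choose π hπ hπu using hg
    have hzero : ∀ i j, j ≠ π i → (g : Matrix (Fin n) (Fin n) F) i j = 0 := fun i j hj => by
      by_contra h
      exact hj (hπu i j h)
    have hsurj : Function.Surjective π := by
      intro j
      by_contra hno
      push Not at hno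
      exact (Matrix.isUnit_iff_isUnit_det _ |>.1 g.isUnit).ne_zero
        (Matrix.det_eq_zero_of_column_eq_zero j fun i => hzero i j (hno i).symm)
    let σ := Equiv.ofBijective π ((Finite.injective_iff_bijective).1 (Finite.injective_iff_surjective.2 hsurj))
    have hσ : ∀ i, σ i = π i := fun i => rfl
    have hcomm : ∀ d : Fin n → F, (g : Matrix (Fin n) (Fin n) F) * Matrix.diagonal d =
        Matrix.diagonal (fun i => d (π i)) * g := by
      intro d
      ext i j
      rw [Matrix.mul_diagonal, Matrix.diagonal_mul]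
      by_cases hj : j = π i
      · subst hj; ring
      · simp [hzero i j hj]
    rw [Subgroup.mem_normalizer_iff]
    intro t
    constructor
    · intro ht
      obtain ⟨d, hd, htd⟩ := (hmem _).1 ht
      refine (hmem _).2 ⟨fun i => d (π i), fun i => hd _, ?_⟩
      rw [Units.val_mul, Units.val_mul, htd, hcomm, mul_assoc, Units.mul_inv, mul_one]
    · intro ht
      obtain ⟨d', hd', htd⟩ := (hmem _).1 ht
      refine (hmem _).2 ⟨fun j => d' (σ.symm j), fun j => hd' _, g.isUnit.mul_left_cancel ?_⟩
      rw [hcomm, show (fun i => d' (σ.symm (π i))) = d' from funext fun i => by rw [← hσ, Equiv.symm_apply_apply],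
        ← htd, Units.val_mul, Units.val_mul, mul_assoc, Units.inv_mul, mul_one]

end Cfsg.Agent.S0770
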