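import Cfsg.Statements.S0778
import Mathlib


set_option autoImplicit false
open Cfsg

namespace Cfsg.Agent.S0778
open scoped Matrix


/-- The elements of Sp_2m(F) stabilising both W = ⟨e_1..e_m⟩ and U = ⟨f_1..f_m⟩ form a subgroup isomorphic to GL_m(F) (block-diagonal matrices diag(X, X^(−ᵀ)) up to the sign convention of J), for m ≥ 1 or m = 0 alike. -/
theorem result {F : Type*} [Field F] (m : ℕ) : Nonempty (↥(Cfsg.stabilizing (Cfsg.spToMat m F) {v : Fin m ⊕ Fin m → F | ∀ i : Fin m, v (Sum.inr i) = 0} ⊓ Cfsg.stabilizing (Cfsg.spToMat m F) {v : Fin m ⊕ Fin m → F | ∀ i : Fin m, v (Sum.inl i) = 0}) ≃* Matrix.GeneralLinearGroup (Fin m) F) := by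
  classical
  set S1 : Set (Fin m ⊕ Fin m → F) := {v | ∀ i : Fin m, v (Sum.inr i) = 0}
  set S2 : Set (Fin m ⊕ Fin m → F) := {v | ∀ i : Fin m, v (Sum.inl i) = 0}
  have hmem : ∀ A : GL (Fin m) F,
      Matrix.fromBlocks (A : Matrix (Fin m) (Fin m) F) 0 0 ((A⁻¹ : GL (Fin m) F) : Matrix (Fin m) (Fin m) F)ᵀ ∈
        Matrix.symplecticGroup (Fin m) F := by
    intro A
    rw [SymplecticGroup.fromBlocks_mem_iff]
    simp only [mul_zero, Matrix.transpose_zero, zero_mul, sub_zero, true_and]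
    rw [← Matrix.transpose_mul, ← Units.val_mul, inv_mul_cancel, Units.val_one, Matrix.transpose_one]
  let f : GL (Fin m) F →* Matrix.symplecticGroup (Fin m) F :=
    MonoidHom.mk' (fun A => ⟨_, hmem A⟩) (fun A B => Subtype.ext (by
      simp [Matrix.fromBlocks_multiply, mul_inv_rev, Matrix.transpose_mul]))
  have hstab : ∀ A : GL (Fin m) F, ∀ v : Fin m ⊕ Fin m → F,
      (∀ i, (Matrix.fromBlocks (A : Matrix (Fin m) (Fin m) F) 0 0
        ((A⁻¹ : GL (Fin m) F) : Matrix (Fin m) (Fin m) F)ᵀ).mulVec v (Sum.inr i) =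
        (((A⁻¹ : GL (Fin m) F) : Matrix (Fin m) (Fin m) F)ᵀ).mulVec (v ∘ Sum.inr) i) ∧
      (∀ i, (Matrix.fromBlocks (A : Matrix (Fin m) (Fin m) F) 0 0
        ((A⁻¹ : GL (Fin m) F) : Matrix (Fin m) (Fin m) F)ᵀ).mulVec v (Sum.inl i) =
        ((A : Matrix (Fin m) (Fin m) F)).mulVec (v ∘ Sum.inl) i) := by
    intro A v
    constructor <;> intro i <;> simp [Matrix.fromBlocks_mulVec]
  have hin : ∀ A : GL (Fin m) F, f A ∈ stabilizing (spToMat m F) S1 ⊓ stabilizing (spToMat m F) S2 := by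
    have h1 : ∀ A : GL (Fin m) F, ∀ v ∈ S1, (spToMat m F (f A)).mulVec v ∈ S1 := by
      intro A v hv i
      show Matrix.mulVec (Matrix.fromBlocks _ 0 0 _) v (Sum.inr i) = 0
      rw [(hstab A v).1, show v ∘ Sum.inr = 0 from funext hv, Matrix.mulVec_zero]; rfl
    have h2 : ∀ A : GL (Fin m) F, ∀ v ∈ S2, (spToMat m F (f A)).mulVec v ∈ S2 := by
      intro A v hv i
      show Matrix.mulVec (Matrix.fromBlocks _ 0 0 _) v (Sum.inl i) = 0
      rw [(hstab A v).2, show v ∘ Sum.inl = 0 from funext hv, Matrix.mulVec_zero]; rfl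
    intro A
    refine ⟨fun v => ⟨h1 A v, fun h => ?_⟩, fun v => ⟨h2 A v, fun h => ?_⟩⟩
    · have := h1 A⁻¹ _ h
      rwa [Matrix.mulVec_mulVec, ← map_mul, ← map_mul, inv_mul_cancel, map_one, map_one,
        Matrix.one_mulVec] at this
    · have := h2 A⁻¹ _ h
      rwa [Matrix.mulVec_mulVec, ← map_mul, ← map_mul, inv_mul_cancel, map_one, map_one,
        Matrix.one_mulVec] at this
  refine ⟨(MulEquiv.ofBijective (f.codRestrict _ hin) ⟨?_, ?_⟩).symm⟩
  · intro A B h
    have := congrArg (fun M : Matrix.symplecticGroup (Fin m) F =>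
      (M : Matrix (Fin m ⊕ Fin m) (Fin m ⊕ Fin m) F).toBlocks₁₁) (congrArg Subtype.val h)
    simp [f] at this
    exact Units.ext this
  · rintro ⟨M, hM1, hM2⟩
    obtain ⟨M, hM⟩ := M
    have hC : M.toBlocks₂₁ = 0 := by
      ext i j
      have h := (hM1 (Pi.single (Sum.inl j) 1)).1 (fun i => by simp) i
      simp only [Matrix.toBlocks₂₁, Matrix.of_apply, Matrix.zero_apply]
      rw [← h]; simp
    have hB : M.toBlocks₁₂ = 0 := by
      ext i j
      have h := (hM2 (Pi.single (Sum.inr j) 1)).1 (fun i => by simp) i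
      simp only [Matrix.toBlocks₁₂, Matrix.of_apply, Matrix.zero_apply]
      rw [← h]; simp
    have hM' := hM
    rw [← Matrix.fromBlocks_toBlocks M, hB, hC, SymplecticGroup.fromBlocks_mem_iff] at hM'
    simp only [mul_zero, Matrix.transpose_zero, zero_mul, sub_zero, true_and] at hM'
    have h' : M.toBlocks₂₂ᵀ * M.toBlocks₁₁ = 1 := by
      simpa [Matrix.transpose_mul] using congrArg Matrix.transpose hM'
    let A : GL (Fin m) F := ⟨M.toBlocks₁₁, M.toBlocks₂₂ᵀ, mul_eq_one_comm.1 h', h'⟩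
    refine ⟨A, Subtype.ext (Subtype.ext ?_)⟩
    show Matrix.fromBlocks _ 0 0 _ = M
    conv_rhs => rw [← Matrix.fromBlocks_toBlocks M, hB, hC]
    simp [A]

end Cfsg.Agent.S0778
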