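import Cfsg.Statements.S0779
import Mathlib


set_option autoImplicit false
open Cfsg

namespace Cfsg.Agent.S0779


/-- Unitary transvections: let |F| = q², h the standard Hermitian form Σ x_i y_i^q and v ≠ 0 with h(v, v) = 0. The linear map x ↦ x + c h(x, v) v is an isometry of h if and only if c = 0 or c^(q−1) = −1. -/
theorem result {F : Type*} [Field F] [Fintype F] {q : ℕ} (hF : Fintype.card F = q ^ 2) (n : ℕ) (v : Fin n → F) (hv : v ≠ 0) (hv0 : Cfsg.hermForm n F q v v = 0) (c : F) : (∀ x y : Fin n → F, Cfsg.hermForm n F q ((Cfsg.unitaryTransvection n q v c).mulVec x) ((Cfsg.unitaryTransvection n q v c).mulVec y) = Cfsg.hermForm n F q x y) ↔ (c = 0 ∨ c ^ (q - 1) = -1) := by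
  classical
  have hq : 2 ≤ q := by
    by_contra h
    have h1 := Fintype.one_lt_card (α := F)
    have : q ^ 2 ≤ 1 ^ 2 := Nat.pow_le_pow_left (by omega) 2
    omega
  obtain ⟨p, hp, hcp, k, hqk⟩ : ∃ p, p.Prime ∧ CharP F p ∧ ∃ k, q = p ^ k := by
    obtain ⟨p, hcp⟩ := CharP.exists F
    obtain ⟨j, hp, hj⟩ := FiniteField.card F p
    obtain ⟨k, -, hk⟩ := (Nat.dvd_prime_pow hp).1 (show q ∣ p ^ (j : ℕ) from
      hj ▸ hF ▸ dvd_pow_self q two_ne_zero)
    exact ⟨p, hp, hcp, k, hk⟩
  have := hcp
  have := Fact.mk hp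
  have hadd : ∀ a b : F, (a + b) ^ q = a ^ q + b ^ q := fun a b => by
    subst hqk; exact add_pow_char_pow a b p k
  have hzero : (0 : F) ^ q = 0 := zero_pow (by omega)
  have hinv : ∀ a : F, (a ^ q) ^ q = a := fun a => by
    rw [← pow_mul, ← sq, ← hF, FiniteField.pow_card]
  set h := hermForm n F q
  have h_add_left : ∀ x x' y, h (x + x') y = h x y + h x' y := fun x x' y => by
    simp [h, hermForm, add_mul, Finset.sum_add_distrib]
  have h_add_right : ∀ x y y', h x (y + y') = h x y + h x y' := fun x y y' => by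
    simp [h, hermForm, hadd, mul_add, Finset.sum_add_distrib]
  have h_smul_left : ∀ (a : F) x y, h (a • x) y = a * h x y := fun a x y => by
    simp [h, hermForm, Finset.mul_sum, mul_assoc]
  have h_smul_right : ∀ (a : F) x y, h x (a • y) = a ^ q * h x y := fun a x y => by
    simp [h, hermForm, Finset.mul_sum, mul_pow]
    exact Finset.sum_congr rfl fun i _ => by ring
  have h_symm : ∀ x y, h y x = (h x y) ^ q := fun x y => by
    have : ∀ s : Finset (Fin n), ∀ g : Fin n → F, (∑ i ∈ s, g i) ^ q = ∑ i ∈ s, (g i) ^ q := by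
      intro s g
      induction s using Finset.induction_on with
      | empty => simp [hzero]
      | insert a s ha ih => rw [Finset.sum_insert ha, Finset.sum_insert ha, hadd, ih]
    rw [show h x y = ∑ i, x i * y i ^ q from rfl, this]
    exact Finset.sum_congr rfl fun i _ => by rw [mul_pow, hinv, mul_comm]
  have hT : ∀ x, (unitaryTransvection n q v c).mulVec x = x + (c * h x v) • v := fun x => by
    rw [unitaryTransvection, Matrix.add_mulVec, Matrix.one_mulVec, Matrix.smul_mulVec,
      Matrix.vecMulVec_mulVec, op_smul_eq_smul, smul_smul]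
    congr 3
    rw [dotProduct]
    exact Finset.sum_congr rfl fun i _ => mul_comm _ _
  have hexp : ∀ x y, h ((unitaryTransvection n q v c).mulVec x) ((unitaryTransvection n q v c).mulVec y)
      = h x y + (c + c ^ q) * (h x v * (h y v) ^ q) := fun x y => by
    rw [hT, hT, h_add_left, h_add_right, h_add_right, h_smul_left, h_smul_left, h_smul_right,
      h_smul_right, h_symm y v, mul_pow, show h v v = 0 from hv0]
    ring
  have hcond : c + c ^ q = 0 ↔ (c = 0 ∨ c ^ (q - 1) = -1) := by
    rw [show c + c ^ q = c * (1 + c ^ (q - 1)) by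
      rw [mul_add, mul_one, ← pow_succ', Nat.sub_add_cancel (by omega)], mul_eq_zero,
      add_eq_zero_iff_neg_eq, eq_comm (a := (-1 : F))]
  rw [← hcond]
  constructor
  · intro hpres
    obtain ⟨i, hi⟩ := Function.ne_iff.1 hv
    have := hpres (Pi.single i 1) (Pi.single i 1)
    rw [hexp] at this
    have hval : h (Pi.single i 1) v = v i ^ q := by
      simp [h, hermForm, Pi.single_apply]
    rw [hval, hinv, add_eq_left, mul_eq_zero, mul_eq_zero] at this
    rcases this with h1 | h1 | h1
    · exact h1
    · exact absurd (eq_zero_of_pow_eq_zero h1) hi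
    · exact absurd h1 hi
  · intro h0 x y
    rw [hexp, h0, zero_mul, add_zero]

end Cfsg.Agent.S0779
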