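import Cfsg.Statements.S0796
import Mathlib


set_option autoImplicit false
open Cfsg

namespace Cfsg.Agent.S0796


/-- If G is finite and acts faithfully and primitively on X, H is the stabiliser of a point, A is a normal subgroup of H whose normal closure in G is G, then for every non-trivial normal subgroup K of G the quotient G ⧸ K is isomorphic to A ⧸ B for some normal subgroup B of A. -/
theorem result {G X : Type*} [Group G] [Finite G] [MulAction G X] [FaithfulSMul G X] (hprim : MulAction.IsPreprimitive G X) (x : X) (A : Subgroup G) (hA : A ≤ MulAction.stabilizer G x) (hAn : (A.subgroupOf (MulAction.stabilizer G x)).Normal) (hgen : Subgroup.normalClosure (A : Set G) = ⊤) (K : Subgroup G) [K.Normal] (hK : K ≠ ⊥) : ∃ (B : Subgroup A) (_ : B.Normal), Nonempty (G ⧸ K ≃* A ⧸ B) := by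
  by_cases hX : Nontrivial X
  · have hfix : MulAction.fixedPoints K X ≠ Set.univ := by
      intro h
      refine hK ((Subgroup.eq_bot_iff_forall _).2 fun k hk => ?_)
      refine FaithfulSMul.eq_of_smul_eq_smul (α := X) fun y => ?_
      rw [one_smul]
      exact (Set.eq_univ_iff_forall.1 h y : y ∈ MulAction.fixedPoints K X) ⟨k, hk⟩
    have htr := MulAction.IsQuasiPreprimitive.isPretransitive_of_normal (G := G) (X := X) hfix
    have hle : Subgroup.normalClosure (A : Set G) ≤ A ⊔ K := by
      refine (Subgroup.closure_le _).2 ?_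
      intro y hy
      obtain ⟨a, ha, hconj⟩ := Group.mem_conjugatesOfSet_iff.1 hy
      obtain ⟨g, rfl⟩ := isConj_iff.1 hconj
      obtain ⟨k, hk⟩ := MulAction.exists_smul_eq K x (g • x)
      have hs : (k : G)⁻¹ * g ∈ MulAction.stabilizer G x := by
        rw [MulAction.mem_stabilizer_iff, mul_smul, inv_smul_eq_iff]
        exact hk.symm
      have hmem : ((k : G)⁻¹ * g) * a * ((k : G)⁻¹ * g)⁻¹ ∈ A :=
        hAn.conj_mem ⟨a, hA ha⟩ ha ⟨_, hs⟩
      have : g * a * g⁻¹ = (k : G) * (((k : G)⁻¹ * g) * a * ((k : G)⁻¹ * g)⁻¹) * (k : G)⁻¹ := by group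
      rw [SetLike.mem_coe, this]
      exact Subgroup.mul_mem _ (Subgroup.mul_mem _ (Subgroup.mem_sup_right k.2)
        (Subgroup.mem_sup_left hmem)) (Subgroup.inv_mem _ (Subgroup.mem_sup_right k.2))
    rw [hgen] at hle
    let f : A →* G ⧸ K := (QuotientGroup.mk' K).comp A.subtype
    have hs : Function.Surjective f := by
      intro y
      obtain ⟨g, rfl⟩ := QuotientGroup.mk'_surjective K y
      obtain ⟨a, ha, k, hk, rfl⟩ := Subgroup.mem_sup_of_normal_right.1 (hle (Subgroup.mem_top g))
      refine ⟨⟨a, ha⟩, ?_⟩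
      show QuotientGroup.mk' K a = _
      rw [map_mul, show QuotientGroup.mk' K k = 1 from (QuotientGroup.eq_one_iff k).2 hk, mul_one]
    exact ⟨f.ker, inferInstance, ⟨(QuotientGroup.quotientKerEquivOfSurjective f hs).symm⟩⟩
  · exfalso
    have := not_nontrivial_iff_subsingleton.1 hX
    refine hK ((Subgroup.eq_bot_iff_forall _).2 fun k hk => ?_)
    exact FaithfulSMul.eq_of_smul_eq_smul (α := X) fun y => Subsingleton.elim _ _

end Cfsg.Agent.S0796
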