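import Cfsg.Statements.S0797
import Cfsg.Agent.Lib.Classical.OrthGenModels

set_option autoImplicit false
open Cfsg Cfsg.Agent.Classical Cfsg.Agent.Classical.OrthAut

namespace Cfsg.Agent.S0797

/-- O^ε_2m(q) ≅ Ω.2² for q odd: if F is finite of odd characteristic, n ≥ 2 is even and Q has non-degenerate polar form on F^n, the isometry group of Q has exactly three subgroups of index 2. -/
theorem result {F : Type*} [Field F] [Fintype F] (h2 : (2 : F) ≠ 0) {n : ℕ} (hn : 2 ≤ n) (heven : Even n) (Q : QuadraticForm F (Fin n → F)) (hQ : (QuadraticMap.polarBilin Q).Nondegenerate) : Nat.card {H : Subgroup ↥(Cfsg.isometryGroup F ⇑Q) // H.index = 2} = 3 := by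
  classical
  have hG := genQ_odd hQ h2
  have hsurj : Function.Surjective (invHom hQ hG) := invHom_surjective hQ hG h2 (by simpa using hn)
  have hker : ∀ H : Subgroup (isometryGroup F ⇑Q), H.index = 2 → (invHom hQ hG).ker ≤ H := fun H hH => by
    rw [← omega_eq_ker hQ hG]
    show commutator _ ≤ H
    rw [commutator_def, Subgroup.commutator_le]
    intro x _ y _
    rw [commutatorElement_def, Subgroup.mul_mem_iff_of_index_two hH, Subgroup.mul_mem_iff_of_index_two hH,
      Subgroup.mul_mem_iff_of_index_two hH, inv_mem_iff, inv_mem_iff]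
    tauto
  have hV : Nat.card (ℤˣ × ℤˣ) = 4 := by rw [Nat.card_eq_fintype_card]; rfl
  have hp2 : ∀ p : ℤˣ × ℤˣ, p ≠ 1 → orderOf p = 2 := fun p hp => orderOf_eq_prime (by revert p; decide) hp
  let f : {p : ℤˣ × ℤˣ // p ≠ 1} → {H : Subgroup (isometryGroup F ⇑Q) // H.index = 2} := fun p =>
    ⟨(Subgroup.zpowers p.1).comap (invHom hQ hG), by
      rw [Subgroup.index_comap_of_surjective _ hsurj]
      have := (Subgroup.zpowers p.1).card_mul_index
      rw [Nat.card_zpowers, hp2 _ p.2, hV] at this
      omega⟩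
  have hbij : Function.Bijective f := by
    refine ⟨fun p r hpr => ?_, fun H => ?_⟩
    · have h1 : Subgroup.zpowers p.1 = Subgroup.zpowers r.1 :=
        Subgroup.comap_injective hsurj (congrArg Subtype.val hpr)
      have hmem : p.1 ∈ Subgroup.zpowers r.1 := h1 ▸ Subgroup.mem_zpowers _
      rw [mem_zpowers_iff_mem_range_orderOf, hp2 _ r.2] at hmem
      simp only [Finset.mem_image, Finset.mem_range] at hmem
      obtain ⟨k, hk, hk'⟩ := hmem
      interval_cases k
      · exact absurd (by simpa using hk'.symm) p.2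
      · exact Subtype.ext (by simpa using hk'.symm)
    · have hi : (H.1.map (invHom hQ hG)).index = 2 := by
        rw [Subgroup.index_map_eq _ hsurj (hker _ H.2), H.2]
      have hc := (H.1.map (invHom hQ hG)).card_mul_index
      rw [hi, hV] at hc
      obtain ⟨p, hp, hp1⟩ := (Subgroup.bot_or_exists_ne_one (H.1.map (invHom hQ hG))).resolve_left
        (fun e => by rw [e, Subgroup.card_bot] at hc; omega)
      refine ⟨⟨p, hp1⟩, Subtype.ext ?_⟩
      show (Subgroup.zpowers p).comap (invHom hQ hG) = H.1
      rw [Subgroup.eq_of_le_of_card_ge ((Subgroup.zpowers_le).2 hp) (by rw [Nat.card_zpowers, hp2 _ hp1]; omega),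
        Subgroup.comap_map_eq_self (hker _ H.2)]
  rw [← Nat.card_congr (Equiv.ofBijective f hbij), Nat.card_eq_fintype_card]
  rfl

end Cfsg.Agent.S0797
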