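import Cfsg.Statements.S0800
import Mathlib
import Cfsg.Agent.Lib.Recog.PSLTwoSpectrum
-- import your own Cfsg.Agent.* helpers here

set_option autoImplicit false
open Cfsg

namespace Cfsg.Agent.S0800

/-- Tori of SL_2(q): if g ∈ SL_2(q) has order coprime to the characteristic p, then the order of g divides q − 1 or q + 1. -/
theorem result {F : Type*} [Field F] [Fintype F] {q : ℕ} (hF : Fintype.card F = q) (p : ℕ) [Fact p.Prime] [CharP F p] (g : Matrix.SpecialLinearGroup (Fin 2) F) (hg : Nat.Coprime (orderOf g) p) : orderOf g ∣ q - 1 ∨ orderOf g ∣ q + 1 := by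
  subst hF
  have hd := PSL2Spec.dd_dvd (F := F)
  have hm : orderOf (PSL2Spec.proj g) ∣ orderOf g := orderOf_map_dvd _ _
  have h2 : orderOf g ∣ orderOf (PSL2Spec.proj g) * PSL2Spec.dd F := by
    obtain ⟨c, hc, he⟩ := (PSL2Spec.proj_eq_one_iff (g ^ orderOf (PSL2Spec.proj g))).mp
      (by rw [map_pow, pow_orderOf_eq_one])
    have hcd : c ^ PSL2Spec.dd F = 1 := by
      have h1 : c ^ (Fintype.card F - 1) = 1 := FiniteField.pow_card_sub_one_eq_one c (fun e => by simp [e] at hc)
      exact pow_gcd_eq_one.mpr ⟨hc, h1⟩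
    apply orderOf_dvd_of_pow_eq_one
    rw [pow_mul]
    apply Subtype.ext
    rw [Matrix.SpecialLinearGroup.coe_pow, he, smul_pow, one_pow, hcd, one_smul, Matrix.SpecialLinearGroup.coe_one]
  have key : ∀ {m e : ℕ}, orderOf (PSL2Spec.proj g) ∣ m / e → e ∣ m → e = PSL2Spec.dd F → orderOf g ∣ m := by
    intro m e h he hee
    refine h2.trans ?_
    rw [← hee]
    exact (Nat.mul_dvd_mul_right h e).trans (Nat.div_mul_cancel he).dvd
  rcases PSL2Spec.order_dvd p (PSL2Spec.proj g) with h | h | h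
  · have h1 : orderOf (PSL2Spec.proj g) = 1 := Nat.eq_one_of_dvd_coprimes hg hm h
    rw [h1, one_mul] at h2
    exact Or.inl (h2.trans hd.1)
  · exact Or.inl (key h hd.1 rfl)
  · exact Or.inr (key h hd.2 rfl)

end Cfsg.Agent.S0800
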