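import Cfsg.Statements.S0802
import Cfsg.Agent.Lib.Classical.DicksonCentral
import Cfsg.Agent.Lib.Classical.DicksonEmbed
-- import your own Cfsg.Agent.* helpers here

set_option autoImplicit false
open Cfsg

namespace Cfsg.Agent.S0802
open Cfsg.Agent.Dickson Cfsg.Agent.PSL2Spec Cfsg.Agent.Grp.SL2


/-- PSL_2(p^n) has a subgroup isomorphic to A_4 if and only if it is not the case that p = 2 and n is odd. -/
theorem result {F : Type*} [Field F] [Fintype F] (p n : ℕ) [Fact p.Prime] [CharP F p] (hF : Fintype.card F = p ^ n) : (∃ H : Subgroup (Matrix.ProjectiveSpecialLinearGroup (Fin 2) F), Nonempty (H ≃* alternatingGroup (Fin 4))) ↔ ¬ (p = 2 ∧ Odd n) := by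
  classical
  constructor
  · rintro ⟨H, ⟨e⟩⟩ ⟨hp2, hn⟩
    subst hp2
    set g₃ : alternatingGroup (Fin 4) :=
      ⟨Equiv.swap 0 1 * Equiv.swap 1 2, by simp [Equiv.Perm.mem_alternatingGroup]⟩ with hg₃
    set g₂ : alternatingGroup (Fin 4) :=
      ⟨Equiv.swap 0 1 * Equiv.swap 2 3, by simp [Equiv.Perm.mem_alternatingGroup]⟩ with hg₂
    let f : alternatingGroup (Fin 4) →* Matrix.ProjectiveSpecialLinearGroup (Fin 2) F :=
      H.subtype.comp e.symm.toMonoidHom
    have hf : Function.Injective f := H.subtype_injective.comp e.symm.injective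
    have hu : f g₂ ^ 2 = 1 := by
      rw [← map_pow]
      have : g₂ ^ 2 = 1 := by rw [hg₂]; decide
      rw [this, map_one]
    have hu1 : f g₂ ≠ 1 := fun h => absurd (hf (h.trans (map_one f).symm)) (by rw [hg₂]; decide)
    set D := pslData (F := F) 2
    have ht : f g₃ * f g₂ * (f g₃)⁻¹ ∈ tor (f g₂) := by
      refine D.uni_cent hu1 hu ?_
      rw [← map_inv, ← map_mul, ← map_mul]
      refine (show Commute (g₃ * g₂ * g₃⁻¹) g₂ from ?_).map f
      unfold Commute SemiconjBy
      rw [hg₃, hg₂]
      decide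
    have hN : f g₃ ∈ Subgroup.normalizer (tor (f g₂) : Set (Matrix.ProjectiveSpecialLinearGroup (Fin 2) F)) :=
      (D.mem_normalizer_iff hu1).mpr ht
    have h3 : orderOf (f g₃) = 3 := by
      rw [orderOf_injective f hf]
      refine orderOf_eq_prime (hp := ⟨Nat.prime_three⟩) ?_ ?_ <;> (rw [hg₃]; decide)
    have hd := (h3.symm.dvd.trans (Subgroup.orderOf_dvd_natCard _ hN)).trans (dvd_mul_right _ (del F))
    rw [card_borel 2 hu1 hu, hF] at hd
    obtain ⟨k, rfl⟩ := hn
    have hmod : 2 ^ (2 * k + 1) % 3 = 2 := by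
      rw [pow_succ, pow_mul, Nat.mul_mod, Nat.pow_mod]; norm_num
    rcases Nat.prime_three.dvd_mul.mp hd with h | h
    · exact absurd (Nat.prime_three.dvd_of_dvd_pow h) (by norm_num)
    · generalize 2 ^ (2 * k + 1) = Q at hmod h
      omega
  · intro hn
    rcases ne_or_eq p 2 with hp | hp
    · have hodd := odd_of_p (F := F) p hp
      obtain ⟨x, y, hxy⟩ := exists_quat (F := F) hodd
      obtain ⟨t, A, -, -, -, -, -, hA, -⟩ := exists_alt4 hodd hxy
      exact ⟨A, hA⟩
    subst hp
    have heven : Even n := by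
      by_contra h
      exact hn ⟨rfl, Nat.not_even_iff_odd.mp h⟩
    obtain ⟨j, rfl⟩ := heven
    haveI : Fintype (GaloisField 2 2) := Fintype.ofFinite _
    have hK : Fintype.card (GaloisField 2 2) = 4 := by
      rw [← Nat.card_eq_fintype_card, GaloisField.card 2 2 (by norm_num)]; norm_num
    obtain ⟨φ⟩ := exists_ringHom_of_card_pow (F := F) (K := GaloisField 2 2) (m := j)
      (by rw [hK, hF, ← two_mul, pow_mul]; norm_num)
    obtain ⟨i⟩ := nonempty_pslSub φ
    set D := pslData (F := GaloisField 2 2) 2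
    obtain ⟨u, hu⟩ := exists_order_char (F := GaloisField 2 2) 2
    have hu1 : u ≠ 1 := fun e => by rw [e, orderOf_one] at hu; omega
    have hup : u ^ 2 = 1 := orderOf_dvd_iff_pow_eq_one.mp hu.dvd
    set N := Subgroup.normalizer (tor u : Set (Matrix.ProjectiveSpecialLinearGroup (Fin 2) (GaloisField 2 2))) with hNdef
    have hdel : del (GaloisField 2 2) = 1 := by
      rcases del_cases (GaloisField 2 2) with ⟨h, -⟩ | ⟨-, h⟩
      · exact h
      · exact absurd h (by rw [hK]; decide)
    have hNc : Nat.card N = 12 := by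
      have := card_borel 2 hu1 hup
      rwa [hdel, mul_one, hK] at this
    haveI : Fact (Nat.Prime 3) := ⟨Nat.prime_three⟩
    obtain ⟨t, ht⟩ := exists_prime_orderOf_dvd_card' 3 (show 3 ∣ Nat.card N by rw [hNc]; norm_num)
    have hto : orderOf (t : Matrix.ProjectiveSpecialLinearGroup (Fin 2) (GaloisField 2 2)) = 3 := by rw [Subgroup.orderOf_coe, ht]
    have ht1 : (t : Matrix.ProjectiveSpecialLinearGroup (Fin 2) (GaloisField 2 2)) ≠ 1 := fun e => by
      rw [e, orderOf_one] at hto; omega
    have htp : (t : Matrix.ProjectiveSpecialLinearGroup (Fin 2) (GaloisField 2 2)) ^ 2 ≠ 1 := fun e => by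
      have := orderOf_eq_prime e ht1
      omega
    have hA4 : Nonempty (N ≃* alternatingGroup (Fin 4)) := by
      have hz : Nat.card (Subgroup.zpowers t) = 3 := by rw [Nat.card_zpowers, ht]
      refine nonempty_alternating_four hNc (Subgroup.zpowers t) hz ?_
      refine le_antisymm (fun g hg => ?_) Subgroup.le_normalizer
      have hgN : ((g : N) : Matrix.ProjectiveSpecialLinearGroup (Fin 2) (GaloisField 2 2)) * t * ((g : N) : _)⁻¹ ∈
          tor (t : Matrix.ProjectiveSpecialLinearGroup (Fin 2) (GaloisField 2 2)) := by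
        obtain ⟨k, hk⟩ := Subgroup.mem_zpowers_iff.mp
          ((Subgroup.mem_normalizer_iff.mp hg t).mp (Subgroup.mem_zpowers t))
        have hk' : (t : Matrix.ProjectiveSpecialLinearGroup (Fin 2) (GaloisField 2 2)) ^ k =
            ((g : N) : Matrix.ProjectiveSpecialLinearGroup (Fin 2) (GaloisField 2 2)) * t * ((g : N) : _)⁻¹ := by
          simpa using congrArg Subtype.val hk
        rw [← hk']
        exact Subgroup.zpow_mem _ (D.self _) k
      by_cases hgt : ((g : N) : Matrix.ProjectiveSpecialLinearGroup (Fin 2) (GaloisField 2 2)) ∈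
          tor (t : Matrix.ProjectiveSpecialLinearGroup (Fin 2) (GaloisField 2 2))
      · have hle : Subgroup.zpowers (t : Matrix.ProjectiveSpecialLinearGroup (Fin 2) (GaloisField 2 2)) =
            tor (t : Matrix.ProjectiveSpecialLinearGroup (Fin 2) (GaloisField 2 2)) := by
          refine Subgroup.eq_of_le_of_card_ge (Subgroup.zpowers_le.mpr (D.self _)) ?_
          rw [Nat.card_zpowers, hto]
          rcases card_tor_semi 2 ht1 htp with e | e <;> rw [e, hdel, hK]
          have h5 : 3 ∣ 5 := by
            have := hto.symm.dvd.trans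
              (Subgroup.orderOf_dvd_natCard (tor (t : Matrix.ProjectiveSpecialLinearGroup (Fin 2) (GaloisField 2 2))) (D.self _))
            rwa [e, hdel, hK] at this
          norm_num at h5
        rw [← hle] at hgt
        obtain ⟨k, hk⟩ := Subgroup.mem_zpowers_iff.mp hgt
        exact Subgroup.mem_zpowers_iff.mpr ⟨k, Subtype.ext (by simpa using hk)⟩
      · exfalso
        obtain ⟨-, hinv⟩ := D.semi_flip ht1 htp hgN hgt
        have hcomm := D.borel_comm hu1 hup ((D.mem_normalizer_iff hu1).mp g.2) ((D.mem_normalizer_iff hu1).mp t.2)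
        rw [hinv _ (D.self _)] at hcomm
        have h2 := D.uni_exp hu1 hup hcomm
        have h3 : (t : Matrix.ProjectiveSpecialLinearGroup (Fin 2) (GaloisField 2 2)) ^ 3 = 1 := by
          rw [← hto, pow_orderOf_eq_one]
        refine ht1 ?_
        have h4 : ((t : Matrix.ProjectiveSpecialLinearGroup (Fin 2) (GaloisField 2 2))⁻¹ *
            (t : Matrix.ProjectiveSpecialLinearGroup (Fin 2) (GaloisField 2 2))⁻¹) ^ 2 =
            (t : Matrix.ProjectiveSpecialLinearGroup (Fin 2) (GaloisField 2 2))⁻¹ := by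
          calc _ = ((t : Matrix.ProjectiveSpecialLinearGroup (Fin 2) (GaloisField 2 2)) ^ 3)⁻¹ *
              (t : Matrix.ProjectiveSpecialLinearGroup (Fin 2) (GaloisField 2 2))⁻¹ := by group
            _ = _ := by rw [h3, inv_one, one_mul]
        rw [h2] at h4
        exact inv_eq_one.mp h4.symm
    obtain ⟨a⟩ := hA4
    refine ⟨(N.map i.symm.toMonoidHom).map (pslSub φ).subtype, ⟨?_⟩⟩
    exact (Subgroup.equivMapOfInjective _ _ (pslSub φ).subtype_injective).symm.trans
      ((Subgroup.equivMapOfInjective N _ i.symm.injective).symm.trans a)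

end Cfsg.Agent.S0802
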