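import Cfsg.Statements.S0805
import Cfsg.Agent.Lib.Classical.DicksonEmbed
import Cfsg.Agent.Lib.Classical.DicksonTorus
-- import your own Cfsg.Agent.* helpers here

set_option autoImplicit false
open Cfsg

namespace Cfsg.Agent.S0805
open Cfsg.Agent.Dickson Cfsg.Agent.PSL2Spec


/-- Subfield subgroups: let F be a finite field of odd order q and K a finite field with |K|^m = q, m ≥ 1. Then PSL_2(F) has a subgroup isomorphic to PSL_2(K), and has a subgroup isomorphic to PGL_2(K) if and only if m is even. -/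
theorem result {F K : Type*} [Field F] [Fintype F] [Field K] [Fintype K] {q : ℕ} (hF : Fintype.card F = q) (hodd : Odd q) (m : ℕ) (hm : 1 ≤ m) (hK : Fintype.card K ^ m = q) : (∃ H : Subgroup (Matrix.ProjectiveSpecialLinearGroup (Fin 2) F), Nonempty (H ≃* Matrix.ProjectiveSpecialLinearGroup (Fin 2) K)) ∧ ((∃ H : Subgroup (Matrix.ProjectiveSpecialLinearGroup (Fin 2) F), Nonempty (H ≃* Matrix.ProjGenLinGroup (Fin 2) K)) ↔ Even m) := by
  subst hF
  have hKodd : Odd (Fintype.card K) := by
    rw [← hK] at hodd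
    exact (Nat.odd_pow_iff (by omega)).mp hodd
  obtain ⟨φ⟩ := exists_ringHom_of_card_pow hK
  have hF2 : ringChar F ≠ 2 := fun h => by
    have := FiniteField.even_card_of_char_two h
    obtain ⟨a, ha⟩ := hodd; omega
  refine ⟨⟨_, nonempty_pslSub φ⟩, ⟨?_, ?_⟩⟩
  · rintro ⟨H, ⟨e⟩⟩
    by_contra hm'
    rw [Nat.not_even_iff_odd] at hm'
    have hd : Nat.card H ∣ Nat.card (Matrix.ProjectiveSpecialLinearGroup (Fin 2) F) :=
      Subgroup.card_subgroup_dvd_card H
    rw [Nat.card_congr e.toEquiv, Classical.natCard_PGL_eq_SL, Fus.PSLTwo.natCard_SL_two] at hd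
    obtain ⟨c, hc⟩ := hd
    have hdel : del F = 2 := by
      rcases del_cases F with ⟨-, h⟩ | ⟨h, -⟩
      · exact absurd h (Nat.not_even_iff_odd.mpr hodd)
      · exact h
    have hcard := card_psl (F := F)
    rw [hdel, hc, ← hK] at hcard
    set k := Fintype.card K with hk
    have hk1 : 1 < k := Fintype.one_lt_card
    -- factor out `k ^ 2 - 1`
    set S := ∑ i ∈ Finset.range m, (k ^ 2) ^ i with hS
    have hgeom : (k ^ 2) ^ m = (k ^ 2 - 1) * S + 1 := by
      have := Nat.geomSum_eq (show 2 ≤ k ^ 2 from by nlinarith) m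
      have hdvd : k ^ 2 - 1 ∣ (k ^ 2) ^ m - 1 := by
        simpa using Nat.sub_dvd_pow_sub_pow (k ^ 2) 1 m
      rw [hS, this, Nat.mul_div_cancel' hdvd]
      have : 0 < (k ^ 2) ^ m := by positivity
      omega
    have hSodd : S % 2 = 1 := by
      rw [hS, Finset.sum_nat_mod, Finset.sum_congr rfl (g := fun _ => 1) (fun i _ => by
        rw [Nat.pow_mod, Nat.pow_mod k 2]; rw [Nat.odd_iff.mp hKodd]; simp)]
      simp [Nat.odd_iff.mp hm']
    obtain ⟨a, ha⟩ : ∃ a, k = a + 1 := ⟨k - 1, by omega⟩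
    have hkm1 : 1 ≤ k ^ m := Nat.one_le_pow _ _ (by omega)
    obtain ⟨b, hb⟩ : ∃ b, k ^ m = b + 1 := ⟨k ^ m - 1, by omega⟩
    rw [hb, Nat.add_sub_cancel, ha, Nat.add_sub_cancel] at hcard
    have hgeom' : b * (b + 2) = a * (a + 2) * S := by
      have h1 : (k ^ 2) ^ m = (b + 1) * (b + 1) := by rw [← hb, ← pow_mul, mul_comm 2, pow_mul, sq]
      have h2 : k ^ 2 - 1 = a * (a + 2) := by
        rw [ha, show (a + 1) ^ 2 = a * (a + 2) + 1 by ring]; omega
      rw [h1, h2, show (b + 1) * (b + 1) = b * (b + 2) + 1 by ring] at hgeom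
      omega
    have h3 : a * (a + 2) * ((a + 1) * c * 2) = a * (a + 2) * ((b + 1) * S) := by
      rw [show (b + 1) + 1 = b + 2 from rfl, show (a + 1) + 1 = a + 2 from rfl] at hcard
      calc _ = (a + 1) * (a * (a + 2)) * c * 2 := by ring
        _ = (b + 1) * (b * (b + 2)) := hcard
        _ = _ := by rw [hgeom']; ring
    have h4 := Nat.eq_of_mul_eq_mul_left (by have : 0 < a := by omega
                                             positivity) h3
    have h5 : Odd ((b + 1) * S) := (hb ▸ hKodd.pow).mul (Nat.odd_iff.mpr hSodd)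
    rw [← h4, Nat.odd_iff] at h5
    omega
  · rintro ⟨j, rfl⟩
    have hsq : ∀ x : K, IsSquare (φ x) := fun x => by
      by_cases hx : x = 0
      · rw [hx, map_zero]; exact IsSquare.zero
      rw [FiniteField.isSquare_iff hF2 ((map_ne_zero φ).mpr hx), ← map_pow]
      suffices h : x ^ (Fintype.card F / 2) = 1 by rw [h, map_one]
      obtain ⟨a, ha⟩ := hKodd
      have hdiv : Fintype.card K - 1 ∣ Fintype.card F / 2 := by
        rw [← hK, ← two_mul j, pow_mul]
        obtain ⟨c, hc⟩ : Fintype.card K ^ 2 - 1 ∣ (Fintype.card K ^ 2) ^ j - 1 := by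
          simpa using Nat.sub_dvd_pow_sub_pow (Fintype.card K ^ 2) 1 j
        have hpos : 0 < (Fintype.card K ^ 2) ^ j := by positivity
        refine ⟨(a + 1) * c, ?_⟩
        have h2 : Fintype.card K ^ 2 - 1 = 2 * a * (2 * (a + 1)) := by
          rw [ha, show (2 * a + 1) ^ 2 = 2 * a * (2 * (a + 1)) + 1 by ring]; omega
        rw [h2] at hc
        have h3 : 2 * a * ((a + 1) * c) * 2 = 2 * a * (2 * (a + 1)) * c := by ring
        rw [ha, Nat.add_sub_cancel]
        rw [ha] at hc hpos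
        omega
      obtain ⟨d, hd⟩ := hdiv
      rw [hd, pow_mul, FiniteField.pow_card_sub_one_eq_one x hx, one_pow]
    obtain ⟨i⟩ := nonempty_pglImg φ
    refine ⟨(pglMap φ).range.comap Matrix.ProjectiveSpecialLinearGroup.toPGL, ⟨?_⟩⟩
    exact (Subgroup.equivMapOfInjective _ _ Matrix.ProjectiveSpecialLinearGroup.toPGL_injective).trans
      ((MulEquiv.subgroupCongr (by
        rw [Subgroup.map_comap_eq, inf_eq_right.mpr ((pglImg_le_range_iff φ).mpr hsq)])).trans i)

end Cfsg.Agent.S0805
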