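import Cfsg.Statements.S0808
import Cfsg.Agent.Lib.Classical.DicksonKleinCount
-- import your own Cfsg.Agent.* helpers here

set_option autoImplicit false
open Cfsg

namespace Cfsg.Agent.S0808
open Cfsg.Agent.Dickson Cfsg.Agent.PSL2Spec


/-- Conjugacy classes of four-groups in PSL_2(q), q odd: if q ≡ 3 or 5 (mod 8) all Klein four-subgroups are conjugate; if q ≡ 1 or 7 (mod 8) there are two Klein four-subgroups which are not conjugate, and every Klein four-subgroup is conjugate to one of them. -/
theorem result {F : Type*} [Field F] [Fintype F] {q : ℕ} (hF : Fintype.card F = q) (hodd : Odd q) : ((q % 8 = 3 ∨ q % 8 = 5) → ∀ V W : Subgroup (Matrix.ProjectiveSpecialLinearGroup (Fin 2) F), IsKleinFour V → IsKleinFour W → ∃ g : Matrix.ProjectiveSpecialLinearGroup (Fin 2) F, W = V.map (MulAut.conj g).toMonoidHom) ∧ ((q % 8 = 1 ∨ q % 8 = 7) → ∃ V₁ V₂ : Subgroup (Matrix.ProjectiveSpecialLinearGroup (Fin 2) F), IsKleinFour V₁ ∧ IsKleinFour V₂ ∧ (¬ ∃ g : Matrix.ProjectiveSpecialLinearGroup (Fin 2) F, V₂ = V₁.map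 (MulAut.conj g).toMonoidHom) ∧ ∀ W : Subgroup (Matrix.ProjectiveSpecialLinearGroup (Fin 2) F), IsKleinFour W → (∃ g : Matrix.ProjectiveSpecialLinearGroup (Fin 2) F, W = V₁.map (MulAut.conj g).toMonoidHom) ∨ (∃ g : Matrix.ProjectiveSpecialLinearGroup (Fin 2) F, W = V₂.map (MulAut.conj g).toMonoidHom)) := by
  subst hF
  obtain ⟨p, hc⟩ := CharP.exists F
  haveI : Fact p.Prime := ⟨CharP.char_is_prime F p⟩
  have hG := card_kleins hodd
  set G := Matrix.ProjectiveSpecialLinearGroup (Fin 2) F
  classical
  haveI : Fintype (Subgroup G) := Fintype.ofFinite _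
  set K : Finset (Subgroup G) := Finset.univ.filter (fun V : Subgroup G => IsKleinFour V) with hK
  have hKc : 12 * K.card = Nat.card G := by
    rw [← hG, Nat.card_eq_fintype_card, Fintype.card_subtype]
  -- the class of a four-group
  let cls : Subgroup G → Finset (Subgroup G) := fun V =>
    Finset.univ.filter (fun W => ∃ g : G, W = V.map (MulAut.conj g).toMonoidHom)
  have hsub : ∀ V : Subgroup G, IsKleinFour V → cls V ⊆ K := by
    intro V hV W hW
    obtain ⟨-, g, rfl⟩ := Finset.mem_filter.mp hW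
    refine Finset.mem_filter.mpr ⟨Finset.mem_univ _, ?_⟩
    exact ⟨by rw [Subgroup.card_map_of_injective (MulAut.conj g).injective]; exact hV.card_four,
      by rw [← Monoid.exponent_eq_of_mulEquiv (Subgroup.equivMapOfInjective V _ (MulAut.conj g).injective)]; exact hV.exponent_two⟩
  have hcls : ∀ V : Subgroup G, IsKleinFour V → (cls V).card * Nat.card (Subgroup.normalizer (V : Set G)) = Nat.card G := by
    intro V hV
    set N := Subgroup.normalizer (V : Set G) with hN
    have key : ∀ g h : G, V.map (MulAut.conj g).toMonoidHom = V.map (MulAut.conj h).toMonoidHom ↔ g⁻¹ * h ∈ N := by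
      intro g h
      rw [hN]
      constructor
      · intro e
        refine mem_normalizer_of_forall fun v hv => ?_
        have : h * v * h⁻¹ ∈ V.map (MulAut.conj g).toMonoidHom := e ▸ Subgroup.mem_map_of_mem _ hv
        obtain ⟨w, hw, e'⟩ := this
        have e'' : g * w * g⁻¹ = h * v * h⁻¹ := e'
        have e3 : g⁻¹ * h * v * (g⁻¹ * h)⁻¹ = w := by
          calc g⁻¹ * h * v * (g⁻¹ * h)⁻¹ = g⁻¹ * (h * v * h⁻¹) * g := by group
            _ = g⁻¹ * (g * w * g⁻¹) * g := by rw [e'']
            _ = w := by group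
        rw [e3]; exact hw
      · intro hm
        ext x
        constructor
        · rintro ⟨v, hv, rfl⟩
          refine ⟨(g⁻¹ * h)⁻¹ * v * (g⁻¹ * h), ?_, ?_⟩
          · exact (Subgroup.mem_normalizer_iff''.mp hm v).mp hv
          · show h * _ * h⁻¹ = g * v * g⁻¹
            group
        · rintro ⟨v, hv, rfl⟩
          refine ⟨g⁻¹ * h * v * (g⁻¹ * h)⁻¹, (Subgroup.mem_normalizer_iff.mp hm v).mp hv, ?_⟩
          show g * _ * g⁻¹ = h * v * h⁻¹
          group
    let f : G ⧸ N → {W // W ∈ cls V} := Quotient.lift (s := QuotientGroup.leftRel N)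
      (fun g => (⟨V.map (MulAut.conj g).toMonoidHom, Finset.mem_filter.mpr ⟨Finset.mem_univ _, g, rfl⟩⟩ :
        {W // W ∈ cls V}))
      (fun g h hgh => Subtype.ext ((key g h).mpr (QuotientGroup.leftRel_apply.mp hgh)))
    have hf : Function.Bijective f := by
      constructor
      · intro x y
        induction x using QuotientGroup.induction_on with | H g => ?_
        induction y using QuotientGroup.induction_on with | H h => ?_
        intro e
        exact QuotientGroup.eq.mpr ((key g h).mp (congrArg Subtype.val e))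
      · rintro ⟨W, hW⟩
        obtain ⟨-, g, rfl⟩ := Finset.mem_filter.mp hW
        exact ⟨(g : G ⧸ N), rfl⟩
    rw [← Fintype.card_coe, ← Nat.card_eq_fintype_card, ← Nat.card_eq_of_bijective f hf,
      ← Subgroup.index_eq_card, Subgroup.index_mul_card]
  have hnorm : ∀ V : Subgroup G, IsKleinFour V →
      ((Fintype.card F % 8 = 1 ∨ Fintype.card F % 8 = 7) →
        Nat.card (Subgroup.normalizer (V : Set G)) = 24) ∧
      (¬ (Fintype.card F % 8 = 1 ∨ Fintype.card F % 8 = 7) →
        Nat.card (Subgroup.normalizer (V : Set G)) = 12) := by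
    intro V hV
    obtain ⟨x, y, h, rfl⟩ := exists_quat_of_isKleinFour hodd hV
    exact card_normalizer_klein p hodd h
  refine ⟨fun hm V W hV hW => ?_, fun hm => ?_⟩
  · obtain ⟨-, h12⟩ := hnorm V hV
    have h1 := hcls V hV
    rw [h12 (by omega), ← hKc, mul_comm] at h1
    have heq := Finset.eq_of_subset_of_card_le (hsub V hV) (le_of_eq (Nat.eq_of_mul_eq_mul_left (by norm_num) h1).symm)
    have hWK : W ∈ K := Finset.mem_filter.mpr ⟨Finset.mem_univ _, hW⟩
    rw [← heq] at hWK
    exact (Finset.mem_filter.mp hWK).2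
  · have hhalf : ∀ V : Subgroup G, IsKleinFour V → 2 * (cls V).card = K.card := by
      intro V hV
      obtain ⟨h24, -⟩ := hnorm V hV
      have h1 := hcls V hV
      rw [h24 hm, ← hKc] at h1
      omega
    obtain ⟨x, y, hxy⟩ := exists_quat (F := F) hodd
    have hV1 := hxy.isKleinFour (two_ne_zero_of_odd_card hodd)
    have hh := hhalf _ hV1
    have hpos : 0 < (cls hxy.klein).card := Finset.card_pos.mpr
      ⟨hxy.klein.map (MulAut.conj 1).toMonoidHom, Finset.mem_filter.mpr ⟨Finset.mem_univ _, 1, rfl⟩⟩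
    obtain ⟨V₂, hV₂⟩ : (K \ cls hxy.klein).Nonempty := Finset.card_pos.mp (by
      rw [Finset.card_sdiff_of_subset (hsub _ hV1)]; omega)
    obtain ⟨hV₂K, hV₂n⟩ := Finset.mem_sdiff.mp hV₂
    have hV2 := (Finset.mem_filter.mp hV₂K).2
    refine ⟨hxy.klein, V₂, hV1, hV2, fun hg => hV₂n (Finset.mem_filter.mpr ⟨Finset.mem_univ _, hg⟩),
      fun W hW => ?_⟩
    have hdisj : Disjoint (cls hxy.klein) (cls V₂) := by
      rw [Finset.disjoint_left]
      intro U h1 h2
      obtain ⟨-, g, rfl⟩ := Finset.mem_filter.mp h1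
      obtain ⟨-, k, hk⟩ := Finset.mem_filter.mp h2
      refine hV₂n (Finset.mem_filter.mpr ⟨Finset.mem_univ _, k⁻¹ * g, ?_⟩)
      have h3 : V₂ = (hxy.klein.map (MulAut.conj g).toMonoidHom).map (MulAut.conj k⁻¹).toMonoidHom := by
        rw [hk, Subgroup.map_map]
        conv_lhs => rw [← Subgroup.map_id V₂]
        congr 1
        refine MonoidHom.ext fun z => ?_
        simp [mul_assoc]
      rw [h3, Subgroup.map_map]
      congr 1
      refine MonoidHom.ext fun z => ?_
      simp [mul_assoc]
    have hu : cls hxy.klein ∪ cls V₂ = K := Finset.eq_of_subset_of_card_le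
      (Finset.union_subset (hsub _ hV1) (hsub _ hV2)) (by
        rw [Finset.card_union_of_disjoint hdisj]
        have := hhalf _ hV2
        omega)
    have hWK : W ∈ K := Finset.mem_filter.mpr ⟨Finset.mem_univ _, hW⟩
    rw [← hu] at hWK
    rcases Finset.mem_union.mp hWK with h | h
    · exact Or.inl (Finset.mem_filter.mp h).2
    · exact Or.inr (Finset.mem_filter.mp h).2

end Cfsg.Agent.S0808
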