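import Cfsg.Statements.S0809
import Cfsg.Agent.Lib.Classical.DicksonCentral
-- import your own Cfsg.Agent.* helpers here

set_option autoImplicit false
open Cfsg

namespace Cfsg.Agent.S0809
open Cfsg.Agent.Dickson Cfsg.Agent.PSL2Spec Cfsg.Agent.Grp.SL2


/-- In SL_2(q), q odd: any two subgroups of order 4 are conjugate, and the normaliser of a subgroup of order 4 has order 2(q − 1) if q ≡ 1 (mod 4) and 2(q + 1) if q ≡ 3 (mod 4); consequently all involutions of PSL_2(q) are conjugate. -/
theorem result {F : Type*} [Field F] [Fintype F] {q : ℕ} (hF : Fintype.card F = q) (hodd : Odd q) (A : Subgroup (Matrix.SpecialLinearGroup (Fin 2) F)) (hA : Nat.card A = 4) : (∀ B : Subgroup (Matrix.SpecialLinearGroup (Fin 2) F), Nat.card B = 4 → ∃ g : Matrix.SpecialLinearGroup (Fin 2) F, B = A.map (MulAut.conj g).toMonoidHom) ∧ (q % 4 = 1 → Nat.card ↥(Subgroup.normalizer (A : Set (Matrix.SpecialLinearGroup (Fin 2) F))) = 2 * (q - 1)) ∧ (q % 4 = 3 → Nat.card ↥(Subgroup.normalizer (A : Set (Matrix.SpecialLinearGroup (Fin 2)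 F))) = 2 * (q + 1)) ∧ (∀ x y : Matrix.ProjectiveSpecialLinearGroup (Fin 2) F, orderOf x = 2 → orderOf y = 2 → IsConj x y) := by
  subst hF
  classical
  obtain ⟨p, hc⟩ := CharP.exists F
  haveI : Fact p.Prime := ⟨CharP.char_is_prime F p⟩
  have h2 := two_ne_zero_of_odd_card hodd
  have hne1 : (-1 : Matrix.SpecialLinearGroup (Fin 2) F) ≠ 1 := fun e => by
    have := congrFun (congrFun (congrArg Subtype.val e) 0) 0
    simp at this
    exact h2 (by linear_combination -this)
  -- subgroups of order four are generated by elements squaring to minus one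
  have hgen : ∀ B : Subgroup (Matrix.SpecialLinearGroup (Fin 2) F), Nat.card B = 4 →
      ∃ x, x * x = -1 ∧ ¬ IsScalar x ∧ B = Subgroup.zpowers x := by
    intro B hB
    haveI : Fintype B := Fintype.ofFinite B
    obtain ⟨x, hx⟩ : ∃ x : B, ¬ IsScalar (x : Matrix.SpecialLinearGroup (Fin 2) F) := by
      by_contra hc'
      push Not at hc'
      have h4 : (Finset.univ : Finset B).map ⟨fun b : B => (b : Matrix.SpecialLinearGroup (Fin 2) F),
          Subtype.coe_injective⟩ ⊆ {1, -1} := by
        intro z hz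
        obtain ⟨b, -, rfl⟩ := Finset.mem_map.mp hz
        rcases hc' b with e | e <;> simp [e]
      have h5 := Finset.card_le_card h4
      rw [Finset.card_map, Finset.card_univ, ← Nat.card_eq_fintype_card, hB] at h5
      have := h5.trans Finset.card_le_two
      omega
    have hd : orderOf (x : Matrix.SpecialLinearGroup (Fin 2) F) ∣ 4 := hB ▸ B.orderOf_dvd_natCard x.2
    have h4 : (x : Matrix.SpecialLinearGroup (Fin 2) F) ^ 4 = 1 := orderOf_dvd_iff_pow_eq_one.mp hd
    have hxx : (x : Matrix.SpecialLinearGroup (Fin 2) F) * (x : Matrix.SpecialLinearGroup (Fin 2) F) ≠ 1 := fun e => hx (mul_self_eq_one h2 e)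
    have hsc : IsScalar ((x : Matrix.SpecialLinearGroup (Fin 2) F) * (x : Matrix.SpecialLinearGroup (Fin 2) F)) :=
      mul_self_eq_one h2 (by simpa [pow_succ, mul_assoc] using h4)
    refine ⟨x, hsc.resolve_left hxx, hx, (Subgroup.eq_of_le_of_card_ge (Subgroup.zpowers_le.mpr x.2) ?_).symm⟩
    have ho : orderOf (x : Matrix.SpecialLinearGroup (Fin 2) F) = 4 := by
      rw [show (4 : ℕ) = 2 ^ (1 + 1) by norm_num]
      haveI : Fact (Nat.Prime 2) := ⟨Nat.prime_two⟩
      refine orderOf_eq_prime_pow (fun e => hxx ?_) (by simpa using h4)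
      rw [← pow_two]; simpa using e
    rw [Nat.card_zpowers, ho, hB]
  obtain ⟨x, hxx, hxs, rfl⟩ := hgen A hA
  have hconj : ∀ y : Matrix.SpecialLinearGroup (Fin 2) F, y * y = -1 → ¬ IsScalar y →
      IsConj (Fus.PSLTwo.stdJ (F := F)) y := by
    intro y hy hys
    refine Fus.PSLTwo.isConj_stdJ (Nat.odd_iff.mp hodd) ?_
    have := (mul_self_eq_neg_one hys).mp hy
    unfold tr at this
    linear_combination this
  have ha : orderOf (proj x : Matrix.ProjectiveSpecialLinearGroup (Fin 2) F) = 2 :=
    orderOf_eq_prime (by rw [pow_two]; exact Quat.sq_proj hxx) (Quat.proj_ne_one h2 hxx)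
  obtain ⟨hinv1, hinvp, hinv2⟩ := involution_semi p hodd ha
  have hN : Nat.card (Subgroup.normalizer (Subgroup.zpowers x : Set (Matrix.SpecialLinearGroup (Fin 2) F))) =
      2 * (2 * Nat.card (tor (proj x : Matrix.ProjectiveSpecialLinearGroup (Fin 2) F))) := by
    set N := Subgroup.normalizer (Subgroup.zpowers x : Set (Matrix.SpecialLinearGroup (Fin 2) F)) with hNdef
    have hxinv : x⁻¹ = -x := inv_eq_of_mul_eq_one_right (by rw [mul_neg, hxx, neg_neg])
    have hpow : ∀ k : ℤ, x ^ k = 1 ∨ x ^ k = -1 ∨ x ^ k = x ∨ x ^ k = -x := by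
      intro k
      induction k using Int.induction_on with
      | zero => simp
      | succ n ih => rw [_root_.zpow_add_one]; rcases ih with e | e | e | e <;> rw [e] <;> simp [hxx]
      | pred n ih => rw [_root_.zpow_sub_one, hxinv]; rcases ih with e | e | e | e <;> rw [e] <;> simp [hxx]
    have hmemx : ∀ z, z ∈ Subgroup.zpowers x → ¬ IsScalar z → z = x ∨ z = -x := by
      intro z hz hs
      obtain ⟨k, rfl⟩ := Subgroup.mem_zpowers_iff.mp hz
      rcases hpow k with e | e | e | e
      · exact absurd (Or.inl e) hs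
      · exact absurd (Or.inr e) hs
      · exact Or.inl e
      · exact Or.inr e
    have hmap : N = (Subgroup.centralizer ({proj x} : Set (Matrix.ProjectiveSpecialLinearGroup (Fin 2) F))).comap proj := by
      ext g
      rw [Subgroup.mem_comap, Subgroup.mem_centralizer_singleton_iff]
      constructor
      · intro hg
        have h1 := (Subgroup.mem_normalizer_iff.mp hg x).mp (Subgroup.mem_zpowers x)
        rcases hmemx _ h1 (fun h => hxs ((IsScalar.conj_iff g).mp h)) with e | e
        · rw [← map_mul, ← map_mul, mul_inv_eq_iff_eq_mul.mp e]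
        · rw [← map_mul, ← map_mul, mul_inv_eq_iff_eq_mul.mp e, neg_mul, proj_neg]
      · intro hg
        refine mem_normalizer_of_forall fun z hz => ?_
        obtain ⟨k, rfl⟩ := Subgroup.mem_zpowers_iff.mp hz
        rw [← conj_zpow]
        refine Subgroup.zpow_mem _ ?_ k
        rw [← map_mul, ← map_mul] at hg
        rcases proj_eq_iff.mp hg with e | e
        · rw [← e, mul_inv_cancel_right]; exact Subgroup.mem_zpowers x
        · rw [show g * x = -(x * g) by rw [e, neg_neg], neg_mul, mul_inv_cancel_right, ← hxinv]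
          exact Subgroup.inv_mem _ (Subgroup.mem_zpowers x)
    have h := card_map_proj N (fun z hz => by
      rw [hmap, Subgroup.mem_comap, proj_one_iff.mpr hz]; exact Subgroup.one_mem _)
    rw [hmap, Subgroup.map_comap_eq_self_of_surjective proj_surjective, centralizer_involution p hinv1 hinvp hinv2,
      (normalizer_tor p hinv1 hinvp).1] at h
    have hdel : del F = 2 := by
      rcases del_cases F with ⟨-, he⟩ | ⟨h, -⟩
      · exact absurd he (Nat.not_even_iff_odd.mpr hodd)
      · exact h
    rw [hmap, centralizer_involution p hinv1 hinvp hinv2, ← h, hdel]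
    ring
  obtain ⟨-, h1, h3⟩ := card_tor_involution p hodd ha
  refine ⟨fun B hB => ?_, fun h => ?_, fun h => ?_, fun a b ha hb =>
    Fus.PSLTwo.involutions_conj (Nat.odd_iff.mp hodd) ha hb⟩
  · obtain ⟨y, hyy, hys, rfl⟩ := hgen B hB
    obtain ⟨g, hg⟩ := isConj_iff.mp ((hconj x hxx hxs).symm.trans (hconj y hyy hys))
    refine ⟨g, ?_⟩
    rw [MonoidHom.map_zpowers]
    exact congrArg Subgroup.zpowers hg.symm
  · rw [hN, h1 h]; omega
  · rw [hN, h3 h]; omega

end Cfsg.Agent.S0809
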