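import Cfsg.Statements.S0810
import Cfsg.Agent.Lib.Classical.DicksonTorusMax
-- import your own Cfsg.Agent.* helpers here

set_option autoImplicit false
open Cfsg

namespace Cfsg.Agent.S0810
open Cfsg.Agent.Dickson Cfsg.Agent.PSL2Spec

/-- PSL_2(q) is minimal simple iff q is 2^r (r prime), 3^r (r an odd prime), a prime greater than 5 congruent to 2 or 3 mod 5, or 5. -/
theorem result {F : Type*} [Field F] [Fintype F] {q : ℕ} (hF : Fintype.card F = q) : Cfsg.IsMinimalSimple (Matrix.ProjectiveSpecialLinearGroup (Fin 2) F) ↔ ((∃ r : ℕ, r.Prime ∧ q = 2 ^ r) ∨ (∃ r : ℕ, r.Prime ∧ r ≠ 2 ∧ q = 3 ^ r) ∨ (q.Prime ∧ 5 < q ∧ (q % 5 = 2 ∨ q % 5 = 3)) ∨ q = 5) := by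
  classical
  subst hF
  obtain ⟨p, hc⟩ := CharP.exists F
  haveI : Fact p.Prime := ⟨CharP.char_is_prime F p⟩
  have hp := (Fact.out : p.Prime)
  obtain ⟨n, -, hn⟩ := FiniteField.card F p
  constructor
  · rintro ⟨hsimple, hnc, hsolv⟩
    have hsub : ∀ d m : ℕ, d * m = n → d ≠ 0 → 1 < m → p ^ d < 4 := by
      intro d m hd hd0 hm
      by_contra hbig
      haveI : Fintype (GaloisField p d) := Fintype.ofFinite _
      have hKc : Fintype.card (GaloisField p d) = p ^ d := by
        rw [← Nat.card_eq_fintype_card, GaloisField.card p d hd0]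
      obtain ⟨φ⟩ := exists_ringHom_of_card_pow (F := F) (K := GaloisField p d) (m := m)
        (by rw [hKc, ← pow_mul, hd, hn])
      have hlt : Fintype.card (GaloisField p d) < Fintype.card F := by
        rw [hKc, hn, ← hd]
        exact Nat.pow_lt_pow_right hp.one_lt (lt_mul_of_one_lt_right (Nat.pos_of_ne_zero hd0) hm)
      haveI := hsolv _ (pslSub_ne_top φ hlt)
      obtain ⟨i⟩ := nonempty_pslSub φ
      exact not_solvable_psl (K := GaloisField p d) (by omega) (Group.isSolvable_of_surjective (f := i.toMonoidHom) i.surjective)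
    have h4 : 4 ≤ Fintype.card F := by
      by_contra hlt
      have := Fintype.one_lt_card (α := F)
      have hc24 : Nat.card (Matrix.ProjectiveSpecialLinearGroup (Fin 2) F) ≤ 24 := by
        have hG := card_psl (F := F)
        have hd := two_del_le (F := F)
        have : Fintype.card F * ((Fintype.card F - 1) * (Fintype.card F + 1)) ≤ 3 * (2 * 4) :=
          Nat.mul_le_mul (by omega) (Nat.mul_le_mul (by omega) (by omega))
        have : Nat.card (Matrix.ProjectiveSpecialLinearGroup (Fin 2) F) * 1 ≤
            Nat.card (Matrix.ProjectiveSpecialLinearGroup (Fin 2) F) * del F := Nat.mul_le_mul_left _ hd.1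
        omega
      refine hnc ⟨⟨fun a b => ?_⟩⟩
      exact IsSimpleGroup.comm_iff_isSolvable.mpr (Recog.ThreeInv.solvable_of_small (by omega)) a b
    rcases (show (n : ℕ) = 1 ∨ 2 ≤ (n : ℕ) by have := n.pos; omega) with h1 | h2
    · have hq : Fintype.card F = p := by rw [hn, h1, pow_one]
      rcases eq_or_ne p 5 with e | e
      · exact Or.inr (Or.inr (Or.inr (hq.trans e)))
      refine Or.inr (Or.inr (Or.inl ⟨hq ▸ hp, ?_, ?_⟩))
      · rcases (show Fintype.card F = 4 ∨ 5 ≤ Fintype.card F by omega) with h | h
        · exact absurd (h ▸ hq ▸ hp) (by norm_num)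
        · omega
      · rw [hq]
        by_contra h5
        have hp5 : p % 5 ≠ 0 := fun h => e ((Nat.prime_dvd_prime_iff_eq (by norm_num) hp).mp
          (Nat.dvd_of_mod_eq_zero h)).symm
        obtain ⟨H, ⟨i⟩⟩ := Ico.exists_alt5_iff.mpr (five_dvd_card_psl (K := F) (by
          rw [hq, Nat.pow_mod]; rcases (show p % 5 = 1 ∨ p % 5 = 4 by omega) with h | h <;> rw [h]))
        have hH : Nat.card H = 60 := by rw [Nat.card_congr i.toEquiv, nat_card_alternatingGroup, Nat.card_fin]; rfl
        have hHt : H ≠ ⊤ := fun e' => by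
          have hG := card_psl (F := F)
          rw [← Subgroup.card_top (G := Matrix.ProjectiveSpecialLinearGroup (Fin 2) F), ← e', hH, hq] at hG
          have hd := two_del_le (F := F)
          have : 11 ≤ p := by
            have hpo := Nat.odd_iff.mp (hp.odd_of_ne_two (by omega))
            by_contra hlt
            have h9 : p = 9 := by omega
            rw [h9] at hp
            norm_num at hp
          have : 11 * (10 * 12) ≤ p * ((p - 1) * (p + 1)) :=
            Nat.mul_le_mul (by omega) (Nat.mul_le_mul (by omega) (by omega))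
          omega
        haveI := hsolv H hHt
        haveI := alternatingGroup.isSimpleGroup_five
        have hs : Group.IsSolvable (alternatingGroup (Fin 5)) := Group.isSolvable_of_surjective (f := i.toMonoidHom) i.surjective
        have hcomm := IsSimpleGroup.comm_iff_isSolvable.mpr hs Ico.sA Ico.sB
        exact absurd hcomm (by decide)
    · -- a proper subfield must have two or three elements
      have hn' : (n : ℕ).Prime := by
        by_contra hnp
        obtain ⟨d, hd, hd2, hdn⟩ := Nat.exists_dvd_of_not_prime2 h2 hnp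
        obtain ⟨m, hm⟩ := hd
        have hm1 : 1 < m := by
          by_contra h
          rcases (show m = 0 ∨ m = 1 by omega) with e | e <;> subst e <;> omega
        have h4' := hsub d m hm.symm (by omega) hm1
        have := Nat.pow_le_pow_left hp.two_le d
        have := Nat.pow_le_pow_right (show 0 < 2 by norm_num) hd2
        omega
      have h1 := hsub 1 n (one_mul _) one_ne_zero (by omega)
      rw [pow_one] at h1
      rcases (show p = 2 ∨ p = 3 by have := hp.two_le; omega) with rfl | rfl
      · exact Or.inl ⟨n, hn', hn⟩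
      refine Or.inr (Or.inl ⟨n, hn', fun h => ?_, hn⟩)
      have hq : Fintype.card F = 9 := by rw [hn, h]; norm_num
      obtain ⟨H, ⟨i⟩⟩ := Ico.exists_alt5_iff.mpr (five_dvd_card_psl (K := F) (by rw [hq]; norm_num))
      have hH : Nat.card H = 60 := by rw [Nat.card_congr i.toEquiv, nat_card_alternatingGroup, Nat.card_fin]; rfl
      have hHt : H ≠ ⊤ := fun e' => by
        have hG := card_psl (F := F)
        rw [← Subgroup.card_top (G := Matrix.ProjectiveSpecialLinearGroup (Fin 2) F), ← e', hH, hq] at hG
        have hd := two_del_le (F := F)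
        omega
      haveI := hsolv H hHt
      haveI := alternatingGroup.isSimpleGroup_five
      have hs : Group.IsSolvable (alternatingGroup (Fin 5)) := Group.isSolvable_of_surjective (f := i.toMonoidHom) i.surjective
      exact absurd (IsSimpleGroup.comm_iff_isSolvable.mpr hs Ico.sA Ico.sB) (by decide)
  · intro hlist
    have h4 : 4 ≤ Fintype.card F := by
      rcases hlist with ⟨r, hr, e⟩ | ⟨r, hr, -, e⟩ | ⟨-, h, -⟩ | h
      · rw [e]; exact le_trans (by norm_num) (Nat.pow_le_pow_right (show 0 < 2 by norm_num) hr.two_le)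
      · rw [e]; exact le_trans (by norm_num) (Nat.pow_le_pow_right (show 0 < 3 by norm_num) hr.two_le)
      · omega
      · omega
    refine ⟨Classical.PSL_isSimple le_rfl fun _ => h4,
      fun h => not_solvable_psl h4 (Group.isSolvable_of_comm h.is_comm.comm), ?_⟩
    intro H hH
    obtain hT | ⟨M, hM, hle⟩ := eq_top_or_exists_le_coatom H
    · exact absurd hT hH
    suffices hMs : Group.IsSolvable M by
      exact Group.isSolvable_of_isSolvable_injective (Subgroup.inclusion_injective hle)
    cases coatom_cases p h4 hM with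
    | torus a ha hap h => exact h ▸ solvable_normalizer_tor p ha
    | borel a ha hap h => exact h ▸ solvable_normalizer_tor p ha
    | alt4 hq h8 h10 iso =>
      refine Recog.ThreeInv.solvable_of_small ?_
      rw [Nat.card_congr iso.some.toEquiv, nat_card_alternatingGroup, Nat.card_fin]; decide
    | perm4 hq h8 iso =>
      refine Recog.ThreeInv.solvable_of_small ?_
      rw [Nat.card_congr iso.some.toEquiv, Nat.card_perm, Nat.card_fin]; decide
    | alt5 hq h10 iso =>
      exfalso
      rcases hlist with ⟨r, hr, e⟩ | ⟨r, hr, hr2, e⟩ | ⟨hqp, h, h5⟩ | h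
      · obtain ⟨k, hk⟩ : Even (Fintype.card F) := e ▸ (even_two).pow_of_ne_zero hr.ne_zero
        omega
      · have h37 : Fintype.card F % 10 = 3 ∨ Fintype.card F % 10 = 7 := by
          obtain ⟨k, rfl⟩ := hr.odd_of_ne_two hr2
          rw [e, pow_succ, pow_mul, Nat.mul_mod, Nat.pow_mod]
          have h91 : ((3 ^ 2 % 10) ^ k % 10) = 1 ∨ ((3 ^ 2 % 10) ^ k % 10) = 9 := by
            clear e hr hr2
            induction k with
            | zero => norm_num
            | succ j ih => rw [pow_succ, Nat.mul_mod]; rcases ih with h | h <;> rw [h] <;> norm_num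
          rcases h91 with h | h <;> rw [h] <;> norm_num
        omega
      · omega
      · omega
    | subfield L r x hr hc' h3 h =>
      subst h
      rcases hlist with ⟨s, hs, e⟩ | ⟨s, hs, hs2, e⟩ | ⟨hqp, -, -⟩ | h
      · exfalso
        rw [e] at hc'
        obtain ⟨j, -, hj⟩ := (Nat.dvd_prime_pow Nat.prime_two).mp (hc' ▸ dvd_pow_self (Nat.card L) hr.ne_zero)
        rw [hj, ← pow_mul] at hc'
        rcases hs.eq_one_or_self_of_dvd j ⟨r, (Nat.pow_right_injective le_rfl hc').symm⟩ with e' | e'
        · rw [hj, e'] at h3; omega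
        · rw [e'] at hc'
          have h' := Nat.pow_right_injective le_rfl hc'
          have : r = 1 := Nat.eq_of_mul_eq_mul_left hs.pos (by rw [h', mul_one])
          exact hr.ne_one this
      · refine Recog.ThreeInv.solvable_of_small ((card_sfOver_le hr hc' x).trans ?_)
        rw [e] at hc'
        obtain ⟨j, -, hj⟩ := (Nat.dvd_prime_pow Nat.prime_three).mp (hc' ▸ dvd_pow_self (Nat.card L) hr.ne_zero)
        rw [hj, ← pow_mul] at hc'
        rcases hs.eq_one_or_self_of_dvd j ⟨r, (Nat.pow_right_injective (by norm_num) hc').symm⟩ with e' | e'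
        · rw [hj, e']; norm_num
        · rw [e'] at hc'
          have h' := Nat.pow_right_injective (show 2 ≤ 3 by norm_num) hc'
          have : r = 1 := Nat.eq_of_mul_eq_mul_left hs.pos (by rw [h', mul_one])
          exact absurd this hr.ne_one
      · exact absurd (hc' ▸ hqp) (Nat.Prime.not_prime_pow hr.two_le)
      · exact absurd (hc' ▸ h ▸ (by norm_num : Nat.Prime 5)) (Nat.Prime.not_prime_pow hr.two_le)

end Cfsg.Agent.S0810
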