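import Cfsg.Statements.S0818
import Cfsg.Agent.Lib.Classical.OrthMinusModel

set_option autoImplicit false
open Cfsg Cfsg.Agent.Classical Cfsg.Agent.Classical.OrthAut

namespace Cfsg.Agent.S0818

/-- |Aut(PΩ⁻_2m(q))| for q = p^f, m ≥ 4 (form quadFormMinus (m−1) with anisotropic binary part): |PΩ⁻_2m(q)| times f, times 2 if p = 2, and times 4 or 8 if p is odd according as m(q−1)/2 is even or odd. -/
theorem result {F : Type*} [Field F] [Fintype F] (p f : ℕ) [Fact p.Prime] (hf : 1 ≤ f) (hF : Fintype.card F = p ^ f) (m : ℕ) (hm : 4 ≤ m) (a b : F) (hab : ∀ z₁ z₂ : F, z₁ ^ 2 + a * z₁ * z₂ + b * z₂ ^ 2 = 0 → z₁ = 0 ∧ z₂ = 0) : Nat.card (MulAut (Cfsg.POmega F (Cfsg.quadFormMinus (m - 1) F a b))) = (if p = 2 then 2 else (if Even (m * (p ^ f - 1) / 2) then 4 else 8)) * f * Nat.card (Cfsg.POmega F (Cfsg.quadFormMinus (m - 1) F a b)) := by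
  obtain ⟨m, rfl⟩ : ∃ k, m = k + 1 := ⟨m - 1, by omega⟩
  rw [show m + 1 - 1 = m from rfl, ← coe_qfMinus]
  have H := evenSpace_minus (m := m) (by omega) hab
  obtain ⟨-, hRc⟩ := PSLAut.card_ringAut hF
  by_cases hp : p = 2
  · subst hp
    haveI : CharP F 2 := charP_of_card_eq_prime_pow hF
    rw [if_pos rfl, H.card_mulAut_two CharTwo.two_eq_zero, hRc]
  · have h2 := two_ne_zero_of_card hF hp
    have hiff := isSquare_gramD_iff (m := m) (by omega) hab hF hp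
    have hodd : p ^ f % 2 = 1 := Nat.odd_iff.1 (((Fact.out : p.Prime).odd_of_ne_two hp).pow)
    obtain ⟨u, hu⟩ : ∃ u, p ^ f = 2 * u + 1 := ⟨p ^ f / 2, by omega⟩
    have he : ¬ Even ((m + 1) * (p ^ f - 1) / 2) ↔ p ^ f % 4 = 3 ∧ Odd (m + 1) := by
      rw [show p ^ f - 1 = u * 2 by omega, ← mul_assoc, Nat.mul_div_cancel _ (by norm_num : 0 < 2),
        Nat.not_even_iff_odd, Nat.odd_mul, and_comm]
      refine and_congr_left fun _ => ?_
      rw [Nat.odd_iff]; omega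
    rw [if_neg hp]
    by_cases hD : IsSquare (H.gramD : F)
    · rw [if_neg (he.2 (hiff.1 hD)), H.card_mulAut_omega_mem h2 hD, hRc]
    · rw [if_pos (not_not.1 fun h => hD (hiff.2 (he.1 h))), (H.card_mulAut_omega_ne h2 hD).2, hRc]

end Cfsg.Agent.S0818
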