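import Cfsg.Statements.S0821
import Cfsg.Agent.Lib.Classical.TwoRankOrth
import Cfsg.Agent.Lib.Classical.TwoRankSymp

set_option autoImplicit false
open Cfsg Cfsg.Agent.Classical Cfsg.Agent.Classical.OrthAut

namespace Cfsg.Agent.S0821

/-- PSp_2m(q) ≇ PΩ_(2m+1)(q) for q odd and m ≥ 3 (they have the same order). -/
theorem result {F : Type*} [Field F] [Fintype F] (hodd : Odd (Fintype.card F)) (m : ℕ) (hm : 3 ≤ m) : IsEmpty (Cfsg.PSp m F ≃* Cfsg.POmega F (Cfsg.quadFormOdd m F)) := by
  classical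
  have h2 : (2 : F) ≠ 0 := by
    intro h
    have hc : CharP F 2 := (CharP.charP_iff_prime_eq_zero Nat.prime_two).2 (by exact_mod_cast h)
    obtain ⟨n, hn, hcard⟩ := FiniteField.card F 2
    rw [hcard, Nat.odd_pow_iff n.pos.ne'] at hodd
    exact absurd hodd (by decide)
  refine ⟨fun e => ?_⟩
  rw [← coe_qfOdd] at e
  obtain ⟨E, hE, hc⟩ := TwoRank.pomega_elementary h2 hm
  have := TwoRank.psp_elementary_bound h2 hm (E.map e.symm.toMonoidHom) (by
    rintro _ ⟨x, hx, rfl⟩
    rw [← map_mul, hE x hx, map_one])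
  rw [Subgroup.card_map_of_injective (f := e.symm.toMonoidHom) e.symm.injective] at this
  omega

end Cfsg.Agent.S0821
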