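import Cfsg.Statements.S0823
import Cfsg.Agent.Lib.Classical.SO3Three
import Cfsg.Agent.S0286
-- import your own Cfsg.Agent.* helpers here

set_option autoImplicit false
open Cfsg

namespace Cfsg.Agent.S0823

/-- SO_3(3) ≅ S_4: the determinant-one isometries of the form x_0² + x_1y_1 over the field with 3 elements form a group isomorphic to the symmetric group on 4 letters. -/
theorem result {F : Type*} [Field F] [Fintype F] (hF : Fintype.card F = 3) : Nonempty (↥(Cfsg.specialIsometryGroup F (Cfsg.quadFormOdd 1 F)) ≃* Equiv.Perm (Fin 4)) := by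
  haveI : Fact (Nat.Prime 3) := ⟨Nat.prime_three⟩
  have r : F ≃+* ZMod 3 := (ZMod.ringEquivOfPrime F Nat.prime_three hF).symm
  have h' : ∀ v : Unit ⊕ (Fin 1 ⊕ Fin 1) → ZMod 3, r.symm (Cfsg.quadFormOdd 1 (ZMod 3) v) =
      Cfsg.quadFormOdd 1 F (fun i => r.symm (v i)) := fun v => by simp [Cfsg.quadFormOdd, map_sum]
  let g : Equiv.Perm (Fin 4) →* Cfsg.isometryGroup F (Cfsg.quadFormOdd 1 F) :=
    ((Matrix.GeneralLinearGroup.map r.symm.toRingHom).comp
      ((Subgroup.subtype _).comp Classical.SO3Three.isoHom)).codRestrict _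
      fun σ => Classical.IsometryTransport.map_mem r.symm h' (Classical.SO3Three.isoHom σ).2
  have hmem : ∀ σ, g σ ∈ Cfsg.specialIsometryGroup F (Cfsg.quadFormOdd 1 F) := by
    intro σ
    refine MonoidHom.mem_ker.2 (Units.ext ?_)
    show ((Classical.SO3Three.mat σ).map r.symm.toRingHom).det = 1
    rw [← RingHom.mapMatrix_apply, ← RingHom.map_det, Classical.SO3Three.mat_det, map_one]
  have hg : Function.Injective g := fun σ τ h => Classical.SO3Three.isoHom_injective (Subtype.ext (Units.ext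
    (Matrix.ext fun i j => r.symm.injective (congrFun (congrFun (congrArg
      (fun x : Matrix.GeneralLinearGroup (Unit ⊕ (Fin 1 ⊕ Fin 1)) F => (x : Matrix (Unit ⊕ (Fin 1 ⊕ Fin 1)) (Unit ⊕ (Fin 1 ⊕ Fin 1)) F))
      (congrArg Subtype.val h)) i) j))))
  have hinj : Function.Injective (g.codRestrict _ hmem) := fun σ τ h => hg (congrArg Subtype.val h)
  have hO : Nat.card (Cfsg.isometryGroup F (Cfsg.quadFormOdd 1 F)) = 48 := by
    rw [Cfsg.Agent.S0286.result (F := F) hF (by decide) 1]
    norm_num [Finset.prod_range_succ]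
  set d := Matrix.GeneralLinearGroup.det.comp (Cfsg.isometryGroup F (Cfsg.quadFormOdd 1 F)).subtype
  let neg : Cfsg.isometryGroup F (Cfsg.quadFormOdd 1 F) := ⟨-1, fun u v => by
    simp [Cfsg.quadFormOdd, Matrix.neg_mulVec]⟩
  have hneg : ((d neg : Fˣ) : F) = -1 := by
    show (-(1 : Matrix (Unit ⊕ (Fin 1 ⊕ Fin 1)) (Unit ⊕ (Fin 1 ⊕ Fin 1)) F)).det = -1
    rw [Matrix.det_neg, Matrix.det_one, mul_one]
    norm_num
  have hrange : 2 ≤ Nat.card d.range := by
    refine Finite.one_lt_card_iff_nontrivial.2 ⟨⟨1, one_mem _⟩, ⟨d neg, neg, rfl⟩, fun h => ?_⟩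
    have h1 := congrArg (fun x : d.range => ((x : Fˣ) : F)) h
    simp only [Units.val_one] at h1
    rw [hneg] at h1
    have h3 := congrArg r h1
    rw [map_one, map_neg, map_one] at h3
    exact absurd h3 (show ¬ ((1 : ZMod 3) = -1) from of_decide_eq_false rfl)
  have hker : Nat.card (Cfsg.specialIsometryGroup F (Cfsg.quadFormOdd 1 F)) ≤ 24 := by
    have h := Subgroup.card_mul_index d.ker
    rw [Subgroup.index_ker, hO] at h
    show Nat.card d.ker ≤ 24
    nlinarith
  exact ⟨(MulEquiv.ofBijective _ (hinj.bijective_of_nat_card_le (hker.trans (by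
    rw [Nat.card_perm, Nat.card_fin]; rfl)))).symm⟩

end Cfsg.Agent.S0823
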