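import Cfsg.Statements.S0825
import Cfsg.Agent.Lib.Classical.HeartPlusSix
import Cfsg.Agent.S0287
-- import your own Cfsg.Agent.* helpers here

set_option autoImplicit false
open Cfsg

namespace Cfsg.Agent.S0825

/-- O⁺_6(2) ≅ S_8: the isometry group of the hyperbolic form x_1y_1 + x_2y_2 + x_3y_3 over the field with 2 elements is isomorphic to the symmetric group on 8 letters. -/
theorem result {F : Type*} [Field F] [Fintype F] (hF : Fintype.card F = 2) : Nonempty (↥(Cfsg.isometryGroup F (Cfsg.quadFormPlus 3 F)) ≃* Equiv.Perm (Fin 8)) := by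
  haveI : Fact (Nat.Prime 2) := ⟨Nat.prime_two⟩
  obtain ⟨e⟩ := Classical.IsometryTransport.isometry_iso (ZMod.ringEquivOfPrime F Nat.prime_two hF).symm
    (Cfsg.quadFormPlus 3 F) (Cfsg.quadFormPlus 3 (ZMod 2)) (fun v => by simp [Cfsg.quadFormPlus, map_sum])
  have hcard : Nat.card (Cfsg.isometryGroup (ZMod 2) (Cfsg.quadFormPlus 3 (ZMod 2))) = 40320 := by
    rw [Cfsg.Agent.S0287.result (F := ZMod 2) (q := 2) (ZMod.card 2) 3 (by norm_num)]
    norm_num [Finset.prod_range_succ]
  exact ⟨e.trans (MulEquiv.ofBijective _ (Classical.HeartPlusSix.hom8_injective.bijective_of_nat_card_le (by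
    rw [hcard, Nat.card_perm, Nat.card_fin]; rfl))).symm⟩

end Cfsg.Agent.S0825
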