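import Cfsg.Statements.S0831
import Cfsg.Agent.Lib.Classical.HalfParity
-- import your own Cfsg.Agent.* helpers here

set_option autoImplicit false
open Cfsg

namespace Cfsg.Agent.S0831
open Cfsg.Agent.Classical Cfsg.Agent.Classical.OrthAut Cfsg.Agent.Classical.HalfPar

/-- The two families of maximal totally singular subspaces of the hyperbolic quadric: for the form Σ x_i y_i on F^(2m), m ≥ 1, and m-dimensional subspaces U, W, X on which it vanishes, the parities of m − dim(U ∩ W), m − dim(W ∩ X) and m − dim(U ∩ X) sum to an even number (so 'even codimension of the intersection' is an equivalence relation), and there exist two such subspaces meeting in codimension 1 (so there are exactly two classes). -/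
theorem result {F : Type*} [Field F] (m : ℕ) (hm : 1 ≤ m) : (∀ U W X : Submodule F (Fin m ⊕ Fin m → F), (Module.finrank F U = m ∧ ∀ w ∈ U, Cfsg.quadFormPlus m F w = 0) → (Module.finrank F W = m ∧ ∀ w ∈ W, Cfsg.quadFormPlus m F w = 0) → (Module.finrank F X = m ∧ ∀ w ∈ X, Cfsg.quadFormPlus m F w = 0) → Even ((m - Module.finrank F ↥(U ⊓ W)) + (m - Module.finrank F ↥(W ⊓ X)) + (m - Module.finrank F ↥(U ⊓ X)))) ∧ ∃ U W : Submodule F (Fin m ⊕ Fin m → F), (Module.finrank F U = m ∧ ∀ w ∈ U, Cfsg.quadFormPlus m F w = 0) ∧ (Module.finrank F W = m ∧ ∀ w ∈ W, Cfsg.quadFormPlus m F w = 0) ∧ Module.finrank F ↥(U ⊓ W) + 1 = m := by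
  have hc : Fintype.card (Fin m ⊕ Fin m) = 2 * m := by simp; omega
  have hQ := nondegenerate_qfPlus (F := F) m
  have toHalf : ∀ U : Submodule F (Fin m ⊕ Fin m → F), (Module.finrank F U = m ∧ ∀ w ∈ U, quadFormPlus m F w = 0) →
      Half (qfPlus m F) U := fun U h => ⟨fun u hu => by rw [qfPlus_apply]; exact h.2 u hu, by rw [hc, h.1]⟩
  have ofHalf : ∀ U : Submodule F (Fin m ⊕ Fin m → F), Half (qfPlus m F) U →
      (Module.finrank F U = m ∧ ∀ w ∈ U, quadFormPlus m F w = 0) := fun U h =>
    ⟨by have := h.2; omega, fun u hu => by rw [← qfPlus_apply]; exact h.1 u hu⟩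
  refine ⟨fun U W X hU hW hX => even_triangle hQ hc (toHalf U hU) (toHalf W hW) (toHalf X hX), ?_⟩
  obtain ⟨W₀, h0⟩ := exists_half_plus m F
  obtain ⟨W₁, h1, h2⟩ := exists_adjacent hQ hc hm h0
  exact ⟨W₀, W₁, ofHalf _ h0, ofHalf _ h1, h2⟩

end Cfsg.Agent.S0831
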