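import Cfsg.Statements.S0832
import Cfsg.Agent.Lib.Classical.HalfParity
-- import your own Cfsg.Agent.* helpers here

set_option autoImplicit false
open Cfsg

namespace Cfsg.Agent.S0832
open Cfsg.Agent.Classical Cfsg.Agent.Classical.OrthAut Cfsg.Agent.Classical.HalfPar

/-- For the form Σ x_i y_i on F^(2m) over a finite field, m ≥ 1: an (m−1)-dimensional subspace on which the form vanishes is contained in exactly two m-dimensional subspaces on which it vanishes. -/
theorem result {F : Type*} [Field F] [Finite F] (m : ℕ) (hm : 1 ≤ m) (U : Submodule F (Fin m ⊕ Fin m → F)) (hU : Module.finrank F U + 1 = m ∧ ∀ u ∈ U, Cfsg.quadFormPlus m F u = 0) : Nat.card {W : Submodule F (Fin m ⊕ Fin m → F) // Module.finrank F W = m ∧ (∀ w ∈ W, Cfsg.quadFormPlus m F w = 0) ∧ U ≤ W} = 2 := by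
  have hc : Fintype.card (Fin m ⊕ Fin m) = 2 * m := by simp; omega
  have hQ := nondegenerate_qfPlus (F := F) m
  obtain ⟨W₀, h0, hle⟩ := exists_extend hQ hc (exists_half_plus m F).choose_spec hU.1
    (fun u hu => by rw [qfPlus_apply]; exact hU.2 u hu)
  obtain ⟨W₁, h1, hle1, hne, -, hall⟩ := exists_pair_extend hQ hc h0 hU.1 hle
  have mem : ∀ W, Half (qfPlus m F) W → U ≤ W →
      Module.finrank F W = m ∧ (∀ w ∈ W, quadFormPlus m F w = 0) ∧ U ≤ W := fun W h h' =>
    ⟨by have := h.2; omega, fun u hu => by rw [← qfPlus_apply]; exact h.1 u hu, h'⟩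
  rw [Nat.card_eq_two_iff]
  refine ⟨⟨W₀, mem W₀ h0 hle⟩, ⟨W₁, mem W₁ h1 hle1⟩, fun e => hne (congrArg Subtype.val e).symm, ?_⟩
  refine Set.eq_univ_iff_forall.2 fun W => ?_
  rcases hall W.1 ⟨fun u hu => by rw [qfPlus_apply]; exact W.2.2.1 u hu, by rw [hc, W.2.1]⟩ W.2.2.2 with e | e
  · exact Or.inl (Subtype.ext e)
  · exact Or.inr (Subtype.ext e)

end Cfsg.Agent.S0832
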