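import Cfsg.Statements.S0836
import Mathlib
import Cfsg.Agent.Lib.Classical.SLGroup


set_option autoImplicit false
open Cfsg

namespace Cfsg.Agent.S0836


/-- For i ≠ j and any scalar c, the elementary transvection 1 + c E_ij is a commutator ⁅g, h⁆ of two elements of SL_n(F) provided n ≥ 3, or n = 2 and F contains x ≠ 0 with x² ≠ 1. -/
theorem result {F : Type*} [Field F] (n : ℕ) (hn : 3 ≤ n ∨ (n = 2 ∧ ∃ x : F, x ≠ 0 ∧ x ^ 2 ≠ 1)) (i j : Fin n) (hij : i ≠ j) (c : F) (t : Matrix.SpecialLinearGroup (Fin n) F) (ht : (t : Matrix (Fin n) (Fin n) F) = Matrix.transvection i j c) : t ∈ commutatorSet (Matrix.SpecialLinearGroup (Fin n) F) := by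
  obtain rfl : t = Matrix.SpecialLinearGroup.transvection hij c :=
    Subtype.ext (ht.trans (Matrix.SpecialLinearGroup.transvection_coe hij c).symm)
  rcases hn with hn | ⟨rfl, x, hx, hx2⟩
  · obtain ⟨k, -, hk⟩ := Finset.exists_mem_notMem_of_card_lt_card (s := ({i, j} : Finset (Fin n)))
      (t := Finset.univ) (lt_of_le_of_lt Finset.card_le_two (by simp; omega))
    simp only [Finset.mem_insert, Finset.mem_singleton, not_or] at hk
    exact ⟨_, _, Classical.transvection_eq_commutator hij (Ne.symm hk.1) hk.2 c⟩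
  · refine ⟨Matrix.SpecialLinearGroup.diag2n hij x hx,
      Matrix.SpecialLinearGroup.transvection hij (c / (x ^ 2 - 1)), ?_⟩
    have hx21 : x ^ 2 - 1 ≠ 0 := sub_ne_zero.2 hx2
    have hinv : (Matrix.SpecialLinearGroup.diag2n hij x hx)⁻¹ =
        Matrix.SpecialLinearGroup.diag2n hij x⁻¹ (inv_ne_zero hx) := by
      refine inv_eq_of_mul_eq_one_right (Subtype.ext ?_)
      ext a b
      simp [Matrix.SpecialLinearGroup.diag2n_coe, Matrix.diagonal_apply, Matrix.one_apply]
      split_ifs <;> simp_all
    rw [commutatorElement_def, hinv, Matrix.SpecialLinearGroup.transvection_inv]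
    refine Subtype.ext (Matrix.ext_iff_mulVec.2 fun v => funext fun k => ?_)
    simp only [Matrix.SpecialLinearGroup.coe_mul, Matrix.SpecialLinearGroup.transvection_coe,
      Matrix.SpecialLinearGroup.diag2n_coe, ← Matrix.mulVec_mulVec, Matrix.transvection,
      Matrix.add_mulVec, Matrix.one_mulVec, Matrix.single_mulVec_eq, Matrix.mulVec_diagonal]
    simp only [Pi.add_apply, Pi.smul_apply, smul_eq_mul, Pi.single_apply, Matrix.mulVec_diagonal]
    by_cases hki : k = i
    · subst hki; simp [hij, hij.symm]; field_simp; ring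
    · by_cases hkj : k = j
      · subst hkj; simp [hij, hij.symm]; field_simp
      · simp [hki, hkj]

end Cfsg.Agent.S0836
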