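import Cfsg.Statements.S0838
import Mathlib
import Cfsg.Agent.Lib.Classical.QuadClass


set_option autoImplicit false
open Cfsg

namespace Cfsg.Agent.S0838


/-- Over a finite field with 2 ≠ 0 and n odd: two quadratic forms Q₁, Q₂ on F^n with non-degenerate polar forms are similar — there are an invertible linear map g and a scalar c ≠ 0 with Q₂ (g v) = c · Q₁ v for all v. -/
theorem result {F : Type*} [Field F] [Fintype F] (h2 : (2 : F) ≠ 0) {n : ℕ} (hn : Odd n) (Q₁ Q₂ : QuadraticForm F (Fin n → F)) (h₁ : (QuadraticMap.polarBilin Q₁).Nondegenerate) (h₂ : (QuadraticMap.polarBilin Q₂).Nondegenerate) : ∃ (g : (Fin n → F) ≃ₗ[F] (Fin n → F)) (c : F), c ≠ 0 ∧ ∀ v, Q₂ (g v) = c * Q₁ v := by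
  classical
  let b := Pi.basisFun F (Fin n)
  set d₁ := Cfsg.Agent.Classical.gramDet (QuadraticMap.polarBilin Q₁) b with hd₁
  set d₂ := Cfsg.Agent.Classical.gramDet (QuadraticMap.polarBilin Q₂) b with hd₂
  have n₁ : d₁ ≠ 0 := Cfsg.Agent.Classical.gramDet_ne_zero h₁ b
  have n₂ : d₂ ≠ 0 := Cfsg.Agent.Classical.gramDet_ne_zero h₂ b
  set c := d₁ * d₂
  have hc : c ≠ 0 := mul_ne_zero n₁ n₂
  have hpol : QuadraticMap.polarBilin (c • Q₁) = c • QuadraticMap.polarBilin Q₁ := by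
    ext u v; simp [QuadraticMap.polar, mul_sub]
  have hnd : (QuadraticMap.polarBilin (c • Q₁)).Nondegenerate := by
    refine (LinearMap.BilinForm.nondegenerate_iff_det_ne_zero b).2 ?_
    show Cfsg.Agent.Classical.gramDet _ b ≠ 0
    rw [hpol, Cfsg.Agent.Classical.gramDet_smul]
    exact mul_ne_zero (pow_ne_zero _ hc) n₁
  obtain ⟨g, hg⟩ := (Cfsg.Agent.Classical.isometric_iff_disc h2 hnd h₂ b b rfl).2 (by
    rw [hpol, Cfsg.Agent.Classical.gramDet_smul, Fintype.card_fin, ← hd₁, ← hd₂]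
    obtain ⟨k, rfl⟩ := hn
    exact ⟨c ^ (k + 1), by ring⟩)
  exact ⟨g, c, hc, fun v => by rw [hg]; rfl⟩

end Cfsg.Agent.S0838
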