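import Cfsg.Statements.S0839
import Mathlib
import Cfsg.Agent.Lib.Classical.Transvection


set_option autoImplicit false
open Cfsg

namespace Cfsg.Agent.S0839


/-- Every transvection t ∈ SL_(n+2)(F) (rank(t − 1) = 1, (t − 1)² = 0) is conjugate in SL_(n+2)(F) to 1 + v·e_0ᵀ for some column vector v with v_0 = 0 (the group A of matrices that are the identity except in the first column below the diagonal); the dimension is written n + 2 ≥ 2. -/
theorem result {F : Type*} [Field F] (n : ℕ) (t : Matrix.SpecialLinearGroup (Fin (n + 2)) F) (ht : Cfsg.IsTransvection (t : Matrix (Fin (n + 2)) (Fin (n + 2)) F)) : ∃ (g : Matrix.SpecialLinearGroup (Fin (n + 2)) F) (v : Fin (n + 2) → F), v 0 = 0 ∧ ((g⁻¹ * t * g : Matrix.SpecialLinearGroup (Fin (n + 2)) F) : Matrix (Fin (n + 2)) (Fin (n + 2)) F) = 1 + Matrix.vecMulVec v (Pi.single 0 1) := by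
  obtain ⟨v, φ, hv, hφ, hM⟩ := Cfsg.Agent.Classical.exists_vecMulVec_of_rank_eq_one ht.1
  have h0 := Cfsg.Agent.Classical.dotProduct_eq_zero_of_vecMulVec_sq hv hφ (hM ▸ ht.2)
  obtain ⟨g, w, hw0, hg⟩ := Cfsg.Agent.Classical.exists_sl_conj_col hφ h0
  refine ⟨g, w, hw0, ?_⟩
  have ht' : (t : Matrix (Fin (n + 2)) (Fin (n + 2)) F) = 1 + Matrix.vecMulVec v φ := by
    rw [← hM]; abel
  rw [Matrix.SpecialLinearGroup.coe_mul, Matrix.SpecialLinearGroup.coe_mul, ht', Matrix.mul_add,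
    mul_one, Matrix.add_mul, ← Matrix.SpecialLinearGroup.coe_mul, inv_mul_cancel,
    Matrix.SpecialLinearGroup.coe_one, hg]

end Cfsg.Agent.S0839
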