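import Cfsg.Statements.S0841
import Cfsg.Agent.Lib.Char.Eigen

set_option autoImplicit false
open Cfsg

namespace Cfsg.Agent.S0841

open Cfsg.Agent.Char
open scoped commutatorElement

/-- If the commutator subgroup of G lies in the centre, then for all x, y in G and every natural number n one has (x * y) ^ n = x ^ n * y ^ n * c ^ (n * (n - 1) / 2) with c = y⁻¹ * x⁻¹ * y * x. -/
theorem result {G : Type*} [Group G] (hG : commutator G ≤ Subgroup.center G) (x y : G) (n : ℕ) : (x * y) ^ n = x ^ n * y ^ n * (y⁻¹ * x⁻¹ * y * x) ^ (n * (n - 1) / 2) := by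
  set c := y⁻¹ * x⁻¹ * y * x with hc
  have hcen : ∀ z, c * z = z * c := by
    intro z
    have : c ∈ Subgroup.center G := hG (by
      have h2 : c = ⁅y⁻¹, x⁻¹⁆ := by rw [hc, commutatorElement_def, inv_inv, inv_inv]
      rw [h2]
      exact Subgroup.commutator_mem_commutator (Subgroup.mem_top _) (Subgroup.mem_top _))
    exact ((Subgroup.mem_center_iff.mp this) z).symm
  have hcC : ∀ z, Commute c z := hcen
  have hyx : y * x = x * y * c := by rw [hc]; group
  have hy : ∀ m : ℕ, y ^ m * x = x * y ^ m * c ^ m := by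
    intro m
    induction m with
    | zero => simp
    | succ m ih =>
      calc y ^ (m + 1) * x = y ^ m * (y * x) := by rw [pow_succ, mul_assoc]
        _ = y ^ m * x * (y * c) := by rw [hyx]; group
        _ = x * y ^ m * (c ^ m * y) * c := by rw [ih]; group
        _ = x * y ^ m * (y * c ^ m) * c := by rw [((hcC y).pow_left m).eq]
        _ = x * y ^ (m + 1) * c ^ (m + 1) := by rw [pow_succ, pow_succ]; group
  induction n with
  | zero => simp
  | succ m ih =>
    rw [pow_succ, ih, Nat.succ_sub_one]
    have e : (m + 1) * m / 2 = m * (m - 1) / 2 + m := by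
      rcases m with _ | k
      · simp
      · rw [Nat.succ_sub_one]
        have : (k + 1 + 1) * (k + 1) = (k + 1) * k + (k + 1) * 2 := by ring
        rw [this, Nat.add_mul_div_right _ _ (by norm_num)]
    rw [e, pow_add c]
    set d := c ^ (m * (m - 1) / 2) with hd
    have hdx : ∀ z, d * z = z * d := fun z => ((hcC z).pow_left _).eq
    calc x ^ m * y ^ m * d * (x * y) = x ^ m * (y ^ m * x) * y * d := by
          rw [mul_assoc (x ^ m * y ^ m) d, hdx]; group
      _ = x ^ m * x * y ^ m * (c ^ m * y) * d := by rw [hy]; group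
      _ = x ^ m * x * y ^ m * (y * c ^ m) * d := by rw [((hcC y).pow_left m).eq]
      _ = x ^ (m + 1) * y ^ (m + 1) * (c ^ m * d) := by rw [pow_succ, pow_succ]; group
      _ = x ^ (m + 1) * y ^ (m + 1) * (d * c ^ m) := by rw [hdx (c ^ m)]

end Cfsg.Agent.S0841
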