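import Cfsg.Statements.S0845
import Cfsg.Agent.Lib.Char.QuaternionZStar

set_option autoImplicit false
open Cfsg

namespace Cfsg.Agent.S0845

/-- Suppose a Sylow 2-subgroup S of the finite group G is generalized quaternion of order at least 16. Then G has a normal subgroup M of even order such that G / M is non-abelian, that is, M does not contain the commutator subgroup of G. -/
theorem result {G : Type*} [Group G] [Finite G] (S : Sylow 2 G) (n : ℕ) (e : (S : Subgroup G) ≃* QuaternionGroup (2 ^ (n + 2))) : ∃ M : Subgroup G, M.Normal ∧ Even (Nat.card M) ∧ ¬ commutator G ≤ M := by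
  haveI : Fact (Nat.Prime 2) := ⟨Nat.prime_two⟩
  obtain ⟨M, hMn, -, j, hj, hMc⟩ := Cfsg.Agent.Char.QD.exists_involution_normal S n e
  refine ⟨M, hMn, hMc ▸ even_two_mul j, fun hle => ?_⟩
  have hd := Cfsg.Agent.Char.QD.data S n e _ rfl
  set D := ⁅(S : Subgroup G), (S : Subgroup G)⁆
  have h1 : D ≤ M := le_trans (Subgroup.commutator_mono le_top le_top) hle
  have h2 := Subgroup.card_dvd_of_le h1
  rw [hd.card, hMc] at h2
  have h4 : 2 * 2 ∣ 2 * j := dvd_trans
    (by simpa using (pow_dvd_pow 2 (show 2 ≤ n + 2 by omega) : (2 : ℕ) ^ 2 ∣ 2 ^ (n + 2))) h2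
  exact Nat.not_even_iff_odd.2 hj (even_iff_two_dvd.2 (Nat.dvd_of_mul_dvd_mul_left two_pos h4))

end Cfsg.Agent.S0845
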