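import Cfsg.Statements.S0846
import Cfsg.Agent.Lib.Char.QuaternionZStar

set_option autoImplicit false
open Cfsg

namespace Cfsg.Agent.S0846

/-- Suppose a Sylow 2-subgroup S of the finite group G is generalized quaternion of order at least 16. Then every Sylow 2-subgroup of the subgroup generated by the involutions of G is cyclic. -/
theorem result {G : Type*} [Group G] [Finite G] (S : Sylow 2 G) (n : ℕ) (e : (S : Subgroup G) ≃* QuaternionGroup (2 ^ (n + 2))) (Q : Sylow 2 ↥(Subgroup.closure {g : G | orderOf g = 2})) : IsCyclic Q := by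
  haveI : Fact (Nat.Prime 2) := ⟨Nat.prime_two⟩
  obtain ⟨M, -, hM, j, hj, hMc⟩ := Cfsg.Agent.Char.QD.exists_involution_normal S n e
  have h1 : Subgroup.closure {g : G | orderOf g = 2} ≤ M := (Subgroup.closure_le _).2 hM
  obtain ⟨k, hk⟩ := IsPGroup.iff_card.1 Q.isPGroup'
  have h2 : 2 ^ k ∣ 2 * j := by
    rw [← hk, ← hMc]
    exact ((Q : Subgroup _).card_subgroup_dvd_card).trans (Subgroup.card_dvd_of_le h1)
  have hk1 : k ≤ 1 := by
    by_contra h
    have h4 : 2 * 2 ∣ 2 * j := dvd_trans (by simpa using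
      (pow_dvd_pow 2 (show 2 ≤ k by omega) : (2 : ℕ) ^ 2 ∣ 2 ^ k)) h2
    exact Nat.not_even_iff_odd.2 hj (even_iff_two_dvd.2 (Nat.dvd_of_mul_dvd_mul_left two_pos h4))
  interval_cases k
  · haveI : Subsingleton (Q : Subgroup _) := (Nat.card_eq_one_iff_unique.1 (by simpa using hk)).1
    infer_instance
  · exact isCyclic_of_prime_card (p := 2) (by simpa using hk)

end Cfsg.Agent.S0846
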