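import Cfsg.Statements.S0848
import Cfsg.Agent.Lib.Invol.D8Recognition

set_option autoImplicit false
open Cfsg

namespace Cfsg.Agent.S0848

/-- If a finite group equals its own commutator subgroup and contains an involution whose centralizer is isomorphic to the dihedral group of order 8, then the group has order 168 or 360. -/
theorem result {G : Type*} [Group G] [Finite G] (hperf : commutator G = ⊤) (t : G) (ht : orderOf t = 2) (e : Subgroup.centralizer ({t} : Set G) ≃* DihedralGroup 4) : Nat.card G = 168 ∨ Nat.card G = 360 := by
  refine (Cfsg.Agent.Invol.D8Order.simple_and_order ht e fun H hH => ?_).2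
  haveI := Subgroup.normal_of_index_eq_two hH
  haveI : Fact (Nat.Prime 2) := ⟨Nat.prime_two⟩
  haveI : IsCyclic (G ⧸ H) := isCyclic_of_prime_card (p := 2) hH
  letI : CommGroup (G ⧸ H) := IsCyclic.commGroup
  have h := Abelianization.commutator_subset_ker (QuotientGroup.mk' H)
  rw [QuotientGroup.ker_mk', hperf, top_le_iff] at h
  rw [h, Subgroup.index_top] at hH
  omega

end Cfsg.Agent.S0848
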