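import Cfsg.Statements.S0849
import Cfsg.Agent.Lib.Char.Induce
-- import your own Cfsg.Agent.* helpers here

set_option autoImplicit false
open Cfsg

namespace Cfsg.Agent.S0849

/-- Let H be a subgroup of a finite group G and S a subset of H that is mapped to itself under conjugation by H, is disjoint from its conjugate by any element outside H, and is closed under inverses. Let φ be a class function of H vanishing on H away from S, and let u, v be involutions of G. Then the sum of the induced function of φ over all products a * b with a conjugate to u and b conjugate to v equals the index of H times the sum of φ (a * b) over such pairs with a and b in H. -/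
theorem result {G : Type*} [Group G] [Fintype G] (H : Subgroup G) (S : Set G) (hSH : S ⊆ H) (hHS : ∀ h ∈ H, ∀ s ∈ S, h * s * h⁻¹ ∈ S) (hTI : ∀ g : G, g ∉ H → ∀ s ∈ S, g * s * g⁻¹ ∉ S) (hinv : ∀ s ∈ S, s⁻¹ ∈ S) (φ : H → ℂ) (hφ : Cfsg.IsClassFunction H φ) (hφS : ∀ x : H, (x : G) ∉ S → φ x = 0) (u v : G) (hu : orderOf u = 2) (hv : orderOf v = 2) : ∑ᶠ p ∈ {p : G × G | IsConj u p.1 ∧ IsConj v p.2}, Cfsg.indFun H φ (p.1 * p.2) = (H.index : ℂ) * ∑ᶠ p ∈ {p : H × H | IsConj u (p.1 : G) ∧ IsConj v (p.2 : G)}, φ (p.1 * p.2) := by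
  classical
  have hord : ∀ {a b : G}, IsConj a b → orderOf a = 2 → b * b = 1 := by
    intro a b h ha
    obtain ⟨c, rfl⟩ := isConj_iff.1 h
    have h2 : a * a = 1 := by rw [← pow_two, ← ha]; exact pow_orderOf_eq_one a
    calc c * a * c⁻¹ * (c * a * c⁻¹) = c * (a * a) * c⁻¹ := by group
      _ = 1 := by rw [h2]; group
  rw [finsum_mem_eq_toFinset_sum, finsum_mem_eq_toFinset_sum]
  set T := {p : G × G | IsConj u p.1 ∧ IsConj v p.2}.toFinset with hT
  set TH := {p : H × H | IsConj u (p.1 : G) ∧ IsConj v (p.2 : G)}.toFinset with hTH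
  have hconj : ∀ (x : G), ∀ q ∈ T, (x * q.1 * x⁻¹, x * q.2 * x⁻¹) ∈ T := by
    intro x q hq
    simp only [hT, Set.mem_toFinset, Set.mem_setOf_eq] at hq ⊢
    exact ⟨hq.1.trans (isConj_iff.2 ⟨x, rfl⟩), hq.2.trans (isConj_iff.2 ⟨x, rfl⟩)⟩
  have hx : ∀ x : G, ∑ q ∈ T, extendByZero H φ (x⁻¹ * (q.1 * q.2) * x) =
      ∑ q ∈ T, extendByZero H φ (q.1 * q.2) := by
    intro x
    refine Finset.sum_nbij' (fun q => (x⁻¹ * q.1 * x, x⁻¹ * q.2 * x))
      (fun q => (x * q.1 * x⁻¹, x * q.2 * x⁻¹)) (fun q hq => ?_) (fun q hq => hconj x q hq)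
      (fun q _ => ?_) (fun q _ => ?_) (fun q _ => ?_)
    · simpa using hconj x⁻¹ q hq
    · ext <;> simp only <;> group
    · ext <;> simp only <;> group
    · simp only
      congr 1
      group
  have hres : ∑ q ∈ T, extendByZero H φ (q.1 * q.2) = ∑ q ∈ TH, φ (q.1 * q.2) := by
    symm
    refine Finset.sum_bij_ne_zero (fun q _ _ => ((q.1 : G), (q.2 : G))) (fun q hq _ => ?_)
      (fun q _ _ q' _ _ h => ?_) (fun q hq hne => ?_) (fun q _ _ => ?_)
    · simpa [hT, hTH] using hq
    · have h1 := congrArg Prod.fst h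
      have h2 := congrArg Prod.snd h
      exact Prod.ext (Subtype.ext h1) (Subtype.ext h2)
    · have hq' : IsConj u q.1 ∧ IsConj v q.2 := by simpa [hT] using hq
      have hmem : q.1 * q.2 ∈ H := by
        by_contra h
        exact hne (Cfsg.Agent.Char.extendByZero_not_mem φ h)
      rw [Cfsg.Agent.Char.extendByZero_of_mem φ hmem] at hne
      have hs : q.1 * q.2 ∈ S := by
        by_contra h
        exact hne (hφS _ h)
      have e1 : q.1⁻¹ = q.1 := inv_eq_of_mul_eq_one_right (hord hq'.1 hu)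
      have e2 : q.2⁻¹ = q.2 := inv_eq_of_mul_eq_one_right (hord hq'.2 hv)
      have h1 : q.1 ∈ H := by
        by_contra h
        refine hTI q.1 h _ hs ?_
        have : q.1 * (q.1 * q.2) * q.1⁻¹ = (q.1 * q.2)⁻¹ := by
          rw [mul_inv_rev, e1, e2, ← mul_assoc, hord hq'.1 hu, one_mul]
        rw [this]
        exact hinv _ hs
      have h2 : q.2 ∈ H := by simpa using H.mul_mem (H.inv_mem h1) hmem
      refine ⟨(⟨q.1, h1⟩, ⟨q.2, h2⟩), by simpa [hTH] using hq', ?_, rfl⟩
      exact hne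
    · exact (Cfsg.Agent.Char.extendByZero_apply φ _).symm
  simp only [Cfsg.indFun]
  rw [← Finset.mul_sum, Finset.sum_comm, Finset.sum_congr rfl (fun x _ => hx x), Finset.sum_const,
    Finset.card_univ, hres, nsmul_eq_mul]
  have hc : (Fintype.card G : ℂ) = (Nat.card H : ℂ) * (H.index : ℂ) := by
    rw [← Nat.cast_mul, Subgroup.card_mul_index, Nat.card_eq_fintype_card]
  rw [hc, mul_assoc, inv_mul_cancel_left₀ (Nat.cast_ne_zero.2 Nat.card_pos.ne')]

end Cfsg.Agent.S0849
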