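import Cfsg.Statements.S0850
import Cfsg.Agent.Lib.Char.Induce

set_option autoImplicit false
open Cfsg

namespace Cfsg.Agent.S0850

open Cfsg.Agent.Char

/-- Let K be a subgroup of the finite group G that meets each conjugate by an element outside its normalizer N trivially, is properly contained in N, and contains the centralizer of each of its non-identity elements (a T.I. subgroup with Frobenius normalizer). Then no element of N outside K is conjugate in G to an element of K, and for every class function ϑ of N that vanishes on N away from K and at the identity, the function induced from ϑ to G agrees with ϑ on all of N. -/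
theorem result {G : Type*} [Group G] [Fintype G] (K : Subgroup G) (hTI : ∀ g : G, g ∉ Subgroup.normalizer (K : Set G) → ∀ k ∈ K, g * k * g⁻¹ ∈ K → k = 1) (hlt : K < Subgroup.normalizer (K : Set G)) (hC : ∀ k ∈ K, k ≠ 1 → Subgroup.centralizer ({k} : Set G) ≤ K) : (∀ x ∈ Subgroup.normalizer (K : Set G), x ∉ K → ∀ g : G, g * x * g⁻¹ ∉ K) ∧ ∀ (ϑ : Subgroup.normalizer (K : Set G) → ℂ), Cfsg.IsClassFunction (Subgroup.normalizer (K : Set G)) ϑ → (∀ x : Subgroup.normalizer (K : Set G), (x : G) ∉ K → ϑ x = 0) → ϑ 1 = 0 → ∀ x : Subgroup.normalizer (K : Set G), Cfsg.indFun (Subgroup.normalizer (K : Set G)) ϑ x = ϑ x := by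
  classical
  set N := Subgroup.normalizer (K : Set G) with hN
  have hKN : K ≤ N := Subgroup.le_normalizer
  have hnotdvd : ∀ p : ℕ, p.Prime → p ∣ Nat.card K → ¬ p ∣ K.index := by
    intro p hp hpK hpi
    have : Fact p.Prime := ⟨hp⟩
    obtain ⟨k, hk⟩ := exists_prime_orderOf_dvd_card' (G := K) p hpK
    have hk' : orderOf (k : G) = p := by rw [Subgroup.orderOf_coe, hk]
    obtain ⟨S, hS⟩ := (IsPGroup.of_card (n := 1)
      (by rw [Nat.card_zpowers, hk', pow_one]) : IsPGroup p (Subgroup.zpowers (k : G))).exists_le_sylow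
    have hkS : (k : G) ∈ (S : Subgroup G) := hS (Subgroup.mem_zpowers _)
    have : Nontrivial (S : Subgroup G) :=
      ⟨⟨(k : G), hkS⟩, 1, fun e => hp.ne_one (by
        rw [← hk', show (k : G) = 1 from congrArg Subtype.val e, orderOf_one])⟩
    have := S.isPGroup'.center_nontrivial
    obtain ⟨z, hz⟩ := exists_ne (1 : Subgroup.center (S : Subgroup G))
    have hzc : ∀ s ∈ (S : Subgroup G), s * ((z : (S : Subgroup G)) : G) = (z : (S : Subgroup G)) * s :=
      fun s hs => congrArg Subtype.val (Subgroup.mem_center_iff.mp z.2 ⟨s, hs⟩)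
    have hzK : ((z : (S : Subgroup G)) : G) ∈ K := hC k k.2 (fun e => hp.ne_one (by
      rw [← hk', e, orderOf_one])) (Subgroup.mem_centralizer_singleton_iff.mpr (hzc _ hkS).symm)
    have hSK : (S : Subgroup G) ≤ K := fun s hs => hC _ hzK
      (fun e => hz (Subtype.ext (Subtype.ext e))) (Subgroup.mem_centralizer_singleton_iff.mpr (hzc s hs))
    exact Sylow.not_dvd_index' S (Subgroup.index_ne_zero_of_finite (H := (S : Subgroup G).subgroupOf _))
      (hpi.trans (Subgroup.index_dvd_of_le hSK))
  have hcop : Nat.Coprime (Nat.card K) K.index :=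
    Nat.coprime_of_dvd fun p hp h1 h2 => hnotdvd p hp h1 h2
  have part1 : ∀ x ∈ N, x ∉ K → ∀ g : G, g * x * g⁻¹ ∉ K := by
    intro x hx hxK g hg
    apply hxK
    have ho : orderOf x ∣ Nat.card K := by
      have e : orderOf (g * x * g⁻¹) = orderOf x := by
        simpa using orderOf_injective (MulAut.conj g).toMonoidHom (MulEquiv.injective _) x
      rw [← e, ← Subgroup.orderOf_mk _ hg]
      exact orderOf_dvd_natCard _
    have hpow : x ^ (K.subgroupOf N).index ∈ K :=
      Subgroup.mem_subgroupOf.mp (Subgroup.pow_index_mem (K.subgroupOf N) ⟨x, hx⟩)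
    have hc2 : Nat.Coprime (orderOf x) (K.subgroupOf N).index :=
      (hcop.coprime_dvd_right (Subgroup.relIndex_dvd_index_of_le hKN : K.relIndex N ∣ K.index)).coprime_dvd_left ho
    obtain ⟨m, hm⟩ := exists_pow_eq_self_of_coprime (n := (K.subgroupOf N).index) (x := x) hc2.symm
    rw [← hm]
    exact K.pow_mem hpow m
  refine ⟨part1, fun ϑ hϑ hsupp h1 x => ?_⟩
  have hN' : Nat.card N = (Finset.univ.filter fun g : G => g ∈ N).card := by
    rw [← Fintype.card_subtype, ← Nat.card_eq_fintype_card]
  have hval : ∀ g : G, extendByZero N ϑ (g⁻¹ * (x : G) * g) = if g ∈ N then ϑ x else 0 := by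
    intro g
    split_ifs with hg
    · rw [extendByZero_of_mem _ (N.mul_mem (N.mul_mem (N.inv_mem hg) x.2) hg)]
      have h := hϑ x (⟨g, hg⟩ : N)⁻¹
      refine Eq.trans ?_ h
      exact congrArg ϑ (Subtype.ext (by simp))
    · by_cases hm : g⁻¹ * (x : G) * g ∈ N
      · rw [extendByZero_of_mem _ hm]
        by_cases hyK : g⁻¹ * (x : G) * g ∈ K
        · by_cases hxK : (x : G) ∈ K
          · have hx1 : (x : G) = 1 :=
              hTI g⁻¹ (fun h => hg (inv_inv g ▸ N.inv_mem h)) x hxK (by simpa using hyK)
            convert h1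
            simp [hx1]
          · exact absurd (by simpa using hyK) (part1 x x.2 hxK g⁻¹)
        · exact hsupp _ hyK
      · exact extendByZero_not_mem _ hm
  simp only [indFun, hval, Finset.sum_ite, Finset.sum_const_zero, add_zero, Finset.sum_const,
    nsmul_eq_mul]
  rw [← hN', inv_mul_cancel_left₀ (Nat.cast_ne_zero.mpr Nat.card_pos.ne')]

end Cfsg.Agent.S0850
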