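import Cfsg.Statements.S0856
import Cfsg.Agent.Lib.Char.BrauerInduction
-- import your own Cfsg.Agent.* helpers here

set_option autoImplicit false
open Cfsg

namespace Cfsg.Agent.S0856

/-- Let N be a normal subgroup of the finite group G and φ, ϑ irreducible characters of N that are invariant under conjugation by G, such that the pointwise product φ * ϑ is irreducible and ϑ is the restriction of an irreducible character χ of G. Then multiplication by χ is a bijection from the set of irreducible characters of G having nonzero inner product with the function induced from φ onto the set of those having nonzero inner product with the function induced from φ * ϑ. -/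
theorem result {G : Type*} [Group G] [Fintype G] (N : Subgroup G) [hN : N.Normal] (φ ϑ : N → ℂ) (hφ : Cfsg.IsIrrCharacter N φ) (hϑ : Cfsg.IsIrrCharacter N ϑ) (hφinv : ∀ (g : G) (n : N), φ ⟨g * n * g⁻¹, hN.conj_mem (n : G) n.2 g⟩ = φ n) (hϑinv : ∀ (g : G) (n : N), ϑ ⟨g * n * g⁻¹, hN.conj_mem (n : G) n.2 g⟩ = ϑ n) (hprod : Cfsg.IsIrrCharacter N (φ * ϑ)) (χ : G → ℂ) (hχ : Cfsg.IsIrrCharacter G χ) (hext : ∀ n : N, χ n = ϑ n) : Set.BijOn (fun β : G → ℂ => β * χ) {β : G → ℂ | Cfsg.IsIrrCharacter G β ∧ Cfsg.classInner (Cfsg.indFun N φ) β ≠ 0} {ψ : G → ℂ | Cfsg.IsIrrCharacter G ψ ∧ Cfsg.classInner (Cfsg.indFun N (φ * ϑ)) ψ ≠ 0} := by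
  classical
  haveI : Fintype N := Fintype.ofFinite N
  have hχc := Cfsg.Agent.Char.IsIrr.classFun hχ
  have hmul : Cfsg.indFun N φ * χ = Cfsg.indFun N (φ * ϑ) := by
    rw [mul_comm, Cfsg.Agent.Char.Brauer.mul_indFun N φ hχc]
    congr 1
    funext n
    simp only [Pi.mul_apply, hext n, mul_comm]
  have hinv : Cfsg.Agent.Char.inertia N (φ * ϑ) = ⊤ :=
    (Subgroup.eq_top_iff' _).2 fun g => funext fun n => by
      show φ _ * ϑ _ = φ n * ϑ n
      rw [hφinv, hϑinv]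
  have hinvφ : Cfsg.Agent.Char.inertia N φ = ⊤ :=
    (Subgroup.eq_top_iff' _).2 fun g => funext fun n => hφinv g n
  have hn1 := Cfsg.Agent.Char.norm_indFun N hφ
  have hn2 := Cfsg.Agent.Char.norm_indFun N hprod
  rw [hinvφ] at hn1
  rw [hinv] at hn2
  have hnorm : Cfsg.classInner (Cfsg.indFun N (φ * ϑ)) (Cfsg.indFun N (φ * ϑ)) =
      Cfsg.classInner (Cfsg.indFun N φ) (Cfsg.indFun N φ) :=
    mul_left_cancel₀ (Nat.cast_ne_zero.2 (Nat.card_pos (α := N)).ne') (hn2.trans hn1.symm)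
  obtain ⟨e, he, hdec⟩ := Cfsg.Agent.Char.IsChar.exists_decomp_inner
    (Cfsg.Agent.Char.isCharacter_indFun N (Cfsg.Agent.Char.IsIrr.isCharacter hφ))
  have hchar : ∀ β : Cfsg.IrrCharacter G, Cfsg.IsCharacter G ((β : G → ℂ) * χ) := fun β =>
    Cfsg.Agent.Char.IsChar.mul (Cfsg.Agent.Char.IsIrr.isCharacter β.2)
      (Cfsg.Agent.Char.IsIrr.isCharacter hχ)
  choose m hm using fun β γ : Cfsg.IrrCharacter G =>
    Cfsg.Agent.Char.IsChar.classInner_nat (hchar β) (hchar γ)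
  have hdec' : Cfsg.indFun N (φ * ϑ) =
      ∑ β : Cfsg.IrrCharacter G, (e β : ℂ) • ((β : G → ℂ) * χ) := by
    rw [← hmul, hdec, Finset.sum_mul]
    exact Finset.sum_congr rfl fun β _ => smul_mul_assoc _ _ _
  have hkey : ∑ β : Cfsg.IrrCharacter G, ∑ γ : Cfsg.IrrCharacter G, e β * e γ * m β γ =
      ∑ β : Cfsg.IrrCharacter G, e β * e β := by
    have h := hnorm
    conv_rhs at h => rw [hdec, Cfsg.Agent.Char.classInner_sum_sum]
    rw [hdec'] at h
    simp only [Cfsg.Agent.Char.classInner_sum_left, Cfsg.Agent.Char.classInner_sum_right,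
      Cfsg.Agent.Char.classInner_smul_left, Cfsg.Agent.Char.classInner_smul_right, hm,
      map_natCast] at h
    have h' : ((∑ β : Cfsg.IrrCharacter G, ∑ γ : Cfsg.IrrCharacter G, e β * e γ * m β γ : ℕ) : ℂ) =
        ((∑ β : Cfsg.IrrCharacter G, e β * e β : ℕ) : ℂ) := by
      push_cast
      rw [← h, Finset.sum_comm]
      refine Finset.sum_congr rfl fun β _ => ?_
      rw [Finset.mul_sum]
      exact Finset.sum_congr rfl fun γ _ => by ring
    exact_mod_cast h'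
  have hdiag : ∀ β, 1 ≤ m β β := by
    intro β
    refine Nat.pos_of_ne_zero fun h0 => ?_
    have h := hm β β
    rw [h0, Nat.cast_zero, Cfsg.Agent.Char.classInner_self_eq_zero] at h
    have := congrFun h 1
    exact mul_ne_zero (Cfsg.Agent.Char.IsIrr.one_ne_zero β.2)
      (Cfsg.Agent.Char.IsIrr.one_ne_zero hχ) this
  have hle : ∀ β ∈ (Finset.univ : Finset (Cfsg.IrrCharacter G)),
      e β * e β ≤ ∑ γ : Cfsg.IrrCharacter G, e β * e γ * m β γ := fun β _ =>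
    le_trans (Nat.le_mul_of_pos_right _ (hdiag β))
      (Finset.single_le_sum (f := fun γ => e β * e γ * m β γ) (fun _ _ => Nat.zero_le _)
        (Finset.mem_univ β))
  have heach := (Finset.sum_eq_sum_iff_of_le hle).1 hkey.symm
  have hone : ∀ β, e β ≠ 0 → m β β = 1 ∧ ∀ γ, γ ≠ β → e γ ≠ 0 → m β γ = 0 := by
    intro β hβ
    have h := heach β (Finset.mem_univ β)
    rw [← Finset.add_sum_erase _ _ (Finset.mem_univ β)] at h
    have hp : 0 < e β * e β := Nat.mul_pos (Nat.pos_of_ne_zero hβ) (Nat.pos_of_ne_zero hβ)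
    have h1 : m β β ≤ 1 := by
      by_contra hh
      have : e β * e β * 2 ≤ e β * e β * m β β := Nat.mul_le_mul_left _ (by omega)
      omega
    have h2 : m β β = 1 := le_antisymm h1 (hdiag β)
    refine ⟨h2, fun γ hγ hγ0 => ?_⟩
    rw [h2, mul_one] at h
    have h3 := (Finset.sum_eq_zero_iff (s := Finset.univ.erase β)).1 (Nat.add_eq_left.1 h.symm) γ
      (Finset.mem_erase.2 ⟨hγ, Finset.mem_univ _⟩)
    exact (mul_eq_zero.1 h3).resolve_left (mul_ne_zero hβ hγ0)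
  have hmem : ∀ β : Cfsg.IrrCharacter G,
      Cfsg.classInner (Cfsg.indFun N φ) (β : G → ℂ) ≠ 0 ↔ e β ≠ 0 := fun β => by
    rw [he β, Nat.cast_ne_zero]
  have hirr : ∀ β : Cfsg.IrrCharacter G, e β ≠ 0 → Cfsg.IsIrrCharacter G ((β : G → ℂ) * χ) :=
    fun β hβ => Cfsg.Agent.Char.IsChar.irr_of_norm_one (hchar β)
      (by rw [hm, (hone β hβ).1, Nat.cast_one])
  refine ⟨?_, ?_, ?_⟩
  · rintro β ⟨hβ, hne⟩
    have hβ0 : e ⟨β, hβ⟩ ≠ 0 := (hmem ⟨β, hβ⟩).1 hne
    refine ⟨hirr ⟨β, hβ⟩ hβ0, ?_⟩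
    rw [hdec', Cfsg.Agent.Char.classInner_sum_left,
      Finset.sum_eq_single (⟨β, hβ⟩ : Cfsg.IrrCharacter G)]
    · show Cfsg.classInner _ ((⟨β, hβ⟩ : Cfsg.IrrCharacter G) * χ : G → ℂ) ≠ 0
      rw [Cfsg.Agent.Char.classInner_smul_left, hm, (hone _ hβ0).1, Nat.cast_one, mul_one]
      exact Nat.cast_ne_zero.2 hβ0
    · intro γ _ hγ
      show Cfsg.classInner _ ((⟨β, hβ⟩ : Cfsg.IrrCharacter G) * χ : G → ℂ) = 0
      rw [Cfsg.Agent.Char.classInner_smul_left, hm]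
      by_cases h0 : e γ = 0
      · rw [h0, Nat.cast_zero, zero_mul]
      · rw [(hone γ h0).2 _ (Ne.symm hγ) hβ0, Nat.cast_zero, mul_zero]
    · exact fun h => absurd (Finset.mem_univ _) h
  · rintro β ⟨hβ, hne⟩ γ ⟨hγ, hne'⟩ heq
    by_contra h
    have h1 := (hone _ ((hmem ⟨β, hβ⟩).1 hne)).2 ⟨γ, hγ⟩
      (fun h' => h (congrArg Subtype.val h').symm) ((hmem ⟨γ, hγ⟩).1 hne')
    have h2 := hm ⟨β, hβ⟩ ⟨γ, hγ⟩
    rw [h1, Nat.cast_zero, show β * χ = γ * χ from heq] at h2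
    exact (Cfsg.Agent.Char.classInner_self_irr (hirr ⟨γ, hγ⟩ ((hmem ⟨γ, hγ⟩).1 hne')) ▸ one_ne_zero) h2
  · rintro ψ ⟨hψ, hne⟩
    rw [hdec', Cfsg.Agent.Char.classInner_sum_left] at hne
    obtain ⟨β, -, hβ⟩ := Finset.exists_ne_zero_of_sum_ne_zero hne
    rw [Cfsg.Agent.Char.classInner_smul_left, mul_ne_zero_iff] at hβ
    have hβ0 : e β ≠ 0 := Nat.cast_ne_zero.1 hβ.1
    refine ⟨β, ⟨β.2, (hmem β).2 hβ0⟩, ?_⟩
    show (β : G → ℂ) * χ = ψ
    by_contra h
    exact hβ.2 (Cfsg.Agent.Char.classInner_irr_ne (hirr β hβ0) hψ h)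

end Cfsg.Agent.S0856
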