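import Cfsg.Statements.S0857
import Cfsg.Agent.Lib.Char.Clifford
import Cfsg.Agent.Lib.Char.Quotient

set_option autoImplicit false
open Cfsg

namespace Cfsg.Agent.S0857
open Cfsg.Agent.Char
open scoped ComplexConjugate Pointwise commutatorElement

universe u

variable {G : Type u} [Group G]

/-- Conjugation of `L`, seen inside `K`. -/
def cgEquiv (K L : Subgroup G) [hK : K.Normal] [hL : L.Normal] (g : G) : L.subgroupOf K ≃* L.subgroupOf K where
  toFun x := ⟨⟨g * (x : K) * g⁻¹, hK.conj_mem _ (x : K).2 g⟩, hL.conj_mem _ x.2 g⟩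
  invFun x := ⟨⟨g⁻¹ * (x : K) * g, by simpa using hK.conj_mem _ (x : K).2 g⁻¹⟩,
    by simpa [Subgroup.mem_subgroupOf] using hL.conj_mem _ x.2 g⁻¹⟩
  left_inv x := Subtype.ext (Subtype.ext (by simp [mul_assoc]))
  right_inv x := Subtype.ext (Subtype.ext (by simp [mul_assoc]))
  map_mul' x y := Subtype.ext (Subtype.ext (by simp [mul_assoc]))

theorem cg_mul (K L : Subgroup G) [K.Normal] [L.Normal] (a b : G) (x : L.subgroupOf K) :
    cgEquiv K L (a * b) x = cgEquiv K L a (cgEquiv K L b x) :=
  Subtype.ext (Subtype.ext (by simp [cgEquiv, mul_assoc]))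

theorem trichotomy [Fintype G] (K L : Subgroup G) [hK : K.Normal] [hL : L.Normal] (hLK : L < K)
    (hchief : ∀ M : Subgroup G, M.Normal → L ≤ M → M ≤ K → M = L ∨ M = K) (hab : ⁅K, K⁆ ≤ L)
    [Fintype K] [Fintype (L.subgroupOf K)]
    (ϑ : K → ℂ) (hϑ : IsIrrCharacter K ϑ)
    (hinv : ∀ (g : G) (n : K), ϑ ⟨g * n * g⁻¹, hK.conj_mem (n : G) n.2 g⟩ = ϑ n) :
    IsIrrCharacter (L.subgroupOf K) (fun x : L.subgroupOf K => ϑ x) ∨
    (∃ (φ : L.subgroupOf K → ℂ) (e : ℕ), IsIrrCharacter (L.subgroupOf K) φ ∧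
      (fun x : L.subgroupOf K => ϑ x) = (e : ℂ) • φ ∧ e ^ 2 = (L.subgroupOf K).index) ∨
    (∃ F : Finset (L.subgroupOf K → ℂ), (∀ φ ∈ F, IsIrrCharacter (L.subgroupOf K) φ) ∧
      F.card = (L.subgroupOf K).index ∧ (fun x : L.subgroupOf K => ϑ x) = ∑ φ ∈ F, φ) := by
  classical
  have hres := IsChar.res (IsIrr.isCharacter hϑ) (L.subgroupOf K)
  obtain ⟨⟨θ, hθ⟩, hθc⟩ := IsChar.exists_constituent' hres (IsIrr.one_ne_zero hϑ)
  obtain ⟨e, he⟩ := IsChar.classInner_nat hres (IsIrr.isCharacter hθ)
  have he0 : e ≠ 0 := fun h => hθc (by show classInner _ θ = 0; rw [he, h, Nat.cast_zero])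
  let I : Subgroup G :=
    { carrier := {g | ∀ x, θ (cgEquiv K L g x) = θ x}
      one_mem' := fun x => congrArg θ (Subtype.ext (Subtype.ext (by simp [cgEquiv])))
      mul_mem' := fun {a b} ha hb x => by rw [cg_mul, ha, hb]
      inv_mem' := fun {a} ha x => by
        rw [← ha (cgEquiv K L a⁻¹ x), ← cg_mul, mul_inv_cancel]
        exact congrArg θ (Subtype.ext (Subtype.ext (by simp [cgEquiv]))) }
  have hconjK : ∀ k : K, (∀ x, θ (cgEquiv K L (k : G) x) = θ x) ↔ k ∈ inertia (L.subgroupOf K) θ := by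
    intro k
    rw [mem_inertia, funext_iff]
    exact forall_congr' fun x => Iff.rfl
  have hT : ((I ⊓ K) : Subgroup G).Normal := by
    refine ⟨fun t ht g => ⟨?_, hK.conj_mem t ht.2 g⟩⟩
    have hg : classInner (fun x : L.subgroupOf K => ϑ x) (fun x => θ (cgEquiv K L g x)) ≠ 0 := by
      have : classInner (fun x : L.subgroupOf K => ϑ x) (fun x => θ (cgEquiv K L g x)) =
          classInner (fun x : L.subgroupOf K => ϑ x) θ := by
        simp only [classInner]
        congr 1
        refine Fintype.sum_equiv (cgEquiv K L g).toEquiv _ _ fun x => ?_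
        congr 1
        exact (hinv g (x : K)).symm
      rwa [this]
    obtain ⟨k, hk⟩ := exists_conj_of_constituents (L.subgroupOf K) hϑ hθ
      (IsIrr.comp_mulEquiv (cgEquiv K L g) hθ) hθc hg
    have hk' : ∀ x, θ (cgEquiv K L (k : G) x) = θ (cgEquiv K L g x) := fun x => congrFun hk x
    have hh : g * (k : G)⁻¹ ∈ I := fun x => by
      rw [cg_mul, ← hk', ← cg_mul, mul_inv_cancel]
      exact congrArg θ (Subtype.ext (Subtype.ext (by simp [cgEquiv])))
    have hkt : (k : G) * t * (k : G)⁻¹ ∈ I := by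
      rw [show (k : G) * t * (k : G)⁻¹ = ⁅(k : G), t⁆ * t by rw [commutatorElement_def]; group]
      refine I.mul_mem ?_ ht.1
      have hc : ⁅(k : G), t⁆ ∈ L := hab (Subgroup.commutator_mem_commutator k.2 ht.2)
      exact (hconjK ⟨_, hLK.le hc⟩).2 (le_inertia _ (IsIrr.classFun hθ) hc)
    rw [show g * t * g⁻¹ = (g * (k : G)⁻¹) * ((k : G) * t * (k : G)⁻¹) * (g * (k : G)⁻¹)⁻¹ by group]
    exact I.mul_mem (I.mul_mem hh hkt) (I.inv_mem hh)
  have hLT : L ≤ I ⊓ K := fun l hl =>
    ⟨(hconjK ⟨l, hLK.le hl⟩).2 (le_inertia _ (IsIrr.classFun hθ) hl), hLK.le hl⟩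
  rcases hchief _ hT hLT inf_le_right with hcase | hcase
  · -- the inertia group is `L`
    refine Or.inr (Or.inr ?_)
    have hI : inertia (L.subgroupOf K) θ = L.subgroupOf K := by
      refine le_antisymm (fun k hk => ?_) (le_inertia _ (IsIrr.classFun hθ))
      rw [Subgroup.mem_subgroupOf]
      exact hcase.le ⟨(hconjK k).2 hk, k.2⟩
    have hind := indFun_irr_of_inertia_eq _ hθ hI
    have hne : classInner (indFun (L.subgroupOf K) θ) ϑ ≠ 0 := by
      rw [classInner_indFun _ _ (IsIrr.classFun hϑ), ← classInner_conj_symm, he]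
      simpa using he0
    have heq : indFun (L.subgroupOf K) θ = ϑ := by
      by_contra h
      exact hne (classInner_irr_ne hind hϑ h)
    have h1 : classInner (indFun (L.subgroupOf K) θ) ϑ = 1 := by rw [heq, classInner_self_irr hϑ]
    rw [classInner_indFun _ _ (IsIrr.classFun hϑ), ← classInner_conj_symm, he, Complex.conj_natCast] at h1
    refine ⟨conjOrbit (L.subgroupOf K) θ, fun φ hφ => ?_, by rw [card_conjOrbit, hI], ?_⟩
    · obtain ⟨g, rfl⟩ := (mem_conjOrbit _).mp hφ
      exact IsIrr.conjN _ hθ g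
    · rw [clifford _ hϑ hθ hθc]
      show classInner _ θ • _ = _
      rw [he, h1, one_smul]
  · -- the constituent is invariant
    have hI : inertia (L.subgroupOf K) θ = ⊤ := eq_top_iff.2 fun k _ =>
      (hconjK k).1 (hcase.ge k.2).1
    have horb : conjOrbit (L.subgroupOf K) θ = {θ} := by
      refine Finset.eq_singleton_iff_unique_mem.2 ⟨(mem_conjOrbit _).2 ⟨1, conjN_one _ _⟩, ?_⟩
      intro ψ hψ
      obtain ⟨g, rfl⟩ := (mem_conjOrbit _).1 hψ
      exact (mem_inertia _).1 (hI ▸ Subgroup.mem_top g : g ∈ inertia _ θ)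
    have hr : (fun x : L.subgroupOf K => ϑ x) = (e : ℂ) • θ := by
      rw [clifford _ hϑ hθ hθc, horb, Finset.sum_singleton]
      show classInner _ θ • _ = _
      rw [he]
    set S : Set G := (L : Set G) ∪ {x | ∃ h : x ∈ K, ϑ ⟨x, h⟩ ≠ 0}
    have hSsub : S ⊆ K := by
      rintro x (hx | ⟨h, -⟩)
      exacts [hLK.le hx, h]
    have hSconj : Group.conjugatesOfSet S ⊆ S := by
      intro y hy
      obtain ⟨x, hx, hxy⟩ := Group.mem_conjugatesOfSet_iff.1 hy
      obtain ⟨g, rfl⟩ := isConj_iff.1 hxy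
      rcases hx with hx | ⟨h, hne⟩
      · exact Or.inl (hL.conj_mem x hx g)
      · exact Or.inr ⟨hK.conj_mem x h g, by rw [hinv g ⟨x, h⟩]; exact hne⟩
    rcases hchief (Subgroup.normalClosure S) inferInstance
        (fun x hx => Subgroup.subset_normalClosure (Or.inl hx))
        (Subgroup.normalClosure_le_normal hSsub) with hV | hV
    · refine Or.inr (Or.inl ⟨θ, e, hθ, hr, ?_⟩)
      have hzero : ∀ k : K, k ∉ L.subgroupOf K → ϑ k = 0 := fun k hk => by
        by_contra h
        exact hk (hV.le (Subgroup.subset_normalClosure (Or.inr ⟨k.2, h⟩)))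
      have h1 := classInner_self_irr hϑ
      simp only [classInner] at h1
      rw [← Finset.sum_filter_of_ne (p := fun k : K => k ∈ L.subgroupOf K)
        (fun k _ hk => by_contra fun h => hk (by rw [hzero k h, zero_mul]))] at h1
      rw [Finset.sum_subtype (p := fun k : K => k ∈ L.subgroupOf K) _ (fun k => by simp) _] at h1
      have h2 : classInner (fun x : L.subgroupOf K => ϑ x) (fun x : L.subgroupOf K => ϑ x) =
          ((L.subgroupOf K).index : ℂ) := by
        simp only [classInner]
        rw [inv_mul_eq_iff_eq_mul₀ (Nat.cast_ne_zero.2 Nat.card_pos.ne'),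
          ← Nat.cast_mul, Subgroup.card_mul_index]
        rw [inv_mul_eq_iff_eq_mul₀ (Nat.cast_ne_zero.2 Nat.card_pos.ne'), mul_one] at h1
        exact h1
      rw [hr, classInner_smul_left, classInner_smul_right, classInner_self_irr hθ, Complex.conj_natCast,
        mul_one] at h2
      rw [sq]
      exact_mod_cast h2
    · refine Or.inl ?_
      have hcomm : ∀ a b : K ⧸ L.subgroupOf K, a * b = b * a := by
        intro a b
        obtain ⟨a, rfl⟩ := QuotientGroup.mk_surjective a
        obtain ⟨b, rfl⟩ := QuotientGroup.mk_surjective b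
        rw [← QuotientGroup.mk_mul, ← QuotientGroup.mk_mul, QuotientGroup.eq, Subgroup.mem_subgroupOf]
        refine hab ?_
        rw [show (((a * b)⁻¹ * (b * a) : K) : G) = ⁅(b : G)⁻¹, (a : G)⁻¹⁆ by
          simp [commutatorElement_def, mul_assoc]]
        exact Subgroup.commutator_mem_commutator (K.inv_mem b.2) (K.inv_mem a.2)
      letI : CommGroup (K ⧸ L.subgroupOf K) :=
        { (inferInstance : Group (K ⧸ L.subgroupOf K)) with mul_comm := hcomm }
      haveI : NeZero (Monoid.exponent (K ⧸ L.subgroupOf K)) := ⟨Monoid.exponent_ne_zero_of_finite⟩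
      have hcard : Nat.card ((K ⧸ L.subgroupOf K) →* ℂˣ) = (L.subgroupOf K).index := by
        rw [CommGroup.card_monoidHom_of_hasEnoughRootsOfUnity, Subgroup.index_eq_card]
      letI := Fintype.ofFinite ((K ⧸ L.subgroupOf K) →* ℂˣ)
      let f : ((K ⧸ L.subgroupOf K) →* ℂˣ) → IrrCharacter K := fun l =>
        ⟨fun k => ((l.comp (QuotientGroup.mk' (L.subgroupOf K))) k : ℂ) * ϑ k, IsIrr.mul_linear hϑ _⟩
      have hf : Function.Injective f := by
        intro l l' h
        set A : Subgroup K := MonoidHom.eqLocus (l.comp (QuotientGroup.mk' (L.subgroupOf K)))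
          (l'.comp (QuotientGroup.mk' (L.subgroupOf K)))
        have hA : S ⊆ (A.map K.subtype : Subgroup G) := by
          rintro x (hx | ⟨hxK, hne⟩)
          · refine ⟨⟨x, hLK.le hx⟩, ?_, rfl⟩
            show l (QuotientGroup.mk' _ _) = l' (QuotientGroup.mk' _ _)
            rw [show QuotientGroup.mk' (L.subgroupOf K) ⟨x, hLK.le hx⟩ = 1 from
              (QuotientGroup.eq_one_iff _).2 hx, map_one, map_one]
          · refine ⟨⟨x, hxK⟩, Units.ext ?_, rfl⟩
            exact mul_right_cancel₀ hne (congrFun (congrArg Subtype.val h) ⟨x, hxK⟩)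
        have hle : Subgroup.normalClosure S ≤ A.map K.subtype :=
          (Subgroup.closure_le _).2 fun y hy => hA (hSconj hy)
        refine MonoidHom.ext fun q => ?_
        obtain ⟨k, rfl⟩ := QuotientGroup.mk_surjective q
        obtain ⟨k', hk', hkk⟩ := hle (hV.ge k.2)
        rw [show k = k' from Subtype.ext hkk.symm]
        exact hk'
      obtain ⟨a, ha, hdec⟩ := IsChar.exists_decomp_inner
        (isCharacter_indFun (L.subgroupOf K) (IsIrr.isCharacter hθ))
      have haf : ∀ l, a (f l) = e := by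
        intro l
        refine Nat.cast_injective (R := ℂ) ?_
        rw [← ha, classInner_indFun _ _ (IsIrr.classFun (f l).2), ← classInner_conj_symm,
          ← Complex.conj_natCast e, ← he]
        congr 2
        funext x
        show (l (QuotientGroup.mk' _ (x : K)) : ℂ) * ϑ x = ϑ x
        rw [show QuotientGroup.mk' (L.subgroupOf K) (x : K) = 1 from
              (QuotientGroup.eq_one_iff _).2 x.2, map_one, Units.val_one, one_mul]
      obtain ⟨d, hd0, hd⟩ := IsIrr.one_eq_pos hθ
      have hϑ1 : ϑ 1 = ((e * d : ℕ) : ℂ) := by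
        have := congrFun hr 1
        simp only [Subgroup.coe_one, Pi.smul_apply, smul_eq_mul] at this
        rw [this, hd, Nat.cast_mul]
      choose dd hdd using fun ψ : IrrCharacter K => IsIrr.one_eq_pos ψ.2
      have hsum : (L.subgroupOf K).index * d = ∑ ψ, a ψ * dd ψ := by
        have h1 := congrFun hdec 1
        rw [sum_irr_apply, indFun_one_eq, hd] at h1
        have h2 : (((L.subgroupOf K).index * d : ℕ) : ℂ) = ((∑ ψ, a ψ * dd ψ : ℕ) : ℂ) := by
          push_cast
          rw [h1]
          exact Finset.sum_congr rfl fun ψ _ => by rw [(hdd ψ).2]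
        exact_mod_cast h2
      have hge : (L.subgroupOf K).index * (e * (e * d)) ≤ ∑ ψ, a ψ * dd ψ := by
        calc (L.subgroupOf K).index * (e * (e * d)) = ∑ ψ ∈ Finset.univ.image f, a ψ * dd ψ := by
              rw [Finset.sum_image fun x _ y _ h => hf h, Finset.sum_congr rfl fun l _ => show _ = e * (e * d) by
                rw [haf]
                congr 1
                refine Nat.cast_injective (R := ℂ) ((hdd (f l)).2.symm.trans ?_)
                show ((l.comp (QuotientGroup.mk' (L.subgroupOf K))) 1 : ℂ) * ϑ 1 = _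
                rw [map_one, Units.val_one, one_mul, hϑ1], Finset.sum_const, Finset.card_univ,
                ← Nat.card_eq_fintype_card, hcard, smul_eq_mul]
          _ ≤ _ := Finset.sum_le_sum_of_subset (Finset.subset_univ _)
      rw [← hsum] at hge
      have h1 := Nat.le_of_mul_le_mul_left hge (Nat.pos_of_ne_zero Subgroup.index_ne_zero_of_finite)
      have he1 : e = 1 := by
        by_contra hne
        have h2 : 2 ≤ e := by omega
        nlinarith [Nat.mul_le_mul h2 h2]
      rw [hr, he1, Nat.cast_one, one_smul]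
      exact hθ

/-- Let L < K be normal subgroups of the finite group G with no normal subgroup of G strictly between them and with K / L abelian (the commutator subgroup of K lies in L). Let ϑ be an irreducible character of K invariant under conjugation by G. Then the restriction of ϑ to L is irreducible; or it equals e times an irreducible character of L with e ^ 2 equal to the index of L in K; or it is the sum of a family of pairwise distinct irreducible characters of L indexed by a set whose size is the index of L in K. -/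
theorem result {G : Type*} [Group G] [Fintype G] (K L : Subgroup G) [hK : K.Normal] [L.Normal] (hLK : L < K) (hchief : ∀ M : Subgroup G, M.Normal → L ≤ M → M ≤ K → M = L ∨ M = K) (hab : ⁅K, K⁆ ≤ L) (ϑ : K → ℂ) (hϑ : Cfsg.IsIrrCharacter K ϑ) (hinv : ∀ (g : G) (n : K), ϑ ⟨g * n * g⁻¹, hK.conj_mem (n : G) n.2 g⟩ = ϑ n) : Cfsg.IsIrrCharacter L (fun x : L => ϑ ⟨(x : G), hLK.le x.2⟩) ∨ (∃ (φ : L → ℂ) (e : ℕ), Cfsg.IsIrrCharacter L φ ∧ (fun x : L => ϑ ⟨(x : G), hLK.le x.2⟩) = (e : ℂ) • φ ∧ e ^ 2 = L.relIndex K) ∨ (∃ F : Finset (L → ℂ), (∀ φ ∈ F, Cfsg.IsIrrCharacter L φ) ∧ F.card = L.relIndex K ∧ (fun x : L => ϑ ⟨(x : G), hLK.le x.2⟩) = ∑ φ ∈ F, φ) := by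
  classical
  letI := Fintype.ofFinite K
  letI := Fintype.ofFinite (L.subgroupOf K)
  let e : L ≃* L.subgroupOf K := (Subgroup.subgroupOfEquivOfLe hLK.le).symm
  rcases trichotomy K L hLK hchief hab ϑ hϑ hinv with h | ⟨φ, m, hφ, hr, hm⟩ | ⟨F, hF, hc, hr⟩
  · exact Or.inl (Cfsg.Agent.Char.IsIrr.comp_mulEquiv e h)
  · refine Or.inr (Or.inl ⟨fun x => φ (e x), m, Cfsg.Agent.Char.IsIrr.comp_mulEquiv e hφ, ?_, hm⟩)
    funext x
    exact congrFun hr (e x)
  · refine Or.inr (Or.inr ⟨F.image fun φ x => φ (e x), fun ψ hψ => ?_, ?_, ?_⟩)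
    · obtain ⟨φ, hφ, rfl⟩ := Finset.mem_image.1 hψ
      exact Cfsg.Agent.Char.IsIrr.comp_mulEquiv e (hF φ hφ)
    · rw [Finset.card_image_of_injective _ fun a b h => funext fun y => by
        simpa using congrFun h (e.symm y)]
      exact hc
    · funext x
      have h1 := congrFun hr (e x)
      rw [Finset.sum_apply, Finset.sum_image fun a _ b _ h => funext fun y => by
        simpa using congrFun h (e.symm y)]
      rw [Finset.sum_apply] at h1
      exact h1

end Cfsg.Agent.S0857
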