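import Cfsg.Statements.S0858
import Cfsg.Agent.Lib.Char.QuasiPrimitiveMain
import Cfsg.Agent.S0857
import Cfsg.Agent.Lib.Grp.Solvable

set_option autoImplicit false
open Cfsg

namespace Cfsg.Agent.S0858
open Cfsg.Agent.Char in
theorem step {G : Type*} [Group G] [Fintype G] (N : Subgroup G) [N.Normal]
    (hsolv : Group.IsSolvable (G ⧸ N))
    (hchief : ∀ (H K L : Subgroup G), N ≤ L → L < K → K ≤ H →
      (∀ h ∈ H, ∀ k ∈ K, h * k * h⁻¹ ∈ K) → (∀ h ∈ H, ∀ l ∈ L, h * l * h⁻¹ ∈ L) →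
      (∀ M : Subgroup G, L ≤ M → M ≤ K → (∀ h ∈ H, ∀ m ∈ M, h * m * h⁻¹ ∈ M) → M = L ∨ M = K) →
      ¬ IsSquare (L.relIndex K)) :
    ∀ (n : ℕ) (H : Subgroup G), N ≤ H → Nat.card H ≤ n → ∀ χ : H → ℂ, Cfsg.IsIrrCharacter H χ →
      ∃ (U : Subgroup G) (hNU : N ≤ U) (ψ : U → ℂ), Cfsg.IsIrrCharacter U ψ ∧
        Cfsg.indFun U ψ = Cfsg.indFun H χ ∧
        Cfsg.IsIrrCharacter N (fun x : N => ψ ⟨(x : G), hNU x.2⟩) := by
  classical
  intro n
  induction n with
  | zero => exact fun H _ h => absurd Nat.card_pos (by omega : ¬ 0 < Nat.card H)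
  | succ n ih =>
  intro H hNH hcard χ hχ
  by_cases hN : Cfsg.IsIrrCharacter N (fun x : N => χ ⟨(x : G), hNH x.2⟩)
  · exact ⟨H, hNH, χ, hχ, rfl, hN⟩
  letI := Fintype.ofFinite H
  set N' := N.subgroupOf H with hN'
  haveI : N'.Normal := Subgroup.Normal.subgroupOf inferInstance _
  have hsolv' : Group.IsSolvable (H ⧸ N') := by
    haveI := hsolv
    refine solvable_of_solvable_injective (f := QuotientGroup.map N' N H.subtype fun x hx => hx)
      ((injective_iff_map_eq_one _).2 fun q hq => ?_)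
    induction q using QuotientGroup.induction_on with
    | _ x =>
      replace hq : (((x : G)) : G ⧸ N) = 1 := hq
      rw [QuotientGroup.eq_one_iff] at hq
      exact (QuotientGroup.eq_one_iff x).2 hq
  let Good : Subgroup H → Prop := fun K =>
    K.Normal ∧ N' ≤ K ∧ Cfsg.IsIrrCharacter K (fun x : K => χ x)
  have hex : ∃ m, ∃ K, Good K ∧ Nat.card K = m :=
    ⟨_, ⊤, ⟨inferInstance, le_top, IsIrr.comp_mulEquiv Subgroup.topEquiv hχ⟩, rfl⟩
  obtain ⟨K, ⟨hKn, hNK, hKi⟩, hKc⟩ := Nat.find_spec hex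
  haveI := hKn
  have hKne : K ≠ N' := by
    rintro rfl
    exact hN (IsIrr.comp_mulEquiv (Subgroup.subgroupOfEquivOfLe hNH).symm hKi)
  obtain ⟨L, hL⟩ := Set.Finite.exists_maximal
    (s := {L : Subgroup H | L.Normal ∧ N' ≤ L ∧ L < K}) (Set.toFinite _)
    ⟨N', inferInstance, le_rfl, lt_of_le_of_ne hNK (Ne.symm hKne)⟩
  obtain ⟨hLn, hNL, hLK⟩ := hL.1
  haveI := hLn
  have hmax : ∀ M : Subgroup H, M.Normal → L ≤ M → M ≤ K → M = L ∨ M = K := by
    intro M hM h1 h2
    rcases h2.eq_or_lt with h | h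
    · exact Or.inr h
    · exact Or.inl (le_antisymm (hL.2 ⟨hM, hNL.trans h1, h⟩ h1) h1)
  have hab : ⁅K, K⁆ ≤ L := by
    rcases hmax (⁅K, K⁆ ⊔ L) inferInstance le_sup_right
      (sup_le (Subgroup.commutator_le_self K) hLK.le) with h | h
    · exact le_sup_left.trans h.le
    · haveI : Group.IsSolvable (H ⧸ L) := Berger.isSolvable_quotient_of_le hsolv' hNL
      set q := QuotientGroup.mk' L
      have h1 : ⁅K.map q, K.map q⁆ = K.map q := by
        conv_rhs => rw [← h]
        rw [Subgroup.map_sup, Subgroup.map_commutator,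
          (Subgroup.map_eq_bot_iff L).2 (by rw [QuotientGroup.ker_mk']), sup_bot_eq]
      have h2 : K.map q = ⊥ := by
        by_contra hne
        exact (Cfsg.Agent.Grp.commutator_lt_self_of_solvable
          (inferInstance : Group.IsSolvable (K.map q)) hne).ne h1
      rw [Subgroup.map_eq_bot_iff, QuotientGroup.ker_mk'] at h2
      exact absurd h2 hLK.not_ge
  letI := Fintype.ofFinite K
  letI := Fintype.ofFinite L
  have hmin : ¬ Cfsg.IsIrrCharacter L (fun x : L => χ x) := fun hLi => by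
    have h1 := Nat.find_le (h := hex) ⟨L, ⟨hLn, hNL, hLi⟩, rfl⟩
    rw [← hKc] at h1
    exact hLK.ne (Subgroup.eq_of_le_of_card_ge hLK.le h1)
  rcases Cfsg.Agent.S0857.result K L hLK hmax hab _ hKi
    (fun g x => IsIrr.classFun hχ x g) with h | ⟨φ, m, -, -, hm⟩ | ⟨F, hF, -, hr⟩
  · exact absurd h hmin
  · exfalso
    have hinj := H.subtype_injective
    refine hchief H (K.map H.subtype) (L.map H.subtype) ?_ ?_ (Subgroup.map_subtype_le _) ?_ ?_ ?_
      ?_
    · intro x hx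
      exact ⟨⟨x, hNH hx⟩, hNL hx, rfl⟩
    · exact (Subgroup.map_lt_map_iff_of_injective hinj).2 hLK
    · rintro h hh _ ⟨k, hk, rfl⟩
      exact ⟨⟨h, hh⟩ * k * ⟨h, hh⟩⁻¹, hKn.conj_mem k hk _, rfl⟩
    · rintro h hh _ ⟨k, hk, rfl⟩
      exact ⟨⟨h, hh⟩ * k * ⟨h, hh⟩⁻¹, hLn.conj_mem k hk _, rfl⟩
    · intro M hLM hMK hMn
      have hMH : M ≤ H := hMK.trans (Subgroup.map_subtype_le _)
      have hM' : (M.subgroupOf H).Normal := ⟨fun x hx g => hMn g g.2 x hx⟩
      have h1 : L ≤ M.subgroupOf H := fun x hx => hLM ⟨x, hx, rfl⟩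
      have h2 : M.subgroupOf H ≤ K := fun x hx => by
        obtain ⟨y, hy, hyx⟩ := hMK hx
        rwa [← hinj hyx]
      rw [← Subgroup.map_subgroupOf_eq_of_le hMH]
      rcases hmax _ hM' h1 h2 with h | h
      · exact Or.inl (by rw [h])
      · exact Or.inr (by rw [h])
    · refine ⟨m, ?_⟩
      rw [Subgroup.relIndex_map_map_of_injective _ _ hinj, ← hm, sq]
  · have h1 := congrFun hr 1
    obtain ⟨φ, hφ⟩ : F.Nonempty := by
      rw [Finset.nonempty_iff_ne_empty]
      rintro rfl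
      rw [Finset.sum_empty] at h1
      exact IsIrr.one_ne_zero hKi h1
    have hne : Cfsg.classInner (fun x : L => χ x) φ = 1 := by
      rw [show (fun x : L => χ x) = ∑ φ ∈ F, φ from hr, classInner_sum_left,
        Finset.sum_eq_single φ (fun ψ hψ hne => classInner_irr_ne (hF ψ hψ) (hF φ hφ) hne)
          (fun h => absurd hφ h), classInner_self_irr (hF φ hφ)]
    have hne0 : Cfsg.classInner (fun x : L => χ x) φ ≠ 0 := by rw [hne]; exact one_ne_zero
    set T := inertia L φ with hT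
    letI := Fintype.ofFinite T
    have hLT : L ≤ T := le_inertia L (IsIrr.classFun (hF φ hφ))
    obtain ⟨ξ, hξ, hξind, -⟩ := Corr.exists_correspondent L (hF φ hφ) hT hLT hχ hne0
    have hTne : T ≠ ⊤ := fun htop => hmin (by
      have h2 := clifford L hχ (hF φ hφ) hne0
      rw [hne, one_smul, show conjOrbit L φ = {φ} from Finset.eq_singleton_iff_unique_mem.2
        ⟨(mem_conjOrbit _).2 ⟨1, conjN_one _ _⟩, fun f hf => by
          obtain ⟨q, rfl⟩ := (mem_conjOrbit _).1 hf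
          exact (mem_inertia _).1 (by rw [← hT, htop]; exact Subgroup.mem_top q)⟩,
        Finset.sum_singleton] at h2
      rw [h2]
      exact hF φ hφ)
    let ι := T.equivMapOfInjective H.subtype H.subtype_injective
    obtain ⟨U, hNU, ψ, hψ, hψind, hψN⟩ := ih (T.map H.subtype)
      (fun x hx => ⟨⟨x, hNH hx⟩, hLT (hNL hx), rfl⟩) (by
        rw [← Nat.card_congr ι.toEquiv]
        have : Nat.card T < Nat.card H := lt_of_le_of_ne (Subgroup.card_le_card_group _)
          fun h => hTne (Subgroup.eq_top_of_card_eq _ h)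
        omega)
      (fun x => ξ (ι.symm x)) (IsIrr.comp_mulEquiv ι.symm hξ)
    refine ⟨U, hNU, ψ, hψ, ?_, hψN⟩
    rw [hψind, ← hξind, Brauer.indFun_indFun]


/-- Let N be a normal subgroup of the finite group G with G / N solvable, and suppose that for every subgroup H containing N and all subgroups L < K between N and H that are normal in H with no subgroup normal in H strictly between them, the index of L in K is not a perfect square. Then every irreducible character χ of G is induced from an irreducible character ψ of some subgroup H containing N such that the restriction of ψ to N is irreducible. -/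
theorem result {G : Type*} [Group G] [Fintype G] (N : Subgroup G) [N.Normal] (hsolv : Group.IsSolvable (G ⧸ N)) (hchief : ∀ (H K L : Subgroup G), N ≤ L → L < K → K ≤ H → (∀ h ∈ H, ∀ k ∈ K, h * k * h⁻¹ ∈ K) → (∀ h ∈ H, ∀ l ∈ L, h * l * h⁻¹ ∈ L) → (∀ M : Subgroup G, L ≤ M → M ≤ K → (∀ h ∈ H, ∀ m ∈ M, h * m * h⁻¹ ∈ M) → M = L ∨ M = K) → ¬ IsSquare (L.relIndex K)) (χ : G → ℂ) (hχ : Cfsg.IsIrrCharacter G χ) : ∃ (H : Subgroup G) (hNH : N ≤ H) (ψ : H → ℂ), Cfsg.IsIrrCharacter H ψ ∧ Cfsg.indFun H ψ = χ ∧ Cfsg.IsIrrCharacter N (fun n : N => ψ ⟨(n : G), hNH n.2⟩) := by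
  obtain ⟨U, hNU, ψ, hψ, hind, hN⟩ := step N hsolv hchief (Nat.card (⊤ : Subgroup G)) ⊤ le_top le_rfl
    (fun x => χ x) (Cfsg.Agent.Char.IsIrr.comp_mulEquiv Subgroup.topEquiv hχ)
  exact ⟨U, hNU, ψ, hψ, hind.trans (Cfsg.Agent.Char.Brauer.indFun_top
    (Cfsg.Agent.Char.IsIrr.classFun hχ)), hN⟩

end Cfsg.Agent.S0858
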