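import Cfsg.Statements.S0861
import Cfsg.Agent.Lib.Char.NormAverage
import Cfsg.Agent.Lib.Char.ExtendMain
import Cfsg.Agent.Lib.Block.NormalDefect

set_option autoImplicit false
open Cfsg

namespace Cfsg.Agent.S0861

/-- Let P be a normal abelian Sylow p-subgroup of the finite group G and suppose some element g of P has centralizer exactly P. Then the number of irreducible characters of G is at most the order of P, and if equality holds then G / P is abelian (the commutator subgroup lies in P). -/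
theorem result {G : Type*} [Group G] [Finite G] (p : ℕ) [Fact p.Prime] (P : Sylow p G) [(P : Subgroup G).Normal] (hab : ∀ a ∈ P, ∀ b ∈ P, a * b = b * a) (g : G) (hg : g ∈ P) (hC : Subgroup.centralizer ({g} : Set G) = P) : Nat.card (Cfsg.IrrCharacter G) ≤ Nat.card P ∧ (Nat.card (Cfsg.IrrCharacter G) = Nat.card P → commutator G ≤ P) := by
  classical
  cases nonempty_fintype G
  haveI := Fintype.ofFinite ↥(P : Subgroup G)
  obtain ⟨M, hM⟩ := Cfsg.Agent.Char.exists_isPModular p (Fact.out : p.Prime)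
  have hdeg : ∀ χ : Cfsg.IrrCharacter G, ¬ p ∣ Cfsg.charDegree (χ : G → ℂ) := by
    intro χ h
    obtain ⟨θ, hθ⟩ := Cfsg.Agent.Block.exists_constituent_res (P : Subgroup G) χ
    obtain ⟨e, he, hed⟩ := Cfsg.Agent.Char.Ext.ratio_dvd_index' χ.2 θ.2 hθ
    have h1 : Cfsg.charDegree (θ : ↥(P : Subgroup G) → ℂ) = 1 :=
      (Cfsg.Agent.Block.comm_iff_linear ↥(P : Subgroup G)).1 (fun a c => Subtype.ext (hab a a.2 c c.2)) θ
    rw [Cfsg.Agent.Block.charDeg_spec' χ, Cfsg.Agent.Block.charDeg_spec' θ, h1, Nat.cast_one, mul_one,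
      Nat.cast_inj] at he
    exact P.not_dvd_index (h.trans (he ▸ hed))
  have hcong : ∀ χ : Cfsg.IrrCharacter G,
      Cfsg.MemLocalIdeal M ((χ : G → ℂ) g - (χ : G → ℂ) 1) := by
    intro χ
    obtain ⟨d, ρ, hρ⟩ := Cfsg.Agent.Block.irr_isChar χ
    obtain ⟨b, c, -, hc, hk⟩ := Cfsg.Agent.Char.exists_rep_eigenbasis ρ g
    obtain ⟨j, hj⟩ : ∃ j, orderOf g = p ^ j := by
      obtain ⟨j, hj⟩ := IsPGroup.iff_orderOf.1 P.2 ⟨g, hg⟩
      exact ⟨j, by rwa [← Subgroup.orderOf_coe] at hj⟩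
    rw [← hρ, ← pow_one g, hk 1, ← pow_zero g, hk 0, ← Finset.sum_sub_distrib]
    refine Cfsg.Agent.Block.ideal_sum hM fun i _ => ?_
    simp only [pow_one, pow_zero]
    exact Cfsg.Agent.Block.ideal_root_sub_one hM (k := j) (by rw [← hj]; exact hc i)
  have hne : ∀ χ : Cfsg.IrrCharacter G, (χ : G → ℂ) g ≠ 0 := fun χ h0 => by
    have h := hcong χ
    rw [h0, zero_sub] at h
    have h2 := Cfsg.Agent.Block.ideal_neg h
    rw [neg_neg, Cfsg.Agent.Block.charDeg_spec' χ] at h2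
    exact hdeg χ ((Cfsg.Agent.Block.ideal_natCast_iff hM _).1 h2)
  have hb := Cfsg.Agent.Char.NormAvg.column_bound g hne
  rw [hC] at hb
  refine ⟨hb.1, fun he => ?_⟩
  have hone : ∀ ψ : Cfsg.IrrCharacter (G ⧸ (P : Subgroup G)), Cfsg.charDegree (ψ : G ⧸ (P : Subgroup G) → ℂ) = 1 := by
    intro ψ
    have hψ : Cfsg.IsIrrCharacter G (fun v => (ψ : G ⧸ (P : Subgroup G) → ℂ) v) :=
      Cfsg.Agent.Char.IsIrr.comp_surjective (QuotientGroup.mk' (P : Subgroup G))
        (QuotientGroup.mk'_surjective _) ψ.2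
    have h : ‖(ψ : G ⧸ (P : Subgroup G) → ℂ) (g : G ⧸ (P : Subgroup G))‖ = 1 := hb.2 he ⟨_, hψ⟩
    rw [show ((g : G) : G ⧸ (P : Subgroup G)) = 1 from (QuotientGroup.eq_one_iff g).2 hg,
      Cfsg.Agent.Block.charDeg_spec' ψ, Complex.norm_natCast] at h
    exact_mod_cast h
  have hcomm := (Cfsg.Agent.Block.comm_iff_linear (G ⧸ (P : Subgroup G))).2 hone
  rw [commutator_def, Subgroup.commutator_le]
  intro a _ b _
  rw [← QuotientGroup.eq_one_iff]
  show ((a * b * a⁻¹ * b⁻¹ : G) : G ⧸ (P : Subgroup G)) = 1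
  rw [QuotientGroup.mk_mul, QuotientGroup.mk_mul, QuotientGroup.mk_mul, hcomm (a : G ⧸ (P : Subgroup G)) b]
  simp

end Cfsg.Agent.S0861
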