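import Cfsg.Statements.S0864
import Cfsg.Agent.Lib.Char.ExtendMain

set_option autoImplicit false
open Cfsg

namespace Cfsg.Agent.S0864

open Cfsg.Agent.Char Cfsg.Agent.Char.Ext

/-- Let N be a normal subgroup of the finite group G and λ a character of N of degree 1 invariant under conjugation by G. Suppose that for every prime p dividing the order of λ (in the group of functions under pointwise multiplication) there is a subgroup H containing N, of index prime to p and with the index of N in H a power of p, together with a character of H of degree 1 restricting to λ. Then λ is the restriction of a character of G of degree 1. -/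
theorem result {G : Type*} [Group G] [Finite G] (N : Subgroup G) [hN : N.Normal] (lam : N → ℂ) (hlam : Cfsg.IsCharacter N lam ∧ lam 1 = 1) (hinv : ∀ (g : G) (n : N), lam ⟨g * n * g⁻¹, hN.conj_mem (n : G) n.2 g⟩ = lam n) (hsyl : ∀ p : ℕ, p.Prime → p ∣ orderOf lam → ∃ (H : Subgroup G) (hNH : N ≤ H) (ν : H → ℂ), Nat.Coprime H.index p ∧ (∃ k : ℕ, N.relIndex H = p ^ k) ∧ Cfsg.IsCharacter H ν ∧ ν 1 = 1 ∧ ∀ n : N, ν ⟨(n : G), hNH n.2⟩ = lam n) : ∃ μ : G → ℂ, Cfsg.IsCharacter G μ ∧ μ 1 = 1 ∧ ∀ n : N, μ n = lam n := by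
  obtain ⟨l, hl⟩ := linearHom_of_isCharacter hlam.1 hlam.2
  have hirr : IsIrrCharacter N lam := hl ▸ isIrr_linear l
  have hdet : detChar lam = lam := by rw [hl]; exact detChar_linear l
  obtain ⟨χ, hχ, hres⟩ := exists_extension_of_witness hirr hinv (d := 1)
    (by rw [hlam.2, Nat.cast_one]) fun p hp => by
      by_cases hpo : p ∣ orderOf lam
      · obtain ⟨H, hNH, ν, hcop, -, hν, hν1, hνN⟩ := hsyl p hp hpo
        obtain ⟨m, rfl⟩ := linearHom_of_isCharacter hν hν1
        exact Or.inr (Or.inr ⟨H, hNH, _,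
          fun h => hp.ne_one (Nat.eq_one_of_dvd_coprimes hcop h dvd_rfl), isIrr_linear m, hνN⟩)
      · exact Or.inl ⟨hp.not_dvd_one, by rwa [hdet]⟩
  exact ⟨χ, IsIrr.isCharacter hχ, by rw [← hlam.2]; exact hres 1, hres⟩

end Cfsg.Agent.S0864
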