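import Cfsg.Statements.S0865
import Cfsg.Agent.Lib.Char.ExtendMain

set_option autoImplicit false
open Cfsg

namespace Cfsg.Agent.S0865

open Cfsg.Agent.Char Cfsg.Agent.Char.Ext

/-- Let N be a normal subgroup of the finite group G and λ a character of N of degree 1, invariant under conjugation by G, whose order (under pointwise multiplication) is coprime to the index of N. Then there is a character μ of G of degree 1 restricting to λ with the same order as λ, and μ is the only degree-1 character of G restricting to λ whose order is coprime to the index of N. -/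
theorem result {G : Type*} [Group G] [Finite G] (N : Subgroup G) [hN : N.Normal] (lam : N → ℂ) (hlam : Cfsg.IsCharacter N lam ∧ lam 1 = 1) (hinv : ∀ (g : G) (n : N), lam ⟨g * n * g⁻¹, hN.conj_mem (n : G) n.2 g⟩ = lam n) (hcop : Nat.Coprime N.index (orderOf lam)) : ∃ μ : G → ℂ, (Cfsg.IsCharacter G μ ∧ μ 1 = 1 ∧ (∀ n : N, μ n = lam n) ∧ orderOf μ = orderOf lam) ∧ ∀ μ' : G → ℂ, Cfsg.IsCharacter G μ' ∧ μ' 1 = 1 → (∀ n : N, μ' n = lam n) → Nat.Coprime N.index (orderOf μ') → μ' = μ := by
  obtain ⟨l₁, hl⟩ := linearHom_of_isCharacter hlam.1 hlam.2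
  have hirr : IsIrrCharacter N lam := hl ▸ isIrr_linear l₁
  have hdet : detChar lam = lam := by rw [hl]; exact detChar_linear l₁
  obtain ⟨χ, hχ, hres⟩ := exists_extension_of_witness hirr hinv (d := 1)
    (by rw [hlam.2, Nat.cast_one]) fun p hp =>
      witness_of_coprime hirr (by rw [hdet, mul_one]; exact hcop) hp
  obtain ⟨l₀, rfl⟩ := linearHom_of_isCharacter (IsIrr.isCharacter hχ)
    (by rw [← hlam.2]; exact hres 1)
  obtain ⟨l, hlN, hlo⟩ := exists_linear_adjust (N := N) l₀ (congrArg orderOf (funext hres)) hcop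
  refine ⟨fun g => (l g : ℂ), ⟨IsIrr.isCharacter (isIrr_linear l), by simp, fun n => ?_, ?_⟩, ?_⟩
  · show (l (n : G) : ℂ) = lam n
    rw [hlN]
    exact hres n
  · rw [orderOf_unitsFun, hlo]
  · rintro μ' ⟨hμ', hμ'1⟩ hμ'N hμ'o
    obtain ⟨l', rfl⟩ := linearHom_of_isCharacter hμ' hμ'1
    rw [orderOf_unitsFun] at hμ'o
    rw [linear_unique (N := N) (l := l') (l' := l) (fun m => Units.ext (by
      rw [hlN]
      exact (hμ'N m).trans (hres m).symm)) hμ'o (hlo ▸ hcop)]

end Cfsg.Agent.S0865
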