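import Cfsg.Statements.S0866
import Cfsg.Agent.Lib.Char.ExtendMain

set_option autoImplicit false
open Cfsg

namespace Cfsg.Agent.S0866

open Cfsg.Agent.Char Cfsg.Agent.Char.Ext

/-- Let N be a normal subgroup of the finite group G and ϑ an irreducible character of N, invariant under conjugation by G, of degree d coprime to the index of N. Then ϑ is the restriction of an irreducible character of G if and only if the determinantal character of ϑ is the restriction of a character of G of degree 1. -/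
theorem result {G : Type*} [Group G] [Finite G] (N : Subgroup G) [hN : N.Normal] (ϑ : N → ℂ) (hϑ : Cfsg.IsIrrCharacter N ϑ) (hinv : ∀ (g : G) (n : N), ϑ ⟨g * n * g⁻¹, hN.conj_mem (n : G) n.2 g⟩ = ϑ n) (d : ℕ) (hd : ϑ 1 = d) (hcop : Nat.Coprime N.index d) : (∃ χ : G → ℂ, Cfsg.IsIrrCharacter G χ ∧ (∀ n : N, χ n = ϑ n)) ↔ ∃ μ : G → ℂ, Cfsg.IsCharacter G μ ∧ μ 1 = 1 ∧ ∀ n : N, μ n = Cfsg.detChar ϑ n := by
  constructor
  · rintro ⟨χ, hχ, hres⟩
    obtain ⟨δ, hδ⟩ := isCharacter_detChar hχ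
    refine ⟨detChar χ, hδ ▸ IsIrr.isCharacter (isIrr_linear δ), by simp [hδ], fun n => ?_⟩
    exact (detChar_comp hχ N.subtype hϑ hres n).symm
  · rintro ⟨μ, hμ, hμ1, hμN⟩
    obtain ⟨l, rfl⟩ := linearHom_of_isCharacter hμ hμ1
    refine exists_extension_of_witness hϑ hinv hd fun p hp => ?_
    by_cases hpI : p ∣ N.index
    · exact Or.inr (Or.inl ⟨fun h => hp.ne_one (Nat.eq_one_of_dvd_coprimes hcop hpI h), l, hμN⟩)
    · exact witness_self hϑ d hpI

end Cfsg.Agent.S0866
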