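import Cfsg.Statements.S0868
import Cfsg.Agent.Lib.Char.Average

set_option autoImplicit false
open scoped ComplexConjugate
open Cfsg

namespace Cfsg.Agent.S0868

open Cfsg.Agent.Char

open scoped ComplexConjugate

/-- Let N be a normal subgroup of the finite group G, χ an irreducible character of G whose restriction ϑ to N is irreducible, and ψ an irreducible character of G. Define η on G by η g = (1 / order of N) * Σ over n in N of ψ (n * g) * conj (χ (n * g)). Then: if the restriction of ψ to N has nonzero inner product with ϑ, η is an irreducible character of G; if that inner product is zero, η vanishes identically; and if ψ = χ then η is identically 1. -/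
theorem result {G : Type*} [Group G] [Fintype G] (N : Subgroup G) [N.Normal] [Fintype N] (χ : G → ℂ) (hχ : Cfsg.IsIrrCharacter G χ) (hχN : Cfsg.IsIrrCharacter N (fun n : N => χ n)) (ψ : G → ℂ) (hψ : Cfsg.IsIrrCharacter G ψ) (η : G → ℂ) (hη : η = fun g => (Nat.card N : ℂ)⁻¹ * ∑ n : N, ψ ((n : G) * g) * conj (χ ((n : G) * g))) : (Cfsg.classInner (fun n : N => ψ n) (fun n : N => χ n) ≠ 0 → Cfsg.IsIrrCharacter G η) ∧ (Cfsg.classInner (fun n : N => ψ n) (fun n : N => χ n) = 0 → η = 0) ∧ (ψ = χ → η = fun _ => 1) := by
  classical
  have hav : η = avgN N (ψ * fun g => conj (χ g)) := by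
    rw [hη]; rfl
  rw [hav]
  refine ⟨fun h => (gallagher N hχ hψ hχN h).1, fun h => ?_, ?_⟩
  · apply IsChar.eq_zero_of_one_eq_zero
      (IsChar.avgN N (IsChar.mul (IsIrr.isCharacter hψ) (IsChar.conj (IsIrr.isCharacter hχ))))
    rw [avgN_one_eq, ← h]
    simp [classInner]
  · rintro rfl
    have hne : classInner (fun n : N => ψ n) (fun n : N => ψ n) ≠ 0 := by
      rw [classInner_self_irr hχN]; exact one_ne_zero
    refine eq_of_constituent_irr (gallagher N hψ hψ hχN hne).1 isIrr_one ?_
    have e : avgN N (fun _ : G => (1 : ℂ)) = fun _ => 1 := by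
      funext g; simp [avgN]
    rw [classInner_avgN, e]
    have : classInner (ψ * fun g => conj (ψ g)) (fun _ => 1) = classInner ψ ψ := by
      simp [classInner]
    rw [this, classInner_self_irr hψ]
    exact one_ne_zero

end Cfsg.Agent.S0868
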