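import Cfsg.Statements.S0869
import Cfsg.Agent.Lib.Char.Eigen

set_option autoImplicit false
open Cfsg

namespace Cfsg.Agent.S0869

open Cfsg.Agent.Char

/-- Let S be a nonempty finite type and R an additive subgroup of the integer-valued functions on S that is closed under pointwise multiplication. If the constant function 1 is not in R, then there exist a point x of S and a prime p such that p divides f x for every f in R. -/
theorem result {S : Type*} [Finite S] [Nonempty S] (R : AddSubgroup (S → ℤ)) (hmul : ∀ f ∈ R, ∀ g ∈ R, f * g ∈ R) (h1 : (1 : S → ℤ) ∉ R) : ∃ (x : S) (p : ℕ), p.Prime ∧ ∀ f ∈ R, (p : ℤ) ∣ f x := by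
  classical
  by_contra hc
  push Not at hc
  have hsel : ∀ x : S, ∃ f ∈ R, f x = 1 := by
    intro x
    let ev : (S → ℤ) →+ ℤ := Pi.evalAddMonoidHom (fun _ => ℤ) x
    obtain ⟨g, hg⟩ := Int.subgroup_cyclic (R.map ev)
    have hmem : ∀ f ∈ R, g ∣ f x := fun f hf => by
      have : f x ∈ R.map ev := ⟨f, hf, rfl⟩
      rw [hg, AddSubgroup.mem_closure_singleton] at this
      obtain ⟨k, hk⟩ := this
      exact ⟨k, by rw [← hk, smul_eq_mul, mul_comm]⟩
    have hg1 : g.natAbs = 1 := by
      by_contra hne
      obtain ⟨p, hp, hpd⟩ := Nat.exists_prime_and_dvd hne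
      obtain ⟨f, hf, hnd⟩ := hc x p hp
      exact hnd ((Int.natCast_dvd.mpr hpd).trans (hmem f hf))
    have hgm : g ∈ R.map ev := by rw [hg]; exact AddSubgroup.subset_closure rfl
    obtain ⟨f, hf, hfx⟩ := hgm
    rcases Int.natAbs_eq_iff.mp hg1 with h | h
    · exact ⟨f, hf, hfx.trans (by simpa using h)⟩
    · exact ⟨-f, R.neg_mem hf, by
        have : f x = g := hfx
        simp [this, h]⟩
  choose f hf hfx using hsel
  haveI := Fintype.ofFinite S
  -- the product of all (1 - f x) vanishes, so 1 lies in R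
  have key : ∀ s : Finset S, ∃ r ∈ R, ∏ x ∈ s, (1 - f x) = 1 - r := by
    intro s
    induction s using Finset.induction with
    | empty => exact ⟨0, R.zero_mem, by simp⟩
    | insert a s ha ih =>
      obtain ⟨r, hr, e⟩ := ih
      exact ⟨f a + r - f a * r, R.sub_mem (R.add_mem (hf a) hr) (hmul _ (hf a) _ hr), by
        rw [Finset.prod_insert ha, e]; ring⟩
  obtain ⟨r, hr, e⟩ := key Finset.univ
  refine h1 ?_
  have h0 : (∏ x : S, (1 - f x)) = 0 := funext fun y => by
    rw [Finset.prod_apply]
    exact Finset.prod_eq_zero (Finset.mem_univ y) (by simp [hfx y])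
  rw [h0] at e
  have : (1 : S → ℤ) = r := (sub_eq_zero.mp e.symm)
  exact this ▸ hr

end Cfsg.Agent.S0869
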