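import Cfsg.Statements.S0874
import Cfsg.Agent.Lib.Char.BrauerInduction
-- import your own Cfsg.Agent.* helpers here

set_option autoImplicit false
open Cfsg

namespace Cfsg.Agent.S0874

/-- For a finite group G and a prime p there are an integer m not divisible by p and a list of triples (E, φ, c), with E a p-elementary subgroup, φ a character of E and c an integer, such that the constant function m on G equals the sum of the c • (function induced from φ). -/
theorem result {G : Type*} [Group G] [Fintype G] (p : ℕ) (hp : p.Prime) : ∃ (m : ℤ) (l : List ((E : Subgroup G) × ((E → ℂ) × ℤ))), ¬ (p : ℤ) ∣ m ∧ (∀ t ∈ l, Cfsg.IsElementary p t.1 ∧ Cfsg.IsCharacter t.1 t.2.1) ∧ (fun _ : G => (m : ℂ)) = (l.map fun t => (t.2.2 : ℂ) • Cfsg.indFun t.1 t.2.1).sum := by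
  haveI := Fact.mk hp
  obtain ⟨m, hm, hmem⟩ := Cfsg.Agent.Char.Brauer.local_induction (G := G) p
  obtain ⟨l, hl, he⟩ : ∃ l : List ((E : Subgroup G) × ((E → ℂ) × ℤ)),
      (∀ t ∈ l, Cfsg.IsElementary p t.1 ∧ Cfsg.IsCharacter t.1 t.2.1) ∧
      (fun _ : G => (m : ℂ)) = (l.map fun t => (t.2.2 : ℂ) • Cfsg.indFun t.1 t.2.1).sum := by
    revert hmem
    generalize (fun _ : G => (m : ℂ)) = f
    intro hf
    induction hf using AddSubgroup.closure_induction with
    | mem f hf =>
      obtain ⟨E, hE, φ, hφ, rfl⟩ := hf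
      exact ⟨[⟨E, φ, 1⟩], by simp [hE, hφ], by simp⟩
    | zero => exact ⟨[], by simp, by simp⟩
    | add u v _ _ hu hv =>
      obtain ⟨l, hl, rfl⟩ := hu
      obtain ⟨r, hr, rfl⟩ := hv
      exact ⟨l ++ r, fun t ht => (List.mem_append.1 ht).elim (hl t) (hr t), by simp⟩
    | neg u hu0 hu =>
      obtain ⟨l, hl, rfl⟩ := hu
      refine ⟨l.map fun t => ⟨t.1, t.2.1, -t.2.2⟩, fun t ht => ?_, ?_⟩
      · obtain ⟨s, hs, rfl⟩ := List.mem_map.1 ht
        exact hl s hs
      · clear hl hu0
        induction l with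
        | nil => simp
        | cons t l ih =>
          simp only [List.map_cons, List.sum_cons, ← ih, neg_add, Int.cast_neg, neg_smul]
  exact ⟨m, l, hm, hl, he⟩

end Cfsg.Agent.S0874
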