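import Cfsg.Statements.S0875
import Cfsg.Agent.Lib.Char.SectionSpan
-- import your own Cfsg.Agent.* helpers here

set_option autoImplicit false
open Cfsg

namespace Cfsg.Agent.S0875

/-- Let G be a finite group of order m * n with m and n coprime, and g an element whose order is coprime to m. Every x in G factors uniquely as x = u * v with u, v commuting, the order of u coprime to n and the order of v coprime to m; let ϑ be the function on G equal to n at those x whose factor v is conjugate to g and equal to 0 elsewhere. Then ϑ is a linear combination of the irreducible characters of G with algebraic-integer coefficients. -/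
theorem result {G : Type*} [Group G] [Fintype G] (m n : ℕ) (hmn : Nat.card G = m * n) (hcop : Nat.Coprime m n) (g : G) (hg : Nat.Coprime (orderOf g) m) (ϑ : G → ℂ) (hϑ1 : ∀ x : G, (∃ v : G, IsConj v g ∧ (∃ u : G, x = u * v ∧ Commute u v ∧ Nat.Coprime (orderOf u) n ∧ Nat.Coprime (orderOf v) m)) → ϑ x = n) (hϑ0 : ∀ x : G, (¬ ∃ v : G, IsConj v g ∧ (∃ u : G, x = u * v ∧ Commute u v ∧ Nat.Coprime (orderOf u) n ∧ Nat.Coprime (orderOf v) m)) → ϑ x = 0) : ∃ c : Cfsg.IrrCharacter G → ℂ, (∀ χ, c χ ∈ Cfsg.AlgInt) ∧ ϑ = ∑ᶠ χ : Cfsg.IrrCharacter G, c χ • (χ : G → ℂ) := by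
  classical
  have hmn' : ∀ x : G, ∀ a b : ℕ, m * n = a * b → a.Coprime b → Nat.Coprime (orderOf x) b →
      orderOf x ∣ a := fun x a b h hco hx =>
    Nat.Coprime.dvd_of_dvd_mul_right hx (h ▸ hmn ▸ orderOf_dvd_natCard x)
  obtain ⟨k, hk, hk'⟩ := Cfsg.Agent.Char.Brauer.exists_projection_exponent (G := G) hcop
  obtain ⟨c, hc, hdec⟩ := Cfsg.Agent.Char.Brauer.algComb_section hmn hcop hk hk' g
  refine ⟨c, fun χ => (mem_integralClosure_iff ℤ ℂ).2 (hc χ), ?_⟩
  rw [finsum_eq_sum_of_fintype, ← hdec]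
  funext x
  have hiff : (∃ v : G, IsConj v g ∧ (∃ u : G, x = u * v ∧ Commute u v ∧
      Nat.Coprime (orderOf u) n ∧ Nat.Coprime (orderOf v) m)) ↔ IsConj (x ^ k) g := by
    constructor
    · rintro ⟨v, hv, u, rfl, huv, hu, hv'⟩
      rwa [huv.mul_pow, hk' u (hmn' u m n rfl hcop hu),
        hk v (hmn' v n m (mul_comm m n) hcop.symm hv'), one_mul]
    · intro h
      have hm : orderOf (x ^ k) ∣ n := by
        obtain ⟨t, ht⟩ := isConj_iff.1 h
        rw [show orderOf (x ^ k) = orderOf g by
          rw [← ht]; exact (MulEquiv.orderOf_eq (MulAut.conj t) _).symm]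
        exact hmn' g n m (mul_comm m n) hcop.symm hg
      refine ⟨x ^ k, h, x * (x ^ k)⁻¹, by group,
        ((Commute.refl x).pow_right k).mul_left (Commute.refl (x ^ k)).inv_left, ?_,
        hcop.symm.coprime_dvd_left hm⟩
      refine hcop.coprime_dvd_left (orderOf_dvd_of_pow_eq_one ?_)
      have hxn : orderOf (x ^ m) ∣ n := orderOf_dvd_of_pow_eq_one (by
        rw [← pow_mul, ← hmn, pow_card_eq_one'])
      rw [((Commute.refl x).pow_right k).inv_right.mul_pow, inv_pow, ← pow_mul, mul_comm, pow_mul,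
        hk _ hxn, mul_inv_cancel]
  by_cases h : IsConj (x ^ k) g
  · rw [hϑ1 x (hiff.2 h)]
    exact (if_pos h).symm
  · rw [hϑ0 x (fun h' => h (hiff.1 h'))]
    exact (if_neg h).symm

end Cfsg.Agent.S0875
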