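import Cfsg.Statements.S0876
import Cfsg.Agent.Lib.Char.SectionSpan
import Cfsg.Agent.Lib.Block.FirstMain
-- import your own Cfsg.Agent.* helpers here

set_option autoImplicit false
open Cfsg

namespace Cfsg.Agent.S0876

/-- Let G be a finite group, p a prime and M a maximal ideal of the ring of algebraic integers containing p. Let x, y be elements with p-parts a and b (so a⁻¹ * x and b⁻¹ * y are their p-regular parts). Then a⁻¹ * x and b⁻¹ * y are conjugate in G if and only if, for every irreducible character χ, the difference χ x - χ y lies in the local ideal at M. -/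
theorem result {G : Type*} [Group G] [Finite G] (p : ℕ) (M : Ideal Cfsg.AlgInt) (hM : Cfsg.IsPModular p M) (x y a b : G) (ha : Cfsg.IsPPart p x a) (hb : Cfsg.IsPPart p y b) : IsConj (a⁻¹ * x) (b⁻¹ * y) ↔ ∀ χ : Cfsg.IrrCharacter G, Cfsg.MemLocalIdeal M ((χ : G → ℂ) x - (χ : G → ℂ) y) := by
  classical
  haveI := Fact.mk hM.1
  cases nonempty_fintype G
  have hp : p.Prime := hM.1
  have hsplit : ∀ x a : G, Cfsg.IsPPart p x a →
      (∃ k, orderOf a = p ^ k) ∧ ¬ p ∣ orderOf (a⁻¹ * x) ∧ Commute a (a⁻¹ * x) := by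
    rintro x a ⟨v, rfl, hc, hu, hv⟩
    rw [inv_mul_cancel_left]
    exact ⟨hu, hv, hc⟩
  have hcongr : ∀ (χ : Cfsg.IrrCharacter G) (x a : G), Cfsg.IsPPart p x a →
      Cfsg.MemLocalIdeal M ((χ : G → ℂ) x - (χ : G → ℂ) (a⁻¹ * x)) := by
    intro χ x a ha
    obtain ⟨⟨k, hk⟩, hv, hc⟩ := hsplit x a ha
    refine Cfsg.Agent.Block.value_pPart_congr hM (Cfsg.Agent.Block.irr_isChar χ)
      (u := a) (mul_inv_cancel_left a x) hc (hk ▸ pow_orderOf_eq_one a) ?_
    have := Cfsg.Agent.Block.mem_zpowers_of_pPart ha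
    exact Subgroup.mul_mem _ (Subgroup.inv_mem _ this) (Subgroup.mem_zpowers x)
  constructor
  · intro h χ
    have := Cfsg.Agent.Block.ideal_sub hM (hcongr χ x a ha) (hcongr χ y b hb)
    rwa [Cfsg.Agent.Char.IsClass.eq_of_isConj (Cfsg.Agent.Block.irr_classFun χ) h,
      show (χ : G → ℂ) x - (χ : G → ℂ) (b⁻¹ * y) - ((χ : G → ℂ) y - (χ : G → ℂ) (b⁻¹ * y)) =
        (χ : G → ℂ) x - (χ : G → ℂ) y by ring] at this
  · intro h
    by_contra hne
    set g := a⁻¹ * x with hg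
    have hG0 : Nat.card G ≠ 0 := Nat.card_pos.ne'
    set n := Nat.card G / p ^ (Nat.card G).factorization p with hn
    set m := p ^ (Nat.card G).factorization p with hm
    have hmn : Nat.card G = m * n := (Nat.ordProj_mul_ordCompl_eq_self _ p).symm
    have hpn : ¬ p ∣ n := Nat.not_dvd_ordCompl hp hG0
    have hco : Nat.Coprime m n := (hp.coprime_iff_not_dvd.2 hpn).pow_left _
    obtain ⟨k, hk, hk'⟩ := Cfsg.Agent.Char.Brauer.exists_projection_exponent (G := G) hco
    obtain ⟨c, hc, hdec⟩ := Cfsg.Agent.Char.Brauer.algComb_section hmn hco hk hk' g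
    have hreg : ∀ v : G, ¬ p ∣ orderOf v → v ^ k = v := fun v hv => hk v (by
      refine Nat.Coprime.dvd_of_dvd_mul_left ?_ (hmn ▸ orderOf_dvd_natCard v)
      exact ((hp.coprime_iff_not_dvd.2 hv).symm.pow_right _))
    have hgreg : ¬ p ∣ orderOf g := (hsplit x a ha).2.1
    have hyreg : ¬ p ∣ orderOf (b⁻¹ * y) := (hsplit y b hb).2.1
    have e1 := congrFun hdec g
    have e2 := congrFun hdec (b⁻¹ * y)
    simp only [hreg g hgreg, hreg _ hyreg, Finset.sum_apply, Pi.smul_apply, smul_eq_mul] at e1 e2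
    rw [if_pos (IsConj.refl g)] at e1
    rw [if_neg (fun hh => hne hh.symm)] at e2
    refine (fun hh => hpn ((Cfsg.Agent.Block.ideal_natCast_iff hM n).1 hh)) ?_
    rw [show (n : ℂ) = ∑ χ : Cfsg.IrrCharacter G,
        (c χ * (χ : G → ℂ) g - c χ * (χ : G → ℂ) (b⁻¹ * y)) by
      rw [Finset.sum_sub_distrib, ← e1, ← e2, sub_zero]]
    refine Cfsg.Agent.Block.ideal_sum hM fun χ _ => ?_
    rw [← mul_sub]
    refine Cfsg.Agent.Block.ideal_mul_left hM (Cfsg.Agent.Block.ring_of_integral hM (hc χ)) ?_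
    have h3 := Cfsg.Agent.Block.ideal_sub hM (Cfsg.Agent.Block.ideal_add hM (h χ) (hcongr χ y b hb))
      (hcongr χ x a ha)
    rwa [show (χ : G → ℂ) x - (χ : G → ℂ) y + ((χ : G → ℂ) y - (χ : G → ℂ) (b⁻¹ * y)) -
      ((χ : G → ℂ) x - (χ : G → ℂ) g) = (χ : G → ℂ) g - (χ : G → ℂ) (b⁻¹ * y) by ring] at h3

end Cfsg.Agent.S0876
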