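import Cfsg.Statements.S0878
import Cfsg.Agent.Lib.Char.Complete

set_option autoImplicit false
open Cfsg

namespace Cfsg.Agent.S0878

open Cfsg.Agent.Char

/-- Let G be a Zassenhaus group on the finite set Ω, a a point, and let H be the subgroup of the stabilizer of a consisting of the identity and the elements fixing no point other than a (given here as a subgroup of the stabilizer of order one less than the number of points whose non-identity elements fix only a; it is the Frobenius kernel of the stabilizer). Then an element outside the stabilizer of a conjugates no non-identity element of H into H, and the normalizer of H is exactly the stabilizer of a. -/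
theorem result {G Ω : Type*} [Group G] [Finite G] [MulAction G Ω] [Fintype Ω] (hZ : Cfsg.IsZassenhausGroup G Ω) (a : Ω) (H : Subgroup G) (hHa : H ≤ MulAction.stabilizer G a) (hHcard : Nat.card H + 1 = Fintype.card Ω) (hHfix : ∀ u ∈ H, u ≠ 1 → ∀ c : Ω, u • c = c → c = a) : (∀ g : G, g ∉ MulAction.stabilizer G a → ∀ u ∈ H, g * u * g⁻¹ ∈ H → u = 1) ∧ Subgroup.normalizer (H : Set G) = MulAction.stabilizer G a := by
  classical
  obtain ⟨hfaith, h2t, h3, ⟨g₀, hg₀, a₀, b₀, hab₀, hga, hgb⟩, -⟩ := hZ
  have hΩ : 3 ≤ Fintype.card Ω := by
    by_contra hlt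
    apply hg₀
    apply hfaith.eq_of_smul_eq_smul
    intro c
    rw [one_smul]
    by_contra hc
    have h : ({a₀, b₀, c} : Finset Ω).card = 3 := by
      have h1 : a₀ ≠ c := fun e => hc (e ▸ hga)
      have h2 : b₀ ≠ c := fun e => hc (e ▸ hgb)
      simp [hab₀, h1, h2]
    exact hlt (h ▸ Finset.card_le_univ _)
  have part1 : ∀ g : G, g ∉ MulAction.stabilizer G a → ∀ u ∈ H, g * u * g⁻¹ ∈ H → u = 1 := by
    intro g hg u hu hgu
    by_contra hu1
    apply hg
    refine hHfix _ hgu ?_ _ ?_
    · simpa [mul_eq_one_iff_eq_inv, mul_assoc] using hu1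
    · rw [mul_smul, mul_smul, inv_smul_smul, (hHa hu : u • a = a)]
  refine ⟨part1, le_antisymm ?_ ?_⟩
  · intro g hg
    by_contra hga'
    have hH1 : Nontrivial H := by
      rw [← Finite.one_lt_card_iff_nontrivial]; omega
    obtain ⟨u, hu⟩ := exists_ne (1 : H)
    exact hu (Subtype.ext (part1 g hga' u u.2 ((Subgroup.mem_normalizer_iff.mp hg _).mp u.2)))
  · have : Fintype G := Fintype.ofFinite G
    set K := MulAction.stabilizer G a with hK
    let D : Finset K := Finset.univ.filter fun g => ∀ c : Ω, g • c = c → c = a
    let fx : K → ℕ := fun g => (Finset.univ.filter fun c : Ω => g • c = c).card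
    have hsum : ∑ g : K, fx g = 2 * Fintype.card K := by
      simp only [fx, Finset.card_filter]
      rw [Finset.sum_comm]
      have hst : ∀ c : Ω, (∑ g : K, if g • c = c then 1 else 0) = Nat.card (MulAction.stabilizer K c) := by
        intro c
        rw [← Finset.card_filter, ← Fintype.card_subtype, ← Nat.card_eq_fintype_card]
        rfl
      simp only [hst]
      rw [← Finset.add_sum_erase _ _ (Finset.mem_univ a)]
      have ha : MulAction.stabilizer K a = ⊤ := by
        ext g; exact iff_of_true g.2 trivial
      have hb : ∀ c ∈ Finset.univ.erase a,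
          Nat.card (MulAction.stabilizer K c) * (Fintype.card Ω - 1) = Nat.card K := by
        intro c hc
        have hca : c ≠ a := (Finset.mem_erase.mp hc).1
        have horb : MulAction.orbit K c = ({a} : Set Ω)ᶜ := by
          ext d
          simp only [MulAction.mem_orbit_iff, Set.mem_compl_iff, Set.mem_singleton_iff]
          constructor
          · rintro ⟨g, rfl⟩ hd
            apply hca
            have := congrArg (fun e => (g : G)⁻¹ • e) hd
            rw [Subgroup.smul_def] at this
            simp only [inv_smul_smul] at this
            rw [this]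
            exact inv_smul_eq_iff.mpr g.2.symm
          · intro hd
            obtain ⟨g, hga', hgc⟩ := (MulAction.is_two_pretransitive_iff (G := G) (α := Ω)).mp h2t
              hca.symm (Ne.symm hd)
            exact ⟨⟨g, hga'⟩, hgc⟩
        have h := MulAction.orbitEquivQuotientStabilizer K c
        have hn : Nat.card (MulAction.orbit K c) = Fintype.card Ω - 1 := by
          rw [horb, Nat.card_eq_fintype_card, Fintype.card_compl_set]; simp
        rw [Subgroup.card_eq_card_quotient_mul_card_subgroup (MulAction.stabilizer K c),
          ← Nat.card_congr h, hn, mul_comm]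
      have hsum' : (∑ c ∈ Finset.univ.erase a, Nat.card (MulAction.stabilizer K c)) *
          (Fintype.card Ω - 1) = (Fintype.card Ω - 1) * Nat.card K := by
        rw [Finset.sum_mul, Finset.sum_congr rfl hb, Finset.sum_const,
          Finset.card_erase_of_mem (Finset.mem_univ a), Finset.card_univ, smul_eq_mul]
      rw [ha, Subgroup.card_top, ← Nat.card_eq_fintype_card]
      have hpos : 0 < Fintype.card Ω - 1 := by omega
      rw [mul_comm _ (Fintype.card Ω - 1)] at hsum'
      have := Nat.eq_of_mul_eq_mul_left hpos hsum'
      omega
    have hfa : ∀ g : K, (g • a : Ω) = a := fun g => g.2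
    have h1 : (1 : K) ∉ D := by
      simp only [D, Finset.mem_filter, Finset.mem_univ, true_and]
      intro h
      have : Fintype.card Ω ≤ 1 := Fintype.card_le_one_iff.mpr fun c d =>
        (h c (one_smul _ _)).trans (h d (one_smul _ _)).symm
      omega
    have hfD : ∀ g ∈ D, fx g = 1 := by
      intro g hg
      simp only [D, Finset.mem_filter, Finset.mem_univ, true_and] at hg
      rw [Finset.card_eq_one]
      exact ⟨a, Finset.ext fun c => by simpa using ⟨hg c, fun e => e ▸ hfa g⟩⟩
    have hfO : ∀ g ∈ (Finset.univ \ insert 1 D : Finset K), fx g = 2 := by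
      intro g hg
      simp only [D, Finset.mem_sdiff, Finset.mem_univ, Finset.mem_insert, Finset.mem_filter,
        true_and, not_or, not_forall] at hg
      obtain ⟨hg1, b, hb, hba⟩ := hg
      rw [Finset.card_eq_two]
      refine ⟨a, b, Ne.symm hba, Finset.ext fun c => ?_⟩
      simp only [Finset.mem_filter, Finset.mem_univ, true_and, Finset.mem_insert, Finset.mem_singleton]
      constructor
      · intro hc
        by_contra hn
        rw [not_or] at hn
        exact hg1 (Subtype.ext (h3 g a b c (Ne.symm hba) (Ne.symm hn.2) (Ne.symm hn.1) g.2 hb hc))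
      · rintro (rfl | rfl)
        exacts [hfa g, hb]
    have hf1 : fx 1 = Fintype.card Ω := by simp [fx]
    have hD : D.card + 1 = Nat.card H := by
      have h := Finset.sum_sdiff (f := fx) (Finset.subset_univ (insert 1 D))
      rw [Finset.sum_congr rfl hfO, Finset.sum_insert h1, Finset.sum_congr rfl hfD, hf1, hsum] at h
      simp only [Finset.sum_const, smul_eq_mul, Finset.card_sdiff, Finset.inter_univ,
        Finset.univ_inter, Finset.card_univ, Finset.card_insert_of_notMem h1] at h
      have : (insert 1 D).card ≤ Fintype.card K := Finset.card_le_univ _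
      rw [Finset.card_insert_of_notMem h1] at this
      omega
    let H' : Finset K := Finset.univ.filter fun g => (g : G) ∈ H
    have hH'c : H'.card = Nat.card H := by
      rw [← Fintype.card_subtype, ← Nat.card_eq_fintype_card]
      exact Nat.card_congr ⟨fun g => ⟨g.1.1, g.2⟩, fun v => ⟨⟨v.1, hHa v.2⟩, v.2⟩,
        fun g => rfl, fun v => rfl⟩
    have hH' : H' = insert 1 D := by
      refine Finset.eq_of_subset_of_card_le ?_ ?_
      · intro g hg
        simp only [H', D, Finset.mem_filter, Finset.mem_univ, true_and, Finset.mem_insert] at hg ⊢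
        by_cases h : g = 1
        · exact Or.inl h
        · exact Or.inr fun c hc => hHfix g hg (fun e => h (Subtype.ext e)) c hc
      · rw [Finset.card_insert_of_notMem h1, hH'c, hD]
    intro g hg
    refine Subgroup.mem_normalizer_fintype fun u hu => ?_
    by_cases hu1 : u = 1
    · simp [hu1]
    have hm : (⟨g * u * g⁻¹, K.mul_mem (K.mul_mem hg (hHa hu)) (K.inv_mem hg)⟩ : K) ∈ insert 1 D := by
      refine Finset.mem_insert_of_mem ?_
      simp only [D, Finset.mem_filter, Finset.mem_univ, true_and]
      intro c hc
      have h := hHfix u hu hu1 (g⁻¹ • c) ?_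
      · rw [inv_smul_eq_iff] at h; rw [h]; exact hg
      · rw [Subgroup.smul_def] at hc
        simp only [mul_smul] at hc
        exact (inv_smul_eq_iff.mpr hc.symm).symm
    rw [← hH'] at hm
    simpa [H'] using hm

end Cfsg.Agent.S0878
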