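import Cfsg.Statements.S0879
-- import your own Cfsg.Agent.* helpers here

set_option autoImplicit false
open Cfsg

namespace Cfsg.Agent.S0879

/-- Let G be a Zassenhaus group on the finite set Ω and E the stabilizer of two distinct points a, b. Then an element outside the normalizer of E conjugates no non-identity element of E into E, and E has index 2 in its normalizer. -/
theorem result {G Ω : Type*} [Group G] [Finite G] [MulAction G Ω] [Fintype Ω] (hZ : Cfsg.IsZassenhausGroup G Ω) {a b : Ω} (hab : a ≠ b) : (∀ g : G, g ∉ Subgroup.normalizer ((MulAction.stabilizer G a ⊓ MulAction.stabilizer G b : Subgroup G) : Set G) → ∀ x ∈ (MulAction.stabilizer G a ⊓ MulAction.stabilizer G b : Subgroup G), g * x * g⁻¹ ∈ (MulAction.stabilizer G a ⊓ MulAction.stabilizer G b : Subgroup G) → x = 1) ∧ ((MulAction.stabilizer G a ⊓ MulAction.stabilizer G b : Subgroup G).subgroupOf (Subgroup.normalizer ((MulAction.stabilizer G a ⊓ MulAction.stabilizer G b : Subgroup G) : Set G))).index = 2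 := by
  classical
  obtain ⟨hf, h2, h3, ⟨g₀, hg₀, a₀, b₀, hab₀, hga₀, hgb₀⟩, -⟩ := hZ
  rw [MulAction.is_two_pretransitive_iff] at h2
  set H : Subgroup G := MulAction.stabilizer G a ⊓ MulAction.stabilizer G b with hH
  have hmem : ∀ x : G, x ∈ H ↔ x • a = a ∧ x • b = b := fun x => Iff.rfl
  obtain ⟨x₀, hx₀, hx₀1⟩ : ∃ x ∈ H, x ≠ 1 := by
    obtain ⟨u, hua, hub⟩ := h2 hab₀ hab
    refine ⟨u * g₀ * u⁻¹, (hmem _).2 ?_, fun e => hg₀ (conj_eq_one_iff.1 e)⟩
    constructor
    · rw [← hua, ← mul_smul, inv_mul_cancel_right, mul_smul, hga₀]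
    · rw [← hub, ← mul_smul, inv_mul_cancel_right, mul_smul, hgb₀]
  have hpts : ∀ x ∈ H, x ≠ 1 → ∀ c, x • c = c → c = a ∨ c = b := by
    intro x hx hx1 c hc
    by_contra h
    push Not at h
    exact hx1 (h3 x a b c hab h.2.symm h.1.symm hx.1 hx.2 hc)
  have hnorm : ∀ g : G, g ∈ Subgroup.normalizer (H : Set G) ↔
      (g • a = a ∧ g • b = b) ∨ (g • a = b ∧ g • b = a) := by
    intro g
    constructor
    · intro hg
      have hy : g * x₀ * g⁻¹ ∈ H := (Subgroup.mem_normalizer_iff.1 hg x₀).1 hx₀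
      have hy1 : g * x₀ * g⁻¹ ≠ 1 := fun e => hx₀1 (conj_eq_one_iff.1 e)
      have e1 := hpts _ hy hy1 (g • a) (by rw [← mul_smul, inv_mul_cancel_right, mul_smul, hx₀.1])
      have e2 := hpts _ hy hy1 (g • b) (by rw [← mul_smul, inv_mul_cancel_right, mul_smul, hx₀.2])
      have hne : g • a ≠ g • b := fun e => hab (MulAction.injective g e)
      rcases e1 with e1 | e1 <;> rcases e2 with e2 | e2
      · exact absurd (e1.trans e2.symm) hne
      · exact Or.inl ⟨e1, e2⟩
      · exact Or.inr ⟨e1, e2⟩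
      · exact absurd (e1.trans e2.symm) hne
    · intro hg
      refine Subgroup.mem_normalizer_iff.2 fun n => ?_
      simp only [SetLike.mem_coe, hmem]
      have key : ∀ c : Ω, (g * n * g⁻¹) • (g • c) = g • c ↔ n • c = c := fun c => by
        rw [← mul_smul, inv_mul_cancel_right, mul_smul]
        exact (MulAction.injective (β := Ω) g).eq_iff
      have ka := key a
      have kb := key b
      rcases hg with ⟨e1, e2⟩ | ⟨e1, e2⟩ <;> rw [e1] at ka <;> rw [e2] at kb
      · rw [ka, kb]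
      · rw [ka, kb]; exact and_comm
  refine ⟨fun g hg x hx hy => ?_, ?_⟩
  · by_contra hx1
    have hy1 : g * x * g⁻¹ ≠ 1 := fun e => hx1 (conj_eq_one_iff.1 e)
    have e1 := hpts _ hy hy1 (g • a) (by rw [← mul_smul, inv_mul_cancel_right, mul_smul, hx.1])
    have e2 := hpts _ hy hy1 (g • b) (by rw [← mul_smul, inv_mul_cancel_right, mul_smul, hx.2])
    have hne : g • a ≠ g • b := fun e => hab (MulAction.injective g e)
    refine hg ((hnorm g).2 ?_)
    rcases e1 with e1 | e1 <;> rcases e2 with e2 | e2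
    · exact absurd (e1.trans e2.symm) hne
    · exact Or.inl ⟨e1, e2⟩
    · exact Or.inr ⟨e1, e2⟩
    · exact absurd (e1.trans e2.symm) hne
  · obtain ⟨t, hta, htb⟩ := h2 hab hab.symm
    rw [Subgroup.index_eq_two_iff]
    refine ⟨⟨t, (hnorm t).2 (Or.inr ⟨hta, htb⟩)⟩, fun u => ?_⟩
    rcases (hnorm u).1 u.2 with ⟨e1, e2⟩ | ⟨e1, e2⟩
    · refine Or.inr ⟨Subgroup.mem_subgroupOf.2 ((hmem _).2 ⟨e1, e2⟩), fun h => hab ?_⟩
      have h' := ((hmem _).1 (Subgroup.mem_subgroupOf.1 h)).1
      rw [Subgroup.coe_mul, mul_smul, hta, e2] at h'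
      exact h'.symm
    · refine Or.inl ⟨Subgroup.mem_subgroupOf.2 ((hmem _).2 ?_), fun h => hab ?_⟩
      · rw [Subgroup.coe_mul, mul_smul, mul_smul]
        constructor
        · exact (congrArg ((u : G) • ·) hta).trans e2
        · exact (congrArg ((u : G) • ·) htb).trans e1
      · have h' := ((hmem _).1 (Subgroup.mem_subgroupOf.1 h)).1
        exact h'.symm.trans e1

end Cfsg.Agent.S0879
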