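import Cfsg.Statements.S0880
import Cfsg.Agent.Lib.Grp.ZasOdd
-- import your own Cfsg.Agent.* helpers here

set_option autoImplicit false
open Cfsg

namespace Cfsg.Agent.S0880

/-- Let G be a finite simple Zassenhaus group on Ω with n points whose two-point stabilizer E has odd order less than n - 2. Then there are two elements of G, each fixing no point of Ω, that are not conjugate. -/
theorem result {G Ω : Type*} [Group G] [Finite G] [MulAction G Ω] [Fintype Ω] (hZ : Cfsg.IsZassenhausGroup G Ω) {a b : Ω} (hab : a ≠ b) [IsSimpleGroup G] (hodd : Odd (Nat.card ↥(MulAction.stabilizer G a ⊓ MulAction.stabilizer G b : Subgroup G))) (hlt : Nat.card ↥(MulAction.stabilizer G a ⊓ MulAction.stabilizer G b : Subgroup G) < Fintype.card Ω - 2) : ∃ x y : G, (∀ c : Ω, x • c ≠ c) ∧ (∀ c : Ω, y • c ≠ c) ∧ ¬ IsConj x y := by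
  classical
  obtain ⟨D, rfl, rfl⟩ := Agent.Block.Zas.frame_of_zassenhaus hZ hab
  haveI := Fintype.ofFinite G
  have hn := D.two_le_F hZ
  have hH := D.H_ne_bot hZ
  have hodd' : Odd (Nat.card D.H) := hodd
  have hcount := Agent.Grp.ZasS.card_derangements D hn
  set T := Finset.univ.filter fun g : G => ∀ c : Ω, g • c ≠ c with hT
  rw [D.card_group] at hcount
  obtain ⟨k, hk⟩ : ∃ k, Nat.card D.F = k + 1 := ⟨Nat.card D.F - 1, by omega⟩
  obtain ⟨d, hd⟩ : ∃ d, Nat.card D.H = d + 3 := ⟨Nat.card D.H - 3, by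
    have h1 : 1 < Nat.card D.H := Finite.one_lt_card_iff_nontrivial.mpr
      ((Subgroup.nontrivial_iff_ne_bot _).mpr hH)
    obtain ⟨m, hm⟩ := hodd'
    omega⟩
  rw [hk, hd, Nat.add_sub_cancel] at hcount
  have h2T : 2 * T.card = (k + 1) * ((k + 2) * (d + 2) + 2) := by nlinarith
  obtain ⟨x, hx⟩ : T.Nonempty := Finset.card_pos.mp (by
    have : 0 < (k + 1) * ((k + 2) * (d + 2) + 2) := Nat.mul_pos (by omega) (by omega)
    omega)
  have hxd : ∀ c : Ω, x • c ≠ c := (Finset.mem_filter.mp hx).2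
  by_contra hcon
  push Not at hcon
  have horb : Nat.card (MulAction.orbit (ConjAct G) x) = T.card := by
    rw [Nat.card_coe_set_eq, ← Set.ncard_coe_finset]
    congr 1
    ext y
    simp only [Finset.mem_coe]
    constructor
    · rintro ⟨g, rfl⟩
      refine Finset.mem_filter.mpr ⟨Finset.mem_univ _, fun c e => hxd ((ConjAct.ofConjAct g)⁻¹ • c) ?_⟩
      simp only [ConjAct.smul_def, mul_smul] at e
      exact smul_left_cancel (ConjAct.ofConjAct g) (by rw [e, smul_inv_smul])
    · intro hy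
      obtain ⟨c, hc⟩ := isConj_iff.mp (hcon x y hxd (Finset.mem_filter.mp hy).2)
      exact ⟨ConjAct.toConjAct c, by
        show ConjAct.toConjAct c • x = y
        rw [ConjAct.toConjAct_smul]; exact hc⟩
  have hdvd : T.card ∣ Nat.card G := by
    rw [← horb, show Nat.card G = Nat.card (ConjAct G) from rfl,
      ← Nat.card_congr (MulAction.orbitProdStabilizerEquivGroup (ConjAct G) x), Nat.card_prod]
    exact dvd_mul_right _ _
  obtain ⟨q, hq⟩ := hdvd
  rw [D.card_group, hk, hd] at hq
  have hq' : (k + 1) * (2 * ((k + 2) * (d + 3))) = (k + 1) * (((k + 2) * (d + 2) + 2) * q) := by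
    calc (k + 1) * (2 * ((k + 2) * (d + 3))) = 2 * (T.card * q) := by rw [← hq]; ring
      _ = _ := by rw [← mul_assoc, h2T, mul_assoc]
  have hq'' := Nat.eq_of_mul_eq_mul_left (Nat.succ_pos k) hq'
  have hq3 : q < 3 := by
    by_contra hq3
    have := Nat.mul_le_mul_left ((k + 2) * (d + 2) + 2) (Nat.le_of_not_lt hq3)
    nlinarith
  interval_cases q <;> nlinarith

end Cfsg.Agent.S0880
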