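import Cfsg.Statements.S0881
import Cfsg.Agent.Lib.Grp.ZasOdd
import Cfsg.Agent.Lib.Char.Complete
-- import your own Cfsg.Agent.* helpers here

set_option autoImplicit false
open Cfsg

namespace Cfsg.Agent.S0881

/-- Let G be a finite simple Zassenhaus group on Ω with n points, a ≠ b points with two-point stabilizer E of odd order less than n - 2, and let H be the subgroup of the stabilizer of a consisting of the identity and the elements fixing no point other than a (given here as a subgroup of the stabilizer of order one less than the number of points whose non-identity elements fix only a; it is the Frobenius kernel of the stabilizer). Let μ be a character of degree 1 of the stabilizer of a that is identically 1 on H but not identically 1. Then the function induced from μ to G is an irreducible character of G, and it takes the value 1 at every non-identity element of H. -/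
theorem result {G Ω : Type*} [Group G] [Fintype G] [MulAction G Ω] [Fintype Ω] (hZ : Cfsg.IsZassenhausGroup G Ω) {a b : Ω} (hab : a ≠ b) [IsSimpleGroup G] (hodd : Odd (Nat.card ↥(MulAction.stabilizer G a ⊓ MulAction.stabilizer G b : Subgroup G))) (hlt : Nat.card ↥(MulAction.stabilizer G a ⊓ MulAction.stabilizer G b : Subgroup G) < Fintype.card Ω - 2) (H : Subgroup G) (hHa : H ≤ MulAction.stabilizer G a) (hHcard : Nat.card H + 1 = Fintype.card Ω) (hHfix : ∀ u ∈ H, u ≠ 1 → ∀ c : Ω, u • c = c → c = a) (μ : MulAction.stabilizer G a → ℂ) (hμ : Cfsg.IsCharacter (MulAction.stabilizer G a) μ ∧ μ 1 = 1) (hμH : ∀ u : MulAction.stabilizer G a, (u : G) ∈ H → μ u = 1) (hμne : μ ≠ fun _ => 1) : Cfsg.IsIrrCharacter G (Cfsg.indFun (MulAction.stabilizer G a) μ) ∧ ∀ u ∈ H, u ≠ 1 → Cfsg.indFun (MulAction.stabilizer G a) μ u = 1 := by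
  classical
  obtain ⟨D, rfl, rfl⟩ := Agent.Block.Zas.frame_of_zassenhaus hZ hab
  have hn := D.two_le_F hZ
  have hH' := D.H_ne_bot hZ
  have hodd' : Odd (Nat.card D.H) := hodd
  have hc := D.card_points
  rw [Nat.card_eq_fintype_card] at hc
  have hHF : H = D.F := Agent.Grp.ZasS.eq_F D H hHa (by omega) hHfix
  subst hHF
  obtain ⟨l, rfl⟩ := Agent.Char.linearHom_of_isCharacter hμ.1 hμ.2
  let lE : D.H →* ℂˣ := l.comp (Subgroup.inclusion inf_le_left)
  have hlF : ∀ g : (MulAction.stabilizer G D.a), (g : G) ∈ D.F → l g = 1 := fun g hg => Units.ext (hμH g hg)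
  have hlE : lE ≠ 1 := by
    intro e
    refine hμne (funext fun g => ?_)
    obtain ⟨u, hu, h, hh, e'⟩ := D.decomp g.2
    have hg : g = ⟨u, hHa hu⟩ * ⟨h, hh.1⟩ := Subtype.ext e'
    have h1 : l ⟨h, hh.1⟩ = 1 := DFunLike.congr_fun e ⟨h, hh⟩
    show (l g : ℂ) = 1
    rw [hg, map_mul, hlF ⟨u, hHa hu⟩ hu, h1, one_mul, Units.val_one]
  obtain ⟨s, hsa, hsb⟩ := D.two D.hab D.b_ne
  obtain ⟨hs2, hsinv⟩ := (Agent.Grp.ZasS.swaps D hn hH').2 s hsa hsb
  have hsi : s⁻¹ = s := inv_eq_of_mul_eq_one_right hs2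
  set φ := indFun (MulAction.stabilizer G D.a) (fun g : (MulAction.stabilizer G D.a) => (l g : ℂ)) with hφ
  have hS0 : (Nat.card (MulAction.stabilizer G D.a) : ℂ) ≠ 0 := Nat.cast_ne_zero.mpr Nat.card_pos.ne'
  have hcount : ∀ c : Ω, ((Finset.univ.filter fun x : G => x • D.a = c).card : ℂ) = Nat.card (MulAction.stabilizer G D.a) := by
    intro c
    obtain ⟨k, hk⟩ := D.transitive D.a c
    rw [Nat.card_eq_fintype_card, ← Fintype.card_subtype]
    congr 1
    refine Fintype.card_congr (Equiv.subtypeEquiv (Equiv.mulLeft k⁻¹) fun x => ?_)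
    rw [Equiv.coe_mulLeft, MulAction.mem_stabilizer_iff, mul_smul, inv_smul_eq_iff, hk]
  have hcl : ∀ (g x : G) (hg : g ∈ (MulAction.stabilizer G D.a)) (hx : x ∈ (MulAction.stabilizer G D.a)),
      extendByZero (MulAction.stabilizer G D.a) (fun g : (MulAction.stabilizer G D.a) => (l g : ℂ)) (x⁻¹ * g * x) = (l ⟨g, hg⟩ : ℂ) := by
    intro g x hg hx
    have e : x⁻¹ * g * x = (((⟨x, hx⟩ : (MulAction.stabilizer G D.a))⁻¹ * ⟨g, hg⟩ * ⟨x, hx⟩ : (MulAction.stabilizer G D.a)) : G) := rfl
    rw [e, Agent.Char.extendByZero_apply, map_mul, map_mul, map_inv, mul_comm (l ⟨x, hx⟩)⁻¹,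
      inv_mul_cancel_right]
  have hout : ∀ (g x : G), g • (x • D.a) ≠ x • D.a →
      extendByZero (MulAction.stabilizer G D.a) (fun g : (MulAction.stabilizer G D.a) => (l g : ℂ)) (x⁻¹ * g * x) = 0 := by
    intro g x h
    refine Agent.Char.extendByZero_not_mem _ fun e => h ?_
    have e' := MulAction.mem_stabilizer_iff.mp e
    rwa [mul_smul, mul_smul, inv_smul_eq_iff] at e'
  have val1 : ∀ u ∈ D.F, u ≠ 1 → φ u = 1 := by
    intro u hu hu1
    have huS : u ∈ (MulAction.stabilizer G D.a) := hHa hu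
    have hterm : ∀ x : G, extendByZero (MulAction.stabilizer G D.a) (fun g : (MulAction.stabilizer G D.a) => (l g : ℂ)) (x⁻¹ * u * x) =
        if x • D.a = D.a then 1 else 0 := by
      intro x
      split_ifs with h
      · rw [hcl u x huS h, hlF ⟨u, huS⟩ hu, Units.val_one]
      · exact hout u x fun e => h (hHfix u hu hu1 _ e)
    rw [hφ, indFun, Finset.sum_congr rfl fun x _ => hterm x, Finset.sum_boole, hcount,
      inv_mul_cancel₀ hS0]
  refine ⟨?_, val1⟩
  have val2 : ∀ h : D.H, h ≠ 1 → φ h = (lE h : ℂ) + ((lE h)⁻¹ : ℂˣ) := by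
    intro h hh
    have hh1 : (h : G) ≠ 1 := fun e => hh (Subtype.ext e)
    have hterm : ∀ x : G, extendByZero (MulAction.stabilizer G D.a) (fun g : (MulAction.stabilizer G D.a) => (l g : ℂ)) (x⁻¹ * (h : G) * x) =
        (if x • D.a = D.a then (lE h : ℂ) else 0) + (if x • D.a = D.b then (((lE h)⁻¹ : ℂˣ) : ℂ) else 0) := by
      intro x
      by_cases h1 : x • D.a = D.a
      · rw [if_pos h1, if_neg (fun e => D.hab (h1.symm.trans e)), add_zero, hcl (h : G) x h.2.1 h1]
        rfl
      by_cases h2 : x • D.a = D.b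
      · rw [if_neg h1, if_pos h2, zero_add]
        have hy : s * x ∈ (MulAction.stabilizer G D.a) := by
          rw [MulAction.mem_stabilizer_iff, mul_smul, h2, hsb]
        have e : x⁻¹ * (h : G) * x = (s * x)⁻¹ * (h : G)⁻¹ * (s * x) := by
          rw [← hsinv (h : G) h.2]; group
        rw [e, hcl (h : G)⁻¹ (s * x) (inv_mem h.2.1) hy]
        show (l ⟨(h : G)⁻¹, _⟩ : ℂ) = _
        rw [← map_inv]
        rfl
      · rw [if_neg h1, if_neg h2, add_zero]
        refine hout _ x fun e => ?_
        rcases D.fix_only h.2 hh1 e with e' | e'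
        exacts [h1 e', h2 e']
    rw [hφ, indFun, Finset.sum_congr rfl fun x _ => hterm x, Finset.sum_add_distrib,
      ← Finset.sum_filter, ← Finset.sum_filter, Finset.sum_const, Finset.sum_const, nsmul_eq_mul,
      nsmul_eq_mul, hcount, hcount, ← mul_add, ← mul_assoc, inv_mul_cancel₀ hS0, one_mul]
  have hφ1 : φ 1 = (Nat.card D.F : ℂ) + 1 := by
    rw [hφ, Agent.Char.indFun_one_eq, D.index_stab, map_one, Units.val_one, mul_one, Nat.cast_succ]
  have hconj : ∀ h : D.H, (starRingEnd ℂ) (lE h : ℂ) = ((lE h)⁻¹ : ℂˣ) := fun h => by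
    have := (Agent.Char.IsIrr.apply_inv (Agent.Char.isIrr_linear lE) h).symm
    simpa [map_inv] using this
  refine Agent.Char.IsChar.irr_of_norm_one (Agent.Char.isCharacter_indFun (MulAction.stabilizer G D.a) hμ.1) ?_
  rw [Agent.Char.classInner_indFun (MulAction.stabilizer G D.a) _ (Agent.Char.indFun_classFun (MulAction.stabilizer G D.a) _), classInner]
  let f : G → ℂ := fun g => extendByZero (MulAction.stabilizer G D.a) (fun g : (MulAction.stabilizer G D.a) => (l g : ℂ)) g * (starRingEnd ℂ) (φ g)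
  have hf : ∀ g ∈ (MulAction.stabilizer G D.a), ∀ v ∈ D.F, f (v * g * v⁻¹) = f g := by
    intro g hg v hv
    have h := hcl g v⁻¹ hg (inv_mem (hHa hv))
    rw [inv_inv] at h
    simp only [f, h, Agent.Char.extendByZero_of_mem _ hg]
    rw [hφ, Agent.Char.indFun_classFun (MulAction.stabilizer G D.a) _ g v]
  have hgoal : ∀ g : (MulAction.stabilizer G D.a), (l g : ℂ) * (starRingEnd ℂ) (φ g) = f g := fun g => by
    simp only [f, Agent.Char.extendByZero_apply]
  show (Nat.card (MulAction.stabilizer G D.a) : ℂ)⁻¹ * ∑ g : (MulAction.stabilizer G D.a), (l g : ℂ) * (starRingEnd ℂ) (φ g) = 1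
  rw [Finset.sum_congr rfl fun g _ => hgoal g, D.sum_stab f hf]
  have hF : ∑ u : D.F, f u = 2 * (Nat.card D.F : ℂ) := by
    have hu : ∀ u : D.F, f u = if u = 1 then (Nat.card D.F : ℂ) + 1 else 1 := fun u => by
      rw [show (u : G) = ((⟨u, hHa u.2⟩ : (MulAction.stabilizer G D.a)) : G) from rfl, ← hgoal, hlF ⟨u, hHa u.2⟩ u.2, Units.val_one, one_mul]
      split_ifs with h
      · subst h
        show (starRingEnd ℂ) (φ 1) = _
        rw [hφ1]; simp
      · show (starRingEnd ℂ) (φ u) = 1
        rw [val1 u u.2 fun e => h (Subtype.ext e), map_one]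
    rw [Finset.sum_congr rfl fun u _ => hu u, ← Finset.add_sum_erase _ _ (Finset.mem_univ (1 : D.F)),
      if_pos rfl, Finset.sum_congr rfl fun u hu' => if_neg (Finset.mem_erase.mp hu').1,
      Finset.sum_const, Finset.card_erase_of_mem (Finset.mem_univ _), Finset.card_univ,
      ← Nat.card_eq_fintype_card, nsmul_eq_mul, mul_one, Nat.cast_sub (by omega)]
    push_cast
    ring
  have hf1 : f 1 = (Nat.card D.F : ℂ) + 1 := by
    rw [show (1 : G) = ((1 : (MulAction.stabilizer G D.a)) : G) from rfl, ← hgoal, map_one, Units.val_one, one_mul]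
    show (starRingEnd ℂ) (φ 1) = _
    rw [hφ1]; simp
  have hE : ∑ h : D.H, f h = (Nat.card D.F : ℂ) + (Nat.card D.H : ℂ) - 1 := by
    have hh : ∀ h : D.H, f h = ((lE * lE) h : ℂ) + 1 + if h = 1 then (Nat.card D.F : ℂ) - 1 else 0 := by
      intro h
      by_cases e : h = 1
      · subst e
        rw [if_pos rfl, map_one, Units.val_one, show ((1 : D.H) : G) = 1 from rfl, hf1]
        ring
      · rw [if_neg e, add_zero, show (h : G) = ((⟨(h : G), h.2.1⟩ : (MulAction.stabilizer G D.a)) : G) from rfl, ← hgoal]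
        show (lE h : ℂ) * (starRingEnd ℂ) (φ h) = _
        rw [val2 h e, map_add, hconj, ← hconj, Complex.conj_conj, hconj, MonoidHom.mul_apply,
          Units.val_mul, mul_add, Units.mul_inv]
        ring
    have hm : lE * lE ≠ 1 := by
      intro e
      refine hlE (MonoidHom.ext fun x => ?_)
      have h2 : (lE x) ^ 2 = 1 := by rw [sq]; exact DFunLike.congr_fun e x
      have hd := Nat.dvd_gcd ((orderOf_map_dvd lE x).trans (orderOf_dvd_natCard x))
        (orderOf_dvd_of_pow_eq_one h2)
      rw [(Nat.coprime_two_right.mpr hodd' : Nat.gcd (Nat.card D.H) 2 = 1), Nat.dvd_one,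
        orderOf_eq_one_iff] at hd
      exact hd
    have h0 := Agent.Block.Zas.linear_sum (lE * lE) (1 : D.H →* ℂˣ)
    simp only [if_neg hm, MonoidHom.one_apply, Units.val_one, map_one, mul_one] at h0
    rw [Finset.sum_congr rfl fun h _ => hh h, Finset.sum_add_distrib, Finset.sum_add_distrib, h0,
      Finset.sum_const, Finset.card_univ, ← Nat.card_eq_fintype_card, Finset.sum_ite_eq',
      if_pos (Finset.mem_univ _), nsmul_eq_mul, mul_one]
    ring
  rw [hF, hE, hf1, D.card_stab]
  have hF0 : (Nat.card D.F : ℂ) ≠ 0 := Nat.cast_ne_zero.mpr Nat.card_pos.ne'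
  have hH0 : (Nat.card D.H : ℂ) ≠ 0 := Nat.cast_ne_zero.mpr Nat.card_pos.ne'
  push_cast
  field_simp
  ring

end Cfsg.Agent.S0881
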