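import Cfsg.Statements.S0883
import Cfsg.Agent.Lib.Grp.ZasOdd
-- import your own Cfsg.Agent.* helpers here

set_option autoImplicit false
open Cfsg

namespace Cfsg.Agent.S0883

/-- Let G be a finite simple Zassenhaus group on Ω with h + 1 points whose two-point stabilizer E has odd order e with 2e < h - 1, and let H be the subgroup of the stabilizer of a consisting of the identity and the elements fixing no point other than a (given here as a subgroup of the stabilizer of order one less than the number of points whose non-identity elements fix only a; it is the Frobenius kernel of the stabilizer). If a non-identity element u of H is a product of two involutions of G, then u is an involution. -/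
theorem result {G Ω : Type*} [Group G] [Finite G] [MulAction G Ω] [Fintype Ω] (hZ : Cfsg.IsZassenhausGroup G Ω) {a b : Ω} (hab : a ≠ b) [IsSimpleGroup G] (h e : ℕ) (hh : Fintype.card Ω = h + 1) (he : Nat.card ↥(MulAction.stabilizer G a ⊓ MulAction.stabilizer G b : Subgroup G) = e) (hodd : Odd e) (hlt : 2 * e < h - 1) (H : Subgroup G) (hHa : H ≤ MulAction.stabilizer G a) (hHcard : Nat.card H + 1 = Fintype.card Ω) (hHfix : ∀ u ∈ H, u ≠ 1 → ∀ c : Ω, u • c = c → c = a) (u : G) (hu : u ∈ H) (hu1 : u ≠ 1) (x y : G) (hx : orderOf x = 2) (hy : orderOf y = 2) (hxy : x * y = u) : orderOf u = 2 := by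
  classical
  obtain ⟨D, rfl, rfl⟩ := Agent.Block.Zas.frame_of_zassenhaus hZ hab
  have hn := D.two_le_F hZ
  have hH' := D.H_ne_bot hZ
  have hs := (Agent.Grp.ZasS.swaps D hn (D.H_ne_bot hZ)).2
  have hc := D.card_points
  rw [Nat.card_eq_fintype_card] at hc
  have he' : Nat.card D.H = e := he
  have hodd' : Odd (Nat.card D.H) := he' ▸ hodd
  have hHF : H = D.F := Agent.Grp.ZasS.eq_F D H hHa (by omega) hHfix
  subst hHF
  have hmem : ∀ z : G, orderOf z = 2 → z * u * z = u⁻¹ → z ∈ D.F := by
    intro z hz e'
    have hz2 : z * z = 1 := by rw [← sq, ← hz, pow_orderOf_eq_one]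
    have hfix : u • z • D.a = z • D.a := by
      rw [← mul_smul]
      have : u * z = z * u⁻¹ := by
        rw [← e']
        calc u * z = (z * z) * u * z := by rw [hz2, one_mul]
          _ = _ := by group
      rw [this, mul_smul, inv_smul_eq_iff.2 (D.F_fix u hu).symm]
    refine Agent.Grp.ZasS.mem_F_of_coprime D (hHfix u hu hu1 _ hfix) ?_
    rw [hz]
    exact Nat.coprime_two_left.mpr hodd'
  have hx2 : x * x = 1 := by rw [← sq, ← hx, pow_orderOf_eq_one]
  have hy2 : y * y = 1 := by rw [← sq, ← hy, pow_orderOf_eq_one]
  have hinv : u⁻¹ = y * x := by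
    rw [← hxy, mul_inv_rev, inv_eq_of_mul_eq_one_right hx2, inv_eq_of_mul_eq_one_right hy2]
  have hxF : x ∈ D.F := hmem x hx (by
    rw [hinv, ← hxy]
    calc x * (x * y) * x = (x * x) * y * x := by group
      _ = y * x := by rw [hx2, one_mul])
  have hyF : y ∈ D.F := hmem y hy (by
    rw [hinv, ← hxy]
    calc y * (x * y) * y = y * x * (y * y) := by group
      _ = y * x := by rw [hy2, mul_one])
  have hc2 := Agent.Grp.ZasS.involution_central D hn hs hodd' hxF hx y hyF
  refine orderOf_eq_prime ?_ hu1
  rw [← hxy, sq]
  calc x * y * (x * y) = x * (y * x) * y := by group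
    _ = (x * x) * (y * y) := by rw [← hc2]; group
    _ = 1 := by rw [hx2, hy2, one_mul]

end Cfsg.Agent.S0883
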