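import Cfsg.Statements.S0891
import Cfsg.Agent.Lib.Grp.SpinCoverAlt
-- import your own Cfsg.Agent.* helpers here

set_option autoImplicit false
open Cfsg

namespace Cfsg.Agent.S0891

/-- For every n ≥ 4 there are a finite group Γ and a central element z of Γ of order 2 lying in the commutator subgroup of Γ such that the quotient of Γ by the (normal) subgroup generated by z is isomorphic to the alternating group on n letters. -/
theorem result (n : ℕ) (hn : 4 ≤ n) : ∃ (Γ : Type) (_ : Group Γ) (_ : Finite Γ) (z : Γ) (hz : z ∈ Subgroup.center Γ), orderOf z = 2 ∧ z ∈ commutator Γ ∧ ∃ _ : (Subgroup.zpowers z).Normal, Nonempty (Γ ⧸ Subgroup.zpowers z ≃* alternatingGroup (Fin n)) := by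
  let a : Fin n := ⟨0, by omega⟩
  let b : Fin n := ⟨1, by omega⟩
  let c : Fin n := ⟨2, by omega⟩
  let e : Fin n := ⟨3, by omega⟩
  have hne : a ≠ b ∧ a ≠ c ∧ a ≠ e ∧ b ≠ c ∧ b ≠ e ∧ c ≠ e := by simp [a, b, c, e]
  obtain ⟨h1, h2, h3, h4, h5, h6⟩ := hne
  have hN : (Subgroup.zpowers (Grp.SpinCover.z n)).Normal := by
    rw [← Grp.SpinCover.ker_proj]; infer_instance
  refine ⟨Grp.SpinCover.G n, inferInstance, inferInstance, Grp.SpinCover.z n, Grp.SpinCover.z_central,
    Grp.SpinCover.orderOf_z, Grp.SpinCover.z_mem_commutator h1 h2 h3 h4 h5 h6, hN, ⟨?_⟩⟩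
  exact (QuotientGroup.quotientMulEquivOfEq Grp.SpinCover.ker_proj.symm).trans
    (QuotientGroup.quotientKerEquivOfSurjective (Grp.SpinCover.proj n) (Grp.SpinCover.proj_surjective (by omega)))

end Cfsg.Agent.S0891
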