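import Cfsg.Statements.S0893
import Cfsg.Agent.Lib.Char.ExtraspecialChar
-- import your own Cfsg.Agent.* helpers here

set_option autoImplicit false
open Cfsg

namespace Cfsg.Agent.S0893

/-- Let P be an extraspecial p-group of order p ^ (2 * n + 1), A an abelian subgroup of order p ^ (n + 1), and λ a character of A of degree 1 that is not identically 1 on the elements of A lying in the centre of P. Then the function induced from λ to P is an irreducible character of P and vanishes at every element outside the centre. -/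
theorem result {P : Type*} [Group P] [Fintype P] (p n : ℕ) [Fact p.Prime] (hP : Cfsg.IsExtraspecial p P) (hcard : Nat.card P = p ^ (2 * n + 1)) (A : Subgroup P) (hab : ∀ a ∈ A, ∀ b ∈ A, a * b = b * a) (hA : Nat.card A = p ^ (n + 1)) (lam : A → ℂ) (hlam : Cfsg.IsCharacter A lam ∧ lam 1 = 1) (hZ : ∃ a : A, (a : P) ∈ Subgroup.center P ∧ lam a ≠ 1) : Cfsg.IsIrrCharacter P (Cfsg.indFun A lam) ∧ ∀ x : P, x ∉ Subgroup.center P → Cfsg.indFun A lam x = 0 := by
  have hd : commutator P = Subgroup.center P := hP.1.2.2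
  have hle := Cfsg.Agent.Char.ESpec.center_le hd hP.2 hcard A hab hA
  obtain ⟨l, hl⟩ := Cfsg.Agent.Char.ESpec.exists_hom hlam.1 hlam.2
  have hfun : lam = fun a => (l a : ℂ) := funext fun a => (hl a).symm
  have hZ' : ∃ a : A, (a : P) ∈ Subgroup.center P ∧ l a ≠ 1 := by
    obtain ⟨a, ha, hla⟩ := hZ
    exact ⟨a, ha, fun e => hla (by rw [← hl a, e, Units.val_one])⟩
  subst hfun
  refine ⟨Cfsg.Agent.Char.IsChar.irr_of_norm_one (Cfsg.Agent.Char.isCharacter_indFun A hlam.1) ?_,
    fun x hx => (Cfsg.Agent.Char.ESpec.indFun_values hd hP.2 A hle l hZ' x).1 hx⟩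
  have h := Cfsg.Agent.Char.ESpec.norm_value hd hP.2 A hle l hZ'
  have hidx : A.index = p ^ n := by
    refine Nat.eq_of_mul_eq_mul_left (Nat.card_pos (α := A)) ?_
    rw [A.card_mul_index, hcard, hA, ← pow_add]
    congr 1
    omega
  refine mul_left_cancel₀ (Nat.cast_ne_zero.2 (Nat.card_pos (α := P)).ne') (h.trans ?_)
  rw [hidx, hcard, mul_one]
  push_cast
  rw [← pow_mul, ← pow_succ', mul_comm n 2]

end Cfsg.Agent.S0893
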