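import Cfsg.Statements.S0894
import Cfsg.Agent.Lib.Char.ExtraspecialChar
import Cfsg.Agent.Lib.Char.Quotient
-- import your own Cfsg.Agent.* helpers here

set_option autoImplicit false
open Cfsg

namespace Cfsg.Agent.S0894

/-- Let P be an extraspecial p-group of order p ^ (2 * n + 1). Then every irreducible character of P has degree 1 or p ^ n, and exactly p - 1 of them have degree p ^ n. -/
theorem result {P : Type*} [Group P] [Finite P] (p n : ℕ) [Fact p.Prime] (hP : Cfsg.IsExtraspecial p P) (hcard : Nat.card P = p ^ (2 * n + 1)) : (∀ χ : Cfsg.IrrCharacter P, (χ : P → ℂ) 1 = 1 ∨ (χ : P → ℂ) 1 = (p : ℂ) ^ n) ∧ Nat.card {χ : Cfsg.IrrCharacter P // (χ : P → ℂ) 1 = (p : ℂ) ^ n} = p - 1 := by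
  classical
  haveI := Fintype.ofFinite P
  have hp : p.Prime := Fact.out
  have hd : commutator P = Subgroup.center P := hP.1.2.2
  set Z := Subgroup.center P with hZdef
  haveI : Fintype (P ⧸ Z) := Fintype.ofFinite _
  have hQab : ∀ a b : P ⧸ Z, a * b = b * a := by
    intro a b
    induction a using QuotientGroup.induction_on with
    | _ a => induction b using QuotientGroup.induction_on with
      | _ b =>
        rw [← QuotientGroup.mk_mul, ← QuotientGroup.mk_mul, ← mul_inv_eq_one, ← QuotientGroup.mk_inv,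
          ← QuotientGroup.mk_mul, QuotientGroup.eq_one_iff]
        have := Cfsg.Agent.Char.ESpec.commutator_mem hd a b
        simpa [mul_assoc] using this
  have hn0 : n ≠ 0 := fun e => by
    subst e
    have hc : IsCyclic P := isCyclic_of_prime_card (p := p) (by simpa using hcard)
    have hbot : commutator P = ⊥ := by
      rw [commutator_def, Subgroup.commutator_eq_bot_iff_le_centralizer]
      intro a _
      rw [Subgroup.mem_centralizer_iff]
      intro b _
      exact IsCyclic.commGroup.mul_comm b a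
    have h2 := hP.2
    rw [hd] at hbot
    rw [← hZdef, hbot, Subgroup.card_bot] at h2
    exact hp.one_lt.ne h2
  set T : Cfsg.IrrCharacter P → Prop := fun χ => ∀ z ∈ Z, (χ : P → ℂ) z = (χ : P → ℂ) 1 with hT
  have hlin : ∀ χ, T χ → (χ : P → ℂ) 1 = 1 := by
    intro χ h
    obtain ⟨ψ, hψ, hψχ⟩ := Cfsg.Agent.Char.IsIrr.exists_factor_quotient χ.2 Z h
    rw [← hψχ 1, QuotientGroup.mk_one]
    exact Cfsg.Agent.Char.IsIrr.one_of_comm hQab hψ
  have hbig : ∀ χ : Cfsg.IrrCharacter P, ¬ T χ → (χ : P → ℂ) 1 = (p : ℂ) ^ n := by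
    intro χ h
    simp only [hT, not_forall] at h
    obtain ⟨z, hz, hzne⟩ := h
    obtain ⟨d, hd'⟩ := Cfsg.Agent.Char.IsChar.one_eq_nat (Cfsg.Agent.Char.IsIrr.isCharacter χ.2)
    have hself := Cfsg.Agent.Char.classInner_self_irr χ.2
    have hsum : ∑ x : P, (χ : P → ℂ) x * (starRingEnd ℂ) ((χ : P → ℂ) x) = (p : ℂ) * (d : ℂ) ^ 2 := by
      rw [Finset.sum_congr rfl (g := fun x => if x ∈ Z then (d : ℂ) ^ 2 else 0) fun x _ => ?_]
      · rw [← Finset.sum_filter, Finset.sum_const, nsmul_eq_mul, ← hP.2, Nat.card_eq_fintype_card,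
          Fintype.card_subtype]
      by_cases hx : x ∈ Z
      · obtain ⟨s, hs1, hs⟩ := Cfsg.Agent.Char.IsIrr.exists_scalar χ.2 (z := x) fun g => by
          rw [← Subgroup.mem_center_iff.1 hx g]; group
        have := hs 1
        rw [mul_one] at this
        rw [if_pos hx, this, hd', map_mul, map_natCast, mul_mul_mul_comm, Complex.mul_conj', hs1]
        push_cast; ring
      · rw [if_neg hx, Cfsg.Agent.Char.ESpec.vanish hd hP.2 χ ⟨z, hz, hzne⟩ x hx, zero_mul]
    rw [Cfsg.classInner, hsum, hcard] at hself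
    have h2 : ((p * d ^ 2 : ℕ) : ℂ) = ((p * (p ^ n) ^ 2 : ℕ) : ℂ) := by
      have hne : ((p ^ (2 * n + 1) : ℕ) : ℂ) ≠ 0 := Nat.cast_ne_zero.2 (pow_pos hp.pos _).ne'
      rw [inv_mul_eq_iff_eq_mul₀ hne, mul_one] at hself
      push_cast at hself ⊢
      rw [hself]; ring
    have h3 := Nat.eq_of_mul_eq_mul_left hp.pos (Nat.cast_injective h2)
    rw [hd', Nat.pow_left_injective (by norm_num) h3, Nat.cast_pow]
  refine ⟨fun χ => (em (T χ)).imp (hlin χ) (hbig χ), ?_⟩
  have hiff : ∀ χ : Cfsg.IrrCharacter P, ¬ T χ ↔ (χ : P → ℂ) 1 = (p : ℂ) ^ n := fun χ => by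
    refine ⟨hbig χ, fun h hTχ => ?_⟩
    rw [hlin χ hTχ] at h
    have : p ^ n = 1 := by exact_mod_cast h.symm
    rcases Nat.pow_eq_one.1 this with h1 | h1
    · exact hp.one_lt.ne' h1
    · exact hn0 h1
  have hTcard : Nat.card {χ : Cfsg.IrrCharacter P // T χ} = p ^ (2 * n) := by
    have e : Nat.card (Cfsg.IrrCharacter (P ⧸ Z)) = Nat.card {χ : Cfsg.IrrCharacter P // T χ} := by
      refine Nat.card_congr (Equiv.ofBijective (fun ψ => ⟨⟨_, Cfsg.Agent.Char.IsIrr.comp_surjective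
        (QuotientGroup.mk' Z) (QuotientGroup.mk'_surjective Z) ψ.2⟩, fun z hz => ?_⟩) ⟨?_, ?_⟩)
      · show (ψ : P ⧸ Z → ℂ) (QuotientGroup.mk' Z z) = (ψ : P ⧸ Z → ℂ) (QuotientGroup.mk' Z 1)
        rw [map_one, QuotientGroup.mk'_apply, (QuotientGroup.eq_one_iff z).2 hz]
      · intro a b h
        have h' := congrArg Subtype.val (congrArg Subtype.val h)
        refine Subtype.ext (funext fun q => ?_)
        obtain ⟨g, rfl⟩ := QuotientGroup.mk'_surjective Z q
        exact congrFun h' g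
      · rintro ⟨χ, hχ⟩
        obtain ⟨ψ, hψ, hψχ⟩ := Cfsg.Agent.Char.IsIrr.exists_factor_quotient χ.2 Z hχ
        exact ⟨⟨ψ, hψ⟩, Subtype.ext (Subtype.ext (funext hψχ))⟩
    rw [← e, Cfsg.Agent.Char.card_irrCharacter,
      ← Nat.card_congr (Equiv.ofBijective ConjClasses.mk ⟨fun a b h => by
        obtain ⟨c, hc⟩ := isConj_iff.1 (ConjClasses.mk_eq_mk_iff_isConj.1 h)
        rw [← hc, hQab c a, mul_inv_cancel_right], ConjClasses.mk_surjective⟩)]
    refine Nat.eq_of_mul_eq_mul_left (Nat.card_pos (α := Z)) ?_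
    rw [← Subgroup.index_eq_card, Subgroup.card_mul_index, hcard, hP.2, ← pow_succ']
  have hsum := Cfsg.Agent.Char.sum_degree_sq (G := P)
  have e1 : ∑ χ ∈ Finset.univ.filter T, (χ : P → ℂ) 1 ^ 2 = (Nat.card {χ // T χ} : ℂ) := by
    rw [Finset.sum_congr rfl (g := fun _ => (1 : ℂ))
      (fun χ hχ => by rw [hlin χ (Finset.mem_filter.1 hχ).2]; norm_num),
      Finset.sum_const, nsmul_eq_mul, mul_one, Nat.card_eq_fintype_card, Fintype.card_subtype]
  have e2 : ∑ χ ∈ Finset.univ.filter (fun χ => ¬ T χ), (χ : P → ℂ) 1 ^ 2 =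
      (Nat.card {χ : Cfsg.IrrCharacter P // (χ : P → ℂ) 1 = (p : ℂ) ^ n} : ℂ) * ((p : ℂ) ^ n) ^ 2 := by
    rw [Finset.sum_congr rfl (g := fun _ => ((p : ℂ) ^ n) ^ 2)
      (fun χ hχ => by rw [hbig χ (Finset.mem_filter.1 hχ).2]),
      Finset.sum_const, nsmul_eq_mul, ← Nat.card_congr (Equiv.subtypeEquivRight hiff),
      Nat.card_eq_fintype_card, Fintype.card_subtype]
  rw [← Finset.sum_filter_add_sum_filter_not Finset.univ T, e1, e2, hcard, hTcard] at hsum
  set k := Nat.card {χ : Cfsg.IrrCharacter P // (χ : P → ℂ) 1 = (p : ℂ) ^ n}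
  have h4 : p ^ (2 * n) + k * (p ^ n) ^ 2 = p ^ (2 * n + 1) := by exact_mod_cast hsum
  have h5 : (k + 1) * p ^ (2 * n) = p * p ^ (2 * n) := by
    rw [← pow_succ', ← h4, ← pow_mul, mul_comm n 2]; ring
  have := Nat.eq_of_mul_eq_mul_right (pow_pos hp.pos _) h5
  omega

end Cfsg.Agent.S0894
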