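import Cfsg.Statements.S0895
import Cfsg.Agent.Lib.Block.SchurIndicator
-- import your own Cfsg.Agent.* helpers here

set_option autoImplicit false
open Cfsg

namespace Cfsg.Agent.S0895

/-- Let χ be a real-valued irreducible character of a finite group G whose degree is an odd natural number. Then the average over s in G of χ (s * s) equals 1. -/
theorem result {G : Type*} [Group G] [Fintype G] (χ : G → ℂ) (hχ : Cfsg.IsIrrCharacter G χ) (hreal : ∀ g : G, (χ g).im = 0) (d : ℕ) (hd : χ 1 = d) (hodd : Odd d) : (Nat.card G : ℂ)⁻¹ * ∑ s : G, χ (s * s) = 1 := by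
  classical
  obtain ⟨n, ρ, hirr, rfl⟩ := hχ
  let χ' : Cfsg.IrrCharacter G := ⟨ρ.character, n, ρ, hirr, rfl⟩
  rcases Cfsg.Agent.Block.FS.ind_eq χ' with ⟨-, hn⟩ | ⟨h1 | h1, hr⟩
  · exact absurd (fun g => Complex.conj_eq_iff_im.mpr (hreal g)) hn
  · exact h1
  exfalso
  -- the matrices of the representation
  let A : G → Matrix (Fin n) (Fin n) ℂ := fun g => LinearMap.toMatrix' (ρ g)
  have hAm : ∀ a b, A (a * b) = A a * A b := fun a b => by simp [A, LinearMap.toMatrix'_mul]
  have htr : ∀ g, ρ.character g = ∑ i, A g i i := fun g => by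
    rw [Representation.character, LinearMap.trace_eq_matrix_trace ℂ (Pi.basisFun ℂ (Fin n)),
      LinearMap.toMatrix_eq_toMatrix']
    rfl
  -- a nonzero invariant skew form
  let B : Fin n → Fin n → Matrix (Fin n) (Fin n) ℂ := fun i j =>
    ∑ g : G, A g * (Matrix.single i j 1 - Matrix.single j i 1) * (A g).transpose
  have hBne : ∃ i j, B i j ≠ 0 := by
    by_contra hc
    push_neg at hc
    have h0 : ∑ i, ∑ j, B i j i j = 0 := by simp [hc]
    have hBij : ∀ i j, B i j i j = ∑ g : G, (A g i i * A g j j - A g i j * A g j i) := by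
      intro i j
      simp only [B, Matrix.sum_apply, mul_sub, sub_mul, Matrix.sub_apply]
      refine Finset.sum_congr rfl fun g _ => ?_
      simp [Matrix.mul_apply, Matrix.single_apply, ite_and]
    simp only [hBij] at h0
    rw [Finset.sum_congr rfl fun i _ => Finset.sum_comm, Finset.sum_comm] at h0
    have h2 : ∀ g : G, ∑ i, ∑ j, (A g i i * A g j j - A g i j * A g j i) =
        ρ.character g * (starRingEnd ℂ) (ρ.character g) - ρ.character (g * g) := by
      intro g
      rw [Complex.conj_eq_iff_im.mpr (hreal g), htr g, htr (g * g), hAm, Finset.sum_mul_sum]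
      simp only [Matrix.mul_apply, Finset.sum_sub_distrib]
    rw [Finset.sum_congr rfl fun g _ => h2 g, Finset.sum_sub_distrib] at h0
    have hn : (Nat.card G : ℂ) ≠ 0 := Nat.cast_ne_zero.mpr Nat.card_pos.ne'
    have e1 := Cfsg.Agent.Char.classInner_self_irr χ'.2
    unfold Cfsg.classInner at e1
    change (Nat.card G : ℂ)⁻¹ * ∑ g : G, ρ.character (g * g) = -1 at h1
    change (Nat.card G : ℂ)⁻¹ * ∑ g : G, ρ.character g * (starRingEnd ℂ) (ρ.character g) = 1 at e1
    have h3 := congrArg ((Nat.card G : ℂ)⁻¹ * ·) h0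
    simp only [mul_sub, e1, h1, mul_zero] at h3
    norm_num at h3
  obtain ⟨i, j, hB⟩ := hBne
  have hskew : (B i j).transpose = -(B i j) := by
    simp only [B, Matrix.transpose_sum, ← Finset.sum_neg_distrib]
    refine Finset.sum_congr rfl fun g _ => ?_
    simp [Matrix.transpose_mul, Matrix.transpose_single, Matrix.mul_assoc, mul_sub, sub_mul]
  have hinv : ∀ h, A h * B i j * (A h).transpose = B i j := by
    intro h
    simp only [B, Matrix.mul_sum, Matrix.sum_mul]
    refine (Finset.sum_congr rfl fun g _ => ?_).trans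
      (Fintype.sum_equiv (Equiv.mulLeft h) _ _ fun g => rfl)
    simp only [Equiv.coe_mulLeft, hAm, Matrix.transpose_mul, Matrix.mul_assoc]
  -- its image is the whole space
  have hAinv : ∀ h, (A h⁻¹).transpose * (A h).transpose = 1 := fun h => by
    rw [← Matrix.transpose_mul, ← hAm, mul_inv_cancel]
    simp [A]
  let S : Subrepresentation ρ :=
    ⟨LinearMap.range (Matrix.toLin' (B i j)), fun h v hv => by
      obtain ⟨w, rfl⟩ := hv
      refine ⟨Matrix.toLin' (A h⁻¹).transpose w, ?_⟩
      rw [show ρ h = Matrix.toLin' (A h) from (Matrix.toLin'_toMatrix' _).symm,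
        ← LinearMap.comp_apply, ← LinearMap.comp_apply, ← Matrix.toLin'_mul, ← Matrix.toLin'_mul]
      congr 2
      calc B i j * (A h⁻¹).transpose
          = A h * B i j * (A h).transpose * (A h⁻¹).transpose := by rw [hinv]
        _ = _ := by
          rw [Matrix.mul_assoc (A h * B i j), show (A h).transpose * (A h⁻¹).transpose = 1 by
            simpa using hAinv h⁻¹, Matrix.mul_one]⟩
  haveI := hirr
  have htop : LinearMap.range (Matrix.toLin' (B i j)) = ⊤ := by
    rcases eq_bot_or_eq_top S with hS | hS
    · exfalso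
      apply hB
      have hS' : LinearMap.range (Matrix.toLin' (B i j)) = ⊥ := congrArg Subrepresentation.toSubmodule hS
      rw [LinearMap.range_eq_bot] at hS'
      exact Matrix.toLin'.map_eq_zero_iff.mp hS'
    · exact congrArg Subrepresentation.toSubmodule hS
  have hunit : IsUnit (B i j).det := by
    rw [← LinearMap.det_toLin']
    exact LinearMap.isUnit_det _ ((Module.End.isUnit_iff _).mpr
      ⟨LinearMap.injective_iff_surjective.mpr (LinearMap.range_eq_top.mp htop),
        LinearMap.range_eq_top.mp htop⟩)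
  have hdn : n = d := by
    rw [htr 1] at hd
    simp [A] at hd
    exact_mod_cast hd
  have hdet := congrArg Matrix.det hskew
  rw [Matrix.det_transpose, Matrix.det_neg, Fintype.card_fin, (hdn ▸ hodd : Odd n).neg_one_pow,
    neg_one_mul] at hdet
  exact hunit.ne_zero (CharZero.eq_neg_self_iff.mp hdet)

end Cfsg.Agent.S0895
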