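import Cfsg.Statements.S0900
import Cfsg.Agent.Lib.Char.Clifford
import Cfsg.Agent.Lib.Char.Complete
import Cfsg.Agent.Lib.Char.Constituent

set_option autoImplicit false
open Cfsg

namespace Cfsg.Agent.S0900

/-- Let N be a normal subgroup of the finite group G, χ an irreducible character of G and ϑ an irreducible character of N having nonzero inner product with the restriction of χ. Consider: (a) the restriction of χ to N is e • ϑ for a natural number e with e ^ 2 equal to the index of N; (b) χ vanishes outside N and ϑ is invariant under conjugation by G; (c) ϑ is invariant and every irreducible character of G having nonzero inner product with the function induced from ϑ equals χ. Then (a) ↔ (b) and (a) ↔ (c). -/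
theorem result {G : Type*} [Group G] [Fintype G] (N : Subgroup G) [hN : N.Normal] [Fintype N] (χ : G → ℂ) (hχ : Cfsg.IsIrrCharacter G χ) (ϑ : N → ℂ) (hϑ : Cfsg.IsIrrCharacter N ϑ) (hcon : Cfsg.classInner (fun n : N => χ n) ϑ ≠ 0) : ((∃ e : ℕ, (fun n : N => χ n) = (e : ℂ) • ϑ ∧ e ^ 2 = N.index) ↔ ((∀ g : G, g ∉ N → χ g = 0) ∧ ∀ (g : G) (n : N), ϑ ⟨g * n * g⁻¹, hN.conj_mem (n : G) n.2 g⟩ = ϑ n)) ∧ ((∃ e : ℕ, (fun n : N => χ n) = (e : ℂ) • ϑ ∧ e ^ 2 = N.index) ↔ (∀ (g : G) (n : N), ϑ ⟨g * n * g⁻¹, hN.conj_mem (n : G) n.2 g⟩ = ϑ n ∧ ∀ ψ : G → ℂ, Cfsg.IsIrrCharacter G ψ → Cfsg.classInner (Cfsg.indFun N ϑ) ψ ≠ 0 → ψ = χ)) := by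
  classical
  open Cfsg.Agent.Char in
  suffices main : ∃ e : ℕ, Cfsg.classInner (fun n : N => χ n) ϑ = (e : ℂ) ∧ e ≠ 0 ∧
      ((∀ (g : G) (n : N), ϑ ⟨g * n * g⁻¹, hN.conj_mem (n : G) n.2 g⟩ = ϑ n) →
        (fun n : N => χ n) = (e : ℂ) • ϑ ∧
        (e ^ 2 = N.index ↔ ∀ g : G, g ∉ N → χ g = 0) ∧
        (e ^ 2 = N.index ↔ ∀ ψ : G → ℂ, Cfsg.IsIrrCharacter G ψ →
          Cfsg.classInner (Cfsg.indFun N ϑ) ψ ≠ 0 → ψ = χ)) by
    obtain ⟨e, he, he0, hmain⟩ := main
    have hinv : (∃ e' : ℕ, (fun n : N => χ n) = (e' : ℂ) • ϑ ∧ e' ^ 2 = N.index) →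
        e ^ 2 = N.index ∧ ∀ (g : G) (n : N), ϑ ⟨g * n * g⁻¹, hN.conj_mem (n : G) n.2 g⟩ = ϑ n := by
      rintro ⟨e', h', hidx⟩
      have hee : (e' : ℂ) = (e : ℂ) := by
        rw [← he, h', Cfsg.Agent.Char.classInner_smul_left, Cfsg.Agent.Char.classInner_self_irr hϑ,
          mul_one]
      refine ⟨by rwa [← Nat.cast_inj.1 hee], fun g n => ?_⟩
      have h1 := congrFun h' ⟨g * n * g⁻¹, hN.conj_mem (n : G) n.2 g⟩
      have h2 := congrFun h' n
      simp only [Pi.smul_apply, smul_eq_mul] at h1 h2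
      rw [Cfsg.Agent.Char.IsIrr.classFun hχ, h2] at h1
      exact (mul_left_cancel₀ (hee ▸ Nat.cast_ne_zero.2 he0) h1).symm
    refine ⟨⟨fun h => ?_, fun h => ?_⟩, ⟨fun h => ?_, fun h => ?_⟩⟩
    · obtain ⟨h1, h2⟩ := hinv h
      exact ⟨(hmain h2).2.1.1 h1, h2⟩
    · exact ⟨e, (hmain h.2).1, (hmain h.2).2.1.2 h.1⟩
    · obtain ⟨h1, h2⟩ := hinv h
      exact fun g n => ⟨h2 g n, (hmain h2).2.2.1 h1⟩
    · have h2 := fun g n => (h g n).1
      exact ⟨e, (hmain h2).1, (hmain h2).2.2.2 (h 1 1).2⟩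
  obtain ⟨e, he⟩ := IsChar.classInner_nat (IsChar.res (IsIrr.isCharacter hχ) N) (IsIrr.isCharacter hϑ)
  have he0 : e ≠ 0 := fun h => hcon (by rw [he, h, Nat.cast_zero])
  refine ⟨e, he, he0, fun hinv => ?_⟩
  have hfix : ∀ x : G, conjN N x ϑ = ϑ := fun x => funext fun n => hinv x n
  have hres : (fun n : N => χ n) = (e : ℂ) • ϑ := by
    rw [clifford N hχ hϑ hcon, he]
    congr 1
    rw [Finset.sum_eq_single ϑ (fun ψ hψ hne => ?_) (fun h => absurd ?_ h)]
    · obtain ⟨g, rfl⟩ := (mem_conjOrbit N).1 hψ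
      exact absurd (hfix g) hne
    · exact (mem_conjOrbit N).2 ⟨1, hfix 1⟩
  have hN0 : (Nat.card N : ℂ) ≠ 0 := Nat.cast_ne_zero.2 Nat.card_pos.ne'
  have hidx : (Nat.card G : ℂ) = (N.index : ℂ) * (Nat.card N : ℂ) := by
    rw [← Nat.cast_mul, N.index_mul_card]
  refine ⟨hres, ?_, ?_⟩
  · have h1 : ∑ g : G, Complex.normSq (χ g) = (Nat.card G : ℝ) := by
      have h := classInner_self_irr hχ
      rw [Cfsg.classInner, inv_mul_eq_iff_eq_mul₀ (Nat.cast_ne_zero.2 Nat.card_pos.ne'), mul_one] at h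
      simp only [Complex.mul_conj] at h
      exact_mod_cast h
    have h2 : ∑ g ∈ Finset.univ.filter (· ∈ N), Complex.normSq (χ g) = (e : ℝ) ^ 2 * Nat.card N := by
      rw [Finset.sum_subtype (Finset.univ.filter (· ∈ N)) (p := (· ∈ N)) (fun x => by simp)]
      have h := classInner_self_irr hϑ
      rw [Cfsg.classInner, inv_mul_eq_iff_eq_mul₀ hN0, mul_one] at h
      simp only [Complex.mul_conj] at h
      have h' : ∑ n : N, Complex.normSq (ϑ n) = (Nat.card N : ℝ) := by exact_mod_cast h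
      rw [← h', Finset.mul_sum]
      refine Finset.sum_congr rfl fun n _ => ?_
      have h3 := congrFun hres n
      simp only [Pi.smul_apply, smul_eq_mul] at h3
      rw [h3, map_mul, Complex.normSq_natCast, sq]
    rw [← Finset.sum_filter_add_sum_filter_not Finset.univ (· ∈ N), h2] at h1
    have hidx' : (Nat.card G : ℝ) = (N.index : ℝ) * (Nat.card N : ℝ) := by
      rw [← Nat.cast_mul, N.index_mul_card]
    have hNr : (Nat.card N : ℝ) ≠ 0 := Nat.cast_ne_zero.2 Nat.card_pos.ne'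
    constructor
    · intro he2 g hg
      have h3 : ∑ g ∈ Finset.univ.filter (fun g : G => ¬ g ∈ N), Complex.normSq (χ g) = 0 := by
        have : ((e ^ 2 : ℕ) : ℝ) = (N.index : ℝ) := by rw [he2]
        push_cast at this
        rw [this, ← hidx'] at h1
        linarith
      exact Complex.normSq_eq_zero.1 ((Finset.sum_eq_zero_iff_of_nonneg
        (fun x _ => Complex.normSq_nonneg _)).1 h3 g (Finset.mem_filter.2 ⟨Finset.mem_univ g, hg⟩))
    · intro hz
      rw [Finset.sum_eq_zero (fun g hg => by rw [hz g (Finset.mem_filter.1 hg).2, map_zero]),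
        add_zero, hidx'] at h1
      exact_mod_cast mul_right_cancel₀ hNr h1
  · set I := Cfsg.indFun N ϑ with hI
    have hnorm : Cfsg.classInner I I = (N.index : ℂ) := by
      rw [hI, classInner_indFun_indFun_irr N hϑ hϑ]
      have hall : Nat.card {x : G // conjN N x ϑ = ϑ} = Nat.card G :=
        Nat.card_congr (Equiv.subtypeUnivEquiv hfix)
      rw [hall, hidx]
      field_simp
    obtain ⟨a, ha, hdec⟩ := IsChar.exists_decomp_inner (isCharacter_indFun N (IsIrr.isCharacter hϑ))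
    have hsum : ∑ φ : Cfsg.IrrCharacter G, a φ ^ 2 = N.index := by
      have hd2 : I = ∑ φ : Cfsg.IrrCharacter G, (a φ : ℂ) • (φ : G → ℂ) := hdec
      have h : Cfsg.classInner I I = ((∑ φ : Cfsg.IrrCharacter G, a φ ^ 2 : ℕ) : ℂ) := by
        conv_lhs => arg 1; rw [hd2]
        rw [classInner_sum_left, Nat.cast_sum]
        refine Finset.sum_congr rfl fun φ _ => ?_
        rw [classInner_smul_left, ← classInner_conj_symm, show Cfsg.classInner I (φ : G → ℂ) = _ from ha φ,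
          Complex.conj_natCast, Nat.cast_pow, sq]
      exact_mod_cast (h.symm.trans hnorm)
    have haχ : a ⟨χ, hχ⟩ = e := by
      have h1 : Cfsg.classInner (fun n : N => χ n) ϑ = (starRingEnd ℂ) (a ⟨χ, hχ⟩ : ℂ) := by
        rw [← ha ⟨χ, hχ⟩, classInner_indFun N ϑ (IsIrr.classFun hχ), classInner_conj_symm]
      rw [he, Complex.conj_natCast] at h1
      exact_mod_cast h1.symm
    rw [← Finset.add_sum_erase _ _ (Finset.mem_univ (⟨χ, hχ⟩ : Cfsg.IrrCharacter G)), haχ] at hsum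
    constructor
    · intro he2 ψ hψ hne
      by_contra hc
      have h0 : ∑ φ ∈ (Finset.univ : Finset (Cfsg.IrrCharacter G)).erase ⟨χ, hχ⟩, a φ ^ 2 = 0 :=
        Nat.add_left_cancel (hsum.trans (he2.symm.trans (add_zero _).symm))
      have h2 := Finset.sum_eq_zero_iff.1 h0 (⟨ψ, hψ⟩ : Cfsg.IrrCharacter G)
        (Finset.mem_erase.2 ⟨fun h => hc (congrArg Subtype.val h), Finset.mem_univ _⟩)
      apply hne
      rw [show Cfsg.classInner I ψ = _ from ha ⟨ψ, hψ⟩, sq_eq_zero_iff.1 h2, Nat.cast_zero]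
    · intro hu
      have h0 : ∑ φ ∈ (Finset.univ : Finset (Cfsg.IrrCharacter G)).erase ⟨χ, hχ⟩, a φ ^ 2 = 0 :=
        Finset.sum_eq_zero fun φ hφ => sq_eq_zero_iff.2 (by
          by_contra h
          exact (Finset.mem_erase.1 hφ).1 (Subtype.ext (hu φ φ.2 (by
            rw [show Cfsg.classInner I (φ : G → ℂ) = _ from ha φ]; exact Nat.cast_ne_zero.2 h))))
      rwa [h0, add_zero] at hsum

end Cfsg.Agent.S0900
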