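import Cfsg.Statements.S0903
import Mathlib
-- import your own Cfsg.Agent.* helpers here

set_option autoImplicit false
open Cfsg

namespace Cfsg.Agent.S0903

/-- Let P be a p-subgroup of the finite group G, let c centralize P and let g, h ∈ G. The number of pairs (x, y) with x conjugate to g, y conjugate to h and x * y = c is congruent modulo p to the number of such pairs in which x and y both centralize P. (This is why the Brauer map on class sums is multiplicative.) -/
theorem result {G : Type*} [Group G] [Finite G] (p : ℕ) [Fact p.Prime] (P : Subgroup G) (hP : IsPGroup p P) (c : G) (hc : c ∈ Subgroup.centralizer (P : Set G)) (g h : G) : Nat.card {xy : G × G // IsConj g xy.1 ∧ IsConj h xy.2 ∧ xy.1 * xy.2 = c} ≡ Nat.card {xy : G × G // IsConj g xy.1 ∧ IsConj h xy.2 ∧ xy.1 * xy.2 = c ∧ xy.1 ∈ Subgroup.centralizer (P : Set G) ∧ xy.2 ∈ Subgroup.centralizer (P : Set G)} [MOD p] := by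
  classical
  let X := {xy : G × G // IsConj g xy.1 ∧ IsConj h xy.2 ∧ xy.1 * xy.2 = c}
  have hcomm : ∀ u : P, (u : G) * c * (u : G)⁻¹ = c := fun u => by
    rw [Subgroup.mem_centralizer_iff.1 hc u u.2, mul_inv_cancel_right]
  have hconj : ∀ (u : G) (a b : G), IsConj a b → IsConj a (u * b * u⁻¹) := fun u a b hab =>
    hab.trans (isConj_iff.2 ⟨u, rfl⟩)
  letI : MulAction P X :=
    { smul := fun u x => ⟨((u : G) * x.1.1 * (u : G)⁻¹, (u : G) * x.1.2 * (u : G)⁻¹),
        hconj _ _ _ x.2.1, hconj _ _ _ x.2.2.1, by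
          conv_rhs => rw [← hcomm u, ← x.2.2.2]
          group⟩
      one_smul := fun x => Subtype.ext (show (((1 : P) : G) * x.1.1 * ((1 : P) : G)⁻¹,
        ((1 : P) : G) * x.1.2 * ((1 : P) : G)⁻¹) = x.1 by simp)
      mul_smul := fun u v x => Subtype.ext (show (((u * v : P) : G) * x.1.1 * ((u * v : P) : G)⁻¹,
        ((u * v : P) : G) * x.1.2 * ((u * v : P) : G)⁻¹) =
        ((u : G) * ((v : G) * x.1.1 * (v : G)⁻¹) * (u : G)⁻¹,
          (u : G) * ((v : G) * x.1.2 * (v : G)⁻¹) * (u : G)⁻¹) by simp [mul_assoc, mul_inv_rev]) }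
  refine (hP.card_modEq_card_fixedPoints X).trans (congrArg (· % p) (Nat.card_congr ?_))
  refine
    { toFun := fun x => ⟨x.1.1, x.1.2.1, x.1.2.2.1, x.1.2.2.2,
        Subgroup.mem_centralizer_iff.2 fun u hu => ?_, Subgroup.mem_centralizer_iff.2 fun u hu => ?_⟩
      invFun := fun x => ⟨⟨x.1, x.2.1, x.2.2.1, x.2.2.2.1⟩, fun u => Subtype.ext (Prod.ext ?_ ?_)⟩
      left_inv := fun x => rfl
      right_inv := fun x => rfl }
  · have h1 : u * x.1.1.1 * u⁻¹ = x.1.1.1 :=
      congrArg Prod.fst (congrArg Subtype.val (x.2 ⟨u, hu⟩))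
    exact mul_inv_eq_iff_eq_mul.1 h1
  · have h1 : u * x.1.1.2 * u⁻¹ = x.1.1.2 :=
      congrArg Prod.snd (congrArg Subtype.val (x.2 ⟨u, hu⟩))
    exact mul_inv_eq_iff_eq_mul.1 h1
  · show (u : G) * x.1.1 * (u : G)⁻¹ = x.1.1
    rw [Subgroup.mem_centralizer_iff.1 x.2.2.2.2.1 u u.2, mul_inv_cancel_right]
  · show (u : G) * x.1.2 * (u : G)⁻¹ = x.1.2
    rw [Subgroup.mem_centralizer_iff.1 x.2.2.2.2.2 u u.2, mul_inv_cancel_right]

end Cfsg.Agent.S0903
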