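import Cfsg.Agent.Lib.Grp.Cores
import Cfsg.Agent.Lib.Block.Residue
import Cfsg.Statements.S0905
-- import your own Cfsg.Agent.* helpers here

set_option autoImplicit false
open Cfsg

namespace Cfsg.Agent.S0905

/-- Let F be a field of characteristic p and let g be an element of the finite group G no conjugate of which centralizes O_p(G). Then the class sum of g is a nilpotent element of the group algebra F[G]. -/
theorem result {G : Type*} [Group G] [Finite G] (p : ℕ) [Fact p.Prime] (F : Type*) [Field F] [CharP F p] (g : G) (hg : ∀ x : G, IsConj g x → x ∉ Subgroup.centralizer (Cfsg.pCore p G : Set G)) : IsNilpotent (∑ᶠ x ∈ ConjClasses.carrier (ConjClasses.mk g), MonoidAlgebra.single x (1 : F) : MonoidAlgebra F G) := by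
  classical
  haveI := Fintype.ofFinite G
  haveI := Cfsg.Agent.Grp.pCore_isNormal (p := p) (G := G)
  set P := Cfsg.pCore p G with hPdef
  have hP : IsPGroup p P := Cfsg.Agent.Grp.pCore_isPGroup
  set A : MonoidAlgebra F G := ∑ᶠ x ∈ ConjClasses.carrier (ConjClasses.mk g),
    MonoidAlgebra.single x (1 : F) with hA
  have hsum : A = ∑ x ∈ Finset.univ.filter (fun x => IsConj g x),
      MonoidAlgebra.single x (1 : F) := by
    rw [hA]
    refine finsum_mem_eq_sum_of_inter_support_eq _ ?_
    ext x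
    simp only [ConjClasses.mem_carrier_iff_mk_eq, ConjClasses.mk_eq_mk_iff_isConj,
      Finset.coe_filter, Finset.mem_univ, true_and, Set.mem_inter_iff, Set.mem_setOf_eq]
    exact and_congr_left fun _ => isConj_comm
  have hcoef : ∀ x, A.coeff x = if IsConj g x then (1 : F) else 0 := by
    intro x
    simp [hsum, MonoidAlgebra.coeff_sum, Finsupp.single_apply]
  have hcen : ∀ b, A * b = b * A := by
    intro b
    induction b using MonoidAlgebra.induction_on with
    | of t =>
      ext x
      rw [MonoidAlgebra.of_apply, MonoidAlgebra.coeff_mul_single_apply,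
        MonoidAlgebra.coeff_single_mul_apply, mul_one, one_mul, hcoef, hcoef]
      have hc : IsConj (x * t⁻¹) (t⁻¹ * x) := isConj_iff.2 ⟨t⁻¹, by group⟩
      exact if_congr ⟨fun h => h.trans hc, fun h => h.trans hc.symm⟩ rfl rfl
    | add a b ha hb => rw [mul_add, add_mul, ha, hb]
    | smul r a ha => rw [mul_smul_comm, smul_mul_assoc, ha]
  refine Cfsg.Agent.Block.isNilpotent_of_mul_sum_eq_zero P hP A hcen ?_
  ext x
  simp only [Finset.mul_sum, MonoidAlgebra.coeff_sum, Finsupp.coe_finsetSum, Finset.sum_apply,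
    MonoidAlgebra.coeff_mul_single_apply, mul_one, hcoef]
  have hmem : ∀ (w : P) (y : {y : G // x⁻¹ * y ∈ P}),
      x⁻¹ * ((w : G) * y * (w : G)⁻¹) ∈ P := fun w y => by
    rw [show x⁻¹ * ((w : G) * y * (w : G)⁻¹) =
      (x⁻¹ * (w : G) * x⁻¹⁻¹) * (x⁻¹ * (y : G)) * (w : G)⁻¹ by group]
    exact mul_mem (mul_mem (Subgroup.Normal.conj_mem inferInstance _ w.2 _) y.2) (inv_mem w.2)
  letI : MulAction P {y : G // x⁻¹ * y ∈ P} :=
    { smul := fun w y => ⟨(w : G) * y * (w : G)⁻¹, hmem w y⟩
      one_smul := fun y => Subtype.ext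
        (show ((1 : P) : G) * (y : G) * ((1 : P) : G)⁻¹ = y by simp)
      mul_smul := fun a b y => Subtype.ext (show ((a * b : P) : G) * (y : G) * ((a * b : P) : G)⁻¹ =
        (a : G) * ((b : G) * y * (b : G)⁻¹) * (a : G)⁻¹ by push_cast; group) }
  have h1 : ∑ u : P, (if IsConj g (x * (u : G)⁻¹) then (1 : F) else 0) =
      ∑ y : {y : G // x⁻¹ * y ∈ P}, (if IsConj g (y : G) then (1 : F) else 0) :=
    Fintype.sum_equiv
      { toFun := fun (u : P) => (⟨x * (u : G)⁻¹, by simp⟩ : {y : G // x⁻¹ * y ∈ P})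
        invFun := fun y => (⟨x⁻¹ * (y : G), y.2⟩ : P)⁻¹
        left_inv := fun u => by ext; simp [mul_assoc]
        right_inv := fun y => by simp } _ _ fun u => rfl
  rw [h1, Cfsg.Agent.Block.sum_eq_sum_fixed (p := p) (fun z => by
    rw [nsmul_eq_mul, CharP.cast_eq_zero, zero_mul]) hP _ (fun w y => ?_)]
  · refine (finsum_mem_congr rfl fun y hy => ?_).trans ((finsum_mem_zero _).trans (by simp))
    refine if_neg fun h => hg _ h (Subgroup.mem_centralizer_iff.2 fun u hu => ?_)
    exact mul_inv_eq_iff_eq_mul.1 (congrArg Subtype.val (hy ⟨u, hu⟩) : u * (y : G) * u⁻¹ = y)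
  · have hc : IsConj (y : G) ((w : G) * y * (w : G)⁻¹) := isConj_iff.2 ⟨w, rfl⟩
    exact if_congr ⟨fun h => h.trans hc.symm, fun h => h.trans hc⟩ rfl rfl

end Cfsg.Agent.S0905
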