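import Cfsg.Agent.Lib.Block.Height
import Cfsg.Statements.S0914
-- import your own Cfsg.Agent.* helpers here

set_option autoImplicit false
open Cfsg

namespace Cfsg.Agent.S0914

/-- Let χ be an irreducible character of the finite group G, p a prime and M a maximal ideal of the algebraic integers containing p. Then p does not divide the integer (Nat.card G) / χ(1) if and only if the block of χ relative to M consists of χ alone. -/
theorem result {G : Type*} [Group G] [Finite G] (p : ℕ) [Fact p.Prime] (M : Ideal Cfsg.AlgInt) (hM : Cfsg.IsPModular p M) (χ : Cfsg.IrrCharacter G) : ¬ p ∣ Nat.card G / Cfsg.charDegree (χ : G → ℂ) ↔ Cfsg.blockOf M (χ : G → ℂ) = {χ} := by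
  classical
  have hp : p.Prime := Fact.out
  have hd := Cfsg.Agent.Block.charDeg_pos χ
  obtain ⟨k, hk⟩ := Cfsg.Agent.Block.charDeg_dvd χ
  have hkq : Nat.card G / Cfsg.charDegree (χ : G → ℂ) = k := by
    rw [hk, Nat.mul_div_cancel_left _ hd]
  rw [hkq]
  have hk0 : k ≠ 0 := fun h => (Nat.card_pos (α := G)).ne' (by rw [hk, h, mul_zero])
  have he : ∀ g, Cfsg.blockCoeff ({χ} : Set (Cfsg.IrrCharacter G)) g =
      ((k : ℕ) : ℂ)⁻¹ * (χ : G → ℂ) g⁻¹ := by
    intro g
    rw [Cfsg.blockCoeff, finsum_mem_singleton, Cfsg.Agent.Block.irr_apply_inv,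
      Cfsg.Agent.Block.charDeg_spec' χ, hk]
    have : ((Cfsg.charDegree (χ : G → ℂ) : ℕ) : ℂ) ≠ 0 := Nat.cast_ne_zero.mpr hd.ne'
    push_cast
    field_simp
  constructor
  · intro hpk
    refine Set.eq_singleton_iff_unique_mem.2
      ⟨Cfsg.Agent.Block.mem_blockOf_self hM χ, fun ψ hψ => ?_⟩
    by_contra hne
    have hA : Cfsg.Agent.Block.CenInt M
        (Cfsg.Agent.Block.blockInd ({χ} : Set (Cfsg.IrrCharacter G))) := fun g => by
      rw [← Cfsg.Agent.Block.blockCoeff_eq, he]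
      exact Cfsg.Agent.Block.ring_mul hM (Cfsg.Agent.Block.ring_inv_natCast hM hpk)
        (Cfsg.Agent.Block.irr_ring hM χ _)
    have h := hA.congr_block hM (χ := χ) (ψ := ψ) hψ
    rw [Cfsg.Agent.Block.blockInd_of_mem (Set.mem_singleton χ),
      Cfsg.Agent.Block.blockInd_of_notMem (B := ({χ} : Set (Cfsg.IrrCharacter G))) hne,
      sub_zero] at h
    exact Cfsg.Agent.Block.ideal_one hM h
  · intro hB hpk
    obtain ⟨P⟩ : Nonempty (Sylow p G) := inferInstance
    have hBlock : Cfsg.IsPBlock M ({χ} : Set (Cfsg.IrrCharacter G)) := ⟨χ, hB.symm⟩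
    obtain ⟨n, hn⟩ := Cfsg.Agent.Block.blockCoeff_mul_index hM hBlock P
    have h1 := hn 1 (by simpa using hp.not_dvd_one)
    rw [he, finsum_mem_singleton, inv_one, Cfsg.Agent.Block.charDeg_spec' χ] at h1
    have hk' : ((k : ℕ) : ℂ) ≠ 0 := Nat.cast_ne_zero.mpr hk0
    have hd' : ((Cfsg.charDegree (χ : G → ℂ) : ℕ) : ℂ) ≠ 0 := Nat.cast_ne_zero.mpr hd.ne'
    have h2 : ((P : Subgroup G).index : ℂ) = ((n χ * k : ℕ) : ℂ) := by
      push_cast
      field_simp at h1
      linear_combination h1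
    exact P.not_dvd_index (by rw [Nat.cast_inj.1 h2]; exact hpk.mul_left _)

end Cfsg.Agent.S0914
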