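import Cfsg.Agent.Lib.Block.Induced
import Cfsg.Statements.S0932
-- import your own Cfsg.Agent.* helpers here

set_option autoImplicit false
open Cfsg

namespace Cfsg.Agent.S0932

/-- Let H be a subgroup of the finite group G and ξ a character of H. For every g ∈ G, the sum of ξ h / ξ 1 over the elements h ∈ H that are conjugate in G to g equals the central character at g of the character of G induced from ξ (class size times value divided by degree). -/
theorem result {G : Type*} [Group G] [Fintype G] (H : Subgroup G) (ξ : H → ℂ) (hξ : Cfsg.IsCharacter H ξ) (g : G) : Cfsg.inducedCentralChar H ξ g = Cfsg.centralChar (Cfsg.indFun H ξ) g := by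
  classical
  haveI := Fintype.ofFinite H
  have h1 := Cfsg.Agent.Char.sum_indFun_mul H ξ (Cfsg.Agent.Block.classInd_classFun g)
  simp only [Cfsg.Agent.Block.classInd, mul_ite, mul_one, mul_zero] at h1
  rw [← Finset.sum_filter, Finset.sum_congr rfl (fun x hx =>
      (Cfsg.Agent.Char.IsClass.eq_of_isConj (Cfsg.Agent.Char.indFun_classFun H ξ)
        (Finset.mem_filter.1 hx).2).symm),
    Finset.sum_const, nsmul_eq_mul, Cfsg.Agent.Char.card_conjClass_finset, ← Finset.sum_filter] at h1
  rw [Cfsg.inducedCentralChar, finsum_mem_eq_sum_of_inter_support_eq _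
      (t := Finset.univ.filter (fun h : H => IsConj g (h : G))) (by ext; simp), ← Finset.sum_div,
    Cfsg.centralChar, Cfsg.Agent.Char.indFun_one_eq, h1,
    mul_div_mul_left _ _ (Nat.cast_ne_zero.mpr Subgroup.index_ne_zero_of_finite)]

end Cfsg.Agent.S0932
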