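import Cfsg.Agent.Lib.Block.Induced
import Cfsg.Agent.S0932
import Cfsg.Statements.S0933
-- import your own Cfsg.Agent.* helpers here

set_option autoImplicit false
open Cfsg

namespace Cfsg.Agent.S0933

/-- Let H be a subgroup of the finite group G and ξ an irreducible character of H such that the induced function ξ^G is an irreducible character of G. Then, relative to any maximal ideal M of the algebraic integers containing the prime p, the block of ξ induces the block of ξ^G. -/
theorem result {G : Type*} [Group G] [Fintype G] (p : ℕ) [Fact p.Prime] (M : Ideal Cfsg.AlgInt) (hM : Cfsg.IsPModular p M) (H : Subgroup G) (ξ : Cfsg.IrrCharacter H) (hind : Cfsg.IsIrrCharacter G (Cfsg.indFun H (ξ : H → ℂ))) : Cfsg.IsInducedBlock M H (Cfsg.blockOf M (ξ : H → ℂ)) (Cfsg.blockOf M (Cfsg.indFun H (ξ : H → ℂ))) := by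
  let χ : Cfsg.IrrCharacter G := ⟨_, hind⟩
  refine ⟨Cfsg.Agent.Block.isPBlock_blockOf ξ, Cfsg.Agent.Block.isPBlock_blockOf χ,
    fun η hη ψ hψ g => ?_⟩
  have h1 : Cfsg.MemLocalIdeal M (Cfsg.inducedCentralChar H (η : H → ℂ) g -
      Cfsg.inducedCentralChar H (ξ : H → ℂ) g) := by
    rw [← Cfsg.Agent.Block.resCen_centralChar, ← Cfsg.Agent.Block.resCen_centralChar]
    exact (Cfsg.Agent.Block.cenInt_centralChar hM g).resCen.congr_block hM
      (Cfsg.Agent.Block.sameBlock_symm hη)
  rw [Cfsg.Agent.S0932.result H (ξ : H → ℂ) (Cfsg.Agent.Char.IsIrr.isCharacter ξ.2) g] at h1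
  simpa using Cfsg.Agent.Block.ideal_add hM h1 (hψ g)

end Cfsg.Agent.S0933
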