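import Cfsg.Agent.Lib.Block.Induced
import Cfsg.Statements.S0934
-- import your own Cfsg.Agent.* helpers here

set_option autoImplicit false
open Cfsg

namespace Cfsg.Agent.S0934

/-- Let H be a subgroup of the finite group G and fix a maximal ideal M of the algebraic integers containing the prime p. If the block b of H induces the block B of G and ξ ∈ b, then there is χ ∈ B whose restriction to H has nonzero inner product with ξ. -/
theorem result {G : Type*} [Group G] [Fintype G] (p : ℕ) [Fact p.Prime] (M : Ideal Cfsg.AlgInt) (hM : Cfsg.IsPModular p M) (H : Subgroup G) [Fintype H] (b : Set (Cfsg.IrrCharacter H)) (B : Set (Cfsg.IrrCharacter G)) (hind : Cfsg.IsInducedBlock M H b B) (ξ : Cfsg.IrrCharacter H) (hξ : ξ ∈ b) : ∃ χ ∈ B, Cfsg.classInner (fun h : H => (χ : G → ℂ) h) (ξ : H → ℂ) ≠ 0 := by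
  classical
  by_contra hno
  refine Cfsg.Agent.Block.induced_blockInd_notMem hM hind hξ ?_
  suffices h : Cfsg.Agent.Block.resCen H (Cfsg.Agent.Block.blockInd B) ξ = 0 by
    rw [h]; exact Cfsg.Agent.Block.ideal_zero hM
  rw [Cfsg.Agent.Block.resCen, ← funext (Cfsg.Agent.Block.blockCoeff_eq B),
    finsum_eq_sum_of_fintype]
  simp only [Cfsg.blockCoeff, Cfsg.Agent.Block.finsum_mem_block, Finset.mul_sum, Finset.sum_mul]
  rw [Finset.sum_comm, Finset.sum_eq_zero, zero_div]
  intro χ hχ
  have h0 : Cfsg.classInner (fun h : H => (χ : G → ℂ) h) (ξ : H → ℂ) = 0 := by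
    by_contra hne
    exact hno ⟨χ, (Finset.mem_filter.1 hχ).2, hne⟩
  have h1 := congrArg (starRingEnd ℂ) h0
  rw [Cfsg.Agent.Char.classInner_conj_symm, map_zero, Cfsg.classInner] at h1
  have h2 := (mul_eq_zero.1 h1).resolve_left
    (inv_ne_zero (Nat.cast_ne_zero.mpr Nat.card_pos.ne'))
  calc _ = (Nat.card G : ℂ)⁻¹ * (χ : G → ℂ) 1 *
        ∑ h : H, (ξ : H → ℂ) h * (starRingEnd ℂ) ((χ : G → ℂ) h) := by
        rw [Finset.mul_sum]; exact Finset.sum_congr rfl fun h _ => by ring
    _ = 0 := by rw [h2, mul_zero]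

end Cfsg.Agent.S0934
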