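import Cfsg.Agent.Lib.Block.Elementary
import Cfsg.Statements.S0938
-- import your own Cfsg.Agent.* helpers here

set_option autoImplicit false
open Cfsg

namespace Cfsg.Agent.S0938

/-- Let B be a block of the finite group G relative to a maximal ideal M of the algebraic integers containing the prime p, and let χ ∈ B. Then the kernel of B (the set of g with ψ g = ψ 1 for all ψ ∈ B) is a normal subgroup of order prime to p contained in the kernel of χ, and it contains every normal subgroup of order prime to p on which χ takes the value χ(1); that is, it is O_p' of the kernel of χ. -/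
theorem result {G : Type*} [Group G] [Finite G] (p : ℕ) [Fact p.Prime] (M : Ideal Cfsg.AlgInt) (hM : Cfsg.IsPModular p M) (B : Set (Cfsg.IrrCharacter G)) (hB : Cfsg.IsPBlock M B) (χ : Cfsg.IrrCharacter G) (hχ : χ ∈ B) : ∃ K : Subgroup G, K.Normal ∧ (K : Set G) = Cfsg.blockKer B ∧ ¬ p ∣ Nat.card K ∧ (∀ g ∈ K, (χ : G → ℂ) g = (χ : G → ℂ) 1) ∧ ∀ N : Subgroup G, N.Normal → ¬ p ∣ Nat.card N → (∀ g ∈ N, (χ : G → ℂ) g = (χ : G → ℂ) 1) → N ≤ K := by
  classical
  cases nonempty_fintype G
  let K : Subgroup G :=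
    ⨅ ξ : {ξ : Cfsg.IrrCharacter G // ξ ∈ B}, Cfsg.Agent.Char.charKer
      (Cfsg.Agent.Block.irr_isChar ξ.1)
  have hmem : ∀ g, g ∈ K ↔ g ∈ Cfsg.blockKer B := fun g => by
    simp [K, Subgroup.mem_iInf, Cfsg.Agent.Char.mem_charKer, Cfsg.blockKer]
  refine ⟨K, ⟨fun n hn g => ?_⟩, Set.ext hmem, ?_, fun g hg => (hmem g).1 hg χ hχ,
    fun N hN hNp hker n hn => (hmem n).2 fun ξ hξ => ?_⟩
  · simp only [K, Subgroup.mem_iInf] at hn ⊢
    exact fun ξ => (Cfsg.Agent.Char.charKer_normal _).conj_mem n (hn ξ) g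
  · exact Cfsg.Agent.Block.pPrime_of_pElements fun z hz hzp =>
      Cfsg.Agent.Block.blockKer_pPrime hM hB hzp ((hmem z).1 hz)
  · haveI := hN
    exact Cfsg.Agent.Block.ker_of_sameBlock hM N hNp
      (Cfsg.Agent.Block.pblock_sameBlock hM hB hχ hξ) hker hn

end Cfsg.Agent.S0938
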