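import Cfsg.Statements.S0944
import Mathlib
import Cfsg.Agent.Lib.Block.ClassMul
-- import your own Cfsg.Agent.* helpers here

set_option autoImplicit false
open Cfsg

namespace Cfsg.Agent.S0944

/-- Let χ be an irreducible character of the finite group G and u an involution. Then χ u is a rational integer n with n ≡ χ 1 (mod 2). -/
theorem result {G : Type*} [Group G] [Finite G] (χ : Cfsg.IrrCharacter G) (u : G) (hu : orderOf u = 2) : ∃ n : ℤ, (χ : G → ℂ) u = (n : ℂ) ∧ (2 : ℤ) ∣ (Cfsg.charDegree (χ : G → ℂ) : ℤ) - n := by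
  classical
  obtain ⟨χ, n, ρ, hρ, rfl⟩ := χ
  have hdeg : (Cfsg.charDegree ρ.character : ℂ) = ρ.character 1 :=
    (Cfsg.Agent.Block.charDeg_spec (G := G) ⟨n, ρ, rfl⟩).symm
  obtain ⟨b, c, -, hc, hk⟩ := Cfsg.Agent.Char.exists_rep_eigenbasis ρ u
  rw [hu] at hc
  have h1 : ∀ i, c i = 1 ∨ c i = -1 := fun i => sq_eq_one_iff.1 (hc i)
  let e : Fin (Module.finrank ℂ (Fin n → ℂ)) → ℤ := fun i => if c i = 1 then 1 else -1
  have hce : ∀ i, c i = (e i : ℂ) := fun i => by
    rcases h1 i with h | h <;> simp [e, h] <;> norm_num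
  refine ⟨∑ i, e i, ?_, ?_⟩
  · show ρ.character u = _
    have := hk 1
    simp only [pow_one] at this
    rw [this, Int.cast_sum]
    exact Finset.sum_congr rfl fun i _ => hce i
  · show (2 : ℤ) ∣ (Cfsg.charDegree ρ.character : ℤ) - _
    have h0 : (Cfsg.charDegree ρ.character : ℤ) = ∑ i : Fin (Module.finrank ℂ (Fin n → ℂ)), (1 : ℤ) := by
      have : (Cfsg.charDegree ρ.character : ℂ) = (Module.finrank ℂ (Fin n → ℂ) : ℂ) := by
        rw [hdeg, Representation.char_one]
      simp [Nat.cast_injective this]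
    rw [h0, ← Finset.sum_sub_distrib]
    refine Finset.dvd_sum fun i _ => ?_
    by_cases h : c i = 1 <;> simp [e, h]

end Cfsg.Agent.S0944
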