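import Cfsg.Agent.Lib.Block.HomocyclicTwo
import Cfsg.Statements.S0946
-- import your own Cfsg.Agent.* helpers here

set_option autoImplicit false
open Cfsg

namespace Cfsg.Agent.S0946

/-- Let P be a Sylow 2-subgroup of the finite group G isomorphic to Z/2^m × Z/2^m with m ≥ 1. Then either P has a normal complement in G, or all involutions of G are conjugate. -/
theorem result {G : Type*} [Group G] [Finite G] (P : Sylow 2 G) (m : ℕ) (hm : 1 ≤ m) (e : (P : Subgroup G) ≃* Multiplicative (ZMod (2 ^ m) × ZMod (2 ^ m))) : (∃ N : Subgroup G, N.Normal ∧ Subgroup.IsComplement' N (P : Subgroup G)) ∨ ∀ s t : G, orderOf s = 2 → orderOf t = 2 → IsConj s t := by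
  haveI : Fact (Nat.Prime 2) := ⟨Nat.prime_two⟩
  haveI := Cfsg.Agent.Block.isMulCommutative_of_homocyclic P e
  rcases (Cfsg.Agent.Block.twoRankTwo_of_homocyclic P hm e).automizer with h | ⟨g, -, -, -, htr⟩
  · exact .inl ⟨_, inferInstance, MonoidHom.ker_transferSylow_isComplement' P h⟩
  right
  intro s t hs ht
  have key : ∀ x : G, orderOf x = 2 → ∃ y ∈ (P : Subgroup G), y ≠ 1 ∧ y * y = 1 ∧ IsConj x y := by
    intro x hx
    have hp : IsPGroup 2 (Subgroup.zpowers x) :=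
      IsPGroup.of_card (n := 1) (by rw [Nat.card_zpowers, hx, pow_one])
    obtain ⟨c, hc⟩ := Cfsg.Agent.Invol.exists_conj_subset_sylow hp P
    obtain ⟨hx2, hx1⟩ := orderOf_eq_prime_iff.1 hx
    refine ⟨c * x * c⁻¹, hc x (Subgroup.mem_zpowers x), fun e => hx1 (conj_eq_one_iff.1 e), ?_,
      isConj_iff.2 ⟨c, rfl⟩⟩
    rw [conj_mul, ← pow_two, hx2, mul_one, mul_inv_cancel]
  obtain ⟨y, hy, hy1, hy2, hsy⟩ := key s hs
  obtain ⟨z, hz, hz1, hz2, htz⟩ := key t ht
  exact (hsy.trans (htr y hy z hz hy1 hz1 hy2 hz2)).trans htz.symm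

end Cfsg.Agent.S0946
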