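import Cfsg.Agent.Lib.Block.SuzukiIdentity
import Cfsg.Statements.S0947
-- import your own Cfsg.Agent.* helpers here

set_option autoImplicit false
open Cfsg

namespace Cfsg.Agent.S0947

/-- Let z ≠ 1 be a p-element of the finite group G with centralizer H, and fix a maximal ideal M of the algebraic integers containing p. (i) For every y ∈ H of order prime to p, the sum over ζ in the principal block of G of |ζ (z * y)|² equals the sum over χ in the principal block of H of |χ y|². (ii) If moreover H has a normal p-complement (its largest normal subgroup of order prime to p has p-power index), that common value is the largest power of p dividing the order of H. -/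
theorem result {G : Type*} [Group G] [Finite G] (p : ℕ) [Fact p.Prime] (M : Ideal Cfsg.AlgInt) (hM : Cfsg.IsPModular p M) (z : G) (hz : ∃ k : ℕ, orderOf z = p ^ k) (hz1 : z ≠ 1) (y : Subgroup.centralizer ({z} : Set G)) (hy : ¬ p ∣ orderOf y) : (∑ᶠ ζ ∈ Cfsg.principalBlock M G, ‖(ζ : G → ℂ) (z * (y : G))‖ ^ 2 = ∑ᶠ χ ∈ Cfsg.principalBlock M (Subgroup.centralizer ({z} : Set G)), ‖(χ : Subgroup.centralizer ({z} : Set G) → ℂ) y‖ ^ 2) ∧ ((∃ k : ℕ, (Cfsg.pPrimeCore p (Subgroup.centralizer ({z} : Set G))).index = p ^ k) → ∑ᶠ ζ ∈ Cfsg.principalBlock M G, ‖(ζ : G → ℂ) (z * (y : G))‖ ^ 2 = ((p ^ (Nat.card (Subgroup.centralizer ({z} : Set G))).factorization p : ℕ) : ℝ)) := by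
  classical
  have conv : ∀ {H : Type _} [Group H] [Finite H] (B : Set (Cfsg.IrrCharacter H))
      (f : Cfsg.IrrCharacter H → ℂ),
      ((∑ᶠ χ ∈ B, ‖f χ‖ ^ 2 : ℝ) : ℂ) = ∑ᶠ χ ∈ B, f χ * (starRingEnd ℂ) (f χ) := by
    intro H _ _ B f
    rw [finsum_mem_eq_sum_of_inter_support_eq (t := Finset.univ.filter (· ∈ B)) _ (by ext; simp),
      Cfsg.Agent.Block.finsum_mem_block, Complex.ofReal_sum]
    refine Finset.sum_congr rfl fun χ _ => ?_
    rw [Complex.mul_conj, Complex.normSq_eq_norm_sq]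
  have key : ∑ᶠ ζ ∈ Cfsg.principalBlock M G, ‖(ζ : G → ℂ) (z * (y : G))‖ ^ 2 =
      ∑ᶠ χ ∈ Cfsg.principalBlock M (Subgroup.centralizer ({z} : Set G)),
        ‖(χ : Subgroup.centralizer ({z} : Set G) → ℂ) y‖ ^ 2 := by
    apply Complex.ofReal_injective
    rw [conv, conv]
    exact Cfsg.Agent.Block.principal_column hM hz hy
  refine ⟨key, ?_⟩
  rintro ⟨k, hk⟩
  haveI := Cfsg.Agent.Grp.pPrimeCore_isNormal (p := p) (G := Subgroup.centralizer ({z} : Set G))
  rw [key]
  apply Complex.ofReal_injective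
  rw [conv, Complex.ofReal_natCast]
  exact Cfsg.Agent.Block.principal_column_complement hM Cfsg.Agent.Grp.pPrimeCore_not_dvd hk hy

end Cfsg.Agent.S0947
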