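import Cfsg.Agent.Lib.Grp.Cores
import Cfsg.Agent.Lib.Block.FirstMain
import Cfsg.Statements.S0955
-- import your own Cfsg.Agent.* helpers here

set_option autoImplicit false
open Cfsg

namespace Cfsg.Agent.S0955

/-- Let D be a defect group of a block of the finite group G relative to a maximal ideal M of the algebraic integers containing the prime p. Then D is the largest normal p-subgroup of its own normalizer: O_p(N_G(D)) = D. -/
theorem result {G : Type*} [Group G] [Finite G] (p : ℕ) [Fact p.Prime] (M : Ideal Cfsg.AlgInt) (hM : Cfsg.IsPModular p M) (B : Set (Cfsg.IrrCharacter G)) (hB : Cfsg.IsPBlock M B) (D : Subgroup G) (hD : Cfsg.IsDefectGroup p M B D) : (Cfsg.pCore p (Subgroup.normalizer (D : Set G))).map (Subgroup.normalizer (D : Set G)).subtype = D := by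
  haveI := Cfsg.Agent.Grp.pCore_isNormal (p := p) (G := Subgroup.normalizer (D : Set G))
  refine le_antisymm (Cfsg.Agent.Block.pCore_normalizer_eq hM hB hD
    Cfsg.Agent.Grp.pCore_isPGroup) ?_
  conv_lhs => rw [← Cfsg.Agent.Block.map_subgroupOf_normalizer D]
  exact Subgroup.map_mono (Cfsg.Agent.Grp.le_pCore
    (Cfsg.Agent.Block.normal_subgroupOf_normalizer D)
    ((Cfsg.Agent.Block.IsDefectGroup.isPGroup hD).of_equiv
      (Subgroup.subgroupOfEquivOfLe Subgroup.le_normalizer).symm))

end Cfsg.Agent.S0955
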