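import Cfsg.Statements.S0957
-- import your own Cfsg.Agent.* helpers here

set_option autoImplicit false
open Cfsg

namespace Cfsg.Agent.S0957

/-- Let P be a Sylow p-subgroup of the finite group G, let g, h ∈ G and let p ^ d be the order of a Sylow p-subgroup of the centralizer of g. Then the number of pairs (y, z) with y conjugate to g, z conjugate to h and z * y⁻¹ ∈ P is divisible by the order of P divided by p ^ d. -/
theorem result {G : Type*} [Group G] [Finite G] (p : ℕ) [Fact p.Prime] (P : Sylow p G) (g h : G) (S : Sylow p (Subgroup.centralizer ({g} : Set G))) : Nat.card P / Nat.card S ∣ Nat.card {yz : G × G // IsConj g yz.1 ∧ IsConj h yz.2 ∧ yz.2 * yz.1⁻¹ ∈ (P : Subgroup G)} := by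
  classical
  haveI := Fintype.ofFinite G
  set X := {yz : G × G // IsConj g yz.1 ∧ IsConj h yz.2 ∧ yz.2 * yz.1⁻¹ ∈ (P : Subgroup G)}
  letI : MulAction (P : Subgroup G) X :=
  { smul := fun u x => ⟨((u : G) * x.1.1 * (u : G)⁻¹, (u : G) * x.1.2 * (u : G)⁻¹),
      x.2.1.trans (isConj_iff.2 ⟨u, rfl⟩), x.2.2.1.trans (isConj_iff.2 ⟨u, rfl⟩), by
        have : (u : G) * x.1.2 * (u : G)⁻¹ * ((u : G) * x.1.1 * (u : G)⁻¹)⁻¹ =
          (u : G) * (x.1.2 * x.1.1⁻¹) * (u : G)⁻¹ := by group
        rw [this]
        exact mul_mem (mul_mem u.2 x.2.2.2) (inv_mem u.2)⟩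
    one_smul := fun x => Subtype.ext (Prod.ext (by
      show ((1 : (P : Subgroup G)) : G) * x.1.1 * _ = _; simp) (by
      show ((1 : (P : Subgroup G)) : G) * x.1.2 * _ = _; simp))
    mul_smul := fun u v x => Subtype.ext (Prod.ext (by
      show ((u * v : (P : Subgroup G)) : G) * x.1.1 * _ = (u : G) * ((v : G) * x.1.1 * _) * _
      simp [mul_assoc]) (by
      show ((u * v : (P : Subgroup G)) : G) * x.1.2 * _ = (u : G) * ((v : G) * x.1.2 * _) * _
      simp [mul_assoc])) }
  haveI := Fintype.ofFinite X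
  rw [Nat.card_congr (MulAction.selfEquivSigmaOrbits (P : Subgroup G) X), Nat.card_sigma]
  refine Finset.dvd_sum fun ω _ => ?_
  set x := Quotient.out ω
  set Q := MulAction.stabilizer (P : Subgroup G) x
  have horb : Nat.card (MulAction.orbit (P : Subgroup G) x) = Q.index := by
    rw [MulAction.index_stabilizer]
    rfl
  show _ ∣ Nat.card (MulAction.orbit (P : Subgroup G) x)
  rw [horb]
  have hQ : Nat.card Q ∣ Nat.card S := by
    obtain ⟨c, hc⟩ := isConj_iff.1 x.2.1
    let f : Q →* Subgroup.centralizer ({g} : Set G) :=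
      MonoidHom.codRestrict (((MulAut.conj c⁻¹).toMonoidHom.comp (P : Subgroup G).subtype).comp Q.subtype)
        (Subgroup.centralizer ({g} : Set G)) (fun u => by
          have hu : u.1 • x = x := u.2
          have hu' : (u.1 : G) * x.1.1 * (u.1 : G)⁻¹ = x.1.1 := congrArg (fun y : X => y.1.1) hu
          have hu'' : (u.1 : G) * x.1.1 = x.1.1 * (u.1 : G) := mul_inv_eq_iff_eq_mul.1 hu'
          rw [Subgroup.mem_centralizer_singleton_iff]
          simp only [MonoidHom.coe_comp, Function.comp_apply, Subgroup.coe_subtype,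
            MulEquiv.coe_toMonoidHom, MulAut.conj_apply, inv_inv]
          rw [show g = c⁻¹ * x.1.1 * c by rw [← hc]; group]
          calc c⁻¹ * (u.1 : G) * c * (c⁻¹ * x.1.1 * c) = c⁻¹ * ((u.1 : G) * x.1.1) * c := by group
            _ = c⁻¹ * (x.1.1 * (u.1 : G)) * c := by rw [hu'']
            _ = _ := by group)
    have hf : Function.Injective f := fun a b hab => by
      apply Subtype.ext; apply Subtype.ext
      exact (MulAut.conj c⁻¹).injective (congrArg Subtype.val hab)
    have hPQ : IsPGroup p f.range :=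
      (P.isPGroup'.to_subgroup Q).of_surjective f.rangeRestrict f.rangeRestrict_surjective
    obtain ⟨T, hT⟩ := hPQ.exists_le_sylow
    rw [Nat.card_congr (MonoidHom.ofInjective hf).toEquiv, S.card_eq_multiplicity,
      ← T.card_eq_multiplicity]
    exact Subgroup.card_dvd_of_le hT
  have hPcard : Nat.card (P : Subgroup G) = Nat.card Q * Q.index := (Subgroup.card_mul_index Q).symm
  obtain ⟨k, hk⟩ := hQ
  by_cases hSP : Nat.card S ∣ Nat.card (P : Subgroup G)
  · rw [Nat.div_dvd_iff_dvd_mul hSP Nat.card_pos, hPcard, hk]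
    exact ⟨k, by ring⟩
  · exfalso
    apply hSP
    rw [S.card_eq_multiplicity, P.card_eq_multiplicity]
    exact Nat.pow_dvd_pow _ ((Nat.factorization_le_iff_dvd Nat.card_pos.ne' Nat.card_pos.ne').2
      (Subgroup.card_subgroup_dvd_card _) p)

end Cfsg.Agent.S0957
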