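import Cfsg.Agent.Lib.Char.Contrib
import Cfsg.Statements.S0961
-- import your own Cfsg.Agent.* helpers here

set_option autoImplicit false
open Cfsg

namespace Cfsg.Agent.S0961

/-- Let χ be an irreducible character of the finite group G and let p ^ a be the largest power of the prime p dividing the order of G. Then the function equal to p ^ a * χ x at elements x of order prime to p and to 0 elsewhere is a generalized character (a difference of characters). -/
theorem result {G : Type*} [Group G] [Finite G] (p : ℕ) [Fact p.Prime] (χ : Cfsg.IrrCharacter G) : Cfsg.IsGeneralizedCharacter G (fun x : G => if p ∣ orderOf x then 0 else ((p ^ (Nat.card G).factorization p : ℕ) : ℂ) * (χ : G → ℂ) x) := by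
  classical
  cases nonempty_fintype G
  cases nonempty_fintype (Cfsg.IrrCharacter G)
  obtain ⟨M, hM⟩ := Cfsg.Agent.Char.exists_isPModular p (Fact.out : p.Prime)
  set a := (Nat.card G).factorization p with ha
  set f : G → ℂ := fun x => if p ∣ orderOf x then 0 else ((p ^ a : ℕ) : ℂ) * (χ : G → ℂ) x with hf
  have hcl : Cfsg.IsClassFunction G f := by
    intro x y
    have h1 : orderOf (y * x * y⁻¹) = orderOf x := by
      rw [← MulAut.conj_apply, MulEquiv.orderOf_eq]
    simp only [hf, h1, Cfsg.Agent.Char.IsIrr.classFun χ.2 x y]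
  have key : ∀ ξ : Cfsg.IrrCharacter G, ∃ z : ℤ, Cfsg.classInner f (ξ : G → ℂ) = z := by
    intro ξ
    have hmul := Cfsg.Agent.Char.IsChar.mul (Cfsg.Agent.Block.irr_isChar χ)
      (Cfsg.Agent.Char.IsChar.conj (Cfsg.Agent.Block.irr_isChar ξ))
    obtain ⟨r, hr⟩ := Cfsg.Agent.Char.Contrib.exists_rat_sum_regular p hmul
    have e : Cfsg.classInner f (ξ : G → ℂ) = ((p ^ a : ℕ) : ℂ) *
        ((∑ x ∈ Finset.univ.filter (fun x : G => ¬ p ∣ orderOf x),
          (χ : G → ℂ) x * (starRingEnd ℂ) ((ξ : G → ℂ) x)) / (Nat.card G : ℂ)) := by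
      rw [Cfsg.classInner, div_eq_inv_mul, mul_left_comm]
      congr 1
      rw [Finset.mul_sum, Finset.sum_filter]
      refine Finset.sum_congr rfl fun x _ => ?_
      simp only [hf]
      split_ifs <;> ring
    simp only [Pi.mul_apply] at hr
    refine Cfsg.Agent.Char.Contrib.exists_int_of_local
      (r := (p : ℚ) ^ a * (r / (Nat.card G : ℚ))) (by rw [e, hr]; push_cast; ring) fun q hq => ?_
    by_cases hqp : q = p
    · refine hqp ▸ ⟨M, hM, ?_⟩
      obtain ⟨m, hm⟩ := Nat.ordProj_dvd (Nat.card G) p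
      have hm' : ¬ p ∣ m := fun hd => Nat.pow_succ_factorization_not_dvd Nat.card_pos.ne'
        (Fact.out : p.Prime) (by rw [pow_succ]; exact (Nat.mul_dvd_mul_left _ hd).trans (dvd_of_eq hm.symm))
      have e2 : ((p ^ a : ℕ) : ℂ) * ((∑ x ∈ Finset.univ.filter (fun x : G => ¬ p ∣ orderOf x),
          (χ : G → ℂ) x * (starRingEnd ℂ) ((ξ : G → ℂ) x)) / (Nat.card G : ℂ)) =
          (∑ x ∈ Finset.univ.filter (fun x : G => ¬ p ∣ orderOf x),
          (χ : G → ℂ) x * (starRingEnd ℂ) ((ξ : G → ℂ) x)) * (m : ℂ)⁻¹ := by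
        rw [hm, ← ha]
        have := (Fact.out : p.Prime).ne_zero
        push_cast
        field_simp
      rw [e, e2]
      refine Cfsg.Agent.Block.ring_mul hM (Cfsg.Agent.Block.ring_sum hM fun x _ =>
        Cfsg.Agent.Block.ring_mul hM (Cfsg.Agent.Block.irr_ring hM χ x) ?_)
        (Cfsg.Agent.Block.ring_inv_natCast hM hm')
      rw [← Cfsg.Agent.Block.irr_apply_inv]
      exact Cfsg.Agent.Block.irr_ring hM ξ _
    · obtain ⟨N, hN⟩ := Cfsg.Agent.Char.exists_isPModular q hq
      haveI := Fact.mk hq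
      refine ⟨N, hN, ?_⟩
      rw [e]
      exact Cfsg.Agent.Block.ring_mul hN (Cfsg.Agent.Block.ring_natCast hN _)
        (Cfsg.Agent.Char.Contrib.ring_sum_regular_div (p := p) hqp hN hmul)
  choose z hz using key
  show Cfsg.IsGeneralizedCharacter G f
  rw [Cfsg.Agent.Char.classFunction_expansion hcl]
  refine Cfsg.Agent.Char.IsGenChar.sum fun ξ _ => ?_
  rw [hz]
  exact Cfsg.Agent.Char.IsGenChar.zsmul (Cfsg.Agent.Char.IsGenChar.of_isCharacter
    (Cfsg.Agent.Block.irr_isChar ξ)) (z ξ)

end Cfsg.Agent.S0961
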