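import Cfsg.Statements.S0974
import Cfsg.Agent.Lib.Block.OrderPrime

set_option autoImplicit false
open Cfsg

namespace Cfsg.Agent.S0974

open Cfsg.Agent.Block Cfsg.Agent.Char

/-- No finite simple group has order 3648 = 2^6 * 3 * 19. -/
theorem result {G : Type*} [Group G] [Finite G] [IsSimpleGroup G] : Nat.card G ≠ 3648 := by
  intro h
  haveI : Fact (Nat.Prime 19) := ⟨by norm_num⟩
  have hna : ¬ IsMulCommutative G := small_not_comm (by rw [h]; norm_num)
  obtain ⟨M, hM⟩ := exists_isPModular 19 (by norm_num)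
  obtain ⟨P⟩ : Nonempty (Sylow 19 G) := inferInstance
  have hcard : Nat.card G = 19 * 192 := by rw [h]
  obtain ⟨e, k, hk0, hkm, he, he1, hep, hC, hprod⟩ :=
    OrdP.exists_e hna hcard (by norm_num) P
  obtain ⟨c, hc⟩ := hC
  rw [hc] at hprod
  have hk : k ≤ 10 := by have := Nat.le_of_dvd (by norm_num) hkm; omega
  interval_cases k <;> norm_num at hkm
  have hce : c * e = 2 := by linarith
  have he2 : e = 2 := ((Nat.dvd_prime Nat.prime_two).1 ⟨c, by rw [mul_comm, hce]⟩).resolve_left he1.ne'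
  obtain ⟨X, y, s, ε, hX, hXd, -, -, -, hrel, hcol⟩ := OrdP.data hna hM (by norm_num) P
    (OrdP.card_sylow_eq hcard (by norm_num) P) he he1 hep (by omega)
  obtain ⟨-, hsz⟩ := OrdP.degree_data hrel hcol
  obtain ⟨χ, hχ⟩ : X.Nonempty := Finset.card_pos.1 (by omega)
  obtain ⟨hne, hs, hd, -⟩ := hXd χ hχ
  have hd2 := OrdP.two_le_deg hna hne
  have hdv := charDeg_dvd χ
  rw [h] at hdv hsz
  have h1 : charDegree (χ : G → ℂ) ^ 2 ≤ ∑ ξ ∈ X, charDegree (ξ : G → ℂ) ^ 2 :=
    Finset.single_le_sum (f := fun ξ : Cfsg.IrrCharacter G => charDegree (ξ : G → ℂ) ^ 2)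
      (fun ξ _ => Nat.zero_le _) hχ
  have hd60 : charDegree (χ : G → ℂ) ≤ 60 := by
    by_contra hlt
    have := Nat.pow_le_pow_left (show 61 ≤ charDegree (χ : G → ℂ) by omega) 2
    omega
  generalize charDegree (χ : G → ℂ) = d at hd2 hd60 hdv hd
  rw [Int.ModEq] at hd
  interval_cases d <;> first | omega | norm_num at hdv

end Cfsg.Agent.S0974
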