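import Cfsg.Statements.S0975
import Cfsg.Agent.Lib.Block.OrderPrime

set_option autoImplicit false
open Cfsg

namespace Cfsg.Agent.S0975

open Cfsg.Agent.Block Cfsg.Agent.Char

/-- No finite simple group has order 3744 = 2^5 * 3^2 * 13. -/
theorem result {G : Type*} [Group G] [Finite G] [IsSimpleGroup G] : Nat.card G ≠ 3744 := by
  intro h
  haveI : Fact (Nat.Prime 13) := ⟨by norm_num⟩
  have hna : ¬ IsMulCommutative G := small_not_comm (by rw [h]; norm_num)
  obtain ⟨M, hM⟩ := exists_isPModular 13 (by norm_num)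
  obtain ⟨P⟩ : Nonempty (Sylow 13 G) := inferInstance
  have hcard : Nat.card G = 13 * 288 := by rw [h]
  obtain ⟨e, k, hk0, hkm, he, he1, hep, hC, hprod⟩ :=
    OrdP.exists_e hna hcard (by norm_num) P
  obtain ⟨c, hc⟩ := hC
  rw [hc] at hprod
  have hk : k ≤ 22 := by have := Nat.le_of_dvd (by norm_num) hkm; omega
  interval_cases k <;> norm_num at hkm
  have hce : c * e = 2 := by linarith
  have he2 : e = 2 := ((Nat.dvd_prime (by norm_num : Nat.Prime 2)).1
    ⟨c, by rw [mul_comm, hce]⟩).resolve_left he1.ne'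
  obtain ⟨X, y, s, ε, hX, hXd, -, hε, -, hrel, hcol⟩ := OrdP.data hna hM (by norm_num) P
    (OrdP.card_sylow_eq hcard (by norm_num) P) he he1 hep (by omega)
  obtain ⟨hsum, hsz⟩ := OrdP.degree_data hrel hcol
  have hdy := charDeg_dvd y
  rw [h] at hdy hsz
  have key : ∀ χ ∈ X, s χ = -1 ∧ charDegree (χ : G → ℂ) = 12 := by
    intro χ hχ
    obtain ⟨hne, hs, hd, -⟩ := hXd χ hχ
    have hd2 := OrdP.two_le_deg hna hne
    have hdv := charDeg_dvd χ
    rw [h] at hdv
    have h1 : charDegree (χ : G → ℂ) ^ 2 ≤ ∑ ξ ∈ X, charDegree (ξ : G → ℂ) ^ 2 :=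
      Finset.single_le_sum (f := fun ξ : Cfsg.IrrCharacter G => charDegree (ξ : G → ℂ) ^ 2)
        (fun ξ _ => Nat.zero_le _) hχ
    have hdmax : charDegree (χ : G → ℂ) ≤ 61 := by
      by_contra hlt
      have := Nat.pow_le_pow_left (show 62 ≤ charDegree (χ : G → ℂ) by omega) 2
      omega
    generalize charDegree (χ : G → ℂ) = d at hd2 hdmax hdv hd ⊢
    rw [Int.ModEq] at hd
    interval_cases d <;> first | omega | norm_num at hdv
  obtain ⟨χ, rfl⟩ := Finset.card_eq_one.1 (show X.card = 1 by omega)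
  obtain ⟨h1, h2⟩ := key χ (Finset.mem_singleton_self χ)
  rw [Finset.sum_singleton, h1, h2] at hsum
  have hy : charDegree (y : G → ℂ) = 11 := by rcases hε with rfl | rfl <;> omega
  rw [hy] at hdy
  norm_num at hdy

end Cfsg.Agent.S0975
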