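import Cfsg.Statements.S0985
import Mathlib
-- import your own Cfsg.Agent.* helpers here

set_option autoImplicit false
open Cfsg

namespace Cfsg.Agent.S0985

/-- If the number of Sylow p-subgroups of a finite group is not congruent to 1 modulo p^k, then there are two distinct Sylow p-subgroups P and R such that the index of P ∩ R in P is at most p^(k-1). -/
theorem result {G : Type*} [Group G] [Finite G] (p k : ℕ) [Fact p.Prime] (h : ¬ Nat.card (Sylow p G) ≡ 1 [MOD p ^ k]) : ∃ P R : Sylow p G, P ≠ R ∧ ((R : Subgroup G).subgroupOf (P : Subgroup G)).index ≤ p ^ (k - 1) := by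
  classical
  haveI := Fintype.ofFinite G
  haveI := Fintype.ofFinite (Sylow p G)
  by_contra hne
  push Not at hne
  apply h
  obtain ⟨P⟩ := (inferInstance : Nonempty (Sylow p G))
  letI : MulAction (P : Subgroup G) (Sylow p G) := inferInstance
  rw [Nat.card_congr (MulAction.selfEquivSigmaOrbits (P : Subgroup G) (Sylow p G)), Nat.card_sigma]
  have key : ∀ R : Sylow p G, R ≠ P →
      p ^ k ∣ Nat.card (MulAction.orbit (P : Subgroup G) R) := by
    intro R hR
    have h1 : Nat.card (MulAction.orbit (P : Subgroup G) R) =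
        (MulAction.stabilizer (P : Subgroup G) R).index := by
      rw [MulAction.index_stabilizer]; rfl
    rw [h1]
    have hle : MulAction.stabilizer (P : Subgroup G) R ≤ (R : Subgroup G).subgroupOf (P : Subgroup G) := by
      intro u hu
      have hu' : (u : G) ∈ Subgroup.normalizer ((R : Subgroup G) : Set G) :=
        Sylow.smul_eq_iff_mem_normalizer.1 hu
      have h2 := P.isPGroup'.to_le (inf_le_left : (P : Subgroup G) ⊓ Subgroup.normalizer ((R : Subgroup G) : Set G) ≤ P)
      have h3 := h2.inf_normalizer_sylow R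
      have h4 : (u : G) ∈ ((P : Subgroup G) ⊓ Subgroup.normalizer ((R : Subgroup G) : Set G)) ⊓
          Subgroup.normalizer ((R : Subgroup G) : Set G) := ⟨⟨u.2, hu'⟩, hu'⟩
      exact ((SetLike.ext_iff.1 h3 _).1 h4).2
    obtain ⟨a, ha⟩ := P.isPGroup'.index (MulAction.stabilizer (P : Subgroup G) R)
    rw [ha]
    refine Nat.pow_dvd_pow _ ?_
    by_contra hlt
    push Not at hlt
    have h2 := hne P R (Ne.symm hR)
    have h3 := Nat.le_of_dvd (Nat.pos_of_ne_zero Subgroup.index_ne_zero_of_finite)
      (Subgroup.index_dvd_of_le hle)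
    rw [ha] at h3
    have h4 : p ^ a ≤ p ^ (k - 1) := Nat.pow_le_pow_right (Fact.out : p.Prime).pos (by omega)
    omega
  set ω₀ : MulAction.orbitRel.Quotient (P : Subgroup G) (Sylow p G) := Quotient.mk'' P
  rw [← Finset.add_sum_erase _ _ (Finset.mem_univ ω₀)]
  have hone : Nat.card (MulAction.orbit (P : Subgroup G) ω₀.out) = 1 := by
    have hP : ω₀.out = P := by
      have h1 : ω₀.out ∈ MulAction.orbit (P : Subgroup G) P :=
        Quotient.exact' (Quotient.out_eq' ω₀)
      obtain ⟨u, hu⟩ := h1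
      rw [← hu]
      exact Sylow.smul_eq_iff_mem_normalizer.2 (Subgroup.le_normalizer u.2)
    rw [hP, Nat.card_eq_one_iff_unique]
    refine ⟨⟨?_⟩, ⟨⟨P, MulAction.mem_orbit_self P⟩⟩⟩
    rintro ⟨x, u, rfl⟩ ⟨y, v, rfl⟩
    apply Subtype.ext
    show u • P = v • P
    rw [show u • P = P from Sylow.smul_eq_iff_mem_normalizer.2 (Subgroup.le_normalizer u.2),
      show v • P = P from Sylow.smul_eq_iff_mem_normalizer.2 (Subgroup.le_normalizer v.2)]
  show Nat.card (MulAction.orbit (P : Subgroup G) ω₀.out) + _ ≡ 1 [MOD p ^ k]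
  rw [hone]
  conv_rhs => rw [← add_zero 1]
  refine Nat.ModEq.add_left 1 (Nat.modEq_zero_iff_dvd.2 (Finset.dvd_sum fun ω hω => ?_))
  refine key ω.out fun hP => (Finset.mem_erase.1 hω).1 ?_
  rw [← Quotient.out_eq' ω, hP]

end Cfsg.Agent.S0985
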