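import Cfsg.Statements.S0986
import Mathlib
-- import your own Cfsg.Agent.* helpers here

set_option autoImplicit false
open Cfsg

namespace Cfsg.Agent.S0986

/-- Let P and Q be distinct Sylow p-subgroups of a finite group G chosen so that the order of P ∩ Q is as large as possible among intersections of two distinct Sylow p-subgroups, and let N be the normalizer of P ∩ Q. Then N has more than one Sylow p-subgroup, any two distinct Sylow p-subgroups of N intersect exactly in P ∩ Q, and each Sylow p-subgroup of N lies in exactly one Sylow p-subgroup of G. -/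
theorem result {G : Type*} [Group G] [Finite G] (p : ℕ) [Fact p.Prime] (P Q : Sylow p G) (hPQ : P ≠ Q) (hmax : ∀ P' Q' : Sylow p G, P' ≠ Q' → Nat.card ↥((P' : Subgroup G) ⊓ (Q' : Subgroup G)) ≤ Nat.card ↥((P : Subgroup G) ⊓ (Q : Subgroup G))) : 1 < Nat.card (Sylow p ↥(Subgroup.normalizer (((P : Subgroup G) ⊓ (Q : Subgroup G) : Subgroup G) : Set G))) ∧ (∀ S T : Sylow p ↥(Subgroup.normalizer (((P : Subgroup G) ⊓ (Q : Subgroup G) : Subgroup G) : Set G)), S ≠ T → (S : Subgroup _) ⊓ (T : Subgroup _) = ((P : Subgroup G) ⊓ (Q : Subgroup G)).subgroupOf (Subgroup.normalizer (((P : Subgroup G) ⊓ (Q : Subgroup G) : Subgroup G) : Set G))) ∧ ∀ S : Sylow p ↥(Subgroup.normalizer (((P : Subgroup G) ⊓ (Q : Subgroup G) : Subgroup G) : Set G)), ∃! T : Sylow p G, (S : Subgroup _).map (Subgroup.normalizer (((P : Subgroup G) ⊓ (Q : Subgroup G) : Subgroup G) : Set G)).subtype ≤ (T : Subgroup G) := by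
  classical
  have hp : p.Prime := Fact.out
  set D := (P : Subgroup G) ⊓ (Q : Subgroup G) with hD
  set N := Subgroup.normalizer (D : Set G) with hN
  have hDN : D ≤ N := Subgroup.le_normalizer
  have hDp : IsPGroup p D := P.isPGroup'.to_le inf_le_left
  have hnormal : (D.subgroupOf N).Normal := Subgroup.normal_in_normalizer
  have hDS : ∀ S : Sylow p N, D.subgroupOf N ≤ S := by
    intro S
    have h1 : IsPGroup p ((S : Subgroup N) ⊔ D.subgroupOf N : Subgroup N) :=
      S.isPGroup'.to_sup_of_normal_right (hDp.comap_of_injective N.subtype N.subtype_injective)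
    rw [← S.is_maximal' h1 le_sup_left]
    exact le_sup_right
  -- the normalizer in each of the two groups is bigger than `D`
  have hgrow : ∀ R : Sylow p G, D ≤ (R : Subgroup G) → D ≠ (R : Subgroup G) →
      ∃ x ∈ (R : Subgroup G), x ∈ N ∧ x ∉ D := by
    intro R hle hne
    haveI := R.isPGroup'.isNilpotent
    have hlt : D.subgroupOf R < ⊤ := lt_top_iff_ne_top.2 fun h => hne (le_antisymm hle
      (Subgroup.subgroupOf_eq_top.1 h))
    obtain ⟨x, hx, hx'⟩ := SetLike.exists_of_lt
      (Group.normalizerCondition_of_isNilpotent (G := (R : Subgroup G)) _ hlt)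
    refine ⟨x, x.2, ?_, fun h => hx' (Subgroup.mem_subgroupOf.2 h)⟩
    rw [hN, Subgroup.mem_normalizer_iff]
    intro y
    rw [Subgroup.mem_normalizer_iff] at hx
    constructor
    · intro hy
      exact (hx ⟨y, hle hy⟩).1 (Subgroup.mem_subgroupOf.2 hy)
    · intro hy
      have hyR : y ∈ (R : Subgroup G) := by
        have h := R.mul_mem (R.mul_mem (R.inv_mem x.2) (hle hy)) x.2
        simpa [mul_assoc] using h
      exact Subgroup.mem_subgroupOf.1 ((hx ⟨y, hyR⟩).2 (Subgroup.mem_subgroupOf.2 hy))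
  have hcardPQ : Nat.card (P : Subgroup G) = Nat.card (Q : Subgroup G) := by
    rw [P.card_eq_multiplicity, Q.card_eq_multiplicity]
  have hDP : D ≠ (P : Subgroup G) := fun h => hPQ (Sylow.ext (Subgroup.eq_of_le_of_card_ge
    (by rw [← h, hD]; exact inf_le_right : (P : Subgroup G) ≤ Q) hcardPQ.ge))
  have hDQ : D ≠ (Q : Subgroup G) := fun h => hPQ (Sylow.ext (Subgroup.eq_of_le_of_card_ge
    (by rw [← h, hD]; exact inf_le_left : (Q : Subgroup G) ≤ P) hcardPQ.le).symm)
  obtain ⟨x, hxP, hxN, hxD⟩ := hgrow P inf_le_left hDP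
  obtain ⟨y, hyQ, hyN, hyD⟩ := hgrow Q inf_le_right hDQ
  obtain ⟨SP, hSP⟩ := (P.isPGroup'.comap_of_injective N.subtype N.subtype_injective).exists_le_sylow
  obtain ⟨SQ, hSQ⟩ := (Q.isPGroup'.comap_of_injective N.subtype N.subtype_injective).exists_le_sylow
  -- Sylow subgroups of `N` are bigger than `D`
  have hbig : ∀ S : Sylow p N, Nat.card D < Nat.card (S : Subgroup N) := by
    intro S
    rw [S.card_eq_multiplicity, ← SP.card_eq_multiplicity,
      ← Nat.card_congr (Subgroup.subgroupOfEquivOfLe hDN).toEquiv]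
    have hlt : D.subgroupOf N < (SP : Subgroup N) :=
      lt_of_le_not_ge (hDS SP) fun h => hxD (Subgroup.mem_subgroupOf.1 (h (hSP (show (⟨x, hxN⟩ : N) ∈
        (P : Subgroup G).comap N.subtype from hxP))))
    exact Set.Finite.card_lt_card (Set.toFinite _) hlt
  have hle : ∀ R R' : Sylow p G, ∀ U : Subgroup G, U ≤ R → U ≤ R' → Nat.card D < Nat.card U → R = R' := by
    intro R R' U h1 h2 h3
    by_contra hne
    exact absurd ((Subgroup.card_le_of_le (le_inf h1 h2)).trans (hmax R R' hne)) (not_le.2 h3)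
  have huniq : ∀ S : Sylow p N, ∃! T : Sylow p G, (S : Subgroup N).map N.subtype ≤ (T : Subgroup G) := by
    intro S
    obtain ⟨T, hT⟩ := (S.isPGroup'.map N.subtype).exists_le_sylow
    refine ⟨T, hT, fun T' hT' => (hle T T' _ hT hT' ?_).symm⟩
    rw [Subgroup.card_map_of_injective N.subtype_injective]
    exact hbig S
  refine ⟨?_, ?_, huniq⟩
  · rw [Finite.one_lt_card_iff_nontrivial]
    refine ⟨SP, SQ, fun h => hPQ ?_⟩
    obtain ⟨T, hT, hT'⟩ := huniq SP
    have hP' : P = T := hle P T ((P : Subgroup G) ⊓ N) inf_le_left (fun z hz => hT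
      (Subgroup.mem_map.2 ⟨⟨z, hz.2⟩, hSP hz.1, rfl⟩)) (Set.Finite.card_lt_card (Set.toFinite _)
      (lt_of_le_not_ge (le_inf inf_le_left hDN) fun h' => hxD (h' ⟨hxP, hxN⟩) : D < (P : Subgroup G) ⊓ N))
    have hQ' : Q = T := hle Q T ((Q : Subgroup G) ⊓ N) inf_le_left (fun z hz => hT
      (Subgroup.mem_map.2 ⟨⟨z, hz.2⟩, h ▸ hSQ hz.1, rfl⟩)) (Set.Finite.card_lt_card (Set.toFinite _)
      (lt_of_le_not_ge (le_inf inf_le_right hDN) fun h' => hyD (h' ⟨hyQ, hyN⟩) : D < (Q : Subgroup G) ⊓ N))
    exact hP'.trans hQ'.symm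
  · intro S T hST
    obtain ⟨R, hR, -⟩ := huniq S
    obtain ⟨R', hR', -⟩ := huniq T
    have hne : R ≠ R' := by
      rintro rfl
      apply hST
      have hp' : IsPGroup p ((R : Subgroup G).comap N.subtype) :=
        R.isPGroup'.comap_of_injective N.subtype N.subtype_injective
      have e1 := S.is_maximal' hp' (Subgroup.map_le_iff_le_comap.1 hR)
      have e2 := T.is_maximal' hp' (Subgroup.map_le_iff_le_comap.1 hR')
      exact Sylow.ext (e1.symm.trans e2)
    refine (Subgroup.eq_of_le_of_card_ge (le_inf (hDS S) (hDS T)) ?_).symm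
    rw [Nat.card_congr (Subgroup.subgroupOfEquivOfLe hDN).toEquiv,
      ← Subgroup.card_map_of_injective N.subtype_injective]
    refine (Subgroup.card_le_of_le ?_).trans (hmax R R' hne)
    exact le_inf ((Subgroup.map_mono inf_le_left).trans hR) ((Subgroup.map_mono inf_le_right).trans hR')

end Cfsg.Agent.S0986
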