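import Cfsg.Statements.S0987
import Mathlib

set_option autoImplicit false
open Cfsg

namespace Cfsg.Agent.S0987

/-- If a finite group has order pqr for primes p < q < r, then its Sylow r-subgroups are normal. -/
theorem result {G : Type*} [Group G] [Finite G] (p q r : ℕ) (hp : p.Prime) (hq : q.Prime) [Fact r.Prime] (hpq : p < q) (hqr : q < r) (hG : Nat.card G = p * q * r) (R : Sylow r G) : (R : Subgroup G).Normal := by
  have hr : r.Prime := Fact.out
  have := Fact.mk hp
  obtain ⟨Pp⟩ : Nonempty (Sylow p G) := inferInstance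
  have hdvd1 : ∀ {a b : ℕ}, a.Prime → b.Prime → a ≠ b → ¬ a ∣ b :=
    fun ha hb hab h => hab ((Nat.prime_dvd_prime_iff_eq ha hb).1 h)
  have hfp : (Nat.card G).factorization p = 1 := by
    rw [hG, mul_assoc, Nat.factorization_mul hp.ne_zero (mul_ne_zero hq.ne_zero hr.ne_zero),
      Nat.factorization_mul hq.ne_zero hr.ne_zero]
    simp [hp.factorization, hq.factorization, hr.factorization, hpq.ne, hpq.ne', (hpq.trans hqr).ne,
      (hpq.trans hqr).ne']
  have hmin : (Nat.card G).minFac = p := by
    rw [hG]
    refine le_antisymm (Nat.minFac_le_of_dvd hp.two_le (Dvd.intro (q * r) (by ring))) ?_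
    have h1 : p * q * r ≠ 1 := by
      intro h
      have := Nat.eq_one_of_mul_eq_one_left h
      exact hr.ne_one this
    have hm := Nat.minFac_prime h1
    rcases (Nat.Prime.dvd_mul hm).1 (Nat.minFac_dvd _) with h | h
    · rcases (Nat.Prime.dvd_mul hm).1 h with h | h
      · rw [(Nat.prime_dvd_prime_iff_eq hm hp).1 h]
      · rw [(Nat.prime_dvd_prime_iff_eq hm hq).1 h]; omega
    · rw [(Nat.prime_dvd_prime_iff_eq hm hr).1 h]; omega
  have hcardP : Nat.card (Pp : Subgroup G) = p := by rw [Pp.card_eq_multiplicity, hfp, pow_one]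
  have hcyc : IsCyclic (Pp : Subgroup G) := isCyclic_of_prime_card hcardP
  have hle : Subgroup.normalizer ((Pp : Subgroup G) : Set G) ≤ Subgroup.centralizer ((Pp : Subgroup G) : Set G) := by
    exact IsCyclic.normalizer_le_centralizer hmin hcyc
  set N := (MonoidHom.transferSylow Pp hle).ker
  have hN : N.IsComplement' (Pp : Subgroup G) := MonoidHom.ker_transferSylow_isComplement' Pp hle
  have hNcard : Nat.card N = q * r := by
    have := hN.card_mul
    rw [hcardP, hG] at this
    refine Nat.eq_of_mul_eq_mul_right hp.pos ?_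
    rw [this]; ring
  have hidx : N.index = p := by
    have := N.card_mul_index
    rw [hNcard, hG] at this
    refine Nat.eq_of_mul_eq_mul_left (Nat.mul_pos hq.pos hr.pos) ?_
    rw [this]; ring
  have hcardR : Nat.card (R : Subgroup G) = r := by
    rw [R.card_eq_multiplicity, hG, mul_assoc,
      Nat.factorization_mul hp.ne_zero (mul_ne_zero hq.ne_zero hr.ne_zero),
      Nat.factorization_mul hq.ne_zero hr.ne_zero]
    simp [hp.factorization, hq.factorization, hr.factorization, hqr.ne, hqr.ne', (hpq.trans hqr).ne,
      (hpq.trans hqr).ne']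
  have hRN : (R : Subgroup G) ≤ N := by
    intro x hx
    have h1 : N.relIndex (R : Subgroup G) ∣ N.index := Subgroup.relIndex_dvd_index_of_normal _ _
    have h2 : N.relIndex (R : Subgroup G) ∣ r := by
      have := Subgroup.index_dvd_card (N.subgroupOf (R : Subgroup G))
      rwa [hcardR] at this
    rw [hidx] at h1
    rcases (Nat.dvd_prime hr).1 h2 with h | h
    · exact Subgroup.relIndex_eq_one.1 h hx
    · rw [h] at h1; exact absurd h1 (hdvd1 hr hp (by omega))
  let R' : Sylow r N := R.subtype hRN
  have hR' : (R' : Subgroup N).Normal := by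
    have hR'c : Nat.card (R' : Subgroup N) = r := by
      change Nat.card ((R : Subgroup G).subgroupOf N) = r
      rw [Nat.card_congr (Subgroup.subgroupOfEquivOfLe hRN).toEquiv, hcardR]
    have hidx' : (R' : Subgroup N).index = q := by
      have := (R' : Subgroup N).card_mul_index
      rw [hR'c, hNcard, mul_comm q r] at this
      exact Nat.eq_of_mul_eq_mul_left hr.pos this
    have h1 := R'.card_dvd_index
    rw [hidx'] at h1
    have h2 : Nat.card (Sylow r N) ≡ 1 [MOD r] := card_sylow_modEq_one r N
    have : Nat.card (Sylow r N) = 1 := by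
      rcases (Nat.dvd_prime hq).1 h1 with h | h
      · exact h
      · rw [h] at h2
        have := (Nat.ModEq.eq_of_lt_of_lt h2 hqr hr.one_lt)
        exact absurd this hq.ne_one
    have := (Nat.card_eq_one_iff_unique.1 this).1
    exact Sylow.normal_of_subsingleton R'
  have hsub : Subgroup.normalizer ((R : Subgroup G) : Set G) ≥ N :=
    (Subgroup.normal_subgroupOf_iff_le_normalizer hRN).1 hR'
  have h3 : Nat.card (Sylow r G) ∣ p := by
    rw [Sylow.card_eq_index_normalizer R, ← hidx]
    exact Subgroup.index_dvd_of_le hsub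
  have h4 : Nat.card (Sylow r G) ≡ 1 [MOD r] := card_sylow_modEq_one r G
  have : Nat.card (Sylow r G) = 1 := by
    rcases (Nat.dvd_prime hp).1 h3 with h | h
    · exact h
    · rw [h] at h4
      exact absurd (Nat.ModEq.eq_of_lt_of_lt h4 (hpq.trans hqr) hr.one_lt) hp.ne_one
  have := (Nat.card_eq_one_iff_unique.1 this).1
  exact Sylow.normal_of_subsingleton R

end Cfsg.Agent.S0987
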