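import Cfsg.Statements.S0988
import Mathlib
import Cfsg.Agent.Lib.Block.SmallIndex
import Cfsg.Agent.S0144
-- import your own Cfsg.Agent.* helpers here

set_option autoImplicit false
open Cfsg

namespace Cfsg.Agent.S0988

/-- If a finite simple group has order p^2 * q * r with p, q and r prime, then its order is 60. -/
theorem result {G : Type*} [Group G] [Finite G] [IsSimpleGroup G] (p q r : ℕ) (hp : p.Prime) (hq : q.Prime) (hr : r.Prime) (hG : Nat.card G = p ^ 2 * q * r) : Nat.card G = 60 := by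
  classical
  have hnp : ¬ (Nat.card G).Prime := by
    rw [hG]
    intro h
    have h1 : p ∣ p ^ 2 * q * r := dvd_mul_of_dvd_left (dvd_mul_of_dvd_left (dvd_pow_self p two_ne_zero) q) r
    have h2 := (Nat.prime_dvd_prime_iff_eq hp h).1 h1
    nlinarith [hp.two_le, hq.two_le, hr.two_le, Nat.mul_le_mul hq.two_le hr.two_le]
  have hna := Cfsg.Agent.Block.small_not_comm hnp
  have hnsol : ¬ Group.IsSolvable G := fun h =>
    hna ⟨⟨fun a b => IsSimpleGroup.comm_iff_isSolvable.mpr h a b⟩⟩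
  -- three distinct primes
  have hpq : p ≠ q := by
    rintro rfl
    exact hnsol (Cfsg.Agent.S0144.result p r 3 1 hp hr (by rw [hG]; ring))
  have hpr : p ≠ r := by
    rintro rfl
    exact hnsol (Cfsg.Agent.S0144.result p q 3 1 hp hq (by rw [hG]; ring))
  have hqr : q ≠ r := by
    rintro rfl
    exact hnsol (Cfsg.Agent.S0144.result p q 2 2 hp hq (by rw [hG]; ring))
  have hprimes : ∀ s : ℕ, s.Prime → s ∣ Nat.card G → s = p ∨ s = q ∨ s = r := by
    intro s hs h
    rw [hG] at h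
    rcases hs.dvd_mul.1 h with h | h
    · rcases hs.dvd_mul.1 h with h | h
      · exact Or.inl ((Nat.prime_dvd_prime_iff_eq hs hp).1 (hs.dvd_of_dvd_pow h))
      · exact Or.inr (Or.inl ((Nat.prime_dvd_prime_iff_eq hs hq).1 h))
    · exact Or.inr (Or.inr ((Nat.prime_dvd_prime_iff_eq hs hr).1 h))
  -- the Frobenius criterion at a prime
  have hfrob : ∀ (s a : ℕ), s.Prime → 0 < a → s ^ a ∣ Nat.card G → ¬ s ^ (a + 1) ∣ Nat.card G →
      a ≤ 2 → ∃ t, t.Prime ∧ t ≠ s ∧ t ∣ Nat.card G ∧ (t ∣ s - 1 ∨ (a = 2 ∧ t ∣ s + 1)) := by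
    intro s a hs ha h1 h2 ha2
    haveI := Fact.mk hs
    obtain ⟨S⟩ : Nonempty (Sylow s G) := inferInstance
    have hfac : (Nat.card G).factorization s = a := by
      have h3 := (hs.pow_dvd_iff_le_factorization Nat.card_pos.ne').1 h1
      have h4 : ¬ a + 1 ≤ (Nat.card G).factorization s :=
        fun h => h2 ((hs.pow_dvd_iff_le_factorization Nat.card_pos.ne').2 h)
      omega
    obtain ⟨t, i, j, ht, hts, htG, hij, hja, htd⟩ := Cfsg.Agent.Fus.exists_prime_of_no_complement S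
      (by rw [S.card_eq_multiplicity, hfac] : Nat.card (S : Subgroup G) = s ^ a)
      (Cfsg.Agent.Fus.simple_no_complement hna ((dvd_pow_self s (by omega)).trans h1))
    refine ⟨t, ht, hts, htG, ?_⟩
    rcases (show (i = 0 ∧ j = 1) ∨ (i = 0 ∧ j = 2) ∨ (i = 1 ∧ j = 2) by omega) with
      ⟨rfl, rfl⟩ | ⟨rfl, rfl⟩ | ⟨rfl, rfl⟩
    · exact Or.inl (by simpa using htd)
    · have h5 : s ^ 2 - s ^ 0 = (s + 1) * (s - 1) := by rw [← Nat.sq_sub_sq, pow_zero, one_pow]
      rw [h5] at htd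
      rcases ht.dvd_mul.1 htd with h | h
      · exact Or.inr ⟨by omega, h⟩
      · exact Or.inl h
    · have h5 : s ^ 2 - s ^ 1 = s * (s - 1) := by rw [sq, pow_one, Nat.mul_sub_one]
      rw [h5] at htd
      rcases ht.dvd_mul.1 htd with h | h
      · exact absurd ((Nat.prime_dvd_prime_iff_eq ht hs).1 h) hts
      · exact Or.inl h
  have hex : ∀ s a m : ℕ, s.Prime → ¬ s ∣ m → Nat.card G = s ^ a * m →
      s ^ a ∣ Nat.card G ∧ ¬ s ^ (a + 1) ∣ Nat.card G := by
    intro s a m hs hm h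
    refine ⟨h ▸ dvd_mul_right _ _, fun h' => hm ?_⟩
    rw [h, pow_succ] at h'
    exact Nat.dvd_of_mul_dvd_mul_left (pow_pos hs.pos a) h'
  have hne : ∀ {s t : ℕ}, s.Prime → t.Prime → s ≠ t → ¬ s ∣ t := fun hs ht hst h =>
    hst ((Nat.prime_dvd_prime_iff_eq hs ht).1 h)
  obtain ⟨hp2, hp3⟩ := hex p 2 (q * r) hp
    (fun h => (hp.dvd_mul.1 h).elim (hne hp hq hpq) (hne hp hr hpr)) (by rw [hG, mul_assoc])
  obtain ⟨hq1, hq2⟩ := hex q 1 (p ^ 2 * r) hq
    (fun h => (hq.dvd_mul.1 h).elim (fun h => hne hq hp hpq.symm (hq.dvd_of_dvd_pow h)) (hne hq hr hqr))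
    (by rw [hG, pow_one]; ring)
  obtain ⟨hr1, hr2⟩ := hex r 1 (p ^ 2 * q) hr
    (fun h => (hr.dvd_mul.1 h).elim (fun h => hne hr hp hpr.symm (hr.dvd_of_dvd_pow h)) (hne hr hq hqr.symm))
    (by rw [hG, pow_one]; ring)
  -- the exponent one primes are not the smallest
  obtain ⟨t₁, ht₁, -, htG₁, htd₁⟩ := hfrob q 1 hq one_pos hq1 hq2 (by omega)
  obtain ⟨t₂, ht₂, -, htG₂, htd₂⟩ := hfrob r 1 hr one_pos hr1 hr2 (by omega)
  obtain ⟨t₃, ht₃, ht₃p, htG₃, htd₃⟩ := hfrob p 2 hp two_pos hp2 hp3 le_rfl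
  have hd₁ : t₁ ∣ q - 1 := htd₁.resolve_right (by omega)
  have hd₂ : t₂ ∣ r - 1 := htd₂.resolve_right (by omega)
  have l1 := Nat.le_of_dvd (by have := hq.two_le; omega) hd₁
  have l2 := Nat.le_of_dvd (by have := hr.two_le; omega) hd₂
  have c1 := hprimes t₁ ht₁ htG₁
  have c2 := hprimes t₂ ht₂ htG₂
  have c3 := hprimes t₃ ht₃ htG₃
  have := hp.two_le
  have := hq.two_le
  have := hr.two_le
  have hpsmall : p < q ∧ p < r := by omega
  -- so the smallest prime is two and three divides the order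
  have l3 : p = 2 ∧ t₃ = 3 := by
    rcases htd₃ with h | ⟨-, h⟩
    · have := Nat.le_of_dvd (by omega) h
      omega
    · have := Nat.le_of_dvd (by omega) h
      have h3 : t₃ = p + 1 := by omega
      rcases hp.eq_two_or_odd with h4 | h4
      · exact ⟨h4, by omega⟩
      · have h5 : t₃ = 2 := (ht₃.eq_two_or_odd).resolve_right (by omega)
        omega
  obtain ⟨rfl, rfl⟩ := l3
  obtain ⟨u, hu, hu5, hG'⟩ : ∃ u, u.Prime ∧ 5 ≤ u ∧ Nat.card G = 12 * u := by
    rcases c3 with h | h | h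
    · omega
    · refine ⟨r, hr, ?_, by rw [hG, ← h]; norm_num⟩
      have hr4 : r ≠ 4 := fun h4 => by rw [h4] at hr; norm_num at hr
      omega
    · refine ⟨q, hq, ?_, by rw [hG, ← h]; ring⟩
      have hq4 : q ≠ 4 := fun h4 => by rw [h4] at hq; norm_num at hq
      omega
  haveI := Fact.mk hu
  obtain ⟨R⟩ : Nonempty (Sylow u G) := inferInstance
  obtain ⟨k, hk0, -, hkd, -, hkN, -⟩ := Cfsg.Agent.Block.small_sylow_number hna R (a := 1) (m := 12)
    (by rw [pow_one, hG', mul_comm]) one_ne_zero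
  have hk12 := Nat.le_of_dvd (by norm_num) hkd
  have huk : u ≤ u * k := Nat.le_mul_of_pos_right u hk0
  have huk' : u * k ∣ u * k := dvd_rfl
  have hcases : u = 5 ∨ (u = 11 ∧ k = 1) ∨ u = 7 := by
    have hu11 : u ≤ 11 := by omega
    interval_cases u <;> first | omega | (exact absurd hu (by norm_num))
  rcases hcases with rfl | ⟨rfl, rfl⟩ | rfl
  · omega
  · -- Burnside transfer
    exfalso
    rw [hG'] at hkN
    have hNc : Nat.card (Subgroup.normalizer ((R : Subgroup G) : Set G)) = 11 := by omega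
    obtain ⟨h11, h11'⟩ := hex 11 1 12 hu (by norm_num) (by rw [hG', pow_one, mul_comm])
    have hfac : (Nat.card G).factorization 11 = 1 := by
      have h3 := (hu.pow_dvd_iff_le_factorization Nat.card_pos.ne').1 h11
      have h4 : ¬ 1 + 1 ≤ (Nat.card G).factorization 11 :=
        fun h => h11' ((hu.pow_dvd_iff_le_factorization Nat.card_pos.ne').2 h)
      omega
    have hRc : Nat.card (R : Subgroup G) = 11 := by rw [R.card_eq_multiplicity, hfac, pow_one]
    have hNR : Subgroup.normalizer ((R : Subgroup G) : Set G) = (R : Subgroup G) :=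
      (Subgroup.eq_of_le_of_card_ge Subgroup.le_normalizer (by rw [hNc, hRc])).symm
    haveI : IsCyclic (R : Subgroup G) := isCyclic_of_prime_card hRc
    have hRle : Subgroup.normalizer ((R : Subgroup G) : Set G) ≤
        Subgroup.centralizer ((R : Subgroup G) : Set G) := by
      rw [hNR]
      intro a ha b hb
      let _ := IsCyclic.commGroup (α := (R : Subgroup G))
      exact congrArg Subtype.val (mul_comm (⟨b, hb⟩ : (R : Subgroup G)) ⟨a, ha⟩)
    exact Cfsg.Agent.Fus.simple_no_complement hna (p := 11) (by rw [hG']; norm_num)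
      ⟨R, _, inferInstance, MonoidHom.ker_transferSylow_isComplement' R hRle⟩
  · exfalso
    have hk' : k = 1 := by omega
    subst hk'
    norm_num at hkd

end Cfsg.Agent.S0988
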