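import Cfsg.Statements.S0992
import Mathlib
-- import your own Cfsg.Agent.* helpers here

set_option autoImplicit false
open Cfsg

namespace Cfsg.Agent.S0992

/-- Let G be a non-abelian finite simple group of even order not divisible by 8, and T a Sylow 2-subgroup. Then T is a Klein four-group and the centralizer of T has index 3 in the normalizer of T. -/
theorem result {G : Type*} [Group G] [Finite G] [IsSimpleGroup G] (hG : ¬ IsMulCommutative G) (h2 : Even (Nat.card G)) (h8 : ¬ 8 ∣ Nat.card G) (T : Sylow 2 G) : IsKleinFour ↥(T : Subgroup G) ∧ (Subgroup.centralizer ((T : Subgroup G) : Set G)).relIndex (Subgroup.normalizer ((T : Subgroup G) : Set G)) = 3 := by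
  classical
  haveI : Fact (Nat.Prime 2) := ⟨Nat.prime_two⟩
  set C := Subgroup.centralizer ((T : Subgroup G) : Set G)
  set N := Subgroup.normalizer ((T : Subgroup G) : Set G)
  have hT2 : 2 ∣ Nat.card (T : Subgroup G) := T.dvd_card_of_dvd_card (even_iff_two_dvd.1 h2)
  have hnot : ¬ N ≤ C := by
    intro hle
    have hfact := MonoidHom.ker_transferSylow_isComplement' T hle
    rcases (MonoidHom.normal_ker (MonoidHom.transferSylow T hle)).eq_bot_or_eq_top with h | h
    · rw [h] at hfact
      have hTtop : (T : Subgroup G) = ⊤ := Subgroup.isComplement'_bot_left.1 hfact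
      refine hG ⟨⟨fun a b => ?_⟩⟩
      have ha : a ∈ C := hle (Subgroup.le_normalizer (hTtop ▸ Subgroup.mem_top a))
      exact (Subgroup.mem_centralizer_iff.1 ha b (by rw [hTtop]; trivial)).symm
    · rw [h] at hfact
      have := Subgroup.isComplement'_top_left.1 hfact
      rw [this, Subgroup.card_bot] at hT2
      omega
  have hncyc : ¬ IsCyclic (T : Subgroup G) := fun hcyc =>
    hnot (IsCyclic.normalizer_le_centralizer ((Nat.minFac_eq_two_iff _).2 (even_iff_two_dvd.1 h2)) hcyc)
  obtain ⟨k, hk⟩ := T.isPGroup'.exists_card_eq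
  have hk2 : k ≤ 2 := by
    by_contra h
    exact h8 ((Nat.pow_dvd_pow 2 (by omega : 3 ≤ k)).trans (hk ▸ Subgroup.card_subgroup_dvd_card _))
  have hk4 : Nat.card (T : Subgroup G) = 4 := by
    rcases Nat.lt_or_ge k 2 with h | h
    · exfalso
      rcases Nat.lt_or_ge k 1 with h' | h'
      · rw [hk, show k = 0 by omega] at hT2; omega
      · exact hncyc (isCyclic_of_prime_card (p := 2) (by rw [hk, show k = 1 by omega]; rfl))
    · rw [hk, show k = 2 by omega]; rfl
  haveI : Nontrivial (T : Subgroup G) := Finite.one_lt_card_iff_nontrivial.1 (by omega)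
  have hsq : ∀ x : (T : Subgroup G), x ^ 2 = 1 := by
    intro x
    have h1 : orderOf x ∣ 4 := hk4 ▸ orderOf_dvd_natCard x
    have h2' : orderOf x ≠ 4 := fun h => hncyc (isCyclic_of_orderOf_eq_card x (h.trans hk4.symm))
    rw [← orderOf_dvd_iff_pow_eq_one]
    have := Nat.le_of_dvd (by norm_num) h1
    interval_cases hx : orderOf x <;> omega
  have hexp : Monoid.exponent (T : Subgroup G) = 2 := Monoid.exponent_eq_prime_iff Nat.prime_two |>.2
    (fun x hx => orderOf_eq_prime (hsq x) hx)
  haveI hK : IsKleinFour (T : Subgroup G) := ⟨hk4, hexp⟩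
  refine ⟨hK, ?_⟩
  have hTC : (T : Subgroup G) ≤ C := fun x hx => Subgroup.mem_centralizer_iff.2 fun y hy => by
    have h1 : ∀ z : (T : Subgroup G), z⁻¹ = z := fun z => IsKleinFour.inv_eq_self z
    have : (⟨x, hx⟩ * ⟨y, hy⟩ : (T : Subgroup G)) = ⟨y, hy⟩ * ⟨x, hx⟩ := by
      conv_lhs => rw [← h1 (⟨x, hx⟩ * ⟨y, hy⟩), mul_inv_rev, h1, h1]
    exact (congrArg Subtype.val this).symm
  have hodd : ¬ 2 ∣ C.relIndex N := fun h => by
    have h1 : C.relIndex N ∣ (T : Subgroup G).index :=
      (Subgroup.relIndex_dvd_of_le_left N hTC).trans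
        (Subgroup.relIndex_dvd_index_of_le Subgroup.le_normalizer)
    exact T.not_dvd_index (h.trans h1)
  have hne : C.relIndex N ≠ 1 := fun h => hnot (Subgroup.relIndex_eq_one.1 h)
  have hdvd : C.relIndex N ∣ Nat.card (MulAut (T : Subgroup G)) := by
    have key := Subgroup.card_dvd_of_injective _ (QuotientGroup.kerLift_injective (T : Subgroup G).normalizerMonoidHom)
    rw [Subgroup.normalizerMonoidHom_ker, ← Subgroup.index, ← Subgroup.relIndex] at key
    exact key
  have hle6 : Nat.card (MulAut (T : Subgroup G)) ∣ 6 := by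
    haveI := Fintype.ofFinite (T : Subgroup G)
    let ψ : MulAut (T : Subgroup G) →* Equiv.Perm {x : (T : Subgroup G) // x ≠ 1} :=
      MonoidHom.mk' (fun e => e.toEquiv.subtypeEquiv (fun x => (map_ne_one_iff e e.injective).symm))
        (fun e f => Equiv.ext fun x => rfl)
    have hψ : Function.Injective ψ := by
      intro e f h
      apply MulEquiv.ext
      intro x
      by_cases hx : x = 1
      · rw [hx, map_one, map_one]
      · exact congrArg Subtype.val (Equiv.Perm.congr_fun h ⟨x, hx⟩)
    have := Subgroup.card_dvd_of_injective ψ hψ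
    rwa [Nat.card_perm, Nat.card_eq_fintype_card (α := {x : (T : Subgroup G) // x ≠ 1}),
      Fintype.card_subtype_compl, Fintype.card_subtype_eq, ← Nat.card_eq_fintype_card, hk4] at this
  have h6 := hdvd.trans hle6
  have := Nat.le_of_dvd (by norm_num) h6
  interval_cases hd : C.relIndex N <;> omega

end Cfsg.Agent.S0992
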