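import Cfsg.Statements.S0993
import Cfsg.Agent.Lib.Invol.AbelTwo.Consumers
import Cfsg.Agent.Lib.Invol.JankoWard.Ward

set_option autoImplicit false
open Cfsg

namespace Cfsg.Agent.S0993

/-- A non-abelian finite simple group with Sylow 2-subgroups of order 8 is isomorphic to the projective special linear group of dimension 2 over the field with 8 elements or over a field with q ≡ 7 or 9 modulo 16 elements, or to the alternating group of degree 7, or is simple of order 175560, or simple with the order of a Ree group in characteristic 3. -/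
theorem result {G : Type*} [Group G] [Finite G] [IsSimpleGroup G] (hG : ¬ IsMulCommutative G) (T : Sylow 2 G) (hT : Nat.card ↥(T : Subgroup G) = 8) : (∃ (F : Type) (_ : Field F) (_ : Fintype F), Fintype.card F = 8 ∧ Nonempty (G ≃* Matrix.ProjectiveSpecialLinearGroup (Fin 2) F)) ∨ (∃ (F : Type) (_ : Field F) (_ : Fintype F), (Fintype.card F % 16 = 7 ∨ Fintype.card F % 16 = 9) ∧ Nonempty (G ≃* Matrix.ProjectiveSpecialLinearGroup (Fin 2) F)) ∨ Nonempty (G ≃* alternatingGroup (Fin 7)) ∨ Cfsg.IsJ1 G ∨ Cfsg.IsRee G := by
  exact Cfsg.Agent.Invol.AbelTwo.simple_eight Cfsg.Agent.Invol.JankoWard.ward hG T hT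

end Cfsg.Agent.S0993
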