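import Cfsg.Statements.S0995
-- import your own Cfsg.Agent.* helpers here

set_option autoImplicit false
open Cfsg

namespace Cfsg.Agent.S0995

/-- Let G be a finite perfect group containing an element z of prime order p whose centralizer is the cyclic group it generates. Let t be the number of conjugacy classes of elements of order p. Then t divides p - 1, the number of Sylow p-subgroups has the form 1 + n * p, and |G| * t = (p - 1) * p * (1 + n * p). -/
theorem result {G : Type*} [Group G] [Finite G] (hperf : commutator G = ⊤) (p : ℕ) [Fact p.Prime] (z : G) (hz : orderOf z = p) (hC : Subgroup.centralizer ({z} : Set G) = Subgroup.zpowers z) : ∃ n t : ℕ, t = Nat.card {c : ConjClasses G // ∃ g : G, ConjClasses.mk g = c ∧ orderOf g = p} ∧ t ∣ p - 1 ∧ Nat.card (Sylow p G) = 1 + n * p ∧ Nat.card G * t = (p - 1) * p * (1 + n * p) := by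
  classical
  haveI := Fintype.ofFinite G
  have hp : p.Prime := Fact.out
  have hcz : Nat.card (Subgroup.zpowers z) = p := by rw [Nat.card_zpowers, hz]
  obtain ⟨P, hP⟩ := (IsPGroup.of_card (p := p) (n := 1) (by rw [hcz, pow_one]) :
    IsPGroup p (Subgroup.zpowers z)).exists_le_sylow
  have hPeq : (P : Subgroup G) = Subgroup.zpowers z := by
    refine le_antisymm ?_ hP
    haveI : Nontrivial (P : Subgroup G) := ⟨⟨⟨z, hP (Subgroup.mem_zpowers z)⟩, 1, by
      intro h
      have : z = 1 := congrArg Subtype.val h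
      rw [this, orderOf_one] at hz
      exact hp.one_lt.ne hz⟩⟩
    haveI := P.isPGroup'.center_nontrivial
    obtain ⟨⟨c, hc⟩, hc1⟩ := exists_ne (1 : Subgroup.center (P : Subgroup G))
    have hcC : (c : G) ∈ Subgroup.zpowers z := by
      rw [← hC, Subgroup.mem_centralizer_singleton_iff]
      exact congrArg Subtype.val (Subgroup.mem_center_iff.1 hc ⟨z, hP (Subgroup.mem_zpowers z)⟩).symm
    have hcne : (c : G) ≠ 1 := fun h => hc1 (Subtype.ext (Subtype.ext h))
    intro g hg
    rw [← hC, Subgroup.mem_centralizer_singleton_iff]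
    obtain ⟨m, hm⟩ := Subgroup.mem_zpowers_iff.1
      (mem_zpowers_of_prime_card hcz (g := ⟨(c : G), hcC⟩)
        (g' := ⟨z, Subgroup.mem_zpowers z⟩) (fun h => hcne (congrArg Subtype.val h)))
    have hm' : (c : G) ^ m = z := by simpa using congrArg Subtype.val hm
    have hgc : Commute g (c : G) :=
      congrArg Subtype.val (Subgroup.mem_center_iff.1 hc ⟨g, hg⟩)
    rw [← hm']
    exact (hgc.zpow_right m).eq
  have hcl : ∀ g : G, orderOf g = p → Nat.card {x : G // IsConj g x} * p = Nat.card G := by
    intro g hg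
    obtain ⟨Q, hQ⟩ := (IsPGroup.of_card (p := p) (n := 1) (by rw [Nat.card_zpowers, hg, pow_one]) :
      IsPGroup p (Subgroup.zpowers g)).exists_le_sylow
    obtain ⟨a, ha⟩ := MulAction.exists_smul_eq G P Q
    have hQeq : (Q : Subgroup G) = (Subgroup.zpowers z).map (MulAut.conj a).toMonoidHom := by
      rw [← ha, ← hPeq]; rfl
    have hQc : Nat.card (Q : Subgroup G) = p := by
      rw [hQeq, Subgroup.card_map_of_injective (MulAut.conj a).injective, hcz]
    obtain ⟨w, hw, hwg⟩ := Subgroup.mem_map.1 (hQeq ▸ hQ (Subgroup.mem_zpowers g))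
    have hwC : Subgroup.centralizer ({w} : Set G) = Subgroup.zpowers z := by
      have hw1 : w ≠ 1 := by
        rintro rfl
        rw [map_one] at hwg
        rw [← hwg, orderOf_one] at hg
        exact hp.one_lt.ne hg
      rw [← hC]
      apply le_antisymm
      · intro x hx
        rw [Subgroup.mem_centralizer_singleton_iff] at hx ⊢
        obtain ⟨m, hm⟩ := Subgroup.mem_zpowers_iff.1
          (mem_zpowers_of_prime_card hcz (g := ⟨w, hw⟩)
            (g' := ⟨z, Subgroup.mem_zpowers z⟩) (fun h => hw1 (congrArg Subtype.val h)))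
        have hm' : w ^ m = z := by simpa using congrArg Subtype.val hm
        rw [← hm']
        exact ((show Commute x w from hx).zpow_right m).eq
      · intro x hx
        rw [Subgroup.mem_centralizer_singleton_iff] at hx ⊢
        obtain ⟨m, hm⟩ := Subgroup.mem_zpowers_iff.1 hw
        rw [← hm]
        exact ((show Commute x z from hx).zpow_right m).eq
    have hconj : IsConj w g := isConj_iff.2 ⟨a, hwg⟩
    have h1 : Nat.card {x : G // IsConj g x} = (Subgroup.centralizer ({w} : Set G)).index := by
      rw [show (Subgroup.centralizer ({w} : Set G)).index = (MulAction.stabilizer (ConjAct G) w).index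
        by rw [ConjAct.stabilizer_eq_centralizer]; rfl, MulAction.index_stabilizer, ← Nat.card_coe_set_eq]
      refine Nat.card_congr (Equiv.subtypeEquivRight fun x => ?_)
      rw [ConjAct.orbit_eq_carrier_conjClasses, ConjClasses.mem_carrier_iff_mk_eq,
        ConjClasses.mk_eq_mk_iff_isConj]
      exact ⟨fun h => (hconj.trans h).symm, fun h => hconj.symm.trans h.symm⟩
    rw [h1, hwC, ← hcz, mul_comm, Subgroup.card_mul_index]
  set N := Subgroup.normalizer ((P : Subgroup G) : Set G)
  have hn : Nat.card (Sylow p G) = N.index := Sylow.card_eq_index_normalizer P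
  obtain ⟨n, hn1⟩ : ∃ n, Nat.card (Sylow p G) = 1 + n * p := by
    refine ⟨(Nat.card (Sylow p G) - 1) / p, ?_⟩
    have h0 : 0 < Nat.card (Sylow p G) := Nat.card_pos
    have hd : p ∣ Nat.card (Sylow p G) - 1 :=
      (Nat.modEq_iff_dvd' h0).1 (card_sylow_modEq_one p G).symm
    rw [Nat.div_mul_cancel hd]; omega
  have hcount : Nat.card {g : G // orderOf g = p} = Nat.card (Sylow p G) * (p - 1) := by
    have hQp : ∀ Q : Sylow p G, Nat.card (Q : Subgroup G) = p := fun Q => by
      rw [Q.card_eq_multiplicity, ← P.card_eq_multiplicity, hPeq, hcz]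
    let e : (Σ Q : Sylow p G, {x : (Q : Subgroup G) // x ≠ 1}) → {g : G // orderOf g = p} :=
      fun x => ⟨(x.2.1 : G), by
        rw [Subgroup.orderOf_coe]
        refine orderOf_eq_prime ?_ x.2.2
        have h := pow_card_eq_one' (x := x.2.1)
        rwa [hQp x.1] at h⟩
    have he : Function.Bijective e := by
      constructor
      · rintro ⟨Q, ⟨⟨x, hxQ⟩, hx1⟩⟩ ⟨R, ⟨⟨y, hyR⟩, hy1⟩⟩ h
        have hxy : x = y := congrArg Subtype.val h
        subst hxy
        have hQR : Q = R := by
          apply Sylow.ext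
          have hox : orderOf x = p := (e ⟨Q, ⟨⟨x, hxQ⟩, hx1⟩⟩).2
          have e1 : Subgroup.zpowers x = (Q : Subgroup G) :=
            Subgroup.eq_of_le_of_card_ge (Subgroup.zpowers_le.2 hxQ) (by rw [hQp Q, Nat.card_zpowers, hox])
          have e2 : Subgroup.zpowers x = (R : Subgroup G) :=
            Subgroup.eq_of_le_of_card_ge (Subgroup.zpowers_le.2 hyR) (by rw [hQp R, Nat.card_zpowers, hox])
          exact e1.symm.trans e2
        subst hQR
        rfl
      · rintro ⟨g, hg⟩
        obtain ⟨Q, hQ⟩ := (IsPGroup.of_card (p := p) (n := 1) (by rw [Nat.card_zpowers, hg, pow_one]) :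
          IsPGroup p (Subgroup.zpowers g)).exists_le_sylow
        refine ⟨⟨Q, ⟨⟨g, hQ (Subgroup.mem_zpowers g)⟩, fun h => ?_⟩⟩, rfl⟩
        have h' : g = 1 := congrArg Subtype.val h
        rw [h', orderOf_one] at hg
        exact hp.one_lt.ne hg
    rw [← Nat.card_congr (Equiv.ofBijective e he), Nat.card_sigma]
    have hone : ∀ Q : Sylow p G, Nat.card {x : (Q : Subgroup G) // x ≠ 1} = p - 1 := fun Q => by
      rw [Nat.card_eq_fintype_card, Fintype.card_subtype_compl, Fintype.card_subtype_eq,
        ← Nat.card_eq_fintype_card, hQp Q]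
    rw [Finset.sum_congr rfl (fun Q _ => hone Q), Finset.sum_const, smul_eq_mul, Finset.card_univ,
      ← Nat.card_eq_fintype_card]
  set t := Nat.card {c : ConjClasses G // ∃ g : G, ConjClasses.mk g = c ∧ orderOf g = p} with ht
  have hsum : Nat.card {g : G // orderOf g = p} * p = t * Nat.card G := by
    let f : {g : G // orderOf g = p} → {c : ConjClasses G // ∃ g : G, ConjClasses.mk g = c ∧ orderOf g = p} :=
      fun g => ⟨ConjClasses.mk g.1, g.1, rfl, g.2⟩
    rw [← Nat.card_congr (Equiv.sigmaFiberEquiv f), Nat.card_sigma, Finset.sum_mul]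
    have hfib : ∀ c, Nat.card {g // f g = c} * p = Nat.card G := by
      rintro ⟨c, g, rfl, hg⟩
      rw [← hcl g hg]
      congr 1
      refine Nat.card_congr
        { toFun := fun x => ⟨x.1.1, (ConjClasses.mk_eq_mk_iff_isConj.1 (congrArg Subtype.val x.2)).symm⟩
          invFun := fun x => ⟨⟨x.1, by
            obtain ⟨c, hc⟩ := isConj_iff.1 x.2
            rw [← hc, ← hg]
            exact (MulAut.conj c).orderOf_eq g⟩, Subtype.ext (ConjClasses.mk_eq_mk_iff_isConj.2 x.2.symm)⟩
          left_inv := fun x => rfl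
          right_inv := fun x => rfl }
    rw [Finset.sum_congr rfl (fun c _ => hfib c), Finset.sum_const, smul_eq_mul, Finset.card_univ,
      ← Nat.card_eq_fintype_card, ← ht]
  refine ⟨n, t, rfl, ?_, hn1, ?_⟩
  · have h1 : Nat.card (Subgroup.zpowers z) ∣ Nat.card N :=
      Subgroup.card_dvd_of_le (hPeq ▸ Subgroup.le_normalizer)
    rw [hcz] at h1
    obtain ⟨d, hd⟩ := h1
    have h2 : Nat.card G = p * d * Nat.card (Sylow p G) := by
      rw [hn, ← hd, Subgroup.card_mul_index]
    refine ⟨d, ?_⟩
    have h3 : (Nat.card (Sylow p G) * p) * (p - 1) = (Nat.card (Sylow p G) * p) * (t * d) := by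
      calc (Nat.card (Sylow p G) * p) * (p - 1) = Nat.card {g : G // orderOf g = p} * p := by
            rw [hcount]; ring
        _ = t * Nat.card G := hsum
        _ = _ := by rw [h2]; ring
    exact Nat.eq_of_mul_eq_mul_left (Nat.mul_pos Nat.card_pos hp.pos) h3
  · rw [mul_comm, ← hsum, hcount, hn1]; ring

end Cfsg.Agent.S0995
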