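import Cfsg.Statements.S0998
import Cfsg.Agent.Lib.Block.BrauerTuan.Main
import Cfsg.Agent.Lib.Block.QuaternionSylow

set_option autoImplicit false
open Cfsg

namespace Cfsg.Agent.S0998

/-- A non-cyclic finite simple group whose order has the form p * r * q^b for distinct primes p, q, r is isomorphic to the projective special linear group of dimension 2 over the field with 5 or with 7 elements. -/
theorem result {G : Type*} [Group G] [Finite G] [IsSimpleGroup G] (hG : ¬ IsCyclic G) (p q r b : ℕ) (hp : p.Prime) (hq : q.Prime) (hr : r.Prime) (hpq : p ≠ q) (hpr : p ≠ r) (hqr : q ≠ r) (hG' : Nat.card G = p * r * q ^ b) : (∃ (F : Type) (_ : Field F) (_ : Fintype F), Fintype.card F = 5 ∧ Nonempty (G ≃* Matrix.ProjectiveSpecialLinearGroup (Fin 2) F)) ∨ (∃ (F : Type) (_ : Field F) (_ : Fintype F), Fintype.card F = 7 ∧ Nonempty (G ≃* Matrix.ProjectiveSpecialLinearGroup (Fin 2) F)) := by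
  haveI := Fintype.ofFinite G
  have key : ∀ (s t : ℕ), s.Prime → t.Prime → s ≠ q → Nat.card G = s * q ^ b * t → t < s - 1 →
      (∃ (F : Type) (_ : Field F) (_ : Fintype F), Fintype.card F = 5 ∧
        Nonempty (G ≃* Matrix.ProjectiveSpecialLinearGroup (Fin 2) F)) ∨
      (∃ (F : Type) (_ : Field F) (_ : Fintype F), Fintype.card F = 7 ∧
        Nonempty (G ≃* Matrix.ProjectiveSpecialLinearGroup (Fin 2) F)) := by
    intro s t hs ht hsq hcard hlt
    haveI : Fact s.Prime := ⟨hs⟩
    obtain ⟨h57, F, iF, iFf, hF, hiso⟩ :=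
      Cfsg.Agent.Block.BTuan.main_prime hG hq ht hsq hcard hlt
    rcases h57 with e | e
    · exact Or.inl ⟨F, iF, iFf, hF.trans e, hiso⟩
    · exact Or.inr ⟨F, iF, iFf, hF.trans e, hiso⟩
  -- the primes two and three cannot both be the cofactors
  have six : p * r ≠ 6 := by
    intro h6
    haveI : Fact (Nat.Prime 2) := ⟨Nat.prime_two⟩
    have h2q : ¬ 2 ∣ 3 * q ^ b := by
      intro h
      rcases Nat.prime_two.dvd_mul.1 h with h | h
      · norm_num at h
      · have hq2 := (Nat.prime_dvd_prime_iff_eq Nat.prime_two hq).1 (Nat.prime_two.dvd_of_dvd_pow h)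
        have h1 : 2 ∣ p * r := by rw [h6]; norm_num
        rcases Nat.prime_two.dvd_mul.1 h1 with h1 | h1
        · exact hpq ((((Nat.prime_dvd_prime_iff_eq Nat.prime_two hp).1 h1).symm).trans hq2)
        · exact hqr (hq2.symm.trans ((Nat.prime_dvd_prime_iff_eq Nat.prime_two hr).1 h1))
    have hcard : Nat.card G = 2 * (3 * q ^ b) := by rw [hG', h6]; ring
    obtain ⟨Q⟩ : Nonempty (Sylow 2 G) := inferInstance
    have hQ : Nat.card (Q : Subgroup G) = 2 := by
      rw [Q.card_eq_multiplicity, hcard, Nat.factorization_mul (by norm_num)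
        (fun h => h2q (by rw [h]; norm_num)), Finsupp.add_apply,
        Nat.factorization_eq_zero_of_not_dvd h2q, Nat.prime_two.factorization_self]
      rfl
    obtain ⟨K, hK, -, hKi⟩ := Cfsg.Agent.Block.cyclic_two_complement Q (isCyclic_of_prime_card hQ)
    rw [hQ] at hKi
    have hq2 := hq.two_le
    rcases IsSimpleGroup.eq_bot_or_eq_top_of_normal K hK with e | e
    · rw [e, Subgroup.index_bot, hcard] at hKi
      have : 0 < q ^ b := pow_pos hq.pos b
      omega
    · rw [e, Subgroup.index_top] at hKi
      omega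
  have h23 : ∀ s t : ℕ, s.Prime → t.Prime → t + 1 = s → s * t = 6 := by
    intro s t hs ht hst
    rcases ht.eq_two_or_odd with rfl | h1
    · subst hst; rfl
    · rcases hs.eq_two_or_odd with rfl | h2
      · have := ht.two_le
        omega
      · omega
  rcases Nat.lt_or_gt_of_ne hpr with h | h
  · refine key r p hr hp (fun e => hqr e.symm) (by rw [hG']; ring) ?_
    by_contra hc
    exact six (by rw [mul_comm]; exact h23 r p hr hp (by omega))
  · refine key p r hp hr hpq (by rw [hG']; ring) ?_
    by_contra hc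
    exact six (h23 p r hp hr (by omega))

end Cfsg.Agent.S0998
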