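import Cfsg.Statements.S1001
import Cfsg.Agent.S0904
import Cfsg.Agent.S0144

set_option autoImplicit false
open Cfsg

namespace Cfsg.Agent.S1001

/-- A solvable simple group has prime order. -/
theorem of_solvable {G : Type*} [Group G] [Finite G] [IsSimpleGroup G] (p : ℕ) (hp : p.Prime)
    (x : G) (hx : orderOf x = p) (hs : Group.IsSolvable G) :
    Subgroup.centralizer ({x} : Set G) = Subgroup.zpowers x := by
  letI : CommGroup G :=
    { (inferInstance : Group G) with mul_comm := IsSimpleGroup.comm_iff_isSolvable.2 hs }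
  have hz : Subgroup.zpowers x = ⊤ := by
    refine ((Subgroup.zpowers x).normal_of_comm.eq_bot_or_eq_top).resolve_left fun h => ?_
    rw [Subgroup.zpowers_eq_bot] at h
    rw [h, orderOf_one] at hx
    exact hp.ne_one hx.symm
  rw [hz, eq_top_iff]
  exact fun y _ => Subgroup.mem_centralizer_singleton_iff.2 (mul_comm y x)

/-- In a finite simple group whose order has the form p * 3^a * 2^b with p prime, the centralizer of any element of order p is the cyclic group it generates. -/
theorem result {G : Type*} [Group G] [Finite G] [IsSimpleGroup G] (p a b : ℕ) (hp : p.Prime) (hG : Nat.card G = p * 3 ^ a * 2 ^ b) (x : G) (hx : orderOf x = p) : Subgroup.centralizer ({x} : Set G) = Subgroup.zpowers x := by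
  haveI := Fact.mk hp
  rcases eq_or_ne p 2 with h2 | h2
  · exact of_solvable p hp x hx (Cfsg.Agent.S0144.result 2 3 (b + 1) a Nat.prime_two Nat.prime_three
      (by rw [hG, h2]; ring))
  rcases eq_or_ne p 3 with h3 | h3
  · exact of_solvable p hp x hx (Cfsg.Agent.S0144.result 2 3 b (a + 1) Nat.prime_two Nat.prime_three
      (by rw [hG, h3]; ring))
  have hne : ¬ p ∣ 3 ^ a * 2 ^ b := hp.not_dvd_mul
    (fun h => h3 ((Nat.prime_dvd_prime_iff_eq hp Nat.prime_three).1 (hp.dvd_of_dvd_pow h)))
    (fun h => h2 ((Nat.prime_dvd_prime_iff_eq hp Nat.prime_two).1 (hp.dvd_of_dvd_pow h)))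
  have hfac : (Nat.card G).factorization p = 1 := by
    rw [hG, mul_assoc, Nat.factorization_mul hp.ne_zero (fun h => hne (by rw [h]; exact dvd_zero p)),
      Finsupp.add_apply, Nat.factorization_eq_zero_of_not_dvd hne, hp.factorization_self, add_zero]
  set S : Sylow p G := Sylow.ofCard (Subgroup.zpowers x)
    (by rw [Nat.card_zpowers, hx, hfac, pow_one]) with hS
  have h := Cfsg.Agent.S0904.result 2 3 p b a Nat.prime_two Nat.prime_three (by decide) h2.symm
    h3.symm (by rw [hG]; ring) S
  rw [← Subgroup.centralizer_closure, ← Subgroup.zpowers_eq_closure]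
  exact h

end Cfsg.Agent.S1001
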