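import Cfsg.Statements.S1006
import Mathlib
import Cfsg.Agent.Lib.Block.Order168Dihedral
-- import your own Cfsg.Agent.* helpers here

set_option autoImplicit false
open Cfsg

namespace Cfsg.Agent.S1006

/-- In a simple group of order 168 there are 56 elements of order 3, all conjugate; 42 elements of order 4, all conjugate; and 48 elements of order 7 falling into two conjugacy classes of size 24, an element of order 7 not being conjugate to its inverse. -/
theorem result {G : Type*} [Group G] [Finite G] [IsSimpleGroup G] (h : Nat.card G = 168) : Nat.card {g : G // orderOf g = 3} = 56 ∧ (∀ s t : G, orderOf s = 3 → orderOf t = 3 → IsConj s t) ∧ Nat.card {g : G // orderOf g = 4} = 42 ∧ (∀ s t : G, orderOf s = 4 → orderOf t = 4 → IsConj s t) ∧ Nat.card {g : G // orderOf g = 7} = 48 ∧ ∀ x : G, orderOf x = 7 → Nat.card {g : G // IsConj x g} = 24 ∧ ¬ IsConj x x⁻¹ := by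
  classical
  haveI := Fact.mk (show Nat.Prime 3 by norm_num)
  haveI := Fact.mk (show Nat.Prime 7 by norm_num)
  obtain ⟨h3, h7, -, h4, -, hc4⟩ := Cfsg.Agent.Block.o168_two_classes h
  refine ⟨h3, ?_, h4, hc4, h7, fun x hx => ?_⟩
  · intro s t hs ht
    have horder : ∀ {a b : G}, IsConj a b → orderOf b = orderOf a := by
      intro a b hab
      obtain ⟨c, rfl⟩ := isConj_iff.1 hab
      exact ((SemiconjBy.conj_mk c a).orderOf_eq c).symm
    have h1 := Cfsg.Agent.Block.card_conj_mul_centralizer s
    rw [Cfsg.Agent.Block.o168_centralizer_prime h (Or.inl rfl) hs, h] at h1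
    let f : {g : G // IsConj s g} → {g : G // orderOf g = 3} := fun g =>
      ⟨g.1, (horder g.2).trans hs⟩
    have hf : Function.Bijective f := by
      rw [Nat.bijective_iff_injective_and_card]
      exact ⟨fun a b e => Subtype.ext (congrArg Subtype.val e :), by omega⟩
    obtain ⟨⟨g, hg⟩, hgt⟩ := hf.2 ⟨t, ht⟩
    have e : g = t := congrArg Subtype.val hgt
    exact e ▸ hg
  have hxC := Cfsg.Agent.Block.o168_centralizer_prime h (Or.inr rfl) hx
  refine ⟨?_, ?_⟩
  · have h1 := Cfsg.Agent.Block.card_conj_mul_centralizer x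
    rw [hxC, h] at h1
    omega
  · intro hconj
    obtain ⟨c, hc⟩ := isConj_iff.1 hconj
    obtain ⟨P, hP⟩ := (IsPGroup.of_card (n := 1) (by rw [Nat.card_zpowers, hx, pow_one]) :
      IsPGroup 7 (Subgroup.zpowers x)).exists_le_sylow
    obtain ⟨hP7, -, hN, -⟩ := Cfsg.Agent.Block.o168_seven h P
    have hPz : Subgroup.zpowers x = (P : Subgroup G) :=
      Subgroup.eq_of_le_of_card_ge hP (by rw [hP7, Nat.card_zpowers, hx])
    have hcc : ∀ y, (c * c) * y * (c * c)⁻¹ = c * (c * y * c⁻¹) * c⁻¹ := fun y => by group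
    have h2 : (c * c) * x = x * (c * c) := by
      rw [← mul_inv_eq_iff_eq_mul, hcc, hc]
      have : c * x⁻¹ * c⁻¹ = (c * x * c⁻¹)⁻¹ := by group
      rw [this, hc, inv_inv]
    have hcN : c ∈ Subgroup.normalizer ((P : Subgroup G) : Set G) := by
      rw [← hPz, Subgroup.mem_normalizer_iff]
      intro y
      constructor
      · rintro hy
        obtain ⟨i, rfl⟩ := Subgroup.mem_zpowers_iff.1 hy
        rw [← conj_zpow, hc]
        exact zpow_mem (inv_mem (Subgroup.mem_zpowers x)) i
      · rintro hy
        obtain ⟨i, hi⟩ := Subgroup.mem_zpowers_iff.1 hy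
        have : y = (c⁻¹ * x * c) ^ i := by
          have e : (c⁻¹ * x * c) ^ i = c⁻¹ * x ^ i * c := by
            have h0 : (c⁻¹ * x * c⁻¹⁻¹) ^ i = c⁻¹ * x ^ i * c⁻¹⁻¹ := conj_zpow
            simpa using h0
          rw [e, hi]; group
        have e2 : c⁻¹ * x * c = x⁻¹ := by
          have h5 : c * x⁻¹ * c⁻¹ = x := by
            rw [show c * x⁻¹ * c⁻¹ = (c * x * c⁻¹)⁻¹ by group, hc, inv_inv]
          conv_lhs => rw [← h5]
          group
        rw [this, e2]
        exact zpow_mem (inv_mem (Subgroup.mem_zpowers x)) i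
    have hc21 : c ^ 21 = 1 := by
      have := orderOf_dvd_natCard (⟨c, hcN⟩ : Subgroup.normalizer ((P : Subgroup G) : Set G))
      rw [hN, Subgroup.orderOf_mk] at this
      exact orderOf_dvd_iff_pow_eq_one.1 this
    have hcomm : Commute c x := by
      have h3 : Commute ((c * c) ^ 11) x := (show Commute (c * c) x from h2).pow_left 11
      have h4 : (c * c) ^ 11 = c := by
        rw [← pow_two, ← pow_mul, show 2 * 11 = 21 + 1 by norm_num, pow_succ, hc21, one_mul]
      rwa [h4] at h3
    rw [show c * x * c⁻¹ = x by rw [hcomm.eq, mul_inv_cancel_right]] at hc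
    have h6 : x ^ 2 = 1 := by rw [pow_two]; nth_rewrite 1 [hc]; exact inv_mul_cancel x
    have := orderOf_dvd_of_pow_eq_one h6
    rw [hx] at this
    norm_num at this

end Cfsg.Agent.S1006
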