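import Cfsg.Statements.S1007
import Mathlib
import Cfsg.Agent.Lib.Block.Order168Klein
-- import your own Cfsg.Agent.* helpers here

set_option autoImplicit false
open Cfsg

namespace Cfsg.Agent.S1007

/-- Let G be a simple group of order 168 and T a Sylow 2-subgroup. Then T contains exactly two subgroups that are Klein four-groups; they are not conjugate in G; and the normalizer of every Klein four-subgroup of G is isomorphic to the symmetric group of degree 4. -/
theorem result {G : Type*} [Group G] [Finite G] [IsSimpleGroup G] (h : Nat.card G = 168) (T : Sylow 2 G) : Nat.card {U : Subgroup G // U ≤ (T : Subgroup G) ∧ IsKleinFour ↥U} = 2 ∧ (∀ U W : Subgroup G, U ≤ (T : Subgroup G) → W ≤ (T : Subgroup G) → IsKleinFour ↥U → IsKleinFour ↥W → U ≠ W → ∀ g : G, U.map (MulAut.conj g).toMonoidHom ≠ W) ∧ ∀ U : Subgroup G, IsKleinFour ↥U → Nonempty (↥(Subgroup.normalizer (U : Set G)) ≃* Equiv.Perm (Fin 4)) := by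
  refine ⟨?_, fun U W hU hW hKU hKW hne g => Cfsg.Agent.Block.sylFour_not_conj h T hU hW hKU hKW hne g,
    fun U hK => Cfsg.Agent.Block.order24_perm h (Cfsg.Agent.Block.klein_normalizer_card h hK)⟩
  classical
  have hset : ∀ U : Subgroup G, (U ≤ (T : Subgroup G) ∧ IsKleinFour ↥U) ↔
      U ∈ ({Cfsg.Agent.Block.sylFour h T 0, Cfsg.Agent.Block.sylFour h T 1} : Set (Subgroup G)) := by
    intro U
    constructor
    · rintro ⟨hU, hK⟩
      obtain ⟨i, rfl⟩ := Cfsg.Agent.Block.klein_in_sylow h T hU hK
      fin_cases i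
      · exact Or.inl rfl
      · exact Or.inr rfl
    · rintro (rfl | rfl) <;>
        exact ⟨Cfsg.Agent.Block.sylFour_le h T _, Cfsg.Agent.Block.sylFour_klein h T _⟩
  rw [Nat.card_congr (Equiv.subtypeEquivRight hset), Nat.card_coe_set_eq,
    Set.ncard_pair (Cfsg.Agent.Block.sylFour_ne h T)]

end Cfsg.Agent.S1007
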