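import Cfsg.Statements.S1008
import Mathlib
import Cfsg.Agent.Lib.Block.Order168Klein
-- import your own Cfsg.Agent.* helpers here

set_option autoImplicit false
open Cfsg

namespace Cfsg.Agent.S1008

/-- In a simple group of order 168 every maximal subgroup is either isomorphic to the symmetric group of degree 4 or non-abelian of order 21; the maximal subgroups of order 21 form one conjugacy class and those isomorphic to the symmetric group of degree 4 form exactly two conjugacy classes. -/
theorem result {G : Type*} [Group G] [Finite G] [IsSimpleGroup G] (h : Nat.card G = 168) : (∀ M : Subgroup G, IsCoatom M → Nonempty (↥M ≃* Equiv.Perm (Fin 4)) ∨ (Nat.card ↥M = 21 ∧ ¬ IsMulCommutative ↥M)) ∧ (∀ M M' : Subgroup G, IsCoatom M → IsCoatom M' → Nat.card ↥M = 21 → Nat.card ↥M' = 21 → ∃ g : G, M' = M.map (MulAut.conj g).toMonoidHom) ∧ ∃ M₁ M₂ : Subgroup G, IsCoatom M₁ ∧ IsCoatom M₂ ∧ Nonempty (↥M₁ ≃* Equiv.Perm (Fin 4)) ∧ Nonempty (↥M₂ ≃* Equiv.Perm (Fin 4)) ∧ (∀ g : G, M₂ ≠ M₁.map (MulAut.conj g).toMonoidHom) ∧ ∀ M : Subgroup G, IsCoatom M → Nonempty (↥M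 ≃* Equiv.Perm (Fin 4)) → ∃ g : G, M = M₁.map (MulAut.conj g).toMonoidHom ∨ M = M₂.map (MulAut.conj g).toMonoidHom := by
  classical
  haveI := Fact.mk Nat.prime_two
  haveI := Fact.mk (show Nat.Prime 3 by norm_num)
  haveI := Fact.mk (show Nat.Prime 7 by norm_num)
  have hG := Cfsg.Agent.Block.o168_not_comm h
  have hcardle : ∀ L : Subgroup G, L ≠ ⊤ → Nat.card L ≤ 24 := fun L hL =>
    Cfsg.Agent.Block.o168_proper_card_le h hL
  have hNK : ∀ U : Subgroup G, IsKleinFour U → IsCoatom (Subgroup.normalizer (U : Set G)) := by
    intro U hK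
    have hc := Cfsg.Agent.Block.klein_normalizer_card h hK
    refine ⟨fun e => ?_, fun L hL => ?_⟩
    · rw [e, Subgroup.card_top, h] at hc; omega
    · by_contra hne
      have h1 := Subgroup.card_le_of_le hL.le
      have h2 : Nat.card L = 24 := le_antisymm (hcardle L hne) (hc ▸ h1)
      exact hL.ne (Subgroup.eq_of_le_of_card_ge hL.le (by rw [h2, hc]))
  -- every proper subgroup lies in one of the two kinds
  have hkey : ∀ M : Subgroup G, M ≠ ⊤ →
      (∃ U : Subgroup G, IsKleinFour U ∧ M ≤ Subgroup.normalizer (U : Set G)) ∨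
        ∃ P : Sylow 7 G, M ≤ Subgroup.normalizer ((P : Subgroup G) : Set G) := by
    intro M hM
    have hle := hcardle M hM
    have hdvd : Nat.card M ∣ 168 := h ▸ Subgroup.card_subgroup_dvd_card M
    by_cases h7 : 7 ∣ Nat.card M
    · right
      obtain ⟨S⟩ : Nonempty (Sylow 7 M) := inferInstance
      obtain ⟨P, hP⟩ := (S.isPGroup'.map M.subtype).exists_le_sylow
      refine ⟨P, ?_⟩
      have hn : Nat.card (Sylow 7 M) = 1 := by
        obtain ⟨c, hc⟩ := h7
        have h1 := card_sylow_modEq_one 7 M
        have h2 : Nat.card (Sylow 7 M) ∣ Nat.card M := by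
          rw [S.card_eq_index_normalizer]; exact Subgroup.index_dvd_card _
        have h3 : (Nat.card (Sylow 7 M)).Coprime 7 := by
          rw [Nat.coprime_comm, (Fact.out : Nat.Prime 7).coprime_iff_not_dvd]
          intro h4
          rw [Nat.ModEq] at h1
          omega
        rw [hc] at h2 hle
        have h5 := Nat.le_of_dvd (by
          rcases Nat.eq_zero_or_pos c with e | e
          · rw [e, mul_zero] at hc; exact absurd hc Nat.card_pos.ne'
          · exact e) (h3.dvd_of_dvd_mul_left h2)
        have h6 : c ≤ 3 := by omega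
        rw [Nat.ModEq] at h1
        omega
      haveI : Subsingleton (Sylow 7 M) := (Nat.card_eq_one_iff_unique.1 hn).1
      have hSn : Subgroup.normalizer ((S : Subgroup M) : Set M) = ⊤ := by
        rw [eq_top_iff]
        intro x _
        exact Sylow.smul_eq_iff_mem_normalizer.1 (Subsingleton.elim _ _)
      have hmap : (S : Subgroup M).map M.subtype = (P : Subgroup G) := by
        refine Subgroup.eq_of_le_of_card_ge hP ?_
        rw [(Cfsg.Agent.Block.o168_seven h P).1, Subgroup.card_map_of_injective M.subtype_injective]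
        exact Nat.le_of_dvd Nat.card_pos (S.dvd_card_of_dvd_card h7)
      intro x hx
      rw [← hmap]
      exact Subgroup.le_normalizer_map M.subtype
        (Subgroup.mem_map.2 ⟨⟨x, hx⟩, hSn ▸ Subgroup.mem_top _, rfl⟩)
    left
    by_cases h3 : 3 ∣ Nat.card M
    · obtain ⟨c, hc⟩ := h3
      have hc8 : c = 1 ∨ c = 2 ∨ c = 4 ∨ c = 8 := by
        have hc56 : c ∣ 56 := by
          rw [hc] at hdvd
          exact Nat.dvd_of_mul_dvd_mul_left (show 0 < 3 by norm_num) hdvd
        have : c ≤ 8 := by omega
        interval_cases c <;> omega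
      rcases hc8 with e | e | e | e
      rotate_right 2
      · exact Cfsg.Agent.Block.exists_normal_klein h (Or.inl (by omega))
      · exact Cfsg.Agent.Block.exists_normal_klein h (Or.inr (by omega))
      all_goals
        -- a normal subgroup of order three
        obtain ⟨S⟩ : Nonempty (Sylow 3 M) := inferInstance
        obtain ⟨P, hP⟩ := (S.isPGroup'.map M.subtype).exists_le_sylow
        have hn : Nat.card (Sylow 3 M) = 1 := by
          have h1 := card_sylow_modEq_one 3 M
          have h2 : Nat.card (Sylow 3 M) ∣ Nat.card M := by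
            rw [S.card_eq_index_normalizer]; exact Subgroup.index_dvd_card _
          have h4 := Nat.le_of_dvd Nat.card_pos h2
          rw [Nat.ModEq] at h1
          rw [hc, e] at h2 h4
          generalize Nat.card (Sylow 3 M) = n at *
          interval_cases n <;> omega
        haveI : Subsingleton (Sylow 3 M) := (Nat.card_eq_one_iff_unique.1 hn).1
        have hSn : Subgroup.normalizer ((S : Subgroup M) : Set M) = ⊤ := by
          rw [eq_top_iff]
          intro x _
          exact Sylow.smul_eq_iff_mem_normalizer.1 (Subsingleton.elim _ _)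
        have hmap : (S : Subgroup M).map M.subtype = (P : Subgroup G) := by
          refine Subgroup.eq_of_le_of_card_ge hP ?_
          rw [(Cfsg.Agent.Block.o168_three h P).1, Subgroup.card_map_of_injective M.subtype_injective]
          exact Nat.le_of_dvd Nat.card_pos (S.dvd_card_of_dvd_card ⟨c, hc⟩)
        have hMN : M ≤ Subgroup.normalizer ((P : Subgroup G) : Set G) := by
          intro x hx
          rw [← hmap]
          exact Subgroup.le_normalizer_map M.subtype
            (Subgroup.mem_map.2 ⟨⟨x, hx⟩, hSn ▸ Subgroup.mem_top _, rfl⟩)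
        -- the normalizer of `P` lies in the normalizer of a four-group
        obtain ⟨T⟩ : Nonempty (Sylow 2 G) := inferInstance
        have hK := Cfsg.Agent.Block.sylFour_klein h T 0
        have hN24 := Cfsg.Agent.Block.klein_normalizer_card h hK
        set N := Subgroup.normalizer ((Cfsg.Agent.Block.sylFour h T 0 : Subgroup G) : Set G) with hNdef
        obtain ⟨S0⟩ : Nonempty (Sylow 3 N) := inferInstance
        obtain ⟨P0, hP0⟩ := (S0.isPGroup'.map N.subtype).exists_le_sylow
        obtain ⟨hP03, -, hP06, -⟩ := Cfsg.Agent.Block.o168_three h P0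
        have hP0N : (P0 : Subgroup G) ≤ N := by
          rw [← Subgroup.eq_of_le_of_card_ge hP0 (by
            rw [hP03, Subgroup.card_map_of_injective N.subtype_injective]
            exact Nat.le_of_dvd Nat.card_pos (S0.dvd_card_of_dvd_card (by rw [hN24]; norm_num)))]
          exact Subgroup.map_subtype_le _
        -- inside `N` the normalizer of `P0` has order six
        have hNP : Subgroup.normalizer ((P0 : Subgroup G) : Set G) ≤ N := by
          have hsub : (Subgroup.normalizer ((P0 : Subgroup G) : Set G)).subgroupOf N =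
              Subgroup.normalizer (((P0 : Subgroup G).subgroupOf N : Subgroup N) : Set N) :=
            Subgroup.subgroupOf_normalizer_eq hP0N
          have hS0 : ((P0 : Subgroup G).subgroupOf N) = (S0 : Subgroup N) :=
            S0.is_maximal' (P0.isPGroup'.comap_of_injective N.subtype N.subtype_injective)
              (Subgroup.map_le_iff_le_comap.1 hP0)
          rw [hS0] at hsub
          have h1 : Nat.card (Subgroup.normalizer ((S0 : Subgroup N) : Set N)) *
              Nat.card (Sylow 3 N) = 24 := by
            rw [S0.card_eq_index_normalizer, ← hN24]; exact Subgroup.card_mul_index _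
          have h3 : Nat.card ((Subgroup.normalizer ((P0 : Subgroup G) : Set G)).subgroupOf N) ≤ 6 := by
            rw [← hP06]
            exact Nat.card_le_card_of_injective
              (fun x => (⟨((x : N) : G), x.2⟩ : Subgroup.normalizer ((P0 : Subgroup G) : Set G)))
              (fun a b hab => Subtype.ext (Subtype.ext (congrArg Subtype.val hab :)))
          rw [hsub] at h3
          have h4 : Nat.card (Sylow 3 N) ≤ 4 := by
            have h5 := card_sylow_modEq_one 3 N
            have h6 : Nat.card (Sylow 3 N) ∣ 8 := by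
              refine Nat.Coprime.dvd_of_dvd_mul_left (m := 3) ?_ (n := 8) (by
                rw [S0.card_eq_index_normalizer]
                exact (Subgroup.index_dvd_card _).trans (dvd_of_eq hN24))
              rw [Nat.coprime_comm, (Fact.out : Nat.Prime 3).coprime_iff_not_dvd]
              intro h7
              rw [Nat.ModEq] at h5
              omega
            have h8 := Nat.le_of_dvd (by norm_num) h6
            rw [Nat.ModEq] at h5
            generalize Nat.card (Sylow 3 N) = n at *
            interval_cases n <;> omega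
          have h9 : 6 ≤ Nat.card (Subgroup.normalizer ((S0 : Subgroup N) : Set N)) := by
            by_contra hlt
            push Not at hlt
            have := Nat.mul_le_mul (Nat.le_of_lt_succ hlt) h4
            omega
          intro x hx
          have hmap' : ((Subgroup.normalizer ((P0 : Subgroup G) : Set G)).subgroupOf N).map N.subtype =
              Subgroup.normalizer ((P0 : Subgroup G) : Set G) := by
            refine Subgroup.eq_of_le_of_card_ge (Subgroup.map_comap_le _ _) ?_
            rw [hP06, Subgroup.card_map_of_injective N.subtype_injective, hsub]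
            exact h9
          exact Subgroup.map_subtype_le _ (hmap'.ge hx)
        obtain ⟨g, hg⟩ := MulAction.exists_smul_eq G P0 P
        refine ⟨(Cfsg.Agent.Block.sylFour h T 0).map (MulAut.conj g).toMonoidHom, ?_, hMN.trans ?_⟩
        · refine Cfsg.Agent.Block.isKleinFour_of ?_ ?_
          · rw [Subgroup.card_map_of_injective (MulEquiv.injective _)]; exact hK.card_four
          · rintro ⟨_, w, hw, rfl⟩
            apply Subtype.ext
            show _ * _ = (1 : G)
            rw [← map_mul]
            have := congrArg Subtype.val (Cfsg.Agent.Block.kleinFour_sq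
              (⟨w, hw⟩ : Cfsg.Agent.Block.sylFour h T 0))
            simp only [Subgroup.coe_mul, Subgroup.coe_one] at this
            rw [this, map_one]
        · intro x hx
          have hx0 : g⁻¹ * x * g ∈ Subgroup.normalizer ((P0 : Subgroup G) : Set G) := by
            refine Sylow.smul_eq_iff_mem_normalizer.1 ?_
            rw [mul_smul, mul_smul, hg, Sylow.smul_eq_iff_mem_normalizer.2 hx, ← hg, inv_smul_smul]
          have hx1 := hNP hx0
          rw [hNdef] at hx1
          rw [Subgroup.mem_normalizer_iff] at hx1 ⊢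
          intro y
          simp only [Cfsg.Agent.Block.mem_map_conj]
          have := hx1 (g⁻¹ * y * g)
          simpa [mul_assoc] using this
    · have h8 : IsPGroup 2 M := by
        have hd8 : Nat.card M ∣ 8 := by
          refine Nat.Coprime.dvd_of_dvd_mul_left (m := 21) ?_ (n := 8) (by simpa using hdvd)
          rw [show (21 : ℕ) = 3 * 7 by norm_num]
          exact Nat.Coprime.mul_right
            ((Nat.Prime.coprime_iff_not_dvd (by norm_num)).2 h3).symm
            ((Nat.Prime.coprime_iff_not_dvd (by norm_num)).2 h7).symm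
        obtain ⟨i, -, hi⟩ := (Nat.dvd_prime_pow Nat.prime_two (m := 3)).1 (by simpa using hd8)
        exact IsPGroup.of_card hi
      obtain ⟨T, hT⟩ := h8.exists_le_sylow
      exact ⟨_, Cfsg.Agent.Block.sylFour_klein h T 0, hT.trans (Cfsg.Agent.Block.sylow_normalizes_klein h T
        (Cfsg.Agent.Block.sylFour_le h T 0) (Cfsg.Agent.Block.sylFour_klein h T 0))⟩
  have hclass : ∀ M : Subgroup G, IsCoatom M →
      (∃ U : Subgroup G, IsKleinFour U ∧ M = Subgroup.normalizer (U : Set G)) ∨
        ∃ P : Sylow 7 G, M = Subgroup.normalizer ((P : Subgroup G) : Set G) := by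
    intro M hM
    rcases hkey M hM.1 with ⟨U, hK, hle⟩ | ⟨P, hle⟩
    · refine Or.inl ⟨U, hK, ?_⟩
      rcases hle.eq_or_lt with e | e
      · exact e
      · exact absurd (hM.2 _ e) (hNK U hK).1
    · refine Or.inr ⟨P, ?_⟩
      rcases hle.eq_or_lt with e | e
      · exact e
      · refine absurd (hM.2 _ e) fun ht => ?_
        have := (Cfsg.Agent.Block.o168_seven h P).2.2.1
        rw [ht, Subgroup.card_top, h] at this
        omega
  have hnormconj : ∀ (U : Subgroup G) (g : G),
      Subgroup.normalizer ((U.map (MulAut.conj g).toMonoidHom : Subgroup G) : Set G) =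
        (Subgroup.normalizer (U : Set G)).map (MulAut.conj g).toMonoidHom := by
    intro U g
    ext x
    rw [Cfsg.Agent.Block.mem_map_conj, Subgroup.mem_normalizer_iff, Subgroup.mem_normalizer_iff]
    simp only [SetLike.mem_coe, Cfsg.Agent.Block.mem_map_conj]
    constructor
    · intro hh y
      have := hh (g * y * g⁻¹)
      simpa [mul_assoc] using this
    · intro hh y
      have := hh (g⁻¹ * y * g)
      simpa [mul_assoc] using this
  refine ⟨fun M hM => ?_, fun M M' hM hM' hc hc' => ?_, ?_⟩
  · rcases hclass M hM with ⟨U, hK, rfl⟩ | ⟨P, rfl⟩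
    · exact Or.inl (Cfsg.Agent.Block.order24_perm h (Cfsg.Agent.Block.klein_normalizer_card h hK))
    · refine Or.inr ⟨(Cfsg.Agent.Block.o168_seven h P).2.2.1, fun hcm => ?_⟩
      obtain ⟨hP7, -, hN, hC⟩ := Cfsg.Agent.Block.o168_seven h P
      have hle : Subgroup.normalizer ((P : Subgroup G) : Set G) ≤
          Subgroup.centralizer ((P : Subgroup G) : Set G) := fun a ha b hb =>
        congrArg Subtype.val (hcm.is_comm.comm (⟨b, Subgroup.le_normalizer hb⟩ :
          Subgroup.normalizer ((P : Subgroup G) : Set G)) ⟨a, ha⟩)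
      have := Subgroup.card_le_of_le hle
      rw [hN, hC, hP7] at this
      omega
  · rcases hclass M hM with ⟨U, hK, rfl⟩ | ⟨P, rfl⟩
    · rw [Cfsg.Agent.Block.klein_normalizer_card h hK] at hc; omega
    rcases hclass M' hM' with ⟨U, hK, rfl⟩ | ⟨P', rfl⟩
    · rw [Cfsg.Agent.Block.klein_normalizer_card h hK] at hc'; omega
    obtain ⟨g, rfl⟩ := MulAction.exists_smul_eq G P P'
    refine ⟨g, ?_⟩
    rw [← hnormconj]
    congr 2
  obtain ⟨T⟩ : Nonempty (Sylow 2 G) := inferInstance
  let U₀ := Cfsg.Agent.Block.sylFour h T 0
  let U₁ := Cfsg.Agent.Block.sylFour h T 1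
  have hK₀ := Cfsg.Agent.Block.sylFour_klein h T 0
  have hK₁ := Cfsg.Agent.Block.sylFour_klein h T 1
  refine ⟨_, _, hNK U₀ hK₀, hNK U₁ hK₁,
    Cfsg.Agent.Block.order24_perm h (Cfsg.Agent.Block.klein_normalizer_card h hK₀),
    Cfsg.Agent.Block.order24_perm h (Cfsg.Agent.Block.klein_normalizer_card h hK₁), fun g he => ?_, ?_⟩
  · -- conjugating gives a second normal four-group
    set U' := U₀.map (MulAut.conj g).toMonoidHom with hU'
    have hne : U' ≠ U₁ := Cfsg.Agent.Block.sylFour_not_conj h T (Cfsg.Agent.Block.sylFour_le h T 0)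
      (Cfsg.Agent.Block.sylFour_le h T 1) hK₀ hK₁ (Cfsg.Agent.Block.sylFour_ne h T) g
    set N := Subgroup.normalizer (U₁ : Set G) with hN
    have hNU' : N ≤ Subgroup.normalizer (U' : Set G) := by rw [he, hnormconj]
    have hU1p : IsPGroup 2 U₁ := IsPGroup.of_card (n := 2) (by rw [hK₁.card_four]; norm_num)
    have hU'p : IsPGroup 2 U' := IsPGroup.of_card (n := 2) (by
      rw [hU', Subgroup.card_map_of_injective (MulEquiv.injective _), hK₀.card_four]; norm_num)
    have hU'N : U' ≤ N := by rw [he, ← hnormconj]; exact Subgroup.le_normalizer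
    have hWp : IsPGroup 2 (U' ⊔ U₁ : Subgroup G) := hU'p.to_sup_of_normal_right' hU1p hU'N
    obtain ⟨S, hS⟩ := hWp.exists_le_sylow
    obtain ⟨hS8, -, hSN⟩ := Cfsg.Agent.Block.o168_two h S
    have hW : (U' ⊔ U₁ : Subgroup G) = (S : Subgroup G) := by
      refine Subgroup.eq_of_le_of_card_ge hS ?_
      rw [hS8]
      have h1 : Nat.card (U' ⊔ U₁ : Subgroup G) ∣ 8 := hS8 ▸ Subgroup.card_dvd_of_le hS
      have h2 : U₁ < U' ⊔ U₁ := lt_of_le_not_ge le_sup_right fun hle => hne
        (Subgroup.eq_of_le_of_card_ge (le_sup_left.trans hle) (by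
          rw [hU', Subgroup.card_map_of_injective (MulEquiv.injective _), hK₀.card_four, hK₁.card_four]))
      have h3 : Nat.card U₁ < Nat.card (U' ⊔ U₁ : Subgroup G) :=
        Set.Finite.card_lt_card (Set.toFinite _) h2
      rw [hK₁.card_four] at h3
      have h4 := Nat.le_of_dvd (by norm_num) h1
      generalize Nat.card (U' ⊔ U₁ : Subgroup G) = n at *
      interval_cases n <;> omega
    have hNS : N ≤ Subgroup.normalizer ((S : Subgroup G) : Set G) := by
      rw [← hW]
      intro x hx
      have h1 : U'.map (MulAut.conj x).toMonoidHom = U' := by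
        ext y
        rw [Cfsg.Agent.Block.mem_map_conj]
        have h5 := Subgroup.mem_normalizer_iff.1 (inv_mem (hNU' hx)) y
        rw [inv_inv] at h5
        exact h5.symm
      have h2 : U₁.map (MulAut.conj x).toMonoidHom = U₁ := by
        ext y
        rw [Cfsg.Agent.Block.mem_map_conj]
        have h5 := Subgroup.mem_normalizer_iff.1 (inv_mem hx) y
        rw [inv_inv] at h5
        exact h5.symm
      rw [Subgroup.mem_normalizer_iff]
      intro y
      have h3 : (U' ⊔ U₁).map (MulAut.conj x).toMonoidHom = U' ⊔ U₁ := by rw [Subgroup.map_sup, h1, h2]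
      constructor
      · intro hy
        rw [← h3]
        exact Subgroup.mem_map.2 ⟨y, hy, rfl⟩
      · intro hy
        rw [← h3, Cfsg.Agent.Block.mem_map_conj] at hy
        simpa [mul_assoc] using hy
    have := Subgroup.card_le_of_le hNS
    rw [hSN, hS8, Cfsg.Agent.Block.klein_normalizer_card h hK₁] at this
    omega
  · intro M hM hiso
    rcases hclass M hM with ⟨U, hK, rfl⟩ | ⟨P, rfl⟩
    · obtain ⟨g, i, rfl⟩ := Cfsg.Agent.Block.klein_conj_class h T hK
      refine ⟨g, ?_⟩
      fin_cases i
      · exact Or.inl (hnormconj _ g)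
      · exact Or.inr (hnormconj _ g)
    · exfalso
      obtain ⟨e⟩ := hiso
      have := Nat.card_congr e.toEquiv
      rw [(Cfsg.Agent.Block.o168_seven h P).2.2.1, Nat.card_perm, Nat.card_fin] at this
      norm_num [Nat.factorial] at this

end Cfsg.Agent.S1008
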