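import Cfsg.Statements.S1009
-- import your own Cfsg.Agent.* helpers here

set_option autoImplicit false
open Cfsg

namespace Cfsg.Agent.S1009

/-- Brodkey's Theorem: if a finite group has abelian Sylow p-subgroups, then there are two Sylow p-subgroups whose intersection equals the intersection of all Sylow p-subgroups. -/
theorem result {G : Type*} [Group G] [Finite G] (p : ℕ) [Fact p.Prime] (hab : ∀ P : Sylow p G, IsMulCommutative ↥(P : Subgroup G)) : ∃ P Q : Sylow p G, (P : Subgroup G) ⊓ (Q : Subgroup G) = ⨅ R : Sylow p G, (R : Subgroup G) := by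
  classical
  haveI := Fintype.ofFinite (Sylow p G)
  obtain ⟨⟨P, Q⟩, -, hmin'⟩ := Finset.exists_min_image (Finset.univ : Finset (Sylow p G × Sylow p G))
    (fun x : Sylow p G × Sylow p G => Nat.card ↥((x.1 : Subgroup G) ⊓ (x.2 : Subgroup G)))
    Finset.univ_nonempty
  have hmin := fun x => hmin' x (Finset.mem_univ x)
  refine ⟨P, Q, le_antisymm ?_ (le_inf (iInf_le _ P) (iInf_le _ Q))⟩
  set D : Subgroup G := (P : Subgroup G) ⊓ (Q : Subgroup G) with hD
  set N := Subgroup.normalizer (D : Set G) with hN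
  have hle : ∀ R : Sylow p G, D ≤ (R : Subgroup G) → (R : Subgroup G) ≤ N := by
    intro R hR x hx
    rw [Subgroup.mem_normalizer_iff]
    have hc : ∀ d ∈ D, x * d = d * x := by
      intro d hd
      exact congrArg Subtype.val ((hab R).is_comm.comm (⟨x, hx⟩ : (R : Subgroup G)) ⟨d, hR hd⟩)
    intro d
    constructor
    · intro hd
      have : x * d * x⁻¹ = d := by rw [hc d hd]; group
      rw [this]; exact hd
    · intro hd
      have h1 := hc _ hd
      have : d = x * d * x⁻¹ := by
        calc d = x⁻¹ * (x * d * x⁻¹ * x) := by group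
          _ = x⁻¹ * (x * (x * d * x⁻¹)) := by rw [h1]
          _ = x * d * x⁻¹ := by group
      rw [this]; exact hd
  have hP : (P : Subgroup G) ≤ N := hle P inf_le_left
  have hQ : (Q : Subgroup G) ≤ N := hle Q inf_le_right
  rw [le_iInf_iff]
  intro R
  set P' : Sylow p N := P.subtype hP with hP'
  obtain ⟨T, hT⟩ := ((R.isPGroup'.to_le (inf_le_left : (R : Subgroup G) ⊓ N ≤ R)).comap_of_injective
    N.subtype (Subgroup.subtype_injective N)).exists_le_sylow
  obtain ⟨n, hn⟩ := MulAction.exists_smul_eq N P' T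
  set Pn : Sylow p G := (n : G) • P with hPn
  set Qn : Sylow p G := (n : G) • Q with hQn
  have hRP : (R : Subgroup G) ⊓ N ≤ (Pn : Subgroup G) := by
    intro x hx
    have h1 : (⟨x, hx.2⟩ : N) ∈ (T : Subgroup N) := hT hx
    rw [← hn, Sylow.coe_subgroup_smul, Subgroup.mem_smul_pointwise_iff_exists] at h1
    obtain ⟨y, hy, hy'⟩ := h1
    rw [hPn, Sylow.coe_subgroup_smul, Subgroup.mem_smul_pointwise_iff_exists]
    exact ⟨(y : G), hy, congrArg Subtype.val hy'⟩
  have hQnN : (Qn : Subgroup G) ≤ N := by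
    intro x hx
    rw [hQn, Sylow.coe_subgroup_smul, Subgroup.mem_smul_pointwise_iff_exists] at hx
    obtain ⟨y, hy, rfl⟩ := hx
    exact mul_mem (mul_mem n.2 (hQ hy)) (inv_mem n.2)
  have hD' : (Pn : Subgroup G) ⊓ (Qn : Subgroup G) = D := by
    apply le_antisymm
    · intro x hx
      have h1 : x ∈ (Pn : Subgroup G) := hx.1
      have h2 : x ∈ (Qn : Subgroup G) := hx.2
      rw [hPn, Sylow.coe_subgroup_smul, Subgroup.mem_smul_pointwise_iff_exists] at h1
      rw [hQn, Sylow.coe_subgroup_smul, Subgroup.mem_smul_pointwise_iff_exists] at h2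
      obtain ⟨y, hy, rfl⟩ := h1
      obtain ⟨z, hz, hz'⟩ := h2
      have hzy : z = y := (MulAut.conj (n : G)).injective hz'
      exact (Subgroup.mem_normalizer_iff.1 n.2 y).1 ⟨hy, hzy ▸ hz⟩
    · intro x hx
      obtain ⟨hx1, hx2⟩ : (n : G)⁻¹ * x * (n : G) ∈ D := by
        simpa using (Subgroup.mem_normalizer_iff.1 (inv_mem n.2) x).1 hx
      refine Subgroup.mem_inf.2 ⟨?_, ?_⟩
      · rw [hPn, Sylow.coe_subgroup_smul, Subgroup.mem_smul_pointwise_iff_exists]
        exact ⟨_, hx1, by simp [mul_assoc]⟩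
      · rw [hQn, Sylow.coe_subgroup_smul, Subgroup.mem_smul_pointwise_iff_exists]
        exact ⟨_, hx2, by simp [mul_assoc]⟩
  have hRQ : (R : Subgroup G) ⊓ (Qn : Subgroup G) ≤ D := by
    rw [← hD']
    exact le_inf ((le_inf inf_le_left (inf_le_right.trans hQnN)).trans hRP) inf_le_right
  have := Subgroup.eq_of_le_of_card_ge hRQ (hmin (R, Qn))
  rw [← this]
  exact inf_le_left

end Cfsg.Agent.S1009
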