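import Cfsg.Statements.S1010
import Mathlib
import Cfsg.Agent.Lib.Transfer.SylowNumber
-- import your own Cfsg.Agent.* helpers here

set_option autoImplicit false
open Cfsg

namespace Cfsg.Agent.S1010

section
open Subgroup MulAction

variable {G : Type*} [Group G] [Finite G]

lemma kill_hom (hgen : ∀ M : Subgroup G, (∀ P : Sylow 5 G, (P : Subgroup G) ≤ M) → M = ⊤)
    {A : Type*} [CommGroup A] (f : G →* A) (hf : ∀ g, f g ^ 2 = 1) : ∀ g, f g = 1 := by
  haveI : Fact (Nat.Prime 5) := ⟨by norm_num⟩
  have htop := hgen f.ker fun P x hx => by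
    obtain ⟨k, hk⟩ := IsPGroup.iff_orderOf.1 P.isPGroup' ⟨x, hx⟩
    rw [Subgroup.orderOf_mk] at hk
    have h1 : f x ^ (5 ^ k) = 1 := by rw [← map_pow, ← hk, pow_orderOf_eq_one, map_one]
    have hd : orderOf (f x) ∣ Nat.gcd 2 (5 ^ k) :=
      Nat.dvd_gcd (orderOf_dvd_of_pow_eq_one (hf x)) (orderOf_dvd_of_pow_eq_one h1)
    have hg : Nat.gcd 2 (5 ^ k) = 1 :=
      Nat.Coprime.pow_right k (by norm_num)
    rw [hg, Nat.dvd_one, orderOf_eq_one_iff] at hd
    exact hd
  exact fun g => MonoidHom.mem_ker.1 (htop ▸ mem_top g : g ∈ f.ker)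

lemma units_five_cases (a : (ZMod 5)ˣ) (h : a ^ 2 = 1) : a = 1 ∨ a = -1 := by
  revert h; revert a; decide

lemma units_five_pow (a : (ZMod 5)ˣ) : a ^ 4 = 1 := by revert a; decide

lemma units_five_ne : ¬ ((-1 : (ZMod 5)ˣ) = 1) := by decide

lemma units_five_card : Nat.card (ZMod 5)ˣ ∣ 4 := by
  rw [Nat.card_eq_fintype_card]; decide

theorem no_twentyone (G : Type*) [Group G] [Finite G] (h21 : Nat.card (Sylow 5 G) = 21)
    (hfaith : ∀ g : G, (∀ P : Sylow 5 G, g • P = P) → g = 1)
    (hgen : ∀ M : Subgroup G, (∀ P : Sylow 5 G, (P : Subgroup G) ≤ M) → M = ⊤) : False := by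
  classical
  haveI : Fact (Nat.Prime 5) := ⟨by norm_num⟩
  haveI : Fact (Nat.Prime 2) := ⟨Nat.prime_two⟩
  haveI : Fact (Nat.Prime 7) := ⟨by norm_num⟩
  haveI : Fintype (Sylow 5 G) := Fintype.ofFinite _
  have hc21 : Fintype.card (Sylow 5 G) = 21 := by rw [← Nat.card_eq_fintype_card, h21]
  -- two distinct Sylow subgroups meet in index five
  have horb5 : ∀ R Q : Sylow 5 G, Q ≠ R → (MulAction.orbit (R : Subgroup G) Q).ncard = 5 := by
    intro R Q hQR
    obtain ⟨k, hk⟩ := R.isPGroup'.card_orbit Q
    have hle : MulAction.orbit (R : Subgroup G) Q ⊆ {R}ᶜ := by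
      rintro _ ⟨a, rfl⟩ he
      apply hQR
      rw [Set.mem_singleton_iff] at he
      exact smul_left_cancel (a : G) ((show (a : G) • Q = R from he).trans
        (Cfsg.Agent.Transfer.smul_sylow_self R a.2).symm)
    have h20 : ({R}ᶜ : Set (Sylow 5 G)).ncard = 20 := by
      rw [Set.ncard_compl, Set.ncard_singleton, h21]
    have h1 := Set.ncard_le_ncard hle (Set.toFinite _)
    rw [h20] at h1
    rw [Nat.card_coe_set_eq] at hk
    rw [hk] at h1 ⊢
    rcases k with _ | _ | k
    · exfalso
      have h0 : Nat.card (MulAction.orbit (R : Subgroup G) Q) = 1 := by rw [Nat.card_coe_set_eq, hk]; rfl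
      rw [Cfsg.Agent.Transfer.card_orbit_sylow, relIndex_eq_one] at h0
      exact hQR (Sylow.ext (R.3 Q.isPGroup' (h0.trans inf_le_right)))
    · rfl
    · have h := Nat.pow_le_pow_right (show 0 < 5 by norm_num) (show 2 ≤ k + 1 + 1 by omega)
      omega
  have hidx : ∀ R Q : Sylow 5 G, Q ≠ R →
      Nat.card ((R : Subgroup G) ⊓ (Q : Subgroup G) : Subgroup G) * 5 = Nat.card (R : Subgroup G) := by
    intro R Q hQR
    have h := Cfsg.Agent.Transfer.card_orbit_sylow R Q
    rw [Nat.card_coe_set_eq, horb5 R Q hQR] at h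
    have h' := Cfsg.Agent.Grp.card_mul_relIndex (inf_le_left : (R : Subgroup G) ⊓ (Q : Subgroup G) ≤ R)
    rwa [← h] at h'
  have hcardS : ∀ R Q : Sylow 5 G, Nat.card (R : Subgroup G) = Nat.card (Q : Subgroup G) := fun R Q => by
    rw [R.card_eq_multiplicity, Q.card_eq_multiplicity]
  have horbfix : ∀ R Q : Sylow 5 G, Q ≠ R → ∀ W ∈ MulAction.orbit (R : Subgroup G) Q,
      (R : Subgroup G) ⊓ (Q : Subgroup G) ≤ (W : Subgroup G) := by
    intro R Q hQR W hW d hd
    obtain ⟨a, rfl⟩ := hW
    have hn : (((R : Subgroup G) ⊓ (Q : Subgroup G)).subgroupOf (R : Subgroup G)).Normal := by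
      have h5 : (((R : Subgroup G) ⊓ (Q : Subgroup G)).subgroupOf (R : Subgroup G)).index = 5 := by
        have h := Cfsg.Agent.Transfer.card_orbit_sylow R Q
        rw [Nat.card_coe_set_eq, horb5 R Q hQR] at h
        exact h.symm
      refine normal_of_index_eq_minFac_card ?_
      rw [h5]
      obtain ⟨m, hm⟩ := IsPGroup.iff_card.1 R.isPGroup'
      rw [hm]
      have hm0 : m ≠ 0 := by
        rintro rfl
        have := hidx R Q hQR
        rw [hm, pow_zero] at this
        omega
      exact (Nat.Prime.pow_minFac (by norm_num) hm0).symm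
    have h := hn.conj_mem ⟨d, hd.1⟩ hd a⁻¹
    have h2 : (a : G)⁻¹ * d * a ∈ (Q : Subgroup G) := by
      have := (mem_subgroupOf.1 h).2
      simp at this
      exact this
    exact ⟨(a : G)⁻¹ * d * a, h2, by simp [mul_assoc]⟩
  -- Sylow subgroups have order five
  obtain ⟨P⟩ : Nonempty (Sylow 5 G) := inferInstance
  obtain ⟨Q0, hQ0⟩ : ∃ Q : Sylow 5 G, Q ≠ P := Fintype.exists_ne_of_one_lt_card (by omega) P
  have hP5 : Nat.card (P : Subgroup G) = 5 := by
    set D := (P : Subgroup G) ⊓ (Q0 : Subgroup G) with hD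
    suffices D = ⊥ by rw [← hidx P Q0 hQ0, ← hD, this, card_bot, one_mul]
    by_contra hDb
    let L : Finset (Sylow 5 G) := Finset.univ.filter fun R => D ≤ (R : Subgroup G)
    have hmemL : ∀ R, R ∈ L ↔ D ≤ (R : Subgroup G) := fun R => by simp [L]
    obtain ⟨X, hX⟩ : ∃ X, X ∉ L := by
      by_contra hall
      push Not at hall
      obtain ⟨d, hd, hd1⟩ := (Subgroup.bot_or_exists_ne_one D).resolve_left hDb
      exact hd1 (hfaith d fun R => Cfsg.Agent.Transfer.smul_sylow_self R ((hmemL R).1 (hall R) hd))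
    have h6 : 6 ≤ L.card := by
      have hsub : insert P (MulAction.orbit (P : Subgroup G) Q0) ⊆ (L : Set (Sylow 5 G)) := by
        rintro W (rfl | hW)
        · exact (hmemL _).2 inf_le_left
        · exact (hmemL W).2 (horbfix P Q0 hQ0 W hW)
      have h1 := Set.ncard_le_ncard hsub (Set.toFinite _)
      have hPn : P ∉ MulAction.orbit (P : Subgroup G) Q0 := by
        rintro ⟨a, ha⟩
        exact hQ0 (smul_left_cancel (a : G) ((show (a : G) • Q0 = P from ha).trans
          (Cfsg.Agent.Transfer.smul_sylow_self P a.2).symm))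
      rw [Set.ncard_insert_of_notMem hPn (Set.toFinite _), horb5 P Q0 hQ0, Set.ncard_coe_finset] at h1
      exact h1
    let f : Sylow 5 G → Subgroup G := fun R => (X : Subgroup G) ⊓ (R : Subgroup G)
    have hinj : Set.InjOn f (L : Set (Sylow 5 G)) := by
      intro R hR R' hR' he
      by_contra hne
      have hRL := (hmemL R).1 hR
      have hR'L := (hmemL R').1 hR'
      have hXR : R ≠ X := fun h => hX (h ▸ hR)
      have hDc : Nat.card D * 5 = Nat.card (P : Subgroup G) := hidx P Q0 hQ0
      have e1 : D = (R : Subgroup G) ⊓ (R' : Subgroup G) := by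
        refine eq_of_le_of_card_ge (le_inf hRL hR'L) ?_
        have := hidx R R' (Ne.symm hne)
        rw [hcardS R P] at this
        omega
      have e2 : f R = D := by
        refine eq_of_le_of_card_ge ?_ ?_
        · rw [e1]
          exact le_inf inf_le_right (he ▸ inf_le_right)
        · have := hidx X R hXR
          rw [hcardS X P] at this
          show Nat.card D ≤ Nat.card ((X : Subgroup G) ⊓ (R : Subgroup G) : Subgroup G)
          omega
      exact hX ((hmemL X).2 (e2 ▸ inf_le_left))
    let S : Finset (Sylow 5 G) := Finset.univ.erase X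
    have hS : S.card = 20 := by rw [Finset.card_erase_of_mem (Finset.mem_univ X), Finset.card_univ, hc21]
    have h4 : 5 * (S.image f).card ≤ S.card := by
      refine Finset.mul_card_image_le_card S 5 fun E hE => ?_
      obtain ⟨R, hR, rfl⟩ := Finset.mem_image.1 hE
      have hRX : R ≠ X := Finset.ne_of_mem_erase hR
      refine (horb5 X R hRX).ge.trans ?_
      rw [← Set.ncard_coe_finset]
      refine Set.ncard_le_ncard (fun W hW => ?_) (Set.toFinite _)
      have hWX : W ≠ X := by
        rintro rfl
        obtain ⟨a, ha⟩ := hW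
        exact hRX (smul_left_cancel (a : G) ((show (a : G) • R = _ from ha).trans
          (Cfsg.Agent.Transfer.smul_sylow_self _ a.2).symm))
      simp only [Finset.coe_filter, Set.mem_setOf_eq]
      refine ⟨Finset.mem_erase.2 ⟨hWX, Finset.mem_univ _⟩, ?_⟩
      refine (eq_of_le_of_card_ge (le_inf inf_le_left (horbfix X R hRX W hW)) ?_).symm
      have a1 := hidx X R hRX
      have a2 := hidx X W hWX
      show Nat.card ((X : Subgroup G) ⊓ (W : Subgroup G) : Subgroup G) ≤
        Nat.card ((X : Subgroup G) ⊓ (R : Subgroup G) : Subgroup G)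
      omega
    have h5 : L.card ≤ (S.image f).card := by
      rw [← Finset.card_image_of_injOn hinj]
      refine Finset.card_le_card (Finset.image_subset_image fun R hR => ?_)
      exact Finset.mem_erase.2 ⟨fun h => hX (h ▸ hR), Finset.mem_univ _⟩
    omega
  haveI hPcyc : IsCyclic (P : Subgroup G) := isCyclic_of_prime_card (p := 5) hP5
  set N := normalizer (P : Set G) with hN
  have hNidx : N.index = 21 := by rw [hN, ← P.card_eq_index_normalizer, h21]
  -- the action of the normalizer
  let χ : N →* (ZMod 5)ˣ :=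
    ((Units.map (ZMod.ringEquivCongr hP5).toRingHom.toMonoidHom).comp
      (IsCyclic.mulAutMulEquiv (P : Subgroup G)).toMonoidHom).comp (P : Subgroup G).normalizerMonoidHom
  have hχ : ∀ n : N, χ n = 1 ↔ ∀ a ∈ P, (n : G) * a = a * n := by
    intro n
    have hinj : Function.Injective ((Units.map (ZMod.ringEquivCongr hP5).toRingHom.toMonoidHom).comp
      (IsCyclic.mulAutMulEquiv (P : Subgroup G)).toMonoidHom) :=
      (Units.map_injective (ZMod.ringEquivCongr hP5).injective).comp
        (IsCyclic.mulAutMulEquiv (P : Subgroup G)).injective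
    have hker := (P : Subgroup G).normalizerMonoidHom_ker
    have h1 : χ n = 1 ↔ n ∈ (P : Subgroup G).normalizerMonoidHom.ker := by
      rw [MonoidHom.mem_ker]
      exact map_eq_one_iff _ hinj
    rw [h1, hker, mem_subgroupOf, mem_centralizer_iff]
    exact ⟨fun h a ha => (h a ha).symm, fun h a ha => (h a ha).symm⟩
  -- the sign of every element is trivial
  set φ : G →* Equiv.Perm (Sylow 5 G) := MulAction.toPermHom G (Sylow 5 G) with hφ
  have hsign : ∀ g : G, Equiv.Perm.sign (φ g) = 1 := fun g =>
    kill_hom hgen (Equiv.Perm.sign.comp φ) (fun g => Int.units_sq _) g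
  have hφ1 : ∀ g, φ g = 1 → g = 1 := fun g hg => hfaith g fun R => congrFun (congrArg DFunLike.coe hg) R
  -- supports of elements centralizing `P`
  have hsupp5 : ∀ y : G, (∀ a ∈ P, y * a = a * y) → 5 ∣ (φ y).support.card ∧ (φ y).support.card ≤ 20 := by
    intro y hy
    have hyP : y • P = P := Sylow.smul_eq_iff_mem_normalizer.2 (mem_set_normalizer_iff.2 fun a => by
      constructor
      · intro ha
        show y * a * y⁻¹ ∈ (P : Subgroup G)
        rwa [hy a ha, mul_inv_cancel_right]
      · intro ha
        have h := hy _ ha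
        simp only [mul_assoc] at h
        have h' : y * a * y⁻¹ = a := by
          have := mul_left_cancel (a := y) (b := y * (a * y⁻¹)) (c := a) (by simpa [mul_assoc] using h)
          simpa [mul_assoc] using this
        exact h' ▸ ha)
    have hPns : P ∉ (φ y).support := by simp [Equiv.Perm.mem_support, hφ, hyP]
    refine ⟨?_, ?_⟩
    · rw [← Set.ncard_coe_finset]
      refine Cfsg.Agent.Transfer.dvd_ncard_of_orbits (H := (P : Subgroup G)) _ ?_ ?_
      · rintro R hR _ ⟨a, rfl⟩
        simp only [Finset.mem_coe, Equiv.Perm.mem_support] at hR ⊢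
        intro h
        apply hR
        have h' : y • (a : G) • R = (a : G) • R := h
        rw [smul_smul, hy a a.2, ← smul_smul] at h'
        exact smul_left_cancel _ h'
      · intro R hR
        exact horb5 P R fun h => hPns (h ▸ hR)
    · have h := Finset.card_le_card (show (φ y).support ⊆ Finset.univ.erase P from fun R hR =>
        Finset.mem_erase.2 ⟨fun h => hPns (h ▸ hR), Finset.mem_univ _⟩)
      rwa [Finset.card_erase_of_mem (Finset.mem_univ P), Finset.card_univ, hc21] at h
  -- an involution centralizing `P` fixes only `P`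
  have hinvo : ∀ z : G, (∀ a ∈ P, z * a = a * z) → orderOf z = 2 → ∀ R : Sylow 5 G, z • R = R → R = P := by
    intro z hz h2 R hR
    obtain ⟨h5, h20⟩ := hsupp5 z hz
    have hσ2 : φ z ^ 2 = 1 := by rw [← map_pow, ← h2, pow_orderOf_eq_one, map_one]
    have hct : ∀ n ∈ (φ z).cycleType, n = 2 := by
      intro n hn
      have h1 : n ∣ 2 := (Equiv.Perm.dvd_of_mem_cycleType hn).trans (orderOf_dvd_of_pow_eq_one hσ2)
      exact le_antisymm (Nat.le_of_dvd (by norm_num) h1) (Equiv.Perm.two_le_of_mem_cycleType hn)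
    have hsum : (φ z).cycleType.sum = 2 * Multiset.card (φ z).cycleType := by
      rw [Multiset.eq_replicate_card.2 hct, Multiset.sum_replicate, Multiset.card_replicate, smul_eq_mul, mul_comm]
    have hs := hsign z
    rw [Equiv.Perm.sign_of_cycleType, hsum] at hs
    have hev : Even (2 * Multiset.card (φ z).cycleType + Multiset.card (φ z).cycleType) := by
      by_contra hodd
      rw [(Nat.not_even_iff_odd.1 hodd).neg_one_pow] at hs
      exact absurd hs (by decide)
    have h4 : (φ z).support.card = 2 * Multiset.card (φ z).cycleType := by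
      rw [← hsum, Equiv.Perm.sum_cycleType]
    have hne : (φ z).support.card ≠ 0 := by
      intro h
      rw [Finset.card_eq_zero, Equiv.Perm.support_eq_empty_iff] at h
      rw [hφ1 z h, orderOf_one] at h2
      omega
    have h20' : (φ z).support.card = 20 := by
      obtain ⟨j, hj⟩ := hev
      obtain ⟨i, hi⟩ := h5
      omega
    by_contra hRP
    have hsub : (φ z).support ⊆ (Finset.univ.erase P).erase R := by
      intro W hW
      rw [Equiv.Perm.mem_support] at hW
      refine Finset.mem_erase.2 ⟨fun h => hW (by rw [h]; exact hR), Finset.mem_erase.2 ⟨fun h => hW ?_, Finset.mem_univ _⟩⟩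
      rw [h]
      exact Sylow.smul_eq_iff_mem_normalizer.2 (mem_set_normalizer_iff.2 fun a => by
        constructor
        · intro ha
          show z * a * z⁻¹ ∈ (P : Subgroup G)
          rwa [hz a ha, mul_inv_cancel_right]
        · intro ha
          have hzz : z⁻¹ = z := inv_eq_of_mul_eq_one_left (by rw [← pow_two, ← h2, pow_orderOf_eq_one])
          have h := hz _ ha
          have h' : z * (z * a * z⁻¹) * z⁻¹ ∈ (P : Subgroup G) := by
            rwa [h, mul_inv_cancel_right]
          have e : z * (z * a * z⁻¹) * z⁻¹ = a := by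
            rw [hzz]
            have : z * z = 1 := by rw [← pow_two, ← h2, pow_orderOf_eq_one]
            simp only [mul_assoc]
            rw [this, mul_one, ← mul_assoc, this, one_mul]
          exact e ▸ h')
    have h := Finset.card_le_card hsub
    rw [Finset.card_erase_of_mem (Finset.mem_erase.2 ⟨hRP, Finset.mem_univ _⟩),
      Finset.card_erase_of_mem (Finset.mem_univ P), Finset.card_univ, hc21, h20'] at h
    omega
  -- no element of order seven centralizes `P`
  have h7C : ∀ y : G, (∀ a ∈ P, y * a = a * y) → orderOf y ≠ 7 := by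
    intro y hy h7
    obtain ⟨h5, h20⟩ := hsupp5 y hy
    have hct : ∀ n ∈ (φ y).cycleType, n = 7 := by
      intro n hn
      have h1 : n ∣ 7 := (Equiv.Perm.dvd_of_mem_cycleType hn).trans
        (orderOf_dvd_of_pow_eq_one (by rw [← map_pow, ← h7, pow_orderOf_eq_one, map_one]))
      exact ((Nat.dvd_prime (by norm_num)).1 h1).resolve_left fun h =>
        absurd (Equiv.Perm.two_le_of_mem_cycleType hn) (by omega)
    have hsum : (φ y).support.card = 7 * Multiset.card (φ y).cycleType := by
      rw [← Equiv.Perm.sum_cycleType, Multiset.eq_replicate_card.2 hct, Multiset.sum_replicate,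
        Multiset.card_replicate, smul_eq_mul, mul_comm]
    have h0 : (φ y).support.card = 0 := by omega
    rw [Finset.card_eq_zero, Equiv.Perm.support_eq_empty_iff] at h0
    rw [hφ1 y h0, orderOf_one] at h7
    omega
  -- a Sylow 2-subgroup inside the normalizer
  obtain ⟨S0⟩ : Nonempty (Sylow 2 N) := inferInstance
  have hSidx : ¬ 2 ∣ ((S0 : Subgroup N).map N.subtype).index := by
    rw [index_map_subtype, hNidx]
    intro h
    exact S0.not_dvd_index ((Nat.Coprime.dvd_of_dvd_mul_right (by norm_num) h))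
  let S : Subgroup G := (S0 : Subgroup N).map N.subtype
  have hSN : S ≤ N := map_subtype_le _
  let χS : S →* (ZMod 5)ˣ := χ.comp (Subgroup.inclusion hSN)
  by_cases hχ0 : ∀ y : S, χS y = 1
  · -- then `P` is central in its normalizer: Burnside
    have hχN : ∀ n : N, χ n = 1 := by
      intro n
      have hle : (S0 : Subgroup N) ≤ χ.ker := fun y hy =>
        MonoidHom.mem_ker.2 (hχ0 ⟨(y : G), mem_map_of_mem _ hy⟩)
      have hd : χ.ker.index ∣ 4 := by
        rw [index_ker]
        exact (card_subgroup_dvd_card _).trans units_five_card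
      have hodd : ¬ 2 ∣ χ.ker.index := fun h => S0.not_dvd_index (h.trans (index_dvd_of_le hle))
      have h1 : χ.ker.index = 1 := by
        obtain ⟨k, -, hk⟩ := (Nat.dvd_prime_pow Nat.prime_two).1 (show χ.ker.index ∣ 2 ^ 2 from hd)
        rcases k with _ | k
        · exact hk
        · exact absurd (hk ▸ dvd_pow_self 2 k.succ_ne_zero) hodd
      rw [index_eq_one] at h1
      exact MonoidHom.mem_ker.1 (h1 ▸ mem_top n)
    have hle : normalizer (P : Set G) ≤ centralizer (P : Set G) :=
      fun g hg a ha => ((hχ ⟨g, hg⟩).1 (hχN _) a ha).symm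
    obtain ⟨M, hMn, hMc⟩ : ∃ M : Subgroup G, M.Normal ∧ M.IsComplement' (P : Subgroup G) :=
      ⟨_, inferInstance, MonoidHom.ker_transferSylow_isComplement' P hle⟩
    have hcardM : Nat.card M * 5 = Nat.card G := by
      have := hMc.card_mul
      rwa [hP5] at this
    have hG7 : 7 ∣ Nat.card G := by
      rw [← N.index_mul_card, hNidx]; exact dvd_mul_of_dvd_left (by norm_num) _
    have hM7 : 7 ∣ Nat.card M :=
      (Nat.Coprime.dvd_of_dvd_mul_right (by norm_num) (hcardM ▸ hG7))
    obtain ⟨R⟩ : Nonempty (Sylow 7 M) := inferInstance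
    let R' : Subgroup G := (R : Subgroup M).map M.subtype
    have hsup : normalizer (R' : Set G) ⊔ M = ⊤ := Sylow.normalizer_sup_eq_top R
    have h5R : 5 ∣ Nat.card (normalizer (R' : Set G)) := by
      by_contra h
      have h1 : Nat.card (normalizer (R' : Set G)) * M.relIndex (normalizer (R' : Set G) ⊔ M) ∣
          Nat.card (normalizer (R' : Set G)) * M.index := by rw [hsup, relIndex_top_right]
      have hidxM : M.index = 5 := by
        have h2 := M.card_mul_index
        rw [← hcardM] at h2
        exact Nat.eq_of_mul_eq_mul_left Nat.card_pos h2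
      have h3 : M.relIndex (normalizer (R' : Set G)) = 5 := by
        rw [← relIndex_sup_right, hsup, relIndex_top_right, hidxM]
      exact h (h3 ▸ (index_dvd_card (M.subgroupOf (normalizer (R' : Set G)))))
    obtain ⟨t, ht⟩ := exists_prime_orderOf_dvd_card' (G := normalizer (R' : Set G)) 5 h5R
    rw [← Subgroup.orderOf_coe] at ht
    -- `R` has order seven
    have hR7 : Nat.card R' = 7 := by
      rw [card_subtype]
      obtain ⟨k, hk⟩ := IsPGroup.iff_card.1 R.isPGroup'
      have h1 : 7 ∣ Nat.card (R : Subgroup M) := R.dvd_card_of_dvd_card hM7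
      have hkd : 7 ^ k ∣ Nat.card G := hk ▸ (card_subgroup_dvd_card _).trans M.card_subgroup_dvd_card
      have h49 : ¬ 7 ^ 2 ∣ Nat.card G := by
        intro h49
        rw [← N.index_mul_card, hNidx] at h49
        have h7N : 7 ∣ Nat.card N := (Nat.Coprime.dvd_of_dvd_mul_left (show Nat.Coprime 7 3 by norm_num)
          (Nat.dvd_of_mul_dvd_mul_left (show 0 < 7 by norm_num)
            (show 7 * 7 ∣ 7 * (3 * Nat.card N) by rw [← mul_assoc]; exact h49)))
        obtain ⟨y, hy⟩ := exists_prime_orderOf_dvd_card' (G := N) 7 h7N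
        rw [← Subgroup.orderOf_coe] at hy
        exact h7C y ((hχ y).1 (hχN y)) hy
      have hk1 : k ≤ 1 := by
        by_contra h
        exact h49 ((pow_dvd_pow 7 (show 2 ≤ k by omega)).trans hkd)
      rw [hk] at h1 ⊢
      interval_cases k
      · norm_num at h1
      · norm_num
    haveI : IsCyclic R' := isCyclic_of_prime_card (p := 7) hR7
    have htc : ∀ r ∈ R', (t : G) * r * (t : G)⁻¹ = r := by
      have hmem : (t : normalizer (R' : Set G)) ∈ (R'.normalizerMonoidHom).ker := by
        rw [MonoidHom.mem_ker, ← orderOf_eq_one_iff]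
        have h1 : orderOf (R'.normalizerMonoidHom t) ∣ 5 := by
          rw [← ht, Subgroup.orderOf_coe]
          exact orderOf_map_dvd _ _
        have h2 : orderOf (R'.normalizerMonoidHom t) ∣ 6 := by
          have h6 : Nat.card (MulAut R') = 6 := by
            rw [IsCyclic.card_mulAut, hR7]; decide
          exact h6 ▸ orderOf_dvd_natCard _
        have := Nat.dvd_gcd h1 h2
        simpa using this
      rw [normalizerMonoidHom_ker, mem_subgroupOf] at hmem
      intro r hr
      rw [← hmem r hr, mul_inv_cancel_right]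
    obtain ⟨Pt, hPt⟩ := (IsPGroup.of_card (n := 1) (show Nat.card (zpowers (t : G)) = 5 ^ 1 by
      rw [Nat.card_zpowers, ht, pow_one]) : IsPGroup 5 (zpowers (t : G))).exists_le_sylow
    have hPte : zpowers (t : G) = (Pt : Subgroup G) := eq_of_le_of_card_ge hPt (by
      rw [Nat.card_zpowers, ht, hcardS Pt P, hP5])
    obtain ⟨g, hg⟩ := MulAction.exists_smul_eq G Pt P
    obtain ⟨r, hr⟩ := exists_prime_orderOf_dvd_card' (G := R') 7 (dvd_of_eq hR7.symm)
    rw [← Subgroup.orderOf_coe] at hr
    refine h7C (g * r * g⁻¹) ?_ ?_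
    · intro a ha
      rw [← hg] at ha
      obtain ⟨b, hb, rfl⟩ := ha
      have hb' : b ∈ zpowers (t : G) := hPte.ge hb
      obtain ⟨i, rfl⟩ := hb'
      have hc : Commute (t : G) r := mul_inv_eq_iff_eq_mul.1 (htc r r.2)
      show g * r * g⁻¹ * (MulAut.conj g ((t : G) ^ i)) = MulAut.conj g ((t : G) ^ i) * (g * r * g⁻¹)
      simp only [MulAut.conj_apply]
      calc g * r * g⁻¹ * (g * (t : G) ^ i * g⁻¹) = g * (r * (t : G) ^ i) * g⁻¹ := by group
        _ = g * ((t : G) ^ i * r) * g⁻¹ := by rw [((hc.zpow_left i).symm).eq]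
        _ = _ := by group
    · rw [show g * (r : G) * g⁻¹ = MulAut.conj g (r : G) by simp, MulEquiv.orderOf_eq, hr]
  · -- otherwise transfer gives a subgroup of index two
    push Not at hχ0
    obtain ⟨k, u, hku, hk2⟩ : ∃ (k : ℕ) (u : S), χS u ^ k ≠ 1 ∧ ∀ y : S, (χS y ^ k) ^ 2 = 1 := by
      by_cases h4 : ∀ y : S, χS y ^ 2 = 1
      · obtain ⟨u, hu⟩ := hχ0
        exact ⟨1, u, by simpa using hu, fun y => by simpa using h4 y⟩
      · push Not at h4
        obtain ⟨u, hu⟩ := h4
        exact ⟨2, u, hu, fun y => by rw [← pow_mul]; exact units_five_pow _⟩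
    let ε : S →* (ZMod 5)ˣ := (powMonoidHom k).comp χS
    have hε2 : ∀ y, ε y ^ 2 = 1 := fun y => hk2 y
    have hεu : ε u = -1 := (units_five_cases _ (hε2 u)).resolve_left hku
    have hS2 : IsPGroup 2 S := S0.2.map N.subtype
    -- conjugation invariance
    have hone : ∀ (g : G) (y : S) (hy : g * y * g⁻¹ ∈ S), ε y = 1 → ε ⟨g * y * g⁻¹, hy⟩ = 1 := by
      intro g y hy hey
      have hey' : χ (Subgroup.inclusion hSN y ^ k) = 1 := by rw [map_pow]; exact hey
      show χ (Subgroup.inclusion hSN ⟨g * y * g⁻¹, hy⟩) ^ k = 1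
      rw [← map_pow, hχ]
      have hyC : ∀ a ∈ P, ((y : G) ^ k) * a = a * (y : G) ^ k := by
        have := (hχ _).1 hey'
        simpa using this
      intro a ha
      have hcoe : ((Subgroup.inclusion hSN ⟨g * y * g⁻¹, hy⟩ ^ k : N) : G) = g * (y : G) ^ k * g⁻¹ := by
        simp [conj_pow]
      rw [hcoe]
      by_cases hw : (y : G) ^ k = 1
      · rw [hw]; simp
      obtain ⟨m, hm⟩ := IsPGroup.iff_orderOf.1 hS2 (y ^ k)
      rw [← Subgroup.orderOf_coe, SubgroupClass.coe_pow] at hm
      have hm0 : m ≠ 0 := by rintro rfl; rw [pow_zero, orderOf_eq_one_iff] at hm; exact hw hm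
      obtain ⟨m', rfl⟩ := Nat.exists_eq_succ_of_ne_zero hm0
      set z := ((y : G) ^ k) ^ (2 ^ m') with hz
      have hz2 : orderOf z = 2 := by
        rw [hz, orderOf_pow' _ (pow_ne_zero _ two_ne_zero), hm,
          Nat.gcd_eq_right (pow_dvd_pow 2 (Nat.le_succ m')), pow_succ, Nat.mul_div_cancel_left _ (Nat.two_pow_pos m')]
      have hzC : ∀ a ∈ P, z * a = a * z := fun a ha => ((show Commute _ a from hyC a ha).pow_left _).eq
      have hgN : g • P = P := by
        have hfix : (g * (y : G) ^ k * g⁻¹) • P = P := by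
          have : g * (y : G) ^ k * g⁻¹ ∈ N := by
            have h1 : (g * y * g⁻¹) ^ k ∈ S := pow_mem hy k
            rw [conj_pow] at h1
            exact hSN h1
          exact Sylow.smul_eq_iff_mem_normalizer.2 this
        have hfix' : ((y : G) ^ k) • (g⁻¹ • P) = g⁻¹ • P := by
          rw [mul_smul, mul_smul, smul_eq_iff_eq_inv_smul] at hfix
          exact hfix
        have hzfix : z • (g⁻¹ • P) = g⁻¹ • P := by
          rw [hz]
          exact (MulAction.mem_stabilizer_iff).1 (pow_mem (MulAction.mem_stabilizer_iff.2 hfix') _)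
        have := hinvo z hzC hz2 _ hzfix
        rw [inv_smul_eq_iff] at this
        exact this.symm
      have hga : g⁻¹ * a * g ∈ P := by
        rw [← hgN] at ha
        obtain ⟨b, hb, rfl⟩ := ha
        simpa [mul_assoc] using hb
      have h := congrArg (fun w => g * w * g⁻¹) (hyC _ hga)
      simpa [mul_assoc] using h
    have hinv : ∀ (g : G) (y : S) (hy : g * y * g⁻¹ ∈ S), ε ⟨g * y * g⁻¹, hy⟩ = ε y := by
      intro g y hy
      rcases units_five_cases _ (hε2 y) with h | h
      · rw [h]; exact hone g y hy h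
      · rcases units_five_cases _ (hε2 ⟨g * y * g⁻¹, hy⟩) with h' | h'
        · exfalso
          have e : g⁻¹ * (g * y * g⁻¹) * g⁻¹⁻¹ = y := by group
          have := hone g⁻¹ ⟨g * y * g⁻¹, hy⟩ (by rw [e]; exact y.2) h'
          have e' : (⟨g⁻¹ * (g * y * g⁻¹) * g⁻¹⁻¹, by rw [e]; exact y.2⟩ : S) = y := Subtype.ext e
          rw [e', h] at this
          exact absurd this units_five_ne
        · rw [h, h']
    haveI : S.FiniteIndex := inferInstance
    have hT : ∀ g, MonoidHom.transfer ε g ^ 2 = 1 := by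
      intro g
      haveI : Fintype (Quotient (MulAction.orbitRel (zpowers g) (G ⧸ S))) := Fintype.ofFinite _
      rw [MonoidHom.transfer_eq_prod_quotient_orbitRel_zpowers_quot, ← Finset.prod_pow]
      exact Finset.prod_eq_one fun q _ => hε2 _
    have hu := kill_hom hgen (MonoidHom.transfer ε) hT (u : G)
    haveI : Fintype (Quotient (MulAction.orbitRel (zpowers (u : G)) (G ⧸ S))) := Fintype.ofFinite _
    rw [MonoidHom.transfer_eq_prod_quotient_orbitRel_zpowers_quot] at hu
    have hterm : ∀ (n : ℕ) (x : G) (h : x⁻¹ * (u : G) ^ n * x ∈ S),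
        ε ⟨x⁻¹ * (u : G) ^ n * x, h⟩ = (-1) ^ n := by
      intro n x h
      rw [← hεu, ← map_pow]
      have h' : x⁻¹ * ((u ^ n : S) : G) * x⁻¹⁻¹ ∈ S := by simpa using h
      rw [← hinv x⁻¹ (u ^ n) h']
      congr 1
      exact Subtype.ext (by simp)
    simp only [hterm] at hu
    rw [Finset.prod_pow_eq_pow_sum, ← index_eq_sum_minimalPeriod] at hu
    have hodd : Odd S.index := Nat.not_even_iff_odd.1 fun h => hSidx h.two_dvd
    rw [hodd.neg_one_pow] at hu
    exact absurd hu units_five_ne

end

/-- No finite group has exactly twenty-one Sylow 5-subgroups. -/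
theorem result {G : Type*} [Group G] [Finite G] : Nat.card (Sylow 5 G) ≠ 21 := by
  haveI : Fact (Nat.Prime 5) := ⟨by norm_num⟩
  revert G
  intro G _ _
  exact Cfsg.Agent.Transfer.card_sylow_ne_of_reduced (fun G' _ _ h1 h2 h3 => no_twentyone G' h1 h2 h3) G

end Cfsg.Agent.S1010
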