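import Cfsg.Statements.S1013
import Mathlib
import Cfsg.Agent.Lib.Block.PrimeDegree

set_option autoImplicit false
open Cfsg

namespace Cfsg.Agent.S1013

/-- Let G be a transitive permutation group of prime degree p having more than one Sylow p-subgroup, and suppose a Sylow p-subgroup P has prime index in its normalizer. Then G is simple. -/
theorem result {α : Type*} [Fintype α] [DecidableEq α] {p : ℕ} [Fact p.Prime] (hα : Fintype.card α = p) (G : Subgroup (Equiv.Perm α)) [MulAction.IsPretransitive ↥G α] (P : Sylow p ↥G) (hn : 1 < Nat.card (Sylow p ↥G)) (ht : (((P : Subgroup ↥G).subgroupOf (Subgroup.normalizer ((P : Subgroup ↥G) : Set ↥G))).index).Prime) : IsSimpleGroup ↥G := by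
  classical
  have hp : p.Prime := Fact.out
  have hPc := Cfsg.Agent.Block.primeDeg_card_sylow hα G P
  have hPnontriv : (P : Subgroup ↥G) ≠ ⊥ := by
    intro h; rw [h, Subgroup.card_bot] at hPc; exact hp.ne_one hPc.symm
  have : Nontrivial ↥G := by
    obtain ⟨x, hx⟩ := (P : Subgroup ↥G).ne_bot_iff_exists_ne_one.1 hPnontriv
    exact ⟨⟨x, 1, fun h => hx (Subtype.ext h)⟩⟩
  have : MulAction.IsPreprimitive ↥G α :=
    MulAction.IsPreprimitive.of_prime_card (by rw [Nat.card_eq_fintype_card, hα]; exact hp)
  refine IsSimpleGroup.mk (fun N hN => ?_)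
  by_cases hbot : N = ⊥
  · exact Or.inl hbot
  refine Or.inr ?_
  have htr : ∀ M : Subgroup ↥G, M.Normal → M ≠ ⊥ → p ∣ Nat.card M := by
    intro M hM hM0
    have : MulAction.IsPretransitive M α := by
      refine MulAction.IsQuasiPreprimitive.isPretransitive_of_normal ?_
      intro h
      apply hM0
      rw [Subgroup.eq_bot_iff_forall]
      intro m hm
      apply Subtype.ext
      ext a
      have : a ∈ MulAction.fixedPoints M α := by rw [h]; trivial
      exact this ⟨m, hm⟩
    obtain ⟨a⟩ : Nonempty α := Fintype.card_pos_iff.1 (hα ▸ hp.pos)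
    have h := (MulAction.index_stabilizer_of_transitive M a).symm
    rw [Nat.card_eq_fintype_card (α := α), hα] at h
    rw [h]
    exact Subgroup.index_dvd_card _
  have hPN : (P : Subgroup ↥G) ≤ N := by
    obtain ⟨R⟩ : Nonempty (Sylow p N) := inferInstance
    have hRc : p ∣ Nat.card (R : Subgroup N) := R.dvd_card_of_dvd_card (htr N hN hbot)
    obtain ⟨T, hT⟩ := (R.isPGroup'.map N.subtype).exists_le_sylow
    have hTc := Cfsg.Agent.Block.primeDeg_card_sylow hα G T
    have hle : p ≤ Nat.card ((R : Subgroup N).map N.subtype) := by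
      rw [Subgroup.card_map_of_injective N.subtype_injective]
      exact Nat.le_of_dvd Nat.card_pos hRc
    have hTN : (T : Subgroup ↥G) ≤ N := by
      rw [← Subgroup.eq_of_le_of_card_ge hT (by rw [hTc]; exact hle)]
      exact Subgroup.map_subtype_le _
    obtain ⟨g, rfl⟩ := MulAction.exists_smul_eq ↥G T P
    intro x hx
    obtain ⟨y, hy, rfl⟩ : ∃ y ∈ (T : Subgroup ↥G), g * y * g⁻¹ = x := by
      obtain ⟨y, hy, rfl⟩ := hx
      exact ⟨y, hy, rfl⟩
    exact hN.conj_mem y (hTN hy) g
  set NP := Subgroup.normalizer ((P : Subgroup ↥G) : Set ↥G) with hNP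
  have hPNP : (P : Subgroup ↥G) ≤ NP := Subgroup.le_normalizer
  have hdvd : (P : Subgroup ↥G).relIndex (N ⊓ NP) ∣ (P : Subgroup ↥G).relIndex NP :=
    ⟨_, (Subgroup.relIndex_mul_relIndex _ _ _ (le_inf hPN hPNP) inf_le_right).symm⟩
  rcases (Nat.dvd_prime ht).1 hdvd with h | h
  · exfalso
    have hM : N ⊓ NP = (P : Subgroup ↥G) :=
      le_antisymm (Subgroup.relIndex_eq_one.1 h) (le_inf hPN hPNP)
    let P' : Sylow p N := P.subtype hPN
    have hself : Subgroup.normalizer ((P' : Subgroup N) : Set N) ≤
        Subgroup.centralizer ((P' : Subgroup N) : Set N) := by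
      intro x hx
      have hxP : (x : ↥G) ∈ (P : Subgroup ↥G) := by
        rw [← hM]
        refine ⟨x.2, ?_⟩
        rw [hNP]
        refine Subgroup.mem_normalizer_iff.2 ?_
        intro y
        constructor
        · intro hy
          exact (Subgroup.mem_normalizer_iff.1 hx ⟨y, hPN hy⟩).1 hy
        · intro hy
          have hyN : y ∈ N := by
            have := N.mul_mem (N.mul_mem (N.inv_mem x.2) (hPN hy)) x.2
            simpa [mul_assoc] using this
          exact (Subgroup.mem_normalizer_iff.1 hx ⟨y, hyN⟩).2 hy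
      intro y hy
      apply Subtype.ext
      have : (x : ↥G) ∈ Subgroup.centralizer ((P : Subgroup ↥G) : Set ↥G) := by
        rw [Cfsg.Agent.Block.primeDeg_centralizer hα G P]; exact hxP
      exact this (y : ↥G) hy
    set f := MonoidHom.transferSylow P' hself
    have hK : ¬ p ∣ Nat.card f.ker := MonoidHom.not_dvd_card_ker_transferSylow P' hself
    have hmem : ∀ x : N, x ∈ f.ker ↔ ¬ p ∣ orderOf x := by
      intro x
      constructor
      · intro hx hd
        apply hK
        refine hd.trans ?_
        rw [show orderOf x = orderOf (⟨x, hx⟩ : f.ker) from (Subgroup.orderOf_coe (⟨x, hx⟩ : f.ker))]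
        exact orderOf_dvd_natCard _
      · intro hx
        rw [MonoidHom.mem_ker, ← orderOf_eq_one_iff]
        have h2 : orderOf (f x) ∣ p := by
          have : Nat.card (P' : Subgroup N) = p := by
            exact (Nat.card_congr (Subgroup.subgroupOfEquivOfLe hPN).toEquiv).trans hPc
          exact (orderOf_dvd_natCard _).trans this.dvd
        rcases (Nat.dvd_prime hp).1 h2 with h | h
        · exact h
        · exact absurd (h ▸ orderOf_map_dvd f x) hx
    have hnormal : (f.ker.map N.subtype).Normal := by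
      constructor
      rintro _ ⟨x, hx, rfl⟩ g
      refine ⟨⟨g * (x : ↥G) * g⁻¹, hN.conj_mem _ x.2 g⟩, (hmem _).2 ?_, rfl⟩
      have : orderOf (⟨g * (x : ↥G) * g⁻¹, hN.conj_mem _ x.2 g⟩ : N) = orderOf x := by
        rw [← Subgroup.orderOf_coe, ← Subgroup.orderOf_coe x]
        exact orderOf_injective (MulAut.conj g).toMonoidHom (MulAut.conj g).injective (x : ↥G)
      rw [this]
      exact (hmem x).1 hx
    have hKbot : f.ker = ⊥ := by
      by_contra h0
      refine hK ?_
      rw [← Subgroup.card_map_of_injective N.subtype_injective]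
      exact htr _ hnormal (fun h1 => h0 ((Subgroup.map_eq_bot_iff_of_injective _ N.subtype_injective).1 h1))
    have hinj : Function.Injective f := (MonoidHom.ker_eq_bot_iff f).1 hKbot
    have hle : Nat.card N ≤ p := by
      refine (Nat.card_le_card_of_injective f hinj).trans ?_
      exact ((Nat.card_congr (Subgroup.subgroupOfEquivOfLe hPN).toEquiv).trans hPc).le
    have hNP' : N = (P : Subgroup ↥G) := (Subgroup.eq_of_le_of_card_ge hPN (hPc.symm ▸ hle)).symm
    have : (P : Subgroup ↥G).Normal := hNP' ▸ hN
    have := Sylow.unique_of_normal P this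
    rw [Nat.card_unique] at hn
    exact lt_irrefl 1 hn
  · have hle : NP ≤ N := by
      have h1 : (N ⊓ NP).relIndex NP = 1 := by
        have h2 := Subgroup.relIndex_mul_relIndex (P : Subgroup ↥G) (N ⊓ NP) NP (le_inf hPN hPNP) inf_le_right
        rw [h] at h2
        exact Nat.eq_of_mul_eq_mul_left ht.pos (by rw [mul_one]; exact h2)
      exact (Subgroup.relIndex_eq_one.1 h1).trans inf_le_left
    rw [eq_top_iff, ← Sylow.normalizer_sup_eq_top (P.subtype hPN)]
    refine sup_le ?_ le_rfl
    rw [Sylow.coe_subtype, Subgroup.map_subgroupOf_eq_of_le hPN]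
    exact hle

end Cfsg.Agent.S1013
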