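import Cfsg.Statements.S1014
import Mathlib
import Cfsg.Agent.Lib.Block.SmallIndex
-- import your own Cfsg.Agent.* helpers here

set_option autoImplicit false
open Cfsg

namespace Cfsg.Agent.S1014

/-- No finite simple group has order 1104 = 2^4 * 3 * 23. -/
theorem result {G : Type*} [Group G] [Finite G] [IsSimpleGroup G] : Nat.card G ≠ 1104 := by
  intro h
  haveI : Fact (Nat.Prime 23) := ⟨by norm_num⟩
  have hG : ¬ IsMulCommutative G := Cfsg.Agent.Block.small_not_comm (by rw [h]; norm_num)
  obtain ⟨P⟩ : Nonempty (Sylow 23 G) := inferInstance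
  obtain ⟨k, hk0, hk, hkd, -, hmul, -⟩ :=
    Cfsg.Agent.Block.small_sylow_number hG P (a := 1) (m := 48) (by rw [h]; norm_num) one_ne_zero
  have hk9 : k ≤ 2 := by have := Nat.le_of_dvd (by norm_num) hkd; omega
  interval_cases k <;> norm_num at hkd
  have hc : Nat.card (Subgroup.normalizer ((P : Subgroup G) : Set G)) = 46 := by omega
  exact Cfsg.Agent.Block.small_sylow_ne_succ (by norm_num) hG P hc (by norm_num) (by rw [hk])

end Cfsg.Agent.S1014
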