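import Cfsg.Statements.S1015
import Mathlib
import Cfsg.Agent.Lib.Block.SmallIndex
import Cfsg.Agent.S0985
-- import your own Cfsg.Agent.* helpers here

set_option autoImplicit false
open Cfsg

namespace Cfsg.Agent.S1015

/-- No finite simple group has order 1200 = 2^4 * 3 * 5^2. -/
theorem result {G : Type*} [Group G] [Finite G] [IsSimpleGroup G] : Nat.card G ≠ 1200 := by
  intro h
  haveI : Fact (Nat.Prime 5) := ⟨by norm_num⟩
  have hG : ¬ IsMulCommutative G := Cfsg.Agent.Block.small_not_comm (by rw [h]; norm_num)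
  obtain ⟨P₀⟩ : Nonempty (Sylow 5 G) := inferInstance
  obtain ⟨k, hk0, hs, hkd, -, -, hfac⟩ :=
    Cfsg.Agent.Block.small_sylow_number hG P₀ (a := 2) (m := 48) (by rw [h]; norm_num) two_ne_zero
  have hk9 : k ≤ 9 := by have := Nat.le_of_dvd (by norm_num) hkd; omega
  interval_cases k <;> norm_num at hkd
  · rw [h] at hfac
    norm_num [Nat.factorial] at hfac
  norm_num at hs
  obtain ⟨P, R, hPR, hidx⟩ := Cfsg.Agent.S0985.result (G := G) 5 2 (by rw [hs]; decide)
  have hPc : ∀ Q : Sylow 5 G, Nat.card (Q : Subgroup G) = 25 := fun Q => by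
    rw [Q.card_eq_multiplicity, h]
    have : (1200 : ℕ).factorization 5 = 2 := by
      rw [show (1200 : ℕ) = 5 ^ 2 * 48 by norm_num, Nat.factorization_mul (by norm_num) (by norm_num),
        Finsupp.add_apply, Nat.Prime.factorization_pow (by norm_num),
        Nat.factorization_eq_zero_of_not_dvd (by norm_num : ¬ 5 ∣ 48)]
      simp
    rw [this]; norm_num
  set D : Subgroup G := (P : Subgroup G) ⊓ (R : Subgroup G) with hD
  have hDidx : Nat.card D * ((R : Subgroup G).subgroupOf (P : Subgroup G)).index = 25 := by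
    rw [← hPc P, ← Subgroup.card_mul_index ((R : Subgroup G).subgroupOf (P : Subgroup G))]
    congr 1
    exact Nat.card_congr ⟨fun x => ⟨⟨x.1, x.2.1⟩, x.2.2⟩, fun x => ⟨x.1.1, x.1.2, x.2⟩, fun _ => rfl, fun _ => rfl⟩
  have hD1 : D ≠ ⊥ := fun e => by
    rw [e, Subgroup.card_bot, one_mul] at hDidx
    omega
  set N := Subgroup.normalizer (D : Set G) with hN
  have hle : ∀ Q : Sylow 5 G, D ≤ (Q : Subgroup G) → (Q : Subgroup G) ≤ N := fun Q hQ x hx => by
    have hcm : IsMulCommutative (Q : Subgroup G) := IsPGroup.isMulCommutative_of_card_eq_prime_sq (p := 5) (by rw [hPc Q]; norm_num)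
    refine Subgroup.mem_normalizer_fintype fun d hd => ?_
    have hc : x * d = d * x := congrArg Subtype.val (hcm.is_comm.comm (⟨x, hx⟩ : (Q : Subgroup G)) ⟨d, hQ hd⟩)
    show x * d * x⁻¹ ∈ D
    rw [hc, mul_inv_cancel_right]; exact hd
  have hP : (P : Subgroup G) ≤ N := hle P inf_le_left
  have hR : (R : Subgroup G) ≤ N := hle R inf_le_right
  have hNtop : N ≠ ⊤ := fun e => by
    rw [hN, Subgroup.normalizer_eq_top_iff] at e
    rcases e.eq_bot_or_eq_top with e' | e'
    · exact hD1 e'
    · have : Nat.card D ≤ Nat.card (P : Subgroup G) := Subgroup.card_le_of_le inf_le_left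
      rw [e', Subgroup.card_top, h, hPc] at this
      omega
  have hn : 6 ≤ Nat.card (Sylow 5 N) := by
    have h1 : Nat.card (Sylow 5 N) ≠ 1 := fun e => by
      haveI := (Nat.card_eq_one_iff_unique.1 e).1
      exact hPR (Sylow.subtype_injective (Subsingleton.elim (P.subtype hP) (R.subtype hR)))
    have h2 : Nat.card (Sylow 5 N) % 5 = 1 := card_sylow_modEq_one 5 N
    omega
  have hNc : 150 ≤ Nat.card N := by
    rw [← Subgroup.card_mul_index ((P.subtype hP : Sylow 5 N) : Subgroup N),
      Sylow.coe_subtype, Nat.card_congr (Subgroup.subgroupOfEquivOfLe hP).toEquiv, hPc]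
    have h4 := Nat.le_of_dvd (Nat.pos_of_ne_zero Subgroup.index_ne_zero_of_finite)
      ((P.subtype hP).card_dvd_index)
    rw [Sylow.coe_subtype] at h4
    omega
  have hm8 : N.index ≤ 8 := by
    have := Subgroup.card_mul_index N
    rw [h] at this
    nlinarith
  have h1 := (Cfsg.Agent.Block.small_two_card_dvd hG N hNtop).trans (Nat.factorial_dvd_factorial hm8)
  rw [h] at h1
  norm_num [Nat.factorial] at h1

end Cfsg.Agent.S1015
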