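import Cfsg.Statements.S1017
import Cfsg.Agent.Lib.Block.OrderPrimeCases

set_option autoImplicit false
open Cfsg

namespace Cfsg.Agent.S1017

open Cfsg.Agent.Block Cfsg.Agent.Char

/-- No finite simple group has order 2016 = 2^5 * 3^2 * 7. -/
theorem result {G : Type*} [Group G] [Finite G] [IsSimpleGroup G] : Nat.card G ≠ 2016 := by
  intro h
  haveI : Fact (Nat.Prime 7) := ⟨by norm_num⟩
  have hna : ¬ IsMulCommutative G := small_not_comm (by rw [h]; norm_num)
  obtain ⟨M, hM⟩ := exists_isPModular 7 (by norm_num)
  obtain ⟨P⟩ : Nonempty (Sylow 7 G) := inferInstance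
  have hcard : Nat.card G = 7 * 288 := by rw [h]
  obtain ⟨e, k, c, hk1, hkm, he, he1, hep, hc, hprod⟩ :=
    OrdP.exists_e' hna hcard (by norm_num) (by norm_num) (by norm_num) P
  have hP := OrdP.card_sylow_eq hcard (by norm_num) P
  have hcm : c ∣ 288 := ⟨e * (7 * k + 1), by rw [← mul_assoc]; exact hprod.symm⟩
  have hk : k ≤ 41 := by have := Nat.le_of_dvd (by norm_num) hkm; omega
  interval_cases k <;> try (norm_num at hkm)
  · have hce : c * e = 8 := by omega
    have he6 : e ≤ 6 := Nat.le_of_dvd (by norm_num) hep
    have he2 : e = 2 ∧ c ≠ 1 := by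
      interval_cases e <;> omega
    obtain ⟨rfl, hc1⟩ := he2
    obtain ⟨q, v, hq, hqp, hv, hov⟩ := OrdP.exists_prime_elem (p := 7) (by norm_num) hc hcm hc1
    refine OrdP.two_false hna hM (by norm_num) P hP he hq hqp hv hov ?_
    intro d hd hlt hdc d' hd' hadj hpd'
    rw [h] at hd hd' hlt
    have hd44 : d ≤ 44 := by nlinarith
    interval_cases d <;> first
      | omega
      | (norm_num at hd; done)
      | (rcases hadj with ha | ha
         · obtain rfl := eq_tsub_of_add_eq ha
           first | omega | (norm_num at hd'; done) | (norm_num at hpd'; done)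
         · subst ha
           first | omega | (norm_num at hd'; done) | (norm_num at hpd'; done))
  · have h1 := Nat.eq_one_of_mul_eq_one_left (show c * e = 1 by omega)
    omega

end Cfsg.Agent.S1017
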