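import Cfsg.Statements.S1018
import Mathlib
-- import your own Cfsg.Agent.* helpers here

set_option autoImplicit false
open Cfsg

namespace Cfsg.Agent.S1018

/-- Let P be a Sylow p-subgroup of order p of a finite group G, and consider the action of G on the left cosets of the normalizer N of P. Then every element of order p fixes exactly one coset, and an element of N that does not centralize P fixes at most as many cosets as there are orbits of P. -/
theorem result {G : Type*} [Group G] [Finite G] (p : ℕ) [Fact p.Prime] (P : Sylow p G) (hP : Nat.card ↥(P : Subgroup G) = p) : (∀ y : G, orderOf y = p → Nat.card (MulAction.fixedBy (G ⧸ Subgroup.normalizer ((P : Subgroup G) : Set G)) y) = 1) ∧ ∀ x : G, x ∈ Subgroup.normalizer ((P : Subgroup G) : Set G) → x ∉ Subgroup.centralizer ((P : Subgroup G) : Set G) → Nat.card (MulAction.fixedBy (G ⧸ Subgroup.normalizer ((P : Subgroup G) : Set G)) x) ≤ Nat.card (MulAction.orbitRel.Quotient ↥(P : Subgroup G) (G ⧸ Subgroup.normalizer ((P : Subgroup G) : Set G))) := by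
  classical
  have hp : p.Prime := Fact.out
  have hPc' : Nat.card (P : Subgroup G) = p := hP
  set N := Subgroup.normalizer ((P : Subgroup G) : Set G) with hN
  have hfix : ∀ (y a : G), y • (a : G ⧸ N) = a ↔ a⁻¹ * y * a ∈ N := by
    intro y a
    rw [MulAction.Quotient.smul_coe, smul_eq_mul, QuotientGroup.eq]
    rw [show a⁻¹ * y * a = ((y * a)⁻¹ * a)⁻¹ by group, inv_mem_iff]
  have hord : ∀ y ∈ N, y ^ p = 1 → y ∈ (P : Subgroup G) := by
    intro y hy hyp
    have hz : IsPGroup p (Subgroup.zpowers y) := by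
      intro g
      refine ⟨1, Subtype.ext ?_⟩
      obtain ⟨m, hm⟩ := Subgroup.mem_zpowers_iff.1 g.2
      rw [SubmonoidClass.coe_pow, ← hm, pow_one, ← zpow_natCast, ← zpow_mul, mul_comm, zpow_mul,
        zpow_natCast, hyp, one_zpow]
      rfl
    have h := hz.inf_normalizer_sylow P
    exact (Subgroup.mem_inf.1 (h.le (Subgroup.mem_inf.2 ⟨Subgroup.mem_zpowers y, hy⟩))).2
  constructor
  · intro y hy
    obtain ⟨Q, hQ⟩ := (IsPGroup.of_card (p := p) (n := 1) (by rw [Nat.card_zpowers, hy, pow_one]) :
      IsPGroup p (Subgroup.zpowers y)).exists_le_sylow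
    obtain ⟨a, ha⟩ := MulAction.exists_smul_eq G P Q
    have hyQ : y ∈ (Q : Subgroup G) := hQ (Subgroup.mem_zpowers y)
    rw [← ha, Sylow.coe_subgroup_smul, Subgroup.mem_smul_pointwise_iff_exists] at hyQ
    obtain ⟨w, hw, hwy⟩ := hyQ
    have hwy' : a * w * a⁻¹ = y := hwy
    have hw1 : w ≠ 1 := by
      rintro rfl
      rw [mul_one, mul_inv_cancel] at hwy'
      rw [← hwy', orderOf_one] at hy
      exact hp.one_lt.ne hy
    rw [Nat.card_eq_one_iff_unique]
    refine ⟨⟨?_⟩, ⟨⟨(a : G ⧸ N), ?_⟩⟩⟩
    · rintro ⟨u, hu⟩ ⟨v, hv⟩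
      apply Subtype.ext
      have key : ∀ b : G ⧸ N, y • b = b → b = (a : G ⧸ N) := by
        intro b hb
        obtain ⟨b, rfl⟩ := QuotientGroup.mk_surjective b
        rw [hfix] at hb
        have h1 := hord _ hb (by
          rw [show b⁻¹ * y * b = b⁻¹ * y * b⁻¹⁻¹ by rw [inv_inv], conj_pow, ← hy, pow_orderOf_eq_one]
          group)
        rw [QuotientGroup.eq]
        obtain ⟨m, hm⟩ := Subgroup.mem_zpowers_iff.1
          (mem_zpowers_of_prime_card hPc' (g := ⟨w, hw⟩) (g' := ⟨b⁻¹ * y * b, h1⟩)
            (fun h => hw1 (congrArg Subtype.val h)))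
        have hm' : w ^ m = b⁻¹ * y * b := by simpa using congrArg Subtype.val hm
        refine Subgroup.mem_normalizer_fintype fun z hz => ?_
        obtain ⟨j, hj⟩ := Subgroup.mem_zpowers_iff.1
          (mem_zpowers_of_prime_card hPc' (g := ⟨b⁻¹ * y * b, h1⟩) (g' := ⟨z, hz⟩)
            (fun h => hw1 (by
              have h' : b⁻¹ * y * b = 1 := congrArg Subtype.val h
              have hy1 : y = 1 := by
                calc y = b * (b⁻¹ * y * b) * b⁻¹ := by group
                  _ = 1 := by rw [h', mul_one, mul_inv_cancel]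
              rw [hy1, orderOf_one] at hy
              exact absurd hy hp.one_lt.ne)))
        have hj' : (b⁻¹ * y * b) ^ j = z := by simpa using congrArg Subtype.val hj
        -- conjugating by b⁻¹ a moves P to P
        show b⁻¹ * a * z * (b⁻¹ * a)⁻¹ ∈ (P : Subgroup G)
        obtain ⟨l, hl⟩ := Subgroup.mem_zpowers_iff.1
          (mem_zpowers_of_prime_card hPc' (g := ⟨w, hw⟩) (g' := ⟨z, hz⟩)
            (fun h => hw1 (congrArg Subtype.val h)))
        have hl' : w ^ l = z := by simpa using congrArg Subtype.val hl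
        rw [← hl', ← conj_zpow]
        refine zpow_mem ?_ l
        have : b⁻¹ * a * w * (b⁻¹ * a)⁻¹ = b⁻¹ * y * b := by rw [← hwy']; group
        rw [this]; exact h1
      exact (key u hu).trans (key v hv).symm
    · rw [MulAction.mem_fixedBy, hfix, ← hwy', show a⁻¹ * (a * w * a⁻¹) * a = w by group]
      exact Subgroup.le_normalizer hw
  · intro x hxN hxC
    refine Nat.card_le_card_of_injective
      (fun b => (Quotient.mk'' (b : G ⧸ N) : MulAction.orbitRel.Quotient (P : Subgroup G) (G ⧸ N))) ?_
    rintro ⟨α, hα⟩ ⟨β, hβ⟩ h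
    apply Subtype.ext
    show α = β
    obtain ⟨⟨u, hu⟩, hu'⟩ := Quotient.exact' h
    change u • β = α at hu'
    rw [← hu']
    rw [MulAction.mem_fixedBy] at hα hβ
    have hc : x * u * x⁻¹ ∈ (P : Subgroup G) := (Subgroup.mem_normalizer_iff.1 hxN u).1 hu
    have hfx : (u⁻¹ * (x * u * x⁻¹)) • β = β := by
      have hxi : x⁻¹ • β = β := inv_smul_eq_iff.2 hβ.symm
      rw [mul_smul, mul_smul, mul_smul, hxi, hu', hα, ← hu', inv_smul_smul]
    by_cases hv : u⁻¹ * (x * u * x⁻¹) = 1
    · rw [inv_mul_eq_one] at hv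
      by_cases hu1 : u = 1
      · rw [hu1, one_smul]
      exfalso
      apply hxC
      rw [Subgroup.mem_centralizer_iff]
      intro z hz
      obtain ⟨m, hm⟩ := Subgroup.mem_zpowers_iff.1
        (mem_zpowers_of_prime_card hPc' (g := ⟨u, hu⟩) (g' := ⟨z, hz⟩)
          (fun h => hu1 (congrArg Subtype.val h)))
      have hm' : u ^ m = z := by simpa using congrArg Subtype.val hm
      have hcomm : Commute x u := by
        show x * u = u * x
        nth_rewrite 2 [hv]
        group
      rw [← hm']
      exact (hcomm.zpow_right m).eq.symm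
    · -- the point is fixed by all of P
      have hvP : u⁻¹ * (x * u * x⁻¹) ∈ (P : Subgroup G) := mul_mem (inv_mem hu) hc
      obtain ⟨m, hm⟩ := Subgroup.mem_zpowers_iff.1
        (mem_zpowers_of_prime_card hPc' (g := ⟨_, hvP⟩) (g' := ⟨u, hu⟩)
          (fun h => hv (congrArg Subtype.val h)))
      have hm' : (u⁻¹ * (x * u * x⁻¹)) ^ m = u := by simpa using congrArg Subtype.val hm
      have hst : u⁻¹ * (x * u * x⁻¹) ∈ MulAction.stabilizer G β := hfx
      have := Subgroup.zpow_mem _ hst m
      rw [hm'] at this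
      exact this

end Cfsg.Agent.S1018
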