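import Cfsg.Statements.S1019
import Mathlib

set_option autoImplicit false
open Cfsg

namespace Cfsg.Agent.S1019

/-- Let H be a subgroup of a finite group G and x an element of H. In the action of G on the left cosets of H, the number of cosets fixed by x, multiplied by the size of the conjugacy class of x, equals the index of H multiplied by the number of conjugates of x that lie in H. -/
theorem result {G : Type*} [Group G] [Finite G] (H : Subgroup G) (x : G) (hx : x ∈ H) : Nat.card (MulAction.fixedBy (G ⧸ H) x) * Nat.card {g : G // IsConj x g} = H.index * Nat.card {g : G // IsConj x g ∧ g ∈ H} := by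
  classical
  let C := {g : G // IsConj x g}
  let e : (Σ y : C, MulAction.fixedBy (G ⧸ H) (y : G)) ≃
      (Σ c : G ⧸ H, {y : C // (y : G) • c = c}) :=
    { toFun := fun a => ⟨a.2.1, a.1, a.2.2⟩
      invFun := fun a => ⟨a.2.1, a.1, a.2.2⟩
      left_inv := fun a => rfl
      right_inv := fun a => rfl }
  have := Fintype.ofFinite G
  have h1 : ∀ y : C, Nat.card (MulAction.fixedBy (G ⧸ H) (y : G))
      = Nat.card (MulAction.fixedBy (G ⧸ H) x) := by
    rintro ⟨y, hy⟩
    obtain ⟨c, hc⟩ := isConj_iff.1 hy
    refine (Nat.card_congr (Equiv.subtypeEquiv (MulAction.toPerm c) ?_)).symm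
    intro q
    subst hc
    simp [MulAction.mem_fixedBy, mul_smul]
  have h2 : ∀ c : G ⧸ H, Nat.card {y : C // (y : G) • c = c}
      = Nat.card {g : G // IsConj x g ∧ g ∈ H} := by
    intro c
    induction c using QuotientGroup.induction_on with
    | H a =>
      refine Nat.card_congr
        { toFun := fun y => ⟨a⁻¹ * (y.1 : G) * a, ?_, ?_⟩
          invFun := fun g => ⟨⟨a * (g : G) * a⁻¹, ?_⟩, ?_⟩
          left_inv := fun y => by ext; simp [mul_assoc]
          right_inv := fun g => by ext; simp [mul_assoc] }
      · exact y.1.2.trans (isConj_iff.2 ⟨a⁻¹, by group⟩)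
      · have h : (((y.1 : G) * a : G) : G ⧸ H) = (a : G ⧸ H) := y.2
        simpa [mul_assoc] using QuotientGroup.eq.1 h.symm
      · exact g.2.1.trans (isConj_iff.2 ⟨a, rfl⟩)
      · change ((a * (g : G) * a⁻¹ * a : G) : G ⧸ H) = (a : G ⧸ H)
        rw [QuotientGroup.eq]
        simpa [mul_assoc] using H.inv_mem g.2.2
  have h := Nat.card_congr e
  rw [Nat.card_sigma, Nat.card_sigma, Finset.sum_congr rfl (fun y _ => h1 y),
    Finset.sum_congr rfl (fun c _ => h2 c), Finset.sum_const, Finset.sum_const,
    Finset.card_univ, Finset.card_univ, ← Nat.card_eq_fintype_card, ← Nat.card_eq_fintype_card] at h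
  simp only [smul_eq_mul] at h
  rw [mul_comm]
  exact h

end Cfsg.Agent.S1019
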