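import Cfsg.Statements.S1022
import Cfsg.Agent.Lib.Block.OrderPrimeSelfFull
import Cfsg.Agent.Lib.Block.OrderPrimeCount

set_option autoImplicit false
open Cfsg

namespace Cfsg.Agent.S1022

open Cfsg.Agent.Block Cfsg.Agent.Char

universe u

/-- A Sylow 19-normalizer of index 96 forces a Sylow 7-normalizer of index at most 8. -/
private theorem not_ninety_six {G : Type u} [Group G] [Finite G] [IsSimpleGroup G]
    (hna : ¬ IsMulCommutative G) (h : Nat.card G = 459648) [Fact (Nat.Prime 19)] (P : Sylow 19 G)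
    (hP : Nat.card P = 19) {c : ℕ}
    (hc : Nat.card (Subgroup.centralizer ((P : Subgroup G) : Set G)) = 19 * c)
    (hc' : c ∈ [126, 84, 42, 28, 14])
    (hN : (Subgroup.normalizer ((P : Subgroup G) : Set G)).index = 96) : False := by
  classical
  haveI : Fact (Nat.Prime 7) := ⟨by norm_num⟩
  set C := Subgroup.centralizer ((P : Subgroup G) : Set G) with hCdef
  set N := Subgroup.normalizer ((P : Subgroup G) : Set G) with hNdef
  obtain ⟨T⟩ : Nonempty (Sylow 7 C) := inferInstance
  have hT : Nat.card T = 7 := by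
    rw [T.card_eq_multiplicity, hc]
    have h7 : ∃ r, c = 7 * r ∧ ¬ 7 ∣ r := by
      simp only [List.mem_cons, List.not_mem_nil, or_false] at hc'
      rcases hc' with rfl | rfl | rfl | rfl | rfl
      exacts [⟨18, rfl, by decide⟩, ⟨12, rfl, by decide⟩, ⟨6, rfl, by decide⟩, ⟨4, rfl, by decide⟩,
        ⟨2, rfl, by decide⟩]
    obtain ⟨r, rfl, hr⟩ := h7
    have hr0 : r ≠ 0 := fun e => hr (e ▸ dvd_zero 7)
    rw [show 19 * (7 * r) = 7 * (19 * r) by ring, Nat.factorization_mul (by norm_num) (by omega),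
      Finsupp.add_apply, Nat.Prime.factorization_self (by norm_num),
      Nat.factorization_eq_zero_of_not_dvd (by omega), add_zero, pow_one]
  have hPC : (P : Subgroup G) ≤ C := by
    haveI : IsCyclic (P : Subgroup G) := isCyclic_of_prime_card hP
    intro x hx
    exact Subgroup.mem_centralizer_iff.2 fun y hy => by
      have := Subtype.ext_iff.1 (IsCyclic.commGroup.mul_comm (⟨y, hy⟩ : (P : Subgroup G)) ⟨x, hx⟩)
      simpa using this
  have hn1 : Nat.card (Sylow 7 C) = 1 := by
    set NT := Subgroup.normalizer ((T : Subgroup C) : Set C) with hNT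
    have hle : (P : Subgroup G).subgroupOf C ≤ NT := by
      intro x hx
      have hcm : ∀ y : C, x * y = y * x := fun y =>
        Subtype.ext (Subgroup.mem_centralizer_iff.1 y.2 (x : G) hx)
      refine Subgroup.mem_normalizer_iff.2 fun y => ?_
      rw [hcm y, mul_inv_cancel_right]
    have h19 : 19 ∣ Nat.card NT := by
      have := Subgroup.card_dvd_of_le hle
      rwa [Nat.card_congr (Subgroup.subgroupOfEquivOfLe hPC).toEquiv,
        show Nat.card (P : Subgroup G) = 19 from hP] at this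
    obtain ⟨r, hr⟩ := h19
    have h1 := NT.card_mul_index
    have hidx : Nat.card (Sylow 7 C) = NT.index := by rw [hNT]; exact T.card_eq_index_normalizer
    rw [← hidx, hc, hr, mul_assoc] at h1
    have h2 : Nat.card (Sylow 7 C) ∣ c :=
      ⟨r, by rw [← Nat.eq_of_mul_eq_mul_left (by norm_num) h1, mul_comm]⟩
    have h3 : Nat.card (Sylow 7 C) % 7 = 1 := card_sylow_modEq_one 7 C
    have h4 : ∀ c ∈ [126, 84, 42, 28, 14], ∀ n ∈ Nat.divisors c, n % 7 = 1 → n = 1 := by decide +kernel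
    exact h4 c hc' _ (Nat.mem_divisors.2 ⟨h2, by
      simp only [List.mem_cons, List.not_mem_nil, or_false] at hc'; omega⟩) h3
  haveI : Subsingleton (Sylow 7 C) := (Nat.card_eq_one_iff_unique.1 hn1).1
  set T' := (T : Subgroup C).map C.subtype with hT'def
  have hmem : ∀ x : G, x ∈ T' ↔ x ∈ C ∧ x ^ 7 = 1 := by
    intro x
    constructor
    · rintro ⟨y, hy, rfl⟩
      refine ⟨y.2, ?_⟩
      have h1 := pow_card_eq_one' (x := (⟨y, hy⟩ : (T : Subgroup C)))
      rw [show Nat.card (T : Subgroup C) = 7 from hT] at h1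
      have h2 := congrArg (fun z : (T : Subgroup C) => ((z : C) : G)) h1
      simpa using h2
    · rintro ⟨hx, hx7⟩
      refine ⟨⟨x, hx⟩, ?_, rfl⟩
      have hpg : IsPGroup 7 (Subgroup.zpowers (⟨x, hx⟩ : C)) := by
        have hd7 : orderOf (⟨x, hx⟩ : C) ∣ 7 ^ 1 :=
          orderOf_dvd_of_pow_eq_one (Subtype.ext (by simpa using hx7))
        obtain ⟨j, -, hj⟩ := (Nat.dvd_prime_pow (by norm_num : Nat.Prime 7)).1 hd7
        exact IsPGroup.of_card (show Nat.card (Subgroup.zpowers (⟨x, hx⟩ : C)) = 7 ^ j by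
          rw [Nat.card_zpowers, hj])
      obtain ⟨Q, hQ⟩ := hpg.exists_le_sylow
      rw [Subsingleton.elim Q T] at hQ
      exact hQ (Subgroup.mem_zpowers _)
  have hconj : ∀ g ∈ N, ∀ x ∈ T', g * x * g⁻¹ ∈ T' := by
    intro g hg x hx
    obtain ⟨hxC, hx7⟩ := (hmem x).1 hx
    refine (hmem _).2 ⟨Subgroup.mem_centralizer_iff.2 fun y hy => ?_, by
      rw [conj_pow, hx7, mul_one, mul_inv_cancel]⟩
    have h1 : g⁻¹ * y * g⁻¹⁻¹ ∈ (P : Subgroup G) :=
      (Subgroup.mem_normalizer_iff.1 (inv_mem hg) y).1 hy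
    have h2 := Subgroup.mem_centralizer_iff.1 hxC _ h1
    rw [inv_inv] at h2
    calc y * (g * x * g⁻¹) = g * ((g⁻¹ * y * g) * x) * g⁻¹ := by group
      _ = g * (x * (g⁻¹ * y * g)) * g⁻¹ := by rw [h2]
      _ = g * x * g⁻¹ * y := by group
  have hNle : N ≤ Subgroup.normalizer (T' : Set G) := by
    intro g hg
    refine Subgroup.mem_normalizer_iff.2 fun x => ⟨hconj g hg x, fun hx => ?_⟩
    have := hconj g⁻¹ (inv_mem hg) _ hx
    simpa [mul_assoc] using this
  have hT'c : Nat.card T' = 7 := by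
    rw [hT'def, Nat.card_congr (Subgroup.equivMapOfInjective _ _ C.subtype_injective).toEquiv.symm]
    exact hT
  obtain ⟨Q, hQ⟩ : ∃ Q : Sylow 7 G, (Q : Subgroup G) = T' := by
    refine ⟨Sylow.ofCard T' ?_, rfl⟩
    rw [hT'c, h, show 459648 = 7 * 65664 by norm_num, Nat.factorization_mul (by norm_num) (by norm_num),
      Finsupp.add_apply, Nat.Prime.factorization_self (by norm_num),
      Nat.factorization_eq_zero_of_not_dvd (by norm_num), add_zero, pow_one]
  have hd := Subgroup.index_dvd_of_le hNle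
  rw [hN, ← hQ] at hd
  have h7 : (Subgroup.normalizer ((Q : Subgroup G) : Set G)).index % 7 = 1 := by
    have e : Nat.card (Sylow 7 G) = (Subgroup.normalizer ((Q : Subgroup G) : Set G)).index :=
      Q.card_eq_index_normalizer
    rw [← e]; exact card_sylow_modEq_one 7 G
  have hne := small_sylow_proper hna Q (by rw [h]; norm_num)
  set d := (Subgroup.normalizer ((Q : Subgroup G) : Set G)).index with hddef
  have h8 : d = 1 ∨ d = 8 := by
    have h4 : ∀ n ∈ Nat.divisors 96, n % 7 = 1 → n = 1 ∨ n = 8 := by decide +kernel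
    exact h4 d (Nat.mem_divisors.2 ⟨hd, by norm_num⟩) h7
  rcases h8 with h8 | h8
  · exact hne (Subgroup.index_eq_one.1 h8)
  · have := small_two_card_dvd hna _ hne
    rw [← hddef, h8, h] at this
    norm_num [Nat.factorial] at this

/-- Signed degrees, with counters. -/
private def kinds : List (ℤ × ℕ × ℕ × ℕ) :=
  [(-56, 1, 0, 0), (96, 0, 1, 0), (-189, 0, 0, 1)]

private def chk (t : ℤ × ℕ × ℕ × ℕ) : Bool :=
  decide (¬ t.1.natAbs ∣ 459648) ||
    (decide (1 ≤ t.2.1) && decide (1 ≤ t.2.2.1) && decide (1 ≤ t.2.2.2))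

private def chk₀ (t : ℤ × ℕ × ℕ × ℕ) : Bool :=
  decide (¬ t.1.natAbs ∣ 459648)

private theorem chk_six : OrdP.allPicks chk kinds 5 (1, 0, 0, 0) = true := by decide +kernel

private theorem chk_three : OrdP.allPicks chk₀ kinds 2 (1, 0, 0, 0) = true := by decide +kernel

private theorem deg_list : ∀ d ∈ List.range 678, d ∣ 459648 →
    ((d % 19 = 1 ∧ 39 ≤ d) ∨ (d % 19 = 18 ∧ 56 ≤ d)) → d = 56 ∨ d = 96 ∨ d = 189 := by
  decide +kernel

/-- The values at an involution with centralizer too small for three characters. -/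
private theorem no_three {G : Type u} [Group G] [Finite G] [IsSimpleGroup G]
    (hna : ¬ IsMulCommutative G) (h : Nat.card G = 459648) [Fact (Nat.Prime 19)] {M : Ideal AlgInt}
    (hM : IsPModular 19 M) {z : G} (hz : orderOf z = 2) (X : Finset (IrrCharacter G))
    {δ : IrrCharacter G → ℤ}
    (hδ : ∀ χ ∈ X, (charDegree (χ : G → ℂ) : ℤ) ≡ δ χ [ZMOD 19] ∧ (δ χ = 1 ∨ δ χ = -1) ∧
      χ ≠ trivialIrr G ∧ MemLocalIdeal M ((χ : G → ℂ) z - (δ χ : ℂ)))
    (hbd : 1 + ∑ χ ∈ X, Complex.normSq ((χ : G → ℂ) z) ≤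
      (Nat.card (Subgroup.centralizer ({z} : Set G)) : ℝ))
    {a b c : IrrCharacter G} (ha : a ∈ X) (hb : b ∈ X) (hc : c ∈ X)
    (hda : charDegree (a : G → ℂ) = 56) (hdb : charDegree (b : G → ℂ) = 96)
    (hdc : charDegree (c : G → ℂ) = 189) : False := by
  classical
  have key : ∀ χ ∈ X, ∃ v : ℤ, (χ : G → ℂ) z = (v : ℂ) ∧
      (4 : ℤ) ∣ (charDegree (χ : G → ℂ) : ℤ) - v ∧ v ≡ charDegree (χ : G → ℂ) [ZMOD 19] ∧
      v ≠ charDegree (χ : G → ℂ) ∧ -(charDegree (χ : G → ℂ) : ℤ) ≤ v ∧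
      v < charDegree (χ : G → ℂ) ∧
      (charDegree (χ : G → ℂ) : ℤ) ∣ ((Subgroup.centralizer ({z} : Set G)).index : ℤ) * v := by
    intro χ hχ
    obtain ⟨hd, hs, hne, hcong⟩ := hδ χ hχ
    obtain ⟨v, hv, h4⟩ := OrdP.involution_value hna χ (x := z) (by rw [← hz]; exact pow_orderOf_eq_one z)
    rw [hv, ← Int.cast_sub, ideal_intCast_iff hM] at hcong
    have hne' : v ≠ charDegree (χ : G → ℂ) := fun e => by
      have h1 : z = 1 := OrdP.eq_one_of_value hne (by rw [hv, charDeg_spec', e, Int.cast_natCast])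
      rw [h1, orderOf_one] at hz
      norm_num at hz
    have hn := OrdP.norm_value_le χ z
    rw [hv, Complex.norm_intCast] at hn
    have hn' : |v| ≤ (charDegree (χ : G → ℂ) : ℤ) := by exact_mod_cast hn
    obtain ⟨h5, h6⟩ := abs_le.1 hn'
    exact ⟨v, hv, h4, ((Int.modEq_iff_dvd.2 hcong).symm.trans hd.symm), hne', h5,
      lt_of_le_of_ne h6 hne', OrdP.index_dvd χ hv⟩
  obtain ⟨va, hva, ha4, ha19, -, ha1, ha2, haK⟩ := key a ha
  obtain ⟨vb, hvb, hb4, hb19, -, hb1, hb2, hbK⟩ := key b hb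
  obtain ⟨vc, hvc, hc4, hc19, -, hc1, hc2, hcK⟩ := key c hc
  rw [hda] at ha4 ha19 ha1 ha2 haK
  rw [hdb] at hb4 hb19 hb1 hb2 hbK
  rw [hdc] at hc4 hc19 hc1 hc2 hcK
  rw [Int.ModEq] at ha19 hb19 hc19
  push_cast at ha4 ha19 ha1 ha2 haK hb4 hb19 hb1 hb2 hbK hc4 hc19 hc1 hc2 hcK
  set K := (Subgroup.centralizer ({z} : Set G)).index with hK
  obtain rfl : va = -20 := by omega
  have hK14 : 14 ∣ K := by omega
  have hvb' : vb = 20 ∨ vb = -56 := by omega
  have hvc' : vc = 113 ∨ vc = 37 ∨ vc = -39 ∨ vc = -115 := by omega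
  have hK12 : 12 ∣ K := by rcases hvb' with rfl | rfl <;> omega
  have hK9 : 9 ∣ K := by rcases hvc' with rfl | rfl | rfl | rfl <;> omega
  have hK252 : 252 ∣ K := by omega
  have hmul := (Subgroup.centralizer ({z} : Set G)).card_mul_index
  rw [h, ← hK] at hmul
  have hK0 : K ≠ 0 := fun e => by rw [e, mul_zero] at hmul; norm_num at hmul
  have hC : Nat.card (Subgroup.centralizer ({z} : Set G)) ≤ 1824 := by
    have h1 : 252 ≤ K := Nat.le_of_dvd (Nat.pos_of_ne_zero hK0) hK252
    have h2 := Nat.mul_le_mul_left (Nat.card (Subgroup.centralizer ({z} : Set G))) h1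
    omega
  have hsub : ({a, b, c} : Finset (IrrCharacter G)) ⊆ X := by
    intro x hx
    simp only [Finset.mem_insert, Finset.mem_singleton] at hx
    rcases hx with rfl | rfl | rfl <;> assumption
  have hle := Finset.sum_le_sum_of_subset_of_nonneg hsub
    (f := fun χ : IrrCharacter G => Complex.normSq ((χ : G → ℂ) z))
    fun x _ _ => Complex.normSq_nonneg _
  have hab : a ≠ b := fun e => by rw [e, hdb] at hda; omega
  have hac : a ≠ c := fun e => by rw [e, hdc] at hda; omega
  have hbc : b ≠ c := fun e => by rw [e, hdc] at hdb; omega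
  rw [Finset.sum_insert (by simp [hab, hac]), Finset.sum_pair hbc, hva, hvb, hvc,
    ← Complex.ofReal_intCast, ← Complex.ofReal_intCast, ← Complex.ofReal_intCast,
    Complex.normSq_ofReal, Complex.normSq_ofReal, Complex.normSq_ofReal] at hle
  have hC' : (Nat.card (Subgroup.centralizer ({z} : Set G)) : ℝ) ≤ 1824 := by exact_mod_cast hC
  have hb2' : (400 : ℝ) ≤ (vb : ℝ) * vb := by rcases hvb' with rfl | rfl <;> norm_num
  have hc2' : (1369 : ℝ) ≤ (vc : ℝ) * vc := by rcases hvc' with rfl | rfl | rfl | rfl <;> norm_num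
  push_cast at hle
  linarith

/-- No finite simple group has order 459648 = 2^7 * 3^3 * 7 * 19. -/
theorem result {G : Type*} [Group G] [Finite G] [IsSimpleGroup G] : Nat.card G ≠ 459648 := by
  classical
  intro h
  haveI : Fact (Nat.Prime 19) := ⟨by norm_num⟩
  have hna : ¬ IsMulCommutative G := small_not_comm (by rw [h]; norm_num)
  obtain ⟨M, hM⟩ := exists_isPModular 19 (by norm_num)
  obtain ⟨P⟩ : Nonempty (Sylow 19 G) := inferInstance
  have hcard : Nat.card G = 19 * 24192 := by rw [h]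
  obtain ⟨e, k, c, hk1, hkm, he, he1, hep, hc, hprod⟩ :=
    OrdP.exists_e' hna hcard (by norm_num) (by norm_num) (by norm_num) P
  have hP := OrdP.card_sylow_eq hcard (by norm_num) P
  set n := 19 * k + 1 with hn
  have hn' : n = 96 ∨ n = 1008 := by
    have h4 : ∀ n ∈ Nat.divisors 24192, n % 19 = 1 → n = 1 ∨ n = 96 ∨ n = 1008 := by decide +kernel
    have := h4 n (Nat.mem_divisors.2 ⟨hkm, by norm_num⟩) (by omega)
    omega
  have he18 : e ≤ 18 := Nat.le_of_dvd (by norm_num) hep
  rcases hn' with hn' | hn'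
  · rw [hn'] at hprod
    have hc' : c ∈ [126, 84, 42, 28, 14] := by
      simp only [List.mem_cons, List.not_mem_nil, or_false]
      interval_cases e <;> omega
    refine not_ninety_six hna h P hP hc hc' ?_
    set C := Subgroup.centralizer ((P : Subgroup G) : Set G) with hC
    set N := Subgroup.normalizer ((P : Subgroup G) : Set G) with hN
    have hcN : Nat.card C * C.relIndex N = Nat.card N := by
      rw [Subgroup.relIndex, ← Subgroup.card_mul_index (C.subgroupOf N),
        Nat.card_congr (Subgroup.subgroupOfEquivOfLe (Subgroup.centralizer_le_normalizer _)).toEquiv]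
    have h1 := N.card_mul_index
    rw [← hcN, hc, he, h, show 19 * c * e = 4788 by nlinarith] at h1
    omega
  rw [hn'] at hprod
  have hce : (e = 2 ∧ c = 12) ∨ (e = 3 ∧ c = 8) ∨ (e = 6 ∧ c = 4) := by
    interval_cases e <;> omega
  have h2c : 2 ∣ Nat.card (Subgroup.centralizer ((P : Subgroup G) : Set G)) := by
    rw [hc]; omega
  haveI : Fact (Nat.Prime 2) := ⟨Nat.prime_two⟩
  obtain ⟨z, hz⟩ := exists_prime_orderOf_dvd_card' 2 h2c
  have hzC := z.2
  have hoz : orderOf (z : G) = 2 := by rw [Subgroup.orderOf_coe, hz]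
  rcases hce with ⟨rfl, -⟩ | hce
  · refine OrdP.two_false hna hM (by norm_num) P hP he Nat.prime_two (by norm_num) hzC hoz ?_
    intro d hd hlt hdc d' hd' hadj hpd'
    rw [h] at hd hd' hlt
    have hd678 : d < 678 := by
      by_contra hh
      push Not at hh
      have := Nat.mul_le_mul hh hh
      omega
    rcases deg_list d (List.mem_range.2 hd678) hd (by omega) with rfl | rfl | rfl
    all_goals rcases hadj with ha | ha
    all_goals first
      | (obtain rfl := eq_tsub_of_add_eq ha; first | (norm_num at hd'; done) | (norm_num at hpd'; done))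
      | (subst ha; first | (norm_num at hd'; done) | (norm_num at hpd'; done))
  have hne18 : e ≠ 19 - 1 := by omega
  obtain ⟨X, y, s, ε, hX, hXd, -, hε, hdy, hrel, hcol⟩ :=
    OrdP.data hna hM (by norm_num) P hP he he1 hep hne18
  obtain ⟨hsum, hsz⟩ := OrdP.degree_data hrel hcol
  rw [h] at hsz
  set g : IrrCharacter G → ℤ × ℕ × ℕ × ℕ := fun χ =>
    (s χ * (charDegree (χ : G → ℂ) : ℤ), if charDegree (χ : G → ℂ) = 56 then 1 else 0,
      if charDegree (χ : G → ℂ) = 96 then 1 else 0, if charDegree (χ : G → ℂ) = 189 then 1 else 0) with hg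
  have hmem : ∀ χ ∈ X, g χ ∈ kinds := by
    intro χ hχ
    obtain ⟨hne, hs, hd, hcong⟩ := hXd χ hχ
    have hl := OrdP.deg_large hna hM hne hs hd hcong Nat.prime_two (by norm_num) hzC hoz
    have h678 : charDegree (χ : G → ℂ) < 678 := by
      have h1 := Finset.single_le_sum (f := fun ξ : IrrCharacter G => charDegree (ξ : G → ℂ) ^ 2)
        (fun ξ _ => Nat.zero_le _) hχ
      by_contra hh
      push Not at hh
      have := Nat.pow_le_pow_left hh 2
      omega
    rw [Int.ModEq] at hd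
    rcases deg_list _ (List.mem_range.2 h678) (h ▸ charDeg_dvd χ) (by omega) with e | e | e
    all_goals
      simp only [hg, e] at hd ⊢
      rcases hs with hs | hs <;> rw [hs] at hd ⊢ <;> first | omega | decide
  have hfst : ((1, 0, 0, 0) + ∑ χ ∈ X, g χ : ℤ × ℕ × ℕ × ℕ).1.natAbs ∣ 459648 := by
    rw [Prod.fst_add, Prod.fst_sum, ← h]
    simp only [hg]
    rw [← hsum]
    rcases hε with rfl | rfl <;> simpa using charDeg_dvd y
  rcases hce with ⟨rfl, -⟩ | ⟨rfl, -⟩
  · have := OrdP.allPicks_sound chk₀ kinds 2 (1, 0, 0, 0) chk_three X g (by omega) hmem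
    rw [chk₀, decide_eq_true_eq] at this
    exact this hfst
  have := OrdP.allPicks_sound chk kinds 5 (1, 0, 0, 0) chk_six X g (by omega) hmem
  simp only [chk, Bool.or_eq_true, Bool.and_eq_true, decide_eq_true_eq] at this
  obtain ⟨⟨h56, h96⟩, h189⟩ := this.resolve_left (not_not.2 hfst)
  simp only [Prod.snd_add, Prod.fst_add, Prod.snd_sum, Prod.fst_sum, hg, zero_add,
    Finset.sum_boole, Nat.cast_id] at h56 h96 h189
  obtain ⟨a, ha⟩ := Finset.card_pos.1 h56
  obtain ⟨b, hb⟩ := Finset.card_pos.1 h96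
  obtain ⟨d, hd⟩ := Finset.card_pos.1 h189
  rw [Finset.mem_filter] at ha hb hd
  have hzr : ¬ 19 ∣ orderOf (z : G) := by rw [hoz]; norm_num
  refine no_three hna h hM hoz X (δ := s) (fun χ hχ => ?_) ?_ ha.1 hb.1 hd.1 ha.2 hb.2 hd.2
  · obtain ⟨hne, hs, hd', hcong⟩ := hXd χ hχ
    exact ⟨hd', hs, hne, hcong _ hzC hzr⟩
  · refine le_trans (le_add_of_nonneg_right ?_) (hcol _ hzr)
    exact mul_nonneg (Nat.cast_nonneg _) (Complex.normSq_nonneg _)

end Cfsg.Agent.S1022
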