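import Cfsg.Statements.S1026
import Cfsg.Agent.Lib.Lie.Chev.CertsFull
import Cfsg.Agent.Lib.Lie.Chev.Unipotent
-- import your own Cfsg.Agent.* helpers here

set_option autoImplicit false
open Cfsg

namespace Cfsg.Agent.S1026

/-- Every element of `U` has a unique expression `∏_{r ∈ Φ⁺} x_r(t_r)`, the product over the positive roots in increasing index order (the coefficient family `t`, supported on the positive roots, exists and is unique); and conversely every such ordered product is the matrix of an element of `U`. -/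
theorem result {F : Type*} [Field F] (D : Cfsg.Lie.ChevalleyDatum) (hD : D ∈ [Cfsg.Lie.chevG2, Cfsg.Lie.chevB2, Cfsg.Lie.chevD4, Cfsg.Lie.chevF4, Cfsg.Lie.chevE6, Cfsg.Lie.chevE7, Cfsg.Lie.chevE8]) :
    (∀ g : GL D.Idx F, g ∈ D.posUnipotent F →
      ∃! t : ℕ → F, (∀ r, ¬ D.IsPosRoot r → t r = 0) ∧
        (g : Matrix D.Idx D.Idx F) = D.wordMat F (D.posRoots.map fun r => (r, t r))) ∧
    (∀ t : ℕ → F, ∃ g : GL D.Idx F, g ∈ D.posUnipotent F ∧
      (g : Matrix D.Idx D.Idx F) = D.wordMat F (D.posRoots.map fun r => (r, t r))) := by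
  obtain ⟨c⟩ := Lie.Chev.exists_certFull hD
  constructor
  · intro g hg
    rw [c.posUnipotent_eq] at hg
    obtain ⟨t, rfl⟩ := c.exists_oprod _ c.T.h rfl le_rfl g hg
    refine ⟨fun r => if D.IsPosRoot r then t r else 0, ⟨fun r hr => by simp [hr], ?_⟩, ?_⟩
    · rw [← c.oprod_val]
      congr 1
      refine c.oprod_congr fun r h1 h2 => ?_
      rw [if_pos (c.posRoot_iff.2 ⟨h1, h2⟩)]
    · rintro t' ⟨h0, h1⟩
      rw [← c.oprod_val] at h1
      funext r
      by_cases hr : D.IsPosRoot r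
      · obtain ⟨a, b⟩ := c.posRoot_iff.1 hr
        rw [if_pos hr, c.oprod_inj _ c.T.h rfl le_rfl t t' (Units.ext h1) r a b]
      · rw [if_neg hr, h0 r hr]
  · intro t
    refine ⟨c.oprod c.T.h t, ?_, c.oprod_val t⟩
    rw [c.posUnipotent_eq]
    exact c.oprod_mem le_rfl t

end Cfsg.Agent.S1026
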