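import Cfsg.Statements.S1058
import Cfsg.Agent.Lib.Lie.Chev.SteinbergInst
import Cfsg.Agent.Lib.Lie.Chev.OrderB2
-- import your own Cfsg.Agent.* helpers here

set_option autoImplicit false
open Cfsg

namespace Cfsg.Agent.S1058
open Cfsg.Lie Cfsg.Agent.Lie.Chev

/-- The images of the root elements. -/
def img : List (Equiv.Perm (Fin 6)) :=
  [Equiv.swap 0 2 * Equiv.swap 1 4 * Equiv.swap 3 5, Equiv.swap 0 2, Equiv.swap 3 5,
   Equiv.swap 0 2 * Equiv.swap 1 3 * Equiv.swap 4 5, Equiv.swap 0 1 * Equiv.swap 2 4 * Equiv.swap 3 5,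
   Equiv.swap 4 5, Equiv.swap 0 1, Equiv.swap 0 1 * Equiv.swap 2 3 * Equiv.swap 4 5]

/-- The value of a root element over the field with two elements. -/
def val (r : ℕ) (t : ZMod 2) : Equiv.Perm (Fin 6) := if t = 0 then 1 else img.getD r 1

theorem val_add : ∀ r : Fin 8, ∀ t u : ZMod 2, val r t * val r u = val r (t + u) := by
  decide +kernel

theorem val_comm : ∀ r s : Fin 8, (s : ℕ) ≠ (r : ℕ) → (s : ℕ) ≠ certFullB2.T.neg r →
    ∀ t u : ZMod 2, val s u * val r t = val r t * val s u *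
      ((certFullB2.T.commTerms r s).map fun x =>
        val x.1 ((x.2.1 : ZMod 2) * (-t) ^ x.2.2.1 * u ^ x.2.2.2)).prod := by
  decide +kernel


/-- B₂(2) ≅ S₆. -/
theorem result {F : Type*} [Field F] [Fintype F] (hF : Fintype.card F = 2) :
    Nonempty (↥(Cfsg.Lie.chevB2.group F) ≃* Equiv.Perm (Fin 6)) := by
  classical
  let c := certFullB2
  have hn : chevB2.nroots = 8 := c.nroots_eq
  let φ : F ≃+* ZMod 2 := (ZMod.ringEquivOfPrime F Nat.prime_two hF).symm
  let f : Fin chevB2.nroots × F → Equiv.Perm (Fin 6) := fun x => val x.1 (φ x.2)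
  have hf : ∀ {r : ℕ} (hr : r < chevB2.nroots) (t : F),
      FreeGroup.lift f (chevB2.stX r t) = val r (φ t) := fun {r} hr t => by
    rw [ChevalleyDatum.stX, dif_pos hr, FreeGroup.lift_apply_of]
  have hrel : ∀ g ∈ chevB2.steinbergRelsAB F, FreeGroup.lift f g = 1 := by
    rintro g (⟨r, t, u, hr, rfl⟩ | ⟨r, s, t, u, hr, hs, h1, h2, rfl⟩)
    · simp only [map_mul, map_inv, hf hr, map_add φ, mul_inv_eq_one]
      exact val_add ⟨r, hn ▸ hr⟩ _ _
    · rw [map_mul, map_inv, mul_inv_eq_one]
      simp only [map_mul, map_inv, hf hr, hf hs]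
      rw [ChevalleyDatum.stWord, ChevalleyDatum.commWord, c.commTerms_eq hr hs, map_list_prod,
        List.map_map, List.map_map, mul_assoc _ (val s (φ u))]
      rw [val_comm ⟨r, hn ▸ hr⟩ ⟨s, hn ▸ hs⟩ h1 (by rw [← c.neg_eq hr]; exact h2)]
      have key : ∀ a b z : Equiv.Perm (Fin 6), a⁻¹ * b⁻¹ * (b * a * z) = z := fun a b z => by group
      rw [key]
      refine congrArg List.prod (List.map_congr_left fun x hx => ?_)
      simp only [Function.comp_apply, hf (c.mem_commTerms hr hs hx).1, map_mul, map_pow, map_neg,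
        map_intCast]
  let ψ := PresentedGroup.toGroup hrel
  let A := c.stCoverData F
  have hN : checkNbr c.T = true := by decide +kernel
  have hH : A.H = ⊥ := by
    rw [eq_bot_iff, StData.H, Subgroup.closure_le]
    rintro g ⟨p, t, hp, rfl⟩
    have ht : t = 1 := by
      have : Fintype.card Fˣ = 1 := by rw [Fintype.card_units, hF]
      exact (Fintype.card_le_one_iff_subsingleton.1 this.le).elim _ _
    subst ht
    rw [SetLike.mem_coe, Subgroup.mem_bot, StData.h, Units.val_one,
      ← A.n_inv (c.simple_lt hp), mul_inv_cancel]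
  have hinj : Function.Injective A.θ :=
    (MonoidHom.ker_eq_bot_iff _).1 (eq_bot_iff.2 ((A.ker_le hN).trans (inf_le_left.trans hH.le)))
  let θ' : chevB2.SteinbergCover F →* ↥(chevB2.group F) := A.θ.codRestrict _ A.θ_mem_group
  have hbij : Function.Bijective θ' :=
    ⟨fun a b h => hinj (congrArg Subtype.val h), fun g => by
      obtain ⟨x, hx⟩ := A.θ_surj g.2
      exact ⟨x, Subtype.ext hx⟩⟩
  let χ : ↥(chevB2.group F) →* Equiv.Perm (Fin 6) :=
    ψ.comp (MulEquiv.ofBijective θ' hbij).symm.toMonoidHom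
  have himg : ∀ r : Fin 8, img.getD r 1 ∈ χ.range := fun r => by
    refine ⟨θ' (PresentedGroup.mk _ (chevB2.stX (r : ℕ) (1 : F))), ?_⟩
    show ψ ((MulEquiv.ofBijective θ' hbij).symm ((MulEquiv.ofBijective θ' hbij) _)) = _
    rw [MulEquiv.symm_apply_apply]
    show FreeGroup.lift f (chevB2.stX (r : ℕ) (1 : F)) = _
    rw [hf (by rw [hn]; exact r.2), map_one]
    rfl
  have hsurj : Function.Surjective χ := by
    rw [← MonoidHom.range_eq_top, eq_top_iff]
    have hM : (⊤ : Submonoid (Equiv.Perm (Fin 6))) ≤ χ.range.toSubmonoid := by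
      rw [← Equiv.Perm.mclosure_swap_castSucc_succ 5, Submonoid.closure_le]
      rintro _ ⟨i, rfl⟩
      fin_cases i
      · show Equiv.swap (0 : Fin 6) 1 ∈ χ.range
        rw [show Equiv.swap (0 : Fin 6) 1 = img.getD 6 1 by decide]
        exact himg 6
      · show Equiv.swap (1 : Fin 6) 2 ∈ χ.range
        rw [show Equiv.swap (1 : Fin 6) 2 = img.getD 6 1 * img.getD 1 1 * img.getD 6 1 by decide]
        exact
          mul_mem (mul_mem (himg 6) (himg 1)) (himg 6)
      · show Equiv.swap (2 : Fin 6) 3 ∈ χ.range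
        rw [show Equiv.swap (2 : Fin 6) 3 = img.getD 7 1 * img.getD 6 1 * img.getD 5 1 by decide]
        exact
          mul_mem (mul_mem (himg 7) (himg 6)) (himg 5)
      · show Equiv.swap (3 : Fin 6) 4 ∈ χ.range
        rw [show Equiv.swap (3 : Fin 6) 4 = img.getD 5 1 * img.getD 2 1 * img.getD 5 1 by decide]
        exact
          mul_mem (mul_mem (himg 5) (himg 2)) (himg 5)
      · show Equiv.swap (4 : Fin 6) 5 ∈ χ.range
        rw [show Equiv.swap (4 : Fin 6) 5 = img.getD 5 1 by decide]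
        exact himg 5
    exact fun x _ => hM (Submonoid.mem_top x)
  have hcard : Nat.card ↥(chevB2.group F) = Nat.card (Equiv.Perm (Fin 6)) := by
    have h1 := c.card_group_formula (F := F) chainB2_ok chainB2_len chainB2_poly (g := 1)
      (by rw [one_mul, cardHB2, hF]; rfl)
    rw [one_mul, hF] at h1
    rw [h1, hn, Nat.card_eq_fintype_card, Fintype.card_perm, Fintype.card_fin]
    rfl
  exact ⟨MulEquiv.ofBijective χ ((Nat.bijective_iff_surjective_and_card χ).2 ⟨hsurj, hcard⟩)⟩

end Cfsg.Agent.S1058
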