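import Cfsg.Statements.S1097
import Cfsg.Agent.Lib.Lie.Chev.SteinbergInst
-- import your own Cfsg.Agent.* helpers here

set_option autoImplicit false
open Cfsg

namespace Cfsg.Agent.S1097

/-- Any homomorphism from the presented group to the Chevalley group with `x̄_r(t) ↦ x_r(t)` has kernel contained in `H̄ = ⟨h̄_p(t) : p fundamental, t ≠ 0⟩`. -/
theorem result {K : Type*} [Field K] (D : Cfsg.Lie.ChevalleyDatum) (hD : D ∈ [Cfsg.Lie.chevG2, Cfsg.Lie.chevB2, Cfsg.Lie.chevD4, Cfsg.Lie.chevF4, Cfsg.Lie.chevE6, Cfsg.Lie.chevE7, Cfsg.Lie.chevE8]) (θ : D.SteinbergGroup K →* ↥(D.group K))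
    (hθ : ∀ (r : ℕ) (t : K), r < D.nroots → ((θ (D.stGen K r t) : GL D.Idx K) : Matrix D.Idx D.Idx K) = D.x K r t) :
    θ.ker ≤ Subgroup.closure {h | ∃ (i : ℕ) (t : K), i < D.rank ∧ t ≠ 0 ∧ h = PresentedGroup.mk (D.steinbergRels K) (D.stH (D.simple i) t)} := by
  obtain ⟨c, hN, -⟩ := Lie.Chev.exists_nbrCert hD
  have e : (D.group K).subtype.comp θ = (c.stGroupData K).θ := by
    refine PresentedGroup.ext fun x => ?_
    obtain ⟨⟨r, hr⟩, t⟩ := x
    have hx : PresentedGroup.mk (D.steinbergRels K) (D.stX r t) =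
        PresentedGroup.of ((⟨r, hr⟩ : Fin D.nroots), t) := by
      rw [Cfsg.Lie.ChevalleyDatum.stX, dif_pos hr]; rfl
    have h1 : (c.stGroupData K).θ (PresentedGroup.mk (D.steinbergRels K) (D.stX r t)) = c.xg r t :=
      (c.stGroupData K).θX r hr t
    rw [← hx, h1]
    exact Units.ext (hθ r t hr)
  intro g hg
  have h : (c.stGroupData K).θ g = 1 := by
    rw [← e, MonoidHom.comp_apply, MonoidHom.mem_ker.1 hg, map_one]
  refine (Subgroup.closure_mono ?_) ((c.stGroupData K).ker_le hN h).1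
  rintro x ⟨i, t, hi, rfl⟩
  exact ⟨i, t, hi, t.ne_zero, c.stGroup_h K _ _⟩

end Cfsg.Agent.S1097
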