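import Cfsg.Statements.S1098
import Cfsg.Agent.Lib.Lie.Chev.GraphAuto
import Cfsg.Agent.Lib.Lie.Chev.TwistDataB2
import Cfsg.Agent.Lib.Lie.Chev.TwistDataF4
-- import your own Cfsg.Agent.* helpers here

set_option autoImplicit false
open Cfsg

namespace Cfsg.Agent.S1098

/-- Graph automorphisms in characteristic 2 (K perfect): for B₂ (a short, b long) `x_a(t) ↦ x_b(t²)`, `x_b(t) ↦ x_a(t)`, and for F₄ (p₁, p₂ short, p₃, p₄ long) `x_{p₁}(t) ↦ x_{p₄}(t²)`, `x_{p₂}(t) ↦ x_{p₃}(t²)`, `x_{p₃}(t) ↦ x_{p₂}(t)`, `x_{p₄}(t) ↦ x_{p₁}(t)`, likewise on the negatives, extend to an automorphism of the group. -/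
theorem result {K : Type*} [Field K] [CharP K 2] (hperf : ∀ x : K, ∃ y : K, y ^ 2 = x)
    (p : Cfsg.Lie.ChevalleyDatum × List (ℕ × ℕ))
    (hp : p ∈ [(Cfsg.Lie.chevB2, [(1, 2), (0, 1)]), (Cfsg.Lie.chevF4, [(3, 2), (2, 2), (1, 1), (0, 1)])]) :
    ∃ α : ↥(p.1.group K) ≃* ↥(p.1.group K), ∀ (g : ↥(p.1.group K)) (i : ℕ) (t : K), i < p.1.rank →
      (((g : GL p.1.Idx K) : Matrix p.1.Idx p.1.Idx K) = p.1.x K (p.1.simple i) t →
        ((α g : GL p.1.Idx K) : Matrix p.1.Idx p.1.Idx K) = p.1.x K (p.1.simple (p.2.getD i (0, 1)).1) (t ^ (p.2.getD i (0, 1)).2)) ∧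
      (((g : GL p.1.Idx K) : Matrix p.1.Idx p.1.Idx K) = p.1.x K (p.1.neg (p.1.simple i)) t →
        ((α g : GL p.1.Idx K) : Matrix p.1.Idx p.1.Idx K) = p.1.x K (p.1.neg (p.1.simple (p.2.getD i (0, 1)).1)) (t ^ (p.2.getD i (0, 1)).2)) := by

  haveI : Fact (Nat.Prime 2) := ⟨Nat.prime_two⟩
  haveI : ExpChar K 2 := ExpChar.prime Nat.prime_two
  haveI : PerfectRing K 2 := PerfectRing.ofSurjective K 2 hperf
  simp only [List.mem_cons, List.not_mem_nil, or_false] at hp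
  rcases hp with rfl | rfl
  · obtain ⟨α, hα⟩ := Lie.Chev.CertFull.IsoData.exists_auto (F := K) (p := 2) Lie.Chev.isoB2_ok rfl
      (by decide +kernel)
    refine ⟨α, fun g i t hi => ?_⟩
    have h : ∀ j < 2, Cfsg.Lie.chevB2.simple j < Cfsg.Lie.chevB2.nroots ∧
        Cfsg.Lie.chevB2.neg (Cfsg.Lie.chevB2.simple j) < Cfsg.Lie.chevB2.nroots ∧
        Lie.Chev.isoB2.ρ (Cfsg.Lie.chevB2.simple j) =
          Cfsg.Lie.chevB2.simple ([(1, 2), (0, 1)].getD j (0, 1)).1 ∧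
        Lie.Chev.isoB2.expo (Cfsg.Lie.chevB2.simple j) = ([(1, 2), (0, 1)].getD j (0, 1)).2 ∧
        Lie.Chev.isoB2.ρ (Cfsg.Lie.chevB2.neg (Cfsg.Lie.chevB2.simple j)) =
          Cfsg.Lie.chevB2.neg (Cfsg.Lie.chevB2.simple ([(1, 2), (0, 1)].getD j (0, 1)).1) ∧
        Lie.Chev.isoB2.expo (Cfsg.Lie.chevB2.neg (Cfsg.Lie.chevB2.simple j)) =
          ([(1, 2), (0, 1)].getD j (0, 1)).2 := by
      decide +kernel
    obtain ⟨a1, a2, a3, a4, a5, a6⟩ := h i hi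
    have h1 := hα g _ t a1
    have h2 := hα g _ t a2
    rw [a3, a4] at h1
    rw [a5, a6] at h2
    exact ⟨h1, h2⟩
  · obtain ⟨α, hα⟩ := Lie.Chev.CertFull.IsoData.exists_auto (F := K) (p := 2) Lie.Chev.isoF4_ok rfl
      (by decide +kernel)
    refine ⟨α, fun g i t hi => ?_⟩
    have h : ∀ j < 4, Cfsg.Lie.chevF4.simple j < Cfsg.Lie.chevF4.nroots ∧
        Cfsg.Lie.chevF4.neg (Cfsg.Lie.chevF4.simple j) < Cfsg.Lie.chevF4.nroots ∧
        Lie.Chev.isoF4.ρ (Cfsg.Lie.chevF4.simple j) =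
          Cfsg.Lie.chevF4.simple ([(3, 2), (2, 2), (1, 1), (0, 1)].getD j (0, 1)).1 ∧
        Lie.Chev.isoF4.expo (Cfsg.Lie.chevF4.simple j) =
          ([(3, 2), (2, 2), (1, 1), (0, 1)].getD j (0, 1)).2 ∧
        Lie.Chev.isoF4.ρ (Cfsg.Lie.chevF4.neg (Cfsg.Lie.chevF4.simple j)) =
          Cfsg.Lie.chevF4.neg
            (Cfsg.Lie.chevF4.simple ([(3, 2), (2, 2), (1, 1), (0, 1)].getD j (0, 1)).1) ∧
        Lie.Chev.isoF4.expo (Cfsg.Lie.chevF4.neg (Cfsg.Lie.chevF4.simple j)) =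
          ([(3, 2), (2, 2), (1, 1), (0, 1)].getD j (0, 1)).2 := by
      decide +kernel
    obtain ⟨a1, a2, a3, a4, a5, a6⟩ := h i hi
    have h1 := hα g _ t a1
    have h2 := hα g _ t a2
    rw [a3, a4] at h1
    rw [a5, a6] at h2
    exact ⟨h1, h2⟩

end Cfsg.Agent.S1098
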