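import Cfsg.Statements.S1099
import Cfsg.Agent.Lib.Lie.Chev.GraphAuto
import Cfsg.Agent.Lib.Lie.Chev.TwistDataG2
-- import your own Cfsg.Agent.* helpers here

set_option autoImplicit false
open Cfsg

namespace Cfsg.Agent.S1099

/-- Graph automorphism of G₂ in characteristic 3 (K perfect): `x_a(t) ↦ x_b(t³)`, `x_b(t) ↦ x_a(t)`, `x_{-a}(t) ↦ x_{-b}(t³)`, `x_{-b}(t) ↦ x_{-a}(t)` extend to an automorphism of the group. -/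
theorem result {K : Type*} [Field K] [CharP K 3] (hperf : ∀ x : K, ∃ y : K, y ^ 3 = x) :
    ∃ α : ↥(Cfsg.Lie.chevG2.group K) ≃* ↥(Cfsg.Lie.chevG2.group K), ∀ (g : ↥(Cfsg.Lie.chevG2.group K)) (t : K),
      (((g : GL Cfsg.Lie.chevG2.Idx K) : Matrix _ _ K) = Cfsg.Lie.chevG2.x K Cfsg.Lie.g2a t →
        ((α g : GL Cfsg.Lie.chevG2.Idx K) : Matrix _ _ K) = Cfsg.Lie.chevG2.x K Cfsg.Lie.g2b (t ^ 3)) ∧
      (((g : GL Cfsg.Lie.chevG2.Idx K) : Matrix _ _ K) = Cfsg.Lie.chevG2.x K Cfsg.Lie.g2b t →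
        ((α g : GL Cfsg.Lie.chevG2.Idx K) : Matrix _ _ K) = Cfsg.Lie.chevG2.x K Cfsg.Lie.g2a t) ∧
      (((g : GL Cfsg.Lie.chevG2.Idx K) : Matrix _ _ K) = Cfsg.Lie.chevG2.x K Cfsg.Lie.g2ma t →
        ((α g : GL Cfsg.Lie.chevG2.Idx K) : Matrix _ _ K) = Cfsg.Lie.chevG2.x K Cfsg.Lie.g2mb (t ^ 3)) ∧
      (((g : GL Cfsg.Lie.chevG2.Idx K) : Matrix _ _ K) = Cfsg.Lie.chevG2.x K Cfsg.Lie.g2mb t →
        ((α g : GL Cfsg.Lie.chevG2.Idx K) : Matrix _ _ K) = Cfsg.Lie.chevG2.x K Cfsg.Lie.g2ma t) := by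

  haveI : Fact (Nat.Prime 3) := ⟨Nat.prime_three⟩
  haveI : ExpChar K 3 := ExpChar.prime Nat.prime_three
  haveI : PerfectRing K 3 := PerfectRing.ofSurjective K 3 hperf
  obtain ⟨α, hα⟩ := Lie.Chev.CertFull.IsoData.exists_auto (F := K) (p := 3) Lie.Chev.isoG2_ok rfl
    (by decide +kernel)
  have h : (Lie.Chev.isoG2.ρ 7 = 6 ∧ Lie.Chev.isoG2.expo 7 = 3) ∧
      (Lie.Chev.isoG2.ρ 6 = 7 ∧ Lie.Chev.isoG2.expo 6 = 1) ∧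
      (Lie.Chev.isoG2.ρ 4 = 5 ∧ Lie.Chev.isoG2.expo 4 = 3) ∧
      (Lie.Chev.isoG2.ρ 5 = 4 ∧ Lie.Chev.isoG2.expo 5 = 1) := by
    decide +kernel
  obtain ⟨⟨r7, e7⟩, ⟨r6, e6⟩, ⟨r4, e4⟩, ⟨r5, e5⟩⟩ := h
  refine ⟨α, fun g t => ⟨?_, ?_, ?_, ?_⟩⟩
  · have h1 := hα g 7 t (by decide)
    rwa [r7, e7] at h1
  · have h1 := hα g 6 t (by decide)
    rwa [r6, e6, pow_one] at h1
  · have h1 := hα g 4 t (by decide)
    rwa [r4, e4] at h1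
  · have h1 := hα g 5 t (by decide)
    rwa [r5, e5, pow_one] at h1

end Cfsg.Agent.S1099
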