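import Cfsg.Statements.S1103
import Cfsg.Agent.Lib.Lie.Chev.TwistE6
-- import your own Cfsg.Agent.* helpers here

set_option autoImplicit false
open Cfsg

namespace Cfsg.Agent.S1103

/-- `N¹/H¹ ≅ W¹`: a surjective homomorphism from `N¹ = G¹ ∩ N` onto the Coxeter group of type F₄ with kernel `H¹`. -/
theorem result {K : Type*} [Field K] [Fintype K] {q : ℕ} (hq : IsPrimePow q) (hK : Fintype.card K = q ^ 2) :
    ∃ φ : ↥(Cfsg.Lie.chevE6.monomialSubgroup K ⊓ Cfsg.Lie.twistedE6 K q) →* (CoxeterMatrix.F₄).Group, Function.Surjective φ ∧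
      φ.ker = (Cfsg.Lie.chevE6.diagonalSubgroup K ⊓ Cfsg.Lie.twistedE6 K q).subgroupOf (Cfsg.Lie.chevE6.monomialSubgroup K ⊓ Cfsg.Lie.twistedE6 K q) := by

  obtain ⟨f, hf⟩ := Lie.Chev.exists_qPow hq hK
  refine (Lie.Chev.E6.datum f hf hK).exists_coxeterHom_of_check CoxeterMatrix.F₄ rfl ?_ (fun a b => if a = b then 1 else if (a, b) ∈ [(0, 1), (1, 0), (2, 3), (3, 2)] then 3 else if (a, b) ∈ [(1, 2), (2, 1)] then 4 else 2) ?_ ?_
  · show Lie.Chev.orbitsE6.Nodup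
    decide
  · intro a b; fin_cases a <;> fin_cases b <;> rfl
  · show Lie.Chev.certFullE6.T.checkCox Lie.Chev.orbitsE6 _ = true
    decide +kernel

end Cfsg.Agent.S1103
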