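import Cfsg.Statements.S1124
import Cfsg.Agent.Lib.Lie.RankOneOdd
-- import your own Cfsg.Agent.* helpers here

set_option autoImplicit false
open scoped Pointwise
open Cfsg

namespace Cfsg.Agent.S1124

/-- Let `t` be an element of order 2 of a finite group normalising a subgroup `X` of odd order, `Y = C_X(t)` and `Z` the set of elements of `X` inverted by `t`. Then `(y, z) ↦ y z` is a bijection `Y × Z → X`, so `|X| = |Y| |Z|`, and the subgroup generated by `Z` is normal in `X`. -/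
theorem result {M : Type*} [Group M] [Finite M]
    (t : M) (ht : orderOf t = 2) (X : Subgroup M) (hodd : Odd (Nat.card X))
    (hnorm : ∀ x ∈ X, t * x * t⁻¹ ∈ X) :
    (∀ x ∈ X, ∃! p : M × M, p.1 ∈ X ⊓ Subgroup.centralizer {t} ∧ p.2 ∈ Cfsg.invertedBy X t ∧ x = p.1 * p.2) ∧
      Nat.card X = Nat.card ↥(X ⊓ Subgroup.centralizer {t}) * Nat.card (Cfsg.invertedBy X t) ∧
      ∀ x ∈ X, MulAut.conj x • Subgroup.closure (Cfsg.invertedBy X t) = Subgroup.closure (Cfsg.invertedBy X t) := by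
  have ht2 : t * t = 1 := by rw [← pow_two, ← ht, pow_orderOf_eq_one]
  have hti : t⁻¹ = t := inv_eq_of_mul_eq_one_right ht2
  have hn : ∀ x ∈ X, t * x * t ∈ X := fun x hx => by simpa [hti] using hnorm x hx
  have hmem : ∀ y, y ∈ X ⊓ Subgroup.centralizer {t} ↔ y ∈ X ∧ t * y = y * t := fun y =>
    ⟨fun h => ⟨h.1, (Subgroup.mem_centralizer_singleton_iff.1 h.2).symm⟩,
      fun h => ⟨h.1, Subgroup.mem_centralizer_singleton_iff.2 h.2.symm⟩⟩
  have hinv : ∀ z, z ∈ Cfsg.invertedBy X t ↔ z ∈ X ∧ t * z * t = z⁻¹ := fun z => by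
    show (z ∈ X ∧ t * z * t⁻¹ = z⁻¹) ↔ _
    rw [hti]
  have hex : ∀ x ∈ X, ∃! p : M × M, p.1 ∈ X ⊓ Subgroup.centralizer {t} ∧
      p.2 ∈ Cfsg.invertedBy X t ∧ x = p.1 * p.2 := fun x hx => by
    obtain ⟨y, z, hy, hyt, hz, hzt, e⟩ := Lie.RankOne.split_exists ht2 hodd hn hx
    refine ⟨(y, z), ⟨(hmem y).2 ⟨hy, hyt⟩, (hinv z).2 ⟨hz, hzt⟩, e⟩, ?_⟩
    rintro ⟨y', z'⟩ ⟨hy', hz', e'⟩
    obtain ⟨rfl, rfl⟩ := Lie.RankOne.split_unique ht2 hodd ((hmem y').1 hy').2 hyt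
      ((hinv z').1 hz').1 hz ((hinv z').1 hz').2 hzt (e'.symm.trans e)
    rfl
  refine ⟨hex, ?_, fun x hx => ?_⟩
  · rw [← Nat.card_prod]
    refine (Nat.card_congr (Equiv.ofBijective (fun p : ↥(X ⊓ Subgroup.centralizer {t}) ×
      Cfsg.invertedBy X t => (⟨p.1 * p.2, mul_mem p.1.2.1 p.2.2.1⟩ : X)) ⟨?_, ?_⟩)).symm
    · intro p q h
      have h' : (p.1 : M) * p.2 = q.1 * q.2 := congrArg Subtype.val h
      obtain ⟨_, -, hu⟩ := hex _ (mul_mem p.1.2.1 p.2.2.1)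
      have e1 := hu (p.1, p.2) ⟨p.1.2, p.2.2, rfl⟩
      have e2 := hu (q.1, q.2) ⟨q.1.2, q.2.2, h'⟩
      have e3 := e1.trans e2.symm
      exact Prod.ext (Subtype.ext (Prod.ext_iff.1 e3).1) (Subtype.ext (Prod.ext_iff.1 e3).2)
    · intro x
      obtain ⟨⟨y, z⟩, ⟨hy, hz, e⟩, -⟩ := hex x x.2
      exact ⟨(⟨y, hy⟩, ⟨z, hz⟩), Subtype.ext e.symm⟩
  · set H := Subgroup.closure (Cfsg.invertedBy X t)
    have hstab : X ≤ Subgroup.normalizer (H : Set M) := by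
      intro x hx
      obtain ⟨⟨y, z⟩, ⟨hy, hz, e⟩, -⟩ := hex x hx
      rw [e]
      refine mul_mem ?_ (Subgroup.le_normalizer (Subgroup.subset_closure hz))
      refine Subgroup.normalizer_le_normalizer_closure _ ?_
      obtain ⟨hyX, hyt⟩ := (hmem y).1 hy
      have hci : t * y⁻¹ = y⁻¹ * t := (show Commute t y from hyt).inv_right.eq
      intro w
      show w ∈ Cfsg.invertedBy X t ↔ y * w * y⁻¹ ∈ Cfsg.invertedBy X t
      rw [hinv, hinv]
      have e1 : t * (y * w * y⁻¹) * t = y * (t * w * t) * y⁻¹ := by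
        calc t * (y * w * y⁻¹) * t = (t * y) * w * (y⁻¹ * t) := by group
          _ = (y * t) * w * (t * y⁻¹) := by rw [hyt, hci]
          _ = _ := by group
      refine ⟨fun ⟨hwX, hw⟩ => ⟨mul_mem (mul_mem hyX hwX) (inv_mem hyX), ?_⟩,
        fun ⟨hwX, hw⟩ => ⟨?_, ?_⟩⟩
      · rw [e1, hw]; group
      · have := mul_mem (mul_mem (inv_mem hyX) hwX) hyX
        simpa [mul_assoc] using this
      · rw [e1] at hw
        calc t * w * t = y⁻¹ * (y * (t * w * t) * y⁻¹) * y := by group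
          _ = w⁻¹ := by rw [hw]; group
    rw [Subgroup.pointwise_smul_def]
    exact Subgroup.mem_normalizer_iff_map_conj_eq.1 (hstab hx)

end Cfsg.Agent.S1124
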