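import Cfsg.Statements.S1127
import Cfsg.Agent.Lib.Lie.RankOneSetup
-- import your own Cfsg.Agent.* helpers here

set_option autoImplicit false
open Cfsg

namespace Cfsg.Agent.S1127

/-- In the rank-one set-up (`G` finite and doubly transitive on `Ω`, `t` an involution moving `a`, `Q` normal in `G_a` with `G_a = Q D`, `Q ⊓ D = 1` for the two-point stabiliser `D = G_a ⊓ G_{t • a}`, `|Q|` even, `|D|` odd): if `s` is an involution of `G_a` and `r ∈ Q` satisfy `t s t = r⁻¹ t r`, then `C_D(t) = C_D(s)`; moreover `C_D(t) ⊓ C_D(K) = C_D(I ∩ G_a)`, where `K` is the set of elements of `D` inverted by `t` and `I ∩ G_a` the set of involutions of `G_a`. -/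
theorem result {G Ω : Type*} [Group G] [Finite G] [MulAction G Ω] {a : Ω} {t : G} {Q : Subgroup G}
    (hS : Cfsg.IsRankOneSetup G Ω a t Q) :
    (∀ s r : G, s ∈ Cfsg.involutionsIn (MulAction.stabilizer G a : Set G) → r ∈ Q → t * s * t = r⁻¹ * t * r →
        (MulAction.stabilizer G a ⊓ MulAction.stabilizer G (t • a)) ⊓ Subgroup.centralizer {t} = (MulAction.stabilizer G a ⊓ MulAction.stabilizer G (t • a)) ⊓ Subgroup.centralizer {s}) ∧
      (MulAction.stabilizer G a ⊓ MulAction.stabilizer G (t • a)) ⊓ Subgroup.centralizer {t} ⊓ Subgroup.centralizer (Cfsg.invertedBy (MulAction.stabilizer G a ⊓ MulAction.stabilizer G (t • a)) t) =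
        (MulAction.stabilizer G a ⊓ MulAction.stabilizer G (t • a)) ⊓ Subgroup.centralizer (Cfsg.involutionsIn (MulAction.stabilizer G a : Set G)) := by
  obtain ⟨⟨s₀, r⟩, ⟨hs0, hr, e⟩, -⟩ := Lie.RankOne.distinguished hS
  refine ⟨fun s r hs hr e => Subgroup.ext fun d => and_congr_right fun hd => ?_,
    Subgroup.ext fun d => ?_⟩
  · show d ∈ Subgroup.centralizer {t} ↔ d ∈ Subgroup.centralizer {s}
    rw [Subgroup.mem_centralizer_singleton_iff, Subgroup.mem_centralizer_singleton_iff]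
    rw [eq_comm, Lie.RankOne.centralizer_distinguished hS hs hr e hd, eq_comm]
  have hc : ∀ d ∈ MulAction.stabilizer G a ⊓ MulAction.stabilizer G (t • a),
      (t * d = d * t ↔ s₀ * d = d * s₀) := fun d hd => Lie.RankOne.centralizer_distinguished hS hs0 hr e hd
  simp only [Subgroup.mem_inf, Subgroup.mem_centralizer_iff, Set.mem_singleton_iff, forall_eq]
  refine ⟨fun ⟨⟨hd, hdt⟩, hdK⟩ => ⟨hd, fun s hs => ?_⟩, fun ⟨hd, hdI⟩ => ⟨⟨hd, ?_⟩, fun z hz => ?_⟩⟩
  · obtain ⟨⟨z, hz⟩, hzs⟩ := (Lie.RankOne.distinguished_orbit hS hs0 hr e).2 ⟨s, hs⟩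
    have hzs' : z⁻¹ * s₀ * z = s := congrArg Subtype.val hzs
    rw [← hzs']
    have h1 : Commute z d := hdK z hz
    have h2 : Commute s₀ d := (hc d hd).1 hdt
    exact ((h1.inv_left.mul_left h2).mul_left h1).eq
  · exact (hc d hd).2 (hdI s₀ hs0)
  · obtain ⟨hzD, hzi⟩ := hz
    rw [Lie.RankOne.inv_t hS] at hzi
    have htd : t * d = d * t := (hc d hd).2 (hdI s₀ hs0)
    have hmem : z⁻¹ * s₀ * z ∈ Cfsg.involutionsIn (MulAction.stabilizer G a : Set G) := by
      refine ⟨mul_mem (mul_mem (inv_mem hzD.1) hs0.1) hzD.1,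
        fun h => hs0.2.1 (Lie.RankOne.inv_conj_eq_one h), ?_⟩
      calc z⁻¹ * s₀ * z * (z⁻¹ * s₀ * z) = z⁻¹ * (s₀ * s₀) * z := by group
        _ = 1 := by rw [hs0.2.2]; group
    have h1 : t * (z * d * z⁻¹) = z * d * z⁻¹ * t := by
      refine (hc _ (mul_mem (mul_mem hzD hd) (inv_mem hzD))).2 ?_
      calc s₀ * (z * d * z⁻¹) = z * ((z⁻¹ * s₀ * z) * d) * z⁻¹ := by group
        _ = z * d * z⁻¹ * s₀ := by rw [hdI _ hmem]; group
    have h2 : z⁻¹ * d * z = z * d * z⁻¹ := by
      have e1 : t * (z * d * z⁻¹) * t = (t * z * t) * (t * d * t) * (t * z * t)⁻¹ := by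
        calc t * (z * d * z⁻¹) * t = t * z * (t * t) * d * (t * t) * z⁻¹ * t⁻¹ := by
              rw [hS.mul_self, Lie.RankOne.inv_t hS]; group
          _ = _ := by rw [mul_inv_rev, mul_inv_rev, Lie.RankOne.inv_t hS]; group
      rw [h1, mul_assoc _ t t, hS.mul_self, mul_one, hzi, htd, mul_assoc d t t, hS.mul_self,
        mul_one, inv_inv] at e1
      exact e1.symm
    have hzz : Commute (z * z) d := by
      show z * z * d = d * (z * z)
      calc z * z * d = z * (z * d * z⁻¹) * z := by group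
        _ = z * (z⁻¹ * d * z) * z := by rw [h2]
        _ = d * (z * z) := by group
    obtain ⟨j, hj⟩ := Lie.RankOne.exists_sqrt hS.odd_card hzD
    rw [← hj, ← pow_add, ← two_mul, pow_mul, pow_two]
    exact (hzz.pow_left j).eq

end Cfsg.Agent.S1127
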