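import Cfsg.Statements.S1131
import Cfsg.Agent.Lib.Char.RankOneInverted

set_option autoImplicit false
open Cfsg

namespace Cfsg.Agent.S1131

/-- In the rank-one set-up (`G` finite and doubly transitive on `Ω`, `t` an involution moving `a`, `Q` normal in `G_a` with `G_a = Q D`, `Q ⊓ D = 1` for the two-point stabiliser `D = G_a ⊓ G_{t • a}`, `|Q|` even, `|D|` odd), with the action faithful and `G` containing two distinct commuting involutions: the set `K` of elements of `D` inverted by `t` is (the underlying set of) a cyclic subgroup normal in `D`. -/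
theorem result {G Ω : Type*} [Group G] [Finite G] [MulAction G Ω] [FaithfulSMul G Ω] {a : Ω} {t : G} {Q : Subgroup G}
    (hS : Cfsg.IsRankOneSetup G Ω a t Q)
    (h2 : ∃ x y : G, x ≠ 1 ∧ y ≠ 1 ∧ x ≠ y ∧ x * x = 1 ∧ y * y = 1 ∧ x * y = y * x) :
    ∃ C : Subgroup G, (C : Set G) = Cfsg.invertedBy (MulAction.stabilizer G a ⊓ MulAction.stabilizer G (t • a)) t ∧ IsCyclic C ∧
      ∀ d ∈ (MulAction.stabilizer G a ⊓ MulAction.stabilizer G (t • a)), ∀ c ∈ C, d * c * d⁻¹ ∈ C := by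
  obtain ⟨k₀, hk₀, hK⟩ := Cfsg.Agent.Char.RankOne.inverted_cyclic hS h2
  refine ⟨Subgroup.zpowers k₀, Set.ext fun k => (hK k).symm, inferInstance, fun d hd c hc => ?_⟩
  obtain ⟨y, z, hy, hyt, hz, rfl⟩ := Lie.RankOne.inverted_conj hS hd
  obtain ⟨i, rfl⟩ := Subgroup.mem_zpowers_iff.1 ((hK z).1 hz)
  obtain ⟨j, rfl⟩ := Subgroup.mem_zpowers_iff.1 hc
  have h := (hK (k₀ ^ j)).2 hc
  refine (hK _).1 ⟨mul_mem (mul_mem hd h.1) (inv_mem hd), ?_⟩
  have e : y * k₀ ^ i * k₀ ^ j * (y * k₀ ^ i)⁻¹ = y * k₀ ^ j * y⁻¹ := by group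
  rw [e, conj_inv, ← h.2]
  have hyt' : t * y⁻¹ = y⁻¹ * t := (show Commute t y from hyt).inv_right.eq
  have hti := Lie.RankOne.inv_t hS
  rw [hti]
  calc t * (y * k₀ ^ j * y⁻¹) * t = (t * y) * k₀ ^ j * (y⁻¹ * t) := by group
    _ = (y * t) * k₀ ^ j * (t * y⁻¹) := by rw [hyt, hyt']
    _ = _ := by group

end Cfsg.Agent.S1131
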