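import Cfsg.Statements.S1133
import Cfsg.Agent.Lib.Char.RankOneInverted

set_option autoImplicit false
open Cfsg

namespace Cfsg.Agent.S1133

/-- In the rank-one set-up (`G` finite and doubly transitive on `Ω`, `t` an involution moving `a`, `Q` normal in `G_a` with `G_a = Q D`, `Q ⊓ D = 1` for the two-point stabiliser `D = G_a ⊓ G_{t • a}`, `|Q|` even, `|D|` odd), with the action faithful and `G` containing two distinct commuting involutions, with `V = C_D(t)`, `K` the elements of `D` inverted by `t` and `W = C_V(K)`: `V/W` is cyclic, i.e. `V = W ⟨v⟩` for some `v ∈ V`. -/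
theorem result {G Ω : Type*} [Group G] [Finite G] [MulAction G Ω] [FaithfulSMul G Ω] {a : Ω} {t : G} {Q : Subgroup G}
    (hS : Cfsg.IsRankOneSetup G Ω a t Q)
    (h2 : ∃ x y : G, x ≠ 1 ∧ y ≠ 1 ∧ x ≠ y ∧ x * x = 1 ∧ y * y = 1 ∧ x * y = y * x) :
    ∃ v ∈ (MulAction.stabilizer G a ⊓ MulAction.stabilizer G (t • a)) ⊓ Subgroup.centralizer {t},
      ((MulAction.stabilizer G a ⊓ MulAction.stabilizer G (t • a)) ⊓ Subgroup.centralizer {t} ⊓ Subgroup.centralizer (Cfsg.invertedBy (MulAction.stabilizer G a ⊓ MulAction.stabilizer G (t • a)) t)) ⊔ Subgroup.closure {v} =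
        (MulAction.stabilizer G a ⊓ MulAction.stabilizer G (t • a)) ⊓ Subgroup.centralizer {t} := by
  obtain ⟨k₀, hk₀, hK⟩ := Cfsg.Agent.Char.RankOne.inverted_cyclic hS h2
  set D := MulAction.stabilizer G a ⊓ MulAction.stabilizer G (t • a) with hD
  set C := Subgroup.zpowers k₀ with hC
  have hti := Lie.RankOne.inv_t hS
  have hKC : Cfsg.invertedBy D t = (C : Set G) := Set.ext hK
  set V := D ⊓ Subgroup.centralizer {t} with hV
  have hVN : V ≤ Subgroup.normalizer (C : Set G) := by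
    have key : ∀ v ∈ V, ∀ c ∈ C, v * c * v⁻¹ ∈ C := by
      intro v hv c hc
      obtain ⟨hcD, hci⟩ := (hK c).2 hc
      have hvt : Commute t v := (Subgroup.mem_centralizer_singleton_iff.1 hv.2).symm
      refine (hK _).1 ⟨mul_mem (mul_mem hv.1 hcD) (inv_mem hv.1), ?_⟩
      rw [conj_inv, ← hci, hti]
      calc t * (v * c * v⁻¹) * t = (t * v) * c * (v⁻¹ * t) := by group
        _ = (v * t) * c * (t * v⁻¹) := by rw [hvt.eq, hvt.inv_right.eq]
        _ = _ := by group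
    intro v hv
    refine Subgroup.mem_normalizer_iff.2 fun c => ⟨key v hv c, fun h => ?_⟩
    simpa [mul_assoc] using key v⁻¹ (inv_mem hv) _ h
  let θ : ↥V →* MulAut ↥C := C.normalizerMonoidHom.comp (Subgroup.inclusion hVN)
  have hθ : ∀ v c, ((θ v c : ↥C) : G) = (v : G) * c * (v : G)⁻¹ := fun v c => rfl
  -- squaring
  letI : CommGroup ↥C := IsCyclic.commGroup
  have hCodd : Nat.Coprime (Nat.card ↥C) 2 :=
    (hS.odd_card.of_dvd_nat (Subgroup.card_dvd_of_le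
      (Subgroup.zpowers_le.2 hk₀.1))).coprime_two_right
  let fr : MulAut ↥C :=
    { powCoprime hCodd with map_mul' := fun x y => mul_pow x y 2 }
  have hfr : ∀ c : ↥C, fr c = c ^ 2 := fun c => rfl
  have hfrn : ∀ (i : ℕ) (c : ↥C), (fr ^ i) c = c ^ (2 ^ i) := by
    intro i c
    induction i with
    | zero => simp
    | succ i ih => rw [pow_succ', MulAut.mul_apply, ih, hfr, ← pow_mul, pow_succ]
  have himg : θ.range ≤ Subgroup.zpowers fr := by
    rintro _ ⟨⟨v, hv⟩, rfl⟩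
    set g₀ : ↥C := ⟨k₀, Subgroup.mem_zpowers _⟩
    obtain ⟨m, hm⟩ := (mem_powers_iff_mem_zpowers (x := g₀)).2
      (show θ ⟨v, hv⟩ g₀ ∈ Subgroup.zpowers g₀ by
        obtain ⟨i, hi⟩ := Subgroup.mem_zpowers_iff.1 (θ ⟨v, hv⟩ g₀).2
        exact Subgroup.mem_zpowers_iff.2 ⟨i, Subtype.ext (by rw [Subgroup.coe_zpow]; exact hi)⟩)
    dsimp only at hm
    have hm' : v * k₀ * v⁻¹ = k₀ ^ m := by
      rw [← SubmonoidClass.coe_pow (g₀) m, hm]; rfl
    set Z := Cfsg.Agent.Char.RankOne.zInvol hS h2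
    letI : CommGroup ↥Z := { (inferInstance : Group ↥Z) with
      mul_comm := fun x y => Subtype.ext
        (Cfsg.Agent.Char.RankOne.closure_invol_comm hS h2 x.2.1 x.2.2 y.2.1 y.2.2) }
    obtain ⟨⟨s₀, r⟩, ⟨hs0, -, -⟩, -⟩ := Lie.RankOne.distinguished hS
    haveI : Nontrivial ↥Z :=
      ⟨⟨⟨s₀, hs0.1, hs0.2.2⟩, 1, fun h => hs0.2.1 (congrArg Subtype.val h)⟩⟩
    set ρ := Cfsg.Agent.Char.RankOne.zConj hS h2
    have hρ : ∀ (d : ↥D) (z : ↥Z), ((ρ d z : ↥Z) : G) = (d : G) * z * (d : G)⁻¹ :=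
      Cfsg.Agent.Char.RankOne.zConj_apply hS h2
    set kD : ↥D := ⟨k₀, hk₀.1⟩
    have hinj : ∀ k ∈ C, ∀ (hk : k ∈ D), ρ ⟨k, hk⟩ = 1 → k = 1 := by
      intro k hk hkD h
      by_contra hk1
      refine hs0.2.1 ((Subgroup.eq_bot_iff_forall _).1 (Lie.RankOne.inverted_fpf hS ((hK k).2 hk) hk1)
        s₀ ⟨Lie.RankOne.invol_mem_Q hS hs0.1 hs0.2.2, Subgroup.mem_centralizer_singleton_iff.2 ?_⟩)
      have := (hρ ⟨k, hkD⟩ ⟨s₀, hs0.1, hs0.2.2⟩).symm.trans (congrArg Subtype.val (MulEquiv.congr_fun h ⟨s₀, hs0.1, hs0.2.2⟩))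
      exact (mul_inv_eq_iff_eq_mul.1 this).symm
    obtain ⟨i, hi⟩ := Cfsg.Agent.Char.conj_eq_frob (Z := ↥Z) (fun x => Subtype.ext x.2.2)
      (ρ kD) (ρ ⟨v, hv.1⟩) (fun x y hx hy => by
        obtain ⟨k, hk, hkxy⟩ := Cfsg.Agent.Char.RankOne.inverted_trans hS (x := (x : G)) (y := (y : G))
          ⟨x.2.1, fun h => hx (Subtype.ext h), x.2.2⟩ ⟨y.2.1, fun h => hy (Subtype.ext h), y.2.2⟩
        obtain ⟨j, hj⟩ := (mem_powers_iff_mem_zpowers (x := k₀)).2 ((hK k).1 hk)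
        dsimp only at hj
        refine ⟨j, Subtype.ext ?_⟩
        rw [← map_pow, hρ, SubmonoidClass.coe_pow]
        show k₀ ^ j * (x : G) * (k₀ ^ j)⁻¹ = y
        rw [hj, hkxy])
      m (by
        rw [← map_inv, ← map_mul, ← map_mul, ← map_pow]
        exact congrArg ρ (Subtype.ext (by simpa using hm')))
    have hmi : k₀ ^ m = k₀ ^ (2 ^ i) := by
      rw [← mul_inv_eq_one]
      refine hinj _ (mul_mem (Subgroup.npow_mem_zpowers k₀ _) (inv_mem (Subgroup.npow_mem_zpowers k₀ _)))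
        (mul_mem (pow_mem hk₀.1 _) (inv_mem (pow_mem hk₀.1 _))) ?_
      have e1 : (⟨k₀ ^ m, pow_mem hk₀.1 m⟩ : ↥D) = ⟨v, hv.1⟩ * kD * ⟨v, hv.1⟩⁻¹ :=
        Subtype.ext hm'.symm
      calc ρ ⟨k₀ ^ m * (k₀ ^ 2 ^ i)⁻¹, _⟩
          = ρ ((⟨k₀ ^ m, pow_mem hk₀.1 m⟩ : ↥D) * (kD ^ (2 ^ i))⁻¹) :=
            congrArg ρ (Subtype.ext (by simp [kD]))
        _ = 1 := by rw [map_mul, map_inv, map_pow, e1, map_mul, map_mul, map_inv, hi, mul_inv_cancel]
    refine Subgroup.mem_zpowers_iff.2 ⟨(i : ℤ), MulEquiv.ext fun c => ?_⟩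
    obtain ⟨j, hj⟩ := Subgroup.mem_zpowers_iff.1 c.2
    apply Subtype.ext
    rw [zpow_natCast, hfrn, hθ, Subgroup.coe_pow, ← hj]
    show (k₀ ^ j) ^ (2 ^ i) = v * k₀ ^ j * v⁻¹
    rw [← conj_zpow, hm', hmi, ← zpow_natCast, ← zpow_natCast, ← zpow_mul, ← zpow_mul, mul_comm]
  haveI : IsCyclic ↥θ.range :=
    isCyclic_of_injective (Subgroup.inclusion himg) (Subgroup.inclusion_injective himg)
  obtain ⟨⟨_, ⟨v, rfl⟩⟩, hgen⟩ := IsCyclic.exists_generator (α := ↥θ.range)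
  refine ⟨(v : G), v.2, le_antisymm (sup_le inf_le_left ((Subgroup.closure_le _).2
    (Set.singleton_subset_iff.2 v.2))) fun x hx => ?_⟩
  obtain ⟨n, hn⟩ := Subgroup.mem_zpowers_iff.1 (hgen ⟨θ ⟨x, hx⟩, ⟨x, hx⟩, rfl⟩)
  have hn' : θ ⟨x, hx⟩ = θ (v ^ n) := by
    rw [map_zpow]; simpa using (congrArg Subtype.val hn).symm
  have hw : x * ((v : G) ^ n)⁻¹ ∈ V ⊓ Subgroup.centralizer (Cfsg.invertedBy D t) := by
    refine ⟨V.mul_mem hx (V.inv_mem (V.zpow_mem v.2 n)), fun c hc => ?_⟩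
    rw [hKC] at hc
    have h1 : θ (⟨x, hx⟩ * (v ^ n)⁻¹) = 1 := by rw [map_mul, map_inv, hn', mul_inv_cancel]
    have h3 := congrArg Subtype.val (MulEquiv.congr_fun h1 ⟨c, hc⟩)
    rw [hθ] at h3
    simp only [Subgroup.coe_mul, Subgroup.coe_inv, Subgroup.coe_zpow, MulAut.one_apply] at h3
    show c * (x * ((v : G) ^ n)⁻¹) = x * ((v : G) ^ n)⁻¹ * c
    exact (mul_inv_eq_iff_eq_mul.1 h3).symm
  rw [show x = x * ((v : G) ^ n)⁻¹ * (v : G) ^ n by group]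
  exact mul_mem (Subgroup.mem_sup_left hw)
    (Subgroup.mem_sup_right (zpow_mem (Subgroup.mem_closure_singleton_self (v : G)) n))

end Cfsg.Agent.S1133
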