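import Cfsg.Statements.S1142
import Cfsg.Agent.Lib.Lie.FeitHigman
-- import your own Cfsg.Agent.* helpers here

set_option autoImplicit false
open Cfsg

namespace Cfsg.Agent.S1142

/-- Feit–Higman: if a finite group has a (B,N)-pair of rank 2, its Weyl group `N/(B ⊓ N)` has order 4, 6, 8, 12 or 16. -/
theorem result {G : Type*} [Group G] [Finite G] (P : Cfsg.BNPair G)
    (h2 : P.rank = 2) :
    ((P.B ⊓ P.N).subgroupOf P.N).index ∈ ({4, 6, 8, 12, 16} : Set ℕ) := by
  classical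
  haveI : Fintype (G ⧸ P.B) := Fintype.ofFinite _
  obtain ⟨r, s, hrs, hS⟩ := Nat.card_eq_two_iff.1 h2
  have hS' : ∀ x : P.S, x = r ∨ x = s := fun x => by
    have : x ∈ ({r, s} : Set P.S) := hS ▸ Set.mem_univ x
    simpa using this
  have hidx : ((P.B ⊓ P.N).subgroupOf P.N).index = Nat.card (Cfsg.Agent.Lie.Weyl P) := rfl
  rw [hidx, Cfsg.Agent.Lie.weyl_card P hS']
  have h1 : orderOf (Cfsg.Agent.Lie.refl P r * Cfsg.Agent.Lie.refl P s) ≠ 1 := by
    rw [Ne, orderOf_eq_one_iff, mul_eq_one_iff_eq_inv, Cfsg.Agent.Lie.refl_inv]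
    exact fun e => hrs (Cfsg.Agent.Lie.refl_inj P e)
  have h0 := Cfsg.Agent.Lie.order_pos P r s
  simp only [Set.mem_insert_iff, Set.mem_singleton_iff]
  rcases Cfsg.Agent.Lie.order_cases P hS' with h | h | h <;> omega

end Cfsg.Agent.S1142
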