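import Cfsg.Statements.S1160
import Cfsg.Agent.Lib.Lie.HalfTransitive

set_option autoImplicit false
open Cfsg

namespace Cfsg.Agent.S1160

/-- Let `p ≠ 2` be prime and `P` a finite `p`-group acting faithfully by additive automorphisms on a finite elementary abelian `q`-group `E` (`q` prime), such that `|P_a|` is the same for all `a ≠ 0`. Then `P` is cyclic and every non-identity element of `P` fixes only `0`. -/
theorem result {P E : Type*} [Group P] [Finite P]
    [AddCommGroup E] [Finite E] [DistribMulAction P E] [FaithfulSMul P E]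
    {p q : ℕ} [Fact p.Prime] (hp2 : p ≠ 2) (hP : IsPGroup p P) (hq : q.Prime) (hE : ∀ e : E, q • e = 0)
    (hconst : ∀ a b : E, a ≠ 0 → b ≠ 0 →
      Nat.card (MulAction.stabilizer P a) = Nat.card (MulAction.stabilizer P b)) :
    IsCyclic P ∧ ∀ g : P, g ≠ 1 → ∀ a : E, g • a = a → a = 0 := by
  classical
  have triv : (∀ g : P, ∀ a : E, g • a = a) → IsCyclic P ∧ ∀ g : P, g ≠ 1 → ∀ a : E, g • a = a → a = 0 := fun h => by
    have hs : Subsingleton P := ⟨fun g k => eq_of_smul_eq_smul (α := E) fun a => by rw [h g, h k]⟩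
    exact ⟨inferInstance, fun g hg => absurd (Subsingleton.elim g 1) hg⟩
  rcases subsingleton_or_nontrivial E with hs | hnt
  · exact triv fun g a => Subsingleton.elim _ _
  by_cases hpq : p = q
  · subst hpq
    refine triv fun g a => ?_
    by_cases ha : a = 0
    · rw [ha, smul_zero]
    have hdvd : p ∣ Nat.card E := by
      obtain ⟨b, hb⟩ := exists_ne (0 : E)
      rw [← addOrderOf_eq_prime (hE b) hb]
      exact addOrderOf_dvd_natCard b
    have h0 : (0 : E) ∈ MulAction.fixedPoints P E := fun g => smul_zero g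
    obtain ⟨b, hb, hb0⟩ := hP.exists_fixed_point_of_prime_dvd_card_of_fixed_point E hdvd h0
    have h1 := hconst a b ha (Ne.symm hb0)
    have htop : MulAction.stabilizer P b = ⊤ := eq_top_iff.2 fun k _ => hb k
    rw [htop, Subgroup.card_top, Subgroup.card_eq_iff_eq_top] at h1
    exact (h1 ▸ Subgroup.mem_top g : g ∈ MulAction.stabilizer P a)
  have hcyc : IsCyclic P := by
    by_contra hnc
    have hnc' : ¬ IsCyclic (⊤ : Subgroup P) := fun h => hnc (Subgroup.topEquiv.isCyclic.1 h)
    obtain ⟨A, -, hAn, hA, hAc⟩ := Cfsg.Agent.Transfer.exists_normal_elementary hp2 hP ⊤ hnc'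
    exact Cfsg.Agent.Lie.HalfTransitive.not_normal_square hP hq hE hpq hconst hp2 A hA hAc
  refine ⟨hcyc, fun g hg a ha => by_contra fun ha0 => ?_⟩
  letI := IsCyclic.commGroup (α := P)
  have hb := Cfsg.Agent.Lie.HalfTransitive.stab_bot_of_normal hP hq hE hpq hconst (Subgroup.zpowers g)
    (by simpa [Subgroup.zpowers_eq_bot] using hg) ha0
    fun k hk => (Subgroup.zpowers_le.2 (MulAction.mem_stabilizer_iff.2 ha) : Subgroup.zpowers g ≤ MulAction.stabilizer P a) hk
  exact hg (Cfsg.Agent.Lie.HalfTransitive.fpf_of_stab hconst ha0 hb ha ha0)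

end Cfsg.Agent.S1160
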