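import Cfsg.Statements.S1165
import Cfsg.Agent.Lib.Lie.RankOneSetup
-- import your own Cfsg.Agent.* helpers here

set_option autoImplicit false
open Cfsg

namespace Cfsg.Agent.S1165

/-- In the rank-one set-up (`G` finite and doubly transitive on `Ω`, `t` an involution moving `a`, `Q` normal in `G_a` with `G_a = Q D`, `Q ⊓ D = 1` for the two-point stabiliser `D = G_a ⊓ G_{t • a}`, `|Q|` even, `|D|` odd): every `x ∈ Q`, `x ≠ 1`, determines unique `g, f ∈ Q`, `h ∈ D` with `t x t = g h t f` (a consequence of the canonical form). For these: (H1) the `f`-part of `x⁻¹` is `g⁻¹`; (H2) the `f`-part of `f` is `x`; (H3) for `a ∈ D` the `f`-part of `a⁻¹ x a` is `(t a t)⁻¹ f (t a t)`; (H4) the `h`-part of `a⁻¹ x a` is `(t a t)⁻¹ h a`, that of `x⁻¹` is `t h⁻¹ t`, and that of `f` is `h⁻¹`. -/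
theorem result {G Ω : Type*} [Group G] [Finite G] [MulAction G Ω] {a : Ω} {t : G} {Q : Subgroup G}
    (hS : Cfsg.IsRankOneSetup G Ω a t Q)
    (x g h f : G) (hx : x ∈ Q) (hx1 : x ≠ 1) (hg : g ∈ Q) (hh : h ∈ (MulAction.stabilizer G a ⊓ MulAction.stabilizer G (t • a))) (hf : f ∈ Q)
    (heq : t * x * t = g * h * t * f) :
    (∀ g₁ h₁ f₁ : G, g₁ ∈ Q → h₁ ∈ (MulAction.stabilizer G a ⊓ MulAction.stabilizer G (t • a)) → f₁ ∈ Q → t * x⁻¹ * t = g₁ * h₁ * t * f₁ →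
        f₁ = g⁻¹ ∧ h₁ = t * h⁻¹ * t) ∧
      (∀ g₂ h₂ f₂ : G, g₂ ∈ Q → h₂ ∈ (MulAction.stabilizer G a ⊓ MulAction.stabilizer G (t • a)) → f₂ ∈ Q → t * f * t = g₂ * h₂ * t * f₂ →
        f₂ = x ∧ h₂ = h⁻¹) ∧
      ∀ c ∈ (MulAction.stabilizer G a ⊓ MulAction.stabilizer G (t • a)), ∀ g₃ h₃ f₃ : G, g₃ ∈ Q → h₃ ∈ (MulAction.stabilizer G a ⊓ MulAction.stabilizer G (t • a)) → f₃ ∈ Q →
        t * (c⁻¹ * x * c) * t = g₃ * h₃ * t * f₃ →
          f₃ = (t * c * t)⁻¹ * f * (t * c * t) ∧ h₃ = (t * c * t)⁻¹ * h * c := by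
  have tt := @Lie.RankOne.tt G Ω _ _ _ a t Q hS
  have hcD := @Lie.RankOne.conj_D G Ω _ _ _ a t Q hS
  refine ⟨fun g₁ h₁ f₁ hg1 hh1 hf1 e1 => ?_, fun g₂ h₂ f₂ hg2 hh2 hf2 e2 => ?_,
    fun c hc g₃ h₃ f₃ hg3 hh3 hf3 e3 => ?_⟩
  · have key : t * x⁻¹ * t = f⁻¹ * (t * h⁻¹ * t) * t * g⁻¹ := by
      have e' : (t * x * t)⁻¹ = (g * h * t * f)⁻¹ := by rw [heq]
      rw [mul_inv_rev, mul_inv_rev, Lie.RankOne.inv_t hS, ← mul_assoc] at e'
      rw [e', mul_inv_rev, mul_inv_rev, mul_inv_rev, Lie.RankOne.inv_t hS]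
      calc f⁻¹ * (t * (h⁻¹ * g⁻¹)) = f⁻¹ * (t * h⁻¹ * (1 * g⁻¹)) := by group
        _ = f⁻¹ * (t * h⁻¹ * ((t * t) * g⁻¹)) := by rw [hS.mul_self]
        _ = _ := by group
    obtain ⟨-, e2, e3⟩ := Lie.RankOne.form_unique hS hg1 hh1 hf1 (inv_mem hf) (hcD (inv_mem hh))
      (inv_mem hg) (e1.symm.trans key)
    exact ⟨e3, e2⟩
  · have key : t * f * t = (h⁻¹ * g⁻¹ * h) * h⁻¹ * t * x := by
      calc t * f * t = h⁻¹ * g⁻¹ * (g * h * t * f) * t := by group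
        _ = h⁻¹ * g⁻¹ * (t * x * t) * t := by rw [heq]
        _ = h⁻¹ * g⁻¹ * t * x * (t * t) := by group
        _ = _ := by rw [hS.mul_self]; group
    have hg' : h⁻¹ * g⁻¹ * h ∈ Q := by simpa using hS.conj_mem h⁻¹ (inv_mem hh.1) g⁻¹ (inv_mem hg)
    obtain ⟨-, e4, e5⟩ := Lie.RankOne.form_unique hS hg2 hh2 hf2 hg' (inv_mem hh) hx (e2.symm.trans key)
    exact ⟨e5, e4⟩
  · have hc' := hcD hc
    set c' := t * c * t with hcdef
    have h1 : t * c = c' * t := by rw [hcdef, mul_assoc _ t t, hS.mul_self, mul_one]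
    have h2 : t * c' = c * t := by
      rw [hcdef, ← mul_assoc, ← mul_assoc, hS.mul_self, one_mul]
    have h3 : t * c⁻¹ = c'⁻¹ * t := by
      calc t * c⁻¹ = c'⁻¹ * (c' * t) * c⁻¹ := by group
        _ = c'⁻¹ * t := by rw [← h1]; group
    have h4 : c * t = t * c' := h2.symm
    have key : t * (c⁻¹ * x * c) * t =
        (c'⁻¹ * g * c') * (c'⁻¹ * h * c) * t * (c'⁻¹ * f * c') := by
      calc t * (c⁻¹ * x * c) * t = (t * c⁻¹) * x * (c * t) := by group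
        _ = c'⁻¹ * (t * x * t) * c' := by rw [h3, h4]; group
        _ = (c'⁻¹ * g * c') * (c'⁻¹ * h * c) * (c⁻¹ * t * c') * (c'⁻¹ * f * c') := by rw [heq]; group
        _ = _ := by rw [mul_assoc c⁻¹ t c', h2]; group
    have hg' : c'⁻¹ * g * c' ∈ Q := by simpa using hS.conj_mem c'⁻¹ (inv_mem hc'.1) g hg
    have hf' : c'⁻¹ * f * c' ∈ Q := by simpa using hS.conj_mem c'⁻¹ (inv_mem hc'.1) f hf
    obtain ⟨-, e4, e5⟩ := Lie.RankOne.form_unique hS hg3 hh3 hf3 hg'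
      (mul_mem (mul_mem (inv_mem hc') hh) hc) hf' (e3.symm.trans key)
    exact ⟨e5, e4⟩

end Cfsg.Agent.S1165
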