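import Cfsg.Statements.S1166
import Cfsg.Agent.Lib.Lie.RankOneSetup
-- import your own Cfsg.Agent.* helpers here

set_option autoImplicit false
open Cfsg

namespace Cfsg.Agent.S1166

/-- In the rank-one set-up (`G` finite and doubly transitive on `Ω`, `t` an involution moving `a`, `Q` normal in `G_a` with `G_a = Q D`, `Q ⊓ D = 1` for the two-point stabiliser `D = G_a ⊓ G_{t • a}`, `|Q|` even, `|D|` odd), with `t x t = g_x h_x t f_x` and `t y t = g_y h_y t f_y` (`g, f ∈ Q`, `h ∈ D`) for `x, y ∈ Q ∖ 1` with `x y ≠ 1`: then `z = f_x g_y ≠ 1`, and if `t z t = g_z h_z t f_z` and `t (x y) t = g' h' t f'` then `f' = (t h_y t)⁻¹ f_z (t h_y t) f_y` and `h' = h_x h_z h_y` (H6). -/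
theorem result {G Ω : Type*} [Group G] [Finite G] [MulAction G Ω] {a : Ω} {t : G} {Q : Subgroup G}
    (hS : Cfsg.IsRankOneSetup G Ω a t Q)
    (x y gx hx fx gy hy fy : G) (hxQ : x ∈ Q) (hx1 : x ≠ 1) (hyQ : y ∈ Q) (hy1 : y ≠ 1) (hxy : x * y ≠ 1)
    (hgx : gx ∈ Q) (hhx : hx ∈ (MulAction.stabilizer G a ⊓ MulAction.stabilizer G (t • a))) (hfx : fx ∈ Q) (ex : t * x * t = gx * hx * t * fx)
    (hgy : gy ∈ Q) (hhy : hy ∈ (MulAction.stabilizer G a ⊓ MulAction.stabilizer G (t • a))) (hfy : fy ∈ Q) (ey : t * y * t = gy * hy * t * fy) :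
    fx * gy ≠ 1 ∧
      ∀ gz hz fz g' h' f' : G, gz ∈ Q → hz ∈ (MulAction.stabilizer G a ⊓ MulAction.stabilizer G (t • a)) → fz ∈ Q → t * (fx * gy) * t = gz * hz * t * fz →
        g' ∈ Q → h' ∈ (MulAction.stabilizer G a ⊓ MulAction.stabilizer G (t • a)) → f' ∈ Q → t * (x * y) * t = g' * h' * t * f' →
          f' = (t * hy * t)⁻¹ * fz * (t * hy * t) * fy ∧ h' = hx * hz * hy := by
  have hcD := @Lie.RankOne.conj_D G Ω _ _ _ a t Q hS
  have hhy' := hcD hhy
  have hty : t * hy = (t * hy * t) * t := by rw [mul_assoc _ t t, hS.mul_self, mul_one]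
  have hprod : t * (x * y) * t = gx * hx * t * (fx * gy) * hy * t * fy := by
    calc t * (x * y) * t = t * x * (t * t) * y * t := by rw [hS.mul_self]; group
      _ = (t * x * t) * (t * y * t) := by group
      _ = _ := by rw [ex, ey]; group
  refine ⟨fun h1 => hxy ?_, fun gz hz fz g' h' f' hgz hhz hfz ez hg' hh' hf' e' => ?_⟩
  · have e1 : t * (x * y) * t = gx * hx * (t * hy * t) * fy := by rw [hprod, h1]; group
    have hA : gx * hx * (t * hy * t) * fy ∈ MulAction.stabilizer G a :=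
      mul_mem (mul_mem (mul_mem (hS.le hgx) hhx.1) hhy'.1) (hS.le hfy)
    rw [← e1, MulAction.mem_stabilizer_iff, mul_smul, mul_smul] at hA
    refine Lie.RankOne.q_b hS (mul_mem hxQ hyQ) ?_
    calc (x * y) • t • a = t • (t • (x * y) • t • a) := by
          rw [← mul_smul t t, hS.mul_self, one_smul]
      _ = t • a := by rw [hA]
  · set k := t * hy * t
    have key : t * (x * y) * t =
        (gx * (hx * gz * hx⁻¹)) * (hx * hz * hy) * t * ((k⁻¹ * fz * k) * fy) := by
      calc t * (x * y) * t = gx * hx * t * (fx * gy) * hy * t * fy := hprod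
        _ = gx * hx * (t * (fx * gy) * t) * (t⁻¹ * hy * t) * fy := by group
        _ = gx * hx * (gz * hz * t * fz) * k * fy := by rw [ez, Lie.RankOne.inv_t hS]
        _ = (gx * (hx * gz * hx⁻¹)) * (hx * hz) * (t * k) * ((k⁻¹ * fz * k) * fy) := by group
        _ = _ := by
          rw [show t * k = hy * t by
            show t * (t * hy * t) = hy * t
            rw [← mul_assoc, ← mul_assoc, hS.mul_self, one_mul]]
          group
    have hG : gx * (hx * gz * hx⁻¹) ∈ Q := mul_mem hgx (hS.conj_mem hx hhx.1 gz hgz)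
    have hF : (k⁻¹ * fz * k) * fy ∈ Q :=
      mul_mem (by simpa using hS.conj_mem k⁻¹ (inv_mem hhy'.1) fz hfz) hfy
    obtain ⟨-, e4, e5⟩ := Lie.RankOne.form_unique hS hg' hh' hf' hG (mul_mem (mul_mem hhx hhz) hhy) hF
      (e'.symm.trans key)
    exact ⟨e5, e4⟩

end Cfsg.Agent.S1166
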