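import Cfsg.Statements.S1167
import Cfsg.Agent.Lib.Grp.ZasOdd
-- import your own Cfsg.Agent.* helpers here

set_option autoImplicit false
open Cfsg

namespace Cfsg.Agent.S1167

/-- Let `G` be a finite simple Zassenhaus group on `Ω`, `U` a normal subgroup of `G_a` regular on `Ω` minus `a` which is an abelian 2-group, and `v` an involution with `v • a ≠ a`. Then there is a unique `u₀ ∈ U`, `u₀ ≠ 1`, with `v u₀ v = u₀ v u₀`. -/
theorem result {G Ω : Type*} [Group G] [Finite G] [MulAction G Ω] [Finite Ω]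
    (hZ : Cfsg.IsZassenhausGroup G Ω) [IsSimpleGroup G] {a : Ω}
    (U : Subgroup G) (hUle : U ≤ MulAction.stabilizer G a)
    (hUn : ∀ h ∈ MulAction.stabilizer G a, ∀ u ∈ U, h * u * h⁻¹ ∈ U)
    (hreg : ∀ c d : Ω, c ≠ a → d ≠ a → ∃! u : U, (u : G) • c = d)
    (hU2 : IsPGroup 2 U) (hUab : ∀ u ∈ U, ∀ u' ∈ U, u * u' = u' * u)
    (v : G) (hv1 : v ≠ 1) (hv2 : v * v = 1) (hva : v • a ≠ a) :
    ∃! u₀ : G, u₀ ∈ U ∧ u₀ ≠ 1 ∧ v * u₀ * v = u₀ * v * u₀ := by
  classical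
  haveI := Fintype.ofFinite Ω
  have hFn : (U.subgroupOf (MulAction.stabilizer G a)).Normal :=
    ⟨fun u hu g => hUn g g.2 u hu⟩
  let D := Agent.Block.Zas.frameOf hZ hva.symm U hUle hFn hreg
  have hn := D.two_le_F hZ
  have hH := D.H_ne_bot hZ
  have hab' : ∀ x ∈ D.F, ∀ y ∈ D.F, x * y = y * x := hUab
  obtain ⟨k, hk⟩ : ∃ k, Nat.card D.F = 2 ^ k :=
    haveI := Fact.mk Nat.prime_two
    IsPGroup.iff_card.mp hU2
  have hFe : Even (Nat.card D.F) := by
    rw [hk]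
    refine Nat.even_pow.mpr ⟨even_two, fun e => ?_⟩
    rw [e, pow_zero] at hk
    omega
  have hd : Nat.card D.H = Nat.card D.F - 1 := by
    rcases D.cases_of_abelian hZ hab' with e | ⟨e, -⟩
    · exact e
    · obtain ⟨m, hm⟩ := hFe; omega
  obtain ⟨-, p, f, hp, hpow, hcard⟩ := D.kernel_elementary hn hH (by omega)
  have hp2 : p = 2 := by
    have hf : f ≠ 0 := fun e => by rw [e, pow_zero] at hcard; omega
    have h2 : 2 ∣ p ^ f := hcard ▸ even_iff_two_dvd.mp hFe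
    exact ((Nat.prime_dvd_prime_iff_eq Nat.prime_two hp).mp (Nat.prime_two.dvd_of_dvd_pow h2)).symm
  subst hp2
  have hsq : ∀ u ∈ U, u * u = 1 := fun u hu => by rw [← sq]; exact hpow u hu
  have hodd : Odd (Nat.card D.H) := by
    obtain ⟨m, hm⟩ := hFe
    exact ⟨m - 1, by omega⟩
  have hvo : orderOf v = 2 := orderOf_eq_prime (by rw [sq]; exact hv2) hv1
  obtain ⟨c, hc⟩ : ∃ c : Ω, v • c = c := by
    by_contra h
    push Not at h
    haveI := Fact.mk Nat.prime_two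
    have hP : IsPGroup 2 (Subgroup.zpowers v) :=
      IsPGroup.of_card (n := 1) (by rw [Nat.card_zpowers, hvo, pow_one])
    have h1 := hP.card_modEq_card_fixedPoints Ω
    haveI : IsEmpty (MulAction.fixedPoints (Subgroup.zpowers v) Ω) :=
      ⟨fun x => h x.1 (x.2 ⟨v, Subgroup.mem_zpowers v⟩)⟩
    rw [D.card_points, Nat.card_of_isEmpty (α := MulAction.fixedPoints (Subgroup.zpowers v) Ω)] at h1
    have h1' : (Nat.card D.F + 1) % 2 = 0 % 2 := h1
    obtain ⟨m, hm⟩ := hFe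
    omega
  have huniq : ∀ d : Ω, v • d = d → d = c :=
    fun d hd' => Agent.Grp.ZasS.involution_fix D hodd hvo hd' hc
  have hvb : v • (v • a) = a := by rw [← mul_smul, hv2, one_smul]
  have hca : c ≠ a := fun e => hva (e ▸ hc)
  have hcb : c ≠ v • a := fun e => hva (by rw [e, hvb] at hc; exact hc.symm)
  obtain ⟨⟨u₀, hu₀⟩, hu₀c, -⟩ := hreg (v • a) c hva hca
  have hu₀c' : u₀ • (v • a) = c := hu₀c
  have hu₀b : u₀ • c = v • a := by rw [← hu₀c', ← mul_smul, hsq u₀ hu₀, one_smul]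
  have hu₀a : u₀ • a = a := hUle hu₀
  refine ⟨u₀, ⟨hu₀, fun e => hcb (by rw [← hu₀c', e, one_smul]), ?_⟩, ?_⟩
  · refine inv_mul_eq_one.mp (D.free3 ((v * u₀ * v)⁻¹ * (u₀ * v * u₀)) a (v • a) c
      hva.symm hcb.symm hca.symm ?_ ?_ ?_)
    all_goals rw [mul_smul, inv_smul_eq_iff]; simp only [mul_smul]
    · simp only [hu₀a, hu₀b, hu₀c', hc, hvb]
    · simp only [hu₀a, hu₀b, hu₀c', hc, hvb]
    · simp only [hu₀a, hu₀b, hu₀c', hc, hvb]
  · rintro u ⟨hu, hu1, he⟩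
    have e1 : (v * u * v) • a = (u * v * u) • a := by rw [he]
    simp only [mul_smul, show u • a = a from hUle hu] at e1
    have h1 : u • v • a = c := huniq _ e1
    exact D.F_inj hu hu₀ hva (h1.trans hu₀c'.symm)

end Cfsg.Agent.S1167
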