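import Cfsg.Statements.S1176
import Mathlib
import Cfsg.Agent.Lib.Invol.Sylow
import Cfsg.Agent.S0209
import Cfsg.Agent.S0211
-- import your own Cfsg.Agent.* helpers here

set_option autoImplicit false
open Cfsg

namespace Cfsg.Agent.S1176

/-- Let x₀ be an involution of the finite group G and D its conjugacy class. Assume (a) for each x ∈ D the subgroup W(x) generated by the members of D commuting with x is a 2-group of nilpotency class at most 2, and (b) the product of two distinct commuting members of D again lies in D. Then for all x, y ∈ D, if xy has even order greater than 2, its order is 4. -/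
theorem result {G : Type*} [Group G] [Finite G] (x₀ : G) (hx₀ : orderOf x₀ = 2) (ha : ∀ x : G, IsConj x₀ x → IsPGroup 2 ↥(Subgroup.closure {y : G | IsConj x₀ y ∧ Commute y x}) ∧ ⁅⁅Subgroup.closure {y : G | IsConj x₀ y ∧ Commute y x}, Subgroup.closure {y : G | IsConj x₀ y ∧ Commute y x}⁆, Subgroup.closure {y : G | IsConj x₀ y ∧ Commute y x}⁆ = ⊥) (hb : ∀ x y : G, IsConj x₀ x → IsConj x₀ y → x ≠ y → Commute x y → IsConj x₀ (x * y)) (x y : G) (hx : IsConj x₀ x) (hy : IsConj x₀ y) (heven : Even (orderOf (x * y))) (hgt : 2 < orderOf (x * y)) : orderOf (x * y) = 4 := by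
  have hordD : ∀ w : G, IsConj x₀ w → orderOf w = 2 := fun w hw => by
    rw [← Invol.orderOf_eq_of_isConj hw, hx₀]
  have hx2 := hordD x hx
  have hy2 := hordD y hy
  obtain ⟨hzord, hzx, hzy⟩ := S0209.result x y hx2 hy2 heven
  obtain ⟨n, hn⟩ : ∃ n, orderOf (x * y) = n := ⟨_, rfl⟩
  set z := (x * y) ^ (orderOf (x * y) / 2) with hz
  have hcomm' : ∀ u v : G, Commute u v → u * v = v * u := fun u v h => h.eq
  -- the central involution of `⟨x, y⟩` lies in the class
  have hzD : IsConj x₀ z := by
    by_cases h4 : 4 ∣ orderOf (x * y)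
    · obtain ⟨d, -, hd⟩ := (S0211.result x y hx2 hy2 heven).mpr h4
      rw [← hz] at hd
      have hxz : IsConj x₀ (x * z) := hx.trans (isConj_iff.mpr ⟨d, hd⟩)
      have hne : x ≠ x * z := fun h => Invol.ne_one_of_orderOf_two hzord (left_eq_mul.mp h)
      have h := hb x (x * z) hx hxz hne ((Commute.refl x).mul_right hzx.symm)
      rwa [← mul_assoc, Invol.mul_self_of_orderOf_two hx2, one_mul] at h
    · obtain ⟨b, hb2⟩ := heven
      have hbodd : Odd b := by
        rw [← Nat.not_even_iff_odd]
        rintro ⟨c, rfl⟩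
        exact h4 ⟨c, by omega⟩
      obtain ⟨d, -, hd, -⟩ :=
        Invol.exists_conj_two_part hx2 hy2 (a := 1) (b := b) (by omega) hbodd
      have hzb : z = (x * y) ^ b := by rw [hz]; congr 1; omega
      rw [← hzb] at hd
      have hxz : IsConj x₀ (x * z) := hy.trans (isConj_iff.mpr ⟨d, hd⟩)
      have hne : x ≠ x * z := fun h => Invol.ne_one_of_orderOf_two hzord (left_eq_mul.mp h)
      have h := hb x (x * z) hx hxz hne ((Commute.refl x).mul_right hzx.symm)
      rwa [← mul_assoc, Invol.mul_self_of_orderOf_two hx2, one_mul] at h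
  obtain ⟨hWp, hW2⟩ := ha z hzD
  set W := Subgroup.closure {w : G | IsConj x₀ w ∧ Commute w z}
  have hxW : x ∈ W := Subgroup.subset_closure ⟨hx, hzx.symm⟩
  have hyW : y ∈ W := Subgroup.subset_closure ⟨hy, hzy.symm⟩
  have h3 := Subgroup.commutator_mem_commutator (Subgroup.commutator_mem_commutator hxW hyW) hxW
  rw [hW2, Subgroup.mem_bot, commutatorElement_eq_one_iff_mul_comm] at h3
  -- so `x` centralises `⁅x, y⁆ = (x * y) ^ 2`, which it inverts
  have hcom : commutatorElement.bracket x y = (x * y) ^ (2 : ℤ) := by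
    rw [commutatorElement_def, Invol.inv_of_orderOf_two hx2, Invol.inv_of_orderOf_two hy2,
      zpow_two, ← mul_assoc]
  rw [hcom] at h3
  have hinv := Invol.conj_mul_zpow_eq_inv hx2 hy2 2
  rw [← h3, mul_inv_cancel_right, ← orderOf_dvd_sub_iff_zpow_eq_zpow] at hinv
  have hd4 : orderOf (x * y) ∣ 4 := by
    have : ((orderOf (x * y) : ℤ)) ∣ 4 := by simpa using hinv
    exact_mod_cast this
  have := Nat.le_of_dvd (by norm_num) hd4
  obtain ⟨m, hm⟩ := heven
  omega

end Cfsg.Agent.S1176
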