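import Cfsg.Statements.S1177
import Mathlib
import Cfsg.Agent.Lib.Invol.Closed
-- import your own Cfsg.Agent.* helpers here

set_option autoImplicit false
open Cfsg

namespace Cfsg.Agent.S1177

/-- Let A be a nontrivial elementary abelian 2-subgroup of a finite group G which is a T.I. set (each conjugate of A meets A trivially or equals A) and which does not commute elementwise with any conjugate of A other than A itself. Then for every a ∈ A, a ≠ 1, every conjugate of A contained in C_G(a) is equal to A (A is weakly closed in C_G(a)). -/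
theorem result {G : Type*} [Group G] [Finite G] (A : Subgroup G) (hA : Cfsg.IsElementaryAbelian 2 A) (hA1 : A ≠ ⊥) (hTI : ∀ g : G, A.map (MulAut.conj g).toMonoidHom ⊓ A = ⊥ ∨ A.map (MulAut.conj g).toMonoidHom = A) (hb : ∀ g : G, (∀ a ∈ A, ∀ b ∈ A.map (MulAut.conj g).toMonoidHom, a * b = b * a) → A.map (MulAut.conj g).toMonoidHom = A) (a : G) (ha : a ∈ A) (ha1 : a ≠ 1) (g : G) (hg : A.map (MulAut.conj g).toMonoidHom ≤ Subgroup.centralizer ({a} : Set G)) : A.map (MulAut.conj g).toMonoidHom = A := by
  classical
  set B := A.map (MulAut.conj g).toMonoidHom with hBdef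
  -- conjugates of `A` that are not disjoint coincide
  have hTI' : ∀ c d : G, ∀ w : G, w ≠ 1 → w ∈ A.map (MulAut.conj c).toMonoidHom →
      w ∈ A.map (MulAut.conj d).toMonoidHom →
      A.map (MulAut.conj c).toMonoidHom = A.map (MulAut.conj d).toMonoidHom := by
    intro c d w hw1 hwc hwd
    rcases hTI (d⁻¹ * c) with h | h
    · exfalso
      have hmem : d⁻¹ * w * d ∈ A.map (MulAut.conj (d⁻¹ * c)).toMonoidHom ⊓ A := by
        refine Subgroup.mem_inf.mpr ⟨?_, Invol.mem_map_conj.mp hwd⟩
        rw [Invol.mem_map_conj]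
        have := Invol.mem_map_conj.mp hwc
        simpa [mul_assoc] using this
      rw [h, Subgroup.mem_bot] at hmem
      exact hw1 (by
        calc w = d * (d⁻¹ * w * d) * d⁻¹ := by group
          _ = 1 := by rw [hmem]; group)
    · have := congrArg (fun K : Subgroup G => K.map (MulAut.conj d).toMonoidHom) h
      simp only [Invol.map_conj_map_conj, mul_inv_cancel_left] at this
      exact this
  by_contra hne
  -- `B` normalises `A`
  have hBA : ∀ b ∈ B, A.map (MulAut.conj b).toMonoidHom = A := by
    intro b hb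
    have hba : b * a * b⁻¹ = a := by
      rw [Subgroup.mem_centralizer_singleton_iff.mp (hg hb), mul_inv_cancel_right]
    have := hTI' b 1 a ha1 (hba ▸ Invol.conj_mem_map_conj ha) (by rwa [Invol.map_conj_one])
    rwa [Invol.map_conj_one] at this
  -- and every element of `A` normalises `B`
  have hAB : ∀ α ∈ A, B.map (MulAut.conj α).toMonoidHom = B := by
    intro α hα
    rcases eq_or_ne α 1 with rfl | hα1
    · rw [Invol.map_conj_one]
    obtain ⟨b, hb, hb1, hbα⟩ : ∃ b ∈ B, b ≠ 1 ∧ b * α = α * b := by
      by_contra hnot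
      push Not at hnot
      let f : B → A := fun b => ⟨(b : G) * α * (b : G)⁻¹,
        (hBA b.1 b.2).le (Invol.conj_mem_map_conj hα)⟩
      have hf : Function.Injective f := by
        intro b c hbc
        have h : (b : G) * α * (b : G)⁻¹ = (c : G) * α * (c : G)⁻¹ := congrArg Subtype.val hbc
        by_contra hne'
        refine hnot ((c⁻¹ * b : B) : G) (c⁻¹ * b : B).2 (fun h1 => hne' ?_) ?_
        · exact (inv_mul_eq_one.mp (Subtype.ext h1 : c⁻¹ * b = 1)).symm
        · change (c : G)⁻¹ * b * α = α * ((c : G)⁻¹ * b)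
          calc (c : G)⁻¹ * b * α = (c : G)⁻¹ * ((b : G) * α * (b : G)⁻¹) * b := by group
            _ = (c : G)⁻¹ * ((c : G) * α * (c : G)⁻¹) * b := by rw [h]
            _ = α * ((c : G)⁻¹ * b) := by group
      have hsurj : Function.Surjective f := by
        have := Fintype.ofFinite A
        have := Fintype.ofFinite B
        refine ((Fintype.bijective_iff_injective_and_card f).mpr ⟨hf, ?_⟩).2
        rw [← Nat.card_eq_fintype_card, ← Nat.card_eq_fintype_card]
        exact Subgroup.card_map_of_injective (MulAut.conj g).injective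
      obtain ⟨b, hb⟩ := hsurj 1
      have h : (b : G) * α * (b : G)⁻¹ = 1 := congrArg Subtype.val hb
      exact hα1 (by simpa using h)
    have hbfix : α * b * α⁻¹ = b := by rw [← hbα, mul_inv_cancel_right]
    have := hTI' (α * g) g b hb1
      (by
        rw [← Invol.map_conj_map_conj, ← hBdef]
        exact hbfix ▸ Invol.conj_mem_map_conj hb) hb
    rwa [← Invol.map_conj_map_conj] at this
  refine hne (hb g (fun α hα b hb' => ?_))
  have h1 : α * b * α⁻¹ * b⁻¹ ∈ B :=
    mul_mem ((hAB α hα).le (Invol.conj_mem_map_conj hb')) (inv_mem hb')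
  have h2 : α * b * α⁻¹ * b⁻¹ ∈ A := by
    have := mul_mem hα ((hBA b hb').le (Invol.conj_mem_map_conj (inv_mem hα)))
    simpa [mul_assoc] using this
  have hbot : B ⊓ A = ⊥ := (hTI g).resolve_right hne
  have h3 : α * b * α⁻¹ * b⁻¹ = 1 := by
    rw [← Subgroup.mem_bot, ← hbot]
    exact ⟨h1, h2⟩
  exact mul_inv_eq_iff_eq_mul.mp (mul_inv_eq_one.mp h3)

end Cfsg.Agent.S1177
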