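import Cfsg.Statements.S1181
import Mathlib
import Cfsg.Agent.Lib.Invol.Isolated
-- import your own Cfsg.Agent.* helpers here

set_option autoImplicit false
open Cfsg

namespace Cfsg.Agent.S1181

/-- Let z be an isolated involution of the finite group G and N a normal subgroup with z ∉ N. Then the centralizer of zN in G/N is the image of C_G(z), and zN is an isolated involution of G/N. -/
theorem result {G : Type*} [Group G] [Finite G] (z : G) (hz : Cfsg.IsIsolatedInvolution z) (N : Subgroup G) [N.Normal] (hzN : z ∉ N) : Subgroup.centralizer ({(QuotientGroup.mk z : G ⧸ N)} : Set (G ⧸ N)) = (Subgroup.centralizer ({z} : Set G)).map (QuotientGroup.mk' N) ∧ Cfsg.IsIsolatedInvolution (QuotientGroup.mk z : G ⧸ N) := by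
  have hzbar : orderOf (QuotientGroup.mk z : G ⧸ N) = 2 := by
    refine Invol.orderOf_two_iff.mpr ⟨?_, fun h => hzN ((QuotientGroup.eq_one_iff z).mp h)⟩
    rw [← QuotientGroup.mk_mul, Invol.mul_self_of_orderOf_two hz.1]
    rfl
  constructor
  · ext x
    constructor
    · induction x using QuotientGroup.induction_on with | _ g => ?_
      intro hx
      rw [Subgroup.mem_centralizer_singleton_iff] at hx
      obtain ⟨k, hko, hkinv, hk, -⟩ := Invol.exists_odd_inverted hz g
      have hkk : k * k = g * z * g⁻¹ * z := by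
        rw [← hk]
        have hzk : z * k⁻¹ * z⁻¹ = k := by
          have := congrArg (fun w => w⁻¹) hkinv
          simpa [mul_assoc] using this
        calc k * k = k * (z * k⁻¹ * z⁻¹) := by rw [hzk]
          _ = k * z * k⁻¹ * z := by
            rw [Invol.inv_of_orderOf_two hz.1]; simp [mul_assoc]
      have hkN : k ∈ N := by
        refine Invol.mem_of_sq_mem hko ?_
        rw [hkk, ← QuotientGroup.eq_one_iff, QuotientGroup.mk_mul, QuotientGroup.mk_mul,
          QuotientGroup.mk_mul, QuotientGroup.mk_inv, hx, mul_inv_cancel_right,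
          ← sq, ← hzbar, pow_orderOf_eq_one]
      refine ⟨k⁻¹ * g, Subgroup.mem_centralizer_singleton_iff.mpr ?_, ?_⟩
      · calc k⁻¹ * g * z = k⁻¹ * (g * z * g⁻¹) * g := by group
          _ = k⁻¹ * (k * z * k⁻¹) * g := by rw [hk]
          _ = z * (k⁻¹ * g) := by group
      · simp [(QuotientGroup.eq_one_iff k).mpr hkN]
    · rintro ⟨c, hc, rfl⟩
      rw [Subgroup.mem_centralizer_singleton_iff]
      have hc' := Subgroup.mem_centralizer_singleton_iff.mp hc
      change (c : G ⧸ N) * (z : G ⧸ N) = (z : G ⧸ N) * (c : G ⧸ N)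
      rw [← QuotientGroup.mk_mul, hc', QuotientGroup.mk_mul]
  · refine ⟨hzbar, fun x hcomm => ?_⟩
    induction x using QuotientGroup.induction_on with | _ g => ?_
    have hu : (g : G ⧸ N) * z * (g : G ⧸ N)⁻¹ = ((g * z * g⁻¹ : G) : G ⧸ N) := by simp
    rw [hu] at hcomm ⊢
    have hodd := Invol.odd_orderOf_conj_mul hz 1 g
    simp only [one_mul, inv_one, mul_one] at hodd
    have hd1 : orderOf ((z * (g * z * g⁻¹) : G) : G ⧸ N) ∣ orderOf (z * (g * z * g⁻¹)) :=
      orderOf_map_dvd (QuotientGroup.mk' N) _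
    have hd2 : orderOf ((z * (g * z * g⁻¹) : G) : G ⧸ N) ∣ 2 := by
      apply orderOf_dvd_of_pow_eq_one
      rw [QuotientGroup.mk_mul, hcomm.mul_pow, ← QuotientGroup.mk_pow N (g * z * g⁻¹), conj_pow,
        ← QuotientGroup.mk_pow, ← hz.1, pow_orderOf_eq_one]
      simp
    have h1 := Nat.Coprime.eq_one_of_dvd
      (Nat.coprime_two_right.mpr (hodd.of_dvd_nat hd1)) hd2
    rw [orderOf_eq_one_iff, QuotientGroup.mk_mul, mul_eq_one_iff_eq_inv'] at h1
    rw [h1, Invol.inv_of_orderOf_two hzbar]

end Cfsg.Agent.S1181
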