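import Cfsg.Statements.S1182
import Mathlib
import Cfsg.Agent.Lib.Invol.Isolated
-- import your own Cfsg.Agent.* helpers here

set_option autoImplicit false
open Cfsg

namespace Cfsg.Agent.S1182

/-- Let z be an isolated involution of the finite group G and H a subgroup normalized by z. If x, y ∈ H both commute with z and y = h x h⁻¹ for some h ∈ H, then y = c x c⁻¹ for some c ∈ H commuting with z. -/
theorem result {G : Type*} [Group G] [Finite G] (z : G) (hz : Cfsg.IsIsolatedInvolution z) (H : Subgroup G) (hzH : z ∈ Subgroup.normalizer (H : Set G)) (x y : G) (hx : x ∈ H) (hy : y ∈ H) (hxz : Commute x z) (hyz : Commute y z) (h : G) (hh : h ∈ H) (hconj : h * x * h⁻¹ = y) : ∃ c ∈ H, Commute c z ∧ c * x * c⁻¹ = y := by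
  obtain ⟨k, -, -, hk, hkmem⟩ := Invol.exists_odd_inverted hz h⁻¹
  simp only [inv_inv] at hk hkmem
  have hu : Commute x (h⁻¹ * z * h) := by
    have := hyz.map (MulAut.conj h⁻¹).toMonoidHom
    rw [← hconj] at this
    simpa [mul_assoc] using this
  have hzz : z⁻¹ = z := Invol.inv_of_orderOf_two hz.1
  have hkx : Commute x k := by
    obtain ⟨i, rfl⟩ := Subgroup.mem_zpowers_iff.mp hkmem
    exact (hxz.mul_right hu).zpow_right i
  have hkH : k ∈ H := by
    refine (Subgroup.zpowers_le (H := H)).mpr ?_ hkmem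
    have h1 : z * h⁻¹ * z ∈ H := by
      have := (Subgroup.mem_normalizer_iff.mp hzH h⁻¹).mp (inv_mem hh)
      rwa [hzz] at this
    have : z * (h⁻¹ * z * h) = z * h⁻¹ * z * h := by group
    rw [this]
    exact mul_mem h1 hh
  refine ⟨h * k, mul_mem hh hkH, ?_, ?_⟩
  · have e : k * z = h⁻¹ * z * h * k := mul_inv_eq_iff_eq_mul.mp hk
    change h * k * z = z * (h * k)
    rw [mul_assoc, e]
    group
  · calc h * k * x * (h * k)⁻¹ = h * (k * x * k⁻¹) * h⁻¹ := by group
      _ = h * x * h⁻¹ := by rw [← hkx.eq, mul_inv_cancel_right]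
      _ = y := hconj

end Cfsg.Agent.S1182
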