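import Cfsg.Statements.S1183
import Cfsg.Agent.Lib.Invol.IsolatedFactor
import Cfsg.Agent.Lib.Transfer.Residual
-- import your own Cfsg.Agent.* helpers here

set_option autoImplicit false
open Cfsg

namespace Cfsg.Agent.S1183

/-- Let z be an isolated involution of the finite group G and C = C_G(z). Then the subgroup of G generated by its elements of odd order is all of G if and only if the subgroup of C generated by its elements of odd order is all of C. -/
theorem result {G : Type*} [Group G] [Finite G] (z : G) (hz : Cfsg.IsIsolatedInvolution z) : Cfsg.pResidual 2 G = ⊤ ↔ Cfsg.pResidual 2 ↥(Subgroup.centralizer ({z} : Set G)) = ⊤ := by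
  set N := pPrimeCore 2 G
  have : N.Normal := Grp.pPrimeCore_isNormal
  set C := Subgroup.centralizer ({z} : Set G)
  set f := (QuotientGroup.mk' N).comp C.subtype
  have hf : Function.Surjective f := by
    intro q
    obtain ⟨g, rfl⟩ := QuotientGroup.mk'_surjective N q
    obtain ⟨k, -, -, hk, hc⟩ := Invol.isolated_exists_factor hz g
    refine ⟨⟨_, hc⟩, ?_⟩
    show QuotientGroup.mk' N (k⁻¹ * g) = _
    rw [map_mul, map_inv, show QuotientGroup.mk' N k = 1 from (QuotientGroup.eq_one_iff k).2 hk,
      inv_one, one_mul]
  have hN : ∀ {H : Type _} [Group H] (x : H), Odd (orderOf x) → x ∈ pResidual 2 H := fun x hx =>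
    Transfer.mem_pResidual_of_coprime (Nat.coprime_two_right.2 hx)
  have hG : N ≤ pResidual 2 G := fun x hx => hN x (Invol.odd_orderOf_of_mem_core hx)
  have hC : f.ker ≤ pResidual 2 C := fun x hx => hN x (by
    rw [← Subgroup.orderOf_coe]
    exact Invol.odd_orderOf_of_mem_core ((QuotientGroup.eq_one_iff (x : G)).1 hx))
  have e1 := Transfer.pResidual_map_of_surjective (p := 2) (f := f) hf
  have e2 := Transfer.pResidual_map_of_surjective (p := 2) (f := QuotientGroup.mk' N)
    (QuotientGroup.mk'_surjective N)
  constructor
  · intro h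
    rw [h, Subgroup.map_top_of_surjective _ (QuotientGroup.mk'_surjective N)] at e2
    rw [← e2] at e1
    have h3 := congrArg (Subgroup.comap f) e1
    rwa [Subgroup.comap_map_eq_self hC, Subgroup.comap_top] at h3
  · intro h
    rw [h, Subgroup.map_top_of_surjective _ hf] at e1
    rw [← e1] at e2
    have h3 := congrArg (Subgroup.comap (QuotientGroup.mk' N)) e2
    rwa [Subgroup.comap_map_eq_self (by rwa [QuotientGroup.ker_mk']), Subgroup.comap_top] at h3

end Cfsg.Agent.S1183
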