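import Cfsg.Statements.S1184
import Mathlib
import Cfsg.Agent.Lib.Invol.Isolated
-- import your own Cfsg.Agent.* helpers here

set_option autoImplicit false
open Cfsg

namespace Cfsg.Agent.S1184

/-- Let z be an isolated involution of the finite group G. If s and t are distinct conjugates of z, then st does not commute with z. -/
theorem result {G : Type*} [Group G] [Finite G] (z : G) (hz : Cfsg.IsIsolatedInvolution z) (g h : G) (hne : g * z * g⁻¹ ≠ h * z * h⁻¹) : ¬ Commute (g * z * g⁻¹ * (h * z * h⁻¹)) z := by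
  intro hcomm
  set s := g * z * g⁻¹ with hs
  set t := h * z * h⁻¹ with ht
  have hs2 : orderOf s = 2 := by rw [hs, Invol.orderOf_conj_eq, hz.1]
  have ht2 : orderOf t = 2 := by rw [ht, Invol.orderOf_conj_eq, hz.1]
  have hzz : z⁻¹ = z := Invol.inv_of_orderOf_two hz.1
  set K := Subgroup.normalizer (Subgroup.zpowers (s * t) : Set G) with hK
  have hzC : z ∈ Subgroup.centralizer (Subgroup.zpowers (s * t) : Set G) := by
    rw [Subgroup.mem_centralizer_iff]
    intro w hw
    obtain ⟨i, rfl⟩ := Subgroup.mem_zpowers_iff.mp hw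
    exact (hcomm.zpow_left i).eq
  have hsK : s ∈ K := by
    rw [hK, Subgroup.mem_normalizer_iff]
    intro w
    constructor <;> intro hw <;> obtain ⟨i, hi⟩ := Subgroup.mem_zpowers_iff.mp hw
    · exact Subgroup.mem_zpowers_iff.mpr ⟨-i, by rw [← Invol.conj_mul_zpow_eq_inv hs2 ht2, hi]⟩
    · refine Subgroup.mem_zpowers_iff.mpr ⟨-i, ?_⟩
      rw [← Invol.conj_mul_zpow_eq_inv hs2 ht2, hi, Invol.inv_of_orderOf_two hs2]
      simp [← mul_assoc, Invol.mul_self_of_orderOf_two hs2,
        mul_assoc _ s s]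
  obtain ⟨k, -, -, hk, hkmem⟩ := Invol.exists_odd_inverted hz g
  have hkK : k ∈ K :=
    (Subgroup.zpowers_le (H := K)).mpr (mul_mem (Subgroup.centralizer_le_normalizer _ hzC) hsK) hkmem
  -- so `s` centralises `s * t`, which it inverts
  have hsfix : s * (s * t) = (s * t) * s := by
    have hmem : k⁻¹ * (s * t) * k ∈ Subgroup.zpowers (s * t) :=
      (Subgroup.mem_normalizer_iff''.mp hkK _).mp (Subgroup.mem_zpowers _)
    have hc := Subgroup.mem_centralizer_iff.mp hzC _ hmem
    rw [← hs] at hk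
    calc s * (s * t) = (k * z * k⁻¹) * (s * t) := by rw [hk]
      _ = k * (z * (k⁻¹ * (s * t) * k)) * k⁻¹ := by group
      _ = k * (k⁻¹ * (s * t) * k * z) * k⁻¹ := by rw [← hc]
      _ = (s * t) * (k * z * k⁻¹) := by group
      _ = (s * t) * s := by rw [hk]
  have h1 := Invol.conj_mul_eq_inv hs2 ht2
  rw [hsfix, mul_inv_cancel_right] at h1
  have hd : orderOf (s * t) ∣ 2 := by
    apply orderOf_dvd_of_pow_eq_one
    rw [sq]; nth_rewrite 2 [h1]; exact mul_inv_cancel _
  have hodd : Odd (orderOf (s * t)) := Invol.odd_orderOf_conj_mul hz g h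
  have := Nat.Coprime.eq_one_of_dvd (Nat.coprime_two_right.mpr hodd) hd
  rw [orderOf_eq_one_iff, mul_eq_one_iff_eq_inv, Invol.inv_of_orderOf_two ht2] at this
  exact hne this

end Cfsg.Agent.S1184
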