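import Cfsg.Statements.S1185
import Mathlib
import Cfsg.Agent.Lib.Invol.Isolated
-- import your own Cfsg.Agent.* helpers here

set_option autoImplicit false
open Cfsg

namespace Cfsg.Agent.S1185

/-- Let z be an isolated involution of the finite group G with centralizer C. Then for every g ∈ G there is exactly one element k in the coset gC that has odd order and is inverted by z. -/
theorem result {G : Type*} [Group G] [Finite G] (z : G) (hz : Cfsg.IsIsolatedInvolution z) (g : G) : ∃! k : G, (Odd (orderOf k) ∧ z * k * z⁻¹ = k⁻¹) ∧ g⁻¹ * k ∈ Subgroup.centralizer ({z} : Set G) := by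
  obtain ⟨k, hko, hkinv, hk, -⟩ := Invol.exists_odd_inverted hz g
  have hmem : ∀ l : G, g⁻¹ * l ∈ Subgroup.centralizer ({z} : Set G) ↔ l * z * l⁻¹ = g * z * g⁻¹ := by
    intro l
    rw [Subgroup.mem_centralizer_singleton_iff, mul_inv_eq_iff_eq_mul]
    constructor <;> intro h
    · calc l * z = g * (g⁻¹ * l * z) := by group
        _ = g * (z * (g⁻¹ * l)) := by rw [h]
        _ = g * z * g⁻¹ * l := by group
    · calc g⁻¹ * l * z = g⁻¹ * (l * z) := by group
        _ = z * (g⁻¹ * l) := by rw [h]; group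
  refine ⟨k, ⟨⟨hko, hkinv⟩, (hmem k).mpr hk⟩, ?_⟩
  rintro l ⟨⟨hlo, hlinv⟩, hl⟩
  rw [hmem] at hl
  have hsq : ∀ m : G, z * m * z⁻¹ = m⁻¹ → m * m = m * z * m⁻¹ * z⁻¹ := by
    intro m hm
    have : z * m⁻¹ * z⁻¹ = m := by
      have := congrArg (fun w => w⁻¹) hm
      simpa [mul_assoc] using this
    calc m * m = m * (z * m⁻¹ * z⁻¹) := by rw [this]
      _ = m * z * m⁻¹ * z⁻¹ := by group
  have h2 : l * l = k * k := by rw [hsq l hlinv, hsq k hkinv, hl, hk]
  have hol : orderOf (l * l) = orderOf l := by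
    rw [← sq, orderOf_pow' _ two_ne_zero, Nat.coprime_iff_gcd_eq_one.mp
      (Nat.coprime_two_right.mpr hlo), Nat.div_one]
  have hok : orderOf (k * k) = orderOf k := by
    rw [← sq, orderOf_pow' _ two_ne_zero, Nat.coprime_iff_gcd_eq_one.mp
      (Nat.coprime_two_right.mpr hko), Nat.div_one]
  obtain ⟨j, hj⟩ := hko
  have hroot : ∀ m : G, orderOf m = 2 * j + 1 → m = (m * m) ^ (j + 1) := by
    intro m hm
    have h1 := pow_orderOf_eq_one m
    rw [hm] at h1
    rw [← sq, ← pow_mul, show 2 * (j + 1) = 2 * j + 1 + 1 by ring, pow_succ, h1, one_mul]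
  rw [hroot k hj, hroot l (by rw [← hol, h2, hok, hj]), h2]

end Cfsg.Agent.S1185
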