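import Cfsg.Statements.S1186
import Cfsg.Agent.Lib.Invol.IsolatedFactor
-- import your own Cfsg.Agent.* helpers here

set_option autoImplicit false
open Cfsg

namespace Cfsg.Agent.S1186

theorem core {G : Type*} [Group G] [Finite G] (N : Subgroup G) [N.Normal] (hN : Odd (Nat.card N))
    {z s : G} (hs : s * s = 1) (hsz : Commute s z)
    (hmem : ∀ k : G, Odd (orderOf k) → z * k * z⁻¹ = k⁻¹ → k ∈ N) :
    Nat.card {k : G // Odd (orderOf k) ∧ z * k * z⁻¹ = k⁻¹} =
      Nat.card {k : G // Odd (orderOf k) ∧ z * k * z⁻¹ = k⁻¹ ∧ Commute k (s * z)} *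
      Nat.card {k : G // Odd (orderOf k) ∧ z * k * z⁻¹ = k⁻¹ ∧ Commute k s} := by
  obtain ⟨j, hj⟩ := id hN
  have hpow : ∀ x ∈ N, (x ^ (j + 1)) * (x ^ (j + 1)) = x := by
    intro x hx
    rw [← pow_add, show j + 1 + (j + 1) = 2 * j + 1 + 1 by ring, pow_succ, ← hj,
      orderOf_dvd_iff_pow_eq_one.1 (by rw [← Subgroup.orderOf_mk x hx]; exact orderOf_dvd_natCard _),
      one_mul]
  have hodd : ∀ x ∈ N, Odd (orderOf x) := fun x hx =>
    Odd.of_dvd_nat hN (by rw [← Subgroup.orderOf_mk x hx]; exact orderOf_dvd_natCard _)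
  have hun : ∀ A ∈ N, ∀ B ∈ N, ∀ c ∈ N, A * c * A = B * c * B → A = B := by
    intro A hA B hB c hc h
    refine mul_right_cancel (Invol.eq_of_sq_eq (hodd _ (mul_mem hA hc)) (hodd _ (mul_mem hB hc)) ?_)
    rw [← mul_assoc, h, mul_assoc]
  have hsi : s⁻¹ = s := inv_eq_of_mul_eq_one_right hs
  rw [mul_comm, ← Nat.card_prod]
  symm
  refine Nat.card_eq_of_bijective (fun p => ⟨(p.1 : G) * p.2 * p.1,
    hodd _ (mul_mem (mul_mem (hmem _ p.1.2.1 p.1.2.2.1) (hmem _ p.2.2.1 p.2.2.2.1))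
      (hmem _ p.1.2.1 p.1.2.2.1)), ?_⟩) ⟨?_, ?_⟩
  · rw [← conj_mul, ← conj_mul, p.1.2.2.1, p.2.2.2.1]; group
  · rintro ⟨⟨a, ha, hai, has⟩, ⟨b, hb, hbi, hbs⟩⟩ ⟨⟨a', ha', hai', has'⟩, ⟨b', hb', hbi', hbs'⟩⟩ h
    simp only [Subtype.mk.injEq] at h
    have key : ∀ a b : G, z * b * z⁻¹ = b⁻¹ → Commute a s → Commute b (s * z) →
        (a * a) * (a * b * a)⁻¹ * (a * a) = s * (a * b * a) * s⁻¹ := by
      intro a b hbi hac hbc
      have h1 : s * b * s⁻¹ = b⁻¹ := by
        have e : s * (z * b * z⁻¹) * s⁻¹ = b := by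
          calc s * (z * b * z⁻¹) * s⁻¹ = (s * z * b) * (z⁻¹ * s⁻¹) := by group
            _ = (b * (s * z)) * (z⁻¹ * s⁻¹) := by rw [hbc.eq]
            _ = b := by group
        rw [hbi] at e
        calc s * b * s⁻¹ = (s * b⁻¹ * s⁻¹)⁻¹ := by group
          _ = b⁻¹ := by rw [e]
      have h2 : s * a * s⁻¹ = a := by rw [← hac.eq, mul_inv_cancel_right]
      rw [← conj_mul, ← conj_mul, h1, h2]; group
    have e1 := key a b hbi has hbs
    have e2 := key a' b' hbi' has' hbs'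
    rw [← h] at e2
    have hA : a * a = a' * a' := hun _ (mul_mem (hmem a ha hai) (hmem a ha hai)) _
      (mul_mem (hmem a' ha' hai') (hmem a' ha' hai')) _
      (inv_mem (mul_mem (mul_mem (hmem a ha hai) (hmem b hb hbi)) (hmem a ha hai))) (e1.trans e2.symm)
    obtain rfl := Invol.eq_of_sq_eq ha ha' hA
    simp only [mul_left_inj, mul_right_inj] at h
    subst h
    rfl
  · rintro ⟨k, hk, hki⟩
    have hkN := hmem k hk hki
    set k' := s * k * s⁻¹ with hk'
    have hk'N : k' ∈ N := Subgroup.Normal.conj_mem inferInstance k hkN s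
    set A := (k' * k⁻¹) ^ (j + 1) * k with hA
    have hAN : A ∈ N := mul_mem (pow_mem (mul_mem hk'N (inv_mem hkN)) _) hkN
    have hAeq : A * k⁻¹ * A = k' := by
      rw [hA, mul_inv_cancel_right, ← mul_assoc, hpow _ (mul_mem hk'N (inv_mem hkN)),
        inv_mul_cancel_right]
    have hk'i : z * k' * z⁻¹ = k'⁻¹ := by
      calc z * k' * z⁻¹ = (z * s) * k * (z * s)⁻¹ := by rw [hk']; group
        _ = s * (z * k * z⁻¹) * s⁻¹ := by rw [← hsz.eq]; group
        _ = k'⁻¹ := by rw [hki, hk']; group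
    have hAi : z * A * z⁻¹ = A⁻¹ := by
      have h1 : (z * A * z⁻¹) * k * (z * A * z⁻¹) = k'⁻¹ := by
        have e : z * k⁻¹ * z⁻¹ = k := by rw [← conj_inv, hki, inv_inv]
        calc (z * A * z⁻¹) * k * (z * A * z⁻¹)
            = (z * A * z⁻¹) * (z * k⁻¹ * z⁻¹) * (z * A * z⁻¹) := by rw [e]
          _ = z * (A * k⁻¹ * A) * z⁻¹ := by group
          _ = k'⁻¹ := by rw [hAeq, hk'i]
      have h2 : (z * A * z⁻¹)⁻¹ * k⁻¹ * (z * A * z⁻¹)⁻¹ = A * k⁻¹ * A := by
        calc (z * A * z⁻¹)⁻¹ * k⁻¹ * (z * A * z⁻¹)⁻¹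
            = ((z * A * z⁻¹) * k * (z * A * z⁻¹))⁻¹ := by group
          _ = A * k⁻¹ * A := by rw [h1, inv_inv, hAeq]
      have h3 := hun _ (inv_mem (Subgroup.Normal.conj_mem inferInstance A hAN z)) A hAN _
        (inv_mem hkN) h2
      exact inv_eq_iff_eq_inv.1 h3
    have hAs : s * A * s⁻¹ = A := by
      refine hun _ (Subgroup.Normal.conj_mem inferInstance A hAN s) A hAN _ (inv_mem hkN) ?_
      rw [hAeq]
      have h1 : (s * A * s⁻¹) * k'⁻¹ * (s * A * s⁻¹) = k := by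
        calc (s * A * s⁻¹) * k'⁻¹ * (s * A * s⁻¹) = s * (A * k⁻¹ * A) * s⁻¹ := by rw [hk']; group
          _ = (s * s) * k * (s * s)⁻¹ := by rw [hAeq, hk']; group
          _ = k := by rw [hs]; group
      set D := s * A * s⁻¹
      calc D * k⁻¹ * D = D * (D * k'⁻¹ * D)⁻¹ * D := by rw [h1]
        _ = k' := by group
    set a := A ^ (j + 1) with ha
    have haa : a * a = A := hpow A hAN
    have haN : a ∈ N := pow_mem hAN _
    have hai : z * a * z⁻¹ = a⁻¹ := by rw [ha, ← conj_pow, hAi, inv_pow]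
    have has : Commute a s := (Commute.pow_left (mul_inv_eq_iff_eq_mul.1 hAs).symm _)
    set b := a⁻¹ * k * a⁻¹ with hb
    have hbN : b ∈ N := mul_mem (mul_mem (inv_mem haN) hkN) (inv_mem haN)
    have hbi : z * b * z⁻¹ = b⁻¹ := by
      rw [hb, ← conj_mul, ← conj_mul, ← conj_inv, hai, hki]; group
    have hbs : Commute b (s * z) := by
      have h1 : s * b * s⁻¹ = b⁻¹ := by
        calc s * b * s⁻¹ = (s * a⁻¹ * s⁻¹) * k' * (s * a⁻¹ * s⁻¹) := by rw [hb, hk']; group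
          _ = a⁻¹ * (a * a * k⁻¹ * (a * a)) * a⁻¹ := by
            rw [haa, hAeq, ← has.inv_left.eq, mul_inv_cancel_right]
          _ = b⁻¹ := by rw [hb]; group
      refine (mul_inv_eq_iff_eq_mul.1 ?_).symm
      calc s * z * b * (s * z)⁻¹ = s * (z * b * z⁻¹) * s⁻¹ := by group
        _ = b := by rw [hbi, ← conj_inv, h1, inv_inv]
    exact ⟨⟨⟨a, hodd a haN, hai, has⟩, ⟨b, hodd b hbN, hbi, hbs⟩⟩, Subtype.ext (by
      show a * b * a = k
      rw [hb]; group)⟩

/-- Let z be an isolated involution of the finite group G, C = C_G(z), K the set of elements of odd order inverted by z, and s an involution of C. Then |G| = |C| · |C_K(sz)| · |C_K(s)|. -/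
theorem result {G : Type*} [Group G] [Finite G] (z : G) (hz : Cfsg.IsIsolatedInvolution z) (s : G) (hs : orderOf s = 2) (hsz : Commute s z) : Nat.card G = Nat.card (Subgroup.centralizer ({z} : Set G)) * Nat.card {k : G // Odd (orderOf k) ∧ z * k * z⁻¹ = k⁻¹ ∧ Commute k (s * z)} * Nat.card {k : G // Odd (orderOf k) ∧ z * k * z⁻¹ = k⁻¹ ∧ Commute k s} := by
  have := Grp.pPrimeCore_isNormal (p := 2) (G := G)
  rw [Invol.isolated_card hz, core (pPrimeCore 2 G) Invol.odd_oddCore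
    (Invol.mul_self_of_orderOf_two hs) hsz (fun k hk hki => Invol.mem_core_of_inverted hz hk hki),
    mul_assoc]

end Cfsg.Agent.S1186
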