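import Cfsg.Statements.S1187
import Cfsg.Agent.Lib.Invol.IsolatedFactor
-- import your own Cfsg.Agent.* helpers here

set_option autoImplicit false
open Cfsg

namespace Cfsg.Agent.S1187

/-- Let z be an isolated involution of the finite group G and p a prime. If Q is a p-subgroup normalized by z that is maximal among p-subgroups normalized by z, then Q is a Sylow p-subgroup of G. -/
theorem result {G : Type*} [Group G] [Finite G] (z : G) (hz : Cfsg.IsIsolatedInvolution z) {p : ℕ} [Fact p.Prime] (Q : Subgroup G) (hQ : IsPGroup p Q) (hzQ : z ∈ Subgroup.normalizer (Q : Set G)) (hmax : ∀ R : Subgroup G, IsPGroup p R → z ∈ Subgroup.normalizer (R : Set G) → Q ≤ R → R = Q) : ∃ P : Sylow p G, (P : Subgroup G) = Q := by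
  by_cases hp : p = 2
  · subst hp
    have h1 : IsPGroup 2 ↥(Q ⊔ Subgroup.zpowers z) :=
      hQ.to_sup_of_normal_left' (Invol.isPGroup_zpowers (n := 1) (by rw [hz.1, pow_one]))
        (Subgroup.zpowers_le.2 hzQ)
    obtain ⟨P, hP⟩ := h1.exists_le_sylow
    exact ⟨P, hmax _ P.isPGroup'
      (Subgroup.le_normalizer (hP (Subgroup.mem_sup_right (Subgroup.mem_zpowers z))))
      (le_sup_left.trans hP)⟩
  · obtain ⟨P, hQP, hzP⟩ := Invol.exists_isolated_invariant_sylow hz hp hQ hzQ
    exact ⟨P, hmax _ P.isPGroup' hzP hQP⟩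

end Cfsg.Agent.S1187
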