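import Cfsg.Statements.S1191
import Cfsg.Agent.Lib.Invol.QuasiDihedral
-- import your own Cfsg.Agent.* helpers here

set_option autoImplicit false
open Cfsg

namespace Cfsg.Agent.S1191

/-- In a quasi-dihedral 2-group S, any two subgroups isomorphic to the quaternion group of order 8 are conjugate, and each such subgroup Q satisfies C_S(Q) = Z(Q) and |N_S(Q) : Q| = 2. -/
theorem result {S : Type*} [Group S] [Finite S] (hS : Cfsg.IsQuasiDihedral S) : (∀ Q₁ Q₂ : Subgroup S, Nonempty (Q₁ ≃* QuaternionGroup 2) → Nonempty (Q₂ ≃* QuaternionGroup 2) → ∃ s : S, Q₁.map (MulAut.conj s).toMonoidHom = Q₂) ∧ (∀ Q : Subgroup S, Nonempty (Q ≃* QuaternionGroup 2) → Subgroup.centralizer (Q : Set S) = (Subgroup.center Q).map Q.subtype ∧ Q.relIndex (Subgroup.normalizer (Q : Set S)) = 2) := by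
  obtain ⟨n, x, y, h⟩ := Invol.exists_qd hS
  have := h.finite
  refine ⟨fun Q₁ Q₂ h₁ h₂ => ?_, fun Q hQ => ?_⟩
  · obtain ⟨i, hi, rfl⟩ := h.eq_quat h₁.some
    obtain ⟨j, hj, rfl⟩ := h.eq_quat h₂.some
    obtain ⟨k, hk⟩ := h.exists_conj_sub (Invol.QD.quarter_dvd n) (i := i) (j := j) (by omega)
    exact ⟨_, hk⟩
  · obtain ⟨e⟩ := hQ
    obtain ⟨i, hi, rfl⟩ := h.eq_quat e
    obtain ⟨r, hr⟩ := h.qq_even
    refine ⟨?_, ?_⟩
    · ext s
      constructor
      · intro hs
        have ha := hs (x ^ Invol.qq n) ((h.zpow_mem_sub _).mpr dvd_rfl)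
        have hb := hs (x ^ i * y) ((h.mul_y_mem_sub _).mpr ⟨0, by ring⟩)
        have hsQ : s ∈ h.quat i := by
          obtain ⟨k, rfl | rfl⟩ := h.cases' s
          · obtain ⟨c, hc⟩ : ∃ c, k * (1 - Invol.qq n) = 2 * Invol.qq n * c := by
              rw [← mul_assoc, ← zpow_add, h.mul_y_mul_zpow, h.mul_y_eq] at hb
              obtain ⟨c, hc⟩ := hb
              exact ⟨-c, by linarith⟩
            rw [h.zpow_mem_sub]
            obtain ⟨f, hf⟩ := h.qq_sq
            exact ⟨2 * (c * (1 + Invol.qq n) + k * f), by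
              linear_combination (1 + Invol.qq n) * hc + k * hf⟩
          · exfalso
            rw [h.mul_y_mul_zpow, ← mul_assoc, ← zpow_add, h.mul_y_eq] at ha
            obtain ⟨c, hc⟩ := ha
            have : Invol.qq n * (2 - 4 * r - 4 * c) = 0 := by
              linear_combination hc + 2 * (Invol.qq n) * hr
            rcases mul_eq_zero.mp this with h0 | h0
            · exact h.qq_pos.ne' h0
            · omega
        refine ⟨⟨s, hsQ⟩, Subgroup.mem_center_iff.mpr fun q => Subtype.ext (hs q q.2), rfl⟩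
      · rintro ⟨⟨s, hsQ⟩, hc, rfl⟩ q hq
        exact congrArg Subtype.val (Subgroup.mem_center_iff.mp hc ⟨q, hq⟩)
    · have hn := h.normalizer_sub (d := r) ⟨2, by linarith⟩ i
      have he : h.sub (2 * r) (by exact ⟨2, by linarith⟩) i = h.quat i := by
        congr 1
        exact hr.symm
      rw [he] at hn
      rw [hn, Subgroup.relIndex]
      have hle : h.quat i ≤ h.sub r (Dvd.intro 4 (by linarith)) i := hn ▸ Subgroup.le_normalizer
      have := Subgroup.card_mul_index ((h.quat i).subgroupOf (h.sub r (Dvd.intro 4 (by linarith)) i))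
      rw [Nat.card_congr (Subgroup.subgroupOfEquivOfLe hle).toEquiv, h.card_quat, h.card_sub] at this
      have ho : orderOf (x ^ r) = 8 := by
        rw [show (8 : ℕ) = 2 ^ (2 + 1) from rfl]
        refine orderOf_eq_prime_pow ?_ ?_ <;>
          rw [← zpow_natCast, ← zpow_mul, h.zpow_eq_one, hr] <;> push_cast
        · rintro ⟨c, hc⟩
          have : r * (8 * c - 4) = 0 := by linarith
          rcases mul_eq_zero.mp this with h0 | h0
          · exact h.qq_pos.ne' (by rw [hr, h0, mul_zero])
          · omega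
        · exact ⟨1, by ring⟩
      rw [ho] at this
      omega

end Cfsg.Agent.S1191
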