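import Cfsg.Statements.S1192
import Mathlib
import Cfsg.Agent.Lib.Recog.QuasiDihedral
-- import your own Cfsg.Agent.* helpers here

set_option autoImplicit false
open Cfsg

namespace Cfsg.Agent.S1192

/-- A quasi-dihedral group S of order 2^(n+1) has exactly three maximal subgroups; one is cyclic, one is isomorphic to the generalized quaternion group of order 2^n and one to the dihedral group of order 2^n. -/
theorem result {S : Type*} [Group S] [Finite S] (hS : Cfsg.IsQuasiDihedral S) (n : ℕ) (hn : Nat.card S = 2 ^ (n + 1)) : ∃ M₁ M₂ M₃ : Subgroup S, IsCoatom M₁ ∧ IsCoatom M₂ ∧ IsCoatom M₃ ∧ M₁ ≠ M₂ ∧ M₁ ≠ M₃ ∧ M₂ ≠ M₃ ∧ (∀ M : Subgroup S, IsCoatom M → M = M₁ ∨ M = M₂ ∨ M = M₃) ∧ IsCyclic M₁ ∧ Nonempty (M₂ ≃* QuaternionGroup (2 ^ (n - 2))) ∧ Nonempty (M₃ ≃* DihedralGroup (2 ^ (n - 1))) := by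
  obtain ⟨hn3, a, b, h, hb, hc⟩ := Cfsg.Agent.MaxClass.exists_shape_of_isQuasiDihedral hS hn
  have hco : ∀ M : Subgroup S, M.index = 2 → IsCoatom M := fun M hM => by
    refine ⟨fun ht => by rw [ht, Subgroup.index_top] at hM; norm_num at hM, fun K hK => ?_⟩
    have h1 := Subgroup.relIndex_mul_index hK.le
    rw [hM] at h1
    rcases (Nat.dvd_prime Nat.prime_two).1 (Dvd.intro_left _ h1) with h2 | h2
    · exact Subgroup.index_eq_one.1 h2
    · exfalso
      refine hK.not_ge (Subgroup.relIndex_eq_one.1 ?_)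
      rw [h2] at h1; omega
  obtain ⟨hi1, hi2⟩ := Cfsg.Agent.MaxClass.qd_index_over h hn3 hb hc
  obtain ⟨hne1, hne2, hne3⟩ := Cfsg.Agent.MaxClass.qd_ne h hn3 hb hc
  exact ⟨_, _, _, hco _ h.index, hco _ hi1, hco _ hi2, hne1, hne2, hne3,
    fun M hM => Cfsg.Agent.MaxClass.qd_coatom_cases h hn3 hb hc hM, Subgroup.isCyclic_zpowers a,
    Cfsg.Agent.MaxClass.qd_quaternion h hn3 hb hc, Cfsg.Agent.MaxClass.qd_dihedral h hn3 hb hc⟩

end Cfsg.Agent.S1192
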