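import Cfsg.Statements.S1194
import Cfsg.Agent.Lib.Invol.QuasiDihedral
-- import your own Cfsg.Agent.* helpers here

set_option autoImplicit false
open Cfsg

namespace Cfsg.Agent.S1194

/-- In a quasi-dihedral 2-group S, every proper normal subgroup is either a maximal subgroup or a cyclic subgroup contained in the derived subgroup S'. -/
theorem result {S : Type*} [Group S] [Finite S] (hS : Cfsg.IsQuasiDihedral S) (N : Subgroup S) [N.Normal] (hN : N ≠ ⊤) : IsCoatom N ∨ (IsCyclic N ∧ N ≤ commutator S) := by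
  obtain ⟨n, x, y, h⟩ := Invol.exists_qd hS
  by_cases hle : N ≤ Subgroup.zpowers x
  · have hcyc : IsCyclic N := Subgroup.isCyclic_of_le hle
    by_cases hx : x ∈ N
    · refine .inl ?_
      have := h.finite
      have : N = Subgroup.zpowers x := le_antisymm hle (Subgroup.zpowers_le.mpr hx)
      subst this
      exact Invol.QD.isCoatom_of_index_two h.index_zpowers
    · refine .inr ⟨hcyc, fun s hs => ?_⟩
      obtain ⟨i, rfl⟩ := Subgroup.mem_zpowers_iff.mp (hle hs)
      rcases Int.even_or_odd i with ⟨d, rfl⟩ | ⟨d, rfl⟩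
      · rw [show d + d = 2 * d by ring, zpow_mul]
        exact zpow_mem h.commutator_eq d
      · refine absurd ?_ hx
        have hco : IsCoprime (2 * d + 1) (4 * Invol.qq n) := by
          rw [show 4 * Invol.qq n = (2 : ℤ) ^ n by
            rw [← h.orderOf_cast, h.ox]; push_cast; rfl]
          exact IsCoprime.pow_right ⟨1, -d, by ring⟩
        obtain ⟨a, b, hab⟩ := hco
        have := zpow_mem hs a
        rwa [← zpow_mul, (h.zpow_eq (i := (2 * d + 1) * a) (j := 1)).mpr ⟨-b, by linarith⟩, zpow_one] at this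
  · refine .inl ?_
    obtain ⟨s, hs, hsx⟩ := SetLike.not_le_iff_exists.mp hle
    obtain ⟨i, rfl | rfl⟩ := h.cases' s
    · exact absurd (zpow_mem (Subgroup.mem_zpowers x) i) hsx
    have hsub : h.sub 2 (Invol.QD.two_dvd n) i ≤ N := by
      rintro t ⟨k, ht⟩
      have h1 : ∀ j : ℤ, 2 ∣ j - i → x ^ j * y ∈ N := fun j hj => by
        obtain ⟨k', hk'⟩ := h.conj_mul_y hj
        exact hk' ▸ Subgroup.Normal.conj_mem ‹N.Normal› _ hs _
      rcases ht with rfl | rfl
      · have h2 := mul_mem (h1 (i + k * 2) ⟨k, by ring⟩) (inv_mem hs)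
        rwa [mul_inv_rev, mul_assoc, ← mul_assoc y, mul_inv_cancel, one_mul, ← zpow_neg,
          ← zpow_add, show i + k * 2 + -i = k * 2 by ring] at h2
      · exact h1 _ ⟨k, by ring⟩
    have := h.finite
    have hidx : (h.sub 2 (Invol.QD.two_dvd n) i).index = 2 := by
      have h1 := (h.sub 2 (Invol.QD.two_dvd n) i).card_mul_index
      rw [h.card_sub, zpow_ofNat,
        orderOf_pow_of_dvd two_ne_zero (h.ox ▸ dvd_pow_self 2 (by have := h.hn; omega)), h.ox,
        h.card, show 2 ^ n / 2 = 2 ^ (n - 1) by rw [← Nat.pow_div (by linarith [h.hn]) two_pos, pow_one],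
        show 2 * 2 ^ (n - 1) = 2 ^ n by rw [← pow_succ', Nat.sub_add_cancel (by linarith [h.hn])],
        pow_succ 2 n] at h1
      exact Nat.eq_of_mul_eq_mul_left (by positivity) h1
    rcases (Invol.QD.isCoatom_of_index_two hidx).le_iff.mp hsub with h1 | h1
    · exact absurd h1 hN
    · rw [h1]; exact Invol.QD.isCoatom_of_index_two hidx

end Cfsg.Agent.S1194
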