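import Cfsg.Statements.S1204
import Cfsg.Agent.Lib.Invol.QuasiDihedralKernel
-- import your own Cfsg.Agent.* helpers here

set_option autoImplicit false
open Cfsg

namespace Cfsg.Agent.S1204

/-- Let G be a finite group with quasi-dihedral Sylow 2-subgroup S, T a Klein four-subgroup and Q a quaternion subgroup of order 8 of S, with |N_G(T) : C_G(T)| = 6 and |N_G(Q) : Q C_G(Q)| = 6. Then G has no subgroup of index 2, exactly one conjugacy class of involutions and exactly one conjugacy class of elements of order 4. -/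
theorem result {G : Type*} [Group G] [Finite G] (S : Sylow 2 G) (hS : Cfsg.IsQuasiDihedral (S : Subgroup G)) (T : Subgroup G) (hT : IsKleinFour T) (hTS : T ≤ S) (Q : Subgroup G) (hQS : Q ≤ S) (eQ : Q ≃* QuaternionGroup 2) (h₁ : (Subgroup.centralizer (T : Set G)).relIndex (Subgroup.normalizer (T : Set G)) = 6) (h₂ : (Q ⊔ Subgroup.centralizer (Q : Set G)).relIndex (Subgroup.normalizer (Q : Set G)) = 6) : (∀ H : Subgroup G, H.index ≠ 2) ∧ Nat.card {C : ConjClasses G // ∃ t : G, orderOf t = 2 ∧ ConjClasses.mk t = C} = 1 ∧ Nat.card {C : ConjClasses G // ∃ t : G, orderOf t = 4 ∧ ConjClasses.mk t = C} = 1 := by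
  obtain ⟨n, x, y, h⟩ := Invol.exists_qd hS
  have hFT := (h.automizer_four hT hTS).2.mp h₁
  have hFQ := (h.automizer_quat hQS eQ).2.mp h₂
  refine ⟨fun H hH => ?_, h.card_two_of_fusT hFT, h.card_four_of_fusQ hFQ⟩
  have := Subgroup.normal_of_index_eq_two hH
  obtain ⟨r, hr⟩ := h.qq_even
  have hsq : ∀ k : ℤ, ((x ^ (2 * k) : ↥(S : Subgroup G)) : G) ∈ H := fun k => by
    rw [mul_comm, zpow_mul, zpow_ofNat, SubgroupClass.coe_pow]
    exact Subgroup.sq_mem_of_index_two hH _
  have hconj : ∀ a b : G, IsConj a b → b ∈ H → a ∈ H := fun a b hab hb => by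
    obtain ⟨c, hc⟩ := isConj_iff.mp hab.symm
    exact hc ▸ Subgroup.Normal.conj_mem inferInstance _ hb c
  have hy : (y : G) ∈ H := hconj _ _ hFT (hsq _)
  have hxy : ((x * y : ↥(S : Subgroup G)) : G) ∈ H := hconj _ _ hFQ (by rw [hr]; exact hsq r)
  have hx : (x : G) ∈ H := by
    have := mul_mem hxy (inv_mem hy)
    rwa [Subgroup.coe_mul, mul_inv_cancel_right] at this
  have hle : (S : Subgroup G) ≤ H := fun s hs => by
    obtain ⟨i, hi⟩ := h.cases' ⟨s, hs⟩
    rcases hi with hi | hi <;> rw [show s = ((⟨s, hs⟩ : ↥(S : Subgroup G)) : G) from rfl, hi]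
    · rw [Subgroup.coe_zpow]; exact zpow_mem hx i
    · rw [Subgroup.coe_mul, Subgroup.coe_zpow]; exact mul_mem (zpow_mem hx i) hy
  have hd := Subgroup.index_dvd_of_le hle
  rw [hH] at hd
  exact S.not_dvd_index hd

end Cfsg.Agent.S1204
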