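import Cfsg.Statements.S1205
import Cfsg.Agent.Lib.Invol.QuasiDihedralKernel
-- import your own Cfsg.Agent.* helpers here

set_option autoImplicit false
open Cfsg

namespace Cfsg.Agent.S1205

/-- Let G be a finite group with quasi-dihedral Sylow 2-subgroup S, T a Klein four-subgroup and Q a quaternion subgroup of order 8 of S, with |N_G(T) : C_G(T)| = 2 and |N_G(Q) : Q C_G(Q)| = 6. Then G has a normal subgroup K of index 2 whose Sylow 2-subgroups are generalized quaternion and which has no subgroup of index 2; the centre of S is weakly closed in S; and G has exactly two classes of involutions and one class of elements of order 4. -/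
theorem result {G : Type*} [Group G] [Finite G] (S : Sylow 2 G) (hS : Cfsg.IsQuasiDihedral (S : Subgroup G)) (T : Subgroup G) (hT : IsKleinFour T) (hTS : T ≤ S) (Q : Subgroup G) (hQS : Q ≤ S) (eQ : Q ≃* QuaternionGroup 2) (h₁ : (Subgroup.centralizer (T : Set G)).relIndex (Subgroup.normalizer (T : Set G)) = 2) (h₂ : (Q ⊔ Subgroup.centralizer (Q : Set G)).relIndex (Subgroup.normalizer (Q : Set G)) = 6) : (∃ K : Subgroup G, K.Normal ∧ K.index = 2 ∧ (∀ P : Sylow 2 ↥K, ∃ m : ℕ, 1 ≤ m ∧ Nonempty ((P : Subgroup ↥K) ≃* QuaternionGroup (2 ^ m))) ∧ (∀ H : Subgroup ↥K, H.index ≠ 2)) ∧ Cfsg.IsWeaklyClosed ((Subgroup.center (S : Subgroup G)).map (S : Subgroup G).subtype) (S : Subgroup G) ∧ Nat.card {C : ConjClasses G // ∃ t : G, orderOf t = 2 ∧ ConjClasses.mk t = C} = 2 ∧ Nat.card {C : ConjClasses G // ∃ t : G, orderOf t = 4 ∧ ConjClasses.mk t = C} = 1 := by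
  obtain ⟨n, x, y, h⟩ := Invol.exists_qd hS
  have hFT : ¬ Invol.QD.FusT n x y := fun hf => by
    have := (h.automizer_four hT hTS).2.mpr hf
    omega
  have hFQ := (h.automizer_quat hQS eQ).2.mp h₂
  refine ⟨?_, h.weaklyClosed_center hFT, h.card_two_of_not_fusT hFT, h.card_four_of_fusQ hFQ⟩
  obtain ⟨K, hK, hK2, hKS⟩ := Invol.QD.exists_kernel (h.coatom 1) (h.index_coatom 1)
    (fun s t => h.respects_coatom_one hFT)
  refine ⟨K, hK, hK2, fun P => ?_, h.no_index_two_quat hK2 hKS hFQ⟩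
  obtain ⟨e⟩ := Invol.QD.sylow_of_subgroupOf hK2 P (h.index_coatom 1) hKS
  obtain ⟨e'⟩ := h.quaternion_coatom_one
  exact ⟨n - 2, by have := h.hn; omega, ⟨e.trans e'⟩⟩

end Cfsg.Agent.S1205
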