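import Cfsg.Statements.S1207
import Cfsg.Agent.Lib.Invol.QuasiDihedralKernel
-- import your own Cfsg.Agent.* helpers here

set_option autoImplicit false
open Cfsg

namespace Cfsg.Agent.S1207

/-- Let G be a finite group with quasi-dihedral Sylow 2-subgroup S, T a Klein four-subgroup and Q a quaternion subgroup of order 8 of S, with |N_G(T) : C_G(T)| = 2 and |N_G(Q) : Q C_G(Q)| = 2. Then G has a normal 2-complement, exactly two classes of involutions and exactly two classes of elements of order 4. -/
theorem result {G : Type*} [Group G] [Finite G] (S : Sylow 2 G) (hS : Cfsg.IsQuasiDihedral (S : Subgroup G)) (T : Subgroup G) (hT : IsKleinFour T) (hTS : T ≤ S) (Q : Subgroup G) (hQS : Q ≤ S) (eQ : Q ≃* QuaternionGroup 2) (h₁ : (Subgroup.centralizer (T : Set G)).relIndex (Subgroup.normalizer (T : Set G)) = 2) (h₂ : (Q ⊔ Subgroup.centralizer (Q : Set G)).relIndex (Subgroup.normalizer (Q : Set G)) = 2) : Cfsg.HasNormalPComplement 2 G ∧ Nat.card {C : ConjClasses G // ∃ t : G, orderOf t = 2 ∧ ConjClasses.mk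 t = C} = 2 ∧ Nat.card {C : ConjClasses G // ∃ t : G, orderOf t = 4 ∧ ConjClasses.mk t = C} = 2 := by
  obtain ⟨n, x, y, h⟩ := Invol.exists_qd hS
  have hFT : ¬ Invol.QD.FusT n x y := fun hf => by
    have := (h.automizer_four hT hTS).2.mpr hf
    omega
  have hFQ : ¬ Invol.QD.FusQ n x y := fun hf => by
    have := (h.automizer_quat hQS eQ).2.mpr hf
    omega
  refine ⟨?_, h.card_two_of_not_fusT hFT, h.card_four_of_not_fusQ hFQ⟩
  obtain ⟨K, hK, hK2, hKS⟩ := Invol.QD.exists_kernel (Subgroup.zpowers x) h.index_zpowers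
    (fun s t => h.respects_zpowers hFT hFQ)
  exact h.normalComplement_of_cyclic hK2 hKS

end Cfsg.Agent.S1207
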