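import Cfsg.Statements.S1210
import Cfsg.Agent.Lib.Invol.WreathedCases
-- import your own Cfsg.Agent.* helpers here

set_option autoImplicit false
open Cfsg

namespace Cfsg.Agent.S1210

/-- Let G be a finite group whose Sylow 2-subgroup S is wreathed of order 2^(2n+1), U the commutative subgroup of index 2 in S, Q a quaternion subgroup of order 8 of S and V = Q Z(S). If |N_G(U) : C_G(U)| = 2 and |N_G(V) : V C_G(V)| = 6, then G has a normal subgroup K of index 2^n whose Sylow 2-subgroups are generalized quaternion and which has no subgroup of index 2; every subgroup of Z(S) is weakly closed in S; and G has exactly two classes of involutions. -/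
theorem result {G : Type*} [Group G] [Finite G] (S : Sylow 2 G) (hS : Cfsg.IsWreathed (S : Subgroup G)) (n : ℕ) (hn : Nat.card S = 2 ^ (2 * n + 1)) (U : Subgroup G) (hUS : U ≤ S) (hUab : IsMulCommutative U) (hUcard : Nat.card U = 2 ^ (2 * n)) (Q : Subgroup G) (hQS : Q ≤ S) (eQ : Q ≃* QuaternionGroup 2) (h₁ : (Subgroup.centralizer (U : Set G)).relIndex (Subgroup.normalizer (U : Set G)) = 2) (h₂ : ((Q ⊔ ((Subgroup.center (S : Subgroup G)).map (S : Subgroup G).subtype)) ⊔ Subgroup.centralizer ((Q ⊔ ((Subgroup.center (S : Subgroup G)).map (S : Subgroup G).subtype) : Subgroup G) : Set G)).relIndex (Subgroup.normalizer ((Q ⊔ ((Subgroup.center (S : Subgroup G)).map (S : Subgroup G).subtype) : Subgroup G) : Set G)) = 6) : (∃ K : Subgroup G, K.Normal ∧ K.index = 2 ^ n ∧ (∀ P : Sylow 2 ↥K, ∃ m : ℕ, 1 ≤ m ∧ Nonempty ((P : Subgroup ↥K) ≃* QuaternionGroup (2 ^ m))) ∧ (∀ H : Subgroup ↥K, H.index ≠ 2)) ∧ (∀ Z₀ : Subgroup G, Z₀ ≤ ((Subgroup.center (S : Subgroup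 G)).map (S : Subgroup G).subtype) → Cfsg.IsWeaklyClosed Z₀ (S : Subgroup G)) ∧ Nat.card {C : ConjClasses G // ∃ t : G, orderOf t = 2 ∧ ConjClasses.mk t = C} = 2 := by
  obtain ⟨x, y, z, h⟩ := Invol.WR.exists_of_card hS hn
  obtain rfl := h.eq_gBase hUS hUab hUcard
  obtain ⟨e, he, hX⟩ := h.eq_gSlope hQS eQ
  rw [show (Subgroup.center (S : Subgroup G)).map (S : Subgroup G).subtype = h.gCenter from rfl, hX] at h₂
  obtain ⟨hz, c, i, j, -, hij, hcz⟩ := (h.automizer_slope he).2.1 h₂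
  obtain ⟨K, hKn, hKi, hKS, hbi⟩ := h.exists_kernel_quat he h₁
  refine ⟨⟨K, hKn, hKi, fun P => ⟨n - 1, ?_, ?_⟩, h.kernel_quat_no_index_two hKi hKS hij hcz⟩,
    fun Z₀ hZ => h.weaklyClosed_center he h₁ hZ, h.card_two_two_center hz (h.not_isConj_w he h₁ ?_)⟩
  · have := h.hn; omega
  · obtain ⟨f⟩ := Invol.sylow_equiv_trace S P hbi hKS
    obtain ⟨f'⟩ := h.bigQuat_equiv
    exact ⟨f.trans f'⟩
  · intro hw
    rw [h.el_eq] at hw
    obtain ⟨-, d, hd⟩ := hw
    have := h.hh_pos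
    rcases le_or_gt 0 d with hd0 | hd0 <;> nlinarith

end Cfsg.Agent.S1210
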