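import Cfsg.Statements.S1211
import Cfsg.Agent.Lib.Invol.WreathedCases
-- import your own Cfsg.Agent.* helpers here

set_option autoImplicit false
open Cfsg

namespace Cfsg.Agent.S1211

/-- Let G be a finite group whose Sylow 2-subgroup S is wreathed of order 2^(2n+1), U the commutative subgroup of index 2 in S, Q a quaternion subgroup of order 8 of S and V = Q Z(S). If |N_G(U) : C_G(U)| = 6 and |N_G(V) : V C_G(V)| = 2, then G has a normal subgroup K of index 2 containing U (so U is a Sylow 2-subgroup of K) which has no subgroup of index 2, and G has exactly two classes of involutions. -/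
theorem result {G : Type*} [Group G] [Finite G] (S : Sylow 2 G) (hS : Cfsg.IsWreathed (S : Subgroup G)) (n : ℕ) (hn : Nat.card S = 2 ^ (2 * n + 1)) (U : Subgroup G) (hUS : U ≤ S) (hUab : IsMulCommutative U) (hUcard : Nat.card U = 2 ^ (2 * n)) (Q : Subgroup G) (hQS : Q ≤ S) (eQ : Q ≃* QuaternionGroup 2) (h₁ : (Subgroup.centralizer (U : Set G)).relIndex (Subgroup.normalizer (U : Set G)) = 6) (h₂ : ((Q ⊔ ((Subgroup.center (S : Subgroup G)).map (S : Subgroup G).subtype)) ⊔ Subgroup.centralizer ((Q ⊔ ((Subgroup.center (S : Subgroup G)).map (S : Subgroup G).subtype) : Subgroup G) : Set G)).relIndex (Subgroup.normalizer ((Q ⊔ ((Subgroup.center (S : Subgroup G)).map (S : Subgroup G).subtype) : Subgroup G) : Set G)) = 2) : (∃ K : Subgroup G, K.Normal ∧ K.index = 2 ∧ U ≤ K ∧ (∀ H : Subgroup ↥K, H.index ≠ 2)) ∧ Nat.card {C : ConjClasses G // ∃ t : G, orderOf t = 2 ∧ ConjClasses.mk t = C} = 2 := by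
  obtain ⟨x, y, z, h⟩ := Invol.WR.exists_of_card hS hn
  obtain rfl := h.eq_gBase hUS hUab hUcard
  obtain ⟨e, he, hX⟩ := h.eq_gSlope hQS eQ
  rw [show (Subgroup.center (S : Subgroup G)).map (S : Subgroup G).subtype = h.gCenter from rfl, hX] at h₂
  obtain ⟨g, hgN, hg⟩ := h.automizer_base.2.1 h₁
  obtain ⟨K, hKn, hKi, hKS⟩ := h.exists_kernel_base he h₂
  refine ⟨⟨K, hKn, hKi, ?_, h.kernel_base_no_index_two hKi hKS hgN hg⟩,
    h.card_two_two_base (isConj_iff.mpr ⟨g, hg⟩) ?_⟩
  · rintro _ ⟨u, hu, rfl⟩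
    rw [← hKS] at hu
    exact hu
  · intro hc
    obtain ⟨d, hd⟩ := isConj_iff.mp hc
    have h3 := h.base_invariant he h₂ (Subtype.coe_prop (h.el (Invol.hh n) 0)) (g := d) (by rw [hd]; exact z.2)
    rw [hd, Invol.WR.coe_mem_map, Invol.WR.coe_mem_map] at h3
    exact h.z_notMem (by rw [h3]; exact h.el_mem_base _ _)

end Cfsg.Agent.S1211
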