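import Cfsg.Prelude
import Cfsg.Agent.Lib.Invol.PSLThreeCentralizer
-- import your own Cfsg.Agent.* helpers here

set_option autoImplicit false
open scoped MatrixGroups
open Cfsg

open scoped Pointwise commutatorElement

namespace Cfsg.Agent.S1219

/-- Let F be a finite field of odd order q and t an involution of PSL(3,F). Then C(t) is isomorphic to the quotient of GL(2,F) by a central subgroup of order gcd(q−1, 3). -/
theorem result {F : Type*} [Field F] [Fintype F] (hF : Odd (Fintype.card F)) (t : Matrix.ProjectiveSpecialLinearGroup (Fin 3) F) (ht : orderOf t = 2) : ∃ (Z : Subgroup (GL (Fin 2) F)) (_ : Z.Normal), Z ≤ Subgroup.center (GL (Fin 2) F) ∧ Nat.card Z = Nat.gcd (Fintype.card F - 1) 3 ∧ Nonempty (↥(Subgroup.centralizer ({t} : Set (Matrix.ProjectiveSpecialLinearGroup (Fin 3) F))) ≃* GL (Fin 2) F ⧸ Z) := by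
  classical
  have h2 : (2 : F) ≠ 0 := by
    intro h0
    haveI : CharP F 2 := CharTwo.of_one_ne_zero_of_two_eq_zero one_ne_zero h0
    obtain ⟨n, hp, hn⟩ := FiniteField.card F 2
    rw [hn] at hF
    exact (Nat.not_odd_iff_even.mpr ((Nat.even_pow' n.ne_zero).mpr even_two)) hF
  set Zc := Subgroup.center (Matrix.SpecialLinearGroup (Fin 3) F) with hZc
  have hcardZ : Nat.card Zc = Nat.gcd (Fintype.card F - 1) 3 := by
    rw [hZc, Classical.natCard_center_SL, Classical.natCard_units_field, Nat.gcd_comm]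
    simp
  have hcube : ∀ z ∈ Zc, z ^ 3 = 1 := fun z hz => by
    refine orderOf_dvd_iff_pow_eq_one.mp ?_
    rw [show z = ((⟨z, hz⟩ : Zc) : Matrix.SpecialLinearGroup (Fin 3) F) from rfl, Subgroup.orderOf_coe]
    exact (orderOf_dvd_natCard _).trans (hcardZ ▸ Nat.gcd_dvd_right _ _)
  let q := QuotientGroup.mk' Zc
  obtain ⟨s, rfl⟩ := QuotientGroup.mk'_surjective Zc t
  have hts : s * s ∈ Zc := by
    have := pow_orderOf_eq_one (q s)
    rw [ht, ← map_pow, QuotientGroup.mk'_apply, QuotientGroup.eq_one_iff, pow_two] at this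
    exact this
  set w := s * s with hw
  set s' := s * w with hs'
  have hsw : Commute s w := Commute.mul_right rfl rfl
  have hs'2 : s' * s' = 1 := by
    rw [hs', hsw.symm.mul_mul_mul_comm, ← hw]
    have := hcube w hts
    rw [pow_three] at this
    exact this
  have hq : q s' = q s := by
    rw [hs', map_mul, show q w = 1 from (QuotientGroup.eq_one_iff w).mpr hts, mul_one]
  have hs'1 : s' ≠ 1 := fun h => by
    have h1 : q s = 1 := by rw [← hq, h, map_one]
    rw [h1, orderOf_one] at ht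
    exact absurd ht (by norm_num)
  obtain ⟨P, hP⟩ := Invol.Psl3C.exists_conj_dInv h2 hs'2 hs'1
  have hsd : s' = P * Invol.Psl3C.dInv * P⁻¹ := by rw [← hP, mul_inv_cancel_right]
  set T := Subgroup.centralizer ({q s} : Set (Matrix.ProjectiveSpecialLinearGroup (Fin 3) F)) with hT
  let ψ₀ : GL (Fin 2) F →* Matrix.ProjectiveSpecialLinearGroup (Fin 3) F :=
    (q.comp (MulAut.conj P).toMonoidHom).comp Invol.Psl3C.blkHom
  have hmem : ∀ A, ψ₀ A ∈ T := fun A => by
    rw [hT, Subgroup.mem_centralizer_singleton_iff, ← hq, hsd]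
    show q (P * Invol.Psl3C.blkHom A * P⁻¹) * q (P * Invol.Psl3C.dInv * P⁻¹) =
      q (P * Invol.Psl3C.dInv * P⁻¹) * q (P * Invol.Psl3C.blkHom A * P⁻¹)
    rw [← map_mul, ← map_mul]
    congr 1
    calc P * Invol.Psl3C.blkHom A * P⁻¹ * (P * Invol.Psl3C.dInv * P⁻¹) = P * (Invol.Psl3C.blkHom A * Invol.Psl3C.dInv) * P⁻¹ := by group
      _ = P * (Invol.Psl3C.dInv * Invol.Psl3C.blkHom A) * P⁻¹ := by rw [Invol.Psl3C.blk_commute]
      _ = _ := by group
  let ψ : GL (Fin 2) F →* T := ψ₀.codRestrict T hmem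
  have hψs : Function.Surjective ψ := by
    rintro ⟨y, hy⟩
    obtain ⟨g, rfl⟩ := QuotientGroup.mk'_surjective Zc y
    rw [hT, Subgroup.mem_centralizer_singleton_iff, ← hq] at hy
    have hz : g * s' * g⁻¹ * s'⁻¹ ∈ Zc := by
      rw [← QuotientGroup.eq_one_iff, ← QuotientGroup.mk'_apply, map_mul, map_mul, map_mul, map_inv, map_inv]
      show q g * q s' * (q g)⁻¹ * (q s')⁻¹ = 1
      rw [hy, mul_inv_cancel_right, mul_inv_cancel]
    set z := g * s' * g⁻¹ * s'⁻¹ with hzdef
    have hgs : g * s' * g⁻¹ = z * s' := by rw [hzdef, inv_mul_cancel_right]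
    have hcom : Commute z s' := (Subgroup.mem_center_iff.mp hz s').symm
    have hz2 : z ^ 2 = 1 := by
      have h1 : (g * s' * g⁻¹) * (g * s' * g⁻¹) = 1 := by
        rw [show g * s' * g⁻¹ * (g * s' * g⁻¹) = g * (s' * s') * g⁻¹ by group, hs'2, mul_one, mul_inv_cancel]
      rw [hgs, ← pow_two, hcom.mul_pow, pow_two s', hs'2, mul_one] at h1
      exact h1
    have hz1 : z = 1 := by
      have h3 := hcube z hz
      rw [pow_succ, hz2, one_mul] at h3
      exact h3
    rw [hz1, one_mul, hsd] at hgs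
    obtain ⟨A, hA⟩ := Invol.Psl3C.exists_blk_of_commute h2 (g := P⁻¹ * g * P) (by
      calc P⁻¹ * g * P * Invol.Psl3C.dInv = P⁻¹ * (g * (P * Invol.Psl3C.dInv * P⁻¹) * g⁻¹) * (g * P) := by group
        _ = P⁻¹ * (P * Invol.Psl3C.dInv * P⁻¹) * (g * P) := by rw [hgs]
        _ = Invol.Psl3C.dInv * (P⁻¹ * g * P) := by group)
    refine ⟨A, Subtype.ext ?_⟩
    show q (P * Invol.Psl3C.blkHom A * P⁻¹) = q g
    rw [hA]
    congr 1
    group
  have hker : ψ.ker = Zc.comap (Invol.Psl3C.blkHom (F := F)) := by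
    ext A
    rw [MonoidHom.mem_ker, Subtype.ext_iff, Subgroup.mem_comap]
    show q (P * Invol.Psl3C.blkHom A * P⁻¹) = 1 ↔ _
    rw [QuotientGroup.mk'_apply, QuotientGroup.eq_one_iff]
    constructor
    · intro h
      have := (inferInstance : Zc.Normal).conj_mem _ h P⁻¹
      simpa [mul_assoc] using this
    · exact fun h => (inferInstance : Zc.Normal).conj_mem _ h P
  refine ⟨ψ.ker, inferInstance, ?_, ?_, ⟨(QuotientGroup.quotientKerEquivOfSurjective ψ hψs).symm⟩⟩
  · intro A hA
    rw [hker, Subgroup.mem_comap] at hA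
    refine Subgroup.mem_center_iff.mpr fun B => Invol.Psl3C.blkHom_injective ?_
    rw [map_mul, map_mul]
    exact Subgroup.mem_center_iff.mp hA _
  · rw [hker, ← Subgroup.card_map_of_injective Invol.Psl3C.blkHom_injective, Subgroup.map_comap_eq_self, hcardZ]
    intro z hz
    obtain ⟨A, hA⟩ := Invol.Psl3C.exists_blk_of_commute h2 (g := z) (Subgroup.mem_center_iff.mp hz _).symm
    exact ⟨A, hA⟩

end Cfsg.Agent.S1219
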