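import Cfsg.Statements.S1228
import Cfsg.Agent.Lib.Invol.ElemCentralizersCount
-- import your own Cfsg.Agent.* helpers here

set_option autoImplicit false
open Cfsg

namespace Cfsg.Agent.S1228

/-- Let G be a finite group with a Sylow 2-subgroup T that is neither cyclic nor normal, such that the centralizer of every involution is an elementary abelian 2-group; put H = N_G(T), let u be an involution outside H and D = H ∩ uHu⁻¹. Then N_G(D) = D ⊔ ⟨u⟩, and a coset gH is fixed by every element of D exactly when gH = H or gH = uH. -/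
theorem result {G : Type*} [Group G] [Finite G] (T : Sylow 2 G) (hnc : ¬ IsCyclic (T : Subgroup G)) (hnn : ¬ (T : Subgroup G).Normal) (hC : ∀ t : G, orderOf t = 2 → IsMulCommutative (Subgroup.centralizer ({t} : Set G)) ∧ ∀ c ∈ Subgroup.centralizer ({t} : Set G), c ^ 2 = 1) (u : G) (hu : orderOf u = 2) (huH : u ∉ Subgroup.normalizer ((T : Subgroup G) : Set G)) : Subgroup.normalizer ((Subgroup.normalizer ((T : Subgroup G) : Set G) ⊓ (Subgroup.normalizer ((T : Subgroup G) : Set G)).map (MulAut.conj u).toMonoidHom : Subgroup G) : Set G) = (Subgroup.normalizer ((T : Subgroup G) : Set G) ⊓ (Subgroup.normalizer ((T : Subgroup G) : Set G)).map (MulAut.conj u).toMonoidHom) ⊔ Subgroup.zpowers u ∧ ∀ g : G, ((∀ d ∈ Subgroup.normalizer ((T : Subgroup G) : Set G) ⊓ (Subgroup.normalizer ((T : Subgroup G) : Set G)).map (MulAut.conj u).toMonoidHom, d • (QuotientGroup.mk g : G ⧸ Subgroup.normalizer ((T : Subgroup G) : Set G)) = QuotientGroup.mk g) ↔ (QuotientGroup.mk g : G ⧸ Subgroup.normalizer ((T : Subgroup G) : Set G)) = QuotientGroup.mk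 1 ∨ (QuotientGroup.mk g : G ⧸ Subgroup.normalizer ((T : Subgroup G) : Set G)) = QuotientGroup.mk u) := by
  have h : Invol.EC T := ⟨hnc, hnn, hC⟩
  set H := Subgroup.normalizer ((T : Subgroup G) : Set G) with hH
  set D := H ⊓ H.map (MulAut.conj u).toMonoidHom with hD
  have hiff : ∀ x : G ⧸ H, (∀ d ∈ D, d • x = x) ↔ x = QuotientGroup.mk 1 ∨ x = QuotientGroup.mk u := by
    intro x
    constructor
    · intro hx
      have : Nontrivial D := Finite.one_lt_card_iff_nontrivial.mp (by
        rw [h.card_D hu huH]; have := h.card_T_ge; omega)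
      obtain ⟨⟨d, hd⟩, hd1⟩ := exists_ne (1 : D)
      exact h.fix_three hu huH hd (fun he => hd1 (Subtype.ext he)) (hx d hd)
    · rintro (rfl | rfl) d hd
      exacts [(Invol.EC.mem_D_iff.mp hd).1, (Invol.EC.mem_D_iff.mp hd).2]
  refine ⟨le_antisymm (fun g hg => ?_) (sup_le Subgroup.le_normalizer ?_), fun g => hiff _⟩
  · have hperm : ∀ k ∈ Subgroup.normalizer (D : Set G), ∀ x : G ⧸ H,
        x = QuotientGroup.mk 1 ∨ x = QuotientGroup.mk u → k • x = QuotientGroup.mk 1 ∨ k • x = QuotientGroup.mk u := by
      intro k hk x hx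
      refine (hiff _).mp fun d hd => ?_
      have h1 : k⁻¹ * d * k ∈ D := by
        have := (Subgroup.mem_normalizer_iff.mp (inv_mem hk) d).mp hd
        simpa using this
      conv_rhs => rw [← (hiff x).mpr hx _ h1]
      rw [← mul_smul, ← mul_smul]
      congr 1
      group
    have hne : (QuotientGroup.mk u : G ⧸ H) ≠ QuotientGroup.mk 1 := fun he => huH (by
      simpa using QuotientGroup.eq.mp he)
    have hfix : ∀ k ∈ Subgroup.normalizer (D : Set G),
        k • (QuotientGroup.mk 1 : G ⧸ H) = QuotientGroup.mk 1 → k ∈ D := by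
      intro k hk h1
      refine Invol.EC.mem_D_iff.mpr ⟨h1, ((hperm k hk _ (.inr rfl)).resolve_left fun he => hne ?_)⟩
      exact smul_left_cancel k (he.trans h1.symm)
    rcases hperm g hg _ (.inl rfl) with h1 | h1
    · exact Subgroup.mem_sup_left (hfix g hg h1)
    · have huN : u ∈ Subgroup.normalizer (D : Set G) := Subgroup.mem_normalizer_fintype fun d hd => by
        show u * d * u⁻¹ ∈ D
        rw [h.inverted hu huH hd]
        exact inv_mem hd
      have h2 := hfix (u⁻¹ * g) (mul_mem (inv_mem huN) hg) (by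
        rw [mul_smul, h1, MulAction.Quotient.smul_mk, smul_eq_mul, inv_mul_cancel])
      have h3 : u * (u⁻¹ * g * u) ∈ D ⊔ Subgroup.zpowers u → g * u ∈ D ⊔ Subgroup.zpowers u := by
        intro hm; convert hm using 1; group
      rw [show g = u * (u⁻¹ * g) by group]
      exact mul_mem (Subgroup.mem_sup_right (Subgroup.mem_zpowers u)) (Subgroup.mem_sup_left h2)
  · rw [Subgroup.zpowers_le]
    exact Subgroup.mem_normalizer_fintype fun d hd => by
      show u * d * u⁻¹ ∈ D
      rw [h.inverted hu huH hd]
      exact inv_mem hd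

end Cfsg.Agent.S1228
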