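import Cfsg.Statements.S1229
import Cfsg.Agent.Lib.Invol.ElemCentralizersCount
-- import your own Cfsg.Agent.* helpers here

set_option autoImplicit false
open Cfsg

namespace Cfsg.Agent.S1229

/-- Let G be a finite group with a Sylow 2-subgroup T that is neither cyclic nor normal, such that the centralizer of every involution is an elementary abelian 2-group; put H = N_G(T) and X = G/H. Then G is triply transitive on X, an element fixing three distinct points of X is the identity, and T acts regularly on X minus the point H. -/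
theorem result {G : Type*} [Group G] [Finite G] (T : Sylow 2 G) (hnc : ¬ IsCyclic (T : Subgroup G)) (hnn : ¬ (T : Subgroup G).Normal) (hC : ∀ t : G, orderOf t = 2 → IsMulCommutative (Subgroup.centralizer ({t} : Set G)) ∧ ∀ c ∈ Subgroup.centralizer ({t} : Set G), c ^ 2 = 1) : (∀ x₁ x₂ x₃ y₁ y₂ y₃ : G ⧸ Subgroup.normalizer ((T : Subgroup G) : Set G), x₁ ≠ x₂ → x₁ ≠ x₃ → x₂ ≠ x₃ → y₁ ≠ y₂ → y₁ ≠ y₃ → y₂ ≠ y₃ → ∃ g : G, g • x₁ = y₁ ∧ g • x₂ = y₂ ∧ g • x₃ = y₃) ∧ (∀ g : G, ∀ x₁ x₂ x₃ : G ⧸ Subgroup.normalizer ((T : Subgroup G) : Set G), x₁ ≠ x₂ → x₁ ≠ x₃ → x₂ ≠ x₃ → g • x₁ = x₁ → g • x₂ = x₂ → g • x₃ = x₃ → g = 1) ∧ (∀ x y : G ⧸ Subgroup.normalizer ((T : Subgroup G) : Set G), x ≠ QuotientGroup.mk 1 → y ≠ QuotientGroup.mk 1 → ∃! t : G, t ∈ T ∧ t • x = y) := by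
  have h : Invol.EC T := ⟨hnc, hnn, hC⟩
  obtain ⟨u, hu, huH⟩ := h.exists_outside
  obtain ⟨w, hw, hwu⟩ := h.exists_third_point huH
  refine ⟨fun x₁ x₂ x₃ y₁ y₂ y₃ a b c a' b' c' => ?_, fun g x₁ x₂ x₃ a b c g1 g2 g3 => ?_,
    fun x y hx hy => h.regular x y hx hy⟩
  · obtain ⟨g, hg1, hg2, hg3⟩ := h.to_standard hu huH a b c hw hwu
    obtain ⟨k, hk1, hk2, hk3⟩ := h.to_standard hu huH a' b' c' hw hwu
    exact ⟨k⁻¹ * g, by rw [mul_smul, hg1, ← hk1, inv_smul_smul], by rw [mul_smul, hg2, ← hk2, inv_smul_smul],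
      by rw [mul_smul, hg3, ← hk3, inv_smul_smul]⟩
  · obtain ⟨k, hk1, hk2, hk3⟩ := h.to_standard hu huH a b c hw hwu
    have e : ∀ x z : G ⧸ Subgroup.normalizer ((T : Subgroup G) : Set G), g • x = x → k • x = z →
        (k * g * k⁻¹) • z = z := by
      intro x z hgx hkx
      rw [← hkx, mul_smul, inv_smul_smul, mul_smul, hgx]
    by_contra hg
    rcases h.fix_three hu huH (Invol.EC.mem_D_iff.mpr ⟨e _ _ g1 hk1, e _ _ g2 hk2⟩)
      (fun he => hg (conj_eq_one_iff.mp he)) (e _ _ g3 hk3) with h1 | h1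
    exacts [hw h1, hwu h1]

end Cfsg.Agent.S1229
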