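import Cfsg.Statements.S1335
import Mathlib

set_option autoImplicit false
open Cfsg

namespace Cfsg.Agent.S1335

/-- Let H be a subgroup of the finite group G, p a prime, k ≥ 1, P a Sylow p-subgroup of H of p-rank at least k, and suppose N_G(X) ≤ H for every subgroup X ≤ P of p-rank at least k. Then P is a Sylow p-subgroup of G. -/
theorem result {G : Type*} [Group G] [Finite G] {p : ℕ} [Fact p.Prime] (k : ℕ) (hk : 1 ≤ k) (H : Subgroup G) (P : Sylow p ↥H) (hP : ¬ Cfsg.PRankLE p (k - 1) ↥(P : Subgroup ↥H)) (hΓ : (∀ X : Subgroup G, X ≤ (P : Subgroup ↥H).map H.subtype → ¬ Cfsg.PRankLE p (k - 1) ↥X → Subgroup.normalizer (X : Set G) ≤ H)) : ∃ Q : Sylow p G, (Q : Subgroup G) = (P : Subgroup ↥H).map H.subtype := by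
  classical
  set X := (P : Subgroup H).map H.subtype with hXdef
  let e : (P : Subgroup H) ≃* X := Subgroup.equivMapOfInjective _ _ H.subtype_injective
  have hXr : ¬ Cfsg.PRankLE p (k - 1) X := by
    intro h
    refine hP fun A hA hAp => ?_
    have := h (A.map e.toMonoidHom) inferInstance (by
      rintro _ ⟨a, ha, rfl⟩
      rw [← map_pow, hAp a ha, map_one])
    rwa [Subgroup.card_map_of_injective e.injective] at this
  have hN := hΓ X le_rfl hXr
  obtain ⟨Q, hQ⟩ := (P.isPGroup'.map H.subtype).exists_le_sylow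
  refine ⟨Q, le_antisymm ?_ hQ⟩
  by_contra hne
  have := Q.isPGroup'.isNilpotent
  have hlt : X.subgroupOf (Q : Subgroup G) < ⊤ := lt_top_iff_ne_top.mpr (fun e => hne (Subgroup.subgroupOf_eq_top.mp e))
  obtain ⟨q, hq, hq'⟩ := SetLike.exists_of_lt (Group.normalizerCondition_of_isNilpotent _ hlt)
  have hqH : (q : G) ∈ H := by
    refine hN (Subgroup.mem_normalizer_iff.mpr fun z => ?_)
    by_cases hz : z ∈ (Q : Subgroup G)
    · simpa [Subgroup.mem_subgroupOf] using Subgroup.mem_normalizer_iff.mp hq ⟨z, hz⟩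
    · exact iff_of_false (fun h => hz (hQ h)) (fun h => hz (by
        have := mul_mem (mul_mem (inv_mem q.2) (hQ h)) q.2
        simpa [mul_assoc] using this))
  have hP' : (Q : Subgroup G).subgroupOf H = (P : Subgroup H) :=
    P.is_maximal' (Q.isPGroup'.comap_of_injective H.subtype H.subtype_injective) (fun a ha => hQ ⟨a, ha, rfl⟩)
  exact hq' (Subgroup.mem_subgroupOf.mpr ⟨⟨q, hqH⟩, hP'.le (Subgroup.mem_subgroupOf.mpr q.2), rfl⟩)

end Cfsg.Agent.S1335
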