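import Cfsg.Statements.S1231
import Cfsg.Agent.S1335
import Cfsg.Agent.Lib.Transfer.Alperin
-- import your own Cfsg.Agent.* helpers here

set_option autoImplicit false
open Cfsg

namespace Cfsg.Agent.S1231

open Cfsg.Agent.Transfer

theorem rank_mono {G : Type*} [Group G] [Finite G] {p k : ℕ} {X Y : Subgroup G} (h : X ≤ Y)
    (hY : Cfsg.PRankLE p k ↥Y) : Cfsg.PRankLE p k ↥X := by
  intro A hA hAp
  have := hY (A.map (Subgroup.inclusion h)) inferInstance (by
    rintro _ ⟨a, ha, rfl⟩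
    rw [← map_pow, hAp a ha, map_one])
  rwa [Subgroup.card_map_of_injective (Subgroup.inclusion_injective h)] at this

theorem rank_map {G : Type*} [Group G] [Finite G] {p k : ℕ} {X : Subgroup G} (f : G ≃* G)
    (hX : Cfsg.PRankLE p k ↥(X.map f.toMonoidHom)) : Cfsg.PRankLE p k ↥X := by
  intro A hA hAp
  set e := Subgroup.equivMapOfInjective X f.toMonoidHom f.injective
  have := hX (A.map e.toMonoidHom) inferInstance (by
    rintro _ ⟨a, ha, rfl⟩
    rw [← map_pow, hAp a ha, map_one])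
  rwa [Subgroup.card_map_of_injective e.injective] at this

/-- Let H be a subgroup of the finite group G, p a prime, k ≥ 1, and P a Sylow p-subgroup of H whose p-rank is at least k. Then N_G(X) ≤ H for every subgroup X of P of p-rank at least k if and only if H ∩ gHg⁻¹ has p-rank less than k for every g ∉ H. -/
theorem result {G : Type*} [Group G] [Finite G] {p : ℕ} [Fact p.Prime] (k : ℕ) (hk : 1 ≤ k) (H : Subgroup G) (P : Sylow p ↥H) (hP : ¬ Cfsg.PRankLE p (k - 1) ↥(P : Subgroup ↥H)) : (∀ X : Subgroup G, X ≤ (P : Subgroup ↥H).map H.subtype → ¬ Cfsg.PRankLE p (k - 1) ↥X → Subgroup.normalizer (X : Set G) ≤ H) ↔ (∀ g : G, g ∉ H → Cfsg.PRankLE p (k - 1) ↥(H ⊓ H.map (MulAut.conj g).toMonoidHom)) := by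
  classical
  refine ⟨fun hΓ g hg => ?_, fun h X hX hXr n hn => ?_⟩
  · intro A hA hAp
    by_contra hcard
    obtain ⟨Q, hQ⟩ := S1335.result k hk H P hP hΓ
    set A' := A.map (H ⊓ H.map (MulAut.conj g).toMonoidHom).subtype with hA'
    have hA'p : IsPGroup p A' := IsPGroup.map (fun a => ⟨1, Subtype.ext (by rw [pow_one, SubmonoidClass.coe_pow]; exact hAp a a.2)⟩) _
    have hA'r : ¬ Cfsg.PRankLE p (k - 1) ↥A' := by
      intro hr
      apply hcard
      set e := Subgroup.equivMapOfInjective A _ (H ⊓ H.map (MulAut.conj g).toMonoidHom).subtype_injective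
      have := hr ⊤ inferInstance (fun a _ => e.symm.injective (by
        rw [map_pow, map_one]
        exact Subtype.ext (hAp _ (e.symm a).2)))
      rwa [Nat.card_congr Subgroup.topEquiv.toEquiv, ← Nat.card_congr e.toEquiv] at this
    have hconj : ∀ B : Subgroup G, B ≤ H → IsPGroup p B →
        ∃ h ∈ H, ∀ b ∈ B, h * b * h⁻¹ ∈ (Q : Subgroup G) := by
      intro B hB hBp
      obtain ⟨R, hR⟩ := (hBp.comap_subtype (K := H)).exists_le_sylow
      obtain ⟨h, hh⟩ := MulAction.exists_smul_eq H R P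
      refine ⟨h, h.2, fun b hb => ?_⟩
      rw [hQ]
      refine ⟨h * ⟨b, hB hb⟩ * h⁻¹, ?_, rfl⟩
      rw [← hh]
      exact Subgroup.smul_mem_pointwise_smul _ _ _ (hR hb)
    have hB2 : A'.map (MulAut.conj g⁻¹).toMonoidHom ≤ H := by
      rintro _ ⟨a, ha, rfl⟩
      obtain ⟨y, hy, hye⟩ := (Subgroup.map_subtype_le A ha).2
      rw [show (MulAut.conj g⁻¹).toMonoidHom a = y by rw [← hye]; simp [mul_assoc]]
      exact hy
    obtain ⟨h₁, h₁H, h₁Q⟩ := hconj A' (fun a ha => (Subgroup.map_subtype_le A ha).1) hA'p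
    obtain ⟨h₂, h₂H, h₂Q⟩ := hconj _ hB2 (hA'p.map _)
    set A₁ := A'.map (MulAut.conj h₁).toMonoidHom with hA₁
    set x := h₁ * g * h₂⁻¹ with hx
    have hA₁Q : A₁ ≤ (Q : Subgroup G) := by
      rintro _ ⟨a, ha, rfl⟩
      exact h₁Q a ha
    have hA₁x : (fun a => x⁻¹ * a * x) '' (A₁ : Set G) ⊆ (Q : Set G) := by
      rintro _ ⟨_, ⟨a, ha, rfl⟩, rfl⟩
      show x⁻¹ * (h₁ * a * h₁⁻¹) * x ∈ (Q : Subgroup G)
      rw [show x⁻¹ * (h₁ * a * h₁⁻¹) * x = h₂ * (g⁻¹ * a * g⁻¹⁻¹) * h₂⁻¹ by rw [hx]; group]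
      exact h₂Q _ ⟨a, ha, rfl⟩
    suffices hxH : x ∈ H by
      apply hg
      rw [show g = h₁⁻¹ * x * h₂ by rw [hx]; group]
      exact mul_mem (mul_mem (inv_mem h₁H) hxH) h₂H
    have key : ∀ (B : Set G) (y : G), AlperinChain Q B y →
        (∀ C : Subgroup G, B ⊆ (C : Set G) → ¬ Cfsg.PRankLE p (k - 1) ↥C) → y ∈ H := by
      intro B y hy
      induction hy with
      | nil B => exact fun _ => one_mem H
      | @cons B R z w hT hB _ ih =>
        intro hBr
        refine mul_mem (hΓ ((Q : Subgroup G) ⊓ (R : Subgroup G)) (hQ ▸ inf_le_left) (hBr _ hB) hT.1)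
          (ih fun C hC hr => hBr (C.map (MulAut.conj z).toMonoidHom) ?_ ?_)
        · intro b hb
          exact ⟨z⁻¹ * b * z, hC ⟨b, hb, rfl⟩, by simp [mul_assoc]⟩
        · refine rank_map (MulAut.conj z⁻¹) (rank_mono ?_ hr)
          rintro _ ⟨_, ⟨c, hc, rfl⟩, rfl⟩
          simpa [mul_assoc] using hc
    refine key _ x (alperin Q A₁ x hA₁Q hA₁x) fun C hC hr => hA'r ?_
    exact rank_map (MulAut.conj h₁) (rank_mono hC hr)
  · by_contra hnH
    refine hXr (rank_mono (le_inf ?_ ?_) (h n hnH))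
    · exact hX.trans (Subgroup.map_subtype_le _)
    · intro y hy
      exact ⟨n⁻¹ * y * n, (hX.trans (Subgroup.map_subtype_le _))
        ((Subgroup.mem_normalizer_iff''.1 hn y).1 hy), by simp [mul_assoc]⟩

end Cfsg.Agent.S1231
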