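import Cfsg.Statements.S1233
import Cfsg.Agent.S1232
import Cfsg.Agent.Lib.Spor.CentralQuatPlane

set_option autoImplicit false
open Cfsg

namespace Cfsg.Agent.S1233

open Cfsg.Agent.Spor.CentralQuatPlane
open scoped Pointwise

/-- Let S be a finite 2-group and Q a subgroup of order 32 generated by two elementwise-commuting subgroups Q₁, Q₂ each isomorphic to the quaternion group of order 8 (so Q = Q₁ ∗ Q₂). If C_S(Q) ≤ Q, then every section of S has 2-rank at most 4. -/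
theorem result {S : Type*} [Group S] [Finite S] (hS : IsPGroup 2 S) (Q Q₁ Q₂ : Subgroup S) (e₁ : Q₁ ≃* QuaternionGroup 2) (e₂ : Q₂ ≃* QuaternionGroup 2) (hcomm : ∀ a ∈ Q₁, ∀ b ∈ Q₂, a * b = b * a) (hQ : Q₁ ⊔ Q₂ = Q) (hQ32 : Nat.card Q = 32) (hC : Subgroup.centralizer (Q : Set S) ≤ Q) : Cfsg.SectionalPRankLE 2 4 S := by
  have m1 : ∀ x : QuaternionGroup 2, ((e₁.symm x : Q₁) : S) ∈ Q₁ := fun x => (e₁.symm x).2
  have m2 : ∀ x : QuaternionGroup 2, ((e₂.symm x : Q₂) : S) ∈ Q₂ := fun x => (e₂.symm x).2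
  let ψ : M →* S :=
    MonoidHom.noncommCoprod (Q₁.subtype.comp e₁.symm.toMonoidHom)
      (Q₂.subtype.comp e₂.symm.toMonoidHom) fun x y => hcomm _ (m1 x) _ (m2 y)
  have hrange : ψ.range = Q := by
    refine le_antisymm ?_ ?_
    · rintro _ ⟨t, rfl⟩
      exact hQ ▸ Subgroup.mul_mem _ (Subgroup.mem_sup_left (m1 t.1)) (Subgroup.mem_sup_right (m2 t.2))
    · rw [← hQ, sup_le_iff]
      refine ⟨fun u hu => ⟨(e₁ ⟨u, hu⟩, 1), ?_⟩, fun u hu => ⟨(1, e₂ ⟨u, hu⟩), ?_⟩⟩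
      · show ((e₁.symm (e₁ ⟨u, hu⟩) : Q₁) : S) * ((e₂.symm 1 : Q₂) : S) = u
        simp
      · show ((e₁.symm 1 : Q₁) : S) * ((e₂.symm (e₂ ⟨u, hu⟩) : Q₂) : S) = u
        simp
  have hker : Nat.card ψ.ker = 2 := by
    have h1 := Subgroup.card_mul_index ψ.ker
    rw [Subgroup.index_ker, hrange, hQ32, Nat.card_prod, Nat.card_eq_fintype_card (α := QuaternionGroup 2),
      QuaternionGroup.card] at h1
    omega
  have hzz : zz ∈ ψ.ker ∧ ∀ x ∈ ψ.ker, x = 1 ∨ x = zz := by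
    obtain ⟨x, hx, hx1⟩ : ∃ x ∈ ψ.ker, x ≠ 1 := by
      refine ψ.ker.ne_bot_iff_exists_ne_one.1 ?_ |>.elim fun x hx => ⟨x, x.2, fun e => hx (Subtype.ext e)⟩
      intro e
      rw [e, Subgroup.card_bot] at hker
      omega
    have huniq : ∀ y ∈ ψ.ker, y = 1 ∨ y = x := fun y hy => by
      by_contra hne
      rw [not_or] at hne
      have h3 : ({1, x, y} : Finset M).card ≤ (Set.Finite.toFinset (ψ.ker : Set M).toFinite).card :=
        Finset.card_le_card fun t ht => by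
          simp only [Finset.mem_insert, Finset.mem_singleton] at ht
          rw [Set.Finite.mem_toFinset]
          rcases ht with rfl | rfl | rfl
          exacts [ψ.ker.one_mem, hx, hy]
      rw [Finset.card_insert_of_notMem (by simp [hx1.symm, Ne.symm hne.1]),
        Finset.card_pair (Ne.symm hne.2), ← Set.ncard_eq_toFinset_card, ← Nat.card_coe_set_eq] at h3
      rw [SetLike.coe_sort_coe] at h3
      omega
    have hx2 : x * x = 1 := (huniq _ (ψ.ker.mul_mem hx hx)).resolve_right fun e => hx1 (by simpa using e)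
    have hinj1 : ∀ t : QuaternionGroup 2, ψ (t, 1) = 1 → t = 1 := fun t ht => by
      simpa [ψ, MonoidHom.noncommCoprod_apply] using ht
    have hinj2 : ∀ t : QuaternionGroup 2, ψ (1, t) = 1 → t = 1 := fun t ht => by
      simpa [ψ, MonoidHom.noncommCoprod_apply] using ht
    have key : ∀ y : M, y * y = 1 → y = 1 ∨ y = zz ∨ y = z1 ∨ y = (1, QuaternionGroup.a 2) := by
      decide +kernel
    obtain rfl : x = zz := by
      rcases key x hx2 with e | e | e | e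
      · exact absurd e hx1
      · exact e
      · rw [e] at hx; exact absurd (hinj1 _ hx) (by decide +kernel)
      · rw [e] at hx; exact absurd (hinj2 _ hx) (by decide +kernel)
    exact ⟨hx, huniq⟩
  have hE : ∀ x y : M, Eqv x y ↔ ψ x = ψ y := fun x y => by
    constructor
    · rintro (rfl | rfl)
      · rfl
      · rw [map_mul, MonoidHom.mem_ker.1 hzz.1, mul_one]
    · intro e
      rcases hzz.2 (y⁻¹ * x) (by rw [MonoidHom.mem_ker, map_mul, map_inv, e, inv_mul_cancel]) with h | h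
      · exact Or.inl (inv_mul_eq_one.1 h).symm
      · exact Or.inr (inv_mul_eq_iff_eq_mul.1 h)
  have hψQ : ∀ x, ψ x ∈ Q := fun x => hrange ▸ ⟨x, rfl⟩
  have hQψ : ∀ g ∈ Q, ∃ x, ψ x = g := fun g hg => by rwa [← hrange] at hg
  let A : Fin 2 → Subgroup S := fun k =>
    Q ⊓ Subgroup.centralizer ({ψ (planeP k), ψ (planeR k)} : Set S)
  have hmemA : ∀ k x, ψ x ∈ A k ↔ Com x (planeP k) ∧ Com x (planeR k) := fun k x => by
    simp only [A, Subgroup.mem_inf, hψQ, true_and, Subgroup.mem_centralizer_iff, Set.mem_insert_iff,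
      Set.mem_singleton_iff, forall_eq_or_imp, forall_eq, Com, hE, map_mul]
    exact and_congr eq_comm eq_comm
  have hP : ∀ k, ψ (planeP k) ∈ A k ∧ ψ (planeR k) ∈ A k := fun k => by
    obtain ⟨a, b, c⟩ := plane_mem k
    exact ⟨(hmemA k _).2 ⟨a, b⟩, (hmemA k _).2 ⟨(hE _ _).2 ((hE _ _).1 b).symm, c⟩⟩
  have hrep : ∀ k, ∀ g ∈ A k, ∃ y ∈ reps k, ψ y = g := fun k g hg => by
    obtain ⟨x, rfl⟩ := hQψ g hg.1
    obtain ⟨y, hy, e⟩ := reps_cover k x ((hmemA k x).1 hg).1 ((hmemA k x).1 hg).2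
    exact ⟨y, hy, ((hE _ _).1 e).symm⟩
  have hrepA : ∀ k, ∀ y ∈ reps k, ψ y ∈ A k := fun k y hy => by
    simp only [reps, Finset.mem_filter] at hy
    exact (hmemA k y).2 ⟨hy.2.1, hy.2.2.1⟩
  have hAel : ∀ k, Cfsg.IsElementaryAbelian 2 (A k) := fun k => by
    refine ⟨⟨⟨fun u v => Subtype.ext ?_⟩⟩, fun u hu => ?_⟩
    · obtain ⟨x, hx, ex⟩ := hrep k u u.2
      obtain ⟨y, hy, ey⟩ := hrep k v v.2
      show (u : S) * v = v * u
      rw [← ex, ← ey, ← map_mul, ← map_mul]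
      exact (hE _ _).1 (reps_comm k x hx y hy).1
    · obtain ⟨x, hx, rfl⟩ := hrep k u hu
      rw [pow_two, ← map_mul, (hE _ _).1 (reps_comm k x hx x hx).2, map_one]
  have hA8 : ∀ k, Nat.card (A k) = 8 := fun k => by
    rw [← reps_card k, ← Nat.card_eq_finsetCard]
    exact (Nat.card_congr (Equiv.ofBijective (fun y : reps k => (⟨ψ y, hrepA k y y.2⟩ : A k))
      ⟨fun y y' e => Subtype.ext (reps_inj k y y.2 y' y'.2 ((hE _ _).2 (congrArg Subtype.val e))),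
        fun g => by obtain ⟨y, hy, e⟩ := hrep k g g.2; exact ⟨⟨y, hy⟩, Subtype.ext e⟩⟩)).symm
  suffices key : ∃ k, Subgroup.centralizer (A k : Set S) = A k by
    obtain ⟨k, hk⟩ := key
    exact Cfsg.Agent.S1232.result hS (A k) (hAel k) (hA8 k) hk
  by_contra hne
  have hz1A : ∀ k, ψ z1 ∈ A k := fun k => (hmemA k z1).2 (by fin_cases k <;> decide +kernel)
  -- a swapping element for each plane
  have hswap : ∀ k, ∃ c : S, ∃ x y : M, c * ψ gI * c⁻¹ = ψ x ∧ c * ψ gJ * c⁻¹ = ψ y ∧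
      c * ψ (planeP k) * c⁻¹ = ψ (planeP k) ∧ c * ψ (planeR k) * c⁻¹ = ψ (planeR k) ∧
      c * ψ z1 * c⁻¹ = ψ z1 ∧ Image k x y ∧
      ¬ ∃ q : M, Eqv x (q * gI * q⁻¹) ∧ Eqv y (q * gJ * q⁻¹) ∧
        Com q (planeP k) ∧ Com q (planeR k) := by
    intro k
    set C := Subgroup.centralizer (A k : Set S) with hCdef
    have hAle : A k ≤ C := fun u hu => Subgroup.mem_centralizer_iff.2 fun v hv =>
      congrArg Subtype.val ((hAel k).1.is_comm.comm (⟨v, hv⟩ : A k) ⟨u, hu⟩)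
    obtain ⟨c0, hc0, hc0A⟩ : ∃ c0 ∈ C, c0 ∉ A k := by
      by_contra h
      push Not at h
      exact hne ⟨k, le_antisymm h hAle⟩
    have hCQ : ∀ c ∈ C, c ∈ Q → c ∈ A k := fun c hc hcQ => by
      refine ⟨hcQ, Subgroup.mem_centralizer_iff.2 ?_⟩
      rintro v (rfl | rfl)
      · exact Subgroup.mem_centralizer_iff.1 hc _ (hP k).1
      · exact Subgroup.mem_centralizer_iff.1 hc _ (hP k).2
    have hAn : ∀ q ∈ Q, ∀ u ∈ A k, q * u * q⁻¹ ∈ A k := fun q hq u hu => by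
      obtain ⟨x, rfl⟩ := hQψ q hq
      obtain ⟨y, hy, rfl⟩ := hrep k u hu
      rw [← map_inv, ← map_mul, ← map_mul, hmemA]
      exact plane_conj k x y hy
    have hQN : Q ≤ Subgroup.normalizer (C : Set S) := fun q hq => by
      rw [Subgroup.mem_normalizer_iff]
      have hh : ∀ q ∈ Q, ∀ c ∈ C, q * c * q⁻¹ ∈ C := fun q hq c hc =>
        Subgroup.mem_centralizer_iff.2 fun u hu => by
          have h1 := Subgroup.mem_centralizer_iff.1 hc _ (hAn q⁻¹ (Q.inv_mem hq) u hu)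
          rw [inv_inv] at h1
          calc u * (q * c * q⁻¹) = q * ((q⁻¹ * u * q) * c) * q⁻¹ := by group
            _ = q * (c * (q⁻¹ * u * q)) * q⁻¹ := by rw [h1]
            _ = q * c * q⁻¹ * u := by group
      refine fun c => ⟨hh q hq c, fun hc => ?_⟩
      have h1 := hh q⁻¹ (Q.inv_mem hq) _ hc
      rwa [inv_inv, show q⁻¹ * (q * c * q⁻¹) * q = c by group] at h1
    haveI := hS.isNilpotent
    have hlt : Q.subgroupOf (C ⊔ Q) < ⊤ := by
      rw [lt_top_iff_ne_top, Ne, Subgroup.subgroupOf_eq_top]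
      exact fun h => hc0A (hCQ c0 hc0 (h (Subgroup.mem_sup_left hc0)))
    obtain ⟨g, hgN, hgQ⟩ := SetLike.exists_of_lt
      (Group.normalizerCondition_of_isNilpotent _ hlt)
    have hg2 : (g : S) ∈ (C : Set S) * (Q : Set S) := by
      rw [← Subgroup.coe_mul_of_right_le_normalizer_left C Q hQN]; exact g.2
    obtain ⟨c, hc, q, hq, hcq⟩ := Set.mem_mul.1 hg2
    have hgNQ : ∀ u ∈ Q, (g : S) * u * (g : S)⁻¹ ∈ Q := fun u hu =>
      ((Subgroup.mem_normalizer_iff.1 hgN) ⟨u, Subgroup.mem_sup_right hu⟩).1 hu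
    have hcN : ∀ u ∈ Q, c * u * c⁻¹ ∈ Q := fun u hu => by
      have h1 := hgNQ _ (Q.mul_mem (Q.mul_mem (Q.inv_mem hq) hu) hq)
      rw [← hcq] at h1
      rwa [show c * q * (q⁻¹ * u * q) * (c * q)⁻¹ = c * u * c⁻¹ by group] at h1
    have hcQ : c ∉ Q := fun h => hgQ (by
      rw [Subgroup.mem_subgroupOf, ← hcq]; exact Q.mul_mem h hq)
    have hfix : ∀ u ∈ A k, c * u * c⁻¹ = u := fun u hu => by
      rw [← Subgroup.mem_centralizer_iff.1 hc u hu, mul_inv_cancel_right]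
    obtain ⟨x, hx⟩ := hQψ _ (hcN _ (hψQ gI))
    obtain ⟨y, hy⟩ := hQψ _ (hcN _ (hψQ gJ))
    refine ⟨c, x, y, hx.symm, hy.symm, hfix _ (hP k).1, hfix _ (hP k).2, hfix _ (hz1A k), ?_, ?_⟩
    · have hi := image_gen k
      let φ : S →* S := (MulAut.conj c).toMonoidHom
      have hφ : ∀ u, φ u = c * u * c⁻¹ := fun u => rfl
      have hφI : φ (ψ gI) = ψ x := hx.symm
      have hφJ : φ (ψ gJ) = ψ y := hy.symm
      have hφP : φ (ψ (planeP k)) = ψ (planeP k) := hfix _ (hP k).1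
      have hφR : φ (ψ (planeR k)) = ψ (planeR k) := hfix _ (hP k).2
      have hφz : φ (ψ z1) = ψ z1 := hfix _ (hz1A k)
      simp only [Image, Com, hE, map_mul] at hi ⊢
      obtain ⟨a, b, c', d, e, f, g'⟩ := hi
      refine ⟨?_, ?_, ?_, ?_, ?_, ?_, ?_⟩
      · simpa [hφI, hφP] using congrArg φ a
      · simpa [hφJ, hφR] using congrArg φ b
      · simpa [hφI, hφR, hφz] using congrArg φ c'
      · simpa [hφJ, hφP, hφz] using congrArg φ d
      · simpa [hφI, hφz] using congrArg φ e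
      · simpa [hφJ, hφz] using congrArg φ f
      · simpa [hφI, hφJ, hφz] using congrArg φ g'
    · rintro ⟨q', h1, h2, h3, h4⟩
      rw [hE, map_mul, map_mul, map_inv, hx] at h1
      rw [hE, map_mul, map_mul, map_inv, hy] at h2
      have hq' : ψ q' ∈ A k := (hmemA k q').2 ⟨h3, h4⟩
      have hd : (ψ q')⁻¹ * c ∈ Subgroup.centralizer (Q : Set S) := by
        let H := (Subgroup.centralizer ({(ψ q')⁻¹ * c} : Set S)).comap ψ
        have hH : ∀ t : M, t ∈ H ↔ ψ t * ((ψ q')⁻¹ * c) = ((ψ q')⁻¹ * c) * ψ t := fun t => by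
          simp only [H, Subgroup.mem_comap, Subgroup.mem_centralizer_singleton_iff]
        have hb : ∀ t : M, c * ψ t * c⁻¹ = ψ q' * ψ t * (ψ q')⁻¹ → t ∈ H := fun t e => (hH t).2 <| by
          calc ψ t * ((ψ q')⁻¹ * c) = (ψ q')⁻¹ * (ψ q' * ψ t * (ψ q')⁻¹) * c := by group
            _ = (ψ q')⁻¹ * (c * ψ t * c⁻¹) * c := by rw [e]
            _ = (ψ q')⁻¹ * c * ψ t := by group
        have hI : gI ∈ H := hb _ h1
        have hJ : gJ ∈ H := hb _ h2
        have hAA : ∀ u ∈ A k, ψ q' * u * (ψ q')⁻¹ = u := fun u hu => by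
          rw [show ψ q' * u = u * ψ q' from congrArg Subtype.val
            ((hAel k).1.is_comm.comm (⟨_, hq'⟩ : A k) ⟨u, hu⟩), mul_inv_cancel_right]
        have hP' : planeP k ∈ H := hb _ ((hfix _ (hP k).1).trans (hAA _ (hP k).1).symm)
        have hR' : planeR k ∈ H := hb _ ((hfix _ (hP k).2).trans (hAA _ (hP k).2).symm)
        refine Subgroup.mem_centralizer_iff.2 fun u hu => ?_
        obtain ⟨t, rfl⟩ := hQψ u hu
        obtain ⟨i, j, l, m, rfl⟩ := generate k t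
        exact (hH _).1 (H.mul_mem (H.mul_mem (H.mul_mem (H.pow_mem hI _) (H.pow_mem hJ _))
          (H.pow_mem hP' _)) (H.pow_mem hR' _))
      exact hcQ (by simpa using Q.mul_mem (hψQ q') (hC hd))
  obtain ⟨c, x, y, hcI, hcJ, hcP, hcR, hcz, him, hni⟩ := hswap 0
  obtain ⟨c', x', y', hcI', hcJ', hcP', hcR', hcz', him', hni'⟩ := hswap 1
  have hsw := (inner_or_swap_zero x y him).resolve_left hni
  have hsw' := (inner_or_swap_one x' y' him').resolve_left hni'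
  let R : S → S → Prop := fun u v => u = v ∨ u = v * ψ z1
  have hzc : ∀ t : M, Eqv (t * z1) (z1 * t) := by decide +kernel
  have hzsq : ψ z1 * ψ z1 = 1 := by rw [← map_mul, decompose.2, map_one]
  have hR : ∀ s t : M, Eqz s t ↔ R (ψ s) (ψ t) := fun s t => by
    simp only [Eqz, R, hE, map_mul]
  have hRt : ∀ u v w, R u v → R v w → R u w := by
    rintro u v w (rfl | rfl) (rfl | rfl)
    · exact Or.inl rfl
    · exact Or.inr rfl
    · exact Or.inr rfl
    · exact Or.inl (by rw [mul_assoc, hzsq, mul_one])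
  let φ : S →* S := (MulAut.conj c).toMonoidHom
  let φ' : S →* S := (MulAut.conj c').toMonoidHom
  have hφI : φ (ψ gI) = ψ x := hcI
  have hφJ : φ (ψ gJ) = ψ y := hcJ
  have hφI' : φ' (ψ gI) = ψ x' := hcI'
  have hφJ' : φ' (ψ gJ) = ψ y' := hcJ'
  have hφP' : φ' (ψ (planeP 1)) = ψ (planeP 1) := hcP'
  have hφR' : φ' (ψ (planeR 1)) = ψ (planeR 1) := hcR'
  have hRφ : ∀ u v, R u v → R (φ u) (φ v) := by
    rintro u v (rfl | rfl)
    · exact Or.inl rfl
    · exact Or.inr (by rw [map_mul]; exact congrArg _ hcz)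
  have hRφ' : ∀ u v, R u v → R (φ' u) (φ' v) := by
    rintro u v (rfl | rfl)
    · exact Or.inl rfl
    · exact Or.inr (by rw [map_mul]; exact congrArg _ hcz')
  have hRmul : ∀ s s' t t' : M, R (ψ s) (ψ t) → R (ψ s') (ψ t') → R (ψ (s * s')) (ψ (t * t')) := by
    intro s s' t t' a b
    have hc1 : ψ z1 * ψ t' = ψ t' * ψ z1 := by
      rw [← map_mul, ← map_mul]; exact ((hE _ _).1 (hzc t')).symm
    rw [map_mul, map_mul]
    rcases a with a | a <;> rcases b with b | b <;> rw [a, b]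
    · exact Or.inl rfl
    · exact Or.inr (mul_assoc _ _ _).symm
    · exact Or.inr (by rw [mul_assoc, hc1, ← mul_assoc])
    · refine Or.inl ?_
      rw [mul_assoc, ← mul_assoc (ψ z1), hc1, mul_assoc, hzsq, mul_one]
  have hx1 : R (ψ x) (ψ (1, QuaternionGroup.a 1)) := by
    rcases hsw.1 with e | e
    · exact Or.inl ((hE _ _).1 e)
    · exact hRt _ _ _ (Or.inl ((hE _ _).1 e)) ((hR _ _).1 swap_gen.2.2.1)
  have hy1 : R (ψ y) (ψ (1, QuaternionGroup.xa 0)) := by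
    rcases hsw.2 with e | e
    · exact Or.inl ((hE _ _).1 e)
    · exact hRt _ _ _ (Or.inl ((hE _ _).1 e)) ((hR _ _).1 swap_gen.2.2.2.1)
  have hx2 : R (ψ x') (ψ (1, QuaternionGroup.xa 0)) := by
    rcases hsw'.1 with e | e
    · exact Or.inl ((hE _ _).1 e)
    · exact hRt _ _ _ (Or.inl ((hE _ _).1 e)) ((hR _ _).1 swap_gen.2.2.2.1)
  have hy2 : R (ψ y') (ψ (1, QuaternionGroup.a 1 * QuaternionGroup.xa 0)) := by
    rcases hsw'.2 with e | e
    · exact Or.inl ((hE _ _).1 e)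
    · exact hRt _ _ _ (Or.inl ((hE _ _).1 e)) ((hR _ _).1 swap_gen.2.2.2.2)
  have hinv : ∀ s t : M, R (ψ s) (ψ t) → R (ψ s⁻¹) (ψ t⁻¹) := by
    intro s t a
    rw [map_inv, map_inv]
    rcases a with a | a
    · exact Or.inl (by rw [a])
    · refine Or.inr ?_
      rw [a, mul_inv_rev, inv_eq_of_mul_eq_one_right hzsq, ← map_inv, ← map_mul, ← map_mul]
      exact ((hE _ _).1 (hzc t⁻¹)).symm
  have hP1 : φ' (ψ (gI⁻¹ * planeP 1)) = ψ (x'⁻¹ * planeP 1) := by
    rw [map_mul, map_inv, map_mul, map_inv, hφI', hφP', map_mul, map_inv]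
  have hR1 : φ' (ψ (gJ⁻¹ * planeR 1)) = ψ (y'⁻¹ * planeR 1) := by
    rw [map_mul, map_inv, map_mul, map_inv, hφJ', hφR', map_mul, map_inv]
  have hpp : R (ψ (x'⁻¹ * planeP 1)) (ψ gI) :=
    hRt _ _ _ (hRmul _ _ _ _ (hinv _ _ hx2) (Or.inl rfl)) ((hR _ _).1 compose.1)
  have d0 : R (φ' (φ (ψ (cyc 0)))) (ψ (cyc 1)) := by
    refine hRt _ _ _ (hRφ' _ _ ?_) (?_ : R (φ' (ψ ((gJ⁻¹ * planeR 1) * (gI⁻¹ * planeP 1)))) _)
    · exact hRt _ _ _ (by show R (φ (ψ gI)) _; rw [hφI]; exact hx1) ((hR _ _).1 second_gen.2)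
    · rw [map_mul, map_mul, hR1, hP1, ← map_mul]
      exact hRt _ _ _ (hRmul _ _ _ _ (hRmul _ _ _ _ (hinv _ _ hy2) (Or.inl rfl))
        (hRmul _ _ _ _ (hinv _ _ hx2) (Or.inl rfl))) ((hR _ _).1 compose.2)
  have d2 : R (φ' (φ (ψ (cyc 2)))) (ψ (cyc 0)) := by
    refine hRt _ _ _ (hRφ' _ _ ?_) (?_ : R (φ' (ψ (gI⁻¹ * planeP 1))) _)
    · exact hRt _ _ _ (by show R (φ (ψ gJ)) _; rw [hφJ]; exact hy1)
        (Or.inl ((hE _ _).1 second_gen.1))
    · rw [hP1]; exact hpp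
  let D : S →* S := φ'.comp φ
  have hRD : ∀ u v, R u v → R (D u) (D v) := fun u v a => hRφ' _ _ (hRφ _ _ a)
  have hsym : ∀ u v, R u v → R v u := by
    rintro u v (rfl | rfl)
    · exact Or.inl rfl
    · exact Or.inr (by rw [mul_assoc, hzsq, mul_one])
  have d1 : R (D (ψ (cyc 1))) (ψ (cyc 2)) := by
    have h1 := hRD _ _ (hsym _ _ ((hR _ _).1 cyc_mul.1))
    obtain ⟨u0, hu0⟩ : ∃ u0, D (ψ (cyc 0)) = ψ u0 := by
      rcases d0 with e | e
      · exact ⟨cyc 1, e⟩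
      · exact ⟨cyc 1 * z1, by rw [map_mul]; exact e⟩
    obtain ⟨u2, hu2⟩ : ∃ u2, D (ψ (cyc 2)) = ψ u2 := by
      rcases d2 with e | e
      · exact ⟨cyc 0, e⟩
      · exact ⟨cyc 0 * z1, by rw [map_mul]; exact e⟩
    refine hRt _ _ _ h1 (hRt _ _ _ ?_ ((hR _ _).1 cyc_mul.2))
    rw [map_mul, map_mul, hu0, hu2, ← map_mul]
    refine hRmul _ _ _ _ ?_ ?_
    · rw [← hu0]; exact d0
    · rw [← hu2]; exact d2
  have hiter : ∀ n : ℕ, R ((⇑D)^[n] (ψ gI)) (ψ (cyc ⟨n % 3, Nat.mod_lt _ (by norm_num)⟩)) := by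
    intro n
    induction n with
    | zero => exact Or.inl rfl
    | succ n ih =>
      rw [Function.iterate_succ_apply']
      refine hRt _ _ _ (hRD _ _ ih) ?_
      rcases (show n % 3 = 0 ∨ n % 3 = 1 ∨ n % 3 = 2 by omega) with e | e | e <;>
        simp only [e, Nat.add_mod n 1 3] <;> assumption
  obtain ⟨r, hr⟩ := hS (c' * c)
  have hDn : ∀ n u, (⇑D)^[n] u = (c' * c) ^ n * u * ((c' * c) ^ n)⁻¹ := by
    intro n
    induction n with
    | zero => intro u; simp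
    | succ n ih =>
      intro u
      rw [Function.iterate_succ_apply', ih, pow_succ']
      show c' * (c * _ * c⁻¹) * c'⁻¹ = _
      simp only [mul_inv_rev, mul_assoc]
  have hfin := hiter (2 ^ r)
  rw [hDn, hr, one_mul, inv_one, mul_one] at hfin
  have h3 : 2 ^ r % 3 ≠ 0 := fun e => by
    have := (Nat.Prime.dvd_of_dvd_pow Nat.prime_three (Nat.dvd_of_mod_eq_zero e))
    omega
  rcases (show 2 ^ r % 3 = 1 ∨ 2 ^ r % 3 = 2 by omega) with e | e <;> simp only [e] at hfin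
  · exact cyc_ne.1 ((hR _ _).2 (hsym _ _ hfin))
  · exact cyc_ne.2 ((hR _ _).2 (hsym _ _ hfin))

end Cfsg.Agent.S1233
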