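import Cfsg.Statements.S1234
import Cfsg.Agent.S1232

set_option autoImplicit false
open Cfsg

namespace Cfsg.Agent.S1234

/-- Let S be a finite 2-group and Q ≤ S a subgroup of order 32 having an elementary abelian subgroup E of order 16 and an involution s ∉ E whose centralizer in E has order 4 (so Q ≅ (Z₂ × Z₂) ≀ Z₂). If C_S(Z(Q)) = Q, then every section of S has 2-rank at most 4. -/
theorem result {S : Type*} [Group S] [Finite S] (hS : IsPGroup 2 S) (Q E : Subgroup S) (hEQ : E ≤ Q) (hE : Cfsg.IsElementaryAbelian 2 E) (hE16 : Nat.card E = 16) (hQ32 : Nat.card Q = 32) (s : S) (hsQ : s ∈ Q) (hsE : s ∉ E) (hs : orderOf s = 2) (hfix : Nat.card ↥(E ⊓ Subgroup.centralizer ({s} : Set S)) = 4) (hC : Subgroup.centralizer (((Subgroup.center Q).map Q.subtype : Subgroup S) : Set S) = Q) : Cfsg.SectionalPRankLE 2 4 S := by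
  obtain ⟨hab, hsq⟩ := hE
  have hsq' : ∀ x : S, x ∈ E → x * x = 1 := fun x hx => by rw [← pow_two]; exact hsq x hx
  have hEc : ∀ x ∈ E, ∀ y ∈ E, x * y = y * x := fun x hx y hy =>
    congrArg Subtype.val (hab.is_comm.comm (⟨x, hx⟩ : E) ⟨y, hy⟩)
  have hss : s * s = 1 := by rw [← pow_two, ← hs]; exact pow_orderOf_eq_one s
  have hidx : (E.subgroupOf Q).index = 2 := by
    have h1 := Subgroup.card_mul_index (E.subgroupOf Q)
    rw [Nat.card_congr (Subgroup.subgroupOfEquivOfLe hEQ).toEquiv, hE16, hQ32] at h1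
    omega
  have hdec : ∀ x ∈ Q, x ∈ E ∨ x * s ∈ E := fun x hx => by
    by_cases hxE : x ∈ E
    · exact Or.inl hxE
    · refine Or.inr (Subgroup.mem_subgroupOf.1 ((Subgroup.mul_mem_iff_of_index_two hidx
        (a := (⟨x, hx⟩ : Q)) (b := ⟨s, hsQ⟩)).2 ?_))
      simp only [Subgroup.mem_subgroupOf]
      exact iff_of_false hxE hsE
  set Z : Subgroup S := E ⊓ Subgroup.centralizer ({s} : Set S) with hZ
  have hZs : ∀ x ∈ Z, s * x = x * s := fun x hx =>
    (Subgroup.mem_centralizer_singleton_iff.1 hx.2).symm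
  have hcen : (Subgroup.center Q).map Q.subtype = Z := by
    ext x
    constructor
    · rintro ⟨⟨x, hx⟩, hc, rfl⟩
      have hc' : ∀ y ∈ Q, y * x = x * y := fun y hy =>
        congrArg Subtype.val (Subgroup.mem_center_iff.1 hc ⟨y, hy⟩)
      refine ⟨?_, Subgroup.mem_centralizer_singleton_iff.2 (hc' s hsQ).symm⟩
      by_contra hxE
      have hxs := (hdec x hx).resolve_left hxE
      have hall : Z = E := inf_eq_left.2 fun e he => by
        refine Subgroup.mem_centralizer_singleton_iff.2 ?_
        have a := hEc (x * s) hxs e he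
        have b := hc' e (hEQ he)
        rw [mul_assoc, ← mul_assoc e x s, b, mul_assoc] at a
        exact (mul_left_cancel a).symm
      rw [hall, hE16] at hfix
      omega
    · intro hx
      refine ⟨⟨x, hEQ hx.1⟩, Subgroup.mem_center_iff.2 fun y => Subtype.ext ?_, rfl⟩
      show (y : S) * x = x * y
      rcases hdec y y.2 with hy | hy
      · exact hEc _ hy _ hx.1
      · have a := hEc _ hy _ hx.1
        rw [mul_assoc, hZs x hx, ← mul_assoc, ← mul_assoc] at a
        exact mul_right_cancel a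
  rw [hcen] at hC
  let A : Subgroup S :=
    { carrier := {x | x ∈ Z ∨ x * s ∈ Z}
      one_mem' := Or.inl Z.one_mem
      mul_mem' := by
        rintro a b (ha | ha) (hb | hb)
        · exact Or.inl (Z.mul_mem ha hb)
        · exact Or.inr (by rw [mul_assoc]; exact Z.mul_mem ha hb)
        · refine Or.inr ?_
          rw [mul_assoc, ← hZs b hb, ← mul_assoc]
          exact Z.mul_mem ha hb
        · refine Or.inl ?_
          have e : (a * s) * (b * s) = a * b := by
            rw [mul_assoc a s, hZs _ hb, mul_assoc b s s, hss, mul_one]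
          rw [← e]; exact Z.mul_mem ha hb
      inv_mem' := by
        rintro a (ha | ha)
        · exact Or.inl (Z.inv_mem ha)
        · refine Or.inr ?_
          have h1 : Commute s a := by
            have := Commute.mul_right (show Commute s (a * s) from hZs _ ha) (Commute.refl s)
            rwa [mul_assoc, hss, mul_one] at this
          have h2 := Z.inv_mem ha
          rw [mul_inv_rev, inv_eq_of_mul_eq_one_right hss, h1.inv_right.eq] at h2
          exact h2 }
  have hmem : ∀ x, x ∈ A ↔ x ∈ Z ∨ x * s ∈ Z := fun x => Iff.rfl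
  have hZc : ∀ x ∈ Z, ∀ y ∈ Z, x * y = y * x := fun x hx y hy => hEc x hx.1 y hy.1
  have hgen : ∀ x ∈ A, ∃ z ∈ Z, x = z ∨ x = z * s := fun x hx => by
    rcases (hmem x).1 hx with h | h
    · exact ⟨x, h, Or.inl rfl⟩
    · exact ⟨_, h, Or.inr (by rw [mul_assoc, hss, mul_one])⟩
  have hcomm : ∀ x ∈ A, ∀ y ∈ A, Commute x y := fun x hx y hy => by
    obtain ⟨z, hz, hx'⟩ := hgen x hx
    obtain ⟨w, hw, hy'⟩ := hgen y hy
    have h1 : Commute z w := hZc z hz w hw
    have h2 : Commute s w := hZs w hw
    have h3 : Commute z s := (hZs z hz).symm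
    rcases hx' with rfl | rfl <;> rcases hy' with rfl | rfl
    · exact h1
    · exact h1.mul_right h3
    · exact h1.mul_left h2
    · exact ((h1.mul_right h3)).mul_left (h2.mul_right (Commute.refl s))
  have hA : Cfsg.IsElementaryAbelian 2 A := by
    refine ⟨⟨⟨fun x y => Subtype.ext (hcomm x x.2 y y.2)⟩⟩, fun x hx => ?_⟩
    obtain ⟨z, hz, rfl | rfl⟩ := hgen x hx
    · exact hsq _ hz.1
    · rw [Commute.mul_pow ((hZs z hz).symm : Commute z s), hsq _ hz.1, pow_two, hss, one_mul]
  have hA8 : Nat.card A = 8 := by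
    have hle : Z ≤ A := fun x hx => Or.inl hx
    have hsn : s ∉ Z := fun h => hsE h.1
    have h2 : (Z.subgroupOf A).index = 2 := by
      rw [Subgroup.index_eq_two_iff]
      refine ⟨⟨s, Or.inr (by rw [hss]; exact Z.one_mem)⟩, fun b => ?_⟩
      simp only [Subgroup.mem_subgroupOf, Subgroup.coe_mul]
      rcases (hmem b).1 b.2 with h | h
      · exact Or.inr ⟨h, fun h' => hsn (by simpa using Z.mul_mem (Z.inv_mem h) h')⟩
      · refine Or.inl ⟨h, fun h' => hsn (by simpa using Z.mul_mem (Z.inv_mem h') h)⟩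
    have h1 := Subgroup.card_mul_index (Z.subgroupOf A)
    rw [Nat.card_congr (Subgroup.subgroupOfEquivOfLe hle).toEquiv, h2] at h1
    rw [hZ, hfix] at h1
    omega
  refine Cfsg.Agent.S1232.result hS A hA hA8 (le_antisymm (fun c hc => ?_) fun a ha => ?_)
  · have hcs : c * s = s * c :=
      (Subgroup.mem_centralizer_iff.1 hc s (Or.inr (by rw [hss]; exact Z.one_mem))).symm
    have hcQ : c ∈ Q := by
      rw [← hC]
      exact Subgroup.mem_centralizer_iff.2 fun z hz =>
        Subgroup.mem_centralizer_iff.1 hc z (Or.inl hz)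
    rcases hdec c hcQ with h | h
    · exact Or.inl ⟨h, Subgroup.mem_centralizer_singleton_iff.2 hcs⟩
    · refine Or.inr ⟨h, Subgroup.mem_centralizer_singleton_iff.2 ?_⟩
      rw [hcs, mul_assoc, hcs]
  · exact Subgroup.mem_centralizer_iff.2 fun b hb => hcomm b hb a ha

end Cfsg.Agent.S1234
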