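import Cfsg.Statements.S1235
import Cfsg.Agent.Lib.Spor.SelfCentFourSection

set_option autoImplicit false
open Cfsg

namespace Cfsg.Agent.S1235

open Cfsg.Agent.Spor.SelfCentFour

/-- Let G be a finite group, x an involution and T ≤ G a Sylow 2-subgroup of C_G(x) (T ≤ C_G(x) with |C_G(x) : T| odd) which is the internal direct product of a subgroup D that is dihedral (of order ≥ 4) or quasi-dihedral and a Klein four-subgroup B. Suppose that for every involution b ∈ B, T ≤ C_G(b) with |C_G(b) : T| odd. Then every section of G has 2-rank at most 4. -/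
theorem result {G : Type*} [Group G] [Finite G] (x : G) (hx : orderOf x = 2) (T D B : Subgroup G) (hT : IsPGroup 2 T) (hTx : T ≤ Subgroup.centralizer ({x} : Set G)) (hTxi : Odd (T.relIndex (Subgroup.centralizer ({x} : Set G)))) (hprod : Cfsg.IsInternalDirectProduct D B T) (hD : (∃ m : ℕ, 2 ≤ m ∧ Nonempty (D ≃* DihedralGroup m)) ∨ Cfsg.IsQuasiDihedral D) (hB : IsKleinFour B) (hTb : ∀ b ∈ B, orderOf b = 2 → T ≤ Subgroup.centralizer ({b} : Set G) ∧ Odd (T.relIndex (Subgroup.centralizer ({b} : Set G)))) : Cfsg.SectionalPRankLE 2 4 G := by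
  haveI : Fact (Nat.Prime 2) := ⟨Nat.prime_two⟩
  obtain ⟨S, hS⟩ := hT.exists_le_sylow
  obtain ⟨hDT, hBT, hcomm, hinf, hsup⟩ := hprod
  refine sectional_of_sylow S ?_
  set T' := T.subgroupOf (S : Subgroup G) with hT'
  set D' := D.subgroupOf (S : Subgroup G) with hD'
  set B' := B.subgroupOf (S : Subgroup G) with hB'
  have hp : IsPGroup 2 (S : Subgroup G) := S.isPGroup'
  have hD'T : D' ≤ T' := fun a ha => hDT ha
  have hB'T : B' ≤ T' := fun a ha => hBT ha
  have hcomm' : ∀ a ∈ D', ∀ b ∈ B', a * b = b * a := fun a ha b hb =>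
    Subtype.ext (hcomm _ ha _ hb)
  have hinf' : D' ⊓ B' = ⊥ := by
    rw [Subgroup.eq_bot_iff_forall]
    intro a ha
    refine Subtype.ext (Subgroup.mem_bot.1 (hinf ▸ (⟨ha.1, ha.2⟩ : (a : G) ∈ D ⊓ B)))
  have hsup' : D' ⊔ B' = T' := by
    rw [hT', ← hsup, Subgroup.subgroupOf_sup (hDT.trans hS) (hBT.trans hS)]
  have hB4 : Nat.card B' = 4 := by
    rw [hB', Nat.card_congr (Subgroup.subgroupOfEquivOfLe (hBT.trans hS)).toEquiv]
    exact hB.card_four
  have hBsq' : ∀ b ∈ B, b * b = 1 := fun b hb => by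
    have e : (⟨b, hb⟩ : B) * ⟨b, hb⟩ = 1 := IsKleinFour.mul_self _
    exact congrArg Subtype.val e
  have hBsq : ∀ b ∈ B', b * b = 1 := fun b hb => Subtype.ext (hBsq' _ hb)
  have hcent : ∀ b ∈ B', b ≠ 1 → Subgroup.centralizer ({b} : Set (S : Subgroup G)) = T' := by
    intro b hb hb1
    obtain ⟨hTC, hodd⟩ := hTb (b : G) hb (orderOf_eq_prime
      (by rw [pow_two]; exact hBsq' _ hb) (fun e => hb1 (Subtype.ext e)))
    set C := Subgroup.centralizer ({(b : G)} : Set G)
    have hle : T ≤ (S : Subgroup G) ⊓ C := le_inf hS hTC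
    have h1 := Subgroup.relIndex_mul_relIndex T _ C hle inf_le_right
    have h2 : T.relIndex ((S : Subgroup G) ⊓ C) = 1 := by
      obtain ⟨k, hk⟩ := IsPGroup.iff_card.1 (hp.to_le (inf_le_left : (S : Subgroup G) ⊓ C ≤ S))
      obtain ⟨i, -, hi⟩ := (Nat.dvd_prime_pow Nat.prime_two).1
        (hk ▸ Subgroup.relIndex_dvd_card T ((S : Subgroup G) ⊓ C))
      rw [← h1, hi] at hodd
      rcases Nat.eq_zero_or_pos i with rfl | hi0
      · simpa using hi
      · exact absurd ((Nat.odd_mul.1 hodd).1)
          (by simp [Nat.even_pow, Nat.pos_iff_ne_zero.1 hi0])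
    ext s
    constructor
    · intro hs
      exact Subgroup.relIndex_eq_one.1 h2 ⟨s.2, Subgroup.mem_centralizer_singleton_iff.2
        (congrArg Subtype.val (Subgroup.mem_centralizer_singleton_iff.1 hs))⟩
    · intro hs
      exact Subgroup.mem_centralizer_singleton_iff.2
        (Subtype.ext (Subgroup.mem_centralizer_singleton_iff.1 (hTC hs)))
  let De : D' ≃* D := Subgroup.subgroupOfEquivOfLe (hDT.trans hS)
  rcases hD with ⟨m, hm, ⟨e⟩⟩ | ⟨n, hn, hcard, x₁, y₁, hx₁, -, hxy⟩
  · let f : D' ≃* DihedralGroup m := De.trans e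
    have hc : Nat.card D' = 2 * m := by rw [Nat.card_congr f.toEquiv, DihedralGroup.nat_card]
    obtain ⟨k, hk⟩ := IsPGroup.iff_card.1 (hp.to_subgroup D')
    obtain ⟨n, rfl⟩ : ∃ n, k = n + 1 := ⟨k - 1, by
      rcases k with _ | k
      · rw [hc] at hk; simp at hk
      · simp⟩
    have hmn : m = 2 ^ n := by
      rw [hc, pow_succ'] at hk
      omega
    by_cases hn : 2 ≤ n
    · refine smallSections_of_cyclic hp T' D' B' hD'T hB'T hcomm' hinf' hsup' hB4 hBsq hcent
        (f.symm (DihedralGroup.r 1) : D') (f.symm (DihedralGroup.sr 0) : D') n hn (SetLike.coe_mem _)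
        ?_ hk (SetLike.coe_mem _) ?_
      · rw [Subgroup.orderOf_coe, MulEquiv.orderOf_eq, DihedralGroup.orderOf_r_one, hmn]
      · intro w hw he
        obtain ⟨j, rfl⟩ := Subgroup.mem_zpowers_iff.1 hw
        rw [← Subgroup.coe_zpow, ← Subgroup.coe_inv, ← Subgroup.coe_mul, ← Subgroup.coe_mul] at he
        rw [← Subgroup.coe_zpow, ← Subgroup.coe_mul, OneMemClass.coe_eq_one, ← f.map_eq_one_iff]
        have he' := congrArg f (Subtype.ext he :)
        simp only [map_mul, map_inv, map_zpow, MulEquiv.apply_symm_apply,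
          DihedralGroup.r_one_zpow, DihedralGroup.inv_sr, DihedralGroup.sr_mul_r,
          DihedralGroup.sr_mul_sr, DihedralGroup.r.injEq] at he'
        simp only [map_mul, map_zpow, MulEquiv.apply_symm_apply, DihedralGroup.r_one_zpow,
          DihedralGroup.r_mul_r]
        rw [zero_add, zero_sub] at he'
        rw [← DihedralGroup.r_zero]
        congr 1
        nth_rewrite 1 [← he']
        exact neg_add_cancel _
    · have hn1 : n = 1 := by
        rcases n with _ | _ | n
        · simp at hmn; omega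
        · rfl
        · omega
      subst hn1
      rw [pow_one] at hmn
      subst hmn
      have hsq : ∀ t ∈ T', t * t = 1 := by
        intro t ht
        obtain ⟨c, hc', b, hb, rfl⟩ := exists_mul_of_mem_sup D' B' hcomm' t (hsup'.symm ▸ ht)
        have hcc : c * c = 1 := by
          have h0 : ∀ a : DihedralGroup 2, a * a = 1 := by decide
          have := f.injective ((map_mul f _ _).trans ((h0 (f ⟨c, hc'⟩)).trans f.map_one.symm))
          exact congrArg Subtype.val this
        calc c * b * (c * b) = c * (b * c) * b := by group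
          _ = c * (c * b) * b := by rw [hcomm' c hc' b hb]
          _ = c * c * (b * b) := by group
          _ = 1 := by rw [hcc, hBsq b hb, one_mul]
      have hab : ∀ a ∈ T', ∀ b ∈ T', a * b = b * a := fun a ha b hb => by
        calc a * b = (a * b)⁻¹ := (inv_eq_of_mul_eq_one_right (hsq _ (T'.mul_mem ha hb))).symm
          _ = b⁻¹ * a⁻¹ := mul_inv_rev _ _
          _ = b * a := by
            rw [inv_eq_of_mul_eq_one_right (hsq a ha), inv_eq_of_mul_eq_one_right (hsq b hb)]
      have h16 : Nat.card T' = 16 := by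
        apply le_antisymm
        · have e' : Function.Surjective (fun p : D' × B' =>
              (⟨(p.1 : (S : Subgroup G)) * (p.2 : (S : Subgroup G)),
                T'.mul_mem (hD'T p.1.2) (hB'T p.2.2)⟩ : T')) := by
            rintro ⟨t, ht⟩
            obtain ⟨c, hc', b, hb, rfl⟩ := exists_mul_of_mem_sup D' B' hcomm' t (hsup'.symm ▸ ht)
            exact ⟨(⟨c, hc'⟩, ⟨b, hb⟩), rfl⟩
          refine (Nat.card_le_card_of_surjective _ e').trans (le_of_eq ?_)
          rw [Nat.card_prod, hc, hB4]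
        · have := card_mul_le D' B' T' hD'T hB'T
          rw [hinf', Subgroup.card_bot, hc, hB4, one_mul] at this
          exact this
      exact (show Data T' B' from ⟨hp, hab, hsq, h16, hB'T, hB4, hcent⟩).smallSections
  · refine smallSections_of_cyclic hp T' D' B' hD'T hB'T hcomm' hinf' hsup' hB4 hBsq hcent
      (De.symm x₁ : D') (De.symm y₁ : D') n (by omega) (SetLike.coe_mem _) ?_ ?_ (SetLike.coe_mem _)
      (mul_inv_self_fixed_of_pow hn ?_ ?_)
    · rw [Subgroup.orderOf_coe, MulEquiv.orderOf_eq, hx₁]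
    · rw [Nat.card_congr De.toEquiv, hcard]
    · rw [Subgroup.orderOf_coe, MulEquiv.orderOf_eq, hx₁]
    · rw [← Subgroup.coe_inv, ← Subgroup.coe_mul, ← Subgroup.coe_mul, ← Subgroup.coe_pow,
        ← map_inv, ← map_mul, ← map_mul, ← map_pow, hxy]

end Cfsg.Agent.S1235
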