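import Cfsg.Statements.S1236
import Cfsg.Agent.Lib.Invol.QuasiDihedral
-- import your own Cfsg.Agent.* helpers here

set_option autoImplicit false
open Cfsg

namespace Cfsg.Agent.S1236

theorem card_two_torsion {m : ℕ} [NeZero m] : ({j : ZMod m | j + j = 0} : Set (ZMod m)).ncard ≤ 2 := by
  classical
  have h := IsAddCyclic.card_nsmul_eq_zero_le (α := ZMod m) (n := 2) two_pos
  calc ({j : ZMod m | j + j = 0} : Set (ZMod m)).ncard
      = (Finset.univ.filter fun a : ZMod m => 2 • a = 0).card := by
        rw [← Set.ncard_coe_finset]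
        congr 1
        ext j
        simp only [Finset.coe_filter, Finset.mem_univ, true_and, Set.mem_ofPred_eq, two_nsmul]
    _ ≤ 2 := h

theorem dihedral_centralizer {m : ℕ} [NeZero m] (B : Subgroup (DihedralGroup m)) (hB : Nat.card B = 4)
    (h2 : ∀ b ∈ B, b * b = 1) : ∃ b ∈ B, ({g : DihedralGroup m | g * b = b * g}).ncard ≤ 4 := by
  classical
  by_cases hr : ∃ i, DihedralGroup.sr i ∈ B
  · obtain ⟨i, hi⟩ := hr
    refine ⟨_, hi, ?_⟩
    set T : Set (ZMod m) := {j | j + j = 0}
    have hsub : {g : DihedralGroup m | g * DihedralGroup.sr i = DihedralGroup.sr i * g} ⊆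
        (DihedralGroup.r '' T) ∪ ((fun j => DihedralGroup.sr (i + j)) '' T) := by
      rintro (j | k) hg
      · simp only [Set.mem_setOf_eq, DihedralGroup.r_mul_sr, DihedralGroup.sr_mul_r,
          DihedralGroup.sr.injEq] at hg
        exact .inl ⟨j, show j + j = 0 by linear_combination -hg, rfl⟩
      · simp only [Set.mem_setOf_eq, DihedralGroup.sr_mul_sr, DihedralGroup.r.injEq] at hg
        exact .inr ⟨k - i, show k - i + (k - i) = 0 by linear_combination -hg, by simp⟩
    have hT : T.ncard ≤ 2 := card_two_torsion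
    refine (Set.ncard_le_ncard hsub (Set.toFinite _)).trans ((Set.ncard_union_le _ _).trans ?_)
    have h3 := Set.ncard_image_le (f := DihedralGroup.r) (Set.toFinite T)
    have h4 := Set.ncard_image_le (f := fun j => DihedralGroup.sr (i + j)) (Set.toFinite T)
    omega
  · exfalso
    push Not at hr
    have hsub : (B : Set (DihedralGroup m)) ⊆ DihedralGroup.r '' {j : ZMod m | j + j = 0} := by
      rintro (j | j) hj
      · refine ⟨j, ?_, rfl⟩
        have := h2 _ hj
        rw [DihedralGroup.r_mul_r, DihedralGroup.one_def, DihedralGroup.r.injEq] at this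
        exact this
      · exact absurd hj (hr j)
    have h3 := (Set.ncard_le_ncard hsub (Set.toFinite _)).trans
      ((Set.ncard_image_le (f := DihedralGroup.r) (Set.toFinite _)).trans card_two_torsion)
    rw [← Nat.card_coe_set_eq] at h3
    replace h3 : Nat.card B ≤ 2 := h3
    omega

theorem qd_centralizer {S : Type*} [Group S] (hS : Cfsg.IsQuasiDihedral S) (B : Subgroup S)
    (hB : Nat.card B = 4) (h2 : ∀ b ∈ B, b * b = 1) : ∃ b ∈ B, ({g : S | g * b = b * g}).ncard ≤ 4 := by
  obtain ⟨n, x, y, h⟩ := Invol.exists_qd hS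
  have := h.finite
  by_cases hr : ∃ i : ℤ, 2 ∣ i ∧ x ^ i * y ∈ B
  · obtain ⟨i, -, hi⟩ := hr
    refine ⟨_, hi, ?_⟩
    have hsub : {g : S | g * (x ^ i * y) = x ^ i * y * g} ⊆ (h.four i : Set S) := by
      intro g hg
      refine h.conj_four_iff g i ?_
      rintro a ⟨k, rfl | rfl⟩
      · rw [mul_comm k, zpow_mul]
        exact (show Commute g (x ^ (2 * Invol.qq n)) from h.z_central g).zpow_right k
      · rw [add_comm, zpow_add, mul_comm k, zpow_mul, mul_assoc]
        exact ((show Commute g (x ^ (2 * Invol.qq n)) from h.z_central g).zpow_right k).mul_right hg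
    refine (Set.ncard_le_ncard hsub (Set.toFinite _)).trans ?_
    rw [← Nat.card_coe_set_eq]
    exact (h.card_four i).le
  · exfalso
    push Not at hr
    have hsub : (B : Set S) ⊆ {1, x ^ (2 * Invol.qq n)} := by
      intro b hb
      by_cases hb1 : b = 1
      · exact .inl hb1
      · rcases h.involution_cases (orderOf_eq_prime (by rw [pow_two, h2 b hb]) hb1) with he | ⟨i, hi, rfl⟩
        · exact .inr he
        · exact absurd hb (hr i hi)
    have h3 := (Set.ncard_le_ncard hsub (Set.toFinite _)).trans (Set.ncard_insert_le _ _)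
    rw [Set.ncard_singleton, ← Nat.card_coe_set_eq] at h3
    replace h3 : Nat.card B ≤ 2 := h3
    omega

/-- Let R be a finite group, t a central involution of R such that R ⧸ ⟨t⟩ is dihedral (of order ≥ 4) or quasi-dihedral, and A ≤ R an elementary abelian subgroup of order 8 containing t. Then C_R(A) = A. -/
theorem result {R : Type*} [Group R] [Finite R] (t : R) (ht : orderOf t = 2) (htz : t ∈ Subgroup.center R) [(Subgroup.zpowers t).Normal] (hq : (∃ m : ℕ, 2 ≤ m ∧ Nonempty (R ⧸ Subgroup.zpowers t ≃* DihedralGroup m)) ∨ Cfsg.IsQuasiDihedral (R ⧸ Subgroup.zpowers t)) (A : Subgroup R) (hA : Cfsg.IsElementaryAbelian 2 A) (hA8 : Nat.card A = 8) (htA : t ∈ A) : Subgroup.centralizer (A : Set R) = A := by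
  set f := QuotientGroup.mk' (Subgroup.zpowers t)
  have hT : Subgroup.zpowers t ≤ A := Subgroup.zpowers_le.mpr htA
  set B := A.map f with hBdef
  have hB : Nat.card B = 4 := by
    have h1 : (A.map f).index = A.index :=
      Subgroup.index_map_eq A (QuotientGroup.mk'_surjective _) (by rwa [QuotientGroup.ker_mk'])
    have h2 := (A.map f).card_mul_index
    rw [h1, ← Subgroup.index_eq_card] at h2
    have h3 := (Subgroup.zpowers t).card_mul_index
    rw [Nat.card_zpowers, ht, ← h2, ← A.card_mul_index, hA8, ← mul_assoc] at h3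
    have := Nat.eq_of_mul_eq_mul_right (Nat.pos_of_ne_zero A.index_ne_zero_of_finite) h3
    rw [hBdef]
    omega
  have h2 : ∀ b ∈ B, b * b = 1 := by
    rintro _ ⟨a, ha, rfl⟩
    rw [← map_mul, ← pow_two, hA.2 a ha, map_one]
  obtain ⟨b, hb, hb4⟩ : ∃ b ∈ B, ({g : R ⧸ Subgroup.zpowers t | g * b = b * g}).ncard ≤ 4 := by
    rcases hq with ⟨m, hm, ⟨e⟩⟩ | hq
    · have : NeZero m := ⟨by omega⟩
      obtain ⟨b, ⟨b', hb', rfl⟩, hb4⟩ := dihedral_centralizer (B.map e.toMonoidHom)
        (by rw [Subgroup.card_map_of_injective (f := e.toMonoidHom) e.injective, hB])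
        (by rintro _ ⟨c, hc, rfl⟩; rw [← map_mul, h2 c hc, map_one])
      refine ⟨b', hb', ?_⟩
      rw [← Set.ncard_image_of_injective _ e.injective]
      refine le_trans (Set.ncard_le_ncard ?_ (Set.toFinite _)) hb4
      rintro _ ⟨g, hg, rfl⟩
      show e g * e b' = e b' * e g
      rw [← map_mul, ← map_mul, show g * b' = b' * g from hg]
    · exact qd_centralizer hq B hB h2
  obtain ⟨a, ha, rfl⟩ := hb
  symm
  refine Subgroup.eq_of_le_of_card_ge (fun c hc => Subgroup.mem_centralizer_iff.mpr fun d hd =>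
    congrArg Subtype.val (hA.1.is_comm.comm ⟨d, hd⟩ ⟨c, hc⟩)) ?_
  set C := Subgroup.centralizer (A : Set R) with hC
  have hle : Subgroup.zpowers t ≤ C := Subgroup.zpowers_le.mpr (Subgroup.mem_centralizer_iff.mpr
    fun d _ => Subgroup.mem_center_iff.mp htz d)
  have h1 : Nat.card (C.map f) ≤ 4 := by
    refine le_trans ?_ hb4
    rw [← Nat.card_coe_set_eq]
    refine Nat.card_mono (Set.toFinite _) ?_
    rintro _ ⟨c, hc, rfl⟩
    show f c * f a = f a * f c
    rw [← map_mul, ← map_mul, Subgroup.mem_centralizer_iff.mp hc a ha]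
  have h3 : (C.map f).index = C.index :=
    Subgroup.index_map_eq C (QuotientGroup.mk'_surjective _) (by rwa [QuotientGroup.ker_mk'])
  have h4 := (C.map f).card_mul_index
  rw [h3, ← Subgroup.index_eq_card] at h4
  have h5 := (Subgroup.zpowers t).card_mul_index
  rw [Nat.card_zpowers, ht, ← h4, ← C.card_mul_index, ← mul_assoc] at h5
  have := Nat.eq_of_mul_eq_mul_right (Nat.pos_of_ne_zero C.index_ne_zero_of_finite) h5
  omega

end Cfsg.Agent.S1236
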