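import Cfsg.Statements.S1238
import Cfsg.Agent.Lib.Block.CentreFreeTwo.Main
import Cfsg.Agent.Lib.Block.CentreFreeTwo.Model
import Cfsg.Agent.Lib.Fus.GroupSystem
-- import your own Cfsg.Agent.* helpers here

set_option autoImplicit false
open Cfsg

namespace Cfsg.Agent.S1238

/-- Let G be a finite group of 2-rank 2 (a Klein four-subgroup but no elementary abelian subgroup of order 8) which is fusion simple: G has no subgroup of index 2 and no isolated involution. Let S be a Sylow 2-subgroup. Then S is dihedral, quasi-dihedral, wreathed, isomorphic to Z_{2^n} × Z_{2^n} for some n ≥ 2, or isomorphic to a Sylow 2-subgroup of PSU(3) over the field with 16 elements. -/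
theorem result {G : Type*} [Group G] [Finite G] (h2 : Cfsg.PRankLE 2 2 G) (h1 : ¬ Cfsg.PRankLE 2 1 G) (hidx : ∀ H : Subgroup G, H.index ≠ 2) (hiso : ∀ z : G, ¬ Cfsg.IsIsolatedInvolution z) (S : Sylow 2 G) {F : Type*} [Field F] [Fintype F] (hF : Fintype.card F = 16) (P : Sylow 2 (Cfsg.PSU 3 F 4)) : (∃ m : ℕ, 2 ≤ m ∧ Nonempty ((S : Subgroup G) ≃* DihedralGroup m)) ∨ Cfsg.IsQuasiDihedral (S : Subgroup G) ∨ Cfsg.IsWreathed (S : Subgroup G) ∨ (∃ n : ℕ, 2 ≤ n ∧ Nonempty ((S : Subgroup G) ≃* Multiplicative (ZMod (2 ^ n) × ZMod (2 ^ n)))) ∨ Nonempty ((S : Subgroup G) ≃* (P : Subgroup (Cfsg.PSU 3 F 4))) := by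
  haveI : Fact (Nat.Prime 2) := ⟨Nat.prime_two⟩
  have _ := hidx
  -- conjugate 2-subgroups into `S`
  have hsyl : ∀ A : Subgroup G, IsPGroup 2 A → ∃ g : G, ∀ a ∈ A, g * a * g⁻¹ ∈ (S : Subgroup G) := by
    intro A hA
    obtain ⟨g, -, hg⟩ := (Cfsg.Agent.Fus.isSylowOf_top S).exists_conj_le hA le_top
    exact ⟨g, fun a ha => hg ⟨a, ha, rfl⟩⟩
  have hr2 : Cfsg.PRankAtLeast 2 2 ↥(S : Subgroup G) := by
    obtain ⟨E, hEc, hE2, hEcard⟩ : ∃ E : Subgroup G, IsMulCommutative E ∧ (∀ a ∈ E, a ^ 2 = 1) ∧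
        2 < Nat.card E := by
      by_contra hno
      apply h1
      intro E hEc hE2
      by_contra hlt
      exact hno ⟨E, hEc, hE2, by rw [pow_one] at hlt; omega⟩
    have hE : IsPGroup 2 E := fun a => ⟨1, Subtype.ext (by simpa using hE2 _ a.2)⟩
    obtain ⟨g, hg⟩ := hsyl E hE
    let f : E →* ↥(S : Subgroup G) :=
      ((MulAut.conj g).toMonoidHom.comp E.subtype).codRestrict _ fun a => hg _ a.2
    have hf : Function.Injective f := fun a b hab =>
      Subtype.ext ((MulAut.conj g).injective (congrArg Subtype.val hab))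
    refine ⟨f.range, ⟨⟨?_⟩⟩, ?_, ?_⟩
    · rintro ⟨_, a, rfl⟩ ⟨_, b, rfl⟩
      exact Subtype.ext (show f a * f b = f b * f a by rw [← map_mul, ← map_mul, hEc.is_comm.comm a b])
    · rintro _ ⟨a, rfl⟩
      rw [← map_pow, show a ^ 2 = 1 from Subtype.ext (by simpa using hE2 _ a.2), map_one]
    · rw [← Nat.card_congr (MonoidHom.ofInjective hf).toEquiv]
      obtain ⟨j, hj⟩ := IsPGroup.iff_card.1 hE
      rw [hj] at hEcard ⊢
      refine Nat.pow_le_pow_right two_pos ?_
      by_contra hlt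
      have := Nat.pow_le_pow_right two_pos (show j ≤ 1 by omega)
      omega
  have hr3 : ¬ Cfsg.PRankAtLeast 2 3 ↥(S : Subgroup G) := by
    rintro ⟨A, hAc, hA2, hA⟩
    have h := h2 (A.map (S : Subgroup G).subtype) ⟨⟨?_⟩⟩ ?_
    · rw [Subgroup.card_map_of_injective (Subgroup.subtype_injective _)] at h
      omega
    · rintro ⟨_, a, ha, rfl⟩ ⟨_, b, hb, rfl⟩
      have h' := congrArg (fun x : A => ((x : ↥(S : Subgroup G)) : G)) (hAc.is_comm.comm ⟨a, ha⟩ ⟨b, hb⟩)
      exact Subtype.ext h'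
    · rintro _ ⟨a, ha, rfl⟩
      rw [← map_pow, hA2 a ha, map_one]
  -- the centre is trivial
  have hZ : (Cfsg.groupFusionSystem (S : Subgroup G)).center = ⊥ := by
    by_contra hne
    obtain ⟨hZS, hext⟩ := Cfsg.Agent.Fus.isCentral_center (Cfsg.groupFusionSystem (S : Subgroup G))
    obtain ⟨x, hx, hx1⟩ := (Subgroup.bot_or_exists_ne_one _).resolve_left hne
    obtain ⟨k, hk⟩ := (IsPGroup.iff_orderOf.1 (S.2.to_le hZS)) ⟨x, hx⟩
    rw [← Subgroup.orderOf_coe] at hk
    obtain ⟨j, rfl⟩ : ∃ j, k = j + 1 := ⟨k - 1, by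
      rcases k with _ | k
      · exact absurd (orderOf_eq_one_iff.1 hk) hx1
      · rfl⟩
    obtain ⟨z, hzdef⟩ : ∃ z, z = x ^ 2 ^ j := ⟨_, rfl⟩
    have hzZ := pow_mem hx (2 ^ j)
    rw [← hzdef] at hzZ
    have hzo : orderOf z = 2 := by
      rw [hzdef, orderOf_pow_of_dvd (by positivity) ⟨2, by rw [hk, pow_succ]⟩, hk, pow_succ,
        Nat.mul_div_cancel_left _ (by positivity)]
    have hfix : ∀ g : G, g * z * g⁻¹ ∈ (S : Subgroup G) → g * z * g⁻¹ = z := by
      intro g hg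
      have hzS : Subgroup.zpowers z ≤ (S : Subgroup G) := Subgroup.zpowers_le.2 (hZS hzZ)
      have hφ : Cfsg.conjHom (Subgroup.zpowers z) g ∈
          (Cfsg.groupFusionSystem (S : Subgroup G)).Hom (Subgroup.zpowers z) := by
        refine ⟨hzS, ?_, g, fun y => rfl⟩
        rintro ⟨_, i, rfl⟩
        show g * z ^ i * g⁻¹ ∈ (S : Subgroup G)
        rw [← conj_zpow]
        exact zpow_mem hg i
      obtain ⟨ψ, -, hψ1, hψ2⟩ := hext _ _ hφ
      have e1 := hψ1 ⟨z, Subgroup.mem_zpowers z⟩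
      have e2 := hψ2 ⟨z, hzZ⟩
      exact e1.symm.trans e2
    refine hiso z ⟨hzo, fun g hc => ?_⟩
    have hz2 : z * z = 1 := by rw [← pow_two, ← hzo, pow_orderOf_eq_one]
    have hy2 : g * z * g⁻¹ * (g * z * g⁻¹) = 1 := by
      rw [show g * z * g⁻¹ * (g * z * g⁻¹) = g * (z * z) * g⁻¹ by group, hz2, mul_one, mul_inv_cancel]
    let A : Subgroup G :=
      { carrier := {u | u = 1 ∨ u = z ∨ u = g * z * g⁻¹ ∨ u = z * (g * z * g⁻¹)}
        one_mem' := Or.inl rfl
        mul_mem' := by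
          rintro a b (ha | ha | ha | ha) (hb | hb | hb | hb) <;> rw [ha, hb] <;>
            simp only [Set.mem_ofPred_eq, one_mul, mul_one, hz2, hy2, true_or, or_true, ← mul_assoc z z,
              mul_assoc z (g * z * g⁻¹) (g * z * g⁻¹), ← hc.eq, mul_assoc z (g * z * g⁻¹) z,
              mul_assoc z (g * z * g⁻¹) (z * (g * z * g⁻¹)), ← mul_assoc (g * z * g⁻¹) z]
        inv_mem' := by
          rintro a (ha | ha | ha | ha) <;> rw [ha]
          · exact Or.inl inv_one
          · exact Or.inr (Or.inl (inv_eq_of_mul_eq_one_right hz2))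
          · exact Or.inr (Or.inr (Or.inl (inv_eq_of_mul_eq_one_right hy2)))
          · refine Or.inr (Or.inr (Or.inr ?_))
            rw [mul_inv_rev, inv_eq_of_mul_eq_one_right hz2, inv_eq_of_mul_eq_one_right hy2, hc.eq] }
    have hA : IsPGroup 2 A := by
      rintro ⟨a, ha⟩
      refine ⟨1, Subtype.ext ?_⟩
      rw [SubgroupClass.coe_pow, pow_one, pow_two]
      rcases ha with rfl | rfl | rfl | rfl
      · exact one_mul 1
      · exact hz2
      · exact hy2
      · have key : ∀ a b : G, a * a = 1 → b * b = 1 → a * b = b * a → a * b * (a * b) = 1 :=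
          fun a b ha hb hab => by
            rw [show a * b * (a * b) = a * (b * a) * b by group, ← hab,
              show a * (a * b) * b = a * a * (b * b) by group, ha, hb, mul_one]
        exact key _ _ hz2 hy2 hc.eq
    obtain ⟨h, hh⟩ := hsyl A hA
    have e1 := hfix h (hh z (Or.inr (Or.inl rfl)))
    have e2 := hfix (h * g) (by
      have := hh _ (Or.inr (Or.inr (Or.inl rfl)))
      rwa [show h * g * z * (h * g)⁻¹ = h * (g * z * g⁻¹) * h⁻¹ by group])
    refine (MulAut.conj h).injective ?_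
    show h * (g * z * g⁻¹) * h⁻¹ = h * z * h⁻¹
    rw [e1, show h * (g * z * g⁻¹) * h⁻¹ = h * g * z * (h * g)⁻¹ by group, e2]
  rcases Cfsg.Agent.Block.CentreFreeTwo.list S.2 (Cfsg.Agent.Fus.isSaturated_group S) ⟨hr2, hr3⟩ hZ with
    h | h | h | ⟨n, hn, ⟨e⟩⟩ | ⟨ψ, hU⟩
  · exact Or.inl h
  · exact Or.inr (Or.inl h)
  · exact Or.inr (Or.inr (Or.inl h))
  · rcases Nat.lt_or_ge n 2 with hn2 | hn2
    · obtain rfl : n = 1 := by omega
      haveI : IsKleinFour ↥(S : Subgroup G) := by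
        refine ⟨?_, ?_⟩
        · rw [Cfsg.Agent.Block.CentreFreeTwo.card_of_homocyclic e]; norm_num
        · obtain ⟨A, -, hA2, hA⟩ := hr2
          have hT : A = ⊤ := Subgroup.eq_top_of_card_eq A (le_antisymm (Subgroup.card_le_card_group A)
            (by rw [Cfsg.Agent.Block.CentreFreeTwo.card_of_homocyclic e]; norm_num at hA ⊢; omega))
          haveI : Nontrivial ↥(S : Subgroup G) := Finite.one_lt_card_iff_nontrivial.1 (by
            rw [Cfsg.Agent.Block.CentreFreeTwo.card_of_homocyclic e]; norm_num)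
          refine (Nat.dvd_prime Nat.prime_two).1 (Monoid.exponent_dvd_of_forall_pow_eq_one
            fun a => hA2 a (hT ▸ Subgroup.mem_top a)) |>.resolve_left ?_
          rw [Monoid.exp_eq_one_iff]
          exact not_subsingleton _
      exact Or.inl ⟨2, le_rfl, IsKleinFour.nonempty_mulEquiv⟩
    · exact Or.inr (Or.inr (Or.inr (Or.inl ⟨n, hn2, ⟨e⟩⟩)))
  · exact Or.inr (Or.inr (Or.inr (Or.inr (Cfsg.Agent.Block.CentreFreeTwo.equiv_sylow hU hF P))))

end Cfsg.Agent.S1238
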