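import Cfsg.Statements.S1239
import Cfsg.Agent.Lib.Invol.QDWCentralizer
import Cfsg.Agent.Lib.Invol.CenterWeaklyClosed
import Cfsg.Agent.Lib.Invol.IsolatedElement
-- import your own Cfsg.Agent.* helpers here

set_option autoImplicit false
open Cfsg

namespace Cfsg.Agent.S1239

/-- Let X be a finite group whose Sylow 2-subgroup S is quasi-dihedral or wreathed, and suppose some involution of S is isolated in X. Then the product of the largest normal odd-order subgroup O(X) with the centre of S is normal in X. -/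
theorem result {X : Type*} [Group X] [Finite X] (S : Sylow 2 X) (hS : Cfsg.IsQuasiDihedral (S : Subgroup X) ∨ Cfsg.IsWreathed (S : Subgroup X)) (z : X) (hzS : z ∈ S) (hz : Cfsg.IsIsolatedInvolution z) : (Cfsg.oddCore X ⊔ (Subgroup.center (S : Subgroup X)).map (S : Subgroup X).subtype).Normal := by
  have : Fact (Nat.Prime 2) := ⟨Nat.prime_two⟩
  have hOn : (Cfsg.oddCore X).Normal := Grp.pPrimeCore_isNormal
  have hiso : Cfsg.IsIsolated z := hz.2
  have hcen := Invol.isolated_central hiso S.isPGroup' hzS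
  have key : ∀ w ∈ (Subgroup.center (S : Subgroup X)).map (S : Subgroup X).subtype, Fus.IsoElt S w := by
    rcases hS with hS | hS
    · obtain ⟨n, a, b, h⟩ := Invol.exists_qd hS
      intro w hw
      rw [Invol.QD.center_eq h, MonoidHom.map_zpowers] at hw
      obtain ⟨k, rfl⟩ := Subgroup.mem_zpowers_iff.mp hw
      have hzz : (⟨z, hzS⟩ : ↥(S : Subgroup X)) ∈ Subgroup.center ↥(S : Subgroup X) :=
        Subgroup.mem_center_iff.mpr fun s => Subtype.ext (hcen s s.2).eq.symm
      have hzo : orderOf (⟨z, hzS⟩ : ↥(S : Subgroup X)) = 2 := by rw [Subgroup.orderOf_mk, hz.1]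
      have he : (⟨z, hzS⟩ : ↥(S : Subgroup X)) = a ^ (2 * Invol.qq n) := by
        rw [Invol.QD.center_eq h, Subgroup.mem_zpowers_iff] at hzz
        obtain ⟨j, hj⟩ := hzz
        rcases Int.even_or_odd j with ⟨i, rfl⟩ | ⟨i, rfl⟩
        · exfalso
          rw [← two_mul, zpow_mul, zpow_two, ← pow_two, orderOf_dvd_iff_pow_eq_one.mp h.orderOf_z.dvd,
            one_zpow] at hj
          rw [← hj] at hzo; simp at hzo
        · rw [← hj, zpow_add, zpow_one, zpow_mul, zpow_two, ← pow_two,
            orderOf_dvd_iff_pow_eq_one.mp h.orderOf_z.dvd, one_zpow, one_mul]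
      rw [show (Subgroup.subtype (S : Subgroup X)) (a ^ (2 * Invol.qq n)) = z from
        (congrArg Subtype.val he).symm]
      refine ⟨zpow_mem hzS _, fun g hg => ?_⟩
      rcases Int.even_or_odd k with ⟨i, rfl⟩ | ⟨i, rfl⟩
      · rw [← two_mul, zpow_mul, zpow_two, ← pow_two, orderOf_dvd_iff_pow_eq_one.mp hz.1.dvd, one_zpow]
        group
      · rw [zpow_add, zpow_one, zpow_mul, zpow_two, ← pow_two, orderOf_dvd_iff_pow_eq_one.mp hz.1.dvd,
          one_zpow, one_mul] at hg ⊢
        exact Invol.isolated_eq hiso S.isPGroup' hzS hg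
    · obtain ⟨n, a, b, c, h⟩ := Invol.exists_wr hS
      have hzw : (⟨z, hzS⟩ : ↥(S : Subgroup X)) = h.el (Invol.hh n) (Invol.hh n) := by
        rcases h.involution_cases (show orderOf (⟨z, hzS⟩ : ↥(S : Subgroup X)) = 2 by
          rw [Subgroup.orderOf_mk, hz.1]) with he | he | he | ⟨i, j, hij, he⟩
        · exact he
        all_goals exfalso
        all_goals have hzz : (⟨z, hzS⟩ : ↥(S : Subgroup X)) ∈ Subgroup.center ↥(S : Subgroup X) :=
          Subgroup.mem_center_iff.mpr fun s => Subtype.ext (hcen s s.2).eq.symm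
        all_goals rw [he] at hzz
        · obtain ⟨d, hd⟩ := h.mem_center_el.mp hzz
          have := h.hh_pos
          rcases lt_or_ge 0 d with hd0 | hd0 <;> nlinarith
        · obtain ⟨d, hd⟩ := h.mem_center_el.mp hzz
          have := h.hh_pos
          rcases le_or_gt 0 d with hd0 | hd0 <;> nlinarith
        · have h1 := Subgroup.mem_center_iff.mp hzz (h.el 1 0)
          rw [← mul_assoc, h.el_mul, h.el_z_mul_el, mul_left_inj, h.el_eq] at h1
          obtain ⟨⟨d, hd⟩, -⟩ := h1
          obtain ⟨r, hr⟩ := h.hh_even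
          have h2 : (2 : ℤ) ∣ 1 := ⟨2 * r * d, by rw [hr] at hd; linarith⟩
          norm_num at h2
      have hU := h.automizer_base.1.resolve_right fun h6 => by
        obtain ⟨g, -, hg⟩ := h.automizer_base.2.1 h6
        have h1 := Invol.isolated_eq hiso S.isPGroup' hzS (g := g⁻¹) ?_
        · rw [show z = h.gE (Invol.hh n) (Invol.hh n) from congrArg Subtype.val hzw, ← hg] at h1
          have h2 : h.gE (Invol.hh n) 0 = h.gE (Invol.hh n) (Invol.hh n) := by
            rw [← hg, ← h1]; group
          obtain ⟨-, d, hd⟩ := h.el_eq.mp (Subtype.ext h2)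
          have := h.hh_pos
          rcases le_or_gt 0 d with hd0 | hd0 <;> nlinarith
        · rw [show z = h.gE (Invol.hh n) (Invol.hh n) from congrArg Subtype.val hzw, ← hg]
          have h0 := (h.el (Invol.hh n) 0).2
          convert h0 using 1
          group
      intro w hw
      exact ⟨Subgroup.map_subtype_le _ hw, fun g hg => h.center_isolated (dvd_zero 2) hU hw hg⟩
  refine ⟨fun d hd g => ?_⟩
  obtain ⟨o, ho, w, hw, rfl⟩ := Subgroup.mem_sup_of_normal_left.mp hd
  have h1 := Fus.IsoElt.commutator_mem _ X rfl S w (key w hw) g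
  rw [show g * (o * w) * g⁻¹ = (g * o * g⁻¹) * (w * g * w⁻¹ * g⁻¹)⁻¹ * w by group]
  exact mul_mem (mul_mem (Subgroup.mem_sup_left (hOn.conj_mem o ho g))
    (Subgroup.mem_sup_left (inv_mem h1))) (Subgroup.mem_sup_right hw)

end Cfsg.Agent.S1239
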