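import Cfsg.Statements.S1243
import Mathlib
import Cfsg.Agent.Lib.Invol.Closed
-- import your own Cfsg.Agent.* helpers here

set_option autoImplicit false
open Cfsg

namespace Cfsg.Agent.S1243

/-- Let T be a Sylow p-subgroup of the finite group G and W ≤ T a subgroup weakly closed in T. If d and g d g⁻¹ both centralize W, then g d g⁻¹ = h d h⁻¹ for some h ∈ N_G(W). -/
theorem result {G : Type*} [Group G] [Finite G] {p : ℕ} [Fact p.Prime] (T : Sylow p G) (W : Subgroup G) (hW : Cfsg.IsWeaklyClosed W (T : Subgroup G)) (d g : G) (hd : d ∈ Subgroup.centralizer (W : Set G)) (hgd : g * d * g⁻¹ ∈ Subgroup.centralizer (W : Set G)) : ∃ h ∈ Subgroup.normalizer (W : Set G), h * d * h⁻¹ = g * d * g⁻¹ := by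
  set C := Subgroup.centralizer ({d} : Set G) with hC
  have hWC : W ≤ C := fun w hw =>
    Subgroup.mem_centralizer_singleton_iff.mpr (Subgroup.mem_centralizer_iff.mp hd w hw)
  have hWgC : W.map (MulAut.conj g⁻¹).toMonoidHom ≤ C := by
    rintro _ ⟨w, hw, rfl⟩
    have h := Subgroup.mem_centralizer_iff.mp hgd w hw
    rw [Subgroup.mem_centralizer_singleton_iff]
    change g⁻¹ * w * g⁻¹⁻¹ * d = d * (g⁻¹ * w * g⁻¹⁻¹)
    calc g⁻¹ * w * g⁻¹⁻¹ * d = g⁻¹ * (w * (g * d * g⁻¹)) * g := by group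
      _ = g⁻¹ * (g * d * g⁻¹ * w) * g := by rw [h]
      _ = d * (g⁻¹ * w * g⁻¹⁻¹) := by group
  have hp := Invol.weaklyClosed_isPGroup hW
  obtain ⟨R, hR⟩ := (hp.comap_subtype (K := C)).exists_le_sylow
  obtain ⟨c, hc⟩ := Invol.exists_conj_subset_sylow ((hp.map (MulAut.conj g⁻¹).toMonoidHom).comap_subtype (K := C)) R
  have h1 : W.map (MulAut.conj ((c : G) * g⁻¹)).toMonoidHom = W := by
    refine Invol.weaklyClosed_eq_self hW (R.isPGroup'.map C.subtype)
      (fun w hw => ⟨⟨w, hWC hw⟩, hR hw, rfl⟩) ?_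
    rw [← Invol.map_conj_map_conj]
    rintro _ ⟨v, hv, rfl⟩
    exact ⟨_, hc ⟨v, hWgC hv⟩ hv, rfl⟩
  refine ⟨g * (c : G)⁻¹, ?_, ?_⟩
  · have := inv_mem (Invol.mem_normalizer_of_map_eq h1)
    simpa using this
  · have hcd : (c : G)⁻¹ * d * (c : G) = d := by
      rw [mul_assoc, ← Subgroup.mem_centralizer_singleton_iff.mp c.2, inv_mul_cancel_left]
    calc g * (c : G)⁻¹ * d * (g * (c : G)⁻¹)⁻¹ = g * ((c : G)⁻¹ * d * c) * g⁻¹ := by group
      _ = g * d * g⁻¹ := by rw [hcd]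

end Cfsg.Agent.S1243
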