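import Cfsg.Statements.S1246
import Cfsg.Agent.Lib.Fus.CharTwo
-- import your own Cfsg.Agent.* helpers here

set_option autoImplicit false
open Cfsg

namespace Cfsg.Agent.S1246

theorem charP_of_gfitting {H : Type*} [Group H] [Finite H] {p : ℕ}
    (h : IsPGroup p (Cfsg.generalizedFittingSubgroup H)) : Invol.CharP' p H := by
  haveI : (Cfsg.fittingSubgroup H).Normal := Grp.fittingSubgroup_isNormal
  have hn : (Cfsg.generalizedFittingSubgroup H).Normal := by
    rw [Cfsg.generalizedFittingSubgroup]; infer_instance
  have h1 : Cfsg.generalizedFittingSubgroup H ≤ Cfsg.pCore p H := Grp.le_pCore hn h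
  exact (Subgroup.centralizer_le (SetLike.coe_subset_coe.2 h1)).trans
    (Grp.centralizer_gfitting_le.trans h1)

/-- Let V ≤ U be p-subgroups of the finite group G. If the generalized Fitting subgroup of C_G(V) is a p-group, then so is that of C_G(U). -/
theorem result {G : Type*} [Group G] [Finite G] {p : ℕ} [Fact p.Prime] (U V : Subgroup G) (hVU : V ≤ U) (hU : IsPGroup p U) (hV : IsPGroup p ↥(Cfsg.generalizedFittingSubgroup ↥(Subgroup.centralizer (V : Set G)))) : IsPGroup p ↥(Cfsg.generalizedFittingSubgroup ↥(Subgroup.centralizer (U : Set G))) := by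
  rw [Fus.generalizedFittingSubgroup_eq_of_charP (Fus.charP_centralizer_mono hU hVU (charP_of_gfitting hV))]
  exact Grp.pCore_isPGroup

end Cfsg.Agent.S1246
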