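import Cfsg.Prelude
import Cfsg.Agent.Lib.Invol.BenderPushing
-- import your own Cfsg.Agent.* helpers here

set_option autoImplicit false
open Cfsg

open scoped Pointwise commutatorElement

namespace Cfsg.Agent.S1247

/-- Let G be a non-abelian finite simple group, A a maximal subgroup, F = F*(A) its generalized Fitting subgroup (viewed in G), and S ≤ F a subgroup subnormal in F with C_F(S) ≤ S. Let B be any subgroup of G containing S. Then (a) for every prime q not dividing |F(A)|, O_q(B) ∩ A = 1; and (b) for every prime p dividing |F(A)|, O_p(B) commutes elementwise with the subgroup of F generated by its elements of order prime to p. -/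
theorem result {G : Type*} [Group G] [Finite G] [IsSimpleGroup G] (hna : ¬ IsMulCommutative G) (A : Subgroup G) (hA : IsCoatom A) (S : Subgroup G) (hSF : S ≤ (Cfsg.generalizedFittingSubgroup ↥A).map A.subtype) (hSsn : (S.subgroupOf ((Cfsg.generalizedFittingSubgroup ↥A).map A.subtype)).IsSubnormal) (hSC : (Cfsg.generalizedFittingSubgroup ↥A).map A.subtype ⊓ Subgroup.centralizer (S : Set G) ≤ S) (B : Subgroup G) (hSB : S ≤ B) : (∀ q : ℕ, q.Prime → ¬ q ∣ Nat.card (Cfsg.fittingSubgroup ↥A) → (Cfsg.pCore q ↥B).map B.subtype ⊓ A = ⊥) ∧ (∀ p : ℕ, p.Prime → p ∣ Nat.card (Cfsg.fittingSubgroup ↥A) → ∀ x ∈ (Cfsg.pCore p ↥B).map B.subtype, ∀ y ∈ (Cfsg.pResidual p ↥(Cfsg.generalizedFittingSubgroup ↥A)).map ((Cfsg.generalizedFittingSubgroup ↥A).subtype) , x * (A.subtype y) = (A.subtype y) * x) := by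
  obtain rfl | - := eq_or_ne A ⊤
  · exact absurd rfl hA.1
  have hmax : ∀ Z : Subgroup G, Z ≠ ⊥ → Z ≤ A → A ≤ Subgroup.normalizer (Z : Set G) →
      Subgroup.normalizer (Z : Set G) = A := by
    intro Z hZ hZA hle
    rcases hA.le_iff.mp hle with h | h
    · exfalso
      haveI : Z.Normal := Subgroup.normalizer_eq_top_iff.mp h
      rcases ‹IsSimpleGroup G›.eq_bot_or_eq_top_of_normal Z inferInstance with e | e
      · exact hZ e
      · exact hA.1 (top_le_iff.mp (e ▸ hZA))
    · exact h
  refine ⟨fun q hq hdvd => Invol.BenderPush.core_inf_eq_bot A S hSF hSsn hSC B hSB hq hdvd, fun p hp hdvd x hx y hy => ?_⟩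
  haveI := Fact.mk hp
  have h := Invol.BenderPush.core_commutes A S hSF hSsn hSC B hSB hmax hp hdvd hx
  refine (Subgroup.mem_centralizer_iff.mp h (A.subtype y) ?_).symm
  rw [Invol.WCProduct.res_eq_closure]
  have h2 := Subgroup.mem_map_of_mem A.subtype hy
  rw [Subgroup.map_map, Cfsg.pResidual, MonoidHom.map_closure] at h2
  refine Subgroup.closure_mono ?_ h2
  rintro _ ⟨g, hg, rfl⟩
  refine ⟨⟨_, g.2, rfl⟩, ?_⟩
  simpa [Subgroup.orderOf_coe] using hg

end Cfsg.Agent.S1247
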