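import Cfsg.Statements.S1249
import Mathlib
import Cfsg.Agent.Lib.Invol.Closed
-- import your own Cfsg.Agent.* helpers here

set_option autoImplicit false
open Cfsg

namespace Cfsg.Agent.S1249

/-- Let P and Q be Sylow p-subgroups of the finite group G both containing the subgroup A. If A is strongly closed in P, then A is strongly closed in Q. -/
theorem result {G : Type*} [Group G] [Finite G] {p : ℕ} [Fact p.Prime] (P Q : Sylow p G) (A : Subgroup G) (hAQ : A ≤ Q) (hA : Cfsg.IsStronglyClosed A (P : Subgroup G)) : Cfsg.IsStronglyClosed A (Q : Subgroup G) := by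
  obtain ⟨x, hx⟩ := MulAction.exists_smul_eq G P Q
  have hmem : ∀ w : G, w ∈ (Q : Subgroup G) ↔ x⁻¹ * w * x ∈ (P : Subgroup G) := by
    intro w
    rw [← hx, Sylow.coe_subgroup_smul, Subgroup.mem_pointwise_smul_iff_inv_smul_mem]
    simp
  -- conjugation by `x⁻¹` maps `A` into, hence onto, itself
  have hle : A.map (MulAut.conj x⁻¹).toMonoidHom ≤ A := by
    rintro _ ⟨a, ha, rfl⟩
    refine hA.2 a ha x⁻¹ ?_
    simpa using (hmem a).mp (hAQ ha)
  have heq : A.map (MulAut.conj x⁻¹).toMonoidHom = A :=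
    Subgroup.eq_of_le_of_card_ge hle (Subgroup.card_map_of_injective (MulAut.conj x⁻¹).injective).ge
  refine ⟨hAQ, fun a ha g hg => ?_⟩
  have h := hA.2 a ha (x⁻¹ * g) (by simpa [mul_assoc] using (hmem _).mp hg)
  rw [← heq, Invol.mem_map_conj] at h
  simpa [mul_assoc] using h

end Cfsg.Agent.S1249
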