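import Cfsg.Statements.S1253
import Cfsg.Agent.Lib.Invol.IsolatedFactor
-- import your own Cfsg.Agent.* helpers here

set_option autoImplicit false
open Cfsg

namespace Cfsg.Agent.S1253

open scoped Pointwise

theorem card_factor {G : Type*} [Group G] [Finite G] {z : G} (hz : z * z = 1) (P : Subgroup G)
    (hP : Odd (Nat.card P)) (hzP : z ∈ Subgroup.normalizer (P : Set G)) :
    Nat.card P = Nat.card ↥(P ⊓ Subgroup.centralizer ({z} : Set G)) *
      Nat.card {x : G // x ∈ P ∧ z * x * z⁻¹ = x⁻¹} := by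
  have hodd : ∀ x ∈ P, Odd (orderOf x) := fun x hx =>
    Odd.of_dvd_nat hP (by rw [← Subgroup.orderOf_mk x hx]; exact orderOf_dvd_natCard _)
  have hzi : z⁻¹ = z := inv_eq_of_mul_eq_one_right hz
  rw [mul_comm, ← Nat.card_prod]
  symm
  refine Nat.card_eq_of_bijective (fun p => ⟨(p.1 : G) * p.2, mul_mem p.1.2.1 p.2.2.1⟩) ⟨?_, ?_⟩
  · rintro ⟨⟨k, hk, hki⟩, ⟨c, hcP, hc⟩⟩ ⟨⟨l, hl, hli⟩, ⟨d, hdP, hd⟩⟩ h
    simp only [Subtype.mk.injEq] at h
    have hc' := Subgroup.mem_centralizer_singleton_iff.1 hc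
    have hd' := Subgroup.mem_centralizer_singleton_iff.1 hd
    obtain rfl : k = l := Invol.inverted_inj (hodd k hk) (hodd l hl) hki hli <| by
      calc k * z * k⁻¹ = (k * c) * z * (k * c)⁻¹ := by
            rw [mul_inv_rev, mul_assoc k c z, hc', ← mul_assoc k z c]; group
        _ = l * z * l⁻¹ := by
            rw [h, mul_inv_rev, mul_assoc l d z, hd', ← mul_assoc l z d]; group
    simp only [mul_right_inj] at h
    subst h
    rfl
  · rintro ⟨x, hx⟩
    obtain ⟨j, hj⟩ := id hP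
    set w := x * (z * x⁻¹ * z⁻¹) with hw
    have hwP : w ∈ P := mul_mem hx ((Subgroup.mem_normalizer_iff.1 hzP _).1 (inv_mem hx))
    set k := w ^ (j + 1) with hk
    have hwi : z * w * z⁻¹ = w⁻¹ := by
      calc z * w * z⁻¹ = z * x * z⁻¹ * ((z * z) * x⁻¹ * (z * z)⁻¹) := by rw [hw]; group
        _ = w⁻¹ := by rw [hz, hw]; group
    have hki : z * k * z⁻¹ = k⁻¹ := by rw [hk, ← conj_pow, hwi, inv_pow]
    have hkk : k * k = w := by
      rw [hk, ← pow_add, show j + 1 + (j + 1) = 2 * j + 1 + 1 by ring, pow_succ, ← hj,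
        orderOf_dvd_iff_pow_eq_one.1 (by rw [← Subgroup.orderOf_mk w hwP]; exact orderOf_dvd_natCard _),
        one_mul]
    have hc : k⁻¹ * x ∈ Subgroup.centralizer ({z} : Set G) := by
      rw [Subgroup.mem_centralizer_singleton_iff]
      have e : k * z * k⁻¹ = x * z * x⁻¹ := by
        rw [Invol.conj_of_inverted hki, hkk, hw, hzi]
        simp [mul_assoc, hz]
      calc k⁻¹ * x * z = k⁻¹ * (x * z * x⁻¹) * x := by group
        _ = z * (k⁻¹ * x) := by rw [← e]; group
    exact ⟨⟨⟨k, pow_mem hwP _, hki⟩, ⟨_, show k⁻¹ * x ∈ P from mul_mem (inv_mem (pow_mem hwP _)) hx, hc⟩⟩,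
      Subtype.ext (mul_inv_cancel_left k x)⟩

/-- Let z be an isolated involution of the finite group G with centralizer C, p an odd prime and P a Sylow p-subgroup of G normalized by z. Then P ∩ C has p-power-free index in C (it is a Sylow p-subgroup of C), and |P : C_P(z)| equals the number of elements x ∈ P with z x z⁻¹ = x⁻¹. -/
theorem result {G : Type*} [Group G] [Finite G] (z : G) (hz : Cfsg.IsIsolatedInvolution z) {p : ℕ} [Fact p.Prime] (hp : p ≠ 2) (P : Sylow p G) (hzP : z ∈ Subgroup.normalizer ((P : Subgroup G) : Set G)) : ¬ p ∣ ((P : Subgroup G) ⊓ Subgroup.centralizer ({z} : Set G)).relIndex (Subgroup.centralizer ({z} : Set G)) ∧ ((P : Subgroup G) ⊓ Subgroup.centralizer ({z} : Set G)).relIndex (P : Subgroup G) = Nat.card {x : G // x ∈ P ∧ z * x * z⁻¹ = x⁻¹} := by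
  set C := Subgroup.centralizer ({z} : Set G) with hC
  obtain ⟨n, hn⟩ := IsPGroup.iff_card.1 P.isPGroup'
  have hPodd : Odd (Nat.card (P : Subgroup G)) := hn ▸ ((Fact.out : p.Prime).odd_of_ne_two hp).pow
  have hzz := Invol.mul_self_of_orderOf_two hz.1
  constructor
  · obtain ⟨T, hT⟩ : ∃ T : Sylow p C, ((P : Subgroup G) ⊓ C).subgroupOf C ≤ (T : Subgroup C) :=
      ((P.isPGroup'.to_le inf_le_left).of_equiv
        (Subgroup.subgroupOfEquivOfLe inf_le_right).symm).exists_le_sylow
    set T' := (T : Subgroup C).map C.subtype with hT'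
    have hzT : z ∈ Subgroup.normalizer (T' : Set G) := by
      refine Subgroup.centralizer_le_normalizer _ (Subgroup.mem_centralizer_iff.2 ?_)
      intro t ht
      obtain ⟨t, -, rfl⟩ := ht
      exact Subgroup.mem_centralizer_singleton_iff.1 t.2
    obtain ⟨P', hTP', hzP'⟩ := Invol.exists_isolated_invariant_sylow hz hp (T.isPGroup'.map _) hzT
    obtain ⟨g, hg⟩ := MulAction.exists_smul_eq G P P'
    set N := Subgroup.normalizer ((P : Subgroup G) : Set G) with hN
    have hgz : g⁻¹ * z * g⁻¹⁻¹ ∈ N := by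
      rw [hN, Subgroup.mem_normalizer_iff]
      have hm : ∀ w, w ∈ (P : Subgroup G) ↔ g * w * g⁻¹ ∈ (P' : Subgroup G) := fun w => by
        rw [← hg, Sylow.coe_subgroup_smul, Subgroup.mem_pointwise_smul_iff_inv_smul_mem]
        simp [MulAut.smul_def, mul_assoc]
      intro w
      rw [hm, hm, show g * (g⁻¹ * z * g⁻¹⁻¹ * w * (g⁻¹ * z * g⁻¹⁻¹)⁻¹) * g⁻¹
        = z * (g * w * g⁻¹) * z⁻¹ by group]
      exact Subgroup.mem_normalizer_iff.1 hzP' _
    obtain ⟨k, -, -, hk, hkmem⟩ := Invol.exists_odd_inverted hz g⁻¹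
    have hkN : k ∈ N := (Subgroup.zpowers_le (H := N)).2 (mul_mem hzP hgz) hkmem
    have hcC : g * k ∈ C := by
      rw [hC, Subgroup.mem_centralizer_singleton_iff]
      calc g * k * z = g * (k * z * k⁻¹) * k := by group
        _ = z * (g * k) := by rw [hk]; group
    set c := g * k
    have hcP : ∀ w, w ∈ (P : Subgroup G) ↔ c * w * c⁻¹ ∈ (P' : Subgroup G) := fun w => by
      rw [Subgroup.mem_normalizer_iff.1 hkN w, ← hg, Sylow.coe_subgroup_smul,
        Subgroup.mem_pointwise_smul_iff_inv_smul_mem]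
      simp [c, MulAut.smul_def, mul_assoc]
    have hle : T' ≤ MulAut.conj c • ((P : Subgroup G) ⊓ C) := fun t ht => by
      have htC : t ∈ C := Subgroup.map_subtype_le _ ht
      rw [Subgroup.mem_pointwise_smul_iff_inv_smul_mem]
      simp only [MulAut.smul_def, MulAut.conj_inv_apply]
      refine ⟨(hcP _).2 ?_, show c⁻¹ * t * c ∈ C from mul_mem (mul_mem (inv_mem hcC) htC) hcC⟩
      rw [show c * (c⁻¹ * t * c) * c⁻¹ = t by group]
      exact hTP' ht
    have hcard : Nat.card (T : Subgroup C) ≤ Nat.card (((P : Subgroup G) ⊓ C).subgroupOf C) := by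
      rw [Nat.card_congr (Subgroup.subgroupOfEquivOfLe (inf_le_right (a := (P : Subgroup G)))).toEquiv,
        ← Grp.card_conj_smul c ((P : Subgroup G) ⊓ C),
        ← Subgroup.card_map_of_injective (K := (T : Subgroup C)) C.subtype_injective, ← hT']
      exact Subgroup.card_le_of_le hle
    rw [Subgroup.relIndex, Subgroup.eq_of_le_of_card_ge hT hcard]
    exact T.not_dvd_index
  · have e := card_factor hzz (P : Subgroup G) hPodd hzP
    have e2 := Subgroup.relIndex_mul_relIndex ⊥ ((P : Subgroup G) ⊓ C) (P : Subgroup G) bot_le inf_le_left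
    rw [Subgroup.relIndex_bot_left, Subgroup.relIndex_bot_left, e] at e2
    exact Nat.eq_of_mul_eq_mul_left Nat.card_pos e2

end Cfsg.Agent.S1253
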