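import Cfsg.Prelude
import Cfsg.Agent.Lib.Invol.DihedralNPC
-- import your own Cfsg.Agent.* helpers here

set_option autoImplicit false
open Cfsg

open scoped Pointwise

namespace Cfsg.Agent.S1254

/-- Let X be a finite group whose Sylow 2-subgroup S is dihedral (of order at least 4). Then X has a normal 2-complement if and only if, for every Klein four-subgroup U ≤ S, the normalizer N_X(U) is generated by C_X(U) and N_S(U). -/
theorem result {X : Type*} [Group X] [Finite X] (S : Sylow 2 X) (m : ℕ) (hm : 2 ≤ m) (eS : (S : Subgroup X) ≃* DihedralGroup m) : Cfsg.HasNormalPComplement 2 X ↔ ∀ U : Subgroup X, U ≤ S → IsKleinFour U → Subgroup.normalizer (U : Set X) = Subgroup.centralizer (U : Set X) ⊔ ((S : Subgroup X) ⊓ Subgroup.normalizer (U : Set X)) := by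
  classical
  haveI := Fact.mk Nat.prime_two
  constructor
  · rintro ⟨P, K, hKn, hK⟩ U hUS hU
    haveI := hKn
    obtain ⟨g, hg⟩ := MulAction.exists_smul_eq X P S
    have hgP : (S : Subgroup X) = MulAut.conj g • (P : Subgroup X) := by rw [← hg]; rfl
    have hKS : K ⊔ (S : Subgroup X) = ⊤ := by
      have h0 := congrArg (fun W : Subgroup X => MulAut.conj g • W) hK.sup_eq_top
      simp only [Subgroup.smul_sup] at h0
      rw [Grp.normalizer_le_smul (Subgroup.normalizer_eq_top (H := K)).ge (Subgroup.mem_top g), ← hgP,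
        Grp.normalizer_le_smul (Subgroup.normalizer_eq_top (H := (⊤ : Subgroup X))).ge (Subgroup.mem_top g)] at h0
      exact h0
    have hKS' : K ⊓ (S : Subgroup X) = ⊥ := by
      have h0 := congrArg (fun W : Subgroup X => MulAut.conj g • W) (disjoint_iff.mp hK.disjoint)
      simp only [Subgroup.smul_inf, Subgroup.smul_bot] at h0
      rwa [Grp.normalizer_le_smul (Subgroup.normalizer_eq_top (H := K)).ge (Subgroup.mem_top g), ← hgP] at h0
    refine le_antisymm (fun n hn => ?_) (sup_le (Subgroup.centralizer_le_normalizer _) inf_le_right)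
    obtain ⟨k, hk, s, hs, rfl⟩ := Subgroup.mem_sup_of_normal_left.mp (show n ∈ K ⊔ (S : Subgroup X) by rw [hKS]; trivial)
    have key : ∀ u ∈ U, k * (s * u * s⁻¹) = (s * u * s⁻¹) * k := by
      intro u hu
      have h1 : k * s * u * (k * s)⁻¹ ∈ U := (Subgroup.mem_normalizer_iff.mp hn u).mp hu
      set v := s * u * s⁻¹
      have hv : v ∈ (S : Subgroup X) := mul_mem (mul_mem hs (hUS hu)) (inv_mem hs)
      have h2 : k * v * k⁻¹ * v⁻¹ ∈ K ⊓ (S : Subgroup X) := by
        refine ⟨?_, ?_⟩
        · simpa [mul_assoc] using K.mul_mem hk (hKn.conj_mem k⁻¹ (K.inv_mem hk) v)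
        · have : k * v * k⁻¹ = k * s * u * (k * s)⁻¹ := by simp only [v]; group
          rw [this]
          exact (S : Subgroup X).mul_mem (hUS h1) ((S : Subgroup X).inv_mem hv)
      rw [hKS', Subgroup.mem_bot, mul_inv_eq_one, mul_inv_eq_iff_eq_mul] at h2
      exact h2
    have hsN : s ∈ Subgroup.normalizer (U : Set X) := by
      rw [Grp.mem_normalizer_iff_smul]
      refine Subgroup.eq_of_le_of_card_ge ?_ (by rw [Grp.card_conj_smul])
      rw [← Grp.map_conj_eq_smul]
      rintro _ ⟨u, hu, rfl⟩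
      have h1 : k * s * u * (k * s)⁻¹ ∈ U := (Subgroup.mem_normalizer_iff.mp hn u).mp hu
      have e : k * s * u * (k * s)⁻¹ = s * u * s⁻¹ := by
        calc k * s * u * (k * s)⁻¹ = k * (s * u * s⁻¹) * k⁻¹ := by group
          _ = s * u * s⁻¹ := by rw [key u hu, mul_inv_cancel_right]
      rwa [e] at h1
    refine Subgroup.mul_mem_sup (Subgroup.mem_centralizer_iff.mpr fun w hw => ?_) ⟨hs, hsN⟩
    have hw' : s⁻¹ * w * s⁻¹⁻¹ ∈ U :=
      (Subgroup.mem_normalizer_iff.mp ((Subgroup.normalizer (U : Set X)).inv_mem hsN) w).mp hw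
    have := key _ hw'
    simpa [mul_assoc] using this.symm
  · intro hU
    haveI : NeZero m := ⟨by omega⟩
    obtain ⟨k, hk⟩ := IsPGroup.iff_card.mp S.isPGroup'
    rw [Nat.card_congr eS.toEquiv, DihedralGroup.nat_card] at hk
    have h2 : 2 ∣ m := by
      rcases k with _ | _ | k
      · omega
      · simp at hk; omega
      · exact ⟨2 ^ k, by rw [pow_succ', pow_succ'] at hk; omega⟩
    refine Grp.DihNPC.npc_of_not_fused S h2 eS fun i => ?_
    obtain ⟨h, rfl⟩ : ∃ h, m = h + h := ⟨m / 2, by omega⟩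
    have := Grp.DihNPC.not_fused S (by omega) eS (fun U hUS hK => (hU U hUS hK).le) i
    rwa [show (h + h) / 2 = h by omega]

end Cfsg.Agent.S1254
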