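import Cfsg.Prelude
import Cfsg.Agent.Lib.Invol.DihedralNPC
-- import your own Cfsg.Agent.* helpers here

set_option autoImplicit false
open Cfsg

open scoped Pointwise

namespace Cfsg.Agent.S1255

/-- Let X be a finite group whose Sylow 2-subgroup S is dihedral of order 2m ≥ 4. Then X has no subgroup of index 2 and no isolated involution if and only if either all involutions of X are conjugate, or for every Klein four-subgroup U ≤ S the index |N_X(U) : C_X(U)| equals 3 when |S| = 4 and equals 6 when |S| > 4. -/
theorem result {X : Type*} [Group X] [Finite X] (S : Sylow 2 X) (m : ℕ) (hm : 2 ≤ m) (eS : (S : Subgroup X) ≃* DihedralGroup m) : ((∀ H : Subgroup X, H.index ≠ 2) ∧ (∀ z : X, ¬ Cfsg.IsIsolatedInvolution z)) ↔ ((∀ a b : X, orderOf a = 2 → orderOf b = 2 → IsConj a b) ∨ (∀ U : Subgroup X, U ≤ S → IsKleinFour U → (Subgroup.centralizer (U : Set X)).relIndex (Subgroup.normalizer (U : Set X)) = (if Nat.card S = 4 then 3 else 6))) := by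
  classical
  haveI := Fact.mk Nat.prime_two
  haveI : NeZero m := ⟨by omega⟩
  obtain ⟨h, rfl⟩ : ∃ h, m = h + h := by
    obtain ⟨k, hk⟩ := IsPGroup.iff_card.mp S.isPGroup'
    rw [Nat.card_congr eS.toEquiv, DihedralGroup.nat_card] at hk
    refine ⟨m / 2, ?_⟩
    rcases k with _ | _ | k
    · omega
    · simp at hk; omega
    · rw [pow_succ', pow_succ'] at hk; omega
  have hh : 0 < h := by omega
  set f : DihedralGroup (h + h) →* X := (S : Subgroup X).subtype.comp eS.symm.toMonoidHom with hf
  have hfinj : Function.Injective f := (S : Subgroup X).subtype_injective.comp eS.symm.injective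
  have hfP : ∀ d, f d ∈ (S : Subgroup X) := fun d => (eS.symm d).2
  have hfrange : ∀ a ∈ (S : Subgroup X), ∃ d, f d = a := fun a ha => ⟨eS ⟨a, ha⟩, by simp [hf]⟩
  set z := f (DihedralGroup.r ((h : ℕ) : ZMod (h + h))) with hz
  -- involutions of the cyclic part
  have hrot : ∀ j : ZMod (h + h), orderOf (DihedralGroup.r j) = 2 → j = ((h : ℕ) : ZMod (h + h)) := by
    intro j hj
    have h2 : j + j = 0 := by
      have := pow_orderOf_eq_one (DihedralGroup.r j)
      rw [hj, pow_two, DihedralGroup.r_mul_r, DihedralGroup.one_def] at this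
      exact DihedralGroup.r.inj this
    have hj0 : j ≠ 0 := by
      rintro rfl
      rw [show DihedralGroup.r (0 : ZMod (h + h)) = 1 from rfl, orderOf_one] at hj
      exact absurd hj (by norm_num)
    rcases Grp.DihNPC.commute_sr hh (i := (0 : ZMod (h + h))) (e := DihedralGroup.r j) (by
        rw [DihedralGroup.r_mul_sr, DihedralGroup.sr_mul_r, zero_sub, zero_add,
          neg_eq_of_add_eq_zero_left h2]) with h3 | h3 | h3 | h3
    · exact absurd (DihedralGroup.r.inj h3) hj0
    · exact DihedralGroup.r.inj h3
    · simp at h3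
    · simp at h3
  -- fusion of every reflection gives a single class
  have hone : (∀ i : ZMod (h + h), IsConj (f (DihedralGroup.sr i)) z) →
      ∀ a b : X, orderOf a = 2 → orderOf b = 2 → IsConj a b := by
    intro hall
    have key : ∀ a : X, orderOf a = 2 → IsConj a z := by
      intro a ha
      obtain ⟨R, hR⟩ := (IsPGroup.of_card (p := 2) (n := 1) (G := Subgroup.zpowers a)
        (by rw [Nat.card_zpowers, ha, pow_one])).exists_le_sylow
      obtain ⟨t, ht⟩ := MulAction.exists_smul_eq X R S
      have hb : t * a * t⁻¹ ∈ (S : Subgroup X) := by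
        rw [← ht, Sylow.coe_subgroup_smul]
        exact Subgroup.smul_mem_pointwise_smul a (MulAut.conj t) _ (hR (Subgroup.mem_zpowers a))
      obtain ⟨d, hd⟩ := hfrange _ hb
      have had : IsConj a (f d) := isConj_iff.mpr ⟨t, hd.symm⟩
      have hd2 : orderOf d = 2 := by
        rw [← orderOf_injective f hfinj, hd]
        exact ((MulAut.conj t).orderOf_eq a).trans ha
      cases d with
      | r j => rw [hrot j hd2] at had; exact had
      | sr j => exact had.trans (hall j)
    exact fun a b ha hb => (key a ha).trans (key b hb).symm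
  constructor
  · rintro ⟨hidx, -⟩
    refine .inl (hone fun i => ?_)
    set Q : Subgroup X := (Subgroup.zpowers (DihedralGroup.r (1 : ZMod (h + h)))).map f with hQ
    have hQP : Q ≤ (S : Subgroup X) := by rintro _ ⟨d, -, rfl⟩; exact hfP d
    have hfr : f.range = (S : Subgroup X) :=
      le_antisymm (by rintro _ ⟨d, rfl⟩; exact hfP d) (fun a ha => hfrange a ha)
    have hQi : Q.relIndex (S : Subgroup X) = 2 := by
      have h1 := Subgroup.relIndex_map_map_of_injective (f := f)
        (Subgroup.zpowers (DihedralGroup.r (1 : ZMod (h + h)))) ⊤ hfinj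
      rw [← MonoidHom.range_eq_map, hfr, ← hQ, Subgroup.relIndex_top_right] at h1
      rw [h1]
      have h2 := Subgroup.card_mul_index (Subgroup.zpowers (DihedralGroup.r (1 : ZMod (h + h))))
      rw [Nat.card_zpowers, DihedralGroup.orderOf_r_one, DihedralGroup.nat_card, mul_comm 2 (h + h)] at h2
      exact Nat.eq_of_mul_eq_mul_left (NeZero.pos (h + h)) h2
    have hQrot : ∀ g ∈ Q, ∃ j, f (DihedralGroup.r j) = g := by
      rintro _ ⟨d, hd, rfl⟩
      obtain ⟨j, rfl⟩ := Subgroup.mem_zpowers_iff.mp hd
      exact ⟨(j : ZMod (h + h)), by rw [DihedralGroup.r_one_zpow]⟩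
    have hord : orderOf (f (DihedralGroup.sr i)) = 2 := by
      rw [orderOf_injective f hfinj, DihedralGroup.orderOf_sr]
    rcases Cfsg.Agent.S0111.result S Q hQP hQi _ hord (hfP _) (fun hmem => by
      obtain ⟨j, hj⟩ := hQrot _ hmem
      exact absurd (hfinj hj) (by simp)) with ⟨M, -, hMi, -⟩ | ⟨g, hg⟩
    · exact absurd hMi (hidx M)
    · obtain ⟨j, hj⟩ := hQrot _ hg
      refine isConj_iff.mpr ⟨g, ?_⟩
      rw [← hj, hz, hrot j]
      rw [← orderOf_injective f hfinj, hj]
      exact ((MulAut.conj g).orderOf_eq _).trans hord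
  · intro hR
    have hall : ∀ a b : X, orderOf a = 2 → orderOf b = 2 → IsConj a b := by
      rcases hR with hR | hR
      · exact hR
      refine hone fun i => ?_
      obtain ⟨U, hUS, hK, hzo, hzs, hzU, hsU⟩ := Grp.DihNPC.exists_four S hh eS i
      set s := f (DihedralGroup.sr i) with hs
      have hzs' : z ≠ s := hzs
      have hzU' : z ∈ U := hzU
      have hsU' : s ∈ U := hsU
      set N := Subgroup.normalizer (U : Set X)
      set C := Subgroup.centralizer (U : Set X)
      haveI : (C.subgroupOf N).Normal := (Subgroup.normal_subgroupOf_iff_le_normalizer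
        (Subgroup.centralizer_le_normalizer _)).mpr fun n hn => by
          rw [Grp.mem_normalizer_iff_smul]
          refine Subgroup.eq_of_le_of_card_ge ?_ (by rw [Grp.card_conj_smul])
          rw [← Grp.map_conj_eq_smul]
          rintro _ ⟨c, hc, rfl⟩
          refine Subgroup.mem_centralizer_iff.mpr fun u hu => ?_
          have hu' : n⁻¹ * u * n⁻¹⁻¹ ∈ U := (Subgroup.mem_normalizer_iff.mp (N.inv_mem hn) u).mp hu
          have := Subgroup.mem_centralizer_iff.mp hc _ hu'
          show u * (n * c * n⁻¹) = n * c * n⁻¹ * u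
          calc u * (n * c * n⁻¹) = n * ((n⁻¹ * u * n⁻¹⁻¹) * c) * n⁻¹ := by group
            _ = n * (c * (n⁻¹ * u * n⁻¹⁻¹)) * n⁻¹ := by rw [this]
            _ = n * c * n⁻¹ * u := by group
      have h3 : 3 ∣ Nat.card (↥N ⧸ C.subgroupOf N) := by
        rw [← Subgroup.index_eq_card]
        show 3 ∣ C.relIndex N
        rw [hR U hUS hK]
        split <;> norm_num
      obtain ⟨q, hq⟩ := exists_prime_orderOf_dvd_card' 3 (hp := ⟨by norm_num⟩) h3
      obtain ⟨⟨n, hn⟩, rfl⟩ := QuotientGroup.mk_surjective q
      have hn3 : n ^ 3 ∈ C := by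
        have := pow_orderOf_eq_one (QuotientGroup.mk (⟨n, hn⟩ : ↥N) : ↥N ⧸ C.subgroupOf N)
        rw [hq, ← QuotientGroup.mk_pow, QuotientGroup.eq_one_iff] at this
        exact this
      have hnC : n ∉ C := fun hc => by
        rw [(QuotientGroup.eq_one_iff _).mpr (Subgroup.mem_subgroupOf.mpr hc), orderOf_one] at hq
        exact absurd hq (by norm_num)
      haveI := hK
      have hzo' : orderOf z = 2 := hzo
      have hso : orderOf s = 2 := by
        rw [hs, orderOf_injective f hfinj, DihedralGroup.orderOf_sr]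
      have hz1 : z ≠ 1 := fun hh => by
        rw [hh, orderOf_one] at hzo'; exact absurd hzo' (by norm_num)
      have hs1 : s ≠ 1 := fun hh => by
        rw [hh, orderOf_one] at hso; exact absurd hso (by norm_num)
      have hzz : z * z = 1 := by
        have := pow_orderOf_eq_one z
        rwa [hzo', pow_two] at this
      have hcomm : z * s = s * z :=
        congrArg Subtype.val (mul_comm_of_exponent_two IsKleinFour.exponent_two (⟨z, hzU'⟩ : ↥U) ⟨s, hsU'⟩)
      have hel : ∀ u ∈ U, u = 1 ∨ u = z ∨ u = s ∨ u = z * s := by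
        intro u hu
        have hz1' : (⟨z, hzU'⟩ : ↥U) ≠ 1 := fun hh => hz1 (congrArg Subtype.val hh)
        have hs1' : (⟨s, hsU'⟩ : ↥U) ≠ 1 := fun hh => hs1 (congrArg Subtype.val hh)
        have hne : (⟨z, hzU'⟩ : ↥U) ≠ ⟨s, hsU'⟩ := fun hh => hzs' (Subtype.mk.inj hh)
        by_cases h1 : (⟨u, hu⟩ : ↥U) = 1
        · exact .inl (congrArg Subtype.val h1)
        by_cases h2 : (⟨u, hu⟩ : ↥U) = ⟨z, hzU'⟩
        · exact .inr (.inl (congrArg Subtype.val h2))
        by_cases h3 : (⟨u, hu⟩ : ↥U) = ⟨s, hsU'⟩
        · exact .inr (.inr (.inl (congrArg Subtype.val h3)))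
        exact .inr (.inr (.inr (congrArg Subtype.val (IsKleinFour.eq_mul_of_ne_all hz1' hs1' hne h1 h2 h3))))
      obtain ⟨φ, hφ⟩ : ∃ φ : X →* X, ∀ u, φ u = n * u * n⁻¹ :=
        ⟨(MulAut.conj n).toMonoidHom, fun u => rfl⟩
      have hφinj : Function.Injective φ := fun a b hab => by
        rw [hφ, hφ] at hab
        exact mul_left_cancel (mul_right_cancel hab)
      have hφU : ∀ u ∈ U, φ u ∈ U := fun u hu => by
        rw [hφ]; exact (Subgroup.mem_normalizer_iff.mp hn u).mp hu
      have hφ3 : ∀ u ∈ U, φ (φ (φ u)) = u := by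
        intro u hu
        have := Subgroup.mem_centralizer_iff.mp hn3 u hu
        calc φ (φ (φ u)) = n ^ 3 * u * (n ^ 3)⁻¹ := by rw [hφ, hφ, hφ, pow_three]; group
          _ = u := by rw [← this, mul_inv_cancel_right]
      rcases hel _ (hφU z hzU') with h1 | h1 | h1 | h1
      · exact absurd (hφinj (h1.trans (map_one φ).symm)) hz1
      · -- `n` fixes `z`, hence everything
        exfalso
        have hfix : φ s = s := by
          rcases hel _ (hφU s hsU') with h2 | h2 | h2 | h2
          · exact absurd (hφinj (h2.trans (map_one φ).symm)) hs1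
          · exact absurd (hφinj (h2.trans h1.symm)) (Ne.symm hzs')
          · exact h2
          · exfalso
            have h4 : φ (φ s) = s := by rw [h2, map_mul, h1, h2, ← mul_assoc, hzz, one_mul]
            have h5 := hφ3 s hsU'
            rw [h4, h2] at h5
            exact hz1 (mul_eq_right.mp h5)
        refine hnC (Subgroup.mem_centralizer_iff.mpr fun u hu => ?_)
        have key : φ u = u := by
          rcases hel u hu with rfl | rfl | rfl | rfl
          · exact map_one φ
          · exact h1
          · exact hfix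
          · rw [map_mul, h1, hfix]
        rw [hφ] at key
        exact (mul_inv_eq_iff_eq_mul.mp key).symm
      · exact (isConj_iff.mpr ⟨n, (hφ z).symm.trans h1⟩ : IsConj z s).symm
      · -- `z ↦ z s`
        have h2 : φ (φ z) = s := by
          rw [h1, map_mul, h1]
          rcases hel _ (hφU s hsU') with h4 | h4 | h4 | h4
          · exact absurd (hφinj (h4.trans (map_one φ).symm)) hs1
          · rw [h4, hcomm, mul_assoc, hzz, mul_one]
          · exfalso
            have h5 := hφ3 z hzU'
            rw [h1, map_mul, h1, h4, map_mul, map_mul, h1, h4] at h5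
            have hss : s * s = 1 := by
              have := pow_orderOf_eq_one s
              rwa [hso, pow_two] at this
            rw [mul_assoc, mul_assoc, hss, mul_one] at h5
            exact hs1 (mul_eq_left.mp h5)
          · exact absurd (hφinj (h4.trans h1.symm)) (Ne.symm hzs')
        exact ((isConj_iff.mpr ⟨n, (hφ z).symm⟩ : IsConj z (φ z)).trans
          (isConj_iff.mpr ⟨n, (hφ (φ z)).symm.trans h2⟩)).symm
    refine ⟨fun H hH => ?_, fun a ⟨ha, hiso⟩ => ?_⟩
    · haveI := Subgroup.normal_of_index_eq_two hH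
      have h2 := Nat.card_congr eS.toEquiv
      obtain ⟨R⟩ : Nonempty (Sylow 2 ↥H) := inferInstance
      -- every involution lies in `H` or none does
      have hSH : ¬ (S : Subgroup X) ≤ H := fun hle => by
        exact S.not_dvd_index (by have := Subgroup.index_dvd_of_le hle; rwa [hH] at this)
      obtain ⟨U, hUS, hK, hzo, hzs, hzU, hsU⟩ := Grp.DihNPC.exists_four S hh eS 0
      have hzH : z ∈ H := by
        have hzo' : orderOf z = 2 := hzo
        by_contra hzH
        have ho : ∀ i, orderOf (f (DihedralGroup.sr i)) = 2 := fun i => by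
          rw [orderOf_injective f hfinj, DihedralGroup.orderOf_sr]
        have hout : ∀ i, f (DihedralGroup.sr i) ∉ H := fun i hi => hzH (by
          obtain ⟨c, hc⟩ := isConj_iff.mp (hall _ _ (ho i) hzo')
          rw [← hc]; exact Subgroup.Normal.conj_mem inferInstance _ hi c)
        have h3 := Subgroup.mul_mem_iff_of_index_two hH (a := z) (b := f (DihedralGroup.sr 0))
        rw [iff_true_right (iff_of_false hzH (hout 0))] at h3
        refine hout ((0 : ZMod (h + h)) - (h : ℕ)) ?_
        rw [show f (DihedralGroup.sr ((0 : ZMod (h + h)) - (h : ℕ))) = z * f (DihedralGroup.sr 0) by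
          rw [hz, ← map_mul, DihedralGroup.r_mul_sr]]
        exact h3
      refine hSH fun a ha => ?_
      obtain ⟨d, rfl⟩ := hfrange a ha
      have hsr : ∀ i, f (DihedralGroup.sr i) ∈ H := fun i => by
        obtain ⟨c, hc⟩ := isConj_iff.mp (hall z (f (DihedralGroup.sr i)) hzo (by rw [orderOf_injective f hfinj, DihedralGroup.orderOf_sr]))
        rw [← hc]; exact Subgroup.Normal.conj_mem inferInstance _ hzH c
      cases d with
      | sr j => exact hsr j
      | r j =>
        rw [show DihedralGroup.r j = DihedralGroup.sr 0 * DihedralGroup.sr j by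
          rw [DihedralGroup.sr_mul_sr, sub_zero], map_mul]
        exact H.mul_mem (hsr 0) (hsr j)
    · obtain ⟨U, hUS, hK, hzo, hzs, hzU, hsU⟩ := Grp.DihNPC.exists_four S hh eS 0
      haveI := hK
      set s := f (DihedralGroup.sr (0 : ZMod (h + h))) with hs
      have hso : orderOf s = 2 := by rw [orderOf_injective f hfinj, DihedralGroup.orderOf_sr]
      obtain ⟨c, hc⟩ := isConj_iff.mp (hall z a hzo ha)
      obtain ⟨d, hd⟩ := isConj_iff.mp (hall a (c * s * c⁻¹) ha
        (((MulAut.conj c).orderOf_eq s).trans hso))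
      have hcomm : z * s = s * z := congrArg Subtype.val (mul_comm_of_exponent_two IsKleinFour.exponent_two (⟨z, hzU⟩ : ↥U) ⟨s, hsU⟩)
      have h2 := hiso d (by
        rw [hd, ← hc]
        show c * z * c⁻¹ * (c * s * c⁻¹) = c * s * c⁻¹ * (c * z * c⁻¹)
        calc c * z * c⁻¹ * (c * s * c⁻¹) = c * (z * s) * c⁻¹ := by group
          _ = c * (s * z) * c⁻¹ := by rw [hcomm]
          _ = _ := by group)
      rw [hd, ← hc] at h2
      exact hzs (mul_left_cancel (mul_right_cancel h2)).symm

end Cfsg.Agent.S1255
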