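import Cfsg.Prelude
import Cfsg.Agent.Lib.Invol.DihedralFours
import Cfsg.Agent.Lib.Invol.LargeSubgroup
-- import your own Cfsg.Agent.* helpers here

set_option autoImplicit false
open Cfsg

open scoped Pointwise commutatorElement

namespace Cfsg.Agent.S1256

/-- Let X be a finite group whose Sylow 2-subgroup S is dihedral of order 2m ≥ 4. If |S| = 4, any two Klein four-subgroups of X are conjugate; if |S| > 4, there are Klein four-subgroups U₁, U₂ of X that are not conjugate, and every Klein four-subgroup of X is conjugate to U₁ or to U₂. -/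
theorem result {X : Type*} [Group X] [Finite X] (S : Sylow 2 X) (m : ℕ) (hm : 2 ≤ m) (eS : (S : Subgroup X) ≃* DihedralGroup m) : (Nat.card S = 4 → ∀ U V : Subgroup X, IsKleinFour U → IsKleinFour V → (∃ x : X, U.map (MulAut.conj x).toMonoidHom = V)) ∧ (4 < Nat.card S → ∃ U₁ U₂ : Subgroup X, IsKleinFour U₁ ∧ IsKleinFour U₂ ∧ ¬ (∃ x : X, U₁.map (MulAut.conj x).toMonoidHom = U₂) ∧ ∀ V : Subgroup X, IsKleinFour V → (∃ x : X, V.map (MulAut.conj x).toMonoidHom = U₁) ∨ (∃ x : X, V.map (MulAut.conj x).toMonoidHom = U₂)) := by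
  classical
  haveI := Fact.mk Nat.prime_two
  have hcard : Nat.card (S : Subgroup X) = 2 * m := by rw [Nat.card_congr eS.toEquiv, DihedralGroup.nat_card]
  have hkc : ∀ {K : Subgroup X}, IsKleinFour ↥K → Nat.card K = 4 := fun hK => hK.card_four
  have hconj2 : ∀ {K : Subgroup X}, IsKleinFour ↥K → IsPGroup 2 ↥K := fun hK =>
    IsPGroup.of_card (n := 2) (by rw [hkc hK]; norm_num)
  refine ⟨fun hS4 U V hU hV => ?_, fun hS => ?_⟩
  · have key : ∀ K : Subgroup X, IsKleinFour ↥K → ∃ P : Sylow 2 X, (P : Subgroup X) = K := fun K hK => by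
      obtain ⟨P, hP⟩ := (hconj2 hK).exists_le_sylow
      refine ⟨P, (Subgroup.eq_of_le_of_card_ge hP ?_).symm⟩
      rw [hkc hK, P.card_eq_multiplicity, ← S.card_eq_multiplicity, hS4]
    obtain ⟨P, rfl⟩ := key U hU
    obtain ⟨P', rfl⟩ := key V hV
    obtain ⟨x, hx⟩ := MulAction.exists_smul_eq X P P'
    exact ⟨x, by rw [← hx, Sylow.coe_subgroup_smul]; rfl⟩
  -- the parameters
  obtain ⟨n, hn⟩ := IsPGroup.iff_card.mp S.isPGroup'
  have hn3 : 3 ≤ n := by
    have h8 : 4 < 2 ^ n := hn ▸ hS
    by_contra hlt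
    have : 2 ^ n ≤ 2 ^ 2 := Nat.pow_le_pow_right (by norm_num) (by omega)
    omega
  obtain ⟨q, hq⟩ : ∃ q, m = 2 * q + 2 * q := ⟨2 ^ (n - 3), by
    have h1 : 2 ^ n = 8 * 2 ^ (n - 3) := by
      rw [show (8 : ℕ) = 2 ^ 3 by norm_num, ← pow_add]; congr 1; omega
    omega⟩
  have hq0 : 0 < q := by
    rcases Nat.eq_zero_or_pos q with rfl | h
    · omega
    · exact h
  haveI : NeZero m := ⟨by omega⟩
  set k := 2 * q with hk
  have hh : ((k : ℕ) : ZMod m) + (k : ℕ) = 0 := by rw [← Nat.cast_add, ← hq, ZMod.natCast_self]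
  have hh0 : ((k : ℕ) : ZMod m) ≠ 0 := by
    rw [Ne, ZMod.natCast_eq_zero_iff]
    exact fun hd => absurd (Nat.le_of_dvd (by omega) hd) (by omega)
  set f : DihedralGroup m →* X := (S : Subgroup X).subtype.comp eS.symm.toMonoidHom with hf
  have hfinj : Function.Injective f := (S : Subgroup X).subtype_injective.comp eS.symm.injective
  have hfr : f.range = (S : Subgroup X) := by
    refine le_antisymm (by rintro _ ⟨d, rfl⟩; exact (eS.symm d).2) fun a ha => ⟨eS ⟨a, ha⟩, by simp [hf]⟩
  set W : ZMod m → Subgroup X := fun i => (Invol.DihFour.four hh i).map f with hW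
  have hWK : ∀ i, IsKleinFour ↥(W i) := fun i => by
    have hc : Nat.card ↥(W i) = 4 := by
      rw [hW]
      simp only
      rw [Subgroup.card_map_of_injective hfinj, Invol.DihFour.card_four hh hh0]
    haveI : Nontrivial ↥(W i) := Finite.one_lt_card_iff_nontrivial.mp (by rw [hc]; norm_num)
    refine ⟨hc, (Monoid.exponent_eq_prime_iff Nat.prime_two).mpr fun x hx => orderOf_eq_prime ?_ hx⟩
    obtain ⟨d, hd, hde⟩ := x.2
    refine Subtype.ext ?_
    rw [SubgroupClass.coe_pow, ← hde, ← map_pow, pow_two, Invol.DihFour.exponent_four hh i d hd, map_one]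
    rfl
  have hshift : ∀ i j : ZMod m, (W i).map (MulAut.conj (f (DihedralGroup.r j))).toMonoidHom = W (i - 2 * j) := by
    intro i j
    rw [hW]
    simp only
    rw [Subgroup.map_map]
    refine Subgroup.eq_of_le_of_card_ge ?_ ?_
    · rintro _ ⟨d, hd, rfl⟩
      refine ⟨DihedralGroup.r j * d * (DihedralGroup.r j)⁻¹, ?_, by simp only [map_mul, map_inv]; rfl⟩
      rcases Invol.DihFour.mem_four.mp hd with rfl | rfl | rfl | rfl <;>
        simp only [SetLike.mem_coe, Invol.DihFour.mem_four, DihedralGroup.r_mul_r, DihedralGroup.r_mul_sr,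
          DihedralGroup.inv_r, DihedralGroup.sr_mul_r]
      · left; congr 1; ring
      · right; left; congr 1; ring
      · right; right; left; congr 1; ring
      · right; right; right; congr 1; ring
    · rw [Subgroup.card_map_of_injective (f := (MulAut.conj (f (DihedralGroup.r j))).toMonoidHom.comp f)
        ((MulAut.conj _).injective.comp hfinj), Subgroup.card_map_of_injective hfinj,
        Invol.DihFour.card_four hh hh0, Invol.DihFour.card_four hh hh0]
  have hallW : ∀ V : Subgroup X, IsKleinFour ↥V → ∃ x i, V.map (MulAut.conj x).toMonoidHom = W i := by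
    intro V hV
    obtain ⟨P, hP⟩ := (hconj2 hV).exists_le_sylow
    obtain ⟨x, hx⟩ := MulAction.exists_smul_eq X P S
    have hle : V.map (MulAut.conj x).toMonoidHom ≤ f.range := by
      rw [hfr, ← hx, Sylow.coe_subgroup_smul]
      exact Subgroup.map_mono hP
    set V' := (V.map (MulAut.conj x).toMonoidHom).comap f with hV'
    have hmap : V'.map f = V.map (MulAut.conj x).toMonoidHom := Subgroup.map_comap_eq_self hle
    let e : ↥V ≃* ↥V' := ((V.equivMapOfInjective _ (MulAut.conj x).injective).trans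
      (MulEquiv.subgroupCongr hmap.symm)).trans (V'.equivMapOfInjective f hfinj).symm
    haveI hV'' : IsKleinFour ↥V' :=
      ⟨by rw [← Nat.card_congr e.toEquiv]; exact hV.card_four,
        by rw [← Monoid.exponent_eq_of_mulEquiv e]; exact hV.exponent_two⟩
    obtain ⟨i, hi⟩ := Invol.DihFour.exists_eq_four hq (by omega) hh V' hV''
    exact ⟨x, i, by rw [← hmap, hi]⟩
  set z := f (DihedralGroup.r ((k : ℕ) : ZMod m)) with hz
  have hzc : ∀ s ∈ (S : Subgroup X), s * z = z * s := by
    intro s hs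
    rw [← hfr] at hs
    obtain ⟨d, rfl⟩ := hs
    rw [hz, ← map_mul, ← map_mul]
    congr 1
    cases d with
    | r j => rw [DihedralGroup.r_mul_r, DihedralGroup.r_mul_r, add_comm]
    | sr j => rw [DihedralGroup.sr_mul_r, DihedralGroup.r_mul_sr, sub_eq_add_neg, Invol.DihFour.two_h_neg hh]
  set D : ZMod m → Subgroup X := fun i => (S : Subgroup X) ⊓ Subgroup.normalizer (W i : Set X) with hD
  have hDmap : ∀ i, D i = (Subgroup.normalizer (Invol.DihFour.four hh i : Set (DihedralGroup m))).map f := by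
    intro i
    refine le_antisymm ?_ ?_
    · rintro s ⟨hs, hsn⟩
      rw [SetLike.mem_coe, ← hfr] at hs
      obtain ⟨d, rfl⟩ := hs
      refine ⟨d, Subgroup.mem_normalizer_fintype fun y hy => ?_, rfl⟩
      obtain ⟨y', hy', he⟩ := (Subgroup.mem_normalizer_iff.mp hsn (f y)).mp ⟨y, hy, rfl⟩
      have : y' = d * y * d⁻¹ := hfinj (by rw [he]; simp)
      exact this ▸ hy'
    · rintro _ ⟨d, hd, rfl⟩
      refine ⟨(eS.symm d).2, Subgroup.mem_normalizer_fintype ?_⟩
      rintro _ ⟨y, hy, rfl⟩
      exact ⟨d * y * d⁻¹, (Subgroup.mem_normalizer_iff.mp hd y).mp hy, by simp⟩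
  have hSyl : ∀ i (T : Subgroup X), IsPGroup 2 ↥T → T ≤ Subgroup.normalizer (W i : Set X) → D i ≤ T → T = D i := by
    intro i T hT hTN hDT
    refine (Subgroup.eq_of_le_of_card_ge hDT ?_).symm
    obtain ⟨P, hP⟩ := hT.exists_le_sylow
    obtain ⟨x, hx⟩ := MulAction.exists_smul_eq X P S
    have hTS : T.map (MulAut.conj x).toMonoidHom ≤ (S : Subgroup X) := by
      rw [← hx, Sylow.coe_subgroup_smul]; exact Subgroup.map_mono hP
    have hWT : W i ≤ T := le_trans (le_inf (by rintro _ ⟨d, -, rfl⟩; exact (eS.symm d).2) Subgroup.le_normalizer) hDT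
    have hWS : (W i).map (MulAut.conj x).toMonoidHom ≤ f.range := hfr ▸ (Subgroup.map_mono hWT).trans hTS
    set V' := ((W i).map (MulAut.conj x).toMonoidHom).comap f with hV'
    have hmap : V'.map f = (W i).map (MulAut.conj x).toMonoidHom := Subgroup.map_comap_eq_self hWS
    let e : ↥(W i) ≃* ↥V' := (((W i).equivMapOfInjective _ (MulAut.conj x).injective).trans
      (MulEquiv.subgroupCongr hmap.symm)).trans (V'.equivMapOfInjective f hfinj).symm
    haveI hV'' : IsKleinFour ↥V' :=
      ⟨by rw [← Nat.card_congr e.toEquiv]; exact (hWK i).card_four,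
        by rw [← Monoid.exponent_eq_of_mulEquiv e]; exact (hWK i).exponent_two⟩
    obtain ⟨j, hj⟩ := Invol.DihFour.exists_eq_four hq (by omega) hh V' hV''
    have hTD : T.map (MulAut.conj x).toMonoidHom ≤ D j := by
      refine le_inf hTS ?_
      rw [show W j = (W i).map (MulAut.conj x).toMonoidHom by rw [← hmap, hj]]
      refine le_trans (Subgroup.map_mono hTN) ?_
      exact (Subgroup.map_equiv_normalizer_eq (W i) (MulAut.conj x)).le
    calc Nat.card T = Nat.card ↥(T.map (MulAut.conj x).toMonoidHom) := (Subgroup.card_map_of_injective (MulAut.conj x).injective).symm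
      _ ≤ Nat.card ↥(D j) := Subgroup.card_le_of_le hTD
      _ ≤ Nat.card ↥(D i) := by
        rw [hDmap, hDmap, Subgroup.card_map_of_injective hfinj, Subgroup.card_map_of_injective hfinj]
        exact Invol.DihFour.card_normalizer_le hh i j
  refine ⟨W 0, W 1, hWK 0, hWK 1, ?_, fun V hV => ?_⟩
  · rintro ⟨x, hx⟩
    -- adjust the conjugating element
    set N₁ := Subgroup.normalizer (W 1 : Set X) with hN₁
    have hD0 : (D 0).map (MulAut.conj x).toMonoidHom ≤ N₁ := by
      refine le_trans (Subgroup.map_mono inf_le_right) ?_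
      rw [hN₁, ← hx]
      exact (Subgroup.map_equiv_normalizer_eq (W 0) (MulAut.conj x)).le
    have hDp : ∀ i, IsPGroup 2 ↥(D i) := fun i => S.isPGroup'.to_le inf_le_left
    obtain ⟨P₁, hP₁⟩ := ((hDp 0).map (MulAut.conj x).toMonoidHom).comap_subtype (K := N₁) |>.exists_le_sylow
    obtain ⟨P₂, hP₂⟩ := ((hDp 1).comap_subtype (K := N₁)).exists_le_sylow
    obtain ⟨c, hc⟩ := MulAction.exists_smul_eq N₁ P₁ P₂
    have hP₂D : (P₂ : Subgroup N₁).map N₁.subtype = D 1 := hSyl 1 _ (P₂.isPGroup'.map _) (Subgroup.map_subtype_le _)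
      (fun y hy => ⟨⟨y, (hy.2 : y ∈ N₁)⟩, hP₂ hy, rfl⟩)
    set y := (c : X) * x with hy
    have hzy : y * z * y⁻¹ = z := by
      have hmem : ∀ d ∈ D 0, y * d * y⁻¹ ∈ D 1 := by
        intro d hd
        have h1 : (⟨x * d * x⁻¹, hD0 ⟨d, hd, rfl⟩⟩ : N₁) ∈ (P₁ : Subgroup N₁) := hP₁ ⟨d, hd, rfl⟩
        rw [← hP₂D, ← hc, Sylow.coe_subgroup_smul]
        exact ⟨c * ⟨x * d * x⁻¹, hD0 ⟨d, hd, rfl⟩⟩ * c⁻¹, ⟨_, h1, rfl⟩, by simp [hy, mul_assoc]⟩
      have hsurj : ∀ e ∈ D 1, ∃ d ∈ D 0, y * d * y⁻¹ = e := by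
        have hle : (D 0).map (MulAut.conj y).toMonoidHom ≤ D 1 := by
          rintro _ ⟨d, hd, rfl⟩; exact hmem d hd
        have heq := Subgroup.eq_of_le_of_card_ge hle (by
          rw [Subgroup.card_map_of_injective (MulAut.conj y).injective, hDmap, hDmap,
            Subgroup.card_map_of_injective hfinj, Subgroup.card_map_of_injective hfinj]
          exact Invol.DihFour.card_normalizer_le hh 0 1)
        intro e he
        rw [← heq] at he
        exact he
      have hz0 : z ∈ W 0 := ⟨_, Invol.DihFour.mem_four.mpr (.inr (.inl rfl)), rfl⟩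
      have hzW : y * z * y⁻¹ ∈ W 1 := by
        have h1 : x * z * x⁻¹ ∈ W 1 := hx ▸ ⟨z, hz0, rfl⟩
        have h2 := (Subgroup.mem_normalizer_iff.mp c.2 _).mp h1
        simpa [hy, mul_assoc] using h2
      obtain ⟨d, hd, hde⟩ := hzW
      have hq1 : f (DihedralGroup.r (q : ℕ)) ∈ D 1 := by
        rw [hDmap]
        exact ⟨_, (Invol.DihFour.rot_mem_normalizer hh 1 _).mpr (.inr (by rw [← Nat.cast_add, hk, two_mul])), rfl⟩
      obtain ⟨d₀, hd₀, hd₀e⟩ := hsurj _ hq1
      have hcomm : f (DihedralGroup.r (q : ℕ)) * (y * z * y⁻¹) = y * z * y⁻¹ * f (DihedralGroup.r (q : ℕ)) := by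
        rw [← hd₀e]
        calc y * d₀ * y⁻¹ * (y * z * y⁻¹) = y * (d₀ * z) * y⁻¹ := by group
          _ = y * (z * d₀) * y⁻¹ := by rw [hzc d₀ hd₀.1]
          _ = _ := by group
      rw [← hde, ← map_mul, ← map_mul] at hcomm
      have hcomm' := hfinj hcomm
      have hne : DihedralGroup.r (0 : ZMod m) ≠ d := by
        rintro rfl
        have : z = 1 := by
          have h2 : y * z * y⁻¹ = 1 := by rw [← hde]; exact map_one f
          rwa [conj_eq_one_iff] at h2
        rw [hz, ← map_one f] at this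
        exact hh0 (DihedralGroup.r.inj ((hfinj this).trans DihedralGroup.one_def))
      rcases Invol.DihFour.mem_four.mp hd with e | e | e | e
      · exact absurd e.symm hne
      · rw [← hde, e]
      all_goals
        exfalso
        rw [e, DihedralGroup.r_mul_sr, DihedralGroup.sr_mul_r, DihedralGroup.sr.injEq] at hcomm'
        refine hh0 ?_
        rw [hk, two_mul, Nat.cast_add]
        linear_combination -hcomm'
    have hWy : (W 0).map (MulAut.conj y).toMonoidHom = W 1 := by
      rw [hy, show (MulAut.conj ((c : X) * x)).toMonoidHom = (MulAut.conj (c : X)).toMonoidHom.comp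
        (MulAut.conj x).toMonoidHom by ext; simp [mul_assoc], ← Subgroup.map_map, hx]
      exact Invol.wc_map_conj_eq_iff.mpr c.2
    -- inside the centralizer of the central involution
    set C := Subgroup.centralizer ({z} : Set X) with hC
    have hSC : (S : Subgroup X) ≤ C := fun s hs => Subgroup.mem_centralizer_singleton_iff.mpr (hzc s hs)
    haveI : Finite C := inferInstance
    let SC : Sylow 2 C := S.subtype hSC
    let eC : ↥(SC : Subgroup C) ≃* DihedralGroup m := (Subgroup.subgroupOfEquivOfLe hSC).trans eS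
    have hnpc : Cfsg.HasNormalPComplement 2 C := by
      refine Grp.DihNPC.npc_of_not_fused SC (by omega) eC fun i hi => ?_
      have h1 : (eC.symm (DihedralGroup.r ((m / 2 : ℕ) : ZMod m)) : C) ∈ Subgroup.center C :=
        Subgroup.mem_center_iff.mpr fun g => Subtype.ext (by
          have := Subgroup.mem_centralizer_singleton_iff.mp g.2
          rw [show m / 2 = k by omega]
          exact this)
      have h2 := (isConj_comm.mp hi).eq_of_left_mem_center h1
      have h3 := eC.symm.injective (Subtype.ext h2)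
      simp at h3
    obtain ⟨P₃, K, hKn, hcompl⟩ := hnpc
    have hKc : ¬ 2 ∣ Nat.card K := by
      rw [← hcompl.index_eq_card]
      exact P₃.not_dvd_index
    have hKi : ∃ j, K.index = 2 ^ j := by
      rw [hcompl.symm.index_eq_card]
      exact IsPGroup.iff_card.mp P₃.isPGroup'
    have hyC : y ∈ C := Subgroup.mem_centralizer_singleton_iff.mpr (mul_inv_eq_iff_eq_mul.mp hzy)
    have htop : K ⊔ (SC : Subgroup C) = ⊤ := by
      rw [← Subgroup.index_eq_one]
      obtain ⟨j, hj⟩ := hKi
      have h1 : (K ⊔ (SC : Subgroup C)).index ∣ 2 ^ j := hj ▸ Subgroup.index_dvd_of_le le_sup_left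
      have h2 : ¬ 2 ∣ (K ⊔ (SC : Subgroup C)).index := fun hd =>
        SC.not_dvd_index (hd.trans (Subgroup.index_dvd_of_le le_sup_right))
      obtain ⟨i, -, hi⟩ := (Nat.dvd_prime_pow Nat.prime_two).mp h1
      rcases i with _ | i
      · simpa using hi
      · exact absurd (hi ▸ dvd_pow_self 2 (Nat.succ_ne_zero i)) h2
    obtain ⟨κ, hκ, s, hs, hks⟩ := Subgroup.mem_sup_of_normal_left.mp (htop ▸ Subgroup.mem_top (⟨y, hyC⟩ : C))
    have hu0 : f (DihedralGroup.sr 0) ∈ W 0 := ⟨_, Invol.DihFour.mem_four.mpr (.inr (.inr (.inl rfl))), rfl⟩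
    have hsS : (s : X) ∈ (S : Subgroup X) := hs
    set v := (s : X) * f (DihedralGroup.sr 0) * (s : X)⁻¹ with hv
    have hvS : v ∈ (S : Subgroup X) := Subgroup.mul_mem _ (Subgroup.mul_mem _ hsS (eS.symm _).2) (Subgroup.inv_mem _ hsS)
    have hw : y * f (DihedralGroup.sr 0) * y⁻¹ ∈ W 1 := hWy ▸ ⟨_, hu0, rfl⟩
    have hwS : y * f (DihedralGroup.sr 0) * y⁻¹ ∈ (S : Subgroup X) := by
      obtain ⟨d, -, hd⟩ := hw
      rw [← hd]
      exact (eS.symm d).2
    have hyk : y = (κ : X) * s := congrArg Subtype.val hks.symm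
    have hkv : y * f (DihedralGroup.sr 0) * y⁻¹ = v := by
      have hmemK : (⟨(κ : X) * v * (κ : X)⁻¹ * v⁻¹, C.mul_mem (C.mul_mem (C.mul_mem κ.2 (hSC hvS)) (C.inv_mem κ.2))
          (C.inv_mem (hSC hvS))⟩ : C) ∈ K := by
        have : (⟨(κ : X) * v * (κ : X)⁻¹ * v⁻¹, C.mul_mem (C.mul_mem (C.mul_mem κ.2 (hSC hvS)) (C.inv_mem κ.2))
          (C.inv_mem (hSC hvS))⟩ : C) = κ * ((⟨v, hSC hvS⟩ : C) * κ⁻¹ * (⟨v, hSC hvS⟩ : C)⁻¹) :=
          Subtype.ext (by simp [mul_assoc])
        rw [this]
        exact K.mul_mem hκ (hKn.conj_mem _ (K.inv_mem hκ) _)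
      have hmemS : (κ : X) * v * (κ : X)⁻¹ * v⁻¹ ∈ (S : Subgroup X) := by
        refine Subgroup.mul_mem _ ?_ (Subgroup.inv_mem _ hvS)
        rw [hyk] at hwS
        simpa [hv, mul_assoc] using hwS
      obtain ⟨i, hi⟩ := IsPGroup.iff_orderOf.mp S.isPGroup' ⟨_, hmemS⟩
      have hco : orderOf (⟨_, hmemS⟩ : (S : Subgroup X)) ∣ Nat.card K := by
        rw [Subgroup.orderOf_mk]
        have := orderOf_dvd_natCard (⟨_, hmemK⟩ : K)
        rwa [Subgroup.orderOf_mk, Subgroup.orderOf_mk] at this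
      have h1 : (κ : X) * v * (κ : X)⁻¹ * v⁻¹ = 1 := by
        have := orderOf_eq_one_iff.mp (Nat.eq_one_of_dvd_coprimes
          (Nat.Coprime.pow_left i ((Nat.prime_two.coprime_iff_not_dvd).mpr hKc)) (dvd_of_eq hi) hco)
        exact congrArg Subtype.val this
      rw [mul_inv_eq_one] at h1
      rw [hyk, show (κ : X) * s * f (DihedralGroup.sr 0) * ((κ : X) * s)⁻¹ = (κ : X) * v * (κ : X)⁻¹ by rw [hv]; group, h1]
    rw [hkv, hv] at hw
    rw [← hfr] at hsS
    obtain ⟨ds, hds⟩ := hsS
    rw [← hds, ← map_inv, ← map_mul, ← map_mul] at hw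
    obtain ⟨d, hd, hde⟩ := hw
    have hd' := hfinj hde
    have hodd : ∀ a : ZMod m, ∀ j : ZMod m, a + a = 1 + j * ((k : ℕ) : ZMod m) → False := by
      intro a j hj
      have h2 := congrArg (ZMod.castHom (show 2 ∣ m by omega) (ZMod 2)) hj
      simp only [map_add, map_mul, map_one, map_natCast] at h2
      rw [hk, Nat.cast_mul, show ((2 : ℕ) : ZMod 2) = 0 from ZMod.natCast_self 2, zero_mul, mul_zero, add_zero,
        CharTwo.add_self_eq_zero] at h2
      exact zero_ne_one h2
    rcases Invol.DihFour.mem_four.mp hd with e | e | e | e <;> rw [e] at hd' <;>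
      cases ds with
      | r a =>
        simp [DihedralGroup.r_mul_sr, DihedralGroup.inv_r, DihedralGroup.sr_mul_r] at hd'
        try first
          | (rw [DihedralGroup.one_def] at hd'; cases hd')
          | exact hodd (-a) 0 (by linear_combination -hd')
          | exact hodd (-a) 1 (by linear_combination -hd')
      | sr a =>
        simp [DihedralGroup.sr_mul_sr, DihedralGroup.inv_sr, DihedralGroup.r_mul_sr] at hd'
        try first
          | (rw [DihedralGroup.one_def] at hd'; cases hd')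
          | exact hodd a 0 (by linear_combination -hd')
          | exact hodd a 1 (by linear_combination -hd')
  · obtain ⟨x, i, hi⟩ := hallW V hV
    set j : ℕ := i.val / 2 with hjdef
    have key : (W i).map (MulAut.conj (f (DihedralGroup.r (j : ℕ)))).toMonoidHom = W ((i.val % 2 : ℕ)) := by
      rw [hshift]
      congr 1
      have h1 := congrArg (fun a : ℕ => (a : ZMod m)) (Nat.mod_add_div i.val 2)
      push_cast at h1
      rw [ZMod.natCast_zmod_val] at h1
      linear_combination -h1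
    have h2 : V.map (MulAut.conj (f (DihedralGroup.r (j : ℕ)) * x)).toMonoidHom = W ((i.val % 2 : ℕ)) := by
      rw [← key, ← hi, Subgroup.map_map]
      congr 1
      ext; simp [mul_assoc]
    rcases Nat.mod_two_eq_zero_or_one i.val with h0 | h0 <;> rw [h0] at h2
    · exact .inl ⟨_, by simpa only [Nat.cast_zero] using h2⟩
    · exact .inr ⟨_, by simpa only [Nat.cast_one] using h2⟩

end Cfsg.Agent.S1256
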