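import Cfsg.Statements.S1258
import Cfsg.Agent.Lib.Grp.Components
-- import your own Cfsg.Agent.* helpers here

set_option autoImplicit false
open Cfsg

namespace Cfsg.Agent.S1258

open scoped commutatorElement

/-- If the central quotient of a finite group X is non-abelian simple, then X = X' Z(X) and the commutator subgroup X' is quasisimple. -/
theorem result {X : Type*} [Group X] [Finite X] (hs : IsSimpleGroup (X ⧸ Subgroup.center X)) (hna : ¬ IsMulCommutative (X ⧸ Subgroup.center X)) : commutator X ⊔ Subgroup.center X = ⊤ ∧ Cfsg.IsQuasisimple ↥(commutator X) := by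
  have := hs.toNontrivial
  set f := QuotientGroup.mk' (Subgroup.center X) with hf'
  have hf : Function.Surjective f := QuotientGroup.mk'_surjective _
  have hQp : commutator (X ⧸ Subgroup.center X) = ⊤ := by
    refine ((inferInstance : (commutator (X ⧸ Subgroup.center X)).Normal).eq_bot_or_eq_top).resolve_left fun e => hna ?_
    refine ⟨⟨fun a b => ?_⟩⟩
    have := Subgroup.commutator_mem_commutator (Subgroup.mem_top a) (Subgroup.mem_top b)
    rw [← commutator_def, e, Subgroup.mem_bot, commutatorElement_eq_one_iff_mul_comm] at this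
    exact this
  have htop : commutator X ⊔ Subgroup.center X = ⊤ := by
    rw [← QuotientGroup.ker_mk' (Subgroup.center X), ← Subgroup.comap_map_eq]
    rw [show (commutator X).map (QuotientGroup.mk' (Subgroup.center X)) = commutator (X ⧸ Subgroup.center X) by
      rw [commutator_def, Subgroup.map_commutator, Subgroup.map_top_of_surjective _ hf]; rfl]
    rw [hQp, Subgroup.comap_top]
  refine ⟨htop, ?_⟩
  have hdec : ∀ x : X, ∃ d ∈ commutator X, ∃ z ∈ Subgroup.center X, x = d * z := fun x => by
    obtain ⟨d, hd, z, hz, e⟩ := Subgroup.mem_sup_of_normal_right.mp (show x ∈ commutator X ⊔ Subgroup.center X by rw [htop]; trivial)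
    exact ⟨d, hd, z, hz, e.symm⟩
  have hperf : ⁅commutator X, commutator X⁆ = commutator X := by
    refine le_antisymm (Subgroup.commutator_le_self _) ?_
    conv_lhs => rw [commutator_def]
    rw [Subgroup.commutator_le]
    intro x _ y _
    obtain ⟨d, hd, z, hz, rfl⟩ := hdec x
    obtain ⟨d', hd', z', hz', rfl⟩ := hdec y
    have e : ⁅d * z, d' * z'⁆ = ⁅d, d'⁆ := by
      rw [commutatorElement_mul_left_eq_conj_mul, commutatorElement_eq_one_iff_mul_comm.mpr (Subgroup.mem_center_iff.mp hz _).symm,
        commutatorElement_mul_right_eq_mul_conj, commutatorElement_eq_one_iff_mul_comm.mpr (Subgroup.mem_center_iff.mp hz' _)]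
      simp
    rw [e]
    exact Subgroup.commutator_mem_commutator hd hd'
  have hne : Nontrivial (commutator X) := by
    rw [Subgroup.nontrivial_iff_ne_bot]
    intro e
    rw [e, bot_sup_eq] at htop
    exact not_subsingleton _ (QuotientGroup.subsingleton_iff.mpr htop)
  refine Cfsg.Agent.Grp.isQuasisimple_of (Subgroup.isPerfect_iff.mpr hperf) fun N hN => ?_
  set M := N.map (commutator X).subtype with hM
  have hMn : M.Normal := by
    refine ⟨?_⟩
    rintro _ ⟨n, hn, rfl⟩ g
    obtain ⟨d, hd, z, hz, rfl⟩ := hdec g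
    refine ⟨⟨d, hd⟩ * n * ⟨d, hd⟩⁻¹, hN.conj_mem n hn _, ?_⟩
    have e := Subgroup.mem_center_iff.mp hz ((commutator X).subtype n)
    calc (commutator X).subtype (⟨d, hd⟩ * n * ⟨d, hd⟩⁻¹) = d * (commutator X).subtype n * d⁻¹ := rfl
      _ = d * ((commutator X).subtype n * z) * z⁻¹ * d⁻¹ := by group
      _ = d * z * (commutator X).subtype n * (d * z)⁻¹ := by rw [e]; group
  rcases (hMn.map f hf).eq_bot_or_eq_top with e | e
  · right
    rw [Subgroup.map_eq_bot_iff, QuotientGroup.ker_mk'] at e
    intro n hn
    rw [Subgroup.mem_center_iff]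
    exact fun y => Subtype.ext (Subgroup.mem_center_iff.mp (e ⟨n, hn, rfl⟩) (y : X))
  · left
    have htop' : M ⊔ Subgroup.center X = ⊤ := by
      rw [← QuotientGroup.ker_mk' (Subgroup.center X), ← Subgroup.comap_map_eq, e, Subgroup.comap_top]
    have h1 : commutator X ≤ M := by
      rw [commutator_def, Subgroup.commutator_le]
      intro x _ y _
      obtain ⟨m, hm, z, hz, rfl⟩ := Subgroup.mem_sup_of_normal_right.mp (show x ∈ M ⊔ Subgroup.center X by rw [htop']; trivial)
      rw [commutatorElement_mul_left_eq_conj_mul, commutatorElement_eq_one_iff_mul_comm.mpr (Subgroup.mem_center_iff.mp hz y).symm,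
        mul_one, mul_inv_cancel, one_mul, commutatorElement_def, mul_assoc m, mul_assoc m]
      exact M.mul_mem hm (hMn.conj_mem _ (M.inv_mem hm) y)
    refine top_unique fun d _ => ?_
    obtain ⟨n, hn, e⟩ := h1 d.2
    rwa [← Subtype.ext e]

end Cfsg.Agent.S1258
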