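import Cfsg.Statements.S1263
import Cfsg.Agent.Lib.Grp.Components
-- import your own Cfsg.Agent.* helpers here

set_option autoImplicit false
open Cfsg

namespace Cfsg.Agent.S1263

open Cfsg.Agent.Grp

/-- For a finite group G, Z(E(G)) is the subgroup generated by the centres Z(L) of the components L of G (all viewed as subgroups of G). -/
theorem result {G : Type*} [Group G] [Finite G] : (Subgroup.center ↥(Cfsg.layer G)).map (Cfsg.layer G).subtype = ⨆ L : {K : Subgroup G // Cfsg.IsComponent K}, (Subgroup.center ↥(L : Subgroup G)).map (L : Subgroup G).subtype := by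
  rw [center_map_subtype]
  refine le_antisymm ?_ (iSup_le fun L => ?_)
  · obtain ⟨S, hS, e⟩ := components_finset (G := G)
    rw [← e]
    refine (center_sup_components S fun L hL => (hS L).mp hL).trans (iSup₂_le fun L hL => ?_)
    rw [← center_map_subtype]
    exact le_iSup (fun L : {K : Subgroup G // Cfsg.IsComponent K} => (Subgroup.center ↥(L : Subgroup G)).map (L : Subgroup G).subtype) ⟨L, (hS L).mp hL⟩
  · obtain ⟨L, hL⟩ := L
    show (Subgroup.center ↥L).map L.subtype ≤ _
    rw [center_map_subtype]
    rintro x ⟨hx, hxc⟩
    refine ⟨IsComponent.le_layer hL hx, ?_⟩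
    have : Cfsg.layer G ≤ Subgroup.centralizer {x} := sSup_le fun K hK y hy => by
      refine Subgroup.mem_centralizer_singleton_iff.mpr ?_
      by_cases e : L = K
      · subst e; exact Subgroup.mem_centralizer_iff.mp hxc y hy
      · exact Subgroup.mem_centralizer_iff.mp (IsComponent.commute hL hK e hx) y hy
    exact Subgroup.mem_centralizer_iff.mpr fun y hy => Subgroup.mem_centralizer_singleton_iff.mp (this hy)

end Cfsg.Agent.S1263
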