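import Cfsg.Statements.S1266
import Cfsg.Agent.Lib.Grp.LocalFitting
-- import your own Cfsg.Agent.* helpers here

set_option autoImplicit false
open Cfsg

namespace Cfsg.Agent.S1266

open Cfsg.Agent.Grp
open scoped commutatorElement

/-- Let P be a p-subgroup of the finite group G and N = N_G(P). Then the preimage in N of E(N / O_{p'}(N)) centralizes O_p(G). -/
theorem result {G : Type*} [Group G] [Finite G] (p : ℕ) [Fact p.Prime] (P : Subgroup G) (hP : IsPGroup p ↥P) : (((Cfsg.layer (↥(Subgroup.normalizer ((P : Subgroup G) : Set G)) ⧸ Cfsg.pPrimeCore p ↥(Subgroup.normalizer ((P : Subgroup G) : Set G)))).comap (QuotientGroup.mk' (Cfsg.pPrimeCore p ↥(Subgroup.normalizer ((P : Subgroup G) : Set G))))).map (Subgroup.normalizer ((P : Subgroup G) : Set G)).subtype) ≤ Subgroup.centralizer (Cfsg.pCore p G : Set G) := by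
  set N := Subgroup.normalizer (P : Set G) with hN
  have hOn := pPrimeCore_isNormal (p := p) (G := N)
  set f := QuotientGroup.mk' (Cfsg.pPrimeCore p N) with hf
  have hfs : Function.Surjective f := QuotientGroup.mk'_surjective _
  set E := Cfsg.layer (N ⧸ Cfsg.pPrimeCore p N)
  set D := E.comap f
  set R := Cfsg.pCore p N
  have hRn : R.Normal := pCore_isNormal
  have hRD : D ≤ Subgroup.centralizer (R : Set N) := by
    refine Subgroup.commutator_eq_bot_iff_le_centralizer.mp (le_bot_iff.mp ?_)
    have h1 : ⁅D, R⁆ ≤ R := Subgroup.commutator_le_right D R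
    have h2 : (⁅D, R⁆).map f = ⊥ := by
      rw [Subgroup.map_commutator, Subgroup.map_comap_eq_self_of_surjective hfs]
      have hn : (R.map f).Normal := hRn.map f hfs
      have := ((pCore_isPGroup (p := p) (G := N)).map f).isNilpotent
      exact Subgroup.commutator_eq_bot_iff_le_centralizer.mpr (layer_le_centralizer_solvable _ inferInstance)
    rw [Subgroup.map_eq_bot_iff, QuotientGroup.ker_mk'] at h2
    refine (le_inf h1 h2).trans (le_of_eq (inf_eq_bot_of_coprime ?_))
    obtain ⟨k, hk⟩ := IsPGroup.iff_card.mp (pCore_isPGroup (p := p) (G := N))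
    rw [hk]
    exact Nat.Coprime.pow_left k (pPrimeCore_coprime (p := p)).symm
  set C := (Subgroup.centralizer (Cfsg.pCore p G : Set G)).subgroupOf N
  have key : ∀ y ∈ D, (orderOf y).Coprime p → y ∈ C := by
    intro y hy hyo
    refine mem_centralizer_pCore_of_local hP (by rwa [Subgroup.coe_subtype, Subgroup.orderOf_coe]) ?_
    rw [Subgroup.mem_centralizer_iff]
    rintro _ ⟨r, hr, rfl⟩
    exact congrArg Subtype.val (Subgroup.mem_centralizer_iff.mp (hRD hy) r hr)
  have hO : Cfsg.pPrimeCore p N ≤ C := fun y hy => key y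
    (show f y ∈ E by rw [show f y = 1 from (QuotientGroup.eq_one_iff y).mpr hy]; exact E.one_mem)
    (Nat.Coprime.coprime_dvd_left (Subgroup.orderOf_dvd_natCard _ hy) pPrimeCore_coprime)
  have hE : E ≤ C.map f := by
    refine perfect_le_of_coprime_elements (p := p) layer_perfect fun z hz hzo => ?_
    obtain ⟨y, rfl⟩ := hfs z
    refine ⟨y, key y hz ?_, rfl⟩
    have h1 : y ^ orderOf (f y) ∈ Cfsg.pPrimeCore p N := by
      refine (QuotientGroup.eq_one_iff _).mp (show f (y ^ orderOf (f y)) = 1 from ?_)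
      rw [map_pow, pow_orderOf_eq_one]
    have h2 : orderOf y ∣ orderOf (f y) * Nat.card (Cfsg.pPrimeCore p N) := by
      refine orderOf_dvd_of_pow_eq_one ?_
      rw [pow_mul]
      exact orderOf_dvd_iff_pow_eq_one.mp (Subgroup.orderOf_dvd_natCard _ h1)
    exact Nat.Coprime.coprime_dvd_left h2 (hzo.mul_left pPrimeCore_coprime)
  have hD : D ≤ C := by
    refine (Subgroup.comap_mono hE).trans ?_
    rw [Subgroup.comap_map_eq, QuotientGroup.ker_mk']
    exact sup_le le_rfl hO
  rintro _ ⟨y, hy, rfl⟩
  exact hD hy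

end Cfsg.Agent.S1266
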