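import Cfsg.Statements.S1267
import Cfsg.Agent.Lib.Grp.LocalFitting
-- import your own Cfsg.Agent.* helpers here

set_option autoImplicit false
open Cfsg

namespace Cfsg.Agent.S1267

open Cfsg.Agent.Grp

/-- Let G be finite and P ≤ O_p(G). Then E(N_G(P)) = E(G). -/
theorem result {G : Type*} [Group G] [Finite G] (p : ℕ) [Fact p.Prime] (P : Subgroup G) (hP : P ≤ Cfsg.pCore p G) : (Cfsg.layer ↥(Subgroup.normalizer ((P : Subgroup G) : Set G))).map (Subgroup.normalizer ((P : Subgroup G) : Set G)).subtype = Cfsg.layer G := by
  set N := Subgroup.normalizer (P : Set G) with hN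
  have hEN : Cfsg.layer G ≤ N := (layer_le_centralizer_pCore (p := p)).trans
    ((Subgroup.centralizer_le (SetLike.coe_subset_coe.mpr hP)).trans (Subgroup.centralizer_le_normalizer _))
  refine le_antisymm ?_ ?_
  · rw [Cfsg.layer, Subgroup.map_le_iff_le_comap]
    refine sSup_le fun K hK => ?_
    rw [← Subgroup.map_le_iff_le_comap]
    show K.map N.subtype ≤ Cfsg.layer G
    set L := K.map N.subtype with hL
    by_contra hLE
    have hLperf : ⁅L, L⁆ = L := by
      rw [hL, ← Subgroup.map_commutator, IsComponent.perfect hK]
    have hLsolv : ∀ H : Subgroup G, H ≤ N → H.Normal → Group.IsSolvable H → L ≤ Subgroup.centralizer (H : Set G) := by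
      intro H hHN hHn hs
      have hs' : Group.IsSolvable (H.subgroupOf N) :=
        isSolvable_of_injective (Subgroup.subgroupOfEquivOfLe hHN).toMonoidHom (MulEquiv.injective _) hs
      have hn' : (H.subgroupOf N).Normal := inferInstance
      have := component_centralizes_solvable hK hs' (le_top.trans (Subgroup.normalizer_eq_top (H := H.subgroupOf N)).ge)
      have := congrArg (Subgroup.map N.subtype) this
      rw [Subgroup.map_commutator, Subgroup.subgroupOf_map_subtype, inf_eq_left.mpr hHN, Subgroup.map_bot] at this
      exact Subgroup.commutator_eq_bot_iff_le_centralizer.mp this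
    have hLE' : L ≤ Subgroup.centralizer (Cfsg.layer G : Set G) := by
      rw [Subgroup.le_centralizer_iff]
      refine sSup_le fun M hM => ?_
      rw [Subgroup.le_centralizer_iff]
      have hMN : M ≤ N := (IsComponent.le_layer hM).trans hEN
      have hne : K ≠ M.subgroupOf N := fun e => hLE (by
        rw [hL, e, Subgroup.subgroupOf_map_subtype, inf_eq_left.mpr hMN]; exact IsComponent.le_layer hM)
      have := Subgroup.commutator_eq_bot_iff_le_centralizer.mpr
        (IsComponent.commute hK (IsComponent.subgroupOf hM hMN) hne)
      have := congrArg (Subgroup.map N.subtype) this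
      rw [Subgroup.map_commutator, Subgroup.subgroupOf_map_subtype, inf_eq_left.mpr hMN, Subgroup.map_bot] at this
      exact Subgroup.commutator_eq_bot_iff_le_centralizer.mp this
    have hLp : L ≤ Subgroup.centralizer (Cfsg.pCore p G : Set G) :=
      perfect_le_of_coprime_elements (p := p) hLperf fun y hy hyo =>
        mem_centralizer_pCore_of_local ((pCore_isPGroup (p := p)).to_le hP) hyo (component_map_le_centralizer hK hy)
    have hLF : L ≤ Subgroup.centralizer (Cfsg.fittingSubgroup G : Set G) := by
      rw [Subgroup.le_centralizer_iff, fittingSubgroup_eq_iSup_pCore]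
      refine iSup_le fun q => ?_
      rw [Subgroup.le_centralizer_iff]
      by_cases hqp : (q : ℕ) = p
      · rw [hqp]; exact hLp
      · have := Fact.mk q.2
        have h1 : Cfsg.pCore (q : ℕ) G ≤ Subgroup.centralizer (Cfsg.pCore p G : Set G) := by
          have := pCore_isNormal (p := p) (G := G)
          have := pCore_isNormal (p := (q : ℕ)) (G := G)
          exact commute_of_coprime_normal (IsPGroup.coprime_card_of_ne (q : ℕ) p hqp _ _ pCore_isPGroup pCore_isPGroup)
        have := (pCore_isPGroup (p := (q : ℕ)) (G := G)).isNilpotent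
        exact hLsolv _ (h1.trans ((Subgroup.centralizer_le (SetLike.coe_subset_coe.mpr hP)).trans
          (Subgroup.centralizer_le_normalizer _))) pCore_isNormal inferInstance
    have hC : L ≤ Subgroup.centralizer (Cfsg.generalizedFittingSubgroup G : Set G) := by
      rw [Subgroup.le_centralizer_iff]
      exact sup_le (Subgroup.le_centralizer_iff.mp hLE') (Subgroup.le_centralizer_iff.mp hLF)
    have hnil := fittingSubgroup_isNilpotent (G := G)
    have hsol := isSolvable_of_le (hC.trans centralizer_gfitting_le_fitting) inferInstance
    have : L = ⊥ := eq_bot_of_perfect_of_solvable hLperf hsol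
    exact hLE (this ▸ bot_le)
  · refine sSup_le fun M hM => ?_
    have hMN : M ≤ N := (IsComponent.le_layer hM).trans hEN
    rw [← inf_eq_left.mpr hMN, ← Subgroup.subgroupOf_map_subtype]
    exact Subgroup.map_mono (IsComponent.le_layer (IsComponent.subgroupOf hM hMN))

end Cfsg.Agent.S1267
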