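import Cfsg.Statements.S1273
import Cfsg.Agent.Lib.Grp.PComponents
-- import your own Cfsg.Agent.* helpers here

set_option autoImplicit false
open Cfsg

namespace Cfsg.Agent.S1273

open Cfsg.Agent.Grp

/-- Let K be a p-component of the finite group X and N a normal subgroup of K whose index in K is prime to p. Then N = K. -/
theorem result {X : Type*} [Group X] [Finite X] (p : ℕ) [Fact p.Prime] (K : Subgroup X) (hK : Cfsg.IsPComponent p K) (N : Subgroup ↥K) [N.Normal] (hidx : (N.index).Coprime p) : N = ⊤ := by
  set M := N.map K.subtype with hM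
  have hMK : M ≤ K := Subgroup.map_subtype_le N
  have hN : M.subgroupOf K = N := by
    rw [hM, ← Subgroup.comap_subtype, Subgroup.comap_map_eq_self_of_injective (Subgroup.subtype_injective K)]
  have h1 : pRes p K ≤ M := by
    refine pRes_le_of_relIndex hMK (by rw [hN]; exact (inferInstance : N.Normal).isSubnormal) ?_
    rw [Subgroup.relIndex, hN]
    exact fun hd => (Fact.out : p.Prime).ne_one (Nat.eq_one_of_dvd_coprimes hidx hd dvd_rfl)
  have h2 : K ≤ pRes p K := by
    conv_lhs => rw [IsPComponent.eq_pRes hK]
    rw [pRes, Subgroup.closure_le]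
    rintro x ⟨hx, hp⟩
    refine mem_pRes ?_ hp
    rw [IsPComponent.eq_pRes hK]
    exact mem_pRes hx hp
  rw [← hN, Subgroup.subgroupOf_eq_top]
  exact h2.trans h1

end Cfsg.Agent.S1273
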