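import Cfsg.Statements.S1276
import Cfsg.Agent.Lib.Grp.PComponents
-- import your own Cfsg.Agent.* helpers here

set_option autoImplicit false
open Cfsg

namespace Cfsg.Agent.S1276

open Cfsg.Agent.Grp
open scoped commutatorElement

/-- Let K be a 2-component of the finite group X. Then K is quasisimple if and only if ⁅K, O(K)⁆ = 1. -/
theorem result {X : Type*} [Group X] [Finite X] (K : Subgroup X) (hK : Cfsg.IsPComponent 2 K) : Cfsg.IsQuasisimple ↥K ↔ ⁅K, ((Cfsg.oddCore ↥K).map K.subtype)⁆ = ⊥ := by
  have hperf := IsPComponent.perfect hK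
  obtain ⟨hKs, hKc, hmin⟩ := hK
  set Z := (Cfsg.oddCore ↥K).map K.subtype with hZ
  have hZeq : Z = K ⊓ Cfsg.pPrimeCore 2 X := pPrimeCore_component_map hKs
  have hn : (Cfsg.oddCore ↥K).Normal := pPrimeCore_isNormal
  constructor
  · intro hq
    rcases IsQuasisimple.eq_top_or_le_center hq (Cfsg.oddCore ↥K) with e | e
    · exfalso
      refine IsComponent.ne_bot hKc ((Subgroup.map_eq_bot_iff _).mpr ?_)
      rw [QuotientGroup.ker_mk']
      calc K = Z := by rw [hZ, e, ← MonoidHom.range_eq_map, Subgroup.range_subtype]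
        _ ≤ _ := hZeq.le.trans inf_le_right
    · rw [Subgroup.commutator_eq_bot_iff_le_centralizer]
      intro k hk
      rw [Subgroup.mem_centralizer_iff]
      rintro _ ⟨z, hz, rfl⟩
      exact (congrArg Subtype.val (Subgroup.mem_center_iff.mp (e hz) ⟨k, hk⟩)).symm
  · intro h
    have hne : Nontrivial K := (Subgroup.nontrivial_iff_ne_bot K).mpr fun e => IsComponent.ne_bot hKc (by rw [e, Subgroup.map_bot])
    refine isQuasisimple_of (Subgroup.isPerfect_iff.mpr hperf) fun N hN => ?_
    set M := N.map K.subtype with hM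
    have hMK : M ≤ K := Subgroup.map_subtype_le N
    set f := QuotientGroup.mk' (Cfsg.pPrimeCore 2 X) with hf
    have hfs : Function.Surjective f := QuotientGroup.mk'_surjective _
    have hMs : M.IsSubnormal := hN.isSubnormal.trans' hKs
    rcases IsQuasisimple.eq_top_or_le_center_of_subnormal hKc.2
      ((hMs.map hfs).subgroupOf (K := K.map f)) with e | e
    · left
      have hMe : M = K := hmin M hMs hMK (le_antisymm (Subgroup.map_mono hMK) (Subgroup.subgroupOf_eq_top.mp e))
      refine top_unique fun x _ => ?_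
      obtain ⟨y, hy, hxy⟩ := hMe.ge x.2
      rwa [← Subtype.ext hxy]
    · right
      have h1 : ⁅⁅M, K⁆, K⁆ = ⊥ := by
        refine le_bot_iff.mp (le_trans (Subgroup.commutator_mono (?_ : ⁅M, K⁆ ≤ Z) le_rfl)
          (by rw [Subgroup.commutator_comm, h]))
        rw [hZeq]
        refine le_inf ((Subgroup.commutator_mono hMK le_rfl).trans (Subgroup.commutator_le_self K)) ?_
        rw [Subgroup.commutator_le]
        intro m hm k hk
        refine (QuotientGroup.eq_one_iff _).mp (show f ⁅m, k⁆ = 1 from ?_)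
        rw [map_commutatorElement, commutatorElement_eq_one_iff_mul_comm]
        exact (congrArg Subtype.val (Subgroup.mem_center_iff.mp (e (show ⟨f m, Subgroup.mem_map_of_mem f (hMK hm)⟩ ∈ (M.map f).subgroupOf (K.map f) from Subgroup.mem_map_of_mem f hm))
          ⟨f k, Subgroup.mem_map_of_mem f hk⟩)).symm
      have h2 : ⁅⁅K, K⁆, M⁆ = ⊥ := Subgroup.commutator_commutator_eq_bot_of_rotate
        (by rw [Subgroup.commutator_comm K M]; exact h1) h1
      rw [hperf, Subgroup.commutator_eq_bot_iff_le_centralizer] at h2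
      intro n hn'
      rw [Subgroup.mem_center_iff]
      exact fun y => Subtype.ext (Subgroup.mem_centralizer_iff.mp (h2 y.2) n ⟨n, hn', rfl⟩).symm

end Cfsg.Agent.S1276
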