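import Cfsg.Statements.S1277
import Cfsg.Agent.Lib.Grp.PComponents
-- import your own Cfsg.Agent.* helpers here

set_option autoImplicit false
open Cfsg

namespace Cfsg.Agent.S1277

open Cfsg.Agent.Grp

/-- For a finite group X with core O(X): the image of E(X) in X / O(X) is all of E(X / O(X)) if and only if every 2-component of X is a component, i.e. L_{2'}(X) ≤ E(X). -/
theorem result {X : Type*} [Group X] [Finite X] : (Cfsg.layer X).map (QuotientGroup.mk' (Cfsg.oddCore X)) = Cfsg.layer (X ⧸ Cfsg.oddCore X) ↔ Cfsg.pLayer 2 X ≤ Cfsg.layer X := by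
  set f := QuotientGroup.mk' (Cfsg.oddCore X) with hf
  have hfs : Function.Surjective f := QuotientGroup.mk'_surjective _
  have himg : ∀ L, Cfsg.IsComponent L → L.map f = ⊥ ∨ Cfsg.IsComponent (L.map f) := fun L hL => by
    refine (eq_or_ne (L.map f) ⊥).imp id fun hne => ⟨hL.1.map hfs, ?_⟩
    have := (Subgroup.nontrivial_iff_ne_bot _).mpr hne
    let φ : L →* L.map f := MonoidHom.codRestrict (f.comp L.subtype) _ fun k => ⟨k, k.2, rfl⟩
    exact IsQuasisimple.of_surjective hL.2 (f := φ) fun ⟨z, k, hk, e⟩ => ⟨⟨k, hk⟩, Subtype.ext e⟩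
  have hle : (Cfsg.layer X).map f ≤ Cfsg.layer (X ⧸ Cfsg.oddCore X) := by
    rw [Cfsg.layer, Subgroup.map_le_iff_le_comap]
    refine sSup_le fun L hL => ?_
    rw [← Subgroup.map_le_iff_le_comap]
    rcases himg L hL with e | e
    · rw [e]; exact bot_le
    · exact IsComponent.le_layer e
  constructor
  · intro h
    refine sSup_le fun K hK => ?_
    by_cases hex : ∃ L, Cfsg.IsComponent L ∧ L.map f = K.map f
    · obtain ⟨L, hL, he⟩ := hex
      have hLp : Cfsg.IsPComponent 2 L := by
        refine ⟨hL.1, he ▸ hK.2.1, fun H hH hHL hHm => ?_⟩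
        rcases IsQuasisimple.eq_top_or_le_center_of_subnormal hL.2 (hH.subgroupOf (K := L)) with e | e
        · exact le_antisymm hHL (Subgroup.subgroupOf_eq_top.mp e)
        · exfalso
          refine IsComponent.ne_bot (he ▸ hK.2.1 : Cfsg.IsComponent (L.map f)) (eq_bot_of_perfect_of_comm (by rw [← Subgroup.map_commutator, IsComponent.perfect hL]) ?_)
          show L.map f ≤ Subgroup.centralizer ((L.map f : Subgroup _) : Set _)
          rw [← hHm]
          rintro _ ⟨a, ha, rfl⟩
          rw [Subgroup.mem_centralizer_iff]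
          rintro _ ⟨b, hb, rfl⟩
          rw [← map_mul, ← map_mul]
          exact congrArg f (congrArg Subtype.val (Subgroup.mem_center_iff.mp (e (show ⟨a, hHL ha⟩ ∈ H.subgroupOf L from ha)) ⟨b, hHL hb⟩))
      rw [← IsPComponent.eq_of_map_eq hLp hK he]
      exact IsComponent.le_layer hL
    · exfalso
      have hc : Cfsg.layer (X ⧸ Cfsg.oddCore X) ≤ Subgroup.centralizer ((K.map f : Subgroup _) : Set _) := by
        rw [← h, Cfsg.layer, Subgroup.map_le_iff_le_comap]
        refine sSup_le fun L hL => ?_
        rw [← Subgroup.map_le_iff_le_comap]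
        rcases himg L hL with e | e
        · rw [e]; exact bot_le
        · exact IsComponent.commute e hK.2.1 fun e' => hex ⟨L, hL, e'⟩
      exact IsComponent.ne_bot hK.2.1 (eq_bot_of_perfect_of_comm (IsComponent.perfect hK.2.1) ((IsComponent.le_layer hK.2.1).trans hc))
  · intro h
    refine le_antisymm hle ?_
    exact (pLayer_map (p := 2) (G := X)).symm.le.trans (Subgroup.map_mono h)

end Cfsg.Agent.S1277
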