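import Cfsg.Statements.S1278
import Cfsg.Agent.Lib.Grp.PComponents
-- import your own Cfsg.Agent.* helpers here

set_option autoImplicit false
open Cfsg

namespace Cfsg.Agent.S1278

open Cfsg.Agent.Grp

/-- Let K ≠ L be 2-components of the finite group X. Then ⁅K, L⁆ ≤ O(K) ⊓ O(L), and if K is quasisimple then ⁅K, L⁆ = 1. -/
theorem result {X : Type*} [Group X] [Finite X] (K L : Subgroup X) (hK : Cfsg.IsPComponent 2 K) (hL : Cfsg.IsPComponent 2 L) (hne : K ≠ L) : ⁅K, L⁆ ≤ ((Cfsg.oddCore ↥K).map K.subtype) ⊓ ((Cfsg.oddCore ↥L).map L.subtype) ∧ (Cfsg.IsQuasisimple ↥K → ⁅K, L⁆ = ⊥) := by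
  have hne' : K.map (QuotientGroup.mk' (Cfsg.pPrimeCore 2 X)) ≠ L.map (QuotientGroup.mk' (Cfsg.pPrimeCore 2 X)) :=
    fun e => hne (IsPComponent.eq_of_map_eq hK hL e)
  have hO : ⁅K, L⁆ ≤ Cfsg.pPrimeCore 2 X := by
    have h1 := Subgroup.commutator_eq_bot_iff_le_centralizer.mpr (IsComponent.commute hK.2.1 hL.2.1 hne')
    rwa [← Subgroup.map_commutator, Subgroup.map_eq_bot_iff, QuotientGroup.ker_mk'] at h1
  have hKle : ⁅K, L⁆ ≤ K := Subgroup.le_normalizer_iff_commutator_le_left.mp ((le_sSup hL : L ≤ Cfsg.pLayer 2 X).trans (pLayer_le_normalizer hK))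
  have hLle : ⁅K, L⁆ ≤ L := Subgroup.le_normalizer_iff_commutator_le_right.mp ((le_sSup hK : K ≤ Cfsg.pLayer 2 X).trans (pLayer_le_normalizer hL))
  refine ⟨?_, fun hq => ?_⟩
  · show ⁅K, L⁆ ≤ _
    rw [pPrimeCore_component_map hK.1, pPrimeCore_component_map hL.1]
    exact le_inf (le_inf hKle hO) (le_inf hLle hO)
  · have hn : (Cfsg.pPrimeCore 2 ↥K).Normal := pPrimeCore_isNormal
    have hZc : Cfsg.pPrimeCore 2 ↥K ≤ Subgroup.center ↥K := by
      refine (IsQuasisimple.eq_top_or_le_center hq _).resolve_left fun e => IsComponent.ne_bot hK.2.1 ((Subgroup.map_eq_bot_iff _).mpr ?_)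
      rw [QuotientGroup.ker_mk']
      calc K = (Cfsg.pPrimeCore 2 ↥K).map K.subtype := by rw [e, ← MonoidHom.range_eq_map, Subgroup.range_subtype]
        _ ≤ _ := (pPrimeCore_component_map hK.1).le.trans inf_le_right
    have h1 : ⁅⁅K, L⁆, K⁆ = ⊥ := by
      rw [Subgroup.commutator_eq_bot_iff_le_centralizer]
      refine (le_inf hKle hO).trans ((pPrimeCore_component_map hK.1).ge.trans ?_)
      rintro _ ⟨z, hz, rfl⟩
      exact Subgroup.mem_centralizer_iff.mpr fun k hk => congrArg Subtype.val (Subgroup.mem_center_iff.mp (hZc hz) ⟨k, hk⟩)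
    have h2 : ⁅⁅K, K⁆, L⁆ = ⊥ := Subgroup.commutator_commutator_eq_bot_of_rotate h1 (by rw [Subgroup.commutator_comm L K]; exact h1)
    rwa [IsPComponent.perfect hK] at h2

end Cfsg.Agent.S1278
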