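import Cfsg.Statements.S1279
import Cfsg.Agent.Lib.Grp.CoprimeFactor
-- import your own Cfsg.Agent.* helpers here

set_option autoImplicit false
open Cfsg

namespace Cfsg.Agent.S1279

open Cfsg.Agent.Grp
open scoped Pointwise commutatorElement

/-- Let A be a noncyclic elementary abelian p-subgroup of the finite group G such that C_G(a) is solvable for every non-identity a ∈ A. Then a ↦ O_{p'}(C_G(a)) is a solvable A-signalizer functor on G. -/
theorem result {G : Type*} [Group G] [Finite G] (p : ℕ) [Fact p.Prime] (A : Subgroup G) (hA : Cfsg.IsElementaryAbelian p A) (hA2 : p ^ 2 ≤ Nat.card ↥A) (hsolv : ∀ a ∈ A, a ≠ 1 → Group.IsSolvable ↥(Subgroup.centralizer ({a} : Set G))) : Cfsg.IsSolvableSignalizerFunctor p A (fun a => Cfsg.centralizerPPrimeCore p a) := by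
  have hAc : ∀ a ∈ A, A ≤ Subgroup.centralizer ({a} : Set G) := fun a ha b hb =>
    Subgroup.mem_centralizer_iff.mpr fun z hz => by
      rw [Set.mem_singleton_iff] at hz; subst hz; exact elemAb_comm hA z ha b hb
  refine ⟨⟨fun a _ _ => Subgroup.map_subtype_le _, ?_, ?_, ?_⟩, ?_⟩
  · intro a _ _ h
    simp only [Cfsg.centralizerPPrimeCore, Subgroup.card_subtype] at h
    exact pPrimeCore_not_dvd h
  · rintro a ha _ b hb x ⟨y, hy, rfl⟩
    exact ⟨⟨b, hAc a ha hb⟩ * y * ⟨b, hAc a ha hb⟩⁻¹,
      (pPrimeCore_isNormal (p := p)).conj_mem y hy _, rfl⟩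
  · intro a ha ha1 b hb hb1 x hx
    obtain ⟨⟨y, hy, rfl⟩, hyb⟩ := hx
    have := hsolv b hb hb1
    set Cb := Subgroup.centralizer ({b} : Set G) with hCb
    let a' : Cb := ⟨a, hAc b hb ha⟩
    have hp' : IsPGroup p (Subgroup.zpowers a') := by
      refine IsPGroup.of_card (n := 1) ?_
      rw [Nat.card_zpowers, pow_one, ← Subgroup.orderOf_coe]
      exact orderOf_eq_prime (hA.2 a ha) ha1
    -- the part of the core inside both centralizers
    let f : ↥(Subgroup.centralizer ({a'} : Set Cb)) →* ↥(Subgroup.centralizer ({a} : Set G)) :=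
      { toFun := fun z => ⟨(z : Cb), Subgroup.mem_centralizer_iff.mpr fun w hw => by
          rw [Set.mem_singleton_iff] at hw; subst hw
          exact congrArg Subtype.val (Subgroup.mem_centralizer_iff.mp z.2 a' rfl)⟩
        map_one' := rfl
        map_mul' := fun _ _ => rfl }
    have hf : Function.Injective f := fun z w e => Subtype.ext (Subtype.ext (congrArg (fun t : ↥(Subgroup.centralizer ({a} : Set G)) => (t : G)) e))
    let z : ↥(Subgroup.centralizer ({a'} : Set Cb)) :=
      ⟨⟨y, hyb⟩, Subgroup.mem_centralizer_iff.mpr fun w hw => by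
        rw [Set.mem_singleton_iff] at hw; subst hw
        exact Subtype.ext (Subgroup.mem_centralizer_iff.mp y.2 a rfl)⟩
    have hz : z ∈ Cfsg.pPrimeCore p ↥(Subgroup.centralizer ({a'} : Set Cb)) := by
      have hn : ((Cfsg.pPrimeCore p ↥(Subgroup.centralizer ({a} : Set G))).comap f).Normal :=
        (pPrimeCore_isNormal (p := p)).comap f
      refine le_pPrimeCore hn ?_ (show f z ∈ _ from hy)
      exact (pPrimeCore_coprime (p := p)).coprime_dvd_left
        (Subgroup.card_comap_dvd_of_injective _ f hf)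
    exact ⟨⟨y, hyb⟩, centralizerPPrimeCore_le hp' ⟨z, hz, rfl⟩, rfl⟩
  · intro a ha ha1
    exact isSolvable_of_le (Subgroup.map_subtype_le _) (hsolv a ha ha1)

end Cfsg.Agent.S1279
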