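import Cfsg.Statements.S1281
import Cfsg.Agent.Lib.Grp.CoprimeFactor
-- import your own Cfsg.Agent.* helpers here

set_option autoImplicit false
open Cfsg

namespace Cfsg.Agent.S1281

open Cfsg.Agent.Grp
open scoped Pointwise commutatorElement

/-- Let θ be a solvable A-signalizer functor on the finite group G (A a noncyclic elementary abelian p-subgroup) and N a normal subgroup of order prime to p. Then for all non-identity a, b ∈ A, the image of θ a in G / N meets the centralizer of the image of b inside the image of θ b. -/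
theorem result {G : Type*} [Group G] [Finite G] (p : ℕ) [Fact p.Prime] (A : Subgroup G) (hA : Cfsg.IsElementaryAbelian p A) (hA2 : p ^ 2 ≤ Nat.card ↥A) (θ : G → Subgroup G) (hθ : Cfsg.IsSolvableSignalizerFunctor p A θ) (N : Subgroup G) [N.Normal] (hN : ¬ p ∣ Nat.card ↥N) (a b : G) (ha : a ∈ A) (ha1 : a ≠ 1) (hb : b ∈ A) (hb1 : b ≠ 1) : (θ a).map (QuotientGroup.mk' N) ⊓ Subgroup.centralizer {QuotientGroup.mk' N b} ≤ (θ b).map (QuotientGroup.mk' N) := by
  rintro _ ⟨⟨k, hk, rfl⟩, hkb⟩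
  have hbA : Subgroup.zpowers b ≤ A := Subgroup.zpowers_le.mpr hb
  have hθn : A ≤ Subgroup.normalizer (θ a : Set G) := IsSignalizer.invariant hθ.1 ha ha1
  have hbk : ∀ c ∈ Subgroup.zpowers b, c * k * c⁻¹ * k⁻¹ ∈ N ⊓ θ a := by
    intro c hc
    refine ⟨?_, (θ a).mul_mem (mem_conj_normalizer (hθn (hbA hc)) hk) ((θ a).inv_mem hk)⟩
    show c * k * c⁻¹ * k⁻¹ ∈ N
    rw [← QuotientGroup.ker_mk' N, MonoidHom.mem_ker, map_mul, map_mul, map_mul, map_inv, map_inv]
    have hmem : QuotientGroup.mk' N c ∈ Subgroup.zpowers (QuotientGroup.mk' N b) := by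
      rw [← MonoidHom.map_zpowers]; exact Subgroup.mem_map_of_mem _ hc
    rw [centralizer_singleton_eq_zpowers] at hkb
    have := Subgroup.mem_centralizer_iff.mp hkb _ hmem
    rw [this]; group
  have hcop := coprime_elemAb hA (hθ.1.2.1 a ha ha1)
  have hNn : ∀ H : Subgroup G, H ≤ Subgroup.normalizer (N : Set G) := fun H =>
    le_top.trans (Subgroup.normalizer_eq_top (H := N)).ge
  obtain ⟨c, ⟨hcθ, hcb⟩, hc⟩ := exists_fixed_rep (Subgroup.zpowers b) (θ a) (N ⊓ θ a) (hbA.trans hθn)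
    (inf_eq_bot_of_coprime (hcop.coprime_dvd_left (Subgroup.card_dvd_of_le hbA)))
    ((hcop.coprime_dvd_left (Subgroup.card_dvd_of_le hbA)).coprime_dvd_right
      (Subgroup.card_dvd_of_le inf_le_right))
    (Or.inr (isSolvable_of_le inf_le_right (hθ.2 a ha ha1))) inf_le_right
    (le_normalizer_inf' (hNn _) Subgroup.le_normalizer)
    (le_normalizer_inf' (hNn _) (hbA.trans hθn)) hk hbk
  rw [← centralizer_singleton_eq_zpowers] at hcb
  refine ⟨c, hθ.1.2.2.2 a ha ha1 b hb hb1 ⟨hcθ, hcb⟩, ?_⟩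
  exact (QuotientGroup.eq.mpr hc.1).symm

end Cfsg.Agent.S1281
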