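import Cfsg.Statements.S1285
import Cfsg.Agent.Lib.Grp.CoprimeFactor
-- import your own Cfsg.Agent.* helpers here

set_option autoImplicit false
open Cfsg

namespace Cfsg.Agent.S1285

open Cfsg.Agent.Grp
open scoped Pointwise commutatorElement

/-- Let θ be a solvable A-signalizer functor on the finite group G with A elementary abelian of rank at least 3, and suppose that for some prime q every θ a (a ∈ A non-identity) is a q-group. Then θ is complete. -/
theorem result {G : Type*} [Group G] [Finite G] (p : ℕ) [Fact p.Prime] (A : Subgroup G) (hA : Cfsg.IsElementaryAbelian p A) (hA3 : p ^ 3 ≤ Nat.card ↥A) (θ : G → Subgroup G) (hθ : Cfsg.IsSolvableSignalizerFunctor p A θ) (q : ℕ) [Fact q.Prime] (hq : ∀ a ∈ A, a ≠ 1 → IsPGroup q ↥(θ a)) : Cfsg.IsCompleteSignalizerFunctor p A θ := by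
  have hA1 : A ≠ ⊥ := ne_bot_of_card (by norm_num) hA3
  obtain ⟨a₀, ha₀, ha₀1⟩ : ∃ b ∈ A, b ≠ 1 := by
    by_contra h
    push Not at h
    exact hA1 ((Subgroup.eq_bot_iff_forall _).mpr h)
  have hCW := signalizerInf_mem_family hθ le_rfl hA1
  have hCq : IsPGroup q ↥(Cfsg.signalizerInf A θ) := (hq a₀ ha₀ ha₀1).to_le (signalizerInf_le ha₀ ha₀1)
  obtain ⟨R, hR, hCR⟩ := exists_maxQMember hCW hCq
  refine ⟨hθ.1, R, hR.1.2.2.1, hR.1.2.1, fun a ha ha1 => le_antisymm (hR.1.2.2.2 a ha ha1)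
    (le_inf ?_ (hθ.1.1 a ha ha1))⟩
  obtain ⟨R', hR', hle⟩ := exists_maxQMember (theta_mem_family hθ ha ha1) (hq a ha ha1)
  obtain ⟨c, hc, e⟩ := maxQMember_conj hA hA3 hθ hR hR'
  rwa [← e, conj_smul_eq_self_of_mem (hCR hc)] at hle

end Cfsg.Agent.S1285
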