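import Cfsg.Statements.S1286
import Mathlib

set_option autoImplicit false
open Cfsg

namespace Cfsg.Agent.S1286

/-- There exist a finite group X, an elementary abelian subgroup A of order 4 and a solvable A-signalizer functor θ on X for the prime 2 which is not complete. -/
theorem result : ∃ (X : Type) (_ : Group X) (_ : Finite X) (A : Subgroup X) (θ : X → Subgroup X), Cfsg.IsElementaryAbelian 2 A ∧ Nat.card ↥A = 4 ∧ Cfsg.IsSolvableSignalizerFunctor 2 A θ ∧ ¬ Cfsg.IsCompleteSignalizerFunctor 2 A θ := by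
  classical
  refine ⟨Equiv.Perm (Fin 5), inferInstance, inferInstance, ?_⟩
  set a : Equiv.Perm (Fin 5) := Equiv.swap 0 1 with ha
  set b : Equiv.Perm (Fin 5) := Equiv.swap 2 3 with hb
  set x : Equiv.Perm (Fin 5) := Equiv.swap 2 3 * Equiv.swap 3 4 with hx
  set y : Equiv.Perm (Fin 5) := Equiv.swap 0 1 * Equiv.swap 1 4 with hy
  have fact : ∀ P : Prop, P → P := fun _ h => h
  have e1 : a * a = 1 ∧ b * b = 1 ∧ a * b = b * a ∧ a ≠ 1 ∧ b ≠ 1 ∧ a ≠ b ∧ a * b ≠ 1 := by
    simp only [ha, hb]; decide +kernel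
  obtain ⟨haa, hbb, hab, ha1, hb1, hne, hab1⟩ := e1
  let A : Subgroup (Equiv.Perm (Fin 5)) :=
    { carrier := {1, a, b, a * b}
      one_mem' := Set.mem_insert 1 _
      mul_mem' := fun {u v} => by
        simp only [Set.mem_insert_iff, Set.mem_singleton_iff]
        rintro (rfl | rfl | rfl | rfl) (rfl | rfl | rfl | rfl) <;> simp only [ha, hb] <;> decide +kernel
      inv_mem' := fun {u} => by
        simp only [Set.mem_insert_iff, Set.mem_singleton_iff]
        rintro (rfl | rfl | rfl | rfl) <;> simp only [ha, hb] <;> decide +kernel }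
  have hmem : ∀ u, u ∈ A ↔ u = 1 ∨ u = a ∨ u = b ∨ u = a * b := fun u => Iff.rfl
  have hx3 : orderOf x = 3 := by
    haveI : Fact (Nat.Prime 3) := ⟨Nat.prime_three⟩
    exact orderOf_eq_prime (by simp only [hx]; decide +kernel) (by simp only [hx]; decide +kernel)
  have hy3 : orderOf y = 3 := by
    haveI : Fact (Nat.Prime 3) := ⟨Nat.prime_three⟩
    exact orderOf_eq_prime (by simp only [hy]; decide +kernel) (by simp only [hy]; decide +kernel)
  let θ : Equiv.Perm (Fin 5) → Subgroup (Equiv.Perm (Fin 5)) := fun u =>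
    if u = a then Subgroup.zpowers x else if u = b then Subgroup.zpowers y else ⊥
  have hθa : θ a = Subgroup.zpowers x := if_pos rfl
  have hθb : θ b = Subgroup.zpowers y := by simp [θ, hne.symm]
  have hθab : θ (a * b) = ⊥ := by
    have h1 : a * b ≠ a := fun h => hb1 (mul_eq_left.mp h)
    have h2 : a * b ≠ b := fun h => ha1 (mul_eq_right.mp h)
    simp [θ, h1, h2]
  have hpow : ∀ (z : Equiv.Perm (Fin 5)), orderOf z = 3 → ∀ w ∈ Subgroup.zpowers z, w = 1 ∨ w = z ∨ w = z * z := by
    intro z hz w hw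
    obtain ⟨k, rfl⟩ := Subgroup.mem_zpowers_iff.mp hw
    rw [← zpow_mod_orderOf, hz]
    have : k % (3 : ℕ) = 0 ∨ k % (3 : ℕ) = 1 ∨ k % (3 : ℕ) = 2 := by omega
    rcases this with h | h | h <;> rw [h]
    · exact Or.inl (zpow_zero z)
    · exact Or.inr (Or.inl (zpow_one z))
    · exact Or.inr (Or.inr (zpow_two z))
  have hinvm : ∀ (z : Equiv.Perm (Fin 5)) (u : Equiv.Perm (Fin 5)), (u * z * u⁻¹ = z ∨ u * z * u⁻¹ = z⁻¹) →
      ∀ w ∈ Subgroup.zpowers z, u * w * u⁻¹ ∈ Subgroup.zpowers z := by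
    rintro z u hu _ ⟨k, rfl⟩
    show u * z ^ k * u⁻¹ ∈ _
    rw [← conj_zpow]
    rcases hu with h | h <;> rw [h]
    · exact zpow_mem (Subgroup.mem_zpowers z) k
    · exact zpow_mem (inv_mem (Subgroup.mem_zpowers z)) k
  have hA2 : ∀ u ∈ A, u ^ 2 = 1 := by
    intro u hu
    rcases (hmem u).mp hu with rfl | rfl | rfl | rfl <;> rw [pow_two] <;> (try simp only [ha, hb]) <;> decide +kernel
  have hcard : Nat.card A = 4 := by
    have hs : ((A : Set (Equiv.Perm (Fin 5)))) = (({1, a, b, a * b} : Finset (Equiv.Perm (Fin 5))) : Set _) := by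
      ext u; simp [hmem]
    rw [← SetLike.coe_sort_coe, hs, Nat.card_coe_set_eq, Set.ncard_coe_finset]
    simp only [ha, hb]; decide +kernel
  refine ⟨A, θ, ⟨⟨⟨fun u v => Subtype.ext ?_⟩⟩, hA2⟩, hcard, ⟨⟨?_, ?_, ?_, ?_⟩, ?_⟩, ?_⟩
  · obtain ⟨u, hu⟩ := u; obtain ⟨v, hv⟩ := v
    show u * v = v * u
    rcases (hmem u).mp hu with rfl | rfl | rfl | rfl <;> rcases (hmem v).mp hv with rfl | rfl | rfl | rfl <;>
      simp only [ha, hb] <;> decide +kernel
  · intro u hu hu1
    rcases (hmem u).mp hu with rfl | rfl | rfl | rfl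
    · exact absurd rfl hu1
    · rw [hθa, Subgroup.zpowers_le, Subgroup.mem_centralizer_singleton_iff]; simp only [ha, hx]; decide +kernel
    · rw [hθb, Subgroup.zpowers_le, Subgroup.mem_centralizer_singleton_iff]; simp only [hb, hy]; decide +kernel
    · rw [hθab]; exact bot_le
  · intro u hu hu1
    rcases (hmem u).mp hu with rfl | rfl | rfl | rfl
    · exact absurd rfl hu1
    · rw [hθa, Nat.card_zpowers, hx3]; decide
    · rw [hθb, Nat.card_zpowers, hy3]; decide
    · rw [hθab, Subgroup.card_bot]; decide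
  · intro u hu hu1 v hv w hw
    rcases (hmem u).mp hu with rfl | rfl | rfl | rfl
    · exact absurd rfl hu1
    · rw [hθa] at hw ⊢
      refine hinvm x v ?_ w hw
      rcases (hmem v).mp hv with rfl | rfl | rfl | rfl <;> simp only [ha, hb, hx] <;> decide +kernel
    · rw [hθb] at hw ⊢
      refine hinvm y v ?_ w hw
      rcases (hmem v).mp hv with rfl | rfl | rfl | rfl <;> simp only [ha, hb, hy] <;> decide +kernel
    · rw [hθab] at hw ⊢
      rw [Subgroup.mem_bot] at hw
      rw [hw, mul_one, mul_inv_cancel]; exact one_mem _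
  · intro u hu hu1 v hv hv1 w hw
    obtain ⟨hwu, hwv⟩ := hw
    have hwc : w * v = v * w := Subgroup.mem_centralizer_singleton_iff.mp hwv
    rcases (hmem u).mp hu with rfl | rfl | rfl | rfl
    · exact absurd rfl hu1
    · rw [SetLike.mem_coe, hθa] at hwu
      rcases (hmem v).mp hv with rfl | rfl | rfl | rfl
      · exact absurd rfl hv1
      · rwa [hθa]
      all_goals
        rcases hpow x hx3 w hwu with rfl | rfl | rfl
        · exact one_mem _
        · exfalso; revert hwc; simp only [ha, hb, hx]; decide +kernel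
        · exfalso; revert hwc; simp only [ha, hb, hx]; decide +kernel
    · rw [SetLike.mem_coe, hθb] at hwu
      rcases (hmem v).mp hv with rfl | rfl | rfl | rfl
      · exact absurd rfl hv1
      swap
      · rwa [hθb]
      all_goals
        rcases hpow y hy3 w hwu with rfl | rfl | rfl
        · exact one_mem _
        · exfalso; revert hwc; simp only [ha, hb, hy]; decide +kernel
        · exfalso; revert hwc; simp only [ha, hb, hy]; decide +kernel
    · replace hwu : w ∈ (⊥ : Subgroup _) := hθab ▸ hwu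
      rw [Subgroup.mem_bot] at hwu
      rw [hwu]; exact one_mem _
  · intro u hu hu1
    rcases (hmem u).mp hu with rfl | rfl | rfl | rfl
    · exact absurd rfl hu1
    · rw [hθa]; infer_instance
    · rw [hθb]; infer_instance
    · rw [hθab]; infer_instance
  · rintro ⟨-, X, -, hXp, hX⟩
    have hxX : x ∈ X := ((hX a ((hmem a).mpr (Or.inr (Or.inl rfl))) ha1).ge (by rw [hθa]; exact Subgroup.mem_zpowers x)).1
    have hyX : y ∈ X := ((hX b ((hmem b).mpr (Or.inr (Or.inr (Or.inl rfl)))) hb1).ge (by rw [hθb]; exact Subgroup.mem_zpowers y)).1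
    have he : (x * x * y * x * y) ^ 2 = 1 ∧ x * x * y * x * y ≠ 1 := by
      simp only [hx, hy]; decide +kernel
    haveI : Fact (Nat.Prime 2) := ⟨Nat.prime_two⟩
    exact hXp (orderOf_eq_prime he.1 he.2 ▸ Subgroup.orderOf_dvd_natCard X
      (X.mul_mem (X.mul_mem (X.mul_mem (X.mul_mem hxX hxX) hyX) hxX) hyX))

end Cfsg.Agent.S1286
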