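import Cfsg.Statements.S1289
import Cfsg.Agent.Lib.Grp.PComponents
-- import your own Cfsg.Agent.* helpers here

set_option autoImplicit false
open Cfsg

namespace Cfsg.Agent.S1289

open Cfsg.Agent.Grp

/-- A p-component K of the finite group X is subnormal, perfect, of order divisible by p, and minimal among the subnormal perfect subgroups of X of order divisible by p. -/
theorem result {X : Type*} [Group X] [Finite X] (p : ℕ) [Fact p.Prime] (K : Subgroup X) (hK : Cfsg.IsPComponent p K) : K.IsSubnormal ∧ ⁅K, K⁆ = K ∧ p ∣ Nat.card ↥K ∧ ∀ H : Subgroup X, H ≤ K → H.IsSubnormal → ⁅H, H⁆ = H → p ∣ Nat.card ↥H → H = K := by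
  obtain ⟨hKs, hKc, hmin⟩ := hK
  refine ⟨hKs, IsPComponent.perfect ⟨hKs, hKc, hmin⟩, ?_, fun H hHK hH hHp hd => ?_⟩
  · by_contra hd
    have h1 := le_pPrimeCore_of_isSubnormal hKs ((Fact.out : p.Prime).coprime_iff_not_dvd.mpr hd).symm
    refine IsComponent.ne_bot hKc ((Subgroup.map_eq_bot_iff _).mpr ?_)
    rwa [QuotientGroup.ker_mk']
  · refine hmin H hH hHK ?_
    set f := QuotientGroup.mk' (Cfsg.pPrimeCore p X) with hf
    have hle : H.map f ≤ K.map f := Subgroup.map_mono hHK
    rcases IsQuasisimple.eq_top_or_le_center_of_subnormal hKc.2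
      ((hH.map (QuotientGroup.mk'_surjective _)).subgroupOf (K := K.map f)) with e | e
    · exact le_antisymm hle (Subgroup.subgroupOf_eq_top.mp e)
    · exfalso
      have hb : H.map f = ⊥ := by
        refine eq_bot_of_perfect_of_comm (by rw [← Subgroup.map_commutator, hHp]) fun z hz =>
          Subgroup.mem_centralizer_iff.mpr fun w hw => ?_
        exact congrArg Subtype.val (Subgroup.mem_center_iff.mp (e (show ⟨z, hle hz⟩ ∈ (H.map f).subgroupOf (K.map f) from hz)) ⟨w, hle hw⟩)
      rw [Subgroup.map_eq_bot_iff, hf, QuotientGroup.ker_mk'] at hb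
      exact pPrimeCore_not_dvd (hd.trans (Subgroup.card_dvd_of_le hb))

end Cfsg.Agent.S1289
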