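import Cfsg.Statements.S1292
import Cfsg.Agent.Lib.Grp.LocalFitting
-- import your own Cfsg.Agent.* helpers here

set_option autoImplicit false
open Cfsg

namespace Cfsg.Agent.S1292

open Cfsg.Agent.Grp

/-- Let G be a finite group such that F*(C_G(t)) = O_2(C_G(t)) for every involution t. Then F*(N_G(T)) = O_2(N_G(T)) for every nontrivial 2-subgroup T of G. -/
theorem result {G : Type*} [Group G] [Finite G] (h : ∀ t : G, orderOf t = 2 → Cfsg.generalizedFittingSubgroup ↥(Subgroup.centralizer ({t} : Set G)) = Cfsg.pCore 2 ↥(Subgroup.centralizer ({t} : Set G))) (T : Subgroup G) (hT : IsPGroup 2 ↥T) (hT1 : T ≠ ⊥) : Cfsg.generalizedFittingSubgroup ↥(Subgroup.normalizer (T : Set G)) = Cfsg.pCore 2 ↥(Subgroup.normalizer (T : Set G)) := by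
  set N := Subgroup.normalizer (T : Set G) with hNdef
  obtain ⟨z, hz, hz1⟩ : ∃ z : T, z ∈ Subgroup.center T ∧ orderOf z = 2 := by
    have := (Subgroup.nontrivial_iff_ne_bot T).mpr hT1
    have hZ := hT.center_nontrivial
    obtain ⟨k, hk⟩ := IsPGroup.iff_card.mp (hT.to_subgroup (Subgroup.center T))
    have hk0 : k ≠ 0 := fun e => by
      have := Finite.one_lt_card_iff_nontrivial.mpr hZ
      rw [hk, e, pow_zero] at this
      exact lt_irrefl _ this
    obtain ⟨⟨z, hz⟩, hzo⟩ := exists_prime_orderOf_dvd_card' (G := Subgroup.center T) 2 (hk ▸ dvd_pow_self 2 hk0)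
    exact ⟨z, hz, by rw [← hzo]; exact (Subgroup.orderOf_coe (⟨z, hz⟩ : Subgroup.center T))⟩
  set t := (z : G) with ht
  have hto : orderOf t = 2 := by rw [ht, Subgroup.orderOf_coe, hz1]
  set M := Subgroup.centralizer ({t} : Set G) with hMdef
  have hTM : T ≤ M := fun x hx => Subgroup.mem_centralizer_singleton_iff.mpr
    (congrArg Subtype.val (Subgroup.mem_center_iff.mp hz ⟨x, hx⟩))
  set T' := T.subgroupOf M
  have hT' : IsPGroup 2 T' := hT.of_equiv (Subgroup.subgroupOfEquivOfLe hTM).symm
  set N' := Subgroup.normalizer (T' : Set M) with hN'def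
  have hN' := gfitting_normalizer_eq_pCore (h t hto) T' hT'
  set C := (Subgroup.centralizer (T : Set G)).subgroupOf N with hCdef
  have hCn : C.Normal := Subgroup.normal_subgroupOf_of_le_normalizer (by
    intro n hn
    rw [Subgroup.mem_normalizer_iff]
    intro y
    simp only [Subgroup.mem_centralizer_iff]
    have hn' : ∀ w, w ∈ T ↔ n * w * n⁻¹ ∈ T := Subgroup.mem_normalizer_iff.mp hn
    constructor
    · intro hy w hw
      have := hy (n⁻¹ * w * n) ((hn' _).mpr (by simpa [mul_assoc] using hw))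
      calc w * (n * y * n⁻¹) = n * ((n⁻¹ * w * n) * y) * n⁻¹ := by group
        _ = n * (y * (n⁻¹ * w * n)) * n⁻¹ := by rw [this]
        _ = n * y * n⁻¹ * w := by group
    · intro hy w hw
      have := hy (n * w * n⁻¹) ((hn' w).mp hw)
      calc w * y = n⁻¹ * ((n * w * n⁻¹) * (n * y * n⁻¹)) * n := by group
        _ = n⁻¹ * ((n * y * n⁻¹) * (n * w * n⁻¹)) * n := by rw [this]
        _ = y * w := by group)
  -- the embedding of `C` into `N'`
  have hmem : ∀ c : C, ((c : N) : G) ∈ M := fun c => Subgroup.mem_centralizer_singleton_iff.mpr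
    (Subgroup.mem_centralizer_iff.mp c.2 t z.2).symm
  let j : C →* N' := MonoidHom.mk' (fun c => ⟨⟨((c : N) : G), hmem c⟩, Subgroup.centralizer_le_normalizer _
      (Subgroup.mem_centralizer_iff.mpr fun w hw => Subtype.ext (Subgroup.mem_centralizer_iff.mp c.2 w hw))⟩)
    (fun a b => rfl)
  have hj : Function.Injective j := fun a b hab => Subtype.ext (Subtype.ext (congrArg (fun x : N' => ((x : M) : G)) hab))
  have hjn : j.range.Normal := by
    refine ⟨?_⟩
    rintro _ ⟨c, rfl⟩ g
    have hgN : ((g : M) : G) ∈ N := by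
      rw [hNdef, Subgroup.mem_normalizer_iff]
      intro w
      have hg := Subgroup.mem_normalizer_iff.mp g.2
      constructor
      · intro hw; exact (hg ⟨w, hTM hw⟩).mp hw
      · intro hw
        have hwM : w ∈ M := by
          have := M.mul_mem (M.mul_mem (M.inv_mem (g : M).2) (hTM hw)) (g : M).2
          simpa [mul_assoc] using this
        exact (hg ⟨w, hwM⟩).mpr hw
    exact ⟨⟨⟨((g : M) : G), hgN⟩ * c * ⟨((g : M) : G), hgN⟩⁻¹, hCn.conj_mem c c.2 _⟩, rfl⟩
  have hT_le : T.subgroupOf N ≤ Cfsg.pCore 2 N :=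
    le_pCore (Subgroup.normal_subgroupOf_of_le_normalizer le_rfl) (hT.of_equiv (Subgroup.subgroupOfEquivOfLe Subgroup.le_normalizer).symm)
  have hle : ∀ y : N, y ∈ Subgroup.centralizer (Cfsg.pCore 2 N : Set N) → y ∈ C := fun y hy =>
    Subgroup.mem_centralizer_iff.mpr fun w hw => congrArg Subtype.val
      (Subgroup.mem_centralizer_iff.mp hy ⟨w, Subgroup.le_normalizer hw⟩ (hT_le hw))
  have hpull : ∀ K : Subgroup C, K.IsSubnormal → (K.map j).IsSubnormal := by
    intro K hK
    let e : C ≃* j.range := MonoidHom.ofInjective hj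
    have h1 : (K.map e.toMonoidHom).IsSubnormal := hK.map e.surjective
    have h2 := h1.trans' hjn.isSubnormal
    rwa [Subgroup.map_map, show (Subgroup.subtype j.range).comp e.toMonoidHom = j from rfl] at h2
  refine le_antisymm (sup_le (sSup_le fun K hK => ?_) ?_) (pCore_le_fittingSubgroup.trans le_sup_right)
  · exfalso
    have hKC : K ≤ C := fun y hy => hle y (layer_le_centralizer_pCore (IsComponent.le_layer hK hy))
    have hK' := IsComponent.subgroupOf hK hKC
    have hcomp : Cfsg.IsComponent ((K.subgroupOf C).map j) :=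
      ⟨hpull _ hK'.1, (isQuasisimple_map_iff hj _).mpr hK'.2⟩
    have h1 : (K.subgroupOf C).map j ≤ Cfsg.pCore 2 N' := hN' ▸ (IsComponent.le_layer hcomp).trans le_sup_left
    have := ((pCore_isPGroup (p := 2) (G := N')).to_le h1).isNilpotent
    exact IsQuasisimple.not_isSolvable hcomp.2 inferInstance
  · rw [fittingSubgroup_eq_iSup_pCore]
    refine iSup_le fun q => ?_
    by_cases hqp : (q : ℕ) = 2
    · rw [hqp]
    · have := Fact.mk q.2
      have hn1 := pCore_isNormal (p := (q : ℕ)) (G := N)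
      have hn2 := pCore_isNormal (p := 2) (G := N)
      set Q := Cfsg.pCore (q : ℕ) N
      have hQC : Q ≤ C := fun y hy => hle y
        (commute_of_coprime_normal (IsPGroup.coprime_card_of_ne (q : ℕ) 2 hqp _ _ pCore_isPGroup pCore_isPGroup) hy)
      have hQ' : IsPGroup (q : ℕ) ((Q.subgroupOf C).map j) :=
        ((pCore_isPGroup (p := (q : ℕ))).of_equiv (Subgroup.subgroupOfEquivOfLe hQC).symm).map j
      have h1 : (Q.subgroupOf C).map j ≤ Cfsg.pCore 2 N' := by
        have := le_pCore_of_isSubnormal (hpull _ (Subgroup.IsSubnormal.subgroupOf hn1.isSubnormal)) hQ'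
        exact (this.trans pCore_le_fittingSubgroup).trans (hN' ▸ le_sup_right)
      have h2 : Disjoint ((Q.subgroupOf C).map j) ((Q.subgroupOf C).map j) :=
        IsPGroup.disjoint_of_ne (q : ℕ) 2 hqp _ _ hQ' ((pCore_isPGroup (p := 2)).to_le h1)
      rw [disjoint_self, Subgroup.map_eq_bot_iff_of_injective _ hj] at h2
      intro y hy
      have : (⟨y, hQC hy⟩ : C) ∈ Q.subgroupOf C := hy
      rw [h2, Subgroup.mem_bot] at this
      rw [show y = 1 from congrArg Subtype.val this]
      exact Subgroup.one_mem _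

end Cfsg.Agent.S1292
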