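import Cfsg.Statements.S1293
import Cfsg.Agent.Lib.Grp.PComponents
-- import your own Cfsg.Agent.* helpers here

set_option autoImplicit false
open Cfsg

namespace Cfsg.Agent.S1293

open Cfsg.Agent.Grp

/-- Let G be finite with L_{p'}(G) = 1, and H = N_G(P) for a nontrivial p-subgroup P. Then L_{p'}(H) = 1 and O_{p'}(H) ≤ O_{p'}(G). -/
theorem result {G : Type*} [Group G] [Finite G] (p : ℕ) [Fact p.Prime] (hL : Cfsg.pLayer p G = ⊥) (P : Subgroup G) (hP : IsPGroup p ↥P) (hP1 : P ≠ ⊥) : Cfsg.pLayer p ↥(Subgroup.normalizer (P : Set G)) = ⊥ ∧ (Cfsg.pPrimeCore p ↥(Subgroup.normalizer (P : Set G))).map (Subgroup.normalizer (P : Set G)).subtype ≤ Cfsg.pPrimeCore p G := by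
  set H := Subgroup.normalizer (P : Set G) with hH
  set f := QuotientGroup.mk' (Cfsg.pPrimeCore p G) with hf
  set H' := Subgroup.normalizer (P.map f : Set (G ⧸ Cfsg.pPrimeCore p G)) with hH'
  have hmap : H.map f = H' := map_normalizer_pGroup hP
  have hF : Cfsg.generalizedFittingSubgroup H' = Cfsg.pCore p H' :=
    gfitting_normalizer_eq_pCore (gfitting_quotient_eq_pCore hL) _ (hP.map f)
  let φ : H →* H' := MonoidHom.codRestrict (f.comp H.subtype) _ fun k => hmap ▸ ⟨(k : G), k.2, rfl⟩
  have hφ : Function.Surjective φ := by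
    rintro ⟨z, hz⟩
    rw [← hmap] at hz
    obtain ⟨k, hk, rfl⟩ := hz
    exact ⟨⟨k, hk⟩, rfl⟩
  have hbot : Cfsg.pPrimeCore p H' = ⊥ := by
    have hn1 := pPrimeCore_isNormal (p := p) (G := H')
    have hn2 := pCore_isNormal (p := p) (G := H')
    have hcop : (Nat.card (Cfsg.pPrimeCore p H')).Coprime (Nat.card (Cfsg.pCore p H')) := by
      obtain ⟨k, hk⟩ := IsPGroup.iff_card.mp (pCore_isPGroup (p := p) (G := H'))
      rw [hk]; exact (pPrimeCore_coprime (p := p)).pow_right k
    have h1 : Cfsg.pPrimeCore p H' ≤ Cfsg.pCore p H' := by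
      refine (commute_of_coprime_normal hcop).trans ?_
      have h2 := centralizer_gfitting_le (G := H')
      rwa [hF] at h2
    have := inf_eq_bot_of_coprime hcop
    rwa [inf_eq_left.mpr h1] at this
  have hker : φ.ker = Cfsg.pPrimeCore p H := by
    refine le_antisymm (le_pPrimeCore inferInstance ?_) ?_
    · refine Nat.Coprime.coprime_dvd_left ?_ (pPrimeCore_coprime (p := p) (G := G))
      rw [← Subgroup.card_map_of_injective (K := φ.ker) (Subgroup.subtype_injective H)]
      refine Subgroup.card_dvd_of_le ?_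
      rintro _ ⟨k, hk, rfl⟩
      exact (QuotientGroup.eq_one_iff _).mp (congrArg Subtype.val hk)
    · rw [← Subgroup.map_eq_bot_iff, eq_bot_iff, ← hbot]
      refine le_pPrimeCore ((pPrimeCore_isNormal (p := p) (G := H)).map φ hφ) ?_
      exact Nat.Coprime.coprime_dvd_left (Subgroup.card_map_dvd (H := Cfsg.pPrimeCore p H) φ) (pPrimeCore_coprime (p := p) (G := H))
  refine ⟨?_, ?_⟩
  · rw [pLayer_eq_bot_iff, eq_bot_iff]
    let e : H ⧸ Cfsg.pPrimeCore p H ≃* H' :=
      (QuotientGroup.quotientMulEquivOfEq hker.symm).trans (QuotientGroup.quotientKerEquivOfSurjective φ hφ)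
    refine sSup_le fun K hK => ?_
    exfalso
    have h1 := IsComponent.map_iso e hK
    have h2 : K.map e.toMonoidHom ≤ Cfsg.pCore p H' := hF ▸ (IsComponent.le_layer h1).trans le_sup_left
    have := ((pCore_isPGroup (p := p)).to_le h2).isNilpotent
    exact IsQuasisimple.not_isSolvable h1.2 inferInstance
  · rw [← hker]
    rintro _ ⟨k, hk, rfl⟩
    exact (QuotientGroup.eq_one_iff _).mp (congrArg Subtype.val hk)

end Cfsg.Agent.S1293
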