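import Cfsg.Statements.S1295
import Cfsg.Agent.Lib.Transfer.SFT.Graph
import Cfsg.Agent.S1293
import Cfsg.Agent.Lib.Grp.BalanceReduction

set_option maxHeartbeats 1000000
set_option maxRecDepth 8000

set_option autoImplicit false
open Cfsg

namespace Cfsg.Agent.S1295

open Cfsg.Agent.Grp in
theorem conj_core_le {G : Type*} [Group G] [Finite G] {p : ℕ} [Fact p.Prime] (a g : G) :
    (Cfsg.centralizerPPrimeCore p a).map (MulAut.conj g).toMonoidHom ≤
      Cfsg.centralizerPPrimeCore p (g * a * g⁻¹) := by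
  refine le_centralizerPPrimeCore ?_ ?_ ((centralizerPPrimeCore_coprime a).coprime_dvd_left
    (Subgroup.card_map_dvd _ _))
  · rintro _ ⟨y, hy, rfl⟩
    show g * y * g⁻¹ * (g * a * g⁻¹) = g * a * g⁻¹ * (g * y * g⁻¹)
    calc g * y * g⁻¹ * (g * a * g⁻¹) = g * (y * a) * g⁻¹ := by group
      _ = g * (a * y) * g⁻¹ := by rw [centralizerPPrimeCore_commute hy]
      _ = _ := by group
  · rintro c hc _ ⟨y, hy, rfl⟩
    refine ⟨(g⁻¹ * c * g) * y * (g⁻¹ * c * g)⁻¹, centralizerPPrimeCore_conj ?_ hy, ?_⟩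
    · calc g⁻¹ * c * g * a = g⁻¹ * (c * (g * a * g⁻¹)) * g := by group
        _ = g⁻¹ * (g * a * g⁻¹ * c) * g := by rw [hc]
        _ = _ := by group
    · show g * ((g⁻¹ * c * g) * y * (g⁻¹ * c * g)⁻¹) * g⁻¹ = c * (g * y * g⁻¹) * c⁻¹
      group

open Cfsg.Agent.Grp in
theorem balance {G : Type*} [Group G] [Finite G] {p : ℕ} [Fact p.Prime] {a b : G} (ha : orderOf a = p)
    (hab : a * b = b * a) (hL : Cfsg.pLayer p ↥(Subgroup.centralizer ({b} : Set G)) = ⊥) :
    Cfsg.centralizerPPrimeCore p a ⊓ Subgroup.centralizer {b} ≤ Cfsg.centralizerPPrimeCore p b := by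
  set H := Subgroup.centralizer ({b} : Set G) with hH
  have haH : a ∈ H := Subgroup.mem_centralizer_singleton_iff.mpr hab
  set a' : H := ⟨a, haH⟩
  set P := Subgroup.zpowers a'
  have ha' : orderOf a' = p := by rw [Subgroup.orderOf_mk]; exact ha
  have hP : IsPGroup p P := IsPGroup.of_card (n := 1) (by rw [Nat.card_zpowers, ha', pow_one])
  have hP1 : P ≠ ⊥ := fun e => (Fact.out : p.Prime).one_lt.ne (by
    rw [← ha', ← Nat.card_zpowers, show Subgroup.zpowers a' = ⊥ from e, Subgroup.card_bot])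
  obtain ⟨-, hle⟩ := Cfsg.Agent.S1293.result p hL P hP hP1
  set X := (Cfsg.centralizerPPrimeCore p a).subgroupOf H with hX
  have hXN : X ≤ Subgroup.normalizer (P : Set H) := by
    refine le_trans ?_ (Subgroup.centralizer_le_normalizer _)
    intro x hx
    rw [← centralizer_singleton_eq_zpowers, Subgroup.mem_centralizer_singleton_iff]
    exact Subtype.ext (centralizerPPrimeCore_commute (Subgroup.mem_subgroupOf.mp hx))
  have hn : (X.subgroupOf (Subgroup.normalizer (P : Set H))).Normal := by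
    refine ⟨fun x hx n => ?_⟩
    rw [Subgroup.mem_subgroupOf, hX, Subgroup.mem_subgroupOf] at hx ⊢
    set m : G := (((n : H)) : G)
    have hxa : ∀ {z : G}, z ∈ Cfsg.centralizerPPrimeCore p a → m * z * m⁻¹ ∈ Cfsg.centralizerPPrimeCore p a := by
      intro z hz
      have h1 : (n : H) * a' * (n : H)⁻¹ ∈ P :=
        (Subgroup.mem_normalizer_iff.mp n.2 a').mp (Subgroup.mem_zpowers a')
      obtain ⟨i, hi⟩ := Subgroup.mem_zpowers_iff.mp h1
      have hi' : a ^ i = m * a * m⁻¹ := congrArg (fun z : H => (z : G)) hi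
      have h2 := conj_core_le (p := p) a m ⟨z, hz, rfl⟩
      refine le_centralizerPPrimeCore (x := a) (N := Cfsg.centralizerPPrimeCore p (m * a * m⁻¹)) ?_ ?_
        (centralizerPPrimeCore_coprime _) h2
      · intro y hy
        have hz : Subgroup.zpowers (m * a * m⁻¹) = Subgroup.zpowers a := by
          refine Subgroup.eq_of_le_of_card_ge (Subgroup.zpowers_le.mpr ⟨i, hi'⟩) (le_of_eq ?_)
          rw [Nat.card_zpowers, Nat.card_zpowers]
          exact (orderOf_injective (MulAut.conj m).toMonoidHom (MulAut.conj m).injective a).symm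
        obtain ⟨j, hj⟩ := Subgroup.mem_zpowers_iff.mp (hz.ge (Subgroup.mem_zpowers a))
        rw [← hj]
        exact ((show Commute y (m * a * m⁻¹) from centralizerPPrimeCore_commute hy).zpow_right j).eq
      · intro c hc y hy
        refine centralizerPPrimeCore_conj ?_ hy
        rw [← hi']
        exact ((show Commute c a from hc).zpow_right i).eq
    exact hxa hx
  intro z ⟨hz, hzH⟩
  have hzX : (⟨z, hzH⟩ : H) ∈ X := hz
  have hcard : (Nat.card ↥(X.subgroupOf (Subgroup.normalizer (P : Set H)))).Coprime p := by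
    refine (centralizerPPrimeCore_coprime (p := p) a).coprime_dvd_left ?_
    rw [Nat.card_congr (Subgroup.subgroupOfEquivOfLe hXN).toEquiv, hX,
      ← Subgroup.card_map_of_injective H.subtype_injective, Subgroup.subgroupOf_map_subtype]
    exact Subgroup.card_dvd_of_le inf_le_left
  have h := hle ⟨⟨⟨z, hzH⟩, hXN hzX⟩, le_pPrimeCore hn hcard (Subgroup.mem_subgroupOf.mpr hzX), rfl⟩
  exact ⟨⟨z, hzH⟩, h, rfl⟩


/-- Let G be finite with O_{p'}(G) = 1 and p-rank at least 3, whose reduced rank-2 commuting graph for p is connected. Suppose that for every element a of order p with m_p(C_G(a)) ≥ 3 the p-layer of C_G(a) is trivial and O_{p'}(C_G(a)) is solvable. Then F*(C_G(a)) = O_p(C_G(a)) for every such a. -/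
theorem result {G : Type*} [Group G] [Finite G] (p : ℕ) [Fact p.Prime] (hO : Cfsg.pPrimeCore p G = ⊥) (hrk : ¬ Cfsg.PRankLE p 2 G) (hconn : Cfsg.IsRankGraphConnected p 2 G) (hL : ∀ a : G, (orderOf a = p ∧ ¬ Cfsg.PRankLE p 2 ↥(Subgroup.centralizer ({a} : Set G))) → Cfsg.pLayer p ↥(Subgroup.centralizer ({a} : Set G)) = ⊥ ∧ Group.IsSolvable ↥(Cfsg.centralizerPPrimeCore p a)) (a : G) (ha : (orderOf a = p ∧ ¬ Cfsg.PRankLE p 2 ↥(Subgroup.centralizer ({a} : Set G)))) : Cfsg.generalizedFittingSubgroup ↥(Subgroup.centralizer ({a} : Set G)) = Cfsg.pCore p ↥(Subgroup.centralizer ({a} : Set G)) := by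

  have hp := (Fact.out : p.Prime)
  have hC : ∀ b : G, (orderOf b = p ∧ ¬ Cfsg.PRankLE p 2 ↥(Subgroup.centralizer ({b} : Set G))) →
      Cfsg.centralizerPPrimeCore p b ≤ Subgroup.centralizer ({b} : Set G) ∧
        ¬ p ∣ Nat.card ↥(Cfsg.centralizerPPrimeCore p b) ∧
        Group.IsSolvable ↥(Cfsg.centralizerPPrimeCore p b) := fun b hb =>
    ⟨Subgroup.map_subtype_le _,
      hp.coprime_iff_not_dvd.mp (Cfsg.Agent.Grp.centralizerPPrimeCore_coprime b).symm, (hL b hb).2⟩
  have heq : ∀ b g : G, (orderOf b = p ∧ ¬ Cfsg.PRankLE p 2 ↥(Subgroup.centralizer ({b} : Set G))) →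
      Cfsg.centralizerPPrimeCore p (g * b * g⁻¹) =
        (Cfsg.centralizerPPrimeCore p b).map (MulAut.conj g).toMonoidHom := by
    intro b g _
    refine le_antisymm (fun y hy => ?_) (conj_core_le b g)
    have h := conj_core_le (p := p) (g * b * g⁻¹) g⁻¹ ⟨y, hy, rfl⟩
    rw [show g⁻¹ * (g * b * g⁻¹) * g⁻¹⁻¹ = b by group] at h
    exact ⟨_, h, by show g * (g⁻¹ * y * g⁻¹⁻¹) * g⁻¹ = y; group⟩
  have hbot : Cfsg.centralizerPPrimeCore p a = ⊥ :=
    Cfsg.Agent.Transfer.SFT.theta_eq_bot (fun b => Cfsg.centralizerPPrimeCore p b) hC heq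
      (fun b c hb hc hbc => balance hb.1 hbc (hL c hc).1) hO hconn a ha
  have h0 : Cfsg.pPrimeCore p ↥(Subgroup.centralizer ({a} : Set G)) = ⊥ :=
    (Subgroup.map_eq_bot_iff_of_injective _ (Subgroup.subtype_injective _)).mp hbot
  have hlayer : Cfsg.layer ↥(Subgroup.centralizer ({a} : Set G)) = ⊥ := by
    have h1 := Cfsg.Agent.Grp.pLayer_eq_bot_iff.mp (hL a ha).1
    rw [eq_bot_iff]
    refine sSup_le fun K hK => ?_
    exfalso
    let e : ↥(Subgroup.centralizer ({a} : Set G)) ≃* ↥(Subgroup.centralizer ({a} : Set G)) ⧸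
        Cfsg.pPrimeCore p ↥(Subgroup.centralizer ({a} : Set G)) :=
      (QuotientGroup.quotientBot.symm.trans (QuotientGroup.quotientMulEquivOfEq h0.symm))
    have h2 := Cfsg.Agent.Grp.IsComponent.map_iso e hK
    exact Cfsg.Agent.Grp.IsComponent.ne_bot h2 (le_bot_iff.mp (h1 ▸ Cfsg.Agent.Grp.IsComponent.le_layer h2))
  rw [Cfsg.generalizedFittingSubgroup, hlayer, bot_sup_eq, Cfsg.Agent.Grp.fitting_eq_pCore h0]

end Cfsg.Agent.S1295
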