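import Cfsg.Statements.S1297
import Cfsg.Agent.Lib.Grp.BalanceReduction

set_option autoImplicit false
open Cfsg

namespace Cfsg.Agent.S1297

/-- Let G be finite. Suppose that for every involution x, writing C = C_G(x), every component K of C / O(C) has K / Z(K) locally balanced. Then G is balanced. -/
theorem result {G : Type*} [Group G] [Finite G] (h : ∀ x : G, orderOf x = 2 → ∀ K : Subgroup (↥(Subgroup.centralizer ({x} : Set G)) ⧸ Cfsg.oddCore ↥(Subgroup.centralizer ({x} : Set G))), Cfsg.IsComponent K → Cfsg.IsLocallyBalanced (↥K ⧸ Subgroup.center ↥K)) : Cfsg.IsBalanced G := by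
  have h' := Cfsg.Agent.Grp.kBalanced_of_components (G := G) (p := 2) (k := 1) le_rfl
    (fun x hx K hK H hH A hA hAc => ?_)
  · have key : ∀ x y : G, orderOf x = 2 → orderOf y = 2 → x * y = y * x →
        Cfsg.centralizerPPrimeCore 2 x ⊓ Subgroup.centralizer {y} ≤
          Cfsg.centralizerPPrimeCore 2 y ⊓ Subgroup.centralizer {x} := by
      intro x y hx hy hxy g hg
      obtain ⟨hgx, hgy⟩ := Subgroup.mem_inf.mp hg
      have hx2 : x ^ 2 = 1 := hx ▸ pow_orderOf_eq_one x
      have hA : ∀ a ∈ Subgroup.zpowers x, a ≠ 1 → a = x := by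
        classical
        intro a ha ha1
        have := (mem_zpowers_iff_mem_range_orderOf.mp ha)
        rw [hx, Finset.mem_image] at this
        obtain ⟨i, hi, rfl⟩ := this
        rw [Finset.mem_range] at hi
        interval_cases i <;> simp at ha1 ⊢
      refine ⟨h' (Subgroup.zpowers x) ⟨inferInstance, fun a ha => ?_⟩ (by rw [Nat.card_zpowers, hx, pow_one]) y hy
        (fun a ha => ?_) ⟨Subgroup.mem_iInf.mpr ?_, hgy⟩, ?_⟩
      · by_cases e : a = 1
        · simp [e]
        · rw [hA a ha e, hx2]
      · by_cases e : a = 1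
        · simp [e]
        · rw [hA a ha e, hxy]
      · rintro ⟨a, ha, ha1⟩
        show g ∈ Cfsg.centralizerPPrimeCore 2 a
        rw [hA a ha ha1]; exact hgx
      · exact Subgroup.mem_centralizer_singleton_iff.mpr (Cfsg.Agent.Grp.centralizerPPrimeCore_commute hgx)
    intro x y hx hy hxy
    exact le_antisymm (key x y hx hy hxy) (key y x hy hx hxy.symm)
  · rw [pow_one] at hAc
    haveI : IsCyclic ↥A := isCyclic_of_prime_card (p := 2) hAc
    obtain ⟨⟨t, ht⟩, ht'⟩ := IsCyclic.exists_generator (α := ↥A)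
    have ho : orderOf t = 2 := by
      refine Eq.trans ?_ hAc
      rw [← orderOf_eq_card_of_forall_mem_zpowers ht']
      exact (Subgroup.orderOf_mk (H := A) t ht).symm
    refine le_bot_iff.mp ((iInf_le _ ⟨t, ht, fun e => ?_⟩).trans (h x hx K hK H hH t ho).le)
    rw [e, orderOf_one] at ho; omega

end Cfsg.Agent.S1297
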