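import Cfsg.Statements.S1299
import Cfsg.Agent.Lib.Grp.GeneratedFixedPoints
import Cfsg.Agent.Lib.Grp.Cores

set_option autoImplicit false
open Cfsg

namespace Cfsg.Agent.S1299

/-- Let G be finite and k-balanced for the prime p (k ≥ 1), A an elementary abelian p-subgroup of order at least p^(k+2) such that O_{p'}(C_G(a)) is solvable for every non-identity a ∈ A. For a ∈ A put θ a = the subgroup generated by the Δ_G(D) ∩ C_G(a) over the subgroups D ≤ A of order p^k. Then θ is an A-signalizer functor. -/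
theorem result {G : Type*} [Group G] [Finite G] (p k : ℕ) [Fact p.Prime] (hk : 1 ≤ k) (hbal : Cfsg.IsKBalanced p k G) (A : Subgroup G) (hA : Cfsg.IsElementaryAbelian p A) (hAk : p ^ (k + 2) ≤ Nat.card ↥A) (hsolv : ∀ a ∈ A, a ≠ 1 → Group.IsSolvable ↥(Cfsg.centralizerPPrimeCore p a)) : Cfsg.IsSignalizerFunctor p A (fun a => ⨆ D : {D : Subgroup G // D ≤ A ∧ Nat.card ↥D = p ^ k}, Cfsg.signalizerDelta p (D : Subgroup G) ⊓ Subgroup.centralizer {a}) := by
  classical
  have hp : p.Prime := Fact.out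
  have hcm := Cfsg.Agent.Grp.elemAb_comm hA
  set Y : G → Subgroup G → Subgroup G := fun a D => Cfsg.signalizerDelta p D ⊓ Subgroup.centralizer {a} with hY
  set θ : G → Subgroup G := fun a => ⨆ D : {D : Subgroup G // D ≤ A ∧ Nat.card ↥D = p ^ k}, Cfsg.signalizerDelta p (D : Subgroup G) ⊓ Subgroup.centralizer {a} with hθ
  have hordp : ∀ a ∈ A, a ≠ 1 → orderOf a = p := fun a ha ha1 => orderOf_eq_prime (hA.2 a ha) ha1
  have bal : ∀ D : Subgroup G, D ≤ A → Nat.card ↥D = p ^ k → ∀ e ∈ A, e ≠ 1 →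
      Cfsg.signalizerDelta p D ⊓ Subgroup.centralizer {e} ≤ Cfsg.centralizerPPrimeCore p e :=
    fun D hD hDc e he he1 => hbal D (Cfsg.Agent.Grp.elemAb_mono hA hD) hDc e (hordp e he he1)
      (fun d hd => hcm d (hD hd) e he)
  have hcore : ∀ a ∈ A, a ≠ 1 → θ a ≤ Cfsg.centralizerPPrimeCore p a := fun a ha ha1 =>
    iSup_le fun D => bal D D.2.1 D.2.2 a ha ha1
  have hcorep : ∀ a : G, ¬ p ∣ Nat.card ↥(Cfsg.centralizerPPrimeCore p a) := fun a => by
    show ¬ p ∣ Nat.card ↥((Cfsg.pPrimeCore p ↥(Subgroup.centralizer ({a} : Set G))).map _)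
    rw [Subgroup.card_map_of_injective (Subgroup.subtype_injective _)]
    exact (hp.coprime_iff_not_dvd).mp (Cfsg.Agent.Grp.pPrimeCore_coprime.symm)
  have hDn : ∀ D : Subgroup G, D ≤ A → A ≤ Subgroup.normalizer ((Cfsg.signalizerDelta p D : Subgroup G) : Set G) := by
    intro D hD
    rw [← Cfsg.Agent.Grp.invariant_iff]
    intro b hb x hx
    rw [Cfsg.signalizerDelta, Subgroup.mem_iInf] at hx ⊢
    intro a
    obtain ⟨w, hw, hwx⟩ := hx a
    have hbC : b ∈ Subgroup.centralizer ({(a : G)} : Set G) :=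
      Subgroup.mem_centralizer_singleton_iff.mpr (hcm b hb a (hD a.2.1))
    refine ⟨⟨b, hbC⟩ * w * ⟨b, hbC⟩⁻¹, Cfsg.Agent.Grp.pPrimeCore_isNormal.conj_mem w hw _, ?_⟩
    rw [← hwx]; rfl
  have hCn : ∀ E : Subgroup G, E ≤ A → A ≤ Subgroup.normalizer ((Subgroup.centralizer (E : Set G) : Subgroup G) : Set G) :=
    fun E hE => Cfsg.Agent.Grp.le_normalizer_centralizer_of_commute fun x hx y hy => hcm x hx y (hE hy)
  have hCn1 : ∀ a ∈ A, A ≤ Subgroup.normalizer ((Subgroup.centralizer {a} : Subgroup G) : Set G) := fun a ha => by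
    rw [Cfsg.Agent.Grp.centralizer_singleton_eq_zpowers]
    exact hCn _ (Subgroup.zpowers_le.mpr ha)
  have hθn : ∀ a ∈ A, A ≤ Subgroup.normalizer (θ a : Set G) := by
    intro a ha
    rw [← Cfsg.Agent.Grp.invariant_iff]
    intro b hb x hx
    have h1 : θ a ≤ (θ a).comap (MulAut.conj b).toMonoidHom := by
      refine iSup_le fun D y hy => ?_
      exact Subgroup.mem_iSup_of_mem D (Cfsg.Agent.Grp.invariant_iff.mpr
        (Cfsg.Agent.Grp.le_normalizer_inf' (hDn D D.2.1) (hCn1 a ha)) b hb y hy)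
    exact h1 hx
  refine ⟨fun a ha ha1 => iSup_le fun D => inf_le_right, fun a ha ha1 h => hcorep a
    (h.trans (Subgroup.card_dvd_of_le (hcore a ha ha1))), fun a ha ha1 => Cfsg.Agent.Grp.invariant_iff.mpr (hθn a ha), ?_⟩
  intro a ha ha1 b hb hb1
  show θ a ⊓ Subgroup.centralizer {b} ≤ θ b
  -- hyperplanes through `a`
  let S : Set (Subgroup G) := {B | B ≤ A ∧ B.relIndex A = p ∧ a ∈ B}
  have hcard : ∀ B ∈ S, ∀ B' ∈ S, p ^ k ≤ Nat.card ↥(B ⊓ B') := by
    intro B hB B' hB'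
    have h1 := Cfsg.Agent.Grp.card_mul_relIndex (inf_le_left.trans hB.1 : B ⊓ B' ≤ A)
    have h2 : (B ⊓ B').relIndex A ≤ p * p := Subgroup.relIndex_inf_le.trans (by rw [hB.2.1, hB'.2.1])
    by_contra hlt
    push Not at hlt
    have h3 : Nat.card A < p ^ k * (p * p) := by
      rw [← h1]
      refine lt_of_le_of_lt (Nat.mul_le_mul_left _ h2) ?_
      exact Nat.mul_lt_mul_of_pos_right hlt (Nat.mul_pos hp.pos hp.pos)
    rw [pow_add, pow_two] at hAk
    omega
  have hsub : ∀ F : Subgroup G, F ≤ A → p ^ k ≤ Nat.card ↥F →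
      ∃ D : Subgroup G, D ≤ F ∧ Nat.card ↥D = p ^ k := by
    intro F hF hc
    obtain ⟨n, hn⟩ := (IsPGroup.iff_card).mp (Cfsg.Agent.Grp.elemAb_isPGroup (Cfsg.Agent.Grp.elemAb_mono hA hF))
    have hkn : k ≤ n := by
      by_contra hh
      exact absurd hc (not_le.mpr (hn ▸ Nat.pow_lt_pow_right hp.one_lt (not_le.mp hh)))
    obtain ⟨D, hD⟩ := Sylow.exists_subgroup_card_pow_prime p (G := ↥F) (n := k) (hn ▸ pow_dvd_pow p hkn)
    exact ⟨D.map F.subtype, Subgroup.map_subtype_le _, by rw [Subgroup.card_map_of_injective F.subtype_injective, hD]⟩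
  have hΔle : ∀ D F : Subgroup G, D ≤ F → Cfsg.signalizerDelta p F ≤ Cfsg.signalizerDelta p D :=
    fun D F h => le_iInf fun d => iInf_le_of_le ⟨d, h d.2.1, d.2.2⟩ le_rfl
  have haC : ∀ F : Subgroup G, a ∈ F → Subgroup.centralizer (F : Set G) ≤ Subgroup.centralizer {a} := fun F h =>
    Subgroup.centralizer_le (Set.singleton_subset_iff.mpr h)
  have hinK : ∀ F : Subgroup G, F ≤ A → a ∈ F → p ^ k ≤ Nat.card ↥F →
      Cfsg.signalizerDelta p F ⊓ Subgroup.centralizer (F : Set G) ≤ θ a := by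
    intro F hF haF hFc
    obtain ⟨D, hDF, hDc⟩ := hsub F hF hFc
    exact le_iSup_of_le (f := fun D : {D : Subgroup G // D ≤ A ∧ Nat.card ↥D = p ^ k} =>
      Cfsg.signalizerDelta p (D : Subgroup G) ⊓ Subgroup.centralizer {a}) ⟨D, hDF.trans hF, hDc⟩
      (inf_le_inf (hΔle D F hDF) (haC F haF))
  have hcB : ∀ B ∈ S, p ^ k ≤ Nat.card ↥B := fun B hB => by
    simpa using hcard B hB B hB
  have key := Cfsg.Agent.Grp.fixed_generated hA S (fun B hB => ⟨hB.1, hB.2.1⟩)
    (fun B hB B' hB' D hD hDA hDi => ⟨hDA, hDi, hD ⟨hB.2.2, hB'.2.2⟩⟩) _ (θ a)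
    (fun B => Cfsg.signalizerDelta p B ⊓ Subgroup.centralizer (B : Set G))
    (fun F => Cfsg.signalizerDelta p F ⊓ Subgroup.centralizer (F : Set G)) rfl
    (fun h => hcorep a (h.trans (Subgroup.card_dvd_of_le (hcore a ha ha1))))
    (Cfsg.Agent.Grp.isSolvable_of_le (hcore a ha ha1) (hsolv a ha ha1)) (hθn a ha) ?gen
    (fun B hB => Cfsg.Agent.Grp.le_normalizer_inf' (hDn B hB.1) (hCn B hB.1))
    (fun B hB B' hB' => ⟨le_inf (hinK _ (inf_le_left.trans hB.1) ⟨hB.2.2, hB'.2.2⟩ (hcard B hB B' hB')) inf_le_right,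
      Cfsg.Agent.Grp.le_normalizer_inf' (hDn _ (inf_le_left.trans hB.1)) (hCn _ (inf_le_left.trans hB.1)),
      inf_le_inf (hΔle _ _ inf_le_left) (Subgroup.centralizer_le inf_le_left)⟩) ?bal
  case gen =>
    refine le_antisymm (iSup_le fun D => ?_) (iSup₂_le fun B hB => hinK B hB.1 hB.2.2 (hcB B hB))
    have hzA : Subgroup.zpowers a ≤ A := Subgroup.zpowers_le.mpr ha
    have hne : Subgroup.zpowers a ≠ A := fun e => by
      have := congrArg (fun H : Subgroup G => Nat.card ↥H) e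
      simp only [Nat.card_zpowers, hordp a ha ha1] at this
      exact absurd (hAk.trans this.ge) (not_le.mpr (by
        calc p = p ^ 1 := (pow_one p).symm
          _ < p ^ (k + 2) := Nat.pow_lt_pow_right hp.one_lt (by omega)))
    have h := Cfsg.Agent.Grp.inf_centralizer_le_of_hyperplanes hA
      (Cfsg.signalizerDelta p (D : Subgroup G) ⊓ Subgroup.centralizer {a})
      (fun h => hcorep a (h.trans (Subgroup.card_dvd_of_le (bal D D.2.1 D.2.2 a ha ha1))))
      (Cfsg.Agent.Grp.le_normalizer_inf' (hDn D D.2.1) (hCn1 a ha)) hzA hne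
      (T := ⨆ B ∈ S, Cfsg.signalizerDelta p B ⊓ Subgroup.centralizer (B : Set G)) (fun B haB hBA hBi => ?_)
    · refine le_trans (le_inf le_rfl ?_) h
      rw [← Cfsg.Agent.Grp.centralizer_singleton_eq_zpowers]
      exact inf_le_right
    · refine le_iSup₂_of_le B ⟨hBA, hBi, haB (Subgroup.mem_zpowers a)⟩ (le_inf (le_iInf fun e => ?_) inf_le_right)
      refine le_trans (le_inf (inf_le_left.trans inf_le_left) ?_) (bal D D.2.1 D.2.2 e (hBA e.2.1) e.2.2)
      exact inf_le_right.trans (Subgroup.centralizer_le (Set.singleton_subset_iff.mpr e.2.1))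
  case bal =>
    intro B hB B' hB' D hD hFD
    obtain ⟨D0, hD0F, hD0c⟩ := hsub _ (inf_le_left.trans hB.1) (hcard B hB B' hB')
    refine le_inf (le_iInf fun e => ?_) inf_le_right
    refine le_trans (le_inf ((inf_le_left.trans inf_le_left).trans (hΔle _ _ hD0F)) ?_)
      (bal D0 (hD0F.trans (inf_le_left.trans hB.1)) hD0c e (hD.1 e.2.1) e.2.2)
    exact inf_le_right.trans (Subgroup.centralizer_le (Set.singleton_subset_iff.mpr e.2.1))
  -- fixed points of `b`
  set F := Subgroup.zpowers a ⊔ Subgroup.zpowers b with hF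
  have hFA : F ≤ A := sup_le (Subgroup.zpowers_le.mpr ha) (Subgroup.zpowers_le.mpr hb)
  have hFne : F ≠ A := by
    intro e
    have hn : Subgroup.zpowers a ≤ Subgroup.normalizer ((Subgroup.zpowers b : Subgroup G) : Set G) := by
      rw [← Cfsg.Agent.Grp.invariant_iff]
      intro x hx y hy
      rw [hcm x (Subgroup.zpowers_le.mpr ha hx) y (Subgroup.zpowers_le.mpr hb hy), mul_assoc, mul_inv_cancel, mul_one]
      exact hy
    have h1 := Cfsg.Agent.Grp.card_sup_mul_card_inf hn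
    rw [← hF, e, Nat.card_zpowers, Nat.card_zpowers, hordp a ha ha1, hordp b hb hb1] at h1
    have h2 : Nat.card A ≤ p * p := h1 ▸ Nat.le_mul_of_pos_right _ Nat.card_pos
    have : p ^ 3 ≤ p ^ (k + 2) := Nat.pow_le_pow_right hp.pos (by omega)
    nlinarith [hp.two_le]
  have h := Cfsg.Agent.Grp.inf_centralizer_le_of_hyperplanes hA (θ a)
    (fun h => hcorep a (h.trans (Subgroup.card_dvd_of_le (hcore a ha ha1)))) (hθn a ha) hFA hFne
    (T := θ b) (fun B hFB hBA hBi => ?_)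
  · refine le_trans (le_inf inf_le_left ?_) h
    intro x hx
    have hxa : x ∈ Subgroup.centralizer {a} := (iSup_le fun D => inf_le_right : θ a ≤ _) hx.1
    rw [hF, Subgroup.mem_centralizer_iff]
    intro y hy
    have : F ≤ Subgroup.centralizer {x} := sup_le
      (Subgroup.zpowers_le.mpr (Subgroup.mem_centralizer_singleton_iff.mpr (Subgroup.mem_centralizer_singleton_iff.mp hxa).symm))
      (Subgroup.zpowers_le.mpr (Subgroup.mem_centralizer_singleton_iff.mpr (Subgroup.mem_centralizer_singleton_iff.mp hx.2).symm))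
    exact Subgroup.mem_centralizer_singleton_iff.mp (this hy)
  · have hBS : B ∈ S := ⟨hBA, hBi, hFB (Subgroup.mem_sup_left (Subgroup.mem_zpowers a))⟩
    obtain ⟨D, hDB, hDc⟩ := hsub B hBA (hcB B hBS)
    refine (key B hBS).trans ?_
    exact le_iSup_of_le (f := fun D : {D : Subgroup G // D ≤ A ∧ Nat.card ↥D = p ^ k} =>
      Cfsg.signalizerDelta p (D : Subgroup G) ⊓ Subgroup.centralizer {b}) ⟨D, hDB.trans hBA, hDc⟩
      (inf_le_inf (hΔle D B hDB) (Subgroup.centralizer_le (Set.singleton_subset_iff.mpr (hFB (Subgroup.mem_sup_right (Subgroup.mem_zpowers b))))))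

end Cfsg.Agent.S1299
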