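import Cfsg.Statements.S3737
import Cfsg.Agent.S3736
import Cfsg.Agent.Lib.Grp.BaerTrick


set_option autoImplicit false
open Cfsg
open scoped commutatorElement

namespace Cfsg.Agent.S3737

/-- Thompson's strengthening of the P × Q lemma for odd primes. Let p be an odd prime and let P, Q and G be subgroups of a finite group with P a p-group, Q of order prime to p and normalized by P, and G a p-group normalized by both P and Q. If every element of G centralized by P is centralized by Q, then Q centralizes G. -/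
theorem result {X : Type*} [Group X] [Finite X] {p : ℕ} [Fact p.Prime] (hp : p ≠ 2) (P Q G : Subgroup X) (hP : IsPGroup p P) (hQ : (Nat.card Q).Coprime p) (hPQ : P ≤ Subgroup.normalizer (Q : Set X)) (hG : IsPGroup p G) (hPG : P ≤ Subgroup.normalizer (G : Set X)) (hQG : Q ≤ Subgroup.normalizer (G : Set X)) (hC : G ⊓ Subgroup.centralizer (P : Set X) ≤ Subgroup.centralizer (Q : Set X)) : Q ≤ Subgroup.centralizer (G : Set X) := by
  classical
  suffices key : ∀ n, ∀ G : Subgroup X, Nat.card G = n → IsPGroup p G → P ≤ Subgroup.normalizer (G : Set X) →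
      Q ≤ Subgroup.normalizer (G : Set X) → G ⊓ Subgroup.centralizer (P : Set X) ≤ Subgroup.centralizer (Q : Set X) →
      ⁅G, Q⁆ = ⊥ by
    have := key _ G rfl hG hPG hQG hC
    rw [Subgroup.commutator_comm] at this
    exact Subgroup.commutator_eq_bot_iff_le_centralizer.mp this
  intro n
  induction n using Nat.strong_induction_on with
  | _ n ih =>
  intro G hn hG hPG hQG hC
  by_contra hnt
  have hBQ : P ⊔ Q ≤ Subgroup.normalizer (Q : Set X) := sup_le hPQ Subgroup.le_normalizer
  obtain ⟨-, hspec, -, hexp⟩ := S3736.result (P ⊔ Q) Q G hG (sup_le hPG hQG) le_sup_right hBQ hQ hnt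
    (fun U hU hUn => by
      refine ih _ ?_ U rfl (hG.to_le hU.le) (le_sup_left.trans hUn) (le_sup_right.trans hUn)
        (le_trans (inf_le_inf_right _ hU.le) hC)
      rw [← hn]
      by_contra hge
      exact hU.ne (Subgroup.eq_of_le_of_card_ge hU.le (not_lt.mp hge)))
  have hclass : ∀ a b c : G, Commute ⁅a, b⁆ c := by
    intro a b c
    rcases hspec with h | h
    · rw [commutatorElement_eq_one_iff_mul_comm.mpr (h.1.is_comm.comm a b)]
      exact Commute.one_left c
    · exact (Subgroup.mem_center_iff.mp (h.2.2.le (Subgroup.commutator_mem_commutator (Subgroup.mem_top a) (Subgroup.mem_top b))) c).symm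
  let D : Cfsg.Agent.Grp.Baer.Data G p :=
    { odd := (Fact.out : p.Prime).odd_of_ne_two hp
      exponent := fun x => Subtype.ext (hexp hp x x.2)
      central := hclass }
  let actP : P →* MulAut G :=
    { toFun := fun a =>
        { toFun := fun v => ⟨(a : X) * v * (a : X)⁻¹, (Subgroup.mem_normalizer_iff.mp (hPG a.2) v).mp v.2⟩
          invFun := fun v => ⟨(a : X)⁻¹ * v * (a : X), by
            simpa using (Subgroup.mem_normalizer_iff.mp (hPG (P.inv_mem a.2)) v).mp v.2⟩
          left_inv := fun v => Subtype.ext (by simp [mul_assoc])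
          right_inv := fun v => Subtype.ext (by simp [mul_assoc])
          map_mul' := fun v w => Subtype.ext (by simp [mul_assoc]) }
      map_one' := MulEquiv.ext fun v => Subtype.ext (by simp)
      map_mul' := fun a b => MulEquiv.ext fun v => Subtype.ext (by simp [mul_assoc]) }
  let actQ : Q →* MulAut G :=
    { toFun := fun a =>
        { toFun := fun v => ⟨(a : X) * v * (a : X)⁻¹, (Subgroup.mem_normalizer_iff.mp (hQG a.2) v).mp v.2⟩
          invFun := fun v => ⟨(a : X)⁻¹ * v * (a : X), by
            simpa using (Subgroup.mem_normalizer_iff.mp (hQG (Q.inv_mem a.2)) v).mp v.2⟩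
          left_inv := fun v => Subtype.ext (by simp [mul_assoc])
          right_inv := fun v => Subtype.ext (by simp [mul_assoc])
          map_mul' := fun v w => Subtype.ext (by simp [mul_assoc]) }
      map_one' := MulEquiv.ext fun v => Subtype.ext (by simp)
      map_mul' := fun a b => MulEquiv.ext fun v => Subtype.ext (by simp [mul_assoc]) }
  let σ : P → Q ≃ Q := fun a =>
    { toFun := fun b => ⟨(a : X) * b * (a : X)⁻¹, (Subgroup.mem_normalizer_iff.mp (hPQ a.2) b).mp b.2⟩
      invFun := fun b => ⟨(a : X)⁻¹ * b * (a : X), by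
        simpa using (Subgroup.mem_normalizer_iff.mp (hPQ (P.inv_mem a.2)) b).mp b.2⟩
      left_inv := fun b => Subtype.ext (by simp [mul_assoc])
      right_inv := fun b => Subtype.ext (by simp [mul_assoc]) }
  have hSp : IsPGroup p (Cfsg.Agent.Grp.Baer.Shadow D) := fun x => ⟨1, by
    rw [pow_one, Cfsg.Agent.Grp.Baer.shadow_pow D, D.exponent]; rfl⟩
  have hall := Cfsg.Agent.Grp.Baer.abelian_case hSp hP hQ ((Cfsg.Agent.Grp.Baer.mapAut D).comp actP)
    ((Cfsg.Agent.Grp.Baer.mapAut D).comp actQ) σ
    (fun a b v => congrArg Cfsg.Agent.Grp.Baer.Shadow.mk (Subtype.ext (by simp [actP, actQ, σ, mul_assoc, Cfsg.Agent.Grp.Baer.mapAut])))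
    (fun v hv b => by
      have h1 : (v.val : X) ∈ G ⊓ Subgroup.centralizer (P : Set X) := ⟨v.val.2, Subgroup.mem_centralizer_iff.mpr fun a ha =>
        mul_inv_eq_iff_eq_mul.mp (congrArg (fun t => ((t : Cfsg.Agent.Grp.Baer.Shadow D).val : X)) (hv ⟨a, ha⟩))⟩
      have h2 := Subgroup.mem_centralizer_iff.mp (hC h1) b b.2
      exact congrArg Cfsg.Agent.Grp.Baer.Shadow.mk (Subtype.ext (mul_inv_eq_iff_eq_mul.mpr h2)))
  refine hnt (Subgroup.commutator_eq_bot_iff_le_centralizer.mpr fun v hv => Subgroup.mem_centralizer_iff.mpr fun b hb => ?_)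
  exact mul_inv_eq_iff_eq_mul.mp (congrArg (fun t => ((t : Cfsg.Agent.Grp.Baer.Shadow D).val : X)) (hall ⟨b, hb⟩ ⟨⟨v, hv⟩⟩))

end Cfsg.Agent.S3737
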