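import Cfsg.Statements.S1302
import Cfsg.Agent.S3737
import Cfsg.Agent.Lib.Grp.SchurZassenhaus
import Cfsg.Agent.Lib.Grp.Cores


set_option autoImplicit false
open Cfsg

namespace Cfsg.Agent.S1302

/-- Let X be a finite p-constrained group, p an odd prime, and A an abelian p-subgroup of X containing every element of order p of C_X(A). Then every subgroup of X of order prime to p that is normalized by A lies in O_{p'}(X). -/
theorem result {X : Type*} [Group X] [Finite X] (p : ℕ) [Fact p.Prime] (hp : p ≠ 2) (hX : Cfsg.IsPConstrained p X) (A : Subgroup X) (hA : IsMulCommutative ↥A) (hAp : IsPGroup p ↥A) (hΩ : ∀ x ∈ Subgroup.centralizer (A : Set X), orderOf x = p → x ∈ A) (Q : Subgroup X) (hQ : ¬ p ∣ Nat.card ↥Q) (hAQ : A ≤ Subgroup.normalizer (Q : Set X)) : Q ≤ Cfsg.pPrimeCore p X := by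
  classical
  have hp' : p.Prime := Fact.out
  have hNn : (Cfsg.pPrimeCore p X).Normal := Cfsg.Agent.Grp.pPrimeCore_isNormal
  set N := Cfsg.pPrimeCore p X with hN
  have hNp : ¬ p ∣ Nat.card N := Cfsg.Agent.Grp.pPrimeCore_not_dvd
  set π := QuotientGroup.mk' N with hπdef
  have hπ : Function.Surjective π := QuotientGroup.mk'_surjective N
  set U := Cfsg.pCore p (X ⧸ N) with hUdef
  have hUn : U.Normal := Cfsg.Agent.Grp.pCore_isNormal
  have hUp : IsPGroup p U := Cfsg.Agent.Grp.pCore_isPGroup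
  -- lifting centralizers of `p`-subgroups
  have lift : ∀ R : Subgroup X, IsPGroup p R → ∀ y : X, (∀ r ∈ R, π y * π r = π r * π y) →
      ∃ c, c ∈ Subgroup.centralizer (R : Set X) ∧ π c = π y := by
    intro R hR y hy
    have hcop : (Nat.card N).Coprime (Nat.card R) := by
      obtain ⟨j, hj⟩ := IsPGroup.iff_card.mp hR
      rw [hj]; exact ((hp'.coprime_iff_not_dvd.mpr hNp).symm).pow_right j
    have hle : R.map (MulAut.conj y).toMonoidHom ≤ N ⊔ R := by
      rintro _ ⟨r, hr, rfl⟩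
      have h1 : y * r * y⁻¹ * r⁻¹ ∈ N := by
        rw [← QuotientGroup.eq_one_iff]
        show π (y * r * y⁻¹ * r⁻¹) = 1
        rw [map_mul, map_mul, map_mul, map_inv, map_inv, hy r hr, mul_inv_cancel_right, mul_inv_cancel]
      have := Subgroup.mul_mem_sup (S := N) (T := R) h1 hr
      simpa [mul_assoc] using this
    obtain ⟨n, hn, hn'⟩ := Cfsg.Agent.Grp.exists_conj_of_le_sup (N := N) (H := R) Subgroup.le_normalizer_of_normal hle
      (Subgroup.card_map_of_injective (MulAut.conj y).injective) hcop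
      (Or.inr (@IsNilpotent.to_isSolvable _ _ hR.isNilpotent))
    have hπn : π n = 1 := (QuotientGroup.eq_one_iff n).mpr hn
    have himg : π (n⁻¹ * y) = π y := by rw [map_mul, map_inv, hπn, inv_one, one_mul]
    refine ⟨n⁻¹ * y, Subgroup.mem_centralizer_iff.mpr fun r hr => ?_, himg⟩
    have h2 : (n⁻¹ * y) * r * (n⁻¹ * y)⁻¹ ∈ R := by
      have h3 : y * r * y⁻¹ ∈ R.map (MulAut.conj n).toMonoidHom := by
        have h4 : y * r * y⁻¹ ∈ R.map (MulAut.conj y).toMonoidHom := ⟨r, hr, rfl⟩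
        rw [← hn', ← Cfsg.Agent.Grp.map_conj_eq_smul] at h4
        exact h4
      obtain ⟨r', hr', he⟩ := h3
      have he' : n * r' * n⁻¹ = y * r * y⁻¹ := he
      rw [show (n⁻¹ * y) * r * (n⁻¹ * y)⁻¹ = n⁻¹ * (y * r * y⁻¹) * n by group, ← he',
        show n⁻¹ * (n * r' * n⁻¹) * n = r' by group]
      exact hr'
    have h5 : (n⁻¹ * y) * r * (n⁻¹ * y)⁻¹ * r⁻¹ ∈ N ⊓ R := by
      refine ⟨?_, R.mul_mem h2 (R.inv_mem hr)⟩
      show (n⁻¹ * y) * r * (n⁻¹ * y)⁻¹ * r⁻¹ ∈ N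
      rw [← QuotientGroup.eq_one_iff]
      show π ((n⁻¹ * y) * r * (n⁻¹ * y)⁻¹ * r⁻¹) = 1
      rw [map_mul π ((n⁻¹ * y) * r * (n⁻¹ * y)⁻¹), map_mul π ((n⁻¹ * y) * r), map_mul π (n⁻¹ * y) r, map_inv, map_inv,
        himg, hy r hr, mul_inv_cancel_right, mul_inv_cancel]
    rw [Cfsg.Agent.Grp.inf_eq_bot_of_coprime hcop, Subgroup.mem_bot, mul_inv_eq_one, mul_inv_eq_iff_eq_mul] at h5
    exact h5.symm
  -- the quotient is constrained
  have hCU : ∀ y : X, (∀ u ∈ U, π y * u = u * π y) → π y ∈ U := by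
    intro y hy
    obtain ⟨P⟩ := (inferInstance : Nonempty (Sylow p ↥(Cfsg.pPrimePCore p X)))
    obtain ⟨c, hc, hcy⟩ := lift ((P : Subgroup ↥(Cfsg.pPrimePCore p X)).map (Cfsg.pPrimePCore p X).subtype) (P.2.map _) y
      (by rintro _ ⟨w, -, rfl⟩; exact hy _ w.2)
    rw [← hcy]
    exact hX P hc
  suffices hQU : ∀ q ∈ Q, ∀ u ∈ U, π q * u = u * π q by
    intro q hq
    have h1 := hCU q (hQU q hq)
    rw [← QuotientGroup.eq_one_iff]
    show π q = 1
    rw [← orderOf_eq_one_iff]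
    obtain ⟨j, hj⟩ := IsPGroup.iff_card.mp hUp
    refine Nat.eq_one_of_dvd_coprimes ((hp'.coprime_iff_not_dvd.mpr hQ).symm.pow_right j)
      ((orderOf_map_dvd π q).trans (Subgroup.orderOf_dvd_natCard Q hq)) (hj ▸ Subgroup.orderOf_dvd_natCard U h1)
  set A' := A.map π
  set Q' := Q.map π
  have hA'Q : A' ≤ Subgroup.normalizer (Q' : Set (X ⧸ N)) := by
    rintro _ ⟨a, ha, rfl⟩
    refine Cfsg.Agent.Grp.mem_normalizer_of_map_eq.mpr ?_
    conv_rhs => rw [show Q' = (Q.map (MulAut.conj a).toMonoidHom).map π by rw [Cfsg.Agent.Grp.mem_normalizer_of_map_eq.mp (hAQ ha)]]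
    rw [Subgroup.map_map, Subgroup.map_map]
    congr 1
  have hQ'p : (Nat.card Q').Coprime p := by
    refine Nat.Coprime.coprime_dvd_left (Subgroup.card_map_dvd _ π) ?_
    exact (hp'.coprime_iff_not_dvd.mpr hQ).symm
  have hfix : ∀ u ∈ U, u ^ p = 1 → (∀ a ∈ A, π a * u = u * π a) → ∀ v ∈ Q', v * u = u * v := by
    intro u hu hup hua v hv
    by_cases hu1 : u = 1
    · rw [hu1, mul_one, one_mul]
    obtain ⟨y, rfl⟩ := hπ u
    obtain ⟨c, hc, hcy⟩ := lift A hAp y (fun a ha => (hua a ha).symm)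
    set m := orderOf c / p ^ (orderOf c).factorization p
    have hm : m.Coprime p := ((hp'.coprime_iff_not_dvd).mpr (Nat.not_dvd_ordCompl hp' (orderOf_pos c).ne')).symm
    have hcm : orderOf (c ^ m) = p := by
      have h1 : (c ^ m) ^ p = 1 := by
        have hN1 : (c ^ m) ^ p ∈ N := by
          rw [← QuotientGroup.eq_one_iff]
          show π ((c ^ m) ^ p) = 1
          rw [map_pow, map_pow, hcy, ← pow_mul, mul_comm, pow_mul, hup, one_pow]
        rw [← orderOf_eq_one_iff]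
        refine Nat.eq_one_of_dvd_coprimes ((hp'.coprime_iff_not_dvd.mpr hNp).symm.pow_right ((orderOf c).factorization p))
          (Subgroup.orderOf_dvd_natCard N hN1) ?_
        refine orderOf_dvd_of_pow_eq_one ?_
        rw [← pow_mul, ← pow_mul, mul_comm p, ← mul_assoc, Nat.div_mul_cancel (Nat.ordProj_dvd _ _), pow_mul,
          pow_orderOf_eq_one, one_pow]
      refine orderOf_eq_prime h1 fun e => ?_
      have h2 : π y ^ m = 1 := by rw [← hcy, ← map_pow, e, map_one]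
      exact hu1 (orderOf_eq_one_iff.mp (Nat.eq_one_of_dvd_coprimes hm (orderOf_dvd_of_pow_eq_one h2) (orderOf_dvd_of_pow_eq_one hup)))
    have hmA : c ^ m ∈ A := hΩ _ (pow_mem hc m) hcm
    have hy' : π y ∈ A' := by
      have h2 : π y ^ m ∈ A' := ⟨c ^ m, hmA, by rw [map_pow, hcy]⟩
      obtain ⟨k, hk⟩ := exists_pow_eq_self_of_coprime (x := π y) (n := m)
        (by rw [orderOf_eq_prime hup hu1]; exact hm)
      exact hk ▸ pow_mem h2 k
    have h3 : π y * v * (π y)⁻¹ * v⁻¹ ∈ Q' ⊓ U := by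
      refine ⟨Q'.mul_mem ((Subgroup.mem_normalizer_iff.mp (hA'Q hy') v).mp hv) (Q'.inv_mem hv), ?_⟩
      rw [show π y * v * (π y)⁻¹ * v⁻¹ = π y * (v * (π y)⁻¹ * v⁻¹) by group]
      exact U.mul_mem hu (hUn.conj_mem _ (U.inv_mem hu) v)
    obtain ⟨j, hj⟩ := IsPGroup.iff_card.mp hUp
    rw [Cfsg.Agent.Grp.inf_eq_bot_of_coprime (hj ▸ hQ'p.pow_right j), Subgroup.mem_bot, mul_inv_eq_one, mul_inv_eq_iff_eq_mul] at h3
    exact h3.symm
  have hB : A' ⊔ Q' ≤ Subgroup.normalizer (Q' : Set (X ⧸ N)) := sup_le hA'Q Subgroup.le_normalizer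
  suffices key : ∀ n, ∀ W : Subgroup (X ⧸ N), Nat.card W = n → W ≤ U → A' ⊔ Q' ≤ Subgroup.normalizer (W : Set (X ⧸ N)) →
      ⁅W, Q'⁆ = ⊥ by
    intro q hq u hu
    have h1 := key _ U rfl le_rfl Subgroup.le_normalizer_of_normal
    exact (Subgroup.mem_centralizer_iff.mp (Subgroup.commutator_eq_bot_iff_le_centralizer.mp h1 hu) (π q) ⟨q, hq, rfl⟩)
  intro n
  induction n using Nat.strong_induction_on with
  | _ n ih =>
  intro W hn hWU hWn
  by_contra hnt
  obtain ⟨-, -, -, hexp⟩ := S3736.result (A' ⊔ Q') Q' W (hUp.to_le hWU) hWn le_sup_right hB hQ'p hnt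
    (fun V hV hVn => by
      refine ih _ ?_ V rfl (hV.le.trans hWU) hVn
      rw [← hn]
      by_contra hge
      exact hV.ne (Subgroup.eq_of_le_of_card_ge hV.le (not_lt.mp hge)))
  have h2 := S3737.result hp A' Q' W (hAp.map π) hQ'p hA'Q (hUp.to_le hWU) (le_sup_left.trans hWn) (le_sup_right.trans hWn)
    (fun w hw => Subgroup.mem_centralizer_iff.mpr fun v hv => hfix w (hWU hw.1) (hexp hp w hw.1)
      (fun a ha => Subgroup.mem_centralizer_iff.mp hw.2 (π a) ⟨a, ha, rfl⟩) v hv)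
  exact hnt (by rw [Subgroup.commutator_comm]; exact Subgroup.commutator_eq_bot_iff_le_centralizer.mpr h2)

end Cfsg.Agent.S1302
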