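import Cfsg.Statements.S1303
import Mathlib
import Cfsg.Agent.Lib.Grp.Cores

set_option autoImplicit false
open Cfsg

namespace Cfsg.Agent.S1303

/-- The group X = SL(2, 3): it is 2-constrained, O_{2'}(X) = 1, its centre A = Z(X) contains every involution of X = C_X(A), and X has a subgroup of order 3 (normalized by A) not contained in O_{2'}(X). -/
theorem result : Cfsg.IsPConstrained 2 (Matrix.SpecialLinearGroup (Fin 2) (ZMod 3)) ∧ Cfsg.pPrimeCore 2 (Matrix.SpecialLinearGroup (Fin 2) (ZMod 3)) = ⊥ ∧ (∀ t : Matrix.SpecialLinearGroup (Fin 2) (ZMod 3), orderOf t = 2 → t ∈ Subgroup.center (Matrix.SpecialLinearGroup (Fin 2) (ZMod 3))) ∧ ∃ Q : Subgroup (Matrix.SpecialLinearGroup (Fin 2) (ZMod 3)), Nat.card ↥Q = 3 ∧ ¬ (Q ≤ Cfsg.pPrimeCore 2 (Matrix.SpecialLinearGroup (Fin 2) (ZMod 3))) := by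
  have hT0 : ∃ T : Matrix.SpecialLinearGroup (Fin 2) (ZMod 3), T ^ 3 = 1 ∧ T ≠ 1 := by decide +kernel
  classical
  haveI : Fact (Nat.Prime 2) := ⟨Nat.prime_two⟩
  haveI : Fact (Nat.Prime 3) := ⟨Nat.prime_three⟩
  let S : Subgroup (Matrix.SpecialLinearGroup (Fin 2) (ZMod 3)) :=
    { carrier := {g | g ^ 4 = 1}
      one_mem' := one_pow _
      mul_mem' := fun {a b} => by revert a b; simp only [Set.mem_ofPred_eq]; decide +kernel
      inv_mem' := fun {a} (ha : a ^ 4 = 1) => show a⁻¹ ^ 4 = 1 by rw [inv_pow, ha, inv_one] }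
  have hcen : ∀ g : (Matrix.SpecialLinearGroup (Fin 2) (ZMod 3)), (∀ s : (Matrix.SpecialLinearGroup (Fin 2) (ZMod 3)), s ^ 4 = 1 → s * g = g * s) → g ^ 4 = 1 := by decide +kernel
  have hinv : ∀ t : (Matrix.SpecialLinearGroup (Fin 2) (ZMod 3)), t * t = 1 → ∀ g : (Matrix.SpecialLinearGroup (Fin 2) (ZMod 3)), g * t = t * g := by decide +kernel
  have hSn : S.Normal := ⟨fun s hs g => show (g * s * g⁻¹) ^ 4 = 1 by rw [conj_pow, show s ^ 4 = 1 from hs]; group⟩
  have hS2 : IsPGroup 2 S := fun s => ⟨2, Subtype.ext (by rw [show (2 : ℕ) ^ 2 = 4 by rfl]; exact s.2)⟩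
  have hcore : Cfsg.pPrimeCore 2 (Matrix.SpecialLinearGroup (Fin 2) (ZMod 3)) = ⊥ := by
    set N := Cfsg.pPrimeCore 2 (Matrix.SpecialLinearGroup (Fin 2) (ZMod 3))
    have hNn : N.Normal := Agent.Grp.pPrimeCore_isNormal
    have hdisj : ∀ x ∈ N, x ^ 4 = 1 → x = 1 := fun x hx h4 =>
      orderOf_eq_one_iff.mp (Nat.eq_one_of_dvd_coprimes ((Agent.Grp.pPrimeCore_coprime (p := 2) (G := (Matrix.SpecialLinearGroup (Fin 2) (ZMod 3)))).pow_right 2)
        (Subgroup.orderOf_dvd_natCard N hx) (orderOf_dvd_of_pow_eq_one h4))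
    rw [eq_bot_iff]
    intro x hx
    refine Subgroup.mem_bot.mpr (hdisj x hx (hcen x fun s hs => ?_))
    have h1 : x * s * x⁻¹ * s⁻¹ ∈ N := by
      rw [mul_assoc x, mul_assoc x]
      exact N.mul_mem hx (hNn.conj_mem _ (N.inv_mem hx) s)
    have h2 : x * s * x⁻¹ * s⁻¹ ∈ S := S.mul_mem (hSn.conj_mem s hs x) (S.inv_mem hs)
    have h3 := hdisj _ h1 h2
    rw [mul_inv_eq_one, mul_inv_eq_iff_eq_mul] at h3
    exact h3.symm
  refine ⟨?_, hcore, fun t ht => ?_, ?_⟩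
  · intro P
    let N := Cfsg.pPrimePCore 2 (Matrix.SpecialLinearGroup (Fin 2) (ZMod 3))
    let O := Cfsg.pPrimeCore 2 (Matrix.SpecialLinearGroup (Fin 2) (ZMod 3))
    let π := QuotientGroup.mk' O
    have hbij : Function.Injective π := (MonoidHom.ker_eq_bot_iff π).mp (by rw [QuotientGroup.ker_mk']; exact hcore)
    have hN2 : IsPGroup 2 N := by
      intro x
      obtain ⟨k, hk⟩ := (Agent.Grp.pCore_isPGroup (p := 2) (G := (Matrix.SpecialLinearGroup (Fin 2) (ZMod 3)) ⧸ O)) ⟨π x, x.2⟩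
      refine ⟨k, Subtype.ext (hbij ?_)⟩
      rw [Subgroup.coe_pow, map_pow, Subgroup.coe_one, map_one]
      exact congrArg Subtype.val hk
    have hSN : S ≤ N := Subgroup.map_le_iff_le_comap.mp (Agent.Grp.le_pCore
      (Subgroup.Normal.map hSn π (QuotientGroup.mk'_surjective O)) (hS2.map π))
    have htop : (P : Subgroup N) = ⊤ := (P.3 (hN2.to_subgroup ⊤) le_top).symm
    intro g hg
    refine hSN (hcen g fun s hs => ?_)
    refine Subgroup.mem_centralizer_iff.mp hg s ⟨⟨s, hSN hs⟩, ?_, rfl⟩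
    rw [SetLike.mem_coe, htop]; exact Subgroup.mem_top _
  · rw [Subgroup.mem_center_iff]
    exact hinv t (by have := pow_orderOf_eq_one t; rwa [ht, pow_two] at this)
  · obtain ⟨T, hT3, hT1⟩ := hT0
    have hT : orderOf T = 3 := orderOf_eq_prime hT3 hT1
    refine ⟨Subgroup.zpowers T, by rw [Nat.card_zpowers, hT], fun h => ?_⟩
    rw [hcore, le_bot_iff, Subgroup.zpowers_eq_bot] at h
    rw [h, orderOf_one] at hT
    omega

end Cfsg.Agent.S1303
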