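import Cfsg.Statements.S1304
import Mathlib
-- import your own Cfsg.Agent.* helpers here

set_option autoImplicit false
open Cfsg

namespace Cfsg.Agent.S1304

open scoped commutatorElement

/-- Let X be a perfect group and α an automorphism of X with α(x) x⁻¹ central for every x. Then α is the identity. -/
theorem result {X : Type*} [Group X] (hperf : commutator X = ⊤) (α : X ≃* X) (h : ∀ x : X, α x * x⁻¹ ∈ Subgroup.center X) : ∀ x : X, α x = x := by
  intro x
  have hmem : commutator X ≤ MonoidHom.eqLocus α.toMonoidHom (MonoidHom.id X) := by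
    rw [commutator_def, Subgroup.commutator_le]
    intro a _ b _
    show α ⁅a, b⁆ = ⁅a, b⁆
    have ha := h a
    have hb := h b
    set z := α a * a⁻¹ with hz
    set w := α b * b⁻¹ with hw
    have ea : α a = z * a := by rw [hz, inv_mul_cancel_right]
    have eb : α b = w * b := by rw [hw, inv_mul_cancel_right]
    rw [map_commutatorElement, ea, eb, commutatorElement_mul_left_eq_conj_mul,
      commutatorElement_eq_one_iff_mul_comm.mpr (Subgroup.mem_center_iff.mp ha _).symm, mul_one,
      commutatorElement_mul_right_eq_mul_conj, commutatorElement_eq_one_iff_mul_comm.mpr (Subgroup.mem_center_iff.mp hb _),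
      one_mul, ← Subgroup.mem_center_iff.mp hb ⁅a, b⁆, mul_inv_cancel_right,
      ← Subgroup.mem_center_iff.mp ha ⁅a, b⁆, mul_inv_cancel_right]
  exact hmem (hperf ▸ Subgroup.mem_top x)

end Cfsg.Agent.S1304
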