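import Cfsg.Statements.S1312
import Cfsg.Agent.Lib.Grp.PrimitivePair

set_option autoImplicit false
open Cfsg

namespace Cfsg.Agent.S1312

/-- Let G be a non-abelian finite simple group and M ≠ N maximal subgroups of G with F*(M) ≤ N and F*(N) ≤ M. Then there is a prime p such that F*(M) and F*(N) are both p-groups. -/
theorem result {G : Type*} [Group G] [Finite G] [IsSimpleGroup G] (hna : ¬ IsMulCommutative G) (M N : Subgroup G) (hM : IsCoatom M) (hN : IsCoatom N) (hMN : M ≠ N) (h1 : (Cfsg.generalizedFittingSubgroup ↥M).map M.subtype ≤ N) (h2 : (Cfsg.generalizedFittingSubgroup ↥N).map N.subtype ≤ M) : ∃ p : ℕ, p.Prime ∧ IsPGroup p ↥(Cfsg.generalizedFittingSubgroup ↥M) ∧ IsPGroup p ↥(Cfsg.generalizedFittingSubgroup ↥N) := by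
  have hN' : ∀ (A X : Subgroup G), IsCoatom X → A ≠ ⊥ → A ≤ X → X ≤ Subgroup.normalizer (A : Set G) →
      Subgroup.normalizer (A : Set G) = X := by
    intro A X hX hA hAX hXA
    rcases hX.le_iff.mp hXA with h | h
    · exfalso
      have hAn : A.Normal := Subgroup.normalizer_eq_top_iff.mp h
      rcases hAn.eq_bot_or_eq_top with h1 | h1
      · exact hA h1
      · exact hX.1 (top_le_iff.mp (h1 ▸ hAX))
    · exact h
  obtain ⟨p, hp, e1, e2⟩ := Cfsg.Agent.Grp.primitive_pair_characteristic M N hMN (fun A hA hle =>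
    ⟨fun h => by rw [hN' A M hM hA (hle.trans inf_le_left) h, inf_comm],
      fun h => by rw [hN' A N hN hA (hle.trans inf_le_right) h]⟩) h1 h2
  haveI := Fact.mk hp
  exact ⟨p, hp, e1 ▸ Cfsg.Agent.Grp.pCore_isPGroup, e2 ▸ Cfsg.Agent.Grp.pCore_isPGroup⟩

end Cfsg.Agent.S1312
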