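import Cfsg.Statements.S1313
import Cfsg.Agent.Lib.Grp.Components
-- import your own Cfsg.Agent.* helpers here

set_option autoImplicit false
open Cfsg

namespace Cfsg.Agent.S1313

open Cfsg.Agent.Grp

/-- For a finite group H, |H| ≤ |F*(H)|!. -/
theorem result {H : Type*} [Group H] [Finite H] : Nat.card H ≤ Nat.factorial (Nat.card ↥(Cfsg.generalizedFittingSubgroup H)) := by
  classical
  set F := Cfsg.generalizedFittingSubgroup H with hFdef
  have : F.Normal := by
    have := fittingSubgroup_isNormal (G := H)
    rw [hFdef, Cfsg.generalizedFittingSubgroup]; infer_instance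
  let A := {x : F // x ≠ 1}
  let φ : H →* Equiv.Perm A :=
    MonoidHom.mk' (fun g => Equiv.Perm.subtypePerm ((MulAut.conjNormal g : MulAut F).toEquiv)
      (fun x => by simp))
      (fun a b => Equiv.ext fun x => Subtype.ext (by simp [map_mul]))
  have hker : φ.ker ≤ Subgroup.centralizer (F : Set H) := by
    intro g hg
    rw [Subgroup.mem_centralizer_iff]
    intro y hy
    rcases eq_or_ne y 1 with rfl | hy1
    · simp
    have := congrArg (fun σ : Equiv.Perm A => (((σ ⟨⟨y, hy⟩, fun e => hy1 (congrArg Subtype.val e)⟩ : A) : F) : H)) (MonoidHom.mem_ker.mp hg)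
    simp [φ] at this
    exact (mul_inv_eq_iff_eq_mul.mp this).symm
  have h1 : Nat.card φ.ker ≤ Nat.card F := Subgroup.card_le_of_le (hker.trans centralizer_gfitting_le)
  have hA : Nat.card A = Nat.card F - 1 := by
    let _ := Fintype.ofFinite F
    rw [Nat.card_eq_fintype_card, Nat.card_eq_fintype_card, Fintype.card_subtype_compl, Fintype.card_subtype_eq]
  have h2 : φ.ker.index ≤ Nat.factorial (Nat.card F - 1) := by
    rw [Subgroup.index_ker, ← hA]
    refine (Subgroup.card_le_card_group _).trans ?_
    rw [Nat.card_perm]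
  calc Nat.card H = Nat.card φ.ker * φ.ker.index := (Subgroup.card_mul_index _).symm
    _ ≤ Nat.card F * Nat.factorial (Nat.card F - 1) := Nat.mul_le_mul h1 h2
    _ = Nat.factorial (Nat.card F) := Nat.mul_factorial_pred Nat.card_pos.ne'

end Cfsg.Agent.S1313
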