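import Cfsg.Statements.S1314
import Mathlib

set_option autoImplicit false
open Cfsg
open scoped commutatorElement

namespace Cfsg.Agent.S1314

/-- Let x be an involution of a group G and L a perfect subgroup with ⁅L, x L x⁻¹⁆ = 1. Then l ↦ l (x l x⁻¹) is a group homomorphism π from L to G whose kernel is central in L and whose image lies in C_G(x); and the commutator subgroup of C_{L ⊔ xLx⁻¹}(x) equals the image of π. -/
theorem result {G : Type*} [Group G] [Finite G] (x : G) (hx : orderOf x = 2) (L : Subgroup G) (hperf : ⁅L, L⁆ = L) (hcomm : ⁅L, L.map (MulAut.conj x).toMonoidHom⁆ = ⊥) : ∃ π : ↥L →* G, (∀ l : ↥L, π l = (l : G) * (x * (l : G) * x⁻¹)) ∧ π.ker ≤ Subgroup.center ↥L ∧ π.range ≤ Subgroup.centralizer ({x} : Set G) ∧ ⁅(L ⊔ L.map (MulAut.conj x).toMonoidHom) ⊓ Subgroup.centralizer ({x} : Set G), (L ⊔ L.map (MulAut.conj x).toMonoidHom) ⊓ Subgroup.centralizer ({x} : Set G)⁆ = π.range := by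
  have hxx : x * x = 1 := by rw [← sq, ← hx, pow_orderOf_eq_one]
  have hxi : x⁻¹ = x := inv_eq_of_mul_eq_one_right hxx
  have hcj : ∀ w : G, x * (x * w * x⁻¹) * x⁻¹ = w := fun w => by
    rw [hxi, show x * (x * w * x) * x = (x * x) * w * (x * x) by group, hxx, one_mul, mul_one]
  set L' := L.map (MulAut.conj x).toMonoidHom with hL'
  have hcm : ∀ a ∈ L, ∀ b ∈ L', a * b = b * a := fun a ha b hb =>
    ((Subgroup.mem_centralizer_iff.mp (Subgroup.commutator_eq_bot_iff_le_centralizer.mp hcomm ha)) b hb).symm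
  have hmem' : ∀ a ∈ L, x * a * x⁻¹ ∈ L' := fun a ha => ⟨a, ha, rfl⟩
  let π : L →* G := MonoidHom.mk' (fun l => (l : G) * (x * (l : G) * x⁻¹)) (fun a b => by
    have e := hcm b b.2 _ (hmem' a a.2)
    calc ((a * b : L) : G) * (x * ((a * b : L) : G) * x⁻¹)
        = (a : G) * ((b : G) * (x * a * x⁻¹)) * (x * b * x⁻¹) := by rw [Subgroup.coe_mul]; group
      _ = (a : G) * ((x * a * x⁻¹) * (b : G)) * (x * b * x⁻¹) := by rw [e]
      _ = _ := by group)
  have hπC : π.range ≤ Subgroup.centralizer ({x} : Set G) := by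
    rintro _ ⟨l, rfl⟩
    rw [Subgroup.mem_centralizer_singleton_iff]
    show (l : G) * (x * l * x⁻¹) * x = x * ((l : G) * (x * l * x⁻¹))
    have h1 := hcm l l.2 _ (hmem' l l.2)
    calc (l : G) * (x * l * x⁻¹) * x = x * (x * l * x⁻¹) * x⁻¹ * (x * l * x⁻¹) * x := by rw [hcj]
      _ = x * ((x * l * x⁻¹) * l) := by group
      _ = _ := by rw [h1]
  refine ⟨π, fun l => rfl, fun l hl => ?_, hπC, ?_⟩
  · rw [Subgroup.mem_center_iff]
    intro m
    have hl' : (l : G) = (x * (l : G) * x⁻¹)⁻¹ := eq_inv_of_mul_eq_one_left hl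
    apply Subtype.ext
    rw [Subgroup.coe_mul, Subgroup.coe_mul, hl']
    exact hcm m m.2 _ (inv_mem (hmem' l l.2))
  · set M := (L ⊔ L') ⊓ Subgroup.centralizer ({x} : Set G) with hM
    have hπM : π.range ≤ M := by
      refine le_inf ?_ hπC
      rintro _ ⟨l, rfl⟩
      exact mul_mem (Subgroup.mem_sup_left l.2) (Subgroup.mem_sup_right (hmem' l l.2))
    have hperfπ : ⁅π.range, π.range⁆ = π.range := by
      have hp : ⁅(⊤ : Subgroup L), (⊤ : Subgroup L)⁆ = (⊤ : Subgroup L) := by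
        apply Subgroup.map_injective L.subtype_injective
        rw [Subgroup.map_commutator, ← MonoidHom.range_eq_map, Subgroup.range_subtype, hperf]
      rw [MonoidHom.range_eq_map, ← Subgroup.map_commutator, hp]
    refine le_antisymm ?_ (hperfπ.ge.trans (Subgroup.commutator_mono hπM hπM))
    have hdec : ∀ m ∈ M, ∃ b : L, ∃ z : G, (∀ w ∈ L ⊔ L', z * w = w * z) ∧ m = π b * z := by
      rintro m ⟨hm, hmx⟩
      have hsup : ∀ w ∈ L ⊔ L', ∃ a ∈ L, ∃ c ∈ L, w = a * (x * c * x⁻¹) := by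
        intro w hw
        rw [← Subgroup.closure_eq L, ← Subgroup.closure_eq L', ← Subgroup.closure_union] at hw
        induction hw using Subgroup.closure_induction with
        | mem w hw =>
          rcases hw with hw | ⟨c, hc, rfl⟩
          · exact ⟨w, hw, 1, one_mem _, by simp⟩
          · exact ⟨1, one_mem _, c, hc, by simp⟩
        | one => exact ⟨1, one_mem _, 1, one_mem _, by simp⟩
        | mul u v _ _ hu hv =>
          obtain ⟨a, ha, c, hc, rfl⟩ := hu
          obtain ⟨a', ha', c', hc', rfl⟩ := hv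
          refine ⟨a * a', mul_mem ha ha', c * c', mul_mem hc hc', ?_⟩
          have e := hcm a' ha' _ (hmem' c hc)
          calc a * (x * c * x⁻¹) * (a' * (x * c' * x⁻¹)) = a * ((x * c * x⁻¹) * a') * (x * c' * x⁻¹) := by group
            _ = a * (a' * (x * c * x⁻¹)) * (x * c' * x⁻¹) := by rw [e]
            _ = _ := by group
        | inv u _ hu =>
          obtain ⟨a, ha, c, hc, rfl⟩ := hu
          refine ⟨a⁻¹, inv_mem ha, c⁻¹, inv_mem hc, ?_⟩
          rw [hcm a⁻¹ (inv_mem ha) _ (hmem' c⁻¹ (inv_mem hc))]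
          group
      obtain ⟨a, ha, c, hc, rfl⟩ := hsup m hm
      have hfix : c * (x * a * x⁻¹) = a * (x * c * x⁻¹) := by
        rw [hcm c hc _ (hmem' a ha)]
        calc (x * a * x⁻¹) * c = (x * a * x⁻¹) * (x * (x * c * x⁻¹) * x⁻¹) := by rw [hcj]
          _ = x * (a * (x * c * x⁻¹)) * x⁻¹ := by group
          _ = _ := by rw [← Subgroup.mem_centralizer_singleton_iff.mp hmx, mul_inv_cancel_right]
      have hz2 : x * (a * c⁻¹) * x⁻¹ = c⁻¹ * a := by
        calc x * (a * c⁻¹) * x⁻¹ = c⁻¹ * (c * (x * a * x⁻¹)) * (x * c * x⁻¹)⁻¹ := by group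
          _ = _ := by rw [hfix]; group
      have hzL : c⁻¹ * a ∈ L := mul_mem (inv_mem hc) ha
      have hzL' : c⁻¹ * a ∈ L' := hz2 ▸ hmem' _ (mul_mem ha (inv_mem hc))
      have hzc : ∀ w ∈ L ⊔ L', (c⁻¹ * a) * w = w * (c⁻¹ * a) := by
        intro w hw
        obtain ⟨a', ha', c', hc', rfl⟩ := hsup w hw
        exact (Commute.mul_right (hcm a' ha' _ hzL').symm (hcm _ hzL _ (hmem' c' hc'))).eq
      refine ⟨⟨c, hc⟩, c⁻¹ * a, hzc, ?_⟩
      show a * (x * c * x⁻¹) = c * (x * c * x⁻¹) * (c⁻¹ * a)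
      rw [mul_assoc c, ← hzc _ (Subgroup.mem_sup_right (hmem' c hc))]
      group
    rw [Subgroup.commutator_le]
    intro u hu v hv
    obtain ⟨b, z, hz, rfl⟩ := hdec u hu
    obtain ⟨b', z', hz', rfl⟩ := hdec v hv
    have hb : ∀ l : L, π l ∈ L ⊔ L' := fun l => (hπM ⟨l, rfl⟩).1
    have e : ⁅π b * z, π b' * z'⁆ = ⁅π b, π b'⁆ := by
      have h1 : π b * z * (π b' * z') = π b * π b' * (z * z') := by
        rw [mul_assoc (π b), ← mul_assoc z, hz _ (hb b')]; group
      have h2 : π b' * z' * (π b * z) = π b' * π b * (z * z') := by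
        have hzz : z' * z = z * z' := by
          have hzm : z ∈ L ⊔ L' := by
            have := mul_mem (inv_mem (hb b)) hu.1
            rwa [inv_mul_cancel_left] at this
          exact hz' z hzm
        rw [mul_assoc (π b'), ← mul_assoc z', hz' _ (hb b), mul_assoc (π b), hzz, ← mul_assoc]
      rw [commutatorElement_def, commutatorElement_def, mul_assoc _ (π b * z)⁻¹, ← mul_inv_rev, h1, h2]
      group
    rw [e]
    exact ⟨⁅b, b'⁆, map_commutatorElement π b b'⟩

end Cfsg.Agent.S1314
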