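import Cfsg.Statements.S1315
import Cfsg.Agent.Lib.Fus.FundPair.Order

set_option autoImplicit false
open Cfsg

namespace Cfsg.Agent.S1315

/-- Let G be finite and J ≠ K subgroups, each containing exactly one involution, z(J) resp. z(K), each a 2-component of the centralizer of its involution, with J / O(J) and K / O(K) both isomorphic to SL(2, F) for one finite field F of odd order, or both non-split double covers of A7. Then (i) every 2-element of K of order at least 4 centralizing z(J) normalizes J; (ii) if z(J) normalizes K then z(K) normalizes J. -/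
theorem result {G : Type*} [Group G] [Finite G] (J K : Subgroup G) (hJK : J ≠ K) (zJ zK : G) (hzJ : zJ ∈ J ∧ orderOf zJ = 2 ∧ ∀ t ∈ J, orderOf t = 2 → t = zJ) (hzK : zK ∈ K ∧ orderOf zK = 2 ∧ ∀ t ∈ K, orderOf t = 2 → t = zK) (hJ : J ≤ Subgroup.centralizer ({zJ} : Set G) ∧ Cfsg.IsPComponent 2 (J.subgroupOf (Subgroup.centralizer ({zJ} : Set G)))) (hK : K ≤ Subgroup.centralizer ({zK} : Set G) ∧ Cfsg.IsPComponent 2 (K.subgroupOf (Subgroup.centralizer ({zK} : Set G)))) (htype : (∃ (F : Type) (_ : Field F) (_ : Fintype F), Odd (Fintype.card F) ∧ Nonempty (↥J ⧸ Cfsg.oddCore ↥J ≃* Matrix.SpecialLinearGroup (Fin 2) F) ∧ Nonempty (↥K ⧸ Cfsg.oddCore ↥K ≃* Matrix.SpecialLinearGroup (Fin 2) F)) ∨ (Cfsg.IsNonsplitDoubleCover (↥J ⧸ Cfsg.oddCore ↥J) ↥(alternatingGroup (Fin 7)) ∧ Cfsg.IsNonsplitDoubleCover (↥K ⧸ Cfsg.oddCore ↥K) ↥(alternatingGroup (Fin 7)))) : (∀ y ∈ K, IsPGroup 2 ↥(Subgroup.zpowers y) → 4 ≤ orderOf y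 → y * zJ = zJ * y → y ∈ Subgroup.normalizer (J : Set G)) ∧ (zJ ∈ Subgroup.normalizer (K : Set G) → zK ∈ Subgroup.normalizer (J : Set G)) := by
  have hFJ : Agent.Fus.FundPair.Fund zJ J := ⟨hzJ.2.1, hzJ.1, hzJ.2.2, hJ⟩
  have hFK : Agent.Fus.FundPair.Fund zK K := ⟨hzK.2.1, hzK.1, hzK.2.2, hK⟩
  have hsz : Agent.Fus.FundPair.sz J = Agent.Fus.FundPair.sz K := by
    rcases htype with ⟨F, _, _, -, ⟨eJ⟩, ⟨eK⟩⟩ | ⟨⟨-, ⟨eJ⟩, -⟩, ⟨-, ⟨eK⟩, -⟩⟩
    · exact Nat.card_congr (QuotientGroup.congr _ _ (eJ.trans eK.symm)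
        (Agent.Fus.FundPair.map_center' (eJ.trans eK.symm))).toEquiv
    · exact (Nat.card_congr eJ.toEquiv).trans (Nat.card_congr eK.toEquiv).symm
  by_cases huv : zK = zJ
  · subst huv
    exact ⟨fun y hy _ _ _ => hFJ.normalized hFK hy, fun _ => Subgroup.le_normalizer hFJ.mem⟩
  refine ⟨fun y hy hy2 h4 hyv => Agent.Fus.FundPair.normalizes_of_order hFJ hFK hsz huv hy hy2
    (fun h => ?_) hyv, fun hn => Agent.Fus.FundPair.normalizer_symm hFJ hFK hsz hn⟩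
  have := Nat.le_of_dvd two_pos (orderOf_dvd_of_pow_eq_one (show y ^ 2 = 1 by rw [pow_two, h]))
  omega

end Cfsg.Agent.S1315
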