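import Cfsg.Statements.S1316
import Cfsg.Agent.Lib.Grp.Components
-- import your own Cfsg.Agent.* helpers here

set_option autoImplicit false
open Cfsg

namespace Cfsg.Agent.S1316

open Cfsg.Agent.Grp
open scoped commutatorElement

/-- For a finite group X, E(X) equals the intersection of the derived series of F*(X) (its last term). -/
theorem result {X : Type*} [Group X] [Finite X] : (⨅ n : ℕ, (derivedSeries ↥(Cfsg.generalizedFittingSubgroup X) n).map (Cfsg.generalizedFittingSubgroup X).subtype) = Cfsg.layer X := by
  set F := Cfsg.generalizedFittingSubgroup X with hFdef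
  have hEn : (Cfsg.layer X).Normal := inferInstance
  have hfit := fittingSubgroup_isNormal (G := X)
  have hEF : Cfsg.layer X ≤ F := le_sup_left
  refine le_antisymm ?_ (le_iInf fun n => ?_)
  · set f := QuotientGroup.mk' (Cfsg.layer X)
    have hnil := fittingSubgroup_isNilpotent (G := X)
    have hs : Group.IsSolvable (F.map f : Subgroup (X ⧸ Cfsg.layer X)) := by
      have e : F.map f = (Cfsg.fittingSubgroup X).map f := by
        rw [hFdef, Cfsg.generalizedFittingSubgroup, Subgroup.map_sup, QuotientGroup.map_mk'_self, bot_sup_eq]
      rw [e]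
      exact isSolvable_map inferInstance _
    obtain ⟨n, hn⟩ := hs
    refine iInf_le_of_le n ?_
    rintro _ ⟨x, hx, rfl⟩
    refine (QuotientGroup.eq_one_iff (x : X)).mp ?_
    let φ : F →* (F.map f : Subgroup (X ⧸ Cfsg.layer X)) :=
      MonoidHom.codRestrict (f.comp F.subtype) _ (fun y => ⟨y, y.2, rfl⟩)
    have h1 := map_derivedSeries_le_derivedSeries φ n ⟨x, hx, rfl⟩
    rw [hn, Subgroup.mem_bot] at h1
    exact congrArg Subtype.val h1
  · induction n with
    | zero =>
      rw [derivedSeries_zero, ← MonoidHom.range_eq_map, Subgroup.range_subtype]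
      exact hEF
    | succ n ih =>
      rw [derivedSeries_succ, Subgroup.map_commutator]
      exact layer_perfect.ge.trans (Subgroup.commutator_mono ih ih)

end Cfsg.Agent.S1316
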