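import Cfsg.Statements.S1321
import Mathlib
import Cfsg.Agent.Lib.Grp.Components
import Cfsg.Agent.Lib.Grp.Coprime

set_option autoImplicit false
open Cfsg

namespace Cfsg.Agent.S1321

/-- Let X be finite and U ≤ X. Then E(X) is generated by C_{E(X)}(U) together with ⁅E(X), U⁆ (indeed it is their product, ⁅E(X), U⁆ being normal in E(X)). -/
theorem result {X : Type*} [Group X] [Finite X] (U : Subgroup X) : Cfsg.layer X = (Cfsg.layer X ⊓ Subgroup.centralizer (U : Set X)) ⊔ ⁅Cfsg.layer X, U⁆ ∧ ⁅Cfsg.layer X, U⁆ ≤ Cfsg.layer X := by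
  classical
  set E := Cfsg.layer X with hE
  have hEn : E.Normal := by
    refine ⟨fun x hx g => ?_⟩
    have h1 : E.map (MulAut.conj g).toMonoidHom ≤ E := Agent.Grp.layer_map_le (MulAut.conj g)
    exact h1 ⟨x, hx, rfl⟩
  have hDE : ⁅E, U⁆ ≤ E := Agent.Grp.commutator_le_left_of_le_normalizer (by
    rw [Subgroup.normalizer_eq_top]; exact le_top)
  refine ⟨le_antisymm ?_ (sup_le inf_le_left hDE), hDE⟩
  have hDs : (⁅E, U⁆ : Subgroup X).IsSubnormal :=
    Subgroup.IsSubnormal.step _ E hDE hEn.isSubnormal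
      (Subgroup.normal_subgroupOf_of_le_normalizer (Agent.Grp.left_le_normalizer_commutator U E))
  refine sSup_le fun L hL => ?_
  rcases Agent.Grp.component_le_or_commute hL hDs with h | h
  · exact h.trans le_sup_right
  have hc : ∀ x ∈ L, ∀ d ∈ ⁅E, U⁆, d * x = x * d := fun x hx d hd =>
    (Subgroup.mem_centralizer_iff.mp (Subgroup.commutator_eq_bot_iff_le_centralizer.mp h hx) d hd)
  have hLE : L ≤ E := Agent.Grp.IsComponent.le_layer hL
  have hd : ∀ u ∈ U, ∀ y ∈ L, u * y * u⁻¹ * y⁻¹ ∈ ⁅E, U⁆ := fun u hu y hy => by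
    rw [Subgroup.commutator_comm]
    exact Subgroup.commutator_mem_commutator hu (hLE hy)
  have hinv : ∀ u ∈ U, ∀ y ∈ L, u * y * u⁻¹ ∈ L := by
    intro u hu
    have hL' : Cfsg.IsComponent (L.map (MulAut.conj u).toMonoidHom) := Agent.Grp.IsComponent.map_iso (MulAut.conj u) hL
    by_cases heq : L.map (MulAut.conj u).toMonoidHom = L
    · intro y hy
      exact heq.le ⟨y, hy, rfl⟩
    · exfalso
      refine Agent.Grp.IsComponent.ne_bot hL ?_
      rw [← Agent.Grp.IsComponent.perfect hL, Subgroup.commutator_eq_bot_iff_le_centralizer]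
      intro x hx
      rw [Subgroup.mem_centralizer_iff]
      intro y hy
      have h1 := Subgroup.mem_centralizer_iff.mp (Agent.Grp.IsComponent.commute hL' hL heq ⟨y, hy, rfl⟩) x hx
      change x * (u * y * u⁻¹) = u * y * u⁻¹ * x at h1
      have h2 := hc x hx _ (hd u hu y hy)
      set d := u * y * u⁻¹ * y⁻¹ with hdd
      rw [show u * y * u⁻¹ = d * y by rw [hdd]; group, ← mul_assoc x d y, ← h2, mul_assoc d x y, mul_assoc d y x] at h1
      exact (mul_left_cancel h1).symm
  refine le_trans ?_ le_sup_left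
  refine le_inf hLE ?_
  rw [← Agent.Grp.IsComponent.perfect hL, ← Subgroup.commutator_eq_bot_iff_le_centralizer]
  have h1 : ⁅⁅L, U⁆, L⁆ = ⊥ := by
    rw [eq_bot_iff, Subgroup.commutator_le]
    intro w hw x hx
    have hw' : w ∈ ⁅E, U⁆ := Subgroup.commutator_mono hLE le_rfl hw
    rw [Subgroup.mem_bot, commutatorElement_eq_one_iff_mul_comm]
    exact hc x hx w hw'
  have h2 : ⁅⁅U, L⁆, L⁆ = ⊥ := by rw [Subgroup.commutator_comm U L]; exact h1
  exact Subgroup.commutator_commutator_eq_bot_of_rotate h1 h2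

end Cfsg.Agent.S1321
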