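import Cfsg.Statements.S1327
import Cfsg.Agent.Lib.Grp.PComponents
-- import your own Cfsg.Agent.* helpers here

set_option autoImplicit false
open Cfsg

namespace Cfsg.Agent.S1327

open Cfsg.Agent.Grp

/-- A finite group X is p-constrained if and only if its p-layer L_{p'}(X) is trivial (equivalently X / O_{p'}(X) has trivial layer). -/
theorem result {X : Type*} [Group X] [Finite X] (p : ℕ) [Fact p.Prime] : Cfsg.IsPConstrained p X ↔ Cfsg.pLayer p X = ⊥ := by
  set Y := Cfsg.pPrimePCore p X with hY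
  set f := QuotientGroup.mk' (Cfsg.pPrimeCore p X) with hf
  have hfs : Function.Surjective f := QuotientGroup.mk'_surjective _
  have himg : ∀ P : Sylow p Y, ((P : Subgroup Y).map Y.subtype).map f = Cfsg.pCore p (X ⧸ Cfsg.pPrimeCore p X) := by
    intro P
    let φ : Y →* Cfsg.pCore p (X ⧸ Cfsg.pPrimeCore p X) := MonoidHom.codRestrict (f.comp Y.subtype) _ fun y => y.2
    have hφ : Function.Surjective φ := fun ⟨z, hz⟩ => by
      obtain ⟨y, rfl⟩ := hfs z
      exact ⟨⟨y, hz⟩, rfl⟩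
    have h1 : ((P.mapSurjective hφ : Sylow p (Cfsg.pCore p (X ⧸ Cfsg.pPrimeCore p X))) : Subgroup (Cfsg.pCore p (X ⧸ Cfsg.pPrimeCore p X))) = ⊤ :=
      ((P.mapSurjective hφ).is_maximal' ((pCore_isPGroup (p := p)).of_equiv Subgroup.topEquiv.symm) le_top).symm
    ext z
    constructor
    · rintro ⟨_, ⟨y, -, rfl⟩, rfl⟩
      exact y.2
    · intro hz
      have : (⟨z, hz⟩ : Cfsg.pCore p (X ⧸ Cfsg.pPrimeCore p X)) ∈ ((P.mapSurjective hφ : Sylow p (Cfsg.pCore p (X ⧸ Cfsg.pPrimeCore p X))) : Subgroup (Cfsg.pCore p (X ⧸ Cfsg.pPrimeCore p X))) := by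
        rw [h1]; trivial
      obtain ⟨y, hy, e⟩ := this
      exact ⟨y, ⟨y, hy, rfl⟩, congrArg Subtype.val e⟩
  constructor
  · intro h
    rw [pLayer_eq_bot_iff]
    obtain ⟨P⟩ : Nonempty (Sylow p Y) := Sylow.nonempty
    have h1 := Subgroup.map_mono (f := f) (h P)
    rw [map_centralizer_pGroup (P.isPGroup'.map _), himg P] at h1
    have h2 : Cfsg.layer (X ⧸ Cfsg.pPrimeCore p X) ≤ Cfsg.pCore p (X ⧸ Cfsg.pPrimeCore p X) := by
      refine layer_le_centralizer_pCore.trans (h1.trans ?_)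
      show Subgroup.map f (Cfsg.pPrimePCore p X) ≤ _
      rw [Cfsg.pPrimePCore, Subgroup.map_comap_eq_self_of_surjective hfs]
    have := ((pCore_isPGroup (p := p)).to_le h2).isNilpotent
    exact eq_bot_of_perfect_of_solvable layer_perfect inferInstance
  · intro h P x hx
    show f x ∈ Cfsg.pCore p (X ⧸ Cfsg.pPrimeCore p X)
    have h1 : f x ∈ (Subgroup.centralizer (((P : Subgroup Y).map Y.subtype : Subgroup X) : Set X)).map f := ⟨x, hx, rfl⟩
    rw [map_centralizer_pGroup (P.isPGroup'.map _), himg P] at h1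
    have h2 := centralizer_gfitting_le (G := X ⧸ Cfsg.pPrimeCore p X)
    rw [gfitting_quotient_eq_pCore h] at h2
    exact h2 h1

end Cfsg.Agent.S1327
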