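import Cfsg.Statements.S1336
import Mathlib

set_option autoImplicit false
open Cfsg

namespace Cfsg.Agent.S1336

/-- Let G be finite and p prime. Then G has a proper subgroup H with p ∣ |H| and p ∤ |H ∩ gHg⁻¹| for every g ∉ H (a strongly p-embedded subgroup) if and only if G is not 1-connected for p. -/
theorem result {G : Type*} [Group G] [Finite G] (p : ℕ) [Fact p.Prime] : (∃ H : Subgroup G, H ≠ ⊤ ∧ p ∣ Nat.card ↥H ∧ ∀ g : G, g ∉ H → ¬ p ∣ Nat.card ↥(H ⊓ H.map (MulAut.conj g).toMonoidHom)) ↔ ¬ Cfsg.IsKConnected p 1 G := by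
  classical
  have hp : p.Prime := Fact.out
  set R : Subgroup G → Subgroup G → Prop := fun A B => Cfsg.IsElementaryAbelian p A ∧ p ^ 1 ≤ Nat.card A ∧
      Cfsg.IsElementaryAbelian p B ∧ p ^ 1 ≤ Nat.card B ∧ ∀ a ∈ A, ∀ b ∈ B, a * b = b * a with hRdef
  set Good : Subgroup G → Prop := fun A => Cfsg.IsElementaryAbelian p A ∧ p ^ 1 ≤ Nat.card A with hGood
  set cj : G → Subgroup G → Subgroup G := fun g A => A.map (MulAut.conj g).toMonoidHom with hcj
  have hcjcard : ∀ g A, Nat.card (cj g A) = Nat.card A := fun g A => Subgroup.card_map_of_injective (MulAut.conj g).injective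
  have hcjmul : ∀ g k A, cj g (cj k A) = cj (g * k) A := fun g k A => by
    simp only [hcj]; rw [Subgroup.map_map]; congr 1; ext w; simp [mul_assoc]
  have hcj1 : ∀ A, cj 1 A = A := fun A => by
    simp only [hcj, map_one]; exact Subgroup.map_id A
  have hgoodcj : ∀ g A, Good A → Good (cj g A) := fun g A ⟨⟨h1, h2⟩, h3⟩ => by
    haveI := h1
    refine ⟨⟨inferInstance, ?_⟩, by rwa [hcjcard]⟩
    rintro _ ⟨a, ha, rfl⟩
    rw [← map_pow, h2 a ha, map_one]
  have hRcj : ∀ g A B, R A B → R (cj g A) (cj g B) := fun g A B ⟨a1, a2, b1, b2, h⟩ => by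
    obtain ⟨x1, x2⟩ := hgoodcj g A ⟨a1, a2⟩
    obtain ⟨y1, y2⟩ := hgoodcj g B ⟨b1, b2⟩
    refine ⟨x1, x2, y1, y2, ?_⟩
    rintro _ ⟨a, ha, rfl⟩ _ ⟨b, hb, rfl⟩
    rw [← map_mul, ← map_mul, h a ha b hb]
  have hCcj : ∀ g A B, Relation.ReflTransGen R A B → Relation.ReflTransGen R (cj g A) (cj g B) := fun g A B h =>
    h.lift (cj g) (hRcj g)
  have hRsymm : ∀ A B, R A B → R B A := fun A B ⟨a1, a2, b1, b2, h⟩ => ⟨b1, b2, a1, a2, fun b hb a ha => (h a ha b hb).symm⟩
  have hsymm : ∀ A B, Relation.ReflTransGen R A B → Relation.ReflTransGen R B A := fun A B h => by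
    induction h with
    | refl => exact Relation.ReflTransGen.refl
    | tail _ hbc ih => exact ih.head (hRsymm _ _ hbc)
  have hgoodz : ∀ z : G, orderOf z = p → Good (Subgroup.zpowers z) := fun z hz => by
    refine ⟨⟨inferInstance, fun a ha => ?_⟩, by rw [Nat.card_zpowers, hz, pow_one]⟩
    obtain ⟨k, rfl⟩ := Subgroup.mem_zpowers_iff.mp ha
    rw [← zpow_natCast, ← zpow_mul, mul_comm, zpow_mul, zpow_natCast, ← hz, pow_orderOf_eq_one, one_zpow]
  have hgoodmem : ∀ A, Good A → ∃ z ∈ A, orderOf z = p := fun A ⟨⟨_, h2⟩, h3⟩ => by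
    have : Nontrivial A := Finite.one_lt_card_iff_nontrivial.mp (lt_of_lt_of_le (by rw [pow_one]; exact hp.one_lt) h3)
    obtain ⟨a, ha⟩ := exists_ne (1 : A)
    exact ⟨a, a.2, orderOf_eq_prime (h2 a a.2) (fun e => ha (Subtype.ext e))⟩
  constructor
  · rintro ⟨H, hH, hpH, hsp⟩ hconn
    refine hH (eq_top_iff.mpr fun g _ => ?_)
    obtain ⟨e, he⟩ := exists_prime_orderOf_dvd_card' (G := H) p hpH
    rw [← Subgroup.orderOf_coe] at he
    have hin : ∀ A B, Relation.ReflTransGen R A B → A ≤ H → B ≤ H := by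
      intro A B h hA
      induction h with
      | refl => exact hA
      | @tail B C _ hbc ih =>
        intro c hc
        by_contra hcH
        obtain ⟨z, hz, hzo⟩ := hgoodmem B ⟨hbc.1, hbc.2.1⟩
        refine hsp c hcH (hzo ▸ Subgroup.orderOf_dvd_natCard _ (Subgroup.mem_inf.mpr ⟨ih hz, ⟨z, ih hz, ?_⟩⟩))
        show c * z * c⁻¹ = z
        rw [← hbc.2.2.2.2 z hz c hc, mul_inv_cancel_right]
    have hle := hin _ _ (hconn (Subgroup.zpowers (e : G)) (cj g (Subgroup.zpowers (e : G))) (hgoodz _ he).1 (hgoodz _ he).2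
      (hgoodcj g _ (hgoodz _ he)).1 (hgoodcj g _ (hgoodz _ he)).2) (Subgroup.zpowers_le.mpr e.2)
    by_contra hgH
    have h1 : g * (e : G) * g⁻¹ ∈ H := hle ⟨e, Subgroup.mem_zpowers _, rfl⟩
    refine hsp g hgH ?_
    have h2 : orderOf (g * (e : G) * g⁻¹) = p :=
      (orderOf_injective (MulAut.conj g).toMonoidHom (MulAut.conj g).injective (e : G)).trans he
    exact h2 ▸ Subgroup.orderOf_dvd_natCard _ (Subgroup.mem_inf.mpr ⟨h1, ⟨e, e.2, rfl⟩⟩)
  · intro hconn
    rw [Cfsg.IsKConnected] at hconn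
    push Not at hconn
    obtain ⟨E0, E1, h01, h02, h11, h12, hne⟩ := hconn
    replace hne : ¬ Relation.ReflTransGen R E0 E1 := hne
    let H : Subgroup G :=
      { carrier := {g | Relation.ReflTransGen R E0 (cj g E0)}
        one_mem' := by show Relation.ReflTransGen R E0 (cj 1 E0); rw [hcj1]
        mul_mem' := fun {a b} ha hb => by
          show Relation.ReflTransGen R E0 (cj (a * b) E0)
          rw [← hcjmul]; exact ha.trans (hCcj a _ _ hb)
        inv_mem' := fun {a} ha => by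
          show Relation.ReflTransGen R E0 (cj a⁻¹ E0)
          have := hCcj a⁻¹ _ _ (hsymm _ _ ha)
          rwa [hcjmul, inv_mul_cancel, hcj1] at this }
    have hE0H : ∀ A, Good A → Relation.ReflTransGen R E0 A → A ≤ H := by
      intro A hA hC a ha
      show Relation.ReflTransGen R E0 (cj a E0)
      have : cj a A = A := by
        refine Subgroup.eq_of_le_of_card_ge ?_ (hcjcard a A).ge
        rintro _ ⟨b, hb, rfl⟩
        exact mul_mem (mul_mem ha hb) (inv_mem ha)
      have h2 := hCcj a _ _ (hsymm _ _ hC)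
      rw [this] at h2
      exact hC.trans h2
    obtain ⟨z0, hz0, hz0o⟩ := hgoodmem E0 ⟨h01, h02⟩
    have hpH : p ∣ Nat.card H := hz0o ▸ Subgroup.orderOf_dvd_natCard _ (hE0H E0 ⟨h01, h02⟩ .refl hz0)
    have hall : ∀ h ∈ H, orderOf h = p → Relation.ReflTransGen R E0 (Subgroup.zpowers h) := by
      obtain ⟨S, hS⟩ : ∃ S : Sylow p H, Subgroup.zpowers (⟨z0, hE0H E0 ⟨h01, h02⟩ .refl hz0⟩ : H) ≤ (S : Subgroup H) :=
        IsPGroup.exists_le_sylow (IsPGroup.of_card (n := 1) (by rw [Nat.card_zpowers, Subgroup.orderOf_mk, hz0o, pow_one]))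
      have hntS : Nontrivial (S : Subgroup H) := by
        refine Finite.one_lt_card_iff_nontrivial.mp (lt_of_lt_of_le hp.one_lt (Nat.le_of_dvd Nat.card_pos ?_))
        have h4 := Subgroup.orderOf_dvd_natCard _ (hS (Subgroup.mem_zpowers _))
        rw [Subgroup.orderOf_mk, hz0o] at h4
        exact h4
      have := S.isPGroup'.center_nontrivial
      obtain ⟨z, hz⟩ := exists_prime_orderOf_dvd_card' (G := Subgroup.center (S : Subgroup H)) p (by
        obtain ⟨k, hk⟩ := IsPGroup.iff_card.1 (S.isPGroup'.to_subgroup (Subgroup.center (S : Subgroup H)))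
        rcases Nat.eq_zero_or_pos k with rfl | hk0
        · have := Finite.one_lt_card (α := Subgroup.center (S : Subgroup H)); rw [hk, pow_zero] at this; omega
        · exact hk ▸ dvd_pow_self p hk0.ne')
      rw [← Subgroup.orderOf_coe, ← Subgroup.orderOf_coe, ← Subgroup.orderOf_coe] at hz
      set w : G := (((z : (S : Subgroup H)) : H) : G) with hw
      have hcomm : ∀ s : (S : Subgroup H), ((s : H) : G) * w = w * ((s : H) : G) := fun s =>
        congrArg (fun t : (S : Subgroup H) => ((t : H) : G)) (Subgroup.mem_center_iff.mp z.2 s)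
      have hRz : ∀ s : (S : Subgroup H), orderOf ((s : H) : G) = p → R (Subgroup.zpowers ((s : H) : G)) (Subgroup.zpowers w) := by
        intro s hs
        refine ⟨(hgoodz _ hs).1, (hgoodz _ hs).2, (hgoodz _ hz).1, (hgoodz _ hz).2, ?_⟩
        rintro a ha b hb
        obtain ⟨i, rfl⟩ := Subgroup.mem_zpowers_iff.mp ha
        obtain ⟨j, rfl⟩ := Subgroup.mem_zpowers_iff.mp hb
        exact (Commute.zpow_zpow (hcomm s) i j).eq
      have hEz : R E0 (Subgroup.zpowers z0) := by
        refine ⟨h01, h02, (hgoodz _ hz0o).1, (hgoodz _ hz0o).2, fun a ha b hb => ?_⟩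
        haveI := h01.1
        exact congrArg Subtype.val (mul_comm' (⟨a, ha⟩ : E0) ⟨b, Subgroup.zpowers_le.mpr hz0 hb⟩)
      have hS2 : ∀ s : (S : Subgroup H), orderOf ((s : H) : G) = p → Relation.ReflTransGen R E0 (Subgroup.zpowers ((s : H) : G)) :=
        fun s hs => (((Relation.ReflTransGen.single hEz).tail (hRz ⟨_, hS (Subgroup.mem_zpowers _)⟩ hz0o)).tail (hRsymm _ _ (hRz s hs)))
      intro h hh ho
      obtain ⟨T, hT⟩ := (IsPGroup.of_card (n := 1) (by rw [Nat.card_zpowers, Subgroup.orderOf_mk, ho, pow_one]) :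
        IsPGroup p (Subgroup.zpowers (⟨h, hh⟩ : H))).exists_le_sylow
      obtain ⟨c, rfl⟩ := MulAction.exists_smul_eq H S T
      have hmem := hT (Subgroup.mem_zpowers _)
      rw [Sylow.coe_subgroup_smul, Subgroup.mem_pointwise_smul_iff_inv_smul_mem, MulAut.smul_def, MulAut.conj_inv_apply] at hmem
      have hs := hS2 ⟨_, hmem⟩ (by
        show orderOf ((c⁻¹ * ⟨h, hh⟩ * c : H) : G) = p
        rw [show ((c⁻¹ * ⟨h, hh⟩ * c : H) : G) = MulAut.conj (c : G)⁻¹ h by simp]
        exact (orderOf_injective (MulAut.conj (c : G)⁻¹).toMonoidHom (MulAut.conj (c : G)⁻¹).injective h).trans ho)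
      have h2 := (c.2 : Relation.ReflTransGen R E0 (cj (c : G) E0)).trans (hCcj (c : G) _ _ hs)
      have e : cj (c : G) (Subgroup.zpowers ((⟨_, hmem⟩ : (S : Subgroup H)) : H).1) = Subgroup.zpowers h := by
        simp only [hcj, MonoidHom.map_zpowers]
        congr 1
        simp [mul_assoc]
      rwa [e] at h2
    refine ⟨H, fun htop => hne ?_, hpH, fun g hg hd => ?_⟩
    · obtain ⟨z1, hz1, hz1o⟩ := hgoodmem E1 ⟨h11, h12⟩
      refine (hall z1 (htop ▸ Subgroup.mem_top _) hz1o).tail ⟨(hgoodz _ hz1o).1, (hgoodz _ hz1o).2, h11, h12, fun a ha b hb => ?_⟩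
      haveI := h11.1
      exact congrArg Subtype.val (mul_comm' (⟨a, Subgroup.zpowers_le.mpr hz1 ha⟩ : E1) ⟨b, hb⟩)
    · obtain ⟨x, hx⟩ := exists_prime_orderOf_dvd_card' (G := ↥(H ⊓ H.map (MulAut.conj g).toMonoidHom)) p hd
      rw [← Subgroup.orderOf_coe] at hx
      obtain ⟨hxH, y, hy, hyx⟩ := Subgroup.mem_inf.mp x.2
      have hyo : orderOf y = p := by
        rw [← hx, ← hyx]; exact (orderOf_injective _ (MulAut.conj g).injective y).symm
      have h1 := hCcj g _ _ (hall y hy hyo)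
      have e : cj g (Subgroup.zpowers y) = Subgroup.zpowers (x : G) := by
        simp only [hcj, MonoidHom.map_zpowers]; rw [hyx]
      rw [e] at h1
      exact hg ((hall _ hxH hx).trans (hsymm _ _ h1))

end Cfsg.Agent.S1336
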