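import Cfsg.Statements.S1340
import Cfsg.Agent.Lib.Grp.Quasisimple
import Cfsg.Agent.Lib.Grp.Cores
import Cfsg.Agent.Lib.Classical.SLNormal


set_option autoImplicit false
open Cfsg

namespace Cfsg.Agent.S1340

/-- Let F be a finite field of odd order and n ≥ 3 with (n, |F|) ≠ (3, 3). Then GL(n, F) has a non-central involution t such that C(t) / O(C(t)) has a component. -/
theorem result {F : Type*} [Field F] [Fintype F] [DecidableEq F] (hF : Odd (Fintype.card F)) (n : ℕ) (hn : 3 ≤ n) (h33 : ¬ (n = 3 ∧ Fintype.card F = 3)) : ∃ t : Matrix.GeneralLinearGroup (Fin n) F, orderOf t = 2 ∧ t ∉ Subgroup.center (Matrix.GeneralLinearGroup (Fin n) F) ∧ Cfsg.HasComponent (↥(Subgroup.centralizer ({t} : Set (Matrix.GeneralLinearGroup (Fin n) F))) ⧸ Cfsg.oddCore ↥(Subgroup.centralizer ({t} : Set (Matrix.GeneralLinearGroup (Fin n) F)))) := by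
  classical
  obtain ⟨m, rfl⟩ : ∃ m, n = 1 + m := ⟨n - 1, by omega⟩
  have hm : 2 ≤ m := by omega
  have hq4 : m = 2 → 4 ≤ Fintype.card F := by
    intro hm2
    obtain ⟨j, hj⟩ := hF
    have h1 : 1 < Fintype.card F := Fintype.one_lt_card
    have h3 : Fintype.card F ≠ 3 := fun h => h33 ⟨by omega, h⟩
    omega
  have h2 : (2 : F) ≠ 0 := by
    intro h
    have : ringChar F ≠ 2 := fun h' => by
      have h'' := FiniteField.even_card_iff_char_two.mp h'
      obtain ⟨j, hj⟩ := hF
      omega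
    exact this (CharP.ringChar_of_prime_eq_zero Nat.prime_two h)
  -- quasisimplicity of `SL_m`
  let L := Matrix.SpecialLinearGroup (Fin m) F
  have : Nontrivial (Fin m) := Fin.nontrivial_iff_two_le.2 hm
  have hperf : commutator L = ⊤ := Classical.SL_commutator_eq_top (fun h => by
    obtain ⟨a, ha, ha1⟩ := Classical.exists_sq_ne_one_field (F := F) (hq4 (by rwa [Fintype.card_fin] at h))
    exact ⟨a, ha, ha1⟩)
  have hqs : Cfsg.IsQuasisimple L := ⟨Group.isPerfect_def.mpr hperf, Classical.PSL_isSimple hm hq4⟩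
  -- the block decomposition
  let R : Matrix (Fin 1 ⊕ Fin m) (Fin 1 ⊕ Fin m) F ≃ₐ[F] Matrix (Fin (1 + m)) (Fin (1 + m)) F :=
    Matrix.reindexAlgEquiv F F finSumFinEquiv
  let E : GL (Fin 1 ⊕ Fin m) F ≃* GL (Fin (1 + m)) F := Units.mapEquiv R.toMulEquiv
  let Mt : Matrix (Fin 1 ⊕ Fin m) (Fin 1 ⊕ Fin m) F := Matrix.fromBlocks (-1) 0 0 1
  have hMt : Mt * Mt = 1 := by simp [Mt, Matrix.fromBlocks_multiply, Matrix.fromBlocks_one]
  let t₀ : GL (Fin 1 ⊕ Fin m) F := ⟨Mt, Mt, hMt, hMt⟩
  let ι₀ : L →* GL (Fin 1 ⊕ Fin m) F := MonoidHom.toHomUnits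
    { toFun := fun g => Matrix.fromBlocks 1 0 0 (g : Matrix (Fin m) (Fin m) F)
      map_one' := by rw [Matrix.SpecialLinearGroup.coe_one]; exact Matrix.fromBlocks_one
      map_mul' := fun g h => by rw [Matrix.SpecialLinearGroup.coe_mul, Matrix.fromBlocks_multiply]; simp }
  have hι₀ : ∀ g : L, (ι₀ g).val = Matrix.fromBlocks 1 0 0 (g : Matrix (Fin m) (Fin m) F) := by
    intro g
    rfl
  have hιinj : Function.Injective ι₀ := fun g h e => by
    have := congrArg (fun u : GL (Fin 1 ⊕ Fin m) F => u.val) e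
    simp only [hι₀, Matrix.fromBlocks_inj] at this
    exact Subtype.ext this.2.2.2
  have hblock : ∀ h : GL (Fin 1 ⊕ Fin m) F, h * t₀ = t₀ * h → ∃ A D, h.val = Matrix.fromBlocks A 0 0 D := by
    intro h e
    have e' : h.val * Mt = Mt * h := congrArg Units.val e
    rw [← Matrix.fromBlocks_toBlocks h.val] at e' ⊢
    simp only [Mt, Matrix.fromBlocks_multiply, Matrix.fromBlocks_inj] at e'
    obtain ⟨-, eB, eC, -⟩ := e'
    have hz : ∀ (k l : Type) (B : Matrix k l F), B = -B → B = 0 := fun k l B e => by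
      ext i j
      have h1 : B i j = -B i j := congrFun (congrFun e i) j
      exact (mul_eq_zero.mp (show 2 * B i j = 0 by rw [two_mul]; exact eq_neg_iff_add_eq_zero.mp h1)).resolve_left h2
    refine ⟨_, _, (Matrix.fromBlocks_inj).mpr ⟨rfl, hz _ _ _ ?_, hz _ _ _ ?_, rfl⟩⟩
    · simpa using eB
    · have := eC.symm
      simpa [eq_comm] using this
  have hnorm : ∀ (h : GL (Fin 1 ⊕ Fin m) F), h * t₀ = t₀ * h → ∀ g : L, ∃ g' : L, h * ι₀ g * h⁻¹ = ι₀ g' := by
    intro h e g
    obtain ⟨A, D, hAD⟩ := hblock h e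
    obtain ⟨A', D', hAD'⟩ := hblock h⁻¹ (Commute.inv_left (e : Commute h t₀))
    have hid : Matrix.fromBlocks A 0 0 D * Matrix.fromBlocks A' 0 0 D' = 1 := by
      rw [← hAD, ← hAD', ← Units.val_mul, mul_inv_cancel, Units.val_one]
    simp only [Matrix.fromBlocks_multiply, ← Matrix.fromBlocks_one, Matrix.fromBlocks_inj] at hid
    simp only [Matrix.mul_zero, Matrix.zero_mul, add_zero, zero_add] at hid
    refine ⟨⟨D * (g : Matrix (Fin m) (Fin m) F) * D', ?_⟩, Units.ext ?_⟩
    · rw [Matrix.det_mul, Matrix.det_mul, g.2, mul_one, ← Matrix.det_mul, hid.2.2.2, Matrix.det_one]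
    · rw [Units.val_mul, Units.val_mul, hι₀ g, hAD, hAD']
      refine Eq.trans ?_ (hι₀ _).symm
      simp [Matrix.fromBlocks_multiply, hid.1]
  refine ⟨E t₀, ?_, ?_, ?_⟩
  · refine (orderOf_injective E.toMonoidHom E.injective t₀).trans (orderOf_eq_prime ?_ ?_)
    · rw [pow_two]; exact Units.ext hMt
    · intro e
      have := congrArg (fun u : GL (Fin 1 ⊕ Fin m) F => u.val (Sum.inl 0) (Sum.inl 0)) e
      simp [t₀, Mt] at this
      exact h2 (by rw [← one_add_one_eq_two]; exact eq_neg_iff_add_eq_zero.mp this.symm)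
  · intro hc
    -- a transvection moving the first coordinate
    let T : Matrix (Fin 1 ⊕ Fin m) (Fin 1 ⊕ Fin m) F :=
      Matrix.fromBlocks 1 (Matrix.of fun _ _ => (1 : F)) 0 1
    let T' : Matrix (Fin 1 ⊕ Fin m) (Fin 1 ⊕ Fin m) F :=
      Matrix.fromBlocks 1 (-Matrix.of fun _ _ => (1 : F)) 0 1
    have hT : T * T' = 1 ∧ T' * T = 1 := by
      constructor <;> simp [T, T', Matrix.fromBlocks_multiply, Matrix.fromBlocks_one]
    have h1 := Subgroup.mem_center_iff.mp hc (E ⟨T, T', hT.1, hT.2⟩)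
    rw [← map_mul, ← map_mul] at h1
    obtain ⟨A, D, hAD⟩ := hblock _ (E.injective h1)
    have := congrFun (congrFun hAD (Sum.inl 0)) (Sum.inr ⟨0, by omega⟩)
    simp [T] at this
  · set C := Subgroup.centralizer ({E t₀} : Set (GL (Fin (1 + m)) F))
    let ι : L →* C := ((E.toMonoidHom.comp ι₀)).codRestrict C fun g => by
      rw [Subgroup.mem_centralizer_singleton_iff]
      show E (ι₀ g) * E t₀ = E t₀ * E (ι₀ g)
      rw [← map_mul, ← map_mul]
      congr 1
      refine Units.ext ?_
      rw [Units.val_mul, Units.val_mul, hι₀]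
      simp [t₀, Mt, Matrix.fromBlocks_multiply]
    have hKn : ι.range.Normal := by
      refine ⟨?_⟩
      rintro _ ⟨g, rfl⟩ ⟨c, hc⟩
      have hc' : E.symm c * t₀ = t₀ * E.symm c := E.injective (by
        rw [map_mul, map_mul, E.apply_symm_apply]
        exact Subgroup.mem_centralizer_singleton_iff.mp hc)
      obtain ⟨g', hg'⟩ := hnorm _ hc' g
      refine ⟨g', Subtype.ext ?_⟩
      show E (ι₀ g') = c * E (ι₀ g) * c⁻¹
      rw [← hg', map_mul, map_mul, map_inv, E.apply_symm_apply]
    let π : C →* C ⧸ Cfsg.oddCore C := QuotientGroup.mk' _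
    let φ : L →* (π.comp ι).range := (π.comp ι).rangeRestrict
    have hsub : (π.comp ι).range.IsSubnormal := by
      rw [MonoidHom.range_comp]
      exact (hKn.map π (QuotientGroup.mk'_surjective _)).isSubnormal
    have : Nontrivial (π.comp ι).range := by
      rw [Subgroup.nontrivial_iff_ne_bot]
      intro hbot
      have hle : ι.range ≤ Cfsg.oddCore C := by
        rintro _ ⟨g, rfl⟩
        have h1 : π.comp ι g ∈ (π.comp ι).range := ⟨g, rfl⟩
        rw [hbot, Subgroup.mem_bot] at h1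
        exact (QuotientGroup.eq_one_iff _).mp h1
      -- an involution of `SL_m`
      let d : Fin m → F := fun i => if (i : ℕ) < 2 then -1 else 1
      have hd : ∏ i, d i = 1 := by
        obtain ⟨k, rfl⟩ : ∃ k, m = k + 2 := ⟨m - 2, by omega⟩
        simp [Fin.prod_univ_succ, d]
      let g : L := ⟨Matrix.diagonal d, by rw [Matrix.det_diagonal, hd]⟩
      have hg : orderOf g = 2 := by
        refine orderOf_eq_prime ?_ ?_
        · refine Subtype.ext ?_
          rw [pow_two, Matrix.SpecialLinearGroup.coe_mul]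
          show Matrix.diagonal d * Matrix.diagonal d = 1
          rw [Matrix.diagonal_mul_diagonal, ← Matrix.diagonal_one]
          congr 1
          funext i
          simp only [d]; split_ifs <;> simp
        · intro e
          have := congrArg (fun u : L => (u : Matrix (Fin m) (Fin m) F) ⟨0, by omega⟩ ⟨0, by omega⟩) e
          simp [g, d] at this
          exact h2 (by rw [← one_add_one_eq_two]; exact eq_neg_iff_add_eq_zero.mp this.symm)
      have hord : orderOf (⟨ι g, hle ⟨g, rfl⟩⟩ : Cfsg.oddCore C) = 2 := by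
        have hinj : Function.Injective ι := fun a b e => hιinj (E.injective (congrArg Subtype.val e))
        rw [← Subgroup.orderOf_coe]
        exact (orderOf_injective ι hinj g).trans hg
      have h3 : 2 ∣ Nat.card (Cfsg.oddCore C) := hord ▸ orderOf_dvd_natCard _
      have h4 := Cfsg.Agent.Grp.pPrimeCore_coprime (p := 2) (G := C)
      exact absurd (Nat.dvd_gcd h3 (dvd_refl 2)) (by rw [h4]; norm_num)
    exact ⟨_, hsub, Cfsg.Agent.Grp.IsQuasisimple.of_surjective hqs (f := φ) (π.comp ι).rangeRestrict_surjective⟩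

end Cfsg.Agent.S1340
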