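import Cfsg.Statements.S1343
import Cfsg.Agent.Lib.Grp.ExtendedLayer
-- import your own Cfsg.Agent.* helpers here

set_option autoImplicit false
open Cfsg

namespace Cfsg.Agent.S1343

open Cfsg.Agent.Grp
open scoped Pointwise

/-- Let X be finite. Then L*_{2'}(X) = L_{2'}(X) ⊔ F for some subgroup F of odd order normalized by a Sylow 2-subgroup of X. -/
theorem result {X : Type*} [Group X] [Finite X] : ∃ F : Subgroup X, Odd (Nat.card ↥F) ∧ (∃ S : Sylow 2 X, (S : Subgroup X) ≤ Subgroup.normalizer (F : Set X)) ∧ Cfsg.extendedTwoLayer X = Cfsg.pLayer 2 X ⊔ F := by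
  have hYn := extBase_normal (G := X)
  have hOn := pPrimeCore_isNormal (p := 2) (G := X)
  obtain ⟨S⟩ : Nonempty (Sylow 2 X) := Sylow.nonempty
  set P := (S : Subgroup X) ⊓ extBase X with hP
  have hidx : ¬ 2 ∣ (P.subgroupOf (extBase X)).index := by
    show ¬ 2 ∣ P.relIndex (extBase X)
    rw [hP, Subgroup.inf_relIndex_right]
    exact sylow_inf_normal_relIndex S (extBase X)
  let T : Sylow 2 (extBase X) := IsPGroup.toSylow
    (((S.isPGroup').to_le inf_le_left).of_equiv (Subgroup.subgroupOfEquivOfLe (inf_le_right : P ≤ extBase X)).symm) hidx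
  have hT : extSylow T = P := by
    show (P.subgroupOf (extBase X)).map _ = P
    rw [Subgroup.subgroupOf_map_subtype, inf_eq_left.mpr (inf_le_right : P ≤ extBase X)]
  refine ⟨Cfsg.oddCore X ⊔ oddCent P, ?_, ⟨S, ?_⟩, ?_⟩
  · have h1 := card_sup_mul_card_inf (H := oddCent P) (N := Cfsg.oddCore X)
      (le_top.trans (Subgroup.normalizer_eq_top (H := Cfsg.oddCore X)).ge)
    rw [sup_comm] at h1
    have h2 : (Nat.card ↥(oddCent P) * Nat.card ↥(Cfsg.oddCore X)).Coprime 2 :=
      (oddCent_card P).mul_left (pPrimeCore_coprime (p := 2))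
    rw [← Nat.coprime_two_right]
    exact h2.coprime_dvd_left ⟨_, h1.symm⟩
  · intro s hs
    rw [mem_normalizer_iff_smul, Subgroup.smul_sup,
      normalizer_le_smul (le_top.trans (Subgroup.normalizer_eq_top (H := Cfsg.oddCore X)).ge) (Subgroup.mem_top s),
      conj_smul_oddCent, hP, Subgroup.smul_inf, conj_smul_eq_self_of_mem hs,
      normalizer_le_smul (le_top.trans (Subgroup.normalizer_eq_top (H := extBase X)).ge) (Subgroup.mem_top s)]
  · rw [extendedTwoLayer_eq T, hT, sup_assoc]

end Cfsg.Agent.S1343
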