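import Cfsg.Statements.S1344
import Cfsg.Agent.Lib.Grp.ExtendedLayer
-- import your own Cfsg.Agent.* helpers here

set_option autoImplicit false
open Cfsg

namespace Cfsg.Agent.S1344

open Cfsg.Agent.Grp
open scoped Pointwise

/-- Let K be a 2-component of the finite group X. Then K ≤ L*_{2'}(X) and K is normal in L*_{2'}(X). -/
theorem result {X : Type*} [Group X] [Finite X] (K : Subgroup X) (hK : Cfsg.IsPComponent 2 K) : K ≤ Cfsg.extendedTwoLayer X ∧ (K.subgroupOf (Cfsg.extendedTwoLayer X)).Normal := by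
  have hKL : K ≤ Cfsg.pLayer 2 X := le_sSup hK
  obtain ⟨T⟩ : Nonempty (Sylow 2 (extBase X)) := Sylow.nonempty
  rw [extendedTwoLayer_eq T]
  have hle : K ≤ Cfsg.pLayer 2 X ⊔ Cfsg.oddCore X ⊔ oddCent (extSylow T) := hKL.trans (le_sup_left.trans le_sup_left)
  refine ⟨hle, (Subgroup.normal_subgroupOf_iff_le_normalizer hle).mpr (sup_le (sup_le (pLayer_le_normalizer hK) ?_) ?_)⟩
  · intro g hg
    refine mem_normalizer_of_image hK ?_
    rw [show QuotientGroup.mk' (Cfsg.pPrimeCore 2 X) g = 1 from (QuotientGroup.eq_one_iff g).mpr hg]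
    exact Subgroup.one_mem _
  · intro c hc
    set f := QuotientGroup.mk' (Cfsg.pPrimeCore 2 X)
    refine mem_normalizer_of_image hK ?_
    rw [mem_normalizer_iff_smul]
    by_contra hne
    set Kb := K.map f
    have hcomm := IsComponent.commute (IsComponent.conj hK.2.1 (f c)) hK.2.1 hne
    -- the image of `T ∩ K` is central in the image of `K`
    have hKY : K ≤ extBase X := hKL.trans le_sup_left
    set N := ((T : Subgroup (extBase X)) ⊓ K.subgroupOf (extBase X)).map (f.comp (extBase X).subtype) with hN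
    have hNK : N ≤ Kb := by
      rintro _ ⟨y, ⟨-, hy⟩, rfl⟩
      exact ⟨y, hy, rfl⟩
    have hNc : N.subgroupOf Kb ≤ Subgroup.center Kb := by
      rintro ⟨z, hz⟩ hzN
      obtain ⟨y, ⟨hyT, hyK⟩, rfl⟩ := hzN
      rw [Subgroup.mem_center_iff]
      intro w
      refine Subtype.ext (Subgroup.mem_centralizer_iff.mp (hcomm ?_) w w.2)
      have hcy : (y : X) * c = c * (y : X) := Subgroup.mem_centralizer_iff.mp (oddCent_le_centralizer _ hc) y ⟨y, hyT, rfl⟩
      rw [mem_smul_conj]
      refine ⟨(y : X), hyK, ?_⟩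
      show f (y : X) = (f c)⁻¹ * f (y : X) * f c
      rw [mul_assoc, ← map_mul, hcy, map_mul, inv_mul_cancel_left]
    refine ?_ |> fun h : ¬ 2 ∣ (N.subgroupOf Kb).index => h (component_dvd_index pPrimeCore_quotient_bot hK.2.1 _ hNc)
    show ¬ 2 ∣ N.relIndex Kb
    have e : Kb = (K.subgroupOf (extBase X)).map (f.comp (extBase X).subtype) := by
      rw [← Subgroup.map_map, Subgroup.subgroupOf_map_subtype, inf_eq_left.mpr hKY]
    intro hd
    refine not_dvd_relIndex_sylow T (hK.1.subgroupOf (K := extBase X)) ?_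
    rw [← Subgroup.inf_relIndex_right]
    refine hd.trans ?_
    rw [e, hN]
    set g := f.comp (extBase X).subtype with hg
    set K' := K.subgroupOf (extBase X) with hK'
    set A := (T : Subgroup (extBase X)) ⊓ K' with hA
    have h := Subgroup.index_map_dvd (H := A.subgroupOf K') (g.subgroupMap_surjective K')
    have hAm : (A.subgroupOf K').map (g.subgroupMap K') = (A.map g).subgroupOf (K'.map g) := by
      ext ⟨z, hz⟩
      constructor
      · rintro ⟨a, ha, hae⟩
        exact ⟨(a : extBase X), ha, congrArg Subtype.val hae⟩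
      · rintro ⟨a, ha, hae⟩
        exact ⟨⟨a, ha.2⟩, ha, Subtype.ext hae⟩
    rw [hAm] at h
    exact h

end Cfsg.Agent.S1344
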