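import Cfsg.Statements.S1348
import Cfsg.Agent.Lib.Grp.StandardSL


set_option autoImplicit false
open Cfsg

namespace Cfsg.Agent.S1348

/-- Let F be a finite field of odd order, n ≥ 7 odd, and t ∈ SL(n, F) the diagonal matrix with entries −1, …, −1, 1. Then E(C(t)) is a standard subgroup of SL(n, F). -/
theorem result {F : Type*} [Field F] [Fintype F] [DecidableEq F] (hF : Odd (Fintype.card F)) (n : ℕ) (hn : 7 ≤ n) (hodd : Odd n) (t : Matrix.SpecialLinearGroup (Fin n) F) (ht : (t : Matrix (Fin n) (Fin n) F) = Matrix.diagonal (fun i : Fin n => if (i : ℕ) + 1 = n then (1 : F) else -1)) : Cfsg.IsStandardSubgroup ((Cfsg.layer ↥(Subgroup.centralizer ({t} : Set (Matrix.SpecialLinearGroup (Fin n) F)))).map (Subgroup.centralizer ({t} : Set (Matrix.SpecialLinearGroup (Fin n) F))).subtype) := by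
  obtain ⟨m, rfl⟩ : ∃ m, n = m + 1 := ⟨n - 1, by omega⟩
  have h2 : (2 : F) ≠ 0 := by
    refine Ring.two_ne_zero ?_
    intro hc
    exact (Nat.not_even_iff_odd.2 hF) (even_iff_two_dvd.2 (Nat.dvd_of_mod_eq_zero
      (FiniteField.even_card_of_char_two hc)))
  have heven : Even m := by
    rcases hodd with ⟨k, hk⟩
    exact ⟨k, by omega⟩
  have ht' : (t : Matrix (Fin (m + 1)) (Fin (m + 1)) F) =
      Grp.StandardSL.R (Matrix.fromBlocks (-1) 0 0 1) := by
    rw [ht]
    ext i j
    obtain ⟨i', rfl⟩ := finSumFinEquiv.surjective i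
    obtain ⟨j', rfl⟩ := finSumFinEquiv.surjective j
    rcases i' with i' | i' <;> rcases j' with j' | j' <;>
      simp [Grp.StandardSL.R, Matrix.diagonal_apply, Matrix.one_apply, Fin.ext_iff] <;> (try split_ifs) <;> simp_all <;> omega
  rw [Grp.StandardSL.layer_eq t ht' h2 (by omega)]
  exact Grp.StandardSL.standard t ht' h2 (by omega) heven

end Cfsg.Agent.S1348
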