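import Cfsg.Statements.S1351
import Cfsg.Agent.Lib.Transfer.Local.KappaDual

set_option maxHeartbeats 1000000
set_option maxRecDepth 8000

set_option autoImplicit false
open Cfsg

namespace Cfsg.Agent.S1351

open Cfsg.Agent Cfsg.Agent.Transfer Cfsg.Agent.Transfer.Loc Subgroup

/-- Let G be a minimal simple group of odd order and M a maximal subgroup. Then M possesses a Hall κ(M)-subgroup, and every Hall κ(M)-subgroup of M is cyclic. -/
theorem result {G : Type*} [Group G] [Finite G] (hG : Cfsg.IsMinSimpleOddOrder G)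
    (M : Subgroup G) (hM : IsCoatom M) :
    (∃ K : Subgroup G, Cfsg.IsPiHallOf (Cfsg.kappa M) K M) ∧
      ∀ K : Subgroup G, Cfsg.IsPiHallOf (Cfsg.kappa M) K M → IsCyclic K := by
  haveI := solvable_of_ne_top hG hM.1
  refine ⟨Grp.PiHall.exists_piHall (Cfsg.kappa M) M, fun K hK => ?_⟩
  rcases eq_or_ne K ⊥ with rfl | hK1
  · infer_instance
  obtain ⟨Mstar, -, -, -, -, hc, -⟩ := kappa_dual hG hM hK hK1
  exact hc

end Cfsg.Agent.S1351
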