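import Cfsg.Statements.S1352
import Cfsg.Agent.Lib.Transfer.Local.KappaHall

set_option maxHeartbeats 1000000
set_option maxRecDepth 8000

set_option autoImplicit false
open Cfsg

namespace Cfsg.Agent.S1352

open Cfsg.Agent Cfsg.Agent.Transfer Subgroup

/-- Let G be a minimal simple group of odd order, M a maximal subgroup and K a cyclic Hall κ(M)-subgroup of M. Then there is a subgroup U of M, normalized by K, with U ∩ K M_σ = 1 and M = U K M_σ; moreover U M_σ is normal in M for any such U. -/
theorem result {G : Type*} [Group G] [Finite G] (hG : Cfsg.IsMinSimpleOddOrder G)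
    (M : Subgroup G) (hM : IsCoatom M) (K : Subgroup G)
    (hKc : IsCyclic K) (hK : Cfsg.IsPiHallOf (Cfsg.kappa M) K M) :
    (∃ U : Subgroup G, Cfsg.IsSigmaDecomposition M K U) ∧
      ∀ U : Subgroup G, Cfsg.IsSigmaDecomposition M K U → M ≤ Subgroup.normalizer ((U ⊔ Cfsg.sigmaCore M : Subgroup G) : Set G) := by
  refine ⟨Loc.exists_decomp hG hM hKc hK, fun U hKU => ?_⟩
  obtain ⟨hE, -, -⟩ := Loc.decomp_compl hG hM hKU
  have hMN : M ≤ normalizer (Cfsg.sigmaCore M : Set G) := TransHyp.le_normalizer_piCoreOf M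
  refine (Loc.compl_sup hE).ge.trans (sup_le (sup_le (le_sup_left.trans le_normalizer) ?_)
    (le_sup_right.trans le_normalizer))
  exact Grp.le_normalizer_sup' hKU.normal (hK.1.trans hMN)

end Cfsg.Agent.S1352
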