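import Cfsg.Statements.S1358
import Cfsg.Agent.Lib.Transfer.Local.SigmaDecomp

set_option maxHeartbeats 1000000
set_option maxRecDepth 8000

set_option autoImplicit false
open Cfsg

namespace Cfsg.Agent.S1358

open Subgroup

/-- Let G be a minimal simple group of odd order and M a maximal subgroup with standard factorisation M = K U M_σ. Then for every prime p, every Sylow p-subgroup of U is abelian and has no elementary abelian subgroup of order p ^ 3. -/
theorem result {G : Type*} [Group G] [Finite G] (hG : Cfsg.IsMinSimpleOddOrder G)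
    (M : Subgroup G) (hM : IsCoatom M) (K U : Subgroup G) (hKU : Cfsg.IsSigmaDecomposition M K U) :
    ∀ (p : ℕ), p.Prime → ∀ P : Sylow p U, IsMulCommutative (P : Subgroup U) ∧ Cfsg.PRankLE p 2 (P : Subgroup U) := by
  intro p hp P
  haveI := Fact.mk hp
  by_cases hd : p ∣ Nat.card U
  · have hσ := Cfsg.Agent.Transfer.Loc.decomp_U_prime hG hM hKU hp hd
    have hPM : (P : Subgroup U).map U.subtype ≤ M := (map_subtype_le _).trans hKU.compl.1
    have hPp : IsPGroup p ((P : Subgroup U).map U.subtype) := P.2.map _
    have hab := Cfsg.Agent.Transfer.Loc.abelian_of_not_sigma hG hM hσ hPp hPM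
    refine ⟨⟨⟨fun a b => ?_⟩⟩, ?_⟩
    · have := congrArg Subtype.val (hab.is_comm.comm ⟨U.subtype a, mem_map_of_mem _ a.2⟩
        ⟨U.subtype b, mem_map_of_mem _ b.2⟩)
      exact Subtype.ext (Subtype.ext (by simpa using this))
    · have h2 : Cfsg.PRankLE p 2 M := by
        by_contra h
        exact hσ (Cfsg.Agent.Transfer.Loc.alpha_subset_sigma hG hM ⟨hp, h⟩)
      exact Cfsg.Agent.Transfer.Loc.prankLE_equiv ((P : Subgroup U).equivMapOfInjective U.subtype U.subtype_injective).symm
        (Cfsg.Agent.Transfer.Loc.prankLE_mono hPM h2)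
  · have hbot : (P : Subgroup U) = ⊥ := by
      by_contra h
      exact hd ((Cfsg.Agent.Transfer.Loc.dvd_card_of_pGroup P.2 h).trans (card_subgroup_dvd_card _))
    rw [hbot]
    refine ⟨inferInstance, fun C hC hCe => ?_⟩
    rw [Subsingleton.elim C ⊥]
    simpa using Nat.one_le_pow _ _ hp.pos

end Cfsg.Agent.S1358
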