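import Cfsg.Statements.S1359
import Cfsg.Agent.Lib.Transfer.Local.TauTwoPart

set_option maxHeartbeats 1000000
set_option maxRecDepth 8000

set_option autoImplicit false
open Cfsg

namespace Cfsg.Agent.S1359

open Cfsg.Agent Cfsg.Agent.Transfer Subgroup

/-- Let G be a minimal simple group of odd order and M a maximal subgroup with standard factorisation M = K U M_σ. Then the subgroup generated by those elements of U which centralize some non-identity element of M_σ is abelian. -/
theorem result {G : Type*} [Group G] [Finite G] (hG : Cfsg.IsMinSimpleOddOrder G)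
    (M : Subgroup G) (hM : IsCoatom M) (K U : Subgroup G) (hKU : Cfsg.IsSigmaDecomposition M K U) :
    IsMulCommutative (Subgroup.closure ((U : Set G) ∩ Cfsg.sigmaHat M)) := by
  obtain ⟨hE, -, hU⟩ := Loc.decomp_compl hG hM hKU
  obtain ⟨A₀, -, -, hab, hmem⟩ := Loc.tau2_fixed_part hG hM hE
  have hle : Subgroup.closure ((U : Set G) ∩ Cfsg.sigmaHat M) ≤ A₀ := by
    rw [closure_le]
    rintro e ⟨heU, heM, y, hy, hy1, hc⟩
    rcases eq_or_ne e 1 with rfl | he1
    · exact A₀.one_mem
    have hd : ∀ p : ℕ, p.Prime → p ∣ orderOf e → p ∣ Nat.card U := fun p _ h => h.trans (U.orderOf_dvd_natCard heU)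
    have hfix : Cfsg.sigmaCore M ⊓ centralizer ({e} : Set G) ≠ ⊥ := fun h => hy1 (by
      rw [← mem_bot, ← h]; exact ⟨hy, mem_centralizer_singleton_iff.2 hc.symm⟩)
    refine hmem e (mem_sup_left heU) ?_ hfix
    refine (Loc.fixed_primes_cases hG hM heM he1
      (fun p hp h => Loc.decomp_U_prime hG hM hKU hp (hd p hp h)) hfix).resolve_left fun hκ => ?_
    obtain ⟨p, hp, hpd⟩ := Nat.exists_prime_and_dvd (fun h => he1 (orderOf_eq_one_iff.1 h))
    exact hU p hp (hd p hp hpd) (hκ p hp hpd)
  exact le_centralizer_iff_isMulCommutative.1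
    (hle.trans ((le_centralizer_iff_isMulCommutative.2 hab).trans (centralizer_le hle)))

end Cfsg.Agent.S1359
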