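import Cfsg.Statements.S1361
import Cfsg.Agent.Lib.Transfer.Local.KappaFixed
import Cfsg.Agent.S1417

set_option maxHeartbeats 1000000
set_option maxRecDepth 8000

set_option autoImplicit false
open Cfsg

namespace Cfsg.Agent.S1361

open Cfsg.Agent Cfsg.Agent.Transfer Subgroup

/-- Let G be a minimal simple group of odd order and M a maximal subgroup with standard factorisation M = K U M_σ. If X is a nontrivial subgroup of U centralizing some non-identity element of M_σ, then C_G(X) ≤ M and M is the unique maximal subgroup of G containing C_G(X). -/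
theorem result {G : Type*} [Group G] [Finite G] (hG : Cfsg.IsMinSimpleOddOrder G)
    (M : Subgroup G) (hM : IsCoatom M) (K U : Subgroup G) (hKU : Cfsg.IsSigmaDecomposition M K U) (X : Subgroup G) (hXU : X ≤ U) (hX : X ≠ ⊥)
    (hXc : Cfsg.sigmaCore M ⊓ Subgroup.centralizer (X : Set G) ≠ ⊥) :
    Subgroup.centralizer (X : Set G) ≤ M ∧ ∀ L : Subgroup G, IsCoatom L → Subgroup.centralizer (X : Set G) ≤ L → L = M := by
  obtain ⟨hE, -, hU⟩ := Loc.decomp_compl hG hM hKU
  haveI := Loc.solvable_of_ne_top hG hM.1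
  haveI := Loc.isSolvable_of_le hE.1
  have hXE : X ≤ U ⊔ K := hXU.trans le_sup_left
  have hall : ∀ x ∈ X, x ≠ 1 → (∀ p : ℕ, p.Prime → p ∣ orderOf x → p ∈ Cfsg.tau2 M) ∧ x ∈ Cfsg.sigmaHat M := by
    intro x hx hx1
    have hd : ∀ p : ℕ, p.Prime → p ∣ orderOf x → p ∣ Nat.card U := fun p _ h =>
      h.trans (U.orderOf_dvd_natCard (hXU hx))
    obtain ⟨y, hy, hy1⟩ := (bot_or_exists_ne_one _).resolve_left hXc
    have hc := mem_centralizer_iff.1 hy.2 x hx
    refine ⟨(Loc.fixed_primes_cases hG hM (hE.1 (hXE hx)) hx1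
      (fun p hp h => Loc.decomp_U_prime hG hM hKU hp (hd p hp h)) fun h => hy1 (by
        rw [← mem_bot, ← h]; exact ⟨hy.1, mem_centralizer_singleton_iff.2 hc.symm⟩)).resolve_left fun hκ => ?_,
      hE.1 (hXE hx), y, hy.1, hy1, hc⟩
    obtain ⟨p, hp, hpd⟩ := Nat.exists_prime_and_dvd (fun h => hx1 (orderOf_eq_one_iff.1 h))
    exact hU p hp (hd p hp hpd) (hκ p hp hpd)
  obtain ⟨x, hx, hx1⟩ := (bot_or_exists_ne_one X).resolve_left hX
  obtain ⟨hτx, hxM⟩ := hall x hx hx1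
  have hC := ((Cfsg.Agent.S1420.result hG M hM (U ⊔ K) hE).2.2.2 x (hE.1 (hXE hx)) hx1 hτx hxM).1
  refine ⟨(centralizer_le (Set.singleton_subset_iff.2 hx)).trans hC, fun L hL hCL => ?_⟩
  by_contra hne
  obtain ⟨p, hp, hτ, A, hAE, hA, hA2, -⟩ := Loc.tau2_plane_centralizing hG hM hE (hXE hx) hx1 hτx
  have hXA : X ≤ centralizer (A : Set G) := by
    refine (Grp.le_of_forall_sylow (inf_le_left : X ⊓ centralizer (A : Set G) ≤ X) fun q hq => ?_).trans inf_le_right
    obtain ⟨T, hT⟩ := Grp.exists_isSylowIn q X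
    refine ⟨T, hT, le_inf hT.1 ?_⟩
    rcases eq_or_ne T ⊥ with h0 | h0
    · rw [h0]; exact bot_le
    obtain ⟨z, hz⟩ := exists_prime_orderOf_dvd_card' (G := T) q (Loc.dvd_card_of_pGroup hT.2.1 h0)
    refine Loc.tau2_centralizes hG hM hE hτ ((hall (z : G) (hT.1 z.2) fun e => hq.out.ne_one ?_).1 q hq.out
      (dvd_of_eq (by rw [Subgroup.orderOf_coe, hz]))) hAE hA hA2 (hT.1.trans hXE) hT.2.1
    rw [← hz, ← Subgroup.orderOf_coe, e, orderOf_one]
  refine hXc (le_bot_iff.1 ((le_inf inf_le_left (inf_le_right.trans hCL)).trans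
    ((Cfsg.Agent.S1417.result hG M hM p hτ A ⟨hAE.trans hE.1, hA, hA2⟩).2.2.2.2.1 L hL hne
      ((le_centralizer_iff.1 hXA).trans hCL)).le))

end Cfsg.Agent.S1361
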