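import Cfsg.Statements.S1362
import Cfsg.Agent.Lib.Transfer.Local.KappaFixed

set_option maxHeartbeats 1000000
set_option maxRecDepth 8000

set_option autoImplicit false
open Cfsg

namespace Cfsg.Agent.S1362

open Cfsg.Agent Cfsg.Agent.Transfer Subgroup
open scoped Pointwise

/-- Let G be a minimal simple group of odd order and M a maximal subgroup with standard factorisation M = K U M_σ, and let A(M) be the set of elements of U M_σ centralizing some non-identity element of M_σ. Then A(M) with M_σ removed is a TI-subset of G. -/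
theorem result {G : Type*} [Group G] [Finite G] (hG : Cfsg.IsMinSimpleOddOrder G)
    (M : Subgroup G) (hM : IsCoatom M) (K U : Subgroup G) (hKU : Cfsg.IsSigmaDecomposition M K U) :
    Cfsg.IsTISubset (Cfsg.sigmaA M U \ (Cfsg.sigmaCore M : Set G)) := by
  haveI := Loc.solvable_of_ne_top hG hM.1
  obtain ⟨hE, -, hU⟩ := Loc.decomp_compl hG hM hKU
  have hMN : M ≤ normalizer (Cfsg.sigmaCore M : Set G) := TransHyp.le_normalizer_piCoreOf M
  have hUM : U ⊔ Cfsg.sigmaCore M ≤ M := sup_le hKU.compl.1 hE.2.1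
  have hMUN : M ≤ normalizer ((U ⊔ Cfsg.sigmaCore M : Subgroup G) : Set G) :=
    (Loc.compl_sup hE).ge.trans (sup_le (sup_le (le_sup_left.trans le_normalizer)
      (Grp.le_normalizer_sup' hKU.normal (hKU.hall.1.trans hMN))) (le_sup_right.trans le_normalizer))
  have hinv : M ≤ Subgroup.normalizer (Cfsg.sigmaA M U \ (Cfsg.sigmaCore M : Set G)) := by
    have h : ∀ m ∈ M, ∀ a ∈ Cfsg.sigmaA M U \ (Cfsg.sigmaCore M : Set G),
        m * a * m⁻¹ ∈ Cfsg.sigmaA M U \ (Cfsg.sigmaCore M : Set G) := by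
      rintro m hm a ⟨⟨⟨haM, y, hy, hy1, hc⟩, haU⟩, hna⟩
      refine ⟨⟨⟨M.mul_mem (M.mul_mem hm haM) (M.inv_mem hm), m * y * m⁻¹, Grp.mem_conj_normalizer (hMN hm) hy,
        fun e => hy1 (conj_eq_one_iff.1 e), ?_⟩, Grp.mem_conj_normalizer (hMUN hm) haU⟩, fun h => hna ?_⟩
      · calc m * a * m⁻¹ * (m * y * m⁻¹) = m * (a * y) * m⁻¹ := by group
          _ = m * (y * a) * m⁻¹ := by rw [hc]
          _ = m * y * m⁻¹ * (m * a * m⁻¹) := by group
      · have h' := Grp.mem_conj_normalizer' (hMN hm) h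
        rwa [show m⁻¹ * (m * a * m⁻¹) * m = a by group] at h'
    intro m hm
    refine Subgroup.mem_set_normalizer_iff.2 fun a => ⟨fun ha => h m hm a ha, fun ha => ?_⟩
    have h' := h m⁻¹ (M.inv_mem hm) _ ha
    rwa [show m⁻¹ * (m * a * m⁻¹) * m⁻¹⁻¹ = a by group] at h'
  have hex : ∀ a ∈ Cfsg.sigmaA M U \ (Cfsg.sigmaCore M : Set G),
      ∃ p : ℕ, p.Prime ∧ p ∣ orderOf a ∧ p ∉ Cfsg.sigma M := by
    rintro a ⟨⟨⟨haM, -⟩, -⟩, hna⟩
    by_contra hno
    push Not at hno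
    refine hna ((Grp.le_of_forall_sylow (inf_le_left : zpowers a ⊓ Cfsg.sigmaCore M ≤ zpowers a) fun q hq => ?_).trans
      inf_le_right (mem_zpowers a))
    obtain ⟨T, hT⟩ := Grp.exists_isSylowIn q (zpowers a)
    refine ⟨T, hT, le_inf hT.1 ?_⟩
    rcases eq_or_ne T ⊥ with h0 | h0
    · rw [h0]; exact bot_le
    obtain ⟨S, hS, hTS⟩ := Loc.exists_sylowIn_ge (hT.1.trans (zpowers_le.2 haM)) hT.2.1
    exact hTS.trans (Loc.sylow_le_piCore hG hM (Loc.alpha_subset_sigma hG hM) le_rfl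
      (hno q hq.out (Nat.card_zpowers a ▸ (Loc.dvd_card_of_pGroup hT.2.1 h0).trans (card_dvd_of_le hT.1))) hS)
  have key : ∀ a ∈ Cfsg.sigmaA M U \ (Cfsg.sigmaCore M : Set G), ∀ p : ℕ, p.Prime → p ∣ orderOf a →
      p ∉ Cfsg.sigma M → centralizer ({a ^ (orderOf a / p)} : Set G) ≤ M ∧
        ∀ L : Subgroup G, IsCoatom L → centralizer ({a ^ (orderOf a / p)} : Set G) ≤ L → L = M := by
    rintro a ⟨⟨⟨haM, y, hy, hy1, hc⟩, haU⟩, -⟩ p hp hpd hpσ
    haveI := Fact.mk hp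
    set z := a ^ (orderOf a / p)
    have hzo : orderOf z = p := orderOf_pow_orderOf_div (orderOf_pos a).ne' hpd
    have hz1 : z ≠ 1 := fun e => hp.ne_one (by rw [← hzo, e, orderOf_one])
    have hzM : z ∈ M := M.pow_mem haM _
    have hzy : z * y = y * z := ((show Commute a y from hc).pow_left _).eq
    have hfix : Cfsg.sigmaCore M ⊓ centralizer ({z} : Set G) ≠ ⊥ := fun h => hy1 (by
      rw [← mem_bot, ← h]; exact ⟨hy, mem_centralizer_singleton_iff.2 hzy.symm⟩)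
    have hτ : ∀ q : ℕ, q.Prime → q ∣ orderOf z → q ∈ Cfsg.tau2 M := by
      refine (Loc.fixed_primes_cases hG hM hzM hz1 (fun q hq hd => ?_) hfix).resolve_left fun hκ => ?_
      · rw [hzo, Nat.prime_dvd_prime_iff_eq hq hp] at hd; exact hd ▸ hpσ
      · have hd : p ∣ Nat.card ↥(U ⊔ Cfsg.sigmaCore M) := hpd.trans (Subgroup.orderOf_dvd_natCard _ haU)
        rcases hp.dvd_mul.1 (hd.trans (Grp.card_sup_dvd_mul (hKU.compl.1.trans hMN))) with h | h
        · exact hU p hp h (hκ p hp (dvd_of_eq hzo.symm))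
        · exact hpσ (TransHyp.piCoreOf_primes (π := Cfsg.sigma M) (X := M) hp h)
    exact (Cfsg.Agent.S1420.result hG M hM (U ⊔ K) hE).2.2.2 z hzM hz1 hτ ⟨hzM, y, hy, hy1, hzy⟩
  intro g hg a ha hga
  exfalso
  obtain ⟨p, hp, hpd, hpσ⟩ := hex a ha
  have hord : orderOf (g * a * g⁻¹) = orderOf a := orderOf_injective (MulAut.conj g).toMonoidHom
    (MulAut.conj g).injective a
  obtain ⟨hC, -⟩ := key a ha p hp hpd hpσ
  obtain ⟨-, huniq⟩ := key _ hga p hp (hpd.trans (dvd_of_eq hord.symm)) hpσ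
  rw [hord] at huniq
  refine hg (hinv (Loc.mem_of_conj_smul_eq hG hM (huniq _ (Loc.isCoatom_conj hG hM g) fun c hc => ?_)))
  have h2 := mem_centralizer_singleton_iff.1 hc
  rw [conj_pow] at h2
  refine ⟨g⁻¹ * c * g, hC (mem_centralizer_singleton_iff.2 ?_), by
    show MulAut.conj g (g⁻¹ * c * g) = c; rw [MulAut.conj_apply]; group⟩
  calc g⁻¹ * c * g * a ^ (orderOf a / p) = g⁻¹ * (c * (g * a ^ (orderOf a / p) * g⁻¹)) * g := by group
    _ = g⁻¹ * (g * a ^ (orderOf a / p) * g⁻¹ * c) * g := by rw [h2]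
    _ = a ^ (orderOf a / p) * (g⁻¹ * c * g) := by group

end Cfsg.Agent.S1362
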