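import Cfsg.Statements.S1366
import Cfsg.Agent.Lib.Transfer.Local.KappaDual

set_option maxHeartbeats 1000000
set_option maxRecDepth 8000

set_option autoImplicit false
open Cfsg

namespace Cfsg.Agent.S1366

open Cfsg.Agent Cfsg.Agent.Transfer Cfsg.Agent.Transfer.Loc Subgroup

/-- Let G be a minimal simple group of odd order, M a maximal subgroup with standard factorisation M = K U M_σ, K ≠ 1, and K* = M_σ ∩ C_G(K). Then there is exactly one maximal subgroup M* of G such that K = M*_σ ∩ C_G(K*) and K* is a Hall κ(M*)-subgroup of M* (in particular κ(M*) is nonempty). -/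
theorem result {G : Type*} [Group G] [Finite G] (hG : Cfsg.IsMinSimpleOddOrder G)
    (M : Subgroup G) (hM : IsCoatom M) (K U : Subgroup G) (hKU : Cfsg.IsSigmaDecomposition M K U) (hK1 : K ≠ ⊥) :
    ∃! Mstar : Subgroup G, IsCoatom Mstar ∧ K = Cfsg.sigmaCore Mstar ⊓ Subgroup.centralizer ((Cfsg.sigmaCore M ⊓ Subgroup.centralizer (K : Set G)) : Set G) ∧
        Cfsg.IsPiHallOf (Cfsg.kappa Mstar) (Cfsg.sigmaCore M ⊓ Subgroup.centralizer (K : Set G)) Mstar := by
  obtain ⟨Ms, hMs, hne, hhall, hK, -, -, -, -, hall⟩ := kappa_dual hG hM hKU.hall hK1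
  refine ⟨Ms, ⟨hMs, hK.symm, hhall⟩, fun L ⟨hL, hKL, hLhall⟩ => ?_⟩
  obtain ⟨E, hE, hKE⟩ := kappa_compl hG hM hKU.hall
  obtain ⟨-, hfix, -⟩ := kappa_prime_action hG hM hE hKU.hall hKE hK1
  have hKL' : kStar L (kStar M K) = K := hKL.symm
  have hZ : ZPartner (K ⊔ kStar M K) L := ⟨hL, kStar M K, hLhall, hfix, by rw [hKL', sup_comm]⟩
  refine (hall L hZ).resolve_left fun e => hK1 ?_
  subst e
  obtain ⟨-, -, -, hcop, -⟩ := kStar_facts hG hM hKU.hall
  exact (inf_eq_left.2 (hKL.le.trans inf_le_left)).symm.trans (Grp.inf_eq_bot_of_coprime hcop)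

end Cfsg.Agent.S1366
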