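import Cfsg.Statements.S1367
import Cfsg.Agent.Lib.Transfer.Local.KappaPair

set_option maxHeartbeats 1000000
set_option maxRecDepth 8000

set_option autoImplicit false
open Cfsg

namespace Cfsg.Agent.S1367

open Cfsg.Agent Cfsg.Agent.Transfer Cfsg.Agent.Transfer.Loc Subgroup

theorem line_unique {G : Type*} [Group G] [Finite G] {M K Ms : Subgroup G} (h : KappaPair M K Ms) (X : Subgroup G)
    (hX : X ≤ kStar M K) (hXp : (Nat.card X).Prime) :
    centralizer (X : Set G) ≤ M ∧ ∀ L : Subgroup G, IsCoatom L → centralizer (X : Set G) ≤ L → L = M := by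
  haveI := Fact.mk hXp
  obtain ⟨x, hx, hx1⟩ := (bot_or_exists_ne_one K).resolve_left h.hK1
  obtain ⟨r, _, z, hz, -, hzc, -⟩ := exists_prime_zpowers_le hx1
  have hRK : zpowers z ≤ K := zpowers_le.2 ((zpowers_le.2 hx) hz)
  exact kappa_fixed_unique h.hG h.hM (h.hK.2.1 r Fact.out (hzc ▸ card_dvd_of_le hRK)) (hRK.trans h.hK.1) hzc rfl
    (hX.trans (inf_le_inf_left _ (centralizer_le hRK)))


/-- Let G be a minimal simple group of odd order, M a maximal subgroup with standard factorisation M = K U M_σ, K ≠ 1, K* = M_σ ∩ C_G(K), and M* a maximal subgroup with K = M*_σ ∩ C_G(K*) and K* a Hall κ(M*)-subgroup of M*. Then for subgroups X ≤ K* and Y ≤ K of prime order, M is the only maximal subgroup containing C_G(X) and M* the only one containing C_G(Y). -/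
theorem result {G : Type*} [Group G] [Finite G] (hG : Cfsg.IsMinSimpleOddOrder G)
    (M : Subgroup G) (hM : IsCoatom M) (K U : Subgroup G) (hKU : Cfsg.IsSigmaDecomposition M K U) (hK1 : K ≠ ⊥) (Mstar : Subgroup G) (hMstar : IsCoatom Mstar)
    (hKst : K = Cfsg.sigmaCore Mstar ⊓ Subgroup.centralizer ((Cfsg.sigmaCore M ⊓ Subgroup.centralizer (K : Set G)) : Set G))
    (hKstH : Cfsg.IsPiHallOf (Cfsg.kappa Mstar) (Cfsg.sigmaCore M ⊓ Subgroup.centralizer (K : Set G)) Mstar) :
    (∀ X : Subgroup G, X ≤ (Cfsg.sigmaCore M ⊓ Subgroup.centralizer (K : Set G)) → (Nat.card X).Prime →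
        Subgroup.centralizer (X : Set G) ≤ M ∧ ∀ L : Subgroup G, IsCoatom L → Subgroup.centralizer (X : Set G) ≤ L → L = M) ∧
      (∀ Y : Subgroup G, Y ≤ K → (Nat.card Y).Prime →
        Subgroup.centralizer (Y : Set G) ≤ Mstar ∧ ∀ L : Subgroup G, IsCoatom L → Subgroup.centralizer (Y : Set G) ≤ L → L = Mstar) := by
  have h := kappaPair_of hG hM hKU.hall hK1 hMstar hKst hKstH
  exact ⟨fun X hX hp => line_unique h X hX hp, fun Y hY hp => line_unique h.symm Y (h.dual.symm ▸ hY) hp⟩

end Cfsg.Agent.S1367
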