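import Cfsg.Statements.S1370
import Cfsg.Agent.Lib.Transfer.Local.KappaPair

set_option maxHeartbeats 1000000
set_option maxRecDepth 8000

set_option autoImplicit false
open Cfsg

namespace Cfsg.Agent.S1370

open Cfsg.Agent Cfsg.Agent.Transfer Cfsg.Agent.Transfer.Loc Subgroup

/-- Let G be a minimal simple group of odd order, M a maximal subgroup with standard factorisation M = K U M_σ, K ≠ 1, K* = M_σ ∩ C_G(K) and Z the subgroup generated by K and K*. Then the set of elements of Z lying in neither K nor K* is a TI-subset of G, and its set-normalizer in G is exactly Z. -/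
theorem result {G : Type*} [Group G] [Finite G] (hG : Cfsg.IsMinSimpleOddOrder G)
    (M : Subgroup G) (hM : IsCoatom M) (K U : Subgroup G) (hKU : Cfsg.IsSigmaDecomposition M K U) (hK1 : K ≠ ⊥) :
    Cfsg.IsTISubset ((↑(K ⊔ (Cfsg.sigmaCore M ⊓ Subgroup.centralizer (K : Set G))) : Set G) \ ((K : Set G) ∪ ↑(Cfsg.sigmaCore M ⊓ Subgroup.centralizer (K : Set G)))) ∧ Subgroup.normalizer ((↑(K ⊔ (Cfsg.sigmaCore M ⊓ Subgroup.centralizer (K : Set G))) : Set G) \ ((K : Set G) ∪ ↑(Cfsg.sigmaCore M ⊓ Subgroup.centralizer (K : Set G)))) = K ⊔ (Cfsg.sigmaCore M ⊓ Subgroup.centralizer (K : Set G)) := by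
  obtain ⟨Ms, h⟩ := exists_kappaPair hG hM hKU.hall hK1
  haveI := h.isCyclic
  letI : CommGroup ↥(K ⊔ kStar M K) := IsCyclic.commGroup
  have hcm : ∀ g ∈ K ⊔ kStar M K, ∀ z ∈ K ⊔ kStar M K, g * z * g⁻¹ = z := fun g hg z hz => by
    rw [show g * z = z * g from congrArg Subtype.val (mul_comm (⟨g, hg⟩ : ↥(K ⊔ kStar M K)) ⟨z, hz⟩),
      mul_inv_cancel_right]
  have hN : Subgroup.normalizer ((↑(K ⊔ kStar M K) : Set G) \ ((K : Set G) ∪ ↑(kStar M K))) = K ⊔ kStar M K := by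
    refine le_antisymm (fun g hg => ?_) fun g hg => ?_
    · obtain ⟨x, hx, hx1⟩ := (bot_or_exists_ne_one K).resolve_left h.hK1
      obtain ⟨y, hy, hy1⟩ := (bot_or_exists_ne_one (kStar M K)).resolve_left h.star1
      obtain ⟨-, -, -, hcop, -⟩ := kStar_facts hG hM hKU.hall
      have hbot : K ⊓ Cfsg.sigmaCore M = ⊥ := Grp.inf_eq_bot_of_coprime hcop
      have hT : x * y ∈ ((↑(K ⊔ kStar M K) : Set G) \ ((K : Set G) ∪ ↑(kStar M K))) := by
        refine ⟨mul_mem (mem_sup_left hx) (mem_sup_right hy), ?_⟩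
        rintro (hk | hk)
        · exact hy1 (mem_bot.1 (hbot.le ⟨(K.mul_mem_cancel_left hx).1 hk, hy.1⟩))
        · exact hx1 (mem_bot.1 (hbot.le ⟨hx, ((kStar M K).mul_mem_cancel_right hy).1 hk |>.1⟩))
      exact h.ti hT ((Subgroup.mem_set_normalizer_iff.1 hg _).1 hT).1
    · refine Subgroup.mem_set_normalizer_iff.2 fun z => ⟨fun hz => by rwa [hcm g hg z hz.1], fun hz => ?_⟩
      have hzZ : z ∈ K ⊔ kStar M K := by
        have h1 := mul_mem (mul_mem (inv_mem hg) hz.1) hg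
        rwa [show g⁻¹ * (g * z * g⁻¹) * g = z by group] at h1
      rwa [hcm g hg z hzZ] at hz
  refine ⟨fun g hg z hz hgz => ?_, hN⟩
  exact absurd (h.ti hz hgz.1) fun hgZ => hg (hN.symm ▸ hgZ)

end Cfsg.Agent.S1370
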