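import Cfsg.Statements.S1371
import Cfsg.Agent.Lib.Transfer.Local.KappaPair

set_option maxHeartbeats 1000000
set_option maxRecDepth 8000

set_option autoImplicit false
open Cfsg

namespace Cfsg.Agent.S1371

open Cfsg.Agent Cfsg.Agent.Transfer Cfsg.Agent.Transfer.Loc Subgroup
open scoped Pointwise

/-- Let G be a minimal simple group of odd order, M a maximal subgroup with standard factorisation M = K U M_σ, K ≠ 1, K* = M_σ ∩ C_G(K), and Ẑ the set of elements of K K* outside K ∪ K*. Then the union of the M-conjugates of Ẑ equals A₀(M) with A(M) removed, and it is a TI-subset of G. -/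
theorem result {G : Type*} [Group G] [Finite G] (hG : Cfsg.IsMinSimpleOddOrder G)
    (M : Subgroup G) (hM : IsCoatom M) (K U : Subgroup G) (hKU : Cfsg.IsSigmaDecomposition M K U) (hK1 : K ≠ ⊥) :
    {a : G | ∃ m ∈ M, ∃ z ∈ ((↑(K ⊔ (Cfsg.sigmaCore M ⊓ Subgroup.centralizer (K : Set G))) : Set G) \ ((K : Set G) ∪ ↑(Cfsg.sigmaCore M ⊓ Subgroup.centralizer (K : Set G)))), a = m * z * m⁻¹} = Cfsg.sigmaA0 M K \ Cfsg.sigmaA M U ∧
      Cfsg.IsTISubset (Cfsg.sigmaA0 M K \ Cfsg.sigmaA M U) := by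
  obtain ⟨Ms, h⟩ := exists_kappaPair hG hM hKU.hall hK1
  haveI := solvable_of_ne_top hG hM.1
  obtain ⟨hE, -, hU⟩ := decomp_compl hG hM hKU
  obtain ⟨hle, hKc, -, hcop, -⟩ := kStar_facts hG hM hKU.hall
  have hMN : M ≤ normalizer (Cfsg.sigmaCore M : Set G) := TransHyp.le_normalizer_piCoreOf M
  have hUM : U ⊔ Cfsg.sigmaCore M ≤ M := sup_le hKU.compl.1 hE.2.1
  have hMUN : M ≤ normalizer ((U ⊔ Cfsg.sigmaCore M : Subgroup G) : Set G) :=
    (compl_sup hE).ge.trans (sup_le (sup_le (le_sup_left.trans le_normalizer)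
      (Grp.le_normalizer_sup' hKU.normal (hKU.hall.1.trans hMN))) (le_sup_right.trans le_normalizer))
  have hUprime : ∀ u ∈ U ⊔ Cfsg.sigmaCore M, ∀ p : ℕ, p.Prime → p ∣ orderOf u → p ∉ Cfsg.kappa M :=
    fun u hu p hp hd hκ => by
      rcases hp.dvd_mul.1 ((hd.trans (Subgroup.orderOf_dvd_natCard _ hu)).trans
        (Grp.card_sup_dvd_mul (hKU.compl.1.trans hMN))) with h' | h'
      · exact hU p hp h' hκ
      · exact hκ.2.2.1 (TransHyp.piCoreOf_primes (π := Cfsg.sigma M) (X := M) hp h')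
  have hconjZ : ∀ k ∈ K, ∀ y ∈ kStar M K, Commute k y :=
    fun k hk y hy => (mem_centralizer_iff.1 (hKc hk) y hy).symm
  have hset : {a : G | ∃ m ∈ M, ∃ z ∈ ((↑(K ⊔ kStar M K) : Set G) \ ((K : Set G) ∪ ↑(kStar M K))), a = m * z * m⁻¹} =
      Cfsg.sigmaA0 M K \ Cfsg.sigmaA M U := by
    ext a
    constructor
    · rintro ⟨m, hm, z, hz, rfl⟩
      obtain ⟨x, hx, y, hy, hx1, hy1, rfl, hxz, hyz⟩ := h.exists_parts hz
      have hzM : x * y ∈ M := hle hz.1
      refine ⟨⟨⟨M.mul_mem (M.mul_mem hm hzM) (M.inv_mem hm), m * y * m⁻¹, Grp.mem_conj_normalizer (hMN hm) hy.1,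
        fun e => hy1 (conj_eq_one_iff.1 e), ?_⟩, ?_⟩, fun hA => ?_⟩
      · have hc : Commute (x * y) y := ((hconjZ x hx y hy).mul_left (Commute.refl y))
        exact (hc.map (MulAut.conj m).toMonoidHom).eq
      · rintro ⟨k, hk, -, n, -, e⟩
        obtain ⟨p, hp, hpd⟩ := Nat.exists_prime_and_dvd (fun h' => hy1 (orderOf_eq_one_iff.1 h'))
        refine (hKU.hall.2.1 p hp ?_).2.2.1 (TransHyp.piCoreOf_primes (π := Cfsg.sigma M) (X := M) hp
          (hpd.trans (Subgroup.orderOf_dvd_natCard _ hy.1)))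
        have h1 : orderOf (x * y) = orderOf k := by
          have e' : MulAut.conj m (x * y) = MulAut.conj n k := e
          rw [← MulEquiv.orderOf_eq (MulAut.conj m), e', MulEquiv.orderOf_eq]
        exact (h1 ▸ hpd.trans (orderOf_dvd_of_mem_zpowers hyz)).trans (Subgroup.orderOf_dvd_natCard _ hk)
      · have h1 := Grp.mem_conj_normalizer' (hMUN hm) hA.2
        rw [show m⁻¹ * (m * (x * y) * m⁻¹) * m = x * y by group] at h1
        have h2 : x ∈ U ⊔ Cfsg.sigmaCore M := (zpowers_le.2 h1) hxz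
        obtain ⟨p, hp, hpd⟩ := Nat.exists_prime_and_dvd (fun h' => hx1 (orderOf_eq_one_iff.1 h'))
        exact hUprime x h2 p hp hpd (hKU.hall.2.1 p hp (hpd.trans (Subgroup.orderOf_dvd_natCard _ hx)))
    · rintro ⟨⟨⟨haM, w, hw, hw1, hcw⟩, hnK⟩, hnA⟩
      have haU : a ∉ U ⊔ Cfsg.sigmaCore M := fun h' => hnA ⟨⟨haM, w, hw, hw1, hcw⟩, h'⟩
      obtain ⟨v, x, hva, hxa, hvx, hvπ, hxπ⟩ := exists_pi_parts (Cfsg.sigma M) a
      have hvσ : v ∈ Cfsg.sigmaCore M := mem_sigmaCore_of_pi hG hM ((zpowers_le.2 haM) hva) hvπ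
      have hx1 : x ≠ 1 := fun e => haU (by rw [← hvx, e, mul_one]; exact mem_sup_right hvσ)
      have hxM : x ∈ M := (zpowers_le.2 haM) hxa
      obtain ⟨i, hi⟩ := mem_zpowers_iff.1 hxa
      obtain ⟨j, hj⟩ := mem_zpowers_iff.1 hva
      have hxw : Commute x w := hi ▸ ((show Commute a w from hcw).zpow_left i)
      have hvxc : Commute x v := hi ▸ hj ▸ Commute.zpow_zpow (Commute.refl a) i j
      have hfix : Cfsg.sigmaCore M ⊓ centralizer ({x} : Set G) ≠ ⊥ := fun e => hw1 (by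
        rw [← mem_bot, ← e]; exact ⟨hw, mem_centralizer_singleton_iff.2 hxw.eq.symm⟩)
      have hκ : ∀ p : ℕ, p.Prime → p ∣ orderOf x → p ∈ Cfsg.kappa M := by
        refine (fixed_primes_cases hG hM hxM hx1 hxπ hfix).resolve_right fun hτ => haU ?_
        have hxU : x ∈ U ⊔ Cfsg.sigmaCore M := by
          set W := U ⊔ Cfsg.sigmaCore M
          have hWK : W ⊔ K = M := le_antisymm (sup_le hUM hKU.hall.1)
            ((compl_sup hE).ge.trans (sup_le (sup_le (le_sup_left.trans le_sup_left) le_sup_right)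
              (le_sup_right.trans le_sup_left)))
          have h1 : W.relIndex (W ⊔ zpowers x) ∣ orderOf x := by
            refine Nat.dvd_of_mul_dvd_mul_left (k := Nat.card W) Nat.card_pos ?_
            rw [Grp.card_mul_relIndex le_sup_left, sup_comm, ← Nat.card_zpowers, mul_comm]
            exact Grp.card_sup_dvd_mul ((zpowers_le.2 hxM).trans hMUN)
          have h2 : W.relIndex (W ⊔ zpowers x) ∣ Nat.card K := by
            refine (Dvd.intro _ (Subgroup.relIndex_mul_relIndex W (W ⊔ zpowers x) M le_sup_left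
              (sup_le hUM (zpowers_le.2 hxM)))).trans ?_
            refine Nat.dvd_of_mul_dvd_mul_left (k := Nat.card W) Nat.card_pos ?_
            rw [Grp.card_mul_relIndex hUM, mul_comm]
            conv_lhs => rw [← hWK, sup_comm]
            exact Grp.card_sup_dvd_mul (hKU.hall.1.trans hMUN)
          have h3 : (orderOf x).Coprime (Nat.card K) := Nat.coprime_of_dvd fun p hp h1 h2 => by
            haveI := Fact.mk hp
            exact (hτ p hp h1).2.2.2 (kappa_rank_one hG hM (hKU.hall.2.1 p hp h2))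
          exact (Subgroup.relIndex_eq_one.1 (Nat.eq_one_of_dvd_coprimes h3 h1 h2))
            (mem_sup_right (mem_zpowers x))
        rw [← hvx]
        exact mul_mem (mem_sup_right hvσ) hxU
      obtain ⟨m, hm, hle'⟩ := Grp.PiHall.dominate hKU.hall (zpowers_le.2 hxM)
        (fun p hp hd => hκ p hp (Nat.card_zpowers x ▸ hd))
      obtain ⟨k, hk, ek⟩ := hle' (mem_zpowers x)
      have ek' : m * k * m⁻¹ = x := ek
      have hk1 : k ≠ 1 := fun e => hx1 (by rw [← ek', e]; group)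
      have hvk : m⁻¹ * v * m ∈ kStar M K := by
        refine ((Cfsg.Agent.S1430.result hG M hM K hKU.hall hK1).1 k hk hk1).le
          ⟨Grp.mem_conj_normalizer' (hMN hm) hvσ, mem_centralizer_singleton_iff.2 ?_⟩
        have h1 : k = m⁻¹ * x * m := by rw [← ek']; group
        rw [h1, show m⁻¹ * v * m * (m⁻¹ * x * m) = m⁻¹ * (v * x) * m by group, ← hvxc.eq]
        group
      refine ⟨m, hm, k * (m⁻¹ * v * m), ⟨mul_mem (mem_sup_left hk) (mem_sup_right hvk), ?_⟩, ?_⟩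
      · have hbot : K ⊓ Cfsg.sigmaCore M = ⊥ := Grp.inf_eq_bot_of_coprime hcop
        rintro (h' | h')
        · have h1 : m⁻¹ * v * m = 1 := mem_bot.1 (hbot.le ⟨(K.mul_mem_cancel_left hk).1 h', hvk.1⟩)
          have hv1 : v = 1 := by
            rw [show v = m * (m⁻¹ * v * m) * m⁻¹ by group, h1]; group
          exact hnK ⟨k, hk, hk1, m, hm, by rw [ek', ← hvx, hv1, one_mul]⟩
        · exact hk1 (mem_bot.1 (hbot.le ⟨hk, (((kStar M K).mul_mem_cancel_right hvk).1 h').1⟩))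
      · rw [show m * (k * (m⁻¹ * v * m)) * m⁻¹ = m * k * m⁻¹ * v by group, ek', hvxc.eq, hvx]
  refine ⟨hset, fun g hg a ha hga => absurd ?_ hg⟩
  rw [← hset] at ha hga ⊢
  obtain ⟨m, hm, z, hz, rfl⟩ := ha
  obtain ⟨n, hn, z', hz', e⟩ := hga
  have hc : n⁻¹ * g * m ∈ K ⊔ kStar M K := h.ti hz (by
    rw [show n⁻¹ * g * m * z * (n⁻¹ * g * m)⁻¹ = n⁻¹ * (g * (m * z * m⁻¹) * g⁻¹) * n by group, e,
      show n⁻¹ * (n * z' * n⁻¹) * n = z' by group]
    exact hz'.1)
  have hgM : g ∈ M := by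
    have h1 := M.mul_mem (M.mul_mem hn (hle hc)) (M.inv_mem hm)
    rwa [show n * (n⁻¹ * g * m) * m⁻¹ = g by group] at h1
  refine Subgroup.mem_set_normalizer_iff.2 fun b => ⟨?_, ?_⟩
  · rintro ⟨p, hp, w, hw, rfl⟩
    exact ⟨g * p, M.mul_mem hgM hp, w, hw, by group⟩
  · rintro ⟨p, hp, w, hw, e'⟩
    refine ⟨g⁻¹ * p, M.mul_mem (M.inv_mem hgM) hp, w, hw, ?_⟩
    rw [show g⁻¹ * p * w * (g⁻¹ * p)⁻¹ = g⁻¹ * (p * w * p⁻¹) * g by group, ← e']
    group

end Cfsg.Agent.S1371
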