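import Cfsg.Statements.S1384
import Cfsg.Agent.Lib.Transfer.Local.HallFusion
import Cfsg.Agent.S1438

set_option maxHeartbeats 1000000
set_option maxRecDepth 8000

set_option autoImplicit false
open Cfsg

namespace Cfsg.Agent.S1384

open Cfsg.Agent Cfsg.Agent.Transfer Cfsg.Agent.Transfer.Loc Subgroup
open scoped Pointwise


/-- Let G be a minimal simple group of odd order and H a nilpotent subgroup whose order is coprime to its index. If x ∈ H and gxg⁻¹ ∈ H for some g ∈ G, then nxn⁻¹ = gxg⁻¹ for some n in the normalizer of H. -/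
theorem result {G : Type*} [Group G] [Finite G] (hG : Cfsg.IsMinSimpleOddOrder G)
    (H : Subgroup G) (hHn : Group.IsNilpotent H) (hHall : (Nat.card H).Coprime H.index) :
    ∀ x ∈ H, ∀ g : G, g * x * g⁻¹ ∈ H → ∃ n ∈ Subgroup.normalizer (H : Set G), n * x * n⁻¹ = g * x * g⁻¹ := by

  intro x hx g hy
  rcases eq_or_ne H ⊥ with rfl | hH1
  · rw [mem_bot] at hx hy
    exact ⟨1, one_mem _, by rw [hy, hx]; group⟩
  obtain ⟨q, hq, hqH⟩ := Nat.exists_prime_and_dvd fun e => hH1 (Subgroup.card_eq_one.1 e)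
  haveI := Fact.mk hq
  have hsyl : ∀ p : ℕ, ∀ [Fact p.Prime], p ∣ Nat.card H → ∀ {T M : Subgroup G}, Grp.IsSylowIn p T H → H ≤ M →
      Grp.IsSylowIn p T M := fun p hp hd T M hT hHM => sylowIn_trans hT hHM fun h =>
    hp.out.ne_one (Nat.eq_one_of_dvd_coprimes hHall hd (h.trans (Dvd.intro _ (relIndex_mul_index hHM))))
  obtain ⟨Q, hQ⟩ := Grp.exists_isSylowIn q H
  have hQ1 : Q ≠ ⊥ := sylow_ne_bot_of_dvd hQ hqH
  have hNQ : normalizer (H : Set G) ≤ normalizer (Q : Set G) := normalizer_le_sylow hHn hQ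
  have hQT : Q ≠ ⊤ := fun e => by
    haveI := hG.2.1
    have h1 : IsPGroup q G := (e ▸ hQ.2.1).of_equiv Subgroup.topEquiv
    haveI : Nontrivial G := hG.2.1.toNontrivial
    haveI := h1.center_nontrivial
    exact (Subgroup.nontrivial_iff_ne_bot _).1 inferInstance (TransHyp.center_eq_bot hG)
  obtain ⟨M, hM, hNM⟩ := exists_coatom_normalizer hG hQ1 hQT
  haveI := solvable_of_ne_top hG hM.1
  have hHM : H ≤ M := le_normalizer.trans (hNQ.trans hNM)
  have hQM := hsyl q hqH hQ hHM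
  have hqσ : q ∈ Cfsg.sigma M := by
    obtain ⟨P, hP⟩ := Grp.isSylowIn_iff.1 hQM
    exact ⟨hq, hqH.trans (card_dvd_of_le hHM), P, hP.symm ▸ hNM⟩
  have hQS : Q ≤ Cfsg.sigmaCore M := fun a ha => mem_sigmaCore_of_pi hG hM (hQM.1 ha) fun r hr hd => by
    rw [eq_of_dvd_pGroup hQ.2.1 hr (hd.trans (Subgroup.orderOf_dvd_natCard _ ha))]; exact hqσ
  have hSM : Cfsg.sigmaCore M ≤ M := TransHyp.piCoreOf_le M
  have hQhall : (Nat.card Q).Coprime (Q.relIndex (Cfsg.sigmaCore M)) := by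
    obtain ⟨i, hi⟩ := IsPGroup.iff_card.1 hQ.2.1
    rw [hi]
    refine (hq.coprime_iff_not_dvd.2 fun hd => hQM.2.2 (hd.trans ?_)).pow_left i
    exact Dvd.intro _ (relIndex_mul_relIndex Q (Cfsg.sigmaCore M) M hQS hSM)
  have hπ : ∀ p : ℕ, p.Prime → p ∣ Nat.card H → p ∈ Cfsg.sigma M := by
    intro p hp hpH
    by_contra hσ
    haveI := Fact.mk hp
    obtain ⟨P, hP⟩ := Grp.exists_isSylowIn p H
    have hPQ : P ≤ centralizer (Q : Set G) := commute_of_coprime
      ((hP.1.trans le_normalizer).trans hNQ)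
      ((hQ.1.trans le_normalizer).trans (normalizer_le_sylow hHn hP))
      (coprime_O (fun e : p = q => hσ (e ▸ hqσ)) hP.2.1 hQ.2.1)
    have hPM := hsyl p hpH hP hHM
    by_cases hr : Cfsg.PRankLE p 1 M
    · obtain ⟨z, hz⟩ := exists_prime_orderOf_dvd_card' p (dvd_card_of_pGroup hP.2.1 (sylow_ne_bot_of_dvd hP hpH))
      have hzc : Nat.card (zpowers (z : G)) = p := by rw [Nat.card_zpowers, Subgroup.orderOf_coe, hz]
      have hQz : Q ≤ centralizer (zpowers (z : G) : Set G) := le_centralizer_iff.1 ((zpowers_le.2 z.2).trans hPQ)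
      have hzM : zpowers (z : G) ≤ M := zpowers_le.2 (hPM.1 z.2)
      exact kappa_not_cent_hall hG hM hQS hQ1 hQhall (kappa_of_fixed hG hM hσ hr hzM hzc
        (ne_bot_of_le_ne_bot hQ1 (le_inf hQS hQz))) hzM hzc hQz
    · have hτ := tau2_of_not_rank_one hG hM hσ hr
      obtain ⟨D, hDP, hD, hD2⟩ := exists_elem_sylow hr hPM
      have hDc : Nat.card D = p ^ 2 := by
        refine le_antisymm ?_ hD2
        by_contra hlt
        obtain ⟨n, hn⟩ := IsPGroup.iff_card.1 (Grp.elemAb_isPGroup hD)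
        refine not_prank_of_elem (hDP.trans hPM.1) hD ?_ hτ.2.2.1
        rw [hn] at hlt ⊢
        exact Nat.pow_le_pow_right hp.pos ((Nat.pow_lt_pow_iff_right hp.one_lt).1 (not_le.1 hlt))
      refine hQ1 (le_bot_iff.1 (le_trans (le_inf hQS (le_centralizer_iff.1 (hDP.trans hPQ))) ?_))
      exact (Cfsg.Agent.S1417.result hG M hM p hτ D ⟨hDP.trans hPM.1, hD, hDc⟩).2.2.2.1.le
  have hHS : H ≤ Cfsg.sigmaCore M := fun a ha => mem_sigmaCore_of_pi hG hM (hHM ha) fun r hr hd =>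
    hπ r hr (hd.trans (Subgroup.orderOf_dvd_natCard _ ha))
  obtain ⟨n, hn, e⟩ := (Cfsg.Agent.S1438.result hG M hM H hHS hH1
    (hHall.coprime_dvd_right (Dvd.intro _ (relIndex_mul_index hHS)))).2 x hx g hy
  exact ⟨n, hn.2, e⟩

end Cfsg.Agent.S1384
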