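import Cfsg.Statements.S1385
import Cfsg.Agent.S1380
import Cfsg.Agent.S1369
import Cfsg.Agent.Lib.Transfer.Local.NonTIKappa
-- import your own Cfsg.Agent.* helpers here

set_option autoImplicit false
open Cfsg

namespace Cfsg.Agent.S1385

open Cfsg.Agent Cfsg.Agent.Transfer Cfsg.Agent.Transfer.Loc Subgroup
open scoped Pointwise

/-- The type of a maximal subgroup with `K ≠ 1`. -/
theorem type_of_ne {G : Type*} [Group G] [Finite G] (hG : Cfsg.IsMinSimpleOddOrder G) {M K U : Subgroup G}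
    (hM : IsCoatom M) (hKU : Cfsg.IsSigmaDecomposition M K U) (hK : K ≠ ⊥) :
    Cfsg.IsOfTypeII M ∨ Cfsg.IsOfTypeIII M ∨ Cfsg.IsOfTypeIV M ∨ Cfsg.IsOfTypeV M := by
  by_cases hU : U = ⊥
  · by_cases hH : Cfsg.fittingHallOf M = Cfsg.sigmaCore M
    · exact Or.inr (Or.inr (Or.inr ((typeV_iff hG hM hKU).2 ⟨hK, hU, hH⟩)))
    · rcases (typeIII_IV_iff hG hM hKU).2 ⟨hK, hU, hH⟩ with h | h
      · exact Or.inr (Or.inl h)
      · exact Or.inr (Or.inr (Or.inl h))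
  · exact Or.inl ((typeII_iff hG hM hKU).2 ⟨hK, hU⟩)

/-- Type I when `K = 1`. -/
theorem typeI_of_bot {G : Type*} [Group G] [Finite G] (hG : Cfsg.IsMinSimpleOddOrder G) {M K U : Subgroup G}
    (hM : IsCoatom M) (hKU : Cfsg.IsSigmaDecomposition M K U) (hK : K = ⊥) : Cfsg.IsOfTypeI M := by
  refine (Cfsg.Agent.S1380.result hG M hM K U hKU).2 ⟨hK, fun hU => sigmaCore_ne_bot hG hM ?_⟩
  obtain ⟨hEc, -, -⟩ := decomp_compl hG hM hKU
  rw [hK, hU, sup_bot_eq] at hEc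
  rw [← (Cfsg.Agent.S1426.result hG M hM ⊥ hEc).2.1, Subgroup.commutator_bot_right]

/-- Let G be a minimal simple group of odd order. Then either every maximal subgroup of G is of Type I, or there are nontrivial subgroups W₁, W₂ generating a cyclic group W that is the normalizer of every nonempty subset of W outside W₁ ∪ W₂, and maximal subgroups S, T with W₁ a complement to S' in S, W₂ a complement to T' in T, S ∩ T = W, S or T of Type II, each of S, T of Type II, III, IV or V, and every maximal subgroup of G of Type I or conjugate to S or to T. -/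
theorem result {G : Type*} [Group G] [Finite G] (hG : Cfsg.IsMinSimpleOddOrder G) :
    (∀ M : Subgroup G, IsCoatom M → Cfsg.IsOfTypeI M) ∨
      ∃ W₁ W₂ S T : Subgroup G, Cfsg.IsSelfNormalizingCyclic W₁ W₂ ∧ IsCoatom S ∧ IsCoatom T ∧
        Cfsg.IsComplIn ⁅S, S⁆ W₁ S ∧ Cfsg.IsComplIn ⁅T, T⁆ W₂ T ∧ S ⊓ T = W₁ ⊔ W₂ ∧
        (Cfsg.IsOfTypeII S ∨ Cfsg.IsOfTypeII T) ∧
        (Cfsg.IsOfTypeII S ∨ Cfsg.IsOfTypeIII S ∨ Cfsg.IsOfTypeIV S ∨ Cfsg.IsOfTypeV S) ∧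
        (Cfsg.IsOfTypeII T ∨ Cfsg.IsOfTypeIII T ∨ Cfsg.IsOfTypeIV T ∨ Cfsg.IsOfTypeV T) ∧
        ∀ M : Subgroup G, IsCoatom M → Cfsg.IsOfTypeI M ∨ ∃ g : G, M = S.map (MulAut.conj g).toMonoidHom ∨ M = T.map (MulAut.conj g).toMonoidHom := by
  refine or_iff_not_imp_left.2 fun hnot => ?_
  obtain ⟨M, hM, hI⟩ := not_forall₂.1 hnot
  obtain ⟨K, U, hKU⟩ := exists_decomp_of_max hG hM
  have hK : K ≠ ⊥ := fun e => hI (typeI_of_bot hG hM hKU e)
  obtain ⟨Ms, h⟩ := exists_kappaPair hG hM hKU.hall hK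
  obtain ⟨U', hKU'⟩ := exists_decomp hG h.hMs h.cycStar h.hall
  obtain ⟨h2, h3⟩ := Cfsg.Agent.S1369.result hG M hM K U hKU hK Ms h.hMs h.dual.symm h.hall
  obtain ⟨-, hc, hcop, -⟩ := derived_compl hG hM hKU hK
  obtain ⟨-, hc', -, -⟩ := derived_compl hG h.hMs hKU' h.star1
  have hsD : kStar M K ≤ ⁅M, M⁆ := (Cfsg.Agent.S1365.result hG M hM K U hKU hK).2.trans
    ⁅M, M⁆.commutator_le_self
  refine ⟨K, kStar M K, M, Ms, ⟨hK, h.star1, Grp.inf_eq_bot_of_coprime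
    (hcop.symm.coprime_dvd_right (card_dvd_of_le hsD)), fun a ha b hb => mem_centralizer_iff.1 hb.2 a ha,
    h.isCyclic, fun X hX hne => ?_⟩, hM, h.hMs, hc, hc', h.meet, ?_, type_of_ne hG hM hKU hK,
    type_of_ne hG h.hMs hKU' h.star1, fun H hH => ?_⟩
  · haveI := h.isCyclic
    letI : CommGroup ↥(K ⊔ kStar M K) := IsCyclic.commGroup
    have hcm : ∀ g ∈ K ⊔ kStar M K, ∀ z ∈ K ⊔ kStar M K, g * z * g⁻¹ = z := fun g hg z hz => by
      rw [show g * z = z * g from congrArg Subtype.val (mul_comm (⟨g, hg⟩ : ↥(K ⊔ kStar M K)) ⟨z, hz⟩),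
        mul_inv_cancel_right]
    refine le_antisymm (fun g hg => ?_) fun g hg => Subgroup.mem_set_normalizer_iff.2 fun z =>
      ⟨fun hz => by rwa [hcm g hg z (hX hz).1], fun hz => ?_⟩
    · obtain ⟨z, hz⟩ := hne
      exact h.ti (hX hz) (hX ((Subgroup.mem_set_normalizer_iff.1 hg z).1 hz)).1
    · have hzZ : z ∈ K ⊔ kStar M K := by
        have h4 := mul_mem (mul_mem (inv_mem hg) (hX hz).1) hg
        rwa [show g⁻¹ * (g * z * g⁻¹) * g = z by group] at h4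
      rwa [hcm g hg z hzZ] at hz
  · by_cases hU : U = ⊥
    · exact Or.inr ((typeII_iff hG h.hMs hKU').2 ⟨h.star1, (h2.resolve_left (not_not_intro hU)) U' hKU'⟩)
    · exact Or.inl ((typeII_iff hG hM hKU).2 ⟨hK, hU⟩)
  · obtain ⟨K₁, U₁, hKU₁⟩ := exists_decomp_of_max hG hH
    by_cases hK₁ : K₁ = ⊥
    · exact Or.inl (typeI_of_bot hG hH hKU₁ hK₁)
    · obtain ⟨p, hp, hpd⟩ := Nat.exists_prime_and_dvd fun e => hK₁ (Subgroup.card_eq_one.1 e)
      exact Or.inr (h3 H hH ⟨p, hKU₁.hall.2.1 p hp hpd⟩)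

end Cfsg.Agent.S1385
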