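import Cfsg.Statements.S1386
import Mathlib

set_option maxHeartbeats 1000000
set_option maxRecDepth 8000

set_option autoImplicit false
open Cfsg

namespace Cfsg.Agent.S1386

/-- Let G be a finite group, W₁, W₂ subgroups forming a self-normalizing cyclic pair, S a subgroup with W₂ ≤ S and W₁ a complement to S' in S, and (W₁, U, W₂') type-P data for S. Then W₂' = W₂ (that is, C_{S'}(W₁) = W₂). -/
theorem result {G : Type*} [Group G] [Finite G] (W₁ W₂ S U W₂' : Subgroup G) (hW : Cfsg.IsSelfNormalizingCyclic W₁ W₂)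
    (hSW : Cfsg.IsComplIn ⁅S, S⁆ W₁ S) (hW₂S : W₂ ≤ S) (hP : Cfsg.IsTypePWith S W₁ U W₂') :
    W₂' = W₂ := by
  obtain ⟨hW₁, hW₂, hdis, hcomm, hcyc, hN⟩ := hW
  obtain ⟨hW₁', hW₂', hdis', hcomm', hcyc', hN'⟩ := hP.selfNormalizing
  obtain ⟨x₀, hx₀, hx₁⟩ := (Subgroup.bot_or_exists_ne_one W₁).resolve_left hW₁
  have hle : W₂ ≤ W₁ ⊔ W₂' := fun w hw => by
    obtain ⟨a, ha, b, hb, rfl⟩ := hSW.2.2.2 w (hW₂S hw)
    have h1 := hcomm x₀ hx₀ _ hw
    have h2 : x₀ * b = b * x₀ := by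
      haveI := hP.W₁_cyclic
      letI := IsCyclic.commGroup (α := W₁)
      exact congrArg Subtype.val (mul_comm (⟨x₀, hx₀⟩ : W₁) ⟨b, hb⟩)
    have ha' : a ∈ W₂' := by
      rw [← hP.W₂_centralizer x₀ hx₀ hx₁]
      refine ⟨ha, Subgroup.mem_centralizer_singleton_iff.2 ?_⟩
      have h3 : (x₀ * a) * b = (a * x₀) * b := by
        rw [mul_assoc x₀, h1, mul_assoc a b, ← h2, mul_assoc]
      exact (mul_right_cancel h3).symm
    exact Subgroup.mul_mem_sup ha' hb |> fun h => by rwa [sup_comm]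
  have habW : ∀ a ∈ W₁ ⊔ W₂', ∀ b ∈ W₁ ⊔ W₂', a * b = b * a := fun a ha b hb => by
    haveI := hcyc'
    letI := IsCyclic.commGroup (α := ↥(W₁ ⊔ W₂'))
    exact congrArg Subtype.val (mul_comm (⟨a, ha⟩ : ↥(W₁ ⊔ W₂')) ⟨b, hb⟩)
  have heq : W₁ ⊔ W₂ = W₁ ⊔ W₂' := by
    refine le_antisymm (sup_le le_sup_left hle) fun y hy => ?_
    obtain ⟨b₀, hb₀, hb₁⟩ := (Subgroup.bot_or_exists_ne_one W₂).resolve_left hW₂
    have hmem : x₀ * b₀ ∈ (↑(W₁ ⊔ W₂) : Set G) \ (↑W₁ ∪ ↑W₂) := by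
      refine ⟨Subgroup.mul_mem_sup hx₀ hb₀, ?_⟩
      rintro (h | h)
      · refine hb₁ ?_
        have : b₀ ∈ W₁ ⊓ W₂ := ⟨by simpa using mul_mem (inv_mem hx₀) h, hb₀⟩
        rwa [hdis, Subgroup.mem_bot] at this
      · refine hx₁ ?_
        have : x₀ ∈ W₁ ⊓ W₂ := ⟨hx₀, by simpa using mul_mem h (inv_mem hb₀)⟩
        rwa [hdis, Subgroup.mem_bot] at this
    rw [← hN {x₀ * b₀} (Set.singleton_subset_iff.2 hmem) (Set.singleton_nonempty _)]
    have hyc := habW _ ((sup_le le_sup_left hle : W₁ ⊔ W₂ ≤ W₁ ⊔ W₂') hmem.1) y hy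
    show ∀ z, z ∈ ({x₀ * b₀} : Set G) ↔ y * z * y⁻¹ ∈ ({x₀ * b₀} : Set G)
    intro z
    simp only [Set.mem_singleton_iff]
    constructor
    · rintro rfl
      rw [← hyc, mul_inv_cancel_right]
    · intro h
      rw [show z = y⁻¹ * (y * z * y⁻¹) * y by group, h, mul_assoc, hyc, inv_mul_cancel_left]
  -- two complements of `W₁` in a cyclic group
  have hcard : ∀ A B : Subgroup G, A ⊓ B = ⊥ → (∀ a ∈ A, ∀ b ∈ B, a * b = b * a) → Nat.card ↥(A ⊔ B) = Nat.card A * Nat.card B := by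
    intro A B hd hc
    have hn : B ≤ Subgroup.normalizer (A : Set G) := fun b hb => Subgroup.mem_normalizer_iff.2 fun a => by
      constructor
      · intro ha; rwa [← hc a ha b hb, mul_inv_cancel_right]
      · intro ha
        have h1 := hc _ ha b hb
        have h2 : a = b * a * b⁻¹ := by
          have h3 : b * (b * a * b⁻¹) = b * a := by rw [← h1]; group
          exact (mul_left_cancel h3).symm
        exact h2 ▸ ha
    let e : A × B → ↥(A ⊔ B) := fun t => ⟨t.1 * t.2, Subgroup.mul_mem_sup t.1.2 t.2.2⟩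
    have he : Function.Bijective e := by
      constructor
      · rintro ⟨a, b⟩ ⟨a', b'⟩ h
        have h := congrArg Subtype.val h
        exact Prod.ext_iff.2 (by
          have := Subgroup.mul_injective_of_disjoint (disjoint_iff.2 hd) (a₁ := (a, b)) (a₂ := (a', b')) h
          exact Prod.ext_iff.1 this)
      · rintro ⟨y, hy⟩
        have hy' : y ∈ (↑(A ⊔ B) : Set G) := hy
        rw [Subgroup.coe_mul_of_right_le_normalizer_left A B hn] at hy'
        obtain ⟨a, ha, b, hb, rfl⟩ := hy'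
        exact ⟨(⟨a, ha⟩, ⟨b, hb⟩), rfl⟩
    rw [← Nat.card_prod]
    exact (Nat.card_eq_of_bijective e he).symm
  have h1 := hcard W₁ W₂ hdis hcomm
  have h2 := hcard W₁ W₂' hdis' hcomm'
  rw [heq, h2] at h1
  have hc2 : Nat.card W₂' = Nat.card W₂ := Nat.eq_of_mul_eq_mul_left Nat.card_pos h1
  haveI := hcyc'
  have hA : W₂'.subgroupOf (W₁ ⊔ W₂') = W₂.subgroupOf (W₁ ⊔ W₂') := by
    classical
    letI := Fintype.ofFinite ↥(W₁ ⊔ W₂')
    have key : ∀ A : Subgroup ↥(W₁ ⊔ W₂'), ∀ x, x ∈ A ↔ x ^ Nat.card A = 1 := fun A x => by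
      refine ⟨fun hx => congrArg Subtype.val (pow_card_eq_one' (x := (⟨x, hx⟩ : A))), fun hx => ?_⟩
      by_contra hxA
      have h3 : insert x (Finset.univ.filter fun a => a ∈ A) ⊆ Finset.univ.filter fun a => a ^ Nat.card A = 1 := by
        intro a ha
        rcases Finset.mem_insert.1 ha with rfl | ha
        · exact Finset.mem_filter.2 ⟨Finset.mem_univ _, hx⟩
        · exact Finset.mem_filter.2 ⟨Finset.mem_univ _,
            congrArg Subtype.val (pow_card_eq_one' (x := (⟨a, (Finset.mem_filter.1 ha).2⟩ : A)))⟩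
      have h4 := (Finset.card_le_card h3).trans (IsCyclic.card_pow_eq_one_le Nat.card_pos)
      rw [Finset.card_insert_of_notMem (by simpa using hxA)] at h4
      have h5 : (Finset.univ.filter fun a => a ∈ A).card = Nat.card A := by
        rw [Nat.card_eq_fintype_card, Fintype.card_subtype]
      omega
    ext x
    rw [key, key, Nat.card_congr (Subgroup.subgroupOfEquivOfLe (le_sup_right : W₂' ≤ W₁ ⊔ W₂')).toEquiv,
      Nat.card_congr (Subgroup.subgroupOfEquivOfLe hle).toEquiv, hc2]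
  rw [← Subgroup.map_subgroupOf_eq_of_le (le_sup_right : W₂' ≤ W₁ ⊔ W₂'), hA, Subgroup.map_subgroupOf_eq_of_le hle]

end Cfsg.Agent.S1386
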