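import Cfsg.Statements.S1387
import Cfsg.Agent.Lib.Transfer.TypeP

set_option maxHeartbeats 1000000
set_option maxRecDepth 8000

set_option autoImplicit false
open Cfsg

namespace Cfsg.Agent.S1387

/-- Let M be a subgroup of a finite group G with type-P data (W₁, U, W₂) and H = M_F. Then the Fitting subgroup F(M) is generated by H and the centralizer of H in U. -/
theorem result {G : Type*} [Group G] [Finite G] (M W₁ U W₂ : Subgroup G) (hP : Cfsg.IsTypePWith M W₁ U W₂) :
    Cfsg.fittingOf M = Cfsg.fittingHallOf M ⊔ (U ⊓ Subgroup.centralizer (Cfsg.fittingHallOf M : Set G)) := by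
  refine le_antisymm (fun x hx => ?_) (sup_le (Cfsg.Agent.Transfer.TypeP.fittingHallOf_le_fittingOf hP) ?_)
  · obtain ⟨a, ha, b, hb, rfl⟩ := hP.U_compl.2.2.2 x (hP.fitting_le hx)
    have hbF : b ∈ Cfsg.fittingOf M := by
      have := mul_mem (inv_mem (Cfsg.Agent.Transfer.TypeP.fittingHallOf_le_fittingOf hP ha)) hx
      simpa using this
    exact Subgroup.mul_mem_sup ha ⟨hb, Cfsg.Agent.Transfer.TypeP.U_inf_fitting_le hP ⟨hb, hbF⟩⟩
  · intro x hx
    refine hP.fitting_eq.le (Subgroup.mem_sup_right ⟨?_, hx.2⟩)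
    have hM' : ⁅M, M⁆ ≤ M := Subgroup.commutator_le.2 fun a ha b hb =>
      mul_mem (mul_mem (mul_mem ha hb) (inv_mem ha)) (inv_mem hb)
    exact hM' (hP.U_compl.2.1 hx.1)

end Cfsg.Agent.S1387
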