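import Cfsg.Statements.S1388
import Cfsg.Agent.Lib.Transfer.TypeP

set_option maxHeartbeats 1000000
set_option maxRecDepth 8000

set_option autoImplicit false
open Cfsg
open scoped commutatorElement

namespace Cfsg.Agent.S1388

/-- Let M be a subgroup of a finite group G with type-P data (W₁, U, W₂) and H = M_F. Then the derived subgroup of U centralizes H, and if U ≠ 1 then U does not centralize H. -/
theorem result {G : Type*} [Group G] [Finite G] (M W₁ U W₂ : Subgroup G) (hP : Cfsg.IsTypePWith M W₁ U W₂) :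
    ⁅U, U⁆ ≤ Subgroup.centralizer (Cfsg.fittingHallOf M : Set G) ∧ (U ≠ ⊥ → ¬ U ≤ Subgroup.centralizer (Cfsg.fittingHallOf M : Set G)) := by
  constructor
  · have h1 : ⁅U, U⁆ ≤ U ⊓ Cfsg.fittingOf M := by
      refine le_inf (Subgroup.commutator_le.2 fun a ha b hb =>
        mul_mem (mul_mem (mul_mem ha hb) (inv_mem ha)) (inv_mem hb)) ?_
      exact (Subgroup.commutator_mono hP.U_compl.2.1 hP.U_compl.2.1).trans (hP.derived_two_le.trans hP.fitting_eq.le)
    exact h1.trans (Cfsg.Agent.Transfer.TypeP.U_inf_fitting_le hP)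
  · intro hU hc
    have hM' : ⁅M, M⁆ ≤ M := Subgroup.commutator_le.2 fun a ha b hb =>
      mul_mem (mul_mem (mul_mem ha hb) (inv_mem ha)) (inv_mem hb)
    have hF : Cfsg.fittingOf M = ⁅M, M⁆ := by
      refine le_antisymm hP.fitting_le fun x hx => ?_
      obtain ⟨a, ha, b, hb, rfl⟩ := hP.U_compl.2.2.2 x hx
      exact hP.fitting_eq.le (Subgroup.mul_mem_sup ha ⟨hM' (hP.U_compl.2.1 hb), hc hb⟩)
    haveI hNn : (⁅M, M⁆.subgroupOf M).Normal := Subgroup.normal_subgroupOf_of_le_normalizer fun m hm => by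
      have hle : ∀ g ∈ M, ∀ x ∈ ⁅M, M⁆, g * x * g⁻¹ ∈ ⁅M, M⁆ := fun g hg => by
        have h1 : ⁅M, M⁆ ≤ ⁅M, M⁆.comap (MulAut.conj g).toMonoidHom := Subgroup.commutator_le.2 fun a ha b hb => by
          show (MulAut.conj g).toMonoidHom ⁅a, b⁆ ∈ ⁅M, M⁆
          rw [map_commutatorElement]
          exact Subgroup.commutator_mem_commutator (mul_mem (mul_mem hg ha) (inv_mem hg))
            (mul_mem (mul_mem hg hb) (inv_mem hg))
        exact fun x hx => h1 hx
      exact Subgroup.mem_normalizer_iff.2 fun x => ⟨hle m hm x, fun h => by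
        simpa [mul_assoc] using hle m⁻¹ (inv_mem hm) _ h⟩
    have hnil : Group.IsNilpotent ↥(⁅M, M⁆.subgroupOf M) := by
      haveI : Group.IsNilpotent ↥⁅M, M⁆ := by
        rw [← hF]
        haveI := Cfsg.Agent.Grp.fittingSubgroup_isNilpotent (G := M)
        exact Group.nilpotent_of_mulEquiv ((Cfsg.fittingSubgroup M).equivMapOfInjective M.subtype M.subtype_injective)
      exact Group.nilpotent_of_mulEquiv (Subgroup.subgroupOfEquivOfLe hM').symm
    have hcop : (Nat.card ↥(⁅M, M⁆.subgroupOf M)).Coprime (⁅M, M⁆.subgroupOf M).index := by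
      obtain ⟨h1, h2, h3, h4⟩ := hP.W₁_compl
      have hC : Subgroup.IsComplement' (⁅M, M⁆.subgroupOf M) (W₁.subgroupOf M) := by
        refine Subgroup.isComplement'_of_disjoint_and_mul_eq_univ ?_ ?_
        · rw [disjoint_iff, Subgroup.subgroupOf, Subgroup.subgroupOf, ← Subgroup.comap_inf, h3, ← Subgroup.subgroupOf, Subgroup.bot_subgroupOf]
        · refine Set.eq_univ_of_forall fun m => ?_
          obtain ⟨a, ha, b, hb, hm⟩ := h4 m m.2
          exact ⟨⟨a, hM' ha⟩, ha, ⟨b, h2 hb⟩, hb, Subtype.ext hm.symm⟩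
      rw [hC.symm.index_eq_card, Nat.card_congr (Subgroup.subgroupOfEquivOfLe h2).toEquiv, ← hC.index_eq_card]
      exact hP.W₁_hall.symm
    have hle : ⁅M, M⁆ ≤ Cfsg.fittingHallOf M := fun x hx =>
      ⟨⟨x, hM' hx⟩, (le_sSup ⟨hNn, hnil, hcop⟩ : ⁅M, M⁆.subgroupOf M ≤ Cfsg.fittingHall M) hx, rfl⟩
    apply hU
    rw [← le_bot_iff, ← hP.U_compl.2.2.1]
    exact le_inf (hP.U_compl.2.1.trans hle) le_rfl

end Cfsg.Agent.S1388
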