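import Cfsg.Statements.S1389
import Cfsg.Agent.Lib.Transfer.Local.Types
import Cfsg.Agent.S1350

set_option maxHeartbeats 1000000
set_option maxRecDepth 8000

set_option autoImplicit false
open Cfsg

namespace Cfsg.Agent.S1389

open Cfsg.Agent Cfsg.Agent.Transfer Cfsg.Agent.Transfer.Loc Subgroup

/-- Let G be a minimal simple group of odd order and M a maximal subgroup, and let M_s be M' if M is of Type III or IV and M_F otherwise. Then N_G(P) ≤ M for every nontrivial Sylow subgroup P of M_s, and both M_F and M_s have order coprime to their index in G. -/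
theorem result {G : Type*} [Group G] [Finite G] (hG : Cfsg.IsMinSimpleOddOrder G)
    (M : Subgroup G) (hM : IsCoatom M) :
    (∀ (p : ℕ), p.Prime → ∀ (P : Sylow p ↥(Cfsg.typeCore M)), (P : Subgroup ↥(Cfsg.typeCore M)) ≠ ⊥ →
        Subgroup.normalizer ((((P : Subgroup ↥(Cfsg.typeCore M)).map (Cfsg.typeCore M).subtype : Subgroup G)) : Set G) ≤ M) ∧
      (Nat.card (Cfsg.fittingHallOf M)).Coprime (Cfsg.fittingHallOf M).index ∧
      (Nat.card (Cfsg.typeCore M)).Coprime (Cfsg.typeCore M).index := by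
  haveI := solvable_of_ne_top hG hM.1
  rw [typeCore_eq hG hM]
  obtain ⟨hMS, hGS, -⟩ := Cfsg.Agent.S1350.result hG M hM
  have hS : (Nat.card (Cfsg.sigmaCore M)).Coprime (Cfsg.sigmaCore M).index :=
    Nat.coprime_of_dvd fun q hq h1 h2 => hGS.2 q hq (hGS.1 q hq h1) h2
  refine ⟨fun p hp P hP => ?_, ?_, hS⟩
  · haveI := Fact.mk hp
    set P' := (P : Subgroup ↥(Cfsg.sigmaCore M)).map (Cfsg.sigmaCore M).subtype
    have hP' : Grp.IsSylowIn p P' (Cfsg.sigmaCore M) := Grp.isSylowIn_iff.2 ⟨P, rfl⟩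
    have hσ : p ∈ Cfsg.sigma M := hGS.1 p hp
      ((dvd_card_of_pGroup P.isPGroup' hP).trans (card_subgroup_dvd_card _))
    exact (sigma_sylow hG hM hσ (sylowIn_trans hP' hMS.1 (hMS.2.2 p hp hσ))).1
  · have hFS := fittingHallOf_le_sigmaCore hG hM
    have h1 := TypeP.fittingHallOf_coprime M
    rw [← Subgroup.relIndex_mul_relIndex _ _ M hFS hMS.1] at h1
    rw [← Subgroup.relIndex_mul_index hFS]
    exact Nat.Coprime.mul_right (h1.coprime_dvd_right (dvd_mul_right _ _))
      (hS.coprime_dvd_left (Subgroup.card_dvd_of_le hFS))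

end Cfsg.Agent.S1389
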