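import Cfsg.Statements.S1390
import Cfsg.Agent.Lib.Transfer.Local.Types
import Cfsg.Agent.Lib.Transfer.Local.SupportKappa
import Cfsg.Agent.S1358
import Cfsg.Agent.S1361
import Cfsg.Agent.S1362

set_option maxHeartbeats 1000000
set_option maxRecDepth 8000

set_option autoImplicit false
open Cfsg

namespace Cfsg.Agent.S1390

open Cfsg.Agent Cfsg.Agent.Transfer Cfsg.Agent.Transfer.Loc Subgroup
open scoped Pointwise

section
universe u

variable {G : Type u} [Group G] [Finite G]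

/-- Complements of a normal Hall factor are conjugate. -/
theorem compl_conj {N A B W : Subgroup G} [Group.IsSolvable W] (hA : Cfsg.IsComplIn N A W)
    (hB : Cfsg.IsComplIn N B W) (hcop : (Nat.card N).Coprime (Nat.card A)) :
    ∃ m ∈ W, MulAut.conj m • A = B := by
  have hB' : Nat.card B = Nat.card A := (complIn_relIndex hB).1.symm.trans (complIn_relIndex hA).1
  have hW : Nat.card W = Nat.card A * Nat.card N := by
    rw [← Grp.card_mul_relIndex hA.1, (complIn_relIndex hA).1, mul_comm]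
  obtain ⟨g, hg⟩ := Grp.hall_conj (G := W) hW hcop.symm (H := A.subgroupOf W) (K := B.subgroupOf W)
    (Nat.card_congr (Subgroup.subgroupOfEquivOfLe hA.2.1).toEquiv)
    ((Nat.card_congr (Subgroup.subgroupOfEquivOfLe hB.2.1).toEquiv).trans hB')
  refine ⟨g, g.2, Subgroup.eq_of_le_of_card_ge ?_ (by rw [Grp.card_conj_smul, hB'])⟩
  rintro _ ⟨a, ha, rfl⟩
  have h : MulAut.conj g • (⟨a, hA.2.1 ha⟩ : W) ∈ MulAut.conj g • A.subgroupOf W :=
    Subgroup.smul_mem_pointwise_smul _ _ _ ha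
  rw [hg] at h
  exact h

variable (hG : Cfsg.IsMinSimpleOddOrder G) {M : Subgroup G} (hM : IsCoatom M)
include hG hM

/-- Reduction to the standard factorisation. -/
theorem exists_decomp {U : Subgroup G}
    (hU : (Cfsg.IsOfTypeI M ∧ Cfsg.IsComplIn (Cfsg.fittingHallOf M) U M) ∨
      (Cfsg.IsOfTypeII M ∧ Cfsg.IsComplIn (Cfsg.fittingHallOf M) U ⁅M, M⁆)) :
    ∃ K : Subgroup G, Cfsg.IsSigmaDecomposition M K U ∧ Cfsg.fittingHallOf M = Cfsg.sigmaCore M ∧
      Cfsg.typeA M \ Cfsg.typeA1 M = Cfsg.sigmaA M U \ (Cfsg.sigmaCore M : Set G) := by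
  haveI := solvable_of_ne_top hG hM.1
  obtain ⟨K₀, U₀, hKU⟩ := exists_decomp_of_max hG hM
  have hset : ∀ {W : Subgroup G}, W ≤ M →
      {a | a ∈ W ∧ a ≠ 1 ∧ ∃ x ∈ Cfsg.sigmaCore M, x ≠ 1 ∧ a * x = x * a} \ ((↑(Cfsg.sigmaCore M) : Set G) \ {1}) =
        (Cfsg.sigmaHat M ∩ (W : Set G)) \ (Cfsg.sigmaCore M : Set G) := fun {W} hW => by
    ext a
    constructor
    · rintro ⟨⟨ha, ha1, hx⟩, hn⟩
      exact ⟨⟨⟨hW ha, hx⟩, ha⟩, fun h => hn ⟨h, ha1⟩⟩
    · rintro ⟨⟨⟨-, hx⟩, ha⟩, hn⟩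
      exact ⟨⟨ha, fun e => hn (by rw [e]; exact one_mem _), hx⟩, fun h => hn h.1⟩
  rcases hU with ⟨hI, hc⟩ | ⟨hII, hc⟩
  · have hκ := kappa_empty_of_typeF hG hM hI.1
    have hK : K₀ = ⊥ := by
      refine Subgroup.card_eq_one.1 (Nat.eq_one_iff_not_exists_prime_dvd.2 fun q hq hd => ?_)
      have := hKU.hall.2.1 q hq hd
      rw [hκ] at this
      exact this
    have hc₀ : Cfsg.IsComplIn U₀ (Cfsg.sigmaCore M) M := by
      have := hKU.compl
      rwa [hK, bot_sup_eq] at this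
    have hU₀ : U₀ ≠ ⊥ := fun e => (sigmaCore_lt hG hM).ne (by have h := compl_sup hc₀; rwa [e, bot_sup_eq] at h)
    have hF := fittingHallOf_of_U hG hM hKU hU₀
    rw [hF] at hc
    have hc' : Cfsg.IsComplIn (Cfsg.sigmaCore M) U₀ M := by
      refine ⟨hc₀.2.1, hc₀.1, by rw [inf_comm]; exact hc₀.2.2.1, fun m hm => ?_⟩
      rw [← compl_sup hc₀, sup_comm, ← SetLike.mem_coe, Subgroup.coe_mul_of_right_le_normalizer_left _ U₀
        (hc₀.1.trans (sigma_le_normalizer hc₀))] at hm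
      obtain ⟨a, ha, b, hb, e⟩ := hm
      exact ⟨a, ha, b, hb, e.symm⟩
    obtain ⟨m, hm, e⟩ := compl_conj hc' hc (compl_coprime hG hM hc₀).symm
    have hd := decomp_smul hKU hm
    rw [e] at hd
    refine ⟨_, hd, hF, ?_⟩
    have hUM : U ⊔ Cfsg.sigmaCore M = M := by
      refine le_antisymm (sup_le hc.2.1 hc.1) fun x hx => ?_
      obtain ⟨a, ha, b, hb, rfl⟩ := hc.2.2.2 x hx
      exact mul_mem ((le_sup_right : Cfsg.sigmaCore M ≤ U ⊔ _) ha) ((le_sup_left : U ≤ U ⊔ Cfsg.sigmaCore M) hb)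
    unfold Cfsg.typeA Cfsg.typeA1 Cfsg.sigmaA
    rw [if_pos hI, hF, typeCore_eq hG hM, hUM]
    exact hset le_rfl
  · obtain ⟨hK1, hU₀⟩ := (typeII_iff hG hM hKU).1 hII
    have hF := fittingHallOf_of_U hG hM hKU hU₀
    rw [hF] at hc
    obtain ⟨hc', -, -, hcop⟩ := derived_compl hG hM hKU hK1
    haveI : Group.IsSolvable ↥⁅M, M⁆ :=
      solvable_of_ne_top hG (ne_top_of_le_ne_top hM.1 M.commutator_le_self)
    obtain ⟨m, hm, e⟩ := compl_conj hc' hc hcop
    have hd := decomp_smul hKU (M.commutator_le_self hm)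
    rw [e] at hd
    refine ⟨_, hd, hF, ?_⟩
    have hUM : U ⊔ Cfsg.sigmaCore M = ⁅M, M⁆ := by
      refine le_antisymm (sup_le hc.2.1 hc.1) fun x hx => ?_
      obtain ⟨a, ha, b, hb, rfl⟩ := hc.2.2.2 x hx
      exact mul_mem ((le_sup_right : Cfsg.sigmaCore M ≤ U ⊔ _) ha) ((le_sup_left : U ≤ U ⊔ Cfsg.sigmaCore M) hb)
    have hnI : ¬ Cfsg.IsOfTypeI M := fun h => hK1 (by
      refine Subgroup.card_eq_one.1 (Nat.eq_one_iff_not_exists_prime_dvd.2 fun q hq hd => ?_)
      have := hKU.hall.2.1 q hq hd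
      rw [kappa_empty_of_typeF hG hM h.1] at this
      exact this)
    unfold Cfsg.typeA Cfsg.typeA1 Cfsg.sigmaA
    rw [if_neg hnI, typeCore_eq hG hM, hUM]
    exact hset M.commutator_le_self


end

/-- Let G be a minimal simple group of odd order, M a maximal subgroup and H = M_F; suppose M is of Type I and U is a complement to H in M, or M is of Type II and U is a complement to H in M'. Then every Sylow subgroup of U is abelian with no elementary abelian subgroup of order p ^ 3; for every nonempty set X of non-identity elements of U centralizing a non-identity element of H, C_G(X) ≤ M and M is the unique maximal subgroup containing C_G(X); and A(M) with A₁(M) removed is a TI-subset of G. -/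
theorem result {G : Type*} [Group G] [Finite G] (hG : Cfsg.IsMinSimpleOddOrder G)
    (M : Subgroup G) (hM : IsCoatom M) (U : Subgroup G)
    (hU : (Cfsg.IsOfTypeI M ∧ Cfsg.IsComplIn (Cfsg.fittingHallOf M) U M) ∨ (Cfsg.IsOfTypeII M ∧ Cfsg.IsComplIn (Cfsg.fittingHallOf M) U ⁅M, M⁆)) :
    (∀ (p : ℕ), p.Prime → ∀ P : Sylow p U, IsMulCommutative (P : Subgroup U) ∧ Cfsg.PRankLE p 2 (P : Subgroup U)) ∧
      (∀ X : Set G, X ⊆ (U : Set G) \ {1} → X.Nonempty → Cfsg.fittingHallOf M ⊓ Subgroup.centralizer X ≠ ⊥ →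
        Subgroup.centralizer X ≤ M ∧ ∀ L : Subgroup G, IsCoatom L → Subgroup.centralizer X ≤ L → L = M) ∧
      Cfsg.IsTISubset (Cfsg.typeA M \ Cfsg.typeA1 M) := by
  obtain ⟨K, hKU, hF, hA⟩ := exists_decomp hG hM hU
  refine ⟨Cfsg.Agent.S1358.result hG M hM K U hKU, fun X hX hne hc => ?_, ?_⟩
  · have hcl : Subgroup.centralizer ((Subgroup.closure X : Subgroup G) : Set G) = Subgroup.centralizer X :=
      Subgroup.centralizer_closure X
    obtain ⟨x, hx⟩ := hne
    have := Cfsg.Agent.S1361.result hG M hM K U hKU (Subgroup.closure X)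
      ((Subgroup.closure_le U).2 fun y hy => (hX hy).1)
      (fun e => (hX hx).2 (by simpa [e] using Subgroup.subset_closure (k := X) hx))
      (by rw [hcl, ← hF]; exact hc)
    rwa [hcl] at this
  · rw [hA]
    exact Cfsg.Agent.S1362.result hG M hM K U hKU

end Cfsg.Agent.S1390
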