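import Cfsg.Statements.S1391
import Cfsg.Agent.Lib.Transfer.Local.SupportType

set_option maxHeartbeats 1000000

set_option autoImplicit false
open Cfsg

namespace Cfsg.Agent.S1391

open Cfsg.Agent Cfsg.Agent.Transfer Cfsg.Agent.Transfer.Loc Subgroup
open scoped Pointwise

/-- Let G be a minimal simple group of odd order, M a maximal subgroup, X = A(M) or A₀(M), and D the set of x ∈ X with C_G(x) not contained in M. Then two elements of X conjugate in G are conjugate in M; D ⊆ A₁(M) and for x ∈ D the centralizer C_G(x) lies in exactly one maximal subgroup; and for x ∈ D and the maximal subgroup L containing C_G(x): M ∩ L complements L_F in L, C_M(x) complements the normal subgroup C_{L_F}(x) of C_G(x), the order of L_F is coprime to that of C_M(y) for every y ∈ X, x ∈ A(L) but x ∉ A₁(L), L is of Type I or II, and if L is of Type II then M is a Frobenius group with kernel M_F. -/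
theorem result {G : Type*} [Group G] [Finite G] (hG : Cfsg.IsMinSimpleOddOrder G)
    (M : Subgroup G) (hM : IsCoatom M) (X : Set G) (hX : X = Cfsg.typeA M ∨ X = Cfsg.typeA0 M) :
    (∀ x ∈ X, ∀ g : G, g * x * g⁻¹ ∈ X → ∃ m ∈ M, m * x * m⁻¹ = g * x * g⁻¹) ∧
      (∀ x ∈ X, ¬ Subgroup.centralizer ({x} : Set G) ≤ M → x ∈ Cfsg.typeA1 M ∧ ∃! L : Subgroup G, IsCoatom L ∧ Subgroup.centralizer ({x} : Set G) ≤ L) ∧
      ∀ x ∈ X, ¬ Subgroup.centralizer ({x} : Set G) ≤ M → ∀ L : Subgroup G, IsCoatom L → Subgroup.centralizer ({x} : Set G) ≤ L →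
        Cfsg.IsComplIn (Cfsg.fittingHallOf L) (M ⊓ L) L ∧
        Subgroup.centralizer ({x} : Set G) ≤ Subgroup.normalizer ((Cfsg.fittingHallOf L ⊓ Subgroup.centralizer ({x} : Set G) : Subgroup G) : Set G) ∧
        Cfsg.IsComplIn (Cfsg.fittingHallOf L ⊓ Subgroup.centralizer ({x} : Set G)) (M ⊓ Subgroup.centralizer ({x} : Set G)) (Subgroup.centralizer ({x} : Set G)) ∧
        (∀ y ∈ X, (Nat.card (Cfsg.fittingHallOf L)).Coprime (Nat.card ↥(M ⊓ Subgroup.centralizer ({y} : Set G)))) ∧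
        (x ∈ Cfsg.typeA L ∧ x ∉ Cfsg.typeA1 L) ∧
        (Cfsg.IsOfTypeI L ∨ Cfsg.IsOfTypeII L) ∧
        (Cfsg.IsOfTypeII L → ∃ E : Subgroup ↥M, Cfsg.IsFrobeniusComplement E ∧ Cfsg.frobeniusKernel E = ((Cfsg.fittingHall ↥M : Subgroup ↥M) : Set ↥M)) := by
  haveI := solvable_of_ne_top hG hM.1
  obtain ⟨K, U, hKU⟩ := exists_decomp_of_max hG hM
  obtain ⟨-, h1X, -, hsub⟩ := Char.TypeSet.sets_basic hG hM (A := X) (Or.inr hX)
  have hX0 : ∀ x ∈ X, x ∈ Cfsg.sigmaA0 M K ∧ x ≠ 1 := fun x hx =>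
    ⟨Char.TypeSet.typeA0_subset hG hM hKU (hsub hx), fun e => h1X (e ▸ hx)⟩
  refine ⟨fun x hx g hg => Char.TypeSet.fusion hG hM hKU (hX0 x hx).1 (hX0 x hx).2 (hX0 _ hg).1,
    fun x hx hC => ?_, fun x hx hC L hL hxL => ?_⟩
  · have hxS := Char.TypeSet.core_of_not_le hG hM hKU (hX0 x hx).1 hC
    obtain ⟨N, hN, huniq, -, -, -⟩ := support_unique hG hM hxS (hX0 x hx).2 hC
    exact ⟨⟨(typeCore_eq hG hM).ge hxS, (hX0 x hx).2⟩, N, ⟨hN.hN, hN.le⟩, fun L hL => huniq L hL.1 hL.2⟩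
  have hxS := Char.TypeSet.core_of_not_le hG hM hKU (hX0 x hx).1 hC
  have hx1 := (hX0 x hx).2
  obtain ⟨N, hN, huniq, -, hhat, hτ⟩ := support_unique hG hM hxS hx1 hC
  obtain rfl : L = N := huniq L hL hxL
  obtain ⟨hA, htype, -⟩ := tau2_hat_type hG hL hx1 hhat hτ
  obtain ⟨-, hnorm, hcompC, -⟩ := hN.facts hG hM
  have hswap : ∀ {A B C : Subgroup G}, Cfsg.IsComplIn A B C → C ≤ normalizer (B : Set G) → Cfsg.IsComplIn B A C := by
    intro A B C h hn
    refine ⟨h.2.1, h.1, (inf_comm _ _).trans h.2.2.1, fun c hc => ?_⟩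
    obtain ⟨a, ha, b, hb, rfl⟩ := h.2.2.2 c hc
    exact ⟨a * b * a⁻¹, Grp.mem_conj_normalizer (hn (h.1 ha)) hb, a, ha, by group⟩
  rw [hN.fhall]
  refine ⟨hswap hN.compl (TransHyp.le_normalizer_piCoreOf L), hnorm,
    hswap (hcompC (TransHyp.piCoreOf_le M hxS)) hnorm,
    fun y hy => support_coprime hG hM hxS hx1 hC hN (hX0 y hy).1 (hX0 y hy).2, hA, htype, fun hII => ?_⟩
  obtain ⟨K', U', hKU'⟩ := exists_decomp_of_max hG hL
  have hK' := ((typeII_iff hG hL hKU').1 hII).1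
  have hκL : (Cfsg.kappa L).Nonempty := by
    obtain ⟨q, hq, hqd⟩ := Nat.exists_prime_and_dvd fun e => hK' (Subgroup.card_eq_one.1 e)
    exact ⟨q, hKU'.hall.2.1 q hq hqd⟩
  obtain ⟨hκ, hτM, E, hE, -⟩ := support_frobenius hG hM hxS hx1 hC hL hxL hκL
  have hF : Cfsg.fittingHall M = (Cfsg.sigmaCore M).subgroupOf M := by
    refine Subgroup.map_injective M.subtype_injective ?_
    rw [Subgroup.map_subgroupOf_eq_of_le hE.2.1]
    exact fittingHallOf_eq_sigmaCore hG hM (sigmaCore_nilpotent_of_kappa_empty hG hM hκ)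
  have hE1 : E ≠ ⊥ := fun e => by
    have h1 := compl_sup hE
    rw [e, bot_sup_eq] at h1
    exact (sigmaCore_lt hG hM).ne h1
  obtain ⟨hfc, hker⟩ := frobenius_of_free hE (TransHyp.le_normalizer_piCoreOf M) hE1 (sigmaCore_ne_bot hG hM)
    fun e he he1 => by
      by_contra hne
      obtain ⟨q, hq, hqd⟩ := Nat.exists_prime_and_dvd fun e' => he1 (orderOf_eq_one_iff.1 e')
      rcases fixed_primes_cases hG hM (hE.1 he) he1 (fun t ht hd => compl_prime hG hM hE ht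
          (hd.trans (Subgroup.orderOf_dvd_natCard _ he))) hne with h | h
      · exact (hκ ▸ h q hq hqd :)
      · exact (hτM ▸ h q hq hqd :)
  exact ⟨E.subgroupOf M, hfc, hF.symm ▸ hker⟩

end Cfsg.Agent.S1391
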