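import Cfsg.Statements.S1398
import Mathlib
import Cfsg.Agent.Lib.Transfer.Local.Uniqueness

set_option maxHeartbeats 1000000
set_option maxRecDepth 8000

set_option autoImplicit false
open Cfsg

namespace Cfsg.Agent.S1398

open Subgroup
open Transfer

/-- Let G be a minimal simple group of odd order, M a maximal subgroup, p a prime, and B a noncyclic elementary abelian p-subgroup of M. If C_G(b) ≤ M for every non-identity b ∈ B, or if every subgroup of G of order coprime to p normalized by B is contained in M, then M is the only maximal subgroup of G containing B. -/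
theorem result {G : Type*} [Group G] [Finite G] (hG : Cfsg.IsMinSimpleOddOrder G)
    (M : Subgroup G) (hM : IsCoatom M) (p : ℕ) [Fact p.Prime] (B : Subgroup G) (hBM : B ≤ M)
    (hBe : Cfsg.IsElementaryAbelian p B) (hBnc : ¬ IsCyclic B)
    (h : (∀ b ∈ B, b ≠ 1 → Subgroup.centralizer ({b} : Set G) ≤ M) ∨
      ∀ Y ∈ Cfsg.invSubgroups ⊤ B (Cfsg.primesNotDvd p), Y ≤ M) :
    Cfsg.InUniqueMaximal B := by

  have hp : p.Prime := Fact.out
  have hBp : IsPGroup p B := fun a => ⟨1, Subtype.ext (by rw [coe_pow, coe_one, pow_one]; exact hBe.2 a a.2)⟩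
  have hB1 : B ≠ ⊥ := by rintro rfl; exact hBnc inferInstance
  have hB2 : p ^ 2 ≤ Nat.card B := by
    obtain ⟨n, hn⟩ := IsPGroup.iff_card.1 hBp
    rw [hn]
    refine Nat.pow_le_pow_right hp.pos ?_
    by_contra hlt
    interval_cases n
    · exact hB1 (Subgroup.card_eq_one.1 (by simpa using hn))
    · exact hBnc (isCyclic_of_prime_card (p := p) (by simpa using hn))
  refine Loc.inUniqueMaximal hG hM hBM hBp hB1 ?_
  rcases h with h | h
  · exact Loc.normed_of_centralizers hG hBe hB2 h
  · intro Y hBY hY
    exact h Y ⟨le_top, fun r hr hd => ⟨hr, fun hrp => hr.ne_one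
      (Nat.eq_one_of_dvd_coprimes hY hd hrp)⟩, hBY⟩

end Cfsg.Agent.S1398
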