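import Cfsg.Statements.S1399
import Mathlib
import Cfsg.Agent.Lib.Transfer.Local.Uniqueness

set_option maxHeartbeats 1000000
set_option maxRecDepth 8000

set_option autoImplicit false
open Cfsg

namespace Cfsg.Agent.S1399

open Subgroup
open Transfer

/-- Let G be a minimal simple group of odd order, L a subgroup contained in exactly one maximal subgroup of G, and K a subgroup of C_G(L) having, for some prime p, an elementary abelian subgroup of order p ^ 2. Then K is contained in exactly one maximal subgroup of G. -/
theorem result {G : Type*} [Group G] [Finite G] (hG : Cfsg.IsMinSimpleOddOrder G)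
    (L K : Subgroup G) (hL : Cfsg.InUniqueMaximal L) (hK : K ≤ Subgroup.centralizer (L : Set G)) (hKr : ¬ Cfsg.RankLE 1 K) :
    Cfsg.InUniqueMaximal K := by

  obtain ⟨p, hp, hr⟩ : ∃ p : ℕ, p.Prime ∧ ¬ Cfsg.PRankLE p 1 K := by
    unfold Cfsg.RankLE at hKr; push Not at hKr; exact hKr
  haveI := Fact.mk hp
  obtain ⟨E, hEK, hE, hE2⟩ := Loc.exists_elem_of_not_prank (n := 1) hr
  exact Loc.u_of_centralizes hG hL hK hEK hE hE2

end Cfsg.Agent.S1399
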