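import Cfsg.Statements.S1400
import Mathlib
import Cfsg.Agent.Lib.Transfer.Local.Uniqueness

set_option maxHeartbeats 1000000
set_option maxRecDepth 8000

set_option autoImplicit false
open Cfsg

namespace Cfsg.Agent.S1400

open Subgroup
open Transfer

/-- Let G be a minimal simple group of odd order, p a prime, A an abelian p-subgroup containing an elementary abelian subgroup of order p ^ 3 and lying in exactly one maximal subgroup, and B a noncyclic p-subgroup whose centralizer contains an elementary abelian subgroup of order p ^ 3. Then B lies in exactly one maximal subgroup of G. -/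
theorem result {G : Type*} [Group G] [Finite G] (hG : Cfsg.IsMinSimpleOddOrder G)
    (p : ℕ) [Fact p.Prime] (A B : Subgroup G) (hAp : IsPGroup p A) (hAc : IsMulCommutative A) (hA3 : ¬ Cfsg.PRankLE p 2 ↥A)
    (hAU : Cfsg.InUniqueMaximal A) (hBp : IsPGroup p B) (hBnc : ¬ IsCyclic B) (hB3 : ¬ Cfsg.PRankLE p 2 ↥(Subgroup.centralizer (B : Set G))) :
    Cfsg.InUniqueMaximal B := by

  have hp : p.Prime := Fact.out
  obtain ⟨E, hEA, hE, hE3⟩ := Loc.exists_elem_of_not_prank (n := 2) hA3
  obtain ⟨F, hFC, hF, hF3⟩ := Loc.exists_elem_of_not_prank (n := 2) hB3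
  have hEU := (Loc.u_abelian_iff hG hAp hAc hEA hE ((Nat.pow_le_pow_right hp.pos (by norm_num)).trans hE3)).1 hAU
  have hFU := Loc.u_rank_three hG hEU hE hE3 hF hF3
  have hp2 : p ≠ 2 := by
    refine Loc.ne_two hG ?_
    obtain ⟨n, hn⟩ := IsPGroup.iff_card.1 hBp
    rcases Nat.eq_zero_or_pos n with rfl | h0
    · exact absurd ((Subgroup.card_eq_one.1 (by simpa using hn)) ▸ (inferInstance : IsCyclic (⊥ : Subgroup G))) hBnc
    · exact ((dvd_pow_self p h0.ne').trans (dvd_of_eq hn.symm)).trans (card_subgroup_dvd_card B)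
  obtain ⟨E₂, hE₂B, hE₂, hE₂2⟩ := Loc.exists_elem_of_not_prank (n := 1) (Loc.not_prank_one_of_not_cyclic hG hp2 hBp hBnc)
  exact Loc.u_of_centralizes hG hFU (le_centralizer_iff.1 hFC) hE₂B hE₂ hE₂2

end Cfsg.Agent.S1400
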