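import Cfsg.Statements.S1405
import Cfsg.Agent.Lib.Transfer.Local.Sigma

set_option maxHeartbeats 1000000
set_option maxRecDepth 8000

set_option autoImplicit false
open Cfsg

namespace Cfsg.Agent.S1405

/-- Let G be a minimal simple group of odd order and M a maximal subgroup, α(M) the set of primes p with M of p-rank at least 3, and M_α = O_{α(M)}(M). Then M_α is a Hall α(M)-subgroup of M and of G, M_α ≤ M_σ, the quotient M/M_α has no elementary abelian subgroup of order p ^ 3 for any prime p, and the image of M' in M/M_α is nilpotent. -/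
theorem result {G : Type*} [Group G] [Finite G] (hG : Cfsg.IsMinSimpleOddOrder G)
    (M : Subgroup G) (hM : IsCoatom M) :
    Cfsg.IsPiHallOf (Cfsg.alpha M) (Cfsg.alphaCore M) M ∧ Cfsg.IsPiHall (Cfsg.alpha M) (Cfsg.alphaCore M) ∧
      Cfsg.alphaCore M ≤ Cfsg.sigmaCore M ∧ Cfsg.RankLE 2 (↥M ⧸ Cfsg.piCore (Cfsg.alpha M) ↥M) ∧
      Group.IsNilpotent ↥((commutator ↥M).map (QuotientGroup.mk' (Cfsg.piCore (Cfsg.alpha M) ↥M))) := by

  have h1 := Cfsg.Agent.Transfer.Loc.alpha_subset_sigma hG hM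
  refine ⟨Cfsg.Agent.Transfer.Loc.isPiHallOf_piCore hG hM le_rfl h1, Cfsg.Agent.Transfer.Loc.isPiHall_piCore hG hM le_rfl h1,
    Cfsg.Agent.Transfer.Loc.alphaCore_le_sigmaCore hG hM,
    Cfsg.Agent.Transfer.Loc.rankLE_quotient_piCore hG hM le_rfl h1, ?_⟩
  have h := Cfsg.Agent.Transfer.Loc.derived_quotient_nilpotent hG hM (π := Cfsg.alpha M) le_rfl
  rwa [_root_.commutator_def, Subgroup.map_commutator, ← MonoidHom.range_eq_map, QuotientGroup.range_mk', ← _root_.commutator_def]

end Cfsg.Agent.S1405
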