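import Cfsg.Statements.S1413
import Mathlib
import Cfsg.Agent.Lib.Transfer.Local.SylowFusion

set_option maxHeartbeats 1000000
set_option maxRecDepth 8000

set_option autoImplicit false
open Cfsg

namespace Cfsg.Agent.S1413

open Transfer Subgroup
open scoped Pointwise

/-- Let G be a minimal simple group of odd order, p a prime and P a Sylow p-subgroup. (c) If Q ≤ P and xQx⁻¹ ≤ P then xQx⁻¹ = yQy⁻¹ for some y ∈ N_G(P). (d) For every Q ≤ P, p does not divide the index of N_P(Q) in N_G(Q). (e) If R is a p-subgroup and Q ≤ P ∩ R is normal in N_G(P), then Q is normal in N_G(R). -/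
theorem result {G : Type*} [Group G] [Finite G] (hG : Cfsg.IsMinSimpleOddOrder G) (p : ℕ) [Fact p.Prime] (P : Sylow p G) :
    (∀ (Q : Subgroup G) (x : G), Q ≤ (P : Subgroup G) → Q.map (MulAut.conj x).toMonoidHom ≤ (P : Subgroup G) →
        ∃ y ∈ Subgroup.normalizer ((P : Subgroup G) : Set G), Q.map (MulAut.conj x).toMonoidHom = Q.map (MulAut.conj y).toMonoidHom) ∧
      (∀ Q : Subgroup G, Q ≤ (P : Subgroup G) →
        ¬ p ∣ ((P : Subgroup G) ⊓ Subgroup.normalizer (Q : Set G)).relIndex (Subgroup.normalizer (Q : Set G))) ∧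
      (∀ (R Q : Subgroup G), IsPGroup p R → Q ≤ (P : Subgroup G) ⊓ R →
        Subgroup.normalizer ((P : Subgroup G) : Set G) ≤ Subgroup.normalizer (Q : Set G) →
        Subgroup.normalizer (R : Set G) ≤ Subgroup.normalizer (Q : Set G)) := by

  have hconv : ∀ (x : G) (Q : Subgroup G), Q.map (MulAut.conj x).toMonoidHom = MulAut.conj x • Q :=
    fun x Q => Cfsg.Agent.Grp.map_conj_eq_smul Q x
  refine ⟨fun Q x hQ hx => ?_, fun Q hQ => ?_, fun R Q hR hQR hN => ?_⟩
  · rw [hconv] at hx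
    obtain ⟨y, hy, e⟩ := Loc.sylow_conj hG P hQ hx
    exact ⟨y, hy, by rw [hconv, hconv]; exact e⟩
  · set NQ := Subgroup.normalizer (Q : Set G) with hNQ
    have hp' : IsPGroup p ↥((P : Subgroup G) ⊓ NQ) := P.isPGroup'.to_le inf_le_left
    obtain ⟨T, hT, -, hPT⟩ := Cfsg.Agent.Grp.exists_invariant_sylow_ge ⊥ NQ bot_le (by simp)
      (Or.inl inferInstance) inf_le_right hp' bot_le
    obtain ⟨T', hTT'⟩ := hT.2.1.exists_le_sylow
    obtain ⟨x, hx⟩ := MulAction.exists_smul_eq G T' P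
    have hxT : MulAut.conj x • T ≤ (P : Subgroup G) := by
      rw [← hx]
      exact Subgroup.pointwise_smul_le_pointwise_smul_iff.2 hTT'
    have hQT : Q ≤ T := (le_inf hQ Subgroup.le_normalizer).trans hPT
    obtain ⟨y, hy, e⟩ := Loc.sylow_conj hG P hQ ((Subgroup.pointwise_smul_le_pointwise_smul_iff.2 hQT).trans hxT)
    have hn : y⁻¹ * x ∈ NQ := by
      rw [hNQ, Cfsg.Agent.Grp.mem_normalizer_iff_smul, ← Cfsg.Agent.Grp.conj_smul_conj_smul, e,
        Cfsg.Agent.Grp.conj_smul_conj_smul, inv_mul_cancel, map_one, one_smul]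
    have hle : MulAut.conj (y⁻¹ * x) • T ≤ (P : Subgroup G) ⊓ NQ := by
      refine le_inf ?_ ?_
      · rw [← Cfsg.Agent.Grp.conj_smul_conj_smul]
        refine (Subgroup.pointwise_smul_le_pointwise_smul_iff.2 hxT).trans (le_of_eq ?_)
        exact Cfsg.Agent.Grp.mem_normalizer_iff_smul.1 (Subgroup.inv_mem _ hy)
      · refine (Subgroup.pointwise_smul_le_pointwise_smul_iff.2 hT.1).trans (le_of_eq ?_)
        exact Cfsg.Agent.Grp.conj_smul_eq_self_of_mem hn
    have hTe : (P : Subgroup G) ⊓ NQ = T := Subgroup.eq_of_le_of_card_ge hPT (by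
      rw [← Cfsg.Agent.Grp.card_conj_smul (y⁻¹ * x) T]
      exact Nat.le_of_dvd Nat.card_pos (Subgroup.card_dvd_of_le hle))
    rw [hTe]
    exact hT.2.2
  · intro n hn
    obtain ⟨P', hRP'⟩ := hR.exists_le_sylow
    obtain ⟨z, hz⟩ := MulAction.exists_smul_eq G P' P
    have hzR : MulAut.conj z • R ≤ (P : Subgroup G) := by
      rw [← hz]; exact Subgroup.pointwise_smul_le_pointwise_smul_iff.2 hRP'
    have hQP : Q ≤ (P : Subgroup G) := hQR.trans inf_le_left
    have h1 := Loc.sylow_weakly_closed hG P hQP hN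
      ((Subgroup.pointwise_smul_le_pointwise_smul_iff.2 (hQR.trans inf_le_right)).trans hzR)
    have h2 := Loc.sylow_weakly_closed hG P hQP hN (x := z * n) (by
      rw [← Cfsg.Agent.Grp.conj_smul_conj_smul]
      refine (Subgroup.pointwise_smul_le_pointwise_smul_iff.2 ?_).trans hzR
      exact (Subgroup.pointwise_smul_le_pointwise_smul_iff.2 (hQR.trans inf_le_right)).trans
        (Cfsg.Agent.Grp.mem_normalizer_iff_smul.1 hn).le)
    rw [Cfsg.Agent.Grp.mem_normalizer_iff_smul]
    rw [← Cfsg.Agent.Grp.conj_smul_conj_smul] at h2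
    exact MulAction.injective (MulAut.conj z) (h2.trans h1.symm)

end Cfsg.Agent.S1413
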