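import Cfsg.Statements.S1427
import Cfsg.Agent.Lib.Transfer.Local.TauOneBasics

set_option maxHeartbeats 1000000
set_option maxRecDepth 8000

set_option autoImplicit false
open Cfsg

namespace Cfsg.Agent.S1427

open scoped Pointwise
open Subgroup Transfer Transfer.Loc

/-- Let G be a minimal simple group of odd order, M a maximal subgroup, E a complement to M_σ in M, and S a nontrivial cyclic Sylow subgroup of E (for some prime). Then M_σ ∩ C_G(x) = M_σ ∩ C_G(S) for every non-identity x ∈ S. -/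
theorem result {G : Type*} [Group G] [Finite G] (hG : Cfsg.IsMinSimpleOddOrder G)
    (M : Subgroup G) (hM : IsCoatom M) (E : Subgroup G) (hE : Cfsg.IsComplIn E (Cfsg.sigmaCore M) M) (p : ℕ) [Fact p.Prime] (S : Sylow p E) (hS1 : (S : Subgroup E) ≠ ⊥) (hSc : IsCyclic (S : Subgroup E)) :
    ∀ x ∈ (S : Subgroup E).map E.subtype, x ≠ 1 →
        Cfsg.sigmaCore M ⊓ Subgroup.centralizer ({x} : Set G) = Cfsg.sigmaCore M ⊓ Subgroup.centralizer (((S : Subgroup E).map E.subtype : Subgroup G) : Set G) := by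

  haveI := solvable_of_ne_top hG hM.1
  intro x hx hx1
  obtain ⟨T, hT⟩ : ∃ T, T = (S : Subgroup E).map E.subtype := ⟨_, rfl⟩
  rw [← hT] at hx ⊢
  have hTE : Grp.IsSylowIn p T E := Grp.isSylowIn_iff.2 ⟨S, hT.symm⟩
  haveI hTc : IsCyclic T := hT ▸ (haveI := hSc; isCyclic_of_surjective _
    ((S : Subgroup E).equivMapOfInjective E.subtype E.subtype_injective).surjective)
  have hpE : p ∣ Nat.card E := (dvd_card_of_pGroup S.isPGroup' hS1).trans (card_subgroup_dvd_card _)
  have hpσ := compl_prime hG hM hE (Fact.out : p.Prime) hpE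
  have hTM := compl_sylow hG hM hE hpE hTE
  have hr : Cfsg.PRankLE p 1 M := by
    by_contra h
    obtain ⟨B, hBM, hB, hB2⟩ := exists_elem_of_not_prank h
    obtain ⟨U, hU, hBU⟩ := exists_sylowIn_ge hBM (Grp.elemAb_isPGroup hB)
    obtain ⟨k, -, e⟩ := hU.conj hTM
    have hle : MulAut.conj k • B ≤ T := e ▸ Subgroup.pointwise_smul_le_pointwise_smul_iff.2 hBU
    have hc : IsCyclic ↥(MulAut.conj k • B) := isCyclic_of_injective (inclusion hle) (inclusion_injective hle)
    have h1 := card_le_prime_of_cyclic (p := p) hc (by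
      rintro _ ⟨b, hb, rfl⟩
      show MulAut.conj k b ^ p = 1
      rw [← map_pow, hB.2 b hb, map_one])
    rw [Grp.card_conj_smul] at h1
    have h2 := hB2.trans h1
    rw [show (1 + 1 : ℕ) = 2 from rfl] at h2
    exact absurd h2 (by have := (Fact.out : p.Prime).two_le; nlinarith)
  obtain ⟨n, hn⟩ := IsPGroup.iff_card.1 (hTE.2.1.to_le (zpowers_le.2 hx))
  have hn0 : n ≠ 0 := fun e => hx1 (by
    rw [e, pow_zero] at hn
    exact orderOf_eq_one_iff.1 ((Nat.card_zpowers x).symm.trans hn))
  obtain ⟨z, hz⟩ := exists_prime_orderOf_dvd_card' (G := zpowers x) p (hn ▸ dvd_pow_self p hn0)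
  have hzx : zpowers (z : G) ≤ zpowers x := zpowers_le.2 z.2
  have hC := prime_action hG hM hpσ hr hTE.2.1 hTM.1 (hzx.trans (zpowers_le.2 hx))
    (by rw [Nat.card_zpowers, Subgroup.orderOf_coe, hz])
  refine le_antisymm (le_inf inf_le_left ((le_inf inf_le_left (inf_le_right.trans ?_)).trans hC))
    (inf_le_inf_left _ (Subgroup.centralizer_le (Set.singleton_subset_iff.2 hx)))
  rw [← centralizer_closure, ← zpowers_eq_closure]
  exact Subgroup.centralizer_le hzx

end Cfsg.Agent.S1427
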