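import Cfsg.Statements.S1429
import Cfsg.Agent.Lib.Transfer.Local.TauOneBasics

set_option maxHeartbeats 1000000
set_option maxRecDepth 8000

set_option autoImplicit false
open Cfsg

namespace Cfsg.Agent.S1429

open scoped Pointwise
open Subgroup Transfer Transfer.Loc

/-- Let G be a minimal simple group of odd order and M a maximal subgroup such that κ(M) is not the whole of the primes of M outside σ(M) (M is not of type P₁). Let p divide the order of M with p ∉ σ(M) ∪ κ(M), S a Sylow p-subgroup of M, and A the subgroup generated by the elements of S of order dividing p. Then A has order at most p ^ 2, M_σ ∩ C_G(A) = 1, and M_σ is nilpotent. -/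
theorem result {G : Type*} [Group G] [Finite G] (hG : Cfsg.IsMinSimpleOddOrder G)
    (M : Subgroup G) (hM : IsCoatom M) (hP1 : ¬ (∀ q : ℕ, q.Prime → q ∣ Nat.card M → q ∉ Cfsg.sigma M → q ∈ Cfsg.kappa M))
    (p : ℕ) [Fact p.Prime] (hpM : p ∣ Nat.card M) (hp : p ∉ Cfsg.sigma M ∪ Cfsg.kappa M) (S : Sylow p M) :
    Nat.card ↥(Subgroup.closure {x : G | x ∈ (S : Subgroup M).map M.subtype ∧ x ^ p = 1}) ≤ p ^ 2 ∧
      Cfsg.sigmaCore M ⊓ Subgroup.centralizer ((Subgroup.closure {x : G | x ∈ (S : Subgroup M).map M.subtype ∧ x ^ p = 1} : Subgroup G) : Set G) = ⊥ ∧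
      Group.IsNilpotent (Cfsg.sigmaCore M) := by

  haveI := solvable_of_ne_top hG hM.1
  obtain ⟨T, hT⟩ : ∃ T, T = (S : Subgroup M).map M.subtype := ⟨_, rfl⟩
  rw [← hT]
  have hTM : Grp.IsSylowIn p T M := Grp.isSylowIn_iff.2 ⟨S, hT.symm⟩
  have hpσ : p ∉ Cfsg.sigma M := fun h => hp (Or.inl h)
  have hpκ : p ∉ Cfsg.kappa M := fun h => hp (Or.inr h)
  obtain ⟨A, hA⟩ : ∃ A, A = closure {x : G | x ∈ T ∧ x ^ p = 1} := ⟨_, rfl⟩
  rw [← hA]
  by_cases hr : Cfsg.PRankLE p 1 M
  · have hTc := cyclic_of_rank_one hG hTM.2.1 hTM.1 hr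
    obtain ⟨z, hz⟩ := exists_prime_orderOf_dvd_card' (G := T) p
      (dvd_card_of_pGroup hTM.2.1 (sylow_ne_bot_of_dvd hTM hpM))
    obtain ⟨Z, hZ⟩ : ∃ Z, Z = zpowers (z : G) := ⟨_, rfl⟩
    have hZc : Nat.card Z = p := by rw [hZ, Nat.card_zpowers, Subgroup.orderOf_coe, hz]
    have hZT : Z ≤ T := hZ ▸ zpowers_le.2 z.2
    have hzp : (z : G) ^ p = 1 := by rw [← hz, ← Subgroup.orderOf_coe]; exact pow_orderOf_eq_one _
    have hAZ : A = Z := by
      refine le_antisymm (hA ▸ (closure_le Z).2 ?_) (hZ ▸ zpowers_le.2 (hA ▸ subset_closure ⟨z.2, hzp⟩))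
      rintro x ⟨hx, hxp⟩
      rcases eq_or_ne x 1 with rfl | hx1
      · exact one_mem _
      rw [← eq_of_card_cyclic hTc (zpowers_le.2 hx) hZT (by rw [Nat.card_zpowers, hZc, orderOf_eq_prime hxp hx1])]
      exact mem_zpowers x
    -- a Sylow subgroup without fixed points
    have hfree : ∃ P : Sylow p M, ∀ x : M, x ∈ (P : Subgroup M) → x ≠ 1 →
        ∀ y ∈ Cfsg.sigmaCore M, y ≠ 1 → (x : G) * y ≠ y * x := by
      by_contra h
      push Not at h
      refine hpκ ⟨(Fact.out : p.Prime), hpM, hpσ, fun P => ⟨?_, h P⟩⟩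
      haveI := cyclic_of_rank_one hG (P.isPGroup'.map M.subtype) (map_subtype_le _) hr
      exact isCyclic_of_surjective _
        ((P : Subgroup M).equivMapOfInjective M.subtype M.subtype_injective).symm.surjective
    obtain ⟨P, hP⟩ := hfree
    obtain ⟨k, hk, e⟩ := hTM.conj (Grp.isSylowIn_iff.2 ⟨P, rfl⟩ : Grp.IsSylowIn p ((P : Subgroup M).map M.subtype) M)
    have hfix : Cfsg.sigmaCore M ⊓ centralizer ({(z : G)} : Set G) = ⊥ := by
      rw [eq_bot_iff]
      intro y hy
      rw [mem_bot]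
      by_contra hy1
      have hmem : MulAut.conj k (z : G) ∈ (P : Subgroup M).map M.subtype := e ▸ mem_map_of_mem _ z.2
      obtain ⟨x, hx, hxk⟩ := hmem
      have hxk' : (x : G) = MulAut.conj k (z : G) := hxk
      refine hP x hx ?_ (MulAut.conj k y)
        ((Subgroup.mem_normalizer_iff.1 (TransHyp.le_normalizer_piCoreOf M hk) y).1 hy.1) ?_ ?_
      · intro hx1
        rw [hx1, OneMemClass.coe_one] at hxk'
        have : (z : G) = 1 := (MulAut.conj k).injective (by rw [← hxk', map_one])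
        rw [← Subgroup.orderOf_coe, this, orderOf_one] at hz
        exact (Fact.out : p.Prime).ne_one hz.symm
      · exact fun h1 => hy1 ((MulAut.conj k).injective (by rw [h1, map_one]))
      · rw [hxk', ← map_mul, ← map_mul, (mem_centralizer_singleton_iff.1 hy.2)]
    refine ⟨?_, ?_, Grp.isNilpotent_of_fpf hzp (TransHyp.le_normalizer_piCoreOf M (hTM.1 z.2)) hfix⟩
    · rw [hAZ, hZc]; exact Nat.le_self_pow two_ne_zero p
    · rw [hAZ, hZ, zpowers_eq_closure, centralizer_closure]; exact hfix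
  · have hτ : p ∈ Cfsg.tau2 M := ⟨(Fact.out : p.Prime), hpσ, by
      by_contra h; exact hpσ (alpha_subset_sigma hG hM ⟨(Fact.out : p.Prime), h⟩), hr⟩
    obtain ⟨B, hBT, hB, hB2⟩ := exists_elem_sylow hr hTM
    have hB2' : Nat.card B = p ^ 2 := by
      refine le_antisymm ?_ hB2
      haveI := hB.1
      have := hτ.2.2.1 (B.subgroupOf M) inferInstance fun a ha => Subtype.ext (hB.2 _ ha)
      rwa [Nat.card_congr (subgroupOfEquivOfLe (hBT.trans hTM.1)).toEquiv] at this
    obtain ⟨hnil, hS, -, hfix, -⟩ := Cfsg.Agent.S1417.result hG M hM p hτ B ⟨hBT.trans hTM.1, hB, hB2'⟩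
    have hmem := ((hS S).2 (hT ▸ hBT)).1
    rw [← hT] at hmem
    have hAB : A = B := le_antisymm (hA ▸ (closure_le B).2 fun x hx => (hmem x hx.1).1 hx.2)
      fun b hb => hA ▸ subset_closure ⟨hBT hb, hB.2 b hb⟩
    rw [hAB]
    exact ⟨hB2'.le, hfix, hnil⟩

end Cfsg.Agent.S1429
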