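import Cfsg.Statements.S1433
import Cfsg.Agent.Lib.Transfer.Local.SigmaTilde

set_option maxHeartbeats 1000000
set_option maxRecDepth 8000

set_option autoImplicit false
open Cfsg

namespace Cfsg.Agent.S1433

open Cfsg.Agent Cfsg.Agent.Transfer Cfsg.Agent.Transfer.Loc Subgroup
open scoped Pointwise

/-- Let G be a minimal simple group of odd order, M and N maximal subgroups, x ≠ 1 in M_σ and y ≠ 1 in N_σ with x ≠ y, where R(x) = 1 if C_G(x) ≤ M and R(x) = C_{L_F}(x) for the unique maximal L containing C_G(x) otherwise (and likewise R(y) relative to N). Then no element lies in both x R(x) and y R(y). -/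
theorem result {G : Type*} [Group G] [Finite G] (hG : Cfsg.IsMinSimpleOddOrder G)
    (M N : Subgroup G) (hM : IsCoatom M) (hN : IsCoatom N) (x y : G) (hx : x ∈ Cfsg.sigmaCore M) (hy : y ∈ Cfsg.sigmaCore N)
    (hx1 : x ≠ 1) (hy1 : y ≠ 1) (hxy : x ≠ y) :
    ∀ r ∈ Cfsg.supportR M x, ∀ s ∈ Cfsg.supportR N y, x * r ≠ y * s := by
  intro r hr s hs e
  have hr' := (supportR_iff hG hM hx hx1).1 hr
  have hs' := (supportR_iff hG hN hy hy1).1 hs
  by_cases hconj : ∃ c : G, N = MulAut.conj c • M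
  · obtain ⟨c, rfl⟩ := hconj
    obtain ⟨h1, h2, h3⟩ := InR.pi hG hM (h := 1) (a := x) (r := r) (by rwa [map_one, one_smul]) (by rwa [map_one, one_smul])
    obtain ⟨k1, k2, k3⟩ := InR.pi hG hM (h := c) (a := y) (r := s) (smul_sigmaCore hG hM c ▸ hy) hs'
    exact hxy (pi_part_unique h1 h2 h3 k1 k2 k3 e)
  · exact tilde_disjoint hG hM hN (fun c h => hconj ⟨c, h⟩) hx hy hx1 hy1 hr' hs' e

end Cfsg.Agent.S1433
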