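import Cfsg.Statements.S1440
import Cfsg.Agent.Lib.Transfer.Local.TypeIFree
import Cfsg.Agent.Lib.Transfer.Local.TypeOne
import Cfsg.Agent.S1360

set_option maxHeartbeats 1000000

set_option autoImplicit false
open Cfsg

namespace Cfsg.Agent.S1440

open Cfsg.Agent Cfsg.Agent.Transfer Cfsg.Agent.Transfer.Loc Cfsg.Agent.Transfer.Loc.TypeI Subgroup
open scoped Pointwise commutatorElement


/-- Let G be a minimal simple group of odd order, M a maximal subgroup with standard factorisation M = K U M_σ, H = M_F, and g ∉ M such that X = F(M) ∩ gF(M)g⁻¹ is nontrivial. Then X ≤ H and X is cyclic; M' = F(M), which is generated by M_σ and O_{σ(M)'}(F(M)); and one of: (1) K = 1 and H is abelian of rank exactly 2; (2) p = #X is a prime in σ(M) but not in β(M), O_p(H) is nonabelian, O_{p'}(H) is cyclic, and the exponent of M/H divides q − 1 for every prime q dividing #H; (3) p = #X is a prime in σ(M) but not β(M),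 O_{p'}(H) is cyclic, O_p(H) is nonabelian of order p ^ 3, K ≠ 1, U = 1, and the index of H in M divides p + 1. -/
theorem result {G : Type*} [Group G] [Finite G] (hG : Cfsg.IsMinSimpleOddOrder G)
    (M : Subgroup G) (hM : IsCoatom M) (K U : Subgroup G) (hKU : Cfsg.IsSigmaDecomposition M K U) (g : G) (hg : g ∉ M) (hX : Cfsg.fittingOf M ⊓ (Cfsg.fittingOf M).map (MulAut.conj g).toMonoidHom ≠ ⊥) :
    (Cfsg.fittingOf M ⊓ (Cfsg.fittingOf M).map (MulAut.conj g).toMonoidHom ≤ Cfsg.fittingHallOf M ∧ IsCyclic ↥(Cfsg.fittingOf M ⊓ (Cfsg.fittingOf M).map (MulAut.conj g).toMonoidHom)) ∧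
      (⁅M, M⁆ = Cfsg.fittingOf M ∧ Cfsg.fittingOf M = Cfsg.sigmaCore M ⊔ Cfsg.piCoreOf {q | q.Prime ∧ q ∉ Cfsg.sigma M} (Cfsg.fittingOf M)) ∧
      ((K = ⊥ ∧ IsMulCommutative (Cfsg.fittingHallOf M) ∧ Cfsg.RankLE 2 (Cfsg.fittingHallOf M) ∧ ¬ Cfsg.RankLE 1 (Cfsg.fittingHallOf M)) ∨
       (∃ p : ℕ, p.Prime ∧ Nat.card ↥(Cfsg.fittingOf M ⊓ (Cfsg.fittingOf M).map (MulAut.conj g).toMonoidHom) = p ∧ p ∈ Cfsg.sigma M ∧ p ∉ Cfsg.beta M ∧
          ¬ IsMulCommutative (Cfsg.pCore p ↥(Cfsg.fittingHallOf M)) ∧ IsCyclic (Cfsg.pPrimeCore p ↥(Cfsg.fittingHallOf M)) ∧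
          ∀ q : ℕ, q.Prime → q ∣ Nat.card (Cfsg.fittingHallOf M) → Monoid.exponent (↥M ⧸ Cfsg.fittingHall ↥M) ∣ q - 1) ∨
       (∃ p : ℕ, p.Prime ∧ Nat.card ↥(Cfsg.fittingOf M ⊓ (Cfsg.fittingOf M).map (MulAut.conj g).toMonoidHom) = p ∧ p ∈ Cfsg.sigma M ∧ p ∉ Cfsg.beta M ∧
          IsCyclic (Cfsg.pPrimeCore p ↥(Cfsg.fittingHallOf M)) ∧ Nat.card (Cfsg.pCore p ↥(Cfsg.fittingHallOf M)) = p ^ 3 ∧
          ¬ IsMulCommutative (Cfsg.pCore p ↥(Cfsg.fittingHallOf M)) ∧ K ≠ ⊥ ∧ U = ⊥ ∧ (Cfsg.fittingHallOf M).relIndex M ∣ p + 1)) := by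
  haveI := solvable_of_ne_top hG hM.1
  obtain ⟨hH, hnil, hsplit, hXS, hcyc, -⟩ := fitting_meet_setup hG hM hg hX
  obtain ⟨p, hp, P, h⟩ := exists_nonTIData hG hM hg hX
  have hiff : Cfsg.kappa M = ∅ ↔ K = ⊥ := by
    refine ⟨fun hκ => ?_, fun hK => ?_⟩
    · by_contra hK
      obtain ⟨q, hq, hqd⟩ := Nat.exists_prime_and_dvd fun e => hK (Subgroup.card_eq_one.1 e)
      exact (hκ ▸ hKU.hall.2.1 q hq hqd :)
    · by_contra hne
      obtain ⟨q, hq⟩ := Set.nonempty_iff_ne_empty.2 hne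
      exact hKU.hall.2.2 q hq.1 hq (by rw [hK, Subgroup.relIndex_bot_left]; exact hq.2.1)
  obtain ⟨hEc, -, -⟩ := decomp_compl hG hM hKU
  refine ⟨⟨hH ▸ hXS, hcyc⟩, ⟨le_antisymm (h.derived_le_fitting hG hM) ?_, fitting_split hG hM hnil⟩, ?_⟩
  · by_cases hκ : Cfsg.kappa M = ∅
    · rw [fitting_of_free hG hM hκ]
      exact sigmaCore_le_derived hG hM
    · exact (Cfsg.Agent.S1356.result hG M hM).2.2 (Set.nonempty_iff_ne_empty.2 hκ)
  by_cases hab : IsMulCommutative P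
  · obtain ⟨c1, c2, c3, c4⟩ := h.comm_case hG hM hab
    exact Or.inl ⟨hiff.1 c4, hH.symm ▸ ⟨c1, c2, c3⟩⟩
  have hXc := meet_card hG hM hg hX h hab
  have hcore : ¬ IsMulCommutative (Cfsg.pCore p ↥(Cfsg.fittingHallOf M)) := by
    rw [hH]
    intro hc
    refine hab ?_
    rw [← card_pCore_of_nilpotent hnil h.sylow]
    haveI := hc
    exact Subgroup.map_isMulCommutative _ _
  have hcycCore := h.core_cyclic hG hM hab
  set S := Cfsg.sigmaCore M with hS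
  have hFeq : Cfsg.fittingHall M = S.subgroupOf M := by
    refine Subgroup.map_injective M.subtype_injective ?_
    rw [Subgroup.map_subgroupOf_eq_of_le hEc.2.1]
    exact hH
  by_cases hK : K = ⊥
  · have hκ := hiff.2 hK
    refine Or.inr (Or.inl ⟨p, hp.out, hXc, h.memσ, h.notβ, hcore, hcycCore, fun q hq hqd => ?_⟩)
    haveI := Fact.mk hq
    rw [hK, sup_bot_eq] at hEc
    obtain ⟨U₀, hU₀, hexp, hfree⟩ := Cfsg.Agent.S1360.result hG M hM K U hKU
    have hUM : U ≤ M := hEc.1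
    have hfix : ∀ u ∈ U₀, u ≠ 1 → ∀ y ∈ S, u * y = y * u → y = 1 := fun u hu hu1 y hy hc => by
      by_contra hy1
      exact hu1 (hfree u hu ⟨hUM (hU₀ hu), y, hy, hy1, hc⟩)
    obtain ⟨Z, hZc, hZS, hMZ, -⟩ := h.exists_line hG hM hab (by rwa [hH] at hqd : q ∣ Nat.card S)
    refine Dvd.dvd.trans ?_ (exponent_dvd_pred (U₀ := U₀) hZc ((hU₀.trans hUM).trans hMZ)
      fun u hu hu1 y hy hc => hfix u hu hu1 y (hZS hy) hc)
    refine Monoid.exponent_dvd_of_forall_pow_eq_one fun m => ?_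
    obtain ⟨m, rfl⟩ := QuotientGroup.mk_surjective m
    obtain ⟨a, ha, b, hb, e⟩ := hEc.2.2.2 (m : G) m.2
    have hb' : (⟨b, hEc.2.1 hb⟩ : M) ∈ Cfsg.fittingHall M := by rw [hFeq]; exact hb
    have hm : (QuotientGroup.mk m : ↥M ⧸ Cfsg.fittingHall M) = QuotientGroup.mk (⟨a, hUM ha⟩ : M) := by
      rw [show m = (⟨a, hUM ha⟩ : M) * ⟨b, hEc.2.1 hb⟩ from Subtype.ext e,
        QuotientGroup.mk_mul_of_mem _ hb']
    have ha1 : a ^ Monoid.exponent U = 1 :=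
      congrArg Subtype.val (Monoid.pow_exponent_eq_one (⟨a, ha⟩ : U))
    rw [hm, hexp, ← QuotientGroup.mk_pow, show (⟨a, hUM ha⟩ : M) ^ Monoid.exponent U = 1 from Subtype.ext (by
      rw [SubmonoidClass.coe_pow]; exact ha1)]
    rfl
  obtain ⟨hU, -, hothers, hcase⟩ := h.kappa_case hG hM hKU hK
  have hidx : (Cfsg.fittingHallOf M).relIndex M = Nat.card K := by
    obtain ⟨-, hcK, -⟩ := decomp_compl hG hM hKU
    have h1 := compl_card hEc
    rw [hcK, hU, Subgroup.card_bot, one_mul, mul_comm] at h1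
    rw [hH]
    exact Nat.eq_of_mul_eq_mul_left (Nat.card_pos (α := S)) ((Grp.card_mul_relIndex hEc.2.1).trans h1.symm)
  have hquot : Monoid.exponent (↥M ⧸ Cfsg.fittingHall ↥M) ∣ Nat.card K := by
    refine Group.exponent_dvd_nat_card.trans (dvd_of_eq ?_)
    rw [← Subgroup.index_eq_card, ← hidx, hFeq, hH]
    rfl
  rcases hcase with hc | ⟨hP3, hc⟩
  · refine Or.inr (Or.inl ⟨p, hp.out, hXc, h.memσ, h.notβ, hcore, hcycCore, fun q hq hqd => hquot.trans ?_⟩)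
    by_cases hqp : q = p
    · exact hqp ▸ hc
    · exact hothers q hq (by rwa [hH] at hqd) hqp
  · refine Or.inr (Or.inr ⟨p, hp.out, hXc, h.memσ, h.notβ, hcycCore, ?_, hcore, hK, hU, hidx ▸ hc⟩)
    rw [hH, ← card_map_of_injective S.subtype_injective, card_pCore_of_nilpotent hnil h.sylow, hP3]

end Cfsg.Agent.S1440
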