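import Cfsg.Statements.S1441
import Mathlib

set_option maxHeartbeats 1000000
set_option maxRecDepth 8000

set_option autoImplicit false
open Cfsg
open scoped commutatorElement

namespace Cfsg.Agent.S1441

/-- Let G be a finite group, H a solvable subgroup and A a subgroup normalizing H. Suppose there is a chain H = H₀ ≥ H₁ ≥ ⋯ ≥ H_n = 1 of subgroups normal in H and normalized by A such that A acts trivially on each factor H_{i-1}/H_i (that is, [H_{i-1}, A] ≤ H_i). Then every prime dividing the index of C_A(H) in A divides the order of H. -/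
theorem result {G : Type*} [Group G] [Finite G] (H A : Subgroup G) (hH : Group.IsSolvable H) (hA : (A ≤ Subgroup.normalizer (H : Set G)))
    (n : ℕ) (c : Fin (n + 1) → Subgroup G) (hc0 : c 0 = H) (hcn : c (Fin.last n) = ⊥) (hanti : Antitone c)
    (hcN : ∀ i, H ≤ Subgroup.normalizer ((c i : Subgroup G) : Set G)) (hcA : ∀ i, A ≤ Subgroup.normalizer ((c i : Subgroup G) : Set G))
    (htriv : ∀ i : Fin n, ⁅c i.castSucc, A⁆ ≤ c i.succ) :
    ∀ p : ℕ, p.Prime → p ∣ (A ⊓ Subgroup.centralizer (H : Set G)).relIndex A → p ∣ Nat.card H := by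
  intro p hp hdvd
  haveI := Fact.mk hp
  by_contra hpH
  have key : ∀ a ∈ A, ∀ k : ℕ, orderOf a = p ^ k → a ∈ Subgroup.centralizer (H : Set G) := by
    intro a ha k hk
    have hd : ∀ i : Fin (n + 1), ∀ x ∈ c i, a * x * a⁻¹ = x := by
      intro i
      induction i using Fin.reverseInduction with
      | last => intro x hx; rw [hcn, Subgroup.mem_bot] at hx; simp [hx]
      | cast i ih =>
        intro x hx
        have h1 := htriv i (Subgroup.commutator_mem_commutator hx ha)
        rw [commutatorElement_def] at h1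
        set y := x * a * x⁻¹ * a⁻¹ with hy
        have hay : a * y = y * a := mul_inv_eq_iff_eq_mul.1 (ih y h1)
        have hax : x * a * x⁻¹ = y * a := by rw [hy, inv_mul_cancel_right]
        have hpow : y ^ orderOf a = 1 := by
          have h2 : x * a ^ orderOf a * x⁻¹ = y ^ orderOf a * a ^ orderOf a := by
            rw [← conj_pow, hax]; exact (show Commute y a from hay.symm).mul_pow _
          rw [pow_orderOf_eq_one, mul_one, mul_inv_cancel, mul_one] at h2
          exact h2.symm
        have hyH : y ∈ H := hc0 ▸ hanti (Fin.zero_le _) h1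
        have hy1 : orderOf y = 1 := Nat.eq_one_of_dvd_coprimes
          ((hp.coprime_iff_not_dvd.2 hpH).pow_left k) (hk ▸ orderOf_dvd_of_pow_eq_one hpow) (H.orderOf_dvd_natCard hyH)
        rw [orderOf_eq_one_iff.1 hy1, one_mul, mul_inv_eq_iff_eq_mul] at hax
        rw [← hax, mul_inv_cancel_right]
    exact Subgroup.mem_centralizer_iff.2 fun x hx => (mul_inv_eq_iff_eq_mul.1 (hd 0 x (hc0.symm ▸ hx))).symm
  obtain ⟨P⟩ : Nonempty (Sylow p A) := inferInstance
  have hPC : (P : Subgroup A) ≤ (A ⊓ Subgroup.centralizer (H : Set G)).subgroupOf A := fun a ha => by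
    obtain ⟨k, hk⟩ := IsPGroup.exists_orderOf_eq_pow P.isPGroup' (⟨a, ha⟩ : (P : Subgroup A))
    rw [Subgroup.orderOf_mk, ← Subgroup.orderOf_coe] at hk
    exact ⟨a.2, key a a.2 k hk⟩
  exact P.not_dvd_index (hdvd.trans (Subgroup.index_dvd_of_le hPC))

end Cfsg.Agent.S1441
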