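import Cfsg.Statements.S1456
import Mathlib
import Cfsg.Agent.S1451
import Cfsg.Agent.Lib.Transfer.NarrowAut

set_option maxHeartbeats 1000000
set_option maxRecDepth 8000

set_option autoImplicit false
open Cfsg

namespace Cfsg.Agent.S1456

/-- Let G be a solvable group of odd order, p a prime, and E an elementary abelian p-subgroup of the Fitting subgroup F(G) such that F(G) ∩ C_G(E) has no elementary abelian subgroup of order q ^ 3 for any prime q. Then the derived subgroup of G is contained in F(G). -/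
theorem result {G : Type*} [Group G] [Finite G] [Group.IsSolvable G] (hodd : Odd (Nat.card G)) (p : ℕ) [Fact p.Prime] (E : Subgroup G) (hE : E ≤ Cfsg.fittingSubgroup G) (hEe : Cfsg.IsElementaryAbelian p E)
    (hr : Cfsg.RankLE 2 ↥(Cfsg.fittingSubgroup G ⊓ Subgroup.centralizer (E : Set G))) :
    commutator G ≤ Cfsg.fittingSubgroup G := by
  classical
  haveI := Transfer.fittingSubgroup_normal' G
  set D := Cfsg.fittingSubgroup G ⊓ Subgroup.centralizer (E : Set G) with hDdef
  have hEp : E ≤ Cfsg.pCore p G := fun x hx =>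
    S1451.mem_pCore_of_mem_fitting (hE hx) (j := 1) (by rw [pow_one]; exact hEe.2 x hx)
  refine S1451.derived_le_fitting hodd fun r _ hr2 A hA hs => ?_
  have hR : IsPGroup r (Cfsg.pCore r G) := Transfer.pCore_isPGroup r G
  -- elementary subgroups of the core centralizing `E`
  have hsmall : ∀ B : Subgroup (Cfsg.pCore r G), IsMulCommutative B → (∀ b ∈ B, b ^ r = 1) →
      B.map (Cfsg.pCore r G).subtype ≤ Subgroup.centralizer (E : Set G) → Nat.card B ≤ r ^ 2 := by
    intro B hB hBe hBc
    have hle : B.map (Cfsg.pCore r G).subtype ≤ D :=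
      le_inf ((Subgroup.map_subtype_le B).trans (Transfer.pCore_le_fittingSubgroup r)) hBc
    haveI := hB
    haveI : IsMulCommutative (B.map (Cfsg.pCore r G).subtype) := inferInstance
    have h := hr r Fact.out ((B.map (Cfsg.pCore r G).subtype).subgroupOf D) inferInstance fun x hx => ?_
    · rwa [Nat.card_congr (Subgroup.subgroupOfEquivOfLe hle).toEquiv,
        Subgroup.card_map_of_injective (Cfsg.pCore r G).subtype_injective] at h
    · obtain ⟨b, hb, hbe⟩ := hx
      refine Subtype.ext ?_
      show ((x : D) : G) ^ r = 1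
      rw [show ((x : D) : G) = b from hbe.symm]
      exact congrArg Subtype.val (hBe b hb)
  by_cases hrk : Cfsg.PRankLE r 2 (Cfsg.pCore r G)
  · exact Transfer.OddRankTwo.derived_isPGroup_of_faithful hr2 hR hrk hA hs A.subtype A.subtype_injective
  have hrp : r = p := by
    by_contra hne
    refine hrk fun B hB hBe => hsmall B hB hBe ?_
    rintro _ ⟨b, -, rfl⟩
    exact Subgroup.mem_centralizer_iff.2 fun e he => (Transfer.commute_pCore (Ne.symm hne) (hEp he) b.2).eq
  subst hrp
  refine Transfer.Narrow.derived_isPGroup hr2 hR hrk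
    (Transfer.Narrow.hasMaxPlane_of hR hrk (E.subgroupOf (Cfsg.pCore r G)) ⟨⟨⟨fun a b => ?_⟩⟩, fun a ha => ?_⟩ fun B hB hBe => ?_)
    A.subtype A.subtype_injective
  · refine Subtype.ext (Subtype.ext ?_)
    show ((a : Cfsg.pCore r G) : G) * ((b : Cfsg.pCore r G) : G) = ((b : Cfsg.pCore r G) : G) * ((a : Cfsg.pCore r G) : G)
    exact congrArg (fun z : E => (z : G)) (hEe.1.is_comm.comm (⟨_, a.2⟩ : E) ⟨_, b.2⟩)
  · exact Subtype.ext (hEe.2 _ ha)
  · refine hsmall B hBe.1 hBe.2 ?_
    rintro _ ⟨b, hb, rfl⟩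
    exact Subgroup.mem_centralizer_iff.2 fun e he =>
      congrArg Subtype.val (Subgroup.mem_centralizer_iff.1 (hB hb) ⟨e, hEp he⟩ he)

end Cfsg.Agent.S1456
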