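import Cfsg.Statements.S1459
import Cfsg.Agent.Lib.Grp.Cores
import Cfsg.Agent.Lib.Grp.Frattini
import Mathlib

set_option maxHeartbeats 1000000
set_option maxRecDepth 8000

set_option autoImplicit false
open Cfsg
open scoped commutatorElement Pointwise

namespace Cfsg.Agent.S1459

/-- A normal Hall subgroup inside the derived subgroup equals its commutator with a complement. -/
theorem partA {G : Type*} [Group G] [Finite G] [Group.IsSolvable G] (H K : Subgroup G) (hH : H.Normal)
    (hcop : (Nat.card H).Coprime H.index) (hC : Subgroup.IsComplement' H K) (hle : H ≤ commutator G) :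
    H = ⁅H, K⁆ ∧ H ⊓ Subgroup.centralizer (K : Set G) ≤ ⁅H, H⁆ := by
  classical
  haveI := hH
  set N := ⁅H, K⁆ with hN
  have hNH : N ≤ H := Subgroup.commutator_le_left H K
  have hdec : ∀ g : G, ∃ h ∈ H, ∃ k ∈ K, g = h * k := fun g => by
    obtain ⟨⟨⟨h, hh⟩, ⟨k, hk⟩⟩, e⟩ := hC.2 g
    exact ⟨h, hh, k, hk, e.symm⟩
  haveI hNn : N.Normal := by
    have h1 : H ≤ Subgroup.normalizer (N : Set G) := Subgroup.normalizer_commutator_ge_left H K
    have h2 : K ≤ Subgroup.normalizer (N : Set G) := Subgroup.normalizer_commutator_ge_right H K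
    rw [← Subgroup.normalizer_eq_top_iff, eq_top_iff]
    intro g _
    obtain ⟨h, hh, k, hk, rfl⟩ := hdec g
    exact mul_mem (h1 hh) (h2 hk)
  set q := QuotientGroup.mk' N with hq
  have hqs : Function.Surjective q := QuotientGroup.mk'_surjective N
  have hcomm : ∀ h ∈ H, ∀ k ∈ K, q h * q k = q k * q h := fun h hh k hk => by
    rw [← commutatorElement_eq_one_iff_mul_comm, ← map_commutatorElement, hq, QuotientGroup.mk'_apply,
      QuotientGroup.eq_one_iff]
    exact Subgroup.commutator_mem_commutator hh hk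
  set A := H.map q with hA
  set B := K.map q with hB
  have hgen : commutator (G ⧸ N) ≤ ⁅A, A⁆ ⊔ ⁅B, B⁆ := by
    rw [commutator_def, Subgroup.commutator_le]
    intro x _ y _
    obtain ⟨g, rfl⟩ := hqs x
    obtain ⟨g', rfl⟩ := hqs y
    obtain ⟨h, hh, k, hk, rfl⟩ := hdec g
    obtain ⟨h', hh', k', hk', rfl⟩ := hdec g'
    have e : ⁅q (h * k), q (h' * k')⁆ = ⁅q h, q h'⁆ * ⁅q k, q k'⁆ := by
      simp only [commutatorElement_def, map_mul]
      have c1 : Commute (q h) (q k) := hcomm h hh k hk
      have c2 : Commute (q h) (q k') := hcomm h hh k' hk'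
      have c3 : Commute (q h') (q k) := hcomm h' hh' k hk
      have c4 : Commute (q h') (q k') := hcomm h' hh' k' hk'
      calc q h * q k * (q h' * q k') * (q h * q k)⁻¹ * (q h' * q k')⁻¹
          = q h * (q k * q h') * q k' * (q k)⁻¹ * ((q h)⁻¹ * (q k')⁻¹) * (q h')⁻¹ := by group
        _ = q h * q h' * (q k * q k' * (q k)⁻¹ * (q k')⁻¹) * (q h)⁻¹ * (q h')⁻¹ := by
            rw [← c3.eq, (c2.inv_inv).eq]; group
        _ = _ := by
            have c5 : Commute (q k * q k' * (q k)⁻¹ * (q k')⁻¹) ((q h)⁻¹) :=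
              ((c1.symm.inv_right.mul_left c2.symm.inv_right).mul_left c1.symm.inv_inv).mul_left c2.symm.inv_inv
            have c6 : Commute (q k * q k' * (q k)⁻¹ * (q k')⁻¹) ((q h')⁻¹) :=
              ((c3.symm.inv_right.mul_left c4.symm.inv_right).mul_left c3.symm.inv_inv).mul_left c4.symm.inv_inv
            rw [mul_assoc _ _ ((q h)⁻¹), c5.eq, ← mul_assoc, mul_assoc _ _ ((q h')⁻¹), c6.eq, ← mul_assoc]
    rw [e]
    exact Subgroup.mul_mem_sup (Subgroup.commutator_mem_commutator (Subgroup.mem_map_of_mem q hh) (Subgroup.mem_map_of_mem q hh'))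
      (Subgroup.commutator_mem_commutator (Subgroup.mem_map_of_mem q hk) (Subgroup.mem_map_of_mem q hk'))
  haveI hAn : A.Normal := hH.map q hqs
  have hdis : A ⊓ B = ⊥ := Cfsg.Agent.Grp.inf_eq_bot_of_coprime (by
    refine (hcop.coprime_dvd_left (Subgroup.card_map_dvd H q)).coprime_dvd_right ?_
    rw [hC.symm.index_eq_card]
    exact Subgroup.card_map_dvd K q)
  have hperf : A ≤ ⁅A, A⁆ := by
    intro x hx
    have hA'n : (⁅A, A⁆).Normal := inferInstance
    have h1 : x ∈ commutator (G ⧸ N) := by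
      obtain ⟨h, hh, rfl⟩ := hx
      rw [← Subgroup.mem_comap]
      exact Subgroup.commutator_le.2 (fun a _ b _ => by
        rw [Subgroup.mem_comap, map_commutatorElement, commutator_def]
        exact Subgroup.commutator_mem_commutator (Subgroup.mem_top _) (Subgroup.mem_top _)) (hle hh)
    have h2 : x ∈ (↑(⁅A, A⁆ ⊔ ⁅B, B⁆) : Set (G ⧸ N)) := hgen h1
    rw [Subgroup.normal_mul] at h2
    obtain ⟨a, ha, b, hb, rfl⟩ := h2
    have hbA : b ∈ A := by simpa using mul_mem (inv_mem (Subgroup.commutator_le_self A ha)) hx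
    have hb1 : b ∈ A ⊓ B := ⟨hbA, Subgroup.commutator_le_self B hb⟩
    rw [hdis, Subgroup.mem_bot] at hb1
    simpa [hb1] using ha
  have hAbot : A = ⊥ := by
    by_contra h
    haveI : Nontrivial A := (Subgroup.nontrivial_iff_ne_bot A).2 h
    haveI : Group.IsSolvable A := inferInstance
    have hlt := Group.IsSolvable.commutator_lt_top_of_nontrivial A
    refine hlt.ne (eq_top_iff.2 fun a _ => ?_)
    have h1 : (a : G ⧸ N) ∈ (commutator A).map A.subtype := by
      rw [Subgroup.map_subtype_commutator]; exact hperf a.2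
    obtain ⟨b, hb, e⟩ := h1
    exact (Subtype.ext e : b = a) ▸ hb
  have hHN : H = N := le_antisymm (fun x hx => by
    have h1 : q x ∈ A := Subgroup.mem_map_of_mem q hx
    rw [hAbot, Subgroup.mem_bot] at h1
    exact (QuotientGroup.eq_one_iff x).1 h1) hNH
  refine ⟨hHN, fun x hx => ?_⟩
  -- the averaging homomorphism
  haveI := Fintype.ofFinite K
  let c : K → (H →* H) := fun k => ((MulAut.conjNormal (k : G) : MulAut H)).toMonoidHom
  let ψ : H →* Abelianization H := ∏ k : K, Abelianization.of.comp (c k)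
  have hψ : ∀ h : H, ψ h = ∏ k : K, Abelianization.of (c k h) := fun h => by
    simp [ψ, MonoidHom.finsetProd_apply]
  have hker : H ≤ ψ.ker.map H.subtype := by
    conv_lhs => rw [hHN]
    refine Subgroup.commutator_le.2 fun h hh k hk => ?_
    have hmem : k * h⁻¹ * k⁻¹ ∈ H := hH.conj_mem _ (H.inv_mem hh) k
    refine ⟨(⟨h, hh⟩ : H) * ⟨k * h⁻¹ * k⁻¹, hmem⟩, ?_, by
      simp only [map_mul, Subgroup.coe_subtype, commutatorElement_def]; group⟩
    rw [SetLike.mem_coe, MonoidHom.mem_ker, map_mul]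
    have h2 : ψ ⟨k * h⁻¹ * k⁻¹, hmem⟩ = ψ (⟨h, hh⟩ : H)⁻¹ := by
      rw [hψ, hψ]
      refine Fintype.prod_equiv (Equiv.mulRight ⟨k, hk⟩) _ _ fun t => congrArg _ (Subtype.ext ?_)
      simp [c, MulAut.conjNormal_apply, mul_assoc]
    rw [h2, map_inv, mul_inv_cancel]
  obtain ⟨y, hy, hyx⟩ := hker hx.1
  have hyx' : y = ⟨x, hx.1⟩ := Subtype.ext hyx
  subst hyx'
  rw [SetLike.mem_coe, MonoidHom.mem_ker, hψ, Finset.prod_congr rfl (fun (k : K) _ =>
    show Abelianization.of (c k ⟨x, hx.1⟩) = Abelianization.of (⟨x, hx.1⟩ : H) from congrArg _ (Subtype.ext (by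
      have h3 := Subgroup.mem_centralizer_iff.1 hx.2 (k : G) k.2
      simp only [c, MulEquiv.coe_toMonoidHom, MulAut.conjNormal_apply]
      rw [h3, mul_inv_cancel_right]))), Finset.prod_const, Finset.card_univ, ← Nat.card_eq_fintype_card] at hy
  have h4 : Nat.card (Abelianization H) ∣ Nat.card H := Subgroup.card_quotient_dvd_card (commutator H)
  have h5 : Abelianization.of (⟨x, hx.1⟩ : H) = 1 := by
    refine orderOf_eq_one_iff.1 (Nat.eq_one_of_dvd_coprimes hcop ((orderOf_dvd_natCard _).trans h4) ?_)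
    rw [hC.symm.index_eq_card]
    exact orderOf_dvd_of_pow_eq_one hy
  have h6 : (⟨x, hx.1⟩ : H) ∈ commutator H := (QuotientGroup.eq_one_iff _).1 h5
  rw [← Subgroup.map_subtype_commutator]
  exact ⟨_, h6, rfl⟩


/-- Let G be a finite solvable group. (a) If H is a normal subgroup of order coprime to its index, K is a complement to H, and H ≤ G', then H = [H, K] and H ∩ C_G(K) ≤ [H, H]. (b) If G' is nilpotent and has prime index in G, then the order of G' is coprime to its index and G' = [G, K] (the subgroup generated by commutators of elements of G with elements of K) for every complement K of G'. -/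
theorem result {G : Type*} [Group G] [Finite G] [Group.IsSolvable G] :
    (∀ (H K : Subgroup G), H.Normal → (Nat.card H).Coprime H.index → Subgroup.IsComplement' H K → H ≤ commutator G →
        H = ⁅H, K⁆ ∧ H ⊓ Subgroup.centralizer (K : Set G) ≤ ⁅H, H⁆) ∧
      (Group.IsNilpotent ↥(commutator G) → (commutator G).index.Prime →
        (Nat.card ↥(commutator G)).Coprime (commutator G).index ∧
        ∀ K : Subgroup G, Subgroup.IsComplement' (commutator G) K → commutator G = ⁅(⊤ : Subgroup G), K⁆) := by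

  refine ⟨fun H K hH hcop hC hle => partA H K hH hcop hC hle, fun hnil hprime => ?_⟩
  set D := commutator G with hD
  haveI := hnil
  set r := D.index with hr
  haveI : Fact r.Prime := ⟨hprime⟩
  set O := Cfsg.pPrimeCore r G with hO
  haveI : O.Normal := Cfsg.Agent.Grp.pPrimeCore_isNormal
  have hOidx : ∀ s : ℕ, s.Prime → s ∣ O.index → s = r := by
    intro s hs hdvd
    by_contra hne
    haveI : Fact s.Prime := ⟨hs⟩
    obtain ⟨S⟩ : Nonempty (Sylow s G) := inferInstance
    have hSD : (S : Subgroup G) ≤ D := fun x hx => by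
      obtain ⟨k, hk⟩ := IsPGroup.iff_orderOf.1 S.isPGroup' ⟨x, hx⟩
      rw [Subgroup.orderOf_mk] at hk
      refine (QuotientGroup.eq_one_iff x).1 (orderOf_eq_one_iff.1 ?_)
      refine Nat.eq_one_of_dvd_coprimes (Nat.Coprime.pow_left k ((Nat.coprime_primes hs hprime).2 hne))
        (hk ▸ orderOf_map_dvd (QuotientGroup.mk' D) x) ?_
      rw [hr, Subgroup.index_eq_card]
      exact orderOf_dvd_natCard _
    have hn := Cfsg.Agent.Grp.sylow_inf_normal_normal S D hnil
    rw [inf_eq_left.2 hSD] at hn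
    refine S.not_dvd_index (hdvd.trans (Subgroup.index_dvd_of_le (Cfsg.Agent.Grp.le_pPrimeCore hn ?_)))
    obtain ⟨k, hk⟩ := IsPGroup.iff_card.1 S.isPGroup'
    rw [hk]
    exact Nat.Coprime.pow_left k ((Nat.coprime_primes hs hprime).2 hne)
  have hP : IsPGroup r (G ⧸ O) := by
    refine IsPGroup.of_card (n := (Nat.card (G ⧸ O)).primeFactorsList.length) ?_
    exact Nat.eq_prime_pow_of_unique_prime_dvd Nat.card_pos.ne' fun hs hd => hOidx _ hs (by rwa [Subgroup.index_eq_card])
  haveI := hP
  have hDO : D ≤ O := by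
    have hfr := Cfsg.Agent.Grp.pGroup_commutator_le_frattini hP
    haveI : IsCyclic (G ⧸ D) := isCyclic_of_prime_card (p := r) (Subgroup.index_eq_card D).symm
    obtain ⟨g₀, hg₀⟩ := IsCyclic.exists_generator (α := G ⧸ D)
    obtain ⟨g, rfl⟩ := QuotientGroup.mk_surjective g₀
    set q := QuotientGroup.mk' O
    have hDfr : D.map q ≤ frattini (G ⧸ O) := by
      refine le_trans ?_ hfr
      rw [hD, commutator_def, commutator_def, Subgroup.map_commutator]
      exact Subgroup.commutator_mono le_top le_top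
    have htop : Subgroup.zpowers (q g) = ⊤ := frattini_nongenerating (eq_top_iff.2 fun w _ => by
      obtain ⟨x, rfl⟩ := QuotientGroup.mk'_surjective O w
      obtain ⟨i, hi⟩ := Subgroup.mem_zpowers_iff.1 (hg₀ (x : G ⧸ D))
      rw [← QuotientGroup.mk_zpow, QuotientGroup.eq] at hi
      have e : q x = q g ^ i * q ((g ^ i)⁻¹ * x) := by rw [← map_zpow, ← map_mul, mul_inv_cancel_left]
      show q x ∈ _
      rw [e]
      exact Subgroup.mul_mem_sup (Subgroup.zpow_mem_zpowers _ _) (hDfr (Subgroup.mem_map_of_mem q hi)))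
    rw [hD, commutator_def, Subgroup.commutator_le]
    intro a _ b _
    rw [← QuotientGroup.eq_one_iff, ← QuotientGroup.mk'_apply, map_commutatorElement, commutatorElement_eq_one_iff_mul_comm]
    obtain ⟨i, hi⟩ := Subgroup.mem_zpowers_iff.1 (htop.ge (Subgroup.mem_top (q a)))
    obtain ⟨j, hj⟩ := Subgroup.mem_zpowers_iff.1 (htop.ge (Subgroup.mem_top (q b)))
    show q a * q b = q b * q a
    rw [← hi, ← hj, ← zpow_add, ← zpow_add, add_comm]
  have hcop : (Nat.card D).Coprime r :=
    Cfsg.Agent.Grp.pPrimeCore_coprime.coprime_dvd_left (Subgroup.card_dvd_of_le hDO)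
  refine ⟨hcop, fun K hK => le_antisymm ?_ ?_⟩
  · exact (partA D K inferInstance hcop hK le_rfl).1.le.trans (Subgroup.commutator_mono le_top le_rfl)
  · rw [hD, commutator_def]
    exact Subgroup.commutator_mono le_rfl le_top

end Cfsg.Agent.S1459
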