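import Cfsg.Statements.S1460
import Cfsg.Agent.Lib.Grp.SchurZassenhaus
import Cfsg.Agent.Lib.Grp.Cores
import Mathlib

set_option maxHeartbeats 1000000
set_option maxRecDepth 8000

set_option autoImplicit false
open Cfsg
open scoped commutatorElement Pointwise

namespace Cfsg.Agent.S1460

/-- Let G be a finite solvable group, K a normal subgroup and U a subgroup with G = KU, and H ≤ U a subgroup whose order is coprime to that of K. Then H ∩ G' = H ∩ U'; N_G(H) is generated by K ∩ C_G(H) and U ∩ N_G(H); and if gHg⁻¹ ≤ U for some g ∈ G then g = u c with u ∈ U and c ∈ K ∩ C_G(H). -/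
theorem result {G : Type*} [Group G] [Finite G] [Group.IsSolvable G] (K U H : Subgroup G) [K.Normal] (hKU : K ⊔ U = ⊤) (hH : H ≤ U) (hcop : (Nat.card H).Coprime (Nat.card K)) :
    H ⊓ commutator G = H ⊓ ⁅U, U⁆ ∧
      Subgroup.normalizer (H : Set G) = (K ⊓ Subgroup.centralizer (H : Set G)) ⊔ (U ⊓ Subgroup.normalizer (H : Set G)) ∧
      ∀ g : G, H.map (MulAut.conj g).toMonoidHom ≤ U → ∃ u ∈ U, ∃ c ∈ K ⊓ Subgroup.centralizer (H : Set G), g = u * c := by
  classical
  have hKH : K ⊓ H = ⊥ := by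
    rw [inf_comm]; exact Cfsg.Agent.Grp.inf_eq_bot_of_coprime hcop
  have h3 : ∀ g : G, H.map (MulAut.conj g).toMonoidHom ≤ U →
      ∃ u ∈ U, ∃ c ∈ K ⊓ Subgroup.centralizer (H : Set G), g = u * c := by
    intro g hg
    have hg' : g ∈ (↑(U ⊔ K) : Set G) := by rw [sup_comm, hKU]; trivial
    rw [Subgroup.mul_normal] at hg'
    obtain ⟨u, hu, k, hk, rfl⟩ := hg'
    have hkU : ∀ h ∈ H, k * h * k⁻¹ ∈ U := fun h hh => by
      have h1 : (u * k) * h * (u * k)⁻¹ ∈ U := hg ⟨h, hh, rfl⟩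
      have h2 := U.mul_mem (U.mul_mem (U.inv_mem hu) h1) hu
      rwa [show u⁻¹ * (u * k * h * (u * k)⁻¹) * u = k * h * k⁻¹ by group] at h2
    set J := K ⊓ U with hJ
    have hHJ : H ≤ Subgroup.normalizer (J : Set G) := fun h hh => Subgroup.mem_normalizer_iff.2 fun a => by
      refine and_congr ⟨fun ha => (inferInstance : K.Normal).conj_mem a ha h, fun ha => ?_⟩ (Subgroup.mem_normalizer_iff.1 (Subgroup.le_normalizer (hH hh)) a)
      simpa [mul_assoc] using (inferInstance : K.Normal).conj_mem _ ha h⁻¹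
    have hle : H.map (MulAut.conj k).toMonoidHom ≤ J ⊔ H := by
      rintro _ ⟨h, hh, rfl⟩
      show k * h * k⁻¹ ∈ J ⊔ H
      rw [show k * h * k⁻¹ = (k * h * k⁻¹ * h⁻¹) * h by group]
      refine Subgroup.mul_mem_sup ⟨?_, U.mul_mem (hkU h hh) (U.inv_mem (hH hh))⟩ hh
      have := K.mul_mem hk ((inferInstance : K.Normal).conj_mem _ (K.inv_mem hk) h)
      simpa [mul_assoc] using this
    obtain ⟨w, hw, hwe⟩ := Cfsg.Agent.Grp.exists_conj_of_le_sup hHJ hle
      (Subgroup.card_map_of_injective (MulAut.conj k).injective)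
      (hcop.symm.coprime_dvd_left (Subgroup.card_dvd_of_le inf_le_left)) (Or.inl inferInstance)
    have hc : w⁻¹ * k ∈ K ⊓ Subgroup.centralizer (H : Set G) := by
      refine ⟨K.mul_mem (K.inv_mem hw.1) hk, Subgroup.mem_centralizer_iff.2 fun h hh => ?_⟩
      set c := w⁻¹ * k with hc
      have h1 : c * h * c⁻¹ ∈ H := by
        have h2 : k * h * k⁻¹ ∈ MulAut.conj w • H := by rw [hwe]; exact ⟨h, hh, rfl⟩
        obtain ⟨h', hh', e⟩ := h2
        have e' : w * h' * w⁻¹ = k * h * k⁻¹ := e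
        rw [hc, show w⁻¹ * k * h * (w⁻¹ * k)⁻¹ = w⁻¹ * (k * h * k⁻¹) * w by group, ← e']
        simpa [mul_assoc] using hh'
      have h4 : c * h * c⁻¹ * h⁻¹ ∈ K ⊓ H := by
        refine ⟨?_, H.mul_mem h1 (H.inv_mem hh)⟩
        have hcK : c ∈ K := K.mul_mem (K.inv_mem hw.1) hk
        have := K.mul_mem hcK ((inferInstance : K.Normal).conj_mem _ (K.inv_mem hcK) h)
        simpa [mul_assoc] using this
      rw [hKH, Subgroup.mem_bot, mul_inv_eq_one, mul_inv_eq_iff_eq_mul] at h4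
      exact h4.symm
    exact ⟨u * w, U.mul_mem hu hw.2, w⁻¹ * k, hc, by group⟩
  refine ⟨le_antisymm ?_ ?_, le_antisymm ?_ ?_, h3⟩
  · rintro h ⟨hh, hG⟩
    refine ⟨hh, ?_⟩
    set q := QuotientGroup.mk' K with hq
    have hUtop : U.map q = ⊤ := by
      rw [eq_top_iff, ← Subgroup.map_top_of_surjective q (QuotientGroup.mk'_surjective K), ← hKU, Subgroup.map_sup]
      refine sup_le ?_ le_rfl
      rw [hq, QuotientGroup.map_mk'_self]; exact bot_le
    have h1 : q h ∈ (⁅U, U⁆).map q := by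
      rw [Subgroup.map_commutator, hUtop]
      have := Subgroup.mem_map_of_mem q hG
      rw [commutator_def, Subgroup.map_commutator] at this
      exact Subgroup.commutator_mono le_top le_top this
    obtain ⟨v, hv, hve⟩ := h1
    have hk : h * v⁻¹ ∈ K := by
      rw [← QuotientGroup.eq_one_iff, ← QuotientGroup.mk'_apply, map_mul, map_inv, hve, mul_inv_cancel]
    have hvU : v ∈ U := Subgroup.commutator_le_self U hv
    have hkU : h * v⁻¹ ∈ U := U.mul_mem (hH hh) (U.inv_mem hvU)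
    set of := (Abelianization.of : U →* Abelianization U)
    have hker : ∀ y : U, of y = 1 ↔ (y : G) ∈ ⁅U, U⁆ := fun y => by
      rw [← MonoidHom.mem_ker, Abelianization.ker_of, ← Subgroup.map_subtype_commutator]
      exact ⟨fun h => ⟨y, h, rfl⟩, fun ⟨z, hz, e⟩ => (Subtype.ext e : z = y) ▸ hz⟩
    have h2 : of ⟨h, hH hh⟩ = of ⟨h * v⁻¹, hkU⟩ := by
      have : (⟨h, hH hh⟩ : U) = ⟨h * v⁻¹, hkU⟩ * ⟨v, hvU⟩ := Subtype.ext (inv_mul_cancel_right h v).symm
      rw [this, map_mul, (hker ⟨v, hvU⟩).2 hv, mul_one]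
    have d1 : orderOf (of ⟨h, hH hh⟩) ∣ Nat.card H := (orderOf_map_dvd _ _).trans (by
      rw [Subgroup.orderOf_mk]; exact Subgroup.orderOf_dvd_natCard H hh)
    have d2 : orderOf (of ⟨h * v⁻¹, hkU⟩) ∣ Nat.card K := (orderOf_map_dvd _ _).trans (by
      rw [Subgroup.orderOf_mk]; exact Subgroup.orderOf_dvd_natCard K hk)
    rw [← h2] at d2
    exact (hker ⟨h, hH hh⟩).1 (orderOf_eq_one_iff.1 (Nat.eq_one_of_dvd_coprimes hcop d1 d2))
  · rintro h ⟨hh, hU'⟩
    refine ⟨hh, ?_⟩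
    rw [commutator_def]
    exact Subgroup.commutator_mono le_top le_top hU'
  · intro g hg
    obtain ⟨u, hu, c, hc, rfl⟩ := h3 g (by rintro _ ⟨h, hh, rfl⟩; exact hH ((Subgroup.mem_normalizer_iff.1 hg h).1 hh))
    have hcN : c ∈ Subgroup.normalizer (H : Set G) := Subgroup.centralizer_le_normalizer (H : Set G) hc.2
    refine Subgroup.mul_mem _ (Subgroup.mem_sup_right ?_) (Subgroup.mem_sup_left hc)
    exact ⟨hu, by simpa using (Subgroup.normalizer (H : Set G)).mul_mem hg ((Subgroup.normalizer (H : Set G)).inv_mem hcN)⟩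
  · exact sup_le (inf_le_right.trans (fun x hx => Subgroup.centralizer_le_normalizer (H : Set G) hx)) inf_le_right

end Cfsg.Agent.S1460
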