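import Cfsg.Statements.S1462
import Cfsg.Agent.Lib.Transfer.PLengthOne
import Cfsg.Agent.Lib.Transfer.OmegaFixed

set_option maxHeartbeats 1000000
set_option maxRecDepth 8000

set_option autoImplicit false
open Cfsg
open scoped commutatorElement

namespace Cfsg.Agent.S1462

/-- Let G be a finite solvable group, p an odd prime with G = O_{p',p,p'}(G), E an elementary abelian p-subgroup contained in no larger elementary abelian p-subgroup of G, and L a subgroup of order coprime to p normalized by E. Then L ≤ O_{p'}(G). -/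
theorem result {G : Type*} [Group G] [Finite G] [Group.IsSolvable G] (p : ℕ) [Fact p.Prime] (hp : p ≠ 2) (hpl : Cfsg.PLengthLE p 1 G) (E L : Subgroup G) (hE : Cfsg.IsElementaryAbelian p E)
    (hEmax : ∀ B : Subgroup G, Cfsg.IsElementaryAbelian p B → E ≤ B → B = E) (hL : (Nat.card L).Coprime p) (hEL : E ≤ Subgroup.normalizer (L : Set G)) :
    L ≤ Cfsg.pPrimeCore p G := by
  classical
  haveI hN : (Cfsg.pPrimeCore p G).Normal := Cfsg.Agent.Grp.pPrimeCore_isNormal
  set K := Cfsg.pPrimeCore p G with hK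
  set f := QuotientGroup.mk' K with hf
  set R := Cfsg.pCore p (G ⧸ K) with hR
  haveI hRn : R.Normal := Cfsg.Agent.Grp.pCore_isNormal
  have hRp : IsPGroup p R := Cfsg.Agent.Grp.pCore_isPGroup
  haveI := hE.1
  have hEp : IsPGroup p E := IsPGroup.iff_orderOf.2 fun e => by
    obtain ⟨k, -, hk⟩ := (Nat.dvd_prime_pow (Fact.out : p.Prime)).1
      ((pow_one p).symm ▸ orderOf_dvd_of_pow_eq_one (Subtype.ext (hE.2 _ e.2) : e ^ p = 1))
    exact ⟨k, hk⟩
  obtain ⟨P, hP⟩ := hEp.exists_le_sylow
  have hPR : (P : Subgroup G).map f = R := Cfsg.Agent.Transfer.PLengthOne.map_sylow hpl P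
  have hER : ∀ e ∈ E, f e ∈ R := fun e he => hPR ▸ ⟨e, hP he, rfl⟩
  intro l hl
  have hlord : orderOf (f l) ∣ Nat.card L := (orderOf_map_dvd f l).trans (L.orderOf_dvd_natCard hl)
  have hcommE : ∀ e ∈ E, f l * f e = f e * f l := fun e he => by
    rw [← commutatorElement_eq_one_iff_mul_comm, ← map_commutatorElement]
    have h1 : ⁅l, e⁆ ∈ L := by
      have h2 := (Subgroup.mem_normalizer_iff.1 (hEL he) l⁻¹).1 (L.inv_mem hl)
      rw [commutatorElement_def, show l * e * l⁻¹ * e⁻¹ = l * (e * l⁻¹ * e⁻¹) by group]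
      exact L.mul_mem hl h2
    have h2 : f ⁅l, e⁆ ∈ R := by
      rw [map_commutatorElement, commutatorElement_def]
      exact R.mul_mem (hRn.conj_mem _ (hER e he) _) (R.inv_mem (hER e he))
    obtain ⟨k, hk⟩ := IsPGroup.iff_orderOf.1 hRp ⟨_, h2⟩
    rw [Subgroup.orderOf_mk] at hk
    exact orderOf_eq_one_iff.1 (Nat.eq_one_of_dvd_coprimes (hL.pow_right k)
      ((orderOf_map_dvd f _).trans (L.orderOf_dvd_natCard h1)) hk.dvd)
  let a : MulAut R := MulAut.conjNormal (f l)
  have ha : (orderOf a).Coprime p := hL.coprime_dvd_left ((orderOf_map_dvd _ _).trans hlord)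
  set E' := (E.map f).subgroupOf R with hE'
  set Q := Subgroup.centralizer (E' : Set R) with hQ
  have haE : ∀ x ∈ E', a x = x := fun x hx => by
    obtain ⟨e, he, hex⟩ := Subgroup.mem_subgroupOf.1 hx
    apply Subtype.ext
    rw [MulAut.conjNormal_apply, ← hex, hcommE e he, mul_inv_cancel_right]
  have haQ : ∀ x ∈ Q, a x ∈ Q := fun x hx => Subgroup.mem_centralizer_iff.2 fun y hy => by
    have h := congrArg a (Subgroup.mem_centralizer_iff.1 hx y hy)
    rwa [map_mul, map_mul, haE y hy] at h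
  have hQE : E' ≤ Q := fun x hx => Subgroup.mem_centralizer_iff.2 fun y hy => by
    obtain ⟨e, he, hex⟩ := Subgroup.mem_subgroupOf.1 hx
    obtain ⟨e', he', hey⟩ := Subgroup.mem_subgroupOf.1 hy
    apply Subtype.ext
    rw [Subgroup.coe_mul, Subgroup.coe_mul, ← hex, ← hey, ← map_mul, ← map_mul,
      show e' * e = e * e' from congrArg Subtype.val (mul_comm' (⟨e', he'⟩ : E) ⟨e, he⟩)]
  -- the elements of order `p` centralizing `E` lie in `E`
  have homega : ∀ x ∈ Q, x ^ p = 1 → x ∈ E' := by
    intro x hx hxp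
    obtain ⟨y, hy, hyx⟩ : (x : G ⧸ K) ∈ (P : Subgroup G).map f := by rw [hPR]; exact x.2
    have hyp : y ^ p = 1 := Cfsg.Agent.Transfer.PLengthOne.eq_of_map_eq P ((P : Subgroup G).pow_mem hy p)
      (P : Subgroup G).one_mem (by rw [map_pow, map_one, ← hf, hyx, ← Subgroup.coe_pow, hxp, Subgroup.coe_one])
    have hye : ∀ e ∈ E, e * y = y * e := fun e he =>
      Cfsg.Agent.Transfer.PLengthOne.eq_of_map_eq P ((P : Subgroup G).mul_mem (hP he) hy)
        ((P : Subgroup G).mul_mem hy (hP he)) (by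
          rw [map_mul, map_mul, ← hf, hyx]
          exact congrArg Subtype.val (Subgroup.mem_centralizer_iff.1 hx ⟨f e, hER e he⟩ ⟨e, he, rfl⟩))
    have hcom : ∀ u ∈ insert y (E : Set G), ∀ v ∈ insert y (E : Set G), u * v = v * u := by
      rintro u (rfl | hu) v (rfl | hv)
      · rfl
      · exact (hye v hv).symm
      · exact hye u hu
      · exact congrArg Subtype.val (mul_comm' (⟨u, hu⟩ : E) ⟨v, hv⟩)
    haveI := Subgroup.isMulCommutative_closure hcom
    have hB : Cfsg.IsElementaryAbelian p (Subgroup.closure (insert y (E : Set G))) := by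
      refine ⟨inferInstance, fun g hg => ?_⟩
      induction hg using Subgroup.closure_induction with
      | mem z hz => rcases hz with rfl | hz; exacts [hyp, hE.2 z hz]
      | one => exact one_pow p
      | mul u v hu hv hu1 hv1 =>
        have hc : Commute u v := congrArg Subtype.val
          (mul_comm' (⟨u, hu⟩ : Subgroup.closure (insert y (E : Set G))) ⟨v, hv⟩)
        rw [hc.mul_pow, hu1, hv1, one_mul]
      | inv u hu hu1 => rw [inv_pow, hu1, inv_one]
    have := hEmax _ hB (fun e he => Subgroup.subset_closure (Set.mem_insert_of_mem y he))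
    exact ⟨y, this ▸ Subgroup.subset_closure (Set.mem_insert y _), hyx⟩
  have hQfix : ∀ x ∈ Q, a x = x := by
    have hQmap : Q.map a.toMonoidHom = Q :=
      Subgroup.eq_of_le_of_card_ge (by rintro _ ⟨x, hx, rfl⟩; exact haQ x hx)
        (Subgroup.card_map_of_injective a.injective).ge
    let b : MulAut Q := (a.subgroupMap Q).trans (MulEquiv.subgroupCongr hQmap)
    have hb : ∀ x : Q, ((b x : Q) : R) = a x := fun x => rfl
    have hbpow : ∀ (n : ℕ) (x : Q), (((b ^ n) x : Q) : R) = (a ^ n) x := fun n => by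
      induction n with
      | zero => simp
      | succ n ih => intro x; rw [pow_succ', pow_succ', MulAut.mul_apply, MulAut.mul_apply, hb, ih]
    have hbo : (orderOf b).Coprime p := ha.coprime_dvd_left (orderOf_dvd_of_pow_eq_one (MulEquiv.ext fun x =>
      Subtype.ext (by rw [hbpow, pow_orderOf_eq_one]; rfl)))
    have := Cfsg.Agent.Transfer.aut_eq_one_of_fix_omega hp (hRp.to_subgroup Q) hbo fun x hx => Subtype.ext (by
      rw [hb]
      exact haE _ (homega x x.2 (by rw [← Subgroup.coe_pow, hx, Subgroup.coe_one])))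
    intro x hx
    rw [← hb ⟨x, hx⟩, this]
    rfl
  have hQC : Subgroup.centralizer (Q : Set R) ≤ Q := Subgroup.centralizer_le hQE
  have h1 := Cfsg.Agent.Transfer.PLengthOne.aut_eq_one_of_fixed_self_centralizing hRp hQC ha hQfix
  have h2 : f l ∈ Subgroup.centralizer (R : Set (G ⧸ K)) := Subgroup.mem_centralizer_iff.2 fun y hy => by
    have h3 := congrArg (fun b : MulAut R => ((b ⟨y, hy⟩ : R) : G ⧸ K)) h1
    simp only [a, MulAut.conjNormal_apply, MulAut.one_apply] at h3
    exact (mul_inv_eq_iff_eq_mul.1 h3).symm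
  obtain ⟨k, hk⟩ := IsPGroup.iff_orderOf.1 hRp ⟨_, Cfsg.Agent.Transfer.PLengthOne.centralizer_pCore_le hpl h2⟩
  rw [Subgroup.orderOf_mk] at hk
  exact (QuotientGroup.eq_one_iff l).1
    (orderOf_eq_one_iff.1 (Nat.eq_one_of_dvd_coprimes (hL.pow_right k) hlord hk.dvd))

end Cfsg.Agent.S1462
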