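import Cfsg.Statements.S1464
import Cfsg.Agent.Lib.Transfer.PStableFree
import Mathlib

set_option maxHeartbeats 1000000
set_option maxRecDepth 8000

set_option autoImplicit false
open Cfsg

namespace Cfsg.Agent.S1464

/-- Let p be an odd prime and G a solvable group of odd order, P a p-subgroup with O_{p'}(G)P normal in G, and A a p-subgroup of N_G(P) with [[P, A], A] = 1. Then the image of A in the quotient N_G(P)/C_G(P) is contained in the p-core of that quotient. -/
theorem result {G : Type*} [Group G] [Finite G] [Group.IsSolvable G] (hodd : Odd (Nat.card G)) (p : ℕ) [Fact p.Prime] (hp : p ≠ 2) (P A : Subgroup G) (hP : IsPGroup p P) (hPn : (Cfsg.pPrimeCore p G ⊔ P).Normal)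
    (hA : IsPGroup p A) (hAN : A ≤ Subgroup.normalizer (P : Set G)) (hquad : ⁅⁅P, A⁆, A⁆ = ⊥) :
    (A.subgroupOf (Subgroup.normalizer (P : Set G))).map
        (QuotientGroup.mk' ((Subgroup.centralizer (P : Set G)).subgroupOf (Subgroup.normalizer (P : Set G))))
      ≤ Cfsg.pCore p _ := by
  classical
  have hfree : ¬ Cfsg.Involves ↥(Cfsg.qd p) G := Transfer.qdFree_of_sylow_two_comm hp fun T => by
    obtain ⟨k, hk⟩ := IsPGroup.iff_card.1 T.isPGroup'
    have hd : Nat.card (T : Subgroup G) ∣ Nat.card G := Subgroup.card_subgroup_dvd_card _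
    rw [hk] at hd
    rcases k with _ | k
    · rw [pow_zero] at hk
      have := (Nat.card_eq_one_iff_unique.1 hk).1
      exact ⟨⟨fun a b => Subsingleton.elim _ _⟩⟩
    · exact absurd ((dvd_pow_self 2 k.succ_ne_zero).trans hd) hodd.not_two_dvd_nat
  have hst := Grp.Quad.isNormalizerPStable_of_free hp hfree
  rintro _ ⟨⟨a, haN⟩, ha, rfl⟩
  refine hst P hP a haN (le_bot_iff.1 ?_)
  rw [← hquad]
  have hz : Subgroup.zpowers a ≤ A := Subgroup.zpowers_le.2 ha
  exact Subgroup.commutator_mono (Subgroup.commutator_mono le_rfl hz) hz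

end Cfsg.Agent.S1464
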