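import Cfsg.Statements.S1466
import Cfsg.Agent.Lib.Transfer.Puig
import Cfsg.Agent.Lib.Invol.OneInvol

set_option maxHeartbeats 1000000
set_option maxRecDepth 8000

set_option autoImplicit false
open Cfsg

namespace Cfsg.Agent.S1466

/-- Let p be a prime and R a nontrivial finite p-group. Then for every i > 0, Z(R) ≤ C_R(L_i(R)) ≤ L_i(R); likewise Z(R) ≤ C_R(L_*(R)) ≤ L_*(R) and Z(R) ≤ C_R(L(R)) ≤ L(R); and L(R) ≠ 1, L_*(R) ≠ 1. -/
theorem result {R : Type*} [Group R] [Finite R] (p : ℕ) [Fact p.Prime] (hR : IsPGroup p R) [Nontrivial R] :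
    (∀ i : ℕ, 0 < i → Subgroup.center R ≤ Subgroup.centralizer ((Cfsg.puigSeq R i : Subgroup R) : Set R) ∧
        Subgroup.centralizer ((Cfsg.puigSeq R i : Subgroup R) : Set R) ≤ Cfsg.puigSeq R i) ∧
      (Subgroup.center R ≤ Subgroup.centralizer ((Cfsg.puigLower R : Subgroup R) : Set R) ∧ Subgroup.centralizer ((Cfsg.puigLower R : Subgroup R) : Set R) ≤ Cfsg.puigLower R) ∧
      (Subgroup.center R ≤ Subgroup.centralizer ((Cfsg.puigSubgroup R : Subgroup R) : Set R) ∧ Subgroup.centralizer ((Cfsg.puigSubgroup R : Subgroup R) : Set R) ≤ Cfsg.puigSubgroup R) ∧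
      Cfsg.puigSubgroup R ≠ ⊥ ∧ Cfsg.puigLower R ≠ ⊥ := by
  haveI : Group.IsNilpotent R := hR.isNilpotent
  obtain ⟨A, hAn, hAab, hAc⟩ := Cfsg.Agent.OneInvol.exists_selfCentralizing_abelian (R := R)
  have hA' : IsMulCommutative A := ⟨⟨fun a b => Subtype.ext (hAab a a.2 b b.2)⟩⟩
  have hAL : ∀ i : ℕ, 0 < i → A ≤ Cfsg.puigSeq R i := fun i hi => by
    obtain ⟨j, rfl⟩ : ∃ j, i = j + 1 := ⟨i - 1, by omega⟩
    exact Cfsg.Agent.Transfer.Puig.le_step hA' (le_top.trans (Subgroup.normalizer_eq_top A).ge)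
  obtain ⟨k, hk⟩ := Cfsg.Agent.Transfer.Puig.eventually_eq (G := R)
  have hlow : A ≤ Cfsg.puigLower R := by
    rw [← (hk (k + 1) (by omega)).1]; exact hAL _ (by omega)
  have hsub : A ≤ Cfsg.puigSubgroup R := by
    rw [← (hk k le_rfl).2]; exact hAL _ (by omega)
  have key : ∀ L : Subgroup R, A ≤ L → Subgroup.center R ≤ Subgroup.centralizer (L : Set R) ∧
      Subgroup.centralizer (L : Set R) ≤ L := fun L hL =>
    ⟨Subgroup.center_le_centralizer _, fun x hx => hL (hAc x fun a ha => Subgroup.mem_centralizer_iff.1 hx a (hL ha))⟩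
  have hne : ∀ L : Subgroup R, A ≤ L → L ≠ ⊥ := fun L hL h => by
    haveI := hR.center_nontrivial
    obtain ⟨⟨z, hz⟩, hz1⟩ := exists_ne (1 : Subgroup.center R)
    have h1 : z ∈ A := hAc z fun a _ => Subgroup.mem_center_iff.1 hz a
    rw [h] at hL
    exact hz1 (Subtype.ext (Subgroup.mem_bot.1 (hL h1)))
  exact ⟨fun i hi => key _ (hAL i hi), key _ hlow, key _ hsub, hne _ hsub, hne _ hlow⟩

end Cfsg.Agent.S1466
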