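import Cfsg.Statements.S1468
import Mathlib
import Cfsg.Agent.S1465
import Cfsg.Agent.S1466
import Cfsg.Agent.Lib.Transfer.PuigIn
import Cfsg.Agent.Lib.Grp.Cores

set_option maxHeartbeats 1000000
set_option maxRecDepth 8000

set_option autoImplicit false
open Cfsg

namespace Cfsg.Agent.S1468

theorem odd_sylow_two {G : Type*} [Group G] [Finite G] (hodd : Odd (Nat.card G)) (T : Sylow 2 G) :
    IsMulCommutative T := by
  obtain ⟨k, hk⟩ := IsPGroup.iff_card.1 T.isPGroup'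
  have hd : Nat.card (T : Subgroup G) ∣ Nat.card G := Subgroup.card_subgroup_dvd_card _
  rw [hk] at hd
  rcases k with _ | k
  · rw [pow_zero] at hk
    have := (Nat.card_eq_one_iff_unique.1 hk).1
    exact ⟨⟨fun a b => Subsingleton.elim _ _⟩⟩
  · exact absurd ((dvd_pow_self 2 k.succ_ne_zero).trans hd) hodd.not_two_dvd_nat

theorem main {G : Type*} [Group G] [Finite G] [Group.IsSolvable G] (hodd : Odd (Nat.card G)) (p : ℕ) [Fact p.Prime] (hp : p ≠ 2) (hO : Cfsg.pPrimeCore p G = ⊥) (S : Sylow p G) :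
    ∀ n, Cfsg.Agent.Transfer.PuigIn.seqIn (S : Subgroup G) (2 * n) ≤ Cfsg.Agent.Transfer.PuigIn.seqIn (Cfsg.pCore p G) (2 * n) ∧
      Cfsg.Agent.Transfer.PuigIn.seqIn (Cfsg.pCore p G) (2 * n + 1) ≤ Cfsg.Agent.Transfer.PuigIn.seqIn (S : Subgroup G) (2 * n + 1) := by
  set T := Cfsg.pCore p G with hT
  haveI : T.Normal := Cfsg.Agent.Grp.pCore_isNormal
  have hTS : T ≤ (S : Subgroup G) := Cfsg.Agent.Grp.pCore_le_sylow S
  intro n
  induction n with
  | zero =>
    refine ⟨?_, ?_⟩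
    · simp [Cfsg.Agent.Transfer.PuigIn.seqIn_zero]
    · rw [Cfsg.Agent.Transfer.PuigIn.seqIn_one, Cfsg.Agent.Transfer.PuigIn.seqIn_one]; exact hTS
  | succ n ih =>
    have heven : Cfsg.Agent.Transfer.PuigIn.seqIn (S : Subgroup G) (2 * (n + 1)) ≤ Cfsg.Agent.Transfer.PuigIn.seqIn T (2 * (n + 1)) := by
      refine Cfsg.Agent.Transfer.PuigIn.seqIn_succ_le (n := 2 * n + 1) fun A hA hAc hAn => ?_
      set Y := Cfsg.Agent.Transfer.PuigIn.seqIn T (2 * n + 1) with hY
      haveI hYn : Y.Normal := Subgroup.normalizer_eq_top_iff.1 (top_le_iff.1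
        (le_trans (Subgroup.normalizer_eq_top T).ge (Cfsg.Agent.Transfer.PuigIn.normalizer_le_seqIn T _)))
      have hYA : Y ≤ Subgroup.normalizer (A : Set G) := ih.2.trans hAn
      have hYT : Y ≤ T := Cfsg.Agent.Transfer.PuigIn.seqIn_le _ _
      have hAT : A ≤ T := by
        have h1 := (S1465.result hodd p hp Y (Cfsg.Agent.Grp.pCore_isPGroup.to_le hYT) {A} (fun B hB => by
          rw [Set.mem_singleton_iff] at hB
          subst hB
          exact ⟨hAc, S.isPGroup'.to_le hA, hYA⟩)).2 hO ?_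
        · rwa [sSup_singleton] at h1
        · intro c hc
          rcases subsingleton_or_nontrivial T with hsub | hnt
          · have : (⟨c, hc.1⟩ : T) = 1 := Subsingleton.elim _ _
            rw [show c = 1 from congrArg Subtype.val this]; exact Y.one_mem
          · have h2 := ((S1466.result p (Cfsg.Agent.Grp.pCore_isPGroup (p := p) (G := G))).1 (2 * n + 1) (by omega)).2
            refine ⟨⟨c, hc.1⟩, h2 (Subgroup.mem_centralizer_iff.2 fun y hy => Subtype.ext ?_), rfl⟩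
            exact (Subgroup.mem_centralizer_iff.1 hc.2) _ ⟨y, hy, rfl⟩
      exact Cfsg.Agent.Transfer.PuigIn.le_seqIn_succ hAT hAc hYA
    refine ⟨heven, Cfsg.Agent.Transfer.PuigIn.seqIn_succ_le fun A hA hAc hAn => ?_⟩
    exact Cfsg.Agent.Transfer.PuigIn.le_seqIn_succ (hA.trans hTS) hAc (heven.trans hAn)

/-- Let p be an odd prime, G a solvable group of odd order with O_{p'}(G) = 1, S a Sylow p-subgroup and T = O_p(G). Then, viewing the Puig subgroups of S and of T inside G, L_*(S) ≤ L_*(T) ≤ L(T) ≤ L(S). -/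
theorem result {G : Type*} [Group G] [Finite G] [Group.IsSolvable G] (hodd : Odd (Nat.card G)) (p : ℕ) [Fact p.Prime] (hp : p ≠ 2) (hO : Cfsg.pPrimeCore p G = ⊥) (S : Sylow p G) :
    (Cfsg.puigLower ↥(S : Subgroup G)).map (S : Subgroup G).subtype ≤ (Cfsg.puigLower ↥(Cfsg.pCore p G)).map (Cfsg.pCore p G).subtype ∧
      (Cfsg.puigLower ↥(Cfsg.pCore p G)).map (Cfsg.pCore p G).subtype ≤ (Cfsg.puigSubgroup ↥(Cfsg.pCore p G)).map (Cfsg.pCore p G).subtype ∧
      (Cfsg.puigSubgroup ↥(Cfsg.pCore p G)).map (Cfsg.pCore p G).subtype ≤ (Cfsg.puigSubgroup ↥(S : Subgroup G)).map (S : Subgroup G).subtype := by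

  obtain ⟨k, hk⟩ := Cfsg.Agent.Transfer.PuigIn.exists_stable (S : Subgroup G)
  obtain ⟨l, hl⟩ := Cfsg.Agent.Transfer.PuigIn.exists_stable (Cfsg.pCore p G)
  obtain ⟨h1, h2⟩ := main hodd p hp hO S (max k l)
  obtain ⟨e1, e2⟩ := hk (max k l) (le_max_left _ _)
  obtain ⟨e3, e4⟩ := hl (max k l) (le_max_right _ _)
  rw [← e1, ← e2, ← e3, ← e4]
  exact ⟨h1, Cfsg.Agent.Transfer.PuigIn.even_le_odd _ _ _, h2⟩

end Cfsg.Agent.S1468
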