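import Cfsg.Statements.S1469
import Mathlib
import Cfsg.Agent.S1465
import Cfsg.Agent.S1466
import Cfsg.Agent.S1468
import Cfsg.Agent.Lib.Transfer.PuigIn
import Cfsg.Agent.Lib.Grp.Cores
import Cfsg.Agent.Lib.Grp.Frattini

set_option maxHeartbeats 1000000
set_option maxRecDepth 8000

set_option autoImplicit false
open Cfsg
set_option maxHeartbeats 1000000

namespace Cfsg.Agent.S1469

/-- The centre of the Puig subgroup, inside the ambient group. -/
def zlIn {G : Type*} [Group G] (S : Subgroup G) : Subgroup G :=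
  ((Subgroup.center ↥(Cfsg.puigSubgroup ↥S)).map (Cfsg.puigSubgroup ↥S).subtype).map S.subtype

theorem mem_zlIn {G : Type*} [Group G] {S : Subgroup G} {x : G} :
    x ∈ zlIn S ↔ x ∈ (Cfsg.puigSubgroup ↥S).map S.subtype ∧ ∀ y ∈ (Cfsg.puigSubgroup ↥S).map S.subtype, y * x = x * y := by
  constructor
  · rintro ⟨_, ⟨w, hw, rfl⟩, rfl⟩
    refine ⟨⟨w, w.2, rfl⟩, ?_⟩
    rintro _ ⟨y, hy, rfl⟩
    exact congrArg (fun z : Cfsg.puigSubgroup ↥S => ((z : S) : G)) (Subgroup.mem_center_iff.1 hw ⟨y, hy⟩)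
  · rintro ⟨⟨w, hw, rfl⟩, hc⟩
    exact ⟨w, ⟨⟨w, hw⟩, Subgroup.mem_center_iff.2 fun y => Subtype.ext (Subtype.ext (hc _ ⟨y, y.2, rfl⟩)), rfl⟩, rfl⟩

theorem zl_normal {G : Type*} [Group G] [Finite G] [Group.IsSolvable G] (hodd : Odd (Nat.card G)) (p : ℕ) [Fact p.Prime] (hp : p ≠ 2) (hO : Cfsg.pPrimeCore p G = ⊥) (S : Sylow p G) :
    (zlIn (S : Subgroup G)).Normal := by
  classical
  set T := Cfsg.pCore p G with hT
  haveI hTn : T.Normal := Cfsg.Agent.Grp.pCore_isNormal
  have hTS : T ≤ (S : Subgroup G) := Cfsg.Agent.Grp.pCore_le_sylow S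
  obtain ⟨hLs, hLT, hUT⟩ := S1468.result hodd p hp hO S
  set W := (Cfsg.puigLower ↥(S : Subgroup G)).map (S : Subgroup G).subtype
  set U := (Cfsg.puigSubgroup ↥(S : Subgroup G)).map (S : Subgroup G).subtype with hU
  set V := (Cfsg.puigSubgroup ↥T).map T.subtype with hV
  have hWV : W ≤ V := hLs.trans hLT
  obtain ⟨l, hl⟩ := Cfsg.Agent.Transfer.PuigIn.exists_stable T
  haveI hVn : V.Normal := Subgroup.normalizer_eq_top_iff.1 (top_le_iff.1 (by
    rw [hV, ← (hl l le_rfl).2]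
    exact le_trans (Subgroup.normalizer_eq_top T).ge (Cfsg.Agent.Transfer.PuigIn.normalizer_le_seqIn T _)))
  set Z₀ := V ⊓ Subgroup.centralizer (V : Set G) with hZ₀
  set K := Subgroup.centralizer (Z₀ : Set G) with hK
  -- `Z(L(S))` lies in `Z₀`
  have hsub : zlIn (S : Subgroup G) ≤ Z₀ := by
    intro x hx
    obtain ⟨hxU, hxc⟩ := mem_zlIn.1 hx
    have hxV : x ∈ Subgroup.centralizer (V : Set G) := Subgroup.mem_centralizer_iff.2 fun y hy => hxc y (hUT hy)
    refine ⟨?_, hxV⟩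
    -- `x` lies in `T`
    have hVT : V ≤ T := Subgroup.map_subtype_le _
    have hinT : T ⊓ Subgroup.centralizer (V : Set G) ≤ V := by
      intro c hc
      rcases subsingleton_or_nontrivial T with hsub | hnt
      · have : (⟨c, hc.1⟩ : T) = 1 := Subsingleton.elim _ _
        rw [show c = 1 from congrArg Subtype.val this]; exact V.one_mem
      · have h2 := (S1466.result p (Cfsg.Agent.Grp.pCore_isPGroup (p := p) (G := G))).2.2.1.2
        refine ⟨⟨c, hc.1⟩, h2 (Subgroup.mem_centralizer_iff.2 fun y hy => Subtype.ext ?_), rfl⟩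
        exact (Subgroup.mem_centralizer_iff.1 hc.2) _ ⟨y, hy, rfl⟩
    refine hinT ⟨?_, hxV⟩
    have h1 := (S1465.result hodd p hp V (Cfsg.Agent.Grp.pCore_isPGroup.to_le hVT) {Subgroup.zpowers x} (fun B hB => by
      rw [Set.mem_singleton_iff] at hB
      subst hB
      refine ⟨inferInstance, S.isPGroup'.to_le (Subgroup.zpowers_le.2 (Subgroup.map_subtype_le _ hxU)), fun y hy => ?_⟩
      have hle : Subgroup.zpowers x ≤ Subgroup.centralizer ({y} : Set G) := Subgroup.zpowers_le.2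
        (Subgroup.mem_centralizer_singleton_iff.2 ((Subgroup.mem_centralizer_iff.1 hxV) y hy).symm)
      refine Subgroup.mem_normalizer_fintype fun z hz => ?_
      rw [SetLike.mem_coe, ← Subgroup.mem_centralizer_singleton_iff.1 (hle hz), mul_inv_cancel_right]
      exact hz)).2 hO hinT
    rw [sSup_singleton] at h1
    exact h1 (Subgroup.mem_zpowers x)
  -- `L(S)` lies in the preimage `D` of `O_p(G / K)`
  haveI hZ₀n : Z₀.Normal := Subgroup.normal_inf_normal _ _
  set D := (Cfsg.pCore p (G ⧸ K)).comap (QuotientGroup.mk' K) with hD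
  haveI : (Cfsg.pCore p (G ⧸ K)).Normal := Cfsg.Agent.Grp.pCore_isNormal
  haveI hDn : D.Normal := inferInstance
  have hKD : K ≤ D := QuotientGroup.le_comap_mk' _ _
  have hWZ : W ≤ K := fun w hw => Subgroup.mem_centralizer_iff.2 fun z hz =>
    (Subgroup.mem_centralizer_iff.1 hz.2 w (hWV hw)).symm
  obtain ⟨k, hk⟩ := Cfsg.Agent.Transfer.PuigIn.exists_stable (S : Subgroup G)
  have hUD : U ≤ D := by
    rw [hU, ← (hk k le_rfl).2]
    refine Cfsg.Agent.Transfer.PuigIn.seqIn_succ_le fun A hA hAc hAn => ?_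
    rw [(hk k le_rfl).1] at hAn
    have hZA : Z₀ ≤ Subgroup.normalizer (A : Set G) := by
      refine le_trans ?_ hAn
      -- `Z₀` centralizes `L_*(S)`, so lies in it
      intro z hz
      have hzS : z ∈ (S : Subgroup G) := hTS (Subgroup.map_subtype_le _ hz.1)
      rcases subsingleton_or_nontrivial (S : Subgroup G) with hsub | hnt
      · have : (⟨z, hzS⟩ : (S : Subgroup G)) = 1 := Subsingleton.elim _ _
        rw [show z = 1 from congrArg Subtype.val this]; exact W.one_mem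
      · refine ⟨⟨z, hzS⟩, (S1466.result p S.isPGroup').2.1.2 (Subgroup.mem_centralizer_iff.2 fun y hy => Subtype.ext ?_), rfl⟩
        exact (Subgroup.mem_centralizer_iff.1 hz.2) _ (hWV ⟨y, hy, rfl⟩)
    have h1 := (S1465.result hodd p hp Z₀ (Cfsg.Agent.Grp.pCore_isPGroup.to_le (inf_le_left.trans (Subgroup.map_subtype_le _))) {A}
      (fun B hB => by
        rw [Set.mem_singleton_iff] at hB
        subst hB
        exact ⟨hAc, S.isPGroup'.to_le hA, hZA⟩)).1
    rw [sSup_singleton, Subgroup.map_le_iff_le_comap] at h1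
    exact h1
  set R := (S : Subgroup G) ⊓ D with hR
  have hRp : IsPGroup p R := S.isPGroup'.to_le inf_le_left
  have heq := Cfsg.Agent.Transfer.PuigIn.puigSubgroup_eq (S := (S : Subgroup G)) (R := R) inf_le_left
    (le_inf (Subgroup.map_subtype_le _) hUD)
  have hKnorm : K ≤ Subgroup.normalizer (zlIn (S : Subgroup G) : Set G) := fun y hy =>
    Subgroup.mem_normalizer_fintype fun z hz => by
      rw [SetLike.mem_coe, ← (Subgroup.mem_centralizer_iff.1 hy) z (hsub hz), mul_inv_cancel_right]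
      exact hz
  have hUnorm : Subgroup.normalizer (U : Set G) ≤ Subgroup.normalizer (zlIn (S : Subgroup G) : Set G) := by
    intro g hg
    refine Subgroup.mem_normalizer_fintype fun z hz => ?_
    obtain ⟨hzU, hzc⟩ := mem_zlIn.1 hz
    refine mem_zlIn.2 ⟨(Subgroup.mem_normalizer_iff.1 hg z).1 hzU, fun y hy => ?_⟩
    have hy' : g⁻¹ * y * g ∈ U := (Subgroup.mem_normalizer_iff.1 hg _).2
      (by rw [show g * (g⁻¹ * y * g) * g⁻¹ = y by group]; exact hy)
    calc y * (g * z * g⁻¹) = g * ((g⁻¹ * y * g) * z) * g⁻¹ := by group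
      _ = g * (z * (g⁻¹ * y * g)) * g⁻¹ := by rw [hzc _ hy']
      _ = g * z * g⁻¹ * y := by group
  have hRU : Subgroup.normalizer (R : Set G) ≤ Subgroup.normalizer (U : Set G) := by
    obtain ⟨r, hr⟩ := Cfsg.Agent.Transfer.PuigIn.exists_stable R
    rw [hU, ← heq, ← (hr r le_rfl).2]
    exact Cfsg.Agent.Transfer.PuigIn.normalizer_le_seqIn R _
  refine Subgroup.normalizer_eq_top_iff.1 (top_le_iff.1 ?_)
  -- Frattini argument
  have hfr : Subgroup.normalizer (R : Set G) ⊔ D = ⊤ := by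
    let Q : Sylow p D := (S.isPGroup'.comap_subtype (K := D)).toSylow (Cfsg.Agent.Grp.sylow_inf_normal_relIndex S D)
    have hmap : (Q : Subgroup D).map D.subtype = R := Subgroup.subgroupOf_map_subtype _ _
    have := Sylow.normalizer_sup_eq_top Q
    rwa [hmap] at this
  have hDR : D ≤ K ⊔ R := by
    have hmap : (Cfsg.pCore p (G ⧸ K)) ≤ ((S.mapSurjective (QuotientGroup.mk'_surjective K) : Sylow p _) : Subgroup (G ⧸ K)) :=
      Cfsg.Agent.Grp.pCore_le_sylow _
    intro d hd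
    obtain ⟨s, hs, hsd⟩ := hmap hd
    have h2 : s⁻¹ * d ∈ K := by
      rw [← QuotientGroup.eq_one_iff, QuotientGroup.mk_mul, QuotientGroup.mk_inv]
      rw [show (d : G ⧸ K) = (s : G ⧸ K) from hsd.symm, inv_mul_cancel]
    have hsD : s ∈ D := by
      have : s = d * (s⁻¹ * d)⁻¹ := by group
      rw [this]; exact D.mul_mem hd (D.inv_mem (hKD h2))
    rw [show d = s * (s⁻¹ * d) by group]
    exact Subgroup.mul_mem _ (Subgroup.mem_sup_right ⟨hs, hsD⟩) (Subgroup.mem_sup_left h2)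
  rw [← hfr]
  exact sup_le (hRU.trans hUnorm) (hDR.trans (sup_le hKnorm ((Subgroup.le_normalizer.trans hRU).trans hUnorm)))

/-- Let p be an odd prime, G a solvable group of odd order and S a Sylow p-subgroup, and let Z be the centre of the Puig subgroup L(S), viewed inside G. Then G is generated by O_{p'}(G) and N_G(Z); and if O_{p'}(G) = 1 then Z is normal in G. -/
theorem result {G : Type*} [Group G] [Finite G] [Group.IsSolvable G] (hodd : Odd (Nat.card G)) (p : ℕ) [Fact p.Prime] (hp : p ≠ 2) (S : Sylow p G) :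
    Cfsg.pPrimeCore p G ⊔ Subgroup.normalizer ((((Subgroup.center ↥(Cfsg.puigSubgroup ↥(S : Subgroup G))).map (Cfsg.puigSubgroup ↥(S : Subgroup G)).subtype).map (S : Subgroup G).subtype : Subgroup G) : Set G) = ⊤ ∧
      (Cfsg.pPrimeCore p G = ⊥ → (((Subgroup.center ↥(Cfsg.puigSubgroup ↥(S : Subgroup G))).map (Cfsg.puigSubgroup ↥(S : Subgroup G)).subtype).map (S : Subgroup G).subtype).Normal) := by

  refine ⟨?_, fun hO => zl_normal hodd p hp hO S⟩
  classical
  set N := Cfsg.pPrimeCore p G with hN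
  haveI : N.Normal := Cfsg.Agent.Grp.pPrimeCore_isNormal
  set π := QuotientGroup.mk' N with hπ
  have hπs : Function.Surjective π := QuotientGroup.mk'_surjective N
  haveI : Group.IsSolvable (G ⧸ N) := Group.isSolvable_of_surjective hπs
  have hn := zl_normal (hodd.of_dvd_nat (Subgroup.card_quotient_dvd_card N)) p hp
    Cfsg.Agent.Grp.pPrimeCore_quotient_eq_bot (S.mapSurjective hπs)
  set Z := zlIn (S : Subgroup G) with hZ
  have hinj : Set.InjOn π (S : Subgroup G) := by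
    intro x hx y hy hxy
    have h1 : x⁻¹ * y ∈ N := QuotientGroup.eq.1 hxy
    obtain ⟨i, hi⟩ := IsPGroup.iff_orderOf.1 S.isPGroup' ⟨x⁻¹ * y, Subgroup.mul_mem _ (Subgroup.inv_mem _ hx) hy⟩
    rw [Subgroup.orderOf_mk] at hi
    have : x⁻¹ * y = 1 := orderOf_eq_one_iff.1 (Nat.eq_one_of_dvd_coprimes
      ((Cfsg.Agent.Grp.pPrimeCore_coprime (p := p) (G := G)).symm.pow_left i) hi.dvd (N.orderOf_dvd_natCard h1))
    exact inv_mul_eq_one.1 this
  obtain ⟨k, hk⟩ := Cfsg.Agent.Transfer.PuigIn.exists_stable (S : Subgroup G)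
  obtain ⟨l, hl⟩ := Cfsg.Agent.Transfer.PuigIn.exists_stable ((S.mapSurjective hπs : Sylow p _) : Subgroup (G ⧸ N))
  have hUmap : ((Cfsg.puigSubgroup ↥(S : Subgroup G)).map (S : Subgroup G).subtype).map π =
      (Cfsg.puigSubgroup ↥((S.mapSurjective hπs : Sylow p _) : Subgroup (G ⧸ N))).map
        ((S.mapSurjective hπs : Sylow p _) : Subgroup (G ⧸ N)).subtype := by
    rw [← (hk (max k l) (le_max_left _ _)).2, ← (hl (max k l) (le_max_right _ _)).2]
    exact Cfsg.Agent.Transfer.PuigIn.seqIn_map π hinj rfl _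
  have hZmap : Z.map π = zlIn ((S.mapSurjective hπs : Sylow p _) : Subgroup (G ⧸ N)) := by
    refine le_antisymm ?_ ?_
    · rintro _ ⟨z, hz, rfl⟩
      obtain ⟨hzU, hzc⟩ := mem_zlIn.1 hz
      refine mem_zlIn.2 ⟨hUmap ▸ Subgroup.mem_map_of_mem π hzU, ?_⟩
      intro y hy
      rw [← hUmap] at hy
      obtain ⟨y, hy, rfl⟩ := hy
      rw [← map_mul, ← map_mul, hzc y hy]
    · intro x hx
      obtain ⟨hxU, hxc⟩ := mem_zlIn.1 hx
      rw [← hUmap] at hxU hxc
      obtain ⟨z, hz, rfl⟩ := hxU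
      refine ⟨z, mem_zlIn.2 ⟨hz, fun y hy => hinj ?_ ?_ ?_⟩, rfl⟩
      · exact Subgroup.mul_mem _ (Subgroup.map_subtype_le _ hy) (Subgroup.map_subtype_le _ hz)
      · exact Subgroup.mul_mem _ (Subgroup.map_subtype_le _ hz) (Subgroup.map_subtype_le _ hy)
      · rw [map_mul, map_mul]; exact hxc _ (Subgroup.mem_map_of_mem π hy)
  set J := (Z.map π).comap π with hJ
  haveI hJn : J.Normal := by rw [hJ, hZmap]; exact hn.comap π
  have hJeq : J = Z ⊔ N := by rw [hJ, Subgroup.comap_map_eq, QuotientGroup.ker_mk']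
  show N ⊔ Subgroup.normalizer (Z : Set G) = ⊤
  have hZJ : Z ≤ J := hJeq ▸ le_sup_left
  have hZS : Z ≤ (S : Subgroup G) := fun z hz => Subgroup.map_subtype_le _ (mem_zlIn.1 hz).1
  obtain ⟨Q, hQ⟩ := ((S.isPGroup'.to_le hZS).comap_subtype (K := J)).exists_le_sylow
  have hQeq : ((Q : Subgroup J)).map J.subtype = Z := by
    refine le_antisymm ?_ (fun z hz => ⟨⟨z, hZJ hz⟩, hQ (Subgroup.mem_subgroupOf.2 hz), rfl⟩)
    rintro _ ⟨q, hq, rfl⟩
    have hq2 : π (q : G) ∈ Z.map π := q.2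
    obtain ⟨z, hz, hzq⟩ := hq2
    have h1 : z⁻¹ * (q : G) ∈ N := QuotientGroup.eq.1 hzq
    obtain ⟨i, hi⟩ := IsPGroup.iff_orderOf.1 Q.isPGroup'
      ⟨(⟨z, hZJ hz⟩ : J)⁻¹ * q, Subgroup.mul_mem _ (Subgroup.inv_mem _ (hQ (Subgroup.mem_subgroupOf.2 hz))) hq⟩
    rw [Subgroup.orderOf_mk, ← Subgroup.orderOf_coe] at hi
    have : z⁻¹ * (q : G) = 1 := orderOf_eq_one_iff.1 (Nat.eq_one_of_dvd_coprimes
      ((Cfsg.Agent.Grp.pPrimeCore_coprime (p := p) (G := G)).symm.pow_left i) hi.dvd (N.orderOf_dvd_natCard h1))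
    rw [show J.subtype q = z from (inv_mul_eq_one.1 this).symm]
    exact hz
  have hF := Sylow.normalizer_sup_eq_top Q
  rw [hQeq, hJeq, ← sup_assoc, sup_eq_left.2 (Subgroup.le_normalizer (H := Z)), sup_comm] at hF
  exact hF

end Cfsg.Agent.S1469
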