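import Cfsg.Statements.S1471
import Cfsg.Agent.Lib.Transfer.NormOne

set_option maxHeartbeats 1000000
set_option maxRecDepth 8000

set_option autoImplicit false
open Cfsg

namespace Cfsg.Agent.S1471

/-- Let p and q be odd primes with (p^q − 1)/(p − 1) coprime to p − 1. Then there are at least two elements a of the field with p ^ q elements such that both a and 2 − a have norm 1 to the prime field. -/
theorem result (p q : ℕ) [Fact p.Prime] [Fact q.Prime] (hp : p ≠ 2) (hq : q ≠ 2) (hA : Nat.Coprime ((p ^ q - 1) / (p - 1)) (p - 1)) :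
    2 ≤ Set.ncard {a : GaloisField p q | Algebra.norm (ZMod p) a = 1 ∧ Algebra.norm (ZMod p) (2 - a) = 1} := by
  classical
  have hqp : q.Prime := Fact.out
  letI := Fintype.ofFinite (GaloisField p q)
  have hF : Fintype.card (GaloisField p q) = p ^ q := by rw [Fintype.card_eq_nat_card, GaloisField.card p q hqp.ne_zero]
  have hset : {a : GaloisField p q | Algebra.norm (ZMod p) a = 1 ∧ Algebra.norm (ZMod p) (2 - a) = 1} =
      Cfsg.Agent.Transfer.NormOne.pairSet (GaloisField p q) (∑ i ∈ Finset.range q, p ^ i) := by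
    ext a
    exact and_congr (Cfsg.Agent.Transfer.NormOne.norm_eq_one_iff hF a) (Cfsg.Agent.Transfer.NormOne.norm_eq_one_iff hF (2 - a))
  rw [hset]
  obtain ⟨a, ha, ha1⟩ := Cfsg.Agent.Transfer.NormOne.exists_ne_one hp hF hqp hq
  exact (Set.one_lt_ncard).2 ⟨1, Cfsg.Agent.Transfer.NormOne.one_mem_pairSet _ _, a, ha, ha1.symm⟩

end Cfsg.Agent.S1471
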