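import Cfsg.Statements.S1475
import Mathlib
import Cfsg.Agent.Lib.Grp.Basic
import Cfsg.Agent.Lib.Grp.Solvable
import Cfsg.Agent.Lib.Grp.FpfPrime

set_option maxHeartbeats 1000000
set_option maxRecDepth 8000

set_option autoImplicit false
open Cfsg

namespace Cfsg.Agent.S1475

theorem unique_prime {G : Type*} [Group G] (h : ∀ g : G, IsPrimePow (orderOf g) ∨ g = 1) (x : G)
    {a b : ℕ} (ha : a.Prime) (hb : b.Prime) (hax : a ∣ orderOf x) (hbx : b ∣ orderOf x) : a = b := by
  rcases h x with hx | rfl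
  · obtain ⟨s, k, hs, -, hk⟩ := (isPrimePow_nat_iff _).1 hx
    rw [← hk] at hax hbx
    rw [(Nat.prime_dvd_prime_iff_eq ha hs).1 (ha.dvd_of_dvd_pow hax),
      (Nat.prime_dvd_prime_iff_eq hb hs).1 (hb.dvd_of_dvd_pow hbx)]
  · rw [orderOf_one] at hax
    exact absurd (Nat.eq_one_of_dvd_one hax) ha.one_lt.ne'

theorem not_commute {G : Type*} [Group G] (h : ∀ g : G, IsPrimePow (orderOf g) ∨ g = 1) (x y : G)
    (hxy : Commute x y) {a b : ℕ} (ha : a.Prime) (hb : b.Prime) (hab : a ≠ b)
    (hax : orderOf x = a) (hby : orderOf y = b) : False := by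
  have ho : orderOf (x * y) = a * b := by
    rw [hxy.orderOf_mul_eq_mul_orderOf_of_coprime
      (by rw [hax, hby]; exact (Nat.coprime_primes ha hb).2 hab), hax, hby]
  exact hab (unique_prime h (x * y) ha hb (ho ▸ dvd_mul_right a b) (ho ▸ dvd_mul_left b a))

/-- Let G be a finite solvable group such that the order of every element is a prime power (1 included). Then at most two distinct primes divide the order of G. -/
theorem result {G : Type*} [Group G] [Finite G] [Group.IsSolvable G] (h : ∀ g : G, IsPrimePow (orderOf g) ∨ g = 1) :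
    (Nat.card G).primeFactors.card ≤ 2 := by

  classical
  by_contra hcon
  push Not at hcon
  have hnt : Nontrivial G := by
    by_contra hs
    rw [not_nontrivial_iff_subsingleton] at hs
    rw [Nat.card_of_subsingleton (1 : G)] at hcon
    simp at hcon
  obtain ⟨V, hV, hVne, -, hmin⟩ := Cfsg.Agent.Grp.exists_minimal_normal_le (G := G) (N := ⊤) top_ne_bot
  obtain ⟨p, hp, hVp⟩ := Cfsg.Agent.Grp.minimal_normal_solvable_isPGroup inferInstance hVne hmin
  obtain ⟨F, hVF, ⟨hF, hFp⟩, hFmax⟩ :=
    (Set.toFinite {K : Subgroup G | K.Normal ∧ IsPGroup p K}).exists_le_maximal (a := V) ⟨hV, hVp⟩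
  have hFtop : (⊤ : Subgroup (G ⧸ F)) ≠ ⊥ := by
    intro he
    have h1 : Subsingleton (G ⧸ F) := by
      refine ⟨fun a b => ?_⟩
      have hz : ∀ z : G ⧸ F, z = 1 := fun z => by
        have := Subgroup.mem_top z
        rw [he] at this
        exact Subgroup.mem_bot.1 this
      rw [hz a, hz b]
    have hFe : F = ⊤ := QuotientGroup.subgroup_eq_top_of_subsingleton F h1
    have := Fact.mk hp
    obtain ⟨k, hk⟩ := hFp.exists_card_eq
    rw [hFe, Subgroup.card_top] at hk
    rw [hk] at hcon
    rcases Nat.eq_zero_or_pos k with rfl | hk0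
    · simp at hcon
    · rw [Nat.primeFactors_prime_pow hk0.ne' hp, Finset.card_singleton] at hcon
      omega
  obtain ⟨W, hW, hWne, -, hWmin⟩ := Cfsg.Agent.Grp.exists_minimal_normal_le (G := G ⧸ F) (N := ⊤) hFtop
  obtain ⟨q, hq, hWq⟩ := Cfsg.Agent.Grp.minimal_normal_solvable_isPGroup inferInstance hWne hWmin
  set K := W.comap (QuotientGroup.mk' F) with hKdef
  have hFK : F ≤ K := fun x hx => by
    rw [hKdef, Subgroup.mem_comap]
    simp [(QuotientGroup.eq_one_iff x).2 hx]
  have hmapW : K.map (QuotientGroup.mk' F) = W :=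
    Subgroup.map_comap_eq_self_of_surjective (QuotientGroup.mk'_surjective F) W
  have hqp : q ≠ p := by
    rintro rfl
    have hKp : IsPGroup q K := by
      apply IsPGroup.comap_of_ker_isPGroup hWq
      rw [QuotientGroup.ker_mk']
      exact hFp
    have hKF : K ≤ F := hFmax ⟨inferInstance, hKp⟩ hFK
    apply hWne
    rw [← hmapW, Subgroup.map_eq_bot_iff, QuotientGroup.ker_mk']
    exact hKF
  obtain ⟨r, hr, hrp, hrq⟩ : ∃ r ∈ (Nat.card G).primeFactors, r ≠ p ∧ r ≠ q := by
    by_contra hno
    push Not at hno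
    have hsub : (Nat.card G).primeFactors ⊆ {p, q} := fun r hr => by
      rw [Finset.mem_insert, Finset.mem_singleton]
      by_cases h1 : r = p
      · exact Or.inl h1
      · exact Or.inr (hno r hr h1)
    have := (Finset.card_le_card hsub).trans (Finset.card_le_two)
    omega
  have hrpr := Nat.prime_of_mem_primeFactors hr
  have := Fact.mk hrpr
  have := Fact.mk hp
  have := Fact.mk hq
  obtain ⟨y, hy⟩ := exists_prime_orderOf_dvd_card' r (Nat.dvd_of_mem_primeFactors hr)
  -- prime divisors of the order of an element of `K` are `p` or `q`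
  have hprimes : ∀ k ∈ K, ∀ s : ℕ, s.Prime → s ∣ orderOf k → s = p ∨ s = q := by
    intro k hk s hs hsk
    obtain ⟨i, hi⟩ := hWq ⟨QuotientGroup.mk' F k, hk⟩
    have hmem : k ^ q ^ i ∈ F := by
      rw [← QuotientGroup.eq_one_iff, QuotientGroup.mk_pow]
      simpa using congrArg Subtype.val hi
    obtain ⟨j, hj⟩ := hFp ⟨_, hmem⟩
    have : orderOf k ∣ q ^ i * p ^ j := orderOf_dvd_of_pow_eq_one (by
      rw [pow_mul]
      simpa using congrArg Subtype.val hj)
    rcases hs.dvd_mul.1 (hsk.trans this) with h' | h'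
    · exact Or.inr ((Nat.prime_dvd_prime_iff_eq hs hq).1 (hs.dvd_of_dvd_pow h'))
    · exact Or.inl ((Nat.prime_dvd_prime_iff_eq hs hp).1 (hs.dvd_of_dvd_pow h'))
  have hfpf : K ⊓ Subgroup.centralizer {y} = ⊥ := by
    rw [eq_bot_iff]
    intro k hk
    obtain ⟨hkK, hkC⟩ := Subgroup.mem_inf.1 hk
    rw [Subgroup.mem_bot]
    by_contra hk1
    have hcomm : Commute k y := (Subgroup.mem_centralizer_singleton_iff.1 hkC)
    obtain ⟨s, hs, hsk⟩ := Nat.exists_prime_and_dvd (mt orderOf_eq_one_iff.1 hk1)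
    have hsr : s ≠ r := by
      rcases hprimes k hkK s hs hsk with rfl | rfl
      · exact hrp.symm
      · exact hrq.symm
    have hks : orderOf (k ^ (orderOf k / s)) = s := by
      rw [orderOf_pow_orderOf_div (orderOf_pos k).ne' hsk]
    exact not_commute h _ y (hcomm.pow_left _) hs hrpr hsr hks hy
  have hnorm : y ∈ Subgroup.normalizer (K : Set G) := by
    rw [Subgroup.normalizer_eq_top]
    exact Subgroup.mem_top y
  have hKnil : Group.IsNilpotent K := Cfsg.Agent.Grp.isNilpotent_of_fpf (p := r)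
    (by rw [← hy]; exact pow_orderOf_eq_one y) hnorm hfpf
  have hpK : p ∣ Nat.card K := by
    obtain ⟨k, hk⟩ := hVp.exists_card_eq
    have hk0 : k ≠ 0 := by
      rintro rfl
      exact hVne (Subgroup.card_eq_one.1 (by simpa using hk))
    exact ((dvd_pow_self p hk0).trans (hk.symm.dvd)).trans (Subgroup.card_dvd_of_le (hVF.trans hFK))
  have hqK : q ∣ Nat.card K := by
    obtain ⟨k, hk⟩ := hWq.exists_card_eq
    have hk0 : k ≠ 0 := by
      rintro rfl
      exact hWne (Subgroup.card_eq_one.1 (by simpa using hk))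
    refine ((dvd_pow_self q hk0).trans hk.symm.dvd).trans ?_
    rw [← hmapW]
    exact Subgroup.card_map_dvd K _
  obtain ⟨a, ha⟩ := exists_prime_orderOf_dvd_card' p hpK
  obtain ⟨b, hb⟩ := exists_prime_orderOf_dvd_card' q hqK
  obtain ⟨A, hA⟩ := (IsPGroup.of_card (p := p) (n := 1) (by rw [Nat.card_zpowers, ha, pow_one]) :
    IsPGroup p (Subgroup.zpowers a)).exists_le_sylow
  obtain ⟨B, hB⟩ := (IsPGroup.of_card (p := q) (n := 1) (by rw [Nat.card_zpowers, hb, pow_one]) :
    IsPGroup q (Subgroup.zpowers b)).exists_le_sylow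
  have hall := (Group.isNilpotent_of_finite_tfae (G := K)).out 0 3 |>.1 hKnil
  have hab : Commute a b :=
    Subgroup.commute_of_normal_of_disjoint A B (hall p inferInstance A) (hall q inferInstance B)
      (IsPGroup.disjoint_of_ne p q hqp.symm _ _ A.isPGroup' B.isPGroup') a b
      (hA (Subgroup.mem_zpowers a)) (hB (Subgroup.mem_zpowers b))
  exact not_commute h (a : G) (b : G) (congrArg Subtype.val hab.eq) hp hq hqp.symm
    (by rw [Subgroup.orderOf_coe, ha]) (by rw [Subgroup.orderOf_coe, hb])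

end Cfsg.Agent.S1475
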