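import Cfsg.Statements.S1476
import Cfsg.Agent.Lib.Transfer.CN.Structure

set_option maxHeartbeats 1000000
set_option maxRecDepth 8000

set_option autoImplicit false
open Cfsg

namespace Cfsg.Agent.S1476

/-- Let G be a finite solvable group in which every non-identity element has nilpotent centralizer. Then either G is nilpotent; or G has a normal subgroup K with a Frobenius complement E (K E = G, K ∩ E = 1, E meets its conjugates by outside elements trivially) such that E is cyclic or E is generated by two elementwise-commuting subgroups, one cyclic of odd order and one isomorphic to a generalized quaternion group; or G is a three-step group with respect to some prime p. -/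
theorem result {G : Type*} [Group G] [Finite G] [Group.IsSolvable G] (hCN : Cfsg.IsCNGroup G) :
    Group.IsNilpotent G ∨
      (∃ K E : Subgroup G, K.Normal ∧ Subgroup.IsComplement' K E ∧ Cfsg.IsFrobeniusComplement E ∧
        (IsCyclic E ∨ ∃ C Q : Subgroup G, C ⊔ Q = E ∧ (∀ a ∈ C, ∀ b ∈ Q, a * b = b * a) ∧ IsCyclic C ∧ Odd (Nat.card C) ∧
          ∃ n : ℕ, Nonempty (↥Q ≃* QuaternionGroup (2 ^ n)))) ∨
      ∃ p : ℕ, p.Prime ∧ Cfsg.IsThreeStepGroup p G := by
  rcases Cfsg.Agent.Transfer.CN.trichotomy hCN with h | ⟨N, hN⟩ | h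
  · exact Or.inl h
  · refine Or.inr (Or.inl ?_)
    obtain ⟨E, hE, -, hFC, -, hf⟩ := hN.exists_complement
    refine ⟨N, E, hN.normal, hE, hFC, ?_⟩
    rcases Cfsg.Agent.Transfer.CN.cyclic_or_quaternion (Cfsg.Agent.Transfer.CN.Kernel.complement_nilpotent hCN hE hf) hf with
      hc | ⟨C, Q, hCQ, hcomm, hCc, hCodd, n, ⟨e⟩⟩
    · exact Or.inl hc
    · haveI := hCc
      refine Or.inr ⟨C.map E.subtype, Q.map E.subtype, ?_, ?_, ?_, ?_, n, ⟨(Q.equivMapOfInjective _ E.subtype_injective).symm.trans e⟩⟩
      · rw [← Subgroup.map_sup, hCQ, ← MonoidHom.range_eq_map, Subgroup.range_subtype]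
      · rintro _ ⟨a, ha, rfl⟩ _ ⟨b, hb, rfl⟩
        exact congrArg Subtype.val (hcomm a ha b hb)
      · exact isCyclic_of_surjective (C.equivMapOfInjective _ E.subtype_injective) (C.equivMapOfInjective _ E.subtype_injective).surjective
      · rwa [Subgroup.card_map_of_injective E.subtype_injective]
  · exact Or.inr (Or.inr h)

end Cfsg.Agent.S1476
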