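import Cfsg.Statements.S1481
import Mathlib
import Cfsg.Agent.Lib.Transfer.Local.BenderInvariant

set_option maxHeartbeats 1000000
set_option maxRecDepth 8000

set_option autoImplicit false
open Cfsg

namespace Cfsg.Agent.S1481

open Subgroup
open Transfer
open scoped Pointwise

/-- Let G be a finite group and H a local subgroup (the normalizer of a nontrivial subgroup of prime-power order) not properly contained in any local subgroup; let F = F(H), suppose at least two primes divide #F, put X = H ∩ C_G(F), let M ≤ F with F ∩ C_G(M) ≤ M, and let R be a solvable subgroup normalized by M and by X. Then for every prime q not dividing #F there is exactly one maximal M-invariant q-subgroup of R, and it is a Sylow q-subgroup of the largest normal subgroup of R of order coprime to #F. -/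
theorem result {G : Type*} [Group G] [Finite G] (H : Subgroup G) (hH : Cfsg.IsLocalSubgroup H) (hHmax : ∀ L : Subgroup G, Cfsg.IsLocalSubgroup L → H ≤ L → L = H)
    (hF2 : 2 ≤ (Nat.card (Cfsg.fittingOf H)).primeFactors.card)
    (M : Subgroup G) (hM : M ≤ Cfsg.fittingOf H) (hCM : Cfsg.fittingOf H ⊓ Subgroup.centralizer (M : Set G) ≤ M)
    (R : Subgroup G) (hR : Group.IsSolvable R) (hMR : M ≤ Subgroup.normalizer (R : Set G))
    (hXR : H ⊓ Subgroup.centralizer (Cfsg.fittingOf H : Set G) ≤ Subgroup.normalizer (R : Set G))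
    (q : ℕ) [Fact q.Prime] (hq : ¬ q ∣ Nat.card (Cfsg.fittingOf H)) :
    ∃! Q : Subgroup G, Q ∈ Cfsg.maxInvSubgroups R M {q} ∧
      (∀ Q' : Subgroup G, Q' ∈ Cfsg.maxInvSubgroups R M {q} →
        Q' ≤ Cfsg.piCoreOf (Cfsg.primesNotDvd (Nat.card (Cfsg.fittingOf H))) R ∧
        ¬ q ∣ Q'.relIndex (Cfsg.piCoreOf (Cfsg.primesNotDvd (Nat.card (Cfsg.fittingOf H))) R)) := by

  have hq' : q.Prime := Fact.out
  set F := Cfsg.fittingOf H with hF
  obtain ⟨p₀, T, hp₀, hT, hT1, hHT⟩ := id hH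
  have hloc : ∀ t : ℕ, t.Prime → Loc.O t H ≠ ⊥ → centralizer (Loc.Z t H : Set G) ≤ H := by
    intro t ht hne
    haveI := Fact.mk ht
    refine (centralizer_le_normalizer _).trans (le_of_eq ?_)
    exact hHmax _ ⟨t, Loc.Z t H, ht, (Loc.O_isPGroup t H).to_le inf_le_left, Loc.Z_ne_bot hne, rfl⟩
      (Loc.le_normalizer_Z H)
  have hS : Loc.Setup H M R := ⟨hloc, hF2, hM, hCM, hR, hMR, hXR⟩
  set Ov := Cfsg.piCoreOf (Cfsg.primesNotDvd (Nat.card F)) R with hOv
  have hOvπ : ∀ r : ℕ, r.Prime → r ∣ Nat.card Ov → r ∈ Cfsg.primesNotDvd (Nat.card F) :=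
    fun r hr hd => Transfer.TransHyp.piCoreOf_primes hr hd
  have hMO : M ≤ normalizer (Ov : Set G) := Loc.le_normalizer_core hMR
  have hcop : (Nat.card M).Coprime (Nat.card Ov) := Nat.coprime_of_dvd fun r hr h1 h2 =>
    (hOvπ r hr h2).2 (h1.trans (card_dvd_of_le hM))
  have hMs : Group.IsSolvable M ∨ Group.IsSolvable Ov :=
    Or.inr (Grp.isSolvable_of_le (Transfer.TransHyp.piCoreOf_le R) hR)
  have hmem : ∀ Q : Subgroup G, Q ∈ Cfsg.invSubgroups R M {q} ↔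
      Q ≤ R ∧ IsPGroup q Q ∧ M ≤ normalizer (Q : Set G) := by
    intro Q
    constructor
    · rintro ⟨h1, h2, h3⟩
      exact ⟨h1, Loc.isPGroup_of_primes fun r hr hd => h2 r hr hd, h3⟩
    · rintro ⟨h1, h2, h3⟩
      refine ⟨h1, fun r hr hd => ?_, h3⟩
      obtain ⟨n, hn⟩ := IsPGroup.iff_card.1 h2
      exact (Nat.prime_dvd_prime_iff_eq hr hq').1 (hr.dvd_of_dvd_pow (hn ▸ hd))
  have hsyl : ∀ Q ∈ Cfsg.maxInvSubgroups R M {q}, Q ≤ Ov ∧ Grp.IsSylowIn q Q Ov := by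
    intro Q hQ
    obtain ⟨h1, h2, h3⟩ := (hmem Q).1 hQ.1
    have hle := hS.le_core hq h1 h2 h3
    obtain ⟨S, hS', hMS, hQS⟩ := Grp.exists_invariant_sylow_ge M Ov hMO hcop hMs hle h2 h3
    have := hQ.2 S ((hmem S).2 ⟨hS'.1.trans (Transfer.TransHyp.piCoreOf_le R), hS'.2.1, hMS⟩) hQS
    exact ⟨hle, this ▸ hS'⟩
  obtain ⟨Q, hQ⟩ : ∃ Q, Q ∈ Cfsg.maxInvSubgroups R M {q} := by
    have h0 : (⊥ : Subgroup G) ∈ Cfsg.invSubgroups R M {q} :=
      (hmem ⊥).2 ⟨bot_le, IsPGroup.of_bot, by rw [normalizer_eq_top]; exact le_top⟩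
    obtain ⟨Q, -, hQ⟩ := (Set.toFinite (Cfsg.invSubgroups R M ({q} : Set ℕ))).exists_le_maximal h0
    exact ⟨Q, hQ.1, fun R' hR' hle => le_antisymm (hQ.2 hR' hle) hle⟩
  refine ⟨Q, ⟨hQ, fun Q' hQ' => ⟨(hsyl Q' hQ').1, (hsyl Q' hQ').2.2.2⟩⟩, fun Q' hQ' => ?_⟩
  obtain ⟨-, -, h3⟩ := (hmem Q').1 hQ'.1.1
  obtain ⟨-, -, h4⟩ := (hmem Q).1 hQ.1
  obtain ⟨c, hc, hce⟩ := Grp.invariant_sylow_conj M Ov hMO hcop hMs (hsyl Q' hQ'.1).2 (hsyl Q hQ).2 h3 h4
  have hY : Ov ⊓ centralizer (M : Set G) = ⊥ := by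
    obtain ⟨t, ht⟩ := Finset.card_pos.1 (lt_of_lt_of_le (by norm_num) hF2)
    haveI := Fact.mk (Nat.mem_primeFactors.1 ht).1
    refine hS.triv (inf_le_left.trans (Transfer.TransHyp.piCoreOf_le R)) ?_
      (Grp.le_normalizer_inf' hMO ((le_normalizer).trans Loc.normalizer_le_normalizer_centralizer))
      fun r hr hd => hOvπ r hr (hd.trans (card_dvd_of_le inf_le_left))
    exact inf_le_right.trans ((centralizer_le hS.Z_le).trans
      (hloc t Fact.out (Loc.O_ne_bot_of_dvd (Nat.mem_primeFactors.1 ht).2.1)))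
  rw [hY, mem_bot] at hc
  rw [← hce, hc, map_one, one_smul]

end Cfsg.Agent.S1481
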