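import Cfsg.Statements.S1483
import Cfsg.Agent.Lib.Transfer.CN.MinSimple

set_option maxHeartbeats 1000000
set_option maxRecDepth 8000

set_option autoImplicit false
open Cfsg

namespace Cfsg.Agent.S1483

/-- Let G be a minimal simple group of odd order in which every non-identity element has nilpotent centralizer. Then any two nilpotent subgroups each contained in no larger nilpotent subgroup are either conjugate or of coprime orders; and for primes p, q, r: if some elements x, y ≠ 1 of p-power and q-power order commute, and some elements y', z ≠ 1 of q-power and r-power order commute, then some elements of p-power and r-power order, both ≠ 1, commute. -/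
theorem result {G : Type*} [Group G] [Finite G] (hG : Cfsg.IsMinSimpleOddOrder G) (hCN : Cfsg.IsCNGroup G) :
    (∀ H₁ H₂ : Subgroup G, (Group.IsNilpotent ↥H₁ ∧ ∀ L : Subgroup G, Group.IsNilpotent L → H₁ ≤ L → L = H₁) → (Group.IsNilpotent ↥H₂ ∧ ∀ L : Subgroup G, Group.IsNilpotent L → H₂ ≤ L → L = H₂) → (∃ g : G, H₂ = H₁.map (MulAut.conj g).toMonoidHom) ∨ (Nat.card H₁).Coprime (Nat.card H₂)) ∧
      ∀ (p q r : ℕ), p.Prime → q.Prime → r.Prime → ∀ (x y y' z : G), x ≠ 1 → y ≠ 1 → y' ≠ 1 → z ≠ 1 →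
        IsPGroup p (Subgroup.zpowers x) → IsPGroup q (Subgroup.zpowers y) → IsPGroup q (Subgroup.zpowers y') → IsPGroup r (Subgroup.zpowers z) →
        x * y = y * x → y' * z = z * y' →
        ∃ x' z' : G, x' ≠ 1 ∧ z' ≠ 1 ∧ IsPGroup p (Subgroup.zpowers x') ∧ IsPGroup r (Subgroup.zpowers z') ∧ x' * z' = z' * x' := by
  refine ⟨fun H₁ H₂ h₁ h₂ => Cfsg.Agent.Transfer.CN.MinSimple.maxNil_conj_or_coprime hG hCN ⟨h₁.1, h₁.2⟩ ⟨h₂.1, h₂.2⟩, ?_⟩
  intro p q r hp hq hr x y y' z hx hy hy' hz hxp hyq hy'q hzr hxy hy'z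
  haveI := Fact.mk hp
  haveI := Fact.mk hq
  haveI := Fact.mk hr
  obtain ⟨H, hH, hle⟩ := Cfsg.Agent.Transfer.CN.exists_maxNil (hCN x hx)
  obtain ⟨H', hH', hle'⟩ := Cfsg.Agent.Transfer.CN.exists_maxNil (hCN y' hy')
  have hyH : y ∈ H := hle (Subgroup.mem_centralizer_singleton_iff.2 hxy.symm)
  have hxH : x ∈ H := hle (Subgroup.mem_centralizer_singleton_iff.2 rfl)
  have hzH : z ∈ H' := hle' (Subgroup.mem_centralizer_singleton_iff.2 hy'z.symm)
  have hy'H : y' ∈ H' := hle' (Subgroup.mem_centralizer_singleton_iff.2 rfl)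
  have key : ∀ (s : ℕ) (w : G), IsPGroup s (Subgroup.zpowers w) → ∃ i : ℕ, orderOf w ∣ s ^ i := fun s w hw => by
    obtain ⟨k, hk⟩ := hw ⟨w, Subgroup.mem_zpowers w⟩
    exact ⟨k, orderOf_dvd_of_pow_eq_one (congrArg Subtype.val hk :)⟩
  have hdiv : ∀ (w : G) (K : Subgroup G), w ≠ 1 → w ∈ K → IsPGroup q (Subgroup.zpowers w) → q ∣ Nat.card K := by
    intro w K hw hwK hwq
    obtain ⟨i, hi⟩ := key q w hwq
    obtain ⟨j, -, hj⟩ := (Nat.dvd_prime_pow hq).1 hi
    rcases j with _ | j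
    · exact absurd (orderOf_eq_one_iff.1 (hj.trans (pow_zero q))) hw
    · exact (hj ▸ dvd_pow_self q j.succ_ne_zero).trans (K.orderOf_dvd_natCard hwK)
  rcases Cfsg.Agent.Transfer.CN.MinSimple.maxNil_conj_or_coprime hG hCN hH hH' with ⟨g, rfl⟩ | hc
  · obtain ⟨z', hz', hz'e⟩ := hzH
    by_cases hpr : p = r
    · subst hpr
      exact ⟨x, x, hx, hx, hxp, hxp, rfl⟩
    · have hzo : orderOf z' = orderOf z := by
        rw [← hz'e]; exact ((MulAut.conj g).orderOf_eq z').symm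
      obtain ⟨i, hi⟩ := key p x hxp
      obtain ⟨j, hj⟩ := key r z hzr
      obtain ⟨l, -, hl⟩ := (Nat.dvd_prime_pow hr).1 hj
      refine ⟨x, z', hx, fun e => hz (by rw [← hz'e, e, map_one]), hxp,
        IsPGroup.of_card (n := l) (by rw [Nat.card_zpowers, hzo, hl]),
        (hH.commute_coprime hxH hz' (Nat.Coprime.coprime_dvd_left hi
          (Nat.Coprime.coprime_dvd_right (hzo.symm ▸ hj) (Nat.Coprime.pow _ _ ((Nat.coprime_primes hp hr).2 hpr))))).eq⟩
  · exact absurd (Nat.eq_one_of_dvd_coprimes hc (hdiv y H hy hyH hyq) (hdiv y' H' hy' hy'H hy'q)) hq.ne_one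

end Cfsg.Agent.S1483
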