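import Cfsg.Statements.S1484
import Cfsg.Agent.Lib.Transfer.CN.MinSimple

set_option maxHeartbeats 1000000
set_option maxRecDepth 8000

set_option autoImplicit false
open Cfsg

namespace Cfsg.Agent.S1484

open Cfsg.Agent.Transfer.CN in
/-- The normalizer of a conjugate. -/
theorem normalizer_conj {G : Type*} [Group G] (H : Subgroup G) (g : G) :
    (Subgroup.normalizer (H : Set G)).map (MulAut.conj g).toMonoidHom =
      Subgroup.normalizer ((H.map (MulAut.conj g).toMonoidHom : Subgroup G) : Set G) := by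
  rw [Subgroup.map_normalizer_eq_of_bijective _ (MulAut.conj g).bijective]


/-- Let G be a minimal simple group of odd order in which every non-identity element has nilpotent centralizer, and M₁, …, M_k maximal subgroups, pairwise non-conjugate, such that every maximal subgroup is conjugate to some M_i. Let H_i be the largest normal nilpotent Hall subgroup of M_i. Then the orders of the H_i are pairwise coprime, their product is the order of G, and every element of G is conjugate to an element of some H_i. -/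
theorem result {G : Type*} [Group G] [Finite G] (hG : Cfsg.IsMinSimpleOddOrder G) (hCN : Cfsg.IsCNGroup G) (k : ℕ) (Mrep : Fin k → Subgroup G) (hmax : ∀ i, IsCoatom (Mrep i))
    (hnc : ∀ i j, i ≠ j → ∀ g : G, Mrep j ≠ (Mrep i).map (MulAut.conj g).toMonoidHom) (hall : ∀ M : Subgroup G, IsCoatom M → ∃ i, ∃ g : G, M = (Mrep i).map (MulAut.conj g).toMonoidHom) :
    (∀ i j, i ≠ j → (Nat.card (Cfsg.fittingHallOf (Mrep i))).Coprime (Nat.card (Cfsg.fittingHallOf (Mrep j)))) ∧
      ∏ i, Nat.card (Cfsg.fittingHallOf (Mrep i)) = Nat.card G ∧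
      ∀ x : G, ∃ i, ∃ g : G, g * x * g⁻¹ ∈ Cfsg.fittingHallOf (Mrep i) := by

  classical
  have key : ∀ i, ∃ H : Subgroup G, Cfsg.Agent.Transfer.CN.MaxNil H ∧ Mrep i = Subgroup.normalizer (H : Set G) :=
    fun i => Cfsg.Agent.Transfer.CN.MinSimple.coatom_eq hG hCN (hmax i)
  choose H hH hM using key
  have hF : ∀ i, Cfsg.fittingHallOf (Mrep i) = H i := fun i => by
    rw [hM i]; exact Cfsg.Agent.Transfer.CN.MinSimple.maxNil_fittingHallOf hG hCN (hH i)
  simp only [hF]
  have hcop : ∀ i j, i ≠ j → (Nat.card (H i)).Coprime (Nat.card (H j)) := fun i j hij => by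
    rcases Cfsg.Agent.Transfer.CN.MinSimple.maxNil_conj_or_coprime hG hCN (hH i) (hH j) with ⟨g, hg⟩ | h
    · exact absurd (by rw [hM i, hM j, normalizer_conj, hg]) (hnc i j hij g)
    · exact h
  have hcov : ∀ x : G, x ≠ 1 → ∃ i, ∃ g : G, g * x * g⁻¹ ∈ H i := fun x hx => by
    obtain ⟨K, hK, hle⟩ := Cfsg.Agent.Transfer.CN.exists_maxNil (hCN x hx)
    obtain ⟨i, g, hg⟩ := hall _ (Cfsg.Agent.Transfer.CN.MinSimple.maxNil_coatom hG hCN hK)
    rw [hM i, normalizer_conj] at hg
    have hKH : K = (H i).map (MulAut.conj g).toMonoidHom := by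
      rw [← Cfsg.Agent.Transfer.CN.MinSimple.maxNil_fittingHallOf hG hCN hK, hg,
        Cfsg.Agent.Transfer.CN.MinSimple.maxNil_fittingHallOf hG hCN (Cfsg.Agent.Transfer.CN.MaxNil.map_conj (hH i) g)]
    obtain ⟨y, hy, hyx⟩ := hKH.le (hle (Subgroup.mem_centralizer_singleton_iff.2 rfl))
    refine ⟨i, g⁻¹, ?_⟩
    rw [inv_inv, ← show g * y * g⁻¹ = x from hyx, show g⁻¹ * (g * y * g⁻¹) * g = y by group]
    exact hy
  refine ⟨hcop, ?_, fun x => ?_⟩
  · refine Nat.eq_of_factorization_eq (Finset.prod_ne_zero_iff.2 fun i _ => Nat.card_pos.ne') Nat.card_pos.ne' fun p => ?_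
    rw [Nat.factorization_prod_apply fun i _ => Nat.card_pos.ne']
    by_cases hp : p.Prime
    swap
    · simp [Nat.factorization_eq_zero_of_not_prime _ hp]
    by_cases hd : p ∣ Nat.card G
    swap
    · rw [Nat.factorization_eq_zero_of_not_dvd hd]
      exact Finset.sum_eq_zero fun i _ =>
        Nat.factorization_eq_zero_of_not_dvd fun h => hd (h.trans (H i).card_subgroup_dvd_card)
    haveI := Fact.mk hp
    obtain ⟨x, hx⟩ := exists_prime_orderOf_dvd_card' p hd
    obtain ⟨i, g, hg⟩ := hcov x fun e => hp.ne_one (by rw [← hx, e, orderOf_one])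
    have hpi : p ∣ Nat.card (H i) := by
      have h1 := (H i).orderOf_dvd_natCard hg
      rwa [show g * x * g⁻¹ = MulAut.conj g x from rfl, MulEquiv.orderOf_eq, hx] at h1
    rw [Finset.sum_eq_single i (fun j _ hji => Nat.factorization_eq_zero_of_not_dvd fun h =>
      hp.ne_one (Nat.eq_one_of_dvd_coprimes (hcop j i hji) h hpi)) (fun h => absurd (Finset.mem_univ i) h)]
    rw [← (H i).card_mul_index, Nat.factorization_mul Nat.card_pos.ne' (H i).index_ne_zero_of_finite, Finsupp.add_apply,
      Nat.factorization_eq_zero_of_not_dvd (fun hi => hp.ne_one (Nat.eq_one_of_dvd_coprimes ((hH i).hall hCN) hpi hi)), add_zero]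
  · by_cases hx : x = 1
    · haveI := hG.2.1
      obtain ⟨x₀, hx₀⟩ := exists_ne (1 : G)
      obtain ⟨i, -⟩ := hcov x₀ hx₀
      exact ⟨i, 1, by rw [hx, mul_one, mul_inv_cancel]; exact one_mem _⟩
    · exact hcov x hx

end Cfsg.Agent.S1484
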