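import Cfsg.Statements.S1485
import Cfsg.Agent.Lib.Char.Clifford

set_option autoImplicit false
open Cfsg

namespace Cfsg.Agent.S1485

open Cfsg.Agent.Char

/-- Let H be a normal subgroup of the finite group G and θ an irreducible character of H. On H, the function induced from θ equals r times the sum of the distinct G-conjugates of θ, where r is the number of elements of G fixing θ under conjugation divided by the order of H (the index of H in the inertia group). -/
theorem result {G : Type*} [Group G] [Fintype G] (H : Subgroup G) [hN : H.Normal] (θ : H → ℂ) (hθ : Cfsg.IsIrrCharacter H θ) : (fun h : H => Cfsg.indFun H θ h) = ((Nat.card {g : G // ∀ h : H, θ ⟨g * h * g⁻¹, hN.conj_mem h h.2 g⟩ = θ h} : ℂ) / (Nat.card H : ℂ)) • ∑ᶠ ψ ∈ {ψ : H → ℂ | ∃ g : G, ψ = fun h : H => θ ⟨g * h * g⁻¹, hN.conj_mem h h.2 g⟩}, ψ := by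
  classical
  haveI := Fintype.ofFinite H
  rw [res_indFun, finsum_conjOrbit]
  funext h
  simp only [Pi.smul_apply, Finset.sum_apply, smul_eq_mul]
  have hcard : Nat.card {g : G // ∀ h : H, θ ⟨g * h * g⁻¹, hN.conj_mem h h.2 g⟩ = θ h} =
      Nat.card (inertia H θ) := Nat.card_congr (Equiv.subtypeEquivRight fun g => funext_iff.symm)
  rw [hcard, div_eq_inv_mul, mul_assoc]
  congr 1
  rw [← Finset.sum_fiberwise_of_maps_to (t := conjOrbit H θ) (g := fun x => conjN H x θ)
    (fun x _ => (mem_conjOrbit H).mpr ⟨x, rfl⟩), Finset.mul_sum]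
  refine Finset.sum_congr rfl fun ψ hψ => ?_
  obtain ⟨g, rfl⟩ := (mem_conjOrbit H).mp hψ
  rw [Finset.sum_congr rfl (fun x hx => by rw [(Finset.mem_filter.mp hx).2] :
    ∀ x ∈ Finset.univ.filter (fun x => conjN H x θ = conjN H g θ), conjN H x θ h = conjN H g θ h),
    Finset.sum_const, nsmul_eq_mul, ← Fintype.card_subtype, ← Nat.card_eq_fintype_card]
  congr 2
  exact Nat.card_congr
    { toFun := fun x => ⟨x.1 * g⁻¹, by
        rw [mem_inertia, conjN_mul, x.2, conjN_inv_cancel]⟩
      invFun := fun i => ⟨i.1 * g, by rw [conjN_mul, (mem_inertia H).mp i.2]⟩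
      left_inv := fun x => by simp
      right_inv := fun i => by simp }

end Cfsg.Agent.S1485
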