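import Cfsg.Statements.S1488
import Cfsg.Agent.Lib.Char.Quotient

set_option autoImplicit false
open Cfsg

namespace Cfsg.Agent.S1488

open Cfsg.Agent.Char

/-- Let A be a normal subgroup of the finite group G contained in the subgroup H, let θ be a function on H and θ₁ a function on the image of H in G ⧸ A whose composite with the projection is θ. Then the function induced from θ₁ to G ⧸ A, composed with the projection G → G ⧸ A, equals the function induced from θ to G. -/
theorem result {G : Type*} [Group G] [Fintype G] (A H : Subgroup G) [A.Normal] (hAH : A ≤ H) [Fintype (G ⧸ A)] [Fintype ↥(H.map (QuotientGroup.mk' A))] (θ : H → ℂ) (θ₁ : ↥(H.map (QuotientGroup.mk' A)) → ℂ) (hθ : ∀ x : H, θ₁ ⟨QuotientGroup.mk' A x, Subgroup.mem_map_of_mem _ x.2⟩ = θ x) (g : G) : Cfsg.indFun (H.map (QuotientGroup.mk' A)) θ₁ (QuotientGroup.mk' A g) = Cfsg.indFun H θ g := by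
  classical
  have hsurj : Function.Surjective (QuotientGroup.mk' A) := QuotientGroup.mk'_surjective A
  have hmem : ∀ y : G, (QuotientGroup.mk' A) y ∈ H.map (QuotientGroup.mk' A) ↔ y ∈ H := by
    intro y
    refine ⟨?_, fun h => Subgroup.mem_map_of_mem _ h⟩
    rintro ⟨z, hz, e⟩
    have : z⁻¹ * y ∈ A := (QuotientGroup.eq).mp e
    simpa using H.mul_mem hz (hAH this)
  have hext : ∀ y : G, extendByZero (H.map (QuotientGroup.mk' A)) θ₁ ((QuotientGroup.mk' A) y) = extendByZero H θ y := by
    intro y
    by_cases hy : y ∈ H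
    · rw [extendByZero_of_mem _ ((hmem y).mpr hy), extendByZero_of_mem _ hy]
      exact hθ ⟨y, hy⟩
    · rw [extendByZero_not_mem _ hy, extendByZero_not_mem _ (fun h => hy ((hmem y).mp h))]
  have hcard : (Nat.card H : ℂ) = (Nat.card (QuotientGroup.mk' A).ker : ℂ) * (Nat.card (H.map (QuotientGroup.mk' A)) : ℂ) := by
    have h := (A.subgroupOf H).index_mul_card
    have hk : (QuotientGroup.mk' A).ker = A := QuotientGroup.ker_mk' A
    have h1 : Nat.card (A.subgroupOf H) = Nat.card A :=
      Nat.card_congr (Subgroup.subgroupOfEquivOfLe hAH).toEquiv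
    have h2 : (A.subgroupOf H).index = Nat.card (H.map (QuotientGroup.mk' A)) := by
      have hr := Subgroup.index_ker ((QuotientGroup.mk' A).comp H.subtype)
      rw [MonoidHom.range_comp, Subgroup.range_subtype] at hr
      rw [← hr]
      congr 1
      ext z
      simp [Subgroup.mem_subgroupOf, MonoidHom.mem_ker]
    rw [h1, h2, show Nat.card A = Nat.card (QuotientGroup.mk' A).ker from (congrArg (fun K : Subgroup G => Nat.card K) hk).symm, mul_comm] at h
    exact_mod_cast h.symm
  simp only [indFun]
  have hsum : ∑ x : G, extendByZero H θ (x⁻¹ * g * x) =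
      (Nat.card (QuotientGroup.mk' A).ker : ℂ) * ∑ q, extendByZero (H.map (QuotientGroup.mk' A)) θ₁ (q⁻¹ * (QuotientGroup.mk' A) g * q) := by
    rw [← sum_comp_surjective (QuotientGroup.mk' A) hsurj fun q => extendByZero (H.map (QuotientGroup.mk' A)) θ₁ (q⁻¹ * (QuotientGroup.mk' A) g * q)]
    exact Finset.sum_congr rfl fun x _ => by rw [← map_inv, ← map_mul, ← map_mul, hext]
  rw [hsum, hcard, mul_inv, ← mul_assoc, mul_right_comm _ _ (Nat.card (QuotientGroup.mk' A).ker : ℂ),
    inv_mul_cancel₀ (Nat.cast_ne_zero.mpr Nat.card_pos.ne'), one_mul]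

end Cfsg.Agent.S1488
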