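import Cfsg.Statements.S1491
import Cfsg.Agent.Lib.Char.AbelianInertia
import Cfsg.Agent.Lib.Char.CoprimeDegree

set_option autoImplicit false
open Cfsg

namespace Cfsg.Agent.S1491

/-- Let H be a normal subgroup of the finite group G and θ an irreducible character of H with inertia group T, where T/H is abelian (commutators of T lie in H) and the index of H in T is coprime to the order of H. Then the function induced from θ is the sum of a set of exactly [T:H] irreducible characters of G, each of degree [G:T] * θ(1). -/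
theorem result {G : Type*} [Group G] [Fintype G] (H T : Subgroup G) [hN : H.Normal] (θ : H → ℂ) (hθ : Cfsg.IsIrrCharacter H θ) (hT : ∀ g : G, g ∈ T ↔ ∀ h : H, θ ⟨g * h * g⁻¹, hN.conj_mem h h.2 g⟩ = θ h) (hab : ∀ x ∈ T, ∀ y ∈ T, x * y * x⁻¹ * y⁻¹ ∈ H) (hcop : Nat.Coprime (Nat.card H) (H.relIndex T)) : ∃ C : Finset (G → ℂ), (∀ χ ∈ C, Cfsg.IsIrrCharacter G χ) ∧ C.card = H.relIndex T ∧ Cfsg.indFun H θ = ∑ χ ∈ C, χ ∧ ∀ χ ∈ C, χ 1 = (T.index : ℂ) * θ 1 := by
  classical
  haveI := Fintype.ofFinite H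
  haveI := Fintype.ofFinite T
  have hT' : T = Cfsg.Agent.Char.inertia H θ := Subgroup.ext fun g => by
    rw [hT, Cfsg.Agent.Char.mem_inertia]
    exact ⟨fun h => funext fun n => h n, fun h n => congrFun h n⟩
  obtain ⟨e, C, he, hC, hcard, hind, hdeg, hmult⟩ :=
    Cfsg.Agent.Char.AbInertia.decomp H hθ hT' hab
  have hHT : H ≤ T := hT' ▸ Cfsg.Agent.Char.le_inertia H (Cfsg.Agent.Char.IsIrr.classFun hθ)
  haveI : (H.subgroupOf T).Normal := Subgroup.Normal.subgroupOf hN _
  haveI := Fintype.ofFinite (H.subgroupOf T)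
  set θT : H.subgroupOf T → ℂ := fun x => θ ⟨((x : T) : G), x.2⟩ with hθT
  have hθTi : IsIrrCharacter (H.subgroupOf T) θT :=
    Cfsg.Agent.Char.IsIrr.comp_mulEquiv (Subgroup.subgroupOfEquivOfLe hHT) hθ
  set θ' : IrrCharacter (H.subgroupOf T) := ⟨θT, hθTi⟩
  have hcop' : (H.subgroupOf T).index.Coprime (orderOf (detChar θT) * charDegree θT) := by
    have hdvd : orderOf (detChar θT) ∣ Nat.card (H.subgroupOf T) := by
      obtain ⟨l, hl⟩ := Cfsg.Agent.Char.isCharacter_detChar hθTi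
      rw [hl, Cfsg.Agent.Char.orderOf_unitsFun]
      refine orderOf_dvd_of_pow_eq_one (MonoidHom.ext fun g => ?_)
      show l g ^ _ = 1
      rw [← map_pow, pow_card_eq_one', map_one]
    have hc : (H.subgroupOf T).index.Coprime (Nat.card (H.subgroupOf T)) := by
      rw [Nat.card_congr (Subgroup.subgroupOfEquivOfLe hHT).toEquiv]
      exact hcop.symm
    exact Nat.Coprime.mul_right (hc.coprime_dvd_right hdvd)
      (hc.coprime_dvd_right (Cfsg.Agent.Char.CopDeg.degree_dvd_card' θ'))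
  obtain ⟨η, hη, hηres⟩ := Cfsg.Agent.Char.Ext.exists_extension_of_witness hθTi
    (fun g n => (hT (g : G)).1 g.2 ⟨((n : T) : G), n.2⟩)
    (Cfsg.Agent.Block.charDeg_spec' θ') fun p hp =>
      Cfsg.Agent.Char.Ext.witness_of_coprime hθTi hcop' hp
  have h1 : classInner (fun n : H => η ⟨(n : G), hHT n.2⟩) θ = 1 := by
    have : (fun n : H => η ⟨(n : G), hHT n.2⟩) = θ :=
      funext fun n => hηres ⟨⟨(n : G), hHT n.2⟩, n.2⟩
    rw [this, Cfsg.Agent.Char.classInner_self_irr hθ]
  have he1 := hmult hHT η hη (by rw [h1]; exact one_ne_zero)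
  rw [h1] at he1
  have he1' : e = 1 := by exact_mod_cast he1.symm
  subst he1'
  refine ⟨C, hC, ?_, by rw [hind, Nat.cast_one, one_smul], fun χ hχ => by rw [hdeg χ hχ, Nat.cast_one, mul_one]⟩
  have hrel := (H.subgroupOf T).card_mul_index
  rw [Nat.card_congr (Subgroup.subgroupOfEquivOfLe hHT).toEquiv] at hrel
  rw [one_pow, one_mul, ← hrel, mul_comm] at hcard
  exact Nat.eq_of_mul_eq_mul_left Nat.card_pos hcard

end Cfsg.Agent.S1491
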