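import Cfsg.Statements.S1492
import Cfsg.Agent.Lib.Char.Kernel

set_option autoImplicit false
open Cfsg

namespace Cfsg.Agent.S1492

open Cfsg.Agent.Char

/-- Let ψ be an irreducible character of the finite group G and B ≤ D ≤ C subgroups with B normal in C, every commutator of an element of D with an element of C lying in B (so D/B is central in C/B), and ψ constant equal to ψ 1 on B. Then ψ(1) ^ 2 * |C| * |D| ≤ |G| ^ 2. -/
theorem result {G : Type*} [Group G] [Finite G] (ψ : G → ℂ) (hψ : Cfsg.IsIrrCharacter G ψ) (B C D : Subgroup G) (hBD : B ≤ D) (hDC : D ≤ C) (hBn : ∀ c ∈ C, ∀ b ∈ B, c * b * c⁻¹ ∈ B) (hcent : ∀ d ∈ D, ∀ c ∈ C, d * c * d⁻¹ * c⁻¹ ∈ B) (hker : ∀ b ∈ B, ψ b = ψ 1) : ‖ψ 1‖ ^ 2 * (Nat.card C : ℝ) * (Nat.card D : ℝ) ≤ (Nat.card G : ℝ) ^ 2 := by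
  classical
  haveI := Fintype.ofFinite G
  haveI := Fintype.ofFinite C
  obtain ⟨φ, hφ⟩ := IsChar.exists_constituent' (IsChar.res (IsIrr.isCharacter hψ) C)
    (show ψ ((1 : C) : G) ≠ 0 by rw [Subgroup.coe_one]; exact IsIrr.one_ne_zero hψ)
  have hne : classInner (indFun C (φ : C → ℂ)) ψ ≠ 0 := by
    rw [classInner_indFun C _ (IsIrr.classFun hψ), ← classInner_conj_symm]
    simpa using hφ
  obtain ⟨n, hn, hn'⟩ := IsIrr.one_eq_pos φ.2
  obtain ⟨d, hd, hd'⟩ := IsIrr.one_eq_pos hψ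
  have hle : d ≤ C.index * n := degree_le_of_constituent (isCharacter_indFun C (IsIrr.isCharacter φ.2))
    hψ hne (by rw [indFun_one_eq, hn', Nat.cast_mul]) hd'
  have hscal : ∀ z : C, (z : G) ∈ D → ‖(φ : C → ℂ) z‖ = n := by
    intro z hz
    obtain ⟨c, hc, hcg⟩ := IsIrr.exists_scalar φ.2 (z := z) fun g =>
      constituent_ker (IsChar.res (IsIrr.isCharacter hψ) C) φ.2 hφ (g := z * g * z⁻¹ * g⁻¹) (by
        simp only [Subgroup.coe_one, Subgroup.coe_mul, Subgroup.coe_inv]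
        exact hker _ (hcent z hz g g.2))
    have := hcg 1
    rw [mul_one] at this
    rw [this, norm_mul, hc, hn', Complex.norm_natCast, one_mul]
  have hsum : ∑ g : C, ‖(φ : C → ℂ) g‖ ^ 2 = (Nat.card C : ℝ) := by
    have h1 := classInner_self_irr φ.2
    rw [classInner_self] at h1
    have h2 : (Nat.card C : ℝ)⁻¹ * ∑ g : C, ‖(φ : C → ℂ) g‖ ^ 2 = 1 := by exact_mod_cast h1
    rwa [inv_mul_eq_one₀ (Nat.cast_ne_zero.mpr Nat.card_pos.ne'), eq_comm] at h2
  have hDn : (Nat.card D : ℝ) * (n : ℝ) ^ 2 ≤ (Nat.card C : ℝ) := by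
    rw [← hsum]
    refine le_trans (le_of_eq ?_) (Finset.sum_le_sum_of_subset_of_nonneg
      (Finset.filter_subset (fun g : C => (g : G) ∈ D) Finset.univ) fun _ _ _ => sq_nonneg _)
    rw [Finset.sum_congr rfl (fun g hg => by rw [hscal g (Finset.mem_filter.mp hg).2] :
      ∀ g ∈ Finset.univ.filter (fun g : C => (g : G) ∈ D), ‖(φ : C → ℂ) g‖ ^ 2 = (n : ℝ) ^ 2),
      Finset.sum_const, nsmul_eq_mul, ← Fintype.card_subtype, ← Nat.card_eq_fintype_card]
    congr 2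
    exact Nat.card_congr ((Subgroup.subgroupOfEquivOfLe hDC).toEquiv.symm)
  rw [hd', Complex.norm_natCast]
  have hG : (C.index : ℝ) * (Nat.card C : ℝ) = Nat.card G := by exact_mod_cast C.index_mul_card
  have hle' : (d : ℝ) ≤ (C.index : ℝ) * n := by exact_mod_cast hle
  calc (d : ℝ) ^ 2 * Nat.card C * Nat.card D
      ≤ ((C.index : ℝ) * n) ^ 2 * Nat.card C * Nat.card D := by gcongr
    _ = (C.index : ℝ) ^ 2 * Nat.card C * ((Nat.card D : ℝ) * (n : ℝ) ^ 2) := by ring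
    _ ≤ (C.index : ℝ) ^ 2 * Nat.card C * (Nat.card C : ℝ) := by gcongr
    _ = (Nat.card G : ℝ) ^ 2 := by rw [← hG]; ring

end Cfsg.Agent.S1492
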