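import Cfsg.Statements.S1497
import Cfsg.Agent.Lib.Char.Complete

set_option autoImplicit false
open Cfsg

namespace Cfsg.Agent.S1497

open Cfsg.Agent.Char

/-- Let A be a nonempty subset of the finite group G not containing 1 and L a subgroup. Then A is a TI-subset whose normaliser is L if and only if the Dade hypothesis holds for A, L and the constant choice H(a) = ⊥. -/
theorem result {G : Type*} [Group G] [Finite G] (A : Set G) (hA : A.Nonempty) (h1 : (1 : G) ∉ A) (L : Subgroup G) : (Cfsg.IsTISubset A ∧ Subgroup.normalizer A = L) ↔ Cfsg.DadeHypothesis A L (fun _ => ⊥) := by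
  have hN : ∀ g : G, g ∈ Subgroup.normalizer A → ∀ a : G, a ∈ A → g * a * g⁻¹ ∈ A :=
    fun g hg a ha => (hg a).mp ha
  constructor
  · rintro ⟨hTI, rfl⟩
    have key : ∀ g : G, ∀ a ∈ A, g * a * g⁻¹ ∈ A → g ∈ Subgroup.normalizer A := by
      intro g a ha hga
      by_contra hg
      exact h1 (hTI g hg a ha hga ▸ ha)
    refine ⟨h1, fun a ha => key a a ha (by simpa using ha), fun x hx a ha => hN x hx a ha,
      fun a ha g hg => ⟨g, key g a ha hg, rfl⟩, fun a _ => bot_le, ?_, fun a _ => bot_inf_eq _, ?_, ?_⟩
    · intro a _ c _ u hu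
      rw [Subgroup.mem_bot] at hu
      simp [hu]
    · intro a ha
      rw [bot_sup_eq, inf_eq_right]
      intro c hc
      have h := Subgroup.mem_centralizer_singleton_iff.mp hc
      exact key c a ha (by rw [h]; simpa using ha)
    · intro a _ b _
      simp
  · intro hD
    have hLN : L ≤ Subgroup.normalizer A := by
      intro x hx
      intro h
      refine ⟨hD.conj_mem x hx h, fun hh => ?_⟩
      have := hD.conj_mem x⁻¹ (L.inv_mem hx) _ hh
      simpa [mul_assoc] using this
    have key : ∀ g : G, ∀ a ∈ A, g * a * g⁻¹ ∈ A → g ∈ L := by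
      intro g a ha hga
      obtain ⟨y, hy, hye⟩ := hD.fusion a ha g hga
      have hc : y⁻¹ * g ∈ Subgroup.centralizer ({a} : Set G) := by
        rw [Subgroup.mem_centralizer_singleton_iff]
        have h2 : y * a = g * a * g⁻¹ * y := by rw [← hye]; group
        have h3 : a * y⁻¹ = y⁻¹ * (g * a * g⁻¹) := by
          apply mul_left_cancel (a := y)
          rw [← mul_assoc, h2]; group
        rw [mul_assoc, ← mul_assoc a, h3]; group
      have hcL : y⁻¹ * g ∈ L := by
        have := hD.sup_eq a ha
        rw [bot_sup_eq, inf_eq_right] at this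
        exact this hc
      simpa using L.mul_mem hy hcL
    refine ⟨fun g hg x hx hgx => absurd (hLN (key g x hx hgx)) hg, le_antisymm ?_ hLN⟩
    intro g hg
    obtain ⟨a, ha⟩ := hA
    exact key g a ha (hN g hg a ha)

end Cfsg.Agent.S1497
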