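import Cfsg.Statements.S1498
import Cfsg.Agent.Lib.Char.Complete

set_option autoImplicit false
open Cfsg

namespace Cfsg.Agent.S1498

open Cfsg.Agent.Char

/-- Under the Dade hypothesis for (A, L, H): for a ∈ A and x ∈ L, the subgroup attached to x * a * x⁻¹ is the conjugate of H a by x. -/
theorem result {G : Type*} [Group G] [Finite G] (A : Set G) (L : Subgroup G) (H : G → Subgroup G) (hD : Cfsg.DadeHypothesis A L H) (a : G) (ha : a ∈ A) (x : G) (hx : x ∈ L) : H (x * a * x⁻¹) = (H a).map (MulAut.conj x).toMonoidHom := by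
  classical
  have main : ∀ b ∈ A, ∀ k : G, k ∈ Subgroup.centralizer ({b} : Set G) →
      Nat.Coprime (orderOf k) (Nat.card ↥(L ⊓ Subgroup.centralizer ({b} : Set G))) → k ∈ H b := by
    intro b hb k hk hcop
    set C := L ⊓ Subgroup.centralizer ({b} : Set G) with hCdef
    have hnorm : C ≤ Subgroup.normalizer (H b : Set G) := by
      intro c hc
      rw [Subgroup.mem_normalizer_iff]
      intro u
      refine ⟨hD.conj_mem_H b hb c hc.2 u, fun hu => ?_⟩
      have := hD.conj_mem_H b hb c⁻¹ (Subgroup.inv_mem _ hc.2) _ hu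
      simpa [mul_assoc] using this
    have hk' : k ∈ C ⊔ H b := by
      rw [sup_comm]; exact (hD.sup_eq b hb).symm ▸ hk
    rw [← SetLike.mem_coe, Subgroup.coe_mul_of_left_le_normalizer_right C (H b) hnorm] at hk'
    obtain ⟨c, hc, u, hu, rfl⟩ := hk'
    rw [SetLike.mem_coe] at hc hu
    have hpow : ∀ n : ℕ, (c ^ n)⁻¹ * (c * u) ^ n ∈ H b := by
      intro n
      induction n with
      | zero => simp
      | succ n ih =>
        have := (H b).mul_mem (hD.conj_mem_H b hb c⁻¹ (Subgroup.inv_mem _ hc.2) _ ih) hu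
        convert this using 1
        rw [pow_succ, pow_succ]
        group
    have h1 := hpow (orderOf (c * u))
    rw [pow_orderOf_eq_one, mul_one] at h1
    have h2 : c ^ orderOf (c * u) = 1 := by
      have h3 : c ^ orderOf (c * u) ∈ H b ⊓ C := ⟨by simpa using (H b).inv_mem h1, C.pow_mem hc _⟩
      rwa [hCdef, hD.inf_eq_bot b hb, Subgroup.mem_bot] at h3
    have h4 : orderOf c ∣ Nat.card ↥C := by
      rw [← Subgroup.orderOf_mk c hc]; exact orderOf_dvd_natCard _
    have h5 : orderOf c ∣ 1 :=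
      hcop.gcd_eq_one ▸ Nat.dvd_gcd (orderOf_dvd_of_pow_eq_one h2) h4
    have : c = 1 := orderOf_eq_one_iff.mp (Nat.dvd_one.mp h5)
    simpa [this] using hu
  have incl : ∀ b ∈ A, ∀ y ∈ L, ∀ u ∈ H b, y * u * y⁻¹ ∈ H (y * b * y⁻¹) := by
    intro b hb y hy u hu
    refine main _ (hD.conj_mem y hy b hb) _ ?_ ?_
    · rw [Subgroup.mem_centralizer_singleton_iff]
      have h := Subgroup.mem_centralizer_singleton_iff.mp (hD.le_centralizer b hb hu)
      calc y * u * y⁻¹ * (y * b * y⁻¹) = y * (u * b) * y⁻¹ := by group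
        _ = y * (b * u) * y⁻¹ := by rw [h]
        _ = _ := by group
    · refine Nat.Coprime.coprime_dvd_left ?_ (hD.coprime b hb _ (hD.conj_mem y hy b hb))
      have e : orderOf (y * u * y⁻¹) = orderOf u := by
        simpa using orderOf_injective (MulAut.conj y).toMonoidHom (MulEquiv.injective _) u
      rw [e, ← Subgroup.orderOf_mk u hu]
      exact orderOf_dvd_natCard _
  ext v
  rw [Subgroup.mem_map]
  constructor
  · intro hv
    refine ⟨x⁻¹ * v * x, ?_, by simp [mul_assoc]⟩
    have := incl _ (hD.conj_mem x hx a ha) x⁻¹ (L.inv_mem hx) v hv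
    simpa [mul_assoc] using this
  · rintro ⟨u, hu, rfl⟩
    simpa using incl a ha x hx u hu

end Cfsg.Agent.S1498
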