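import Cfsg.Statements.S1499
import Cfsg.Agent.Lib.Char.DadeGen

set_option autoImplicit false
open Cfsg

namespace Cfsg.Agent.S1499

open Cfsg.Agent.Char

open Cfsg.Agent.Char.Dade

/-- Under the Dade hypothesis for (A, L, H), let a, b ∈ A. If an element of the coset a·H(a) is conjugate in G to an element of b·H(b), then a and b are conjugate by an element of L. Moreover the set normaliser of the coset a·H(a) is the centraliser of a. -/
theorem result {G : Type*} [Group G] [Finite G] (A : Set G) (L : Subgroup G) (H : G → Subgroup G) (hD : Cfsg.DadeHypothesis A L H) (a b : G) (ha : a ∈ A) (hb : b ∈ A) : ((∃ u ∈ H a, ∃ v ∈ H b, ∃ g : G, g * (a * u) * g⁻¹ = b * v) → ∃ x ∈ L, x * a * x⁻¹ = b) ∧ Subgroup.normalizer ((fun u : G => a * u) '' (H a : Set G)) = Subgroup.centralizer ({a} : Set G) := by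
  classical
  refine ⟨fun ⟨u, hu, v, hv, g, e⟩ => fusion_coset hD ha hb hu hv e, le_antisymm ?_ ?_⟩
  · intro g hg
    obtain ⟨u, hu, e⟩ := (hg a).mp ⟨1, (H a).one_mem, by simp⟩
    have h := conj_eq_of_coset hD ha ha (H a).one_mem hu (g := g) (by simpa using e.symm)
    rw [Subgroup.mem_centralizer_singleton_iff]
    exact mul_inv_eq_iff_eq_mul.mp h
  · intro c hc y
    have hca := Subgroup.mem_centralizer_singleton_iff.mp hc
    have h1 : ∀ u, c * (a * u) * c⁻¹ = a * (c * u * c⁻¹) := fun u => by
      calc c * (a * u) * c⁻¹ = c * a * u * c⁻¹ := by group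
        _ = _ := by rw [hca]; group
    constructor
    · rintro ⟨u, hu, rfl⟩
      exact ⟨c * u * c⁻¹, hD.conj_mem_H a ha c hc u hu, (h1 u).symm⟩
    · rintro ⟨v, hv, e⟩
      refine ⟨c⁻¹ * v * c, by simpa using hD.conj_mem_H a ha c⁻¹ (Subgroup.inv_mem _ hc) v hv, ?_⟩
      apply mul_left_cancel (a := c)
      apply mul_right_cancel (b := c⁻¹)
      rw [h1]
      simp only at e
      rw [← e]
      group

end Cfsg.Agent.S1499
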