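import Cfsg.Statements.S1503
import Cfsg.Agent.Lib.Char.CyclicW
-- import your own Cfsg.Agent.* helpers here

set_option autoImplicit false
open Cfsg

namespace Cfsg.Agent.S1503

/-- Let W₁, W₂ ≤ G with W = W₁ ⊔ W₂ and let χ an orthonormal family of irreducible characters of G up to sign, indexed by the linear characters ω of W, with χ_1 = 1, χ_ω = ω on W outside W₁ ∪ W₂, and the induction identity for (1 − φ)(1 − ψ). If θ is an irreducible character of G orthogonal to χ ω for every linear character ω of W, then θ vanishes at every element of W lying outside W₁ ∪ W₂. -/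
theorem result {G : Type*} [Group G] [Fintype G] (W₁ W₂ : Subgroup G) (hW : Cfsg.IsSelfNormalizingCyclic W₁ W₂) (χ : (↥(W₁ ⊔ W₂) →* ℂˣ) → (G → ℂ)) (hχ : Cfsg.IsCyclicTIFamily W₁ W₂ χ) (θ : G → ℂ) (hθ : Cfsg.IsIrrCharacter G θ) (horth : ∀ ω, Cfsg.classInner θ (χ ω) = 0) (w : ↥(W₁ ⊔ W₂)) (hw₁ : (w : G) ∉ W₁) (hw₂ : (w : G) ∉ W₂) : θ w = 0 := by
  classical
  haveI : Fintype ↥(W₁ ⊔ W₂) := Fintype.ofFinite _
  haveI : Fintype (↥(W₁ ⊔ W₂) →* ℂˣ) := Fintype.ofFinite _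
  have hcomm := hW.2.2.2.1
  have hab : ∀ v u : ↥(W₁ ⊔ W₂), v * u = u * v := fun v u => by
    obtain ⟨g, hg⟩ := hW.2.2.2.2.1.exists_generator
    obtain ⟨i, rfl⟩ := Subgroup.mem_zpowers_iff.1 (hg v)
    obtain ⟨j, rfl⟩ := Subgroup.mem_zpowers_iff.1 (hg u)
    rw [← zpow_add, ← zpow_add, add_comm]
  set A := Finset.univ.filter (fun φ : ↥(W₁ ⊔ W₂) →* ℂˣ => ∀ v : ↥(W₁ ⊔ W₂), (v : G) ∈ W₂ → φ v = 1) with hA
  set B := Finset.univ.filter (fun φ : ↥(W₁ ⊔ W₂) →* ℂˣ => ∀ v : ↥(W₁ ⊔ W₂), (v : G) ∈ W₁ → φ v = 1) with hB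
  -- the sum over one family
  have horthA : ∀ u v : ↥(W₁ ⊔ W₂), ∑ φ ∈ A, (1 - (φ u : ℂ)) * ((φ v : ℂ))⁻¹ =
      (if (v : G) ∈ W₂ then (A.card : ℂ) else 0) -
        (if ((u * v⁻¹ : ↥(W₁ ⊔ W₂)) : G) ∈ W₂ then (A.card : ℂ) else 0) := by
    intro u v
    have key : ∀ w : ↥(W₁ ⊔ W₂), ∑ φ ∈ A, (φ w : ℂ) = if (w : G) ∈ W₂ then (A.card : ℂ) else 0 := by
      intro w
      split_ifs with hw
      · rw [Finset.sum_congr rfl (g := fun _ => (1 : ℂ)) fun φ hφ => by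
          rw [(Finset.mem_filter.1 hφ).2 w hw, Units.val_one], Finset.sum_const, nsmul_one]
      · obtain ⟨φ₀, h₀, hne⟩ := Cfsg.Agent.Char.CyclicW.exists_left W₁ W₂ hcomm hab hw
        have e : ∑ φ ∈ A, (φ w : ℂ) = ∑ φ ∈ A, ((φ₀ * φ) w : ℂ) := by
          refine (Finset.sum_bij' (fun φ _ => φ₀⁻¹ * φ) (fun φ _ => φ₀ * φ) ?_ ?_ ?_ ?_ ?_)
          · intro φ hφ
            simp only [hA, Finset.mem_filter, Finset.mem_univ, true_and] at hφ ⊢
            intro v hv; simp [hφ v hv, h₀ v hv]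
          · intro φ hφ
            simp only [hA, Finset.mem_filter, Finset.mem_univ, true_and] at hφ ⊢
            intro v hv; simp [hφ v hv, h₀ v hv]
          · intro φ _; exact mul_inv_cancel_left φ₀ φ
          · intro φ _; exact inv_mul_cancel_left φ₀ φ
          · intro φ _; simp
        simp only [MonoidHom.mul_apply, Units.val_mul, ← Finset.mul_sum] at e
        have h1 : ((φ₀ w : ℂ) - 1) * ∑ φ ∈ A, (φ w : ℂ) = 0 := by rw [sub_mul, one_mul, ← e, sub_self]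
        exact (mul_eq_zero.1 h1).resolve_left
          (sub_ne_zero.2 fun h => hne (Units.ext h))
    have h1 : ∀ φ : ↥(W₁ ⊔ W₂) →* ℂˣ, (1 - (φ u : ℂ)) * ((φ v : ℂ))⁻¹ =
        (φ v⁻¹ : ℂ) - (φ (u * v⁻¹) : ℂ) := fun φ => by
      simp [map_mul, sub_mul]
    rw [Finset.sum_congr rfl (fun φ _ => h1 φ), Finset.sum_sub_distrib, key, key]
    congr 1
    exact if_congr (by simp) rfl rfl
  have horthB : ∀ u v : ↥(W₁ ⊔ W₂), ∑ φ ∈ B, (1 - (φ u : ℂ)) * ((φ v : ℂ))⁻¹ =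
      (if (v : G) ∈ W₁ then (B.card : ℂ) else 0) -
        (if ((u * v⁻¹ : ↥(W₁ ⊔ W₂)) : G) ∈ W₁ then (B.card : ℂ) else 0) := by
    intro u v
    have key : ∀ w : ↥(W₁ ⊔ W₂), ∑ φ ∈ B, (φ w : ℂ) = if (w : G) ∈ W₁ then (B.card : ℂ) else 0 := by
      intro w
      split_ifs with hw
      · rw [Finset.sum_congr rfl (g := fun _ => (1 : ℂ)) fun φ hφ => by
          rw [(Finset.mem_filter.1 hφ).2 w hw, Units.val_one], Finset.sum_const, nsmul_one]
      · obtain ⟨φ₀, h₀, hne⟩ := Cfsg.Agent.Char.CyclicW.exists_right W₁ W₂ hcomm hab hw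
        have e : ∑ φ ∈ B, (φ w : ℂ) = ∑ φ ∈ B, ((φ₀ * φ) w : ℂ) := by
          refine (Finset.sum_bij' (fun φ _ => φ₀⁻¹ * φ) (fun φ _ => φ₀ * φ) ?_ ?_ ?_ ?_ ?_)
          · intro φ hφ
            simp only [hB, Finset.mem_filter, Finset.mem_univ, true_and] at hφ ⊢
            intro v hv; simp [hφ v hv, h₀ v hv]
          · intro φ hφ
            simp only [hB, Finset.mem_filter, Finset.mem_univ, true_and] at hφ ⊢
            intro v hv; simp [hφ v hv, h₀ v hv]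
          · intro φ _; exact mul_inv_cancel_left φ₀ φ
          · intro φ _; exact inv_mul_cancel_left φ₀ φ
          · intro φ _; simp
        simp only [MonoidHom.mul_apply, Units.val_mul, ← Finset.mul_sum] at e
        have h1 : ((φ₀ w : ℂ) - 1) * ∑ φ ∈ B, (φ w : ℂ) = 0 := by rw [sub_mul, one_mul, ← e, sub_self]
        exact (mul_eq_zero.1 h1).resolve_left
          (sub_ne_zero.2 fun h => hne (Units.ext h))
    have h1 : ∀ φ : ↥(W₁ ⊔ W₂) →* ℂˣ, (1 - (φ u : ℂ)) * ((φ v : ℂ))⁻¹ =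
        (φ v⁻¹ : ℂ) - (φ (u * v⁻¹) : ℂ) := fun φ => by
      simp [map_mul, sub_mul]
    rw [Finset.sum_congr rfl (fun φ _ => h1 φ), Finset.sum_sub_distrib, key, key]
    congr 1
    exact if_congr (by simp) rfl rfl
  -- orthogonality to the basic functions
  have hbasic : ∀ φ ∈ A, ∀ ψ ∈ B, ∑ u : ↥(W₁ ⊔ W₂),
      (1 - (φ u : ℂ)) * (1 - (ψ u : ℂ)) * starRingEnd ℂ (θ (u : G)) = 0 := by
    intro φ hφ ψ hψ
    have e0 : ∀ u : ↥(W₁ ⊔ W₂), (1 - (φ u : ℂ)) * (1 - (ψ u : ℂ)) =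
        1 - (φ u : ℂ) - (ψ u : ℂ) + (φ u : ℂ) * (ψ u : ℂ) := fun u => by ring
    by_cases h1 : φ = 1
    · exact Finset.sum_eq_zero fun u _ => by simp [h1]
    by_cases h2 : ψ = 1
    · exact Finset.sum_eq_zero fun u _ => by simp [h2]
    have h0 : Cfsg.classInner (Cfsg.indFun (W₁ ⊔ W₂) (fun w => 1 - (φ w : ℂ) - (ψ w : ℂ) + (φ w : ℂ) * (ψ w : ℂ))) θ = 0 := by
      rw [hχ.induced_eq φ ψ h1 h2 (Finset.mem_filter.1 hφ).2 (Finset.mem_filter.1 hψ).2]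
      have hz : ∀ ω, Cfsg.classInner (χ ω) θ = 0 := fun ω => by
        rw [← Cfsg.Agent.Char.classInner_conj_symm, horth ω, map_zero]
      have e : (fun g => 1 - χ φ g - χ ψ g + χ (φ * ψ) g) = χ 1 - χ φ - χ ψ + χ (φ * ψ) := by
        funext g; simp [hχ.map_one]
      rw [e, Cfsg.Agent.Char.classInner_add_left, Cfsg.Agent.Char.classInner_sub_left,
        Cfsg.Agent.Char.classInner_sub_left, hz, hz, hz, hz]
      simp
    rw [Cfsg.Agent.Char.classInner_indFun _ _ (Cfsg.Agent.Char.IsIrr.classFun hθ), Cfsg.classInner,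
      mul_eq_zero, or_iff_right (inv_ne_zero (Nat.cast_ne_zero.2 Nat.card_pos.ne'))] at h0
    rw [← h0]
    exact Finset.sum_congr rfl fun u _ => by rw [e0]
  have hsum : ∑ φ ∈ A, ∑ ψ ∈ B, ((φ w : ℂ))⁻¹ * ((ψ w : ℂ))⁻¹ * ∑ u : ↥(W₁ ⊔ W₂),
      (1 - (φ u : ℂ)) * (1 - (ψ u : ℂ)) * starRingEnd ℂ (θ (u : G)) = 0 :=
    Finset.sum_eq_zero fun φ hφ => Finset.sum_eq_zero fun ψ hψ => by rw [hbasic φ hφ ψ hψ, mul_zero]
  have hswap : ∑ u : ↥(W₁ ⊔ W₂), (∑ φ ∈ A, (1 - (φ u : ℂ)) * ((φ w : ℂ))⁻¹) *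
      (∑ ψ ∈ B, (1 - (ψ u : ℂ)) * ((ψ w : ℂ))⁻¹) * starRingEnd ℂ (θ (u : G)) = 0 := by
    rw [← hsum]
    simp only [Finset.sum_mul_sum]
    simp only [Finset.sum_mul, Finset.mul_sum]
    rw [Finset.sum_comm]
    refine Finset.sum_congr rfl fun φ _ => ?_
    rw [Finset.sum_comm]
    exact Finset.sum_congr rfl fun ψ _ => Finset.sum_congr rfl fun u _ => by ring
  rw [Finset.sum_eq_single w] at hswap
  · rw [horthA, horthB, if_neg hw₂, if_neg hw₁, mul_inv_cancel] at hswap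
    simp only [Subgroup.coe_one, one_mem, if_true, zero_sub] at hswap
    have hA0 : (A.card : ℂ) ≠ 0 := Nat.cast_ne_zero.2 (Finset.card_ne_zero.2 ⟨1, by simp [hA]⟩)
    have hB0 : (B.card : ℂ) ≠ 0 := Nat.cast_ne_zero.2 (Finset.card_ne_zero.2 ⟨1, by simp [hB]⟩)
    simpa [hA0, hB0] using hswap
  · intro u _ hne
    rw [horthA, horthB, if_neg hw₂, if_neg hw₁, zero_sub, zero_sub]
    by_cases hu : ((u * w⁻¹ : ↥(W₁ ⊔ W₂)) : G) ∈ W₂
    · by_cases hu' : ((u * w⁻¹ : ↥(W₁ ⊔ W₂)) : G) ∈ W₁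
      · refine absurd ?_ hne
        have h := Subgroup.mem_inf.2 ⟨hu', hu⟩
        rw [hW.2.2.1, Subgroup.mem_bot] at h
        exact mul_inv_eq_one.1 (Subtype.ext h)
      · rw [if_neg hu', neg_zero, mul_zero, zero_mul]
    · rw [if_neg hu, neg_zero, zero_mul, zero_mul]
  · exact fun h => absurd (Finset.mem_univ _) h

end Cfsg.Agent.S1503
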