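import Cfsg.Statements.S1504
import Cfsg.Agent.Lib.Char.CyclicW
-- import your own Cfsg.Agent.* helpers here

set_option autoImplicit false
open Cfsg

namespace Cfsg.Agent.S1504

/-- Let W₁, W₂ be subgroups of a finite group with W₁ ⊓ W₂ = ⊥ whose elements commute, and W = W₁ ⊔ W₂. For linear characters φ, ψ of W with φ trivial on W₂ and ψ trivial on W₁, the function (1 − φ)(1 − ψ) vanishes on W₁ ∪ W₂; and the family of these functions, indexed by pairs (φ, ψ) with φ ≠ 1 ≠ ψ, is linearly independent over ℂ. -/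
theorem result {G : Type*} [Group G] [Finite G] (W₁ W₂ : Subgroup G) (hdisj : W₁ ⊓ W₂ = ⊥) (hcomm : ∀ a ∈ W₁, ∀ b ∈ W₂, a * b = b * a) : (∀ φ ψ : ↥(W₁ ⊔ W₂) →* ℂˣ, (∀ w : ↥(W₁ ⊔ W₂), (w : G) ∈ W₂ → φ w = 1) → (∀ w : ↥(W₁ ⊔ W₂), (w : G) ∈ W₁ → ψ w = 1) → ∀ w : ↥(W₁ ⊔ W₂), ((w : G) ∈ W₁ ∨ (w : G) ∈ W₂) → (1 - (φ w : ℂ) - (ψ w : ℂ) + (φ w : ℂ) * (ψ w : ℂ)) = 0) ∧ LinearIndependent ℂ (fun p : {p : (↥(W₁ ⊔ W₂) →* ℂˣ) × (↥(W₁ ⊔ W₂) →* ℂˣ) // p.1 ≠ 1 ∧ p.2 ≠ 1 ∧ (∀ w : ↥(W₁ ⊔ W₂), (w : G) ∈ W₂ → p.1 w = 1) ∧ (∀ w : ↥(W₁ ⊔ W₂), (w : G) ∈ W₁ → p.2 w = 1)} => fun w : ↥(W₁ ⊔ W₂) => 1 - (p.1.1 w : ℂ) - (p.1.2 w : ℂ) + (p.1.1 w : ℂ) * (p.1.2 w : ℂ)) := by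
  classical
  refine ⟨fun φ ψ hφ hψ w hw => Cfsg.Agent.Char.CyclicW.basic_vanish W₁ W₂ hφ hψ hw, ?_⟩
  haveI : Fintype G := Fintype.ofFinite _
  haveI : Fintype ↥(W₁ ⊔ W₂) := Fintype.ofFinite _
  rw [linearIndependent_iff']
  intro s g hg p hp
  let f : (↥(W₁ ⊔ W₂) →* ℂˣ) → ↥(W₁ ⊔ W₂) → ℂ := fun l w => (l w : ℂ)
  have hin : ∀ a b : ↥(W₁ ⊔ W₂) →* ℂˣ, Cfsg.classInner (f a) (f b) = if a = b then 1 else 0 := by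
    intro a b
    rw [Cfsg.Agent.Char.classInner_irr_eq_ite (Cfsg.Agent.Char.isIrr_linear a) (Cfsg.Agent.Char.isIrr_linear b)]
    exact if_congr ⟨fun h => MonoidHom.ext fun w => Units.ext (congrFun h w), fun h => by rw [h]⟩ rfl rfl
  have h0 := congrArg (fun F => Cfsg.classInner F (f (p.1.1 * p.1.2))) hg
  simp only [Cfsg.Agent.Char.classInner_sum_left, Cfsg.Agent.Char.classInner_smul_left,
    Cfsg.Agent.Char.classInner_zero_left] at h0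
  have hterm : ∀ q : {p : (↥(W₁ ⊔ W₂) →* ℂˣ) × (↥(W₁ ⊔ W₂) →* ℂˣ) // p.1 ≠ 1 ∧ p.2 ≠ 1 ∧
      (∀ w : ↥(W₁ ⊔ W₂), (w : G) ∈ W₂ → p.1 w = 1) ∧ (∀ w : ↥(W₁ ⊔ W₂), (w : G) ∈ W₁ → p.2 w = 1)},
      Cfsg.classInner (fun w : ↥(W₁ ⊔ W₂) => 1 - (q.1.1 w : ℂ) - (q.1.2 w : ℂ) + (q.1.1 w : ℂ) * (q.1.2 w : ℂ))
        (f (p.1.1 * p.1.2)) = if q = p then 1 else 0 := by
    intro q
    have e : (fun w : ↥(W₁ ⊔ W₂) => 1 - (q.1.1 w : ℂ) - (q.1.2 w : ℂ) + (q.1.1 w : ℂ) * (q.1.2 w : ℂ)) =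
        f 1 - f q.1.1 - f q.1.2 + f (q.1.1 * q.1.2) := by
      funext w; simp [f]
    obtain ⟨p1, p2, p3, p4⟩ := p.2
    obtain ⟨q1, q2, q3, q4⟩ := q.2
    have e1 : (1 : ↥(W₁ ⊔ W₂) →* ℂˣ) ≠ p.1.1 * p.1.2 := fun h => p1
      (Cfsg.Agent.Char.CyclicW.pair_inj W₁ W₂ hcomm p3 (fun _ _ => rfl) p4 (fun _ _ => rfl)
        (h.symm.trans (one_mul (1 : ↥(W₁ ⊔ W₂) →* ℂˣ)).symm)).1
    have e2 : q.1.1 ≠ p.1.1 * p.1.2 := fun h => p2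
      (Cfsg.Agent.Char.CyclicW.pair_inj W₁ W₂ hcomm p3 q3 p4 (fun _ _ => rfl)
        (h.symm.trans (mul_one q.1.1).symm)).2
    have e3 : q.1.2 ≠ p.1.1 * p.1.2 := fun h => p1
      (Cfsg.Agent.Char.CyclicW.pair_inj W₁ W₂ hcomm p3 (fun _ _ => rfl) p4 q4
        (h.symm.trans (one_mul q.1.2).symm)).1
    have e4 : q.1.1 * q.1.2 = p.1.1 * p.1.2 ↔ q = p :=
      ⟨fun h => Subtype.ext (Prod.ext
        (Cfsg.Agent.Char.CyclicW.pair_inj W₁ W₂ hcomm q3 p3 q4 p4 h).1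
        (Cfsg.Agent.Char.CyclicW.pair_inj W₁ W₂ hcomm q3 p3 q4 p4 h).2), fun h => by rw [h]⟩
    rw [e]
    simp only [Cfsg.Agent.Char.classInner_add_left, Cfsg.Agent.Char.classInner_sub_left, hin, e1, e2, e3,
      e4, if_false, sub_zero, zero_add]
  simp only [hterm, mul_ite, mul_one, mul_zero] at h0
  rwa [Finset.sum_ite_eq' s p, if_pos hp] at h0

end Cfsg.Agent.S1504
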