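import Cfsg.Statements.S1505
import Cfsg.Agent.Lib.Char.CyclicW
-- import your own Cfsg.Agent.* helpers here

set_option autoImplicit false
open Cfsg

namespace Cfsg.Agent.S1505

open Classical in
/-- Let W₁, W₂ ≤ G form a self-normalising cyclic subgroup W = W₁ ⊔ W₂. For nontrivial linear characters φ, φ' of W trivial on W₂ and ψ, ψ' trivial on W₁, put α = (1 − φ)(1 − ψ) and α' = (1 − φ')(1 − ψ'). Then the function induced from α to G has inner product 1 with the principal character, and the inner product of the functions induced from α and α' is 1 + a + b + ab where a = 1 if φ = φ' (else 0) and b = 1 if ψ = ψ' (else 0). -/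
theorem result {G : Type*} [Group G] [Fintype G] (W₁ W₂ : Subgroup G) (hW : Cfsg.IsSelfNormalizingCyclic W₁ W₂) (φ φ' ψ ψ' : ↥(W₁ ⊔ W₂) →* ℂˣ) (hφ : φ ≠ 1) (hφ' : φ' ≠ 1) (hψ : ψ ≠ 1) (hψ' : ψ' ≠ 1) (hφ₂ : ∀ w : ↥(W₁ ⊔ W₂), (w : G) ∈ W₂ → φ w = 1 ∧ φ' w = 1) (hψ₁ : ∀ w : ↥(W₁ ⊔ W₂), (w : G) ∈ W₁ → ψ w = 1 ∧ ψ' w = 1) : Cfsg.classInner (Cfsg.indFun (W₁ ⊔ W₂) (fun w => 1 - (φ w : ℂ) - (ψ w : ℂ) + (φ w : ℂ) * (ψ w : ℂ))) (fun _ => 1) = 1 ∧ Cfsg.classInner (Cfsg.indFun (W₁ ⊔ W₂) (fun w => 1 - (φ w : ℂ) - (ψ w : ℂ) + (φ w : ℂ) * (ψ w : ℂ))) (Cfsg.indFun (W₁ ⊔ W₂) (fun w => 1 - (φ' w : ℂ) - (ψ' w : ℂ) + (φ' w : ℂ) * (ψ' w : ℂ))) = 1 + (if φ = φ' then 1 else 0) + (if ψ = ψ' then 1 else 0) + (if φ = φ' then 1 else 0) * (if ψ = ψ' then 1 else 0) := by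
  classical
  haveI : Fintype ↥(W₁ ⊔ W₂) := Fintype.ofFinite _
  have hcomm := hW.2.2.2.1
  have hv := @Cfsg.Agent.Char.CyclicW.basic_vanish G _ W₁ W₂
  refine ⟨?_, ?_⟩
  · rw [Cfsg.Agent.Char.classInner_indFun _ _ (fun _ _ => rfl)]
    have hl : ∀ l : ↥(W₁ ⊔ W₂) →* ℂˣ, l ≠ 1 → ∑ w : ↥(W₁ ⊔ W₂), (l w : ℂ) = 0 :=
      Cfsg.Agent.Char.linear_sum
    have hne : φ * ψ ≠ 1 := fun h => hφ (Cfsg.Agent.Char.CyclicW.pair_inj W₁ W₂ hcomm
      (φ := φ) (φ' := 1) (ψ := ψ) (ψ' := 1) (fun w h => (hφ₂ w h).1) (fun _ _ => rfl)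
      (fun w h => (hψ₁ w h).1) (fun _ _ => rfl) (h.trans (one_mul (1 : ↥(W₁ ⊔ W₂) →* ℂˣ)).symm)).1
    have h3 := hl _ hne
    simp only [MonoidHom.mul_apply, Units.val_mul] at h3
    simp only [Cfsg.classInner, map_one, mul_one, Finset.sum_add_distrib, Finset.sum_sub_distrib,
      hl φ hφ, hl ψ hψ, h3, Finset.sum_const, Finset.card_univ, nsmul_eq_mul,
      ← Nat.card_eq_fintype_card, sub_zero, add_zero]
    exact inv_mul_cancel₀ (Nat.cast_ne_zero.2 Nat.card_pos.ne')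
  · rw [Cfsg.Agent.Char.classInner_indFun _ _ (Cfsg.Agent.Char.indFun_classFun _ _)]
    refine Eq.trans ?_ ((Cfsg.Agent.Char.CyclicW.classInner_basic W₁ W₂ hcomm hφ hφ' hψ hψ' (fun w h => (hφ₂ w h).1)
        (fun w h => (hφ₂ w h).2) (fun w h => (hψ₁ w h).1) (fun w h => (hψ₁ w h).2)).trans ?_)
    rotate_left
    · convert rfl
    simp only [Cfsg.classInner]
    congr 1
    refine Finset.sum_congr rfl fun w _ => ?_
    by_cases h : (w : G) ∈ W₁ ∨ (w : G) ∈ W₂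
    · rw [hv (fun w h => (hφ₂ w h).1) (fun w h => (hψ₁ w h).1) h, zero_mul, zero_mul]
    · push Not at h
      rw [Cfsg.Agent.Char.CyclicW.indFun_apply_ext hW _
        (fun v hv' => hv (fun w h => (hφ₂ w h).2) (fun w h => (hψ₁ w h).2) hv') w h.1 h.2]

end Cfsg.Agent.S1505
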