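import Cfsg.Statements.S1507
import Cfsg.Agent.S1506
import Cfsg.Agent.Lib.Char.CyclicW
import Mathlib.GroupTheory.FiniteAbelian.Duality
import Mathlib.RingTheory.RootsOfUnity.AlgebraicallyClosed
import Mathlib.Tactic.LinearCombination

set_option autoImplicit false
open Cfsg

namespace Cfsg.Agent.S1507

open Classical in
/-- Let W₁, W₂ ≤ G form a self-normalising cyclic subgroup W = W₁ ⊔ W₂ of odd order with Nat.card W₁ < Nat.card W₂, and χ an orthonormal family of irreducible characters of G up to sign, indexed by the linear characters ω of W, with χ_1 = 1, χ_ω = ω on W outside W₁ ∪ W₂, and the induction identity for (1 − φ)(1 − ψ). Let θ be a class function of G vanishing on W outside W₁ ∪ W₂, and suppose fewer than 2 · Nat.card W₁ linear characters ω of W have ⟨θ, χ ω⟩ ≠ 0. Then one of: all ⟨θ, χ ω⟩ vanish; or there are ψ₀ and a with ⟨θ, χ ω⟩ = a when ω ψ₀⁻¹ is trivial on W₂ and 0 otherwise; or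 there are φ₀ and a with ⟨θ, χ ω⟩ = a when ω φ₀⁻¹ is trivial on W₁ and 0 otherwise. -/
theorem result {G : Type*} [Group G] [Fintype G] (W₁ W₂ : Subgroup G) (hW : Cfsg.IsSelfNormalizingCyclic W₁ W₂) (hodd : Odd (Nat.card ↥(W₁ ⊔ W₂))) (χ : (↥(W₁ ⊔ W₂) →* ℂˣ) → (G → ℂ)) (hχ : Cfsg.IsCyclicTIFamily W₁ W₂ χ) (hlt : Nat.card W₁ < Nat.card W₂) (θ : G → ℂ) (hθ : Cfsg.IsClassFunction G θ) (hθV : ∀ w : ↥(W₁ ⊔ W₂), (w : G) ∉ W₁ → (w : G) ∉ W₂ → θ w = 0) (hfew : Nat.card {ω : ↥(W₁ ⊔ W₂) →* ℂˣ // Cfsg.classInner θ (χ ω) ≠ 0} < 2 * Nat.card W₁) : (∀ ω, Cfsg.classInner θ (χ ω) = 0) ∨ (∃ (ψ₀ : ↥(W₁ ⊔ W₂) →* ℂˣ) (a : ℂ), ∀ ω, Cfsg.classInner θ (χ ω) = if (∀ w : ↥(W₁ ⊔ W₂), (w : G) ∈ W₂ → (ω * ψ₀⁻¹) w = 1) then a else 0) ∨ (∃ (φ₀ : ↥(W₁ ⊔ W₂) →* ℂˣ) (a : ℂ), ∀ ω, Cfsg.classInner θ (χ ω) = if (∀ w : ↥(W₁ ⊔ W₂), (w : G) ∈ W₁ → (ω * φ₀⁻¹) w = 1) then a else 0) := by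
  obtain ⟨hW1, hW2, hinf, hcomm, hcyc, -⟩ := id hW
  haveI : IsCyclic ↥(W₁ ⊔ W₂) := hcyc
  have hdec := fun w : ↥(W₁ ⊔ W₂) => Cfsg.Agent.Char.CyclicW.exists_mul_eq W₁ W₂ hcomm w.2
  choose pa hpa pb hpb hpab using hdec
  have huniq : ∀ {a b c d : G}, a ∈ W₁ → b ∈ W₂ → c ∈ W₁ → d ∈ W₂ → a * b = c * d → a = c ∧ b = d := by
    intro a b c d ha hb hc hd h
    have e : c⁻¹ * a = d * b⁻¹ := by
      rw [inv_mul_eq_iff_eq_mul, ← mul_assoc, eq_mul_inv_iff_mul_eq]; exact h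
    have h1 : c⁻¹ * a ∈ W₁ ⊓ W₂ :=
      ⟨W₁.mul_mem (W₁.inv_mem hc) ha, e ▸ W₂.mul_mem hd (W₂.inv_mem hb)⟩
    rw [hinf, Subgroup.mem_bot, inv_mul_eq_one] at h1
    subst h1
    exact ⟨rfl, mul_left_cancel h⟩
  have hmulp : ∀ v w, pa (v * w) = pa v * pa w ∧ pb (v * w) = pb v * pb w := fun v w => by
    refine huniq (hpa _) (hpb _) (W₁.mul_mem (hpa v) (hpa w)) (W₂.mul_mem (hpb v) (hpb w)) ?_
    rw [hpab, Subgroup.coe_mul, ← hpab v, ← hpab w, mul_assoc, mul_assoc]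
    congr 1
    rw [← mul_assoc, ← hcomm _ (hpa w) _ (hpb v), mul_assoc]
  let P : ↥(W₁ ⊔ W₂) →* W₁ := MonoidHom.mk' (fun w => ⟨pa w, hpa w⟩) fun v w => Subtype.ext (hmulp v w).1
  let Q : ↥(W₁ ⊔ W₂) →* W₂ := MonoidHom.mk' (fun w => ⟨pb w, hpb w⟩) fun v w => Subtype.ext (hmulp v w).2
  let i₁ : W₁ →* ↥(W₁ ⊔ W₂) := Subgroup.inclusion le_sup_left
  let i₂ : W₂ →* ↥(W₁ ⊔ W₂) := Subgroup.inclusion le_sup_right
  have hPi₁ : ∀ a, P (i₁ a) = a ∧ Q (i₁ a) = 1 := fun a => by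
    have h := huniq (hpa (i₁ a)) (hpb (i₁ a)) a.2 W₂.one_mem (by rw [hpab, mul_one]; rfl)
    exact ⟨Subtype.ext h.1, Subtype.ext h.2⟩
  have hPi₂ : ∀ b, P (i₂ b) = 1 ∧ Q (i₂ b) = b := fun b => by
    have h := huniq (hpa (i₂ b)) (hpb (i₂ b)) W₁.one_mem b.2 (by rw [hpab, one_mul]; rfl)
    exact ⟨Subtype.ext h.1, Subtype.ext h.2⟩
  have hsplit : ∀ w, i₁ (P w) * i₂ (Q w) = w := fun w => Subtype.ext (hpab w)
  let E : (W₁ →* ℂˣ) → (W₂ →* ℂˣ) → (↥(W₁ ⊔ W₂) →* ℂˣ) := fun f g => f.comp P * g.comp Q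
  have hE : ∀ ω : ↥(W₁ ⊔ W₂) →* ℂˣ, E (ω.comp i₁) (ω.comp i₂) = ω := fun ω => MonoidHom.ext fun w => by
    show ω (i₁ (P w)) * ω (i₂ (Q w)) = ω w
    rw [← map_mul, hsplit]
  have hE1 : ∀ f g, (E f g).comp i₁ = f ∧ (E f g).comp i₂ = g := fun f g =>
    ⟨MonoidHom.ext fun a => by
      show f (P (i₁ a)) * g (Q (i₁ a)) = f a
      rw [(hPi₁ a).1, (hPi₁ a).2, map_one, mul_one],
     MonoidHom.ext fun b => by
      show f (P (i₂ b)) * g (Q (i₂ b)) = g b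
      rw [(hPi₂ b).1, (hPi₂ b).2, map_one, one_mul]⟩
  have hcard : ∀ U : Subgroup G, U ≤ W₁ ⊔ W₂ → Finite (U →* ℂˣ) ∧ Nat.card (U →* ℂˣ) = Nat.card U := by
    intro U hU
    haveI : IsCyclic U := isCyclic_of_injective (Subgroup.inclusion hU) (Subgroup.inclusion_injective hU)
    letI : CommGroup U := IsCyclic.commGroup
    have h := CommGroup.card_monoidHom_of_hasEnoughRootsOfUnity U ℂ
    exact ⟨Nat.finite_of_card_ne_zero (by rw [h]; exact Nat.card_pos.ne'), h⟩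
  obtain ⟨hfin₁, hn₁⟩ := hcard W₁ le_sup_left
  obtain ⟨hfin₂, hn₂⟩ := hcard W₂ le_sup_right
  haveI := hfin₁; haveI := hfin₂
  haveI : Fintype (W₁ →* ℂˣ) := Fintype.ofFinite _
  haveI : Fintype (W₂ →* ℂˣ) := Fintype.ofFinite _
  set n₁ := Nat.card W₁ with hn₁d
  set n₂ := Nat.card W₂ with hn₂d
  rw [Nat.card_eq_fintype_card] at hn₁ hn₂
  have hodd₁ : Odd n₁ := Odd.of_dvd_nat hodd (Subgroup.card_dvd_of_le le_sup_left)
  have hodd₂ : Odd n₂ := Odd.of_dvd_nat hodd (Subgroup.card_dvd_of_le le_sup_right)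
  have h1ne : n₁ ≠ 1 := fun h => hW1 (Subgroup.card_eq_one.1 h)
  obtain ⟨k₁, hk₁⟩ := hodd₁
  obtain ⟨k₂, hk₂⟩ := hodd₂
  set a : (↥(W₁ ⊔ W₂) →* ℂˣ) → ℂ := fun ω => classInner θ (χ ω) with had
  let x : (W₁ →* ℂˣ) → ℂ := fun f => a (E f 1) - a (E 1 1)
  let y : (W₂ →* ℂˣ) → ℂ := fun g => a (E 1 g)
  have hxy : ∀ f g, a (E f g) = x f + y g := by
    intro f g
    have h := Cfsg.Agent.S1506.result W₁ W₂ hW χ hχ θ hθ hθV (f.comp P) ((1 : W₁ →* ℂˣ).comp P)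
      (g.comp Q) ((1 : W₂ →* ℂˣ).comp Q) (fun w hw => by
        have e : P w = 1 := by
          have := (hPi₂ ⟨w, hw⟩).1
          rwa [show i₂ ⟨(w : G), hw⟩ = w from Subtype.ext rfl] at this
        exact ⟨by show f (P w) = 1; rw [e, map_one], by show (1 : W₁ →* ℂˣ) (P w) = 1; rfl⟩)
      (fun w hw => by
        have e : Q w = 1 := by
          have := (hPi₁ ⟨w, hw⟩).2
          rwa [show i₁ ⟨(w : G), hw⟩ = w from Subtype.ext rfl] at this
        exact ⟨by show g (Q w) = 1; rw [e, map_one], by show (1 : W₂ →* ℂˣ) (Q w) = 1; rfl⟩)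
    simp only [x, y, had, E]
    linear_combination h
  have hNZ : (Finset.univ.filter fun p : (W₁ →* ℂˣ) × (W₂ →* ℂˣ) => x p.1 + y p.2 ≠ 0).card < 2 * n₁ := by
    refine lt_of_le_of_lt (le_of_eq ?_) hfew
    rw [← Fintype.card_subtype, ← Nat.card_eq_fintype_card]
    refine Nat.card_congr
      { toFun := fun p => ⟨E p.1.1 p.1.2, by rw [show classInner θ (χ (E p.1.1 p.1.2)) = _ from hxy _ _]; exact p.2⟩
        invFun := fun ω => ⟨(ω.1.comp i₁, ω.1.comp i₂), by rw [← hxy, hE]; exact ω.2⟩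
        left_inv := fun p => Subtype.ext (Prod.ext (hE1 _ _).1 (hE1 _ _).2)
        right_inv := fun ω => Subtype.ext (hE _) }
  have hcol : (Finset.univ.filter fun p : (W₁ →* ℂˣ) × (W₂ →* ℂˣ) => x p.1 + y p.2 ≠ 0).card =
      ∑ g : W₂ →* ℂˣ, (Finset.univ.filter fun f : W₁ →* ℂˣ => x f + y g ≠ 0).card := by
    simp only [Finset.card_filter]
    rw [Fintype.sum_prod_type_right]
  rw [hcol] at hNZ
  have haω : ∀ ω, classInner θ (χ ω) = x (ω.comp i₁) + y (ω.comp i₂) := fun ω => by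
    rw [← hxy, hE]
  by_cases hx : ∀ f, x f = x 1
  · have hone : ∀ g g', x 1 + y g ≠ 0 → x 1 + y g' ≠ 0 → g = g' := by
      intro g g' hg hg'
      by_contra hne
      have h2 : ∑ h ∈ ({g, g'} : Finset (W₂ →* ℂˣ)), (Finset.univ.filter fun f : W₁ →* ℂˣ => x f + y h ≠ 0).card ≤
          ∑ h : W₂ →* ℂˣ, (Finset.univ.filter fun f : W₁ →* ℂˣ => x f + y h ≠ 0).card :=
        Finset.sum_le_sum_of_subset (Finset.subset_univ _)
      rw [Finset.sum_pair hne, Finset.filter_true_of_mem (fun f _ => by rw [hx f]; exact hg),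
        Finset.filter_true_of_mem (fun f _ => by rw [hx f]; exact hg'), Finset.card_univ, hn₁] at h2
      omega
    by_cases hall : ∀ g, x 1 + y g = 0
    · exact Or.inl fun ω => by rw [haω, hx, hall]
    · push Not at hall
      obtain ⟨g₀, hg₀⟩ := hall
      refine Or.inr (Or.inl ⟨E 1 g₀, x 1 + y g₀, fun ω => ?_⟩)
      have hiff : (∀ w : ↥(W₁ ⊔ W₂), (w : G) ∈ W₂ → (ω * (E 1 g₀)⁻¹) w = 1) ↔ ω.comp i₂ = g₀ := by
        constructor
        · intro h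
          refine MonoidHom.ext fun b => ?_
          have := h (i₂ b) b.2
          rw [MonoidHom.mul_apply, MonoidHom.inv_apply, mul_inv_eq_one] at this
          exact this.trans (DFunLike.congr_fun (hE1 1 g₀).2 b)
        · intro h w hw
          rw [MonoidHom.mul_apply, MonoidHom.inv_apply, mul_inv_eq_one]
          exact (DFunLike.congr_fun h ⟨w, hw⟩).trans (DFunLike.congr_fun (hE1 1 g₀).2 ⟨w, hw⟩).symm
      rw [haω, hx]
      simp only [hiff]
      split_ifs with h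
      · rw [h]
      · by_contra hne
        exact h (hone _ _ hne hg₀)
  · push Not at hx
    obtain ⟨f₁, hf₁⟩ := hx
    set v : (W₂ →* ℂˣ) → Finset (W₁ →* ℂˣ) := fun g => Finset.univ.filter fun f => x f + y g ≠ 0 with hv
    have hNZ' : ∑ g, (v g).card < 2 * n₁ := hNZ
    have hv1 : ∀ g, 1 ≤ (v g).card := fun g => Finset.card_pos.2 (by
      by_contra h
      rw [Finset.not_nonempty_iff_eq_empty, Finset.filter_eq_empty_iff] at h
      push Not at h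
      exact hf₁ (by linear_combination h (x := f₁) (Finset.mem_univ _) - h (x := 1) (Finset.mem_univ _)))
    obtain ⟨g₁, hg₁⟩ : ∃ g, (v g).card = 1 := by
      by_contra h
      push Not at h
      have := Finset.sum_le_sum (s := Finset.univ) (f := fun _ => 2) (g := fun g => (v g).card)
        fun g _ => by have := h g; have := hv1 g; omega
      simp only [Finset.sum_const, Finset.card_univ, hn₂, smul_eq_mul] at this
      omega
    obtain ⟨f₀, hf₀⟩ := Finset.card_eq_one.1 hg₁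
    have hoff : ∀ f, f ≠ f₀ → x f + y g₁ = 0 := fun f hf => by
      by_contra h
      exact hf (Finset.mem_singleton.1 (hf₀ ▸ Finset.mem_filter.2 ⟨Finset.mem_univ f, h⟩))
    have hyall : ∀ g, y g = y g₁ := by
      intro g
      by_contra hg
      have hge : n₁ - 1 ≤ (v g).card := by
        rw [← hn₁, ← Finset.card_univ, ← Finset.card_erase_of_mem (Finset.mem_univ f₀)]
        refine Finset.card_le_card fun f hf => Finset.mem_filter.2 ⟨Finset.mem_univ f, fun h => hg ?_⟩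
        linear_combination h - hoff f (Finset.ne_of_mem_erase hf)
      have h2 := Finset.add_sum_erase Finset.univ (fun g => (v g).card) (Finset.mem_univ g)
      have h3 := Finset.card_nsmul_le_sum (Finset.univ.erase g) (fun g => (v g).card) 1 (fun g _ => hv1 g)
      rw [Finset.card_erase_of_mem (Finset.mem_univ g), Finset.card_univ, hn₂, smul_eq_mul, mul_one] at h3
      omega
    refine Or.inr (Or.inr ⟨E f₀ 1, x f₀ + y g₁, fun ω => ?_⟩)
    have hiff : (∀ w : ↥(W₁ ⊔ W₂), (w : G) ∈ W₁ → (ω * (E f₀ 1)⁻¹) w = 1) ↔ ω.comp i₁ = f₀ := by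
      constructor
      · intro h
        refine MonoidHom.ext fun b => ?_
        have := h (i₁ b) b.2
        rw [MonoidHom.mul_apply, MonoidHom.inv_apply, mul_inv_eq_one] at this
        exact this.trans (DFunLike.congr_fun (hE1 f₀ 1).1 b)
      · intro h w hw
        rw [MonoidHom.mul_apply, MonoidHom.inv_apply, mul_inv_eq_one]
        exact (DFunLike.congr_fun h ⟨w, hw⟩).trans (DFunLike.congr_fun (hE1 f₀ 1).1 ⟨w, hw⟩).symm
    rw [haω, hyall]
    simp only [hiff]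
    split_ifs with h
    · rw [h]
    · exact hoff _ h

end Cfsg.Agent.S1507
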