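import Cfsg.Statements.S1512
import Cfsg.Agent.Lib.Char.Kernel

set_option autoImplicit false
open Cfsg

namespace Cfsg.Agent.S1512

open Cfsg.Agent.Char

/-- Let K be a normal subgroup of the finite group L and x a non-identity element whose order is coprime to the order of K, such that K ⊓ C_L(y) = W₂ for every non-identity element y of the cyclic group generated by x. Then the number of conjugacy classes of K mapped to themselves by conjugation by x is at most Nat.card W₂. -/
theorem result {L : Type*} [Group L] [Finite L] (K W₂ : Subgroup L) [hK : K.Normal] (x : L) (hx1 : x ≠ 1) (hx : Nat.Coprime (orderOf x) (Nat.card K)) (hC : ∀ y ∈ Subgroup.zpowers x, y ≠ 1 → K ⊓ Subgroup.centralizer ({y} : Set L) = W₂) : Nat.card {C : ConjClasses K // ConjClasses.map (MulEquiv.toMonoidHom ((MulAut.conjNormal x : MulAut K))) C = C} ≤ Nat.card W₂ := by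
  classical
  have hxz : x ∈ Subgroup.zpowers x := Subgroup.mem_zpowers x
  have hW : K ⊓ Subgroup.centralizer ({x} : Set L) = W₂ := hC x hxz hx1
  have hWK : W₂ ≤ K := hW ▸ inf_le_left
  have hxK : x ∈ Subgroup.normalizer (K : Set L) := by
    rw [Subgroup.normalizer_eq_top]; trivial
  let f : W₂ → {C : ConjClasses K // ConjClasses.map (MulEquiv.toMonoidHom ((MulAut.conjNormal x : MulAut K))) C = C} :=
    fun w => ⟨ConjClasses.mk ⟨(w : L), hWK w.2⟩, by
      show ConjClasses.mk ((MulAut.conjNormal x : MulAut K) ⟨(w : L), hWK w.2⟩) = _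
      congr 1
      apply Subtype.ext
      rw [MulAut.conjNormal_apply]
      have hw : (w : L) ∈ K ⊓ Subgroup.centralizer ({x} : Set L) := hW.symm ▸ w.2
      exact mul_inv_eq_iff_eq_mul.mpr (Subgroup.mem_centralizer_singleton_iff.mp hw.2).symm⟩
  refine Nat.card_le_card_of_surjective f ?_
  rintro ⟨C, hCfix⟩
  obtain ⟨k, rfl⟩ := ConjClasses.exists_rep C
  have hconj : IsConj k ((MulAut.conjNormal x : MulAut K) k) :=
    (ConjClasses.mk_eq_mk_iff_isConj.mp hCfix).symm
  obtain ⟨u, hu⟩ := isConj_iff.mp hconj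
  have hu' : (u : L) * k * (u : L)⁻¹ = x * k * x⁻¹ := by
    have := congrArg Subtype.val hu
    simpa [MulAut.conjNormal_apply] using this
  obtain ⟨y, hy, c, hc, hcx, hyc⟩ :=
    exists_conj_centralizer_coset K x hxK hx ((u : L)⁻¹) (K.inv_mem u.2)
  have hcomm : ((u : L)⁻¹ * x) * k = k * ((u : L)⁻¹ * x) := by
    have h : x * (k : L) = (u : L) * k * (u : L)⁻¹ * x := by rw [hu']; group
    calc (u : L)⁻¹ * x * k = (u : L)⁻¹ * (x * k) := mul_assoc _ _ _
      _ = _ := by rw [h]; group
  have hcomm' : Commute (c * x) (y * k * y⁻¹) := by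
    show c * x * (y * k * y⁻¹) = y * k * y⁻¹ * (c * x)
    rw [← hyc]
    calc y * ((u : L)⁻¹ * x) * y⁻¹ * (y * k * y⁻¹) = y * (((u : L)⁻¹ * x) * k) * y⁻¹ := by group
      _ = y * (k * ((u : L)⁻¹ * x)) * y⁻¹ := by rw [hcomm]
      _ = _ := by group
  obtain ⟨n, hn0, hn1⟩ := Nat.chineseRemainder hx.symm 0 1
  have hpow : (c * x) ^ n = x := by
    rw [(show Commute c x from hcx).mul_pow]
    have h1 : c ^ n = 1 := by
      obtain ⟨m, rfl⟩ := Nat.modEq_zero_iff_dvd.mp hn0
      rw [pow_mul]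
      have := congrArg Subtype.val (pow_card_eq_one' (x := (⟨c, hc⟩ : K)))
      simp only [SubgroupClass.coe_pow, OneMemClass.coe_one] at this
      rw [this, one_pow]
    rw [h1, one_mul]
    conv_rhs => rw [← pow_one x]
    exact pow_eq_pow_iff_modEq.mpr hn1
  have hmem : y * (k : L) * y⁻¹ ∈ W₂ := by
    rw [← hW]
    refine ⟨K.mul_mem (K.mul_mem hy k.2) (K.inv_mem hy), ?_⟩
    show _ ∈ Subgroup.centralizer _
    rw [Subgroup.mem_centralizer_singleton_iff]
    exact (hpow ▸ hcomm'.pow_left n : Commute x _).eq.symm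
  refine ⟨⟨_, hmem⟩, Subtype.ext ?_⟩
  apply ConjClasses.mk_eq_mk_iff_isConj.mpr
  exact (isConj_iff.mpr ⟨⟨y, hy⟩, Subtype.ext (by simp)⟩).symm

end Cfsg.Agent.S1512
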