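import Cfsg.Statements.S1514
import Cfsg.Agent.Lib.Char.Constituent
-- import your own Cfsg.Agent.* helpers here

set_option autoImplicit false
open Cfsg

namespace Cfsg.Agent.S1514

/-- Let S be a nonempty set of irreducible characters of the finite group L, closed under complex conjugation and containing no real-valued member, and τ a linear isometry on the integer combinations of S vanishing at 1, with values virtual characters of G vanishing at 1. Then there is a choice R making (S, τ, R) a coherence system. -/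
theorem result {L : Type*} [Group L] [Fintype L] {G : Type*} [Group G] [Fintype G] (S : Set (L → ℂ)) (hS : S.Nonempty) (hirr : ∀ χ ∈ S, Cfsg.IsIrrCharacter L χ) (hconj : ∀ χ ∈ S, Cfsg.conjFun χ ∈ S ∧ Cfsg.conjFun χ ≠ χ) (τ : (L → ℂ) → (G → ℂ)) (hτ : Cfsg.IsLinearIsometryOn (Cfsg.zspanOn S {1}ᶜ) τ) (hτ1 : ∀ α ∈ Cfsg.zspanOn S {1}ᶜ, τ α 1 = 0) : ∃ R : (L → ℂ) → Finset (G → ℂ), Cfsg.IsCoherenceSystem S τ R := by
  classical
  have hne : ∀ χ ∈ S, Cfsg.classInner χ (Cfsg.conjFun χ) = 0 := fun χ hχ =>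
    Cfsg.Agent.Char.classInner_irr_ne (hirr χ hχ) (hirr _ (hconj χ hχ).1) (hconj χ hχ).2.symm
  have hmem : ∀ χ ∈ S, χ - Cfsg.conjFun χ ∈ Cfsg.zspanOn S {1}ᶜ := by
    intro χ hχ
    refine ⟨Submodule.sub_mem _ (Submodule.subset_span hχ) (Submodule.subset_span (hconj χ hχ).1), fun x hx => ?_⟩
    obtain rfl : x = 1 := by simpa using hx
    obtain ⟨n, hn⟩ := Cfsg.Agent.Char.IsChar.one_eq_nat (Cfsg.Agent.Char.IsIrr.isCharacter (hirr χ hχ))
    simp [Cfsg.conjFun, hn]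
  have hdec : ∀ χ : L → ℂ, ∃ ab : (G → ℂ) × (G → ℂ), χ ∈ S → Cfsg.IsIrrCharacter G ab.1 ∧
      Cfsg.IsIrrCharacter G ab.2 ∧ ab.1 ≠ ab.2 ∧ τ (χ - Cfsg.conjFun χ) = ab.1 - ab.2 := by
    intro χ
    by_cases hχ : χ ∈ S
    · have hn : Cfsg.classInner (τ (χ - Cfsg.conjFun χ)) (τ (χ - Cfsg.conjFun χ)) = 2 := by
        rw [hτ.2.2.1 _ (hmem χ hχ) _ (hmem χ hχ)]
        simp only [Cfsg.Agent.Char.classInner_sub_left, Cfsg.Agent.Char.classInner_sub_right, hne χ hχ,
          Cfsg.Agent.Char.classInner_self_irr (hirr χ hχ),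
          Cfsg.Agent.Char.classInner_self_irr (hirr _ (hconj χ hχ).1),
          Cfsg.Agent.Char.classInner_irr_ne (hirr _ (hconj χ hχ).1) (hirr χ hχ) (hconj χ hχ).2]
        norm_num
      obtain ⟨a, b, ha, hb, hab, he⟩ := Cfsg.Agent.Char.IsGenChar.norm_two
        (hτ.2.2.2 _ (hmem χ hχ)) hn (hτ1 _ (hmem χ hχ))
      exact ⟨(a, b), fun _ => ⟨ha, hb, hab, he⟩⟩
    · exact ⟨(0, 0), fun h => absurd h hχ⟩
  choose ab hab using hdec
  have hnn : ∀ χ ∈ S, (ab χ).1 ≠ -(ab χ).2 := by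
    intro χ hχ he
    obtain ⟨ha, hb, -, -⟩ := hab χ hχ
    obtain ⟨m, hm, hm'⟩ := Cfsg.Agent.Char.IsIrr.one_eq_pos ha
    obtain ⟨n, hn, hn'⟩ := Cfsg.Agent.Char.IsIrr.one_eq_pos hb
    have h := congrFun he 1
    rw [Pi.neg_apply, hm', hn', eq_neg_iff_add_eq_zero] at h
    have : m + n = 0 := by exact_mod_cast h
    omega
  refine ⟨fun χ => {(ab χ).1, -(ab χ).2}, ⟨hS, fun χ hχ => Cfsg.Agent.Char.IsIrr.isCharacter (hirr χ hχ),
    fun χ hχ => (hconj χ hχ).1, fun χ hχ => (hconj χ hχ).2, hτ, hτ1,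
    fun χ hχ φ hφ h => Cfsg.Agent.Char.classInner_irr_ne (hirr χ hχ) (hirr φ hφ) h, ?_, ?_, ?_, ?_⟩⟩
  · intro χ hχ α hα β hβ
    obtain ⟨ha, hb, hne', -⟩ := hab χ hχ
    have h12 := Cfsg.Agent.Char.classInner_irr_ne ha hb hne'
    have h21 := Cfsg.Agent.Char.classInner_irr_ne hb ha hne'.symm
    simp only [Finset.mem_insert, Finset.mem_singleton] at hα hβ
    rcases hα with rfl | rfl <;> rcases hβ with rfl | rfl
    · simp [Cfsg.Agent.Char.classInner_self_irr ha]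
    · simp [hnn χ hχ, Cfsg.Agent.Char.classInner_neg_right, h12]
    · simp [(hnn χ hχ).symm, Cfsg.Agent.Char.classInner_neg_left, h21]
    · simp [Cfsg.Agent.Char.classInner_neg_left, Cfsg.Agent.Char.classInner_neg_right,
        Cfsg.Agent.Char.classInner_self_irr hb]
  · intro χ hχ α hα
    obtain ⟨ha, hb, -, -⟩ := hab χ hχ
    simp only [Finset.mem_insert, Finset.mem_singleton] at hα
    rcases hα with rfl | rfl
    · exact Cfsg.Agent.Char.IsGenChar.of_isCharacter (Cfsg.Agent.Char.IsIrr.isCharacter ha)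
    · exact Cfsg.Agent.Char.IsGenChar.neg
        (Cfsg.Agent.Char.IsGenChar.of_isCharacter (Cfsg.Agent.Char.IsIrr.isCharacter hb))
  · intro χ hχ
    rw [(hab χ hχ).2.2.2, Finset.sum_pair (hnn χ hχ), sub_eq_add_neg]
  · intro χ hχ φ hφ h1 h2 α hα β hβ
    obtain ⟨ha, hb, hab', heχ⟩ := hab χ hχ
    obtain ⟨hc, hd, hcd, heφ⟩ := hab φ hφ
    have h0 : Cfsg.classInner (τ (φ - Cfsg.conjFun φ)) (τ (χ - Cfsg.conjFun χ)) = 0 := by
      have e1 : φ ≠ χ := fun e => by
        rw [e, Cfsg.Agent.Char.classInner_self_irr (hirr χ hχ)] at h1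
        exact one_ne_zero h1
      have e2 : φ ≠ Cfsg.conjFun χ := fun e => by
        rw [← e, Cfsg.Agent.Char.classInner_self_irr (hirr φ hφ)] at h2
        exact one_ne_zero h2
      have e3 : Cfsg.conjFun φ ≠ χ := fun e => e2 (by
        rw [← e]; funext x; simp [Cfsg.conjFun])
      have e4 : Cfsg.conjFun φ ≠ Cfsg.conjFun χ := fun e => e1 (by
        funext x
        exact (starRingEnd ℂ).injective (congrFun e x))
      rw [hτ.2.2.1 _ (hmem φ hφ) _ (hmem χ hχ)]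
      simp only [Cfsg.Agent.Char.classInner_sub_left, Cfsg.Agent.Char.classInner_sub_right,
        Cfsg.Agent.Char.classInner_irr_ne (hirr φ hφ) (hirr χ hχ) e1,
        Cfsg.Agent.Char.classInner_irr_ne (hirr φ hφ) (hirr _ (hconj χ hχ).1) e2,
        Cfsg.Agent.Char.classInner_irr_ne (hirr _ (hconj φ hφ).1) (hirr χ hχ) e3,
        Cfsg.Agent.Char.classInner_irr_ne (hirr _ (hconj φ hφ).1) (hirr _ (hconj χ hχ).1) e4, sub_zero]
    rw [heφ, heχ] at h0
    simp only [Cfsg.Agent.Char.classInner_sub_left, Cfsg.Agent.Char.classInner_sub_right,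
      Cfsg.Agent.Char.classInner_irr_eq_ite hc ha, Cfsg.Agent.Char.classInner_irr_eq_ite hc hb,
      Cfsg.Agent.Char.classInner_irr_eq_ite hd ha, Cfsg.Agent.Char.classInner_irr_eq_ite hd hb] at h0
    have key : (ab φ).1 ≠ (ab χ).1 ∧ (ab φ).1 ≠ (ab χ).2 ∧ (ab φ).2 ≠ (ab χ).1 ∧ (ab φ).2 ≠ (ab χ).2 := by
      split_ifs at h0 with p1 p2 p3 p4 <;>
        first
        | (refine ⟨?_, ?_, ?_, ?_⟩ <;> assumption)
        | (norm_num at h0; done)
        | (exfalso; apply hab'; simp_all; done)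
        | (exfalso; apply hcd; simp_all; done)
    simp only [Finset.mem_insert, Finset.mem_singleton] at hα hβ
    rcases hα with rfl | rfl <;> rcases hβ with rfl | rfl <;>
      (try simp only [Cfsg.Agent.Char.classInner_neg_left, Cfsg.Agent.Char.classInner_neg_right, neg_eq_zero])
    · exact Cfsg.Agent.Char.classInner_irr_ne hc ha key.1
    · exact Cfsg.Agent.Char.classInner_irr_ne hc hb key.2.1
    · exact Cfsg.Agent.Char.classInner_irr_ne hd ha key.2.2.1
    · exact Cfsg.Agent.Char.classInner_irr_ne hd hb key.2.2.2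

end Cfsg.Agent.S1514
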