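import Cfsg.Statements.S1515
import Cfsg.Agent.Lib.Char.Constituent
-- import your own Cfsg.Agent.* helpers here

set_option autoImplicit false
open Cfsg

namespace Cfsg.Agent.S1515

/-- Let (S, τ, R) be a coherence system from L to G, χ ∈ S, and ψ an integer combination of S with ⟨χ, ψ⟩ = ⟨conj χ, ψ⟩ = 0. Let τ₁ be a linear isometry on the integer combinations of χ − ψ and χ − conj χ, with virtual-character values, agreeing with τ on integer multiples of χ − conj χ. Then the sum over α ∈ R χ of the squared absolute values of ⟨τ₁(χ − ψ), α⟩ is at least ⟨χ, χ⟩; and if ⟨τ₁(χ − ψ), τ₁(χ − ψ)⟩ minus that sum is at least ⟨ψ, ψ⟩, then the sum equals ⟨χ, χ⟩ and every ⟨τ₁(χ − ψ), α⟩ with α ∈ R χ is 0 or 1. -/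
theorem result {L : Type*} [Group L] [Fintype L] {G : Type*} [Group G] [Fintype G] (S : Set (L → ℂ)) (τ : (L → ℂ) → (G → ℂ)) (R : (L → ℂ) → Finset (G → ℂ)) (hS : Cfsg.IsCoherenceSystem S τ R) (χ : L → ℂ) (hχ : χ ∈ S) (ψ : L → ℂ) (hψ : ψ ∈ Cfsg.zspan S) (h1 : Cfsg.classInner χ ψ = 0) (h2 : Cfsg.classInner (Cfsg.conjFun χ) ψ = 0) (τ₁ : (L → ℂ) → (G → ℂ)) (hτ₁ : Cfsg.IsLinearIsometryOn (Cfsg.zspan {χ - ψ, χ - Cfsg.conjFun χ}) τ₁) (hagree : ∀ n : ℤ, τ₁ (n • (χ - Cfsg.conjFun χ)) = τ (n • (χ - Cfsg.conjFun χ))) : (Cfsg.classInner χ χ).re ≤ ∑ α ∈ R χ, ‖Cfsg.classInner (τ₁ (χ - ψ)) α‖ ^ 2 ∧ ((Cfsg.classInner ψ ψ).re ≤ (Cfsg.classInner (τ₁ (χ - ψ)) (τ₁ (χ - ψ))).re - ∑ α ∈ R χ, ‖Cfsg.classInner (τ₁ (χ - ψ)) α‖ ^ 2 → (∑ α ∈ R χ, ‖Cfsg.classInner (τ₁ (χ - ψ)) α‖ ^ 2 = (Cfsg.classInner χ χ).re ∧ ∀ α ∈ R χ, Cfsg.classInner (τ₁ (χ - ψ)) α = 0 ∨ Cfsg.classInner (τ₁ (χ - ψ)) α =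 1)) := by
  classical
  set u := χ - ψ with hu
  set v := χ - Cfsg.conjFun χ with hv
  have hum : u ∈ Cfsg.zspan {u, v} := Submodule.subset_span (Set.mem_insert _ _)
  have hvm : v ∈ Cfsg.zspan {u, v} := Submodule.subset_span (Set.mem_insert_of_mem _ rfl)
  have hcc : Cfsg.classInner χ (Cfsg.conjFun χ) = 0 :=
    hS.orthogonal χ hχ _ (hS.conj_mem χ hχ) (hS.conj_ne χ hχ).symm
  have hψχ : Cfsg.classInner ψ χ = 0 := by
    rw [← Cfsg.Agent.Char.classInner_conj_symm, h1, map_zero]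
  have hψc : Cfsg.classInner ψ (Cfsg.conjFun χ) = 0 := by
    rw [← Cfsg.Agent.Char.classInner_conj_symm, h2, map_zero]
  have hint : ∀ α ∈ R χ, ∃ n : ℤ, Cfsg.classInner (τ₁ u) α = n := fun α hα =>
    Cfsg.Agent.Char.IsGenChar.classInner_int (hτ₁.2.2.2 u hum) (hS.virtual χ hχ α hα)
  choose! a ha using hint
  have htv : τ₁ v = τ v := by simpa using hagree 1
  have hsum : ((∑ α ∈ R χ, a α : ℤ) : ℂ) = Cfsg.classInner χ χ := by
    push_cast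
    rw [Finset.sum_congr rfl (fun α hα => (ha α hα).symm), ← Cfsg.Agent.Char.classInner_sum_right,
      ← hS.sum_eq χ hχ, ← hv, ← htv, hτ₁.2.2.1 u hum v hvm, hu, hv]
    simp only [Cfsg.Agent.Char.classInner_sub_left, Cfsg.Agent.Char.classInner_sub_right, hcc, hψχ, hψc,
      sub_zero]
  have hn : (Cfsg.classInner χ χ).re = ((∑ α ∈ R χ, a α : ℤ) : ℝ) := by
    rw [← hsum, Complex.intCast_re]
  have hsq : ∑ α ∈ R χ, ‖Cfsg.classInner (τ₁ u) α‖ ^ 2 = ((∑ α ∈ R χ, a α ^ 2 : ℤ) : ℝ) := by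
    push_cast
    refine Finset.sum_congr rfl fun α hα => ?_
    rw [ha α hα, Complex.norm_intCast, sq_abs]
  have hle : ∀ α ∈ R χ, a α ≤ a α ^ 2 := fun α _ => Int.le_self_sq (a α)
  refine ⟨?_, fun hY => ?_⟩
  · rw [hn, hsq]
    exact_mod_cast Finset.sum_le_sum hle
  · have e : Cfsg.classInner (τ₁ u) (τ₁ u) = Cfsg.classInner χ χ + Cfsg.classInner ψ ψ := by
      rw [hτ₁.2.2.1 u hum u hum, hu]
      simp only [Cfsg.Agent.Char.classInner_sub_left, Cfsg.Agent.Char.classInner_sub_right, h1, hψχ,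
        sub_zero, zero_sub, sub_neg_eq_add]
    rw [e, Complex.add_re, hsq, hn] at hY
    have h3 : ((∑ α ∈ R χ, a α ^ 2 : ℤ) : ℝ) ≤ ((∑ α ∈ R χ, a α : ℤ) : ℝ) := by linarith
    have h4 : ∑ α ∈ R χ, a α ^ 2 ≤ ∑ α ∈ R χ, a α := by exact_mod_cast h3
    have h5 : ∑ α ∈ R χ, a α = ∑ α ∈ R χ, a α ^ 2 := le_antisymm (Finset.sum_le_sum hle) h4
    refine ⟨by rw [hsq, hn, h5], fun α hα => ?_⟩
    have h6 := (Finset.sum_eq_sum_iff_of_le hle).1 h5 α hα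
    rw [ha α hα]
    have h7 : a α * (a α - 1) = 0 := by linear_combination -h6
    rcases mul_eq_zero.1 h7 with h | h
    · exact Or.inl (by simp [h])
    · exact Or.inr (by simp [sub_eq_zero.1 h])

end Cfsg.Agent.S1515
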