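import Cfsg.Statements.S1518
import Cfsg.Agent.Lib.Char.DadeGen

set_option autoImplicit false
open Cfsg

namespace Cfsg.Agent.S1518

open Cfsg.Agent.Char

open Cfsg.Agent.Char.Dade

open scoped ComplexConjugate

/-- Under the Dade hypothesis for (A, L, H): if χ is an irreducible character of L vanishing at every non-identity element of L outside A, then the Dade image of χ − conj χ equals μ − conj μ for some irreducible character μ of G. -/
theorem result {G : Type*} [Group G] [Fintype G] (A : Set G) (L : Subgroup G) [Fintype L] (H : G → Subgroup G) (hD : Cfsg.DadeHypothesis A L H) (χ : L → ℂ) (hχ : Cfsg.IsIrrCharacter L χ) (hsupp : ∀ x : L, x ≠ 1 → (x : G) ∉ A → χ x = 0) : ∃ μ : G → ℂ, Cfsg.IsIrrCharacter G μ ∧ Cfsg.dadeIsometry A L H (χ - Cfsg.conjFun χ) = μ - Cfsg.conjFun μ := by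
  classical
  set α : L → ℂ := χ - Cfsg.conjFun χ with hαdef
  by_cases hα0 : α = 0
  · refine ⟨fun _ => 1, isIrr_one, ?_⟩
    rw [hα0]
    funext g
    simp only [dadeIsometry, Pi.zero_apply, Pi.sub_apply, Cfsg.conjFun, map_one, sub_self]
    split_ifs <;> rfl
  have hχc : Cfsg.conjFun χ ≠ χ := fun e => hα0 (by rw [hαdef, e, sub_self])
  have hci : IsIrrCharacter L (Cfsg.conjFun χ) := IsIrr.conj hχ
  have hα : IsGeneralizedCharacter L α :=
    IsGenChar.sub (IsGenChar.of_isCharacter (IsIrr.isCharacter hχ))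
      (IsGenChar.of_isCharacter (IsIrr.isCharacter hci))
  have hαA : ∀ x : L, (x : G) ∉ A → α x = 0 := by
    intro x hx
    simp only [hαdef, Pi.sub_apply, Cfsg.conjFun]
    by_cases h1 : x = 1
    · obtain ⟨n, -, hn⟩ := IsIrr.one_eq_pos hχ
      rw [h1, hn, map_natCast, sub_self]
    · rw [hsupp x h1 hx, map_zero, sub_self]
  have hcl := IsGenChar.classFun hα
  have hn : classInner (dadeIsometry A L H α) (dadeIsometry A L H α) = 2 := by
    have e : classInner α α = 2 := by
      rw [hαdef, classInner_sub_left, classInner_sub_right, classInner_sub_right,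
        classInner_self_irr hχ, classInner_self_irr hci, classInner_irr_ne hχ hci hχc.symm,
        classInner_irr_ne hci hχ hχc]
      norm_num
    rw [← e, classInner, average hD (fun g => dadeIsometry A L H α g * conj (dadeIsometry A L H α g))
      (fun g y => by rw [dade_classFun hD hcl]) (fun g hg => by rw [dade_eq_zero hg, zero_mul]),
      sum_subgroup_extend hD, classInner]
    congr 1
    refine Finset.sum_congr rfl fun a _ => ?_
    split_ifs with ha
    · rw [Finset.sum_congr rfl fun u hu => by
        rw [dade_apply_coset hD hcl ha (by simpa using hu)], extendByZero_apply, Finset.sum_const,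
        nsmul_eq_mul, ← Fintype.card_subtype, ← Nat.card_eq_fintype_card,
        inv_mul_cancel_left₀ (Nat.cast_ne_zero.mpr Nat.card_pos.ne')]
    · rw [hαA a ha, zero_mul]
  have h1 : dadeIsometry A L H α 1 = 0 := by
    refine dade_eq_zero ?_
    rintro ⟨a, ha, u, hu, x, e⟩
    refine hD.one_not_mem (?_ : (1 : G) ∈ A)
    have h : a = u⁻¹ := eq_inv_of_mul_eq_one_left (by simpa using e.symm)
    have hm : a ∈ H a ⊓ (L ⊓ Subgroup.centralizer ({a} : Set G)) :=
      ⟨h.symm ▸ (H a).inv_mem hu, hD.subset ha, Subgroup.mem_centralizer_singleton_iff.mpr rfl⟩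
    rw [hD.inf_eq_bot a ha, Subgroup.mem_bot] at hm
    exact hm ▸ ha
  obtain ⟨φ, ψ, hφ, hψ, hne, he⟩ := IsGenChar.norm_two (isGenChar_dade hD hα hαA) hn h1
  refine ⟨φ, hφ, ?_⟩
  rw [he]
  have hanti : Cfsg.conjFun φ - Cfsg.conjFun ψ = ψ - φ := by
    funext g
    have e1 := congrFun he g
    have h : conj (dadeIsometry A L H α g) = - dadeIsometry A L H α g := by
      simp only [dadeIsometry]
      split_ifs
      · simp [hαdef, Cfsg.conjFun]
      · simp
    rw [e1] at h
    simp only [Pi.sub_apply, map_sub, neg_sub] at h ⊢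
    exact h
  have hcψ : IsIrrCharacter G (Cfsg.conjFun ψ) := IsIrr.conj hψ
  have hcφ : IsIrrCharacter G (Cfsg.conjFun φ) := IsIrr.conj hφ
  have hinn := congrArg (fun f => classInner f φ) hanti
  simp only [classInner_sub_left, classInner_self_irr hφ, classInner_irr_ne hψ hφ hne.symm] at hinn
  have hψφ : Cfsg.conjFun ψ = φ := by
    by_contra hne'
    rw [classInner_irr_ne hcψ hφ hne', classInner_irr_eq_ite hcφ hφ] at hinn
    split_ifs at hinn <;> norm_num at hinn
  rw [← hψφ]
  congr 1
  funext g
  simp [Cfsg.conjFun]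

end Cfsg.Agent.S1518
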