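import Cfsg.Statements.S1522
import Cfsg.Agent.Lib.Char.CohKernel
import Cfsg.Agent.Lib.Char.CentralCoherenceGen

set_option autoImplicit false
open Cfsg

namespace Cfsg.Agent.S1522
open Cfsg.Agent.Char Cfsg.Agent.Char.KerSets Cfsg.Agent.Char.FrobTI Cfsg.Agent.Char.Descent
open scoped commutatorElement

/-- Let K be a nilpotent normal subgroup of the finite group L of odd order with [K,K] < K < L and L/[K,K] a Frobenius group with kernel K/[K,K] (elements of K outside [K,K] are centralised modulo [K,K] only from inside K); let (S, τ, R) be a coherence system from L to G with S the functions induced from non-principal irreducible characters of K. Let Z be a nontrivial normal subgroup of L contained in the centre of K, and suppose every member of S outside S(Z) is an irreducible character of L. Then S minus S(Z) is the set of irreducible characters χ of L with χ z ≠ χ 1 for some z ∈ Z, and it is coherent. -/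
theorem result {L : Type*} [Group L] [Fintype L] {G : Type*} [Group G] [Fintype G] (K : Subgroup L) [hK : K.Normal] (hsolv : Group.IsSolvable K) (τ : (L → ℂ) → (G → ℂ)) (R : (L → ℂ) → Finset (G → ℂ)) (hS : Cfsg.IsCoherenceSystem (Cfsg.inducedIrrAbove K ⊥) τ R) (hodd : Odd (Nat.card L)) (hnil : Group.IsNilpotent K) (hH₁K : ⁅K, K⁆ < K) (hKL : K < ⊤) (hfrob : ∀ k ∈ K, k ∉ ⁅K, K⁆ → ∀ x : L, x * k * x⁻¹ * k⁻¹ ∈ ⁅K, K⁆ → x ∈ K) (Z : Subgroup L) [Z.Normal] (hZ1 : Z ≠ ⊥) (hZK : Z ≤ K) (hZc : ∀ z ∈ Z, ∀ k ∈ K, z * k = k * z) (hirr : ∀ χ ∈ Cfsg.inducedIrrAbove K ⊥ \ Cfsg.inducedIrrAbove K Z, Cfsg.IsIrrCharacter L χ) : Cfsg.inducedIrrAbove K ⊥ \ Cfsg.inducedIrrAbove K Z = {χ | Cfsg.IsIrrCharacter L χ ∧ ∃ z ∈ Z, χ z ≠ χ 1} ∧ Cfsg.IsCoherent (Cfsg.inducedIrrAbove K ⊥ \ Cfsg.inducedIrrAbove K Z) {1}ᶜ τ := by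
  classical
  letI : Fintype K := Fintype.ofFinite _
  haveI := hnil
  have heq : Cfsg.inducedIrrAbove K ⊥ \ Cfsg.inducedIrrAbove K Z =
      {χ | Cfsg.IsIrrCharacter L χ ∧ ∃ z ∈ Z, χ z ≠ χ 1} := by
    ext χ
    constructor
    · rintro hχ
      have hi := hirr χ hχ
      refine ⟨hi, ?_⟩
      by_contra hno
      push Not at hno
      obtain ⟨⟨θ, hθ, hne, -, hχe⟩, hχZ⟩ := hχ
      refine hχZ ⟨θ, hθ, hne, fun a ha => ?_, hχe⟩
      refine constituent_ker (IsChar.comp K.subtype (IsIrr.isCharacter hi)) hθ ?_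
        (g := a) (by simpa using hno _ ha)
      intro h
      have h1 := classInner_indFun K θ (IsIrr.classFun hi)
      rw [← hχe, classInner_self_irr hi] at h1
      have h2 : classInner θ (fun k : K => χ k) = 0 := by
        rw [← classInner_conj_symm]
        exact (congrArg (starRingEnd ℂ) h).trans (map_zero _)
      exact one_ne_zero (h1.trans h2)
    · rintro ⟨hi, z, hz, hne⟩
      have hres : IsCharacter K (fun k : K => χ k) := IsChar.comp K.subtype (IsIrr.isCharacter hi)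
      obtain ⟨θ, hθc, hθz⟩ := exists_nonprincipal_constituent hres (g := (⟨z, hZK hz⟩ : K)) hne
      have hne1 : (θ : K → ℂ) ≠ fun _ => 1 := fun h => hθz (by rw [h])
      have hmem : indFun K (θ : K → ℂ) ∈ Cfsg.inducedIrrAbove K ⊥ :=
        ⟨θ, θ.2, hne1, fun a ha => by rw [show a = 1 from Subtype.ext (Subgroup.mem_bot.1 ha)], rfl⟩
      have hnot : indFun K (θ : K → ℂ) ∉ Cfsg.inducedIrrAbove K Z := by
        intro h
        obtain ⟨ψ, hψ, he⟩ := (mem_inducedIrrAbove K).1 h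
        have hfib := fiber_eq K hψ
        have horb : (θ : K → ℂ) ∈ conjOrbit K ψ := by
          obtain ⟨g, hg⟩ : ∃ g : L, Cfsg.Agent.Char.conjN K g ψ = (θ : K → ℂ) := by
            by_contra hno
            have h1 := classInner_indFun_indFun_irr K (mem_TT.1 hψ).1 θ.2
            haveI : IsEmpty {x : L // Cfsg.Agent.Char.conjN K x ψ = (θ : K → ℂ)} := ⟨fun x => hno ⟨x.1, x.2⟩⟩
            rw [Nat.card_of_isEmpty (α := {x : L // Cfsg.Agent.Char.conjN K x ψ = (θ : K → ℂ)}), Nat.cast_zero,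
              mul_zero, ← he, norm_spec K θ.2] at h1
            exact (K.subgroupOf (inertia K (θ : K → ℂ))).index_ne_zero_of_finite (Nat.cast_eq_zero.1 h1)
          exact (mem_conjOrbit K).2 ⟨g, hg⟩
        rw [← hfib, Finset.mem_filter] at horb
        exact (mem_TT.1 horb.1).2.2 ⟨⟨z, hZK hz⟩, hz, hθz⟩
      have hii := hirr _ ⟨hmem, hnot⟩
      have heq' : indFun K (θ : K → ℂ) = χ := by
        by_contra hne'
        refine hθc ?_
        rw [← classInner_conj_symm, ← classInner_indFun K _ (IsIrr.classFun hi),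
          classInner_irr_ne hii hi hne', map_zero]
      exact heq' ▸ ⟨hmem, hnot⟩
  refine ⟨heq, ?_⟩
  have hTT : Cfsg.inducedIrrAbove K ⊥ \ Cfsg.inducedIrrAbove K Z = ↑(TT Z ⊥) := by
    rw [heq]
    ext f
    simp only [Finset.mem_coe, mem_TT, not_nonTriv_bot, not_false_eq_true, and_true]
    exact Iff.rfl
  have hsubS : (↑(TT Z ⊥) : Set (L → ℂ)) ⊆ Cfsg.inducedIrrAbove K ⊥ := hTT ▸ Set.diff_subset
  obtain ⟨f₀, hf₀⟩ : (TT Z (⊥ : Subgroup L)).Nonempty := by
    rw [Finset.nonempty_iff_ne_empty]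
    intro h
    have hsum := sum_sq_TT (A := Z) (B := ⊥) bot_le
    rw [h, Finset.sum_empty, zero_add, Subgroup.index_bot] at hsum
    have h2 := Z.card_mul_index
    rw [← hsum] at h2
    exact hZ1 (Subgroup.card_eq_one.1 (Nat.eq_of_mul_eq_mul_right
      (Nat.pos_of_ne_zero Subgroup.index_ne_zero_of_finite) (h2.trans (one_mul _).symm)))
  rw [hTT]
  by_cases hpp : ∃ p m : ℕ, p.Prime ∧ (⊥ : Subgroup L).relIndex K = p ^ m
  swap
  · haveI : Group.IsNilpotent (↥K ⧸ (⊥ : Subgroup L).subgroupOf K) :=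
      Group.nilpotent_of_surjective (QuotientGroup.mk' _) (QuotientGroup.mk'_surjective _)
    have hcoh := kernel_coherent K (M := ⊥) (H₁ := ⁅K, K⁆) hS hodd bot_le inferInstance
      (sup_bot_eq _).symm hH₁K hfrob (Or.inr (Or.inr (Or.inl hpp)))
    exact coherent_mono hS hsubS hf₀ (Finset.mem_coe.2 (KerSets.conjFun_mem hf₀)) (hsubS hf₀) hcoh
  obtain ⟨p, m, hp, hm⟩ := hpp
  rw [Subgroup.relIndex_bot_left] at hm
  haveI := Fact.mk hp
  have hpK : IsPGroup p K := IsPGroup.of_card hm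
  refine central_coherent_of_degrees K hodd hp hpK hZK hZ1 ?_ ?_
    (let h := system_mono hS hsubS ⟨f₀, hf₀⟩ (fun χ hχ => Finset.mem_coe.2 (KerSets.conjFun_mem hχ))
     ⟨fun ξ hξ => (mem_TT.1 hξ).1, h.isometry, h.map_one⟩)
  · intro hpe
    set π := QuotientGroup.mk' (⁅K, K⁆ : Subgroup L) with hπ
    set Kb := K.map π with hKb
    haveI : Kb.Normal := Subgroup.Normal.map inferInstance π (QuotientGroup.mk'_surjective _)
    have hker : π.ker = (⁅K, K⁆ : Subgroup L) := QuotientGroup.ker_mk' _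
    have hC : ∀ k ∈ Kb, k ≠ 1 → Subgroup.centralizer ({k} : Set (L ⧸ ⁅K, K⁆)) ≤ Kb := by
      rintro _ ⟨k, hk, rfl⟩ hk1 y hy
      obtain ⟨x, rfl⟩ := QuotientGroup.mk'_surjective _ y
      refine Subgroup.mem_map_of_mem π (hfrob k hk (fun h => hk1 ((QuotientGroup.eq_one_iff k).2 h)) x
        ((QuotientGroup.eq_one_iff _).1 ?_))
      show π _ = 1
      have hy' : π x * π k = π k * π x := Subgroup.mem_centralizer_singleton_iff.1 hy
      rw [map_mul, map_mul, map_mul, map_inv, map_inv, hy']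
      group
    have h1 := coprime_card_index Kb hC
    rw [Subgroup.index_map_eq _ (QuotientGroup.mk'_surjective _) (hker.trans_le hH₁K.le)] at h1
    obtain ⟨j, -, hj⟩ := (Nat.dvd_prime_pow hp).1 (hm ▸ K.card_map_dvd π : Nat.card Kb ∣ p ^ m)
    have hj0 : j ≠ 0 := fun h => hH₁K.not_ge (by
      rw [h, pow_zero] at hj
      have := Subgroup.card_eq_one.1 hj
      rwa [hKb, Subgroup.map_eq_bot_iff, hker] at this)
    exact hp.not_dvd_one (h1 ▸ Nat.dvd_gcd (hj ▸ dvd_pow_self p hj0) hpe)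
  · intro f hf
    obtain ⟨θ, hθ, -, -, rfl⟩ := hsubS (Finset.mem_coe.2 hf)
    obtain ⟨n, hn, hn'⟩ := IsIrr.one_eq_pos hθ
    have hdn : dg θ = n := by simp [dg, hn']
    have hle : n ^ 2 ≤ (Z.subgroupOf K).index := sq_le_index _ hθ hn' fun z hz g => by
      have : z * g * z⁻¹ * g⁻¹ = 1 := Subtype.ext (by
        simp only [Subgroup.coe_mul, Subgroup.coe_inv, OneMemClass.coe_one]
        rw [hZc _ (Subgroup.mem_subgroupOf.1 hz) _ g.2]; group)
      rw [this]
    obtain ⟨i, -, hi⟩ := (Nat.dvd_prime_pow hp).1 (hm ▸ IsIrr.degree_dvd_card hθ hn')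
    refine ⟨i, by rw [dg_indFun K hθ, hdn, hi], ?_⟩
    obtain ⟨j, -, hj⟩ := (Nat.dvd_prime_pow hp).1 (hm ▸ (Z.subgroupOf K).index_dvd_card)
    rw [hi, hj, ← pow_mul, mul_comm] at hle
    rw [Subgroup.relIndex, hj]
    exact pow_dvd_pow p ((Nat.pow_le_pow_iff_right hp.one_lt).1 hle)

end Cfsg.Agent.S1522
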