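import Cfsg.Statements.S1523
import Cfsg.Agent.Lib.Char.CentralCongr

set_option autoImplicit false
open Cfsg

namespace Cfsg.Agent.S1523

/-- Let G be a finite group, p a prime, P a Sylow p-subgroup whose underlying set is a TI-subset of G, with L the set normaliser of P of odd order. Let Z ≠ ⊥ be a subgroup of P, normal in L and central in P, such that the centralisers in L of any two non-identity elements of Z have the same order. If ψ is an irreducible character of G taking the same value at all non-identity elements of Z, then for z ∈ Z, z ≠ 1, the value ψ z is an integer n with Nat.card P dividing ψ(1) − n (as integers, ψ 1 being the degree). -/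
theorem result {G : Type*} [Group G] [Finite G] (p : ℕ) [Fact p.Prime] (P : Sylow p G) (hTI : Cfsg.IsTISubset ((P : Subgroup G) : Set G)) (hodd : Odd (Nat.card (Subgroup.normalizer ((P : Subgroup G) : Set G)))) (Z : Subgroup G) (hZ1 : Z ≠ ⊥) (hZP : Z ≤ P) (hZn : ∀ x ∈ Subgroup.normalizer ((P : Subgroup G) : Set G), ∀ z ∈ Z, x * z * x⁻¹ ∈ Z) (hZc : ∀ z ∈ Z, ∀ y ∈ (P : Subgroup G), z * y = y * z) (hCL : ∀ z ∈ Z, ∀ z' ∈ Z, z ≠ 1 → z' ≠ 1 → Nat.card ↥(Subgroup.normalizer ((P : Subgroup G) : Set G) ⊓ Subgroup.centralizer ({z} : Set G)) = Nat.card ↥(Subgroup.normalizer ((P : Subgroup G) : Set G) ⊓ Subgroup.centralizer ({z'} : Set G))) (ψ : G → ℂ) (hψ : Cfsg.IsIrrCharacter G ψ) (hconst : ∀ z ∈ Z, ∀ z' ∈ Z, z ≠ 1 → z' ≠ 1 → ψ z = ψ z') (z : G) (hz : z ∈ Z) (hz1 : z ≠ 1) : ∃ n d : ℤ, ψ z = n ∧ ψ 1 = d ∧ (Nat.card (P : Subgroup G) : ℤ) ∣ d - n := by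
  classical
  haveI := Fintype.ofFinite G
  set N := Subgroup.normalizer ((P : Subgroup G) : Set G) with hN
  have key1 : ∀ g : G, ∀ w ∈ Z, w ≠ 1 → g * w * g⁻¹ ∈ Z → g ∈ N := fun g w hw hw1 hgw =>
    by_contra fun hg => hw1 (hTI g hg w (hZP hw) (hZP hgw))
  have key2 : ∀ g : G, ∀ k ∈ (P : Subgroup G), k ≠ 1 → ∀ w ∈ Z, w ≠ 1 →
      k * (g * w * g⁻¹) = g * w * g⁻¹ * k → g ∈ N := by
    intro g k hk hk1 w hw hw1 hc
    have hyc : g⁻¹ * k * g * w = w * (g⁻¹ * k * g) := by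
      calc g⁻¹ * k * g * w = g⁻¹ * (k * (g * w * g⁻¹)) * g := by group
        _ = g⁻¹ * (g * w * g⁻¹ * k) * g := by rw [hc]
        _ = w * (g⁻¹ * k * g) := by group
    have hyN : g⁻¹ * k * g ∈ N := key1 _ w hw hw1 (by rw [hyc, mul_inv_cancel_right]; exact hw)
    have hyp : IsPGroup p (Subgroup.zpowers (g⁻¹ * k * g)) := by
      obtain ⟨i, hi⟩ := IsPGroup.iff_orderOf.1 P.isPGroup' ⟨k, hk⟩
      rw [Subgroup.orderOf_mk] at hi
      refine IsPGroup.of_card (n := i) ?_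
      rw [Nat.card_zpowers, ← hi]
      exact orderOf_injective (MulAut.conj g⁻¹).toMonoidHom (MulAut.conj g⁻¹).injective k |>.symm.trans
        (by simp) |>.symm
    have hyP : g⁻¹ * k * g ∈ (P : Subgroup G) := by
      have h1 := IsPGroup.to_sup_of_normal_right' hyp P.isPGroup' (Subgroup.zpowers_le.2 hyN)
      exact (P.is_maximal' h1 le_sup_right) ▸ Subgroup.mem_sup_left (Subgroup.mem_zpowers _)
    by_contra hg
    have hgi : g⁻¹ ∉ N := fun h => hg (inv_inv g ▸ N.inv_mem h)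
    exact hk1 (hTI g⁻¹ hgi k hk (by rwa [inv_inv]))
  refine Cfsg.Agent.Char.CentralCongr.congr_central (P : Subgroup G) N Z Subgroup.le_normalizer hodd hZP
    hZn hZc ?_ key1 key2 hψ hconst z hz hz1
  obtain ⟨i, hi⟩ := IsPGroup.iff_card.1 P.isPGroup'
  rw [hi]
  refine Nat.Coprime.pow_left _ ((Fact.out : p.Prime).coprime_iff_not_dvd.2 fun h => P.not_dvd_index ?_)
  exact h.trans (Subgroup.relIndex_dvd_index_of_le Subgroup.le_normalizer)

end Cfsg.Agent.S1523
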