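import Cfsg.Statements.S1525
import Cfsg.Agent.Lib.Char.DadeGen

set_option autoImplicit false
open Cfsg

namespace Cfsg.Agent.S1525

open Cfsg.Agent.Char

open Cfsg.Agent.Char.Dade

/-- Under the Dade hypothesis for (A, L, H), let χ be a class function of G and let ψ be a function on L whose value at each a ∈ A is the average of χ over the coset a·H(a). Then (1/|G|) Σ |χ g|² over the elements g of G conjugate into some coset a·H(a) with a ∈ A is at least (1/|L|) Σ_{a ∈ A ∩ L} |ψ a|². -/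
theorem result {G : Type*} [Group G] [Fintype G] (A : Set G) (L : Subgroup G) [Fintype L] (H : G → Subgroup G) (hD : Cfsg.DadeHypothesis A L H) (χ : G → ℂ) (hχ : Cfsg.IsClassFunction G χ) (ψ : L → ℂ) (hψ : ∀ a : L, (a : G) ∈ A → ψ a = (Nat.card (H a) : ℂ)⁻¹ * ∑ᶠ u ∈ (H a : Set G), χ (a * u)) : (Nat.card L : ℝ)⁻¹ * ∑ᶠ a ∈ {a : L | (a : G) ∈ A}, ‖ψ a‖ ^ 2 ≤ (Nat.card G : ℝ)⁻¹ * ∑ᶠ g ∈ {g : G | ∃ a ∈ A, ∃ u ∈ H a, ∃ x : G, x * g * x⁻¹ = a * u}, ‖χ g‖ ^ 2 := by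
  classical
  let Φ : G → ℝ := fun g => if g ∈ supp A H then ‖χ g‖ ^ 2 else 0
  have hav := average hD Φ (fun g y => by
      have h : y * g * y⁻¹ ∈ supp A H ↔ g ∈ supp A H :=
        ⟨fun h => by simpa [mul_assoc] using mem_supp_conj h y⁻¹, fun h => mem_supp_conj h y⟩
      simp only [Φ, h, hχ g y]) (fun g hg => if_neg hg)
  have hR : ∑ᶠ g ∈ {g : G | ∃ a ∈ A, ∃ u ∈ H a, ∃ x : G, x * g * x⁻¹ = a * u}, ‖χ g‖ ^ 2 =
      ∑ g : G, Φ g := by
    rw [← finsum_eq_sum_of_fintype]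
    refine finsum_congr fun g => ?_
    rw [finsum_eq_if]
    exact if_congr Iff.rfl rfl rfl
  have hL : ∑ᶠ a ∈ {a : L | (a : G) ∈ A}, ‖ψ a‖ ^ 2 =
      ∑ a : L, if (a : G) ∈ A then ‖ψ a‖ ^ 2 else 0 := by
    rw [← finsum_eq_sum_of_fintype]
    refine finsum_congr fun a => ?_
    rw [finsum_eq_if]
    exact if_congr Iff.rfl rfl rfl
  rw [hR, hav, hL, sum_subgroup_extend hD]
  refine mul_le_mul_of_nonneg_left (Finset.sum_le_sum fun a _ => ?_) (by positivity)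
  split_ifs with ha
  swap
  · exact le_refl _
  rw [hψ a ha, finsum_subgroup]
  set S := Finset.univ.filter (fun u : G => u ∈ H a) with hS
  have hcard : (S.card : ℝ) = Nat.card (H a) := by
    rw [hS, ← Fintype.card_subtype, ← Nat.card_eq_fintype_card]
  have hpos : (0 : ℝ) < Nat.card (H a) := Nat.cast_pos.mpr Nat.card_pos
  have hΦ : ∀ u ∈ S, Φ (a * u) = ‖χ (a * u)‖ ^ 2 := fun u hu =>
    if_pos (mem_supp_coset ha (by simpa [hS] using hu))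
  rw [Finset.sum_congr rfl hΦ, norm_mul, norm_inv, Complex.norm_natCast, mul_pow]
  have h1 : ‖∑ u ∈ S, χ (a * u)‖ ^ 2 ≤ (Nat.card (H a) : ℝ) * ∑ u ∈ S, ‖χ (a * u)‖ ^ 2 := by
    refine le_trans (pow_le_pow_left₀ (norm_nonneg _) (norm_sum_le _ _) 2) ?_
    rw [← hcard]
    exact sq_sum_le_card_mul_sum_sq
  calc ((Nat.card (H a) : ℝ)⁻¹) ^ 2 * ‖∑ u ∈ S, χ (a * u)‖ ^ 2
      ≤ ((Nat.card (H a) : ℝ)⁻¹) ^ 2 * ((Nat.card (H a) : ℝ) * ∑ u ∈ S, ‖χ (a * u)‖ ^ 2) :=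
        mul_le_mul_of_nonneg_left h1 (by positivity)
    _ = _ := by field_simp

end Cfsg.Agent.S1525
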