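import Cfsg.Statements.S1527
import Cfsg.Agent.Lib.Char.Complete

set_option autoImplicit false
open Cfsg

namespace Cfsg.Agent.S1527

open Cfsg.Agent.Char

/-- Let G be a finite group and H i (i in a finite index type) subgroups of pairwise coprime orders, each of whose underlying sets is a TI-subset of G, such that every non-identity element of G is conjugate to an element of some H i. Then Nat.card G − 1 = Σ_i [G : N_G(H i)] · (Nat.card (H i) − 1). -/
theorem result {G : Type*} [Group G] [Finite G] {ι : Type*} [Fintype ι] (H : ι → Subgroup G) (hcop : ∀ i j, i ≠ j → Nat.Coprime (Nat.card (H i)) (Nat.card (H j))) (hTI : ∀ i, Cfsg.IsTISubset (H i : Set G)) (hcover : ∀ g : G, g ≠ 1 → ∃ i, ∃ x : G, x * g * x⁻¹ ∈ H i) : Nat.card G - 1 = ∑ i, (Subgroup.normalizer (H i : Set G)).index * (Nat.card (H i) - 1) := by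
  classical
  have : Fintype G := Fintype.ofFinite G
  let S : ι → Finset G := fun i => Finset.univ.filter fun g => g ≠ 1 ∧ ∃ x : G, x * g * x⁻¹ ∈ H i
  have hcov : Finset.univ.erase (1 : G) = Finset.univ.biUnion S := by
    ext g
    simp only [Finset.mem_erase, Finset.mem_univ, and_true, Finset.mem_biUnion, S, Finset.mem_filter,
      true_and]
    exact ⟨fun hg => (hcover g hg).imp fun i hi => ⟨hg, hi⟩, fun ⟨_, hg, _⟩ => hg⟩
  have hdisj : (↑(Finset.univ : Finset ι) : Set ι).PairwiseDisjoint S := by
    intro i _ j _ hij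
    rw [Function.onFun, Finset.disjoint_left]
    intro g hgi hgj
    simp only [S, Finset.mem_filter, Finset.mem_univ, true_and] at hgi hgj
    obtain ⟨hg, x, hx⟩ := hgi
    obtain ⟨-, y, hy⟩ := hgj
    have key : ∀ (k : ι) (z : G), z * g * z⁻¹ ∈ H k → orderOf g ∣ Nat.card (H k) := by
      intro k z hz
      have e : orderOf (z * g * z⁻¹) = orderOf g := by
        simpa using orderOf_injective (MulAut.conj z).toMonoidHom (MulEquiv.injective _) g
      rw [← e, ← Subgroup.orderOf_mk _ hz]
      exact orderOf_dvd_natCard _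
    exact hg (orderOf_eq_one_iff.mp (Nat.eq_one_of_dvd_coprimes (hcop i j hij) (key i x hx) (key j y hy)))
  have hcard : ∀ i, (S i).card =
      (Subgroup.normalizer (H i : Set G)).index * (Nat.card (H i) - 1) := by
    intro i
    set N := Subgroup.normalizer (H i : Set G) with hN
    let f : (G ⧸ N) × {h : H i // h ≠ 1} → S i := fun p =>
      ⟨p.1.out * (p.2.1 : G) * p.1.out⁻¹, by
        simp only [S, Finset.mem_filter, Finset.mem_univ, true_and]
        refine ⟨fun e => p.2.2 (Subtype.ext ?_), p.1.out⁻¹, by simpa [mul_assoc] using p.2.1.2⟩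
        simpa [mul_eq_one_iff_eq_inv] using e⟩
    have hf : Function.Bijective f := by
      constructor
      · rintro ⟨q, h, hh⟩ ⟨q', h', hh'⟩ e
        have e' : q.out * (h : G) * q.out⁻¹ = q'.out * (h' : G) * q'.out⁻¹ := congrArg Subtype.val e
        have hm : q'.out⁻¹ * q.out * (h : G) * (q'.out⁻¹ * q.out)⁻¹ = h' := by
          calc _ = q'.out⁻¹ * (q.out * (h : G) * q.out⁻¹) * q'.out := by group
            _ = _ := by rw [e']; group
        have hn : q'.out⁻¹ * q.out ∈ N := by
          by_contra hn
          exact hh (Subtype.ext (hTI i _ hn h h.2 (hm ▸ h'.2)))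
        have hq : q' = q := by
          rw [← QuotientGroup.out_eq' q, ← QuotientGroup.out_eq' q']
          exact QuotientGroup.eq.mpr hn
        subst hq
        simp only [inv_mul_cancel, one_mul, inv_one, mul_one] at hm
        simp only [Subtype.coe_injective hm]
      · rintro ⟨g, hg⟩
        simp only [S, Finset.mem_filter, Finset.mem_univ, true_and] at hg
        obtain ⟨hg1, x, hx⟩ := hg
        obtain ⟨n, hn⟩ : ∃ n : N, (QuotientGroup.mk x⁻¹ : G ⧸ N).out = x⁻¹ * n :=
          QuotientGroup.mk_out_eq_mul N x⁻¹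
        have hm : (n : G)⁻¹ * (x * g * x⁻¹) * n ∈ H i :=
          (Subgroup.mem_normalizer_iff''.mp n.2 _).mp hx
        refine ⟨⟨QuotientGroup.mk x⁻¹, ⟨⟨_, hm⟩, fun e => hg1 ?_⟩⟩, Subtype.ext ?_⟩
        · simpa [mul_eq_one_iff_eq_inv, mul_assoc] using congrArg Subtype.val e
        · simp only [f, hn]; group
    have := Nat.card_congr (Equiv.ofBijective f hf)
    rw [Nat.card_prod, Nat.card_eq_finsetCard] at this
    rw [← this]
    congr 1
    have : Fintype (H i) := Fintype.ofFinite _
    rw [Nat.card_eq_fintype_card, Fintype.card_subtype_compl, Fintype.card_subtype_eq,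
      Nat.card_eq_fintype_card]
  rw [← Finset.sum_congr rfl fun i _ => hcard i, ← Finset.card_biUnion hdisj, ← hcov,
    Finset.card_erase_of_mem (Finset.mem_univ _), Finset.card_univ, Nat.card_eq_fintype_card]

end Cfsg.Agent.S1527
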