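import Cfsg.Statements.S1529
import Cfsg.Agent.Lib.Char.Kernel

set_option autoImplicit false
open Cfsg

namespace Cfsg.Agent.S1529

open Cfsg.Agent.Char

/-- Let N be a subgroup of the finite group G, S a set of irreducible characters of N with at least two members, and τ₁ a linear isometry on the integer combinations of S with virtual-character values such that τ₁ α vanishes at 1 whenever α ∈ ℤ[S] does. Then there is ε ∈ {1, −1} such that ε • τ₁ χ is an irreducible character of G for every χ ∈ S, and distinct members of S give distinct characters. -/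
theorem result {G : Type*} [Group G] [Fintype G] (N : Subgroup G) [Fintype N] (S : Set (N → ℂ)) (hirr : ∀ χ ∈ S, Cfsg.IsIrrCharacter N χ) (htwo : ∃ χ ∈ S, ∃ ψ ∈ S, χ ≠ ψ) (τ₁ : (N → ℂ) → (G → ℂ)) (hτ₁ : Cfsg.IsLinearIsometryOn (Cfsg.zspan S) τ₁) (h0 : ∀ α ∈ Cfsg.zspan S, α 1 = 0 → τ₁ α 1 = 0) : ∃ ε : ℂ, (ε = 1 ∨ ε = -1) ∧ (∀ χ ∈ S, Cfsg.IsIrrCharacter G (ε • τ₁ χ)) ∧ (∀ χ ∈ S, ∀ ψ ∈ S, τ₁ χ = τ₁ ψ → χ = ψ) := by
  classical
  obtain ⟨hadd, hsmul, hinner, hgen⟩ := hτ₁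
  have hmem : ∀ χ ∈ S, χ ∈ zspan S := fun χ h => Submodule.subset_span h
  have hsm : ∀ χ ∈ S, ∀ n : ℤ, n • χ ∈ zspan S := fun χ h n =>
    Submodule.smul_mem _ _ (Submodule.subset_span h)
  have hnorm : ∀ χ ∈ S, IsIrrCharacter G (τ₁ χ) ∨ IsIrrCharacter G (-τ₁ χ) := fun χ h =>
    IsGenChar.norm_one (hgen χ (hmem χ h))
      (by rw [hinner χ (hmem χ h) χ (hmem χ h), classInner_self_irr (hirr χ h)])
  have hinj : ∀ χ ∈ S, ∀ ψ ∈ S, τ₁ χ = τ₁ ψ → χ = ψ := fun χ h ψ h' e =>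
    eq_of_constituent_irr (hirr χ h) (hirr ψ h') (by
      rw [← hinner χ (hmem χ h) ψ (hmem ψ h'), ← e, hinner χ (hmem χ h) χ (hmem χ h),
        classInner_self_irr (hirr χ h)]
      exact one_ne_zero)
  have hrel : ∀ χ ∈ S, ∀ ψ ∈ S, ψ 1 * τ₁ χ 1 = χ 1 * τ₁ ψ 1 := by
    intro χ h ψ h'
    obtain ⟨m, -, hm⟩ := IsIrr.one_eq_pos (hirr χ h)
    obtain ⟨n, -, hn⟩ := IsIrr.one_eq_pos (hirr ψ h')
    have hα : (n : ℤ) • χ + (-(m : ℤ)) • ψ ∈ zspan S :=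
      Submodule.add_mem _ (hsm χ h n) (hsm ψ h' _)
    have h1 := h0 _ hα (by simp [hm, hn, zsmul_eq_mul]; ring)
    rw [hadd _ (hsm χ h n) _ (hsm ψ h' _), hsmul χ (hmem χ h), hsmul ψ (hmem ψ h')] at h1
    simp [zsmul_eq_mul] at h1
    rw [hm, hn]
    linear_combination h1
  obtain ⟨χ₀, h₀, -⟩ := htwo
  rcases hnorm χ₀ h₀ with hp | hp
  · refine ⟨1, .inl rfl, fun χ h => ?_, hinj⟩
    rw [one_smul]
    rcases hnorm χ h with hq | hq
    · exact hq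
    · exfalso
      obtain ⟨a, ha, ha'⟩ := IsIrr.one_eq_pos hp
      obtain ⟨b, hb, hb'⟩ := IsIrr.one_eq_pos hq
      obtain ⟨m, hm, hm'⟩ := IsIrr.one_eq_pos (hirr χ₀ h₀)
      obtain ⟨n, hn, hn'⟩ := IsIrr.one_eq_pos (hirr χ h)
      rw [Pi.neg_apply, neg_eq_iff_eq_neg] at hb'
      have e := hrel χ h χ₀ h₀
      rw [hm', hn', ha', hb'] at e
      have e2 : (((m * b + n * a : ℕ)) : ℂ) = 0 := by push_cast; linear_combination -e
      rw [Nat.cast_eq_zero] at e2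
      have := Nat.mul_pos hm hb
      omega
  · refine ⟨-1, .inr rfl, fun χ h => ?_, hinj⟩
    rw [neg_smul, one_smul]
    rcases hnorm χ h with hq | hq
    · exfalso
      obtain ⟨a, ha, ha'⟩ := IsIrr.one_eq_pos hp
      obtain ⟨b, hb, hb'⟩ := IsIrr.one_eq_pos hq
      obtain ⟨m, hm, hm'⟩ := IsIrr.one_eq_pos (hirr χ₀ h₀)
      obtain ⟨n, hn, hn'⟩ := IsIrr.one_eq_pos (hirr χ h)
      rw [Pi.neg_apply, neg_eq_iff_eq_neg] at ha'
      have e := hrel χ h χ₀ h₀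
      rw [hm', hn', ha', hb'] at e
      have e2 : (((m * b + n * a : ℕ)) : ℂ) = 0 := by push_cast; linear_combination e
      rw [Nat.cast_eq_zero] at e2
      have := Nat.mul_pos hm hb
      omega
    · exact hq

end Cfsg.Agent.S1529
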