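import Cfsg.Statements.S1530
import Cfsg.Agent.Lib.Char.Constituent
import Mathlib.Tactic.Linarith

set_option autoImplicit false
open Cfsg

namespace Cfsg.Agent.S1530

/-- Let N be a subgroup of the finite group G and S₀ a finite set of irreducible characters of N, χ an irreducible character of N not in S₀, with degrees ξ 1 = d ξ. Let τ be a linear isometry on the integer combinations of S₀ ∪ {χ} vanishing at 1, with values virtual characters of G vanishing at 1, such that (S₀, N minus 1, τ) is coherent. If some ψ ∈ S₀ has d ψ dividing d χ and 2 · d ψ · d χ < Σ_{ξ ∈ S₀} (d ξ)², then (S₀ ∪ {χ}, N minus 1, τ) is coherent. -/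
theorem result {G : Type*} [Group G] [Fintype G] (N : Subgroup G) [Fintype N] (S₀ : Finset (N → ℂ)) (χ : N → ℂ) (hirr : ∀ ξ ∈ S₀, Cfsg.IsIrrCharacter N ξ) (hχ : Cfsg.IsIrrCharacter N χ) (hχS : χ ∉ S₀) (d : (N → ℂ) → ℕ) (hd : ∀ ξ ∈ insert χ S₀, ξ 1 = (d ξ : ℂ)) (τ : (N → ℂ) → (G → ℂ)) (hτ : Cfsg.IsLinearIsometryOn (Cfsg.zspanOn (↑(insert χ S₀) : Set (N → ℂ)) {1}ᶜ) τ) (hτ1 : ∀ α ∈ Cfsg.zspanOn (↑(insert χ S₀) : Set (N → ℂ)) {1}ᶜ, τ α 1 = 0) (hcoh : Cfsg.IsCoherent (↑S₀ : Set (N → ℂ)) {1}ᶜ τ) (ψ : N → ℂ) (hψ : ψ ∈ S₀) (hdvd : d ψ ∣ d χ) (hlt : 2 * d ψ * d χ < ∑ ξ ∈ S₀, d ξ ^ 2) : Cfsg.IsCoherent (↑(insert χ S₀) : Set (N → ℂ)) {1}ᶜ τ := by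
  classical
  obtain ⟨⟨α₀, hα₀, hα₀ne⟩, τ₁, hτ₁, hagree⟩ := hcoh
  have hins : (↑(insert χ S₀) : Set (N → ℂ)) = insert χ (↑S₀ : Set (N → ℂ)) := Finset.coe_insert χ S₀
  set U : Set (N → ℂ) := ↑(insert χ S₀) with hUdef
  set S : Set (N → ℂ) := ↑S₀ with hSdef
  have hSU : S ⊆ U := Finset.coe_subset.2 (Finset.subset_insert χ S₀)
  have hmono : ∀ α ∈ zspan S, α ∈ zspan U := fun α h => Submodule.span_mono hSU h
  have hdpos : ∀ ξ ∈ insert χ S₀, 0 < d ξ := by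
    intro ξ hξ
    have hi : IsIrrCharacter N ξ := by
      rcases Finset.mem_insert.1 hξ with rfl | h
      · exact hχ
      · exact hirr ξ h
    refine Nat.pos_of_ne_zero fun h0 => Cfsg.Agent.Char.IsIrr.one_ne_zero hi ?_
    rw [hd ξ hξ, h0, Nat.cast_zero]
  have hψi : ψ ∈ insert χ S₀ := Finset.mem_insert_of_mem hψ
  have hχi : χ ∈ insert χ S₀ := Finset.mem_insert_self χ S₀
  obtain ⟨a, ha⟩ := hdvd
  have hapos : 0 < a := by
    rcases Nat.eq_zero_or_pos a with h | h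
    · exact absurd ha (by rw [h, mul_zero]; exact (hdpos χ hχi).ne')
    · exact h
  have hne : ∀ ξ ∈ S₀, ξ ≠ χ := fun ξ hξ e => hχS (e ▸ hξ)
  have hmem : ∀ ξ ∈ S₀, ξ ∈ zspan S := fun ξ hξ => Submodule.subset_span hξ
  have hmemU : ∀ ξ ∈ insert χ S₀, ξ ∈ zspan U := fun ξ hξ => Submodule.subset_span hξ
  have hon : ∀ {T : Set (N → ℂ)} {α : N → ℂ}, α ∈ zspan T → α 1 = 0 → α ∈ zspanOn T {1}ᶜ := by
    intro T α h h1
    exact ⟨h, fun x hx => by rw [Set.mem_compl_iff, Set.mem_singleton_iff, not_not] at hx; rw [hx, h1]⟩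
  have hon1 : ∀ {T : Set (N → ℂ)} {α : N → ℂ}, α ∈ zspanOn T {1}ᶜ → α 1 = 0 := fun h => h.2 1 (by simp)
  set β : N → ℂ := χ - (a : ℤ) • ψ with hβdef
  have hβ : β ∈ zspanOn U {1}ᶜ := hon
    (Submodule.sub_mem _ (hmemU χ hχi) (Submodule.smul_mem _ _ (hmemU ψ hψi)))
    (by rw [hβdef, Pi.sub_apply, Pi.smul_apply, zsmul_eq_mul, hd χ hχi, hd ψ hψi, ha]; push_cast; ring)
  set α' : (N → ℂ) → (N → ℂ) := fun ξ => (d ψ : ℤ) • ξ - (d ξ : ℤ) • ψ with hα'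
  have hα'S : ∀ ξ ∈ S₀, α' ξ ∈ zspanOn S {1}ᶜ := fun ξ hξ => hon
    (Submodule.sub_mem _ (Submodule.smul_mem _ _ (hmem ξ hξ)) (Submodule.smul_mem _ _ (hmem ψ hψ)))
    (by simp only [hα', ← Int.cast_smul_eq_zsmul ℂ, Pi.sub_apply, Pi.smul_apply, smul_eq_mul, hd ξ (Finset.mem_insert_of_mem hξ),
      hd ψ hψi]; push_cast; ring)
  have hsub : ∀ α ∈ zspanOn S {1}ᶜ, α ∈ zspanOn U {1}ᶜ := fun α h => hon (hmono α h.1) (hon1 h)
  have hτ₁α : ∀ ξ ∈ S₀, τ₁ (α' ξ) = (d ψ : ℤ) • τ₁ ξ - (d ξ : ℤ) • τ₁ ψ := by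
    intro ξ hξ
    simp only [hα', sub_eq_add_neg, ← neg_smul]
    rw [hτ₁.1 _ (Submodule.smul_mem _ _ (hmem ξ hξ)) _ (Submodule.smul_mem _ _ (hmem ψ hψ)),
      hτ₁.2.1 _ (hmem ξ hξ), hτ₁.2.1 _ (hmem ψ hψ)]
  have hortho : ∀ ξ ∈ S₀, ∀ η ∈ S₀, classInner (τ₁ ξ) (τ₁ η) = if ξ = η then 1 else 0 := fun ξ hξ η hη => by
    rw [hτ₁.2.2.1 _ (hmem ξ hξ) _ (hmem η hη),
      Cfsg.Agent.Char.classInner_irr_eq_ite (hirr ξ hξ) (hirr η hη)]
  set D := τ β with hD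
  have hDgen : IsGeneralizedCharacter G D := hτ.2.2.2 β hβ
  choose! c hc using fun ξ (hξ : ξ ∈ S₀) =>
    Cfsg.Agent.Char.IsGenChar.classInner_int hDgen (hτ₁.2.2.2 _ (hmem ξ hξ))
  set b : ℤ := c ψ + (a : ℤ) with hbdef
  have hrel : ∀ ξ ∈ S₀, ξ ≠ ψ → c ξ * d ψ = (d ξ : ℤ) * b := by
    intro ξ hξ hξψ
    have h := hτ.2.2.1 β hβ _ (hsub _ (hα'S ξ hξ))
    rw [← hagree _ (hα'S ξ hξ), hτ₁α ξ hξ, ← hD] at h
    simp only [hα', hβdef, ← Int.cast_smul_eq_zsmul ℂ, Cfsg.Agent.Char.classInner_sub_right,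
      Cfsg.Agent.Char.classInner_sub_left, Cfsg.Agent.Char.classInner_smul_right,
      Cfsg.Agent.Char.classInner_smul_left, map_intCast] at h
    rw [Cfsg.Agent.Char.classInner_irr_ne hχ (hirr ξ hξ) (hne ξ hξ).symm,
      Cfsg.Agent.Char.classInner_irr_ne hχ (hirr ψ hψ) (hne ψ hψ).symm,
      Cfsg.Agent.Char.classInner_irr_ne (hirr ψ hψ) (hirr ξ hξ) (Ne.symm hξψ),
      Cfsg.Agent.Char.classInner_self_irr (hirr ψ hψ)] at h
    rw [hc ξ hξ, hc ψ hψ] at h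
    have h' : ((c ξ * d ψ : ℤ) : ℂ) = (((d ξ : ℤ) * b : ℤ) : ℂ) := by
      rw [hbdef]; push_cast at h ⊢; linear_combination h
    exact_mod_cast h'
  set P : G → ℂ := ∑ ξ ∈ S₀, (c ξ : ℂ) • τ₁ ξ with hP
  set Γ : G → ℂ := D - P with hΓ
  have hPξ : ∀ ξ ∈ S₀, classInner P (τ₁ ξ) = (c ξ : ℂ) := fun ξ hξ => by
    rw [hP, Cfsg.Agent.Char.classInner_sum_left, Finset.sum_congr rfl fun η hη => by
      rw [Cfsg.Agent.Char.classInner_smul_left, hortho η hη ξ hξ],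
      Finset.sum_eq_single ξ (fun η _ h => by rw [if_neg h, mul_zero]) (fun h => absurd hξ h),
      if_pos rfl, mul_one]
  have hΓξ : ∀ ξ ∈ S₀, classInner Γ (τ₁ ξ) = 0 := fun ξ hξ => by
    rw [hΓ, Cfsg.Agent.Char.classInner_sub_left, hc ξ hξ, hPξ ξ hξ, sub_self]
  have hΓgen : IsGeneralizedCharacter G Γ := Cfsg.Agent.Char.IsGenChar.sub hDgen
    (Cfsg.Agent.Char.IsGenChar.sum fun ξ hξ =>
      Cfsg.Agent.Char.IsGenChar.zsmul (hτ₁.2.2.2 _ (hmem ξ hξ)) (c ξ))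
  obtain ⟨g, hg⟩ := Cfsg.Agent.Char.IsGenChar.classInner_int hΓgen hΓgen
  have hg0 : 0 ≤ g := by
    have := Cfsg.Agent.Char.classInner_self_re_nonneg Γ
    rw [hg] at this
    exact_mod_cast this
  have hnorm : (a : ℤ) ^ 2 + 1 = g + ∑ ξ ∈ S₀, c ξ ^ 2 := by
    have h := hτ.2.2.1 β hβ β hβ
    have e1 : classInner β β = (((a : ℤ) ^ 2 + 1 : ℤ) : ℂ) := by
      simp only [hβdef, ← Int.cast_smul_eq_zsmul ℂ, Cfsg.Agent.Char.classInner_sub_right,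
        Cfsg.Agent.Char.classInner_sub_left, Cfsg.Agent.Char.classInner_smul_right,
        Cfsg.Agent.Char.classInner_smul_left, map_intCast,
        Cfsg.Agent.Char.classInner_irr_ne hχ (hirr ψ hψ) (hne ψ hψ).symm,
        Cfsg.Agent.Char.classInner_irr_ne (hirr ψ hψ) hχ (hne ψ hψ),
        Cfsg.Agent.Char.classInner_self_irr (hirr ψ hψ), Cfsg.Agent.Char.classInner_self_irr hχ]
      push_cast; ring
    have hΓP : classInner Γ P = 0 := by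
      rw [hP, Cfsg.Agent.Char.classInner_sum_right]
      exact Finset.sum_eq_zero fun ξ hξ => by
        rw [Cfsg.Agent.Char.classInner_smul_right, hΓξ ξ hξ, mul_zero]
    have hPP : classInner P P = ((∑ ξ ∈ S₀, c ξ ^ 2 : ℤ) : ℂ) := by
      conv_lhs => arg 2; rw [hP]
      rw [Cfsg.Agent.Char.classInner_sum_right, Int.cast_sum]
      refine Finset.sum_congr rfl fun ξ hξ => ?_
      rw [Cfsg.Agent.Char.classInner_smul_right, hPξ ξ hξ, map_intCast]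
      push_cast; ring
    have hDD : classInner D D = ((g + ∑ ξ ∈ S₀, c ξ ^ 2 : ℤ) : ℂ) := by
      have e : D = Γ + P := (sub_add_cancel D P).symm
      rw [e, Cfsg.Agent.Char.classInner_add_left, Cfsg.Agent.Char.classInner_add_right,
        Cfsg.Agent.Char.classInner_add_right, hg, hΓP, hPP,
        ← Cfsg.Agent.Char.classInner_conj_symm Γ P, hΓP, map_zero]
      push_cast; ring
    rw [e1, ← hD, hDD] at h
    exact_mod_cast h.symm
  have hψpos : (0 : ℤ) < d ψ := by exact_mod_cast hdpos ψ hψi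
  set Q : ℤ := ∑ ξ ∈ S₀, (d ξ : ℤ) ^ 2 with hQ
  have hQlt : 2 * (a : ℤ) * (d ψ : ℤ) ^ 2 < Q := by
    have : 2 * d ψ * (d ψ * a) < ∑ ξ ∈ S₀, d ξ ^ 2 := ha ▸ hlt
    have h' : (2 : ℤ) * d ψ * (d ψ * a) < Q := by rw [hQ]; exact_mod_cast this
    linarith [h', show (2 : ℤ) * d ψ * (d ψ * a) = 2 * (a : ℤ) * (d ψ : ℤ) ^ 2 by ring]
  have hsumsq : (∑ ξ ∈ S₀, c ξ ^ 2) * (d ψ : ℤ) ^ 2 =
      ((a : ℤ) ^ 2 - 2 * a * b) * (d ψ : ℤ) ^ 2 + b ^ 2 * Q := by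
    rw [hQ, Finset.sum_mul, Finset.mul_sum, ← Finset.add_sum_erase _ _ hψ,
      ← Finset.add_sum_erase _ _ hψ, Finset.sum_congr rfl (g := fun ξ => b ^ 2 * (d ξ : ℤ) ^ 2)
      fun ξ hξ => by
        rw [← mul_pow, hrel ξ (Finset.mem_of_mem_erase hξ) (Finset.ne_of_mem_erase hξ)]; ring]
    rw [hbdef]; ring
  have hb : b = 0 := by
    by_contra hb
    have h1 : b ^ 2 * Q = (2 * a * b + 1 - g) * (d ψ : ℤ) ^ 2 := by
      linear_combination -hsumsq - (d ψ : ℤ) ^ 2 * hnorm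
    have hb1 : b ≤ b ^ 2 := Int.le_self_sq b
    have hb2 : 0 < b ^ 2 := by positivity
    have h2 : (2 * a * b : ℤ) * (d ψ : ℤ) ^ 2 < (2 * a * b + 1 - g) * (d ψ : ℤ) ^ 2 := by
      rw [← h1]
      calc (2 * a * b : ℤ) * (d ψ : ℤ) ^ 2 ≤ b ^ 2 * (2 * a * (d ψ : ℤ) ^ 2) := by
            nlinarith [mul_nonneg (mul_nonneg (Int.natCast_nonneg a) (sq_nonneg (d ψ : ℤ))) (sub_nonneg.2 hb1)]
        _ < _ := mul_lt_mul_of_pos_left hQlt hb2
    have hgz : g = 0 := by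
      have := lt_of_mul_lt_mul_right h2 (sq_nonneg _)
      omega
    have hΓ0 : Γ = 0 := by
      rw [← Cfsg.Agent.Char.classInner_self_eq_zero, hg, hgz, Int.cast_zero]
    have hval : ∀ ξ ∈ S₀, (d ψ : ℂ) * τ₁ ξ 1 = (d ξ : ℂ) * τ₁ ψ 1 := by
      intro ξ hξ
      have h := hτ1 _ (hsub _ (hα'S ξ hξ))
      rw [← hagree _ (hα'S ξ hξ), hτ₁α ξ hξ] at h
      simp only [← Int.cast_smul_eq_zsmul ℂ, Pi.sub_apply, Pi.smul_apply, smul_eq_mul, Int.cast_natCast] at h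
      linear_combination h
    have hD1 := hτ1 β hβ
    rw [← hD, show D = P from sub_eq_zero.1 hΓ0, hP, Finset.sum_apply] at hD1
    have h3 : ((b * Q - a * (d ψ : ℤ) ^ 2 : ℤ) : ℂ) * τ₁ ψ 1 = 0 := by
      have e : ((b * Q - a * (d ψ : ℤ) ^ 2 : ℤ)) = ∑ ξ ∈ S₀, c ξ * d ψ * d ξ := by
        rw [hQ, Finset.mul_sum, ← Finset.add_sum_erase _ _ hψ, ← Finset.add_sum_erase _ _ hψ,
          Finset.sum_congr rfl (f := fun ξ => c ξ * d ψ * d ξ) (g := fun ξ => b * (d ξ : ℤ) ^ 2) fun ξ hξ => by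
            rw [hrel ξ (Finset.mem_of_mem_erase hξ) (Finset.ne_of_mem_erase hξ)]; ring]
        rw [hbdef]; ring
      rw [e, Int.cast_sum, Finset.sum_mul]
      calc ∑ ξ ∈ S₀, ((c ξ * d ψ * d ξ : ℤ) : ℂ) * τ₁ ψ 1
          = ∑ ξ ∈ S₀, (d ψ : ℂ) ^ 2 * ((c ξ : ℂ) • τ₁ ξ) 1 := Finset.sum_congr rfl fun ξ hξ => by
            rw [Pi.smul_apply, smul_eq_mul]
            push_cast
            linear_combination -((c ξ : ℂ) * (d ψ : ℂ)) * hval ξ hξ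
        _ = 0 := by rw [← Finset.mul_sum, hD1, mul_zero]
    have hne1 : τ₁ ψ 1 ≠ 0 := by
      rcases Cfsg.Agent.Char.IsGenChar.norm_one (hτ₁.2.2.2 _ (hmem ψ hψ))
        (by rw [hortho ψ hψ ψ hψ, if_pos rfl]) with h | h
      · exact Cfsg.Agent.Char.IsIrr.one_ne_zero h
      · exact fun e => Cfsg.Agent.Char.IsIrr.one_ne_zero h (by rw [Pi.neg_apply, e, neg_zero])
    rw [mul_eq_zero, Int.cast_eq_zero] at h3
    have h4 := h3.resolve_right hne1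
    have hQ0 : 0 < Q := lt_of_le_of_lt (by positivity) hQlt
    have hb' : 0 < b := by
      have : 0 < b * Q := by
        have : 0 < (a : ℤ) * (d ψ : ℤ) ^ 2 := mul_pos (by exact_mod_cast hapos) (pow_pos hψpos 2)
        linarith
      exact pos_of_mul_pos_left this hQ0.le
    have h5 : Q ≤ b * Q := le_mul_of_one_le_left hQ0.le hb'
    have h6 : 0 < (a : ℤ) * (d ψ : ℤ) ^ 2 := mul_pos (by exact_mod_cast hapos) (pow_pos hψpos 2)
    linarith [h5, h6]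
  have hcψ : c ψ = -(a : ℤ) := by rw [hbdef] at hb; omega
  have hc0 : ∀ ξ ∈ S₀, ξ ≠ ψ → c ξ = 0 := fun ξ hξ h => by
    have := hrel ξ hξ h
    rw [hb, mul_zero, mul_eq_zero] at this
    exact this.resolve_right hψpos.ne'
  have hΓΓ : classInner Γ Γ = 1 := by
    have : g = 1 := by
      rw [← Finset.add_sum_erase _ _ hψ, Finset.sum_eq_zero fun ξ hξ => by
        rw [hc0 ξ (Finset.mem_of_mem_erase hξ) (Finset.ne_of_mem_erase hξ)]; rfl, hcψ, neg_sq] at hnorm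
      omega
    rw [hg, this, Int.cast_one]
  have hDeq : D = (-(a : ℤ)) • τ₁ ψ + Γ := by
    have e : P = (-(a : ℤ)) • τ₁ ψ := by
      rw [hP, Finset.sum_eq_single ψ (fun ξ hξ h => by rw [hc0 ξ hξ h, Int.cast_zero, zero_smul])
        (fun h => absurd hψ h), hcψ, Int.cast_smul_eq_zsmul]
    rw [hΓ, ← e]; abel
  have hχperp : ∀ γ ∈ zspan S, classInner γ χ = 0 := by
    intro γ hγ
    induction hγ using Submodule.span_induction with
    | mem x hx => exact Cfsg.Agent.Char.classInner_irr_ne (hirr x hx) hχ (hne x hx)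
    | zero => exact Cfsg.Agent.Char.classInner_zero_left χ
    | add x y _ _ hx hy => rw [Cfsg.Agent.Char.classInner_add_left, hx, hy, add_zero]
    | smul k x _ hx => rw [← Int.cast_smul_eq_zsmul ℂ, Cfsg.Agent.Char.classInner_smul_left, hx, mul_zero]
  have hΓperp : ∀ γ ∈ zspan S, classInner Γ (τ₁ γ) = 0 := by
    intro γ hγ
    induction hγ using Submodule.span_induction with
    | mem x hx => exact hΓξ x hx
    | zero =>
      have h0 := hτ₁.2.1 ψ (hmem ψ hψ) 0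
      rw [zero_smul, zero_smul] at h0
      rw [h0, Cfsg.Agent.Char.classInner_zero_right]
    | add x y hxs hys hx hy => rw [hτ₁.1 x hxs y hys, Cfsg.Agent.Char.classInner_add_right, hx, hy, add_zero]
    | smul k x hxs hx =>
      rw [hτ₁.2.1 x hxs k, ← Int.cast_smul_eq_zsmul ℂ, Cfsg.Agent.Char.classInner_smul_right, hx, mul_zero]
  have hdec : ∀ α ∈ zspan U, ∃ k : ℤ, α - k • χ ∈ zspan S ∧ classInner α χ = k := by
    intro α hα
    rw [hins] at hα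
    obtain ⟨k, γ, hγ, rfl⟩ := Submodule.mem_span_insert.1 hα
    refine ⟨k, by rw [add_sub_cancel_left]; exact hγ, ?_⟩
    rw [Cfsg.Agent.Char.classInner_add_left, hχperp γ hγ, ← Int.cast_smul_eq_zsmul ℂ,
      Cfsg.Agent.Char.classInner_smul_left, Cfsg.Agent.Char.classInner_self_irr hχ, mul_one, add_zero]
  choose! k hk hkin using hdec
  let τ₂ : (N → ℂ) → (G → ℂ) := fun α => τ₁ (α - k α • χ) + k α • Γ
  have kuniq : ∀ {α : N → ℂ} {z : ℤ}, α ∈ zspan U → classInner α χ = z → k α = z :=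
    fun {α z} hα h => Int.cast_injective ((hkin α hα).symm.trans h)
  refine ⟨⟨α₀, hsub α₀ hα₀, hα₀ne⟩, τ₂, ⟨fun α hα α₂ hα₂ => ?_, fun α hα z => ?_,
    fun α hα α₂ hα₂ => ?_, fun α hα => ?_⟩, fun α hα => ?_⟩
  · simp only [τ₂]
    rw [kuniq (z := k α + k α₂) (Submodule.add_mem _ hα hα₂) (by
      rw [Cfsg.Agent.Char.classInner_add_left, hkin α hα, hkin α₂ hα₂]; push_cast; ring),
      add_smul, add_smul, add_sub_add_comm, hτ₁.1 _ (hk α hα) _ (hk α₂ hα₂)]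
    abel
  · simp only [τ₂]
    rw [kuniq (z := z * k α) (Submodule.smul_mem _ _ hα) (by
      rw [← Int.cast_smul_eq_zsmul ℂ, Cfsg.Agent.Char.classInner_smul_left, hkin α hα]; push_cast; ring),
      mul_smul, mul_smul, ← smul_sub, hτ₁.2.1 _ (hk α hα) z, smul_add]
  · have p1 := hΓperp _ (hk α₂ hα₂)
    have p2 : classInner (τ₁ (α - k α • χ)) Γ = 0 := by
      rw [← Cfsg.Agent.Char.classInner_conj_symm, hΓperp _ (hk α hα), map_zero]
    have q1 : classInner χ (α₂ - k α₂ • χ) = 0 := by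
      rw [← Cfsg.Agent.Char.classInner_conj_symm, hχperp _ (hk α₂ hα₂), map_zero]
    have q2 := hχperp _ (hk α hα)
    have hq := hτ₁.2.2.1 _ (hk α hα) _ (hk α₂ hα₂)
    conv_rhs => rw [← sub_add_cancel α (k α • χ), ← sub_add_cancel α₂ (k α₂ • χ)]
    simp only [τ₂, ← Int.cast_smul_eq_zsmul ℂ, Cfsg.Agent.Char.classInner_add_left,
      Cfsg.Agent.Char.classInner_add_right, Cfsg.Agent.Char.classInner_smul_left,
      Cfsg.Agent.Char.classInner_smul_right] at p1 p2 q1 q2 hq ⊢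
    rw [p1, p2, q1, q2, hq, hΓΓ, Cfsg.Agent.Char.classInner_self_irr hχ]
  · simp only [τ₂]
    rw [← Int.cast_smul_eq_zsmul ℂ (k α) Γ]
    exact Cfsg.Agent.Char.IsGenChar.add (hτ₁.2.2.2 _ (hk α hα))
      (Cfsg.Agent.Char.IsGenChar.zsmul hΓgen _)
  · have hγ : α - k α • β ∈ zspanOn S {1}ᶜ := hon (by
      have e : α - k α • β = (α - k α • χ) + k α • ((a : ℤ) • ψ) := by rw [hβdef, smul_sub]; abel
      rw [e]
      exact Submodule.add_mem _ (hk α hα.1) (Submodule.smul_mem _ _ (Submodule.smul_mem _ _ (hmem ψ hψ))))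
      (by rw [Pi.sub_apply, Pi.smul_apply, hon1 hα, hon1 hβ, smul_zero, sub_zero])
    have hkβ : k α • β ∈ zspanOn U {1}ᶜ := hon (Submodule.smul_mem _ _ hβ.1)
      (by rw [Pi.smul_apply, hon1 hβ, smul_zero])
    have e2 : τ α = τ₁ (α - k α • β) + k α • D := by
      conv_lhs => rw [← sub_add_cancel α (k α • β)]
      rw [hτ.1 _ (hsub _ hγ) _ hkβ, hτ.2.1 β hβ, hagree _ hγ]
    have e3 : α - k α • β = (α - k α • χ) + (k α * a) • ψ := by rw [hβdef, smul_sub, mul_smul]; abel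
    rw [e2, e3, hτ₁.1 _ (hk α hα.1) _ (Submodule.smul_mem _ _ (hmem ψ hψ)), hτ₁.2.1 _ (hmem ψ hψ),
      hDeq, smul_add, ← mul_smul, mul_neg, neg_smul]
    simp only [τ₂]
    abel

end Cfsg.Agent.S1530
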