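import Cfsg.Statements.S1531
import Cfsg.Agent.Lib.Char.Constituent
import Mathlib.Tactic.Module
import Mathlib.Tactic.LinearCombination

set_option autoImplicit false
open Cfsg

namespace Cfsg.Agent.S1531

/-- Let N be a subgroup of the finite group G, S a set of irreducible characters of N, and α a linear isometry on the integer combinations of S vanishing at 1 with values virtual characters of G vanishing at 1. Let X, Y ⊆ S be disjoint, each with at least two members, and σ, τ linear isometries on ℤ[X], ℤ[Y] into virtual characters agreeing with α on the members vanishing at 1. Then ⟨σ χ, τ η⟩ = 0 for χ ∈ X, η ∈ Y; and if for some χ₀ ∈ X, η₀ ∈ Y with degrees c = χ₀ 1, e = η₀ 1 one has α (c • η₀ − e • χ₀) = c • τ η₀ − e • σ χ₀, then (X ∪ Y, N minus 1, α) is coherent. -/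
theorem result {G : Type*} [Group G] [Fintype G] (N : Subgroup G) [Fintype N] (S X Y : Set (N → ℂ)) (hirr : ∀ ξ ∈ S, Cfsg.IsIrrCharacter N ξ) (hXS : X ⊆ S) (hYS : Y ⊆ S) (hXY : Disjoint X Y) (hX2 : ∃ a ∈ X, ∃ b ∈ X, a ≠ b) (hY2 : ∃ a ∈ Y, ∃ b ∈ Y, a ≠ b) (α : (N → ℂ) → (G → ℂ)) (hα : Cfsg.IsLinearIsometryOn (Cfsg.zspanOn S {1}ᶜ) α) (hα1 : ∀ θ ∈ Cfsg.zspanOn S {1}ᶜ, α θ 1 = 0) (σ τ : (N → ℂ) → (G → ℂ)) (hσ : Cfsg.IsLinearIsometryOn (Cfsg.zspan X) σ) (hσα : ∀ θ ∈ Cfsg.zspanOn X {1}ᶜ, σ θ = α θ) (hτ : Cfsg.IsLinearIsometryOn (Cfsg.zspan Y) τ) (hτα : ∀ θ ∈ Cfsg.zspanOn Y {1}ᶜ, τ θ = α θ) : (∀ χ ∈ X, ∀ η ∈ Y, Cfsg.classInner (σ χ) (τ η) = 0) ∧ ((∃ χ₀ ∈ X, ∃ η₀ ∈ Y, α (χ₀ 1 • η₀ - η₀ 1 • χ₀) = χ₀ 1 • τ η₀ - η₀ 1 • σ χ₀) → Cfsg.IsCoherent (X ∪ Y) {1}ᶜ α) := by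
  classical
  have hd : ∀ ξ ∈ S, ∃ n : ℕ, 0 < n ∧ ξ 1 = n := fun ξ hξ => Cfsg.Agent.Char.IsIrr.one_eq_pos (hirr ξ hξ)
  choose! d hdpos hd using hd
  have hon : ∀ {T : Set (N → ℂ)} {f : N → ℂ}, f ∈ zspan T → f 1 = 0 → f ∈ zspanOn T {1}ᶜ := by
    intro T f h h1
    exact ⟨h, fun x hx => by rw [Set.mem_compl_iff, Set.mem_singleton_iff, not_not] at hx; rw [hx, h1]⟩
  have hint : ∀ {T : Set (N → ℂ)}, T ⊆ S → ∀ f ∈ zspan T, ∃ z : ℤ, f 1 = z := by
    intro T hT f hf
    induction hf using Submodule.span_induction with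
    | mem x hx => exact ⟨d x, by rw [hd x (hT hx)]; simp⟩
    | zero => exact ⟨0, by simp⟩
    | add x y _ _ hx hy =>
      obtain ⟨i, hi⟩ := hx; obtain ⟨j, hj⟩ := hy
      exact ⟨i + j, by rw [Pi.add_apply, hi, hj]; push_cast; rfl⟩
    | smul c x _ hx =>
      obtain ⟨i, hi⟩ := hx
      exact ⟨c * i, by rw [← Int.cast_smul_eq_zsmul ℂ, Pi.smul_apply, hi, smul_eq_mul]; push_cast; rfl⟩
  have hXon : ∀ f ∈ zspanOn X {1}ᶜ, f ∈ zspanOn S {1}ᶜ := fun f h =>
    hon (Submodule.span_mono hXS h.1) (h.2 1 (by simp))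
  have hYon : ∀ f ∈ zspanOn Y {1}ᶜ, f ∈ zspanOn S {1}ᶜ := fun f h =>
    hon (Submodule.span_mono hYS h.1) (h.2 1 (by simp))
  let cb : (N → ℂ) → (N → ℂ) → (N → ℂ) := fun u v => (d v : ℤ) • u - (d u : ℤ) • v
  have hcb : ∀ {T : Set (N → ℂ)}, T ⊆ S → ∀ u ∈ T, ∀ v ∈ T, cb u v ∈ zspanOn T {1}ᶜ := by
    intro T hT u hu v hv
    refine hon (Submodule.sub_mem _ (Submodule.smul_mem _ _ (Submodule.subset_span hu))
      (Submodule.smul_mem _ _ (Submodule.subset_span hv))) ?_
    simp only [cb, ← Int.cast_smul_eq_zsmul ℂ, Pi.sub_apply, Pi.smul_apply, smul_eq_mul, hd u (hT hu), hd v (hT hv)]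
    push_cast; ring
  have himg : ∀ {T : Set (N → ℂ)} {ρ : (N → ℂ) → (G → ℂ)}, IsLinearIsometryOn (zspan T) ρ →
      ∀ u ∈ T, ∀ v ∈ T, ρ (cb u v) = (d v : ℤ) • ρ u - (d u : ℤ) • ρ v := by
    intro T ρ hρ u hu v hv
    simp only [cb, sub_eq_add_neg, ← neg_smul]
    rw [hρ.1 _ (Submodule.smul_mem _ _ (Submodule.subset_span hu)) _
      (Submodule.smul_mem _ _ (Submodule.subset_span hv)), hρ.2.1 _ (Submodule.subset_span hu),
      hρ.2.1 _ (Submodule.subset_span hv)]
  have hpm : ∀ {T : Set (N → ℂ)} {ρ : (N → ℂ) → (G → ℂ)}, IsLinearIsometryOn (zspan T) ρ → T ⊆ S →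
      ∀ u ∈ T, IsIrrCharacter G (ρ u) ∨ IsIrrCharacter G (-ρ u) := fun {T ρ} hρ hT u hu =>
    Cfsg.Agent.Char.IsGenChar.norm_one (hρ.2.2.2 u (Submodule.subset_span hu)) (by
      rw [hρ.2.2.1 u (Submodule.subset_span hu) u (Submodule.subset_span hu),
        Cfsg.Agent.Char.classInner_self_irr (hirr u (hT hu))])
  have horthT : ∀ {T : Set (N → ℂ)} {ρ : (N → ℂ) → (G → ℂ)}, IsLinearIsometryOn (zspan T) ρ → T ⊆ S →
      ∀ u ∈ T, ∀ v ∈ T, u ≠ v → classInner (ρ u) (ρ v) = 0 := fun {T ρ} hρ hT u hu v hv h => by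
    rw [hρ.2.2.1 u (Submodule.subset_span hu) v (Submodule.subset_span hv),
      Cfsg.Agent.Char.classInner_irr_ne (hirr u (hT hu)) (hirr v (hT hv)) h]
  have hXYS : ∀ u ∈ X, ∀ v ∈ Y, classInner u v = 0 := fun u hu v hv =>
    Cfsg.Agent.Char.classInner_irr_ne (hirr u (hXS hu)) (hirr v (hYS hv))
      fun e => Set.disjoint_left.1 hXY hu (e ▸ hv)
  have horth : ∀ χ ∈ X, ∀ η ∈ Y, classInner (σ χ) (τ η) = 0 := by
    intro χ hχ η hη
    by_contra hne
    have hother : ∀ {T : Set (N → ℂ)}, (∃ a ∈ T, ∃ b ∈ T, a ≠ b) → ∀ u ∈ T, ∃ v ∈ T, u ≠ v := by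
      rintro T ⟨a, ha, b, hb, hab⟩ u hu
      by_cases h : u = a
      · exact ⟨b, hb, h ▸ hab⟩
      · exact ⟨a, ha, h⟩
    obtain ⟨χ', hχ', hχχ'⟩ := hother hX2 χ hχ
    obtain ⟨η', hη', hηη'⟩ := hother hY2 η hη
    have hsign : ∀ {f g : G → ℂ}, (IsIrrCharacter G f ∨ IsIrrCharacter G (-f)) →
        (IsIrrCharacter G g ∨ IsIrrCharacter G (-g)) → classInner f g ≠ 0 →
        ∃ e : ℂ, (e = 1 ∨ e = -1) ∧ g = e • f ∧ classInner f g = e := by
      intro f g hf hg h
      rcases hf with hf | hf <;> rcases hg with hg | hg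
      · have : g = f := by
          by_contra hfg; exact h (Cfsg.Agent.Char.classInner_irr_ne hf hg (Ne.symm hfg))
        exact ⟨1, Or.inl rfl, by rw [this, one_smul], by rw [this, Cfsg.Agent.Char.classInner_self_irr hf]⟩
      · have : -g = f := by
          by_contra hfg
          refine h ?_
          rw [← neg_neg g, Cfsg.Agent.Char.classInner_neg_right,
            Cfsg.Agent.Char.classInner_irr_ne hf hg (Ne.symm hfg), neg_zero]
        refine ⟨-1, Or.inr rfl, by rw [← this]; simp, ?_⟩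
        rw [← neg_neg g, this, Cfsg.Agent.Char.classInner_neg_right, Cfsg.Agent.Char.classInner_self_irr hf]
      · have : g = -f := by
          by_contra hfg
          refine h ?_
          rw [← neg_neg f, Cfsg.Agent.Char.classInner_neg_left,
            Cfsg.Agent.Char.classInner_irr_ne hf hg (Ne.symm hfg), neg_zero]
        refine ⟨-1, Or.inr rfl, by rw [this]; simp, ?_⟩
        rw [this, Cfsg.Agent.Char.classInner_neg_right, ← neg_neg f, Cfsg.Agent.Char.classInner_neg_left, neg_neg,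
          Cfsg.Agent.Char.classInner_neg_right, Cfsg.Agent.Char.classInner_self_irr hf]
      · have : g = f := by
          by_contra hfg
          refine h ?_
          rw [← neg_neg f, ← neg_neg g, Cfsg.Agent.Char.classInner_neg_left,
            Cfsg.Agent.Char.classInner_neg_right,
            Cfsg.Agent.Char.classInner_irr_ne hf hg (fun e => hfg (neg_injective e).symm), neg_zero, neg_zero]
        refine ⟨1, Or.inl rfl, by rw [this, one_smul], ?_⟩
        rw [this, ← neg_neg f, Cfsg.Agent.Char.classInner_neg_left, Cfsg.Agent.Char.classInner_neg_right,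
          Cfsg.Agent.Char.classInner_self_irr hf, neg_neg]
    obtain ⟨e, he, hb, hin⟩ := hsign (hpm hσ hXS χ hχ) (hpm hτ hYS η hη) hne
    have z1 : classInner (σ χ') (τ η) = 0 := by
      rw [hb, Cfsg.Agent.Char.classInner_smul_right, horthT hσ hXS χ' hχ' χ hχ hχχ'.symm, mul_zero]
    have he0 : e ≠ 0 := by rcases he with rfl | rfl <;> simp
    have z2 : classInner (σ χ) (τ η') = 0 := by
      have : σ χ = e⁻¹ • τ η := by rw [hb, inv_smul_smul₀ he0]
      rw [this, Cfsg.Agent.Char.classInner_smul_left, horthT hτ hYS η hη η' hη' hηη', mul_zero]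
    have hu := hcb hXS χ hχ χ' hχ'
    have hw := hcb hYS η hη η' hη'
    have hzero : classInner (σ (cb χ χ')) (τ (cb η η')) = 0 := by
      rw [hσα _ hu, hτα _ hw, hα.2.2.1 _ (hXon _ hu) _ (hYon _ hw)]
      simp only [cb, ← Int.cast_smul_eq_zsmul ℂ, Cfsg.Agent.Char.classInner_sub_left,
        Cfsg.Agent.Char.classInner_sub_right, Cfsg.Agent.Char.classInner_smul_left,
        Cfsg.Agent.Char.classInner_smul_right, hXYS χ hχ η hη, hXYS χ hχ η' hη', hXYS χ' hχ' η hη,
        hXYS χ' hχ' η' hη', mul_zero, sub_zero]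
    rw [himg hσ χ hχ χ' hχ', himg hτ η hη η' hη'] at hzero
    simp only [← Int.cast_smul_eq_zsmul ℂ, Cfsg.Agent.Char.classInner_sub_left,
      Cfsg.Agent.Char.classInner_sub_right, Cfsg.Agent.Char.classInner_smul_left,
      Cfsg.Agent.Char.classInner_smul_right, Int.cast_natCast, map_natCast, z1, z2, hin,
      mul_zero, sub_zero, zero_sub, mul_neg, neg_neg, sub_neg_eq_add] at hzero
    have hne' : classInner (σ χ') (τ η') ≠ 0 := by
      intro h0
      rw [h0] at hzero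
      have : (d χ' : ℂ) * ((d η' : ℂ) * e) = 0 := by linear_combination hzero
      simp only [mul_eq_zero, Nat.cast_eq_zero] at this
      rcases this with h | h | h
      · exact (hdpos χ' (hXS hχ')).ne' h
      · exact (hdpos η' (hYS hη')).ne' h
      · exact he0 h
    obtain ⟨e', he', hb', hin'⟩ := hsign (hpm hσ hXS χ' hχ') (hpm hτ hYS η' hη') hne'
    rw [hin'] at hzero
    have v1 : (d χ' : ℂ) * σ χ 1 - (d χ : ℂ) * σ χ' 1 = 0 := by
      have h := hα1 _ (hXon _ hu)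
      rw [← hσα _ hu, himg hσ χ hχ χ' hχ'] at h
      simpa [← Int.cast_smul_eq_zsmul ℂ] using h
    have v2 : (d η' : ℂ) * τ η 1 - (d η : ℂ) * τ η' 1 = 0 := by
      have h := hα1 _ (hYon _ hw)
      rw [← hτα _ hw, himg hτ η hη η' hη'] at h
      simpa [← Int.cast_smul_eq_zsmul ℂ] using h
    rw [hb, hb', Pi.smul_apply, Pi.smul_apply, smul_eq_mul, smul_eq_mul] at v2
    have ha1 : σ χ 1 ≠ 0 := by
      rcases hpm hσ hXS χ hχ with h | h
      · exact Cfsg.Agent.Char.IsIrr.one_ne_zero h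
      · exact fun e => Cfsg.Agent.Char.IsIrr.one_ne_zero h (by rw [Pi.neg_apply, e, neg_zero])
    have key : ((d η' : ℂ) * (d χ : ℂ) * e - (d η : ℂ) * e' * (d χ' : ℂ)) * σ χ 1 = 0 := by
      linear_combination (d χ : ℂ) * v2 - (d η : ℂ) * e' * v1
    have key' := (mul_eq_zero.1 key).resolve_right ha1
    have hee : e' = -e := by
      rcases he with rfl | rfl <;> rcases he' with rfl | rfl <;> try norm_num
      all_goals
        exfalso
        have h : (((d χ' * d η' + d χ * d η : ℕ)) : ℂ) = 0 := by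
          push_cast
          first
            | linear_combination hzero
            | linear_combination -hzero
        rw [Nat.cast_eq_zero] at h
        have := Nat.mul_pos (hdpos χ' (hXS hχ')) (hdpos η' (hYS hη'))
        omega
    rw [hee] at key'
    have h : (((d η' * d χ + d η * d χ' : ℕ)) : ℂ) * e = 0 := by push_cast; linear_combination key'
    rw [mul_eq_zero, Nat.cast_eq_zero] at h
    have h' := h.resolve_right he0
    have := Nat.mul_pos (hdpos η' (hYS hη')) (hdpos χ (hXS hχ))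
    omega
  refine ⟨horth, ?_⟩
  rintro ⟨χ₀, hχ₀, η₀, hη₀, hlink⟩
  have hσ0 : ∀ f ∈ zspan X, ∀ g ∈ zspan Y, classInner (σ f) (τ g) = 0 := by
    intro f hf g hg
    induction hf using Submodule.span_induction with
    | mem u hu =>
      induction hg using Submodule.span_induction with
      | mem v hv => exact horth u hu v hv
      | zero =>
        have h0 := hτ.2.1 η₀ (Submodule.subset_span hη₀) 0
        rw [zero_smul, zero_smul] at h0
        rw [h0, Cfsg.Agent.Char.classInner_zero_right]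
      | add x y hx hy ix iy => rw [hτ.1 x hx y hy, Cfsg.Agent.Char.classInner_add_right, ix, iy, add_zero]
      | smul c x hx ix => rw [hτ.2.1 x hx c, ← Int.cast_smul_eq_zsmul ℂ, Cfsg.Agent.Char.classInner_smul_right, ix, mul_zero]
    | zero =>
      have h0 := hσ.2.1 χ₀ (Submodule.subset_span hχ₀) 0
      rw [zero_smul, zero_smul] at h0
      rw [h0, Cfsg.Agent.Char.classInner_zero_left]
    | add x y hx hy ix iy => rw [hσ.1 x hx y hy, Cfsg.Agent.Char.classInner_add_left, ix, iy, add_zero]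
    | smul c x hx ix => rw [hσ.2.1 x hx c, ← Int.cast_smul_eq_zsmul ℂ, Cfsg.Agent.Char.classInner_smul_left, ix, mul_zero]
  have hperp : ∀ f ∈ zspan X, ∀ g ∈ zspan Y, classInner f g = 0 := by
    intro f hf g hg
    induction hf using Submodule.span_induction with
    | mem u hu =>
      induction hg using Submodule.span_induction with
      | mem v hv => exact hXYS u hu v hv
      | zero => exact Cfsg.Agent.Char.classInner_zero_right u
      | add x y _ _ ix iy => rw [Cfsg.Agent.Char.classInner_add_right, ix, iy, add_zero]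
      | smul c x _ ix => rw [← Int.cast_smul_eq_zsmul ℂ, Cfsg.Agent.Char.classInner_smul_right, ix, mul_zero]
    | zero => exact Cfsg.Agent.Char.classInner_zero_left g
    | add x y _ _ ix iy => rw [Cfsg.Agent.Char.classInner_add_left, ix, iy, add_zero]
    | smul c x _ ix => rw [← Int.cast_smul_eq_zsmul ℂ, Cfsg.Agent.Char.classInner_smul_left, ix, mul_zero]
  have hex : ∀ f ∈ zspan (X ∪ Y), ∃ u, u ∈ zspan X ∧ f - u ∈ zspan Y := by
    intro f hf
    have hf' : f ∈ Submodule.span ℤ (X ∪ Y) := hf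
    rw [Submodule.span_union, Submodule.mem_sup] at hf'
    obtain ⟨u, hu, v, hv, rfl⟩ := hf'
    exact ⟨u, hu, by rw [add_sub_cancel_left]; exact hv⟩
  choose! px hpx hpy using hex
  have puniq : ∀ {f u : N → ℂ}, f ∈ zspan (X ∪ Y) → u ∈ zspan X → f - u ∈ zspan Y → px f = u := by
    intro f u hf hu hv
    have h1 : px f - u ∈ zspan X := Submodule.sub_mem _ (hpx f hf) hu
    have h2 : px f - u ∈ zspan Y := by
      have := Submodule.sub_mem (Submodule.span ℤ Y) hv (hpy f hf)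
      rwa [sub_sub_sub_cancel_left] at this
    exact sub_eq_zero.1 ((Cfsg.Agent.Char.classInner_self_eq_zero _).1 (hperp _ h1 _ h2))
  let ρ : (N → ℂ) → (G → ℂ) := fun f => σ (px f) + τ (f - px f)
  obtain ⟨a₀, ha₀, b₀, hb₀, hab₀⟩ := hX2
  refine ⟨⟨cb a₀ b₀, hon (Submodule.span_mono Set.subset_union_left (hcb hXS a₀ ha₀ b₀ hb₀).1)
    ((hcb hXS a₀ ha₀ b₀ hb₀).2 1 (by simp)), fun h0 => ?_⟩, ρ, ⟨fun f hf g hg => ?_, fun f hf n => ?_,
    fun f hf g hg => ?_, fun f hf => ?_⟩, fun f hf => ?_⟩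
  · have := congrArg (fun f => classInner f a₀) h0
    simp only [cb, ← Int.cast_smul_eq_zsmul ℂ, Cfsg.Agent.Char.classInner_sub_left,
      Cfsg.Agent.Char.classInner_smul_left, Cfsg.Agent.Char.classInner_zero_left,
      Cfsg.Agent.Char.classInner_self_irr (hirr a₀ (hXS ha₀)),
      Cfsg.Agent.Char.classInner_irr_ne (hirr b₀ (hXS hb₀)) (hirr a₀ (hXS ha₀)) (Ne.symm hab₀)] at this
    simp at this
    exact (hdpos b₀ (hXS hb₀)).ne' this
  · simp only [ρ]
    rw [puniq (u := px f + px g) (Submodule.add_mem _ hf hg) (Submodule.add_mem _ (hpx f hf) (hpx g hg))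
      (by rw [add_sub_add_comm]; exact Submodule.add_mem _ (hpy f hf) (hpy g hg)),
      hσ.1 _ (hpx f hf) _ (hpx g hg), add_sub_add_comm, hτ.1 _ (hpy f hf) _ (hpy g hg)]
    abel
  · simp only [ρ]
    rw [puniq (u := n • px f) (Submodule.smul_mem _ _ hf) (Submodule.smul_mem _ _ (hpx f hf))
      (by rw [← smul_sub]; exact Submodule.smul_mem _ _ (hpy f hf)),
      hσ.2.1 _ (hpx f hf), ← smul_sub, hτ.2.1 _ (hpy f hf), smul_add]
  · simp only [ρ]
    have w1 := hσ0 _ (hpx f hf) _ (hpy g hg)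
    have w2 : classInner (τ (f - px f)) (σ (px g)) = 0 := by
      rw [← Cfsg.Agent.Char.classInner_conj_symm, hσ0 _ (hpx g hg) _ (hpy f hf), map_zero]
    have w3 := hperp _ (hpx f hf) _ (hpy g hg)
    have w4 : classInner (f - px f) (px g) = 0 := by
      rw [← Cfsg.Agent.Char.classInner_conj_symm, hperp _ (hpx g hg) _ (hpy f hf), map_zero]
    have q1 := hσ.2.2.1 _ (hpx f hf) _ (hpx g hg)
    have q2 := hτ.2.2.1 _ (hpy f hf) _ (hpy g hg)
    conv_rhs => rw [← add_sub_cancel (px f) f, ← add_sub_cancel (px g) g]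
    simp only [Cfsg.Agent.Char.classInner_add_left, Cfsg.Agent.Char.classInner_add_right, w1, w2, w3, w4, q1, q2]
  · exact Cfsg.Agent.Char.IsGenChar.add (hσ.2.2.2 _ (hpx f hf)) (hτ.2.2.2 _ (hpy f hf))
  · have hf1 : f 1 = 0 := hf.2 1 (by simp)
    set u := px f with hu
    set v := f - u with hv
    have hu' := hpx f hf.1
    have hv' := hpy f hf.1
    obtain ⟨z, hz⟩ := hint hXS u hu'
    have hz' : v 1 = -(z : ℂ) := by rw [hv, Pi.sub_apply, hf1, hz, zero_sub]
    have hsubU : ∀ {h : N → ℂ}, h ∈ zspan (X ∪ Y) → h ∈ zspan S := fun h =>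
      Submodule.span_mono (Set.union_subset hXS hYS) h
    set p : ℤ := (d χ₀ : ℤ) with hp
    set q : ℤ := (d η₀ : ℤ) with hq
    set A := p • u - z • χ₀ with hA
    set B := q • v + z • η₀ with hB
    set C := p • η₀ - q • χ₀ with hC
    have hA' : A ∈ zspanOn X {1}ᶜ := hon
      (Submodule.sub_mem _ (Submodule.smul_mem _ _ hu') (Submodule.smul_mem _ _ (Submodule.subset_span hχ₀)))
      (by simp only [hA, ← Int.cast_smul_eq_zsmul ℂ, Pi.sub_apply, Pi.smul_apply, smul_eq_mul, hz, hd χ₀ (hXS hχ₀), hp]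
          push_cast; ring)
    have hB' : B ∈ zspanOn Y {1}ᶜ := hon
      (Submodule.add_mem _ (Submodule.smul_mem _ _ hv') (Submodule.smul_mem _ _ (Submodule.subset_span hη₀)))
      (by simp only [hB, ← Int.cast_smul_eq_zsmul ℂ, Pi.add_apply, Pi.smul_apply, smul_eq_mul, hz', hd η₀ (hYS hη₀), hq]
          push_cast; ring)
    have hC' : C ∈ zspanOn S {1}ᶜ := hon
      (Submodule.sub_mem _ (Submodule.smul_mem _ _ (Submodule.subset_span (hYS hη₀)))
        (Submodule.smul_mem _ _ (Submodule.subset_span (hXS hχ₀))))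
      (by simp only [hC, ← Int.cast_smul_eq_zsmul ℂ, Pi.sub_apply, Pi.smul_apply, smul_eq_mul, hd χ₀ (hXS hχ₀), hd η₀ (hYS hη₀), hp, hq]
          push_cast; ring)
    have hαC : α C = p • τ η₀ - q • σ χ₀ := by
      rw [hd χ₀ (hXS hχ₀), hd η₀ (hYS hη₀)] at hlink
      simp only [hC, hp, hq, ← Int.cast_smul_eq_zsmul ℂ, Int.cast_natCast]
      exact hlink
    have hfS : f ∈ zspanOn S {1}ᶜ := hon (hsubU hf.1) hf1
    have hsum : (p * q) • f = (q • A + p • B) + (-z) • C := by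
      rw [show f = u + v from (add_sub_cancel u f).symm, hA, hB, hC]
      module
    have hqA : q • A ∈ zspanOn S {1}ᶜ := hon (Submodule.smul_mem _ _ (hXon _ hA').1)
      (by rw [Pi.smul_apply, (hXon _ hA').2 1 (by simp), smul_zero])
    have hpB : p • B ∈ zspanOn S {1}ᶜ := hon (Submodule.smul_mem _ _ (hYon _ hB').1)
      (by rw [Pi.smul_apply, (hYon _ hB').2 1 (by simp), smul_zero])
    have hAB : q • A + p • B ∈ zspanOn S {1}ᶜ := hon (Submodule.add_mem _ hqA.1 hpB.1)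
      (by rw [Pi.add_apply, hqA.2 1 (by simp), hpB.2 1 (by simp), add_zero])
    have hzC : (-z) • C ∈ zspanOn S {1}ᶜ := hon (Submodule.smul_mem _ _ hC'.1)
      (by rw [Pi.smul_apply, hC'.2 1 (by simp), smul_zero])
    have h := hα.2.1 f hfS (p * q)
    rw [hsum, hα.1 _ hAB _ hzC, hα.1 _ hqA _ hpB, hα.2.1 _ (hXon _ hA'), hα.2.1 _ (hYon _ hB'),
      hα.2.1 _ hC', ← hσα _ hA', ← hτα _ hB', hαC, hA, hB, sub_eq_add_neg, ← neg_smul z χ₀,
      hσ.1 _ (Submodule.smul_mem _ _ hu') _ (Submodule.smul_mem _ _ (Submodule.subset_span hχ₀)),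
      hσ.2.1 _ hu', hσ.2.1 _ (Submodule.subset_span hχ₀),
      hτ.1 _ (Submodule.smul_mem _ _ hv') _ (Submodule.smul_mem _ _ (Submodule.subset_span hη₀)),
      hτ.2.1 _ hv', hτ.2.1 _ (Submodule.subset_span hη₀)] at h
    have hpq : ((p * q : ℤ) : ℂ) ≠ 0 := by
      have h1 := hdpos χ₀ (hXS hχ₀)
      have h2 := hdpos η₀ (hYS hη₀)
      rw [Int.cast_ne_zero]
      exact mul_ne_zero (by omega) (by omega)
    funext g
    refine mul_left_cancel₀ hpq ?_
    have hg := congrFun h g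
    simp only [ρ, ← hu, ← hv, ← Int.cast_smul_eq_zsmul ℂ, Pi.add_apply, Pi.sub_apply, Pi.smul_apply, smul_eq_mul, Pi.neg_apply] at hg ⊢
    push_cast at hg ⊢
    linear_combination hg

end Cfsg.Agent.S1531
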