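import Cfsg.Statements.S1532
import Cfsg.Agent.Lib.Char.FeitSibley
import Cfsg.Agent.Lib.Char.TIStar

set_option autoImplicit false
open Cfsg

namespace Cfsg.Agent.S1532
open Cfsg.Agent.Char Cfsg.Agent.Char.KerSets Cfsg.Agent.Char.FrobTI
open scoped commutatorElement

/-- Let G be a finite group, p an odd prime and P a Sylow p-subgroup that is non-abelian, whose underlying set is a TI-subset of G, with P properly contained in its set normaliser N and C_G(x) ≤ P for every non-identity x ∈ P. Let Z be a nontrivial subgroup of the centre of P normalised by N. Then the set of irreducible characters χ of N with χ z ≠ χ 1 for some z ∈ Z is coherent for the map induced by induction from N to G. -/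
theorem result {G : Type*} [Group G] [Fintype G] (p : ℕ) [Fact p.Prime] (hp : p ≠ 2) (P : Sylow p G) (hna : ¬ IsMulCommutative (P : Subgroup G)) (hTI : Cfsg.IsTISubset ((P : Subgroup G) : Set G)) (hlt : (P : Subgroup G) < Subgroup.normalizer ((P : Subgroup G) : Set G)) (hC : ∀ k ∈ (P : Subgroup G), k ≠ 1 → Subgroup.centralizer ({k} : Set G) ≤ (P : Subgroup G)) [Fintype ↥(Subgroup.normalizer ((P : Subgroup G) : Set G))] (Z : Subgroup G) (hZ1 : Z ≠ ⊥) (hZP : ∀ z ∈ Z, z ∈ (P : Subgroup G) ∧ ∀ y ∈ (P : Subgroup G), z * y = y * z) (hZn : ∀ x ∈ Subgroup.normalizer ((P : Subgroup G) : Set G), ∀ z ∈ Z, x * z * x⁻¹ ∈ Z) : Cfsg.IsCoherent {χ : ↥(Subgroup.normalizer ((P : Subgroup G) : Set G)) → ℂ | Cfsg.IsIrrCharacter ↥(Subgroup.normalizer ((P : Subgroup G) : Set G)) χ ∧ ∃ z : ↥(Subgroup.normalizer ((P : Subgroup G) : Set G)), (z : G) ∈ Z ∧ χ z ≠ χ 1} {1}ᶜ (fun α => Cfsg.indFun (Subgroup.normalizer ((P : Subgroup G) : Set G)) α) := by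
  classical
  set Z' := Z.subgroupOf (Subgroup.normalizer ((P : Subgroup G) : Set G)) with hZ'
  have hS : {χ : ↥(Subgroup.normalizer ((P : Subgroup G) : Set G)) → ℂ | Cfsg.IsIrrCharacter ↥(Subgroup.normalizer ((P : Subgroup G) : Set G)) χ ∧ ∃ z : ↥(Subgroup.normalizer ((P : Subgroup G) : Set G)), (z : G) ∈ Z ∧ χ z ≠ χ 1} = ↑(TT Z' ⊥) := by
    rw [TT_bot_eq]
    ext f
    exact Iff.rfl
  rw [hS]
  have hC' := cent_KN (P : Subgroup G) hC
  have hZP' : Z ≤ (P : Subgroup G) := fun z hz => (hZP z hz).1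
  haveI : Z'.Normal := ⟨fun z hz g => Subgroup.mem_subgroupOf.2 (hZn g g.2 z (Subgroup.mem_subgroupOf.1 hz))⟩
  have hequ := Subgroup.subgroupOfEquivOfLe (Subgroup.le_normalizer (H := (P : Subgroup G)))
  have hpK : IsPGroup p (KN (P : Subgroup G)) := P.isPGroup'.of_equiv hequ.symm
  obtain ⟨m, hm⟩ := IsPGroup.iff_card.1 hpK
  have hodde : Odd (KN (P : Subgroup G)).index := Nat.not_even_iff_odd.1 fun he =>
    hna ⟨⟨fun a b => Subtype.ext (congrArg (fun x : ↥(Subgroup.normalizer ((P : Subgroup G) : Set G)) => (x : G)) (comm_of_even (KN (P : Subgroup G)) hC'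
      (even_iff_two_dvd.1 he) ⟨a, Subgroup.le_normalizer a.2⟩ (Subgroup.mem_subgroupOf.2 a.2)
      ⟨b, Subgroup.le_normalizer b.2⟩ (Subgroup.mem_subgroupOf.2 b.2)))⟩⟩
  refine central_coherent (KN (P : Subgroup G)) hC' ?_ (Fact.out : p.Prime) hpK
    (fun z hz => Subgroup.mem_subgroupOf.2 (hZP' (Subgroup.mem_subgroupOf.1 hz))) (fun h => ?_) ?_
    (indHyp (P : Subgroup G) hTI hlt hC _ fun χ hχ => ⟨(mem_TT.1 hχ).1, (mem_TT.1 hχ).2.1⟩)
  · rw [← (KN (P : Subgroup G)).card_mul_index, hm]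
    exact Odd.mul ((Fact.out : p.Prime).odd_of_ne_two hp).pow hodde
  · exact hZ1 (disjoint_self.1 (Disjoint.mono_right (hZP'.trans Subgroup.le_normalizer)
      (Subgroup.subgroupOf_eq_bot.1 h)))
  · intro z hz k hk
    have h := (hZP z (Subgroup.mem_subgroupOf.1 hz)).2 k (Subgroup.mem_subgroupOf.1 hk)
    apply Subtype.ext
    simp only [Subgroup.coe_mul, Subgroup.coe_inv, OneMemClass.coe_one]
    rw [h]; group

end Cfsg.Agent.S1532
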