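import Cfsg.Statements.S1533
import Cfsg.Agent.Lib.Char.FeitSibley
import Cfsg.Agent.Lib.Char.TIStar

set_option autoImplicit false
open Cfsg

namespace Cfsg.Agent.S1533
open Cfsg.Agent.Char Cfsg.Agent.Char.KerSets Cfsg.Agent.Char.FrobTI
open scoped commutatorElement

/-- Let G be a finite group, p an odd prime, and P a nontrivial Sylow p-subgroup whose underlying set is a TI-subset of G, with P properly contained in its set normaliser N and C_G(x) ≤ P for every non-identity x ∈ P. Let S be the set of irreducible characters χ of N with χ x ≠ χ 1 for some x ∈ P. Then either S has exactly one member, P is elementary abelian and Nat.card P = [N:P] + 1; or (S, N minus 1, induction to G) is coherent. -/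
theorem result {G : Type*} [Group G] [Fintype G] (p : ℕ) [Fact p.Prime] (hp : p ≠ 2) (P : Sylow p G) (hP1 : (P : Subgroup G) ≠ ⊥) (hTI : Cfsg.IsTISubset ((P : Subgroup G) : Set G)) (hlt : (P : Subgroup G) < Subgroup.normalizer ((P : Subgroup G) : Set G)) (hC : ∀ k ∈ (P : Subgroup G), k ≠ 1 → Subgroup.centralizer ({k} : Set G) ≤ (P : Subgroup G)) [Fintype ↥(Subgroup.normalizer ((P : Subgroup G) : Set G))] : (Nat.card {χ : ↥(Subgroup.normalizer ((P : Subgroup G) : Set G)) → ℂ // Cfsg.IsIrrCharacter ↥(Subgroup.normalizer ((P : Subgroup G) : Set G)) χ ∧ ∃ x : ↥(Subgroup.normalizer ((P : Subgroup G) : Set G)), (x : G) ∈ (P : Subgroup G) ∧ χ x ≠ χ 1} = 1 ∧ Cfsg.IsElementaryAbelian p (P : Subgroup G) ∧ Nat.card (P : Subgroup G) = ((P : Subgroup G).subgroupOf (Subgroup.normalizer ((P : Subgroup G) : Set G))).index + 1) ∨ Cfsg.IsCoherent {χ : ↥(Subgroup.normalizer ((P : Subgroup G) : Set G)) → ℂ | Cfsg.IsIrrCharacter ↥(Subgroup.normalizer ((P : Subgroup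 G) : Set G)) χ ∧ ∃ x : ↥(Subgroup.normalizer ((P : Subgroup G) : Set G)), (x : G) ∈ (P : Subgroup G) ∧ χ x ≠ χ 1} {1}ᶜ (fun α => Cfsg.indFun (Subgroup.normalizer ((P : Subgroup G) : Set G)) α) := by
  classical
  have hS : {χ : ↥(Subgroup.normalizer ((P : Subgroup G) : Set G)) → ℂ | Cfsg.IsIrrCharacter ↥(Subgroup.normalizer ((P : Subgroup G) : Set G)) χ ∧ ∃ x : ↥(Subgroup.normalizer ((P : Subgroup G) : Set G)), (x : G) ∈ (P : Subgroup G) ∧ χ x ≠ χ 1} = ↑(TT (KN (P : Subgroup G)) ⊥) := by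
    rw [TT_bot_eq]
    ext f
    exact Iff.rfl
  rcases feit_sibley (P : Subgroup G) hTI hlt hC hP1 with h | ⟨h1, h2, q, hq, hqP, hab, hexp⟩ | ⟨h2, -, -⟩
  · exact Or.inr (hS ▸ h)
  · haveI := Fact.mk hq
    haveI := (Subgroup.nontrivial_iff_ne_bot _).2 hP1
    have hqp : q = p := by_contra fun hne => hP1 (disjoint_self.1 (IsPGroup.disjoint_of_ne q p hne _ _ hqP P.isPGroup'))
    subst hqp
    refine Or.inl ⟨?_, ⟨⟨⟨fun a b => Subtype.ext (hab a a.2 b b.2)⟩⟩, fun a ha => hexp a ha⟩, h2⟩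
    rw [← h1]
    exact (Nat.card_congr (Equiv.setCongr hS)).trans (Nat.card_eq_finsetCard _)
  · haveI := (Subgroup.nontrivial_iff_ne_bot _).2 hP1
    exact False.elim <| hP1 (disjoint_self.1 (IsPGroup.disjoint_of_ne p 2 hp _ _ P.isPGroup' h2))

end Cfsg.Agent.S1533
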