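import Cfsg.Statements.S1536
import Cfsg.Agent.Lib.Char.Kernel

set_option autoImplicit false
open Cfsg

namespace Cfsg.Agent.S1536

open Cfsg.Agent.Char

/-- Let H be a normal subgroup of the finite group M whose order is coprime to its index. For x ∈ M: some non-principal irreducible character of H is unchanged under h ↦ θ(x h x⁻¹) if and only if some non-identity element of H commutes with x. -/
theorem result {M : Type*} [Group M] [Finite M] (H : Subgroup M) [hN : H.Normal] (hHall : Nat.Coprime (Nat.card H) H.index) (x : M) : (∃ θ : H → ℂ, Cfsg.IsIrrCharacter H θ ∧ θ ≠ (fun _ => 1) ∧ (fun h : H => θ ⟨x * h * x⁻¹, hN.conj_mem h h.2 x⟩) = θ) ↔ ∃ h ∈ H, h ≠ 1 ∧ x * h = h * x := by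
  classical
  have hxH : x ∈ Subgroup.normalizer (H : Set M) := by
    rw [Subgroup.normalizer_eq_top]; trivial
  let φ : ConjClasses H → ConjClasses H := ConjClasses.map (conjEquivN H x).toMonoidHom
  let f : IrrCharacter H → IrrCharacter H := fun χ => ⟨conjN H x χ, IsIrr.conjN H χ.2 x⟩
  have hperm := brauer_perm f φ fun χ a a' ha => by
    have e : IsConj a' (conjEquivN H x a) := ConjClasses.mk_eq_mk_iff_isConj.mp ha
    rw [IsClass.eq_of_isConj (IsIrr.classFun χ.2) e]
    exact congrFun (conjN_eq_comp H x (χ : H → ℂ)) a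
  let one' : {χ : IrrCharacter H // f χ = χ} := ⟨⟨_, isIrr_one⟩, Subtype.ext (funext fun _ => rfl)⟩
  let cone : {C : ConjClasses H // φ C = C} :=
    ⟨ConjClasses.mk 1, congrArg ConjClasses.mk (map_one (conjEquivN H x).toMonoidHom)⟩
  constructor
  · rintro ⟨θ, hθ, hne, hfix⟩
    by_cases hz : ∃ n : ℕ, x ^ n ∈ H ∧ x ^ n ≠ 1
    · obtain ⟨n, hn, hn1⟩ := hz
      exact ⟨x ^ n, hn, hn1, (Commute.self_pow x n).eq⟩
    · push Not at hz
      have hidx : x ^ H.index ∈ H := Subgroup.pow_index_mem H x
      have hcop : Nat.Coprime (orderOf x) (Nat.card H) :=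
        Nat.Coprime.coprime_dvd_left (orderOf_dvd_of_pow_eq_one (hz _ hidx)) hHall.symm
      have : 1 < Nat.card {C : ConjClasses H // φ C = C} := by
        rw [← hperm, Finite.one_lt_card_iff_nontrivial]
        exact ⟨⟨⟨θ, hθ⟩, Subtype.ext hfix⟩, one', fun e =>
          hne (congrArg (fun z : {χ : IrrCharacter H // f χ = χ} => ((z : IrrCharacter H) : H → ℂ)) e)⟩
      rw [Finite.one_lt_card_iff_nontrivial] at this
      obtain ⟨⟨C, hC⟩, hCne⟩ := exists_ne cone
      obtain ⟨k, rfl⟩ := C.exists_rep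
      have hk1 : k ≠ 1 := fun e => hCne (by subst e; rfl)
      obtain ⟨u, hu⟩ := isConj_iff.mp (ConjClasses.mk_eq_mk_iff_isConj.mp hC :
        IsConj (conjEquivN H x k) k)
      have hu' : (u : M) * (x * k * x⁻¹) * (u : M)⁻¹ = k := by
        have := congrArg Subtype.val hu
        simpa [conjEquivN_apply] using this
      have hcomm : ((u : M) * x) * k = k * ((u : M) * x) := by
        conv_rhs => rw [← hu']
        group
      obtain ⟨y, hy, c, hc, hcx, hyc⟩ := exists_conj_centralizer_coset H x hxH hcop u u.2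
      have hcomm' : Commute (c * x) (y * k * y⁻¹) := by
        show c * x * (y * k * y⁻¹) = y * k * y⁻¹ * (c * x)
        rw [← hyc]
        calc y * ((u : M) * x) * y⁻¹ * (y * k * y⁻¹) = y * (((u : M) * x) * k) * y⁻¹ := by group
          _ = y * (k * ((u : M) * x)) * y⁻¹ := by rw [hcomm]
          _ = _ := by group
      obtain ⟨n, hn0, hn1⟩ := Nat.chineseRemainder hcop.symm 0 1
      have hpow : (c * x) ^ n = x := by
        rw [(show Commute c x from hcx).mul_pow]
        obtain ⟨m, rfl⟩ := Nat.modEq_zero_iff_dvd.mp hn0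
        have h1 : c ^ Nat.card H = 1 := by
          have := congrArg Subtype.val (pow_card_eq_one' (x := (⟨c, hc⟩ : H)))
          simp only [SubgroupClass.coe_pow, OneMemClass.coe_one] at this
          exact this
        rw [pow_mul c, h1, one_pow, one_mul]
        conv_rhs => rw [← pow_one x]
        exact pow_eq_pow_iff_modEq.mpr hn1
      refine ⟨y * k * y⁻¹, H.mul_mem (H.mul_mem hy k.2) (H.inv_mem hy), fun e => hk1 (Subtype.ext ?_),
        (hpow ▸ hcomm'.pow_left n : Commute x _).eq⟩
      exact conj_eq_one_iff.mp e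
  · rintro ⟨h, hh, hh1, hcomm⟩
    have hfix : φ (ConjClasses.mk ⟨h, hh⟩) = ConjClasses.mk ⟨h, hh⟩ := by
      refine congrArg ConjClasses.mk (Subtype.ext ?_)
      show ((conjEquivN H x ⟨h, hh⟩ : H) : M) = h
      rw [conjEquivN_apply]
      exact mul_inv_eq_iff_eq_mul.mpr hcomm
    have : 1 < Nat.card {χ : IrrCharacter H // f χ = χ} := by
      rw [hperm, Finite.one_lt_card_iff_nontrivial]
      refine ⟨⟨_, hfix⟩, cone, fun e => hh1 ?_⟩
      exact congrArg Subtype.val (isConj_one_left.mp
        (ConjClasses.mk_eq_mk_iff_isConj.mp (congrArg Subtype.val e)))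
    rw [Finite.one_lt_card_iff_nontrivial] at this
    obtain ⟨⟨⟨θ, hθ⟩, hθf⟩, hne⟩ := exists_ne one'
    exact ⟨θ, hθ, fun e => hne (Subtype.ext (Subtype.ext e)), congrArg Subtype.val hθf⟩

end Cfsg.Agent.S1536
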