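import Cfsg.Statements.S1539
import Cfsg.Agent.Lib.Transfer.Local.SupportSets
-- import your own Cfsg.Agent.* helpers here

set_option autoImplicit false
open Cfsg

namespace Cfsg.Agent.S1539

open Cfsg.Agent Cfsg.Agent.Transfer Cfsg.Agent.Transfer.Loc Cfsg.Agent.Char Subgroup
open scoped Pointwise

/-- A support relation gives an element of `A₁(S) ∩ A(T)`. -/
theorem witness {G : Type*} [Group G] [Finite G] (hG : Cfsg.IsMinSimpleOddOrder G) {S T : Subgroup G}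
    (hS : IsCoatom S) (h : Cfsg.Supports T S) :
    ∃ x ∈ Cfsg.sigmaCore S, x ≠ 1 ∧ ¬ centralizer ({x} : Set G) ≤ S ∧ centralizer ({x} : Set G) ≤ T := by
  obtain ⟨-, x, hx, hxS, hxT⟩ := h
  obtain ⟨K, U, hKU⟩ := exists_decomp_of_max hG hS
  refine ⟨x, TypeSet.core_of_not_le hG hS hKU (TypeSet.typeA0_subset hG hS hKU hx) hxS, fun e => ?_, hxS, hxT⟩
  exact (TypeSet.sets_basic hG hS (A := Cfsg.typeA0 S) (Or.inr (Or.inr rfl))).2.1 (e ▸ hx)

/-- The prime argument. -/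
theorem not_mutual {G : Type*} [Group G] [Finite G] (hG : Cfsg.IsMinSimpleOddOrder G) {S T : Subgroup G}
    (hS : IsCoatom S) (hT : IsCoatom T) (g : G) (h : Cfsg.Supports (MulAut.conj g • T) S) (k : G)
    (h' : Cfsg.Supports (MulAut.conj k • S) T) : False := by
  obtain ⟨x, hx, hx1, hxS, hxT⟩ := witness hG hS h
  obtain ⟨y, hy, hy1, hyT, hyS⟩ := witness hG hT h'
  have hT' := isCoatom_conj hG hT g
  obtain ⟨-, hτ⟩ := supported_mem_typeA hG hS hT' hx hx1 hxS hxT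
  obtain ⟨q, hq, hqd⟩ := Nat.exists_prime_and_dvd fun e => hx1 (orderOf_eq_one_iff.1 e)
  haveI := Fact.mk hq
  have hqσ : q ∈ Cfsg.sigma S := TransHyp.piCoreOf_primes (π := Cfsg.sigma S) (X := S) hq
    (hqd.trans (Subgroup.orderOf_dvd_natCard _ hx))
  have hqT : q ∣ Nat.card ↥(MulAut.conj g • T) :=
    hqd.trans (Subgroup.orderOf_dvd_natCard _ (hxT (mem_centralizer_singleton_iff.2 rfl)))
  have hy' : g * y * g⁻¹ ∈ Cfsg.sigmaCore (MulAut.conj g • T) := smul_sigmaCore hG hT g ▸ ⟨y, hy, rfl⟩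
  obtain ⟨-, hτ0⟩ := support_primes hG hT' hy' (fun e => hy1 (conj_eq_one_iff.1 e))
    (fun e => hyT ((centralizer_le_smul g).1 e)) (isCoatom_conj hG (isCoatom_conj hG hS k) g)
    ((centralizer_le_smul g).2 hyS) (sigma_smul hG (isCoatom_conj hG hS k) (sigma_smul hG hS hqσ k) g) hqT
  exact (hτ0 ▸ hτ q hq hqd :)

/-- From the tilde sets to a support. -/
theorem supports_of_tilde {G : Type*} [Group G] [Finite G] (hG : Cfsg.IsMinSimpleOddOrder G) {S T : Subgroup G}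
    (hS : IsCoatom S) (hT : IsCoatom T) (hnc : ∀ c : G, T ≠ MulAut.conj c • S)
    (h : (Cfsg.tildeOf S (Cfsg.typeA1 S) ∩ Cfsg.tildeOf T (Cfsg.typeA T)).Nonempty) :
    ∃ g : G, Cfsg.Supports (MulAut.conj g • T) S := by
  obtain ⟨w, ⟨a, ⟨ha, ha1⟩, r, hr, y, rfl⟩, b, hb, s, hs, z, e⟩ := h
  rw [typeCore_eq hG hS] at ha
  set c := z⁻¹ * y with hc
  have hS' := isCoatom_conj hG hS c
  have ha' : c * a * c⁻¹ ∈ Cfsg.sigmaCore (MulAut.conj c • S) := smul_sigmaCore hG hS c ▸ ⟨a, ha, rfl⟩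
  have ha1' : c * a * c⁻¹ ≠ 1 := fun h' => ha1 (conj_eq_one_iff.1 h')
  have hr' : InR (MulAut.conj c • S) (c * a * c⁻¹) (c * r * c⁻¹) :=
    ((supportR_iff hG hS ha ha1).1 hr).conj hG hS c
  have e' : c * a * c⁻¹ * (c * r * c⁻¹) = b * s := by
    rw [show c * a * c⁻¹ * (c * r * c⁻¹) = z⁻¹ * (y * (a * r) * y⁻¹) * z by rw [hc]; group, e]; group
  have hnc' : ∀ d : G, T ≠ MulAut.conj d • MulAut.conj c • S := fun d => by
    rw [Grp.conj_smul_conj_smul]; exact hnc _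
  have hb1 : b ≠ 1 := fun h' => (TypeSet.sets_basic hG hT (A := Cfsg.typeA T) (Or.inr (Or.inl rfl))).2.1 (h' ▸ hb)
  by_cases hbT : b ∈ Cfsg.sigmaCore T
  · exact (tilde_disjoint hG hS' hT hnc' ha' hbT ha1' hb1 hr' ((supportR_iff hG hT hbT hb1).1 hs) e').elim
  obtain ⟨K, U, hKU⟩ := exists_decomp_of_max hG hT
  have hs1 : s = 1 := by
    rcases TypeSet.supportR_cases hG hT hKU (TypeSet.typeA_subset hG hT hKU hb) hb1 with ⟨-, h1⟩ | ⟨h1, -⟩
    · rwa [h1, mem_bot] at hs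
    · exact absurd h1 hbT
  obtain ⟨v, u, hvu, -, -, -, hv1, hvT, hC, huniq, -, L, hL, hvL, hR⟩ := typeA_outside hG hT hb hbT
  rw [hs1, mul_one, ← hvu] at e'
  obtain ⟨d, hd⟩ : ∃ d : G, L = MulAut.conj d • MulAut.conj c • S := by
    by_contra hh
    exact tilde_disjoint hG hS' hL (not_exists.1 hh) ha' hvL ha1' hv1 hr' hR e'
  rw [Grp.conj_smul_conj_smul] at hd
  set f := d * c
  subst hd
  have hvS : f⁻¹ * v * f⁻¹⁻¹ ∈ Cfsg.sigmaCore S := by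
    rw [← smul_sigmaCore hG hS] at hvL
    obtain ⟨x, hx, hxv⟩ := hvL
    have hxv' : f * x * f⁻¹ = v := hxv
    rwa [← hxv', show f⁻¹ * (f * x * f⁻¹) * f⁻¹⁻¹ = x by group]
  refine ⟨f⁻¹, isCoatom_conj hG hT f⁻¹, f⁻¹ * v * f⁻¹⁻¹,
    Or.inl (TypeSet.typeA1_subset_typeA hG hS (mem_typeA1_of_core hG hS hvS fun h' => hv1 (conj_eq_one_iff.1 h'))),
    fun h' => hvT ?_, (centralizer_le_smul f⁻¹).2 hC⟩
  have h2 : centralizer ({v} : Set G) ≤ MulAut.conj f • S := by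
    have := (centralizer_le_smul f).2 h'
    rwa [show f * (f⁻¹ * v * f⁻¹⁻¹) * f⁻¹ = v by group] at this
  rwa [huniq _ hL h2] at hvL

/-- Let G be a minimal simple group of odd order and S, T maximal subgroups not conjugate in G. Then: T supports S if and only if A₁(S) ∩ A(T) is nonempty, and for every x ∈ A₁(S) ∩ A(T) the centraliser of x is contained in T but not in S; some conjugate of T supports S if and only if Ã₁(S) ∩ Ã(T) is nonempty; and at least one of Ã₁(S) ∩ Ã(T), Ã₁(T) ∩ Ã(S) is empty. -/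
theorem result {G : Type*} [Group G] [Finite G] (hG : Cfsg.IsMinSimpleOddOrder G) (S T : Subgroup G) (hS : IsCoatom S) (hT : IsCoatom T) (hnc : ∀ g : G, T.map (MulAut.conj g).toMonoidHom ≠ S) : (Cfsg.Supports T S ↔ (Cfsg.typeA1 S ∩ Cfsg.typeA T).Nonempty) ∧ (∀ x ∈ Cfsg.typeA1 S ∩ Cfsg.typeA T, ¬ Subgroup.centralizer ({x} : Set G) ≤ S ∧ Subgroup.centralizer ({x} : Set G) ≤ T) ∧ ((∃ g : G, Cfsg.Supports (T.map (MulAut.conj g).toMonoidHom) S) ↔ (Cfsg.tildeOf S (Cfsg.typeA1 S) ∩ Cfsg.tildeOf T (Cfsg.typeA T)).Nonempty) ∧ (Cfsg.tildeOf S (Cfsg.typeA1 S) ∩ Cfsg.tildeOf T (Cfsg.typeA T) = ∅ ∨ Cfsg.tildeOf T (Cfsg.typeA1 T) ∩ Cfsg.tildeOf S (Cfsg.typeA S) = ∅) := by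
  have hncT : ∀ c : G, T ≠ MulAut.conj c • S := fun c e => hnc c⁻¹ (by
    rw [Grp.map_conj_eq_smul, e, Grp.conj_smul_conj_smul, inv_mul_cancel, map_one, one_smul])
  have hncS : ∀ c : G, S ≠ MulAut.conj c • T := fun c e => hnc c (by rw [Grp.map_conj_eq_smul, e])
  have h2 : ∀ x ∈ Cfsg.typeA1 S ∩ Cfsg.typeA T, ¬ Subgroup.centralizer ({x} : Set G) ≤ S ∧
      Subgroup.centralizer ({x} : Set G) ≤ T := fun x hx =>
    typeA_meet hG hS hT hncS ((typeCore_eq hG hS).le hx.1.1) hx.1.2 hx.2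
  have h3 : (∃ g : G, Cfsg.Supports (T.map (MulAut.conj g).toMonoidHom) S) ↔
      (Cfsg.tildeOf S (Cfsg.typeA1 S) ∩ Cfsg.tildeOf T (Cfsg.typeA T)).Nonempty := by
    simp only [Grp.map_conj_eq_smul]
    refine ⟨fun ⟨g, hg⟩ => ?_, supports_of_tilde hG hS hT hncT⟩
    obtain ⟨x, hx, hx1, hxS, hxT⟩ := witness hG hS hg
    refine ⟨x, ⟨x, mem_typeA1_of_core hG hS hx hx1, 1, one_mem _, 1, by group⟩, g⁻¹ * x * g⁻¹⁻¹, ?_, 1, one_mem _,
      g, by group⟩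
    refine (supported_mem_typeA hG (isCoatom_conj hG hS g⁻¹) hT (smul_sigmaCore hG hS g⁻¹ ▸ ⟨x, hx, rfl⟩)
      (fun e => hx1 (conj_eq_one_iff.1 e)) (fun e => hxS ((centralizer_le_smul g⁻¹).1 e)) ?_).1
    have := (centralizer_le_smul g⁻¹).2 hxT
    rwa [Grp.conj_smul_conj_smul, inv_mul_cancel, map_one, one_smul] at this
  refine ⟨⟨fun h => ?_, fun ⟨x, hx⟩ => ⟨hT, x, Or.inl (TypeSet.typeA1_subset_typeA hG hS hx.1), h2 x hx⟩⟩,
    h2, h3, ?_⟩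
  · obtain ⟨x, hx, hx1, hxS, hxT⟩ := witness hG hS h
    exact ⟨x, mem_typeA1_of_core hG hS hx hx1, (supported_mem_typeA hG hS hT hx hx1 hxS hxT).1⟩
  · by_contra hcon
    obtain ⟨h4, h5⟩ := not_or.1 hcon
    obtain ⟨g, hg⟩ := supports_of_tilde hG hS hT hncT (Set.nonempty_iff_ne_empty.2 h4)
    obtain ⟨k, hk⟩ := supports_of_tilde hG hT hS hncS (Set.nonempty_iff_ne_empty.2 h5)
    exact not_mutual hG hS hT g hg k hk

end Cfsg.Agent.S1539
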