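import Cfsg.Statements.S1546
import Cfsg.Agent.Lib.Char.Complete

set_option autoImplicit false
open Cfsg

namespace Cfsg.Agent.S1546

open Cfsg.Agent.Char

/-- Let p and q be odd primes and N = (p ^ q − 1) / (p − 1) = 1 + p + ⋯ + p^(q−1). Then N is odd; if p ≡ 1 (mod q) then q ∣ N; and if p is not ≡ 1 (mod q) then N is coprime to p − 1 and every divisor of N is ≡ 1 (mod q). -/
theorem result (p q : ℕ) (hp : p.Prime) (hq : q.Prime) (hp2 : p ≠ 2) (hq2 : q ≠ 2) : Odd ((p ^ q - 1) / (p - 1)) ∧ (p % q = 1 → q ∣ (p ^ q - 1) / (p - 1)) ∧ (p % q ≠ 1 → Nat.Coprime ((p ^ q - 1) / (p - 1)) (p - 1) ∧ ∀ x : ℕ, x ∣ (p ^ q - 1) / (p - 1) → x % q = 1) := by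
  have hdiv : (p ^ q - 1) / (p - 1) = ∑ i ∈ Finset.range q, p ^ i :=
    (Nat.geomSum_eq hp.two_le q).symm
  rw [hdiv]
  have hq3 : 3 ≤ q := by have := hq.two_le; omega
  set N := ∑ i ∈ Finset.range q, p ^ i with hN
  have hmod : p % q = 1 → q ∣ N := by
    intro h
    rw [Nat.dvd_iff_mod_eq_zero, hN, Finset.sum_nat_mod]
    simp [Nat.pow_mod, h, Nat.one_mod_eq_one.mpr hq.ne_one]
  refine ⟨?_, hmod, fun hne => ?_⟩
  · rw [Nat.odd_iff, hN, Finset.sum_nat_mod]
    have hp' : p % 2 = 1 := Nat.odd_iff.mp (hp.odd_of_ne_two hp2)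
    simp only [Nat.pow_mod, hp', one_pow, Nat.one_mod, Finset.sum_const, Finset.card_range,
      smul_eq_mul, mul_one]
    exact Nat.odd_iff.mp (hq.odd_of_ne_two hq2)
  have key : ∀ r : ℕ, r.Prime → r ∣ N → r % q = 1 := by
    intro r hr hrN
    have : Fact r.Prime := ⟨hr⟩
    have h0 : ((N : ℕ) : ZMod r) = 0 := (ZMod.natCast_eq_zero_iff N r).mpr hrN
    rw [hN, Nat.cast_sum] at h0
    push_cast at h0
    have hpq : (p : ZMod r) ^ q = 1 := by
      have h := geom_sum_mul (p : ZMod r) q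
      rw [h0, zero_mul] at h
      exact (sub_eq_zero.mp h.symm)
    have : Fact q.Prime := ⟨hq⟩
    have hord : orderOf (p : ZMod r) = q := by
      refine orderOf_eq_prime hpq fun hp1 => hne ?_
      rw [hp1] at h0
      simp only [one_pow, Finset.sum_const, Finset.card_range, nsmul_eq_mul, mul_one] at h0
      have hrq : r = q :=
        (Nat.prime_dvd_prime_iff_eq hr hq).mp ((ZMod.natCast_eq_zero_iff q r).mp h0)
      subst hrq
      have h : ((p : ℕ) : ZMod r) = ((1 : ℕ) : ZMod r) := by simpa using hp1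
      rw [ZMod.natCast_eq_natCast_iff'] at h
      rwa [Nat.one_mod_eq_one.mpr hr.ne_one] at h
    have hp0 : (p : ZMod r) ≠ 0 := fun h => by
      rw [h, zero_pow hq.ne_zero] at hpq; exact zero_ne_one hpq
    have hd : q ∣ r - 1 := hord ▸ ZMod.orderOf_dvd_card_sub_one hp0
    obtain ⟨k, hk⟩ := hd
    have : r = q * k + 1 := by have := hr.two_le; omega
    rw [this, Nat.mul_add_mod, Nat.one_mod_eq_one.mpr hq.ne_one]
  have hN0 : N ≠ 0 := by
    have : p ^ 0 ≤ N := Finset.single_le_sum (f := fun i => p ^ i) (fun _ _ => Nat.zero_le _)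
      (Finset.mem_range.mpr hq.pos)
    simp at this
    omega
  have hall : ∀ x : ℕ, x ∣ N → x % q = 1 := by
    intro x
    induction x using induction_on_primes with
    | zero => intro h; exact absurd (zero_dvd_iff.mp h) hN0
    | one => intro _; exact Nat.one_mod_eq_one.mpr hq.ne_one
    | prime_mul r a hr ih =>
      intro h
      rw [Nat.mul_mod, key r hr (dvd_of_mul_right_dvd h), ih (dvd_of_mul_left_dvd h), one_mul,
        Nat.one_mod_eq_one.mpr hq.ne_one]
  refine ⟨Nat.coprime_of_dvd fun r hr hrN hrp => hne ?_, hall⟩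
  have : Fact r.Prime := ⟨hr⟩
  have hp1 : (p : ZMod r) = 1 := by
    have := (ZMod.natCast_eq_zero_iff (p - 1) r).mpr hrp
    rwa [Nat.cast_sub hp.one_le, Nat.cast_one, sub_eq_zero] at this
  have h0 : ((N : ℕ) : ZMod r) = 0 := (ZMod.natCast_eq_zero_iff N r).mpr hrN
  rw [hN, Nat.cast_sum] at h0
  push_cast at h0
  rw [hp1] at h0
  simp only [one_pow, Finset.sum_const, Finset.card_range, nsmul_eq_mul, mul_one] at h0
  have hrq : r = q := (Nat.prime_dvd_prime_iff_eq hr hq).mp ((ZMod.natCast_eq_zero_iff q r).mp h0)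
  have := key r hr hrN
  rw [hrq, Nat.mod_self] at this
  exact absurd this zero_ne_one

end Cfsg.Agent.S1546
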