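import Cfsg.Statements.S1551
import Cfsg.Agent.Lib.Spor.Golay.CensusElem
import Cfsg.Agent.Lib.Spor.Golay.CensusSextKer

set_option autoImplicit false
open scoped Pointwise
open Cfsg

namespace Cfsg.Agent.S1551

open Cfsg.Agent.Spor.Golay Cfsg.Agent.Spor.Golay.Census

theorem six : fixOk [[15], [5264], [622848], [3416064], [4196928], [8536096]] sk5SG = true := by decide +kernel

theorem sextN_elem : elemOk sextNG sextNAll = true := by decide +kernel

theorem sextN_size : sizeOk sextNG sextNT sextNP sextNL = true ∧ sizeProd sextNL = sextNAll.length ∧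
    fixOk [[15, 5264, 622848, 3416064, 4196928, 8536096]] sextNG = true := by decide +kernel

theorem sextN_conj : conjOk sextSG sextNG sextNAll = true := by decide +kernel

theorem le_sext : Fx [[4196928], [3416064], [622848], [5264], [15], [15, 5264, 622848, 3416064, 4196928, 8536096]] ≤ Fx [[15, 5264, 622848, 3416064, 4196928, 8536096]] := fun k hk =>
  mem_Fx_one.mpr ⟨(mem_Fx.mp hk).1, (mem_Fx.mp hk).2 _ (by simp)⟩

theorem fixed_iff : ∀ k ∈ Fx [[15, 5264, 622848, 3416064, 4196928, 8536096]], k ∈ Fx [[4196928], [3416064], [622848], [5264], [15], [15, 5264, 622848, 3416064, 4196928, 8536096]] ↔ ∀ m ∈ [15, 5264, 622848, 3416064, 4196928, 8536096], k • pts m = pts m := by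
  intro k hk
  constructor
  · intro h m hm
    exact (smul_fam_single m).mp ((mem_Fx.mp ((grp_le_Fx six).2 (stageSk5.2.1.le h))).2 [m]
      (by simp only [List.mem_cons, List.not_mem_nil, or_false] at hm ⊢; simpa using hm))
  · intro h
    refine mem_Fx.mpr ⟨(mem_Fx.mp hk).1, fun L hL => ?_⟩
    simp only [List.mem_cons, List.not_mem_nil, or_false] at hL
    rcases hL with rfl | rfl | rfl | rfl | rfl | rfl
    · exact (smul_fam_single 4196928).mpr (h 4196928 (by simp))
    · exact (smul_fam_single 3416064).mpr (h 3416064 (by simp))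
    · exact (smul_fam_single 622848).mpr (h 622848 (by simp))
    · exact (smul_fam_single 5264).mpr (h 5264 (by simp))
    · exact (smul_fam_single 15).mpr (h 15 (by simp))
    · exact (mem_Fx_one.mp hk).2

/-- Structure of a sextet stabiliser: it induces every permutation of the six tetrads, the subgroup fixing each tetrad setwise has order 192, and there is a normal subgroup of order 64 consisting of elements squaring to the identity. -/
theorem result (S : Finset (Finset Cfsg.GolayPt)) (hS : S ∈ Cfsg.sextets) : (∀ e : Equiv.Perm ↥S, ∃ g ∈ MulAction.stabilizer Cfsg.M24 S, ∀ t : ↥S, (g : Equiv.Perm Cfsg.GolayPt) • (t : Finset Cfsg.GolayPt) = ((e t : ↥S) : Finset Cfsg.GolayPt)) ∧ Nat.card {g : ↥(MulAction.stabilizer Cfsg.M24 S) // ∀ t ∈ S, ((g : Cfsg.M24) : Equiv.Perm Cfsg.GolayPt) • t = t} = 192 ∧ ∃ N : Subgroup ↥(MulAction.stabilizer Cfsg.M24 S), N.Normal ∧ Nat.card N = 64 ∧ ∀ x ∈ N, x * x = 1 := by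
  obtain ⟨a, ha, e⟩ := exists_sextet hS
  subst e
  set a' : Cfsg.M24 := ⟨a, ha⟩
  have hst : Nat.card ↥(MulAction.stabilizer Cfsg.M24 (a • fam [15, 5264, 622848, 3416064, 4196928, 8536096])) = 138240 :=
    (Nat.card_congr (stdEquiv (stabilizer_fam [15, 5264, 622848, 3416064, 4196928, 8536096]) a').toEquiv).trans stageSext.card_Fx
  have hker := (card_members_fixed (X := [15, 5264, 622848, 3416064, 4196928, 8536096]) (F := [[4196928], [3416064], [622848], [5264], [15], [15, 5264, 622848, 3416064, 4196928, 8536096]]) a' fixed_iff le_sext).trans stageSk5.card_Fx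
  refine ⟨fun e => ?_, hker, exists_elem_normal stageSext (stabilizer_fam [15, 5264, 622848, 3416064, 4196928, 8536096]) a' sextN_elem sextN_size.1
    sextN_size.2.1 sextN_size.2.2 sextN_conj⟩
  obtain ⟨g, hg⟩ := membersHom_surjective hst hker (f := 720) (by rw [hS.1]; rfl) (by norm_num) (by norm_num) e
  exact ⟨g.1, g.2, fun t => congrArg Subtype.val (Equiv.congr_fun hg t)⟩

end Cfsg.Agent.S1551
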