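import Cfsg.Statements.S1552
import Cfsg.Agent.Lib.Spor.Golay.CensusSextSext

set_option autoImplicit false
open scoped Pointwise
open Cfsg

namespace Cfsg.Agent.S1552

open Cfsg.Agent.Spor.Golay Cfsg.Agent.Spor.Golay.Census

/-- A sextet stabiliser has four orbits on the 1771 sextets, of sizes 1, 90, 240, 1440; and the stabiliser is a maximal proper subgroup. -/
theorem result (S : Finset (Finset Cfsg.GolayPt)) (hS : S ∈ Cfsg.sextets) : ∃ X₁ ∈ Cfsg.sextets, ∃ X₂ ∈ Cfsg.sextets, ∃ X₃ ∈ Cfsg.sextets, (MulAction.orbit ↥(MulAction.stabilizer Cfsg.M24 S) X₁).ncard = 90 ∧ (MulAction.orbit ↥(MulAction.stabilizer Cfsg.M24 S) X₂).ncard = 240 ∧ (MulAction.orbit ↥(MulAction.stabilizer Cfsg.M24 S) X₃).ncard = 1440 ∧ Cfsg.sextets = {S} ∪ MulAction.orbit ↥(MulAction.stabilizer Cfsg.M24 S) X₁ ∪ MulAction.orbit ↥(MulAction.stabilizer Cfsg.M24 S) X₂ ∪ MulAction.orbit ↥(MulAction.stabilizer Cfsg.M24 S) X₃ ∧ IsCoatom (MulAction.stabilizer Cfsg.M24 S) := by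
  obtain ⟨a, ha, e⟩ := exists_sextet hS
  subst e
  obtain ⟨u1, u2⟩ := census_fam stageSext (stabilizer_fam [15, 5264, 622848, 3416064, 4196928, 8536096]) sextU_ok ![sextSext0, sextSext1, sextSext2, sextSext3]
    (by intro i; fin_cases i; exacts [sextSext0_ok, sextSext1_ok, sextSext2_ok, sextSext3_ok]) (by decide +kernel) (by simp [List.ofFn_succ]) sextSext_cover ⟨a, ha⟩
  rw [sextU_famSet] at u1 u2
  rw [iUnion_four] at u2
  have hz : MulAction.orbit (MulAction.stabilizer Cfsg.M24 (a • fam [15, 5264, 622848, 3416064, 4196928, 8536096]))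
      (a • fam ((![sextSext0, sextSext1, sextSext2, sextSext3] 0 : Orb).obj 0)) = {a • fam [15, 5264, 622848, 3416064, 4196928, 8536096]} := by
    rw [show ((![sextSext0, sextSext1, sextSext2, sextSext3] 0 : Orb).obj 0) = [15, 5264, 622848, 3416064, 4196928, 8536096] from sextSext0_zero.1]
    refine Set.eq_singleton_iff_unique_mem.mpr ⟨MulAction.mem_orbit_self _, ?_⟩
    rintro _ ⟨g, rfl⟩
    exact g.2
  refine ⟨_, (u1 1).1, _, (u1 2).1, _, (u1 3).1, ((u1 1).2.trans sextSext1_zero.2.1), ((u1 2).2.trans sextSext2_zero.2.1), ((u1 3).2.trans sextSext3_zero.2.1), ?_,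
    maximal_fam stageSext sextU_ok sextU_zero sextSext0 ⟨sextSext0_zero.1, sextSext0_zero.2.1⟩ ![sextSext1, sextSext2, sextSext3]
      (by intro i; fin_cases i; exacts [sextSext1_ok, sextSext2_ok, sextSext3_ok]) (by simp [List.ofFn_succ]) sextSext_cover (N := 1771) (by decide +kernel)
      (by norm_num) (by decide +kernel) (by decide +kernel) ⟨a, ha⟩⟩
  rw [← hz]
  exact u2

end Cfsg.Agent.S1552
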