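import Cfsg.Statements.S1553
import Cfsg.Agent.Lib.Spor.Golay.OctStab

set_option autoImplicit false
open scoped Pointwise
open Cfsg

namespace Cfsg.Agent.S1553

open Cfsg.Agent.Spor.Golay Cfsg.Agent.Spor.Golay.Census

/-- The stabiliser of an octad in the group of the length-24 code induces on the octad exactly its alternating group. -/
theorem result (o : Finset Cfsg.GolayPt) (ho : o ∈ Cfsg.octads) : {e : Equiv.Perm ↥o | ∃ g : Equiv.Perm Cfsg.GolayPt, g ∈ Cfsg.M24 ∧ ∃ h : (∀ x, g x ∈ o ↔ x ∈ o), g.subtypePerm h = e} = (alternatingGroup ↥o : Set (Equiv.Perm ↥o)) := by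
  obtain ⟨a, ha, e⟩ := exists_smul_octA ho
  subst e
  have hst : ∀ g ∈ Cfsg.M24 ⊓ MulAction.stabilizer (Equiv.Perm GolayPt) (a • pts 5279),
      ∀ x, g x ∈ a • pts 5279 ↔ x ∈ a • pts 5279 := fun g hg => mem_iff_of_smul_eq hg.2
  refine Eq.trans ?_ (congrArg (fun A : Subgroup (Equiv.Perm ↥(a • pts 5279)) => (A : Set (Equiv.Perm ↥(a • pts 5279))))
    (range_restrict ha hst))
  ext e
  constructor
  · rintro ⟨g, hg, h, rfl⟩
    refine ⟨⟨g, hg, ?_⟩, rfl⟩
    refine Finset.eq_of_subset_of_card_le (fun x hx => ?_) (le_of_eq (Finset.card_smul_finset _ _).symm)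
    obtain ⟨y, hy, rfl⟩ := Finset.mem_smul_finset.mp hx
    exact (h y).mpr hy
  · rintro ⟨g, rfl⟩
    exact ⟨g.1, g.2.1, hst g g.2, rfl⟩

end Cfsg.Agent.S1553
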