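import Cfsg.Statements.S1554
import Cfsg.Agent.Lib.Spor.Golay.OctStab

set_option autoImplicit false
open scoped Pointwise
open Cfsg

namespace Cfsg.Agent.S1554

open Cfsg.Agent.Spor.Golay Cfsg.Agent.Spor.Golay.Census

/-- An octad stabiliser is a split extension: the joint stabiliser of the octad and a point outside it is a complement to the pointwise stabiliser of the octad, and is isomorphic to the alternating group of degree 8. -/
theorem result (o : Finset Cfsg.GolayPt) (ho : o ∈ Cfsg.octads) (p : Cfsg.GolayPt) (hp : p ∉ o) : (Cfsg.M24 ⊓ fixingSubgroup (Equiv.Perm Cfsg.GolayPt) (o : Set Cfsg.GolayPt)) ⊓ (Cfsg.M24 ⊓ MulAction.stabilizer (Equiv.Perm Cfsg.GolayPt) o ⊓ MulAction.stabilizer (Equiv.Perm Cfsg.GolayPt) p) = ⊥ ∧ (Cfsg.M24 ⊓ fixingSubgroup (Equiv.Perm Cfsg.GolayPt) (o : Set Cfsg.GolayPt)) ⊔ (Cfsg.M24 ⊓ MulAction.stabilizer (Equiv.Perm Cfsg.GolayPt) o ⊓ MulAction.stabilizer (Equiv.Perm Cfsg.GolayPt)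 p) = (Cfsg.M24 ⊓ MulAction.stabilizer (Equiv.Perm Cfsg.GolayPt) o) ∧ Nonempty (↥(Cfsg.M24 ⊓ MulAction.stabilizer (Equiv.Perm Cfsg.GolayPt) o ⊓ MulAction.stabilizer (Equiv.Perm Cfsg.GolayPt) p) ≃* alternatingGroup (Fin 8)) := by
  obtain ⟨a, ha, eo, ep⟩ := exists_oct_outside ho hp
  subst eo ep
  rw [inf_fixing_eq ha, inf_stab_pt_eq ha, inf_stab_eq ha]
  refine ⟨?_, ?_, ?_⟩
  · rw [← Subgroup.map_inf_eq _ _ _ (MulAut.conj a).injective, ker_inf_pt, Subgroup.map_bot]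
  · rw [← Subgroup.map_sup, ker_sup_pt]
  · obtain ⟨i⟩ := stab_pt_iso
    exact ⟨((Fx [[32], [5279]]).equivMapOfInjective _ (MulAut.conj a).injective).symm.trans i⟩

end Cfsg.Agent.S1554
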