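import Cfsg.Statements.S1595
import Cfsg.Agent.Lib.Spor.SteinerTables

set_option autoImplicit false
open Cfsg

namespace Cfsg.Agent.S1595

open Finset Cfsg.Agent.Spor.Steiner in
theorem through_split {α : Type*} [Fintype α] [DecidableEq α] {B : Set (Finset α)}
    (b s : Finset α) (hs : s ⊆ b) :
    #{c ∈ blocks B | s ⊆ c} = ∑ w ∈ (b \ s).powerset, #{c ∈ blocks B | b ∩ c = s ∪ w} := by
  rw [card_eq_sum_card_fiberwise (f := fun c => (b ∩ c) \ s) (t := (b \ s).powerset)]
  · refine sum_congr rfl fun w hw => ?_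
    rw [mem_powerset] at hw
    congr 1
    ext c
    simp only [mem_filter]
    constructor
    · rintro ⟨⟨hc, hsc⟩, rfl⟩
      exact ⟨hc, by rw [union_sdiff_of_subset (subset_inter hs hsc)]⟩
    · rintro ⟨hc, he⟩
      refine ⟨⟨hc, fun x hx => ?_⟩, ?_⟩
      · have hx' : x ∈ b ∩ c := he ▸ mem_union_left w hx
        exact (mem_inter.mp hx').2
      · rw [he, union_sdiff_left, sdiff_eq_self_of_disjoint]
        exact disjoint_left.mpr fun x hxw hxs => (mem_sdiff.mp (hw hxw)).2 hxs
  · intro c _
    simp only [mem_coe, mem_powerset]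
    exact sdiff_subset_sdiff inter_subset_left subset_rfl

open Finset Cfsg.Agent.Spor.Steiner in
theorem split_by_card {α : Type*} [Fintype α] [DecidableEq α] {B : Set (Finset α)}
    (b s : Finset α) (hs : s ⊆ b) (f : ℕ → ℕ)
    (hf : ∀ t, s ⊂ t → t ⊆ b → #{c ∈ blocks B | b ∩ c = t} = f #t) :
    #{c ∈ blocks B | s ⊆ c} = #{c ∈ blocks B | b ∩ c = s} +
      ∑ j ∈ range (#b - #s), (#b - #s).choose (j + 1) * f (#s + (j + 1)) := by
  have hr : #(b \ s) = #b - #s := card_sdiff_of_subset hs
  rw [through_split b s hs, sum_powerset, sum_range_succ', powersetCard_zero, sum_singleton,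
    union_empty, add_comm, hr]
  refine congrArg _ (sum_congr rfl fun j _ => ?_)
  rw [← hr, ← card_powersetCard (j + 1) (b \ s), ← smul_eq_mul, ← sum_const]
  refine sum_congr rfl fun w hw => ?_
  obtain ⟨hw, hwc⟩ := mem_powersetCard.mp hw
  have hd : Disjoint s w := disjoint_left.mpr fun x hxs hxw => (mem_sdiff.mp (hw hxw)).2 hxs
  have hcu : #(s ∪ w) = #s + (j + 1) := by rw [card_union_of_disjoint hd, hwc]
  rw [hf (s ∪ w) (Finset.ssubset_iff_subset_ne.mpr ⟨subset_union_left, fun e => by
      have := congrArg Finset.card e; omega⟩) (union_subset hs (hw.trans sdiff_subset)), hcu]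

open Finset Cfsg.Agent.Spor.Steiner in
theorem aux {α : Type*} [Fintype α] [DecidableEq α] (hα : Fintype.card α = 12)
    {B : Set (Finset α)} (hB : Cfsg.IsSteinerSystem 5 6 B) (b : Finset α) (hb : b ∈ B) :
    ∀ t : Finset α, t ⊆ b → 2 ≤ #t →
      #{c ∈ blocks B | b ∩ c = t} = [0, 0, 3, 2, 3, 0, 1].getD #t 0 := by
  have hb6 := card_eq hB hb
  have h6 : ∀ t, t ⊆ b → #t = 6 → #{c ∈ blocks B | b ∩ c = t} = 1 := by
    intro t ht h
    have ht' : t = b := eq_of_subset_of_card_le ht (by omega)
    rw [ht', card_eq_one]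
    refine ⟨b, ?_⟩
    ext c
    simp only [mem_filter, mem_blocks, mem_singleton]
    exact ⟨fun ⟨hc, he⟩ => (eq_of_common hB hb hc subset_rfl (inter_eq_left.mp he) (by omega)).symm,
      fun e => by rw [e]; exact ⟨hb, inter_self b⟩⟩
  have h5 : ∀ t, t ⊆ b → #t = 5 → #{c ∈ blocks B | b ∩ c = t} = 0 := by
    intro t ht h
    rw [card_eq_zero, filter_eq_empty_iff]
    intro c hc he
    rw [mem_blocks] at hc
    by_cases hcb : b = c
    · subst hcb; rw [inter_self] at he; subst he; omega
    · have := card_inter_lt hB hb hc hcb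
      rw [he] at this; omega
  have h4 : ∀ t, t ⊆ b → #t = 4 → #{c ∈ blocks B | b ∩ c = t} = 3 := by
    intro t ht h
    have hth := blocks_through hB (s := t) (by omega)
    have := split_by_card (B := B) b t ht ([0, 0, 3, 2, 3, 0, 1].getD · 0) (by
      intro u hu hub
      have := card_lt_card hu
      have := card_le_card hub
      rcases (by omega : #u = 5 ∨ #u = 6) with e | e <;> rw [e]
      · exact h5 u hub e
      · exact h6 u hub e)
    rw [hb6, h] at this
    rw [hα, h] at hth
    simp [sum_range_succ, Nat.choose] at this hth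
    omega
  have h3 : ∀ t, t ⊆ b → #t = 3 → #{c ∈ blocks B | b ∩ c = t} = 2 := by
    intro t ht h
    have hth := blocks_through hB (s := t) (by omega)
    have := split_by_card (B := B) b t ht ([0, 0, 3, 2, 3, 0, 1].getD · 0) (by
      intro u hu hub
      have := card_lt_card hu
      have := card_le_card hub
      rcases (by omega : #u = 4 ∨ #u = 5 ∨ #u = 6) with e | e | e <;> rw [e]
      · exact h4 u hub e
      · exact h5 u hub e
      · exact h6 u hub e)
    rw [hb6, h] at this
    rw [hα, h] at hth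
    simp [sum_range_succ, Nat.choose] at this hth
    omega
  have h2 : ∀ t, t ⊆ b → #t = 2 → #{c ∈ blocks B | b ∩ c = t} = 3 := by
    intro t ht h
    have hth := blocks_through hB (s := t) (by omega)
    have := split_by_card (B := B) b t ht ([0, 0, 3, 2, 3, 0, 1].getD · 0) (by
      intro u hu hub
      have := card_lt_card hu
      have := card_le_card hub
      rcases (by omega : #u = 3 ∨ #u = 4 ∨ #u = 5 ∨ #u = 6) with e | e | e | e <;> rw [e]
      · exact h3 u hub e
      · exact h4 u hub e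
      · exact h5 u hub e
      · exact h6 u hub e)
    rw [hb6, h] at this
    rw [hα, h] at hth
    simp [sum_range_succ, Nat.choose] at this hth
    omega
  intro t ht h
  have := card_le_card ht
  rcases (by omega : #t = 2 ∨ #t = 3 ∨ #t = 4 ∨ #t = 5 ∨ #t = 6) with e | e | e | e | e <;> rw [e]
  · exact h2 t ht e
  · exact h3 t ht e
  · exact h4 t ht e
  · exact h5 t ht e
  · exact h6 t ht e

/-- Leech triangle of S(5, 6, 12): blocks meet in 0, 2, 3 or 4 points, and a block is met exactly in a given 2-, 3- or 4-subset by 3, 2, 3 blocks respectively. -/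
theorem result {α : Type*} [Fintype α] [DecidableEq α] (hα : Fintype.card α = 12) {B : Set (Finset α)} (hB : Cfsg.IsSteinerSystem 5 6 B) (b : Finset α) (hb : b ∈ B) : (∀ c ∈ B, c ≠ b → (b ∩ c).card = 0 ∨ (b ∩ c).card = 2 ∨ (b ∩ c).card = 3 ∨ (b ∩ c).card = 4) ∧ ∀ s ⊆ b, (s.card = 2 → {c : Finset α | c ∈ B ∧ b ∩ c = s}.ncard = 3) ∧ (s.card = 3 → {c : Finset α | c ∈ B ∧ b ∩ c = s}.ncard = 2) ∧ (s.card = 4 → {c : Finset α | c ∈ B ∧ b ∩ c = s}.ncard = 3) := by
  open Cfsg.Agent.Spor.Steiner in
  refine ⟨fun c hc hne => ?_, fun s hs => ?_⟩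
  · have h1 := (table612 hα hB hb).2.1
    have hlt := card_inter_lt hB hb hc (Ne.symm hne)
    have e1 : (b ∩ c).card ≠ 1 := fun e => by
      have := meetCount_pos (B := B) hc (A := b) (i := 1) (by rw [Finset.inter_comm, e])
      omega
    omega
  · simp only [Cfsg.Agent.Spor.Steiner.ncard_eq_card_filter (B := B) (fun c => b ∩ c = s)]
    refine ⟨fun h => ?_, fun h => ?_, fun h => ?_⟩ <;>
      rw [aux hα hB b hb s hs (by omega), h] <;> rfl

end Cfsg.Agent.S1595
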