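import Cfsg.Statements.S1555
import Cfsg.Agent.Lib.Spor.Golay.Basic
import Cfsg.Agent.Lib.Spor.SteinerTables
import Cfsg.Agent.S1595

set_option autoImplicit false
open scoped Pointwise
open Cfsg

namespace Cfsg.Agent.S1555

open Cfsg.Agent.Spor.Steiner Cfsg.Agent.Spor.Golay
open Finset in
theorem aux {α : Type*} [Fintype α] [DecidableEq α] (hα : Fintype.card α = 24)
    {B : Set (Finset α)} (hB : Cfsg.IsSteinerSystem 5 8 B) (b : Finset α) (hb : b ∈ B) :
    ∀ t : Finset α, t ⊆ b →
      (#t = 2 → #{c ∈ blocks B | b ∩ c = t} = 16) ∧ (#t = 4 → #{c ∈ blocks B | b ∩ c = t} = 4) := by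
  have hb8 := card_eq hB hb
  have h8 : ∀ t, t ⊆ b → #t = 8 → #{c ∈ blocks B | b ∩ c = t} = 1 := by
    intro t ht h
    have ht' : t = b := eq_of_subset_of_card_le ht (by omega)
    rw [ht', card_eq_one]
    refine ⟨b, ?_⟩
    ext c
    simp only [mem_filter, mem_blocks, mem_singleton]
    exact ⟨fun ⟨hc, he⟩ => (eq_of_common hB hb hc subset_rfl (inter_eq_left.mp he) (by omega)).symm,
      fun e => by rw [e]; exact ⟨hb, inter_self b⟩⟩
  have hz : ∀ t, t ⊆ b → #t ≠ 0 → #t ≠ 2 → #t ≠ 4 → #t ≠ 8 →
      #{c ∈ blocks B | b ∩ c = t} = 0 := by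
    intro t ht h0 h2 h4 h8'
    rw [card_eq_zero, filter_eq_empty_iff]
    intro c hc he
    rw [mem_blocks] at hc
    by_cases hcb : b = c
    · subst hcb; rw [inter_self] at he; subst he; omega
    · rcases card_inter824 hα hB hb hc hcb with e | e | e <;> rw [he] at e <;> omega
  have h4 : ∀ t, t ⊆ b → #t = 4 → #{c ∈ blocks B | b ∩ c = t} = 4 := by
    intro t ht h
    have hth := blocks_through hB (s := t) (by omega)
    have := Cfsg.Agent.S1595.split_by_card (B := B) b t ht ([0, 0, 16, 0, 4, 0, 0, 0, 1].getD · 0) (by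
      intro u hu hub
      have := card_lt_card hu
      have := card_le_card hub
      rcases (by omega : #u = 5 ∨ #u = 6 ∨ #u = 7 ∨ #u = 8) with e | e | e | e <;> rw [e]
      · exact hz u hub (by omega) (by omega) (by omega) (by omega)
      · exact hz u hub (by omega) (by omega) (by omega) (by omega)
      · exact hz u hub (by omega) (by omega) (by omega) (by omega)
      · exact h8 u hub e)
    rw [hb8, h] at this
    rw [hα, h] at hth
    simp [sum_range_succ, Nat.choose] at this hth
    omega
  intro t ht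
  refine ⟨fun h => ?_, h4 t ht⟩
  have hth := blocks_through hB (s := t) (by omega)
  have := Cfsg.Agent.S1595.split_by_card (B := B) b t ht ([0, 0, 16, 0, 4, 0, 0, 0, 1].getD · 0) (by
    intro u hu hub
    have := card_lt_card hu
    have := card_le_card hub
    rcases (by omega : #u = 3 ∨ #u = 4 ∨ #u = 5 ∨ #u = 6 ∨ #u = 7 ∨ #u = 8) with
      e | e | e | e | e | e <;> rw [e]
    · exact hz u hub (by omega) (by omega) (by omega) (by omega)
    · exact h4 u hub e
    · exact hz u hub (by omega) (by omega) (by omega) (by omega)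
    · exact hz u hub (by omega) (by omega) (by omega) (by omega)
    · exact hz u hub (by omega) (by omega) (by omega) (by omega)
    · exact h8 u hub e)
  rw [hb8, h] at this
  rw [hα, h] at hth
  simp [sum_range_succ, Nat.choose] at this hth
  omega

/-- Bottom row of the Leech triangle: an octad is met in a prescribed pair of its points by exactly 16 octads and in a prescribed 4-subset by exactly 4 octads. -/
theorem result (o : Finset Cfsg.GolayPt) (ho : o ∈ Cfsg.octads) (s : Finset Cfsg.GolayPt) (hs : s ⊆ o) : (s.card = 2 → {o' : Finset Cfsg.GolayPt | o' ∈ Cfsg.octads ∧ o ∩ o' = s}.ncard = 16) ∧ (s.card = 4 → {o' : Finset Cfsg.GolayPt | o' ∈ Cfsg.octads ∧ o ∩ o' = s}.ncard = 4) := by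
  rw [Cfsg.Agent.Spor.Steiner.ncard_eq_card_filter (B := Cfsg.octads) (fun c => o ∩ c = s)]
  exact aux Cfsg.Agent.Spor.Golay.card_golayPt Cfsg.Agent.Spor.Golay.octads_steiner o ho s hs

end Cfsg.Agent.S1555
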