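import Cfsg.Statements.S1556
import Cfsg.Agent.Lib.Spor.Golay.CensusParts
import Cfsg.Agent.Lib.Spor.Golay.CensusOctOct

set_option autoImplicit false
open scoped Pointwise
open Cfsg

namespace Cfsg.Agent.S1556

open Cfsg.Agent.Spor.Golay Cfsg.Agent.Spor.Golay.Census

/-- Parts. -/
noncomputable def L8 : List (Orb × ℕ) := [(octOct0, 8), (octOct1, 0), (octOct2, 4), (octOct3, 2)]

theorem L8_ok : partSetOk octU (fun _ => true) (fun m => pop (5279 &&& m)) L8 = true := by decide +kernel

/-- Two octads meeting a fixed octad in equally many points are in the same orbit of its stabiliser. -/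
theorem result (o o' o'' : Finset Cfsg.GolayPt) (ho : o ∈ Cfsg.octads) (ho' : o' ∈ Cfsg.octads) (ho'' : o'' ∈ Cfsg.octads) (h : (o ∩ o').card = (o ∩ o'').card) : ∃ g : Equiv.Perm Cfsg.GolayPt, g ∈ Cfsg.M24 ∧ g • o = o ∧ g • o' = o'' := by
  obtain ⟨a, ha, e⟩ := exists_smul_octA ho
  subst e
  have hl : ∀ p ∈ L8, p.1.ok octSG = true ∧ eqL (p.1.obj 0) [(p.1.obj 0).headD 0] = true := by
    intro p hp; simp only [L8, List.mem_cons, List.not_mem_nil, or_false] at hp
    rcases hp with rfl | rfl | rfl | rfl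
    exacts [⟨octOct0_ok, by decide +kernel⟩, ⟨octOct1_ok, by decide +kernel⟩, ⟨octOct2_ok, by decide +kernel⟩, ⟨octOct3_ok, by decide +kernel⟩]
  obtain ⟨-, hc⟩ := parts_set L8_ok (by decide) (fun _ => True) (fun z => (pts 5279 ∩ z).card)
    (fun _ _ => by simp) (fun m _ => card_inter_pts _ m)
  rw [octU_setSet] at hc
  have hp := exists_same_part (S := Orb.setSet) (l := L8) (by decide)
    (by obtain ⟨p, h1, h2, h3⟩ := hc _ ((octads_smul ha).mp ho') trivial; exact ⟨p, h1, h2, h3⟩)
    (by obtain ⟨p, h1, h2, h3⟩ := hc _ ((octads_smul ha).mp ho'') trivial; exact ⟨p, h1, h2, h3⟩)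
    (by rw [← card_inter_smul, ← card_inter_smul]; exact h)
  exact move_set stageOct (stabilizer_pts 5279) hl ha hp

end Cfsg.Agent.S1556
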