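import Cfsg.Statements.S1558
import Cfsg.Agent.Lib.Spor.Golay.CensusElem
import Cfsg.Agent.Lib.Spor.Golay.CensusTrioKer

set_option autoImplicit false
open scoped Pointwise
open Cfsg

namespace Cfsg.Agent.S1558

open Cfsg.Agent.Spor.Golay Cfsg.Agent.Spor.Golay.Census

/-- The seven sextets. -/
def XL : Fin 7 → List ℕ := ![[15, 5264, 622848, 3416064, 4196928, 8536096], [1158, 4121, 35136, 3293184, 4784640, 8658976], [149, 5130, 98880, 2121760, 4720896, 9830400], [1043, 4236, 68352, 1187872, 4751424, 10764288], [154, 5125, 525120, 1327136, 4294656, 10625024], [1052, 4227, 559616, 2490400, 4260160, 9461760], [1161, 4118, 417792, 591936, 4227840, 11534368]]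

/-- The three octs. -/
def YL : Fin 3 → ℕ := ![5279, 4819776, 11952160]

/-- Coordinates of the seven sextets. -/
def vv : Fin 7 → Fin 3 → ZMod 2 := ![![1, 0, 0], ![0, 1, 0], ![0, 0, 1], ![0, 1, 1], ![1, 0, 1], ![1, 1, 1], ![1, 1, 0]]

/-- A linear map. -/
def A0 : GL (Fin 3) (ZMod 2) := ⟨!![0, 0, 1; 1, 0, 0; 0, 1, 1], !![0, 1, 0; 1, 0, 1; 1, 0, 0], by decide, by decide⟩

/-- A permutation of the octs. -/
def σ0 : Equiv.Perm (Fin 3) := ⟨![1, 0, 2], ![1, 0, 2], by decide, by decide⟩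

/-- A linear map. -/
def A1 : GL (Fin 3) (ZMod 2) := ⟨!![0, 0, 1; 0, 1, 0; 1, 1, 0], !![0, 1, 1; 0, 1, 0; 1, 0, 0], by decide, by decide⟩

/-- A permutation of the octs. -/
def σ1 : Equiv.Perm (Fin 3) := ⟨![2, 1, 0], ![2, 1, 0], by decide, by decide⟩

/-- An element of the standard stabiliser lies over a pair. -/
def Rel (g : Equiv.Perm GolayPt) (x : GL (Fin 3) (ZMod 2) × Equiv.Perm (Fin 3)) : Prop :=
  (∀ i, ∃ j, g • fam (XL i) = fam (XL j) ∧ (x.1 : Matrix (Fin 3) (Fin 3) (ZMod 2)).mulVec (vv i) = vv j) ∧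
    ∀ i, g • pts (YL i) = pts (YL (x.2 i))

theorem rel_gens : ((∀ i, img (trioSG.getD 0 0) (XL i) = XL (![1, 2, 4, 0, 5, 6, 3] i) ∧ (A0 : Matrix (Fin 3) (Fin 3) (ZMod 2)).mulVec (vv i) = vv (![1, 2, 4, 0, 5, 6, 3] i)) ∧ (∀ i, imgMask (get (trioSG.getD 0 0)) (YL i) = YL (σ0 i)) ∧ (∀ i, img (trioSG.getD 1 0) (XL i) = XL (![2, 3, 0, 5, 4, 6, 1] i) ∧ (A1 : Matrix (Fin 3) (Fin 3) (ZMod 2)).mulVec (vv i) = vv (![2, 3, 0, 5, 4, 6, 1] i)) ∧ (∀ i, imgMask (get (trioSG.getD 1 0)) (YL i) = YL (σ1 i))) ∧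
    trioSG.length = 2 ∧ validAll trioSG = true := by
  decide +kernel

theorem XL_checks : (∀ i, incr (XL i) = true ∧ small (XL i) = true) ∧ Function.Injective XL ∧
    Function.Injective YL ∧ (∀ i, YL i < 2 ^ 24) ∧ vv 0 = ![1, 0, 0] ∧ vv 1 = ![0, 1, 0] ∧
    vv 2 = ![0, 0, 1] ∧ Function.Injective vv := by decide +kernel

theorem XL_inj {i j : Fin 7} (h : fam (XL i) = fam (XL j)) : i = j :=
  XL_checks.2.1 (fam_inj (XL_checks.1 i).1 (XL_checks.1 j).1 (small_spec (XL_checks.1 i).2) (small_spec (XL_checks.1 j).2) h)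

theorem YL_inj {i j : Fin 3} (h : pts (YL i) = pts (YL j)) : i = j :=
  XL_checks.2.2.1 (pts_injOn (XL_checks.2.2.2.1 i) (XL_checks.2.2.2.1 j) h)

theorem exists_rel {g : Equiv.Perm GolayPt} (hg : g ∈ grp trioSG) : ∃ x, Rel g x := by
  obtain ⟨h, hlen, hv⟩ := rel_gens
  induction hg using Subgroup.closure_induction with
  | mem x hx =>
    obtain ⟨P, hP, rfl⟩ := hx
    obtain ⟨s, hs, rfl⟩ := List.getElem_of_mem hP
    have hvs := (valid_getD hv hs).1
    have he : trioSG.getD s 0 = trioSG[s] := List.getD_eq_getElem _ _ hs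
    rw [← he]
    have mk : ∀ (A : GL (Fin 3) (ZMod 2)) (σ : Equiv.Perm (Fin 3)) (f : Fin 7 → Fin 7),
        (∀ i, img (trioSG.getD s 0) (XL i) = XL (f i) ∧ (A : Matrix (Fin 3) (Fin 3) (ZMod 2)).mulVec (vv i) = vv (f i)) →
        (∀ i, imgMask (get (trioSG.getD s 0)) (YL i) = YL (σ i)) → ∃ x, Rel (permOf (trioSG.getD s 0)) x :=
      fun A σ f h1 h2 => ⟨(A, σ), fun i => ⟨f i, by rw [← fam_img hvs, (h1 i).1], (h1 i).2⟩,
        fun i => by rw [permOf_smul_pts hvs, h2 i]⟩
    rw [hlen] at hs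
    interval_cases s
    · exact mk A0 σ0 _ h.1 h.2.1
    · exact mk A1 σ1 _ h.2.2.1 h.2.2.2
  | one => exact ⟨1, fun i => ⟨i, one_smul _ _, by simp⟩, fun i => one_smul _ _⟩
  | mul x y _ _ hx hy =>
    obtain ⟨p, hp1, hp2⟩ := hx
    obtain ⟨q, hq1, hq2⟩ := hy
    refine ⟨p * q, fun i => ?_, fun i => ?_⟩
    · obtain ⟨j, j1, j2⟩ := hq1 i
      obtain ⟨k, k1, k2⟩ := hp1 j
      exact ⟨k, by rw [mul_smul, j1, k1], by rw [Prod.fst_mul, Units.val_mul, ← Matrix.mulVec_mulVec, j2, k2]⟩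
    · rw [mul_smul, hq2, hp2]; rfl
  | inv x _ hx =>
    obtain ⟨p, hp1, hp2⟩ := hx
    choose f f1 f2 using hp1
    have hf : Function.Bijective f := Finite.injective_iff_bijective.mp fun i j e =>
      XL_inj (smul_left_cancel x (by rw [f1, f1, e]))
    refine ⟨p⁻¹, fun j => ?_, fun i => ?_⟩
    · obtain ⟨i, rfl⟩ := hf.2 j
      exact ⟨i, by rw [← f1, inv_smul_smul], by
        rw [← f2, Matrix.mulVec_mulVec, Prod.fst_inv, ← Units.val_mul, inv_mul_cancel, Units.val_one, Matrix.one_mulVec]⟩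
    · rw [inv_smul_eq_iff, hp2, Prod.snd_inv, Equiv.Perm.inv_def, Equiv.apply_symm_apply]

theorem rel_unique {g : Equiv.Perm GolayPt} {x y : GL (Fin 3) (ZMod 2) × Equiv.Perm (Fin 3)} (h : Rel g x)
    (h' : Rel g y) : x = y := by
  have hc : ∀ i, (x.1 : Matrix (Fin 3) (Fin 3) (ZMod 2)).mulVec (vv i) = (y.1 : Matrix (Fin 3) (Fin 3) (ZMod 2)).mulVec (vv i) :=
    fun i => by
      obtain ⟨j, j1, j2⟩ := h.1 i
      obtain ⟨k, k1, k2⟩ := h'.1 i
      rw [j2, k2, XL_inj (j1.symm.trans k1)]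
  obtain ⟨-, -, -, -, e0, e1, e2, -⟩ := XL_checks
  refine Prod.ext (Units.ext (Matrix.ext fun r c => ?_)) (Equiv.ext fun i => YL_inj ((h.2 i).symm.trans (h'.2 i)))
  fin_cases c
  · have := congrFun (hc 0) r; rw [e0] at this
    simpa [Matrix.mulVec, dotProduct, Fin.sum_univ_three] using this
  · have := congrFun (hc 1) r; rw [e1] at this
    simpa [Matrix.mulVec, dotProduct, Fin.sum_univ_three] using this
  · have := congrFun (hc 2) r; rw [e2] at this
    simpa [Matrix.mulVec, dotProduct, Fin.sum_univ_three] using this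

/-- The quotient map. -/
noncomputable def quot : ↥(Fx [[5279, 4819776, 11952160]]) →* GL (Fin 3) (ZMod 2) × Equiv.Perm (Fin 3) where
  toFun g := (exists_rel (stageTrio.2.1.le g.2)).choose
  map_one' := rel_unique (exists_rel (stageTrio.2.1.le (one_mem _))).choose_spec
    ⟨fun i => ⟨i, one_smul _ _, by simp⟩, fun i => one_smul _ _⟩
  map_mul' g k := by
    refine rel_unique (exists_rel (stageTrio.2.1.le (mul_mem g.2 k.2))).choose_spec ?_
    obtain ⟨hp1, hp2⟩ := (exists_rel (stageTrio.2.1.le g.2)).choose_spec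
    obtain ⟨hq1, hq2⟩ := (exists_rel (stageTrio.2.1.le k.2)).choose_spec
    refine ⟨fun i => ?_, fun i => ?_⟩
    · obtain ⟨j, j1, j2⟩ := hq1 i
      obtain ⟨l, l1, l2⟩ := hp1 j
      exact ⟨l, by rw [mul_smul, j1, l1], by rw [Prod.fst_mul, Units.val_mul, ← Matrix.mulVec_mulVec, j2, l2]⟩
    · rw [mul_smul, hq2, hp2]; rfl

theorem quot_rel (g : ↥(Fx [[5279, 4819776, 11952160]])) : Rel g (quot g) := (exists_rel (stageTrio.2.1.le g.2)).choose_spec

theorem all_fixed : fixOk ((List.ofFn XL) ++ List.ofFn fun i => [YL i]) tk5SG = true := by decide +kernel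

theorem ker_quot : quot.ker = (Fx [[1043, 4236, 68352, 1187872, 4751424, 10764288], [149, 5130, 98880, 2121760, 4720896, 9830400], [15, 5264, 622848, 3416064, 4196928, 8536096], [4819776], [5279], [5279, 4819776, 11952160]]).subgroupOf (Fx [[5279, 4819776, 11952160]]) := by
  ext g
  rw [MonoidHom.mem_ker, Subgroup.mem_subgroupOf]
  constructor
  · intro h
    obtain ⟨r1, r2⟩ := quot_rel g
    rw [h] at r1 r2
    have hX : ∀ i, (g : Equiv.Perm GolayPt) • fam (XL i) = fam (XL i) := fun i => by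
      obtain ⟨j, j1, j2⟩ := r1 i
      rw [Prod.fst_one, Units.val_one, Matrix.one_mulVec] at j2
      rw [j1, XL_checks.2.2.2.2.2.2.2 j2]
    have hY : ∀ i, (g : Equiv.Perm GolayPt) • pts (YL i) = pts (YL i) := fun i => by simpa using r2 i
    refine mem_Fx.mpr ⟨(mem_Fx.mp g.2).1, fun L hL => ?_⟩
    simp only [List.mem_cons, List.not_mem_nil, or_false] at hL
    rcases hL with rfl | rfl | rfl | rfl | rfl | rfl
    · exact hX 3
    · exact hX 2
    · exact hX 0
    · exact (smul_fam_single _).mpr (hY 1)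
    · exact (smul_fam_single _).mpr (hY 0)
    · exact (mem_Fx_one.mp g.2).2
  · intro h
    have hall := mem_Fx.mp ((grp_le_Fx all_fixed).2 (stageTk5.2.1.le h))
    refine rel_unique (quot_rel g) ⟨fun i => ⟨i, hall.2 _ ?_, by simp⟩, fun i => (smul_fam_single _).mp (hall.2 _ ?_)⟩
    · exact List.mem_append_left _ (List.mem_ofFn.mpr ⟨i, rfl⟩)
    · exact List.mem_append_right _ (List.mem_ofFn.mpr ⟨i, rfl⟩)

theorem trioN_elem : elemOk tk5SG trioNAll = true := by decide +kernel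

theorem le_trio : Fx [[1043, 4236, 68352, 1187872, 4751424, 10764288], [149, 5130, 98880, 2121760, 4720896, 9830400], [15, 5264, 622848, 3416064, 4196928, 8536096], [4819776], [5279], [5279, 4819776, 11952160]] ≤ Fx [[5279, 4819776, 11952160]] := fun k hk =>
  mem_Fx_one.mpr ⟨(mem_Fx.mp hk).1, (mem_Fx.mp hk).2 _ (by simp)⟩

theorem le_two : Fx [[4819776], [5279], [5279, 4819776, 11952160]] ≤ Fx [[5279, 4819776, 11952160]] := fun k hk =>
  mem_Fx_one.mpr ⟨(mem_Fx.mp hk).1, (mem_Fx.mp hk).2 _ (by simp)⟩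

theorem three : fixOk [[5279], [4819776], [11952160]] tk2SG = true := by decide +kernel

theorem fixed_iff : ∀ k ∈ Fx [[5279, 4819776, 11952160]], k ∈ Fx [[4819776], [5279], [5279, 4819776, 11952160]] ↔ ∀ m ∈ [5279, 4819776, 11952160], k • pts m = pts m := by
  intro k hk
  constructor
  · intro h m hm
    exact (smul_fam_single m).mp ((mem_Fx.mp ((grp_le_Fx three).2 (stageTk2.2.1.le h))).2 [m]
      (by simp only [List.mem_cons, List.not_mem_nil, or_false] at hm ⊢; simpa using hm))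
  · intro h
    refine mem_Fx.mpr ⟨(mem_Fx.mp hk).1, fun L hL => ?_⟩
    simp only [List.mem_cons, List.not_mem_nil, or_false] at hL
    rcases hL with rfl | rfl | rfl
    · exact (smul_fam_single 4819776).mpr (h 4819776 (by simp))
    · exact (smul_fam_single 5279).mpr (h 5279 (by simp))
    · exact (mem_Fx_one.mp hk).2

theorem quot_surjective : Function.Surjective quot := by
  have h1 := quot.ker.card_mul_index
  rw [Subgroup.index_ker, ker_quot, Nat.card_congr (Subgroup.subgroupOfEquivOfLe le_trio).toEquiv,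
    stageTk5.card_Fx, stageTrio.card_Fx] at h1
  refine MonoidHom.range_eq_top.mp (Subgroup.eq_top_of_card_eq _ ?_)
  rw [Nat.card_prod, Nat.card_perm, Matrix.card_GL_field]
  simp only [Nat.card_eq_fintype_card, Fintype.card_fin, ZMod.card, Fin.prod_univ_three]
  try simp only [Nat.card_eq_fintype_card] at h1
  norm_num [Nat.factorial] at h1 ⊢
  omega

/-- Structure of a trio stabiliser: every permutation of the three octads is induced, and there is a normal subgroup of order 64 of elements squaring to the identity whose quotient is isomorphic to the product of GL(3, 2) with the symmetric group of degree 3. -/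
theorem result (T : Finset (Finset Cfsg.GolayPt)) (hT : T ∈ Cfsg.trios) : (∀ e : Equiv.Perm ↥T, ∃ g ∈ MulAction.stabilizer Cfsg.M24 T, ∀ o : ↥T, (g : Equiv.Perm Cfsg.GolayPt) • (o : Finset Cfsg.GolayPt) = ((e o : ↥T) : Finset Cfsg.GolayPt)) ∧ ∃ (N : Subgroup ↥(MulAction.stabilizer Cfsg.M24 T)) (_ : N.Normal), Nat.card N = 64 ∧ (∀ x ∈ N, x * x = 1) ∧ Nonempty (↥(MulAction.stabilizer Cfsg.M24 T) ⧸ N ≃* GL (Fin 3) (ZMod 2) × Equiv.Perm (Fin 3)) := by
  obtain ⟨a, ha, e⟩ := exists_trio hT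
  subst e
  set a' : Cfsg.M24 := ⟨a, ha⟩
  let E := stdEquiv (stabilizer_fam [5279, 4819776, 11952160]) a'
  have hst : Nat.card ↥(MulAction.stabilizer Cfsg.M24 (a • fam [5279, 4819776, 11952160])) = 64512 :=
    (Nat.card_congr E.toEquiv).trans stageTrio.card_Fx
  have hker := (card_members_fixed (X := [5279, 4819776, 11952160]) (F := [[4819776], [5279], [5279, 4819776, 11952160]]) a' fixed_iff le_two).trans stageTk2.card_Fx
  refine ⟨fun e => ?_, (quot.comp E.toMonoidHom).ker, inferInstance, ?_, fun x hx => ?_,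
    ⟨QuotientGroup.quotientKerEquivOfSurjective (quot.comp E.toMonoidHom) (quot_surjective.comp E.surjective)⟩⟩
  · obtain ⟨g, hg⟩ := membersHom_surjective hst hker (f := 6) (by rw [hT.1]; rfl) (by norm_num) (by norm_num) e
    exact ⟨g.1, g.2, fun t => congrArg Subtype.val (Equiv.congr_fun hg t)⟩
  · rw [← MonoidHom.comap_ker, Subgroup.comap_equiv_eq_map_symm',
      ← Nat.card_congr (Subgroup.equivMapOfInjective _ _ E.symm.injective).toEquiv, ker_quot,
      Nat.card_congr (Subgroup.subgroupOfEquivOfLe le_trio).toEquiv, stageTk5.card_Fx]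
  · rw [← MonoidHom.comap_ker, Subgroup.mem_comap, ker_quot, Subgroup.mem_subgroupOf] at hx
    refine E.injective (Subtype.ext ?_)
    rw [map_mul, map_one]
    exact (elemOk_mem trioN_elem (stageTk5.2.1.le hx)).2

end Cfsg.Agent.S1558
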