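import Cfsg.Statements.S1559
import Cfsg.Agent.Lib.Spor.Golay.CensusTrioTrio

set_option autoImplicit false
open scoped Pointwise
open Cfsg

namespace Cfsg.Agent.S1559

open Cfsg.Agent.Spor.Golay Cfsg.Agent.Spor.Golay.Census

/-- A trio stabiliser has five orbits on the 3795 trios, of sizes 1, 42, 56, 1008, 2688; and the stabiliser is a maximal proper subgroup. -/
theorem result (T : Finset (Finset Cfsg.GolayPt)) (hT : T ∈ Cfsg.trios) : ∃ X₁ ∈ Cfsg.trios, ∃ X₂ ∈ Cfsg.trios, ∃ X₃ ∈ Cfsg.trios, ∃ X₄ ∈ Cfsg.trios, (MulAction.orbit ↥(MulAction.stabilizer Cfsg.M24 T) X₁).ncard = 42 ∧ (MulAction.orbit ↥(MulAction.stabilizer Cfsg.M24 T) X₂).ncard = 56 ∧ (MulAction.orbit ↥(MulAction.stabilizer Cfsg.M24 T) X₃).ncard = 1008 ∧ (MulAction.orbit ↥(MulAction.stabilizer Cfsg.M24 T) X₄).ncard = 2688 ∧ Cfsg.trios = {T} ∪ MulAction.orbit ↥(MulAction.stabilizer Cfsg.M24 T) X₁ ∪ MulAction.orbit ↥(MulAction.stabilizer Cfsg.M24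 T) X₂ ∪ MulAction.orbit ↥(MulAction.stabilizer Cfsg.M24 T) X₃ ∪ MulAction.orbit ↥(MulAction.stabilizer Cfsg.M24 T) X₄ ∧ IsCoatom (MulAction.stabilizer Cfsg.M24 T) := by
  obtain ⟨a, ha, e⟩ := exists_trio hT
  subst e
  obtain ⟨u1, u2⟩ := census_fam stageTrio (stabilizer_fam [5279, 4819776, 11952160]) trioU_ok ![trioTrio0, trioTrio1, trioTrio2, trioTrio3, trioTrio4]
    (by intro i; fin_cases i; exacts [trioTrio0_ok, trioTrio1_ok, trioTrio2_ok, trioTrio3_ok, trioTrio4_ok]) (by decide +kernel) (by simp [List.ofFn_succ]) trioTrio_cover ⟨a, ha⟩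
  rw [trioU_famSet] at u1 u2
  rw [iUnion_five] at u2
  have hz : MulAction.orbit (MulAction.stabilizer Cfsg.M24 (a • fam [5279, 4819776, 11952160]))
      (a • fam ((![trioTrio0, trioTrio1, trioTrio2, trioTrio3, trioTrio4] 0 : Orb).obj 0)) = {a • fam [5279, 4819776, 11952160]} := by
    rw [show ((![trioTrio0, trioTrio1, trioTrio2, trioTrio3, trioTrio4] 0 : Orb).obj 0) = [5279, 4819776, 11952160] from trioTrio0_zero.1]
    refine Set.eq_singleton_iff_unique_mem.mpr ⟨MulAction.mem_orbit_self _, ?_⟩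
    rintro _ ⟨g, rfl⟩
    exact g.2
  refine ⟨_, (u1 1).1, _, (u1 2).1, _, (u1 3).1, _, (u1 4).1, ((u1 1).2.trans trioTrio1_zero.2.1), ((u1 2).2.trans trioTrio2_zero.2.1), ((u1 3).2.trans trioTrio3_zero.2.1), ((u1 4).2.trans trioTrio4_zero.2.1), ?_,
    maximal_fam stageTrio trioU_ok trioU_zero trioTrio0 ⟨trioTrio0_zero.1, trioTrio0_zero.2.1⟩ ![trioTrio1, trioTrio2, trioTrio3, trioTrio4]
      (by intro i; fin_cases i; exacts [trioTrio1_ok, trioTrio2_ok, trioTrio3_ok, trioTrio4_ok]) (by simp [List.ofFn_succ]) trioTrio_cover (N := 3795) (by decide +kernel)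
      (by norm_num) (by decide +kernel) (by decide +kernel) ⟨a, ha⟩⟩
  rw [← hz]
  exact u2

end Cfsg.Agent.S1559
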