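import Cfsg.Statements.S1560
import Cfsg.Agent.Lib.Spor.Golay.CensusParts
import Cfsg.Agent.Lib.Spor.Golay.CensusDodDod

set_option autoImplicit false
open scoped Pointwise
open Cfsg

namespace Cfsg.Agent.S1560

open Cfsg.Agent.Spor.Golay Cfsg.Agent.Spor.Golay.Census

/-- Parts. -/
noncomputable def L12 : List (Orb × ℕ) := [(dodDod0, 12), (dodDod1, 0), (dodDod2, 8), (dodDod3, 4), (dodDod4, 6)]

theorem L12_ok : partSetOk dodU (fun _ => true) (fun m => pop (dd &&& m)) L12 = true := by decide +kernel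

/-- Intersection numbers of dodecads: a dodecad meets every other dodecad in 0, 4, 6 or 8 points, meeting 495 of them in 4 points, 1584 in 6 points and 495 in 8 points. -/
theorem result (d : Finset Cfsg.GolayPt) (hd : d ∈ Cfsg.dodecads) : (∀ d' ∈ Cfsg.dodecads, d' ≠ d → (d ∩ d').card = 0 ∨ (d ∩ d').card = 4 ∨ (d ∩ d').card = 6 ∨ (d ∩ d').card = 8) ∧ {d' : Finset Cfsg.GolayPt | d' ∈ Cfsg.dodecads ∧ (d ∩ d').card = 4}.ncard = 495 ∧ {d' : Finset Cfsg.GolayPt | d' ∈ Cfsg.dodecads ∧ (d ∩ d').card = 6}.ncard = 1584 ∧ {d' : Finset Cfsg.GolayPt | d' ∈ Cfsg.dodecads ∧ (d ∩ d').card = 8}.ncard = 495 := by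
  obtain ⟨a, ha, e⟩ := exists_smul_dd hd
  subst e
  have hl : ∀ p ∈ L12, p.1.ok dodSG = true ∧ eqL (p.1.obj 0) [(p.1.obj 0).headD 0] = true := by
    intro p hp; simp only [L12, List.mem_cons, List.not_mem_nil, or_false] at hp
    rcases hp with rfl | rfl | rfl | rfl | rfl
    exacts [⟨dodDod0_ok, by decide +kernel⟩, ⟨dodDod1_ok, by decide +kernel⟩, ⟨dodDod2_ok, by decide +kernel⟩, ⟨dodDod3_ok, by decide +kernel⟩, ⟨dodDod4_ok, by decide +kernel⟩]
  obtain ⟨hs, hc⟩ := parts_set L12_ok (by decide) (fun _ => True) (fun z => (pts dd ∩ z).card)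
    (fun _ _ => by simp) (fun m _ => card_inter_pts _ m)
  refine ⟨fun d' hd' hne => ?_, count_set stageDod hs hl dodDod3 4 495 (by simp [L12]) (by decide +kernel) a _ fun z => by
      rw [dodU_setSet, Set.mem_setOf_eq, dodecads_smul ha, card_inter_smul]; simp, count_set stageDod hs hl dodDod4 6 1584 (by simp [L12]) (by decide +kernel) a _ fun z => by
      rw [dodU_setSet, Set.mem_setOf_eq, dodecads_smul ha, card_inter_smul]; simp,
    count_set stageDod hs hl dodDod2 8 495 (by simp [L12]) (by decide +kernel) a _ fun z => by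
      rw [dodU_setSet, Set.mem_setOf_eq, dodecads_smul ha, card_inter_smul]; simp⟩
  rw [dodU_setSet] at hc
  obtain ⟨p, hp, -, hI⟩ := hc _ ((dodecads_smul ha).mp hd') trivial
  rw [← card_inter_smul] at hI
  have h12 : p.2 = 12 → d' = a • pts dd := fun h => by
    have h1 : ((a • pts dd) ∩ d').card = 12 := hI.trans h
    have e1 := Finset.eq_of_subset_of_card_le Finset.inter_subset_right (by rw [h1, hd'.2] : d'.card ≤ ((a • pts dd) ∩ d').card)
    have e2 := Finset.eq_of_subset_of_card_le Finset.inter_subset_left (by rw [h1, hd.2] : (a • pts dd).card ≤ ((a • pts dd) ∩ d').card)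
    exact e1.symm.trans e2
  rw [hI]
  fin_cases hp
  · exact absurd (h12 rfl) hne
  · exact Or.inl rfl
  · exact Or.inr (Or.inr (Or.inr rfl))
  · exact Or.inr (Or.inl rfl)
  · exact Or.inr (Or.inr (Or.inl rfl))

end Cfsg.Agent.S1560
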