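import Cfsg.Statements.S1561
import Cfsg.Agent.Lib.Spor.Golay.CensusParts
import Cfsg.Agent.Lib.Spor.Golay.CensusDodDod

set_option autoImplicit false
open scoped Pointwise
open Cfsg

namespace Cfsg.Agent.S1561

open Cfsg.Agent.Spor.Golay Cfsg.Agent.Spor.Golay.Census

/-- Parts. -/
noncomputable def L12 : List (Orb × ℕ) := [(dodDod0, 12), (dodDod1, 0), (dodDod2, 8), (dodDod3, 4), (dodDod4, 6)]

theorem L12_ok : partSetOk dodU (fun _ => true) (fun m => pop (dd &&& m)) L12 = true := by decide +kernel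

/-- Two dodecads meeting a fixed dodecad in equally many points lie in one orbit of its stabiliser. -/
theorem result (d d' d'' : Finset Cfsg.GolayPt) (hd : d ∈ Cfsg.dodecads) (hd' : d' ∈ Cfsg.dodecads) (hd'' : d'' ∈ Cfsg.dodecads) (h : (d ∩ d').card = (d ∩ d'').card) : ∃ g : Equiv.Perm Cfsg.GolayPt, g ∈ Cfsg.M24 ∧ g • d = d ∧ g • d' = d'' := by
  obtain ⟨a, ha, e⟩ := exists_smul_dd hd
  subst e
  have hl : ∀ p ∈ L12, p.1.ok dodSG = true ∧ eqL (p.1.obj 0) [(p.1.obj 0).headD 0] = true := by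
    intro p hp; simp only [L12, List.mem_cons, List.not_mem_nil, or_false] at hp
    rcases hp with rfl | rfl | rfl | rfl | rfl
    exacts [⟨dodDod0_ok, by decide +kernel⟩, ⟨dodDod1_ok, by decide +kernel⟩, ⟨dodDod2_ok, by decide +kernel⟩, ⟨dodDod3_ok, by decide +kernel⟩, ⟨dodDod4_ok, by decide +kernel⟩]
  obtain ⟨hs, hc⟩ := parts_set L12_ok (by decide) (fun _ => True) (fun z => (pts dd ∩ z).card)
    (fun _ _ => by simp) (fun m _ => card_inter_pts _ m)
  rw [dodU_setSet] at hc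
  have hp := exists_same_part (S := Orb.setSet) (l := L12) (by decide)
    (by obtain ⟨p, h1, h2, h3⟩ := hc _ ((dodecads_smul ha).mp hd') trivial; exact ⟨p, h1, h2, h3⟩)
    (by obtain ⟨p, h1, h2, h3⟩ := hc _ ((dodecads_smul ha).mp hd'') trivial; exact ⟨p, h1, h2, h3⟩)
    (by rw [← card_inter_smul, ← card_inter_smul]; exact h)
  exact move_set stageDod (stabilizer_pts dd) hl ha hp

end Cfsg.Agent.S1561
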