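import Cfsg.Statements.S1562
import Cfsg.Agent.Lib.Spor.Golay.CensusParts
import Cfsg.Agent.Lib.Spor.Golay.CensusTripleTriple

set_option autoImplicit false
open scoped Pointwise
open Cfsg

namespace Cfsg.Agent.S1562

open Cfsg.Agent.Spor.Golay Cfsg.Agent.Spor.Golay.Census

/-- Parts. -/
noncomputable def L3 : List (Orb × ℕ) := [(tripleTriple2, 1), (tripleTriple4, 0)]

theorem L3_ok : partSetOk tripleU (fun m => Nat.beq (pop (7 &&& m)) 0)
    (fun _ => 0) [(tripleTriple2, 0), (tripleTriple4, 0)] = true := by decide +kernel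

/-- Orbits of a triad stabiliser on the triads disjoint from it: the 210 triads inside a common octad with it form one orbit and the remaining 1120 another. -/
theorem result (T : Finset Cfsg.GolayPt) (hT : T.card = 3) : {U : Finset Cfsg.GolayPt | U.card = 3 ∧ Disjoint T U ∧ (∃ o ∈ Cfsg.octads, T ∪ U ⊆ o)}.ncard = 210 ∧ {U : Finset Cfsg.GolayPt | U.card = 3 ∧ Disjoint T U ∧ ¬ (∃ o ∈ Cfsg.octads, T ∪ U ⊆ o)}.ncard = 1120 ∧ ∀ U U' : Finset Cfsg.GolayPt, U.card = 3 → U'.card = 3 → Disjoint T U → Disjoint T U' → ((∃ o ∈ Cfsg.octads, T ∪ U ⊆ o) ↔ (∃ o ∈ Cfsg.octads, T ∪ U' ⊆ o)) → ∃ g : Equiv.Perm Cfsg.GolayPt, g ∈ Cfsg.M24 ∧ g • T = T ∧ g • U = U' := by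
  classical
  obtain ⟨a, ha, e⟩ := exists_triple hT
  subst e
  have hl : ∀ p ∈ L3, p.1.ok tripleSG = true ∧ eqL (p.1.obj 0) [(p.1.obj 0).headD 0] = true := by
    intro p hp; simp only [L3, List.mem_cons, List.not_mem_nil, or_false] at hp
    rcases hp with rfl | rfl
    exacts [⟨tripleTriple2_ok, by decide +kernel⟩, ⟨tripleTriple4_ok, by decide +kernel⟩]
  obtain ⟨hm, hcv⟩ := parts_raw L3_ok (fun z => Disjoint (pts 7) z) (fun _ => 0)
    (fun m hm => by
      rw [Finset.disjoint_iff_inter_eq_empty, ← Finset.card_eq_zero, ← card_inter_pts]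
      simp)
    (fun _ _ => rfl)
  have root : ∀ (O : Orb) (c : ℕ) (b : Bool) (m : ℕ), O.ok tripleSG = true → O.obj 0 = [m] → m < 2 ^ 24 →
      inOct (7 ||| m) = b → (c = if b then 1 else 0) → ∀ z ∈ O.setSet,
      (if ∃ o ∈ octads, pts 7 ∪ z ⊆ o then 1 else 0) = c := fun O c b m hO h0 hlt hb hc z hz => by
    rw [← (stageTriple.orbit_set hO h0).1] at hz
    obtain ⟨⟨g, hg⟩, rfl⟩ := hz
    have hg7 : g⁻¹ • pts 7 = pts 7 := (smul_fam_single 7).mp ((mem_Fx.mp (inv_mem hg)).2 [7] (List.mem_cons_self ..))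
    show (if ∃ o ∈ octads, pts 7 ∪ g • pts m ⊆ o then 1 else 0) = c
    simp only [exists_octad_smul (mem_Fx.mp hg).1 (pts 7 ∪ g • pts m), Finset.smul_finset_union, inv_smul_smul, hg7,
      pts_union, ← inOct_iff (Nat.or_lt_two_pow (show 7 < 2 ^ 24 by norm_num) hlt), hb, hc]
  obtain ⟨hs, hc⟩ := parts_of (S := Orb.setSet) (l := L3) (I := fun z => if ∃ o ∈ octads, pts 7 ∪ z ⊆ o then 1 else 0)
    (by decide) (fun p hp z hz => by
      have hmm := hm (p.1, 0) (by simp only [L3] at hp ⊢; fin_cases hp <;> simp) z hz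
      refine ⟨hmm.1, hmm.2.1, ?_⟩
      simp only [L3, List.mem_cons, List.not_mem_nil, or_false] at hp
      rcases hp with rfl | rfl
      exacts [root _ _ true 152 tripleTriple2_ok tripleTriple2_zero.1 (by norm_num) (by decide +kernel) rfl z hz,
        root _ _ false 56 tripleTriple4_ok tripleTriple4_zero.1 (by norm_num) (by decide +kernel) rfl z hz])
    (fun z hz hP => by
      obtain ⟨p, hp, h⟩ := hcv z hz hP
      simp only [List.mem_cons, List.not_mem_nil, or_false] at hp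
      rcases hp with rfl | rfl
      exacts [⟨(tripleTriple2, 1), by simp [L3], h⟩, ⟨(tripleTriple4, 0), by simp [L3], h⟩])
  rw [tripleU_setSet] at hs hc
  have key : ∀ U : Finset GolayPt, (U.card = 3 ↔ (a⁻¹ • U).card = 3) ∧
      (Disjoint (a • pts 7) U ↔ Disjoint (pts 7) (a⁻¹ • U)) ∧
      ((∃ o ∈ octads, a • pts 7 ∪ U ⊆ o) ↔ ∃ o ∈ octads, pts 7 ∪ a⁻¹ • U ⊆ o) := fun U => by
    refine ⟨by rw [Finset.card_smul_finset], ?_, ?_⟩
    · rw [Finset.disjoint_iff_inter_eq_empty, Finset.disjoint_iff_inter_eq_empty, ← Finset.card_eq_zero,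
        card_inter_smul, Finset.card_eq_zero]
    · rw [exists_octad_smul ha, Finset.smul_finset_union, inv_smul_smul]
  refine ⟨count_set stageTriple (U := tripleU) (by rwa [tripleU_setSet]) hl tripleTriple2 1 210 (by simp [L3]) (by decide +kernel) a _ fun z => ?_,
    count_set stageTriple (U := tripleU) (by rwa [tripleU_setSet]) hl tripleTriple4 0 1120 (by simp [L3]) (by decide +kernel) a _ fun z => ?_,
    fun U U' hU hU' hd hd' hiff => ?_⟩
  · obtain ⟨k1, k2, k3⟩ := key z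
    simp only [tripleU_setSet, Set.mem_setOf_eq, k1, k2, k3]
    split_ifs with h <;> simp [h]
  · obtain ⟨k1, k2, k3⟩ := key z
    simp only [tripleU_setSet, Set.mem_setOf_eq, k1, k2, k3]
    split_ifs with h <;> simp [h]
  obtain ⟨k1, k2, k3⟩ := key U
  obtain ⟨l1, l2, l3⟩ := key U'
  have hp := exists_same_part (S := Orb.setSet) (l := L3) (by decide)
    (by obtain ⟨p, h1, h2, h3⟩ := hc _ (k1.mp hU) (k2.mp hd); exact ⟨p, h1, h2, h3⟩)
    (by obtain ⟨p, h1, h2, h3⟩ := hc _ (l1.mp hU') (l2.mp hd'); exact ⟨p, h1, h2, h3⟩)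
    (by rw [k3, l3] at hiff; exact if_congr hiff rfl rfl)
  exact move_set stageTriple (stabilizer_pts 7) hl ha hp

end Cfsg.Agent.S1562
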