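import Cfsg.Statements.S1563
import Cfsg.Agent.Lib.Spor.Golay.CensusPairPair

set_option autoImplicit false
open scoped Pointwise
open Cfsg

namespace Cfsg.Agent.S1563

open Cfsg.Agent.Spor.Golay Cfsg.Agent.Spor.Golay.Census

/-- The stabiliser of a pair of points (setwise) is a maximal proper subgroup of the group of the length-24 code. -/
theorem result (s : Finset Cfsg.GolayPt) (hs : s.card = 2) : IsCoatom (MulAction.stabilizer Cfsg.M24 s) := by
  obtain ⟨a, ha, e⟩ := exists_pair hs
  have h := maximal_set stagePair pairU_ok pairU_zero pairPair0 ⟨pairPair0_zero.1, pairPair0_zero.2.1⟩ ![pairPair1, pairPair2]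
    (by intro i; fin_cases i; exacts [pairPair1_ok, pairPair2_ok]) (by decide +kernel) (by simp [List.ofFn_succ]) pairPair_cover (N := 276) (by decide +kernel)
    (by norm_num) (by decide +kernel) (by decide +kernel) ⟨a, ha⟩
  rw [← e]
  exact h

end Cfsg.Agent.S1563
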