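import Cfsg.Statements.S1565
import Cfsg.Agent.Lib.Spor.Golay.CensusOctOct

set_option autoImplicit false
open scoped Pointwise
open Cfsg

namespace Cfsg.Agent.S1565

open Cfsg.Agent.Spor.Golay Cfsg.Agent.Spor.Golay.Census

/-- The stabiliser of an octad is a maximal proper subgroup of the group of the length-24 code. -/
theorem result (o : Finset Cfsg.GolayPt) (ho : o ∈ Cfsg.octads) : IsCoatom (MulAction.stabilizer Cfsg.M24 o) := by
  obtain ⟨a, ha, e⟩ := exists_smul_octA ho
  have h := maximal_set stageOct octU_ok octU_zero octOct0 ⟨octOct0_zero.1, octOct0_zero.2.1⟩ ![octOct1, octOct2, octOct3]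
    (by intro i; fin_cases i; exacts [octOct1_ok, octOct2_ok, octOct3_ok]) (by decide +kernel) (by simp [List.ofFn_succ]) octOct_cover (N := 759) (by decide +kernel)
    (by norm_num) (by decide +kernel) (by decide +kernel) ⟨a, ha⟩
  rw [← e]
  exact h

end Cfsg.Agent.S1565
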