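import Cfsg.Statements.S1566
import Cfsg.Agent.Lib.Spor.Golay.CensusDuumDuum

set_option autoImplicit false
open scoped Pointwise
open Cfsg

namespace Cfsg.Agent.S1566

open Cfsg.Agent.Spor.Golay Cfsg.Agent.Spor.Golay.Census

/-- The setwise stabiliser of a dodecad together with its complement is a maximal proper subgroup of the group of the length-24 code. -/
theorem result (d : Finset Cfsg.GolayPt) (hd : d ∈ Cfsg.dodecads) : IsCoatom (MulAction.stabilizer Cfsg.M24 ({d, dᶜ} : Finset (Finset Cfsg.GolayPt))) := by
  obtain ⟨a, ha, e⟩ := exists_duum hd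
  have h := maximal_fam stageDuum duumU_ok duumU_zero duumDuum0 ⟨duumDuum0_zero.1, duumDuum0_zero.2.1⟩ ![duumDuum1, duumDuum2]
    (by intro i; fin_cases i; exacts [duumDuum1_ok, duumDuum2_ok]) (by simp [List.ofFn_succ]) duumDuum_cover (N := 1288) (by decide +kernel)
    (by norm_num) (by decide +kernel) (by decide +kernel) ⟨a, ha⟩
  rw [← e]
  exact h

end Cfsg.Agent.S1566
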