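import Cfsg.Statements.S1567
import Cfsg.Agent.Lib.Spor.Leech.Lattice

set_option autoImplicit false
open Cfsg

namespace Cfsg.Agent.S1567

open Cfsg.Agent.Spor in
theorem twos_norm {b : ℕ} (hb : b ∈ Golay.basis) : sqNorm (Leech.twos b) = 32 := by
  revert b; decide +kernel

open Cfsg.Agent.Spor in
theorem oddGen_norm : sqNorm Leech.oddGen = 32 := by decide +kernel

/-- The rank-24 lattice is the additive subgroup generated by its 196560 minimal vectors. -/
theorem result : AddSubgroup.closure {x : Cfsg.GolayPt → ℤ | x ∈ Cfsg.leechLattice ∧ Cfsg.sqNorm x = 32} = Cfsg.leechLattice := by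
  refine le_antisymm ((AddSubgroup.closure_le _).2 fun x hx => hx.1) ?_
  refine Agent.Spor.Leech.le_of_gens (fun b hb => ?_) (fun i s hs => ?_) ?_
  · exact AddSubgroup.subset_closure
      ⟨Agent.Spor.Leech.mem_lattice.2 (Agent.Spor.Leech.twos_good (Agent.Spor.Golay.basis_octad b hb)), twos_norm hb⟩
  · exact AddSubgroup.subset_closure
      ⟨Agent.Spor.Leech.mem_lattice.2 (Agent.Spor.Leech.fours_good i hs), Agent.Spor.Leech.fours_norm i hs⟩
  · exact AddSubgroup.subset_closure
      ⟨Agent.Spor.Leech.mem_lattice.2 Agent.Spor.Leech.oddGen_good, oddGen_norm⟩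

end Cfsg.Agent.S1567
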