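import Cfsg.Statements.S1568
import Cfsg.Agent.Lib.Spor.Leech.Shapes

set_option autoImplicit false
open Cfsg

namespace Cfsg.Agent.S1568

open Cfsg.Agent.Spor.Leech

/-- Values for the twelve-point shape. -/
def twelve : Bool → List ℤ
  | true => [1, -1]
  | false => [0]

theorem even_split {x : Vec} :
    (x ∈ leechLattice ∧ sqNorm x = 48 ∧ ∀ i, x i = 0 ∨ x i = 2 ∨ x i = -2) ↔ x ∈ evenSet twelve 12 := by
  constructor
  · rintro ⟨hx, hn, hv⟩
    obtain ⟨a, hxa, hc, h4, hk, hm⟩ := (evenSet_iff (x := x) (k := 12) (by norm_num)).2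
      ⟨hx, by rw [hn]; norm_num, by rcases hv none with h | h | h <;> rw [h] <;> norm_num⟩
    refine ⟨a, hxa, hc, h4, hk, fun i => ?_⟩
    have h1 := hm i
    have h2 : a i = 0 ∨ a i = 1 ∨ a i = -1 := by
      have h3 := hv i; rw [hxa i] at h3; omega
    revert h1
    generalize decide (i ∈ support₂ (par a)) = b
    rcases h2 with h | h | h <;> rw [h] <;> cases b <;> decide
  · rintro ⟨a, hxa, hc, h4, hk, hv⟩
    have hsub : x ∈ evenSet evenVals 12 := ⟨a, hxa, hc, h4, hk, fun i => by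
      have h1 := hv i
      revert h1
      generalize decide (i ∈ support₂ (par a)) = b
      cases b <;> simp [twelve, evenVals] <;> intro h <;> omega⟩
    obtain ⟨h1, h2, -⟩ := (evenSet_iff (by norm_num)).1 hsub
    refine ⟨h1, by rw [h2]; norm_num, fun i => ?_⟩
    have h3 := hv i
    revert h3
    generalize decide (i ∈ support₂ (par a)) = b
    cases b <;> simp [twelve, hxa i] <;> intro h <;> omega

theorem four_split {x : Vec} :
    (x ∈ leechLattice ∧ sqNorm x = 48 ∧ ∃ i, |x i| = 4) ↔ x ∈ evenSet evenVals 12 \ evenSet twelve 12 := by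
  rw [Set.mem_sdiff, ← even_split]
  constructor
  · rintro ⟨hx, hn, i, hi⟩
    refine ⟨(evenSet_iff (by norm_num)).2 ⟨hx, by rw [hn]; norm_num, ?_⟩, fun ⟨_, _, h⟩ => ?_⟩
    · obtain ⟨m, hp, -, -⟩ := (coe_leech ▸ hx : x ∈ leechSet)
      have h1 := hp i; have h2 := hp none
      unfold Int.ModEq at h1 h2
      rcases (abs_eq (by norm_num)).1 hi with h | h <;> omega
    · rcases h i with h | h | h <;> rw [h] at hi <;> norm_num at hi
  · rintro ⟨hx, hnot⟩
    obtain ⟨hx', hn, -⟩ := (evenSet_iff (by norm_num)).1 hx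
    obtain ⟨a, hxa, hc, h4, hk, hv⟩ := hx
    refine ⟨hx', by rw [hn]; norm_num, ?_⟩
    by_contra hcon
    refine hnot ⟨hx', by rw [hn]; norm_num, fun i => ?_⟩
    have hle : a i * a i ≤ 12 := by
      have h := Finset.single_le_sum (f := fun j => a j * a j) (fun j _ => mul_self_nonneg (a j)) (Finset.mem_univ i)
      simp only [hk] at h
      exact_mod_cast h
    have hne : a i * a i ≠ 9 := by
      intro h9
      have hodd : i ∈ support₂ (par a) := by
        rw [support₂, Finset.mem_filter]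
        refine ⟨Finset.mem_univ _, intCast_zmod2_ne_zero.2 ?_⟩
        rw [← sq_emod_four, h9]; norm_num
      have hcard : 8 ≤ (support₂ (par a)).card := by
        have := Finset.card_pos.2 ⟨i, hodd⟩
        rcases code_weight hc with h | h | h | h | h <;> omega
      have h1 : ∑ j, (a j % 2) = ((support₂ (par a)).card : ℤ) := sum_emod_two a
      have h2 : ∑ j, (a j * a j - a j % 2) ≥ (a i * a i - a i % 2) :=
        Finset.single_le_sum (f := fun j => a j * a j - a j % 2) (fun j _ => by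
          have := mul_self_nonneg (a j); have := sq_emod_four (a j); omega) (Finset.mem_univ i)
      rw [Finset.sum_sub_distrib, hk, h1, h9] at h2
      omega
    have hlo : -3 ≤ a i := by nlinarith
    have hhi : a i ≤ 3 := by nlinarith
    rw [hxa i]
    simp only [not_exists] at hcon
    have h5 := hcon i
    rw [hxa i] at h5
    generalize a i = v at *
    interval_cases v <;> norm_num at *

theorem threes_split {x : Vec} :
    (x ∈ leechLattice ∧ sqNorm x = 48 ∧ ∃ i j k, i ≠ j ∧ j ≠ k ∧ i ≠ k ∧ |x i| = 3 ∧ |x j| = 3 ∧ |x k| = 3) ↔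
      x ∈ oddSet [0, -1] 3 := by
  constructor
  · rintro ⟨hx, hn, i, j, l, hij, hjl, hil, hi, hj, hl⟩
    have hodd : x none % 2 = 1 := by
      obtain ⟨m, hp, -, -⟩ := (coe_leech ▸ hx : x ∈ leechSet)
      have h1 := hp i; have h2 := hp none
      unfold Int.ModEq at h1 h2
      rcases (abs_eq (by norm_num)).1 hi with h | h <;> omega
    obtain ⟨c, hc, b, rfl, hk, h2, hv⟩ := (oddSet_iff (x := x) (k := 3) (by norm_num)).2
      ⟨hx, by rw [hn]; norm_num, hodd⟩
    have hb : ∀ p, |flip c (fun i => 1 + 4 * b i) p| = 3 → b p = -1 := fun p hp => by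
      have h1 := hv p
      simp only [oddVals, List.mem_cons, List.not_mem_nil, or_false] at h1
      rcases (abs_eq (by norm_num)).1 hp with h | h <;> simp only [Agent.Spor.Leech.flip] at h <;>
        split_ifs at h <;> omega
    refine ⟨c, hc, b, rfl, hk, h2, fun p => ?_⟩
    have h1 := hv p
    simp only [oddVals, List.mem_cons, List.not_mem_nil, or_false] at h1 ⊢
    by_contra hcon
    have hp1 : b p = 1 := by omega
    have h3 : ∑ q ∈ ({i, j, l, p} : Finset GolayPt), oddCost (b q) ≤ 3 :=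
      hk ▸ Finset.sum_le_univ_sum_of_nonneg (fun q => Nat.zero_le _)
    have hne : p ≠ i ∧ p ≠ j ∧ p ≠ l := by
      refine ⟨?_, ?_, ?_⟩ <;> rintro rfl
      · exact absurd (hb _ hi) (by omega)
      · exact absurd (hb _ hj) (by omega)
      · exact absurd (hb _ hl) (by omega)
    rw [Finset.sum_insert (by simp [hij, hil, hne.1.symm]), Finset.sum_insert (by simp [hjl, hne.2.1.symm]),
      Finset.sum_pair hne.2.2.symm, hb i hi, hb j hj, hb l hl, hp1] at h3
    revert h3; decide
  · intro hx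
    have hx' := hx
    obtain ⟨c, hc, b, rfl, hk, h2, hv⟩ := hx'
    have hsub : flip c (fun i => 1 + 4 * b i) ∈ oddSet oddVals 3 := ⟨c, hc, b, rfl, hk, h2, fun p => by
      have h1 := hv p
      simp only [oddVals, List.mem_cons, List.not_mem_nil, or_false] at h1 ⊢
      omega⟩
    obtain ⟨h1, hn, -⟩ := (oddSet_iff (by norm_num)).1 hsub
    refine ⟨h1, by rw [hn]; norm_num, ?_⟩
    have hcard : (Finset.univ.filter fun p => b p = -1).card = 3 := by
      rw [Finset.card_filter, ← hk]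
      refine Finset.sum_congr rfl fun p _ => ?_
      have h1 := hv p
      simp only [List.mem_cons, List.not_mem_nil, or_false] at h1
      rcases h1 with h | h <;> simp [h, oddCost]
    obtain ⟨i, j, l, hij, hil, hjl, he⟩ := Finset.card_eq_three.1 hcard
    have hb : ∀ p ∈ ({i, j, l} : Finset GolayPt), |flip c (fun i => 1 + 4 * b i) p| = 3 := fun p hp => by
      rw [← he, Finset.mem_filter] at hp
      simp only [Agent.Spor.Leech.flip]
      split_ifs <;> rw [hp.2] <;> norm_num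
    exact ⟨i, j, l, hij, hjl, hil, hb i (by simp), hb j (by simp), hb l (by simp)⟩

theorem five_split {x : Vec} :
    (x ∈ leechLattice ∧ sqNorm x = 48 ∧ ∃ i, |x i| = 5) ↔ x ∈ oddSet oddVals 3 \ oddSet [0, -1] 3 := by
  constructor
  · rintro ⟨hx, hn, i, hi⟩
    have hodd : x none % 2 = 1 := by
      obtain ⟨m, hp, -, -⟩ := (coe_leech ▸ hx : x ∈ leechSet)
      have h1 := hp i; have h2 := hp none
      unfold Int.ModEq at h1 h2
      rcases (abs_eq (by norm_num)).1 hi with h | h <;> omega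
    refine ⟨(oddSet_iff (by norm_num)).2 ⟨hx, by rw [hn]; norm_num, hodd⟩, ?_⟩
    rintro ⟨c, -, b, rfl, -, -, hv⟩
    have h1 := hv i
    simp only [List.mem_cons, List.not_mem_nil, or_false] at h1
    rcases (abs_eq (by norm_num)).1 hi with h | h <;> simp only [Agent.Spor.Leech.flip] at h <;>
      split_ifs at h <;> omega
  · rintro ⟨hx, hnot⟩
    obtain ⟨h1, hn, -⟩ := (oddSet_iff (by norm_num)).1 hx
    obtain ⟨c, hc, b, rfl, hk, h2, hv⟩ := hx
    refine ⟨h1, by rw [hn]; norm_num, ?_⟩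
    by_contra hcon
    refine hnot ⟨c, hc, b, rfl, hk, h2, fun p => ?_⟩
    have h3 := hv p
    simp only [oddVals, List.mem_cons, List.not_mem_nil, or_false] at h3 ⊢
    by_contra hne
    have hp1 : b p = 1 := by omega
    refine hcon ⟨p, ?_⟩
    simp only [Agent.Spor.Leech.flip]
    split_ifs <;> rw [hp1] <;> norm_num

theorem sub_even : evenSet twelve 12 ⊆ evenSet evenVals 12 := fun x hx => by
  obtain ⟨h1, h2, h3⟩ := even_split.2 hx
  exact (evenSet_iff (by norm_num)).2 ⟨h1, by rw [h2]; norm_num, by rcases h3 none with h | h | h <;> rw [h] <;> norm_num⟩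

theorem sub_odd : oddSet [0, -1] 3 ⊆ oddSet oddVals 3 := by
  rintro x ⟨c, hc, b, rfl, hk, h2, hv⟩
  refine ⟨c, hc, b, rfl, hk, h2, fun p => ?_⟩
  have h1 := hv p
  simp only [oddVals, List.mem_cons, List.not_mem_nil, or_false] at h1 ⊢
  omega

theorem twelve_ok : (∀ b, (twelve b).Nodup) ∧ (∀ b, ∀ v ∈ twelve b, v % 2 = if b then 1 else 0) := by decide

theorem finite_sets {S : Set Vec} (h : ∀ x ∈ S, sqNorm x = 48) : S.Finite := (finite_norm 48).subset h

/-- Shape census of the lattice vectors of sum of squares 48 (customary norm 6): the four families (2^12, 0^12), (±3^3, ±1^21), (±4, ±2^8, 0^15) and (±5, ±1^23) have 5275648, 8290304, 3108864 and 98304 members. -/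
theorem result : {x : Cfsg.GolayPt → ℤ | x ∈ Cfsg.leechLattice ∧ Cfsg.sqNorm x = 48 ∧ ∀ i, x i = 0 ∨ x i = 2 ∨ x i = -2}.ncard = 5275648 ∧ {x : Cfsg.GolayPt → ℤ | x ∈ Cfsg.leechLattice ∧ Cfsg.sqNorm x = 48 ∧ ∃ i j k, i ≠ j ∧ j ≠ k ∧ i ≠ k ∧ |x i| = 3 ∧ |x j| = 3 ∧ |x k| = 3}.ncard = 8290304 ∧ {x : Cfsg.GolayPt → ℤ | x ∈ Cfsg.leechLattice ∧ Cfsg.sqNorm x = 48 ∧ ∃ i, |x i| = 4}.ncard = 3108864 ∧ {x : Cfsg.GolayPt → ℤ | x ∈ Cfsg.leechLattice ∧ Cfsg.sqNorm x = 48 ∧ ∃ i, |x i| = 5}.ncard = 98304 := by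
  refine ⟨?_, ?_, ?_, ?_⟩
  · rw [show {x : Cfsg.GolayPt → ℤ | x ∈ Cfsg.leechLattice ∧ Cfsg.sqNorm x = 48 ∧
      ∀ i, x i = 0 ∨ x i = 2 ∨ x i = -2} = evenSet twelve 12 from Set.ext fun _ => even_split,
      ncard_evenSet_weights twelve twelve_ok.1 twelve_ok.2]
    decide +kernel
  · rw [show {x : Cfsg.GolayPt → ℤ | x ∈ Cfsg.leechLattice ∧ Cfsg.sqNorm x = 48 ∧
      ∃ i j k, i ≠ j ∧ j ≠ k ∧ i ≠ k ∧ |x i| = 3 ∧ |x j| = 3 ∧ |x k| = 3} = oddSet [0, -1] 3 from
        Set.ext fun _ => threes_split,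
      ncard_oddSet _ (by decide)]
    decide +kernel
  · rw [show {x : Cfsg.GolayPt → ℤ | x ∈ Cfsg.leechLattice ∧ Cfsg.sqNorm x = 48 ∧ ∃ i, |x i| = 4} =
        evenSet evenVals 12 \ evenSet twelve 12 from Set.ext fun _ => four_split,
      Set.ncard_sdiff sub_even (finite_sets fun x hx => (even_split.2 hx).2.1),
      ncard_evenSet_weights twelve twelve_ok.1 twelve_ok.2,
      ncard_evenSet_weights evenVals evenVals_nodup evenVals_parity]
    decide +kernel
  · rw [show {x : Cfsg.GolayPt → ℤ | x ∈ Cfsg.leechLattice ∧ Cfsg.sqNorm x = 48 ∧ ∃ i, |x i| = 5} =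
        oddSet oddVals 3 \ oddSet [0, -1] 3 from Set.ext fun _ => five_split,
      Set.ncard_sdiff sub_odd (finite_sets fun x hx => (threes_split.2 hx).2.1),
      ncard_oddSet _ (by decide), ncard_oddSet _ (by decide)]
    decide +kernel

end Cfsg.Agent.S1568
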