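import Cfsg.Statements.S1573
import Cfsg.Agent.Lib.Spor.Leech.Dist

set_option autoImplicit false
open Cfsg

namespace Cfsg.Agent.S1573

open Cfsg.Agent.Spor.Leech

theorem transfer {v : Vec} (hv : v ∈ leechLattice) (hn : sqNorm v = 32) (D : ℤ) :
    {w : Vec | w ∈ leechLattice ∧ sqNorm w = 32 ∧ dotInt v w = D}.ncard = (distSet D).ncard := by
  have hp : patF 2 4 ∈ leechLattice := mem_of_inL (by decide +kernel)
  obtain ⟨g, v', h1, h2⟩ := (orbit_32 hv hn).trans (orbit_32 hp (by decide +kernel)).symm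
  refine Set.ncard_congr (fun w hw => ((g • (⟨w, hw.1⟩ : leechLattice) : leechLattice) : Vec)) ?_ ?_ ?_
  · rintro w ⟨hw, hwn, hd⟩
    refine ⟨(g • (⟨w, hw⟩ : leechLattice)).2, by rw [co_norm]; exact hwn, ?_⟩
    rw [← h2, co_dot, h1]
    exact hd
  · intro a b ha hb e
    exact congrArg (fun u : leechLattice => (u : Vec)) (MulAction.injective g (Subtype.ext e))
  · rintro y ⟨hy, hyn, hd⟩
    refine ⟨((g⁻¹ • (⟨y, hy⟩ : leechLattice) : leechLattice) : Vec), ⟨(g⁻¹ • (⟨y, hy⟩ : leechLattice)).2,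
      by rw [co_norm]; exact hyn, ?_⟩, by simp⟩
    rw [← h1, ← co_dot g v' _, smul_inv_smul, h2]
    exact hd

/-- Census of minimal vectors by inner product with a fixed minimal vector: 4600 have customary inner product −2, 47104 have −1, and 93150 are orthogonal. -/
theorem result (v : Cfsg.GolayPt → ℤ) (hv : v ∈ Cfsg.leechLattice) (hvn : Cfsg.sqNorm v = 32) : {w : Cfsg.GolayPt → ℤ | w ∈ Cfsg.leechLattice ∧ Cfsg.sqNorm w = 32 ∧ Cfsg.dotInt v w = -16}.ncard = 4600 ∧ {w : Cfsg.GolayPt → ℤ | w ∈ Cfsg.leechLattice ∧ Cfsg.sqNorm w = 32 ∧ Cfsg.dotInt v w = -8}.ncard = 47104 ∧ {w : Cfsg.GolayPt → ℤ | w ∈ Cfsg.leechLattice ∧ Cfsg.sqNorm w = 32 ∧ Cfsg.dotInt v w = 0}.ncard = 93150 := by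
  obtain ⟨h1, h2, h3⟩ := dist_counts
  exact ⟨(transfer hv hvn _).trans h1, (transfer hv hvn _).trans h2, (transfer hv hvn _).trans h3⟩

end Cfsg.Agent.S1573
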