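import Cfsg.Statements.S1581
import Cfsg.Agent.Lib.Spor.Leech.ThreePairs

set_option autoImplicit false
open Cfsg

open Cfsg.Agent.Spor.Leech Cfsg.Agent.Spor.Leech.ThreePairs

namespace Cfsg.Agent.S1581

/-- The McLaughlin group acts with rank 3 and subdegrees 1, 112, 162 on its 275 points: the point stabiliser has two orbits on the remaining points, distinguished by customary inner product 1 or 2 with the fixed point. -/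
theorem result (u v x : ↥Cfsg.leechLattice) (hu : Cfsg.sqNorm (u : Cfsg.GolayPt → ℤ) = 48) (hv : Cfsg.sqNorm (v : Cfsg.GolayPt → ℤ) = 32 ∧ Cfsg.sqNorm ((u - v) : Cfsg.GolayPt → ℤ) = 32) (hx : x ∈ {x : ↥Cfsg.leechLattice | Cfsg.sqNorm (x : Cfsg.GolayPt → ℤ) = 32 ∧ Cfsg.sqNorm ((u - x) : Cfsg.GolayPt → ℤ) = 32 ∧ Cfsg.dotInt (v : Cfsg.GolayPt → ℤ) (x : Cfsg.GolayPt → ℤ) = 16}) : {y : ↥Cfsg.leechLattice | y ∈ {x : ↥Cfsg.leechLattice | Cfsg.sqNorm (x : Cfsg.GolayPt → ℤ) = 32 ∧ Cfsg.sqNorm ((u - x) : Cfsg.GolayPt → ℤ) = 32 ∧ Cfsg.dotInt (v : Cfsg.GolayPt → ℤ) (x : Cfsg.GolayPt → ℤ) = 16} ∧ Cfsg.dotInt (x : Cfsg.GolayPt → ℤ) (y : Cfsg.GolayPt → ℤ) = 8}.ncard = 112 ∧ {y : ↥Cfsg.leechLattice | y ∈ {x : ↥Cfsg.leechLattice | Cfsg.sqNorm (x : Cfsg.GolayPt → ℤ) = 32 ∧ Cfsg.sqNorm ((u - x) : Cfsg.GolayPt →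 ℤ) = 32 ∧ Cfsg.dotInt (v : Cfsg.GolayPt → ℤ) (x : Cfsg.GolayPt → ℤ) = 16} ∧ y ≠ x ∧ Cfsg.dotInt (x : Cfsg.GolayPt → ℤ) (y : Cfsg.GolayPt → ℤ) = 16}.ncard = 162 ∧ ∀ y ∈ {x : ↥Cfsg.leechLattice | Cfsg.sqNorm (x : Cfsg.GolayPt → ℤ) = 32 ∧ Cfsg.sqNorm ((u - x) : Cfsg.GolayPt → ℤ) = 32 ∧ Cfsg.dotInt (v : Cfsg.GolayPt → ℤ) (x : Cfsg.GolayPt → ℤ) = 16}, ∀ y' ∈ {x : ↥Cfsg.leechLattice | Cfsg.sqNorm (x : Cfsg.GolayPt → ℤ) = 32 ∧ Cfsg.sqNorm ((u - x) : Cfsg.GolayPt → ℤ) = 32 ∧ Cfsg.dotInt (v : Cfsg.GolayPt → ℤ) (x : Cfsg.GolayPt → ℤ) = 16}, y ≠ x → y' ≠ x → Cfsg.dotInt (x : Cfsg.GolayPt → ℤ) (y : Cfsg.GolayPt → ℤ) = Cfsg.dotInt (x : Cfsg.GolayPt → ℤ) (y' : Cfsg.GolayPt → ℤ) → ∃ g : ↥Cfsg.Co0, g • u = u ∧ g • v = v ∧ g • x = x ∧ g • y = y' := by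
  have hv' := (pair_iff hu).1 hv
  have e : {x : ↥leechLattice | sqNorm (x : GolayPt → ℤ) = 32 ∧ sqNorm ((u - x) : GolayPt → ℤ) = 32 ∧
      dotInt (v : GolayPt → ℤ) (x : GolayPt → ℤ) = 16} = shellTwo u v 24 16 := by
    ext x
    show _ ↔ _ ∧ _ ∧ _
    constructor
    · rintro ⟨a, b, c⟩; exact ⟨a, ((pair_iff hu).1 ⟨a, b⟩).2, c⟩
    · rintro ⟨a, b, c⟩; exact ⟨a, ((pair_iff hu).2 ⟨a, b⟩).2, c⟩
  rw [e] at hx ⊢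
  obtain ⟨hA, hB, tA, tB⟩ := suborbits hu hv' hx
  have split : ∀ c, {y : ↥leechLattice | y ∈ shellTwo u v 24 16 ∧ dotInt (x : GolayPt → ℤ) (y : GolayPt → ℤ) = c} =
      shellThree u v x 24 16 c := fun c => by
    ext z; simp [shellTwo, shellThree, and_assoc]
  refine ⟨(congrArg Set.ncard (split 8)).trans hA, Eq.trans (congrArg Set.ncard ?_) hB,
    fun y hy y' hy' hne hne' hd => ?_⟩
  · rw [← split 16]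
    ext z
    refine ⟨fun h => ⟨h.1, h.2.2⟩, fun h => ⟨h.1, fun ez => ?_, h.2⟩⟩
    subst ez
    have hd := h.2
    rw [dot_self, hx.1] at hd
    omega
  · rcases dot_cases hu hv' hx hy hne with h | h
    · exact tA y ⟨hy.1, hy.2.1, hy.2.2, h⟩ y' ⟨hy'.1, hy'.2.1, hy'.2.2, hd ▸ h⟩
    · exact tB y ⟨hy.1, hy.2.1, hy.2.2, h⟩ y' ⟨hy'.1, hy'.2.1, hy'.2.2, hd ▸ h⟩

end Cfsg.Agent.S1581
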