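import Cfsg.Statements.S1584
import Cfsg.Agent.Lib.Spor.Leech.HSPairs

set_option autoImplicit false
open Cfsg

open Cfsg.Agent.Spor.Leech Cfsg.Agent.Spor.Leech.HSPairs

namespace Cfsg.Agent.S1584

/-- The Higman–Sims group acts with rank 3 and subdegrees 1, 22, 77 on its 100 points, the orbits of a point stabiliser being distinguished by customary inner product 1 with the fixed point. -/
theorem result (v w x : ↥Cfsg.leechLattice) (hv : Cfsg.sqNorm (v : Cfsg.GolayPt → ℤ) = 48) (hw : Cfsg.sqNorm (w : Cfsg.GolayPt → ℤ) = 48) (hvw : Cfsg.dotInt (v : Cfsg.GolayPt → ℤ) (w : Cfsg.GolayPt → ℤ) = -32) (hx : x ∈ {x : ↥Cfsg.leechLattice | Cfsg.sqNorm (x : Cfsg.GolayPt → ℤ) = 32 ∧ Cfsg.dotInt (v : Cfsg.GolayPt → ℤ) (x : Cfsg.GolayPt → ℤ) = 24 ∧ Cfsg.dotInt (w : Cfsg.GolayPt → ℤ) (x : Cfsg.GolayPt → ℤ) = -24}) :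 {y : ↥Cfsg.leechLattice | y ∈ {x : ↥Cfsg.leechLattice | Cfsg.sqNorm (x : Cfsg.GolayPt → ℤ) = 32 ∧ Cfsg.dotInt (v : Cfsg.GolayPt → ℤ) (x : Cfsg.GolayPt → ℤ) = 24 ∧ Cfsg.dotInt (w : Cfsg.GolayPt → ℤ) (x : Cfsg.GolayPt → ℤ) = -24} ∧ Cfsg.dotInt (x : Cfsg.GolayPt → ℤ) (y : Cfsg.GolayPt → ℤ) = 8}.ncard = 22 ∧ {y : ↥Cfsg.leechLattice | y ∈ {x : ↥Cfsg.leechLattice | Cfsg.sqNorm (x : Cfsg.GolayPt → ℤ) = 32 ∧ Cfsg.dotInt (v : Cfsg.GolayPt → ℤ) (x : Cfsg.GolayPt → ℤ) = 24 ∧ Cfsg.dotInt (w : Cfsg.GolayPt → ℤ) (x : Cfsg.GolayPt → ℤ) = -24} ∧ y ≠ x ∧ Cfsg.dotInt (x : Cfsg.GolayPt → ℤ) (y : Cfsg.GolayPt → ℤ) ≠ 8}.ncard = 77 ∧ ∀ y ∈ {x : ↥Cfsg.leechLattice | Cfsg.sqNorm (x : Cfsg.GolayPt → ℤ) = 32 ∧ Cfsg.dotInt (v : Cfsg.GolayPt → ℤ) (x : Cfsg.GolayPt → ℤ) = 24 ∧ Cfsg.dotInt (w : Cfsg.GolayPt → ℤ) (x : Cfsg.GolayPt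 → ℤ) = -24}, ∀ y' ∈ {x : ↥Cfsg.leechLattice | Cfsg.sqNorm (x : Cfsg.GolayPt → ℤ) = 32 ∧ Cfsg.dotInt (v : Cfsg.GolayPt → ℤ) (x : Cfsg.GolayPt → ℤ) = 24 ∧ Cfsg.dotInt (w : Cfsg.GolayPt → ℤ) (x : Cfsg.GolayPt → ℤ) = -24}, y ≠ x → y' ≠ x → (Cfsg.dotInt (x : Cfsg.GolayPt → ℤ) (y : Cfsg.GolayPt → ℤ) = 8 ↔ Cfsg.dotInt (x : Cfsg.GolayPt → ℤ) (y' : Cfsg.GolayPt → ℤ) = 8) → ∃ g : ↥Cfsg.Co0, g • v = v ∧ g • w = w ∧ g • x = x ∧ g • y = y' := by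
  have hx' : x ∈ shellTwo v w 24 (-24) := hx
  obtain ⟨hA, hB, tA, tB⟩ := suborbits hv hw hvw hx'
  have split : ∀ c, {y : ↥leechLattice | y ∈ shellTwo v w 24 (-24) ∧
      dotInt (x : GolayPt → ℤ) (y : GolayPt → ℤ) = c} = shellThree v w x 24 (-24) c := fun c => by
    ext z; simp [shellTwo, shellThree, and_assoc]
  refine ⟨(congrArg Set.ncard (split 8)).trans hA, Eq.trans (congrArg Set.ncard ?_) hB,
    fun y hy y' hy' hne hne' hd => ?_⟩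
  · rw [← split 16]
    ext z
    refine ⟨fun h => ⟨h.1, ?_⟩, fun h => ⟨h.1, fun ez => ?_, fun h8 => ?_⟩⟩
    · exact (dot_cases hv hw hvw hx' h.1 h.2.1).resolve_left h.2.2
    · subst ez
      have hd := h.2
      rw [dot_self, hx'.1] at hd
      omega
    · have hd := h.2
      omega
  · rcases dot_cases hv hw hvw hx' hy hne with h | h
    · exact tA y ⟨hy.1, hy.2.1, hy.2.2, h⟩ y' ⟨hy'.1, hy'.2.1, hy'.2.2, hd.1 h⟩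
    · refine tB y ⟨hy.1, hy.2.1, hy.2.2, h⟩ y' ⟨hy'.1, hy'.2.1, hy'.2.2, ?_⟩
      exact (dot_cases hv hw hvw hx' hy' hne').resolve_left fun h' => by have := hd.2 h'; omega

end Cfsg.Agent.S1584
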