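import Cfsg.Statements.S1587
import Cfsg.Prelude.Def_Sporadic_a

set_option autoImplicit false
open Matrix
open Cfsg

namespace Cfsg.Agent.S1587

theorem dvd_zero_or_four {B : Matrix (Fin 24) (Fin 24) ℤ} (hpos : ∀ x : Fin 24 → ℤ, x ≠ 0 → 0 < x ⬝ᵥ (B *ᵥ x))
    (heven : ∀ x : Fin 24 → ℤ, (2 : ℤ) ∣ x ⬝ᵥ (B *ᵥ x)) (h2 : ∀ x : Fin 24 → ℤ, x ⬝ᵥ (B *ᵥ x) ≠ 2)
    (x : Fin 24 → ℤ) : x = 0 ∨ 4 ≤ x ⬝ᵥ (B *ᵥ x) := by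
  by_cases h : x = 0
  · exact Or.inl h
  · have := hpos x h
    have := heven x
    have := h2 x
    exact Or.inr (by omega)

/-- First step of the characterisation of the rank-24 lattice: in an even lattice without roots, norm-8 vectors congruent modulo 2 are equal, opposite or orthogonal. -/
theorem result (B : Matrix (Fin 24) (Fin 24) ℤ) (hsymm : B.IsSymm) (hpos : ∀ x : Fin 24 → ℤ, x ≠ 0 → 0 < x ⬝ᵥ (B *ᵥ x)) (heven : ∀ x : Fin 24 → ℤ, (2 : ℤ) ∣ x ⬝ᵥ (B *ᵥ x)) (h2 : ∀ x : Fin 24 → ℤ, x ⬝ᵥ (B *ᵥ x) ≠ 2) (x y : Fin 24 → ℤ) (hx : x ⬝ᵥ (B *ᵥ x) = 8) (hy : y ⬝ᵥ (B *ᵥ y) = 8) (hc : ∀ i, (2 : ℤ) ∣ (x - y) i) : y = x ∨ y = -x ∨ x ⬝ᵥ (B *ᵥ y) = 0 := by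
  choose z hz using hc
  have hxy : x = y + 2 • z := by
    funext i; have := hz i; rw [Pi.sub_apply] at this; rw [Pi.add_apply, Pi.smul_apply, two_nsmul]; omega
  rcases dvd_zero_or_four hpos heven h2 z with h | h
  · exact Or.inl (by rw [hxy, h]; simp)
  rcases dvd_zero_or_four hpos heven h2 (y + z) with h' | h'
  · refine Or.inr (Or.inl ?_)
    rw [hxy, eq_neg_of_add_eq_zero_right h']; abel
  refine Or.inr (Or.inr ?_)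
  have hs : ∀ a b : Fin 24 → ℤ, a ⬝ᵥ (B *ᵥ b) = b ⬝ᵥ (B *ᵥ a) := fun a b => by
    rw [Matrix.dotProduct_mulVec, dotProduct_comm, ← Matrix.mulVec_transpose, hsymm.eq]
  have e1 : x ⬝ᵥ (B *ᵥ x) = y ⬝ᵥ (B *ᵥ y) + 4 * (y ⬝ᵥ (B *ᵥ z)) + 4 * (z ⬝ᵥ (B *ᵥ z)) := by
    rw [hxy]
    simp only [two_nsmul, Matrix.mulVec_add, add_dotProduct, dotProduct_add, hs z y]
    ring
  have e2 : (y + z) ⬝ᵥ (B *ᵥ (y + z)) = y ⬝ᵥ (B *ᵥ y) + 2 * (y ⬝ᵥ (B *ᵥ z)) + z ⬝ᵥ (B *ᵥ z) := by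
    simp only [Matrix.mulVec_add, add_dotProduct, dotProduct_add, hs z y]
    ring
  have e3 : x ⬝ᵥ (B *ᵥ y) = y ⬝ᵥ (B *ᵥ y) + 2 * (y ⬝ᵥ (B *ᵥ z)) := by
    rw [hxy]
    simp only [two_nsmul, Matrix.mulVec_add, add_dotProduct, dotProduct_add, hs z y]
    ring
  omega

end Cfsg.Agent.S1587
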