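import Cfsg.Statements.S1588
import Cfsg.Agent.Lib.Spor.Leech.Fibre

set_option autoImplicit false
open Matrix
open Cfsg

namespace Cfsg.Agent.S1588

theorem four_le {B : Matrix (Fin 24) (Fin 24) ℤ} (hpos : ∀ x : Fin 24 → ℤ, x ≠ 0 → 0 < x ⬝ᵥ (B *ᵥ x))
    (heven : ∀ x : Fin 24 → ℤ, (2 : ℤ) ∣ x ⬝ᵥ (B *ᵥ x)) (h2 : ∀ x : Fin 24 → ℤ, x ⬝ᵥ (B *ᵥ x) ≠ 2)
    (x : Fin 24 → ℤ) : x = 0 ∨ 4 ≤ x ⬝ᵥ (B *ᵥ x) := by
  by_cases h : x = 0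
  · exact Or.inl h
  · have := hpos x h
    have := heven x
    have := h2 x
    exact Or.inr (by omega)

theorem congr_pair {B : Matrix (Fin 24) (Fin 24) ℤ} (hsymm : B.IsSymm)
    (hpos : ∀ x : Fin 24 → ℤ, x ≠ 0 → 0 < x ⬝ᵥ (B *ᵥ x))
    (heven : ∀ x : Fin 24 → ℤ, (2 : ℤ) ∣ x ⬝ᵥ (B *ᵥ x)) (h2 : ∀ x : Fin 24 → ℤ, x ⬝ᵥ (B *ᵥ x) ≠ 2)
    (x y : Fin 24 → ℤ) (hx : x ⬝ᵥ (B *ᵥ x) ≤ 8) (hy : y ⬝ᵥ (B *ᵥ y) ≤ 8) (hc : ∀ i, (2 : ℤ) ∣ (x - y) i) :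
    x = y ∨ x = -y ∨ (x ⬝ᵥ (B *ᵥ x) = 8 ∧ y ⬝ᵥ (B *ᵥ y) = 8 ∧ x ⬝ᵥ (B *ᵥ y) = 0) := by
  choose z hz using hc
  have hxy : x = y + 2 • z := by
    funext i; have := hz i; rw [Pi.sub_apply] at this; rw [Pi.add_apply, Pi.smul_apply, two_nsmul]; omega
  rcases four_le hpos heven h2 z with h | h
  · exact Or.inl (by rw [hxy, h]; simp)
  rcases four_le hpos heven h2 (y + z) with h' | h'
  · refine Or.inr (Or.inl ?_)
    rw [hxy, eq_neg_of_add_eq_zero_right h']; abel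
  refine Or.inr (Or.inr ?_)
  have hs : ∀ a b : Fin 24 → ℤ, a ⬝ᵥ (B *ᵥ b) = b ⬝ᵥ (B *ᵥ a) := fun a b => by
    rw [Matrix.dotProduct_mulVec, dotProduct_comm, ← Matrix.mulVec_transpose, hsymm.eq]
  have e1 : x ⬝ᵥ (B *ᵥ x) = y ⬝ᵥ (B *ᵥ y) + 4 * (y ⬝ᵥ (B *ᵥ z)) + 4 * (z ⬝ᵥ (B *ᵥ z)) := by
    rw [hxy]
    simp only [two_nsmul, Matrix.mulVec_add, add_dotProduct, dotProduct_add, hs z y]
    ring
  have e2 : (y + z) ⬝ᵥ (B *ᵥ (y + z)) = y ⬝ᵥ (B *ᵥ y) + 2 * (y ⬝ᵥ (B *ᵥ z)) + z ⬝ᵥ (B *ᵥ z) := by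
    simp only [Matrix.mulVec_add, add_dotProduct, dotProduct_add, hs z y]
    ring
  have e3 : x ⬝ᵥ (B *ᵥ y) = y ⬝ᵥ (B *ᵥ y) + 2 * (y ⬝ᵥ (B *ᵥ z)) := by
    rw [hxy]
    simp only [two_nsmul, add_dotProduct, hs z y]
    ring
  refine ⟨?_, ?_, ?_⟩ <;> omega

/-- Second step of the characterisation: under the vector counts of the rank-24 lattice, the norm-8 vectors fall into congruence classes of exactly 48 modulo twice the lattice. -/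
theorem result (B : Matrix (Fin 24) (Fin 24) ℤ) (hsymm : B.IsSymm) (hpos : ∀ x : Fin 24 → ℤ, x ≠ 0 → 0 < x ⬝ᵥ (B *ᵥ x)) (heven : ∀ x : Fin 24 → ℤ, (2 : ℤ) ∣ x ⬝ᵥ (B *ᵥ x)) (h2 : ∀ x : Fin 24 → ℤ, x ⬝ᵥ (B *ᵥ x) ≠ 2) (h4 : {x : Fin 24 → ℤ | x ⬝ᵥ (B *ᵥ x) = 4}.ncard = 196560) (h6 : {x : Fin 24 → ℤ | x ⬝ᵥ (B *ᵥ x) = 6}.ncard = 16773120) (h8 : {x : Fin 24 → ℤ | x ⬝ᵥ (B *ᵥ x) = 8}.ncard = 398034000) (x : Fin 24 → ℤ) (hx : x ⬝ᵥ (B *ᵥ x) = 8) : {y : Fin 24 → ℤ | y ⬝ᵥ (B *ᵥ y) = 8 ∧ ∀ i, (2 : ℤ) ∣ (x - y) i}.ncard = 48 := by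
  classical
  have f4 := Set.finite_of_ncard_ne_zero (by rw [h4]; norm_num : {x : Fin 24 → ℤ | x ⬝ᵥ (B *ᵥ x) = 4}.ncard ≠ 0)
  have f6 := Set.finite_of_ncard_ne_zero (by rw [h6]; norm_num : {x : Fin 24 → ℤ | x ⬝ᵥ (B *ᵥ x) = 6}.ncard ≠ 0)
  have f8 := Set.finite_of_ncard_ne_zero (by rw [h8]; norm_num : {x : Fin 24 → ℤ | x ⬝ᵥ (B *ᵥ x) = 8}.ncard ≠ 0)
  let red : (Fin 24 → ℤ) → (Fin 24 → ZMod 2) := fun v i => (v i : ZMod 2)
  have hred : ∀ u v, red u = red v ↔ ∀ i, (2 : ℤ) ∣ (u - v) i := fun u v => by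
    rw [funext_iff]
    refine forall_congr' fun i => ?_
    show ((u i : ℤ) : ZMod 2) = ((v i : ℤ) : ZMod 2) ↔ _
    rw [ZMod.intCast_eq_intCast_iff_dvd_sub, Pi.sub_apply]
    omega
  obtain ⟨-, h⟩ := Agent.Spor.Leech.full_classes red (f4.toFinset ∪ f6.toFinset) f8.toFinset
    (orth := fun u v => u ⬝ᵥ (B *ᵥ v) = 0)
    (fun u v h => by rw [Matrix.dotProduct_mulVec, dotProduct_comm, ← Matrix.mulVec_transpose, hsymm.eq]; exact h)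
    (by simp) (by simp)
    (by rw [Finset.disjoint_left]; intro v h h'
        simp only [Finset.mem_union, Set.Finite.mem_toFinset, Set.mem_setOf_eq] at h h'; omega)
    (fun u hu v hv he => by
      have hle : ∀ w ∈ insert 0 ((f4.toFinset ∪ f6.toFinset) ∪ f8.toFinset), w ⬝ᵥ (B *ᵥ w) ≤ 8 := fun w hw => by
        simp only [Finset.mem_insert, Finset.mem_union, Set.Finite.mem_toFinset, Set.mem_setOf_eq] at hw
        rcases hw with rfl | h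
        · simp
        · omega
      rcases congr_pair hsymm hpos heven h2 u v (hle u hu) (hle v hv) ((hred u v).1 he) with e | e | ⟨a, b, d⟩
      · exact Or.inl e
      · exact Or.inr (Or.inl e)
      · exact Or.inr (Or.inr ⟨by simpa using a, by simpa using b, d⟩))
    (fun T hT h => by
      have := Agent.Spor.Leech.orth_card_le B T (fun u hu => by
        have : u ⬝ᵥ (B *ᵥ u) = 8 := by simpa using hT hu
        omega) h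
      simpa using this)
    (by
      rw [Finset.card_union_of_disjoint (by
          rw [Finset.disjoint_left]; intro v h h'; simp only [Set.Finite.mem_toFinset, Set.mem_setOf_eq] at h h'; omega),
        ← Set.ncard_eq_toFinset_card _ f4, ← Set.ncard_eq_toFinset_card _ f6, ← Set.ncard_eq_toFinset_card _ f8,
        h4, h6, h8, Fintype.card_fun, ZMod.card, Fintype.card_fin]
      norm_num)
  rw [← h x (by simpa using hx), ← Set.ncard_coe_finset]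
  congr 1
  ext y
  simp only [Finset.coe_filter, Set.Finite.mem_toFinset, Set.mem_setOf_eq]
  refine and_congr Iff.rfl ?_
  rw [hred]
  refine forall_congr' fun i => ?_
  simp only [Pi.sub_apply]
  omega

end Cfsg.Agent.S1588
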