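import Cfsg.Statements.S1589
import Cfsg.Agent.Lib.Fus.M24Index.Pair
-- import your own Cfsg.Agent.* helpers here

set_option autoImplicit false
open scoped Pointwise
open Cfsg

namespace Cfsg.Agent.S1589

/-- Subgroups of the group of the length-24 code of index 759, 276 and 1771 are exactly the octad, duad and sextet stabilisers, and no subgroup has index 253. -/
theorem result : (∀ H : Subgroup ↥Cfsg.M24, H.index = 759 → ∃ o ∈ Cfsg.octads, H = MulAction.stabilizer Cfsg.M24 o) ∧ (∀ H : Subgroup ↥Cfsg.M24, H.index = 276 → ∃ s : Finset Cfsg.GolayPt, s.card = 2 ∧ H = MulAction.stabilizer Cfsg.M24 s) ∧ (∀ H : Subgroup ↥Cfsg.M24, H.index = 1771 → ∃ S ∈ Cfsg.sextets, H = MulAction.stabilizer Cfsg.M24 S) ∧ ∀ H : Subgroup ↥Cfsg.M24, H.index ≠ 253 := by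
  obtain ⟨S, hS⟩ := Cfsg.Agent.Fus.M24Index.exists_good
  have hcard : ∀ H : Subgroup ↥Cfsg.M24, H.index ≠ 0 →
      Nat.card H = 244823040 / H.index := by
    intro H h0
    have h := H.card_mul_index
    rw [Cfsg.Agent.Spor.Golay.card_M24] at h
    rw [← h, Nat.mul_div_cancel _ (Nat.pos_of_ne_zero h0)]
  have hmap : ∀ (H : Subgroup ↥Cfsg.M24) (g : ↥Cfsg.M24),
      Nat.card (H.map (MulAut.conj g).toMonoidHom) = Nat.card H := fun H g =>
    (Nat.card_congr (H.equivMapOfInjective _ (MulAut.conj g).injective).toEquiv).symm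
  have hback : ∀ {β : Type} [MulAction ↥Cfsg.M24 β] (H : Subgroup ↥Cfsg.M24) (g : ↥Cfsg.M24) (x : β),
      H.map (MulAut.conj g).toMonoidHom ≤ MulAction.stabilizer ↥Cfsg.M24 x →
      Nat.card (MulAction.stabilizer ↥Cfsg.M24 x) = Nat.card H →
      H = MulAction.stabilizer ↥Cfsg.M24 (g⁻¹ • x) := by
    intro β _ H g x hle hc
    have heq := Subgroup.eq_of_le_of_card_ge hle (by rw [hmap, hc])
    refine Subgroup.map_injective (f := (MulAut.conj g).toMonoidHom) (MulAut.conj g).injective ?_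
    rw [heq, ← MulAction.stabilizer_smul_eq_stabilizer_map_conj, smul_inv_smul]
  -- the odd indices
  have hodd : ∀ H : Subgroup ↥Cfsg.M24, Odd H.index → ¬ 11 ∣ Nat.card H → ¬ 23 ∣ Nat.card H →
      5 ∣ Nat.card H → ∃ g, (H.map (MulAut.conj g).toMonoidHom ≤
          MulAction.stabilizer ↥Cfsg.M24 (Cfsg.Agent.Fus.M24Index.O : Finset Cfsg.GolayPt) ∧
          Nat.card H ∣ 322560) ∨ Nat.card H ∣ 64512 ∨
        (¬ 7 ∣ Nat.card H ∧ ∃ T ∈ Cfsg.sextets,
          H.map (MulAut.conj g).toMonoidHom ≤ MulAction.stabilizer ↥Cfsg.M24 T) := by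
    intro H ho h11 h23 h5
    obtain ⟨g, hg⟩ := Cfsg.Agent.Fus.M24Index.exists_conj_le hS.card ho
    refine ⟨g, ?_⟩
    rcases Cfsg.Agent.Fus.M24Index.odd_cases hS hg (by rwa [hmap]) (by rwa [hmap]) (by rwa [hmap])
      with h | h | ⟨h7, h⟩
    · refine Or.inl ⟨h, ?_⟩
      rw [← hmap H g, ← Cfsg.Agent.Fus.M24Index.card_stab_oct]
      exact Subgroup.card_dvd_of_le h
    · exact Or.inr (Or.inl (hmap H g ▸ h))
    · exact Or.inr (Or.inr ⟨hmap H g ▸ h7, h⟩)
  refine ⟨fun H hi => ?_, fun H hi => ?_, fun H hi => ?_, fun H hi => ?_⟩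
  · have hc : Nat.card H = 322560 := by rw [hcard H (by omega), hi]
    obtain ⟨g, ⟨h, -⟩ | h | ⟨h, -⟩⟩ := hodd H (by rw [hi]; decide) (by rw [hc]; norm_num)
      (by rw [hc]; norm_num) (by rw [hc]; norm_num)
    · exact ⟨g⁻¹ • Cfsg.Agent.Fus.M24Index.O,
        Cfsg.Agent.Spor.Golay.smul_octad (g⁻¹ : ↥Cfsg.M24).2 Cfsg.Agent.Spor.Golay.pts_octA_mem,
        hback H g _ h (Cfsg.Agent.Fus.M24Index.card_stab_oct.trans hc.symm)⟩
    · rw [hc] at h; norm_num at h
    · exact absurd (by rw [hc]; norm_num) h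
  · have hc : Nat.card H = 887040 := by rw [hcard H (by omega), hi]
    obtain ⟨s, hs, hle⟩ := Cfsg.Agent.Fus.M24Index.exists_pair_fixed hc
    refine ⟨s, hs, Subgroup.eq_of_le_of_card_ge hle ?_⟩
    obtain ⟨a, ha, rfl⟩ := Cfsg.Agent.Spor.Golay.Census.exists_pair hs
    rw [hc]
    refine le_of_eq ((Cfsg.Agent.Fus.M24Index.card_stab_smul (⟨a, ha⟩ : ↥Cfsg.M24) _).trans ?_)
    exact (Cfsg.Agent.Spor.Golay.Census.card_sub fun g =>
      Cfsg.Agent.Spor.Golay.Census.stabilizer_pts 3 g).trans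
      Cfsg.Agent.Spor.Golay.Census.stagePair.card_Fx
  · have hc : Nat.card H = 138240 := by rw [hcard H (by omega), hi]
    obtain ⟨g, ⟨-, h⟩ | h | ⟨-, T, hT, h⟩⟩ := hodd H (by rw [hi]; decide) (by rw [hc]; norm_num)
      (by rw [hc]; norm_num) (by rw [hc]; norm_num)
    · rw [hc] at h; norm_num at h
    · rw [hc] at h; norm_num at h
    · exact ⟨g⁻¹ • T, Cfsg.Agent.Spor.Golay.Census.smul_sextet (g⁻¹ : ↥Cfsg.M24).2 hT,
        hback H g _ h ((Cfsg.Agent.Fus.M24Index.card_stab_sextet hT).trans hc.symm)⟩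
  · have hc : Nat.card H = 967680 := by rw [hcard H (by omega), hi]
    obtain ⟨g, ⟨-, h⟩ | h | ⟨h, -⟩⟩ := hodd H (by rw [hi]; decide) (by rw [hc]; norm_num)
      (by rw [hc]; norm_num) (by rw [hc]; norm_num)
    · rw [hc] at h; norm_num at h
    · rw [hc] at h; norm_num at h
    · exact absurd (by rw [hc]; norm_num) h

end Cfsg.Agent.S1589
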