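import Cfsg.Statements.S1590
import Cfsg.Agent.Lib.Spor.Golay.Ternary

set_option autoImplicit false
open Cfsg

namespace Cfsg.Agent.S1590

open Cfsg.Agent.Spor.Ternary
theorem weights : ∀ k : Fin 6 → ZMod 3, k ≠ 0 → (Cfsg.ternarySupport (enc k)).card = 6 ∨
    (Cfsg.ternarySupport (enc k)).card = 9 ∨ (Cfsg.ternarySupport (enc k)).card = 12 := by
  decide +kernel

theorem c6 : (Finset.univ.filter fun k : Fin 6 → ZMod 3 =>
    (Cfsg.ternarySupport (enc k)).card = 6).card = 264 := by decide +kernel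

theorem c9 : (Finset.univ.filter fun k : Fin 6 → ZMod 3 =>
    (Cfsg.ternarySupport (enc k)).card = 9).card = 440 := by decide +kernel

theorem c12 : (Finset.univ.filter fun k : Fin 6 → ZMod 3 =>
    (Cfsg.ternarySupport (enc k)).card = 12).card = 24 := by decide +kernel

/-- The length-12 ternary code has 729 words with weight distribution 0^1 6^264 9^440 12^24. -/
theorem result : Nat.card ↥Cfsg.ternaryGolayCode = 729 ∧ (∀ x ∈ Cfsg.ternaryGolayCode, x ≠ 0 → (Cfsg.ternarySupport x).card = 6 ∨ (Cfsg.ternarySupport x).card = 9 ∨ (Cfsg.ternarySupport x).card = 12) ∧ {x : Cfsg.ArrayPt → ZMod 3 | x ∈ Cfsg.ternaryGolayCode ∧ (Cfsg.ternarySupport x).card = 6}.ncard = 264 ∧ {x : Cfsg.ArrayPt → ZMod 3 | x ∈ Cfsg.ternaryGolayCode ∧ (Cfsg.ternarySupport x).card = 9}.ncard = 440 ∧ {x : Cfsg.ArrayPt → ZMod 3 | x ∈ Cfsg.ternaryGolayCode ∧ (Cfsg.ternarySupport x).card = 12}.ncard = 24 := by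
  refine ⟨?_, fun x hx hne => ?_, (ncard_eq _).trans c6, (ncard_eq _).trans c9,
    (ncard_eq _).trans c12⟩
  · have hb : Function.Bijective (fun k => (⟨enc k, enc_mem k⟩ : Cfsg.ternaryGolayCode)) :=
      ⟨fun k l h => enc_injective (congrArg Subtype.val h), fun ⟨x, hx⟩ => by
        obtain ⟨k, rfl⟩ := exists_enc hx
        exact ⟨k, rfl⟩⟩
    rw [← Nat.card_congr (Equiv.ofBijective _ hb)]
    simp
  · obtain ⟨k, rfl⟩ := exists_enc hx
    refine weights k fun h => hne ?_
    subst h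
    funext p
    simp [enc]

end Cfsg.Agent.S1590
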