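import Cfsg.Statements.S1591
import Cfsg.Agent.Lib.Spor.Golay.Ternary

set_option autoImplicit false
open Cfsg

namespace Cfsg.Agent.S1591

open Cfsg.Agent.Spor.Ternary
theorem dotE : ∀ i j : Fin 6, ∑ p, E i p * E j p = 0 := by decide +kernel

/-- Any two words of the length-12 ternary code have dot product zero. -/
theorem result (x y : Cfsg.ArrayPt → ZMod 3) (hx : x ∈ Cfsg.ternaryGolayCode) (hy : y ∈ Cfsg.ternaryGolayCode) : ∑ p, x p * y p = 0 := by
  obtain ⟨k, rfl⟩ := exists_enc hx
  obtain ⟨l, rfl⟩ := exists_enc hy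
  have h : ∀ p, enc k p * enc l p = ∑ i, ∑ j, (k i * l j) * (E i p * E j p) := by
    intro p
    rw [enc, enc, Finset.sum_mul_sum]
    exact Finset.sum_congr rfl fun i _ => Finset.sum_congr rfl fun j _ => by ring
  simp only [h]
  rw [Finset.sum_comm]
  refine Finset.sum_eq_zero fun i _ => ?_
  rw [Finset.sum_comm]
  refine Finset.sum_eq_zero fun j _ => ?_
  rw [← Finset.mul_sum, dotE, mul_zero]

end Cfsg.Agent.S1591
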