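import Cfsg.Statements.S1597
import Cfsg.Agent.Lib.Spor.Golay.Quartets

set_option autoImplicit false
open scoped Pointwise
open Cfsg

namespace Cfsg.Agent.S1597

open Cfsg.Agent.Spor.Golay Cfsg.Agent.Spor.Golay.Census

/-- A dodecad has 220 quartets and its stabiliser is transitive on them. -/
theorem result (d : Finset Cfsg.GolayPt) (hd : d ∈ Cfsg.dodecads) : (Cfsg.quartets d).ncard = 220 ∧ ∀ Q ∈ Cfsg.quartets d, ∀ Q' ∈ Cfsg.quartets d, ∃ g : Equiv.Perm Cfsg.GolayPt, g ∈ Cfsg.M24 ∧ g • d = d ∧ g • Q = Q' := by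
  obtain ⟨a, ha, e⟩ := exists_smul_dd hd
  subst e
  refine ⟨?_, fun Q hQ Q' hQ' => ?_⟩
  · rw [ncard_transport (S := quartU.famSet) a fun Q => by rw [← quartets_dd]; exact quartets_smul ha,
      (stageDod.orbit quartU_ok).2]
    exact quartU_zero.2
  · have h1 := (quartets_smul ha).mp hQ
    have h2 := (quartets_smul ha).mp hQ'
    rw [quartets_dd, ← (stageDod.orbit quartU_ok).1] at h1 h2
    obtain ⟨g, hg, e1, e2⟩ := exists_move (stabilizer_pts dd) (stageDod.orbit quartU_ok).1 ha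
      (show a⁻¹ • Q ∈ quartU.famSet by rw [← (stageDod.orbit quartU_ok).1]; exact h1)
      (show a⁻¹ • Q' ∈ quartU.famSet by rw [← (stageDod.orbit quartU_ok).1]; exact h2)
    exact ⟨g, hg, e1, e2⟩

end Cfsg.Agent.S1597
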