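import Cfsg.Statements.S1598
import Cfsg.Agent.Lib.Spor.Golay.Quartets
import Cfsg.Agent.Lib.Spor.Golay.CensusElem

set_option autoImplicit false
open scoped Pointwise
open Cfsg

namespace Cfsg.Agent.S1598

open Cfsg.Agent.Spor.Golay Cfsg.Agent.Spor.Golay.Census

/-- The elements of the normal subgroup of order nine, indexed by vectors. -/
def NL : List ℕ := [0xbdab49ca307b9ac5a928398a418820, 0x9a6eeac6126a0acb2974399e418041, 0xaae68bc2512d1ec4aace399a418402, 0xb39754c6122ddeca2913199a720820, 0x4a2d75c2517cdac72a95198a720041, 0x5d133b4a306d4ac429d7199e720402, 0x75e8b442516d8acaaa69219e338820, 0x44dd6a4a302a5ecbaaab219a338041, 0xa5509746127adac9aaf6218a338402]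

/-- The element of a vector. -/
def nv (v : Fin 2 → ZMod 3) : ℕ := NL.getD (3 * (v 0).val + (v 1).val) 0

/-- A linear map. -/
def A0 : GL (Fin 2) (ZMod 3) := ⟨!![1, 2; 0, 2], !![1, 2; 0, 2], by decide, by decide⟩

/-- A linear map. -/
def A1 : GL (Fin 2) (ZMod 3) := ⟨!![1, 1; 2, 0], !![0, 2; 1, 1], by decide, by decide⟩

/-- All forty-eight matrices. -/
def W : List (Matrix (Fin 2) (Fin 2) (ZMod 3)) := [!![1, 0; 0, 1], !![1, 2; 0, 2], !![1, 1; 2, 0], !![1, 1; 2, 1], !![2, 1; 1, 0], !![0, 1; 2, 2], !![2, 0; 1, 2], !![0, 2; 2, 2], !![0, 1; 1, 2], !![1, 2; 1, 1], !![2, 0; 0, 2], !![0, 2; 1, 0], !![1, 0; 1, 1], !![2, 1; 0, 1], !![2, 2; 2, 1], !![1, 0; 0, 2], !![2, 0; 2, 1], !![2, 2; 1, 0], !![2, 2; 2, 0], !![1, 2; 0, 1], !![2, 1; 2, 0], !![2, 2; 1, 2], !![1, 1; 0, 1], !![1, 2; 2, 0], !![0, 2; 1, 2], !![1, 1; 1, 0], !![0, 2; 1, 1], !![1, 1; 0, 2], !![1, 0; 2, 1], !![0, 1; 1, 0], !![1, 1; 1, 2], !![0, 1; 1, 1], !![1,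 2; 2, 2], !![0, 2; 2, 1], !![0, 1; 2, 0], !![2, 1; 2, 2], !![1, 0; 2, 2], !![2, 0; 2, 2], !![2, 0; 1, 1], !![0, 1; 2, 1], !![2, 0; 0, 1], !![2, 1; 0, 2], !![1, 0; 1, 2], !![2, 1; 1, 1], !![0, 2; 2, 0], !![1, 2; 1, 0], !![2, 2; 0, 2], !![2, 2; 0, 1]]

/-- The generator used. -/
def Wg : List ℕ := [0, 0, 1, 1, 0, 1, 0, 1, 1, 0, 1, 1, 0, 1, 0, 1, 1, 1, 0, 1, 1, 1, 0, 1, 0, 1, 1, 0, 1, 0, 1, 1, 1, 1, 0, 1, 1, 1, 0, 1, 1, 1, 1, 0, 1, 1, 1, 0]

/-- The predecessor. -/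
def Wp : List ℕ := [0, 0, 0, 1, 2, 2, 3, 3, 4, 5, 5, 6, 7, 7, 8, 8, 9, 10, 11, 11, 12, 13, 15, 15, 16, 16, 17, 19, 19, 20, 20, 21, 22, 23, 25, 25, 27, 30, 32, 32, 33, 34, 35, 36, 36, 37, 39, 41]

/-- The matrix of a generator. -/
def Ag (s : ℕ) : GL (Fin 2) (ZMod 3) := [A0, A1].getD s 1

theorem gens_check : quartSG.length = 2 ∧ validAll quartSG = true ∧
    (∀ v : Fin 2 → ZMod 3, valid (nv v) = true) ∧ fixOk [quart0, [499903]] NL = true ∧
    ∀ s < 2, ∀ v : Fin 2 → ZMod 3, comp (quartSG.getD s 0) (nv v) =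
      comp (nv ((Ag s : Matrix (Fin 2) (Fin 2) (ZMod 3)).mulVec v)) (quartSG.getD s 0) := by decide +kernel

theorem N_check : (∀ v w : Fin 2 → ZMod 3, nv v = nv w → v = w) ∧ (∀ v : Fin 2 → ZMod 3, ∀ i < 24, get (nv v) i < 24) ∧
    (∀ v : Fin 2 → ZMod 3, nv v = pack 24 fun i => get (nv v) i) ∧
    (∀ v w : Fin 2 → ZMod 3, comp (nv v) (nv w) = comp (nv w) (nv v)) := by decide +kernel

theorem W_check : W.length = 48 ∧ W.Nodup ∧ W.getD 0 0 = 1 ∧ ∀ i < 48, i = 0 ∨ (Wp.getD i 0 < i ∧ Wg.getD i 0 < 2 ∧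
    W.getD i 0 = (Ag (Wg.getD i 0) : Matrix (Fin 2) (Fin 2) (ZMod 3)) * W.getD (Wp.getD i 0) 0) := by decide +kernel

theorem pack_congr : ∀ (n : ℕ) (f g : ℕ → ℕ), (∀ i < n, f i = g i) → pack n f = pack n g
  | 0, _, _, _ => rfl
  | n + 1, f, g, h => by
    rw [pack, pack, h 0 (Nat.succ_pos n), pack_congr n (fun i => f (i + 1)) (fun i => g (i + 1)) fun i hi => h (i + 1) (by omega)]

theorem nv_inj {v w : Fin 2 → ZMod 3} (h : permOf (nv v) = permOf (nv w)) : v = w := by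
  obtain ⟨h1, h2, h3, -⟩ := N_check
  refine h1 v w ?_
  rw [h3 v, h3 w]
  refine pack_congr 24 _ _ fun i hi => ?_
  have e := congrArg (fun p : Equiv.Perm GolayPt => idx (p (pt i))) h
  rwa [idx_permOf (gens_check.2.2.1 v), idx_permOf (gens_check.2.2.1 w), idx_pt hi] at e

/-- An element acts on the normal subgroup as a matrix. -/
def Rel (g : Equiv.Perm GolayPt) (A : GL (Fin 2) (ZMod 3)) : Prop :=
  ∀ v, g * permOf (nv v) = permOf (nv ((A : Matrix (Fin 2) (Fin 2) (ZMod 3)).mulVec v)) * g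

theorem rel_one : Rel 1 1 := fun v => by rw [one_mul, mul_one, Units.val_one, Matrix.one_mulVec]

theorem rel_mul {g k : Equiv.Perm GolayPt} {A B : GL (Fin 2) (ZMod 3)} (h : Rel g A) (h' : Rel k B) :
    Rel (g * k) (A * B) := fun v => by
  rw [mul_assoc, h', ← mul_assoc, h, mul_assoc, Units.val_mul, ← Matrix.mulVec_mulVec]

theorem rel_gen {s : ℕ} (hs : s < 2) : Rel (permOf (quartSG.getD s 0)) (Ag s) := fun v => by
  obtain ⟨hlen, hv, hn, -, h⟩ := gens_check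
  have hvs := (valid_getD hv (by rw [hlen]; exact hs)).1
  rw [← permOf_comp hvs (hn v), h s hs v, permOf_comp (hn _) hvs]

theorem exists_rel {g : Equiv.Perm GolayPt} (hg : g ∈ grp quartSG) : ∃ A, Rel g A := by
  induction hg using Subgroup.closure_induction with
  | mem x hx =>
    obtain ⟨P, hP, rfl⟩ := hx
    obtain ⟨s, hs, rfl⟩ := List.getElem_of_mem hP
    exact ⟨Ag s, by rw [← List.getD_eq_getElem _ 0 hs]; exact rel_gen (gens_check.1 ▸ hs)⟩
  | one => exact ⟨1, rel_one⟩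
  | mul x y _ _ hx hy => exact ⟨hx.choose * hy.choose, rel_mul hx.choose_spec hy.choose_spec⟩
  | inv x _ hx =>
    obtain ⟨A, hA⟩ := hx
    refine ⟨A⁻¹, fun v => ?_⟩
    have := hA (((A⁻¹ : GL (Fin 2) (ZMod 3)) : Matrix (Fin 2) (Fin 2) (ZMod 3)).mulVec v)
    rw [Matrix.mulVec_mulVec, ← Units.val_mul, mul_inv_cancel, Units.val_one, Matrix.one_mulVec] at this
    rw [eq_mul_inv_iff_mul_eq, mul_assoc, inv_mul_eq_iff_eq_mul]
    exact this.symm

theorem rel_unique {g : Equiv.Perm GolayPt} {A B : GL (Fin 2) (ZMod 3)} (h : Rel g A) (h' : Rel g B) : A = B := by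
  have e : ∀ v, (A : Matrix (Fin 2) (Fin 2) (ZMod 3)).mulVec v = (B : Matrix (Fin 2) (Fin 2) (ZMod 3)).mulVec v :=
    fun v => nv_inj (mul_right_cancel ((h v).symm.trans (h' v)))
  exact Units.ext (Matrix.ext fun r c => by
    have := congrFun (e (Pi.single c 1)) r
    rwa [Matrix.mulVec_single_one, Matrix.mulVec_single_one] at this)

/-- The map to the matrices. -/
noncomputable def quot : ↥(Fx [quart0, [499903]]) →* GL (Fin 2) (ZMod 3) :=
  MonoidHom.mk' (fun g => (exists_rel (stageQuart.2.1.le g.2)).choose) fun g k =>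
    rel_unique (exists_rel (stageQuart.2.1.le (mul_mem g.2 k.2))).choose_spec
      (rel_mul (exists_rel (stageQuart.2.1.le g.2)).choose_spec (exists_rel (stageQuart.2.1.le k.2)).choose_spec)

theorem quot_rel (g : ↥(Fx [quart0, [499903]])) : Rel g (quot g) := (exists_rel (stageQuart.2.1.le g.2)).choose_spec

theorem card_gl : Nat.card (GL (Fin 2) (ZMod 3)) = 48 := by
  rw [Matrix.card_GL_field]
  simp only [Fintype.card_fin, ZMod.card, Fin.prod_univ_two]
  norm_num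

theorem quot_surjective : Function.Surjective quot := by
  obtain ⟨hlen, hnd, h0, hW⟩ := W_check
  have key : ∀ i < 48, ∃ g, ((quot g : GL (Fin 2) (ZMod 3)) : Matrix (Fin 2) (Fin 2) (ZMod 3)) = W.getD i 0 := by
    intro i
    induction i using Nat.strong_induction_on with
    | _ i ih =>
      intro hi
      rcases hW i hi with rfl | ⟨hp, hs, e⟩
      · exact ⟨1, by rw [h0, map_one, Units.val_one]⟩
      · obtain ⟨k, hk⟩ := ih _ hp (hp.trans hi)
        have hm : permOf (quartSG.getD (Wg.getD i 0) 0) ∈ Fx [quart0, [499903]] :=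
          stageQuart.2.1.ge (mem_grp (valid_getD stageQuart.1 (by rw [gens_check.1]; exact hs)).2)
        refine ⟨⟨_, hm⟩ * k, ?_⟩
        rw [map_mul, Units.val_mul, hk, rel_unique (quot_rel ⟨_, hm⟩) (rel_gen hs), e]
  have hsub : (↑W.toFinset : Set (Matrix (Fin 2) (Fin 2) (ZMod 3))) ⊆ Units.val '' (quot.range : Set (GL (Fin 2) (ZMod 3))) := by
    intro M hM
    obtain ⟨i, hi, rfl⟩ := List.getElem_of_mem (List.mem_toFinset.mp hM)
    obtain ⟨g, hg⟩ := key i (hlen ▸ hi)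
    exact ⟨quot g, ⟨g, rfl⟩, by rw [hg, List.getD_eq_getElem _ _ hi]⟩
  have hle := Set.ncard_le_ncard hsub (Set.toFinite _)
  rw [Set.ncard_coe_finset, List.toFinset_card_of_nodup hnd, hlen,
    Set.ncard_image_of_injective _ Units.val_injective, ← Nat.card_coe_set_eq] at hle
  exact MonoidHom.range_eq_top.mp (Subgroup.eq_top_of_le_card _ (by rw [card_gl]; exact hle))

theorem card_ker : Nat.card quot.ker = 9 := by
  have h := quot.ker.card_mul_index
  rw [Subgroup.index_ker, MonoidHom.range_eq_top.mpr quot_surjective, Subgroup.card_top, card_gl,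
    show Nat.card ↥(Fx [quart0, [499903]]) = 432 from stageQuart.card_Fx] at h
  omega

/-- A quartet stabiliser inside the dodecad stabiliser has order 432, a normal subgroup of order 9 with quotient GL(2, 3), and is transitive on the dodecad. -/
theorem result (d : Finset Cfsg.GolayPt) (hd : d ∈ Cfsg.dodecads) (Q : Finset (Finset Cfsg.GolayPt)) (hQ : Q ∈ Cfsg.quartets d) : Nat.card ↥(MulAction.stabilizer Cfsg.M24 d ⊓ MulAction.stabilizer Cfsg.M24 Q) = 432 ∧ (∃ (N : Subgroup ↥(MulAction.stabilizer Cfsg.M24 d ⊓ MulAction.stabilizer Cfsg.M24 Q)) (_ : N.Normal), Nat.card N = 9 ∧ Nonempty (↥(MulAction.stabilizer Cfsg.M24 d ⊓ MulAction.stabilizer Cfsg.M24 Q) ⧸ N ≃* GL (Fin 2) (ZMod 3))) ∧ ∀ p ∈ d, ∀ q ∈ d, ∃ g ∈ (MulAction.stabilizer Cfsg.M24 d ⊓ MulAction.stabilizer Cfsg.M24 Q), ((g : ↥Cfsg.M24) : Equiv.Perm Cfsg.GolayPt) p = q := by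
  obtain ⟨a, ha, e1, e2⟩ := exists_quartet hd hQ
  subst e1 e2
  have hK : MulAction.stabilizer Cfsg.M24 (a • pts dd) ⊓ MulAction.stabilizer Cfsg.M24 (a • fam quart0) =
      MulAction.stabilizer Cfsg.M24 ((⟨a, ha⟩ : Cfsg.M24) • (pts dd, fam quart0)) := by
    ext g; simp [MulAction.mem_stabilizer_iff, Subgroup.mem_inf, Prod.ext_iff, Subgroup.smul_def]
  rw [hK]
  let E := stdEquiv stabilizer_dd_quart (⟨a, ha⟩ : Cfsg.M24)
  refine ⟨(Nat.card_congr E.toEquiv).trans stageQuart.card_Fx, ⟨(quot.comp E.toMonoidHom).ker, inferInstance, ?_,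
    ⟨QuotientGroup.quotientKerEquivOfSurjective (quot.comp E.toMonoidHom) (quot_surjective.comp E.surjective)⟩⟩,
    fun p hp q hq => ?_⟩
  · rw [← MonoidHom.comap_ker, Subgroup.comap_equiv_eq_map_symm',
      ← Nat.card_congr (Subgroup.equivMapOfInjective _ _ E.symm.injective).toEquiv, card_ker]
  · have toPt : ∀ s, s ∈ a • pts dd → ∃ g ∈ Fx [quart0, [499903]], g (pt 0) = a⁻¹ • s := fun s hs => by
      refine exists_point stageQuart quartPtU_ok (i := 0) (by norm_num) quartPtU_zero.1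
        (cond := fun j => Nat.testBit 499903 j) (by decide +kernel) ?_
      rw [← Finset.inv_smul_mem_iff, mem_pts] at hs
      exact hs
    obtain ⟨g, hg, eg⟩ := toPt p hp
    obtain ⟨k, hk, ek⟩ := toPt q hq
    obtain ⟨m, hm⟩ := E.surjective ⟨k * g⁻¹, mul_mem hk (inv_mem hg)⟩
    refine ⟨m.1, m.2, ?_⟩
    have e : (E m : Equiv.Perm GolayPt) • (a⁻¹ • p) = a⁻¹ • q := by
      rw [hm, ← eg, ← ek]
      show (k * g⁻¹) • g • pt 0 = k • pt 0
      rw [mul_smul, inv_smul_smul]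
    rw [show (E m : Equiv.Perm GolayPt) = a⁻¹ * (m.1 : Equiv.Perm GolayPt) * a from rfl, mul_smul, mul_smul,
      smul_inv_smul, smul_left_cancel_iff] at e
    exact e

end Cfsg.Agent.S1598
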