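import Cfsg.Statements.S1599
import Cfsg.Agent.Lib.Spor.Golay.Quartets

set_option autoImplicit false
open scoped Pointwise
open Cfsg

namespace Cfsg.Agent.S1599

open Cfsg.Agent.Spor.Golay Cfsg.Agent.Spor.Golay.Census

theorem inf_eq (a : Cfsg.M24) :
    MulAction.stabilizer Cfsg.M24 (a • pts dd) ⊓ MulAction.stabilizer Cfsg.M24 (a • fam quart0) =
      MulAction.stabilizer Cfsg.M24 (a • (pts dd, fam quart0)) := by
  ext g; simp [MulAction.mem_stabilizer_iff, Subgroup.mem_inf, Prod.ext_iff]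

/-- A quartet stabiliser has five orbits on the quartets of its dodecad, of sizes 1, 12, 27, 72, 108. -/
theorem result (d : Finset Cfsg.GolayPt) (hd : d ∈ Cfsg.dodecads) (Q : Finset (Finset Cfsg.GolayPt)) (hQ : Q ∈ Cfsg.quartets d) : ∃ X₁ ∈ Cfsg.quartets d, ∃ X₂ ∈ Cfsg.quartets d, ∃ X₃ ∈ Cfsg.quartets d, ∃ X₄ ∈ Cfsg.quartets d, (MulAction.orbit ↥(MulAction.stabilizer Cfsg.M24 d ⊓ MulAction.stabilizer Cfsg.M24 Q) X₁).ncard = 12 ∧ (MulAction.orbit ↥(MulAction.stabilizer Cfsg.M24 d ⊓ MulAction.stabilizer Cfsg.M24 Q) X₂).ncard = 27 ∧ (MulAction.orbit ↥(MulAction.stabilizer Cfsg.M24 d ⊓ MulAction.stabilizer Cfsg.M24 Q) X₃).ncard = 72 ∧ (MulAction.orbit ↥(MulAction.stabilizer Cfsg.M24 d ⊓ MulAction.stabilizer Cfsg.M24 Q) X₄).ncard = 108 ∧ Cfsg.quartets d = {Q} ∪ MulAction.orbit ↥(MulAction.stabilizer Cfsg.M24 d ⊓ MulAction.stabilizer Cfsg.M24 Q) X₁ ∪ MulAction.orbit ↥(MulAction.stabilizer Cfsg.M24 d ⊓ MulAction.stabilizer Cfsg.M24 Q) X₂ ∪ MulAction.orbit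 ↥(MulAction.stabilizer Cfsg.M24 d ⊓ MulAction.stabilizer Cfsg.M24 Q) X₃ ∪ MulAction.orbit ↥(MulAction.stabilizer Cfsg.M24 d ⊓ MulAction.stabilizer Cfsg.M24 Q) X₄ := by
  obtain ⟨a, ha, e1, e2⟩ := exists_quartet hd hQ
  subst e1 e2
  have hK : MulAction.stabilizer Cfsg.M24 (a • pts dd) ⊓ MulAction.stabilizer Cfsg.M24 (a • fam quart0) =
      MulAction.stabilizer Cfsg.M24 ((⟨a, ha⟩ : Cfsg.M24) • (pts dd, fam quart0)) := inf_eq ⟨a, ha⟩
  rw [hK]
  have hU : ∀ X, X ∈ quartets (a • pts dd) ↔ a⁻¹ • X ∈ quartU.famSet := fun X => by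
    rw [← quartets_dd]; exact quartets_smul ha
  have ho : ∀ i, (![quartO0, quartO1, quartO2, quartO3, quartO4] i : Orb).ok quartSG = true := by
    intro i; fin_cases i; exacts [quartO0_ok, quartO1_ok, quartO2_ok, quartO3_ok, quartO4_ok]
  have hfirst : ∀ i, quartU.has ((![quartO0, quartO1, quartO2, quartO3, quartO4] i : Orb).obj 0) = true := by decide +kernel
  have hcov : coverOk quartU [quartO0, quartO1, quartO2, quartO3, quartO4] = true := by decide +kernel
  have horb : ∀ i, MulAction.orbit ↥(MulAction.stabilizer Cfsg.M24 ((⟨a, ha⟩ : Cfsg.M24) • (pts dd, fam quart0)))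
      (a • fam ((![quartO0, quartO1, quartO2, quartO3, quartO4] i : Orb).obj 0)) = a • (![quartO0, quartO1, quartO2, quartO3, quartO4] i : Orb).famSet := fun i => by
    refine (orbit_stabilizer_smul (⟨a, ha⟩ : Cfsg.M24) (pts dd, fam quart0) _).trans ?_
    have e := (stageQuart.orbit (ho i)).1
    rw [orbit_sub stabilizer_dd_quart, show MulAction.orbit (↥(Fx [quart0, [499903]])) (fam ((![quartO0, quartO1, quartO2, quartO3, quartO4] i : Orb).obj 0)) = (![quartO0, quartO1, quartO2, quartO3, quartO4] i : Orb).famSet from e]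
    rfl
  have hlen : ∀ i, (a • (![quartO0, quartO1, quartO2, quartO3, quartO4] i : Orb).famSet).ncard = (![quartO0, quartO1, quartO2, quartO3, quartO4] i : Orb).n := fun i => by
    rw [Set.ncard_smul_set, (stageQuart.orbit (ho i)).2]
  refine ⟨_, ?_, _, ?_, _, ?_, _, ?_, (congrArg Set.ncard (horb 1)).trans ((hlen 1).trans quartO1_zero.2),
    (congrArg Set.ncard (horb 2)).trans ((hlen 2).trans quartO2_zero.2),
    (congrArg Set.ncard (horb 3)).trans ((hlen 3).trans quartO3_zero.2),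
    (congrArg Set.ncard (horb 4)).trans ((hlen 4).trans quartO4_zero.2), ?_⟩
  iterate 4 exact (hU _).mpr (by rw [inv_smul_smul]; exact Orb.mem_famSet_of_has (hfirst _))
  ext X
  rw [hU, Set.mem_union, Set.mem_union, Set.mem_union, Set.mem_union, Set.mem_singleton_iff, horb 1, horb 2, horb 3, horb 4]
  simp only [Set.mem_smul_set_iff_inv_smul_mem]
  constructor
  · intro hX
    obtain ⟨O, hO, h⟩ := coverOk_spec hcov hX
    simp only [List.mem_cons, List.not_mem_nil, or_false] at hO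
    rcases hO with rfl | rfl | rfl | rfl | rfl
    · refine Or.inl (Or.inl (Or.inl (Or.inl ?_)))
      have h' := Orb.eq_of_n_one quartO0_zero.2 h
      rw [quartO0_zero.1] at h'
      rw [← smul_inv_smul a X, h']
      rfl
    · exact Or.inl (Or.inl (Or.inl (Or.inr h)))
    · exact Or.inl (Or.inl (Or.inr h))
    · exact Or.inl (Or.inr h)
    · exact Or.inr h
  · have hsub : ∀ i, ∀ Y ∈ (![quartO0, quartO1, quartO2, quartO3, quartO4] i : Orb).famSet, Y ∈ quartU.famSet := fun i Y hY => by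
      rw [← (stageQuart.orbit (ho i)).1] at hY
      obtain ⟨k, rfl⟩ := hY
      exact stageDod.smul_famSet quartU_ok
        (mem_Fx.mpr ⟨(mem_Fx.mp k.2).1, fun L hL => (mem_Fx.mp k.2).2 L (List.mem_cons_of_mem _ hL)⟩)
        (Orb.mem_famSet_of_has (hfirst i))
    rintro ((((rfl | h) | h) | h) | h)
    · rw [inv_smul_smul, ← quartets_dd]; exact quart0_mem
    · exact hsub 1 _ h
    · exact hsub 2 _ h
    · exact hsub 3 _ h
    · exact hsub 4 _ h

end Cfsg.Agent.S1599
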