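import Cfsg.Statements.S1600
import Cfsg.Agent.Lib.Spor.Golay.CensusNested
import Cfsg.Agent.Lib.Spor.Golay.CensusDodPt3

set_option autoImplicit false
open scoped Pointwise
open Cfsg

namespace Cfsg.Agent.S1600

open Cfsg.Agent.Spor.Golay Cfsg.Agent.Spor.Golay.Census

/-- The pointwise stabiliser of three points of a dodecad inside the dodecad stabiliser (order 72) is transitive on the complementary dodecad. -/
theorem result (d : Finset Cfsg.GolayPt) (hd : d ∈ Cfsg.dodecads) (p q r : Cfsg.GolayPt) (hp : p ∈ d) (hq : q ∈ d) (hr : r ∈ d) (hpq : p ≠ q) (hpr : p ≠ r) (hqr : q ≠ r) : Nat.card ↥(MulAction.stabilizer Cfsg.M24 d ⊓ MulAction.stabilizer Cfsg.M24 p ⊓ MulAction.stabilizer Cfsg.M24 q ⊓ MulAction.stabilizer Cfsg.M24 r) = 72 ∧ ∀ x ∉ d, ∀ y ∉ d, ∃ g ∈ (MulAction.stabilizer Cfsg.M24 d ⊓ MulAction.stabilizer Cfsg.M24 p ⊓ MulAction.stabilizer Cfsg.M24 q ⊓ MulAction.stabilizer Cfsg.M24 r), ((g : ↥Cfsg.M24)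 : Equiv.Perm Cfsg.GolayPt) x = y := by
  obtain ⟨a0, ha0, e⟩ := exists_smul_dd hd
  subst e
  have mem : ∀ (b : Equiv.Perm GolayPt), b • pts 499903 = a0 • pts dd → ∀ s, s ∈ a0 • pts dd ↔
      Nat.testBit 499903 (idx (b⁻¹ • s)) = true := fun b hb s => by
    rw [← hb, ← Finset.inv_smul_mem_iff, mem_pts]
  have keep : ∀ (b g : Equiv.Perm GolayPt) (F : List (List ℕ)), b • pts 499903 = a0 • pts dd → g ∈ Fx F →
      [499903] ∈ F → (b * g) • pts 499903 = a0 • pts dd := fun b g F hb hg hm => by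
    rw [mul_smul, (smul_fam_single _).mp ((mem_Fx.mp hg).2 _ hm), hb]
  obtain ⟨g1, hg1, e1⟩ := exists_point stageDod dodPtU_ok (i := 0) (by norm_num) dodPtU_zero.1
    (cond := fun j => Nat.testBit 499903 j) (by decide +kernel) (q := a0⁻¹ • p) ((mem a0 rfl p).mp hp)
  obtain ⟨b1, hb1, hd1, hp1⟩ : ∃ b ∈ Cfsg.M24, b • pts 499903 = a0 • pts dd ∧ b (pt 0) = p :=
    ⟨a0 * g1, mul_mem ha0 (mem_Fx.mp hg1).1, keep _ _ _ rfl hg1 (by simp),
      by rw [Equiv.Perm.mul_apply, e1]; exact smul_inv_smul a0 p⟩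
  have ne_idx : ∀ (b : Equiv.Perm GolayPt) (s t : GolayPt) (i : ℕ), i < 24 → b (pt i) = t → s ≠ t →
      idx (b⁻¹ • s) ≠ i := fun b s t i hi ht hst he => hst (by
    rw [← ht, ← he, pt_idx]; exact (smul_inv_smul b s).symm)
  obtain ⟨g2, hg2, e2⟩ := exists_point stageDodPt dodPt2U_ok (i := 1) (by norm_num) dodPt2U_zero.1
    (cond := fun j => Nat.testBit 499903 j && j != 0) (by decide +kernel) (q := b1⁻¹ • q)
    (Bool.and_eq_true_iff.mpr ⟨(mem b1 hd1 q).mp hq, bne_iff_ne.mpr (ne_idx b1 q p 0 (by norm_num) hp1 hpq.symm)⟩)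
  obtain ⟨b2, hb2, hd2, hp2, hq2⟩ : ∃ b ∈ Cfsg.M24, b • pts 499903 = a0 • pts dd ∧ b (pt 0) = p ∧ b (pt 1) = q :=
    ⟨b1 * g2, mul_mem hb1 (mem_Fx.mp hg2).1, keep _ _ _ hd1 hg2 (by simp),
      by rw [Equiv.Perm.mul_apply, fix_point (i := 0) hg2 (by norm_num) (by simp), hp1],
      by rw [Equiv.Perm.mul_apply, e2]; exact smul_inv_smul b1 q⟩
  obtain ⟨g3, hg3, e3⟩ := exists_point stageDodPt2 dodPt3U_ok (i := 2) (by norm_num) dodPt3U_zero.1
    (cond := fun j => Nat.testBit 499903 j && j != 0 && j != 1) (by decide +kernel) (q := b2⁻¹ • r)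
    (Bool.and_eq_true_iff.mpr ⟨Bool.and_eq_true_iff.mpr ⟨(mem b2 hd2 r).mp hr,
      bne_iff_ne.mpr (ne_idx b2 r p 0 (by norm_num) hp2 hpr.symm)⟩, bne_iff_ne.mpr (ne_idx b2 r q 1 (by norm_num) hq2 hqr.symm)⟩)
  obtain ⟨a, ha, had, hap, haq, har⟩ : ∃ b ∈ Cfsg.M24, b • pts 499903 = a0 • pts dd ∧ b (pt 0) = p ∧
      b (pt 1) = q ∧ b (pt 2) = r :=
    ⟨b2 * g3, mul_mem hb2 (mem_Fx.mp hg3).1, keep _ _ _ hd2 hg3 (by simp),
      by rw [Equiv.Perm.mul_apply, fix_point (i := 0) hg3 (by norm_num) (by simp), hp2],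
      by rw [Equiv.Perm.mul_apply, fix_point (i := 1) hg3 (by norm_num) (by simp), hq2],
      by rw [Equiv.Perm.mul_apply, e3]; exact smul_inv_smul b2 r⟩
  subst hap haq har
  rw [← had]
  set a' : Cfsg.M24 := ⟨a, ha⟩
  have hK : MulAction.stabilizer Cfsg.M24 (a • pts 499903) ⊓ MulAction.stabilizer Cfsg.M24 (a (pt 0)) ⊓
      MulAction.stabilizer Cfsg.M24 (a (pt 1)) ⊓ MulAction.stabilizer Cfsg.M24 (a (pt 2)) =
      MulAction.stabilizer Cfsg.M24 (a' • (pts 499903, pt 0, pt 1, pt 2)) := by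
    ext g; simp [MulAction.mem_stabilizer_iff, Subgroup.mem_inf, Prod.ext_iff, and_assoc, Subgroup.smul_def, a']
  have hFx : ∀ g : Cfsg.M24, g ∈ MulAction.stabilizer Cfsg.M24 (pts 499903, pt 0, pt 1, pt 2) ↔
      (g : Equiv.Perm GolayPt) ∈ Fx [[4], [2], [1], [499903]] := fun g => by
    have h0 := fun k : Equiv.Perm GolayPt => smul_pts_point (g := k) (i := 0) (by norm_num)
    have h1 := fun k : Equiv.Perm GolayPt => smul_pts_point (g := k) (i := 1) (by norm_num)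
    have h2 := fun k : Equiv.Perm GolayPt => smul_pts_point (g := k) (i := 2) (by norm_num)
    simp only [Nat.reducePow] at h0 h1 h2
    simp only [MulAction.mem_stabilizer_iff, mem_Fx, List.forall_mem_cons, List.not_mem_nil, false_implies,
      implies_true, smul_fam_single, h0, h1, h2, Prod.smul_mk, Prod.mk.injEq, and_true]
    exact ⟨fun ⟨c1, c2, c3, c4⟩ => ⟨g.2, c4, c3, c2, c1⟩, fun ⟨_, c4, c3, c2, c1⟩ => ⟨c1, c2, c3, c4⟩⟩
  rw [hK]
  refine ⟨?_, fun x hx y hy => ?_⟩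
  · rw [MulAction.stabilizer_smul_eq_stabilizer_map_conj,
      ← Nat.card_congr (Subgroup.equivMapOfInjective _ _ (MulAut.conj a').injective).toEquiv, card_sub hFx,
      stageDodPt3.card_Fx]
  · have toPt : ∀ s, s ∉ a • pts 499903 → ∃ g ∈ Fx [[4], [2], [1], [499903]], g (pt 6) = a⁻¹ • s := fun s hs => by
      refine exists_point stageDodPt3 dodPtXU_ok (i := 6) (by norm_num) dodPtXU_zero.1
        (cond := fun j => !Nat.testBit 499903 j) (by decide +kernel) ?_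
      rw [← Finset.inv_smul_mem_iff, mem_pts] at hs
      simpa using hs
    obtain ⟨g, hg, eg⟩ := toPt x hx
    obtain ⟨k, hk, ek⟩ := toPt y hy
    obtain ⟨n, hn, hne⟩ : ∃ n : Equiv.Perm GolayPt, n ∈ Fx [[4], [2], [1], [499903]] ∧ n • (a⁻¹ • x) = a⁻¹ • y :=
      ⟨k * g⁻¹, mul_mem hk (inv_mem hg), by
        rw [← eg, mul_smul, ← Equiv.Perm.smul_def, inv_smul_smul]; exact ek⟩
    refine ⟨a' * ⟨n, (mem_Fx.mp hn).1⟩ * a'⁻¹, ?_, ?_⟩
    · rw [MulAction.mem_stabilizer_iff, mul_smul, mul_smul, inv_smul_smul,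
        MulAction.mem_stabilizer_iff.mp ((hFx _).mpr hn)]
    · show (a * n * a⁻¹) • x = y
      rw [mul_smul, mul_smul, hne, smul_inv_smul]

end Cfsg.Agent.S1600
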