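import Cfsg.Statements.S1603
import Cfsg.Agent.Lib.Spor.Golay.CensusCentralInvol
import Cfsg.Agent.Lib.Spor.Golay.CensusElem
import Cfsg.Agent.Lib.Spor.Golay.CensusSmallIso

set_option autoImplicit false
open scoped Pointwise
open Cfsg

namespace Cfsg.Agent.S1603

open Cfsg.Agent.Spor.Golay Cfsg.Agent.Spor.Golay.Census
open scoped Pointwise

/-- Involution centralisers in the smallest Mathieu group are isomorphic to GL(2, 3). -/
theorem result (d : Finset Cfsg.GolayPt) (hd : d ∈ Cfsg.dodecads) (p : Cfsg.GolayPt) (hp : p ∈ d) (x : ↥(MulAction.stabilizer Cfsg.M24 d ⊓ MulAction.stabilizer Cfsg.M24 p)) (hx : orderOf x = 2) : Nonempty (↥(Subgroup.centralizer ({x} : Set ↥(MulAction.stabilizer Cfsg.M24 d ⊓ MulAction.stabilizer Cfsg.M24 p))) ≃* GL (Fin 2) (ZMod 3)) := by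
  classical
  obtain ⟨a, ha, ead, eap⟩ := exists_dod_point hd hp
  have hK : ∀ g : Cfsg.M24, g ∈ MulAction.stabilizer Cfsg.M24 (pts 499903, pt 0) ↔
      (g : Equiv.Perm Cfsg.GolayPt) ∈ Fx [[1], [499903]] := by
    intro g
    rw [MulAction.mem_stabilizer_iff, mem_Fx, Prod.smul_mk, Prod.mk.injEq,
      List.forall_mem_cons, List.forall_mem_singleton, smul_fam_single, smul_fam_single]
    have s0 := smul_pts_point (g := (g : Equiv.Perm Cfsg.GolayPt)) (i := 0) (by norm_num)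
    norm_num at s0
    rw [s0]
    exact ⟨fun ⟨hd', h0⟩ => ⟨g.2, h0, hd'⟩, fun ⟨_, h0, hd'⟩ => ⟨hd', h0⟩⟩
  have hH : MulAction.stabilizer Cfsg.M24 d ⊓ MulAction.stabilizer Cfsg.M24 p =
      MulAction.stabilizer Cfsg.M24 ((⟨a, ha⟩ : Cfsg.M24) • (pts 499903, pt 0)) := by
    subst ead eap
    ext g
    simp [MulAction.mem_stabilizer_iff, Subgroup.mem_inf, Subgroup.smul_def]
  exact centralizer_invol_gl ((MulEquiv.subgroupCongr hH).trans (stdEquiv hK (⟨a, ha⟩ : Cfsg.M24))) hx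

end Cfsg.Agent.S1603
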