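import Cfsg.Statements.S1604
import Cfsg.Agent.Lib.Spor.Golay.CensusNested
import Cfsg.Agent.Lib.Spor.Golay.CensusPqO

set_option autoImplicit false
open scoped Pointwise
open Cfsg

namespace Cfsg.Agent.S1604

open Cfsg.Agent.Spor.Golay Cfsg.Agent.Spor.Golay.Census

theorem fixed {g : Equiv.Perm GolayPt} (hg : g ∈ Fx [[2], [1]]) : g (pt 0) = pt 0 ∧ g (pt 1) = pt 1 :=
  ⟨fix_point (i := 0) hg (by norm_num) (by simp), fix_point (i := 1) hg (by norm_num) (by simp)⟩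

/-- The universe. -/
noncomputable def LQ0 : List (Orb × ℕ) := [(pqOU, 0)]

theorem LQ0_ok : partSetOk octU (fun m => m.testBit 0 && m.testBit 1) (fun _ => 0) LQ0 = true := by decide +kernel

/-- Parts. -/
noncomputable def LQ : List (Orb × ℕ) := [(pqOO0, 8), (pqOO1, 2), (pqOO2, 4)]

theorem LQ_ok : partSetOk octU (fun m => m.testBit 0 && m.testBit 1) (fun m => pop (5279 &&& m)) LQ = true := by
  decide +kernel

/-- A hexad stabiliser in the two-point stabiliser has orbits of sizes 1, 16, 60 on the 77 hexads: the 16 hexads disjoint from it and the 60 meeting it in two points. -/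
theorem result (p q : Cfsg.GolayPt) (hpq : p ≠ q) (o o' o'' : Finset Cfsg.GolayPt) (ho : o ∈ Cfsg.octads) (ho' : o' ∈ Cfsg.octads) (ho'' : o'' ∈ Cfsg.octads) (hp : p ∈ o ∧ p ∈ o' ∧ p ∈ o'') (hq : q ∈ o ∧ q ∈ o' ∧ q ∈ o'') (h : (o ∩ o').card = (o ∩ o'').card) : {x : Finset Cfsg.GolayPt | x ∈ Cfsg.octads ∧ p ∈ x ∧ q ∈ x ∧ (o ∩ x).card = 2}.ncard = 16 ∧ {x : Finset Cfsg.GolayPt | x ∈ Cfsg.octads ∧ p ∈ x ∧ q ∈ x ∧ (o ∩ x).card = 4}.ncard = 60 ∧ ∃ g : Equiv.Perm Cfsg.GolayPt, g ∈ Cfsg.M24 ∧ g p = p ∧ g q = q ∧ g • o = o ∧ g • o' = o'' := by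
  obtain ⟨a0, ha0, e1, e2⟩ := exists_two hpq
  have hl0 : ∀ p ∈ LQ0, p.1.ok pt2SG = true ∧ eqL (p.1.obj 0) [(p.1.obj 0).headD 0] = true := by
    intro p hp; simp only [LQ0, List.mem_cons, List.not_mem_nil, or_false] at hp
    rcases hp with rfl
    exact ⟨pqOU_ok, by decide +kernel⟩
  have hl : ∀ p ∈ LQ, p.1.ok pqOSG = true ∧ eqL (p.1.obj 0) [(p.1.obj 0).headD 0] = true := by
    intro p hp; simp only [LQ, List.mem_cons, List.not_mem_nil, or_false] at hp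
    rcases hp with rfl | rfl | rfl
    exacts [⟨pqOO0_ok, by decide +kernel⟩, ⟨pqOO1_ok, by decide +kernel⟩, ⟨pqOO2_ok, by decide +kernel⟩]
  let P : Finset GolayPt → Prop := fun z => pt 0 ∈ z ∧ pt 1 ∈ z
  have hP : ∀ m < 2 ^ 24, (m.testBit 0 && m.testBit 1) = true ↔ P (pts m) := fun m _ => by simp [P, pt_mem_pts]
  obtain ⟨hs0, -⟩ := parts_set LQ0_ok (by decide) P (fun _ => 0) hP (fun _ _ => rfl)
  have hmem0 : ∀ z : Finset GolayPt, p ∈ z ∧ q ∈ z ↔ P (a0⁻¹ • z) := fun z => by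
    simp only [P, ← e1, ← e2, mem_inv_smul]
  obtain ⟨g0, hg0, ha, hao⟩ := exists_refine stagePt2 pqOU_ok pqOU_zero.1 ha0 (z := o) (by
    have e := hs0 (pqOU, 0) (by simp [LQ0])
    rw [← e, octU_setSet]
    exact ⟨(octads_smul ha0).mp ho, (hmem0 o).mp ⟨hp.1, hq.1⟩, rfl⟩)
  obtain ⟨k1, k2⟩ := fixed hg0
  obtain ⟨a, hadef⟩ : ∃ a, a = a0 * g0 := ⟨_, rfl⟩
  rw [← hadef] at ha hao
  have ap : a (pt 0) = p := by rw [hadef, Equiv.Perm.mul_apply, k1, e1]
  have aq : a (pt 1) = q := by rw [hadef, Equiv.Perm.mul_apply, k2, e2]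
  subst ap aq hao
  have hmem : ∀ z : Finset GolayPt, a (pt 0) ∈ z ∧ a (pt 1) ∈ z ↔ P (a⁻¹ • z) := fun z => by
    simp only [P, mem_inv_smul]
  obtain ⟨hs, hc⟩ := parts_set LQ_ok (by decide) P (fun z => (pts 5279 ∩ z).card) hP (fun k _ => card_inter_pts _ k)
  refine ⟨count_set stagePqO hs hl pqOO1 2 16 (by simp [LQ]) (by decide +kernel) a _ fun z => by
      rw [octU_setSet, Set.mem_setOf_eq, octads_smul ha, ← and_assoc (a := a (pt 0) ∈ z), hmem, card_inter_smul],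
    count_set stagePqO hs hl pqOO2 4 60 (by simp [LQ]) (by decide +kernel) a _ fun z => by
      rw [octU_setSet, Set.mem_setOf_eq, octads_smul ha, ← and_assoc (a := a (pt 0) ∈ z), hmem, card_inter_smul], ?_⟩
  rw [octU_setSet] at hc
  have hh := exists_same_part (S := Orb.setSet) (l := LQ) (by decide)
    (hc _ ((octads_smul ha).mp ho') ((hmem _).mp ⟨hp.2.1, hq.2.1⟩))
    (hc _ ((octads_smul ha).mp ho'') ((hmem _).mp ⟨hp.2.2, hq.2.2⟩))
    (by rw [← card_inter_smul, ← card_inter_smul]; exact h)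
  obtain ⟨g, hg, e1, e2⟩ := move_set stagePqO (stabilizer_three 5279 2 1) hl ha hh
  exact ⟨g, hg, (smul_point_iff (i := 0) (by norm_num)).mp (congrArg (fun x => x.2.2) e1),
    (smul_point_iff (i := 1) (by norm_num)).mp (congrArg (fun x => x.2.1) e1), congrArg Prod.fst e1, e2⟩

end Cfsg.Agent.S1604
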