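import Cfsg.Statements.S1605
import Cfsg.Agent.Lib.Spor.Golay.CensusNested
import Cfsg.Agent.Lib.Spor.Golay.CensusPqX

set_option autoImplicit false
open scoped Pointwise
open Cfsg

namespace Cfsg.Agent.S1605

open Cfsg.Agent.Spor.Golay Cfsg.Agent.Spor.Golay.Census

theorem fixed {g : Equiv.Perm GolayPt} (hg : g ∈ Fx [[2], [1]]) : g (pt 0) = pt 0 ∧ g (pt 1) = pt 1 :=
  ⟨fix_point (i := 0) hg (by norm_num) (by simp), fix_point (i := 1) hg (by norm_num) (by simp)⟩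

/-- The universe. -/
noncomputable def LX0 : List (Orb × ℕ) := [(pqXU, 0)]

theorem LX0_ok : partSetOk octU (fun m => m.testBit 0 && !m.testBit 1) (fun _ => 0) LX0 = true := by decide +kernel

/-- Parts. -/
noncomputable def LX : List (Orb × ℕ) := [(pqXO0, 8), (pqXO1, 2), (pqXO2, 4)]

theorem LX_ok : partSetOk octU (fun m => m.testBit 0 && !m.testBit 1) (fun m => pop (13062145 &&& m)) LX = true := by
  decide +kernel

/-- The two-point stabiliser acts on the 176 octads through the first point avoiding the second with rank 3 and subdegrees 1, 70, 105 (intersections 8, 2, 4). -/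
theorem result (p q : Cfsg.GolayPt) (hpq : p ≠ q) : {x : Finset Cfsg.GolayPt | (x ∈ Cfsg.octads ∧ p ∈ x ∧ q ∉ x)}.ncard = 176 ∧ (∀ o o' : Finset Cfsg.GolayPt, (o ∈ Cfsg.octads ∧ p ∈ o ∧ q ∉ o) → (o' ∈ Cfsg.octads ∧ p ∈ o' ∧ q ∉ o') → ∃ g : Equiv.Perm Cfsg.GolayPt, g ∈ Cfsg.M24 ∧ g p = p ∧ g q = q ∧ g • o = o') ∧ ∀ o : Finset Cfsg.GolayPt, (o ∈ Cfsg.octads ∧ p ∈ o ∧ q ∉ o) → {x : Finset Cfsg.GolayPt | (x ∈ Cfsg.octads ∧ p ∈ x ∧ q ∉ x) ∧ (o ∩ x).card = 2}.ncard = 70 ∧ {x : Finset Cfsg.GolayPt | (x ∈ Cfsg.octads ∧ p ∈ x ∧ q ∉ x) ∧ (o ∩ x).card = 4}.ncard = 105 ∧ ∀ o' o'' : Finset Cfsg.GolayPt, (o' ∈ Cfsg.octads ∧ p ∈ o' ∧ q ∉ o') → (o'' ∈ Cfsg.octads ∧ p ∈ o'' ∧ q ∉ o'') → (o ∩ o').card = (o ∩ o'').card → ∃ g : Equiv.Perm Cfsg.GolayPt, g ∈ Cfsg.M24 ∧ g p = p ∧ g q = q ∧ g • o = o ∧ g • o' = o'' := by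
  obtain ⟨a0, ha0, e1, e2⟩ := exists_two hpq
  have hl0 : ∀ p ∈ LX0, p.1.ok pt2SG = true ∧ eqL (p.1.obj 0) [(p.1.obj 0).headD 0] = true := by
    intro p hp; simp only [LX0, List.mem_cons, List.not_mem_nil, or_false] at hp
    rcases hp with rfl
    exact ⟨pqXU_ok, by decide +kernel⟩
  have hl : ∀ p ∈ LX, p.1.ok pqXSG = true ∧ eqL (p.1.obj 0) [(p.1.obj 0).headD 0] = true := by
    intro p hp; simp only [LX, List.mem_cons, List.not_mem_nil, or_false] at hp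
    rcases hp with rfl | rfl | rfl
    exacts [⟨pqXO0_ok, by decide +kernel⟩, ⟨pqXO1_ok, by decide +kernel⟩, ⟨pqXO2_ok, by decide +kernel⟩]
  let P : Finset GolayPt → Prop := fun z => pt 0 ∈ z ∧ pt 1 ∉ z
  have hP : ∀ m < 2 ^ 24, (m.testBit 0 && !m.testBit 1) = true ↔ P (pts m) := fun m _ => by simp [P, pt_mem_pts]
  obtain ⟨hs0, hc0⟩ := parts_set LX0_ok (by decide) P (fun _ => 0) hP (fun _ _ => rfl)
  rw [octU_setSet] at hc0
  have hmem0 : ∀ z : Finset GolayPt, z ∈ Cfsg.octads ∧ p ∈ z ∧ q ∉ z ↔ a0⁻¹ • z ∈ Cfsg.octads ∧ P (a0⁻¹ • z) := fun z => by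
    rw [octads_smul ha0]; simp only [P, ← e1, ← e2, mem_inv_smul]
  refine ⟨count_set stagePt2 hs0 hl0 pqXU 0 176 (by simp [LX0]) (by decide +kernel) a0 _ fun z => by
      rw [octU_setSet, Set.mem_setOf_eq, hmem0, and_iff_left rfl], fun o o' h1 h2 => ?_, fun o hh => ?_⟩
  · have hh := exists_same_part (S := Orb.setSet) (l := LX0) (by decide)
      (hc0 _ ((hmem0 o).mp h1).1 ((hmem0 o).mp h1).2) (hc0 _ ((hmem0 o').mp h2).1 ((hmem0 o').mp h2).2) rfl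
    obtain ⟨g, hg, f1, f2⟩ := move_set stagePt2 (stabilizer_two 2 1) hl0 ha0 hh
    refine ⟨g, hg, ?_, ?_, f2⟩
    · rw [← e1]; exact (smul_point_iff (i := 0) (by norm_num)).mp (congrArg Prod.snd f1)
    · rw [← e2]; exact (smul_point_iff (i := 1) (by norm_num)).mp (congrArg Prod.fst f1)
  obtain ⟨g0, hg0, ha, hao⟩ := exists_refine stagePt2 pqXU_ok pqXU_zero.1 ha0 (z := o) (by
    have e := hs0 (pqXU, 0) (by simp [LX0])
    rw [← e, octU_setSet]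
    exact ⟨((hmem0 o).mp hh).1, ((hmem0 o).mp hh).2, rfl⟩)
  obtain ⟨k1, k2⟩ := fixed hg0
  obtain ⟨a, hadef⟩ : ∃ a, a = a0 * g0 := ⟨_, rfl⟩
  rw [← hadef] at ha hao
  have ap : a (pt 0) = p := by rw [hadef, Equiv.Perm.mul_apply, k1, e1]
  have aq : a (pt 1) = q := by rw [hadef, Equiv.Perm.mul_apply, k2, e2]
  subst hao ap aq
  have hmem : ∀ z : Finset GolayPt, z ∈ Cfsg.octads ∧ a (pt 0) ∈ z ∧ a (pt 1) ∉ z ↔
      a⁻¹ • z ∈ Cfsg.octads ∧ P (a⁻¹ • z) := fun z => by rw [octads_smul ha]; simp only [P, mem_inv_smul]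
  obtain ⟨hs, hc⟩ := parts_set LX_ok (by decide) P (fun z => (pts 13062145 ∩ z).card) hP (fun k _ => card_inter_pts _ k)
  refine ⟨count_set stagePqX hs hl pqXO1 2 70 (by simp [LX]) (by decide +kernel) a _ fun z => by
      rw [octU_setSet, Set.mem_setOf_eq, hmem, and_assoc, card_inter_smul],
    count_set stagePqX hs hl pqXO2 4 105 (by simp [LX]) (by decide +kernel) a _ fun z => by
      rw [octU_setSet, Set.mem_setOf_eq, hmem, and_assoc, card_inter_smul], fun o' o'' h1 h2 h => ?_⟩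
  rw [octU_setSet] at hc
  have hh := exists_same_part (S := Orb.setSet) (l := LX) (by decide)
    (hc _ ((hmem _).mp h1).1 ((hmem _).mp h1).2) (hc _ ((hmem _).mp h2).1 ((hmem _).mp h2).2)
    (by rw [← card_inter_smul, ← card_inter_smul]; exact h)
  obtain ⟨g, hg, f1, f2⟩ := move_set stagePqX (stabilizer_three 13062145 2 1) hl ha hh
  exact ⟨g, hg, (smul_point_iff (i := 0) (by norm_num)).mp (congrArg (fun x => x.2.2) f1),
    (smul_point_iff (i := 1) (by norm_num)).mp (congrArg (fun x => x.2.1) f1), congrArg Prod.fst f1, f2⟩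

end Cfsg.Agent.S1605
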