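import Cfsg.Statements.S1607
import Cfsg.Agent.Lib.Spor.Golay.CensusNested
import Cfsg.Agent.Lib.Spor.Golay.CensusOctPt

set_option autoImplicit false
open scoped Pointwise
open Cfsg

namespace Cfsg.Agent.S1607

open Cfsg.Agent.Spor.Golay Cfsg.Agent.Spor.Golay.Census

/-- Parts. -/
noncomputable def LP : List (Orb × ℕ) := [(octPtO0, 8), (octPtO1, 2), (octPtO2, 4)]

theorem LP_ok : partSetOk octU (fun k => k.testBit 0) (fun k => pop (5279 &&& k)) LP = true := by decide +kernel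

/-- The point stabiliser acts on the 253 heptads of its S(4, 7, 23) with rank 3 and subdegrees 1, 112, 140 (intersections 8, 2, 4). -/
theorem result (x : Cfsg.GolayPt) (o : Finset Cfsg.GolayPt) (ho : o ∈ Cfsg.octads) (hx : x ∈ o) : {o' : Finset Cfsg.GolayPt | o' ∈ Cfsg.octads ∧ x ∈ o' ∧ (o ∩ o').card = 2}.ncard = 112 ∧ {o' : Finset Cfsg.GolayPt | o' ∈ Cfsg.octads ∧ x ∈ o' ∧ (o ∩ o').card = 4}.ncard = 140 ∧ ∀ o' o'' : Finset Cfsg.GolayPt, o' ∈ Cfsg.octads → o'' ∈ Cfsg.octads → x ∈ o' → x ∈ o'' → (o ∩ o').card = (o ∩ o'').card → ∃ g : Equiv.Perm Cfsg.GolayPt, g ∈ Cfsg.M24 ∧ g x = x ∧ g • o = o ∧ g • o' = o'' := by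
  obtain ⟨a0, ha0, e⟩ := exists_smul_octA ho
  subst e
  have hq : (fun j => Nat.testBit 5279 j) (idx (a0⁻¹ • x)) = true := by
    rw [← Finset.inv_smul_mem_iff, mem_pts] at hx
    simpa [octA, dd] using hx
  obtain ⟨g0, hg0, e0⟩ := exists_point stageOct octPtU_ok (i := 0) (by norm_num) octPtU_zero.1 (cond := (fun j => Nat.testBit 5279 j)) (by decide +kernel) hq
  obtain ⟨a, ha, hao, hax⟩ : ∃ a ∈ Cfsg.M24, a • pts 5279 = a0 • pts 5279 ∧ a (pt 0) = x :=
    ⟨a0 * g0, mul_mem ha0 (mem_Fx.mp hg0).1,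
      by rw [mul_smul, (smul_fam_single _).mp ((mem_Fx.mp hg0).2 _ (List.mem_singleton_self _))],
      by rw [Equiv.Perm.mul_apply, e0]; exact smul_inv_smul a0 x⟩
  rw [show a0 • pts octA = a • pts 5279 from hao.symm]
  subst hax
  have hl : ∀ p ∈ LP, p.1.ok octPtSG = true ∧ eqL (p.1.obj 0) [(p.1.obj 0).headD 0] = true := by
    intro p hp; simp only [LP, List.mem_cons, List.not_mem_nil, or_false] at hp
    rcases hp with rfl | rfl | rfl
    exacts [⟨octPtO0_ok, by decide +kernel⟩, ⟨octPtO1_ok, by decide +kernel⟩, ⟨octPtO2_ok, by decide +kernel⟩]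
  obtain ⟨hs, hc⟩ := parts_set LP_ok (by decide) (fun z => pt 0 ∈ z) (fun z => (pts 5279 ∩ z).card)
    (fun k _ => by simp [pt_mem_pts]) (fun k _ => card_inter_pts _ k)
  have hmem : ∀ z : Finset GolayPt, a (pt 0) ∈ z ↔ pt 0 ∈ a⁻¹ • z := fun z => mem_inv_smul
  refine ⟨count_set stageOctPt hs hl octPtO1 2 112 (by simp [LP]) (by decide +kernel) a _ fun z => by
      rw [octU_setSet, Set.mem_setOf_eq, octads_smul ha, hmem, card_inter_smul],
    count_set stageOctPt hs hl octPtO2 4 140 (by simp [LP]) (by decide +kernel) a _ fun z => by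
      rw [octU_setSet, Set.mem_setOf_eq, octads_smul ha, hmem, card_inter_smul], fun o' o'' ho' ho'' hx' hx'' h => ?_⟩
  rw [octU_setSet] at hc
  have hp := exists_same_part (S := Orb.setSet) (l := LP) (by decide)
    (hc _ ((octads_smul ha).mp ho') ((hmem _).mp hx')) (hc _ ((octads_smul ha).mp ho'') ((hmem _).mp hx''))
    (by rw [← card_inter_smul, ← card_inter_smul]; exact h)
  obtain ⟨g, hg, e1, e2⟩ := move_set stageOctPt (stabilizer_two 1 5279) hl ha hp
  exact ⟨g, hg, (smul_point_iff (i := 0) (by norm_num)).mp (congrArg Prod.fst e1), congrArg Prod.snd e1, e2⟩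

end Cfsg.Agent.S1607
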