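import Cfsg.Statements.S1610
import Cfsg.Agent.Lib.Spor.Golay.Hexacode

set_option autoImplicit false
open Cfsg

namespace Cfsg.Agent.S1610

open Cfsg.Agent.Spor.Hexa
theorem weights : ∀ k : Q × Q × Q, weight k = 0 ∧ k = ((false, false), (false, false), (false, false)) ∨
    weight k = 4 ∨ weight k = 6 := by decide +kernel

theorem c4 : (Finset.univ.filter fun k : Q × Q × Q => weight k = 4).card = 45 := by decide +kernel

theorem c6 : (Finset.univ.filter fun k : Q × Q × Q => weight k = 6).card = 18 := by decide +kernel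

/-- The hexacode has 64 words, minimum weight 4, and weight distribution 0^1 4^45 6^18. -/
theorem result (F : Type*) [Field F] [Fintype F] [DecidableEq F] (hF : Fintype.card F = 4) (ω : F) (hω : ω ^ 2 + ω + 1 = 0) : Nat.card ↥(Cfsg.hexacode F ω) = 64 ∧ (∀ x ∈ Cfsg.hexacode F ω, x ≠ 0 → (Finset.univ.filter fun i => x i ≠ 0).card = 4 ∨ (Finset.univ.filter fun i => x i ≠ 0).card = 6) ∧ {x : Fin 6 → F | x ∈ Cfsg.hexacode F ω ∧ (Finset.univ.filter fun i => x i ≠ 0).card = 4}.ncard = 45 ∧ {x : Fin 6 → F | x ∈ Cfsg.hexacode F ω ∧ (Finset.univ.filter fun i => x i ≠ 0).card = 6}.ncard = 18 := by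
  classical
  have h2 := two_eq_zero hF
  let e : Q × Q × Q → Fin 6 → F := fun k i => φ ω (word k i)
  have einj : Function.Injective e := fun k l h => word_injective (funext fun i =>
    (φ_bijective hF ω hω).1 (congrFun h i))
  have hw : ∀ k, (Finset.univ.filter fun i => e k i ≠ 0).card = weight k := by
    intro k
    refine congrArg Finset.card (Finset.filter_congr fun i _ => not_congr ⟨fun h => ?_, fun h => ?_⟩)
    · exact (φ_bijective hF ω hω).1 (h.trans (φ_zero ω).symm)
    · exact (congrArg (φ ω) h).trans (φ_zero ω)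
  have hcount : ∀ n, {x : Fin 6 → F | x ∈ Cfsg.hexacode F ω ∧
      (Finset.univ.filter fun i => x i ≠ 0).card = n}.ncard =
      (Finset.univ.filter fun k => weight k = n).card := by
    intro n
    rw [← Finset.card_image_of_injective _ einj, ← Set.ncard_coe_finset]
    congr 1
    ext x
    simp only [Set.mem_setOf_eq, mem_iff hF ω hω, Finset.coe_image, Finset.coe_filter,
      Finset.mem_univ, true_and, Set.mem_image]
    constructor
    · rintro ⟨⟨k, rfl⟩, h⟩; exact ⟨k, (hw k).symm.trans h, rfl⟩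
    · rintro ⟨k, h, rfl⟩; exact ⟨⟨k, rfl⟩, (hw k).trans h⟩
  refine ⟨?_, fun x hx hne => ?_, (hcount 4).trans c4, (hcount 6).trans c6⟩
  · have hb : Function.Bijective (fun k => (⟨e k, (mem_iff hF ω hω _).mpr ⟨k, rfl⟩⟩ :
        Cfsg.hexacode F ω)) :=
      ⟨fun k l h => einj (congrArg Subtype.val h), fun ⟨x, hx⟩ => by
        obtain ⟨k, rfl⟩ := (mem_iff hF ω hω x).mp hx
        exact ⟨k, rfl⟩⟩
    rw [← Nat.card_congr (Equiv.ofBijective _ hb)]
    simp
  · obtain ⟨k, rfl⟩ := (mem_iff hF ω hω x).mp hx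
    rcases weights k with ⟨-, rfl⟩ | h | h
    · exact absurd (funext fun i => by fin_cases i <;> simp [word, gen, qmul, qadd, φ_zero]) hne
    · exact Or.inl ((hw k).trans h)
    · exact Or.inr ((hw k).trans h)

end Cfsg.Agent.S1610
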