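import Cfsg.Statements.S1612
import Cfsg.Agent.Lib.Spor.ThreeTransRank

set_option autoImplicit false
open Cfsg

namespace Cfsg.Agent.S1612

/-- In a 3-transposition group (no solvable normal subgroup, perfect derived group), the normaliser of a commuting set of transpositions of maximum size contains a Sylow 2-subgroup and is doubly transitive on the set. -/
theorem result {G : Type*} [Group G] [Finite G] (hsol : ∀ N : Subgroup G, N.Normal → Group.IsSolvable ↥N → N = ⊥) (hperf : ⁅commutator G, commutator G⁆ = commutator G) {D : Set G} (hD : Cfsg.IsThreeTranspositionClass D) {E : Set G} (hE : E ⊆ D) (hc : ∀ a ∈ E, ∀ b ∈ E, Commute a b) (hmax : ∀ E' : Set G, E' ⊆ D → (∀ a ∈ E', ∀ b ∈ E', Commute a b) → E'.ncard ≤ E.ncard) : (∃ P : Sylow 2 G, (P : Subgroup G) ≤ Subgroup.normalizer E) ∧ ∀ a ∈ E, ∀ b ∈ E, ∀ c ∈ E, ∀ d ∈ E, a ≠ b → c ≠ d → ∃ g ∈ Subgroup.normalizer E, g * a * g⁻¹ = c ∧ g * b * g⁻¹ = d := by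
  open Cfsg.Agent.Spor.ThreeTrans in
  have H := hyp_of_no_solvable hsol hperf hD
  have h := hD
  open Cfsg.Agent.Spor.ThreeTrans in
  refine ⟨?_, fun a ha b hb c hcE d hd hab hcd => ?_⟩
  · have : Fact (Nat.Prime 2) := ⟨Nat.prime_two⟩
    have : IsMulCommutative (Subgroup.closure E) := Subgroup.isMulCommutative_closure hc
    have hp : IsPGroup 2 (Subgroup.closure E) := by
      intro w
      refine ⟨1, ?_⟩
      obtain ⟨w, hw⟩ := w
      induction hw using Subgroup.closure_induction with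
      | mem v hv => exact Subtype.ext (by simpa [pow_two] using mul_self hD.1 (hE hv))
      | one => exact one_pow _
      | mul v v' hv hv' e e' =>
        rw [show (⟨v * v', mul_mem hv hv'⟩ : Subgroup.closure E) = ⟨v, hv⟩ * ⟨v', hv'⟩ from rfl,
          Commute.mul_pow (mul_comm' (⟨v, hv⟩ : Subgroup.closure E) ⟨v', hv'⟩), e, e', one_mul]
      | inv v hv e =>
        rw [show (⟨v⁻¹, inv_mem hv⟩ : Subgroup.closure E) = ⟨v, hv⟩⁻¹ from rfl, inv_pow, e, inv_one]
    obtain ⟨P, hP⟩ := hp.exists_le_sylow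
    refine ⟨P, fun g hg => ?_⟩
    have hED : E = D ∩ (P : Set G) := by
      refine Set.eq_of_subset_of_ncard_le
        (fun u hu => ⟨hE hu, hP (Subgroup.subset_closure hu)⟩) ?_ (Set.toFinite _)
      refine hmax _ Set.inter_subset_left ?_
      rintro u ⟨hu, hu'⟩ v ⟨hv, hv'⟩
      rcases hD.1.2 u hu v hv with e | e
      · have h2 : u * v * (u * v) = 1 := by rwa [← pow_two]
        have := inv_eq_of_mul_eq_one_left h2
        rw [mul_inv_rev, inv_eq hD.1 hu, inv_eq hD.1 hv] at this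
        exact this.symm
      · obtain ⟨k, hk⟩ := P.isPGroup' ⟨u * v, mul_mem hu' hv'⟩
        have hk' : (u * v) ^ 2 ^ k = 1 := congrArg Subtype.val hk
        have : orderOf (u * v) ∣ Nat.gcd 3 (2 ^ k) :=
          Nat.dvd_gcd (orderOf_dvd_of_pow_eq_one e) (orderOf_dvd_of_pow_eq_one hk')
        rw [Nat.Coprime.pow_right k (by norm_num : Nat.Coprime 3 2), Nat.dvd_one,
          orderOf_eq_one_iff] at this
        rw [eq_inv_of_mul_eq_one_left this, inv_eq hD.1 hv]
    rw [Subgroup.mem_set_normalizer_iff]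
    intro u
    rw [hED]
    refine and_congr ⟨fun hu => conj_mem hD g hu, fun hu => ?_⟩ ?_
    · simpa [mul_assoc] using conj_mem hD g⁻¹ hu
    · refine ⟨fun hu => (P : Subgroup G).mul_mem ((P : Subgroup G).mul_mem hg hu)
        ((P : Subgroup G).inv_mem hg), fun hu => ?_⟩
      have := (P : Subgroup G).mul_mem ((P : Subgroup G).mul_mem ((P : Subgroup G).inv_mem hg) hu) hg
      simp only [mul_assoc, inv_mul_cancel_left, inv_mul_cancel, mul_one] at this
      exact this
  · obtain ⟨g₀, hg₀⟩ := transitive hD (hE ha) (hE hcE)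
    have hb' : g₀ * b * g₀⁻¹ ∈ perp D c := by
      rw [← hg₀, perp_conj hD]
      exact ⟨b, ⟨hE hb, Ne.symm hab, hc a ha b hb⟩, rfl⟩
    obtain ⟨g₁, hg₁, e₁⟩ := transitive_perp H (hE hcE) hb'
      (y' := d) ⟨hE hd, Ne.symm hcd, hc c hcE d hd⟩
    have hg₁c : Commute g₁ c := localGroup_commute (Subgroup.closure_mono (Set.subset_insert _ _) hg₁)
    set g := g₁ * g₀ with hg
    have hga : g * a * g⁻¹ = c := by
      calc g * a * g⁻¹ = g₁ * (g₀ * a * g₀⁻¹) * g₁⁻¹ := by simp [hg, mul_assoc]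
        _ = c := by rw [hg₀, conj_self_eq hg₁c]
    have hgb : g * b * g⁻¹ = d := by
      rw [← e₁]; simp [hg, mul_assoc]
    let E' : Set G := (fun u => g * u * g⁻¹) '' E
    have hE'D : E' ⊆ D := by rintro _ ⟨u, hu, rfl⟩; exact conj_mem hD g (hE hu)
    have hE'c : ∀ u ∈ E', ∀ v ∈ E', Commute u v := by
      rintro _ ⟨u, hu, rfl⟩ _ ⟨v, hv, rfl⟩
      exact (commute_conj_iff g u v).mpr (hc u hu v hv)
    have hcd' : c ∈ E' ∧ d ∈ E' := ⟨⟨a, ha, hga⟩, ⟨b, hb, hgb⟩⟩
    have hK : ∀ F : Set G, (∀ u ∈ F, ∀ v ∈ F, Commute u v) → c ∈ F → d ∈ F →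
        F ⊆ (Subgroup.centralizer ({c, d} : Set G) : Set G) := by
      intro F hF hcF hdF u hu
      rw [SetLike.mem_coe, Subgroup.mem_centralizer_iff]
      rintro w (rfl | rfl)
      · exact (hF _ hcF u hu).eq
      · exact (hF _ hdF u hu).eq
    obtain ⟨k, hk, hiff⟩ := exists_conj_max hD (Subgroup.centralizer ({c, d} : Set G)) hE hc hE'D
      hE'c (hK E hc hcE hd) (hK E' hE'c hcd'.1 hcd'.2) hmax
      (Set.ncard_image_of_injective _ fun u v e => by simpa using e)
    have hkc : Commute k c := (Subgroup.mem_centralizer_iff.mp hk c (Or.inl rfl)).symm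
    have hkd : Commute k d := (Subgroup.mem_centralizer_iff.mp hk d (Or.inr rfl)).symm
    refine ⟨k * g, ?_, ?_, ?_⟩
    · rw [Subgroup.mem_set_normalizer_iff]
      intro u
      have e1 : u ∈ E ↔ g * u * g⁻¹ ∈ E' :=
        ⟨fun hu => ⟨u, hu, rfl⟩, fun ⟨v, hv, e⟩ => by
          obtain rfl : v = u := by simpa using e
          exact hv⟩
      rw [e1, hiff]
      simp [mul_assoc]
    · calc k * g * a * (k * g)⁻¹ = k * (g * a * g⁻¹) * k⁻¹ := by simp [mul_assoc]
        _ = c := by rw [hga, conj_self_eq hkc]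
    · calc k * g * b * (k * g)⁻¹ = k * (g * b * g⁻¹) * k⁻¹ := by simp [mul_assoc]
        _ = d := by rw [hgb, conj_self_eq hkd]

end Cfsg.Agent.S1612
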