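import Cfsg.Statements.S1618
import Cfsg.Agent.Lib.Invol.ZStarPrime
-- import your own Cfsg.Agent.* helpers here

set_option autoImplicit false
open Cfsg
open scoped commutatorElement

namespace Cfsg.Agent.S1618

/-- A group generated by a class of involutions whose pairwise products (of distinct members) have p-power order for a fixed odd prime p has nilpotent derived subgroup. -/
theorem result {G : Type*} [Group G] [Finite G] (p : ℕ) (hp : p.Prime) (hodd : p ≠ 2) {D : Set G} (hinv : ∀ d ∈ D, orderOf d = 2) (hconj : ∃ d ∈ D, D = conjugatesOf d) (hgen : Subgroup.closure D = ⊤) (hprod : ∀ x ∈ D, ∀ y ∈ D, x ≠ y → ∃ k : ℕ, orderOf (x * y) = p ^ k) : Group.IsNilpotent ↥(commutator G) := by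
  haveI : Fact p.Prime := ⟨hp⟩
  obtain ⟨d, hdD, hD⟩ := hconj
  have hd2 := hinv d hdD
  have hd1 : ∀ g : G, ∃ k : ℕ, orderOf (d * (g * d * g⁻¹)) = p ^ k := by
    intro g
    by_cases he : d = g * d * g⁻¹
    · exact ⟨0, by rw [← he, Invol.mul_self_of_orderOf_two hd2, orderOf_one, pow_zero]⟩
    · exact hprod d hdD _ (hD.symm ▸ (isConj_iff.2 ⟨g, rfl⟩)) he
  set N := Cfsg.pCore p G
  haveI hN : N.Normal := Grp.pCore_isNormal
  have htop : ∀ x : G, x ∈ N ⊔ Subgroup.zpowers d := by
    intro x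
    have hle : Subgroup.closure D ≤ N ⊔ Subgroup.zpowers d := (Subgroup.closure_le _).2 fun w hw => by
      rw [hD] at hw
      obtain ⟨g, rfl⟩ := isConj_iff.1 hw
      have h1 : d⁻¹ * (d * (g * d * g⁻¹)) ∈ N ⊔ Subgroup.zpowers d :=
        mul_mem (inv_mem (Subgroup.mem_sup_right (Subgroup.mem_zpowers d)))
          (Subgroup.mem_sup_left (ZStar.products_mem_pCore hodd hd2 hd1 g))
      simpa using h1
    exact hle (hgen ▸ Subgroup.mem_top x)
  have hrep : ∀ x : G, ∃ i : ℤ, QuotientGroup.mk' N x = QuotientGroup.mk' N d ^ i := fun x => by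
    obtain ⟨n, hn, w, hw, rfl⟩ := Subgroup.mem_sup_of_normal_left.1 (htop x)
    obtain ⟨i, rfl⟩ := Subgroup.mem_zpowers_iff.1 hw
    exact ⟨i, by rw [map_mul, show QuotientGroup.mk' N n = 1 from (QuotientGroup.eq_one_iff n).2 hn,
      one_mul, map_zpow]⟩
  have hle : commutator G ≤ N := by
    rw [commutator_def, Subgroup.commutator_le]
    intro a _ b _
    rw [← QuotientGroup.eq_one_iff]
    show QuotientGroup.mk' N ⁅a, b⁆ = 1
    obtain ⟨i, hi⟩ := hrep a
    obtain ⟨j, hj⟩ := hrep b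
    rw [map_commutatorElement, hi, hj, commutatorElement_eq_one_iff_mul_comm]
    exact ((Commute.refl _).zpow_zpow i j).eq
  exact ((Grp.pCore_isPGroup (p := p) (G := G)).to_le hle).isNilpotent

end Cfsg.Agent.S1618
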