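import Cfsg.Statements.S1626
import Cfsg.Agent.Lib.Spor.Cos.J3.Lines
import Cfsg.Agent.Lib.Spor.Cos.J3.Transfer

set_option autoImplicit false
open scoped MatrixGroups
open Matrix
open Cfsg

open Cfsg.Agent.Spor.Cos Cfsg.Agent.Spor.Cos.J3

namespace Cfsg.Agent.S1626

/-- Orbits of the triple cover of the third Janko group on lines of its 9-space over the field with 4 elements: the line through the first basis vector has exactly 23256 images, and the isotropic lines (nonzero v with Σ v_z³ = 0) form a single orbit. -/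
theorem result (F : Type) [Field F] [Fintype F] (hF : Fintype.card F = 4) (ω : F) (hω : ω ^ 2 + ω + 1 = 0) : {L : Submodule F (Cfsg.Spor.F9 → F) | ∃ g ∈ Cfsg.Spor.threeJ3 F ω, L = F ∙ ((g : Matrix Cfsg.Spor.F9 Cfsg.Spor.F9 F) *ᵥ (Pi.single (0 : Cfsg.Spor.F9) (1 : F) : Cfsg.Spor.F9 → F))}.ncard = 23256 ∧ ∀ v w : Cfsg.Spor.F9 → F, v ≠ 0 → w ≠ 0 → ∑ z, (v z) ^ 3 = 0 → ∑ z, (w z) ^ 3 = 0 → ∃ g ∈ Cfsg.Spor.threeJ3 F ω, ∃ c : F, c ≠ 0 ∧ (g : Matrix Cfsg.Spor.F9 Cfsg.Spor.F9 F) *ᵥ v = c • w := by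
  obtain ⟨φ, rfl⟩ := exists_fieldEquiv hF ω hω
  have hmul : ∀ (u : L9) (a : X9 → F4),
      ((glMap φ u : GL X9 F) : Matrix X9 X9 F) *ᵥ (φ ∘ a) = φ ∘ ((u : Matrix X9 X9 F4) *ᵥ a) := fun u a =>
    funext fun z => (RingHom.map_mulVec φ.toRingHom (u : Matrix X9 X9 F4) a z).symm
  have he : (Pi.single (0 : Cfsg.Spor.F9) (1 : F) : Cfsg.Spor.F9 → F) = φ ∘ e0 := by
    funext z
    by_cases hz : z = 0
    · subst hz; simp [e0]
    · simp [e0, hz]
  have hsm : ∀ (c : F4) (a : X9 → F4), φ ∘ (c • a) = φ c • (φ ∘ a) := fun c a =>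
    funext fun z => map_mul φ c (a z)
  refine ⟨?_, fun v w hv hw hv3 hw3 => ?_⟩
  · rw [← threeJ3_map φ, he]
    have hset : {L : Submodule F (Cfsg.Spor.F9 → F) | ∃ g ∈ (Cfsg.Spor.threeJ3 F4 F4.w).map (glMap φ),
          L = F ∙ ((g : Matrix Cfsg.Spor.F9 Cfsg.Spor.F9 F) *ᵥ (φ ∘ e0))} =
        (fun L : Submodule F4 (X9 → F4) => Submodule.span F ((fun a => φ ∘ a) '' (L : Set (X9 → F4)))) ''
          {L | ∃ u ∈ U9, L = F4 ∙ (((u : L9) : Matrix X9 X9 F4) *ᵥ e0)} := by
      have key : ∀ a : X9 → F4, Submodule.span F ((fun b => φ ∘ b) '' ((F4 ∙ a : Submodule F4 _) : Set (X9 → F4))) =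
          F ∙ (φ ∘ a) := by
        intro a
        refine le_antisymm (Submodule.span_le.2 ?_) (Submodule.span_le.2 ?_)
        · rintro _ ⟨b, hb, rfl⟩
          obtain ⟨c, rfl⟩ := Submodule.mem_span_singleton.1 hb
          show φ ∘ (c • a) ∈ _
          rw [hsm]
          exact Submodule.smul_mem _ _ (Submodule.mem_span_singleton_self _)
        · rintro _ rfl
          exact Submodule.subset_span ⟨a, Submodule.mem_span_singleton_self a, rfl⟩
      ext L
      constructor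
      · rintro ⟨_, ⟨u, hu, rfl⟩, rfl⟩
        refine ⟨_, ⟨u, hu, rfl⟩, ?_⟩
        rw [hmul]
        exact key _
      · rintro ⟨_, ⟨u, hu, rfl⟩, rfl⟩
        refine ⟨_, ⟨u, hu, rfl⟩, ?_⟩
        rw [hmul]
        exact key _
    rw [hset, Set.InjOn.ncard_image, orbit_ncard]
    intro L _ L' _ h
    have back : ∀ M : Submodule F4 (X9 → F4), ∀ a, φ ∘ a ∈ Submodule.span F ((fun b => φ ∘ b) '' (M : Set (X9 → F4))) →
        a ∈ M := by
      intro M
      let M' : Submodule F (X9 → F) :=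
        { carrier := {x | φ.symm ∘ x ∈ M}
          zero_mem' := by
            show φ.symm ∘ (0 : X9 → F) ∈ M
            rw [show φ.symm ∘ (0 : X9 → F) = 0 from funext fun z => map_zero φ.symm]
            exact zero_mem M
          add_mem' := by
            intro x y hx hy
            show φ.symm ∘ (x + y) ∈ M
            rw [show φ.symm ∘ (x + y) = φ.symm ∘ x + φ.symm ∘ y from funext fun z => map_add φ.symm _ _]
            exact add_mem hx hy
          smul_mem' := by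
            intro c x hx
            show φ.symm ∘ (c • x) ∈ M
            rw [show φ.symm ∘ (c • x) = φ.symm c • (φ.symm ∘ x) from funext fun z => map_mul φ.symm _ _]
            exact M.smul_mem _ hx }
      intro a ha
      have hle : Submodule.span F ((fun b => φ ∘ b) '' (M : Set (X9 → F4))) ≤ M' := Submodule.span_le.2 (by
        rintro _ ⟨b, hb, rfl⟩
        show φ.symm ∘ (φ ∘ b) ∈ M
        rwa [show φ.symm ∘ (φ ∘ b) = b from funext fun z => φ.symm_apply_apply _])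
      have : φ.symm ∘ (φ ∘ a) ∈ M := hle ha
      rwa [show φ.symm ∘ (φ ∘ a) = a from funext fun z => φ.symm_apply_apply _] at this
    simp only at h
    ext a
    exact ⟨fun ha => back L' a (h ▸ Submodule.subset_span ⟨a, ha, rfl⟩),
      fun ha => back L a (h.symm ▸ Submodule.subset_span ⟨a, ha, rfl⟩)⟩
  · obtain ⟨v', rfl⟩ : ∃ a : X9 → F4, φ ∘ a = v := ⟨φ.symm ∘ v, funext fun z => φ.apply_symm_apply _⟩
    obtain ⟨w', rfl⟩ : ∃ a : X9 → F4, φ ∘ a = w := ⟨φ.symm ∘ w, funext fun z => φ.apply_symm_apply _⟩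
    have h3 : ∀ a : X9 → F4, ∑ z, ((φ ∘ a) z) ^ 3 = 0 → cubeSum a = 0 := fun a h => φ.injective (by
      rw [map_zero, cubeSum, map_sum]
      simpa [Function.comp_def] using h)
    have hne : ∀ a : X9 → F4, φ ∘ a ≠ 0 → a ≠ 0 := fun a h e => h (by
      subst e; exact funext fun z => map_zero φ)
    obtain ⟨u, hu, c, hc, e⟩ := isotropic_transitive (hne _ hv) (hne _ hw) (h3 _ hv3) (h3 _ hw3)
    exact ⟨glMap φ u, threeJ3_map φ ▸ Subgroup.mem_map_of_mem _ hu, φ c, (map_ne_zero_iff _ φ.injective).2 hc, by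
      rw [hmul, e, hsm]⟩

end Cfsg.Agent.S1626
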