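import Cfsg.Statements.S1635
import Cfsg.Agent.Lib.Spor.Golay.Words

set_option autoImplicit false
open Cfsg

namespace Cfsg.Agent.S1635

open Cfsg.Agent.Spor.Golay

/-- Coset leaders of the length-24 code: a coset contains a unique word of weight ≤ 3, or else exactly six words of weight 4 and none lighter. -/
theorem result (w : Cfsg.GolayPt → ZMod 2) : ({v : Cfsg.GolayPt → ZMod 2 | hammingNorm v ≤ 4 ∧ w - v ∈ Cfsg.golayCode}.ncard = 1 ∧ ∃ v : Cfsg.GolayPt → ZMod 2, hammingNorm v ≤ 3 ∧ w - v ∈ Cfsg.golayCode) ∨ ({v : Cfsg.GolayPt → ZMod 2 | hammingNorm v ≤ 4 ∧ w - v ∈ Cfsg.golayCode}.ncard = 6 ∧ ∀ v : Cfsg.GolayPt → ZMod 2, w - v ∈ Cfsg.golayCode → hammingNorm v ≤ 4 → hammingNorm v = 4) := by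
  rw [ncard_leader_words]
  obtain ⟨t, ht, hc⟩ := exists_leader (Cfsg.support₂ w)
  rw [leaders_eq hc]
  obtain ⟨v, hv⟩ := exists_word t
  by_cases h3 : t.card ≤ 3
  · refine Or.inl ⟨Finset.card_eq_one.mpr ⟨t, ?_⟩, v, ?_, ?_⟩
    · ext u
      simp only [mem_leaders, Finset.mem_singleton]
      exact ⟨fun h => (light_unique h3 h.1 h.2).symm, fun h => by rw [h]; exact ⟨ht, Cls.refl t⟩⟩
    · rw [hammingNorm_eq_card, hv]; exact h3
    · rw [sub_mem_iff, hv]; exact hc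
  · have h4 : t.card = 4 := by omega
    refine Or.inr ⟨card_leaders h4, fun u hu hu' => ?_⟩
    rw [hammingNorm_eq_card] at hu' ⊢
    exact leader_card h4 (mem_leaders.mpr ⟨hu', hc.symm.trans (sub_mem_iff.mp hu)⟩)

end Cfsg.Agent.S1635
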