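import Cfsg.Statements.S1636
import Cfsg.Agent.Lib.Spor.Golay.Words

set_option autoImplicit false
open Cfsg

namespace Cfsg.Agent.S1636

open Cfsg.Agent.Spor.Golay
theorem count (k n : ℕ) (h : codeList.countP (fun m => pop (m &&& 8388607) == k) = n) :
    {u : ZMod 23 → ZMod 2 | u ∈ {u : ZMod 23 → ZMod 2 |
      ∃ w ∈ Cfsg.golayCode, ∀ x : ZMod 23, u x = w (some x)} ∧ hammingNorm u = k}.ncard = n := by
  rw [ncard_punct (fun u => hammingNorm u = k),
    ncard_code_eq_countP (fun w => hammingNorm (punct w) = k)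
      (fun m => pop (m &&& 8388607) == k) (fun m => by rw [hammingNorm_punct_vec, beq_iff_eq]), h]

theorem c7 : codeList.countP (fun m => pop (m &&& 8388607) == 7) = 253 := by decide +kernel

theorem c8 : codeList.countP (fun m => pop (m &&& 8388607) == 8) = 506 := by decide +kernel

theorem c11 : codeList.countP (fun m => pop (m &&& 8388607) == 11) = 1288 := by decide +kernel

theorem c12 : codeList.countP (fun m => pop (m &&& 8388607) == 12) = 1288 := by decide +kernel

theorem c15 : codeList.countP (fun m => pop (m &&& 8388607) == 15) = 506 := by decide +kernel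

theorem c16 : codeList.countP (fun m => pop (m &&& 8388607) == 16) = 253 := by decide +kernel

/-- The punctured length-23 code has weight distribution 0^1 7^253 8^506 11^1288 12^1288 15^506 16^253 23^1. -/
theorem result : {u : ZMod 23 → ZMod 2 | ∃ w ∈ Cfsg.golayCode, ∀ x : ZMod 23, u x = w (some x)}.ncard = 4096 ∧ {u : ZMod 23 → ZMod 2 | u ∈ {u : ZMod 23 → ZMod 2 | ∃ w ∈ Cfsg.golayCode, ∀ x : ZMod 23, u x = w (some x)} ∧ hammingNorm u = 7}.ncard = 253 ∧ {u : ZMod 23 → ZMod 2 | u ∈ {u : ZMod 23 → ZMod 2 | ∃ w ∈ Cfsg.golayCode, ∀ x : ZMod 23, u x = w (some x)} ∧ hammingNorm u = 8}.ncard = 506 ∧ {u : ZMod 23 → ZMod 2 | u ∈ {u : ZMod 23 → ZMod 2 | ∃ w ∈ Cfsg.golayCode, ∀ x : ZMod 23, u x = w (some x)} ∧ hammingNorm u = 11}.ncard = 1288 ∧ {u : ZMod 23 → ZMod 2 | u ∈ {u : ZMod 23 → ZMod 2 | ∃ w ∈ Cfsg.golayCode, ∀ x : ZMod 23, u x = w (some x)} ∧ hammingNorm u = 12}.ncard = 1288 ∧ {u : ZMod 23 → ZMod 2 | u ∈ {u : ZMod 23 → ZMod 2 | ∃ w ∈ Cfsg.golayCode,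 ∀ x : ZMod 23, u x = w (some x)} ∧ hammingNorm u = 15}.ncard = 506 ∧ {u : ZMod 23 → ZMod 2 | u ∈ {u : ZMod 23 → ZMod 2 | ∃ w ∈ Cfsg.golayCode, ∀ x : ZMod 23, u x = w (some x)} ∧ hammingNorm u = 16}.ncard = 253 ∧ ∀ u ∈ {u : ZMod 23 → ZMod 2 | ∃ w ∈ Cfsg.golayCode, ∀ x : ZMod 23, u x = w (some x)}, u ≠ 0 → 7 ≤ hammingNorm u := by
  refine ⟨?_, count 7 253 c7, count 8 506 c8,
    count 11 1288 c11, count 12 1288 c12, count 15 506 c15,
    count 16 253 c16, fun u hu hne => ?_⟩
  · have h := ncard_punct (fun _ => True)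
    simp only [and_true] at h
    simp only [Set.setOf_mem_eq] at h
    rw [h, ← card_golayCode, ← Nat.card_coe_set_eq]
    rfl
  · obtain ⟨w, hw, e⟩ := hu
    have hu' : u = punct w := funext e
    subst hu'
    rw [card_support_punct]
    have hcard := card_code (mem_code_iff_support.mp hw)
    have hp := Finset.pred_card_le_card_erase (a := none) (s := Cfsg.support₂ w)
    have hpos : (Cfsg.support₂ w).card ≠ 0 := fun h0 => hne (by
      have : w = 0 := eq_of_support (by rw [Finset.card_eq_zero.mp h0]; simp [Cfsg.support₂])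
      subst this; rfl)
    omega

end Cfsg.Agent.S1636
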