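import Cfsg.Statements.S1637
import Cfsg.Agent.Lib.Spor.Golay.Words

set_option autoImplicit false
open Cfsg

namespace Cfsg.Agent.S1637

open Cfsg.Agent.Spor.Golay
theorem dist_punct (v w : Cfsg.GolayPt → ZMod 2) :
    hammingDist (punct v) (punct w) = ((Cfsg.support₂ (v - w)).erase none).card := by
  rw [hammingDist_eq_hammingNorm, ← card_support_punct]
  congr 1
  funext x
  simp only [punct, Pi.add_apply, Pi.neg_apply, Pi.sub_apply]
  generalize v (some x) = a
  generalize w (some x) = b
  revert a b
  decide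

/-- The punctured length-23 code is a perfect 3-error-correcting code: each word of length 23 is within distance 3 of exactly one codeword. -/
theorem result (u : ZMod 23 → ZMod 2) : ∃! c : ZMod 23 → ZMod 2, c ∈ {u : ZMod 23 → ZMod 2 | ∃ w ∈ Cfsg.golayCode, ∀ x : ZMod 23, u x = w (some x)} ∧ hammingDist u c ≤ 3 := by
  let w : Cfsg.GolayPt → ZMod 2 := fun p => p.elim 0 u
  obtain ⟨t, ht, hc⟩ := exists_leader (Cfsg.support₂ w)
  have hgood : ∃ t, (t.erase none).card ≤ 3 ∧ Cls (Cfsg.support₂ w) t := by
    by_cases hn : none ∈ t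
    · exact ⟨t, by rw [Finset.card_erase_of_mem hn]; omega, hc⟩
    by_cases h3 : t.card ≤ 3
    · exact ⟨t, (Finset.card_le_card (Finset.erase_subset _ _)).trans h3, hc⟩
    obtain ⟨s, hs, hts, hns⟩ := exists_tetrad (by omega : t.card = 4) hn
    exact ⟨s, by rw [Finset.card_erase_of_mem hns, hs], hc.trans hts⟩
  obtain ⟨t', ht', hc'⟩ := hgood
  obtain ⟨v, hv⟩ := exists_word t'
  have hmem : w - v ∈ Cfsg.golayCode := sub_mem_iff.mpr (hv ▸ hc')
  have hu : u = punct w := rfl
  refine ⟨punct (w - v), ⟨⟨w - v, hmem, fun _ => rfl⟩, ?_⟩, ?_⟩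
  · rw [hu, dist_punct, sub_sub_cancel, hv]; exact ht'
  · rintro c ⟨⟨c', hc'', e⟩, hd⟩
    have hce : c = punct c' := funext e
    subst hce
    rw [hu, dist_punct] at hd
    have hvv : ((Cfsg.support₂ v).erase none).card ≤ 3 := by rw [hv]; exact ht'
    have hcard := card_code (mem_code_iff_support.mp (Submodule.sub_mem _ hc'' hmem))
    have e2 : c' - (w - v) = v - (w - c') := by abel
    have hle : (Cfsg.support₂ (c' - (w - v))).card ≤ 7 := by
      rw [e2, sub_eq_add', support_add]
      have h1 := card_symmDiff_add (Cfsg.support₂ v) (Cfsg.support₂ (w - c'))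
      have h2 := Finset.pred_card_le_card_erase (a := none) (s := Cfsg.support₂ v)
      have h3 := Finset.pred_card_le_card_erase (a := none) (s := Cfsg.support₂ (w - c'))
      have h4 : none ∈ Cfsg.support₂ v → none ∈ Cfsg.support₂ (w - c') →
          1 ≤ (Cfsg.support₂ v ∩ Cfsg.support₂ (w - c')).card :=
        fun a b => Finset.card_pos.mpr ⟨none, Finset.mem_inter.mpr ⟨a, b⟩⟩
      by_cases a : none ∈ Cfsg.support₂ v <;> by_cases b : none ∈ Cfsg.support₂ (w - c')
      · have := h4 a b; omega
      all_goals first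
        | (rw [Finset.erase_eq_of_notMem a] at hvv; omega)
        | (rw [Finset.erase_eq_of_notMem b] at hd; omega)
    have h0 : c' - (w - v) = 0 := eq_of_support (by
      rw [Finset.card_eq_zero.mp (show (Cfsg.support₂ (c' - (w - v))).card = 0 by omega)]
      simp [Cfsg.support₂])
    rw [sub_eq_zero.mp h0]

end Cfsg.Agent.S1637
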