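import Cfsg.Statements.S1638
import Cfsg.Agent.Lib.Spor.Golay.CensusNested
import Cfsg.Agent.Lib.Spor.Golay.CensusPqS

set_option autoImplicit false
open scoped Pointwise
open Cfsg

namespace Cfsg.Agent.S1638

open Cfsg.Agent.Spor.Golay Cfsg.Agent.Spor.Golay.Census

theorem fixed {g : Equiv.Perm GolayPt} (hg : g ∈ Fx [[2], [1]]) : g (pt 0) = pt 0 ∧ g (pt 1) = pt 1 :=
  ⟨fix_point (i := 0) hg (by norm_num) (by simp), fix_point (i := 1) hg (by norm_num) (by simp)⟩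

/-- The universe. -/
noncomputable def LS0 : List (Orb × ℕ) := [(pqSU, 0)]

theorem LS0_ok : partSetOk pairU (fun m => !m.testBit 0 && !m.testBit 1) (fun _ => 0) LS0 = true := by decide +kernel

/-- Parts. -/
noncomputable def LS : List (Orb × ℕ) := [(pqSO0, 5), (pqSO1, 1), (pqSO2, 3), (pqSO3, 0)]

theorem LS_ok : partSetOk pairU (fun m => !m.testBit 0 && !m.testBit 1)
    (fun m => 2 * pop (12 &&& m) + Bool.rec 0 1 (inOct (15 ||| m))) LS = true := by decide +kernel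

/-- Fix two points p ≠ q and a pair s of two further points. Among the pairs avoiding p, q and disjoint from s, exactly 30 lie in an octad together with p, q and s and exactly 160 do not; and any two pairs other than s that meet s in equally many points and agree on that octad property are carried to one another by an element of the group of the length-24 code fixing p, q and s. -/
theorem result (p q : Cfsg.GolayPt) (hpq : p ≠ q) (s : Finset Cfsg.GolayPt) (hs : (s.card = 2 ∧ p ∉ s ∧ q ∉ s)) : {t : Finset Cfsg.GolayPt | (t.card = 2 ∧ p ∉ t ∧ q ∉ t) ∧ Disjoint s t ∧ (∃ o ∈ Cfsg.octads, p ∈ o ∧ q ∈ o ∧ s ∪ t ⊆ o)}.ncard = 30 ∧ {t : Finset Cfsg.GolayPt | (t.card = 2 ∧ p ∉ t ∧ q ∉ t) ∧ Disjoint s t ∧ ¬ (∃ o ∈ Cfsg.octads, p ∈ o ∧ q ∈ o ∧ s ∪ t ⊆ o)}.ncard = 160 ∧ ∀ t t' : Finset Cfsg.GolayPt, (t.card = 2 ∧ p ∉ t ∧ q ∉ t) → (t'.card = 2 ∧ p ∉ t' ∧ q ∉ t') → t ≠ s → t' ≠ s → (s ∩ t).card = (s ∩ t').card → ((∃ o ∈ Cfsg.octads,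 p ∈ o ∧ q ∈ o ∧ s ∪ t ⊆ o) ↔ (∃ o ∈ Cfsg.octads, p ∈ o ∧ q ∈ o ∧ s ∪ t' ⊆ o)) → ∃ g : Equiv.Perm Cfsg.GolayPt, g ∈ Cfsg.M24 ∧ g p = p ∧ g q = q ∧ g • s = s ∧ g • t = t' := by
  classical
  obtain ⟨a0, ha0, e1, e2⟩ := exists_two hpq
  have hl0 : ∀ p ∈ LS0, p.1.ok pt2SG = true ∧ eqL (p.1.obj 0) [(p.1.obj 0).headD 0] = true := by
    intro p hp; simp only [LS0, List.mem_cons, List.not_mem_nil, or_false] at hp
    rcases hp with rfl
    exact ⟨pqSU_ok, by decide +kernel⟩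
  have hl : ∀ p ∈ LS, p.1.ok pqSSG = true ∧ eqL (p.1.obj 0) [(p.1.obj 0).headD 0] = true := by
    intro p hp; simp only [LS, List.mem_cons, List.not_mem_nil, or_false] at hp
    rcases hp with rfl | rfl | rfl | rfl
    exacts [⟨pqSO0_ok, by decide +kernel⟩, ⟨pqSO1_ok, by decide +kernel⟩, ⟨pqSO2_ok, by decide +kernel⟩, ⟨pqSO3_ok, by decide +kernel⟩]
  let P : Finset GolayPt → Prop := fun z => pt 0 ∉ z ∧ pt 1 ∉ z
  have hP : ∀ m < 2 ^ 24, (!m.testBit 0 && !m.testBit 1) = true ↔ P (pts m) := fun m _ => by simp [P, pt_mem_pts]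
  obtain ⟨hs0, -⟩ := parts_set LS0_ok (by decide) P (fun _ => 0) hP (fun _ _ => rfl)
  obtain ⟨g0, hg0, ha, hao⟩ := exists_refine stagePt2 pqSU_ok pqSU_zero.1 ha0 (z := s) (by
    have e := hs0 (pqSU, 0) (by simp [LS0])
    rw [← e, pairU_setSet]
    refine ⟨show (a0⁻¹ • s).card = 2 by rw [Finset.card_smul_finset, hs.1], ⟨fun h => hs.2.1 ?_, fun h => hs.2.2 ?_⟩, rfl⟩
    · rw [← e1]; exact mem_inv_smul.mpr h
    · rw [← e2]; exact mem_inv_smul.mpr h)
  obtain ⟨k1, k2⟩ := fixed hg0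
  obtain ⟨a, hadef⟩ : ∃ a, a = a0 * g0 := ⟨_, rfl⟩
  rw [← hadef] at ha hao
  have ap : a (pt 0) = p := by rw [hadef, Equiv.Perm.mul_apply, k1, e1]
  have aq : a (pt 1) = q := by rw [hadef, Equiv.Perm.mul_apply, k2, e2]
  subst hao ap aq
  have hmem : ∀ t : Finset GolayPt, t.card = 2 ∧ a (pt 0) ∉ t ∧ a (pt 1) ∉ t ↔
      a⁻¹ • t ∈ {z : Finset GolayPt | z.card = 2} ∧ P (a⁻¹ • t) := fun t => by
    simp only [P, mem_inv_smul, Set.mem_setOf_eq, Finset.card_smul_finset]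
  let E : Finset GolayPt → Prop := fun z => ∃ o ∈ Cfsg.octads, pts 15 ∪ z ⊆ o
  have key : ∀ t : Finset GolayPt,
      (∃ o ∈ Cfsg.octads, a (pt 0) ∈ o ∧ a (pt 1) ∈ o ∧ a • pts 12 ∪ t ⊆ o) ↔ E (a⁻¹ • t) := fun t => by
    have e15 : pts 15 = insert (pt 0) (insert (pt 1) (pts 12)) := by decide +kernel
    have e : pts 15 ∪ a⁻¹ • t = a⁻¹ • (insert (a (pt 0)) (insert (a (pt 1)) (a • pts 12 ∪ t))) := by
      rw [Finset.smul_finset_insert, Finset.smul_finset_insert, Finset.smul_finset_union, inv_smul_smul, e15,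
        Finset.insert_union, Finset.insert_union]
      simp
    show _ ↔ ∃ o ∈ Cfsg.octads, pts 15 ∪ a⁻¹ • t ⊆ o
    rw [e, ← exists_octad_smul ha]
    simp only [Finset.insert_subset_iff]
  obtain ⟨hsS, hc⟩ := parts_set LS_ok (by decide) P
    (fun z => 2 * (pts 12 ∩ z).card + if E z then 1 else 0) hP (fun m hm => by
      rw [← card_inter_pts]
      simp only [E, pts_union, ← inOct_iff (Nat.or_lt_two_pow (show 15 < 2 ^ 24 by norm_num) hm)]
      cases inOct (15 ||| m) <;> rfl)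
  have hd : ∀ t : Finset GolayPt, Disjoint (a • pts 12) t ↔ (pts 12 ∩ a⁻¹ • t).card = 0 := fun t => by
    rw [Finset.disjoint_iff_inter_eq_empty, ← Finset.card_eq_zero, card_inter_smul]
  refine ⟨count_set stagePqS hsS hl pqSO1 1 30 (by simp [LS]) (by decide +kernel) a _ fun z => ?_,
    count_set stagePqS hsS hl pqSO3 0 160 (by simp [LS]) (by decide +kernel) a _ fun z => ?_,
    fun t t' h1 h2 hne1 hne2 hi hiff => ?_⟩
  · rw [pairU_setSet, Set.mem_setOf_eq, hmem, key, hd, and_assoc]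
    split_ifs with h <;> simp [h]
  · rw [pairU_setSet, Set.mem_setOf_eq, hmem, key, hd, and_assoc]
    split_ifs with h <;> simp [h]
  rw [pairU_setSet] at hc
  have hh := exists_same_part (S := Orb.setSet) (l := LS) (by decide)
    (hc _ ((hmem _).mp h1).1 ((hmem _).mp h1).2) (hc _ ((hmem _).mp h2).1 ((hmem _).mp h2).2)
    (by rw [← card_inter_smul, ← card_inter_smul, hi]; rw [key, key] at hiff; rw [if_congr hiff rfl rfl])
  obtain ⟨g, hg, f1, f2⟩ := move_set stagePqS (stabilizer_three 12 2 1) hl ha hh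
  exact ⟨g, hg, (smul_point_iff (i := 0) (by norm_num)).mp (congrArg (fun x => x.2.2) f1),
    (smul_point_iff (i := 1) (by norm_num)).mp (congrArg (fun x => x.2.1) f1), congrArg Prod.fst f1, f2⟩

end Cfsg.Agent.S1638
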