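import Cfsg.Statements.S1690
import Cfsg.Agent.Lib.Spor.Cos.Fi24Up.Main

set_option autoImplicit false
set_option maxRecDepth 100000
open Cfsg

namespace Cfsg.Agent.S1690

open Cfsg.Agent.Spor.Cos.Fi24Up in
/-- In the presented group Fi₂₄ = Fi₂₄′:2, the subgroup generated by the images of a, b, c, d, e, f, g, h, i, j and l (every generator but k) has index 306936. -/
theorem result : (((Subgroup.closure ({Cfsg.Spor.Fi24.a, Cfsg.Spor.Fi24.b, Cfsg.Spor.Fi24.c, Cfsg.Spor.Fi24.d, Cfsg.Spor.Fi24.e, Cfsg.Spor.Fi24.f, Cfsg.Spor.Fi24.g, Cfsg.Spor.Fi24.h, Cfsg.Spor.Fi24.i, Cfsg.Spor.Fi24.j, Cfsg.Spor.Fi24.l} : Set (FreeGroup Cfsg.Spor.Fi24.Gen))).map (PresentedGroup.mk (Cfsg.Spor.coxRelators Cfsg.Spor.Fi24.edges ∪ {r | r ∈ Cfsg.Spor.Fi24.extra})))).index = 306936 := by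
  rw [pres.map_closure_eq _ [Cfsg.Spor.Fi24.l, Cfsg.Spor.Fi24.a, Cfsg.Spor.Fi24.b, Cfsg.Spor.Fi24.c,
    Cfsg.Spor.Fi24.d, Cfsg.Spor.Fi24.e, Cfsg.Spor.Fi24.f, Cfsg.Spor.Fi24.g, Cfsg.Spor.Fi24.j, Cfsg.Spor.Fi24.h,
    Cfsg.Spor.Fi24.i] (by ext x; simp; tauto)]
  have e : ([Cfsg.Spor.Fi24.l, Cfsg.Spor.Fi24.a, Cfsg.Spor.Fi24.b, Cfsg.Spor.Fi24.c,
    Cfsg.Spor.Fi24.d, Cfsg.Spor.Fi24.e, Cfsg.Spor.Fi24.f, Cfsg.Spor.Fi24.g, Cfsg.Spor.Fi24.j, Cfsg.Spor.Fi24.h,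
    Cfsg.Spor.Fi24.i].map (Cfsg.Agent.Spor.Cos.letters num)) = Cfsg.Agent.Spor.Cos.singles hLetters := by decide +kernel
  rw [e]
  exact index_eq

end Cfsg.Agent.S1690
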