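import Cfsg.Statements.S1691
import Mathlib
-- import your own Cfsg.Agent.* helpers here

set_option autoImplicit false
open Cfsg

namespace Cfsg.Agent.S1691

/-- The commutator subgroup of the presented group Fi₂₄ has index 2 (the presented group is Fi₂₄′:2 with Fi₂₄′ its derived subgroup). -/
theorem result : (commutator Cfsg.Spor.Fi24).index = 2 := by
  classical
  have hrel : ∀ x y : Spor.Fi24.Gen, x ∈ Spor.coxNodes Spor.Fi24.edges → y ∈ Spor.coxNodes Spor.Fi24.edges →
      ((PresentedGroup.of x : Spor.Fi24) * PresentedGroup.of y) ^ Spor.coxLabel Spor.Fi24.edges x y = 1 := by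
    intro x y hx hy
    have := PresentedGroup.one_of_mem (rels := Spor.coxRelators Spor.Fi24.edges ∪ {r | r ∈ Spor.Fi24.extra}) (Or.inl ⟨x, hx, y, hy, rfl⟩)
    simpa [PresentedGroup.of, PresentedGroup.mk] using this
  have hall : ∀ x : Spor.Fi24.Gen, x ∈ Spor.coxNodes Spor.Fi24.edges := by intro x; cases x <;> decide
  -- parity
  let σ : Spor.Fi24.Gen → Multiplicative (ZMod 2) := fun _ => Multiplicative.ofAdd 1
  have hσ : ∀ r ∈ Spor.coxRelators Spor.Fi24.edges ∪ {r | r ∈ Spor.Fi24.extra}, FreeGroup.lift σ r = 1 := by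
    rintro r (⟨x, -, y, -, rfl⟩ | hr)
    · rw [map_pow, map_mul, FreeGroup.lift_apply_of, FreeGroup.lift_apply_of,
        show σ x * σ y = 1 from (show (Multiplicative.ofAdd (1 : ZMod 2)) * Multiplicative.ofAdd 1 = 1 by decide), one_pow]
    · simp only [Spor.Fi24.extra, Set.mem_setOf_eq, List.mem_cons, List.not_mem_nil, or_false] at hr
      rcases hr with rfl | rfl <;>
        (simp only [map_mul, map_inv, map_pow, FreeGroup.lift_apply_of, σ]; decide)
  let φ : Spor.Fi24 →* Multiplicative (ZMod 2) := PresentedGroup.toGroup hσ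
  have hsur : Function.Surjective φ := by
    intro t
    rcases (show ∀ t : Multiplicative (ZMod 2), t = 1 ∨ t = Multiplicative.ofAdd 1 by decide) t with rfl | rfl
    · exact ⟨1, map_one _⟩
    · exact ⟨PresentedGroup.of Spor.Fi24.Gen.l, by simp [φ, σ]⟩
  have hle : commutator Spor.Fi24 ≤ φ.ker := Abelianization.commutator_subset_ker φ
  -- the quotient is generated by one involution
  set A := Abelianization Spor.Fi24
  let π : Spor.Fi24 →* A := Abelianization.of
  let T : Spor.Fi24.Gen → A := fun x => π (PresentedGroup.of x)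
  have hsq : ∀ x, T x * T x = 1 := fun x => by
    have h := congrArg π (hrel x x (hall x) (hall x))
    rwa [show Spor.coxLabel Spor.Fi24.edges x x = 1 by simp [Spor.coxLabel], pow_one, map_mul, map_one] at h
  have hedge : ∀ x y, Spor.coxLabel Spor.Fi24.edges x y = 3 → T x = T y := by
    intro x y h3
    have h := congrArg π (hrel x y (hall x) (hall y))
    rw [h3, map_pow, map_mul, map_one, pow_three] at h
    have h' : T x * T y * (T x * T x * (T y * T y)) = 1 := by
      rw [← h]; simp only [T, mul_assoc, mul_comm, mul_left_comm]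
    rw [hsq, hsq, one_mul, mul_one] at h'
    rw [eq_inv_of_mul_eq_one_left h', inv_eq_of_mul_eq_one_right (hsq y)]
  have heq : ∀ x, T x = T Spor.Fi24.Gen.d := by
    have e1 := hedge .c .d (by decide); have e2 := hedge .b .c (by decide); have e3 := hedge .a .b (by decide)
    have e4 := hedge .k .a (by decide); have e5 := hedge .l .k (by decide); have e6 := hedge .d .e (by decide)
    have e7 := hedge .e .f (by decide); have e8 := hedge .f .g (by decide); have e9 := hedge .g .j (by decide)
    have e10 := hedge .d .h (by decide); have e11 := hedge .h .i (by decide)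
    intro x; cases x <;> simp only [e1, e2, e3, e4, e5, ← e6, ← e7, ← e8, ← e9, ← e10, ← e11]
  set t := T Spor.Fi24.Gen.d
  have htop : Subgroup.zpowers t = ⊤ := by
    refine top_le_iff.mp fun a _ => ?_
    obtain ⟨g, rfl⟩ := QuotientGroup.mk_surjective a
    have hg : g ∈ Subgroup.closure (Set.range (PresentedGroup.of (rels := Spor.coxRelators Spor.Fi24.edges ∪ {r | r ∈ Spor.Fi24.extra}))) := by
      rw [PresentedGroup.closure_range_of]; trivial
    have hsub : Subgroup.closure (Set.range (PresentedGroup.of (rels := Spor.coxRelators Spor.Fi24.edges ∪ {r | r ∈ Spor.Fi24.extra}))) ≤ (Subgroup.zpowers t).comap π :=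
      (Subgroup.closure_le _).mpr (by rintro _ ⟨x, rfl⟩; show T x ∈ Subgroup.zpowers t; rw [heq x]; exact Subgroup.mem_zpowers t)
    exact hsub hg
  haveI : Finite A := by
    have hfin : (Subgroup.zpowers t : Set A).Finite := Set.finite_coe_iff.mp
      (IsOfFinOrder.finite_zpowers (isOfFinOrder_iff_pow_eq_one.mpr ⟨2, by norm_num, by rw [pow_two, hsq]⟩))
    rw [htop] at hfin
    exact Set.finite_univ_iff.mp hfin
  have h2 : (commutator Spor.Fi24).index ≤ 2 := by
    show Nat.card A ≤ 2
    rw [← Subgroup.card_top, ← htop, Nat.card_zpowers]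
    exact orderOf_le_of_pow_eq_one (by norm_num) (by rw [pow_two, hsq])
  have h1 : φ.ker.index = 2 := by
    rw [Subgroup.index_ker, MonoidHom.range_eq_top.mpr hsur]; simp
  have h3 := Subgroup.index_dvd_of_le hle
  rw [h1] at h3
  have h4 : (commutator Spor.Fi24).index ≠ 0 := by
    show Nat.card A ≠ 0
    exact Nat.card_pos.ne'
  have := Nat.le_of_dvd (by omega) h3
  omega

end Cfsg.Agent.S1691
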