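import Cfsg.Statements.S1717
import Mathlib
import Cfsg.Agent.Lib.Spor.TransvectionFive
-- import your own Cfsg.Agent.* helpers here

set_option autoImplicit false
open Cfsg

namespace Cfsg.Agent.S1717

open scoped Pointwise

/-- Let G be a finite group with an involution z whose centraliser C is isomorphic to the centraliser of a transvection of SL(5, 2). Then a Sylow 2-subgroup of C, viewed in G, is a Sylow 2-subgroup of G (its index in G is odd). -/
theorem result {G : Type*} [Group G] [Finite G] (s : Matrix.SpecialLinearGroup (Fin 5) (ZMod 2)) (hs : (s : Matrix (Fin 5) (Fin 5) (ZMod 2)) = Matrix.transvection 0 1 1) (z : G) (hz : orderOf z = 2) (e : (Subgroup.centralizer ({z} : Set G)) ≃* Subgroup.centralizer ({s} : Set (Matrix.SpecialLinearGroup (Fin 5) (ZMod 2)))) (T : Sylow 2 (Subgroup.centralizer ({z} : Set G))) : ¬ 2 ∣ ((T : Subgroup (Subgroup.centralizer ({z} : Set G))).map (Subgroup.subtype (Subgroup.centralizer ({z} : Set G)))).index := by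
  classical
  haveI : Fact (Nat.Prime 2) := ⟨Nat.prime_two⟩
  let C := Subgroup.centralizer ({z} : Set G)
  let S : Subgroup G := (T : Subgroup C).map C.subtype
  obtain ⟨P, hP⟩ := (T.isPGroup'.map C.subtype).exists_le_sylow
  have key : (P : Subgroup G) = S := by
    refine le_antisymm (fun g hg => ?_) hP
    by_contra hgS
    have hlt : S.subgroupOf P < ⊤ := lt_top_iff_ne_top.mpr fun e => hgS (Subgroup.subgroupOf_eq_top.mp e hg)
    haveI : Group.IsNilpotent (P : Subgroup G) := P.isPGroup'.isNilpotent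
    obtain ⟨a, ha, haS⟩ := SetLike.exists_of_lt (normalizerCondition_of_isNilpotent _ hlt)
    have hnorm : ∀ t ∈ S, (a : G)⁻¹ * t * a ∈ S := fun t ht =>
      (Subgroup.mem_normalizer_iff''.mp ha (⟨t, hP ht⟩ : (P : Subgroup G))).mp ht
    -- `z` and its conjugate both centralise `T` inside the centraliser
    have hzC : z ∈ C := Subgroup.mem_centralizer_singleton_iff.mpr rfl
    have hzS : z ∈ S := by
      have hcy : IsPGroup 2 (Subgroup.zpowers (⟨z, hzC⟩ : C)) := IsPGroup.of_card (n := 1) (by
        rw [Nat.card_zpowers, Subgroup.orderOf_mk, hz]; rfl)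
      haveI : (Subgroup.zpowers (⟨z, hzC⟩ : C)).Normal := ⟨fun n hn c => by
        have hle : Subgroup.zpowers (⟨z, hzC⟩ : C) ≤ Subgroup.center C := Subgroup.zpowers_le.mpr
          (Subgroup.mem_center_iff.mpr fun c => Subtype.ext (Subgroup.mem_centralizer_singleton_iff.mp c.2))
        rw [Subgroup.mem_center_iff.mp (hle hn) c, mul_inv_cancel_right]; exact hn⟩
      obtain ⟨R, hR⟩ := hcy.exists_le_sylow
      obtain ⟨h, hh⟩ := MulAction.exists_smul_eq C R T
      refine ⟨⟨z, hzC⟩, ?_, rfl⟩
      show (⟨z, hzC⟩ : C) ∈ (T : Subgroup C)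
      rw [← hh, Sylow.coe_subgroup_smul, Subgroup.mem_pointwise_smul_iff_inv_smul_mem]
      exact hR (Subgroup.Normal.conj_mem' inferInstance _ (Subgroup.mem_zpowers _) h)
    set w := (a : G)⁻¹ * z * a with hw
    have hwS : w ∈ S := hnorm z hzS
    obtain ⟨w', hw'T, hw'⟩ := hwS
    have hwcomm : ∀ t ∈ (T : Subgroup C), w' * t = t * w' := by
      intro t ht
      refine Subtype.ext ?_
      have h1 : (a : G) * t * (a : G)⁻¹ ∈ S := by
        have := Subgroup.mem_normalizer_iff''.mp ha (⟨(a : G) * t * (a : G)⁻¹, P.mul_mem (P.mul_mem a.2 (hP ⟨t, ht, rfl⟩)) (P.inv_mem a.2)⟩ : (P : Subgroup G))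
        exact this.mpr (by
          show (a : G)⁻¹ * ((a : G) * t * (a : G)⁻¹) * a ∈ S
          rw [show (a : G)⁻¹ * ((a : G) * t * (a : G)⁻¹) * a = t by group]
          exact ⟨t, ht, rfl⟩)
      have h2 := Subgroup.mem_centralizer_singleton_iff.mp (Subgroup.map_subtype_le _ h1 : (a : G) * t * (a : G)⁻¹ ∈ C)
      show (w' : G) * t = t * w'
      rw [show (w' : G) = w from hw', hw]
      calc (a : G)⁻¹ * z * a * t = (a : G)⁻¹ * (z * ((a : G) * t * (a : G)⁻¹)) * a := by group
        _ = (a : G)⁻¹ * (((a : G) * t * (a : G)⁻¹) * z) * a := by rw [h2]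
        _ = t * ((a : G)⁻¹ * z * a) := by group
    have himg : ∀ v : C, (∀ t ∈ (T : Subgroup C), v * t = t * v) → v ≠ 1 → (e v).1 = s := by
      intro v hv hv1
      let T' : Sylow 2 (Subgroup.centralizer ({s} : Set (Matrix.SpecialLinearGroup (Fin 5) (ZMod 2)))) :=
        T.comapOfInjective e.symm.toMonoidHom e.symm.injective (fun c _ => ⟨e c, e.symm_apply_apply c⟩)
      refine (Spor.TransvectionFive.sylow_centralizer s hs T' (e v) fun t ht => ?_).resolve_left fun h => hv1 (e.injective ?_)
      · have h := congrArg e (hv (e.symm t) ht)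
        rwa [map_mul, map_mul, e.apply_symm_apply] at h
      · rw [map_one]; exact Subtype.ext h
    have hz1 : z ≠ 1 := fun h => by rw [h, orderOf_one] at hz; omega
    have heq : (⟨z, hzC⟩ : C) = w' := e.injective (Subtype.ext ((himg _ (fun t _ => Subtype.ext
      (Subgroup.mem_centralizer_singleton_iff.mp t.2).symm) (fun h => hz1 (congrArg Subtype.val h))).trans
        (himg w' hwcomm (fun h => hz1 (by
          have : w = 1 := hw'.symm.trans (congrArg Subtype.val h)
          rw [hw] at this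
          simpa using conj_eq_one_iff.mp (show (a : G)⁻¹ * z * (a : G)⁻¹⁻¹ = 1 by rwa [inv_inv])))).symm))
    have haz : (a : G) ∈ C := by
      rw [Subgroup.mem_centralizer_singleton_iff]
      have : z = (a : G)⁻¹ * z * a := (congrArg Subtype.val heq).trans hw'
      calc (a : G) * z = a * ((a : G)⁻¹ * z * a) := by rw [← this]
        _ = z * a := by group
    have hW : IsPGroup 2 (((P : Subgroup G) ⊓ C).subgroupOf C) :=
      (P.isPGroup'.to_le inf_le_left).of_equiv (Subgroup.subgroupOfEquivOfLe inf_le_right).symm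
    have hTW : (T : Subgroup C) ≤ ((P : Subgroup G) ⊓ C).subgroupOf C := fun t ht => ⟨hP ⟨t, ht, rfl⟩, t.2⟩
    have hmem : (⟨a, haz⟩ : C) ∈ (T : Subgroup C) := by
      rw [← T.is_maximal' hW hTW]; exact ⟨a.2, haz⟩
    exact haS ⟨_, hmem, rfl⟩
  show ¬ 2 ∣ S.index
  rw [← key]
  exact P.not_dvd_index

end Cfsg.Agent.S1717
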