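import Cfsg.Statements.S1725
import Cfsg.Agent.Lib.Invol.Suz.Loc.ThreeR

set_option autoImplicit false
open Cfsg
open scoped commutatorElement

namespace Cfsg.Agent.S1725

open Cfsg.Agent.Invol.Big Cfsg.Agent.Invol.Suz.Loc Cfsg.Agent.Invol.Suz.Loc.Three

/-- An element whose commutators with `Q` form a group of order eight has few commutator codes. -/
theorem few {G : Type*} [Group G] [Finite G] {z : G} {Qm K : Subgroup G} {cd : G → ℕ}
    (S : Cfsg.Agent.Invol.Suz.Setting z Qm cd) {x : G} (hx : x * z = z * x) (hKQ : K ≤ Qm)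
    (hmem : ∀ q ∈ Qm, ⁅q, x⁆ ∈ K) (h8 : Nat.card K = 8) (hna : ∃ u ∈ K, ∃ v ∈ K, u * v ≠ v * u) :
    (imC S.code x).card ≤ 4 := by
  classical
  haveI := Fintype.ofFinite K
  have hz : z ∈ K := by
    obtain ⟨u, hu, v, hv, hne⟩ := hna
    have hb : ¬ (Cfsg.Agent.Classical.BinCoc.bq Cfsg.Agent.Invol.Suz.K6 (cd u) (cd v) = false) := fun h =>
      hne ((S.code.commute_iff (hKQ hu) (hKQ hv)).2 h)
    rw [Bool.not_eq_false] at hb
    have h2 := S.code.conj_bq (hKQ hu) (hKQ hv)
    rw [bn, if_pos hb, pow_one] at h2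
    have h3 : z = v⁻¹ * (u * v * u⁻¹) := by rw [h2, inv_mul_cancel_left]
    rw [h3]
    exact mul_mem (inv_mem hv) (mul_mem (mul_mem hu hv) (inv_mem hu))
  have hsub : imC S.code x ⊆ (Finset.univ : Finset K).image fun u : K => cd (u : G) := by
    intro m hm
    simp only [imC, Finset.mem_image, Finset.mem_range] at hm
    obtain ⟨v, hv, rfl⟩ := hm
    have hv' : v < 2 ^ Cfsg.Agent.Invol.Suz.K6.n := hv
    have hr := S.code.rep_mem v
    refine Finset.mem_image.2 ⟨⟨⁅S.code.rep v, x⁆, hmem _ hr⟩, Finset.mem_univ _, ?_⟩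
    show cd ⁅S.code.rep v, x⁆ = _
    rw [show ⁅S.code.rep v, x⁆ = S.code.rep v * (x * (S.code.rep v)⁻¹ * x⁻¹) by rw [commutatorElement_def]; group,
      S.code.mul _ hr _ (S.code.ext.norm x hx _ (inv_mem hr)), ← S.code.act_cd hx (inv_mem hr), S.code.cd_inv hr,
      S.code.cd_rep hv']
  have h2 := Finset.mul_card_image_le_card_of_maps_to (f := fun u : K => cd (u : G)) (s := (Finset.univ : Finset K))
    (t := (Finset.univ : Finset K).image fun u : K => cd (u : G))
    (fun u hu => Finset.mem_image_of_mem (fun u : K => cd (u : G)) hu) 2 fun m hm => by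
    obtain ⟨u, -, rfl⟩ := Finset.mem_image.1 hm
    show 1 < _
    refine Finset.one_lt_card.2 ⟨u, by simp, u * ⟨z, hz⟩, ?_, fun e => S.code.ne ?_⟩
    · simp only [Finset.mem_filter, Finset.mem_univ, true_and, Subgroup.coe_mul]
      rw [S.code.mul _ (hKQ u.2) _ S.code.ext.mem, S.code.cd_z, Nat.xor_zero]
    · have := congrArg Subtype.val e
      simpa using this
  rw [Finset.card_univ, ← Nat.card_eq_fintype_card, h8] at h2
  have := Finset.card_le_card hsub
  omega


/-- The conclusion for a subgroup generated by an element with few commutators. -/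
theorem main {G : Type*} [Group G] [Finite G] {z : G} {Qm : Subgroup G} {cd : G → ℕ} {g a b : ℕ → G}
    {S : Cfsg.Agent.Invol.Suz.Setting z Qm cd} (M : Mdl S g) {T : Tri S a b} {O : Subgroup G} (H : T.OGrp O)
    {x : G} (hxz : x * z = z * x) (hx3 : orderOf x = 3) (hfew : (imC S.code x).card ≤ 4) (Xm : Subgroup G)
    (hXme : Xm = Subgroup.zpowers x) (P : Sylow 3 ↥(Subgroup.normalizer (Xm : Set G))) :
    ¬ 3 ∣ ((P : Subgroup ↥(Subgroup.normalizer (Xm : Set G))).map (Subgroup.normalizer (Xm : Set G)).subtype).index ∧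
      ∃ A : Subgroup G, A ≤ (P : Subgroup ↥(Subgroup.normalizer (Xm : Set G))).map (Subgroup.normalizer (Xm : Set G)).subtype ∧
        Cfsg.IsElementaryAbelian 3 A ∧ Nat.card A = 3 ^ 5 ∧ Subgroup.centralizer (A : Set G) = A ∧
        ∃ _ : (A.subgroupOf (Subgroup.normalizer (A : Set G))).Normal,
          Cfsg.Spor.IsoM11 (↥(Subgroup.normalizer (A : Set G)) ⧸ A.subgroupOf (Subgroup.normalizer (A : Set G))) := by
  classical
  haveI : Fact (Nat.Prime 3) := ⟨Nat.prime_three⟩
  obtain ⟨c, hc, hcx⟩ := T.conj_small hxz hx3 hfew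
  have ha3 : orderOf (a 0) = 3 := by
    refine orderOf_eq_prime (T.a3 0 (by norm_num)) fun e => ?_
    rw [e, Subgroup.zpowers_one_eq_bot, Subgroup.mem_bot, conj_eq_one_iff] at hcx
    rw [hcx, orderOf_one] at hx3
    omega
  have hzp : Subgroup.zpowers (c * x * c⁻¹) = Subgroup.zpowers (a 0) :=
    (prime_zpowers_eq ha3 hcx fun e => by rw [conj_eq_one_iff] at e; rw [e, orderOf_one] at hx3; omega).1
  have hXmap : Xm.map (MulAut.conj c).toMonoidHom = Subgroup.zpowers (a 0) := by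
    rw [hXme, MonoidHom.map_zpowers]; exact hzp
  have toN : ∀ {v : G}, v ∈ Subgroup.normalizer ((Subgroup.zpowers (a 0) : Subgroup G) : Set G) →
      c⁻¹ * v * c ∈ (Subgroup.normalizer (Xm : Set G)) := by
    intro v hv
    refine mem_norm_of fun w hw => ?_
    have h1 : c * w * c⁻¹ ∈ Subgroup.zpowers (a 0) := hXmap ▸ ⟨w, hw, rfl⟩
    have h2 := (Subgroup.mem_normalizer_iff.1 hv _).1 h1
    rw [← hXmap] at h2
    obtain ⟨w', hw', e'⟩ := h2
    have : c⁻¹ * v * c * w * (c⁻¹ * v * c)⁻¹ = w' := by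
      calc c⁻¹ * v * c * w * (c⁻¹ * v * c)⁻¹ = c⁻¹ * (v * (c * w * c⁻¹) * v⁻¹) * c := by group
        _ = c⁻¹ * (c * w' * c⁻¹) * c := congrArg (fun u => c⁻¹ * u * c) e'.symm
        _ = w' := by group
    rw [this]; exact hw'
  -- the three-part
  set m0 := MulAut.conj c⁻¹ with hm0
  have hnzle : (nz (Subgroup.normalizer (O : Set G)) (a 0)).map m0.toMonoidHom ≤ (Subgroup.normalizer (Xm : Set G)) := by
    rintro _ ⟨v, hv, rfl⟩
    have := toN hv.2
    simpa [hm0] using this
  have h7 : 3 ^ 7 ∣ Nat.card (Subgroup.normalizer (Xm : Set G)) := by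
    refine (H.pow_seven_dvd M).trans ?_
    rw [← Subgroup.card_map_of_injective (f := m0.toMonoidHom) m0.injective]
    exact Subgroup.card_dvd_of_le hnzle
  set Pm := (P : Subgroup ↥(Subgroup.normalizer (Xm : Set G))).map (Subgroup.normalizer (Xm : Set G)).subtype with hPm
  have hPc : Nat.card Pm = 3 ^ 7 := by
    rw [hPm, Subgroup.card_map_of_injective Subtype.coe_injective]
    obtain ⟨n, hn⟩ := IsPGroup.iff_card.1 P.isPGroup'
    have hle : 3 ^ 7 ∣ Nat.card (P : Subgroup ↥(Subgroup.normalizer (Xm : Set G))) := P.pow_dvd_card_of_pow_dvd_card h7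
    have hG : Nat.card (P : Subgroup ↥(Subgroup.normalizer (Xm : Set G))) ∣ Nat.card G :=
      (Subgroup.card_subgroup_dvd_card _).trans (Subgroup.card_subgroup_dvd_card (Subgroup.normalizer (Xm : Set G)))
    rw [hn] at hle hG ⊢
    have h1 := (Nat.pow_dvd_pow_iff_le_right (show 1 < 3 by norm_num)).1 hle
    rw [M.card_G] at hG
    have h2 : n ≤ 7 := by
      by_contra h
      exact absurd ((pow_dvd_pow 3 (show 8 ≤ n by omega)).trans hG) (by norm_num)
    rw [show n = 7 by omega]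
  refine ⟨fun hd => ?_, ?_⟩
  · have := Pm.card_mul_index
    rw [hPc, M.card_G] at this
    obtain ⟨w, hw⟩ := hd
    rw [hw] at this
    omega
  -- a conjugate of the elementary group inside the Sylow subgroup
  have hO1 : O.map m0.toMonoidHom ≤ (Subgroup.normalizer (Xm : Set G)) := fun y ⟨v, hv, e⟩ =>
    hnzle ⟨v, cx_le_nz _ _ (mem_cx.2 ⟨Subgroup.le_normalizer hv, H.comm hv (T.a_mem (by norm_num))⟩), e⟩
  obtain ⟨P1, hP1⟩ := (((H.isPGroup M).map m0.toMonoidHom).of_injective
    (Subgroup.subgroupOfEquivOfLe hO1).toMonoidHom (Subgroup.subgroupOfEquivOfLe hO1).injective :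
    IsPGroup 3 ((O.map m0.toMonoidHom).subgroupOf (Subgroup.normalizer (Xm : Set G)))).exists_le_sylow
  obtain ⟨n, hn⟩ := MulAction.exists_smul_eq (↥(Subgroup.normalizer (Xm : Set G))) P1 P
  set ε := MulAut.conj ((n : G) * c⁻¹) with hε
  set A := O.map ε.toMonoidHom with hA
  have hAP : A ≤ Pm := by
    rintro _ ⟨v, hv, rfl⟩
    have hm : (⟨m0.toMonoidHom v, hO1 ⟨v, hv, rfl⟩⟩ : ↥(Subgroup.normalizer (Xm : Set G))) ∈ (O.map m0.toMonoidHom).subgroupOf (Subgroup.normalizer (Xm : Set G)) := ⟨v, hv, rfl⟩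
    have h2 := Subgroup.smul_mem_pointwise_smul _ (MulAut.conj n) _ (hP1 hm)
    rw [← Sylow.coe_subgroup_smul, hn] at h2
    refine ⟨_, h2, ?_⟩
    show (n : G) * (c⁻¹ * v * c⁻¹⁻¹) * (n : G)⁻¹ = (n : G) * c⁻¹ * v * ((n : G) * c⁻¹)⁻¹
    group
  have hAc : Nat.card A = 3 ^ 5 := by
    rw [hA, Subgroup.card_map_of_injective ε.injective, (H.card_O M).1]; norm_num
  have hAel : Cfsg.IsElementaryAbelian 3 A := by
    refine ⟨⟨⟨?_⟩⟩, ?_⟩
    · rintro ⟨_, u, hu, rfl⟩ ⟨_, v, hv, rfl⟩
      exact Subtype.ext (by show ε u * ε v = ε v * ε u; rw [← map_mul, ← map_mul, H.abelian M hu hv])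
    · rintro _ ⟨u, hu, rfl⟩
      rw [← map_pow, H.cube M hu, map_one]
  have hAcent : Subgroup.centralizer (A : Set G) = A := by
    ext w
    constructor
    · intro hw
      refine ⟨ε.symm w, ?_, ε.apply_symm_apply w⟩
      rw [← H.self_cent M]
      refine Subgroup.mem_centralizer_iff.2 fun u hu => ε.injective ?_
      rw [map_mul, map_mul, ε.apply_symm_apply]
      exact Subgroup.mem_centralizer_iff.1 hw _ ⟨u, hu, rfl⟩
    · rintro ⟨u, hu, rfl⟩
      refine Subgroup.mem_centralizer_iff.2 fun v hv => ?_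
      obtain ⟨u', hu', rfl⟩ := hv
      rw [← map_mul, ← map_mul, H.abelian M hu' hu]
  refine ⟨A, hAP, hAel, hAc, hAcent, Subgroup.normal_in_normalizer, ?_⟩
  -- the quotient
  have hN : (Subgroup.normalizer (O : Set G)).map ε.toMonoidHom = Subgroup.normalizer (A : Set G) :=
    Subgroup.map_equiv_normalizer_eq O ε
  let f := (ε.subgroupMap (Subgroup.normalizer (O : Set G))).trans (MulEquiv.subgroupCongr hN)
  have hf : (O.subgroupOf (Subgroup.normalizer (O : Set G))).map f.toMonoidHom =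
      A.subgroupOf (Subgroup.normalizer (A : Set G)) := by
    ext w
    constructor
    · rintro ⟨v, hv, rfl⟩
      exact ⟨v, hv, rfl⟩
    · rintro ⟨u, hu, e'⟩
      exact ⟨⟨u, Subgroup.le_normalizer hu⟩, hu, Subtype.ext e'⟩
  obtain ⟨e11⟩ := (H.m11 M).1
  exact ⟨(QuotientGroup.congr _ _ f hf).symm.trans e11⟩


/-- A 3-local step in the uniqueness proof for the sporadic Suzuki group: let G satisfy the large-extraspecial hypothesis with Q of order 2 ^ 7, quotient Ω⁻(6, 2) and z not weakly closed in Q, and let X be a subgroup of order 3 of the centraliser C of z with the commutator subgroup of Q and X of order 8 and non-abelian (a quaternion group). Then for any Sylow 3-subgroup P of the normaliser of X in G, P is a Sylow 3-subgroup of G (its index in G is prime to 3), and P contains an elementary abelian subgroup A of order 3 ^ 5 with C_G(A) = A and N_G(A) / A isomorphic to the Mathieu group M₁₁. -/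
theorem result {G : Type*} [Group G] [Finite G] (z : G) (hz : orderOf z = 2) (Q : Subgroup (Subgroup.centralizer ({z} : Set G))) [Q.Normal] (hF : Cfsg.generalizedFittingSubgroup (Subgroup.centralizer ({z} : Set G)) = Q) (hQ : Cfsg.IsExtraspecial 2 Q) (hcard : Nat.card Q = 2 ^ 7) (e : (Subgroup.centralizer ({z} : Set G)) ⧸ Q ≃* Cfsg.Omega (ZMod 2) (Cfsg.quadFormMinus 2 (ZMod 2) 1 1)) (hnwc : ∃ g : G, (∃ hq : g * z * g⁻¹ ∈ Subgroup.centralizer ({z} : Set G), (⟨g * z * g⁻¹, hq⟩ : Subgroup.centralizer ({z} : Set G)) ∈ Q) ∧ g * z * g⁻¹ ≠ z) (X : Subgroup (Subgroup.centralizer ({z} : Set G))) (hX : Nat.card X = 3) (hQX : Nat.card ↥⁅Q, X⁆ = 8) (hQXna : ¬ IsMulCommutative ↥⁅Q, X⁆) (P : Sylow 3 ↥(Subgroup.normalizer ((X.map (Subgroup.subtype (Subgroup.centralizer ({z} : Set G))) : Subgroup G) : Set G))) : ¬ 3 ∣ (((P : Subgroup ↥(Subgroup.normalizer ((X.map (Subgroup.subtype (Subgroup.centralizer ({z} : Set G))) : Subgroup G) : Set G))).map (Subgroup.subtype (Subgroup.normalizer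 ((X.map (Subgroup.subtype (Subgroup.centralizer ({z} : Set G))) : Subgroup G) : Set G)))).index) ∧ ∃ A : Subgroup G, A ≤ (P : Subgroup ↥(Subgroup.normalizer ((X.map (Subgroup.subtype (Subgroup.centralizer ({z} : Set G))) : Subgroup G) : Set G))).map (Subgroup.subtype (Subgroup.normalizer ((X.map (Subgroup.subtype (Subgroup.centralizer ({z} : Set G))) : Subgroup G) : Set G))) ∧ Cfsg.IsElementaryAbelian 3 A ∧ Nat.card A = 3 ^ 5 ∧ Subgroup.centralizer (A : Set G) = A ∧ ∃ _ : (A.subgroupOf (Subgroup.normalizer (A : Set G))).Normal, Cfsg.Spor.IsoM11 (↥(Subgroup.normalizer (A : Set G)) ⧸ A.subgroupOf (Subgroup.normalizer (A : Set G))) := by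
  classical
  obtain ⟨cd, S⟩ := Cfsg.Agent.Invol.Suz.setting_of z hz Q hF hQ hcard e hnwc
  obtain ⟨g, M⟩ := Setting.exists_mdl S
  obtain ⟨a, b, T⟩ := exists_tri S
  obtain ⟨O, H⟩ := T.exists_O
  haveI : Fact (Nat.Prime 3) := ⟨Nat.prime_three⟩
  -- the generator
  obtain ⟨⟨x0, hx0X⟩, hx0⟩ := exists_prime_orderOf_dvd_card' (G := X) 3 (dvd_of_eq hX.symm)
  rw [Subgroup.orderOf_mk] at hx0
  have hXe : Subgroup.zpowers x0 = X :=
    Subgroup.eq_of_le_of_card_ge (Subgroup.zpowers_le.2 hx0X) (by rw [hX, Nat.card_zpowers, hx0])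
  set x : G := (x0 : G) with hxdef
  have hxz : x * z = z * x := Subgroup.mem_centralizer_singleton_iff.1 x0.2
  have hx3 : orderOf x = 3 := by rw [hxdef, Subgroup.orderOf_coe, hx0]
  have hXme : X.map (Subgroup.centralizer ({z} : Set G)).subtype = Subgroup.zpowers x := by
    rw [← hXe, MonoidHom.map_zpowers]; rfl
  -- few commutators
  have hfew : (imC S.code x).card ≤ 4 := by
    refine few S hxz (K := ⁅Q, X⁆.map (Subgroup.centralizer ({z} : Set G)).subtype) (Subgroup.map_mono (Subgroup.commutator_le_left Q X)) ?_ ?_ ?_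
    · rintro _ ⟨q, hq, rfl⟩
      exact ⟨⁅q, x0⁆, Subgroup.commutator_mem_commutator hq hx0X, by simp [commutatorElement_def, hxdef]⟩
    · rw [Subgroup.card_map_of_injective Subtype.coe_injective, hQX]
    · by_contra hcon
      push Not at hcon
      refine hQXna ⟨⟨fun u v => Subtype.ext (Subtype.ext ?_)⟩⟩
      exact hcon _ ⟨u, u.2, rfl⟩ _ ⟨v, v.2, rfl⟩
  exact main M H hxz hx3 hfew _ hXme P

end Cfsg.Agent.S1725
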