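import Cfsg.Statements.S1728
import Cfsg.Agent.Lib.Invol.ProperCore.Main
import Cfsg.Agent.Lib.Invol.ProperCore.TwistCase
import Cfsg.Agent.S0507
import Cfsg.Agent.S0523

set_option autoImplicit false
open Cfsg

namespace Cfsg.Agent.S1728

/-- Let G be a non-abelian finite simple group of 2-rank at least 2 whose 2-generated core (the subgroup generated by the normalizers of all subgroups of 2-rank at least 2 of a Sylow 2-subgroup) is a proper subgroup. Then G is isomorphic to a projective special linear group of dimension 2 over a field with at least 3 elements, to a Suzuki group, to a projective special unitary group of dimension 3 over a field of characteristic 2, to the Mathieu group of degree 11, or to the first Janko group. -/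
theorem result {G : Type*} [Group G] [Finite G] [IsSimpleGroup G]
    (hG : ¬ IsMulCommutative G) (hc : Cfsg.HasProperTwoGeneratedCore G) :
    (∃ (F : Type) (_ : Field F) (_ : Fintype F), 3 ≤ Fintype.card F ∧ Nonempty (G ≃* Matrix.ProjectiveSpecialLinearGroup (Fin 2) F)) ∨
      Cfsg.Lie.IsoSuzuki G ∨
      (∃ (F : Type) (_ : Field F) (_ : Fintype F) (n : ℕ), 1 ≤ n ∧ Fintype.card F = (2 ^ n) ^ 2 ∧ Nonempty (G ≃* Cfsg.PSU 3 F (2 ^ n))) ∨
      Cfsg.Spor.IsoM11 G ∨ Cfsg.Spor.IsoJ1 G := by
  exact Cfsg.Agent.Invol.ProperCore.listed_of_proper_core (fun G _ _ _ S hS => Cfsg.Agent.S0507.result S hS)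
    (fun G _ _ _ S hS => Cfsg.Agent.S0523.result S hS) Cfsg.Agent.Invol.ProperCore.TwistCase.listed_of_twist hG hc

end Cfsg.Agent.S1728
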