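import Cfsg.Statements.S1755
import Cfsg.Agent.Lib.Grp.Components
-- import your own Cfsg.Agent.* helpers here

set_option autoImplicit false
open Cfsg

namespace Cfsg.Agent.S1755

/-- Let G be a finite group and let z be an involution of G such that Q, the generalized Fitting subgroup of the centralizer C of z, is a 2-group of symplectic type (every characteristic abelian subgroup of Q is cyclic). Let B be a characteristic abelian subgroup of Q, viewed as a subgroup of G. Then for every g in G, the conjugate of B by g either equals B or meets B trivially. -/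
theorem result {G : Type*} [Group G] [Finite G] (z : G) (hz : orderOf z = 2) (hQ : Cfsg.IsOfSymplecticType ↥(Cfsg.generalizedFittingSubgroup ↥(Subgroup.centralizer ({z} : Set G))))
    (B : Subgroup ↥(Cfsg.generalizedFittingSubgroup ↥(Subgroup.centralizer ({z} : Set G)))) (hBc : B.Characteristic) (hBa : IsMulCommutative ↥B) (g : G) :
    ((B.map (Cfsg.generalizedFittingSubgroup ↥(Subgroup.centralizer ({z} : Set G))).subtype).map (Subgroup.centralizer ({z} : Set G)).subtype).map (MulAut.conj g).toMonoidHom =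
        (B.map (Cfsg.generalizedFittingSubgroup ↥(Subgroup.centralizer ({z} : Set G))).subtype).map (Subgroup.centralizer ({z} : Set G)).subtype ∨
      ((B.map (Cfsg.generalizedFittingSubgroup ↥(Subgroup.centralizer ({z} : Set G))).subtype).map (Subgroup.centralizer ({z} : Set G)).subtype).map (MulAut.conj g).toMonoidHom ⊓
        (B.map (Cfsg.generalizedFittingSubgroup ↥(Subgroup.centralizer ({z} : Set G))).subtype).map (Subgroup.centralizer ({z} : Set G)).subtype = ⊥ := by
  classical
  suffices key : ∀ C : Subgroup G, C = Subgroup.centralizer ({z} : Set G) → ∀ Q : Subgroup C,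
      Q = generalizedFittingSubgroup ↥C → IsOfSymplecticType ↥Q → ∀ B : Subgroup Q,
      B.Characteristic → IsMulCommutative ↥B →
        ((B.map Q.subtype).map C.subtype).map (MulAut.conj g).toMonoidHom =
          (B.map Q.subtype).map C.subtype ∨
        ((B.map Q.subtype).map C.subtype).map (MulAut.conj g).toMonoidHom ⊓
          (B.map Q.subtype).map C.subtype = ⊥ from key _ rfl _ rfl hQ B hBc hBa
  clear hQ hBc hBa B
  intro C hC Q hQ' hQ B hBc hBa
  haveI : Fact (Nat.Prime 2) := ⟨Nat.prime_two⟩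
  by_cases hb : B = ⊥
  · subst hb
    exact Or.inl (by simp [Subgroup.map_bot])
  refine or_iff_not_imp_right.2 fun hne => ?_
  have hzC : z ∈ C := hC ▸ Subgroup.mem_centralizer_singleton_iff.2 rfl
  have hzcen : (⟨z, hzC⟩ : C) ∈ Subgroup.center ↥C := by
    refine Subgroup.mem_center_iff.2 fun g => Subtype.ext ?_
    exact Subgroup.mem_centralizer_singleton_iff.1 (hC ▸ g.2)
  have hzQ : (⟨z, hzC⟩ : C) ∈ Q := by
    rw [hQ']
    refine Subgroup.mem_sup_right
      ((le_sSup (a := Subgroup.center ↥C) ?_ : _ ≤ fittingSubgroup ↥C) hzcen)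
    refine ⟨inferInstance, ?_⟩
    refine ⟨⟨1, ?_⟩⟩
    rw [Subgroup.upperCentralSeries_one, eq_top_iff]
    exact fun x _ => Subgroup.mem_center_iff.2 fun y => mul_comm' y x
  haveI : Nontrivial ↥Q := ⟨⟨⟨_, hzQ⟩, 1, fun h => by
    have := congrArg (fun x : ↥Q => ((x : ↥C) : G)) h
    simp only [Subgroup.coe_one] at this
    rw [this, orderOf_one] at hz
    omega⟩⟩
  haveI hcyc : IsCyclic ↥(Subgroup.center ↥Q) := hQ.2 _ inferInstance inferInstance
  haveI hBcyc : IsCyclic ↥B := hQ.2 B hBc hBa
  have huniq : ∀ H : Subgroup ↥Q, IsCyclic ↥H → ∀ a b : ↥H,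
      orderOf a = 2 → orderOf b = 2 → a = b := by
    intro H hH a b ha hb
    haveI := hH
    haveI : Fintype ↥H := Fintype.ofFinite _
    have h1 := IsCyclic.card_orderOf_eq_totient (α := ↥H) (d := 2) (ha ▸ orderOf_dvd_card)
    rw [Nat.totient_two] at h1
    exact Finset.card_le_one.1 h1.le a (by simp [ha]) b (by simp [hb])
  -- the involution of the cyclic centre
  have hinvQ : ∀ x : Q, x ∈ Subgroup.center ↥Q → orderOf x = 2 → ((x : ↥C) : G) = z := by
    intro x hx hord
    have hz' : (⟨_, hzQ⟩ : Q) ∈ Subgroup.center ↥Q :=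
      Subgroup.mem_center_iff.2 fun g => Subtype.ext (Subgroup.mem_center_iff.1 hzcen g)
    have hoz : orderOf (⟨_, hzQ⟩ : Q) = 2 := by
      rw [← Subgroup.orderOf_coe, ← Subgroup.orderOf_coe]; exact hz
    have := huniq _ hcyc ⟨x, hx⟩ ⟨_, hz'⟩ (by rw [Subgroup.orderOf_mk, hord])
      (by rw [Subgroup.orderOf_mk, hoz])
    exact congrArg (fun u : Subgroup.center ↥Q => ((((u : ↥Q) : ↥C) : G))) this
  have hBinv : ∀ x : Q, x ∈ B → orderOf x = 2 → ((x : ↥C) : G) = z := by
    intro x hx hord
    refine hinvQ x (Subgroup.mem_center_iff.2 fun g => ?_) hord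
    have h1 : g * x * g⁻¹ ∈ B := (by haveI := hBc; infer_instance : B.Normal).conj_mem x hx g
    have h2 : orderOf (g * x * g⁻¹) = 2 := by
      rw [← hord]; exact MulEquiv.orderOf_eq (MulAut.conj g) x
    have h3 := huniq _ hBcyc ⟨_, h1⟩ ⟨_, hx⟩ (by rw [Subgroup.orderOf_mk, h2])
      (by rw [Subgroup.orderOf_mk, hord])
    have h3 : g * x * g⁻¹ = x := congrArg Subtype.val h3
    calc g * x = g * x * g⁻¹ * g := by group
      _ = x * g := by rw [h3]
  set B₁ := (B.map Q.subtype).map C.subtype with hB₁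
  have h2pB : IsPGroup 2 ↥B₁ := ((hQ.1.to_subgroup B).map _).map _
  obtain ⟨w, hw⟩ : ∃ w : ↥(B₁.map (MulAut.conj g).toMonoidHom ⊓ B₁), orderOf w = 2 := by
    refine exists_prime_orderOf_dvd_card' 2 ?_
    obtain ⟨k, hk⟩ := (h2pB.to_le (inf_le_right (a := B₁.map (MulAut.conj g).toMonoidHom))).exists_card_eq
    rw [hk]
    refine dvd_pow_self 2 fun h0 => hne ?_
    rw [h0, pow_zero] at hk
    exact Subgroup.card_eq_one.1 hk
  obtain ⟨hw1, hw2⟩ := Subgroup.mem_inf.1 w.2
  obtain ⟨_, ⟨x, hx, rfl⟩, hxw⟩ := hw2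
  obtain ⟨u, hu, huw⟩ := hw1
  obtain ⟨_, ⟨y, hy, rfl⟩, rfl⟩ := hu
  have hw' : orderOf (w : G) = 2 := by rw [Subgroup.orderOf_coe, hw]
  have hwz : (w : G) = z := by
    rw [← hxw]
    refine hBinv x hx ?_
    rw [← Subgroup.orderOf_coe, ← Subgroup.orderOf_coe]
    exact (congrArg orderOf hxw).trans hw'
  have hyz : ((y : ↥C) : G) = z := by
    refine hBinv y hy ?_
    rw [← Subgroup.orderOf_coe, ← Subgroup.orderOf_coe]
    exact ((MulEquiv.orderOf_eq (MulAut.conj g) _).symm.trans (congrArg orderOf huw)).trans hw'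
  have hgC : g ∈ C := by
    rw [hC]
    refine Subgroup.mem_centralizer_singleton_iff.2 ?_
    have h1 : g * ((y : ↥C) : G) * g⁻¹ = (w : G) := huw
    rw [hyz, hwz] at h1
    calc g * z = g * z * g⁻¹ * g := by group
      _ = z * g := by rw [h1]
  have hQn : Q.Normal := by rw [hQ', generalizedFittingSubgroup]; infer_instance
  haveI := hQn
  haveI := hBc
  have hBn : (B.map Q.subtype).Normal := inferInstance
  have := Subgroup.mem_normalizer_iff.1
    (show (⟨g, hgC⟩ : C) ∈ Subgroup.normalizer ((B.map Q.subtype : Subgroup C) : Set C) by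
      rw [Subgroup.normalizer_eq_top]; trivial)
  refine Subgroup.eq_of_le_of_card_ge ?_
    (Subgroup.card_map_of_injective (MulAut.conj g).injective).ge
  rintro _ ⟨_, ⟨c, hc, rfl⟩, rfl⟩
  exact ⟨_, (this c).1 hc, rfl⟩

end Cfsg.Agent.S1755
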