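import Cfsg.Statements.S1756
import Cfsg.Agent.Lib.Fus.Extraspecial
-- import your own Cfsg.Agent.* helpers here

set_option autoImplicit false
open Cfsg

namespace Cfsg.Agent.S1756

/-- Let Q be an extraspecial 2-subgroup of the finite group G (special with centre of order 2) and t an involution of G normalizing Q such that the centralizer of t in Q has index at most 2 in Q. Then t lies in the product of Q with the centralizer of Q. -/
theorem result {G : Type*} [Group G] [Finite G] (Q : Subgroup G)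
    (hQ : Cfsg.IsExtraspecial 2 ↥Q) (t : G) (ht : orderOf t = 2) (htN : t ∈ Subgroup.normalizer (Q : Set G))
    (hi : (Subgroup.centralizer ({t} : Set G) ⊓ Q).relIndex Q ≤ 2) :
    t ∈ Q ⊔ Subgroup.centralizer (Q : Set G) := by
  set φ : ↥Q ≃* ↥Q := Q.normalizerMonoidHom ⟨t, htN⟩ with hφdef
  have hφv : ∀ x : Q, ((φ x : Q) : G) = t * x * t⁻¹ := fun x => rfl
  have ht2 : t * t = 1 := by rw [← pow_two, ← ht, pow_orderOf_eq_one]
  have hφ : ∀ x, φ (φ x) = x := fun x => Subtype.ext (by
    rw [hφv, hφv, show t * (t * (x : G) * t⁻¹) * t⁻¹ = (t * t) * x * (t * t)⁻¹ by group, ht2]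
    group)
  set H := (Subgroup.centralizer ({t} : Set G) ⊓ Q).subgroupOf Q with hHdef
  have hfix : ∀ h ∈ H, φ h = h := fun h hh => Subtype.ext (by
    rw [hφv, ← Subgroup.mem_centralizer_singleton_iff.1 (Subgroup.mem_subgroupOf.1 hh).1,
      mul_inv_cancel_right])
  by_cases hall : ∀ x, φ x = x
  · refine Subgroup.mem_sup_right (Subgroup.mem_centralizer_iff.2 fun x hx => ?_)
    have := congrArg Subtype.val (hall ⟨x, hx⟩)
    rw [hφv] at this
    exact (mul_inv_eq_iff_eq_mul.1 this).symm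
  obtain ⟨u, hu⟩ := not_forall.1 hall
  have hi' : H.index ≤ 2 := hi
  have hidx : H.index = 2 := by
    have h0 : H.index ≠ 0 := Subgroup.index_ne_zero_of_finite
    have h1 : H.index ≠ 1 := fun h => hu (hfix u ((Subgroup.index_eq_one.1 h).ge (Subgroup.mem_top u)))
    omega
  obtain ⟨w, hw⟩ := Fus.exists_conj_of_index_two hQ φ hφ hidx hfix ⟨u, hu⟩
  rw [show t = (w : G) * ((w : G)⁻¹ * t) by group]
  refine Subgroup.mul_mem _ (Subgroup.mem_sup_left w.2)
    (Subgroup.mem_sup_right (Subgroup.mem_centralizer_iff.2 fun x hx => ?_))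
  have h := congrArg Subtype.val (hw ⟨x, hx⟩)
  rw [hφv] at h
  simp only [Subgroup.coe_mul, Subgroup.coe_inv] at h
  calc x * ((w : G)⁻¹ * t) = (w : G)⁻¹ * ((w : G) * x * (w : G)⁻¹) * t := by group
    _ = (w : G)⁻¹ * (t * x * t⁻¹) * t := by rw [h]
    _ = (w : G)⁻¹ * t * x := by group

end Cfsg.Agent.S1756
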