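import Cfsg.Statements.S1757
import Cfsg.Agent.Lib.Fus.Basic
import Cfsg.Agent.Lib.Grp.Basic
-- import your own Cfsg.Agent.* helpers here

set_option autoImplicit false
open Cfsg

namespace Cfsg.Agent.S1757

/-- Let p be a prime and A, B p-subgroups of the finite group G, each of which meets every conjugate of itself other than itself trivially. Suppose the order of A is at most that of B, A and B intersect trivially, and B normalizes A. Then A and B commute elementwise. -/
theorem result {G : Type*} [Group G] [Finite G] (p : ℕ) [Fact p.Prime] (A B : Subgroup G)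
    (hA : IsPGroup p ↥A) (hB : IsPGroup p ↥B)
    (hAti : ∀ g : G, A.map (MulAut.conj g).toMonoidHom = A ∨ A.map (MulAut.conj g).toMonoidHom ⊓ A = ⊥)
    (hBti : ∀ g : G, B.map (MulAut.conj g).toMonoidHom = B ∨ B.map (MulAut.conj g).toMonoidHom ⊓ B = ⊥)
    (hle : Nat.card ↥A ≤ Nat.card ↥B) (hAB : A ⊓ B = ⊥) (hN : B ≤ Subgroup.normalizer (A : Set G)) : ⁅A, B⁆ = ⊥ := by
  classical
  suffices hA' : A ≤ Subgroup.normalizer (B : Set G) by
    rw [eq_bot_iff, Subgroup.commutator_le]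
    intro a ha b hb
    rw [← hAB]
    refine ⟨?_, ?_⟩
    · rw [commutatorElement_def, show a * b * a⁻¹ * b⁻¹ = a * (b * a⁻¹ * b⁻¹) by group]
      exact A.mul_mem ha ((Subgroup.mem_normalizer_iff.1 (hN hb) a⁻¹).1 (A.inv_mem ha))
    · rw [commutatorElement_def]
      exact B.mul_mem ((Subgroup.mem_normalizer_iff.1 (hA' ha) b).1 hb) (B.inv_mem hb)
  intro a ha
  by_contra hnot
  have hne : B.map (MulAut.conj a).toMonoidHom ≠ B := by
    intro h
    exact hnot (Cfsg.Agent.Grp.mem_normalizer_of_map_eq.2 h)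
  have hbot := (hBti a).resolve_left hne
  have hAB' : ∀ x : B × B, (x.1 : G) * (a * (x.2 : G) * a⁻¹) ∈ A ⊔ B := fun x =>
    mul_mem (Subgroup.mem_sup_right x.1.2) (mul_mem (mul_mem (Subgroup.mem_sup_left ha)
      (Subgroup.mem_sup_right x.2.2)) (Subgroup.mem_sup_left (A.inv_mem ha)))
  let f : B × B → ↥(A ⊔ B) := fun x => ⟨_, hAB' x⟩
  have hinj : Function.Injective f := by
    rintro ⟨b, c⟩ ⟨b', c'⟩ h
    have h : (b : G) * (a * (c : G) * a⁻¹) = b' * (a * (c' : G) * a⁻¹) := congrArg Subtype.val h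
    have hmem : (b' : G)⁻¹ * b ∈ B.map (MulAut.conj a).toMonoidHom ⊓ B := by
      refine ⟨⟨(c' : G) * (c : G)⁻¹, B.mul_mem c'.2 (B.inv_mem c.2), ?_⟩,
        B.mul_mem (B.inv_mem b'.2) b.2⟩
      show a * ((c' : G) * (c : G)⁻¹) * a⁻¹ = _
      calc a * ((c' : G) * (c : G)⁻¹) * a⁻¹
          = (b' : G)⁻¹ * ((b' : G) * (a * (c' : G) * a⁻¹)) * (a * (c : G) * a⁻¹)⁻¹ := by group
        _ = (b' : G)⁻¹ * b := by rw [← h]; group
    rw [hbot, Subgroup.mem_bot, inv_mul_eq_one] at hmem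
    obtain rfl : b = b' := (Subtype.ext hmem).symm
    obtain rfl : c = c' := Subtype.ext (mul_left_cancel (mul_right_cancel (mul_left_cancel h)))
    rfl
  have hcard : Nat.card ↥(A ⊔ B) = Nat.card A * Nat.card B := by
    have := Cfsg.Agent.Grp.card_sup_mul_card_inf hN
    rw [sup_comm, inf_comm, hAB, Subgroup.card_bot, mul_one, mul_comm] at this
    exact this
  have hsurj := (hinj.bijective_of_nat_card_le (by
    rw [Nat.card_prod, hcard]; exact Nat.mul_le_mul_right _ hle)).2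
  obtain ⟨⟨b, c⟩, hbc⟩ := hsurj ⟨a⁻¹, Subgroup.mem_sup_left (A.inv_mem ha)⟩
  have hbc : (b : G) * (a * (c : G) * a⁻¹) = a⁻¹ := congrArg Subtype.val hbc
  have haB : a ∈ B := by
    have h1 : (b : G) * a * (c : G) = 1 := by
      calc (b : G) * a * (c : G) = (b : G) * (a * (c : G) * a⁻¹) * a := by group
        _ = 1 := by rw [hbc, inv_mul_cancel]
    have h2 : a = (b : G)⁻¹ * (c : G)⁻¹ := by
      calc a = (b : G)⁻¹ * ((b : G) * a * (c : G)) * (c : G)⁻¹ := by group
        _ = (b : G)⁻¹ * (c : G)⁻¹ := by rw [h1, mul_one]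
    exact h2 ▸ B.mul_mem (B.inv_mem b.2) (B.inv_mem c.2)
  exact hnot (Subgroup.le_normalizer haB)

end Cfsg.Agent.S1757
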