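import Cfsg.Statements.S1775
import Cfsg.Agent.Lib.Fus.BPropertyPairs
import Cfsg.Agent.Lib.Grp.PComponents
import Cfsg.Agent.Lib.Grp.Components
-- import your own Cfsg.Agent.* helpers here

set_option autoImplicit false
open Cfsg

namespace Cfsg.Agent.S1775

/-- Let G be a finite group whose generalized Fitting subgroup is a non-abelian simple group and in which every proper section (every quotient H/N of a proper subgroup H, or of G by a nontrivial normal subgroup) has the B-property. Let x, y be commuting involutions, let D be the intersection of the 2-layer of C_G(x) with C_G(y), and let J be a 2-component of D. Write Q for the quotient of C_G(y) by its largest normal odd-order subgroup. Then (i) the image of J in Q is a component of the centralizer in Q of the image of x; and (ii) for every J-invariant subgroup E of odd order of C_G(x) ∩ C_G(y), the commutator subgroup [J, E] lies in the largest normal odd-order subgroup of C_G(y). -/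
theorem result {G : Type*} [Group G] [Finite G]
    (hF : IsSimpleGroup ↥(Cfsg.generalizedFittingSubgroup G)) (hF' : ¬ IsMulCommutative ↥(Cfsg.generalizedFittingSubgroup G))
    (hsec : ∀ (H : Subgroup G) (N : Subgroup ↥H) [N.Normal], (H ≠ ⊤ ∨ N ≠ ⊥) → Cfsg.HasBProperty (↥H ⧸ N))
    (x y : G) (hx : orderOf x = 2) (hy : orderOf y = 2) (hxy : x * y = y * x)
    (J : Subgroup ↥((Cfsg.pLayer 2 ↥(Subgroup.centralizer ({x} : Set G))).map (Subgroup.centralizer ({x} : Set G)).subtype ⊓ Subgroup.centralizer ({y} : Set G)))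
    (hJ : Cfsg.IsPComponent 2 J) :
    Cfsg.IsComponent
        ((((J.map (Subgroup.subtype _)).subgroupOf (Subgroup.centralizer ({y} : Set G))).map (QuotientGroup.mk' (Cfsg.oddCore ↥(Subgroup.centralizer ({y} : Set G))))).subgroupOf
          (Subgroup.centralizer ({(QuotientGroup.mk' (Cfsg.oddCore ↥(Subgroup.centralizer ({y} : Set G))) ⟨x, Subgroup.mem_centralizer_singleton_iff.mpr hxy⟩ : ↥(Subgroup.centralizer ({y} : Set G)) ⧸ Cfsg.oddCore ↥(Subgroup.centralizer ({y} : Set G)))} : Set _))) ∧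
      ∀ E : Subgroup G, E ≤ Subgroup.centralizer ({x} : Set G) ⊓ Subgroup.centralizer ({y} : Set G) → Odd (Nat.card ↥E) →
        (∀ j ∈ J.map (Subgroup.subtype _), ∀ e ∈ E, j * e * j⁻¹ ∈ E) →
          ⁅J.map (Subgroup.subtype _), E⁆ ≤ (Cfsg.oddCore ↥(Subgroup.centralizer ({y} : Set G))).map (Subgroup.centralizer ({y} : Set G)).subtype := by
  haveI : Fact (Nat.Prime 2) := ⟨Nat.prime_two⟩
  let C : Subgroup G := Subgroup.centralizer ({y} : Set G)
  let Cx : Subgroup G := Subgroup.centralizer ({x} : Set G)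
  let M : Subgroup G := (pLayer 2 ↥Cx).map Cx.subtype
  let D : Subgroup G := M ⊓ C
  let H : Subgroup G := Cx ⊓ C
  haveI : (oddCore ↥C).Normal := Grp.pPrimeCore_isNormal
  have hDH : D ≤ H := inf_le_inf_right _ (Subgroup.map_subtype_le _)
  -- `y` is not central
  have hC' : C ≠ ⊤ := by
    intro e
    have hyF : y ∈ generalizedFittingSubgroup G := by
      refine Grp.centralizer_gfitting_le (Subgroup.mem_centralizer_iff.2 fun u _ => ?_)
      exact Subgroup.mem_centralizer_singleton_iff.1 (show u ∈ C from e ▸ Subgroup.mem_top u)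
    have hcen : (⟨y, hyF⟩ : ↥(generalizedFittingSubgroup G)) ∈
        Subgroup.center ↥(generalizedFittingSubgroup G) :=
      Subgroup.mem_center_iff.2 fun u => Subtype.ext
        (Subgroup.mem_centralizer_singleton_iff.1 (show (u : G) ∈ C from e ▸ Subgroup.mem_top _))
    rcases (Subgroup.Normal.eq_bot_or_eq_top
      (inferInstance : (Subgroup.center ↥(generalizedFittingSubgroup G)).Normal)) with h | h
    · rw [h, Subgroup.mem_bot] at hcen
      have : y = 1 := congrArg Subtype.val hcen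
      rw [this, orderOf_one] at hy
      omega
    · exact hF' ⟨⟨fun a b => Subgroup.mem_center_iff.1 (show b ∈ Subgroup.center _ from h ▸ Subgroup.mem_top b) a⟩⟩
  have hB : HasBProperty (↥C ⧸ oddCore ↥C) := hsec C (oddCore ↥C) (Or.inl hC')
  have hO : oddCore (↥C ⧸ oddCore ↥C) = ⊥ := Grp.pPrimeCore_quotient_bot
  let q : ↥C →* ↥C ⧸ oddCore ↥C := QuotientGroup.mk' (oddCore ↥C)
  let x' : ↥C := ⟨x, Subgroup.mem_centralizer_singleton_iff.mpr hxy⟩
  let t : ↥C ⧸ oddCore ↥C := q x'
  have hx' : orderOf x' = 2 := by rw [← Subgroup.orderOf_coe]; exact hx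
  have hodd : Odd (Nat.card (oddCore ↥C)) :=
    Nat.coprime_two_right.1 (Grp.pPrimeCore_coprime (p := 2) (G := ↥C))
  have ht : orderOf t = 2 := by
    refine orderOf_eq_prime_iff.2 ⟨?_, fun h => ?_⟩
    · show q x' ^ 2 = 1
      rw [← map_pow, ← hx', pow_orderOf_eq_one, map_one]
    · have hm : x' ∈ oddCore ↥C := (QuotientGroup.eq_one_iff (N := oddCore ↥C) x').1 h
      have := Subgroup.orderOf_dvd_natCard _ hm
      rw [hx'] at this
      exact (Nat.not_even_iff_odd.2 hodd) (even_iff_two_dvd.2 this)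
  let f₀ : ↥H →* ↥C ⧸ oddCore ↥C := q.comp (Subgroup.inclusion (inf_le_right : H ≤ C))
  have hmem : ∀ h : ↥H, f₀ h ∈ Subgroup.centralizer ({t} : Set (↥C ⧸ oddCore ↥C)) := by
    intro h
    rw [Subgroup.mem_centralizer_singleton_iff]
    show q _ * q x' = q x' * q _
    rw [← map_mul, ← map_mul]
    exact congrArg q (Subtype.ext (Subgroup.mem_centralizer_singleton_iff.1 h.2.1))
  let f : ↥H →* ↥(Subgroup.centralizer ({t} : Set (↥C ⧸ oddCore ↥C))) := f₀.codRestrict _ hmem
  have hf : Function.Surjective f := by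
    rintro ⟨z, hz⟩
    have hP : IsPGroup 2 ↥(Subgroup.zpowers x') :=
      IsPGroup.of_card (n := 1) (by rw [Nat.card_zpowers, hx', pow_one])
    have h1 := Grp.map_centralizer_pGroup (p := 2) hP
    rw [MonoidHom.map_zpowers] at h1
    have hz' : z ∈ Subgroup.centralizer (Subgroup.zpowers t : Set (↥C ⧸ oddCore ↥C)) := by
      rw [Subgroup.mem_centralizer_iff]
      intro w hw
      obtain ⟨k, rfl⟩ := Subgroup.mem_zpowers_iff.1 hw
      have hzt : Commute z t := Subgroup.mem_centralizer_singleton_iff.1 hz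
      exact (hzt.zpow_right k).eq.symm
    obtain ⟨c, hc, hcz⟩ := h1.ge hz'
    have hcx : (c : G) ∈ Cx := Subgroup.mem_centralizer_singleton_iff.2
      (congrArg Subtype.val (Subgroup.mem_centralizer_iff.1 hc x' (Subgroup.mem_zpowers x'))).symm
    exact ⟨⟨c, hcx, c.2⟩, Subtype.ext hcz⟩
  have hk : Odd (Nat.card f.ker) := by
    obtain ⟨m, hm⟩ : Nat.card f.ker ∣ Nat.card (oddCore ↥C) := by
      rw [← Subgroup.card_map_of_injective (K := f.ker) (f := Subgroup.inclusion (inf_le_right : H ≤ C))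
        (Subgroup.inclusion_injective _)]
      refine Subgroup.card_dvd_of_le ?_
      rintro _ ⟨a, ha, rfl⟩
      have ha' : f₀ a = 1 := congrArg Subtype.val (show f a = 1 from ha)
      exact (QuotientGroup.eq_one_iff (N := oddCore ↥C) _).1 ha'
    exact (Nat.odd_mul.1 (hm ▸ hodd)).1
  let ι : ↥D →* ↥H := Subgroup.inclusion hDH
  have hn : ι.range.IsSubnormal := by
    rw [Subgroup.inclusion_range]
    have : (D.subgroupOf H).Normal := by
      refine ⟨fun d hd g => ?_⟩
      rw [Subgroup.mem_subgroupOf] at hd ⊢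
      obtain ⟨⟨u, hu, hux⟩, huC⟩ := Subgroup.mem_inf.1 hd
      refine Subgroup.mem_inf.2 ⟨⟨⟨g, g.2.1⟩ * u * ⟨g, g.2.1⟩⁻¹, ?_, ?_⟩, ?_⟩
      · exact (Grp.pLayer_normal (p := 2) (G := ↥Cx)).conj_mem u hu _
      · simp [← hux]
      · simpa using C.mul_mem (C.mul_mem g.2.2 huC) (C.inv_mem g.2.2)
    exact this.isSubnormal
  obtain ⟨hcomp, hE⟩ := Fus.BPairs.component_image hB hO t ht f hf hk ι
    (Subgroup.inclusion_injective _) hn (J := J) hJ
  refine ⟨?_, fun E hEle hEodd hEn => ?_⟩
  · convert hcomp using 1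
    ext z
    constructor
    · intro hz
      obtain ⟨c, ⟨j, hj, hjc⟩, hcz⟩ := hz
      refine ⟨ι j, ⟨j, hj, rfl⟩, Subtype.ext ?_⟩
      refine Eq.trans ?_ hcz
      exact congrArg q (Subtype.ext hjc)
    · rintro ⟨_, ⟨j, hj, rfl⟩, rfl⟩
      exact ⟨⟨j.1, j.2.2⟩, ⟨j, hj, rfl⟩, rfl⟩
  · rw [Subgroup.commutator_le]
    rintro a ⟨j, hj, rfl⟩ e he
    let e' : ↥H := ⟨e, hEle he⟩
    have hEn' : ∀ a ∈ J.map ι, ∀ b ∈ E.subgroupOf H, a * b * a⁻¹ ∈ E.subgroupOf H := by
      rintro _ ⟨i, hi, rfl⟩ b hb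
      exact hEn i ⟨i, hi, rfl⟩ b hb
    have h := hE (E.subgroupOf H) (by
      rw [Nat.card_congr (Subgroup.subgroupOfEquivOfLe hEle).toEquiv]; exact hEodd) hEn' (ι j) ⟨j, hj, rfl⟩ e' he
    have h' : f₀ (ι j * e' * (ι j)⁻¹ * e'⁻¹) = 1 := congrArg Subtype.val h
    exact ⟨_, (QuotientGroup.eq_one_iff (N := oddCore ↥C) _).1 h', rfl⟩

end Cfsg.Agent.S1775
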