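import Cfsg.Statements.S1777
import Cfsg.Agent.Lib.Spor.HSType.Final
import Cfsg.Agent.Lib.Spor.HSType.Model

set_option autoImplicit false
open Cfsg

namespace Cfsg.Agent.S1777

/-- Let G be a finite simple group whose Sylow 2-subgroups are isomorphic to a Sylow 2-subgroup of the Higman–Sims group. Then G is isomorphic to the Higman–Sims group. -/
theorem result {G : Type*} [Group G] [Finite G] [IsSimpleGroup G]
    (S : Sylow 2 G) (P : Sylow 2 ↥Cfsg.Spor.HS) (hS : Nonempty (↥(S : Subgroup G) ≃* ↥(P : Subgroup ↥Cfsg.Spor.HS))) :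
    Cfsg.Spor.IsoHS G := by
  obtain ⟨e⟩ := hS
  obtain ⟨SH, ⟨sH⟩⟩ := Cfsg.Agent.Spor.HSType.exists_shape_HS
  haveI : Finite ↥Cfsg.Spor.HS :=
    haveI : Finite ↥Cfsg.Agent.Spor.Cos.HSOut.H := Nat.finite_of_card_ne_zero (by
      rw [Cfsg.Agent.Spor.Cos.HSOut.card_H]; norm_num)
    Finite.of_equiv _ Cfsg.Agent.Spor.Cos.HSOut.equivHS.symm.toEquiv
  let s := sH.ofEquiv ((Sylow.equiv SH P).trans e.symm)
  refine Cfsg.Agent.Spor.HSType.Setting.isoHS ⟨S, s, inferInstance, fun hc => ?_⟩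
  have hp : (Nat.card G).Prime := by
    haveI := hc
    letI : CommGroup G := { ‹Group G› with mul_comm := hc.is_comm.comm }
    exact IsSimpleGroup.prime_card
  have h2 := (Subgroup.card_subgroup_dvd_card (S : Subgroup G))
  rw [s.card] at h2
  rcases hp.eq_one_or_self_of_dvd _ h2 with h | h
  · norm_num at h
  · rw [← h] at hp
    norm_num at hp

end Cfsg.Agent.S1777
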