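import Cfsg.Statements.S1780
import Cfsg.Agent.Lib.Fus.Basic
-- import your own Cfsg.Agent.* helpers here

set_option autoImplicit false
open Cfsg

namespace Cfsg.Agent.S1780

/-- Let A be a finite abelian 2-group and t an automorphism of A whose order is a power of 2. If every element of A fixed by t² is fixed by t, then t fixes every element of A. -/
theorem result {A : Type*} [CommGroup A] [Finite A]
    (hA : IsPGroup 2 A) (t : MulAut A) (ht : ∃ k : ℕ, orderOf t = 2 ^ k) (hC : ∀ a : A, t (t a) = a → t a = a) :
    ∀ a : A, t a = a := by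
  classical
  obtain ⟨k, hk⟩ := ht
  let f : A →* A := MonoidHom.mk' (fun a => a * t a) fun a b => by
    rw [map_mul, mul_mul_mul_comm]
  have hf : ∀ (j : ℕ) (a : A), a * a = 1 → f^[2 ^ j] a = a * (t ^ 2 ^ j) a := by
    intro j
    induction j with
    | zero => intro a _; simp [f]
    | succ j ih =>
      intro a ha
      have h1 : (a * (t ^ 2 ^ j) a) * (a * (t ^ 2 ^ j) a) = 1 := by
        rw [mul_mul_mul_comm, ha, ← map_mul, ha, map_one, mul_one]
      rw [pow_succ, mul_two, Function.iterate_add_apply, ih a ha, ih _ h1, pow_add,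
        MulAut.mul_apply, map_mul]
      rw [show a * (t ^ 2 ^ j) a * ((t ^ 2 ^ j) a * (t ^ 2 ^ j) ((t ^ 2 ^ j) a)) =
        a * ((t ^ 2 ^ j) a * (t ^ 2 ^ j) a) * (t ^ 2 ^ j) ((t ^ 2 ^ j) a) by
          simp only [mul_assoc], ← map_mul, ha, map_one, mul_one]
  have h2 : ∀ a : A, a * a = 1 → t a = a := by
    intro a ha
    have hdesc : ∀ n : ℕ, ∀ b : A, b * b = 1 → f^[n + 1] b = 1 → f b = 1 := by
      intro n
      induction n with
      | zero => exact fun b _ h => h
      | succ n ih =>
        intro b hb h
        rw [Function.iterate_succ_apply] at h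
        have h3 := ih (f b) (by
          show (b * t b) * (b * t b) = 1
          rw [mul_mul_mul_comm, hb, ← map_mul, hb, map_one, mul_one]) h
        show b * t b = 1
        have h4 : (b * t b) * t (b * t b) = 1 := h3
        rw [map_mul, ← mul_assoc, mul_assoc b, ← map_mul, hb, map_one, mul_one] at h4
        have h5 : t (t b) = b := by
          calc t (t b) = (b * b) * t (t b) := by rw [hb, one_mul]
            _ = b * (b * t (t b)) := mul_assoc _ _ _
            _ = b := by rw [h4, mul_one]
        rw [hC b h5, hb]
    have h6 := hdesc (2 ^ k - 1) a ha (by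
      rw [Nat.sub_add_cancel Nat.one_le_two_pow, hf k a ha, ← hk, pow_orderOf_eq_one,
        MulAut.one_apply, ha])
    calc t a = (a * a) * t a := by rw [ha, one_mul]
      _ = a * (a * t a) := mul_assoc _ _ _
      _ = a := by rw [show a * t a = 1 from h6, mul_one]
  have hall : ∀ j (a : A), a ^ 2 ^ j = 1 → t a = a := by
    intro j
    induction j with
    | zero => intro a ha; rw [pow_zero, pow_one] at ha; rw [ha, map_one]
    | succ j ih =>
      intro a ha
      rw [pow_succ', pow_mul] at ha
      have h1 := ih _ ha
      rw [map_pow, sq, sq] at h1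
      have hd := h2 (a⁻¹ * t a) (by
        rw [mul_mul_mul_comm, h1, ← mul_inv, inv_mul_cancel])
      refine hC a ?_
      have h3 : t (t a) = t a * (a⁻¹ * t a) := by
        conv_rhs => rw [← hd, ← map_mul, mul_inv_cancel_left]
      rw [h3, mul_left_comm, h1, inv_mul_cancel_left]
  intro a
  obtain ⟨j, hj⟩ := hA a
  exact hall j a hj

end Cfsg.Agent.S1780
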