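import Cfsg.Statements.S1781
import Cfsg.Agent.Lib.Grp.Basic
import Cfsg.Agent.S1757
import Cfsg.Agent.S1780
-- import your own Cfsg.Agent.* helpers here

set_option autoImplicit false
open Cfsg

namespace Cfsg.Agent.S1781

/-- Let A be an abelian 2-subgroup of the finite group G such that every conjugate of A equals A or meets A trivially, and let g ∈ G with g A g⁻¹ ≠ A. Then either the subgroup of those elements of A that normalize g A g⁻¹ is an elementary abelian 2-group, or A and g A g⁻¹ commute elementwise. -/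
theorem result {G : Type*} [Group G] [Finite G] (A : Subgroup G)
    (hA2 : IsPGroup 2 ↥A) (hAa : IsMulCommutative ↥A)
    (hti : ∀ h : G, A.map (MulAut.conj h).toMonoidHom = A ∨ A.map (MulAut.conj h).toMonoidHom ⊓ A = ⊥)
    (g : G) (hg : A.map (MulAut.conj g).toMonoidHom ≠ A) :
    Cfsg.IsElementaryAbelian 2 (A ⊓ Subgroup.normalizer ((A.map (MulAut.conj g).toMonoidHom : Subgroup G) : Set G)) ∨
      ⁅A, A.map (MulAut.conj g).toMonoidHom⁆ = ⊥ := by
  classical
  haveI : Fact (Nat.Prime 2) := ⟨Nat.prime_two⟩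
  set B := A.map (MulAut.conj g).toMonoidHom with hB
  refine or_iff_not_imp_left.2 fun hne => ?_
  have hBA : B ⊓ A = ⊥ := (hti g).resolve_left hg
  have hcard : Nat.card A ≤ Nat.card B :=
    (Subgroup.card_map_of_injective (K := A) (f := (MulAut.conj g).toMonoidHom)
      (MulAut.conj g).injective).ge
  obtain ⟨a, haN, ha2⟩ : ∃ a ∈ A ⊓ Subgroup.normalizer (B : Set G), a ^ 2 ≠ 1 := by
    by_contra! h
    refine hne ⟨⟨⟨fun x y => Subtype.ext ?_⟩⟩, h⟩
    exact congrArg (fun w : A => (w : G)) (mul_comm' (⟨x, x.2.1⟩ : A) ⟨y, y.2.1⟩)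
  obtain ⟨haA, haB⟩ := Subgroup.mem_inf.1 haN
  have hmove : ∀ b x : G, x ∈ A → x ≠ 1 → b * x * b⁻¹ = x →
      b ∈ Subgroup.normalizer (A : Set G) := by
    intro b x hx hx1 hbx
    refine Cfsg.Agent.Grp.mem_normalizer_of_map_eq.2 ((hti b).resolve_right fun h => hx1 ?_)
    rw [← Subgroup.mem_bot, ← h]
    exact ⟨⟨x, hx, hbx⟩, hx⟩
  letI : CommGroup ↥B := { (inferInstance : Group ↥B) with
    mul_comm := fun u v => by
      obtain ⟨_, x, hx, rfl⟩ := u
      obtain ⟨_, y, hy, rfl⟩ := v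
      exact Subtype.ext (congrArg (fun w : A => MulAut.conj g (w : G))
        (mul_comm' (⟨x, hx⟩ : A) ⟨y, hy⟩) |> fun h => by
          simpa only [Subgroup.coe_mul, map_mul, MulEquiv.coe_toMonoidHom] using h) }
  have hB2 : IsPGroup 2 ↥B := hA2.map _
  let c : MulAut ↥B := B.normalizerMonoidHom ⟨a, haB⟩
  have hc : ∀ b : B, ((c b : B) : G) = a * b * a⁻¹ := fun b => rfl
  have hfix := Cfsg.Agent.S1780.result hB2 c (by
    obtain ⟨k, hk⟩ := hA2 ⟨a, haA⟩
    have h1 : c ^ 2 ^ k = 1 := by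
      rw [← map_pow, show (⟨a, haB⟩ : Subgroup.normalizer (B : Set G)) ^ 2 ^ k = 1 from
        Subtype.ext (by simpa using congrArg Subtype.val hk), map_one]
    obtain ⟨i, -, hi⟩ := (Nat.dvd_prime_pow Nat.prime_two).1 (orderOf_dvd_of_pow_eq_one h1)
    exact ⟨i, hi⟩) fun b hb => by
      have h1 : a * (a * (b : G) * a⁻¹) * a⁻¹ = b := congrArg Subtype.val hb
      have h2 : (b : G) * a ^ 2 * (b : G)⁻¹ = a ^ 2 := by
        calc (b : G) * a ^ 2 * (b : G)⁻¹ =
            a * (a * (b : G) * a⁻¹) * a⁻¹ * a ^ 2 * (b : G)⁻¹ := by rw [h1]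
          _ = a ^ 2 := by rw [sq]; group
      have hbN := hmove b (a ^ 2) (A.pow_mem haA 2) ha2 h2
      have h3 : a * (b : G) * a⁻¹ * (b : G)⁻¹ ∈ B ⊓ A := by
        refine ⟨B.mul_mem ((Subgroup.mem_normalizer_iff.1 haB b).1 b.2) (B.inv_mem b.2), ?_⟩
        rw [show a * (b : G) * a⁻¹ * (b : G)⁻¹ = a * ((b : G) * a⁻¹ * (b : G)⁻¹) by group]
        exact A.mul_mem haA ((Subgroup.mem_normalizer_iff.1 hbN a⁻¹).1 (A.inv_mem haA))
      rw [hBA, Subgroup.mem_bot, mul_inv_eq_one] at h3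
      exact Subtype.ext h3
  have hBN : B ≤ Subgroup.normalizer (A : Set G) := fun b hb => by
    refine hmove b a haA (fun h => ha2 (by rw [h, one_pow])) ?_
    have h1 : a * b * a⁻¹ = b := (hc ⟨b, hb⟩).symm.trans (congrArg Subtype.val (hfix ⟨b, hb⟩))
    calc b * a * b⁻¹ = a * b * a⁻¹ * a * b⁻¹ := by rw [h1]
      _ = a := by group
  refine Cfsg.Agent.S1757.result 2 A B hA2 hB2 hti (fun h => ?_) hcard (by rw [inf_comm]; exact hBA) hBN
  have hcomp : B.map (MulAut.conj h).toMonoidHom =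
      (A.map (MulAut.conj (g⁻¹ * h * g)).toMonoidHom).map (MulAut.conj g).toMonoidHom := by
    rw [hB, Subgroup.map_map, Subgroup.map_map]
    congr 1
    ext x
    simp [mul_assoc]
  rw [hcomp]
  rcases hti (g⁻¹ * h * g) with h1 | h1
  · exact Or.inl (by rw [h1])
  · refine Or.inr ?_
    rw [hB, ← Subgroup.map_inf _ _ _ (MulAut.conj g).injective, h1, Subgroup.map_bot]

end Cfsg.Agent.S1781
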