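import Cfsg.Statements.S1783
import Cfsg.Agent.Lib.Fus.TIAbelian
import Cfsg.Agent.Lib.Fus.EssentialSmall
import Cfsg.Agent.Lib.Grp.Components
import Cfsg.Agent.Lib.Transfer.Cores
-- import your own Cfsg.Agent.* helpers here

set_option autoImplicit false
open Cfsg

namespace Cfsg.Agent.S1783

/-- Let X be a finite group whose generalized Fitting subgroup equals its largest normal 2-subgroup Q, and let A be an abelian 2-subgroup of X such that every conjugate of A equals A or meets A trivially. Let B be the subgroup generated by the squares of the elements of A. Then B lies in Q, and if B is not an elementary abelian 2-group then the normal closure of B in X is commutative. -/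
theorem result {X : Type*} [Group X] [Finite X]
    (hX : Cfsg.generalizedFittingSubgroup X = Cfsg.pCore 2 X) (A : Subgroup X) (hA2 : IsPGroup 2 ↥A) (hAa : IsMulCommutative ↥A)
    (hti : ∀ h : X, A.map (MulAut.conj h).toMonoidHom = A ∨ A.map (MulAut.conj h).toMonoidHom ⊓ A = ⊥) :
    Subgroup.closure ((fun a : X => a ^ 2) '' (A : Set X)) ≤ Cfsg.pCore 2 X ∧
      (¬ Cfsg.IsElementaryAbelian 2 (Subgroup.closure ((fun a : X => a ^ 2) '' (A : Set X))) →
        IsMulCommutative ↥(Subgroup.normalClosure ((fun a : X => a ^ 2) '' (A : Set X)))) := by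
  classical
  haveI hQn : (pCore 2 X).Normal := Transfer.pCore_normal' 2 X
  have hQp : IsPGroup 2 (pCore 2 X) := Transfer.pCore_isPGroup 2 X
  have hcent : ∀ x : X, (∀ y ∈ pCore 2 X, Commute x y) → x ∈ pCore 2 X := by
    intro x hx
    have h := Grp.centralizer_gfitting_le (G := X)
    rw [hX] at h
    exact h (Subgroup.mem_centralizer_iff.2 fun y hy => (hx y hy).eq.symm)
  have hAc : ∀ x ∈ A, ∀ y ∈ A, Commute x y := fun x hx y hy =>
    congrArg Subtype.val (hAa.is_comm.comm (⟨x, hx⟩ : A) ⟨y, hy⟩)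
  have hQA : IsPGroup 2 ↥(A ⊔ pCore 2 X) := hA2.to_sup_of_normal_right hQp
  have hsq : ∀ a ∈ A, a ^ 2 ∈ pCore 2 X := by
    intro a ha
    by_cases he : ∃ b ∈ A, b ^ 2 ≠ 1
    swap
    · push Not at he
      rw [he a ha]
      exact one_mem _
    let K : Subgroup X :=
      { carrier := {x | ∀ q : pCore 2 X, q⁻¹ * MulAut.conjNormal x q ∈ frattini (pCore 2 X)}
        one_mem' := fun q => by simp
        mul_mem' := fun {x y} hx hy q => by
          have := mul_mem (hy q) (hx (MulAut.conjNormal y q))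
          rwa [mul_assoc, mul_inv_cancel_left, ← MulAut.mul_apply, ← map_mul] at this
        inv_mem' := fun {x} hx q => by
          have := inv_mem (hx (MulAut.conjNormal x⁻¹ q))
          rwa [mul_inv_rev, inv_inv, map_inv, MulAut.apply_inv_self] at this }
    haveI hKn : K.Normal := ⟨fun x hx g q => by
      obtain ⟨r, hr⟩ : ∃ r, r = MulAut.conjNormal g⁻¹ q := ⟨_, rfl⟩
      have hc : (frattini (pCore 2 X)).map (MulAut.conjNormal (H := pCore 2 X) g).toMonoidHom =
          frattini (pCore 2 X) := Subgroup.characteristic_iff_map_eq.1 inferInstance _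
      have h1 := hc.le ⟨_, hx r, rfl⟩
      simp only [MulEquiv.coe_toMonoidHom, map_mul, map_inv] at h1
      have h2 : MulAut.conjNormal g r = q := by
        rw [hr, map_inv, MulAut.apply_inv_self]
      rw [h2, hr] at h1
      simpa [map_mul, MulAut.mul_apply] using h1⟩
    have hKp : IsPGroup 2 K := by
      refine IsPGroup.of_card (n := (Nat.card K).primeFactorsList.length)
        (Nat.eq_prime_pow_of_unique_prime_dvd Nat.card_pos.ne' fun {r} hr hd => ?_)
      by_contra hne
      haveI : Fact r.Prime := ⟨hr⟩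
      obtain ⟨⟨k, hk⟩, hord⟩ := exists_prime_orderOf_dvd_card' r hd
      rw [Subgroup.orderOf_mk] at hord
      have hfix := Fus.fixed_of_frattini (p := 2) hQp (MulAut.conjNormal (H := pCore 2 X) k) hr hne
        (by rw [← map_pow, ← hord, pow_orderOf_eq_one, map_one]) hk
      have hkQ : k ∈ pCore 2 X := hcent k fun y hy => by
        have := congrArg Subtype.val (DFunLike.congr_fun hfix ⟨y, hy⟩)
        rw [MulAut.conjNormal_apply] at this
        exact mul_inv_eq_iff_eq_mul.1 this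
      obtain ⟨i, hi⟩ := IsPGroup.iff_orderOf.1 hQp ⟨k, hkQ⟩
      rw [Subgroup.orderOf_mk, hord] at hi
      exact hne ((Nat.prime_dvd_prime_iff_eq hr Nat.prime_two).1 (hr.dvd_of_dvd_pow (hi.dvd : r ∣ 2 ^ i)))
    refine Transfer.le_pCore hKn hKp (show a ^ 2 ∈ K from fun q => ?_)
    obtain ⟨d, hd⟩ : ∃ d, d = MulAut.conjNormal (H := pCore 2 X) a q * q⁻¹ := ⟨_, rfl⟩
    have hpg : IsPGroup 2 ↥(A ⊔ A.map (MulAut.conj (q : X)).toMonoidHom) := hQA.to_le
      (sup_le le_sup_left (by
        rintro _ ⟨x, hx, rfl⟩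
        exact mul_mem (mul_mem (Subgroup.mem_sup_right q.2) (Subgroup.mem_sup_left hx))
          (inv_mem (Subgroup.mem_sup_right q.2))))
    have hcd : Commute a (d : X) := by
      have h := Fus.TIAb.commute_conj hti hAc he hpg ha (inv_mem ha)
      rw [hd]
      simp only [Subgroup.coe_mul, Subgroup.coe_inv, MulAut.conjNormal_apply]
      rw [show a * (q : X) * a⁻¹ * (q : X)⁻¹ = a * ((q : X) * a⁻¹ * (q : X)⁻¹) by group]
      exact (Commute.refl a).mul_right h
    have hfd : MulAut.conjNormal (H := pCore 2 X) a d = d := Subtype.ext (by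
      rw [MulAut.conjNormal_apply, hcd.eq, mul_inv_cancel_right])
    have e : q⁻¹ * MulAut.conjNormal (a ^ 2) q = q⁻¹ * d ^ 2 * q := by
      rw [sq a, map_mul, MulAut.mul_apply,
        show MulAut.conjNormal a q = d * q by rw [hd, inv_mul_cancel_right], map_mul, hfd,
        show MulAut.conjNormal a q = d * q by rw [hd, inv_mul_cancel_right], sq]
      group
    rw [e]
    simpa [mul_assoc] using (inferInstance : (frattini (pCore 2 X)).Normal).conj_mem _
      (Grp.pGroup_pow_mem_frattini hQp d) q⁻¹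
  refine ⟨(Subgroup.closure_le _).2 (by rintro _ ⟨a, ha, rfl⟩; exact hsq a ha), fun hne => ?_⟩
  obtain ⟨B, hB⟩ : ∃ B, B = Subgroup.closure ((fun a : X => a ^ 2) '' (A : Set X)) := ⟨_, rfl⟩
  have hBA : B ≤ A := hB ▸ (Subgroup.closure_le _).2 (by
    rintro _ ⟨a, ha, rfl⟩; exact pow_mem ha 2)
  have hBQ : B ≤ pCore 2 X := hB ▸ (Subgroup.closure_le _).2 (by
    rintro _ ⟨a, ha, rfl⟩; exact hsq a ha)
  have hBTI : Fus.TIAb.TI B := by
    intro g
    rcases hti g with h | h
    · left
      rw [hB, MonoidHom.map_closure]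
      congr 1
      ext y
      constructor
      · rintro ⟨_, ⟨a, ha, rfl⟩, rfl⟩
        exact ⟨_, h.le ⟨a, ha, rfl⟩, (map_pow (MulAut.conj g).toMonoidHom a 2).symm⟩
      · rintro ⟨a, ha, rfl⟩
        obtain ⟨b, hb, e⟩ := h.ge ha
        exact ⟨b ^ 2, ⟨b, hb, rfl⟩, by rw [map_pow, e]⟩
    · exact Or.inr (eq_bot_iff.2 ((inf_le_inf (Subgroup.map_mono hBA) hBA).trans h.le))
  have hBc : ∀ x ∈ B, ∀ y ∈ B, Commute x y := fun x hx y hy => hAc x (hBA hx) y (hBA hy)
  have hBe : ∃ b ∈ B, b ^ 2 ≠ 1 := by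
    by_contra h
    push Not at h
    rw [← hB] at hne
    exact hne ⟨⟨⟨fun x y => Subtype.ext (hBc x x.2 y y.2).eq⟩⟩, h⟩
  have hnc : Subgroup.normalClosure ((fun a : X => a ^ 2) '' (A : Set X)) ≤ Subgroup.closure
      (Group.conjugatesOfSet ((fun a : X => a ^ 2) '' (A : Set X))) := le_rfl
  refine Subgroup.isMulCommutative_closure ?_
  intro x hx y hy
  obtain ⟨_, ⟨a, ha, rfl⟩, hxc⟩ := Group.mem_conjugatesOfSet_iff.1 hx
  obtain ⟨_, ⟨b, hb, rfl⟩, hyc⟩ := Group.mem_conjugatesOfSet_iff.1 hy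
  obtain ⟨u, rfl⟩ := isConj_iff.1 hxc
  obtain ⟨v, rfl⟩ := isConj_iff.1 hyc
  have haB : a ^ 2 ∈ B := hB ▸ Subgroup.subset_closure ⟨a, ha, rfl⟩
  have hbB : b ^ 2 ∈ B := hB ▸ Subgroup.subset_closure ⟨b, hb, rfl⟩
  have h := Fus.TIAb.commute_conj (g := u⁻¹ * v) hBTI hBc hBe (hQp.to_le (sup_le hBQ (by
    rintro _ ⟨z, hz, rfl⟩
    exact hQn.conj_mem z (hBQ hz) _))) haB hbB
  have h2 := h.map (MulAut.conj u).toMonoidHom
  simp only [MulEquiv.coe_toMonoidHom, MulAut.conj_apply] at h2
  rw [show u * (u⁻¹ * v * b ^ 2 * (u⁻¹ * v)⁻¹) * u⁻¹ = v * b ^ 2 * v⁻¹ by group] at h2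
  exact h2.eq

end Cfsg.Agent.S1783
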