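import Cfsg.Statements.S1784
import Cfsg.Agent.Lib.Fus.GfitExtra
-- import your own Cfsg.Agent.* helpers here

set_option autoImplicit false
set_option linter.style.haveILetI false
open scoped commutatorElement
open Cfsg

namespace Cfsg.Agent.S1784

/-- Let G be a finite group and let z be an involution of G such that Q, the generalized Fitting subgroup of the centralizer C of z, is a 2-group of symplectic type (every characteristic abelian subgroup of Q is cyclic); suppose Q is extraspecial, and view Q inside G. Let α be an involution of C that is not in Q, and let Q₀ be the subgroup of those q ∈ Q whose commutator with α lies in the subgroup generated by z. Then (a) the subgroup generated by the commutators α q α⁻¹ q⁻¹, q ∈ Q, equals the centre of Q₀; and (b) if Q₀ is not contained in the product of the centralizer of α in Q with the subgroup generated by z, then some element of Q conjugates α to α z. -/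
theorem result {G : Type*} [Group G] [Finite G] (z : G) (hz : orderOf z = 2) (hQ : Cfsg.IsOfSymplecticType ↥(Cfsg.generalizedFittingSubgroup ↥(Subgroup.centralizer ({z} : Set G)))) (hE : Cfsg.IsExtraspecial 2 ↥(Cfsg.generalizedFittingSubgroup ↥(Subgroup.centralizer ({z} : Set G))))
    (α : G) (hα : orderOf α = 2) (hαC : α ∈ Subgroup.centralizer ({z} : Set G)) (hαQ : α ∉ (Cfsg.generalizedFittingSubgroup ↥(Subgroup.centralizer ({z} : Set G))).map (Subgroup.centralizer ({z} : Set G)).subtype)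
    (Q₀ : Subgroup G) (hQ₀ : ∀ q : G, q ∈ Q₀ ↔ (q ∈ (Cfsg.generalizedFittingSubgroup ↥(Subgroup.centralizer ({z} : Set G))).map (Subgroup.centralizer ({z} : Set G)).subtype ∧ α * q * α⁻¹ * q⁻¹ ∈ Subgroup.zpowers z)) :
    Subgroup.closure ((fun q : G => α * q * α⁻¹ * q⁻¹) '' ((Cfsg.generalizedFittingSubgroup ↥(Subgroup.centralizer ({z} : Set G))).map (Subgroup.centralizer ({z} : Set G)).subtype : Set G)) = (Subgroup.center ↥Q₀).map Q₀.subtype ∧
      (¬ Q₀ ≤ ((Cfsg.generalizedFittingSubgroup ↥(Subgroup.centralizer ({z} : Set G))).map (Subgroup.centralizer ({z} : Set G)).subtype ⊓ Subgroup.centralizer ({α} : Set G)) ⊔ Subgroup.zpowers z →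
        ∃ q ∈ (Cfsg.generalizedFittingSubgroup ↥(Subgroup.centralizer ({z} : Set G))).map (Subgroup.centralizer ({z} : Set G)).subtype, q * α * q⁻¹ = α * z) := by
  obtain ⟨Q, hQdef⟩ : ∃ Q, Q = (Cfsg.generalizedFittingSubgroup
      ↥(Subgroup.centralizer ({z} : Set G))).map (Subgroup.centralizer ({z} : Set G)).subtype :=
    ⟨_, rfl⟩
  rw [← hQdef] at hQ₀ hαQ ⊢
  have h := Fus.ext_gfit hz hE hQdef
  have hzs : ∀ x ∈ Subgroup.zpowers z, x = 1 ∨ x = z := fun x hx => by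
    obtain ⟨k, rfl⟩ := hx
    rcases Int.even_or_odd k with ⟨j, rfl⟩ | ⟨j, rfl⟩
    · left
      show z ^ (j + j) = 1
      rw [← (Commute.refl z).mul_zpow j |>.trans (zpow_add z j j).symm, h.zz, one_zpow]
    · right
      show z ^ (2 * j + 1) = z
      rw [zpow_add, zpow_mul, zpow_two, h.zz, one_zpow, one_mul, zpow_one]
  have hαz : α * z = z * α := Subgroup.mem_centralizer_singleton_iff.1 hαC
  have hαα : α * α = 1 := by rw [← pow_two, ← hα, pow_orderOf_eq_one]
  have hαi : α⁻¹ = α := inv_eq_of_mul_eq_one_right hαα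
  have hαn : ∀ q ∈ Q, α * q * α⁻¹ ∈ Q := h.norm α hαz
  refine ⟨?_, fun hnot => ?_⟩
  swap
  · obtain ⟨q, hq, hqn⟩ := Set.not_subset.1 hnot
    obtain ⟨hqQ, hc⟩ := (hQ₀ q).1 hq
    rcases hzs _ hc with e | e
    · refine absurd (Subgroup.mem_sup_left (T := Subgroup.zpowers z) (show q ∈ Q ⊓ Subgroup.centralizer ({α} : Set G) from ⟨hqQ, Subgroup.mem_centralizer_singleton_iff.2 ?_⟩)) hqn
      exact (mul_inv_eq_iff_eq_mul.1 (mul_inv_eq_one.1 e)).symm
    · refine ⟨q, hqQ, ?_⟩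
      have e' : α * q * α⁻¹ = q * z := (mul_inv_eq_iff_eq_mul.1 e).trans (h.central q hqQ).symm
      calc q * α * q⁻¹ = q * (α * q⁻¹ * α⁻¹) * α := by group
        _ = q * (α * q * α⁻¹)⁻¹ * α := by group
        _ = q * (q * z)⁻¹ * α := by rw [e']
        _ = q * (z⁻¹ * q⁻¹) * α := by rw [mul_inv_rev]
        _ = q * z⁻¹ * q⁻¹ * α := by group
        _ = z * α := by rw [inv_eq_of_mul_eq_one_right h.zz, h.central q hqQ, mul_inv_cancel_right]
        _ = α * z := hαz.symm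
  set L := Subgroup.closure ((fun q : G => α * q * α⁻¹ * q⁻¹) '' (Q : Set G)) with hLdef
  have hgen : ∀ q ∈ Q, α * q * α⁻¹ * q⁻¹ ∈ L := fun q hq => Subgroup.subset_closure ⟨q, hq, rfl⟩
  have hLQ : L ≤ Q := (Subgroup.closure_le _).2 (by
    rintro _ ⟨q, hq, rfl⟩; exact Q.mul_mem (hαn q hq) (Q.inv_mem hq))
  -- `z` is a commutator
  have hzL : z ∈ L := by
    obtain ⟨u, hu, hne⟩ : ∃ u ∈ Q, α * u * α⁻¹ * u⁻¹ ≠ 1 := by
      by_contra hcon
      simp only [not_exists, not_and, not_not] at hcon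
      refine hαQ (h.self α fun q hq => ?_)
      exact (mul_inv_eq_iff_eq_mul.1 (mul_inv_eq_one.1 (hcon q hq))).symm
    obtain ⟨c, hcdef⟩ : ∃ c, c = α * u * α⁻¹ * u⁻¹ := ⟨_, rfl⟩
    rw [← hcdef] at hne
    have hcL : c ∈ L := hcdef ▸ hgen u hu
    by_cases hcen : ∀ q ∈ Q, q * c = c * q
    · exact ((h.cen c (hLQ hcL) hcen).resolve_left hne) ▸ hcL
    simp only [not_forall] at hcen
    obtain ⟨v, hv, hvc⟩ := hcen
    obtain ⟨-, e⟩ := (h.conj_cases (hLQ hcL) hv).resolve_left hvc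
    have hnL : v * c * v⁻¹ ∈ L := by
      have h1 : α * (v * u) * α⁻¹ * (v * u)⁻¹ = (α * v * α⁻¹ * v⁻¹) * (v * c * v⁻¹) := by
        rw [hcdef]; group
      have h2 := L.mul_mem (L.inv_mem (hgen v hv)) (hgen (v * u) (Q.mul_mem hv hu))
      rwa [h1, inv_mul_cancel_left] at h2
    rw [e] at hnL
    simpa using L.mul_mem (L.inv_mem hcL) hnL
  -- the centralizer of `L` in `Q` is `Q₀`
  have hCL : ∀ y ∈ Q, y ∈ Q₀ ↔ ∀ c ∈ L, y * c = c * y := by
    intro y hy
    have hcz : ∀ a ∈ Q, α * ⁅y, a⁆ * α⁻¹ = ⁅y, a⁆ := fun a ha => by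
      rcases h.comm y hy a ha with e | e <;> rw [e]
      · group
      · rw [hαz, mul_inv_cancel_right]
    have hbil : ∀ a ∈ Q, ⁅y, α * a * α⁻¹⁆ = ⁅α * y * α⁻¹, a⁆ := by
      intro a ha
      rw [← hcz _ (hαn a ha), commutatorElement_def, commutatorElement_def]
      have : α * (α * a * α⁻¹) * α⁻¹ = a := by rw [hαi]; simp [← mul_assoc, hαα, mul_assoc a, hαα]
      calc α * (y * (α * a * α⁻¹) * y⁻¹ * (α * a * α⁻¹)⁻¹) * α⁻¹
          = (α * y * α⁻¹) * (α * (α * a * α⁻¹) * α⁻¹) * (α * y * α⁻¹)⁻¹ *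
            (α * (α * a * α⁻¹) * α⁻¹)⁻¹ := by group
        _ = _ := by rw [this]
    have hstep : ∀ a ∈ Q, (y * (α * a * α⁻¹ * a⁻¹) = (α * a * α⁻¹ * a⁻¹) * y ↔
        (α * y * α⁻¹ * y⁻¹) * a = a * (α * y * α⁻¹ * y⁻¹)) := by
      intro a ha
      have hA := hαn a ha
      have hY := hαn y hy
      have e1 : ⁅y, α * a * α⁻¹ * a⁻¹⁆ = ⁅y, α * a * α⁻¹⁆ * ⁅y, a⁆⁻¹ := by
        have hz' : ∀ b, b ∈ Q → ⁅y, a⁆ * b = b * ⁅y, a⁆ := fun b hb => by
          rcases h.comm y hy a ha with e | e <;> rw [e]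
          · simp
          · exact (h.central b hb).symm
        calc ⁅y, α * a * α⁻¹ * a⁻¹⁆
            = ⁅y, α * a * α⁻¹⁆ * ((α * a * α⁻¹) * (a⁻¹ * ⁅y, a⁆⁻¹ * a) * (α * a * α⁻¹)⁻¹) := by
              simp only [commutatorElement_def]; group
          _ = ⁅y, α * a * α⁻¹⁆ * ((α * a * α⁻¹) * (⁅y, a⁆⁻¹) * (α * a * α⁻¹)⁻¹) := by
              rw [(Commute.inv_left (hz' a ha : Commute ⁅y, a⁆ a)).symm.inv_left.eq, inv_mul_cancel_right]
          _ = _ := by
              rw [((Commute.inv_left (hz' _ hA : Commute ⁅y, a⁆ _))).symm.eq, mul_inv_cancel_right]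
      have e2 : ⁅α * y * α⁻¹ * y⁻¹, a⁆ = ⁅α * y * α⁻¹, a⁆ * ⁅y, a⁆⁻¹ := by
        have hz' : ∀ b, b ∈ Q → ⁅y, a⁆ * b = b * ⁅y, a⁆ := fun b hb => by
          rcases h.comm y hy a ha with e | e <;> rw [e]
          · simp
          · exact (h.central b hb).symm
        have hz'' : ∀ b, b ∈ Q → ⁅α * y * α⁻¹, a⁆ * b = b * ⁅α * y * α⁻¹, a⁆ := fun b hb => by
          rcases h.comm _ hY a ha with e | e <;> rw [e]
          · simp
          · exact (h.central b hb).symm
        have hinv : y⁻¹ * ⁅y, a⁆⁻¹ * y = ⁅y⁻¹, a⁆ := by simp only [commutatorElement_def]; group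
        have hinv' : ⁅y⁻¹, a⁆ = ⁅y, a⁆⁻¹ := by
          rw [← hinv, (Commute.inv_left (hz' y hy : Commute ⁅y, a⁆ y)).symm.inv_left.eq, inv_mul_cancel_right]
        calc ⁅α * y * α⁻¹ * y⁻¹, a⁆ = (α * y * α⁻¹) * ⁅y⁻¹, a⁆ * (α * y * α⁻¹)⁻¹ * ⁅α * y * α⁻¹, a⁆ := by
              simp only [commutatorElement_def]; group
          _ = ⁅y, a⁆⁻¹ * ⁅α * y * α⁻¹, a⁆ := by
              rw [hinv', ((Commute.inv_left (hz' _ hY : Commute ⁅y, a⁆ _))).symm.eq, mul_inv_cancel_right]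
          _ = _ := (Commute.inv_left (hz' _ (Q.mul_mem (Q.mul_mem (Q.mul_mem hY ha) (Q.inv_mem hY)) (Q.inv_mem ha)) : Commute ⁅y, a⁆ ⁅α * y * α⁻¹, a⁆)).eq
      rw [← commutatorElement_eq_one_iff_mul_comm, ← commutatorElement_eq_one_iff_mul_comm, e1, e2,
        hbil a ha]
    constructor
    · intro hy0
      have hd := ((hQ₀ y).1 hy0).2
      suffices L ≤ Subgroup.centralizer {y} from fun c hc =>
        (Subgroup.mem_centralizer_singleton_iff.1 (this hc)).symm
      refine (Subgroup.closure_le _).2 ?_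
      rintro _ ⟨a, ha, rfl⟩
      refine Subgroup.mem_centralizer_singleton_iff.2 ((hstep a ha).2 ?_).symm
      rcases hzs _ hd with e | e <;> rw [e]
      · simp
      · exact (h.central a ha).symm
    · intro hc
      refine (hQ₀ y).2 ⟨hy, ?_⟩
      rcases h.cen _ (Q.mul_mem (hαn y hy) (Q.inv_mem hy)) (fun a ha =>
        ((hstep a ha).1 (hc _ (hgen a ha))).symm) with e | e <;> rw [e]
      · exact one_mem _
      · exact Subgroup.mem_zpowers z
  -- `L` is contained in `Q₀`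
  have hL0 : L ≤ Q₀ := by
    refine (Subgroup.closure_le _).2 ?_
    rintro _ ⟨a, ha, rfl⟩
    obtain ⟨c, hc⟩ : ∃ c, c = α * a * α⁻¹ * a⁻¹ := ⟨_, rfl⟩
    have hcQ : c ∈ Q := hc ▸ Q.mul_mem (hαn a ha) (Q.inv_mem ha)
    show α * a * α⁻¹ * a⁻¹ ∈ Q₀
    rw [← hc]
    refine (hQ₀ c).2 ⟨hcQ, ?_⟩
    have h1 : α * c * α⁻¹ = c⁻¹ := by
      have h2 : α * (α * a * α⁻¹) * α⁻¹ = a := by rw [hαi]; simp [← mul_assoc, hαα, mul_assoc a, hαα]
      calc α * c * α⁻¹ = (α * (α * a * α⁻¹) * α⁻¹) * (α * a * α⁻¹)⁻¹ := by rw [hc]; group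
        _ = a * (α * a * α⁻¹)⁻¹ := by rw [h2]
        _ = c⁻¹ := by rw [hc]; group
    rw [h1, ← mul_inv_rev]
    refine Subgroup.inv_mem _ ?_
    rcases h.sq c hcQ with e | e <;> rw [e]
    · exact one_mem _
    · exact Subgroup.mem_zpowers z
  apply le_antisymm
  · intro c hc
    refine ⟨⟨c, hL0 hc⟩, Subgroup.mem_center_iff.2 fun q => Subtype.ext ?_, rfl⟩
    exact (hCL q ((hQ₀ q).1 q.2).1).1 q.2 c hc
  · rintro _ ⟨x, hx, rfl⟩
    classical
    have hxQ : (x : G) ∈ Q := ((hQ₀ x).1 x.2).1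
    let T : Finset G := (Set.toFinite (L : Set G)).toFinset
    have hT : (T : Set G) = L := Set.Finite.coe_toFinset _
    have := h.double_centralizer T (fun s hs => hLQ (by rw [← Finset.mem_coe, hT] at hs; exact hs)) x hxQ
      (fun y hy hys => by
        have hy0 : y ∈ Q₀ := (hCL y hy).2 fun c hc => hys c (by rw [← Finset.mem_coe, hT]; exact hc)
        exact congrArg Subtype.val (Subgroup.mem_center_iff.1 hx ⟨y, hy0⟩))
    rw [hT] at this
    refine (Subgroup.closure_le L).2 ?_ this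
    exact Set.insert_subset hzL subset_rfl

end Cfsg.Agent.S1784
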