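import Cfsg.Statements.S1785
import Cfsg.Agent.Lib.Fus.ElemChain
-- import your own Cfsg.Agent.* helpers here

set_option autoImplicit false
open Cfsg

namespace Cfsg.Agent.S1785

open scoped commutatorElement Pointwise

/-- Let X be a finite 2-group having a normal elementary abelian subgroup of order at least 32. Then (a) for any two elementary abelian subgroups A, B of X of order 8 there is a chain A = A₁, A₂, …, Aₙ = B of elementary abelian subgroups of order 8 in which consecutive members commute elementwise; and (b) every elementary abelian subgroup of X of order 4 is contained in an elementary abelian subgroup of order 8. -/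
theorem result {X : Type*} [Group X] [Finite X]
    (hX : IsPGroup 2 X) (E : Subgroup X) [E.Normal] (hE : Cfsg.IsElementaryAbelian 2 E) (hE32 : 32 ≤ Nat.card ↥E) :
    (∀ A B : Subgroup X, Cfsg.IsElementaryAbelian 2 A → Nat.card ↥A = 8 → Cfsg.IsElementaryAbelian 2 B → Nat.card ↥B = 8 →
        Relation.ReflTransGen
          (fun C D : Subgroup X => Cfsg.IsElementaryAbelian 2 C ∧ Nat.card ↥C = 8 ∧ Cfsg.IsElementaryAbelian 2 D ∧ Nat.card ↥D = 8 ∧ ⁅C, D⁆ = ⊥)
          A B) ∧
      (∀ V : Subgroup X, Cfsg.IsElementaryAbelian 2 V → Nat.card ↥V = 4 →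
        ∃ A : Subgroup X, V ≤ A ∧ Cfsg.IsElementaryAbelian 2 A ∧ Nat.card ↥A = 8) := by
  classical
  have hEne : E ≠ ⊥ := fun h => by rw [h, Subgroup.card_bot] at hE32; omega
  obtain ⟨z, hzE, hz1, hz⟩ := Cfsg.Agent.Fus.exists_central_involution hX hE hEne
  have hN : ∀ u : X, u ∈ Subgroup.normalizer (E : Set X) := fun u => by
    rw [Subgroup.normalizer_eq_top]; trivial
  have hpow : ∀ (U : Subgroup X) (m : ℕ), 2 ^ m < 2 * Nat.card U → 2 ^ m ≤ Nat.card U := by
    intro U m h
    obtain ⟨k, hk⟩ := (hX.to_subgroup U).exists_card_eq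
    rw [hk, ← pow_succ', Nat.pow_lt_pow_iff_right one_lt_two] at h
    exact hk ▸ Nat.pow_le_pow_right two_pos (by omega)
  -- two steps of the centralizer bound
  have hcu : ∀ u : X, u ^ 2 = 1 → 8 ≤ Nat.card ↥(E ⊓ Subgroup.centralizer {u}) := by
    intro u hu
    have h := Cfsg.Agent.Fus.card_le_centralizer_sq hE hu (hN u)
    exact hpow _ 3 (by nlinarith)
  have hcV : ∀ u v : X, u ^ 2 = 1 → v ^ 2 = 1 → u * v = v * u →
      4 ≤ Nat.card ↥(E ⊓ Subgroup.centralizer {u} ⊓ Subgroup.centralizer {v}) := by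
    intro u v hu hv huv
    have hvN : v ∈ Subgroup.normalizer ((E ⊓ Subgroup.centralizer {u} : Subgroup X) : Set X) := by
      have hvC : v ∈ Subgroup.centralizer {u} := Subgroup.mem_centralizer_singleton_iff.2 huv.symm
      refine Subgroup.mem_normalizer_iff.2 fun n => ?_
      constructor
      · rintro ⟨h1, h2⟩
        exact ⟨(Subgroup.mem_normalizer_iff.1 (hN v) n).1 h1, Subgroup.mul_mem _ (Subgroup.mul_mem _ hvC h2) (Subgroup.inv_mem _ hvC)⟩
      · rintro ⟨h1, h2⟩
        refine ⟨(Subgroup.mem_normalizer_iff.1 (hN v) n).2 h1, ?_⟩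
        simpa [mul_assoc] using Subgroup.mul_mem _ (Subgroup.mul_mem _ (Subgroup.inv_mem _ hvC) h2) hvC
    have h := Cfsg.Agent.Fus.card_le_centralizer_sq
      (Cfsg.Agent.Fus.isElementaryAbelian_mono hE inf_le_left) hv hvN
    have := hcu u hu
    exact hpow _ 2 (by nlinarith)
  have hzpc : ∀ u : X, u ^ 2 = 1 → Nat.card (Subgroup.zpowers u) ≤ 2 := fun u hu => by
    rw [Nat.card_zpowers]; exact Nat.le_of_dvd two_pos (orderOf_dvd_of_pow_eq_one hu)
  have hgen : ∀ V : Subgroup X, IsElementaryAbelian 2 V → ∀ u v : X,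
      V ≤ Subgroup.zpowers u ⊔ Subgroup.zpowers v → ∀ c ∈ Subgroup.centralizer {u} ⊓
        Subgroup.centralizer {v}, ∀ a ∈ V, a * c = c * a := by
    intro V _ u v hV c hc a ha
    have hle : Subgroup.zpowers u ⊔ Subgroup.zpowers v ≤ Subgroup.centralizer {c} := sup_le
      (Subgroup.zpowers_le.2 (Subgroup.mem_centralizer_singleton_iff.2
        (Subgroup.mem_centralizer_singleton_iff.1 hc.1).symm))
      (Subgroup.zpowers_le.2 (Subgroup.mem_centralizer_singleton_iff.2
        (Subgroup.mem_centralizer_singleton_iff.1 hc.2).symm))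
    exact Subgroup.mem_centralizer_singleton_iff.1 (hle (hV ha))
  have hlift : ∀ V : Subgroup X, IsElementaryAbelian 2 V → Nat.card V = 4 →
      ∀ u ∈ V, ∀ v ∈ V, V ≤ Subgroup.zpowers u ⊔ Subgroup.zpowers v →
      IsElementaryAbelian 2 (V ⊔ (E ⊓ Subgroup.centralizer {u} ⊓ Subgroup.centralizer {v})) ∧
      8 ≤ Nat.card ↥(V ⊔ (E ⊓ Subgroup.centralizer {u} ⊓ Subgroup.centralizer {v})) := by
    intro V hV hV4 u hu v hv hle
    refine ⟨Cfsg.Agent.Fus.isElementaryAbelian_sup hV
      (Cfsg.Agent.Fus.isElementaryAbelian_mono hE (inf_le_left.trans inf_le_left))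
      fun a ha c hc => hgen V hV u v hle c ⟨hc.1.2, hc.2⟩ a ha, ?_⟩
    by_cases hsub : E ⊓ Subgroup.centralizer {u} ⊓ Subgroup.centralizer {v} ≤ V
    · have hc4 := hcV u v (hV.2 u hu) (hV.2 v hv)
        (Cfsg.Agent.Fus.IsElementaryAbelian.commute hV hu hv)
      have heq := Subgroup.eq_of_le_of_card_ge hsub (hV4 ▸ hc4)
      have hVE : V ≤ E := heq ▸ inf_le_left.trans inf_le_left
      have hE' : E ≤ E ⊓ Subgroup.centralizer {u} ⊓ Subgroup.centralizer {v} := fun e he =>
        ⟨⟨he, Subgroup.mem_centralizer_singleton_iff.2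
          (Cfsg.Agent.Fus.IsElementaryAbelian.commute hE he (hVE hu))⟩,
          Subgroup.mem_centralizer_singleton_iff.2
            (Cfsg.Agent.Fus.IsElementaryAbelian.commute hE he (hVE hv))⟩
      have := Subgroup.card_le_of_le (hE'.trans heq.le)
      omega
    · have hlt : V < V ⊔ (E ⊓ Subgroup.centralizer {u} ⊓ Subgroup.centralizer {v}) :=
        left_lt_sup.2 hsub
      refine hpow _ 3 ?_
      have h1 := Set.ncard_lt_ncard (SetLike.coe_ssubset_coe.2 hlt) (Set.toFinite _)
      rw [← Nat.card_coe_set_eq, ← Nat.card_coe_set_eq, SetLike.coe_sort_coe,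
        SetLike.coe_sort_coe, hV4] at h1
      omega
  have hpair : ∀ V : Subgroup X, IsElementaryAbelian 2 V → Nat.card V = 4 →
      ∀ u ∈ V, u ≠ 1 → ∃ v ∈ V, V ≤ Subgroup.zpowers u ⊔ Subgroup.zpowers v := by
    intro V hV hV4 u hu hu1
    have h2 := hzpc u (hV.2 u hu)
    obtain ⟨v, hv, hvu⟩ := Cfsg.Agent.Fus.exists_mem_notMem (A := V)
      (W := Subgroup.zpowers u) (by omega)
    refine ⟨v, hv, (Subgroup.eq_of_le_of_card_ge (sup_le (Subgroup.zpowers_le.2 hu)
      (Subgroup.zpowers_le.2 hv)) ?_).ge⟩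
    have hlt : Subgroup.zpowers u < Subgroup.zpowers u ⊔ Subgroup.zpowers v :=
      left_lt_sup.2 fun h => hvu (h (Subgroup.mem_zpowers v))
    rw [hV4]
    refine hpow _ 2 ?_
    have h1 := Set.ncard_lt_ncard (SetLike.coe_ssubset_coe.2 hlt) (Set.toFinite _)
    rw [← Nat.card_coe_set_eq, ← Nat.card_coe_set_eq, SetLike.coe_sort_coe,
      SetLike.coe_sort_coe, Nat.card_zpowers, orderOf_eq_prime (hV.2 u hu) hu1] at h1
    omega
  refine ⟨fun A B hA hA8 hB hB8 => ?_, fun V hV hV4 => ?_⟩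
  rotate_left
  · obtain ⟨u, hu, hu1⟩ : ∃ u ∈ V, u ≠ 1 := by
      obtain ⟨u, hu, hu1⟩ := Cfsg.Agent.Fus.exists_mem_notMem (A := V) (W := (⊥ : Subgroup X))
        (by rw [Subgroup.card_bot, hV4]; omega)
      exact ⟨u, hu, fun h => hu1 (h ▸ one_mem _)⟩
    obtain ⟨v, hv, hle⟩ := hpair V hV hV4 u hu hu1
    obtain ⟨hel, h8⟩ := hlift V hV hV4 u hu v hv hle
    obtain ⟨A, hVA, hAD, hA8⟩ := Cfsg.Agent.Fus.exists_le_card hX (m := 3)
      (le_sup_left : V ≤ V ⊔ (E ⊓ Subgroup.centralizer {u} ⊓ Subgroup.centralizer {v}))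
      (by omega) h8
    exact ⟨A, hVA, Cfsg.Agent.Fus.isElementaryAbelian_mono hel hAD, hA8⟩
  · let R : Subgroup X → Subgroup X → Prop := fun C D => IsElementaryAbelian 2 C ∧
      Nat.card C = 8 ∧ IsElementaryAbelian 2 D ∧ Nat.card D = 8 ∧ ⁅C, D⁆ = ⊥
    have hin : ∀ {C D K : Subgroup X}, IsElementaryAbelian 2 K → C ≤ K → D ≤ K →
        Nat.card C = 8 → Nat.card D = 8 → R C D := fun {C D K} hK hC hD c8 d8 =>
      ⟨Cfsg.Agent.Fus.isElementaryAbelian_mono hK hC, c8,
        Cfsg.Agent.Fus.isElementaryAbelian_mono hK hD, d8,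
        Cfsg.Agent.Fus.commutator_eq_bot_of_le hK hC hD⟩
    have step : ∀ A : Subgroup X, IsElementaryAbelian 2 A → Nat.card A = 8 →
        ∃ W, W ≤ E ∧ Nat.card W = 8 ∧ Relation.ReflTransGen R A W := by
      intro A hA hA8
      have hz2 := hzpc z (hz 1).2
      obtain ⟨a, ha, haz⟩ := Cfsg.Agent.Fus.exists_mem_notMem (A := A)
        (W := Subgroup.zpowers z) (by omega)
      have hsupA : IsElementaryAbelian 2 (Subgroup.zpowers a ⊔ Subgroup.zpowers z) := by
        refine Cfsg.Agent.Fus.isElementaryAbelian_sup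
          (Cfsg.Agent.Fus.isElementaryAbelian_zpowers (hA.2 a ha))
          (Cfsg.Agent.Fus.isElementaryAbelian_zpowers (hz 1).2) ?_
        rintro _ ⟨i, rfl⟩ _ ⟨j, rfl⟩
        exact (Commute.zpow_zpow (show Commute a z from (hz a).1) i j).eq
      have hAz4 : Nat.card ↥(Subgroup.zpowers a ⊔ Subgroup.zpowers z) ≤ 4 :=
        Cfsg.Agent.Fus.card_zpowers_sup_le (hz a).1 (hA.2 a ha) (hz 1).2
      obtain ⟨b, hb, hbaz⟩ := Cfsg.Agent.Fus.exists_mem_notMem (A := A)
        (W := Subgroup.zpowers a ⊔ Subgroup.zpowers z) (by omega)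
      have hab := Cfsg.Agent.Fus.IsElementaryAbelian.commute hA ha hb
      set V := Subgroup.zpowers a ⊔ Subgroup.zpowers b with hVdef
      have hV : IsElementaryAbelian 2 V := Cfsg.Agent.Fus.isElementaryAbelian_mono hA
        (sup_le (Subgroup.zpowers_le.2 ha) (Subgroup.zpowers_le.2 hb))
      have ha1 : a ≠ 1 := fun h => haz (h ▸ one_mem _)
      have hzV : z ∉ V := by
        intro hzV
        have hsub : Subgroup.zpowers a ⊔ Subgroup.zpowers z ≤ V :=
          sup_le le_sup_left (Subgroup.zpowers_le.2 hzV)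
        have hlt2 : Subgroup.zpowers a ⊔ Subgroup.zpowers z < V := lt_of_le_of_ne hsub
          fun h => hbaz (h.ge (Subgroup.mem_sup_right (Subgroup.mem_zpowers b)))
        have hlt1 : Subgroup.zpowers z < Subgroup.zpowers a ⊔ Subgroup.zpowers z :=
          right_lt_sup.2 fun h => haz (h (Subgroup.mem_zpowers a))
        have h1 := Set.ncard_lt_ncard (SetLike.coe_ssubset_coe.2 hlt1) (Set.toFinite _)
        have h2 := Set.ncard_lt_ncard (SetLike.coe_ssubset_coe.2 hlt2) (Set.toFinite _)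
        rw [← Nat.card_coe_set_eq, ← Nat.card_coe_set_eq, SetLike.coe_sort_coe,
          SetLike.coe_sort_coe] at h1 h2
        rw [Nat.card_zpowers, orderOf_eq_prime (hz 1).2 hz1] at h1
        have hmul : Nat.card V ≤ 4 :=
          Cfsg.Agent.Fus.card_zpowers_sup_le hab (hA.2 a ha) (hA.2 b hb)
        have h4 := hpow (Subgroup.zpowers a ⊔ Subgroup.zpowers z) 2 (by omega)
        omega
      have hV4 : Nat.card V = 4 := by
        refine le_antisymm ?_ ?_
        · exact Cfsg.Agent.Fus.card_zpowers_sup_le hab (hA.2 a ha) (hA.2 b hb)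
        · have hlt : Subgroup.zpowers a < V := left_lt_sup.2 fun h =>
            hbaz (Subgroup.mem_sup_left (h (Subgroup.mem_zpowers b)))
          refine hpow _ 2 ?_
          have h1 := Set.ncard_lt_ncard (SetLike.coe_ssubset_coe.2 hlt) (Set.toFinite _)
          rw [← Nat.card_coe_set_eq, ← Nat.card_coe_set_eq, SetLike.coe_sort_coe,
            SetLike.coe_sort_coe, Nat.card_zpowers, orderOf_eq_prime (hA.2 a ha) ha1] at h1
          omega
      obtain ⟨hD, hD8⟩ := hlift V hV hV4 a (Subgroup.mem_sup_left (Subgroup.mem_zpowers a))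
        b (Subgroup.mem_sup_right (Subgroup.mem_zpowers b)) le_rfl
      set C := E ⊓ Subgroup.centralizer {a} ⊓ Subgroup.centralizer {b} with hC
      have hzC : z ∈ C := ⟨⟨hzE, Subgroup.mem_centralizer_singleton_iff.2 (hz a).1.symm⟩,
        Subgroup.mem_centralizer_singleton_iff.2 (hz b).1.symm⟩
      -- first a subgroup containing `V` and `z`
      have hAz : IsElementaryAbelian 2 (A ⊔ Subgroup.zpowers z) := by
        refine Cfsg.Agent.Fus.isElementaryAbelian_sup hA
          (Cfsg.Agent.Fus.isElementaryAbelian_zpowers (hz 1).2) ?_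
        rintro x hx _ ⟨j, rfl⟩
        exact ((show Commute x z from (hz x).1).zpow_right j).eq
      have hVz : 8 ≤ Nat.card ↥(V ⊔ Subgroup.zpowers z) := by
        refine hpow _ 3 ?_
        have hlt : V < V ⊔ Subgroup.zpowers z :=
          left_lt_sup.2 fun h => hzV (h (Subgroup.mem_zpowers z))
        have h1 := Set.ncard_lt_ncard (SetLike.coe_ssubset_coe.2 hlt) (Set.toFinite _)
        rw [← Nat.card_coe_set_eq, ← Nat.card_coe_set_eq, SetLike.coe_sort_coe,
          SetLike.coe_sort_coe, hV4] at h1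
        omega
      obtain ⟨B1, -, hB1, hB18⟩ := Cfsg.Agent.Fus.exists_le_card hX (m := 3)
        (le_sup_left : V ≤ V ⊔ Subgroup.zpowers z) (by omega) hVz
      have h1 : R A B1 := hin hAz le_sup_left (hB1.trans (sup_le
        ((sup_le (Subgroup.zpowers_le.2 ha) (Subgroup.zpowers_le.2 hb)).trans le_sup_left)
        le_sup_right)) hA8 hB18
      have hB1D : B1 ≤ V ⊔ C :=
        hB1.trans (sup_le le_sup_left ((Subgroup.zpowers_le.2 hzC).trans le_sup_right))
      by_cases hVE : V ≤ E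
      · exact ⟨B1, hB1.trans (sup_le hVE (Subgroup.zpowers_le.2 hzE)), hB18,
          Relation.ReflTransGen.single h1⟩
      obtain ⟨u, huV, huE⟩ := SetLike.not_le_iff_exists.1 hVE
      have hu2 := hV.2 u huV
      have hU : 8 ≤ Nat.card ↥(Subgroup.zpowers u ⊔ C) := by
        refine hpow _ 3 ?_
        have hlt : C < Subgroup.zpowers u ⊔ C := right_lt_sup.2 fun h =>
          huE (h (Subgroup.mem_zpowers u)).1.1
        have h1 := Set.ncard_lt_ncard (SetLike.coe_ssubset_coe.2 hlt) (Set.toFinite _)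
        rw [← Nat.card_coe_set_eq, ← Nat.card_coe_set_eq, SetLike.coe_sort_coe,
          SetLike.coe_sort_coe] at h1
        have := hcV a b (hA.2 a ha) (hA.2 b hb) hab
        rw [← hC] at this
        omega
      have hu2c := hzpc u hu2
      obtain ⟨B2, -, hB2, hB28⟩ := Cfsg.Agent.Fus.exists_le_card hX (m := 3)
        (le_sup_left : Subgroup.zpowers u ≤ Subgroup.zpowers u ⊔ C) (by omega) hU
      have h2 : R B1 B2 := hin hD hB1D (hB2.trans (sup_le
        ((Subgroup.zpowers_le.2 huV).trans le_sup_left) le_sup_right)) hB18 hB28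
      obtain ⟨W, -, hW, hW8⟩ := Cfsg.Agent.Fus.exists_le_card hX (m := 3)
        (bot_le : (⊥ : Subgroup X) ≤ E ⊓ Subgroup.centralizer {u}) (by simp) (hcu u hu2)
      have hK : IsElementaryAbelian 2 (Subgroup.zpowers u ⊔ (E ⊓ Subgroup.centralizer {u})) := by
        refine Cfsg.Agent.Fus.isElementaryAbelian_sup
          (Cfsg.Agent.Fus.isElementaryAbelian_zpowers hu2)
          (Cfsg.Agent.Fus.isElementaryAbelian_mono hE inf_le_left) ?_
        rintro _ ⟨i, rfl⟩ c hc
        exact ((show Commute u c from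
          (Subgroup.mem_centralizer_singleton_iff.1 hc.2).symm).zpow_left i).eq
      have hCu : C ≤ E ⊓ Subgroup.centralizer {u} := fun c hc => ⟨hc.1.1,
        Subgroup.mem_centralizer_singleton_iff.2
          (hgen V hV a b le_rfl c ⟨hc.1.2, hc.2⟩ u huV).symm⟩
      have h3 : R B2 W := hin hK (hB2.trans (sup_le_sup_left hCu _)) (hW.trans le_sup_right)
        hB28 hW8
      exact ⟨W, hW.trans inf_le_left, hW8,
        ((Relation.ReflTransGen.single h1).tail h2).tail h3⟩
    obtain ⟨W, hWE, hW8, hAW⟩ := step A hA hA8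
    obtain ⟨W', hW'E, hW'8, hBW'⟩ := step B hB hB8
    refine (hAW.tail (hin hE hWE hW'E hW8 hW'8)).trans ?_
    clear hAW hW'E hW'8
    induction hBW' with
    | refl => exact Relation.ReflTransGen.refl
    | tail _ hbc ih =>
      refine (Relation.ReflTransGen.single ⟨hbc.2.2.1, hbc.2.2.2.1, hbc.1, hbc.2.1, ?_⟩).trans ih
      rw [Subgroup.commutator_comm]; exact hbc.2.2.2.2

end Cfsg.Agent.S1785
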