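import Cfsg.Statements.S1786
import Cfsg.Agent.Lib.Fus.TISymplecticSL
import Cfsg.Agent.Lib.Grp.Components
import Cfsg.Agent.Lib.Grp.Frattini
-- import your own Cfsg.Agent.* helpers here

set_option autoImplicit false
open Cfsg

open scoped commutatorElement

namespace Cfsg.Agent.S1786

/-- Let G be a finite group, V an elementary abelian 2-subgroup of G and M the normalizer of V; write Q for the largest normal 2-subgroup of M. Suppose (1) the generalized Fitting subgroup of M equals Q; (2) V is a maximal abelian normal subgroup of M; (3) every conjugate of V equals V or meets V trivially, and for some g ∈ G the conjugate V' = g V g⁻¹ is different from V and contained in Q. Let P be the centralizer of V in Q, W the subgroup generated by V and V', and H the subgroup generated by P and g P g⁻¹. Then: (a) V is contained in g Q g⁻¹; (b) every non-identity element of W lies in exactly one conjugate of V contained in W, H normalizes W, and H modulo the centralizer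 of W in H is isomorphic to the special linear group of dimension 2 over the field with |V| elements; (c) P = Q, and V equals the Frattini subgroup, the centre and the commutator subgroup of Q. -/
theorem result {G : Type*} [Group G] [Finite G] (V : Subgroup G)
    (hV : Cfsg.IsElementaryAbelian 2 V)
    (h1 : (Cfsg.generalizedFittingSubgroup ↥(Subgroup.normalizer (V : Set G))).map (Subgroup.normalizer (V : Set G)).subtype =
      (Cfsg.pCore 2 ↥(Subgroup.normalizer (V : Set G))).map (Subgroup.normalizer (V : Set G)).subtype)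
    (h2 : ∀ A : Subgroup G, V ≤ A → A ≤ Subgroup.normalizer (V : Set G) → IsMulCommutative ↥A →
      (∀ m ∈ Subgroup.normalizer (V : Set G), ∀ a ∈ A, m * a * m⁻¹ ∈ A) → A = V)
    (hti : ∀ x : G, V.map (MulAut.conj x).toMonoidHom = V ∨ V.map (MulAut.conj x).toMonoidHom ⊓ V = ⊥)
    (g : G) (hg : V.map (MulAut.conj g).toMonoidHom ≠ V)
    (hgQ : V.map (MulAut.conj g).toMonoidHom ≤ (Cfsg.pCore 2 ↥(Subgroup.normalizer (V : Set G))).map (Subgroup.normalizer (V : Set G)).subtype) :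
    let Q : Subgroup G := (Cfsg.pCore 2 ↥(Subgroup.normalizer (V : Set G))).map (Subgroup.normalizer (V : Set G)).subtype
    let P : Subgroup G := Q ⊓ Subgroup.centralizer (V : Set G)
    let W : Subgroup G := V ⊔ V.map (MulAut.conj g).toMonoidHom
    let H : Subgroup G := P ⊔ P.map (MulAut.conj g).toMonoidHom
    V ≤ Q.map (MulAut.conj g).toMonoidHom ∧
      (∀ w ∈ W, w ≠ 1 → ∃! U : Subgroup G, (∃ x : G, U = V.map (MulAut.conj x).toMonoidHom) ∧ U ≤ W ∧ w ∈ U) ∧
      H ≤ Subgroup.normalizer (W : Set G) ∧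
      (∀ hN : ((Subgroup.centralizer (W : Set G)).subgroupOf H).Normal, ∃ (F : Type) (_ : Field F) (_ : Fintype F), Fintype.card F = Nat.card ↥V ∧
        Nonempty (↥H ⧸ (Subgroup.centralizer (W : Set G)).subgroupOf H ≃* Matrix.SpecialLinearGroup (Fin 2) F)) ∧
      P = Q ∧ (frattini ↥Q).map Q.subtype = V ∧ (Subgroup.center ↥Q).map Q.subtype = V ∧ (commutator ↥Q).map Q.subtype = V := by
  intro Q P W H
  have hQ : Q = Fus.TISym.Qv V := rfl
  have hP : P = Fus.TISym.Pv V := rfl
  have hh : Fus.TISym.Hyp V := by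
    refine ⟨fun v hv => ?_, fun m hm hq => ?_, fun A hVA hAM hAc hAn => ?_, hti⟩
    · rw [← pow_two]; exact hV.2 v hv
    · have e := Subgroup.map_injective Subtype.val_injective h1
      have hc := Grp.centralizer_gfitting_le (G := ↥(Subgroup.normalizer (V : Set G)))
        (show (⟨m, hm⟩ : ↥(Subgroup.normalizer (V : Set G))) ∈ Subgroup.centralizer _ from
          Subgroup.mem_centralizer_iff.2 fun q hq' => Subtype.ext
            (hq (q : G) ⟨q, e.le hq', rfl⟩).eq.symm)
      exact ⟨⟨m, hm⟩, e.le hc, rfl⟩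
    · exact h2 A hVA hAM ⟨⟨fun a b => Subtype.ext (hAc a a.2 b b.2).eq⟩⟩ hAn
  obtain ⟨U₂, hp⟩ := hh.exists_pair (U := Fus.TISym.cj V g) ⟨g, rfl⟩
    (hh.le_Pv_of_le_Qv hgQ) hg
  have hPg : P.map (MulAut.conj g).toMonoidHom = Fus.TISym.Pv (Fus.TISym.cj V g) :=
    (Fus.TISym.Pv_cj V g).symm
  have hW : W = Fus.TISym.cj V g ⊔ V := sup_comm _ _
  have hH : H = Fus.TISym.Pv V ⊔ Fus.TISym.Pv (Fus.TISym.cj V g) := by
    show P ⊔ P.map _ = _
    rw [hPg, hP]
  obtain ⟨F, instF, instT, A, B, C, c⟩ := hp.exists_coords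
  have hPQ : P = Q := by
    refine le_antisymm inf_le_left fun q hq => Subgroup.mem_inf.2
      ⟨hq, Subgroup.mem_centralizer_iff.2 fun v hv => ?_⟩
    -- some element of `V` is central in `Q`
    obtain ⟨x₀, hx₀, hfix⟩ : ∃ x₀ : F, x₀ ≠ 0 ∧ ∀ q ∈ Q, Commute q (C x₀) := by
      haveI : Fact (Nat.Prime 2) := ⟨Nat.prime_two⟩
      haveI hn : (V.subgroupOf Q).Normal :=
        Subgroup.normal_subgroupOf_of_le_normalizer (Fus.TISym.Qv_le V)
      haveI : Group.IsNilpotent Q := (Fus.TISym.isPGroup_Qv V).isNilpotent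
      have hne : V.subgroupOf Q ≠ ⊥ := fun e => by
        have h1 : C 1 ∈ Q := Subgroup.mem_inf.1 (hh.le_Pv (c.C_mem 1)) |>.1
        have : (⟨C 1, h1⟩ : Q) ∈ V.subgroupOf Q := Subgroup.mem_subgroupOf.2 (c.C_mem 1)
        rw [e, Subgroup.mem_bot, Subtype.ext_iff] at this
        exact one_ne_zero (c.C_inj (this.trans c.C_zero.symm))
      obtain ⟨⟨w, hwQ⟩, ⟨hwV, hwc⟩, hw1⟩ := (Subgroup.bot_or_exists_ne_one _).resolve_left
        (Grp.inf_center_ne_bot (V.subgroupOf Q) hne)
      obtain ⟨x₀, rfl⟩ := c.C_surj w (Subgroup.mem_subgroupOf.1 hwV)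
      exact ⟨x₀, fun h => hw1 (Subtype.ext (by show C x₀ = 1; rw [h, c.C_zero])), fun q hq =>
        congrArg Subtype.val (Subgroup.mem_center_iff.1 hwc ⟨q, hq⟩)⟩
    obtain ⟨y, rfl⟩ := c.C_surj v hv
    by_cases hy : y = 0
    · simp [hy, c.C_zero]
    obtain ⟨d, hd⟩ := c.exists_torus hp (div_ne_zero hy hx₀ : y / x₀ ≠ 0)
    have hdV : d ∈ Subgroup.normalizer (V : Set G) := by
      refine Fus.TISym.mem_normalizer_of_cj (Subgroup.eq_of_le_of_card_ge ?_
        (Fus.TISym.card_cj V d).ge)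
      rintro _ ⟨w, hw, rfl⟩
      obtain ⟨x, rfl⟩ := c.C_surj w hw
      show d * C x * d⁻¹ ∈ V
      rw [hd]; exact c.C_mem _
    have h3 := (hfix _ (Fus.TISym.conj_mem_Qv (inv_mem hdV) hq)).map (MulAut.conj d).toMonoidHom
    simp only [MulEquiv.coe_toMonoidHom, MulAut.conj_apply, hd, div_mul_cancel₀ y hx₀] at h3
    rw [show d * (d⁻¹ * q * d⁻¹⁻¹) * d⁻¹ = q by group] at h3
    exact h3.eq.symm
  have hcomm : ∀ x ∈ Q, ∀ y ∈ Q, ⁅x, y⁆ ∈ V := fun x hx y hy =>
    hh.comm_mem (hPQ.ge hx : x ∈ P) (hPQ.ge hy : y ∈ P)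
  have hVcomm : V ≤ (commutator ↥Q).map Q.subtype := fun v hv => by
    obtain ⟨x, rfl⟩ := c.C_surj v hv
    rw [show x = x * 1 by rw [mul_one], ← c.comm]
    exact ⟨⁅(⟨A x, (hp.le₁ (c.A_mem x)).1⟩ : Q), ⟨B 1, (hp.le₂ (c.B_mem 1)).1⟩⁆,
      Subgroup.commutator_mem_commutator (Subgroup.mem_top _) (Subgroup.mem_top _), rfl⟩
  haveI : Fact (Nat.Prime 2) := ⟨Nat.prime_two⟩
  haveI hn : (V.subgroupOf Q).Normal :=
    Subgroup.normal_subgroupOf_of_le_normalizer (Fus.TISym.Qv_le V)
  have hcle : commutator ↥Q ≤ V.subgroupOf Q := Subgroup.commutator_le.2 fun x _ y _ =>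
    Subgroup.mem_subgroupOf.2 (hcomm x x.2 y y.2)
  refine ⟨?_, fun w hw hw1 => ?_, ?_, fun hN => ?_, hPQ, le_antisymm ?_ ?_, le_antisymm ?_ ?_,
    le_antisymm ?_ hVcomm⟩
  · show V ≤ Fus.TISym.cj (Fus.TISym.Qv V) g
    rw [← Fus.TISym.Qv_cj]
    exact hp.le_Pv_self.trans inf_le_left
  · have := hp.existsUnique_conj (w := w) (hW ▸ hw) hw1
    rw [hW]
    exact this
  · rw [hH, hW]
    exact hp.le_normalizer_sup
  · obtain ⟨θ, hθ, hker, -⟩ := c.exists_hom hp
    refine ⟨F, instF, instT, c.card_eq, ?_⟩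
    have hk : (θ.comp (MulEquiv.subgroupCongr hH).toMonoidHom).ker =
        (Subgroup.centralizer (W : Set G)).subgroupOf H := by
      ext x
      rw [MonoidHom.mem_ker, MonoidHom.comp_apply, ← MonoidHom.mem_ker, hker, hW]
      rfl
    exact ⟨(QuotientGroup.quotientMulEquivOfEq hk.symm).trans
      (QuotientGroup.quotientKerEquivOfSurjective _
        (hθ.comp (MulEquiv.subgroupCongr hH).surjective))⟩
  · have hf : frattini ↥Q ≤ V.subgroupOf Q :=
      Grp.frattini_le_of_elementary Nat.prime_two hcle fun x =>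
        Subgroup.mem_subgroupOf.2 (by rw [Subgroup.coe_pow, pow_two]; exact hh.sq_mem (hPQ.ge x.2))
    exact Subgroup.map_le_iff_le_comap.2 hf
  · exact hVcomm.trans (Subgroup.map_mono
      (Grp.pGroup_commutator_le_frattini (Fus.TISym.isPGroup_Qv V)))
  · rintro _ ⟨x, hx, rfl⟩
    exact hh.center_Pv (hPQ.ge x.2) fun y hy =>
      (congrArg Subtype.val (Subgroup.mem_center_iff.1 hx ⟨y, Subgroup.mem_inf.1 hy |>.1⟩)).symm
  · intro v hv
    exact ⟨⟨v, (hh.le_Pv hv).1⟩, Subgroup.mem_center_iff.2 fun y => Subtype.ext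
      (Fus.TISym.commute_Pv (hPQ.ge y.2) hv).eq, rfl⟩
  · exact Subgroup.map_le_iff_le_comap.2 hcle

end Cfsg.Agent.S1786
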