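import Cfsg.Statements.S1823
import Cfsg.Agent.Lib.Transfer.QRC.CommonNormal
-- import your own Cfsg.Agent.* helpers here

set_option autoImplicit false
open Cfsg

namespace Cfsg.Agent.S1823

/-- A common nontrivial normal 2-subgroup for a pair of 2-local-type subgroups over a Sylow 2-subgroup of a simple QTKE-group. Let G be a non-abelian finite simple QTKE-group and T a Sylow 2-subgroup of G. Let M₀ and H be subgroups of G containing T with O₂(M₀) ≠ 1 and O₂(H) ≠ 1, such that T lies in a unique maximal subgroup of H. Let R be a nontrivial subgroup of T that is a Sylow 2-subgroup of O²(H)R and is normalized by M₀. Then some nontrivial subgroup R₀ of R is normalized by both M₀ and H (that is, R₀ is normal in ⟨M₀, H⟩). -/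
theorem result {G : Type*} [Group G] [Finite G] [IsSimpleGroup G]
    (hG : ¬ IsMulCommutative G) (hQ : Cfsg.IsQTKE G) (T : Sylow 2 G) (M₀ H : Subgroup G)
    (hM₀ : M₀ ∈ Cfsg.calHOver (T : Subgroup G)) (hH : H ∈ Cfsg.calHOver (T : Subgroup G))
    (hU : ∃! K : Subgroup ↥H, IsCoatom K ∧ (T : Subgroup G).subgroupOf H ≤ K)
    (R : Subgroup G) (hR : R ≠ ⊥) (hRT : R ≤ (T : Subgroup G))
    (hRS : ∃ P : Sylow 2 ↥(Cfsg.oddGenerated H ⊔ R),
      (P : Subgroup ↥(Cfsg.oddGenerated H ⊔ R)) = R.subgroupOf (Cfsg.oddGenerated H ⊔ R))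
    (hRM : M₀ ≤ Subgroup.normalizer (R : Set G)) :
    ∃ R₀ : Subgroup G, R₀ ≠ ⊥ ∧ R₀ ≤ R ∧ M₀ ⊔ H ≤ Subgroup.normalizer (R₀ : Set G) := by
  obtain ⟨hH2, hTH⟩ := hH
  obtain ⟨K, ⟨hK, hTK⟩, huniq⟩ := hU
  obtain ⟨P, hP⟩ := hRS
  haveI : Fact (Nat.Prime 2) := ⟨Nat.prime_two⟩
  refine Cfsg.Agent.Transfer.QRC.common_normal hQ.2.2 T M₀ H hM₀.2 hTH
    (fun h => hH2 ((Subgroup.map_eq_bot_iff_of_injective _ H.subtype_injective).mp h))
    ⟨K.map H.subtype, ?_, ?_, fun Y hTY hYH => ?_⟩ R hR hRT ?_ hRM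
  · exact fun t ht => ⟨⟨t, hTH ht⟩, hTK (Subgroup.mem_subgroupOf.mpr ht), rfl⟩
  · refine lt_of_le_of_ne (Subgroup.map_subtype_le _) fun h => hK.1 (eq_top_iff.mpr fun y _ => ?_)
    exact (Subgroup.mem_map_iff_mem H.subtype_injective).mp (h.ge y.2)
  · obtain ⟨N, hN, hle⟩ := (eq_top_or_exists_le_coatom (Y.subgroupOf H)).resolve_left fun h =>
      hYH.not_ge (Subgroup.subgroupOf_eq_top.mp h)
    intro y hy
    have hNK : N = K := huniq N ⟨hN, le_trans (Subgroup.comap_mono hTY) hle⟩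
    exact ⟨⟨y, hYH.le hy⟩, hNK ▸ hle (Subgroup.mem_subgroupOf.mpr hy), rfl⟩
  · have h := P.not_dvd_index
    rw [hP] at h
    exact h


end Cfsg.Agent.S1823
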