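import Cfsg.Statements.S1829
import Cfsg.Agent.Lib.Fus.SFourWreath.TwoCase
import Cfsg.Agent.Lib.Fus.SFourWreath.Seven
import Cfsg.Agent.Lib.Fus.SFourWreath.CentU
import Cfsg.Agent.Lib.Fus.SFourWreath.CentV
-- import your own Cfsg.Agent.* helpers here

set_option autoImplicit false
open Cfsg

namespace Cfsg.Agent.S1829

/-- There is no non-abelian finite simple QTKE-group G with a Sylow 2-subgroup T and a maximal 2-local subgroup M containing T such that M is isomorphic to the wreath product S₄ ≀ Z₂ (the subgroup of the symmetric group of degree 8 preserving a partition into two blocks of size 4; order 1152). -/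
theorem result {G : Type*} [Group G] [Finite G] [IsSimpleGroup G]
    (hG : ¬ IsMulCommutative G) (hQ : Cfsg.IsQTKE G) (T : Sylow 2 G) (M : Subgroup G)
    (hM : M ∈ Cfsg.maxTwoLocalsContaining (T : Subgroup G))
    (hW : Nonempty (↥M ≃* ↥Cfsg.blockStabilizerS4wr2)) : False := by
  obtain ⟨c⟩ := Cfsg.Agent.Fus.SFourWr.exists_ctx hQ T M hM hW
  have hno : ∀ H : Subgroup G, H.index ≠ 2 := by
    intro H hH
    haveI hn : H.Normal := Subgroup.normal_of_index_eq_two hH
    rcases IsSimpleGroup.eq_bot_or_eq_top_of_normal H hn with e | e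
    · refine hG ?_
      rw [e, Subgroup.index_bot] at hH
      haveI := Fact.mk Nat.prime_two
      haveI : IsCyclic G := isCyclic_of_prime_card (p := 2) hH
      exact ⟨⟨fun a b => by
        obtain ⟨g, hg⟩ := IsCyclic.exists_generator (α := G)
        obtain ⟨i, rfl⟩ := hg a
        obtain ⟨j, rfl⟩ := hg b
        exact zpow_mul_comm g i j⟩⟩
    · rw [e, Subgroup.index_top] at hH
      omega
  obtain ⟨l, hlm, hl⟩ := c.survivor hno
  simp only [Cfsg.Agent.Fus.SFourWr.survivors, List.mem_cons, List.mem_nil_iff, or_false] at hlm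
  rcases hlm with rfl | rfl | rfl | rfl | rfl
  · exact c.seven_false hl
  · exact c.two_false hno (by simp) hl
  · exact c.two_false hno (by simp) hl
  · exact c.centU_false hl
  · exact c.centV_false hl

end Cfsg.Agent.S1829
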