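import Cfsg.Statements.S1850
import Cfsg.Agent.Lib.Fus.CharTwo
-- import your own Cfsg.Agent.* helpers here

set_option autoImplicit false
open Cfsg

namespace Cfsg.Agent.S1850

/-- Let G be a non-abelian finite simple QTKE-group and T a Sylow 2-subgroup of G. If U is a nontrivial 2-subgroup of G with U ∩ Z(T) ≠ 1, then F*(N_G(U)) = O₂(N_G(U)). -/
theorem result {G : Type*} [Group G] [Finite G] [IsSimpleGroup G]
    (hG : ¬ IsMulCommutative G) (hQ : Cfsg.IsQTKE G) (T : Sylow 2 G) (U : Subgroup G)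
    (hU : IsPGroup 2 ↥U) (hZ : U ⊓ ((T : Subgroup G) ⊓ Subgroup.centralizer ((T : Subgroup G) : Set G)) ≠ ⊥) :
    Subgroup.normalizer (U : Set G) ∈ Cfsg.calHe G := by
  haveI : Fact (Nat.Prime 2) := ⟨Nat.prime_two⟩
  set W := U ⊓ ((T : Subgroup G) ⊓ Subgroup.centralizer ((T : Subgroup G) : Set G)) with hW
  obtain ⟨z, hz⟩ : ∃ z : W, orderOf z = 2 := by
    refine exists_prime_orderOf_dvd_card' 2 ?_
    obtain ⟨k, hk⟩ := (hU.to_le (inf_le_left : W ≤ U)).exists_card_eq
    rw [hk]
    refine dvd_pow_self 2 fun h0 => hZ ?_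
    rw [h0, pow_zero] at hk
    exact Subgroup.card_eq_one.1 hk
  obtain ⟨hzU, hzT, hzc⟩ := z.2
  have hzo : orderOf (z : G) = 2 := by rw [Subgroup.orderOf_coe, hz]
  -- the normalizer of `⟨z⟩` is a 2-local subgroup containing `T`
  have hloc : IsTwoLocal (Subgroup.normalizer ((Subgroup.zpowers (z : G) : Subgroup G) : Set G)) :=
    ⟨_, IsPGroup.of_card (n := 1) (by rw [Nat.card_zpowers, hzo, pow_one]),
      by rw [Ne, Subgroup.zpowers_eq_bot]; intro h; rw [h, orderOf_one] at hzo; omega, rfl⟩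
  have hTle : (T : Subgroup G) ≤
      Subgroup.normalizer ((Subgroup.zpowers (z : G) : Subgroup G) : Set G) := by
    intro t ht
    refine Subgroup.centralizer_le_normalizer _ (Subgroup.mem_centralizer_iff.2 ?_)
    rintro _ ⟨i, rfl⟩
    exact ((show Commute (z : G) t from (Subgroup.mem_centralizer_iff.1 hzc t ht).symm).zpow_left i).eq
  have hM := hQ.2.2 _ hloc ⟨T, hTle⟩
  have hcen : Subgroup.centralizer ({(z : G)} : Set G) =
      Subgroup.normalizer ((Subgroup.zpowers (z : G) : Subgroup G) : Set G) := by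
    refine le_antisymm (fun g hg => ?_) fun g hg => ?_
    · refine Subgroup.centralizer_le_normalizer _ (Subgroup.mem_centralizer_iff.2 ?_)
      rintro _ ⟨i, rfl⟩
      exact ((show Commute (z : G) g from
        (Subgroup.mem_centralizer_singleton_iff.1 hg).symm).zpow_left i).eq
    · obtain ⟨i, hi⟩ := (Subgroup.mem_normalizer_iff.1 hg _).1 (Subgroup.mem_zpowers (z : G))
      have hi : (z : G) ^ i = g * z * g⁻¹ := hi
      rw [← zpow_mod_orderOf, hzo] at hi
      refine Subgroup.mem_centralizer_singleton_iff.2 ?_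
      rcases Int.emod_two_eq i with h | h
      · rw [Nat.cast_ofNat, h, zpow_zero, eq_comm, conj_eq_one_iff] at hi
        rw [hi, orderOf_one] at hzo
        omega
      · rw [Nat.cast_ofNat, h, zpow_one] at hi
        calc g * z = g * z * g⁻¹ * g := by group
          _ = z * g := by rw [← hi]
  show generalizedFittingSubgroup _ = pCore 2 _
  refine Cfsg.Agent.Fus.generalizedFittingSubgroup_eq_of_charP
    (Cfsg.Agent.Fus.charP_normalizer_of_centralizer hU hzU ?_)
  rw [hcen]
  exact hM

end Cfsg.Agent.S1850
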