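import Cfsg.Statements.S1892
import Cfsg.Agent.Lib.Grp.PSolvable
import Cfsg.Agent.Lib.Invol.LargeSubgroup
-- import your own Cfsg.Agent.* helpers here

set_option autoImplicit false
open Cfsg

namespace Cfsg.Agent.S1892

/-- Let S be a finite p-solvable group with no nontrivial normal subgroup of order prime to p, A a p-subgroup of S, and Q a nontrivial A-invariant subgroup of order prime to p with [A, Q] = Q. Then the commutator [O_p(S), A, Q] is nontrivial. -/
theorem result {S : Type*} [Group S] [Finite S] {p : ℕ} [Fact p.Prime]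
    (hS : Cfsg.IsPSolvable p S) (hred : Cfsg.pPrimeCore p S = ⊥)
    (A Q : Subgroup S) (hA : IsPGroup p A) (hQ : ¬ p ∣ Nat.card Q) (hQ1 : Q ≠ ⊥)
    (hinv : ∀ a ∈ A, ∀ x ∈ Q, a * x * a⁻¹ ∈ Q) (hAQ : ⁅A, Q⁆ = Q) :
    ⁅⁅Cfsg.pCore p S, A⁆, Q⁆ ≠ ⊥ := by
  intro hbot
  set P := Cfsg.pCore p S with hP
  have hPn : P.Normal := Cfsg.Agent.Invol.pCore_normal p S
  have hPp : IsPGroup p P := Cfsg.Agent.Grp.pCore_isPGroup
  set N := ⁅P, A⁆ with hN
  have hNP : N ≤ P := Subgroup.commutator_le_left P A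
  have hNQ : ∀ n ∈ N, ∀ q ∈ Q, n * q = q * n := fun n hn q hq =>
    (Subgroup.mem_centralizer_iff.mp ((Subgroup.commutator_eq_bot_iff_le_centralizer.mp hbot) hn) q hq).symm
  have hQC : ⁅A, Q⁆ ≤ Subgroup.centralizer (P : Set S) := by
    refine Subgroup.commutator_le.mpr fun a ha q hq => Subgroup.mem_centralizer_iff.mpr fun x hx => ?_
    -- it suffices that `c = [a, q]` centralizes `N` and is trivial on `P / N`
    set c := a * q * a⁻¹ * q⁻¹ with hc
    have hcQ : c ∈ Q := Q.mul_mem (hinv a ha q hq) (Q.inv_mem hq)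
    have hco : (orderOf c).Coprime p := Nat.Coprime.coprime_dvd_left
      (by rw [← Subgroup.orderOf_mk c hcQ]; exact orderOf_dvd_natCard _)
      ((Fact.out : p.Prime).coprime_iff_not_dvd.mpr hQ).symm
    have hNn : ∀ g ∈ A, g ∈ Subgroup.normalizer (N : Set S) := fun g hg => by
      rw [← Cfsg.Agent.Invol.wc_map_conj_eq_iff, hN, Subgroup.map_commutator,
        Cfsg.Agent.Invol.wc_map_conj_eq_iff.mpr (by rw [Subgroup.normalizer_eq_top]; trivial : g ∈ Subgroup.normalizer (P : Set S)),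
        Cfsg.Agent.Invol.wc_map_conj_eq_iff.mpr (Subgroup.le_normalizer hg)]
    have hA1 : ∀ g ∈ A, ∀ y ∈ P, g * y * g⁻¹ * y⁻¹ ∈ N := fun g hg y hy => by
      have := N.inv_mem (Subgroup.commutator_mem_commutator hy hg)
      simpa [commutatorElement_def, mul_assoc] using this
    -- apply it to `q⁻¹ x q`
    set x2 := q⁻¹ * x * q⁻¹⁻¹ with hx2
    have hx2P : x2 ∈ P := hPn.conj_mem x hx q⁻¹
    have hgoal : c * x * c⁻¹ * x⁻¹ ∈ N := by
      set w := a⁻¹ * x2 * a⁻¹⁻¹ with hw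
      set m := w * x2⁻¹ with hm
      have hmN : m ∈ N := hA1 _ (A.inv_mem ha) x2 hx2P
      have hm' : q * m * q⁻¹ = m := by rw [← hNQ m hmN q hq, mul_inv_cancel_right]
      have : c * x * c⁻¹ * x⁻¹ = a * m * a⁻¹ * (a * x * a⁻¹ * x⁻¹) := by
        calc c * x * c⁻¹ * x⁻¹ = a * (q * m * q⁻¹) * a⁻¹ * (a * x * a⁻¹ * x⁻¹) := by
              rw [hc, hm, hw, hx2]; group
          _ = _ := by rw [hm']
      rw [this]
      exact N.mul_mem ((Subgroup.mem_normalizer_iff.mp (hNn a ha) m).mp hmN) (hA1 a ha x hx)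
    have := (Cfsg.Agent.Invol.lg_stab_commute hPp hco (hNQ _ hgoal c hcQ).symm (hNP hgoal)).eq
    simpa [hc, commutatorElement_def] using this.symm
  rw [hAQ] at hQC
  have hQP : Q ≤ P := hQC.trans (Cfsg.Agent.Grp.centralizer_pCore_le_of_pSolvable hS hred)
  refine hQ1 (eq_bot_iff.mpr fun q hq => Subgroup.mem_bot.mpr (Cfsg.Agent.Invol.eq_one_of_coprime_of_mem hPp (hQP hq) ?_))
  exact Nat.Coprime.coprime_dvd_left (by rw [← Subgroup.orderOf_mk q hq]; exact orderOf_dvd_natCard _)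
    ((Fact.out : p.Prime).coprime_iff_not_dvd.mpr hQ).symm

end Cfsg.Agent.S1892
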