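import Cfsg.Prelude
import Cfsg.Agent.Lib.Invol.WeaklyHSub
-- import your own Cfsg.Agent.* helpers here

set_option autoImplicit false
open Cfsg

open scoped Pointwise commutatorElement

namespace Cfsg.Agent.S1894

/-- Let P be a finite p-group, A a normal subgroup of P and B an abelian subgroup of A that is normal in P. Then some subgroup C of A containing B is normal in P and is self-centralizing and normal in A (C ∈ SCN(A)). -/
theorem result {P : Type*} [Group P] [Finite P] {p : ℕ} [Fact p.Prime] (hP : IsPGroup p P)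
    (A : Subgroup P) [A.Normal] (B : Subgroup P) [B.Normal] (hBA : B ≤ A) (hB : IsMulCommutative B) :
    ∃ C : Subgroup P, C.Normal ∧ B ≤ C ∧ Cfsg.IsSCN A C := by
  classical
  obtain ⟨C, ⟨hCn, hBC, hCA, hCab⟩, hmax⟩ := (Set.toFinite
    {C : Subgroup P | C.Normal ∧ B ≤ C ∧ C ≤ A ∧ ∀ x ∈ C, ∀ y ∈ C, x * y = y * x}).exists_maximal
    ⟨B, inferInstance, le_rfl, hBA, fun x hx y hy =>
      congrArg Subtype.val (hB.is_comm.comm ⟨x, hx⟩ ⟨y, hy⟩)⟩
  haveI := hCn
  refine ⟨C, hCn, hBC, hCA, fun a _ => by rw [Subgroup.normalizer_eq_top]; trivial, ?_⟩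
  have hle : C ≤ A ⊓ Subgroup.centralizer (C : Set P) :=
    le_inf hCA fun x hx => Subgroup.mem_centralizer_iff.mpr fun y hy => hCab y hy x hx
  by_contra hne
  haveI : (A ⊓ Subgroup.centralizer (C : Set P)).Normal := inferInstance
  obtain ⟨w, hw, hwC, -, hwc⟩ := Invol.exists_central_step (P := (⊤ : Subgroup P))
    (hP.to_subgroup ⊤) le_top hle (fun e => hne e.symm)
    (by rw [Subgroup.normalizer_eq_top]) (by rw [Subgroup.normalizer_eq_top])
  set E := C ⊔ Subgroup.zpowers w with hE
  have hEn : E.Normal := by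
    refine ⟨fun e he g => ?_⟩
    have : E ≤ E.comap (MulAut.conj g).toMonoidHom := sup_le
      (fun c hc => Subgroup.mem_sup_left (hCn.conj_mem c hc g))
      (Subgroup.zpowers_le.mpr (Subgroup.mem_comap.mpr (by
        show g * w * g⁻¹ ∈ E
        have := E.mul_mem (Subgroup.mem_sup_left (hwc g trivial))
          (Subgroup.mem_sup_right (Subgroup.mem_zpowers w))
        rwa [inv_mul_cancel_right] at this)))
    exact this he
  have hEA : E ≤ A := sup_le hCA (Subgroup.zpowers_le.mpr hw.1)
  have hEab : ∀ x ∈ E, ∀ y ∈ E, x * y = y * x := by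
    have h1 : E ≤ Subgroup.centralizer (C : Set P) := sup_le (fun x hx =>
      Subgroup.mem_centralizer_iff.mpr fun y hy => hCab y hy x hx) (Subgroup.zpowers_le.mpr hw.2)
    have h2 : E ≤ Subgroup.centralizer (E : Set P) := by
      refine sup_le ?_ (Subgroup.zpowers_le.mpr ?_)
      · exact Subgroup.le_centralizer_iff.mp h1
      · refine Subgroup.le_centralizer_iff.mp ?_ (Subgroup.mem_zpowers w)
        exact sup_le (Subgroup.le_centralizer_iff.mp (Subgroup.zpowers_le.mpr hw.2))
          (Subgroup.le_centralizer (Subgroup.zpowers w))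
    exact fun x hx y hy => Subgroup.mem_centralizer_iff.mp (h2 hy) x hx
  exact hwC (hmax ⟨hEn, hBC.trans le_sup_left, hEA, hEab⟩ le_sup_left
    (Subgroup.mem_sup_right (Subgroup.mem_zpowers w)))

end Cfsg.Agent.S1894
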