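import Cfsg.Prelude
import Cfsg.Agent.Lib.Invol.ChiefRankTwo
-- import your own Cfsg.Agent.* helpers here

set_option autoImplicit false
open Cfsg

open scoped Pointwise commutatorElement

namespace Cfsg.Agent.S1895

/-- Let p be an odd prime and G a finite p-solvable group with no elementary abelian subgroup of order p³. Then every chief factor H/K of G (H, K normal in G with no normal subgroup of G strictly between them) whose order is a power of p has order p or p². -/
theorem result {G : Type*} [Group G] [Finite G] {p : ℕ} [Fact p.Prime] (hp : p ≠ 2)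
    (hG : Cfsg.IsPSolvable p G) (hr : Cfsg.PRankLE p 2 G)
    (H K : Subgroup G) [H.Normal] [K.Normal] (hKH : K < H) (hpow : ∃ n : ℕ, K.relIndex H = p ^ n)
    (hchief : ∀ L : Subgroup G, L.Normal → K ≤ L → L ≤ H → L = K ∨ L = H) :
    K.relIndex H = p ∨ K.relIndex H = p ^ 2 := by
  obtain ⟨n, hn⟩ := hpow
  have h := Cfsg.Agent.Invol.ChiefRankTwo.relIndex_le_sq hp hr H K hKH.le ⟨n, hn⟩ hchief
  rw [hn] at h
  have hne : n ≠ 0 := fun e => hKH.not_ge (Subgroup.relIndex_eq_one.mp (by rw [hn, e, pow_zero]))
  have hle := (Nat.pow_le_pow_iff_right (Fact.out : p.Prime).one_lt).mp h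
  rcases (show n = 1 ∨ n = 2 by omega) with rfl | rfl
  · exact Or.inl (by rw [hn, pow_one])
  · exact Or.inr hn

end Cfsg.Agent.S1895
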