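import Cfsg.Prelude
import Cfsg.Agent.Lib.Invol.U33Seven
import Cfsg.Agent.Lib.Classical.DicksonSmallQ
import Cfsg.Agent.Lib.Classical.DicksonOvergroups
-- import your own Cfsg.Agent.* helpers here

set_option autoImplicit false
open Cfsg

open scoped Pointwise commutatorElement

namespace Cfsg.Agent.S1897

/-- The projective special unitary group PSU₃(3) (realised over the field with 9 elements) has a subgroup isomorphic to PSL₂(7). -/
theorem result {F : Type*} [Field F] [Fintype F] (hF : Fintype.card F = 9)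
    {K : Type*} [Field K] [Fintype K] (hK : Fintype.card K = 7) :
    ∃ H : Subgroup (Cfsg.PSU 3 F 3), Nonempty (H ≃* Matrix.ProjectiveSpecialLinearGroup (Fin 2) K) := by
  have : Fact (Fintype.card F = 9) := ⟨hF⟩
  obtain ⟨H, hH, hHs⟩ := Invol.U33Seven.exists_subgroup (F := F)
  have : Fact (Nat.Prime 7) := ⟨by norm_num⟩
  have : CharP K 7 := by
    obtain ⟨p, hp⟩ := CharP.exists K
    obtain ⟨k, hk, hq⟩ := FiniteField.card K p
    rw [hK] at hq
    have h : p ∣ 7 := hq ▸ dvd_pow_self p k.ne_zero
    rwa [(Nat.prime_dvd_prime_iff_eq hk (by norm_num)).mp h] at hp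
  have hcard : Nat.card (Matrix.ProjectiveSpecialLinearGroup (Fin 2) K) = 168 := by
    have h := Dickson.card_psl_odd (F := K) (by rw [hK]; decide)
    rw [hK] at h
    omega
  have : IsSimpleGroup (Matrix.ProjectiveSpecialLinearGroup (Fin 2) K) :=
    Classical.PSL_isSimple le_rfl fun _ => by rw [hK]; norm_num
  obtain ⟨e⟩ := Invol.O168.iso hH hcard
  have hinj : Function.Injective (QuotientGroup.mk' (Subgroup.center (SU 3 F 3))) := by
    rw [← MonoidHom.ker_eq_bot_iff, QuotientGroup.ker_mk', SpectrumPSU3Three.center_eq_bot hF]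
  exact ⟨H.map (QuotientGroup.mk' _), ⟨(H.equivMapOfInjective _ hinj).symm.trans e⟩⟩

end Cfsg.Agent.S1897
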