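import Cfsg.Statements.S1898
import Cfsg.Agent.Lib.Fus.SmallExp
import Cfsg.Agent.Lib.Invol.PReduced
-- import your own Cfsg.Agent.* helpers here

set_option autoImplicit false
open Cfsg

namespace Cfsg.Agent.S1898

open scoped commutatorElement

/-- Let X be a finite 2-group whose derived subgroup is elementary abelian and central. Then the subgroup generated by the elements of order dividing 4 has exponent dividing 4, and every automorphism of X fixing each element of order dividing 4 has 2-power order. -/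
theorem result {X : Type*} [Group X] [Finite X] (hX : IsPGroup 2 X)
    (hel : Cfsg.IsElementaryAbelian 2 (commutator X)) (hcen : commutator X ≤ Subgroup.center X) :
    (∀ x ∈ Subgroup.closure {g : X | g ^ 4 = 1}, x ^ 4 = 1) ∧
      ∀ φ : MulAut X, (∀ g : X, g ^ 4 = 1 → φ g = g) → ∃ k : ℕ, φ ^ (2 ^ k) = 1 := by
  have hc : ∀ a b : X, ⁅a, b⁆ ∈ Subgroup.center X ∧ ⁅a, b⁆ ^ 2 = 1 := fun a b =>
    have h : ⁅a, b⁆ ∈ commutator X := Subgroup.commutator_mem_commutator (Subgroup.mem_top a) (Subgroup.mem_top b)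
    ⟨hcen h, hel.2 _ h⟩
  have hsq : ∀ a b : X, Commute (a ^ 2) b := by
    intro a b
    obtain ⟨hz, hz2⟩ := hc a b
    have h1 : a * b = ⁅a, b⁆ * b * a := by rw [commutatorElement_def]; group
    have hzc : ∀ y : X, y * ⁅a, b⁆ = ⁅a, b⁆ * y := fun y => Subgroup.mem_center_iff.mp hz y
    show a ^ 2 * b = b * a ^ 2
    calc a ^ 2 * b = a * (a * b) := by rw [pow_two, mul_assoc]
      _ = a * (⁅a, b⁆ * b * a) := by rw [← h1]
      _ = (a * ⁅a, b⁆) * (b * a) := by group
      _ = ⁅a, b⁆ * (a * b) * a := by rw [hzc]; group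
      _ = ⁅a, b⁆ * (⁅a, b⁆ * b * a) * a := by rw [← h1]
      _ = ⁅a, b⁆ ^ 2 * (b * a ^ 2) := by rw [pow_two, pow_two]; group
      _ = b * a ^ 2 := by rw [hz2, one_mul]
  refine ⟨fun x hx => ?_, fun φ hφ => ?_⟩
  · induction hx using Subgroup.closure_induction with
    | mem x hx => exact hx
    | one => exact one_pow 4
    | inv x _ hx => rw [inv_pow, hx, inv_one]
    | mul a b _ _ ha hb =>
      obtain ⟨hz, hz2⟩ := hc b a
      have h2 : (a * b) ^ 2 = ⁅b, a⁆ * (a ^ 2 * b ^ 2) := by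
        have h1 : b * a = ⁅b, a⁆ * a * b := by rw [commutatorElement_def]; group
        calc (a * b) ^ 2 = a * (b * a) * b := by rw [pow_two]; group
          _ = a * ⁅b, a⁆ * (a * b * b) := by rw [h1]; group
          _ = ⁅b, a⁆ * a * (a * b * b) := by rw [Subgroup.mem_center_iff.mp hz a]
          _ = _ := by rw [pow_two, pow_two]; group
      rw [show (4 : ℕ) = 2 * 2 from rfl, pow_mul, h2, Commute.mul_pow (show Commute ⁅b, a⁆ (a ^ 2 * b ^ 2) from (Subgroup.mem_center_iff.mp hz _).symm),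
        hz2, one_mul, (hsq a (b ^ 2)).mul_pow, ← pow_mul, ← pow_mul]
      rw [show (2 * 2 : ℕ) = 4 from rfl, ha, hb, one_mul]
  · haveI : Fact (Nat.Prime 2) := ⟨Nat.prime_two⟩
    obtain ⟨k, hk⟩ := Cfsg.Agent.Invol.exists_pow_coprime (p := 2) φ
    refine ⟨k, Cfsg.Agent.Fus.eq_one_of_fixed_small hX _ hk fun x hx => ?_⟩
    have hx4 : x ^ 4 = 1 := by simpa [Cfsg.Agent.Fus.smallExp] using hx
    generalize 2 ^ k = n
    induction n with
    | zero => rfl
    | succ n ih => rw [pow_succ, MulAut.mul_apply, hφ x hx4, ih]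

end Cfsg.Agent.S1898
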