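import Cfsg.Statements.S1899
import Mathlib
-- import your own Cfsg.Agent.* helpers here

set_option autoImplicit false
open Cfsg

namespace Cfsg.Agent.S1899

/-- Let a dihedral group of order 2n, n odd and n > 1, act on a finite abelian 2-group A through automorphisms d and t with d^n = 1, t² = 1 and t d t⁻¹ = d⁻¹, and suppose that d fixes only the identity. Then A is the internal direct product of C_A(t) and its image under d. -/
theorem result {A : Type*} [CommGroup A] [Finite A] (hA : IsPGroup 2 A)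
    {n : ℕ} (hn : Odd n) (hn1 : 1 < n) (d t : MulAut A) (hd : d ^ n = 1) (ht : t ^ 2 = 1) (hdt : t * d * t⁻¹ = d⁻¹)
    (hfix : ∀ a : A, d a = a → a = 1) :
    (MulEquiv.toMonoidHom t).eqLocus (MonoidHom.id A) ⊓ ((MulEquiv.toMonoidHom t).eqLocus (MonoidHom.id A)).map d.toMonoidHom = ⊥ ∧
      (MulEquiv.toMonoidHom t).eqLocus (MonoidHom.id A) ⊔ ((MulEquiv.toMonoidHom t).eqLocus (MonoidHom.id A)).map d.toMonoidHom = ⊤ := by
  set C := (MulEquiv.toMonoidHom t).eqLocus (MonoidHom.id A) with hCdef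
  have hC : ∀ a, a ∈ C ↔ t a = a := fun a => Iff.rfl
  have htt : ∀ a, t (t a) = a := fun a => by
    rw [← MulAut.mul_apply, ← pow_two, ht, MulAut.one_apply]
  have hdn : ∀ a, (d ^ n) a = a := fun a => by rw [hd, MulAut.one_apply]
  have htd : ∀ a, t (d a) = d⁻¹ (t a) := fun a => by
    rw [← hdt, MulAut.mul_apply, MulAut.mul_apply, MulAut.inv_apply, MulEquiv.symm_apply_apply]
  have htd' : ∀ a, t (d⁻¹ a) = d (t a) := fun a => by
    refine (MulEquiv.injective (d⁻¹ : MulAut A)) ?_
    rw [← htd, MulAut.apply_inv_self, MulAut.inv_apply_self]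
  have hsq : ∀ a, d (d a) = a → a = 1 := fun a ha => hfix a (by
    obtain ⟨m, rfl⟩ := hn
    have h1 : ∀ k : ℕ, (d ^ (2 * k)) a = a := fun k => by
      induction k with
      | zero => rfl
      | succ k ihk =>
        rw [mul_add, mul_one, pow_add, MulAut.mul_apply, pow_two, MulAut.mul_apply, ha, ihk]
    have h2 := hdn a
    rw [pow_succ', MulAut.mul_apply, h1] at h2
    exact h2)
  refine ⟨?_, ?_⟩
  · rw [← le_bot_iff]
    rintro a ⟨ha, b, hb, rfl⟩
    rw [Subgroup.mem_bot]
    replace ha : t (d b) = d b := ha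
    replace hb : t b = b := hb
    rw [htd, hb] at ha
    have hb1 : b = 1 := hsq b (by rw [← ha, MulAut.apply_inv_self])
    subst hb1
    exact map_one d
  · rw [eq_top_iff]
    intro a _
    let f : A → A := fun w => w * (d⁻¹ (d⁻¹ w))⁻¹
    have hinj : Function.Injective f := fun v w h => by
      have h1 : d⁻¹ (d⁻¹ (v / w)) = v / w := by
        simp only [f] at h
        rw [map_div, map_div, div_eq_div_iff_mul_eq_mul, mul_comm]
        have h2 := congrArg (fun z => z * (d⁻¹ (d⁻¹ v) * d⁻¹ (d⁻¹ w))) h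
        simp only [mul_assoc, inv_mul_cancel_left] at h2
        rw [mul_comm (d⁻¹ (d⁻¹ v)) (d⁻¹ (d⁻¹ w)), inv_mul_cancel_left] at h2
        exact h2.symm
      have h3 := hsq (v / w) (by
        conv_lhs => rw [← h1]
        rw [MulAut.apply_inv_self, MulAut.apply_inv_self])
      exact div_eq_one.mp h3
    obtain ⟨w, rfl⟩ := (Finite.injective_iff_surjective.mp hinj) a
    set u := (d⁻¹ (d⁻¹ w))⁻¹ with hu
    set v := d⁻¹ w with hv
    have hb : u * t u ∈ C := by rw [hC, map_mul, htt, mul_comm]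
    have hc : v * t v ∈ C := by rw [hC, map_mul, htt, mul_comm]
    have hf : f w = (u * t u) * d (v * t v) := by
      rw [map_mul, hv, MulAut.apply_inv_self, htd', hu, map_inv, htd', htd']
      simp only [f]
      calc w * (d⁻¹ (d⁻¹ w))⁻¹ = (d⁻¹ (d⁻¹ w))⁻¹ * w := mul_comm _ _
        _ = (d⁻¹ (d⁻¹ w))⁻¹ * w * ((d (d (t w)))⁻¹ * d (d (t w))) := by rw [inv_mul_cancel, mul_one]
        _ = (d⁻¹ (d⁻¹ w))⁻¹ * (d (d (t w)))⁻¹ * (w * d (d (t w))) := by
          rw [mul_mul_mul_comm]
    rw [hf]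
    exact mul_mem (Subgroup.mem_sup_left hb) (Subgroup.mem_sup_right ⟨_, hc, rfl⟩)

end Cfsg.Agent.S1899
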