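import Cfsg.Prelude
import Cfsg.Agent.Lib.Grp.CoprimeAbelian
-- import your own Cfsg.Agent.* helpers here

set_option autoImplicit false
open Cfsg

open scoped Pointwise commutatorElement

namespace Cfsg.Agent.S1900

/-- Let S = PQ be a finite group with P a normal Sylow p-subgroup and Q elementary abelian of order q², q a prime different from p. If exactly two subgroups X₁, X₂ of order q in Q have a nontrivial centralizer in P, then P is the internal direct product of C_P(X₁) and C_P(X₂): they commute elementwise, meet trivially and generate P. -/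
theorem result {S : Type*} [Group S] [Finite S] {p q : ℕ} [Fact p.Prime] [Fact q.Prime] (hpq : p ≠ q)
    (P : Sylow p S) [(P : Subgroup S).Normal] (Q : Subgroup S) (hQ : Cfsg.IsElementaryAbelian q Q) (hQc : Nat.card Q = q ^ 2)
    (hS : (P : Subgroup S) ⊔ Q = ⊤)
    (X₁ X₂ : Subgroup S) (h₁ : X₁ ≤ Q) (h₂ : X₂ ≤ Q) (h₁₂ : X₁ ≠ X₂) (hc₁ : Nat.card X₁ = q) (hc₂ : Nat.card X₂ = q)
    (hf₁ : (P : Subgroup S) ⊓ Subgroup.centralizer (X₁ : Set S) ≠ ⊥)
    (hf₂ : (P : Subgroup S) ⊓ Subgroup.centralizer (X₂ : Set S) ≠ ⊥)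
    (honly : ∀ X : Subgroup S, X ≤ Q → Nat.card X = q →
      (P : Subgroup S) ⊓ Subgroup.centralizer (X : Set S) ≠ ⊥ → X = X₁ ∨ X = X₂) :
    ⁅(P : Subgroup S) ⊓ Subgroup.centralizer (X₁ : Set S), (P : Subgroup S) ⊓ Subgroup.centralizer (X₂ : Set S)⁆ = ⊥ ∧
      ((P : Subgroup S) ⊓ Subgroup.centralizer (X₁ : Set S)) ⊓ ((P : Subgroup S) ⊓ Subgroup.centralizer (X₂ : Set S)) = ⊥ ∧
      ((P : Subgroup S) ⊓ Subgroup.centralizer (X₁ : Set S)) ⊔ ((P : Subgroup S) ⊓ Subgroup.centralizer (X₂ : Set S)) = P := by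
  classical
  haveI hQab : IsMulCommutative ↥Q := hQ.1
  set A := (P : Subgroup S) ⊓ Subgroup.centralizer (X₁ : Set S) with hA
  set B := (P : Subgroup S) ⊓ Subgroup.centralizer (X₂ : Set S) with hB
  have hq : q.Prime := Fact.out
  have hQnc : ¬ IsCyclic ↥Q := by
    intro hc
    obtain ⟨g, hg⟩ := hc.exists_generator
    have h1 : orderOf g = q ^ 2 := by rw [orderOf_eq_card_of_forall_mem_zpowers hg, hQc]
    have h2 : orderOf g ∣ q := orderOf_dvd_of_pow_eq_one (Subtype.ext (by simpa using hQ.2 g g.2))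
    rw [h1] at h2
    have := Nat.le_of_dvd hq.pos h2
    nlinarith [hq.two_le]
  have hQn : ∀ K : Subgroup S, K.Normal → Q ≤ Subgroup.normalizer (K : Set S) := fun K hK => by
    haveI := hK; rw [Subgroup.normalizer_eq_top K]; exact le_top
  obtain ⟨m, hm⟩ := IsPGroup.iff_card.mp P.isPGroup'
  have hcop : ∀ K : Subgroup S, K ≤ (P : Subgroup S) → (Nat.card ↥Q).Coprime (Nat.card ↥K) := fun K hK => by
    refine Nat.Coprime.coprime_dvd_right (Subgroup.card_dvd_of_le hK) ?_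
    rw [hQc, hm]
    exact Nat.Coprime.pow _ _ ((Nat.coprime_primes hq Fact.out).mpr (Ne.symm hpq))
  have hord : ∀ a ∈ Q, a ≠ 1 → Nat.card ↥(Subgroup.zpowers a) = q := fun a ha ha1 => by
    rw [Nat.card_zpowers]
    exact orderOf_eq_prime (hQ.2 a ha) ha1
  have hgenX : ∀ (X : Subgroup S) (y : S), Nat.card X = q → y ∈ X → y ≠ 1 → X ≤ Q → Subgroup.zpowers y = X :=
    fun X y hX hy hy1 hXQ => Subgroup.eq_of_le_of_card_ge (Subgroup.zpowers_le.mpr hy)
      (by rw [hX, hord y (hXQ hy) hy1])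
  have hQeq : X₁ ⊔ X₂ = Q := by
    refine Subgroup.eq_of_le_of_card_ge (sup_le h₁ h₂) ?_
    have h := Subgroup.card_dvd_of_le (sup_le h₁ h₂)
    rw [hQc] at h ⊢
    obtain ⟨i, hi, hi'⟩ := (Nat.dvd_prime_pow hq).mp h
    by_contra hlt
    have hi1 : i ≤ 1 := by
      by_contra hgt
      have : i = 2 := by omega
      exact hlt (by rw [hi', this])
    have hle : Nat.card ↥(X₁ ⊔ X₂) ≤ q := by
      rw [hi']
      exact (pow_le_pow_right₀ hq.one_lt.le hi1).trans (pow_one q).le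
    exact h₁₂ ((Subgroup.eq_of_le_of_card_ge le_sup_left (hc₁.symm ▸ hle)).trans
      (Subgroup.eq_of_le_of_card_ge le_sup_right (hc₂.symm ▸ hle)).symm)
  -- every invariant subgroup is generated by the two fixed point subgroups
  have hdec : ∀ K : Subgroup S, K ≤ (P : Subgroup S) → Q ≤ Subgroup.normalizer (K : Set S) →
      K ≤ (K ⊓ A) ⊔ (K ⊓ B) := by
    intro K hK hKn
    conv_lhs => rw [← Grp.generated_by_centralizers Q K hQnc hKn (hcop K hK)]
    refine iSup₂_le fun a ha => ?_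
    rw [Grp.centralizer_singleton_eq_zpowers]
    rcases eq_or_ne ((P : Subgroup S) ⊓ Subgroup.centralizer ((Subgroup.zpowers a : Subgroup S) : Set S)) ⊥ with h | h
    · exact ((inf_le_inf_right _ hK).trans h.le).trans bot_le
    rcases honly _ (Subgroup.zpowers_le.mpr ha.1) (hord a ha.1 ha.2) h with h' | h'
    · rw [h']; exact (le_inf inf_le_left (inf_le_inf_right _ hK)).trans le_sup_left
    · rw [h']; exact (le_inf inf_le_left (inf_le_inf_right _ hK)).trans le_sup_right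
  have hPAB : A ⊔ B = (P : Subgroup S) := le_antisymm (sup_le inf_le_left inf_le_left)
    ((hdec _ le_rfl (hQn _ inferInstance)).trans (sup_le_sup inf_le_right inf_le_right))
  -- no common fixed point
  have hbot : A ⊓ B = ⊥ := by
    by_contra hne
    obtain ⟨y₁, hy₁, hy₁'⟩ : ∃ y ∈ X₁, y ≠ 1 := by
      by_contra h; push Not at h
      have : X₁ = ⊥ := (Subgroup.eq_bot_iff_forall X₁).mpr h
      rw [this, Subgroup.card_bot] at hc₁; exact hq.one_lt.ne hc₁
    obtain ⟨y₂, hy₂, hy₂'⟩ : ∃ y ∈ X₂, y ≠ 1 := by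
      by_contra h; push Not at h
      have : X₂ = ⊥ := (Subgroup.eq_bot_iff_forall X₂).mpr h
      rw [this, Subgroup.card_bot] at hc₂; exact hq.one_lt.ne hc₂
    have hy : y₁ * y₂ ≠ 1 := by
      intro h
      have h21 : y₂ = y₁⁻¹ := eq_inv_of_mul_eq_one_right h
      have h' : Subgroup.zpowers y₂ = Subgroup.zpowers y₁ := by rw [h21, Subgroup.zpowers_inv]
      rw [hgenX X₁ y₁ hc₁ hy₁ hy₁' h₁, hgenX X₂ y₂ hc₂ hy₂ hy₂' h₂] at h'
      exact h₁₂ h'.symm
    have hyQ : y₁ * y₂ ∈ Q := Q.mul_mem (h₁ hy₁) (h₂ hy₂)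
    refine (honly _ (Subgroup.zpowers_le.mpr hyQ) (hord _ hyQ hy) ?_).elim (fun h => ?_) (fun h => ?_)
    · intro h
      refine hne (le_bot_iff.mp (le_trans (le_inf (inf_le_left.trans inf_le_left) ?_) h.le))
      rw [← Grp.centralizer_singleton_eq_zpowers]
      intro z hz
      refine Subgroup.mem_centralizer_singleton_iff.mpr ?_
      have e1 := Subgroup.mem_centralizer_iff.mp hz.1.2 y₁ hy₁
      have e2 := Subgroup.mem_centralizer_iff.mp hz.2.2 y₂ hy₂
      rw [← mul_assoc, ← e1, mul_assoc, ← e2, mul_assoc]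
    · have h' : y₁ * y₂ ∈ X₁ := h ▸ Subgroup.mem_zpowers _
      have h'' : y₂ ∈ X₁ := by simpa using X₁.mul_mem (X₁.inv_mem hy₁) h'
      exact h₁₂ ((hgenX X₁ y₂ hc₁ h'' hy₂' h₁).symm.trans (hgenX X₂ y₂ hc₂ hy₂ hy₂' h₂))
    · have h' : y₁ * y₂ ∈ X₂ := h ▸ Subgroup.mem_zpowers _
      have h'' : y₁ ∈ X₂ := by simpa using X₂.mul_mem h' (X₂.inv_mem hy₂)
      exact h₁₂ ((hgenX X₁ y₁ hc₁ hy₁ hy₁' h₁).symm.trans (hgenX X₂ y₁ hc₂ h'' hy₁' h₂))
  refine ⟨?_, hbot, hPAB⟩
  set L := fun n => (P : Subgroup S).lowerCentralSeries n with hL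
  have hLn : ∀ n, (L n).Normal := fun n => by
    induction n with
    | zero => exact (inferInstance : (P : Subgroup S).Normal)
    | succ d ih =>
      haveI : ((P : Subgroup S).lowerCentralSeries d).Normal := ih
      show (⁅(P : Subgroup S).lowerCentralSeries d, (P : Subgroup S)⁆).Normal
      infer_instance
  have hLP : ∀ n, L n ≤ (P : Subgroup S) := fun n => by
    induction n with
    | zero => exact le_rfl
    | succ d ih => exact Subgroup.commutator_le_right _ _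
  -- the symmetrical step
  have side : ∀ (n : ℕ) (U V : Subgroup S) (x : S), U ≤ (P : Subgroup S) → V ≤ (P : Subgroup S) →
      x ∈ Subgroup.normalizer (V : Set S) → (∀ u ∈ U, x * u = u * x) → (∀ v ∈ V, x * v = v * x → v = 1) →
      L n ≤ (L n ⊓ U) ⊔ (L n ⊓ V) → (∀ u ∈ U, ∀ v ∈ V, ⁅u, v⁆ ∈ L n) →
      ∀ u ∈ U, ∀ v ∈ V, ⁅u, v⁆ ∈ (L n ⊓ V) ⊔ L (n + 1) := by
    intro n U V x hUP hVP hxV hxU hfree hgen hUV u hu v hv
    haveI := hLn (n + 1)
    set π := QuotientGroup.mk' (L (n + 1)) with hπ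
    set W := (L n ⊓ V) ⊔ L (n + 1) with hW
    have hcen : ∀ w ∈ L n, ∀ z ∈ (P : Subgroup S), π w * π z = π z * π w := fun w hw z hz => by
      have h1 : π ⁅w, z⁆ = 1 :=
        (QuotientGroup.eq_one_iff _).mpr (Subgroup.commutator_mem_commutator hw hz)
      rw [map_commutatorElement] at h1
      exact commutatorElement_eq_one_iff_mul_comm.mp h1
    have hfx : ∀ b : ↥V, x * (b : S) * x⁻¹ * (b : S)⁻¹ ∈ V := fun b =>
      V.mul_mem ((Subgroup.mem_normalizer_iff.mp hxV _).mp b.2) (V.inv_mem b.2)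
    let f : ↥V → ↥V := fun b => ⟨x * (b : S) * x⁻¹ * (b : S)⁻¹, hfx b⟩
    have hinj : Function.Injective f := by
      intro b c hbc
      have e : x * (b : S) * x⁻¹ * (b : S)⁻¹ = x * (c : S) * x⁻¹ * (c : S)⁻¹ := congrArg Subtype.val hbc
      have h1 : x * ((c : S)⁻¹ * b) = ((c : S)⁻¹ * b) * x := by
        calc x * ((c : S)⁻¹ * b) = (x * (c : S) * x⁻¹)⁻¹ * (x * (b : S) * x⁻¹ * (b : S)⁻¹) * b * x := by group
          _ = (x * (c : S) * x⁻¹)⁻¹ * (x * (c : S) * x⁻¹ * (c : S)⁻¹) * b * x := by rw [e]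
          _ = ((c : S)⁻¹ * b) * x := by group
      have := hfree _ (V.mul_mem (V.inv_mem c.2) b.2) h1
      exact Subtype.ext (by rw [← inv_inv (c : S)]; exact eq_inv_of_mul_eq_one_right this)
    obtain ⟨b, hb⟩ := Finite.surjective_of_injective hinj ⟨v, hv⟩
    have hvb : v = x * (b : S) * x⁻¹ * (b : S)⁻¹ := (congrArg Subtype.val hb).symm
    set w := ⁅u, (b : S)⁆ with hwdef
    have hw : w ∈ L n := hUV u hu b b.2
    -- reduction to a commutator with `x`
    have key : π ⁅u, v⁆ = π (x * w * x⁻¹ * w⁻¹) := by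
      set b' := x * (b : S) * x⁻¹ with hb'
      have hb'V : b' ∈ V := (Subgroup.mem_normalizer_iff.mp hxV _).mp b.2
      have e1 : ⁅u, b' * (b : S)⁻¹⁆ = ⁅u, b'⁆ * b' * ⁅u, (b : S)⁻¹⁆ * b'⁻¹ := by
        simp only [commutatorElement_def]; group
      have e2 : ⁅u, (b : S)⁻¹⁆ = (b : S)⁻¹ * w⁻¹ * b := by
        simp only [hwdef, commutatorElement_def]; group
      have e3 : ⁅u, b'⁆ = x * w * x⁻¹ := by
        have hu' : x⁻¹ * u * x = u := by rw [mul_assoc, ← hxU u hu, inv_mul_cancel_left]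
        have hu'' : x * u * x⁻¹ = u := by rw [hxU u hu, mul_inv_cancel_right]
        calc ⁅u, b'⁆ = ⁅x * u * x⁻¹, x * (b : S) * x⁻¹⁆ := by rw [hu'']
          _ = x * w * x⁻¹ := by simp only [hwdef, commutatorElement_def]; group
      have hz : b' * (b : S)⁻¹ ∈ (P : Subgroup S) := hVP (V.mul_mem hb'V (V.inv_mem b.2))
      have hc := hcen _ ((L n).inv_mem hw) _ hz
      rw [hvb]
      calc π ⁅u, b' * (b : S)⁻¹⁆ = π (x * w * x⁻¹) * (π (b' * (b : S)⁻¹) * π w⁻¹) * π (b' * (b : S)⁻¹)⁻¹ := by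
            rw [e1, e2, e3]; simp only [← map_mul]; congr 1; group
        _ = π (x * w * x⁻¹) * (π w⁻¹ * π (b' * (b : S)⁻¹)) * π (b' * (b : S)⁻¹)⁻¹ := by rw [hc]
        _ = π (x * w * x⁻¹ * w⁻¹) := by simp only [← map_mul]; congr 1; group
    have hWn : L n ≤ Subgroup.normalizer (W : Set S) := by
      intro g hg
      have hWle : W ≤ L n := sup_le inf_le_left
        (Subgroup.commutator_le_left _ _)
      rw [Subgroup.mem_normalizer_iff]
      intro y
      have hclass : ∀ g ∈ L n, ∀ y ∈ W, g * y * g⁻¹ ∈ W := fun g hg y hy => by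
        have h1 : π (g * y * g⁻¹) = π y := by
          rw [map_mul, map_mul, hcen g hg y (hLP n (hWle hy)), mul_assoc, ← map_mul, mul_inv_cancel, map_one, mul_one]
        have h2 : y⁻¹ * (g * y * g⁻¹) ∈ L (n + 1) := (QuotientGroup.eq).mp h1.symm
        simpa using W.mul_mem hy (Subgroup.mem_sup_right h2)
      refine ⟨hclass g hg y, fun h => ?_⟩
      simpa [mul_assoc] using hclass g⁻¹ ((L n).inv_mem hg) _ h
    have hstep : ∀ z ∈ L n, x * z * x⁻¹ * z⁻¹ ∈ W := by
      intro z hz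
      suffices h : z ∈ L n ∧ x * z * x⁻¹ * z⁻¹ ∈ W from h.2
      have hz' := hgen hz
      rw [Subgroup.sup_eq_closure] at hz'
      clear hz
      induction hz' using Subgroup.closure_induction with
      | mem y hy =>
        rcases hy with hy | hy
        · refine ⟨hy.1, ?_⟩
          rw [hxU y hy.2, mul_inv_cancel_right, mul_inv_cancel]; exact W.one_mem
        · refine ⟨hy.1, Subgroup.mem_sup_left ⟨?_, hfx ⟨y, hy.2⟩⟩⟩
          exact (L n).mul_mem ((hLn n).conj_mem y hy.1 x) ((L n).inv_mem hy.1)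
      | one => exact ⟨(L n).one_mem, by simp⟩
      | mul y z' _ _ ihy ihz =>
        refine ⟨(L n).mul_mem ihy.1 ihz.1, ?_⟩
        have h1 := W.mul_mem ihy.2 ((Subgroup.mem_normalizer_iff.mp (hWn ihy.1) _).mp ihz.2)
        convert h1 using 1
        group
      | inv y _ ihy =>
        refine ⟨(L n).inv_mem ihy.1, ?_⟩
        have h1 := (Subgroup.mem_normalizer_iff.mp (hWn ((L n).inv_mem ihy.1)) _).mp (W.inv_mem ihy.2)
        convert h1 using 1
        group
    have h4 : π ⁅u, v⁆ ∈ W.map π := key ▸ Subgroup.mem_map_of_mem π (hstep w hw)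
    have hker : π.ker ≤ W := by rw [hπ, QuotientGroup.ker_mk']; exact le_sup_right
    rw [← Subgroup.comap_map_eq_self hker]
    exact h4
  obtain ⟨x₁, hx₁, hx₁'⟩ : ∃ y ∈ X₁, y ≠ 1 := by
    by_contra h; push Not at h
    have : X₁ = ⊥ := (Subgroup.eq_bot_iff_forall X₁).mpr h
    rw [this, Subgroup.card_bot] at hc₁; exact hq.one_lt.ne hc₁
  obtain ⟨x₂, hx₂, hx₂'⟩ : ∃ y ∈ X₂, y ≠ 1 := by
    by_contra h; push Not at h
    have : X₂ = ⊥ := (Subgroup.eq_bot_iff_forall X₂).mpr h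
    rw [this, Subgroup.card_bot] at hc₂; exact hq.one_lt.ne hc₂
  have hg₁ := hgenX X₁ x₁ hc₁ hx₁ hx₁' h₁
  have hg₂ := hgenX X₂ x₂ hc₂ hx₂ hx₂' h₂
  have hQinv : ∀ X : Subgroup S, X ≤ Q → Q ≤ Subgroup.normalizer
      (((P : Subgroup S) ⊓ Subgroup.centralizer (X : Set S) : Subgroup S) : Set S) := fun X hX y hy => by
    have hc : ∀ t ∈ X, MulAut.conj y t = t := fun t ht => by
      have := congrArg Subtype.val (hQab.is_comm.comm ⟨y, hy⟩ ⟨t, hX ht⟩)
      simp only [Subgroup.coe_mul] at this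
      rw [MulAut.conj_apply, this, mul_inv_cancel_right]
    have hyC : y ∈ Subgroup.centralizer (X : Set S) := Subgroup.mem_centralizer_iff.mpr fun t ht =>
      (congrArg Subtype.val (hQab.is_comm.comm ⟨t, hX ht⟩ ⟨y, hy⟩))
    rw [Grp.mem_normalizer_iff_smul, Subgroup.smul_inf, Grp.conj_smul_eq_self_of_mem hyC,
      Grp.normalizer_le_smul (hQn _ inferInstance) hy]
  have hfree₁ : ∀ v ∈ B, x₁ * v = v * x₁ → v = 1 := fun v hv h => by
    have hvA : v ∈ A := by
      refine ⟨hv.1, ?_⟩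
      rw [← hg₁, ← Grp.centralizer_singleton_eq_zpowers]
      exact Subgroup.mem_centralizer_singleton_iff.mpr h.symm
    exact Subgroup.mem_bot.mp (hbot ▸ (show v ∈ A ⊓ B from ⟨hvA, hv⟩))
  have hfree₂ : ∀ v ∈ A, x₂ * v = v * x₂ → v = 1 := fun v hv h => by
    have hvB : v ∈ B := by
      refine ⟨hv.1, ?_⟩
      rw [← hg₂, ← Grp.centralizer_singleton_eq_zpowers]
      exact Subgroup.mem_centralizer_singleton_iff.mpr h.symm
    exact Subgroup.mem_bot.mp (hbot ▸ (show v ∈ A ⊓ B from ⟨hv, hvB⟩))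
  have main : ∀ n, ∀ a ∈ A, ∀ b ∈ B, ⁅a, b⁆ ∈ L n := by
    intro n
    induction n with
    | zero =>
      intro a ha b hb
      exact (P : Subgroup S).mul_mem ((P : Subgroup S).mul_mem ((P : Subgroup S).mul_mem ha.1 hb.1)
        ((P : Subgroup S).inv_mem ha.1)) ((P : Subgroup S).inv_mem hb.1)
    | succ n ih =>
      intro a ha b hb
      have hg := hdec (L n) (hLP n) (hQn _ (hLn n))
      have s1 := side n A B x₁ inf_le_left inf_le_left (hQinv X₂ h₂ (h₁ hx₁))
        (fun u hu => Subgroup.mem_centralizer_iff.mp hu.2 x₁ hx₁) hfree₁ hg ih a ha b hb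
      have s2 := side n B A x₂ inf_le_left inf_le_left (hQinv X₁ h₁ (h₂ hx₂))
        (fun u hu => Subgroup.mem_centralizer_iff.mp hu.2 x₂ hx₂) hfree₂ (sup_comm (L n ⊓ A) (L n ⊓ B) ▸ hg)
        (fun u hu v hv => by rw [← commutatorElement_inv]; exact (L n).inv_mem (ih v hv u hu)) b hb a ha
      set w := ⁅a, b⁆ with hwdef
      rw [← commutatorElement_inv, ← hwdef, inv_mem_iff] at s2
      haveI := hLn (n + 1)
      set π := QuotientGroup.mk' (L (n + 1)) with hπ
      set T := (Subgroup.centralizer ({π w} : Set (S ⧸ L (n + 1)))).comap π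
      have hfixT : ∀ (U X : Subgroup S), (∀ u ∈ U, u ∈ Subgroup.centralizer (X : Set S)) →
          w ∈ (L n ⊓ U) ⊔ L (n + 1) → X ≤ T := by
        intro U X hU hw y hy
        obtain ⟨u, hu, z, hz, e⟩ := Subgroup.mem_sup_of_normal_right.mp hw
        have hπw : π w = π u := by
          rw [← e, map_mul, show π z = 1 from (QuotientGroup.eq_one_iff z).mpr hz, mul_one]
        refine Subgroup.mem_comap.mpr (Subgroup.mem_centralizer_singleton_iff.mpr ?_)
        rw [hπw, ← map_mul, ← map_mul, Subgroup.mem_centralizer_iff.mp (hU u hu.2) y hy]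
      have hQT : Q ≤ T := hQeq ▸ sup_le (hfixT A X₁ (fun u hu => hu.2) s2) (hfixT B X₂ (fun u hu => hu.2) s1)
      obtain ⟨c, hc, hcw⟩ := Grp.exists_fixed_rep Q (L n) (L (n + 1)) (hQn _ (hLn n))
        (Grp.inf_eq_bot_of_coprime (hcop _ (hLP n))) (hcop _ (hLP _))
        (Or.inl (Group.isSolvable_of_comm mul_comm'))
        (Subgroup.commutator_le_left _ _) (by rw [Subgroup.normalizer_eq_top (L (n + 1))]; exact le_top)
        (hQn _ (hLn _)) (ih a ha b hb) (fun y hy => by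
          have h1 := Subgroup.mem_centralizer_singleton_iff.mp (Subgroup.mem_comap.mp (hQT hy))
          apply (QuotientGroup.eq_one_iff _).mp
          show π (y * w * y⁻¹ * w⁻¹) = 1
          simp only [map_mul, map_inv]
          rw [h1]; group)
      have hc1 : c = 1 := Subgroup.mem_bot.mp (hbot ▸ (show c ∈ A ⊓ B from
        ⟨⟨hLP n hc.1, Subgroup.centralizer_le (SetLike.coe_subset_coe.mpr h₁) hc.2⟩,
         ⟨hLP n hc.1, Subgroup.centralizer_le (SetLike.coe_subset_coe.mpr h₂) hc.2⟩⟩))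
      rw [hc1, mul_one, inv_mem_iff] at hcw
      exact hcw
  obtain ⟨n, hn⟩ := Subgroup.nilpotent_iff_lowerCentralSeries.mp P.isPGroup'.isNilpotent
  have hmap : ∀ k, L k = ((⊤ : Subgroup ↥(P : Subgroup S)).lowerCentralSeries k).map (P : Subgroup S).subtype := by
    intro k
    induction k with
    | zero => simp [hL, ← MonoidHom.range_eq_map]
    | succ d ih =>
      show ⁅L d, (P : Subgroup S)⁆ = _
      rw [Subgroup.lowerCentralSeries_succ, Subgroup.map_commutator, ← ih, ← MonoidHom.range_eq_map,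
        Subgroup.range_subtype]
  rw [eq_bot_iff, Subgroup.commutator_le]
  intro a ha b hb
  have := main n a ha b hb
  rwa [hmap, hn, Subgroup.map_bot] at this

end Cfsg.Agent.S1900
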