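import Cfsg.Statements.S1901
import Cfsg.Prelude.Def_Local
-- import your own Cfsg.Agent.* helpers here

set_option autoImplicit false
open Cfsg

namespace Cfsg.Agent.S1901

theorem mem_of_pow_mem' {G : Type*} [Group G] {H : Subgroup G} {x : G} {k : ℕ} (h : x ^ k ∈ H)
    (hco : k.Coprime (orderOf x)) : x ∈ H := by
  obtain ⟨m, hm⟩ := exists_pow_eq_self_of_coprime hco
  exact hm ▸ pow_mem h m

theorem p_elements_centralize {G : Type*} [Group G] [Finite G] {p : ℕ} [Fact p.Prime]
    (hG : Cfsg.IsPSolvable p G) (Q : Subgroup G) (hQ : ¬ p ∣ Nat.card Q) (P : Sylow p G)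
    (hQP : Q ≤ Subgroup.normalizer ((P : Subgroup G) : Set G)) {x : G}
    (hxQ : x ∈ Subgroup.normalizer (Q : Set G)) {a : ℕ} (hx : orderOf x = p ^ a) :
    x ∈ Subgroup.centralizer (Q : Set G) := by
  obtain ⟨n, H, h0, hlast, hmono, hnorm, hstep⟩ := hG
  have hp := (Fact.out : p.Prime)
  have hQord : ∀ q ∈ Q, (orderOf q).Coprime p := fun q hq => by
    refine (hp.coprime_iff_not_dvd.mpr fun hd => hQ (hd.trans ?_)).symm
    rw [← Subgroup.orderOf_mk q hq]
    exact orderOf_dvd_natCard _
  have hcQ : ∀ q ∈ Q, x * q * x⁻¹ * q⁻¹ ∈ Q := fun q hq =>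
    mul_mem ((Subgroup.mem_normalizer_iff.mp hxQ q).mp hq) (inv_mem hq)
  have key : ∀ i : Fin (n + 1), ∀ q ∈ Q, x * q * x⁻¹ * q⁻¹ ∈ H i := by
    intro i
    induction i using Fin.reverseInduction with
    | last => intro q _; rw [hlast]; trivial
    | cast i ih =>
      have : (H i.castSucc).Normal := hnorm _
      have : (H i.succ).Normal := hnorm _
      set L := H i.castSucc with hL
      set M := H i.succ with hM
      have hLM : L ≤ M := hmono (Fin.castSucc_le_succ i)
      have hrel : ∀ w ∈ M, w ^ L.relIndex M ∈ L := fun w hw => by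
        have h1 : (⟨w, hw⟩ : M) ^ (L.subgroupOf M).index ∈ L.subgroupOf M :=
          Subgroup.pow_index_mem _ _
        simpa [Subgroup.mem_subgroupOf, Subgroup.relIndex] using h1
      intro q hq
      rcases hstep i with ⟨m, hm⟩ | hcop
      · refine mem_of_pow_mem' (hrel _ (ih q hq)) ?_
        rw [hm]
        exact (Nat.Coprime.pow_left m (hQord _ (hcQ q hq)).symm)
      · set f := QuotientGroup.mk' L with hf
        set Y := Q ⊓ M with hY
        set Ybar := Y.map f with hYbar
        set N := Subgroup.normalizer (Ybar : Set (G ⧸ L)) with hN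
        set C := Subgroup.centralizer (Ybar : Set (G ⧸ L)) with hC
        let PP := P.mapSurjective (QuotientGroup.mk'_surjective L)
        have hPC : (PP : Subgroup (G ⧸ L)) ≤ C := by
          rintro _ ⟨s, hs, rfl⟩
          refine Subgroup.mem_centralizer_iff.mpr ?_
          rintro _ ⟨y, hy, rfl⟩
          have h1 : y * s * y⁻¹ * s⁻¹ ∈ (P : Subgroup G) :=
            mul_mem ((Subgroup.mem_normalizer_iff.mp (hQP hy.1) s).mp hs) (inv_mem hs)
          have h2 : y * s * y⁻¹ * s⁻¹ ∈ M := by
            rw [show y * s * y⁻¹ * s⁻¹ = y * (s * y⁻¹ * s⁻¹) by group]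
            exact mul_mem hy.2 (‹M.Normal›.conj_mem _ (inv_mem hy.2) s)
          have h3 : y * s * y⁻¹ * s⁻¹ ∈ L := by
            refine mem_of_pow_mem' (hrel _ h2) ?_
            obtain ⟨k, hk⟩ := IsPGroup.iff_orderOf.mp P.isPGroup' ⟨_, h1⟩
            rw [Subgroup.orderOf_mk] at hk
            rw [hk]
            exact hcop.pow_right k
          have h4 : f (y * s * y⁻¹ * s⁻¹) = 1 := (QuotientGroup.eq_one_iff _).mpr h3
          rw [map_mul, map_mul, map_mul, map_inv, map_inv, mul_inv_eq_one, mul_inv_eq_iff_eq_mul] at h4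
          exact h4
        have hxN : f x ∈ N := by
          refine Subgroup.mem_normalizer_fintype ?_
          rintro _ ⟨y, hy, rfl⟩
          refine ⟨x * y * x⁻¹, ⟨(Subgroup.mem_normalizer_iff.mp hxQ y).mp hy.1,
            ‹M.Normal›.conj_mem y hy.2 x⟩, ?_⟩
          simp
        have hCN : C ≤ N := Subgroup.centralizer_le_normalizer _
        have hCn : (C.subgroupOf N).Normal := by
          refine ⟨fun c hc g => ?_⟩
          rw [Subgroup.mem_subgroupOf] at hc ⊢
          refine Subgroup.mem_centralizer_iff.mpr fun y hy => ?_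
          have h1 : (g : G ⧸ L)⁻¹ * y * g ∈ Ybar := by
            have := (Subgroup.mem_normalizer_iff.mp (inv_mem g.2) y).mp hy
            simpa using this
          have h2 := Subgroup.mem_centralizer_iff.mp hc _ h1
          push_cast
          calc y * ((g : G ⧸ L) * c * (g : G ⧸ L)⁻¹) = g * ((g : G ⧸ L)⁻¹ * y * g * c) * (g : G ⧸ L)⁻¹ := by group
            _ = g * (c * ((g : G ⧸ L)⁻¹ * y * g)) * (g : G ⧸ L)⁻¹ := by rw [h2]
            _ = g * c * (g : G ⧸ L)⁻¹ * y := by group
        have hidx : ¬ p ∣ (C.subgroupOf N).index := fun hd => PP.not_dvd_index (by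
          rw [← Subgroup.relIndex_mul_index (hPC.trans hCN),
            ← Subgroup.relIndex_mul_relIndex _ C N hPC hCN]
          exact (Dvd.dvd.mul_left hd _).mul_right _)
        have hxC : f x ∈ C := by
          have h1 : (⟨f x, hxN⟩ : N) ^ (C.subgroupOf N).index ∈ C.subgroupOf N :=
            Subgroup.pow_index_mem _ _
          have h2 : (⟨f x, hxN⟩ : N) ∈ C.subgroupOf N := by
            refine mem_of_pow_mem' h1 ?_
            rw [Subgroup.orderOf_mk]
            exact Nat.Coprime.coprime_dvd_right (orderOf_map_dvd f x)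
              (hx ▸ (hp.coprime_iff_not_dvd.mpr hidx).symm.pow_right a)
          exact h2
        -- `x` stabilizes a chain
        set c := x * q * x⁻¹ * q⁻¹ with hc
        have hcomm : f x * f c = f c * f x :=
          (Subgroup.mem_centralizer_iff.mp hxC (f c) ⟨c, ⟨hcQ q hq, ih q hq⟩, rfl⟩).symm
        have hiter : ∀ k : ℕ, f x ^ k * f q * (f x ^ k)⁻¹ = f c ^ k * f q := by
          intro k
          induction k with
          | zero => simp
          | succ k ihk =>
            have hxq : f x * f q * (f x)⁻¹ = f c * f q := by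
              rw [hc]; simp
            calc f x ^ (k + 1) * f q * (f x ^ (k + 1))⁻¹
                = f x * (f x ^ k * f q * (f x ^ k)⁻¹) * (f x)⁻¹ := by rw [pow_succ']; group
              _ = f x * f c ^ k * (f x)⁻¹ * (f x * f q * (f x)⁻¹) := by rw [ihk]; group
              _ = f c ^ k * (f c * f q) := by
                rw [hxq, ((show Commute (f x) (f c) from hcomm).pow_right k).eq, mul_inv_cancel_right]
              _ = f c ^ (k + 1) * f q := by rw [pow_succ]; group
        have h1 := hiter (orderOf x)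
        rw [← map_pow, pow_orderOf_eq_one, map_one, one_mul, inv_one, mul_one, ← map_pow] at h1
        have h2 : c ^ orderOf x ∈ L := (QuotientGroup.eq_one_iff _).mp (mul_eq_right.mp h1.symm)
        refine mem_of_pow_mem' h2 ?_
        rw [hx]
        exact (hQord _ (hcQ q hq)).symm.pow_left a
  refine Subgroup.mem_centralizer_iff.mpr fun q hq => ?_
  have h1 := key 0 q hq
  rw [h0, Subgroup.mem_bot, mul_inv_eq_one, mul_inv_eq_iff_eq_mul] at h1
  exact h1.symm

/-- Let G be a finite p-solvable group and Q a subgroup of order prime to p such that p divides the index of C_G(Q) in N_G(Q). Then Q normalizes no Sylow p-subgroup of G. -/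
theorem result {G : Type*} [Group G] [Finite G] {p : ℕ} [Fact p.Prime]
    (hG : Cfsg.IsPSolvable p G) (Q : Subgroup G) (hQ : ¬ p ∣ Nat.card Q)
    (hA : p ∣ (Subgroup.centralizer (Q : Set G)).relIndex (Subgroup.normalizer (Q : Set G)))
    (P : Sylow p G) : ¬ Q ≤ Subgroup.normalizer ((P : Subgroup G) : Set G) := by
  intro hQP
  set N := Subgroup.normalizer (Q : Set G) with hN
  set C := Subgroup.centralizer (Q : Set G) with hC
  obtain ⟨R⟩ : Nonempty (Sylow p N) := inferInstance
  have hle : (R : Subgroup N) ≤ C.subgroupOf N := by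
    intro r hr
    obtain ⟨k, hk⟩ := IsPGroup.iff_orderOf.mp R.isPGroup' ⟨r, hr⟩
    rw [Subgroup.orderOf_mk, ← Subgroup.orderOf_coe] at hk
    exact p_elements_centralize hG Q hQ P hQP r.2 hk
  exact R.not_dvd_index (hA.trans (Subgroup.index_dvd_of_le hle))

end Cfsg.Agent.S1901
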