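import Cfsg.Statements.S1903
import Cfsg.Agent.Lib.Grp.TwoFiveModel
import Cfsg.Agent.Lib.Recog.SU3SylowBasic
-- import your own Cfsg.Agent.* helpers here

set_option autoImplicit false
open Cfsg

namespace Cfsg.Agent.S1903

section
open Cfsg.Agent.Classical Cfsg.Agent.Recog.SU3Two
open scoped Matrix
open scoped commutatorElement

variable {F : Type*} [Field F] [Fintype F] [CharP F 2] [hF : Fact (Fintype.card F = 4 ^ 2)] {x : F} (hx : x + x ^ 4 = 1)

/-- The unit of the fixed field. -/
def oneFx : Fx F 4 := ⟨1, one_pow 4⟩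

/-- The conjugated matrix. -/
def cmat (x : F) (g : SU 3 F 4) : Matrix (Fin 3) (Fin 3) F := chgInv x 4 * suVal g * chg x

include hx

theorem cmat_mul (g h : SU 3 F 4) : cmat x (g * h) = cmat x g * cmat x h := by
  unfold cmat
  rw [suVal_mul, ← Matrix.mul_assoc (chgInv x 4 * suVal g * chg x), ← Matrix.mul_assoc (chgInv x 4 * suVal g * chg x),
    Matrix.mul_assoc (chgInv x 4 * suVal g) (chg x), chg_mul hx, Matrix.mul_one, Matrix.mul_assoc (chgInv x 4) (suVal g)]

theorem cmat_embed (u : UT F 4) : cmat x (embed hx u) = umat u := by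
  show chgInv x 4 * (chg x * umat u * chgInv x 4) * chg x = _
  rw [← Matrix.mul_assoc, ← Matrix.mul_assoc, chgInv_mul hx, Matrix.one_mul, Matrix.mul_assoc, chgInv_mul hx, Matrix.mul_one]

theorem cmat_inj {g h : SU 3 F 4} (e : cmat x g = cmat x h) : g = h := by
  refine suVal_ext ?_
  have e' := congrArg (fun M => chg x * M * chgInv x 4) e
  simp only [cmat, ← Matrix.mul_assoc, chg_mul hx, Matrix.one_mul] at e'
  simpa only [Matrix.mul_assoc, chg_mul hx, Matrix.mul_one] using e'

theorem cmat_one : cmat x (1 : SU 3 F 4) = 1 := by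
  show chgInv x 4 * 1 * chg x = 1
  rw [Matrix.mul_one, chgInv_mul hx]

theorem cmat_gram (g : SU 3 F 4) : (cmat x g)ᵀ * gram * (cmat x g).map (qFrob hF.out) = gram := by
  have h1 : chg x * cmat x g = suVal g * chg x := by
    rw [cmat, ← Matrix.mul_assoc, ← Matrix.mul_assoc, chg_mul hx, Matrix.one_mul]
  set c := qFrob hF.out
  calc (cmat x g)ᵀ * gram * (cmat x g).map c
      = (chg x * cmat x g)ᵀ * (chg x * cmat x g).map c := by
        rw [Matrix.transpose_mul, Matrix.map_mul, ← chg_gram hx]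
        simp only [Matrix.mul_assoc]
        rfl
    _ = (chg x)ᵀ * ((suVal g)ᵀ * (suVal g).map c) * (chg x).map c := by
        rw [h1, Matrix.transpose_mul, Matrix.map_mul]
        simp only [Matrix.mul_assoc]
    _ = gram := by rw [suVal_transpose_mul hF.out, Matrix.mul_one, chg_gram hx]

theorem cmat_det (g : SU 3 F 4) : (cmat x g).det = 1 := by
  rw [cmat, Matrix.det_mul, Matrix.det_mul, mul_right_comm, ← Matrix.det_mul, chgInv_mul hx, Matrix.det_one, one_mul]
  exact g.1.2

theorem exists_cmat (A : Matrix (Fin 3) (Fin 3) F) (hd : A.det = 1)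
    (hA : Aᵀ * gram * A.map (qFrob hF.out) = gram) : ∃ g, cmat x g = A := by
  refine ⟨suMk hF.out (chg x * A * chgInv x 4) ?_ ?_, ?_⟩
  · rw [Matrix.det_mul, Matrix.det_mul, mul_right_comm, ← Matrix.det_mul, chg_mul hx, Matrix.det_one, one_mul, hd]
  · set P := chg x
    set Q := chgInv x 4
    set c := qFrob hF.out
    calc (P * A * Q)ᵀ * (P * A * Q).map c = Qᵀ * (Aᵀ * (Pᵀ * P.map c) * A.map c) * Q.map c := by
          rw [Matrix.transpose_mul, Matrix.transpose_mul, Matrix.map_mul, Matrix.map_mul]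
          simp only [Matrix.mul_assoc]
      _ = Qᵀ * gram * Q.map c := by rw [chg_gram hx, hA]
      _ = (P * Q)ᵀ * (P * Q).map c := by
          rw [Matrix.transpose_mul, Matrix.map_mul, ← chg_gram hx]
          simp only [Matrix.mul_assoc]
          rfl
      _ = 1 := by rw [chg_mul hx, Matrix.transpose_one, Matrix.map_one _ (map_zero c) (map_one c), one_mul]
  · show chgInv x 4 * (chg x * A * chgInv x 4) * chg x = A
    rw [← Matrix.mul_assoc, ← Matrix.mul_assoc, chgInv_mul hx, Matrix.one_mul, Matrix.mul_assoc, chgInv_mul hx, Matrix.mul_one]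

theorem shape {g : SU 3 F 4} (hg : g ∈ Subgroup.centralizer ({embed hx (UT.z oneFx)} : Set (SU 3 F 4))) :
    cmat x g 1 0 = 0 ∧ cmat x g 2 0 = 0 ∧ cmat x g 2 1 = 0 ∧ cmat x g 2 2 = cmat x g 0 0 := by
  have h := congrArg (cmat x) (Subgroup.mem_centralizer_singleton_iff.1 hg)
  rw [cmat_mul hx, cmat_mul hx, cmat_embed hx] at h
  have e00 := congrFun (congrFun h 0) 0
  have e01 := congrFun (congrFun h 0) 1
  have e12 := congrFun (congrFun h 1) 2
  have e02 := congrFun (congrFun h 0) 2
  simp [Matrix.mul_apply, Fin.sum_univ_three, umat, UT.z, oneFx] at e00 e01 e12 e02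
  refine ⟨?_, ?_, ?_, ?_⟩ <;> first | exact e12 | exact e00 | exact e01 | linear_combination -e02 | linear_combination e02 | linear_combination e12 | linear_combination e00 | linear_combination e01

theorem facts {g : SU 3 F 4} (hg : g ∈ Subgroup.centralizer ({embed hx (UT.z oneFx)} : Set (SU 3 F 4))) :
    cmat x g 0 0 ^ 5 = 1 ∧ (cmat x g 0 0 = 1 → ∃ u, embed hx u = g) := by
  obtain ⟨h10, h20, h21, h22⟩ := shape hx hg
  have hG := cmat_gram hx g
  have hd := cmat_det hx g
  rw [Matrix.det_fin_three, h10, h20, h21, h22] at hd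
  have e02 := congrFun (congrFun hG 0) 2
  have e12 := congrFun (congrFun hG 1) 2
  have e22 := congrFun (congrFun hG 2) 2
  simp [Matrix.mul_apply, Fin.sum_univ_three, gram, qFrob_apply, h10, h20, h21, h22] at e02 e12 e22
  refine ⟨by linear_combination e02, fun h1 => ?_⟩
  have h11 : cmat x g 1 1 = 1 := by rw [h1] at hd; linear_combination hd
  rw [h1, one_pow] at e22 e12
  rw [h11] at e12
  have h2 : (2 : F) = 0 := CharTwo.two_eq_zero
  refine ⟨⟨cmat x g 1 2, cmat x g 0 2, ?_⟩, cmat_inj hx ?_⟩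
  · linear_combination e22 - cmat x g 1 2 * cmat x g 1 2 ^ 4 * h2
  · rw [cmat_embed hx]
    ext i j
    fin_cases i <;> fin_cases j <;> simp [umat, h10, h20, h21, h22, h1, h11]
    linear_combination -e12 + cmat x g 1 2 ^ 4 * h2

theorem good : TwoFive.Good (Subgroup.centralizer ({embed hx (UT.z oneFx)} : Set (SU 3 F 4))) := by
  classical
  set C := Subgroup.centralizer ({embed hx (UT.z oneFx)} : Set (SU 3 F 4))
  let ρ : C →* F :=
    { toFun := fun g => cmat x g.1 0 0
      map_one' := by show cmat x (1 : SU 3 F 4) 0 0 = 1; rw [cmat_one hx]; rfl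
      map_mul' := fun g h => by
        show cmat x (g.1 * h.1) 0 0 = _
        rw [cmat_mul hx, Matrix.mul_apply, Fin.sum_univ_three, (shape hx h.2).1, (shape hx h.2).2.1]
        ring }
  let ρ' : C →* Fˣ := ρ.toHomUnits
  let j : UT F 4 →* C := (embed hx).codRestrict C fun u => Subgroup.mem_centralizer_singleton_iff.2 (by
    rw [← map_mul, ← map_mul, Subgroup.mem_center_iff.1 ((UT.mem_center_iff _).2 rfl) u])
  have hj : Function.Injective j := fun u v e => embed_injective hx (congrArg Subtype.val e)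
  have hjk : j.range = ρ'.ker := by
    ext g
    rw [MonoidHom.mem_ker, Units.ext_iff]
    constructor
    · rintro ⟨u, rfl⟩
      show cmat x (embed hx u) 0 0 = 1
      rw [cmat_embed hx]; rfl
    · intro h
      obtain ⟨u, hu⟩ := (facts hx g.2).2 h
      exact ⟨u, Subtype.ext hu⟩
  have tor : ∀ α : F, α ^ 5 = 1 → ∃ g ∈ C, cmat x g = Matrix.diagonal ![α, α ^ 3, α] := by
    intro α h5
    obtain ⟨g, hg⟩ := exists_cmat hx (Matrix.diagonal ![α, α ^ 3, α]) (by
      rw [Matrix.det_diagonal, Fin.prod_univ_three]; simp; linear_combination h5) (by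
      ext i k
      fin_cases i <;> fin_cases k <;>
        simp [gram, Matrix.mul_apply, Fin.sum_univ_three, qFrob_apply, Matrix.diagonal, pq_zero] <;>
        first | linear_combination h5 | linear_combination (α ^ 10 + α ^ 5 + 1) * h5)
    refine ⟨g, Subgroup.mem_centralizer_singleton_iff.2 (cmat_inj hx ?_), hg⟩
    rw [cmat_mul hx, cmat_mul hx, cmat_embed hx, hg]
    ext i k
    fin_cases i <;> fin_cases k <;> simp [umat, UT.z, oneFx, Matrix.mul_apply, Fin.sum_univ_three, Matrix.diagonal]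
  have hrange : ρ'.range = (powMonoidHom 5 : Fˣ →* Fˣ).ker := by
    ext α
    rw [MonoidHom.mem_ker, powMonoidHom_apply, Units.ext_iff, Units.val_pow_eq_pow_val, Units.val_one]
    constructor
    · rintro ⟨g, rfl⟩
      exact (facts hx g.2).1
    · intro h
      obtain ⟨g, hgC, hg⟩ := tor α h
      refine ⟨⟨g, hgC⟩, Units.ext ?_⟩
      show cmat x g 0 0 = _
      rw [hg]; rfl
  have h5c : Nat.card (powMonoidHom 5 : Fˣ →* Fˣ).ker = 5 := by
    rw [IsCyclic.card_powMonoidHom_ker, Nat.card_units, Nat.card_eq_fintype_card, hF.out]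
    norm_num
  have hker : Nat.card ρ'.ker = 64 := by
    rw [← hjk, ← Nat.card_congr (MonoidHom.ofInjective hj).toEquiv, UT.card]
    norm_num
  have hcard : Nat.card C = 320 := by
    rw [Subgroup.card_eq_card_quotient_mul_card_subgroup ρ'.ker,
      Nat.card_congr (QuotientGroup.quotientKerEquivRange ρ').toEquiv, hrange, h5c, hker]
  obtain ⟨α, hα5, hα1⟩ : ∃ α : F, α ^ 5 = 1 ∧ α ≠ 1 := by
    haveI : Nontrivial (powMonoidHom 5 : Fˣ →* Fˣ).ker := Finite.one_lt_card_iff_nontrivial.1 (by rw [h5c]; norm_num)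
    obtain ⟨a, ha⟩ := exists_ne (1 : (powMonoidHom 5 : Fˣ →* Fˣ).ker)
    refine ⟨((a : Fˣ) : F), ?_, fun e => ha (Subtype.ext (Units.ext e))⟩
    rw [← Units.val_pow_eq_pow_val, show (a : Fˣ) ^ 5 = 1 from a.2, Units.val_one]
  have hcomm : commutator C = ρ'.ker := by
    refine le_antisymm (Abelianization.commutator_subset_ker ρ') ?_
    rw [← hjk]
    rintro _ ⟨u, rfl⟩
    have h2 : α ^ 2 + 1 ≠ 0 := fun e => hα1 (by
      have e' : α ^ 2 = 1 := by linear_combination e - CharTwo.two_eq_zero (R := F)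
      linear_combination hα5 - (α ^ 3 + α) * e')
    obtain ⟨v, hv⟩ := UT.exists_mk (q := 4) (u.a / (α ^ 2 + 1))
    obtain ⟨d, hdC, hd⟩ := tor α hα5
    let v' : UT F 4 := ⟨α ^ 2 * v.a, v.b, by linear_combination v.eq - v.a * v.a ^ 4 * (α ^ 5 + 1) * hα5⟩
    have hc : (⟨d, hdC⟩ : C) * j v = j v' * ⟨d, hdC⟩ := by
      refine Subtype.ext (cmat_inj hx ?_)
      show cmat x (d * embed hx v) = cmat x (embed hx v' * d)
      rw [cmat_mul hx, cmat_mul hx, cmat_embed hx, cmat_embed hx, hd]
      ext i k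
      fin_cases i <;> fin_cases k <;> simp [umat, v', Matrix.mul_apply, Fin.sum_univ_three, Matrix.diagonal] <;>
        first | ring1 | linear_combination -(α * v.a ^ 4 * (α ^ 5 + 1)) * hα5
    have hw : j (v' * v⁻¹) ∈ commutator C := by
      have e : j (v' * v⁻¹) = ⁅(⟨d, hdC⟩ : C), j v⁆ := by
        rw [map_mul, map_inv, commutatorElement_def, hc]; group
      rw [e]
      exact Subgroup.commutator_mem_commutator (Subgroup.mem_top _) (Subgroup.mem_top _)
    set w := v' * v⁻¹ with hwdef
    have hwa : (w⁻¹ * u).a = 0 := by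
      show α ^ 2 * v.a + v.a + u.a = 0
      rw [hv]; field_simp
      linear_combination u.a * CharTwo.two_eq_zero (R := F)
    have hzk : w⁻¹ * u ∈ commutator (UT F 4) := by
      have he := (w⁻¹ * u).eq
      rw [hwa, zero_mul, CharTwo.add_eq_zero] at he
      have : w⁻¹ * u = UT.z ⟨(w⁻¹ * u).b, he.symm⟩ := UT.ext hwa rfl
      rw [this]
      exact UT.z_comm_mem _
    have hmap : (commutator (UT F 4)).map j ≤ commutator C := by
      rw [commutator_def, commutator_def, Subgroup.map_commutator]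
      exact Subgroup.commutator_mono le_top le_top
    rw [show u = w * (w⁻¹ * u) by group, map_mul]
    exact mul_mem hw (hmap (Subgroup.mem_map_of_mem j hzk))
  let e : UT F 4 ≃* commutator C :=
    (MonoidHom.ofInjective hj).trans (MulEquiv.subgroupCongr (hjk.trans hcomm.symm))
  refine ⟨hcard, by rw [hcomm, hker], ?_, ?_⟩
  · rw [← Nat.card_congr (Subgroup.centerCongr e).toEquiv, UT.card_center]
  · rw [← Monoid.exponent_eq_of_mulEquiv (Subgroup.centerCongr e)]
    haveI : Nontrivial (Subgroup.center (UT F 4)) := Finite.one_lt_card_iff_nontrivial.1 (by rw [UT.card_center]; norm_num)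
    refine (Monoid.exponent_eq_prime_iff Nat.prime_two).2 fun g hg => ?_
    refine orderOf_eq_prime (Subtype.ext ?_) hg
    rw [SubgroupClass.coe_pow]
    exact (UT.sq_eq_one_iff' g.1).2 ((UT.mem_center_iff _).1 g.2)


end

/-- A finite group of order 320 whose derived subgroup has order 64 and has centre a Klein four-group is isomorphic to the centralizer of an involution in PSU₃(4). -/
theorem result {G : Type*} [Group G] [Finite G] (hG : Nat.card G = 320) (hD : Nat.card (commutator G) = 64)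
    (hZ : IsKleinFour (Subgroup.center (commutator G)))
    {F : Type*} [Field F] [Fintype F] (hF : Fintype.card F = 16) :
    ∃ t : Cfsg.PSU 3 F 4, orderOf t = 2 ∧ Nonempty (G ≃* Subgroup.centralizer ({t} : Set (Cfsg.PSU 3 F 4))) := by
  haveI : Fact (Fintype.card F = 4 ^ 2) := ⟨by rw [hF]; norm_num⟩
  haveI : CharP F 2 := Recog.SU3Two.charP_two (m := 4) (by rw [hF]; norm_num)
  obtain ⟨x, hx⟩ := Recog.SU3Two.exists_trq_one (F := F) (q := 4)
  obtain ⟨e₁⟩ := TwoFive.iso_of_good (G := G) ⟨hG, hD, hZ⟩ (good hx)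
  have hc : Subgroup.center (SU 3 F 4) = ⊥ := by
    refine Subgroup.card_eq_one.1 ?_
    rw [Classical.natCard_center_SU (n := 3) (q := 4) (by rw [hF]; norm_num) (by norm_num)]
    rfl
  let e : SU 3 F 4 ≃* PSU 3 F 4 :=
    QuotientGroup.quotientBot.symm.trans (QuotientGroup.quotientMulEquivOfEq hc.symm)
  set t₀ := Recog.SU3Two.embed hx (Recog.SU3Two.UT.z oneFx) with ht₀
  refine ⟨e t₀, ?_, ?_⟩
  · rw [MulEquiv.orderOf_eq, ht₀, orderOf_injective _ (Recog.SU3Two.embed_injective hx)]
    refine orderOf_eq_prime ((Recog.SU3Two.UT.sq_eq_one_iff' _).2 rfl) fun h => one_ne_zero (α := F) ?_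
    exact congrArg Recog.SU3Two.UT.b h
  · have hm : (Subgroup.centralizer ({t₀} : Set (SU 3 F 4))).map e.toMonoidHom =
        Subgroup.centralizer ({e t₀} : Set (PSU 3 F 4)) := by
      ext y
      obtain ⟨y, rfl⟩ := e.surjective y
      rw [Subgroup.mem_centralizer_singleton_iff, ← map_mul, ← map_mul, e.injective.eq_iff,
        ← Subgroup.mem_centralizer_singleton_iff]
      exact Subgroup.mem_map_iff_mem (f := e.toMonoidHom) e.injective
    exact ⟨(e₁.trans (e.subgroupMap _)).trans (MulEquiv.subgroupCongr hm)⟩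

end Cfsg.Agent.S1903
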