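import Cfsg.Prelude
import Cfsg.Agent.Lib.Invol.NoSCNClassify
-- import your own Cfsg.Agent.* helpers here

set_option autoImplicit false
open Cfsg

open scoped Pointwise commutatorElement

namespace Cfsg.Agent.S1904

/-- Let X be a finite nonabelian 2-group with no normal abelian subgroup that is self-centralizing and contains an elementary abelian subgroup of order 8. Suppose a group A of automorphisms of X of odd order satisfies [X, A] = X. Then X is the quaternion group of order 8, or X is special of order 64 with exactly three involutions, all central, or X is extraspecial of order 32 with exactly eleven involutions (the central product of a quaternion group and a dihedral group of order 8). -/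
theorem result {X : Type*} [Group X] [Finite X] (hX : IsPGroup 2 X) (hna : ¬ IsMulCommutative X)
    (hscn : ¬ ∃ A : Subgroup X, A.Normal ∧ Subgroup.centralizer (A : Set X) = A ∧
      ∃ E : Subgroup X, E ≤ A ∧ Cfsg.IsElementaryAbelian 2 E ∧ Nat.card E = 8)
    (A : Subgroup (MulAut X)) (hA : Odd (Nat.card A))
    (hXA : Subgroup.closure {g : X | ∃ φ ∈ A, ∃ x : X, g = x⁻¹ * φ x} = ⊤) :
    Nonempty (X ≃* QuaternionGroup 2) ∨
      (Cfsg.IsSpecial 2 X ∧ Nat.card X = 64 ∧ Nat.card {x : X // orderOf x = 2} = 3 ∧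
        ∀ x : X, orderOf x = 2 → x ∈ Subgroup.center X) ∨
      (Cfsg.IsExtraspecial 2 X ∧ Nat.card X = 32 ∧ Nat.card {x : X // orderOf x = 2} = 11) := by
  classical
  haveI : Fact (Nat.Prime 2) := ⟨Nat.prime_two⟩
  haveI := Fintype.ofFinite X
  have h : Cfsg.Agent.Invol.NoSCN.Hyp A := by
    refine ⟨hX, hA, hXA, fun E hEn hEsq => ?_⟩
    by_contra hgt
    apply hscn
    obtain ⟨k, hk⟩ := IsPGroup.iff_card.mp (hX.to_subgroup E)
    have hk3 : 3 ≤ k := by
      by_contra hlt
      have : 2 ^ k ≤ 2 ^ 2 := Nat.pow_le_pow_right two_pos (by omega)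
      omega
    obtain ⟨K, hK⟩ := Sylow.exists_subgroup_card_pow_prime (G := E) 2 (n := 3)
      (hk ▸ pow_dvd_pow 2 hk3)
    have hEc : IsMulCommutative E := ⟨⟨fun a b => Subtype.ext (by
      have h1 := hEsq _ (mul_mem a.2 b.2)
      have h2 : ((a : X) * b)⁻¹ = a * b := inv_eq_of_mul_eq_one_right h1
      rw [mul_inv_rev, inv_eq_of_mul_eq_one_right (hEsq _ a.2),
        inv_eq_of_mul_eq_one_right (hEsq _ b.2)] at h2
      exact h2.symm)⟩⟩
    obtain ⟨B, hB⟩ := (Set.toFinite {B : Subgroup X | B.Normal ∧ IsMulCommutative B ∧ E ≤ B}).exists_maximal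
      ⟨E, hEn, hEc, le_rfl⟩
    obtain ⟨⟨hBn, hBc, hEB⟩, hmax⟩ := hB
    haveI := hBn
    refine ⟨B, hBn, Cfsg.Agent.Transfer.NormalSteps.centralizer_eq_of_max hX hBc (fun D hDn hDc hBD =>
      le_antisymm (hmax ⟨hDn, hDc, hEB.trans hBD⟩ hBD) hBD), K.map E.subtype,
      (Subgroup.map_subtype_le K).trans hEB, ⟨?_, ?_⟩, ?_⟩
    · haveI := hEc
      exact ⟨⟨fun a b => Subtype.ext (by
        obtain ⟨x, -, hx⟩ := a.2
        obtain ⟨y, -, hy⟩ := b.2
        show (a : X) * b = b * a
        rw [← hx, ← hy, ← map_mul, ← map_mul, mul_comm' x y])⟩⟩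
    · rintro a ⟨x, -, rfl⟩
      rw [pow_two]; exact hEsq _ x.2
    · rw [← Nat.card_congr (K.equivMapOfInjective E.subtype E.subtype_injective).toEquiv, hK]
      norm_num
  have hinv : Nat.card {x : X // orderOf x = 2} + 1 =
      (Finset.univ.filter fun x : X => x * x = 1).card := by
    have e : (Finset.univ.filter fun x : X => x * x = 1) =
        insert 1 (Finset.univ.filter fun x : X => orderOf x = 2) := by
      ext x
      simp only [Finset.mem_filter, Finset.mem_univ, true_and, Finset.mem_insert,
        orderOf_eq_prime_iff, pow_two]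
      constructor
      · intro hx
        by_cases h1 : x = 1
        · exact Or.inl h1
        · exact Or.inr ⟨hx, h1⟩
      · rintro (rfl | ⟨hx, -⟩)
        · exact one_mul 1
        · exact hx
    rw [e, Finset.card_insert_of_notMem (by simp), Nat.card_eq_fintype_card, Fintype.card_subtype]
  obtain ⟨hzc, hsqZ, hcard, -⟩ := h.center_eq hna
  have hspecial : Cfsg.IsSpecial 2 X := by
    refine ⟨hX, le_antisymm (Cfsg.Agent.Grp.frattini_le_of_elementary Nat.prime_two hzc.ge fun x => ?_) ?_, hzc.symm⟩
    · rw [pow_two]; exact h.sq_central x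
    · rw [hzc]; exact Cfsg.Agent.Grp.pGroup_commutator_le_frattini hX
  rcases hcard with h2 | h4
  · rcases h.classify_two hna h2 with ⟨h8, hN⟩ | ⟨h32, hN⟩
    · refine Or.inl ?_
      have huniq : ∀ u v : X, orderOf u = 2 → orderOf v = 2 → u = v := by
        intro u v hu hv
        by_contra hne
        have : 2 ≤ Nat.card {x : X // orderOf x = 2} := by
          rw [Nat.card_eq_fintype_card]
          exact Fintype.one_lt_card_iff.mpr ⟨⟨u, hu⟩, ⟨v, hv⟩, fun e => hne (congrArg Subtype.val e)⟩
        omega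
      rcases Cfsg.Agent.Grp.Ambivalent.cyclic_or_quaternion hX huniq with hc | ⟨n, ⟨e⟩⟩
      · haveI := hc
        exact absurd ⟨⟨fun a b => (IsCyclic.commGroup (α := X)).mul_comm a b⟩⟩ hna
      · haveI : NeZero (2 ^ (n + 1)) := ⟨by positivity⟩
        have hc := Fintype.card_congr e.toEquiv
        rw [QuaternionGroup.card, h8] at hc
        have : n = 0 := by
          rcases n with _ | n
          · rfl
          · have : 2 ^ 2 ≤ 2 ^ (n + 1 + 1) := Nat.pow_le_pow_right two_pos (by omega)
            omega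
        subst this
        exact ⟨e⟩
    · exact Or.inr (Or.inr ⟨⟨hspecial, h2⟩, by rw [Nat.card_eq_fintype_card, h32], by omega⟩)
  · obtain ⟨h64, hout⟩ := h.classify_four hna h4
    refine Or.inr (Or.inl ⟨hspecial, h64, ?_, fun x hx => hout x ?_⟩)
    · have : (Finset.univ.filter fun x : X => x * x = 1).card = 4 := by
        rw [← h4, Nat.card_eq_fintype_card, ← Fintype.card_subtype]
        exact Fintype.card_congr (Equiv.subtypeEquivRight fun x => ⟨hout x, hsqZ x⟩)
      omega
    · rw [← pow_two, ← hx, pow_orderOf_eq_one]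

end Cfsg.Agent.S1904
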