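import Cfsg.Prelude
import Cfsg.Agent.Lib.Invol.Basic
import Cfsg.Agent.Lib.Grp.Real
-- import your own Cfsg.Agent.* helpers here

set_option autoImplicit false
open Cfsg

open scoped Pointwise commutatorElement

namespace Cfsg.Agent.S1905

/-- Let M be a subgroup of even order of a finite group S such that M contains the centralizer in S of each of its involutions and the normal core of M in S has odd order. Then all involutions of S are conjugate. If moreover N_S(X) ≤ M for a Sylow 2-subgroup X of M and I is an involution in the centre of X, then all involutions of M are conjugate in M and M = M₀ C_M(I) for some subgroup M₀ of M of odd order. -/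
theorem result {S : Type*} [Group S] [Finite S] (M : Subgroup S) (hM : Even (Nat.card M))
    (hC : ∀ i ∈ M, orderOf i = 2 → Subgroup.centralizer ({i} : Set S) ≤ M) (hcore : Odd (Nat.card M.normalCore)) :
    (∀ x y : S, orderOf x = 2 → orderOf y = 2 → IsConj x y) ∧
      ∀ (X : Sylow 2 M) (I : M), I ∈ (Subgroup.center ↥(X : Subgroup ↥M)).map (X : Subgroup ↥M).subtype → orderOf I = 2 →
        Subgroup.normalizer (((X : Subgroup M).map M.subtype : Subgroup S) : Set S) ≤ M →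
        (∀ x y : M, orderOf x = 2 → orderOf y = 2 → IsConj x y) ∧
          ∃ M₀ : Subgroup M, Odd (Nat.card M₀) ∧
            ∀ m : M, ∃ a ∈ M₀, ∃ c ∈ Subgroup.centralizer ({I} : Set M), m = a * c := by
  classical
  haveI := Fintype.ofFinite S
  have cinv : ∀ {x : S}, orderOf x = 2 → x⁻¹ = x := fun h => Invol.inv_of_orderOf_two h
  -- the products of involutions inside and outside `M` have odd order
  have hodd : ∀ i ∈ M, orderOf i = 2 → ∀ j, orderOf j = 2 → j ∉ M → Odd (orderOf (i * j)) := by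
    intro i hi hi2 j hj2 hjM
    by_contra hne
    rw [Nat.not_odd_iff_even] at hne
    obtain ⟨k, hk⟩ := hne
    obtain ⟨w, hw⟩ : ∃ b, b = (i * j) ^ k := ⟨_, rfl⟩
    have hpos : 0 < orderOf (i * j) := orderOf_pos _
    have hw1 : w ≠ 1 := fun e => by
      have := orderOf_dvd_of_pow_eq_one (hw ▸ e : (i * j) ^ k = 1)
      have := Nat.le_of_dvd (by omega) this
      omega
    have hww : w * w = 1 := by rw [hw, ← pow_add, ← hk, pow_orderOf_eq_one]
    have hw2 : orderOf w = 2 := Invol.orderOf_two_iff.mpr ⟨hww, hw1⟩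
    have hwi : i * w = w * i := by
      have h := Invol.conj_mul_zpow_eq_inv hi2 hj2 k
      rw [zpow_neg, zpow_natCast, ← hw, cinv hw2] at h
      exact mul_inv_eq_iff_eq_mul.mp h
    have hwij : (i * j) * w = w * (i * j) := by rw [hw]; exact (Commute.self_pow _ k).eq
    have hwj : j * w = w * j := by
      calc j * w = (i⁻¹ * (i * j)) * w := by group
        _ = i⁻¹ * (w * (i * j)) := by rw [mul_assoc, hwij]
        _ = i⁻¹ * (w * i) * j := by group
        _ = w * j := by rw [← hwi]; group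
    have hwM : w ∈ M := hC i hi hi2 (Subgroup.mem_centralizer_singleton_iff.mpr hwi.symm)
    exact hjM (hC w hwM hw2 (Subgroup.mem_centralizer_singleton_iff.mpr hwj))
  have hconj : ∀ i ∈ M, orderOf i = 2 → ∀ j, orderOf j = 2 → j ∉ M → IsConj i j := by
    intro i hi hi2 j hj2 hjM
    obtain ⟨k, hk⟩ := hodd i hi hi2 j hj2 hjM
    refine isConj_iff.mpr ⟨(i * j) ^ (k : ℤ), ?_⟩
    have h := Invol.mul_zpow_comm hi2 hj2 (-(k : ℤ))
    rw [neg_neg] at h
    calc (i * j) ^ (k : ℤ) * i * ((i * j) ^ (k : ℤ))⁻¹ = (i * j) ^ (k : ℤ) * (i * (i * j) ^ (-(k : ℤ))) := by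
          rw [zpow_neg]; group
      _ = (i * j) ^ (k : ℤ) * ((i * j) ^ (k : ℤ) * i) := by rw [h]
      _ = (i * j) ^ (2 * k : ℕ) * i := by rw [← mul_assoc, ← zpow_add, ← zpow_natCast]; push_cast; ring_nf
      _ = (i * j) ^ (2 * k + 1) * ((i * j)⁻¹ * i) := by rw [pow_succ]; group
      _ = j := by
        rw [← hk, pow_orderOf_eq_one, one_mul, mul_inv_rev, mul_assoc, inv_mul_cancel, mul_one, cinv hj2]
  obtain ⟨t₀, ht₀⟩ := exists_prime_orderOf_dvd_card' (G := M) 2 hM.two_dvd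
  have ht₀2 : orderOf (t₀ : S) = 2 := by rw [Subgroup.orderOf_coe]; exact ht₀
  obtain ⟨j₀, hj₀2, hj₀M⟩ : ∃ j, orderOf j = 2 ∧ j ∉ M := by
    by_contra hno
    push Not at hno
    have hN : Subgroup.closure {x : S | orderOf x = 2} ≤ M := (Subgroup.closure_le _).mpr fun x hx => hno x hx
    have hNn : (Subgroup.closure {x : S | orderOf x = 2}).Normal := by
      refine ⟨fun x hx g => ?_⟩
      induction hx using Subgroup.closure_induction with
      | mem y hy =>
        exact Subgroup.subset_closure (show orderOf (g * y * g⁻¹) = 2 by rw [Invol.orderOf_conj_eq]; exact hy)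
      | one => simp
      | mul a b _ _ ha hb => rw [← conj_mul]; exact mul_mem ha hb
      | inv a _ ha => rw [← conj_inv]; exact inv_mem ha
    have h1 : (t₀ : S) ∈ M.normalCore :=
      (Subgroup.normal_le_normalCore (H := M) (N := Subgroup.closure {x : S | orderOf x = 2})).mpr hN (Subgroup.subset_closure ht₀2)
    have h2 := Subgroup.orderOf_dvd_natCard _ h1
    rw [ht₀2] at h2
    exact (Nat.not_even_iff_odd.mpr hcore) (even_iff_two_dvd.mpr h2)
  have hall : ∀ x y : S, orderOf x = 2 → orderOf y = 2 → IsConj x y := by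
    intro x y hx hy
    have key : ∀ z, orderOf z = 2 → IsConj (t₀ : S) z := by
      intro z hz
      by_cases hzM : z ∈ M
      · exact (hconj _ t₀.2 ht₀2 j₀ hj₀2 hj₀M).trans (hconj z hzM hz j₀ hj₀2 hj₀M).symm
      · exact hconj _ t₀.2 ht₀2 z hz hzM
    exact (key x hx).symm.trans (key y hy)
  refine ⟨hall, fun X I hI hI2 hNX => ?_⟩
  have hI2' : orderOf (I : S) = 2 := by rw [Subgroup.orderOf_coe]; exact hI2
  have hIX : ∀ z : M, z ∈ (X : Subgroup M) → I * z = z * I := by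
    obtain ⟨w, hw, rfl⟩ := hI
    intro z hz
    exact (congrArg Subtype.val ((Subgroup.mem_center_iff.mp hw) ⟨z, hz⟩)).symm
  -- `M` is strongly embedded
  have hse : ∀ x ∈ M, orderOf x = 2 → ∀ g : S, g * x * g⁻¹ ∈ M → g ∈ M := by
    intro x hx hx2 g hg
    obtain ⟨y, hy⟩ : ∃ b, b = (⟨_, hg⟩ : M) := ⟨_, rfl⟩
    have hy2 : orderOf (y : S) = 2 := by rw [hy]; simp only; rw [Invol.orderOf_conj_eq, hx2]
    have hyp : IsPGroup 2 ↥(Subgroup.zpowers y) :=
      IsPGroup.of_card (n := 1) (by rw [Nat.card_zpowers, ← Subgroup.orderOf_coe, hy2, pow_one])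
    obtain ⟨T, hT⟩ := hyp.exists_le_sylow
    obtain ⟨m, hm⟩ := MulAction.exists_smul_eq M X T
    have hmem : ∀ z : M, z ∈ (T : Subgroup M) ↔ m⁻¹ * z * m ∈ (X : Subgroup M) := by
      intro z
      rw [← hm, Sylow.coe_subgroup_smul, Subgroup.mem_smul_pointwise_iff_exists]
      constructor
      · rintro ⟨w, hw, rfl⟩; simpa [mul_assoc] using hw
      · exact fun h => ⟨_, h, by simp [mul_assoc]⟩
    obtain ⟨u, hu⟩ : ∃ b, b = m * I * m⁻¹ := ⟨_, rfl⟩
    have hu2 : orderOf (u : S) = 2 := by rw [Subgroup.orderOf_coe, hu, Invol.orderOf_conj_eq, hI2]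
    have hcu : ∀ z : M, z ∈ (T : Subgroup M) → (z : S) * u = u * z := by
      intro z hz
      have e := hIX _ ((hmem z).mp hz)
      have e' : z * u = u * z := by
        rw [hu]
        calc z * (m * I * m⁻¹) = m * ((m⁻¹ * z * m) * I) * m⁻¹ := by group
          _ = m * (I * (m⁻¹ * z * m)) * m⁻¹ := by rw [e]
          _ = m * I * m⁻¹ * z := by group
      exact congrArg Subtype.val e'
    have hC' : ∀ v : S, g⁻¹ * v * g ∈ M → orderOf v = 2 → ∀ z : S, z * v = v * z → g⁻¹ * z * g ∈ M := by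
      intro v hv hv2 z hz
      refine hC _ hv (by have := Invol.orderOf_conj_eq g⁻¹ v; rw [inv_inv] at this; rw [this, hv2]) (Subgroup.mem_centralizer_singleton_iff.mpr ?_)
      calc g⁻¹ * z * g * (g⁻¹ * v * g) = g⁻¹ * (z * v) * g := by group
        _ = g⁻¹ * (v * z) * g := by rw [hz]
        _ = g⁻¹ * v * g * (g⁻¹ * z * g) := by group
    have hyx : g⁻¹ * (y : S) * g ∈ M := by rw [hy]; simpa [mul_assoc] using hx
    have hyT : y ∈ (T : Subgroup M) := hT (Subgroup.mem_zpowers y)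
    have huy : g⁻¹ * (u : S) * g ∈ M := hC' y hyx hy2 u (hcu y hyT).symm
    have hTM : ∀ z : M, z ∈ (T : Subgroup M) → g⁻¹ * (z : S) * g ∈ M := fun z hz => hC' u huy hu2 z (hcu z hz)
    -- transport `T` back into `M`
    let φ : ↥(T : Subgroup M) →* M :=
      { toFun := fun z => ⟨g⁻¹ * ((z : M) : S) * g, hTM z z.2⟩
        map_one' := Subtype.ext (by simp)
        map_mul' := fun a b => Subtype.ext (by simp [mul_assoc]) }
    have hφ : Function.Injective φ := fun a b h => by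
      have := congrArg Subtype.val h
      simpa [φ] using this
    let T' : Sylow 2 M := Sylow.ofCard φ.range (by
      rw [Nat.card_congr (MonoidHom.ofInjective hφ).toEquiv.symm, T.card_eq_multiplicity])
    obtain ⟨n, hn⟩ := MulAction.exists_smul_eq M T' X
    have hmv : (n : S) * g⁻¹ * m ∈ Subgroup.normalizer (((X : Subgroup M).map M.subtype : Subgroup S) : Set S) := by
      refine Subgroup.mem_normalizer_fintype ?_
      rintro _ ⟨z, hz, rfl⟩
      have hzT : m * z * m⁻¹ ∈ (T : Subgroup M) := (hmem _).mpr (by rw [show m⁻¹ * (m * z * m⁻¹) * m = z by group]; exact hz)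
      refine ⟨n * φ ⟨_, hzT⟩ * n⁻¹, ?_, ?_⟩
      · rw [← hn, Sylow.coe_subgroup_smul, SetLike.mem_coe, Subgroup.mem_smul_pointwise_iff_exists]
        exact ⟨φ ⟨_, hzT⟩, ⟨_, rfl⟩, by simp⟩
      · simp [φ, mul_assoc]
    have h3 := hNX hmv
    have h4 := M.inv_mem (M.mul_mem (M.mul_mem (M.inv_mem n.2) h3) (M.inv_mem m.2))
    simpa [mul_assoc] using h4
  refine ⟨fun x y hx hy => ?_, ?_⟩
  · have hx' : orderOf (x : S) = 2 := by rw [Subgroup.orderOf_coe]; exact hx
    have hy' : orderOf (y : S) = 2 := by rw [Subgroup.orderOf_coe]; exact hy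
    obtain ⟨g, hg⟩ := isConj_iff.mp (hall x y hx' hy')
    exact isConj_iff.mpr ⟨⟨g, hse x x.2 hx' g (hg.symm ▸ y.2)⟩, Subtype.ext hg⟩
  -- counting the involutions in the cosets of `M`
  obtain ⟨J, hJ⟩ : ∃ J : Finset S, J = Finset.univ.filter (fun u => orderOf u = 2) := ⟨_, rfl⟩
  obtain ⟨JM, hJM⟩ : ∃ JM : Finset S, JM = J.filter (fun u => u ∈ M) := ⟨_, rfl⟩
  haveI : Fintype (S ⧸ M) := Fintype.ofFinite _
  have hle : Fintype.card (S ⧸ M) * JM.card ≤ J.card := by
    rw [← Finset.card_univ, ← Finset.card_product]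
    refine Finset.card_le_card_of_injOn (fun c => c.1.out * c.2 * c.1.out⁻¹) ?_ ?_
    · intro c hc
      simp only [Finset.mem_coe, Finset.mem_product, hJM, hJ, Finset.mem_filter] at hc
      simp [hJ, Invol.orderOf_conj_eq, hc.2.1.2]
    · rintro ⟨c, x⟩ hc ⟨d, y⟩ hd (e : c.out * x * c.out⁻¹ = d.out * y * d.out⁻¹)
      simp only [Finset.mem_coe, Finset.mem_product, hJM, hJ, Finset.mem_filter] at hc hd
      have hcd : c = d := by
        rw [← QuotientGroup.out_eq' c, ← QuotientGroup.out_eq' d, eq_comm, QuotientGroup.eq]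
        refine hse x hc.2.2 hc.2.1.2 _ ?_
        rw [show d.out⁻¹ * c.out * x * (d.out⁻¹ * c.out)⁻¹ = d.out⁻¹ * (c.out * x * c.out⁻¹) * d.out by group,
          e]
        simpa [mul_assoc] using hd.2.2
      subst hcd
      exact Prod.ext rfl (mul_left_cancel (mul_right_cancel e))
  obtain ⟨JO, hJO⟩ : ∃ JO : Finset S, JO = J.filter (fun u => u ∉ M) := ⟨_, rfl⟩
  have hsplit : JM.card + JO.card = J.card := by
    rw [hJM, hJO]; exact Finset.card_filter_add_card_filter_not _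
  have hj₀J : j₀ ∈ JO := by simp [hJO, hJ, hj₀2, hj₀M]
  have hmaps : ∀ u ∈ JO, (QuotientGroup.mk u : S ⧸ M) ∈ Finset.univ.erase (QuotientGroup.mk 1) := by
    intro u hu
    simp only [hJO, Finset.mem_filter] at hu
    refine Finset.mem_erase.mpr ⟨fun e => hu.2 ?_, Finset.mem_univ _⟩
    rw [QuotientGroup.eq, mul_one] at e
    simpa using M.inv_mem e
  obtain ⟨c, -, hcn⟩ := Finset.exists_le_card_fiber_of_mul_le_card_of_maps_to (n := JM.card)
    (f := fun u : S => (QuotientGroup.mk u : S ⧸ M)) (t := Finset.univ.erase (QuotientGroup.mk 1))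
    hmaps ⟨_, hmaps j₀ hj₀J⟩ (by
      rw [Finset.card_erase_of_mem (Finset.mem_univ _), Finset.card_univ, Nat.sub_mul, one_mul]
      omega)
  have hIJM : (I : S) ∈ JM := by simp [hJM, hJ, hI2']
  obtain ⟨F, hF⟩ : ∃ F : Finset S, F = JO.filter (fun u => (QuotientGroup.mk u : S ⧸ M) = c) := ⟨_, rfl⟩
  rw [← hF] at hcn
  obtain ⟨t, ht⟩ : F.Nonempty := Finset.card_pos.mp (lt_of_lt_of_le (Finset.card_pos.mpr ⟨_, hIJM⟩) hcn)
  have hFmem : ∀ u ∈ F, orderOf u = 2 ∧ u ∉ M ∧ t * u ∈ M := by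
    intro u hu
    simp only [hF, hJO, hJ, Finset.mem_filter, Finset.mem_univ, true_and] at hu ht
    refine ⟨hu.1.1, hu.1.2, ?_⟩
    have h := QuotientGroup.eq.mp (ht.2.trans hu.2.symm)
    rwa [cinv ht.1.1] at h
  obtain ⟨ht2, htM, -⟩ := hFmem t ht
  have htt : t * t = 1 := Invol.mul_self_of_orderOf_two ht2
  obtain ⟨D, hD⟩ : ∃ D : Subgroup S, D = M ⊓ M.comap (MulAut.conj t).toMonoidHom := ⟨_, rfl⟩
  have hDodd : Odd (Nat.card D) := by
    by_contra hne
    rw [Nat.not_odd_iff_even] at hne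
    obtain ⟨d, hd⟩ := exists_prime_orderOf_dvd_card' (G := D) 2 hne.two_dvd
    have hdm : (d : S) ∈ M ∧ t * d * t⁻¹ ∈ M := hD ▸ d.2
    exact htM (hse d hdm.1 (by rw [Subgroup.orderOf_coe]; exact hd) t hdm.2)
  have hFD : ∀ u ∈ F, t * u ∈ D := by
    intro u hu
    obtain ⟨hu2, -, hm⟩ := hFmem u hu
    rw [hD]
    refine Subgroup.mem_inf.mpr ⟨hm, ?_⟩
    show t * (t * u) * t⁻¹ ∈ M
    rw [← mul_assoc, htt, one_mul]
    have h := M.inv_mem hm
    rwa [mul_inv_rev, cinv hu2] at h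
  have himg : F.image (fun u => (t * u) * I * (t * u)⁻¹) = JM := by
    refine Finset.eq_of_subset_of_card_le (fun z hz => ?_) ?_
    · obtain ⟨u, hu, rfl⟩ := Finset.mem_image.mp hz
      simp only [hJM, hJ, Finset.mem_filter, Finset.mem_univ, true_and]
      exact ⟨by rw [Invol.orderOf_conj_eq]; exact hI2',
        mul_mem (mul_mem (hFmem u hu).2.2 I.2) (inv_mem (hFmem u hu).2.2)⟩
    · refine hcn.trans (le_of_eq (Finset.card_image_of_injOn ?_).symm)
      intro u₁ h₁ u₂ h₂ (e : (t * u₁) * I * (t * u₁)⁻¹ = (t * u₂) * I * (t * u₂)⁻¹)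
      obtain ⟨hu₁, hu₁M, hm₁⟩ := hFmem u₁ h₁
      obtain ⟨hu₂, -, hm₂⟩ := hFmem u₂ h₂
      obtain ⟨z, hz⟩ : ∃ b, b = u₁ * u₂ := ⟨_, rfl⟩
      have hz' : z = (t * u₁)⁻¹ * (t * u₂) := by
        rw [hz, mul_inv_rev, cinv ht2, cinv hu₁]
        calc u₁ * u₂ = u₁ * (t * t) * u₂ := by rw [htt, mul_one]
          _ = u₁ * t * (t * u₂) := by group
      have hzI : z * (I : S) * z⁻¹ = I := by
        rw [hz']
        calc (t * u₁)⁻¹ * (t * u₂) * I * ((t * u₁)⁻¹ * (t * u₂))⁻¹
            = (t * u₁)⁻¹ * ((t * u₂) * I * (t * u₂)⁻¹) * (t * u₁) := by group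
          _ = I := by rw [← e]; group
      obtain ⟨r, hr⟩ : ∃ b, b = (I : S) * u₁ := ⟨_, rfl⟩
      have hu₁z : u₁ * z * u₁⁻¹ = z⁻¹ := by rw [hz]; exact Invol.conj_mul_eq_inv hu₁ hu₂
      have hrz : r * z * r⁻¹ = z⁻¹ := by
        calc r * z * r⁻¹ = (I : S) * (u₁ * z * u₁⁻¹) * (I : S)⁻¹ := by rw [hr]; group
          _ = (I * z * (I : S)⁻¹)⁻¹ := by rw [hu₁z]; group
          _ = z⁻¹ := by
            congr 1
            rw [mul_inv_eq_iff_eq_mul] at hzI ⊢
            exact hzI.symm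
      obtain ⟨k, hk⟩ := hodd I I.2 hI2' u₁ hu₁ hu₁M
      rw [← hr] at hk
      have hzz : z⁻¹ = z := by
        have hsq : Commute (r * r) z := by
          have := Grp.conj_sq_of_inv hrz
          exact mul_inv_eq_iff_eq_mul.mp this
        have h1 : r ^ (2 * k) * z * (r ^ (2 * k))⁻¹ = z := by
          rw [pow_mul, sq, (hsq.pow_left k).eq, mul_inv_cancel_right]
        have h2 : r ^ (2 * k + 1) = 1 := by rw [← hk, pow_orderOf_eq_one]
        calc z⁻¹ = r * z * r⁻¹ := hrz.symm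
          _ = r * (r ^ (2 * k) * z * (r ^ (2 * k))⁻¹) * r⁻¹ := by rw [h1]
          _ = r ^ (2 * k + 1) * z * (r ^ (2 * k + 1))⁻¹ := by rw [pow_succ']; group
          _ = z := by rw [h2, one_mul, inv_one, mul_one]
      have hzD : z ∈ D := hz' ▸ mul_mem (inv_mem (hFD u₁ h₁)) (hFD u₂ h₂)
      have hz1 : z = 1 := Grp.eq_one_of_odd_of_sq (hDodd.of_dvd_nat (Subgroup.orderOf_dvd_natCard D hzD))
        (mul_eq_one_iff_inv_eq.mpr hzz)
      rw [hz, mul_eq_one_iff_inv_eq, cinv hu₁] at hz1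
      exact hz1
  refine ⟨D.subgroupOf M, ?_, fun m => ?_⟩
  · rw [Nat.card_congr (Subgroup.subgroupOfEquivOfLe (hD ▸ inf_le_left : D ≤ M)).toEquiv]
    exact hDodd
  have hmI : (m : S) * I * (m : S)⁻¹ ∈ JM := by
    simp only [hJM, hJ, Finset.mem_filter, Finset.mem_univ, true_and]
    exact ⟨by rw [Invol.orderOf_conj_eq]; exact hI2', mul_mem (mul_mem m.2 I.2) (inv_mem m.2)⟩
  rw [← himg] at hmI
  obtain ⟨u, hu, e⟩ := Finset.mem_image.mp hmI
  refine ⟨⟨t * u, (hFmem u hu).2.2⟩, hFD u hu, ⟨t * u, (hFmem u hu).2.2⟩⁻¹ * m, ?_, (mul_inv_cancel_left _ _).symm⟩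
  rw [Subgroup.mem_centralizer_singleton_iff]
  refine Subtype.ext ?_
  show (t * u)⁻¹ * (m : S) * I = I * ((t * u)⁻¹ * m)
  calc (t * u)⁻¹ * (m : S) * I = (t * u)⁻¹ * ((m : S) * I * (m : S)⁻¹) * m := by group
    _ = I * ((t * u)⁻¹ * m) := by rw [← e]; group

end Cfsg.Agent.S1905
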