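import Cfsg.Prelude
import Cfsg.Agent.Lib.Fus.GroupLocal
import Cfsg.Agent.Lib.Grp.Subnormal
import Cfsg.Agent.Lib.Char.FongCores
import Cfsg.Agent.Lib.Invol.Basic
-- import your own Cfsg.Agent.* helpers here

set_option autoImplicit false
open Cfsg

open scoped Pointwise commutatorElement

namespace Cfsg.Agent.S1907

/-- Let P be a Sylow p-subgroup of a finite group G, H = P ∩ O_{p',p}(G), N = N_G(H) and D = O_{p'}(G). (a) If y is an element of p-power order of N and d ∈ D with d⁻¹ y d ∈ N, then d = d₁ d₂ with d₁ ∈ C_D(y) and d₂ ∈ C_D(H). (b) Two elements of P that are conjugate in G are conjugate in N. -/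
theorem result {G : Type*} [Group G] [Finite G] {p : ℕ} [Fact p.Prime] (P : Sylow p G) :
    (∀ y ∈ Subgroup.normalizer (((P : Subgroup G) ⊓ Cfsg.pPrimePCore p G : Subgroup G) : Set G), (∃ k : ℕ, orderOf y = p ^ k) →
      ∀ d ∈ Cfsg.pPrimeCore p G, d⁻¹ * y * d ∈ Subgroup.normalizer (((P : Subgroup G) ⊓ Cfsg.pPrimePCore p G : Subgroup G) : Set G) →
        ∃ d₁ ∈ Cfsg.pPrimeCore p G ⊓ Subgroup.centralizer ({y} : Set G),
          ∃ d₂ ∈ Cfsg.pPrimeCore p G ⊓ Subgroup.centralizer (((P : Subgroup G) ⊓ Cfsg.pPrimePCore p G : Subgroup G) : Set G), d = d₁ * d₂) ∧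
    ∀ x y : G, x ∈ (P : Subgroup G) → y ∈ (P : Subgroup G) → IsConj x y →
      ∃ n ∈ Subgroup.normalizer (((P : Subgroup G) ⊓ Cfsg.pPrimePCore p G : Subgroup G) : Set G), n * x * n⁻¹ = y := by
  classical
  have hDn : (Cfsg.pPrimeCore p G).Normal := Grp.pPrimeCore_isNormal
  have hKn : (Cfsg.pPrimePCore p G).Normal := Char.Fong.pPrimePCore_normal
  obtain ⟨D, hD⟩ : ∃ D, D = Cfsg.pPrimeCore p G := ⟨_, rfl⟩
  obtain ⟨H, hH⟩ : ∃ H, H = (P : Subgroup G) ⊓ Cfsg.pPrimePCore p G := ⟨_, rfl⟩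
  rw [← hD, ← hH]
  rw [← hD] at hDn
  have hHp : IsPGroup p ↥H := P.2.to_le (hH ▸ inf_le_left)
  have hcop : ∀ x ∈ D, (∃ k, orderOf x = p ^ k) → x = 1 := by
    rintro x hx ⟨k, hk⟩
    have h1 : (orderOf x).Coprime p :=
      Nat.Coprime.coprime_dvd_left (Subgroup.orderOf_dvd_natCard D hx) (hD ▸ Grp.pPrimeCore_coprime)
    rw [hk] at h1
    rcases Nat.eq_zero_or_pos k with rfl | hk0
    · rwa [pow_zero, orderOf_eq_one_iff] at hk
    · exact absurd h1 (fun h => (Fact.out : p.Prime).ne_one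
        (Nat.eq_one_of_dvd_coprimes h (dvd_pow_self p hk0.ne') dvd_rfl))
  have hHK : H ≤ Cfsg.pPrimePCore p G := hH ▸ inf_le_right
  have hidx : ¬ p ∣ H.relIndex (Cfsg.pPrimePCore p G) := by
    rw [hH, Subgroup.inf_relIndex_right]
    exact Grp.not_dvd_relIndex_sylow P (Subgroup.Normal.isSubnormal hKn)
  have hPN : (P : Subgroup G) ≤ Subgroup.normalizer (H : Set G) := fun x hx => by
    refine Subgroup.mem_normalizer_fintype fun z hz => ?_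
    rw [SetLike.mem_coe, hH] at hz
    rw [hH]
    exact ⟨(P : Subgroup G).mul_mem ((P : Subgroup G).mul_mem hx hz.1) ((P : Subgroup G).inv_mem hx),
      hKn.conj_mem _ hz.2 x⟩
  -- Frattini
  have hfrat : ∀ g : G, ∃ n ∈ Subgroup.normalizer (H : Set G), ∃ d ∈ D, g = n * d := by
    intro g
    haveI := hKn
    haveI := hDn
    let R : Sylow p ↥(Cfsg.pPrimePCore p G) := (hHp.comap_subtype (K := Cfsg.pPrimePCore p G)).toSylow hidx
    have h1 := Sylow.normalizer_sup_eq_top R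
    rw [show (R : Subgroup ↥(Cfsg.pPrimePCore p G)).map (Cfsg.pPrimePCore p G).subtype = H from
      Subgroup.map_subgroupOf_eq_of_le hHK] at h1
    obtain ⟨j, hj⟩ := Char.Fong.exists_relIndex_pPrimePCore (p := p) (G := G)
    rw [← Char.Fong.sup_eq_of_relIndex Char.Fong.pPrimeCore_le_pPrimePCore hHK hj hidx, ← hD, sup_comm D H,
      ← sup_assoc, sup_eq_left.mpr (Subgroup.le_normalizer (H := H))] at h1
    have h2 : g ∈ ((Subgroup.normalizer (H : Set G) ⊔ D : Subgroup G) : Set G) := by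
      rw [h1]; exact Subgroup.mem_top g
    rw [Subgroup.mul_normal] at h2
    obtain ⟨n, hn, d, hd, e⟩ := h2
    exact ⟨n, hn, d, hd, e.symm⟩
  have hDN : D ⊓ Subgroup.normalizer (H : Set G) ≤ Subgroup.centralizer (H : Set G) := by
    rintro d ⟨hd, hdN⟩
    refine Subgroup.mem_centralizer_iff.mpr fun h hh => ?_
    have h1 : d * h * d⁻¹ * h⁻¹ ∈ D := by
      rw [show d * h * d⁻¹ * h⁻¹ = d * (h * d⁻¹ * h⁻¹) by group]
      exact mul_mem hd (hDn.conj_mem _ (inv_mem hd) h)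
    have h2 : d * h * d⁻¹ * h⁻¹ ∈ H := mul_mem ((Subgroup.mem_normalizer_iff.mp hdN h).mp hh) (inv_mem hh)
    obtain ⟨k, hk⟩ := IsPGroup.iff_orderOf.mp hHp ⟨_, h2⟩
    rw [Subgroup.orderOf_mk] at hk
    have h3 := hcop _ h1 ⟨k, hk⟩
    rw [mul_inv_eq_one, mul_inv_eq_iff_eq_mul] at h3
    exact h3.symm
  have key : ∀ y ∈ Subgroup.normalizer (H : Set G), (∃ k : ℕ, orderOf y = p ^ k) →
      ∀ d ∈ D, d⁻¹ * y * d ∈ Subgroup.normalizer (H : Set G) →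
        ∃ d₁ ∈ D ⊓ Subgroup.centralizer ({y} : Set G),
          ∃ d₂ ∈ D ⊓ Subgroup.centralizer (H : Set G), d = d₁ * d₂ := by
    rintro y hy ⟨k, hk⟩ d hd hyd
    obtain ⟨C₀, hC₀⟩ : ∃ C₀, C₀ = D ⊓ Subgroup.normalizer (H : Set G) := ⟨_, rfl⟩
    obtain ⟨y', hy'⟩ : ∃ b, b = d⁻¹ * y * d := ⟨_, rfl⟩
    rw [← hy'] at hyd
    have hC₀y : Subgroup.zpowers y ≤ Subgroup.normalizer (C₀ : Set G) := by
      rw [Subgroup.zpowers_le]
      refine Subgroup.mem_normalizer_fintype fun c hc => ?_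
      rw [SetLike.mem_coe, hC₀] at hc
      rw [hC₀]
      exact Subgroup.mem_inf.mpr ⟨hDn.conj_mem _ hc.1 y, mul_mem (mul_mem hy hc.2) (inv_mem hy)⟩
    have hyC : ∀ i : ℤ, y ^ i ∈ C₀ → y ^ i = 1 := by
      intro i hi
      refine hcop _ (hC₀ ▸ hi : _ ∈ D ⊓ _).1 ?_
      obtain ⟨j, -, hj⟩ := (Nat.dvd_prime_pow (Fact.out : p.Prime)).mp
        (hk ▸ orderOf_dvd_of_mem_zpowers (Subgroup.zpow_mem_zpowers y i))
      exact ⟨j, hj⟩
    have hy'L : y⁻¹ * y' ∈ C₀ := by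
      rw [hC₀]
      refine Subgroup.mem_inf.mpr ⟨?_, mul_mem (inv_mem hy) hyd⟩
      rw [hy', show y⁻¹ * (d⁻¹ * y * d) = (y⁻¹ * d⁻¹ * y) * d by group]
      refine mul_mem ?_ hd
      simpa using hDn.conj_mem _ (inv_mem hd) y⁻¹
    obtain ⟨L, hL⟩ : ∃ L, L = Subgroup.zpowers y ⊔ C₀ := ⟨_, rfl⟩
    have hyp : IsPGroup p ↥(Subgroup.zpowers y) := IsPGroup.of_card (n := k) (by rw [Nat.card_zpowers, hk])
    have hmul : ∀ x ∈ L, ∃ i : ℤ, ∃ c ∈ C₀, x = y ^ i * c := by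
      intro x hx
      rw [hL, ← SetLike.mem_coe, Subgroup.coe_mul_of_left_le_normalizer_right _ _ hC₀y] at hx
      obtain ⟨_, ⟨i, rfl⟩, c, hc, rfl⟩ := hx
      exact ⟨i, c, hc, rfl⟩
    have hsyl : Fus.IsSylowOf p (Subgroup.zpowers y) L := by
      refine Fus.IsSylowOf.of_card_le (hL ▸ le_sup_left) hyp fun X hX hXp hyX x hx => ?_
      obtain ⟨i, c, hc, rfl⟩ := hmul x (hX hx)
      have hcX : c ∈ X := by
        have := mul_mem (inv_mem (hyX (Subgroup.zpow_mem_zpowers y i))) hx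
        simpa using this
      obtain ⟨j, hj⟩ := IsPGroup.iff_orderOf.mp hXp ⟨c, hcX⟩
      rw [Subgroup.orderOf_mk] at hj
      rw [hcop c (hC₀ ▸ hc : _ ∈ D ⊓ _).1 ⟨j, hj⟩, mul_one]
      exact Subgroup.zpow_mem_zpowers y i
    have hy'p : IsPGroup p ↥(Subgroup.zpowers y') := by
      refine IsPGroup.of_card (n := k) ?_
      rw [Nat.card_zpowers, hy', show d⁻¹ * y * d = d⁻¹ * y * d⁻¹⁻¹ by group, Invol.orderOf_conj_eq, hk]
    have hy'mem : y' ∈ L := by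
      have := Subgroup.mul_mem_sup (Subgroup.mem_zpowers y) hy'L
      rw [mul_inv_cancel_left] at this
      exact hL ▸ this
    obtain ⟨e, he, hle⟩ := hsyl.exists_conj_le hy'p (Subgroup.zpowers_le.mpr hy'mem)
    obtain ⟨a, c, hc, rfl⟩ := hmul e he
    obtain ⟨i, hi⟩ := hle ⟨y', Subgroup.mem_zpowers y', rfl⟩
    simp only [MulEquiv.coe_toMonoidHom, MulAut.conj_apply] at hi
    have hcy : c * y' * c⁻¹ = y ^ i := by
      calc c * y' * c⁻¹ = (y ^ a)⁻¹ * ((y ^ a * c) * y' * (y ^ a * c)⁻¹) * y ^ a := by group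
        _ = (y ^ a)⁻¹ * y ^ i * y ^ a := by rw [← hi]
        _ = y ^ i := by group
    have hi1 : y ^ i = y := by
      have hC₀n : y⁻¹ * c * y ∈ C₀ := (Subgroup.mem_normalizer_iff''.mp (hC₀y (Subgroup.mem_zpowers y)) c).mp hc
      have h1 : y⁻¹ * (c * y' * c⁻¹) ∈ C₀ := by
        rw [show y⁻¹ * (c * y' * c⁻¹) = (y⁻¹ * c * y) * (y⁻¹ * y') * c⁻¹ by group]
        exact mul_mem (mul_mem hC₀n hy'L) (inv_mem hc)
      rw [hcy, ← zpow_neg_one, ← zpow_add] at h1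
      have h2 := hyC _ h1
      rw [zpow_add, zpow_neg_one, inv_mul_eq_one] at h2
      exact h2.symm
    rw [hi1] at hcy
    have hcD : c ∈ D ⊓ Subgroup.normalizer (H : Set G) := hC₀ ▸ hc
    refine ⟨d * c⁻¹, Subgroup.mem_inf.mpr ⟨mul_mem hd (inv_mem hcD.1), ?_⟩, c,
      Subgroup.mem_inf.mpr ⟨hcD.1, hDN hcD⟩, by group⟩
    rw [Subgroup.mem_centralizer_singleton_iff]
    calc d * c⁻¹ * y = d * c⁻¹ * (c * y' * c⁻¹) := by rw [hcy]
      _ = y * (d * c⁻¹) := by rw [hy']; group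
  refine ⟨key, fun x y hx hy hxy => ?_⟩
  obtain ⟨g, hg⟩ := isConj_iff.mp hxy
  obtain ⟨n, hn, d, hd, rfl⟩ := hfrat g
  have hdx : d * x * d⁻¹ ∈ Subgroup.normalizer (H : Set G) := by
    rw [show d * x * d⁻¹ = n⁻¹ * (n * d * x * (n * d)⁻¹) * n by group, hg]
    exact mul_mem (mul_mem (inv_mem hn) (hPN hy)) hn
  obtain ⟨k, hk⟩ := IsPGroup.iff_orderOf.mp P.2 ⟨x, hx⟩
  rw [Subgroup.orderOf_mk] at hk
  obtain ⟨d₁, hd₁, d₂, hd₂, e⟩ := key x (hPN hx) ⟨k, hk⟩ d⁻¹ (inv_mem hd) (by rwa [inv_inv])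
  refine ⟨n * d₂⁻¹, mul_mem hn (inv_mem (Subgroup.centralizer_le_normalizer _ hd₂.2)), ?_⟩
  have e1 : d = d₂⁻¹ * d₁⁻¹ := by rw [← mul_inv_rev, ← e, inv_inv]
  have e2 : d₁⁻¹ * x * d₁ = x := by
    rw [mul_assoc, ← Subgroup.mem_centralizer_singleton_iff.mp hd₁.2, inv_mul_cancel_left]
  calc n * d₂⁻¹ * x * (n * d₂⁻¹)⁻¹ = n * d₂⁻¹ * (d₁⁻¹ * x * d₁) * (n * d₂⁻¹)⁻¹ := by rw [e2]
    _ = (n * (d₂⁻¹ * d₁⁻¹)) * x * (n * (d₂⁻¹ * d₁⁻¹))⁻¹ := by group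
    _ = y := by rw [← e1]; exact hg

end Cfsg.Agent.S1907
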