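import Cfsg.Prelude
import Cfsg.Agent.Lib.Invol.Basic
import Cfsg.Agent.Lib.Fus.GroupLocal
import Cfsg.Agent.Lib.Char.PairLE
import Cfsg.Agent.Lib.Grp.Frattini
-- import your own Cfsg.Agent.* helpers here

set_option autoImplicit false
open Cfsg

open scoped Pointwise commutatorElement

namespace Cfsg.Agent.S1910

/-- Let Q be a tightly embedded subgroup of a finite group G, g an element outside N_G(Q), T a nontrivial Sylow 2-subgroup of Q^g ∩ N_G(Q), and S a Sylow 2-subgroup of QT containing T. Then T ∩ Q = 1, and N_S(T) is the direct product of T and N_S(T) ∩ Q, with N_S(T) ∩ Q isomorphic to T. -/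
theorem result {G : Type*} [Group G] [Finite G] (Q : Subgroup G) (hQ : Cfsg.IsTightlyEmbedded Q)
    (g : G) (hg : g ∉ Subgroup.normalizer (Q : Set G))
    (T : Subgroup G) (hT1 : T ≠ ⊥) (hT : T ≤ Q.map (MulAut.conj g).toMonoidHom ⊓ Subgroup.normalizer (Q : Set G))
    (hTsyl : IsPGroup 2 T ∧ ¬ 2 ∣ T.relIndex (Q.map (MulAut.conj g).toMonoidHom ⊓ Subgroup.normalizer (Q : Set G)))
    (S : Subgroup G) (hTS : T ≤ S) (hS : S ≤ Q ⊔ T) (hSsyl : IsPGroup 2 S ∧ ¬ 2 ∣ S.relIndex (Q ⊔ T)) :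
    T ⊓ Q = ⊥ ∧
      T ⊓ (S ⊓ Subgroup.normalizer (T : Set G) ⊓ Q) = ⊥ ∧
      ⁅T, S ⊓ Subgroup.normalizer (T : Set G) ⊓ Q⁆ = ⊥ ∧
      T ⊔ (S ⊓ Subgroup.normalizer (T : Set G) ⊓ Q) = S ⊓ Subgroup.normalizer (T : Set G) ∧
      Nonempty (↥(S ⊓ Subgroup.normalizer (T : Set G) ⊓ Q) ≃* T) := by
  classical
  haveI := Fintype.ofFinite G
  obtain ⟨B, hB⟩ : ∃ B, B = Q.map (MulAut.conj g).toMonoidHom := ⟨_, rfl⟩
  rw [← hB] at hT hTsyl
  have hTB : T ≤ B := fun t ht => (hT ht).1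
  have hTN : T ≤ Subgroup.normalizer (Q : Set G) := fun t ht => (hT ht).2
  obtain ⟨X, hX⟩ : ∃ X, X = S ⊓ Subgroup.normalizer (T : Set G) ⊓ Q := ⟨_, rfl⟩
  rw [← hX]
  have hXS : X ≤ S := hX ▸ inf_le_left.trans inf_le_left
  have hXQ : X ≤ Q := hX ▸ inf_le_right
  have hXT : X ≤ Subgroup.normalizer (T : Set G) := hX ▸ inf_le_left.trans inf_le_right
  have hQQ : ∀ x : G, x ∈ Q → x ∈ B → (∃ k, orderOf x = 2 ^ k) → x = 1 := by
    rintro x hx hxB ⟨k, hk⟩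
    have hodd := hQ.2 g hg
    rw [← hB] at hodd
    have h1 := hodd.of_dvd_nat (Subgroup.orderOf_dvd_natCard (Q ⊓ B) ⟨hx, hxB⟩)
    rw [hk] at h1
    rcases Nat.eq_zero_or_pos k with rfl | hk0
    · rwa [pow_zero, orderOf_eq_one_iff] at hk
    · exact absurd h1 (by rw [Nat.not_odd_iff_even, Nat.even_pow]; exact ⟨even_two, hk0.ne'⟩)
  have hTp : ∀ x ∈ T, ∃ k, orderOf x = 2 ^ k := fun x hx => by
    obtain ⟨k, hk⟩ := IsPGroup.iff_orderOf.mp hTsyl.1 ⟨x, hx⟩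
    exact ⟨k, by rw [← hk, Subgroup.orderOf_mk]⟩
  have hSp : ∀ x ∈ S, ∃ k, orderOf x = 2 ^ k := fun x hx => by
    obtain ⟨k, hk⟩ := IsPGroup.iff_orderOf.mp hSsyl.1 ⟨x, hx⟩
    exact ⟨k, by rw [← hk, Subgroup.orderOf_mk]⟩
  have hTQ : T ⊓ Q = ⊥ := (Subgroup.eq_bot_iff_forall _).mpr fun x hx => hQQ x hx.2 (hTB hx.1) (hTp x hx.1)
  have hcomm : ∀ t ∈ T, ∀ x ∈ X, Commute t x := by
    intro t ht x hx
    have h1 : t * x * t⁻¹ * x⁻¹ ∈ T := by
      rw [show t * x * t⁻¹ * x⁻¹ = t * (x * t⁻¹ * x⁻¹) by group]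
      exact mul_mem ht ((Subgroup.mem_normalizer_iff.mp (hXT hx) _).mp (inv_mem ht))
    have h2 : t * x * t⁻¹ * x⁻¹ ∈ Q :=
      mul_mem ((Subgroup.mem_normalizer_iff.mp (hTN ht) x).mp (hXQ hx)) (inv_mem (hXQ hx))
    have h3 := Subgroup.mem_bot.mp (hTQ.le (Subgroup.mem_inf.mpr ⟨h1, h2⟩))
    rw [mul_inv_eq_one, mul_inv_eq_iff_eq_mul] at h3
    exact h3
  refine ⟨hTQ, ?_, ?_, ?_, ?_⟩
  · exact eq_bot_iff.mpr ((inf_le_inf_left T hXQ).trans_eq hTQ)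
  · rw [Subgroup.commutator_eq_bot_iff_le_centralizer]
    exact fun t ht => Subgroup.mem_centralizer_iff.mpr fun x hx => (hcomm t ht x hx).symm.eq
  · refine le_antisymm (sup_le (le_inf hTS Subgroup.le_normalizer) (hX ▸ inf_le_left)) ?_
    rintro s ⟨hs, hsN⟩
    have hs' : s ∈ ((Q ⊔ T : Subgroup G) : Set G) := hS hs
    rw [Subgroup.coe_mul_of_right_le_normalizer_left _ _ hTN] at hs'
    obtain ⟨q, hq, t, ht, rfl⟩ := hs'
    rw [sup_comm]
    refine Subgroup.mul_mem_sup (hX ▸ Subgroup.mem_inf.mpr ⟨Subgroup.mem_inf.mpr ⟨?_, ?_⟩, hq⟩) ht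
    · simpa using S.mul_mem hs (S.inv_mem (hTS ht))
    · simpa using (Subgroup.normalizer (T : Set G)).mul_mem hsN ((Subgroup.normalizer (T : Set G)).inv_mem (Subgroup.le_normalizer (H := T) ht))
  -- elements moving a nontrivial 2-element inside `Q` normalize `Q`
  have hnorm : ∀ x ∈ Q, x ≠ 1 → (∃ k, orderOf x = 2 ^ k) → ∀ h : G, h * x * h⁻¹ ∈ Q →
      h ∈ Subgroup.normalizer (Q : Set G) := by
    rintro x hx hx1 ⟨k, hk⟩ h hh
    by_contra hne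
    have hodd := hQ.2 h hne
    have hk0 : k ≠ 0 := by rintro rfl; rw [pow_zero, orderOf_eq_one_iff] at hk; exact hx1 hk
    have h1 := hodd.of_dvd_nat (Subgroup.orderOf_dvd_natCard _ (Subgroup.mem_inf.mpr ⟨hh, ⟨x, hx, rfl⟩⟩))
    rw [Invol.orderOf_conj_eq, hk] at h1
    exact absurd h1 (by rw [Nat.not_odd_iff_even, Nat.even_pow]; exact ⟨even_two, hk0⟩)
  have hnormB : ∀ x ∈ T, x ≠ 1 → ∀ h : G, h * x * h⁻¹ ∈ B → h ∈ Subgroup.normalizer (B : Set G) := by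
    intro x hx hx1 h hh
    obtain ⟨a, ha, ea⟩ := (hB ▸ hTB hx : x ∈ Q.map (MulAut.conj g).toMonoidHom)
    obtain ⟨b, hb, eb⟩ := (hB ▸ hh : h * x * h⁻¹ ∈ Q.map (MulAut.conj g).toMonoidHom)
    simp only [MulEquiv.coe_toMonoidHom, MulAut.conj_apply] at ea eb
    obtain ⟨k, hk⟩ := hTp x hx
    have e1 : g⁻¹ * h * g * a * (g⁻¹ * h * g)⁻¹ = b := by
      calc g⁻¹ * h * g * a * (g⁻¹ * h * g)⁻¹ = g⁻¹ * (h * (g * a * g⁻¹) * h⁻¹) * g := by group
        _ = b := by rw [ea, ← eb]; group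
    have h2 := hnorm a ha (fun e => hx1 (by rw [← ea, e]; simp))
      ⟨k, by rw [← hk, ← ea, Invol.orderOf_conj_eq]⟩ (g⁻¹ * h * g) (e1 ▸ hb)
    have h3 := Fus.mem_normalizer_conj (g := g) h2
    rw [← hB] at h3
    simpa [mul_assoc] using h3
  obtain ⟨t₀, ht₀, ht₀1⟩ : ∃ t ∈ T, t ≠ 1 := by
    by_contra hc; push Not at hc; exact hT1 ((Subgroup.eq_bot_iff_forall _).mpr hc)
  have hXB : X ≤ Subgroup.normalizer (B : Set G) := fun x hx =>
    hnormB t₀ ht₀ ht₀1 x (hTB ((Subgroup.mem_normalizer_iff.mp (hXT hx) t₀).mp ht₀))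
  obtain ⟨S₀, hS₀⟩ : ∃ S₀, S₀ = S ⊓ Q := ⟨_, rfl⟩
  have hXS₀ : X ≤ S₀ := hS₀ ▸ le_inf hXS hXQ
  -- `X = S₀ ∩ N(B)`
  have hS₀X : ∀ s ∈ S₀, s ∈ Subgroup.normalizer (B : Set G) → s ∈ X := by
    intro s hs hsB
    rw [hS₀] at hs
    rw [hX]
    refine ⟨⟨hs.1, Subgroup.centralizer_le_normalizer _ (Subgroup.mem_centralizer_iff.mpr fun t ht => ?_)⟩, hs.2⟩
    have h1 : t * s * t⁻¹ * s⁻¹ ∈ Q :=
      mul_mem ((Subgroup.mem_normalizer_iff.mp (hTN ht) s).mp hs.2) (inv_mem hs.2)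
    have h2 : t * s * t⁻¹ * s⁻¹ ∈ B := by
      rw [show t * s * t⁻¹ * s⁻¹ = t * (s * t⁻¹ * s⁻¹) by group]
      exact mul_mem (hTB ht) ((Subgroup.mem_normalizer_iff.mp hsB _).mp (inv_mem (hTB ht)))
    have h3 := hQQ _ h1 h2 (hSp _ (mul_mem (mul_mem (mul_mem (hTS ht) hs.1) (inv_mem (hTS ht))) (inv_mem hs.1)))
    rw [mul_inv_eq_one, mul_inv_eq_iff_eq_mul] at h3
    exact h3
  have hXp : IsPGroup 2 ↥X := hSsyl.1.to_le hXS
  have hXTc : X ≤ Subgroup.normalizer (T : Set G) := hXT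
  have hXTp : IsPGroup 2 ↥(X ⊔ T) := hSsyl.1.to_le (sup_le hXS hTS)
  -- a Sylow subgroup of `X ⊔ B` above `X ⊔ T`
  obtain ⟨L, hL⟩ : ∃ L, L = X ⊔ B := ⟨_, rfl⟩
  obtain ⟨R₀, hR₀⟩ := (hXTp.comap_subtype (K := L)).exists_le_sylow
  obtain ⟨U, hU⟩ : ∃ U : Subgroup G, U = (R₀ : Subgroup ↥L).map L.subtype := ⟨_, rfl⟩
  have hUs : Fus.IsSylowOf 2 U L := ⟨hU ▸ Subgroup.map_subtype_le _, R₀, by
    rw [hU, Subgroup.subgroupOf, Subgroup.comap_map_eq_self_of_injective L.subtype_injective]⟩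
  have hXTU : X ⊔ T ≤ U := fun z hz => hU ▸ ⟨⟨z, hL ▸ (sup_le_sup_left hTB X) hz⟩, hR₀ hz, rfl⟩
  obtain ⟨R, hR⟩ : ∃ R, R = U ⊓ B := ⟨_, rfl⟩
  have hRp : IsPGroup 2 ↥R := hUs.isPGroup.to_le (hR ▸ inf_le_left)
  have hTR : T ≤ R := hR ▸ le_inf (le_sup_right.trans hXTU) hTB
  have hXR : X ≤ Subgroup.normalizer (R : Set G) := by
    intro x hx
    refine Subgroup.mem_normalizer_fintype fun r hr => ?_
    rw [SetLike.mem_coe, hR] at hr
    rw [hR]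
    exact Subgroup.mem_inf.mpr ⟨mul_mem (mul_mem (hXTU (Subgroup.mem_sup_left hx)) hr.1)
      (inv_mem (hXTU (Subgroup.mem_sup_left hx))), (Subgroup.mem_normalizer_iff.mp (hXB hx) r).mp hr.2⟩
  have hRN : ∀ r ∈ R, r ∈ Subgroup.normalizer (Q : Set G) → r ∈ T := by
    have hTsy : Fus.IsSylowOf 2 T (B ⊓ Subgroup.normalizer (Q : Set G)) :=
      ⟨hT, (hTsyl.1.comap_subtype (K := B ⊓ Subgroup.normalizer (Q : Set G))).toSylow hTsyl.2, rfl⟩
    intro r hr hrN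
    have hle : T ≤ R ⊓ Subgroup.normalizer (Q : Set G) := le_inf hTR hTN
    have h1 := hTsy.card_le (hRp.to_le (inf_le_left : R ⊓ Subgroup.normalizer (Q : Set G) ≤ R))
      (inf_le_inf_right _ (hR ▸ inf_le_right))
    exact (Subgroup.eq_of_le_of_card_ge hle h1).ge ⟨hr, hrN⟩
  -- an element centralizing a whole coset gives an embedding
  have emb : ∀ (A C V : Subgroup G), IsPGroup 2 ↥(A ⊔ V) → C ≤ V → (∀ c ∈ C, ∀ a ∈ A, Commute c a) →
      A ≤ Subgroup.normalizer (V : Set G) → (∀ a ∈ A, a ≠ 1 → ∀ v ∈ V, Commute v a → v ∈ C) →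
      C ≠ V → ∃ f : ↥A →* ↥C, Function.Injective f := by
    intro A C V hp hCV hAC hAV hfix hne
    obtain ⟨W, hW⟩ : ∃ W, W = V ⊓ Subgroup.normalizer (C : Set G) := ⟨_, rfl⟩
    have hgt : C < W := hW ▸ Char.BP.exists_normalizer_gt (hp.to_le le_sup_right) (lt_of_le_of_ne hCV hne)
    have hAN : A ≤ Subgroup.normalizer (C : Set G) := fun a ha =>
      Subgroup.centralizer_le_normalizer _ (Subgroup.mem_centralizer_iff.mpr fun c hc => (hAC c hc a ha).eq)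
    have hAW : A ≤ Subgroup.normalizer (W : Set G) := by
      intro a ha
      refine Subgroup.mem_normalizer_fintype fun w hw => ?_
      rw [SetLike.mem_coe, hW] at hw
      rw [hW]
      exact Subgroup.mem_inf.mpr ⟨(Subgroup.mem_normalizer_iff.mp (hAV ha) w).mp hw.1,
        mul_mem (mul_mem (hAN ha) hw.2) (inv_mem (hAN ha))⟩
    obtain ⟨K, hK⟩ : ∃ K, K = A ⊔ W := ⟨_, rfl⟩
    have hWK : W ≤ K := hK ▸ le_sup_right
    haveI hCn : (C.subgroupOf K).Normal :=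
      Subgroup.normal_subgroupOf_of_le_normalizer (hK ▸ sup_le hAN (hW ▸ inf_le_right))
    haveI hWn : (W.subgroupOf K).Normal :=
      Subgroup.normal_subgroupOf_of_le_normalizer (hK ▸ sup_le hAW Subgroup.le_normalizer)
    let π := QuotientGroup.mk' (C.subgroupOf K)
    haveI : Group.IsNilpotent (↥K ⧸ C.subgroupOf K) :=
      ((hp.to_le (hK ▸ sup_le_sup_left (hW ▸ inf_le_left) A)).to_quotient _).isNilpotent
    haveI : ((W.subgroupOf K).map π).Normal := Subgroup.Normal.map hWn π (QuotientGroup.mk'_surjective _)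
    have hne' : (W.subgroupOf K).map π ≠ ⊥ := by
      rw [Ne, Subgroup.map_eq_bot_iff, QuotientGroup.ker_mk']
      intro hle
      exact hgt.not_ge fun w hw => hle (show (⟨w, hWK hw⟩ : K) ∈ W.subgroupOf K from hw)
    obtain ⟨z, hz, hz1⟩ : ∃ z ∈ (W.subgroupOf K).map π ⊓ Subgroup.center _, z ≠ 1 := by
      by_contra hc; push Not at hc
      exact Grp.inf_center_ne_bot _ hne' ((Subgroup.eq_bot_iff_forall _).mpr hc)
    obtain ⟨⟨w, hw, rfl⟩, hzc⟩ := hz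
    have hwC : (w : G) ∉ C := fun h => hz1 ((QuotientGroup.eq_one_iff w).mpr h)
    have hcm : ∀ a ∈ A, a * (w : G) * a⁻¹ * (w : G)⁻¹ ∈ C := by
      intro a ha
      have h1 := Subgroup.mem_center_iff.mp hzc (π ⟨a, hK ▸ Subgroup.mem_sup_left ha⟩)
      have h2 : π (⟨a, hK ▸ Subgroup.mem_sup_left ha⟩ * w * (⟨a, hK ▸ Subgroup.mem_sup_left ha⟩)⁻¹ * w⁻¹) = 1 := by
        simp only [map_mul, map_inv, h1]; group
      exact Subgroup.mem_subgroupOf.mp ((QuotientGroup.eq_one_iff (N := C.subgroupOf K) _).mp h2)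
    refine ⟨MonoidHom.mk' (fun a => (⟨_, hcm a a.2⟩ : C)⁻¹) fun a b => ?_, ?_⟩
    · refine Subtype.ext ?_
      have e : (a : G) * ((b : G) * w * (b : G)⁻¹ * (w : G)⁻¹) * (a : G)⁻¹ = (b : G) * w * (b : G)⁻¹ * (w : G)⁻¹ := by
        rw [← (hAC _ (hcm b b.2) a a.2).eq, mul_inv_cancel_right]
      simp only [Subgroup.coe_mul, InvMemClass.coe_inv]
      rw [← mul_inv_rev, inv_inj]
      calc (a : G) * b * w * ((a : G) * b)⁻¹ * (w : G)⁻¹
          = (a : G) * ((b : G) * w * (b : G)⁻¹ * (w : G)⁻¹) * (a : G)⁻¹ * ((a : G) * w * (a : G)⁻¹ * (w : G)⁻¹) := by group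
        _ = _ := by rw [e]
    · refine (injective_iff_map_eq_one _).mpr fun a ha => ?_
      by_contra ha1
      have h1 : (a : G) * w * (a : G)⁻¹ * (w : G)⁻¹ = 1 := by
        have := congrArg Subtype.val (inv_eq_one.mp ha)
        exact this
      rw [mul_inv_eq_one, mul_inv_eq_iff_eq_mul] at h1
      exact hwC (hfix a a.2 (fun e => ha1 (Subtype.ext e)) w (hW ▸ hw : (w : G) ∈ V ⊓ _).1 h1.symm)
  -- conjugating 2-subgroups of a normal subgroup into a Sylow subgroup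
  have into : ∀ (Y M L' U' : Subgroup G), Fus.IsSylowOf 2 U' L' → M ≤ L' → L' ≤ Subgroup.normalizer (M : Set G) →
      Y ≤ M → IsPGroup 2 ↥Y → ∃ f : ↥Y →* ↥(U' ⊓ M), Function.Injective f := by
    intro Y M L' U' hU' hML hLM hYM hYp
    obtain ⟨d, hd, hle⟩ := hU'.exists_conj_le hYp (hYM.trans hML)
    have hmem : ∀ y ∈ Y, d * y * d⁻¹ ∈ U' ⊓ M := fun y hy =>
      Subgroup.mem_inf.mpr ⟨hle ⟨y, hy, rfl⟩, (Subgroup.mem_normalizer_iff.mp (hLM hd) y).mp (hYM hy)⟩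
    refine ⟨((MulAut.conj d).toMonoidHom.comp Y.subtype).codRestrict _ fun y => hmem y y.2, fun a b h => ?_⟩
    have := congrArg Subtype.val h
    exact Subtype.ext ((MulAut.conj d).injective this)
  have hLB : L ≤ Subgroup.normalizer (B : Set G) := hL ▸ sup_le hXB Subgroup.le_normalizer
  obtain ⟨f₁, hf₁⟩ : ∃ f : ↥X →* ↥T, Function.Injective f := by
    by_cases hTR' : T = R
    · have hYB : X.map (MulAut.conj g).toMonoidHom ≤ B := hB ▸ Subgroup.map_mono hXQ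
      obtain ⟨f, hf⟩ := into _ B L U hUs (hL ▸ le_sup_right) hLB hYB (hXp.map _)
      let e := Subgroup.equivMapOfInjective X (MulAut.conj g).toMonoidHom (MulAut.conj g).injective
      refine ⟨(Subgroup.inclusion (hR ▸ hTR'.ge : U ⊓ B ≤ T)).comp (f.comp e.toMonoidHom), ?_⟩
      exact fun a b h => e.injective (hf (Subtype.ext (congrArg Subtype.val h :)))
    refine emb X T R (hUs.isPGroup.to_le (sup_le (le_sup_left.trans hXTU) (hR ▸ inf_le_left))) hTR hcomm hXR ?_ hTR'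
    intro x hx hx1 r hr hrx
    exact hRN r hr (hnorm x (hXQ hx) hx1 (hSp x (hXS hx)) r (by rw [hrx.eq, mul_inv_cancel_right]; exact hXQ hx))
  obtain ⟨f₂, hf₂⟩ : ∃ f : ↥T →* ↥X, Function.Injective f := by
    by_cases hXS' : X = S₀
    · have hYQ : T.map (MulAut.conj g⁻¹).toMonoidHom ≤ Q := by
        rintro _ ⟨t, ht, rfl⟩
        obtain ⟨a, ha, rfl⟩ := (hB ▸ hTB ht : t ∈ Q.map (MulAut.conj g).toMonoidHom)
        simpa [mul_assoc] using ha
      have hSsy : Fus.IsSylowOf 2 S (Q ⊔ T) := ⟨hS, (hSsyl.1.comap_subtype (K := Q ⊔ T)).toSylow hSsyl.2, rfl⟩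
      obtain ⟨f, hf⟩ := into _ Q (Q ⊔ T) S hSsy le_sup_left (sup_le Subgroup.le_normalizer hTN) hYQ (hTsyl.1.map _)
      let e := Subgroup.equivMapOfInjective T (MulAut.conj g⁻¹).toMonoidHom (MulAut.conj g⁻¹).injective
      refine ⟨(Subgroup.inclusion (hS₀ ▸ hXS'.ge : S ⊓ Q ≤ X)).comp (f.comp e.toMonoidHom), ?_⟩
      exact fun a b h => e.injective (hf (Subtype.ext (congrArg Subtype.val h :)))
    refine emb T X S₀ (hSsyl.1.to_le (sup_le hTS (hS₀ ▸ inf_le_left))) hXS₀ (fun c hc a ha => (hcomm a ha c hc).symm)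
      (fun t ht => Subgroup.mem_normalizer_fintype fun s hs => ?_) ?_ hXS'
    · rw [SetLike.mem_coe, hS₀] at hs
      rw [hS₀]
      exact Subgroup.mem_inf.mpr ⟨mul_mem (mul_mem (hTS ht) hs.1) (inv_mem (hTS ht)),
        (Subgroup.mem_normalizer_iff.mp (hTN ht) s).mp hs.2⟩
    intro t ht ht1 s hs hst
    exact hS₀X s hs (hnormB t ht ht1 s (by rw [hst.eq, mul_inv_cancel_right]; exact hTB ht))
  refine ⟨MulEquiv.ofBijective f₁ ((Nat.bijective_iff_injective_and_card f₁).mpr ⟨hf₁,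
    le_antisymm (Nat.card_le_card_of_injective f₁ hf₁) (Nat.card_le_card_of_injective f₂ hf₂)⟩)⟩

end Cfsg.Agent.S1910
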