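import Cfsg.Statements.S1914
import Cfsg.Agent.Lib.Invol.CycFourFixed.Main
import Cfsg.Agent.Lib.Grp.Components

set_option autoImplicit false
open Cfsg

namespace Cfsg.Agent.S1914

/-- Let A be a semisimple subgroup (a central product of quasisimple groups, A = E(A)) of a finite group and t an involution normalizing A such that the Sylow 2-subgroups of C_A(t) are cyclic of order 4. Then A has 2-rank exactly 1. -/
theorem result {G : Type*} [Group G] [Finite G] (A : Subgroup G) (hA : Cfsg.layer ↥A = ⊤)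
    (t : G) (ht : orderOf t = 2) (htA : t ∈ Subgroup.normalizer (A : Set G))
    (hC : ∀ R : Sylow 2 ↥(A ⊓ Subgroup.centralizer ({t} : Set G)), IsCyclic R ∧ Nat.card R = 4) :
    Cfsg.PRankLE 2 1 A ∧ ¬ Cfsg.PRankLE 2 0 A := by
  classical
  have htN : t ∈ Subgroup.normalizer (A : Set G) := htA
  clear htA
  haveI : Fact (Nat.Prime 2) := ⟨Nat.prime_two⟩
  have htt : t * t = 1 := by rw [← pow_two, ← ht, pow_orderOf_eq_one]
  have hperf : ⁅(⊤ : Subgroup ↥A), (⊤ : Subgroup ↥A)⁆ = ⊤ := by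
    have h := Cfsg.Agent.Grp.layer_perfect (G := ↥A)
    rwa [hA] at h
  have hperfA : ⁅A, A⁆ = A := by
    have h := congrArg (Subgroup.map A.subtype) hperf
    rw [Subgroup.map_commutator, ← MonoidHom.range_eq_map, Subgroup.range_subtype] at h
    exact h
  set C : Subgroup G := A ⊓ Subgroup.centralizer ({t} : Set G) with hCdef
  -- the bound on fixed 2-subgroups
  have hle4 : ∀ Q : Subgroup G, IsPGroup 2 Q → Q ≤ C → Nat.card Q ≤ 4 := by
    intro Q hQ hQC
    obtain ⟨R, hR⟩ := (hQ.comap_of_injective C.subtype C.subtype_injective :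
      IsPGroup 2 (Q.subgroupOf C)).exists_le_sylow
    rw [← Nat.card_congr (Subgroup.subgroupOfEquivOfLe hQC).toEquiv, ← (hC R).2]
    exact Subgroup.card_le_of_le hR
  obtain ⟨R⟩ : Nonempty (Sylow 2 ↥C) := inferInstance
  obtain ⟨hRc, hR4⟩ := hC R
  obtain ⟨g, hg⟩ := hRc.exists_generator
  set r : G := ((g : ↥C) : G) with hr
  have hr4 : orderOf r = 4 := by
    rw [hr, Subgroup.orderOf_coe, Subgroup.orderOf_coe, ← hR4, orderOf_eq_card_of_forall_mem_zpowers hg]
  have hrA : r ∈ A := (Subgroup.mem_inf.1 (g : ↥C).2).1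
  have hrt : r * t = t * r := Subgroup.mem_centralizer_singleton_iff.1 (Subgroup.mem_inf.1 (g : ↥C).2).2
  have hr2 : orderOf (r ^ 2) = 2 := by
    rw [orderOf_pow' _ two_ne_zero, hr4]; norm_num
  refine ⟨?_, fun h => ?_⟩
  swap
  · let z : ↥A := ⟨r, hrA⟩ ^ 2
    have hz : orderOf z = 2 := by rw [← Subgroup.orderOf_coe]; exact hr2
    have hzz : z ^ 2 = 1 := by rw [← hz, pow_orderOf_eq_one]
    have := h (Subgroup.zpowers z) inferInstance (fun a ha => by
      obtain ⟨i, rfl⟩ := Subgroup.mem_zpowers_iff.1 ha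
      rw [← zpow_natCast, ← zpow_mul, mul_comm, zpow_mul, zpow_natCast, hzz, one_zpow])
    rw [Nat.card_zpowers, hz] at this
    norm_num at this
  -- the involution lies outside
  have htA : t ∉ A := by
    intro htm
    have hcyc : IsPGroup 2 (Subgroup.zpowers r ⊔ Subgroup.zpowers t : Subgroup G) := by
      refine IsPGroup.to_sup_of_normal_left'
        (IsPGroup.of_card (n := 2) (by rw [Nat.card_zpowers, hr4]; norm_num))
        (IsPGroup.of_card (n := 1) (by rw [pow_one, Nat.card_zpowers, ht])) ?_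
      intro x hx
      obtain ⟨i, rfl⟩ := Subgroup.mem_zpowers_iff.1 hx
      refine Subgroup.mem_normalizer_iff.2 fun s => ?_
      have hcs : ∀ s ∈ Subgroup.zpowers r, t ^ i * s * (t ^ i)⁻¹ = s := fun s hs => by
        obtain ⟨j, rfl⟩ := Subgroup.mem_zpowers_iff.1 hs
        rw [(Commute.zpow_zpow (show Commute t r from hrt.symm) i j).eq, mul_inv_cancel_right]
      refine ⟨fun hs => by rwa [hcs s hs], fun hs => ?_⟩
      have := hcs _ hs
      have e2 := mul_left_cancel (mul_right_cancel this)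
      rw [e2] at hs; exact hs
    have hleC : Subgroup.zpowers r ⊔ Subgroup.zpowers t ≤ C :=
      sup_le (Subgroup.zpowers_le.2 (g : ↥C).2)
        (Subgroup.zpowers_le.2 (Subgroup.mem_inf.2 ⟨htm, Subgroup.mem_centralizer_singleton_iff.2 rfl⟩))
    have htr : t ∈ Subgroup.zpowers r := by
      have heq : Subgroup.zpowers r = Subgroup.zpowers r ⊔ Subgroup.zpowers t :=
        Subgroup.eq_of_le_of_card_ge le_sup_left (by rw [Nat.card_zpowers, hr4]; exact hle4 _ hcyc hleC)
      rw [heq]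
      exact Subgroup.mem_sup_right (Subgroup.mem_zpowers t)
    obtain ⟨T, hT⟩ := ((IsPGroup.of_card (n := 2) (by rw [Nat.card_zpowers, hr4]; norm_num) :
      IsPGroup 2 (Subgroup.zpowers r)).comap_of_injective A.subtype A.subtype_injective :
        IsPGroup 2 ((Subgroup.zpowers r).subgroupOf A)).exists_le_sylow
    have hrT : (⟨r, hrA⟩ : ↥A) ∈ (T : Subgroup ↥A) := hT (Subgroup.mem_zpowers r)
    have htT : (⟨t, htm⟩ : ↥A) ∈ (T : Subgroup ↥A) := hT htr
    -- elements of `T` commuting with `t` are powers of `r`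
    have hcent : ∀ x ∈ (T : Subgroup ↥A), (x : G) * t = t * x → (x : G) ∈ Subgroup.zpowers r := by
      intro x hx hxt
      let K : Subgroup G := (T : Subgroup ↥A).map A.subtype ⊓ Subgroup.centralizer ({t} : Set G)
      have hK : Nat.card K ≤ 4 := hle4 K ((T.isPGroup'.map A.subtype).to_le inf_le_left)
        (le_inf (inf_le_left.trans (Subgroup.map_subtype_le _)) inf_le_right)
      rw [Subgroup.eq_of_le_of_card_ge (Subgroup.zpowers_le.2 (Subgroup.mem_inf.2
        ⟨⟨_, hrT, rfl⟩, Subgroup.mem_centralizer_singleton_iff.2 hrt⟩) : Subgroup.zpowers r ≤ K)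
        (by rw [Nat.card_zpowers, hr4]; exact hK)]
      exact Subgroup.mem_inf.2 ⟨⟨x, hx, rfl⟩, Subgroup.mem_centralizer_singleton_iff.2 hxt⟩
    obtain ⟨e, he, hee, he1, hec⟩ := Cfsg.Agent.Invol.CycFour.exists_fixed_involution
      (W := ↥(T : Subgroup ↥A)) T.isPGroup' (B := ⊤) (by
        intro e
        have : (⟨⟨r, hrA⟩, hrT⟩ : ↥(T : Subgroup ↥A)) ∈ (⊤ : Subgroup ↥(T : Subgroup ↥A)) := trivial
        rw [e, Subgroup.mem_bot] at this
        have h1 : r = 1 := congrArg (fun w : ↥(T : Subgroup ↥A) => ((w : ↥A) : G)) this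
        rw [h1, orderOf_one] at hr4
        exact absurd hr4 (by norm_num))
    have heG : ∀ x ∈ (T : Subgroup ↥A), (x : G) * ((e : ↥A) : G) = ((e : ↥A) : G) * x := fun x hx =>
      congrArg (fun w : ↥(T : Subgroup ↥A) => ((w : ↥A) : G)) (hec ⟨x, hx⟩)
    have hr2u : ∀ y ∈ Subgroup.zpowers r, y * y = 1 → y ≠ 1 → y = r ^ (2 : ℤ) := by
      intro y hy hyy hy1
      obtain ⟨i, rfl⟩ := Subgroup.mem_zpowers_iff.1 hy
      have hk : orderOf r = 2 ^ 2 := by rw [hr4]; norm_num
      rw [← zpow_add, ← zpow_zero r, Cfsg.Agent.Invol.CycFour.zpow_eq_iff hk] at hyy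
      rw [← zpow_zero r, Ne, Cfsg.Agent.Invol.CycFour.zpow_eq_iff hk] at hy1
      rw [Cfsg.Agent.Invol.CycFour.zpow_eq_iff hk]
      norm_num at hyy hy1 ⊢
      omega
    have het : ((e : ↥A) : G) = t := by
      have hee' : ((e : ↥A) : G) * (e : ↥A) = 1 :=
        congrArg (fun w : ↥(T : Subgroup ↥A) => ((w : ↥A) : G)) hee
      rw [hr2u _ (hcent _ e.2 (heG _ htT).symm) hee' (fun h => he1 (Subtype.ext (Subtype.ext h))),
        hr2u t htr htt (fun h => by rw [h, orderOf_one] at ht; omega)]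
    -- hence the Sylow subgroup is cyclic
    have hTc : ∀ x ∈ (T : Subgroup ↥A), x ∈ Subgroup.zpowers (⟨r, hrA⟩ : ↥A) := by
      intro x hx
      obtain ⟨i, hi⟩ := Subgroup.mem_zpowers_iff.1 (hcent x hx (by rw [← het]; exact heG x hx))
      exact Subgroup.mem_zpowers_iff.2 ⟨i, Subtype.ext (by simpa using hi)⟩
    have hTab : ∀ a b : ↥(T : Subgroup ↥A), a * b = b * a := fun a b => by
      obtain ⟨i, hi⟩ := Subgroup.mem_zpowers_iff.1 (hTc a a.2)
      obtain ⟨j, hj⟩ := Subgroup.mem_zpowers_iff.1 (hTc b b.2)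
      refine Subtype.ext ?_
      show (a : ↥A) * b = b * a
      rw [← hi, ← hj]
      exact (Commute.zpow_zpow (Commute.refl _) i j).eq
    haveI : IsMulCommutative ↥(T : Subgroup ↥A) := ⟨⟨hTab⟩⟩
    have hTn : Subgroup.normalizer ((T : Subgroup ↥A) : Set ↥A) ≤ Subgroup.centralizer ((T : Subgroup ↥A) : Set ↥A) := by
      haveI : IsCyclic ↥(T : Subgroup ↥A) := ⟨⟨⟨⟨r, hrA⟩, hrT⟩, fun x => by
        obtain ⟨i, hi⟩ := Subgroup.mem_zpowers_iff.1 (hTc x x.2)
        exact Subgroup.mem_zpowers_iff.2 ⟨i, Subtype.ext (by simpa using hi)⟩⟩⟩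
      refine IsCyclic.normalizer_le_centralizer ?_ inferInstance
      refine (Nat.minFac_eq_two_iff _).2 ?_
      have h1 : orderOf (⟨r, hrA⟩ : ↥A) ∣ Nat.card ↥A := orderOf_dvd_natCard _
      rw [← Subgroup.orderOf_coe] at h1
      exact (show 2 ∣ orderOf r by rw [hr4]; norm_num).trans h1
    have hker : (MonoidHom.transferSylow T hTn).ker = ⊤ := by
      rw [eq_top_iff, ← hperf, Subgroup.commutator_le]
      intro a _ b _
      rw [MonoidHom.mem_ker, commutatorElement_def, map_mul, map_mul, map_mul, map_inv, map_inv,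
        hTab (MonoidHom.transferSylow T hTn a) (MonoidHom.transferSylow T hTn b)]
      group
    have hcompl := MonoidHom.ker_transferSylow_isComplement' T hTn
    rw [hker, Subgroup.isComplement'_top_left] at hcompl
    have hr1 : (⟨r, hrA⟩ : ↥A) = 1 := Subgroup.mem_bot.1 (hcompl ▸ hrT)
    have h1 : r = 1 := congrArg Subtype.val hr1
    rw [h1, orderOf_one] at hr4
    exact absurd hr4 (by norm_num)
  -- pass to the extension by the involution
  set X₀ : Subgroup G := A ⊔ Subgroup.zpowers t with hX₀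
  have hAX : A ≤ X₀ := le_sup_left
  have htX : t ∈ X₀ := Subgroup.mem_sup_right (Subgroup.mem_zpowers t)
  have hXn : X₀ ≤ Subgroup.normalizer (A : Set G) := sup_le Subgroup.le_normalizer (Subgroup.zpowers_le.2 htN)
  haveI : (A.subgroupOf X₀).Normal := Subgroup.normal_subgroupOf_of_le_normalizer hXn
  have hout : ∀ p : ↥X₀, p ∈ A.subgroupOf X₀ ∨ (⟨t, htX⟩ : ↥X₀) * p ∈ A.subgroupOf X₀ := by
    intro p
    have hp : (p : G) ∈ ((Subgroup.zpowers t ⊔ A : Subgroup G) : Set G) := by
      rw [sup_comm]; exact p.2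
    rw [Subgroup.coe_mul_of_left_le_normalizer_right _ _ (Subgroup.zpowers_le.2 htN)] at hp
    obtain ⟨u, hu, a, ha, hua⟩ := hp
    obtain ⟨i, rfl⟩ := Subgroup.mem_zpowers_iff.1 hu
    simp only at hua
    rcases Int.even_or_odd i with ⟨j, rfl⟩ | ⟨j, rfl⟩
    · left
      rw [Subgroup.mem_subgroupOf, ← hua, zpow_add, ← (Commute.refl t).mul_zpow, htt, one_zpow, one_mul]
      exact ha
    · right
      rw [Subgroup.mem_subgroupOf, Subgroup.coe_mul, ← hua, zpow_add_one, two_mul, zpow_add,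
        ← (Commute.refl t).mul_zpow, htt, one_zpow, one_mul, ← mul_assoc, htt, one_mul]
      exact ha
  have hperfX : ⁅A.subgroupOf X₀, A.subgroupOf X₀⁆ = A.subgroupOf X₀ := by
    refine Subgroup.map_injective X₀.subtype_injective ?_
    rw [Subgroup.map_commutator, Subgroup.map_subgroupOf_eq_of_le hAX, hperfA]
  intro E hE hE2
  have hE2' : ∀ e ∈ E, e * e = 1 := fun e he => by rw [← pow_two]; exact hE2 e he
  let E' : Subgroup ↥X₀ := (E.map A.subtype).subgroupOf X₀
  have hEle : E.map A.subtype ≤ X₀ := (Subgroup.map_subtype_le E).trans hAX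
  have h := Cfsg.Agent.Invol.CycFour.rank_one (A.subgroupOf X₀) hperfX (t := ⟨t, htX⟩) (r := ⟨r, hAX hrA⟩)
    (Subtype.ext htt) (fun h => htA h) hout (by rw [← Subgroup.orderOf_coe]; exact hr4)
    hrA (Subtype.ext hrt.symm) (fun Q hQ hQL hQt => by
      rw [← Subgroup.card_map_of_injective X₀.subtype_injective]
      refine hle4 _ (hQ.map _) ?_
      rintro _ ⟨q, hq, rfl⟩
      exact Subgroup.mem_inf.2 ⟨hQL hq, Subgroup.mem_centralizer_singleton_iff.2
        (congrArg Subtype.val (hQt q hq)).symm⟩)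
    E' (fun x hx => Subgroup.map_subtype_le E hx) (fun x hx => by
      obtain ⟨e, he, hee⟩ := hx
      refine Subtype.ext ?_
      show (x : G) * x = 1
      rw [← show ((e : G)) = x from hee, ← Subgroup.coe_mul, hE2' e he]; rfl)
  rw [Nat.card_congr (Subgroup.subgroupOfEquivOfLe hEle).toEquiv,
    Subgroup.card_map_of_injective A.subtype_injective] at h
  simpa using h

end Cfsg.Agent.S1914
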