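import Cfsg.Prelude
import Cfsg.Agent.Lib.Invol.FourGroupRankOne
import Cfsg.Agent.Lib.Grp.Components
-- import your own Cfsg.Agent.* helpers here

set_option autoImplicit false
open Cfsg

open scoped Pointwise commutatorElement

namespace Cfsg.Agent.S1915

/-- Let A be a semisimple subgroup (A = E(A)) of a finite group and U a Klein four-group normalizing A. If the subgroup of A generated by the normalizers N_A(V) of the nontrivial subgroups V of U has 2-rank exactly 1, then A has 2-rank exactly 1. -/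
theorem result {G : Type*} [Group G] [Finite G] (A : Subgroup G) (hA : Cfsg.layer ↥A = ⊤)
    (U : Subgroup G) (hU : IsKleinFour U) (hUA : U ≤ Subgroup.normalizer (A : Set G))
    (hΓ : Cfsg.PRankLE 2 1 ↥(⨆ V : {V : Subgroup G // V ≤ U ∧ V ≠ ⊥}, A ⊓ Subgroup.normalizer ((V : Subgroup G) : Set G)) ∧
      ¬ Cfsg.PRankLE 2 0 ↥(⨆ V : {V : Subgroup G // V ≤ U ∧ V ≠ ⊥}, A ⊓ Subgroup.normalizer ((V : Subgroup G) : Set G))) :
    Cfsg.PRankLE 2 1 A ∧ ¬ Cfsg.PRankLE 2 0 A := by
  classical
  haveI : Fact (Nat.Prime 2) := ⟨Nat.prime_two⟩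
  set Γ := (⨆ V : {V : Subgroup G // V ≤ U ∧ V ≠ ⊥}, A ⊓ Subgroup.normalizer ((V : Subgroup G) : Set G)) with hΓdef
  have hΓA : Γ ≤ A := iSup_le fun _ => inf_le_left
  constructor
  swap
  · intro h0
    refine hΓ.2 fun E hc he => ?_
    have hcard := h0 (E.map (Subgroup.inclusion hΓA)) ?_ ?_
    · rwa [Subgroup.card_map_of_injective (Subgroup.inclusion_injective hΓA)] at hcard
    · haveI := hc
      infer_instance
    · rintro _ ⟨a, ha, rfl⟩
      rw [← map_pow, he a ha, map_one]
  have hperf : ∀ φ : ↥A →* ℤˣ, φ = 1 := by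
    intro φ
    have h1 : commutator ↥A = ⊤ := by
      rw [commutator_def, ← hA, Cfsg.Agent.Grp.layer_perfect]
    have h2 := Abelianization.commutator_subset_ker φ
    rw [h1, top_le_iff] at h2
    ext a
    have h3 : a ∈ φ.ker := by rw [h2]; exact Subgroup.mem_top a
    rw [MonoidHom.mem_ker.mp h3, MonoidHom.one_apply]
  have hone : Cfsg.Agent.Invol.FourRankOne.OneInvolCentral A U := by
    intro u hu hu1 x hx y hy hxy hx2 hy2 hx1 hy1 hxu hyu
    by_contra hne
    have hN : ∀ w ∈ A, Commute w u → w ∈ Γ := by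
      intro w hw hwu
      refine Subgroup.mem_iSup_of_mem ⟨Subgroup.zpowers u, Subgroup.zpowers_le.mpr hu,
        fun e => hu1 (Subgroup.zpowers_eq_bot.mp e)⟩ ⟨hw, ?_⟩
      refine Subgroup.centralizer_le_normalizer _ (Subgroup.mem_centralizer_iff.mpr fun v hv => ?_)
      obtain ⟨i, rfl⟩ := Subgroup.mem_zpowers_iff.mp hv
      exact (hwu.symm.zpow_left i).eq
    have hxΓ := hN x hx hxu
    have hyΓ := hN y hy hyu
    set E : Subgroup Γ := Subgroup.closure {⟨x, hxΓ⟩, ⟨y, hyΓ⟩} with hE
    have hEc : IsMulCommutative E := Subgroup.isMulCommutative_closure fun a ha b hb => by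
      rcases ha with rfl | rfl <;> rcases hb with rfl | rfl
      · rfl
      · exact Subtype.ext hxy.eq
      · exact Subtype.ext hxy.eq.symm
      · rfl
    have hE2 : ∀ a ∈ E, a ^ 2 = 1 := by
      intro a ha
      rw [hE] at ha
      induction ha using Subgroup.closure_induction with
      | mem a ha =>
        rcases ha with rfl | rfl
        · exact Subtype.ext (by simpa [pow_two] using hx2)
        · exact Subtype.ext (by simpa [pow_two] using hy2)
      | one => exact one_pow _
      | mul a b ha hb iha ihb =>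
        have : Commute a b := congrArg Subtype.val (hEc.is_comm.comm ⟨a, ha⟩ ⟨b, hb⟩)
        rw [this.mul_pow, iha, ihb, one_mul]
      | inv a _ iha => rw [inv_pow, iha, inv_one]
    have h2 := hΓ.1 E hEc hE2
    haveI := Fintype.ofFinite E
    rw [pow_one, Nat.card_eq_fintype_card] at h2
    have h3 : 2 < Fintype.card E := Fintype.two_lt_card_iff.mpr
      ⟨1, ⟨⟨x, hxΓ⟩, Subgroup.subset_closure (Or.inl rfl)⟩, ⟨⟨y, hyΓ⟩, Subgroup.subset_closure (Or.inr rfl)⟩,
        fun e => hx1 (congrArg (fun v : E => ((v : Γ) : G)) e.symm),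
        fun e => hy1 (congrArg (fun v : E => ((v : Γ) : G)) e.symm),
        fun e => hne (congrArg (fun v : E => ((v : Γ) : G)) e)⟩
    omega
  intro E hc he
  have hu := Cfsg.Agent.Invol.FourRankOne.rank_one hU hUA hperf hone
  by_contra hlt
  push Not at hlt
  rw [pow_one] at hlt
  haveI := Fintype.ofFinite E
  rw [Nat.card_eq_fintype_card, Fintype.two_lt_card_iff] at hlt
  obtain ⟨a, b, c, hab, hac, hbc⟩ := hlt
  have key : ∀ v w : E, v ≠ 1 → w ≠ 1 → v = w := fun v w hv hw => by
    refine Subtype.ext (Subtype.ext (hu ((v : A) : G) (v : A).2 ((w : A) : G) (w : A).2 ?_ ?_ ?_ ?_ ?_))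
    · exact congrArg (fun t : E => ((t : A) : G)) (hc.is_comm.comm v w)
    · exact congrArg Subtype.val (show (v : A) * v = 1 by rw [← pow_two]; exact he v v.2)
    · exact congrArg Subtype.val (show (w : A) * w = 1 by rw [← pow_two]; exact he w w.2)
    · exact fun e => hv (Subtype.ext (Subtype.ext e))
    · exact fun e => hw (Subtype.ext (Subtype.ext e))
  rcases eq_or_ne a 1 with rfl | ha
  · exact hbc (key b c hab.symm hac.symm)
  rcases eq_or_ne b 1 with rfl | hb
  · exact hac (key a c ha hbc.symm)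
  exact hab (key a b ha hb)

end Cfsg.Agent.S1915
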