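import Cfsg.Prelude
import Cfsg.Agent.Lib.Grp.Components
-- import your own Cfsg.Agent.* helpers here

set_option autoImplicit false
open Cfsg

namespace Cfsg.Agent.S1921

/-- Let a be an involution of a finite group H and L a component of H with a L a⁻¹ ≠ L; put M = ⟨L, aLa⁻¹⟩ and let J be the subgroup generated by the elements x · a x a⁻¹ with x ∈ L (the diagonal). Then every element of M outside J·Z(M) generates M together with J. -/
theorem result {H : Type*} [Group H] [Finite H] (a : H) (ha : orderOf a = 2) (L : Subgroup H) (hL : Cfsg.IsComponent L)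
    (hLa : L.map (MulAut.conj a).toMonoidHom ≠ L) (x : H) (hxM : x ∈ L ⊔ L.map (MulAut.conj a).toMonoidHom)
    (hxJ : x ∉ Subgroup.closure {y : H | ∃ l ∈ L, y = l * (a * l * a⁻¹)} ⊔
      ((L ⊔ L.map (MulAut.conj a).toMonoidHom) ⊓ Subgroup.centralizer ((L ⊔ L.map (MulAut.conj a).toMonoidHom : Subgroup H) : Set H))) :
    Subgroup.closure {y : H | ∃ l ∈ L, y = l * (a * l * a⁻¹)} ⊔ Subgroup.zpowers x = L ⊔ L.map (MulAut.conj a).toMonoidHom := by
  classical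
  set La := L.map (MulAut.conj a).toMonoidHom with hLaDef
  have hLac : Cfsg.IsComponent La := Grp.IsComponent.map_iso _ hL
  have hcomm : ∀ u ∈ L, ∀ v ∈ La, u * v = v * u := fun u hu v hv =>
    (Subgroup.mem_centralizer_iff.mp (Grp.IsComponent.commute hL hLac (Ne.symm hLa) hu) v hv).symm
  set J := Subgroup.closure {y : H | ∃ l ∈ L, y = l * (a * l * a⁻¹)} with hJ
  set M := L ⊔ La with hM
  have hJM : J ≤ M := (Subgroup.closure_le _).mpr (by
    rintro _ ⟨l, hl, rfl⟩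
    exact mul_mem (Subgroup.mem_sup_left hl) (Subgroup.mem_sup_right ⟨l, hl, rfl⟩))
  have hφ : ∀ l ∈ L, l * (a * l * a⁻¹) ∈ J := fun l hl => Subgroup.subset_closure ⟨l, hl, rfl⟩
  set X := J ⊔ Subgroup.zpowers x with hX
  refine le_antisymm (sup_le hJM (Subgroup.zpowers_le.mpr hxM)) ?_
  have hLn : L ≤ Subgroup.normalizer (La : Set H) := fun u hu =>
    Subgroup.centralizer_le_normalizer _ (Subgroup.mem_centralizer_iff.mpr fun v hv => (hcomm u hu v hv).symm)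
  obtain ⟨l₁, hl₁, v, hv, rfl⟩ := (Subgroup.coe_mul_of_left_le_normalizer_right _ _ hLn).subset hxM
  obtain ⟨l₂, hl₂, rfl⟩ := hv
  set l := l₁ * l₂⁻¹ with hl
  have hlL : l ∈ L := L.mul_mem hl₁ (L.inv_mem hl₂)
  have hc2 : l₂⁻¹ * (a * l₂⁻¹ * a⁻¹) = (a * l₂⁻¹ * a⁻¹) * l₂⁻¹ :=
    hcomm _ (L.inv_mem hl₂) _ ⟨l₂⁻¹, L.inv_mem hl₂, rfl⟩
  have hxe : l₁ * (a * l₂ * a⁻¹) * (l₂⁻¹ * (a * l₂⁻¹ * a⁻¹)) = l := by
    rw [hc2, hl]; group
  have hlX : l ∈ X := by
    rw [← hxe]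
    exact mul_mem (Subgroup.mem_sup_right (Subgroup.mem_zpowers _))
      (Subgroup.mem_sup_left (hφ _ (L.inv_mem hl₂)))
  have hconj : ∀ k ∈ L, ∀ u ∈ L, (k * (a * k * a⁻¹)) * u * (k * (a * k * a⁻¹))⁻¹ = k * u * k⁻¹ := by
    intro k hk u hu
    have e : (a * k * a⁻¹) * u = u * (a * k * a⁻¹) := (hcomm u hu _ ⟨k, hk, rfl⟩).symm
    calc (k * (a * k * a⁻¹)) * u * (k * (a * k * a⁻¹))⁻¹
        = k * ((a * k * a⁻¹) * u) * (a * k * a⁻¹)⁻¹ * k⁻¹ := by group
      _ = k * (u * (a * k * a⁻¹)) * (a * k * a⁻¹)⁻¹ * k⁻¹ := by rw [e]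
      _ = k * u * k⁻¹ := by group
  haveI hn : ((X ⊓ L).subgroupOf L).Normal := ⟨fun u hu k => by
    refine Subgroup.mem_subgroupOf.mpr ⟨?_, (k * u * k⁻¹).2⟩
    have h1 : (k : H) * (a * k * a⁻¹) ∈ X := Subgroup.mem_sup_left (hφ _ k.2)
    have := X.mul_mem (X.mul_mem h1 (Subgroup.mem_subgroupOf.mp hu).1) (X.inv_mem h1)
    rw [hconj _ k.2 _ u.2] at this
    simpa using this⟩
  have hLX : L ≤ X := by
    rcases Grp.IsQuasisimple.eq_top_or_le_center hL.2 ((X ⊓ L).subgroupOf L) with h | h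
    · exact (Subgroup.subgroupOf_eq_top.mp h).trans inf_le_left
    exfalso
    refine hxJ ?_
    have hz := Subgroup.mem_center_iff.mp (h (x := ⟨l, hlL⟩) (Subgroup.mem_subgroupOf.mpr ⟨hlX, hlL⟩))
    have hlC : l ∈ Subgroup.centralizer ((L ⊔ La : Subgroup H) : Set H) := by
      have h1 : L ≤ Subgroup.centralizer ({l} : Set H) := fun u hu =>
        Subgroup.mem_centralizer_singleton_iff.mpr (congrArg Subtype.val (hz ⟨u, hu⟩))
      have h2 : La ≤ Subgroup.centralizer ({l} : Set H) := fun u hu =>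
        Subgroup.mem_centralizer_singleton_iff.mpr (hcomm l hlL u hu).symm
      exact Subgroup.mem_centralizer_iff.mpr fun u hu =>
        Subgroup.mem_centralizer_singleton_iff.mp (sup_le h1 h2 hu)
    have e : l₁ * (a * l₂ * a⁻¹) = l * (l₂ * (a * l₂ * a⁻¹)) := by rw [hl]; group
    show l₁ * (a * l₂ * a⁻¹) ∈ _
    rw [e]
    exact mul_mem (Subgroup.mem_sup_right ⟨Subgroup.mem_sup_left hlL, hlC⟩)
      (Subgroup.mem_sup_left (hφ _ hl₂))
  refine sup_le hLX ?_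
  rintro _ ⟨k, hk, rfl⟩
  simpa [mul_assoc] using X.mul_mem (X.inv_mem (hLX hk)) (Subgroup.mem_sup_left (hφ k hk))

end Cfsg.Agent.S1921
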