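import Cfsg.Prelude
import Cfsg.Agent.Lib.Invol.UniqueFixed
-- import your own Cfsg.Agent.* helpers here

set_option autoImplicit false
open Cfsg

open scoped Pointwise commutatorElement

namespace Cfsg.Agent.S1922

/-- Let z be an involution of a finite group G and H a proper subgroup such that z lies in gHg⁻¹ exactly when g ∈ H. Then the following are equivalent: (1) for every conjugate t ≠ z of z commuting with z, the product zt lies in gHg⁻¹ exactly when g ∈ H; (2) z lies in the centre of some Sylow 2-subgroup of G, and for every conjugate t ≠ z of z commuting with z, the centralizer of zt is contained in H. -/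
theorem result {G : Type*} [Group G] [Finite G] (z : G) (hz : orderOf z = 2) (H : Subgroup G) (hH : H ≠ ⊤)
    (h0 : ∀ g : G, z ∈ H.map (MulAut.conj g).toMonoidHom ↔ g ∈ H) :
    (∀ t : G, IsConj z t → t ≠ z → t * z = z * t → ∀ g : G, z * t ∈ H.map (MulAut.conj g).toMonoidHom ↔ g ∈ H) ↔
      ((∃ P : Sylow 2 G, z ∈ (Subgroup.center ↥(P : Subgroup G)).map (P : Subgroup G).subtype) ∧
        ∀ t : G, IsConj z t → t ≠ z → t * z = z * t → Subgroup.centralizer ({z * t} : Set G) ≤ H) := by
  classical
  haveI := Fact.mk Nat.prime_two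
  have hzz : z * z = 1 := by rw [← pow_two, ← hz, pow_orderOf_eq_one]
  set x₀ : G ⧸ H := ((1 : G) : G ⧸ H) with hx₀
  have hcls : Nat.card (Invol.UniqFix.Cls z) = (Subgroup.centralizer ({z} : Set G)).index := by
    rw [Subgroup.index]
    have hwd : ∀ a b : G, a⁻¹ * b ∈ Subgroup.centralizer ({z} : Set G) → a * z * a⁻¹ = b * z * b⁻¹ := by
      intro a b h
      have h1 := Subgroup.mem_centralizer_singleton_iff.mp h
      calc a * z * a⁻¹ = a * (z * (a⁻¹ * b)) * (a⁻¹ * b)⁻¹ * a⁻¹ := by group
        _ = a * ((a⁻¹ * b) * z) * (a⁻¹ * b)⁻¹ * a⁻¹ := by rw [h1]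
        _ = b * z * b⁻¹ := by group
    refine (Nat.card_congr (Equiv.ofBijective (fun q : G ⧸ Subgroup.centralizer ({z} : Set G) =>
      Quotient.liftOn' q (fun a => (⟨a * z * a⁻¹, isConj_iff.mpr ⟨a, rfl⟩⟩ : Invol.UniqFix.Cls z))
        (fun a b h => Subtype.ext (hwd a b (QuotientGroup.leftRel_apply.mp h)))) ⟨?_, ?_⟩)).symm
    · intro q q'
      induction q using QuotientGroup.induction_on with
      | H a =>
        induction q' using QuotientGroup.induction_on with
        | H b =>
          intro h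
          have h1 : a * z * a⁻¹ = b * z * b⁻¹ := congrArg Subtype.val h
          rw [QuotientGroup.eq, Subgroup.mem_centralizer_singleton_iff]
          calc a⁻¹ * b * z = a⁻¹ * (b * z * b⁻¹) * b := by group
            _ = a⁻¹ * (a * z * a⁻¹) * b := by rw [h1]
            _ = z * (a⁻¹ * b) := by group
    · rintro ⟨t, ht⟩
      obtain ⟨a, rfl⟩ := isConj_iff.mp ht
      exact ⟨(a : G ⧸ Subgroup.centralizer ({z} : Set G)), rfl⟩
  have hcount := Invol.UniqFix.card_cls (H := H) h0
  have hn := Invol.UniqFix.odd_index hzz (H := H) h0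
  constructor
  · intro h1
    refine ⟨?_, fun t ht hne hc => Invol.UniqFix.Only.centralizer_le (h1 t ht hne hc)⟩
    have hodd : Odd (Subgroup.centralizer ({z} : Set G)).index := by
      rw [← hcls, hcount]; exact hn.mul (Invol.UniqFix.odd_fibre hzz h0 hH h1)
    obtain ⟨Q⟩ : Nonempty (Sylow 2 ↥(Subgroup.centralizer ({z} : Set G))) := inferInstance
    set Q' := (Q : Subgroup ↥(Subgroup.centralizer ({z} : Set G))).map (Subgroup.centralizer ({z} : Set G)).subtype
    have hidx : ¬ 2 ∣ Q'.index := by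
      rw [Subgroup.index_map_subtype, Nat.prime_two.dvd_mul]
      exact not_or.mpr ⟨Q.not_dvd_index, hodd.not_two_dvd_nat⟩
    refine ⟨(Q.isPGroup'.map _ : IsPGroup 2 ↥Q').toSylow hidx, ?_⟩
    have hzC : z ∈ Subgroup.centralizer ({z} : Set G) := Subgroup.mem_centralizer_singleton_iff.mpr rfl
    have hzQ : (⟨z, hzC⟩ : ↥(Subgroup.centralizer ({z} : Set G))) ∈ (Q : Subgroup _) := by
      set z' : ↥(Subgroup.centralizer ({z} : Set G)) := ⟨z, hzC⟩
      haveI : (Subgroup.zpowers z').Normal := ⟨fun w hw g => by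
        obtain ⟨k, rfl⟩ := hw
        have hcen : Commute g z' := Subtype.ext (Subgroup.mem_centralizer_singleton_iff.mp g.2)
        show g * z' ^ k * g⁻¹ ∈ _
        rw [(hcen.zpow_right k).eq, mul_inv_cancel_right]
        exact ⟨k, rfl⟩⟩
      exact (IsPGroup.of_card (n := 1) (by rw [Nat.card_zpowers, ← Subgroup.orderOf_coe, hz, pow_one]) :
        IsPGroup 2 ↥(Subgroup.zpowers z')).le_sylow_of_normal Q (Subgroup.mem_zpowers z')
    refine ⟨⟨z, ⟨_, hzQ, rfl⟩⟩, Subgroup.mem_center_iff.mpr ?_, rfl⟩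
    rintro ⟨_, ⟨w, _, rfl⟩⟩
    exact Subtype.ext (Subgroup.mem_centralizer_singleton_iff.mp w.2)
  · rintro ⟨⟨P, hP⟩, hC⟩ t ht hne hc g
    have ho : Odd (Subgroup.centralizer ({z} : Set G)).index := by
      rw [← Nat.not_even_iff_odd, even_iff_two_dvd]
      refine fun hd => P.not_dvd_index (hd.trans (Subgroup.index_dvd_of_le ?_))
      obtain ⟨z', hz', rfl⟩ := hP
      exact fun w hw => Subgroup.mem_centralizer_singleton_iff.mpr
        (congrArg Subtype.val (Subgroup.mem_center_iff.mp hz' ⟨w, hw⟩))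
    have ha : Odd (Nat.card {s : Invol.UniqFix.Cls z // Invol.UniqFix.pt h0 s = x₀}) := by
      rw [← hcls, hcount, Nat.odd_mul] at ho
      exact ho.2
    have hzH : z ∈ H := by
      have := (h0 1).mpr H.one_mem
      obtain ⟨w, hw, hwe⟩ := this
      simp at hwe; rwa [← hwe]
    have htH : t ∈ H :=
      Invol.UniqFix.Only.centralizer_le h0 (Subgroup.mem_centralizer_singleton_iff.mpr hc)
    constructor
    · intro hu
      set y : G ⧸ H := ((g : G) : G ⧸ H) with hy
      have huy : (z * t) • y = y := (Invol.UniqFix.smul_mk_eq_iff _ _).mpr hu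
      have huu : (z * t) * (z * t) = 1 := by
        obtain ⟨c, hc'⟩ := isConj_iff.mp ht
        have htt : t * t = 1 := by
          rw [← hc', show c * z * c⁻¹ * (c * z * c⁻¹) = c * (z * z) * c⁻¹ by group, hzz, mul_one, mul_inv_cancel]
        calc (z * t) * (z * t) = z * (t * z) * t := by group
          _ = (z * z) * (t * t) := by rw [hc]; group
          _ = 1 := by rw [hzz, htt, mul_one]
      let F := {s : Invol.UniqFix.Cls z // Invol.UniqFix.pt h0 s = y}
      let σ : Equiv.Perm F := Function.Involutive.toPerm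
        (fun s => ⟨⟨(z * t) * s.1.1 * (z * t)⁻¹, s.1.2.trans (isConj_iff.mpr ⟨z * t, rfl⟩)⟩, by
          refine (Invol.UniqFix.pt_eq_iff h0 _ _).mpr ?_
          show ((z * t) * s.1.1 * (z * t)⁻¹) • y = y
          rw [inv_eq_of_mul_eq_one_right huu, mul_smul, mul_smul, huy, (Invol.UniqFix.pt_eq_iff h0 _ _).mp s.2, huy]⟩)
        (fun s => Subtype.ext (Subtype.ext (by
          show (z * t) * ((z * t) * s.1.1 * (z * t)⁻¹) * (z * t)⁻¹ = s.1.1
          calc (z * t) * ((z * t) * s.1.1 * (z * t)⁻¹) * (z * t)⁻¹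
              = ((z * t) * (z * t)) * s.1.1 * ((z * t) * (z * t))⁻¹ := by group
            _ = s.1.1 := by rw [huu, inv_one, one_mul, mul_one])))
      haveI := Fintype.ofFinite F
      obtain ⟨s, hs⟩ := Equiv.Perm.exists_fixed_point_of_prime (σ := σ) (p := 2) (n := 1)
        (by
          rw [← Nat.card_eq_fintype_card, Invol.UniqFix.card_fibre h0 y, ← hx₀]
          exact ha.not_two_dvd_nat)
        (Equiv.ext fun s => by
          rw [pow_one, pow_two]
          exact Function.Involutive.toPerm_involutive _ s)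
      have hsC : s.1.1 ∈ Subgroup.centralizer ({z * t} : Set G) := by
        refine Subgroup.mem_centralizer_singleton_iff.mpr ?_
        have h2 : (z * t) * s.1.1 * (z * t)⁻¹ = s.1.1 := congrArg (fun r : F => r.1.1) hs
        exact (mul_inv_eq_iff_eq_mul.mp h2).symm
      have hsx : s.1.1 • x₀ = x₀ := by
        rw [hx₀, MulAction.Quotient.smul_coe, QuotientGroup.eq, smul_eq_mul, mul_one, mul_one]
        exact H.inv_mem (hC t ht hne hc hsC)
      have h3 : x₀ = y := ((Invol.UniqFix.pt_eq_iff h0 s.1 x₀).mpr hsx).symm.trans s.2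
      rw [hx₀, hy, QuotientGroup.eq, inv_one, one_mul] at h3
      exact h3
    · intro hg
      exact ⟨g⁻¹ * (z * t) * g, H.mul_mem (H.mul_mem (H.inv_mem hg) (H.mul_mem hzH htH)) hg, by simp [mul_assoc]⟩

end Cfsg.Agent.S1922
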