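import Cfsg.Prelude
import Cfsg.Agent.Lib.Grp.Components
import Cfsg.Agent.Lib.Spor.FlavellDetect

set_option autoImplicit false
open Cfsg

namespace Cfsg.Agent.S1930

/-- Inside a finite group let G be a nontrivial subgroup and R an r-subgroup (r a prime) normalizing G, with the order of G prime to r. Let p > 3 be a prime with F*(G) = O_p(G), and let P be the intersection of all R-invariant Sylow p-subgroups of G. Then P has a nontrivial characteristic subgroup that is normalized by G. -/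
theorem result {X : Type*} [Group X] [Finite X] (G R : Subgroup X) (r : ℕ) [Fact r.Prime] (hR : IsPGroup r ↥R) (hcop : (Nat.card ↥G).Coprime r) (hnorm : R ≤ Subgroup.normalizer (G : Set X)) (hG : G ≠ ⊥) (p : ℕ) [Fact p.Prime] (hp : 3 < p) (hF : Cfsg.generalizedFittingSubgroup ↥G = Cfsg.pCore p ↥G) (P : Subgroup X) (hP : P = ⨅ S : {S : Sylow p ↥G // ∀ a ∈ R, ((S : Subgroup ↥G).map G.subtype).map (MulAut.conj a).toMonoidHom = (S : Subgroup ↥G).map G.subtype}, ((S : Sylow p ↥G) : Subgroup ↥G).map G.subtype) : ∃ C : Subgroup ↥P, C.Characteristic ∧ C ≠ ⊥ ∧ G ≤ Subgroup.normalizer ((C.map P.subtype : Subgroup X) : Set X) := by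
  have hp5 : 5 ≤ p := by
    have hpp : p.Prime := Fact.out
    rcases Nat.lt_or_ge p 5 with h | h
    · have h4 : p = 4 := by omega
      subst h4
      exact absurd hpp (by decide)
    · exact h
  obtain ⟨n, hn⟩ := IsPGroup.iff_card.1 hR
  have hcop' : (Nat.card R).Coprime (Nat.card G) := hn ▸ (hcop.symm.pow_left n)
  have hinv : ∀ S : Subgroup X, (∀ a ∈ R, S.map (MulAut.conj a).toMonoidHom = S) ↔
      R ≤ Subgroup.normalizer (S : Set X) := fun S =>
    forall_congr' fun a => imp_congr_right fun _ => (Cfsg.Agent.Grp.mem_normalizer_iff_smul (g := a) (H := S)).symm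
  obtain ⟨S0, hS0, hS0A⟩ := Cfsg.Agent.Grp.exists_invariant_sylow R G hnorm hcop'
    (Cfsg.Agent.Spor.Flavell.solv hcop') p
  obtain ⟨T0, hT0⟩ := Cfsg.Agent.Grp.isSylowIn_iff.1 hS0
  have hiff : ∀ x, x ∈ P ↔ Cfsg.Agent.Spor.Flavell.InP p G R x := by
    intro x
    rw [hP, Subgroup.mem_iInf]
    constructor
    · intro h
      have h0 : ∀ S, Cfsg.Agent.Grp.IsSylowIn p S G → R ≤ Subgroup.normalizer (S : Set X) → x ∈ S := by
        intro S hS hSA
        obtain ⟨T, hT⟩ := Cfsg.Agent.Grp.isSylowIn_iff.1 hS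
        subst hT
        exact h ⟨T, (hinv _).2 hSA⟩
      exact ⟨hS0.1 (h0 S0 hS0 hS0A), h0⟩
    · rintro ⟨-, h⟩ ⟨T, hT⟩
      exact h _ (Cfsg.Agent.Grp.isSylowIn_iff.2 ⟨T, rfl⟩) ((hinv _).1 hT)
  have hQn : R ≤ Subgroup.normalizer (P : Set X) := Cfsg.Agent.Spor.Flavell.le_normalizer_of_forall
    fun a ha x hx => (hiff _).2 (((hiff x).1 hx).conj_operator hnorm hcop' ha)
  have hcentQ : ∀ g ∈ G, (∀ q ∈ Cfsg.Agent.Spor.Flavell.opc p G, Commute g q) →
      g ∈ Cfsg.Agent.Spor.Flavell.opc p G := by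
    intro g hgG hg
    have h : (⟨g, hgG⟩ : G) ∈ Subgroup.centralizer (Cfsg.generalizedFittingSubgroup G : Set G) := by
      refine Subgroup.mem_centralizer_iff.2 fun y hy => Subtype.ext ?_
      rw [hF] at hy
      exact (hg (y : X) ⟨y, hy, rfl⟩).eq.symm
    exact ⟨⟨g, hgG⟩, hF ▸ Cfsg.Agent.Grp.centralizer_gfitting_le h, rfl⟩
  have hQP : Cfsg.Agent.Spor.Flavell.opc p G ≤ P := by
    intro x hx
    refine (hiff x).2 ⟨Cfsg.Agent.Spor.Flavell.opc_le G hx, fun S hS _ => ?_⟩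
    obtain ⟨T, hT⟩ := Cfsg.Agent.Grp.isSylowIn_iff.1 hS
    subst hT
    exact Subgroup.map_mono (Cfsg.Agent.Grp.pCore_le_sylow T) hx
  refine Cfsg.Agent.Spor.Flavell.exists_characteristic hp5 (R := R)
    ⟨hnorm, hcop', fun x hx => (hiff x).1 hx, Cfsg.Agent.Spor.Flavell.meet_isPGroup hnorm hcop' hiff, hQn, rfl,
      hQP, fun g hg hgc hgq y _ => ?_, fun e => hG ?_⟩
  · obtain ⟨k, hk⟩ := Cfsg.Agent.Spor.Flavell.opc_isPGroup (p := p) G ⟨g, hcentQ g hg hgq⟩
    have h1 : g ^ p ^ k = 1 := congrArg Subtype.val hk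
    rw [orderOf_eq_one_iff.1 (Nat.eq_one_of_dvd_coprimes (hgc.pow_right k) dvd_rfl (orderOf_dvd_of_pow_eq_one h1))]
    exact Commute.one_left y
  · refine (Subgroup.eq_bot_iff_forall _).2 fun g hg => ?_
    have hbot : Cfsg.Agent.Spor.Flavell.opc p G = ⊥ := le_bot_iff.1 (e ▸ hQP)
    have := hcentQ g hg fun q hq => by
      rw [hbot, Subgroup.mem_bot] at hq; rw [hq]; exact Commute.one_right g
    rwa [hbot, Subgroup.mem_bot] at this

end Cfsg.Agent.S1930
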