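import Cfsg.Prelude
import Cfsg.Agent.Lib.Spor.FlavellLayers

set_option autoImplicit false
open Cfsg

namespace Cfsg.Agent.S1931

/-- Inside a finite group let G be a subgroup and R a noncyclic abelian r-subgroup (r a prime) normalizing G, with the order of G prime to r, and let p > 3 be a prime. Suppose that for every nonidentity a ∈ R, R centralizes the subgroup O^p(F*(C_G(a))) generated by the p'-elements of the generalized Fitting subgroup of C_G(a). Then R centralizes O^p(F*(G)). -/
theorem result {X : Type*} [Group X] [Finite X] (G R : Subgroup X) (r : ℕ) [Fact r.Prime] (hR : IsPGroup r ↥R) (hcop : (Nat.card ↥G).Coprime r) (hnorm : R ≤ Subgroup.normalizer (G : Set X)) (hab : IsMulCommutative ↥R) (hnc : ¬ IsCyclic ↥R) (p : ℕ) [Fact p.Prime] (hp : 3 < p) (hloc : ∀ a ∈ R, a ≠ 1 → R ≤ Subgroup.centralizer ((((Cfsg.pResidual p ↥(Cfsg.generalizedFittingSubgroup ↥(G ⊓ Subgroup.centralizer ({a} : Set X)))).map (Cfsg.generalizedFittingSubgroup ↥(G ⊓ Subgroup.centralizer ({a} : Set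 X))).subtype).map (G ⊓ Subgroup.centralizer ({a} : Set X)).subtype : Subgroup X) : Set X)) : R ≤ Subgroup.centralizer ((((Cfsg.pResidual p ↥(Cfsg.generalizedFittingSubgroup ↥G)).map (Cfsg.generalizedFittingSubgroup ↥G).subtype).map G.subtype : Subgroup X) : Set X) := by
  obtain ⟨A, hAR, hAr, hAnc⟩ := Cfsg.Agent.Spor.Flavell.Layers.exists_omega hR hab hnc
  have hp5 : 5 ≤ p := by
    have hp' := (Fact.out : p.Prime)
    by_contra h
    have : p = 4 := by omega
    exact absurd hp' (this ▸ by decide)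
  have hcop' : (Nat.card R).Coprime (Nat.card G) := by
    obtain ⟨n, hn⟩ := IsPGroup.iff_card.1 hR
    rw [hn]
    exact hcop.symm.pow_left n
  have hloc' : ∀ a ∈ A, a ≠ 1 → R ≤ Subgroup.centralizer (Cfsg.Agent.Spor.Flavell.pRes p
      (Cfsg.Agent.Spor.Flavell.Layers.gfit (G ⊓ Subgroup.centralizer ({a} : Set X))) : Set X) := by
    intro a ha ha1
    rw [← Cfsg.Agent.Spor.Flavell.Layers.map_pResidual_gfit]
    exact hloc a (hAR ha) ha1
  rw [Cfsg.Agent.Spor.Flavell.Layers.map_pResidual_gfit, Subgroup.le_centralizer_iff]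
  exact Cfsg.Agent.Spor.Flavell.Layers.pRes_gfit_le
    (Cfsg.Agent.Spor.Flavell.Layers.lay_le_centralizer_operators hp5 hnorm hcop' hab hAR hAr hAnc hloc')
    fun q _ hq => Cfsg.Agent.Spor.Flavell.Layers.opc_le_centralizer hnorm hcop' hab hAR hAnc hloc' q hq

end Cfsg.Agent.S1931
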