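import Cfsg.Prelude
import Cfsg.Agent.Lib.Invol.QuadNormal
-- import your own Cfsg.Agent.* helpers here

set_option autoImplicit false
open Cfsg

open scoped Pointwise commutatorElement

namespace Cfsg.Agent.S1935

/-- Let p ≥ 5 be a prime and, inside an ambient finite group, let G be a p-subgroup acting faithfully by conjugation on an elementary abelian p-subgroup V that it normalizes (only the identity of G centralizes V). Suppose V is an F-module for G: some nontrivial elementary abelian subgroup E of G satisfies #E · #C_V(E) ≥ #V. Then G contains such an offender A that moreover acts quadratically on V ([V, A, A] = 1) and is normal in its normal closure in G. -/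
theorem result {Ω : Type*} [Group Ω] [Finite Ω] (p : ℕ) [Fact p.Prime] (hp : 5 ≤ p) (V G : Subgroup Ω) (hV : Cfsg.IsElementaryAbelian p V) (hG : IsPGroup p ↥G) (hGV : G ≤ Subgroup.normalizer (V : Set Ω)) (hfaith : G ⊓ Subgroup.centralizer (V : Set Ω) = ⊥) (hF : ∃ E : Subgroup Ω, E ≤ G ∧ E ≠ ⊥ ∧ Cfsg.IsElementaryAbelian p E ∧ Nat.card ↥V ≤ Nat.card ↥E * Nat.card ↥(V ⊓ Subgroup.centralizer (E : Set Ω))) : ∃ A : Subgroup Ω, A ≤ G ∧ A ≠ ⊥ ∧ Cfsg.IsElementaryAbelian p A ∧ Nat.card ↥V ≤ Nat.card ↥A * Nat.card ↥(V ⊓ Subgroup.centralizer (A : Set Ω)) ∧ ⁅⁅V, A⁆, A⁆ = ⊥ ∧ ∀ g ∈ Subgroup.closure {x : Ω | ∃ h ∈ G, ∃ a ∈ A, x = h * a * h⁻¹}, ∀ a ∈ A, g * a * g⁻¹ ∈ A := by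
  classical
  obtain ⟨E, hEG, hE1, ⟨hEc, hEp⟩, hEoff⟩ := hF
  haveI := hV.1
  letI : CommGroup ↥V := { (inferInstance : Group ↥V) with mul_comm := fun a b => hV.1.is_comm.comm a b }
  haveI : Finite (Additive ↥V) := inferInstanceAs (Finite ↥V)
  let cj : ↥G → Additive ↥V →+ Additive ↥V := fun g =>
    { toFun := fun v => Additive.ofMul ⟨(g : Ω) * (Additive.toMul v : ↥V) * (g : Ω)⁻¹,
        (Subgroup.mem_normalizer_iff.mp (hGV g.2) _).mp (Additive.toMul v).2⟩
      map_zero' := by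
        apply Additive.toMul.injective; apply Subtype.ext; simp
      map_add' := fun v w => by
        apply Additive.toMul.injective; apply Subtype.ext
        simp [mul_assoc] }
  let T : ↥G →* AddMonoid.End (Additive ↥V) :=
    { toFun := cj
      map_one' := AddMonoidHom.ext fun v => by
        apply Additive.toMul.injective; apply Subtype.ext; simp [cj]; rfl
      map_mul' := fun g h => AddMonoidHom.ext fun v => by
        apply Additive.toMul.injective; apply Subtype.ext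
        show ((g * h : ↥G) : Ω) * _ * ((g * h : ↥G) : Ω)⁻¹ = (g : Ω) * ((h : Ω) * _ * (h : Ω)⁻¹) * (g : Ω)⁻¹
        simp [mul_assoc] }
  have hT : ∀ (g : ↥G) (v : Ω) (hv : v ∈ V),
      ((Additive.toMul (T g (Additive.ofMul ⟨v, hv⟩)) : ↥V) : Ω) = (g : Ω) * v * (g : Ω)⁻¹ :=
    fun g v hv => rfl
  have hfix : ∀ g : ↥G, T g = 1 → g = 1 := fun g hg => by
    have h1 : (g : Ω) ∈ G ⊓ Subgroup.centralizer (V : Set Ω) := by
      refine ⟨g.2, Subgroup.mem_centralizer_iff.mpr fun v hv => ?_⟩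
      have h := hT g v hv
      rw [hg] at h
      have h' : v = (g : Ω) * v * (g : Ω)⁻¹ := h
      calc v * (g : Ω) = (g : Ω) * v * (g : Ω)⁻¹ * g := by rw [← h']
        _ = _ := by group
    rw [hfaith, Subgroup.mem_bot] at h1
    exact Subtype.ext h1
  have hinj : Function.Injective T := fun g h he => by
    have := hfix (g * h⁻¹) (by rw [map_mul, he, ← map_mul, mul_inv_cancel, map_one])
    exact mul_inv_eq_one.mp this
  have hexp : ∀ v : Additive ↥V, p • v = 0 := fun v => by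
    apply Additive.toMul.injective
    apply Subtype.ext
    simpa using hV.2 _ (Additive.toMul v).2
  set E' : Subgroup ↥G := E.subgroupOf G
  have hcfix : ∀ B : Subgroup ↥G, Nat.card ↥(Cfsg.Agent.Transfer.Timmesfeld.fix T B) =
      Nat.card ↥(V ⊓ Subgroup.centralizer ((B.map G.subtype : Subgroup Ω) : Set Ω)) := by
    intro B
    refine Nat.card_congr
      { toFun := fun v => ⟨((Additive.toMul v.1 : ↥V) : Ω), (Additive.toMul v.1).2,
          Subgroup.mem_centralizer_iff.mpr ?_⟩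
        invFun := fun v => ⟨Additive.ofMul ⟨v.1, v.2.1⟩, fun b hb => ?_⟩
        left_inv := fun v => rfl
        right_inv := fun v => rfl }
    · rintro _ ⟨b, hb, rfl⟩
      have h : (b : Ω) * ((Additive.toMul v.1 : ↥V) : Ω) * (b : Ω)⁻¹ = ((Additive.toMul v.1 : ↥V) : Ω) :=
        congrArg (fun u : Additive ↥V => ((Additive.toMul u : ↥V) : Ω)) (v.2 b hb)
      show (b : Ω) * _ = _ * (b : Ω)
      conv_rhs => rw [← h]
      group
    · apply Additive.toMul.injective; apply Subtype.ext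
      show (b : Ω) * v.1 * (b : Ω)⁻¹ = v.1
      rw [show (b : Ω) * v.1 = v.1 * (b : Ω) from Subgroup.mem_centralizer_iff.mp v.2.2 _ ⟨b, hb, rfl⟩]
      exact mul_inv_cancel_right _ _
  have hmapE : E'.map G.subtype = E := by
    rw [Subgroup.subgroupOf_map_subtype, inf_eq_left.mpr hEG]
  obtain ⟨a₀, h₀⟩ := Cfsg.Agent.Invol.QuadNormal.exists_off (p := p) T hexp
    (fun B _ _ hB => by
      by_contra hno
      exact hB ((Subgroup.eq_bot_iff_forall B).mpr fun g hg => hfix g (by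
        by_contra h; exact hno ⟨g, hg, h⟩)))
    E' (fun h => hE1 (by rw [← hmapE, h, Subgroup.map_bot]))
    (fun g hg h hh => by
      have h2 := congrArg Subtype.val (hEc.is_comm.comm (⟨(g : Ω), hg⟩ : ↥E) ⟨(h : Ω), hh⟩)
      exact Subtype.ext h2)
    (fun g hg => Subtype.ext (by simpa using hEp _ hg))
    (by
      rw [Cfsg.Agent.Transfer.Timmesfeld.meas, hcfix,
        ← Subgroup.card_map_of_injective G.subtype_injective (K := E'), hmapE]
      exact hEoff) hinj
  obtain ⟨a, ha, hn⟩ := Cfsg.Agent.Invol.QuadNormal.exists_normal_closure (p := p) T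
    (by omega) hexp hG h₀
  set B := Cfsg.Agent.Invol.QuadNormal.grp T a ha.sq with hB
  have hsq : ∀ b ∈ B, ∀ c ∈ B, ∀ v, T b (T c v - v) = T c v - v := fun b hb c hc v =>
    Cfsg.Agent.Invol.QuadNormal.grp_quad T hb hc v
  refine ⟨B.map G.subtype, Subgroup.map_subtype_le B, ?_, ⟨⟨⟨?_⟩⟩, ?_⟩, ?_, ?_, ?_⟩
  · intro h
    exact Cfsg.Agent.Invol.QuadNormal.grp_ne_bot T ha
      ((Subgroup.map_eq_bot_iff_of_injective _ G.subtype_injective).mp h)
  · rintro ⟨_, b, hb, rfl⟩ ⟨_, c, hc, rfl⟩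
    apply Subtype.ext
    show (b : Ω) * c = c * b
    exact congrArg Subtype.val (hinj (Cfsg.Agent.Invol.QuadNormal.grp_commute T hb hc))
  · rintro _ ⟨b, hb, rfl⟩
    have h1 : b ^ p = 1 :=
      hinj ((Cfsg.Agent.Invol.QuadNormal.grp_pow T hexp hb).trans (map_one T).symm)
    simpa using congrArg (Subtype.val : ↥G → Ω) h1
  · obtain ⟨C, hC, hCV⟩ := ha.off
    rw [← hcfix, Subgroup.card_map_of_injective G.subtype_injective]
    refine (show Nat.card ↥V = Nat.card (Additive ↥V) from rfl).le.trans (hCV.trans (Nat.mul_le_mul ?_ ?_))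
    · exact Cfsg.Agent.Invol.QuadNormal.card_le_grp T ha
    · refine AddSubgroup.card_le_of_le fun v hv b hb => ?_
      have h' : T b v - v = 0 := hC _ hb v hv
      exact sub_eq_zero.mp h'
  · rw [Subgroup.commutator_eq_bot_iff_le_centralizer, Subgroup.commutator_le]
    rintro v hv _ ⟨c, hc, rfl⟩
    refine Subgroup.mem_centralizer_iff.mpr ?_
    rintro _ ⟨b, hb, rfl⟩
    have hm : (c : Ω) * v * (c : Ω)⁻¹ ∈ V := (Subgroup.mem_normalizer_iff.mp (hGV c.2) v).mp hv
    have h := hsq b hb c hc (Additive.ofMul ⟨v, hv⟩)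
    rw [show T c (Additive.ofMul (⟨v, hv⟩ : ↥V)) = Additive.ofMul (⟨_, hm⟩ : ↥V) from rfl, ← ofMul_div] at h
    have h2 : (b : Ω) * ((c : Ω) * v * (c : Ω)⁻¹ / v) * (b : Ω)⁻¹ = (c : Ω) * v * (c : Ω)⁻¹ / v := by
      have e := hT b _ ((⟨_, hm⟩ : ↥V) / ⟨v, hv⟩).2
      rw [Subtype.coe_eta, h, toMul_ofMul, Subgroup.coe_div] at e
      exact e.symm
    show (b : Ω) * ⁅v, (c : Ω)⁆ = ⁅v, (c : Ω)⁆ * (b : Ω)
    have h3 : Commute (b : Ω) ((c : Ω) * v * (c : Ω)⁻¹ / v) := by
      show _ * _ = _ * _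
      conv_rhs => rw [← h2]
      group
    rw [show ⁅v, (c : Ω)⁆ = ((c : Ω) * v * (c : Ω)⁻¹ / v)⁻¹ by
      simp [commutatorElement_def, div_eq_mul_inv, mul_assoc]]
    exact h3.inv_right.eq
  · intro g hg
    have hle : Subgroup.closure {x : Ω | ∃ h ∈ G, ∃ a ∈ B.map G.subtype, x = h * a * h⁻¹} ≤
        (Subgroup.normalizer (B : Set ↥G)).map G.subtype := by
      rw [Subgroup.closure_le]
      rintro _ ⟨h, hh, _, ⟨c, hc, rfl⟩, rfl⟩
      have hm := hn ⟨h, hh⟩ c hc
      refine Subgroup.mem_map.mpr ⟨_, hm, ?_⟩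
      simp
    obtain ⟨w, hw, rfl⟩ := hle hg
    rintro _ ⟨b, hb, rfl⟩
    exact ⟨w * b * w⁻¹, (Subgroup.mem_normalizer_iff.mp hw b).mp hb, rfl⟩

end Cfsg.Agent.S1935
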