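import Cfsg.Statements.S1939
import Mathlib
import Cfsg.Agent.Lib.Invol.Sylow
-- import your own Cfsg.Agent.* helpers here

set_option autoImplicit false
open Cfsg

namespace Cfsg.Agent.S1939

/-- Let S be a Sylow p-subgroup of the finite group G and a an element of S that is the only G-conjugate of a lying in S. Then every power of a has the same property: for every n, the only G-conjugate of a^n lying in S is a^n. -/
theorem result {G : Type*} [Group G] [Finite G] {p : ℕ} [Fact p.Prime] (S : Sylow p G) (a : G)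
    (haS : a ∈ (S : Subgroup G)) (hwc : ∀ g : G, g * a * g⁻¹ ∈ (S : Subgroup G) → g * a * g⁻¹ = a) (n : ℕ) :
    ∀ g : G, g * a ^ n * g⁻¹ ∈ (S : Subgroup G) → g * a ^ n * g⁻¹ = a ^ n := by
  intro g hg
  set c := g * a ^ n * g⁻¹ with hc
  have hcen : ∀ s ∈ (S : Subgroup G), s * a = a * s := by
    intro s hs
    have := hwc s (mul_mem (mul_mem hs haS) (inv_mem hs))
    exact mul_inv_eq_iff_eq_mul.mp this
  set C := Subgroup.centralizer ({c} : Set G)
  have haC : a ∈ C := Subgroup.mem_centralizer_singleton_iff.mpr (hcen c hg).symm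
  have hgaC : g * a * g⁻¹ ∈ C := by
    rw [Subgroup.mem_centralizer_singleton_iff, hc]
    calc g * a * g⁻¹ * (g * a ^ n * g⁻¹) = g * (a * a ^ n) * g⁻¹ := by group
      _ = g * (a ^ n * a) * g⁻¹ := by rw [(Commute.self_pow a n).eq]
      _ = g * a ^ n * g⁻¹ * (g * a * g⁻¹) := by group
  obtain ⟨i, hi⟩ : ∃ i, orderOf a = p ^ i := by
    obtain ⟨k, hk⟩ := S.isPGroup' ⟨a, haS⟩
    obtain ⟨i, -, hi⟩ := (Nat.dvd_prime_pow Fact.out).mp
      (orderOf_dvd_of_pow_eq_one (congrArg Subtype.val hk : a ^ p ^ k = 1))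
    exact ⟨i, hi⟩
  obtain ⟨R, hR⟩ := (Invol.isPGroup_zpowers (x := (⟨a, haC⟩ : C)) (p := p) (n := i)
    (by rw [Subgroup.orderOf_mk, hi])).exists_le_sylow
  obtain ⟨k, hk⟩ := Invol.exists_conj_mem_sylow (x := (⟨_, hgaC⟩ : C)) (p := p) (n := i)
    (by rw [Subgroup.orderOf_mk, Invol.orderOf_conj_eq, hi]) R
  obtain ⟨t, ht⟩ := Invol.exists_conj_subset_sylow (R.isPGroup'.map C.subtype) S
  have h1 : t * a * t⁻¹ = a :=
    hwc t (ht a ⟨_, hR (Subgroup.mem_zpowers _), rfl⟩)
  have h2 : t * ((k : G) * (g * a * g⁻¹) * (k : G)⁻¹) * t⁻¹ = a := by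
    have h := ht _ ⟨_, hk, rfl⟩
    have e : t * ((k : G) * (g * a * g⁻¹) * (k : G)⁻¹) * t⁻¹ =
        (t * k * g) * a * (t * k * g)⁻¹ := by group
    rw [e]
    refine hwc _ ?_
    rw [← e]
    exact h
  have h3 : (k : G) * g * a * ((k : G) * g)⁻¹ = a := by
    have := mul_left_cancel (mul_right_cancel (h2.trans h1.symm))
    calc (k : G) * g * a * ((k : G) * g)⁻¹ = (k : G) * (g * a * g⁻¹) * (k : G)⁻¹ := by group
      _ = a := this
  have h4 : (k : G) * c * (k : G)⁻¹ = a ^ n := by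
    conv_rhs => rw [← h3, conj_pow]
    rw [hc]; group
  have hkc : (k : G) * c * (k : G)⁻¹ = c := by
    rw [Subgroup.mem_centralizer_singleton_iff.mp k.2, mul_inv_cancel_right]
  exact hkc.symm.trans h4

end Cfsg.Agent.S1939
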