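import Cfsg.Statements.S1940
import Mathlib
-- import your own Cfsg.Agent.* helpers here

set_option autoImplicit false
open Cfsg

namespace Cfsg.Agent.S1940

/-- Let the finite group L act by automorphisms on the finite abelian group M, and let N be an L-invariant subgroup of M such that M/N is a p-group on which L acts trivially (every l • m lies in the coset mN). If every element of M is a product of an element of N and an element fixed by a Sylow p-subgroup T of L, then every element of M is a product of an element of N and an element fixed by all of L. -/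
theorem result {L : Type*} [Group L] [Finite L] {M : Type*} [CommGroup M] [Finite M] [MulDistribMulAction L M]
    {p : ℕ} [Fact p.Prime] (N : Subgroup M) (hN : ∀ (l : L) (m : M), m ∈ N → l • m ∈ N)
    (hquot : IsPGroup p (M ⧸ N)) (htriv : ∀ (l : L) (m : M), (l • m) * m⁻¹ ∈ N) (T : Sylow p L)
    (hT : ∀ m : M, ∃ n ∈ N, ∃ c : M, (∀ t ∈ (T : Subgroup L), t • c = c) ∧ m = n * c) :
    ∀ m : M, ∃ n ∈ N, ∃ c : M, (∀ l : L, l • c = c) ∧ m = n * c := by
  classical
  intro m
  obtain ⟨n, hn, c, hc, rfl⟩ := hT m
  have := Fintype.ofFinite (L ⧸ (T : Subgroup L))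
  let f : L ⧸ (T : Subgroup L) → M := fun x => Quotient.liftOn' x (fun l => l • c) (by
    intro a b hab
    have h : a⁻¹ * b ∈ (T : Subgroup L) := QuotientGroup.leftRel_apply.mp hab
    calc a • c = a • ((a⁻¹ * b) • c) := by rw [hc _ h]
      _ = b • c := by rw [smul_smul, mul_inv_cancel_left])
  have hf : ∀ (l : L) (x : L ⧸ (T : Subgroup L)), f (l • x) = l • f x := by
    intro l x
    induction x using QuotientGroup.induction_on with | _ a => ?_
    exact mul_smul l a c
  set d := ∏ x, f x with hd
  have hdfix : ∀ l : L, l • d = d := by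
    intro l
    rw [hd, Finset.smul_prod']
    simp_rw [← hf]
    exact Equiv.prod_comp (MulAction.toPerm l) f
  have hdmod : (d : M ⧸ N) = (c : M ⧸ N) ^ (T : Subgroup L).index := by
    rw [hd, QuotientGroup.mk_prod]
    have : ∀ x, ((f x : M) : M ⧸ N) = (c : M ⧸ N) := by
      intro x
      induction x using QuotientGroup.induction_on with | _ a => ?_
      rw [QuotientGroup.eq]
      have := inv_mem (htriv a c)
      rw [mul_inv_rev, inv_inv] at this
      change (a • c)⁻¹ * c ∈ N
      rwa [mul_comm] at this
    simp_rw [this]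
    rw [Finset.prod_const, Finset.card_univ, Subgroup.index_eq_card, Nat.card_eq_fintype_card]
  obtain ⟨e, he⟩ := hquot.exists_card_eq
  have hcop : (orderOf (c : M ⧸ N)).Coprime (T : Subgroup L).index := by
    refine Nat.Coprime.coprime_dvd_left (he ▸ orderOf_dvd_natCard _) (Nat.Coprime.pow_left e ?_)
    exact (Fact.out : p.Prime).coprime_iff_not_dvd.mpr T.not_dvd_index
  obtain ⟨j, hj⟩ := exists_pow_eq_self_of_coprime hcop.symm
  rw [← hdmod, ← QuotientGroup.mk_pow] at hj
  refine ⟨n * (c * (d ^ j)⁻¹), mul_mem hn ?_, d ^ j, fun l => by rw [smul_pow', hdfix], by group⟩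
  rw [← QuotientGroup.eq_one_iff, QuotientGroup.mk_mul, QuotientGroup.mk_inv, hj, mul_inv_cancel]

end Cfsg.Agent.S1940
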