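import Cfsg.Statements.S1941
import Cfsg.Agent.Lib.Grp.Components
import Cfsg.Agent.Lib.Grp.PComponents
-- import your own Cfsg.Agent.* helpers here

set_option autoImplicit false
open Cfsg

namespace Cfsg.Agent.S1941

/-- Let G be a finite group with no nontrivial normal subgroup of order prime to p, T a Sylow p-subgroup of G and E(G) the layer of G (the subgroup generated by its components). An automorphism of G of p-power order that fixes T and E(G) elementwise is inner. -/
theorem result {G : Type*} [Group G] [Finite G] {p : ℕ} [Fact p.Prime] (hcore : Cfsg.pPrimeCore p G = ⊥)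
    (T : Sylow p G) (α : MulAut G) (hα : ∃ j : ℕ, orderOf α = p ^ j) (hfixT : ∀ x ∈ (T : Subgroup G), α x = x)
    (hfixE : ∀ x ∈ Cfsg.layer G, α x = x) : ∃ g : G, ∀ x : G, α x = g * x * g⁻¹ := by
  classical
  have hF : Cfsg.fittingSubgroup G = Cfsg.pCore p G := Cfsg.Agent.Grp.fitting_eq_pCore hcore
  have hFT : Cfsg.fittingSubgroup G ≤ (T : Subgroup G) := hF.le.trans (Cfsg.Agent.Grp.pCore_le_sylow T)
  set Fs := Cfsg.generalizedFittingSubgroup G with hFs
  have hfix : ∀ x ∈ Fs, α x = x := by
    have h : Fs ≤ MonoidHom.eqLocus α.toMonoidHom (MonoidHom.id G) :=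
      sup_le (fun x hx => hfixE x hx) (fun x hx => hfixT x (hFT hx))
    exact fun x hx => h hx
  have hFsn : Fs.Normal := by
    have := Cfsg.Agent.Grp.fittingSubgroup_isNormal (G := G)
    have : (Cfsg.layer G).Normal := inferInstance
    exact Subgroup.sup_normal _ _
  set A := Subgroup.centralizer (Fs : Set G) with hA
  have hAn : A.Normal := Subgroup.normal_centralizer
  have hAF : A ≤ Cfsg.fittingSubgroup G := Cfsg.Agent.Grp.centralizer_gfitting_le_fitting
  have hAT : A ≤ (T : Subgroup G) := hAF.trans hFT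
  haveI hAc : IsMulCommutative A := ⟨⟨fun a b => Subtype.ext
    (Subgroup.mem_centralizer_iff.mp b.2 a ((le_sup_right : Cfsg.fittingSubgroup G ≤ Fs) (hAF a.2)))⟩⟩
  letI : CommGroup A := { (inferInstance : Group A) with mul_comm := hAc.is_comm.comm }
  -- the cocycle `w g = α g * g⁻¹`
  have hwA : ∀ g : G, α g * g⁻¹ ∈ A := by
    intro g
    refine Subgroup.mem_centralizer_iff.mpr fun y hy => ?_
    have hx : g⁻¹ * y * g ∈ Fs := by simpa using hFsn.conj_mem y hy g⁻¹
    have h := hfix _ hx
    rw [map_mul, map_mul, map_inv, hfix y hy] at h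
    calc y * (α g * g⁻¹) = α g * ((α g)⁻¹ * y * α g) * g⁻¹ := by group
      _ = α g * (g⁻¹ * y * g) * g⁻¹ := by rw [h]
      _ = α g * g⁻¹ * y := by group
  let cA : G → (A →* A) := fun g =>
    { toFun := fun a => ⟨g * a * g⁻¹, hAn.conj_mem a a.2 g⟩
      map_one' := Subtype.ext (by simp)
      map_mul' := fun a b => Subtype.ext (by simp [mul_assoc]) }
  let w : G → A := fun g => ⟨α g * g⁻¹, hwA g⟩
  have hw : ∀ g h : G, w (g * h) = w g * cA g (w h) := fun g h => Subtype.ext (by
    show α (g * h) * (g * h)⁻¹ = α g * g⁻¹ * (g * (α h * h⁻¹) * g⁻¹)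
    rw [map_mul]; group)
  have hwT : ∀ t ∈ (T : Subgroup G), w t = 1 := fun t ht => Subtype.ext (by
    show α t * t⁻¹ = 1
    rw [hfixT t ht, mul_inv_cancel])
  let W : G ⧸ (T : Subgroup G) → A := Quotient.lift w (fun a b hab => by
    have h : a⁻¹ * b ∈ (T : Subgroup G) := QuotientGroup.leftRel_apply.mp hab
    have h2 := hw a (a⁻¹ * b)
    rw [mul_inv_cancel_left, hwT _ h, map_one, mul_one] at h2
    exact h2.symm)
  letI := Fintype.ofFinite (G ⧸ (T : Subgroup G))
  set z : A := ∏ c : G ⧸ (T : Subgroup G), W c with hz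
  have hprod : ∀ g : G, w g ^ (T : Subgroup G).index * cA g z = z := by
    intro g
    have h1 : ∀ c : G ⧸ (T : Subgroup G), W (g • c) = w g * cA g (W c) := by
      intro c
      induction c using Quotient.inductionOn' with
      | _ x => exact hw g x
    rw [Subgroup.index, Nat.card_eq_fintype_card, hz, map_prod, ← Finset.card_univ, ← Finset.prod_const,
      ← Finset.prod_mul_distrib]
    exact Fintype.prod_equiv (MulAction.toPerm g) _ _ fun c => (h1 c).symm
  obtain ⟨e, he⟩ := (T.isPGroup'.to_le hAT).exists_card_eq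
  have hcop : (Nat.card A).Coprime (T : Subgroup G).index := by
    rw [he]
    exact ((Fact.out : p.Prime).coprime_iff_not_dvd.mpr T.not_dvd_index).pow_left e
  set y := (powCoprime hcop).symm z with hy
  have hyz : y ^ (T : Subgroup G).index = z := (powCoprime hcop).apply_symm_apply z
  refine ⟨(y : G), fun g => ?_⟩
  have h2 : w g * cA g y = y := by
    apply (powCoprime hcop).injective
    show (w g * cA g y) ^ (T : Subgroup G).index = y ^ (T : Subgroup G).index
    rw [mul_pow, ← map_pow, hyz, hprod]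
  have h3 : α g * g⁻¹ * (g * (y : G) * g⁻¹) = y := congrArg Subtype.val h2
  calc α g = α g * g⁻¹ * (g * (y : G) * g⁻¹) * (g * (y : G)⁻¹) := by group
    _ = (y : G) * g * (y : G)⁻¹ := by rw [h3]; group

end Cfsg.Agent.S1941
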