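import Cfsg.Statements.S1945
import Cfsg.Agent.Lib.Invol.KInfWeak
import Cfsg.Agent.Lib.Invol.TransferMinimal
import Cfsg.Agent.Lib.Grp.Solvable
import Cfsg.Agent.Lib.Grp.PComponents
-- import your own Cfsg.Agent.* helpers here

set_option autoImplicit false
open Cfsg

namespace Cfsg.Agent.S1945

theorem exists_retraction {G : Type*} [Group G] [Finite G] {p : ℕ} [Fact p.Prime] (S : Sylow p G)
    (T N : Subgroup G) (hZT : (S : Subgroup G) ⊓ Subgroup.centralizer ((S : Subgroup G) : Set G) ≤ T)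
    (hTS : T ≤ (S : Subgroup G)) (hSN : (S : Subgroup G) ≤ N)
    (hNT : N ≤ Subgroup.normalizer (T : Set G))
    (hiso : ∀ x ∈ (S : Subgroup G) ⊓ Subgroup.centralizer ((S : Subgroup G) : Set G),
      x ∈ Subgroup.centralizer (N : Set G) →
      ∀ g : G, g * x * g⁻¹ ∈ (S : Subgroup G) → g * x * g⁻¹ = x) :
    ∃ W K : Subgroup G, (∀ x : G, x ∈ W ↔ (x ∈ (S : Subgroup G) ∧
        ∀ g : G, g * x * g⁻¹ ∈ (S : Subgroup G) → g * x * g⁻¹ = x)) ∧
      K ≤ ((S : Subgroup G) ⊓ Subgroup.centralizer ((S : Subgroup G) : Set G)) ∧ W ⊓ K = ⊥ ∧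
      W ⊔ K = ((S : Subgroup G) ⊓ Subgroup.centralizer ((S : Subgroup G) : Set G)) := by
  classical
  set Z := (S : Subgroup G) ⊓ Subgroup.centralizer ((S : Subgroup G) : Set G) with hZdef
  set V := T ⊓ Subgroup.centralizer (T : Set G) with hVdef
  have hZV : Z ≤ V := fun z hz => ⟨hZT hz, Subgroup.centralizer_le hTS hz.2⟩
  have hVab : ∀ a ∈ V, ∀ b ∈ V, a * b = b * a := fun a ha b hb =>
    Subgroup.mem_centralizer_iff.mp hb.2 a ha.1
  have hVn : ∀ n ∈ N, ∀ v ∈ V, n * v * n⁻¹ ∈ V := by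
    intro n hn v hv
    refine ⟨(Subgroup.mem_normalizer_iff.1 (hNT hn) v).1 hv.1, Subgroup.mem_centralizer_iff.2 fun t ht => ?_⟩
    have h := Subgroup.mem_centralizer_iff.1 hv.2 (n⁻¹ * t * n)
      ((Subgroup.mem_normalizer_iff''.1 (hNT hn) t).1 ht)
    calc t * (n * v * n⁻¹) = n * (n⁻¹ * t * n * v) * n⁻¹ := by group
      _ = n * v * n⁻¹ * t := by rw [h]; group
  have hfixS : ∀ z ∈ Z, ∀ s ∈ (S : Subgroup G), s * z * s⁻¹ = z := fun z hz s hs => by
    rw [Subgroup.mem_centralizer_iff.1 hz.2 s hs, mul_inv_cancel_right]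
  let _ : CommGroup V := { (inferInstance : Group V) with
    mul_comm := fun a b => Subtype.ext (hVab a a.2 b b.2) }
  let cj : N → Z → V := fun n z => ⟨(n : G) * z * (n : G)⁻¹, hVn n n.2 z (hZV z.2)⟩
  have hcj : ∀ n z w, cj n (z * w) = cj n z * cj n w := fun n z w => Subtype.ext (by simp [cj])
  set S' := (S : Subgroup G).subgroupOf N
  let _ := Fintype.ofFinite (N ⧸ S')
  let τ : Z →* V :=
    { toFun := fun z => ∏ q : N ⧸ S', cj q.out z
      map_one' := Finset.prod_eq_one fun q _ => Subtype.ext (by simp [cj])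
      map_mul' := fun z w => by rw [← Finset.prod_mul_distrib]; simp only [hcj] }
  have hτinv : ∀ (m : N) (z : Z), (m : G) * (τ z : G) * (m : G)⁻¹ = τ z := by
    intro m z
    let cm : V →* V :=
      { toFun := fun v => ⟨(m : G) * v * (m : G)⁻¹, hVn m m.2 v v.2⟩
        map_one' := Subtype.ext (by simp)
        map_mul' := fun v w => Subtype.ext (by simp) }
    have key : cm (τ z) = τ z := by
      show cm (∏ q : N ⧸ S', cj q.out z) = ∏ q : N ⧸ S', cj q.out z
      rw [map_prod]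
      refine Fintype.prod_equiv (MulAction.toPerm m) _ _ fun q => ?_
      obtain ⟨s, hs⟩ : ∃ s : S', (m • q).out = m * q.out * (s : N) := by
        refine ⟨⟨(m * q.out)⁻¹ * (m • q).out, ?_⟩, (mul_inv_cancel_left _ _).symm⟩
        rw [← QuotientGroup.eq]
        conv_rhs => rw [QuotientGroup.out_eq', ← QuotientGroup.out_eq' q]
        rw [MulAction.Quotient.smul_mk]; rfl
      refine Subtype.ext ?_
      simp only [cm, cj, MonoidHom.coe_mk, OneHom.coe_mk, MulAction.toPerm_apply, hs, Subgroup.coe_mul]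
      calc (m : G) * (((q.out : N) : G) * z * ((q.out : N) : G)⁻¹) * (m : G)⁻¹
          = (m : G) * q.out * (z : G) * ((m : G) * q.out)⁻¹ := by group
        _ = (m : G) * q.out * (((s : N) : G) * z * ((s : N) : G)⁻¹) * ((m : G) * q.out)⁻¹ := by
            rw [hfixS z z.2 _ (Subgroup.mem_subgroupOf.1 s.2)]
        _ = _ := by group
    exact congrArg Subtype.val key
  set W := Z ⊓ Subgroup.centralizer (N : Set G) with hWdef
  have hτW : ∀ z : Z, (z : G) ∈ W → (τ z : G) = (z : G) ^ S'.index := by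
    intro z hz
    show ((∏ q : N ⧸ S', cj q.out z : V) : G) = _
    rw [Finset.prod_congr rfl (g := fun _ => (⟨z, hZV z.2⟩ : V)) fun q _ => Subtype.ext ?_,
      Finset.prod_const, Finset.card_univ, ← Nat.card_eq_fintype_card, SubmonoidClass.coe_pow]
    · rfl
    · show ((q.out : N) : G) * z * ((q.out : N) : G)⁻¹ = z
      rw [Subgroup.mem_centralizer_iff.1 hz.2 _ (q.out : N).2, mul_inv_cancel_right]
  have hcop : (Nat.card (S : Subgroup G)).Coprime S'.index := by
    obtain ⟨k, hk⟩ := IsPGroup.iff_card.1 S.isPGroup'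
    rw [hk]
    refine Nat.Coprime.pow_left k ((Fact.out : p.Prime).coprime_iff_not_dvd.2 fun hd => ?_)
    exact S.not_dvd_index (hd.trans (Subgroup.relIndex_dvd_index_of_le hSN))
  have hord : ∀ z ∈ Z, (orderOf z).Coprime S'.index := fun z hz =>
    hcop.coprime_dvd_left (Subgroup.orderOf_dvd_natCard _ hz.1)
  refine ⟨W, τ.ker.map Z.subtype, fun x => ⟨fun hx => ⟨hx.1.1, hiso x hx.1 hx.2⟩, ?_⟩,
    Subgroup.map_subtype_le _, ?_, ?_⟩
  · rintro ⟨hxS, hx⟩
    have hxZ : x ∈ Z := ⟨hxS, Subgroup.mem_centralizer_iff.2 fun s hs => mul_inv_eq_iff_eq_mul.1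
      (hx s ((S : Subgroup G).mul_mem ((S : Subgroup G).mul_mem hs hxS) ((S : Subgroup G).inv_mem hs)))⟩
    exact ⟨hxZ, Subgroup.mem_centralizer_iff.2 fun n hn =>
      mul_inv_eq_iff_eq_mul.1 (hx n (hTS (hVn n hn x (hZV hxZ)).1))⟩
  · refine eq_bot_iff.2 ?_
    rintro x ⟨hxW, z, hz, rfl⟩
    have h1 : ((z : G)) ^ S'.index = 1 := by
      rw [← hτW z hxW, MonoidHom.mem_ker.1 hz, OneMemClass.coe_one]
    exact orderOf_eq_one_iff.1 (Nat.eq_one_of_dvd_coprimes (hord _ z.2) dvd_rfl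
      (orderOf_dvd_of_pow_eq_one h1))
  · refine le_antisymm (sup_le inf_le_left (Subgroup.map_subtype_le _)) fun z hz => ?_
    set t : G := (τ ⟨z, hz⟩ : G) with ht
    have htW : t ∈ W := by
      have hc : ∀ n ∈ N, n * t = t * n := fun n hn => mul_inv_eq_iff_eq_mul.1 (hτinv ⟨n, hn⟩ ⟨z, hz⟩)
      exact ⟨⟨hTS (τ ⟨z, hz⟩).2.1, Subgroup.mem_centralizer_iff.2 fun s hs => hc s (hSN hs)⟩,
        Subgroup.mem_centralizer_iff.2 hc⟩
    obtain ⟨j, hj⟩ := exists_pow_eq_self_of_coprime (Nat.Coprime.symm (hord t htW.1))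
    have hw : t ^ j ∈ W := pow_mem htW _
    have hk : (t ^ j)⁻¹ * z ∈ τ.ker.map Z.subtype := by
      refine ⟨(⟨t ^ j, hw.1⟩ : Z)⁻¹ * ⟨z, hz⟩, ?_, rfl⟩
      rw [SetLike.mem_coe, MonoidHom.mem_ker, map_mul, map_inv, inv_mul_eq_one]
      refine Subtype.ext ((hτW ⟨t ^ j, hw.1⟩ hw).trans ?_)
      show (t ^ j) ^ S'.index = t
      rw [← pow_mul, mul_comm, pow_mul]
      exact hj
    have h2 := Subgroup.mul_mem_sup hw hk
    rwa [mul_inv_cancel_left] at h2

/-- Let S be a Sylow p-subgroup of the finite group G, and assume that p is odd or that G is solvable. The elements of S each of which is its only G-conjugate in S form a subgroup W of Z(S); W is then a direct factor of Z(S): there is a subgroup K of Z(S) with W ∩ K = 1 and WK = Z(S). (For p = 2 and G not solvable this can fail.) -/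
theorem result {G : Type*} [Group G] [Finite G] {p : ℕ} [Fact p.Prime] (S : Sylow p G) (h : p ≠ 2 ∨ Group.IsSolvable G) :
    ∃ W K : Subgroup G, (∀ x : G, x ∈ W ↔ (x ∈ (S : Subgroup G) ∧ ∀ g : G, g * x * g⁻¹ ∈ (S : Subgroup G) → g * x * g⁻¹ = x)) ∧
      K ≤ ((S : Subgroup G) ⊓ Subgroup.centralizer ((S : Subgroup G) : Set G)) ∧ W ⊓ K = ⊥ ∧ W ⊔ K = ((S : Subgroup G) ⊓ Subgroup.centralizer ((S : Subgroup G) : Set G)) := by
  by_cases hp : p = 2
  · obtain h | h := h
    · exact absurd hp h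
    set O := pPrimeCore p G with hO
    have hOn : O.Normal := Grp.pPrimeCore_isNormal
    set U := (pCore p (G ⧸ O)).comap (QuotientGroup.mk' O) with hU
    have : (pCore p (G ⧸ O)).Normal := Grp.pCore_isNormal
    have : U.Normal := this.comap _
    set T := (S : Subgroup G) ⊓ U with hT
    have hOU : O ≤ U := fun x hx => by
      rw [hU, Subgroup.mem_comap, show QuotientGroup.mk' O x = 1 from (QuotientGroup.eq_one_iff x).2 hx]
      exact one_mem _
    have hsyl : Grp.IsSylowIn p T U := ⟨inf_le_right, S.isPGroup'.to_le inf_le_left, by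
      rw [hT, Subgroup.inf_relIndex_right]; exact Grp.sylow_inf_normal_relIndex S U⟩
    have hUTO : U ≤ O ⊔ (S : Subgroup G) := by
      refine le_trans (Subgroup.comap_mono
        (Grp.pCore_le_sylow (S.mapSurjective (QuotientGroup.mk'_surjective O)))) ?_
      show ((S : Subgroup G).map (QuotientGroup.mk' O)).comap (QuotientGroup.mk' O) ≤ _
      rw [Subgroup.comap_map_eq, QuotientGroup.ker_mk', sup_comm]
    refine exists_retraction S T (Subgroup.normalizer (T : Set G)) ?_ inf_le_left ?_ le_rfl ?_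
    · intro z hz
      refine ⟨hz.1, ?_⟩
      show QuotientGroup.mk' O z ∈ pCore p (G ⧸ O)
      have := h
      have hsolv : Group.IsSolvable (G ⧸ O) := inferInstance
      refine Grp.centralizer_pCore_le Grp.pPrimeCore_quotient_bot (Subgroup.mem_centralizer_iff.2 ?_)
      intro y hy
      obtain ⟨s, hs, rfl⟩ := Grp.pCore_le_sylow (S.mapSurjective (QuotientGroup.mk'_surjective O)) hy
      rw [← map_mul, ← map_mul, Subgroup.mem_centralizer_iff.1 hz.2 s hs]
    · intro s hs
      rw [Subgroup.mem_normalizer_iff]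
      refine fun y => ⟨fun hy => ⟨(S : Subgroup G).mul_mem ((S : Subgroup G).mul_mem hs hy.1) ((S : Subgroup G).inv_mem hs), ‹U.Normal›.conj_mem y hy.2 s⟩,
        fun hy => ?_⟩
      have := ‹U.Normal›.conj_mem _ hy.2 s⁻¹
      exact ⟨by
        have h := (S : Subgroup G).mul_mem ((S : Subgroup G).mul_mem ((S : Subgroup G).inv_mem hs) hy.1) hs
        rwa [show s⁻¹ * (s * y * s⁻¹) * s = y by group] at h,
        by simpa [mul_assoc] using this⟩
    · intro x hx hxN g hg
      obtain ⟨c, hc, n, hn, rfl⟩ := Invol.exists_mul_mem_normalizer hsyl g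
      obtain ⟨o, ho, s, hs, rfl⟩ := Subgroup.mem_sup_of_normal_left.1 (hUTO hc)
      have h1 : o * s * n * x * (o * s * n)⁻¹ = o * x * o⁻¹ := by
        calc o * s * n * x * (o * s * n)⁻¹ = o * s * (n * x * n⁻¹) * (o * s)⁻¹ := by group
          _ = o * (s * x * s⁻¹) * o⁻¹ := by
            rw [Subgroup.mem_centralizer_iff.1 hxN n hn, mul_inv_cancel_right]; group
          _ = o * x * o⁻¹ := by rw [Subgroup.mem_centralizer_iff.1 hx.2 s hs, mul_inv_cancel_right]
      rw [h1] at hg ⊢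
      have h2 : o * x * o⁻¹ * x⁻¹ ∈ (S : Subgroup G) ⊓ O :=
        ⟨(S : Subgroup G).mul_mem hg ((S : Subgroup G).inv_mem hx.1), by
          simpa [mul_assoc] using O.mul_mem ho (hOn.conj_mem _ (inv_mem ho) x)⟩
      rw [inf_comm, Subgroup.inf_eq_bot_of_coprime] at h2
      · exact mul_inv_eq_one.1 (Subgroup.mem_bot.1 h2)
      · obtain ⟨k, hk⟩ := IsPGroup.iff_card.1 S.isPGroup'
        rw [hk]
        exact (Grp.pPrimeCore_coprime (p := p) (G := G)).pow_right k
  · set K := inducedFunctor kInfLower (S : Subgroup G) with hK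
    have hW := Invol.isConjugacyFunctor_induced (H := G) (Invol.KInf.isCharPFunctor_kInfLower p)
    have hKS : K ≤ (S : Subgroup G) := (hW _ S.isPGroup').1
    refine exists_retraction S K (Subgroup.normalizer (K : Set G)) (Invol.center_le_kInfFunctor _) hKS
      (Subgroup.le_normalizer.trans (Invol.conjFunctor_normalizer_le hW S.isPGroup')) le_rfl ?_
    intro x hx hxN g hg
    obtain ⟨-, T, hTle, hTp, hTi, hT⟩ := Invol.controlsWeakClosureOfElementsIn_kInfLower (p := p) hp (⊤ : Subgroup G)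
    obtain ⟨T₀, hT₀⟩ := hTp.exists_le_sylow
    have hTeq : T = (T₀ : Subgroup G) := by
      refine Subgroup.eq_of_le_of_card_ge hT₀ ?_
      rw [Subgroup.relIndex_top_right] at hTi
      exact ((T₀.card_eq_multiplicity).trans (hTp.toSylow hTi).card_eq_multiplicity.symm).le
    obtain ⟨k, hk⟩ := MulAction.exists_smul_eq G S T₀
    have hTk : T = (S : Subgroup G).map (MulAut.conj k).toMonoidHom := by
      rw [hTeq, ← hk]; rfl
    have hWk := (hW _ S.isPGroup').2.2 k
    rw [← hTk, ← hK] at hWk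
    have hmem : ∀ y, k * y * k⁻¹ ∈ T ↔ y ∈ (S : Subgroup G) := fun y => by
      rw [hTk]; exact Subgroup.mem_map_iff_mem (MulAut.conj k).injective
    have h2 := hT (k * x * k⁻¹) ⟨(hmem x).2 hx.1, Subgroup.mem_centralizer_iff.2 fun n hn => ?_⟩
      (k * g * k⁻¹) trivial (by
        rw [show k * g * k⁻¹ * (k * x * k⁻¹) * (k * g * k⁻¹)⁻¹ = k * (g * x * g⁻¹) * k⁻¹ by group]
        exact (hmem _).2 hg)
    · rw [show k * g * k⁻¹ * (k * x * k⁻¹) * (k * g * k⁻¹)⁻¹ = k * (g * x * g⁻¹) * k⁻¹ by group] at h2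
      exact mul_left_cancel (mul_right_cancel h2)
    · have hn' : k⁻¹ * n * k ∈ Subgroup.normalizer (K : Set G) := by
        have hn2 := hn.2
        rw [hWk, ← Subgroup.map_equiv_normalizer_eq] at hn2
        obtain ⟨m, hm, rfl⟩ := hn2
        simpa [mul_assoc] using hm
      have h3 := Subgroup.mem_centralizer_iff.1 hxN _ hn'
      calc n * (k * x * k⁻¹) = k * (k⁻¹ * n * k * x) * k⁻¹ := by group
        _ = k * x * k⁻¹ * n := by rw [h3]; group

end Cfsg.Agent.S1945
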