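import Cfsg.Statements.S1944
import Cfsg.Agent.S1945
-- import your own Cfsg.Agent.* helpers here

set_option autoImplicit false
open Cfsg

namespace Cfsg.Agent.S1944

/-- Let S be a Sylow p-subgroup of the finite group G and suppose that the centre Z(S) lies in O_{p',p}(G). The elements of S each of which is its only G-conjugate in S form a subgroup W of Z(S); W is then a direct factor of Z(S): there is a subgroup K of Z(S) with W ∩ K = 1 and WK = Z(S). -/
theorem result {G : Type*} [Group G] [Finite G] {p : ℕ} [Fact p.Prime] (S : Sylow p G)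
    (hZ : ((S : Subgroup G) ⊓ Subgroup.centralizer ((S : Subgroup G) : Set G)) ≤ Cfsg.pPrimePCore p G) :
    ∃ W K : Subgroup G, (∀ x : G, x ∈ W ↔ (x ∈ (S : Subgroup G) ∧ ∀ g : G, g * x * g⁻¹ ∈ (S : Subgroup G) → g * x * g⁻¹ = x)) ∧
      K ≤ ((S : Subgroup G) ⊓ Subgroup.centralizer ((S : Subgroup G) : Set G)) ∧ W ⊓ K = ⊥ ∧ W ⊔ K = ((S : Subgroup G) ⊓ Subgroup.centralizer ((S : Subgroup G) : Set G)) := by
  set O := pPrimeCore p G with hO
  have hOn : O.Normal := Grp.pPrimeCore_isNormal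
  set U := (pCore p (G ⧸ O)).comap (QuotientGroup.mk' O) with hU
  have : (pCore p (G ⧸ O)).Normal := Grp.pCore_isNormal
  have : U.Normal := this.comap _
  set T := (S : Subgroup G) ⊓ U with hT
  have hOU : O ≤ U := fun x hx => by
    rw [hU, Subgroup.mem_comap, show QuotientGroup.mk' O x = 1 from (QuotientGroup.eq_one_iff x).2 hx]
    exact one_mem _
  have hsyl : Grp.IsSylowIn p T U := ⟨inf_le_right, S.isPGroup'.to_le inf_le_left, by
    rw [hT, Subgroup.inf_relIndex_right]; exact Grp.sylow_inf_normal_relIndex S U⟩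
  have hUTO : U ≤ O ⊔ (S : Subgroup G) := by
    refine le_trans (Subgroup.comap_mono
      (Grp.pCore_le_sylow (S.mapSurjective (QuotientGroup.mk'_surjective O)))) ?_
    show ((S : Subgroup G).map (QuotientGroup.mk' O)).comap (QuotientGroup.mk' O) ≤ _
    rw [Subgroup.comap_map_eq, QuotientGroup.ker_mk', sup_comm]
  refine S1945.exists_retraction S T (Subgroup.normalizer (T : Set G)) ?_ inf_le_left ?_ le_rfl ?_
  · intro z hz
    refine ⟨hz.1, ?_⟩
    exact hZ hz
  · intro s hs
    rw [Subgroup.mem_normalizer_iff]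
    refine fun y => ⟨fun hy => ⟨(S : Subgroup G).mul_mem ((S : Subgroup G).mul_mem hs hy.1) ((S : Subgroup G).inv_mem hs), ‹U.Normal›.conj_mem y hy.2 s⟩,
      fun hy => ?_⟩
    have := ‹U.Normal›.conj_mem _ hy.2 s⁻¹
    exact ⟨by
      have h := (S : Subgroup G).mul_mem ((S : Subgroup G).mul_mem ((S : Subgroup G).inv_mem hs) hy.1) hs
      rwa [show s⁻¹ * (s * y * s⁻¹) * s = y by group] at h,
      by simpa [mul_assoc] using this⟩
  · intro x hx hxN g hg
    obtain ⟨c, hc, n, hn, rfl⟩ := Invol.exists_mul_mem_normalizer hsyl g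
    obtain ⟨o, ho, s, hs, rfl⟩ := Subgroup.mem_sup_of_normal_left.1 (hUTO hc)
    have h1 : o * s * n * x * (o * s * n)⁻¹ = o * x * o⁻¹ := by
      calc o * s * n * x * (o * s * n)⁻¹ = o * s * (n * x * n⁻¹) * (o * s)⁻¹ := by group
        _ = o * (s * x * s⁻¹) * o⁻¹ := by
          rw [Subgroup.mem_centralizer_iff.1 hxN n hn, mul_inv_cancel_right]; group
        _ = o * x * o⁻¹ := by rw [Subgroup.mem_centralizer_iff.1 hx.2 s hs, mul_inv_cancel_right]
    rw [h1] at hg ⊢
    have h2 : o * x * o⁻¹ * x⁻¹ ∈ (S : Subgroup G) ⊓ O :=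
      ⟨(S : Subgroup G).mul_mem hg ((S : Subgroup G).inv_mem hx.1), by
        simpa [mul_assoc] using O.mul_mem ho (hOn.conj_mem _ (inv_mem ho) x)⟩
    rw [inf_comm, Subgroup.inf_eq_bot_of_coprime] at h2
    · exact mul_inv_eq_one.1 (Subgroup.mem_bot.1 h2)
    · obtain ⟨k, hk⟩ := IsPGroup.iff_card.1 S.isPGroup'
      rw [hk]
      exact (Grp.pPrimeCore_coprime (p := p) (G := G)).pow_right k

end Cfsg.Agent.S1944
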