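import Cfsg.Statements.S1946
import Cfsg.Agent.Lib.Invol.SmallFixed
import Cfsg.Agent.Lib.Transfer.Residual
-- import your own Cfsg.Agent.* helpers here

set_option autoImplicit false
open Cfsg

namespace Cfsg.Agent.S1946

/-- Let P be a Sylow p-subgroup of the finite group G. Then G has a normal p-complement if and only if P controls the fusion of its elements of order dividing p (dividing 4 when p = 2): whenever such an element a of P has a G-conjugate g a g⁻¹ in P, that conjugate is already x a x⁻¹ for some x in P. -/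
theorem result {G : Type*} [Group G] [Finite G] {p : ℕ} [Fact p.Prime] (P : Sylow p G) :
    Cfsg.HasNormalPComplement p G ↔
      ∀ a ∈ (P : Subgroup G), (a ^ p = 1 ∨ (p = 2 ∧ a ^ 4 = 1)) → ∀ g : G, g * a * g⁻¹ ∈ (P : Subgroup G) →
        ∃ x ∈ (P : Subgroup G), g * a * g⁻¹ = x * a * x⁻¹ := by
  constructor
  · intro hnp a ha _ g hga
    set K := Cfsg.pResidual p G with hK
    have hKn : K.Normal := Cfsg.Agent.Transfer.instNormalPResidual p
    have hd := Cfsg.Agent.Transfer.pResidual_inf_sylow_eq_bot P hnp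
    have hg : g ∈ K ⊔ (P : Subgroup G) := by rw [sup_comm, Cfsg.Agent.Transfer.sylow_sup_pResidual]; exact Subgroup.mem_top g
    obtain ⟨k, hk, x, hx, rfl⟩ := Subgroup.mem_sup_of_normal_left.mp hg
    refine ⟨x, hx, ?_⟩
    set b := x * a * x⁻¹ with hb
    have hbP : b ∈ (P : Subgroup G) := (P : Subgroup G).mul_mem ((P : Subgroup G).mul_mem hx ha) ((P : Subgroup G).inv_mem hx)
    have hkb : k * b * k⁻¹ * b⁻¹ ∈ K ⊓ (P : Subgroup G) := by
      refine ⟨?_, (P : Subgroup G).mul_mem ?_ ((P : Subgroup G).inv_mem hbP)⟩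
      · rw [show k * b * k⁻¹ * b⁻¹ = k * (b * k⁻¹ * b⁻¹) by group]
        exact K.mul_mem hk (hKn.conj_mem _ (K.inv_mem hk) b)
      · have : k * b * k⁻¹ = k * x * a * (k * x)⁻¹ := by rw [hb]; group
        rw [this]; exact hga
    rw [hd, Subgroup.mem_bot, mul_inv_eq_one] at hkb
    calc k * x * a * (k * x)⁻¹ = k * b * k⁻¹ := by rw [hb]; group
      _ = b := hkb
  · intro h
    refine (Cfsg.Agent.Transfer.hasNormalPComplement_iff_frobeniusCondition P).mpr ?_
    suffices main : ∀ (n : ℕ) (Q : Subgroup G), Nat.card Q = n → Q ≤ (P : Subgroup G) → ∀ g ∈ Subgroup.normalizer (Q : Set G),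
        (orderOf g).Coprime p → g ∈ Subgroup.centralizer (Q : Set G) from fun Q hQ g hg hgc => main _ Q rfl hQ g hg hgc
    intro n
    induction n using Nat.strong_induction_on with
    | _ n ih =>
    intro Q hn hQP g hg hgc
    have hQp : IsPGroup p Q := P.isPGroup'.to_le hQP
    rcases eq_or_ne Q ⊥ with rfl | hQ1
    · exact Subgroup.mem_centralizer_iff.mpr fun x hx => by
        have : x = 1 := Subgroup.mem_bot.mp hx
        simp [this]
    haveI : Group.IsNilpotent ↥(P : Subgroup G) := P.isPGroup'.isNilpotent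
    set W : Subgroup ↥(P : Subgroup G) := Subgroup.normalClosure ((Q.subgroupOf (P : Subgroup G) : Subgroup ↥(P : Subgroup G)) : Set ↥(P : Subgroup G)) with hW
    have hW1 : ⁅W, (⊤ : Subgroup ↥(P : Subgroup G))⁆ ≠ W := fun e => hQ1 <| by
      have hWb := Cfsg.Agent.Invol.eq_bot_of_le_commutator e.ge
      refine eq_bot_iff.mpr fun x hx => ?_
      have : (⟨x, hQP hx⟩ : (P : Subgroup G)) ∈ W := Subgroup.subset_normalClosure hx
      rw [hWb, Subgroup.mem_bot] at this
      exact Subgroup.mem_bot.mpr (congrArg Subtype.val this)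
    haveI : W.Normal := Subgroup.normalClosure_normal
    set M := (⁅W, (⊤ : Subgroup ↥(P : Subgroup G))⁆).map (P : Subgroup G).subtype with hM
    set Q1 := Q ⊓ M with hQ1def
    have hlt : Nat.card Q1 < n := by
      rw [← hn]
      refine lt_of_le_of_ne (Subgroup.card_le_of_le inf_le_left) fun e => hW1 (le_antisymm (Subgroup.commutator_le_left _ _) ?_)
      haveI : (⁅W, (⊤ : Subgroup ↥(P : Subgroup G))⁆).Normal := inferInstance
      refine Subgroup.normalClosure_le_normal fun x hx => ?_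
      obtain ⟨y, hy, hyx⟩ := ((Subgroup.eq_of_le_of_card_ge inf_le_left e.ge).ge hx).2
      rwa [← Subtype.ext hyx]
    set S := Subgroup.closure {a : G | a ∈ Q ∧ (a ^ p = 1 ∨ (p = 2 ∧ a ^ 4 = 1))} with hS
    have hSQ : S ≤ Q := (Subgroup.closure_le Q).mpr fun x hx => hx.1
    have hgS : g ∈ Subgroup.normalizer (S : Set G) := by
      refine Subgroup.mem_normalizer_fintype fun x hx => ?_
      have hm : S.map (MulAut.conj g).toMonoidHom ≤ S := by
        rw [hS, MonoidHom.map_closure, Subgroup.closure_le]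
        rintro _ ⟨y, ⟨hy, hy'⟩, rfl⟩
        refine Subgroup.subset_closure ⟨(Subgroup.mem_normalizer_iff.mp hg y).mp hy, ?_⟩
        show (g * y * g⁻¹) ^ p = 1 ∨ (p = 2 ∧ (g * y * g⁻¹) ^ 4 = 1)
        rw [conj_pow, conj_pow, conj_eq_one_iff, conj_eq_one_iff]
        exact hy'
      exact hm ⟨x, hx, rfl⟩
    rcases lt_or_eq_of_le hSQ with hSlt | hSQ'
    · have hc : Nat.card S < n := hn ▸ lt_of_le_of_ne (Subgroup.card_le_of_le hSQ)
        fun e => hSlt.ne (Subgroup.eq_of_le_of_card_ge hSQ e.ge)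
      refine Cfsg.Agent.Invol.centralizes_of_fix_small hQp hg hgc fun a ha hsmall => ?_
      rw [← Subgroup.mem_centralizer_iff.mp (ih _ hc S rfl (hSQ.trans hQP) g hgS hgc) a (Subgroup.subset_closure ⟨ha, hsmall⟩),
        mul_inv_cancel_right]
    haveI hMn : (⁅W, (⊤ : Subgroup ↥(P : Subgroup G))⁆).Normal := inferInstance
    have hPM : ∀ x ∈ (P : Subgroup G), ∀ z ∈ M, x * z * x⁻¹ ∈ M := by
      rintro x hx _ ⟨z, hz, rfl⟩
      exact ⟨⟨x, hx⟩ * z * ⟨x, hx⟩⁻¹, hMn.conj_mem z hz _, rfl⟩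
    let D : Subgroup G :=
      { carrier := {y | y ∈ Q ∧ g * y * g⁻¹ * y⁻¹ ∈ M}
        one_mem' := ⟨Q.one_mem, by simp⟩
        mul_mem' := by
          rintro u v ⟨hu, hu'⟩ ⟨hv, hv'⟩
          refine ⟨Q.mul_mem hu hv, ?_⟩
          rw [show g * (u * v) * g⁻¹ * (u * v)⁻¹ =
            g * u * g⁻¹ * (g * v * g⁻¹ * v⁻¹) * (g * u * g⁻¹)⁻¹ * (g * u * g⁻¹ * u⁻¹) by group]
          exact M.mul_mem (hPM _ (hQP ((Subgroup.mem_normalizer_iff.mp hg u).mp hu)) _ hv') hu'
        inv_mem' := by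
          rintro u ⟨hu, hu'⟩
          refine ⟨Q.inv_mem hu, ?_⟩
          rw [show g * u⁻¹ * g⁻¹ * u⁻¹⁻¹ = (g * u * g⁻¹)⁻¹ * (g * u * g⁻¹ * u⁻¹)⁻¹ * (g * u * g⁻¹)⁻¹⁻¹ by group]
          exact hPM _ (hQP (Q.inv_mem ((Subgroup.mem_normalizer_iff.mp hg u).mp hu))) _ (M.inv_mem hu') }
    have hD : ∀ y ∈ Q, g * y * g⁻¹ * y⁻¹ ∈ M := by
      have : S ≤ D := by
        rw [hS, Subgroup.closure_le]
        rintro a ⟨ha, hsmall⟩
        refine ⟨ha, ?_⟩
        obtain ⟨x, hx, hxe⟩ := h a (hQP ha) hsmall g (hQP ((Subgroup.mem_normalizer_iff.mp hg a).mp ha))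
        have hc := Subgroup.commutator_mem_commutator (show (⟨a, hQP ha⟩ : (P : Subgroup G)) ∈ W from Subgroup.subset_normalClosure ha)
          (Subgroup.mem_top (⟨x, hx⟩ : (P : Subgroup G)))
        exact ⟨_, Subgroup.inv_mem _ hc, by simp [hxe, commutatorElement_def, mul_assoc]⟩
      exact fun y hy => (this (hSQ'.ge hy)).2
    have hgQ1 : g ∈ Subgroup.normalizer (Q1 : Set G) := Subgroup.mem_normalizer_fintype fun y hy =>
      ⟨(Subgroup.mem_normalizer_iff.mp hg y).mp hy.1, by simpa using M.mul_mem (hD y hy.1) hy.2⟩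
    have hfix := ih _ hlt Q1 rfl (inf_le_left.trans hQP) g hgQ1 hgc
    refine Subgroup.mem_centralizer_iff.mpr fun y hy => ?_
    have hz : g * y * g⁻¹ * y⁻¹ ∈ Q1 := ⟨Q.mul_mem ((Subgroup.mem_normalizer_iff.mp hg y).mp hy) (Q.inv_mem hy), hD y hy⟩
    obtain ⟨k, hk⟩ := Cfsg.Agent.Invol.pow_ppow_eq_one_of_mem hQp hz.1
    exact (Cfsg.Agent.Invol.commute_of_stabilises hgc hk (Subgroup.mem_centralizer_iff.mp hfix _ hz).symm (by group)).eq.symm

end Cfsg.Agent.S1946
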