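import Cfsg.Statements.S1947
import Cfsg.Agent.Lib.Invol.SmallFixed
-- import your own Cfsg.Agent.* helpers here

set_option autoImplicit false
open Cfsg

namespace Cfsg.Agent.S1947

/-- Let G be a finite group and p a prime. If every element of G of order dividing p (dividing 4 when p = 2) lies in some fixed term Z_n(G) of the upper central series, then G has a normal p-complement. -/
theorem result {G : Type*} [Group G] [Finite G] {p : ℕ} [Fact p.Prime] (n : ℕ)
    (h : ∀ a : G, (a ^ p = 1 ∨ (p = 2 ∧ a ^ 4 = 1)) → a ∈ Subgroup.upperCentralSeries G n) : Cfsg.HasNormalPComplement p G := by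
  refine (Cfsg.Agent.Transfer.hasNormalPComplement_iff_frobeniusCondition (default : Sylow p G)).mpr fun Q hQ g hg hgc => ?_
  have hQp : IsPGroup p Q := (default : Sylow p G).isPGroup'.to_le hQ
  refine Cfsg.Agent.Invol.centralizes_of_fix_small hQp hg hgc fun a ha hsmall => ?_
  have key : ∀ m, ∀ a ∈ Q, a ∈ Subgroup.upperCentralSeries G m → Commute g a := by
    intro m
    induction m with
    | zero =>
      intro a _ ha
      rw [Subgroup.upperCentralSeries_zero, Subgroup.mem_bot] at ha
      subst ha
      exact Commute.one_right g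
    | succ m ih =>
      intro a ha hm
      set z := g * a * g⁻¹ * a⁻¹ with hz
      have hzQ : z ∈ Q := Q.mul_mem ((Subgroup.mem_normalizer_iff.mp hg a).mp ha) (Q.inv_mem ha)
      have hzm : z ∈ Subgroup.upperCentralSeries G m := by
        have h1 := (Subgroup.upperCentralSeries G m).inv_mem (Subgroup.mem_upperCentralSeries_succ_iff.mp hm g)
        simpa [hz, commutatorElement_def, mul_assoc] using h1
      obtain ⟨k, hk⟩ := Cfsg.Agent.Invol.pow_ppow_eq_one_of_mem hQp hzQ
      exact Cfsg.Agent.Invol.commute_of_stabilises hgc hk (ih z hzQ hzm) (by rw [hz]; group)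
  rw [(key n a ha (h a hsmall)).eq, mul_inv_cancel_right]

end Cfsg.Agent.S1947
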