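import Cfsg.Prelude
import Cfsg.Agent.Lib.Char.FongCores
import Cfsg.Agent.Lib.Recog.LocalConstrained
import Cfsg.Agent.Lib.Invol.WeakClosed
-- import your own Cfsg.Agent.* helpers here

set_option autoImplicit false
open Cfsg

open scoped Pointwise commutatorElement

namespace Cfsg.Agent.S1948

/-- Let S be a Sylow p-subgroup of the finite group G. Then G = N_G(S)·O_{p'}(G) if and only if G is p-constrained and N_G(S) controls fusion in S, in the sense that whenever a subgroup Q of S has a conjugate g Q g⁻¹ inside S, the element g is a product n c with n normalizing S and c centralizing Q. -/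
theorem result {G : Type*} [Group G] [Finite G] {p : ℕ} [Fact p.Prime] (S : Sylow p G) :
    Subgroup.normalizer ((S : Subgroup G) : Set G) ⊔ Cfsg.pPrimeCore p G = ⊤ ↔
      (Cfsg.IsPConstrained p G ∧
        ∀ Q : Subgroup G, Q ≤ (S : Subgroup G) → ∀ g : G, Q.map (MulAut.conj g).toMonoidHom ≤ (S : Subgroup G) →
          ∃ n ∈ Subgroup.normalizer ((S : Subgroup G) : Set G), ∃ c ∈ Subgroup.centralizer (Q : Set G), g = n * c) := by
  classical
  set K := Cfsg.pPrimeCore p G with hK
  haveI hKn : K.Normal := Grp.pPrimeCore_isNormal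
  have hKS : ∀ x ∈ K, x ∈ (S : Subgroup G) → x = 1 := fun x hxK hxS => by
    obtain ⟨k, hk⟩ := (IsPGroup.iff_orderOf.mp S.isPGroup') ⟨x, hxS⟩
    rw [← Subgroup.orderOf_coe] at hk
    exact orderOf_eq_one_iff.mp (Nat.eq_one_of_dvd_coprimes
      ((Grp.pPrimeCore_coprime (p := p) (G := G)).pow_right k) (Subgroup.orderOf_dvd_natCard K hxK) hk.dvd)
  constructor
  · intro htop
    refine ⟨?_, fun Q hQ g hg => ?_⟩
    · set π := QuotientGroup.mk' K with hπ
      have hs : Function.Surjective π := QuotientGroup.mk'_surjective K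
      set T := S.mapSurjective hs with hT
      haveI hTn : (T : Subgroup (G ⧸ K)).Normal := by
        rw [← Subgroup.normalizer_eq_top_iff, eq_top_iff, ← Subgroup.map_top_of_surjective π hs, ← htop,
          Subgroup.map_sup, QuotientGroup.map_mk'_self, sup_bot_eq]
        exact Subgroup.le_normalizer_map π
      have hbot : Cfsg.pPrimeCore p (G ⧸ K) = ⊥ := Grp.pPrimeCore_quotient_eq_bot
      have hcore : Cfsg.pCore p (G ⧸ K) = T :=
        le_antisymm (Grp.pCore_le_sylow T) (Grp.le_pCore hTn T.isPGroup')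
      refine Recog.LocalConstrained.isPConstrained_of_surjective π hs
        (by rw [hπ, QuotientGroup.ker_mk']; exact Grp.pPrimeCore_coprime) ?_
      rw [hcore]
      set D := Subgroup.centralizer ((T : Subgroup (G ⧸ K)) : Set (G ⧸ K)) with hD
      haveI : D.Normal := inferInstance
      have hpg : IsPGroup p ↥((T : Subgroup (G ⧸ K)).subgroupOf D) := T.isPGroup'.comap_subtype
      let R : Sylow p ↥D := hpg.toSylow (Grp.sylow_inf_normal_relIndex T D)
      have hcen : Subgroup.normalizer ((R : Subgroup ↥D) : Set ↥D) ≤ Subgroup.centralizer ((R : Subgroup ↥D) : Set ↥D) :=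
        fun d _ => Subgroup.mem_centralizer_iff.mpr fun r hr =>
          Subtype.ext (Subgroup.mem_centralizer_iff.mp d.2 r hr)
      have hc := MonoidHom.ker_transferSylow_isComplement' R hcen
      have hE : (MonoidHom.transferSylow R hcen).ker ≤ Cfsg.pPrimeCore p ↥D := by
        refine Grp.le_pPrimeCore inferInstance ?_
        rw [Nat.coprime_comm, (Fact.out : p.Prime).coprime_iff_not_dvd, ← hc.index_eq_card]
        exact R.not_dvd_index
      have hE' := Subgroup.map_mono (f := D.subtype) hE
      rw [Grp.pPrimeCore_map_eq, hbot, bot_inf_eq, le_bot_iff,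
        Subgroup.map_eq_bot_iff_of_injective _ (Subgroup.subtype_injective _)] at hE'
      have h1 := hc.sup_eq_top
      rw [hE', bot_sup_eq] at h1
      intro x hx
      have h2 : (⟨x, hx⟩ : ↥D) ∈ (R : Subgroup ↥D) := h1 ▸ Subgroup.mem_top _
      exact h2
    · have hg' : g ∈ ((Subgroup.normalizer ((S : Subgroup G) : Set G) ⊔ K : Subgroup G) : Set G) := by
        rw [htop]; trivial
      rw [Subgroup.mul_normal _ K] at hg'
      obtain ⟨n, hn, k, hk, rfl⟩ := hg'
      refine ⟨n, hn, k, Subgroup.mem_centralizer_iff.mpr fun q hq => ?_, rfl⟩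
      have h1 : k * q * k⁻¹ ∈ (S : Subgroup G) := by
        have h2 := hg ⟨q, hq, rfl⟩
        rw [MulEquiv.coe_toMonoidHom, MulAut.conj_apply] at h2
        refine (Subgroup.mem_normalizer_iff.mp hn _).mpr ?_
        rwa [show n * (k * q * k⁻¹) * n⁻¹ = n * k * q * (n * k)⁻¹ by group]
      have h3 : k * q * k⁻¹ * q⁻¹ = 1 := by
        refine hKS _ ?_ ((S : Subgroup G).mul_mem h1 ((S : Subgroup G).inv_mem (hQ hq)))
        rw [show k * q * k⁻¹ * q⁻¹ = k * (q * k⁻¹ * q⁻¹) by group]
        exact K.mul_mem hk (hKn.conj_mem _ (K.inv_mem hk) q)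
      exact (mul_inv_eq_iff_eq_mul.mp (mul_inv_eq_one.mp h3)).symm
  · rintro ⟨hcon, hfus⟩
    set Y := Cfsg.pPrimePCore p G with hY
    haveI hYn : Y.Normal := Char.Fong.pPrimePCore_normal
    have hpg : IsPGroup p ↥((S : Subgroup G).subgroupOf Y) := S.isPGroup'.comap_subtype
    let P : Sylow p ↥Y := hpg.toSylow (Grp.sylow_inf_normal_relIndex S Y)
    have hPS : (P : Subgroup ↥Y).map Y.subtype = (S : Subgroup G) ⊓ Y := Subgroup.subgroupOf_map_subtype _ _
    have hYle : Y ≤ Subgroup.normalizer ((S : Subgroup G) : Set G) ⊔ K := by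
      obtain ⟨j, hj⟩ := Char.Fong.exists_relIndex_pPrimePCore (p := p) (G := G)
      have h1 : K ⊔ ((S : Subgroup G) ⊓ Y) = Y :=
        Char.Fong.sup_eq_of_relIndex Char.Fong.pPrimeCore_le_pPrimePCore inf_le_right hj
          (by rw [Subgroup.inf_relIndex_right]; exact Grp.sylow_inf_normal_relIndex S Y)
      rw [← h1]
      exact sup_le le_sup_right (inf_le_left.trans (Subgroup.le_normalizer.trans le_sup_left))
    refine top_le_iff.mp ?_
    rw [← Sylow.normalizer_sup_eq_top P]
    refine sup_le (fun g hg => ?_) hYle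
    obtain ⟨n, hn, c, hc, rfl⟩ := hfus ((P : Subgroup ↥Y).map Y.subtype) (hPS.le.trans inf_le_left) g (by
      rw [Invol.wc_map_conj_eq_iff.mpr hg]; exact hPS.le.trans inf_le_left)
    exact Subgroup.mul_mem _ (Subgroup.mem_sup_left hn) (hYle (hcon P hc))

end Cfsg.Agent.S1948
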