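import Cfsg.Prelude
import Cfsg.Agent.Lib.Invol.WreathImage
-- import your own Cfsg.Agent.* helpers here

set_option autoImplicit false
open Cfsg

open scoped Pointwise commutatorElement

namespace Cfsg.Agent.S1952

/-- Let P be a finite p-group with a normal elementary abelian subgroup A of index p, and let x ∈ A and y ∈ P with y outside A. If the product of the p conjugates y^(-i) x y^i (i = 0, …, p−1) is not the identity, then the wreath product Z_p ≀ Z_p, realised as a Sylow p-subgroup of the symmetric group of degree p², is a homomorphic image of P. -/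
theorem result {P : Type*} [Group P] [Finite P] {p : ℕ} [Fact p.Prime] (hP : IsPGroup p P) (A : Subgroup P) [A.Normal]
    (hA : Cfsg.IsElementaryAbelian p A) (hidx : A.index = p) (x y : P) (hx : x ∈ A) (hy : y ∉ A)
    (hprod : ((List.range p).map (fun i => (y ^ i)⁻¹ * x * y ^ i)).prod ≠ 1) :
    ∃ (Q : Sylow p (Equiv.Perm (Fin (p ^ 2)))) (f : P →* ↥(Q : Subgroup (Equiv.Perm (Fin (p ^ 2))))), Function.Surjective f := by
  obtain ⟨f, hf⟩ := Invol.WreathIm.exists_full_hom hP A hA hidx x y hx hy hprod
  have h1 : (Nat.card (Equiv.Perm (Fin (p ^ 2)))).factorization p = p + 1 := by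
    rw [Nat.card_perm, Nat.card_fin, Nat.factorization_def _ Fact.out, sq, padicValNat_factorial_mul]
    have h2 := padicValNat_factorial_mul (p := p) 1
    rw [mul_one, Nat.factorial_one, padicValNat_one_right, zero_add] at h2
    rw [h2, add_comm]
  have h3 : Nat.card f.range = p ^ (Nat.card (Equiv.Perm (Fin (p ^ 2)))).factorization p := by rw [h1, hf]
  exact ⟨Sylow.ofCard f.range h3, f.rangeRestrict, f.rangeRestrict_surjective⟩

end Cfsg.Agent.S1952
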