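import Cfsg.Prelude
import Cfsg.Agent.Lib.Fus.GroupLocal
import Cfsg.Agent.Lib.Grp.Subnormal
import Cfsg.Agent.Lib.Grp.Cores
import Cfsg.Agent.Lib.Char.PairLE
-- import your own Cfsg.Agent.* helpers here

set_option autoImplicit false
open Cfsg

open scoped Pointwise commutatorElement

namespace Cfsg.Agent.S1954

/-- Let N be a normal subgroup of the finite group G, P a Sylow p-subgroup of G, and V a subgroup of P ∩ N normal in P ∩ N such that N_N(V) controls strong fusion in P ∩ N with respect to N (whenever a subgroup A of P ∩ N has n A n⁻¹ ≤ P ∩ N for some n in N, then n = h c with h in N_N(V) and c in C_N(A)). Let W be the subgroup generated by the conjugates of V under N_G(P ∩ N). Then N_G(W) controls strong fusion in P with respect to G. -/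
theorem result {G : Type*} [Group G] [Finite G] {p : ℕ} [Fact p.Prime] (N : Subgroup G) [N.Normal] (P : Sylow p G) (V : Subgroup G)
    (hV : V ≤ (P : Subgroup G) ⊓ N) (hVn : ∀ x ∈ (P : Subgroup G) ⊓ N, V.map (MulAut.conj x).toMonoidHom = V)
    (hctrl : ∀ A : Subgroup G, A ≤ (P : Subgroup G) ⊓ N → ∀ n ∈ N, A.map (MulAut.conj n).toMonoidHom ≤ (P : Subgroup G) ⊓ N →
      ∃ h ∈ N ⊓ Subgroup.normalizer (V : Set G), ∃ c ∈ N ⊓ Subgroup.centralizer (A : Set G), n = h * c)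
    (W : Subgroup G) (hW : W = Subgroup.closure (⋃ x ∈ Subgroup.normalizer (((P : Subgroup G) ⊓ N : Subgroup G) : Set G),
      ((V.map (MulAut.conj x).toMonoidHom : Subgroup G) : Set G))) :
    ∀ A : Subgroup G, A ≤ (P : Subgroup G) → ∀ g : G, A.map (MulAut.conj g).toMonoidHom ≤ (P : Subgroup G) →
        ∃ h ∈ Subgroup.normalizer (W : Set G), ∃ c ∈ Subgroup.centralizer (A : Set G), g = h * c := by
  classical
  haveI := Fintype.ofFinite G
  have hNn : N.Normal := inferInstance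
  obtain ⟨M, hM⟩ : ∃ M, M = (P : Subgroup G) ⊓ N := ⟨_, rfl⟩
  rw [← hM] at hV hVn hctrl hW
  have hMP : M ≤ (P : Subgroup G) := hM ▸ inf_le_left
  have hMN : M ≤ N := hM ▸ inf_le_right
  have hPM : (P : Subgroup G) ≤ Subgroup.normalizer (M : Set G) := fun x hx => by
    refine Subgroup.mem_normalizer_fintype fun y hy => ?_
    rw [hM]
    exact ⟨(P : Subgroup G).mul_mem ((P : Subgroup G).mul_mem hx (hMP hy)) ((P : Subgroup G).inv_mem hx),
      hNn.conj_mem _ (hMN hy) x⟩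
  have hVM : ∀ x ∈ Subgroup.normalizer (M : Set G), V.map (MulAut.conj x).toMonoidHom ≤ M := by
    rintro x hx _ ⟨v, hv, rfl⟩
    exact (Subgroup.mem_normalizer_iff.mp hx v).mp (hV hv)
  have hWV : ∀ x ∈ Subgroup.normalizer (M : Set G), V.map (MulAut.conj x).toMonoidHom ≤ W := by
    intro x hx v hv
    rw [hW]
    exact Subgroup.subset_closure (Set.mem_iUnion₂.mpr ⟨x, hx, hv⟩)
  have hWM : W ≤ M := by
    rw [hW]
    exact (Subgroup.closure_le _).mpr (Set.iUnion₂_subset fun x hx => hVM x hx)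
  -- an element moving every generating conjugate into `W` normalizes `W`
  have hnormW : ∀ h : G, (∀ x ∈ Subgroup.normalizer (M : Set G), ∀ v ∈ V,
      h * (x * v * x⁻¹) * h⁻¹ ∈ W) → h ∈ Subgroup.normalizer (W : Set G) := by
    intro h hh
    refine Subgroup.mem_normalizer_fintype fun z hz => ?_
    rw [SetLike.mem_coe, hW] at hz
    have : Subgroup.closure (⋃ x ∈ Subgroup.normalizer (M : Set G),
        ((V.map (MulAut.conj x).toMonoidHom : Subgroup G) : Set G)) ≤ W.comap (MulAut.conj h).toMonoidHom :=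
      (Subgroup.closure_le _).mpr (Set.iUnion₂_subset fun x hx => by
        rintro _ ⟨v, hv, rfl⟩
        exact hh x hx v hv)
    exact this hz
  have hNMW : Subgroup.normalizer (M : Set G) ≤ Subgroup.normalizer (W : Set G) := fun y hy =>
    hnormW y fun x hx v hv => by
      refine hWV (y * x) (mul_mem hy hx) ⟨v, hv, ?_⟩
      simp [mul_assoc]
  have hPW : (P : Subgroup G) ≤ Subgroup.normalizer (W : Set G) := hPM.trans hNMW
  -- `N_N(W)` controls strong fusion in `M`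
  have hctrls : ∀ s : Finset G, (∀ x ∈ s, x ∈ Subgroup.normalizer (M : Set G)) →
      ∀ A : Subgroup G, A ≤ M → ∀ n ∈ N, A.map (MulAut.conj n).toMonoidHom ≤ M →
      ∃ h ∈ N, ∃ c ∈ N ⊓ Subgroup.centralizer (A : Set G), n = h * c ∧
        ∀ x ∈ s, h ∈ Subgroup.normalizer ((V.map (MulAut.conj x).toMonoidHom : Subgroup G) : Set G) := by
    intro s
    induction s using Finset.induction with
    | empty => exact fun _ A _ n hn _ => ⟨n, hn, 1, one_mem _, (mul_one n).symm, by simp⟩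
    | @insert x s _ ih =>
      intro hs A hA n hn hAn
      have hx : x ∈ Subgroup.normalizer (M : Set G) := hs x (Finset.mem_insert_self _ _)
      obtain ⟨h, hh, c, hc, hnc, hhs⟩ := ih (fun y hy => hs y (Finset.mem_insert_of_mem hy)) A hA n hn hAn
      obtain ⟨A', hA'⟩ : ∃ A' : Subgroup G, A' = A ⊔ ⨆ y ∈ s, V.map (MulAut.conj y).toMonoidHom := ⟨_, rfl⟩
      have hA'M : A' ≤ M := hA' ▸ sup_le hA (iSup₂_le fun y hy => hVM y (hs y (Finset.mem_insert_of_mem hy)))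
      have hA'h : A' ≤ M.comap (MulAut.conj h).toMonoidHom := by
        rw [hA']
        refine sup_le (fun a ha => ?_) (iSup₂_le fun y hy z hz => ?_)
        · have e : h * a * h⁻¹ = n * a * n⁻¹ := by
            calc h * a * h⁻¹ = h * (a * c) * c⁻¹ * h⁻¹ := by group
              _ = h * (c * a) * c⁻¹ * h⁻¹ := by rw [Subgroup.mem_centralizer_iff.mp hc.2 a ha]
              _ = n * a * n⁻¹ := by rw [hnc]; group
          show h * a * h⁻¹ ∈ M
          rw [e]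
          exact hAn ⟨a, ha, rfl⟩
        · exact hVM y (hs y (Finset.mem_insert_of_mem hy)) ((Subgroup.mem_normalizer_iff.mp (hhs y hy) z).mp hz)
      have hxi : x⁻¹ ∈ Subgroup.normalizer (M : Set G) := inv_mem hx
      obtain ⟨h₂, hh₂, c₂, hc₂, e₂⟩ := hctrl (A'.map (MulAut.conj x⁻¹).toMonoidHom) (by
        rintro _ ⟨a, ha, rfl⟩
        exact (Subgroup.mem_normalizer_iff.mp hxi a).mp (hA'M ha)) (x⁻¹ * h * x) (by
        simpa using hNn.conj_mem _ hh x⁻¹) (by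
        rintro _ ⟨_, ⟨a, ha, rfl⟩, rfl⟩
        have := (Subgroup.mem_normalizer_iff.mp hxi _).mp (hA'h ha)
        simpa [mul_assoc] using this)
      have hk : x * c₂ * x⁻¹ ∈ Subgroup.centralizer (A' : Set G) := by
        refine Subgroup.mem_centralizer_iff.mpr fun a ha => ?_
        have e : (x⁻¹ * a * x) * c₂ = c₂ * (x⁻¹ * a * x) :=
          Subgroup.mem_centralizer_iff.mp hc₂.2 _ ⟨a, ha, by simp⟩
        calc a * (x * c₂ * x⁻¹) = x * ((x⁻¹ * a * x) * c₂) * x⁻¹ := by group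
          _ = x * (c₂ * (x⁻¹ * a * x)) * x⁻¹ := by rw [e]
          _ = x * c₂ * x⁻¹ * a := by group
      have eh : h = (x * h₂ * x⁻¹) * (x * c₂ * x⁻¹) := by
        calc h = x * (x⁻¹ * h * x) * x⁻¹ := by group
          _ = x * (h₂ * c₂) * x⁻¹ := by rw [e₂]
          _ = _ := by group
      refine ⟨x * h₂ * x⁻¹, hNn.conj_mem _ hh₂.1 x, x * c₂ * x⁻¹ * c, ?_, ?_, ?_⟩
      · exact mul_mem (Subgroup.mem_inf.mpr ⟨hNn.conj_mem _ hc₂.1 x,
          Subgroup.centralizer_le (SetLike.coe_subset_coe.mpr (hA' ▸ le_sup_left)) hk⟩) hc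
      · rw [hnc, ← mul_assoc, ← eh]
      · intro y hy
        rcases Finset.mem_insert.mp hy with rfl | hy
        · exact Fus.mem_normalizer_conj hh₂.2
        · have hle : V.map (MulAut.conj y).toMonoidHom ≤ A' :=
            hA' ▸ le_sup_of_le_right (le_iSup₂ (f := fun z _ => V.map (MulAut.conj z).toMonoidHom) y hy)
          have hkn := (Subgroup.centralizer_le_normalizer _)
            (Subgroup.centralizer_le (SetLike.coe_subset_coe.mpr hle) hk)
          have e : x * h₂ * x⁻¹ = h * (x * c₂ * x⁻¹)⁻¹ := by rw [eq_mul_inv_iff_mul_eq, ← eh]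
          rw [e]
          exact mul_mem (hhs y hy) (inv_mem hkn)
  have hctrlW : ∀ A : Subgroup G, A ≤ M → ∀ n ∈ N, A.map (MulAut.conj n).toMonoidHom ≤ M →
      ∃ h ∈ N ⊓ Subgroup.normalizer (W : Set G), ∃ c ∈ N ⊓ Subgroup.centralizer (A : Set G), n = h * c := by
    intro A hA n hn hAn
    obtain ⟨h, hh, c, hc, hnc, hall⟩ := hctrls (Finset.univ.filter (· ∈ Subgroup.normalizer (M : Set G)))
      (fun x hx => (Finset.mem_filter.mp hx).2) A hA n hn hAn
    refine ⟨h, ⟨hh, hnormW h fun x hx v hv => ?_⟩, c, hc, hnc⟩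
    exact hWV x hx ((Subgroup.mem_normalizer_iff.mp (hall x (Finset.mem_filter.mpr ⟨Finset.mem_univ _, hx⟩)) _).mp
      ⟨v, hv, rfl⟩)
  -- `N_W(A)` lies in a normal subgroup of `N_G(A)` inducing a `p`-group on `A`
  have hkey : ∀ A : Subgroup G, A ≤ (P : Subgroup G) → ∃ K : Subgroup G,
      K ≤ Subgroup.normalizer (A : Set G) ∧ (∀ g ∈ Subgroup.normalizer (A : Set G), ∀ k ∈ K, g * k * g⁻¹ ∈ K) ∧
      W ⊓ Subgroup.normalizer (A : Set G) ≤ K ∧ ∀ k ∈ K, ∃ i : ℕ, k ^ p ^ i ∈ Subgroup.centralizer (A : Set G) := by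
    intro A hA
    obtain ⟨A₀, hA₀⟩ : ∃ A₀, A₀ = A ⊓ N := ⟨_, rfl⟩
    have hA₀M : A₀ ≤ M := by rw [hA₀, hM]; exact inf_le_inf_right _ hA
    have hNA : Subgroup.normalizer (A : Set G) ≤ Subgroup.normalizer (A₀ : Set G) := fun g hg => by
      refine Subgroup.mem_normalizer_fintype fun a ha => ?_
      rw [SetLike.mem_coe, hA₀] at ha
      rw [hA₀]
      exact ⟨(Subgroup.mem_normalizer_iff.mp hg a).mp ha.1, hNn.conj_mem _ ha.2 g⟩
    let ρ := A₀.normalizerMonoidHom.rangeRestrict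
    have hρ : Function.Surjective ρ := MonoidHom.rangeRestrict_surjective _
    have hker : ∀ z : ↥(Subgroup.normalizer (A₀ : Set G)), ρ z = 1 ↔ (z : G) ∈ Subgroup.centralizer (A₀ : Set G) := by
      intro z
      rw [← MonoidHom.mem_ker, MonoidHom.ker_rangeRestrict, Subgroup.normalizerMonoidHom_ker,
        Subgroup.mem_subgroupOf]
    let NN := (N.subgroupOf (Subgroup.normalizer (A₀ : Set G))).map ρ
    let S₀ := (W.subgroupOf (Subgroup.normalizer (A₀ : Set G))).map ρ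
    have hNN : NN.Normal := Subgroup.Normal.map inferInstance ρ hρ
    have hle : S₀ ≤ NN := Subgroup.map_mono fun w hw => hMN (hWM hw)
    have hS₀ : (S₀.subgroupOf NN).Normal := by
      refine ⟨?_⟩
      rintro ⟨s, hsN⟩ hs ⟨t, ht⟩
      obtain ⟨w, hw, rfl⟩ := hs
      obtain ⟨n, hn, rfl⟩ := ht
      obtain ⟨h, hh, c, hc, hnc⟩ := hctrlW A₀ hA₀M n hn (by
        rintro _ ⟨a, ha, rfl⟩
        exact hA₀M ((Subgroup.mem_normalizer_iff.mp n.2 a).mp ha))
      have hcn : c ∈ Subgroup.normalizer (A₀ : Set G) := Subgroup.centralizer_le_normalizer _ hc.2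
      have hhn : h ∈ Subgroup.normalizer (A₀ : Set G) := by
        rw [show h = n * c⁻¹ by rw [hnc]; group]
        exact mul_mem n.2 (inv_mem hcn)
      have e : n = ⟨h, hhn⟩ * ⟨c, hcn⟩ := Subtype.ext hnc
      have e' : ρ n = ρ ⟨h, hhn⟩ := by rw [e, map_mul, (hker ⟨c, hcn⟩).mpr hc.2, mul_one]
      refine ⟨⟨h, hhn⟩ * w * ⟨h, hhn⟩⁻¹, (Subgroup.mem_normalizer_iff.mp hh.2 _).mp hw, ?_⟩
      rw [map_mul, map_mul, map_inv, ← e']
      rfl
    have hS₀p : IsPGroup p ↥S₀ :=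
      (IsPGroup.comap_subtype (P.2.to_le (hWM.trans hMP))).map ρ
    have hS₀O : S₀ ≤ Cfsg.pCore p _ := Grp.le_pCore_of_isSubnormal
      (.step S₀ NN hle (.step NN ⊤ le_top .top inferInstance) hS₀) hS₀p
    have hOn : (Cfsg.pCore p ↥A₀.normalizerMonoidHom.range).Normal := Grp.pCore_isNormal
    refine ⟨((Cfsg.pCore p _).comap ρ).map (Subgroup.normalizer (A₀ : Set G)).subtype ⊓ N ⊓
      Subgroup.normalizer (A : Set G), inf_le_right, ?_, ?_, ?_⟩
    · rintro g hg k ⟨⟨⟨k', hk', rfl⟩, hkN⟩, hkA⟩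
      refine Subgroup.mem_inf.mpr ⟨Subgroup.mem_inf.mpr ⟨⟨⟨g, hNA hg⟩ * k' * ⟨g, hNA hg⟩⁻¹,
        Subgroup.mem_comap.mpr ?_, rfl⟩, hNn.conj_mem _ hkN g⟩, mul_mem (mul_mem hg hkA) (inv_mem hg)⟩
      rw [map_mul, map_mul, map_inv]
      exact hOn.conj_mem _ hk' _
    · rintro w ⟨hw, hwA⟩
      exact ⟨⟨⟨⟨w, hNA hwA⟩, hS₀O ⟨⟨w, hNA hwA⟩, hw, rfl⟩, rfl⟩, hMN (hWM hw)⟩, hwA⟩
    · rintro k ⟨⟨⟨k', hk', rfl⟩, hkN⟩, hkA⟩
      obtain ⟨i, hi⟩ := (Grp.pCore_isPGroup (p := p) (G := ↥A₀.normalizerMonoidHom.range)) ⟨ρ k', hk'⟩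
      have hi' : ρ (k' ^ p ^ i) = 1 := by
        rw [map_pow]; exact congrArg Subtype.val hi
      obtain ⟨k₁, hk₁⟩ : ∃ b, b = (k' : G) ^ p ^ i := ⟨_, rfl⟩
      have hk₁C : k₁ ∈ Subgroup.centralizer (A₀ : Set G) := by
        rw [hk₁, ← SubgroupClass.coe_pow]; exact (hker _).mp hi'
      have hA₀p : IsPGroup p ↥A₀ := P.2.to_le (hA₀M.trans hMP)
      obtain ⟨m, hm⟩ := IsPGroup.iff_card.mp hA₀p
      refine ⟨i + m, Subgroup.mem_centralizer_iff.mpr fun a ha => ?_⟩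
      have hd : k₁ * a * k₁⁻¹ * a⁻¹ ∈ A₀ := by
        rw [hA₀]
        refine Subgroup.mem_inf.mpr ⟨mul_mem ((Subgroup.mem_normalizer_iff.mp (hk₁ ▸ pow_mem hkA _) a).mp ha) (inv_mem ha), ?_⟩
        have hk₁N : k₁ ∈ N := hk₁ ▸ pow_mem hkN _
        rw [show k₁ * a * k₁⁻¹ * a⁻¹ = k₁ * (a * k₁⁻¹ * a⁻¹) by group]
        exact mul_mem hk₁N (hNn.conj_mem _ (inv_mem hk₁N) a)
      have hiter : ∀ j : ℕ, k₁ ^ j * a * (k₁ ^ j)⁻¹ = (k₁ * a * k₁⁻¹ * a⁻¹) ^ j * a := by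
        intro j
        induction j with
        | zero => simp
        | succ j ihj =>
          have hcd : Commute k₁ ((k₁ * a * k₁⁻¹ * a⁻¹) ^ j) :=
            Commute.pow_right (Subgroup.mem_centralizer_iff.mp hk₁C _ hd).symm j
          calc k₁ ^ (j + 1) * a * (k₁ ^ (j + 1))⁻¹ = k₁ * (k₁ ^ j * a * (k₁ ^ j)⁻¹) * k₁⁻¹ := by
                rw [pow_succ']; group
            _ = (k₁ * (k₁ * a * k₁⁻¹ * a⁻¹) ^ j) * a * k₁⁻¹ := by rw [ihj]; group
            _ = ((k₁ * a * k₁⁻¹ * a⁻¹) ^ j * k₁) * a * k₁⁻¹ := by rw [hcd.eq]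
            _ = (k₁ * a * k₁⁻¹ * a⁻¹) ^ (j + 1) * a := by rw [pow_succ]; group
      have hone : (k₁ * a * k₁⁻¹ * a⁻¹) ^ p ^ m = 1 := by
        have := congrArg Subtype.val (pow_card_eq_one' (x := (⟨_, hd⟩ : A₀)))
        rwa [hm] at this
      have h3 := hiter (p ^ m)
      rw [hone, one_mul, mul_inv_eq_iff_eq_mul] at h3
      rw [pow_add, pow_mul]
      show a * ((k' : G) ^ p ^ i) ^ p ^ m = ((k' : G) ^ p ^ i) ^ p ^ m * a
      rw [← hk₁]
      exact h3.symm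
  -- Frattini argument
  have hMS : Fus.IsSylowOf p M N := by
    refine Fus.IsSylowOf.of_card_le hMN (P.2.to_le hMP) fun X hX hXp hMX => ?_
    obtain ⟨y, -, hy⟩ := (Fus.isSylowOf_top P).exists_conj_le hXp le_top
    have hXM : X.map (MulAut.conj y).toMonoidHom ≤ M := by
      rintro _ ⟨x, hx, rfl⟩
      rw [hM]
      exact ⟨hy ⟨x, hx, rfl⟩, hNn.conj_mem _ (hX hx) y⟩
    refine (Subgroup.eq_of_le_of_card_ge hMX ?_).ge
    rw [← Fus.card_conjMap X y]
    exact Subgroup.card_le_of_le hXM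
  have hfrat : ∀ g : G, ∃ x ∈ Subgroup.normalizer (M : Set G), ∃ n ∈ N, g = x * n := by
    intro g
    obtain ⟨-, R, hR⟩ := hMS
    have h1 := Sylow.normalizer_sup_eq_top R
    rw [hR, Subgroup.map_subgroupOf_eq_of_le hMN] at h1
    have h2 : g ∈ ((Subgroup.normalizer (M : Set G) ⊔ N : Subgroup G) : Set G) := by
      rw [h1]; exact Subgroup.mem_top g
    rw [Subgroup.mul_normal] at h2
    obtain ⟨x, hx, n, hn, e⟩ := h2
    exact ⟨x, hx, n, hn, e.symm⟩
  suffices main : ∀ k : ℕ, ∀ A : Subgroup G, Nat.card (P : Subgroup G) - Nat.card A = k → A ≤ (P : Subgroup G) →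
      ∀ g : G, A.map (MulAut.conj g).toMonoidHom ≤ (P : Subgroup G) →
        ∃ h ∈ Subgroup.normalizer (W : Set G), ∃ c ∈ Subgroup.centralizer (A : Set G), g = h * c by
    exact fun A hA g hg => main _ A rfl hA g hg
  intro k
  induction k using Nat.strong_induction_on with
  | _ k ih =>
  intro A hk hA g hg
  have hbig : ∀ A' : Subgroup G, A' ≤ (P : Subgroup G) → W ≤ A' → ∀ g : G,
      A'.map (MulAut.conj g).toMonoidHom ≤ (P : Subgroup G) → g ∈ Subgroup.normalizer (W : Set G) := by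
    intro A' hA' hWA g hg
    obtain ⟨x, hx, n, hn, rfl⟩ := hfrat g
    have hle : (A' ⊓ N).map (MulAut.conj n).toMonoidHom ≤ M := by
      rintro _ ⟨a, ha, rfl⟩
      have h1 : x * n * a * (x * n)⁻¹ ∈ M := by
        rw [hM]; exact ⟨hg ⟨a, ha.1, rfl⟩, hNn.conj_mem _ ha.2 _⟩
      have h2 := (Subgroup.mem_normalizer_iff''.mp hx _).mp h1
      simpa [mul_assoc] using h2
    obtain ⟨h, hh, c, hc, rfl⟩ := hctrlW _ (by rw [hM]; exact inf_le_inf_right _ hA') n hn hle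
    have hcW : c ∈ Subgroup.centralizer (W : Set G) :=
      Subgroup.centralizer_le (SetLike.coe_subset_coe.mpr (le_inf hWA (hWM.trans hMN))) hc.2
    exact mul_mem (hNMW hx) (mul_mem hh.2 (Subgroup.centralizer_le_normalizer _ hcW))
  -- choose a fully normalized conjugate
  obtain ⟨y, hy, hymax⟩ := Set.exists_max_image {y : G | A.map (MulAut.conj y).toMonoidHom ≤ (P : Subgroup G)}
    (fun y => Nat.card ↥((P : Subgroup G) ⊓
      Subgroup.normalizer ((A.map (MulAut.conj y).toMonoidHom : Subgroup G) : Set G)))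
    (Set.toFinite _) ⟨g, hg⟩
  obtain ⟨B, hB⟩ : ∃ B, B = A.map (MulAut.conj y).toMonoidHom := ⟨_, rfl⟩
  obtain ⟨T, hT⟩ : ∃ T, T = (P : Subgroup G) ⊓ Subgroup.normalizer (B : Set G) := ⟨_, rfl⟩
  have hBP : B ≤ (P : Subgroup G) := hB ▸ hy
  have hBT : B ≤ T := hT ▸ le_inf hBP Subgroup.le_normalizer
  have hTS : Fus.IsSylowOf p T (Subgroup.normalizer (B : Set G)) := by
    refine Fus.IsSylowOf.of_card_le (hT ▸ inf_le_right) (P.2.to_le (hT ▸ inf_le_left)) fun X hX hXp hTX => ?_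
    obtain ⟨z, -, hz⟩ := (Fus.isSylowOf_top P).exists_conj_le hXp le_top
    refine (Subgroup.eq_of_le_of_card_ge hTX ?_).ge
    have h1 : X.map (MulAut.conj z).toMonoidHom ≤ (P : Subgroup G) ⊓
        Subgroup.normalizer ((A.map (MulAut.conj (z * y)).toMonoidHom : Subgroup G) : Set G) := by
      rw [← Fus.conjMap_comp, ← hB]
      exact le_inf hz (Fus.conjMap_mem_normalizer hX)
    rw [← Fus.card_conjMap X z]
    refine (Subgroup.card_le_of_le h1).trans (le_of_le_of_eq (hymax (z * y) ?_) (by rw [hT, hB]))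
    show A.map (MulAut.conj (z * y)).toMonoidHom ≤ _
    rw [← Fus.conjMap_comp, ← hB]
    exact (Subgroup.map_mono (hBT.trans hTX)).trans hz
  have hext : ∀ A' : Subgroup G, A' ≤ (P : Subgroup G) → Nat.card A' = Nat.card A → ∀ g : G,
      A'.map (MulAut.conj g).toMonoidHom = B →
      ∃ h ∈ Subgroup.normalizer (W : Set G), ∃ c ∈ Subgroup.centralizer (A' : Set G), g = h * c := by
    intro A' hA' hcard g hgB
    by_cases hWA : W ≤ A'
    · exact ⟨g, hbig A' hA' hWA g (hgB ▸ hBP), 1, one_mem _, (mul_one g).symm⟩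
    obtain ⟨U, hU⟩ : ∃ U, U = W ⊓ Subgroup.normalizer (A' : Set G) := ⟨_, rfl⟩
    have hUA : ¬ U ≤ A' := by
      intro hle
      have hlt : A' < A' ⊔ W := lt_of_le_of_ne le_sup_left fun e => hWA (e ▸ le_sup_right)
      have hp' : IsPGroup p ↥(A' ⊔ W) := P.2.to_le (sup_le hA' (hWM.trans hMP))
      refine (Char.BP.exists_normalizer_gt hp' hlt).not_ge ?_
      rintro x ⟨hx, hxN⟩
      have hx' : x ∈ ((A' ⊔ W : Subgroup G) : Set G) := hx
      rw [Subgroup.coe_mul_of_left_le_normalizer_right _ _ (hA'.trans hPW)] at hx'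
      obtain ⟨a, ha, w, hw, rfl⟩ := hx'
      refine mul_mem ha (hle (hU ▸ ⟨hw, ?_⟩))
      have := mul_mem (inv_mem (Subgroup.le_normalizer (H := A') ha)) hxN
      simpa using this
    obtain ⟨K, hKN, hKn, hUK, hKp⟩ := hkey A' hA'
    have hB' : ∀ z ∈ A', g * z * g⁻¹ ∈ B := fun z hz => hgB ▸ ⟨z, hz, rfl⟩
    obtain ⟨L, hL⟩ : ∃ L, L = T ⊔ Subgroup.centralizer (B : Set G) := ⟨_, rfl⟩
    have hLN : L ≤ Subgroup.normalizer (B : Set G) :=
      hL ▸ sup_le hTS.1 (Subgroup.centralizer_le_normalizer _)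
    have hUL : ∀ u ∈ U, g * u * g⁻¹ ∈ L := by
      intro u hu
      let θ := B.normalizerMonoidHom.rangeRestrict
      have hθ : Function.Surjective θ := MonoidHom.rangeRestrict_surjective _
      have hker : ∀ z : ↥(Subgroup.normalizer (B : Set G)), θ z = 1 ↔ (z : G) ∈ Subgroup.centralizer (B : Set G) := by
        intro z
        rw [← MonoidHom.mem_ker, MonoidHom.ker_rangeRestrict, Subgroup.normalizerMonoidHom_ker,
          Subgroup.mem_subgroupOf]
      let K' := ((K.map (MulAut.conj g).toMonoidHom).subgroupOf (Subgroup.normalizer (B : Set G))).map θ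
      have hK'n : K'.Normal := by
        refine Subgroup.Normal.map ⟨?_⟩ θ hθ
        rintro ⟨z, hz⟩ ⟨k, hkK, hkz⟩ ⟨b, hb⟩
        have hgb : g⁻¹ * b * g ∈ Subgroup.normalizer (A' : Set G) := by
          have h := Fus.mem_normalizer_conj (g := g⁻¹) hb
          rw [← hgB, Fus.conjMap_inv_conjMap, inv_inv] at h
          exact h
        refine ⟨g⁻¹ * b * g * k * (g⁻¹ * b * g)⁻¹, hKn _ hgb k hkK, ?_⟩
        simp only [MulEquiv.coe_toMonoidHom, MulAut.conj_apply, Subgroup.coe_subtype, Subgroup.coe_mul,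
          InvMemClass.coe_inv] at hkz ⊢
        rw [← hkz]; group
      have hK'p : IsPGroup p ↥K' := by
        rintro ⟨_, z, ⟨k, hkK, hkz⟩, rfl⟩
        obtain ⟨i, hi⟩ := hKp k hkK
        refine ⟨i, Subtype.ext ?_⟩
        show θ z ^ p ^ i = 1
        rw [← map_pow, hker, SubgroupClass.coe_pow]
        simp only [MulEquiv.coe_toMonoidHom, MulAut.conj_apply, Subgroup.coe_subtype] at hkz
        rw [← hkz, conj_pow]
        refine Subgroup.mem_centralizer_iff.mpr fun b hb => ?_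
        have hb' : g⁻¹ * b * g ∈ A' := by
          rw [SetLike.mem_coe, ← hgB] at hb
          obtain ⟨a, ha, rfl⟩ := hb
          simpa [mul_assoc] using ha
        have e := Subgroup.mem_centralizer_iff.mp hi _ hb'
        calc b * (g * k ^ p ^ i * g⁻¹) = g * ((g⁻¹ * b * g) * k ^ p ^ i) * g⁻¹ := by group
          _ = g * (k ^ p ^ i * (g⁻¹ * b * g)) * g⁻¹ := by rw [e]
          _ = _ := by group
      obtain ⟨hTle, R, hR⟩ := hTS
      let R' := R.mapSurjective hθ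
      have hKR : K' ≤ (R' : Subgroup _) := by
        haveI := hK'n
        rw [← R'.is_maximal' (IsPGroup.to_sup_of_normal_left hK'p R'.2) le_sup_right]
        exact le_sup_left
      have hu' : u ∈ K := hUK (hU ▸ hu)
      have hv : g * u * g⁻¹ ∈ Subgroup.normalizer (B : Set G) := by
        rw [← hgB]; exact Fus.mem_normalizer_conj (hKN hu')
      have h4 : θ ⟨_, hv⟩ ∈ (R' : Subgroup _) := hKR ⟨⟨_, hv⟩, ⟨u, hu', rfl⟩, rfl⟩
      rw [Sylow.coe_mapSurjective, hR] at h4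
      obtain ⟨t, ht, et⟩ := h4
      have h5 : θ (t⁻¹ * ⟨_, hv⟩) = 1 := by rw [map_mul, map_inv, et, inv_mul_cancel]
      have h6 := (hker _).mp h5
      rw [hL]
      have := Subgroup.mul_mem_sup (S := T) ht h6
      simpa using this
    obtain ⟨A'', hA''⟩ : ∃ A'', A'' = A' ⊔ U := ⟨_, rfl⟩
    have hA''P : A'' ≤ (P : Subgroup G) := hA'' ▸ sup_le hA' (hU ▸ inf_le_left.trans (hWM.trans hMP))
    have hA''L : A''.map (MulAut.conj g).toMonoidHom ≤ L := by
      rw [hA'', Subgroup.map_sup, hgB]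
      refine sup_le (hBT.trans (hL ▸ le_sup_left)) ?_
      rintro _ ⟨u, hu, rfl⟩
      exact hUL u hu
    have hTL : Fus.IsSylowOf p T L :=
      Fus.IsSylowOf.of_card_le (hL ▸ le_sup_left) hTS.isPGroup fun X hX hXp hTX =>
        (Subgroup.eq_of_le_of_card_ge hTX (hTS.card_le hXp (hX.trans hLN))).ge
    obtain ⟨d, hd, hle⟩ := hTL.exists_conj_le ((P.2.to_le hA''P).map _) hA''L
    rw [hL, ← SetLike.mem_coe, Subgroup.coe_mul_of_left_le_normalizer_right _ _
      (fun t ht => Fus.mem_normalizer_centralizer (hTS.1 ht))] at hd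
    obtain ⟨t, ht, c, hc, rfl⟩ := hd
    have hcg : A''.map (MulAut.conj (c * g)).toMonoidHom ≤ (P : Subgroup G) := by
      rintro _ ⟨z, hz, rfl⟩
      have h7 := hle ⟨_, ⟨z, hz, rfl⟩, rfl⟩
      have h8 := mul_mem (mul_mem (inv_mem ht) h7) ht
      have h9 : (t⁻¹ * (MulAut.conj (t * c)).toMonoidHom ((MulAut.conj g).toMonoidHom z)) * t ∈
          (P : Subgroup G) := (hT ▸ h8 : _ ∈ (P : Subgroup G) ⊓ _).1
      simpa [mul_assoc] using h9
    have hlt : A' < A'' := lt_of_le_of_ne (hA'' ▸ le_sup_left) fun e => hUA (by rw [e, hA'']; exact le_sup_right)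
    have hc1 : Nat.card A' < Nat.card A'' := Set.Finite.card_lt_card (Set.toFinite _) hlt
    have hc2 : Nat.card A'' ≤ Nat.card (P : Subgroup G) := Subgroup.card_le_of_le hA''P
    obtain ⟨h, hh, c', hc', e⟩ := ih (Nat.card (P : Subgroup G) - Nat.card A'') (by omega) A'' rfl hA''P (c * g) hcg
    have hc'A : c' ∈ Subgroup.centralizer (A' : Set G) :=
      Subgroup.centralizer_le (SetLike.coe_subset_coe.mpr hlt.le) hc'
    refine ⟨h, hh, h⁻¹ * c⁻¹ * h * c', mul_mem ?_ hc'A, ?_⟩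
    · refine Subgroup.mem_centralizer_iff.mpr fun a ha => ?_
      have e1 : h * a * h⁻¹ = c * (g * a * g⁻¹) * c⁻¹ := by
        calc h * a * h⁻¹ = h * (a * c') * c'⁻¹ * h⁻¹ := by group
          _ = h * (c' * a) * c'⁻¹ * h⁻¹ := by rw [Subgroup.mem_centralizer_iff.mp hc'A a ha]
          _ = (h * c') * a * (h * c')⁻¹ := by group
          _ = _ := by rw [← e]; group
      have e2 : h * a * h⁻¹ = g * a * g⁻¹ := by
        rw [e1, ← Subgroup.mem_centralizer_iff.mp hc _ (hB' a ha), mul_inv_cancel_right]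
      have e3 : (h * a * h⁻¹) * c⁻¹ = c⁻¹ * (h * a * h⁻¹) :=
        Subgroup.mem_centralizer_iff.mp (inv_mem hc) _ (e2 ▸ hB' a ha)
      calc a * (h⁻¹ * c⁻¹ * h) = h⁻¹ * ((h * a * h⁻¹) * c⁻¹) * h := by group
        _ = h⁻¹ * (c⁻¹ * (h * a * h⁻¹)) * h := by rw [e3]
        _ = h⁻¹ * c⁻¹ * h * a := by group
    · calc g = c⁻¹ * (c * g) := by group
        _ = c⁻¹ * (h * c') := by rw [e]
        _ = h * (h⁻¹ * c⁻¹ * h * c') := by group
  obtain ⟨h₁, hh₁, c₁, hc₁, e₁⟩ := hext A hA rfl y hB.symm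
  obtain ⟨h₂, hh₂, c₂, hc₂, e₂⟩ := hext (A.map (MulAut.conj g).toMonoidHom) hg (Fus.card_conjMap _ _) (y * g⁻¹)
    (by rw [Fus.conjMap_comp, inv_mul_cancel_right, hB])
  refine ⟨h₂⁻¹ * h₁, mul_mem (inv_mem hh₂) hh₁, (h₂⁻¹ * h₁)⁻¹ * c₂⁻¹ * (h₂⁻¹ * h₁) * c₁, mul_mem ?_ hc₁, ?_⟩
  · refine Subgroup.mem_centralizer_iff.mpr fun a ha => ?_
    have hk : h₂⁻¹ * h₁ = c₂ * g * c₁⁻¹ := by
      have h1 : h₁ = y * c₁⁻¹ := by rw [e₁]; group
      have h2 : h₂ = y * g⁻¹ * c₂⁻¹ := by rw [e₂]; group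
      rw [h1, h2]; group
    have e3 : (h₂⁻¹ * h₁) * a * (h₂⁻¹ * h₁)⁻¹ = g * a * g⁻¹ := by
      rw [hk]
      calc c₂ * g * c₁⁻¹ * a * (c₂ * g * c₁⁻¹)⁻¹ = c₂ * g * c₁⁻¹ * (a * c₁) * g⁻¹ * c₂⁻¹ := by group
        _ = c₂ * g * c₁⁻¹ * (c₁ * a) * g⁻¹ * c₂⁻¹ := by rw [Subgroup.mem_centralizer_iff.mp hc₁ a ha]
        _ = (c₂ * (g * a * g⁻¹)) * c₂⁻¹ := by group
        _ = g * a * g⁻¹ := by
          rw [← Subgroup.mem_centralizer_iff.mp hc₂ (g * a * g⁻¹) ⟨a, ha, rfl⟩, mul_inv_cancel_right]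
    have e4 : (h₂⁻¹ * h₁) * a * (h₂⁻¹ * h₁)⁻¹ * c₂⁻¹ = c₂⁻¹ * ((h₂⁻¹ * h₁) * a * (h₂⁻¹ * h₁)⁻¹) :=
      Subgroup.mem_centralizer_iff.mp (inv_mem hc₂) _ (by rw [e3]; exact ⟨a, ha, rfl⟩)
    generalize h₂⁻¹ * h₁ = k at e4 ⊢
    calc a * (k⁻¹ * c₂⁻¹ * k) = k⁻¹ * ((k * a * k⁻¹) * c₂⁻¹) * k := by group
      _ = k⁻¹ * (c₂⁻¹ * (k * a * k⁻¹)) * k := by rw [e4]
      _ = k⁻¹ * c₂⁻¹ * k * a := by group
  · calc g = (y * g⁻¹)⁻¹ * y := by group
      _ = (h₂ * c₂)⁻¹ * (h₁ * c₁) := by rw [e₂, e₁]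
      _ = _ := by group

end Cfsg.Agent.S1954
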