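import Cfsg.Statements.S1956
import Cfsg.Agent.Lib.Invol.SylowChains
-- import your own Cfsg.Agent.* helpers here

set_option autoImplicit false
open Cfsg

namespace Cfsg.Agent.S1956

/-- Let P be a Sylow p-subgroup of the finite group G such that every element of P of order dividing p (dividing 4 when p = 2) is central in P. Then the fusion of these elements is controlled by N_G(P): if such an element a of P has g a g⁻¹ in P, then g = n c with n normalizing P and c commuting with a. -/
theorem result {G : Type*} [Group G] [Finite G] {p : ℕ} [Fact p.Prime] (P : Sylow p G)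
    (hcen : ∀ a ∈ (P : Subgroup G), (a ^ p = 1 ∨ (p = 2 ∧ a ^ 4 = 1)) → ∀ y ∈ (P : Subgroup G), a * y = y * a) :
    ∀ a ∈ (P : Subgroup G), (a ^ p = 1 ∨ (p = 2 ∧ a ^ 4 = 1)) → ∀ g : G, g * a * g⁻¹ ∈ (P : Subgroup G) →
      ∃ n ∈ Subgroup.normalizer ((P : Subgroup G) : Set G), ∃ c : G, c * a = a * c ∧ g = n * c := by
  intro a ha hsmall g hga
  have hsmall' : (g * a * g⁻¹) ^ p = 1 ∨ (p = 2 ∧ (g * a * g⁻¹) ^ 4 = 1) := by
    rw [conj_pow, conj_pow, conj_eq_one_iff, conj_eq_one_iff]; exact hsmall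
  set K := Subgroup.centralizer ({a} : Set G) with hK
  have hP : (P : Subgroup G) ≤ K := fun y hy => Subgroup.mem_centralizer_singleton_iff.mpr (hcen a ha hsmall y hy).symm
  have hP' : ((g⁻¹ • P : Sylow p G) : Subgroup G) ≤ K := by
    intro y hy
    rw [Sylow.coe_subgroup_smul, Subgroup.mem_pointwise_smul_iff_inv_smul_mem] at hy
    have hy' : g * y * g⁻¹ ∈ (P : Subgroup G) := by simpa using hy
    have h := hcen _ hga hsmall' _ hy'
    refine Subgroup.mem_centralizer_singleton_iff.mpr ?_
    calc y * a = g⁻¹ * (g * y * g⁻¹ * (g * a * g⁻¹)) * g := by group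
      _ = g⁻¹ * (g * a * g⁻¹ * (g * y * g⁻¹)) * g := by rw [h]
      _ = a * y := by group
  obtain ⟨c, hc⟩ := MulAction.exists_smul_eq K ((g⁻¹ • P : Sylow p G).subtype hP') (P.subtype hP)
  rw [Sylow.smul_subtype] at hc
  have he : ((c : G) * g⁻¹) • P = P := by rw [mul_smul]; exact Sylow.subtype_injective hc
  refine ⟨g * (c : G)⁻¹, ?_, (c : G), Subgroup.mem_centralizer_singleton_iff.mp c.2, by group⟩
  have h2 := Subgroup.inv_mem _ (Sylow.smul_eq_iff_mem_normalizer.mp he)
  simpa using h2

end Cfsg.Agent.S1956
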