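import Cfsg.Statements.S1958
import Cfsg.Agent.Lib.Grp.SignalizerTransitive
import Cfsg.Agent.Lib.Invol.SylowChains
-- import your own Cfsg.Agent.* helpers here

set_option autoImplicit false
open Cfsg

namespace Cfsg.Agent.S1958

theorem half {H : Type*} [Group H] [Finite H] (p : ℕ) [Fact p.Prime] (x y : H) (hx : orderOf x = p) (hxy : x * y = y * x)
    (hC : Group.IsSolvable ↥(Subgroup.centralizer ({y} : Set H))) :
    Cfsg.centralizerPPrimeCore p x ⊓ Subgroup.centralizer {y} ≤ Cfsg.centralizerPPrimeCore p y ⊓ Subgroup.centralizer {x} := by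
  rintro z ⟨hz, hzy⟩
  obtain ⟨⟨z', hzx⟩, hz', rfl⟩ := hz
  refine ⟨?_, hzx⟩
  set Cy := Subgroup.centralizer ({y} : Set H) with hCy
  set x0 : Cy := ⟨x, Subgroup.mem_centralizer_singleton_iff.mpr hxy⟩ with hx0
  have hx0p : IsPGroup p (Subgroup.zpowers x0) :=
    IsPGroup.of_card (n := 1) (by rw [Nat.card_zpowers, pow_one, ← hx, hx0, Subgroup.orderOf_mk])
  set C0 := Subgroup.centralizer ({x0} : Set Cy) with hC0
  let i : C0 →* ↥(Subgroup.centralizer ({x} : Set H)) :=
    { toFun := fun c => ⟨((c : Cy) : H), Subgroup.mem_centralizer_singleton_iff.mpr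
        (congrArg Subtype.val (Subgroup.mem_centralizer_singleton_iff.mp c.2))⟩
      map_one' := rfl
      map_mul' := fun _ _ => rfl }
  have hi : Function.Injective i := fun a b h => Subtype.ext (Subtype.ext (congrArg (fun t : ↥(Subgroup.centralizer ({x} : Set H)) => (t : H)) h))
  set K := (Cfsg.pPrimeCore p ↥(Subgroup.centralizer ({x} : Set H))).comap i with hK
  have hKn : K.Normal := (Cfsg.Agent.Grp.pPrimeCore_isNormal).comap i
  have hKc : (Nat.card K).Coprime p := by
    refine Nat.Coprime.coprime_dvd_left ?_ (Cfsg.Agent.Grp.pPrimeCore_coprime (p := p) (G := ↥(Subgroup.centralizer ({x} : Set H))))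
    rw [← Subgroup.card_map_of_injective (f := i) hi]
    exact Subgroup.card_dvd_of_le (Subgroup.map_comap_le _ _)
  set z0 : C0 := ⟨⟨z', hzy⟩, Subgroup.mem_centralizer_singleton_iff.mpr
    (Subtype.ext (Subgroup.mem_centralizer_singleton_iff.mp hzx))⟩ with hz0
  have hmem : (z0 : Cy) ∈ Cfsg.centralizerPPrimeCore p x0 :=
    ⟨z0, Cfsg.Agent.Grp.le_pPrimeCore hKn hKc (show z0 ∈ K from hz'), rfl⟩
  exact ⟨(z0 : Cy), Cfsg.Agent.Grp.centralizerPPrimeCore_le hx0p hmem, rfl⟩

/-- Let `G` be a finite group, `p` a prime, and `x, y` commuting elements of order `p` whose centralizers `C_G(x)` and `C_G(y)` are both solvable. Then `O_{p'}(C_G(x)) ∩ C_G(y) = O_{p'}(C_G(y)) ∩ C_G(x)` (balance). -/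
theorem result {G : Type*} [Group G] [Finite G]
    (p : ℕ) [Fact p.Prime] (x y : G) (hx : orderOf x = p) (hy : orderOf y = p) (hxy : x * y = y * x)
    (hCx : Group.IsSolvable ↥(Subgroup.centralizer ({x} : Set G))) (hCy : Group.IsSolvable ↥(Subgroup.centralizer ({y} : Set G))) :
    Cfsg.centralizerPPrimeCore p x ⊓ Subgroup.centralizer {y} = Cfsg.centralizerPPrimeCore p y ⊓ Subgroup.centralizer {x} := by
  exact le_antisymm (half p x y hx hxy hCy) (half p y x hy hxy.symm hCx)

end Cfsg.Agent.S1958
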