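import Cfsg.Statements.S1963
import Mathlib
import Cfsg.Agent.Lib.Invol.Closed
-- import your own Cfsg.Agent.* helpers here

set_option autoImplicit false
open Cfsg

namespace Cfsg.Agent.S1963

/-- Let p be a prime, G a finite group with Sylow p-subgroup S, W a conjugacy functor for p on G and T a subgroup of S. Then some G-conjugate of T is well placed in S with respect to W. -/
theorem result {G : Type*} [Group G] [Finite G] {p : ℕ} [Fact p.Prime] (S : Sylow p G) (W : Subgroup G → Subgroup G) (hW : Cfsg.IsConjugacyFunctor p W) (T : Subgroup G) (hT : T ≤ (S : Subgroup G)) : ∃ g : G, Cfsg.IsWellPlaced p W (S : Subgroup G) (T.map (MulAut.conj g).toMonoidHom) := by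
  classical
  have hpr : p.Prime := Fact.out
  let cj : G → Subgroup G → Subgroup G := fun g U => U.map (MulAut.conj g).toMonoidHom
  have cj_comp : ∀ (a b : G) (U : Subgroup G), cj a (cj b U) = cj (a * b) U :=
    fun a b U => Invol.map_conj_map_conj U b a
  have cj_mono : ∀ (a : G) {U V : Subgroup G}, U ≤ V → cj a U ≤ cj a V :=
    fun a U V h => Subgroup.map_mono h
  have cj_norm : ∀ (a : G) (U : Subgroup G),
      cj a (Subgroup.normalizer (U : Set G)) = Subgroup.normalizer ((cj a U : Subgroup G) : Set G) :=
    fun a U => Subgroup.map_equiv_normalizer_eq U (MulAut.conj a)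
  have cj_rel : ∀ (a : G) (U V : Subgroup G), (cj a U).relIndex (cj a V) = U.relIndex V :=
    fun a U V => Subgroup.relIndex_map_map_of_injective U V (MulAut.conj a).injective
  let tw : G → ℕ → Subgroup G := fun g i => Cfsg.functorTower W (S : Subgroup G) (cj g T) i
  let R : G → ℕ → Subgroup G := fun g i =>
    (S : Subgroup G) ⊓ Subgroup.normalizer ((tw g i : Subgroup G) : Set G)
  let N : G → ℕ → Subgroup G := fun g i => Subgroup.normalizer ((tw g i : Subgroup G) : Set G)
  have hRp : ∀ g i, IsPGroup p (R g i) := fun g i => S.isPGroup'.to_inf_left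
  have hRmono : ∀ g i, R g i ≤ R g (i + 1) := by
    intro g i x hx
    refine ⟨hx.1, Invol.mem_normalizer_of_map_eq ?_⟩
    change (W (R g i)).map _ = W (R g i)
    rw [← (hW _ (hRp g i)).2.2 x]
    congr 1
    ext y
    rw [Invol.mem_map_conj]
    exact (Subgroup.mem_normalizer_iff''.mp (Subgroup.le_normalizer hx) y).symm
  -- for every bound some conjugate is extremal up to that stage
  have main : ∀ n, ∃ g, cj g T ≤ (S : Subgroup G) ∧ ∀ i < n, ¬ p ∣ (R g i).relIndex (N g i) := by
    intro n
    induction n with
    | zero => exact ⟨1, (Invol.map_conj_one T).le.trans hT, fun i hi => absurd hi (by omega)⟩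
    | succ n ih =>
      obtain ⟨g, hgS, hext⟩ := ih
      obtain ⟨X, hX⟩ := ((hRp g n).comap_subtype (K := N g n)).exists_le_sylow
      set X' := (X : Subgroup (N g n)).map (N g n).subtype with hX'
      have hX'p : IsPGroup p X' := X.isPGroup'.map _
      have hX'N : X' ≤ N g n := Subgroup.map_subtype_le _
      have hX'idx : ¬ p ∣ X'.relIndex (N g n) := by
        rw [Subgroup.relIndex, hX', Subgroup.subgroupOf, Subgroup.comap_map_eq_self_of_injective
          (N g n).subtype_injective]
        exact X.not_dvd_index
      obtain ⟨h, hh⟩ := Invol.exists_conj_subset_sylow hX'p S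
      have hX'S : cj h X' ≤ (S : Subgroup G) := by
        rintro _ ⟨x, hx, rfl⟩
        exact hh x hx
      have hRX : R g n ≤ X' := fun x hx => ⟨⟨x, hx.2⟩, hX hx, rfl⟩
      have hRle : ∀ i ≤ n, R g i ≤ X' := by
        intro i hi
        exact (monotone_nat_of_le_succ (hRmono g) hi).trans hRX
      have hstep : ∀ i ≤ n, tw (h * g) i = cj h (tw g i) → i < n →
          R (h * g) i = cj h (R g i) := by
        intro i hi htw hlt
        have hN' : N (h * g) i = cj h (N g i) := by
          change Subgroup.normalizer ((tw (h * g) i : Subgroup G) : Set G) = _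
          rw [htw, ← cj_norm]
        have hle : cj h (R g i) ≤ R (h * g) i := by
          refine le_inf ((cj_mono h (hRle i hi)).trans hX'S) ?_
          change _ ≤ N (h * g) i
          rw [hN']
          exact cj_mono h inf_le_right
        refine (Invol.eq_of_le_of_not_dvd_relIndex hle inf_le_right (hRp _ _) ?_).symm
        change ¬ p ∣ (cj h (R g i)).relIndex (N (h * g) i)
        rw [hN', cj_rel]
        exact hext i hlt
      have htw : ∀ i ≤ n, tw (h * g) i = cj h (tw g i) := by
        intro i
        induction i with
        | zero => exact fun _ => (cj_comp h g T).symm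
        | succ i ih =>
          intro hi
          have h1 := hstep i (by omega) (ih (by omega)) (by omega)
          change W (R (h * g) i) = cj h (W (R g i))
          rw [h1]
          exact (hW _ (hRp g i)).2.2 h
      refine ⟨h * g, ?_, fun i hi => ?_⟩
      · rw [← cj_comp]
        exact (cj_mono h ((le_inf hgS Subgroup.le_normalizer).trans (hRle 0 (Nat.zero_le n)))).trans hX'S
      · have hN' : N (h * g) i = cj h (N g i) := by
          change Subgroup.normalizer ((tw (h * g) i : Subgroup G) : Set G) = _
          rw [htw i (by omega), ← cj_norm]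
        rcases Nat.lt_or_ge i n with hlt | hge
        · rw [hstep i (by omega) (htw i (by omega)) hlt, hN', cj_rel]
          exact hext i hlt
        · obtain rfl : i = n := by omega
          refine Invol.not_dvd_relIndex_of_le (A := cj h X') ?_ inf_le_right ?_
          · refine le_inf hX'S ?_
            change _ ≤ N (h * g) i
            rw [hN']
            exact cj_mono h hX'N
          · change ¬ p ∣ (cj h X').relIndex (N (h * g) i)
            rw [hN', cj_rel]
            exact hX'idx
  by_contra hno
  push Not at hno
  have hfail : ∀ g : G, ∃ i, cj g T ≤ (S : Subgroup G) → p ∣ (R g i).relIndex (N g i) := by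
    intro g
    by_contra hg
    push Not at hg
    exact hno g ⟨(hg 0).1, fun i => (hg i).2⟩
  choose f hf using hfail
  have := Fintype.ofFinite G
  obtain ⟨g, hgS, hg⟩ := main (Finset.univ.sup f + 1)
  exact hg (f g) (Nat.lt_succ_of_le (Finset.le_sup (Finset.mem_univ g))) (hf g hgS)

end Cfsg.Agent.S1963
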