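import Cfsg.Statements.S1961
import Cfsg.Agent.Lib.Invol.FamilyChain
import Cfsg.Agent.S1963
-- import your own Cfsg.Agent.* helpers here

set_option autoImplicit false
open Cfsg

namespace Cfsg.Agent.S1961

/-- Local-to-global control of strong fusion through well-placed subgroups. Let p be a prime, G a finite group with Sylow p-subgroup S, and W a conjugacy functor for p on G. If W controls strong fusion in N_G(T) for every nonidentity subgroup T of S that is well placed in S with respect to W, then W controls strong fusion in G. -/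
theorem result {G : Type*} [Group G] [Finite G] {p : ℕ} [Fact p.Prime] (S : Sylow p G) (W : Subgroup G → Subgroup G) (hW : Cfsg.IsConjugacyFunctor p W) (hloc : ∀ T : Subgroup G, T ≠ ⊥ → Cfsg.IsWellPlaced p W (S : Subgroup G) T → Cfsg.ControlsStrongFusionIn p W (Subgroup.normalizer ((T : Subgroup G) : Set G))) : Cfsg.ControlsStrongFusionIn p W ⊤ := by
  refine ⟨S, le_top, S.isPGroup', by rw [Subgroup.relIndex_top_right]; exact S.not_dvd_index,
    fun A g _ hA hgA => ?_⟩
  have hch := Invol.famChain_wellPlaced (W := W) S (S1963.result S W hW) A g⁻¹ hA (by simpa using hgA)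
  suffices key : ∀ (B : Set G) (y : G),
      Invol.FamChain {T : Subgroup G | Cfsg.IsWellPlaced p W (S : Subgroup G) T} B y →
      ∃ n ∈ Subgroup.normalizer ((W (S : Subgroup G) : Subgroup G) : Set G),
        ∀ b ∈ B, n⁻¹ * b * n = y⁻¹ * b * y by
    obtain ⟨n, hn, he⟩ := key A g⁻¹ hch
    exact ⟨n⁻¹, ⟨Subgroup.mem_top _, Subgroup.inv_mem _ hn⟩, fun a ha => by simpa using he a ha⟩
  intro B y hy
  induction hy with
  | nil B => exact ⟨1, one_mem _, fun b _ => by simp⟩
  | @cons B T x y hT hx hB _ ih =>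
    obtain ⟨m, hm, hme⟩ := ih
    obtain ⟨n, hn, hne⟩ : ∃ n ∈ Subgroup.normalizer ((W (S : Subgroup G) : Subgroup G) : Set G),
        ∀ b ∈ B, n⁻¹ * b * n = x⁻¹ * b * x := by
      by_cases hT1 : T = ⊥
      · exact ⟨1, one_mem _, fun b hb => by
          have h1 : b ∈ (⊥ : Subgroup G) := hT1 ▸ hB hb
          rw [Subgroup.mem_bot.1 h1]; simp⟩
      have hTR : T ≤ (S : Subgroup G) ⊓ Subgroup.normalizer (T : Set G) := le_inf hT.1 Subgroup.le_normalizer
      obtain ⟨n, hn, hne⟩ := Invol.fusion_of_wellPlaced hW S hloc T hT1 hT B x⁻¹ (inv_mem hx)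
        (fun b hb => hTR (hB hb)) fun b hb => hTR (by
          simpa using (Subgroup.mem_normalizer_iff''.1 hx b).1 (hB hb))
      exact ⟨n⁻¹, inv_mem hn, fun b hb => by simpa using hne b hb⟩
    refine ⟨n * m, mul_mem hn hm, fun b hb => ?_⟩
    calc (n * m)⁻¹ * b * (n * m) = m⁻¹ * (n⁻¹ * b * n) * m := by group
      _ = m⁻¹ * (x⁻¹ * b * x) * m := by rw [hne b hb]
      _ = y⁻¹ * (x⁻¹ * b * x) * y := hme _ ⟨b, hb, rfl⟩
      _ = (x * y)⁻¹ * b * (x * y) := by group

end Cfsg.Agent.S1961
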