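import Cfsg.Statements.S1962
import Cfsg.Agent.Lib.Invol.FamilyChain
import Cfsg.Agent.S1963
-- import your own Cfsg.Agent.* helpers here

set_option autoImplicit false
open Cfsg

namespace Cfsg.Agent.S1962

open scoped commutatorElement

/-- Local-to-global control of transfer through well-placed subgroups. Let p be a prime, G a finite group with Sylow p-subgroup S, and W a conjugacy functor for p on G. If W controls transfer in N_G(T) for every nonidentity subgroup T of S that is well placed in S with respect to W, then W controls transfer in G: S ∩ G' = S ∩ (N_G(W(S)))'. -/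
theorem result {G : Type*} [Group G] [Finite G] {p : ℕ} [Fact p.Prime] (S : Sylow p G) (W : Subgroup G → Subgroup G) (hW : Cfsg.IsConjugacyFunctor p W) (hloc : ∀ T : Subgroup G, T ≠ ⊥ → Cfsg.IsWellPlaced p W (S : Subgroup G) T → Cfsg.ControlsTransferIn p W (Subgroup.normalizer ((T : Subgroup G) : Set G))) : Cfsg.ControlsTransferIn p W ⊤ := by
  refine ⟨S, le_top, S.isPGroup', by rw [Subgroup.relIndex_top_right]; exact S.not_dvd_index, ?_⟩
  rw [top_inf_eq]
  refine le_antisymm ?_ (inf_le_inf le_rfl (Subgroup.commutator_mono le_top le_top))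
  set F := (S : Subgroup G) ⊓ ⁅Subgroup.normalizer ((W (S : Subgroup G) : Subgroup G) : Set G),
    Subgroup.normalizer ((W (S : Subgroup G) : Subgroup G) : Set G)⁆ with hF
  rw [inf_comm, ← commutator_def]
  refine Transfer.commutator_inf_sylow_le S fun a ha u hu => ?_
  have hch := Invol.famChain_wellPlaced (W := W) S (S1963.result S W hW) {a} u⁻¹
    (Set.singleton_subset_iff.2 ha) (by rintro _ ⟨b, rfl, rfl⟩; simp only [inv_inv]; exact hu)
  suffices key : ∀ (B : Set G) (y : G),
      Invol.FamChain {T : Subgroup G | Cfsg.IsWellPlaced p W (S : Subgroup G) T} B y →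
      ∀ b ∈ B, b⁻¹ * (y⁻¹ * b * y) ∈ F by
    simpa using key {a} u⁻¹ hch a rfl
  intro B y hy
  induction hy with
  | nil B => exact fun b _ => by simp
  | @cons B T x y hT hx hB _ ih =>
    intro b hb
    have h1 : b⁻¹ * (x⁻¹ * b * x) ∈ F := by
      by_cases hT1 : T = ⊥
      · have h0 : b ∈ (⊥ : Subgroup G) := hT1 ▸ hB hb
        rw [Subgroup.mem_bot.1 h0]; simp
      refine Invol.transfer_of_wellPlaced hW S hloc T hT1 hT ⟨?_, ?_⟩
      · exact (le_inf hT.1 Subgroup.le_normalizer : T ≤ _)
          (mul_mem (inv_mem (hB hb)) ((Subgroup.mem_normalizer_iff''.1 hx b).1 (hB hb)))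
      · have := Subgroup.commutator_mem_commutator
          (inv_mem (Subgroup.le_normalizer (hB hb)) : b⁻¹ ∈ Subgroup.normalizer (T : Set G)) (inv_mem hx)
        simpa [commutatorElement_def, mul_assoc] using this
    have h2 := mul_mem h1 (ih _ ⟨b, hb, rfl⟩)
    simpa [mul_assoc] using h2

end Cfsg.Agent.S1962
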