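import Cfsg.Statements.S1966
import Cfsg.Agent.Lib.Grp.Cores
-- import your own Cfsg.Agent.* helpers here

set_option autoImplicit false
open Cfsg

namespace Cfsg.Agent.S1966

/-- Let p be a prime, G a finite group with Sylow p-subgroup S and 𝓕 a conjugation family for S in G. Then the members of 𝓕 containing O_p(G) still form a conjugation family for S in G. -/
theorem result {G : Type*} [Group G] [Finite G] {p : ℕ} [Fact p.Prime] (S : Sylow p G) (𝓕 : Set (Subgroup G)) (h : Cfsg.IsConjugationFamily 𝓕 (S : Subgroup G)) : Cfsg.IsConjugationFamily {T : Subgroup G | T ∈ 𝓕 ∧ Cfsg.pCore p G ≤ T} (S : Subgroup G) := by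
  refine ⟨fun T hT => h.1 T hT.1, fun A g hA0 hA hg => ?_⟩
  have hQn : (Cfsg.pCore p G).Normal := Grp.pCore_isNormal
  have hQS : Cfsg.pCore p G ≤ (S : Subgroup G) := Grp.pCore_le_sylow S
  have hconj : ∀ (c : G), ∀ q ∈ Cfsg.pCore p G, c⁻¹ * q * c ∈ Cfsg.pCore p G := fun c q hq => by
    simpa using hQn.conj_mem q hq c⁻¹
  obtain ⟨n, T, x, hprod, hm, hn, h0, hstep⟩ := h.2 (A ∪ (Cfsg.pCore p G : Set G)) g
    (hA0.mono Set.subset_union_left) (Set.union_subset hA hQS) (by
      rintro _ ⟨a, ha | ha, rfl⟩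
      · exact hg ⟨a, ha, rfl⟩
      · exact hQS (hconj g a ha))
  refine ⟨n, T, x, hprod, fun i => ⟨hm i, fun q hq => ?_⟩, hn,
    fun hn0 => Set.subset_union_left.trans (h0 hn0),
    fun i hi => (Set.image_mono Set.subset_union_left).trans (hstep i hi)⟩
  obtain ⟨iv, hiv⟩ := i
  cases iv with
  | zero => exact h0 hiv (Or.inr hq)
  | succ j =>
    set c := ((List.ofFn x).take (j + 1)).prod with hc
    exact hstep ⟨j, by omega⟩ hiv ⟨c * q * c⁻¹, Or.inr (hQn.conj_mem q hq c), by
      show c⁻¹ * (c * q * c⁻¹) * c = q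
      group⟩

end Cfsg.Agent.S1966
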