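import Cfsg.Statements.S1967
import Mathlib
import Cfsg.Agent.Lib.Invol.Closed
-- import your own Cfsg.Agent.* helpers here

set_option autoImplicit false
open Cfsg

namespace Cfsg.Agent.S1967

/-- Let p be a prime, G a finite group with Sylow p-subgroup S and W a conjugacy functor for p on G. Then W controls strong fusion in G if and only if, whenever T ≤ S and g ∈ G satisfy gTg⁻¹ ≤ S, one can write g = n c with n ∈ N_G(W(S)) and c ∈ C_G(T). -/
theorem result {G : Type*} [Group G] [Finite G] {p : ℕ} [Fact p.Prime] (S : Sylow p G) (W : Subgroup G → Subgroup G) (hW : Cfsg.IsConjugacyFunctor p W) : Cfsg.ControlsStrongFusionIn p W ⊤ ↔ ∀ (T : Subgroup G) (g : G), T ≤ (S : Subgroup G) → T.map (MulAut.conj g).toMonoidHom ≤ (S : Subgroup G) → ∃ n ∈ Subgroup.normalizer ((W (S : Subgroup G) : Subgroup G) : Set G), ∃ c ∈ Subgroup.centralizer (T : Set G), g = n * c := by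
  constructor
  · rintro ⟨T₀, -, hT₀p, hT₀i, hfus⟩ T g hTS hgTS
    rw [Subgroup.relIndex_top_right] at hT₀i
    obtain ⟨a, ha⟩ := MulAction.exists_smul_eq G S (hT₀p.toSylow hT₀i)
    have hT₀ : T₀ = (S : Subgroup G).map (MulAut.conj a).toMonoidHom := by
      have h2 := congrArg (fun Q : Sylow p G => (Q : Subgroup G)) ha
      exact h2.symm.trans (by rfl)
    obtain ⟨x, hx, hxa⟩ := hfus ((fun t => a * t * a⁻¹) '' (T : Set G)) (a * g * a⁻¹)
      (Subgroup.mem_top _)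
      (by rintro _ ⟨t, ht, rfl⟩; rw [hT₀]; exact Invol.conj_mem_map_conj (hTS ht))
      (by
        rintro _ ⟨_, ⟨t, ht, rfl⟩, rfl⟩
        rw [hT₀, SetLike.mem_coe, Invol.mem_map_conj]
        have := hgTS (Invol.conj_mem_map_conj (g := g) ht)
        simpa [mul_assoc] using this)
    have hn : a⁻¹ * x * a ∈ Subgroup.normalizer ((W (S : Subgroup G) : Subgroup G) : Set G) := by
      have hx2 := hx.2
      rw [hT₀, (hW _ S.isPGroup').2.2 a,
        ← Subgroup.map_equiv_normalizer_eq (W (S : Subgroup G)) (MulAut.conj a)] at hx2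
      exact Invol.mem_map_conj.mp hx2
    refine ⟨_, hn, (a⁻¹ * x * a)⁻¹ * g, ?_, (mul_inv_cancel_left _ g).symm⟩
    rw [Subgroup.mem_centralizer_iff]
    intro t ht
    have h := hxa _ ⟨t, ht, rfl⟩
    have h2 : a⁻¹ * x * a * t * (a⁻¹ * x * a)⁻¹ = g * t * g⁻¹ := by
      calc a⁻¹ * x * a * t * (a⁻¹ * x * a)⁻¹ = a⁻¹ * (x * (a * t * a⁻¹) * x⁻¹) * a := by group
        _ = a⁻¹ * (a * g * a⁻¹ * (a * t * a⁻¹) * (a * g * a⁻¹)⁻¹) * a := by rw [h]
        _ = g * t * g⁻¹ := by group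
    calc t * ((a⁻¹ * x * a)⁻¹ * g)
        = (a⁻¹ * x * a)⁻¹ * (a⁻¹ * x * a * t * (a⁻¹ * x * a)⁻¹) * g := by group
      _ = (a⁻¹ * x * a)⁻¹ * (g * t * g⁻¹) * g := by rw [h2]
      _ = (a⁻¹ * x * a)⁻¹ * g * t := by group
  · intro h
    refine ⟨S, le_top, S.isPGroup', by rw [Subgroup.relIndex_top_right]; exact S.not_dvd_index, ?_⟩
    intro A g _ hA hgA
    obtain ⟨n, hn, c, hc, rfl⟩ := h (Subgroup.closure A) g ((Subgroup.closure_le _).mpr hA) (by
      rw [MonoidHom.map_closure, Subgroup.closure_le]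
      exact hgA)
    refine ⟨n, ⟨Subgroup.mem_top _, hn⟩, fun x hx => ?_⟩
    have hcx := Subgroup.mem_centralizer_iff.mp hc x (Subgroup.subset_closure hx)
    calc n * x * n⁻¹ = n * (x * c) * c⁻¹ * n⁻¹ := by group
      _ = n * (c * x) * c⁻¹ * n⁻¹ := by rw [hcx]
      _ = n * c * x * (n * c)⁻¹ := by group

end Cfsg.Agent.S1967
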