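import Cfsg.Statements.S1968
import Cfsg.Agent.Lib.Invol.FamilyChain
import Cfsg.Agent.S1963
-- import your own Cfsg.Agent.* helpers here

set_option autoImplicit false
open Cfsg

namespace Cfsg.Agent.S1968

/-- Let p be a prime, G a finite group with Sylow p-subgroup S and W a conjugacy functor for p on G with Z(P) ≤ W(P) for every p-subgroup P. Let A be a subgroup of Z(S) normalized by N_G(W(S)) that is not weakly closed in S with respect to G. Then there is a subgroup T of S, well placed in S with respect to W, such that: A ≤ T; N_G(W(N_S(T))) normalizes A; N_S(T) is a Sylow p-subgroup of N_G(T); A ≤ Z(N_S(T)); and A is not weakly closed in N_S(T) with respect to N_G(T), that is, some N_G(T)-conjugate of A other than A lies in N_S(T). -/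
theorem result {G : Type*} [Group G] [Finite G] {p : ℕ} [Fact p.Prime] (S : Sylow p G) (W : Subgroup G → Subgroup G) (hW : Cfsg.IsConjugacyFunctor p W) (hWZ : ∀ P : Subgroup G, IsPGroup p ↥P → P ⊓ Subgroup.centralizer (P : Set G) ≤ W P) (A : Subgroup G) (hAZ : A ≤ (S : Subgroup G) ⊓ Subgroup.centralizer ((S : Subgroup G) : Set G)) (hAN : Subgroup.normalizer ((W (S : Subgroup G) : Subgroup G) : Set G) ≤ Subgroup.normalizer ((A : Subgroup G) : Set G)) (hnwc : ¬ Cfsg.IsWeaklyClosed A (S : Subgroup G)) : ∃ T : Subgroup G, Cfsg.IsWellPlaced p W (S : Subgroup G) T ∧ A ≤ T ∧ Subgroup.normalizer ((W ((S : Subgroup G) ⊓ Subgroup.normalizer ((T : Subgroup G) : Set G)) : Subgroup G) : Set G) ≤ Subgroup.normalizer ((A : Subgroup G) : Set G) ∧ ¬ p ∣ ((S : Subgroup G) ⊓ Subgroup.normalizer ((T : Subgroup G) : Set G)).relIndex (Subgroup.normalizer ((T : Subgroup G) : Set G)) ∧ A ≤ Subgroup.centralizer (((S : Subgroup G) ⊓ Subgroup.normalizer ((T : Subgroup G) : Set G) : Subgroup G) : Set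 G) ∧ ∃ g ∈ Subgroup.normalizer ((T : Subgroup G) : Set G), A.map (MulAut.conj g).toMonoidHom ≤ (S : Subgroup G) ⊓ Subgroup.normalizer ((T : Subgroup G) : Set G) ∧ A.map (MulAut.conj g).toMonoidHom ≠ A := by
  have hAS : A ≤ (S : Subgroup G) := hAZ.trans inf_le_left
  have hAC : ∀ R : Subgroup G, R ≤ (S : Subgroup G) → A ≤ Subgroup.centralizer (R : Set G) := fun R hR =>
    (hAZ.trans inf_le_right).trans (Subgroup.centralizer_le hR)
  have hmove : ∀ N : Subgroup G, ¬ N ≤ Subgroup.normalizer (A : Set G) →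
      ∃ g ∈ N, A.map (MulAut.conj g).toMonoidHom ≠ A := by
    intro N hN
    obtain ⟨g, hg, hgn⟩ := SetLike.not_le_iff_exists.1 hN
    exact ⟨g, hg, fun he => hgn (Invol.mem_normalizer_of_map_eq he)⟩
  have climb : ∀ j, ∀ U : Subgroup G, Cfsg.IsWellPlaced p W (S : Subgroup G) U → A ≤ U →
      Nat.card (S : Subgroup G) - Nat.card ↥((S : Subgroup G) ⊓ Subgroup.normalizer (U : Set G)) ≤ j →
      (∃ g ∈ Subgroup.normalizer (U : Set G), A.map (MulAut.conj g).toMonoidHom ≤
        (S : Subgroup G) ⊓ Subgroup.normalizer (U : Set G) ∧ A.map (MulAut.conj g).toMonoidHom ≠ A) →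
      ∃ T : Subgroup G, Cfsg.IsWellPlaced p W (S : Subgroup G) T ∧ A ≤ T ∧
        Subgroup.normalizer ((W ((S : Subgroup G) ⊓ Subgroup.normalizer (T : Set G)) : Subgroup G) : Set G) ≤
          Subgroup.normalizer (A : Set G) ∧
        ¬ p ∣ ((S : Subgroup G) ⊓ Subgroup.normalizer (T : Set G)).relIndex (Subgroup.normalizer (T : Set G)) ∧
        A ≤ Subgroup.centralizer (((S : Subgroup G) ⊓ Subgroup.normalizer (T : Set G) : Subgroup G) : Set G) ∧
        ∃ g ∈ Subgroup.normalizer (T : Set G), A.map (MulAut.conj g).toMonoidHom ≤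
          (S : Subgroup G) ⊓ Subgroup.normalizer (T : Set G) ∧ A.map (MulAut.conj g).toMonoidHom ≠ A := by
    intro j
    induction j using Nat.strong_induction_on with
    | _ j IH =>
    intro U hU hAU hj hg
    set R := (S : Subgroup G) ⊓ Subgroup.normalizer (U : Set G) with hR
    by_cases hN : Subgroup.normalizer ((W R : Subgroup G) : Set G) ≤ Subgroup.normalizer (A : Set G)
    · exact ⟨U, hU, hAU, hN, hU.2 0, hAC R inf_le_left, hg⟩
    rcases eq_or_lt_of_le (inf_le_left : R ≤ (S : Subgroup G)) with he | hlt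
    · exact absurd (by rw [show R = (S : Subgroup G) from he]; exact hAN) hN
    obtain ⟨y, hy, hyA⟩ := hmove _ hN
    have hAR : A ≤ R := hAU.trans (le_inf hU.1 Subgroup.le_normalizer)
    have hAW : A ≤ W R := (le_inf hAR (hAC R inf_le_left)).trans (hWZ R S.isPGroup'.to_inf_left)
    have hlt' : Nat.card R <
        Nat.card ↥((S : Subgroup G) ⊓ Subgroup.normalizer ((W R : Subgroup G) : Set G)) :=
      Invol.card_lt_card_inf_normalizer S hW hlt
    have hcS := Subgroup.card_le_of_le
      (inf_le_left : (S : Subgroup G) ⊓ Subgroup.normalizer ((W R : Subgroup G) : Set G) ≤ (S : Subgroup G))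
    refine IH (Nat.card (S : Subgroup G) -
      Nat.card ↥((S : Subgroup G) ⊓ Subgroup.normalizer ((W R : Subgroup G) : Set G)))
      (by omega) (W R) (Invol.isWellPlaced_succ hW S hU) hAW le_rfl ⟨y, hy, ?_, hyA⟩
    rintro _ ⟨a, ha, rfl⟩
    refine ⟨((hW R S.isPGroup'.to_inf_left).1.trans inf_le_left)
      ((Subgroup.mem_normalizer_iff.1 hy a).1 (hAW ha)), Subgroup.le_normalizer ?_⟩
    exact (Subgroup.mem_normalizer_iff.1 hy a).1 (hAW ha)
  obtain ⟨g, hgS, hgA⟩ : ∃ g : G, A.map (MulAut.conj g).toMonoidHom ≤ (S : Subgroup G) ∧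
      A.map (MulAut.conj g).toMonoidHom ≠ A := by
    by_contra hno
    push Not at hno
    exact hnwc ⟨hAS, hno⟩
  have hch := Invol.famChain_wellPlaced (W := W) S (S1963.result S W hW) (A : Set G) g⁻¹ hAS (by
    rintro _ ⟨a, ha, rfl⟩
    show g⁻¹⁻¹ * a * g⁻¹ ∈ (S : Subgroup G)
    rw [inv_inv]
    exact hgS (Invol.conj_mem_map_conj (g := g) ha))
  suffices key : ∀ (B : Set G) (y : G),
      Invol.FamChain {T : Subgroup G | Cfsg.IsWellPlaced p W (S : Subgroup G) T} B y → B = (A : Set G) →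
      (fun b => y⁻¹ * b * y) '' B ≠ (A : Set G) →
      ∃ T, Cfsg.IsWellPlaced p W (S : Subgroup G) T ∧ A ≤ T ∧ ∃ x ∈ Subgroup.normalizer (T : Set G),
        A.map (MulAut.conj x).toMonoidHom ≠ A by
    obtain ⟨T, hT, hAT, x, hx, hxA⟩ := key _ _ hch rfl (fun he => hgA (SetLike.coe_injective (by
      rw [← he, Subgroup.coe_map]
      exact Set.image_congr fun a _ => by simp)))
    refine climb _ T hT hAT le_rfl ⟨x, hx, ?_, hxA⟩
    rintro _ ⟨a, ha, rfl⟩
    exact (le_inf hT.1 Subgroup.le_normalizer : T ≤ _) ((Subgroup.mem_normalizer_iff.1 hx a).1 (hAT ha))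
  intro B y hy
  induction hy with
  | nil B =>
    intro hB hne
    refine absurd ?_ hne
    simp [hB]
  | @cons B T x y hT hx hB _ ih =>
    intro hBA hne
    subst hBA
    by_cases he : A.map (MulAut.conj x⁻¹).toMonoidHom = A
    · have h1 : (fun b => x⁻¹ * b * x) '' (A : Set G) = (A : Set G) := by
        conv_rhs => rw [← he, Subgroup.coe_map]
        exact Set.image_congr fun a _ => by simp
      refine ih h1 fun h2 => hne ?_
      rw [Set.image_image] at h2
      simpa [mul_assoc] using h2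
    · exact ⟨T, hT, hB, x⁻¹, inv_mem hx, he⟩

end Cfsg.Agent.S1968
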