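import Cfsg.Statements.S1970
import Cfsg.Agent.Lib.Invol.TransferTheorems
-- import your own Cfsg.Agent.* helpers here

set_option autoImplicit false
universe u
open Cfsg

namespace Cfsg.Agent.S1970

/-- Let p be a prime, G a finite group and W an isomorphism-invariant p-group functor (W assigns to every group Q a subgroup W(Q), nontrivial whenever Q is a nontrivial finite p-group, and every isomorphism from a finite p-group Q onto a group R carries W(Q) onto W(R)). Suppose that for every section G* = K/R of G with C_{G*}(O_p(G*)) ≤ O_p(G*) and every Sylow p-subgroup S* of G*, one has O_p(G*) ∩ (G*)' = O_p(G*) ∩ (N_{G*}(W(S*)))'. Then W controls transfer in every section G* of G: S* ∩ (G*)' = S* ∩ (N_{G*}(W(S*)))' for a Sylow p-subgroup S* of G*. -/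
theorem result {G : Type u} [Group G] [Finite G] {p : ℕ} [Fact p.Prime] (W : ∀ (Q : Type u) [Group Q], Subgroup Q) (hW : Cfsg.IsCharPFunctor.{u} p W) (hloc : ∀ (K R : Subgroup G) [hR : (R.subgroupOf K).Normal], Subgroup.centralizer ((Cfsg.pCore p (↥K ⧸ R.subgroupOf K) : Subgroup (↥K ⧸ R.subgroupOf K)) : Set (↥K ⧸ R.subgroupOf K)) ≤ Cfsg.pCore p (↥K ⧸ R.subgroupOf K) → ∀ T : Sylow p (↥K ⧸ R.subgroupOf K), Cfsg.pCore p (↥K ⧸ R.subgroupOf K) ⊓ commutator (↥K ⧸ R.subgroupOf K) = Cfsg.pCore p (↥K ⧸ R.subgroupOf K) ⊓ ⁅Subgroup.normalizer ((Cfsg.inducedFunctor (G := (↥K ⧸ R.subgroupOf K)) W ((T : Subgroup (↥K ⧸ R.subgroupOf K))) : Subgroup (↥K ⧸ R.subgroupOf K)) : Set (↥K ⧸ R.subgroupOf K)), Subgroup.normalizer ((Cfsg.inducedFunctor (G := (↥K ⧸ R.subgroupOf K)) W ((T : Subgroup (↥K ⧸ R.subgroupOf K))) : Subgroup (↥K ⧸ R.subgroupOf K)) : Set (↥K ⧸ R.subgroupOf K))⁆) : ∀ (K R : Subgroup G) [hR : (R.subgroupOf K).Normal], Cfsg.ControlsTransferIn p (Cfsg.inducedFunctor (G := (↥K ⧸ R.subgroupOf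 K)) W) ⊤ := by
  intro K R _
  rw [Invol.controlsTransferIn_iff hW]
  refine Invol.transferCtrl_of_local (𝓦 := {W}) (by rintro _ rfl; exact hW) ⟨W, rfl⟩ (G := G) ?_ _ ?_
  · intro X _ _ hX hC S
    obtain ⟨K', R', hR', ⟨e⟩⟩ := hX.exists_quotient
    set T := S.mapSurjective (f := e.symm.toMonoidHom) e.symm.surjective with hT
    have hTS : (T : Subgroup _).map e.toMonoidHom = (S : Subgroup X) := by
      change ((S : Subgroup X).map e.symm.toMonoidHom).map e.toMonoidHom = _
      rw [Subgroup.map_map]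
      convert Subgroup.map_id (S : Subgroup X)
      ext x; simp
    have h1 := hloc K' R' (Invol.centralizer_pCore_transport e hC) T
    rw [← hTS]
    refine le_trans ?_ (Invol.foc_ind_map_le (p := p) (𝓦 := {W}) (by rintro _ rfl; exact hW)
      e.toMonoidHom T.isPGroup' (fun x _ hx => e.injective (hx.trans (map_one _).symm)))
    rw [Invol.foc_singleton, ← Invol.map_pCore_equiv e,
      ← Subgroup.map_top_of_surjective e.toMonoidHom e.surjective, ← Subgroup.map_commutator,
      ← Subgroup.map_inf _ _ _ e.injective]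
    refine Subgroup.map_mono (h1.le.trans (inf_le_inf_right _ ?_))
    exact Grp.pCore_le_sylow T
  · exact (Invol.IsSectionOf.of_surjective _ (QuotientGroup.mk'_surjective _)).trans
      (Invol.IsSectionOf.of_subgroup K)

end Cfsg.Agent.S1970
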