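import Cfsg.Statements.S1972
import Cfsg.Agent.Lib.Invol.TransferTheorems
-- import your own Cfsg.Agent.* helpers here

set_option autoImplicit false
universe u
open Cfsg

namespace Cfsg.Agent.S1972

/-- Let p be a prime, G a finite group and W an isomorphism-invariant p-group functor (W assigns to every group Q a subgroup W(Q), nontrivial whenever Q is a nontrivial finite p-group, and every isomorphism from a finite p-group Q onto a group R carries W(Q) onto W(R)). Suppose that whenever G* = K/R is a section of G with C_{G*}(O_p(G*)) ≤ O_p(G*) and S* is a Sylow p-subgroup of G* with W(S*) not normal in G*, there is an element g of S* outside O_p(G*) such that [X, g, …, g] ≤ Y with p − 1 entries g, for every chief factor X/Y of G* with X ≤ O_p(G*). Then W controls transfer in every section of G. -/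
theorem result {G : Type u} [Group G] [Finite G] {p : ℕ} [Fact p.Prime] (W : ∀ (Q : Type u) [Group Q], Subgroup Q) (hW : Cfsg.IsCharPFunctor.{u} p W) (hloc : ∀ (K R : Subgroup G) [hR : (R.subgroupOf K).Normal], Subgroup.centralizer ((Cfsg.pCore p (↥K ⧸ R.subgroupOf K) : Subgroup (↥K ⧸ R.subgroupOf K)) : Set (↥K ⧸ R.subgroupOf K)) ≤ Cfsg.pCore p (↥K ⧸ R.subgroupOf K) → ∀ T : Sylow p (↥K ⧸ R.subgroupOf K), ¬ (Cfsg.inducedFunctor (G := (↥K ⧸ R.subgroupOf K)) W ((T : Subgroup (↥K ⧸ R.subgroupOf K)))).Normal → ∃ g : (↥K ⧸ R.subgroupOf K), g ∈ (T : Subgroup (↥K ⧸ R.subgroupOf K)) ∧ g ∉ Cfsg.pCore p (↥K ⧸ R.subgroupOf K) ∧ ∀ U V : Subgroup (↥K ⧸ R.subgroupOf K), Cfsg.IsChiefFactor U V → U ≤ Cfsg.pCore p (↥K ⧸ R.subgroupOf K) → Cfsg.iterCommutator U (Subgroup.zpowers g) (p - 1) ≤ V) : ∀ (K R : Subgroup G) [hR : (R.subgroupOf K).Normal], Cfsg.ControlsTransferIn p (Cfsg.inducedFunctor (G := (↥K ⧸ R.subgroupOf K)) W) ⊤ := by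
  intro K R _
  rw [Invol.controlsTransferIn_iff hW]
  refine Invol.transferCtrl_of_nilpotent hW (G := G) ?_ _ ?_
  · intro X _ _ hX hC S hn
    obtain ⟨K', R', hR', ⟨e⟩⟩ := hX.exists_quotient
    set T := S.mapSurjective (f := e.symm.toMonoidHom) e.symm.surjective with hT
    have hTS : (T : Subgroup _).map e.toMonoidHom = (S : Subgroup X) := by
      change ((S : Subgroup X).map e.symm.toMonoidHom).map e.toMonoidHom = _
      rw [Subgroup.map_map]
      convert Subgroup.map_id (S : Subgroup X)
      ext x; simp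
    obtain ⟨g, hgT, hg, hgn⟩ := hloc K' R' (Invol.centralizer_pCore_transport e hC) T (fun h => hn (by
      rw [← hTS, Invol.inducedFunctor_map hW T.isPGroup' e.toMonoidHom
        (fun x _ hx => e.injective (hx.trans (map_one _).symm))]
      exact h.map _ e.surjective))
    refine ⟨e g, hTS ▸ ⟨g, hgT, rfl⟩, fun h => hg ?_, ?_⟩
    · obtain ⟨z, hz, hze⟩ := (Invol.map_pCore_equiv e).ge h
      rwa [← e.injective hze]
    · rw [← Invol.map_pCore_equiv e]
      exact Invol.map_mem_nilpSet e hgn
  · exact (Invol.IsSectionOf.of_surjective _ (QuotientGroup.mk'_surjective _)).trans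
      (Invol.IsSectionOf.of_subgroup K)

end Cfsg.Agent.S1972
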