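import Cfsg.Statements.S1981
import Cfsg.Agent.Lib.Invol.KInfinity
-- import your own Cfsg.Agent.* helpers here

set_option autoImplicit false
open Cfsg

namespace Cfsg.Agent.S1981

/-- Let P be a finite p-group generated by its abelian normal subgroups. Then both K-infinity subgroups of P equal P. -/
theorem result {P : Type*} [Group P] [Finite P] {p : ℕ} [Fact p.Prime] (hP : IsPGroup p P) (hgen : ⨆ A ∈ {A : Subgroup P | A.Normal ∧ IsMulCommutative ↥A}, A = ⊤) : Cfsg.kInfLower P = ⊤ ∧ Cfsg.kInfUpper P = ⊤ := by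
  have hall : ∀ A : Subgroup P, A.Normal → IsMulCommutative ↥A →
      A ≤ Cfsg.kInfLower P ∧ A ≤ Cfsg.kInfUpper P := by
    intro A hAn hA
    exact Invol.KInf.abelian_normal_le_kInf (Subgroup.commutator_eq_bot_iff_le_centralizer.mpr
      fun a ha => Subgroup.mem_centralizer_iff.mpr fun b hb =>
        congrArg Subtype.val (hA.is_comm.comm ⟨b, hb⟩ ⟨a, ha⟩))
  constructor <;> rw [eq_top_iff, ← hgen]
  · exact iSup₂_le fun A hA => (hall A hA.1 hA.2).1
  · exact iSup₂_le fun A hA => (hall A hA.1 hA.2).2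

end Cfsg.Agent.S1981
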