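import Cfsg.Statements.S1983
import Cfsg.Agent.Lib.Invol.KInfCritical
-- import your own Cfsg.Agent.* helpers here

set_option autoImplicit false
universe u
open Cfsg

namespace Cfsg.Agent.S1983

/-- Let p be a prime, G a finite group with Sylow p-subgroup S and T = O_p(G). Suppose that the lower or the upper K-infinity subgroup of S is not normal in G. Then there is an element g of S outside T such that [X, g, g, g, g] ≤ Y for every chief factor X/Y of G with X ≤ T, and [Z(T), g, g] = 1; and if moreover C_G(T) ≤ T then some quotient group of G is not p-stable (in the normalizer form: some quadratically acting element of a normalizer fails to map into O_p of the automizer). -/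
theorem result {G : Type u} [Group G] [Finite G] {p : ℕ} [Fact p.Prime] (S : Sylow p G) (hK : ¬ (Cfsg.inducedFunctor Cfsg.kInfLower (S : Subgroup G)).Normal ∨ ¬ (Cfsg.inducedFunctor Cfsg.kInfUpper (S : Subgroup G)).Normal) : ∃ g : G, g ∈ (S : Subgroup G) ∧ g ∉ (Cfsg.pCore p G) ∧ (∀ U V : Subgroup G, Cfsg.IsChiefFactor U V → U ≤ (Cfsg.pCore p G) → Cfsg.iterCommutator U (Subgroup.zpowers g) 4 ≤ V) ∧ ⁅⁅((Cfsg.pCore p G) ⊓ Subgroup.centralizer (((Cfsg.pCore p G) : Subgroup G) : Set G)), (Subgroup.zpowers g)⁆, (Subgroup.zpowers g)⁆ = ⊥ ∧ (Subgroup.centralizer (((Cfsg.pCore p G) : Subgroup G) : Set G) ≤ (Cfsg.pCore p G) → ∃ (N : Subgroup G) (_ : N.Normal), ¬ Cfsg.IsNormalizerPStable p (G ⧸ N)) := by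
  haveI hTn : (Cfsg.pCore p G).Normal := Cfsg.Agent.Grp.pCore_isNormal
  obtain ⟨A, hAn, hAT, hTA, hA2, hC⟩ :=
    Invol.exists_critical_normal (Cfsg.Agent.Grp.pCore_isPGroup (p := p) (G := G))
  haveI := hAn
  haveI hzn : (Invol.KInf.zen A).Normal := Invol.KInf.zen_normal A
  obtain ⟨g, hgS, hgT, hg, hq⟩ := Invol.KInf.exists_cubic_element S A hAT hA2 hTA hC hK
  refine ⟨g, hgS, hgT, ?_, ?_, ?_⟩
  · exact Invol.degree_of_selfCentralizing (i := 3) (j := 2) (Z := Invol.KInf.zen A)
      Cfsg.Agent.Grp.pCore_isPGroup hAT (Invol.KInf.zen_le A) hTA hC (by norm_num)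
      (fun U V hUV hUA => Invol.KInf.iterCommutator_chief_le (n := 3) (m := 2) hg.1 hg.2 (by norm_num) hUV hUA)
      (fun U V hUV hUZ => ((Invol.iterCommutator_mono hUZ le_rfl 2).trans hg.2.le).trans bot_le)
  · refine le_bot_iff.mp (le_trans (Subgroup.commutator_mono (Subgroup.commutator_mono ?_ le_rfl) le_rfl) hg.2.le)
    have h1 : Cfsg.pCore p G ⊓ Subgroup.centralizer ((Cfsg.pCore p G : Subgroup G) : Set G) ≤
        Subgroup.centralizer (A : Set G) := inf_le_right.trans (Subgroup.centralizer_le hAT)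
    exact le_inf ((le_inf inf_le_left h1).trans hC) h1
  · intro hCT
    obtain ⟨U, V, hUV, hUA, hUq, hUn⟩ := hq hCT
    obtain ⟨hlt, hUnorm, hVn, hmin⟩ := hUV
    refine ⟨V, hVn, ?_⟩
    set π := QuotientGroup.mk' V with hπ
    have hs : Function.Surjective π := QuotientGroup.mk'_surjective V
    haveI : (U.map π).Normal := hUnorm.map _ hs
    refine Invol.not_isNormalizerPStable_of_quadratic (V := U.map π) (g := π g)
      ((Cfsg.Agent.Grp.pCore_isPGroup.to_le (hUA.trans hAT)).map π) (fun N hN hNU => ?_) ?_ ?_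
    · have hUc : (U.map π).comap π = U :=
        Subgroup.comap_map_eq_self (by rw [hπ, QuotientGroup.ker_mk']; exact hlt.le)
      rcases hmin (N.comap π) (hN.comap π) (fun y hy => by
          show π y ∈ N
          rw [show π y = 1 from (QuotientGroup.eq_one_iff y).mpr hy]; exact one_mem _)
        ((Subgroup.comap_mono hNU).trans hUc.le) with h | h
      · left
        rw [← Subgroup.map_comap_eq_self_of_surjective hs N, h, Subgroup.map_eq_bot_iff, hπ,
          QuotientGroup.ker_mk']
      · right; rw [← Subgroup.map_comap_eq_self_of_surjective hs N, h]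
    · rw [← MonoidHom.map_zpowers, ← Subgroup.map_commutator, ← Subgroup.map_commutator,
        Subgroup.map_eq_bot_iff, hπ, QuotientGroup.ker_mk']
      exact hUq
    · intro hc
      refine hUn ?_
      rw [← QuotientGroup.ker_mk' V, ← hπ, ← Subgroup.map_eq_bot_iff, Subgroup.map_commutator,
        Subgroup.commutator_eq_bot_iff_le_centralizer, Subgroup.le_centralizer_iff, MonoidHom.map_zpowers,
        Subgroup.zpowers_le]
      exact hc

end Cfsg.Agent.S1983
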