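import Cfsg.Statements.S1987
import Cfsg.Agent.Lib.Invol.PStableTransport
import Cfsg.Agent.Lib.Invol.FusionTheorem
-- import your own Cfsg.Agent.* helpers here

set_option autoImplicit false
universe u
open Cfsg

namespace Cfsg.Agent.S1987

/-- Let p be an odd prime and G a finite group every section of which is p-stable in the normalizer form (in each section, an element of the normalizer of a p-subgroup Q acting quadratically on Q maps into O_p of N(Q)/C(Q)). Then for every Sylow p-subgroup S of G the lower K-infinity subgroup of S controls strong fusion in G. -/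
theorem result {G : Type u} [Group G] [Finite G] {p : ℕ} [Fact p.Prime] (hp : p ≠ 2) (hst : ∀ (K R : Subgroup G) [hR : (R.subgroupOf K).Normal], Cfsg.IsNormalizerPStable p (↥K ⧸ R.subgroupOf K)) (S : Sylow p G) : Cfsg.ControlsStrongFusion p (Cfsg.inducedFunctor Cfsg.kInfLower (S : Subgroup G)) := by
  have h𝓦 : ∀ W ∈ ({fun Q [Group Q] => Cfsg.kInfLower Q} : Set (∀ (Q : Type u) [Group Q], Subgroup Q)),
      Cfsg.IsCharPFunctor.{u} p W := by rintro _ rfl; exact Invol.KInf.isCharPFunctor_kInfLower p
  refine Invol.controlsStrongFusion_of_fusCtrl h𝓦 rfl ?_ S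
  refine Invol.fusCtrl_of_local h𝓦 ⟨_, rfl⟩ (G := G) (fun X _ _ hX hC T A h _ hhA => ?_) G (Invol.IsSectionOf.refl G)
  refine Invol.chn_step ⟨_, ⟨_, rfl, rfl⟩, ?_⟩ hhA
  rw [Subgroup.normalizer_eq_top_iff.mpr (Invol.kInf_normal_of_stable hst hX hC T).1]
  exact Subgroup.mem_top h

end Cfsg.Agent.S1987
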