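import Cfsg.Statements.S1990
import Cfsg.Agent.Lib.Invol.ThompsonReduction
-- import your own Cfsg.Agent.* helpers here

set_option autoImplicit false
universe u
open Cfsg

namespace Cfsg.Agent.S1990

/-- Let p be an odd prime, G a finite group with Sylow p-subgroup S, and W an isomorphism-invariant p-group functor (W assigns to every group Q a subgroup W(Q), nontrivial whenever Q is a nontrivial finite p-group, and every isomorphism from a finite p-group Q onto a group R carries W(Q) onto W(R)). Suppose N_G(W(S)) has a normal p-complement, and W(T) controls strong fusion in every section G* = K/R of G all of whose sections are p-stable in the normalizer form, for every Sylow p-subgroup T of G*. Then G has a normal p-complement. -/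
theorem result {G : Type u} [Group G] [Finite G] {p : ℕ} [Fact p.Prime] (hp : p ≠ 2) (W : ∀ (Q : Type u) [Group Q], Subgroup Q) (hW : Cfsg.IsCharPFunctor.{u} p W) (S : Sylow p G) (hN : Cfsg.HasNormalPComplement p ↥(Subgroup.normalizer ((Cfsg.inducedFunctor (G := G) W (S : Subgroup G) : Subgroup G) : Set G))) (hctl : ∀ (K R : Subgroup G) [hR : (R.subgroupOf K).Normal], (∀ (K' R' : Subgroup (↥K ⧸ R.subgroupOf K)) [hR' : (R'.subgroupOf K').Normal], Cfsg.IsNormalizerPStable p (↥K' ⧸ R'.subgroupOf K')) → ∀ T : Sylow p (↥K ⧸ R.subgroupOf K), Cfsg.ControlsStrongFusion p (Cfsg.inducedFunctor (G := (↥K ⧸ R.subgroupOf K)) W (T : Subgroup (↥K ⧸ R.subgroupOf K)))) : Cfsg.HasNormalPComplement p G := by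
  classical
  have hW' : ∀ _i : Unit, Cfsg.IsCharPFunctor.{u} p W := fun _ => hW
  have hNN : Invol.NormalizersNPC p (fun _ : Unit => W) G :=
    Invol.normalizersNPC_of_one hW' S fun _ => hN
  by_contra hG
  obtain ⟨X, _, _, hsec, hmin⟩ := Invol.exists_thompsonMinimal hW' hNN hG
  obtain ⟨K, R, hR, ⟨e⟩⟩ := hsec.exists_quotient
  set Q := ↥K ⧸ R.subgroupOf K
  obtain ⟨M, hM⟩ := hmin.data
  have hQ : Invol.IsPAbelP p Q :=
    Invol.IsPAbelP.of_surjective (⟨_, _, hM⟩ : Invol.IsPAbelP p X) (f := e.symm.toMonoidHom) e.symm.surjective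
  have hst : ∀ (K' R' : Subgroup Q) [hR' : (R'.subgroupOf K').Normal],
      Cfsg.IsNormalizerPStable p (↥K' ⧸ R'.subgroupOf K') := fun K' R' _ =>
    ((hQ.of_injective K'.subtype_injective).of_surjective
      (QuotientGroup.mk'_surjective (R'.subgroupOf K'))).isNormalizerPStable hp
  obtain ⟨T⟩ : Nonempty (Sylow p Q) := inferInstance
  set U := Cfsg.inducedFunctor W (T : Subgroup Q) with hU
  obtain ⟨T', hUT', hctrl⟩ := hctl K R hst T
  have hnorm : Subgroup.normalizer (U : Set Q) = T := by
    refine Subgroup.map_injective (f := e.toMonoidHom) e.injective ?_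
    have h1 := hmin.norm () (T.mapSurjective (f := e.toMonoidHom) e.surjective)
    change Subgroup.normalizer
      (Cfsg.inducedFunctor W ((T : Subgroup Q).map e.toMonoidHom) : Set X) = (T : Subgroup Q).map e.toMonoidHom at h1
    rw [Invol.inducedFunctor_map hW T.isPGroup' e.toMonoidHom
      (fun x _ hx => e.injective (hx.trans (map_one _).symm))] at h1
    exact (Subgroup.map_equiv_normalizer_eq U e).trans h1
  have hUT : U ≤ T := Invol.inducedFunctor_le _ _
  have hTT : (T' : Subgroup Q) ≤ T := by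
    intro g hg
    obtain ⟨_, hc⟩ := hctrl (T' : Subgroup Q) subset_rfl
    obtain ⟨x, hx, hxa⟩ := hc g (by
      rintro _ ⟨a, ha, rfl⟩
      exact mul_mem (mul_mem hg ha) (inv_mem hg))
    have hxN : x ∈ Subgroup.normalizer ((T' : Subgroup Q) : Set Q) := by
      refine Subgroup.mem_normalizer_iff.mpr fun a => ⟨fun ha => ?_, fun ha => ?_⟩
      · exact (hxa a ha) ▸ mul_mem (mul_mem hg ha) (inv_mem hg)
      · have h2 := hxa (g⁻¹ * (x * a * x⁻¹) * g) (mul_mem (mul_mem (inv_mem hg) ha) hg)
        simp only [mul_assoc, mul_inv_cancel_left, mul_inv_cancel, mul_one, mul_right_inj] at h2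
        have h3 : a = g⁻¹ * (x * (a * (x⁻¹ * g))) := mul_right_cancel (b := x⁻¹) (by
          simpa [mul_assoc] using h2)
        rw [h3]
        exact (by simpa [mul_assoc] using mul_mem (mul_mem (inv_mem hg) ha) hg)
    rw [hnorm] at hx
    have hxT' : x ∈ (T' : Subgroup Q) := by
      have h3 : IsPGroup p ↥(Subgroup.zpowers x) := T.isPGroup'.to_le (Subgroup.zpowers_le.mpr hx)
      have h4 := IsPGroup.to_sup_of_normal_right' h3 T'.isPGroup' (Subgroup.zpowers_le.mpr hxN)
      exact (T'.is_maximal' h4 le_sup_right).le (Subgroup.mem_sup_left (Subgroup.mem_zpowers x))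
    have hc' : x⁻¹ * g ∈ Subgroup.normalizer (U : Set Q) := by
      refine Subgroup.centralizer_le_normalizer _ (Subgroup.mem_centralizer_iff.mpr fun u hu => ?_)
      have h2 := hxa u (hUT' hu)
      calc u * (x⁻¹ * g) = x⁻¹ * (x * u * x⁻¹) * g := by group
        _ = x⁻¹ * (g * u * g⁻¹) * g := by rw [h2]
        _ = _ := by group
    rw [hnorm] at hc'
    simpa using mul_mem hx hc'
  have hTe : (T' : Subgroup Q) = T := (T'.is_maximal' T.isPGroup' hTT).symm
  apply hmin.notNPC
  rw [← Transfer.hasNormalPComplement_congr e]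
  refine Transfer.hasNormalPComplement_of_control T fun x hx y hy ⟨g, hg⟩ => ?_
  obtain ⟨_, hc⟩ := hctrl {x} (Set.singleton_subset_iff.mpr (hTe ▸ hx))
  obtain ⟨z, hz, hza⟩ := hc g (by
    rw [Set.image_singleton, Set.singleton_subset_iff, hg, hTe]; exact hy)
  rw [hnorm] at hz
  exact ⟨z, hz, by rw [← hza x rfl, hg]⟩

end Cfsg.Agent.S1990
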