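import Cfsg.Statements.S1988
import Cfsg.Agent.S1990
import Cfsg.Agent.Lib.Invol.FusionTheorem
import Cfsg.Agent.Lib.Invol.PStableTransport
import Cfsg.Agent.Lib.Invol.KInfinity
import Cfsg.Agent.Lib.Invol.CharP
-- import your own Cfsg.Agent.* helpers here

set_option autoImplicit false
universe u
open Cfsg

namespace Cfsg.Agent.S1988

/-- Let p be an odd prime, G a finite group with Sylow p-subgroup S and K the lower K-infinity subgroup of S. If N_G(K) has a normal p-complement, or if N_G(K)/C_G(K) is a p-group (every element of N_G(K) of order prime to p centralizes K), then G has a normal p-complement. -/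
theorem result {G : Type u} [Group G] [Finite G] {p : ℕ} [Fact p.Prime] (hp : p ≠ 2) (S : Sylow p G) (h : Cfsg.HasNormalPComplement p ↥(Subgroup.normalizer ((Cfsg.inducedFunctor Cfsg.kInfLower (S : Subgroup G) : Subgroup G) : Set G)) ∨ ∀ g ∈ Subgroup.normalizer ((Cfsg.inducedFunctor Cfsg.kInfLower (S : Subgroup G) : Subgroup G) : Set G), (orderOf g).Coprime p → g ∈ Subgroup.centralizer ((Cfsg.inducedFunctor Cfsg.kInfLower (S : Subgroup G) : Subgroup G) : Set G)) : Cfsg.HasNormalPComplement p G := by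
  refine Cfsg.Agent.S1990.result hp _ (Invol.KInf.isCharPFunctor_kInfLower p) S (h.elim id fun hN => ?_)
    fun K R _ hst T => ?_
  · set U := Cfsg.inducedFunctor Cfsg.kInfLower (S : Subgroup G) with hU
    set N := Subgroup.normalizer (U : Set G) with hNdef
    have hSN : (S : Subgroup G) ≤ N := Subgroup.le_normalizer.trans
      (Invol.normalizer_le_normalizer_inducedFunctor (Invol.KInf.isCharPFunctor_kInfLower p) S.isPGroup')
    obtain ⟨SN, hSNe⟩ : ∃ SN : Sylow p N, (SN : Subgroup N) = (S : Subgroup G).subgroupOf N :=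
      ⟨(S.isPGroup'.comap_subtype (K := N)).toSylow fun hd =>
        S.not_dvd_index (hd.trans (Subgroup.relIndex_dvd_index_of_le hSN)), rfl⟩
    haveI : Group.IsNilpotent (S : Subgroup G) := S.isPGroup'.isNilpotent
    rw [Transfer.hasNormalPComplement_iff_frobeniusCondition SN]
    intro Q hQ x hx hxp
    refine Subgroup.mem_centralizer_iff.mpr fun q hq => Subtype.ext ?_
    have hxC : (x : G) ∈ Subgroup.centralizer (U : Set G) := hN x x.2 (by rwa [Subgroup.orderOf_coe])
    have hqS : ∀ w ∈ Q, (w : G) ∈ (S : Subgroup G) := fun w hw => by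
      have := hQ hw; rwa [hSNe] at this
    set z : G := (x : G) * q * (x : G)⁻¹ * (q : G)⁻¹ with hz
    have hxq : x * q * x⁻¹ ∈ Q := (Subgroup.mem_normalizer_iff.mp hx q).mp hq
    have hzS : z ∈ (S : Subgroup G) := mul_mem (hqS _ hxq) (inv_mem (hqS q hq))
    have hzU : z ∈ U := by
      refine ⟨⟨z, hzS⟩, Invol.KInf.centralizer_kInf_le.1
        (Subgroup.mem_centralizer_iff.mpr fun u hu => Subtype.ext ?_), rfl⟩
      have huU : (u : G) ∈ U := ⟨u, hu, rfl⟩
      have hq' : (q : G)⁻¹ * u * q ∈ U :=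
        (Subgroup.mem_normalizer_iff''.mp q.2 u).mp huU
      have e1 := Subgroup.mem_centralizer_iff.mp hxC _ hq'
      have e2 := Subgroup.mem_centralizer_iff.mp hxC _ huU
      show (u : G) * z = z * u
      calc (u : G) * z = (u * x) * q * (x : G)⁻¹ * (q : G)⁻¹ := by rw [hz]; group
        _ = x * q * ((q : G)⁻¹ * u * q) * (x : G)⁻¹ * (q : G)⁻¹ := by rw [e2]; group
        _ = x * q * ((x : G)⁻¹ * (x * ((q : G)⁻¹ * u * q))) * (x : G)⁻¹ * (q : G)⁻¹ := by group
        _ = x * q * ((x : G)⁻¹ * ((q : G)⁻¹ * u * q * x)) * (x : G)⁻¹ * (q : G)⁻¹ := by rw [e1]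
        _ = z * u := by rw [hz]; group
    obtain ⟨k, hk⟩ := S.isPGroup' ⟨z, hzS⟩
    exact (Invol.commute_of_stabilises (k := k) (by rwa [Subgroup.orderOf_coe])
      (by simpa using congrArg Subtype.val hk)
      (show Commute (x : G) z from (Subgroup.mem_centralizer_iff.mp hxC z hzU).symm)
      (by rw [hz]; group)).eq.symm
  · have h𝓦 : ∀ W ∈ ({fun Q [Group Q] => Cfsg.kInfLower Q} : Set (∀ (Q : Type u) [Group Q], Subgroup Q)),
        Cfsg.IsCharPFunctor.{u} p W := by rintro _ rfl; exact Invol.KInf.isCharPFunctor_kInfLower p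
    refine Invol.controlsStrongFusion_of_fusCtrl h𝓦 rfl ?_ T
    refine Invol.fusCtrl_of_local h𝓦 ⟨_, rfl⟩ (G := ↥K ⧸ R.subgroupOf K) (fun X _ _ hX hC T' A g _ hgA => ?_) _
      (Invol.IsSectionOf.refl _)
    refine Invol.chn_step ⟨_, ⟨_, rfl, rfl⟩, ?_⟩ hgA
    rw [Subgroup.normalizer_eq_top_iff.mpr (Invol.kInf_normal_of_stable hst hX hC T').1]
    exact Subgroup.mem_top g

end Cfsg.Agent.S1988
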