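import Cfsg.Statements.S1989
import Cfsg.Agent.Lib.Invol.QdFusion
import Cfsg.Agent.Lib.Invol.FusionTheorem
import Cfsg.Agent.Lib.Invol.PStableTransport
import Cfsg.Agent.Lib.Grp.QuadraticGroup
-- import your own Cfsg.Agent.* helpers here

set_option autoImplicit false
universe u
open Cfsg

namespace Cfsg.Agent.S1989

/-- Let p be an odd prime and G a finite group. Then Qd(p) (the natural semidirect product of an elementary abelian group of order p² by SL₂(p)) is not involved in G if and only if, in every section K/R of G and for every Sylow p-subgroup T of K/R, the lower K-infinity subgroup of T controls strong fusion in K/R. -/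
theorem result {G : Type u} [Group G] [Finite G] {p : ℕ} [Fact p.Prime] (hp : p ≠ 2) : ¬ Cfsg.Involves ↥(Cfsg.qd p) G ↔ ∀ (K R : Subgroup G) [hR : (R.subgroupOf K).Normal], ∀ T : Sylow p (↥K ⧸ R.subgroupOf K), Cfsg.ControlsStrongFusion p (Cfsg.inducedFunctor (G := (↥K ⧸ R.subgroupOf K)) Cfsg.kInfLower (T : Subgroup (↥K ⧸ R.subgroupOf K))) := by
  constructor
  · intro hfree K R hR T
    have hsec : ∀ (X : Type u) [Group X] [Finite X], Invol.IsSectionOf X G → ¬ Cfsg.Involves ↥(Cfsg.qd p) X :=
      fun X _ _ hX h => hfree ((Invol.isSectionOf_of_involves h).trans hX).involves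
    have hst : ∀ (K' R' : Subgroup G) [(R'.subgroupOf K').Normal],
        Cfsg.IsNormalizerPStable p (↥K' ⧸ R'.subgroupOf K') := fun K' R' _ =>
      Grp.Quad.isNormalizerPStable_of_free hp (hsec _
        ((Invol.IsSectionOf.of_surjective _ (QuotientGroup.mk'_surjective _)).trans (Invol.IsSectionOf.of_subgroup K')))
    have h𝓦 : ∀ W ∈ ({fun Q [Group Q] => Cfsg.kInfLower Q} : Set (∀ (Q : Type u) [Group Q], Subgroup Q)),
        Cfsg.IsCharPFunctor.{u} p W := by rintro _ rfl; exact Invol.KInf.isCharPFunctor_kInfLower p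
    refine Invol.controlsStrongFusion_of_fusCtrl h𝓦 rfl ?_ T
    refine Invol.fusCtrl_of_local h𝓦 ⟨_, rfl⟩ (G := G) (fun X _ _ hX hC S A h _ hhA => ?_) _
      ((Invol.IsSectionOf.of_surjective _ (QuotientGroup.mk'_surjective _)).trans (Invol.IsSectionOf.of_subgroup K))
    refine Invol.chn_step ⟨_, ⟨_, rfl, rfl⟩, ?_⟩ hhA
    rw [Subgroup.normalizer_eq_top_iff.mpr (Invol.kInf_normal_of_stable hst hX hC S).1]
    exact Subgroup.mem_top h
  · intro hctl hinv
    obtain ⟨K, R, hR, ⟨e⟩⟩ := hinv
    obtain ⟨T⟩ : Nonempty (Sylow p (↥K ⧸ R.subgroupOf K)) := inferInstance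
    exact Invol.QdFusion.not_controlsStrongFusion e.symm T (Invol.KInf.isCharPFunctor_kInfLower p) (hctl K R T)

end Cfsg.Agent.S1989
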