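import Cfsg.Statements.S1992
import Cfsg.Agent.Lib.Invol.KInfTransfer
import Cfsg.Agent.Lib.Invol.IndexP
import Cfsg.Agent.S0144
-- import your own Cfsg.Agent.* helpers here

set_option autoImplicit false
open Cfsg

open scoped Pointwise

namespace Cfsg.Agent.S1992

/-- Let G be a finite group in which, for every prime q dividing the order of G, every Sylow q-subgroup is its own normalizer. Then the order of G is a power of a single prime (G is a q-group for some prime q; for G trivial any prime works). -/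
theorem result {G : Type*} [Group G] [Finite G] (h : ∀ q : ℕ, q.Prime → q ∣ Nat.card G → ∀ Q : Sylow q G, Subgroup.normalizer ((Q : Subgroup G) : Set G) = Q) : ∃ q : ℕ, q.Prime ∧ IsPGroup q G := by
  suffices key : ∀ n : ℕ, ∀ (X : Type u_1) [Group X] [Finite X], Nat.card X = n →
      (∀ q : ℕ, q.Prime → q ∣ Nat.card X → ∀ Q : Sylow q X, Subgroup.normalizer ((Q : Subgroup X) : Set X) = Q) →
      ∃ q : ℕ, q.Prime ∧ IsPGroup q X from key _ G rfl h
  intro n
  induction n using Nat.strong_induction_on with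
  | _ n ih =>
  intro X _ _ hn hX
  rcases subsingleton_or_nontrivial X with hss | hnt
  · exact ⟨2, Nat.prime_two, fun x => ⟨0, Subsingleton.elim _ _⟩⟩
  by_cases hs : IsSimpleGroup X
  · by_cases h5 : ∃ q : ℕ, q.Prime ∧ q ∣ Nat.card X ∧ 5 ≤ q
    · obtain ⟨q, hq, hqd, hq5⟩ := h5
      haveI := Fact.mk hq
      obtain ⟨Q⟩ : Nonempty (Sylow q X) := inferInstance
      have hQ1 : (Q : Subgroup X) ≠ ⊥ := fun hb => Q.not_dvd_index (by rw [hb, Subgroup.index_bot]; exact hqd)
      obtain ⟨N, hN, hNi⟩ := Invol.exists_index_eq_of_control (Invol.KInf.isCharPFunctor_kInfLower q)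
        (fun Y _ _ hY => Invol.transferCtrl_kInfLower hq5 Y hY) Q hQ1 (fun g hg hgc => by
          rw [hX q hq hqd Q] at hg
          obtain ⟨k, hk⟩ := Q.isPGroup' ⟨g, hg⟩
          have h1 : orderOf g ∣ q ^ k := orderOf_dvd_of_pow_eq_one (by simpa using congrArg Subtype.val hk)
          have h2 : g = 1 := orderOf_eq_one_iff.mp (Nat.eq_one_of_dvd_coprimes (hgc.pow_right k) dvd_rfl h1)
          rw [h2]; exact one_mem _)
      rcases hN.eq_bot_or_eq_top with rfl | rfl
      · rw [Subgroup.index_bot] at hNi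
        exact ⟨q, hq, IsPGroup.of_card (n := 1) (by rw [hNi, pow_one])⟩
      · rw [Subgroup.index_top] at hNi
        exact absurd hNi.symm hq.ne_one
    push Not at h5
    have key : ∀ m : ℕ, m ≠ 0 → (∀ q : ℕ, q.Prime → q ∣ m → q < 5) → ∃ a b : ℕ, m = 2 ^ a * 3 ^ b := by
      intro m
      induction m using Nat.recOnMul with
      | zero => exact fun h => absurd rfl h
      | one => exact fun _ _ => ⟨0, 0, rfl⟩
      | prime q hq =>
        intro _ hq5
        have := hq5 q hq dvd_rfl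
        have := hq.two_le
        interval_cases q
        · exact ⟨1, 0, rfl⟩
        · exact ⟨0, 1, rfl⟩
        · exact absurd hq (by norm_num)
      | mul a b iha ihb =>
        intro hab h'
        obtain ⟨a₁, b₁, rfl⟩ := iha (left_ne_zero_of_mul hab) fun q hq hd => h' q hq (hd.mul_right _)
        obtain ⟨a₂, b₂, rfl⟩ := ihb (right_ne_zero_of_mul hab) fun q hq hd => h' q hq (hd.mul_left _)
        exact ⟨a₁ + a₂, b₁ + b₂, by rw [pow_add, pow_add]; ring⟩
    obtain ⟨a, b, hab⟩ := key _ Nat.card_pos.ne' (fun q hq hd => h5 q hq hd)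
    haveI := Cfsg.Agent.S0144.result 2 3 a b Nat.prime_two Nat.prime_three hab
    haveI : IsMulCommutative X := ⟨⟨fun x y => IsSimpleGroup.comm_iff_isSolvable.mpr inferInstance x y⟩⟩
    let _ : CommGroup X := { (inferInstance : Group X) with mul_comm := fun x y => Std.Commutative.comm x y }
    haveI := Fact.mk (IsSimpleGroup.prime_card (α := X))
    exact ⟨Nat.card X, IsSimpleGroup.prime_card, IsPGroup.of_card (n := 1) (pow_one _).symm⟩
  obtain ⟨N, hN, hN0, hN1⟩ : ∃ N : Subgroup X, N.Normal ∧ N ≠ ⊥ ∧ N ≠ ⊤ := by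
    by_contra hc
    push Not at hc
    exact hs ⟨fun H hH => or_iff_not_imp_left.mpr (hc H hH)⟩
  haveI := hN
  set f := QuotientGroup.mk' N with hf
  have hfs : Function.Surjective f := QuotientGroup.mk'_surjective N
  have hquot : ∀ q : ℕ, q.Prime → q ∣ Nat.card (X ⧸ N) → ∀ R : Sylow q (X ⧸ N),
      Subgroup.normalizer ((R : Subgroup (X ⧸ N)) : Set (X ⧸ N)) = R := by
    intro q hq hqd R
    haveI := Fact.mk hq
    obtain ⟨Q, rfl⟩ := Sylow.mapSurjective_surjective hfs q R
    refine le_antisymm ?_ Subgroup.le_normalizer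
    intro y hy
    obtain ⟨g, rfl⟩ := hfs y
    change f g ∈ (Q : Subgroup X).map f
    change f g ∈ Subgroup.normalizer (((Q : Subgroup X).map f : Subgroup (X ⧸ N)) : Set (X ⧸ N)) at hy
    set M := ((Q : Subgroup X).map f).comap f with hM
    have hQM : (Q : Subgroup X) ≤ M := Subgroup.le_comap_map _ _
    have hg : ∀ x ∈ M, g * x * g⁻¹ ∈ M := fun x hx => by
      show f (g * x * g⁻¹) ∈ (Q : Subgroup X).map f
      rw [map_mul, map_mul, map_inv]
      exact (Subgroup.mem_normalizer_iff.mp hy (f x)).mp hx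
    have hs' : Cfsg.Agent.Grp.IsSylowIn q (Q : Subgroup X) M := ⟨hQM, Q.isPGroup', fun hd =>
      Q.not_dvd_index (hd.trans (Subgroup.relIndex_dvd_index_of_le hQM))⟩
    have hgM : MulAut.conj g • M = M := by
      rw [← Cfsg.Agent.Grp.mem_normalizer_iff_smul]
      exact Invol.mem_normalizer_of_forall_mem hg
    obtain ⟨m, hm, hme⟩ := (hs'.smul hgM).conj hs'
    have h1 : m * g ∈ Subgroup.normalizer ((Q : Subgroup X) : Set X) := by
      rw [Cfsg.Agent.Grp.mem_normalizer_iff_smul, map_mul, mul_smul]; exact hme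
    rw [hX q hq (hqd.trans (Subgroup.card_quotient_dvd_card N)) Q] at h1
    have h2 : g ∈ M := by simpa using M.mul_mem (M.inv_mem hm) (hQM h1)
    exact h2
  obtain ⟨r, hr, hrg⟩ := ih _ (hn ▸ Cfsg.Agent.Grp.card_quotient_lt hN0) (X ⧸ N) rfl hquot
  refine ⟨r, hr, ?_⟩
  haveI := Fact.mk hr
  obtain ⟨k, hk⟩ := IsPGroup.iff_card.mp hrg
  obtain ⟨m, hm⟩ : ∃ m, Nat.card N = r ^ m := by
    refine ⟨_, Nat.eq_prime_pow_of_unique_prime_dvd Nat.card_pos.ne' fun {s} hs hsd => ?_⟩
    by_contra hsr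
    haveI := Fact.mk hs
    obtain ⟨S⟩ : Nonempty (Sylow s X) := inferInstance
    have hSN : (S : Subgroup X) ≤ N := by
      intro x hx
      obtain ⟨j, hj⟩ := S.isPGroup' ⟨x, hx⟩
      have h1 : orderOf (f x) ∣ s ^ j := (orderOf_map_dvd f x).trans
        (orderOf_dvd_of_pow_eq_one (by simpa using congrArg Subtype.val hj))
      have h2 : orderOf (f x) ∣ r ^ k := hk ▸ orderOf_dvd_natCard _
      exact (QuotientGroup.eq_one_iff x).mp (orderOf_eq_one_iff.mp (Nat.eq_one_of_dvd_coprimes
        (((Nat.coprime_primes hs hr).mpr hsr).pow j k) h1 h2))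
    refine hN1 (eq_top_iff.mpr fun g _ => ?_)
    obtain ⟨c, hc, y, hy, rfl⟩ := Invol.exists_mul_mem_normalizer (p := s) (K := N) (X := (S : Subgroup X))
      ⟨hSN, S.isPGroup', fun hd => S.not_dvd_index (hd.trans (Subgroup.relIndex_dvd_index_of_le hSN))⟩ g
    rw [hX s hs (hsd.trans N.card_subgroup_dvd_card) S] at hy
    exact N.mul_mem hc (hSN hy)
  refine IsPGroup.of_card (n := m + k) ?_
  rw [← N.index_mul_card, Subgroup.index_eq_card, hk, hm, pow_add, mul_comm]

end Cfsg.Agent.S1992
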