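import Cfsg.Statements.S1993
import Cfsg.Agent.Lib.Invol.PStableTransport
import Cfsg.Agent.Lib.Invol.FusionTheorem
import Cfsg.Agent.Lib.Invol.KInfTransfer
-- import your own Cfsg.Agent.* helpers here

set_option autoImplicit false
universe u
open Cfsg

namespace Cfsg.Agent.S1993

/-- Let p be a prime, G a finite group with Sylow p-subgroup S, and K the upper K-infinity subgroup of S. If p ≥ 5 then S ∩ G' = S ∩ (N_G(K))'; and if p is odd and every section of G is p-stable in the normalizer form, then K controls strong fusion in G. -/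
theorem result {G : Type u} [Group G] [Finite G] {p : ℕ} [Fact p.Prime] (S : Sylow p G) : (5 ≤ p → (S : Subgroup G) ⊓ commutator G = (S : Subgroup G) ⊓ ⁅Subgroup.normalizer ((Cfsg.inducedFunctor Cfsg.kInfUpper (S : Subgroup G) : Subgroup G) : Set G), Subgroup.normalizer ((Cfsg.inducedFunctor Cfsg.kInfUpper (S : Subgroup G) : Subgroup G) : Set G)⁆) ∧ (p ≠ 2 → (∀ (K R : Subgroup G) [hR : (R.subgroupOf K).Normal], Cfsg.IsNormalizerPStable p (↥K ⧸ R.subgroupOf K)) → Cfsg.ControlsStrongFusion p (Cfsg.inducedFunctor Cfsg.kInfUpper (S : Subgroup G))) := by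
  refine ⟨fun hp5 => ?_, fun _ hst => ?_⟩
  · exact Invol.inf_commutator_eq_of_transferCtrl
      (Invol.transferCtrl_kInfUpper hp5 (G := G) G (Invol.IsSectionOf.refl G)) S
  have h𝓦 : ∀ W ∈ ({fun Q [Group Q] => Cfsg.kInfUpper Q} : Set (∀ (Q : Type u) [Group Q], Subgroup Q)),
      Cfsg.IsCharPFunctor.{u} p W := by rintro _ rfl; exact Invol.KInf.isCharPFunctor_kInfUpper p
  refine Invol.controlsStrongFusion_of_fusCtrl h𝓦 rfl ?_ S
  refine Invol.fusCtrl_of_local h𝓦 ⟨_, rfl⟩ (G := G) (fun X _ _ hX hC T A h _ hhA => ?_) G (Invol.IsSectionOf.refl G)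
  refine Invol.chn_step ⟨_, ⟨_, rfl, rfl⟩, ?_⟩ hhA
  rw [Subgroup.normalizer_eq_top_iff.mpr (Invol.kInf_normal_of_stable hst hX hC T).2]
  exact Subgroup.mem_top h

end Cfsg.Agent.S1993
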