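import Cfsg.Statements.S1994
import Cfsg.Agent.Lib.Invol.FusionTheorem
import Cfsg.Agent.Lib.Grp.PSolvable
import Cfsg.Agent.Lib.Grp.Frattini
-- import your own Cfsg.Agent.* helpers here

set_option autoImplicit false
universe u
open Cfsg

namespace Cfsg.Agent.S1994

/-- Let p be a prime, G a finite group and 𝓦 a set of isomorphism-invariant p-group functors (each assigns to every group Q a subgroup W(Q), nontrivial whenever Q is a nontrivial finite p-group, with every isomorphism from a finite p-group Q onto a group R carrying W(Q) onto W(R)). If the conjugacy functors induced by 𝓦 control strong fusion in every section G* = K/R of G with C_{G*}(O_p(G*)) ≤ O_p(G*), then they control strong fusion in G. -/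
theorem result {G : Type u} [Group G] [Finite G] {p : ℕ} [Fact p.Prime] (𝓦 : Set (∀ (Q : Type u) [Group Q], Subgroup Q)) (h𝓦 : ∀ W ∈ 𝓦, Cfsg.IsCharPFunctor.{u} p W) (hloc : ∀ (K R : Subgroup G) [hR : (R.subgroupOf K).Normal], Subgroup.centralizer ((Cfsg.pCore p (↥K ⧸ R.subgroupOf K) : Subgroup (↥K ⧸ R.subgroupOf K)) : Set (↥K ⧸ R.subgroupOf K)) ≤ Cfsg.pCore p (↥K ⧸ R.subgroupOf K) → Cfsg.FamilyControlsStrongFusionIn p ((fun W => Cfsg.inducedFunctor (G := (↥K ⧸ R.subgroupOf K)) W) '' 𝓦) ⊤) : Cfsg.FamilyControlsStrongFusionIn p ((fun W => Cfsg.inducedFunctor (G := G) W) '' 𝓦) ⊤ := by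
  refine (Invol.familyControlsStrongFusionIn_iff h𝓦).mpr ?_
  have hloc' : ∀ (X : Type u) [Group X] [Finite X], Invol.IsSectionOf X G →
      Subgroup.centralizer (Cfsg.pCore p X : Set X) ≤ Cfsg.pCore p X → Invol.FusCtrl p 𝓦 X :=
    fun X _ _ hX hC => Invol.fusCtrl_of_sections h𝓦 (G := G)
      (fun K R _ hC' => (Invol.familyControlsStrongFusionIn_iff h𝓦).mp (hloc K R hC')) X hX hC
  by_cases hne : 𝓦.Nonempty
  · exact Invol.fusCtrl_of_local h𝓦 hne (G := G) hloc' G (Invol.IsSectionOf.refl G)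
  rw [Set.not_nonempty_iff_eq_empty] at hne
  subst hne
  have hfix : ∀ (X : Type u) [Group X] (S : Subgroup X) (A : Set X) (g : X),
      Invol.Chn (Invol.ind (∅ : Set (∀ (Q : Type u) [Group Q], Subgroup Q)) X) S A g →
        ∀ a ∈ A, g * a * g⁻¹ = a := by
    rintro X _ S A g ⟨c, hc, he⟩ a ha
    rw [← he a ha]
    cases hc with
    | one => simp
    | step _ hx _ => obtain ⟨_, ⟨_, hW, _⟩, _⟩ := hx; exact absurd hW (Set.notMem_empty _)
  let W₀ : ∀ (Q : Type u) [Group Q], Subgroup Q := fun _ _ => ⊤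
  have hW₀ : Cfsg.IsCharPFunctor.{u} p W₀ :=
    ⟨fun Q _ _ _ hQ h => bot_ne_top h.symm,
      fun Q R _ _ _ _ φ => Subgroup.map_top_of_surjective φ.toMonoidHom φ.surjective⟩
  have hW : ∀ W ∈ ({W₀} : Set (∀ (Q : Type u) [Group Q], Subgroup Q)),
      Cfsg.IsCharPFunctor.{u} p W := by rintro _ rfl; exact hW₀
  have hctl := Invol.fusCtrl_of_local hW ⟨W₀, rfl⟩ (G := G) (fun X _ _ hX hC S A g hA hgA =>
    Invol.chn_of_fixed (hfix X _ A g (hloc' X hX hC S A g hA hgA))) G (Invol.IsSectionOf.refl G)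
  intro P A g hA hgA
  refine Invol.chn_of_fixed fun a ha => ?_
  set N := Subgroup.normalizer ((P : Subgroup G) : Set G) with hN
  obtain ⟨c, hc, hce⟩ := hctl P A g hA hgA
  have hcN : c ∈ N := by
    clear hce
    induction hc with
    | one => exact one_mem _
    | step _ hx _ ih =>
      obtain ⟨_, ⟨W', hW', rfl⟩, hxN⟩ := hx
      rw [Set.mem_singleton_iff] at hW'
      subst hW'
      refine mul_mem ?_ ih
      have hWP : Cfsg.inducedFunctor W₀ (P : Subgroup G) = (P : Subgroup G) := by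
        show (⊤ : Subgroup (P : Subgroup G)).map _ = _
        rw [← MonoidHom.range_eq_map, Subgroup.range_subtype]
      change _ ∈ Subgroup.normalizer ((Cfsg.inducedFunctor W₀ (P : Subgroup G) : Subgroup G) : Set G) at hxN
      rwa [hWP] at hxN
  rw [← hce a ha]
  let L := Cfsg.pPrimeCore p N
  haveI : L.Normal := Cfsg.Agent.Grp.pPrimeCore_isNormal
  let f := QuotientGroup.mk' L
  have hf : Function.Surjective f := QuotientGroup.mk'_surjective L
  set T := (P.subtype (Subgroup.le_normalizer : (P : Subgroup G) ≤ N)).mapSurjective hf with hT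
  have hTn : (T : Subgroup (N ⧸ L)).Normal := by
    refine Subgroup.Normal.map ?_ f hf
    exact Subgroup.normal_subgroupOf_iff_le_normalizer_inf.mpr (by rw [inf_eq_left.mpr Subgroup.le_normalizer])
  have hC : Subgroup.centralizer (Cfsg.pCore p (N ⧸ L) : Set (N ⧸ L)) ≤ Cfsg.pCore p (N ⧸ L) := by
    refine Cfsg.Agent.Grp.centralizer_pCore_le_of_pSolvable ?_ Cfsg.Agent.Grp.pPrimeCore_quotient_eq_bot
    refine ⟨2, ![⊥, (T : Subgroup (N ⧸ L)), ⊤], rfl, rfl, ?_, ?_, ?_⟩
    · refine Fin.monotone_iff_le_succ.mpr fun i => ?_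
      fin_cases i <;> simp
    · intro i; fin_cases i
      exacts [inferInstanceAs (⊥ : Subgroup (N ⧸ L)).Normal, hTn, inferInstanceAs (⊤ : Subgroup (N ⧸ L)).Normal]
    · intro i; fin_cases i
      · obtain ⟨k, hk⟩ := IsPGroup.iff_card.mp T.isPGroup'
        exact Or.inl ⟨k, by simpa using hk⟩
      · exact Or.inr (by
          simpa [Nat.coprime_comm] using
            (Fact.out : p.Prime).coprime_iff_not_dvd.mpr T.not_dvd_index)
  let y : N := ⟨a, (Subgroup.le_normalizer : (P : Subgroup G) ≤ N) (hA ha)⟩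
  let x : N := ⟨c, hcN⟩
  have hya : c * a * c⁻¹ ∈ (P : Subgroup G) := by rw [hce a ha]; exact hgA a ha
  have hmem : ∀ w : N, (w : G) ∈ (P : Subgroup G) → f w ∈ (T : Subgroup (N ⧸ L)) := fun w hw => ⟨w, hw, rfl⟩
  have h1 := hfix (N ⧸ L) _ {f y} (f x) (hloc' (N ⧸ L)
    ((Invol.IsSectionOf.of_surjective f hf).trans (Invol.IsSectionOf.of_subgroup N)) hC T {f y} (f x)
    (Set.singleton_subset_iff.mpr (hmem y (hA ha))) (by
      rintro _ rfl
      rw [← map_mul, ← map_inv, ← map_mul]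
      exact hmem (x * y * x⁻¹) hya)) (f y) rfl
  rw [← map_mul, ← map_inv, ← map_mul] at h1
  have h2 : (x * y * x⁻¹) * y⁻¹ ∈ L := by
    refine (QuotientGroup.eq_one_iff _).mp ?_
    show f _ = 1
    rw [map_mul, h1, map_inv, mul_inv_cancel]
  refine mul_inv_eq_one.mp (Invol.eq_one_of_coprime_of_mem P.isPGroup'
    ((P : Subgroup G).mul_mem hya (inv_mem (hA ha))) ?_)
  have h3 := (Cfsg.Agent.Grp.pPrimeCore_coprime (p := p) (G := N)).coprime_dvd_left
    (Subgroup.orderOf_dvd_natCard L h2)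
  rw [← Subgroup.orderOf_coe] at h3
  exact h3

end Cfsg.Agent.S1994
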