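import Cfsg.Statements.S1995
import Cfsg.Agent.Lib.Invol.TransferTransport
import Cfsg.Agent.Lib.Grp.PSolvable
import Cfsg.Agent.Lib.Grp.Frattini
-- import your own Cfsg.Agent.* helpers here

set_option autoImplicit false
universe u
open Cfsg

namespace Cfsg.Agent.S1995

/-- Let p be a prime, G a finite group and 𝓦 a set of isomorphism-invariant p-group functors (W assigns to every group Q a subgroup W(Q), nontrivial whenever Q is a nontrivial finite p-group, and every isomorphism from a finite p-group Q onto a group R carries W(Q) onto W(R)). If the conjugacy functors induced by 𝓦 control transfer in every section G* = K/R of G with C_{G*}(O_p(G*)) ≤ O_p(G*), then they control transfer in G: S ∩ G' is generated by the subgroups S ∩ (N_G(W(S)))', W ∈ 𝓦, for a Sylow p-subgroup S. -/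
theorem result {G : Type u} [Group G] [Finite G] {p : ℕ} [Fact p.Prime] (𝓦 : Set (∀ (Q : Type u) [Group Q], Subgroup Q)) (h𝓦 : ∀ W ∈ 𝓦, Cfsg.IsCharPFunctor.{u} p W) (hloc : ∀ (K R : Subgroup G) [hR : (R.subgroupOf K).Normal], Subgroup.centralizer ((Cfsg.pCore p (↥K ⧸ R.subgroupOf K) : Subgroup (↥K ⧸ R.subgroupOf K)) : Set (↥K ⧸ R.subgroupOf K)) ≤ Cfsg.pCore p (↥K ⧸ R.subgroupOf K) → Cfsg.FamilyControlsTransferIn p ((fun W => Cfsg.inducedFunctor (G := (↥K ⧸ R.subgroupOf K)) W) '' 𝓦) ⊤) : Cfsg.FamilyControlsTransferIn p ((fun W => Cfsg.inducedFunctor (G := G) W) '' 𝓦) ⊤ := by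
  have hloc' : ∀ (X : Type u) [Group X] [Finite X], Invol.IsSectionOf X G →
      Subgroup.centralizer (Cfsg.pCore p X : Set X) ≤ Cfsg.pCore p X → Invol.TransferCtrl p 𝓦 X := by
    intro X _ _ hX hC
    obtain ⟨K, R, hR, ⟨e⟩⟩ := hX.exists_quotient
    exact Invol.transferCtrl_of_mulEquiv h𝓦 e ((Invol.familyControlsTransferIn_iff h𝓦).mp
      (hloc K R (Invol.centralizer_pCore_transport e hC)))
  refine (Invol.familyControlsTransferIn_iff h𝓦).mpr ?_
  by_cases hne : 𝓦.Nonempty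
  · exact Invol.transferCtrl_of_local h𝓦 hne (G := G) (fun X _ _ hX hC S =>
      (inf_le_inf_right _ (Grp.pCore_le_sylow S)).trans (hloc' X hX hC S)) G (Invol.IsSectionOf.refl G)
  have hemp : ∀ (X : Type u) [Group X] (S : Subgroup X), Invol.Foc (Invol.ind 𝓦 X) S = ⊥ := by
    intro X _ S
    rw [Set.not_nonempty_iff_eq_empty] at hne
    simp [Invol.Foc, Invol.ind, hne]
  let W₀ : ∀ (Q : Type u) [Group Q], Subgroup Q := fun _ _ => ⊤
  have hW₀ : Cfsg.IsCharPFunctor.{u} p W₀ :=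
    ⟨fun Q _ _ _ hQ h => bot_ne_top h.symm,
      fun Q R _ _ _ _ φ => Subgroup.map_top_of_surjective φ.toMonoidHom φ.surjective⟩
  have hW : ∀ W ∈ ({W₀} : Set (∀ (Q : Type u) [Group Q], Subgroup Q)),
      Cfsg.IsCharPFunctor.{u} p W := by rintro _ rfl; exact hW₀
  have hctl := Invol.transferCtrl_of_local hW ⟨W₀, rfl⟩ (G := G) (fun X _ _ hX hC S =>
      ((inf_le_inf_right _ (Grp.pCore_le_sylow S)).trans
        ((hloc' X hX hC S).trans_eq (hemp X _))).trans bot_le) G (Invol.IsSectionOf.refl G)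
  intro S x hx
  rw [hemp]
  have h1 : x ∈ (S : Subgroup G) ⊓ _ := Invol.foc_singleton W₀ (S : Subgroup G) ▸ hctl S hx
  have hWS : Cfsg.inducedFunctor W₀ (S : Subgroup G) = (S : Subgroup G) := by
    show (⊤ : Subgroup (S : Subgroup G)).map _ = _
    rw [← MonoidHom.range_eq_map, Subgroup.range_subtype]
  rw [hWS] at h1
  set N := Subgroup.normalizer ((S : Subgroup G) : Set G) with hN
  let L := Cfsg.pPrimeCore p N
  haveI : L.Normal := Grp.pPrimeCore_isNormal
  let f := QuotientGroup.mk' L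
  have hf : Function.Surjective f := QuotientGroup.mk'_surjective L
  set T := (S.subtype (Subgroup.le_normalizer : (S : Subgroup G) ≤ N)).mapSurjective hf with hT
  have hTn : (T : Subgroup (N ⧸ L)).Normal := by
    refine Subgroup.Normal.map ?_ f hf
    exact Subgroup.normal_subgroupOf_iff_le_normalizer_inf.mpr (by rw [inf_eq_left.mpr Subgroup.le_normalizer])
  have hC : Subgroup.centralizer (Cfsg.pCore p (N ⧸ L) : Set (N ⧸ L)) ≤ Cfsg.pCore p (N ⧸ L) := by
    refine Grp.centralizer_pCore_le_of_pSolvable ?_ Grp.pPrimeCore_quotient_eq_bot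
    refine ⟨2, ![⊥, (T : Subgroup (N ⧸ L)), ⊤], rfl, rfl, ?_, ?_, ?_⟩
    · refine Fin.monotone_iff_le_succ.mpr fun i => ?_
      fin_cases i <;> simp
    · intro i; fin_cases i
      exacts [inferInstanceAs (⊥ : Subgroup (N ⧸ L)).Normal, hTn, inferInstanceAs (⊤ : Subgroup (N ⧸ L)).Normal]
    · intro i; fin_cases i
      · obtain ⟨k, hk⟩ := IsPGroup.iff_card.mp T.isPGroup'
        exact Or.inl ⟨k, by simpa using hk⟩
      · exact Or.inr (by
          simpa [Nat.coprime_comm] using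
            (Fact.out : p.Prime).coprime_iff_not_dvd.mpr T.not_dvd_index)
  have h2 := hloc' (N ⧸ L) ((Invol.IsSectionOf.of_surjective f hf).trans (Invol.IsSectionOf.of_subgroup N)) hC T
  rw [hemp] at h2
  obtain ⟨hxS, hxN⟩ := h1
  let y : N := ⟨x, Subgroup.le_normalizer hxS⟩
  have hy1 : y ∈ ⁅(⊤ : Subgroup N), (⊤ : Subgroup N)⁆ := by
    have h3 : x ∈ (⁅(⊤ : Subgroup N), (⊤ : Subgroup N)⁆).map N.subtype := by
      rw [Subgroup.map_commutator, ← MonoidHom.range_eq_map, Subgroup.range_subtype]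
      exact hxN
    obtain ⟨z, hz, hzx⟩ := h3
    rwa [show y = z from Subtype.ext hzx.symm]
  have hy2 : f y ∈ (T : Subgroup (N ⧸ L)) ⊓ ⁅(⊤ : Subgroup (N ⧸ L)), ⊤⁆ := by
    refine ⟨⟨y, hxS, rfl⟩, ?_⟩
    rw [← Subgroup.map_top_of_surjective f hf, ← Subgroup.map_commutator]
    exact ⟨y, hy1, rfl⟩
  have hy3 : y ∈ L := (QuotientGroup.eq_one_iff y).mp (Subgroup.mem_bot.mp (h2 hy2))
  obtain ⟨k, hk⟩ := S.isPGroup' ⟨x, hxS⟩
  have ho1 : orderOf y ∣ p ^ k := orderOf_dvd_of_pow_eq_one (Subtype.ext (by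
    simpa using congrArg Subtype.val hk))
  have ho2 : orderOf y ∣ Nat.card L :=
    (Subgroup.orderOf_mk (H := L) y hy3) ▸ orderOf_dvd_natCard (⟨y, hy3⟩ : L)
  have ho : orderOf y = 1 := Nat.eq_one_of_dvd_coprimes
    ((Grp.pPrimeCore_coprime (p := p) (G := N)).symm.pow_left k) ho1 ho2
  exact Subgroup.mem_bot.mpr (congrArg Subtype.val (orderOf_eq_one_iff.mp ho))

end Cfsg.Agent.S1995
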