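import Cfsg.Statements.S1998
import Cfsg.Agent.Lib.Invol.TransferTransport
-- import your own Cfsg.Agent.* helpers here

set_option autoImplicit false
universe u
open Cfsg

namespace Cfsg.Agent.S1998

/-- Let p be a prime, G a finite group with Sylow p-subgroup S, and 𝓦 a nonempty set of isomorphism-invariant p-group functors (W assigns to every group Q a subgroup W(Q), nontrivial whenever Q is a nontrivial finite p-group, and every isomorphism from a finite p-group Q onto a group R carries W(Q) onto W(R)). Suppose the induced conjugacy functors control transfer in every section of G other than G itself, but not in G. Let T be the subgroup generated by the S ∩ (N_G(W(S)))', W ∈ 𝓦, and M = N_G(T ∩ O_p(G)). Then: C_G(O_p(G)) ≤ O_p(G); M is a proper subgroup of G containing every proper subgroup of G that contains S (the unique maximal subgroup over S); [O_p(G), M] ≤ O_p(G) ∩ M' ≤ O_p(G) ∩ T; and every element u of S outside O_p(G) satisfies [X, u,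 …, u] ≰ Y with p − 1 entries u, for some chief factor X/Y of G with X ≤ O_p(G). -/
theorem result {G : Type u} [Group G] [Finite G] {p : ℕ} [Fact p.Prime] (S : Sylow p G) (𝓦 : Set (∀ (Q : Type u) [Group Q], Subgroup Q)) (h𝓦 : ∀ W ∈ 𝓦, Cfsg.IsCharPFunctor.{u} p W) (hne : 𝓦.Nonempty) (hsec : ∀ (K R : Subgroup G) [hR : (R.subgroupOf K).Normal], (K = ⊤ → R ≠ ⊥) → Cfsg.FamilyControlsTransferIn p ((fun W => Cfsg.inducedFunctor (G := (↥K ⧸ R.subgroupOf K)) W) '' 𝓦) ⊤) (hG : ¬ Cfsg.FamilyControlsTransferIn p ((fun W => Cfsg.inducedFunctor (G := G) W) '' 𝓦) ⊤) (T M : Subgroup G) (hT : T = (⨆ W ∈ 𝓦, (S : Subgroup G) ⊓ ⁅Subgroup.normalizer ((Cfsg.inducedFunctor (G := G) W (S : Subgroup G) : Subgroup G) : Set G), Subgroup.normalizer ((Cfsg.inducedFunctor (G := G) W (S : Subgroup G) : Subgroup G) : Set G)⁆)) (hM : M = Subgroup.normalizer ((T ⊓ Cfsg.pCore p G : Subgroup G) : Set G)) : Subgroup.centralizer ((Cfsg.pCore p G : Subgroup G) : Set G) ≤ Cfsg.pCore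 p G ∧ (M ≠ ⊤ ∧ ∀ H : Subgroup G, (S : Subgroup G) ≤ H → H ≠ ⊤ → H ≤ M) ∧ (⁅Cfsg.pCore p G, M⁆ ≤ Cfsg.pCore p G ⊓ ⁅M, M⁆ ∧ Cfsg.pCore p G ⊓ ⁅M, M⁆ ≤ Cfsg.pCore p G ⊓ T) ∧ ∀ u : G, u ∈ (S : Subgroup G) → u ∉ Cfsg.pCore p G → ∃ U V : Subgroup G, Cfsg.IsChiefFactor U V ∧ U ≤ Cfsg.pCore p G ∧ ¬ Cfsg.iterCommutator U (Subgroup.zpowers u) (p - 1) ≤ V := by
  have hsub : ∀ H : Subgroup G, H ≠ ⊤ → Invol.TransferCtrl p 𝓦 H := by
    intro H hH
    haveI : ((⊥ : Subgroup G).subgroupOf H).Normal := by rw [Subgroup.bot_subgroupOf]; infer_instance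
    exact Invol.transferCtrl_of_mulEquiv h𝓦
      ((QuotientGroup.quotientMulEquivOfEq (Subgroup.bot_subgroupOf H)).trans QuotientGroup.quotientBot)
      ((Invol.familyControlsTransferIn_iff h𝓦).mp (hsec H ⊥ fun h => absurd h hH))
  have hquot : ∀ (R : Subgroup G) [R.Normal], R ≠ ⊥ → Invol.TransferCtrl p 𝓦 (G ⧸ R) := by
    intro R _ hR
    haveI : (R.subgroupOf (⊤ : Subgroup G)).Normal := inferInstance
    exact Invol.transferCtrl_of_mulEquiv h𝓦
      (QuotientGroup.congr (R.subgroupOf ⊤) R Subgroup.topEquiv (by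
        ext x
        constructor
        · rintro ⟨y, hy, rfl⟩; exact hy
        · exact fun hx => ⟨⟨x, Subgroup.mem_top x⟩, hx, rfl⟩))
      ((Invol.familyControlsTransferIn_iff h𝓦).mp (hsec ⊤ R fun _ => hR))
  have hG' : ¬ Invol.TransferCtrl p 𝓦 G := fun h => hG ((Invol.familyControlsTransferIn_iff h𝓦).mpr h)
  have hTF : T = Invol.Foc (Invol.ind 𝓦 G) (S : Subgroup G) := by
    rw [hT]; simp only [Invol.Foc, Invol.ind, iSup_image]
  subst hTF
  obtain ⟨-, hC, hMne, hover⟩ := Invol.transfer_minimal h𝓦 hne hsub hquot hG' S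
  rw [← hM] at hMne hover
  have hT0S : Cfsg.pCore p G ≤ (S : Subgroup G) := Grp.pCore_le_sylow S
  have hSM : (S : Subgroup G) ≤ M := by
    intro s hs
    rw [hM]
    refine Invol.mem_normalizer_of_forall_mem fun x hx => ⟨?_, ?_⟩
    · exact (Subgroup.mem_normalizer_iff.mp (Invol.sylow_le_normalizer_foc h𝓦 hne S hs) x).mp hx.1
    · exact (Grp.pCore_isNormal (p := p) (G := G)).conj_mem x hx.2 s
  refine ⟨hC, ⟨hMne, fun H h1 h2 => (hover H h1 h2).1⟩, ⟨?_, ?_⟩, ?_⟩
  · exact le_inf (have : (Cfsg.pCore p G).Normal := Grp.pCore_isNormal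
      Subgroup.commutator_le_left _ _) (Subgroup.commutator_mono (hT0S.trans hSM) le_rfl)
  · exact le_inf inf_le_left ((inf_le_inf_right _ hT0S).trans
      (Invol.inf_commutator_le_foc_of_overgroup h𝓦 hsub S hSM hMne))
  · intro u hu hu'
    have h1 := Invol.not_mem_nilpSet_of_minimal h𝓦 hne hsub hquot hG' S hu hu'
    simp only [Invol.nilpSet, Set.mem_setOf_eq] at h1
    push Not at h1
    exact h1

end Cfsg.Agent.S1998
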