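import Cfsg.Statements.S1999
import Cfsg.Agent.Lib.Invol.NoOff.Local
import Cfsg.Agent.Lib.Invol.QdFusion
import Cfsg.Agent.Lib.Fus.SFourQd
-- import your own Cfsg.Agent.* helpers here

set_option autoImplicit false
open Cfsg

open scoped Pointwise commutatorElement

namespace Cfsg.Agent.S1999

/-- Let G be a finite group. The symmetric group of degree 4 is not involved in G if and only if, in every section K/R of G, the pair of conjugacy functors {Z, J_e} controls strong fusion (for the prime 2): here Z(P) is the centre and J_e(P) the subgroup generated by the elementary abelian subgroups of P of largest order, and control by the pair means that 2-fusion of tuples inside a Sylow 2-subgroup T of the section is generated, staying inside T, by conjugation inside N(Z(T)) and N(J_e(T)). -/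
theorem result {G : Type*} [Group G] [Finite G] : ¬ Cfsg.Involves (Equiv.Perm (Fin 4)) G ↔ ∀ (K R : Subgroup G) [hR : (R.subgroupOf K).Normal], Cfsg.FamilyControlsStrongFusionIn 2 ({fun P : Subgroup (↥K ⧸ R.subgroupOf K) => P ⊓ Subgroup.centralizer ((P : Subgroup (↥K ⧸ R.subgroupOf K)) : Set (↥K ⧸ R.subgroupOf K)), fun P : Subgroup (↥K ⧸ R.subgroupOf K) => Cfsg.thompsonSubgroupOf 2 P} : Set (Subgroup (↥K ⧸ R.subgroupOf K) → Subgroup (↥K ⧸ R.subgroupOf K))) ⊤ := by
  haveI : Fact (Nat.Prime 2) := ⟨Nat.prime_two⟩
  have himg : ∀ (X : Type _) [Group X],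
      ({fun P : Subgroup X => P ⊓ Subgroup.centralizer (P : Set X),
        fun P : Subgroup X => Cfsg.thompsonSubgroupOf 2 P} : Set (Subgroup X → Subgroup X)) =
      Invol.ind Invol.NoOff.zjFamily X := by
    intro X _
    unfold Invol.ind Invol.NoOff.zjFamily
    rw [Set.image_pair]
    congr 1
    exact funext fun P => (Invol.inducedFunctor_center P).symm
  constructor
  · intro hfree K R hR
    rw [himg, Invol.familyControlsStrongFusionIn_iff Invol.NoOff.zjFamily_char]
    refine Invol.fusCtrl_of_local Invol.NoOff.zjFamily_char ⟨_, Or.inl rfl⟩ (G := G)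
      (fun X _ _ hX hC => Invol.NoOff.fusCtrl_local hC (Block.SFour.noThree_of_sfourFree hC
        fun h => hfree ((Invol.isSectionOf_of_involves h).trans hX).involves)) _
      ((Invol.IsSectionOf.of_surjective _ (QuotientGroup.mk'_surjective _)).trans
        (Invol.IsSectionOf.of_subgroup K))
  · intro hctl hinv
    obtain ⟨e₀⟩ := Fus.exists_qd_two_equiv
    obtain ⟨K, R, hR, ⟨e⟩⟩ := hinv
    have h := hctl K R
    rw [himg] at h
    exact Invol.QdFusion.not_familyControlsStrongFusionIn (e₀.trans e.symm)
      Invol.NoOff.zjFamily_char h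

end Cfsg.Agent.S1999
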