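import Cfsg.Statements.S2000
import Cfsg.Agent.Lib.Invol.NoOff.Local
import Cfsg.Agent.Lib.Invol.QdFusion
import Cfsg.Agent.Lib.Invol.PStableTransport
import Cfsg.Agent.Lib.Grp.QuadraticGroup
import Cfsg.Agent.Lib.Fus.SFourQd
-- import your own Cfsg.Agent.* helpers here

set_option autoImplicit false
universe u
open Cfsg

open scoped Pointwise commutatorElement

namespace Cfsg.Agent.S2000

/-- Let p be a prime and G a finite group. Then Qd(p) (the natural semidirect product of an elementary abelian group of order p² by SL₂(p)) is not involved in G if and only if there is a set 𝓦 of isomorphism-invariant p-group functors (each nontrivial on nontrivial finite p-groups and carried onto W(R) by every isomorphism from a finite p-group Q onto R, hence with characteristic values on finite p-groups) whose induced conjugacy functors control strong fusion in every section of G. -/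
theorem result {G : Type u} [Group G] [Finite G] {p : ℕ} [Fact p.Prime] : ¬ Cfsg.Involves ↥(Cfsg.qd p) G ↔ ∃ 𝓦 : Set (∀ (Q : Type u) [Group Q], Subgroup Q), (∀ W ∈ 𝓦, Cfsg.IsCharPFunctor.{u} p W) ∧ ∀ (K R : Subgroup G) [hR : (R.subgroupOf K).Normal], Cfsg.FamilyControlsStrongFusionIn p ((fun W => Cfsg.inducedFunctor (G := (↥K ⧸ R.subgroupOf K)) W) '' 𝓦) ⊤ := by
  constructor
  · intro hfree
    have hsec : ∀ (X : Type u) [Group X] [Finite X], Invol.IsSectionOf X G →
        ¬ Cfsg.Involves ↥(Cfsg.qd p) X :=
      fun X _ _ hX h => hfree ((Invol.isSectionOf_of_involves h).trans hX).involves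
    by_cases hp : p = 2
    · subst hp
      refine ⟨Invol.NoOff.zjFamily, Invol.NoOff.zjFamily_char, fun K R hR => ?_⟩
      obtain ⟨e₀⟩ := Fus.exists_qd_two_equiv
      have hfree' : ¬ Cfsg.Involves (Equiv.Perm (Fin 4)) G := by
        rintro ⟨K', R', hR', ⟨e⟩⟩
        exact hfree ⟨K', R', hR', ⟨e.trans e₀.symm⟩⟩
      rw [← Invol.ind]
      rw [Invol.familyControlsStrongFusionIn_iff Invol.NoOff.zjFamily_char]
      refine Invol.fusCtrl_of_local Invol.NoOff.zjFamily_char ⟨_, Or.inl rfl⟩ (G := G)
        (fun X _ _ hX hC => Invol.NoOff.fusCtrl_local hC (Block.SFour.noThree_of_sfourFree hC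
          fun h => hfree' ((Invol.isSectionOf_of_involves h).trans hX).involves)) _
        ((Invol.IsSectionOf.of_surjective _ (QuotientGroup.mk'_surjective _)).trans
          (Invol.IsSectionOf.of_subgroup K))
    · have hst : ∀ (K' R' : Subgroup G) [(R'.subgroupOf K').Normal],
          Cfsg.IsNormalizerPStable p (↥K' ⧸ R'.subgroupOf K') := fun K' R' _ =>
        Grp.Quad.isNormalizerPStable_of_free hp (hsec _
          ((Invol.IsSectionOf.of_surjective _ (QuotientGroup.mk'_surjective _)).trans
            (Invol.IsSectionOf.of_subgroup K')))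
      have h𝓦 : ∀ W ∈ ({fun Q [Group Q] => Cfsg.kInfLower Q} : Set (∀ (Q : Type u) [Group Q], Subgroup Q)),
          Cfsg.IsCharPFunctor.{u} p W := by
        rintro _ rfl; exact Invol.KInf.isCharPFunctor_kInfLower p
      refine ⟨_, h𝓦, fun K R hR => ?_⟩
      rw [← Invol.ind]
      rw [Invol.familyControlsStrongFusionIn_iff h𝓦]
      refine Invol.fusCtrl_of_local h𝓦 ⟨_, rfl⟩ (G := G) (fun X _ _ hX hC S A h _ hhA => ?_) _
        ((Invol.IsSectionOf.of_surjective _ (QuotientGroup.mk'_surjective _)).trans
          (Invol.IsSectionOf.of_subgroup K))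
      refine Invol.chn_step ⟨_, ⟨_, rfl, rfl⟩, ?_⟩ hhA
      rw [Subgroup.normalizer_eq_top_iff.mpr (Invol.kInf_normal_of_stable hst hX hC S).1]
      exact Subgroup.mem_top h
  · rintro ⟨𝓦, h𝓦, hctl⟩ ⟨K, R, hR, ⟨e⟩⟩
    exact Invol.QdFusion.not_familyControlsStrongFusionIn e.symm h𝓦 (hctl K R)

end Cfsg.Agent.S2000
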