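import Cfsg.Statements.S2795
import Mathlib
import Cfsg.Agent.Lib.Grp.QdNotStable
-- import your own Cfsg.Agent.* helpers here

set_option autoImplicit false
open Cfsg

namespace Cfsg.Agent.S2795

/-- For an odd prime p and a finite group G, the group Qd(p) is not involved in G if and only if every section of G is p-stable in the normalizer form (for every p-subgroup P of the section and every g in its normalizer acting quadratically on P, the image of g in N(P)/C(P) lies in O_p(N(P)/C(P))). -/
theorem result {G : Type*} [Group G] [Finite G] {p : ℕ} [Fact p.Prime] (hp : p ≠ 2) : ¬ Cfsg.Involves ↥(Cfsg.qd p) G ↔ ∀ (K R : Subgroup G) [hR : (R.subgroupOf K).Normal], Cfsg.IsNormalizerPStable p (K ⧸ R.subgroupOf K) := by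
  constructor
  · intro hfree K R hR
    refine Cfsg.Agent.Grp.Quad.isNormalizerPStable_of_free hp fun h => hfree ?_
    obtain ⟨K', R', _, ⟨e⟩⟩ := h
    refine (Cfsg.Agent.Invol.IsSectionOf.trans ⟨K', e.toMonoidHom.comp (QuotientGroup.mk' _),
      e.surjective.comp (QuotientGroup.mk'_surjective _)⟩ ?_).involves
    exact (Cfsg.Agent.Invol.IsSectionOf.of_surjective _ (QuotientGroup.mk'_surjective (R.subgroupOf K))).trans
      (Cfsg.Agent.Invol.IsSectionOf.of_subgroup K)
  intro hst hinv
  obtain ⟨K, R, hR, ⟨e⟩⟩ := hinv
  have hX := hst K R (hR := hR)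
  open scoped commutatorElement in
  exact Cfsg.Agent.Grp.Quad.not_stable_of_equiv hp e.symm hX

end Cfsg.Agent.S2795
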