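import Cfsg.Prelude
import Cfsg.Agent.Lib.Fus.QdBasic
import Cfsg.Agent.Lib.Invol.Section
import Cfsg.Agent.S2795
-- import your own Cfsg.Agent.* helpers here

set_option autoImplicit false
open Cfsg

open scoped Pointwise commutatorElement

namespace Cfsg.Agent.S2004

/-- Let p be an odd prime and G a finite group such that SL₂(p) is not involved in N_G(P) for any nonidentity p-subgroup P of G. Then every section of G is p-stable in the normalizer form: in each section, whenever an element of the normalizer of a p-subgroup Q acts quadratically on Q, its image in N(Q)/C(Q) lies in O_p(N(Q)/C(Q)). -/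
theorem result {G : Type*} [Group G] [Finite G] {p : ℕ} [Fact p.Prime] (hp : p ≠ 2) (h : ∀ P : Subgroup G, IsPGroup p ↥P → P ≠ ⊥ → ¬ Cfsg.Involves (Matrix.SpecialLinearGroup (Fin 2) (ZMod p)) ↥(Subgroup.normalizer ((P : Subgroup G) : Set G))) : ∀ (K R : Subgroup G) [hR : (R.subgroupOf K).Normal], Cfsg.IsNormalizerPStable p (↥K ⧸ R.subgroupOf K) := by
  refine (Cfsg.Agent.S2795.result hp).mp fun hinv => ?_
  obtain ⟨K, R, hR, ⟨e⟩⟩ := hinv
  haveI := hR
  set f : ↥K →* ↥(Cfsg.qd p) := e.toMonoidHom.comp (QuotientGroup.mk' _) with hf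
  have hfs : Function.Surjective f := e.surjective.comp (QuotientGroup.mk'_surjective _)
  set b : ↥K →* Matrix.SpecialLinearGroup (Fin 2) (ZMod p) := (Fus.qdBlock p).comp f with hb
  have hbs : Function.Surjective b := Fus.qdBlock_surjective.comp hfs
  obtain ⟨Q⟩ : Nonempty (Sylow p ↥b.ker) := inferInstance
  set P₀ := (Q : Subgroup ↥b.ker).map b.ker.subtype with hP₀
  set P := P₀.map K.subtype with hP
  have hPne : P ≠ ⊥ := by
    rw [hP, Ne, Subgroup.map_eq_bot_iff_of_injective _ (Subgroup.subtype_injective _), hP₀,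
      Subgroup.map_eq_bot_iff_of_injective _ (Subgroup.subtype_injective _)]
    refine Q.ne_bot_of_dvd_card ?_
    let φ : ↥b.ker →* ↥(Fus.qdBlock p).ker := (f.comp b.ker.subtype).codRestrict _ fun x => x.2
    have hφ : Function.Surjective φ := fun ⟨y, hy⟩ => by
      obtain ⟨k, rfl⟩ := hfs y
      exact ⟨⟨k, hy⟩, rfl⟩
    refine dvd_trans ?_ (Subgroup.card_dvd_of_surjective φ hφ)
    have h1 : Fus.qdTrans p (Multiplicative.ofAdd ![1, 0]) ∈ (Fus.qdBlock p).ker := Fus.qdBlock_trans _
    refine dvd_trans (dvd_of_eq ?_) (Subgroup.orderOf_dvd_natCard _ h1)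
    rw [orderOf_injective _ Fus.qdTrans_injective]
    refine (orderOf_eq_prime ?_ fun h => ?_).symm
    · exact Multiplicative.toAdd.injective (by simp)
    · simpa using congrFun (congrArg Multiplicative.toAdd h) 0
  refine h P ((Q.isPGroup'.map _).map _) hPne ?_
  set N := Subgroup.normalizer (P : Set G)
  have hsub : (Subgroup.normalizer (P₀ : Set ↥K)).map K.subtype ≤ N := Subgroup.le_normalizer_map _
  set L := Subgroup.normalizer (P₀ : Set ↥K)
  let ι : ↥L →* ↥N := (K.subtype.comp L.subtype).codRestrict N fun x => hsub ⟨x, x.2, rfl⟩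
  have hι : Function.Injective ι := fun x y hxy => Subtype.ext (Subtype.ext (congrArg Subtype.val hxy :))
  refine Invol.IsSectionOf.involves ⟨ι.range,
    (b.comp L.subtype).comp (MonoidHom.ofInjective hι).symm.toMonoidHom, ?_⟩
  intro g
  obtain ⟨k, rfl⟩ := hbs g
  have hk : k ∈ ((L ⊔ b.ker : Subgroup ↥K) : Set ↥K) := by
    rw [Sylow.normalizer_sup_eq_top Q]; trivial
  rw [Subgroup.mul_normal L b.ker] at hk
  obtain ⟨l, hl, m, hm, rfl⟩ := hk
  refine ⟨MonoidHom.ofInjective hι ⟨l, hl⟩, ?_⟩
  show b ((L.subtype) ((MonoidHom.ofInjective hι).symm (MonoidHom.ofInjective hι ⟨l, hl⟩))) = b (l * m)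
  rw [MulEquiv.symm_apply_apply, map_mul, (MonoidHom.mem_ker.mp hm : b m = 1), mul_one]
  rfl

end Cfsg.Agent.S2004
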