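import Cfsg.Statements.S2005
import Cfsg.Agent.Lib.Invol.ThompsonReduction
-- import your own Cfsg.Agent.* helpers here

set_option autoImplicit false
universe u
open Cfsg

namespace Cfsg.Agent.S2005

/-- Thompson's normal p-complement criterion in functor form. Let p be a prime, G a finite group with Sylow p-subgroup S, and W an isomorphism-invariant p-group functor (W assigns to every group Q a subgroup W(Q), nontrivial whenever Q is a nontrivial finite p-group, and every isomorphism from a finite p-group Q onto a group R carries W(Q) onto W(R)). Suppose N_G(W(S)) has a normal p-complement, and that W(S*) is normal in G* whenever G* = K/R is a section of G with C_{G*}(O_p(G*)) ≤ O_p(G*) such that G*/O_p(G*) has a normal p-complement, and S* is a Sylow p-subgroup of G* that is a maximal subgroup of G*. Then G has a normal p-complement. -/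
theorem result {G : Type u} [Group G] [Finite G] {p : ℕ} [Fact p.Prime] (W : ∀ (Q : Type u) [Group Q], Subgroup Q) (hW : Cfsg.IsCharPFunctor.{u} p W) (S : Sylow p G) (hN : Cfsg.HasNormalPComplement p ↥(Subgroup.normalizer ((Cfsg.inducedFunctor (G := G) W (S : Subgroup G) : Subgroup G) : Set G))) (hloc : ∀ (K R : Subgroup G) [hR : (R.subgroupOf K).Normal], Subgroup.centralizer ((Cfsg.pCore p (↥K ⧸ R.subgroupOf K) : Subgroup (↥K ⧸ R.subgroupOf K)) : Set (↥K ⧸ R.subgroupOf K)) ≤ Cfsg.pCore p (↥K ⧸ R.subgroupOf K) → Cfsg.HasNormalPComplement p ((↥K ⧸ R.subgroupOf K) ⧸ Cfsg.pCore p (↥K ⧸ R.subgroupOf K)) → ∀ T : Sylow p (↥K ⧸ R.subgroupOf K), IsCoatom (T : Subgroup (↥K ⧸ R.subgroupOf K)) → (Cfsg.inducedFunctor (G := (↥K ⧸ R.subgroupOf K)) W ((T : Subgroup (↥K ⧸ R.subgroupOf K)))).Normal) : Cfsg.HasNormalPComplement p G := by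
  classical
  have hW' : ∀ _i : Unit, Cfsg.IsCharPFunctor.{u} p W := fun _ => hW
  have hNN : Invol.NormalizersNPC p (fun _ : Unit => W) G :=
    Invol.normalizersNPC_of_one hW' S fun _ => hN
  by_contra hG
  obtain ⟨X, _, _, hsec, hmin⟩ := Invol.exists_thompsonMinimal hW' hNN hG
  obtain ⟨K, R, hR, ⟨e⟩⟩ := hsec.exists_quotient
  obtain ⟨M, hM⟩ := hmin.data
  obtain ⟨T⟩ : Nonempty (Sylow p (↥K ⧸ R.subgroupOf K)) := inferInstance
  set T' := T.mapSurjective (f := e.toMonoidHom) e.surjective with hT'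
  have hT'e : (T' : Subgroup X) = (T : Subgroup (↥K ⧸ R.subgroupOf K)).map e.toMonoidHom := rfl
  have hmapP : (Cfsg.pCore p (↥K ⧸ R.subgroupOf K)).map e.toMonoidHom = Cfsg.pCore p X := by
    refine le_antisymm ?_ ?_
    · exact Grp.le_pCore (Grp.pCore_isNormal.map _ e.surjective) (Grp.pCore_isPGroup.map _)
    · rw [Subgroup.map_equiv_eq_comap_symm']
      exact Subgroup.map_le_iff_le_comap.mp
        (Grp.le_pCore (Grp.pCore_isNormal.map _ e.symm.surjective) (Grp.pCore_isPGroup.map _))
  have hcent : Subgroup.centralizer ((Cfsg.pCore p (↥K ⧸ R.subgroupOf K) : Subgroup _) : Set (↥K ⧸ R.subgroupOf K)) ≤ Cfsg.pCore p (↥K ⧸ R.subgroupOf K) := by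
    intro x hx
    have h1 : e x ∈ Cfsg.pCore p X := hmin.cent <| Subgroup.mem_centralizer_iff.mpr fun y hy => by
      obtain ⟨z, hz, rfl⟩ := hmapP.ge hy
      have h2 := Subgroup.mem_centralizer_iff.mp hx z hz
      change e z * e x = e x * e z
      rw [← map_mul, ← map_mul, h2]
    obtain ⟨z, hz, hze⟩ := hmapP.ge h1
    rwa [← e.injective hze]
  have hNPC : Cfsg.HasNormalPComplement p ((↥K ⧸ R.subgroupOf K) ⧸ Cfsg.pCore p (↥K ⧸ R.subgroupOf K)) := by
    have hPn : (Cfsg.pCore p X).Normal := Grp.pCore_isNormal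
    have hPn' : (Cfsg.pCore p (↥K ⧸ R.subgroupOf K)).Normal := Grp.pCore_isNormal
    rw [Transfer.hasNormalPComplement_congr (QuotientGroup.congr _ (Cfsg.pCore p X) e hmapP)]
    have hMn : M.Normal := hM.mn
    refine Transfer.hasNormalPComplement_iff_exists.mpr ⟨M.map (QuotientGroup.mk' (Cfsg.pCore p X)),
      hMn.map _ (QuotientGroup.mk'_surjective _), ?_, ?_⟩
    · intro hd
      obtain ⟨⟨_, m, hm, rfl⟩, hq⟩ := exists_prime_orderOf_dvd_card' (G := M.map (QuotientGroup.mk' (Cfsg.pCore p X))) p hd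
      obtain ⟨k, hk, hkP⟩ := hM.mid m hm
      rw [← Subgroup.orderOf_coe] at hq
      have h2 : p ∣ k := hq ▸ orderOf_dvd_of_pow_eq_one (x := QuotientGroup.mk' _ m) (by
        rw [← map_pow]; exact (QuotientGroup.eq_one_iff _).mpr hkP)
      exact (Fact.out : p.Prime).ne_one (hk.symm.eq_one_of_dvd h2)
    · rw [Subgroup.index_map_eq _ (QuotientGroup.mk'_surjective _) (by rw [QuotientGroup.ker_mk']; exact hM.le),
        Subgroup.index_eq_card]
      have hpg : IsPGroup p (X ⧸ M) := fun q => by
        induction q using QuotientGroup.induction_on with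
        | _ y =>
          obtain ⟨n, hn⟩ := hM.top y
          exact ⟨n, (QuotientGroup.eq_one_iff _).mpr hn⟩
      exact IsPGroup.iff_card.mp hpg
  have hcoatom : IsCoatom (T : Subgroup (↥K ⧸ R.subgroupOf K)) := by
    refine ⟨fun h => hmin.notNPC ?_, fun H hH => ?_⟩
    · have hpX : IsPGroup p X := fun x => by
        obtain ⟨y, rfl⟩ := e.surjective x
        obtain ⟨n, hn⟩ := T.isPGroup' ⟨y, h.ge (Subgroup.mem_top y)⟩
        have h2 : y ^ p ^ n = 1 := by simpa using congrArg Subtype.val hn
        exact ⟨n, by rw [← map_pow, h2, map_one]⟩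
      obtain ⟨n, hn⟩ := IsPGroup.iff_card.mp hpX
      refine Transfer.hasNormalPComplement_iff_exists.mpr ⟨⊥, inferInstance, ?_, n, ?_⟩
      · rw [Subgroup.card_bot]; exact (Fact.out : p.Prime).not_dvd_one
      · rw [Subgroup.index_bot, hn]
    · rcases hmin.maximal T' (H.map e.toMonoidHom) (hT'e ▸ Subgroup.map_mono hH.le) with h | h
      · exact absurd (Subgroup.map_injective e.injective (h.trans hT'e)).le hH.not_ge
      · exact Subgroup.map_injective (f := e.toMonoidHom) e.injective
          (h.trans (Subgroup.map_top_of_surjective e.toMonoidHom e.surjective).symm)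
  have hn := hloc K R hcent hNPC T hcoatom
  have h1 := hmin.norm () T'
  rw [hT'e, Invol.inducedFunctor_map hW T.isPGroup' e.toMonoidHom
    (fun x _ hx => e.injective (hx.trans (map_one _).symm))] at h1
  rw [Subgroup.normalizer_eq_top_iff.mpr (hn.map _ e.surjective)] at h1
  exact hcoatom.1 (Subgroup.map_injective (f := e.toMonoidHom) e.injective
    (h1.symm.trans (Subgroup.map_top_of_surjective e.toMonoidHom e.surjective).symm))

end Cfsg.Agent.S2005
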