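import Cfsg.Statements.S2006
import Cfsg.Agent.Lib.Invol.AbelianDegree
import Cfsg.Agent.Lib.Invol.Transport
-- import your own Cfsg.Agent.* helpers here

set_option autoImplicit false
universe u
open Cfsg

namespace Cfsg.Agent.S2006

/-- Let p be a prime, G a finite group with Sylow p-subgroup S, and W an isomorphism-invariant p-group functor (W assigns to every group Q a subgroup W(Q), nontrivial whenever Q is a nontrivial finite p-group, and every isomorphism from a finite p-group Q onto a group R carries W(Q) onto W(R)). Suppose N_G(W(S)) has a normal p-complement, and that whenever G* = K/R is a section of G with C_{G*}(O_p(G*)) ≤ O_p(G*) and S* is a Sylow p-subgroup of G* with W(S*) not normal in G*, there are an element g of S* outside O_p(G*) and a chief factor X/Y of G* with X ≤ O_p(G*) such that [X, g, …, g] ≤ Y with p − 1 entries g but [X, g] ≰ Y. Then G has a normal p-complement. -/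
theorem result {G : Type u} [Group G] [Finite G] {p : ℕ} [Fact p.Prime] (W : ∀ (Q : Type u) [Group Q], Subgroup Q) (hW : Cfsg.IsCharPFunctor.{u} p W) (S : Sylow p G) (hN : Cfsg.HasNormalPComplement p ↥(Subgroup.normalizer ((Cfsg.inducedFunctor (G := G) W (S : Subgroup G) : Subgroup G) : Set G))) (hloc : ∀ (K R : Subgroup G) [hR : (R.subgroupOf K).Normal], Subgroup.centralizer ((Cfsg.pCore p (↥K ⧸ R.subgroupOf K) : Subgroup (↥K ⧸ R.subgroupOf K)) : Set (↥K ⧸ R.subgroupOf K)) ≤ Cfsg.pCore p (↥K ⧸ R.subgroupOf K) → ∀ T : Sylow p (↥K ⧸ R.subgroupOf K), ¬ (Cfsg.inducedFunctor (G := (↥K ⧸ R.subgroupOf K)) W ((T : Subgroup (↥K ⧸ R.subgroupOf K)))).Normal → ∃ g : (↥K ⧸ R.subgroupOf K), g ∈ (T : Subgroup (↥K ⧸ R.subgroupOf K)) ∧ g ∉ Cfsg.pCore p (↥K ⧸ R.subgroupOf K) ∧ ∃ U V : Subgroup (↥K ⧸ R.subgroupOf K), Cfsg.IsChiefFactor U V ∧ U ≤ Cfsg.pCore p (↥K ⧸ R.subgroupOf K) ∧ Cfsg.iterCommutator U (Subgroup.zpowers g) (p - 1) ≤ V ∧ ¬ ⁅U, Subgroup.zpowers g⁆ ≤ V) : Cfsg.HasNormalPComplement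 p G := by
  classical
  have hW' : ∀ _i : Unit, Cfsg.IsCharPFunctor.{u} p W := fun _ => hW
  have hNN : Invol.NormalizersNPC p (fun _ : Unit => W) G :=
    Invol.normalizersNPC_of_one hW' S fun _ => hN
  by_contra hG
  obtain ⟨X, _, _, hsec, hmin⟩ := Invol.exists_thompsonMinimal hW' hNN hG
  obtain ⟨K, R, hR, ⟨e⟩⟩ := hsec.exists_quotient
  obtain ⟨M, hM⟩ := hmin.data
  set Q := ↥K ⧸ R.subgroupOf K
  have hd : Invol.IsPAbelData p (Cfsg.pCore p Q) (M.map e.symm.toMonoidHom) :=
    Invol.map_pCore_equiv (p := p) e.symm ▸ hM.map (f := e.symm.toMonoidHom) e.symm.surjective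
  obtain ⟨T⟩ : Nonempty (Sylow p Q) := inferInstance
  set T' := T.mapSurjective (f := e.toMonoidHom) e.surjective with hT'
  have hnn : ¬ (Cfsg.inducedFunctor (G := Q) W (T : Subgroup Q)).Normal := by
    intro hn
    have h1 := hmin.norm () T'
    have hT'e : (T' : Subgroup X) = (T : Subgroup Q).map e.toMonoidHom := rfl
    rw [hT'e, Invol.inducedFunctor_map hW T.isPGroup' e.toMonoidHom
      (fun x _ hx => e.injective (hx.trans (map_one _).symm)),
      Subgroup.normalizer_eq_top_iff.mpr (hn.map _ e.surjective)] at h1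
    exact hmin.notNPC (Invol.hasNormalPComplement_of_isPGroup
      (((T.isPGroup'.map e.toMonoidHom).of_equiv (MulEquiv.subgroupCongr h1.symm)).of_equiv Subgroup.topEquiv))
  obtain ⟨g, hgT, -, U, V, hUV, hUP, hgd, hgn⟩ :=
    hloc K R (Invol.centralizer_pCore_transport e hmin.cent) T hnn
  obtain ⟨hab, hexp⟩ := Invol.chief_elementary hUV (Grp.pCore_isPGroup.to_le hUP)
  obtain ⟨hlt, hUn, hVn, hminUV⟩ := hUV
  haveI := hVn
  set π := QuotientGroup.mk' V with hπ
  have hs : Function.Surjective π := QuotientGroup.mk'_surjective V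
  refine hgn ?_
  rw [← QuotientGroup.ker_mk' V, ← hπ, ← Subgroup.map_eq_bot_iff, Subgroup.map_commutator,
    Subgroup.commutator_eq_bot_iff_le_centralizer, Subgroup.le_centralizer_iff, MonoidHom.map_zpowers,
    Subgroup.zpowers_le]
  refine Invol.centralizes_minimal_of_degree (T.mapSurjective hs) (hd.map hs) (hUn.map _ hs)
    ((Grp.pCore_isPGroup.to_le hUP).map π) (fun N hN hNU => ?_) ?_ ?_ ⟨g, hgT, rfl⟩ ?_
  · have hUc : (U.map π).comap π = U :=
      Subgroup.comap_map_eq_self (by rw [hπ, QuotientGroup.ker_mk']; exact hlt.le)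
    rcases hminUV (N.comap π) (hN.comap π) (fun y hy => by
        show π y ∈ N
        rw [show π y = 1 from (QuotientGroup.eq_one_iff y).mpr hy]; exact one_mem _)
      ((Subgroup.comap_mono hNU).trans hUc.le) with h | h
    · left
      rw [← Subgroup.map_comap_eq_self_of_surjective hs N, h, Subgroup.map_eq_bot_iff, hπ,
        QuotientGroup.ker_mk']
    · right; rw [← Subgroup.map_comap_eq_self_of_surjective hs N, h]
  · rintro _ ⟨a, ha, rfl⟩ _ ⟨b, hb, rfl⟩
    have h1 : π (a * b * a⁻¹ * b⁻¹) = 1 := (QuotientGroup.eq_one_iff _).mpr (hab a ha b hb)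
    rwa [map_mul, map_mul, map_mul, map_inv, map_inv, mul_inv_eq_one, mul_inv_eq_iff_eq_mul] at h1
  · rintro _ ⟨a, ha, rfl⟩
    rw [← map_pow]
    exact (QuotientGroup.eq_one_iff _).mpr (hexp a ha)
  · rw [← MonoidHom.map_zpowers, ← Invol.iterCommutator_map, Subgroup.map_eq_bot_iff, hπ, QuotientGroup.ker_mk']
    exact hgd

end Cfsg.Agent.S2006
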