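import Cfsg.Statements.S2007
import Mathlib
import Cfsg.Agent.Lib.Invol.PResidual
import Cfsg.Agent.Lib.Grp.Cores
-- import your own Cfsg.Agent.* helpers here

set_option autoImplicit false
open Cfsg

namespace Cfsg.Agent.S2007

/-- Let p be a prime, G a finite group with Sylow p-subgroup S, and T a normal subgroup of S containing C_S(T). If N_G(T)/C_G(T) is a p-group (every element of N_G(T) of order prime to p centralizes T), then N_G(T) has a normal p-complement. -/
theorem result {G : Type*} [Group G] [Finite G] {p : ℕ} [Fact p.Prime] (S : Sylow p G) (T : Subgroup G) (hTS : T ≤ (S : Subgroup G)) (hTn : (S : Subgroup G) ≤ Subgroup.normalizer ((T : Subgroup G) : Set G)) (hC : (S : Subgroup G) ⊓ Subgroup.centralizer ((T : Subgroup G) : Set G) ≤ T) (hN : ∀ g ∈ Subgroup.normalizer ((T : Subgroup G) : Set G), (orderOf g).Coprime p → g ∈ Subgroup.centralizer ((T : Subgroup G) : Set G)) : Cfsg.HasNormalPComplement p ↥(Subgroup.normalizer ((T : Subgroup G) : Set G)) := by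
  set N := Subgroup.normalizer ((T : Subgroup G) : Set G) with hNdef
  set SN : Sylow p N := S.subtype hTn with hSN
  set C : Subgroup N := (Subgroup.centralizer ((T : Subgroup G) : Set G)).subgroupOf N with hCdef
  have hCn : C.Normal := (Subgroup.normal_subgroupOf_iff
    (Subgroup.centralizer_le_normalizer _)).mpr fun c n hc hn => by
      rw [Subgroup.mem_centralizer_iff] at hc ⊢
      intro t ht
      have h := hc _ ((Subgroup.mem_normalizer_iff''.mp hn t).mp ht)
      calc t * (n * c * n⁻¹) = n * (n⁻¹ * t * n * c) * n⁻¹ := by group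
        _ = n * (c * (n⁻¹ * t * n)) * n⁻¹ := by rw [h]
        _ = n * c * n⁻¹ * t := by group
  -- a Sylow subgroup of the centraliser is central in it
  set SC : Subgroup C := (SN : Subgroup N).subgroupOf C with hSCdef
  have hSCp : IsPGroup p SC := SN.isPGroup'.comap_subtype
  have hSCidx : ¬ p ∣ SC.index := Grp.sylow_inf_normal_relIndex SN C
  let Q : Sylow p C := hSCp.toSylow hSCidx
  have hQcen : Subgroup.normalizer (Q : Set C) ≤ Subgroup.centralizer (Q : Set C) := by
    intro c _
    rw [Subgroup.mem_centralizer_iff]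
    intro q hq
    have hqT : ((q : N) : G) ∈ T := hC ⟨hq, q.2⟩
    refine Subtype.ext (Subtype.ext ?_)
    exact (Subgroup.mem_centralizer_iff.mp c.2 _ hqT)
  have hcompl := MonoidHom.ker_transferSylow_isComplement' Q hQcen
  set K0 := (MonoidHom.transferSylow Q hQcen).ker
  have hK0 : (Nat.card K0).Coprime p :=
    Nat.Coprime.symm ((Fact.out : p.Prime).coprime_iff_not_dvd.mpr
      (MonoidHom.not_dvd_card_ker_transferSylow Q hQcen))
  set K := (Cfsg.pPrimeCore p C).map C.subtype with hKdef
  have : (Cfsg.pPrimeCore p C).Characteristic := inferInstance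
  have hKn : K.Normal := inferInstance
  have hKcop : (Nat.card K).Coprime p := by
    rw [hKdef, Subgroup.card_map_of_injective C.subtype_injective]
    exact Grp.pPrimeCore_coprime
  -- every element of order prime to `p` lies in `K`
  have hcopmem : ∀ x : N, (orderOf x).Coprime p → x ∈ K := by
    intro x hx
    have hxC : x ∈ C := hN x x.2 (by rwa [Subgroup.orderOf_coe])
    refine ⟨⟨x, hxC⟩, Grp.le_pPrimeCore (MonoidHom.normal_ker _) hK0 ?_, rfl⟩
    have hqp : IsPGroup p (C ⧸ K0) := by
      obtain ⟨k, hk⟩ := Q.isPGroup'.exists_card_eq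
      refine IsPGroup.of_card (n := k) ?_
      rw [← Subgroup.index_eq_card, hcompl.symm.index_eq_card, hk]
    exact Invol.pResidual_le_of_isPGroup_quotient hqp
      (Invol.mem_pResidual (by rwa [Subgroup.orderOf_mk]))
  refine ⟨SN, K, hKn, Subgroup.isComplement'_of_coprime ?_ ?_⟩
  · have hres : Cfsg.pResidual p N ≤ K := by
      rw [Cfsg.pResidual, Subgroup.closure_le]
      exact hcopmem
    have htop : K ⊔ (SN : Subgroup N) = ⊤ :=
      top_le_iff.mp ((Invol.pResidual_sup_sylow SN).symm.le.trans (sup_le_sup_right hres _))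
    have h := Grp.card_sup_mul_card_inf_normal (H := (SN : Subgroup N)) (N := K)
    rw [sup_comm, htop, Subgroup.card_top] at h
    obtain ⟨k, hk⟩ := SN.isPGroup'.exists_card_eq
    rw [Grp.inf_eq_bot_of_coprime (by rw [hk]; exact Nat.Coprime.pow_left k hKcop.symm),
      Subgroup.card_bot, mul_one] at h
    rw [h, mul_comm]
  · obtain ⟨k, hk⟩ := SN.isPGroup'.exists_card_eq
    rw [hk]
    exact Nat.Coprime.pow_right k hKcop

end Cfsg.Agent.S2007
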