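import Cfsg.Prelude
import Cfsg.Agent.Lib.Invol.FourFreeNormal
-- import your own Cfsg.Agent.* helpers here

set_option autoImplicit false
open Cfsg

open scoped Pointwise commutatorElement

namespace Cfsg.Agent.S2008

/-- Let H be a finite group and z an involution such that every proper normal subgroup of H meets the centralizer of z trivially, and suppose z lies in a Klein four-subgroup E of H all three of whose involutions are conjugate to z in H. Then H has no non-trivial abelian normal subgroup. -/
theorem result {H : Type*} [Group H] [Finite H] (z : H) (hz : orderOf z = 2) (hN : ∀ N : Subgroup H, N.Normal → N ≠ ⊤ → N ⊓ Subgroup.centralizer ({z} : Set H) = ⊥) (E : Subgroup H) (hE : IsKleinFour ↥E) (hzE : z ∈ E) (hc : ∀ e ∈ E, e ≠ 1 → IsConj z e) (N : Subgroup H) [N.Normal] (hab : IsMulCommutative ↥N) : N = ⊥ := by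
  rcases eq_or_ne N ⊤ with rfl | htop
  · exfalso
    haveI := hE
    haveI : Nontrivial ↥E := Finite.one_lt_card_iff_nontrivial.mp (by rw [IsKleinFour.card_four]; norm_num)
    have habel : ∀ x y : H, x * y = y * x := fun x y =>
      congrArg Subtype.val (hab.is_comm.comm ⟨x, trivial⟩ ⟨y, trivial⟩)
    have hone : ∀ e : ↥E, e ≠ 1 → (e : H) = z := fun e he => by
      obtain ⟨g, hg⟩ := isConj_iff.mp (hc _ e.2 (fun h1 => he (Subtype.ext h1)))
      rw [← hg, habel g z, mul_inv_cancel_right]
    classical
    haveI := Fintype.ofFinite ↥E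
    have : Nat.card ↥E ≤ 2 := by
      rw [Nat.card_eq_fintype_card]
      refine (Finset.card_le_card (s := Finset.univ) (t := {1, ⟨z, hzE⟩}) fun x _ => ?_).trans Finset.card_le_two
      by_cases hx : x = 1
      · simp [hx]
      · simp [show x = ⟨z, hzE⟩ from Subtype.ext (hone x hx)]
    rw [IsKleinFour.card_four] at this
    omega
  · exact Invol.four_free_normal z hN E hE hc N htop

end Cfsg.Agent.S2008
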