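import Cfsg.Statements.S2011
import Cfsg.Agent.Lib.Fus.GroupSystem
import Cfsg.Agent.Lib.Transfer.Fusion
import Cfsg.Agent.Lib.Grp.Cores
import Cfsg.Agent.Lib.Invol.Sylow
-- import your own Cfsg.Agent.* helpers here

set_option autoImplicit false
open Cfsg

namespace Cfsg.Agent.S2011

/-- Let G be a finite group with Sylow p-subgroup P and Q ≤ P. Then Q is centric in the fusion system of G on P (C_P(R) ≤ R for every G-conjugate R of Q lying in P) if and only if C_G(Q) is the internal direct product of Z(Q) = Q ∩ C_G(Q) and the largest normal subgroup of C_G(Q) of order prime to p. -/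
theorem result {G : Type*} [Group G] [Finite G] (p : ℕ) [Fact p.Prime] (P : Sylow p G) (Q : Subgroup G) (hQ : Q ≤ P) : (Cfsg.groupFusionSystem (P : Subgroup G)).IsCentric Q ↔ Cfsg.IsInternalDirectProduct (Q ⊓ Subgroup.centralizer (Q : Set G)) ((Cfsg.pPrimeCore p ↥(Subgroup.centralizer (Q : Set G))).map (Subgroup.centralizer (Q : Set G)).subtype) (Subgroup.centralizer (Q : Set G)) := by
  set C := Subgroup.centralizer (Q : Set G) with hCdef
  set Z := Q ⊓ C with hZ
  set K := (Cfsg.pPrimeCore p ↥C).map C.subtype with hK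
  have hconj : ∀ R : Subgroup G, (Cfsg.groupFusionSystem (P : Subgroup G)).IsConj Q R ↔
      R ≤ (P : Subgroup G) ∧ ∃ g : G, Q.map (MulAut.conj g).toMonoidHom = R := by
    intro R
    rw [Fus.groupFusionSystem_eq, Fus.isConj_ofSubgroup]
    simp [hQ]
  have hZc : ∀ z ∈ Z, ∀ c ∈ C, z * c = c * z := fun z hz c hc => Subgroup.mem_centralizer_iff.mp hc z hz.1
  have hcomm : ∀ a ∈ Z, ∀ b ∈ K, a * b = b * a := fun a ha b hb => hZc a ha b (Subgroup.map_subtype_le _ hb)
  have hKco : (Nat.card K).Coprime p := by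
    rw [hK, Subgroup.card_map_of_injective C.subtype_injective]; exact Grp.pPrimeCore_coprime
  have hQp : IsPGroup p Q := P.isPGroup'.to_le hQ
  have hinf : Z ⊓ K = ⊥ := by
    obtain ⟨k, hk⟩ := (hQp.to_le (inf_le_left : Z ≤ Q)).exists_card_eq
    exact Subgroup.inf_eq_bot_of_coprime (hk ▸ (hKco.symm.pow_left k))
  constructor
  · intro hcen
    obtain ⟨X⟩ : Nonempty (Sylow p C) := inferInstance
    set X' := (X : Subgroup C).map C.subtype with hX'
    have hXC : X' ≤ C := Subgroup.map_subtype_le _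
    have hM : IsPGroup p ↥(Q ⊔ X') := hQp.to_sup_of_normal_left' (X.isPGroup'.map _) fun x hx =>
      Subgroup.mem_normalizer_fintype fun q hq => by
        show x * q * x⁻¹ ∈ Q
        rw [← Subgroup.mem_centralizer_iff.mp (hXC hx) q hq, mul_inv_cancel_right]
        exact hq
    obtain ⟨c, hc⟩ := Invol.exists_conj_subset_sylow hM P
    have hRP : Q.map (MulAut.conj c).toMonoidHom ≤ (P : Subgroup G) := by
      rintro _ ⟨q, hq, rfl⟩
      exact hc q (Subgroup.mem_sup_left hq)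
    have hXQ : X' ≤ Q := by
      intro x hx
      have h1 : c * x * c⁻¹ ∈ Q.map (MulAut.conj c).toMonoidHom := by
        refine hcen.2 _ ((hconj _).mpr ⟨hRP, c, rfl⟩) (Subgroup.mem_inf.mpr ⟨hc x (Subgroup.mem_sup_right hx),
          Subgroup.mem_centralizer_iff.mpr ?_⟩)
        rintro _ ⟨q, hq, rfl⟩
        show c * q * c⁻¹ * (c * x * c⁻¹) = c * x * c⁻¹ * (c * q * c⁻¹)
        calc c * q * c⁻¹ * (c * x * c⁻¹) = c * (q * x) * c⁻¹ := by group
          _ = c * (x * q) * c⁻¹ := by rw [Subgroup.mem_centralizer_iff.mp (hXC hx) q hq]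
          _ = _ := by group
      obtain ⟨q, hq, he⟩ := h1
      rw [show x = q from (mul_left_cancel (mul_right_cancel he)).symm]
      exact hq
    have hXZ : X' ≤ Z := le_inf hXQ hXC
    have hnpc : Cfsg.HasNormalPComplement p ↥C := by
      refine Transfer.hasNormalPComplement_of_control X ?_
      rintro a ha b hb ⟨g, rfl⟩
      refine ⟨1, one_mem _, Subtype.ext ?_⟩
      have h1 : (a : G) * g = g * a := hZc _ (hXZ ⟨a, ha, rfl⟩) g g.2
      simp only [Subgroup.coe_mul, Subgroup.coe_inv, OneMemClass.coe_one, one_mul, inv_one, mul_one]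
      rw [← h1, mul_inv_cancel_right]
    obtain ⟨S₀, N, hN, hcompl⟩ := hnpc
    have hNK : N ≤ Cfsg.pPrimeCore p ↥C := by
      refine Grp.le_pPrimeCore hN ?_
      have h1 : (N : Subgroup C).index = Nat.card S₀ := hcompl.symm.index_eq_card
      have h2 : Nat.card N = (S₀ : Subgroup C).index := (hcompl.index_eq_card).symm
      rw [h2]
      exact ((Fact.out : p.Prime).coprime_iff_not_dvd.mpr S₀.not_dvd_index).symm
    refine ⟨inf_le_right, Subgroup.map_subtype_le _, hcomm, hinf, le_antisymm (sup_le inf_le_right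
      (Subgroup.map_subtype_le _)) fun g hg => ?_⟩
    obtain ⟨y, hy⟩ := MulAction.exists_smul_eq ↥C X S₀
    have hSX : (S₀ : Subgroup C).map C.subtype ≤ Z := by
      rintro _ ⟨s, hs, rfl⟩
      rw [← hy] at hs
      obtain ⟨a, ha, rfl⟩ := hs
      have h1 := hZc _ (hXZ ⟨a, ha, rfl⟩) y y.2
      show (y : G) * a * (y : G)⁻¹ ∈ Z
      rw [show (y : G) * (a : G) = (a : G) * y from h1.symm, mul_inv_cancel_right]
      exact hXZ ⟨a, ha, rfl⟩
    obtain ⟨⟨a, b⟩, hab⟩ := hcompl.2 ⟨g, hg⟩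
    rw [show g = ((a : C) : G) * ((b : C) : G) from (congrArg Subtype.val hab).symm]
    exact mul_mem (Subgroup.mem_sup_right ⟨a, hNK a.2, rfl⟩) (Subgroup.mem_sup_left (hSX ⟨b, b.2, rfl⟩))
  · rintro ⟨-, -, -, -, hsup⟩
    refine ⟨hQ, fun R hR c hc => ?_⟩
    obtain ⟨-, g, rfl⟩ := (hconj R).mp hR
    obtain ⟨hcP, hcC⟩ := hc
    set c' := g⁻¹ * c * g with hc'
    have hc'C : c' ∈ C := Subgroup.mem_centralizer_iff.mpr fun q hq => by
      have h1 : g * q * g⁻¹ * c = c * (g * q * g⁻¹) := Subgroup.mem_centralizer_iff.mp hcC _ ⟨q, hq, rfl⟩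
      calc q * (g⁻¹ * c * g) = g⁻¹ * (g * q * g⁻¹ * c) * g := by group
        _ = g⁻¹ * (c * (g * q * g⁻¹)) * g := by rw [h1]
        _ = g⁻¹ * c * g * q := by group
    have hKn : (Cfsg.pPrimeCore p ↥C).Normal := Grp.pPrimeCore_isNormal
    have hdec : ∃ z ∈ Z, ∃ k ∈ K, z * k = c' := by
      have hm : (⟨c', hc'C⟩ : C) ∈ (Z.subgroupOf C) ⊔ Cfsg.pPrimeCore p ↥C := by
        have h1 : ((Z.subgroupOf C) ⊔ Cfsg.pPrimeCore p ↥C).map C.subtype = C := by
          rw [Subgroup.map_sup, Subgroup.map_subgroupOf_eq_of_le (inf_le_right : Z ≤ C)]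
          exact hsup
        obtain ⟨y, hy, hye⟩ := (h1.ge hc'C : c' ∈ _)
        rwa [show (⟨c', hc'C⟩ : C) = y from Subtype.ext hye.symm]
      obtain ⟨z, hz, k, hk, he⟩ := Subgroup.mem_sup_of_normal_right.mp hm
      exact ⟨z, hz, k, ⟨k, hk, rfl⟩, congrArg Subtype.val he⟩
    obtain ⟨z, hz, k, hk, he⟩ := hdec
    obtain ⟨a, ha⟩ := IsPGroup.iff_orderOf.mp P.isPGroup' ⟨c, hcP⟩
    rw [Subgroup.orderOf_mk] at ha
    have hord : c' ^ p ^ a = 1 := by
      rw [hc', ← ha]
      simpa using (conj_pow (a := g⁻¹) (b := c) (i := orderOf c)).trans (by rw [pow_orderOf_eq_one]; simp)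
    have hk1 : k ^ p ^ a ∈ Z ⊓ K := by
      refine Subgroup.mem_inf.mpr ⟨?_, pow_mem hk _⟩
      rw [← he, (show Commute z k from hcomm z hz k hk).mul_pow] at hord
      rw [eq_inv_of_mul_eq_one_right hord]
      exact inv_mem (pow_mem hz _)
    rw [hinf, Subgroup.mem_bot] at hk1
    have hk2 : orderOf k ∣ Nat.card K := by rw [← Subgroup.orderOf_mk k hk]; exact orderOf_dvd_natCard _
    have hk3 : k = 1 := orderOf_eq_one_iff.mp (Nat.eq_one_of_dvd_coprimes (hKco.pow_right a) hk2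
      (orderOf_dvd_of_pow_eq_one hk1))
    refine ⟨c', ?_, by show g * (g⁻¹ * c * g) * g⁻¹ = c; group⟩
    rw [← he, hk3, mul_one]
    exact hz.1

end Cfsg.Agent.S2011
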