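import Cfsg.Statements.S2012
import Cfsg.Agent.Lib.Transfer.Alperin
-- import your own Cfsg.Agent.* helpers here

set_option autoImplicit false
open Cfsg

namespace Cfsg.Agent.S2012

open Cfsg.Agent.Transfer

set_option linter.style.haveILetI false

/-- Tame chains whose steps off `P` are made by `p`-elements. -/
inductive PChain {G : Type*} [Group G] {p : ℕ} (P : Sylow p G) : Set G → G → Prop
  | nil (A : Set G) : PChain P A 1
  | cons {A : Set G} (Q : Sylow p G) (x : G) {y : G} :
      TameStep P Q x → ((Q : Subgroup G) = (P : Subgroup G) ∨ ∃ k : ℕ, orderOf x = p ^ k) →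
      A ⊆ (((P : Subgroup G) ⊓ (Q : Subgroup G) : Subgroup G) : Set G) →
      PChain P ((fun a => x⁻¹ * a * x) '' A) y → PChain P A (x * y)

theorem PChain.mono {G : Type*} [Group G] {p : ℕ} {P : Sylow p G} {A : Set G} {g : G}
    (h : PChain P A g) : ∀ {B : Set G}, B ⊆ A → PChain P B g := by
  induction h with
  | nil A => exact fun _ => .nil _
  | cons Q x hT hp hA _ ih => exact fun hB => .cons Q x hT hp (hB.trans hA) (ih (Set.image_mono hB))

theorem PChain.trans {G : Type*} [Group G] {p : ℕ} {P : Sylow p G} {A : Set G} {g : G}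
    (h : PChain P A g) :
    ∀ {k : G}, PChain P ((fun a => g⁻¹ * a * g) '' A) k → PChain P A (g * k) := by
  induction h with
  | nil A =>
    intro k hk
    rw [one_mul]
    simpa using hk
  | @cons A Q x y hT hp hA _ ih =>
    intro k hk
    rw [mul_assoc]
    refine .cons Q x hT hp hA (ih ?_)
    have he : (fun a => y⁻¹ * a * y) '' ((fun a => x⁻¹ * a * x) '' A) =
        (fun a => (x * y)⁻¹ * a * (x * y)) '' A := by
      rw [Set.image_image]
      simp [mul_assoc]
    rwa [he]

theorem pChain {G : Type*} [Group G] [Finite G] {p : ℕ} [Fact p.Prime] (P : Sylow p G) :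
    ∀ (A : Set G) (g : G), A ⊆ (P : Set G) → (fun a => g⁻¹ * a * g) '' A ⊆ (P : Set G) →
      PChain P A g := by
  suffices H : ∀ m, ∀ (A : Set G) (g : G), A ⊆ (P : Set G) →
      (fun a => g⁻¹ * a * g) '' A ⊆ (P : Set G) →
      Nat.card G - A.ncard ≤ m → PChain P A g from fun A g h1 h2 => H _ A g h1 h2 le_rfl
  intro m
  induction m using Nat.strong_induction_on with
  | _ m IH =>
  intro A g hA hAg hm
  have hchain := alperin P A g hA hAg
  have step : ∀ (B : Set G) (Q : Sylow p G) (x : G), B.ncard = A.ncard → TameStep P Q x →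
      B ⊆ (((P : Subgroup G) ⊓ (Q : Subgroup G) : Subgroup G) : Set G) → PChain P B x := by
    intro B Q x hB hT hBD
    by_cases hQP : (Q : Subgroup G) = (P : Subgroup G)
    · simpa using PChain.cons Q x hT (Or.inl hQP) hBD (.nil _)
    set D := (P : Subgroup G) ⊓ (Q : Subgroup G) with hD
    set N := Subgroup.normalizer (D : Set G) with hN
    have hDP : D < (P : Subgroup G) := lt_of_le_of_ne inf_le_left fun h =>
      hQP (P.3 Q.isPGroup' (h ▸ inf_le_right))
    have hlt := lt_inf_normalizer P hDP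
    have hT0 : IsPGroup p ((P : Subgroup G).subgroupOf N) := P.isPGroup'.comap_subtype
    have hT1 : ¬ p ∣ ((P : Subgroup G).subgroupOf N).index := by
      have h2 := hT.2.1
      rwa [Subgroup.inf_relIndex_right] at h2
    set T := hT0.toSylow hT1 with hTdef
    set M := Subgroup.closure {u : N | ∃ k : ℕ, orderOf u = p ^ k} with hM
    haveI hMn : M.Normal := ⟨fun u hu w => by
      have : M ≤ M.comap (MulAut.conj w).toMonoidHom := by
        refine (Subgroup.closure_le _).2 ?_
        rintro v ⟨k, hk⟩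
        refine Subgroup.subset_closure ⟨k, ?_⟩
        show orderOf ((MulAut.conj w) v) = p ^ k
        rw [MulEquiv.orderOf_eq, hk]
      exact this hu⟩
    have hTM : (T : Subgroup N) ≤ M := fun u hu => Subgroup.subset_closure (by
      obtain ⟨k, hk⟩ := IsPGroup.iff_orderOf.1 T.2 ⟨u, hu⟩
      exact ⟨k, by rwa [Subgroup.orderOf_mk] at hk⟩)
    have htop : Subgroup.normalizer ((T : Subgroup N) : Set N) ⊔ M = ⊤ :=
      Sylow.normalizer_sup_eq_top' T hTM
    obtain ⟨u, hu, n, hn, hun⟩ := Subgroup.mem_sup_of_normal_left.1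
      (show (⟨x, hT.1⟩ : N) ∈ M ⊔ Subgroup.normalizer ((T : Subgroup N) : Set N) by
        rw [sup_comm, htop]; exact Subgroup.mem_top _)
    have hstep : ∀ v : N, TameStep P Q (v : G) := fun v => ⟨v.2, hT.2⟩
    have hin : ∀ (v : N) (C : Set G), C ⊆ (D : Set G) →
        (fun a => (v : G)⁻¹ * a * (v : G)) '' C ⊆ (D : Set G) := by
      rintro v C hC _ ⟨a, ha, rfl⟩
      exact (Subgroup.mem_normalizer_iff''.1 v.2 a).1 (hC ha)
    have hu' : ∀ C : Set G, C ⊆ (D : Set G) → PChain P C (u : G) := by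
      clear hun
      induction hu using Subgroup.closure_induction_left with
      | one => exact fun C _ => .nil _
      | mul_left v hv w _ ih =>
        intro C hC
        rw [Subgroup.coe_mul]
        exact .cons Q _ (hstep v) (Or.inr (by simpa [Subgroup.orderOf_coe] using hv)) hC
          (ih _ (hin v C hC))
      | inv_mul_cancel v hv w _ ih =>
        intro C hC
        rw [Subgroup.coe_mul]
        refine .cons Q _ (hstep v⁻¹) (Or.inr ?_) hC (ih _ (hin v⁻¹ C hC))
        rw [Subgroup.coe_inv, orderOf_inv, Subgroup.orderOf_coe]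
        exact hv
    have hn' : PChain P (((P : Subgroup G) ⊓ N : Subgroup G) : Set G) (n : G) := by
      refine IH (Nat.card G - (((P : Subgroup G) ⊓ N : Subgroup G) : Set G).ncard) ?_ _ _
        inf_le_left ?_ le_rfl
      · have h1 : B.ncard ≤ (D : Set G).ncard := Set.ncard_le_ncard hBD (Set.toFinite _)
        have h2 : (D : Set G).ncard < (((P : Subgroup G) ⊓ N : Subgroup G) : Set G).ncard :=
          Set.ncard_lt_ncard hlt (Set.toFinite _)
        have h3 : (((P : Subgroup G) ⊓ N : Subgroup G) : Set G).ncard ≤ Nat.card G :=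
          Set.ncard_le_card _
        omega
      · rintro _ ⟨a, ha, rfl⟩
        exact (Subgroup.mem_normalizer_iff''.1 hn ⟨a, ha.2⟩).1 ha.1
    have h1 := (hu' B hBD).trans (hn'.mono ((hin u B hBD).trans fun a ha => hlt.le ha))
    rwa [← Subgroup.coe_mul, hun] at h1
  suffices key : ∀ (B : Set G) (y : G), AlperinChain P B y → B.ncard = A.ncard → PChain P B y from
    key A g hchain rfl
  intro B y hBy
  induction hBy with
  | nil B => exact fun _ => .nil _
  | @cons B Q x y hT hB _ ih =>
    intro hc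
    refine (step B Q x hc hT hB).trans (ih ?_)
    rw [Set.ncard_image_of_injective _ (fun a b h => by simpa using h), hc]

theorem PChain.exists_fin {G : Type*} [Group G] {p : ℕ} {P : Sylow p G} {A : Set G} {g : G}
    (h : PChain P A g) :
    ∃ (n : ℕ) (Q : Fin n → Sylow p G) (x : Fin n → G), (List.ofFn x).prod = g ∧
      (∀ i : Fin n, TameStep P (Q i) (x i) ∧
        ((Q i : Subgroup G) = (P : Subgroup G) ∨ ∃ k : ℕ, orderOf (x i) = p ^ k)) ∧
      (∀ h : 0 < n, A ⊆ (((P : Subgroup G) ⊓ (Q ⟨0, h⟩ : Subgroup G) : Subgroup G) : Set G)) ∧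
      ∀ i : Fin n, ∀ h : i.val + 1 < n,
        (fun a => (((List.ofFn x).take (i.val + 1)).prod)⁻¹ * a * ((List.ofFn x).take (i.val + 1)).prod) '' A
          ⊆ (((P : Subgroup G) ⊓ (Q ⟨i.val + 1, h⟩ : Subgroup G) : Subgroup G) : Set G) := by
  induction h with
  | nil A => exact ⟨0, Fin.elim0, Fin.elim0, by simp, fun i => i.elim0, fun h => absurd h (lt_irrefl 0), fun i => i.elim0⟩
  | @cons A Q x y hT hp hA _ ih =>
    obtain ⟨n, Qs, xs, hprod, hs, h0, hstep⟩ := ih
    refine ⟨n + 1, Fin.cons Q Qs, Fin.cons x xs, ?_, ?_, fun _ => ?_, ?_⟩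
    · rw [List.ofFn_succ, List.prod_cons]
      simp [hprod]
    · intro i
      refine Fin.cases ?_ ?_ i
      · simpa using And.intro hT hp
      · intro j; simpa using hs j
    · exact hA
    · intro i hi
      have hl : List.ofFn (Fin.cons x xs) = x :: List.ofFn xs := by
        rw [List.ofFn_succ]; simp
      rw [hl, List.take_succ_cons, List.prod_cons]
      have hq : (Fin.cons Q Qs : Fin (n + 1) → Sylow p G) ⟨i.val + 1, hi⟩ = Qs ⟨i.val, by omega⟩ := rfl
      rw [hq]
      have he : (fun a => (x * ((List.ofFn xs).take i.val).prod)⁻¹ * a * (x * ((List.ofFn xs).take i.val).prod)) '' A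
          = (fun a => (((List.ofFn xs).take i.val).prod)⁻¹ * a * ((List.ofFn xs).take i.val).prod) ''
            ((fun a => x⁻¹ * a * x) '' A) := by
        rw [Set.image_image]
        simp [mul_assoc]
      rw [he]
      obtain ⟨iv, hiv⟩ := i
      cases iv with
      | zero =>
        simp only [List.take_zero, List.prod_nil, inv_one, one_mul, mul_one, Set.image_id']
        exact h0 (by simp only at hi; omega)
      | succ j => exact hstep ⟨j, by simp only at hi; omega⟩ (by simp only at hi ⊢; omega)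

/-- Alperin's fusion Theorem with the factors taken to be p-elements: let P be a Sylow p-subgroup of a finite group G, A a subset of P and g an element with g⁻¹Ag ⊆ P. Then g = x_1 ⋯ x_n where, for each i, Q_i is a Sylow p-subgroup with P ∩ Q_i a tame intersection (the normalizers in P and in Q_i of P ∩ Q_i are Sylow in N_G(P ∩ Q_i)), x_i normalizes P ∩ Q_i, x_i has p-power order unless Q_i = P, A ⊆ P ∩ Q_1, and (x_1 ⋯ x_i)⁻¹ A (x_1 ⋯ x_i) lies in P ∩ Q_{i+1} for i < n. -/
theorem result {G : Type*} [Group G] [Finite G] {p : ℕ} [Fact p.Prime] (P : Sylow p G) (A : Set G) (g : G) (hA : A ⊆ (P : Set G)) (hAg : (fun a => g⁻¹ * a * g) '' A ⊆ (P : Set G)) : ∃ (n : ℕ) (Q : Fin n → Sylow p G) (x : Fin n → G), (List.ofFn x).prod = g ∧ (∀ i : Fin n, x i ∈ Subgroup.normalizer ((((P : Subgroup G) ⊓ (Q i : Subgroup G)) : Subgroup G) : Set G) ∧ ¬ p ∣ ((P : Subgroup G) ⊓ Subgroup.normalizer ((((P : Subgroup G) ⊓ (Q i : Subgroup G)) : Subgroup G) : Set G)).relIndex (Subgroup.normalizer ((((P : Subgroup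 G) ⊓ (Q i : Subgroup G)) : Subgroup G) : Set G)) ∧ ¬ p ∣ ((Q i : Subgroup G) ⊓ Subgroup.normalizer ((((P : Subgroup G) ⊓ (Q i : Subgroup G)) : Subgroup G) : Set G)).relIndex (Subgroup.normalizer ((((P : Subgroup G) ⊓ (Q i : Subgroup G)) : Subgroup G) : Set G)) ∧ ((Q i : Subgroup G) = (P : Subgroup G) ∨ ∃ k : ℕ, orderOf (x i) = p ^ k)) ∧ (∀ h : 0 < n, A ⊆ (((P : Subgroup G) ⊓ (Q ⟨0, h⟩ : Subgroup G) : Subgroup G) : Set G)) ∧ ∀ i : Fin n, ∀ h : i.val + 1 < n, (fun a => (((List.ofFn x).take (i.val + 1)).prod)⁻¹ * a * ((List.ofFn x).take (i.val + 1)).prod) '' A ⊆ (((P : Subgroup G) ⊓ (Q ⟨i.val + 1, h⟩ : Subgroup G) : Subgroup G) : Set G) := by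
  obtain ⟨n, Q, x, h1, h2, h3, h4⟩ := (pChain P A g hA hAg).exists_fin
  exact ⟨n, Q, x, h1, fun i => ⟨(h2 i).1.1, (h2 i).1.2.1, (h2 i).1.2.2, (h2 i).2⟩, h3, h4⟩

end Cfsg.Agent.S2012
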