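import Cfsg.Statements.S2014
import Mathlib
import Cfsg.Agent.Lib.Invol.PResidual
import Cfsg.Agent.Lib.Invol.Closed
-- import your own Cfsg.Agent.* helpers here

set_option autoImplicit false
open Cfsg

namespace Cfsg.Agent.S2014

/-- Let P be a Sylow p-subgroup of a finite group G and A, C ≤ P subgroups conjugate in G, with C extremal: N_P(C) is a Sylow p-subgroup of N_G(C). Then there is g with gAg⁻¹ = C and g N_P(A) g⁻¹ ≤ N_P(C); moreover, given any h with hAh⁻¹ = C, g can be chosen so that h g⁻¹ lies in O^p(N_G(C)), the subgroup of N_G(C) generated by its elements of order prime to p. -/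
theorem result {G : Type*} [Group G] [Finite G] (p : ℕ) [Fact p.Prime] (P : Sylow p G) (A C : Subgroup G) (hA : A ≤ P) (hC : C ≤ P) (hext : ¬ p ∣ ((P : Subgroup G) ⊓ Subgroup.normalizer ((C : Subgroup G) : Set G)).relIndex (Subgroup.normalizer ((C : Subgroup G) : Set G))) (h : G) (hh : A.map (MulAut.conj h).toMonoidHom = C) : ∃ g : G, A.map (MulAut.conj g).toMonoidHom = C ∧ ((P : Subgroup G) ⊓ Subgroup.normalizer ((A : Subgroup G) : Set G)).map (MulAut.conj g).toMonoidHom ≤ (P : Subgroup G) ⊓ Subgroup.normalizer ((C : Subgroup G) : Set G) ∧ h * g⁻¹ ∈ (Cfsg.pResidual p ↥(Subgroup.normalizer ((C : Subgroup G) : Set G))).map (Subgroup.normalizer ((C : Subgroup G) : Set G)).subtype := by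
  set N := Subgroup.normalizer ((C : Subgroup G) : Set G) with hN
  set R := (P : Subgroup G) ⊓ N with hR
  have hRp : IsPGroup p R := P.isPGroup'.to_inf_left
  let RN : Sylow p N := (hRp.comap_subtype (K := N)).toSylow hext
  set Q := ((P : Subgroup G) ⊓ Subgroup.normalizer ((A : Subgroup G) : Set G)).map
    (MulAut.conj h).toMonoidHom with hQdef
  have hQN : Q ≤ N := by
    rintro _ ⟨x, hx, rfl⟩
    apply Invol.mem_normalizer_of_map_eq
    rw [← hh, Invol.map_conj_map_conj]
    have hxA : A.map (MulAut.conj x).toMonoidHom = A := by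
      ext y
      rw [Invol.mem_map_conj]
      exact (Subgroup.mem_normalizer_iff''.mp hx.2 y).symm
    change A.map (MulAut.conj (h * x * h⁻¹ * h)).toMonoidHom = _
    rw [inv_mul_cancel_right, ← Invol.map_conj_map_conj, hxA]
  have hQp : IsPGroup p Q := P.isPGroup'.to_inf_left.map _
  obtain ⟨m, hm, hmQ⟩ := Invol.exists_residual_conj_subset_sylow (hQp.comap_subtype (K := N)) RN
  refine ⟨(m : G) * h, ?_, ?_, ?_⟩
  · rw [← Invol.map_conj_map_conj, hh]
    ext y
    rw [Invol.mem_map_conj]
    exact (Subgroup.mem_normalizer_iff''.mp m.2 y).symm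
  · rw [← Invol.map_conj_map_conj]
    rintro _ ⟨y, hy, rfl⟩
    exact hmQ ⟨y, hQN hy⟩ hy
  · refine ⟨m⁻¹, inv_mem hm, ?_⟩
    simp

end Cfsg.Agent.S2014
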