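import Cfsg.Statements.S2015
import Cfsg.Agent.Lib.Invol.KInfTransfer
-- import your own Cfsg.Agent.* helpers here

set_option autoImplicit false
universe u
open Cfsg

namespace Cfsg.Agent.S2015

/-- For p ≥ 5, every finite p-group P has a characteristic subgroup K containing Z(P), depending only on P, whose normalizer controls transfer wherever P is a Sylow subgroup: for every finite group G and every embedding ι of P onto a Sylow p-subgroup of G, the intersection of ι(P) with the derived subgroup of G equals its intersection with the derived subgroup of N_G(ι(K)). -/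
theorem result (p : ℕ) [Fact p.Prime] (hp : 5 ≤ p) (P : Type u) [Group P] [Finite P] (hP : IsPGroup p P) : ∃ K : Subgroup P, K.Characteristic ∧ Subgroup.center P ≤ K ∧ ∀ (G : Type u) [Group G] [Finite G] (ι : P →* G), Function.Injective ι → (∃ T : Sylow p G, (T : Subgroup G) = ι.range) → ι.range ⊓ commutator G = ι.range ⊓ (commutator ↥(Subgroup.normalizer ((K.map ι : Subgroup G) : Set G))).map (Subgroup.normalizer ((K.map ι : Subgroup G) : Set G)).subtype := by
  refine ⟨Cfsg.kInfLower P, Subgroup.characteristic_iff_map_eq.mpr fun φ => (Invol.KInf.map_kInf_equiv φ).1,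
    Invol.KInf.center_le_kInf.1, ?_⟩
  intro G _ _ ι hι hT
  obtain ⟨T, hT⟩ := hT
  have hmap : Cfsg.inducedFunctor Cfsg.kInfLower (T : Subgroup G) = (Cfsg.kInfLower P).map ι := by
    rw [hT]
    let e : P ≃* ι.range := MonoidHom.ofInjective hι
    show (Cfsg.kInfLower ι.range).map ι.range.subtype = _
    rw [← (Invol.KInf.map_kInf_equiv e).1, Subgroup.map_map]
    rfl
  have h := Invol.inf_commutator_eq_of_transferCtrl
    (Invol.transferCtrl_kInfLower hp (G := G) G (Invol.IsSectionOf.refl G)) T
  rw [hmap, hT] at h
  rw [h, commutator_def (↥(Subgroup.normalizer ((Subgroup.map ι (Cfsg.kInfLower P) : Subgroup G) : Set G))),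
    Subgroup.map_commutator, ← MonoidHom.range_eq_map, Subgroup.range_subtype]

end Cfsg.Agent.S2015
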