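import Cfsg.Statements.S2040
import Cfsg.Agent.Lib.Spor.J2.MultCover
-- import your own Cfsg.Agent.* helpers here

set_option autoImplicit false
open Cfsg

namespace Cfsg.Agent.S2040

/-- The Schur multiplier of the Hall–Janko group J₂ (the icosian reflection group modulo its centre) is cyclic of order 2; here the Schur multiplier is described through stem extensions, as in the definitions: surjective homomorphisms onto the group from a finite group, whose kernel is central in that finite group and contained in that finite group's commutator subgroup. -/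
theorem result : Cfsg.HasCyclicSchurMultiplier Cfsg.Spor.J2 2 := by
  refine ⟨?_, fun Γ _ _ σ hσ => ?_⟩
  · have := Cfsg.Agent.J2Cert.Mult.finite_twoJ2
    refine ⟨Cfsg.Spor.twoJ2, inferInstance, this, QuotientGroup.mk' (Subgroup.center _),
      ⟨QuotientGroup.mk'_surjective _, ?_, ?_⟩, ?_⟩
    · rw [QuotientGroup.ker_mk']
    · rw [QuotientGroup.ker_mk']
      exact Cfsg.Agent.J2Cert.Mult.center_le_commutator
    · rw [QuotientGroup.ker_mk']
      exact Cfsg.Agent.J2Cert.Mult.center_equiv
  · obtain ⟨f, hf, hf2, hle⟩ := Cfsg.Agent.J2Cert.Mult.ker_two hσ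
    exact Cfsg.Agent.Grp.SchurM.exists_surjective_zmod _ f hf hf2 hle

end Cfsg.Agent.S2040
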