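import Cfsg.Statements.S2049
import Cfsg.Agent.Lib.Spor.Cos.He.Tail2
import Cfsg.Agent.Lib.Spor.Cos.He.Tail3
import Cfsg.Agent.Lib.Spor.Cos.He.Tail5
import Cfsg.Agent.Lib.Spor.Cos.He.Tail7
import Cfsg.Agent.Lib.Spor.Cos.He.Tail17
-- import your own Cfsg.Agent.* helpers here

set_option autoImplicit false
open Cfsg

namespace Cfsg.Agent.S2049

/-- The Schur multiplier of the Held group (the finitely presented group of the definitions) is trivial; here the Schur multiplier is described through stem extensions, as in the definitions: surjective homomorphisms onto the group from a finite group, whose kernel is central in that finite group and contained in that finite group's commutator subgroup. -/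
theorem result : Cfsg.HasCyclicSchurMultiplier Cfsg.Spor.He 1 := by
  have := Cfsg.Agent.Spor.Cos.He.finite
  refine Cfsg.Agent.Grp.SchurM.Tails.multiplier_trivial fun p hp hd => ?_
  rw [Cfsg.Agent.Spor.Cos.He.card_eq, show 4030387200 = 2 ^ 10 * 3 ^ 3 * 5 ^ 2 * 7 ^ 3 * 17 by norm_num] at hd
  have key : ∀ q k : ℕ, q.Prime → p ∣ q ^ k → p = q := fun q k hq h =>
    (Nat.prime_dvd_prime_iff_eq hp hq).1 (hp.dvd_of_dvd_pow h)
  rcases (Nat.Prime.dvd_mul hp).1 hd with hd | h17
  · rcases (Nat.Prime.dvd_mul hp).1 hd with hd | h7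
    · rcases (Nat.Prime.dvd_mul hp).1 hd with hd | h5
      · rcases (Nat.Prime.dvd_mul hp).1 hd with h2 | h3
        · obtain rfl := key 2 10 (by norm_num) h2
          exact Cfsg.Agent.Spor.Cos.He.Mult.sylow2
        · obtain rfl := key 3 3 (by norm_num) h3
          exact Cfsg.Agent.Spor.Cos.He.Mult.sylow3
      · obtain rfl := key 5 2 (by norm_num) h5
        exact Cfsg.Agent.Spor.Cos.He.Mult.sylow5
    · obtain rfl := key 7 3 (by norm_num) h7
      exact Cfsg.Agent.Spor.Cos.He.Mult.sylow7
  · obtain rfl := (Nat.prime_dvd_prime_iff_eq hp (by norm_num)).1 h17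
    exact Cfsg.Agent.Spor.Cos.He.Mult.sylow17

end Cfsg.Agent.S2049
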