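import Cfsg.Statements.S2061
import Cfsg.Agent.Lib.Spor.Golay.AutOut
import Cfsg.Agent.Lib.Spor.Golay.AutM12

set_option autoImplicit false
open Cfsg

namespace Cfsg.Agent.S2061

/-- The outer automorphism group of the Mathieu group M₁₂ (the stabiliser of a dodecad in the automorphism group of the length-24 binary code) has order 2. -/
theorem result : Nat.card (Cfsg.Out ↥Cfsg.Spor.M12) = 2 := by
  open Cfsg.Agent.Spor.Golay Cfsg.Agent.Spor.Golay.Aut in
  refine Eq.trans (b := Nat.card (Cfsg.Out c12.grp)) ?_ ?_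
  · open Cfsg.Agent.Spor.Golay Cfsg.Agent.Spor.Golay.Aut in
    have e : Cfsg.Spor.M12 = c12.grp := by
      ext g
      simp only [Cfsg.Spor.M12, Subgroup.mem_inf, MulAction.mem_stabilizer_iff, Case.grp, mem_Fix,
        show c12.M = [sqMask] from rfl, List.forall_mem_singleton, List.not_mem_nil, false_implies,
        implies_true, and_true,
        show Cfsg.Spor.squareDodecad = pts sqMask by decide +kernel]
    rw [e]
  · open Cfsg.Agent.Spor.Golay Cfsg.Agent.Spor.Golay.Aut in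
    refine c12.out_two gen12_check g12Outer (by decide +kernel) gen12 (fun g hg hga => ?_) aut12
    open Cfsg.Agent.Spor.Golay Cfsg.Agent.Spor.Golay.Aut in
    have hn := n12_check
    simp only [Case.nCheck, Bool.and_eq_true, List.all_eq_true] at hn
    obtain ⟨hgens, -⟩ := c12.gen_facts gen12_check
    obtain ⟨hv, -⟩ := hgens c12.A (by simp)
    have hg' := gen12_check
    simp only [Case.genCheck, Bool.and_eq_true] at hg'
    obtain ⟨⟨⟨⟨⟨⟨⟨⟨⟨⟨⟨-, -⟩, hAp⟩, hA1⟩, -⟩, -⟩, hPA⟩, -⟩, -⟩, -⟩, -⟩, -⟩ := hg'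
    have ho := Case.orderOf_permOf hv (show Nat.Prime 11 by norm_num) hAp (by simpa using hA1)
    obtain ⟨-, he⟩ := powsOk_spec hv hPA
    obtain ⟨g1, g2, -⟩ := mem_Fix.mp hg
    obtain ⟨K, hK, hKv, hKe⟩ := he (show Nat.Prime 11 by norm_num) ho _ hga (fun e => by
      rw [mul_inv_eq_one, mul_eq_left] at e
      rw [e, orderOf_one] at ho
      exact (by norm_num : (1 : ℕ) ≠ 11) ho)
    obtain ⟨Q, hQ, hQe⟩ := mem_of_normCheck tab24_ok chains24.2.1.1 chains24.2.1.2 idxs24.2.1 hv hn.1.1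
      lits24.2.1 ln12 g1 g2 ⟨K, hK, hKv, by rw [hKe]; simp⟩
    exact ⟨Q, hQ, hn.1.1 Q hQ, hQe⟩

end Cfsg.Agent.S2061
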