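import Cfsg.Statements.S2067
import Cfsg.Agent.Lib.Spor.Cos.J3.Cover
import Cfsg.Agent.Lib.Spor.Cos.J3.Transfer
import Cfsg.Agent.Lib.Spor.Cos.J3Out.Main

set_option autoImplicit false
open Cfsg

namespace Cfsg.Agent.S2067

/-- For any field with 4 elements and any element ω of it with ω² + ω + 1 = 0, the outer automorphism group of the Janko group J₃ (the group generated by explicit 9 × 9 matrices over that field built from ω, taken modulo its centre) has order 2. -/
theorem result {F : Type*} [Field F] [Fintype F] (hF : Fintype.card F = 4) (ω : F) (hω : ω ^ 2 + ω + 1 = 0) : Nat.card (Cfsg.Out (Cfsg.Spor.J3 F ω)) = 2 := by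
  open Cfsg.Agent.Spor.Cos Cfsg.Agent.Spor.Cos.J3 in
  obtain ⟨φ, -, ⟨e⟩⟩ := exists_transfer hF ω hω
  open Cfsg.Agent.Spor.Cos Cfsg.Agent.Spor.Cos.J3 in
  have hmap : (Subgroup.center U9).map e.toMonoidHom = Subgroup.center ↥(Cfsg.Spor.threeJ3 F ω) := by
    ext x
    simp only [Subgroup.mem_map, MulEquiv.coe_toMonoidHom, Subgroup.mem_center_iff]
    constructor
    · rintro ⟨u, hu, rfl⟩ y
      obtain ⟨v, rfl⟩ := e.surjective y
      rw [← map_mul, ← map_mul, hu v]
    · intro hx
      refine ⟨e.symm x, fun v => e.injective ?_, e.apply_symm_apply x⟩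
      rw [map_mul, map_mul, e.apply_symm_apply]
      exact hx (e v)
  open Cfsg.Agent.Spor.Cos Cfsg.Agent.Spor.Cos.J3 in
  let q : P ≃* Cfsg.Spor.J3 F ω := quotEquiv.symm.trans (QuotientGroup.congr _ _ e hmap)
  exact (Cfsg.Agent.Spor.Cos.card_out_congr q).symm.trans Cfsg.Agent.Spor.Cos.J3Out.card_out

end Cfsg.Agent.S2067
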