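import Cfsg.Statements.S2081
import Cfsg.Agent.Lib.Spor.Cos.Fi24Up.Main
import Cfsg.Agent.Lib.Fus.Fi24Model.Types
import Cfsg.Agent.Lib.Grp.M24Aut.Presented

set_option autoImplicit false
open Cfsg

namespace Cfsg.Agent.S2081

/-- The outer automorphism group of the Fischer group Fi₂₄′ (the commutator subgroup of the presented group Fi₂₄) has order 2. -/
theorem result : Nat.card (Cfsg.Out Cfsg.Spor.Fi24') = 2 :=
  Grp.M24Aut.card_out_fi24
    (Block.FischerTypes.M24.base Fus.Fi24Model.isGroup Fus.Fi24Model.primitive Fus.Fi24Model.isOfTypeM24)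
    Spor.Cos.Fi24Up.equivGG

end Cfsg.Agent.S2081
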