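import Cfsg.Statements.S2087
import Cfsg.Agent.S2086
import Cfsg.Agent.Lib.Invol.SimpleOrder168
import Cfsg.Agent.Lib.Classical.SLNormal
-- import your own Cfsg.Agent.* helpers here

set_option autoImplicit false
open Cfsg

namespace Cfsg.Agent.S2087

universe u w in
/-- The multiplier is invariant under isomorphism. -/
theorem multiplier_congr {G H : Type u} [Group G] [Group H] {A : Type w} [CommGroup A]
    (e : H ≃* G) (hA : Cfsg.HasSchurMultiplier H A) : Cfsg.HasSchurMultiplier G A := by
  have key : ∀ {Δ : Type u} [Group Δ] {P Q : Type u} [Group P] [Group Q] (d : P ≃* Q) (σ : Δ →* P),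
      (d.toMonoidHom.comp σ).ker = σ.ker := fun d σ => by
    rw [← MonoidHom.comap_ker, (MonoidHom.ker_eq_bot_iff d.toMonoidHom).2 d.injective,
      MonoidHom.comap_bot]
  obtain ⟨⟨Γ, i1, i2, σ, hσ, ⟨i⟩⟩, hmax⟩ := hA
  refine ⟨⟨Γ, i1, i2, e.toMonoidHom.comp σ,
    ⟨e.surjective.comp hσ.1, (key e σ).symm ▸ hσ.2.1, (key e σ).symm ▸ hσ.2.2⟩,
    ⟨(MulEquiv.subgroupCongr (key e σ)).trans i⟩⟩, fun Δ _ _ τ hτ => ?_⟩
  obtain ⟨π, hπ⟩ := hmax Δ (e.symm.toMonoidHom.comp τ)
    ⟨e.symm.surjective.comp hτ.1, (key e.symm τ).symm ▸ hτ.2.1, (key e.symm τ).symm ▸ hτ.2.2⟩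
  exact ⟨(MulEquiv.subgroupCongr (key e.symm τ)).toMonoidHom.comp π,
    (MulEquiv.subgroupCongr (key e.symm τ)).surjective.comp hπ⟩

/-- Exceptional Schur multiplier: over the field with 2 elements, PSL₃ has Schur multiplier cyclic of order 2 (here the Schur multiplier is described through stem extensions, as in the definitions). -/
theorem result {F : Type*} [Field F] [Fintype F] (hF : Fintype.card F = 2) : Cfsg.HasCyclicSchurMultiplier (Matrix.ProjectiveSpecialLinearGroup (Fin 3) F) 2 := by
  classical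
  haveI : Fact (Nat.Prime 7) := ⟨by norm_num⟩
  have key : ∀ {K : Type _} [Field K] [Fintype K] {n : ℕ}, 1 ≤ n →
      Nat.card (Matrix.ProjectiveSpecialLinearGroup (Fin n) K) * (Nat.gcd n (Fintype.card K - 1) *
        (Fintype.card K - 1)) = ∏ i : Fin n, (Fintype.card K ^ n - Fintype.card K ^ (i : ℕ)) :=
    fun {K} _ _ {n} hn => by
      rw [← Matrix.card_GL_field, Classical.natCard_GL_eq_SL_mul n hn, ← Classical.natCard_PSL_mul n hn,
        Classical.natCard_units_field]
      ring
  let L := ULift (ZMod 7)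
  have hL : Fintype.card L = 7 := by rw [Fintype.card_ulift, ZMod.card]
  haveI hs1 : IsSimpleGroup (Matrix.ProjectiveSpecialLinearGroup (Fin 3) F) :=
    Classical.PSL_isSimple (by norm_num) (fun h => by norm_num at h)
  haveI hs2 : IsSimpleGroup (Matrix.ProjectiveSpecialLinearGroup (Fin 2) L) :=
    Classical.PSL_isSimple le_rfl (fun _ => by rw [hL]; norm_num)
  have h1 : Nat.card (Matrix.ProjectiveSpecialLinearGroup (Fin 3) F) = 168 := by
    have := key (K := F) (n := 3) (by norm_num)
    rw [hF, Fin.prod_univ_three] at this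
    norm_num [-Nat.card_eq_fintype_card] at this
    exact this
  have h2 : Nat.card (Matrix.ProjectiveSpecialLinearGroup (Fin 2) L) = 168 := by
    have := key (K := L) (n := 2) (by norm_num)
    rw [hL, Fin.prod_univ_two] at this
    norm_num [-Nat.card_eq_fintype_card] at this
    omega
  obtain ⟨e⟩ := Invol.O168.iso h2 h1
  refine multiplier_congr e ?_
  have := S2086.result (F := L) (q := 7) hL 2 le_rfl (fun _ => by norm_num) (by simp)
  exact this

end Cfsg.Agent.S2087
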