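import Cfsg.Statements.S2103
import Cfsg.Agent.Lib.Lie.Chev.SteinbergUnivF4
import Cfsg.Agent.S1078
-- import your own Cfsg.Agent.* helpers here

set_option autoImplicit false
open Cfsg

namespace Cfsg.Agent.S2103

/-- Schur multipliers of the Chevalley groups of type F₄: over a finite field with more than 2 elements the Schur multiplier of F₄(q) is trivial (here the Schur multiplier is described through stem extensions, as in the definitions); q = 2 is exceptional. -/
theorem result {F : Type*} [Field F] [Fintype F] (hF : 3 ≤ Fintype.card F) : Cfsg.HasCyclicSchurMultiplier ↥(Cfsg.Lie.chevF4.group F) 1 := by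
  have hN : Lie.Chev.checkNbr Lie.Chev.certFullF4.T = true := by decide +kernel
  have hU : Lie.Chev.certFullF4.T.checkUnit = true := by decide +kernel
  refine Lie.Chev.certFullF4.schurMultiplier_unit F hN hU Lie.Chev.perfectF4 ?_ ?_ (Or.inl rfl)
  · classical
    obtain ⟨x, hx1⟩ := Fintype.exists_ne_of_one_lt_card (α := {x : F // x ≠ 0}) (by
      rw [Fintype.card_subtype_compl, Fintype.card_subtype_eq]; omega) ⟨1, one_ne_zero⟩
    exact ⟨Units.mk0 x x.2, fun e => hx1 (Subtype.ext (congrArg Units.val e))⟩
  · rw [Lie.Chev.certFullF4.card_center_cover F hN,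
      S1078.result (K := F) Cfsg.Lie.chevF4 (by simp), Subgroup.card_bot]

end Cfsg.Agent.S2103
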