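import Cfsg.Statements.S2105
import Cfsg.Agent.Lib.Lie.Chev.SteinbergSLCerts
-- import your own Cfsg.Agent.* helpers here

set_option autoImplicit false
open Cfsg

namespace Cfsg.Agent.S2105

/-- Schur multipliers of the (adjoint, simple) Chevalley groups of type E₆: over a field with q elements the Schur multiplier is cyclic of order gcd(3, q − 1) (here the Schur multiplier is described through stem extensions, as in the definitions). -/
theorem result {F : Type*} [Field F] [Fintype F] {q : ℕ} (hF : Fintype.card F = q) : Cfsg.HasCyclicSchurMultiplier ↥(Cfsg.Lie.chevE6.group F) (Nat.gcd 3 (q - 1)) := by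
  have hN : Lie.Chev.checkNbr Lie.Chev.certFullE6.T = true := by decide +kernel
  refine Lie.Chev.certFullE6.schurMultiplier_SL F hN Lie.Chev.slE6 Lie.Chev.perfectE6 ?_ ?_
  · rw [Lie.Chev.certFullE6.card_center_cover F hN, Lie.Chev.card_center_E6 F, hF]
  · exact (Nat.dvd_prime (by norm_num : Nat.Prime 3)).1 (Nat.gcd_dvd_left _ _) |>.imp_right
      fun e => by rw [e]; norm_num

end Cfsg.Agent.S2105
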