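import Cfsg.Statements.S2107
import Cfsg.Agent.Lib.Lie.Chev.SteinbergSLCerts
import Cfsg.Agent.S1078
-- import your own Cfsg.Agent.* helpers here

set_option autoImplicit false
open Cfsg

namespace Cfsg.Agent.S2107

/-- Schur multipliers of the Chevalley groups of type E₈: over every finite field the Schur multiplier of E₈(q) is trivial (here the Schur multiplier is described through stem extensions, as in the definitions). -/
theorem result {F : Type*} [Field F] [Fintype F] : Cfsg.HasCyclicSchurMultiplier ↥(Cfsg.Lie.chevE8.group F) 1 := by
  have hN : Lie.Chev.checkNbr Lie.Chev.certFullE8.T = true := by decide +kernel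
  refine Lie.Chev.certFullE8.schurMultiplier_SL F hN Lie.Chev.slE8 Lie.Chev.perfectE8 ?_ ?_
  · rw [Lie.Chev.certFullE8.card_center_cover F hN,
      S1078.result (K := F) Cfsg.Lie.chevE8 (by simp), Subgroup.card_bot]
  · exact Or.inl rfl

end Cfsg.Agent.S2107
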