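import Cfsg.Statements.S2108
import Cfsg.Agent.Lib.Classical.E6MultMain
import Cfsg.Agent.Lib.Classical.E6MultCover
import Cfsg.Agent.Lib.Spor.Multiplier
-- import your own Cfsg.Agent.* helpers here

set_option autoImplicit false
open Cfsg

namespace Cfsg.Agent.S2108

universe v

/-- A group inside the powers of an element killed by `n` is an image of the cyclic group of order `n`. -/
theorem exists_surj_zmod {E : Type v} [Group E] {H : Subgroup E} {z : E} {n : ℕ} (hz : z ^ n = 1)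
    (hH : H ≤ Subgroup.zpowers z) :
    ∃ θ : Multiplicative (ZMod n) →* H, Function.Surjective θ := by
  haveI : IsCyclic H := Subgroup.isCyclic_of_le hH
  obtain ⟨g, hg⟩ := IsCyclic.exists_generator (α := H)
  have hgn : g ^ n = 1 := by
    obtain ⟨k, hk⟩ := Subgroup.mem_zpowers_iff.1 (hH g.2)
    refine Subtype.ext ?_
    rw [Subgroup.coe_pow, ← hk, Subgroup.coe_one, ← zpow_natCast, ← zpow_mul, mul_comm, zpow_mul,
      zpow_natCast, hz, one_zpow]
  let θ : ZMod n →+ Additive H := ZMod.lift n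
    ⟨zmultiplesHom _ (Additive.ofMul g), by
      rw [zmultiplesHom_apply, ← ofMul_zpow, zpow_natCast, hgn]; rfl⟩
  refine ⟨AddMonoidHom.toMultiplicativeLeft θ, fun x => ?_⟩
  obtain ⟨k, rfl⟩ := Subgroup.mem_zpowers_iff.1 (hg x)
  refine ⟨Multiplicative.ofAdd (k : ZMod n), ?_⟩
  show Additive.toMul (θ (k : ZMod n)) = g ^ k
  rw [ZMod.lift_coe]
  rfl

/-- Schur multipliers of the twisted groups of type ²E₆: for a prime power q ≠ 2, with the group realised over the field with q² elements, the Schur multiplier of ²E₆(q) is cyclic of order gcd(3, q + 1) (here the Schur multiplier is described through stem extensions, as in the definitions); q = 2 is exceptional. -/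
theorem result {K : Type*} [Field K] [Fintype K] {q : ℕ} (hq : IsPrimePow q) (hK : Fintype.card K = q ^ 2) (h2 : q ≠ 2) : Cfsg.HasCyclicSchurMultiplier ↥(Cfsg.Lie.twistedE6 K q) (Nat.gcd 3 (q + 1)) := by
  obtain ⟨f, hf⟩ := Cfsg.Agent.Lie.Chev.exists_qPow hq hK
  have hq3 : 3 ≤ q := by
    have := hq.two_le
    omega
  have : Finite ↥(Cfsg.Lie.twistedE6 K q) := Subtype.finite
  have upper : ∀ (Δ : Type _) [Group Δ] [Finite Δ] (σ : Δ →* ↥(Cfsg.Lie.twistedE6 K q)),
      Cfsg.IsStemExtension σ → ∃ z0 : Δ, z0 ^ Nat.gcd 3 (q + 1) = 1 ∧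
        σ.ker ≤ Subgroup.zpowers z0 := fun Δ _ _ σ hσ =>
    Cfsg.Agent.Classical.E6Mult.stem_ker f hf hK (π := σ) hq3 hσ.1 hσ.2.1 hσ.2.2
  rcases (Nat.dvd_prime Nat.prime_three).1 (Nat.gcd_dvd_left 3 (q + 1)) with hd | hd
  · rw [hd]
    refine Cfsg.Agent.Spor.Mult.trivial_of_forall fun Δ _ _ σ hσ => ?_
    obtain ⟨z0, h0, hker⟩ := upper Δ σ hσ
    rw [hd, pow_one] at h0
    rw [h0, Subgroup.zpowers_one_eq_bot] at hker
    exact le_bot_iff.1 hker
  rw [hd]
  have h3 : 3 ∣ q + 1 := hd ▸ Nat.gcd_dvd_right 3 (q + 1)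
  obtain ⟨Γ, _, _, σ, hσ, z, hz, ho⟩ := Cfsg.Agent.Classical.E6Mult.exists_cover f hf hK h3
    (Cfsg.Agent.Lie.Chev.E6.perfect f hf hK)
  refine ⟨⟨Γ, inferInstance, inferInstance, σ, hσ, ?_⟩, fun Δ _ _ τ hτ => ?_⟩
  · obtain ⟨z0, h0, hker⟩ := upper Γ σ hσ
    rw [hd] at h0
    have hle : Nat.card σ.ker ≤ 3 := by
      refine (Nat.le_of_dvd ?_ (Subgroup.card_dvd_of_le hker)).trans ?_
      · exact Nat.card_pos
      · rw [Nat.card_zpowers]; exact orderOf_le_of_pow_eq_one (by norm_num) h0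
    have hge : 3 ≤ Nat.card σ.ker := by
      refine Nat.le_of_dvd Nat.card_pos ?_
      rw [← ho, ← Subgroup.orderOf_mk z hz]
      exact orderOf_dvd_natCard _
    haveI : Fact (Nat.Prime 3) := ⟨Nat.prime_three⟩
    exact ⟨mulEquivOfPrimeCardEq (p := 3) (le_antisymm hle hge) (by simp)⟩
  · obtain ⟨z0, h0, hker⟩ := upper Δ τ hτ
    rw [hd] at h0
    exact exists_surj_zmod h0 hker

end Cfsg.Agent.S2108
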