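import Cfsg.Statements.S2132
import Cfsg.Agent.Lib.Spor.Cos.McLOut.Cent

set_option autoImplicit false
open Cfsg

namespace Cfsg.Agent.S2132

/-- The McLaughlin group (as a two-vector stabiliser in the automorphism group of the rank-24 lattice) has a single conjugacy class of involutions, and the centraliser of an involution is a non-split double cover of the alternating group of degree 8. -/
theorem result : (∀ x y : ↥Cfsg.Spor.McL, orderOf x = 2 → orderOf y = 2 → IsConj x y) ∧ ∃ t : ↥Cfsg.Spor.McL, orderOf t = 2 ∧ Cfsg.IsNonsplitDoubleCover ↥(Subgroup.centralizer ({t} : Set ↥Cfsg.Spor.McL)) ↥(alternatingGroup (Fin 8)) := by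
  set e := Cfsg.Agent.Spor.Cos.McLOut.equivMcL with he
  refine ⟨fun x y hx hy => ?_, e.symm (Cfsg.Agent.Spor.Cos.McLOut.g 0), ?_, ?_⟩
  · have key : ∀ x : ↥Cfsg.Spor.McL, orderOf x = 2 → IsConj (Cfsg.Agent.Spor.Cos.McLOut.g 0) (e x) :=
      fun x hx => Cfsg.Agent.Spor.Cos.McLOut.conj_z (by rw [MulEquiv.orderOf_eq, hx])
    obtain ⟨c, hc⟩ := isConj_iff.1 ((key x hx).symm.trans (key y hy))
    exact isConj_iff.2 ⟨e.symm c, e.injective (by simp [hc])⟩
  · rw [MulEquiv.orderOf_eq]
    exact Cfsg.Agent.Spor.Cos.McLOut.z_order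
  · let f : ↥Cfsg.Agent.Spor.Cos.McLOut.C ≃*
        ↥(Subgroup.centralizer ({e.symm (Cfsg.Agent.Spor.Cos.McLOut.g 0)} : Set ↥Cfsg.Spor.McL)) :=
      (e.symm.subgroupMap _).trans (MulEquiv.subgroupCongr (by
        ext x
        rw [Subgroup.map_equiv_eq_comap_symm, Subgroup.mem_comap, Subgroup.mem_centralizer_singleton_iff,
          Subgroup.mem_centralizer_singleton_iff]
        exact ⟨fun h => e.injective (by simpa using h), fun h => by simpa using congrArg e h⟩))
    exact Cfsg.Agent.Spor.Cos.isNonsplitDoubleCover_congr f Cfsg.Agent.Spor.Cos.McLOut.double_C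

end Cfsg.Agent.S2132
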