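import Cfsg.Statements.S2135
import Cfsg.Agent.Lib.Spor.Cos.J3.Cover
import Cfsg.Agent.Lib.Spor.Cos.J3.Transfer
import Cfsg.Agent.Lib.Spor.Cos.J3Cent.Main

set_option autoImplicit false
open Cfsg

namespace Cfsg.Agent.S2135

/-- For any field with 4 elements and any element ω of it with ω² + ω + 1 = 0: in the Janko group J₃ (the group generated by explicit 9 × 9 matrices over that field built from ω, taken modulo its centre) all involutions are conjugate, and the centraliser C of an involution has a normal extraspecial subgroup Q of order 32 containing no elementary abelian subgroup of order 8, complemented in C, with C / Q isomorphic to the alternating group of degree 5 (shape 2^{1+4}_-:A₅). -/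
theorem result {F : Type*} [Field F] [Fintype F] (hF : Fintype.card F = 4) (ω : F) (hω : ω ^ 2 + ω + 1 = 0) : (∀ x y : Cfsg.Spor.J3 F ω, orderOf x = 2 → orderOf y = 2 → IsConj x y) ∧ ∃ t : Cfsg.Spor.J3 F ω, orderOf t = 2 ∧ ∃ (Q : Subgroup ↥(Subgroup.centralizer ({t} : Set (Cfsg.Spor.J3 F ω)))) (_ : Q.Normal), Cfsg.IsExtraspecial 2 Q ∧ Nat.card Q = 32 ∧ (∀ E : Subgroup Q, Cfsg.IsElementaryAbelian 2 E → Nat.card E ≤ 2 ^ 2) ∧ (∃ H : Subgroup ↥(Subgroup.centralizer ({t} : Set (Cfsg.Spor.J3 F ω))), Q.IsComplement' H) ∧ Nonempty (↥(Subgroup.centralizer ({t} : Set (Cfsg.Spor.J3 F ω))) ⧸ Q ≃* ↥(alternatingGroup (Fin 5))) := by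
  open Cfsg.Agent.Spor.Cos Cfsg.Agent.Spor.Cos.J3 in
  obtain ⟨φ, -, ⟨e⟩⟩ := exists_transfer hF ω hω
  open Cfsg.Agent.Spor.Cos Cfsg.Agent.Spor.Cos.J3 in
  have hmap : (Subgroup.center U9).map e.toMonoidHom = Subgroup.center ↥(Cfsg.Spor.threeJ3 F ω) := by
    ext x
    simp only [Subgroup.mem_map, MulEquiv.coe_toMonoidHom, Subgroup.mem_center_iff]
    constructor
    · rintro ⟨u, hu, rfl⟩ y
      obtain ⟨v, rfl⟩ := e.surjective y
      rw [← map_mul, ← map_mul, hu v]
    · intro hx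
      refine ⟨e.symm x, fun v => e.injective ?_, e.apply_symm_apply x⟩
      rw [map_mul, map_mul, e.apply_symm_apply]
      exact hx (e v)
  open Cfsg.Agent.Spor.Cos Cfsg.Agent.Spor.Cos.J3 in
  let q : P ≃* Cfsg.Spor.J3 F ω := quotEquiv.symm.trans (QuotientGroup.congr _ _ e hmap)
  have := Cfsg.Agent.Spor.Cos.J3.finite
  have : Finite (Cfsg.Spor.J3 F ω) := Finite.of_equiv _ q.toEquiv
  open Cfsg.Agent.Spor.Cos.J3Cent in
  obtain ⟨hn, hiso⟩ := quotientJ q
  open Cfsg.Agent.Spor.Cos.J3Cent in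
  exact ⟨conj_involutions q, tJ q, tJ_order q, QJ q, hn, (structureJ q).1, card_QJ q, (structureJ q).2,
    ⟨HJ q, complJ q⟩, hiso⟩

end Cfsg.Agent.S2135
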