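import Cfsg.Statements.S2140
import Cfsg.Agent.Lib.Lie.MinIndexSL
import Cfsg.Prelude.Def_LinearParabolics
-- import your own Cfsg.Agent.* helpers here

set_option autoImplicit false
open Cfsg

namespace Cfsg.Agent.S2140

/-- Minimal index of a proper subgroup of the linear groups: for n ≥ 3 and a field F with q elements, (n, q) ≠ (4, 2), every proper subgroup of PSL_n(F) has index at least (q^n − 1)/(q − 1), and some subgroup has exactly that index (the stabiliser of a point of the projective space). -/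
theorem result {F : Type*} [Field F] [Fintype F] {q : ℕ} (hF : Fintype.card F = q) (n : ℕ) (hn : 3 ≤ n) (hexc : ¬ (n = 4 ∧ q = 2)) : (∀ H : Subgroup (Matrix.ProjectiveSpecialLinearGroup (Fin n) F), H ≠ ⊤ → (q ^ n - 1) / (q - 1) ≤ H.index) ∧ (∃ H : Subgroup (Matrix.ProjectiveSpecialLinearGroup (Fin n) F), H.index = (q ^ n - 1) / (q - 1)) := by
  obtain ⟨k, rfl⟩ : ∃ k, n = k + 3 := ⟨n - 3, by omega⟩
  subst hF
  have hq : 2 ≤ Fintype.card F := Fintype.one_lt_card
  have hB : (Fintype.card F ^ (k + 3) - 1) / (Fintype.card F - 1) =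
      Cfsg.Agent.Lie.MinIndex.B (Fintype.card F) (k + 3) := (Nat.geomSum_eq hq _).symm
  refine ⟨fun H hH => ?_, ?_⟩
  · rw [hB, Subgroup.index_eq_card]
    let π : Matrix.SpecialLinearGroup (Fin (k + 3)) F →* Matrix.ProjectiveSpecialLinearGroup (Fin (k + 3)) F :=
      QuotientGroup.mk' _
    let act : MulAction (Matrix.SpecialLinearGroup (Fin (k + 3)) F)
        (Matrix.ProjectiveSpecialLinearGroup (Fin (k + 3)) F ⧸ H) := MulAction.compHom _ π
    refine Cfsg.Agent.Lie.MinIndex.le_card ⟨fun x y => ?_⟩ ?_ fun h => hexc ⟨by omega, h.2⟩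
    · obtain ⟨g, hg⟩ := MulAction.exists_smul_eq (Matrix.ProjectiveSpecialLinearGroup (Fin (k + 3)) F) x y
      obtain ⟨g₀, rfl⟩ := QuotientGroup.mk'_surjective _ g
      exact ⟨g₀, hg⟩
    · rw [← Subgroup.index_eq_card]
      have h1 : H.index ≠ 0 := Subgroup.FiniteIndex.index_ne_zero
      have h2 : H.index ≠ 1 := fun e => hH (Subgroup.index_eq_one.1 e)
      omega
  · obtain ⟨x⟩ : Nonempty (Projectivization F (Fin (k + 3) → F)) := inferInstance
    refine ⟨MulAction.stabilizer (Matrix.ProjectiveSpecialLinearGroup (Fin (k + 3)) F) x, ?_⟩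
    rw [hB, MulAction.index_stabilizer_of_transitive, Projectivization.card_of_finrank F _ (by
      rw [Module.finrank_fintype_fun_eq_card, Fintype.card_fin]), Nat.card_eq_fintype_card]
    rfl

end Cfsg.Agent.S2140
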