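import Cfsg.Statements.S2141
import Cfsg.Agent.Lib.Lie.MinIndexSpEnd
import Cfsg.Agent.Lib.Classical.PSpRootGroups

set_option autoImplicit false
open Cfsg

namespace Cfsg.Agent.S2141

open Matrix MulAction Cfsg.Agent.Classical Cfsg.Agent.Lie.MinIndexSp in
theorem min_index {F : Type*} [Field F] [Fintype F] {q : ℕ} (hF : Fintype.card F = q) {m : ℕ} (hm : 2 ≤ m)
    (hq : 3 ≤ q) (hexc : ¬ (m = 2 ∧ q = 3)) :
    (∀ H : Subgroup (Cfsg.PSp m F), H ≠ ⊤ → (q ^ (2 * m) - 1) / (q - 1) ≤ H.index) ∧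
      (∃ H : Subgroup (Cfsg.PSp m F), H.index = (q ^ (2 * m) - 1) / (q - 1)) := by
  classical
  obtain ⟨d, hd⟩ : ∃ d, 2 * m = d + 2 := ⟨2 * m - 2, by omega⟩
  set e : Fin m ⊕ Fin m → F := Pi.single (Sum.inl ⟨0, by omega⟩) 1 with he
  have he0 : e ≠ 0 := fun h0 => one_ne_zero (α := F) (by
    have := congrFun h0 (Sum.inl ⟨0, by omega⟩)
    rwa [he, Pi.single_eq_same] at this)
  obtain ⟨f, P⟩ := exists_sympForm_eq_one he0
  set K := (q ^ (2 * m) - 1) / (q - 1) with hKdef
  have hK : (q - 1) * K = q ^ (2 * m) - 1 := by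
    rw [hKdef]
    exact Nat.mul_div_cancel' (by simpa using Nat.sub_dvd_pow_sub_pow q 1 (2 * m))
  have hpos : 0 < q - 1 := by omega
  refine ⟨fun H hH => ?_, ?_⟩
  · set H' := H.comap (QuotientGroup.mk' (Subgroup.center (Matrix.symplecticGroup (Fin m) F))) with hH'
    have hidx : H'.index = H.index :=
      Subgroup.index_comap_of_surjective H (QuotientGroup.mk'_surjective _)
    by_contra hcon
    letI : Fintype (Matrix.symplecticGroup (Fin m) F ⧸ H') := Fintype.ofFinite _
    have hcard : Fintype.card (Matrix.symplecticGroup (Fin m) F ⧸ H') = H.index := by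
      rw [← Nat.card_eq_fintype_card, ← hidx]; rfl
    haveI : Nontrivial (Matrix.symplecticGroup (Fin m) F ⧸ H') := by
      rw [← Fintype.one_lt_card_iff_nontrivial, hcard]
      have h0 : H.index ≠ 0 := Subgroup.index_ne_zero_of_finite
      have h1 : H.index ≠ 1 := fun e1 => hH (Subgroup.index_eq_one.1 e1)
      omega
    refine no_small (Ω := Matrix.symplecticGroup (Fin m) F ⧸ H') hF hd hq (by omega) (by omega) ?_ P
    rw [Cfsg.Agent.Lie.MinIndexSp.Small, hcard, ← hd]
    have h1 : H.index + 1 ≤ K := by omega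
    have h2 := Nat.mul_le_mul_right (q - 1) h1
    rw [Nat.mul_comm K, hK, Nat.add_mul, one_mul] at h2
    omega
  -- the stabiliser of a line
  let S : Subgroup (Matrix.symplecticGroup (Fin m) F) :=
    { carrier := {s | ∃ a : F, spVal s *ᵥ e = a • e}
      one_mem' := ⟨1, by rw [one_smul]; exact Matrix.one_mulVec e⟩
      mul_mem' := by
        rintro s t ⟨a, ha⟩ ⟨a', ha'⟩
        exact ⟨a' * a, by rw [spVal_mul_mulVec, ha', Matrix.mulVec_smul, ha, smul_smul]⟩
      inv_mem' := by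
        rintro s ⟨a, ha⟩
        refine ⟨a⁻¹, ?_⟩
        have ha0 : a ≠ 0 := fun e1 => he0 (sp_injective s (by
          show spVal s *ᵥ e = spVal s *ᵥ 0
          rw [ha, e1, zero_smul, Matrix.mulVec_zero]))
        have h1 : spVal s⁻¹ *ᵥ (a • e) = e := by rw [← ha, spVal_inv_mulVec]
        rw [Matrix.mulVec_smul] at h1
        rw [eq_comm, inv_smul_eq_iff₀ ha0, h1] }
  refine ⟨S.map (QuotientGroup.mk' (Subgroup.center (Matrix.symplecticGroup (Fin m) F))), ?_⟩
  rw [Subgroup.index_map_eq S (QuotientGroup.mk'_surjective _) fun s hs => by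
    obtain ⟨l, -, hl⟩ := (PSpAut.pi_eq_one_iff (by omega)).1 hs
    exact ⟨l, by show spVal s *ᵥ e = l • e; rw [spVal, hl, Matrix.smul_mulVec, Matrix.one_mulVec]⟩]
  let φ : (Matrix.symplecticGroup (Fin m) F ⧸ S) × Fˣ → {v : Fin m ⊕ Fin m → F // v ≠ 0} := fun p =>
    ⟨(p.2 : F) • (spVal p.1.out *ᵥ e), smul_ne_zero p.2.ne_zero fun e1 => he0 (sp_injective p.1.out (by
      show spVal p.1.out *ᵥ e = spVal p.1.out *ᵥ 0
      rw [e1, Matrix.mulVec_zero]))⟩
  have hφ : Function.Bijective φ := by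
    constructor
    · rintro ⟨x, a⟩ ⟨y, a'⟩ hab
      have h1 : (a : F) • (spVal x.out *ᵥ e) = (a' : F) • (spVal y.out *ᵥ e) := congrArg Subtype.val hab
      have h2 : x = y := by
        rw [← QuotientGroup.out_eq' x, ← QuotientGroup.out_eq' y, QuotientGroup.eq]
        refine ⟨(a' : F)⁻¹ * a, ?_⟩
        rw [← smul_smul, eq_inv_smul_iff₀ a'.ne_zero, spVal_mul_mulVec, ← Matrix.mulVec_smul, ← h1,
          Matrix.mulVec_smul, spVal_inv_mulVec]
      subst h2
      refine Prod.ext rfl (Units.ext (smul_left_injective F (fun e1 => ?_) h1))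
      exact he0 (sp_injective x.out (by
        show spVal x.out *ᵥ e = spVal x.out *ᵥ 0
        rw [e1, Matrix.mulVec_zero]))
    · rintro ⟨v, hv⟩
      obtain ⟨s, hs⟩ := symp_pretransitive he0 hv
      obtain ⟨a, ha⟩ : ((QuotientGroup.mk s : Matrix.symplecticGroup (Fin m) F ⧸ S).out)⁻¹ * s ∈ S :=
        QuotientGroup.eq.1 (QuotientGroup.out_eq' _)
      set x : Matrix.symplecticGroup (Fin m) F ⧸ S := QuotientGroup.mk s
      have h1 : v = a • (spVal x.out *ᵥ e) := by
        rw [← Matrix.mulVec_smul, ← ha, spVal_mul_mulVec, spVal_mulVec_inv]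
        exact hs.symm
      exact ⟨(x, Units.mk0 a fun e1 => hv (by rw [h1, e1, zero_smul])), Subtype.ext h1.symm⟩
  have h1 := Nat.card_eq_of_bijective φ hφ
  have h2 : Nat.card {v : Fin m ⊕ Fin m → F // v ≠ 0} = q ^ (2 * m) - 1 := by
    rw [Nat.card_eq_fintype_card, Fintype.card_subtype_compl, Fintype.card_subtype_eq, Fintype.card_fun, hF,
      Fintype.card_sum, Fintype.card_fin, two_mul]
  rw [h2, Nat.card_prod, Nat.card_units, Nat.card_eq_fintype_card (α := F), hF, ← hK, mul_comm] at h1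
  exact Nat.eq_of_mul_eq_mul_left hpos h1

/-- Minimal index of a proper subgroup of the symplectic groups over fields with at least 3 elements: for m ≥ 2 and a field F with q ≥ 3 elements, (m, q) ≠ (2, 3), every proper subgroup of PSp_2m(F) has index at least (q^(2m) − 1)/(q − 1), and that index is attained. -/
theorem result {F : Type*} [Field F] [Fintype F] {q : ℕ} (hF : Fintype.card F = q) (m : ℕ) (hm : 2 ≤ m) (hq : 3 ≤ q) (hexc : ¬ (m = 2 ∧ q = 3)) : (∀ H : Subgroup (Cfsg.PSp m F), H ≠ ⊤ → (q ^ (2 * m) - 1) / (q - 1) ≤ H.index) ∧ (∃ H : Subgroup (Cfsg.PSp m F), H.index = (q ^ (2 * m) - 1) / (q - 1)) := by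
  exact min_index hF hm hq hexc

end Cfsg.Agent.S2141
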