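import Cfsg.Statements.S2142
import Cfsg.Agent.Lib.Lie.MinIndexSpBinary
import Cfsg.Agent.Lib.Classical.PSpRootGroups

set_option autoImplicit false
open Cfsg

namespace Cfsg.Agent.S2142

open Matrix MulAction Cfsg.Agent.Classical Cfsg.Agent.Lie.MinIndexSp in
theorem min_index {F : Type*} [Field F] [Fintype F] (hF : Fintype.card F = 2) {m : ℕ} (hm : 3 ≤ m) :
    (∀ H : Subgroup (Cfsg.PSp m F), H ≠ ⊤ → 2 ^ (m - 1) * (2 ^ m - 1) ≤ H.index) ∧
      (∃ H : Subgroup (Cfsg.PSp m F), H.index = 2 ^ (m - 1) * (2 ^ m - 1)) := by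
  classical
  obtain ⟨d, hd⟩ : ∃ d, 2 * m = d + 2 := ⟨2 * m - 2, by omega⟩
  refine ⟨fun H hH => ?_, ?_⟩
  · set H' := H.comap (QuotientGroup.mk' (Subgroup.center (Matrix.symplecticGroup (Fin m) F))) with hH'
    have hidx : H'.index = H.index :=
      Subgroup.index_comap_of_surjective H (QuotientGroup.mk'_surjective _)
    letI : Fintype (Matrix.symplecticGroup (Fin m) F ⧸ H') := Fintype.ofFinite _
    have hcard : Fintype.card (Matrix.symplecticGroup (Fin m) F ⧸ H') = H.index := by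
      rw [← Nat.card_eq_fintype_card, ← hidx]; rfl
    haveI : Nontrivial (Matrix.symplecticGroup (Fin m) F ⧸ H') := by
      rw [← Fintype.one_lt_card_iff_nontrivial, hcard]
      have h0 : H.index ≠ 0 := Subgroup.index_ne_zero_of_finite
      have h1 : H.index ≠ 1 := fun e1 => hH (Subgroup.index_eq_one.1 e1)
      omega
    by_cases hsmall : Fintype.card (Matrix.symplecticGroup (Fin m) F ⧸ H') < 2 ^ (d + 1)
    · rw [← hcard]
      exact binary_bound (Ω := Matrix.symplecticGroup (Fin m) F ⧸ H') hF hd hsmall (by omega)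
    · rw [← hcard]
      refine le_trans ?_ (Nat.not_lt.1 hsmall)
      calc 2 ^ (m - 1) * (2 ^ m - 1) ≤ 2 ^ (m - 1) * 2 ^ m := Nat.mul_le_mul le_rfl (Nat.sub_le _ _)
        _ = 2 ^ (d + 1) := by rw [← pow_add]; congr 1; omega
  obtain ⟨T, hT⟩ := exists_binary_subgroup (m := m) hF (by omega)
  refine ⟨T.map (QuotientGroup.mk' (Subgroup.center (Matrix.symplecticGroup (Fin m) F))), ?_⟩
  rw [Subgroup.index_map_eq T (QuotientGroup.mk'_surjective _) fun s hs => by
    obtain ⟨l, hl2, hl⟩ := (PSpAut.pi_eq_one_iff (by omega)).1 hs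
    rcases zero_or_one hF l with rfl | rfl
    · exact absurd hl2 (by simp)
    · have e1 : s = 1 := Subtype.ext (by rw [hl, one_smul]; rfl)
      rw [e1]; exact one_mem _, hT]

/-- Minimal index of a proper subgroup of the symplectic groups over the field with 2 elements: for m ≥ 3, every proper subgroup of Sp_2m(2) has index at least 2^(m−1)(2^m − 1), and that index is attained. -/
theorem result {F : Type*} [Field F] [Fintype F] (hF : Fintype.card F = 2) (m : ℕ) (hm : 3 ≤ m) : (∀ H : Subgroup (Cfsg.PSp m F), H ≠ ⊤ → 2 ^ (m - 1) * (2 ^ m - 1) ≤ H.index) ∧ (∃ H : Subgroup (Cfsg.PSp m F), H.index = 2 ^ (m - 1) * (2 ^ m - 1)) := by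
  exact min_index hF hm

end Cfsg.Agent.S2142
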