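import Cfsg.Statements.S2143
import Cfsg.Agent.Lib.Lie.MinIndexOrthOdd
import Cfsg.Agent.Lib.Classical.OrthGenModels

set_option autoImplicit false
open Cfsg

namespace Cfsg.Agent.S2143

/-- Minimal index of a proper subgroup of the odd-dimensional orthogonal groups: for m ≥ 3 and a field F with q elements, q odd and q ≥ 5, every proper subgroup of PΩ_(2m+1)(F) (for the form x₀² + Σ xᵢyᵢ) has index at least (q^(2m) − 1)/(q − 1), and that index is attained. -/
theorem result {F : Type*} [Field F] [Fintype F] {q : ℕ} (hF : Fintype.card F = q) (hodd : Odd q) (h5 : 5 ≤ q) (m : ℕ) (hm : 3 ≤ m) : (∀ H : Subgroup (Cfsg.POmega F (Cfsg.quadFormOdd m F)), H ≠ ⊤ → (q ^ (2 * m) - 1) / (q - 1) ≤ H.index) ∧ (∃ H : Subgroup (Cfsg.POmega F (Cfsg.quadFormOdd m F)), H.index = (q ^ (2 * m) - 1) / (q - 1)) := by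
  have h2 : (2 : F) ≠ 0 := Cfsg.Agent.Classical.OrthAut.two_ne_zero_of_odd hF hodd
  subst hF
  obtain ⟨G, hG⟩ := Nat.sub_one_dvd_pow_sub_one (Fintype.card F) (2 * m)
  have hdiv : (Fintype.card F ^ (2 * m) - 1) / (Fintype.card F - 1) = G := by
    rw [hG, Nat.mul_div_cancel_left _ (by omega)]
  rw [hdiv, ← Cfsg.Agent.Classical.coe_qfOdd]
  set_option synthInstance.maxHeartbeats 400000 in
  open Cfsg.Agent.Lie.MinIndexOrth in
  exact ⟨fun H hH => index_bound (fun H' _ _ => OddDim.index_le hm h2 h5 hG.symm) hH,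
    exists_point_subgroup (OddDim.hyp hm h2) (by rw [Cfsg.Agent.Classical.zeros_qfOdd]; exact hG.symm)⟩

end Cfsg.Agent.S2143
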