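import Cfsg.Statements.S2144
import Cfsg.Agent.Lib.Lie.MinIndexOrthOddThree

set_option autoImplicit false
open Cfsg

namespace Cfsg.Agent.S2144

/-- Minimal index of a proper subgroup of the odd-dimensional orthogonal groups over the field with 3 elements: for m ≥ 3, every proper subgroup of PΩ_(2m+1)(3) (for the form x₀² + Σ xᵢyᵢ) has index at least 3^m(3^m − 1)/2, and that index is attained. -/
theorem result {F : Type*} [Field F] [Fintype F] (hF : Fintype.card F = 3) (m : ℕ) (hm : 3 ≤ m) : (∀ H : Subgroup (Cfsg.POmega F (Cfsg.quadFormOdd m F)), H ≠ ⊤ → 3 ^ m * (3 ^ m - 1) / 2 ≤ H.index) ∧ (∃ H : Subgroup (Cfsg.POmega F (Cfsg.quadFormOdd m F)), H.index = 3 ^ m * (3 ^ m - 1) / 2) := by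
  set Bd := 3 ^ m * (3 ^ m - 1) / 2 with hBdd
  have hev : 2 ∣ 3 ^ m * (3 ^ m - 1) :=
    Dvd.dvd.mul_left (Nat.sub_one_dvd_pow_sub_one 3 m) _
  have h1 : 1 ≤ 3 ^ m := Nat.one_le_pow _ _ (by norm_num)
  have hBd : 2 * Bd + 3 ^ m = 3 ^ (2 * m) := by
    rw [hBdd, Nat.mul_div_cancel' hev, Nat.mul_sub, mul_one, show 2 * m = m + m by omega, pow_add]
    have := Nat.le_mul_of_pos_right (3 ^ m) h1
    omega
  rw [← Cfsg.Agent.Classical.coe_qfOdd]
  have h2 := Cfsg.Agent.Lie.MinIndexOrth.OddThree.two_ne hF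
  set_option synthInstance.maxHeartbeats 400000 in
  refine ⟨fun H hH => Cfsg.Agent.Lie.MinIndexOrth.index_bound
    (fun H' _ _ => Cfsg.Agent.Lie.MinIndexOrth.OddThree.index_le hm hF hBd) hH, ?_⟩
  obtain ⟨K, hK⟩ := Cfsg.Agent.Lie.MinIndexOrth.exists_aniso_subgroup
    (Cfsg.Agent.Lie.MinIndexOrth.OddDim.hyp hm h2) (c := (-1 : F)) (neg_ne_zero.2 one_ne_zero)
  have hmv := Cfsg.Agent.Lie.MinIndexOrth.OddThree.minus_values hF m
  rw [hF] at hmv
  have hunits : Nat.card {a : F // a * a = 1} = 2 := by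
    classical
    rw [Nat.card_congr (Equiv.subtypeEquivRight (q := fun a : F => a ≠ 0) fun a => ⟨fun h h0 => by
      rw [h0, mul_zero] at h; exact zero_ne_one h, fun h => by
      have h' := FiniteField.pow_card_sub_one_eq_one a h
      rw [hF, show 3 - 1 = 2 from rfl, sq] at h'; exact h'⟩), Nat.card_eq_fintype_card,
      Fintype.card_subtype_compl, Fintype.card_subtype_eq, hF]
  rw [hunits] at hK
  exact ⟨K, by omega⟩

end Cfsg.Agent.S2144
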