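import Cfsg.Statements.S2145
import Cfsg.Agent.Lib.Lie.MinIndexOrthPlus

set_option autoImplicit false
open Cfsg

namespace Cfsg.Agent.S2145

/-- Minimal index of a proper subgroup of the even-dimensional orthogonal groups of plus type: for m ≥ 4 and a field F with q ≥ 4 elements, every proper subgroup of PΩ⁺_2m(F) (for the form Σ xᵢyᵢ) has index at least (q^m − 1)(q^(m−1) + 1)/(q − 1), and that index is attained (the singular points). -/
theorem result {F : Type*} [Field F] [Fintype F] {q : ℕ} (hF : Fintype.card F = q) (hq : 4 ≤ q) (m : ℕ) (hm : 4 ≤ m) : (∀ H : Subgroup (Cfsg.POmega F (Cfsg.quadFormPlus m F)), H ≠ ⊤ → (q ^ m - 1) * (q ^ (m - 1) + 1) / (q - 1) ≤ H.index) ∧ (∃ H : Subgroup (Cfsg.POmega F (Cfsg.quadFormPlus m F)), H.index = (q ^ m - 1) * (q ^ (m - 1) + 1) / (q - 1)) := by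
  subst hF
  obtain ⟨k, rfl⟩ : ∃ k, m = k + 1 := ⟨m - 1, by omega⟩
  rw [Nat.add_sub_cancel]
  obtain ⟨G, hG⟩ := Nat.sub_one_dvd_pow_sub_one (Fintype.card F) (k + 1)
  set Bd := G * (Fintype.card F ^ k + 1)
  have hdiv : (Fintype.card F ^ (k + 1) - 1) * (Fintype.card F ^ k + 1) / (Fintype.card F - 1) = Bd := by
    rw [hG, mul_assoc, Nat.mul_div_cancel_left _ (by omega)]
  rw [hdiv]
  have hBd : (Fintype.card F - 1) * Bd + Fintype.card F ^ (k + 1 - 1) + 1 =
      Fintype.card F ^ (2 * (k + 1) - 1) + Fintype.card F ^ (k + 1) := by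
    have h1 : 1 ≤ Fintype.card F ^ (k + 1) := Nat.one_le_pow _ _ (by omega)
    have h : (Fintype.card F - 1) * Bd = (Fintype.card F ^ (k + 1) - 1) * (Fintype.card F ^ k + 1) := by
      rw [hG]; ring
    rw [h, Nat.add_sub_cancel, show 2 * (k + 1) - 1 = 2 * k + 1 by omega]
    zify [h1]
    ring
  rw [← Cfsg.Agent.Classical.coe_qfPlus]
  set_option synthInstance.maxHeartbeats 400000 in
  open Cfsg.Agent.Lie.MinIndexOrth in
  exact ⟨fun H hH => index_bound (fun H' _ _ => Plus.index_le hm hq hBd) hH,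
    exists_point_subgroup (Plus.hyp hm) (Plus.point_bound (by omega) hBd)⟩

end Cfsg.Agent.S2145
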