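import Cfsg.Statements.S2146
import Cfsg.Agent.Lib.Lie.MinIndexOrthPlusTwo

set_option autoImplicit false
open Cfsg

namespace Cfsg.Agent.S2146

/-- Minimal index of a proper subgroup of the even-dimensional orthogonal groups of plus type over the field with 2 elements: for m ≥ 4, every proper subgroup of Ω⁺_2m(2) (for the form Σ xᵢyᵢ) has index at least 2^(m−1)(2^m − 1), and that index is attained. -/
theorem result {F : Type*} [Field F] [Fintype F] (hF : Fintype.card F = 2) (m : ℕ) (hm : 4 ≤ m) : (∀ H : Subgroup (Cfsg.POmega F (Cfsg.quadFormPlus m F)), H ≠ ⊤ → 2 ^ (m - 1) * (2 ^ m - 1) ≤ H.index) ∧ (∃ H : Subgroup (Cfsg.POmega F (Cfsg.quadFormPlus m F)), H.index = 2 ^ (m - 1) * (2 ^ m - 1)) := by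
  obtain ⟨n, rfl⟩ : ∃ n, m = n + 1 := ⟨m - 1, by omega⟩
  rw [Nat.add_sub_cancel]
  set Bd := 2 ^ n * (2 ^ (n + 1) - 1) with hBdd
  have h1 : 1 ≤ 2 ^ (n + 1) := Nat.one_le_pow _ _ (by norm_num)
  have hBd : 2 * Bd + 2 ^ (n + 1) = 2 ^ (2 * (n + 1)) := by
    rw [hBdd]
    zify [h1]
    ring
  rw [← Cfsg.Agent.Classical.coe_qfPlus]
  set_option synthInstance.maxHeartbeats 400000 in
  refine ⟨fun H hH => Cfsg.Agent.Lie.MinIndexOrth.index_bound
    (fun H' _ _ => Cfsg.Agent.Lie.MinIndexOrth.PlusTwo.index_le hm hF hBd) hH, ?_⟩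
  obtain ⟨K, hK⟩ := Cfsg.Agent.Lie.MinIndexOrth.exists_aniso_subgroup
    (Cfsg.Agent.Lie.MinIndexOrth.Plus.hyp (F := F) hm) (c := (1 : F)) one_ne_zero
  have hmv := Cfsg.Agent.Lie.MinIndexOrth.Plus.values (F := F) (m := n + 1) (c := (1 : F)) one_ne_zero
  rw [hF] at hmv
  have hunits : Nat.card {a : F // a * a = 1} = 1 := by
    refine Nat.card_eq_one_iff_unique.2 ⟨⟨fun a b => Subtype.ext ?_⟩, ⟨⟨1, one_mul 1⟩⟩⟩
    have key : ∀ x : {a : F // a * a = 1}, (x : F) = 1 := fun x => by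
      have h0 : (x : F) ≠ 0 := fun h => by simpa [h] using x.2
      have h := FiniteField.pow_card_sub_one_eq_one (x : F) h0
      rwa [hF, show 2 - 1 = 1 from rfl, pow_one] at h
    rw [key a, key b]
  rw [hunits, mul_one] at hK
  exact ⟨K, by omega⟩

end Cfsg.Agent.S2146
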