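import Cfsg.Statements.S2147
import Cfsg.Agent.Lib.Lie.MinIndexOrthMinus

set_option autoImplicit false
open Cfsg

namespace Cfsg.Agent.S2147

/-- Minimal index of a proper subgroup of the even-dimensional orthogonal groups of minus type: for m ≥ 4 and a field F with q elements, every proper subgroup of PΩ⁻_2m(F) (for the form Σ_{i<m−1} xᵢyᵢ + z₁² + a z₁z₂ + b z₂² with anisotropic binary part) has index at least (q^m + 1)(q^(m−1) − 1)/(q − 1), and that index is attained. -/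
theorem result {F : Type*} [Field F] [Fintype F] {q : ℕ} (hF : Fintype.card F = q) (m : ℕ) (hm : 4 ≤ m) (a b : F) (hab : ∀ z₁ z₂ : F, z₁ ^ 2 + a * z₁ * z₂ + b * z₂ ^ 2 = 0 → z₁ = 0 ∧ z₂ = 0) : (∀ H : Subgroup (Cfsg.POmega F (Cfsg.quadFormMinus (m - 1) F a b)), H ≠ ⊤ → (q ^ m + 1) * (q ^ (m - 1) - 1) / (q - 1) ≤ H.index) ∧ (∃ H : Subgroup (Cfsg.POmega F (Cfsg.quadFormMinus (m - 1) F a b)), H.index = (q ^ m + 1) * (q ^ (m - 1) - 1) / (q - 1)) := by
  subst hF
  obtain ⟨k, rfl⟩ : ∃ k, m = k + 1 := ⟨m - 1, by omega⟩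
  rw [Nat.add_sub_cancel]
  have hk : 3 ≤ k := by omega
  have hq : 2 ≤ Fintype.card F := Fintype.one_lt_card
  obtain ⟨G, hG⟩ := Nat.sub_one_dvd_pow_sub_one (Fintype.card F) k
  set Bd := (Fintype.card F ^ (k + 1) + 1) * G
  have hdiv : (Fintype.card F ^ (k + 1) + 1) * (Fintype.card F ^ k - 1) / (Fintype.card F - 1) = Bd := by
    rw [hG, mul_left_comm, Nat.mul_div_cancel_left _ (by omega)]
  rw [hdiv]
  have hBd : (Fintype.card F - 1) * Bd + Fintype.card F ^ (k + 1) + 1 =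
      Fintype.card F ^ (2 * k + 1) + Fintype.card F ^ k := by
    have h1 : 1 ≤ Fintype.card F ^ k := Nat.one_le_pow _ _ (by omega)
    have h : (Fintype.card F - 1) * Bd = (Fintype.card F ^ (k + 1) + 1) * (Fintype.card F ^ k - 1) := by
      rw [hG]; ring
    rw [h]
    zify [h1]
    ring
  rw [← Cfsg.Agent.Classical.coe_qfMinus]
  set_option synthInstance.maxHeartbeats 400000 in
  open Cfsg.Agent.Lie.MinIndexOrth in
  exact ⟨fun H hH => index_bound (fun H' _ _ => Minus.index_le hab hk hBd) hH,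
    exists_point_subgroup (Minus.hyp hab hk) (Minus.point_bound hab hBd)⟩

end Cfsg.Agent.S2147
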