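import Cfsg.Statements.S2162
-- import your own Cfsg.Agent.* helpers here

set_option autoImplicit false
open Cfsg
open Module

namespace Cfsg.Agent.S2162

variable {F : Type*} [Field F] {n : ℕ}

/-- The standard nilpotent map of square zero and rank `r`. -/
def stdNil (F : Type*) [Field F] (r m : ℕ) :
    ((Fin r → F) × (Fin r → F) × (Fin m → F)) →ₗ[F] ((Fin r → F) × (Fin r → F) × (Fin m → F)) where
  toFun p := (0, p.1, 0)
  map_add' p q := by simp
  map_smul' c p := by simp

/-- Coordinates adapted to a map of square zero. -/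
theorem exists_adapted (N : (Fin n → F) →ₗ[F] (Fin n → F)) (hN : ∀ v, N (N v) = 0) (r : ℕ)
    (hNr : finrank F (LinearMap.range N) = r) :
    ∃ E : ((Fin r → F) × (Fin r → F) × (Fin (n - 2 * r) → F)) ≃ₗ[F] (Fin n → F),
      ∀ p, N (E p) = E (stdNil F _ _ p) := by
  classical
  obtain ⟨C, hC⟩ := Submodule.exists_isCompl (LinearMap.ker N)
  obtain ⟨D', hD'⟩ := Submodule.exists_isCompl ((LinearMap.range N).comap (LinearMap.ker N).subtype)
  have hRK : LinearMap.range N ≤ LinearMap.ker N := by
    rintro _ ⟨v, rfl⟩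
    exact hN v
  have hrn := LinearMap.finrank_range_add_finrank_ker N
  rw [Module.finrank_fin_fun, hNr] at hrn
  have hCr : finrank F C = r := by
    have := Submodule.finrank_add_eq_of_isCompl hC
    rw [Module.finrank_fin_fun] at this
    omega
  have hDm : finrank F D' = n - 2 * r := by
    have h := Submodule.finrank_add_eq_of_isCompl hD'
    rw [(Submodule.comapSubtypeEquivOfLe hRK).finrank_eq, hNr] at h
    omega
  have h2r : 2 * r ≤ n := by
    have := Submodule.finrank_mono hRK
    omega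
  have : Module.Free F D' := Module.Free.of_divisionRing F D'
  let c : (Fin r → F) ≃ₗ[F] C := ((Module.finBasisOfFinrankEq F C hCr).equivFun).symm
  let d : (Fin (n - 2 * r) → F) ≃ₗ[F] D' := ((Module.finBasisOfFinrankEq F D' hDm).equivFun).symm
  let E₀ : ((Fin r → F) × (Fin r → F) × (Fin (n - 2 * r) → F)) →ₗ[F] (Fin n → F) :=
    (C.subtype ∘ₗ c.toLinearMap).coprod
      ((N ∘ₗ C.subtype ∘ₗ c.toLinearMap).coprod ((LinearMap.ker N).subtype ∘ₗ D'.subtype ∘ₗ d.toLinearMap))
  have hE : ∀ x y z, E₀ (x, y, z) = (c x : Fin n → F) + (N (c y) + ((d z : LinearMap.ker N) : Fin n → F)) :=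
    fun x y z => by simp [E₀]
  have hNE : ∀ x y z, N (E₀ (x, y, z)) = N (c x) := fun x y z => by
    rw [hE, map_add, map_add, hN, LinearMap.mem_ker.1 (d z : LinearMap.ker N).2, add_zero, add_zero]
  have hCK : ∀ x, N (c x) = 0 → x = 0 := fun x hx => by
    have : (c x : Fin n → F) ∈ LinearMap.ker N ⊓ C := ⟨hx, (c x).2⟩
    rw [hC.inf_eq_bot, Submodule.mem_bot] at this
    exact c.injective (Subtype.ext (by simpa using this))
  have hinj : Function.Injective E₀ := by
    rw [injective_iff_map_eq_zero]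
    rintro ⟨x, y, z⟩ h
    have hx : x = 0 := hCK x (by rw [← hNE x y z, h, map_zero])
    subst hx
    rw [hE, map_zero, Submodule.coe_zero, zero_add] at h
    have hz : ((d z : LinearMap.ker N)) ∈ (LinearMap.range N).comap (LinearMap.ker N).subtype ⊓ D' := by
      refine ⟨⟨-(c y : Fin n → F), ?_⟩, (d z).2⟩
      rw [map_neg]
      exact neg_eq_of_add_eq_zero_right h
    rw [hD'.inf_eq_bot, Submodule.mem_bot] at hz
    have hz0 : z = 0 := d.injective (Subtype.ext (by simpa using hz))
    subst hz0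
    have hy : y = 0 := hCK y (by simpa using h)
    subst hy
    rfl
  have hdim : finrank F ((Fin r → F) × (Fin r → F) × (Fin (n - 2 * r) → F)) = finrank F (Fin n → F) := by
    simp only [Module.finrank_prod, Module.finrank_fin_fun]
    omega
  refine ⟨LinearEquiv.ofBijective E₀
    ⟨hinj, (LinearMap.injective_iff_surjective_of_finrank_eq_finrank hdim).1 hinj⟩, fun p => ?_⟩
  obtain ⟨x, y, z⟩ := p
  show N (E₀ (x, y, z)) = E₀ (0, x, 0)
  rw [hNE, hE]
  simp

/-- Two square zero maps of the same nonzero rank are conjugate by a map of determinant one, provided that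
every scalar is a square. -/
theorem exists_conj (hsq : ∀ x : F, IsSquare x) (A B : (Fin n → F) →ₗ[F] (Fin n → F))
    (hA : ∀ v, A (A v) = 0) (hB : ∀ v, B (B v) = 0) (hA0 : A ≠ 0)
    (hr : finrank F (LinearMap.range A) = finrank F (LinearMap.range B)) :
    ∃ g : (Fin n → F) →ₗ[F] (Fin n → F), LinearMap.det g = 1 ∧ g ∘ₗ A = B ∘ₗ g := by
  classical
  obtain ⟨r, hrdef⟩ : ∃ r, finrank F (LinearMap.range A) = r := ⟨_, rfl⟩
  obtain ⟨E, hE⟩ := exists_adapted A hA r hrdef
  obtain ⟨E', hE'⟩ := exists_adapted B hB r (hr.symm.trans hrdef)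
  have hr0 : 0 < r := Nat.pos_of_ne_zero fun h => hA0 (LinearMap.range_eq_bot.1 (Submodule.finrank_eq_zero.1 (hrdef.trans h)))
  set g₀ : (Fin n → F) ≃ₗ[F] (Fin n → F) := E.symm.trans E'
  obtain ⟨t, ht⟩ := hsq (LinearMap.det (g₀ : (Fin n → F) →ₗ[F] (Fin n → F)))⁻¹
  set u : Fin r → F := Function.update 1 ⟨0, hr0⟩ t
  let S : (Fin r → F) →ₗ[F] (Fin r → F) := Matrix.toLin' (Matrix.diagonal u)
  have hS : ∀ x i, S x i = u i * x i := fun x i => by simp [S, Matrix.mulVec_diagonal]
  have hdetS : LinearMap.det S = t := by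
    rw [LinearMap.det_toLin', Matrix.det_diagonal, Finset.prod_eq_single ⟨0, hr0⟩ (fun j _ hj => by
      simp [u, Function.update_of_ne hj]) (by simp)]
    simp [u]
  let T : ((Fin r → F) × (Fin r → F) × (Fin (n - 2 * r) → F)) →ₗ[F] ((Fin r → F) × (Fin r → F) × (Fin (n - 2 * r) → F)) :=
    S.prodMap (S.prodMap LinearMap.id)
  have hT : ∀ p, T (stdNil F r (n - 2 * r) p) = stdNil F r (n - 2 * r) (T p) := fun p => by
    simp [T, stdNil]
  refine ⟨E'.toLinearMap ∘ₗ T ∘ₗ E.symm.toLinearMap, ?_, LinearMap.ext fun v => ?_⟩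
  · have : E'.toLinearMap ∘ₗ T ∘ₗ E.symm.toLinearMap =
        g₀.toLinearMap ∘ₗ (E.toLinearMap ∘ₗ T ∘ₗ E.symm.toLinearMap) := LinearMap.ext fun v => by simp [g₀]
    rw [this, LinearMap.det_comp, LinearMap.det_conj]
    simp only [T, LinearMap.det_prodMap, hdetS, LinearMap.det_id, mul_one]
    rw [← ht, mul_inv_cancel₀ (g₀.isUnit_det').ne_zero]
  · obtain ⟨p, rfl⟩ := E.surjective v
    show E' (T (E.symm (A (E p)))) = B (E' (T (E.symm (E p))))
    refine Eq.trans ?_ (hE' _).symm
    refine congrArg E' ?_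
    rw [← hT]
    refine congrArg T ?_
    rw [LinearEquiv.symm_apply_apply]
    exact (congrArg E.symm (hE p)).trans (E.symm_apply_apply _)

/-- An involution in characteristic two has square zero fixed-point defect. -/
theorem sub_one_sq [CharP F 2] {a : Matrix.SpecialLinearGroup (Fin n) F} (ha : a ^ 2 = 1) :
    ((a : Matrix (Fin n) (Fin n) F) - 1) * ((a : Matrix (Fin n) (Fin n) F) - 1) = 0 := by
  have h : (a : Matrix (Fin n) (Fin n) F) * a = 1 := by
    have := congrArg (fun x : Matrix.SpecialLinearGroup (Fin n) F => (x : Matrix (Fin n) (Fin n) F)) ha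
    simpa [pow_two] using this
  have h2 : (2 : Matrix (Fin n) (Fin n) F) = 0 := by
    rw [← Nat.cast_two, ← Matrix.diagonal_natCast, CharP.cast_eq_zero F 2]
    simp
  rw [sub_mul, mul_sub, mul_sub, h, mul_one, one_mul]
  calc 1 - (a : Matrix (Fin n) (Fin n) F) - (↑a - 1 * 1) = 2 * (1 - (a : Matrix (Fin n) (Fin n) F)) := by
        rw [one_mul, two_mul]; abel
    _ = 0 := by rw [h2, zero_mul]


/-- Conjugacy of involutions in the special linear group over a finite field of characteristic two, in dimension at least 3: two elements of order 2 of SL_n(F) are conjugate in SL_n(F) exactly when the matrices a − 1 and b − 1 have the same rank (the rank of a − 1 is the dimension of the commutator space [V, a]). -/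
theorem result {F : Type*} [Field F] [Fintype F] [CharP F 2] {n : ℕ} (hn : 3 ≤ n) (a b : Matrix.SpecialLinearGroup (Fin n) F) (ha : orderOf a = 2) (hb : orderOf b = 2) :
    IsConj a b ↔ ((a : Matrix (Fin n) (Fin n) F) - 1).rank = ((b : Matrix (Fin n) (Fin n) F) - 1).rank := by
  classical
  constructor
  · intro h
    obtain ⟨c, hc⟩ := isConj_iff.1 h
    rw [← hc]
    have e : ((c * a * c⁻¹ : Matrix.SpecialLinearGroup (Fin n) F) : Matrix (Fin n) (Fin n) F) - 1 =
        (c : Matrix (Fin n) (Fin n) F) * ((a : Matrix (Fin n) (Fin n) F) - 1) *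
          ((c⁻¹ : Matrix.SpecialLinearGroup (Fin n) F) : Matrix (Fin n) (Fin n) F) := by
      rw [mul_sub, sub_mul, mul_one]
      simp only [← Matrix.SpecialLinearGroup.coe_mul, mul_inv_cancel]
      rfl
    rw [e, Matrix.rank_mul_eq_left_of_isUnit_det _ _ (by rw [Matrix.SpecialLinearGroup.det_coe]; exact isUnit_one),
      Matrix.rank_mul_eq_right_of_isUnit_det _ _ (by rw [Matrix.SpecialLinearGroup.det_coe]; exact isUnit_one)]
  · intro hr
    have hsq : ∀ x : F, IsSquare x := fun x => FiniteField.isSquare_of_char_two (ringChar.eq F 2) x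
    have ha2 : a ^ 2 = 1 := by rw [← ha]; exact pow_orderOf_eq_one a
    have hb2 : b ^ 2 = 1 := by rw [← hb]; exact pow_orderOf_eq_one b
    have hA : ∀ v, Matrix.toLin' ((a : Matrix (Fin n) (Fin n) F) - 1)
        (Matrix.toLin' ((a : Matrix (Fin n) (Fin n) F) - 1) v) = 0 := fun v => by
      rw [← LinearMap.comp_apply, ← Matrix.toLin'_mul, sub_one_sq ha2, map_zero, LinearMap.zero_apply]
    have hB : ∀ v, Matrix.toLin' ((b : Matrix (Fin n) (Fin n) F) - 1)
        (Matrix.toLin' ((b : Matrix (Fin n) (Fin n) F) - 1) v) = 0 := fun v => by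
      rw [← LinearMap.comp_apply, ← Matrix.toLin'_mul, sub_one_sq hb2, map_zero, LinearMap.zero_apply]
    have hA0 : Matrix.toLin' ((a : Matrix (Fin n) (Fin n) F) - 1) ≠ 0 := fun h => by
      rw [LinearEquiv.map_eq_zero_iff, sub_eq_zero] at h
      have : a = 1 := Subtype.ext h
      simp [this] at ha
    obtain ⟨g, hdet, hg⟩ := exists_conj hsq _ _ hA hB hA0 hr
    obtain ⟨c, hc⟩ : ∃ c : Matrix.SpecialLinearGroup (Fin n) F,
        (c : Matrix (Fin n) (Fin n) F) = LinearMap.toMatrix' g :=
      ⟨⟨LinearMap.toMatrix' g, by rw [LinearMap.det_toMatrix', hdet]⟩, rfl⟩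
    refine isConj_iff.2 ⟨c, ?_⟩
    rw [mul_inv_eq_iff_eq_mul]
    refine Subtype.ext ?_
    have h := congrArg LinearMap.toMatrix' hg
    rw [LinearMap.toMatrix'_comp, LinearMap.toMatrix'_comp, LinearMap.toMatrix'_toLin',
      LinearMap.toMatrix'_toLin', mul_sub, sub_mul, mul_one, one_mul, sub_left_inj, ← hc] at h
    exact h

end Cfsg.Agent.S2162
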