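import Cfsg.Statements.S2163
import Cfsg.Agent.Lib.Classical.InvolutionRanks
-- import your own Cfsg.Agent.* helpers here

set_option autoImplicit false
open Cfsg

namespace Cfsg.Agent.S2163

/-- Over a finite field of characteristic two and for n ≥ 3: for every ℓ with 1 ≤ ℓ and 2ℓ ≤ n, the matrix j_ℓ that is the identity plus the entries 1 in positions (n − ℓ + i, i) for i < ℓ (an identity block of size ℓ in the lower left corner) lies in SL_n(F), has order 2, and j_ℓ − 1 has rank ℓ. Together with the conjugacy criterion by rank, these matrices represent the conjugacy classes of involutions of SL_n(F). -/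
theorem result {F : Type*} [Field F] [Fintype F] [CharP F 2] {n : ℕ} (hn : 3 ≤ n) (ℓ : ℕ) (h1 : 1 ≤ ℓ) (h2 : 2 * ℓ ≤ n) :
    ∃ a : Matrix.SpecialLinearGroup (Fin n) F, (a : Matrix (Fin n) (Fin n) F) = 1 + Matrix.of (fun i j : Fin n => if j.val < ℓ ∧ i.val = j.val + (n - ℓ) then (1 : F) else 0) ∧ orderOf a = 2 ∧ ((a : Matrix (Fin n) (Fin n) F) - 1).rank = ℓ := by
  classical
  set E : Matrix (Fin n) (Fin n) F :=
    Matrix.of fun i j : Fin n => if j.val < ℓ ∧ i.val = j.val + (n - ℓ) then (1 : F) else 0 with hE
  set r : Fin ℓ → Fin n := fun k => ⟨k.val + (n - ℓ), by omega⟩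
  set c : Fin ℓ → Fin n := fun k => ⟨k.val, by omega⟩
  have hE2 : E * E = 0 := by
    ext i k
    rw [Matrix.mul_apply, Matrix.zero_apply]
    refine Finset.sum_eq_zero fun j _ => ?_
    simp only [hE, Matrix.of_apply]
    split_ifs <;> simp; omega
  have hdet : (1 + E).det = 1 := Lie.det_eq_one_of_sq (Lie.mul_self_eq_one_of_sq_sub (by simpa using hE2))
  have hsub : E.submatrix r c = 1 := by
    ext i j
    simp only [hE, Matrix.submatrix_apply, Matrix.of_apply, Matrix.one_apply, r, c, Fin.ext_iff]
    split_ifs <;> (try rfl) <;> omega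
  have hrank : E.rank = ℓ := by
    refine Lie.rank_eq_of_submatrix r c hsub
      (Matrix.of fun i k => if i = r k then (1 : F) else 0)
      (Matrix.of fun k j => if j = c k then (1 : F) else 0) ?_
    ext i j
    simp only [hE, Matrix.mul_apply, Matrix.of_apply]
    by_cases h : j.val < ℓ
    · rw [Finset.sum_eq_single ⟨j.val, h⟩]
      · simp only [r, c, Fin.ext_iff]
        split_ifs <;> (try simp) <;> omega
      · intro k _ hk
        rw [if_neg (c := j = c k) (fun e => hk (by simp [e, c])), mul_zero]
      · simp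
    · rw [if_neg (fun e => h e.1), Finset.sum_eq_zero]
      intro k _
      rw [if_neg (c := j = c k) (fun e => h (by simp [e, c])), mul_zero]
  refine ⟨⟨1 + E, hdet⟩, rfl, orderOf_eq_prime (Subtype.ext ?_) ?_, by simpa using hrank⟩
  · show (1 + E) ^ 2 = 1
    rw [pow_two]; exact Lie.mul_self_eq_one_of_sq_sub (by simpa using hE2)
  · intro h
    have h1 : E = 0 := by simpa using congrArg Subtype.val h
    rw [h1, Matrix.rank_zero] at hrank
    omega

end Cfsg.Agent.S2163
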