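import Cfsg.Statements.S2164
import Cfsg.Agent.Lib.Lie.UnitaryConj
import Cfsg.Agent.S2162

set_option autoImplicit false
open Cfsg

namespace Cfsg.Agent.S2164

/-- Conjugacy of involutions in the special unitary group SU_n(q), q even, n ≥ 3, realised over the field F with q² elements as the matrices of determinant 1 preserving the form Σ u_i v_i^q: for two elements of order 2 of SU_n(q) the following are equivalent — they are conjugate in SU_n(q); they are conjugate in SL_n(F); the matrices a − 1 and b − 1 have the same rank. -/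
theorem result {F : Type*} [Field F] [Fintype F] [CharP F 2] {n q : ℕ} (hF : Fintype.card F = q ^ 2) (hn : 3 ≤ n) (a b : ↥(Cfsg.SU n F q)) (ha : orderOf a = 2) (hb : orderOf b = 2) :
    (IsConj a b ↔ IsConj (a : Matrix.SpecialLinearGroup (Fin n) F) (b : Matrix.SpecialLinearGroup (Fin n) F)) ∧
    (IsConj a b ↔ (((a : Matrix.SpecialLinearGroup (Fin n) F) : Matrix (Fin n) (Fin n) F) - 1).rank = (((b : Matrix.SpecialLinearGroup (Fin n) F) : Matrix (Fin n) (Fin n) F) - 1).rank) := by
  classical
  obtain ⟨k, -, hk⟩ := FiniteField.card F 2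
  have hq2 := Cfsg.Agent.Classical.two_le_q hF
  have hqeven : Even q := by
    have h : (2 : ℕ) ∣ q ^ 2 := by rw [← hF, hk]; exact dvd_pow_self 2 k.pos.ne'
    exact even_iff_two_dvd.2 (Nat.prime_two.dvd_of_dvd_pow h)
  have ha' : orderOf (a : Matrix.SpecialLinearGroup (Fin n) F) = 2 :=
    (orderOf_injective (Cfsg.SU n F q).subtype Subtype.val_injective a).trans ha
  have hb' : orderOf (b : Matrix.SpecialLinearGroup (Fin n) F) = 2 :=
    (orderOf_injective (Cfsg.SU n F q).subtype Subtype.val_injective b).trans hb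
  have h1 := Cfsg.Agent.S2162.result hn _ _ ha' hb'
  have back : IsConj (a : Matrix.SpecialLinearGroup (Fin n) F) (b : Matrix.SpecialLinearGroup (Fin n) F) →
      IsConj a b := by
    intro h
    obtain ⟨X, hX⟩ := isConj_iff.1 h
    rw [mul_inv_eq_iff_eq_mul] at hX
    have hX' := congrArg Subtype.val hX
    rw [Matrix.SpecialLinearGroup.coe_mul, Matrix.SpecialLinearGroup.coe_mul] at hX'
    refine Cfsg.Agent.Lie.UnitaryConj.isConj_SU hF (X := (X : Matrix (Fin n) (Fin n) F))
      ((Matrix.isUnit_iff_isUnit_det _).2 (by rw [Matrix.SpecialLinearGroup.det_coe]; exact isUnit_one))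
      hX'.symm (fun c hc => ?_)
    set A := Cfsg.Agent.Classical.suVal a
    have hA2 : A * A = 1 := by
      rw [← Cfsg.Agent.Classical.suVal_mul, ← sq, ← ha, pow_orderOf_eq_one]; rfl
    have hAs : Cfsg.Agent.Lie.UnitaryConj.hstar hF A = A := by
      calc Cfsg.Agent.Lie.UnitaryConj.hstar hF A
          = Cfsg.Agent.Lie.UnitaryConj.hstar hF A * (A * A) := by rw [hA2, mul_one]
        _ = A := by rw [← mul_assoc, Cfsg.Agent.Lie.UnitaryConj.hstar_suVal hF a, one_mul]
    have htwo : ∀ M : Matrix (Fin n) (Fin n) F, M + M = 0 := fun M => by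
      ext i j; exact CharTwo.add_self_eq_zero _
    have hN2 : (A + 1) * (A + 1) = 0 := by
      rw [add_mul, mul_add, mul_one, one_mul, hA2, add_comm A 1]; exact htwo _
    have hN : A + 1 ≠ 0 := by
      intro h
      have hA1 : A = 1 := by
        calc A = (A + 1) + 1 := by rw [add_assoc, htwo, add_zero]
          _ = 1 := by rw [h, zero_add]
      have : a = 1 := Cfsg.Agent.Classical.suVal_ext hA1
      rw [this, orderOf_one] at ha
      norm_num at ha
    have hNs : Cfsg.Agent.Lie.UnitaryConj.hstar hF (A + 1) = A + 1 := by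
      rw [Cfsg.Agent.Lie.UnitaryConj.hstar_add, hAs, Cfsg.Agent.Lie.UnitaryConj.hstar_one]
    obtain ⟨r, hr⟩ := hqeven
    obtain ⟨z, hz, hzN, hzd⟩ := Cfsg.Agent.Lie.UnitaryConj.exists_commute_det_sq hF hNs hN2 hN
      (c := c ^ (r + 1)) (by rw [← pow_mul, mul_comm, pow_mul, hc, one_pow])
    refine ⟨z, hz, ?_, ?_⟩
    · have h2 := hzN.sub_right (Commute.one_right z)
      rwa [add_sub_cancel_right] at h2
    · rw [hzd, ← pow_mul, show (r + 1) * 2 = (q + 1) + 1 by omega, pow_succ, hc, one_mul]
  have fwd : IsConj a b → IsConj (a : Matrix.SpecialLinearGroup (Fin n) F) (b : Matrix.SpecialLinearGroup (Fin n) F) :=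
    fun h => (Cfsg.SU n F q).subtype.map_isConj h
  exact ⟨⟨fwd, back⟩, ⟨fun h => h1.1 (fwd h), fun h => back (h1.2 h)⟩⟩

end Cfsg.Agent.S2164
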