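import Cfsg.Statements.S2165
import Cfsg.Agent.Lib.Classical.InvolutionRanks
-- import your own Cfsg.Agent.* helpers here

set_option autoImplicit false
open Cfsg

namespace Cfsg.Agent.S2165
open Matrix

/-- In SU_n(q), q even, n ≥ 3 (matrices of determinant 1 over the field with q² elements preserving Σ u_i v_i^q): for every ℓ with 1 ≤ ℓ and 2ℓ ≤ n, the permutation matrix of the involution of {0, …, n−1} exchanging i and n − ℓ + i for each i < ℓ lies in SU_n(q), has order 2, and differs from the identity by a matrix of rank ℓ. So every rank between 1 and n/2 occurs for involutions of SU_n(q). -/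
theorem result {F : Type*} [Field F] [Fintype F] [CharP F 2] {n q : ℕ} (hF : Fintype.card F = q ^ 2) (hn : 3 ≤ n) (ℓ : ℕ) (h1 : 1 ≤ ℓ) (h2 : 2 * ℓ ≤ n) :
    ∃ a : ↥(Cfsg.SU n F q), (((a : Matrix.SpecialLinearGroup (Fin n) F) : Matrix (Fin n) (Fin n) F) = Matrix.of (fun i j : Fin n => if (j.val < ℓ ∧ i.val = j.val + (n - ℓ)) ∨ (i.val < ℓ ∧ j.val = i.val + (n - ℓ)) ∨ (i = j ∧ ℓ ≤ i.val ∧ i.val < n - ℓ) then (1 : F) else 0)) ∧ orderOf a = 2 ∧ ((((a : Matrix.SpecialLinearGroup (Fin n) F) : Matrix (Fin n) (Fin n) F)) - 1).rank = ℓ := by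
  classical
  have hsw : ∀ i : Fin n, ∃ k : Fin n, k.val = if i.val < ℓ then i.val + (n - ℓ)
      else if n - ℓ ≤ i.val then i.val - (n - ℓ) else i.val := fun i =>
    ⟨⟨if i.val < ℓ then i.val + (n - ℓ) else if n - ℓ ≤ i.val then i.val - (n - ℓ) else i.val,
      by have hi := i.isLt; split_ifs <;> omega⟩, rfl⟩
  choose s hs using hsw
  have hss : ∀ i, s (s i) = i := fun i => by
    refine Fin.ext ?_
    rw [hs, hs]
    split_ifs <;> omega
  set σ : Equiv.Perm (Fin n) := Function.Involutive.toPerm s hss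
  set A : Matrix (Fin n) (Fin n) F := Matrix.of fun i j => if s i = j then (1 : F) else 0 with hA
  have hAe : Matrix.of (fun i j : Fin n => if (j.val < ℓ ∧ i.val = j.val + (n - ℓ)) ∨
      (i.val < ℓ ∧ j.val = i.val + (n - ℓ)) ∨ (i = j ∧ ℓ ≤ i.val ∧ i.val < n - ℓ) then (1 : F) else 0)
      = A := by
    ext i j
    simp only [hA, Matrix.of_apply, Fin.ext_iff, hs]
    refine if_congr ?_ rfl rfl
    split_ifs <;> omega
  have hmv : ∀ (v : Fin n → F) i, (A *ᵥ v) i = v (s i) := fun v i => by
    simp [hA, Matrix.mulVec, dotProduct]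
  have hA2 : A * A = 1 := by
    refine Matrix.ext_iff_mulVec.2 fun v => funext fun i => ?_
    rw [← Matrix.mulVec_mulVec, hmv, hmv, hss, Matrix.one_mulVec]
  have hmem : (⟨A, Lie.det_eq_one_of_sq hA2⟩ : Matrix.SpecialLinearGroup (Fin n) F) ∈ Cfsg.SU n F q := by
    intro u v
    show Cfsg.hermForm n F q (A *ᵥ u) (A *ᵥ v) = _
    simp only [Cfsg.hermForm, hmv]
    exact Equiv.sum_comp σ fun i => u i * v i ^ q
  have h2 : (2 : F) = 0 := CharP.cast_eq_zero F 2
  have hrank : (A - 1).rank = ℓ := by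
    refine Lie.rank_eq_of_submatrix (fun k => ⟨k.val, by omega⟩) (fun k => ⟨k.val + (n - ℓ), by omega⟩)
      ?_ (Matrix.of fun i k => if i.val = k.val ∨ i.val = k.val + (n - ℓ) then (1 : F) else 0)
      (Matrix.of fun k i => if i.val = k.val ∨ i.val = k.val + (n - ℓ) then (1 : F) else 0) ?_
    · ext i j
      simp only [hA, Matrix.submatrix_apply, Matrix.sub_apply, Matrix.of_apply, Matrix.one_apply,
        Fin.ext_iff, hs]
      split_ifs <;> (try simp) <;> omega
    · ext i j
      simp only [hA, Matrix.sub_apply, Matrix.mul_apply, Matrix.of_apply, Matrix.one_apply,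
        Fin.ext_iff, hs]
      by_cases hi : i.val < ℓ ∨ n - ℓ ≤ i.val
      · rw [Finset.sum_eq_single ⟨if i.val < ℓ then i.val else i.val - (n - ℓ), by split_ifs <;> omega⟩]
        · dsimp only
          split_ifs <;> first | omega | (simp; done) | linear_combination h2 | linear_combination -h2
        · intro k _ hk
          rw [if_neg, zero_mul]
          rintro (e | e) <;> exact hk (Fin.ext (by dsimp only; split_ifs <;> omega))
        · simp
      · rw [Finset.sum_eq_zero fun k _ => by rw [if_neg (by omega), zero_mul]]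
        split_ifs <;> first | omega | (simp; done) | linear_combination h2 | linear_combination -h2
  refine ⟨⟨_, hmem⟩, hAe.symm, orderOf_eq_prime (Subtype.ext (Subtype.ext ?_)) ?_, hrank⟩
  · show A ^ 2 = 1
    rw [pow_two, hA2]
  · intro h
    have h1 : A = 1 := congrArg (fun x : ↥(Cfsg.SU n F q) =>
      ((x : Matrix.SpecialLinearGroup (Fin n) F) : Matrix (Fin n) (Fin n) F)) h
    rw [h1, sub_self, Matrix.rank_zero] at hrank
    omega

end Cfsg.Agent.S2165
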