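import Cfsg.Statements.S2166
import Cfsg.Agent.Lib.Lie.SympSemisimple

set_option autoImplicit false
open Cfsg

namespace Cfsg.Agent.S2166

open Cfsg.Agent.Classical Module

variable {F : Type*} [Field F] [Fintype F] [CharP F 2] {m : ℕ}

local notation "W_" => (Fin m ⊕ Fin m → F)
local notation "ω" => sympB m F

theorem sympB_alt : (sympB m F).IsAlt := fun u => by rw [sympB_apply]; exact sympForm_self u

theorem sympB_nd : ∀ x, (∀ y, sympB m F x y = 0) → x = 0 := fun x hx =>
  eq_zero_of_sympForm_eq_zero fun v => by rw [← sympB_apply]; exact hx v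

theorem sympB_comm (u v : W_) : ω u v = ω v u := by
  rw [sympB_apply, sympB_apply, sympForm_swap, CharTwo.neg_eq]

/-- A normal form: coordinates carrying a standard form and a standard square-zero map. -/
theorem exists_model_coords {l : ℕ} (G : Matrix (Fin l) (Fin l) F) (hGs : G.IsSymm) (hG : IsUnit G.det)
    (N : Module.End F W_) (hN : ∀ u v, ω (N u) v = ω u (N v)) (hN2 : ∀ u, N (N u) = 0)
    (hl : finrank F (LinearMap.range N) = l) (u : Fin l → W_) (hu : ∀ i j, ω (u i) (N (u j)) = G i j) :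
    l ≤ m ∧ ∃ E : ((Fin l ⊕ Fin l → F) × (Fin (m - l) ⊕ Fin (m - l) → F)) ≃ₗ[F] W_,
      (∀ x y, ω (E x) (E y) =
        Matrix.toBilin' (Matrix.fromBlocks 0 G G 0) x.1 y.1 + sympB (m - l) F x.2 y.2) ∧
      ∀ x, N (E x) = E (Sum.elim 0 (x.1 ∘ Sum.inl), 0) := by
  classical
  let S : Matrix (Fin l) (Fin l) F := Matrix.of fun i j => if i < j then ω (u i) (u j) else 0
  let C : Matrix (Fin l) (Fin l) F := S * G⁻¹
  have hCG : C * G = S := by rw [Matrix.mul_assoc, Matrix.nonsing_inv_mul G hG, Matrix.mul_one]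
  let u' : Fin l → W_ := fun i => u i + ∑ j, C i j • N (u j)
  have hNu' : ∀ i, N (u' i) = N (u i) := fun i => by simp [u', map_sum, hN2]
  have hee : ∀ i j, ω (N (u i)) (N (u j)) = 0 := fun i j => by rw [hN, hN2, map_zero]
  have hue : ∀ i j, ω (u' i) (N (u j)) = G i j := fun i j => by
    simp [u', map_sum, hu, hee]
  have heu : ∀ i j, ω (N (u j)) (u' i) = G i j := fun i j => by rw [sympB_comm, hue]
  have huu : ∀ i j, ω (u' i) (u' j) = 0 := fun i j => by
    have h1 : ∀ i j, ω (∑ k, C i k • N (u k)) (u' j) = S i j := fun i j => by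
      rw [← hCG, Matrix.mul_apply]
      simp only [map_sum, map_smul, LinearMap.sum_apply, LinearMap.smul_apply, smul_eq_mul, heu]
      exact Finset.sum_congr rfl fun k _ => by rw [hGs.apply]
    have h2 : ω (u i) (u' j) = ω (u i) (u j) + S j i := by
      simp only [u', map_add, map_sum, map_smul, smul_eq_mul, hu]
      rw [← hCG, Matrix.mul_apply]
      exact congrArg _ (Finset.sum_congr rfl fun k _ => by rw [hGs.apply])
    have h3 : ω (u' i) (u' j) = ω (u i) (u' j) + ω (∑ k, C i k • N (u k)) (u' j) := by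
      rw [← LinearMap.add_apply, ← map_add]
    rw [h3, h1, h2]
    simp only [S, Matrix.of_apply]
    rcases lt_trichotomy i j with h | rfl | h
    · rw [if_pos h, if_neg h.asymm, add_zero, CharTwo.add_self_eq_zero]
    · rw [if_neg (lt_irrefl i), sympB_alt (u i), add_zero, add_zero]
    · rw [if_neg h.asymm, if_pos h, add_zero, sympB_comm (u i) (u j), CharTwo.add_self_eq_zero]
  let Φ : (Fin l ⊕ Fin l → F) →ₗ[F] W_ :=
    Fintype.linearCombination F (Sum.elim u' fun i => N (u i))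
  set Γ := Matrix.fromBlocks (0 : Matrix (Fin l) (Fin l) F) G G 0
  have hΓ : IsUnit Γ.det := Matrix.isUnit_det_of_right_inverse (B := Matrix.fromBlocks 0 G⁻¹ G⁻¹ 0) (by
    rw [Matrix.fromBlocks_multiply]; simp [Matrix.mul_nonsing_inv G hG, Matrix.fromBlocks_one])
  have hgram : ∀ a b, ω (Sum.elim u' (fun i => N (u i)) a) (Sum.elim u' (fun i => N (u i)) b) = Γ a b := by
    rintro (i | i) (j | j)
    · simp [Γ, huu]
    · simp [Γ, hue]
    · simp [Γ, heu, hGs.apply]
    · simp [Γ, hee]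
  have hform : ∀ x y, ω (Φ x) (Φ y) = Matrix.toBilin' Γ x y := fun x y => by
    simp only [Φ, Fintype.linearCombination_apply, map_sum, map_smul, LinearMap.sum_apply, LinearMap.smul_apply,
      smul_eq_mul, hgram, Matrix.toBilin'_apply, Finset.mul_sum]
    rw [Finset.sum_comm]
    refine Finset.sum_congr rfl fun a _ => Finset.sum_congr rfl fun b _ => by ring
  have hΓnd : ∀ x, (∀ y, Matrix.toBilin' Γ x y = 0) → x = 0 :=
    (LinearMap.BilinForm.nondegenerate_toBilin'_iff_det_ne_zero.2 hΓ.ne_zero).1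
  have hΦinj : Function.Injective Φ := (injective_iff_map_eq_zero Φ).2 fun x hx => hΓnd x fun y => by
    rw [← hform, hx, map_zero, LinearMap.zero_apply]
  have hNΦ : ∀ x, N (Φ x) = Φ (Sum.elim 0 (x ∘ Sum.inl)) := fun x => by
    simp [Φ, Fintype.linearCombination_apply, map_sum, Fintype.sum_sum_type, hNu', hN2]
  let ψ : W_ →ₗ[F] (Fin l ⊕ Fin l → F) :=
    LinearMap.pi fun k => ω (Φ (Pi.single k 1))
  set U := LinearMap.ker ψ
  have hU : ∀ {w}, w ∈ U ↔ ∀ x, ω (Φ x) w = 0 := by
    intro w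
    constructor
    · intro h x
      rw [pi_eq_sum_univ' x]
      simp only [map_sum, map_smul, LinearMap.sum_apply, LinearMap.smul_apply, smul_eq_mul]
      exact Finset.sum_eq_zero fun k _ => by
        rw [show ω (Φ (Pi.single k 1)) w = 0 from congrFun (LinearMap.mem_ker.1 h) k, mul_zero]
    · intro h
      exact LinearMap.mem_ker.2 (funext fun k => h _)
  have hdisj : Disjoint (LinearMap.range Φ) U := by
    rw [Submodule.disjoint_def]
    rintro _ ⟨x, rfl⟩ hx
    rw [hΓnd x fun y => by rw [← hform, sympB_comm]; exact hU.1 hx y, map_zero]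
  have hrΦ : finrank F (LinearMap.range Φ) = l + l := by
    rw [LinearMap.finrank_range_of_inj hΦinj, Module.finrank_pi, Fintype.card_sum, Fintype.card_fin]
  have hW : finrank F W_ = m + m := by rw [Module.finrank_pi, Fintype.card_sum, Fintype.card_fin]
  have hUge : m + m ≤ finrank F U + (l + l) := by
    have h := ψ.finrank_range_add_finrank_ker
    have h' := Submodule.finrank_le (LinearMap.range ψ)
    rw [Module.finrank_pi, Fintype.card_sum, Fintype.card_fin] at h'
    rw [hW] at h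
    have h'' : finrank F U + finrank F (LinearMap.range ψ) = m + m := by rw [add_comm]; exact h
    omega
  have hle : finrank F (LinearMap.range Φ) + finrank F U ≤ m + m := by
    have h := Submodule.finrank_sup_add_finrank_inf_eq (LinearMap.range Φ) U
    rw [hdisj.eq_bot, finrank_bot, add_zero] at h
    rw [← h, ← hW]
    exact Submodule.finrank_le _
  have hUd : finrank F U + (l + l) = m + m := by omega
  have hcompl : IsCompl (LinearMap.range Φ) U := by
    refine ⟨hdisj, codisjoint_iff.2 (Submodule.eq_top_of_finrank_eq ?_)⟩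
    have h := Submodule.finrank_sup_add_finrank_inf_eq (LinearMap.range Φ) U
    rw [hdisj.eq_bot, finrank_bot, add_zero] at h
    omega
  have hUnd : ∀ x : U, (∀ y : U, ω (x : W_) (y : W_) = 0) → x = 0 := fun x h => Subtype.ext (sympB_nd _ fun y => by
    obtain ⟨a, ⟨x₀, rfl⟩, b, hb, rfl⟩ := Submodule.mem_sup.1
      (show y ∈ LinearMap.range Φ ⊔ U by rw [hcompl.sup_eq_top]; trivial)
    rw [map_add, sympB_comm, hU.1 x.2, h ⟨b, hb⟩, add_zero])
  have hNU : ∀ w ∈ U, N w = 0 := by
    intro w hw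
    have h2 : N w ∈ U := hU.2 fun x => by rw [← hN, hNΦ]; exact hU.1 hw _
    let ι' : (Fin l → F) →ₗ[F] W_ := Fintype.linearCombination F fun i => N (u i)
    have hι : ∀ c, ι' c = Φ (Sum.elim 0 c) := fun c => by
      simp [ι', Φ, Fintype.linearCombination_apply, Fintype.sum_sum_type]
    have hrange : LinearMap.range ι' = LinearMap.range N := by
      refine Submodule.eq_of_le_of_finrank_eq ?_ ?_
      · rintro _ ⟨c, rfl⟩
        exact ⟨∑ i, c i • u i, by simp [ι', Fintype.linearCombination_apply, map_sum]⟩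
      · rw [hl, LinearMap.finrank_range_of_inj, Module.finrank_fin_fun]
        intro c d h
        rw [hι, hι] at h
        exact funext fun i => congrFun (hΦinj h) (Sum.inr i)
    obtain ⟨c, hc⟩ : N w ∈ LinearMap.range ι' := hrange ▸ LinearMap.mem_range_self N w
    exact (Submodule.disjoint_def.1 hdisj) _ ⟨_, (hι c).symm.trans hc⟩ h2
  refine ⟨by omega, ?_⟩
  obtain ⟨L, hL⟩ := exists_symp_coords ((sympB m F).compl₁₂ U.subtype U.subtype) (fun x => sympB_alt (x : W_))
    hUnd (e := m - l) (by omega)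
  let E := ((LinearEquiv.ofInjective Φ hΦinj).prodCongr L).trans
    (Submodule.prodEquivOfIsCompl (LinearMap.range Φ) U hcompl)
  have hE : ∀ x, E x = Φ x.1 + (L x.2 : W_) := fun x => by simp [E]
  refine ⟨E, fun x y => ?_, fun x => ?_⟩
  · rw [hE, hE]
    simp only [map_add, LinearMap.add_apply]
    rw [hform,
      hU.1 (L y.2).2, sympB_comm (L x.2 : W_) (Φ y.1), hU.1 (L x.2).2, add_zero, zero_add, sympB_apply (m := m - l)]
    exact congrArg _ (hL _ _)
  · rw [hE, hE, map_add, hNΦ, hNU _ (L x.2).2, add_zero]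
    simp

/-- The two normal forms of the symmetric form `ω (u, N v)`. -/
theorem exists_gram_family (N : Module.End F W_) (hN : ∀ u v, ω (N u) v = ω u (N v)) {l : ℕ}
    (hl : finrank F (LinearMap.range N) = l) :
    ((∀ v, ω v (N v) = 0) → ∃ e, l = e + e ∧ ∀ h : l = e + e, ∃ u : Fin l → W_, ∀ i j, ω (u i) (N (u j)) =
      (Matrix.J (Fin e) F).submatrix (finSumFinEquiv.symm ∘ Fin.cast h) (finSumFinEquiv.symm ∘ Fin.cast h) i j) ∧
    ((∃ v, ω v (N v) ≠ 0) → ∃ u : Fin l → W_, ∀ i j, ω (u i) (N (u j)) = (1 : Matrix (Fin l) (Fin l) F) i j) := by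
  classical
  obtain ⟨K, hK⟩ := Submodule.exists_isCompl (LinearMap.ker N)
  have hKd : finrank F K = l := by
    have h1 := Submodule.finrank_add_eq_of_isCompl hK
    have h2 := N.finrank_range_add_finrank_ker
    omega
  let β : LinearMap.BilinForm F W_ := (sympB m F).compl₂ N
  have hβ : ∀ u v, β u v = ω u (N v) := fun u v => rfl
  have hsymm : ∀ u v, β u v = β v u := fun u v => by rw [hβ, hβ, ← hN, sympB_comm]
  have hsplit : ∀ y : W_, ∃ a ∈ LinearMap.ker N, ∃ b ∈ K, a + b = y := fun y =>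
    Submodule.mem_sup.1 (by rw [hK.sup_eq_top]; trivial)
  have hnd : ∀ w ∈ K, (∀ y ∈ K, β w y = 0) → w = 0 := fun w hw h => by
    refine (Submodule.disjoint_def.1 hK.disjoint) w (LinearMap.mem_ker.2 (sympB_nd _ fun y => ?_)) hw
    obtain ⟨a, ha, b, hb, rfl⟩ := hsplit y
    rw [hN, map_add, LinearMap.mem_ker.1 ha, zero_add]
    exact h b hb
  constructor
  · intro halt
    have hA : (β.compl₁₂ K.subtype K.subtype).IsAlt := fun x => halt (x : W_)
    have hB : ∀ x : K, (∀ y, (β.compl₁₂ K.subtype K.subtype) x y = 0) → x = 0 := fun x h =>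
      Subtype.ext (hnd x x.2 fun y hy => h ⟨y, hy⟩)
    obtain ⟨e, he⟩ := Cfsg.Agent.Lie.SympSemisimple.exists_even hA hB
    obtain ⟨L, hL⟩ := exists_symp_coords _ hA hB he
    refine ⟨e, by omega, fun h => ⟨fun i => (L (Pi.single (finSumFinEquiv.symm (Fin.cast h i)) 1) : W_), fun i j => ?_⟩⟩
    refine (hL _ _).trans ?_
    rw [sympForm]
    simp
  · rintro ⟨v, hv⟩
    obtain ⟨b, hbK, hb⟩ := exists_orthonormal_family_char_two β ⟨hsymm⟩ l K (fun w hw hw0 => by
        by_contra h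
        push Not at h
        exact hw0 (hnd w hw h)) hKd (fun _ => by
        obtain ⟨a, ha, b, hb, rfl⟩ := hsplit v
        refine ⟨b, hb, ?_⟩
        simp only [map_add, LinearMap.add_apply, LinearMap.mem_ker.1 ha, zero_add, map_zero] at hv
        have : ω a (N b) = 0 := by rw [← hN, LinearMap.mem_ker.1 ha, map_zero, LinearMap.zero_apply]
        rw [this, zero_add] at hv
        exact hv)
    exact ⟨b, fun i j => by rw [← hβ, hb, Matrix.one_apply]⟩

/-- Isometric data give conjugate elements. -/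
theorem isConj_of_gram {l : ℕ} (G : Matrix (Fin l) (Fin l) F) (hGs : G.IsSymm) (hG : IsUnit G.det)
    (a b : ↥(Matrix.symplecticGroup (Fin m) F)) (Na Nb : Module.End F W_)
    (hNa : ∀ v, (a : Matrix (Fin m ⊕ Fin m) (Fin m ⊕ Fin m) F).mulVec v = v + Na v)
    (hNb : ∀ v, (b : Matrix (Fin m ⊕ Fin m) (Fin m ⊕ Fin m) F).mulVec v = v + Nb v)
    (ha : ∀ u v, ω (Na u) v = ω u (Na v)) (hb : ∀ u v, ω (Nb u) v = ω u (Nb v))
    (ha2 : ∀ u, Na (Na u) = 0) (hb2 : ∀ u, Nb (Nb u) = 0)
    (hla : finrank F (LinearMap.range Na) = l) (hlb : finrank F (LinearMap.range Nb) = l)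
    (ua ub : Fin l → W_) (hua : ∀ i j, ω (ua i) (Na (ua j)) = G i j)
    (hub : ∀ i j, ω (ub i) (Nb (ub j)) = G i j) : IsConj a b := by
  classical
  obtain ⟨-, Ea, hEa, hNEa⟩ := exists_model_coords G hGs hG Na ha ha2 hla ua hua
  obtain ⟨-, Eb, hEb, hNEb⟩ := exists_model_coords G hGs hG Nb hb hb2 hlb ub hub
  let c := LinearMap.toMatrix' (Ea.symm.trans Eb).toLinearMap
  have hc : c ∈ Matrix.symplecticGroup (Fin m) F := mem_symplecticGroup_iff_form.2 fun u v => by
    rw [← sympB_apply, ← sympB_apply, ← Matrix.toLin'_apply, ← Matrix.toLin'_apply, Matrix.toLin'_toMatrix']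
    simp only [LinearEquiv.coe_coe, LinearEquiv.trans_apply, hEb, ← hEa, LinearEquiv.apply_symm_apply]
  refine isConj_iff.2 ⟨⟨c, hc⟩, ?_⟩
  rw [mul_inv_eq_iff_eq_mul]
  refine Subtype.ext (Matrix.ext_iff_mulVec.2 fun v => ?_)
  show (c * (a : Matrix _ _ F)).mulVec v = ((b : Matrix _ _ F) * c).mulVec v
  rw [← Matrix.mulVec_mulVec, ← Matrix.mulVec_mulVec, hNa, hNb, ← Matrix.toLin'_apply c, ← Matrix.toLin'_apply c,
    Matrix.toLin'_toMatrix', map_add]
  congr 1
  obtain ⟨x, rfl⟩ := Ea.surjective v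
  simp only [LinearEquiv.coe_coe, LinearEquiv.trans_apply, hNEa, LinearEquiv.symm_apply_apply, hNEb]

/-- Conjugate elements have equally many vectors `v` orthogonal to their image. -/
theorem card_V_conj {c a b : ↥(Matrix.symplecticGroup (Fin m) F)}
    (hc : (c : Matrix (Fin m ⊕ Fin m) (Fin m ⊕ Fin m) F) * (a : Matrix (Fin m ⊕ Fin m) (Fin m ⊕ Fin m) F) =
      (b : Matrix (Fin m ⊕ Fin m) (Fin m ⊕ Fin m) F) * (c : Matrix (Fin m ⊕ Fin m) (Fin m ⊕ Fin m) F)) :
    Nat.card {v : W_ // Cfsg.sympForm m F v ((a : Matrix (Fin m ⊕ Fin m) (Fin m ⊕ Fin m) F).mulVec v) = 0} =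
      Nat.card {v : W_ // Cfsg.sympForm m F v ((b : Matrix (Fin m ⊕ Fin m) (Fin m ⊕ Fin m) F).mulVec v) = 0} := by
  let C : Matrix (Fin m ⊕ Fin m) (Fin m ⊕ Fin m) F := c
  let D : Matrix (Fin m ⊕ Fin m) (Fin m ⊕ Fin m) F := (c⁻¹ : ↥(Matrix.symplecticGroup (Fin m) F))
  have h1 : D * C = 1 := congrArg Subtype.val (inv_mul_cancel c)
  have h2 : C * D = 1 := congrArg Subtype.val (mul_inv_cancel c)
  let e : W_ ≃ W_ :=
    ⟨fun v => C.mulVec v, fun v => D.mulVec v, fun v => by simp [Matrix.mulVec_mulVec, h1],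
      fun v => by simp [Matrix.mulVec_mulVec, h2]⟩
  refine Nat.card_congr (Equiv.subtypeEquiv e fun v => ?_)
  show _ ↔ Cfsg.sympForm m F (C.mulVec v) ((b : Matrix (Fin m ⊕ Fin m) (Fin m ⊕ Fin m) F).mulVec (C.mulVec v)) = 0
  rw [Matrix.mulVec_mulVec, ← hc, ← Matrix.mulVec_mulVec, sympForm_map]

set_option maxHeartbeats 1000000 in
/-- Conjugacy of involutions in the symplectic group Sp_{2m}(F), F a finite field of characteristic two, m ≥ 2 (Sp taken as the matrices A with A J Aᵀ = J, acting on column vectors, with the alternating form f(u, v) = u ⬝ (J v)). For an involution t write V(t) for the set of vectors v with f(v, t v) = 0 (a subspace). Two involutions a, b are conjugate in Sp_{2m}(F) exactly when a − 1 and b − 1 have the same rank and, in case that rank is even, V(a) and V(b) have the same number of elements. -/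
theorem result {F : Type*} [Field F] [Fintype F] [CharP F 2] {m : ℕ} (hm : 2 ≤ m) (a b : ↥(Matrix.symplecticGroup (Fin m) F)) (ha : orderOf a = 2) (hb : orderOf b = 2) :
    IsConj a b ↔ ((((a : ↥(Matrix.symplecticGroup (Fin m) F)) : Matrix (Fin m ⊕ Fin m) (Fin m ⊕ Fin m) F) - 1).rank = (((b : ↥(Matrix.symplecticGroup (Fin m) F)) : Matrix (Fin m ⊕ Fin m) (Fin m ⊕ Fin m) F) - 1).rank ∧
      (Even (((a : ↥(Matrix.symplecticGroup (Fin m) F)) : Matrix (Fin m ⊕ Fin m) (Fin m ⊕ Fin m) F) - 1).rank → Nat.card {v : Fin m ⊕ Fin m → F // Cfsg.sympForm m F v (Matrix.mulVec ((a : ↥(Matrix.symplecticGroup (Fin m) F)) : Matrix (Fin m ⊕ Fin m) (Fin m ⊕ Fin m) F) v) = 0} = Nat.card {v : Fin m ⊕ Fin m → F // Cfsg.sympForm m F v (Matrix.mulVec ((b : ↥(Matrix.symplecticGroup (Fin m) F)) : Matrix (Fin m ⊕ Fin m) (Fin m ⊕ Fin m) F) v) = 0})) := by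
  classical
  have data : ∀ t : ↥(Matrix.symplecticGroup (Fin m) F), orderOf t = 2 →
      ∃ N : Module.End F (Fin m ⊕ Fin m → F),
        (∀ v, (t : Matrix (Fin m ⊕ Fin m) (Fin m ⊕ Fin m) F).mulVec v = v + N v) ∧
        (∀ u v, sympB m F (N u) v = sympB m F u (N v)) ∧ (∀ u, N (N u) = 0) ∧
        Module.finrank F (LinearMap.range N) = ((t : Matrix (Fin m ⊕ Fin m) (Fin m ⊕ Fin m) F) - 1).rank ∧
        (∀ v, Cfsg.sympForm m F v ((t : Matrix (Fin m ⊕ Fin m) (Fin m ⊕ Fin m) F).mulVec v) = sympB m F v (N v)) := by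
    intro t ht
    set A := (t : Matrix (Fin m ⊕ Fin m) (Fin m ⊕ Fin m) F)
    refine ⟨Matrix.toLin' (A - 1), ?_, ?_, ?_, rfl, ?_⟩
    · intro v
      rw [Matrix.toLin'_apply, Matrix.sub_mulVec, Matrix.one_mulVec]
      abel
    · intro u v
      have hA2 : A * A = 1 := congrArg Subtype.val
        (show t * t = 1 by rw [← sq, ← ht, pow_orderOf_eq_one])
      have h := sympForm_map t u (A.mulVec v)
      rw [Matrix.mulVec_mulVec, hA2, Matrix.one_mulVec] at h
      simp only [Matrix.toLin'_apply, Matrix.sub_mulVec, Matrix.one_mulVec, map_sub, LinearMap.sub_apply,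
        sympB_apply]
      rw [h]
    · intro u
      have hA2 : A * A = 1 := congrArg Subtype.val
        (show t * t = 1 by rw [← sq, ← ht, pow_orderOf_eq_one])
      have : (A - 1) * (A - 1) = 0 := by
        rw [sub_mul, mul_sub, mul_one, one_mul, hA2]
        ext i j
        simp only [Matrix.sub_apply, Matrix.zero_apply]
        rw [CharTwo.sub_eq_add, CharTwo.sub_eq_add, CharTwo.sub_eq_add, add_comm ((1 : Matrix _ _ F) i j) (A i j),
          CharTwo.add_self_eq_zero]
      rw [Matrix.toLin'_apply, Matrix.toLin'_apply, Matrix.mulVec_mulVec, this, Matrix.zero_mulVec]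
    · intro v
      rw [Matrix.toLin'_apply, Matrix.sub_mulVec, Matrix.one_mulVec, map_sub, sympB_apply, sympB_apply,
        sympForm_self, sub_zero]
  obtain ⟨Na, hNa, hsa, hna, hra, hVa⟩ := data a ha
  obtain ⟨Nb, hNb, hsb, hnb, hrb, hVb⟩ := data b hb
  constructor
  · intro h
    obtain ⟨c, hc⟩ := isConj_iff.1 h
    rw [mul_inv_eq_iff_eq_mul] at hc
    have hc' : (c : Matrix (Fin m ⊕ Fin m) (Fin m ⊕ Fin m) F) * (a : Matrix (Fin m ⊕ Fin m) (Fin m ⊕ Fin m) F) = (b : Matrix (Fin m ⊕ Fin m) (Fin m ⊕ Fin m) F) * (c : Matrix (Fin m ⊕ Fin m) (Fin m ⊕ Fin m) F) := congrArg Subtype.val hc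
    have hu : IsUnit (c : Matrix (Fin m ⊕ Fin m) (Fin m ⊕ Fin m) F).det := SymplecticGroup.symplectic_det c.2
    refine ⟨?_, fun _ => ?_⟩
    · have e : (c : Matrix (Fin m ⊕ Fin m) (Fin m ⊕ Fin m) F) * ((a : Matrix (Fin m ⊕ Fin m) (Fin m ⊕ Fin m) F) - 1) =
          ((b : Matrix (Fin m ⊕ Fin m) (Fin m ⊕ Fin m) F) - 1) * (c : Matrix (Fin m ⊕ Fin m) (Fin m ⊕ Fin m) F) := by
        rw [mul_sub, sub_mul, hc', mul_one, one_mul]
      rw [← Matrix.rank_mul_eq_right_of_isUnit_det _ ((a : Matrix (Fin m ⊕ Fin m) (Fin m ⊕ Fin m) F) - 1) hu, e,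
        Matrix.rank_mul_eq_left_of_isUnit_det _ _ hu]
    · exact card_V_conj hc'
  · rintro ⟨hr, hV⟩
    set l := ((a : Matrix (Fin m ⊕ Fin m) (Fin m ⊕ Fin m) F) - 1).rank with hl
    obtain ⟨galt, gnon⟩ := exists_gram_family Na hsa hra
    obtain ⟨galt', gnon'⟩ := exists_gram_family Nb hsb (hrb.trans hr.symm)
    have key : (∀ v, sympB m F v (Na v) = 0) ↔ ∀ v, sympB m F v (Nb v) = 0 := by
      have aux : ∀ {t t' : ↥(Matrix.symplecticGroup (Fin m) F)} {N N' : Module.End F (Fin m ⊕ Fin m → F)},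
          (∀ v, Cfsg.sympForm m F v ((t : Matrix (Fin m ⊕ Fin m) (Fin m ⊕ Fin m) F).mulVec v) = sympB m F v (N v)) →
          (∀ v, Cfsg.sympForm m F v ((t' : Matrix (Fin m ⊕ Fin m) (Fin m ⊕ Fin m) F).mulVec v) = sympB m F v (N' v)) →
          (Nat.card {v // Cfsg.sympForm m F v ((t : Matrix (Fin m ⊕ Fin m) (Fin m ⊕ Fin m) F).mulVec v) = 0} =
            Nat.card {v // Cfsg.sympForm m F v ((t' : Matrix (Fin m ⊕ Fin m) (Fin m ⊕ Fin m) F).mulVec v) = 0}) →
          (∀ v, sympB m F v (N v) = 0) → ∀ v, sympB m F v (N' v) = 0 := by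
        intro t t' N N' ht ht' hc hz v
        by_contra hv
        rw [Nat.card_congr (Equiv.subtypeUnivEquiv fun w => (ht w).trans (hz w)), Nat.card_eq_fintype_card,
          Nat.card_eq_fintype_card] at hc
        exact (Fintype.card_subtype_lt (p := fun w => Cfsg.sympForm m F w ((t' : Matrix (Fin m ⊕ Fin m) (Fin m ⊕ Fin m) F).mulVec w) = 0)
          (x := v) (fun h => hv ((ht' v).symm.trans h))).ne hc.symm
      rcases Nat.even_or_odd l with hev | hodd
      · exact ⟨aux hVa hVb (hV hev), aux hVb hVa (hV hev).symm⟩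
      · refine ⟨fun h => ?_, fun h => ?_⟩
        · obtain ⟨e, he, -⟩ := galt h
          exact absurd ⟨e, he⟩ (Nat.not_even_iff_odd.2 hodd)
        · obtain ⟨e, he, -⟩ := galt' h
          exact absurd ⟨e, he⟩ (Nat.not_even_iff_odd.2 hodd)
    by_cases halt : ∀ v, sympB m F v (Na v) = 0
    · obtain ⟨e, he, hga⟩ := galt halt
      obtain ⟨e', he', hgb⟩ := galt' (key.1 halt)
      obtain rfl : e' = e := by omega
      obtain ⟨ua, hua⟩ := hga he
      obtain ⟨ub, hub⟩ := hgb he
      refine isConj_of_gram _ ?_ ?_ a b Na Nb hNa hNb hsa hsb hna hnb hra (hrb.trans hr.symm) ua ub hua hub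
      · refine Matrix.IsSymm.submatrix ?_ _
        rw [Matrix.IsSymm, Matrix.J_transpose]
        ext i j
        simp [CharTwo.neg_eq]
      · let e₀ : Fin l ≃ Fin e' ⊕ Fin e' := (finCongr he).trans finSumFinEquiv.symm
        have h1 : (Matrix.J (Fin e') F).submatrix (finSumFinEquiv.symm ∘ Fin.cast he) (finSumFinEquiv.symm ∘ Fin.cast he) =
            (Matrix.J (Fin e') F).submatrix e₀ e₀ := rfl
        rw [h1, Matrix.det_submatrix_equiv_self]
        exact Matrix.isUnit_det_J _ _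
    · obtain ⟨ua, hua⟩ := gnon (by push Not at halt; exact halt)
      obtain ⟨ub, hub⟩ := gnon' (by
        by_contra h
        push Not at h
        exact halt (key.2 h))
      exact isConj_of_gram _ Matrix.isSymm_one (by rw [Matrix.det_one]; exact isUnit_one) a b Na Nb hNa hNb hsa hsb
        hna hnb hra (hrb.trans hr.symm) ua ub hua hub

end Cfsg.Agent.S2166
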