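import Cfsg.Statements.S2167
import Cfsg.Agent.Lib.Classical.InvolutionRanks
-- import your own Cfsg.Agent.* helpers here

set_option autoImplicit false
open Cfsg

namespace Cfsg.Agent.S2167
open Matrix

/-- For an involution t of the symplectic group Sp_{2m}(F), m ≥ 2, F a finite field of characteristic two (matrices A with A J Aᵀ = J acting on column vectors, alternating form f(u, v) = u ⬝ (J v)): the set V(t) of vectors v with f(v, t v) = 0 has either q^{2m} or q^{2m−1} elements, q the order of F (it is a subspace of codimension at most 1), and if it is the whole space then t − 1 has even rank. -/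
theorem result {F : Type*} [Field F] [Fintype F] [CharP F 2] {m : ℕ} (hm : 2 ≤ m) (a : ↥(Matrix.symplecticGroup (Fin m) F)) (ha : orderOf a = 2) :
    (Nat.card {v : Fin m ⊕ Fin m → F // Cfsg.sympForm m F v (Matrix.mulVec ((a : ↥(Matrix.symplecticGroup (Fin m) F)) : Matrix (Fin m ⊕ Fin m) (Fin m ⊕ Fin m) F) v) = 0} = Fintype.card F ^ (2 * m) ∨ Nat.card {v : Fin m ⊕ Fin m → F // Cfsg.sympForm m F v (Matrix.mulVec ((a : ↥(Matrix.symplecticGroup (Fin m) F)) : Matrix (Fin m ⊕ Fin m) (Fin m ⊕ Fin m) F) v) = 0} * Fintype.card F = Fintype.card F ^ (2 * m)) ∧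
    ((∀ v : Fin m ⊕ Fin m → F, Cfsg.sympForm m F v (Matrix.mulVec ((a : ↥(Matrix.symplecticGroup (Fin m) F)) : Matrix (Fin m ⊕ Fin m) (Fin m ⊕ Fin m) F) v) = 0) → Even (((a : ↥(Matrix.symplecticGroup (Fin m) F)) : Matrix (Fin m ⊕ Fin m) (Fin m ⊕ Fin m) F) - 1).rank) := by
  classical
  set A := ((a : ↥(Matrix.symplecticGroup (Fin m) F)) : Matrix (Fin m ⊕ Fin m) (Fin m ⊕ Fin m) F)
  obtain ⟨φ, hφ⟩ : ∃ φ : (Fin m ⊕ Fin m → F) → F, ∀ v, φ v = Cfsg.sympForm m F v (A *ᵥ v) :=
    ⟨_, fun _ => rfl⟩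
  simp only [← hφ]
  have h2 : ∀ x : F, x + x = 0 := fun x => CharTwo.add_self_eq_zero x
  have hA2 : ∀ v, A *ᵥ (A *ᵥ v) = v := fun v => by
    have h := congrArg Subtype.val (show a ^ 2 = 1 from ha ▸ pow_orderOf_eq_one a)
    rw [pow_two] at h
    rw [Matrix.mulVec_mulVec, show A * A = 1 from h, Matrix.one_mulVec]
  have hadd : ∀ v w, φ (v + w) = φ v + φ w := fun v w => by
    have h1 : Cfsg.sympForm m F w (A *ᵥ v) = Cfsg.sympForm m F v (A *ᵥ w) := by
      rw [← Classical.sympForm_map a w (A *ᵥ v), hA2, Classical.sympForm_swap, CharTwo.neg_eq]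
    simp only [hφ, Matrix.mulVec_add, Classical.sympForm_add_left, Classical.sympForm_add_right, h1]
    linear_combination h2 (Cfsg.sympForm m F v (A *ᵥ w))
  have hsmul : ∀ (c : F) v, φ (c • v) = c * c * φ v := fun c v => by
    simp only [hφ, Matrix.mulVec_smul, Classical.sympForm_smul_left, Classical.sympForm_smul_right]
    ring
  have hV : Nat.card (Fin m ⊕ Fin m → F) = Fintype.card F ^ (2 * m) := by
    rw [Nat.card_eq_fintype_card, Fintype.card_pi, Finset.prod_const, Finset.card_univ,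
      Fintype.card_sum, Fintype.card_fin, two_mul]
  refine ⟨?_, fun hall => ?_⟩
  · by_cases hall : ∀ v, φ v = 0
    · left
      rw [← hV]
      exact Nat.card_congr (Equiv.subtypeUnivEquiv hall)
    · right
      push Not at hall
      obtain ⟨v0, hv0⟩ := hall
      have hc : ∀ v, ∃ c : F, c * c * φ v0 = φ v := fun v => by
        obtain ⟨c, hc⟩ := FiniteField.isSquare_of_char_two (ringChar.eq F 2) (φ v / φ v0)
        exact ⟨c, by rw [← hc, div_mul_cancel₀ _ hv0]⟩
      rw [← hV, ← Nat.card_eq_fintype_card, ← Nat.card_prod]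
      refine Nat.card_congr (Equiv.ofBijective (fun x : {v // φ v = 0} × F => x.1.1 + x.2 • v0)
        ⟨fun x y e => ?_, fun v => ?_⟩)
      · have e1 := congrArg φ e
        simp only [hadd, hsmul, x.1.2, y.1.2, zero_add] at e1
        have e2 : (x.2 - y.2) ^ 2 = 0 := by
          rw [sub_pow_char (p := 2), sq, sq, mul_right_cancel₀ hv0 e1, sub_self]
        have e3 : x.2 = y.2 := sub_eq_zero.1 (pow_eq_zero_iff (by norm_num) |>.1 e2)
        exact Prod.ext (Subtype.ext (by simpa [e3] using e)) e3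
      · obtain ⟨c, hc⟩ := hc v
        refine ⟨(⟨v + c • v0, by rw [hadd, hsmul, hc, h2]⟩, c), ?_⟩
        show v + c • v0 + c • v0 = v
        rw [add_assoc, ← add_smul, h2, zero_smul, add_zero]
  · set B : LinearMap.BilinForm F (Fin m ⊕ Fin m → F) :=
      (Cfsg.Agent.Classical.sympB m F).compl₂ (Matrix.mulVecLin (A - 1)) with hB
    have hBa : ∀ v w, B v w = Cfsg.sympForm m F v ((A - 1) *ᵥ w) := fun v w => by
      simp [hB, Classical.sympB_apply, Matrix.sub_mulVec]
    have hAlt : B.IsAlt := fun v => by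
      rw [hBa, Matrix.sub_mulVec, Matrix.one_mulVec, Classical.sympForm_sub_right,
        Classical.sympForm_self, ← hφ, hall v, sub_zero]
    obtain ⟨k, hk⟩ := Lie.alt_rank_even B hAlt _ ⊤ rfl
    have hker : (⊤ ⊓ B.orthogonal ⊤ : Submodule F _) = LinearMap.ker (Matrix.mulVecLin (A - 1)) := by
      refine le_antisymm (fun w hw => ?_) (fun w hw => ⟨trivial, ?_⟩)
      · refine LinearMap.mem_ker.2 (Classical.eq_zero_of_sympForm_eq_zero fun v => ?_)
        have h := LinearMap.BilinForm.mem_orthogonal_iff.1 hw.2 v trivial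
        rw [Classical.sympForm_swap, Matrix.mulVecLin_apply, ← hBa v w, h, neg_zero]
      · refine LinearMap.BilinForm.mem_orthogonal_iff.2 fun v _ => ?_
        rw [LinearMap.mem_ker, Matrix.mulVecLin_apply] at hw
        simp [LinearMap.BilinForm.IsOrtho, hBa, hw, Cfsg.sympForm]
    rw [hker, finrank_top, ← LinearMap.finrank_range_add_finrank_ker (Matrix.mulVecLin (A - 1))] at hk
    exact ⟨k, by rw [Matrix.rank]; omega⟩

end Cfsg.Agent.S2167
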