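import Cfsg.Statements.S2173
import Cfsg.Agent.Lib.Classical.QuadModels
import Cfsg.Agent.Lib.Classical.OrthModels
import Cfsg.Agent.Lib.Classical.OrthMinus
import Cfsg.Agent.Lib.Lie.OmegaSplit

set_option autoImplicit false
open Cfsg

namespace Cfsg.Agent.S2173

/-- For the quadratic form Σ x_i y_i + (z₁² + c z₁ z₂ + d z₂²) in dimension 2m with anisotropic binary part over a finite field F of characteristic two, m ≥ 4 (minus type): two involutions of the commutator subgroup Ω that are conjugate in the full isometry group O are conjugate by an element of Ω (no class of involutions of O inside Ω splits). -/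
theorem result {F : Type*} [Field F] [Fintype F] [CharP F 2] {m : ℕ} (hm : 4 ≤ m) (c d : F) (hcd : ∀ z₁ z₂ : F, z₁ ^ 2 + c * z₁ * z₂ + d * z₂ ^ 2 = 0 → z₁ = 0 ∧ z₂ = 0) (t s : ↥(Cfsg.isometryGroup F (Cfsg.quadFormMinus (m - 1) F c d))) (ht : orderOf t = 2) (hs : orderOf s = 2) (htO : t ∈ Cfsg.Omega F (Cfsg.quadFormMinus (m - 1) F c d)) (hsO : s ∈ Cfsg.Omega F (Cfsg.quadFormMinus (m - 1) F c d)) (hconj : IsConj t s) :
    ∃ g ∈ Cfsg.Omega F (Cfsg.quadFormMinus (m - 1) F c d), g * t * g⁻¹ = s := by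
  revert t s
  rw [← Cfsg.Agent.Classical.coe_qfMinus]
  intro t s ht _ _ _ hconj
  have h2 : (2 : F) = 0 := CharTwo.two_eq_zero
  have hQ := Cfsg.Agent.Classical.nondegenerate_qfMinus (m - 1) hcd
  have hT := Cfsg.Agent.Classical.OrthAut.tri_qfMinus (F := F) (m := m - 1) (by omega) c d
  have htt : t * t = 1 := (pow_two t).symm.trans (orderOf_dvd_iff_pow_eq_one.1 (dvd_of_eq ht))
  exact Cfsg.Agent.Lie.OmegaSplit.exists_conj h2 hQ hT htt hconj
    fun hU => Cfsg.Agent.Classical.OrthAut.not_half_qfMinus hcd ⟨_, hU⟩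

end Cfsg.Agent.S2173
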