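import Cfsg.Statements.S2177
import Cfsg.Agent.Lib.Lie.Chev.G2EvenCentralizer

set_option autoImplicit false
open Cfsg

namespace Cfsg.Agent.S2177

/-- Conjugacy classes of involutions in the Chevalley group of type G₂ over a finite field F of characteristic two with at least four elements (the matrix group generated by the root elements x_r(t)). In this problem's root numbering for type G₂ (the Chevalley data module; p₁ = a short, p₂ = b long; roots indexed by coefficient vectors in increasing order) let 11 be the highest root 3a + 2b (long) and 9 the short root 2a + b; consider x_{3a+2b}(1) and x_{2a+b}(1). Then: each invertible matrix equal to one of these two products lies in the group and has order 2; every element of order 2 of the group is conjugate in the group to one of them; and no two of them are conjugate in the group (so, the two matrices being distinct, the group has exactly two conjugacy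 classes of involutions). -/
theorem result {F : Type*} [Field F] [Fintype F] [CharP F 2] (hF : 4 ≤ Fintype.card F) :
    (∀ y : GL Cfsg.Lie.chevG2.Idx F, ((y : GL Cfsg.Lie.chevG2.Idx F) : Matrix Cfsg.Lie.chevG2.Idx Cfsg.Lie.chevG2.Idx F) ∈ [Cfsg.Lie.chevG2.x F 11 1, Cfsg.Lie.chevG2.x F 9 1] → y ∈ Cfsg.Lie.chevG2.group F ∧ orderOf y = 2) ∧
    (∀ g ∈ Cfsg.Lie.chevG2.group F, orderOf g = 2 → ∃ y ∈ Cfsg.Lie.chevG2.group F, ((y : GL Cfsg.Lie.chevG2.Idx F) : Matrix Cfsg.Lie.chevG2.Idx Cfsg.Lie.chevG2.Idx F) ∈ [Cfsg.Lie.chevG2.x F 11 1, Cfsg.Lie.chevG2.x F 9 1] ∧ ∃ h ∈ Cfsg.Lie.chevG2.group F, h * g * h⁻¹ = y) ∧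
    (∀ y₁ ∈ Cfsg.Lie.chevG2.group F, ∀ y₂ ∈ Cfsg.Lie.chevG2.group F, ((y₁ : GL Cfsg.Lie.chevG2.Idx F) : Matrix Cfsg.Lie.chevG2.Idx Cfsg.Lie.chevG2.Idx F) ∈ [Cfsg.Lie.chevG2.x F 11 1, Cfsg.Lie.chevG2.x F 9 1] → ((y₂ : GL Cfsg.Lie.chevG2.Idx F) : Matrix Cfsg.Lie.chevG2.Idx Cfsg.Lie.chevG2.Idx F) ∈ [Cfsg.Lie.chevG2.x F 11 1, Cfsg.Lie.chevG2.x F 9 1] →
      (∃ h ∈ Cfsg.Lie.chevG2.group F, h * y₁ * h⁻¹ = y₂) → ((y₁ : GL Cfsg.Lie.chevG2.Idx F) : Matrix Cfsg.Lie.chevG2.Idx Cfsg.Lie.chevG2.Idx F) = ((y₂ : GL Cfsg.Lie.chevG2.Idx F) : Matrix Cfsg.Lie.chevG2.Idx Cfsg.Lie.chevG2.Idx F)) := by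
  have hmem : ∀ y : GL Cfsg.Lie.chevG2.Idx F, (y : Matrix Cfsg.Lie.chevG2.Idx Cfsg.Lie.chevG2.Idx F) ∈
      [Cfsg.Lie.chevG2.x F 11 1, Cfsg.Lie.chevG2.x F 9 1] →
      y = Lie.Chev.G2Even.X 11 1 ∨ y = Lie.Chev.G2Even.X 9 1 := by
    intro y hy
    simp only [List.mem_cons, List.not_mem_nil, or_false] at hy
    exact hy.imp (fun h => Lie.Chev.certFullG2.eq_xg_iff.1 h) fun h => Lie.Chev.certFullG2.eq_xg_iff.1 h
  have hval : ∀ r : ℕ, ((Lie.Chev.G2Even.X r (1 : F) : GL Cfsg.Lie.chevG2.Idx F) :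
      Matrix Cfsg.Lie.chevG2.Idx Cfsg.Lie.chevG2.Idx F) = Cfsg.Lie.chevG2.x F r 1 := fun r =>
    Lie.Chev.certFullG2.xg_val r 1
  refine ⟨fun y hy => ?_, fun g hg ho => ?_, fun y₁ _ y₂ _ h₁ h₂ hc => ?_⟩
  · rcases hmem y hy with rfl | rfl
    · exact ⟨Lie.Chev.G2Even.X_mem _ _, Lie.Chev.G2Even.orderOf_X (by omega)⟩
    · exact ⟨Lie.Chev.G2Even.X_mem _ _, Lie.Chev.G2Even.orderOf_X (by omega)⟩
  · rcases Lie.Chev.G2Even.good_of_involution hg ho with h | h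
    · exact ⟨_, Lie.Chev.G2Even.X_mem 11 1, by simp [hval], h⟩
    · exact ⟨_, Lie.Chev.G2Even.X_mem 9 1, by simp [hval], h⟩
  · rcases hmem y₁ h₁ with rfl | rfl <;> rcases hmem y₂ h₂ with rfl | rfl
    · rfl
    · exact absurd hc Lie.Chev.G2Even.not_cj
    · exact absurd (Lie.Chev.G2Even.Cj.symm hc) Lie.Chev.G2Even.not_cj
    · rfl

end Cfsg.Agent.S2177
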