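import Cfsg.Statements.S2179
import Cfsg.Agent.Lib.Lie.Chev.PairCentralizer
-- import your own Cfsg.Agent.* helpers here

set_option autoImplicit false
open Cfsg

namespace Cfsg.Agent.S2179

open Cfsg.Lie Cfsg.Agent.Lie.Chev

section

variable {F : Type*} [Field F] [CharP F 2]

local notation "C" => certFullF4
local notation "X" => Cert.xg certFullF4.toCert

/-- The short roots. -/
def shortList : List ℕ :=
  [3, 7, 8, 9, 10, 11, 12, 13, 14, 18, 19, 20, 27, 28, 29, 33, 34, 35, 36, 37, 38, 39, 40, 44]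

theorem short_table : ∀ p < 4, ∀ s < 48,
    (s ∈ shortList ↔ (C).T.refl p s ∈ shortList) := by decide +kernel

theorem short_wl {L : List ℕ} (hL : ∀ p ∈ L, p < chevF4.rank) {s : ℕ} (hs : s < chevF4.nroots) :
    (C).wl L s ∈ shortList ↔ s ∈ shortList := by
  rw [← certFullF4.wlT_eq]
  have key : ∀ M : List ℕ, (∀ p ∈ M, p < 4) →
      (C).T.wlT M s < 48 ∧ ((C).T.wlT M s ∈ shortList ↔ s ∈ shortList) := by
    intro M hM
    induction M with
    | nil => exact ⟨hs, Iff.rfl⟩
    | cons p M ih =>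
      obtain ⟨h1, h2⟩ := ih fun q hq => hM q (by simp [hq])
      have hlt : ∀ p < 4, ∀ s < 48, (C).T.refl p s < 48 := by decide +kernel
      exact ⟨hlt p (hM p (by simp)) _ h1, (short_table p (hM p (by simp)) _ h1).symm.trans h2⟩
  exact (key L hL).2

theorem even_commute {a b r : ℕ} (ha : a < 48) (hb : b < 48) (hr : r < 48)
    (h1 : (C).T.evenPair r a = true) (h2 : (C).T.evenPair r b = true) (t : F) :
    Commute (X r t) (X a 1 * X b 1) :=
  (certFullF4.commute_evenPair hr ha h1 t 1).mul_right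
    (certFullF4.commute_evenPair hr hb h2 t 1)

theorem even_list {a b : ℕ} (ha : a < 48) (hb : b < 48) {R : List ℕ}
    (h : (R.all fun r => Nat.blt r 48 && (C).T.evenPair r a && (C).T.evenPair r b) = true)
    {r : ℕ} (hr : r ∈ R) (t : F) : Commute (X r t) (X a 1 * X b 1) := by
  simp only [List.all_eq_true, Bool.and_eq_true, Nat.blt_eq] at h
  exact even_commute ha hb (h r hr).1.1 (h r hr).1.2 (h r hr).2 t

theorem mem_range_pos {r : ℕ} (hr : (C).Pos r) : r ∈ List.range' 24 24 := by
  obtain ⟨h1, h2⟩ := hr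
  have e1 : (C).T.h = 24 := by decide +kernel
  have e2 : chevF4.nroots = 48 := by decide +kernel
  rw [List.mem_range'_1]
  omega

theorem U_commute {a b : ℕ} (ha : a < 48) (hb : b < 48)
    (h : ((List.range' 24 24).all fun r =>
      Nat.blt r 48 && (C).T.evenPair r a && (C).T.evenPair r b) = true)
    {g : GL chevF4.Idx F} (hg : g ∈ chevF4.posUnipotent F) : Commute g (X a 1 * X b 1) := by
  induction hg using Subgroup.closure_induction with
  | mem g hg =>
    obtain ⟨r, t, hr, hg⟩ := hg
    obtain rfl := certFullF4.eq_xg_iff.1 hg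
    exact even_list ha hb h (mem_range_pos (certFullF4.posRoot_iff.1 hr)) t
  | one => exact Commute.one_left _
  | mul x y _ _ hx hy => exact hx.mul_left hy
  | inv x _ hx => exact hx.inv_left

theorem root_le {a b : ℕ} (ha : a < 48) (hb : b < 48) {r : ℕ} (hr : r < 48)
    (h1 : (C).T.evenPair r a = true) (h2 : (C).T.evenPair r b = true) :
    chevF4.rootSubgroup F r ≤
      chevF4.group F ⊓ Subgroup.centralizer {X a (1 : F) * X b 1} := by
  intro g hg
  obtain ⟨t, rfl⟩ := certFullF4.mem_rootSubgroup_iff.1 hg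
  exact Subgroup.mem_inf.2 ⟨certFullF4.xg_mem_group hr t,
    Subgroup.mem_centralizer_singleton_iff.2 (even_commute ha hb hr h1 h2 t)⟩

theorem simple_values : chevF4.simple 0 = 33 ∧ chevF4.simple 1 = 27 ∧ chevF4.simple 2 = 25 ∧
    chevF4.simple 3 = 24 ∧ chevF4.neg 33 = 14 ∧ chevF4.neg 27 = 20 ∧ chevF4.neg 25 = 22 ∧
    chevF4.neg 24 = 23 ∧ chevF4.rank = 4 ∧ chevF4.nroots = 48 := by decide +kernel

theorem mem_root (r : ℕ) (t : F) : X r t ∈ chevF4.rootSubgroup F r :=
  certFullF4.mem_rootSubgroup_iff.2 ⟨t, rfl⟩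

theorem tchar_four (z : ℕ → Fˣ) (s : ℕ) : ((C).tchar z s : Fˣ) =
    z 0 ^ (C).T.cartan 0 s * z 1 ^ (C).T.cartan 1 s * z 2 ^ (C).T.cartan 2 s *
      z 3 ^ (C).T.cartan 3 s := by
  rw [Cert.tchar, show chevF4.rank = 4 from simple_values.2.2.2.2.2.2.2.2.1]
  simp [Finset.prod_range_succ, mul_assoc]

/-- The centraliser of the product of the two highest root elements. -/
theorem centralizer_w :
    chevF4.group F ⊓ Subgroup.centralizer {X 47 (1 : F) * X 44 1} =
      chevF4.posUnipotent F ⊔ chevF4.rootSubgroup F 20 ⊔ chevF4.rootSubgroup F 22 := by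
  have h48a : (47 : ℕ) < 48 := by norm_num
  have h48b : (44 : ℕ) < 48 := by norm_num
  have hU : ∀ g ∈ chevF4.posUnipotent F, Commute g (X 47 (1 : F) * X 44 1) := fun g hg =>
    U_commute h48a h48b (by decide +kernel) hg
  have hle : chevF4.posUnipotent F ⊔ chevF4.rootSubgroup F 20 ⊔ chevF4.rootSubgroup F 22 ≤
      chevF4.group F ⊓ Subgroup.centralizer {X 47 (1 : F) * X 44 1} := by
    refine sup_le (sup_le (fun g hg => ?_) ?_) ?_
    · exact Subgroup.mem_inf.2 ⟨(le_sup_left.trans certFullF4.sup_neg_eq_group.le) hg,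
        Subgroup.mem_centralizer_singleton_iff.2 (hU g hg)⟩
    · exact root_le h48a h48b (by norm_num) (by decide +kernel) (by decide +kernel)
    · exact root_le h48a h48b (by norm_num) (by decide +kernel) (by decide +kernel)
  obtain ⟨s0, s1, s2, s3, n0, n1, n2, n3, hrk, hnr⟩ := simple_values
  refine le_antisymm ?_ hle
  refine certFullF4.centralizer_pair_le (Z := [47, 44]) (by decide +kernel) (by decide)
    (by simp) (by simp) (by norm_num) 1 0 0 1 (P := [1, 2]) (ex := []) (by decide +kernel)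
    (by norm_num) (by decide +kernel) ?_ ?_ ?_ ?_ ?_ ?_
  · intro L hL ha hb
    have e1 := short_wl hL (s := 47) (by rw [hnr]; norm_num)
    have e2 := short_wl hL (s := 44) (by rw [hnr]; norm_num)
    simp only [List.mem_cons, List.not_mem_nil, or_false] at ha hb
    have n47 : ¬ (47 ∈ shortList) := by decide
    have p44 : (44 ∈ shortList) := by decide
    constructor
    · rcases ha with h | h
      · exact h
      · exact absurd (e1.1 (h ▸ p44)) n47
    · rcases hb with h | h
      · exact absurd (h ▸ e2.2 p44) n47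
      · exact h
  · intro z ha hb i hi hiP
    rw [tchar_four] at ha hb
    have c0 : (C).T.cartan 0 47 = 0 ∧ (C).T.cartan 1 47 = 0 ∧ (C).T.cartan 2 47 = 0 ∧
        (C).T.cartan 3 47 = 1 ∧ (C).T.cartan 0 44 = 1 ∧ (C).T.cartan 1 44 = 0 ∧
        (C).T.cartan 2 44 = 0 ∧ (C).T.cartan 3 44 = 0 := by decide +kernel
    obtain ⟨c1, c2, c3, c4, c5, c6, c7, c8⟩ := c0
    simp [c1, c2, c3, c4] at ha
    simp [c5, c6, c7, c8] at hb
    rw [hrk] at hi
    simp at hiP
    obtain rfl | rfl : i = 0 ∨ i = 3 := by omega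
    exacts [hb, ha]
  · intro p hp hpP t
    simp only [List.mem_cons, List.not_mem_nil, or_false] at hpP
    rcases hpP with rfl | rfl
    · rw [s1, n1]
      exact ⟨Subgroup.mem_sup_left (Subgroup.mem_sup_left (certFullF4.xg_mem_U
          (by rw [← s1]; exact certFullF4.pos_simple hp) t)),
        Subgroup.mem_sup_left (Subgroup.mem_sup_right (mem_root 20 t))⟩
    · rw [s2, n2]
      exact ⟨Subgroup.mem_sup_left (Subgroup.mem_sup_left (certFullF4.xg_mem_U
          (by rw [← s2]; exact certFullF4.pos_simple hp) t)),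
        Subgroup.mem_sup_right (mem_root 22 t)⟩
  · exact fun r hr _ t => Subgroup.mem_sup_left (Subgroup.mem_sup_left (certFullF4.xg_mem_U hr t))
  · exact fun u hu _ => Subgroup.mem_sup_left (Subgroup.mem_sup_left hu)
  · exact fun g hg => Subgroup.mem_centralizer_singleton_iff.1 (Subgroup.mem_inf.1 (hle hg)).2

theorem unit_coeff {x : ℤ} (h : x.natAbs = 1) : (x : F) = 1 := by
  rcases Int.natAbs_eq_iff.1 h with e | e <;> simp [e, CharTwo.neg_eq]

/-- Conjugation along a linear commutator term with unit coefficient. -/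
theorem conj_step {r s u : ℕ} (hr : r < 48) (hs : s < 48) (h1 : s ≠ r)
    (h2 : s ≠ chevF4.neg r)
    (h : ((C).T.commTerms r s).map (fun x => (x.1, x.2.1.natAbs, x.2.2.1, x.2.2.2)) = [(u, 1, 1, 1)])
    (t w : F) : X r t * X s w * (X r t)⁻¹ = X s w * X u (t * w) := by
  rcases hc : (C).T.commTerms r s with _ | ⟨x, _ | ⟨y, ys⟩⟩ <;> rw [hc] at h <;>
    simp [Prod.ext_iff] at h
  obtain ⟨hu, hk, hi, hj⟩ := h
  rw [certFullF4.conj_single hr hs h1 h2 hc, hu, hi, hj, pow_one, pow_one, unit_coeff hk, one_mul]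

/-- An element of `U` centralising the orthogonal pair avoids the excluded roots. -/
theorem U_centralizer_v {S : Subgroup (GL chevF4.Idx F)}
    (hS : ∀ r, (C).Pos r → r ∉ [27, 25, 34, 26] → ∀ t : F, X r t ∈ S)
    {u : GL chevF4.Idx F} (hu : u ∈ chevF4.posUnipotent F)
    (hc : Commute u (X 39 1 * X 45 1)) : u ∈ S := by
  have eh : (C).T.h = 24 := by decide +kernel
  have en : chevF4.nroots = 48 := by decide +kernel
  have hpos : ∀ r, 24 ≤ r → r < 48 → (C).Pos r := fun r h1 h2 => ⟨eh ▸ h1, en ▸ h2⟩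
  rw [certFullF4.posUnipotent_eq] at hu
  obtain ⟨t, e⟩ := certFullF4.exists_oprod _ (C).T.h rfl le_rfl u hu
  set v := X 39 (1 : F) * X 45 1 with hv
  set M1 := ([28, 29, 30, 31, 32, 33].map fun r => X r (t r)).prod with hM1
  set M2 := ([35, 36, 37, 38, 39, 40, 41, 42, 43, 44, 45, 46, 47].map fun r => X r (t r)).prod
    with hM2
  have eu : u = X 24 (t 24) * (X 25 (t 25) * (X 26 (t 26) * (X 27 (t 27) * (M1 * (X 34 (t 34) *
      M2))))) := by
    rw [e, Cert.oprod, show List.range' (C).T.h (chevF4.nroots - (C).T.h) = [24, 25, 26, 27] ++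
      [28, 29, 30, 31, 32, 33] ++ [34] ++
      [35, 36, 37, 38, 39, 40, 41, 42, 43, 44, 45, 46, 47] by decide +kernel]
    simp only [List.map_append, List.prod_append, hM1, hM2]
    simp [mul_assoc]
  have hfix : ∀ R : List ℕ, (R.all fun r => Nat.blt r 48 && (C).T.evenPair r 39 &&
      (C).T.evenPair r 45) = true → Commute (R.map fun r => X r (t r)).prod v := by
    intro R hR
    refine Commute.list_prod_left _ _ fun x hx => ?_
    obtain ⟨r, hr, rfl⟩ := List.mem_map.1 hx
    exact even_list (by norm_num) (by norm_num) hR hr _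
  have hM1v : Commute M1 v := hfix _ (by decide +kernel)
  have hM2v : Commute M2 v := hfix _ (by decide +kernel)
  have h24v : Commute (X 24 (t 24)) v :=
    even_commute (by norm_num) (by norm_num) (by norm_num) (by decide +kernel) (by decide +kernel) _
  have h34 : X 34 (t 34) * v * (X 34 (t 34))⁻¹ = v * X 44 (t 34) := by
    have a := conj_step (r := 34) (s := 39) (u := 44) (by norm_num) (by norm_num) (by norm_num)
      (by decide +kernel) (by decide +kernel) (t 34) (1 : F)
    have b := certFullF4.commute_evenPair (r := 34) (s := 45) (show 34 < chevF4.nroots by rw [en]; norm_num)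
      (show 45 < chevF4.nroots by rw [en]; norm_num) (by decide +kernel) (t 34) (1 : F)
    have c := certFullF4.commute_evenPair (r := 44) (s := 45) (show 44 < chevF4.nroots by rw [en]; norm_num)
      (show 45 < chevF4.nroots by rw [en]; norm_num) (by decide +kernel) (t 34) (1 : F)
    rw [mul_one] at a
    calc X 34 (t 34) * v * (X 34 (t 34))⁻¹
        = (X 34 (t 34) * X 39 1 * (X 34 (t 34))⁻¹) *
          (X 34 (t 34) * X 45 1 * (X 34 (t 34))⁻¹) := by rw [hv]; group
      _ = X 39 1 * X 44 (t 34) * X 45 1 := by rw [a, b.eq, mul_inv_cancel_right]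
      _ = _ := by rw [hv, mul_assoc, c.eq, mul_assoc]
  have h27 : X 27 (t 27) * v * (X 27 (t 27))⁻¹ = v * X 40 (t 27) := by
    have a := conj_step (r := 27) (s := 39) (u := 40) (by norm_num) (by norm_num) (by norm_num)
      (by decide +kernel) (by decide +kernel) (t 27) (1 : F)
    have b := certFullF4.commute_evenPair (r := 27) (s := 45) (show 27 < chevF4.nroots by rw [en]; norm_num)
      (show 45 < chevF4.nroots by rw [en]; norm_num) (by decide +kernel) (t 27) (1 : F)
    have c := certFullF4.commute_evenPair (r := 40) (s := 45) (show 40 < chevF4.nroots by rw [en]; norm_num)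
      (show 45 < chevF4.nroots by rw [en]; norm_num) (by decide +kernel) (t 27) (1 : F)
    rw [mul_one] at a
    calc X 27 (t 27) * v * (X 27 (t 27))⁻¹
        = (X 27 (t 27) * X 39 1 * (X 27 (t 27))⁻¹) *
          (X 27 (t 27) * X 45 1 * (X 27 (t 27))⁻¹) := by rw [hv]; group
      _ = X 39 1 * X 40 (t 27) * X 45 1 := by rw [a, b.eq, mul_inv_cancel_right]
      _ = _ := by rw [hv, mul_assoc, c.eq, mul_assoc]
  have h45 : ∀ r w : ℕ, r < 48 → w < 48 → (C).T.evenPair r 39 = true → 45 ≠ r → 45 ≠ chevF4.neg r →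
      ((C).T.commTerms r 45).map (fun x => (x.1, x.2.1.natAbs, x.2.2.1, x.2.2.2)) = [(w, 1, 1, 1)] →
      X r (t r) * v * (X r (t r))⁻¹ = v * X w (t r) := by
    intro r w hr hw h39 hne hneg hterm
    have a := conj_step (r := r) (s := 45) (u := w) hr (by norm_num) hne hneg hterm (t r) (1 : F)
    have b := certFullF4.commute_evenPair (r := r) (s := 39) (show r < chevF4.nroots by rw [en]; exact hr)
      (show 39 < chevF4.nroots by rw [en]; norm_num) h39 (t r) (1 : F)
    rw [mul_one] at a
    calc X r (t r) * v * (X r (t r))⁻¹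
        = (X r (t r) * X 39 1 * (X r (t r))⁻¹) * (X r (t r) * X 45 1 * (X r (t r))⁻¹) := by
          rw [hv]; group
      _ = X 39 1 * (X 45 1 * X w (t r)) := by rw [a, b.eq, mul_inv_cancel_right]
      _ = _ := by rw [hv, mul_assoc]
  have h26 := h45 26 47 (by norm_num) (by norm_num) (by decide +kernel) (by norm_num)
    (by decide +kernel) (by decide +kernel)
  have h25 := h45 25 46 (by norm_num) (by norm_num) (by decide +kernel) (by norm_num)
    (by decide +kernel) (by decide +kernel)
  have cm : ∀ r s : ℕ, r < 48 → s < 48 → (C).T.evenPair r s = true → ∀ a : F,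
      X r (t r) * X s a * (X r (t r))⁻¹ = X s a := fun r s hr hs h a => by
    rw [(certFullF4.commute_evenPair (show r < chevF4.nroots by rw [en]; exact hr)
      (show s < chevF4.nroots by rw [en]; exact hs) h (t r) a).eq, mul_inv_cancel_right]
  have cM1 : ∀ a : F, M1 * X 44 a * M1⁻¹ = X 44 a := fun a => by
    have h : Commute M1 (X 44 a) := by
      refine Commute.list_prod_left _ _ fun x hx => ?_
      obtain ⟨r, hr, rfl⟩ := List.mem_map.1 hx
      have key : ([28, 29, 30, 31, 32, 33].all fun r => Nat.blt r 48 && (C).T.evenPair r 44) =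
          true := by decide +kernel
      simp only [List.all_eq_true, Bool.and_eq_true, Nat.blt_eq] at key
      exact certFullF4.commute_evenPair (show r < chevF4.nroots by rw [en]; exact (key r hr).1)
        (show 44 < chevF4.nroots by rw [en]; norm_num) (key r hr).2 _ _
    rw [h.eq, mul_inv_cancel_right]
  -- the image of `v`
  have c24 : X 24 (t 24) * X 46 (t 25) * (X 24 (t 24))⁻¹ =
      X 46 (t 25) * X 47 (t 24 * t 25) :=
    conj_step (r := 24) (s := 46) (u := 47) (by norm_num) (by norm_num) (by norm_num)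
      (by decide +kernel) (by decide +kernel) _ _
  have himg : u * v * u⁻¹ =
      v * (X 46 (t 25) * X 47 (t 24 * t 25) * X 47 (t 26) * X 40 (t 27) * X 44 (t 34)) := by
    have s1 : M2 * v * M2⁻¹ = v := by rw [hM2v.eq, mul_inv_cancel_right]
    have s2 : M1 * (v * X 44 (t 34)) * M1⁻¹ = v * X 44 (t 34) := by
      calc M1 * (v * X 44 (t 34)) * M1⁻¹ = (M1 * v * M1⁻¹) * (M1 * X 44 (t 34) * M1⁻¹) := by group
        _ = _ := by rw [hM1v.eq, mul_inv_cancel_right, cM1]
    have s3 : X 27 (t 27) * (v * X 44 (t 34)) * (X 27 (t 27))⁻¹ =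
        v * X 40 (t 27) * X 44 (t 34) := by
      calc X 27 (t 27) * (v * X 44 (t 34)) * (X 27 (t 27))⁻¹
          = (X 27 (t 27) * v * (X 27 (t 27))⁻¹) *
            (X 27 (t 27) * X 44 (t 34) * (X 27 (t 27))⁻¹) := by group
        _ = _ := by rw [h27, cm 27 44 (by norm_num) (by norm_num) (by decide +kernel)]
    have s4 : X 26 (t 26) * (v * X 40 (t 27) * X 44 (t 34)) * (X 26 (t 26))⁻¹ =
        v * X 47 (t 26) * X 40 (t 27) * X 44 (t 34) := by
      calc X 26 (t 26) * (v * X 40 (t 27) * X 44 (t 34)) * (X 26 (t 26))⁻¹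
          = (X 26 (t 26) * v * (X 26 (t 26))⁻¹) *
            (X 26 (t 26) * X 40 (t 27) * (X 26 (t 26))⁻¹) *
            (X 26 (t 26) * X 44 (t 34) * (X 26 (t 26))⁻¹) := by group
        _ = _ := by rw [h26, cm 26 40 (by norm_num) (by norm_num) (by decide +kernel),
              cm 26 44 (by norm_num) (by norm_num) (by decide +kernel)]
    have s5 : X 25 (t 25) * (v * X 47 (t 26) * X 40 (t 27) * X 44 (t 34)) * (X 25 (t 25))⁻¹ =
        v * X 46 (t 25) * X 47 (t 26) * X 40 (t 27) * X 44 (t 34) := by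
      calc X 25 (t 25) * (v * X 47 (t 26) * X 40 (t 27) * X 44 (t 34)) * (X 25 (t 25))⁻¹
          = (X 25 (t 25) * v * (X 25 (t 25))⁻¹) *
            (X 25 (t 25) * X 47 (t 26) * (X 25 (t 25))⁻¹) *
            (X 25 (t 25) * X 40 (t 27) * (X 25 (t 25))⁻¹) *
            (X 25 (t 25) * X 44 (t 34) * (X 25 (t 25))⁻¹) := by group
        _ = _ := by rw [h25, cm 25 47 (by norm_num) (by norm_num) (by decide +kernel),
              cm 25 40 (by norm_num) (by norm_num) (by decide +kernel),
              cm 25 44 (by norm_num) (by norm_num) (by decide +kernel)]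
    have s6 : X 24 (t 24) * (v * X 46 (t 25) * X 47 (t 26) * X 40 (t 27) * X 44 (t 34)) *
        (X 24 (t 24))⁻¹ =
        v * (X 46 (t 25) * X 47 (t 24 * t 25)) * X 47 (t 26) * X 40 (t 27) * X 44 (t 34) := by
      calc X 24 (t 24) * (v * X 46 (t 25) * X 47 (t 26) * X 40 (t 27) * X 44 (t 34)) *
            (X 24 (t 24))⁻¹
          = (X 24 (t 24) * v * (X 24 (t 24))⁻¹) * (X 24 (t 24) * X 46 (t 25) * (X 24 (t 24))⁻¹) *
            (X 24 (t 24) * X 47 (t 26) * (X 24 (t 24))⁻¹) *
            (X 24 (t 24) * X 40 (t 27) * (X 24 (t 24))⁻¹) *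
            (X 24 (t 24) * X 44 (t 34) * (X 24 (t 24))⁻¹) := by group
        _ = _ := by rw [h24v.eq, mul_inv_cancel_right, c24,
              cm 24 47 (by norm_num) (by norm_num) (by decide +kernel),
              cm 24 40 (by norm_num) (by norm_num) (by decide +kernel),
              cm 24 44 (by norm_num) (by norm_num) (by decide +kernel)]
    calc u * v * u⁻¹
        = X 24 (t 24) * (X 25 (t 25) * (X 26 (t 26) * (X 27 (t 27) * (M1 * (X 34 (t 34) *
            (M2 * v * M2⁻¹) * (X 34 (t 34))⁻¹) * M1⁻¹) * (X 27 (t 27))⁻¹) * (X 26 (t 26))⁻¹) *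
            (X 25 (t 25))⁻¹) * (X 24 (t 24))⁻¹ := by rw [eu]; group
      _ = _ := by rw [s1, h34, s2, s3, s4, s5, s6]; group
  rw [hc.eq, mul_inv_cancel_right] at himg
  have hone : certFullF4.listX [(46, t 25), (47, t 24 * t 25), (47, t 26), (40, t 27), (44, t 34)]
      = certFullF4.listX ([] : List (ℕ × F)) := by
    have h := left_eq_mul.1 himg
    simpa [CertFull.listX, mul_assoc] using h
  have hA : (C).T.checkAbsorb [39, 45, 40, 44, 46, 47] 39 45 = true := by decide +kernel
  have hl : ∀ x ∈ [(46, t 25), (47, t 24 * t 25), (47, t 26), (40, t 27), (44, t 34)],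
      x.1 ∈ [39, 45, 40, 44, 46, 47] := by simp
  have hcoef : ∀ r, 24 ≤ r → r < 48 →
      CertFull.coefAt [(46, t 25), (47, t 24 * t 25), (47, t 26), (40, t 27), (44, t 34)] r = 0 :=
    fun r h1 h2 => by
      rw [certFullF4.coef_eq_of_listX (certFullF4.absorb_list hA hl).1 (by simp)
        (certFullF4.absorb_list hA hl).2 (by simp) hone (hpos r h1 h2)]
      rfl
  have t25 : t 25 = 0 := by simpa [CertFull.coefAt] using hcoef 46 (by norm_num) (by norm_num)
  have t27 : t 27 = 0 := by simpa [CertFull.coefAt] using hcoef 40 (by norm_num) (by norm_num)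
  have t34 : t 34 = 0 := by simpa [CertFull.coefAt] using hcoef 44 (by norm_num) (by norm_num)
  have t26 : t 26 = 0 := by
    simpa [CertFull.coefAt, t25] using hcoef 47 (by norm_num) (by norm_num)
  rw [e, Cert.oprod, show List.range' (C).T.h (chevF4.nroots - (C).T.h) = List.range' 24 24 by
    decide +kernel]
  refine Subgroup.list_prod_mem _ fun x hx => ?_
  obtain ⟨r, hr, rfl⟩ := List.mem_map.1 hx
  rw [List.mem_range'_1] at hr
  by_cases hrex : r ∈ [27, 25, 34, 26]
  · simp only [List.mem_cons, List.not_mem_nil, or_false] at hrex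
    rcases hrex with rfl | rfl | rfl | rfl <;>
      simp [t25, t26, t27, t34, Cert.xg_zero, one_mem]
  · exact hS r (hpos r hr.1 (by omega)) hrex _

/-- The centraliser of the product of an orthogonal short/long pair of root elements. -/
theorem centralizer_v :
    chevF4.group F ⊓ Subgroup.centralizer {X 39 (1 : F) * X 45 1} =
      chevF4.rootSubgroup F 33 ⊔ chevF4.rootSubgroup F 14 ⊔ chevF4.rootSubgroup F 24 ⊔
        chevF4.rootSubgroup F 23 ⊔ Subgroup.closure {g : GL chevF4.Idx F | ∃ (r : ℕ) (c : F),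
          chevF4.IsPosRoot r ∧ r ∉ [27, 25, 34, 26] ∧
            (g : Matrix chevF4.Idx chevF4.Idx F) = chevF4.x F r c} := by
  have h48a : (39 : ℕ) < 48 := by norm_num
  have h48b : (45 : ℕ) < 48 := by norm_num
  set S := chevF4.rootSubgroup F 33 ⊔ chevF4.rootSubgroup F 14 ⊔ chevF4.rootSubgroup F 24 ⊔
    chevF4.rootSubgroup F 23 ⊔ Subgroup.closure {g : GL chevF4.Idx F | ∃ (r : ℕ) (c : F),
      chevF4.IsPosRoot r ∧ r ∉ [27, 25, 34, 26] ∧
        (g : Matrix chevF4.Idx chevF4.Idx F) = chevF4.x F r c} with hS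
  have hle : S ≤ chevF4.group F ⊓ Subgroup.centralizer {X 39 (1 : F) * X 45 1} := by
    refine sup_le (sup_le (sup_le (sup_le ?_ ?_) ?_) ?_) ((Subgroup.closure_le _).2 ?_)
    · exact root_le h48a h48b (by norm_num) (by decide +kernel) (by decide +kernel)
    · exact root_le h48a h48b (by norm_num) (by decide +kernel) (by decide +kernel)
    · exact root_le h48a h48b (by norm_num) (by decide +kernel) (by decide +kernel)
    · exact root_le h48a h48b (by norm_num) (by decide +kernel) (by decide +kernel)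
    · rintro g ⟨r, c, hr, hrex, hg⟩
      obtain rfl := certFullF4.eq_xg_iff.1 hg
      have key : ∀ r ∈ List.range' 24 24, r ∉ [27, 25, 34, 26] →
          (Nat.blt r 48 && (C).T.evenPair r 39 && (C).T.evenPair r 45) = true := by decide +kernel
      have h := key r (mem_range_pos (certFullF4.posRoot_iff.1 hr)) hrex
      simp only [Bool.and_eq_true, Nat.blt_eq] at h
      exact root_le h48a h48b h.1.1 h.1.2 h.2 (mem_root r c)
  obtain ⟨s0, s1, s2, s3, n0, n1, n2, n3, hrk, hnr⟩ := simple_values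
  have hpS : ∀ r, (C).Pos r → r ∉ [27, 25, 34, 26] → ∀ t : F, X r t ∈ S := fun r hr hrex t =>
    Subgroup.mem_sup_right (Subgroup.subset_closure
      ⟨r, t, certFullF4.posRoot_iff.2 hr, hrex, certFullF4.xg_val r t⟩)
  refine le_antisymm ?_ hle
  refine certFullF4.centralizer_pair_le (Z := [39, 45, 40, 44, 46, 47]) (by decide +kernel)
    (by decide) (by simp) (by simp) (by norm_num) 1 1 2 1 (P := [0, 3]) (ex := [27, 25, 34, 26])
    (by decide +kernel) (by norm_num) (by decide +kernel) ?_ ?_ ?_ hpS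
    (fun u hu hc => U_centralizer_v hpS hu hc)
    (fun g hg => Subgroup.mem_centralizer_singleton_iff.1 (Subgroup.mem_inf.1 (hle hg)).2)
  · intro L hL ha hb
    have e1 := short_wl hL (s := 39) (by rw [hnr]; norm_num)
    have e2 := short_wl hL (s := 45) (by rw [hnr]; norm_num)
    have hp : (C).T.pairing ((C).wl L 39) ((C).wl L 45) = (C).T.pairing 39 45 :=
      certFullF4.pairing_wl hL (by rw [hnr]; norm_num) (by rw [hnr]; norm_num)
    have key : ∀ x ∈ [39, 45, 40, 44, 46, 47], ∀ y ∈ [39, 45, 40, 44, 46, 47],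
        (x ∈ shortList ↔ 39 ∈ shortList) → (y ∈ shortList ↔ 45 ∈ shortList) →
        (C).T.pairing x y = (C).T.pairing 39 45 → x = 39 ∧ y = 45 := by decide +kernel
    exact key _ ha _ hb e1 e2 hp
  · intro z ha hb i hi hiP
    rw [tchar_four] at ha hb
    have c0 : (C).T.cartan 0 39 = 0 ∧ (C).T.cartan 1 39 = -1 ∧ (C).T.cartan 2 39 = 1 ∧
        (C).T.cartan 3 39 = 0 ∧ (C).T.cartan 0 45 = 0 ∧ (C).T.cartan 1 45 = 2 ∧
        (C).T.cartan 2 45 = -1 ∧ (C).T.cartan 3 45 = 0 := by decide +kernel
    obtain ⟨c1, c2, c3, c4, c5, c6, c7, c8⟩ := c0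
    simp [c1, c2, c3, c4] at ha
    simp [c5, c6, c7, c8] at hb
    have h21 : z 2 = z 1 := (inv_mul_eq_one.1 ha).symm
    rw [h21] at hb
    have h1 : z 1 = 1 := by simpa [pow_two, mul_assoc] using hb
    rw [hrk] at hi
    simp at hiP
    obtain rfl | rfl : i = 1 ∨ i = 2 := by omega
    exacts [h1, h21.trans h1]
  · intro p hp hpP t
    simp only [List.mem_cons, List.not_mem_nil, or_false] at hpP
    rcases hpP with rfl | rfl
    · rw [s0, n0]
      exact ⟨Subgroup.mem_sup_left (Subgroup.mem_sup_left (Subgroup.mem_sup_left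
          (Subgroup.mem_sup_left (mem_root 33 t)))),
        Subgroup.mem_sup_left (Subgroup.mem_sup_left (Subgroup.mem_sup_left
          (Subgroup.mem_sup_right (mem_root 14 t))))⟩
    · rw [s3, n3]
      exact ⟨Subgroup.mem_sup_left (Subgroup.mem_sup_left (Subgroup.mem_sup_right (mem_root 24 t))),
        Subgroup.mem_sup_left (Subgroup.mem_sup_right (mem_root 23 t))⟩

end


/-- Centralizers of the two remaining classes of involutions in the Chevalley group G of type F₄ over a finite field F of characteristic two (this problem's root numbering for type F₄, from the Chevalley data module: p₁, p₂ short, p₃, p₄ long with indices 33, 27, 25, 24 and negatives 14, 20, 22, 23; U generated by the positive root subgroups). For an element of G with matrix x_47(1)x_44(1) (highest root times highest short root): its centralizer in G is generated by U, X_{−p₂} and X_{−p₃}. For an element of G with matrix x_39(1)x_45(1) (roots (1,2,2,1) and (2,4,2,1), an orthogonal short/long pair): its centralizer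 in G is generated by X_{p₁}, X_{−p₁}, X_{p₄}, X_{−p₄} and the root subgroups of all positive roots other than p₂ (27), p₃ (25), p₁ + p₂ (34) and p₃ + p₄ (26). -/
theorem result {F : Type*} [Field F] [Fintype F] [CharP F 2] (w v : GL Cfsg.Lie.chevF4.Idx F) (hw : (w : Matrix Cfsg.Lie.chevF4.Idx Cfsg.Lie.chevF4.Idx F) = Cfsg.Lie.chevF4.x F 47 1 * Cfsg.Lie.chevF4.x F 44 1) (hv : (v : Matrix Cfsg.Lie.chevF4.Idx Cfsg.Lie.chevF4.Idx F) = Cfsg.Lie.chevF4.x F 39 1 * Cfsg.Lie.chevF4.x F 45 1) :
    Cfsg.Lie.chevF4.group F ⊓ Subgroup.centralizer {w} = Cfsg.Lie.chevF4.posUnipotent F ⊔ Cfsg.Lie.chevF4.rootSubgroup F 20 ⊔ Cfsg.Lie.chevF4.rootSubgroup F 22 ∧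
    Cfsg.Lie.chevF4.group F ⊓ Subgroup.centralizer {v} = Cfsg.Lie.chevF4.rootSubgroup F 33 ⊔ Cfsg.Lie.chevF4.rootSubgroup F 14 ⊔ Cfsg.Lie.chevF4.rootSubgroup F 24 ⊔ Cfsg.Lie.chevF4.rootSubgroup F 23 ⊔
      Subgroup.closure {g : GL Cfsg.Lie.chevF4.Idx F | ∃ (r : ℕ) (c : F), Cfsg.Lie.chevF4.IsPosRoot r ∧ r ∉ [27, 25, 34, 26] ∧ (g : Matrix Cfsg.Lie.chevF4.Idx Cfsg.Lie.chevF4.Idx F) = Cfsg.Lie.chevF4.x F r c} := by
  have ew : w = certFullF4.xg 47 (1 : F) * certFullF4.xg 44 1 := by
    refine Units.ext ?_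
    rw [Units.val_mul, certFullF4.xg_val, certFullF4.xg_val]
    exact hw
  have ev : v = certFullF4.xg 39 (1 : F) * certFullF4.xg 45 1 := by
    refine Units.ext ?_
    rw [Units.val_mul, certFullF4.xg_val, certFullF4.xg_val]
    exact hv
  subst ew ev
  exact ⟨centralizer_w, centralizer_v⟩

end Cfsg.Agent.S2179
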