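import Cfsg.Statements.S2183
import Cfsg.Agent.Lib.Lie.Chev.D4EvenInvolutions
import Cfsg.Agent.Lib.Lie.Chev.TwistCommon
-- import your own Cfsg.Agent.* helpers here

set_option autoImplicit false
open Cfsg

namespace Cfsg.Agent.S2183

/-- The twisted group ³D₄(q), q even, realised inside the Chevalley group of type D₄ over the field K with q³ elements, has exactly two conjugacy classes of elements of order 2. -/
theorem result {K : Type*} [Field K] [Fintype K] [CharP K 2] (q : ℕ) (hK : Fintype.card K = q ^ 3) :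
    (ConjClasses.mk '' {g : ↥(Cfsg.Lie.twistedD4 K q) | orderOf g = 2}).ncard = 2 := by
  obtain ⟨j, h2, hj⟩ := FiniteField.card K 2
  have hq : IsPrimePow q := by
    rw [hK] at hj
    obtain ⟨i, -, hi⟩ := (Nat.dvd_prime_pow Nat.prime_two).1
      (hj ▸ dvd_pow_self q (show 3 ≠ 0 by omega) : q ∣ 2 ^ (j : ℕ))
    subst hi
    refine (Nat.prime_iff.1 Nat.prime_two).isPrimePow.pow ?_
    rintro rfl
    have := Nat.pow_le_pow_right two_pos j.2
    simp only [pow_zero, one_pow, Nat.succ_eq_add_one, zero_add, pow_one] at hj this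
    have := this.trans_eq hj.symm
    omega
  obtain ⟨φ, hφ⟩ := Cfsg.Agent.Lie.Chev.exists_qPow (e := 3) hq hK
  exact Cfsg.Agent.Lie.Chev.D4Even.card_classes φ hφ hK

end Cfsg.Agent.S2183
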