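import Cfsg.Statements.S2186
import Cfsg.Agent.Lib.Lie.Chev.PairWords
-- import your own Cfsg.Agent.* helpers here

set_option autoImplicit false
open Cfsg

namespace Cfsg.Agent.S2186

/-- Let G be the Chevalley group of type G₂ (over a field with at least four elements), D₄, E₆, E₇ or E₈ over a finite field F of characteristic two, and let X be the root subgroup of the highest root (the last root index) — a long root subgroup, of order |F|. For every g in G, the subgroup generated by X and its conjugate g X g⁻¹ is either a 2-group or is conjugate by an element of G to the subgroup generated by X and the root subgroup of the lowest root (index 0, the negative of the highest root), which is a copy of SL₂(F). -/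
theorem result {F : Type*} [Field F] [Fintype F] [CharP F 2] (D : Cfsg.Lie.ChevalleyDatum) (hD : D ∈ [Cfsg.Lie.chevG2, Cfsg.Lie.chevD4, Cfsg.Lie.chevE6, Cfsg.Lie.chevE7, Cfsg.Lie.chevE8]) (hF : D = Cfsg.Lie.chevG2 → 4 ≤ Fintype.card F) (g : GL D.Idx F) (hg : g ∈ D.group F) :
    IsPGroup 2 ↥(D.rootSubgroup F (D.nroots - 1) ⊔ (D.rootSubgroup F (D.nroots - 1)).map (MulAut.conj g).toMonoidHom) ∨
    ∃ h ∈ D.group F, (D.rootSubgroup F (D.nroots - 1) ⊔ (D.rootSubgroup F (D.nroots - 1)).map (MulAut.conj g).toMonoidHom).map (MulAut.conj h).toMonoidHom = D.rootSubgroup F (D.nroots - 1) ⊔ D.rootSubgroup F 0 := by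
  simp only [List.mem_cons, List.not_mem_nil, or_false] at hD
  haveI : Fact (Nat.Prime 2) := ⟨Nat.prime_two⟩
  have key : ∀ (E : Cfsg.Lie.ChevalleyDatum) (c : Lie.Chev.CertFull E) (r : ℕ) (g : GL E.Idx F),
      g ∈ E.group F → r = E.nroots - 1 → (∃ words, c.T.checkPairPos r words = true ∧
        c.T.checkTop r = true ∧ c.T.neg r = 0) →
      IsPGroup 2 ↥(E.rootSubgroup F r ⊔ (E.rootSubgroup F r).map (MulAut.conj g).toMonoidHom) ∨
      ∃ h ∈ E.group F, (E.rootSubgroup F r ⊔ (E.rootSubgroup F r).map
        (MulAut.conj g).toMonoidHom).map (MulAut.conj h).toMonoidHom =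
          E.rootSubgroup F r ⊔ E.rootSubgroup F 0 := by
    intro E c r g hg hr ⟨words, hw, ht, h0⟩
    have hlt : r < E.nroots := by
      simp only [Lie.Chev.Tables.checkTop, Bool.and_eq_true, Nat.blt_eq] at ht
      exact c.nroots_eq ▸ ht.1.2
    have h := c.root_pair (ℓ := 2) ht hw hg
    rwa [c.neg_eq hlt, h0] at h
  rcases hD with rfl | rfl | rfl | rfl | rfl
  · exact key _ Lie.Chev.certFullG2 _ g hg rfl Lie.Chev.pairPosG2
  · exact key _ Lie.Chev.certFullD4 _ g hg rfl Lie.Chev.pairPosD4
  · exact key _ Lie.Chev.certFullE6 _ g hg rfl Lie.Chev.pairPosE6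
  · exact key _ Lie.Chev.certFullE7 _ g hg rfl Lie.Chev.pairPosE7
  · exact key _ Lie.Chev.certFullE8 _ g hg rfl Lie.Chev.pairPosE8

end Cfsg.Agent.S2186
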