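import Cfsg.Statements.S2207
import Cfsg.Agent.Lib.Perm.RankThreeFrob.EvenSimple
import Cfsg.Agent.Lib.Perm.RankThreeFrob.EvenDeltaEnd
import Cfsg.Agent.Lib.Perm.RankThreeFrob.OddMain
import Cfsg.Agent.Lib.Perm.RankThreeFrob.Small
-- import your own Cfsg.Agent.* helpers here

set_option autoImplicit false
open Cfsg

namespace Cfsg.Agent.S2207

/-- Primitive rank 3 groups whose point stabilizer acts as a Frobenius group on one of its two non-trivial orbits. Let a finite group G of even order act faithfully and primitively on a finite set X so that the stabilizer of a point A has exactly three orbits, and suppose that on one of its non-trivial orbits I the stabilizer of A acts faithfully as a Frobenius group: transitively, some non-identity element fixing a point of I, and no non-identity element fixing two points of I. Then either G ≅ A₅ and X has 10 points (the action on unordered pairs), or G is solvable and has a normal subgroup of order 16 acting regularly on X. -/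
theorem result {G X : Type*} [Group G] [Finite G] [Fintype X] [MulAction G X] [FaithfulSMul G X] (heven : Even (Nat.card G)) (hprim : MulAction.IsPreprimitive G X) (A : X)
    (h3 : Nat.card (MulAction.orbitRel.Quotient ↥(MulAction.stabilizer G A) X) = 3) (B : X) (hBA : B ≠ A)
    (hfaith : ∀ g ∈ MulAction.stabilizer G A, (∀ h ∈ MulAction.stabilizer G A, g • (h • B) = h • B) → g = 1)
    (hfix : ∃ g ∈ MulAction.stabilizer G A, g ≠ 1 ∧ g • B = B)
    (hfrob : ∀ g ∈ MulAction.stabilizer G A, ∀ h ∈ MulAction.stabilizer G A, g • B = B → g • (h • B) = h • B → h • B ≠ B → g = 1) :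
    (Nonempty (G ≃* ↥(alternatingGroup (Fin 5))) ∧ Fintype.card X = 10) ∨
    (IsSolvable G ∧ ∃ N : Subgroup G, N.Normal ∧ Nat.card N = 16 ∧ ∀ x y : X, ∃! n : ↥N, (n : G) • x = y) := by
  obtain ⟨D, h⟩ := Perm.RankThreeFrob.exists_setup heven hprim h3 hBA hfaith hfix hfrob
  rcases Nat.even_or_odd (Perm.RankThreeFrob.cc G A B) with hc | hc
  · obtain ⟨⟨t, p⟩, -⟩ := h.exists_evenPack hc
    by_cases hΔ : Perm.RankThreeFrob.Del G A B D = ⊥
    · have hD : ∀ x ∈ Perm.RankThreeFrob.Kf G A B A, x • D = D → x = 1 := fun x hx e => by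
        have hm : x ∈ Perm.RankThreeFrob.Del G A B D := ⟨hx, e⟩
        rwa [hΔ, Subgroup.mem_bot] at hm
      rcases p.simple_case h hD with ⟨hX, hG⟩ | ⟨hX, hG⟩
      · left
        haveI := h.sixty_simple hX hG
        exact ⟨Cfsg.Agent.S0494.result hG, by rw [← Nat.card_eq_fintype_card]; exact hX⟩
      · right
        have hsol : Group.IsSolvable G :=
          Cfsg.Agent.S0144.result 2 5 6 1 Nat.prime_two Nat.prime_five (by rw [hG]; norm_num)
        exact ⟨hsol, h.regular_sixteen hX hsol⟩
    · right
      obtain ⟨hX, hG⟩ := p.delta_case h hΔ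
      have hsol : Group.IsSolvable G :=
        Cfsg.Agent.S0144.result 2 3 6 2 Nat.prime_two Nat.prime_three (by rw [hG]; norm_num)
      exact ⟨hsol, h.regular_sixteen hX hsol⟩
  · obtain ⟨S, q⟩ := h.exists_oddPack hc
    exact (q.absurd_odd h).elim

end Cfsg.Agent.S2207
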