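import Cfsg.Prelude
import Cfsg.Agent.Lib.Spor.NineQ.Main

set_option autoImplicit false
open Cfsg

namespace Cfsg.Agent.S2219

/-- Let G be a non-abelian finite simple group of order 9·2ᵃ·qᵇ for a prime q other than 2 and 3, having at least three conjugacy classes of nonidentity 3-elements (elements of order 3 or 9). Then G is isomorphic to PSL(2,8) or to PSL(2,17). -/
theorem result {G : Type*} [Group G] [Finite G] [IsSimpleGroup G] (hG : ¬ IsMulCommutative G)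
    (q a b : ℕ) (hq : q.Prime) (hq2 : q ≠ 2) (hq3 : q ≠ 3) (hcard : Nat.card G = 9 * 2 ^ a * q ^ b)
    (h3 : 3 ≤ Nat.card {C : ConjClasses G // ∃ g ∈ C.carrier, g ≠ 1 ∧ orderOf g ∣ 9}) :
    (∃ (F : Type) (_ : Field F) (_ : Fintype F), Fintype.card F = 8 ∧
        Nonempty (G ≃* Matrix.ProjectiveSpecialLinearGroup (Fin 2) F)) ∨
      Nonempty (G ≃* Matrix.ProjectiveSpecialLinearGroup (Fin 2) (ZMod 17)) := by
  classical
  haveI := Fintype.ofFinite G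
  haveI := Fact.mk Nat.prime_three
  obtain ⟨T⟩ : Nonempty (Sylow 3 G) := inferInstance
  have hT := Spor.NineQ.card_sylow hq hq3 hcard T
  haveI := Fintype.ofFinite {C : ConjClasses G // ∃ g ∈ C.carrier, g ≠ 1 ∧ orderOf g ∣ 9}
  rw [Nat.card_eq_fintype_card] at h3
  obtain ⟨A, B, C, hAB, hAC, hBC⟩ :=
    (Fintype.two_lt_card_iff (α := {C : ConjClasses G // ∃ g ∈ C.carrier, g ≠ 1 ∧ orderOf g ∣ 9})).1
      (by omega)
  have hrep : ∀ D : {C : ConjClasses G // ∃ g ∈ C.carrier, g ≠ 1 ∧ orderOf g ∣ 9},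
      ∃ v ∈ (T : Subgroup G), v ≠ 1 ∧ ConjClasses.mk v = D.1 := by
    rintro ⟨D, g, hgD, hg1, hg9⟩
    obtain ⟨v, hv, hc⟩ := Spor.NineQ.dvd_nine hT hg9
    refine ⟨v, hv, fun e => hg1 (isConj_one_left.1 (e ▸ hc)), ?_⟩
    rw [← ConjClasses.mk_eq_mk_iff_isConj.2 hc]
    exact ConjClasses.mem_carrier_iff_mk_eq.1 hgD
  obtain ⟨x, hx, hx1, hxA⟩ := hrep A
  obtain ⟨y, hy, hy1, hyB⟩ := hrep B
  obtain ⟨z, hz, hz1, hzC⟩ := hrep C
  refine Spor.NineQ.main hG hq hq2 hq3 hcard T ⟨x, hx, y, hy, z, hz, hx1, hy1, hz1,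
    fun h => hAB (Subtype.ext ?_), fun h => hAC (Subtype.ext ?_), fun h => hBC (Subtype.ext ?_)⟩
  · rw [← hxA, ← hyB, ConjClasses.mk_eq_mk_iff_isConj.2 h]
  · rw [← hxA, ← hzC, ConjClasses.mk_eq_mk_iff_isConj.2 h]
  · rw [← hyB, ← hzC, ConjClasses.mk_eq_mk_iff_isConj.2 h]

end Cfsg.Agent.S2219
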