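import Cfsg.Statements.S2225
import Cfsg.Agent.Lib.Lie.TwoSylowSL
import Cfsg.Agent.Lib.Lie.TwoPronormalPSL
import Cfsg.Agent.Lib.Lie.TwoEvenOvergroup
-- import your own Cfsg.Agent.* helpers here

set_option autoImplicit false
open Cfsg

namespace Cfsg.Agent.S2225

universe u

open Cfsg.Agent.Transfer.PronormalSyl Cfsg.Agent.Fus.PSLN in
theorem even_case {F : Type u} [Field F] [Fintype F] [CharP F 2] {n : ℕ}
    (H : Subgroup (Matrix.SpecialLinearGroup (Fin n) F)) (hH : Odd H.index) : Cfsg.IsPronormal H := by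
  haveI : Fact (Nat.Prime 2) := ⟨Nat.prime_two⟩
  set U := unip F n
  obtain ⟨S, hS⟩ := (isPGroup_unip : IsPGroup 2 U).exists_le_sylow
  have hUS : (S : Subgroup (Matrix.SpecialLinearGroup (Fin n) F)) = U := by
    haveI : Group.IsNilpotent (S : Subgroup (Matrix.SpecialLinearGroup (Fin n) F)) := S.isPGroup'.isNilpotent
    by_contra hne
    have hlt : U.subgroupOf S < ⊤ := lt_of_le_of_ne le_top fun e =>
      hne (le_antisymm (Subgroup.subgroupOf_eq_top.1 e) hS)
    obtain ⟨x, hx, hxn⟩ := SetLike.exists_of_lt (Group.normalizerCondition_of_isNilpotent _ hlt)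
    refine hxn ?_
    show (x : Matrix.SpecialLinearGroup (Fin n) F) ∈ U
    have hup : IsUpper (x : Matrix.SpecialLinearGroup (Fin n) F) := isUpper_of_conj_mem fun u hu => by
      have := (Subgroup.mem_normalizer_iff.1 hx ⟨u, hS hu⟩).1 hu
      exact this
    refine ⟨hup, fun i => ?_⟩
    obtain ⟨k, hk⟩ := S.isPGroup' x
    refine eq_one_of_pow_prime_pow_eq_one (p := 2) (k := k) ?_
    rw [← (hup.pow_diag _).2, show (x : Matrix.SpecialLinearGroup (Fin n) F) ^ 2 ^ k = 1 by
      simpa using congrArg Subtype.val hk]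
    simp [ent]
  obtain ⟨T', -⟩ : ∃ T' : Sylow 2 H, True := ⟨default, trivial⟩
  set T₀ := (T' : Subgroup H).map H.subtype
  have hT₀i : ¬ 2 ∣ T₀.index := by
    rw [Subgroup.index_map_subtype]
    exact Nat.prime_two.not_dvd_mul T'.not_dvd_index (by rw [Nat.odd_iff] at hH; omega)
  set T : Sylow 2 (Matrix.SpecialLinearGroup (Fin n) F) := (T'.isPGroup'.map H.subtype).toSylow hT₀i
  have hTH : (T : Subgroup (Matrix.SpecialLinearGroup (Fin n) F)) ≤ H := Subgroup.map_subtype_le _
  obtain ⟨x, hx⟩ := MulAction.exists_smul_eq (Matrix.SpecialLinearGroup (Fin n) F) T S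
  have hU : U ≤ cj x H := by
    rw [← hUS, ← hx]
    exact Subgroup.map_mono hTH
  have h := isPronormal_cj x⁻¹ (Lie.TwoEven.pronormal_of_unip_le 2 S hUS hU)
  rwa [← cj_mul, inv_mul_cancel, cj_one] at h

/-- Let F be a finite field and d = 2^w ≥ 2 a power of 2 such that PSL_d(F) is simple. Then every subgroup H of PSL_d(F) of odd index is pronormal: for every g, H and gHg⁻¹ are conjugate by an element of the subgroup they generate. -/
theorem result {F : Type*} [Field F] [Fintype F]
    (w : ℕ) (hw : 1 ≤ w) (hs : IsSimpleGroup (Matrix.ProjectiveSpecialLinearGroup (Fin (2 ^ w)) F))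
    (H : Subgroup (Matrix.ProjectiveSpecialLinearGroup (Fin (2 ^ w)) F)) (hH : Odd H.index) : Cfsg.IsPronormal H := by
  haveI : Fact (Nat.Prime 2) := ⟨Nat.prime_two⟩
  rcases Nat.even_or_odd (Fintype.card F) with hev | hodd
  · haveI : CharP F 2 := by
      obtain ⟨p, hp⟩ := CharP.exists F
      obtain ⟨a, hpp, ha⟩ := FiniteField.card F p
      have : 2 ∣ p := Nat.prime_two.dvd_of_dvd_pow (ha ▸ hev.two_dvd)
      rw [← (Nat.prime_dvd_prime_iff_eq Nat.prime_two hpp).1 this] at hp
      exact hp
    set π := QuotientGroup.mk' (Subgroup.center (Matrix.SpecialLinearGroup (Fin (2 ^ w)) F))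
    have hπ : Function.Surjective π := QuotientGroup.mk'_surjective _
    have h := even_case (H.comap π) (by rwa [Subgroup.index_comap_of_surjective _ hπ])
    have h2 := Transfer.PronormalSyl.isPronormal_map π hπ h
    rwa [Subgroup.map_comap_eq_self_of_surjective hπ] at h2
  · rcases Nat.lt_or_ge w 2 with hw1 | hw2
    · obtain rfl : w = 1 := by omega
      obtain ⟨p, hp⟩ := CharP.exists F
      obtain ⟨a, hpp, ha⟩ := FiniteField.card F p
      haveI : Fact p.Prime := ⟨hpp⟩
      exact Lie.TwoPronormalPSL.pronormal (F := F) p hodd H hH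
    · obtain ⟨T, hT⟩ := Lie.TwoDouble.exists_selfnorm_PSL (F := F) hodd hw2
      obtain ⟨T', -⟩ : ∃ T' : Sylow 2 H, True := ⟨default, trivial⟩
      have hT₀i : ¬ 2 ∣ ((T' : Subgroup H).map H.subtype).index := by
        rw [Subgroup.index_map_subtype]
        exact Nat.prime_two.not_dvd_mul T'.not_dvd_index (by rw [Nat.odd_iff] at hH; omega)
      set S := (T'.isPGroup'.map H.subtype).toSylow hT₀i
      have hSH : (S : Subgroup (Matrix.ProjectiveSpecialLinearGroup (Fin (2 ^ w)) F)) ≤ H :=
        Subgroup.map_subtype_le _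
      refine Transfer.PronormalSyl.isPronormal_of_normalizer_le S hSH (le_trans (le_of_eq ?_) hSH)
      obtain ⟨g, hg⟩ := MulAction.exists_smul_eq (Matrix.ProjectiveSpecialLinearGroup (Fin (2 ^ w)) F) T S
      rw [← hg]
      show Subgroup.normalizer (((T : Subgroup _).map (MulAut.conj g).toMonoidHom : Subgroup _) : Set _) =
        (T : Subgroup _).map (MulAut.conj g).toMonoidHom
      rw [← Subgroup.map_normalizer_eq_of_bijective _ (f := (MulAut.conj g).toMonoidHom) (MulAut.conj g).bijective, hT]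

end Cfsg.Agent.S2225
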