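import Cfsg.Statements.S2226
import Cfsg.Agent.Lib.Lie.TwoUnitEvenMain
import Cfsg.Agent.Lib.Lie.TwoUnitSU
-- import your own Cfsg.Agent.* helpers here

set_option autoImplicit false
open Cfsg

namespace Cfsg.Agent.S2226

/-- Let F be a finite field with q² elements and d = 2^w ≥ 4 a power of 2 such that the unitary group PSU_d(q) (realised over F) is simple. Then every subgroup H of PSU_d(q) of odd index is pronormal: for every g, H and gHg⁻¹ are conjugate by an element of the subgroup they generate. -/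
theorem result {F : Type*} [Field F] [Fintype F] (q : ℕ)
    (hF : Fintype.card F = q ^ 2) (w : ℕ) (hw : 2 ≤ w) (hs : IsSimpleGroup (Cfsg.PSU (2 ^ w) F q))
    (H : Subgroup (Cfsg.PSU (2 ^ w) F q)) (hH : Odd H.index) : Cfsg.IsPronormal H := by
  haveI : Fact (Nat.Prime 2) := ⟨Nat.prime_two⟩
  rcases Nat.even_or_odd q with hev | hodd
  · haveI : CharP F 2 := by
      obtain ⟨p, hp⟩ := CharP.exists F
      obtain ⟨a, hpp, ha⟩ := FiniteField.card F p
      have : 2 ∣ p := Nat.prime_two.dvd_of_dvd_pow (show 2 ∣ p ^ (a : ℕ) by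
        rw [← ha, hF]; exact hev.two_dvd.trans (dvd_pow_self q two_ne_zero))
      rw [← (Nat.prime_dvd_prime_iff_eq Nat.prime_two hpp).1 this] at hp
      exact hp
    set π := QuotientGroup.mk' (Subgroup.center (Cfsg.SU (2 ^ w) F q))
    have hπ : Function.Surjective π := QuotientGroup.mk'_surjective _
    have h := Lie.TwoUnitEven.pronormal_of_odd_index hF (n := 2 ^ w) (Nat.even_pow.2 ⟨even_two, by omega⟩)
      (H := H.comap π) (by rwa [Subgroup.index_comap_of_surjective _ hπ])
    have h2 := Transfer.PronormalSyl.isPronormal_map π hπ h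
    rwa [Subgroup.map_comap_eq_self_of_surjective hπ] at h2
  · obtain ⟨T, hT⟩ := Lie.TwoUnitBase.exists_selfnorm_PSU hF hodd hw
    obtain ⟨T', -⟩ : ∃ T' : Sylow 2 H, True := ⟨default, trivial⟩
    have hT₀i : ¬ 2 ∣ ((T' : Subgroup H).map H.subtype).index := by
      rw [Subgroup.index_map_subtype]
      exact Nat.prime_two.not_dvd_mul T'.not_dvd_index (by rw [Nat.odd_iff] at hH; omega)
    set S := (T'.isPGroup'.map H.subtype).toSylow hT₀i
    have hSH : (S : Subgroup (Cfsg.PSU (2 ^ w) F q)) ≤ H := Subgroup.map_subtype_le _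
    refine Transfer.PronormalSyl.isPronormal_of_normalizer_le S hSH (le_trans (le_of_eq ?_) hSH)
    obtain ⟨g, hg⟩ := MulAction.exists_smul_eq (Cfsg.PSU (2 ^ w) F q) T S
    rw [← hg]
    show Subgroup.normalizer (((T : Subgroup _).map (MulAut.conj g).toMonoidHom : Subgroup _) : Set _) =
      (T : Subgroup _).map (MulAut.conj g).toMonoidHom
    rw [← Subgroup.map_normalizer_eq_of_bijective _ (f := (MulAut.conj g).toMonoidHom) (MulAut.conj g).bijective, hT]

end Cfsg.Agent.S2226
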