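import Cfsg.Statements.S2227
import Cfsg.Agent.Lib.Lie.Chev.E6Five.Fusion
import Mathlib.FieldTheory.Finite.Extension

set_option autoImplicit false
set_option maxRecDepth 8000
open Cfsg

namespace Cfsg.Agent.S2227

/-- In the twisted group ²E₆(2) all elements of order 5 are conjugate, and the centralizer of an element of order 5 is isomorphic to the direct product of a cyclic group of order 5 with the alternating group of degree 8. -/
theorem result {K : Type*} [Field K] [Fintype K] (hK : Fintype.card K = 4) :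
    (∀ x y : ↥(Cfsg.Lie.twistedE6 K 2), orderOf x = 5 → orderOf y = 5 → IsConj x y) ∧
      ∀ x : ↥(Cfsg.Lie.twistedE6 K 2), orderOf x = 5 →
        Nonempty (↥(Subgroup.centralizer ({x} : Set ↥(Cfsg.Lie.twistedE6 K 2))) ≃* (Multiplicative (ZMod 5) × ↥(alternatingGroup (Fin 8)))) := by
  classical
  obtain ⟨p, hp⟩ := CharP.exists K
  obtain ⟨n, hpp, hn⟩ := FiniteField.card K p
  have hp2 : p = 2 := by
    rw [hK] at hn
    exact (Nat.prime_dvd_prime_iff_eq hpp Nat.prime_two).1 (hpp.dvd_of_dvd_pow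
      (show p ∣ 2 ^ 2 from (show (2 : ℕ) ^ 2 = p ^ (n : ℕ) from hn) ▸ dvd_pow_self p n.ne_zero))
  subst hp2
  haveI : Fact (Nat.Prime 2) := ⟨Nat.prime_two⟩
  letI : Fintype (FiniteField.Extension K 2 2) := Fintype.ofFinite _
  haveI : CharP (FiniteField.Extension K 2 2) 2 :=
    charP_of_injective_ringHom (algebraMap K (FiniteField.Extension K 2 2)).injective 2
  obtain ⟨ι, -⟩ : ∃ ι : K →+* FiniteField.Extension K 2 2, ι = algebraMap K _ := ⟨_, rfl⟩
  have hL : Fintype.card (FiniteField.Extension K 2 2) = 16 := by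
    rw [← Nat.card_eq_fintype_card, FiniteField.natCard_extension, Nat.card_eq_fintype_card, hK]
    norm_num
  let e : ↥(Cfsg.Lie.twistedE6 K 2) ≃*
      ↥(Agent.Lie.Chev.E6Five.Hfix (FiniteField.Extension K 2 2)) :=
    (Subgroup.equivMapOfInjective _ _ (Agent.Lie.Chev.E6Five.map_injective ι)).trans
      (MulEquiv.subgroupCongr (Agent.Lie.Chev.E6Five.map_twisted ι hK hL))
  have hcard : 3 * Nat.card ↥(Agent.Lie.Chev.E6Five.Hfix (FiniteField.Extension K 2 2)) =
      2 ^ 36 * (2 ^ 2 - 1) * (2 ^ 5 + 1) * (2 ^ 6 - 1) * (2 ^ 8 - 1) * (2 ^ 9 + 1) *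
        (2 ^ 12 - 1) := by
    rw [← Nat.card_congr e.toEquiv]
    exact Agent.Lie.Chev.E6.card_group (frobenius K 2)
      (fun t => frobenius_def (R := K) (p := 2) t)
      (show Fintype.card K = 2 ^ 2 by rw [hK]; rfl)
  refine ⟨fun x y hx hy => ?_, fun x hx => ?_⟩
  · obtain ⟨k, hk⟩ := isConj_iff.1 (Agent.Lie.Chev.E6Five.one_class hL hcard
      (x := e x) (y := e y) (by rw [MulEquiv.orderOf_eq, hx]) (by rw [MulEquiv.orderOf_eq, hy]))
    refine isConj_iff.2 ⟨e.symm k, e.injective ?_⟩
    simp only [map_mul, map_inv, MulEquiv.apply_symm_apply]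
    exact hk
  · obtain ⟨f⟩ := Agent.Lie.Chev.E6Five.centraliser_shape hL hcard (x := e x)
      (by rw [MulEquiv.orderOf_eq, hx])
    have hc : (Subgroup.centralizer ({x} : Set ↥(Cfsg.Lie.twistedE6 K 2))).map e.toMonoidHom =
        Subgroup.centralizer {e x} := by
      ext h
      rw [Subgroup.mem_map_equiv, Subgroup.mem_centralizer_singleton_iff,
        Subgroup.mem_centralizer_singleton_iff]
      constructor
      · intro h'
        have := congrArg e h'
        simpa using this
      · intro h'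
        exact e.injective (by simpa using h')
    exact ⟨((MulEquiv.subgroupMap e _).trans (MulEquiv.subgroupCongr hc)).trans f⟩

end Cfsg.Agent.S2227
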