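import Cfsg.Statements.S2231
import Cfsg.Agent.Lib.Fus.QdGroup
import Cfsg.Agent.Lib.Fus.PSLTwo
import Cfsg.Agent.Lib.Lie.Sl2PresNormal
-- import your own Cfsg.Agent.* helpers here

set_option autoImplicit false
open Cfsg

namespace Cfsg.Agent.S2231

/-- Let p be an odd prime and K a finite field of characteristic p. Then Qd(p) (the natural semidirect product of an elementary abelian group of order p² by SL₂(p)) is not involved in the projective special linear group PSL₂(K). -/
theorem result {p : ℕ} [Fact p.Prime] (hp : p ≠ 2) {K : Type*} [Field K] [Fintype K] [CharP K p] : ¬ Cfsg.Involves ↥(Cfsg.qd p) (Matrix.ProjectiveSpecialLinearGroup (Fin 2) K) := by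
  classical
  rintro ⟨L, R, hR, ⟨e⟩⟩
  let G := Matrix.ProjectiveSpecialLinearGroup (Fin 2) K
  let π : Matrix.SpecialLinearGroup (Fin 2) K →* G := QuotientGroup.mk' _
  -- an abelian Sylow subgroup of `SL₂`
  let U : Multiplicative K →* Matrix.SpecialLinearGroup (Fin 2) K :=
    MonoidHom.mk' (fun x => Cfsg.Agent.Lie.Sl2Pres.slU x.toAdd) fun x y => Cfsg.Agent.Lie.Sl2Pres.slU_add _ _
  have hUi : Function.Injective U := fun x y h => by
    have h01 : (Cfsg.Agent.Lie.Sl2Pres.slU x.toAdd).val 0 1 = (Cfsg.Agent.Lie.Sl2Pres.slU y.toAdd).val 0 1 :=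
      congrFun (congrFun (congrArg Subtype.val h) 0) 1
    exact Multiplicative.toAdd.injective h01
  have hcard : Nat.card U.range = p ^ (Nat.card (Matrix.SpecialLinearGroup (Fin 2) K)).factorization p := by
    obtain ⟨n, hp', hn⟩ := FiniteField.card K p
    have h1 : Nat.card U.range = p ^ (n : ℕ) := by
      rw [← Nat.card_congr (MonoidHom.ofInjective hUi).toEquiv, Nat.card_eq_fintype_card,
        Fintype.card_multiplicative, hn]
    have hndvd : ¬ p ∣ (Fintype.card K - 1) * (Fintype.card K + 1) := by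
      intro h
      have hq : p ∣ Fintype.card K := by rw [hn]; exact dvd_pow_self p n.pos.ne'
      have h1q := Fintype.one_lt_card (α := K)
      rcases hp'.dvd_mul.1 h with h | h
      · have := Nat.dvd_sub hq h
        rw [show Fintype.card K - (Fintype.card K - 1) = 1 by omega] at this
        exact hp'.one_lt.ne' (Nat.dvd_one.1 this)
      · have := Nat.dvd_sub h hq
        rw [show Fintype.card K + 1 - Fintype.card K = 1 by omega] at this
        exact hp'.one_lt.ne' (Nat.dvd_one.1 this)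
    have hne : (Fintype.card K - 1) * (Fintype.card K + 1) ≠ 0 :=
      Nat.mul_ne_zero (by have := Fintype.one_lt_card (α := K); omega) (by omega)
    rw [h1, Cfsg.Agent.Fus.PSLTwo.natCard_SL_two, Nat.factorization_mul Fintype.card_ne_zero hne,
      Finsupp.add_apply, hn, hp'.factorization_pow, Finsupp.single_eq_same,
      Nat.factorization_eq_zero_of_not_dvd (by rwa [hn] at hndvd), add_zero]
  let T : Sylow p (Matrix.SpecialLinearGroup (Fin 2) K) := Sylow.ofCard U.range hcard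
  have hπ : Function.Surjective π := QuotientGroup.mk'_surjective _
  have hcomm : ∀ (P : Sylow p G), ∀ a ∈ P, ∀ b ∈ P, a * b = b * a := by
    intro P a ha b hb
    obtain ⟨g, hg⟩ := MulAction.exists_smul_eq G (T.mapSurjective hπ) P
    subst hg
    obtain ⟨a', ⟨ax, ⟨x, rfl⟩, rfl⟩, rfl⟩ := ha
    obtain ⟨b', ⟨bx, ⟨y, rfl⟩, rfl⟩, rfl⟩ := hb
    show MulAut.conj g (π (U x)) * MulAut.conj g (π (U y)) =
      MulAut.conj g (π (U y)) * MulAut.conj g (π (U x))
    simp only [← map_mul]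
    rw [mul_comm x y]
  -- two elements of a common `p`-subgroup of `Qd(p)` which do not commute
  let Z : Subgroup (Matrix.SpecialLinearGroup (Fin 2) (ZMod p)) :=
    Subgroup.zpowers ⟨!![1, 1; 0, 1], by simp [Matrix.det_fin_two]⟩
  have hZ : IsPGroup p Z := by
    refine IsPGroup.iff_card.2 ?_
    have hz : (⟨!![1, 1; 0, 1], by simp [Matrix.det_fin_two]⟩ :
        Matrix.SpecialLinearGroup (Fin 2) (ZMod p)) = Cfsg.Agent.Lie.Sl2Pres.slU 1 := rfl
    refine ⟨1, ?_⟩
    rw [pow_one]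
    refine (Nat.card_zpowers (α := Matrix.SpecialLinearGroup (Fin 2) (ZMod p)) _).trans ?_
    refine orderOf_eq_prime ?_ fun h => ?_
    · rw [hz]
      have : ∀ k : ℕ, (Cfsg.Agent.Lie.Sl2Pres.slU (1 : ZMod p)) ^ k = Cfsg.Agent.Lie.Sl2Pres.slU (k : ZMod p) := by
        intro k
        induction k with
        | zero => rw [pow_zero, Nat.cast_zero, Cfsg.Agent.Lie.Sl2Pres.slU_zero]
        | succ k ih => rw [pow_succ, ih, ← Cfsg.Agent.Lie.Sl2Pres.slU_add, Nat.cast_succ]
      rw [this, ZMod.natCast_self, Cfsg.Agent.Lie.Sl2Pres.slU_zero]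
    · have h01 := congrFun (congrFun (congrArg Subtype.val h) 0) 1
      simp at h01
  let Q : Subgroup ↥(Cfsg.qd p) :=
    (Cfsg.Agent.Fus.qdTrans p).range ⊔ Z.map (Cfsg.Agent.Fus.qdLift p)
  haveI : (Cfsg.Agent.Fus.qdTrans p).range.Normal := ⟨by
    rintro _ ⟨v, rfl⟩ x
    rw [Cfsg.Agent.Fus.qdTrans_conj]
    exact ⟨_, rfl⟩⟩
  have hQ : IsPGroup p Q := by
    refine IsPGroup.to_sup_of_normal_left ?_ (hZ.map _)
    exact (Cfsg.Agent.Fus.isPGroup_vec p).of_surjective _ (MonoidHom.rangeRestrict_surjective _)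
  let f : L →* ↥(Cfsg.qd p) := e.toMonoidHom.comp (QuotientGroup.mk' (R.subgroupOf L))
  have hf : Function.Surjective f := e.surjective.comp (QuotientGroup.mk'_surjective _)
  let M : Subgroup L := Q.comap f
  let fQ : M →* Q := (f.comp M.subtype).codRestrict Q fun x => x.2
  have hfQ : Function.Surjective fQ := fun y => by
    obtain ⟨x, hx⟩ := hf y.1
    exact ⟨⟨x, show f x ∈ Q by rw [hx]; exact y.2⟩, Subtype.ext hx⟩
  obtain ⟨P⟩ : Nonempty (Sylow p M) := inferInstance
  have hP := Cfsg.Agent.Fus.sylow_map_eq_top hQ P hfQ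
  have hPG : IsPGroup p (((P : Subgroup M).map M.subtype).map L.subtype) := (P.2.map _).map _
  obtain ⟨S, hS⟩ := hPG.exists_le_sylow
  have comm : ∀ a b : Q, a * b = b * a := by
    intro a b
    obtain ⟨x, hx, rfl⟩ := (hP.symm ▸ Subgroup.mem_top a : a ∈ (P : Subgroup M).map fQ)
    obtain ⟨y, hy, rfl⟩ := (hP.symm ▸ Subgroup.mem_top b : b ∈ (P : Subgroup M).map fQ)
    rw [← map_mul, ← map_mul]
    congr 1
    refine Subtype.ext (Subtype.ext ?_)
    exact hcomm S _ (hS (Subgroup.mem_map_of_mem _ (Subgroup.mem_map_of_mem _ hx))) _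
      (hS (Subgroup.mem_map_of_mem _ (Subgroup.mem_map_of_mem _ hy)))
  have hab := congrArg Subtype.val (comm
    ⟨Cfsg.Agent.Fus.qdTrans p (Multiplicative.ofAdd ![0, 1]), Subgroup.mem_sup_left ⟨_, rfl⟩⟩
    ⟨Cfsg.Agent.Fus.qdLift p ⟨!![1, 1; 0, 1], by simp [Matrix.det_fin_two]⟩,
      Subgroup.mem_sup_right (Subgroup.mem_map_of_mem _ (Subgroup.mem_zpowers _))⟩)
  have h02 : ((Cfsg.Agent.Fus.qdTrans p (Multiplicative.ofAdd ![0, 1])).1.1 *
      (Cfsg.Agent.Fus.qdLift p ⟨!![1, 1; 0, 1], by simp [Matrix.det_fin_two]⟩).1.1) 0 2 =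
    ((Cfsg.Agent.Fus.qdLift p ⟨!![1, 1; 0, 1], by simp [Matrix.det_fin_two]⟩).1.1 *
      (Cfsg.Agent.Fus.qdTrans p (Multiplicative.ofAdd ![0, 1])).1.1) 0 2 :=
    congrFun (congrFun (congrArg Subtype.val (congrArg Subtype.val hab)) 0) 2
  simp [Cfsg.Agent.Fus.qdTrans, Cfsg.Agent.Fus.qdLift, Matrix.mul_apply, Fin.sum_univ_three] at h02

end Cfsg.Agent.S2231
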