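import Cfsg.Statements.S2249
import Cfsg.Agent.Lib.Lie.GLNormalTwoRank

set_option autoImplicit false
open Cfsg

namespace Cfsg.Agent.S2249

/-- The normal 2-rank of the general linear group over a finite field of odd order q: for n ≥ 1 and S a Sylow 2-subgroup of GL_n(F), the largest rank of an elementary abelian subgroup of S that is normal in S equals n when q ≡ 1 (mod 4) and ⌊(n + 1)/2⌋ when q ≡ 3 (mod 4). -/
theorem result {F : Type*} [Field F] [Fintype F] {q : ℕ} (hF : Fintype.card F = q) (hodd : Odd q) (n : ℕ) (hn : 1 ≤ n) (S : Sylow 2 (Matrix.GeneralLinearGroup (Fin n) F)) :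
    (q % 4 = 1 → ((∃ E : Subgroup ↥(S : Subgroup (Matrix.GeneralLinearGroup (Fin n) F)), E.Normal ∧ Cfsg.IsElementaryAbelian 2 E ∧ 2 ^ (n) ≤ Nat.card ↥E) ∧
      ∀ E : Subgroup ↥(S : Subgroup (Matrix.GeneralLinearGroup (Fin n) F)), E.Normal → Cfsg.IsElementaryAbelian 2 E → Nat.card ↥E ≤ 2 ^ (n))) ∧
    (q % 4 = 3 → ((∃ E : Subgroup ↥(S : Subgroup (Matrix.GeneralLinearGroup (Fin n) F)), E.Normal ∧ Cfsg.IsElementaryAbelian 2 E ∧ 2 ^ ((n + 1) / 2) ≤ Nat.card ↥E) ∧
      ∀ E : Subgroup ↥(S : Subgroup (Matrix.GeneralLinearGroup (Fin n) F)), E.Normal → Cfsg.IsElementaryAbelian 2 E → Nat.card ↥E ≤ 2 ^ ((n + 1) / 2))) := by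
  subst hF
  classical
  have h2 : (2 : F) ≠ 0 := Ring.two_ne_zero fun h => by
    have := FiniteField.even_card_of_char_two h
    rw [Nat.odd_iff] at hodd
    omega
  have hconv : ∀ E : Subgroup ↥(S : Subgroup (Matrix.GeneralLinearGroup (Fin n) F)),
      Cfsg.IsElementaryAbelian 2 E →
      (∀ a ∈ E.map (S : Subgroup (Matrix.GeneralLinearGroup (Fin n) F)).subtype,
        ∀ b ∈ E.map (S : Subgroup (Matrix.GeneralLinearGroup (Fin n) F)).subtype, a * b = b * a) ∧
      (∀ a ∈ E.map (S : Subgroup (Matrix.GeneralLinearGroup (Fin n) F)).subtype, a * a = 1) ∧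
      Nat.card (E.map (S : Subgroup (Matrix.GeneralLinearGroup (Fin n) F)).subtype) = Nat.card E := by
    intro E hE
    refine ⟨?_, ?_, (Nat.card_congr (E.equivMapOfInjective _ Subtype.val_injective).toEquiv).symm⟩
    · rintro _ ⟨a, ha, rfl⟩ _ ⟨b, hb, rfl⟩
      rw [← map_mul, ← map_mul]
      exact congrArg _ (congrArg Subtype.val (hE.1.1.comm ⟨a, ha⟩ ⟨b, hb⟩))
    · rintro _ ⟨a, ha, rfl⟩
      rw [← map_mul, ← sq, hE.2 a ha, map_one]
  refine ⟨fun h1 => ⟨?_, fun E _ hE => ?_⟩, fun h3 => ⟨?_, fun E hEn hE => ?_⟩⟩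
  · obtain ⟨E, hEn, hE, hc⟩ := Cfsg.Agent.Lie.GLNormalTwoRank.exists_normal (e := 1) (k := n) (r := 0)
      one_pos (Nat.zero_le _) (by omega) h2 (by
        have hvb : padicValNat 2 (Fintype.card F + 1) = 1 := by
          have hd : Fintype.card F + 1 = 2 * ((Fintype.card F + 1) / 2) := by omega
          rw [hd, padicValNat.mul (by norm_num) (by omega), padicValNat_self,
            padicValNat.eq_zero_of_not_dvd (by omega)]
        rw [Cfsg.Agent.Lie.GLWreath.padicValNat_natCard_W, Cfsg.Agent.Lie.GLWreath.padicValNat_card_GL hodd,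
          Cfsg.Agent.Lie.GLWreath.padicValNat_card_GL hodd, Cfsg.Agent.Lie.GLWreath.padicValNat_card_GL hodd,
          Cfsg.Agent.Lie.GLWreath.padicValNat_factorial_le n, hvb]
        simp
        ring) S
    exact ⟨E, hEn, hE, by simpa using hc⟩
  · obtain ⟨ha, hb, hc⟩ := hconv E hE
    rw [← hc]
    exact Cfsg.Agent.Lie.GLNormalTwoRank.card_le h2 _ ha hb
  · obtain ⟨E, hEn, hE, hc⟩ := Cfsg.Agent.Lie.GLNormalTwoRank.exists_normal (e := 2) (k := n / 2) (r := n % 2)
      two_pos (by omega) (Nat.div_add_mod n 2) h2 (by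
        rw [Cfsg.Agent.Lie.GLWreath.padicValNat_natCard_W, Cfsg.Agent.Lie.GLWreath.padicValNat_card_GL hodd,
          Cfsg.Agent.Lie.GLWreath.padicValNat_card_GL hodd, Cfsg.Agent.Lie.GLWreath.padicValNat_card_GL hodd]
        rcases Nat.even_or_odd' n with ⟨j, rfl | rfl⟩
        · rw [show 2 * j / 2 = j by omega, show 2 * j % 2 = 0 by omega]
          simp
          ring
        · rw [show (2 * j + 1) / 2 = j by omega, show (2 * j + 1) % 2 = 1 by omega]
          simp
          ring) S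
    exact ⟨E, hEn, hE, (Nat.pow_le_pow_right two_pos (by omega)).trans hc⟩
  · obtain ⟨ha, hb, hc⟩ := hconv E hE
    rw [← hc]
    refine Cfsg.Agent.Lie.GLNormalTwoRank.card_normal_le hodd h3 S _ ?_ ha hb
    rintro g hg _ ⟨a, ha', rfl⟩
    let g' : ↥(S : Subgroup (Matrix.GeneralLinearGroup (Fin n) F)) := ⟨g, hg⟩
    refine ⟨g'⁻¹ * a * g', ?_, rfl⟩
    have := hEn.conj_mem a ha' g'⁻¹
    rwa [inv_inv] at this

end Cfsg.Agent.S2249
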