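import Cfsg.Statements.S2250
import Cfsg.Agent.Lib.Lie.SympWreath
import Cfsg.Agent.S2234

set_option autoImplicit false
open Cfsg
open Cfsg.Agent.Lie

namespace Cfsg.Agent.S2250

/-- The normal 2-rank of the symplectic group over a finite field of odd order: for n ≥ 1 and S a Sylow 2-subgroup of Sp_{2n}(F), the largest rank of an elementary abelian subgroup of S that is normal in S equals n. -/
theorem result {F : Type*} [Field F] [Fintype F] (hF : Odd (Fintype.card F)) (n : ℕ) (hn : 1 ≤ n) (S : Sylow 2 ↥(Matrix.symplecticGroup (Fin n) F)) :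
    ((∃ E : Subgroup ↥(S : Subgroup ↥(Matrix.symplecticGroup (Fin n) F)), E.Normal ∧ Cfsg.IsElementaryAbelian 2 E ∧ 2 ^ (n) ≤ Nat.card ↥E) ∧
      ∀ E : Subgroup ↥(S : Subgroup ↥(Matrix.symplecticGroup (Fin n) F)), E.Normal → Cfsg.IsElementaryAbelian 2 E → Nat.card ↥E ≤ 2 ^ (n)) := by
  have h2 : (2 : F) ≠ 0 := Ring.two_ne_zero fun h => by
    have := FiniteField.even_card_of_char_two h
    rw [Nat.odd_iff] at hF
    omega
  refine ⟨?_, fun E _ hE => ?_⟩
  swap
  · obtain ⟨-, hle⟩ := S2234.result hF n hn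
    obtain ⟨hc, hsq⟩ := hE
    rw [Nat.card_congr (E.equivMapOfInjective _ S.toSubgroup.subtype_injective).toEquiv]
    refine hle _ ⟨⟨?_⟩⟩ ?_
    · rintro ⟨_, a, ha, rfl⟩ ⟨_, b, hb, rfl⟩
      exact Subtype.ext (congrArg (fun x : E => ((x : S.toSubgroup) : Matrix.symplecticGroup (Fin n) F))
        (mul_comm' (⟨a, ha⟩ : E) ⟨b, hb⟩))
    · rintro _ ⟨a, ha, rfl⟩
      rw [← map_pow, hsq a ha, map_one]
  -- the wreath product contains a Sylow subgroup normalising the signs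
  set w := SympWreath.wHom (n := n) (F := F) with hw
  have hDn := SympWreath.signs_normal (n := n) (F := F)
  set D₀ := (SympWreath.signs (n := n) (F := F)).range with hD₀
  have hD0p : IsPGroup 2 D₀ := fun x => ⟨1, by
    obtain ⟨_, s, rfl⟩ := x
    refine Subtype.ext ?_
    show SympWreath.signs s ^ 2 ^ 1 = 1
    rw [pow_one, ← map_pow, show s ^ 2 = 1 from funext fun i => Int.units_sq (s i), map_one]⟩
  have : Finite (SympWreath.W n F) := Finite.of_injective w SympWreath.wHom_injective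
  let Q : Sylow 2 (SympWreath.W n F) := default
  have hDQ : D₀ ≤ Q := hD0p.le_sylow_of_normal Q
  have hcW : Nat.card (SympWreath.W n F) = Nat.card w.range :=
    Nat.card_congr (MonoidHom.ofInjective SympWreath.wHom_injective).toEquiv
  let Q' : Sylow 2 (Matrix.symplecticGroup (Fin n) F) := Sylow.ofCard ((Q : Subgroup _).map w) (by
    rw [← Nat.card_congr ((Q : Subgroup _).equivMapOfInjective w SympWreath.wHom_injective).toEquiv,
      Sylow.card_eq_multiplicity, hcW, SympWreath.factorization_card hF])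
  obtain ⟨g, hg⟩ := MulAction.exists_smul_eq (Matrix.symplecticGroup (Fin n) F) Q' S
  set T := (D₀.map w).map (MulAut.conj g).toMonoidHom with hT
  have hS : (S : Subgroup (Matrix.symplecticGroup (Fin n) F)) =
      ((Q : Subgroup _).map w).map (MulAut.conj g).toMonoidHom := by
    rw [← hg]
    rfl
  have hTS : T ≤ S := hS.symm ▸ Subgroup.map_mono (Subgroup.map_mono hDQ)
  have hmem : ∀ x ∈ T, ∃ s, x = MulAut.conj g (w (SympWreath.signs s)) := by
    rintro _ ⟨_, ⟨_, ⟨s, rfl⟩, rfl⟩, rfl⟩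
    exact ⟨s, rfl⟩
  refine ⟨T.subgroupOf S, ⟨?_⟩, ⟨⟨⟨?_⟩⟩, ?_⟩, ?_⟩
  · rintro ⟨x, hx⟩ hxT ⟨y, hy⟩
    rw [hS] at hy
    obtain ⟨_, ⟨q, hq, rfl⟩, rfl⟩ := hy
    obtain ⟨_, ⟨d, hd, rfl⟩, hdx⟩ := (hxT : x ∈ T)
    refine ⟨w (q * d * q⁻¹), ⟨q * d * q⁻¹, hDn.conj_mem d hd q, rfl⟩, ?_⟩
    show _ = (MulAut.conj g).toMonoidHom (w q) * x * ((MulAut.conj g).toMonoidHom (w q))⁻¹
    rw [show x = (MulAut.conj g).toMonoidHom (w d) from hdx.symm, map_mul, map_mul, map_mul, map_mul, map_inv, map_inv]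
  · rintro ⟨⟨x, _⟩, hx⟩ ⟨⟨y, _⟩, hy⟩
    obtain ⟨s, hs⟩ := hmem x hx
    obtain ⟨t, ht⟩ := hmem y hy
    refine Subtype.ext (Subtype.ext ?_)
    show x * y = y * x
    rw [hs, ht, ← map_mul, ← map_mul, ← map_mul, ← map_mul, ← map_mul, ← map_mul, mul_comm]
  · rintro ⟨x, _⟩ hx
    obtain ⟨s, hs⟩ := hmem x hx
    refine Subtype.ext ?_
    show x ^ 2 = 1
    rw [hs, ← map_pow, ← map_pow, ← map_pow, show s ^ 2 = 1 from funext fun i => Int.units_sq (s i), map_one,
      map_one, map_one]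
  · rw [Nat.card_congr (Subgroup.subgroupOfEquivOfLe hTS).toEquiv, hT,
      ← Nat.card_congr ((D₀.map w).equivMapOfInjective _ (MulAut.conj g).injective).toEquiv,
      ← Nat.card_congr (D₀.equivMapOfInjective w SympWreath.wHom_injective).toEquiv, hD₀,
      ← Nat.card_congr (MonoidHom.ofInjective (SympWreath.signs_injective h2)).toEquiv]
    simp

end Cfsg.Agent.S2250
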