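import Cfsg.Statements.S2254
import Cfsg.Agent.Lib.Perm.NilpotentMax

set_option autoImplicit false
open Cfsg

namespace Cfsg.Agent.S2254

/-- Let n ≡ 3 (mod 4). Then every nilpotent subgroup of the symmetric group on n letters has order at most 3 times the order of a Sylow 2-subgroup of the symmetric group on n − 3 letters; the bound is attained by a nilpotent subgroup isomorphic to the direct product of such a Sylow 2-subgroup with a cyclic group of order 3; and any two nilpotent subgroups attaining the bound are conjugate. -/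
theorem result  (n : ℕ) (hn : n % 4 = 3)
    (P : Sylow 2 (Equiv.Perm (Fin (n - 3)))) :
    (∀ N : Subgroup (Equiv.Perm (Fin n)), Group.IsNilpotent N → Nat.card N ≤ 3 * Nat.card P) ∧
    (∃ M : Subgroup (Equiv.Perm (Fin n)), Group.IsNilpotent M ∧ Nat.card M = 3 * Nat.card P ∧
      Nonempty (M ≃* (↥(P : Subgroup (Equiv.Perm (Fin (n - 3)))) × Multiplicative (ZMod 3)))) ∧
    (∀ N₁ N₂ : Subgroup (Equiv.Perm (Fin n)), Group.IsNilpotent N₁ → Group.IsNilpotent N₂ →
      Nat.card N₁ = 3 * Nat.card P → Nat.card N₂ = 3 * Nat.card P →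
      ∃ g : Equiv.Perm (Fin n), N₂ = N₁.map (MulAut.conj g).toMonoidHom) := by
  have hP := Cfsg.Agent.PermNilp.card_sylow_sym P
  obtain ⟨h1, -⟩ := Cfsg.Agent.PermNilp.mod_facts hn
  rw [← hP] at h1
  refine ⟨fun N hN => h1 ▸ (Cfsg.Agent.PermNilp.sym_bound_strict n N hN).1, ?_, ?_⟩
  · set e := Cfsg.Agent.PermNilp.relabel (n := n) (by omega)
    have hinj : Function.Injective e.permCongrHom.symm.toMonoidHom := e.permCongrHom.symm.injective
    set S := Cfsg.Agent.PermNilp.std (P : Subgroup (Equiv.Perm (Fin (n - 3))))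
    let E := S.equivMapOfInjective e.permCongrHom.symm.toMonoidHom hinj
    haveI := Cfsg.Agent.PermNilp.isNilpotent_of_two_pow hP
    haveI := Cfsg.Agent.PermNilp.isNilpotent_std (P : Subgroup (Equiv.Perm (Fin (n - 3))))
    refine ⟨S.map e.permCongrHom.symm.toMonoidHom, Group.nilpotent_of_surjective E.toMonoidHom E.surjective, ?_,
      ⟨E.symm.trans (Cfsg.Agent.PermNilp.stdEquiv _)⟩⟩
    rw [Subgroup.card_map_of_injective hinj]
    exact Cfsg.Agent.PermNilp.card_std _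
  · intro N₁ N₂ hN₁ hN₂ hc₁ hc₂
    rw [← h1] at hc₁ hc₂
    obtain ⟨e₁, Q₁, hQ₁⟩ := Cfsg.Agent.PermNilp.sym_eq hn N₁ hN₁ hc₁
    obtain ⟨e₂, Q₂, hQ₂⟩ := Cfsg.Agent.PermNilp.sym_eq hn N₂ hN₂ hc₂
    haveI : Fact (Nat.Prime 2) := ⟨Nat.prime_two⟩
    obtain ⟨h, hh⟩ := MulAction.exists_smul_eq (Equiv.Perm (Fin (n - 3))) Q₁ Q₂
    have hh' : (Q₂ : Subgroup (Equiv.Perm (Fin (n - 3)))) =
        (Q₁ : Subgroup (Equiv.Perm (Fin (n - 3)))).map (MulAut.conj h).toMonoidHom := by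
      rw [← hh]; rfl
    exact ⟨_, Cfsg.Agent.PermNilp.conj_of_std hh' e₁ e₂ N₁ N₂ hQ₁ hQ₂⟩

end Cfsg.Agent.S2254
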