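import Cfsg.Statements.S2255
import Cfsg.Agent.Lib.Perm.NilpotentMax

set_option autoImplicit false
open Cfsg

namespace Cfsg.Agent.S2255

/-- Let n be a natural number not congruent to 3 modulo 4, with n ∉ {5, 6, 9}. Then every nilpotent subgroup of the alternating group on n letters has order at most the order of a Sylow 2-subgroup of the alternating group (so the nilpotent subgroups of largest order are exactly the Sylow 2-subgroups). -/
theorem result  (n : ℕ) (hn : n % 4 ≠ 3)
    (h5 : n ≠ 5) (h6 : n ≠ 6) (h9 : n ≠ 9)
    (N : Subgroup (alternatingGroup (Fin n))) (hN : Group.IsNilpotent N)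
    (P : Sylow 2 (alternatingGroup (Fin n))) :
    Nat.card N ≤ Nat.card P := by
  have hN' : Group.IsNilpotent (N.map (alternatingGroup (Fin n)).subtype) :=
    Group.nilpotent_of_surjective (N.equivMapOfInjective _ (Subgroup.subtype_injective _)).toMonoidHom
      (N.equivMapOfInjective _ (Subgroup.subtype_injective _)).surjective
  have hb := (Cfsg.Agent.PermNilp.alt_bound_strict n _ hN' (by
    rintro _ ⟨g, -, rfl⟩; exact Equiv.Perm.mem_alternatingGroup.1 g.2)).1
  rw [Subgroup.card_map_of_injective (Subgroup.subtype_injective _)] at hb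
  rcases Nat.lt_or_ge n 2 with h2 | h2
  · have : Cfsg.Agent.PermNilp.altB n = 1 := by
      rw [Cfsg.Agent.PermNilp.altB, if_pos (by omega)]
    have : 0 < Nat.card P := Nat.card_pos
    omega
  · have h1 := Cfsg.Agent.PermNilp.card_sylow_alt h2 P
    have h3 := Cfsg.Agent.PermNilp.two_mul_altB h2 (by omega) h5 h6 h9
    rw [Cfsg.Agent.PermNilp.symB, if_neg hn] at h3
    omega

end Cfsg.Agent.S2255
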