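import Cfsg.Statements.S2256
import Cfsg.Agent.Lib.Perm.NilpotentMax

set_option autoImplicit false
open Cfsg

namespace Cfsg.Agent.S2256

/-- Let n ≡ 3 (mod 4) with n ≥ 7. Then every nilpotent subgroup of the alternating group on n letters has order at most 3 times the order of a Sylow 2-subgroup of the alternating group on n − 3 letters; the bound is attained by a nilpotent subgroup isomorphic to the direct product of such a Sylow 2-subgroup with a cyclic group of order 3; and any two nilpotent subgroups of the alternating group attaining the bound are conjugate in it. -/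
theorem result  (n : ℕ) (hn : n % 4 = 3) (h7 : 7 ≤ n)
    (P : Sylow 2 (alternatingGroup (Fin (n - 3)))) :
    (∀ N : Subgroup (alternatingGroup (Fin n)), Group.IsNilpotent N → Nat.card N ≤ 3 * Nat.card P) ∧
    (∃ M : Subgroup (alternatingGroup (Fin n)), Group.IsNilpotent M ∧ Nat.card M = 3 * Nat.card P ∧
      Nonempty (M ≃* (↥(P : Subgroup (alternatingGroup (Fin (n - 3)))) × Multiplicative (ZMod 3)))) ∧
    (∀ N₁ N₂ : Subgroup (alternatingGroup (Fin n)), Group.IsNilpotent N₁ → Group.IsNilpotent N₂ →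
      Nat.card N₁ = 3 * Nat.card P → Nat.card N₂ = 3 * Nat.card P →
      ∃ g : alternatingGroup (Fin n), N₂ = N₁.map (MulAut.conj g).toMonoidHom) := by
  have hP := Cfsg.Agent.PermNilp.card_sylow_alt (n := n - 3) (by omega) P
  obtain ⟨h1, -⟩ := Cfsg.Agent.PermNilp.mod_facts hn
  have h2 := Cfsg.Agent.PermNilp.two_mul_altB (n := n) (by omega) (by omega) (by omega) (by omega) (by omega)
  have hB : Cfsg.Agent.PermNilp.altB n = 3 * Nat.card P := by omega
  have hsub : ∀ N : Subgroup (alternatingGroup (Fin n)), Group.IsNilpotent N →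
      Group.IsNilpotent (N.map (alternatingGroup (Fin n)).subtype) ∧
        (∀ g ∈ N.map (alternatingGroup (Fin n)).subtype, Equiv.Perm.sign g = 1) ∧
        Nat.card (N.map (alternatingGroup (Fin n)).subtype) = Nat.card N := fun N hN =>
    ⟨Group.nilpotent_of_surjective (N.equivMapOfInjective _ (Subgroup.subtype_injective _)).toMonoidHom
      (N.equivMapOfInjective _ (Subgroup.subtype_injective _)).surjective,
      by rintro _ ⟨g, -, rfl⟩; exact Equiv.Perm.mem_alternatingGroup.1 g.2,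
      Subgroup.card_map_of_injective (Subgroup.subtype_injective _)⟩
  refine ⟨fun N hN => ?_, ?_, ?_⟩
  · obtain ⟨a, b, c⟩ := hsub N hN
    rw [← hB, ← c]
    exact (Cfsg.Agent.PermNilp.alt_bound_strict n _ a b).1
  · set e := Cfsg.Agent.PermNilp.relabel (n := n) (by omega)
    set Pm := (P : Subgroup (alternatingGroup (Fin (n - 3)))).map (alternatingGroup (Fin (n - 3))).subtype
    let EP := (P : Subgroup (alternatingGroup (Fin (n - 3)))).equivMapOfInjective
      (alternatingGroup (Fin (n - 3))).subtype (Subgroup.subtype_injective _)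
    have hinj : Function.Injective e.permCongrHom.symm.toMonoidHom := e.permCongrHom.symm.injective
    set S := Cfsg.Agent.PermNilp.std Pm
    set M0 := S.map e.permCongrHom.symm.toMonoidHom
    have hM0 : M0 ≤ alternatingGroup (Fin n) := by
      rintro _ ⟨_, ⟨⟨a, i⟩, ⟨⟨b, -, rfl⟩, -⟩, rfl⟩, rfl⟩
      refine Equiv.Perm.mem_alternatingGroup.2 ?_
      show Equiv.Perm.sign (e.symm.permCongr (Cfsg.Agent.PermNilp.iota _ (_, i))) = 1
      rw [Equiv.Perm.sign_permCongr, Cfsg.Agent.PermNilp.sign_iota]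
      exact Equiv.Perm.mem_alternatingGroup.1 b.2
    haveI : Fact (Nat.Prime 2) := ⟨Nat.prime_two⟩
    haveI : Group.IsNilpotent Pm := ((P.2.map _) : IsPGroup 2 Pm).isNilpotent
    haveI := Cfsg.Agent.PermNilp.isNilpotent_std Pm
    let E := ((Subgroup.subgroupOfEquivOfLe hM0).trans
      (S.equivMapOfInjective e.permCongrHom.symm.toMonoidHom hinj).symm).trans
      ((Cfsg.Agent.PermNilp.stdEquiv Pm).trans (EP.symm.prodCongr (MulEquiv.refl _)))
    refine ⟨M0.subgroupOf (alternatingGroup (Fin n)),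
      Group.nilpotent_of_surjective ((Subgroup.subgroupOfEquivOfLe hM0).trans
        (S.equivMapOfInjective e.permCongrHom.symm.toMonoidHom hinj).symm).symm.toMonoidHom
        ((Subgroup.subgroupOfEquivOfLe hM0).trans
        (S.equivMapOfInjective e.permCongrHom.symm.toMonoidHom hinj).symm).symm.surjective, ?_, ⟨E⟩⟩
    rw [Nat.card_congr E.toEquiv, Nat.card_prod, mul_comm]
    simp
  · intro N₁ N₂ hN₁ hN₂ hc₁ hc₂
    obtain ⟨a₁, b₁, c₁⟩ := hsub N₁ hN₁
    obtain ⟨a₂, b₂, c₂⟩ := hsub N₂ hN₂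
    obtain ⟨e₁, Q₁, hQ₁⟩ := Cfsg.Agent.PermNilp.alt_eq hn h7 _ a₁ b₁ (by rw [c₁, hc₁, hB])
    obtain ⟨e₂, Q₂, hQ₂⟩ := Cfsg.Agent.PermNilp.alt_eq hn h7 _ a₂ b₂ (by rw [c₂, hc₂, hB])
    obtain ⟨g, hg, hgodd⟩ := Cfsg.Agent.PermNilp.exists_conj_alt (by omega) Q₁ Q₂
    obtain ⟨g', hg', hgodd'⟩ := hgodd
    set u := e₁.trans ((Cfsg.Agent.PermNilp.iota _ (g, 1)).trans e₂.symm)
    set u' := e₁.trans ((Cfsg.Agent.PermNilp.iota _ (g', 1)).trans e₂.symm)
    have hu := Cfsg.Agent.PermNilp.conj_of_std hg e₁ e₂ _ _ hQ₁ hQ₂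
    have hu' := Cfsg.Agent.PermNilp.conj_of_std hg' e₁ e₂ _ _ hQ₁ hQ₂
    have hsign : Equiv.Perm.sign u' = - Equiv.Perm.sign u := by
      have hw : u' = (e₂.symm.permCongr (Cfsg.Agent.PermNilp.iota _ (g' * g⁻¹, 1))) * u := by
        ext x
        have hm : Cfsg.Agent.PermNilp.iota (n - 3) (g', 1) =
            Cfsg.Agent.PermNilp.iota (n - 3) (g' * g⁻¹, 1) * Cfsg.Agent.PermNilp.iota (n - 3) (g, 1) := by
          rw [← map_mul]; simp
        simp [u, u', hm, Equiv.permCongr_apply, Equiv.Perm.mul_apply]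
      rw [hw, map_mul, Equiv.Perm.sign_permCongr, Cfsg.Agent.PermNilp.sign_iota, hgodd', neg_one_mul]
    obtain ⟨v, hv, hvs⟩ : ∃ v : Equiv.Perm (Fin n), Subgroup.map (alternatingGroup (Fin n)).subtype N₂ =
        (Subgroup.map (alternatingGroup (Fin n)).subtype N₁).map (MulAut.conj v).toMonoidHom ∧
        Equiv.Perm.sign v = 1 := by
      rcases Int.units_eq_one_or (Equiv.Perm.sign u) with h | h
      · exact ⟨u, hu, h⟩
      · exact ⟨u', hu', by rw [hsign, h, neg_neg]⟩
    refine ⟨⟨v, Equiv.Perm.mem_alternatingGroup.2 hvs⟩, Subgroup.map_injective (Subgroup.subtype_injective _) ?_⟩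
    rw [hv, Subgroup.map_map, Subgroup.map_map]
    exact congrArg (Subgroup.map · N₁) (MonoidHom.ext fun x => rfl)

end Cfsg.Agent.S2256
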