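import Cfsg.Statements.S2257
import Cfsg.Agent.Lib.Lie.Solub.PSLInst

set_option autoImplicit false
open Cfsg

namespace Cfsg.Agent.S2257

/-- Let G = PSL_2(F) with F a field of order q = 2^p, p prime, and for x ∈ G call the solubilizer of x the set of y ∈ G such that x and y generate a solvable subgroup. Then the solubilizer of an involution has 3q(q − 1) elements; that of a non-identity element of order dividing q − 1 has 2q(q − 1) elements; and that of a non-identity element of order dividing q + 1 has 2(q + 1) elements. -/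
theorem result (p : ℕ) (hp : p.Prime) {F : Type*} [Field F] [Fintype F]
    (hF : Fintype.card F = 2 ^ p) (x : Matrix.ProjectiveSpecialLinearGroup (Fin 2) F) :
    (orderOf x = 2 → Nat.card {y : Matrix.ProjectiveSpecialLinearGroup (Fin 2) F // Group.IsSolvable ↥(Subgroup.closure ({x, y} : Set (Matrix.ProjectiveSpecialLinearGroup (Fin 2) F)))} = 3 * 2 ^ p * (2 ^ p - 1)) ∧
    (x ≠ 1 → orderOf x ∣ 2 ^ p - 1 → Nat.card {y : Matrix.ProjectiveSpecialLinearGroup (Fin 2) F // Group.IsSolvable ↥(Subgroup.closure ({x, y} : Set (Matrix.ProjectiveSpecialLinearGroup (Fin 2) F)))} = 2 * 2 ^ p * (2 ^ p - 1)) ∧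
    (x ≠ 1 → orderOf x ∣ 2 ^ p + 1 → Nat.card {y : Matrix.ProjectiveSpecialLinearGroup (Fin 2) F // Group.IsSolvable ↥(Subgroup.closure ({x, y} : Set (Matrix.ProjectiveSpecialLinearGroup (Fin 2) F)))} = 2 * (2 ^ p + 1)) := by
  classical
  haveI : Fintype (Matrix.ProjectiveSpecialLinearGroup (Fin 2) F) := Fintype.ofFinite _
  haveI : CharP F 2 := Lie.Solub.charP_of_card Nat.prime_two hF
  haveI : Fact (Nat.Prime 2) := ⟨Nat.prime_two⟩
  have C := Lie.Solub.setup_two hp hF
  have h4 : 4 ≤ 2 ^ p := le_trans (by norm_num) (Nat.pow_le_pow_right two_pos hp.two_le)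
  have hev : 2 ∣ 2 ^ p := dvd_pow_self 2 hp.ne_zero
  have hsq : ∀ t, ¬ 2 ∣ t → x ≠ 1 → orderOf x ∣ t → x * x ≠ 1 := fun t ht h1 hd h2 =>
    ht ((orderOf_eq_prime (by rw [pow_two]; exact h2) h1) ▸ hd)
  rw [Lie.Solub.card_sol x]
  refine ⟨fun h => Lie.Solub.sol_involution_even C (Lie.Solub.mem_invols.2 ⟨fun e => ?_, ?_⟩),
    fun h1 hd => Lie.Solub.sol_split C h1 hd (hsq _ (by omega) h1 hd),
    fun h1 hd => Lie.Solub.sol_nonsplit C h1 hd (hsq _ (by omega) h1 hd)⟩
  · rw [e, orderOf_one] at h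
    omega
  · rw [← pow_two]
    exact orderOf_dvd_iff_pow_eq_one.1 (dvd_of_eq h)

end Cfsg.Agent.S2257
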