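import Cfsg.Statements.S2258
import Cfsg.Agent.Lib.Lie.Solub.PSLInst

set_option autoImplicit false
open Cfsg

namespace Cfsg.Agent.S2258

/-- Let G = PSL_2(F) with F a field of order q = 3^p, p an odd prime, and for x ∈ G call the solubilizer of x the set of y ∈ G such that x and y generate a solvable subgroup. Then the solubilizer of an involution has q(q + 1) elements; that of an element of order 3 has q(q + 5)/2 elements; that of an element of order neither 1 nor 2 dividing q − 1 has q(q − 1) elements; and that of an element of order neither 1 nor 2 dividing q + 1 has q + 1 elements. -/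
theorem result (p : ℕ) (hp : p.Prime) (hodd : Odd p) {F : Type*} [Field F] [Fintype F]
    (hF : Fintype.card F = 3 ^ p) (x : Matrix.ProjectiveSpecialLinearGroup (Fin 2) F) :
    (orderOf x = 2 → Nat.card {y : Matrix.ProjectiveSpecialLinearGroup (Fin 2) F // Group.IsSolvable ↥(Subgroup.closure ({x, y} : Set (Matrix.ProjectiveSpecialLinearGroup (Fin 2) F)))} = 3 ^ p * (3 ^ p + 1)) ∧
    (orderOf x = 3 → 2 * Nat.card {y : Matrix.ProjectiveSpecialLinearGroup (Fin 2) F // Group.IsSolvable ↥(Subgroup.closure ({x, y} : Set (Matrix.ProjectiveSpecialLinearGroup (Fin 2) F)))} = 3 ^ p * (3 ^ p + 5)) ∧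
    (x ≠ 1 → orderOf x ≠ 2 → orderOf x ∣ 3 ^ p - 1 → Nat.card {y : Matrix.ProjectiveSpecialLinearGroup (Fin 2) F // Group.IsSolvable ↥(Subgroup.closure ({x, y} : Set (Matrix.ProjectiveSpecialLinearGroup (Fin 2) F)))} = 3 ^ p * (3 ^ p - 1)) ∧
    (x ≠ 1 → orderOf x ≠ 2 → orderOf x ∣ 3 ^ p + 1 → Nat.card {y : Matrix.ProjectiveSpecialLinearGroup (Fin 2) F // Group.IsSolvable ↥(Subgroup.closure ({x, y} : Set (Matrix.ProjectiveSpecialLinearGroup (Fin 2) F)))} = 3 ^ p + 1) := by
  classical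
  haveI : Fintype (Matrix.ProjectiveSpecialLinearGroup (Fin 2) F) := Fintype.ofFinite _
  haveI : CharP F 3 := Lie.Solub.charP_of_card Nat.prime_three hF
  haveI : Fact (Nat.Prime 3) := ⟨Nat.prime_three⟩
  have C := Lie.Solub.setup_three hp hodd hF
  rw [Lie.Solub.card_sol x]
  generalize hq : (3 : ℕ) ^ p = q at C ⊢
  generalize hu' : (q - 1) / 2 = u at C
  generalize hv' : (q + 1) / 2 = v at C
  have hu := C.hu
  have hv := C.hv
  have h3q : 3 ∣ q := Lie.Solub.three_dvd_q C
  have hne3 : ∀ t, (t = q - 1 ∨ t = q + 1) → x ≠ 1 → orderOf x ∣ t → x ^ 3 ≠ 1 := by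
    intro t ht h1 hd h3
    rw [orderOf_eq_prime h3 h1] at hd
    omega
  have hord : x ≠ 1 → x ^ 3 ≠ 1 → orderOf x ∣ u ∨ orderOf x ∣ v := by
    intro h1 h3
    have hd := Subgroup.orderOf_dvd_natCard _ ((Dickson.pslData (F := F) 3).self x)
    rcases (C.card_semi h1 h3).1 with h | h <;> rw [h] at hd
    · exact Or.inl hd
    · exact Or.inr hd
  have hcop := C.hcop
  have hsq : x ≠ 1 → orderOf x ≠ 2 → x * x ≠ 1 := fun h1 h2 h =>
    h2 (orderOf_eq_prime (by rw [pow_two]; exact h) h1)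
  refine ⟨fun h => Lie.Solub.sol_involution_odd C (Lie.Solub.mem_invols.2 ⟨fun e => ?_, ?_⟩),
    fun h => Lie.Solub.sol_three C (fun e => ?_) (by rw [← h]; exact pow_orderOf_eq_one x),
    fun h1 h2 hd => ?_, fun h1 h2 hd => ?_⟩
  · rw [e, orderOf_one] at h
    omega
  · rw [← pow_two]
    exact orderOf_dvd_iff_pow_eq_one.1 (dvd_of_eq h)
  · rw [e, orderOf_one] at h
    omega
  · have hdu : orderOf x ∣ u := (hord h1 (hne3 _ (Or.inl rfl) h1 hd)).resolve_right fun hdv => by
      have h4 : orderOf x ∣ q + 1 := hv ▸ hdv.mul_left 2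
      have h5 := Nat.dvd_sub h4 hd
      rw [show q + 1 - (q - 1) = 2 by omega] at h5
      rcases (Nat.dvd_prime Nat.prime_two).1 h5 with e | e
      · exact h1 (orderOf_eq_one_iff.1 e)
      · exact h2 e
    rw [Lie.Solub.sol_split C.toSetup' h1 hdu (hsq h1 h2), show q - 1 = 2 * u by omega]
    ring
  · have hdv : orderOf x ∣ v := (hord h1 (hne3 _ (Or.inr rfl) h1 hd)).resolve_left fun hdu => by
      have h4 : orderOf x ∣ q - 1 := (show 2 * u = q - 1 by omega) ▸ hdu.mul_left 2
      have h5 := Nat.dvd_sub hd h4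
      rw [show q + 1 - (q - 1) = 2 by omega] at h5
      rcases (Nat.dvd_prime Nat.prime_two).1 h5 with e | e
      · exact h1 (orderOf_eq_one_iff.1 e)
      · exact h2 e
    rw [Lie.Solub.sol_nonsplit C.toSetup' h1 hdv (hsq h1 h2), hv]

end Cfsg.Agent.S2258
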