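import Cfsg.Statements.S2263
import Cfsg.Agent.Lib.Lie.PGUOrderExist
-- import your own Cfsg.Agent.* helpers here

set_option autoImplicit false
open Cfsg Cfsg.Agent.Lie.PGUOrder

namespace Cfsg.Agent.S2263

/-- Let q = p^f with p prime and f ≥ 1, F a field with q² elements, d ≥ 3 with (d, q) ≠ (3, 2), and PGU_d(q) the general unitary group of the standard Hermitian form modulo its centre. Then the largest order of an element of PGU_d(q) is: q^(d−1) − 1 if d is odd and f ≥ 2; (p^(d−2) + 1)p if d is odd and f = 1; q^(d−1) + 1 if d is even and q > 2; 4(2^(d−3) + 1) if d is even and q = 2. -/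
theorem result {F : Type*} [Field F] [Fintype F] (p f d : ℕ) (hp : p.Prime) (hf : 1 ≤ f) (q : ℕ) (hq : q = p ^ f)
    (hF : Fintype.card F = q ^ 2) (hd : 3 ≤ d) (h32 : ¬ (d = 3 ∧ q = 2)) :
    (Odd d → 2 ≤ f → (∀ g : (↥(Cfsg.GU d F q) ⧸ Subgroup.center ↥(Cfsg.GU d F q)), orderOf g ≤ q ^ (d - 1) - 1) ∧ ∃ g : (↥(Cfsg.GU d F q) ⧸ Subgroup.center ↥(Cfsg.GU d F q)), orderOf g = q ^ (d - 1) - 1) ∧
    (Odd d → f = 1 → (∀ g : (↥(Cfsg.GU d F q) ⧸ Subgroup.center ↥(Cfsg.GU d F q)), orderOf g ≤ (p ^ (d - 2) + 1) * p) ∧ ∃ g : (↥(Cfsg.GU d F q) ⧸ Subgroup.center ↥(Cfsg.GU d F q)), orderOf g = (p ^ (d - 2) + 1) * p) ∧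
    (Even d → 2 < q → (∀ g : (↥(Cfsg.GU d F q) ⧸ Subgroup.center ↥(Cfsg.GU d F q)), orderOf g ≤ q ^ (d - 1) + 1) ∧ ∃ g : (↥(Cfsg.GU d F q) ⧸ Subgroup.center ↥(Cfsg.GU d F q)), orderOf g = q ^ (d - 1) + 1) ∧
    (Even d → q = 2 → (∀ g : (↥(Cfsg.GU d F q) ⧸ Subgroup.center ↥(Cfsg.GU d F q)), orderOf g ≤ 4 * (2 ^ (d - 3) + 1)) ∧ ∃ g : (↥(Cfsg.GU d F q) ⧸ Subgroup.center ↥(Cfsg.GU d F q)), orderOf g = 4 * (2 ^ (d - 3) + 1)) := by
  obtain ⟨p', f', hp', hchar, hf', hqf'⟩ := exists_prime hF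
  haveI := hchar
  have hpp : p' = p ∧ f' = f := by
    have h := hqf'.symm.trans hq
    have h1 : p' ∣ p ^ f := h ▸ dvd_pow_self p' (by omega)
    have h2 : p' = p := (Nat.prime_dvd_prime_iff_eq hp' hp).1 (hp'.dvd_of_dvd_pow h1)
    subst h2
    exact ⟨rfl, Nat.pow_right_injective hp.two_le h⟩
  obtain ⟨rfl, rfl⟩ := hpp
  have hub : ∀ g : (↥(Cfsg.GU d F q) ⧸ Subgroup.center ↥(Cfsg.GU d F q)),
      (Odd d → 2 ≤ f' → orderOf g ≤ q ^ (d - 1) - 1) ∧
      (Odd d → f' = 1 → orderOf g ≤ (p' ^ (d - 2) + 1) * p') ∧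
      (Even d → 2 < q → orderOf g ≤ q ^ (d - 1) + 1) ∧
      (Even d → q = 2 → orderOf g ≤ 4 * (2 ^ (d - 3) + 1)) := by
    intro g
    obtain ⟨n, t, s, k, h1, h2, h3, h4, h5, h6⟩ := exists_invariants hF hp hf hq (by omega) g
    obtain ⟨a, b, c, e⟩ := target_bound hp hf hq hd h2 h3 h4 h5 h6
    exact ⟨fun x y => h1.trans (a x y), fun x y => h1.trans (b x y), fun x y => h1.trans (c x y),
      fun x y => h1.trans (e x y)⟩
  refine ⟨fun ho hf2 => ⟨fun g => (hub g).1 ho hf2, ?_⟩, fun ho hf1 => ⟨fun g => (hub g).2.1 ho hf1, ?_⟩,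
    fun he hq2 => ⟨fun g => (hub g).2.2.1 he hq2, ?_⟩, fun he hq2 => ⟨fun g => (hub g).2.2.2 he hq2, ?_⟩⟩
  · have hq4 : 4 ≤ q := by
      rw [hq]
      exact le_trans (Nat.pow_le_pow_left hp.two_le 2) (Nat.pow_le_pow_right hp.pos hf2)
    obtain ⟨g, hg, hgN, hgj⟩ := exists_torus hF (c := d - 1) (by omega) (Or.inr (Or.inr (by omega)))
    have hN : tw q (d - 1) = q ^ (d - 1) - 1 := if_pos (Nat.Odd.sub_odd ho odd_one)
    obtain ⟨x, hx⟩ := exists_sum_order hF (r := 1) (d := d) (M := 1) (by omega)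
      (tw_pos (by omega) (by omega)) Nat.one_pos (Nat.coprime_one_right _) hg hgN hgj
      (hstar_one_mul hF 1) (one_pow 1) one_fin_one
    exact ⟨x, by rw [hx, mul_one, hN]⟩
  · have hqp : q = p' := by rw [hq, hf1, pow_one]
    have hodd : ¬ Even (d - 2) := Nat.not_even_iff_odd.2 (Nat.Odd.sub_even (by omega) ho even_two)
    obtain ⟨g, hg, hgN, hgj⟩ := exists_torus hF (c := d - 2) (by omega)
      (by rcases ho with ⟨k, hk⟩; omega)
    obtain ⟨h, hh, hhp, hhj⟩ := exists_transvection hF hp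
    have hN : tw q (d - 2) = p' ^ (d - 2) + 1 := by rw [hqp]; exact if_neg hodd
    have hco : Nat.Coprime (tw q (d - 2)) p' := by
      rw [hN, Nat.coprime_comm, hp.coprime_iff_not_dvd, ← Nat.dvd_add_iff_right (dvd_pow_self p' (by omega))]
      exact hp.not_dvd_one
    obtain ⟨x, hx⟩ := exists_sum_order hF (r := 2) (d := d) (M := p') (by omega)
      (by rw [hN]; omega) hp.pos hco hg hgN hgj hh hhp hhj
    exact ⟨x, by rw [hx, hN]⟩
  · have hodd : ¬ Even (d - 1) := Nat.not_even_iff_odd.2 (Nat.Even.sub_odd (by omega) he odd_one)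
    obtain ⟨g, hg, hgN, hgj⟩ := exists_torus hF (c := d - 1) (by omega) (Or.inr (Or.inr (by omega)))
    have hN : tw q (d - 1) = q ^ (d - 1) + 1 := if_neg hodd
    obtain ⟨x, hx⟩ := exists_sum_order hF (r := 1) (d := d) (M := 1) (by omega)
      (tw_pos (by omega) (by omega)) Nat.one_pos (Nat.coprime_one_right _) hg hgN hgj
      (hstar_one_mul hF 1) (one_pow 1) one_fin_one
    exact ⟨x, by rw [hx, mul_one, hN]⟩
  · have hodd : ¬ Even (d - 3) := Nat.not_even_iff_odd.2 (Nat.Even.sub_odd (by omega) he (by decide))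
    obtain ⟨g, hg, hgN, hgj⟩ := exists_torus hF (c := d - 3) (by rcases he with ⟨k, hk⟩; omega)
      (by rcases he with ⟨k, hk⟩; omega)
    obtain ⟨h, hh, hh4, hhj⟩ := exists_order_four hF hq2
    have hN : tw q (d - 3) = 2 ^ (d - 3) + 1 := by rw [hq2]; exact if_neg hodd
    have hco : Nat.Coprime (tw q (d - 3)) 4 := by
      rw [hN, show 4 = 2 ^ 2 from rfl]
      refine Nat.Coprime.pow_right 2 ?_
      rw [Nat.coprime_two_right]
      exact Even.add_one (Nat.even_pow.2 ⟨even_two, by rcases he with ⟨k, hk⟩; omega⟩)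
    obtain ⟨x, hx⟩ := exists_sum_order hF (r := 3) (d := d) (M := 4) (by omega)
      (tw_pos (by omega) (by rcases he with ⟨k, hk⟩; omega)) (by norm_num) hco hg hgN hgj hh hh4 hhj
    exact ⟨x, by rw [hx, hN, mul_comm]⟩

end Cfsg.Agent.S2263
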