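import Cfsg.Statements.S2264
import Cfsg.Agent.Lib.Lie.OrderBoundForm

set_option autoImplicit false
open Cfsg

namespace Cfsg.Agent.S2264

/-- Let F be a finite field with q elements and m ≥ 2. Then every element g of PSp_2m(F) satisfies (q − 1)·|g| ≤ q^(m+1), i.e. has order at most q^(m+1)/(q − 1). -/
theorem result {F : Type*} [Field F] [Fintype F] (m : ℕ) (hm : 2 ≤ m) (g : Cfsg.PSp m F) :
    (Fintype.card F - 1) * orderOf g ≤ Fintype.card F ^ (m + 1) := by
  classical
  obtain ⟨g, rfl⟩ := QuotientGroup.mk'_surjective _ g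
  set φ : Matrix.symplecticGroup (Fin m) F →* Matrix (Fin m ⊕ Fin m) (Fin m ⊕ Fin m) F :=
    (Matrix.symplecticGroup (Fin m) F).subtype
  have hinv : φ g⁻¹ * φ g = 1 := by rw [← map_mul, inv_mul_cancel, map_one]
  have hinv' : φ g * φ g⁻¹ = 1 := by rw [← map_mul, mul_inv_cancel, map_one]
  have hsim := Cfsg.Agent.Lie.OrderBoundForm.charpoly_inv_of_form (M := Matrix.J (Fin m) F)
    (Matrix.isUnit_det_J (Fin m) F) (SymplecticGroup.mem_iff'.1 g.2) hinv'
  obtain ⟨B, hB, hA, hbd⟩ := Cfsg.Agent.Lie.OrderBoundForm.exists_pow_eq_sign (φ g) (φ g⁻¹) hinv hsim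
    (m := m) (e := 0) (by simp; omega) (by omega) hm (by omega)
  exact (Nat.mul_le_mul_left _
    (Cfsg.Agent.Lie.OrderBoundForm.orderOf_mk_center φ Subtype.val_injective g hB hA)).trans hbd

end Cfsg.Agent.S2264
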