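import Cfsg.Statements.S2265
import Cfsg.Agent.Lib.Lie.OrderBoundForm
import Cfsg.Agent.Lib.Classical.QuadModels
import Cfsg.Agent.Lib.Classical.OrthCount

set_option autoImplicit false
open Cfsg

namespace Cfsg.Agent.S2265

open Cfsg.Agent.Classical Cfsg.Agent.Lie.OrderBoundForm Matrix

theorem bound_of_form {F : Type*} [Field F] [Fintype F] {ι : Type} [Fintype ι] [DecidableEq ι]
    (Q : QuadraticForm F (ι → F)) (hQ : (QuadraticMap.polarBilin Q).Nondegenerate) {m e : ℕ}
    (hcard : Fintype.card ι = 2 * m + e) (he : e ≤ 1) (hm : 2 ≤ m) (hodd : e = 1 → (2 : F) ≠ 0 ∧ 3 ≤ m)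
    (g : Cfsg.POmega F ⇑Q) : (Fintype.card F - 1) * orderOf g ≤ Fintype.card F ^ (m + 1) := by
  classical
  obtain ⟨g, rfl⟩ := QuotientGroup.mk'_surjective _ g
  set φ : Cfsg.Omega F ⇑Q →* Matrix ι ι F :=
    (Units.coeHom (Matrix ι ι F)).comp ((Cfsg.isometryGroup F ⇑Q).subtype.comp (Cfsg.Omega F ⇑Q).subtype)
  have hφ : Function.Injective φ := fun a b h => Subtype.ext (Subtype.ext (Units.ext h))
  have hinv : φ g⁻¹ * φ g = 1 := by rw [← map_mul, inv_mul_cancel, map_one]
  have hinv' : φ g * φ g⁻¹ = 1 := by rw [← map_mul, mul_inv_cancel, map_one]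
  set M := LinearMap.toMatrix₂' F (QuadraticMap.polarBilin Q) with hMdef
  have hM : IsUnit M.det := by
    rw [isUnit_iff_ne_zero]
    exact (LinearMap.separatingLeft_iff_det_ne_zero (Pi.basisFun F ι)).1 hQ.1
  have hquad : ∀ v, Q (φ g *ᵥ v) = Q v := fun v => g.1.2 v v
  have hform : (φ g).transpose * M * φ g = M := by
    have h1 : (QuadraticMap.polarBilin Q).compl₁₂ (Matrix.toLin' (φ g)) (Matrix.toLin' (φ g)) =
        QuadraticMap.polarBilin Q := LinearMap.ext fun x => LinearMap.ext fun y => by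
      simp only [LinearMap.compl₁₂_apply, QuadraticMap.polarBilin_apply_apply, Matrix.toLin'_apply,
        QuadraticMap.polar, ← Matrix.mulVec_add, hquad]
    have h2 := congrArg (LinearMap.toMatrix₂' F) h1
    rwa [LinearMap.toMatrix₂'_compl₁₂, LinearMap.toMatrix'_toLin'] at h2
  obtain ⟨B, hB, hA, hbd⟩ := exists_pow_eq_sign (φ g) (φ g⁻¹) hinv (charpoly_inv_of_form hM hform hinv')
    hcard he hm hodd
  exact (Nat.mul_le_mul_left _ (orderOf_mk_center φ hφ g hB hA)).trans hbd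

/-- Let F be a finite field with q elements. Every element g of PΩ_(2m+1)(F) (m ≥ 3, q odd), of PΩ⁺_2m(F) (m ≥ 4), or of PΩ⁻_2m(F) (m ≥ 4, the form having an anisotropic binary part) satisfies (q − 1)·|g| ≤ q^(m+1), i.e. has order at most q^(m+1)/(q − 1). -/
theorem result {F : Type*} [Field F] [Fintype F] (m : ℕ) :
    (3 ≤ m → Odd (Fintype.card F) → ∀ g : Cfsg.POmega F (Cfsg.quadFormOdd m F),
      (Fintype.card F - 1) * orderOf g ≤ Fintype.card F ^ (m + 1)) ∧
    (4 ≤ m → ∀ g : Cfsg.POmega F (Cfsg.quadFormPlus m F),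
      (Fintype.card F - 1) * orderOf g ≤ Fintype.card F ^ (m + 1)) ∧
    (4 ≤ m → ∀ a b : F, (∀ z₁ z₂ : F, z₁ ^ 2 + a * z₁ * z₂ + b * z₂ ^ 2 = 0 → z₁ = 0 ∧ z₂ = 0) →
      ∀ g : Cfsg.POmega F (Cfsg.quadFormMinus (m - 1) F a b),
      (Fintype.card F - 1) * orderOf g ≤ Fintype.card F ^ (m + 1)) := by
  classical
  refine ⟨fun hm hodd g => ?_, fun hm g => ?_, fun hm a b hab g => ?_⟩
  · have h2 : (2 : F) ≠ 0 := Ring.two_ne_zero fun h => by
      have := FiniteField.even_card_of_char_two h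
      rw [Nat.odd_iff] at hodd
      omega
    revert g
    rw [← coe_qfOdd]
    exact fun g => bound_of_form _ (nondegenerate_qfOdd m h2) (m := m) (e := 1) (by simp; omega) le_rfl
      (by omega) (fun _ => ⟨h2, hm⟩) g
  · revert g
    rw [← coe_qfPlus]
    exact fun g => bound_of_form _ (nondegenerate_qfPlus m) (m := m) (e := 0) (by simp; omega) (by omega)
      (by omega) (by omega) g
  · obtain ⟨k, rfl⟩ : ∃ k, m = k + 1 := ⟨m - 1, by omega⟩
    revert g
    rw [← coe_qfMinus]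
    exact fun g => bound_of_form _ (nondegenerate_qfMinus k hab) (m := k + 1) (e := 0) (by simp; omega)
      (by omega) (by omega) (by omega) g

end Cfsg.Agent.S2265
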