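import Cfsg.Statements.S2268
-- import your own Cfsg.Agent.* helpers here

set_option autoImplicit false
open Cfsg

namespace Cfsg.Agent.S2268

/-- Let G be a finite group with an abelian Sylow p-subgroup P and let Q ≤ P. Then N_G(Q) = (N_G(Q) ∩ N_G(P))·C_G(Q), so that N_G(Q)/C_G(Q) is a homomorphic image of the subgroup (N_G(Q) ∩ N_G(P))/C_G(P) of N_G(P)/C_G(P); in particular the order of N_G(Q)/C_G(Q) divides the order of N_G(P)/C_G(P). -/
theorem result {G : Type*} [Group G] [Finite G] {p : ℕ} [Fact p.Prime]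
    (P : Sylow p G) (hP : IsMulCommutative (P : Subgroup G)) (Q : Subgroup G) (hQ : Q ≤ (P : Subgroup G)) :
    Subgroup.normalizer (Q : Set G) =
      (Subgroup.normalizer (Q : Set G) ⊓ Subgroup.normalizer ((P : Subgroup G) : Set G)) ⊔ Subgroup.centralizer (Q : Set G) ∧
    ((Subgroup.centralizer (Q : Set G)).subgroupOf (Subgroup.normalizer (Q : Set G))).index ∣ ((Subgroup.centralizer ((P : Subgroup G) : Set G)).subgroupOf (Subgroup.normalizer ((P : Subgroup G) : Set G))).index := by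
  classical
  set N := Subgroup.normalizer (Q : Set G)
  set M := Subgroup.normalizer ((P : Subgroup G) : Set G)
  set C := Subgroup.centralizer (Q : Set G)
  set D := Subgroup.centralizer ((P : Subgroup G) : Set G)
  have hPC : (P : Subgroup G) ≤ C := fun g hg =>
    Subgroup.mem_centralizer_iff.2 fun h hh => congrArg Subtype.val
      ((isMulCommutative_iff).1 hP ⟨h, hQ hh⟩ ⟨g, hg⟩)
  have hCN : C ≤ N := fun g hg => Subgroup.mem_normalizer_iff.2 fun h => by
    constructor
    · intro hh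
      rwa [← Subgroup.mem_centralizer_iff.1 hg h hh, mul_inv_cancel_right]
    · intro hh
      have e := Subgroup.mem_centralizer_iff.1 hg _ hh
      have : g * h * g⁻¹ = h := mul_left_cancel (a := g) (by rw [← e]; group)
      rwa [this] at hh
  have hsplit : ∀ x ∈ N, ∃ c ∈ C, c * x ∈ M := fun x hx => by
    have hxP : ((x • P : Sylow p G) : Subgroup G) ≤ C := by
      rintro g ⟨y, hy, rfl⟩
      refine Subgroup.mem_centralizer_iff.2 fun h hh => ?_
      have h2 : x⁻¹ * h * x⁻¹⁻¹ ∈ Q := (Subgroup.mem_normalizer_iff.1 (N.inv_mem hx) h).1 hh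
      have h1 := Subgroup.mem_centralizer_iff.1 (hPC hy) _ h2
      simp only [MulDistribMulAction.toMonoidEnd_apply, MulDistribMulAction.toMonoidHom_apply,
        MulAut.smul_def, MulAut.conj_apply]
      calc h * (x * y * x⁻¹) = x * (x⁻¹ * h * x⁻¹⁻¹ * y) * x⁻¹ := by group
        _ = _ := by rw [h1]; group
    obtain ⟨c, hc⟩ := MulAction.exists_smul_eq ↥C ((x • P).subtype hxP) (P.subtype hPC)
    refine ⟨c, c.2, (Sylow.smul_eq_iff_mem_normalizer).1 ?_⟩
    rw [mul_smul]
    rw [Sylow.smul_subtype] at hc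
    exact Sylow.subtype_injective hc
  have hjoin : ∀ x ∈ N, ∃ c ∈ C, c * x ∈ N ⊓ M ∧ x = c⁻¹ * (c * x) := fun x hx => by
    obtain ⟨c, hc, hcx⟩ := hsplit x hx
    exact ⟨c, hc, ⟨N.mul_mem (hCN hc) hx, hcx⟩, by group⟩
  refine ⟨le_antisymm (fun x hx => ?_) (sup_le inf_le_left hCN), ?_⟩
  · obtain ⟨c, hc, hcx, e⟩ := hjoin x hx
    rw [e]
    exact mul_mem (Subgroup.mem_sup_right (C.inv_mem hc)) (Subgroup.mem_sup_left hcx)
  · show C.relIndex N ∣ D.relIndex M
    have hDC : D ≤ C := Subgroup.centralizer_le hQ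
    have hDM : D ≤ M := Subgroup.centralizer_le_normalizer _
    have hn : (C.subgroupOf N).Normal := Subgroup.normalizerMonoidHom_ker Q ▸ MonoidHom.normal_ker _
    have htop : (N ⊓ M).subgroupOf N ⊔ C.subgroupOf N = ⊤ := eq_top_iff.2 fun x _ => by
      obtain ⟨c, hc, hcx, e⟩ := hjoin x x.2
      rw [show x = (⟨c, hCN hc⟩ : N)⁻¹ * ⟨c * x, hcx.1⟩ from Subtype.ext e]
      exact mul_mem (Subgroup.mem_sup_right (inv_mem (Subgroup.mem_subgroupOf.2 hc)))
        (Subgroup.mem_sup_left (Subgroup.mem_subgroupOf.2 hcx))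
    have h1 := Subgroup.relIndex_sup_right ((N ⊓ M).subgroupOf N) (K := C.subgroupOf N)
    rw [htop, Subgroup.relIndex_top_right, Subgroup.relIndex_subgroupOf inf_le_left] at h1
    show (C.subgroupOf N).index ∣ _
    rw [h1]
    exact (Subgroup.relIndex_dvd_of_le_left (N ⊓ M) hDC).trans
      (Dvd.intro _ (Subgroup.relIndex_mul_relIndex D (N ⊓ M) M (le_inf (hDC.trans hCN) hDM) inf_le_right))

end Cfsg.Agent.S2268
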