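import Cfsg.Statements.S2269
import Cfsg.Agent.Lib.Lie.AltSylowAbelian

set_option autoImplicit false
open Cfsg

namespace Cfsg.Agent.S2269

/-- Let n ≥ 5 and let P be an abelian Sylow p-subgroup of the alternating group A_n. Then N(P)/C(P) (taken in A_n) has even order, or P is cyclic, except when n = 5 and p = 2, where P is a four-group and N(P)/C(P) has order 3. -/
theorem result (n : ℕ) (hn : 5 ≤ n) {p : ℕ} [Fact p.Prime]
    (P : Sylow p (alternatingGroup (Fin n))) (hP : IsMulCommutative (P : Subgroup (alternatingGroup (Fin n)))) :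
    (¬ (n = 5 ∧ p = 2) → 2 ∣ ((Subgroup.centralizer ((P : Subgroup (alternatingGroup (Fin n))) : Set (alternatingGroup (Fin n)))).subgroupOf (Subgroup.normalizer ((P : Subgroup (alternatingGroup (Fin n))) : Set (alternatingGroup (Fin n))))).index ∨ IsCyclic (P : Subgroup (alternatingGroup (Fin n)))) ∧
    ((n = 5 ∧ p = 2) → ((Subgroup.centralizer ((P : Subgroup (alternatingGroup (Fin n))) : Set (alternatingGroup (Fin n)))).subgroupOf (Subgroup.normalizer ((P : Subgroup (alternatingGroup (Fin n))) : Set (alternatingGroup (Fin n))))).index = 3 ∧ IsKleinFour (P : Subgroup (alternatingGroup (Fin n)))) := by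
  refine ⟨fun hne => ?_, ?_⟩
  · by_cases hp2 : p = 2
    · subst hp2
      exact absurd hP (Cfsg.Agent.Lie.AltSylow.not_comm_two (n := n)
        ((Nat.lt_or_ge n 6).resolve_left fun h => hne ⟨by omega, rfl⟩) P)
    have hlt := Cfsg.Agent.Lie.AltSylow.lt_sq hp2 P hP
    by_cases hk : 2 ≤ n / p
    · obtain ⟨t, h1, h2, h3⟩ := Cfsg.Agent.Lie.AltSylow.exists_inverting hp2 hlt hk P
      exact Or.inl (Cfsg.Agent.Lie.AltSylow.two_dvd_index _ h1 h2 h3)
    · refine Or.inr ?_
      have hc := Cfsg.Agent.Lie.AltSylow.card_sylow hp2 hlt P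
      rcases (Nat.le_one_iff_eq_zero_or_eq_one.1 (Nat.lt_succ_iff.1 (not_le.1 hk))) with h | h <;> rw [h] at hc
      · haveI := (Nat.card_eq_one_iff_unique.1 (hc.trans (pow_zero p))).1
        infer_instance
      · exact isCyclic_of_prime_card (hc.trans (pow_one p))
  · rintro ⟨rfl, rfl⟩
    exact Cfsg.Agent.Lie.AltSylow.five_two P

end Cfsg.Agent.S2269
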