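import Cfsg.Statements.S2270
-- import your own Cfsg.Agent.* helpers here

set_option autoImplicit false
open Cfsg

namespace Cfsg.Agent.S2270

/-- Let n ≥ 3, p an odd prime, and P an abelian Sylow p-subgroup of the symmetric group S_n (with p dividing n!, so that P ≠ 1). Then N(P)/C(P) has even order. -/
theorem result (n : ℕ) (hn : 3 ≤ n) {p : ℕ} [Fact p.Prime] (hp : p ≠ 2) (hpn : p ≤ n)
    (P : Sylow p (Equiv.Perm (Fin n))) (hP : IsMulCommutative (P : Subgroup (Equiv.Perm (Fin n)))) :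
    2 ∣ ((Subgroup.centralizer ((P : Subgroup (Equiv.Perm (Fin n))) : Set (Equiv.Perm (Fin n)))).subgroupOf (Subgroup.normalizer ((P : Subgroup (Equiv.Perm (Fin n))) : Set (Equiv.Perm (Fin n))))).index := by
  classical
  have hne : (P : Subgroup (Equiv.Perm (Fin n))) ≠ ⊥ := fun h => by
    refine P.ne_bot_of_dvd_card ?_ h
    rw [Nat.card_eq_fintype_card, Fintype.card_perm, Fintype.card_fin]
    exact (Fact.out : p.Prime).dvd_factorial.2 hpn
  obtain ⟨⟨x, hx⟩, hx1'⟩ := Subgroup.ne_bot_iff_exists_ne_one.1 hne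
  have hx1 : x ≠ 1 := fun h => hx1' (Subtype.ext h)
  obtain ⟨g, hg⟩ := isConj_iff.1 (Equiv.Perm.isConj_iff_cycleType_eq.2 (Equiv.Perm.cycleType_inv x))
  obtain ⟨y, hy, e⟩ := P.conj_eq_normalizer_conj_of_mem x⁻¹ g⁻¹ (inv_mem hx) (by
    have h : g * x⁻¹ * g⁻¹ = x := hg
    rw [inv_inv, h]; exact hx)
  rw [inv_inv, hg] at e
  set M := Subgroup.normalizer ((P : Subgroup (Equiv.Perm (Fin n))) : Set (Equiv.Perm (Fin n)))
  set D := Subgroup.centralizer ((P : Subgroup (Equiv.Perm (Fin n))) : Set (Equiv.Perm (Fin n)))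
  have hn' : (D.subgroupOf M).Normal :=
    Subgroup.normalizerMonoidHom_ker (P : Subgroup (Equiv.Perm (Fin n))) ▸ MonoidHom.normal_ker _
  by_contra hodd
  have hk := Nat.not_even_iff_odd.1 fun h => hodd (even_iff_two_dvd.1 h)
  have hmem : (⟨y, hy⟩ : M) ^ (D.subgroupOf M).index ∈ D.subgroupOf M :=
    Subgroup.pow_index_mem _ _
  have hcomm := Subgroup.mem_centralizer_iff.1 (Subgroup.mem_subgroupOf.1 hmem) x hx
  rw [SubgroupClass.coe_pow, Subgroup.coe_mk] at hcomm
  have hy' : y * x = x⁻¹ * y := by simpa [mul_assoc] using congrArg (y * ·) e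
  have hpow : ∀ k, y ^ k * x = (if Even k then x else x⁻¹) * y ^ k := by
    intro k
    induction k with
    | zero => simp
    | succ k ih =>
      rw [pow_succ', mul_assoc, ih, ← mul_assoc]
      by_cases hk : Even k
      · simp [hk, Nat.even_add_one, hy', mul_assoc]
      · rw [if_neg hk, if_pos (Nat.even_add_one.2 hk), ← mul_assoc]
        congr 1
        have : y * x⁻¹ = x * y := by
          calc y * x⁻¹ = x * (x⁻¹ * y) * x⁻¹ := by group
            _ = x * y := by rw [← hy']; group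
        exact this
  rw [hpow, if_neg (Nat.not_even_iff_odd.2 hk)] at hcomm
  have hx2 : x ^ 2 = 1 := by
    rw [pow_two]
    exact inv_eq_iff_mul_eq_one.1 (mul_right_cancel hcomm.symm)
  obtain ⟨j, hj⟩ := (IsPGroup.iff_orderOf.1 P.isPGroup') ⟨x, hx⟩
  rw [Subgroup.orderOf_mk] at hj
  have h2 := orderOf_eq_prime hx2 hx1
  rw [h2] at hj
  rcases Nat.eq_zero_or_pos j with rfl | hj0
  · simp at hj
  · exact hp ((Nat.prime_dvd_prime_iff_eq Fact.out Nat.prime_two).1 (hj ▸ dvd_pow_self p hj0.ne'))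

end Cfsg.Agent.S2270
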