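import Cfsg.Statements.S2271
import Cfsg.Agent.Lib.Perm.AgreementCount

set_option autoImplicit false
open Cfsg

namespace Cfsg.Agent.S2271

/-- Let n ≥ 5 and let a, b be non-identity permutations in the symmetric group S_n. Then the number of fixed points is not constant on the set of products a′b′ with a′ conjugate to a and b′ conjugate to b under the alternating group: there are even permutations g₁, h₁, g₂, h₂ such that (g₁ a g₁⁻¹)(h₁ b h₁⁻¹) and (g₂ a g₂⁻¹)(h₂ b h₂⁻¹) have different numbers of fixed points. -/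
theorem result (n : ℕ) (hn : 5 ≤ n) (a b : Equiv.Perm (Fin n)) (ha : a ≠ 1) (hb : b ≠ 1) :
    ∃ g₁ h₁ g₂ h₂ : Equiv.Perm (Fin n), g₁ ∈ alternatingGroup (Fin n) ∧ h₁ ∈ alternatingGroup (Fin n) ∧ g₂ ∈ alternatingGroup (Fin n) ∧ h₂ ∈ alternatingGroup (Fin n) ∧
      Nat.card (Function.fixedPoints ⇑(g₁ * a * g₁⁻¹ * (h₁ * b * h₁⁻¹))) ≠
        Nat.card (Function.fixedPoints ⇑(g₂ * a * g₂⁻¹ * (h₂ * b * h₂⁻¹))) := by
  classical
  have key : ∀ g : Equiv.Perm (Fin n), Nat.card (Function.fixedPoints ⇑(1 * a * 1⁻¹ * (g⁻¹ * b * g⁻¹⁻¹))) =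
      Cfsg.Agent.Agreement.agree a⁻¹ b g := fun g => by
    rw [Nat.card_eq_fintype_card]
    unfold Cfsg.Agent.Agreement.agree
    refine Fintype.card_of_subtype _ fun i => ?_
    simp [Function.mem_fixedPoints, Function.IsFixedPt, Equiv.Perm.inv_def, Equiv.apply_eq_iff_eq_symm_apply,
      Equiv.symm_apply_eq]
  by_contra hcon
  push Not at hcon
  refine Cfsg.Agent.Agreement.not_const hn (inv_ne_one.2 ha) hb (Cfsg.Agent.Agreement.agree a⁻¹ b 1) fun g hg => ?_
  have hmem : g⁻¹ ∈ alternatingGroup (Fin n) := inv_mem (Equiv.Perm.mem_alternatingGroup.2 hg)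
  have h := hcon 1 g⁻¹ 1 1⁻¹ (one_mem _) hmem (one_mem _) (inv_mem (one_mem _))
  rw [key g, key 1] at h
  exact h

end Cfsg.Agent.S2271
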