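import Cfsg.Statements.S2272
import Cfsg.Agent.Lib.Lie.ClassTrace

set_option autoImplicit false
open Cfsg

namespace Cfsg.Agent.S2272

/-- Let F be a finite field and d ≥ 3, and let a, b be non-identity elements of PSL_d(F). Then the product of the conjugacy classes of a and b is not a single conjugacy class: there are conjugates a′ of a and b′ of b such that a′b′ is not conjugate to ab. -/
theorem result {F : Type*} [Field F] [Fintype F] (d : ℕ) (hd : 3 ≤ d)
    (a b : Matrix.ProjectiveSpecialLinearGroup (Fin d) F) (ha : a ≠ 1) (hb : b ≠ 1) :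
    ∃ g h : Matrix.ProjectiveSpecialLinearGroup (Fin d) F, ¬ IsConj (a * b) (g * a * g⁻¹ * (h * b * h⁻¹)) := by
  obtain ⟨A, rfl⟩ := QuotientGroup.mk_surjective a
  obtain ⟨B, rfl⟩ := QuotientGroup.mk_surjective b
  have hA : A ∉ Subgroup.center _ := fun h => ha ((QuotientGroup.eq_one_iff A).2 h)
  have hB : B ∉ Subgroup.center _ := fun h => hb ((QuotientGroup.eq_one_iff B).2 h)
  obtain ⟨g, h, hg, hh⟩ := Lie.ClassTrace.exists_trace hd hA hB
  by_contra hcon
  push Not at hcon
  have key : ∀ k : Matrix.SpecialLinearGroup (Fin d) F,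
      ∃ r : F, r ≠ 0 ∧ Matrix.trace ((A * (k * B * k⁻¹) : Matrix.SpecialLinearGroup (Fin d) F) : Matrix (Fin d) (Fin d) F) =
        r * Matrix.trace ((A * B : Matrix.SpecialLinearGroup (Fin d) F) : Matrix (Fin d) (Fin d) F) := by
    intro k
    obtain ⟨c, hc⟩ := isConj_iff.1 (hcon 1 (QuotientGroup.mk k))
    obtain ⟨C, rfl⟩ := QuotientGroup.mk_surjective c
    rw [one_mul, inv_one, mul_one] at hc
    simp only [← QuotientGroup.mk_mul, ← QuotientGroup.mk_inv] at hc
    obtain ⟨r, hr, hz⟩ := Matrix.SpecialLinearGroup.mem_center_iff.1 (QuotientGroup.eq.1 hc)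
    refine ⟨r, fun e => ?_, ?_⟩
    · rw [e, Fintype.card_fin, zero_pow (by omega)] at hr
      exact zero_ne_one hr
    · rw [show A * (k * B * k⁻¹) = C * (A * B) * C⁻¹ * ((C * (A * B) * C⁻¹)⁻¹ * (A * (k * B * k⁻¹))) by group,
        Matrix.SpecialLinearGroup.coe_mul, ← hz, Matrix.scalar_apply, ← Matrix.smul_one_eq_diagonal,
        Matrix.mul_smul, Matrix.mul_one, Matrix.trace_smul, Matrix.SpecialLinearGroup.coe_mul,
        Matrix.trace_mul_comm, ← Matrix.SpecialLinearGroup.coe_mul, inv_mul_cancel_left, smul_eq_mul]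
  obtain ⟨r, hr, e⟩ := key g
  obtain ⟨r', -, e'⟩ := key h
  rw [hg, eq_comm, mul_eq_zero] at e
  rw [e.resolve_left hr, mul_zero] at e'
  exact hh e'

end Cfsg.Agent.S2272
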