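import Cfsg.Statements.S2276
import Cfsg.Agent.Lib.Alt.PPairs.Main

set_option autoImplicit false
open Cfsg

namespace Cfsg.Agent.S2276

/-- Let n ≥ 5, p ≥ 3 a prime, and u, w non-identity elements of p-power order in the alternating group A_n. Then there is g ∈ A_n such that u·(g w g⁻¹) does not have p-power order and ⟨u, g w g⁻¹⟩ is not solvable. -/
theorem result (n : ℕ) (hn : 5 ≤ n) (p : ℕ) (hp : p.Prime) (hp3 : 3 ≤ p) (u w : alternatingGroup (Fin n)) (hu : u ≠ 1) (hw : w ≠ 1)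
    (hu' : ∃ k : ℕ, orderOf u = p ^ k) (hw' : ∃ k : ℕ, orderOf w = p ^ k) :
    ∃ g : alternatingGroup (Fin n), (¬ ∃ k : ℕ, orderOf (u * (g * w * g⁻¹)) = p ^ k) ∧
      ¬ Group.IsSolvable ↥(Subgroup.closure ({u, g * w * g⁻¹} : Set (alternatingGroup (Fin n)))) := by
  obtain ⟨ku, hku⟩ := hu'
  obtain ⟨kw, hkw⟩ := hw'
  obtain ⟨g, hg, hf⟩ := PPairs.main hp hp3 (by rw [Fintype.card_fin]; exact hn)
    (u := (u : Equiv.Perm (Fin n))) (w := (w : Equiv.Perm (Fin n)))
    ((Subgroup.orderOf_coe u).trans hku) ((Subgroup.orderOf_coe w).trans hkw)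
    (fun e => hu (Subtype.ext e)) (fun e => hw (Subtype.ext e))
  let g' : alternatingGroup (Fin n) := ⟨g, Equiv.Perm.mem_alternatingGroup.2 hg⟩
  refine ⟨g', ?_⟩
  have hmap : (alternatingGroup (Fin n)).subtype (g' * w * g'⁻¹) = g * (w : Equiv.Perm (Fin n)) * g⁻¹ := by
    rw [map_mul, map_mul, map_inv]
    rfl
  have hf' : PPairs.Free p ((alternatingGroup (Fin n)).subtype u)
      ((alternatingGroup (Fin n)).subtype (g' * w * g'⁻¹)) := by
    rw [hmap]
    exact hf
  have h2 := PPairs.Free.comap hp (alternatingGroup (Fin n)).subtype hf'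
  unfold PPairs.Free at h2
  exact h2

end Cfsg.Agent.S2276
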