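import Cfsg.Statements.S2281
import Cfsg.Agent.Lib.Lie.SympRegMain
import Cfsg.Agent.Lib.Classical.SympRegularExists
-- import your own Cfsg.Agent.* helpers here

set_option autoImplicit false
open Cfsg

namespace Cfsg.Agent.S2281

/-- Let F be a finite field and n ≥ 2, excluding the case n = 2 with F of two elements (where the group is not quasisimple). Then the symplectic group Sp_2n(F) is generated by three conjugate regular unipotent elements: there are u ∈ Sp_2n(F) with u − 1 nilpotent and (u − 1)^(2n−1) ≠ 0, and g, h ∈ Sp_2n(F), such that u, g u g⁻¹ and h u h⁻¹ generate Sp_2n(F). -/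
theorem result {F : Type*} [Field F] [Fintype F] (n : ℕ) (hn : 2 ≤ n) (h22 : ¬ (n = 2 ∧ Fintype.card F = 2)) :
    ∃ u g h : Matrix.symplecticGroup (Fin n) F,
      IsNilpotent ((u : Matrix (Fin n ⊕ Fin n) (Fin n ⊕ Fin n) F) - 1) ∧
      ((u : Matrix (Fin n ⊕ Fin n) (Fin n ⊕ Fin n) F) - 1) ^ (2 * n - 1) ≠ 0 ∧
      Subgroup.closure ({u, g * u * g⁻¹, h * u * h⁻¹} : Set (Matrix.symplecticGroup (Fin n) F)) = ⊤ := by
  classical
  obtain ⟨p, hchar⟩ := CharP.exists F
  obtain ⟨k, hp, hk⟩ := FiniteField.card F p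
  haveI := Fact.mk hp
  have key : ∀ (u : Matrix.symplecticGroup (Fin n) F) (f : Fin n ⊕ Fin n → F),
      Cfsg.Agent.Lie.SpGen.RegData u f → Cfsg.Agent.Lie.SpGen.ThreeGen u →
      ∃ u g h : Matrix.symplecticGroup (Fin n) F,
      IsNilpotent ((u : Matrix (Fin n ⊕ Fin n) (Fin n ⊕ Fin n) F) - 1) ∧
      ((u : Matrix (Fin n ⊕ Fin n) (Fin n ⊕ Fin n) F) - 1) ^ (2 * n - 1) ≠ 0 ∧
      Subgroup.closure ({u, g * u * g⁻¹, h * u * h⁻¹} : Set (Matrix.symplecticGroup (Fin n) F)) = ⊤ := by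
    intro u f hu ⟨g, h, hgh⟩
    exact ⟨u, g, h, ⟨2 * n, hu.top⟩, fun e => hu.cyc (by rw [Cfsg.Agent.Lie.SpGen.nu, e, Matrix.zero_mulVec]), hgh⟩
  have hq : 2 ≤ Fintype.card F := Fintype.one_lt_card
  by_cases hspecial : (2 : F) = 0 ∧ n = 2
  · obtain ⟨h2, rfl⟩ := hspecial
    haveI : CharP F 2 := CharTwo.of_one_ne_zero_of_two_eq_zero one_ne_zero h2
    have h3 : 3 ≤ Fintype.card F := by
      by_contra h
      exact h22 ⟨rfl, by omega⟩
    exact key _ _ Cfsg.Agent.Lie.SpGen.fourReg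
      (Cfsg.Agent.Lie.SpGen.fourReg.big_case h3 Cfsg.Agent.Lie.SpGen.four_exists_qk_two
        (Or.inr ⟨h2, Cfsg.Agent.Lie.SpGen.four_good_scalar,
          fun b r hb => Cfsg.Agent.Lie.SpGen.four_good_pair b r hb⟩))
  have hor : 3 ≤ n ∨ (2 : F) ≠ 0 := by
    by_cases h2 : (2 : F) = 0
    · exact Or.inl (by
        by_contra h
        exact hspecial ⟨h2, by omega⟩)
    · exact Or.inr h2
  obtain ⟨u, htop, hne⟩ := Cfsg.Agent.Classical.exists_symp_regular_nilpotent (F := F) p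
    (j := n) (by omega)
  obtain ⟨f, hf⟩ : ∃ f, Matrix.mulVec (((u : Matrix (Fin n ⊕ Fin n) (Fin n ⊕ Fin n) F) - 1) ^ (2 * n - 1)) f ≠ 0 := by
    by_contra hcon
    push Not at hcon
    exact hne (Matrix.ext_iff_mulVec.2 fun v => by rw [hcon v, Matrix.zero_mulVec])
  have hu : Cfsg.Agent.Lie.SpGen.RegData u f := ⟨htop, hf, hn⟩
  refine key u f hu ?_
  rcases eq_or_lt_of_le hq with h | h
  · refine hu.two_case h.symm ?_
    by_contra hn3
    exact h22 ⟨by omega, h.symm⟩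
  · refine hu.big_case h ?_ (Or.inl ⟨fun s => ?_, fun b κ hb => hu.goodPair hor hb κ⟩)
    · exact hu.exists_off_qk 2 (Cfsg.Agent.Lie.SpGen.exists_ne_two h)
        (by rw [pow_two]; exact hu.four_ne_one hor)
    · rcases hor with h3 | h3
      · exact hu.good_scalar_large h3 s
      · exact hu.good_scalar_odd h3 s

end Cfsg.Agent.S2281
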