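import Cfsg.Statements.S2282
import Cfsg.Agent.Lib.Lie.UnitRegMain
import Cfsg.Agent.Lib.Lie.UnitRegTwo
import Cfsg.Agent.Lib.Classical.UnitRegUnipClasses

set_option autoImplicit false
open Cfsg Matrix

namespace Cfsg.Agent.S2282

/-- Let F be a field with q² elements, n ≥ 3 odd with (n, q) ≠ (3, 2), and SU_n(q) the special unitary group of the standard Hermitian form Σ u_i v_i^q. Then SU_n(q) is generated by three conjugate regular unipotent elements: there are u ∈ SU_n(q) with u − 1 nilpotent and (u − 1)^(n−1) ≠ 0, and g, h ∈ SU_n(q), such that u, g u g⁻¹ and h u h⁻¹ generate SU_n(q). -/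
theorem result {F : Type*} [Field F] [Fintype F] (q : ℕ) (hF : Fintype.card F = q ^ 2) (n : ℕ) (hn : 3 ≤ n) (hodd : Odd n) (h32 : ¬ (n = 3 ∧ q = 2)) :
    ∃ u g h : ↥(Cfsg.SU n F q), (IsNilpotent (((u : Matrix.SpecialLinearGroup (Fin n) F) : Matrix (Fin n) (Fin n) F) - 1) ∧ (((u : Matrix.SpecialLinearGroup (Fin n) F) : Matrix (Fin n) (Fin n) F) - 1) ^ (n - 1) ≠ 0) ∧
      Subgroup.closure ({u, g * u * g⁻¹, h * u * h⁻¹} : Set ↥(Cfsg.SU n F q)) = ⊤ := by
  obtain ⟨U, hU, P, hP⟩ := Cfsg.Agent.UnitRegUnipClasses.exists_regular hF (by omega : 0 < n)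
  obtain ⟨htop, -, hdet⟩ := Cfsg.Agent.UnitRegUnipClasses.regular_of_similar (by omega : 0 < n) hP
  let u : ↥(Cfsg.SU n F q) := ⟨⟨(U : Matrix (Fin n) (Fin n) F), hdet⟩, hU⟩
  have hnu : Cfsg.Agent.Lie.SUGen.nu u =
      P.val * Cfsg.Agent.RegUnipClasses.shift F n * P.inv := by
    have e : (U : Matrix (Fin n) (Fin n) F) =
        P.val * (1 + Cfsg.Agent.RegUnipClasses.shift F n) * P.inv := by
      rw [← hP, Matrix.mul_assoc, P.val_inv, Matrix.mul_one]
    show (U : Matrix (Fin n) (Fin n) F) - 1 = _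
    rw [e, Matrix.mul_add, Matrix.add_mul, Matrix.mul_one, P.val_inv, add_sub_cancel_left]
  set f := P.val *ᵥ (Pi.single (⟨0, by omega⟩ : Fin n) (1 : F)) with hf
  have hu : Cfsg.Agent.Lie.SUGen.RegData u f := by
    refine ⟨htop, ?_, hn⟩
    rw [hnu, Cfsg.Agent.RegUnipClasses.conj_pow, hf, Matrix.mulVec_mulVec, Matrix.mul_assoc,
      P.inv_val, Matrix.mul_one, ← Matrix.mulVec_mulVec]
    intro h0
    have h1 := congrArg (P.inv *ᵥ ·) h0
    simp only [Matrix.mulVec_mulVec, Matrix.mulVec_zero] at h1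
    rw [← Matrix.mul_assoc, P.inv_val, Matrix.one_mul] at h1
    rw [show n - 1 = ((⟨n - 1, by omega⟩ : Fin n) : ℕ) from rfl,
      Cfsg.Agent.RegUnipClasses.shift_pow_single (by omega)] at h1
    exact absurd (congrFun h1 ⟨n - 1, by omega⟩) (by simp)
  have hgen : Cfsg.Agent.Lie.SUGen.ThreeGen u := by
    have hq := Cfsg.Agent.Classical.two_le_q hF
    rcases (show q = 2 ∨ 3 ≤ q by omega) with h2 | h3
    · obtain ⟨m, hm⟩ := hodd
      exact hu.two_case (hF := hF) h2 (by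
        have : n ≠ 3 := fun e => h32 ⟨e, h2⟩
        omega)
    · exact hu.big_case hF hodd h3
  obtain ⟨g, k, hgk⟩ := hgen
  refine ⟨u, g, k, ⟨⟨n, htop⟩, fun h0 => hu.cyc ?_⟩, hgk⟩
  show ((U : Matrix (Fin n) (Fin n) F) - 1) ^ (n - 1) *ᵥ f = 0
  rw [show ((U : Matrix (Fin n) (Fin n) F) - 1) ^ (n - 1) = 0 from h0, Matrix.zero_mulVec]

end Cfsg.Agent.S2282
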