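import Cfsg.Statements.S2286
import Cfsg.Agent.Lib.Lie.Sl2PresFinal
-- import your own Cfsg.Agent.* helpers here

set_option autoImplicit false
open Cfsg

namespace Cfsg.Agent.S2286

/-- For every finite field F, SL_2(F) and PSL_2(F) have presentations with 3 generators and at most 9 relations; when F has characteristic 2, PSL_2(F) has a presentation with 3 generators and at most 5 relations. -/
theorem result {F : Type*} [Field F] [Fintype F] :
    (∃ rels : Finset (FreeGroup (Fin 3)), rels.card ≤ 9 ∧ Nonempty (PresentedGroup (↑rels : Set (FreeGroup (Fin 3))) ≃* Matrix.SpecialLinearGroup (Fin 2) F)) ∧ (∃ rels : Finset (FreeGroup (Fin 3)), rels.card ≤ 9 ∧ Nonempty (PresentedGroup (↑rels : Set (FreeGroup (Fin 3))) ≃* Matrix.ProjectiveSpecialLinearGroup (Fin 2) F)) ∧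
    (CharP F 2 → ∃ rels : Finset (FreeGroup (Fin 3)), rels.card ≤ 5 ∧ Nonempty (PresentedGroup (↑rels : Set (FreeGroup (Fin 3))) ≃* Matrix.ProjectiveSpecialLinearGroup (Fin 2) F)) := by
  classical
  obtain ⟨ω, rels, E, hP, hc, hEc, h2, hE, hE'⟩ := Cfsg.Agent.Lie.Sl2Pres.exists_presentations_aux (F := F)
  refine ⟨⟨rels, by omega, hP.nonempty_equiv⟩, ⟨rels ∪ E, ?_, hP.psl E hE hE'⟩, fun hC => ⟨rels ∪ E, ?_, hP.psl E hE hE'⟩⟩
  · exact le_trans (Finset.card_union_le _ _) (by omega)
  · haveI := hC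
    obtain ⟨h5, hE0⟩ := h2 (CharTwo.two_eq_zero)
    rw [hE0, Finset.union_empty]
    exact h5

end Cfsg.Agent.S2286
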