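import Cfsg.Statements.S2412
import Cfsg.Agent.Lib.Classical.UnitTwoGenBinaryGen
import Cfsg.Agent.Lib.Lie.UnitTwoGenTorus
import Cfsg.Agent.Lib.Lie.UnitTwoGenSmall
-- import your own Cfsg.Agent.* helpers here

set_option autoImplicit false
open Cfsg

namespace Cfsg.Agent.S2412

/-- The projective special unitary group `PSU_n(q)` with `n ≥ 3`, realised over the field with `q²` elements, `(n, q) ≠ (3, 2)`, is generated by two of its elements. -/
theorem result {F : Type*} [Field F] [Fintype F] {q : ℕ} (hq : IsPrimePow q) (hF : Fintype.card F = q ^ 2) (n : ℕ) (hn : 3 ≤ n) (h32 : n = 3 → q ≠ 2) :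
    ∃ a b : Cfsg.PSU n F q, Subgroup.closure ({a, b} : Set (Cfsg.PSU n F q)) = ⊤ := by
  have key : ∃ a b : Cfsg.SU n F q, Subgroup.closure ({a, b} : Set (Cfsg.SU n F q)) = ⊤ := by
    by_cases h2 : q = 2
    · subst h2
      rcases Nat.lt_or_ge n 5 with h5 | h5
      · have h4 : n = 4 := by
          rcases Nat.lt_or_ge n 4 with h | h
          · exact absurd rfl (h32 (by omega))
          · omega
        exact Cfsg.Agent.Classical.UnitTwoGen.two_generated_four hF h4
      · exact Cfsg.Agent.Classical.UnitTwoGen.two_generated_large hF (k := n - 5) (by omega)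
    · have h3q : 3 ≤ q := by
        have := hq.two_le
        omega
      have h3 : Cfsg.Agent.Lie.SUGen.TwoGen (F := F) q := by
        by_cases h5 : q = 5
        · exact Cfsg.Agent.Lie.SUGen.twoGen_five hF h5
        by_cases h8 : q = 8
        · exact Cfsg.Agent.Lie.SUGen.twoGen_eight hF h8
        exact Cfsg.Agent.Lie.SUGen.twoGen_big hF h3q h5 h8
      rcases Nat.lt_or_ge 3 n with hn4 | hn3
      · obtain ⟨k, rfl⟩ : ∃ k, n = 3 + k := ⟨n - 3, by omega⟩
        exact Cfsg.Agent.Classical.UnitTwoGen.two_generated_embed hF h3q (by omega) h3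
      · obtain rfl : n = 3 := by omega
        obtain ⟨u, g, -, hg⟩ := h3
        exact ⟨u, _, hg⟩
  obtain ⟨a, b, hab⟩ := key
  refine ⟨QuotientGroup.mk' _ a, QuotientGroup.mk' _ b, ?_⟩
  rw [← Set.image_pair, ← MonoidHom.map_closure, hab,
    Subgroup.map_top_of_surjective _ (QuotientGroup.mk'_surjective _)]

end Cfsg.Agent.S2412
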