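import Cfsg.Statements.S2291
import Cfsg.Agent.Lib.Lie.UnPresGlue
import Cfsg.Agent.Lib.Lie.SU3PresFinal
import Cfsg.Agent.S2412
-- import your own Cfsg.Agent.* helpers here

set_option autoImplicit false
open Cfsg

namespace Cfsg.Agent.S2291

/-- Let F be a field with q² elements and n ≥ 3 with (n, q) ≠ (3, 2). Then the simple group PSU_n(q) (for the standard Hermitian form) has a presentation with 2 generators and at most 80 relations. -/
theorem result {F : Type*} [Field F] [Fintype F] (q n : ℕ) (hF : Fintype.card F = q ^ 2) (hn : 3 ≤ n) (h32 : ¬ (n = 3 ∧ q = 2)) :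
    ∃ rels : Finset (FreeGroup (Fin 2)), rels.card ≤ 80 ∧ Nonempty (PresentedGroup (↑rels : Set (FreeGroup (Fin 2))) ≃* Cfsg.PSU n F q) := by
  classical
  have hq : IsPrimePow q :=
    (isPrimePow_pow_iff (by norm_num : (2 : ℕ) ≠ 0)).1 (hF ▸ FiniteField.isPrimePow_card F)
  obtain ⟨a, b, hab⟩ := Cfsg.Agent.S2412.result hq hF n hn fun h h' => h32 ⟨h, h'⟩
  obtain ⟨m, v, r, hr, hv⟩ : ∃ (m : ℕ) (v : Fin m → Cfsg.PSU n F q) (r : ℕ), r ≤ 78 ∧
      Cfsg.Agent.Lie.Pres.PresOn v r := by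
    rcases Nat.lt_or_ge 3 n with h4 | h3
    · obtain ⟨g, hg, -⟩ := Cfsg.Agent.Lie.UnPres.presOn_SU hF n h4
      obtain ⟨w, hw⟩ := Cfsg.Agent.Lie.UnPres.presOn_PSU hF hg
      exact ⟨_, w, _, by norm_num, hw⟩
    obtain rfl : n = 3 := by omega
    have hq3 : 3 ≤ q := by
      have : q ≠ 2 := fun h => h32 ⟨rfl, h⟩
      have := hq.two_le
      omega
    obtain ⟨e, x, f, B⟩ := Cfsg.Agent.Lie.SUGen.exists_frame (F := F) hF
    obtain ⟨g, hg⟩ : ∃ g : Fin 3 → Cfsg.SU 3 F q, Cfsg.Agent.Lie.Pres.PresOn g 21 := by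
      by_cases h5 : q = 5
      · obtain ⟨g, hg⟩ := Cfsg.Agent.Lie.SU3Pres.presOn_five hF B h5
        exact ⟨g, hg.mono (by norm_num)⟩
      by_cases h8 : q = 8
      · exact Cfsg.Agent.Lie.SU3Pres.presOn_eight hF B h8
      obtain ⟨g, hg⟩ := Cfsg.Agent.Lie.SU3Pres.presOn_general hF B hq3 h5 h8
      exact ⟨g, hg.mono (by norm_num)⟩
    obtain ⟨w, hw⟩ := Cfsg.Agent.Lie.UnPres.presOn_PSU hF hg
    exact ⟨_, w, _, by norm_num, hw⟩
  have hgen : Subgroup.closure (Set.range ![a, b]) = ⊤ := by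
    rw [← hab]
    congr 1
    ext y
    simp [Fin.exists_fin_two, eq_comm, or_comm]
  obtain ⟨rels, hc, he⟩ := Cfsg.Agent.Lie.SLnSeven.PresOn.to_rels (hv.any_gens hgen)
  exact ⟨rels, hc.trans (by simp; omega), he⟩

end Cfsg.Agent.S2291
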