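import Mathlib
import Cfsg.Statements.S2298
import Cfsg.Agent.Lib.Block.SL2Char.GLFacts
-- import your own Cfsg.Agent.* helpers here

set_option autoImplicit false
open Cfsg

namespace Cfsg.Agent.S2298

open Cfsg.Agent.Block.SL2Char

/-- Over a finite field F with q elements, every irreducible complex character of GL₂ has degree 1, q − 1, q or q + 1; and when q ≥ 3 (so that these four numbers are distinct) there are exactly q − 1 irreducible characters of degree 1, exactly q − 1 of degree q, exactly (q − 1)(q − 2)/2 of degree q + 1 and exactly q(q − 1)/2 of degree q − 1. -/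
theorem result {F : Type*} [Field F] [Fintype F] :
    (∀ χ : Matrix.GeneralLinearGroup (Fin 2) F → ℂ, Cfsg.IsIrrCharacter (Matrix.GeneralLinearGroup (Fin 2) F) χ →
      χ 1 = 1 ∨ χ 1 = (Fintype.card F : ℂ) - 1 ∨ χ 1 = (Fintype.card F : ℂ) ∨ χ 1 = (Fintype.card F : ℂ) + 1) ∧
    (3 ≤ Fintype.card F →
      Nat.card {χ : Cfsg.IrrCharacter (Matrix.GeneralLinearGroup (Fin 2) F) // (χ : Matrix.GeneralLinearGroup (Fin 2) F → ℂ) 1 = 1} = Fintype.card F - 1 ∧
      Nat.card {χ : Cfsg.IrrCharacter (Matrix.GeneralLinearGroup (Fin 2) F) // (χ : Matrix.GeneralLinearGroup (Fin 2) F → ℂ) 1 = (Fintype.card F : ℂ)} = Fintype.card F - 1 ∧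
      Nat.card {χ : Cfsg.IrrCharacter (Matrix.GeneralLinearGroup (Fin 2) F) // (χ : Matrix.GeneralLinearGroup (Fin 2) F → ℂ) 1 = (Fintype.card F : ℂ) + 1} = (Fintype.card F - 1) * (Fintype.card F - 2) / 2 ∧
      Nat.card {χ : Cfsg.IrrCharacter (Matrix.GeneralLinearGroup (Fin 2) F) // (χ : Matrix.GeneralLinearGroup (Fin 2) F → ℂ) 1 = (Fintype.card F : ℂ) - 1} = Fintype.card F * (Fintype.card F - 1) / 2) := by
  classical
  obtain ⟨K, _, _, _, _, hK⟩ := exists_model F
  refine ⟨fun χ hχ => ?_, fun hq => ?_⟩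
  · rcases irr_cases K hK hχ with ⟨-, h1, -⟩ | ⟨-, h1, -⟩ | ⟨-, h1, -⟩ | ⟨-, h1, -⟩
    · exact Or.inl h1
    · exact Or.inr (Or.inr (Or.inl h1))
    · exact Or.inr (Or.inr (Or.inr h1))
    · exact Or.inr (Or.inl h1)
  have hq' : (3 : ℝ) ≤ Fintype.card F := by exact_mod_cast hq
  have hA := fun f hf => (values_listL (F := F) (f := f) hf).1
  have hB := fun f hf => (values_listS (F := F) (f := f) hf).1
  have hC := fun f hf => (values_listI (F := F) (f := f) hf).1
  have hD := fun f hf => (values_listD (F := F) K hK (f := f) hf).1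
  have hI := card_listI (F := F) K hK
  have hDc := card_listD (F := F) K hK
  have hirr := listAll_irr (F := F) K hK
  have hsum := listAll_sum (F := F) K hK
  have hne : ∀ {a b : ℂ}, a.re < b.re → a ≠ b := fun h e => h.ne (congrArg Complex.re e)
  have h12 : (1 : ℂ) ≠ (Fintype.card F : ℂ) := hne (by
    simp only [Complex.one_re, Complex.natCast_re]; linarith)
  have h13 : (1 : ℂ) ≠ (Fintype.card F : ℂ) + 1 := hne (by
    simp only [Complex.add_re, Complex.one_re, Complex.natCast_re]; linarith)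
  have h14 : (1 : ℂ) ≠ (Fintype.card F : ℂ) - 1 := hne (by
    simp only [Complex.sub_re, Complex.one_re, Complex.natCast_re]; linarith)
  have h23 : (Fintype.card F : ℂ) ≠ (Fintype.card F : ℂ) + 1 := hne (by
    simp only [Complex.add_re, Complex.one_re, Complex.natCast_re]; linarith)
  have h42 : (Fintype.card F : ℂ) - 1 ≠ (Fintype.card F : ℂ) := hne (by
    simp only [Complex.sub_re, Complex.one_re, Complex.natCast_re]; linarith)
  have h43 : (Fintype.card F : ℂ) - 1 ≠ (Fintype.card F : ℂ) + 1 := hne (by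
    simp only [Complex.add_re, Complex.sub_re, Complex.one_re, Complex.natCast_re]; linarith)
  refine ⟨?_, ?_, ?_, ?_⟩
  · rw [count_by_degree hirr hsum (fun f => mem_listAll K hK) hA hB hC hD h12 h13 h14]
    exact card_listL
  · rw [count_by_degree hirr hsum (fun f => (mem_listAll K hK).trans or_left_comm) hB hA hC hD h12.symm h23 h42.symm]
    exact card_listS
  · rw [count_by_degree hirr hsum
      (fun f => (mem_listAll K hK).trans (show _ ↔ f ∈ listI (F := F) ∨ f ∈ listL (F := F) ∨
        f ∈ listS (F := F) ∨ f ∈ listD (F := F) K hK by tauto)) hC hA hB hD h13.symm h23.symm h43.symm]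
    obtain ⟨n, hn⟩ : ∃ n, Fintype.card F = n + 3 := ⟨_, (Nat.sub_add_cancel hq).symm⟩
    rw [hn] at hI ⊢
    simp only [show n + 3 - 1 = n + 2 by omega, show n + 3 - 2 = n + 1 by omega] at hI ⊢
    refine (Nat.div_eq_of_eq_mul_left two_pos ?_).symm
    nlinarith
  · rw [count_by_degree hirr hsum
      (fun f => (mem_listAll K hK).trans (show _ ↔ f ∈ listD (F := F) K hK ∨ f ∈ listL (F := F) ∨
        f ∈ listS (F := F) ∨ f ∈ listI (F := F) by tauto)) hD hA hB hC h14.symm h42 h43]
    obtain ⟨n, hn⟩ : ∃ n, Fintype.card F = n + 3 := ⟨_, (Nat.sub_add_cancel hq).symm⟩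
    rw [hn] at hDc ⊢
    simp only [show n + 3 - 1 = n + 2 by omega] at hDc ⊢
    refine (Nat.div_eq_of_eq_mul_left two_pos ?_).symm
    have h1 : 1 ≤ (n + 3) ^ 2 := Nat.one_le_pow 2 _ (by omega)
    zify [h1] at hDc ⊢
    linear_combination -hDc

end Cfsg.Agent.S2298
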