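import Cfsg.Statements.S2299
import Cfsg.Agent.Lib.Block.SL2Char.SLFacts
-- import your own Cfsg.Agent.* helpers here

set_option autoImplicit false
open Cfsg

namespace Cfsg.Agent.S2299

open Cfsg.Agent.Block.SL2Char

/-- Over a finite field F with q elements, q odd, every irreducible complex character of SL₂ has degree 1, q, q + 1, q − 1, (q + 1)/2 or (q − 1)/2; and when q ≥ 5 (so that these six numbers are distinct) there are exactly one irreducible character of degree 1, one of degree q, (q − 3)/2 of degree q + 1, (q − 1)/2 of degree q − 1, two of degree (q + 1)/2 and two of degree (q − 1)/2. -/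
theorem result {F : Type*} [Field F] [Fintype F] (hodd : Odd (Fintype.card F)) :
    (∀ χ : Matrix.SpecialLinearGroup (Fin 2) F → ℂ, Cfsg.IsIrrCharacter (Matrix.SpecialLinearGroup (Fin 2) F) χ →
      χ 1 = 1 ∨ χ 1 = (Fintype.card F : ℂ) ∨ χ 1 = (Fintype.card F : ℂ) + 1 ∨ χ 1 = (Fintype.card F : ℂ) - 1 ∨
        χ 1 = (((Fintype.card F + 1) / 2 : ℕ) : ℂ) ∨ χ 1 = (((Fintype.card F - 1) / 2 : ℕ) : ℂ)) ∧
    (5 ≤ Fintype.card F →
      Nat.card {χ : Cfsg.IrrCharacter (Matrix.SpecialLinearGroup (Fin 2) F) // (χ : Matrix.SpecialLinearGroup (Fin 2) F → ℂ) 1 = 1} = 1 ∧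
      Nat.card {χ : Cfsg.IrrCharacter (Matrix.SpecialLinearGroup (Fin 2) F) // (χ : Matrix.SpecialLinearGroup (Fin 2) F → ℂ) 1 = (Fintype.card F : ℂ)} = 1 ∧
      Nat.card {χ : Cfsg.IrrCharacter (Matrix.SpecialLinearGroup (Fin 2) F) // (χ : Matrix.SpecialLinearGroup (Fin 2) F → ℂ) 1 = (Fintype.card F : ℂ) + 1} = (Fintype.card F - 3) / 2 ∧
      Nat.card {χ : Cfsg.IrrCharacter (Matrix.SpecialLinearGroup (Fin 2) F) // (χ : Matrix.SpecialLinearGroup (Fin 2) F → ℂ) 1 = (Fintype.card F : ℂ) - 1} = (Fintype.card F - 1) / 2 ∧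
      Nat.card {χ : Cfsg.IrrCharacter (Matrix.SpecialLinearGroup (Fin 2) F) // (χ : Matrix.SpecialLinearGroup (Fin 2) F → ℂ) 1 = (((Fintype.card F + 1) / 2 : ℕ) : ℂ)} = 2 ∧
      Nat.card {χ : Cfsg.IrrCharacter (Matrix.SpecialLinearGroup (Fin 2) F) // (χ : Matrix.SpecialLinearGroup (Fin 2) F → ℂ) 1 = (((Fintype.card F - 1) / 2 : ℕ) : ℂ)} = 2) := by
  classical
  obtain ⟨K, _, _, _, _, hK⟩ := exists_model F
  refine ⟨fun χ hχ => ?_, fun hq => ?_⟩
  · rcases degree_cases_odd K hK hodd hχ with ⟨-, h⟩ | ⟨-, h⟩ | ⟨-, h⟩ | ⟨-, h⟩ | ⟨-, h⟩ | ⟨-, h⟩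
    · exact Or.inl h
    · exact Or.inr (Or.inl h)
    · exact Or.inr (Or.inr (Or.inl h))
    · exact Or.inr (Or.inr (Or.inr (Or.inl h)))
    · exact Or.inr (Or.inr (Or.inr (Or.inr (Or.inl (h.trans (half_plus hodd).symm)))))
    · exact Or.inr (Or.inr (Or.inr (Or.inr (Or.inr (h.trans (half_minus hodd).symm)))))
  obtain ⟨α, a, b, x, h1, h2, -, ha, hb, hab, he, -⟩ := exists_pairI K hK hodd
  obtain ⟨φ, c, d, y, g1, g2, -, hc, hd, hcd, ge, -⟩ := exists_pairD K hK hodd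
  obtain ⟨k, hk⟩ := id hodd
  have key : ∀ (f : Matrix.SpecialLinearGroup (Fin 2) F → ℂ) (m : ℕ),
      IsIrrCharacter (Matrix.SpecialLinearGroup (Fin 2) F) f → f 1 = (m : ℂ) →
      (m = 1 ∧ f = fun _ => 1) ∨ (m = Fintype.card F ∧ f = vSS) ∨
      (m = Fintype.card F + 1 ∧ f ∈ famC (F := F)) ∨ (m + 1 = Fintype.card F ∧ f ∈ famD K hK) ∨
      (2 * m = Fintype.card F + 1 ∧ HalfI f) ∨ (2 * m + 1 = Fintype.card F ∧ HalfD K hK f) := by
    intro f m hf hm
    obtain ⟨n, hn, h⟩ := irr_cases_S K hK hf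
    obtain rfl : m = n := Nat.cast_injective (hm.symm.trans hn)
    rcases h with h | h | h | h | ⟨h, -, h'⟩ | ⟨h, -, h'⟩
    · exact Or.inl h
    · exact Or.inr (Or.inl h)
    · exact Or.inr (Or.inr (Or.inl h))
    · exact Or.inr (Or.inr (Or.inr (Or.inl h)))
    · exact Or.inr (Or.inr (Or.inr (Or.inr (Or.inl ⟨h, h'⟩))))
    · exact Or.inr (Or.inr (Or.inr (Or.inr (Or.inr ⟨h, h'⟩))))
  have hC := card_famC (F := F) K hK
  have hD := card_famD K hK
  rw [card_Z2_odd hodd] at hC hD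
  refine ⟨?_, ?_, ?_, ?_, ?_, ?_⟩
  · rw [card_degree_iff (S := {fun _ => 1}) ?_ ?_, Finset.card_singleton]
    · intro f hf
      rw [Finset.mem_singleton] at hf
      subst hf
      exact ⟨Cfsg.Agent.Char.isIrr_one, rfl⟩
    · intro f hf hm
      rcases key f 1 hf (by rw [hm, Nat.cast_one]) with ⟨hn, h⟩ | ⟨hn, h⟩ | ⟨hn, h⟩ | ⟨hn, h⟩ | ⟨hn, h⟩ | ⟨hn, h⟩
      all_goals first | omega | simp [h]
  · rw [card_degree_iff (S := {vSS}) ?_ ?_, Finset.card_singleton]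
    · intro f hf
      rw [Finset.mem_singleton] at hf
      subst hf
      exact ⟨isIrr_vSS K hK, vSS_one⟩
    · intro f hf hm
      rcases key f _ hf hm with ⟨hn, h⟩ | ⟨hn, h⟩ | ⟨hn, h⟩ | ⟨hn, h⟩ | ⟨hn, h⟩ | ⟨hn, h⟩
      all_goals first | omega | simp [h]
  · rw [card_degree_iff (S := famC (F := F)) ?_ ?_]
    · omega
    · intro f hf
      obtain ⟨β, hβ, rfl⟩ := mem_famC.1 hf
      exact ⟨isIrr_vIS K hK hβ, vIS_one β⟩
    · intro f hf hm
      rcases key f (Fintype.card F + 1) hf (by rw [hm]; push_cast; ring) with ⟨hn, h⟩ | ⟨hn, h⟩ | ⟨hn, h⟩ | ⟨hn, h⟩ | ⟨hn, h⟩ | ⟨hn, h⟩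
      all_goals first | omega | exact h
  · rw [card_degree_iff (S := famD K hK) ?_ ?_]
    · omega
    · intro f hf
      obtain ⟨ψ, hψ, rfl⟩ := (mem_famD K hK).1 hf
      exact ⟨isIrr_vDS K hK hψ, vDS_one K hK ψ⟩
    · intro f hf hm
      rcases key f (Fintype.card F - 1) hf (by rw [hm, cardF_sub_one Fintype.card_pos]) with ⟨hn, h⟩ | ⟨hn, h⟩ | ⟨hn, h⟩ | ⟨hn, h⟩ | ⟨hn, h⟩ | ⟨hn, h⟩
      all_goals first | omega | exact h
  · rw [card_degree_iff (S := {a, b}) ?_ ?_, Finset.card_pair hab]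
    · intro f hf
      rcases Finset.mem_insert.1 hf with rfl | hf
      · exact ⟨(halfI_facts K hK ha).1, ((halfI_facts K hK ha).2.2).trans (half_plus hodd).symm⟩
      · rw [Finset.mem_singleton] at hf
        subst hf
        exact ⟨(halfI_facts K hK hb).1, ((halfI_facts K hK hb).2.2).trans (half_plus hodd).symm⟩
    · intro f hf hm
      rcases key f _ hf hm with ⟨hn, h⟩ | ⟨hn, h⟩ | ⟨hn, h⟩ | ⟨hn, h⟩ | ⟨hn, h⟩ | ⟨hn, h⟩
      all_goals first
        | omega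
        | simpa using halfI_eq K hK hodd h1 h2 (halfI_facts K hK ha).1 (halfI_facts K hK hb).1 he h
  · rw [card_degree_iff (S := {c, d}) ?_ ?_, Finset.card_pair hcd]
    · intro f hf
      rcases Finset.mem_insert.1 hf with rfl | hf
      · exact ⟨(halfD_facts K hK hc).1, ((halfD_facts K hK hc).2.2).trans (half_minus hodd).symm⟩
      · rw [Finset.mem_singleton] at hf
        subst hf
        exact ⟨(halfD_facts K hK hd).1, ((halfD_facts K hK hd).2.2).trans (half_minus hodd).symm⟩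
    · intro f hf hm
      rcases key f _ hf hm with ⟨hn, h⟩ | ⟨hn, h⟩ | ⟨hn, h⟩ | ⟨hn, h⟩ | ⟨hn, h⟩ | ⟨hn, h⟩
      all_goals first
        | omega
        | simpa using halfD_eq K hK hodd g1 g2 (halfD_facts K hK hc).1 (halfD_facts K hK hd).1 ge h

end Cfsg.Agent.S2299
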