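import Cfsg.Statements.S2301
import Cfsg.Agent.Lib.Block.SL2Char.SLUnipotent
-- import your own Cfsg.Agent.* helpers here

set_option autoImplicit false
open Cfsg

namespace Cfsg.Agent.S2301

open Cfsg.Agent.Block.SL2Char

/-- Over a finite field with q elements of odd characteristic p, the elements of order p of SL₂ (the non-identity unipotent elements) fall into exactly two conjugacy classes, each of size (q² − 1)/2; two upper unitriangular matrices with non-zero off-diagonal entries b and b′ are conjugate exactly when bb′ is a square. -/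
theorem result {F : Type*} [Field F] [Fintype F] (p : ℕ) [Fact p.Prime] [CharP F p] (hp : p ≠ 2) :
    Nat.card {C : ConjClasses (Matrix.SpecialLinearGroup (Fin 2) F) // ∃ g : Matrix.SpecialLinearGroup (Fin 2) F, orderOf g = p ∧ ConjClasses.mk g = C} = 2 ∧
    (∀ g : Matrix.SpecialLinearGroup (Fin 2) F, orderOf g = p → Nat.card (ConjClasses.mk g).carrier = (Fintype.card F ^ 2 - 1) / 2) ∧
    ∀ g h : Matrix.SpecialLinearGroup (Fin 2) F, (g : Matrix (Fin 2) (Fin 2) F) 0 0 = 1 → (g : Matrix (Fin 2) (Fin 2) F) 1 1 = 1 → (g : Matrix (Fin 2) (Fin 2) F) 1 0 = 0 → (g : Matrix (Fin 2) (Fin 2) F) 0 1 ≠ 0 →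
      (h : Matrix (Fin 2) (Fin 2) F) 0 0 = 1 → (h : Matrix (Fin 2) (Fin 2) F) 1 1 = 1 → (h : Matrix (Fin 2) (Fin 2) F) 1 0 = 0 → (h : Matrix (Fin 2) (Fin 2) F) 0 1 ≠ 0 →
      (IsConj g h ↔ IsSquare ((g : Matrix (Fin 2) (Fin 2) F) 0 1 * (h : Matrix (Fin 2) (Fin 2) F) 0 1)) := by
  classical
  have hodd : Odd (Fintype.card F) := by
    obtain ⟨n, -, hn⟩ := FiniteField.card F p
    rw [hn]
    exact ((Fact.out : p.Prime).odd_of_ne_two hp).pow
  have hF : ringChar F ≠ 2 := by rwa [ringChar.eq F p]
  obtain ⟨n, hn⟩ := FiniteField.exists_nonsquare hF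
  have hn0 : n ≠ 0 := fun h => hn (h ▸ IsSquare.zero)
  let ν : Fˣ := Units.mk0 n hn0
  have hmul : ∀ a : F, a ≠ 0 → ¬ IsSquare a → IsSquare (n * a) := fun a ha h => by
    refine (quadraticChar_one_iff_isSquare (mul_ne_zero hn0 ha)).1 ?_
    rw [map_mul, quadraticChar_neg_one_iff_not_isSquare.2 hn,
      quadraticChar_neg_one_iff_not_isSquare.2 h]
    norm_num
  have hclass : ∀ g : Matrix.SpecialLinearGroup (Fin 2) F, orderOf g = p →
      IsConj (uT (Multiplicative.ofAdd ((1 : Fˣ) : F))) g ∨
      IsConj (uT (Multiplicative.ofAdd (ν : F))) g := fun g hg => by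
    obtain ⟨d, hd⟩ := exists_conj_uT (conj_un_of_orderOf hg)
    by_cases h : IsSquare (d : F)
    · exact Or.inl ((isConj_uT.2 (by rwa [Units.val_one, one_mul])).trans hd)
    · exact Or.inr ((isConj_uT.2 (hmul _ d.ne_zero h)).trans hd)
  have hdisj : ¬ IsConj (uT (Multiplicative.ofAdd ((1 : Fˣ) : F)))
      (uT (Multiplicative.ofAdd (ν : F))) := fun h => hn (by
    have := isConj_uT.1 h
    rwa [Units.val_one, one_mul] at this)
  refine ⟨?_, fun g hg => ?_, ?_⟩
  · rw [show {C : ConjClasses (Matrix.SpecialLinearGroup (Fin 2) F) //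
        ∃ g : Matrix.SpecialLinearGroup (Fin 2) F, orderOf g = p ∧ ConjClasses.mk g = C} =
        ↥({ConjClasses.mk (uT (Multiplicative.ofAdd ((1 : Fˣ) : F))),
          ConjClasses.mk (uT (Multiplicative.ofAdd (ν : F)))} :
          Set (ConjClasses (Matrix.SpecialLinearGroup (Fin 2) F))) from ?_]
    · rw [Nat.card_coe_set_eq,
        Set.ncard_pair fun e => hdisj (ConjClasses.mk_eq_mk_iff_isConj.1 e)]
    · refine congrArg Subtype (funext fun C => propext ⟨?_, ?_⟩)
      · rintro ⟨g, hg, rfl⟩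
        rcases hclass g hg with h | h
        · exact Or.inl (ConjClasses.mk_eq_mk_iff_isConj.2 h).symm
        · exact Or.inr (ConjClasses.mk_eq_mk_iff_isConj.2 h).symm
      · rintro (rfl | rfl)
        exacts [⟨_, orderOf_uT _, rfl⟩, ⟨_, orderOf_uT _, rfl⟩]
  · have key : ∀ g₀ g₁ : Matrix.SpecialLinearGroup (Fin 2) F, IsConj g₀ g₁ →
        Nat.card (ConjClasses.mk g₁).carrier =
          Nat.card {h : Matrix.SpecialLinearGroup (Fin 2) F // IsConj g₀ h} := fun g₀ g₁ h => by
      rw [← ConjClasses.mk_eq_mk_iff_isConj.2 h, card_carrier_eq]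
    let e := cjS (di ν 1)
    have he : e (uT (Multiplicative.ofAdd ((1 : Fˣ) : F))) = uT (Multiplicative.ofAdd (ν : F)) := by
      show cjS (di ν 1) _ = _
      rw [cjS_di_uT, Units.val_one, mul_one]
    have heq : Nat.card {h : Matrix.SpecialLinearGroup (Fin 2) F //
          IsConj (uT (Multiplicative.ofAdd ((1 : Fˣ) : F))) h} =
        Nat.card {h : Matrix.SpecialLinearGroup (Fin 2) F //
          IsConj (uT (Multiplicative.ofAdd (ν : F))) h} := by
      refine Nat.card_congr (e.toEquiv.subtypeEquiv fun h => ⟨fun hh => ?_, fun hh => ?_⟩)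
      · rw [← he]
        exact e.toMonoidHom.map_isConj hh
      · have := e.symm.toMonoidHom.map_isConj hh
        simpa [← he] using this
    have hsum : Nat.card {h : Matrix.SpecialLinearGroup (Fin 2) F //
          IsConj (uT (Multiplicative.ofAdd ((1 : Fˣ) : F))) h} +
        Nat.card {h : Matrix.SpecialLinearGroup (Fin 2) F //
          IsConj (uT (Multiplicative.ofAdd (ν : F))) h} = Fintype.card F ^ 2 - 1 := by
      rw [← card_GLclass_un (F := F)]
      refine (Set.ncard_union_eq (Set.disjoint_left.2 fun h h1 h2 => hdisj (IsConj.trans h1 (IsConj.symm h2)))).symm.trans ?_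
      refine congrArg Set.ncard (Set.ext fun h => ⟨?_, fun hh => ?_⟩)
      · have hu : ∀ d : Fˣ, IsConj (un 1 : GL (Fin 2) F)
            (Matrix.SpecialLinearGroup.toGL (uT (Multiplicative.ofAdd (d : F)))) := fun d =>
          conj_un_of_orderOf (orderOf_uT (p := p) d)
        rintro (hh | hh)
        · exact (hu 1).trans (isConj_S hh)
        · exact (hu ν).trans (isConj_S hh)
      · obtain ⟨d, hd⟩ := exists_conj_uT hh
        exact (hclass h (by
          obtain ⟨c, rfl⟩ := isConj_iff.1 hd
          exact (orderOf_injective (MulAut.conj c).toMonoidHom (MulAut.conj c).injective _).trans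
            (orderOf_uT d)))
    rcases hclass g hg with h | h <;> rw [key _ _ h] <;> omega
  · intro g h g00 g11 g10 g01 h00 h11 h10 h01
    have hg : g = uT (Multiplicative.ofAdd ((Units.mk0 _ g01 : Fˣ) : F)) := Subtype.ext (by
      rw [uT_val]; ext i j
      fin_cases i <;> fin_cases j <;> simp [g00, g11, g10])
    have hh : h = uT (Multiplicative.ofAdd ((Units.mk0 _ h01 : Fˣ) : F)) := Subtype.ext (by
      rw [uT_val]; ext i j
      fin_cases i <;> fin_cases j <;> simp [h00, h11, h10])
    conv_lhs => rw [hg, hh]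
    exact isConj_uT

end Cfsg.Agent.S2301
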