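import Cfsg.Statements.S2302
import Cfsg.Agent.Lib.Block.SL2Char.SLUnipotent
-- import your own Cfsg.Agent.* helpers here

set_option autoImplicit false
open Cfsg

namespace Cfsg.Agent.S2302

open Cfsg.Agent.Block.SL2Char

/-- Over a finite field with q elements of characteristic 2, the involutions of SL₂ (the non-identity unipotent elements) form a single conjugacy class, of size q² − 1. -/
theorem result {F : Type*} [Field F] [Fintype F] [CharP F 2] (g h : Matrix.SpecialLinearGroup (Fin 2) F) (hg : orderOf g = 2) (hh : orderOf h = 2) :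
    IsConj g h ∧ Nat.card (ConjClasses.mk g).carrier = Fintype.card F ^ 2 - 1 := by
  classical
  haveI : Fact (Nat.Prime 2) := ⟨Nat.prime_two⟩
  have hg' := conj_un_of_orderOf hg
  have hh' := conj_un_of_orderOf hh
  have hfd : FullDet (Matrix.SpecialLinearGroup.toGL g) := by
    obtain ⟨c, hc⟩ := isConj_iff.1 hg'
    exact hc ▸ fullDet_conj fullDet_un_even c
  have hiff : ∀ x, IsConj g x ↔ IsConj (un 1 : GL (Fin 2) F) (Matrix.SpecialLinearGroup.toGL x) :=
    fun x => ⟨fun h => hg'.trans (isConj_S h),
      fun h => conj_S_of_fullDet hfd (hg'.symm.trans h)⟩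
  refine ⟨(hiff h).2 hh', ?_⟩
  rw [card_carrier_eq, ← card_GLclass_un (F := F)]
  exact Nat.card_congr (Equiv.subtypeEquivRight hiff)

end Cfsg.Agent.S2302
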