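import Cfsg.Statements.S2303
import Cfsg.Agent.Lib.Block.SL2Char.GLFacts

set_option autoImplicit false
open Cfsg

namespace Cfsg.Agent.S2303

open Cfsg.Agent.Block.SL2Char

/-- Over a finite field with q elements: a diagonal element of GL₂ with two distinct diagonal entries has centralizer of order (q − 1)² (so q(q + 1) conjugates), and an element of GL₂ with no eigenvector in F² has centralizer of order q² − 1 (so q(q − 1) conjugates). -/
theorem result {F : Type*} [Field F] [Fintype F] (g : Matrix.GeneralLinearGroup (Fin 2) F) :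
    ((g : Matrix (Fin 2) (Fin 2) F) 0 1 = 0 → (g : Matrix (Fin 2) (Fin 2) F) 1 0 = 0 → (g : Matrix (Fin 2) (Fin 2) F) 0 0 ≠ (g : Matrix (Fin 2) (Fin 2) F) 1 1 →
      Nat.card (Subgroup.centralizer ({g} : Set (Matrix.GeneralLinearGroup (Fin 2) F))) = (Fintype.card F - 1) ^ 2) ∧
    ((∀ (c : F) (v : Fin 2 → F), v ≠ 0 → (g : Matrix (Fin 2) (Fin 2) F).mulVec v ≠ c • v) →
      Nat.card (Subgroup.centralizer ({g} : Set (Matrix.GeneralLinearGroup (Fin 2) F))) = Fintype.card F ^ 2 - 1) := by
  classical
  refine ⟨fun h01 h10 hne => ?_, fun h => ?_⟩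
  · obtain ⟨x, y, hxy, rfl⟩ := eq_di_of_diag h01 h10 hne
    exact card_centralizer_di hxy
  · obtain ⟨K, _, _, _, _, hK⟩ := exists_model F
    obtain ⟨l, hl, hc⟩ := ell_of_noeig h K hK
    obtain ⟨c, hc⟩ := isConj_iff.1 hc
    rw [← card_centralizer_ell K hK hl, ← hc]
    refine Nat.card_congr ((MulAut.conj c⁻¹).toEquiv.subtypeEquiv fun z => ?_)
    simp only [Subgroup.mem_centralizer_singleton_iff, MulEquiv.toEquiv_eq_coe, EquivLike.coe_coe,
      MulAut.conj_apply, inv_inv]
    constructor <;> intro e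
    · have := congrArg (fun t => c⁻¹ * t * c) e
      simpa [mul_assoc] using this
    · have := congrArg (fun t => c * t * c⁻¹) e
      simpa [mul_assoc] using this

end Cfsg.Agent.S2303
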