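import Cfsg.Statements.S2305
import Cfsg.Agent.Lib.Block.SL2Char.GLFacts

set_option autoImplicit false
open Cfsg

namespace Cfsg.Agent.S2305
open Cfsg.Agent.Block.SL2Char

universe u

theorem eq_of_sum_prod {M : Type*} [Group M] {f g f' g' : M →* ℂˣ}
    (hs : ∀ x, (f x : ℂ) + g x = f' x + g' x) (hp : ∀ x, (f x : ℂ) * g x = f' x * g' x) :
    (f = f' ∧ g = g') ∨ (f = g' ∧ g = f') := by
  have hpt : ∀ x, f x = f' x ∨ f x = g' x := by
    intro x
    have : ((f x : ℂ) - f' x) * ((f x : ℂ) - g' x) = 0 := by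
      linear_combination (f x : ℂ) * hs x - hp x
    exact (mul_eq_zero.1 this).imp (fun h => Units.ext (sub_eq_zero.1 h))
      (fun h => Units.ext (sub_eq_zero.1 h))
  have key : f = f' ∨ f = g' := by
    by_contra hcon
    push Not at hcon
    obtain ⟨a, ha⟩ := not_forall.1 fun h => hcon.1 (MonoidHom.ext h)
    obtain ⟨b, hb⟩ := not_forall.1 fun h => hcon.2 (MonoidHom.ext h)
    have ha' := (hpt a).resolve_left ha
    have hb' := (hpt b).resolve_right hb
    rcases hpt (a * b) with h | h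
    · simp only [map_mul, ← hb'] at h
      exact ha (mul_right_cancel h)
    · simp only [map_mul, ← ha'] at h
      exact hb (mul_left_cancel h)
  rcases key with rfl | rfl
  · refine Or.inl ⟨rfl, MonoidHom.ext fun x => Units.ext ?_⟩
    linear_combination hs x
  · refine Or.inr ⟨rfl, MonoidHom.ext fun x => Units.ext ?_⟩
    linear_combination hs x

variable {F : Type u} [Field F] [Fintype F] [DecidableEq F]

theorem vI_swap (α β : Fˣ →* ℂˣ) : vI α β = vI (F := F) β α := by
  obtain ⟨K, _, _, _, _, hK⟩ := exists_model F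
  funext g
  have key : ∀ r : GL (Fin 2) F, IsConj r g → vI α β r = vI β α r → vI α β g = vI β α g := by
    intro r hr e
    obtain ⟨c, rfl⟩ := isConj_iff.1 hr
    rw [Cfsg.Agent.Char.IsChar.classFun (isChar_vI α β), Cfsg.Agent.Char.IsChar.classFun (isChar_vI β α), e]
  rcases cases K hK g with ⟨z, rfl⟩ | ⟨z, hz⟩ | ⟨x, y, hxy, hz⟩ | ⟨l, hl, hz⟩
  · rw [vI_sc, vI_sc]; ring
  · exact key _ hz (by rw [vI_un, vI_un]; ring)
  · exact key _ hz (by rw [vI_di α β hxy, vI_di β α hxy]; ring)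
  · exact key _ hz (by rw [vI_ell K hK α β hl, vI_ell K hK β α hl])

theorem vI_eq_iff (α β α' β' : Fˣ →* ℂˣ) :
    vI α β = vI (F := F) α' β' ↔ (α = α' ∧ β = β') ∨ (α = β' ∧ β = α') := by
  refine ⟨fun h => eq_of_sum_prod (fun x => ?_) (fun x => ?_), ?_⟩
  · by_cases hx : x = 1
    · subst hx; simp
    · have := congrFun h (di x 1)
      rw [vI_di α β hx, vI_di α' β' hx] at this
      simpa [cv] using this
  · have := congrFun h (un x)
    rw [vI_un, vI_un] at this
    simpa [cv] using this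
  · rintro (⟨rfl, rfl⟩ | ⟨rfl, rfl⟩)
    · rfl
    · exact vI_swap _ _

/-- Over a finite field F, for multiplicative characters α, β, α′, β′ of F, the characters of GL₂ induced from the linear characters b ↦ α(b₁₁) β(b₂₂) and b ↦ α′(b₁₁) β′(b₂₂) of the upper triangular subgroup coincide exactly when {α, β} = {α′, β′} as unordered pairs. -/
theorem result {F : Type*} [Field F] [Fintype F] [DecidableEq F] (α β α' β' : MulChar F ℂ) :
    Cfsg.indFun (Cfsg.upperTriangularGL 2 F) (fun b => α (((b : Matrix.GeneralLinearGroup (Fin 2) F) : Matrix (Fin 2) (Fin 2) F) 0 0) * β (((b : Matrix.GeneralLinearGroup (Fin 2) F) : Matrix (Fin 2) (Fin 2) F) 1 1)) = Cfsg.indFun (Cfsg.upperTriangularGL 2 F) (fun b => α' (((b : Matrix.GeneralLinearGroup (Fin 2) F) : Matrix (Fin 2) (Fin 2) F) 0 0) * β' (((b : Matrix.GeneralLinearGroup (Fin 2) F) : Matrix (Fin 2) (Fin 2) F) 1 1)) ↔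
      (α = α' ∧ β = β') ∨ (α = β' ∧ β = α') := by
  classical
  have hI : ∀ a b : MulChar F ℂ, Cfsg.indFun (Cfsg.upperTriangularGL 2 F) (fun c => a (((c : Matrix.GeneralLinearGroup (Fin 2) F) : Matrix (Fin 2) (Fin 2) F) 0 0) * b (((c : Matrix.GeneralLinearGroup (Fin 2) F) : Matrix (Fin 2) (Fin 2) F) 1 1)) = vI a.toUnitHom b.toUnitHom := by
    intro a b
    rw [vI]
    congr 1
  have hinj : ∀ a b : MulChar F ℂ, a.toUnitHom = b.toUnitHom ↔ a = b :=
    fun a b => ⟨fun e => MulChar.ext fun u => by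
      rw [← MulChar.coe_toUnitHom a u, ← MulChar.coe_toUnitHom b u, e], fun e => e ▸ rfl⟩
  rw [hI, hI, vI_eq_iff, hinj, hinj, hinj, hinj]

end Cfsg.Agent.S2305
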