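import Cfsg.Statements.S2306
import Cfsg.Agent.Lib.Block.SL2Char.SLFacts
-- import your own Cfsg.Agent.* helpers here

set_option autoImplicit false
open Cfsg

namespace Cfsg.Agent.S2306

open Cfsg.Agent.Block.SL2Char

/-- Over a finite field F, for a multiplicative character α of F, the function induced to SL₂ from the linear character b ↦ α(b₁₁) of the upper triangular subgroup is an irreducible character if and only if α² ≠ 1. -/
theorem result {F : Type*} [Field F] [Fintype F] [DecidableEq F] (α : MulChar F ℂ) :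
    Cfsg.IsIrrCharacter (Matrix.SpecialLinearGroup (Fin 2) F) (Cfsg.indFun ((Cfsg.upperTriangularGL 2 F).comap Matrix.SpecialLinearGroup.toGL) (fun b => α (((b : Matrix.SpecialLinearGroup (Fin 2) F) : Matrix (Fin 2) (Fin 2) F) 0 0))) ↔ α ^ 2 ≠ 1 := by
  classical
  obtain ⟨K, _, _, _, _, hK⟩ := exists_model F
  rw [indFun_S]
  have hiff : α.toUnitHom * α.toUnitHom = 1 ↔ α ^ 2 = 1 := by
    rw [MulChar.ext_iff, MonoidHom.ext_iff]
    refine forall_congr' fun x => ?_
    rw [Units.ext_iff, sq, MulChar.mul_apply, MulChar.one_apply_coe, MonoidHom.mul_apply,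
      Units.val_mul, MonoidHom.one_apply, Units.val_one, MulChar.coe_toUnitHom]
  refine ⟨fun h e => ?_, fun h => isIrr_vIS K hK (fun e => h (hiff.1 e))⟩
  have h1 := Cfsg.Agent.Char.classInner_self_irr h
  rw [norm_vIS K hK, if_pos (hiff.2 e)] at h1
  norm_num at h1

end Cfsg.Agent.S2306
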