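import Cfsg.Statements.S2307
import Cfsg.Agent.Lib.Block.SL2Char.SLFacts
-- import your own Cfsg.Agent.* helpers here

set_option autoImplicit false
open Cfsg

namespace Cfsg.Agent.S2307

open Cfsg.Agent.Block.SL2Char

/-- Over a finite field F with q elements, q odd, let α be the multiplicative character of F of order 2. The character of SL₂ induced from the linear character b ↦ α(b₁₁) of the upper triangular subgroup is the sum of two distinct irreducible characters, each of degree (q + 1)/2, which are conjugate under GL₂: some fixed element of GL₂ conjugates the one into the other. -/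
theorem result {F : Type*} [Field F] [Fintype F] [DecidableEq F] (hodd : Odd (Fintype.card F)) (α : MulChar F ℂ)
    (hα : α ^ 2 = 1) (hα1 : α ≠ 1) :
    ∃ χ₁ χ₂ : Matrix.SpecialLinearGroup (Fin 2) F → ℂ, Cfsg.IsIrrCharacter (Matrix.SpecialLinearGroup (Fin 2) F) χ₁ ∧ Cfsg.IsIrrCharacter (Matrix.SpecialLinearGroup (Fin 2) F) χ₂ ∧ χ₁ ≠ χ₂ ∧
      Cfsg.indFun ((Cfsg.upperTriangularGL 2 F).comap Matrix.SpecialLinearGroup.toGL) (fun b => α (((b : Matrix.SpecialLinearGroup (Fin 2) F) : Matrix (Fin 2) (Fin 2) F) 0 0)) = χ₁ + χ₂ ∧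
      χ₁ 1 = (((Fintype.card F + 1) / 2 : ℕ) : ℂ) ∧ χ₂ 1 = (((Fintype.card F + 1) / 2 : ℕ) : ℂ) ∧
      ∃ x : Matrix.GeneralLinearGroup (Fin 2) F, ∀ g h : Matrix.SpecialLinearGroup (Fin 2) F,
        Matrix.SpecialLinearGroup.toGL h = x * Matrix.SpecialLinearGroup.toGL g * x⁻¹ → χ₂ h = χ₁ g := by
  classical
  obtain ⟨K, _, _, _, _, hK⟩ := exists_model F
  obtain ⟨β, a, b, x, h1, h2, huniq, ha, hb, hab, he, hc⟩ := exists_pairI K hK hodd
  have hβ : α.toUnitHom = β := huniq _ (MonoidHom.ext fun u => Units.ext (by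
      rw [MonoidHom.mul_apply, Units.val_mul, MulChar.coe_toUnitHom, ← MulChar.mul_apply, ← sq, hα,
        MulChar.one_apply_coe, MonoidHom.one_apply, Units.val_one]))
    (fun e => hα1 (MulChar.ext fun u => by
      rw [← MulChar.coe_toUnitHom, e, MulChar.one_apply_coe]; simp))
  refine ⟨a, b, (halfI_facts K hK ha).1, (halfI_facts K hK hb).1, hab, ?_,
    ((halfI_facts K hK ha).2.2).trans (half_plus hodd).symm,
    ((halfI_facts K hK hb).2.2).trans (half_plus hodd).symm, x, fun g h hgh => ?_⟩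
  · rw [indFun_S, hβ, he]
  · rw [eq_cjS hgh, hc]

end Cfsg.Agent.S2307
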