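import Cfsg.Statements.S2308
import Cfsg.Agent.Lib.Block.SL2Char.GLFacts
import Cfsg.Agent.Lib.Char.Contrib

set_option autoImplicit false
open Cfsg

namespace Cfsg.Agent.S2308

open Cfsg.Agent.Block.SL2Char

/-- Values of the permutation character of GL₂ over a finite field F with q elements on the cosets of its upper triangular subgroup (equivalently, the number of lines of F² that an element maps to themselves): q + 1 at a scalar matrix, 2 at a diagonal matrix with two different diagonal entries, 0 at an element with no eigenvector in F², and 1 at an upper triangular matrix with equal diagonal entries and non-zero upper right entry. -/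
theorem result {F : Type*} [Field F] [Fintype F] (g : Matrix.GeneralLinearGroup (Fin 2) F) :
    ((∃ a : F, (g : Matrix (Fin 2) (Fin 2) F) = a • (1 : Matrix (Fin 2) (Fin 2) F)) → Cfsg.fixedPointCharacter (Cfsg.upperTriangularGL 2 F) g = Fintype.card F + 1) ∧
    ((g : Matrix (Fin 2) (Fin 2) F) 0 1 = 0 → (g : Matrix (Fin 2) (Fin 2) F) 1 0 = 0 → (g : Matrix (Fin 2) (Fin 2) F) 0 0 ≠ (g : Matrix (Fin 2) (Fin 2) F) 1 1 →
      Cfsg.fixedPointCharacter (Cfsg.upperTriangularGL 2 F) g = 2) ∧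
    ((∀ (c : F) (v : Fin 2 → F), v ≠ 0 → (g : Matrix (Fin 2) (Fin 2) F).mulVec v ≠ c • v) → Cfsg.fixedPointCharacter (Cfsg.upperTriangularGL 2 F) g = 0) ∧
    ((g : Matrix (Fin 2) (Fin 2) F) 1 0 = 0 → (g : Matrix (Fin 2) (Fin 2) F) 0 0 = (g : Matrix (Fin 2) (Fin 2) F) 1 1 → (g : Matrix (Fin 2) (Fin 2) F) 0 1 ≠ 0 →
      Cfsg.fixedPointCharacter (Cfsg.upperTriangularGL 2 F) g = 1) := by
  classical
  obtain ⟨K, _, _, _, _, hK⟩ := exists_model F
  have hfix : ∀ r, IsConj r g → Cfsg.fixedPointCharacter (Cfsg.upperTriangularGL 2 F) g =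
      vI (F := F) 1 1 r := by
    intro r hr
    have e : (fun b : Cfsg.upperTriangularGL 2 F => (bHom (F := F) 1 1 b : ℂ)) = fun _ => 1 := by
      funext b; simp [bHom]
    have e2 : vI (F := F) 1 1 g = vI (F := F) 1 1 r := by
      obtain ⟨c, rfl⟩ := isConj_iff.1 hr
      exact Cfsg.Agent.Char.IsChar.classFun (isChar_vI (1 : Fˣ →* ℂˣ) 1) r c
    rw [← e2, vI, e, Cfsg.Agent.Char.Contrib.indFun_one_apply]
    rfl
  refine ⟨fun ⟨a, ha⟩ => ?_, fun h01 h10 hne => ?_, fun h => ?_, fun h10 he h01 => ?_⟩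
  · obtain ⟨z, rfl⟩ := eq_sc_of_isSc (g := g) (by simp [IsSc, ha])
    rw [hfix _ (IsConj.refl _), vI_sc]; simp [cv]
  · obtain ⟨x, y, hxy, rfl⟩ := eq_di_of_diag h01 h10 hne
    rw [hfix _ (IsConj.refl _), vI_di _ _ hxy]; simp [cv]; norm_num
  · obtain ⟨l, hl, hc⟩ := ell_of_noeig h K hK
    rw [hfix _ hc, vI_ell K hK _ _ hl]
  · have h0 := (diag_ne_zero (mem_BB.2 h10)).1
    have hs : ¬ IsSc g := fun hs => h01 hs.1
    have hc : IsConj (un (Units.mk0 _ h0)) g := (isConj_iff_tr_dt (not_isSc_un _) hs).2 ⟨by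
      rw [tr_un, tr, Units.val_mk0, ← he], by rw [dt_un, dt, Units.val_mk0, ← he, h10]; simp⟩
    rw [hfix _ hc, vI_un]; simp [cv]

end Cfsg.Agent.S2308
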