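import Mathlib
import Cfsg.Statements.S2309
import Cfsg.Agent.Lib.Block.SL2Char.GLFacts
-- import your own Cfsg.Agent.* helpers here

set_option autoImplicit false
open Cfsg

namespace Cfsg.Agent.S2309

open Cfsg.Agent.Block.SL2Char

/-- Over a finite field F with q elements: every irreducible complex character of GL₂ of degree q − 1 vanishes at every diagonal matrix with two distinct entries, and every irreducible complex character of degree q + 1 vanishes at every element with no eigenvector in F². -/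
theorem result {F : Type*} [Field F] [Fintype F] (χ : Matrix.GeneralLinearGroup (Fin 2) F → ℂ) (hχ : Cfsg.IsIrrCharacter (Matrix.GeneralLinearGroup (Fin 2) F) χ) (g : Matrix.GeneralLinearGroup (Fin 2) F) :
    (χ 1 = (Fintype.card F : ℂ) - 1 → (g : Matrix (Fin 2) (Fin 2) F) 0 1 = 0 → (g : Matrix (Fin 2) (Fin 2) F) 1 0 = 0 → (g : Matrix (Fin 2) (Fin 2) F) 0 0 ≠ (g : Matrix (Fin 2) (Fin 2) F) 1 1 → χ g = 0) ∧
    (χ 1 = (Fintype.card F : ℂ) + 1 → (∀ (c : F) (v : Fin 2 → F), v ≠ 0 → (g : Matrix (Fin 2) (Fin 2) F).mulVec v ≠ c • v) → χ g = 0) := by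
  classical
  obtain ⟨K, _, _, _, _, hK⟩ := exists_model F
  refine ⟨fun hd h01 h10 hne => ?_, fun hd hn => ?_⟩
  · obtain ⟨x, y, hxy, rfl⟩ := eq_di_of_diag h01 h10 hne
    rcases irr_cases K hK hχ with ⟨-, h1, -⟩ | ⟨-, h1, -⟩ | ⟨-, h1, -⟩ | ⟨hl, -, -⟩
    · exfalso
      rw [h1] at hd
      have h2 : (Fintype.card F : ℂ) = ((2 : ℕ) : ℂ) := by push_cast; linear_combination -hd
      haveI : Subsingleton Fˣ := by
        refine Fintype.card_le_one_iff_subsingleton.1 ?_
        rw [Fintype.card_units, Nat.cast_injective h2]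
      exact hxy (Subsingleton.elim _ _)
    · rw [h1] at hd
      exact absurd (show (1 : ℂ) = 0 by linear_combination hd) one_ne_zero
    · rw [h1] at hd
      exact absurd (show (2 : ℂ) = 0 by linear_combination hd) two_ne_zero
    · obtain ⟨θ, -, rfl⟩ := (mem_listD K hK).1 hl
      exact vD_di K hK θ hxy
  · obtain ⟨l, hl, hc⟩ := ell_of_noeig hn K hK
    rw [apply_eq_of_conj hχ hc]
    rcases irr_cases K hK hχ with ⟨-, h1, -⟩ | ⟨-, h1, -⟩ | ⟨hm, -, -⟩ | ⟨-, h1, -⟩
    · rw [h1] at hd
      exact absurd (show (Fintype.card F : ℂ) = 0 by linear_combination -hd)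
        (Nat.cast_ne_zero.2 Fintype.card_ne_zero)
    · rw [h1] at hd
      exact absurd (show (1 : ℂ) = 0 by linear_combination -hd) one_ne_zero
    · obtain ⟨α, β, -, rfl⟩ := mem_listI.1 hm
      exact vI_ell K hK α β hl
    · rw [h1] at hd
      exact absurd (show (2 : ℂ) = 0 by linear_combination -hd) two_ne_zero

end Cfsg.Agent.S2309
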