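import Cfsg.Statements.S2316
import Cfsg.Agent.Lib.Char.SympUnipotentCount
import Cfsg.Agent.Lib.Classical.Symp

set_option autoImplicit false
open Cfsg

namespace Cfsg.Agent.S2316
open Matrix Cfsg.Agent Cfsg.Agent.Char.SpUni

theorem unipotent_iff {F : Type*} [Field F] {p : ℕ} [hp : Fact p.Prime] [CharP F p] {m : ℕ}
    (g : Matrix.symplecticGroup (Fin m) F) :
    (∃ k : ℕ, orderOf g = p ^ k) ↔
      IsNilpotent ((g : Matrix (Fin m ⊕ Fin m) (Fin m ⊕ Fin m) F) - 1) := by
  rcases m.eq_zero_or_pos with rfl | hm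
  · exact ⟨fun _ => ⟨1, Subsingleton.elim _ _⟩,
      fun _ => ⟨0, by rw [pow_zero, orderOf_eq_one_iff]; exact Subtype.ext (Subsingleton.elim _ _)⟩⟩
  haveI : Nonempty (Fin m ⊕ Fin m) := ⟨Sum.inl ⟨0, hm⟩⟩
  have key : ∀ k : ℕ, ((g : Matrix (Fin m ⊕ Fin m) (Fin m ⊕ Fin m) F) - 1) ^ p ^ k = 0 ↔
      g ^ p ^ k = 1 := fun k => by
    rw [sub_pow_char_pow_of_commute (p := p) (n := k) (Commute.one_right _), one_pow, sub_eq_zero,
      Subtype.ext_iff, SubmonoidClass.coe_pow, OneMemClass.coe_one]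
  constructor
  · rintro ⟨k, hk⟩
    exact ⟨p ^ k, (key k).2 (hk ▸ pow_orderOf_eq_one g)⟩
  · rintro ⟨j, hj⟩
    have h := (key j).1 (pow_eq_zero_of_le (Nat.lt_pow_self hp.out.one_lt).le hj)
    obtain ⟨i, -, hi⟩ := (Nat.dvd_prime_pow hp.out).1 (orderOf_dvd_of_pow_eq_one h)
    exact ⟨i, hi⟩


/-- Steinberg's count of unipotent elements for the symplectic group: over a finite field with q elements of characteristic p, the number of elements of Sp_{2m} of p-power order is q^(2m²). -/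
theorem result {F : Type*} [Field F] [Fintype F] (p : ℕ) [Fact p.Prime] [CharP F p] (m : ℕ) :
    Nat.card {g : ↥(Matrix.symplecticGroup (Fin m) F) // ∃ k : ℕ, orderOf g = p ^ k} = Fintype.card F ^ (2 * m ^ 2) := by
  classical
  let B := Cfsg.Agent.Classical.sympB m F
  have hB : Good B := ⟨fun x => (Classical.sympB_apply x x).trans (Classical.sympForm_self x),
    fun x hx => Classical.eq_zero_of_sympForm_eq_zero fun v => (Classical.sympB_apply x v).symm.trans (hx v)⟩
  have hdim : Module.finrank F (Fin m ⊕ Fin m → F) = 2 * m := by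
    rw [Module.finrank_fintype_fun_eq_card, Fintype.card_sum, Fintype.card_fin, two_mul]
  have hbot : Iso B (⊥ : Submodule F (Fin m ⊕ Fin m → F)) := fun x hx y _ => by
    rw [(Submodule.mem_bot F).1 hx]; simp
  have h := card_uni m hB hdim ⊥ hbot
  rw [finrank_bot, ex, Nat.zero_mul, Nat.zero_div, Nat.zero_add, Nat.sub_zero,
    mul_assoc, ← sq] at h
  rw [← h]
  let T := (Matrix.toLinAlgEquiv' : Matrix (Fin m ⊕ Fin m) (Fin m ⊕ Fin m) F ≃ₐ[F] _)
  have hT : ∀ (A : Matrix (Fin m ⊕ Fin m) (Fin m ⊕ Fin m) F) v, T A v = A *ᵥ v :=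
    fun A v => Matrix.toLinAlgEquiv'_apply A v
  have hnil : ∀ g : Matrix.symplecticGroup (Fin m) F, (∃ k : ℕ, orderOf g = p ^ k) ↔
      IsNilpotent (T (g : Matrix (Fin m ⊕ Fin m) (Fin m ⊕ Fin m) F) - 1) := fun g => by
    rw [← map_one T, ← map_sub, IsNilpotent.map_iff T.injective]
    exact unipotent_iff g
  refine Nat.card_congr
    { toFun := fun g => ⟨T g.1.1, fun u v => ?_, (hnil g.1).1 g.2, fun w hw => ?_⟩
      invFun := fun f => ⟨⟨T.symm f.1, ?_⟩, (hnil _).2 ?_⟩
      left_inv := fun g => Subtype.ext (Subtype.ext (T.symm_apply_apply _))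
      right_inv := fun f => Subtype.ext (T.apply_symm_apply _) }
  · rw [hT, hT, Classical.sympB_apply, Classical.sympB_apply]
    exact Classical.sympForm_map g.1 u v
  · rw [(Submodule.mem_bot F).1 hw, map_zero]
  · refine Classical.mem_symplecticGroup_iff_form.2 fun u v => ?_
    rw [← hT, ← hT, T.apply_symm_apply, ← Classical.sympB_apply, ← Classical.sympB_apply]
    exact f.2.1 u v
  · rw [T.apply_symm_apply]
    exact f.2.2.1

end Cfsg.Agent.S2316
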