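import Cfsg.Statements.S2317
import Cfsg.Agent.Lib.Classical.GLUnipotentTypes

set_option autoImplicit false
open Cfsg

namespace Cfsg.Agent.S2317
open Matrix Cfsg.Agent.GLUnipotentTypes

theorem unipotent_iff {F : Type*} [Field F] {p : ℕ} [Fact p.Prime] [CharP F p] {n : ℕ}
    (g : GL (Fin n) F) :
    (∃ k : ℕ, orderOf g = p ^ k) ↔ IsNilpotent ((g : Matrix (Fin n) (Fin n) F) - 1) := by
  rcases n.eq_zero_or_pos with rfl | hn
  · exact ⟨fun _ => ⟨1, Subsingleton.elim _ _⟩,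
      fun _ => ⟨0, by rw [pow_zero, orderOf_eq_one_iff]; exact Units.ext (Subsingleton.elim _ _)⟩⟩
  haveI : Nonempty (Fin n) := ⟨⟨0, hn⟩⟩
  have key : ∀ k : ℕ, ((g : Matrix (Fin n) (Fin n) F) - 1) ^ p ^ k = 0 ↔ g ^ p ^ k = 1 := fun k => by
    rw [sub_pow_char_pow_of_commute (p := p) (n := k) (Commute.one_right _), one_pow, sub_eq_zero,
      Units.ext_iff, Units.val_pow_eq_pow_val, Units.val_one]
  constructor
  · rintro ⟨k, hk⟩
    exact ⟨p ^ k, (key k).2 (hk ▸ pow_orderOf_eq_one g)⟩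
  · rintro ⟨m, hm⟩
    have h := (key m).1 (pow_eq_zero_of_le (Nat.lt_pow_self (Fact.out : p.Prime).one_lt).le hm)
    obtain ⟨i, -, hi⟩ := (Nat.dvd_prime_pow Fact.out).1 (orderOf_dvd_of_pow_eq_one h)
    exact ⟨i, hi⟩


/-- Over a finite field of characteristic p, the conjugacy classes of GL_n consisting of elements of p-power order (the unipotent classes) are as many as the partitions of n. -/
theorem result {F : Type*} [Field F] [Fintype F] (p : ℕ) [Fact p.Prime] [CharP F p] (n : ℕ) :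
    Nat.card {C : ConjClasses (Matrix.GeneralLinearGroup (Fin n) F) //
      ∃ g : Matrix.GeneralLinearGroup (Fin n) F, (∃ k : ℕ, orderOf g = p ^ k) ∧ ConjClasses.mk g = C} =
      Fintype.card (Nat.Partition n) := by
  classical
  rw [← Nat.card_eq_fintype_card]
  have hnil : ∀ {g : GL (Fin n) F}, (∃ k : ℕ, orderOf g = p ^ k) →
      IsNilpotent ((g : Matrix (Fin n) (Fin n) F) - 1) := fun h => (unipotent_iff (p := p) _).1 h
  let T : {C : ConjClasses (GL (Fin n) F) //
      ∃ g : GL (Fin n) F, (∃ k : ℕ, orderOf g = p ^ k) ∧ ConjClasses.mk g = C} → Nat.Partition n :=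
    fun C => ⟨mparts ((C.2.choose : Matrix (Fin n) (Fin n) F) - 1),
      fun h => pos_of_mem (hnil C.2.choose_spec.1) h,
      by rw [sum_mparts (hnil C.2.choose_spec.1), Fintype.card_fin]⟩
  refine Nat.card_eq_of_bijective T ⟨?_, ?_⟩
  · intro C C' h
    have h' : mparts _ = mparts _ := congrArg (fun x => x.parts) h
    obtain ⟨P, hP⟩ := exists_similar (hnil C.2.choose_spec.1) (hnil C'.2.choose_spec.1) h'
    rw [mul_sub, sub_mul, mul_one, one_mul, sub_left_inj, ← Units.val_mul, ← Units.val_mul, ← Units.ext_iff] at hP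
    refine Subtype.ext (C.2.choose_spec.2.symm.trans (Eq.trans ?_ C'.2.choose_spec.2))
    exact ConjClasses.mk_eq_mk_iff_isConj.2 (isConj_iff.2 ⟨P, mul_inv_eq_iff_eq_mul.2 hP⟩)
  · intro μ
    obtain ⟨M, hM, hp⟩ := exists_mparts (F := F) (ι := Fin n) μ.parts (fun a h => μ.parts_pos h)
      (by rw [μ.parts_sum, Fintype.card_fin])
    obtain ⟨g, hg⟩ : IsUnit (1 + M) := hM.isUnit_one_add
    have hgM : (g : Matrix (Fin n) (Fin n) F) - 1 = M := by rw [hg, add_sub_cancel_left]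
    let C : {C : ConjClasses (GL (Fin n) F) //
        ∃ g : GL (Fin n) F, (∃ k : ℕ, orderOf g = p ^ k) ∧ ConjClasses.mk g = C} :=
      ⟨ConjClasses.mk g, g, (unipotent_iff g).2 (hgM.symm ▸ hM), rfl⟩
    refine ⟨C, Nat.Partition.ext ?_⟩
    show mparts _ = μ.parts
    obtain ⟨c, hc⟩ := isConj_iff.1 (ConjClasses.mk_eq_mk_iff_isConj.1 C.2.choose_spec.2.symm)
    rw [← hp, ← hgM]
    refine mparts_eq_of_similar (hgM.symm ▸ hM) c ?_
    rw [mul_sub, sub_mul, mul_one, one_mul, sub_left_inj, ← Units.val_mul, ← Units.val_mul, ← Units.ext_iff]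
    exact mul_inv_eq_iff_eq_mul.1 hc

end Cfsg.Agent.S2317
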