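import Cfsg.Statements.S2318
import Cfsg.Agent.Lib.Char.SteinbergBlocks
import Cfsg.Agent.Lib.Char.SteinbergChev
import Cfsg.Agent.Lib.Char.ModP
import Cfsg.Agent.Lib.Block.Elementary2
-- import your own Cfsg.Agent.* helpers here

set_option autoImplicit false
open Cfsg

namespace Cfsg.Agent.S2318

open Cfsg.Agent.Block in
theorem blockDefect_eq_zero {G : Type*} [Group G] [Finite G] {p : ℕ} [Fact p.Prime]
    {M : Ideal Cfsg.AlgInt} (hM : Cfsg.IsPModular p M) {χ : Cfsg.IrrCharacter G}
    (hfull : (Cfsg.charDegree (χ : G → ℂ)).factorization p = (Nat.card G).factorization p) :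
    Cfsg.blockDefect p (Cfsg.blockOf M (χ : G → ℂ)) = 0 := by
  classical
  cases nonempty_fintype G
  cases nonempty_fintype (ConjClasses G)
  refine (blockDefect_zero_iff_full hM (isPBlock_blockOf χ)).2 fun ψ hψ => ?_
  by_contra hne
  have h1 := pTors_omega_ideal hM ψ hne
  have hring : ∀ C : ConjClasses G, MemLocalRing M (pTorsInd p C.out) := fun C => by
    simp only [pTorsInd]
    split_ifs
    exacts [ring_one hM, ring_zero hM]
  have h2 : MemLocalIdeal M (omegaFun χ (pTorsInd p) - omegaFun ψ (pTorsInd p)) := by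
    rw [omegaFun_eq_sum_classes χ pTorsInd_classFun, omegaFun_eq_sum_classes ψ pTorsInd_classFun,
      ← Finset.sum_sub_distrib]
    refine ideal_sum hM fun C _ => ?_
    rw [← mul_sub]
    exact ideal_mul_left hM (hring C) (hψ C.out)
  rw [pTors_omega_one hM χ hfull] at h2
  exact ideal_one hM (by simpa using ideal_add hM h2 h1)

/-- In a Chevalley group of type G₂, B₂, D₄, F₄, E₆, E₇ or E₈ over a finite field of characteristic p (for types G₂ and B₂ the field is assumed to have at least 3 elements, so that the group is perfect), the Steinberg character is the only irreducible complex character whose degree is divisible by the full power of p dividing the group order (the only irreducible character of p-defect zero). -/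
theorem result {F : Type*} [Field F] [Fintype F] (p : ℕ) [Fact p.Prime] [CharP F p] (D : Cfsg.Lie.ChevalleyDatum) (hD : D ∈ [Cfsg.Lie.chevG2, Cfsg.Lie.chevB2, Cfsg.Lie.chevD4, Cfsg.Lie.chevF4, Cfsg.Lie.chevE6, Cfsg.Lie.chevE7, Cfsg.Lie.chevE8]) (hq : (D = Cfsg.Lie.chevG2 ∨ D = Cfsg.Lie.chevB2) → 3 ≤ Fintype.card F)
    (χ : ↥(D.group F) → ℂ) (hχ : Cfsg.IsIrrCharacter ↥(D.group F) χ)
    (hdeg : ∃ d : ℕ, χ 1 = (d : ℂ) ∧ p ^ (Nat.card ↥(D.group F)).factorization p ∣ d) :
    χ = D.steinbergCharacter F := by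
  classical
  obtain ⟨c, hc⟩ := Cfsg.Agent.Char.StBlocks.step_all hD
  obtain ⟨M, hM⟩ := Cfsg.Agent.Char.exists_isPModular p (Fact.out : p.Prime)
  have h2 := Cfsg.Agent.Char.StBlocks.card_blocks_of_step (p := p) (F := F) c hc hM
  set St : Cfsg.IrrCharacter ↥(D.group F) :=
    ⟨D.steinbergCharacter F, Cfsg.Agent.Char.StChev.steinberg_isIrr c⟩
  set X : Cfsg.IrrCharacter ↥(D.group F) := ⟨χ, hχ⟩
  set T : Cfsg.IrrCharacter ↥(D.group F) := ⟨fun _ => 1, Cfsg.Agent.Char.isIrr_one⟩
  have hpow := Cfsg.Agent.Char.StChev.factorization_card c p (F := F)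
  have hq : 1 < Fintype.card F ^ (D.nroots / 2) := by
    refine Nat.one_lt_pow ?_ Fintype.one_lt_card
    have := (c.pos_simple c.one_le_rank).1
    have := (c.pos_simple c.one_le_rank).2
    have : D.nroots = 2 * c.T.h := c.nroots_eq
    omega
  have hne0 : (Nat.card ↥(D.group F)).factorization p ≠ 0 := fun h => by
    rw [h, pow_zero] at hpow; omega
  have hSt : (Cfsg.charDegree (St : ↥(D.group F) → ℂ)).factorization p =
      (Nat.card ↥(D.group F)).factorization p := by
    show (⌊(D.steinbergCharacter F 1).re⌋₊).factorization p = _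
    rw [Cfsg.Agent.Char.StChev.steinberg_one c, ← Nat.cast_pow, Complex.natCast_re, Nat.floor_natCast,
      ← hpow, (Fact.out : p.Prime).factorization_pow, Finsupp.single_eq_same]
  have hX : (Cfsg.charDegree (X : ↥(D.group F) → ℂ)).factorization p =
      (Nat.card ↥(D.group F)).factorization p := by
    obtain ⟨d, hd, hdvd⟩ := hdeg
    have he : Cfsg.charDegree (X : ↥(D.group F) → ℂ) = d := by
      show ⌊(χ 1).re⌋₊ = d
      rw [hd, Complex.natCast_re, Nat.floor_natCast]
    refine le_antisymm (Cfsg.Agent.Block.degree_factorization_le X p) ?_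
    exact ((Fact.out : p.Prime).pow_dvd_iff_le_factorization
      (Cfsg.Agent.Block.charDeg_pos X).ne').1 (he ▸ hdvd)
  have hT : ∀ Y : Cfsg.IrrCharacter ↥(D.group F),
      (Cfsg.charDegree (Y : ↥(D.group F) → ℂ)).factorization p = (Nat.card ↥(D.group F)).factorization p →
      Cfsg.blockOf M (Y : ↥(D.group F) → ℂ) ≠ Cfsg.blockOf M (T : ↥(D.group F) → ℂ) := by
    intro Y hY e
    have := Cfsg.Agent.Block.defectZero_singleton hM (Cfsg.Agent.Block.isPBlock_blockOf Y)
      (blockDefect_eq_zero hM hY) (Cfsg.Agent.Block.mem_blockOf_self hM Y)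
      (e.symm ▸ Cfsg.Agent.Block.mem_blockOf_self hM T)
    rw [this] at hY
    apply hne0
    rw [← hY]
    show (⌊((1 : ℂ)).re⌋₊).factorization p = 0
    simp
  haveI : Finite {B : Set (Cfsg.IrrCharacter ↥(D.group F)) // Cfsg.IsPBlock M B} :=
    Nat.finite_of_card_ne_zero (by rw [h2]; decide)
  haveI := Fintype.ofFinite {B : Set (Cfsg.IrrCharacter ↥(D.group F)) // Cfsg.IsPBlock M B}
  have hXS : Cfsg.blockOf M (X : ↥(D.group F) → ℂ) = Cfsg.blockOf M (St : ↥(D.group F) → ℂ) := by
    by_contra hne
    let f : Fin 3 → {B : Set (Cfsg.IrrCharacter ↥(D.group F)) // Cfsg.IsPBlock M B} :=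
      ![⟨_, Cfsg.Agent.Block.isPBlock_blockOf X⟩, ⟨_, Cfsg.Agent.Block.isPBlock_blockOf St⟩,
        ⟨_, Cfsg.Agent.Block.isPBlock_blockOf T⟩]
    have hf : Function.Injective f := by
      intro a b e
      have e' := congrArg Subtype.val e
      fin_cases a <;> fin_cases b <;> simp [f] at e' ⊢ <;>
        first
          | exact hne e'
          | exact hne e'.symm
          | exact hT X hX e'
          | exact hT X hX e'.symm
          | exact hT St hSt e'
          | exact hT St hSt e'.symm
    have := Nat.card_le_card_of_injective f hf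
    rw [h2, Nat.card_fin] at this
    omega
  have hfin := Cfsg.Agent.Block.defectZero_singleton hM (Cfsg.Agent.Block.isPBlock_blockOf X)
    (blockDefect_eq_zero hM hX) (Cfsg.Agent.Block.mem_blockOf_self hM X)
    (hXS ▸ Cfsg.Agent.Block.mem_blockOf_self hM St)
  exact congrArg Subtype.val hfin

end Cfsg.Agent.S2318
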