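import Mathlib
import Cfsg.Statements.S2320
import Cfsg.Agent.Lib.Block.SL2Char.GLFacts
-- import your own Cfsg.Agent.* helpers here

set_option autoImplicit false
open Cfsg

namespace Cfsg.Agent.S2320

open Cfsg.Agent.Block.SL2Char

/-- Over a finite field F with q elements, every irreducible complex character of GL₂ of degree q takes a value of absolute value 1 at every diagonal matrix with two different diagonal entries and at every element with no eigenvector in F². -/
theorem result {F : Type*} [Field F] [Fintype F] (χ : Matrix.GeneralLinearGroup (Fin 2) F → ℂ) (hχ : Cfsg.IsIrrCharacter (Matrix.GeneralLinearGroup (Fin 2) F) χ) (hdeg : χ 1 = (Fintype.card F : ℂ)) (g : Matrix.GeneralLinearGroup (Fin 2) F) :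
    ((g : Matrix (Fin 2) (Fin 2) F) 0 1 = 0 → (g : Matrix (Fin 2) (Fin 2) F) 1 0 = 0 → (g : Matrix (Fin 2) (Fin 2) F) 0 0 ≠ (g : Matrix (Fin 2) (Fin 2) F) 1 1 → ‖χ g‖ = 1) ∧
    ((∀ (c : F) (v : Fin 2 → F), v ≠ 0 → (g : Matrix (Fin 2) (Fin 2) F).mulVec v ≠ c • v) → ‖χ g‖ = 1) := by
  classical
  obtain ⟨K, _, _, _, _, hK⟩ := exists_model F
  obtain ⟨α, rfl⟩ : ∃ α : Fˣ →* ℂˣ, χ = fun x => vL α x * vS (F := F) x := by
    rcases irr_cases K hK hχ with ⟨-, h1, -⟩ | ⟨hl, -, -⟩ | ⟨-, h1, -⟩ | ⟨-, h1, -⟩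
    · rw [h1] at hdeg
      exact absurd hdeg.symm (fun e => Fintype.one_lt_card.ne' (Nat.cast_eq_one.1 e))
    · exact mem_listS.1 hl
    · rw [h1] at hdeg
      exact absurd (show (1 : ℂ) = 0 by linear_combination hdeg) one_ne_zero
    · rw [h1] at hdeg
      exact absurd (show (1 : ℂ) = 0 by linear_combination -hdeg) one_ne_zero
  have hnorm : ∀ x, ‖vL (F := F) α x‖ = 1 := fun x => by
    have h : vL (F := F) α x ^ Nat.card Fˣ = 1 := by
      show cv α (detu x) ^ _ = 1
      rw [cv, ← Units.val_pow_eq_pow_val, ← map_pow, pow_card_eq_one', map_one, Units.val_one]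
    exact Complex.norm_eq_one_of_pow_eq_one h Nat.card_pos.ne'
  refine ⟨fun h01 h10 hne => ?_, fun hn => ?_⟩
  · obtain ⟨x, y, hxy, rfl⟩ := eq_di_of_diag h01 h10 hne
    show ‖vL α _ * vS (F := F) _‖ = 1
    rw [norm_mul, hnorm, vS_di hxy, norm_one, one_mul]
  · obtain ⟨l, hl, hc⟩ := ell_of_noeig hn K hK
    have e := apply_eq_of_conj hχ hc
    show ‖vL α g * vS (F := F) g‖ = 1
    rw [e]
    show ‖vL α _ * vS (F := F) _‖ = 1
    rw [norm_mul, hnorm, vS_ell K hK hl, norm_neg, norm_one, one_mul]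

end Cfsg.Agent.S2320
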