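import Cfsg.Statements.S2321
import Cfsg.Agent.Lib.Block.SL2Char.SLFacts
-- import your own Cfsg.Agent.* helpers here

set_option autoImplicit false
open Cfsg

namespace Cfsg.Agent.S2321

open Cfsg.Agent.Block.SL2Char

/-- Over a finite field F with q elements, an irreducible complex character of SL₂ of degree q (the Steinberg character) takes the value 1 at every diagonal matrix whose diagonal entry a has a² ≠ 1, the value −1 at every element with no eigenvector in F², and the value 0 at every upper triangular matrix with equal diagonal entries and non-zero upper right entry. -/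
theorem result {F : Type*} [Field F] [Fintype F] (χ : Matrix.SpecialLinearGroup (Fin 2) F → ℂ) (hχ : Cfsg.IsIrrCharacter (Matrix.SpecialLinearGroup (Fin 2) F) χ) (hdeg : χ 1 = (Fintype.card F : ℂ)) (g : Matrix.SpecialLinearGroup (Fin 2) F) :
    ((g : Matrix (Fin 2) (Fin 2) F) 0 1 = 0 → (g : Matrix (Fin 2) (Fin 2) F) 1 0 = 0 → (g : Matrix (Fin 2) (Fin 2) F) 0 0 ^ 2 ≠ 1 → χ g = 1) ∧
    ((∀ (c : F) (v : Fin 2 → F), v ≠ 0 → (g : Matrix (Fin 2) (Fin 2) F).mulVec v ≠ c • v) → χ g = -1) ∧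
    ((g : Matrix (Fin 2) (Fin 2) F) 1 0 = 0 → (g : Matrix (Fin 2) (Fin 2) F) 0 0 = (g : Matrix (Fin 2) (Fin 2) F) 1 1 → (g : Matrix (Fin 2) (Fin 2) F) 0 1 ≠ 0 → χ g = 0) := by
  classical
  obtain ⟨K, _, _, _, _, hK⟩ := exists_model F
  have hχ' : χ = vSS := by
    have := Fintype.one_lt_card (α := F)
    obtain ⟨n, hn, h⟩ := irr_cases_S K hK hχ
    have hn' : n = Fintype.card F := Nat.cast_injective (hn.symm.trans hdeg)
    rcases h with ⟨h, h'⟩ | ⟨h, h'⟩ | ⟨h, h'⟩ | ⟨h, h'⟩ | ⟨h, -, h'⟩ | ⟨h, -, h'⟩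
    all_goals first | omega | exact h'
  subst hχ'
  refine ⟨fun h01 h10 ha => ?_, fun hn => ?_, fun h10 hd h01 => ?_⟩
  · obtain ⟨x, -, hx, hg⟩ := eq_di_S h01 h10 ha
    rw [vSS, resS_apply, hg, vS_di hx]
  · obtain ⟨l, hl, hc⟩ := ell_of_noeig_S K hK hn
    rw [vSS, resS_of_conj classFun_vS hc, vS_ell K hK hl]
  · obtain ⟨z, -, -, hc⟩ := conj_un_S h10 hd h01
    rw [vSS, resS_of_conj classFun_vS hc, vS_un]

end Cfsg.Agent.S2321
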