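import Cfsg.Statements.S2322
import Cfsg.Agent.Lib.Block.SL2Char.SLFacts
-- import your own Cfsg.Agent.* helpers here

set_option autoImplicit false
open Cfsg

namespace Cfsg.Agent.S2322

open Cfsg.Agent.Block.SL2Char

/-- Over a finite field F with q elements, q odd: every irreducible complex character of SL₂ of degree q − 1 or (q − 1)/2 vanishes at every diagonal matrix whose diagonal entry a has a² ≠ 1, and every irreducible complex character of degree q + 1 or (q + 1)/2 vanishes at every element with no eigenvector in F². -/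
theorem result {F : Type*} [Field F] [Fintype F] (hodd : Odd (Fintype.card F)) (χ : Matrix.SpecialLinearGroup (Fin 2) F → ℂ) (hχ : Cfsg.IsIrrCharacter (Matrix.SpecialLinearGroup (Fin 2) F) χ) (g : Matrix.SpecialLinearGroup (Fin 2) F) :
    ((χ 1 = (Fintype.card F : ℂ) - 1 ∨ χ 1 = (((Fintype.card F - 1) / 2 : ℕ) : ℂ)) →
      (g : Matrix (Fin 2) (Fin 2) F) 0 1 = 0 → (g : Matrix (Fin 2) (Fin 2) F) 1 0 = 0 → (g : Matrix (Fin 2) (Fin 2) F) 0 0 ^ 2 ≠ 1 → χ g = 0) ∧
    ((χ 1 = (Fintype.card F : ℂ) + 1 ∨ χ 1 = (((Fintype.card F + 1) / 2 : ℕ) : ℂ)) →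
      (∀ (c : F) (v : Fin 2 → F), v ≠ 0 → (g : Matrix (Fin 2) (Fin 2) F).mulVec v ≠ c • v) → χ g = 0) := by
  classical
  obtain ⟨K, _, _, _, _, hK⟩ := exists_model F
  have h3 := three_le_card hodd
  obtain ⟨n, hn, h⟩ := irr_cases_S K hK hχ
  refine ⟨fun hd h01 h10 ha => ?_, fun hd hno => ?_⟩
  · obtain ⟨x, -, hx, hg⟩ := eq_di_S h01 h10 ha
    have h5 := four_le_card hodd hx
    have hd' : n + 1 = Fintype.card F ∨ n = (Fintype.card F - 1) / 2 := by
      rcases hd with e | e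
      · left
        have : n = Fintype.card F - 1 := Nat.cast_injective (R := ℂ) (by
          rw [← hn, e, cardF_sub_one Fintype.card_pos])
        omega
      · exact Or.inr (Nat.cast_injective (hn.symm.trans e))
    rcases h with ⟨g1, g2⟩ | ⟨g1, g2⟩ | ⟨g1, g2⟩ | ⟨g1, g2⟩ | ⟨g1, ⟨k, hk⟩, g2⟩ | ⟨g1, -, g2⟩
    all_goals first | omega | skip
    · obtain ⟨φ, -, rfl⟩ := (mem_famD K hK).1 g2
      exact vDS_di K hK φ hx hg
    · obtain ⟨φ, -, -, e⟩ := halfD_value K hK g2 (s := g) (by rw [hg]; exact fullDet_di _ _)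
      rw [e, vDS_di K hK φ hx hg, zero_div]
  · obtain ⟨l, hl, hc⟩ := ell_of_noeig_S K hK hno
    have hd' : n = Fintype.card F + 1 ∨ n = (Fintype.card F + 1) / 2 := by
      rcases hd with e | e
      · left
        exact Nat.cast_injective (R := ℂ) (by rw [← hn, e]; push_cast; ring)
      · exact Or.inr (Nat.cast_injective (hn.symm.trans e))
    rcases h with ⟨g1, g2⟩ | ⟨g1, g2⟩ | ⟨g1, g2⟩ | ⟨g1, g2⟩ | ⟨g1, -, g2⟩ | ⟨g1, ⟨k, hk⟩, g2⟩
    all_goals first | omega | skip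
    · obtain ⟨α, -, rfl⟩ := mem_famC.1 g2
      exact vIS_ell K hK α hl hc
    · obtain ⟨φ, hφ, rfl⟩ := (mem_famD K hK).1 g2
      rw [vDS_ell K hK φ hl hc, vDS_ell_three K (by omega) hφ l hl hK, neg_zero]
    · obtain ⟨α, -, -, e⟩ := halfI_value g2 (s := g) (by
        obtain ⟨w, hw⟩ := isConj_iff.1 hc
        rw [← hw]
        exact fullDet_conj (fullDet_ell K hK _) w)
      rw [e, vIS_ell K hK α hl hc, zero_div]

end Cfsg.Agent.S2322
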