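import Cfsg.Statements.S2323
import Cfsg.Agent.Lib.Block.SL2Char.SLFacts
-- import your own Cfsg.Agent.* helpers here

set_option autoImplicit false
open Cfsg

namespace Cfsg.Agent.S2323

open Cfsg.Agent.Block.SL2Char

/-- Over a finite field F with q ≥ 4 elements, let u be the upper unitriangular matrix of SL₂ with off-diagonal entry 1. An irreducible complex character of SL₂ takes at u the value 1 if its degree is q + 1 and the value −1 if its degree is q − 1. -/
theorem result {F : Type*} [Field F] [Fintype F] (hq : 4 ≤ Fintype.card F) (χ : Matrix.SpecialLinearGroup (Fin 2) F → ℂ) (hχ : Cfsg.IsIrrCharacter (Matrix.SpecialLinearGroup (Fin 2) F) χ)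
    (u : Matrix.SpecialLinearGroup (Fin 2) F) (hu : (u : Matrix (Fin 2) (Fin 2) F) = !![1, 1; 0, 1]) :
    (χ 1 = (Fintype.card F : ℂ) + 1 → χ u = 1) ∧ (χ 1 = (Fintype.card F : ℂ) - 1 → χ u = -1) := by
  classical
  obtain ⟨K, _, _, _, _, hK⟩ := exists_model F
  obtain rfl := eq_uS hu
  obtain ⟨n, hn, h⟩ := irr_cases_S K hK hχ
  refine ⟨fun e => ?_, fun e => ?_⟩
  · have : n = Fintype.card F + 1 := Nat.cast_injective (R := ℂ) (by rw [← hn, e]; push_cast; ring)
    rcases h with ⟨g1, g2⟩ | ⟨g1, g2⟩ | ⟨g1, g2⟩ | ⟨g1, g2⟩ | ⟨g1, -, g2⟩ | ⟨g1, -, g2⟩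
    all_goals first | omega | skip
    obtain ⟨α, -, rfl⟩ := mem_famC.1 g2
    exact vIS_uS α
  · have : n = Fintype.card F - 1 := Nat.cast_injective (R := ℂ) (by
      rw [← hn, e, cardF_sub_one Fintype.card_pos])
    rcases h with ⟨g1, g2⟩ | ⟨g1, g2⟩ | ⟨g1, g2⟩ | ⟨g1, g2⟩ | ⟨g1, -, g2⟩ | ⟨g1, -, g2⟩
    all_goals first | omega | skip
    obtain ⟨φ, -, rfl⟩ := (mem_famD K hK).1 g2
    exact vDS_uS K hK φ

end Cfsg.Agent.S2323
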