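import Cfsg.Statements.S2324
import Cfsg.Agent.Lib.Block.SL2Char.SLFacts
-- import your own Cfsg.Agent.* helpers here

set_option autoImplicit false
open Cfsg

namespace Cfsg.Agent.S2324

open Cfsg.Agent.Block.SL2Char

/-- Over a finite field F with q elements, q odd and q ≥ 5, let u be the upper unitriangular matrix of SL₂ with off-diagonal entry 1 and let δ = (−1)^((q−1)/2). Every irreducible complex character χ of SL₂ of degree (q + 1)/2 satisfies (2χ(u) − 1)² = δq, and every irreducible complex character χ of degree (q − 1)/2 satisfies (2χ(u) + 1)² = δq; that is, χ(u) = (1 ± √(δq))/2 in the first case and χ(u) = (−1 ± √(δq))/2 in the second. Moreover two different irreducible characters of degree (q + 1)/2 take the two different values (their values at u add up to 1), and likewise for degree (q − 1)/2 (values adding up to −1). -/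
theorem result {F : Type*} [Field F] [Fintype F] (hodd : Odd (Fintype.card F)) (hq : 5 ≤ Fintype.card F)
    (u : Matrix.SpecialLinearGroup (Fin 2) F) (hu : (u : Matrix (Fin 2) (Fin 2) F) = !![1, 1; 0, 1]) :
    (∀ χ : Matrix.SpecialLinearGroup (Fin 2) F → ℂ, Cfsg.IsIrrCharacter (Matrix.SpecialLinearGroup (Fin 2) F) χ → χ 1 = (((Fintype.card F + 1) / 2 : ℕ) : ℂ) → (2 * χ u - 1) ^ 2 = (-1 : ℂ) ^ ((Fintype.card F - 1) / 2) * (Fintype.card F : ℂ)) ∧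
    (∀ χ : Matrix.SpecialLinearGroup (Fin 2) F → ℂ, Cfsg.IsIrrCharacter (Matrix.SpecialLinearGroup (Fin 2) F) χ → χ 1 = (((Fintype.card F - 1) / 2 : ℕ) : ℂ) → (2 * χ u + 1) ^ 2 = (-1 : ℂ) ^ ((Fintype.card F - 1) / 2) * (Fintype.card F : ℂ)) ∧
    (∀ χ₁ χ₂ : Matrix.SpecialLinearGroup (Fin 2) F → ℂ, Cfsg.IsIrrCharacter (Matrix.SpecialLinearGroup (Fin 2) F) χ₁ → Cfsg.IsIrrCharacter (Matrix.SpecialLinearGroup (Fin 2) F) χ₂ → χ₁ ≠ χ₂ →
      χ₁ 1 = (((Fintype.card F + 1) / 2 : ℕ) : ℂ) → χ₂ 1 = (((Fintype.card F + 1) / 2 : ℕ) : ℂ) → χ₁ u + χ₂ u = 1) ∧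
    (∀ χ₁ χ₂ : Matrix.SpecialLinearGroup (Fin 2) F → ℂ, Cfsg.IsIrrCharacter (Matrix.SpecialLinearGroup (Fin 2) F) χ₁ → Cfsg.IsIrrCharacter (Matrix.SpecialLinearGroup (Fin 2) F) χ₂ → χ₁ ≠ χ₂ →
      χ₁ 1 = (((Fintype.card F - 1) / 2 : ℕ) : ℂ) → χ₂ 1 = (((Fintype.card F - 1) / 2 : ℕ) : ℂ) → χ₁ u + χ₂ u = -1) := by
  classical
  obtain ⟨K, _, _, _, _, hK⟩ := exists_model F
  obtain rfl := eq_uS hu
  obtain ⟨k, hk⟩ := id hodd
  have hI : ∀ χ : Matrix.SpecialLinearGroup (Fin 2) F → ℂ,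
      IsIrrCharacter (Matrix.SpecialLinearGroup (Fin 2) F) χ →
      χ 1 = (((Fintype.card F + 1) / 2 : ℕ) : ℂ) → HalfI χ := by
    intro χ hχ e
    obtain ⟨n, hn, h⟩ := irr_cases_S K hK hχ
    have : n = (Fintype.card F + 1) / 2 := Nat.cast_injective (hn.symm.trans e)
    rcases h with ⟨g1, g2⟩ | ⟨g1, g2⟩ | ⟨g1, g2⟩ | ⟨g1, g2⟩ | ⟨g1, -, g2⟩ | ⟨g1, -, g2⟩
    all_goals first | omega | exact g2
  have hD : ∀ χ : Matrix.SpecialLinearGroup (Fin 2) F → ℂ,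
      IsIrrCharacter (Matrix.SpecialLinearGroup (Fin 2) F) χ →
      χ 1 = (((Fintype.card F - 1) / 2 : ℕ) : ℂ) → HalfD K hK χ := by
    intro χ hχ e
    obtain ⟨n, hn, h⟩ := irr_cases_S K hK hχ
    have : n = (Fintype.card F - 1) / 2 := Nat.cast_injective (hn.symm.trans e)
    rcases h with ⟨g1, g2⟩ | ⟨g1, g2⟩ | ⟨g1, g2⟩ | ⟨g1, g2⟩ | ⟨g1, -, g2⟩ | ⟨g1, -, g2⟩
    all_goals first | omega | exact g2
  refine ⟨fun χ hχ e => halfI_u K hK hodd (hI χ hχ e), fun χ hχ e => halfD_u K hK hodd (hD χ hχ e),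
    fun χ₁ χ₂ h₁ h₂ hne e₁ e₂ => ?_, fun χ₁ χ₂ h₁ h₂ hne e₁ e₂ => ?_⟩
  · obtain ⟨α, b, x, g1, g2, ga, gb, -, ge, -⟩ := hI χ₁ h₁ e₁
    obtain rfl := (halfI_eq K hK hodd g1 g2 ga gb ge (hI χ₂ h₂ e₂)).resolve_left hne.symm
    rw [← Pi.add_apply, ← ge, vIS_uS]
  · obtain ⟨φ, b, x, g1, g2, ga, gb, -, ge, -⟩ := hD χ₁ h₁ e₁
    obtain rfl := (halfD_eq K hK hodd g1 g2 ga gb ge (hD χ₂ h₂ e₂)).resolve_left hne.symm
    rw [← Pi.add_apply, ← ge, vDS_uS]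

end Cfsg.Agent.S2324
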