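import Cfsg.Statements.S2328
import Cfsg.Agent.Lib.Char.SteinbergChev
import Cfsg.Agent.Lib.Block.Separated
import Cfsg.Agent.Lib.Char.ModP
-- import your own Cfsg.Agent.* helpers here

set_option autoImplicit false
open Cfsg

namespace Cfsg.Agent.S2328

/-- In a Chevalley group of type G₂, B₂, D₄, F₄, E₆, E₇ or E₈ over a finite field of characteristic p, the Steinberg character vanishes at every element whose order is divisible by p (every element that is not semisimple). -/
theorem result {F : Type*} [Field F] [Fintype F] (p : ℕ) [Fact p.Prime] [CharP F p] (D : Cfsg.Lie.ChevalleyDatum) (hD : D ∈ [Cfsg.Lie.chevG2, Cfsg.Lie.chevB2, Cfsg.Lie.chevD4, Cfsg.Lie.chevF4, Cfsg.Lie.chevE6, Cfsg.Lie.chevE7, Cfsg.Lie.chevE8]) (g : ↥(D.group F)) (hg : p ∣ orderOf g) :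
    D.steinbergCharacter F g = 0 := by
  obtain ⟨c⟩ := Cfsg.Agent.Lie.Chev.exists_certFull hD
  obtain ⟨M, hM⟩ := Cfsg.Agent.Char.exists_isPModular p (Fact.out : p.Prime)
  refine Cfsg.Agent.Block.defectZero_vanish hM
    (⟨D.steinbergCharacter F, Cfsg.Agent.Char.StChev.steinberg_isIrr c⟩ :
      Cfsg.IrrCharacter ↥(D.group F)) ?_ hg
  show (⌊(D.steinbergCharacter F 1).re⌋₊).factorization p = _
  rw [Cfsg.Agent.Char.StChev.steinberg_one c,
    ← Nat.cast_pow, Complex.natCast_re, Nat.floor_natCast,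
    ← Cfsg.Agent.Char.StChev.factorization_card c p (F := F),
    (Fact.out : p.Prime).factorization_pow, Finsupp.single_eq_same]

end Cfsg.Agent.S2328
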