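import Cfsg.Statements.S2329
import Cfsg.Agent.Lib.Block.SL2Char.Classes

set_option autoImplicit false
open Cfsg

namespace Cfsg.Agent.S2329

open Cfsg.Agent.Block.SL2Char

/-- Over a finite field of characteristic p, any two elements of order p of GL₂ are conjugate: there is a single conjugacy class of non-identity unipotent elements. -/
theorem result {F : Type*} [Field F] [Fintype F] (p : ℕ) [Fact p.Prime] [CharP F p] (g h : Matrix.GeneralLinearGroup (Fin 2) F)
    (hg : orderOf g = p) (hh : orderOf h = p) : IsConj g h := by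
  have key : ∀ g : Matrix.GeneralLinearGroup (Fin 2) F, orderOf g = p →
      ¬ IsSc g ∧ tr g = 1 + 1 ∧ dt g = 1 := by
    intro g hg
    have hN : IsNilpotent ((g : Matrix (Fin 2) (Fin 2) F) - 1) := ⟨p, by
      rw [sub_pow_char_of_commute (p := p) (Commute.one_right _), one_pow, ← Units.val_pow_eq_pow_val,
        ← hg, pow_orderOf_eq_one, Units.val_one, sub_self]⟩
    have ht : ((g : Matrix (Fin 2) (Fin 2) F) - 1).trace = 0 :=
      (Matrix.isNilpotent_trace_of_isNilpotent hN).eq_zero
    have hd : ((g : Matrix (Fin 2) (Fin 2) F) - 1).det = 0 := by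
      obtain ⟨k, hk⟩ := hN
      refine eq_zero_of_pow_eq_zero (n := k) ?_
      rw [← Matrix.det_pow, hk, Matrix.det_zero]
    rw [Matrix.trace_fin_two] at ht
    rw [Matrix.det_fin_two] at hd
    simp at ht hd
    refine ⟨fun hs => ?_, by rw [tr]; linear_combination ht, by rw [dt]; linear_combination hd + ht⟩
    have h1 : g = 1 := by
      refine Units.ext (Matrix.ext fun i j => ?_)
      have h00 : (g : Matrix (Fin 2) (Fin 2) F) 0 0 = 1 := by
        have : ((g : Matrix (Fin 2) (Fin 2) F) 0 0 - 1) * ((g : Matrix (Fin 2) (Fin 2) F) 0 0 - 1) = 0 := by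
          rw [hs.1, ← hs.2.2] at hd; linear_combination hd
        exact sub_eq_zero.1 (mul_self_eq_zero.1 this)
      fin_cases i <;> fin_cases j <;> simp [hs.1, hs.2.1, ← hs.2.2, h00]
    rw [h1, orderOf_one] at hg
    exact (Fact.out (p := p.Prime)).ne_one hg.symm
  obtain ⟨a1, a2, a3⟩ := key g hg
  obtain ⟨b1, b2, b3⟩ := key h hh
  exact (isConj_iff_tr_dt a1 b1).2 ⟨a2.trans b2.symm, a3.trans b3.symm⟩

end Cfsg.Agent.S2329
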