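import Cfsg.Statements.S2330
import Mathlib
-- import your own Cfsg.Agent.* helpers here

set_option autoImplicit false
open Cfsg

namespace Cfsg.Agent.S2330

set_option linter.style.haveILetI false
set_option linter.unusedSimpArgs false

open Matrix

universe w

variable {F : Type w} [Field F]

/-- The companion matrix of `X^2 - t X + d` as a unit. -/
noncomputable def companionUnit (t : F) (d : Fˣ) : GeneralLinearGroup (Fin 2) F :=
  GeneralLinearGroup.mkOfDetNeZero !![0, -(d : F); 1, t] (by simp [Matrix.det_fin_two])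

/-- The scalar unit. -/
noncomputable def scalarUnit (c : Fˣ) : GeneralLinearGroup (Fin 2) F :=
  GeneralLinearGroup.mkOfDetNeZero !![(c : F), 0; 0, (c : F)] (by simp [Matrix.det_fin_two])

theorem companion_val (t : F) (d : Fˣ) :
    ((companionUnit t d : GeneralLinearGroup (Fin 2) F) : Matrix (Fin 2) (Fin 2) F) = !![0, -(d : F); 1, t] := rfl

theorem scalar_val (c : Fˣ) :
    ((scalarUnit c : GeneralLinearGroup (Fin 2) F) : Matrix (Fin 2) (Fin 2) F) = !![(c : F), 0; 0, (c : F)] := rfl

theorem scalar_comm (c : Fˣ) (g : GeneralLinearGroup (Fin 2) F) : g * scalarUnit c = scalarUnit c * g := by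
  refine Units.ext ?_
  rw [Units.val_mul, Units.val_mul, scalar_val]
  ext i j
  fin_cases i <;> fin_cases j <;> simp [Matrix.mul_apply, Fin.sum_univ_two, mul_comm]

theorem main [Fintype F] :
    Nat.card (ConjClasses (GeneralLinearGroup (Fin 2) F)) = Fintype.card F ^ 2 - 1 := by
  classical
  let r : Fˣ ⊕ (F × Fˣ) → ConjClasses (GeneralLinearGroup (Fin 2) F) :=
    Sum.elim (fun c => ConjClasses.mk (scalarUnit c)) (fun p => ConjClasses.mk (companionUnit p.1 p.2))
  have hscal : ∀ c g, IsConj (scalarUnit c : GeneralLinearGroup (Fin 2) F) g → g = scalarUnit c := by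
    intro c g hg
    obtain ⟨u, hu⟩ := isConj_iff.1 hg
    rw [← hu, scalar_comm, mul_inv_cancel_right]
  have hne : ∀ c t d, (companionUnit t d : GeneralLinearGroup (Fin 2) F) ≠ scalarUnit c := by
    intro c t d h
    have := congrArg (fun g : GeneralLinearGroup (Fin 2) F => (g : Matrix (Fin 2) (Fin 2) F) 1 0) h
    simp [companion_val, scalar_val] at this
  have hinv : ∀ g h : GeneralLinearGroup (Fin 2) F, IsConj g h →
      (g : Matrix (Fin 2) (Fin 2) F).trace = (h : Matrix (Fin 2) (Fin 2) F).trace ∧
      (g : Matrix (Fin 2) (Fin 2) F).det = (h : Matrix (Fin 2) (Fin 2) F).det := by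
    intro g h hgh
    obtain ⟨u, hu⟩ := isConj_iff.1 hgh
    constructor
    · rw [← hu, Units.val_mul, Units.val_mul, Matrix.trace_mul_cycle, ← Units.val_mul,
        inv_mul_cancel, Units.val_one, one_mul]
    · rw [← hu, Units.val_mul, Units.val_mul, Matrix.det_mul, Matrix.det_mul,
        mul_right_comm, ← Matrix.det_mul, ← Units.val_mul, mul_inv_cancel, Units.val_one,
        Matrix.det_one, one_mul]
  have hinj : Function.Injective r := by
    rintro (c | ⟨t, d⟩) (c' | ⟨t', d'⟩) h
    · have h1 := hscal c _ (ConjClasses.mk_eq_mk_iff_isConj.1 h)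
      have h2 := congrArg (fun g : GeneralLinearGroup (Fin 2) F => (g : Matrix (Fin 2) (Fin 2) F) 0 0) h1
      simp [scalar_val] at h2
      simp [Units.ext h2]
    · exact absurd (hscal c _ (ConjClasses.mk_eq_mk_iff_isConj.1 h)) (hne c t' d')
    · exact absurd (hscal c' _ (ConjClasses.mk_eq_mk_iff_isConj.1 h).symm) (hne c' t d)
    · obtain ⟨h1, h2⟩ := hinv _ _ (ConjClasses.mk_eq_mk_iff_isConj.1 h)
      simp [companion_val, Matrix.trace_fin_two, Matrix.det_fin_two] at h1 h2
      simp [h1, Units.ext h2]
  have hsurj : Function.Surjective r := by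
    intro C
    obtain ⟨g, rfl⟩ := ConjClasses.mk_surjective C
    set a := (g : Matrix (Fin 2) (Fin 2) F) 0 0 with ha
    set b := (g : Matrix (Fin 2) (Fin 2) F) 0 1 with hb
    set c := (g : Matrix (Fin 2) (Fin 2) F) 1 0 with hc
    set e := (g : Matrix (Fin 2) (Fin 2) F) 1 1 with he
    have hg : (g : Matrix (Fin 2) (Fin 2) F) = !![a, b; c, e] := Matrix.eta_fin_two _
    have hdet : a * e - b * c ≠ 0 := by
      have := (Matrix.isUnit_iff_isUnit_det _).1 g.isUnit
      rw [hg, Matrix.det_fin_two_of] at this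
      exact this.ne_zero
    by_cases hs : c = 0 ∧ b = 0 ∧ a = e
    · obtain ⟨hc0, hb0, hae⟩ := hs
      have ha0 : a ≠ 0 := fun h => hdet (by rw [h, hb0]; simp)
      refine ⟨Sum.inl (Units.mk0 a ha0), congrArg ConjClasses.mk (Units.ext ?_)⟩
      rw [scalar_val, hg, Units.val_mk0, hc0, hb0, ← hae]
    · obtain ⟨P, hP, hMP⟩ : ∃ P : Matrix (Fin 2) (Fin 2) F, P.det ≠ 0 ∧
          !![a, b; c, e] * P = P * !![0, -(a * e - b * c); 1, a + e] := by
        by_cases hc0 : c = 0
        · by_cases hb0 : b = 0
          · have hae : a ≠ e := fun h => hs ⟨hc0, hb0, h⟩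
            refine ⟨!![1, a; 1, e], by simpa [Matrix.det_fin_two, sub_eq_zero] using (Ne.symm hae), ?_⟩
            subst_vars
            ext i j
            fin_cases i <;> fin_cases j <;>
              simp [Matrix.mul_apply, Fin.sum_univ_two, hc0, hb0] <;> ring
          · refine ⟨!![0, b; 1, e], by simpa [Matrix.det_fin_two] using hb0, ?_⟩
            ext i j
            fin_cases i <;> fin_cases j <;> simp [Matrix.mul_apply, Fin.sum_univ_two] <;> ring
        · refine ⟨!![1, a; 0, c], by simpa [Matrix.det_fin_two] using hc0, ?_⟩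
          ext i j
          fin_cases i <;> fin_cases j <;> simp [Matrix.mul_apply, Fin.sum_univ_two] <;> ring
      refine ⟨Sum.inr (a + e, Units.mk0 _ hdet), ConjClasses.mk_eq_mk_iff_isConj.2
        (isConj_iff.2 ⟨GeneralLinearGroup.mkOfDetNeZero P hP, ?_⟩)⟩
      rw [mul_inv_eq_iff_eq_mul]
      refine Units.ext ?_
      rw [Units.val_mul, Units.val_mul, companion_val, hg, Units.val_mk0]
      exact hMP.symm
  rw [← Nat.card_congr (Equiv.ofBijective r ⟨hinj, hsurj⟩), Nat.card_eq_fintype_card, Fintype.card_sum,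
    Fintype.card_prod, Fintype.card_units]
  have hq : 1 ≤ Fintype.card F := Fintype.card_pos
  zify [hq, Nat.one_le_pow 2 _ Fintype.card_pos]
  ring

/-- Over a finite field with q elements, the general linear group GL₂ has exactly q² − 1 conjugacy classes. -/
theorem result {F : Type*} [Field F] [Fintype F] :
    Nat.card (ConjClasses (Matrix.GeneralLinearGroup (Fin 2) F)) = Fintype.card F ^ 2 - 1 := by
  exact main

end Cfsg.Agent.S2330
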