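import Cfsg.Statements.S2331
import Cfsg.Agent.Lib.Block.SL2Char.SLFacts
import Cfsg.Agent.Lib.Block.SL2Char.SLCount
-- import your own Cfsg.Agent.* helpers here

set_option autoImplicit false
open Cfsg

namespace Cfsg.Agent.S2331

open Cfsg.Agent.Block.SL2Char

/-- Over a finite field with q elements, q even, the special linear group SL₂ has exactly q + 1 conjugacy classes. -/
theorem result {F : Type*} [Field F] [Fintype F] [CharP F 2] :
    Nat.card (ConjClasses (Matrix.SpecialLinearGroup (Fin 2) F)) = Fintype.card F + 1 := by
  classical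
  obtain ⟨K, _, _, _, _, hK⟩ := exists_model F
  rw [← Cfsg.Agent.Char.card_irrCharacter,
    Nat.subtype_card (wholes K hK) (fun f =>
      ⟨fun h => wholes_irr K hK f h, fun h => irr_cases_even K hK card_Z2_even h⟩), card_wholes]
  have h1 := card_famC (F := F) K hK
  have h2 := card_famD K hK
  rw [card_Z2_even] at h1 h2
  omega

end Cfsg.Agent.S2331
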