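import Cfsg.Statements.S2332
import Cfsg.Agent.Lib.Lie.RepDegSLMain
-- import your own Cfsg.Agent.* helpers here

set_option autoImplicit false
open Cfsg

namespace Cfsg.Agent.S2332

/-- Smallest degree of a non-linear irreducible complex representation of SL_n over a finite field with q elements, for n ≥ 3 and (n, q) not one of (3, 2), (3, 4), (4, 2), (4, 3): every irreducible complex representation of SL_n(F) of degree at least 2 has degree at least (q^n − q)/(q − 1), and there is an irreducible complex representation of exactly that degree. -/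
theorem result {F : Type*} [Field F] [Fintype F] [DecidableEq F] (n : ℕ) (hn : 3 ≤ n)
    (hex : (n, Fintype.card F) ≠ (3, 2) ∧ (n, Fintype.card F) ≠ (3, 4) ∧ (n, Fintype.card F) ≠ (4, 2) ∧ (n, Fintype.card F) ≠ (4, 3)) :
    (∀ (k : ℕ) (ρ : Representation ℂ (Matrix.SpecialLinearGroup (Fin n) F) (Fin k → ℂ)), ρ.IsIrreducible → 2 ≤ k → (Fintype.card F ^ n - Fintype.card F) / (Fintype.card F - 1) ≤ k) ∧
    (∃ ρ : Representation ℂ (Matrix.SpecialLinearGroup (Fin n) F) (Fin ((Fintype.card F ^ n - Fintype.card F) / (Fintype.card F - 1)) → ℂ), ρ.IsIrreducible) := by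
  classical
  obtain ⟨k, rfl⟩ : ∃ k, n = k + 3 := ⟨n - 3, by omega⟩
  have hq := Fintype.one_lt_card (α := F)
  have hB : (Fintype.card F ^ (k + 3) - Fintype.card F) / (Fintype.card F - 1) =
      Agent.Lie.MinIndex.B (Fintype.card F) (k + 3) - 1 := by
    refine Nat.div_eq_of_eq_mul_left (Nat.sub_pos_of_lt hq) ?_
    rw [Nat.sub_mul, Agent.Lie.RepDeg.B_mul _ _ hq.le]
    omega
  refine ⟨fun m ρ hρ hm => ?_, ?_⟩
  · have hok : Agent.Lie.RepDeg.Ok k (Fintype.card F) := by
      obtain ⟨h1, h2, h3, h4⟩ := hex
      constructor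
      · rintro ⟨rfl, h | h⟩
        · exact h1 (by rw [h])
        · exact h2 (by rw [h])
      · rintro ⟨rfl, h | h⟩
        · exact h3 (by rw [h])
        · exact h4 (by rw [h])
    have hne : ∃ g, ρ g ≠ 1 := by
      by_contra hcon
      push Not at hcon
      haveI := hρ
      let v : Fin m → ℂ := Pi.single ⟨0, by omega⟩ 1
      let W : Subrepresentation ρ :=
        { toSubmodule := Submodule.span ℂ {v}
          apply_mem_toSubmodule := fun g w hw => by rw [hcon g]; exact hw }
      rcases IsSimpleOrder.eq_bot_or_eq_top W with h | h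
      · have h0 : Submodule.span ℂ {v} = ⊥ := congrArg Subrepresentation.toSubmodule h
        rw [Submodule.span_singleton_eq_bot] at h0
        have := congrFun h0 ⟨0, by omega⟩
        simp [v] at this
      · have h0 : Submodule.span ℂ {v} = ⊤ := congrArg Subrepresentation.toSubmodule h
        have h1 := finrank_span_singleton (K := ℂ) (show v ≠ 0 by simp [v])
        rw [h0, finrank_top, Module.finrank_fin_fun] at h1
        omega
    have := Agent.Lie.RepDeg.low k m ρ hρ hne hok
    omega
  · rw [hB]
    exact Agent.Lie.RepDeg.exists_min_irreducible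

end Cfsg.Agent.S2332
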