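import Cfsg.Statements.S2352
import Cfsg.Agent.Lib.Lie.LawPSL
-- import your own Cfsg.Agent.* helpers here

set_option autoImplicit false
open Cfsg

namespace Cfsg.Agent.S2352

/-- A non-trivial law holds in only finitely many alternating groups: for every non-trivial element w of the free group on countably many generators there is N such that for all n ≥ N some substitution of elements of the alternating group of degree n into w is not the identity. -/
theorem result (w : FreeGroup ℕ) (hw : w ≠ 1) :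
    ∃ N : ℕ, ∀ n : ℕ, N ≤ n → ∃ f : ℕ → alternatingGroup (Fin n), FreeGroup.lift f w ≠ 1 := by
  classical
  obtain ⟨N, hN⟩ := Lie.Law.psl_two_no_law.{0} w hw
  obtain ⟨p, hp, hpp⟩ := Nat.exists_infinite_primes N
  haveI : Fact p.Prime := ⟨hpp⟩
  obtain ⟨f, hf⟩ := hN (ZMod p) (by rw [ZMod.card]; exact hp)
  haveI : Fintype (Matrix.ProjectiveSpecialLinearGroup (Fin 2) (ZMod p)) := Fintype.ofFinite _
  refine ⟨Fintype.card (Matrix.ProjectiveSpecialLinearGroup (Fin 2) (ZMod p) × Bool), fun n hn => ?_⟩
  obtain ⟨e⟩ := Function.Embedding.nonempty_of_card_le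
    (α := Matrix.ProjectiveSpecialLinearGroup (Fin 2) (ZMod p) × Bool) (β := Fin n)
    (by rw [Fintype.card_fin]; convert hn using 2)
  let σ : Matrix.ProjectiveSpecialLinearGroup (Fin 2) (ZMod p) →*
      Equiv.Perm (Matrix.ProjectiveSpecialLinearGroup (Fin 2) (ZMod p) × Bool) :=
    MonoidHom.mk' (fun x => Equiv.prodCongrLeft fun _ : Bool => Equiv.mulLeft x)
      fun x y => Equiv.ext fun ⟨z, b⟩ => by simp [Equiv.prodCongrLeft, mul_assoc]
  let θ : Matrix.ProjectiveSpecialLinearGroup (Fin 2) (ZMod p) →* Equiv.Perm (Fin n) :=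
    (Equiv.Perm.extendDomainHom e.toEquivRange).comp σ
  have hθ : ∀ x, θ x ∈ alternatingGroup (Fin n) := by
    intro x
    show Equiv.Perm.sign _ = 1
    simp [θ, σ, Equiv.Perm.sign_prodCongrLeft]
  refine ⟨fun i => ⟨θ (f i), hθ _⟩, fun h => hf ?_⟩
  have h1 : (alternatingGroup (Fin n)).subtype.comp
      (FreeGroup.lift fun i => (⟨θ (f i), hθ _⟩ : alternatingGroup (Fin n))) =
        θ.comp (FreeGroup.lift f) := FreeGroup.ext_hom _ _ fun i => by simp
  have h2 := DFunLike.congr_fun h1 w
  rw [MonoidHom.comp_apply, MonoidHom.comp_apply, h, map_one] at h2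
  have h3 := congrArg (fun σ : Equiv.Perm (Fin n) => σ (e (1, true))) h2.symm
  simp [θ, σ, Equiv.Perm.extendDomain_apply_subtype] at h3
  exact h3

end Cfsg.Agent.S2352
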