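import Cfsg.Statements.S2354
import Cfsg.Agent.Lib.Lie.Law
-- import your own Cfsg.Agent.* helpers here

set_option autoImplicit false
open Cfsg

namespace Cfsg.Agent.S2354

/-- A non-trivial law holds in only finitely many Suzuki groups: for every non-trivial element w of the free group on countably many generators there is N such that for q = 2^(2m+1) with m ≥ N some substitution of elements of the Suzuki group over the field with q elements into w is not the identity. -/
theorem result (w : FreeGroup ℕ) (hw : w ≠ 1) :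
    ∃ N : ℕ, ∀ (F : Type*) [Field F] [Fintype F] (m : ℕ), 1 ≤ m → N ≤ m →
      Fintype.card F = 2 ^ (2 * m + 1) →
      ∃ f : ℕ → ↥(Cfsg.Lie.Sz F (2 ^ (m + 1))), FreeGroup.lift f w ≠ 1 := by
  refine ⟨2 * Lie.Law.weight w.toWord + 1, fun F _ _ m hm hNm hF => ?_⟩
  have hchar : CharP F 2 := by
    haveI : Fact (Nat.Prime 2) := ⟨Nat.prime_two⟩
    exact charP_of_card_eq_prime_pow (f := 2 * m + 1) hF
  set e : ℕ := 2 ^ (m + 1) with he
  have he4 : 4 ≤ e := by
    calc (4 : ℕ) = 2 ^ 2 := rfl
      _ ≤ e := Nat.pow_le_pow_right (by omega) (by omega)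
  have two : (2 : F) = 0 := CharTwo.two_eq_zero
  let A : Matrix (Fin 4) (Fin 4) F := !![1, 0, 1, 1; 1, 1, 1, 0; 0, 1, 1, 1; 1, 1, 0, 1]
  let B : Matrix (Fin 4) (Fin 4) F := !![1, 1, 0, 1; 0, 1, 1, 1; 1, 1, 1, 0; 1, 0, 1, 1]
  have hAB : A * B = 1 := by
    ext i j
    fin_cases i <;> fin_cases j <;> simp [A, B, Matrix.mul_apply, Fin.sum_univ_four] <;> grind
  have hBA : B * A = 1 := by
    ext i j
    fin_cases i <;> fin_cases j <;> simp [A, B, Matrix.mul_apply, Fin.sum_univ_four] <;> grind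
  let g : GL (Fin 4) F := ⟨A, B, hAB, hBA⟩
  have h0 : e ≠ 0 := by omega
  have hg : g ∈ Lie.Sz F e := by
    refine Subgroup.subset_closure ⟨fun x y => ?_, ?_⟩
    · show Lie.altForm4 (A.mulVec x) (A.mulVec y) = Lie.altForm4 x y
      simp [A, Lie.altForm4, Matrix.mulVec, dotProduct, Fin.sum_univ_four]
      grind
    · show Lie.star4 A = A.map fun x => x ^ e
      ext p r
      fin_cases p <;> fin_cases r <;>
        simp [A, Lie.star4, zero_pow h0, show Lie.pairOf 0 = ((0 : Fin 4), (1 : Fin 4)) from rfl,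
          show Lie.pairOf 1 = ((0 : Fin 4), (2 : Fin 4)) from rfl,
          show Lie.pairOf 2 = ((1 : Fin 4), (3 : Fin 4)) from rfl,
          show Lie.pairOf 3 = ((2 : Fin 4), (3 : Fin 4)) from rfl] <;> grind
  let d : Fin 4 → ℤ := ![1, (e : ℤ) - 1, 1 - (e : ℤ), -1]
  have htor : ∀ z : Fˣ, Lie.Law.tor d z ∈ Lie.Sz F e := by
    intro z
    set a : F := ((z : Fˣ) : F)
    set b : F := ((z ^ ((e : ℤ) - 1) : Fˣ) : F)
    set b' : F := ((z ^ (1 - (e : ℤ)) : Fˣ) : F)
    set a' : F := ((z ^ (-1 : ℤ) : Fˣ) : F)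
    have hval : ((Lie.Law.tor d z : GL (Fin 4) F) : Matrix (Fin 4) (Fin 4) F) =
        Matrix.diagonal ![a, b, b', a'] := by
      rw [Lie.Law.tor, Lie.Law.dgu_val]
      congr 1
      ext i
      fin_cases i <;> simp [d, a, b, b', a']
    have haa : a * a' = 1 := by simp [a, a']
    have hbb : b * b' = 1 := by
      rw [← Units.val_mul, ← zpow_add, show (e : ℤ) - 1 + (1 - e) = 0 by ring, zpow_zero,
        Units.val_one]
    have hab : a * b = a ^ e := by
      simp only [a, b]
      rw [← Units.val_mul, ← Units.val_pow_eq_pow_val, ← zpow_natCast z e, ← zpow_one_add]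
      congr 2; ring
    have hq : z ^ ((2 : ℤ) ^ (2 * m + 1) - 1) = 1 := by
      have h := FiniteField.pow_card_sub_one_eq_one (z : F) z.ne_zero
      rw [hF, ← Units.val_pow_eq_pow_val, Units.val_eq_one] at h
      rw [← h, ← zpow_natCast z, Nat.cast_sub (Nat.one_le_two_pow)]
      push_cast
      rfl
    have hbe : a * b' = b ^ e := by
      simp only [a, b, b']
      rw [← Units.val_mul, ← Units.val_pow_eq_pow_val, ← zpow_natCast, ← zpow_mul, ← zpow_one_add]
      have : ((e : ℤ) - 1) * e = (1 + (1 - (e : ℤ))) + 2 * ((2 : ℤ) ^ (2 * m + 1) - 1) := by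
        have : (e : ℤ) * e = 2 * (2 : ℤ) ^ (2 * m + 1) := by
          rw [he]; push_cast; ring
        linarith
      rw [this, zpow_add _ _ (2 * _), mul_comm 2, zpow_mul, hq, one_zpow, mul_one]
    refine Subgroup.subset_closure ⟨fun x y => ?_, ?_⟩
    · show Lie.altForm4 (Matrix.mulVec _ x) (Matrix.mulVec _ y) = Lie.altForm4 x y
      simp only [Units.coeHom_apply, hval, Lie.altForm4, Matrix.mulVec_diagonal]
      simp
      grind
    · rw [hval]
      have hane : a ≠ 0 := Units.ne_zero _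
      have h1 : a' * b' = a' ^ e := by
        refine mul_left_cancel₀ (pow_ne_zero e hane) ?_
        rw [← mul_pow, haa, one_pow, ← hab]
        linear_combination (b * b') * haa + hbb
      have h2 : a' * b = b' ^ e := by
        refine mul_left_cancel₀ (pow_ne_zero e (Units.ne_zero (z ^ ((e : ℤ) - 1)))) ?_
        show b ^ e * (a' * b) = b ^ e * b' ^ e
        rw [← mul_pow, hbb, one_pow, ← hbe]
        linear_combination (a * a') * hbb + haa
      ext p r
      fin_cases p <;> fin_cases r <;>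
        simp [Lie.star4, zero_pow h0, show Lie.pairOf 0 = ((0 : Fin 4), (1 : Fin 4)) from rfl,
          show Lie.pairOf 1 = ((0 : Fin 4), (2 : Fin 4)) from rfl,
          show Lie.pairOf 2 = ((1 : Fin 4), (3 : Fin 4)) from rfl,
          show Lie.pairOf 3 = ((2 : Fin 4), (3 : Fin 4)) from rfl] <;> grind
  refine Lie.Law.exists_lift_ne_one (d := d) (M := e - 1) (jp := (1 : Fin 4)) (jn := 2) (g := g)
    ?_ ?_ ?_ ?_ (by omega) htor hg hw ?_
  · intro i; fin_cases i <;> simp [d] <;> omega
  · intro i; fin_cases i <;> simp [d] <;> omega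
  · intro i; fin_cases i <;> simp [d] <;> omega
  · intro a ha b hb
    show A a b ≠ 0 ∧ B a b ≠ 0
    simp only [List.mem_cons, List.not_mem_nil, or_false] at ha hb
    rcases ha with rfl | rfl <;> rcases hb with rfl | rfl <;> simp [A, B]
  · rw [hF]
    have h1 : 2 * Lie.Law.weight w.toWord + 1 < 2 ^ m :=
      lt_of_le_of_lt hNm Nat.lt_two_pow_self
    have h2 : e * 2 ^ m = 2 ^ (2 * m + 1) := by rw [he, ← pow_add]; ring_nf
    obtain ⟨e', he'⟩ : ∃ e', e = e' + 1 := ⟨e - 1, by omega⟩
    rw [he', Nat.add_sub_cancel]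
    nlinarith

end Cfsg.Agent.S2354
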