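import Cfsg.Statements.S2355
import Cfsg.Agent.Lib.Lie.LawClassical
import Cfsg.Agent.S2352
-- import your own Cfsg.Agent.* helpers here

set_option autoImplicit false
open Cfsg

namespace Cfsg.Agent.S2355

/-- A non-trivial law is satisfied by only finitely many finite simple groups that are alternating or classical, up to isomorphism: for every non-trivial element w of the free group on countably many generators there is a bound N such that every alternating group of degree ≥ 5 and every simple classical group (linear, symplectic, unitary or orthogonal, in this problem's sense) in which w is a law has order at most N. -/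
theorem result (w : FreeGroup ℕ) (hw : w ≠ 1) :
    ∃ N : ℕ, ∀ (G : Type*) [Group G] [Finite G],
      (Cfsg.IsAlternating G ∨ Cfsg.IsPSL G ∨ Cfsg.IsPSp G ∨ Cfsg.IsPSU G ∨ Cfsg.IsPOmegaOdd G ∨
          Cfsg.IsPOmegaPlus G ∨ Cfsg.IsPOmegaMinus G) →
      (∀ f : ℕ → G, FreeGroup.lift f w = 1) → Nat.card G ≤ N := by
  classical
  obtain ⟨c, hc⟩ := Lie.Law.exists_commutator_ne_one hw
  set w' := w * FreeGroup.of c * w⁻¹ * (FreeGroup.of c)⁻¹ with hw'
  obtain ⟨A₀, hA₀⟩ := Cfsg.Agent.S2352.result w hw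
  obtain ⟨N₁, hN₁⟩ := Lie.Law.psl_two_no_law.{0} w' hc
  obtain ⟨p, hp, hpp⟩ := Nat.exists_infinite_primes (max N₁ 4)
  haveI : Fact p.Prime := ⟨hpp⟩
  set L := max N₁ 4 with hLdef
  set M₀ := max (Nat.card (Matrix.ProjectiveSpecialLinearGroup (Fin 2) (ZMod p)) * 2) 4
  refine ⟨max A₀.factorial ((L ^ 2) ^ ((2 * M₀ + 2) * (2 * M₀ + 2))), fun G _ _ hG hlaw => ?_⟩
  have slFail : ∀ (k : Type) [Field k] [Fintype k], L ≤ Fintype.card k →
      ∃ f : ℕ → Matrix.SpecialLinearGroup (Fin 2) k, FreeGroup.lift f w' ≠ 1 := by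
    intro k _ _ hk
    obtain ⟨f, hf⟩ := hN₁ k ((le_max_left _ _).trans hk)
    choose f' hf' using fun i => QuotientGroup.mk'_surjective
      (Subgroup.center (Matrix.SpecialLinearGroup (Fin 2) k)) (f i)
    refine ⟨f', fun e => hf ?_⟩
    rw [show FreeGroup.lift f = (QuotientGroup.mk' _).comp (FreeGroup.lift f') from
      FreeGroup.ext_hom _ _ fun i => by simp [← hf'], MonoidHom.comp_apply, e, map_one]
  have perf : ∀ (k : Type) [Field k] [Fintype k], L ≤ Fintype.card k →
      commutator (Matrix.SpecialLinearGroup (Fin 2) k) = ⊤ := fun k _ _ hk =>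
    Classical.SL_commutator_eq_top fun _ =>
      Classical.exists_sq_ne_one_field ((le_max_right _ _).trans hk)
  have hperfP : commutator (Matrix.ProjectiveSpecialLinearGroup (Fin 2) (ZMod p)) = ⊤ := by
    have h := perf (ZMod p) (by rw [ZMod.card]; exact hp)
    have hs := QuotientGroup.mk'_surjective
      (Subgroup.center (Matrix.SpecialLinearGroup (Fin 2) (ZMod p)))
    rw [commutator_def] at h ⊢
    have h2 := congrArg (Subgroup.map (QuotientGroup.mk'
      (Subgroup.center (Matrix.SpecialLinearGroup (Fin 2) (ZMod p))))) h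
    rw [Subgroup.map_commutator, Subgroup.map_top_of_surjective _ hs] at h2
    exact h2
  have emb : ∀ (F : Type) [Field F] [Fintype F] (r : ℕ), L ≤ Fintype.card F ∨ M₀ ≤ 2 + r →
      ∃ (X : Type) (_ : Group X) (φ : X →* Matrix.SpecialLinearGroup (Fin (2 + r)) F) (f : ℕ → X),
        commutator X = ⊤ ∧ Function.Injective φ ∧ FreeGroup.lift f w' ≠ 1 := by
    intro F _ _ r h
    rcases h with h | h
    · obtain ⟨f, hf⟩ := slFail F h
      exact ⟨_, inferInstance, Lie.Law.slBlock r, f, perf F h, Lie.Law.slBlock_injective r, hf⟩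
    · obtain ⟨f, hf⟩ := hN₁ (ZMod p) (by rw [ZMod.card]; exact (le_max_left _ _).trans hp)
      obtain ⟨θ, hθ⟩ := Lie.Law.exists_alt_embedding
        (Matrix.ProjectiveSpecialLinearGroup (Fin 2) (ZMod p)) ((le_max_left _ _).trans h)
      exact ⟨_, inferInstance, (Lie.Law.altMat (2 + r)).comp θ, f, hperfP,
        (Lie.Law.altMat_injective _).comp hθ, hf⟩
  have transfer : ∀ (P : Type) [Group P], Nonempty (G ≃* P) → ∀ g : ℕ → P,
      FreeGroup.lift g w = 1 := by
    rintro P _ ⟨e⟩ g
    have h := congrArg e (hlaw fun i => e.symm (g i))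
    rw [map_one, show e (FreeGroup.lift (fun i => e.symm (g i)) w) =
      (e.toMonoidHom.comp (FreeGroup.lift fun i => e.symm (g i))) w from rfl] at h
    rwa [show e.toMonoidHom.comp (FreeGroup.lift fun i => e.symm (g i)) = FreeGroup.lift g from
      FreeGroup.ext_hom _ _ fun i => by simp] at h
  have bnd : ∀ (F : Type) [Field F] [Fintype F] (s : ℕ), Fintype.card F < L ^ 2 + 1 →
      s ≤ 2 * M₀ + 2 → Fintype.card F ^ (s * s) ≤
        max A₀.factorial ((L ^ 2) ^ ((2 * M₀ + 2) * (2 * M₀ + 2))) := by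
    intro F _ _ s h1 h2
    refine le_max_of_le_right ((Nat.pow_le_pow_left (show Fintype.card F ≤ L ^ 2 by omega) _).trans ?_)
    exact Nat.pow_le_pow_right (Nat.pow_pos (by omega)) (Nat.mul_le_mul h2 h2)
  have hLL : L ≤ L ^ 2 := Nat.le_self_pow two_ne_zero L
  rcases hG with ⟨n, -, he⟩ | ⟨F, iF, iF', n, hn, -, he⟩ | ⟨F, iF, iF', m, hm, -, he⟩ |
    ⟨F, iF, iF', n, q, hq, hn, -, he⟩ | ⟨F, iF, iF', m, hm, -, he⟩ | ⟨F, iF, iF', m, hm, he⟩ |
    ⟨F, iF, iF', m, a, b, hm, -, he⟩
  · by_cases hn : A₀ ≤ n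
    · obtain ⟨f, hf⟩ := hA₀ n hn
      exact absurd (transfer _ he f) hf
    · obtain ⟨e⟩ := he
      refine le_max_of_le_left ?_
      rw [Nat.card_congr e.toEquiv]
      refine (Subgroup.card_le_card_group _).trans ?_
      rw [Nat.card_perm, Nat.card_eq_fintype_card, Fintype.card_fin]
      exact Nat.factorial_le (by omega)
  · obtain ⟨r, rfl⟩ := Nat.exists_eq_add_of_le hn
    by_cases h : L ≤ Fintype.card F ∨ M₀ ≤ 2 + r
    · obtain ⟨X, _, φ, f, -, hφ, hf⟩ := emb F r h
      obtain ⟨g, hg⟩ := Lie.Law.fails_of_embedding φ hφ hf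
      exact absurd (transfer _ he g) hg
    · push Not at h
      obtain ⟨e⟩ := he
      refine le_trans ?_ (bnd F (2 + r) (by omega) (by omega))
      rw [Nat.card_congr e.toEquiv]
      simpa using Lie.Law.natCard_le_matrix (G := Matrix.ProjectiveSpecialLinearGroup (Fin (2 + r)) F)
        (QuotientGroup.mk' _) (QuotientGroup.mk'_surjective _) _ Lie.Law.sl_injective_toMat
  · obtain ⟨r, rfl⟩ := Nat.exists_eq_add_of_le hm
    by_cases h : L ≤ Fintype.card F ∨ M₀ ≤ 2 + r
    · obtain ⟨X, _, φ, f, -, hφ, hf⟩ := emb F r h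
      obtain ⟨g, hg⟩ := Lie.Law.fails_of_embedding
        (((Classical.sympLevi (2 + r)).comp Matrix.SpecialLinearGroup.toGL).comp φ)
        ((Classical.sympLevi_injective _).comp
          (Matrix.SpecialLinearGroup.toGL_injective.comp hφ)) hf
      exact absurd (transfer _ he g) hg
    · push Not at h
      obtain ⟨e⟩ := he
      refine le_trans ?_ (bnd F (2 * (2 + r)) (by omega) (by omega))
      rw [Nat.card_congr e.toEquiv]
      refine (Lie.Law.natCard_le_matrix (G := Cfsg.PSp (2 + r) F)
        (QuotientGroup.mk' _) (QuotientGroup.mk'_surjective _) Subtype.val Subtype.val_injective).trans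
        (le_of_eq ?_)
      rw [Fintype.card_sum, Fintype.card_fin]; ring_nf
  · obtain ⟨r, rfl⟩ := Nat.exists_eq_add_of_le (show 2 ≤ n by omega)
    by_cases h : M₀ ≤ 2 + r
    · obtain ⟨f, hf⟩ := hN₁ (ZMod p) (by rw [ZMod.card]; exact (le_max_left _ _).trans hp)
      obtain ⟨θ, hθ⟩ := Lie.Law.exists_alt_embedding
        (Matrix.ProjectiveSpecialLinearGroup (Fin 2) (ZMod p)) ((le_max_left _ _).trans h)
      obtain ⟨g, hg⟩ := Lie.Law.fails_of_embedding ((Lie.Law.altSU hq (2 + r)).comp θ)
        ((Lie.Law.altSU_injective hq _).comp hθ) hf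
      exact absurd (transfer _ he g) hg
    · by_cases h' : L ≤ q
      · letI : Fintype (Lie.Law.fixF hq) := Fintype.ofFinite _
        obtain ⟨f, hf⟩ := slFail (Lie.Law.fixF hq)
          (by rw [← Nat.card_eq_fintype_card, Lie.Law.card_fixF hq]; exact h')
        obtain ⟨φ, hφ⟩ := Lie.Law.exists_sl2_SU hq r
        obtain ⟨g, hg⟩ := Lie.Law.fails_of_embedding φ hφ hf
        exact absurd (transfer _ he g) hg
      · obtain ⟨e⟩ := he
        have : q ^ 2 ≤ L ^ 2 := Nat.pow_le_pow_left (by omega) 2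
        refine le_trans ?_ (bnd F (2 + r) (by omega) (by omega))
        rw [Nat.card_congr e.toEquiv]
        simpa using Lie.Law.natCard_le_matrix (G := Cfsg.PSU (2 + r) F q)
          (QuotientGroup.mk' _) (QuotientGroup.mk'_surjective _) _
          (Lie.Law.sl_injective_toMat.comp Subtype.val_injective)
  · obtain ⟨r, rfl⟩ := Nat.exists_eq_add_of_le (show 2 ≤ m by omega)
    by_cases h : L ≤ Fintype.card F ∨ M₀ ≤ 2 + r
    · obtain ⟨X, _, φ, f, hX, hφ, hf⟩ := emb F r h
      obtain ⟨g, hg⟩ := Lie.Law.fails_of_embedding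
        (Lie.Law.toCommutator (((Lie.Law.toOOdd (2 + r)).comp Matrix.SpecialLinearGroup.toGL).comp φ) hX)
        (Lie.Law.toCommutator_injective _ (fun x y e => hφ (Matrix.SpecialLinearGroup.toGL_injective
          ((Lie.Law.toOOdd_injective (2 + r)) e))) hX) hf
      exact absurd (transfer _ he g) hg
    · push Not at h
      obtain ⟨e⟩ := he
      refine le_trans ?_ (bnd F (1 + 2 * (2 + r)) (by omega) (by omega))
      rw [Nat.card_congr e.toEquiv]
      refine (Lie.Law.natCard_le_matrix (G := Cfsg.POmega F (Cfsg.quadFormOdd (2 + r) F))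
        (QuotientGroup.mk' _) (QuotientGroup.mk'_surjective _) _
        (Units.val_injective.comp (Subtype.val_injective.comp Subtype.val_injective))).trans
        (le_of_eq ?_)
      rw [Fintype.card_sum, Fintype.card_sum, Fintype.card_fin, Fintype.card_unit]; ring_nf
  · obtain ⟨r, rfl⟩ := Nat.exists_eq_add_of_le (show 2 ≤ m by omega)
    by_cases h : L ≤ Fintype.card F ∨ M₀ ≤ 2 + r
    · obtain ⟨X, _, φ, f, hX, hφ, hf⟩ := emb F r h
      obtain ⟨g, hg⟩ := Lie.Law.fails_of_embedding
        (Lie.Law.toCommutator (((Lie.Law.toOPlus (2 + r)).comp Matrix.SpecialLinearGroup.toGL).comp φ) hX)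
        (Lie.Law.toCommutator_injective _ (fun x y e => hφ (Matrix.SpecialLinearGroup.toGL_injective
          ((Lie.Law.toOPlus_injective (2 + r)) e))) hX) hf
      exact absurd (transfer _ he g) hg
    · push Not at h
      obtain ⟨e⟩ := he
      refine le_trans ?_ (bnd F (2 * (2 + r)) (by omega) (by omega))
      rw [Nat.card_congr e.toEquiv]
      refine (Lie.Law.natCard_le_matrix (G := Cfsg.POmega F (Cfsg.quadFormPlus (2 + r) F))
        (QuotientGroup.mk' _) (QuotientGroup.mk'_surjective _) _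
        (Units.val_injective.comp (Subtype.val_injective.comp Subtype.val_injective))).trans
        (le_of_eq ?_)
      rw [Fintype.card_sum, Fintype.card_fin]; ring_nf
  · obtain ⟨r, rfl⟩ : ∃ r, m = 2 + r + 1 := ⟨m - 3, by omega⟩
    replace he : Nonempty (G ≃* Cfsg.POmega F (Cfsg.quadFormMinus (2 + r) F a b)) := he
    by_cases h : L ≤ Fintype.card F ∨ M₀ ≤ 2 + r
    · obtain ⟨X, _, φ, f, hX, hφ, hf⟩ := emb F r h
      obtain ⟨g, hg⟩ := Lie.Law.fails_of_embedding
        (Lie.Law.toCommutator (((Lie.Law.toOMinus (2 + r) a b).comp Matrix.SpecialLinearGroup.toGL).comp φ) hX)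
        (Lie.Law.toCommutator_injective _ (fun x y e => hφ (Matrix.SpecialLinearGroup.toGL_injective
          ((Lie.Law.toOMinus_injective (2 + r) a b) e))) hX) hf
      exact absurd (transfer _ he g) hg
    · push Not at h
      obtain ⟨e⟩ := he
      refine le_trans ?_ (bnd F (2 * (2 + r) + 2) (by omega) (by omega))
      rw [Nat.card_congr e.toEquiv]
      refine (Lie.Law.natCard_le_matrix (G := Cfsg.POmega F (Cfsg.quadFormMinus (2 + r) F a b))
        (QuotientGroup.mk' _) (QuotientGroup.mk'_surjective _) _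
        (Units.val_injective.comp (Subtype.val_injective.comp Subtype.val_injective))).trans
        (le_of_eq ?_)
      rw [Fintype.card_sum, Fintype.card_sum, Fintype.card_fin, Fintype.card_fin]; ring_nf

end Cfsg.Agent.S2355
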