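import Cfsg.Statements.S2357
import Cfsg.Agent.Lib.Lie.Chev.ReeToral

set_option autoImplicit false
open Cfsg

namespace Cfsg.Agent.S2357

/-- Let R be the small Ree group over the field with q = 3^(2m+1) ≥ 27 elements and write φ for Euler's totient function. Then R has exactly q²(q²−q+1) involutions, (q²−1)(q³+1) elements of order 3, and q²(q−1)(q³+1) elements of order 6 and as many of order 9; for i > 2 dividing q−1 it has φ(i)q³(q³+1)/2 elements of order i; for i > 1 dividing (q+1)/4 it has φ(i)q³(q−1)(q²−q+1)/6 elements of order i and φ(i)q³(q−1)(q²−q+1)/2 elements of order 2i; and for i > 1 dividing q − 3^(m+1) + 1 (respectively q + 3^(m+1) + 1) it has φ(i)q³(q²−1)(q + 3^(m+1) + 1)/6 (respectively φ(i)q³(q²−1)(q − 3^(m+1) + 1)/6) elements of order i. -/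
theorem result {K : Type*} [Field K] [Fintype K] {m : ℕ} (hm : 1 ≤ m)
    (hK : Fintype.card K = 3 ^ (2 * m + 1)) :
    Nat.card {g : ↥(Cfsg.Lie.twistedG2 K (3 ^ m)) // orderOf g = 2} = (3 ^ (2 * m + 1)) ^ 2 * ((3 ^ (2 * m + 1)) ^ 2 - 3 ^ (2 * m + 1) + 1) ∧
    Nat.card {g : ↥(Cfsg.Lie.twistedG2 K (3 ^ m)) // orderOf g = 3} = ((3 ^ (2 * m + 1)) ^ 2 - 1) * ((3 ^ (2 * m + 1)) ^ 3 + 1) ∧
    Nat.card {g : ↥(Cfsg.Lie.twistedG2 K (3 ^ m)) // orderOf g = 6} = (3 ^ (2 * m + 1)) ^ 2 * (3 ^ (2 * m + 1) - 1) * ((3 ^ (2 * m + 1)) ^ 3 + 1) ∧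
    Nat.card {g : ↥(Cfsg.Lie.twistedG2 K (3 ^ m)) // orderOf g = 9} = (3 ^ (2 * m + 1)) ^ 2 * (3 ^ (2 * m + 1) - 1) * ((3 ^ (2 * m + 1)) ^ 3 + 1) ∧
    (∀ i : ℕ, 2 < i → i ∣ 3 ^ (2 * m + 1) - 1 →
      2 * Nat.card {g : ↥(Cfsg.Lie.twistedG2 K (3 ^ m)) // orderOf g = i} = Nat.totient i * (3 ^ (2 * m + 1)) ^ 3 * ((3 ^ (2 * m + 1)) ^ 3 + 1)) ∧
    (∀ i : ℕ, 1 < i → i ∣ (3 ^ (2 * m + 1) + 1) / 4 →
      6 * Nat.card {g : ↥(Cfsg.Lie.twistedG2 K (3 ^ m)) // orderOf g = i} =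
          Nat.totient i * (3 ^ (2 * m + 1)) ^ 3 * (3 ^ (2 * m + 1) - 1) * ((3 ^ (2 * m + 1)) ^ 2 - 3 ^ (2 * m + 1) + 1) ∧
        2 * Nat.card {g : ↥(Cfsg.Lie.twistedG2 K (3 ^ m)) // orderOf g = 2 * i} =
          Nat.totient i * (3 ^ (2 * m + 1)) ^ 3 * (3 ^ (2 * m + 1) - 1) * ((3 ^ (2 * m + 1)) ^ 2 - 3 ^ (2 * m + 1) + 1)) ∧
    (∀ i : ℕ, 1 < i → i ∣ 3 ^ (2 * m + 1) - 3 ^ (m + 1) + 1 →
      6 * Nat.card {g : ↥(Cfsg.Lie.twistedG2 K (3 ^ m)) // orderOf g = i} =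
        Nat.totient i * (3 ^ (2 * m + 1)) ^ 3 * ((3 ^ (2 * m + 1)) ^ 2 - 1) * (3 ^ (2 * m + 1) + 3 ^ (m + 1) + 1)) ∧
    (∀ i : ℕ, 1 < i → i ∣ 3 ^ (2 * m + 1) + 3 ^ (m + 1) + 1 →
      6 * Nat.card {g : ↥(Cfsg.Lie.twistedG2 K (3 ^ m)) // orderOf g = i} =
        Nat.totient i * (3 ^ (2 * m + 1)) ^ 3 * ((3 ^ (2 * m + 1)) ^ 2 - 1) * (3 ^ (2 * m + 1) - 3 ^ (m + 1) + 1)) := by
  haveI : Fact (Nat.Prime 3) := ⟨Nat.prime_three⟩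
  obtain ⟨_, _, f, hf⟩ := Cfsg.Agent.Lie.Chev.exists_isoFrob Nat.prime_three hK
  obtain ⟨P, Q, tP, tQ, hprod, -⟩ := Cfsg.Agent.Lie.Chev.G2.exists_toral_hall f hf hK hm
  have hq := Cfsg.Agent.Lie.Chev.G2.q_large m hm
  have hG := Cfsg.Agent.Lie.Chev.G2.card_G f hf hK
  refine ⟨Cfsg.Agent.Lie.Chev.G2.card_order_two f hf hK hm, Cfsg.Agent.Lie.Chev.G2.card_orderOf_three f hf hK,
    Cfsg.Agent.Lie.Chev.G2.card_orderOf_six f hf hK hm, Cfsg.Agent.Lie.Chev.G2.card_orderOf_nine f hf hK, fun i hi hd => ?_,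
    fun i hi hd => ⟨?_, ?_⟩, fun i hi hd => ?_, fun i hi hd => ?_⟩
  · refine Nat.eq_of_mul_eq_mul_right (m := 3 ^ (2 * m + 1) - 1) (by omega) ?_
    have h := Cfsg.Agent.Lie.Chev.G2.card_orderOf_minus f hf hK hm hi hd
    rw [hG, ← Cfsg.Agent.Lie.Chev.G2.phi_mul m] at *
    linear_combination h
  · obtain ⟨A, tA⟩ := Cfsg.Agent.Lie.Chev.G2.exists_toral_plus f hf hK hm
    refine Nat.eq_of_mul_eq_mul_right (m := 3 ^ (2 * m + 1) + 1) (by omega) ?_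
    have h := Cfsg.Agent.Lie.Chev.G2.card_toral_orderOf f hf hK hm tA hi hd
    rw [hG] at h
    linear_combination h
  · have h := Cfsg.Agent.Lie.Chev.G2.card_orderOf_plus f hf hK hm (i := 2 * i) (by omega) (mul_dvd_mul_left 2 hd)
    rw [Cfsg.Agent.Lie.Chev.G2.card_torG_two_mul f hf hK hm hd, hG] at h
    refine Nat.eq_of_mul_eq_mul_right (m := 3 * (3 ^ (2 * m + 1) + 1)) (by omega) ?_
    linear_combination h
  · have h := Cfsg.Agent.Lie.Chev.G2.card_toral_orderOf f hf hK hm tP hi hd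
    rw [hG, show (3 ^ (2 * m + 1)) ^ 2 - 3 ^ (2 * m + 1) + 1 = _ from hprod.symm] at h
    refine Nat.eq_of_mul_eq_mul_right (m := 3 ^ (2 * m + 1) - 3 ^ (m + 1) + 1) (Nat.succ_pos _) ?_
    rw [show (3 ^ (2 * m + 1)) ^ 2 - 1 = (3 ^ (2 * m + 1) + 1) * (3 ^ (2 * m + 1) - 1) from
      Nat.sq_sub_sq _ 1]
    linear_combination h
  · have h := Cfsg.Agent.Lie.Chev.G2.card_toral_orderOf f hf hK hm tQ hi hd
    rw [hG, show (3 ^ (2 * m + 1)) ^ 2 - 3 ^ (2 * m + 1) + 1 = _ from hprod.symm] at h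
    refine Nat.eq_of_mul_eq_mul_right (m := 3 ^ (2 * m + 1) + 3 ^ (m + 1) + 1) (Nat.succ_pos _) ?_
    rw [show (3 ^ (2 * m + 1)) ^ 2 - 1 = (3 ^ (2 * m + 1) + 1) * (3 ^ (2 * m + 1) - 1) from
      Nat.sq_sub_sq _ 1]
    linear_combination h

end Cfsg.Agent.S2357
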