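import Cfsg.Statements.S2362
import Cfsg.Agent.Lib.Lie.OrthSpectrumOdd
import Cfsg.Agent.Lib.Classical.SympOrders
import Cfsg.Agent.Lib.Recog.Zsigmondy

set_option autoImplicit false
open Cfsg

namespace Cfsg.Agent.S2362

/-- Let F be a finite field of odd order and n ≥ 3. The simple orthogonal group PΩ(2n+1, F) (type B_n) and the projective symplectic group PSp(2n, F) (type C_n), which have the same order, do not have the same set of element orders. -/
theorem result {F : Type*} [Field F] [Fintype F] (hodd : Odd (Fintype.card F)) (n : ℕ) (hn : 3 ≤ n) :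
    Set.range (orderOf : Cfsg.POmega F (Cfsg.quadFormOdd n F) → ℕ) ≠ Set.range (orderOf : Cfsg.PSp n F → ℕ) := by
  classical
  obtain ⟨p, hp⟩ := CharP.exists F
  haveI := hp
  haveI : Fact p.Prime := ⟨CharP.char_is_prime F p⟩
  have h2 : (2 : F) ≠ 0 := Ring.two_ne_zero fun h => by
    have := FiniteField.even_card_of_char_two h
    rw [Nat.odd_iff] at hodd
    omega
  set q := Fintype.card F with hq
  have hq3 : 3 ≤ q := by
    have := Fintype.one_lt_card (α := F)
    rw [Nat.odd_iff] at hodd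
    omega
  obtain ⟨m, rfl⟩ : ∃ m, n = m + 1 := ⟨n - 1, by omega⟩
  obtain ⟨e, r, hr, hr2, hcase, x, hx⟩ : ∃ e r : ℕ, r.Prime ∧ r ≠ 2 ∧
      ((q ^ m % 4 = 1 ∧ e = q ^ m + 1 ∧ r ∣ q ^ (2 * m) - 1 ∧
          (∀ i, 1 ≤ i → i < 2 * m → ¬ r ∣ q ^ i - 1)) ∨
        (q ^ m % 4 = 3 ∧ e = q ^ m - 1 ∧ Odd m ∧ r ∣ q ^ m - 1 ∧
          (∀ i, 1 ≤ i → i < m → ¬ r ∣ q ^ i - 1))) ∧
      ∃ x : Matrix.symplecticGroup (Fin m) F, orderOf x = e := by
    have hqodd : Odd (q ^ m) := hodd.pow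
    have hne2 : ∀ {i r : ℕ}, 1 < i → (∀ j, 1 ≤ j → j < i → ¬ r ∣ q ^ j - 1) → r ≠ 2 := by
      intro i r hi hmin h
      refine hmin 1 le_rfl hi ?_
      rw [Nat.odd_iff] at hodd
      rw [h, pow_one]
      omega
    rcases (show q ^ m % 4 = 1 ∨ q ^ m % 4 = 3 by rw [Nat.odd_iff] at hqodd; omega) with h | h
    · obtain ⟨r, hr, hd, hmin⟩ := Cfsg.Agent.Recog.Zsigmondy.exists_primitive (a := q) (n := 2 * m)
        (by omega) (by omega) (by omega) (by omega)
      exact ⟨_, r, hr, hne2 (i := 2 * m) (by omega) hmin, Or.inl ⟨h, rfl, hd, hmin⟩,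
        Cfsg.Agent.Classical.exists_symp_order_add h2 (by omega)⟩
    · have hm : Odd m := by
        rcases Nat.even_or_odd m with ⟨k, hk⟩ | hm
        · exfalso
          rw [Nat.odd_iff] at hodd
          rw [hk, ← two_mul, pow_mul, Nat.pow_mod, Nat.pow_mod q] at h
          rcases (show q % 4 = 1 ∨ q % 4 = 3 by omega) with e | e <;> rw [e] at h <;> norm_num at h
        · exact hm
      have hm2 : m % 2 = 1 := Nat.odd_iff.1 hm
      obtain ⟨r, hr, hd, hmin⟩ := Cfsg.Agent.Recog.Zsigmondy.exists_primitive (a := q) (n := m)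
        (by omega) (by omega) (by omega) (by omega)
      exact ⟨_, r, hr, hne2 (i := m) (by omega) hmin, Or.inr ⟨h, rfl, hm, hd, hmin⟩,
        Cfsg.Agent.Classical.exists_symp_order_sub (by omega)⟩
  have hp2 : p ≠ 2 := fun h => h2 (by subst h; exact_mod_cast CharP.cast_eq_zero F 2)
  obtain ⟨z, hz⟩ := Cfsg.Agent.Classical.exists_symp_regular_unipotent (F := F) p (j := 1) le_rfl
  have hclog : Nat.clog p (2 * 1) = 1 := by
    refine le_antisymm (Nat.clog_le_of_le_pow (by rw [pow_one]; exact (Fact.out : p.Prime).two_le)) ?_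
    exact Nat.clog_pos (Fact.out : p.Prime).one_lt (by norm_num)
  rw [hclog, pow_one] at hz
  obtain ⟨y, hy⟩ := Cfsg.Agent.Classical.exists_psp_lcm h2 (rfl : m + 1 = m + 1) le_rfl x z
    (by rw [hz]; exact (Fact.out : p.Prime).odd_of_ne_two hp2)
  obtain ⟨a, -, ha⟩ := FiniteField.card F p
  have hcop : Nat.Coprime e p := by
    refine Nat.Coprime.symm ((Fact.out : p.Prime).coprime_iff_not_dvd.2 fun hd => ?_)
    have hpq : p ∣ q ^ m := hq ▸ ha ▸ dvd_pow (dvd_pow_self p a.pos.ne') (by omega)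
    rcases hcase with ⟨-, rfl, -⟩ | ⟨-, rfl, -⟩
    · exact (Fact.out : p.Prime).one_lt.ne' (Nat.dvd_one.1 ((Nat.dvd_add_right hpq).1 hd))
    · have h3 := Nat.dvd_sub hpq hd
      rw [Nat.sub_sub_self (Nat.one_le_pow _ _ (by omega))] at h3
      exact (Fact.out : p.Prime).one_lt.ne' (Nat.dvd_one.1 h3)
  rw [hx, hz, hcop.lcm_eq_mul] at hy
  intro heq
  have hmem : e * p ∈ Set.range (orderOf : Cfsg.PSp (m + 1) F → ℕ) :=
    ⟨y ^ (orderOf y / (e * p)), orderOf_pow_orderOf_div (orderOf_pos y).ne' hy⟩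
  rw [← heq] at hmem
  obtain ⟨w, hw⟩ := hmem
  obtain ⟨s, rfl⟩ := QuotientGroup.mk'_surjective _ w
  have hs : e * p ∣ orderOf s := hw ▸ orderOf_map_dvd _ s
  have ho := orderOf_pow_orderOf_div (orderOf_pos s).ne' hs
  generalize s ^ (orderOf s / (e * p)) = t at ho
  rw [← orderOf_injective (Cfsg.Omega F (Cfsg.quadFormOdd (m + 1) F)).subtype Subtype.val_injective,
    mul_comm] at ho
  obtain ⟨t, ht⟩ := t
  haveI : Fact r.Prime := ⟨hr⟩
  have key : ∀ (f : (Unit ⊕ (Fin (m + 1) ⊕ Fin (m + 1)) → F) → F) (_ : f = ⇑(Cfsg.Agent.Classical.qfOdd (m + 1) F))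
      (t : Cfsg.isometryGroup F f), t ∈ Cfsg.Omega F f → orderOf t ≠ p * e := by
    rintro _ rfl t ht
    have hQ := Cfsg.Agent.Classical.nondegenerate_qfOdd (F := F) (m + 1) h2
    have hG := Cfsg.Agent.Classical.OrthAut.genQ_odd (Q := Cfsg.Agent.Classical.qfOdd (m + 1) F) hQ h2
    exact Cfsg.Agent.Lie.OrthSpectrumOdd.no_order hQ h2 (m := m) (by omega) (by simp; omega) hr2 hcase t
      ((Cfsg.Agent.Classical.OrthAut.mem_omega_gen hQ hG t).1 ht).2
      (Cfsg.Agent.Classical.OrthAut.det_omega ht)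
  exact key _ (Cfsg.Agent.Classical.coe_qfOdd (m + 1)).symm t ht ho

end Cfsg.Agent.S2362
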