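import Cfsg.Statements.S2363
import Cfsg.Agent.Lib.Lie.OrderBound
import Cfsg.Agent.Lib.Lie.OrderBoundOrth
import Cfsg.Agent.Lib.Classical.OrthCount
import Cfsg.Agent.Lib.Classical.OrthGenModels
import Cfsg.Agent.Lib.Classical.PSpAutCard
import Cfsg.Agent.S0243
import Cfsg.Agent.S0280
import Cfsg.Agent.S0286
import Cfsg.Agent.S0287
import Cfsg.Agent.S0288
import Cfsg.Agent.S1059
import Cfsg.Agent.S1062
import Cfsg.Agent.S1063
import Cfsg.Agent.S1064
import Cfsg.Agent.S1065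
import Cfsg.Agent.S1066
import Cfsg.Agent.S1067
import Cfsg.Agent.S1068
import Cfsg.Agent.S1069
import Cfsg.Agent.S1163
-- import your own Cfsg.Agent.* helpers here

set_option autoImplicit false
open Cfsg

namespace Cfsg.Agent.S2363

open Cfsg.Agent.Lie.OrderBound in
theorem psl {F : Type} [Field F] [Fintype F] {p : ℕ} [CharP F p] (hp : p.Prime) (n : ℕ) (hn : 2 ≤ n)
    {g : ℕ} (hg : Nat.card (Matrix.ProjectiveSpecialLinearGroup (Fin n) F) = g) (hg0 : g ≠ 0) :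
    g < p ^ (3 * g.factorization p) ∧
      ((n = 2 ∧ Fintype.card F = p ^ g.factorization p) ∨ g ^ 3 < p ^ (8 * g.factorization p)) := by
  obtain ⟨f, hf, hq⟩ := exists_q (F := F) p
  have h := Cfsg.Agent.S0243.result (F := F) rfl n hn
  rw [hg, prod_pow_sub] at h
  obtain ⟨j, rfl⟩ : ∃ j, n = j + 2 := ⟨n - 2, by omega⟩
  rw [Finset.prod_range_succ' _ (j + 1)] at h
  have hq2 : 2 ≤ Fintype.card F := Fintype.one_lt_card
  have h' : Nat.gcd (j + 2) (Fintype.card F - 1) * g =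
      Fintype.card F ^ (∑ i ∈ Finset.range (j + 2), i) *
        ∏ i ∈ Finset.range (j + 1), (Fintype.card F ^ (i + 2) - 1) := by
    refine Nat.eq_of_mul_eq_mul_left (show 0 < Fintype.card F - 1 by omega) ?_
    simp only [zero_add, pow_one] at h
    calc _ = Nat.gcd (j + 2) (Fintype.card F - 1) * ((Fintype.card F - 1) * g) := by ring
      _ = _ := by rw [h]; ring
  have hc : ¬ p ∣ Nat.gcd (j + 2) (Fintype.card F - 1) := hq ▸ not_dvd_gcd_sub_one hp hf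
  have hs := Finset.sum_range_id_mul_two (j + 2)
  have hN : 2 * (∑ i ∈ Finset.range (j + 2), i) = (j + 2) * (j + 1) := by
    rw [show j + 2 - 1 = j + 1 by omega] at hs; omega
  obtain ⟨b1, b2⟩ := bound hp hq hg0 h' hc (prod_linear_lt hq2 j) (by
    have : (j + 1) * (j + 4) = (j + 2) * (j + 1) + 2 * (j + 1) := by ring
    have : 2 * (j + 1) ≤ (j + 2) * (j + 1) := Nat.mul_le_mul_right _ (by omega)
    omega)
  refine ⟨b1, ?_⟩
  rcases Nat.eq_zero_or_pos j with rfl | hj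
  · refine Or.inl ⟨rfl, ?_⟩
    have hP : ¬ p ∣ Fintype.card F ^ 2 - 1 := fun hd =>
      not_dvd_gcd_sub_one (n := p) (f := f * 2) hp (by omega)
        (Nat.dvd_gcd dvd_rfl (by rwa [pow_mul, ← hq]))
    have := factorization_eq_of_mul (f := f) (P := Fintype.card F ^ 2 - 1) hp hg0 hc hP (by
      rw [h', ← hq]; simp [Finset.sum_range_succ])
    rw [this, hq]
  · refine Or.inr (b2 ?_)
    have : (j + 1) * (j + 4) = (j + 2) * (j + 1) + 2 * (j + 1) := by ring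
    have : 3 * (j + 1) ≤ (j + 2) * (j + 1) := Nat.mul_le_mul_right _ (by omega)
    omega

open Cfsg.Agent.Lie.OrderBound in
theorem psp {F : Type} [Field F] [Fintype F] {p : ℕ} [CharP F p] (hp : p.Prime) (m : ℕ) (hm : 2 ≤ m)
    {g : ℕ} (hg : Nat.card (Cfsg.PSp m F) = g) (hg0 : g ≠ 0) :
    g < p ^ (3 * g.factorization p) ∧ g ^ 3 < p ^ (8 * g.factorization p) := by
  haveI := Fact.mk hp
  obtain ⟨f, hf, hq⟩ := exists_q (F := F) p
  have h := Cfsg.Agent.Classical.PSpAut.natCard_sp_eq (F := F) (p := p) (m := m) (by omega) (by omega) hq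
  rw [hg, Cfsg.Agent.Classical.natCard_symplecticGroup, Nat.card_eq_fintype_card] at h
  obtain ⟨j, rfl⟩ : ∃ j, m = j + 1 := ⟨m - 1, by omega⟩
  obtain ⟨b1, b2⟩ := bound hp hq hg0 h.symm (not_dvd_gcd_sub_one hp hf)
    (prod_two_mul_lt Fintype.one_lt_card j) (by nlinarith)
  exact ⟨b1, b2 (by nlinarith)⟩

open Cfsg.Agent.Lie.OrderBound in
theorem psu {F : Type} [Field F] [Fintype F] {p : ℕ} [CharP F p] (hp : p.Prime) (n q : ℕ)
    (hF : Fintype.card F = q ^ 2) (hn : 3 ≤ n) {g : ℕ} (hg : Nat.card (Cfsg.PSU n F q) = g)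
    (hg0 : g ≠ 0) : g < p ^ (3 * g.factorization p) ∧ g ^ 3 < p ^ (8 * g.factorization p) := by
  obtain ⟨f2, hf2, hq2⟩ := exists_q (F := F) p
  obtain ⟨f, -, hq⟩ := (Nat.dvd_prime_pow hp).1 (show q ∣ p ^ f2 by rw [← hq2, hF]; exact dvd_pow_self q two_ne_zero)
  have hq1 : 2 ≤ q := by
    have := Fintype.one_lt_card (α := F)
    rw [hF] at this
    nlinarith
  have hf : 1 ≤ f := by
    rcases Nat.eq_zero_or_pos f with rfl | h
    · simp at hq; omega
    · exact h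
  have h := Cfsg.Agent.S0280.result (F := F) hF n (by omega)
  rw [hg] at h
  obtain ⟨j, rfl⟩ : ∃ j, n = j + 2 := ⟨n - 2, by omega⟩
  rw [Finset.prod_range_succ' _ (j + 1)] at h
  have h' : Nat.gcd (j + 2) (q + 1) * g = q ^ ((j + 2) * (j + 2 - 1) / 2) * unitProd q (j + 1) := by
    refine Nat.eq_of_mul_eq_mul_left (show 0 < q + 1 by omega) ?_
    simp only [zero_add, pow_one, if_pos Even.zero] at h
    calc _ = Nat.gcd (j + 2) (q + 1) * ((q + 1) * g) := by ring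
      _ = _ := by rw [h, unitProd]; ring
  obtain ⟨b1, b2⟩ := bound hp hq hg0 h' (hq ▸ not_dvd_gcd_add_one hp hf) (unitProd_lt hq1 j) (by
    rw [show j + 2 - 1 = j + 1 by omega]
    have : (j + 1) * (j + 4) = (j + 2) * (j + 1) + 2 * (j + 1) := by ring
    have : 3 * (j + 1) ≤ (j + 2) * (j + 1) := Nat.mul_le_mul_right _ (by omega)
    omega)
  refine ⟨b1, b2 ?_⟩
  rw [show j + 2 - 1 = j + 1 by omega]
  have e1 : (j + 1) * (j + 4) = (j + 2) * (j + 1) + 2 * (j + 1) := by ring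
  have : 3 * (j + 1) ≤ (j + 2) * (j + 1) := Nat.mul_le_mul_right _ (by omega)
  obtain ⟨k, hk⟩ := Nat.even_mul_succ_self (j + 1)
  have hk' : (j + 2) * (j + 1) = 2 * k := by rw [mul_comm, hk, two_mul]
  omega

open Cfsg.Agent.Lie.OrderBound in
theorem orth {F : Type} [Field F] [Fintype F] {p : ℕ} [CharP F p] (hp : p.Prime) {g c N M P : ℕ}
    (hg0 : g ≠ 0) (hc : ¬ p ∣ c) (h : c * g * 2 = 2 * Fintype.card F ^ N * P)
    (hP : P < Fintype.card F ^ M) (h1 : M ≤ 2 * N) (h2 : 3 * M ≤ 5 * N) :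
    g < p ^ (3 * g.factorization p) ∧ g ^ 3 < p ^ (8 * g.factorization p) := by
  obtain ⟨f, -, hq⟩ := exists_q (F := F) p
  obtain ⟨b1, b2⟩ := bound hp hq hg0 (show c * g = Fintype.card F ^ N * P by linarith) hc hP h1
  exact ⟨b1, b2 h2⟩

theorem two_mul_le {q m : ℕ} (hq : 2 ≤ q) : q ^ m + 1 ≤ q ^ (m + 1) := by
  have : 1 ≤ q ^ m := Nat.one_le_pow _ _ (by omega)
  rw [pow_succ]; nlinarith

open Cfsg.Agent.Lie.OrderBound Cfsg.Agent.Classical in
theorem pomega {F : Type} [Field F] [Fintype F] {p : ℕ} [CharP F p] (hp : p.Prime) {g : ℕ} (hg0 : g ≠ 0)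
    (h : (∃ m : ℕ, 3 ≤ m ∧ Odd (Fintype.card F) ∧
        Nat.card (Cfsg.POmega F (Cfsg.quadFormOdd m F)) = g) ∨
      (∃ m : ℕ, 4 ≤ m ∧ Nat.card (Cfsg.POmega F (Cfsg.quadFormPlus m F)) = g) ∨
      (∃ (m : ℕ) (a b : F), 4 ≤ m ∧ (∀ z₁ z₂ : F, z₁ ^ 2 + a * z₁ * z₂ + b * z₂ ^ 2 = 0 → z₁ = 0 ∧ z₂ = 0) ∧
        Nat.card (Cfsg.POmega F (Cfsg.quadFormMinus (m - 1) F a b)) = g)) :
    g < p ^ (3 * g.factorization p) ∧ g ^ 3 < p ^ (8 * g.factorization p) := by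
  haveI := Fact.mk hp
  have hq2 : 2 ≤ Fintype.card F := Fintype.one_lt_card
  rcases h with ⟨m, hm, hodd, hg⟩ | ⟨m, hm, hg⟩ | ⟨m, a, b, hm, hab, hg⟩
  · obtain ⟨j, rfl⟩ : ∃ j, m = j + 1 := ⟨m - 1, by omega⟩
    have h2 := OrthAut.two_ne_zero_of_odd (F := F) rfl hodd
    obtain ⟨c, hc, hcard⟩ := natCard_pOmega (p := p) (nondegenerate_qfOdd (F := F) (j + 1) h2) (OrthAut.tri_qfOdd hm)
      (by simp; omega)
    simp only [coe_qfOdd] at hcard
    rw [hg, Cfsg.Agent.S0286.result rfl hodd] at hcard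
    exact orth hp hg0 hc hcard (prod_two_mul_lt hq2 j) (by nlinarith) (by nlinarith)
  · obtain ⟨j, rfl⟩ : ∃ j, m = j + 2 := ⟨m - 2, by omega⟩
    obtain ⟨c, hc, hcard⟩ := natCard_pOmega (p := p) (nondegenerate_qfPlus (F := F) (j + 2)) (OrthAut.tri_qfPlus (by omega))
      (by simp; omega)
    simp only [coe_qfPlus] at hcard
    rw [hg, Cfsg.Agent.S0287.result rfl (j + 2) (by omega), show j + 2 - 1 = j + 1 by omega,
      mul_assoc (2 * _)] at hcard
    refine orth hp hg0 hc hcard (M := j + 2 + (j + 1) * (j + 2)) ?_ ?_ ?_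
    · rw [pow_add (Fintype.card F) (j + 2) ((j + 1) * (j + 2))]
      exact Nat.mul_lt_mul_of_le_of_lt (Nat.sub_le _ _) (prod_two_mul_lt hq2 j) (pow_pos (by omega) _)
    · nlinarith
    · nlinarith
  · obtain ⟨j, rfl⟩ : ∃ j, m = j + 2 := ⟨m - 2, by omega⟩
    rw [show j + 2 - 1 = j + 1 by omega] at hg
    obtain ⟨c, hc, hcard⟩ := natCard_pOmega (p := p) (nondegenerate_qfMinus (F := F) (j + 1) hab)
      (OrthAut.tri_qfMinus (by omega) a b) (by simp; omega)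
    simp only [coe_qfMinus] at hcard
    have h288 := Cfsg.Agent.S0288.result (F := F) rfl (j + 2) (by omega) a b hab
    rw [show j + 2 - 1 = j + 1 by omega] at h288
    rw [hg, h288, mul_assoc (2 * _)] at hcard
    refine orth hp hg0 hc hcard (M := j + 3 + (j + 1) * (j + 2)) ?_ ?_ ?_
    · rw [pow_add (Fintype.card F) (j + 3) ((j + 1) * (j + 2))]
      exact Nat.mul_lt_mul_of_le_of_lt (two_mul_le hq2) (prod_two_mul_lt hq2 j) (pow_pos (by omega) _)
    · nlinarith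
    · nlinarith

theorem sub_mul_lt {a b q A B : ℕ} (ha : a < q ^ A) (hb : b < q ^ B) : a * b < q ^ (A + B) := by
  rw [pow_add]; exact Nat.mul_lt_mul_of_lt_of_lt ha hb

open Cfsg.Agent.Lie.OrderBound in
theorem exc {p f q g c N M P : ℕ} (hp : p.Prime) (hq : q = p ^ f) (hg : g ≠ 0)
    (h : c * g = q ^ N * P) (hc : ¬ p ∣ c) (hP : P < q ^ M) (h2 : 3 * M ≤ 5 * N) :
    g < p ^ (3 * g.factorization p) ∧ g ^ 3 < p ^ (8 * g.factorization p) := by
  obtain ⟨b1, b2⟩ := bound hp hq hg h hc hP (by omega)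
  exact ⟨b1, b2 h2⟩

/-- Let G be a finite simple group of Lie type in characteristic p and let p^k be the exact power of p dividing the order of G. Then the order of G is less than p^(3k); and unless G is isomorphic to PSL(2, F) for the field F with p^k elements, the cube of the order of G is less than p^(8k) (that is, the order is below p^(8k/3)). -/
theorem result {G : Type*} [Group G] [Finite G] (p : ℕ) (hp : p.Prime) (hG : Cfsg.IsLieTypeChar p G) :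
    Nat.card G < p ^ (3 * (Nat.card G).factorization p) ∧
      ((¬ ∃ (F : Type) (_ : Field F) (_ : Fintype F), Fintype.card F = p ^ (Nat.card G).factorization p ∧
          Nonempty (G ≃* Matrix.ProjectiveSpecialLinearGroup (Fin 2) F)) →
        Nat.card G ^ 3 < p ^ (8 * (Nat.card G).factorization p)) := by
  classical
  have hg0 : Nat.card G ≠ 0 := Nat.card_pos.ne'
  set g := Nat.card G with hg
  suffices h : g < p ^ (3 * g.factorization p) ∧ g ^ 3 < p ^ (8 * g.factorization p) ∨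
      g < p ^ (3 * g.factorization p) ∧ ∃ (F : Type) (_ : Field F) (_ : Fintype F),
        Fintype.card F = p ^ g.factorization p ∧
          Nonempty (G ≃* Matrix.ProjectiveSpecialLinearGroup (Fin 2) F) by
    rcases h with ⟨h1, h2⟩ | ⟨h1, h2⟩
    · exact ⟨h1, fun _ => h2⟩
    · exact ⟨h1, fun h => absurd h2 h⟩
  have lt1 : ∀ {q : ℕ}, 2 ≤ q → ∀ e : ℕ, q ^ e - 1 < q ^ e := fun {q} hq e =>
    Nat.sub_lt (pow_pos (by omega) _) one_pos
  have lt2 : ∀ {q : ℕ}, 2 ≤ q → ∀ e : ℕ, 1 ≤ e → q ^ e + 1 < q ^ (e + 1) := fun {q} hq e he => by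
    have : 2 ≤ q ^ e := le_trans hq (Nat.le_self_pow (by omega) q)
    rw [pow_succ]; nlinarith
  rcases hG with h | h | h | h | h | h | h | h | h | h | h
  · obtain ⟨F, _, _, _, n, hn, -, ⟨e⟩⟩ := h
    obtain ⟨b1, b2 | b2⟩ := psl hp n hn (Nat.card_congr e.toEquiv).symm hg0
    · obtain ⟨rfl, hF⟩ := b2
      exact Or.inr ⟨b1, F, inferInstance, inferInstance, hF, ⟨e⟩⟩
    · exact Or.inl ⟨b1, b2⟩
  all_goals refine Or.inl ?_
  · obtain ⟨F, _, _, _, m, hm, -, ⟨e⟩⟩ := h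
    exact psp hp m hm (Nat.card_congr e.toEquiv).symm hg0
  · obtain ⟨F, _, _, _, n, q, hF, hn, -, ⟨e⟩⟩ := h
    exact psu hp n q hF hn (Nat.card_congr e.toEquiv).symm hg0
  · obtain ⟨F, _, _, _, m, hm, hodd, ⟨e⟩⟩ := h
    exact pomega hp hg0 (Or.inl ⟨m, hm, hodd, (Nat.card_congr e.toEquiv).symm⟩)
  · obtain ⟨F, _, _, _, m, hm, ⟨e⟩⟩ := h
    exact pomega hp hg0 (Or.inr (Or.inl ⟨m, hm, (Nat.card_congr e.toEquiv).symm⟩))
  · obtain ⟨F, _, _, _, m, a, b, hm, hab, ⟨e⟩⟩ := h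
    exact pomega hp hg0 (Or.inr (Or.inr ⟨m, a, b, hm, hab, (Nat.card_congr e.toEquiv).symm⟩))
  · obtain ⟨F, _, _, _, h⟩ := h
    obtain ⟨f, hf, hq⟩ := Cfsg.Agent.Lie.OrderBound.exists_q (F := F) p
    have hq2 : 2 ≤ Fintype.card F := Fintype.one_lt_card
    have h1 : ¬ p ∣ 1 := hp.not_dvd_one
    have hc : ∀ n, ¬ p ∣ Nat.gcd n (Fintype.card F - 1) := fun n =>
      hq ▸ Cfsg.Agent.Lie.OrderBound.not_dvd_gcd_sub_one hp hf
    rcases h with ⟨-, ⟨e⟩⟩ | ⟨⟨e⟩⟩ | ⟨⟨e⟩⟩ | ⟨⟨e⟩⟩ | ⟨⟨e⟩⟩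
    · have h := Cfsg.Agent.S1059.result (F := F) rfl
      rw [← Nat.card_congr e.toEquiv, ← hg, ← one_mul g] at h
      simp only [mul_assoc (Fintype.card F ^ 6)] at h
      exact exc hp hq hg0 h h1 (sub_mul_lt (lt1 hq2 2) (lt1 hq2 6)) (by norm_num)
    · have h := Cfsg.Agent.S1062.result (F := F) rfl
      rw [← Nat.card_congr e.toEquiv, ← hg, ← one_mul g] at h
      rw [mul_assoc, mul_assoc, mul_assoc (Fintype.card F ^ 24)] at h
      exact exc hp hq hg0 h h1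
        (sub_mul_lt (lt1 hq2 2) (sub_mul_lt (lt1 hq2 6) (sub_mul_lt (lt1 hq2 8) (lt1 hq2 12)))) (by norm_num)
    · have h := Cfsg.Agent.S1063.result (F := F) rfl
      rw [← Nat.card_congr e.toEquiv, ← hg] at h
      simp only [mul_assoc] at h
      exact exc hp hq hg0 h (hc 3)
        (sub_mul_lt (lt1 hq2 2) (sub_mul_lt (lt1 hq2 5) (sub_mul_lt (lt1 hq2 6) (sub_mul_lt (lt1 hq2 8)
          (sub_mul_lt (lt1 hq2 9) (lt1 hq2 12)))))) (by norm_num)
    · have h := Cfsg.Agent.S1064.result (F := F) rfl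
      rw [← Nat.card_congr e.toEquiv, ← hg] at h
      simp only [mul_assoc] at h
      exact exc hp hq hg0 h (hc 2)
        (sub_mul_lt (lt1 hq2 2) (sub_mul_lt (lt1 hq2 6) (sub_mul_lt (lt1 hq2 8) (sub_mul_lt (lt1 hq2 10)
          (sub_mul_lt (lt1 hq2 12) (sub_mul_lt (lt1 hq2 14) (lt1 hq2 18))))))) (by norm_num)
    · have h := Cfsg.Agent.S1065.result (F := F) rfl
      rw [← Nat.card_congr e.toEquiv, ← hg, ← one_mul g] at h
      simp only [mul_assoc] at h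
      exact exc hp hq hg0 h h1
        (sub_mul_lt (lt1 hq2 2) (sub_mul_lt (lt1 hq2 8) (sub_mul_lt (lt1 hq2 12) (sub_mul_lt (lt1 hq2 14)
          (sub_mul_lt (lt1 hq2 18) (sub_mul_lt (lt1 hq2 20) (sub_mul_lt (lt1 hq2 24) (lt1 hq2 30))))))))
        (by norm_num)
  · obtain ⟨K, _, _, _, q, hqq, h⟩ := h
    have hq2 : 2 ≤ q := hqq.one_lt
    obtain ⟨f2, -, hK2⟩ := Cfsg.Agent.Lie.OrderBound.exists_q (F := K) p
    have hdvd : q ∣ p ^ f2 := by
      rcases h with ⟨hK, -⟩ | ⟨hK, -⟩ <;> rw [← hK2, hK] <;> exact dvd_pow_self q (by norm_num)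
    obtain ⟨f, -, hq⟩ := (Nat.dvd_prime_pow hp).1 hdvd
    have hf : 1 ≤ f := by
      rcases Nat.eq_zero_or_pos f with rfl | hf
      · simp at hq; omega
      · exact hf
    rcases h with ⟨hK, ⟨e⟩⟩ | ⟨hK, ⟨e⟩⟩
    · have h := Cfsg.Agent.S1066.result hqq hK
      rw [← Nat.card_congr e.toEquiv, ← hg] at h
      simp only [mul_assoc] at h
      exact exc hp hq hg0 h (hq ▸ Cfsg.Agent.Lie.OrderBound.not_dvd_gcd_add_one hp hf)
        (sub_mul_lt (lt1 hq2 2) (sub_mul_lt (lt2 hq2 5 (by norm_num)) (sub_mul_lt (lt1 hq2 6)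
          (sub_mul_lt (lt1 hq2 8) (sub_mul_lt (lt2 hq2 9 (by norm_num)) (lt1 hq2 12)))))) (by norm_num)
    · have h := Cfsg.Agent.S1067.result hqq hK
      rw [← Nat.card_congr e.toEquiv, ← hg, ← one_mul g] at h
      simp only [mul_assoc] at h
      refine exc hp hq hg0 h hp.not_dvd_one
        (sub_mul_lt (lt1 hq2 2) (sub_mul_lt (lt1 hq2 6) (?_ : q ^ 8 + q ^ 4 + 1 < q ^ 9))) (by norm_num)
      have : q ^ 4 + 1 < q ^ 8 := calc
        q ^ 4 + 1 < q ^ 5 := lt2 hq2 4 (by norm_num)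
        _ ≤ q ^ 8 := Nat.pow_le_pow_right (by omega) (by norm_num)
      have : q ^ 8 * 2 ≤ q ^ 8 * q := Nat.mul_le_mul_left _ hq2
      have : q ^ 9 = q ^ 8 * q := pow_succ q 8
      omega
  · obtain ⟨rfl, F, _, _, m, hm, hF, ⟨e⟩⟩ := h
    have h := (Cfsg.Agent.S1163.result hm hF).1
    rw [← Nat.card_congr e.toEquiv, ← hg, ← one_mul g, mul_assoc] at h
    refine exc hp rfl hg0 h hp.not_dvd_one (M := 3) ?_ (by norm_num)
    have hq2 : 2 ≤ 2 ^ (2 * m + 1) := Nat.le_self_pow (by omega) 2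
    generalize 2 ^ (2 * m + 1) = q at hq2 ⊢
    obtain ⟨a, rfl⟩ : ∃ a, q = a + 1 := ⟨q - 1, by omega⟩
    rw [Nat.add_sub_cancel]
    nlinarith
  · obtain ⟨rfl, K, _, _, m, hm, hK, ⟨e⟩⟩ := h
    have hq2 : 2 ≤ 2 ^ (2 * m + 1) := Nat.le_self_pow (by omega) 2
    have h := Cfsg.Agent.S1068.result hK
    rw [← Nat.card_congr e.toEquiv, ← hg, ← one_mul g] at h
    simp only [mul_assoc] at h
    exact exc hp rfl hg0 h hp.not_dvd_one
      (sub_mul_lt (show 2 ^ (2 * m + 1) - 1 < (2 ^ (2 * m + 1)) ^ 1 by simpa using lt1 hq2 1)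
        (sub_mul_lt (lt2 hq2 3 (by norm_num)) (sub_mul_lt (lt1 hq2 4) (lt2 hq2 6 (by norm_num))))) (by norm_num)
  · obtain ⟨rfl, K, _, _, m, hm, hK, ⟨e⟩⟩ := h
    have hq2 : 2 ≤ 3 ^ (2 * m + 1) := le_trans (by norm_num) (Nat.le_self_pow (by omega) 3)
    have h := Cfsg.Agent.S1069.result hK
    rw [← Nat.card_congr e.toEquiv, ← hg, ← one_mul g, mul_assoc] at h
    exact exc hp rfl hg0 h hp.not_dvd_one
      (sub_mul_lt (show 3 ^ (2 * m + 1) - 1 < (3 ^ (2 * m + 1)) ^ 1 by simpa using lt1 hq2 1)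
        (lt2 hq2 3 (by norm_num))) (by norm_num)

end Cfsg.Agent.S2363
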