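import Cfsg.Statements.S2365
import Cfsg.Agent.Lib.Classical.UnitDichotomy

set_option autoImplicit false
open Cfsg

namespace Cfsg.Agent.S2365

theorem exists_modEq_one {n l : ℕ} (h : n.Coprime l) : ∃ u, n * u ≡ 1 [MOD l] :=
  ⟨((n : ZMod l)⁻¹).val, by
    rcases Nat.eq_zero_or_pos l with rfl | hl
    · obtain rfl : n = 1 := by simpa using h
      simp
    · haveI : NeZero l := ⟨hl.ne'⟩
      rw [← ZMod.natCast_eq_natCast_iff, Nat.cast_mul, ZMod.natCast_zmod_val, Nat.cast_one]
      exact ZMod.coe_mul_inv_eq_one n h⟩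

open Cfsg.Agent.Classical Polynomial Matrix

/-- A matrix of order `p` (the characteristic) commuting with one with simple eigenvalues is trivial. -/
theorem eq_one_of_commute_simple {K : Type*} [Field K] [IsAlgClosed K] {ι : Type*} [Fintype ι] [DecidableEq ι]
    (p : ℕ) [Fact p.Prime] [CharP K p] {A B : Matrix ι ι K} (hA : A ^ p = 1) (hAB : Commute A B)
    (hnd : B.charpoly.roots.Nodup) : A = 1 := by
  classical
  set S := B.charpoly.roots.toFinset
  have hcard : Fintype.card ↥S = Fintype.card ι := by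
    rw [Fintype.card_coe, Multiset.toFinset_card_of_nodup hnd, ← (IsAlgClosed.splits _).natDegree_eq_card_roots,
      Matrix.charpoly_natDegree_eq_dim]
  have hex : ∀ l : ↥S, ∃ v : ι → K, v ≠ 0 ∧ B *ᵥ v = (l : K) • v := by
    intro l
    have hl := Multiset.mem_toFinset.1 l.2
    rw [Polynomial.mem_roots (Matrix.charpoly_monic B).ne_zero, IsRoot, Matrix.eval_charpoly] at hl
    obtain ⟨v, hv0, hv⟩ := Matrix.exists_mulVec_eq_zero_iff.2 hl
    rw [Matrix.sub_mulVec, sub_eq_zero, Matrix.scalar_apply, ← Matrix.smul_one_eq_diagonal, Matrix.smul_mulVec,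
      Matrix.one_mulVec] at hv
    exact ⟨v, hv0, hv.symm⟩
  choose v hv0 hv using hex
  have hev : ∀ l : ↥S, Module.End.HasEigenvector (Matrix.toLin' B) (l : K) (v l) := fun l =>
    ⟨Module.End.mem_eigenspace_iff.2 (by rw [Matrix.toLin'_apply]; exact hv l), hv0 l⟩
  have hli := Module.End.eigenvectors_linearIndependent' (Matrix.toLin' B) (fun l : ↥S => (l : K))
    Subtype.val_injective v hev
  rcases isEmpty_or_nonempty ι with hι | hι
  · exact Matrix.ext fun i => isEmptyElim i
  haveI : Nonempty ↥S := Fintype.card_pos_iff.1 (hcard ▸ Fintype.card_pos)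
  let bas := basisOfLinearIndependentOfCardEqFinrank hli (by rw [hcard, Module.finrank_pi])
  have hbas : ∀ l, bas l = v l := fun l => by
    simp [bas, coe_basisOfLinearIndependentOfCardEqFinrank]
  refine Matrix.toLin'.injective (bas.ext fun l => ?_)
  rw [hbas, Matrix.toLin'_apply, Matrix.toLin'_one, LinearMap.id_apply]
  -- `A v` is again an eigenvector for `l`
  have hAv : B *ᵥ (A *ᵥ v l) = (l : K) • (A *ᵥ v l) := by
    rw [Matrix.mulVec_mulVec, ← hAB.eq, ← Matrix.mulVec_mulVec, hv, Matrix.mulVec_smul]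
  have hrepr : ∀ w : ι → K, ∀ j, bas.repr (B *ᵥ w) j = (j : K) * bas.repr w j := by
    intro w j
    conv_lhs => rw [← bas.sum_repr w, Matrix.mulVec_sum]
    simp only [hbas, Matrix.mulVec_smul, hv, smul_comm _ ((_ : ↥S) : K), map_sum, map_smul]
    simp only [← hbas, Module.Basis.repr_self, Finsupp.coe_finsetSum, Finset.sum_apply, Finsupp.smul_apply,
      Finsupp.single_apply, smul_eq_mul, mul_ite, mul_one, mul_zero, Finset.sum_ite_eq', Finset.mem_univ, if_true]
  have hmu : A *ᵥ v l = bas.repr (A *ᵥ v l) l • v l := by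
    conv_lhs => rw [← bas.sum_repr (A *ᵥ v l)]
    rw [Finset.sum_eq_single l (fun j _ hj => ?_) (by simp), hbas]
    have h := hrepr (A *ᵥ v l) j
    rw [hAv, map_smul, Finsupp.smul_apply, smul_eq_mul] at h
    have : ((l : K) - j) * bas.repr (A *ᵥ v l) j = 0 := by rw [sub_mul, h, sub_self]
    rcases mul_eq_zero.1 this with h0 | h0
    · exact absurd (Subtype.ext (sub_eq_zero.1 h0)).symm hj
    · rw [h0, zero_smul]
  set c := bas.repr (A *ᵥ v l) l
  have hpow : ∀ k, A ^ k *ᵥ v l = c ^ k • v l := by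
    intro k
    induction k with
    | zero => simp
    | succ k ih => rw [pow_succ, ← Matrix.mulVec_mulVec, hmu, Matrix.mulVec_smul, ih, smul_smul, pow_succ']
  have hc : c ^ p = 1 := by
    have h := hpow p
    rw [hA, Matrix.one_mulVec] at h
    by_contra hne
    have : (1 - c ^ p) • v l = 0 := by rw [sub_smul, one_smul, ← h, sub_self]
    exact hv0 l ((smul_eq_zero.1 this).resolve_left (sub_ne_zero.2 fun e => hne e.symm))
  rw [hmu, show c = 1 from iterateFrobenius_inj K p 1 (by rw [iterateFrobenius_def, map_one, pow_one, hc]), one_smul]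

/-- A multiset of `m` roots of unity of prime order `r`, stable under `y ↦ y ^ (-q)`, is free of repetitions
if `r` divides no `(-q) ^ i - 1` with `i ≤ m - 2`. -/
theorem nodup_of_orbit {K : Type*} [Field K] [DecidableEq K] {R : Multiset K} {m q r : ℕ} [Fact r.Prime]
    (hm : 4 ≤ m) (hψR : R.map (fun y => (y ^ q)⁻¹) = R) (hψinj : Function.Injective fun y : K => (y ^ q)⁻¹)
    (hcard : Multiset.card R = m) (hroot : ∀ y ∈ R, y ^ r = 1)
    (hrfac : ∀ i, 1 ≤ i → i ≤ m - 2 → ¬ (r : ℤ) ∣ (-(q : ℤ)) ^ i - 1) (hex : ∃ x ∈ R, x ≠ 1) : R.Nodup := by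
  obtain ⟨x, hx, hx1⟩ := hex
  have hr : r.Prime := Fact.out
  set ψ : K → K := fun y => (y ^ q)⁻¹ with hψ
  have hcnt : ∀ y j, R.count (ψ^[j] y) = R.count y := by
    intro y j
    induction j with
    | zero => rfl
    | succ j ih =>
      rw [Function.iterate_succ_apply']
      conv_lhs => rw [← hψR]
      rw [Multiset.count_map_eq_count' _ _ hψinj, ih]
  have hit : ∀ (x : K) j, ψ^[j] x = x ^ ((-(q : ℤ)) ^ j) := fun x j => by
    induction j with
    | zero => simp
    | succ j ih =>
      rw [Function.iterate_succ_apply', ih]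
      show ((x ^ ((-(q : ℤ)) ^ j)) ^ q)⁻¹ = _
      rw [← zpow_natCast, ← _root_.zpow_mul, ← _root_.zpow_neg, pow_succ, mul_neg]
  have hbig : ∀ x ∈ R, x ≠ 1 → (Finset.range (m - 1)).card * R.count x + R.count 1 ≤ m := by
    intro x hx hx1
    have hxr : x ^ r = 1 := hroot x hx
    have hord : orderOf x = r := orderOf_eq_prime hxr hx1
    set O := (Finset.range (m - 1)).image (fun j => ψ^[j] x) with hO
    have key : ∀ i j, i ≤ j → j < m - 1 → ψ^[i] x = ψ^[j] x → i = j := by
      intro i j hle hj hij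
      by_contra hne
      have h1 : ψ^[j - i] x = x := by
        refine (Function.Injective.iterate hψinj i) ?_
        rw [← Function.iterate_add_apply, Nat.add_sub_cancel' hle, hij]
      rw [hit] at h1
      refine hrfac (j - i) (by omega) (by omega) ?_
      have hu : x ≠ 0 := fun h => by rw [h, zero_pow hr.ne_zero] at hxr; exact zero_ne_one hxr
      rw [← hord, ← Units.val_mk0 hu, orderOf_units]
      refine orderOf_dvd_iff_zpow_eq_one.2 (Units.ext ?_)
      rw [Units.val_zpow_eq_zpow_val, Units.val_mk0, zpow_sub₀ hu, h1, zpow_one, div_self hu, Units.val_one]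
    have hinjO : Set.InjOn (fun j => ψ^[j] x) ↑(Finset.range (m - 1)) := by
      intro i hi j hj hij
      simp only [Finset.coe_range, Set.mem_Iio] at hi hj
      rcases le_total i j with hle | hle
      · exact key i j hle hj hij
      · exact (key j i hle hi hij.symm).symm
    have h1O : (1 : K) ∉ O := by
      intro h
      obtain ⟨j, -, hj⟩ := Finset.mem_image.1 h
      apply hx1
      apply hψinj.iterate j
      rw [hj, hit, _root_.one_zpow]
    have hsum := Finset.sum_le_sum_of_subset (f := fun y => R.count y)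
      (s := insert (1 : K) O) (t := R.toFinset ∪ {1}) (by
        intro y hy
        rcases Finset.mem_insert.1 hy with rfl | hy
        · simp
        · obtain ⟨j, -, rfl⟩ := Finset.mem_image.1 hy
          refine Finset.mem_union_left _ (Multiset.mem_toFinset.2 ?_)
          rw [← Multiset.one_le_count_iff_mem, hcnt, Multiset.one_le_count_iff_mem]; exact hx)
    rw [Finset.sum_insert h1O, hO, Finset.sum_image hinjO,
      Finset.sum_congr rfl (fun j _ => hcnt x j), Finset.sum_const, smul_eq_mul] at hsum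
    have htot : ∑ y ∈ R.toFinset ∪ {1}, R.count y = m := by
      rw [← Finset.sum_subset Finset.subset_union_left (fun y _ hy => Multiset.count_eq_zero.2
        (fun h => hy (Multiset.mem_toFinset.2 h))), Multiset.toFinset_sum_count_eq, hcard]
    rw [htot] at hsum
    omega
  rw [Multiset.nodup_iff_count_le_one]
  intro y
  by_contra hy
  have hyR : y ∈ R := Multiset.one_le_count_iff_mem.1 (by omega)
  have hc2 : 2 ≤ R.count y := by omega
  by_cases hy1 : y = 1
  · have h := hbig x hx hx1
    have : m - 1 ≤ (Finset.range (m - 1)).card * R.count x := by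
      rw [Finset.card_range]; exact Nat.le_mul_of_pos_right _ (Multiset.one_le_count_iff_mem.2 hx)
    rw [hy1] at hc2
    omega
  · have h := hbig y hyR hy1
    rw [Finset.card_range] at h
    have : (m - 1) * 2 ≤ (m - 1) * R.count y := Nat.mul_le_mul_left _ hc2
    omega

set_option maxHeartbeats 1000000 in
/-- Let q be a power of the prime p, F the field with q² elements, m ≥ 4, and let a, b be commuting elements of PSU(m, q) with a of order p. Then every prime divisor of the order of b divides the order of SU(m − 2, q). -/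
theorem result {F : Type*} [Field F] [Fintype F] (p : ℕ) [Fact p.Prime] [CharP F p] (m q : ℕ) (hm : 4 ≤ m) (hF : Fintype.card F = q ^ 2)
    (a b : Cfsg.PSU m F q) (ha : orderOf a = p) (hab : Commute a b) :
    (orderOf b).primeFactors ⊆ (Nat.card ↥(Cfsg.SU (m - 2) F q)).primeFactors := by
  classical
  obtain ⟨e, he⟩ : ∃ e, q = p ^ e := by
    obtain ⟨k, -, hk⟩ := FiniteField.card F p
    rw [hF] at hk
    obtain ⟨e, -, he⟩ := (Nat.dvd_prime_pow (Fact.out : p.Prime)).1 ((dvd_pow_self q two_ne_zero).trans hk.dvd)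
    exact ⟨e, he⟩
  have hq2 := two_le_q hF
  have hpp : p.Prime := Fact.out
  haveI : Finite (SU m F q) := Finite.of_injective suVal fun a b h => suVal_ext h
  haveI : Finite (SU (m - 2) F q) := Finite.of_injective suVal fun a b h => suVal_ext h
  have hcard0 : Nat.card (SU (m - 2) F q) ≠ 0 := Nat.card_pos.ne'
  intro r hrmem
  obtain ⟨hr, hrb, -⟩ := Nat.mem_primeFactors.1 hrmem
  haveI := Fact.mk hr
  rw [Nat.mem_primeFactors]
  refine ⟨hr, ?_, hcard0⟩
  by_contra hrSU
  have hrI : Prime (r : ℤ) := Nat.prime_iff_prime_int.1 hr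
  -- the order of `SU (m - 2)`
  obtain ⟨k, hk⟩ : ∃ k, m - 2 = k + 2 := ⟨m - 4, by omega⟩
  have hfac : (Nat.card (SU (m - 2) F q) : ℤ) = (q : ℤ) ^ ((m - 2) * (m - 2 - 1) / 2) *
      ∏ i ∈ Finset.range (k + 1), ((q : ℤ) ^ (i + 1 + 1) + (-1) ^ (i + 1)) := by
    have h := order_GU hF (m - 2)
    rw [natCard_GU_eq_SU hF (by omega), Nat.cast_mul, hk, Finset.prod_range_succ'] at h
    rw [hk]
    refine mul_left_cancel₀ (show ((q + 1 : ℕ) : ℤ) ≠ 0 by omega) (h.trans ?_)
    push_cast; ring
  have hrq : ¬ r ∣ q := by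
    intro h
    apply hrSU
    rw [← Int.natCast_dvd_natCast, hfac]
    refine dvd_mul_of_dvd_left ((Int.natCast_dvd_natCast.2 h).trans (dvd_pow_self _ ?_)) _
    rw [hk, show k + 2 - 1 = k + 1 by omega]
    exact (Nat.div_pos (by nlinarith) two_pos).ne'
  have hrfac : ∀ i, 1 ≤ i → i ≤ m - 2 → ¬ (r : ℤ) ∣ (-(q : ℤ)) ^ i - 1 := by
    intro i hi1 hi h
    have h2 : (r : ℤ) ∣ (-(q : ℤ)) ^ (max i 2) - 1 := by
      rcases Nat.lt_or_ge i 2 with h' | h'
      · obtain rfl : i = 1 := by omega
        rw [max_eq_right (by norm_num)]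
        exact h.trans ⟨(-(q : ℤ)) + 1, by ring⟩
      · rw [max_eq_left h']; exact h
    apply hrSU
    rw [← Int.natCast_dvd_natCast, hfac]
    refine dvd_mul_of_dvd_right (h2.trans (dvd_trans ?_ (Finset.dvd_prod_of_mem _
      (Finset.mem_range.2 (show max i 2 - 2 < k + 1 by omega))))) _
    rw [show max i 2 - 2 + 1 + 1 = max i 2 by omega, neg_pow, show max i 2 - 2 + 1 = max i 2 - 1 by omega]
    refine ⟨(-1) ^ max i 2, ?_⟩
    have h1 : ((-1 : ℤ)) ^ max i 2 = (-1) ^ (max i 2 - 1) * (-1) := by
      rw [← pow_succ, Nat.sub_add_cancel (by omega)]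
    rw [h1]
    have h3 : ((-1 : ℤ) ^ (max i 2 - 1)) * (-1) ^ (max i 2 - 1) = 1 := by rw [← mul_pow]; simp
    linear_combination (-(q : ℤ) ^ max i 2) * h3
  have hrq1 : ¬ r ∣ q + 1 := by
    intro h
    refine hrfac 1 le_rfl (by omega) ?_
    rw [pow_one, show -(q : ℤ) - 1 = -((q + 1 : ℕ) : ℤ) by push_cast; ring, dvd_neg]
    exact Int.natCast_dvd_natCast.2 h
  have hpq1 : ¬ p ∣ q + 1 := by
    rcases Nat.eq_zero_or_pos e with rfl | he0
    · simp at he; omega
    · exact fun h => hpp.not_dvd_one ((Nat.dvd_add_right (he ▸ dvd_pow_self p (by omega))).1 h)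
  -- the scalars
  have hscal : ∀ z : SU m F q, suToPSU m F q z = 1 → z ^ (q + 1) = 1 := by
    intro z hz
    obtain ⟨c, hc⟩ := (suToPSU_pow_eq_one_iff hF z 1).1 (by rw [pow_one, hz])
    rw [pow_one] at hc
    refine suVal_ext ?_
    rw [suVal_pow, hc, ← map_pow]
    have h := suVal_transpose_mul hF z
    rw [hc] at h
    have h' := congrFun (congrFun h ⟨0, by omega⟩) ⟨0, by omega⟩
    simp [Matrix.scalar_apply, Matrix.diagonal_map, Matrix.diagonal_mul_diagonal, qFrob_apply] at h'
    rw [pow_succ', h', map_one]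
    rfl
  have hlift : ∀ (x : Cfsg.PSU m F q) (l : ℕ), l.Coprime (q + 1) → x ^ l = 1 →
      ∃ y : SU m F q, suToPSU m F q y = x ∧ y ^ l = 1 := by
    intro x l hl hx
    obtain ⟨y, rfl⟩ : ∃ y, suToPSU m F q y = x := QuotientGroup.mk'_surjective _ x
    obtain ⟨u, hu⟩ := exists_modEq_one hl.symm
    refine ⟨y ^ ((q + 1) * u), ?_, ?_⟩
    · rw [map_pow, ← pow_mod_orderOf]
      have h1 : orderOf (suToPSU m F q y) ∣ l := orderOf_dvd_of_pow_eq_one hx
      rw [Nat.ModEq.of_dvd h1 hu, pow_mod_orderOf, pow_one]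
    · rw [← pow_mul, show (q + 1) * u * l = l * (q + 1) * u by ring, pow_mul, pow_mul,
        hscal (y ^ l) (by rw [map_pow, hx]), one_pow]
  set b' := b ^ (orderOf b / r) with hb'
  have hb0 : orderOf b ≠ 0 := (Nat.mem_primeFactors.1 hrmem).2.2
  have hb'r : orderOf b' = r := orderOf_pow_orderOf_div hb0 hrb
  obtain ⟨A, hAa, hAp⟩ := hlift a p (hpp.coprime_iff_not_dvd.2 hpq1) (ha ▸ pow_orderOf_eq_one a)
  obtain ⟨B, hBb, hBr⟩ := hlift b' r (hr.coprime_iff_not_dvd.2 hrq1) (hb'r ▸ pow_orderOf_eq_one b')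
  have hAB : Commute A B := by
    set z := A * B * A⁻¹ * B⁻¹ with hz
    have hz1 : suToPSU m F q z = 1 := by
      rw [hz, map_mul, map_mul, map_mul, map_inv, map_inv, hAa, hBb, (hab.pow_right _ : Commute a b').eq]
      simp [hb']
    have hzc : ∀ x : SU m F q, Commute z x := fun x =>
      (Subgroup.mem_center_iff.1 ((QuotientGroup.eq_one_iff _).1 hz1) x).symm
    have hzr : z ^ r = 1 := by
      have h1 : A * B * A⁻¹ = z * B := by rw [hz]; group
      have h2 : (A * B * A⁻¹) ^ r = 1 := by rw [conj_pow, hBr, mul_one, mul_inv_cancel]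
      rwa [h1, (hzc B).mul_pow, hBr, mul_one] at h2
    have hz' : z = 1 := by
      rw [← orderOf_eq_one_iff]
      exact Nat.eq_one_of_dvd_coprimes (hr.coprime_iff_not_dvd.2 hrq1) (orderOf_dvd_of_pow_eq_one hzr)
        (orderOf_dvd_of_pow_eq_one (hscal z hz1))
    show A * B = B * A
    calc A * B = z * (B * A) := by rw [hz]; group
      _ = _ := by rw [hz', one_mul]
  -- eigenvalues
  let K := AlgebraicClosure F
  haveI : CharP K p := charP_of_injective_algebraMap (algebraMap F K).injective p
  set R := eigRoots K (suVal B) with hR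
  let Q : K →+* K := iterateFrobenius K p e
  have hQ : ∀ y, Q y = y ^ q := fun y => by rw [he]; exact iterateFrobenius_def p e y
  have hQalg : Q.comp (algebraMap F K) = (algebraMap F K).comp (qFrob hF) := RingHom.ext fun c => by
    show Q (algebraMap F K c) = algebraMap F K (qFrob hF c)
    rw [hQ, qFrob_apply, map_pow]
  let ψ : K → K := fun y => (y ^ q)⁻¹
  have hψinj : Function.Injective ψ := fun y z h => Q.injective (by rw [hQ, hQ]; exact inv_injective h)
  have hψR : R.map ψ = R := by
    have hadj : ((suVal B).map (qFrob hF))ᵀ * suVal B = 1 := by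
      have := congrArg Matrix.transpose (suVal_transpose_mul hF B)
      simpa using this
    have h1 : ((((suVal B).map (qFrob hF))ᵀ).map (algebraMap F K)).charpoly.roots = R.map (fun y => y⁻¹) := by
      refine roots_charpoly_inv ?_
      rw [← Matrix.map_mul, hadj]
      simp
    have h2 : ((((suVal B).map (qFrob hF))ᵀ).map (algebraMap F K)).charpoly.roots = R.map Q := by
      rw [Matrix.charpoly_map, Matrix.charpoly_transpose, Matrix.charpoly_map, Polynomial.map_map, ← hQalg,
        ← Polynomial.map_map, ← Matrix.charpoly_map, (IsAlgClosed.splits _).roots_map Q]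
      rfl
    have h3 := congrArg (Multiset.map (fun y => y⁻¹)) (h2.symm.trans h1)
    rw [Multiset.map_map, Multiset.map_map] at h3
    rw [show ((fun y : K => y⁻¹) ∘ Q) = ψ from funext fun y => by simp [ψ, hQ],
      show ((fun y : K => y⁻¹) ∘ fun y => y⁻¹) = id from funext fun y => inv_inv y, Multiset.map_id] at h3
    exact h3
  have hBK : suVal B ^ r = 1 := by rw [← suVal_pow, hBr]; rfl
  obtain ⟨x, hx, hx1⟩ : ∃ x ∈ R, x ≠ 1 := by
    by_contra hall
    push Not at hall
    have h1 := pow_eq_one_of_eigRoots p (suVal B) (c := m) (M := 1) (K := K) one_ne_zero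
      (fun y hy => by rw [pow_one]; exact hall y hy)
      (fun y _ => (Multiset.count_le_card y R).trans (by
        rw [hR, card_eigRoots, Fintype.card_fin]; exact (Nat.lt_pow_self hpp.one_lt).le))
    rw [mul_one, ← suVal_pow] at h1
    have h2 : B ^ p ^ m = 1 := suVal_ext h1
    have hne : r ≠ p := fun h => hrq (h ▸ (by
      rcases Nat.eq_zero_or_pos e with rfl | he0
      · simp at he; omega
      · exact he ▸ dvd_pow_self p (by omega)))
    have hB1 : B = 1 := by
      rw [← orderOf_eq_one_iff]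
      exact Nat.eq_one_of_dvd_coprimes (((Nat.coprime_primes hr hpp).2 hne).pow_right m)
        (orderOf_dvd_of_pow_eq_one hBr) (orderOf_dvd_of_pow_eq_one h2)
    rw [hB1, map_one] at hBb
    rw [← hBb, orderOf_one] at hb'r
    exact hr.one_lt.ne hb'r
  have hnd : R.Nodup := nodup_of_orbit (m := m) (q := q) (r := r) (by omega) hψR hψinj
    (by rw [hR, card_eigRoots, Fintype.card_fin]) (fun y hy => pow_eq_one_of_eigRoot hBK hy) hrfac ⟨x, hx, hx1⟩
  have hA1 : (suVal A).map (algebraMap F K) = 1 := by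
    refine eq_one_of_commute_simple p (B := (suVal B).map (algebraMap F K)) ?_ ?_ hnd
    · rw [← Matrix.map_pow, ← suVal_pow, hAp]
      exact Matrix.map_one _ (map_zero _) (map_one _)
    · show _ * _ = _ * _
      rw [← Matrix.map_mul, ← Matrix.map_mul, ← suVal_mul, hAB.eq, suVal_mul]
  have : A = 1 := suVal_ext (Matrix.map_injective (algebraMap F K).injective
    (hA1.trans (Matrix.map_one _ (map_zero _) (map_one _)).symm))
  rw [this, map_one] at hAa
  rw [← hAa, orderOf_one] at ha
  exact hpp.one_lt.ne ha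

end Cfsg.Agent.S2365
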