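import Cfsg.Statements.S2366
import Cfsg.Agent.Lib.Lie.PSUThreeSpectrum

set_option autoImplicit false
open Cfsg

namespace Cfsg.Agent.S2366

/-- The set of element orders of PSU(3, q) for an odd prime power q = p^n: writing d = gcd(3, q + 1), a positive integer is the order of some element exactly when it divides one of q + 1, p(q + 1)/d, (q² − 1)/d, (q² − q + 1)/d. -/
theorem result {F : Type*} [Field F] [Fintype F] (p : ℕ) [Fact p.Prime] [CharP F p] (hp : p ≠ 2) (q : ℕ) (hF : Fintype.card F = q ^ 2) :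
    Set.range (orderOf : Cfsg.PSU 3 F q → ℕ) =
      {s : ℕ | s ∣ q + 1} ∪ {s : ℕ | s ∣ p * (q + 1) / Nat.gcd 3 (q + 1)} ∪
        {s : ℕ | s ∣ (q ^ 2 - 1) / Nat.gcd 3 (q + 1)} ∪ {s : ℕ | s ∣ (q ^ 2 - q + 1) / Nat.gcd 3 (q + 1)} := by
  classical
  obtain ⟨a, ha⟩ : ∃ a, q = p ^ a := by
    obtain ⟨m, -, hm⟩ := FiniteField.card F p
    rw [hF] at hm
    obtain ⟨a, -, ha⟩ := (Nat.dvd_prime_pow (Fact.out : p.Prime)).1 ((dvd_pow_self q two_ne_zero).trans hm.dvd)
    exact ⟨a, ha⟩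
  have hdown : ∀ {N : ℕ} (_ : ∃ y : Cfsg.PSU 3 F q, N ∣ orderOf y) (s : ℕ), s ∣ N →
      s ∈ Set.range (orderOf : Cfsg.PSU 3 F q → ℕ) := by
    rintro N ⟨y, hy⟩ s hs
    exact ⟨y ^ (orderOf y / s), orderOf_pow_orderOf_div (orderOf_pos y).ne' (hs.trans hy)⟩
  ext s
  simp only [Set.mem_union, Set.mem_setOf_eq]
  constructor
  · rintro ⟨y, rfl⟩
    obtain ⟨x, rfl⟩ := QuotientGroup.mk'_surjective _ y
    obtain ⟨k, hk, c, hc⟩ := Cfsg.Agent.Lie.PSUThreeSpectrum.exists_scalar_pow hF hp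
      (Cfsg.Agent.Classical.suVal_transpose_mul hF x) x.1.2
    have hd : orderOf (Cfsg.Agent.Classical.suToPSU 3 F q x) ∣ k :=
      orderOf_dvd_of_pow_eq_one ((Cfsg.Agent.Classical.suToPSU_pow_eq_one_iff hF x k).2 ⟨c, hc⟩)
    rcases hk with rfl | rfl | rfl | rfl
    · exact Or.inl (Or.inl (Or.inl hd))
    · exact Or.inl (Or.inl (Or.inr hd))
    · exact Or.inl (Or.inr hd)
    · exact Or.inr hd
  · rintro (((h | h) | h) | h)
    · exact hdown (Cfsg.Agent.Lie.PSUThreeSpectrum.exists_q_add_one hF) s h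
    · exact hdown (Cfsg.Agent.Lie.PSUThreeSpectrum.exists_p_mul hF ha) s h
    · exact hdown (Cfsg.Agent.Lie.PSUThreeSpectrum.exists_q_sq hF ha) s h
    · refine hdown ?_ s h
      obtain ⟨y, hy⟩ := Cfsg.Agent.Classical.exists_psu_torus hF ha (n := 3) (by norm_num)
      refine ⟨y, ?_⟩
      have hA : Cfsg.Agent.Classical.altSum q 3 = q ^ 2 - q + 1 := by
        have : q ≤ q ^ 2 := Nat.le_self_pow two_ne_zero q
        rw [Cfsg.Agent.Classical.altSum, ← Int.natAbs_natCast (q ^ 2 - q + 1)]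
        congr 1
        push_cast [this]
        simp [Finset.sum_range_succ]
        ring
      rwa [Cfsg.Agent.Classical.psuTorus, hA] at hy

end Cfsg.Agent.S2366
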