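import Cfsg.Statements.S2367
-- import your own Cfsg.Agent.* helpers here

set_option autoImplicit false
open Cfsg

namespace Cfsg.Agent.S2367

/-- Let G be an alternating group of degree at least 5 or a simple group with the order of one of the 26 sporadic groups, and let p be an odd prime such that p³ is the exact power of p dividing the order of G. Then p³ is less than the 2-part of the order of G. -/
theorem result {G : Type*} [Group G] [Finite G] (hG : Cfsg.IsAlternating G ∨ Cfsg.IsSporadic G)
    (p : ℕ) (hp : p.Prime) (hodd : p ≠ 2) (h3 : (Nat.card G).factorization p = 3) :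
    p ^ 3 < 2 ^ (Nat.card G).factorization 2 := by
  classical
  have hcard : Nat.card G ≠ 0 := Nat.card_pos.ne'
  rcases hG with ⟨n, hn, ⟨e⟩⟩ | hs
  · haveI : Nontrivial (Fin n) := Fin.nontrivial_iff_two_le.2 (by omega)
    have hc : 2 * Nat.card G = n.factorial := by
      rw [Nat.card_congr e.toEquiv, Nat.card_eq_fintype_card, two_mul_card_alternatingGroup, Fintype.card_perm,
        Fintype.card_fin]
    have hfp : (Nat.factorial n).factorization p = 3 := by
      rw [← hc, Nat.factorization_mul (by norm_num) hcard, Finsupp.add_apply, h3,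
        Nat.factorization_eq_zero_of_not_dvd (fun h => hodd ((Nat.prime_dvd_prime_iff_eq hp Nat.prime_two).1 h))]
    have hf2 : (Nat.factorial n).factorization 2 = (Nat.card G).factorization 2 + 1 := by
      rw [← hc, Nat.factorization_mul (by norm_num) hcard, Finsupp.add_apply, Nat.prime_two.factorization_self]
      omega
    have hdiv : ∀ (r : ℕ), r.Prime → ∀ k, r ^ k ∣ n.factorial → k ≤ (Nat.factorial n).factorization r :=
      fun r hr k h => (hr.pow_dvd_iff_le_factorization n.factorial_ne_zero).1 h
    have hp5 : 5 ≤ p := by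
      by_contra hlt
      have hp3 : p = 3 := by
        have := hp.two_le
        rcases (show p = 3 ∨ p = 4 by omega) with h | h
        · exact h
        · exact absurd (h ▸ hp) (by decide)
      subst hp3
      rcases Nat.lt_or_ge n 9 with hn9 | hn9
      · have hd : 3 ^ 3 ∣ Nat.factorial n := (hp.pow_dvd_iff_le_factorization n.factorial_ne_zero).2 hfp.ge
        interval_cases n <;> revert hd <;> decide
      · have := hdiv 3 hp 4 ((by decide : 3 ^ 4 ∣ Nat.factorial 9).trans (Nat.factorial_dvd_factorial hn9))
        omega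
    have hleg : ∀ r : ℕ, r.Prime → ∀ m, (Nat.factorial m).factorization r = ∑ i ∈ Finset.Ico 1 (Nat.log r m + 1), m / r ^ i :=
      fun r hr m => Nat.factorization_factorial hr (Nat.lt_succ_self _)
    have hn3 : 3 * p ≤ n := by
      by_contra hlt
      have hlog : Nat.log p n ≤ 1 := Nat.lt_succ_iff.1 (Nat.log_lt_of_lt_pow (by omega) (by nlinarith))
      rw [hleg p hp] at hfp
      rcases (show Nat.log p n = 0 ∨ Nat.log p n = 1 by omega) with h | h <;> rw [h] at hfp
      · simp at hfp
      · simp at hfp
        have : n / p < 3 := (Nat.div_lt_iff_lt_mul hp.pos).2 (by omega)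
        omega
    have h2v : 3 * p / 2 + 3 * p / 4 ≤ (Nat.factorial n).factorization 2 := by
      refine le_trans ?_ (hdiv 2 Nat.prime_two _ ((Nat.ordProj_dvd _ _).trans (Nat.factorial_dvd_factorial hn3)))
      rw [hleg 2 Nat.prime_two]
      refine le_trans (le_of_eq ?_) (Finset.sum_le_sum_of_subset (s := {1, 2}) ?_)
      · simp
      · have : 2 ≤ Nat.log 2 (3 * p) := Nat.le_log_of_pow_le (by norm_num) (by omega)
        intro i hi
        simp at hi
        rw [Finset.mem_Ico]
        omega
    have hgrow : ∀ k, 5 ≤ k → k ^ 3 < 2 ^ (2 * k - 2) := by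
      intro k hk
      induction k, hk using Nat.le_induction with
      | base => norm_num
      | succ k hk ih =>
        rw [show 2 * (k + 1) - 2 = (2 * k - 2) + 2 by omega, pow_add]
        nlinarith [Nat.mul_le_mul_left (k * k) hk, Nat.mul_le_mul_left k hk]
    exact (hgrow p hp5).trans_le (Nat.pow_le_pow_right two_pos (by omega))
  · have key : ∀ (a : ℕ) (L : List ℕ) {N : ℕ}, Nat.card G = N → (∀ q ∈ L, Nat.Prime q) → N ∣ 2 ^ a * L.prod ^ 20 →
        ((2 ^ a ∣ N) ∧ ∀ q ∈ L, q ^ 4 ∣ N ∨ ¬ q ^ 3 ∣ N ∨ q ^ 3 < 2 ^ a) →
        p ^ 3 < 2 ^ (Nat.card G).factorization 2 := by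
      intro a L N hN hL hdvd hcheck
      subst hN
      have ha := (Nat.prime_two.pow_dvd_iff_le_factorization hcard).1 hcheck.1
      have hp1 : p ∣ Nat.card G := Nat.dvd_of_factorization_pos (by omega)
      have hpL : p ∈ L := by
        rcases hp.dvd_mul.1 (hp1.trans hdvd) with h | h
        · exact absurd ((Nat.prime_dvd_prime_iff_eq hp Nat.prime_two).1 (hp.dvd_of_dvd_pow h)) hodd
        · obtain ⟨q, hq, hpq⟩ := (Prime.dvd_prod_iff hp.prime).1 (hp.dvd_of_dvd_pow h)
          exact ((Nat.prime_dvd_prime_iff_eq hp (hL q hq)).1 hpq) ▸ hq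
      rcases hcheck.2 p hpL with h | h | h
      · have := (hp.pow_dvd_iff_le_factorization hcard).1 h
        omega
      · exact absurd ((hp.pow_dvd_iff_le_factorization hcard).2 h3.ge) h
      · exact h.trans_le (Nat.pow_le_pow_right two_pos ha)
    unfold Cfsg.IsSporadic at hs
    rcases hs with h | h | h | h | h | h | h | h | h | h | h | h | h | h | h | h | h | h | h | h | h | h | h | h | h | h
    · exact key 4 [3, 5, 11] (h.2) (by decide +kernel) (by decide +kernel) (by decide +kernel)
    · exact key 6 [3, 5, 11] (h.2) (by decide +kernel) (by decide +kernel) (by decide +kernel)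
    · exact key 7 [3, 5, 7, 11] (h.2) (by decide +kernel) (by decide +kernel) (by decide +kernel)
    · exact key 7 [3, 5, 7, 11, 23] (h.2) (by decide +kernel) (by decide +kernel) (by decide +kernel)
    · exact key 10 [3, 5, 7, 11, 23] (h.2) (by decide +kernel) (by decide +kernel) (by decide +kernel)
    · exact key 3 [3, 5, 7, 11, 19] (h.2) (by decide +kernel) (by decide +kernel) (by decide +kernel)
    · exact key 7 [3, 5, 7] (h.2) (by decide +kernel) (by decide +kernel) (by decide +kernel)
    · exact key 7 [3, 5, 17, 19] (h.2) (by decide +kernel) (by decide +kernel) (by decide +kernel)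
    · exact key 21 [3, 5, 7, 11, 23, 29, 31, 37, 43] (h.2) (by decide +kernel) (by decide +kernel) (by decide +kernel)
    · exact key 21 [3, 5, 7, 11, 13, 23] (h.2) (by decide +kernel) (by decide +kernel) (by decide +kernel)
    · exact key 18 [3, 5, 7, 11, 23] (h.2) (by decide +kernel) (by decide +kernel) (by decide +kernel)
    · exact key 10 [3, 5, 7, 11, 23] (h.2) (by decide +kernel) (by decide +kernel) (by decide +kernel)
    · exact key 17 [3, 5, 7, 11, 13] (h.2) (by decide +kernel) (by decide +kernel) (by decide +kernel)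
    · exact key 18 [3, 5, 7, 11, 13, 17, 23] (h.2) (by decide +kernel) (by decide +kernel) (by decide +kernel)
    · exact key 21 [3, 5, 7, 11, 13, 17, 23, 29] (h.2) (by decide +kernel) (by decide +kernel) (by decide +kernel)
    · exact key 9 [3, 5, 7, 11] (h.2) (by decide +kernel) (by decide +kernel) (by decide +kernel)
    · exact key 7 [3, 5, 7, 11] (h.2) (by decide +kernel) (by decide +kernel) (by decide +kernel)
    · exact key 10 [3, 5, 7, 17] (h.2) (by decide +kernel) (by decide +kernel) (by decide +kernel)
    · exact key 14 [3, 5, 7, 13, 29] (h.2) (by decide +kernel) (by decide +kernel) (by decide +kernel)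
    · exact key 13 [3, 5, 7, 11, 13] (h.2) (by decide +kernel) (by decide +kernel) (by decide +kernel)
    · exact key 9 [3, 5, 7, 11, 19, 31] (h.2) (by decide +kernel) (by decide +kernel) (by decide +kernel)
    · exact key 14 [3, 5, 7, 11, 19] (h.2) (by decide +kernel) (by decide +kernel) (by decide +kernel)
    · exact key 8 [3, 5, 7, 11, 31, 37, 67] (h.2) (by decide +kernel) (by decide +kernel) (by decide +kernel)
    · exact key 15 [3, 5, 7, 13, 19, 31] (h.2) (by decide +kernel) (by decide +kernel) (by decide +kernel)
    · exact key 41 [3, 5, 7, 11, 13, 17, 19, 23, 31, 47] (h.2) (by decide +kernel) (by decide +kernel) (by decide +kernel)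
    · exact key 46 [3, 5, 7, 11, 13, 17, 19, 23, 29, 31, 41, 47, 59, 71] (h.2) (by decide +kernel) (by decide +kernel) (by decide +kernel)

end Cfsg.Agent.S2367
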