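import Cfsg.Statements.S2369
import Cfsg.Agent.Lib.Lie.Chev.TwistF4Primes

set_option autoImplicit false
open Cfsg

namespace Cfsg.Agent.S2369

/-- Let q = 2^(2m+1) with m ≥ 1 and let a, b be commuting elements of the large Ree group ²F₄(q) with a an involution. Then every prime divisor of the order of b divides q(q⁴ − 1). -/
theorem result {K : Type*} [Field K] [Fintype K] (m : ℕ) (hm : 1 ≤ m) (hK : Fintype.card K = 2 ^ (2 * m + 1))
    (a b : ↥(Cfsg.Lie.twistedF4 K (2 ^ m))) (ha : orderOf a = 2) (hab : Commute a b) :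
    (orderOf b).primeFactors ⊆ (2 ^ (2 * m + 1) * ((2 ^ (2 * m + 1)) ^ 4 - 1)).primeFactors := by
  obtain ⟨_, _, f, hf⟩ := Cfsg.Agent.Lie.Chev.exists_isoFrob Nat.prime_two hK
  intro r hr
  rw [Nat.mem_primeFactors] at hr ⊢
  obtain ⟨hrp, hrb, -⟩ := hr
  refine ⟨hrp, Cfsg.Agent.Lie.Chev.F4.prime_dvd f hf hK ha hab hrp hrb,
    mul_ne_zero (pow_ne_zero _ two_ne_zero) ?_⟩
  have h : 2 ≤ (2 ^ (2 * m + 1)) ^ 4 := by
    rw [← pow_mul]
    exact le_self_pow₀ one_le_two (by omega)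
  omega

end Cfsg.Agent.S2369
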