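import Cfsg.Statements.S2370
import Cfsg.Agent.Lib.Lie.Chev.Height
import Cfsg.Agent.Lib.Lie.Chev.Centralizer
import Cfsg.Agent.Lib.Lie.Chev.TorusOrders
-- import your own Cfsg.Agent.* helpers here

set_option autoImplicit false
open Cfsg

namespace Cfsg.Agent.S2370

/-- Let q = 2^(2m+1) with m ≥ 1. Every element of 2-power order of the large Ree group ²F₄(q) has order at most 32. -/
theorem result {K : Type*} [Field K] [Fintype K] (m : ℕ) (hm : 1 ≤ m) (hK : Fintype.card K = 2 ^ (2 * m + 1))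
    (x : ↥(Cfsg.Lie.twistedF4 K (2 ^ m))) (hx : ∃ j : ℕ, orderOf x = 2 ^ j) : orderOf x ≤ 32 := by
  set q := 2 ^ (2 * m + 1) with hq
  haveI : Fact (Nat.Prime 2) := ⟨Nat.prime_two⟩
  haveI : CharP K 2 := by
    obtain ⟨p, hp⟩ := CharP.exists K
    obtain ⟨n, hpp, hn⟩ := FiniteField.card K p
    rw [hK, hq] at hn
    have hdvd : p ∣ 2 ^ (2 * m + 1) := hn ▸ dvd_pow_self p n.pos.ne'
    obtain rfl := (Nat.prime_dvd_prime_iff_eq hpp Nat.prime_two).1 (hpp.dvd_of_dvd_pow hdvd)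
    exact hp
  have hle : Cfsg.Lie.twistedF4 K (2 ^ m) ≤ Cfsg.Lie.chevF4.group K := by
    refine (Subgroup.closure_le _).2 ?_
    rintro g ⟨w, hw, hg⟩
    obtain rfl : g = (w.map fun p => Lie.Chev.certFullF4.xg p.1 p.2).prod := by
      refine Units.ext ?_
      rw [hg, Cfsg.Lie.ChevalleyDatum.wordMat, ← Units.coeHom_apply, map_list_prod, List.map_map]
      rfl
    refine Subgroup.list_prod_mem _ fun y hy => ?_
    obtain ⟨p, hp, rfl⟩ := List.mem_map.1 hy
    refine Lie.Chev.certFullF4.xg_mem_group ?_ _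
    show p.1 < 48
    rcases hw with ⟨t, h | h⟩ | ⟨t, u, h | h⟩ <;> subst h <;>
      simp [Cfsg.Lie.f4PairWord, Cfsg.Lie.b2ClassWord, Cfsg.Lie.f4p1, Cfsg.Lie.f4p4,
        Cfsg.Lie.f4m1, Cfsg.Lie.f4m4, Cfsg.Lie.f4a, Cfsg.Lie.f4b, Cfsg.Lie.f4ab,
        Cfsg.Lie.f4aab, Cfsg.Lie.f4ma, Cfsg.Lie.f4mb, Cfsg.Lie.f4mab, Cfsg.Lie.f4maab] at hp <;>
      rcases hp with rfl | rfl | rfl | rfl <;> simp
  obtain ⟨j, hj⟩ := hx
  have hpow : (x : GL Cfsg.Lie.chevF4.Idx K) ^ 2 ^ 5 = 1 := by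
    refine Lie.Chev.certFullF4.pow_eq_one_of_pPower (H := 11) (by decide +kernel) (by norm_num)
      Lie.Chev.certFullF4.isPGroup_U ?_ (hle x.2) (j := j) ?_
    · have h := Lie.Chev.certFullF4.card_group_formula Lie.Chev.chainF4_ok Lie.Chev.chainF4_len
        Lie.Chev.chainF4_poly (Lie.Chev.torusOrderF4 K)
      rw [one_mul] at h
      rw [h, Lie.Chev.certFullF4.card_posUnipotent, hK, mul_comm 2]
      intro hd
      have h2 := Nat.dvd_of_mul_dvd_mul_left (by positivity) hd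
      simp only [List.map_cons, List.map_nil, List.prod_cons, List.prod_nil, mul_one] at h2
      have hodd : ∀ d : ℕ, d ≠ 0 → Odd (q ^ d - 1) := fun d hd =>
        Nat.Even.sub_odd (Nat.one_le_pow _ _ (by positivity))
          ((Nat.even_pow' hd).2 ((Nat.even_pow' (by omega)).2 even_two)) odd_one
      exact Nat.not_even_iff_odd.2 ((hodd 2 (by omega)).mul ((hodd 6 (by omega)).mul
        ((hodd 8 (by omega)).mul (hodd 12 (by omega))))) (even_iff_two_dvd.2 h2)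
    · rw [← hj, ← Subgroup.coe_pow, pow_orderOf_eq_one]; rfl
  rw [← Subgroup.orderOf_coe]
  exact Nat.le_of_dvd (by norm_num) (orderOf_dvd_of_pow_eq_one hpow)

end Cfsg.Agent.S2370
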