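import Cfsg.Statements.S2383
import Cfsg.Agent.Lib.Lie.Chev.SemisimpleCount
import Cfsg.Agent.Lib.Lie.Chev.CertsFull
import Cfsg.Agent.Lib.Lie.Chev.OrderB2
import Cfsg.Agent.Lib.Lie.Chev.OrderD4
import Cfsg.Agent.Lib.Lie.Chev.OrderE7

set_option autoImplicit false
open Cfsg

namespace Cfsg.Agent.S2383

/-- Steinberg's count of semisimple classes in characteristic 2 for the types B₂, D₄, E₇, where the finite simply connected group has trivial centre and so coincides with the Chevalley group: for the Chevalley group of type B₂, D₄ or E₇ over a field with `q` elements of characteristic 2, the conjugacy classes of elements of odd order number exactly `q^l`, `l` the rank. -/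
theorem result {F : Type*} [Field F] [Fintype F] {q : ℕ} (hq : Fintype.card F = q) [CharP F 2]
    (D : Cfsg.Lie.ChevalleyDatum) (hD : D ∈ [Cfsg.Lie.chevB2, Cfsg.Lie.chevD4, Cfsg.Lie.chevE7]) :
    Nat.card {c : ConjClasses ↥(D.group F) // ∃ g : ↥(D.group F), ConjClasses.mk g = c ∧ Odd (orderOf g)} = q ^ D.rank := by
  subst hq
  haveI : Fact (Nat.Prime 2) := ⟨Nat.prime_two⟩
  have hg : (Fintype.card F - 1).gcd 2 = 1 := by
    obtain ⟨n, -, hn⟩ := FiniteField.card F 2
    have h1 := Fintype.one_lt_card (α := F)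
    have h2 : 2 ∣ Fintype.card F := hn ▸ dvd_pow_self 2 n.ne_zero
    refine Nat.Coprime.symm ((Nat.Prime.coprime_iff_not_dvd Nat.prime_two).2 fun h => ?_)
    omega
  simp only [← Nat.coprime_two_right]
  simp only [List.mem_cons, List.not_mem_nil, or_false] at hD
  rcases hD with rfl | rfl | rfl
  · exact Cfsg.Agent.Lie.Chev.certFullB2.card_semisimple_classes (p := 2) (by
      rw [Cfsg.Agent.Lie.Chev.cardHB2, Fin.prod_univ_two]; simp [Cfsg.Lie.chevB2, hg]; ring)
  · exact Cfsg.Agent.Lie.Chev.certFullD4.card_semisimple_classes (p := 2) (by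
      rw [Cfsg.Agent.Lie.Chev.cardHD4, Fin.prod_univ_four]; simp [Cfsg.Lie.chevD4, hg]; ring)
  · exact Cfsg.Agent.Lie.Chev.certFullE7.card_semisimple_classes (p := 2) (by
      rw [Cfsg.Agent.Lie.Chev.cardHE7, Fin.prod_univ_seven]; simp [Cfsg.Lie.chevE7, hg]; ring)

end Cfsg.Agent.S2383
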