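import Cfsg.Statements.S2384
import Cfsg.Agent.Lib.Lie.SLSemisimpleClasses

set_option autoImplicit false
open Cfsg

namespace Cfsg.Agent.S2384

/-- In `SL_n(q)`, `q` a power of the prime `p`, the number of conjugacy classes of elements of order prime to `p` (the semisimple classes) is `q^(n-1)`. -/
theorem result {F : Type*} [Field F] [Fintype F] {q : ℕ} (hq : Fintype.card F = q) (p : ℕ) [Fact p.Prime] [CharP F p] (n : ℕ) (hn : 1 ≤ n) :
    Nat.card {c : ConjClasses (Matrix.SpecialLinearGroup (Fin n) F) //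
      ∃ g : Matrix.SpecialLinearGroup (Fin n) F, ConjClasses.mk g = c ∧ (orderOf g).Coprime p} = q ^ (n - 1) := by
  classical
  subst hq
  obtain ⟨k, rfl⟩ : ∃ k, n = k + 1 := ⟨n - 1, by omega⟩
  rw [Nat.add_sub_cancel, ← Cfsg.Agent.Lie.Semisimple.card_polys (F := F) k ((-1) ^ (k + 1))]
  let φ : ConjClasses (Matrix.SpecialLinearGroup (Fin (k + 1)) F) → Polynomial F :=
    Quotient.lift (fun A => (A : Matrix (Fin (k + 1)) (Fin (k + 1)) F).charpoly) fun A B h => by
      obtain ⟨c, rfl⟩ := isConj_iff.1 h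
      show _ = ((c * A * c⁻¹ : Matrix.SpecialLinearGroup (Fin (k + 1)) F) : Matrix (Fin (k + 1)) (Fin (k + 1)) F).charpoly
      rw [Matrix.SpecialLinearGroup.coe_mul, Matrix.charpoly_mul_comm, ← Matrix.SpecialLinearGroup.coe_mul,
        inv_mul_cancel_left]
  have hφ : ∀ A, φ (ConjClasses.mk A) = (A : Matrix (Fin (k + 1)) (Fin (k + 1)) F).charpoly := fun A => rfl
  refine Nat.card_congr (Equiv.ofBijective (fun c => ⟨φ c.1, ?_⟩) ⟨?_, ?_⟩)
  · obtain ⟨_, A, rfl, -⟩ := c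
    rw [hφ]
    refine ⟨Matrix.charpoly_monic _, by rw [Matrix.charpoly_natDegree_eq_dim, Fintype.card_fin], ?_⟩
    have h := Matrix.det_eq_sign_charpoly_coeff (A : Matrix (Fin (k + 1)) (Fin (k + 1)) F)
    rw [A.2, Fintype.card_fin] at h
    rcases neg_one_pow_eq_or F (k + 1) with e | e <;> rw [e] at h ⊢ <;> first | linear_combination h | linear_combination -h
  · rintro ⟨_, A, rfl, hA⟩ ⟨_, B, rfl, hB⟩ h
    simp only [Subtype.mk.injEq, hφ] at h
    exact Subtype.ext (ConjClasses.mk_eq_mk_iff_isConj.2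
      (Cfsg.Agent.Lie.Semisimple.isConj_of_charpoly_eq (by omega) hA hB h))
  · rintro ⟨P, hP, hd, h0⟩
    obtain ⟨A, hA, hc⟩ := Cfsg.Agent.Lie.Semisimple.exists_semisimple_SL (p := p) P hP hd h0
    exact ⟨⟨ConjClasses.mk A, A, rfl, hA⟩, Subtype.ext hc⟩

end Cfsg.Agent.S2384
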