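import Cfsg.Statements.S2385
import Cfsg.Agent.Lib.Lie.SympSemisimple
import Cfsg.Agent.Lib.Lie.UnitarySemisimple

set_option autoImplicit false
open Cfsg

namespace Cfsg.Agent.S2385

open Polynomial Cfsg.Agent.Classical Cfsg.Agent.Lie.SympSemisimple

variable {F : Type*} [Field F] [Fintype F] {n : ℕ}

local notation "Sp" => Matrix.symplecticGroup (Fin n) F

theorem coe_pow' (A : Sp) (k : ℕ) :
    ((A ^ k : Sp) : Matrix (Fin n ⊕ Fin n) (Fin n ⊕ Fin n) F) = (A : Matrix _ _ F) ^ k := SubmonoidClass.coe_pow A k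

theorem toLin_charpoly' (A : Matrix (Fin n ⊕ Fin n) (Fin n ⊕ Fin n) F) :
    (Matrix.toLin' A).charpoly = A.charpoly := by
  rw [← Matrix.toLin_eq_toLin', Matrix.charpoly_toLin]

theorem reverse_charpoly_symp (A : Sp) :
    (A : Matrix (Fin n ⊕ Fin n) (Fin n ⊕ Fin n) F).charpoly.reverse =
      (A : Matrix (Fin n ⊕ Fin n) (Fin n ⊕ Fin n) F).charpoly := by
  classical
  set M := (A : Matrix (Fin n ⊕ Fin n) (Fin n ⊕ Fin n) F)
  set M' := ((A⁻¹ : Sp) : Matrix (Fin n ⊕ Fin n) (Fin n ⊕ Fin n) F)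
  have hMM : M * M' = 1 := congrArg Subtype.val (mul_inv_cancel A)
  have hsim : M'.charpoly = M.charpoly := by
    have h1 : Matrix.J (Fin n) F * M' = M.transpose * Matrix.J (Fin n) F := by
      calc Matrix.J (Fin n) F * M' = M.transpose * Matrix.J (Fin n) F * M * M' := by
            rw [SymplecticGroup.mem_iff'.1 A.2]
        _ = _ := by rw [Matrix.mul_assoc _ M, hMM, Matrix.mul_one]
    obtain ⟨u, hu⟩ := (Matrix.isUnit_iff_isUnit_det (Matrix.J (Fin n) F)).2 (Matrix.isUnit_det_J _ _)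
    rw [← hu] at h1
    rw [← Matrix.charpoly_units_conj u M', h1, Matrix.mul_assoc]
    simp [Matrix.charpoly_transpose]
  have hdetM : M.det = 1 := SymplecticGroup.det_eq_one A.2
  conv_rhs => rw [← hsim]
  rw [Matrix.reverse_charpoly, Matrix.charpolyRev, Matrix.charpoly]
  have h2 : (1 - (X : F[X]) • M.map C) = M.map C * -(Matrix.charmatrix M') := by
    rw [Matrix.charmatrix, mul_neg, mul_sub, RingHom.mapMatrix_apply, ← Matrix.map_mul, hMM,
      Matrix.map_one C (map_zero _) (map_one _), neg_sub, Matrix.scalar_apply]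
    congr 1
    ext i j
    rw [Matrix.smul_apply, Matrix.mul_diagonal, smul_eq_mul, Polynomial.X_mul]
  rw [h2, Matrix.det_mul, Matrix.det_neg, ← RingHom.mapMatrix_apply, ← RingHom.map_det, hdetM, map_one, one_mul,
    Fintype.card_sum, Fintype.card_fin, Even.neg_one_pow ⟨n, rfl⟩, one_mul]

theorem isConj_of_charpoly_eq {p : ℕ} [Fact p.Prime] [CharP F p] {A B : Sp}
    (hA : (orderOf A).Coprime p) (hB : (orderOf B).Coprime p)
    (h : (A : Matrix (Fin n ⊕ Fin n) (Fin n ⊕ Fin n) F).charpoly =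
      (B : Matrix (Fin n ⊕ Fin n) (Fin n ⊕ Fin n) F).charpoly) : IsConj A B := by
  classical
  set M := orderOf A * orderOf B
  have hM : (M : F) ≠ 0 := Cfsg.Agent.Lie.Semisimple.cast_ne_zero_of_coprime (hA.mul_left hB)
  let g := Matrix.toLin' (A : Matrix (Fin n ⊕ Fin n) (Fin n ⊕ Fin n) F)
  let k := Matrix.toLin' (B : Matrix (Fin n ⊕ Fin n) (Fin n ⊕ Fin n) F)
  have hgM : g ^ M = 1 := by
    rw [← Matrix.toLin'_pow, ← coe_pow', pow_mul, pow_orderOf_eq_one, one_pow]
    exact Matrix.toLin'_one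
  have hkM : k ^ M = 1 := by
    rw [← Matrix.toLin'_pow, ← coe_pow', pow_mul', pow_orderOf_eq_one, one_pow]
    exact Matrix.toLin'_one
  let r : (Fin (n + n) → F) ≃ₗ[F] (Fin n ⊕ Fin n → F) := LinearEquiv.funCongrLeft F F finSumFinEquiv
  have hr : ∀ (f : Module.End F (Fin n ⊕ Fin n → F)), f ^ M = 1 → (r.symm.conj f) ^ M = 1 := fun f hf => by
    rw [show r.symm.conj f = r.symm.conjAlgEquiv F f from rfl, ← map_pow, hf, map_one]
  obtain ⟨e₀, he₀⟩ := Cfsg.Agent.Lie.Semisimple.similar_of_charpoly_eq _ _ _ _ hM (hr g hgM) (hr k hkM)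
    (by rw [LinearEquiv.charpoly_conj, LinearEquiv.charpoly_conj, toLin_charpoly', toLin_charpoly', h])
  let e : (Fin n ⊕ Fin n → F) ≃ₗ[F] (Fin n ⊕ Fin n → F) := (r.symm.trans e₀).trans r
  have he : ∀ v, e (g v) = k (e v) := fun v => by
    have h1 := congrArg r (he₀ (r.symm v))
    simpa [e, LinearEquiv.conj_apply] using h1
  have hinvg : ∀ u v, sympB n F (g u) (g v) = sympB n F u v := fun u v => by
    rw [sympB_apply, sympB_apply]
    exact sympForm_map A u v
  have hinvk : ∀ u v, sympB n F (k u) (k v) = sympB n F u v := fun u v => by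
    rw [sympB_apply, sympB_apply]
    exact sympForm_map B u v
  have halt : (sympB n F).IsAlt := fun u => by rw [sympB_apply]; exact sympForm_self u
  have hnd : ∀ x, (∀ y, sympB n F x y = 0) → x = 0 := fun x hx =>
    eq_zero_of_sympForm_eq_zero fun v => by rw [← sympB_apply]; exact hx v
  obtain ⟨Y, hY, hYg⟩ := exists_equivariant g hM hgM (B := sympB n F)
    (B' := (sympB n F).compl₁₂ e.toLinearMap e.toLinearMap) halt (fun u => halt (e u)) hnd
    (fun x hx => e.injective ((hnd _ fun y => by simpa using hx (e.symm y)).trans (map_zero e).symm))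
    hinvg (fun u v => by simp only [LinearMap.compl₁₂_apply, LinearEquiv.coe_coe, he, hinvk])
  let c := LinearMap.toMatrix' (e.toLinearMap ∘ₗ Y.toLinearMap)
  have hc : c ∈ Matrix.symplecticGroup (Fin n) F := mem_symplecticGroup_iff_form.2 fun u v => by
    rw [← sympB_apply, ← sympB_apply, ← Matrix.toLin'_apply, ← Matrix.toLin'_apply, Matrix.toLin'_toMatrix']
    exact hY u v
  refine isConj_iff.2 ⟨⟨c, hc⟩, ?_⟩
  rw [mul_inv_eq_iff_eq_mul]
  refine Subtype.ext (Matrix.toLin'.injective ?_)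
  show Matrix.toLin' (c * (A : Matrix _ _ F)) = Matrix.toLin' ((B : Matrix _ _ F) * c)
  rw [Matrix.toLin'_mul, Matrix.toLin'_mul, Matrix.toLin'_toMatrix']
  refine LinearMap.ext fun v => ?_
  show e (Y (g v)) = k (e (Y v))
  rw [hYg, he]

/-- In the symplectic group `Sp_{2n}(q)`, `q` a power of the prime `p`, the number of conjugacy classes of elements of order prime to `p` is `q^n`. -/
theorem result {F : Type*} [Field F] [Fintype F] {q : ℕ} (hq : Fintype.card F = q) (p : ℕ) [Fact p.Prime] [CharP F p] (n : ℕ) :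
    Nat.card {c : ConjClasses ↥(Matrix.symplecticGroup (Fin n) F) //
      ∃ g : ↥(Matrix.symplecticGroup (Fin n) F), ConjClasses.mk g = c ∧ (orderOf g).Coprime p} = q ^ n := by
  classical
  subst hq
  rw [← Cfsg.Agent.Lie.SympSemisimple.card_pal (F := F) n]
  obtain ⟨N, hN, hirr⟩ := Cfsg.Agent.Lie.UnitarySemisimple.exists_exponent (F := F) (2 * n)
  let φ : ConjClasses ↥(Matrix.symplecticGroup (Fin n) F) → Polynomial F :=
    Quotient.lift (fun A => (A : Matrix (Fin n ⊕ Fin n) (Fin n ⊕ Fin n) F).charpoly) fun A B h => by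
      obtain ⟨c, rfl⟩ := isConj_iff.1 h
      show _ = ((c * A * c⁻¹ : ↥(Matrix.symplecticGroup (Fin n) F)) : Matrix (Fin n ⊕ Fin n) (Fin n ⊕ Fin n) F).charpoly
      rw [Submonoid.coe_mul, Matrix.charpoly_mul_comm, ← Submonoid.coe_mul, inv_mul_cancel_left]
  have hφ : ∀ A, φ (ConjClasses.mk A) = (A : Matrix (Fin n ⊕ Fin n) (Fin n ⊕ Fin n) F).charpoly := fun A => rfl
  refine Nat.card_congr (Equiv.ofBijective (fun c => ⟨φ c.1, ?_⟩) ⟨?_, ?_⟩)
  · obtain ⟨_, A, rfl, -⟩ := c
    rw [hφ]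
    exact ⟨Matrix.charpoly_monic _, by rw [Matrix.charpoly_natDegree_eq_dim]; simp [two_mul],
      reverse_charpoly_symp A⟩
  · rintro ⟨_, A, rfl, hA⟩ ⟨_, B, rfl, hB⟩ h
    simp only [Subtype.mk.injEq, hφ] at h
    exact Subtype.ext (ConjClasses.mk_eq_mk_iff_isConj.2 (isConj_of_charpoly_eq hA hB h))
  · rintro ⟨P, hP, hd, hs⟩
    have h0 : P.coeff 0 = 1 := by
      conv_lhs => rw [← hs]
      rw [Polynomial.coeff_zero_reverse]
      exact hP
    obtain ⟨g, B, hA, hB, hg, hgN, hgc⟩ := Cfsg.Agent.Lie.SympSemisimple.exists_model hN (2 * n) hirr (2 * n) P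
      le_rfl hP hd (even_two_mul n) h0 (by rw [Pal, hs, h0, map_one, one_mul])
    obtain ⟨L, hL⟩ := exists_symp_coords B hA hB (e := n) (Module.finrank_fin_fun F)
    set M := LinearMap.toMatrix' (L.symm.conj g) with hMdef
    have hM : M ∈ Matrix.symplecticGroup (Fin n) F := mem_symplecticGroup_iff_form.2 fun u v => by
      rw [← hL, ← hL, ← Matrix.toLin'_apply, ← Matrix.toLin'_apply, Matrix.toLin'_toMatrix']
      simp [LinearEquiv.conj_apply, hg]
    have hMc : M.charpoly = P := by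
      rw [← toLin_charpoly', Matrix.toLin'_toMatrix', LinearEquiv.charpoly_conj, hgc]
    refine ⟨⟨ConjClasses.mk ⟨M, hM⟩, ⟨M, hM⟩, rfl,
      Nat.Coprime.coprime_dvd_left (orderOf_dvd_of_pow_eq_one (n := N) ?_) ?_⟩, Subtype.ext hMc⟩
    · refine Subtype.ext (Matrix.toLin'.injective ?_)
      rw [coe_pow', Matrix.toLin'_pow, Matrix.toLin'_toMatrix',
        show L.symm.conj g = L.symm.conjAlgEquiv F g from rfl, ← map_pow, hgN, map_one]
      exact Matrix.toLin'_one.symm
    · exact ((Fact.out : p.Prime).coprime_iff_not_dvd.2 fun h => hN ((CharP.cast_eq_zero_iff F p N).2 h)).symm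

end Cfsg.Agent.S2385
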