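import Cfsg.Statements.S2386
import Cfsg.Agent.Lib.Lie.UnitarySemisimple

set_option autoImplicit false
open Cfsg

namespace Cfsg.Agent.S2386

/-- In the special unitary group `SU_n(q)` (matrices of determinant one over the field with `q²` elements preserving the standard Hermitian form), `q` a power of the prime `p`, the number of conjugacy classes of elements of order prime to `p` is `q^(n-1)`. -/
theorem result {F : Type*} [Field F] [Fintype F] {q : ℕ} (hF : Fintype.card F = q ^ 2) (p : ℕ) [Fact p.Prime] [CharP F p] (n : ℕ) (hn : 1 ≤ n) :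
    Nat.card {c : ConjClasses ↥(Cfsg.SU n F q) // ∃ g : ↥(Cfsg.SU n F q), ConjClasses.mk g = c ∧ (orderOf g).Coprime p} = q ^ (n - 1) := by
  classical
  obtain ⟨k, rfl⟩ : ∃ k, n = k + 1 := ⟨n - 1, by omega⟩
  rw [Nat.add_sub_cancel, ← Cfsg.Agent.Lie.UnitarySemisimple.card_stable hF k]
  obtain ⟨N, hN, hirr⟩ := Cfsg.Agent.Lie.UnitarySemisimple.exists_exponent (F := F) (k + 1)
  haveI : Finite ↥(Cfsg.SU (k + 1) F q) :=
    Finite.of_injective Cfsg.Agent.Classical.suVal fun a b h => Cfsg.Agent.Classical.suVal_ext h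
  let φ : ConjClasses ↥(Cfsg.SU (k + 1) F q) → Polynomial F :=
    Quotient.lift (fun A => (Cfsg.Agent.Classical.suVal A).charpoly) fun A B h => by
      obtain ⟨c, rfl⟩ := isConj_iff.1 h
      show _ = (Cfsg.Agent.Classical.suVal (c * A * c⁻¹)).charpoly
      rw [Cfsg.Agent.Classical.suVal_mul, Matrix.charpoly_mul_comm, ← Cfsg.Agent.Classical.suVal_mul,
        inv_mul_cancel_left]
  have hφ : ∀ A, φ (ConjClasses.mk A) = (Cfsg.Agent.Classical.suVal A).charpoly := fun A => rfl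
  refine Nat.card_congr (Equiv.ofBijective (fun c => ⟨φ c.1, ?_⟩) ⟨?_, ?_⟩)
  · obtain ⟨_, A, rfl, -⟩ := c
    rw [hφ]
    refine ⟨⟨Matrix.charpoly_monic _, by rw [Matrix.charpoly_natDegree_eq_dim, Fintype.card_fin], ?_⟩,
      Cfsg.Agent.Lie.UnitarySemisimple.stable_charpoly hF (Cfsg.Agent.Lie.UnitaryConj.hstar_suVal hF A)⟩
    have h := Matrix.det_eq_sign_charpoly_coeff (Cfsg.Agent.Classical.suVal A)
    rw [show (Cfsg.Agent.Classical.suVal A).det = 1 from A.1.2, Fintype.card_fin] at h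
    rcases neg_one_pow_eq_or F (k + 1) with e | e <;> rw [e] at h ⊢ <;> first | linear_combination h | linear_combination -h
  · rintro ⟨_, A, rfl, hA⟩ ⟨_, B, rfl, hB⟩ h
    simp only [Subtype.mk.injEq, hφ] at h
    refine Subtype.ext (ConjClasses.mk_eq_mk_iff_isConj.2 ?_)
    have hM : ((orderOf A * orderOf B : ℕ) : F) ≠ 0 :=
      Cfsg.Agent.Lie.Semisimple.cast_ne_zero_of_coprime (hA.mul_left hB)
    have hAM : (A.1 : Matrix.SpecialLinearGroup (Fin (k + 1)) F) ^ (orderOf A * orderOf B) = 1 := by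
      rw [← SubgroupClass.coe_pow, pow_mul, pow_orderOf_eq_one, one_pow]; rfl
    have hBM : (B.1 : Matrix.SpecialLinearGroup (Fin (k + 1)) F) ^ (orderOf A * orderOf B) = 1 := by
      rw [← SubgroupClass.coe_pow, pow_mul', pow_orderOf_eq_one, one_pow]; rfl
    obtain ⟨e, he⟩ := Cfsg.Agent.Lie.Semisimple.similar_of_charpoly_eq _ _ _ _ hM
      (Cfsg.Agent.Lie.Semisimple.toLin_pow_eq_one hAM) (Cfsg.Agent.Lie.Semisimple.toLin_pow_eq_one hBM)
      (by rw [Cfsg.Agent.Lie.Semisimple.toLin_charpoly, Cfsg.Agent.Lie.Semisimple.toLin_charpoly]; exact h)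
    refine Cfsg.Agent.Lie.UnitaryConj.isConj_SU hF (X := LinearMap.toMatrix' e.toLinearMap) ?_ ?_ (fun c hc => ?_)
    · exact (Matrix.isUnit_iff_isUnit_det _).2 (by rw [LinearMap.det_toMatrix']; exact e.isUnit_det')
    · refine Matrix.toLin'.injective ?_
      rw [Matrix.toLin'_mul, Matrix.toLin'_mul, Matrix.toLin'_toMatrix']
      exact LinearMap.ext fun v => (he v).symm
    · have hu := Cfsg.Agent.Lie.UnitaryConj.hstar_suVal hF A
      have h0 : (Cfsg.Agent.Classical.suVal A).charpoly.coeff 0 ≠ 0 := by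
        intro h0
        have hd := Matrix.det_eq_sign_charpoly_coeff (Cfsg.Agent.Classical.suVal A)
        rw [h0, mul_zero, show (Cfsg.Agent.Classical.suVal A).det = 1 from A.1.2] at hd
        exact one_ne_zero hd
      obtain ⟨g, hg, hgN, hgc, hgz⟩ := Cfsg.Agent.Lie.UnitarySemisimple.exists_model hF hN (k + 1) hirr (k + 1)
        (Cfsg.Agent.Classical.suVal A).charpoly le_rfl (Matrix.charpoly_monic _)
        (by rw [Matrix.charpoly_natDegree_eq_dim, Fintype.card_fin]) h0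
        (Cfsg.Agent.Lie.UnitarySemisimple.stable_charpoly hF hu)
      have hM' : ((orderOf A * orderOf B * N : ℕ) : F) ≠ 0 := by rw [Nat.cast_mul]; exact mul_ne_zero hM hN
      obtain ⟨e', he'⟩ := Cfsg.Agent.Lie.Semisimple.similar_of_charpoly_eq _ (Matrix.toLin' g) _ _ hM'
        (by rw [← Matrix.toLin'_pow, pow_mul', hgN, one_pow, Matrix.toLin'_one]; rfl)
        (Cfsg.Agent.Lie.Semisimple.toLin_pow_eq_one (A := A.1) (by rw [pow_mul, hAM, one_pow]))
        (by rw [Cfsg.Agent.Lie.Semisimple.toLin_charpoly, Cfsg.Agent.Lie.Semisimple.toLin_charpoly, hgc])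
      obtain ⟨Y, hY, hYc⟩ := Cfsg.Agent.Lie.UnitaryConj.exists_unitary_conj hF hg hu
        (X := LinearMap.toMatrix' e'.toLinearMap)
        ((Matrix.isUnit_iff_isUnit_det _).2 (by rw [LinearMap.det_toMatrix']; exact e'.isUnit_det'))
        (by
          refine Matrix.toLin'.injective ?_
          rw [Matrix.toLin'_mul, Matrix.toLin'_mul, Matrix.toLin'_toMatrix']
          exact LinearMap.ext fun v => (he' v).symm)
      obtain ⟨z, hz, hzg, hzd⟩ := hgz (by omega) c hc
      have hY' := mul_eq_one_comm.1 hY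
      refine ⟨Y * z * Cfsg.Agent.Lie.UnitaryConj.hstar hF Y, ?_, ?_, ?_⟩
      · rw [Cfsg.Agent.Lie.UnitaryConj.hstar_mul, Cfsg.Agent.Lie.UnitaryConj.hstar_mul,
          Cfsg.Agent.Lie.UnitaryConj.hstar_hstar]
        simp only [← mul_assoc]
        rw [mul_assoc (Y * _) _ Y, hY, mul_one, mul_assoc Y _ z, hz, mul_one, hY']
      · have hA' : Cfsg.Agent.Classical.suVal A = Y * g * Cfsg.Agent.Lie.UnitaryConj.hstar hF Y := by
          rw [← hYc, mul_assoc, hY', mul_one]
        rw [hA', Commute, SemiconjBy]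
        simp only [← mul_assoc]
        rw [mul_assoc (Y * z) _ Y, hY, mul_one, mul_assoc (Y * g) _ Y, hY, mul_one, mul_assoc Y z g, hzg.eq,
          mul_assoc Y g z]
      · rw [Matrix.det_mul, Matrix.det_mul, hzd, mul_comm Y.det, mul_assoc, ← Matrix.det_mul, hY', Matrix.det_one,
          mul_one]
  · rintro ⟨P, ⟨hP, hd, h0⟩, hs⟩
    obtain ⟨g, hg, hgN, hgc, -⟩ := Cfsg.Agent.Lie.UnitarySemisimple.exists_model hF hN (k + 1) hirr (k + 1)
      P le_rfl hP hd (by rw [h0]; exact pow_ne_zero _ (neg_ne_zero.2 one_ne_zero)) hs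
    have hdet : g.det = 1 := by
      rw [Matrix.det_eq_sign_charpoly_coeff, hgc, h0, Fintype.card_fin, ← mul_pow]; simp
    let A : ↥(Cfsg.SU (k + 1) F q) :=
      Cfsg.Agent.Classical.suMk hF g hdet ((Cfsg.Agent.Lie.UnitaryConj.hstar_mul_self_iff hF g).1 hg)
    refine ⟨⟨ConjClasses.mk A, A, rfl, Nat.Coprime.coprime_dvd_left (orderOf_dvd_of_pow_eq_one (n := N) ?_) ?_⟩,
      Subtype.ext hgc⟩
    · exact Cfsg.Agent.Classical.suVal_ext ((Cfsg.Agent.Classical.suVal_pow A N).trans hgN)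
    · exact ((Fact.out : p.Prime).coprime_iff_not_dvd.2 fun h => hN ((CharP.cast_eq_zero_iff F p N).2 h)).symm

end Cfsg.Agent.S2386
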