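import Cfsg.Statements.S2388
import Cfsg.Agent.Lib.Classical.GLSemisimpleClasses
import Cfsg.Agent.Lib.Fus.CentralizerDet
-- import your own Cfsg.Agent.* helpers here

set_option autoImplicit false
open Cfsg Cfsg.Agent

namespace Cfsg.Agent.S2388

/-- In `SL_n(q)`, `q` a power of the prime `p`, two elements of order prime to `p` with the same characteristic polynomial are conjugate in `SL_n(q)` (not merely in `GL_n`). -/
theorem result {F : Type*} [Field F] [Fintype F] (p : ℕ) [Fact p.Prime] [CharP F p] (n : ℕ)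
    (g h : Matrix.SpecialLinearGroup (Fin n) F) (hg : (orderOf g).Coprime p) (hh : (orderOf h).Coprime p)
    (hc : (g : Matrix (Fin n) (Fin n) F).charpoly = (h : Matrix (Fin n) (Fin n) F).charpoly) : IsConj g h := by
  classical
  let G := Matrix.SpecialLinearGroup.toGL g
  let H := Matrix.SpecialLinearGroup.toGL h
  have hinj : Function.Injective (Matrix.SpecialLinearGroup.toGL : Matrix.SpecialLinearGroup (Fin n) F →* GL (Fin n) F) :=
    Matrix.SpecialLinearGroup.toGL_injective
  have hG : (orderOf G).Coprime p := by rwa [orderOf_injective _ hinj]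
  have hH : (orderOf H).Coprime p := by rwa [orderOf_injective _ hinj]
  have hcast : ∀ k : ℕ, k.Coprime p → (k : F) ≠ 0 := fun k hk => by
    rw [ne_eq, CharP.cast_eq_zero_iff F p]
    exact (Fact.out : p.Prime).coprime_iff_not_dvd.1 hk.symm
  obtain ⟨P, hP⟩ := isConj_iff.1 (GLSemisimpleClasses.isConj_of_charpoly_eq (g := G) (h := H)
    (hcast _ hG) (hcast _ hH) hc)
  obtain ⟨c, hcdet, hcx⟩ := Fus.CentralizerDet.main G P hG
  let c' : Matrix.SpecialLinearGroup (Fin n) F := ⟨(c : Matrix (Fin n) (Fin n) F), hcdet⟩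
  have e : Matrix.SpecialLinearGroup.toGL c' = c := Units.ext rfl
  refine isConj_iff.2 ⟨c', hinj ?_⟩
  rw [map_mul, map_mul, map_inv, e]
  exact hcx.trans hP

end Cfsg.Agent.S2388
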