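import Cfsg.Statements.S2390
import Cfsg.Agent.Lib.Classical.UnitaryDetCentralizer
-- import your own Cfsg.Agent.* helpers here

set_option autoImplicit false
open Cfsg Cfsg.Agent

namespace Cfsg.Agent.S2390

/-- In the special unitary group `SU_n(q)` (inside `SL_n` over the field with `q²` elements), `q` a power of the prime `p`, two elements of order prime to `p` with the same characteristic polynomial are conjugate in `SU_n(q)`. -/
theorem result {F : Type*} [Field F] [Fintype F] {q : ℕ} (hF : Fintype.card F = q ^ 2) (p : ℕ) [Fact p.Prime] [CharP F p] (n : ℕ)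
    (g h : ↥(Cfsg.SU n F q)) (hg : (orderOf g).Coprime p) (hh : (orderOf h).Coprime p)
    (hc : ((g : Matrix.SpecialLinearGroup (Fin n) F) : Matrix (Fin n) (Fin n) F).charpoly =
      ((h : Matrix.SpecialLinearGroup (Fin n) F) : Matrix (Fin n) (Fin n) F).charpoly) : IsConj g h := by
  classical
  rcases Nat.eq_zero_or_pos n with rfl | hn
  · rw [show g = h from Subtype.ext (Subtype.ext (Matrix.ext fun i => i.elim0))]
  have hmem : ∀ x : SU n F q, Matrix.SpecialLinearGroup.toGL (x : Matrix.SpecialLinearGroup (Fin n) F) ∈ GU n F q :=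
    fun x u v => x.2 u v
  let toGU : ↥(SU n F q) →* ↥(GU n F q) :=
    (Matrix.SpecialLinearGroup.toGL.comp (SU n F q).subtype).codRestrict _ hmem
  have hinj : Function.Injective toGU := fun x y e =>
    Subtype.ext (Matrix.SpecialLinearGroup.toGL_injective (congrArg Subtype.val e))
  have hcast : ∀ x : SU n F q, (orderOf x).Coprime p → ((orderOf (toGU x : GL (Fin n) F) : ℕ) : F) ≠ 0 := fun x hx => by
    rw [Subgroup.orderOf_coe, orderOf_injective _ hinj]
    exact (UnitaryDetCentralizer.cast_ne_zero_iff _).2 hx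
  obtain ⟨P, hP⟩ := isConj_iff.1 (UnitaryConjugacy.isConj_of_isConj hF (toGU g) (toGU h)
    (GLSemisimpleClasses.isConj_of_charpoly_eq (hcast g hg) (hcast h hh) hc))
  set e := ((P : GL (Fin n) F) : Matrix (Fin n) (Fin n) F).det with he
  have he0 : e ≠ 0 := ((Matrix.isUnit_iff_isUnit_det _).1 (P : GL (Fin n) F).isUnit).ne_zero
  have hne : e * Classical.qFrob hF e = 1 := by
    have h1 := congrArg Matrix.det ((UnitaryConjugacy.mem_GU_iff hF _).1 P.2)
    rw [Matrix.det_mul, Matrix.det_one, UnitaryConjugacy.st, Matrix.det_transpose,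
      show Matrix.det (Matrix.map _ (Classical.qFrob hF)) = _ from ((Classical.qFrob hF).map_det _).symm, mul_comm] at h1
    exact h1
  obtain ⟨c, hch, hcd⟩ := UnitaryDetCentralizer.exists_commute_det (p := p) hF hn (toGU h)
    (by rw [orderOf_injective _ hinj]; exact hh) (d := e⁻¹) (by rw [map_inv₀, ← mul_inv, hne, inv_one])
  have hdet : ((c * P : GU n F q) : GL (Fin n) F).val.det = 1 := by
    rw [Subgroup.coe_mul, Units.val_mul, Matrix.det_mul, hcd, ← he, inv_mul_cancel₀ he0]
  let Q : SU n F q := ⟨⟨((c * P : GU n F q) : GL (Fin n) F).val, hdet⟩, fun u v => (c * P).2 u v⟩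
  have hQ : toGU Q = c * P := Subtype.ext (Units.ext rfl)
  refine isConj_iff.2 ⟨Q, hinj ?_⟩
  rw [map_mul, map_mul, map_inv, hQ]
  calc c * P * toGU g * (c * P)⁻¹ = c * (P * toGU g * P⁻¹) * c⁻¹ := by group
    _ = toGU h := by rw [hP, hch, mul_inv_cancel_right]

end Cfsg.Agent.S2390
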