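import Cfsg.Statements.S2392
import Cfsg.Agent.Lib.Classical.CrossCharOrbit
import Cfsg.Agent.Lib.Classical.Transvection
-- import your own Cfsg.Agent.* helpers here

set_option autoImplicit false
open scoped MatrixGroups
open Cfsg Cfsg.Agent Matrix

namespace Cfsg.Agent.S2392

/-- A lower bound for representations in cross characteristic: for `n ≥ 3` and a field `F` with `q` elements, every homomorphism from `SL_n(F)` to `GL_d(K)`, `K` a field of characteristic different from that of `F`, whose kernel is central has `d ≥ q^(n-1) - 1`. -/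
theorem result {F : Type*} [Field F] [Fintype F] {q : ℕ} (hq : Fintype.card F = q) (n : ℕ) (hn : 3 ≤ n)
    {K : Type*} [Field K] (hK : ringChar K ≠ ringChar F) {d : ℕ}
    (ρ : Matrix.SpecialLinearGroup (Fin n) F →* GL (Fin d) K) (hker : ρ.ker ≤ Subgroup.center (Matrix.SpecialLinearGroup (Fin n) F)) :
    q ^ (n - 1) - 1 ≤ d := by
  classical
  subst hq
  obtain ⟨m, rfl⟩ : ∃ m, n = m + 1 := ⟨n - 1, by omega⟩
  rw [Nat.add_sub_cancel]
  haveI : NeZero m := ⟨by omega⟩
  haveI : Nontrivial (Fin m) := Fin.nontrivial_iff_two_le.2 (by omega)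
  set L := AlgebraicClosure K
  have hL : ringChar L ≠ ringChar F := by
    rwa [← Algebra.ringChar_eq K L]
  let e : Fin m ⊕ Fin 1 ≃ Fin (m + 1) := finSumFinEquiv
  let mkE : (M : Matrix (Fin m ⊕ Fin 1) (Fin m ⊕ Fin 1) F) → M.det = 1 → Matrix.SpecialLinearGroup (Fin (m + 1)) F := fun M h =>
    ⟨Matrix.reindex e e M, by rw [Matrix.det_reindex_self]; exact h⟩
  let uM : (Fin m → F) → Matrix (Fin m ⊕ Fin 1) (Fin m ⊕ Fin 1) F := fun x => Matrix.fromBlocks 1 (Matrix.replicateCol (Fin 1) x) 0 1
  have hu : ∀ x, (uM x).det = 1 := fun x => by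
    simp only [uM, Matrix.det_fromBlocks_zero₂₁, Matrix.det_one, mul_one]
  let lM : Matrix.SpecialLinearGroup (Fin m) F → Matrix (Fin m ⊕ Fin 1) (Fin m ⊕ Fin 1) F := fun A => Matrix.fromBlocks A.1 0 0 1
  have hl : ∀ A, (lM A).det = 1 := fun A => by
    simp only [lM, Matrix.det_fromBlocks_zero₂₁, Matrix.det_one, mul_one]
    exact A.2
  have hmk : ∀ (M N : Matrix (Fin m ⊕ Fin 1) (Fin m ⊕ Fin 1) F) hM hN hMN, mkE M hM * mkE N hN = mkE (M * N) hMN := fun M N hM hN hMN => Subtype.ext (by
    show Matrix.reindex e e M * Matrix.reindex e e N = Matrix.reindex e e (M * N)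
    simp only [Matrix.reindex_apply, Matrix.submatrix_mul_equiv])
  let ρL := (Matrix.GeneralLinearGroup.map (n := Fin d) (algebraMap K L)).comp ρ
  have hinj : ∀ g, ρL g = 1 → g ∈ Subgroup.center (Matrix.SpecialLinearGroup (Fin (m + 1)) F) := fun g hg => by
    refine hker ?_
    rw [MonoidHom.mem_ker]
    refine Units.ext (Matrix.map_injective (algebraMap K L).injective ?_)
    have h1 := congrArg Units.val hg
    rw [Units.val_one] at h1 ⊢
    show (ρ g).1.map _ = Matrix.map 1 _
    rw [Matrix.map_one _ (map_zero _) (map_one _)]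
    exact h1
  let W : Multiplicative (Fin m → F) →* Matrix (Fin d) (Fin d) L :=
    { toFun := fun x => (ρL (mkE (uM x.toAdd) (hu _))).1
      map_one' := by
        rw [show mkE (uM (Multiplicative.toAdd 1)) (hu _) = 1 from Subtype.ext (by
          simp [mkE, uM, Matrix.fromBlocks_one]), map_one, Units.val_one]
      map_mul' := fun x y => by
        rw [← Units.val_mul, ← map_mul, hmk _ _ (hu _) (hu _) (by rw [Matrix.det_mul, hu, hu, one_mul])]
        refine congrArg (fun g => (ρL g).1) (Subtype.ext (congrArg (Matrix.reindex e e) ?_))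
        simp [uM, Matrix.fromBlocks_multiply, add_comm] }
  let β : (Fin m → F) →ₗ[F] (Fin m → F) →ₗ[F] F := dotProductBilin F F
  refine le_of_le_of_eq ?_ (Fintype.card_fin d)
  refine CrossCharOrbit.le_card hL β ?_ ?_ W ?_ _ ?_
  · intro x hx
    obtain ⟨i, hi⟩ := Function.ne_iff.1 hx
    exact ⟨Pi.single i 1, by simpa [β] using hi⟩
  · intro x hx
    obtain ⟨i, hi⟩ := Function.ne_iff.1 hx
    exact ⟨Pi.single i 1, by simpa [β] using hi⟩
  · refine ⟨Pi.single 0 1, fun h1 => ?_⟩
    have hc := Subgroup.mem_center_iff.1 (hinj _ (Units.ext h1))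
    obtain ⟨j, hj⟩ := exists_ne (0 : Fin m)
    let A : Matrix.SpecialLinearGroup (Fin m) F := ⟨Matrix.transvection j 0 1, Matrix.det_transvection_of_ne j 0 hj 1⟩
    have h2 : Matrix.reindex e e (lM A) * Matrix.reindex e e (uM (Pi.single 0 1)) =
        Matrix.reindex e e (uM (Pi.single 0 1)) * Matrix.reindex e e (lM A) := congrArg Subtype.val (hc (mkE (lM A) (hl A)))
    simp only [Matrix.reindex_apply, Matrix.submatrix_mul_equiv] at h2
    have h3 := congrFun (congrFun ((Matrix.reindex e e).injective (by simpa only [Matrix.reindex_apply] using h2)) (Sum.inl j)) (Sum.inr 0)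
    simp [lM, uM, Matrix.fromBlocks_multiply, A, Matrix.mul_apply, Matrix.transvection, Matrix.single_apply,
      Matrix.one_apply, Pi.single_apply, hj, hj.symm] at h3
  · intro a ha
    refine ⟨Finset.univ.erase 0, ?_, fun b hb => ?_⟩
    · rw [Finset.card_erase_of_mem (Finset.mem_univ _), Finset.card_univ, Fintype.card_fun, Fintype.card_fin]
    · have hb0 := (Finset.mem_erase.1 hb).1
      obtain ⟨i, hi⟩ := Function.ne_iff.1 ha
      obtain ⟨j, hj⟩ := Function.ne_iff.1 hb0
      have key : ∀ (v : Fin m → F) (k : Fin m), v k ≠ 0 →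
          ∃ g : Matrix.SpecialLinearGroup (Fin m) F, g.1.mulVec (Pi.single 0 1) = v := by
        intro v k hk
        obtain ⟨M, hM, hM0, -⟩ := Classical.exists_isUnit_det_col v 0 k hk
        obtain ⟨l, hl0⟩ := exists_ne (0 : Fin m)
        obtain ⟨g, hg⟩ := Classical.exists_sl_of_det_ne_zero M hM l
        refine ⟨g, ?_⟩
        rw [hg, ← Matrix.mulVec_mulVec, Matrix.diagonal_mulVec_single, Function.update_of_ne hl0.symm, one_mul, hM0]
      obtain ⟨g₁, hg₁⟩ := key a i hi
      obtain ⟨g₂, hg₂⟩ := key b j hj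
      let A : Matrix.SpecialLinearGroup (Fin m) F := ⟨(g₂ * g₁⁻¹).1.transpose, by
        rw [Matrix.det_transpose]; exact (g₂ * g₁⁻¹).2⟩
      refine ⟨(ρL (mkE (lM A) (hl A))⁻¹).1, (ρL (mkE (lM A) (hl A))).1, fun x => A.1.mulVec x, ?_, ?_, ?_, ?_⟩
      · rw [← Units.val_mul, ← map_mul, inv_mul_cancel, map_one, Units.val_one]
      · refine Finite.injective_iff_bijective.1 fun x y hxy => ?_
        have h1 := congrArg (A⁻¹).1.mulVec hxy
        simp only [Matrix.mulVec_mulVec, ← Matrix.SpecialLinearGroup.coe_mul, inv_mul_cancel,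
          Matrix.SpecialLinearGroup.coe_one, Matrix.one_mulVec] at h1
        exact h1
      · intro x
        show (ρL (mkE (lM A) (hl A))).1 * (ρL (mkE (uM x) (hu x))).1 * (ρL (mkE (lM A) (hl A))⁻¹).1 = _
        rw [← Units.val_mul, ← Units.val_mul, ← map_mul, ← map_mul]
        refine congrArg (fun g => (ρL g).1) (mul_inv_eq_iff_eq_mul.2 ?_)
        show _ = mkE (uM (A.1.mulVec x)) (hu _) * _
        rw [hmk _ _ (hl _) (hu _) (by rw [Matrix.det_mul, hl, hu, one_mul]), hmk _ _ (hu _) (hl _) (by rw [Matrix.det_mul, hl, hu, one_mul])]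
        refine Subtype.ext (congrArg (Matrix.reindex e e) ?_)
        simp only [lM, uM, Matrix.fromBlocks_multiply]
        simp [← Matrix.replicateCol_mulVec]
      · intro x
        show b ⬝ᵥ x = a ⬝ᵥ A.1.mulVec x
        rw [Matrix.dotProduct_mulVec, ← hg₁, ← hg₂]
        congr 1
        show _ = _ ᵥ* (g₂ * g₁⁻¹).1.transpose
        rw [Matrix.vecMul_transpose, Matrix.mulVec_mulVec, ← Matrix.SpecialLinearGroup.coe_mul, inv_mul_cancel_right]

end Cfsg.Agent.S2392
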