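import Cfsg.Statements.S2393
import Cfsg.Agent.Lib.Classical.CrossCharOrbit
import Cfsg.Agent.Lib.Classical.SympBlocks
import Cfsg.Agent.Lib.Classical.Transvection
-- import your own Cfsg.Agent.* helpers here

set_option autoImplicit false
open scoped MatrixGroups
open Cfsg Cfsg.Agent Matrix

namespace Cfsg.Agent.S2393

/-- A lower bound for representations in cross characteristic: for `n ≥ 2` and a field `F` with `q` elements, `q` odd, every homomorphism from the symplectic group `Sp_{2n}(F)` to `GL_d(K)`, `K` a field of characteristic different from that of `F`, whose kernel is central has `d ≥ q^(n-1)(q-1)/2`. -/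
theorem result {F : Type*} [Field F] [Fintype F] {q : ℕ} (hq : Fintype.card F = q) (hodd : Odd q) (n : ℕ) (hn : 2 ≤ n)
    {K : Type*} [Field K] (hK : ringChar K ≠ ringChar F) {d : ℕ}
    (ρ : ↥(Matrix.symplecticGroup (Fin n) F) →* GL (Fin d) K) (hker : ρ.ker ≤ Subgroup.center ↥(Matrix.symplecticGroup (Fin n) F)) :
    q ^ (n - 1) * (q - 1) / 2 ≤ d := by
  classical
  subst hq
  obtain ⟨m, rfl⟩ : ∃ m, n = m + 2 := ⟨n - 2, by omega⟩
  set L := AlgebraicClosure K
  have hL : ringChar L ≠ ringChar F := by
    rwa [← Algebra.ringChar_eq K L]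
  have h2F : (2 : F) ≠ 0 := by
    intro e
    have hdvd : ringChar F ∣ 2 := (CharP.cast_eq_zero_iff F (ringChar F) 2).1 (by exact_mod_cast e)
    have hp : ringChar F = 2 := ((Nat.dvd_prime Nat.prime_two).1 hdvd).resolve_left CharP.ringChar_ne_one
    exact Nat.not_even_iff_odd.2 hodd (Nat.even_iff.2 (FiniteField.even_card_iff_char_two.1 hp))
  let E : Submodule F (Matrix (Fin (m + 2)) (Fin (m + 2)) F) :=
    { carrier := {S | S.transpose = S}
      add_mem' := fun {x y} hx hy => show (x + y).transpose = x + y by rw [Matrix.transpose_add, show x.transpose = x from hx, show y.transpose = y from hy]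
      zero_mem' := Matrix.transpose_zero
      smul_mem' := fun c {x} hx => show (c • x).transpose = c • x by rw [Matrix.transpose_smul, show x.transpose = x from hx] }
  haveI : Fintype E := Fintype.ofFinite _
  let u : E → ↥(Matrix.symplecticGroup (Fin (m + 2)) F) := fun S => ⟨Matrix.fromBlocks 1 S.1 0 1, by
    rw [SymplecticGroup.mem_iff, Matrix.fromBlocks_transpose, Matrix.J, Matrix.fromBlocks_multiply,
      Matrix.fromBlocks_multiply]
    simp [show (S.1).transpose = S.1 from S.2]⟩
  have humul : ∀ S T, u (S + T) = u S * u T := fun S T => Subtype.ext (by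
    show Matrix.fromBlocks 1 (S.1 + T.1) 0 1 = Matrix.fromBlocks 1 S.1 0 1 * Matrix.fromBlocks 1 T.1 0 1
    simp [Matrix.fromBlocks_multiply, add_comm])
  let cg : GL (Fin (m + 2)) F → E → E := fun g S => ⟨g.1 * S.1 * g.1.transpose, by
    show (g.1 * S.1 * g.1.transpose).transpose = _
    rw [Matrix.transpose_mul, Matrix.transpose_mul, Matrix.transpose_transpose, show (S.1).transpose = S.1 from S.2,
      Matrix.mul_assoc]⟩
  have hconj : ∀ g S, Classical.sympLevi (m + 2) g * u S = u (cg g S) * Classical.sympLevi (m + 2) g := fun g S =>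
    Subtype.ext (by
      show Matrix.fromBlocks g.1 0 0 (g⁻¹).1.transpose * Matrix.fromBlocks 1 S.1 0 1 =
        Matrix.fromBlocks 1 (g.1 * S.1 * g.1.transpose) 0 1 * Matrix.fromBlocks g.1 0 0 (g⁻¹).1.transpose
      simp [Matrix.fromBlocks_multiply, Matrix.mul_assoc, ← Matrix.transpose_mul])
  let ρL := (Matrix.GeneralLinearGroup.map (n := Fin d) (algebraMap K L)).comp ρ
  have hinj : ∀ g, ρL g = 1 → g ∈ Subgroup.center ↥(Matrix.symplecticGroup (Fin (m + 2)) F) := fun g hg => by
    refine hker ?_
    rw [MonoidHom.mem_ker]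
    refine Units.ext (Matrix.map_injective (algebraMap K L).injective ?_)
    have h1 := congrArg Units.val hg
    rw [Units.val_one] at h1 ⊢
    show (ρ g).1.map _ = Matrix.map 1 _
    rw [Matrix.map_one _ (map_zero _) (map_one _)]
    exact h1
  let W : Multiplicative E →* Matrix (Fin d) (Fin d) L :=
    { toFun := fun x => (ρL (u x.toAdd)).1
      map_one' := by
        rw [show u (Multiplicative.toAdd 1) = 1 from Subtype.ext (Matrix.fromBlocks_one), map_one, Units.val_one]
      map_mul' := fun x y => by rw [← Units.val_mul, ← map_mul, ← humul]; rfl }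
  let β : E →ₗ[F] E →ₗ[F] F := LinearMap.mk₂ F (fun b S => Matrix.trace (b.1 * S.1))
    (fun x y z => by rw [Submodule.coe_add, add_mul, Matrix.trace_add])
    (fun c x y => by rw [Submodule.coe_smul, Matrix.smul_mul, Matrix.trace_smul])
    (fun x y z => by rw [Submodule.coe_add, mul_add, Matrix.trace_add])
    (fun c x y => by rw [Submodule.coe_smul, Matrix.mul_smul, Matrix.trace_smul])
  have hnd : ∀ a : E, a ≠ 0 → ∃ x : E, β a x ≠ 0 := by
    intro a ha
    by_contra hcon
    push Not at hcon
    refine ha (Subtype.ext (Matrix.ext fun i j => ?_))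
    have h1 := hcon ⟨Matrix.single i j 1 + Matrix.single j i 1, by
      show (Matrix.single i j (1 : F) + Matrix.single j i 1).transpose = _
      rw [Matrix.transpose_add, Matrix.transpose_single, Matrix.transpose_single]; exact add_comm _ _⟩
    have hsym : a.1 j i = a.1 i j := congrFun (congrFun (show (a.1).transpose = a.1 from a.2) i) j
    simp [β, mul_add, Matrix.trace_add, Matrix.trace_mul_single, hsym] at h1
    have h2 : (2 : F) * a.1 i j = 0 := by linear_combination h1
    exact (mul_eq_zero.1 h2).resolve_left h2F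
  refine le_of_le_of_eq ?_ (Fintype.card_fin d)
  refine CrossCharOrbit.le_card hL β ?_ hnd W ?_ _ ?_
  · intro x hx
    obtain ⟨b, hb⟩ := hnd x hx
    refine ⟨b, ?_⟩
    show Matrix.trace (b.1 * x.1) ≠ 0
    rw [Matrix.trace_mul_comm]
    exact hb
  · refine ⟨⟨Matrix.single 0 0 1, by show (Matrix.single 0 0 (1 : F)).transpose = _; rw [Matrix.transpose_single]⟩, fun h1 => ?_⟩
    have hc := Subgroup.mem_center_iff.1 (hinj _ (Units.ext h1))
    have h01 : (1 : Fin (m + 2)) ≠ 0 := by simp
    let g : GL (Fin (m + 2)) F := Matrix.GeneralLinearGroup.mkOfDetNeZero (Matrix.transvection 1 0 1)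
      (by rw [Matrix.det_transvection_of_ne _ _ h01]; exact one_ne_zero)
    have h2 := hc (Classical.sympLevi (m + 2) g)
    rw [hconj] at h2
    have h3 := congrArg (fun x : ↥(Matrix.symplecticGroup (Fin (m + 2)) F) => x.1 (Sum.inl 1) (Sum.inr 1)) (mul_right_cancel h2)
    simp [u, cg, g, Matrix.transvection, Matrix.GeneralLinearGroup.mkOfDetNeZero, Matrix.mul_apply,
      Matrix.single_apply, Matrix.one_apply, h01, h01.symm, ite_and, Finset.sum_ite_eq, Finset.sum_ite_eq'] at h3
  · intro a ha
    obtain ⟨v, hv⟩ : ∃ v : Fin (m + 2) → F, v ⬝ᵥ a.1.mulVec v ≠ 0 := by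
      by_contra hcon
      push Not at hcon
      refine ha (Subtype.ext (Matrix.ext fun i j => ?_))
      have hsym : a.1 j i = a.1 i j := congrFun (congrFun (show (a.1).transpose = a.1 from a.2) i) j
      have h1 := hcon (Pi.single i 1 + Pi.single j 1)
      have hi := hcon (Pi.single i 1)
      have hj := hcon (Pi.single j 1)
      simp [Matrix.mulVec_add, add_dotProduct, dotProduct_add, hsym] at h1 hi hj
      have h2 : (2 : F) * a.1 i j = 0 := by linear_combination h1 - hi - hj
      exact (mul_eq_zero.1 h2).resolve_left h2F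
    obtain ⟨k, hk⟩ : ∃ k, v k ≠ 0 := by
      by_contra hcon
      push Not at hcon
      exact hv (by rw [show v = 0 from funext hcon, zero_dotProduct])
    obtain ⟨M₀, hM₀, hMv, -⟩ := Classical.exists_isUnit_det_col v 0 k hk
    set a' := M₀.transpose * a.1 * M₀ with ha'
    have hc : a' 0 0 ≠ 0 := by
      have h := Matrix.single_one_vecMul 0 M₀.transpose
      have e1 : a' 0 0 = v ⬝ᵥ a.1.mulVec v := by
        rw [ha', ← hMv, Matrix.mulVec_mulVec, Matrix.mulVec_single_one, Matrix.mulVec_single_one, Matrix.mul_assoc]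
        rfl
      rw [e1]
      exact hv
    let Ws : Finset (Fin (m + 2) → F) := Finset.univ.filter fun w => w 0 ≠ 0
    let Mw : (Fin (m + 2) → F) → Matrix (Fin (m + 2)) (Fin (m + 2)) F := fun w =>
      1 + Matrix.vecMulVec (Pi.single 0 1) (w - Pi.single 0 1)
    have hdet : ∀ w, (Mw w).det = w 0 := fun w => by
      simp only [Mw]
      rw [Matrix.vecMulVec_eq (Fin 1), Matrix.det_one_add_replicateCol_mul_replicateRow, dotProduct_single, mul_one,
        Pi.sub_apply, Pi.single_eq_same]
      ring
    let f : (Fin (m + 2) → F) → E := fun w => ⟨(M₀ * Mw w).transpose * a.1 * (M₀ * Mw w), by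
      show ((M₀ * Mw w).transpose * a.1 * (M₀ * Mw w)).transpose = _
      rw [Matrix.transpose_mul, Matrix.transpose_mul (M := (M₀ * Mw w).transpose), Matrix.transpose_transpose,
        show (a.1).transpose = a.1 from a.2, Matrix.mul_assoc]⟩
    have hentry : ∀ w j, (f w).1 0 j = w 0 * (a' 0 j + a' 0 0 * (w j - (Pi.single 0 1 : Fin (m + 2) → F) j)) := by
      intro w j
      have e1 : (f w).1 = (Mw w).transpose * (a' * Mw w) := by
        simp only [f, ha', Matrix.transpose_mul, Matrix.mul_assoc]
      rw [e1]
      simp only [Mw, Matrix.transpose_add, Matrix.transpose_one, Matrix.transpose_vecMulVec, Matrix.add_mul,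
        Matrix.one_mul, Matrix.vecMulVec_mul, Matrix.add_apply, Matrix.vecMulVec_apply, Matrix.single_one_vecMul,
        Matrix.row_apply, Matrix.mul_add, Matrix.mul_one, Matrix.mul_vecMulVec, Matrix.mulVec_single_one,
        Matrix.col_apply, Pi.sub_apply, Pi.single_eq_same, Matrix.add_mulVec, Matrix.one_mulVec, Matrix.vecMulVec_mulVec,
        single_dotProduct, one_mul, Pi.add_apply, Pi.smul_apply, op_smul_eq_smul, smul_eq_mul]
      ring
    refine ⟨Ws.image f, ?_, fun b hb => ?_⟩
    · have h1 : Ws.card ≤ 2 * (Ws.image f).card := by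
        refine Finset.card_le_mul_card_image Ws 2 fun b hb => ?_
        obtain ⟨w₀, hw₀, rfl⟩ := Finset.mem_image.1 hb
        refine le_trans (Finset.card_le_card_of_injOn (fun w => w 0) (t := {w₀ 0, - (w₀ 0)}) ?_ ?_) (Finset.card_le_two)
        · intro w hw
          simp only [Finset.coe_filter, Set.mem_setOf_eq] at hw
          have e := congrArg (fun S : E => S.1 0 0) hw.2
          simp only [hentry, Pi.single_eq_same] at e
          have e2 : w 0 ^ 2 = w₀ 0 ^ 2 := mul_left_cancel₀ hc (by linear_combination e)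
          simpa using sq_eq_sq_iff_eq_or_eq_neg.1 e2
        · intro w hw w' hw' hww
          simp only [Finset.coe_filter, Set.mem_setOf_eq] at hw hw'
          simp only at hww
          funext j
          have e := congrArg (fun S : E => S.1 0 j) (hw.2.trans hw'.2.symm)
          simp only [hentry, hww] at e
          have hw0 : w' 0 ≠ 0 := (Finset.mem_filter.1 hw'.1).2
          have e3 := mul_left_cancel₀ hc (add_left_cancel (mul_left_cancel₀ hw0 e))
          linear_combination e3
      have h2 : Ws.card = Fintype.card F ^ (m + 2 - 1) * (Fintype.card F - 1) := by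
        have e1 : Ws = Fintype.piFinset (Function.update (fun _ => Finset.univ) (0 : Fin (m + 2)) (Finset.univ.erase 0)) := by
          ext w
          simp only [Ws, Finset.mem_filter, Finset.mem_univ, true_and, Fintype.mem_piFinset]
          refine ⟨fun h i => ?_, fun h => by simpa using h 0⟩
          by_cases hi : i = 0
          · subst hi; simpa using h
          · simp [hi]
        rw [e1, Fintype.card_piFinset, Fin.prod_univ_succ]
        simp [Fin.succ_ne_zero, Finset.card_erase_of_mem, mul_comm]
      omega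
    · obtain ⟨w, hw, rfl⟩ := Finset.mem_image.1 hb
      have hdet0 : (M₀ * Mw w).det ≠ 0 := by
        rw [Matrix.det_mul, hdet]; exact mul_ne_zero hM₀ (Finset.mem_filter.1 hw).2
      let g : GL (Fin (m + 2)) F := Matrix.GeneralLinearGroup.mkOfDetNeZero _ hdet0
      refine ⟨(ρL (Classical.sympLevi (m + 2) g)⁻¹).1, (ρL (Classical.sympLevi (m + 2) g)).1, cg g, ?_, ?_, ?_, ?_⟩
      · rw [← Units.val_mul, ← map_mul, inv_mul_cancel, map_one, Units.val_one]
      · refine Finite.injective_iff_bijective.1 fun x y hxy => Subtype.ext ?_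
        have h1 : g.1 * x.1 * g.1.transpose = g.1 * y.1 * g.1.transpose := congrArg Subtype.val hxy
        have hu2 : IsUnit g.1.transpose := (Matrix.isUnit_transpose g.1).2 g.isUnit
        exact g.isUnit.mul_left_cancel (hu2.mul_right_cancel h1)
      · intro x
        show (ρL (Classical.sympLevi (m + 2) g)).1 * (ρL (u x)).1 * (ρL (Classical.sympLevi (m + 2) g)⁻¹).1 = _
        rw [← Units.val_mul, ← Units.val_mul, ← map_mul, ← map_mul]
        exact congrArg (fun g => (ρL g).1) (mul_inv_eq_iff_eq_mul.2 (hconj g x))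
      · intro x
        show Matrix.trace (g.1.transpose * a.1 * g.1 * x.1) = Matrix.trace (a.1 * (g.1 * x.1 * g.1.transpose))
        rw [Matrix.mul_assoc, Matrix.mul_assoc, Matrix.trace_mul_comm, Matrix.mul_assoc]

end Cfsg.Agent.S2393
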