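import Cfsg.Statements.S2399
import Cfsg.Agent.Lib.Lie.Chev.SteinbergPrime
-- import your own Cfsg.Agent.* helpers here

set_option autoImplicit false
open scoped MatrixGroups
open Cfsg

namespace Cfsg.Agent.S2399

/-- Projective representations in the natural characteristic lift: for each of the types G₂, B₂, D₄, F₄, E₆, E₇, E₈ over any field `K` (for types B₂ and G₂ the field must have more than two elements — the cases where the Chevalley group is not simple are set aside), every homomorphism from the Chevalley group to `PGL_n(L) = GL_n(L)/Z`, `L` a field of the same characteristic as `K`, lifts uniquely to a homomorphism from the group Δ presented by (R1), (R2) to `GL_n(L)`, compatibly with the projection Δ → Chevalley group sending x̄_r(t) to x_r(t). -/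
theorem result {K : Type*} [Field K] (D : Cfsg.Lie.ChevalleyDatum) (hD : D ∈ [Cfsg.Lie.chevG2, Cfsg.Lie.chevB2, Cfsg.Lie.chevD4, Cfsg.Lie.chevF4, Cfsg.Lie.chevE6, Cfsg.Lie.chevE7, Cfsg.Lie.chevE8]) (hK : D ∈ [Cfsg.Lie.chevB2, Cfsg.Lie.chevG2] → ∃ x : K, x ≠ 0 ∧ x ≠ 1)
    (θ : D.SteinbergCover K →* ↥(D.group K))
    (hθ : ∀ (r : ℕ) (t : K), r < D.nroots → ((θ (D.scGen K r t) : GL D.Idx K) : Matrix D.Idx D.Idx K) = D.x K r t)
    {L : Type*} [Field L] (hL : ringChar L = ringChar K) {n : ℕ}
    (φ : ↥(D.group K) →* GL (Fin n) L ⧸ Subgroup.center (GL (Fin n) L)) :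
    ∃! ψ : D.SteinbergCover K →* GL (Fin n) L, (QuotientGroup.mk' (Subgroup.center (GL (Fin n) L))).comp ψ = φ.comp θ := by
  classical
  by_cases hF : ∃ s : Finset K, 4 < s.card
  · obtain ⟨c, hN, hU⟩ := Lie.Chev.exists_univCert hD
    exact c.existsUnique_lift K hN hU hF _ (QuotientGroup.mk'_surjective _)
      (QuotientGroup.ker_mk' _).le (φ.comp θ)
  obtain ⟨c, hN, hP⟩ := Lie.Chev.exists_nbrCert hD
  push Not at hF
  haveI : Finite K := by
    by_contra hinf
    haveI : Infinite K := not_finite_iff_infinite.1 hinf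
    obtain ⟨s, hs⟩ := Infinite.exists_subset_card_eq K 5
    exact absurd (hF s) (by omega)
  set A := c.stCoverData K
  haveI := A.finite_of_finite hN
  have hperf : commutator (D.SteinbergCover K) = ⊤ := by
    rcases hP with hP | ⟨hD', hP⟩
    · exact A.perfect hN hP
    · exact A.perfect_odd hN hP (hK hD')
  set Z := Subgroup.center (GL (Fin n) L)
  set p := QuotientGroup.mk' Z
  set σ := φ.comp θ
  have hcp : p.ker ≤ Subgroup.center (GL (Fin n) L) := (QuotientGroup.ker_mk' Z).le
  have huniq : ∀ ψ ψ' : D.SteinbergCover K →* GL (Fin n) L,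
      p.comp ψ = σ → p.comp ψ' = σ → ψ = ψ' := by
    intro ψ ψ' e e'
    have hz : ∀ x, (ψ x)⁻¹ * ψ' x ∈ Subgroup.center (GL (Fin n) L) := fun x => hcp (by
      rw [MonoidHom.mem_ker, map_mul, map_inv, show p (ψ x) = σ x from DFunLike.congr_fun e x,
        show p (ψ' x) = σ x from DFunLike.congr_fun e' x, inv_mul_cancel])
    let χ : D.SteinbergCover K →* GL (Fin n) L :=
      MonoidHom.mk' (fun x => (ψ x)⁻¹ * ψ' x) fun x y => by
        rw [map_mul, map_mul]
        calc (ψ x * ψ y)⁻¹ * (ψ' x * ψ' y) = (ψ y)⁻¹ * ((ψ x)⁻¹ * ψ' x) * ψ' y := by group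
          _ = ((ψ x)⁻¹ * ψ' x) * (ψ y)⁻¹ * ψ' y := by rw [Subgroup.mem_center_iff.1 (hz x)]
          _ = _ := by group
    refine MonoidHom.ext fun x => ?_
    exact inv_mul_eq_one.1 (Lie.Chev.central_hom_eq_one χ hz (x := x) (by rw [hperf]; trivial))
  -- the pullback and its derived group
  let P : Subgroup (GL (Fin n) L × D.SteinbergCover K) :=
    (p.comp (MonoidHom.fst _ _)).eqLocus (σ.comp (MonoidHom.snd _ _))
  let Q : Subgroup ↥P := commutator ↥P
  let ρ : ↥P →* D.SteinbergCover K := (MonoidHom.snd _ _).comp P.subtype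
  let g : ↥P →* GL (Fin n) L := (MonoidHom.fst _ _).comp P.subtype
  let π : ↥Q →* D.SteinbergCover K := ρ.comp Q.subtype
  have hρ : Function.Surjective ρ := fun x => by
    obtain ⟨y, hy⟩ := QuotientGroup.mk'_surjective Z (σ x)
    exact ⟨⟨(y, x), hy⟩, rfl⟩
  have hπ : Function.Surjective π := fun x => by
    have : x ∈ Q.map ρ := by
      show x ∈ (commutator ↥P).map ρ
      rw [commutator_def, Subgroup.map_commutator, Subgroup.map_top_of_surjective ρ hρ,
        ← commutator_def, hperf]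
      trivial
    obtain ⟨k, hk, rfl⟩ := Subgroup.mem_map.1 this
    exact ⟨⟨k, hk⟩, rfl⟩
  have hgc : ∀ k : π.ker, g (k : ↥Q) ∈ Z := fun k => by
    have h1 : p (g (k : ↥Q)) = σ (π k) := ((k : ↥Q) : ↥P).2
    rw [MonoidHom.mem_ker.1 k.2, map_one] at h1
    exact (QuotientGroup.eq_one_iff _).1 h1
  have hc : π.ker ≤ Subgroup.center ↥Q := fun k hk => by
    rw [Subgroup.mem_center_iff]
    intro y
    refine Subtype.ext (Subtype.ext (Prod.ext ?_ ?_))
    · exact Subgroup.mem_center_iff.1 (hgc ⟨k, hk⟩) _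
    · show π y * π k = π k * π y
      rw [MonoidHom.mem_ker.1 hk, one_mul, mul_one]
  have hginj : Function.Injective fun k : π.ker => g (k : ↥Q) := fun a b e => by
    refine Subtype.ext (Subtype.ext (Subtype.ext (Prod.ext e ?_)))
    exact (MonoidHom.mem_ker.1 a.2).trans (MonoidHom.mem_ker.1 b.2).symm
  have hdet : ∀ k : ↥Q, (Matrix.GeneralLinearGroup.det (g k) : Lˣ) = 1 := fun k =>
    Abelianization.commutator_subset_ker (Matrix.GeneralLinearGroup.det.comp g) k.2
  have hscal : ∀ k : π.ker, ∃ a : L, a ^ n = 1 ∧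
      ((g (k : ↥Q) : GL (Fin n) L) : Matrix (Fin n) (Fin n) L) = Matrix.scalar (Fin n) a := fun k => by
    rcases Nat.eq_zero_or_pos n with rfl | hn
    · exact ⟨1, pow_zero 1, Subsingleton.elim _ _⟩
    haveI : NeZero n := ⟨by omega⟩
    have h := hgc k
    simp only [Z, Matrix.GeneralLinearGroup.center_eq_range_scalar, MonoidHom.mem_range] at h
    obtain ⟨r, hr⟩ := h
    have e : ((g (k : ↥Q) : GL (Fin n) L) : Matrix (Fin n) (Fin n) L) =
        Matrix.scalar (Fin n) (r : L) := by rw [← hr]; rfl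
    refine ⟨r, ?_, e⟩
    have := congrArg Units.val (hdet (k : ↥Q))
    rw [Matrix.GeneralLinearGroup.val_det_apply, e, Matrix.scalar_apply, Matrix.det_diagonal] at this
    simpa using this
  choose a ha he using hscal
  haveI : Finite π.ker := by
    rcases Nat.eq_zero_or_pos n with rfl | hn
    · exact Finite.of_injective _ hginj
    haveI : NeZero n := ⟨by omega⟩
    refine Finite.of_injective (fun k : π.ker =>
      (⟨Units.ofPowEqOne _ n (ha k) (by omega), by
        rw [mem_rootsOfUnity]; exact Units.pow_ofPowEqOne _ _⟩ : rootsOfUnity n L)) fun k k' e => ?_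
    refine hginj (Units.ext ?_)
    have e' : a k = a k' := congrArg (fun z : rootsOfUnity n L => ((z : Lˣ) : L)) e
    show ((g (k : ↥Q) : GL (Fin n) L) : Matrix (Fin n) (Fin n) L) = _
    rw [he k, he k', e']
  haveI : Finite (↥Q ⧸ π.ker) := Finite.of_equiv _
    (QuotientGroup.quotientKerEquivOfSurjective π hπ).symm.toEquiv
  haveI : Finite ↥Q := Finite.of_equiv _ (Subgroup.groupEquivQuotientProdSubgroup (s := π.ker)).symm
  obtain ⟨ℓ, hℓ⟩ := CharP.exists K
  haveI : Fintype K := Fintype.ofFinite K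
  haveI hℓp : Fact ℓ.Prime := ⟨CharP.char_is_prime K ℓ⟩
  haveI : CharP L ℓ := by
    rw [← ringChar.eq K ℓ, ← hL]; exact ringChar.charP L
  have hcop : (Nat.card π.ker).Coprime ℓ := by
    rw [Nat.coprime_comm, hℓp.out.coprime_iff_not_dvd]
    intro hd
    obtain ⟨k, hk⟩ := exists_prime_orderOf_dvd_card' ℓ hd
    have h1 : k ^ ℓ = 1 := hk ▸ pow_orderOf_eq_one k
    have h2 : ((g (k : ↥Q) : GL (Fin n) L) : Matrix (Fin n) (Fin n) L) ^ ℓ = 1 := by
      rw [← Units.val_pow_eq_pow_val, ← map_pow, ← Subgroup.coe_pow, ← Subgroup.coe_pow, h1]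
      simp
    rw [he k] at h2
    have hk1 : k = 1 := hginj (Units.ext (by
      show ((g (k : ↥Q) : GL (Fin n) L) : Matrix (Fin n) (Fin n) L) = _
      rw [he k]
      rcases Nat.eq_zero_or_pos n with rfl | hn
      · exact Subsingleton.elim _ _
      haveI : NeZero n := ⟨by omega⟩
      rw [← map_pow, ← map_one (Matrix.scalar (Fin n)), Matrix.scalar_inj] at h2
      haveI : ExpChar L ℓ := ExpChar.prime hℓp.out
      have h3 : a k = 1 := frobenius_inj L ℓ (by simpa [frobenius_def] using h2)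
      simp [h3]))
    rw [hk1, orderOf_one] at hk
    exact hℓp.out.ne_one hk.symm
  obtain ⟨τ, hτ⟩ := c.exists_section_prime K π hπ hc hcop
  have hψ : p.comp (g.comp (Q.subtype.comp τ)) = σ := MonoidHom.ext fun x => by
    have h1 : p (g (Q.subtype (τ x))) = σ (π (τ x)) := (Q.subtype (τ x)).2
    rw [show π (τ x) = x from DFunLike.congr_fun hτ x] at h1
    exact h1
  exact ⟨_, hψ, fun ψ' h' => huniq _ _ h' hψ⟩

end Cfsg.Agent.S2399
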