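import Cfsg.Statements.S2402
import Cfsg.Agent.Lib.Classical.SteinbergGen
-- import your own Cfsg.Agent.* helpers here

set_option autoImplicit false
open Cfsg

namespace Cfsg.Agent.S2402
open Matrix Cfsg.Agent.Classical.SteinbergGen Fin.NatCast

/-- Explicit two-element generation of `PSL_{n+1}(K)` for a finite field `K` with more than three elements: let `k` generate the multiplicative group of `K`, `h = diag(k, k⁻¹, 1, …, 1)`, `x = 1 + E₁₂` (the elementary transvection) and `w` the monomial matrix with entries `1` in positions `(i, i+1)` and `(−1)^n` in position `(n+1, 1)`. Then `h` and `x·w` generate `SL_{n+1}(K)` modulo its centre: the subgroup they generate together with the centre is everything. -/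
theorem result {K : Type*} [Field K] [Fintype K] (hK : 3 < Fintype.card K) (n : ℕ) (hn : 1 ≤ n)
    (k : Kˣ) (hk : ∀ u : Kˣ, u ∈ Subgroup.zpowers k)
    (h x w : Matrix.SpecialLinearGroup (Fin (n + 1)) K)
    (hh : (h : Matrix (Fin (n + 1)) (Fin (n + 1)) K) =
      Matrix.diagonal (fun i => if i.val = 0 then (k : K) else if i.val = 1 then ((k⁻¹ : Kˣ) : K) else 1))
    (hx : (x : Matrix (Fin (n + 1)) (Fin (n + 1)) K) = Matrix.transvection (0 : Fin (n + 1)) (1 : Fin (n + 1)) 1)
    (hw : (w : Matrix (Fin (n + 1)) (Fin (n + 1)) K) =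
      Matrix.of (fun i j => if j.val = i.val + 1 then 1 else if i.val = n ∧ j.val = 0 then (-1) ^ n else 0)) :
    Subgroup.closure ({h, x * w} : Set (Matrix.SpecialLinearGroup (Fin (n + 1)) K)) ⊔
      Subgroup.center (Matrix.SpecialLinearGroup (Fin (n + 1)) K) = ⊤ := by
  set G := Subgroup.closure ({h, x * w} : Set (Matrix.SpecialLinearGroup (Fin (n + 1)) K)) ⊔
    Subgroup.center (Matrix.SpecialLinearGroup (Fin (n + 1)) K)
  have hhG : h ∈ G := Subgroup.mem_sup_left (Subgroup.subset_closure (Set.mem_insert _ _))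
  have hyG : x * w ∈ G := Subgroup.mem_sup_left (Subgroup.subset_closure (Set.mem_insert_of_mem _ rfl))
  have h01 : (0 : Fin (n + 1)) ≠ 1 := fun e => by
    have := congrArg Fin.val e
    rw [Fin.val_one', Nat.mod_eq_of_lt (by omega)] at this
    simp at this
  have hv1 : ((1 : Fin (n + 1)) : ℕ) = 1 := by rw [Fin.val_one', Nat.mod_eq_of_lt (by omega)]
  set d : Fin (n + 1) → K := fun i => if i.val = 0 then (k : K) else if i.val = 1 then ((k⁻¹ : Kˣ) : K) else 1
  let T : K → Matrix.SpecialLinearGroup (Fin (n + 1)) K := Matrix.SpecialLinearGroup.transvection h01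
  have hTadd : ∀ a b, T a * T b = T (a + b) := fun a b =>
    Subtype.ext (Matrix.transvection_mul_transvection_same 0 1 h01 a b)
  have hT0 : T 0 = 1 := Matrix.SpecialLinearGroup.transvection_coeff_zero h01
  have hxT : x = T 1 := Subtype.ext hx
  have hd0 : d 0 = k := by simp [d]
  have hd1 : d 1 = ((k⁻¹ : Kˣ) : K) := by
    simp only [d]; rw [if_neg (by omega), if_pos hv1]
  -- the conjugate of the diagonal element
  obtain ⟨D, hDdef⟩ : ∃ D, D = w * h * w⁻¹ := ⟨_, rfl⟩
  have hD : (D : Matrix (Fin (n + 1)) (Fin (n + 1)) K) = Matrix.diagonal (fun i => d (i + 1)) := by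
    have e : D * w = w * h := by rw [hDdef, inv_mul_cancel_right]
    have e' := congrArg Subtype.val e
    rw [Matrix.SpecialLinearGroup.coe_mul, Matrix.SpecialLinearGroup.coe_mul, hh, hw, eq_cyc hn] at e'
    have e2 : Matrix.diagonal (fun i => d (i + 1)) * cyc (fun i : Fin (n + 1) => if i.val = n then (-1 : K) ^ n else 1) =
        cyc (fun i : Fin (n + 1) => if i.val = n then (-1 : K) ^ n else 1) * Matrix.diagonal d := by
      ext i j
      rw [Matrix.diagonal_mul, Matrix.mul_diagonal]
      by_cases hji : j = i + 1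
      · subst hji; simp [cyc, mul_comm]
      · simp [cyc, hji]
    have hu : IsUnit (cyc (fun i : Fin (n + 1) => if i.val = n then (-1 : K) ^ n else 1)) := by
      rw [← eq_cyc hn, ← hw, Matrix.isUnit_iff_isUnit_det, w.2]; exact isUnit_one
    exact hu.mul_right_cancel (e'.trans e2.symm)
  set lam : K := d (0 + 1) / d (1 + 1) with hlamdef
  have hd2 : d (1 + 1) = if n = 1 then (k : K) else 1 := by
    by_cases h1 : n = 1
    · subst h1; simp [d]
    · have : ((1 + 1 : Fin (n + 1)) : ℕ) = 2 := by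
        rw [Fin.val_add, hv1, Nat.mod_eq_of_lt (by omega)]
      simp only [d]
      rw [if_neg (by omega), if_neg (by omega), if_neg h1]
  have hd2ne : d (1 + 1) ≠ 0 := by rw [hd2]; split; exact k.ne_zero; exact one_ne_zero
  have hk2 : (k : K) * k ≠ 1 := by
    intro e
    have h2 : k ^ 2 = 1 := Units.ext (by rw [Units.val_pow_eq_pow_val, pow_two, e, Units.val_one])
    have ho := orderOf_eq_card_of_forall_mem_zpowers hk
    have := Nat.le_of_dvd two_pos (orderOf_dvd_of_pow_eq_one h2)
    rw [ho, Nat.card_units, Nat.card_eq_fintype_card] at this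
    omega
  have hlam : lam ≠ 1 := by
    rw [hlamdef, Ne, div_eq_one_iff_eq hd2ne, zero_add, hd1, hd2]
    intro e
    split at e
    · refine hk2 ?_
      nth_rewrite 2 [← e]
      rw [Units.mul_inv]
    · refine hk2 ?_
      have : k⁻¹ = 1 := Units.ext e
      rw [inv_eq_one] at this
      simp [this]
  have hDT : ∀ a, D * T a = T (lam * a) * D := fun a =>
    diag_move hD h01 a _ (by rw [hlamdef]; field_simp)
  have hHT : ∀ a, h * T a = T ((k : K) * k * a) * h := fun a =>
    diag_move hh h01 a _ (by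
      change d 0 * a = _ * d 1
      rw [hd0, hd1, Units.val_inv_eq_inv_val]; field_simp)
  have hcomm : h * D = D * h := by
    refine Subtype.ext ?_
    rw [Matrix.SpecialLinearGroup.coe_mul, Matrix.SpecialLinearGroup.coe_mul, hh, hD, Matrix.diagonal_mul_diagonal,
      Matrix.diagonal_mul_diagonal]
    simp_rw [mul_comm]
  obtain ⟨z, hz⟩ : ∃ z, z = T (1 - lam) * D := ⟨_, rfl⟩
  have hzG : z ∈ G := by
    have e : z = x * w * h * (x * w)⁻¹ := by
      calc z = T 1 * (T (lam * -1) * D) := by rw [hz, ← mul_assoc, hTadd]; congr 2; ring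
        _ = T 1 * (D * T (-1)) := by rw [hDT]
        _ = T 1 * (D * (T 1)⁻¹) := by
          rw [show T (-1) = (T 1)⁻¹ from eq_inv_of_mul_eq_one_left (by rw [hTadd, neg_add_cancel, hT0])]
        _ = _ := by rw [hxT, hDdef]; group
    rw [e]; exact G.mul_mem (G.mul_mem hyG hhG) (G.inv_mem hyG)
  set a0 : K := ((k : K) * k - 1) * (1 - lam) with ha0def
  have ha0 : a0 ≠ 0 := mul_ne_zero (sub_ne_zero.mpr hk2) (sub_ne_zero.mpr (Ne.symm hlam))
  have ha0G : a0 ∈ rootAdd G h01 := by
    show T a0 ∈ G
    have e : T a0 = h * z * h⁻¹ * z⁻¹ := by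
      have e1 : h * z * h⁻¹ = T ((k : K) * k * (1 - lam)) * D := by
        rw [hz, ← mul_assoc, hHT, mul_assoc (T _), hcomm, ← mul_assoc, mul_inv_cancel_right]
      rw [e1, hz, _root_.mul_inv_rev, ← mul_assoc, mul_inv_cancel_right,
        show (T (1 - lam))⁻¹ = T (-(1 - lam)) from inv_eq_of_mul_eq_one_right (by rw [hTadd, add_neg_cancel, hT0]),
        hTadd]
      congr 1; rw [ha0def]; ring
    rw [e]; exact G.mul_mem (G.mul_mem (G.mul_mem hhG hzG) (G.inv_mem hhG)) (G.inv_mem hzG)
  have hconj : ∀ u : Kˣ, ∀ c ∈ rootAdd G h01, (u : K) ^ 2 * c ∈ rootAdd G h01 := by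
    intro u c hc
    obtain ⟨m, hm⟩ := (mem_powers_iff_mem_zpowers).mpr (hk u)
    subst hm
    show ((k ^ m : Kˣ) : K) ^ 2 * c ∈ _
    induction m with
    | zero => simpa using hc
    | succ m ih =>
      show T _ ∈ G
      have e : T (((k ^ (m + 1) : Kˣ) : K) ^ 2 * c) = h * T (((k ^ m : Kˣ) : K) ^ 2 * c) * h⁻¹ := by
        rw [hHT, mul_inv_cancel_right]
        congr 1
        rw [pow_succ k m, Units.val_mul]
        ring
      rw [e]; exact G.mul_mem (G.mul_mem hhG ih) (G.inv_mem hhG)
  have hall := addSubgroup_eq_top hK (rootAdd G h01) ha0 ha0G hconj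
  have hwG : w ∈ G := by
    rw [show w = (T 1)⁻¹ * (x * w) by rw [hxT, inv_mul_cancel_left]]
    exact G.mul_mem (G.inv_mem (hall 1)) hyG
  exact eq_top hn (hw.trans (eq_cyc hn)) sign_ne hwG (hasRoot_of_rootAdd hall)

end Cfsg.Agent.S2402
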