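import Cfsg.Statements.S2403
import Cfsg.Agent.Lib.Classical.SteinbergGen
-- import your own Cfsg.Agent.* helpers here

set_option autoImplicit false
open Cfsg

namespace Cfsg.Agent.S2403
open Matrix Cfsg.Agent.Classical.SteinbergGen Fin.NatCast

/-- Explicit two-element generation of `PSL_{n+1}(K)` over the fields with two or three elements: with `x = 1 + E₁₂` and `w` the monomial matrix with entries `1` in positions `(i, i+1)` and `(−1)^n` in position `(n+1, 1)`, the elements `x` and `w` generate `SL_{n+1}(K)` modulo its centre. -/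
theorem result {K : Type*} [Field K] [Fintype K] (hK : Fintype.card K ≤ 3) (n : ℕ) (hn : 1 ≤ n)
    (x w : Matrix.SpecialLinearGroup (Fin (n + 1)) K)
    (hx : (x : Matrix (Fin (n + 1)) (Fin (n + 1)) K) = Matrix.transvection (0 : Fin (n + 1)) (1 : Fin (n + 1)) 1)
    (hw : (w : Matrix (Fin (n + 1)) (Fin (n + 1)) K) =
      Matrix.of (fun i j => if j.val = i.val + 1 then 1 else if i.val = n ∧ j.val = 0 then (-1) ^ n else 0)) :
    Subgroup.closure ({x, w} : Set (Matrix.SpecialLinearGroup (Fin (n + 1)) K)) ⊔
      Subgroup.center (Matrix.SpecialLinearGroup (Fin (n + 1)) K) = ⊤ := by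
  set G := Subgroup.closure ({x, w} : Set (Matrix.SpecialLinearGroup (Fin (n + 1)) K)) ⊔
    Subgroup.center (Matrix.SpecialLinearGroup (Fin (n + 1)) K)
  have hxG : x ∈ G := Subgroup.mem_sup_left (Subgroup.subset_closure (Set.mem_insert _ _))
  have hwG : w ∈ G := Subgroup.mem_sup_left (Subgroup.subset_closure (Set.mem_insert_of_mem _ rfl))
  have h01 : (0 : Fin (n + 1)) ≠ 1 := fun e => by
    have := congrArg Fin.val e
    rw [Fin.val_one', Nat.mod_eq_of_lt (by omega)] at this
    simp at this
  refine eq_top hn (hw.trans (eq_cyc hn)) sign_ne hwG (hasRoot_of_rootAdd (h01 := h01) ?_)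
  have h1 : (1 : K) ∈ rootAdd G h01 := by
    show Matrix.SpecialLinearGroup.transvection h01 (1 : K) ∈ G
    rw [show Matrix.SpecialLinearGroup.transvection h01 (1 : K) = x from Subtype.ext hx.symm]
    exact hxG
  intro c
  have hp : (Nat.card K).Prime := by
    have := Fintype.one_lt_card (α := K)
    rw [Nat.card_eq_fintype_card]
    interval_cases h : Fintype.card K <;> decide
  haveI : Fact (Nat.card K).Prime := ⟨hp⟩
  rcases AddSubgroup.eq_bot_or_eq_top_of_prime_card (rootAdd G h01) with e | e
  · exact absurd (AddSubgroup.mem_bot.mp (e ▸ h1)) one_ne_zero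
  · rw [e]; exact AddSubgroup.mem_top c

end Cfsg.Agent.S2403
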