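import Cfsg.Statements.S2405
import Cfsg.Agent.Lib.Lie.Chev.TwoGenData
-- import your own Cfsg.Agent.* helpers here

set_option autoImplicit false
open Cfsg

namespace Cfsg.Agent.S2405

/-- Each Chevalley group of type G₂, B₂, D₄, F₄, E₆, E₇ or E₈ over a finite field is generated by two of its elements (types B₂ and G₂ over the field with two elements, where the group is not simple, excepted). -/
theorem result {F : Type*} [Field F] [Finite F] (D : Cfsg.Lie.ChevalleyDatum) (hD : D ∈ [Cfsg.Lie.chevG2, Cfsg.Lie.chevB2, Cfsg.Lie.chevD4, Cfsg.Lie.chevF4, Cfsg.Lie.chevE6, Cfsg.Lie.chevE7, Cfsg.Lie.chevE8])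
    (hF : D ∈ [Cfsg.Lie.chevB2, Cfsg.Lie.chevG2] → ∃ x : F, x ≠ 0 ∧ x ≠ 1) :
    ∃ a b : ↥(D.group F), Subgroup.closure ({a, b} : Set ↥(D.group F)) = ⊤ := by
  open Cfsg.Agent.Lie.Chev in
  by_cases h3 : 3 ≤ Nat.card F
  · simp only [List.mem_cons, List.not_mem_nil, or_false] at hD
    rcases hD with rfl | rfl | rfl | rfl | rfl | rfl | rfl
    · exact certFullG2.twoGen_extra genDataG2 genDataG2_check h3
    · exact certFullB2.twoGen_extra genDataB2 genDataB2_check h3
    · exact certFullD4.twoGen_extra genDataD4 genDataD4_check h3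
    · exact certFullF4.twoGen_extra genDataF4 genDataF4_check h3
    · exact certFullE6.twoGen_one genDataE6 genDataE6_check h3
    · exact certFullE7.twoGen_one genDataE7 genDataE7_check h3
    · exact certFullE8.twoGen_one genDataE8 genDataE8_check h3
  · have h2 : ∀ t : F, t = 0 ∨ t = 1 := fun t => by
      refine (em (t = 0)).imp id fun ht => ?_
      by_contra h1
      have := Finite.card_le_of_embedding (α := Fin 3) (β := F)
        ⟨![0, 1, t], fun i j => by
          fin_cases i <;> fin_cases j <;> simp [ht, h1, Ne.symm ht, Ne.symm h1]⟩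
      rw [Nat.card_fin] at this
      exact h3 this
    simp only [List.mem_cons, List.not_mem_nil, or_false] at hD
    rcases hD with rfl | rfl | rfl | rfl | rfl | rfl | rfl
    · obtain ⟨x, h0, h1⟩ := hF (by simp)
      exact absurd (h2 x) (by simp [h0, h1])
    · obtain ⟨x, h0, h1⟩ := hF (by simp)
      exact absurd (h2 x) (by simp [h0, h1])
    · exact certFullD4.twoGen_two genTwoD4 genTwoD4_check h2
    · exact certFullF4.twoGen_two genTwoF4 genTwoF4_check h2
    · exact certFullE6.twoGen_one_two genDataE6 genDataE6_check h2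
    · exact certFullE7.twoGen_one_two genDataE7 genDataE7_check h2
    · exact certFullE8.twoGen_one_two genDataE8 genDataE8_check h2

end Cfsg.Agent.S2405
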