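import Cfsg.Statements.S2418
import Cfsg.Agent.Lib.Fus.WeylCentre
-- import your own Cfsg.Agent.* helpers here

set_option autoImplicit false
open Cfsg

namespace Cfsg.Agent.S2418

/-- For the Coxeter groups of types B₂, G₂, D₄, F₄, E₇, E₈ the centre has order 2 (the element acting as −1 on the root system) and is generated by a power of the Coxeter element `s₁ s₂ ⋯ s_l`; the Coxeter group of type E₆ has trivial centre. -/
theorem result (c : (Σ n : ℕ, CoxeterMatrix (Fin n)) × ℕ)
    (hc : c ∈ [(⟨2, CoxeterMatrix.B 2⟩, 2), (⟨2, CoxeterMatrix.G₂⟩, 2), (⟨4, Cfsg.Lie.coxeterD4⟩, 2), (⟨4, CoxeterMatrix.F₄⟩, 2),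
      (⟨6, CoxeterMatrix.E₆⟩, 1), (⟨7, CoxeterMatrix.E₇⟩, 2), (⟨8, CoxeterMatrix.E₈⟩, 2)]) :
    Nat.card (Subgroup.center c.1.2.Group) = c.2 ∧
      Subgroup.center c.1.2.Group ≤ Subgroup.zpowers ((List.finRange c.1.1).map c.1.2.simple).prod := by
  simp only [List.mem_cons, List.not_mem_nil, or_false] at hc
  rcases hc with rfl | rfl | rfl | rfl | rfl | rfl | rfl
  · exact Fus.WeylCentre.centre_two Lie.Chev.certFullB2 _ rfl Lie.Chev.coxB2 (m := 2)
      (data := [([false, false], []), ([true, true], [0, 1, 0, 1]), ([false, true], [1]),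
        ([true, false], [0])]) (by decide +kernel) (by decide +kernel)
  · exact Fus.WeylCentre.centre_two Lie.Chev.certFullG2 _ rfl Lie.Chev.coxG2 (m := 3)
      (data := [([false, false], []), ([true, true], [0, 1, 0, 1, 0, 1]), ([false, true], [1]),
        ([true, false], [0])]) (by decide +kernel) (by decide +kernel)
  · exact Fus.WeylCentre.centre_two Lie.Chev.certFullD4 _ rfl Lie.Chev.coxD4 (m := 3)
      (data := [(List.replicate 4 false, []),
        (List.replicate 4 true, (List.replicate 3 (List.range 4)).flatten)])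
      (by decide +kernel) (by decide +kernel)
  · exact Fus.WeylCentre.centre_two Lie.Chev.certFullF4 _ rfl Lie.Chev.coxF4 (m := 6)
      (data := [(List.replicate 4 false, []),
        (List.replicate 4 true, (List.replicate 6 (List.range 4)).flatten),
        ([false, false, true, true], [2, 3, 2]), ([true, true, false, false], [0, 1, 0])])
      (by decide +kernel) (by decide +kernel)
  · exact Fus.WeylCentre.centre_trivial Lie.Chev.certFullE6 _ rfl Lie.Chev.coxE6
      (data := [(List.replicate 6 false, []), (List.replicate 6 true,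
        [0, 1, 2, 0, 3, 1, 2, 0, 3, 2, 4, 3, 1, 2, 0, 3, 2, 4, 3, 1, 5, 4, 3, 1, 2, 0, 3, 2, 4, 3,
          1, 5, 4, 3, 2, 0])]) (by decide +kernel)
  · exact Fus.WeylCentre.centre_two Lie.Chev.certFullE7 _ rfl Lie.Chev.coxE7 (m := 9)
      (data := [(List.replicate 7 false, []),
        (List.replicate 7 true, (List.replicate 9 (List.range 7)).flatten)])
      (by decide +kernel) (by decide +kernel)
  · exact Fus.WeylCentre.centre_two Lie.Chev.certFullE8 _ rfl Lie.Chev.coxE8 (m := 15)
      (data := [(List.replicate 8 false, []),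
        (List.replicate 8 true, (List.replicate 15 (List.range 8)).flatten)])
      (by decide +kernel) (by decide +kernel)

end Cfsg.Agent.S2418
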