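import Cfsg.Statements.S2419
import Cfsg.Agent.Lib.Fus.WeylCentre
-- import your own Cfsg.Agent.* helpers here

set_option autoImplicit false
open Cfsg

namespace Cfsg.Agent.S2419

/-- The Coxeter groups of types B₂, G₂, E₆, E₇, E₈ are generated by the Coxeter element `s₁ s₂ ⋯ s_l` together with one suitable reflection (a conjugate of a simple reflection); for types D₄ and F₄ the Coxeter element together with two suitable reflections suffices. -/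
theorem result (c : (Σ n : ℕ, CoxeterMatrix (Fin n)) × ℕ)
    (hc : c ∈ [(⟨2, CoxeterMatrix.B 2⟩, 1), (⟨2, CoxeterMatrix.G₂⟩, 1), (⟨4, Cfsg.Lie.coxeterD4⟩, 2), (⟨4, CoxeterMatrix.F₄⟩, 2),
      (⟨6, CoxeterMatrix.E₆⟩, 1), (⟨7, CoxeterMatrix.E₇⟩, 1), (⟨8, CoxeterMatrix.E₈⟩, 1)]) :
    ∃ T : Finset c.1.2.Group, T.card = c.2 ∧ (∀ t ∈ T, ∃ (g : c.1.2.Group) (i : Fin c.1.1), t = g * c.1.2.simple i * g⁻¹) ∧
      Subgroup.closure (({((List.finRange c.1.1).map c.1.2.simple).prod} : Set c.1.2.Group) ∪ ↑T) = ⊤ := by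
  simp only [List.mem_cons, List.not_mem_nil, or_false] at hc
  rcases hc with rfl | rfl | rfl | rfl | rfl | rfl | rfl
  · exact Fus.WeylCentre.exists_gen (k := 2) Lie.Chev.certFullB2 _ rfl Lie.Chev.coxB2 (refls := [0])
      (cert := [[2], [2, 0]]) (by decide +kernel) (List.pairwise_singleton ..)
  · exact Fus.WeylCentre.exists_gen (k := 2) Lie.Chev.certFullG2 _ rfl Lie.Chev.coxG2 (refls := [0])
      (cert := [[2], [2, 0]]) (by decide +kernel) (List.pairwise_singleton ..)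
  · exact Fus.WeylCentre.exists_gen (k := 4) Lie.Chev.certFullD4 _ rfl Lie.Chev.coxD4 (refls := [0, 2])
      (cert := [[2], [0, 2, 1], [3], [1, 3, 1, 2, 0, 3, 0]]) (by decide +kernel)
      (List.pairwise_pair.2 ⟨0, by decide, by decide +kernel⟩)
  · exact Fus.WeylCentre.exists_gen (k := 4) Lie.Chev.certFullF4 _ rfl Lie.Chev.coxF4 (refls := [0, 3])
      (cert := [[2], [0, 2, 1], [1, 3, 0], [3]]) (by decide +kernel)
      (List.pairwise_pair.2 ⟨0, by decide, by decide +kernel⟩)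
  · exact Fus.WeylCentre.exists_gen (k := 6) Lie.Chev.certFullE6 _ rfl Lie.Chev.coxE6 (refls := [0])
      (cert := [[2], [1, 2, 1, 1, 1, 2, 0, 0, 0, 2, 0], [0, 2, 1],
        [0, 0, 0, 0, 0, 2, 1, 1, 1, 1, 1], [0, 0, 0, 0, 0, 0, 2, 1, 1, 1, 1, 1, 1],
        [1, 1, 1, 1, 1, 2, 0, 0, 0, 0, 0]]) (by decide +kernel) (List.pairwise_singleton ..)
  · exact Fus.WeylCentre.exists_gen (k := 7) Lie.Chev.certFullE7 _ rfl Lie.Chev.coxE7 (refls := [3])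
      (cert := [[1, 2, 1, 1, 1, 1, 2, 0, 0, 0, 0, 2, 0],
        [2, 0, 2, 1, 1, 1, 1, 2, 0, 0, 0, 0, 2, 1, 2], [2, 1, 1, 1, 1, 2, 0, 0, 0, 0, 2], [2],
        [0, 2, 1], [0, 0, 2, 1, 1], [0, 0, 0, 2, 1, 1, 1]]) (by decide +kernel)
      (List.pairwise_singleton ..)
  · exact Fus.WeylCentre.exists_gen (k := 8) Lie.Chev.certFullE8 _ rfl Lie.Chev.coxE8 (refls := [0])
      (cert := [[2], [1, 2, 1, 1, 2, 1, 1, 1, 2, 0, 0, 0, 2, 0, 0, 2, 0], [0, 2, 1],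
        [0, 0, 0, 0, 2, 0, 0, 0, 2, 1, 1, 1, 2, 1, 1, 1, 1],
        [0, 0, 0, 0, 0, 2, 0, 0, 0, 2, 1, 1, 1, 2, 1, 1, 1, 1, 1],
        [0, 0, 0, 0, 0, 0, 2, 0, 0, 0, 2, 1, 1, 1, 2, 1, 1, 1, 1, 1, 1],
        [1, 1, 1, 1, 1, 2, 1, 1, 1, 2, 0, 0, 0, 2, 0, 0, 0, 0, 0],
        [1, 1, 1, 1, 2, 1, 1, 1, 2, 0, 0, 0, 2, 0, 0, 0, 0]]) (by decide +kernel)
      (List.pairwise_singleton ..)

end Cfsg.Agent.S2419
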