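import Cfsg.Statements.S2423
import Cfsg.Agent.Lib.Classical.UnipotentChar

set_option autoImplicit false
open Cfsg

namespace Cfsg.Agent.S2423

open Cfsg.Agent.Classical

lemma youngSubgroup_mem {n : ℕ} {μ : Fin n → ℕ} {σ : Equiv.Perm (Fin n)} :
    σ ∈ youngSubgroup μ ↔ ∀ i, compLabel μ (σ i) = compLabel μ i := Iff.rfl

/-- Orbits of the symmetric group on pairs of Young cosets. -/
lemma card_orbits {n : ℕ} {α β : Fin n → ℕ} (hα : ∑ k, α k = n) (hβ : ∑ k, β k = n) :
    Nat.card (MulAction.orbitRel.Quotient (Equiv.Perm (Fin n))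
      ((Equiv.Perm (Fin n) ⧸ youngSubgroup α) × (Equiv.Perm (Fin n) ⧸ youngSubgroup β))) =
      JT.numMats α β := by
  classical
  choose sec hsec using ParCoset.matsOf_surjective hα hβ
  let Φ : JT.Mats α β → MulAction.orbitRel.Quotient (Equiv.Perm (Fin n))
      ((Equiv.Perm (Fin n) ⧸ youngSubgroup α) × (Equiv.Perm (Fin n) ⧸ youngSubgroup β)) := fun M =>
    Quotient.mk'' (QuotientGroup.mk 1, QuotientGroup.mk (sec M))
  -- same double coset, same matrix
  have hinv : ∀ (s t σ σ' : Equiv.Perm (Fin n)), s ∈ youngSubgroup α → t ∈ youngSubgroup β →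
      σ' = s * σ * t → ParCoset.matsOf hα hβ σ = ParCoset.matsOf hα hβ σ' := by
    rintro s t σ σ' hs ht rfl
    refine Subtype.ext (funext fun a => funext fun b => ?_)
    show (Finset.univ.filter fun j => ParCoset.pairLab hα hβ σ j = (a, b)).card =
      (Finset.univ.filter fun j => ParCoset.pairLab hα hβ (s * σ * t) j = (a, b)).card
    refine (Finset.card_equiv t fun j => ?_).symm
    have h1 : ParCoset.pairLab hα hβ σ (t j) = ParCoset.pairLab hα hβ (s * σ * t) j := by
      refine Prod.ext (Fin.ext ?_) (Fin.ext ?_)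
      · exact (hs (σ (t j))).symm
      · exact ht j
    simp [h1]
  -- same matrix, same double coset
  have hfac : ∀ σ σ' : Equiv.Perm (Fin n), ParCoset.matsOf hα hβ σ = ParCoset.matsOf hα hβ σ' →
      ∃ s ∈ youngSubgroup α, ∃ t ∈ youngSubgroup β, σ' = s * σ * t := by
    intro σ σ' h
    have hc : ∀ p, Fintype.card {j // ParCoset.pairLab hα hβ σ' j = p} =
        Fintype.card {j // ParCoset.pairLab hα hβ σ j = p} := by
      rintro ⟨a, b⟩
      rw [Fintype.card_subtype, Fintype.card_subtype]
      exact (congrFun (congrFun (congrArg Subtype.val h) a) b).symm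
    let t : Equiv.Perm (Fin n) := Equiv.ofFiberEquiv (f := ParCoset.pairLab hα hβ σ')
      (g := ParCoset.pairLab hα hβ σ) (fun p => Fintype.equivOfCardEq (hc p))
    have ht : ∀ j, ParCoset.pairLab hα hβ σ (t j) = ParCoset.pairLab hα hβ σ' j :=
      fun j => Equiv.ofFiberEquiv_map _ j
    refine ⟨σ' * t⁻¹ * σ⁻¹, fun i => ?_, t, fun j => congrArg (fun p : Fin n × Fin n => p.2.val) (ht j),
      by group⟩
    have := congrArg (fun p : Fin n × Fin n => p.1.val) (ht (t.symm (σ.symm i)))
    simp only [ParCoset.pairLab, ParCoset.lab, Equiv.apply_symm_apply] at this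
    exact this.symm
  symm
  refine Nat.card_eq_of_bijective Φ ⟨fun M M' h => ?_, fun x => ?_⟩
  · obtain ⟨g, hg⟩ := Quotient.eq''.1 h
    have hg1 : g * 1 ∈ youngSubgroup α := by
      simpa using QuotientGroup.eq.1 (congrArg Prod.fst hg).symm
    have hg2 : (sec M)⁻¹ * (g * sec M') ∈ youngSubgroup β :=
      QuotientGroup.eq.1 (congrArg Prod.snd hg).symm
    rw [mul_one] at hg1
    have := hinv g⁻¹ _ (sec M) (sec M') (inv_mem hg1) hg2 (by group)
    rw [hsec, hsec] at this
    exact this
  · induction x using Quotient.inductionOn' with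
    | h x =>
      obtain ⟨x, y⟩ := x
      induction x using QuotientGroup.induction_on with
      | H u =>
        induction y using QuotientGroup.induction_on with
        | H v =>
          obtain ⟨s, hs, t, ht, hst⟩ := hfac (sec (ParCoset.matsOf hα hβ (u⁻¹ * v))) (u⁻¹ * v) (hsec _)
          refine ⟨ParCoset.matsOf hα hβ (u⁻¹ * v), Quotient.sound' ⟨(u * s)⁻¹, ?_⟩⟩
          refine Prod.ext (QuotientGroup.eq.2 ?_) (QuotientGroup.eq.2 ?_)
          · simpa using hs
          · have h2 : s⁻¹ * (u⁻¹ * v) = sec (ParCoset.matsOf hα hβ (u⁻¹ * v)) * t := by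
              conv_lhs => rw [hst]
              group
            show ((u * s)⁻¹ * v)⁻¹ * sec (ParCoset.matsOf hα hβ (u⁻¹ * v)) ∈ youngSubgroup β
            rw [mul_inv_rev u s, mul_assoc s⁻¹ u⁻¹ v, h2, mul_inv_rev, mul_assoc, inv_mul_cancel, mul_one]
            exact inv_mem ht

theorem result {F : Type*} [Field F] [Fintype F] [DecidableEq F] {n : ℕ} (ν μ : Fin n → ℕ) (hν : Monotone ν) (hνs : ∑ i, ν i = n) (hμ : Monotone μ) (hμs : ∑ i, μ i = n) :
    (Nat.card (GL (Fin n) F) : ℂ)⁻¹ * ∑ g : GL (Fin n) F, Cfsg.fixedPointCharacter (Cfsg.parabolicGL n F ν) g * Cfsg.fixedPointCharacter (Cfsg.parabolicGL n F μ) g = (Nat.card (Equiv.Perm (Fin n)) : ℂ)⁻¹ * ∑ σ : Equiv.Perm (Fin n), Cfsg.fixedPointCharacter (Cfsg.youngSubgroup ν) σ * Cfsg.fixedPointCharacter (Cfsg.youngSubgroup μ) σ := by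
  classical
  have h1 := UnipotentChar.classInner_perm (F := F) hνs hμs
  have h2 : classInner (fixedPointCharacter (youngSubgroup ν)) (fixedPointCharacter (youngSubgroup μ)) =
      (JT.numMats ν μ : ℂ) := by
    rw [UnipotentChar.classInner_fixedPointCharacter, card_orbits hνs hμs]
  have e : ∀ {G : Type _} [Group G] [Fintype G] (H K : Subgroup G),
      classInner (fixedPointCharacter H) (fixedPointCharacter K) =
        (Nat.card G : ℂ)⁻¹ * ∑ g : G, fixedPointCharacter H g * fixedPointCharacter K g := by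
    intro G _ _ H K
    simp [classInner, fixedPointCharacter, Complex.conj_natCast]
  rw [← e, h1]
  simp only [classInner, fixedPointCharacter, Complex.conj_natCast] at h2
  exact h2.symm

end Cfsg.Agent.S2423
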