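import Cfsg.Statements.S2425
import Cfsg.Agent.Lib.Classical.SteinbergFlags
import Cfsg.Agent.Lib.Classical.GLPrimeOrderClasses
-- import your own Cfsg.Agent.* helpers here

set_option autoImplicit false
open scoped MatrixGroups
open Cfsg

namespace Cfsg.Agent.S2425

/-- Values of the Steinberg character of `GL_n(q)` (the partition-indexed character for `ν = (1,…,1)`, of degree `q^(n(n−1)/2)`) at elements of order prime to the characteristic: if the characteristic polynomial of such an element is `∏ f^(m_f)` over distinct monic irreducible `f`, the value is `∏_f (−1)^((deg f − 1) m_f) q^(deg f · m_f (m_f − 1)/2)`. (At elements of order divisible by the characteristic the value is 0; that is not part of this statement.) -/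
theorem result {F : Type*} [Field F] [Fintype F] [DecidableEq F] {q : ℕ} (hq : Fintype.card F = q) (p : ℕ) [Fact p.Prime] [CharP F p]
    {n : ℕ} (x : GL (Fin n) F) (hx : (orderOf x).Coprime p) :
    Cfsg.unipotentCharacterGL n F (fun _ => 1) x =
      ∏ f ∈ (UniqueFactorizationMonoid.normalizedFactors (x : Matrix (Fin n) (Fin n) F).charpoly).toFinset,
        (-1 : ℂ) ^ ((f.natDegree - 1) * (UniqueFactorizationMonoid.normalizedFactors (x : Matrix (Fin n) (Fin n) F).charpoly).count f) *
          (q : ℂ) ^ (f.natDegree * (UniqueFactorizationMonoid.normalizedFactors (x : Matrix (Fin n) (Fin n) F).charpoly).count f *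
            ((UniqueFactorizationMonoid.normalizedFactors (x : Matrix (Fin n) (Fin n) F).charpoly).count f - 1) / 2) := by
  classical
  set A : Matrix (Fin n) (Fin n) F := (x : Matrix (Fin n) (Fin n) F)
  set P := A.charpoly
  set nf := UniqueFactorizationMonoid.normalizedFactors P
  set S := nf.toFinset
  set e : Module.End F (Fin n → F) := Matrix.toLin' A
  set M := orderOf x
  have hM : (M : F) ≠ 0 := by
    rw [ne_eq, CharP.cast_eq_zero_iff F p]
    exact fun h => (Fact.out : p.Prime).not_dvd_one (hx ▸ Nat.dvd_gcd h dvd_rfl)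
  have hPm : P.Monic := Matrix.charpoly_monic A
  have he : LinearMap.charpoly e = P := Cfsg.Agent.GLSemisimpleClasses.charpoly_toLin' A
  have hfm : ∀ f ∈ nf, f.Monic ∧ Irreducible f := fun f hf =>
    ⟨by rw [← UniqueFactorizationMonoid.normalize_normalized_factor f hf]
        exact Polynomial.monic_normalize (UniqueFactorizationMonoid.irreducible_of_normalized_factor f hf).ne_zero,
      UniqueFactorizationMonoid.irreducible_of_normalized_factor f hf⟩
  have hSnf : ∀ f ∈ S, f ∈ nf := fun f hf => Multiset.mem_toFinset.1 hf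
  have hsplit : Cfsg.Agent.InvMobius.Split e S := by
    refine ⟨fun f hf => (hfm f (hSnf f hf)).1, fun f hf => (hfm f (hSnf f hf)).2, ?_⟩
    have hint : IsIntegral F e := IsIntegral.of_finite F e
    have hm0 := minpoly.ne_zero hint
    have hd : minpoly F e ∣ Polynomial.X ^ M - 1 := minpoly.dvd F e (by
      have hpow : e ^ M = 1 := Cfsg.Agent.GLSemisimpleClasses.toLin'_pow_eq_one (g := x) (pow_orderOf_eq_one x)
      rw [map_sub, map_pow, Polynomial.aeval_X, map_one, hpow, sub_self])
    have hsq : Squarefree (minpoly F e) := by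
      refine Squarefree.squarefree_of_dvd hd ?_
      rw [← map_one Polynomial.C]
      exact (Polynomial.separable_X_pow_sub_C 1 hM one_ne_zero).squarefree
    have hdiv : minpoly F e ∣ ∏ f ∈ S, f := by
      have hsub : (UniqueFactorizationMonoid.normalizedFactors (minpoly F e)).toFinset ⊆ S := by
        intro f hf
        rw [Multiset.mem_toFinset] at hf
        exact Multiset.mem_toFinset.2 (Multiset.subset_of_le
          ((UniqueFactorizationMonoid.dvd_iff_normalizedFactors_le_normalizedFactors hm0 hPm.ne_zero).1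
            (he ▸ LinearMap.minpoly_dvd_charpoly e)) hf)
      refine dvd_trans (dvd_of_eq ?_) (Finset.prod_dvd_prod_of_subset _ _ (fun f => f) hsub)
      conv_lhs => rw [← (minpoly.monic hint).normalize_eq_self, ← UniqueFactorizationMonoid.prod_normalizedFactors_eq hm0]
      rw [Finset.prod_multiset_count]
      refine Finset.prod_congr rfl fun f hf => ?_
      rw [Multiset.count_eq_one_of_mem
        ((UniqueFactorizationMonoid.squarefree_iff_nodup_normalizedFactors hm0).1 hsq) (Multiset.mem_toFinset.1 hf),
        pow_one]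
    obtain ⟨c, hc⟩ := hdiv
    rw [hc, map_mul, minpoly.aeval, zero_mul]
  have hle : ∀ f ∈ S, Module.finrank F (Cfsg.Agent.InvMobius.K e f) ≤ nf.count f * f.natDegree := by
    intro f hf
    obtain ⟨hm, hirr⟩ := hfm f (hSnf f hf)
    obtain ⟨k, hk, hdvd⟩ := Cfsg.Agent.InvMobius.dvd_finrank hm hirr (Cfsg.Agent.InvMobius.inv_K e f) le_rfl
    rw [hk]
    refine Nat.mul_le_mul_right _ ?_
    rw [he] at hdvd
    have h1 := (UniqueFactorizationMonoid.dvd_iff_normalizedFactors_le_normalizedFactors
      (pow_ne_zero k hm.ne_zero) hPm.ne_zero).1 hdvd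
    rw [UniqueFactorizationMonoid.normalizedFactors_pow, UniqueFactorizationMonoid.normalizedFactors_irreducible hirr,
      hm.normalize_eq_self] at h1
    simpa using Multiset.count_le_of_le f h1
  have hsum : ∑ f ∈ S, nf.count f * f.natDegree = n := by
    have h1 : P.natDegree = n := by rw [Matrix.charpoly_natDegree_eq_dim, Fintype.card_fin]
    rw [← h1]
    conv_rhs => rw [← hPm.normalize_eq_self, ← UniqueFactorizationMonoid.prod_normalizedFactors_eq hPm.ne_zero]
    rw [Polynomial.natDegree_multiset_prod _ (UniqueFactorizationMonoid.zero_notMem_normalizedFactors P),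
      Finset.sum_multiset_map_count]
    simp [S, nf, smul_eq_mul]
  have hmult : ∀ f ∈ S, Cfsg.Agent.InvMobius.mult e ⊥ f = nf.count f := by
    intro f hf
    have heq : Module.finrank F (Cfsg.Agent.InvMobius.K e f) = nf.count f * f.natDegree := by
      have h1 := hsplit.sum_finrank (Cfsg.Agent.InvMobius.inv_top e)
      rw [finrank_top, Module.finrank_fin_fun,
        Finset.sum_congr rfl (fun g _ => by rw [top_inf_eq])] at h1
      exact (Finset.sum_eq_sum_iff_of_le hle).1 (h1.trans hsum.symm) f hf
    rw [Cfsg.Agent.InvMobius.mult, bot_inf_eq, finrank_bot, heq, Nat.sub_zero,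
      Nat.mul_div_cancel _ (hfm f (hSnf f hf)).2.natDegree_pos]
  rw [Cfsg.Agent.Classical.StFlags.steinberg_eq_mu,
    Cfsg.Agent.InvMobius.mu_eq_val hsplit ⊥ (Cfsg.Agent.InvMobius.inv_bot e), Cfsg.Agent.InvMobius.val,
    Finset.prod_congr rfl fun f hf => by rw [hmult f hf]]
  push_cast
  rw [hq]
  conv_lhs => arg 1; rw [← hsum, ← Finset.prod_pow_eq_pow_sum]
  rw [← Finset.prod_mul_distrib]
  refine Finset.prod_congr rfl fun f hf => ?_
  obtain ⟨d, hd⟩ : ∃ d, f.natDegree = d + 1 :=
    ⟨f.natDegree - 1, by have := (hfm f (hSnf f hf)).2.natDegree_pos; omega⟩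
  have hq' : f.natDegree * nf.count f * (nf.count f - 1) / 2 = f.natDegree * (nf.count f).choose 2 := by
    rw [Nat.choose_two_right, mul_assoc, Nat.mul_div_assoc _ (Nat.even_mul_pred_self _).two_dvd]
  rw [hq', ← pow_mul, ← mul_assoc, ← pow_add, hd, Nat.add_sub_cancel]
  congr 1
  rw [neg_one_pow_eq_pow_mod_two, neg_one_pow_eq_pow_mod_two (R := ℂ) (d * _)]
  congr 1
  rw [show nf.count f * (d + 1) + nf.count f = d * nf.count f + 2 * nf.count f by ring, Nat.add_mul_mod_self_left]

end Cfsg.Agent.S2425
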