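import Cfsg.Statements.S2426
import Cfsg.Agent.Lib.Lie.SteinbergSL
-- import your own Cfsg.Agent.* helpers here

set_option autoImplicit false
open Cfsg

namespace Cfsg.Agent.S2426

/-- The rank-one Steinberg presentation of `SL₂` over a finite field `K`: generators `x(t)`, `y(t)` (`t ∈ K`; the two opposite root subgroups) subject to additivity `x(t)x(u) = x(t+u)`, `y(t)y(u) = y(t+u)` and, with `w(t) = x(t) y(−t⁻¹) x(t)` and `w'(t) = y(t) x(−t⁻¹) y(t)` for `t ≠ 0`, the relations `w(t) x(u) w(t)⁻¹ = y(−t⁻² u)` and `w'(t) y(u) w'(t)⁻¹ = x(−t⁻² u)`, present `SL₂(K)`, with `x(t) ↦ (1 t; 0 1)` and `y(t) ↦ (1 0; t 1)`. -/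
theorem result {K : Type*} [Field K] [Finite K] :
    ∃ e : PresentedGroup
        ({g : FreeGroup (Bool × K) | ∃ (b : Bool) (t u : K), g = FreeGroup.of (b, t) * FreeGroup.of (b, u) * (FreeGroup.of (b, t + u))⁻¹} ∪
          {g | ∃ (b : Bool) (t u : K), t ≠ 0 ∧
            g = (FreeGroup.of (b, t) * FreeGroup.of (!b, -t⁻¹) * FreeGroup.of (b, t)) * FreeGroup.of (b, u) *
                  (FreeGroup.of (b, t) * FreeGroup.of (!b, -t⁻¹) * FreeGroup.of (b, t))⁻¹ * (FreeGroup.of (!b, -(t⁻¹ ^ 2 * u)))⁻¹})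
        ≃* Matrix.SpecialLinearGroup (Fin 2) K,
      (∀ t : K, ((e (PresentedGroup.of (true, t)) : Matrix (Fin 2) (Fin 2) K)) = !![1, t; 0, 1]) ∧
      (∀ t : K, ((e (PresentedGroup.of (false, t)) : Matrix (Fin 2) (Fin 2) K)) = !![1, 0; t, 1]) := by
  classical
  let rels : Set (FreeGroup (Bool × K)) :=
    ({g : FreeGroup (Bool × K) | ∃ (b : Bool) (t u : K), g = FreeGroup.of (b, t) * FreeGroup.of (b, u) * (FreeGroup.of (b, t + u))⁻¹} ∪
          {g | ∃ (b : Bool) (t u : K), t ≠ 0 ∧
            g = (FreeGroup.of (b, t) * FreeGroup.of (!b, -t⁻¹) * FreeGroup.of (b, t)) * FreeGroup.of (b, u) *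
                  (FreeGroup.of (b, t) * FreeGroup.of (!b, -t⁻¹) * FreeGroup.of (b, t))⁻¹ * (FreeGroup.of (!b, -(t⁻¹ ^ 2 * u)))⁻¹})
  show ∃ e : PresentedGroup rels ≃* _, _
  let b₀ : Fin 2 → Bool := fun i => i = 0
  let X : Fin 2 → Fin 2 → K → PresentedGroup rels := fun i _ t => PresentedGroup.of (b₀ i, t)
  have hflip : ∀ i j : Fin 2, i ≠ j → b₀ j = !(b₀ i) := by decide
  let e : Bool → K → Matrix.SpecialLinearGroup (Fin 2) K := fun b t =>
    if b then Matrix.SpecialLinearGroup.transvection (show (0 : Fin 2) ≠ 1 by decide) t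
    else Matrix.SpecialLinearGroup.transvection (show (1 : Fin 2) ≠ 0 by decide) t
  have hval : ∀ g ∈ rels, FreeGroup.lift (fun x : Bool × K => e x.1 x.2) g = 1 := by
    rintro g (⟨b, t, u, rfl⟩ | ⟨b, t, u, ht, rfl⟩) <;>
      simp only [map_mul, map_inv, FreeGroup.lift_apply_of, mul_inv_eq_one]
    · refine Subtype.ext ?_
      cases b <;> ext i j <;> fin_cases i <;> fin_cases j <;>
        simp [e, Matrix.SpecialLinearGroup.transvection_coe, Matrix.mul_apply, Fin.sum_univ_two, add_comm]
    · rw [mul_inv_eq_iff_eq_mul]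
      refine Subtype.ext ?_
      cases b <;> ext i j <;> fin_cases i <;> fin_cases j <;>
        simp [e, Matrix.SpecialLinearGroup.transvection_coe, Matrix.transvection, Matrix.mul_apply, Fin.sum_univ_two] <;> (try field_simp) <;> (try ring_nf) <;> (try simp)
  let A : Lie.SLSteinberg.SLSt K 2 (PresentedGroup rels) :=
    { X := X
      add := fun i j h t u => by
        show PresentedGroup.of (b₀ i, t) * PresentedGroup.of (b₀ i, u) = PresentedGroup.of (b₀ i, t + u)
        rw [← mul_inv_eq_one]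
        exact PresentedGroup.one_of_mem (Or.inl ⟨b₀ i, t, u, rfl⟩)
      comm₀ := fun i j k l h1 h2 h3 h4 t u => by
        have : k = i := by omega
        subst this
        show PresentedGroup.of (b₀ k, t) * PresentedGroup.of (b₀ k, u) =
          PresentedGroup.of (b₀ k, u) * PresentedGroup.of (b₀ k, t)
        have h := fun t u => PresentedGroup.one_of_mem (rels := rels) (Or.inl ⟨b₀ k, t, u, rfl⟩)
        simp only [map_mul, map_inv, mul_inv_eq_one] at h
        exact (h t u).trans ((congrArg (fun s => PresentedGroup.of (b₀ k, s)) (add_comm t u)).trans (h u t).symm)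
      comm₁ := fun i j k h1 h2 h3 => by omega
      θ := PresentedGroup.toGroup hval
      θX := fun i j h t => by
        show ((PresentedGroup.toGroup hval (PresentedGroup.of (b₀ i, t)) : _) : Matrix (Fin 2) (Fin 2) K) = _
        rw [PresentedGroup.toGroup.of]
        fin_cases i <;> fin_cases j <;> simp_all [e, b₀, Matrix.SpecialLinearGroup.transvection_coe, Matrix.transvection]
      rel := fun i j h t u ht => by
        have := PresentedGroup.one_of_mem (rels := rels) (Or.inr ⟨b₀ i, t, u, ht, rfl⟩)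
        simp only [map_mul, map_inv, mul_inv_eq_one] at this
        simp only [X, hflip i j h]
        exact this }
  have hgen : Subgroup.closure {g | ∃ i j, i ≠ j ∧ ∃ u, g = A.X i j u} = ⊤ := by
    rw [eq_top_iff, ← PresentedGroup.closure_range_of rels, Subgroup.closure_le]
    rintro _ ⟨⟨b, t⟩, rfl⟩
    cases b
    · exact Subgroup.subset_closure ⟨1, 0, by decide, t, rfl⟩
    · exact Subgroup.subset_closure ⟨0, 1, by decide, t, rfl⟩
  refine ⟨MulEquiv.ofBijective A.θ (Lie.SLSteinberg.bijective le_rfl A hgen), fun t => ?_, fun t => ?_⟩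
  all_goals
    show ((PresentedGroup.toGroup hval (PresentedGroup.of (_, t)) : _) : Matrix (Fin 2) (Fin 2) K) = _
    rw [PresentedGroup.toGroup.of]
    ext i j
    fin_cases i <;> fin_cases j <;> simp [e, Matrix.SpecialLinearGroup.transvection_coe, Matrix.transvection]

end Cfsg.Agent.S2426
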