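import Cfsg.Statements.S2427
import Mathlib
import Cfsg.Agent.Lib.Classical.SLTwoSmall
import Cfsg.Agent.Lib.Classical.SLGroup
import Cfsg.Agent.Lib.Classical.SLNormal
import Cfsg.Agent.Lib.Fus.SmallSimple
-- import your own Cfsg.Agent.* helpers here

set_option autoImplicit false
open Cfsg

namespace Cfsg.Agent.S2427

section
open Classical.SLTwoSmall

theorem conj_gen : ∀ g : Matrix.SpecialLinearGroup (Fin 2) (ZMod 3), g ^ 4 = 1 → g ≠ 1 → g ≠ -1 →
    ∀ s : Matrix.SpecialLinearGroup (Fin 2) (ZMod 3), (s = qi ∨ s = qj) → ∃ x, x * g * x⁻¹ = s := by decide +kernel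

theorem outside_four : ∀ g : Matrix.SpecialLinearGroup (Fin 2) (ZMod 3), g ^ 4 ≠ 1 →
    ∃ x, (g * (x * g⁻¹ * x⁻¹)) ^ 4 = 1 ∧ g * (x * g⁻¹ * x⁻¹) ≠ 1 ∧ g * (x * g⁻¹ * x⁻¹) ≠ -1 := by decide +kernel

end

/-- The group SL₂ over the field with 3 elements has order 24 and centre of order 2; its commutator subgroup has order 8, is isomorphic to the quaternion group of order 8 and is complemented by every Sylow 3-subgroup (so the group is a semidirect product of a quaternion group of order 8 by a cyclic group of order 3); and its only normal subgroups besides the trivial subgroup and the whole group are the centre and the commutator subgroup. -/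
theorem result :
    Nat.card (Matrix.SpecialLinearGroup (Fin 2) (ZMod 3)) = 24 ∧
    Nat.card (Subgroup.center (Matrix.SpecialLinearGroup (Fin 2) (ZMod 3))) = 2 ∧
    Nat.card (commutator (Matrix.SpecialLinearGroup (Fin 2) (ZMod 3))) = 8 ∧
    Nonempty (commutator (Matrix.SpecialLinearGroup (Fin 2) (ZMod 3)) ≃* QuaternionGroup 2) ∧
    (∀ P : Sylow 3 (Matrix.SpecialLinearGroup (Fin 2) (ZMod 3)),
      Subgroup.IsComplement' (commutator (Matrix.SpecialLinearGroup (Fin 2) (ZMod 3)))
        (P : Subgroup (Matrix.SpecialLinearGroup (Fin 2) (ZMod 3)))) ∧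
    ∀ N : Subgroup (Matrix.SpecialLinearGroup (Fin 2) (ZMod 3)), N.Normal →
      N = ⊥ ∨ N = ⊤ ∨ N = Subgroup.center (Matrix.SpecialLinearGroup (Fin 2) (ZMod 3)) ∨
        N = commutator (Matrix.SpecialLinearGroup (Fin 2) (ZMod 3)) := by
  classical
  haveI := Classical.SLTwoSmall.range_normal
  have hC := Classical.SLTwoSmall.range_eq_commutator
  refine ⟨Classical.SLTwoSmall.card_three, Classical.SLTwoSmall.card_center, ?_, ?_, fun P => ?_, fun N hN => ?_⟩
  · rw [← hC]; exact Classical.SLTwoSmall.card_range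
  · rw [← hC]; exact ⟨(MonoidHom.ofInjective Classical.SLTwoSmall.quatHom_injective).symm⟩
  · haveI : Fact (Nat.Prime 3) := ⟨Nat.prime_three⟩
    have hP : Nat.card P = 3 := by
      rw [Sylow.card_eq_multiplicity, Classical.SLTwoSmall.card_three]
      decide +kernel
    refine Subgroup.isComplement'_of_coprime ?_ ?_
    · rw [← hC, Classical.SLTwoSmall.card_range, Classical.SLTwoSmall.card_three, hP]
    · rw [← hC, Classical.SLTwoSmall.card_range, hP]; norm_num
  · by_cases hout : ∃ g ∈ N, g ^ 4 = 1 ∧ g ≠ 1 ∧ g ≠ -1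
    · obtain ⟨g, hg, h4, h1, h2⟩ := hout
      have hle : Classical.SLTwoSmall.quatHom.range ≤ N := by
        have hs : ∀ s, (s = Classical.SLTwoSmall.qi ∨ s = Classical.SLTwoSmall.qj) → s ∈ N := fun s hs => by
          obtain ⟨x, rfl⟩ := conj_gen g h4 h1 h2 s hs
          exact hN.conj_mem g hg x
        rintro _ ⟨q, rfl⟩
        cases q with
        | a i => exact N.pow_mem (hs _ (Or.inl rfl)) _
        | xa i => exact N.mul_mem (hs _ (Or.inr rfl)) (N.pow_mem (hs _ (Or.inl rfl)) _)
      have h := Subgroup.relIndex_mul_index hle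
      rw [Classical.SLTwoSmall.index_range] at h
      rcases (Nat.dvd_prime Nat.prime_three).mp (Dvd.intro_left _ h) with h3 | h3
      · exact Or.inr (Or.inl (Subgroup.index_eq_one.mp h3))
      · refine Or.inr (Or.inr (Or.inr (le_antisymm ?_ (hC ▸ hle))))
        rw [← hC]
        rw [h3] at h
        exact Subgroup.relIndex_eq_one.mp (by omega)
    · push Not at hout
      have hle : ∀ g ∈ N, g = 1 ∨ g = -1 := fun g hg => by
        by_cases h4 : g ^ 4 = 1
        · by_cases h1 : g = 1
          · exact Or.inl h1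
          · exact Or.inr (hout g hg h4 h1)
        · exfalso
          obtain ⟨x, a, b, c⟩ := outside_four g h4
          exact c (hout _ (N.mul_mem hg (hN.conj_mem _ (N.inv_mem hg) x)) a b)
      by_cases hneg : (-1 : Matrix.SpecialLinearGroup (Fin 2) (ZMod 3)) ∈ N
      · refine Or.inr (Or.inr (Or.inl (le_antisymm ?_ ?_)))
        · intro g hg; exact Subgroup.mem_center_iff.mpr ((Classical.SLTwoSmall.center_iff g).mpr (hle g hg))
        · intro g hg
          rcases (Classical.SLTwoSmall.center_iff g).mp (Subgroup.mem_center_iff.mp hg) with rfl | rfl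
          exacts [one_mem _, hneg]
      · exact Or.inl ((Subgroup.eq_bot_iff_forall N).mpr fun g hg => (hle g hg).resolve_right fun e => hneg (e ▸ hg))

end Cfsg.Agent.S2427
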