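import Cfsg.Statements.S2428
import Cfsg.Agent.Lib.Block.SL2Char.SLTori
-- import your own Cfsg.Agent.* helpers here

set_option autoImplicit false
open Cfsg

namespace Cfsg.Agent.S2428

open Cfsg.Agent.Block.SL2Char

/-- Let F be a finite field with q elements, q odd, and let d be a diagonal element of SL₂ over F whose diagonal entry a has a² ≠ 1 (such d exist exactly when q > 3). Then the centraliser of d is precisely the diagonal subgroup T; the normaliser of T has order 2(q − 1) and exactly (q + 5)/2 conjugacy classes; and every element of that normaliser outside T has square equal to −1. -/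
theorem result {F : Type*} [Field F] [Fintype F] (hodd : Odd (Fintype.card F))
    (d : Matrix.SpecialLinearGroup (Fin 2) F) (hd01 : (d : Matrix (Fin 2) (Fin 2) F) 0 1 = 0) (hd10 : (d : Matrix (Fin 2) (Fin 2) F) 1 0 = 0) (hda : (d : Matrix (Fin 2) (Fin 2) F) 0 0 ^ 2 ≠ 1) :
    (∀ g : Matrix.SpecialLinearGroup (Fin 2) F, g ∈ Subgroup.centralizer ({d} : Set (Matrix.SpecialLinearGroup (Fin 2) F)) ↔ ((g : Matrix (Fin 2) (Fin 2) F) 0 1 = 0 ∧ (g : Matrix (Fin 2) (Fin 2) F) 1 0 = 0)) ∧
    Nat.card (Subgroup.normalizer ((Subgroup.centralizer ({d} : Set (Matrix.SpecialLinearGroup (Fin 2) F))) : Set (Matrix.SpecialLinearGroup (Fin 2) F))) = 2 * (Fintype.card F - 1) ∧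
    Nat.card (ConjClasses (Subgroup.normalizer ((Subgroup.centralizer ({d} : Set (Matrix.SpecialLinearGroup (Fin 2) F))) : Set (Matrix.SpecialLinearGroup (Fin 2) F)))) = (Fintype.card F + 5) / 2 ∧
    ∀ g : Matrix.SpecialLinearGroup (Fin 2) F, g ∈ Subgroup.normalizer ((Subgroup.centralizer ({d} : Set (Matrix.SpecialLinearGroup (Fin 2) F))) : Set (Matrix.SpecialLinearGroup (Fin 2) F)) →
      g ∉ Subgroup.centralizer ({d} : Set (Matrix.SpecialLinearGroup (Fin 2) F)) → ((g * g) : Matrix (Fin 2) (Fin 2) F) = -1 := by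
  classical
  have hdet : ∀ g : Matrix.SpecialLinearGroup (Fin 2) F, (g : Matrix (Fin 2) (Fin 2) F) 0 1 = 0 →
      (g : Matrix (Fin 2) (Fin 2) F) 1 0 = 0 →
      ∃ x : Fˣ, diS x = g ∧ (x : F) = (g : Matrix (Fin 2) (Fin 2) F) 0 0 := fun g g01 g10 => by
    have h1 := g.2
    rw [Matrix.det_fin_two, g01, g10, mul_zero, sub_zero] at h1
    refine ⟨Units.mkOfMulEqOne _ _ h1, Matrix.SpecialLinearGroup.toGL_injective ?_, rfl⟩
    rw [toGL_diS]
    refine Units.ext (Matrix.ext fun i j => ?_)
    fin_cases i <;> fin_cases j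
    · rfl
    · exact g01.symm
    · exact g10.symm
    · show (((Units.mkOfMulEqOne _ _ h1)⁻¹ : Fˣ) : F) = (g : Matrix (Fin 2) (Fin 2) F) 1 1
      rfl
  obtain ⟨a, rfl, hval⟩ := hdet d hd01 hd10
  have ha : a * a ≠ 1 := fun e => hda (by
    rw [← hval, sq, ← Units.val_mul, e, Units.val_one])
  have h3 := three_le_card hodd
  have h5 : 5 ≤ Fintype.card F := by
    by_contra h
    have h4 : Fintype.card F = 3 := by
      obtain ⟨k, hk⟩ := hodd
      omega
    have := pow_card_eq_one (x := a)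
    rw [Fintype.card_units, h4, sq] at this
    exact ha this
  have hT := isTorus_diS (F := F) hodd h5
  have hc := hT.centralizer_singleton ha
  refine ⟨fun g => ?_, ?_, ?_, fun g hg hg' => ?_⟩
  · rw [hc]
    refine ⟨?_, fun ⟨h01, h10⟩ => ?_⟩
    · rintro ⟨x, rfl⟩
      have h := congrArg Units.val (toGL_diS x)
      exact ⟨(congrFun (congrFun h 0) 1).trans (by simp), (congrFun (congrFun h 1) 0).trans (by simp)⟩
    · obtain ⟨x, hx, -⟩ := hdet g h01 h10
      exact ⟨x, hx⟩
  · rw [hc, hT.card_normalizer]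
    obtain ⟨k, hk⟩ := hodd
    omega
  · rw [hc, hT.classes_normalizer]
    obtain ⟨k, hk⟩ := hodd
    omega
  · rw [hc] at hg hg'
    have h := congrArg (fun s : Matrix.SpecialLinearGroup (Fin 2) F =>
      (s : Matrix (Fin 2) (Fin 2) F)) (hT.sq_eq_neg_one hodd hg hg')
    simpa using h

end Cfsg.Agent.S2428
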