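import Cfsg.Statements.S2429
import Cfsg.Agent.Lib.Block.SL2Char.SLTori
-- import your own Cfsg.Agent.* helpers here

set_option autoImplicit false
open Cfsg

namespace Cfsg.Agent.S2429

open Cfsg.Agent.Block.SL2Char

/-- Let F be a finite field with q elements, q odd. Then SL₂ over F contains a cyclic subgroup T′ of order q + 1 (a non-split torus) with the following properties: T′ is its own centraliser, and indeed the centraliser of each element of T′ other than 1 and −1 is exactly T′; every element of SL₂ having no eigenvector in F² is conjugate to an element of T′; the normaliser of T′ has order 2(q + 1) and exactly (q + 7)/2 conjugacy classes; and every element of that normaliser outside T′ has square −1. -/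
theorem result {F : Type*} [Field F] [Fintype F] (hodd : Odd (Fintype.card F)) :
    ∃ T' : Subgroup (Matrix.SpecialLinearGroup (Fin 2) F), IsCyclic T' ∧ Nat.card T' = Fintype.card F + 1 ∧
      Subgroup.centralizer ((T' : Set (Matrix.SpecialLinearGroup (Fin 2) F))) = T' ∧
      (∀ g : Matrix.SpecialLinearGroup (Fin 2) F, g ∈ T' → (g : Matrix (Fin 2) (Fin 2) F) ≠ 1 → (g : Matrix (Fin 2) (Fin 2) F) ≠ -1 → Subgroup.centralizer ({g} : Set (Matrix.SpecialLinearGroup (Fin 2) F)) = T') ∧
      (∀ g : Matrix.SpecialLinearGroup (Fin 2) F, (∀ (c : F) (v : Fin 2 → F), v ≠ 0 → (g : Matrix (Fin 2) (Fin 2) F).mulVec v ≠ c • v) → ∃ h : Matrix.SpecialLinearGroup (Fin 2) F, h * g * h⁻¹ ∈ T') ∧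
      Nat.card (Subgroup.normalizer (T' : Set (Matrix.SpecialLinearGroup (Fin 2) F))) = 2 * (Fintype.card F + 1) ∧
      Nat.card (ConjClasses (Subgroup.normalizer (T' : Set (Matrix.SpecialLinearGroup (Fin 2) F)))) = (Fintype.card F + 7) / 2 ∧
      ∀ g : Matrix.SpecialLinearGroup (Fin 2) F, g ∈ Subgroup.normalizer (T' : Set (Matrix.SpecialLinearGroup (Fin 2) F)) → g ∉ T' → ((g * g) : Matrix (Fin 2) (Fin 2) F) = -1 := by
  classical
  obtain ⟨K, _, _, _, _, hK⟩ := exists_model F
  have hT := isTorus_ellS (F := F) K hK hodd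
  have hreg : ∀ a : U1 F K,
      ((ellS K hK a : Matrix.SpecialLinearGroup (Fin 2) F) : Matrix (Fin 2) (Fin 2) F) ≠ 1 →
      ((ellS K hK a : Matrix.SpecialLinearGroup (Fin 2) F) : Matrix (Fin 2) (Fin 2) F) ≠ -1 →
      a * a ≠ 1 := fun a h1 h2 e => by
    rcases neg_inj_sq hodd (s := ellS K hK a) (by rw [← map_mul, e, map_one]) with h | h
    · exact h1 (by rw [h]; rfl)
    · exact h2 (by rw [h]; simp)
  obtain ⟨k, hk⟩ := hodd
  refine ⟨(ellS K hK).range, isCyclic_of_surjective _ (MonoidHom.rangeRestrict_surjective (ellS K hK)),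
    by rw [hT.card_range]; omega, hT.centralizer_range, ?_, fun g hg => ?_,
    by rw [hT.card_normalizer]; omega, by rw [hT.classes_normalizer]; omega, fun g hg hg' => ?_⟩
  · rintro g ⟨a, rfl⟩ h1 h2
    exact hT.centralizer_singleton (hreg a h1 h2)
  · obtain ⟨l, hl, hc⟩ := ell_of_noeig_S K hK hg
    rw [← toGL_ellS K hK l] at hc
    obtain ⟨y, hy⟩ := isConj_iff.1
      (conj_S_of_fullDet (by rw [toGL_ellS]; exact fullDet_ell K hK _) hc)
    exact ⟨y⁻¹, l, by rw [← hy]; group⟩
  · have h := congrArg (fun s : Matrix.SpecialLinearGroup (Fin 2) F =>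
      (s : Matrix (Fin 2) (Fin 2) F)) (hT.sq_eq_neg_one ⟨k, hk⟩ hg hg')
    simpa using h

end Cfsg.Agent.S2429
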