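import Cfsg.Statements.S2434
import Cfsg.Agent.Lib.Block.SL2Char.SLFacts
-- import your own Cfsg.Agent.* helpers here

set_option autoImplicit false
open Cfsg

namespace Cfsg.Agent.S2434

open Cfsg.Agent.Block.SL2Char

/-- Let F be a finite field with q elements, q odd, and C a cyclic subgroup of order q + 1 of SL₂ over F (a non-split torus; it contains the centre). For every homomorphism θ from C to the non-zero complex numbers with θ² ≠ 1 there is an irreducible complex character χ of degree q − 1 such that χ(c) = −θ(c) − θ(c)⁻¹ for every non-central c in C, χ(zg) = θ(z)χ(g) for central z in C, χ vanishes at diagonal elements with entry a, a² ≠ 1, and χ takes the value −1 at every upper unitriangular element other than 1. Conversely every irreducible character of degree q − 1 has, for some such θ, the values −θ(c) − θ(c)⁻¹ at the non-central elements c of C (for q ≥ 5 these are exactly the cuspidal characters of degree q − 1). -/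
theorem result {F : Type*} [Field F] [Fintype F] (hodd : Odd (Fintype.card F))
    (C : Subgroup (Matrix.SpecialLinearGroup (Fin 2) F)) (hC : IsCyclic C) (hcard : Nat.card C = Fintype.card F + 1) :
    (∀ θ : C →* ℂˣ, (∃ c : C, θ c ^ 2 ≠ 1) →
      ∃ χ : Matrix.SpecialLinearGroup (Fin 2) F → ℂ, Cfsg.IsIrrCharacter (Matrix.SpecialLinearGroup (Fin 2) F) χ ∧ χ 1 = (Fintype.card F : ℂ) - 1 ∧
        (∀ c : C, (c : Matrix.SpecialLinearGroup (Fin 2) F) ∉ Subgroup.center (Matrix.SpecialLinearGroup (Fin 2) F) → χ c = -((θ c).val + (θ c)⁻¹.val)) ∧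
        (∀ c : C, (c : Matrix.SpecialLinearGroup (Fin 2) F) ∈ Subgroup.center (Matrix.SpecialLinearGroup (Fin 2) F) → ∀ g : Matrix.SpecialLinearGroup (Fin 2) F, χ ((c : Matrix.SpecialLinearGroup (Fin 2) F) * g) = (θ c).val * χ g) ∧
        (∀ g : Matrix.SpecialLinearGroup (Fin 2) F, (g : Matrix (Fin 2) (Fin 2) F) 0 1 = 0 → (g : Matrix (Fin 2) (Fin 2) F) 1 0 = 0 → (g : Matrix (Fin 2) (Fin 2) F) 0 0 ^ 2 ≠ 1 → χ g = 0) ∧
        (∀ g : Matrix.SpecialLinearGroup (Fin 2) F, (g : Matrix (Fin 2) (Fin 2) F) 1 0 = 0 → (g : Matrix (Fin 2) (Fin 2) F) 0 0 = 1 → (g : Matrix (Fin 2) (Fin 2) F) 1 1 = 1 → (g : Matrix (Fin 2) (Fin 2) F) 0 1 ≠ 0 → χ g = -1)) ∧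
    (∀ χ : Matrix.SpecialLinearGroup (Fin 2) F → ℂ, Cfsg.IsIrrCharacter (Matrix.SpecialLinearGroup (Fin 2) F) χ → χ 1 = (Fintype.card F : ℂ) - 1 →
      ∃ θ : C →* ℂˣ, (∃ c : C, θ c ^ 2 ≠ 1) ∧
        ∀ c : C, (c : Matrix.SpecialLinearGroup (Fin 2) F) ∉ Subgroup.center (Matrix.SpecialLinearGroup (Fin 2) F) → χ c = -((θ c).val + (θ c)⁻¹.val)) := by
  classical
  obtain ⟨K, _, _, _, _, hK⟩ := exists_model F
  have h3 := three_le_card hodd
  obtain ⟨γ, E, hE⟩ := exists_torus K hK hodd C hcard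
  have hcen : ∀ l, ((E l : C) : Matrix.SpecialLinearGroup (Fin 2) F) ∈
      Subgroup.center (Matrix.SpecialLinearGroup (Fin 2) F) ↔ (l : Kˣ) ∈ (emb (F := F) K).range := by
    intro l
    rw [hE, ← mem_center_ellS K hK]
    refine ⟨fun h => Subgroup.mem_center_iff.2 fun t => (cjS γ).injective ?_,
      fun h => Subgroup.mem_center_iff.2 fun t => (cjS γ).symm.injective ?_⟩
    · rw [map_mul, map_mul, Subgroup.mem_center_iff.1 h]
    · rw [map_mul, map_mul, MulEquiv.symm_apply_apply, Subgroup.mem_center_iff.1 h]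
  have hval : ∀ (φ : U1 F K →* ℂˣ) (l : U1 F K), (l : Kˣ) ∉ (emb (F := F) K).range →
      vDS K hK φ (E l : C) = -(cv φ l + cv φ l⁻¹) := by
    intro φ l hl
    refine vDS_ell K hK φ hl (isConj_iff.2 ⟨γ, ?_⟩)
    rw [hE, toGL_cjS, toGL_ellS]
  have hθ : ∀ θ : C →* ℂˣ, (∃ c : C, θ c ^ 2 ≠ 1) ↔
      θ.comp E.toMonoidHom * θ.comp E.toMonoidHom ≠ 1 := by
    intro θ
    refine ⟨fun ⟨c, hc⟩ e => hc ?_, fun h => ?_⟩
    · have := DFunLike.congr_fun e (E.symm c)
      simpa [sq] using this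
    · by_contra hne
      push Not at hne
      exact h (MonoidHom.ext fun l => by simpa [sq] using hne (E l))
  refine ⟨fun θ hθ' => ?_, fun χ hχ hd => ?_⟩
  · let φ : U1 F K →* ℂˣ := θ.comp E.toMonoidHom
    have hφ : φ * φ ≠ 1 := (hθ θ).1 hθ'
    have hcv : ∀ l, cv φ l = (θ (E l) : ℂ) := fun l => rfl
    refine ⟨vDS K hK φ, isIrr_vDS K hK hφ, vDS_one K hK φ, fun c hc => ?_, fun c hc g => ?_,
      fun g h01 h10 ha => ?_, fun g h10 h00 h11 h01 => ?_⟩
    · obtain ⟨l, rfl⟩ := E.surjective c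
      rw [hval φ l fun h => hc ((hcen l).2 h), cv_inv, hcv, Units.val_inv_eq_inv_val]
    · obtain ⟨l, rfl⟩ := E.surjective c
      obtain ⟨s, -, hs⟩ := Cfsg.Agent.Char.IsIrr.scalar_of_center (isIrr_vDS K hK hφ) hc
      obtain ⟨z, hz, rfl⟩ := (mem_range_iff K l).1 ((hcen l).1 hc)
      have h1 := hs 1
      rw [mul_one, hE, invS_vDS K hK φ, vDS_one, vDS, resS_apply, toGL_ellS, val_embU, ell_emb,
        vD_sc, cv_extU_emb K φ z hz, mul_comm] at h1
      rw [hs g, ← mul_right_cancel₀ (cardF_cast_ne (F := F)).2.1 h1, hcv]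
    · obtain ⟨x, -, hx, hg⟩ := eq_di_S h01 h10 ha
      exact vDS_di K hK φ hx hg
    · obtain ⟨z, hz, -, hg⟩ := conj_un_S h10 (h00.trans h11.symm) h01
      obtain rfl : z = 1 := Units.ext (by rw [hz, h00, Units.val_one])
      rw [vDS, resS_of_conj (classFun_vD K hK _) hg, vD_un, map_one, cv_one]
  · obtain ⟨n, hn, h⟩ := irr_cases_S K hK hχ
    have hn' : n = Fintype.card F - 1 := Nat.cast_injective (R := ℂ) (by
      rw [← hn, hd, cardF_sub_one Fintype.card_pos])
    obtain ⟨φ, hφ, hv⟩ : ∃ φ : U1 F K →* ℂˣ, φ * φ ≠ 1 ∧ ∀ l : U1 F K,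
        (l : Kˣ) ∉ (emb (F := F) K).range → χ (E l : C) = -(cv φ l + cv φ l⁻¹) := by
      rcases h with ⟨g1, g2⟩ | ⟨g1, g2⟩ | ⟨g1, g2⟩ | ⟨g1, g2⟩ | ⟨g1, -, g2⟩ | ⟨g1, -, g2⟩
      all_goals first | omega | skip
      · obtain ⟨φ, hφ, rfl⟩ := (mem_famD K hK).1 g2
        exact ⟨φ, hφ, hval φ⟩
      · have hp := card_parD (F := F) K hK
        rw [card_Z2_odd hodd] at hp
        obtain ⟨φ, hφ⟩ := Finset.card_pos.1 (show 0 < (parD (F := F) K).card by omega)
        refine ⟨φ, (mem_parD K).1 hφ, fun l hl => ?_⟩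
        have hc : IsConj (ell (F := F) K hK (l : Kˣ))
            (Matrix.SpecialLinearGroup.toGL ((E l : C) : Matrix.SpecialLinearGroup (Fin 2) F)) :=
          isConj_iff.2 ⟨γ, by rw [hE, toGL_cjS, toGL_ellS]⟩
        obtain ⟨α, -, -, e⟩ := halfI_value g2 (s := ((E l : C) : Matrix.SpecialLinearGroup (Fin 2) F))
          (by rw [hE, toGL_cjS, toGL_ellS]; exact fullDet_conj (fullDet_ell K hK _) γ)
        rw [e, vIS_ell K hK α hl hc, vDS_ell_three K (by omega) ((mem_parD K).1 hφ) l hl hK,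
          zero_div, neg_zero]
    refine ⟨φ.comp E.symm.toMonoidHom, (hθ _).2 ?_, fun c hc => ?_⟩
    · have : (φ.comp E.symm.toMonoidHom).comp E.toMonoidHom = φ :=
        MonoidHom.ext fun l => congrArg φ (E.symm_apply_apply l)
      rw [this]; exact hφ
    · obtain ⟨l, rfl⟩ := E.surjective c
      rw [hv l fun h => hc ((hcen l).2 h), cv_inv, Units.val_inv_eq_inv_val]
      simp [cv]

end Cfsg.Agent.S2434
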