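import Cfsg.Statements.S2435
import Cfsg.Agent.Lib.Block.SL2Char.SLFacts
-- import your own Cfsg.Agent.* helpers here

set_option autoImplicit false
open Cfsg

namespace Cfsg.Agent.S2435

open Cfsg.Agent.Block.SL2Char

/-- Let F be a finite field with q elements, q odd and q ≥ 5, and χ an irreducible complex character of SL₂ over F. If χ has degree (q + 1)/2, then at a diagonal element with entry a, a² ≠ 1, χ takes the value 1 when a is a square in F and −1 otherwise. If χ has degree (q − 1)/2, then at an element g with no eigenvector in F² (so g has order dividing q + 1), χ takes the value −1 when g raised to the power (q + 1)/2 is the identity and the value 1 otherwise. -/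
theorem result {F : Type*} [Field F] [Fintype F] (hodd : Odd (Fintype.card F)) (hq : 5 ≤ Fintype.card F)
    (χ : Matrix.SpecialLinearGroup (Fin 2) F → ℂ) (hχ : Cfsg.IsIrrCharacter (Matrix.SpecialLinearGroup (Fin 2) F) χ) (g : Matrix.SpecialLinearGroup (Fin 2) F) :
    (χ 1 = (((Fintype.card F + 1) / 2 : ℕ) : ℂ) → (g : Matrix (Fin 2) (Fin 2) F) 0 1 = 0 → (g : Matrix (Fin 2) (Fin 2) F) 1 0 = 0 → (g : Matrix (Fin 2) (Fin 2) F) 0 0 ^ 2 ≠ 1 →
      (IsSquare ((g : Matrix (Fin 2) (Fin 2) F) 0 0) → χ g = 1) ∧ (¬ IsSquare ((g : Matrix (Fin 2) (Fin 2) F) 0 0) → χ g = -1)) ∧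
    (χ 1 = (((Fintype.card F - 1) / 2 : ℕ) : ℂ) → (∀ (c : F) (v : Fin 2 → F), v ≠ 0 → (g : Matrix (Fin 2) (Fin 2) F).mulVec v ≠ c • v) →
      (((g ^ ((Fintype.card F + 1) / 2)) : Matrix (Fin 2) (Fin 2) F) = 1 → χ g = -1) ∧ (((g ^ ((Fintype.card F + 1) / 2)) : Matrix (Fin 2) (Fin 2) F) ≠ 1 → χ g = 1)) := by
  classical
  obtain ⟨K, _, _, _, _, hK⟩ := exists_model F
  obtain ⟨k, hk⟩ := id hodd
  obtain ⟨n, hn, h⟩ := irr_cases_S K hK hχ
  refine ⟨fun e h01 h10 ha => ?_, fun e hno => ?_⟩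
  · have hn' : n = (Fintype.card F + 1) / 2 := Nat.cast_injective (hn.symm.trans e)
    rcases h with ⟨g1, g2⟩ | ⟨g1, g2⟩ | ⟨g1, g2⟩ | ⟨g1, g2⟩ | ⟨g1, -, g2⟩ | ⟨g1, -, g2⟩
    all_goals first | omega | skip
    obtain ⟨x, hx0, hx, hg⟩ := eq_di_S h01 h10 ha
    obtain ⟨α, h1, h2, hv⟩ := halfI_value g2 (s := g) (by rw [hg]; exact fullDet_di _ _)
    rw [vIS_di α hx hg, cv_inv] at hv
    have hchar : ringChar F ≠ 2 := fun hc => by
      have := FiniteField.even_card_of_char_two hc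
      omega
    have hsq : IsSquare ((g : Matrix (Fin 2) (Fin 2) F) 0 0) ↔ cv α x = 1 := by
      rw [← hx0, FiniteField.isSquare_iff hchar (Units.ne_zero _),
        quad_apply_eq_one_iff (odd_card_eq hodd) h1 h2, ← Units.val_pow_eq_pow_val,
        Units.val_eq_one, show Fintype.card F / 2 = (Fintype.card F - 1) / 2 by omega]
    rcases quad_iff (odd_card_eq hodd) h1 h2 x with ⟨e1, -⟩ | ⟨e1, -⟩
    · rw [e1] at hv hsq
      exact ⟨fun _ => by rw [hv]; norm_num, fun h' => absurd (hsq.2 rfl) h'⟩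
    · rw [e1] at hv hsq
      exact ⟨fun h' => absurd (hsq.1 h') (by norm_num), fun _ => by rw [hv]; norm_num⟩
  · have hn' : n = (Fintype.card F - 1) / 2 := Nat.cast_injective (hn.symm.trans e)
    rcases h with ⟨g1, g2⟩ | ⟨g1, g2⟩ | ⟨g1, g2⟩ | ⟨g1, g2⟩ | ⟨g1, -, g2⟩ | ⟨g1, -, g2⟩
    all_goals first | omega | skip
    obtain ⟨l, hl, hc⟩ := ell_of_noeig_S K hK hno
    obtain ⟨w, hw⟩ := isConj_iff.1 hc
    obtain ⟨φ, h1, h2, hv⟩ := halfD_value K hK g2 (s := g) (by
      rw [← hw]; exact fullDet_conj (fullDet_ell K hK _) w)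
    rw [vDS_ell K hK φ hl hc, cv_inv] at hv
    have hgs : g = cjS w (ellS K hK l) := eq_cjS (by rw [toGL_ellS]; exact hw.symm)
    have hpow : ((g ^ ((Fintype.card F + 1) / 2)) : Matrix (Fin 2) (Fin 2) F) = 1 ↔
        cv φ l = 1 := by
      rw [quad_apply_eq_one_iff (odd_card_U1 K hK hodd) h1 h2,
        ← map_eq_one_iff (ellS K hK) (ellS_injective K hK), map_pow,
        ← map_eq_one_iff (cjS w) (cjS w).injective, map_pow, ← hgs,
        ← Matrix.SpecialLinearGroup.coe_pow, ← Matrix.SpecialLinearGroup.coe_one]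
      exact Subtype.coe_injective.eq_iff
    rcases quad_iff (odd_card_U1 K hK hodd) h1 h2 l with ⟨e1, -⟩ | ⟨e1, -⟩
    · rw [e1] at hv hpow
      exact ⟨fun _ => by rw [hv]; norm_num, fun h' => absurd (hpow.2 rfl) h'⟩
    · rw [e1] at hv hpow
      exact ⟨fun h' => absurd (hpow.1 h') (by norm_num), fun _ => by rw [hv]; norm_num⟩

end Cfsg.Agent.S2435
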