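import Cfsg.Statements.S2436
import Cfsg.Agent.Lib.Block.SL2Char.SLBlocks
import Cfsg.Agent.Lib.Block.SL2Char.SLDegreeCount
import Cfsg.Agent.Lib.Block.SL2Char.McKayBorel
import Cfsg.Agent.Lib.Block.SL2Char.McKayTorus
import Cfsg.Agent.Lib.Block.SL2Char.McKayTwo
-- import your own Cfsg.Agent.* helpers here

set_option autoImplicit false
open Cfsg

namespace Cfsg.Agent.S2436

open Cfsg.Agent.Block.SL2Char

/-- Let F be a finite field with q elements, q odd, ℓ any prime and S a Sylow ℓ-subgroup of SL₂ over F with normaliser N. Then SL₂ and N have the same number of irreducible complex characters of degree not divisible by ℓ (the McKay equality holds for SL₂ over F at every prime). -/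
theorem result {F : Type*} [Field F] [Fintype F] (hodd : Odd (Fintype.card F)) (ℓ : ℕ) [Fact ℓ.Prime] (S : Sylow ℓ (Matrix.SpecialLinearGroup (Fin 2) F)) :
    Nat.card {χ : Cfsg.IrrCharacter (Matrix.SpecialLinearGroup (Fin 2) F) // ¬ ℓ ∣ Cfsg.charDegree (χ : Matrix.SpecialLinearGroup (Fin 2) F → ℂ)} =
      Nat.card {ψ : Cfsg.IrrCharacter (Subgroup.normalizer ((S : Subgroup (Matrix.SpecialLinearGroup (Fin 2) F)) : Set (Matrix.SpecialLinearGroup (Fin 2) F))) //
        ¬ ℓ ∣ Cfsg.charDegree (ψ : Subgroup.normalizer ((S : Subgroup (Matrix.SpecialLinearGroup (Fin 2) F)) : Set (Matrix.SpecialLinearGroup (Fin 2) F)) → ℂ)} := by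
  classical
  change irrCount _ (fun d => ¬ ℓ ∣ d) = irrCount _ (fun d => ¬ ℓ ∣ d)
  have hL := card_irr_filter (F := F) hodd (fun d => ¬ ℓ ∣ d)
  rw [show irrCount (Matrix.SpecialLinearGroup (Fin 2) F) (fun d => ¬ ℓ ∣ d) = _ from hL]
  have h3 := three_le_card hodd
  have hℓ : ℓ.Prime := Fact.out
  set q := Fintype.card F with hq
  obtain ⟨k, hk⟩ := hodd
  have hodd' : Odd (Fintype.card F) := ⟨k, hk⟩
  have hG : Nat.card (Matrix.SpecialLinearGroup (Fin 2) F) = q * ((q - 1) * (q + 1)) := by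
    rw [card_SS_nat, ← hq, show q ^ 2 - 1 = q ^ 2 - 1 ^ 2 by rw [one_pow], Nat.sq_sub_sq,
      mul_comm (q + 1)]
  have hv : ∀ l : ℕ, (Nat.card (Matrix.SpecialLinearGroup (Fin 2) F)).factorization l =
      q.factorization l + (q - 1).factorization l + (q + 1).factorization l := fun l => by
    rw [hG, Nat.factorization_mul (by omega) (Nat.mul_pos (by omega) (by omega)).ne',
      Nat.factorization_mul (by omega) (by omega), Finsupp.add_apply, Finsupp.add_apply]
    ring
  have h0 : ∀ {n : ℕ}, ¬ ℓ ∣ n → n.factorization ℓ = 0 := fun h => Nat.factorization_eq_zero_of_not_dvd h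
  obtain ⟨p, hp⟩ := CharP.exists F
  obtain ⟨n, hpp, hn⟩ := FiniteField.card F p
  haveI : Fact p.Prime := ⟨hpp⟩
  have hone : ¬ ℓ ∣ 1 := hℓ.not_dvd_one
  have hdiv : ∀ {x y : ℕ}, ℓ ∣ x → ℓ ∣ y → y ≤ x → ¬ ℓ ∣ x - y → False := fun hx hy _ h =>
    h (Nat.dvd_sub hx hy)
  by_cases hlq : ℓ ∣ q
  · -- the defining characteristic
    obtain rfl : ℓ = p := (Nat.prime_dvd_prime_iff_eq hℓ hpp).1 (hℓ.dvd_of_dvd_pow (by rwa [← hn]))
    have h1 : ¬ ℓ ∣ q + 1 := fun h => hone ((Nat.dvd_add_right hlq).1 h)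
    have h2 : ¬ ℓ ∣ q - 1 := fun h => hone (by
      have := Nat.dvd_sub hlq h
      rwa [Nat.sub_sub_self (by omega : 1 ≤ q)] at this)
    have h4 : ¬ ℓ ∣ (q + 1) / 2 := fun h => h1 (by
      rw [show q + 1 = (q + 1) / 2 * 2 by omega]; exact dvd_mul_of_dvd_left h 2)
    have h5 : ¬ ℓ ∣ (q - 1) / 2 := fun h => h2 (by
      rw [show q - 1 = (q - 1) / 2 * 2 by omega]; exact dvd_mul_of_dvd_left h 2)
    simp only [hone, hlq, h1, h2, h4, h5, not_true_eq_false, not_false_eq_true, if_true, if_false]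
    have hU : Nat.card (uT (F := F)).range =
        ℓ ^ (Nat.card (Matrix.SpecialLinearGroup (Fin 2) F)).factorization ℓ := by
      rw [card_uRange, hv, h0 h1, h0 h2, add_zero, add_zero, hq, hn, hℓ.factorization_pow,
        Finsupp.single_eq_same]
    rw [irrCount_normalizer S _ hU, irrCount_congr (MulEquiv.subgroupCongr normalizer_uRange),
      irrCount_all fun χ h => h2 (h.trans (borel_degree χ)), borel_classes hodd', ← hq]
    omega
  by_cases hl2 : ℓ = 2
  · -- the prime two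
    subst hl2
    have e1 : 2 ∣ q + 1 := ⟨k + 1, by omega⟩
    have e2 : 2 ∣ q - 1 := ⟨k, by omega⟩
    have hv2 := hv 2
    rw [h0 hlq, zero_add] at hv2
    have hfac : ∀ {x : ℕ}, 2 ∣ x → ¬ 4 ∣ x → x.factorization 2 = 1 := fun {x} hx hx4 => by
      have hx0 : x ≠ 0 := fun e => hx4 (e ▸ dvd_zero 4)
      have a1 := (Nat.Prime.pow_dvd_iff_le_factorization (k := 1) Nat.prime_two hx0).1 (by simpa using hx)
      have a2 := (Nat.Prime.pow_dvd_iff_le_factorization (k := 2) Nat.prime_two hx0).not.1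
        (by simpa using hx4)
      omega
    simp only [hone, hlq, e1, e2, not_true_eq_false, not_false_eq_true, if_true, if_false]
    rcases Nat.even_or_odd k with ⟨j, hj⟩ | ⟨j, hj⟩
    · rw [if_pos (by omega), if_neg (not_not.2 ⟨j, by omega⟩),
        (isTorus_diS hodd' (by omega)).mckay_two hodd' ⟨j, by omega⟩ ?_ S]
      rw [hv2, ← hq, hfac e1 (by omega), show 2 * ((q - 1) / 2) = q - 1 by omega]
    · obtain ⟨K, _, _, _, _, hK⟩ := exists_model F
      rw [if_neg (not_not.2 ⟨j + 1, by omega⟩), if_pos (by omega),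
        (isTorus_ellS K hK hodd').mckay_two hodd' ⟨j + 1, by omega⟩ ?_ S]
      rw [hv2, ← hq, hfac e2 (by omega), show 2 * ((q + 1) / 2) = q + 1 by omega]
      ring
  have htwo : ¬ ℓ ∣ 2 := fun h => hl2 ((Nat.prime_dvd_prime_iff_eq hℓ Nat.prime_two).1 h)
  have hhalf : ∀ {x : ℕ}, 2 ∣ x → ℓ ∣ x → ℓ ∣ x / 2 := fun hx h => by
    rw [← Nat.div_mul_cancel hx] at h
    exact (hℓ.dvd_mul.1 h).resolve_right htwo
  by_cases hm : ℓ ∣ q - 1
  · have h1 : ¬ ℓ ∣ q + 1 := fun h => htwo (by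
      have := Nat.dvd_sub h hm
      rwa [show q + 1 - (q - 1) = 2 by omega] at this)
    have h4 : ¬ ℓ ∣ (q + 1) / 2 := fun h => h1 (by
      rw [show q + 1 = (q + 1) / 2 * 2 by omega]; exact dvd_mul_of_dvd_left h 2)
    have h5 : ℓ ∣ (q - 1) / 2 := hhalf ⟨k, by omega⟩ hm
    have h5' : 5 ≤ q := by
      have := Nat.le_of_dvd (by omega) hm
      have := hℓ.two_le
      omega
    simp only [hone, hlq, h1, hm, h4, h5, not_true_eq_false, not_false_eq_true, if_true, if_false]
    rw [(isTorus_diS hodd' h5').mckay_odd hl2 (by rw [← hq]; exact hm.trans (dvd_of_eq (by omega)))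
      (by rw [hv, ← hq, h0 hlq, h0 h1, show 2 * ((q - 1) / 2) = q - 1 by omega]; omega) S]
    omega
  by_cases hp' : ℓ ∣ q + 1
  · have h4 : ℓ ∣ (q + 1) / 2 := hhalf ⟨k + 1, by omega⟩ hp'
    have h5 : ¬ ℓ ∣ (q - 1) / 2 := fun h => hm (by
      rw [show q - 1 = (q - 1) / 2 * 2 by omega]; exact dvd_mul_of_dvd_left h 2)
    obtain ⟨K, _, _, _, _, hK⟩ := exists_model F
    simp only [hone, hlq, hp', hm, h4, h5, not_true_eq_false, not_false_eq_true, if_true, if_false]
    rw [(isTorus_ellS K hK hodd').mckay_odd hl2 (by rw [← hq]; exact hp'.trans (dvd_of_eq (by omega)))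
      (by rw [hv, ← hq, h0 hlq, h0 hm, show 2 * ((q + 1) / 2) = q + 1 by omega]; omega) S]
    omega
  · -- trivial Sylow subgroup
    have hS : (S : Subgroup (Matrix.SpecialLinearGroup (Fin 2) F)) = ⊥ := by
      apply Subgroup.eq_bot_of_card_eq
      rw [Sylow.card_eq_multiplicity, hv, h0 hlq, h0 hm, h0 hp']
      rfl
    have hN : Subgroup.normalizer ((S : Subgroup (Matrix.SpecialLinearGroup (Fin 2) F)) :
        Set (Matrix.SpecialLinearGroup (Fin 2) F)) = ⊤ := by
      rw [hS]; exact Subgroup.normalizer_eq_top_iff.2 inferInstance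
    rw [irrCount_congr ((MulEquiv.subgroupCongr hN).trans Subgroup.topEquiv)]
    exact hL.symm

end Cfsg.Agent.S2436
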