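import Cfsg.Statements.S2437
import Mathlib
-- import your own Cfsg.Agent.* helpers here

set_option autoImplicit false
open Cfsg

namespace Cfsg.Agent.S2437

/-- Over a finite field F with q elements, q odd, the upper triangular subgroup of SL₂ (a Borel subgroup, of order q(q − 1)) has exactly q + 3 conjugacy classes. -/
theorem result {F : Type*} [Field F] [Fintype F] (hodd : Odd (Fintype.card F)) :
    Nat.card (ConjClasses ((Cfsg.upperTriangularGL 2 F).comap Matrix.SpecialLinearGroup.toGL)) = Fintype.card F + 3 := by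
  classical
  set B := (upperTriangularGL 2 F).comap Matrix.SpecialLinearGroup.toGL
  have hmem : ∀ g : Matrix.SpecialLinearGroup (Fin 2) F, g ∈ B ↔ g.1 1 0 = 0 := fun g => by
    show g.1.BlockTriangular id ↔ _
    constructor
    · intro h; exact h (show id (0 : Fin 2) < id 1 by decide)
    · intro h i j hij
      fin_cases i <;> fin_cases j <;> simp_all
  let mk : Fˣ × F → B := fun p => ⟨⟨!![(p.1 : F), p.2; 0, ((p.1⁻¹ : Fˣ) : F)], by simp [Matrix.det_fin_two]⟩,
    (hmem _).mpr (by simp)⟩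
  have hmk : Function.Bijective mk := by
    constructor
    · intro p q h
      have h0 := congrArg (fun g : B => g.1.1 0 0) h
      have h1 := congrArg (fun g : B => g.1.1 0 1) h
      simp [mk] at h0 h1
      exact Prod.ext (Units.ext h0) h1
    · intro g
      have h10 := (hmem _).mp g.2
      have hd := g.1.2
      rw [Matrix.det_fin_two, h10, mul_zero, sub_zero] at hd
      refine ⟨(Units.mk0 _ (left_ne_zero_of_mul_eq_one hd), g.1.1 0 1), Subtype.ext (Subtype.ext ?_)⟩
      ext i j
      fin_cases i <;> fin_cases j <;> simp [mk, h10]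
      exact (eq_inv_of_mul_eq_one_right hd).symm
  let e : Fˣ × F ≃ B := Equiv.ofBijective mk hmk
  let δ : Fˣ → F := fun a => (a : F) - ((a⁻¹ : Fˣ) : F)
  have hcom : ∀ p q : Fˣ × F, Commute (mk p) (mk q) ↔ p.2 * δ q.1 = q.2 * δ p.1 := by
    intro p q
    constructor
    · intro h
      have h1 : ((mk p).1.1 * (mk q).1.1) 0 1 = ((mk q).1.1 * (mk p).1.1) 0 1 := congrArg (fun g : B => g.1.1 0 1) h.eq
      simp [mk, Matrix.mul_apply, Fin.sum_univ_two] at h1
      simp only [δ, Units.val_inv_eq_inv_val]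
      linear_combination -h1
    · intro h
      refine Subtype.ext (Subtype.ext ?_)
      show (mk p).1.1 * (mk q).1.1 = (mk q).1.1 * (mk p).1.1
      ext i j
      simp only [δ, Units.val_inv_eq_inv_val] at h
      fin_cases i <;> fin_cases j <;> simp [mk, Matrix.mul_apply, Fin.sum_univ_two]
      all_goals first | ring1 | linear_combination -h
  set q := Fintype.card F with hq
  have hsol : ∀ α β : F, Nat.card {v : F × F // v.1 * β = v.2 * α} = if α = 0 ∧ β = 0 then q * q else q := by
    intro α β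
    split_ifs with h
    · rw [Nat.card_congr (Equiv.subtypeUnivEquiv (fun v => by rw [h.1, h.2, mul_zero, mul_zero])), Nat.card_prod,
        Nat.card_eq_fintype_card]
    · rw [← Nat.card_eq_fintype_card (α := F)] at hq
      rw [hq]
      by_cases hb : β = 0
      · have ha : α ≠ 0 := fun ha => h ⟨ha, hb⟩
        refine Nat.card_congr ⟨fun v => v.1.1, fun x => ⟨(x, x * β / α), by simp [hb]⟩, fun v => ?_, fun x => rfl⟩
        refine Subtype.ext (Prod.ext rfl ?_)
        show v.1.1 * β / α = v.1.2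
        rw [v.2, mul_div_cancel_right₀ _ ha]
      · refine Nat.card_congr ⟨fun v => v.1.2, fun y => ⟨(y * α / β, y), by simp [hb]⟩, fun v => ?_, fun y => rfl⟩
        refine Subtype.ext (Prod.ext ?_ rfl)
        show v.1.2 * α / β = v.1.1
        rw [← v.2, mul_div_cancel_right₀ _ hb]
  have hδ : ∀ a : Fˣ, δ a = 0 ↔ a = 1 ∨ a = -1 := by
    intro a
    simp only [δ, sub_eq_zero, Units.val_inv_eq_inv_val]
    rw [← mul_eq_one_iff_eq_inv₀ a.ne_zero, mul_self_eq_one_iff]
    rw [Units.ext_iff, Units.ext_iff, Units.val_one, Units.val_neg, Units.val_one]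
  have hq3 : 3 ≤ q := by
    have := Fintype.one_lt_card (α := F)
    obtain ⟨k, hk⟩ := hodd
    omega
  have hne : (1 : Fˣ) ≠ -1 := by
    intro h
    have h2 : ringChar F ≠ 2 := fun h2 => by
      have := FiniteField.even_card_of_char_two h2
      exact (Nat.not_even_iff_odd.mpr hodd) (Nat.even_iff.mpr this)
    exact Ring.neg_one_ne_one_of_char_ne_two h2 (by simpa using (congrArg Units.val h).symm)
  -- count commuting pairs
  let e2 : {p : (Fˣ × F) × (Fˣ × F) // p.1.2 * δ p.2.1 = p.2.2 * δ p.1.1} ≃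
      Σ ab : Fˣ × Fˣ, {v : F × F // v.1 * δ ab.2 = v.2 * δ ab.1} :=
    { toFun := fun p => ⟨(p.1.1.1, p.1.2.1), ⟨(p.1.1.2, p.1.2.2), p.2⟩⟩
      invFun := fun s => ⟨((s.1.1, s.2.1.1), (s.1.2, s.2.1.2)), s.2.2⟩
      left_inv := fun p => rfl
      right_inv := fun s => rfl }
  have hpairs : Nat.card {p : B × B // Commute p.1 p.2} = 4 * (q * q) + ((q - 1) * (q - 1) - 4) * q := by
    rw [← Nat.card_congr ((e.prodCongr e).subtypeEquiv (p := fun p => p.1.2 * δ p.2.1 = p.2.2 * δ p.1.1)
      (fun p => (hcom p.1 p.2).symm)), Nat.card_congr e2, Nat.card_sigma]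
    simp only [hsol]
    rw [Finset.sum_ite, Finset.sum_const, Finset.sum_const, smul_eq_mul, smul_eq_mul]
    have hs : (Finset.univ.filter fun ab : Fˣ × Fˣ => δ ab.1 = 0 ∧ δ ab.2 = 0) =
        ({1, -1} : Finset Fˣ) ×ˢ ({1, -1} : Finset Fˣ) := by
      ext ⟨a, b⟩; simp [hδ]
    have h4 : ((({1, -1} : Finset Fˣ) ×ˢ ({1, -1} : Finset Fˣ))).card = 4 := by
      rw [Finset.card_product, Finset.card_pair hne]
    have hsum := Finset.card_filter_add_card_filter_not (s := (Finset.univ : Finset (Fˣ × Fˣ)))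
      (fun ab => δ ab.1 = 0 ∧ δ ab.2 = 0)
    rw [hs, h4, Finset.card_univ, Fintype.card_prod, Fintype.card_units, ← hq] at hsum
    rw [hs, h4, show (Finset.univ.filter fun ab : Fˣ × Fˣ => ¬(δ ab.1 = 0 ∧ δ ab.2 = 0)).card = (q - 1) * (q - 1) - 4 by omega]
  have hB : Nat.card B = (q - 1) * q := by
    rw [← Nat.card_congr e, Nat.card_prod, Nat.card_units, Nat.card_eq_fintype_card]
  have h := card_comm_eq_card_conjClasses_mul_card B
  rw [hpairs, hB] at h
  obtain ⟨r, hr⟩ : ∃ r, q = r + 3 := ⟨q - 3, by omega⟩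
  rw [hr] at h ⊢
  obtain ⟨w, hw⟩ : ∃ w, (r + 3 - 1) * (r + 3 - 1) - 4 = w ∧ w + 4 = (r + 2) * (r + 2) := by
    refine ⟨_, rfl, ?_⟩
    rw [show r + 3 - 1 = r + 2 by omega]
    exact Nat.sub_add_cancel (by nlinarith)
  rw [hw.1, show r + 3 - 1 = r + 2 by omega] at h
  have key : Nat.card (ConjClasses B) * ((r + 2) * (r + 3)) = (r + 3 + 3) * ((r + 2) * (r + 3)) := by nlinarith [hw.2]
  exact Nat.eq_of_mul_eq_mul_right (by positivity) key

end Cfsg.Agent.S2437
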