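import Cfsg.Statements.S2439
import Cfsg.Agent.Lib.Block.SL2Char.SLBlocks
-- import your own Cfsg.Agent.* helpers here

set_option autoImplicit false
open Cfsg

namespace Cfsg.Agent.S2439

open Cfsg.Agent.Block Cfsg.Agent.Block.SL2Char

/-- Let F be a finite field with q elements of odd characteristic p, and M a maximal ideal of the algebraic integers containing p. Then SL₂ over F has exactly three p-blocks relative to M: the irreducible character of degree q (the Steinberg character) alone; the other irreducible characters taking the same value at −1 as at 1 (the principal block); and the irreducible characters χ with χ(−1) = −χ(1). Every Sylow p-subgroup is a defect group of each of the last two blocks. -/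
theorem result {F : Type*} [Field F] [Fintype F] (p : ℕ) [Fact p.Prime] [CharP F p] (hp : p ≠ 2)
    (M : Ideal Cfsg.AlgInt) (hM : Cfsg.IsPModular p M) :
    (∀ B : Set (Cfsg.IrrCharacter (Matrix.SpecialLinearGroup (Fin 2) F)), Cfsg.IsPBlock M B ↔
      (B = {χ : Cfsg.IrrCharacter (Matrix.SpecialLinearGroup (Fin 2) F) | (χ : Matrix.SpecialLinearGroup (Fin 2) F → ℂ) 1 = (Fintype.card F : ℂ)} ∨
       B = {χ : Cfsg.IrrCharacter (Matrix.SpecialLinearGroup (Fin 2) F) | (χ : Matrix.SpecialLinearGroup (Fin 2) F → ℂ) (-1) = (χ : Matrix.SpecialLinearGroup (Fin 2) F → ℂ) 1 ∧ (χ : Matrix.SpecialLinearGroup (Fin 2) F → ℂ) 1 ≠ (Fintype.card F : ℂ)} ∨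
       B = {χ : Cfsg.IrrCharacter (Matrix.SpecialLinearGroup (Fin 2) F) | (χ : Matrix.SpecialLinearGroup (Fin 2) F → ℂ) (-1) = -(χ : Matrix.SpecialLinearGroup (Fin 2) F → ℂ) 1})) ∧
    Nat.card {B : Set (Cfsg.IrrCharacter (Matrix.SpecialLinearGroup (Fin 2) F)) // Cfsg.IsPBlock M B} = 3 ∧
    ∀ P : Sylow p (Matrix.SpecialLinearGroup (Fin 2) F),
      Cfsg.IsDefectGroup p M {χ : Cfsg.IrrCharacter (Matrix.SpecialLinearGroup (Fin 2) F) | (χ : Matrix.SpecialLinearGroup (Fin 2) F → ℂ) (-1) = (χ : Matrix.SpecialLinearGroup (Fin 2) F → ℂ) 1 ∧ (χ : Matrix.SpecialLinearGroup (Fin 2) F → ℂ) 1 ≠ (Fintype.card F : ℂ)} (P : Subgroup (Matrix.SpecialLinearGroup (Fin 2) F)) ∧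
      Cfsg.IsDefectGroup p M {χ : Cfsg.IrrCharacter (Matrix.SpecialLinearGroup (Fin 2) F) | (χ : Matrix.SpecialLinearGroup (Fin 2) F → ℂ) (-1) = -(χ : Matrix.SpecialLinearGroup (Fin 2) F → ℂ) 1} (P : Subgroup (Matrix.SpecialLinearGroup (Fin 2) F)) := by
  classical
  have hodd := odd_of_char (F := F) hp
  obtain ⟨⟨a, ha⟩, ⟨b, hb⟩, ⟨c, hc⟩⟩ := exists_members (F := F) hodd
  have hblocks : ∀ B : Set (Cfsg.IrrCharacter (Matrix.SpecialLinearGroup (Fin 2) F)),
      Cfsg.IsPBlock M B ↔ (B = stB F ∨ B = evB F ∨ B = odB F) := by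
    intro B
    refine ⟨fun ⟨χ, hχ⟩ => ?_, ?_⟩
    · subst hχ
      by_cases hq : χ ∈ stB F
      · exact Or.inl ((blockOf_eq_cases hM hp χ).1 hq)
      · rcases sign_cases χ with e | e
        · exact Or.inr (Or.inl ((blockOf_eq_cases hM hp χ).2.1 ⟨e, hq⟩))
        · exact Or.inr (Or.inr ((blockOf_eq_cases hM hp χ).2.2 e))
    · rintro (rfl | rfl | rfl)
      · exact ⟨a, ((blockOf_eq_cases hM hp a).1 ha).symm⟩
      · exact ⟨b, ((blockOf_eq_cases hM hp b).2.1 hb).symm⟩
      · exact ⟨c, ((blockOf_eq_cases hM hp c).2.2 hc).symm⟩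
  refine ⟨hblocks, ?_, fun P => defect_Sylow hM hp P⟩
  rw [Nat.subtype_card ({stB F, evB F, odB F} :
    Finset (Set (Cfsg.IrrCharacter (Matrix.SpecialLinearGroup (Fin 2) F))))
    (fun B => by simp [hblocks B])]
  have h1 : stB F ≠ evB F := fun e => ((e ▸ ha : a ∈ evB F)).2 ha
  have h2 : stB F ≠ odB F := fun e => not_deg_q_of_neg (e ▸ ha : a ∈ odB F) ha
  have h3 : evB F ≠ odB F := fun e => irr_one_ne_zero b
    (eq_zero_of_eq_neg (hb.1.symm.trans (e ▸ hb : b ∈ odB F)))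
  rw [Finset.card_insert_of_notMem (by simp [h1, h2]), Finset.card_pair h3]

end Cfsg.Agent.S2439
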