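import Cfsg.Statements.S2440
import Cfsg.Agent.Lib.Classical.SLBlocks

set_option autoImplicit false
open Cfsg Cfsg.Agent.Classical

namespace Cfsg.Agent.S2440

/-- For a prime p and n ≥ 2, the group SL_n over the field with p elements has exactly gcd(n, p − 1) + 1 p-blocks relative to any maximal ideal of the algebraic integers containing p, that is, one more than the order of its centre (only this total is asserted; it arises as the defect-zero block of the Steinberg character plus as many blocks of maximal defect as the order of the centre). -/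
theorem result (p : ℕ) [Fact p.Prime] (n : ℕ) (hn : 2 ≤ n) (M : Ideal Cfsg.AlgInt) (hM : Cfsg.IsPModular p M) :
    Nat.card {B : Set (Cfsg.IrrCharacter (Matrix.SpecialLinearGroup (Fin n) (ZMod p))) // Cfsg.IsPBlock M B} =
      Nat.gcd n (p - 1) + 1 := by
  haveI : NeZero p := ⟨(Fact.out : p.Prime).ne_zero⟩
  have hn0 : 0 < n := by omega
  obtain ⟨m, rfl⟩ : ∃ m, n = m + 1 := ⟨n - 1, by omega⟩
  obtain ⟨χ, hχ⟩ := SLBlocks.exists_full (K := ZMod p) (p := p) hn0
  let P : Sylow p (Matrix.SpecialLinearGroup (Fin (m + 1)) (ZMod p)) := Classical.arbitrary _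
  have hP : (P : Subgroup (Matrix.SpecialLinearGroup (Fin (m + 1)) (ZMod p))) ≠ ⊥ := by
    refine P.ne_bot_of_dvd_card ?_
    have h01 : (⟨0, by omega⟩ : Fin (m + 1)) ≠ ⟨1, by omega⟩ := by simp
    have ho : orderOf (Matrix.SpecialLinearGroup.transvection h01 (1 : ZMod p)) = p := by
      refine orderOf_eq_prime ?_ ?_
      · simpa using Cfsg.Agent.Fus.PSLN.transvection_pow_char (p := p) h01 (1 : ZMod p)
      · intro h
        have h2 := congrArg (fun g : Matrix.SpecialLinearGroup (Fin (m + 1)) (ZMod p) =>
          g.1 ⟨0, by omega⟩ ⟨1, by omega⟩) h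
        simp [Matrix.SpecialLinearGroup.transvection_coe, Matrix.one_apply_ne h01] at h2
    exact (dvd_of_eq ho.symm).trans (orderOf_dvd_natCard _)
  have hcount := BlockCount.card_blocks hM P hP (Subgroup.center (Matrix.SpecialLinearGroup (Fin (m + 1)) (ZMod p)))
    le_rfl (fun z hz => SLBlocks.not_dvd_orderOf_center Fact.out hn0 hz)
    (fun D hD hD1 hrad y hy hyD => SLBlocks.centralizer_radical hn0 hD hD1 hrad hy hyD) hχ
    (fun B B' hB hB' hD hD' => by
      classical
      haveI : Fintype (Matrix.SpecialLinearGroup (Fin (m + 1)) (ZMod p)) := Fintype.ofFinite _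
      haveI : Fintype (Cfsg.Agent.Fus.PSLN.unip (ZMod p) (m + 1)) := Fintype.ofFinite _
      refine BlockCount.defectZero_unique hM (Cfsg.Agent.Fus.PSLN.unip (ZMod p) (m + 1))
        Cfsg.Agent.Fus.PSLN.isPGroup_unip BigCell.Big (fun g hg => BigCell.big_of_free hg) ?_ hB hB' hD hD'
      letI : Field (Cfsg.Agent.Block.ResField hM) := Cfsg.Agent.Block.resInst hM
      haveI := Cfsg.Agent.Block.resField_charP hM
      intro φ hr hl hs z hz g g' hg hg'
      exact BigCell.kernel_const p φ hr hl hs z hz g g' hg hg')
  rw [hcount, natCard_center_SL, max_eq_left (by omega), natCard_units_field, ZMod.card]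

end Cfsg.Agent.S2440
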