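import Cfsg.Statements.S2444
import Cfsg.Agent.Lib.Classical.CommutatorBlocks
-- import your own Cfsg.Agent.* helpers here

set_option autoImplicit false
open Cfsg

namespace Cfsg.Agent.S2444

/-- In the special linear group SL(n,F) over a finite field F, with n ≥ 2 and (n, |F|) not (2,2) or (2,3), every element is a commutator a·b·a⁻¹·b⁻¹ of two elements of SL(n,F). -/
theorem result {F : Type*} [Field F] [Fintype F] (n : ℕ) (hn : 2 ≤ n) (hex : n = 2 → 4 ≤ Fintype.card F) :
    ∀ g : Matrix.SpecialLinearGroup (Fin n) F, ∃ a b : Matrix.SpecialLinearGroup (Fin n) F, g = a * b * a⁻¹ * b⁻¹ := by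
  intro g
  set e := Matrix.toLinAlgEquiv' (R := F) (n := Fin n) with he
  have hdet : ∀ M : Matrix (Fin n) (Fin n) F, LinearMap.det (e M) = M.det := fun M => LinearMap.det_toLin' M
  obtain ⟨a, b, ha, hb, hab⟩ := Cfsg.Agent.Classical.CommutatorSL.isComm_all (e (g : Matrix (Fin n) (Fin n) F))
    (by rw [hdet]; exact g.2) (by simpa using hn) (by simpa [Nat.card_eq_fintype_card] using hex)
  have ha' : (e.symm a).det = 1 := by rw [← hdet, AlgEquiv.apply_symm_apply, ha]
  have hb' : (e.symm b).det = 1 := by rw [← hdet, AlgEquiv.apply_symm_apply, hb]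
  refine ⟨⟨e.symm b, hb'⟩, ⟨e.symm a, ha'⟩, ?_⟩
  set A : Matrix.SpecialLinearGroup (Fin n) F := ⟨e.symm a, ha'⟩
  set B : Matrix.SpecialLinearGroup (Fin n) F := ⟨e.symm b, hb'⟩
  have h : g * (A * B) = B * A := Subtype.ext (by
    show (g : Matrix (Fin n) (Fin n) F) * (e.symm a * e.symm b) = e.symm b * e.symm a
    simpa using congrArg e.symm hab)
  have h' : g = B * A * (A * B)⁻¹ := eq_mul_inv_of_mul_eq h
  rw [h', mul_inv_rev, ← mul_assoc]

end Cfsg.Agent.S2444
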