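import Cfsg.Statements.S2456
import Cfsg.Agent.Lib.Classical.DicksonClassProduct
-- import your own Cfsg.Agent.* helpers here

set_option autoImplicit false
open Cfsg

namespace Cfsg.Agent.S2456
open Matrix Cfsg.Agent.Grp.SL2 Cfsg.Agent.PSL2Spec Cfsg.Agent.Dickson Cfsg.Agent.Dickson.ClassProd

/-- A strong covering result in the direction of Thompson's conjecture (non-identity elements) for PSL(2,q), q even: let F be a finite field of characteristic 2 with q ≥ 4 elements and let x ∈ PSL(2,F) have order greater than 2 and not dividing q + 1. Then every non-identity element of PSL(2,F) is a product of two conjugates of x. -/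
theorem result {F : Type*} [Field F] [Fintype F] [CharP F 2] (h4 : 4 ≤ Fintype.card F)
    (x : Matrix.ProjectiveSpecialLinearGroup (Fin 2) F) (hx2 : 2 < orderOf x) (hxq : ¬ orderOf x ∣ Fintype.card F + 1) : ∀ g : Matrix.ProjectiveSpecialLinearGroup (Fin 2) F, g ≠ 1 → ∃ u v : Matrix.ProjectiveSpecialLinearGroup (Fin 2) F, g = (u * x * u⁻¹) * (v * x * v⁻¹) := by
  haveI : Fact (Nat.Prime 2) := ⟨Nat.prime_two⟩
  obtain ⟨X, rfl⟩ := proj_surjective x
  obtain ⟨u, hu⟩ := exists_eigen hx2 hxq
  have hd : orderOf (proj X) ∣ Fintype.card F - 1 := by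
    have hx1 : proj X ≠ 1 := fun e => by rw [e, orderOf_one] at hx2; omega
    have hxp : proj X ^ 2 ≠ 1 := fun e => by
      have := Nat.le_of_dvd (by norm_num) (orderOf_dvd_of_pow_eq_one e)
      omega
    have hd : orderOf (proj X) ∣ Nat.card (tor (proj X)) :=
      Subgroup.orderOf_dvd_natCard _ ((pslData (F := F) 2).self (proj X))
    have hdel : del F = 1 := by
      refine ((del_cases F).resolve_right fun h => ?_).1
      obtain ⟨n, -, hn⟩ := FiniteField.card F 2
      rw [hn] at h
      exact (Nat.not_even_iff_odd.mpr h.2) (Nat.even_pow.mpr ⟨even_two, n.pos.ne'⟩)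
    rcases card_tor_semi 2 hx1 hxp with e | e <;> rw [e, hdel, Nat.div_one] at hd
    · exact hd
    · exact absurd hd hxq
  have hn2 : ¬ 2 ∣ orderOf (proj X) := fun h => by
    obtain ⟨n, -, hn⟩ := FiniteField.card F 2
    have h1 : 2 ∣ Fintype.card F - 1 := h.trans hd
    have h2 : 2 ∣ Fintype.card F := by rw [hn]; exact dvd_pow_self 2 n.pos.ne'
    omega
  obtain ⟨h0, h4'⟩ := cover_of_order (p := 2) hx2 hn2 rfl
  exact cover h0 h4' fun _ => ⟨u, hu⟩

end Cfsg.Agent.S2456
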