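import Cfsg.Statements.S2466
import Mathlib
import Cfsg.Agent.Lib.Alt.OrderSpectrum
-- import your own Cfsg.Agent.* helpers here

set_option autoImplicit false
open Cfsg

namespace Cfsg.Agent.S2466

/-- Adjacency of odd primes in the prime graph of the alternating groups: let r ≠ s be odd primes at most n. The alternating group of degree n has an element of order r·s if and only if r + s ≤ n. -/
theorem result (n r s : ℕ) (hr : r.Prime) (hs : s.Prime) (hr2 : r ≠ 2) (hs2 : s ≠ 2) (hrs : r ≠ s) (hrn : r ≤ n) (hsn : s ≤ n) :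
    (r * s ∈ Set.range (orderOf : alternatingGroup (Fin n) → ℕ)) ↔ r + s ≤ n := by
  constructor
  · rintro ⟨g, hg⟩
    obtain ⟨h2, hsum, -, ho⟩ := AltSpectrum.cycleType_props g
    rw [hg] at ho
    set m := (g : Equiv.Perm (Fin n)).cycleType with hm
    obtain ⟨a, ha, hra⟩ := AltSpectrum.exists_mem_dvd hr m (ho ▸ dvd_mul_right r s)
    obtain ⟨b, hb, hsb⟩ := AltSpectrum.exists_mem_dvd hs m (ho ▸ dvd_mul_left s r)
    have har := Nat.le_of_dvd (by have := h2 a ha; omega) hra
    have hbs := Nat.le_of_dvd (by have := h2 b hb; omega) hsb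
    rcases eq_or_ne a b with e | e
    · subst e
      have h1 := Nat.le_of_dvd (by have := h2 a ha; omega)
        (((Nat.coprime_primes hr hs).mpr hrs).mul_dvd_of_dvd_of_dvd hra hsb)
      have h3 := Multiset.le_sum_of_mem ha
      have := Nat.add_le_mul hr.two_le hs.two_le
      omega
    · have := AltSpectrum.add_le_sum ha ((Multiset.mem_erase_of_ne e.symm).mpr hb)
      omega
  · intro h
    have h' := AltSpectrum.exists_order_eq n ({r, s} : Multiset ℕ)
      (by simp [hr.two_le, hs.two_le]) (by simpa using h)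
      (by simp; obtain ⟨u, hu⟩ := hr.odd_of_ne_two hr2; obtain ⟨v, hv⟩ := hs.odd_of_ne_two hs2; exact ⟨u + v + 2, by omega⟩)
    simpa [lcm_eq_nat_lcm, ((Nat.coprime_primes hr hs).mpr hrs).lcm_eq_mul] using h'

end Cfsg.Agent.S2466
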