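import Cfsg.Statements.S2467
import Mathlib
import Cfsg.Agent.Lib.Alt.OrderSpectrum
-- import your own Cfsg.Agent.* helpers here

set_option autoImplicit false
open Cfsg

namespace Cfsg.Agent.S2467

/-- Adjacency of 2 and an odd prime in the prime graph of the alternating groups: let r be an odd prime at most n, with n ≥ 4. The alternating group of degree n has an element of order 2r if and only if r + 4 ≤ n. -/
theorem result (n r : ℕ) (hn : 4 ≤ n) (hr : r.Prime) (hr2 : r ≠ 2) (hrn : r ≤ n) :
    (2 * r ∈ Set.range (orderOf : alternatingGroup (Fin n) → ℕ)) ↔ r + 4 ≤ n := by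
  have hr3 : 3 ≤ r := by have := hr.two_le; omega
  constructor
  · rintro ⟨g, hg⟩
    obtain ⟨h2, hsum, he, ho⟩ := AltSpectrum.cycleType_props g
    rw [hg] at ho
    set m := (g : Equiv.Perm (Fin n)).cycleType with hm
    obtain ⟨a, ha, hra⟩ := AltSpectrum.exists_mem_dvd hr m (ho ▸ dvd_mul_left r 2)
    obtain ⟨b, hb, h2b⟩ := AltSpectrum.exists_mem_dvd Nat.prime_two m (ho ▸ dvd_mul_right 2 r)
    obtain ⟨c, hc, hce⟩ := AltSpectrum.exists_second_even hb (even_iff_two_dvd.mpr h2b) he
    have hbc := AltSpectrum.add_le_sum hb hc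
    have hc2 := h2 c (Multiset.mem_of_mem_erase hc)
    have hb2 := h2 b hb
    have har := Nat.le_of_dvd (by have := h2 a ha; omega) hra
    by_cases hae : Even a
    · obtain ⟨d, hd, -⟩ := AltSpectrum.exists_second_even ha hae he
      have := AltSpectrum.add_le_sum ha hd
      have := h2 d (Multiset.mem_of_mem_erase hd)
      have := Nat.le_of_dvd (by have := h2 a ha; omega)
        (((Nat.coprime_primes hr Nat.prime_two).mpr hr2).mul_dvd_of_dvd_of_dvd hra (even_iff_two_dvd.mp hae))
      omega
    · have hab : a ≠ b := fun e => hae (e ▸ even_iff_two_dvd.mpr h2b)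
      have hac : a ≠ c := fun e => hae (e ▸ hce)
      have hma : a ∈ (m.erase b).erase c :=
        (Multiset.mem_erase_of_ne hac).mpr ((Multiset.mem_erase_of_ne hab).mpr ha)
      have h1 : c + a ≤ (m.erase b).sum := AltSpectrum.add_le_sum hc ((Multiset.mem_erase_of_ne hac).mpr ((Multiset.mem_erase_of_ne hab).mpr ha))
      have h3 : b + (m.erase b).sum = m.sum := by rw [← Multiset.sum_cons, Multiset.cons_erase hb]
      omega
  · intro h
    have h' := AltSpectrum.exists_order_eq n ({r, 2, 2} : Multiset ℕ) (by simp [hr.two_le]) (by simp; omega)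
      (by simp; obtain ⟨u, hu⟩ := hr.odd_of_ne_two hr2; exact ⟨u + 4, by omega⟩)
    simpa [lcm_eq_nat_lcm, ((Nat.coprime_primes hr Nat.prime_two).mpr hr2).lcm_eq_mul, mul_comm] using h'

end Cfsg.Agent.S2467
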