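import Cfsg.Statements.S2471
import Mathlib
import Cfsg.Agent.Lib.Recog.PSLTwoSpectrum
-- import your own Cfsg.Agent.* helpers here

set_option autoImplicit false
open Cfsg

namespace Cfsg.Agent.S2471

/-- In PSL(2,q) with q odd, the characteristic p is isolated from 2 in the prime graph: for F a finite field of odd characteristic p with at least 5 elements, PSL(2,F) has no element of order 2p. -/
theorem result {F : Type*} [Field F] [Fintype F] (p : ℕ) [Fact p.Prime] [CharP F p] (hp : p ≠ 2) (h5 : 5 ≤ Fintype.card F) (g : Matrix.ProjectiveSpecialLinearGroup (Fin 2) F) :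
    orderOf g ≠ 2 * p := by
  intro h
  have hp2 : 2 ≤ p := (Fact.out : p.Prime).two_le
  have hpq : p ∣ Fintype.card F := by
    obtain ⟨f, -, hf⟩ := FiniteField.card F p
    exact hf ▸ dvd_pow_self p f.ne_zero
  rcases PSL2Spec.order_dvd p g with h1 | h1 | h1 <;> rw [h] at h1
  · have := Nat.le_of_dvd (by omega) h1; omega
  · have h2 : p ∣ Fintype.card F - 1 := ((dvd_mul_left p 2).trans h1).trans (Nat.div_dvd_of_dvd PSL2Spec.dd_dvd.1)
    have h3 := Nat.dvd_sub hpq h2
    rw [show Fintype.card F - (Fintype.card F - 1) = 1 by omega] at h3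
    exact (Fact.out : p.Prime).not_dvd_one h3
  · have h2 : p ∣ Fintype.card F + 1 := ((dvd_mul_left p 2).trans h1).trans (Nat.div_dvd_of_dvd PSL2Spec.dd_dvd.2)
    exact (Fact.out : p.Prime).not_dvd_one ((Nat.dvd_add_right hpq).mp h2)

end Cfsg.Agent.S2471
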