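import Cfsg.Statements.S2474
import Cfsg.Agent.Lib.Classical.PrimeGraphBCFull
-- import your own Cfsg.Agent.* helpers here

set_option autoImplicit false
open Cfsg

namespace Cfsg.Agent.S2474

/-- For q odd and n ≥ 3 the simple groups PΩ(2n+1,q) and PSp(2n,q) (which have the same order but different sets of element orders) have the same prime graph: for all distinct primes r, s, one of them has an element of order r·s if and only if the other does. -/
theorem result {F : Type*} [Field F] [Fintype F] (hodd : Odd (Fintype.card F)) (n : ℕ) (hn : 3 ≤ n) (r s : ℕ) (hr : r.Prime) (hs : s.Prime) (hrs : r ≠ s) :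
    (r * s ∈ Set.range (orderOf : Cfsg.POmega F (Cfsg.quadFormOdd n F) → ℕ)) ↔ (r * s ∈ Set.range (orderOf : Cfsg.PSp n F → ℕ)) := by
  classical
  obtain ⟨p, hp⟩ := CharP.exists F
  haveI := hp
  haveI : Fact p.Prime := ⟨CharP.char_is_prime F p⟩
  have h2 : (2 : F) ≠ 0 := fun h => by
    have h22 : p = 2 := ((Nat.prime_dvd_prime_iff_eq (Fact.out : p.Prime) Nat.prime_two).1
      ((CharP.cast_eq_zero_iff F p 2).1 (by exact_mod_cast h)))
    obtain ⟨j, -, hj⟩ := FiniteField.card F p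
    rw [hj, h22] at hodd
    exact (Nat.not_even_iff_odd.2 hodd) (Nat.even_pow.2 ⟨even_two, j.ne_zero⟩)
  have h2p : (2 : ℕ) ≠ p := by
    rintro rfl
    exact h2 (by exact_mod_cast CharP.cast_eq_zero F 2)
  show Cfsg.Agent.Classical.PrimeGraphBC.BSpec F n (r * s) ↔ Cfsg.Agent.Classical.PrimeGraphBC.CSpec F n (r * s)
  -- the characteristic or two with another odd prime
  have small : ∀ t : ℕ, t.Prime → t ≠ 2 → t ≠ p →
      (∃ e, 1 ≤ e ∧ Cfsg.Agent.Classical.PrimeGraphBC.Fits F t e ∧ e < n) →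
      (Cfsg.Agent.Classical.PrimeGraphBC.BSpec F n (2 * t) ∧ Cfsg.Agent.Classical.PrimeGraphBC.CSpec F n (2 * t)) ∧
        (Cfsg.Agent.Classical.PrimeGraphBC.BSpec F n (p * t) ∧ Cfsg.Agent.Classical.PrimeGraphBC.CSpec F n (p * t)) := by
    rintro t ht ht2 htp ⟨e, he, hf, hen⟩
    obtain ⟨b1, b2⟩ := Cfsg.Agent.Classical.PrimeGraphBC.ps_b_of_small p h2 hodd hn ht ht2 htp he hf hen
    obtain ⟨c1, c2⟩ := Cfsg.Agent.Classical.PrimeGraphBC.ps_c_of_small p h2 (n := n) ht ht2 htp he hf hen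
    exact ⟨⟨b1, c1⟩, b2, c2⟩
  have two : ∀ t : ℕ, t.Prime → t ≠ 2 →
      (Cfsg.Agent.Classical.PrimeGraphBC.BSpec F n (2 * t) ↔ Cfsg.Agent.Classical.PrimeGraphBC.CSpec F n (2 * t)) := by
    intro t ht ht2
    by_cases htp : t = p
    · subst htp
      exact iff_of_true (Cfsg.Agent.Classical.PrimeGraphBC.two_p_b t h2 hodd hn) (Cfsg.Agent.Classical.PrimeGraphBC.two_p_c t h2 hn)
    by_cases hsm : ∃ e, 1 ≤ e ∧ Cfsg.Agent.Classical.PrimeGraphBC.Fits F t e ∧ e < n
    · exact iff_of_true (small t ht ht2 htp hsm).1.1 (small t ht ht2 htp hsm).1.2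
    push Not at hsm
    exact ⟨Cfsg.Agent.Classical.PrimeGraphBC.two_c_of_b p h2 hodd hn ht ht2 htp hsm,
      Cfsg.Agent.Classical.PrimeGraphBC.two_b_of_c p h2 hodd hn ht ht2 htp hsm⟩
  have chr : ∀ t : ℕ, t.Prime → t ≠ 2 → t ≠ p →
      (Cfsg.Agent.Classical.PrimeGraphBC.BSpec F n (p * t) ↔ Cfsg.Agent.Classical.PrimeGraphBC.CSpec F n (p * t)) := by
    intro t ht ht2 htp
    exact ⟨fun h => (small t ht ht2 htp (Cfsg.Agent.Classical.PrimeGraphBC.small_of_ps_b p h2 hodd hn ht ht2 htp h)).2.2,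
      fun h => (small t ht ht2 htp (Cfsg.Agent.Classical.PrimeGraphBC.small_of_ps_c p ht ht2 htp h2 h)).2.1⟩
  by_cases hr2 : r = 2
  · subst hr2; exact two s hs hrs.symm
  by_cases hs2 : s = 2
  · subst hs2; rw [mul_comm]; exact two r hr hrs
  by_cases hrp : r = p
  · subst hrp; exact chr s hs hs2 hrs.symm
  by_cases hsp : s = p
  · subst hsp; rw [mul_comm]; exact chr r hr hr2 hrs
  have hN : Odd (r * s) := (hr.odd_of_ne_two hr2).mul (hs.odd_of_ne_two hs2)
  have hNp : ¬ p ∣ r * s := fun h => by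
    rcases (Fact.out : p.Prime).dvd_mul.1 h with h | h
    · exact hrp ((Nat.prime_dvd_prime_iff_eq (Fact.out) hr).1 h).symm
    · exact hsp ((Nat.prime_dvd_prime_iff_eq (Fact.out) hs).1 h).symm
  exact ⟨Cfsg.Agent.Classical.PrimeGraphBC.rr_of_b p h2 hodd hn hN hNp, Cfsg.Agent.Classical.PrimeGraphBC.rr_of_c p h2 hodd hn hN hNp⟩

end Cfsg.Agent.S2474
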