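import Cfsg.Statements.S2477
import Mathlib
import Cfsg.Agent.Lib.Alt.OrderSpectrum
-- import your own Cfsg.Agent.* helpers here

set_option autoImplicit false
open Cfsg

namespace Cfsg.Agent.S2477

/-- The set of element orders of the alternating group of degree 10 is {1, 2, 3, 4, 5, 6, 7, 8, 9, 10, 12, 15, 21}. -/
theorem result : Set.range (orderOf : alternatingGroup (Fin 10) → ℕ) = {1, 2, 3, 4, 5, 6, 7, 8, 9, 10, 12, 15, 21} := by
  have key : ∀ l ∈ AltSpectrum.gen 5 10, (l.sum + l.length) % 2 = 0 →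
      (l : Multiset ℕ).lcm ∈ [1, 2, 3, 4, 5, 6, 7, 8, 9, 10, 12, 15, 21] := by decide +kernel
  ext k
  constructor
  · rintro ⟨g, rfl⟩
    obtain ⟨h2, hsum, he, ho⟩ := AltSpectrum.cycleType_props g
    obtain ⟨l, hl⟩ : ∃ l : List ℕ, (g : Equiv.Perm (Fin 10)).cycleType = l := ⟨_, (Multiset.coe_toList _).symm⟩
    rw [hl] at h2 hsum he ho
    simp only [Multiset.mem_coe, Multiset.sum_coe, Multiset.coe_card] at h2 hsum he
    have := AltSpectrum.length_le_half l h2
    have h := key l (AltSpectrum.mem_gen 5 10 l (by omega) h2 hsum) (Nat.even_iff.mp he)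
    rw [← ho] at h
    simpa using h
  · intro hk
    have w : ∀ m : Multiset ℕ, (∀ a ∈ m, 2 ≤ a) ∧ m.sum ≤ 10 ∧ (m.sum + Multiset.card m) % 2 = 0 ∧ m.lcm = k →
        k ∈ Set.range (orderOf : alternatingGroup (Fin 10) → ℕ) := fun m ⟨a, b, c, d⟩ =>
      d ▸ AltSpectrum.exists_order_eq 10 m a b (Nat.even_iff.mpr c)
    simp only [Set.mem_insert_iff, Set.mem_singleton_iff] at hk
    rcases hk with rfl | rfl | rfl | rfl | rfl | rfl | rfl | rfl | rfl | rfl | rfl | rfl | rfl
    · exact w 0 (by decide +kernel)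
    · exact w {2, 2} (by decide +kernel)
    · exact w {3} (by decide +kernel)
    · exact w {4, 2} (by decide +kernel)
    · exact w {5} (by decide +kernel)
    · exact w {3, 2, 2} (by decide +kernel)
    · exact w {7} (by decide +kernel)
    · exact w {8, 2} (by decide +kernel)
    · exact w {9} (by decide +kernel)
    · exact w {5, 2, 2} (by decide +kernel)
    · exact w {4, 3, 2} (by decide +kernel)
    · exact w {5, 3} (by decide +kernel)
    · exact w {7, 3} (by decide +kernel)

end Cfsg.Agent.S2477
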