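import Cfsg.Statements.S2479
import Cfsg.Agent.Lib.Classical.SLClassNumber
-- import your own Cfsg.Agent.* helpers here

set_option autoImplicit false
open Cfsg

namespace Cfsg.Agent.S2479

/-- The number of conjugacy classes of SL(n,q): for F a finite field with q elements, the number k of conjugacy classes of SL(n,F) satisfies q^(n−1) < k and k ≤ (5/2)·q^(n−1) for n ≥ 2, and k ≤ q^(n−1) + 3q^(n−2) for n ≥ 3. -/
theorem result {F : Type*} [Field F] [Fintype F] (n : ℕ) (hn : 2 ≤ n) :
    Fintype.card F ^ (n - 1) < Nat.card (ConjClasses (Matrix.SpecialLinearGroup (Fin n) F)) ∧ 2 * Nat.card (ConjClasses (Matrix.SpecialLinearGroup (Fin n) F)) ≤ 5 * Fintype.card F ^ (n - 1) ∧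
      (3 ≤ n → Nat.card (ConjClasses (Matrix.SpecialLinearGroup (Fin n) F)) ≤ Fintype.card F ^ (n - 1) + 3 * Fintype.card F ^ (n - 2)) := by
  have hq : 2 ≤ Fintype.card F := Fintype.one_lt_card
  have hle := Cfsg.Agent.Classical.SLClasses.card_sl_le (F := F) (show 0 < n by omega)
  refine ⟨Cfsg.Agent.Classical.SLClasses.lt_card_sl hn, ?_, fun h3 =>
    hle.trans (Cfsg.Agent.Classical.SLClasses.Bd_ge_three hq h3)⟩
  rcases eq_or_lt_of_le hn with rfl | h3
  · rcases eq_or_lt_of_le hq with h2 | h2
    · have h := hle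
      rw [← h2] at h
      simp [Cfsg.Agent.Classical.SLClasses.Bd, Cfsg.Agent.Classical.SLClasses.D, Finset.sum_range_succ,
        show Finset.Icc 1 2 = ({1, 2} : Finset ℕ) from rfl, GLClassNumber.A_zero,
        GLClassNumber.A_of_le, GLClassNumber.A_of_lt] at h
      rw [← h2]
      norm_num
      omega
    · have := hle.trans (Cfsg.Agent.Classical.SLClasses.Bd_two hq)
      simp only [Nat.reduceSub, pow_one]
      omega
  · have := hle.trans (Cfsg.Agent.Classical.SLClasses.Bd_ge_three hq h3)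
    obtain ⟨m, rfl⟩ : ∃ m, n = m + 2 := ⟨n - 2, by omega⟩
    rw [Nat.add_sub_cancel, show m + 2 - 1 = m + 1 by omega, pow_succ] at this
    rw [show m + 2 - 1 = m + 1 by omega, pow_succ]
    have h6 := Nat.mul_le_mul_left (Fintype.card F ^ m) hq
    omega

end Cfsg.Agent.S2479
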