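import Cfsg.Statements.S2483
import Cfsg.Agent.Lib.Classical.CovPSL.Top

set_option autoImplicit false
open Cfsg

namespace Cfsg.Agent.S2483

open Module Cfsg.Agent.Classical.CovPSL

universe u

variable {F : Type u} [Field F] {n : ℕ}

theorem exists_sl (M : (Fin n → F) ≃ₗ[F] Fin n → F) (hM : LinearEquiv.det M = 1) :
    ∃ m : Matrix.SpecialLinearGroup (Fin n) F, Matrix.SpecialLinearGroup.toLin' m = M := by
  refine ⟨⟨LinearMap.toMatrix' M.toLinearMap, ?_⟩, LinearEquiv.toLinearMap_injective ?_⟩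
  · rw [LinearMap.det_toMatrix', ← LinearEquiv.coe_det, hM, Units.val_one]
  · exact Matrix.toLin'_toMatrix' _

theorem det_toLin (m : Matrix.SpecialLinearGroup (Fin n) F) :
    LinearEquiv.det (Matrix.SpecialLinearGroup.toLin' m) = 1 := by
  refine Units.ext ?_
  rw [LinearEquiv.coe_det, Matrix.SpecialLinearGroup.toLin'_to_linearMap, LinearMap.det_toLin', m.2, Units.val_one]

theorem mem_center_of_smul {m : Matrix.SpecialLinearGroup (Fin n) F} {κ : F}
    (h : ∀ v, Matrix.SpecialLinearGroup.toLin' m v = κ • v) :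
    m ∈ Subgroup.center (Matrix.SpecialLinearGroup (Fin n) F) := by
  have e : Matrix.scalar (Fin n) κ = (m : Matrix (Fin n) (Fin n) F) := by
    refine Matrix.toLin'.injective (LinearMap.ext fun v => ?_)
    rw [← Matrix.SpecialLinearGroup.toLin'_apply, h]
    simp [Matrix.scalar_apply]
  refine Matrix.SpecialLinearGroup.mem_center_iff.2 ⟨κ, ?_, e⟩
  have := m.2
  rw [← e] at this
  simpa using this

theorem upper [Fintype F] (hF : 4 ≤ Fintype.card F) (hn : 3 ≤ n) (X G : Matrix.SpecialLinearGroup (Fin n) F)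
    (hX : X ∉ Subgroup.center (Matrix.SpecialLinearGroup (Fin n) F)) :
    ∃ m : Fin n → Matrix.SpecialLinearGroup (Fin n) F,
      G⁻¹ * (List.ofFn fun i => m i * X * (m i)⁻¹).prod ∈ Subgroup.center (Matrix.SpecialLinearGroup (Fin n) F) := by
  let T := Matrix.SpecialLinearGroup.toLin' (n := Fin n) (R := F)
  have hd : finrank F (Fin n → F) = n := by simp
  have hns : NS (K := F) (T X) := fun κ => by
    by_contra h
    push Not at h
    exact hX (mem_center_of_smul h)
  have h1 : ∀ m, dt (T m) = 1 := fun m => by simp [dt, T, det_toLin]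
  obtain ⟨ζ, l, hl, hC, hp⟩ := prd_all hF (by omega) hns (h1 X) (h1 G)
  rw [hd] at hl
  have hm : ∀ i : Fin n, ∃ m, l[(i : ℕ)]'(by omega) = T m * T X * (T m)⁻¹ := fun i => by
    obtain ⟨M, hM, e⟩ := hC (l[(i : ℕ)]'(by omega)) (List.getElem_mem _)
    obtain ⟨m, hm⟩ := exists_sl M (hM (by omega))
    exact ⟨m, by rw [show T m = M from hm]; exact e⟩
  choose m hm using hm
  refine ⟨m, mem_center_of_smul (κ := (ζ : F)) fun v => ?_⟩
  have hl' : (List.ofFn fun i => m i * X * (m i)⁻¹).map T = l :=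
    List.ext_getElem (by simp [hl]) fun i h1 h2 => by simp [hm ⟨i, by omega⟩]
  show T _ v = _
  rw [map_mul, ← List.prod_hom, hl', hp, map_inv, mul_apply', mul_apply', smulOfUnit_apply', map_smul, inv_apply']

theorem lower (hn : 3 ≤ n) : ∃ X G : Matrix.SpecialLinearGroup (Fin n) F,
    X ∉ Subgroup.center (Matrix.SpecialLinearGroup (Fin n) F) ∧
    ∀ m : Fin (n - 1) → Matrix.SpecialLinearGroup (Fin n) F,
      G⁻¹ * (List.ofFn fun i => m i * X * (m i)⁻¹).prod ∉ Subgroup.center (Matrix.SpecialLinearGroup (Fin n) F) := by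
  classical
  let T := Matrix.SpecialLinearGroup.toLin' (n := Fin n) (R := F)
  obtain ⟨k, rfl⟩ : ∃ k, n = k + 2 + 1 := ⟨n - 3, by omega⟩
  obtain ⟨M, hM, hMv⟩ := exists_companion (K := F) (k + 2) (by omega)
  let i0 : Fin (k + 2 + 1) := 0
  let i1 : Fin (k + 2 + 1) := ⟨1, by omega⟩
  have hne : i0 ≠ i1 := by simp [i0, i1, Fin.ext_iff]
  let X : Matrix.SpecialLinearGroup (Fin (k + 2 + 1)) F :=
    ⟨Matrix.transvection i0 i1 1, Matrix.det_transvection_of_ne i0 i1 hne 1⟩
  have hA : ∀ v, T X v = v + (LinearMap.proj i1 : (Fin (k + 2 + 1) → F) →ₗ[F] F) v • Pi.single i0 (1 : F) := fun v => by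
    funext j
    show Matrix.mulVec (Matrix.transvection i0 i1 (1 : F)) v j = _
    simp [Matrix.transvection, Matrix.add_mulVec, Matrix.single_mulVec,
      Pi.single_apply, Function.update_apply]
  let G : Matrix.SpecialLinearGroup (Fin (k + 2 + 1)) F := ⟨M, hM⟩
  refine ⟨X, G, fun hX => ?_, fun m hz => ?_⟩
  · obtain ⟨r, -, hr⟩ := Matrix.SpecialLinearGroup.mem_center_iff.1 hX
    have := congrFun (congrFun hr i0) i1
    simp [X, Matrix.transvection, hne] at this
  obtain ⟨r, hr, hr'⟩ := Matrix.SpecialLinearGroup.mem_center_iff.1 hz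
  obtain ⟨S, hS, hfix⟩ := exists_fixed hA ((List.ofFn fun i => m i * X * (m i)⁻¹).map T) fun Y hY => by
    obtain ⟨_, hy, rfl⟩ := List.mem_map.1 hY
    obtain ⟨i, rfl⟩ := List.mem_ofFn.1 hy
    exact ⟨T (m i), by simp⟩
  obtain ⟨v, hv, hv0⟩ := Submodule.exists_mem_ne_zero_of_ne_bot (show S ≠ ⊥ from fun e => by
    rw [e, finrank_bot] at hS
    simp at hS)
  rw [Fintype.card_fin] at hr
  have hr0 : r ≠ 0 := fun e => by rw [e, zero_pow (by omega)] at hr; exact zero_ne_one hr
  have h1 := hfix v hv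
  rw [List.prod_hom] at h1
  set P := (List.ofFn fun i => m i * X * (m i)⁻¹).prod
  have h2 : T P v = T G (r • v) := by
    have e : P = G * (G⁻¹ * P) := (mul_inv_cancel_left _ _).symm
    conv_lhs => rw [e, map_mul, mul_apply']
    congr 1
    rw [Matrix.SpecialLinearGroup.toLin'_apply, ← hr']
    simp [Matrix.scalar_apply]
  rw [h1, map_smul] at h2
  change v = r • M.mulVec v at h2
  refine hv0 (hMv r⁻¹ (by rw [inv_pow, hr, inv_one]) v ((eq_inv_smul_iff₀ hr0).2 h2.symm))

/-- The covering number of PSL(n,q) is n: let F be a finite field with q ≥ 4 elements and n ≥ 3. For every non-identity element x of PSL(n,F), every element of PSL(n,F) is a product of n conjugates of x; and for some non-identity x, some element is not a product of n − 1 conjugates of x. -/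
theorem result {F : Type*} [Field F] [Fintype F] (h4 : 4 ≤ Fintype.card F) (n : ℕ) (hn : 3 ≤ n) :
    (∀ x : Matrix.ProjectiveSpecialLinearGroup (Fin n) F, x ≠ 1 → ∀ g : Matrix.ProjectiveSpecialLinearGroup (Fin n) F, ∃ f : Fin n → Matrix.ProjectiveSpecialLinearGroup (Fin n) F, g = (List.ofFn fun i => f i * x * (f i)⁻¹).prod) ∧
    (∃ x : Matrix.ProjectiveSpecialLinearGroup (Fin n) F, x ≠ 1 ∧ ∃ g : Matrix.ProjectiveSpecialLinearGroup (Fin n) F, ∀ f : Fin (n - 1) → Matrix.ProjectiveSpecialLinearGroup (Fin n) F, g ≠ (List.ofFn fun i => f i * x * (f i)⁻¹).prod) := by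
  refine ⟨fun x hx g => ?_, ?_⟩
  · obtain ⟨X, rfl⟩ := QuotientGroup.mk_surjective x
    obtain ⟨G, rfl⟩ := QuotientGroup.mk_surjective g
    obtain ⟨m, hm⟩ := upper h4 hn X G (fun h => hx ((QuotientGroup.eq_one_iff X).2 h))
    refine ⟨fun i => (QuotientGroup.mk' _) (m i), ?_⟩
    calc QuotientGroup.mk' _ G = QuotientGroup.mk' _ (List.ofFn fun i => m i * X * (m i)⁻¹).prod :=
          QuotientGroup.eq.2 hm
      _ = _ := by
        rw [← List.prod_hom, List.map_ofFn]
        congr 1
  · obtain ⟨X, G, hX, hG⟩ := lower (F := F) hn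
    refine ⟨QuotientGroup.mk X, fun e => hX ((QuotientGroup.eq_one_iff X).1 e), QuotientGroup.mk G, fun f hf => ?_⟩
    choose m hm using fun i => QuotientGroup.mk_surjective (f i)
    refine hG m (QuotientGroup.eq.1 ?_)
    rw [hf]
    show _ = QuotientGroup.mk' _ (List.ofFn fun i => m i * X * (m i)⁻¹).prod
    rw [← List.prod_hom, List.map_ofFn]
    congr 2
    funext i
    simp [← hm i]

end Cfsg.Agent.S2483
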