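import Cfsg.Statements.S2488
import Cfsg.Agent.Lib.Fus.AutAltSix
-- import your own Cfsg.Agent.* helpers here

set_option autoImplicit false
open scoped Pointwise
open Cfsg

namespace Cfsg.Agent.S2488

/-- Let G be a finite group with a normal subgroup N of index 4 isomorphic to the alternating group of degree 6 and with trivial centralizer in G (so G is the full automorphism group of A₆). Then any two Sylow 2-subgroups of G have a non-trivial intersection: for a Sylow 2-subgroup H and every x ∈ G, H ∩ H^x ≠ 1. -/
theorem result {G : Type*} [Group G] [Finite G] (N : Subgroup G) [N.Normal]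
    (e : N ≃* alternatingGroup (Fin 6)) (hidx : N.index = 4)
    (hC : Subgroup.centralizer (N : Set G) = ⊥)
    (H : Sylow 2 G) (x : G) :
    (H : Subgroup G) ⊓ MulAut.conj x • (H : Subgroup G) ≠ ⊥ := by
  let f : G →* MulAut (alternatingGroup (Fin 6)) :=
    { toFun := fun g => (e.symm.trans (MulAut.conjNormal g)).trans e
      map_one' := by ext; simp
      map_mul' := fun a b => by ext; simp }
  have hinj : Function.Injective f := by
    rw [injective_iff_map_eq_one]
    intro g hg
    have : g ∈ Subgroup.centralizer (N : Set G) := by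
      intro n hn
      have h := congrArg (fun φ : MulAut (alternatingGroup (Fin 6)) => φ (e ⟨n, hn⟩)) hg
      have h2 : MulAut.conjNormal g ⟨n, hn⟩ = (⟨n, hn⟩ : N) := by
        refine e.injective ?_
        simpa [f] using h
      have h3 : g * n * g⁻¹ = n := by simpa using congrArg Subtype.val h2
      calc n * g = g * n * g⁻¹ * g := by rw [h3]
        _ = g * n := inv_mul_cancel_right _ _
    rwa [hC, Subgroup.mem_bot] at this
  have hG : Nat.card G = 1440 := by
    rw [← N.card_mul_index, hidx, Nat.card_congr e.toEquiv, Fus.AutAltSix.card_A6]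
  have : Finite (MulAut (alternatingGroup (Fin 6))) := inferInstance
  have hle : 1440 ≤ Nat.card (MulAut (alternatingGroup (Fin 6))) :=
    hG ▸ Nat.card_le_card_of_injective f hinj
  have hbij : Function.Bijective f :=
    hinj.bijective_of_nat_card_le (by rw [hG, Fus.AutAltSix.card_aut_of_le hle])
  have : Fact (Nat.Prime 2) := ⟨Nat.prime_two⟩
  let H' : Sylow 2 (MulAut (alternatingGroup (Fin 6))) := H.mapSurjective hbij.2
  obtain ⟨y, hy1, hy, hy'⟩ := Fus.AutAltSix.sylow_inter hle H' (f x)
  obtain ⟨a, ha, rfl⟩ := hy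
  obtain ⟨b, hb, hb'⟩ := hy'
  intro hbot
  refine hy1 ?_
  have hb2 : b = x⁻¹ * a * x := hinj (by rw [hb']; simp)
  have hax : a ∈ MulAut.conj x • (H : Subgroup G) := by
    rw [Subgroup.mem_pointwise_smul_iff_inv_smul_mem, ← map_inv]
    show (MulAut.conj x⁻¹) a ∈ (H : Subgroup G)
    rw [MulAut.conj_apply, inv_inv, ← hb2]
    exact hb
  have ha1 : a = 1 := by
    have : a ∈ (H : Subgroup G) ⊓ MulAut.conj x • (H : Subgroup G) := ⟨ha, hax⟩
    rwa [hbot, Subgroup.mem_bot] at this
  rw [ha1, map_one]

end Cfsg.Agent.S2488
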