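import Cfsg.Statements.S2493
import Cfsg.Agent.Lib.Fus.SpinAltCommutator
-- import your own Cfsg.Agent.* helpers here

set_option autoImplicit false
open Cfsg

namespace Cfsg.Agent.S2493

/-- Let n ≥ 5 and let G be a finite perfect group whose centre has order 2 with G/Z(G) isomorphic to the alternating group of degree n (the double cover of the alternating group). Then every element of G is a commutator. -/
theorem result {G : Type*} [Group G] [Finite G] (hperf : commutator G = ⊤) {n : ℕ} (hn : 5 ≤ n)
    (hZ : Nat.card (Subgroup.center G) = 2) (e : G ⧸ Subgroup.center G ≃* alternatingGroup (Fin n))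
    (g : G) :
    ∃ a b : G, a * b * a⁻¹ * b⁻¹ = g := by
  classical
  obtain ⟨m, rfl⟩ : ∃ m, n = m + 2 := ⟨n - 2, by omega⟩
  haveI : Nontrivial (Fin m) := Fin.nontrivial_iff_two_le.2 (by omega)
  have hcard : Fintype.card (Cfsg.Agent.Lie.Carmichael.Pt (Fin m)) = m + 2 := by simp [Fintype.card_option]
  let q : Fin (m + 2) ≃ Cfsg.Agent.Lie.Carmichael.Pt (Fin m) := (Fintype.equivFinOfCardEq hcard).symm
  let f : G →* Equiv.Perm (Cfsg.Agent.Lie.Carmichael.Pt (Fin m)) :=
    q.permCongrHom.toMonoidHom.comp (((alternatingGroup (Fin (m + 2))).subtype.comp e.toMonoidHom).comp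
      (QuotientGroup.mk' (Subgroup.center G)))
  let D : Cfsg.Agent.Fus.SpinComm.Cover G (Cfsg.Agent.Lie.Carmichael.Pt (Fin m)) :=
    { f := f
      even := fun g => by
        show Equiv.Perm.sign (q.permCongr ((e (g : G ⧸ Subgroup.center G)) : Equiv.Perm (Fin (m + 2)))) = 1
        rw [Equiv.Perm.sign_permCongr]
        exact Equiv.Perm.mem_alternatingGroup.1 (e _).2
      surj := fun p hp => by
        have h : q.permCongrHom.symm p ∈ alternatingGroup (Fin (m + 2)) := by
          rw [Equiv.Perm.mem_alternatingGroup]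
          exact (Equiv.Perm.sign_permCongr q.symm p).trans hp
        obtain ⟨g, hg⟩ := QuotientGroup.mk'_surjective (Subgroup.center G) (e.symm ⟨_, h⟩)
        refine ⟨g, ?_⟩
        show q.permCongrHom ((e (QuotientGroup.mk' (Subgroup.center G) g)) : Equiv.Perm (Fin (m + 2))) = p
        rw [hg, MulEquiv.apply_symm_apply, MulEquiv.apply_symm_apply]
      ker := by
        ext g
        rw [MonoidHom.mem_ker, ← QuotientGroup.eq_one_iff g]
        show q.permCongrHom ((e (g : G ⧸ Subgroup.center G)) : Equiv.Perm (Fin (m + 2))) = 1 ↔ _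
        rw [EmbeddingLike.map_eq_one_iff, OneMemClass.coe_eq_one, EmbeddingLike.map_eq_one_iff]
      two := hZ }
  exact Cfsg.Agent.Fus.SpinComm.all_commutators D hperf (by omega) g

end Cfsg.Agent.S2493
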