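import Cfsg.Statements.S2504
import Cfsg.Agent.Lib.Classical.AbelianPermMax
-- import your own Cfsg.Agent.* helpers here

set_option autoImplicit false
open Cfsg

namespace Cfsg.Agent.S2504

/-- The largest order of an abelian subgroup of the alternating group of degree n is 3^k when n = 3k, 4·3^(k−1) when n = 3k + 1, and 16·3^(k−2) when n = 3k + 2, for every k ≥ 2 (so for all degrees n ≥ 6). -/
theorem result (k : ℕ) (hk : 2 ≤ k) :
    IsGreatest {c : ℕ | ∃ A : Subgroup (alternatingGroup (Fin (3 * k))), IsMulCommutative A ∧ Nat.card A = c} (3 ^ k) ∧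
    IsGreatest {c : ℕ | ∃ A : Subgroup (alternatingGroup (Fin (3 * k + 1))), IsMulCommutative A ∧ Nat.card A = c}
      (4 * 3 ^ (k - 1)) ∧
    IsGreatest {c : ℕ | ∃ A : Subgroup (alternatingGroup (Fin (3 * k + 2))), IsMulCommutative A ∧ Nat.card A = c}
      (16 * 3 ^ (k - 2)) := by
  open AbelianPermMax in
  refine ⟨isGreatest_alt (good_threes _ _) fun A hA _ => ?_,
    isGreatest_alt (good_one _ _ (by omega)) fun A hA _ => ?_,
    isGreatest_alt (good_two_even _ hk) fun A hA hev => ?_⟩
  · exact (AbelianPermMax.card_le_bd _ _ (Fintype.card_fin _) A hA).trans (AbelianPermMax.bd_zero k).le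
  · refine (AbelianPermMax.card_le_bd _ _ (Fintype.card_fin _) A hA).trans ?_
    rw [AbelianPermMax.bd_one, if_neg (by omega)]
  · refine (AbelianPermMax.card_le_bdEven k _ (Fintype.card_fin _) A hA hev).trans ?_
    simp [AbelianPermMax.bdEven, show k ≠ 0 by omega, show k ≠ 1 by omega]

end Cfsg.Agent.S2504
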