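import Cfsg.Statements.S2506
import Cfsg.Agent.Lib.Fus.AbelianAltMax
-- import your own Cfsg.Agent.* helpers here

set_option autoImplicit false
open scoped Pointwise
open Cfsg

namespace Cfsg.Agent.S2506

/-- In the alternating group of any degree, any two abelian subgroups of the largest possible order (among abelian subgroups) are conjugate. -/
theorem result (n : ℕ)
    (A B : Subgroup (alternatingGroup (Fin n))) (hA : IsMulCommutative A) (hB : IsMulCommutative B)
    (hAmax : ∀ C : Subgroup (alternatingGroup (Fin n)), IsMulCommutative C → Nat.card C ≤ Nat.card A)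
    (hBmax : ∀ C : Subgroup (alternatingGroup (Fin n)), IsMulCommutative C → Nat.card C ≤ Nat.card B) :
    ∃ g : alternatingGroup (Fin n), B = MulAut.conj g • A := by
  classical
  by_cases hn2 : n ≤ 2
  · have : Subsingleton (alternatingGroup (Fin n)) := Finite.card_le_one_iff_subsingleton.1 (by
      rcases n with _ | _ | _ | n
      · rw [Nat.card_eq_fintype_card]; decide
      · rw [Nat.card_eq_fintype_card]; decide
      · rw [nat_card_alternatingGroup, Nat.card_fin]; rfl
      · omega)
    exact ⟨1, Subgroup.ext fun x => by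
      rw [Subsingleton.elim x 1]; exact ⟨fun _ => one_mem _, fun _ => one_mem _⟩⟩
  have hgood : AbelianPermMax.Good True n (Fus.AbelianAltMax.tgt n) := by
    obtain ⟨k, rfl | rfl | rfl⟩ := AbelianPermMax.cases3 n
    · rw [Fus.AbelianAltMax.tgt_zero]
      exact AbelianPermMax.good_threes _ _
    · obtain ⟨j, rfl⟩ : ∃ j, k = j + 1 := ⟨k - 1, by omega⟩
      rw [Fus.AbelianAltMax.tgt_one]
      exact AbelianPermMax.good_one _ (j + 1) (by omega)
    · rw [Fus.AbelianAltMax.tgt_two]
      rcases k with _ | _ | j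
      · omega
      · exact AbelianPermMax.good_regular (Multiplicative (ZMod 5)) (by simp)
          (fun _ h => by revert h; decide +kernel)
      · rw [AbelianPermMax.bdEven_add_two]
        exact AbelianPermMax.good_two_even (j + 2) (by omega)
  have hgr := AbelianPermMax.isGreatest_alt hgood (fun C hC hev => by
    rw [Fus.AbelianAltMax.tgt]
    split_ifs with h
    · exact AbelianPermMax.card_le_bdEven _ _ (by rw [Fintype.card_fin]; omega) C hC hev
    · exact AbelianPermMax.card_le_bd _ _ (Fintype.card_fin n) C hC)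
  obtain ⟨⟨C, hC, hCc⟩, hub⟩ := hgr
  have hcard : ∀ D : Subgroup (alternatingGroup (Fin n)), IsMulCommutative D →
      (∀ C : Subgroup (alternatingGroup (Fin n)), IsMulCommutative C → Nat.card C ≤ Nat.card D) →
      Nat.card D = Fus.AbelianAltMax.tgt n := fun D hD hmax =>
    le_antisymm (hub ⟨D, hD, rfl⟩) (hCc ▸ hmax C hC)
  by_cases h5 : n = 5
  · subst h5
    have : Fact (Nat.Prime 5) := ⟨by norm_num⟩
    have hfac : 5 ^ (Nat.card (alternatingGroup (Fin 5))).factorization 5 = 5 := by
      rw [nat_card_alternatingGroup, Nat.card_fin, show Nat.factorial 5 / 2 = 5 ^ 1 * 12 by rfl,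
        Nat.factorization_mul_apply_of_coprime (by norm_num),
        Nat.Prime.factorization_pow (by norm_num), Finsupp.single_eq_same,
        Nat.factorization_eq_zero_of_not_dvd (by norm_num : ¬ 5 ∣ 12)]
      all_goals norm_num
    have hA5 : Nat.card A = 5 := (hcard A hA hAmax).trans (by decide)
    have hB5 : Nat.card B = 5 := (hcard B hB hBmax).trans (by decide)
    obtain ⟨g, hg⟩ := MulAction.exists_smul_eq (alternatingGroup (Fin 5))
      (Sylow.ofCard A (hA5.trans hfac.symm) : Sylow 5 (alternatingGroup (Fin 5)))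
      (Sylow.ofCard B (hB5.trans hfac.symm))
    refine ⟨g, ?_⟩
    have := congrArg (fun T : Sylow 5 (alternatingGroup (Fin 5)) => (T : Subgroup (alternatingGroup (Fin 5)))) hg
    simp only [Sylow.coe_subgroup_smul, Sylow.coe_ofCard] at this
    exact this.symm
  · -- pass to groups of permutations
    have hmax : ∀ D : Subgroup (alternatingGroup (Fin n)), IsMulCommutative D →
        Nat.card D = Fus.AbelianAltMax.tgt n →
        Fus.AbelianAltMax.IsMax (D.map (alternatingGroup (Fin n)).subtype) := by
      intro D hD hc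
      refine ⟨⟨⟨?_⟩⟩, ?_, ?_⟩
      · rintro ⟨_, g, hg, rfl⟩ ⟨_, h, hh, rfl⟩
        exact Subtype.ext (congrArg (alternatingGroup (Fin n)).subtype
          (congrArg Subtype.val (hD.is_comm.comm ⟨g, hg⟩ ⟨h, hh⟩)))
      · rintro _ ⟨g, -, rfl⟩
        exact Equiv.Perm.mem_alternatingGroup.1 g.2
      · rw [Subgroup.card_map_of_injective (alternatingGroup (Fin n)).subtype_injective,
          Fintype.card_fin, hc]
    have hA' := hmax A hA (hcard A hA hAmax)
    have hB' := hmax B hB (hcard B hB hBmax)
    obtain ⟨σ, hσ⟩ := Fus.AbelianAltMax.exists_equiv n _ _ _ _ hA' hB' (Fintype.card_fin n)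
      (Fintype.card_fin n) (Or.inr ⟨by omega, h5⟩)
    obtain ⟨σ', hev, hσ'⟩ : ∃ σ' : Equiv.Perm (Fin n), Equiv.Perm.sign σ' = 1 ∧
        ∀ g, g ∈ A.map (alternatingGroup (Fin n)).subtype ↔
          σ' * g * σ'⁻¹ ∈ B.map (alternatingGroup (Fin n)).subtype := by
      have hconv : ∀ (s g : Equiv.Perm (Fin n)), s.permCongr g = s * g * s⁻¹ := fun s g =>
        Equiv.ext fun x => by simp [Equiv.permCongr_apply, Equiv.Perm.inv_def]
      rcases Int.units_eq_one_or (Equiv.Perm.sign σ) with h | h
      · exact ⟨σ, h, fun g => by rw [← hconv, ← hσ]⟩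
      · obtain ⟨τ, hτ, hτA⟩ := Fus.AbelianAltMax.exists_odd hA'
          (by rw [Fintype.card_fin]; omega) (by rwa [Fintype.card_fin])
        refine ⟨σ * τ, by rw [map_mul, h, hτ]; rfl, fun g => ?_⟩
        rw [hτA, hconv, hσ, hconv, mul_inv_rev]
        simp only [mul_assoc]
    refine ⟨⟨σ', Equiv.Perm.mem_alternatingGroup.2 hev⟩, Subgroup.ext fun b => ?_⟩
    rw [Subgroup.mem_pointwise_smul_iff_inv_smul_mem, ← map_inv]
    have h1 := hσ' (σ'⁻¹ * (b : Equiv.Perm (Fin n)) * σ')
    rw [show σ' * (σ'⁻¹ * (b : Equiv.Perm (Fin n)) * σ') * σ'⁻¹ =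
      (alternatingGroup (Fin n)).subtype b by simp [mul_assoc],
      Subgroup.mem_map_iff_mem (alternatingGroup (Fin n)).subtype_injective] at h1
    rw [← h1, ← Subgroup.mem_map_iff_mem (alternatingGroup (Fin n)).subtype_injective]
    simp [MulAut.conj_apply, MulAut.smul_def]

end Cfsg.Agent.S2506
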