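import Mathlib
import Cfsg.Statements.S2510
import Cfsg.Agent.Lib.Classical.MatrixOrders

set_option autoImplicit false
open Cfsg

namespace Cfsg.Agent.S2510

open Matrix Cfsg.Agent.Classical Polynomial

/-- order of the norm one torus of `F_{q^n}` modulo scalars -/
def torusOrder (q n : ℕ) : ℕ := (∑ i ∈ Finset.range n, q ^ i) / Nat.gcd n (q - 1)

theorem geom_sum_modEq (q n : ℕ) (hq : 1 ≤ q) :
    (∑ i ∈ Finset.range n, q ^ i) ≡ n [MOD q - 1] := by
  induction n with
  | zero => simp [Nat.ModEq]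
  | succ n ih =>
    rw [Finset.sum_range_succ]
    have h1 : q ≡ 1 [MOD q - 1] := ((Nat.modEq_iff_dvd' hq).2 dvd_rfl).symm
    simpa using ih.add (h1.pow n)

theorem gcd_geom_sum (q n : ℕ) (hq : 1 ≤ q) :
    Nat.gcd (∑ i ∈ Finset.range n, q ^ i) (q - 1) = Nat.gcd n (q - 1) :=
  (geom_sum_modEq q n hq).gcd_eq

theorem geom_sum_mul_sub (q n : ℕ) (hq : 1 ≤ q) :
    (∑ i ∈ Finset.range n, q ^ i) * (q - 1) = q ^ n - 1 := by
  obtain ⟨k, rfl⟩ : ∃ k, q = k + 1 := ⟨q - 1, by omega⟩
  have := geom_sum_mul_add k n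
  simp only [Nat.add_sub_cancel]
  omega

theorem arith_key {q d mu : ℕ} (hq : 1 ≤ q) :
    (∑ i ∈ Finset.range d, q ^ i) * Nat.gcd mu (q - 1) ∣ torusOrder q (d * mu) * (q - 1) := by
  have h1 : (∑ i ∈ Finset.range (d * mu), q ^ i) =
      (∑ i ∈ Finset.range d, q ^ i) * ∑ i ∈ Finset.range mu, (q ^ d) ^ i := by
    induction mu with
    | zero => simp
    | succ k ih =>
      rw [Nat.mul_succ, Finset.sum_range_add, ih, Finset.sum_range_succ, mul_add]
      congr 1
      rw [Finset.sum_mul]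
      refine Finset.sum_congr rfl fun i _ => ?_
      rw [pow_add, pow_mul, mul_comm]
  set g := Nat.gcd (d * mu) (q - 1) with hg
  have hgS : g ∣ ∑ i ∈ Finset.range (d * mu), q ^ i := by
    rw [hg, ← gcd_geom_sum q _ hq]
    exact Nat.gcd_dvd_left _ _
  have hm : Nat.gcd mu (q - 1) ∣ ∑ i ∈ Finset.range mu, (q ^ d) ^ i := by
    have h2 : (∑ i ∈ Finset.range mu, (q ^ d) ^ i) ≡ mu [MOD q - 1] := by
      refine (geom_sum_modEq (q ^ d) mu (Nat.one_le_pow _ _ hq)).of_dvd ?_
      exact Nat.sub_one_dvd_pow_sub_one q d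
    rw [← h2.gcd_eq]
    exact Nat.gcd_dvd_left _ _
  have hgq : g ∣ q - 1 := Nat.gcd_dvd_right _ _
  calc (∑ i ∈ Finset.range d, q ^ i) * Nat.gcd mu (q - 1)
      ∣ (∑ i ∈ Finset.range (d * mu), q ^ i) * ((q - 1) / g) := by
        rw [h1]; exact (mul_dvd_mul_left _ hm).mul_right _
    _ = torusOrder q (d * mu) * (q - 1) := by
        rw [torusOrder, ← hg, Nat.div_mul_right_comm hgS, Nat.mul_div_assoc _ hgq]

variable {F : Type*} [Field F] [Fintype F]

theorem exists_order_torus (n : ℕ) (hn : 1 ≤ n) :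
    ∃ x : Matrix.ProjectiveSpecialLinearGroup (Fin n) F, torusOrder (Fintype.card F) n ∣ orderOf x := by
  classical
  obtain ⟨p, hp⟩ := CharP.exists F
  haveI := hp
  haveI : Fact p.Prime := ⟨CharP.char_is_prime F p⟩
  haveI : NeZero n := ⟨by omega⟩
  set q := Fintype.card F with hq
  have hq2 : 2 ≤ q := Fintype.one_lt_card
  let K := FiniteField.Extension F p n
  have hK : Module.finrank F K = n := FiniteField.finrank_extension F p n
  letI : Fintype K := Fintype.ofFinite K
  have hKc : Nat.card Kˣ = q ^ n - 1 := by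
    rw [Nat.card_units, Module.natCard_eq_pow_finrank (K := F), Nat.card_eq_fintype_card, hK]
  obtain ⟨u, hu⟩ := IsCyclic.exists_generator (α := Kˣ)
  have hou : orderOf u = q ^ n - 1 := by rw [orderOf_eq_card_of_forall_mem_zpowers hu, hKc]
  let b := Module.finBasisOfFinrankEq F K hK
  let L : K →* Matrix (Fin n) (Fin n) F := (Algebra.leftMulMatrix b).toMonoidHom
  have hLinj : Function.Injective L := Algebra.leftMulMatrix_injective b
  have hdet : (L ((u : K) ^ (q - 1))).det = 1 := by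
    have hne : (L (u : K)).det ≠ 0 :=
      ((Matrix.isUnit_iff_isUnit_det _).1 (u.isUnit.map L)).ne_zero
    rw [map_pow, Matrix.det_pow]
    exact FiniteField.pow_card_sub_one_eq_one _ hne
  let A : Matrix.SpecialLinearGroup (Fin n) F := ⟨_, hdet⟩
  refine ⟨slToPSL n F A, ?_⟩
  set j := orderOf (slToPSL n F A)
  obtain ⟨c, hc⟩ := (slToPSL_pow_eq_one_iff A j).1 (pow_orderOf_eq_one _)
  have hc' : L ((u : K) ^ ((q - 1) * j)) = L (algebraMap F K c) := by
    rw [pow_mul, map_pow]
    refine hc.trans ?_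
    exact ((Algebra.leftMulMatrix b).commutes c).symm
  have hu' := hLinj hc'
  have hc0 : c ≠ 0 := by
    intro h
    rw [h, map_zero] at hu'
    exact (pow_ne_zero _ u.ne_zero) hu'
  have h1 : u ^ ((q - 1) * j * (q - 1)) = 1 := by
    refine Units.ext ?_
    rw [Units.val_pow_eq_pow_val, pow_mul, hu', ← map_pow, FiniteField.pow_card_sub_one_eq_one c hc0, map_one,
      Units.val_one]
  have h2 := orderOf_dvd_of_pow_eq_one h1
  rw [hou, ← geom_sum_mul_sub q n (by omega)] at h2
  have h3 : (∑ i ∈ Finset.range n, q ^ i) ∣ j * (q - 1) := by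
    refine Nat.dvd_of_mul_dvd_mul_right (by omega : 0 < q - 1) (h2.trans (dvd_of_eq ?_))
    ring
  unfold torusOrder
  rw [← gcd_geom_sum q n (by omega)]
  rw [Nat.div_dvd_iff_dvd_mul (Nat.gcd_dvd_left _ _) (Nat.gcd_pos_of_pos_right _ (by omega))]
  rw [mul_comm] at h3
  exact Nat.dvd_gcd_mul_iff_dvd_mul.2 h3

theorem torus_coprime {q p a : ℕ} (hp : p.Prime) (ha : 1 ≤ a) (hF : q = p ^ a) (n : ℕ) (hn : 1 ≤ n) :
    ¬ p ∣ torusOrder q n := by
  intro h
  unfold torusOrder at h
  have hq : 1 ≤ q := hF ▸ Nat.one_le_pow _ _ hp.pos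
  have hS : p ∣ ∑ i ∈ Finset.range n, q ^ i :=
    h.trans (Nat.div_dvd_of_dvd (gcd_geom_sum q n hq ▸ Nat.gcd_dvd_left _ _))
  obtain ⟨k, rfl⟩ : ∃ k, n = k + 1 := ⟨n - 1, by omega⟩
  rw [Finset.sum_range_succ', pow_zero] at hS
  have : p ∣ ∑ i ∈ Finset.range k, q ^ (i + 1) := Finset.dvd_sum fun i _ =>
    hF ▸ dvd_pow (dvd_pow_self p (by omega)) (by omega)
  exact hp.not_dvd_one ((Nat.dvd_add_right this).1 hS)

theorem exists_order_unipotent (p : ℕ) [Fact p.Prime] [CharP F p] (n : ℕ) (hn : 2 ≤ n) :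
    ∃ x : Matrix.ProjectiveSpecialLinearGroup (Fin n) F, p ^ Nat.clog p n ∣ orderOf x := by
  haveI : Nonempty (Fin n) := ⟨⟨0, by omega⟩⟩
  have hp2 : 1 < p := (Fact.out : p.Prime).one_lt
  set U := 1 + shiftMatrix F n n
  set e := Nat.clog p n
  have hle : n ≤ p ^ e := Nat.le_pow_clog hp2 n
  have hU1 : U ^ p ^ e = 1 := by
    rw [add_pow_char_pow_of_commute _ _ (Commute.one_left _), one_pow,
      shiftMatrix_pow_eq_zero hle (pow_ne_zero _ (by omega)), add_zero]
  have hdet : U.det = 1 := by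
    have h := congrArg Matrix.det hU1
    rw [Matrix.det_pow, Matrix.det_one] at h
    exact iterateFrobenius_inj F p e (by simpa [iterateFrobenius_def] using h)
  let A : Matrix.SpecialLinearGroup (Fin n) F := ⟨U, hdet⟩
  refine ⟨slToPSL n F A, ?_⟩
  have hd : orderOf (slToPSL n F A) ∣ p ^ e :=
    orderOf_dvd_of_pow_eq_one ((slToPSL_pow_eq_one_iff A _).2 ⟨1, by rw [map_one]; exact hU1⟩)
  obtain ⟨j, -, hj⟩ := (Nat.dvd_prime_pow Fact.out).1 hd
  rw [hj]
  refine Nat.pow_dvd_pow p (Nat.clog_le_of_le_pow ?_)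
  obtain ⟨c, hc⟩ := (slToPSL_pow_eq_one_iff A _).1 (hj ▸ pow_orderOf_eq_one (slToPSL n F A))
  rw [show (A : Matrix (Fin n) (Fin n) F) = U from rfl,
    add_pow_char_pow_of_commute _ _ (Commute.one_left _), one_pow] at hc
  refine le_of_shiftMatrix_pow_eq_scalar (F := F) le_rfl (pow_ne_zero _ (by omega)) (c := c - 1) ?_
  rw [map_sub, map_one, ← hc, add_sub_cancel_left]

theorem orderOf_root {r : ℕ} (hr : r.Prime) (hrq : r ∣ Fintype.card F - 1) :
    ∃ z : F, orderOf z = r := by
  classical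
  haveI := Fact.mk hr
  obtain ⟨z, hz⟩ := exists_prime_orderOf_dvd_card (G := Fˣ) r (by rwa [Fintype.card_units])
  exact ⟨z, by rw [orderOf_units, hz]⟩

theorem exists_order_root (n r : ℕ) (hn : 2 ≤ n) (hr : r.Prime) (hrq : r ∣ Fintype.card F - 1) (hrn : ¬ r ∣ n) :
    ∃ R : Matrix.SpecialLinearGroup (Fin n) F, orderOf (slToPSL n F R) = r ∧
      (∀ s ≤ n - 1, Commute (R : Matrix (Fin n) (Fin n) F) (shiftMatrix F n s)) := by
  classical
  haveI := Fact.mk hr
  obtain ⟨z, hz⟩ := orderOf_root hr hrq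
  have hz0 : z ≠ 0 := by
    rintro rfl
    rw [orderOf_zero] at hz
    exact hr.ne_zero hz.symm
  have hzr : z ^ r = 1 := hz ▸ pow_orderOf_eq_one z
  let v : Fin n → F := fun i => if (i : ℕ) < n - 1 then z else (z⁻¹) ^ (n - 1)
  have hdet : (Matrix.diagonal v).det = 1 := by
    rw [Matrix.det_diagonal]
    obtain ⟨k, rfl⟩ : ∃ k, n = k + 1 := ⟨n - 1, by omega⟩
    simp [Fin.prod_univ_castSucc, v, mul_inv_cancel₀ (pow_ne_zero k hz0)]
  refine ⟨⟨Matrix.diagonal v, hdet⟩, ?_, ?_⟩
  · refine orderOf_eq_prime ?_ ?_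
    · refine (slToPSL_pow_eq_one_iff _ _).2 ⟨1, ?_⟩
      simp only [map_one, Matrix.diagonal_pow]
      rw [← Matrix.diagonal_one]
      congr 1
      funext i
      simp only [Pi.pow_apply, v]
      split_ifs
      · exact hzr
      · rw [← pow_mul, mul_comm, pow_mul, inv_pow, hzr, inv_one, one_pow]
    · intro h
      obtain ⟨c, hc⟩ := (slToPSL_eq_one_iff _).1 h
      rw [Matrix.scalar_apply] at hc
      have hv := Matrix.diagonal_injective hc
      have h0 : z = c := by simpa [v, show 0 < n - 1 by omega] using congrFun hv ⟨0, by omega⟩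
      have h1 : (z⁻¹) ^ (n - 1) = c := by simpa [v] using congrFun hv ⟨n - 1, by omega⟩
      apply hrn
      rw [← hz]
      refine orderOf_dvd_of_pow_eq_one ?_
      calc z ^ n = z ^ (n - 1) * z := by rw [← pow_succ, Nat.sub_add_cancel (by omega)]
        _ = z ^ (n - 1) * (z⁻¹) ^ (n - 1) := by rw [h1, h0]
        _ = 1 := by rw [← mul_pow, mul_inv_cancel₀ hz0, one_pow]
  · intro s hs
    refine Matrix.ext fun i j => ?_
    simp only [Matrix.diagonal_mul, Matrix.mul_diagonal, shiftMatrix, Matrix.of_apply]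
    split_ifs with h
    · simp [v, show (i : ℕ) < n - 1 by omega, show (j : ℕ) < n - 1 by omega]
    · simp

theorem exists_order_unipotent_root (p : ℕ) [Fact p.Prime] [CharP F p] (n r : ℕ) (hn : 2 ≤ n) (hr : r.Prime)
    (hrq : r ∣ Fintype.card F - 1) (hrn : ¬ r ∣ n) (hnp : ¬ ∃ j : ℕ, n - 1 = p ^ j) :
    ∃ x : Matrix.ProjectiveSpecialLinearGroup (Fin n) F, p ^ Nat.clog p n * r ∣ orderOf x := by
  haveI : Nonempty (Fin n) := ⟨⟨0, by omega⟩⟩
  have hp2 : 1 < p := (Fact.out : p.Prime).one_lt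
  obtain ⟨R, hR, hRcomm⟩ := exists_order_root (F := F) n r hn hr hrq hrn
  set U := 1 + shiftMatrix F n (n - 1)
  set e := Nat.clog p n
  have hle : n ≤ p ^ e := Nat.le_pow_clog hp2 n
  have hU1 : U ^ p ^ e = 1 := by
    rw [add_pow_char_pow_of_commute _ _ (Commute.one_left _), one_pow,
      shiftMatrix_pow_eq_zero (by omega) (pow_ne_zero _ (by omega)), add_zero]
  have hdet : U.det = 1 := by
    have h := congrArg Matrix.det hU1
    rw [Matrix.det_pow, Matrix.det_one] at h
    exact iterateFrobenius_inj F p e (by simpa [iterateFrobenius_def] using h)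
  let A : Matrix.SpecialLinearGroup (Fin n) F := ⟨U, hdet⟩
  have hd : orderOf (slToPSL n F A) ∣ p ^ e :=
    orderOf_dvd_of_pow_eq_one ((slToPSL_pow_eq_one_iff A _).2 ⟨1, by rw [map_one]; exact hU1⟩)
  obtain ⟨j, hje, hj⟩ := (Nat.dvd_prime_pow Fact.out).1 hd
  have hje' : e ≤ j := by
    refine Nat.clog_le_of_le_pow ?_
    obtain ⟨c, hc⟩ := (slToPSL_pow_eq_one_iff A _).1 (hj ▸ pow_orderOf_eq_one (slToPSL n F A))
    rw [show (A : Matrix (Fin n) (Fin n) F) = U from rfl,
      add_pow_char_pow_of_commute _ _ (Commute.one_left _), one_pow] at hc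
    have := le_of_shiftMatrix_pow_eq_scalar (F := F) (by omega : n - 1 ≤ n) (pow_ne_zero j (by omega : p ≠ 0))
      (c := c - 1) (by rw [map_sub, map_one, ← hc, add_sub_cancel_left])
    have h2 : n - 1 ≠ p ^ j := fun h => hnp ⟨j, h⟩
    omega
  have hcomm : Commute (slToPSL n F A) (slToPSL n F R) := by
    refine Commute.map ?_ _
    exact Subtype.ext (((Commute.one_right _).add_right (hRcomm _ le_rfl)).symm : Commute U (R : Matrix (Fin n) (Fin n) F))
  have hcop : Nat.Coprime (p ^ j) r := by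
    refine Nat.Coprime.pow_left _ ((Nat.coprime_primes Fact.out hr).2 ?_)
    rintro rfl
    obtain ⟨z, hz⟩ := orderOf_root hr hrq
    exact hr.ne_one (hz.symm.trans (orderOf_eq_one_iff.2 (frobenius_inj F p (by
      simpa [frobenius_def] using hz ▸ pow_orderOf_eq_one z))))
  refine ⟨slToPSL n F A * slToPSL n F R, ?_⟩
  rw [hcomm.orderOf_mul_eq_mul_orderOf_of_coprime (by rwa [hj, hR]), hj, hR]
  exact mul_dvd_mul_right (Nat.pow_dvd_pow p hje') r

theorem det_eval_field (n : ℕ) (hn : 1 ≤ n) (B : Matrix (Fin n) (Fin n) F) (h : F[X]) [Fact (Irreducible h)]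
    (hB : aeval B h = 0) (hdet : B.det = 1) :
    ∀ T : ℕ, (∀ d mu : ℕ, d * mu = n →
      (∑ i ∈ Finset.range d, Fintype.card F ^ i) * Nat.gcd mu (Fintype.card F - 1) ∣ T * (Fintype.card F - 1)) →
    ∃ c : F, B ^ T = Matrix.scalar (Fin n) c := by
  classical
  intro T hT
  set q := Fintype.card F
  have hh : h ≠ 0 := (Fact.out : Irreducible h).ne_zero
  let E := AdjoinRoot h
  let φ : F[X] →ₐ[F] Module.End F (Fin n → F) := aeval (Matrix.toLinAlgEquiv' B)
  have hI : ∀ g : F[X], g ∈ Ideal.span {h} → φ g = 0 := by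
    intro g hg
    obtain ⟨g', rfl⟩ := Ideal.mem_span_singleton.1 hg
    have h1 : φ h = 0 := by
      have := Polynomial.aeval_algHom_apply (Matrix.toLinAlgEquiv' (R := F) (n := Fin n)).toAlgHom B h
      rw [hB, map_zero] at this
      exact this
    rw [map_mul, h1, zero_mul]
  let ι : E →ₐ[F] Module.End F (Fin n → F) := Ideal.Quotient.liftₐ (Ideal.span {h}) φ hI
  have hιroot : ι (AdjoinRoot.root h) = Matrix.toLinAlgEquiv' B := Polynomial.aeval_X (R := F) _
  letI : Module E (Fin n → F) := Module.compHom _ ι.toRingHom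
  haveI : IsScalarTower F E (Fin n → F) := ⟨fun a b v => by
    show ι (a • b) v = a • ι b v
    rw [map_smul]; rfl⟩
  haveI : FiniteDimensional F E := (AdjoinRoot.powerBasis hh).finite
  haveI : Module.Finite E (Fin n → F) := Module.Finite.of_restrictScalars_finite F _ _
  have hd : Module.finrank F E * Module.finrank E (Fin n → F) = n := by
    rw [Module.finrank_mul_finrank, Module.finrank_fin_fun]
  set d := Module.finrank F E
  set mu := Module.finrank E (Fin n → F)
  let β : E := AdjoinRoot.root h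
  have hβ : Algebra.norm F (β ^ mu) = 1 := by
    have h1 := LinearMap.det_restrictScalars (R := F) (f := β • (LinearMap.id : (Fin n → F) →ₗ[E] (Fin n → F)))
    rw [LinearMap.det_smul, LinearMap.det_id, mul_one] at h1
    rw [← h1, ← hdet, ← LinearMap.det_toLin']
    congr 1
  have hβ0 : β ≠ 0 := by
    intro h0
    rw [h0] at hβ
    rcases Nat.eq_zero_or_pos mu with hm | hm
    · rw [hm, mul_zero] at hd; omega
    · rw [zero_pow hm.ne', Algebra.norm_zero] at hβ
      exact zero_ne_one hβ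
  rw [map_pow] at hβ
  have hν : Algebra.norm F β ≠ 0 := Algebra.norm_ne_zero_iff.2 hβ0
  have h2 : (Algebra.norm F β) ^ Nat.gcd mu (q - 1) = 1 :=
    pow_gcd_eq_one.2 ⟨hβ, FiniteField.pow_card_sub_one_eq_one _ hν⟩
  have h3 : β ^ (∑ i ∈ Finset.range d, q ^ i) = algebraMap F E (Algebra.norm F β) := by
    letI : Finite E := Module.finite_of_finite F
    rw [FiniteField.algebraMap_norm_eq_pow_sum, Nat.card_eq_fintype_card]
  have h4 : (β ^ T) ^ (q - 1) = 1 := by
    obtain ⟨k, hk⟩ := hT d mu hd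
    rw [← pow_mul, hk, pow_mul, pow_mul, h3, ← map_pow, h2, map_one, one_pow]
  obtain ⟨c, hc⟩ : ∃ c : F, algebraMap F E c = β ^ T := by
    have hq2 : 2 ≤ q := Fintype.one_lt_card
    let S := (Finset.univ.filter fun c : F => c ≠ 0).image (algebraMap F E)
    by_contra hcon
    push Not at hcon
    have hsub : insert (β ^ T) S ⊆ (nthRoots (q - 1) (1 : E)).toFinset := by
      intro x hx
      rw [Multiset.mem_toFinset, Polynomial.mem_nthRoots (by omega)]
      rcases Finset.mem_insert.1 hx with rfl | hx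
      · exact h4
      · obtain ⟨c, hc, rfl⟩ := Finset.mem_image.1 hx
        rw [← map_pow, FiniteField.pow_card_sub_one_eq_one _ (Finset.mem_filter.1 hc).2, map_one]
    have hns : β ^ T ∉ S := by
      simp only [S, Finset.mem_image]
      rintro ⟨c, -, hc⟩
      exact hcon c hc
    have h5 := (Finset.card_le_card hsub).trans ((Multiset.toFinset_card_le _).trans (Polynomial.card_nthRoots _ _))
    rw [Finset.card_insert_of_notMem hns, Finset.card_image_of_injective _ (algebraMap F E).injective,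
      Finset.filter_ne', Finset.card_erase_of_mem (Finset.mem_univ _), Finset.card_univ] at h5
    omega
  refine ⟨c, (Matrix.toLinAlgEquiv' (R := F)).injective ?_⟩
  have h6 := congrArg ι hc
  rw [map_pow, AlgHom.commutes] at h6
  rw [map_pow]
  refine Eq.trans ?_ (h6.symm.trans ?_)
  · rw [hιroot]
  · exact ((Matrix.toLinAlgEquiv' (R := F)).commutes c).symm

theorem exists_commuting_root (n r : ℕ) (hn : 2 ≤ n) (hr : r.Prime) (hrq : r ∣ Fintype.card F - 1) (hrn : ¬ r ∣ n)
    (A Em : Matrix (Fin n) (Fin n) F) (hE : IsIdempotentElem Em) (hE0 : Em ≠ 0) (hE1 : Em ≠ 1)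
    (hcomm : Commute Em A) :
    ∃ R : Matrix.SpecialLinearGroup (Fin n) F, orderOf (slToPSL n F R) = r ∧ Commute (R : Matrix (Fin n) (Fin n) F) A := by
  classical
  haveI := Fact.mk hr
  obtain ⟨z, hz⟩ := orderOf_root hr hrq
  have hz0 : z ≠ 0 := by
    rintro rfl
    rw [orderOf_zero] at hz
    exact hr.ne_zero hz.symm
  have hzr : z ^ r = 1 := hz ▸ pow_orderOf_eq_one z
  let e : Module.End F (Fin n → F) := Matrix.toLin' Em
  have he : IsIdempotentElem e := by
    show e * e = e
    rw [Module.End.mul_eq_comp, ← Matrix.toLin'_mul, hE.eq]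
  set n1 := Module.finrank F (LinearMap.range e)
  set n2 := Module.finrank F (LinearMap.ker e)
  have hn12 : n1 + n2 = n := by
    rw [LinearMap.finrank_range_add_finrank_ker, Module.finrank_fin_fun]
  let u := z ^ n2
  let v := (z⁻¹) ^ n1
  let M := u • Em + v • (1 - Em)
  have hdet : M.det = 1 := by
    rw [← LinearMap.det_toLin', map_add, map_smul, map_smul, map_sub, Matrix.toLin'_one]
    rw [← Module.End.one_eq_id, det_idempotent_combination e he u v]
    simp only [u, v, n1, n2, ← pow_mul]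
    rw [mul_comm (Module.finrank F (LinearMap.range e)), ← mul_pow, mul_inv_cancel₀ hz0, one_pow]
  have hpow : ∀ k, M ^ k = u ^ k • Em + v ^ k • (1 - Em) := by
    intro k
    induction k with
    | zero => simp
    | succ k ih =>
      rw [pow_succ, ih]
      simp only [M, add_mul, mul_add, smul_mul_smul_comm, hE.eq, hE.mul_one_sub_self, hE.one_sub_mul_self,
        hE.one_sub.eq, smul_zero, add_zero, zero_add, pow_succ]
  refine ⟨⟨M, hdet⟩, orderOf_eq_prime ?_ ?_, ?_⟩
  · refine (slToPSL_pow_eq_one_iff _ _).2 ⟨1, ?_⟩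
    have hu : u ^ r = 1 := by rw [← pow_mul, mul_comm, pow_mul, hzr, one_pow]
    have hv : v ^ r = 1 := by rw [← pow_mul, mul_comm, pow_mul, inv_pow, hzr, inv_one, one_pow]
    show M ^ r = _
    rw [hpow, hu, hv, map_one, one_smul, one_smul, add_sub_cancel]
  · intro h
    obtain ⟨c, hc⟩ := (slToPSL_eq_one_iff _).1 h
    have huv : u - v ≠ 0 := by
      rw [sub_ne_zero]
      intro huv
      apply hrn
      rw [← hz, ← hn12]
      refine orderOf_dvd_of_pow_eq_one ?_
      rw [pow_add, show z ^ n2 = (z⁻¹) ^ n1 from huv, ← mul_pow, mul_inv_cancel₀ hz0, one_pow]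
    have hs : Em = ((c - v) / (u - v)) • (1 : Matrix (Fin n) (Fin n) F) := by
      have hc' : u • Em + v • (1 - Em) = c • (1 : Matrix (Fin n) (Fin n) F) := by
        rw [Matrix.smul_one_eq_diagonal]; exact hc
      have : (u - v) • Em = (c - v) • (1 : Matrix (Fin n) (Fin n) F) := by
        rw [sub_smul, sub_smul, ← hc', smul_sub]; abel
      rw [div_eq_inv_mul, mul_smul, ← this, smul_smul, inv_mul_cancel₀ huv, one_smul]
    haveI : Nonempty (Fin n) := ⟨⟨0, by omega⟩⟩
    set a := (c - v) / (u - v)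
    have ha : a * a = a := by
      have := hE.eq
      rw [hs, smul_mul_smul_comm, one_mul] at this
      exact smul_left_injective F one_ne_zero this
    rcases ((IsIdempotentElem.iff_eq_zero_or_one.1 ha).symm : a = 1 ∨ a = 0) with h1 | h1
    · exact hE1 (by rw [hs, h1, one_smul])
    · exact hE0 (by rw [hs, h1, zero_smul])
  · exact (hcomm.smul_left u).add_left (((Commute.one_left A).sub_left hcomm).smul_left v)

theorem dichotomy (p : ℕ) [Fact p.Prime] [CharP F p] (n r : ℕ) (hn : 2 ≤ n) (hr : r.Prime)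
    (hrq : r ∣ Fintype.card F - 1) (hrn : ¬ r ∣ n) (x : Matrix.ProjectiveSpecialLinearGroup (Fin n) F) :
    (∃ y : Matrix.ProjectiveSpecialLinearGroup (Fin n) F, Nat.lcm (orderOf x) r ∣ orderOf y) ∨
      orderOf x ∣ p ^ Nat.clog p n * torusOrder (Fintype.card F) n := by
  classical
  by_cases hrx : r ∣ orderOf x
  · exact Or.inl ⟨x, Nat.lcm_dvd dvd_rfl hrx⟩
  obtain ⟨A, rfl⟩ := slToPSL_surjective x
  haveI : Nonempty (Fin n) := ⟨⟨0, by omega⟩⟩
  set Am : Matrix (Fin n) (Fin n) F := (A : Matrix (Fin n) (Fin n) F)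
  set μ := minpoly F Am
  have hμ0 : μ ≠ 0 := minpoly.ne_zero (Matrix.isIntegral Am)
  obtain ⟨f, hf, hfμ⟩ := WfDvdMonoid.exists_irreducible_factor (minpoly.not_isUnit F Am) hμ0
  obtain ⟨w, hw, hfw⟩ :=
    (FiniteMultiplicity.of_not_isUnit hf.not_isUnit hμ0).exists_eq_pow_mul_and_not_dvd
  set k := multiplicity f μ
  by_cases hwu : IsUnit w
  · right
    haveI : Fact (Irreducible (f.map (iterateFrobenius F p (Nat.clog p n)))) :=
      ⟨by
        have := (MulEquiv.irreducible_iff (Polynomial.mapEquiv (iterateFrobeniusEquiv F p (Nat.clog p n))).toMulEquiv).2 hf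
        exact this⟩
    set e := Nat.clog p n
    have hkn : k ≤ p ^ e := by
      refine le_trans ?_ (Nat.le_pow_clog (Fact.out : p.Prime).one_lt n)
      have h1 : μ.natDegree ≤ n := by
        have := Polynomial.natDegree_le_of_dvd (Matrix.minpoly_dvd_charpoly Am) (Matrix.charpoly_monic _).ne_zero
        rwa [Matrix.charpoly_natDegree_eq_dim, Fintype.card_fin] at this
      rw [hw, Polynomial.natDegree_mul (pow_ne_zero _ hf.ne_zero) hwu.ne_zero, Polynomial.natDegree_pow] at h1
      have := hf.natDegree_pos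
      nlinarith
    have hB : aeval (Am ^ p ^ e) (f.map (iterateFrobenius F p e)) = 0 := by
      rw [← Polynomial.expand_aeval, ← Polynomial.map_expand, Polynomial.map_iterateFrobenius_expand]
      have hdvd : μ ∣ f ^ p ^ e := by
        rw [hw]
        exact (IsUnit.mul_right_dvd hwu).2 (pow_dvd_pow f hkn)
      obtain ⟨g, hg⟩ := hdvd
      rw [hg, map_mul, minpoly.aeval, zero_mul]
    obtain ⟨c, hc⟩ := det_eval_field n (by omega) (Am ^ p ^ e) _ hB (by rw [Matrix.det_pow, A.2, one_pow])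
      (torusOrder (Fintype.card F) n) (fun d mu hdm => hdm ▸ arith_key Fintype.card_pos)
    exact orderOf_dvd_of_pow_eq_one ((slToPSL_pow_eq_one_iff A _).2 ⟨c, by rw [pow_mul]; exact hc⟩)
  · left
    have hcop : IsCoprime (f ^ k) w := ((hf.coprime_iff_not_dvd).2 hfw).pow_left
    obtain ⟨a, b, hab⟩ := hcop
    have hz : ∀ g : F[X], μ ∣ g → aeval Am g = 0 := by
      rintro g ⟨g', rfl⟩
      rw [map_mul, minpoly.aeval, zero_mul]
    set Em := aeval Am (b * w)
    have hEm1 : 1 - Em = aeval Am (a * f ^ k) := by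
      rw [← map_one (aeval (R := F) Am), ← hab, map_add]
      exact add_sub_cancel_right _ _
    have hE : IsIdempotentElem Em := by
      have : Em * (1 - Em) = 0 := by
        rw [hEm1, ← map_mul]
        exact hz _ ⟨b * a, by rw [hw]; ring⟩
      rw [mul_sub, mul_one, sub_eq_zero] at this
      exact this.symm
    have hk0 : k ≠ 0 := by
      intro h0
      rw [h0, pow_zero, one_mul] at hw
      exact hfw (hw ▸ hfμ)
    have hE0 : Em ≠ 0 := by
      intro h
      have h1 : f ∣ b * w := hfμ.trans (minpoly.dvd F Am h)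
      have h2 : f ∣ a * f ^ k := dvd_mul_of_dvd_right (dvd_pow_self f hk0) a
      exact hf.not_isUnit (isUnit_of_dvd_one (hab ▸ dvd_add h2 h1))
    have hE1 : Em ≠ 1 := by
      intro h
      have h0 : aeval Am (a * f ^ k) = 0 := by rw [← hEm1, h, sub_self]
      have h1 : w ∣ a * f ^ k := (Dvd.intro_left _ hw.symm : w ∣ μ).trans (minpoly.dvd F Am h0)
      exact hwu (isUnit_of_dvd_one (hab ▸ dvd_add h1 (dvd_mul_left w b)))
    obtain ⟨R, hR, hRA⟩ := exists_commuting_root n r hn hr hrq hrn Am Em hE hE0 hE1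
      (by have := (Commute.all (b * w) (X : F[X])).map (aeval Am); rwa [aeval_X] at this)
    refine ⟨slToPSL n F A * slToPSL n F R, ?_⟩
    have hco : Nat.Coprime (orderOf (slToPSL n F A)) r := ((hr.coprime_iff_not_dvd).2 hrx).symm
    rw [((show Commute A R from Subtype.ext hRA.symm.eq).map _).orderOf_mul_eq_mul_orderOf_of_coprime (hR ▸ hco), hR,
      hco.lcm_eq_mul]

theorem lcm_mono {a b c d : ℕ} (h1 : a ∣ b) (h2 : c ∣ d) : Nat.lcm a c ∣ Nat.lcm b d :=
  Nat.lcm_dvd (h1.trans (Nat.dvd_lcm_left _ _)) (h2.trans (Nat.dvd_lcm_right _ _))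

theorem range_prod_eq {G C : Type*} [Group G] [Finite G] [Group C]
    (r : ℕ) (hC : ∀ c : C, c ^ r = 1) (h : ∀ g : G, ∃ g' : G, Nat.lcm (orderOf g) r ∣ orderOf g') :
    Set.range (orderOf : G × C → ℕ) = Set.range (orderOf : G → ℕ) := by
  ext k
  constructor
  · rintro ⟨⟨g, c⟩, rfl⟩
    obtain ⟨g', hg'⟩ := h g
    have hd : orderOf (g, c) ∣ orderOf g' := by
      rw [Prod.orderOf]
      exact (lcm_mono dvd_rfl (orderOf_dvd_of_pow_eq_one (hC c))).trans hg'
    exact ⟨g' ^ (orderOf g' / orderOf (g, c)), orderOf_pow_orderOf_div (orderOf_pos g').ne' hd⟩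
  · rintro ⟨g, rfl⟩
    exact ⟨(g, 1), by simp [Prod.orderOf]⟩

theorem range_congr {A B : Type*} [Monoid A] [Monoid B] (e : A ≃* B) :
    Set.range (orderOf : A → ℕ) = Set.range (orderOf : B → ℕ) := by
  ext k
  constructor
  · rintro ⟨a, rfl⟩; exact ⟨e a, e.orderOf_eq a⟩
  · rintro ⟨b, rfl⟩; exact ⟨e.symm b, e.symm.orderOf_eq b⟩

/-- Let F be a finite field with q = p^a elements, n ≥ 2 (with q ≥ 4 when n = 2), L = PSL(n, F), and let r be a prime dividing q − 1 and not dividing n. Then for every m the direct product L × L × L × (ℤ/r)^m has the same set of element orders as L × L × L; and if n − 1 ≠ p^j for every j ≥ 0 (so never when n = 2, since 1 = p^0), then already L × L × (ℤ/r)^m has the same set of element orders as L × L. -/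
theorem result {F : Type*} [Field F] [Fintype F] (p a n r m : ℕ) (hp : p.Prime) (ha : 1 ≤ a) (hF : Fintype.card F = p ^ a)
    (hn : 2 ≤ n) (hn2 : n = 2 → 4 ≤ Fintype.card F) (hr : r.Prime) (hrq : r ∣ Fintype.card F - 1) (hrn : ¬ r ∣ n) :
    Set.range (orderOf : Matrix.ProjectiveSpecialLinearGroup (Fin n) F × Matrix.ProjectiveSpecialLinearGroup (Fin n) F × Matrix.ProjectiveSpecialLinearGroup (Fin n) F × Multiplicative (Fin m → ZMod r) → ℕ) =
      Set.range (orderOf : Matrix.ProjectiveSpecialLinearGroup (Fin n) F × Matrix.ProjectiveSpecialLinearGroup (Fin n) F × Matrix.ProjectiveSpecialLinearGroup (Fin n) F → ℕ) ∧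
    ((¬ ∃ j : ℕ, n - 1 = p ^ j) →
      Set.range (orderOf : Matrix.ProjectiveSpecialLinearGroup (Fin n) F × Matrix.ProjectiveSpecialLinearGroup (Fin n) F × Multiplicative (Fin m → ZMod r) → ℕ) =
        Set.range (orderOf : Matrix.ProjectiveSpecialLinearGroup (Fin n) F × Matrix.ProjectiveSpecialLinearGroup (Fin n) F → ℕ)) := by
  classical
  haveI := Fact.mk hp
  haveI : CharP F p := charP_of_card_eq_prime_pow hF
  haveI : Finite (Matrix.ProjectiveSpecialLinearGroup (Fin n) F) := inferInstance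
  have hC : ∀ c : Multiplicative (Fin m → ZMod r), c ^ r = 1 := fun c => by
    refine Multiplicative.toAdd.injective (funext fun i => ?_)
    simp [toAdd_pow]
  set P := p ^ Nat.clog p n
  set T := torusOrder (Fintype.card F) n
  obtain ⟨t, ht⟩ := exists_order_torus (F := F) n (by omega)
  obtain ⟨u, hu⟩ := exists_order_unipotent (F := F) p n hn
  obtain ⟨R, hR, -⟩ := exists_order_root (F := F) n r hn hr hrq hrn
  have dich := dichotomy (F := F) p n r hn hr hrq hrn
  constructor
  · refine Eq.trans (range_congr ?_) (range_prod_eq r hC ?_)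
    · exact (MulEquiv.prodCongr (MulEquiv.refl _) (MulEquiv.prodAssoc).symm).trans MulEquiv.prodAssoc.symm
    rintro ⟨x, y, z⟩
    simp only [Prod.orderOf]
    rcases dich x with ⟨x', hx⟩ | hx
    · exact ⟨(x', y, z), by
        simp only [Prod.orderOf]
        refine Nat.lcm_dvd (lcm_mono ((Nat.dvd_lcm_left _ r).trans hx) dvd_rfl) ?_
        exact ((Nat.dvd_lcm_right _ r).trans hx).trans (Nat.dvd_lcm_left _ _)⟩
    rcases dich y with ⟨y', hy⟩ | hy
    · exact ⟨(x, y', z), by
        simp only [Prod.orderOf]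
        refine Nat.lcm_dvd (lcm_mono dvd_rfl (lcm_mono ((Nat.dvd_lcm_left _ r).trans hy) dvd_rfl)) ?_
        exact (((Nat.dvd_lcm_right _ r).trans hy).trans (Nat.dvd_lcm_left _ _)).trans (Nat.dvd_lcm_right _ _)⟩
    rcases dich z with ⟨z', hz⟩ | hz
    · exact ⟨(x, y, z'), by
        simp only [Prod.orderOf]
        refine Nat.lcm_dvd (lcm_mono dvd_rfl (lcm_mono dvd_rfl ((Nat.dvd_lcm_left _ r).trans hz))) ?_
        exact (((Nat.dvd_lcm_right _ r).trans hz).trans (Nat.dvd_lcm_right _ _)).trans (Nat.dvd_lcm_right _ _)⟩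
    refine ⟨(t, u, slToPSL n F R), ?_⟩
    simp only [Prod.orderOf, hR]
    have hPT : P * T ∣ Nat.lcm (orderOf t) (Nat.lcm (orderOf u) r) := by
      refine Nat.Coprime.mul_dvd_of_dvd_of_dvd ?_ ((hu.trans (Nat.dvd_lcm_left _ _)).trans (Nat.dvd_lcm_right _ _))
        (ht.trans (Nat.dvd_lcm_left _ _))
      refine Nat.Coprime.pow_left _ ((hp.coprime_iff_not_dvd).2 fun hd => ?_)
      exact torus_coprime hp ha hF n (by omega) hd
    refine Nat.lcm_dvd ((Nat.lcm_dvd hx (Nat.lcm_dvd hy hz)).trans hPT) ?_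
    exact (Nat.dvd_lcm_right _ _).trans (Nat.dvd_lcm_right _ _)
  · intro hnp
    obtain ⟨v, hv⟩ := exists_order_unipotent_root (F := F) p n r hn hr hrq hrn hnp
    refine Eq.trans (range_congr ?_) (range_prod_eq r hC ?_)
    · exact MulEquiv.prodAssoc.symm
    rintro ⟨x, y⟩
    simp only [Prod.orderOf]
    rcases dich x with ⟨x', hx⟩ | hx
    · exact ⟨(x', y), by
        simp only [Prod.orderOf]
        refine Nat.lcm_dvd (lcm_mono ((Nat.dvd_lcm_left _ r).trans hx) dvd_rfl) ?_
        exact ((Nat.dvd_lcm_right _ r).trans hx).trans (Nat.dvd_lcm_left _ _)⟩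
    rcases dich y with ⟨y', hy⟩ | hy
    · exact ⟨(x, y'), by
        simp only [Prod.orderOf]
        refine Nat.lcm_dvd (lcm_mono dvd_rfl ((Nat.dvd_lcm_left _ r).trans hy)) ?_
        exact ((Nat.dvd_lcm_right _ r).trans hy).trans (Nat.dvd_lcm_right _ _)⟩
    refine ⟨(t, v), ?_⟩
    simp only [Prod.orderOf]
    have hPT : P * T ∣ Nat.lcm (orderOf t) (orderOf v) := by
      refine Nat.Coprime.mul_dvd_of_dvd_of_dvd ?_ (((dvd_mul_right _ r).trans hv).trans (Nat.dvd_lcm_right _ _))
        (ht.trans (Nat.dvd_lcm_left _ _))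
      refine Nat.Coprime.pow_left _ ((hp.coprime_iff_not_dvd).2 fun hd => ?_)
      exact torus_coprime hp ha hF n (by omega) hd
    refine Nat.lcm_dvd ((Nat.lcm_dvd hx hy).trans hPT) ?_
    exact ((dvd_mul_left _ _).trans hv).trans (Nat.dvd_lcm_right _ _)

end Cfsg.Agent.S2510
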