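import Cfsg.Statements.S2511
import Mathlib
import Cfsg.Agent.Lib.Classical.UnitDichotomy


set_option autoImplicit false
open Cfsg

namespace Cfsg.Agent.S2511

open Cfsg.Agent.Classical

theorem range_prod_eq {G C : Type*} [Group G] [Finite G] [Group C]
    (r : ℕ) (hC : ∀ c : C, c ^ r = 1) (h : ∀ g : G, ∃ g' : G, orderOf g ∣ orderOf g' ∧ r ∣ orderOf g') :
    Set.range (orderOf : G × C → ℕ) = Set.range (orderOf : G → ℕ) := by
  ext k
  constructor
  · rintro ⟨⟨g, c⟩, rfl⟩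
    obtain ⟨g', hg, hr⟩ := h g
    have hd : orderOf (g, c) ∣ orderOf g' := by
      rw [Prod.orderOf]
      exact Nat.lcm_dvd hg ((orderOf_dvd_of_pow_eq_one (hC c)).trans hr)
    exact ⟨g' ^ (orderOf g' / orderOf (g, c)), orderOf_pow_orderOf_div (orderOf_pos g').ne' hd⟩
  · rintro ⟨g, rfl⟩
    exact ⟨(g, 1), by simp [Prod.orderOf]⟩

theorem range_congr {A B : Type*} [Monoid A] [Monoid B] (e : A ≃* B) :
    Set.range (orderOf : A → ℕ) = Set.range (orderOf : B → ℕ) := by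
  ext k
  constructor
  · rintro ⟨a, rfl⟩; exact ⟨e a, e.orderOf_eq a⟩
  · rintro ⟨b, rfl⟩; exact ⟨e.symm b, e.symm.orderOf_eq b⟩


/-- Let F be a finite field with q² elements, q = p^a, n ≥ 3 with (n, q) ≠ (3, 2), L = PSU(n, q) realised over F, and let r be a prime dividing q + 1 and not dividing n. Then for every m the direct product L × L × L × (ℤ/r)^m has the same set of element orders as L × L × L; and if n − 1 is not a power of p, then already L × L × (ℤ/r)^m has the same set of element orders as L × L. -/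
theorem result {F : Type*} [Field F] [Fintype F] (p a n q r m : ℕ) (hp : p.Prime) (ha : 1 ≤ a) (hq : q = p ^ a) (hF : Fintype.card F = q ^ 2)
    (hn : 3 ≤ n) (hn3 : ¬ (n = 3 ∧ q = 2)) (hr : r.Prime) (hrq : r ∣ q + 1) (hrn : ¬ r ∣ n) :
    Set.range (orderOf : Cfsg.PSU n F q × Cfsg.PSU n F q × Cfsg.PSU n F q × Multiplicative (Fin m → ZMod r) → ℕ) = Set.range (orderOf : Cfsg.PSU n F q × Cfsg.PSU n F q × Cfsg.PSU n F q → ℕ) ∧
    ((¬ ∃ j : ℕ, n - 1 = p ^ j) →
      Set.range (orderOf : Cfsg.PSU n F q × Cfsg.PSU n F q × Multiplicative (Fin m → ZMod r) → ℕ) = Set.range (orderOf : Cfsg.PSU n F q × Cfsg.PSU n F q → ℕ)) := by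
  classical
  haveI := Fact.mk hp
  haveI : CharP F p := charP_of_card_eq_prime_pow (f := 2 * a) (by rw [hF, hq, ← pow_mul, mul_comm])
  haveI : Finite (SU n F q) := Finite.of_injective suVal fun a b h => suVal_ext h
  haveI : Finite (PSU n F q) := inferInstance
  have hC : ∀ c : Multiplicative (Fin m → ZMod r), c ^ r = 1 := fun c => by
    refine Multiplicative.toAdd.injective (funext fun i => ?_)
    simp [toAdd_pow]
  set P := p ^ Nat.clog p n
  set T := psuTorus q n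
  obtain ⟨t, ht⟩ := exists_psu_torus (F := F) hF hq (by omega : 1 ≤ n)
  obtain ⟨u, hu⟩ := exists_psu_unipotent (F := F) hF p (by omega : 1 ≤ n)
  obtain ⟨v, hv⟩ := exists_psu_unipotent_root (F := F) hF ha hq hr hrq hrn (by omega : 2 ≤ n)
  have dich := psu_dichotomy (F := F) (p := p) hF hq (by omega : 1 ≤ n) hr hrq hrn
  have hPT : ∀ N, P ∣ N → T ∣ N → P * T ∣ N := fun N hP hT =>
    Nat.Coprime.mul_dvd_of_dvd_of_dvd (Nat.Coprime.pow_left _ ((hp.coprime_iff_not_dvd).2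
      (psuTorus_not_dvd hp ha hq (by omega : 1 ≤ n)))) hP hT
  have hL : ∀ {N a b : ℕ}, N ∣ a → N ∣ Nat.lcm a b := fun h => h.trans (Nat.dvd_lcm_left _ _)
  have hR : ∀ {N a b : ℕ}, N ∣ b → N ∣ Nat.lcm a b := fun h => h.trans (Nat.dvd_lcm_right _ _)
  constructor
  · refine Eq.trans (range_congr ?_) (range_prod_eq r hC ?_)
    · exact (MulEquiv.prodCongr (MulEquiv.refl _) (MulEquiv.prodAssoc).symm).trans MulEquiv.prodAssoc.symm
    rintro ⟨x, y, z⟩
    simp only [Prod.orderOf]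
    rcases dich x with ⟨x', hx, hxr⟩ | hx
    · refine ⟨(x', y, z), ?_, ?_⟩ <;> simp only [Prod.orderOf]
      · exact Nat.lcm_dvd (hL hx) (Nat.dvd_lcm_right _ _)
      · exact hL hxr
    rcases dich y with ⟨y', hy, hyr⟩ | hy
    · refine ⟨(x, y', z), ?_, ?_⟩ <;> simp only [Prod.orderOf]
      · exact Nat.lcm_dvd (Nat.dvd_lcm_left _ _) (hR (Nat.lcm_dvd (hL hy) (Nat.dvd_lcm_right _ _)))
      · exact hR (hL hyr)
    rcases dich z with ⟨z', hz, hzr⟩ | hz
    · refine ⟨(x, y, z'), ?_, ?_⟩ <;> simp only [Prod.orderOf]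
      · exact Nat.lcm_dvd (Nat.dvd_lcm_left _ _) (hR (Nat.lcm_dvd (Nat.dvd_lcm_left _ _) (hR hz)))
      · exact hR (hR hzr)
    refine ⟨(t, u, v), ?_, ?_⟩ <;> simp only [Prod.orderOf]
    · exact (Nat.lcm_dvd hx (Nat.lcm_dvd hy hz)).trans (hPT _ (hR (hL hu)) (hL ht))
    · exact hR (hR ((dvd_mul_left _ _).trans hv))
  · intro hnp
    have hvP : P ∣ orderOf v := by
      refine Dvd.dvd.trans (Nat.pow_dvd_pow p (Nat.clog_le_of_le_pow ?_)) ((dvd_mul_right _ _).trans hv)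
      have hle : n - 1 ≤ p ^ Nat.clog p (n - 1) := Nat.le_pow_clog hp.one_lt _
      have hne : n - 1 ≠ p ^ Nat.clog p (n - 1) := fun h => hnp ⟨_, h⟩
      omega
    refine Eq.trans (range_congr ?_) (range_prod_eq r hC ?_)
    · exact MulEquiv.prodAssoc.symm
    rintro ⟨x, y⟩
    simp only [Prod.orderOf]
    rcases dich x with ⟨x', hx, hxr⟩ | hx
    · refine ⟨(x', y), ?_, ?_⟩ <;> simp only [Prod.orderOf]
      · exact Nat.lcm_dvd (hL hx) (Nat.dvd_lcm_right _ _)
      · exact hL hxr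
    rcases dich y with ⟨y', hy, hyr⟩ | hy
    · refine ⟨(x, y'), ?_, ?_⟩ <;> simp only [Prod.orderOf]
      · exact Nat.lcm_dvd (Nat.dvd_lcm_left _ _) (hR hy)
      · exact hR hyr
    refine ⟨(t, v), ?_, ?_⟩ <;> simp only [Prod.orderOf]
    · exact (Nat.lcm_dvd hx hy).trans (hPT _ (hR hvP) (hL ht))
    · exact hR ((dvd_mul_left _ _).trans hv)

end Cfsg.Agent.S2511
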