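import Cfsg.Statements.S2512
import Mathlib
import Cfsg.Agent.Lib.Classical.SympOrders

set_option autoImplicit false
open Cfsg

namespace Cfsg.Agent.S2512

open Cfsg.Agent.Classical

theorem range_prod_eq {G C : Type*} [Group G] [Finite G] [Group C]
    (r : ℕ) (hC : ∀ c : C, c ^ r = 1) (h : ∀ g : G, ∃ g' : G, orderOf g ∣ orderOf g' ∧ r ∣ orderOf g') :
    Set.range (orderOf : G × C → ℕ) = Set.range (orderOf : G → ℕ) := by
  ext k
  constructor
  · rintro ⟨⟨g, c⟩, rfl⟩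
    obtain ⟨g', hg, hr⟩ := h g
    have hd : orderOf (g, c) ∣ orderOf g' := by
      rw [Prod.orderOf]
      exact Nat.lcm_dvd hg ((orderOf_dvd_of_pow_eq_one (hC c)).trans hr)
    exact ⟨g' ^ (orderOf g' / orderOf (g, c)), orderOf_pow_orderOf_div (orderOf_pos g').ne' hd⟩
  · rintro ⟨g, rfl⟩
    exact ⟨(g, 1), by simp [Prod.orderOf]⟩

theorem range_congr {A B : Type*} [Monoid A] [Monoid B] (e : A ≃* B) :
    Set.range (orderOf : A → ℕ) = Set.range (orderOf : B → ℕ) := by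
  ext k
  constructor
  · rintro ⟨a, rfl⟩; exact ⟨e a, e.orderOf_eq a⟩
  · rintro ⟨b, rfl⟩; exact ⟨e.symm b, e.symm.orderOf_eq b⟩

/-- Let F be a finite field of odd order q = p^a, n ≥ 2 (with q ≥ 3 automatic), and L = PSp(2n, F). Then for every m the direct product L × L × L × (ℤ/2)^m has the same set of element orders as L × L × L; and if 2n − 1 is not a power of p, then already L × L × (ℤ/2)^m has the same set of element orders as L × L. -/
theorem result {F : Type*} [Field F] [Fintype F] (p a n m : ℕ) (hp : p.Prime) (ha : 1 ≤ a) (hF : Fintype.card F = p ^ a) (hodd : Odd (Fintype.card F))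
    (hn : 2 ≤ n) :
    Set.range (orderOf : Cfsg.PSp n F × Cfsg.PSp n F × Cfsg.PSp n F × Multiplicative (Fin m → ZMod 2) → ℕ) = Set.range (orderOf : Cfsg.PSp n F × Cfsg.PSp n F × Cfsg.PSp n F → ℕ) ∧
    ((¬ ∃ j : ℕ, 2 * n - 1 = p ^ j) →
      Set.range (orderOf : Cfsg.PSp n F × Cfsg.PSp n F × Multiplicative (Fin m → ZMod 2) → ℕ) = Set.range (orderOf : Cfsg.PSp n F × Cfsg.PSp n F → ℕ)) := by
  classical
  haveI := Fact.mk hp
  haveI : CharP F p := charP_of_card_eq_prime_pow hF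
  haveI : Finite (PSp n F) := inferInstance
  have hpo : Odd p := by
    rw [hF] at hodd
    exact (Nat.odd_pow_iff (by omega)).1 hodd
  have h2 : (2 : F) ≠ 0 := fun h => by
    have h1 : p ∣ 2 := (CharP.cast_eq_zero_iff F p 2).1 (by exact_mod_cast h)
    rw [(Nat.prime_dvd_prime_iff_eq hp Nat.prime_two).1 h1] at hpo
    exact absurd hpo (by decide)
  set q := Fintype.card F
  have hqn : Odd (q ^ n) := hodd.pow
  obtain ⟨k, hk⟩ := hqn
  have hk1 : 1 ≤ k := by
    have : 2 ≤ q ^ n := le_trans Fintype.one_lt_card (Nat.le_self_pow (by omega) _)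
    omega
  set P := p ^ Nat.clog p (2 * n)
  have hC : ∀ c : Multiplicative (Fin m → ZMod 2), c ^ 2 = 1 := fun c => by
    refine Multiplicative.toAdd.injective (funext fun i => ?_)
    simp only [toAdd_pow, toAdd_one, Pi.smul_apply, Pi.zero_apply]
    exact ZModModule.char_nsmul_eq_zero 2 _
  have half : ∀ (T N : ℕ), Odd N → N ∣ 2 * T → N ∣ T := fun T N hN h =>
    (Nat.Coprime.dvd_of_dvd_mul_left hN.coprime_two_right h)
  obtain ⟨tp, htp⟩ : ∃ y : PSp n F, k + 1 ∣ orderOf y := by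
    obtain ⟨x, hx⟩ := exists_symp_order_add h2 (by omega : 1 ≤ n)
    refine ⟨spToPSp n F x, ?_⟩
    have := orderOf_dvd_two_mul_psp x
    rw [hx, show q ^ n + 1 = 2 * (k + 1) by omega] at this
    exact Nat.dvd_of_mul_dvd_mul_left two_pos this
  obtain ⟨tm, htm⟩ : ∃ y : PSp n F, k ∣ orderOf y := by
    obtain ⟨x, hx⟩ := exists_symp_order_sub (F := F) (by omega : 1 ≤ n)
    refine ⟨spToPSp n F x, ?_⟩
    have := orderOf_dvd_two_mul_psp x
    rw [hx, show q ^ n - 1 = 2 * k by omega] at this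
    exact Nat.dvd_of_mul_dvd_mul_left two_pos this
  obtain ⟨u, hu⟩ : ∃ y : PSp n F, P ∣ orderOf y := by
    obtain ⟨x, hx⟩ := exists_symp_regular_unipotent (F := F) p (by omega : 1 ≤ n)
    refine ⟨spToPSp n F x, half _ _ hpo.pow ?_⟩
    have := orderOf_dvd_two_mul_psp x
    rwa [hx] at this
  have dich : ∀ x : PSp n F, (∃ y : PSp n F, orderOf x ∣ orderOf y ∧ 2 ∣ orderOf y) ∨
      orderOf x ∣ P ∨ orderOf x ∣ k + 1 ∨ orderOf x ∣ k := by
    intro x
    rcases Nat.even_or_odd (orderOf x) with he | ho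
    · exact Or.inl ⟨x, dvd_rfl, even_iff_two_dvd.1 he⟩
    obtain ⟨A, -, hA⟩ := exists_odd_lift x ho
    rcases symp_dichotomy p h2 (by omega : 1 ≤ n) A (hA ▸ ho) with ⟨y, hy⟩ | h | h | h
    · exact Or.inl ⟨y, hA ▸ (dvd_mul_left _ 2).trans hy, (dvd_mul_right 2 _).trans hy⟩
    · exact Or.inr (Or.inl (hA ▸ h))
    · refine Or.inr (Or.inr (Or.inl (half _ _ ho ?_)))
      rw [← show q ^ n + 1 = 2 * (k + 1) by omega]
      exact hA ▸ h
    · refine Or.inr (Or.inr (Or.inr (half _ _ ho ?_)))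
      rw [← show q ^ n - 1 = 2 * k by omega]
      exact hA ▸ h
  have htwo : 2 ∣ k + 1 ∨ 2 ∣ k := by omega
  constructor
  · refine Eq.trans (range_congr ?_) (range_prod_eq 2 hC ?_)
    · exact (MulEquiv.prodCongr (MulEquiv.refl _) (MulEquiv.prodAssoc).symm).trans MulEquiv.prodAssoc.symm
    rintro ⟨x, y, z⟩
    simp only [Prod.orderOf]
    rcases dich x with ⟨x', hx, hx2⟩ | hx
    · refine ⟨(x', y, z), ?_, ?_⟩ <;> simp only [Prod.orderOf]
      · exact Nat.lcm_dvd (hx.trans (Nat.dvd_lcm_left _ _)) (Nat.dvd_lcm_right _ _)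
      · exact hx2.trans (Nat.dvd_lcm_left _ _)
    rcases dich y with ⟨y', hy, hy2⟩ | hy
    · refine ⟨(x, y', z), ?_, ?_⟩ <;> simp only [Prod.orderOf]
      · exact Nat.lcm_dvd (Nat.dvd_lcm_left _ _)
          ((Nat.lcm_dvd (hy.trans (Nat.dvd_lcm_left _ _)) (Nat.dvd_lcm_right _ _)).trans (Nat.dvd_lcm_right _ _))
      · exact (hy2.trans (Nat.dvd_lcm_left _ _)).trans (Nat.dvd_lcm_right _ _)
    rcases dich z with ⟨z', hz, hz2⟩ | hz
    · refine ⟨(x, y, z'), ?_, ?_⟩ <;> simp only [Prod.orderOf]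
      · exact Nat.lcm_dvd (Nat.dvd_lcm_left _ _)
          ((Nat.lcm_dvd (Nat.dvd_lcm_left _ _) (hz.trans (Nat.dvd_lcm_right _ _))).trans (Nat.dvd_lcm_right _ _))
      · exact (hz2.trans (Nat.dvd_lcm_right _ _)).trans (Nat.dvd_lcm_right _ _)
    refine ⟨(tp, tm, u), ?_, ?_⟩ <;> simp only [Prod.orderOf]
    · have hall : ∀ {N : ℕ}, (N ∣ P ∨ N ∣ k + 1 ∨ N ∣ k) →
          N ∣ Nat.lcm (orderOf tp) (Nat.lcm (orderOf tm) (orderOf u)) := by
        rintro N (h | h | h)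
        · exact ((h.trans hu).trans (Nat.dvd_lcm_right _ _)).trans (Nat.dvd_lcm_right _ _)
        · exact (h.trans htp).trans (Nat.dvd_lcm_left _ _)
        · exact ((h.trans htm).trans (Nat.dvd_lcm_left _ _)).trans (Nat.dvd_lcm_right _ _)
      exact Nat.lcm_dvd (hall hx) (Nat.lcm_dvd (hall hy) (hall hz))
    · rcases htwo with h | h
      · exact (h.trans htp).trans (Nat.dvd_lcm_left _ _)
      · exact ((h.trans htm).trans (Nat.dvd_lcm_left _ _)).trans (Nat.dvd_lcm_right _ _)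
  · intro hnp
    obtain ⟨v, hvP, hv2⟩ : ∃ v : PSp n F, P ∣ orderOf v ∧ 2 ∣ orderOf v := by
      obtain ⟨x, hx⟩ := exists_symp_regular_unipotent (F := F) p (by omega : 1 ≤ n - 1)
      obtain ⟨v, hv⟩ := exists_psp_lcm h2 (by omega : 1 + (n - 1) = n) (by omega : 1 ≤ n - 1)
        (sympNegOne 1 F) x (by rw [hx]; exact hpo.pow)
      have h1 : orderOf (sympNegOne 1 F) = 2 :=
        orderOf_eq_prime (hp := ⟨Nat.prime_two⟩) (sympNegOne_sq 1) (sympNegOne_ne_one h2 le_rfl)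
      rw [h1, hx] at hv
      refine ⟨v, Dvd.dvd.trans (Nat.pow_dvd_pow p (Nat.clog_le_of_le_pow ?_)) ((Nat.dvd_lcm_right _ _).trans hv),
        (Nat.dvd_lcm_left _ _).trans hv⟩
      set c := Nat.clog p (2 * (n - 1))
      have hle : 2 * (n - 1) ≤ p ^ c := Nat.le_pow_clog hp.one_lt _
      have ho : Odd (p ^ c) := hpo.pow
      obtain ⟨r, hr⟩ := ho
      have hne : 2 * n - 1 ≠ p ^ c := fun h => hnp ⟨c, h⟩
      omega
    refine Eq.trans (range_congr ?_) (range_prod_eq 2 hC ?_)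
    · exact MulEquiv.prodAssoc.symm
    rintro ⟨x, y⟩
    simp only [Prod.orderOf]
    rcases dich x with ⟨x', hx, hx2⟩ | hx
    · refine ⟨(x', y), ?_, ?_⟩ <;> simp only [Prod.orderOf]
      · exact Nat.lcm_dvd (hx.trans (Nat.dvd_lcm_left _ _)) (Nat.dvd_lcm_right _ _)
      · exact hx2.trans (Nat.dvd_lcm_left _ _)
    rcases dich y with ⟨y', hy, hy2⟩ | hy
    · refine ⟨(x, y'), ?_, ?_⟩ <;> simp only [Prod.orderOf]
      · exact Nat.lcm_dvd (Nat.dvd_lcm_left _ _) (hy.trans (Nat.dvd_lcm_right _ _))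
      · exact hy2.trans (Nat.dvd_lcm_right _ _)
    have mk : ∀ g h : PSp n F, orderOf x ∣ Nat.lcm (orderOf g) (orderOf h) →
        orderOf y ∣ Nat.lcm (orderOf g) (orderOf h) → 2 ∣ Nat.lcm (orderOf g) (orderOf h) →
        ∃ g' : PSp n F × PSp n F, Nat.lcm (orderOf x) (orderOf y) ∣ Nat.lcm (orderOf g'.1) (orderOf g'.2) ∧
          2 ∣ Nat.lcm (orderOf g'.1) (orderOf g'.2) :=
      fun g h h1 h2 h3 => ⟨(g, h), Nat.lcm_dvd h1 h2, h3⟩
    have L : ∀ {N a b : ℕ}, N ∣ a → N ∣ Nat.lcm a b := fun h => h.trans (Nat.dvd_lcm_left _ _)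
    have R : ∀ {N a b : ℕ}, N ∣ b → N ∣ Nat.lcm a b := fun h => h.trans (Nat.dvd_lcm_right _ _)
    rcases hx with hx | hx | hx <;> rcases hy with hy | hy | hy
    · exact mk v v (L (hx.trans hvP)) (L (hy.trans hvP)) (L hv2)
    · exact mk v tp (L (hx.trans hvP)) (R (hy.trans htp)) (L hv2)
    · exact mk v tm (L (hx.trans hvP)) (R (hy.trans htm)) (L hv2)
    · exact mk tp v (L (hx.trans htp)) (R (hy.trans hvP)) (R hv2)
    · exact mk tp v (L (hx.trans htp)) (L (hy.trans htp)) (R hv2)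
    · exact mk tp tm (L (hx.trans htp)) (R (hy.trans htm))
        (htwo.elim (fun h => L (h.trans htp)) fun h => R (h.trans htm))
    · exact mk tm v (L (hx.trans htm)) (R (hy.trans hvP)) (R hv2)
    · exact mk tp tm (R (hx.trans htm)) (L (hy.trans htp))
        (htwo.elim (fun h => L (h.trans htp)) fun h => R (h.trans htm))
    · exact mk tm v (L (hx.trans htm)) (L (hy.trans htm)) (R hv2)

end Cfsg.Agent.S2512
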