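import Mathlib
import Cfsg.Statements.S2513

set_option autoImplicit false
open Cfsg

namespace Cfsg.Agent.S2513

open Polynomial

/-- lcm of `2^d - 1` over `n/2 < d ≤ n`. -/
def oddPart (n : ℕ) : ℕ := (Finset.Ioc (n / 2) n).lcm (fun d => 2 ^ d - 1)

theorem oddPart_dvd {n d : ℕ} (hd : 1 ≤ d) (hdn : d ≤ n) : 2 ^ d - 1 ∣ oddPart n := by
  have h1 : n / d * d ∈ Finset.Ioc (n / 2) n := by
    rw [Finset.mem_Ioc]
    refine ⟨?_, Nat.div_mul_le_self n d⟩
    have h := Nat.lt_div_mul_add (a := n) (b := d) (by omega)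
    have h' : 1 ≤ n / d := Nat.div_pos hdn (by omega)
    have : d ≤ n / d * d := by nlinarith
    omega
  refine dvd_trans ?_ (Finset.dvd_lcm h1)
  exact Nat.pow_sub_one_dvd_pow_sub_one 2 ⟨n / d, by ring⟩

theorem oddPart_odd (n : ℕ) : Nat.Coprime 2 (oddPart n) := by
  have key : ∀ s : Finset ℕ, (∀ d ∈ s, 1 ≤ d) → ¬ 2 ∣ s.lcm (fun d => 2 ^ d - 1) := by
    intro s hs
    induction s using Finset.induction_on with
    | empty => simp
    | insert a s ha ih =>
      rw [Finset.lcm_insert]
      intro h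
      have h2 : 2 ∣ (2 ^ a - 1) * s.lcm (fun d => 2 ^ d - 1) :=
        h.trans (lcm_dvd_mul _ _)
      rcases (Nat.prime_two.dvd_mul).1 h2 with h3 | h3
      · have : 2 ∣ 2 ^ a := dvd_pow_self 2 (by have := hs a (by simp); omega)
        have : 1 ≤ 2 ^ a := Nat.one_le_two_pow
        omega
      · exact ih (fun d hd => hs d (by simp [hd])) h3
  refine (Nat.prime_two.coprime_iff_not_dvd).2 (key _ ?_)
  intro d hd
  have := (Finset.mem_Ioc.1 hd).1
  omega

theorem matrix_pow_eq_one {F : Type*} [Field F] [Fintype F] (hF : Fintype.card F = 2) [CharP F 2] {n e : ℕ}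
    (he : n ≤ 2 ^ e) (A : Matrix (Fin n) (Fin n) F) (hA : A.det ≠ 0) :
    A ^ (oddPart n * 2 ^ e) = 1 := by
  classical
  set M := oddPart n
  have hc : A.charpoly ∣ (X ^ M - 1 : F[X]) ^ (2 ^ e) := by
    have hm := A.charpoly_monic
    have hne := hm.ne_zero
    have hfac : ∀ f ∈ UniqueFactorizationMonoid.normalizedFactors A.charpoly,
        f ∣ (X ^ M - 1 : F[X]) := by
      intro f hf
      have hirr := UniqueFactorizationMonoid.irreducible_of_normalized_factor f hf
      have hdvd := UniqueFactorizationMonoid.dvd_of_mem_normalizedFactors hf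
      have hd : f.natDegree ≤ n := by
        have := natDegree_le_of_dvd hdvd hne
        rwa [Matrix.charpoly_natDegree_eq_dim, Fintype.card_fin] at this
      have hd1 : 1 ≤ f.natDegree := hirr.natDegree_pos
      have h2 : f ∣ (X ^ (2 ^ f.natDegree) - X : F[X]) := by
        have := hirr.natDegree_dvd_iff_dvd_X_pow_card_pow_sub_X.1 (dvd_refl f.natDegree)
        rwa [Nat.card_eq_fintype_card, hF] at this
      have h3 : (X ^ (2 ^ f.natDegree) - X : F[X]) = X * (X ^ (2 ^ f.natDegree - 1) - 1) := by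
        have hp : 2 ^ f.natDegree - 1 + 1 = 2 ^ f.natDegree := Nat.sub_add_cancel Nat.one_le_two_pow
        rw [mul_sub, mul_one, ← pow_succ', hp]
      rw [h3] at h2
      rcases hirr.prime.dvd_or_dvd h2 with h4 | h4
      · exfalso
        have hX : Associated f X := hirr.associated_of_dvd irreducible_X h4
        have : (X : F[X]) ∣ A.charpoly := hX.symm.dvd.trans hdvd
        rw [X_dvd_iff] at this
        apply hA
        rw [Matrix.det_eq_sign_charpoly_coeff, this, mul_zero]
      · exact h4.trans (pow_one_sub_dvd_pow_mul_sub_one X (2 ^ f.natDegree - 1) 1 |>.trans (by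
          obtain ⟨c, hc⟩ := oddPart_dvd hd1 hd
          rw [mul_one]
          show X ^ (2 ^ f.natDegree - 1) - 1 ∣ X ^ M - 1
          rw [show M = (2 ^ f.natDegree - 1) * c from hc, pow_mul]
          exact sub_one_dvd_pow_sub_one _ _))
    have hcard : (UniqueFactorizationMonoid.normalizedFactors A.charpoly).card ≤ 2 ^ e := by
      refine le_trans ?_ he
      have hassoc := (UniqueFactorizationMonoid.prod_normalizedFactors hne).symm
      have hdeg : A.charpoly.natDegree = (UniqueFactorizationMonoid.normalizedFactors A.charpoly).prod.natDegree := by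
        exact natDegree_eq_of_degree_eq (degree_eq_degree_of_associated hassoc)
      rw [Matrix.charpoly_natDegree_eq_dim, Fintype.card_fin] at hdeg
      refine le_of_le_of_eq ?_ hdeg.symm
      rw [natDegree_multiset_prod _ (UniqueFactorizationMonoid.zero_notMem_normalizedFactors _)]
      calc _ = (Multiset.map (fun _ => 1) (UniqueFactorizationMonoid.normalizedFactors A.charpoly)).sum := by simp
        _ ≤ _ := Multiset.sum_map_le_sum_map _ _ (fun f hf =>
            (UniqueFactorizationMonoid.irreducible_of_normalized_factor f hf).natDegree_pos)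
    refine (UniqueFactorizationMonoid.prod_normalizedFactors hne).symm.dvd.trans ?_
    refine dvd_trans ?_ (pow_dvd_pow _ hcard)
    have key : ∀ s : Multiset F[X], (∀ f ∈ s, f ∣ (X ^ M - 1 : F[X])) → s.prod ∣ (X ^ M - 1 : F[X]) ^ s.card := by
      intro s hs
      induction s using Multiset.induction_on with
      | empty => simp
      | cons a s ih =>
        rw [Multiset.prod_cons, Multiset.card_cons, pow_succ']
        exact mul_dvd_mul (hs a (by simp)) (ih fun f hf => hs f (by simp [hf]))
    exact key _ hfac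
  rw [sub_pow_char_pow, one_pow, ← pow_mul] at hc
  obtain ⟨g, hg⟩ := hc
  have := congrArg (aeval A) hg
  simp only [map_mul, Matrix.aeval_self_charpoly, zero_mul, map_sub, map_pow, aeval_X, map_one] at this
  exact sub_eq_zero.1 this

theorem exists_unipotent {F : Type*} [Field F] [CharP F 2] (n : ℕ) :
    ∃ A : Matrix (Fin n) (Fin n) F, IsUnit A ∧ (∀ j, n ≤ 2 ^ j → A ^ (2 ^ j) = 1) ∧
      ∀ j, A ^ (2 ^ j) = 1 → n ≤ 2 ^ j := by
  let N : Matrix (Fin n) (Fin n) F := Matrix.of fun i j => if (j : ℕ) = i + 1 then 1 else 0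
  have hN : ∀ m, ∀ i j : Fin n, (N ^ m) i j = if (j : ℕ) = i + m then 1 else 0 := by
    intro m
    induction m with
    | zero =>
      intro i j
      simp [Matrix.one_apply, Fin.ext_iff, eq_comm]
    | succ m ih =>
      intro i j
      rw [pow_succ, Matrix.mul_apply]
      simp only [ih, N, Matrix.of_apply]
      by_cases h : (i : ℕ) + m < n
      · rw [Finset.sum_eq_single ⟨i + m, h⟩]
        · simp [add_assoc]
        · intro b _ hb
          rw [if_neg, zero_mul]
          exact fun h' => hb (Fin.ext h')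
        · simp
      · rw [if_neg (by omega)]
        refine Finset.sum_eq_zero fun b _ => ?_
        rw [if_neg (by omega), zero_mul]
  have hnil : IsNilpotent N := ⟨n, by ext i j; rw [hN, if_neg (by omega)]; rfl⟩
  rcases Nat.eq_zero_or_pos n with hn | hn
  · exact ⟨1, isUnit_one, fun j _ => one_pow _, fun j _ => by simp [hn]⟩
  haveI : Nonempty (Fin n) := ⟨⟨0, hn⟩⟩
  haveI : CharP (Matrix (Fin n) (Fin n) F) 2 := inferInstance
  refine ⟨1 + N, hnil.isUnit_one_add, fun j hj => ?_, fun j hj => ?_⟩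
  · rw [add_pow_char_pow_of_commute _ _ (Commute.one_left N), one_pow, add_eq_left]
    ext a c
    rw [hN, if_neg (by omega)]
    rfl
  by_contra hcon
  rw [add_pow_char_pow_of_commute _ _ (Commute.one_left N), one_pow, add_eq_left] at hj
  have := congrFun (congrFun hj ⟨0, hn⟩) ⟨2 ^ j, by omega⟩
  rw [hN] at this
  simp at this

theorem exists_singer (n d : ℕ) (hd : 1 ≤ d) (hdn : d ≤ n) :
    ∃ A : (Matrix (Fin n) (Fin n) (ZMod 2))ˣ, 2 ^ d - 1 ∣ orderOf A := by
  classical
  let K := GaloisField 2 d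
  obtain ⟨u, hu⟩ := IsCyclic.exists_generator (α := Kˣ)
  have hu' : orderOf u = 2 ^ d - 1 := by
    rw [orderOf_eq_card_of_forall_mem_zpowers hu, Nat.card_units, GaloisField.card 2 d (by omega)]
  let V := K × (Fin (n - d) → ZMod 2)
  have hfr : Module.finrank (ZMod 2) V = n := by
    rw [Module.finrank_prod, GaloisField.finrank 2 (by omega : d ≠ 0), Module.finrank_fin_fun]
    omega
  let b := Module.finBasisOfFinrankEq (ZMod 2) V hfr
  let φ : K →* Module.End (ZMod 2) V :=
    { toFun := fun x => (LinearMap.mulLeft (ZMod 2) x).prodMap LinearMap.id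
      map_one' := by ext v <;> simp
      map_mul' := fun x y => by
        refine LinearMap.ext fun v => Prod.ext ?_ ?_
        · simp [mul_assoc]
        · simp }
  have hφ : Function.Injective φ := by
    intro x y h
    have : x * 1 = y * 1 := congrArg (fun f : Module.End (ZMod 2) V => (f (1, 0)).1) h
    simpa using this
  let ψ : K →* Matrix (Fin n) (Fin n) (ZMod 2) := ((LinearMap.toMatrixAlgEquiv b).toMonoidHom).comp φ
  have hψ : Function.Injective ψ := (LinearMap.toMatrixAlgEquiv b).injective.comp hφ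
  exact ⟨Units.map ψ u, by rw [orderOf_injective _ (Units.map_injective hψ) u, hu']⟩

theorem range_eq {F : Type*} [Field F] [Fintype F] (hF : Fintype.card F = 2) (n k : ℕ) (hn : 2 ≤ n)
    (hk : (n + 3) / 2 ≤ k) :
    Set.range (orderOf : (Fin k → Matrix.ProjectiveSpecialLinearGroup (Fin n) F) → ℕ) =
      {m | m ∣ oddPart n * 2 ^ Nat.clog 2 n} := by
  classical
  haveI : CharP F 2 := by
    obtain ⟨p, hp⟩ := CharP.exists F
    haveI := hp
    obtain ⟨e, hpr, he⟩ := FiniteField.card F p
    rw [hF] at he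
    have : p ∣ 2 := he ▸ dvd_pow_self p e.ne_zero
    rcases (Nat.dvd_prime Nat.prime_two).1 this with h | h
    · exact absurd h hpr.ne_one
    · exact h ▸ hp
  have hunit : ∀ x : F, x ≠ 0 → x = 1 := fun x hx => by
    have h := FiniteField.pow_card_sub_one_eq_one x hx
    rwa [hF, show 2 - 1 = 1 from rfl, pow_one] at h
  have hdet : ∀ A : Matrix (Fin n) (Fin n) F, IsUnit A → A.det = 1 := fun A hA =>
    hunit _ ((Matrix.isUnit_iff_isUnit_det A).1 hA).ne_zero
  set e := Nat.clog 2 n with he
  have hne : n ≤ 2 ^ e := Nat.le_pow_clog (by norm_num) n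
  set E := oddPart n * 2 ^ e with hE
  let π : Matrix.SpecialLinearGroup (Fin n) F →* Matrix.ProjectiveSpecialLinearGroup (Fin n) F :=
    QuotientGroup.mk' _
  have hπ : Function.Injective π := by
    refine (MonoidHom.ker_eq_bot_iff π).1 ?_
    rw [QuotientGroup.ker_mk', eq_bot_iff]
    intro g hg
    obtain ⟨r, hr, hg'⟩ := Matrix.SpecialLinearGroup.mem_center_iff.1 hg
    have : r = 1 := hunit r (by
      intro h0
      rw [h0, zero_pow (by simp; omega)] at hr
      exact zero_ne_one hr)
    rw [this, map_one] at hg'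
    exact Subgroup.mem_bot.2 (Subtype.ext hg'.symm)
  have hexp : ∀ g : Matrix.ProjectiveSpecialLinearGroup (Fin n) F, g ^ E = 1 := by
    intro g
    obtain ⟨A, rfl⟩ := QuotientGroup.mk'_surjective _ g
    rw [← map_pow, show A ^ E = 1 from Subtype.ext (by
      simpa using matrix_pow_eq_one hF hne (A : Matrix (Fin n) (Fin n) F) (by simp)), map_one]
  ext m
  constructor
  · rintro ⟨f, rfl⟩
    exact orderOf_dvd_of_pow_eq_one (funext fun i => hexp (f i))
  intro hm
  -- witnesses
  obtain ⟨U, hU, hU1, hU2⟩ := exists_unipotent (F := F) n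
  let gU : Matrix.SpecialLinearGroup (Fin n) F := ⟨U, hdet U hU⟩
  have hgU : 2 ^ e ∣ orderOf (π gU) := by
    rw [orderOf_injective π hπ]
    have hd : orderOf gU ∣ 2 ^ e :=
      orderOf_dvd_of_pow_eq_one (Subtype.ext ((Matrix.SpecialLinearGroup.coe_pow gU _).trans (hU1 e hne)))
    obtain ⟨j, -, hj⟩ := (Nat.dvd_prime_pow Nat.prime_two).1 hd
    have h1 := congrArg Subtype.val (pow_orderOf_eq_one gU)
    rw [hj] at h1 ⊢
    exact Nat.pow_dvd_pow 2 (Nat.clog_le_of_le_pow (hU2 j ((Matrix.SpecialLinearGroup.coe_pow gU _).symm.trans h1)))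
  obtain ⟨r⟩ : Nonempty (ZMod 2 ≃+* F) :=
    ⟨(ZMod.ringEquivOfPrime F Nat.prime_two (by rw [hF]))⟩
  have hgd : ∀ d, 1 ≤ d → d ≤ n →
      ∃ g : Matrix.ProjectiveSpecialLinearGroup (Fin n) F, 2 ^ d - 1 ∣ orderOf g := by
    intro d h1 h2
    obtain ⟨A, hA⟩ := exists_singer n d h1 h2
    let ρ : Matrix (Fin n) (Fin n) (ZMod 2) ≃+* Matrix (Fin n) (Fin n) F := r.mapMatrix
    let g : Matrix.SpecialLinearGroup (Fin n) F :=
      ⟨ρ A, hdet _ (A.isUnit.map ρ)⟩
    refine ⟨π g, ?_⟩
    rw [orderOf_injective π hπ]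
    refine hA.trans (orderOf_dvd_of_pow_eq_one (Units.ext (ρ.injective ?_)))
    rw [Units.val_pow_eq_pow_val, map_pow, Units.val_one, map_one]
    exact congrArg Subtype.val (pow_orderOf_eq_one g)
  choose gd hgd using hgd
  let f : Fin k → Matrix.ProjectiveSpecialLinearGroup (Fin n) F := fun i =>
    if h : n / 2 + 1 + (i : ℕ) ≤ n then gd (n / 2 + 1 + i) (by omega) h else π gU
  have hfE : orderOf f = E := by
    refine Nat.dvd_antisymm (orderOf_dvd_of_pow_eq_one (funext fun i => hexp (f i))) ?_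
    have hproj : ∀ i, orderOf (f i) ∣ orderOf f := fun i =>
      orderOf_dvd_of_pow_eq_one (congrFun (pow_orderOf_eq_one f) i)
    refine Nat.Coprime.mul_dvd_of_dvd_of_dvd ((oddPart_odd n).symm.pow_right e) ?_ ?_
    · refine Finset.lcm_dvd fun d hd => ?_
      rw [Finset.mem_Ioc] at hd
      have hi : d - (n / 2 + 1) < k := by omega
      refine dvd_trans ?_ (hproj ⟨_, hi⟩)
      have heq : n / 2 + 1 + (d - (n / 2 + 1)) = d := by omega
      simp only [f]
      rw [dif_pos (by omega)]
      simp only [heq]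
      exact hgd d _ _
    · refine dvd_trans ?_ (hproj ⟨k - 1, by omega⟩)
      simp only [f]
      rw [dif_neg (by omega)]
      exact hgU
  have hmE : m ≠ 0 := by
    rintro rfl
    have := Nat.zero_dvd.1 hm
    rcases mul_eq_zero.1 this with h | h
    · have := oddPart_odd n
      rw [h] at this
      norm_num at this
    · simp at h
  refine ⟨f ^ (E / m), ?_⟩
  have hE0 : E ≠ 0 := by rw [← hfE]; exact (orderOf_pos f).ne'
  rw [orderOf_pow_of_dvd (Nat.div_pos (Nat.le_of_dvd (by omega) hm) (by omega)).ne'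
    (by rw [hfE]; exact Nat.div_dvd_of_dvd hm), hfE, Nat.div_div_self hm hE0]

theorem result {F : Type*} [Field F] [Fintype F] (hF : Fintype.card F = 2) (n k : ℕ) (hn : 2 ≤ n) (hk : (n + 3) / 2 ≤ k) :
    Set.range (orderOf : (Fin k → Matrix.ProjectiveSpecialLinearGroup (Fin n) F) → ℕ) = Set.range (orderOf : (Fin ((n + 3) / 2) → Matrix.ProjectiveSpecialLinearGroup (Fin n) F) → ℕ) := by
  rw [range_eq hF n k hn hk, range_eq hF n _ hn le_rfl]

end Cfsg.Agent.S2513
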