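import Cfsg.Statements.S2514
-- import your own Cfsg.Agent.* helpers here

set_option autoImplicit false
open Cfsg

namespace Cfsg.Agent.S2514


universe u
theorem ext_dvd {A : Type*} {B : Type*} [Monoid A] [Monoid B] (a : A) (b : B)
    (hd : ∀ d, orderOf a ∣ d ↔ orderOf b ∣ d) : orderOf a = orderOf b :=
  Nat.dvd_antisymm ((hd _).2 dvd_rfl) ((hd _).1 dvd_rfl)

theorem below {A : Type u} [Group A] [Finite A] (a : A) (d : ℕ) (hd : d ∣ orderOf a) : ∃ b : A, orderOf b = d :=
  ⟨a ^ (orderOf a / d), orderOf_pow_orderOf_div (orderOf_pos a).ne' hd⟩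

theorem above {A : Type u} [Group A] [Finite A] (a : A) : ∃ m,
    (m ∈ Set.range (orderOf : A → ℕ) ∧ ∀ l ∈ Set.range (orderOf : A → ℕ), m ∣ l → l = m) ∧ orderOf a ∣ m := by
  set S := {m ∈ Set.range (orderOf : A → ℕ) | orderOf a ∣ m}
  have hfin : S.Finite := (Set.finite_range _).subset fun _ h => h.1
  obtain ⟨m, hm, hmax⟩ := hfin.toFinset.exists_max_image id ⟨orderOf a, hfin.mem_toFinset.2 ⟨⟨a, rfl⟩, dvd_rfl⟩⟩
  rw [hfin.mem_toFinset] at hm
  refine ⟨m, ⟨hm.1, fun l hl hdl => ?_⟩, hm.2⟩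
  refine le_antisymm (hmax l (hfin.mem_toFinset.2 ⟨hl, hm.2.trans hdl⟩)) (Nat.le_of_dvd ?_ hdl)
  obtain ⟨b, rfl⟩ := hl
  exact orderOf_pos b

/-- For a finite group X write μ(X) for the set of element orders of X that are maximal under divisibility. Let G and H be finite groups and k ≥ 1 such that μ(H) ⊆ μ(G) and μ(G) has fewer than k elements outside μ(H). Then the direct product of k copies of G has the same set of element orders as the direct product of k − 1 copies of G with H. -/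
theorem result {G H : Type*} [Group G] [Finite G] [Group H] [Finite H] (k : ℕ) (hk : 1 ≤ k)
    (hsub : {n : ℕ | n ∈ Set.range (orderOf : H → ℕ) ∧ ∀ m ∈ Set.range (orderOf : H → ℕ), n ∣ m → m = n} ⊆ {n : ℕ | n ∈ Set.range (orderOf : G → ℕ) ∧ ∀ m ∈ Set.range (orderOf : G → ℕ), n ∣ m → m = n})
    (hfew : ({n : ℕ | n ∈ Set.range (orderOf : G → ℕ) ∧ ∀ m ∈ Set.range (orderOf : G → ℕ), n ∣ m → m = n} \ {n : ℕ | n ∈ Set.range (orderOf : H → ℕ) ∧ ∀ m ∈ Set.range (orderOf : H → ℕ), n ∣ m → m = n}).ncard < k) :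
    Set.range (orderOf : (Fin k → G) → ℕ) = Set.range (orderOf : (Fin (k - 1) → G) × H → ℕ) := by
  classical
  obtain ⟨k, rfl⟩ : ∃ j, k = j + 1 := ⟨k - 1, by omega⟩
  have hpi : ∀ {j : ℕ} (f : Fin j → G) d, orderOf f ∣ d ↔ ∀ i, orderOf (f i) ∣ d := fun f d => by
    simp [orderOf_dvd_iff_pow_eq_one, funext_iff]
  have hprod : ∀ (f : Fin k → G) (y : H) d, orderOf (f, y) ∣ d ↔ (∀ i, orderOf (f i) ∣ d) ∧ orderOf y ∣ d :=
    fun f y d => by simp [orderOf_dvd_iff_pow_eq_one, Prod.ext_iff, funext_iff]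
  apply Set.Subset.antisymm
  · rintro _ ⟨f, rfl⟩
    choose M hM hMd using fun i => above (f i)
    show ∃ p : (Fin k → G) × H, orderOf p = orderOf f
    by_cases hin : ∃ i, M i ∈ Set.range (orderOf : H → ℕ) ∧ ∀ l ∈ Set.range (orderOf : H → ℕ), M i ∣ l → l = M i
    · obtain ⟨i, ⟨y, hy⟩, -⟩ := hin
      obtain ⟨y', hy'⟩ := below y (orderOf (f i)) (hy ▸ hMd i)
      refine ⟨(f ∘ i.succAbove, y'), ext_dvd _ _ fun d => ?_⟩
      rw [hprod, hpi, hy', Fin.forall_iff_succAbove i, and_comm]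
      rfl
    · push Not at hin
      obtain ⟨i, -, j, -, hij, hMij⟩ := Set.exists_ne_map_eq_of_ncard_lt_of_maps_to (s := (Set.univ : Set (Fin (k + 1))))
        (t := {n : ℕ | n ∈ Set.range (orderOf : G → ℕ) ∧ ∀ m ∈ Set.range (orderOf : G → ℕ), n ∣ m → m = n} \
          {n : ℕ | n ∈ Set.range (orderOf : H → ℕ) ∧ ∀ m ∈ Set.range (orderOf : H → ℕ), n ∣ m → m = n})
        (by rw [Set.ncard_univ, Nat.card_fin]; exact hfew) (f := M)
        (fun i _ => ⟨hM i, fun hc => by
          obtain ⟨l, hl, hd, hne⟩ := hin i hc.1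
          exact hne (hc.2 l hl hd)⟩)
        ((Set.finite_range (orderOf : G → ℕ)).subset fun _ h => h.1.1)
      obtain ⟨a, ha⟩ := (hM i).1
      obtain ⟨b, hb⟩ := below a (Nat.lcm (orderOf (f i)) (orderOf (f j)))
        ((Nat.lcm_dvd (hMd i) (hMij ▸ hMd j)).trans ha.symm.dvd)
      refine ⟨((Function.update f i b) ∘ j.succAbove, 1), ext_dvd _ _ fun d => ?_⟩
      rw [hprod, hpi, orderOf_one]
      simp only [one_dvd, and_true, Function.comp_apply]
      constructor
      · intro hall l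
        obtain ⟨l', hl'⟩ := Fin.exists_succAbove_eq hij
        have hbd : orderOf b ∣ d := by simpa [hl'] using hall l'
        by_cases hlj : l = j
        · subst hlj; exact ((Nat.dvd_lcm_right _ _).trans hb.symm.dvd).trans hbd
        · obtain ⟨l'', hl''⟩ := Fin.exists_succAbove_eq hlj
          by_cases hli : l = i
          · subst hli; exact ((Nat.dvd_lcm_left _ _).trans hb.symm.dvd).trans hbd
          · simpa [hl'', hli] using hall l''
      · intro hall l
        by_cases hli : j.succAbove l = i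
        · rw [hli, Function.update_self, hb]; exact Nat.lcm_dvd (hall i) (hall j)
        · rw [Function.update_of_ne hli]; exact hall _
  · rintro _ ⟨⟨f, y⟩, rfl⟩
    obtain ⟨m, hm, hmd⟩ := above y
    obtain ⟨⟨a, ha⟩, -⟩ := hsub hm
    obtain ⟨b, hb⟩ := below a (orderOf y) (ha ▸ hmd)
    refine ⟨Fin.cons b f, ext_dvd _ _ fun d => ?_⟩
    rw [hpi]
    refine Iff.trans ?_ (hprod f y d).symm
    rw [Fin.forall_fin_succ]
    simp [hb, and_comm]

end Cfsg.Agent.S2514
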