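import Cfsg.Statements.S2515
import Cfsg.Agent.Lib.Classical.TwistedTensorSpectrum
-- import your own Cfsg.Agent.* helpers here

set_option autoImplicit false
open Cfsg

namespace Cfsg.Agent.S2515

/-- Let q = 3^α with α ≥ 3 odd. There is a finite group H having a non-trivial normal 3-subgroup and whose element orders maximal under divisibility are exactly 6, 9, q − 1 and (q + 1)/2. -/
theorem result (α : ℕ) (hα : 3 ≤ α) (hodd : Odd α) :
    ∃ (H : Type) (_ : Group H) (_ : Fintype H), (∃ P : Subgroup H, P.Normal ∧ P ≠ ⊥ ∧ IsPGroup 3 ↥P) ∧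
      {n : ℕ | n ∈ Set.range (orderOf : H → ℕ) ∧ ∀ m ∈ Set.range (orderOf : H → ℕ), n ∣ m → m = n} = ({6, 9, 3 ^ α - 1, (3 ^ α + 1) / 2} : Set ℕ) := by
  haveI : Fact (Nat.Prime 3) := ⟨Nat.prime_three⟩
  let F := GaloisField 3 α
  haveI : Fintype F := Fintype.ofFinite F
  have hF : Fintype.card F = 3 ^ α := by
    rw [← Nat.card_eq_fintype_card]; exact GaloisField.card 3 α (by omega)
  have h27 : 27 ≤ 3 ^ α := Nat.pow_le_pow_right (show 0 < 3 by norm_num) hα
  have h4 : 3 ^ α % 4 = 3 := by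
    obtain ⟨k, rfl⟩ := hodd
    rw [pow_succ, pow_mul, Nat.mul_mod, Nat.pow_mod]
    simp
  have h3 : 3 ^ α % 3 = 0 := by
    obtain ⟨k, rfl⟩ := hodd
    simp [pow_succ]
  have h4F : Fintype.card F % 4 = 3 := by rw [hF]; exact h4
  haveI : Finite (TwistTensor.H F) := Finite.of_equiv _ SemidirectProduct.equivProd.symm
  refine ⟨TwistTensor.H F, inferInstance, Fintype.ofFinite _, ?_, ?_⟩
  · refine ⟨(SemidirectProduct.inl).range, ?_, ?_, ?_⟩
    · rw [SemidirectProduct.range_inl_eq_ker_rightHom]; infer_instance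
    · intro h
      rw [MonoidHom.range_eq_bot_iff] at h
      have h1 := SemidirectProduct.inl_injective (φ := TwistTensor.act F)
        (a₁ := Multiplicative.ofAdd 1) (a₂ := 1) (by rw [h]; rfl)
      exact one_ne_zero (α := Matrix (Fin 2) (Fin 2) F) (congrArg Multiplicative.toAdd h1)
    · rintro ⟨_, w, rfl⟩
      exact ⟨1, Subtype.ext (by
        rw [pow_one, SubgroupClass.coe_pow, OneMemClass.coe_one]
        change SemidirectProduct.inl w ^ 3 = 1
        rw [← map_pow, TwistTensor.cube_mult, map_one])⟩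
  have hall : ∀ m ∈ Set.range (orderOf : TwistTensor.H F → ℕ),
      m ∣ 6 ∨ m ∣ 9 ∨ m ∣ 3 ^ α - 1 ∨ m ∣ (3 ^ α + 1) / 2 := by
    rintro m ⟨x, rfl⟩; rw [← hF]; exact TwistTensor.order_dvd h4F x
  have hin : ∀ v ∈ ({6, 9, 3 ^ α - 1, (3 ^ α + 1) / 2} : Set ℕ),
      v ∈ Set.range (orderOf : TwistTensor.H F → ℕ) := by
    intro v hv
    simp only [Set.mem_insert_iff, Set.mem_singleton_iff] at hv
    rcases hv with rfl | rfl | rfl | rfl
    · exact TwistTensor.exists_six
    · exact TwistTensor.exists_nine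
    · rw [← hF]; exact (TwistTensor.exists_split h4F).1
    · rw [← hF]; exact (TwistTensor.exists_split h4F).2
  have hdiv : ∀ v ∈ ({6, 9, 3 ^ α - 1, (3 ^ α + 1) / 2} : Set ℕ),
      ∀ w ∈ ({6, 9, 3 ^ α - 1, (3 ^ α + 1) / 2} : Set ℕ), v ∣ w → v = w := by
    intro v hv w hw hvw
    simp only [Set.mem_insert_iff, Set.mem_singleton_iff] at hv hw
    generalize 3 ^ α = q at *
    by_contra hne
    obtain ⟨k, hk⟩ := hvw
    have hk' : k = 0 ∨ k = 1 ∨ 2 ≤ k := by omega
    rcases hk' with rfl | rfl | hk2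
    · rcases hw with rfl | rfl | rfl | rfl <;> omega
    · omega
    · have h2v : 2 * v ≤ v * k := by nlinarith
      have h6 : v = 6 → w % 6 = 0 := by rintro rfl; omega
      have h9 : v = 9 → w % 9 = 0 := by rintro rfl; omega
      rcases hv with rfl | rfl | rfl | rfl <;> rcases hw with rfl | rfl | rfl | rfl <;> omega
  ext n
  constructor
  · rintro ⟨hn, hmax⟩
    have hcase := hall n hn
    have hex : ∃ v ∈ ({6, 9, 3 ^ α - 1, (3 ^ α + 1) / 2} : Set ℕ), n ∣ v := by
      rcases hcase with h | h | h | h <;> exact ⟨_, by simp, h⟩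
    obtain ⟨v, hv, hnv⟩ := hex
    rw [← hmax v (hin v hv) hnv]; exact hv
  · intro hn
    refine ⟨hin n hn, fun m hm hnm => ?_⟩
    have hex : ∃ v ∈ ({6, 9, 3 ^ α - 1, (3 ^ α + 1) / 2} : Set ℕ), m ∣ v := by
      rcases hall m hm with h | h | h | h <;> exact ⟨_, by simp, h⟩
    obtain ⟨v, hv, hmv⟩ := hex
    have := hdiv n hn v hv (hnm.trans hmv)
    subst this
    exact Nat.dvd_antisymm hmv hnm

end Cfsg.Agent.S2515
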