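import Cfsg.Statements.S2518
import Cfsg.Agent.Lib.Fus.GTwoThreeGroup
import Cfsg.Agent.Lib.Recog.PSLTwoSpectrum
-- import your own Cfsg.Agent.* helpers here

set_option autoImplicit false
open Cfsg

namespace Cfsg.Agent.S2518

/-- Let F₃ be the field with 3 elements and F₁₃ the field with 13 elements. The Chevalley group G₂(F₃) and PSL(2, F₁₃) have the same prime graph: the same prime divisors of their orders, and for distinct primes r, s an element of order rs in one iff in the other. -/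
theorem result {F : Type*} [Field F] [Fintype F] (hF : Fintype.card F = 3) {E : Type*} [Field E] [Fintype E] (hE : Fintype.card E = 13) :
    ((∀ r : ℕ, r.Prime → (r ∣ Nat.card ↥(Cfsg.Lie.chevG2.group F) ↔ r ∣ Nat.card (Matrix.ProjectiveSpecialLinearGroup (Fin 2) E))) ∧
      (∀ r s : ℕ, r.Prime → s.Prime → r ≠ s → ((∃ x : ↥(Cfsg.Lie.chevG2.group F), orderOf x = r * s) ↔ (∃ y : (Matrix.ProjectiveSpecialLinearGroup (Fin 2) E), orderOf y = r * s)))) := by
  obtain ⟨e⟩ := Agent.Fus.GTwoThree.exists_equiv hF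
  haveI : Fact (Nat.Prime 13) := ⟨by norm_num⟩
  haveI : CharP E 13 := by
    obtain ⟨p, hp⟩ := CharP.exists E
    obtain ⟨n, hpp, hn⟩ := FiniteField.card E p
    have h13 : p = 13 := (Nat.prime_dvd_prime_iff_eq hpp (by norm_num)).1
      (hE ▸ hn ▸ dvd_pow_self p n.ne_zero)
    exact h13 ▸ hp
  have hsp := Agent.PSL2Spec.range_orderOf (F := E) 13
  have hd : Agent.PSL2Spec.dd E = 2 := by rw [Agent.PSL2Spec.dd, hE]; norm_num
  rw [hd, hE] at hsp
  have hT : ∀ n : ℕ, (∃ y : Matrix.ProjectiveSpecialLinearGroup (Fin 2) E, orderOf y = n) ↔ (n ∣ 13 ∨ n ∣ 6 ∨ n ∣ 7) := fun n => by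
    have h := Set.ext_iff.1 hsp n
    simpa using h
  have hprime : ∀ a : ℕ, a.Prime → (a ∣ 13 ∨ a ∣ 6 ∨ a ∣ 7 ↔ a = 2 ∨ a = 3 ∨ a = 7 ∨ a = 13) := by
    intro a ha
    refine ⟨?_, ?_⟩
    · rintro (h | h | h)
      · exact Or.inr (Or.inr (Or.inr ((Nat.prime_dvd_prime_iff_eq ha (by norm_num)).1 h)))
      · rcases ha.dvd_mul.1 (show a ∣ 2 * 3 from h) with h | h
        · exact Or.inl ((Nat.prime_dvd_prime_iff_eq ha Nat.prime_two).1 h)
        · exact Or.inr (Or.inl ((Nat.prime_dvd_prime_iff_eq ha Nat.prime_three).1 h))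
      · exact Or.inr (Or.inr (Or.inl ((Nat.prime_dvd_prime_iff_eq ha (by norm_num)).1 h)))
    · rintro (rfl | rfl | rfl | rfl) <;> norm_num
  have key : ∀ {A B : Type _} [Monoid A] [Monoid B] (f : A ≃* B) (n : ℕ),
      (∃ x : B, orderOf x = n) ↔ (∃ z : A, orderOf z = n) := fun f n =>
    ⟨fun ⟨x, hx⟩ => ⟨f.symm x, by rw [f.symm.orderOf_eq, hx]⟩, fun ⟨z, hz⟩ => ⟨f z, by rw [f.orderOf_eq, hz]⟩⟩
  refine ⟨fun r hr => ?_, fun r s hr hs hrs => ?_⟩
  · haveI := Fact.mk hr
    rw [← Nat.card_congr e.toEquiv, Agent.Fus.GTwoThree.dvd_card_iff hr, ← hprime r hr, ← hT r]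
    exact ⟨fun ⟨y, hy⟩ => hy ▸ orderOf_dvd_natCard y, fun h => exists_prime_orderOf_dvd_card' r h⟩
  · rw [hT, show (∃ x : ↥(Cfsg.Lie.chevG2.group F), orderOf x = r * s) ↔
      (∃ z : Agent.Fus.GTwoThree.G, orderOf z = r * s) from
      key e (r * s),
      Agent.Fus.GTwoThree.adj_iff hr hs hrs]
    refine ⟨?_, ?_⟩
    · rintro (⟨rfl, rfl⟩ | ⟨rfl, rfl⟩) <;> norm_num
    · intro h
      have h13 : ∀ q : ℕ, q.Prime → r * s ∣ q → False := fun q hq h => by
        rcases hq.eq_one_or_self_of_dvd _ h with h1 | h1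
        · exact hr.ne_one (Nat.eq_one_of_mul_eq_one_right h1)
        · have h2 := hq
          rw [← h1] at h2
          exact Nat.not_prime_mul hr.ne_one hs.ne_one h2
      rcases h with h | h | h
      · exact (h13 13 (by norm_num) h).elim
      · have hr6 : r ∣ 6 := (dvd_mul_right r s).trans h
        have hs6 : s ∣ 6 := (dvd_mul_left s r).trans h
        have two : ∀ a : ℕ, a.Prime → a ∣ 6 → a = 2 ∨ a = 3 := fun a ha h => by
          rcases ha.dvd_mul.1 (show a ∣ 2 * 3 from h) with h | h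
          · exact Or.inl ((Nat.prime_dvd_prime_iff_eq ha Nat.prime_two).1 h)
          · exact Or.inr ((Nat.prime_dvd_prime_iff_eq ha Nat.prime_three).1 h)
        rcases two r hr hr6 with rfl | rfl <;> rcases two s hs hs6 with rfl | rfl
        · exact absurd rfl hrs
        · exact Or.inl ⟨rfl, rfl⟩
        · exact Or.inr ⟨rfl, rfl⟩
        · exact absurd rfl hrs
      · exact (h13 7 (by norm_num) h).elim

end Cfsg.Agent.S2518
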