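import Cfsg.Statements.S2519
import Cfsg.Agent.Lib.Lie.Chev.G2Spectrum

set_option autoImplicit false
open Cfsg

namespace Cfsg.Agent.S2519

/-- Let F be a finite field of odd order q = p^a ≥ 5. The element orders of the Chevalley group G₂(F) that are maximal under divisibility are exactly p(q + 1), p(q − 1), q² − 1, q² + q + 1, q² − q + 1, together with p² when p is 3 or 5. -/
theorem result {F : Type*} [Field F] [Fintype F] (p a : ℕ) (hp : p.Prime) (hp2 : p ≠ 2) (ha : 1 ≤ a) (hF : Fintype.card F = p ^ a) (hq5 : 5 ≤ Fintype.card F) :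
    {n : ℕ | n ∈ Set.range (orderOf : ↥(Cfsg.Lie.chevG2.group F) → ℕ) ∧ ∀ m ∈ Set.range (orderOf : ↥(Cfsg.Lie.chevG2.group F) → ℕ), n ∣ m → m = n} =
      ({p * (p ^ a + 1), p * (p ^ a - 1), p ^ (2 * a) - 1, p ^ (2 * a) + p ^ a + 1, p ^ (2 * a) - p ^ a + 1} : Set ℕ) ∪
        (if p = 3 ∨ p = 5 then ({p ^ 2} : Set ℕ) else ∅) := by
  haveI : Fact p.Prime := ⟨hp⟩
  haveI : CharP F p := by
    obtain ⟨r, hr⟩ := CharP.exists F
    haveI := hr
    obtain ⟨n, hrp, hn⟩ := FiniteField.card F r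
    rw [hF] at hn
    have h2 : r = p := by
      refine (Nat.prime_dvd_prime_iff_eq hrp hp).1 (hrp.dvd_of_dvd_pow (n := a) ?_)
      rw [hn]
      exact dvd_pow_self r n.ne_zero
    exact h2 ▸ hr
  have e2 : p ^ (2 * a) = (p ^ a) ^ 2 := by rw [← pow_mul, mul_comm]
  have hq : 5 ≤ p ^ a := hF ▸ hq5
  have hpq : p ∣ p ^ a := dvd_pow_self p (by omega)
  obtain ⟨hdiv, hmem⟩ := Cfsg.Agent.Lie.Chev.G2Tor.orders (F := F) (p := p) hF (by omega)
  rw [e2]
  generalize p ^ a = q at *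
  obtain ⟨L, hL⟩ : ∃ L : Set ℕ, L = ({p * (q + 1), p * (q - 1), q ^ 2 - 1, q ^ 2 + q + 1,
      q ^ 2 - q + 1} : Set ℕ) ∪ (if p = 3 ∨ p = 5 then ({p ^ 2} : Set ℕ) else ∅) := ⟨_, rfl⟩
  rw [← hL]
  have hLmem : ∀ n, n ∈ L ↔ (n = p * (q + 1) ∨ n = p * (q - 1) ∨ n = q ^ 2 - 1 ∨
      n = q ^ 2 + q + 1 ∨ n = q ^ 2 - q + 1 ∨ ((p = 3 ∨ p = 5) ∧ n = p ^ 2)) := fun n => by
    rw [hL]
    split_ifs with h <;> simp [h, or_assoc] <;> tauto
  have hcov : ∀ g : ↥(Cfsg.Lie.chevG2.group F), ∃ l ∈ L, orderOf g ∣ l := by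
    intro g
    rcases hdiv g with h | h | h | h | h | h | ⟨h2, -⟩
    · exact ⟨_, (hLmem _).2 (Or.inl rfl), h⟩
    · exact ⟨_, (hLmem _).2 (Or.inr (Or.inl rfl)), h⟩
    · exact ⟨_, (hLmem _).2 (Or.inr (Or.inr (Or.inl rfl))), h⟩
    · exact ⟨_, (hLmem _).2 (Or.inr (Or.inr (Or.inr (Or.inl rfl)))), h⟩
    · exact ⟨_, (hLmem _).2 (Or.inr (Or.inr (Or.inr (Or.inr (Or.inl rfl))))), h⟩
    · rw [if_neg hp2] at h
      split_ifs at h with h35
      · exact ⟨_, (hLmem _).2 (Or.inr (Or.inr (Or.inr (Or.inr (Or.inr ⟨h35, rfl⟩))))), h⟩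
      · exact ⟨_, (hLmem _).2 (Or.inl rfl), h.trans (dvd_mul_right _ _)⟩
    · exact absurd h2 hp2
  have hin : ∀ l ∈ L, l ∈ Set.range (orderOf : ↥(Cfsg.Lie.chevG2.group F) → ℕ) := by
    intro l hl
    rcases (hLmem l).1 hl with h | h | h | h | h | h
    · exact hmem l (Or.inl h)
    · exact hmem l (Or.inr (Or.inl h))
    · exact hmem l (Or.inr (Or.inr (Or.inl h)))
    · exact hmem l (Or.inr (Or.inr (Or.inr (Or.inl h))))
    · exact hmem l (Or.inr (Or.inr (Or.inr (Or.inr (Or.inl h)))))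
    · exact hmem l (Or.inr (Or.inr (Or.inr (Or.inr (Or.inr (Or.inr h))))))
  have hanti : ∀ x ∈ L, ∀ y ∈ L, x ∣ y → x = y := by
    have hpl : p ≤ q := Nat.le_of_dvd (by omega) hpq
    have hpne : ¬ p ∣ 1 := fun h => hp.ne_one (Nat.dvd_one.1 h)
    obtain ⟨C, hC⟩ : ∃ C, C = q ^ 2 - 1 := ⟨_, rfl⟩
    obtain ⟨E, hE⟩ : ∃ E, E = q ^ 2 - q + 1 := ⟨_, rfl⟩
    obtain ⟨D, hD⟩ : ∃ D, D = q ^ 2 + q + 1 := ⟨_, rfl⟩
    have hqq : 5 * q ≤ q ^ 2 := by rw [pow_two]; exact Nat.mul_le_mul_right q hq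
    have hC' : C + 1 = q ^ 2 := by omega
    have hE' : E + q = q ^ 2 + 1 := by omega
    have hpq2 : p ∣ q ^ 2 := dvd_pow hpq two_ne_zero
    have hpC : ¬ p ∣ C := fun h => hpne (by
      have := Nat.dvd_sub hpq2 h
      rwa [← hC', Nat.add_sub_cancel_left] at this)
    have hpE : ¬ p ∣ E := fun h => hpne (by
      have := Nat.dvd_sub (dvd_add h hpq) hpq2
      rwa [hE', Nat.add_sub_cancel_left] at this)
    have hpD : ¬ p ∣ D := fun h => hpne (by
      have := Nat.dvd_sub h (dvd_add hpq2 hpq)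
      rwa [hD, Nat.add_sub_cancel_left] at this)
    have hp1 : ¬ p ∣ q + 1 := fun h => hpne (by
      have := Nat.dvd_sub h hpq
      rwa [Nat.add_sub_cancel_left] at this)
    have hpm : ¬ p ∣ q - 1 := fun h => hpne (by
      have := Nat.dvd_sub hpq h
      rwa [Nat.sub_sub_self (by omega)] at this)
    have hleft : ∀ {x m : ℕ}, ¬ p ∣ x → x ∣ p * m → x ∣ m := fun {x m} hx h =>
      ((hp.coprime_iff_not_dvd.2 hx).symm).dvd_of_dvd_mul_left h
    have hbig : ∀ {x m : ℕ}, 0 < m → m < x → ¬ x ∣ m := fun hm h h' =>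
      absurd (Nat.le_of_dvd hm h') (by omega)
    have hD' : D = q ^ 2 + q + 1 := hD
    have hC0 : 0 < C := by omega
    have hE0 : 0 < E := by omega
    have hcan : ∀ {a b : ℕ}, p * a ∣ p * b → a ∣ b := fun h =>
      (Nat.mul_dvd_mul_iff_left hp.pos).1 h
    have hone : ∀ {x : ℕ}, 1 < x → ¬ p ∣ x → ¬ x ∣ p ^ 2 := fun {x} h1 hx h => by
      rw [pow_two, ← mul_one (p * p), mul_assoc] at h
      exact hbig Nat.one_pos h1 (hleft hx (hleft hx h))
    have hP : ∀ {x m : ℕ}, ¬ p ∣ m → ¬ p * x ∣ m := fun hm h =>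
      hm ((dvd_mul_right p _).trans h)
    have hP2 : ∀ {m : ℕ}, ¬ p ∣ m → ¬ p ^ 2 ∣ m := fun hm h =>
      hm ((dvd_pow_self p two_ne_zero).trans h)
    intro x hx y hy hxy
    rw [hLmem, ← hC, ← hD, ← hE] at hx hy
    rcases hx with rfl | rfl | rfl | rfl | rfl | ⟨-, rfl⟩
    · rcases hy with rfl | rfl | rfl | rfl | rfl | ⟨-, rfl⟩
      · rfl
      · exact absurd (hcan hxy) (hbig (by omega) (by omega))
      · exact absurd hxy (hP hpC)
      · exact absurd hxy (hP hpD)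
      · exact absurd hxy (hP hpE)
      · exact absurd (hcan (pow_two p ▸ hxy)) (hbig hp.pos (by omega))
    · rcases hy with rfl | rfl | rfl | rfl | rfl | ⟨-, rfl⟩
      · have h2 := Nat.dvd_sub (hcan hxy) (dvd_refl (q - 1))
        exact absurd h2 (hbig (by omega) (by omega))
      · rfl
      · exact absurd hxy (hP hpC)
      · exact absurd hxy (hP hpD)
      · exact absurd hxy (hP hpE)
      · have h1 : q - 1 ∣ p * 1 := by
          rw [mul_one]
          exact hcan (pow_two p ▸ hxy)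
        exact absurd (hleft hpm h1) (hbig Nat.one_pos (by omega))
    · rcases hy with rfl | rfl | rfl | rfl | rfl | ⟨-, rfl⟩
      · exact absurd (hleft hpC hxy) (hbig (by omega) (by omega))
      · exact absurd (hleft hpC hxy) (hbig (by omega) (by omega))
      · rfl
      · exact absurd (Nat.dvd_sub hxy (dvd_refl _)) (hbig (by omega) (by omega))
      · exact absurd hxy (hbig (by omega) (by omega))
      · exact absurd hxy (hone (by omega) hpC)
    · rcases hy with rfl | rfl | rfl | rfl | rfl | ⟨-, rfl⟩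
      · exact absurd (hleft hpD hxy) (hbig (by omega) (by omega))
      · exact absurd (hleft hpD hxy) (hbig (by omega) (by omega))
      · exact absurd hxy (hbig hC0 (by omega))
      · rfl
      · exact absurd hxy (hbig hE0 (by omega))
      · exact absurd hxy (hone (by omega) hpD)
    · rcases hy with rfl | rfl | rfl | rfl | rfl | ⟨-, rfl⟩
      · exact absurd (hleft hpE hxy) (hbig (by omega) (by omega))
      · exact absurd (hleft hpE hxy) (hbig (by omega) (by omega))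
      · exact absurd (Nat.dvd_sub hxy (dvd_refl _)) (hbig (by omega) (by omega))
      · exact absurd (Nat.dvd_sub hxy (dvd_refl _)) (hbig (by omega) (by omega))
      · rfl
      · exact absurd hxy (hone (by omega) hpE)
    · rcases hy with rfl | rfl | rfl | rfl | rfl | ⟨-, rfl⟩
      · exact absurd (hcan (pow_two p ▸ hxy)) hp1
      · exact absurd (hcan (pow_two p ▸ hxy)) hpm
      · exact absurd hxy (hP2 hpC)
      · exact absurd hxy (hP2 hpD)
      · exact absurd hxy (hP2 hpE)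
      · rfl
  ext n
  refine ⟨fun ⟨⟨g, hg⟩, hmax⟩ => ?_, fun hn => ⟨hin n hn, ?_⟩⟩
  · obtain ⟨l, hl, hd⟩ := hcov g
    rw [← hmax l (hin l hl) (hg ▸ hd)]
    exact hl
  · rintro m ⟨g, rfl⟩ hnm
    obtain ⟨l, hl, hd⟩ := hcov g
    obtain rfl := hanti n hn l hl (hnm.trans hd)
    exact Nat.dvd_antisymm hd hnm

end Cfsg.Agent.S2519
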