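import Cfsg.Statements.S2521
import Mathlib


set_option autoImplicit false
open Cfsg

namespace Cfsg.Agent.S2521


/-- Let B be a finite group that is the semidirect product of a nilpotent normal subgroup U by an abelian subgroup T (U ∩ T = 1, UT = B), and let t ∈ T have centralizer exactly T. Then every element of the coset tU is conjugate to t in B: for each u ∈ U there is b ∈ B with b t b⁻¹ = t u. -/
theorem result {B : Type*} [Group B] [Finite B] (U T : Subgroup B) [U.Normal] (hU : Group.IsNilpotent ↥U) (hT : IsMulCommutative ↥T)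
    (hcompl : Subgroup.IsComplement' U T) (t : B) (ht : t ∈ T) (hreg : Subgroup.centralizer ({t} : Set B) = T) (u : B) (hu : u ∈ U) :
    ∃ b : B, b * t * b⁻¹ = t * u := by
  have hTc : ∀ x ∈ U, x * t * x⁻¹ = t → x = 1 := by
    intro x hx h
    have h1 : x ∈ T := by
      rw [← hreg]
      exact Subgroup.mem_centralizer_singleton_iff.mpr (mul_inv_eq_iff_eq_mul.mp h)
    exact Subgroup.mem_bot.mp (hcompl.disjoint.le_bot ⟨hx, h1⟩)
  let f : U → U := fun x => ⟨t⁻¹ * x * t * (x : B)⁻¹, U.mul_mem (by
    simpa using ‹U.Normal›.conj_mem _ x.2 t⁻¹) (U.inv_mem x.2)⟩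
  have hinj : Function.Injective f := by
    intro x y hxy
    have h1 : (x : B) * t * (x : B)⁻¹ = y * t * (y : B)⁻¹ := by
      have := congrArg (fun z : U => t * (z : B)) hxy
      simpa [f, mul_assoc] using this
    have h2 := hTc ((y : B)⁻¹ * x) (U.mul_mem (U.inv_mem y.2) x.2) (by
      calc ((y : B)⁻¹ * x) * t * ((y : B)⁻¹ * x)⁻¹
          = (y : B)⁻¹ * ((x : B) * t * (x : B)⁻¹) * y := by group
        _ = t := by rw [h1]; group)
    exact Subtype.ext (inv_mul_eq_one.mp h2).symm
  obtain ⟨x, hx⟩ := (Finite.injective_iff_surjective.mp hinj) ⟨u, hu⟩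
  refine ⟨x, ?_⟩
  rw [← show (f x : B) = u from congrArg Subtype.val hx]
  simp [f, mul_assoc]

end Cfsg.Agent.S2521
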