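import Cfsg.Statements.S2524
import Cfsg.Agent.Lib.Lie.SpRankTwist

set_option autoImplicit false
open Cfsg

namespace Cfsg.Agent.S2524

/-- Let F be a finite field of odd order q and G = Sp(2n, F) with n ≥ 2. Then G has exactly four irreducible complex characters of degree (q^n + 1)/2 or (q^n − 1)/2 (two of each), and every other non-principal irreducible character has degree at least (q^n − 1)(q^n − q)/(2(q + 1)). -/
theorem result {F : Type*} [Field F] [Fintype F] (hodd : Odd (Fintype.card F)) (n : ℕ) (hn : 2 ≤ n) :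
    Nat.card {χ : Cfsg.IrrCharacter ↥(Matrix.symplecticGroup (Fin n) F) // (χ : ↥(Matrix.symplecticGroup (Fin n) F) → ℂ) 1 = (((Fintype.card F) ^ n + 1 : ℕ) : ℂ) / 2} = 2 ∧
    Nat.card {χ : Cfsg.IrrCharacter ↥(Matrix.symplecticGroup (Fin n) F) // (χ : ↥(Matrix.symplecticGroup (Fin n) F) → ℂ) 1 = (((Fintype.card F) ^ n - 1 : ℕ) : ℂ) / 2} = 2 ∧
    ∀ χ : Cfsg.IrrCharacter ↥(Matrix.symplecticGroup (Fin n) F),
      (χ : ↥(Matrix.symplecticGroup (Fin n) F) → ℂ) 1 ≠ 1 →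
      (χ : ↥(Matrix.symplecticGroup (Fin n) F) → ℂ) 1 ≠ (((Fintype.card F) ^ n + 1 : ℕ) : ℂ) / 2 →
      (χ : ↥(Matrix.symplecticGroup (Fin n) F) → ℂ) 1 ≠ (((Fintype.card F) ^ n - 1 : ℕ) : ℂ) / 2 →
      (((Fintype.card F) ^ n - 1 : ℕ) : ℝ) * (((Fintype.card F) ^ n - Fintype.card F : ℕ) : ℝ) / (2 * ((Fintype.card F : ℕ) + 1 : ℝ)) ≤ ‖(χ : ↥(Matrix.symplecticGroup (Fin n) F) → ℂ) 1‖ := by
  classical
  obtain ⟨ψ, hψ⟩ := Cfsg.Agent.Lie.SpRank.exists_psi (F := F)
  have hq : 1 ≤ Fintype.card F := Fintype.card_pos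
  obtain ⟨d, hd⟩ := Cfsg.Agent.Lie.SpRank.two_d_add_one hodd n
  have hd' : (Fintype.card F : ℂ) ^ n = 2 * (d : ℂ) + 1 := by exact_mod_cast hd
  have hp : (2 : ℂ) * ((d + 1 : ℕ) : ℂ) = (Fintype.card F : ℂ) ^ n + 1 := by push_cast; rw [hd']; ring
  have hm : (2 : ℂ) * (d : ℂ) = (Fintype.card F : ℂ) ^ n + -1 := by rw [hd']; ring
  have ep := (Cfsg.Agent.Lie.SpRank.deg_cast (n := n) hq (d := d + 1)).1.2 hp
  have em := (Cfsg.Agent.Lie.SpRank.deg_cast (n := n) hq (d := d)).2.2 hm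
  refine ⟨?_, ?_, ?_⟩
  · rw [← ep]
    exact Cfsg.Agent.Lie.SpRank.count_two hψ hodd hn (Or.inl rfl) hp (Cfsg.Agent.Lie.SpRank.exists_even hodd hn hp)
  · rw [← em]
    refine Cfsg.Agent.Lie.SpRank.count_two hψ hodd hn (Or.inr rfl) hm ?_
    have h := Cfsg.Agent.Lie.SpWeil.exists_weil_irreducible (F := F) hn hodd
    rwa [show (Fintype.card F ^ n - 1) / 2 = d by omega] at h
  · rintro ⟨f, k, π, hπ, rfl⟩ h1 hplus hminus
    haveI := hπ
    simp only [Representation.char_one, Module.finrank_fin_fun] at h1 hplus hminus ⊢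
    rw [Complex.norm_natCast]
    have hk1 : k ≠ 1 := fun e => h1 (by rw [e]; norm_num)
    have hk0 : k ≠ 0 := by
      rintro rfl
      haveI : IsSimpleOrder (Subrepresentation π) := hπ
      exact bot_ne_top (α := Subrepresentation π)
        (Subrepresentation.toSubmodule_injective (Subsingleton.elim _ _))
    have hbound : (Fintype.card F ^ n - 1) * (Fintype.card F ^ n - Fintype.card F) ≤
        k * (2 * (Fintype.card F + 1)) := by
      by_contra hlt
      have hR := Cfsg.Agent.Lie.SpRank.rankOne_of_small hψ hodd π (by rw [Module.finrank_fin_fun]; omega)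
      obtain ⟨g, hg⟩ := Cfsg.Agent.Lie.SpWeil.nontrivial_of_irreducible π (by omega : 2 ≤ k)
      obtain ⟨c, ε, δ, hF⟩ := Cfsg.Agent.Lie.SpRank.exists_full_irreducible hψ
        (Cfsg.Agent.Lie.SpRank.ringChar_ne_two hodd) hn hR hg
      have h := hF.finrank_eq hψ (Cfsg.Agent.Lie.SpRank.ringChar_ne_two hodd) (by omega)
      rw [Module.finrank_fin_fun] at h
      rcases hF.sign with e | e <;> rw [e] at h
      · exact hplus ((Cfsg.Agent.Lie.SpRank.deg_cast hq).1.2 h)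
      · exact hminus ((Cfsg.Agent.Lie.SpRank.deg_cast hq).2.2 h)
    rw [div_le_iff₀ (by positivity)]
    exact_mod_cast hbound

end Cfsg.Agent.S2524
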