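import Cfsg.Statements.S2525
import Cfsg.Agent.Lib.Lie.Chev.F4PrimeGraphMain

set_option autoImplicit false
open Cfsg

namespace Cfsg.Agent.S2525

/-- Let F be a finite field with q = 2^n elements and G = F₄(F). For an odd prime r let e(r, q) be the multiplicative order of q modulo r. Two distinct primes r, s dividing the order of G are non-adjacent in the prime graph of G (no element of order rs) if and only if, up to swapping r and s, either r = 2 and e(s, q) ∈ {8, 12}, or r, s are both odd with k = e(r, q) < l = e(s, q) and one of: l ∈ {8, 12}; l = 6 and k ∈ {3, 4}; l = 4 and k = 3. -/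
theorem result {F : Type*} [Field F] [Fintype F] (n : ℕ) (hn : 1 ≤ n) (hF : Fintype.card F = 2 ^ n)
    (r s : ℕ) (hr : r.Prime) (hs : s.Prime) (hrs : r ≠ s) (hrG : r ∣ Nat.card ↥(Cfsg.Lie.chevF4.group F)) (hsG : s ∣ Nat.card ↥(Cfsg.Lie.chevF4.group F)) :
    (¬ ∃ x : ↥(Cfsg.Lie.chevF4.group F), orderOf x = r * s) ↔
      ((r = 2 ∧ orderOf ((Fintype.card F : ℕ) : ZMod s) ∈ ({8, 12} : Finset ℕ)) ∨ (s = 2 ∧ orderOf ((Fintype.card F : ℕ) : ZMod r) ∈ ({8, 12} : Finset ℕ)) ∨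
       (r ≠ 2 ∧ s ≠ 2 ∧
         ((orderOf ((Fintype.card F : ℕ) : ZMod r) < orderOf ((Fintype.card F : ℕ) : ZMod s) ∧ (orderOf ((Fintype.card F : ℕ) : ZMod s) ∈ ({8, 12} : Finset ℕ) ∨ (orderOf ((Fintype.card F : ℕ) : ZMod s) = 6 ∧ orderOf ((Fintype.card F : ℕ) : ZMod r) ∈ ({3, 4} : Finset ℕ)) ∨ (orderOf ((Fintype.card F : ℕ) : ZMod s) = 4 ∧ orderOf ((Fintype.card F : ℕ) : ZMod r) = 3))) ∨
          (orderOf ((Fintype.card F : ℕ) : ZMod s) < orderOf ((Fintype.card F : ℕ) : ZMod r) ∧ (orderOf ((Fintype.card F : ℕ) : ZMod r) ∈ ({8, 12} : Finset ℕ) ∨ (orderOf ((Fintype.card F : ℕ) : ZMod r) = 6 ∧ orderOf ((Fintype.card F : ℕ) : ZMod s) ∈ ({3, 4} : Finset ℕ)) ∨ (orderOf ((Fintype.card F : ℕ) : ZMod r) = 4 ∧ orderOf ((Fintype.card F : ℕ) : ZMod s) = 3)))))) := by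
  obtain ⟨q, hq⟩ : ∃ q, q = Fintype.card F := ⟨_, rfl⟩
  rw [← hq]
  have hq2 : q = 2 ^ n := hq.trans hF
  by_cases hr2 : r = 2
  · subst hr2
    rw [Cfsg.Agent.Lie.Chev.F4Graph.two_pair hq.symm hn hq2 hs (Ne.symm hrs) hsG]
    refine ⟨fun h => Or.inl ⟨rfl, h⟩, ?_⟩
    rintro (⟨-, h⟩ | ⟨h, -⟩ | ⟨h, -⟩)
    exacts [h, absurd h.symm hrs, absurd rfl h]
  by_cases hs2 : s = 2
  · subst hs2
    rw [mul_comm r 2, Cfsg.Agent.Lie.Chev.F4Graph.two_pair hq.symm hn hq2 hr hr2 hrG]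
    refine ⟨fun h => Or.inr (Or.inl ⟨rfl, h⟩), ?_⟩
    rintro (⟨h, -⟩ | ⟨-, h⟩ | ⟨-, h, -⟩)
    exacts [absurd h hr2, h, absurd rfl h]
  rcases le_total (orderOf (q : ZMod r)) (orderOf (q : ZMod s)) with hle | hle
  · rw [Cfsg.Agent.Lie.Chev.F4Graph.odd_pair hq.symm hn hq2 hr hs hr2 hs2 hrs hrG hsG hle]
    refine ⟨fun h => Or.inr (Or.inr ⟨hr2, hs2, Or.inl h⟩), ?_⟩
    rintro (⟨h, -⟩ | ⟨h, -⟩ | ⟨-, -, h | ⟨h, -⟩⟩)
    exacts [absurd h hr2, absurd h hs2, h, absurd h (by omega)]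
  · rw [mul_comm r s,
      Cfsg.Agent.Lie.Chev.F4Graph.odd_pair hq.symm hn hq2 hs hr hs2 hr2 (Ne.symm hrs) hsG hrG hle]
    refine ⟨fun h => Or.inr (Or.inr ⟨hr2, hs2, Or.inr h⟩), ?_⟩
    rintro (⟨h, -⟩ | ⟨h, -⟩ | ⟨-, -, ⟨h, -⟩ | h⟩)
    exacts [absurd h hr2, absurd h hs2, absurd h (by omega), h]

end Cfsg.Agent.S2525
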