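import Cfsg.Statements.S2530
import Mathlib.GroupTheory.Perm.Cycle.Type
-- import your own Cfsg.Agent.* helpers here

set_option autoImplicit false
open Cfsg

namespace Cfsg.Agent.S2530

section
variable {G : Type*} [Group G] (s : ℕ → G)

/-- `asc s j d` is the product of `d` consecutive generators starting at `j`. -/
def asc : ℕ → ℕ → G
  | _, 0 => 1
  | j, d + 1 => s j * asc (j + 1) d

theorem asc_comm {n : ℕ} (hc : ∀ i j, i + 2 ≤ j → j < n → s i * s j = s j * s i) :
    ∀ d j i, i + 2 ≤ j → j + d ≤ n → s i * asc s j d = asc s j d * s i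
  | 0, j, i, _, _ => by simp [asc]
  | d + 1, j, i, h, hn => by
    simp only [asc]
    rw [← mul_assoc, hc i j h (by omega), mul_assoc, asc_comm hc d (j + 1) i (by omega) (by omega), mul_assoc]

theorem asc_shift {n : ℕ} (hc : ∀ i j, i + 2 ≤ j → j < n → s i * s j = s j * s i)
    (hb : ∀ i, i + 1 < n → s i * s (i + 1) * s i = s (i + 1) * s i * s (i + 1)) :
    ∀ d j i, j < i → i < j + d → j + d ≤ n → s i * asc s j d = asc s j d * s (i - 1)
  | 0, j, i, _, _, _ => by omega
  | d + 1, j, i, h1, h2, hn => by
    simp only [asc]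
    by_cases h : i = j + 1
    · subst h
      obtain ⟨e, rfl⟩ : ∃ e, d = e + 1 := ⟨d - 1, by omega⟩
      simp only [asc]
      rw [← mul_assoc, ← mul_assoc, ← hb j (by omega), mul_assoc (s j * s (j + 1)),
        asc_comm s hc e (j + 1 + 1) j (by omega) (by omega), Nat.add_sub_cancel]
      simp only [mul_assoc]
    · rw [← mul_assoc, ← hc j i (by omega) (by omega), mul_assoc,
        asc_shift hc hb d (j + 1) i (by omega) (by omega) (by omega), mul_assoc]

/-- The subgroup generated by the first generators is finite, with at most factorially many elements. -/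
theorem closure_bound {n : ℕ} (h1 : ∀ i < n, s i * s i = 1)
    (hc : ∀ i j, i + 2 ≤ j → j < n → s i * s j = s j * s i)
    (hb : ∀ i, i + 1 < n → s i * s (i + 1) * s i = s (i + 1) * s i * s (i + 1)) :
    ∀ k ≤ n, ∃ T : Finset G, T.card ≤ (k + 1).factorial ∧
      ∀ g ∈ Subgroup.closure (s '' Set.Iio k), g ∈ T
  | 0, _ => ⟨{1}, by simp, fun g hg => by
      have : s '' Set.Iio 0 = ∅ := by ext x; simp
      rw [this, Subgroup.closure_empty, Subgroup.mem_bot] at hg
      simp [hg]⟩
  | k + 1, hk => by
    classical
    obtain ⟨T, hT, hmem⟩ := closure_bound h1 hc hb k (by omega)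
    refine ⟨(Finset.range (k + 2) ×ˢ T).image fun p => asc s p.1 (k + 1 - p.1) * p.2, ?_, fun g hg => ?_⟩
    · refine Finset.card_image_le.trans ?_
      rw [Finset.card_product, Finset.card_range, Nat.factorial_succ (k + 1)]
      exact Nat.mul_le_mul_left _ hT
    · set U := {g : G | ∃ j ≤ k + 1, ∃ x ∈ Subgroup.closure (s '' Set.Iio k), g = asc s j (k + 1 - j) * x}
      suffices hU : g ∈ U by
        obtain ⟨j, hj, x, hx, rfl⟩ := hU
        exact Finset.mem_image.2 ⟨(j, x), Finset.mem_product.2 ⟨Finset.mem_range.2 (by omega), hmem x hx⟩, rfl⟩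
      have hclosed : ∀ i ≤ k, ∀ u ∈ U, s i * u ∈ U := by
        rintro i hi u ⟨j, hj, x, hx, rfl⟩
        have hgen : ∀ l < k, s l ∈ Subgroup.closure (s '' Set.Iio k) := fun l hl =>
          Subgroup.subset_closure ⟨l, hl, rfl⟩
        rcases lt_trichotomy i j with h | rfl | h
        · by_cases hij : i + 1 = j
          · refine ⟨i, by omega, x, hx, ?_⟩
            rw [← mul_assoc, show k + 1 - i = (k + 1 - j) + 1 by omega]
            simp only [asc, hij]
          · refine ⟨j, hj, s i * x, mul_mem (hgen i (by omega)) hx, ?_⟩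
            rw [← mul_assoc, asc_comm s hc _ j i (by omega) (by omega), mul_assoc]
        · refine ⟨i + 1, by omega, x, hx, ?_⟩
          rw [show k + 1 - i = (k + 1 - (i + 1)) + 1 by omega]
          simp only [asc]
          rw [mul_assoc, ← mul_assoc (s i), h1 i (by omega), one_mul]
        · refine ⟨j, hj, s (i - 1) * x, mul_mem (hgen _ (by omega)) hx, ?_⟩
          rw [← mul_assoc, asc_shift s hc hb _ j i h (by omega) (by omega), mul_assoc]
      induction hg using Subgroup.closure_induction_left with
      | one => exact ⟨k + 1, le_rfl, 1, one_mem _, by simp [asc]⟩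
      | mul_left x hx y _ ih =>
        obtain ⟨i, hi, rfl⟩ := hx
        exact hclosed i (Nat.lt_succ_iff.1 hi) y ih
      | inv_mul_cancel x hx y _ ih =>
        obtain ⟨i, hi, rfl⟩ := hx
        rw [inv_eq_of_mul_eq_one_right (h1 i (lt_of_lt_of_le hi hk))]
        exact hclosed i (Nat.lt_succ_iff.1 hi) y ih

end


/-- The Coxeter presentation of the symmetric group: for every n, the symmetric group on n+1 letters is the Coxeter group of type A_n with the adjacent transpositions (i, i+1) as simple reflections; that is, it is presented by generators r_1, …, r_n subject to r_i² = 1, (r_i r_j)² = 1 for |i − j| > 1 and (r_i r_{i+1})³ = 1, with r_i mapping to (i, i+1). -/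
theorem result (n : ℕ) :
    ∃ cs : CoxeterSystem (CoxeterMatrix.A n) (Equiv.Perm (Fin (n + 1))), ∀ i : Fin n, cs.simple i = Equiv.swap i.castSucc i.succ := by
  classical
  set W := (CoxeterMatrix.A n).Group
  let c := (CoxeterMatrix.A n).toCoxeterSystem
  let f : Fin n → Equiv.Perm (Fin (n + 1)) := fun i => Equiv.swap i.castSucc i.succ
  have hM : ∀ i j : Fin n, CoxeterMatrix.A n i j =
      if i = j then 1 else (if (j : ℕ) + 1 = i ∨ (i : ℕ) + 1 = j then 3 else 2) := fun i j => rfl
  have hlift : (CoxeterMatrix.A n).IsLiftable f := by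
    have h3 : ∀ i j : Fin n, (i : ℕ) + 1 = j → (f i * f j) ^ 3 = 1 := by
      intro i j h
      have e : i.succ = j.castSucc := Fin.ext (by simp [h])
      have h' : Equiv.Perm.IsThreeCycle (f i * f j) := by
        show Equiv.Perm.IsThreeCycle (Equiv.swap i.castSucc i.succ * Equiv.swap j.castSucc j.succ)
        rw [← e, Equiv.swap_comm i.castSucc]
        refine Equiv.Perm.isThreeCycle_swap_mul_swap_same ?_ ?_ ?_ <;> simp [Fin.ext_iff, ← h] <;> omega
      rw [← h'.orderOf]; exact pow_orderOf_eq_one _
    intro i j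
    rw [hM]
    by_cases hij : i = j
    · subst hij; simp [f]
    rw [if_neg hij]
    split_ifs with h
    · rcases h with h | h
      · have h' := h3 j i h
        rw [show f i * f j = (f j * f i)⁻¹ by simp [f, mul_inv_rev], inv_pow, h', inv_one]
      · exact h3 i j h
    · have hd : (f i).Disjoint (f j) := by
        intro x
        simp only [f, Equiv.swap_apply_def]
        split_ifs <;> simp_all [Fin.ext_iff] <;> omega
      rw [hd.commute.mul_pow, pow_two, pow_two]; simp [f]
  let ψ : W →* Equiv.Perm (Fin (n + 1)) := c.lift ⟨f, hlift⟩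
  have hψ : ∀ i, ψ (c.simple i) = f i := fun i => c.lift_apply_simple hlift i
  have hsurj : Function.Surjective ψ := by
    intro g
    have hg : g ∈ Submonoid.closure (Set.range f) := by
      rw [Equiv.Perm.mclosure_swap_castSucc_succ]; trivial
    induction hg using Submonoid.closure_induction with
    | mem x hx => obtain ⟨i, rfl⟩ := hx; exact ⟨_, hψ i⟩
    | one => exact ⟨1, map_one _⟩
    | mul x y _ _ hx hy =>
      obtain ⟨a, rfl⟩ := hx; obtain ⟨b, rfl⟩ := hy
      exact ⟨a * b, map_mul _ _ _⟩
  let s : ℕ → W := fun i => if h : i < n then c.simple ⟨i, h⟩ else 1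
  have hs : ∀ i (h : i < n), s i = c.simple ⟨i, h⟩ := fun i h => dif_pos h
  obtain ⟨T, hT, hmem⟩ := closure_bound s (n := n)
    (fun i hi => by rw [hs i hi]; exact c.simple_mul_simple_self _)
    (fun i j hij hj => by
      rw [hs i (by omega), hs j hj]
      have h := c.simple_mul_simple_pow ⟨i, by omega⟩ ⟨j, hj⟩
      rw [hM, if_neg (by simp [Fin.ext_iff]; omega), if_neg (by simp; omega), pow_two] at h
      have h' := eq_inv_of_mul_eq_one_left h
      rwa [mul_inv_rev, c.inv_simple, c.inv_simple] at h')
    (fun i hi => by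
      rw [hs i (by omega), hs (i + 1) hi]
      have h := c.simple_mul_simple_pow ⟨i, by omega⟩ ⟨i + 1, hi⟩
      rw [hM, if_neg (by simp [Fin.ext_iff]), if_pos (Or.inr rfl)] at h
      set a := c.simple ⟨i, by omega⟩
      set b := c.simple ⟨i + 1, hi⟩
      have hab : a * b * a * (b * a * b) = 1 := by rw [← h]; simp only [pow_succ, pow_zero, one_mul, mul_assoc]
      have h' := eq_inv_of_mul_eq_one_left hab
      rw [mul_inv_rev, mul_inv_rev, c.inv_simple, c.inv_simple] at h'
      rw [h', mul_assoc]) n le_rfl
  have htop : Subgroup.closure (s '' Set.Iio n) = ⊤ := by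
    rw [eq_top_iff, ← c.subgroup_closure_range_simple]
    refine Subgroup.closure_mono ?_
    rintro _ ⟨i, rfl⟩
    exact ⟨i, i.2, hs i i.2⟩
  haveI : Finite W := Finite.of_injective (fun w => (⟨w, hmem w (htop ▸ trivial)⟩ : T)) (fun a b h => by simpa using h)
  have hcard : Nat.card W ≤ (n + 1).factorial := by
    refine (Nat.card_le_card_of_injective (fun w => (⟨w, hmem w (htop ▸ trivial)⟩ : T)) (fun a b h => by simpa using h)).trans ?_
    rw [Nat.card_eq_finsetCard]; exact hT
  have hbij : Function.Bijective ψ := by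
    refine (Function.Surjective.bijective_of_nat_card_le hsurj ?_)
    rw [Nat.card_eq_fintype_card (α := Equiv.Perm (Fin (n + 1))), Fintype.card_perm, Fintype.card_fin]; exact hcard
  refine ⟨c.map (MulEquiv.ofBijective ψ hbij), fun i => ?_⟩
  rw [CoxeterSystem.map_simple]
  exact hψ i

end Cfsg.Agent.S2530
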