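import Cfsg.Statements.S2531

-- import your own Cfsg.Agent.* helpers here

set_option autoImplicit false
open Cfsg

namespace Cfsg.Agent.S2531

/-- Let `F` be a finite field and `n ≥ 3`. No set of permutations of the points of the projective space of `Fⁿ`, each induced by an invertible semilinear transformation of `Fⁿ` (so a subset of the full projective semilinear group), is sharply 2-transitive on the points: it is impossible that for all pairs of distinct points `(a, b)` and `(c, d)` exactly one member of the set sends `a` to `c` and `b` to `d`. -/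
theorem result {F : Type*} [Field F] [Finite F]
    (n : ℕ) (hn : 3 ≤ n) (S : Set (Equiv.Perm (Projectivization F (Fin n → F))))
    (hS : ∀ s ∈ S, ∃ (σ : F ≃+* F) (f : (Fin n → F) →ₛₗ[(σ : F →+* F)] (Fin n → F)) (hf : Function.Injective f),
      ∀ x, s x = Projectivization.map f hf x) :
    ¬ (∀ a b c d : Projectivization F (Fin n → F), a ≠ b → c ≠ d →
        ∃! s, s ∈ S ∧ s a = c ∧ s b = d) := by
  classical
  intro h2
  set q := Nat.card F with hq
  have hq1 : 1 < q := Finite.one_lt_card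
  have : Fact (1 < q) := ⟨hq1⟩
  have : NeZero q := ⟨by omega⟩
  let Ω := Projectivization F (Fin n → F)
  -- a non-trivial subspace has a number of points congruent to one
  have hcount : ∀ K : Submodule F (Fin n → F), K ≠ ⊥ →
      ((Nat.card {x : Ω // x.rep ∈ K} : ℕ) : ZMod q) = 1 := by
    intro K hK
    have hinj : Function.Injective K.subtype := Subtype.val_injective
    have hrep : ∀ (v : Fin n → F) (hv : v ≠ 0), (Projectivization.mk F v hv).rep ∈ K ↔ v ∈ K := by
      intro v hv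
      obtain ⟨a, ha⟩ := Projectivization.exists_smul_eq_mk_rep F v hv
      rw [← ha, Units.smul_def, K.smul_mem_iff a.ne_zero]
    have hbij : Function.Bijective fun x : Projectivization F K =>
        (⟨Projectivization.map K.subtype hinj x, by
          induction x using Projectivization.ind with
          | h v hv => rw [Projectivization.map_mk, hrep]; exact v.2⟩ : {x : Ω // x.rep ∈ K}) := by
      refine ⟨fun x y e => Projectivization.map_injective K.subtype hinj (congrArg Subtype.val e),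
        fun ⟨x, hx⟩ => ⟨Projectivization.mk F (⟨x.rep, hx⟩ : K) (fun e =>
          x.rep_nonzero (congrArg Subtype.val e)), Subtype.ext ?_⟩⟩
      exact (Projectivization.map_mk K.subtype hinj _ _).trans x.mk_rep
    rw [← Nat.card_eq_of_bijective _ hbij]
    have h := Projectivization.card' F K
    have hpow : Nat.card K = q ^ Module.finrank F K := Module.natCard_eq_pow_finrank
    have hd : Module.finrank F K ≠ 0 := fun e => hK (Submodule.finrank_eq_zero.1 e)
    rw [hpow] at h
    have h' := congrArg (fun m : ℕ => (m : ZMod q)) h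
    simp only [Nat.cast_pow, ZMod.natCast_self, zero_pow hd, Nat.cast_add, Nat.cast_mul,
      Nat.cast_one, ← hq, Nat.cast_sub hq1.le, zero_sub, mul_neg, mul_one] at h'
    exact (neg_add_eq_zero.1 h'.symm)
  let i0 : Fin n := ⟨0, by omega⟩
  let i1 : Fin n := ⟨1, by omega⟩
  let i2 : Fin n := ⟨2, by omega⟩
  have he : (Pi.single i0 (1 : F) : Fin n → F) ≠ 0 := by simp
  let a : Ω := Projectivization.mk F (Pi.single i0 (1 : F)) he
  let H : Submodule F (Fin n → F) := LinearMap.ker (LinearMap.proj i0)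
  let A : Set Ω := {x | x.rep ∈ H}
  have hHne : H ≠ ⊥ := by
    intro e
    have : (Pi.single i1 (1 : F) : Fin n → F) ∈ H := by
      simp [H, i0, i1]
    rw [e, Submodule.mem_bot] at this
    simp at this
  have hA : ((Nat.card A : ℕ) : ZMod q) = 1 := hcount H hHne
  have haA : a ∉ A := by
    intro h
    obtain ⟨c, hc⟩ := Projectivization.exists_smul_eq_mk_rep F _ he
    have h' : c • (Pi.single i0 (1 : F) : Fin n → F) ∈ H := by
      rw [hc]
      exact h
    simp [H, Units.smul_def] at h'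
  -- the stabiliser of the point
  let Sa : Set (Equiv.Perm Ω) := {s | s ∈ S ∧ s a = a}
  have hreg : ∀ b d : Ω, b ≠ a → d ≠ a → ∃! s, s ∈ Sa ∧ s b = d := by
    intro b d hb hd
    obtain ⟨s, ⟨hs, h1, h2'⟩, hu⟩ := h2 a b a d hb.symm hd.symm
    exact ⟨s, ⟨⟨hs, h1⟩, h2'⟩, fun t ⟨⟨ht, t1⟩, t2⟩ => hu t ⟨ht, t1, t2⟩⟩
  obtain ⟨b, hb⟩ : ∃ b : Ω, b ≠ a := by
    refine ⟨Projectivization.mk F (Pi.single i1 (1 : F)) (by simp), fun e => ?_⟩
    obtain ⟨c, hc⟩ := (Projectivization.mk_eq_mk_iff' F _ _ _ _).1 e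
    have := congrFun hc i1
    simp [i0, i1] at this
  have hSa : ((Nat.card Sa : ℕ) : ZMod q) = 0 := by
    have hbij : Function.Bijective fun s : Sa => (⟨s.1 b, fun e =>
        hb (s.1.injective (e.trans s.2.2.symm))⟩ : ({a}ᶜ : Set Ω)) := by
      refine ⟨fun s t e => ?_, fun d => ?_⟩
      · obtain ⟨u, -, hu⟩ := hreg b (s.1 b) hb fun e' => hb (s.1.injective (e'.trans s.2.2.symm))
        exact Subtype.ext ((hu _ ⟨s.2, rfl⟩).trans
          (hu _ ⟨t.2, (congrArg Subtype.val e).symm⟩).symm)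
      · obtain ⟨u, ⟨hu1, hu2⟩, -⟩ := hreg b d hb d.2
        exact ⟨⟨u, hu1⟩, Subtype.ext hu2⟩
    rw [Nat.card_eq_of_bijective _ hbij]
    have h1 := Set.ncard_add_ncard_compl ({a} : Set Ω)
    rw [Set.ncard_singleton, ← Nat.card_coe_set_eq] at h1
    have h3 := hcount ⊤ (Submodule.ne_bot_iff _ |>.2 ⟨_, trivial, he⟩)
    rw [Nat.card_congr (Equiv.subtypeUnivEquiv
      (p := fun x : Ω => x.rep ∈ (⊤ : Submodule F (Fin n → F))) fun _ => Submodule.mem_top), ← h1, Nat.cast_add,
      Nat.cast_one, add_eq_left] at h3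
    exact h3
  have hsum : Nat.card A * Nat.card A = ∑ᶠ s : Sa, Nat.card {x : A // s.1 x ∈ A} := by
    have : Fintype Sa := Fintype.ofFinite _
    rw [finsum_eq_sum_of_fintype, ← Nat.card_sigma, ← Nat.card_prod]
    refine (Nat.card_eq_of_bijective (fun u : (s : Sa) × {x : A // s.1 x ∈ A} =>
      ((u.2.1, ⟨u.1.1 u.2.1, u.2.2⟩) : A × A)) ⟨?_, ?_⟩).symm
    · rintro ⟨s, x, hx⟩ ⟨t, y, hy⟩ e
      simp only [Prod.ext_iff, Subtype.ext_iff] at e
      obtain ⟨e1, e2⟩ := e
      obtain rfl : x = y := Subtype.ext e1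
      have hxa : (x : Ω) ≠ a := fun e' => haA (e' ▸ x.2)
      obtain ⟨u, -, hu⟩ := hreg x (s.1 x) hxa fun e' => haA (e' ▸ hx)
      obtain rfl : s = t := Subtype.ext ((hu _ ⟨s.2, rfl⟩).trans (hu _ ⟨t.2, e2.symm⟩).symm)
      rfl
    · rintro ⟨x, y⟩
      obtain ⟨u, ⟨hu1, hu2⟩, -⟩ := hreg x y (fun e' => haA (e' ▸ x.2)) (fun e' => haA (e' ▸ y.2))
      exact ⟨⟨⟨u, hu1⟩, x, hu2 ▸ y.2⟩, Prod.ext rfl (Subtype.ext hu2)⟩
  have hone : ∀ s : Sa, ((Nat.card {x : A // s.1 x ∈ A} : ℕ) : ZMod q) = 1 := by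
    intro s
    obtain ⟨σ, f, hf, hsf⟩ := hS s.1 s.2.1
    let K : Submodule F (Fin n → F) :=
      { carrier := {v | v ∈ H ∧ f v ∈ H}
        add_mem' := fun {u v} hu hv => ⟨H.add_mem hu.1 hv.1, by rw [map_add]; exact H.add_mem hu.2 hv.2⟩
        zero_mem' := ⟨H.zero_mem, by rw [map_zero]; exact H.zero_mem⟩
        smul_mem' := fun c v hv => ⟨H.smul_mem c hv.1, by
          rw [LinearMap.map_smulₛₗ]; exact H.smul_mem _ hv.2⟩ }
    have hK : K ≠ ⊥ := by
      rw [Submodule.ne_bot_iff]
      have m1 : (Pi.single i1 (1 : F) : Fin n → F) ∈ H := by simp [H, i0, i1]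
      have m2 : (Pi.single i2 (1 : F) : Fin n → F) ∈ H := by simp [H, i0, i2]
      by_cases h0 : f (Pi.single i1 (1 : F)) i0 = 0
      · exact ⟨_, ⟨m1, h0⟩, by simp⟩
      · let c : F := σ.symm (- f (Pi.single i2 (1 : F)) i0 / f (Pi.single i1 (1 : F)) i0)
        refine ⟨c • Pi.single i1 (1 : F) + Pi.single i2 (1 : F),
          ⟨H.add_mem (H.smul_mem _ m1) m2, ?_⟩, fun e => ?_⟩
        · show f _ i0 = 0
          rw [map_add, LinearMap.map_smulₛₗ, Pi.add_apply, Pi.smul_apply, smul_eq_mul,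
            show (σ : F →+* F) c = σ c from rfl, σ.apply_symm_apply, div_mul_cancel₀ _ h0,
            neg_add_cancel]
        · have := congrFun e i2
          simp [i1, i2] at this
    rw [← hcount K hK]
    congr 1
    suffices hiff : ∀ x : Ω, x.rep ∈ H ∧ (s.1 x).rep ∈ H ↔ x.rep ∈ H ∧ f x.rep ∈ H from
      Nat.card_congr
        { toFun := fun x => ⟨x.1.1, (hiff x.1.1).1 ⟨x.1.2, x.2⟩⟩
          invFun := fun x => ⟨⟨x.1, ((hiff x.1).2 x.2).1⟩, ((hiff x.1).2 x.2).2⟩
          left_inv := fun _ => rfl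
          right_inv := fun _ => rfl }
    intro x
    refine and_congr_right fun _ => ?_
    have hx : s.1 x = Projectivization.mk F (f x.rep) (map_zero f ▸ hf.ne x.rep_nonzero) := by
      rw [hsf]
      conv_lhs => rw [← x.mk_rep]
      rfl
    obtain ⟨c, hc⟩ := Projectivization.exists_smul_eq_mk_rep F (f x.rep)
      (map_zero f ▸ hf.ne x.rep_nonzero)
    rw [hx, ← hc, Units.smul_def, H.smul_mem_iff c.ne_zero]
  have : Fintype Sa := Fintype.ofFinite _
  have h3 := congrArg (fun m : ℕ => (m : ZMod q)) hsum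
  simp only [finsum_eq_sum_of_fintype, Nat.cast_mul, Nat.cast_sum, hA, hone, Finset.sum_const,
    Finset.card_univ, nsmul_eq_mul, mul_one] at h3
  rw [← Nat.card_eq_fintype_card, hSa] at h3
  exact one_ne_zero h3

end Cfsg.Agent.S2531
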