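import Cfsg.Statements.S2533
import Cfsg.Agent.Lib.Fus.BrickKronecker
-- import your own Cfsg.Agent.* helpers here

set_option autoImplicit false
open Cfsg

namespace Cfsg.Agent.S2533

/-- For every odd prime `p` there is a finite group `H` of order `2p³` which, for infinitely many `n`, embeds in the projective special linear group `PSL(n, p)` as a subgroup with trivial centralizer. -/
theorem result
    (p : ℕ) [Fact p.Prime] (hp : p ≠ 2) :
    ∃ (H : Type) (_ : Group H) (_ : Finite H), Nat.card H = 2 * p ^ 3 ∧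
      ∀ N : ℕ, ∃ n, N ≤ n ∧ ∃ φ : H →* Matrix.ProjectiveSpecialLinearGroup (Fin n) (ZMod p),
        Function.Injective φ ∧ Subgroup.centralizer (φ.range : Set (Matrix.ProjectiveSpecialLinearGroup (Fin n) (ZMod p))) = ⊥ := by
  refine ⟨Cfsg.Agent.Fus.Brick.Grp p, inferInstance,
    Finite.of_equiv _ SemidirectProduct.equivProd.symm,
    Cfsg.Agent.Fus.Brick.card_grp p, fun N => ?_⟩
  obtain ⟨k, hk, hk3, hN⟩ : ∃ k, Even (k + 1) ∧ 3 ≤ k ∧ N ≤ k :=
    ⟨2 * N + 3, ⟨N + 2, by omega⟩, by omega, by omega⟩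
  refine ⟨k + (k + 1), by omega, (QuotientGroup.mk' _).comp (Cfsg.Agent.Fus.Brick.rep k hk),
    (injective_iff_map_eq_one _).2 fun h hh =>
      Cfsg.Agent.Fus.Brick.rep_injective k hp hk hk3 h ((QuotientGroup.eq_one_iff _).1 hh), ?_⟩
  rw [eq_bot_iff]
  intro x hx
  obtain ⟨g, rfl⟩ := QuotientGroup.mk'_surjective _ x
  rw [Subgroup.mem_bot, QuotientGroup.mk'_apply, QuotientGroup.eq_one_iff]
  refine Cfsg.Agent.Fus.Brick.rep_centralizer k hp hk hk3 g fun h => ?_
  rw [← QuotientGroup.eq_one_iff]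
  have := (Subgroup.mem_centralizer_iff.1 hx) _ ⟨h, rfl⟩
  simp only [MonoidHom.comp_apply, QuotientGroup.mk'_apply] at this
  simp only [QuotientGroup.mk_mul, QuotientGroup.mk_inv]
  rw [mul_inv_eq_one, mul_inv_eq_iff_eq_mul]
  exact this.symm

end Cfsg.Agent.S2533
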