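import Cfsg.Statements.S2534
import Cfsg.Agent.Lib.Fus.HallSymCounter
-- import your own Cfsg.Agent.* helpers here

set_option autoImplicit false
open Cfsg

namespace Cfsg.Agent.S2534

/-- For `n ≥ 5` and a set of primes `π`, the alternating group of degree `n` satisfies the full Sylow analogue for `π` (its maximal `π`-subgroups are pairwise conjugate; for a finite group this says Hall `π`-subgroups exist, are all conjugate, and contain every `π`-subgroup up to conjugacy) if and only if either at most one prime of `π` divides its order or every prime dividing its order lies in `π`. -/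
theorem result (n : ℕ) (hn : 5 ≤ n) (π : Set ℕ) :
    Cfsg.IsDPiGroup π ↥(alternatingGroup (Fin n)) ↔
      ((∀ r s : ℕ, r.Prime → s.Prime → r ∈ π → s ∈ π → r ∣ Nat.card ↥(alternatingGroup (Fin n)) → s ∣ Nat.card ↥(alternatingGroup (Fin n)) → r = s) ∨
        ∀ r : ℕ, r.Prime → r ∣ Nat.card ↥(alternatingGroup (Fin n)) → r ∈ π) := by
  refine ⟨fun hD => ?_, fun h => Cfsg.Agent.Fus.HallSym.dPi_of_improper h⟩
  refine Cfsg.Agent.Fus.HallSym.improper (α := Fin n) Cfsg.Agent.Fus.HallSym.alt_card_dvd fun hP => ?_
  rw [Fintype.card_fin] at hP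
  exact Cfsg.Agent.Fus.HallSym.alt_not_dPi hP hD

end Cfsg.Agent.S2534
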