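import Cfsg.Statements.S2537
import Cfsg.Agent.Lib.Classical.DicksonHall
-- import your own Cfsg.Agent.* helpers here

set_option autoImplicit false
open Cfsg

namespace Cfsg.Agent.S2537
open Cfsg.Agent.Dickson Cfsg.Agent.PSL2Spec

/-- Let `F` be a finite field with `q` elements of characteristic `p ≥ 5`, and `ε = 1` if `q ≡ 1 (mod 4)`, `ε = -1` otherwise. Then `PSL(2, F)` has a Hall `{2, 3}`-subgroup if and only if `3` divides `q − ε`, or the `{2,3}`-part of `q² − 1` is 24, or the `{2,3}`-part of `q² − 1` is 48 (the `{2,3}`-part of `m` being the largest divisor of `m` with no prime factor other than 2 and 3). -/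
theorem result {F : Type*} [Field F] [Fintype F] {p : ℕ} [Fact p.Prime] [CharP F p]
    (hp : 5 ≤ p) (q : ℕ) (hq : Fintype.card F = q) :
    (∃ H : Subgroup (Matrix.ProjectiveSpecialLinearGroup (Fin 2) F), Cfsg.IsPiHall ({2, 3} : Set ℕ) H) ↔
      (3 ∣ q - 1 ∧ q % 4 = 1) ∨ (3 ∣ q + 1 ∧ q % 4 = 3) ∨
        2 ^ (q ^ 2 - 1).factorization 2 * 3 ^ (q ^ 2 - 1).factorization 3 = 24 ∨
        2 ^ (q ^ 2 - 1).factorization 2 * 3 ^ (q ^ 2 - 1).factorization 3 = 48 := by
  classical
  subst hq
  obtain ⟨hf2, hf3⟩ := factorization_psl (F := F) p hp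
  have hodd : Odd (Fintype.card F) := odd_of_p p (by omega)
  have hd : del F = 2 := by
    rcases del_cases F with ⟨-, he⟩ | ⟨hd, -⟩
    · exact absurd he (Nat.not_even_iff_odd.mpr hodd)
    · exact hd
  have hG := card_psl (F := F)
  rw [hd] at hG
  obtain ⟨m, hm⟩ := hodd
  have hodd : Odd (Fintype.card F) := ⟨m, hm⟩
  have h5 : 5 ≤ Fintype.card F := le_trans hp (Nat.le_of_dvd Fintype.card_pos (dvd_card_field p))
  haveI : Fact (Nat.Prime 2) := ⟨Nat.prime_two⟩
  haveI : Fact (Nat.Prime 3) := ⟨Nat.prime_three⟩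
  -- a torus normaliser of index prime to six
  have torus : ∀ a : Matrix.ProjectiveSpecialLinearGroup (Fin 2) F, a ≠ 1 → a ^ p ≠ 1 → ∀ i : ℕ,
      Nat.card (tor a) * i * 4 = Fintype.card F * ((Fintype.card F - 1) * (Fintype.card F + 1)) →
      ¬ 2 ∣ i → ¬ 3 ∣ i → ∃ H : Subgroup (Matrix.ProjectiveSpecialLinearGroup (Fin 2) F),
        IsPiHall ({2, 3} : Set ℕ) H := by
    intro a ha hap i hi h2 h3
    haveI := solvable_normalizer_tor p (a := a) ha
    refine exists_hall_six (Subgroup.normalizer (tor a : Set (Matrix.ProjectiveSpecialLinearGroup (Fin 2) F))) ?_ ?_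
    all_goals
      have h1 := Subgroup.card_mul_index
        (Subgroup.normalizer (tor a : Set (Matrix.ProjectiveSpecialLinearGroup (Fin 2) F)))
      rw [(normalizer_tor p ha hap).1] at h1
      rw [← hG, ← h1] at hi
      have := Nat.eq_of_mul_eq_mul_left (show 0 < Nat.card (tor a) * 4 from Nat.mul_pos Nat.card_pos (by norm_num))
        (show Nat.card (tor a) * 4 * i = Nat.card (tor a) * 4 *
          (Subgroup.normalizer (tor a : Set (Matrix.ProjectiveSpecialLinearGroup (Fin 2) F))).index by linarith)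
      rw [← this]
      assumption
  have hq3 : ¬ 3 ∣ Fintype.card F := fun h => by
    obtain ⟨n, -, hn⟩ := FiniteField.card F p
    rw [hn] at h
    have := (Nat.prime_dvd_prime_iff_eq Nat.prime_three (Fact.out : p.Prime)).mp (Nat.prime_three.dvd_of_dvd_pow h)
    omega
  -- a subgroup of order twelve or twenty-four
  have small : ∀ H : Subgroup (Matrix.ProjectiveSpecialLinearGroup (Fin 2) F), ∀ a : ℕ, Nat.card H = 2 ^ a * 3 →
      (Nat.card (Matrix.ProjectiveSpecialLinearGroup (Fin 2) F)).factorization 2 = a →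
      (Nat.card (Matrix.ProjectiveSpecialLinearGroup (Fin 2) F)).factorization 3 = 1 →
      IsPiHall ({2, 3} : Set ℕ) H := by
    intro H a hH h2 h3
    refine ⟨fun r hr hd => ?_, fun r hr hr23 hd => ?_⟩
    · rw [hH] at hd
      rcases hr.dvd_mul.mp hd with e | e
      · exact Or.inl ((Nat.prime_dvd_prime_iff_eq hr Nat.prime_two).mp (hr.dvd_of_dvd_pow e))
      · exact Or.inr ((Nat.prime_dvd_prime_iff_eq hr Nat.prime_three).mp e)
    · have h1 := Subgroup.card_mul_index H
      rw [hH] at h1
      obtain ⟨c, hc⟩ := hd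
      rcases hr23 with rfl | rfl
      · refine Nat.pow_succ_factorization_not_dvd (n := Nat.card (Matrix.ProjectiveSpecialLinearGroup (Fin 2) F))
          Nat.card_pos.ne' Nat.prime_two ⟨3 * c, ?_⟩
        rw [h2, ← h1, hc, pow_succ]; ring
      · refine Nat.pow_succ_factorization_not_dvd (n := Nat.card (Matrix.ProjectiveSpecialLinearGroup (Fin 2) F))
          Nat.card_pos.ne' Nat.prime_three ⟨2 ^ a * c, ?_⟩
        rw [h3, ← h1, hc, pow_succ]; ring
  constructor
  · rintro ⟨H, hH, hHi⟩
    have hi2 : ¬ 2 ∣ H.index := hHi 2 Nat.prime_two (Or.inl rfl)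
    have hi3 : ¬ 3 ∣ H.index := hHi 3 Nat.prime_three (Or.inr rfl)
    have hfac : ∀ r : ℕ, ¬ r ∣ H.index → (Nat.card H).factorization r =
        (Nat.card (Matrix.ProjectiveSpecialLinearGroup (Fin 2) F)).factorization r := by
      intro r hr
      rw [← Subgroup.card_mul_index H, Nat.factorization_mul Nat.card_pos.ne' Subgroup.index_ne_zero_of_finite,
        Finsupp.add_apply, Nat.factorization_eq_zero_of_not_dvd hr, add_zero]
    have hdvd : ∀ r : ℕ, r.Prime → ¬ r ∣ H.index → ∀ e : ℕ,
        r ^ e ∣ Nat.card (Matrix.ProjectiveSpecialLinearGroup (Fin 2) F) → r ^ e ∣ Nat.card H := by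
      intro r hr hri e he
      rw [hr.pow_dvd_iff_le_factorization Nat.card_pos.ne'] at he ⊢
      rw [hfac r hri]; exact he
    have hG4 : 4 ∣ Nat.card (Matrix.ProjectiveSpecialLinearGroup (Fin 2) F) ∧
        3 ∣ Nat.card (Matrix.ProjectiveSpecialLinearGroup (Fin 2) F) := by
      obtain ⟨x, y, hxy⟩ := exists_quat (F := F) hodd
      obtain ⟨t, A, -, -, -, -, hA12, -, -⟩ := exists_alt4 hodd hxy
      have := Subgroup.card_subgroup_dvd_card A
      rw [hA12] at this
      exact ⟨(show 4 ∣ 12 by norm_num).trans this, (show 3 ∣ 12 by norm_num).trans this⟩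
    have hH4 : 4 ∣ Nat.card H := hdvd 2 Nat.prime_two hi2 2 hG4.1
    have hH3 : 3 ∣ Nat.card H := by simpa using hdvd 3 Nat.prime_three hi3 1 (by simpa using hG4.2)
    have hHp : ¬ p ∣ Nat.card H := fun h => by
      rcases hH p (Fact.out : p.Prime) h with e | e
      · omega
      · simp at e; omega
    have semi : ∀ a : Matrix.ProjectiveSpecialLinearGroup (Fin 2) F, a ≠ 1 → a ^ p ≠ 1 →
        H ≤ Subgroup.normalizer (tor a : Set (Matrix.ProjectiveSpecialLinearGroup (Fin 2) F)) →
        (3 ∣ Fintype.card F - 1 ∧ Fintype.card F % 4 = 1) ∨ (3 ∣ Fintype.card F + 1 ∧ Fintype.card F % 4 = 3) := by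
      intro a ha hap hle
      have h1 := Subgroup.card_dvd_of_le hle
      rw [(normalizer_tor p ha hap).1] at h1
      have h4 := hH4.trans h1
      have h3 := hH3.trans h1
      rcases card_tor_semi p ha hap with e | e <;> rw [e, hd] at h4 h3 <;> omega
    cases dickson p H with
    | trivial h => rw [h] at hH4; simp at hH4
    | cyclic a ha ha1 hap h => exact (semi a ha1 hap (h.trans Subgroup.le_normalizer)).elim Or.inl (fun e => Or.inr (Or.inl e))
    | dihedral a ha ha1 hap hidx h iso => exact (semi a ha1 hap h).elim Or.inl (fun e => Or.inr (Or.inl e))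
    | borel a ha ha1 hap h =>
      exfalso
      have := orderOf_eq_prime hap ha1
      exact hHp (this ▸ Subgroup.orderOf_dvd_natCard H ha)
    | alt4 hc iso hp' =>
      have e2 := hfac 2 hi2
      have e3 := hfac 3 hi3
      rw [hc, show (12 : ℕ) = 2 ^ 2 * 3 by norm_num, Nat.factorization_mul (by norm_num) (by norm_num),
        Finsupp.add_apply, Nat.prime_two.factorization_pow, Nat.prime_three.factorization] at e2 e3
      simp [-Nat.card_eq_fintype_card] at e2 e3
      exact Or.inr (Or.inr (Or.inl (part_iff.1.mpr ⟨by omega, by omega⟩)))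
    | perm4 hc iso hp' =>
      have e2 := hfac 2 hi2
      have e3 := hfac 3 hi3
      rw [hc, show (24 : ℕ) = 2 ^ 3 * 3 by norm_num, Nat.factorization_mul (by norm_num) (by norm_num),
        Finsupp.add_apply, Nat.prime_two.factorization_pow, Nat.prime_three.factorization] at e2 e3
      simp [-Nat.card_eq_fintype_card] at e2 e3
      exact Or.inr (Or.inr (Or.inr (part_iff.2.mpr ⟨by omega, by omega⟩)))
    | alt5 hc iso hp' =>
      exfalso
      rcases hH 5 (by norm_num) (by rw [hc]; norm_num) with e | e <;> simp at e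
    | subfield h =>
      exfalso
      obtain ⟨K, hKf, hKfin, e, hK3, hKq, hiso⟩ := h.nonempty
      obtain ⟨j, -, hj⟩ := FiniteField.card F p
      have hpK : p ∣ Fintype.card K := by
        obtain ⟨r, hr⟩ := CharP.exists K
        obtain ⟨i, hr', hi⟩ := FiniteField.card K r
        have : r = p := by
          refine (Nat.prime_dvd_prime_iff_eq hr' (Fact.out : p.Prime)).mp (hr'.dvd_of_dvd_pow (n := j) ?_)
          rw [← hj, ← hKq, hi]
          have he : e ≠ 0 := fun e0 => by rw [e0, pow_zero] at hKq; omega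
          exact dvd_trans (dvd_pow_self r i.pos.ne') (dvd_pow_self _ he)
        rw [hi, this]; exact dvd_pow_self p i.pos.ne'
      refine hHp ?_
      rcases hiso with ⟨⟨i⟩⟩ | ⟨⟨i⟩⟩
      · rw [Nat.card_congr i.toEquiv]
        have h2 : p ∣ Nat.card (Matrix.ProjectiveSpecialLinearGroup (Fin 2) K) * del K :=
          card_psl (F := K) ▸ hpK.mul_right _
        refine ((Nat.prime_iff.mp (Fact.out : p.Prime)).dvd_or_dvd h2).resolve_right fun h => ?_
        have := Nat.le_of_dvd (by rcases del_cases K with ⟨x, -⟩ | ⟨x, -⟩ <;> omega) h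
        rcases del_cases K with ⟨x, -⟩ | ⟨x, -⟩ <;> omega
      · rw [Nat.card_congr i.toEquiv, card_pgl]
        exact hpK.mul_right _
  · rintro (⟨h3, h4⟩ | ⟨h3, h4⟩ | h | h)
    · obtain ⟨a, ha, hap, hT⟩ := exists_tor_minus (F := F) p (by rw [hd]; omega)
      rw [hd] at hT
      refine torus a ha hap (Fintype.card F * ((Fintype.card F + 1) / 2)) ?_ ?_ ?_
      · rw [hT]
        obtain ⟨c, hc⟩ : 2 ∣ Fintype.card F - 1 := by omega
        obtain ⟨d, hd'⟩ : 2 ∣ Fintype.card F + 1 := by omega
        rw [hc, hd', Nat.mul_div_cancel_left c two_pos, Nat.mul_div_cancel_left d two_pos]; ring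
      · intro h; rcases Nat.prime_two.dvd_mul.mp h with h | h <;> omega
      · intro h; rcases Nat.prime_three.dvd_mul.mp h with h | h <;> omega
    · obtain ⟨a, ha, hap, hT⟩ := exists_tor_plus (F := F) p
      rw [hd] at hT
      refine torus a ha hap (Fintype.card F * ((Fintype.card F - 1) / 2)) ?_ ?_ ?_
      · rw [hT]
        obtain ⟨c, hc⟩ : 2 ∣ Fintype.card F - 1 := by omega
        obtain ⟨d, hd'⟩ : 2 ∣ Fintype.card F + 1 := by omega
        rw [hc, hd', Nat.mul_div_cancel_left c two_pos, Nat.mul_div_cancel_left d two_pos]; ring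
      · intro h; rcases Nat.prime_two.dvd_mul.mp h with h | h <;> omega
      · intro h; rcases Nat.prime_three.dvd_mul.mp h with h | h <;> omega
    · obtain ⟨ha, hb⟩ := part_iff.1.mp h
      obtain ⟨x, y, hxy⟩ := exists_quat (F := F) hodd
      obtain ⟨t, A, -, -, -, -, hA12, -, -⟩ := exists_alt4 hodd hxy
      exact ⟨A, small A 2 (by rw [hA12]; norm_num) (by omega) (by omega)⟩
    · obtain ⟨ha, hb⟩ := part_iff.2.mp h
      obtain ⟨x, y, hxy⟩ := exists_quat (F := F) hodd
      refine ⟨_, small (Subgroup.normalizer (hxy.klein : Set (Matrix.ProjectiveSpecialLinearGroup (Fin 2) F))) 3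
        ?_ (by omega) (by omega)⟩
      refine ((card_normalizer_klein p hodd hxy).1 ?_).trans (by norm_num)
      by_contra h8
      have h16 : 2 ^ 4 ∣ Fintype.card F ^ 2 - 1 := by
        rw [← ha]; exact Nat.ordProj_dvd _ 2
      rw [show Fintype.card F ^ 2 - 1 = (Fintype.card F - 1) * (Fintype.card F + 1) by
        rw [mul_comm, ← Nat.sq_sub_sq, one_pow]] at h16
      rcases (show Fintype.card F % 8 = 3 ∨ Fintype.card F % 8 = 5 by omega) with e | e
      · obtain ⟨c, hc⟩ : ∃ c, Fintype.card F = 8 * c + 3 := ⟨Fintype.card F / 8, by omega⟩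
        rw [hc, show 8 * c + 3 - 1 = 8 * c + 2 by omega,
          show (8 * c + 2) * (8 * c + 3 + 1) = 2 ^ 4 * (4 * c * c + 3 * c) + 8 by ring] at h16
        have := (Nat.dvd_add_right (Dvd.intro _ rfl)).mp h16
        norm_num at this
      · obtain ⟨c, hc⟩ : ∃ c, Fintype.card F = 8 * c + 5 := ⟨Fintype.card F / 8, by omega⟩
        rw [hc, show 8 * c + 5 - 1 = 8 * c + 4 by omega,
          show (8 * c + 4) * (8 * c + 5 + 1) = 2 ^ 4 * (4 * c * c + 5 * c + 1) + 8 by ring] at h16
        have := (Nat.dvd_add_right (Dvd.intro _ rfl)).mp h16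
        norm_num at this

end Cfsg.Agent.S2537
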