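import Cfsg.Statements.S2540
import Mathlib
import Cfsg.Agent.Lib.Classical.SLNormal


set_option autoImplicit false
open Cfsg

namespace Cfsg.Agent.S2540


/-- Let F be a finite field and n ≥ 1, excluding the case n = 2 with #F ≤ 3. A subgroup of GL_n(F) that is normalized by every element of SL_n(F) either consists of scalar matrices or contains SL_n(F). -/
theorem result {F : Type*} [Field F] [Fintype F] (n : ℕ) (hn : 1 ≤ n) (hex : ¬ (n = 2 ∧ Fintype.card F ≤ 3)) (G : Subgroup (Matrix.GeneralLinearGroup (Fin n) F)) (hG : ∀ s : Matrix.SpecialLinearGroup (Fin n) F, ∀ g ∈ G, (Matrix.SpecialLinearGroup.toGL s) * g * (Matrix.SpecialLinearGroup.toGL s)⁻¹ ∈ G) : (∀ g ∈ G, ∃ c : F, (g : Matrix (Fin n) (Fin n) F) = c • (1 : Matrix (Fin n) (Fin n) F)) ∨ (Matrix.SpecialLinearGroup.toGL : Matrix.SpecialLinearGroup (Fin n) F →* _).range ≤ G := by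
  classical
  by_cases hall : ∀ g ∈ G, ∃ c : F, (g : Matrix (Fin n) (Fin n) F) = c • (1 : Matrix (Fin n) (Fin n) F)
  · exact Or.inl hall
  right
  push Not at hall
  obtain ⟨g, hg, hgs⟩ := hall
  set ι' : Matrix.SpecialLinearGroup (Fin n) F →* GL (Fin n) F := Matrix.SpecialLinearGroup.toGL
  rcases eq_or_lt_of_le hn with rfl | hn2
  · exact absurd (Matrix.ext fun i j => by
      rw [Subsingleton.elim i 0, Subsingleton.elim j 0]; simp) (hgs ((g : Matrix (Fin 1) (Fin 1) F) 0 0))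
  have hq : n = 2 → 4 ≤ Fintype.card F := fun h => by
    by_contra hlt; exact hex ⟨h, by omega⟩
  have := Cfsg.Agent.Classical.PSL_isSimple hn2 hq
  have hperf := Cfsg.Agent.Classical.SL_commutator_eq_top (F := F) (ι := Fin n)
    (fun h => Cfsg.Agent.Classical.exists_sq_ne_one_field (hq (by simpa using h)))
  set N := G.comap ι'
  have hNn : N.Normal := ⟨fun x hx s => by
    show ι' (s * x * s⁻¹) ∈ G
    rw [map_mul, map_mul, map_inv]
    exact hG s _ hx⟩
  suffices hne : ¬ N ≤ Subgroup.center (Matrix.SpecialLinearGroup (Fin n) F) by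
    rintro _ ⟨s, rfl⟩
    have := Cfsg.Agent.Classical.SL_normal_eq_top hperf N hne
    exact (this ▸ Subgroup.mem_top s : s ∈ N)
  intro hle
  have hz : ∀ s, ι' s * g * (ι' s)⁻¹ * g⁻¹ ∈ Subgroup.center (GL (Fin n) F) := by
    intro s
    have hm : ι' s * g * (ι' s)⁻¹ * g⁻¹ ∈ G := G.mul_mem (hG s g hg) (G.inv_mem hg)
    obtain ⟨t, ht⟩ : ι' s * g * (ι' s)⁻¹ * g⁻¹ ∈ ι'.range := by
      rw [← Cfsg.Agent.Classical.GL_ker_det_eq_range_toGL, MonoidHom.mem_ker]
      simp only [map_mul, map_inv]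
      rw [mul_comm (Matrix.GeneralLinearGroup.det (ι' s)) _]
      group
    rw [← ht] at hm ⊢
    obtain ⟨r, -, hr⟩ := Matrix.SpecialLinearGroup.mem_center_iff.1 (hle hm)
    refine Subgroup.mem_center_iff.2 fun x => Units.ext ?_
    show (x : Matrix (Fin n) (Fin n) F) * (t : Matrix (Fin n) (Fin n) F) =
      (t : Matrix (Fin n) (Fin n) F) * (x : Matrix (Fin n) (Fin n) F)
    rw [← hr]
    exact ((Matrix.scalar_commute r (fun r' => mul_comm r r') _).eq).symm
  have hmul : ∀ s t, ι' (s * t) * g * (ι' (s * t))⁻¹ * g⁻¹ =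
      (ι' s * g * (ι' s)⁻¹ * g⁻¹) * (ι' t * g * (ι' t)⁻¹ * g⁻¹) := fun s t => by
      calc ι' (s * t) * g * (ι' (s * t))⁻¹ * g⁻¹
          = ι' s * (ι' t * g * (ι' t)⁻¹ * g⁻¹) * g * (ι' s)⁻¹ * g⁻¹ := by rw [map_mul]; group
        _ = (ι' t * g * (ι' t)⁻¹ * g⁻¹) * ι' s * g * (ι' s)⁻¹ * g⁻¹ := by
            rw [Subgroup.mem_center_iff.1 (hz t) (ι' s)]
        _ = (ι' t * g * (ι' t)⁻¹ * g⁻¹) * (ι' s * g * (ι' s)⁻¹ * g⁻¹) := by group
        _ = _ := (Subgroup.mem_center_iff.1 (hz t) _).symm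
  let f : Matrix.SpecialLinearGroup (Fin n) F →* GL (Fin n) F :=
    MonoidHom.mk' (fun s => ι' s * g * (ι' s)⁻¹ * g⁻¹) hmul
  have hψ : ∀ s, f s = 1 := by
    intro s
    have hle' : commutator (Matrix.SpecialLinearGroup (Fin n) F) ≤ f.ker := by
      rw [commutator_def, Subgroup.commutator_le]
      intro a _ b _
      rw [MonoidHom.mem_ker, map_commutatorElement, commutatorElement_eq_one_iff_mul_comm]
      exact (Subgroup.mem_center_iff.1 (hz a) (f b)).symm
    exact MonoidHom.mem_ker.1 (hle' (hperf ▸ Subgroup.mem_top s))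
  obtain ⟨c, hc⟩ := Matrix.mem_range_scalar_of_commute_transvectionStruct
    (M := (g : Matrix (Fin n) (Fin n) F)) (fun t => by
      have h1 : ι' t.toSpecialLinearGroup * g * (ι' t.toSpecialLinearGroup)⁻¹ * g⁻¹ = 1 :=
        hψ t.toSpecialLinearGroup
      have h2 : ι' t.toSpecialLinearGroup * g = g * ι' t.toSpecialLinearGroup := by
        rw [mul_inv_eq_one, mul_inv_eq_iff_eq_mul] at h1; exact h1
      exact congrArg Units.val h2)
  exact hgs c (by rw [← hc, Matrix.scalar_apply, Matrix.smul_one_eq_diagonal])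

end Cfsg.Agent.S2540
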