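import Cfsg.Statements.S2541
import Mathlib
-- import your own Cfsg.Agent.* helpers here

set_option autoImplicit false
open Cfsg

namespace Cfsg.Agent.S2541

/-- Let F be a field with 9 elements. The symmetric group S_6 is not isomorphic to PGL_2(F) (although both have index-2 subgroups isomorphic to A_6). -/
theorem result {F : Type*} [Field F] [Fintype F] (hF : Fintype.card F = 9) : ¬ Nonempty (Equiv.Perm (Fin 6) ≃* Matrix.ProjGenLinGroup (Fin 2) F) := by
  classical
  rintro ⟨e⟩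
  obtain ⟨z, hz⟩ : ∃ z : Fˣ, orderOf z = 8 := by
    obtain ⟨z, hz⟩ := IsCyclic.exists_ofOrder_eq_natCard (α := Fˣ)
    exact ⟨z, by rw [hz, Nat.card_eq_fintype_card, Fintype.card_units, hF]⟩
  let D : Fˣ → GL (Fin 2) F := fun t => ⟨!![(t : F), 0; 0, 1], !![((t⁻¹ : Fˣ) : F), 0; 0, 1],
    by ext i j; fin_cases i <;> fin_cases j <;> simp, by ext i j; fin_cases i <;> fin_cases j <;> simp⟩
  have hD : ∀ (t : Fˣ) (k : ℕ), D t ^ k = D (t ^ k) := by
    intro t k
    induction k with
    | zero => ext i j; fin_cases i <;> fin_cases j <;> simp [D]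
    | succ k ih => rw [pow_succ, ih]; ext i j; fin_cases i <;> fin_cases j <;> simp [D, pow_succ]
  set x := Matrix.ProjGenLinGroup.mk (D z) with hx
  have h4 : x ^ 4 ≠ 1 := fun h => by
    rw [hx, ← map_pow, hD, Matrix.ProjGenLinGroup.mk_eq_one, Subgroup.mem_center_iff] at h
    have := congrArg (fun g : GL (Fin 2) F => (g : Matrix (Fin 2) (Fin 2) F) 0 1)
      (h ⟨!![1, 1; 0, 1], !![1, -1; 0, 1], by ext i j; fin_cases i <;> fin_cases j <;> simp,
        by ext i j; fin_cases i <;> fin_cases j <;> simp⟩)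
    simp [D] at this
    exact absurd (orderOf_dvd_of_pow_eq_one (Units.ext (by simpa using this.symm) : z ^ 4 = 1)) (by rw [hz]; norm_num)
  have h8 : x ^ 8 = 1 := by
    rw [hx, ← map_pow, hD, ← hz, pow_orderOf_eq_one]
    rw [Matrix.ProjGenLinGroup.mk_eq_one]
    convert Subgroup.one_mem (Subgroup.center (GL (Fin 2) F))
    ext i j; fin_cases i <;> fin_cases j <;> simp [D]
  set σ := e.symm x with hσ
  have ho : orderOf σ = 8 := by
    rw [hσ, MulEquiv.orderOf_eq]
    exact orderOf_eq_prime_pow (p := 2) (n := 2) (by simpa using h4) (by simpa using h8)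
  have h := σ.lcm_cycleType
  rw [ho] at h
  have hev : ∀ m : Multiset ℕ, (∀ a ∈ m, a ∣ 4) → m.lcm ∣ 4 := fun m hm => Multiset.lcm_dvd.mpr hm
  have : σ.cycleType.lcm ∣ 4 ∨ ∃ a ∈ σ.cycleType, ¬ a ∣ 4 := by
    by_cases hh : ∀ a ∈ σ.cycleType, a ∣ 4
    · exact Or.inl (hev _ hh)
    · exact Or.inr (by push Not at hh; exact hh)
  rcases this with h' | ⟨a, ha, ha4⟩
  · rw [h] at h'; norm_num at h'
  · have h1 : a ∣ 8 := by rw [← h]; exact Multiset.dvd_lcm ha
    have h2 := Equiv.Perm.le_card_support_of_mem_cycleType ha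
    have h3 := Finset.card_le_univ σ.support
    rw [Fintype.card_fin] at h3
    have : a ∈ Nat.divisors 8 := Nat.mem_divisors.mpr ⟨h1, by norm_num⟩
    have h5 : ∀ b ∈ Nat.divisors 8, b ≤ 6 → b ∣ 4 := by decide
    exact ha4 (h5 a this (by omega))

end Cfsg.Agent.S2541
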