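import Cfsg.Statements.S2549
import Cfsg.Agent.Lib.Classical.SteinbergMinus
import Cfsg.Agent.Lib.Classical.SteinbergMinusSmall
import Cfsg.Agent.Lib.Classical.PSLSteinberg
import Cfsg.Agent.Lib.Fus.OmegaFourMinus
import Cfsg.Agent.Lib.Char.Quotient
-- import your own Cfsg.Agent.* helpers here

set_option autoImplicit false
open Cfsg

namespace Cfsg.Agent.S2549

/-- Let F be a finite field of characteristic p and consider the group PΩ⁻_{2m+2}(F) of the quadratic form Σ_{i<m} x_i y_i + (z₁² + a z₁ z₂ + b z₂²) with anisotropic binary part, m ≥ 0. This group has an irreducible complex character χ whose degree equals the order of a Sylow p-subgroup (namely q^(m(m+1)) when #F = q) and whose restriction to any Sylow p-subgroup P is the regular character of P: χ vanishes on the non-identity elements of P. (This is the Steinberg character.) -/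
theorem result {F : Type*} [Field F] [Fintype F] (p : ℕ) [Fact p.Prime] [CharP F p] (m : ℕ) (a b : F) (hab : ∀ z₁ z₂ : F, z₁ ^ 2 + a * z₁ * z₂ + b * z₂ ^ 2 = 0 → z₁ = 0 ∧ z₂ = 0) : ∃ χ : Cfsg.POmega F (Cfsg.quadFormMinus m F a b) → ℂ, Cfsg.IsIrrCharacter (Cfsg.POmega F (Cfsg.quadFormMinus m F a b)) χ ∧ ∀ P : Sylow p (Cfsg.POmega F (Cfsg.quadFormMinus m F a b)), χ 1 = Nat.card P ∧ ∀ x : Cfsg.POmega F (Cfsg.quadFormMinus m F a b), x ∈ P → x ≠ 1 → χ x = 0 := by
  classical
  obtain rfl | rfl | hm : m = 0 ∨ m = 1 ∨ 2 ≤ m := by omega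
  · exact Cfsg.Agent.Classical.StMinusSmall.exists_char_zero hab p
  · obtain ⟨K, _, _, hK⟩ := Cfsg.Agent.Classical.OrthAut.exists_quadExt (F := F) (a := a) (b := b) hab
    haveI : Module.Finite F K := Module.finite_of_finrank_eq_succ hK
    haveI : Finite K := Module.finite_of_finite F
    letI : Fintype K := Fintype.ofFinite K
    haveI : CharP K p := charP_of_injective_algebraMap (algebraMap F K).injective p
    obtain ⟨e⟩ := Cfsg.Agent.Fus.OmegaFourMinus.nonempty_pOmega_four_minus (K := K) rfl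
      (by rw [Module.card_eq_pow_finrank (K := F) (V := K), hK]) a b hab
    obtain ⟨χ, hχ, hP⟩ := Cfsg.Agent.Classical.PSLSteinberg.exists_char (F := K) (p := p) (n := 2) (by omega)
    haveI : Finite (Cfsg.POmega F (Cfsg.quadFormMinus 1 F a b)) := Finite.of_equiv _ e.toEquiv.symm
    refine ⟨fun x => χ (e x), Cfsg.Agent.Char.IsIrr.comp_mulEquiv e hχ, fun P => ⟨?_, fun x hx hx1 => ?_⟩⟩
    · obtain ⟨Q⟩ : Nonempty (Sylow p (Matrix.ProjectiveSpecialLinearGroup (Fin 2) K)) := inferInstance
      show χ (e 1) = _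
      rw [map_one, (hP Q).1, Sylow.card_eq_multiplicity, Sylow.card_eq_multiplicity, Nat.card_congr e.toEquiv]
    · obtain ⟨Q, hQ⟩ := (P.isPGroup'.map e.toMonoidHom).exists_le_sylow
      exact (hP Q).2 (e x) (hQ (Subgroup.mem_map_of_mem _ hx)) fun h => hx1 (e.injective (by rw [h, map_one]))
  · exact Cfsg.Agent.Classical.StMinus.exists_char_minus_big p hab hm

end Cfsg.Agent.S2549
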