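import Cfsg.Statements.S2550
import Cfsg.Agent.Lib.Spor.PSLThreeFour
import Cfsg.Agent.S0243
import Cfsg.Agent.S0256
-- import your own Cfsg.Agent.* helpers here

set_option autoImplicit false
open Cfsg

namespace Cfsg.Agent.S2550

/-- Let F be a field with 2 elements and K a field with 4 elements. PSL_4(F) and PSL_3(K) have the same order (20160) but are not isomorphic. -/
theorem result {F K : Type*} [Field F] [Fintype F] [Field K] [Fintype K] (hF : Fintype.card F = 2) (hK : Fintype.card K = 4) : Nat.card (Matrix.ProjectiveSpecialLinearGroup (Fin 4) F) = Nat.card (Matrix.ProjectiveSpecialLinearGroup (Fin 3) K) ∧ ¬ Nonempty (Matrix.ProjectiveSpecialLinearGroup (Fin 4) F ≃* Matrix.ProjectiveSpecialLinearGroup (Fin 3) K) := by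
  haveI : Finite (Matrix.ProjectiveSpecialLinearGroup (Fin 3) K) := Nat.finite_of_card_ne_zero (by
    have h := Cfsg.Agent.S0243.result (F := K) hK 3 (by norm_num)
    intro h0
    rw [h0] at h
    norm_num [Fin.prod_univ_three] at h)
  constructor
  · have h := Cfsg.Agent.S0243.result (F := K) hK 3 (by norm_num)
    have h' := Cfsg.Agent.S0243.result (F := F) hF 4 (by norm_num)
    rw [Fin.prod_univ_three] at h
    rw [Fin.prod_univ_four] at h'
    norm_num at h h' ⊢
    omega
  · rintro ⟨f⟩
    obtain ⟨a8⟩ := Cfsg.Agent.S0256.result (F := F) hF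
    obtain ⟨e⟩ := Spor.L34Elem.model hK
    let σ : Equiv.Perm (Fin 8) :=
      ([0, 1, 2, 3, 4] : List (Fin 8)).formPerm * ([5, 6, 7] : List (Fin 8)).formPerm
    let g : alternatingGroup (Fin 8) := ⟨σ, by rw [Equiv.Perm.mem_alternatingGroup]; decide +kernel⟩
    have hg : orderOf g = 15 := by
      rw [orderOf_eq_iff (by norm_num)]
      refine ⟨Subtype.ext (show σ ^ 15 = 1 by decide +kernel), ?_⟩
      intro m hm hpos h
      have key : ∀ m : Fin 15, 0 < (m : ℕ) → σ ^ (m : ℕ) ≠ 1 := by decide +kernel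
      exact key ⟨m, hm⟩ hpos (congrArg Subtype.val h)
    exact Spor.L34Elem.no_fifteen (e (f (a8.symm g))) (by
      rw [MulEquiv.orderOf_eq, MulEquiv.orderOf_eq, MulEquiv.orderOf_eq, hg])

end Cfsg.Agent.S2550
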