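import Cfsg.Statements.S2551
import Cfsg.Agent.Lib.Recog.GL42Seven
import Cfsg.Agent.Lib.Alt.AutAlternating
-- import your own Cfsg.Agent.* helpers here

set_option autoImplicit false
open Cfsg

namespace Cfsg.Agent.S2551

open Matrix

/-- A copy of the alternating group of degree seven inside the one of degree eight. -/
theorem alt_seven_le : ∃ f : alternatingGroup (Fin 7) →* alternatingGroup (Fin 8), Function.Injective f := by
  let h : Equiv.Perm (Fin 7) →* Equiv.Perm (Fin 8) := Equiv.Perm.extendDomainHom (finSuccAboveEquiv (0 : Fin 8))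
  let f : alternatingGroup (Fin 7) →* alternatingGroup (Fin 8) :=
    (h.comp (alternatingGroup (Fin 7)).subtype).codRestrict _ fun x => Equiv.Perm.mem_alternatingGroup.2 (by
      show Equiv.Perm.sign (Equiv.Perm.extendDomain (x : Equiv.Perm (Fin 7)) _) = 1
      rw [Equiv.Perm.sign_extendDomain]; exact x.2)
  refine ⟨f, fun a b hab => Subtype.ext ?_⟩
  exact Equiv.Perm.extendDomainHom_injective _ (congrArg Subtype.val hab)

/-- A subgroup of index eight of the alternating group of degree eight is a point stabiliser. -/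
theorem index_eight (K : Subgroup (alternatingGroup (Fin 8))) (hK : K.index = 8) :
    ∃ j : Fin 8, ∀ x : alternatingGroup (Fin 8), (x : Equiv.Perm (Fin 8)) j = j → x ∈ K := by
  haveI : IsSimpleGroup (alternatingGroup (Fin 8)) := alternatingGroup.isSimpleGroup (by simp)
  have hcQ : Nat.card (alternatingGroup (Fin 8) ⧸ K) = Nat.card (Fin 8) := by
    rw [← Subgroup.index_eq_card, hK, Nat.card_fin]
  obtain ⟨u⟩ : Nonempty (alternatingGroup (Fin 8) ⧸ K ≃ Fin 8) := ⟨Classical.choice (Finite.card_eq.1 hcQ)⟩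
  let ψ : alternatingGroup (Fin 8) →* Equiv.Perm (Fin 8) :=
    u.permCongrHom.toMonoidHom.comp (MulAction.toPermHom (alternatingGroup (Fin 8)) (alternatingGroup (Fin 8) ⧸ K))
  have hψ : ∀ x, ψ x (u ((1 : alternatingGroup (Fin 8)) : alternatingGroup (Fin 8) ⧸ K)) =
      u ((x : alternatingGroup (Fin 8)) : alternatingGroup (Fin 8) ⧸ K) := fun x => by
    show u (x • (u.symm (u _))) = _
    rw [Equiv.symm_apply_apply, MulAction.Quotient.smul_coe, smul_eq_mul, mul_one]
  have hinj : Function.Injective ψ := by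
    rw [← MonoidHom.ker_eq_bot_iff]
    rcases IsSimpleGroup.eq_bot_or_eq_top_of_normal ψ.ker inferInstance with h | h
    · exact h
    · exfalso
      have hall : ∀ x, x ∈ K := fun x => by
        have h1 : ψ x = 1 := (MonoidHom.mem_ker).1 (h ▸ Subgroup.mem_top x)
        have h2 := hψ x
        rw [h1, Equiv.Perm.one_apply] at h2
        have h3 := QuotientGroup.eq.1 (u.injective h2)
        simpa using h3
      rw [(Subgroup.eq_top_iff' K).2 hall, Subgroup.index_top] at hK
      omega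
  have hrange : ψ.range = alternatingGroup (Fin 8) := by
    refine Equiv.Perm.eq_alternatingGroup_of_index_eq_two ?_
    have h := Subgroup.card_mul_index ψ.range
    rw [Nat.card_congr (MonoidHom.ofInjective hinj).symm.toEquiv, nat_card_alternatingGroup, Nat.card_perm] at h
    norm_num [Nat.factorial] at h
    omega
  let θ : MulAut (alternatingGroup (Fin 8)) := (MonoidHom.ofInjective hinj).trans (MulEquiv.subgroupCongr hrange)
  obtain ⟨σ, hσ⟩ := AltAut.exists_perm (by simp) (by simp) θ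
  refine ⟨σ⁻¹ (u ((1 : alternatingGroup (Fin 8)) : alternatingGroup (Fin 8) ⧸ K)), fun x hx => ?_⟩
  have hθ : ψ x = σ * (x : Equiv.Perm (Fin 8)) * σ⁻¹ := by
    have : ((θ x : alternatingGroup (Fin 8)) : Equiv.Perm (Fin 8)) = ψ x := rfl
    rw [← this, ← hσ, MulAut.conjNormal_apply]
  have h2 := hψ x
  rw [hθ, Equiv.Perm.mul_apply, Equiv.Perm.mul_apply, hx, Equiv.Perm.coe_inv, Equiv.apply_symm_apply] at h2
  have h3 := QuotientGroup.eq.1 (u.injective h2)
  simpa using h3

/-- Let F be the field with 2 elements. GL_4(F) (≅ A_8) has a subgroup isomorphic to the alternating group A_7, and every such subgroup acts 2-transitively on the 15 non-zero vectors of F⁴: any ordered pair of distinct non-zero vectors is carried to any other by some element of the subgroup. -/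
theorem result {F : Type*} [Field F] [Fintype F] (hF : Fintype.card F = 2) : (∃ H : Subgroup (Matrix.GeneralLinearGroup (Fin 4) F), Nonempty (H ≃* alternatingGroup (Fin 7))) ∧ ∀ H : Subgroup (Matrix.GeneralLinearGroup (Fin 4) F), Nonempty (H ≃* alternatingGroup (Fin 7)) → ∀ v w v' w' : Fin 4 → F, v ≠ 0 → w ≠ 0 → v ≠ w → v' ≠ 0 → w' ≠ 0 → v' ≠ w' → ∃ g ∈ H, (g : Matrix (Fin 4) (Fin 4) F).mulVec v = v' ∧ (g : Matrix (Fin 4) (Fin 4) F).mulVec w = w' := by
  haveI : Fact (Nat.Prime 2) := ⟨Nat.prime_two⟩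
  let e : F ≃+* ZMod 2 := (ZMod.ringEquivOfPrime F Nat.prime_two hF).symm
  let ψ : Matrix.GeneralLinearGroup (Fin 4) F →* Matrix.GeneralLinearGroup (Fin 4) (ZMod 2) :=
    Matrix.GeneralLinearGroup.map e.toRingHom
  have hψ : Function.Injective ψ := fun A B h => Units.ext (Matrix.ext fun i j => e.injective
    (congrFun (congrFun (congrArg (fun g : Matrix.GeneralLinearGroup (Fin 4) (ZMod 2) => (g : Matrix (Fin 4) (Fin 4) (ZMod 2))) h) i) j))
  have hinj : Function.Injective (Recog.GL42.homAlt.comp ψ) := Recog.GL42.homAlt_injective.comp hψ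
  have hcard : Nat.card (Matrix.GeneralLinearGroup (Fin 4) F) = Nat.card (alternatingGroup (Fin 8)) := by
    rw [Matrix.card_GL_field, nat_card_alternatingGroup, Nat.card_fin, hF, Fin.prod_univ_four]
    norm_num [Nat.factorial]
  have hbij : Function.Bijective (Recog.GL42.homAlt.comp ψ) := hinj.bijective_of_nat_card_le hcard.ge
  let φ : Matrix.GeneralLinearGroup (Fin 4) F ≃* alternatingGroup (Fin 8) := MulEquiv.ofBijective _ hbij
  refine ⟨?_, fun H hH v w v' w' hv hw hvw hv' hw' hvw' => ?_⟩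
  · obtain ⟨f, hf⟩ := alt_seven_le
    exact ⟨(φ.symm.toMonoidHom.comp f).range, ⟨(MonoidHom.ofInjective (φ.symm.injective.comp hf)).symm⟩⟩
  obtain ⟨eH⟩ := hH
  have hK : (H.map φ.toMonoidHom).index = 8 := by
    have h := Subgroup.card_mul_index (H.map φ.toMonoidHom)
    rw [Nat.card_congr (Subgroup.equivMapOfInjective H φ.toMonoidHom φ.injective).symm.toEquiv,
      Nat.card_congr eH.toEquiv] at h
    simp only [nat_card_alternatingGroup, Nat.card_fin] at h
    rw [show Nat.factorial 7 / 2 = 2520 from rfl, show Nat.factorial 8 / 2 = 20160 from rfl] at h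
    omega
  obtain ⟨j, hj⟩ := index_eight _ hK
  obtain ⟨c, hc⟩ : ∃ c : alternatingGroup (Fin 8), (c : Equiv.Perm (Fin 8)) 0 = j := by
    haveI := alternatingGroup.isPretransitive_of_three_le_card (Fin 8) (by simp)
    obtain ⟨c, hc⟩ := MulAction.exists_smul_eq (alternatingGroup (Fin 8)) (0 : Fin 8) j
    exact ⟨c, hc⟩
  let h := φ.symm c
  let Φ : (Fin 4 → F) → (Fin 4 → ZMod 2) := fun x i => e (x i)
  have hΦ : Function.Injective Φ := fun x y h => funext fun i => e.injective (congrFun h i)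
  have hΦ0 : ∀ x, x ≠ 0 → Φ x ≠ 0 := fun x hx h0 => hx (hΦ (h0.trans (funext fun i => (map_zero e).symm)))
  have hinvne : ∀ x : Fin 4 → F, x ≠ 0 → ((h⁻¹ : Matrix.GeneralLinearGroup (Fin 4) F) : Matrix (Fin 4) (Fin 4) F).mulVec x ≠ 0 := fun x hx h0 => hx (by
    have := congrArg ((h : Matrix (Fin 4) (Fin 4) F).mulVec) h0
    rwa [Matrix.mulVec_mulVec, ← Units.val_mul, mul_inv_cancel, Units.val_one, Matrix.one_mulVec, Matrix.mulVec_zero] at this)
  have hinvinj : ∀ x y : Fin 4 → F, x ≠ y → ((h⁻¹ : Matrix.GeneralLinearGroup (Fin 4) F) : Matrix (Fin 4) (Fin 4) F).mulVec x ≠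
      ((h⁻¹ : Matrix.GeneralLinearGroup (Fin 4) F) : Matrix (Fin 4) (Fin 4) F).mulVec y := fun x y hxy h0 => hxy (by
    have := congrArg ((h : Matrix (Fin 4) (Fin 4) F).mulVec) h0
    rwa [Matrix.mulVec_mulVec, Matrix.mulVec_mulVec, ← Units.val_mul, mul_inv_cancel, Units.val_one, Matrix.one_mulVec, Matrix.one_mulVec] at this)
  obtain ⟨g', hg0, hg1, hg2⟩ := Recog.GL42Seven.stab_two_transitive (hΦ0 _ (hinvne v hv)) (hΦ0 _ (hinvne w hw))
    (hΦ.ne (hinvinj v w hvw)) (hΦ0 _ (hinvne v' hv')) (hΦ0 _ (hinvne w' hw')) (hΦ.ne (hinvinj v' w' hvw'))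
  obtain ⟨g, rfl⟩ : ∃ g, ψ g = g' := by
    refine ⟨φ.symm (Recog.GL42.homAlt g'), Recog.GL42.homAlt_injective ?_⟩
    exact φ.apply_symm_apply (Recog.GL42.homAlt g')
  have hmap : ∀ (A : Matrix.GeneralLinearGroup (Fin 4) F) (x : Fin 4 → F),
      ((ψ A : Matrix.GeneralLinearGroup (Fin 4) (ZMod 2)) : Matrix (Fin 4) (Fin 4) (ZMod 2)).mulVec (Φ x) =
        Φ ((A : Matrix (Fin 4) (Fin 4) F).mulVec x) := fun A x => funext fun i =>
    (RingHom.map_mulVec e.toRingHom (A : Matrix (Fin 4) (Fin 4) F) x i).symm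
  rw [hmap] at hg1 hg2
  refine ⟨h * g * h⁻¹, ?_, ?_, ?_⟩
  · have hmem : φ (h * g * h⁻¹) ∈ H.map φ.toMonoidHom := hj _ (by
      rw [map_mul, map_mul, map_inv, MulEquiv.apply_symm_apply, Subgroup.coe_mul, Subgroup.coe_mul, Subgroup.coe_inv,
        Equiv.Perm.mul_apply, Equiv.Perm.mul_apply, Equiv.Perm.inv_eq_iff_eq.2 hc.symm]
      show (c : Equiv.Perm (Fin 8)) (Recog.GL42.hom (ψ g) 0) = j
      rw [hg0, hc])
    obtain ⟨a, ha, hae⟩ := Subgroup.mem_map.1 hmem
    rwa [← φ.injective hae]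
  · rw [Units.val_mul, Units.val_mul, ← Matrix.mulVec_mulVec, ← Matrix.mulVec_mulVec, hΦ hg1, Matrix.mulVec_mulVec,
      ← Units.val_mul, mul_inv_cancel, Units.val_one, Matrix.one_mulVec]
  · rw [Units.val_mul, Units.val_mul, ← Matrix.mulVec_mulVec, ← Matrix.mulVec_mulVec, hΦ hg2, Matrix.mulVec_mulVec,
      ← Units.val_mul, mul_inv_cancel, Units.val_one, Matrix.one_mulVec]

end Cfsg.Agent.S2551
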