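import Cfsg.Statements.S2552
-- import your own Cfsg.Agent.* helpers here

set_option autoImplicit false
open Cfsg

namespace Cfsg.Agent.S2552

open Matrix

/-- Let F be a finite field and n ≥ 1. For every k, the special linear group SL_n(F) acts transitively on the set of k-dimensional subspaces of F^n: any two subspaces of the same dimension are carried onto each other by some matrix of determinant 1. -/
theorem result {F : Type*} [Field F] [Fintype F] (n : ℕ) (hn : 1 ≤ n) (U₁ U₂ : Submodule F (Fin n → F)) (h : Module.finrank F U₁ = Module.finrank F U₂) : ∃ g : Matrix.SpecialLinearGroup (Fin n) F, U₁.map ((Matrix.SpecialLinearGroup.toLin' g : (Fin n → F) ≃ₗ[F] (Fin n → F)) : (Fin n → F) →ₗ[F] (Fin n → F)) = U₂ := by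
  classical
  set V := Fin n → F
  rcases eq_or_ne U₁ ⊥ with rfl | hU
  · refine ⟨1, ?_⟩
    rw [finrank_bot] at h
    rw [Submodule.map_bot, Submodule.finrank_eq_zero.1 h.symm]
  obtain ⟨C₁, hC₁⟩ := Submodule.exists_isCompl U₁
  obtain ⟨C₂, hC₂⟩ := Submodule.exists_isCompl U₂
  have hd1 := Submodule.finrank_add_eq_of_isCompl hC₁
  have hd2 := Submodule.finrank_add_eq_of_isCompl hC₂
  let eU : U₁ ≃ₗ[F] U₂ := LinearEquiv.ofFinrankEq _ _ h
  let eC : C₁ ≃ₗ[F] C₂ := LinearEquiv.ofFinrankEq _ _ (by omega)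
  let f : V ≃ₗ[F] V := (Submodule.prodEquivOfIsCompl U₁ C₁ hC₁).symm.trans
    ((eU.prodCongr eC).trans (Submodule.prodEquivOfIsCompl U₂ C₂ hC₂))
  have hf : ∀ x ∈ U₁, f x ∈ U₂ := by
    intro x hx
    simp only [f, LinearEquiv.trans_apply, Submodule.prodEquivOfIsCompl_symm_apply_left _ _ hC₁ ⟨x, hx⟩,
      LinearEquiv.prodCongr_apply, map_zero, Submodule.coe_prodEquivOfIsCompl', Submodule.coe_zero, add_zero,
      SetLike.coe_mem]
  obtain ⟨u, hu, hu0⟩ := Submodule.exists_mem_ne_zero_of_ne_bot hU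
  obtain ⟨j, hj⟩ := Function.ne_iff.1 hu0
  set M := LinearMap.toMatrix' (f : V →ₗ[F] V)
  have hM : M.det ≠ 0 := by
    rw [LinearMap.det_toMatrix']
    exact (LinearEquiv.isUnit_det' f).ne_zero
  set c := M.det⁻¹
  let φ : V := Pi.single j (u j)⁻¹
  let D : Matrix (Fin n) (Fin n) F := 1 + Matrix.replicateCol Unit ((c - 1) • u) * Matrix.replicateRow Unit φ
  have hD : D.det = c := by
    rw [Matrix.det_one_add_replicateCol_mul_replicateRow, dotProduct_smul, single_dotProduct,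
      inv_mul_cancel₀ hj, smul_eq_mul, mul_one, add_sub_cancel]
  have hDU : ∀ x ∈ U₁, D.mulVec x ∈ U₁ := by
    intro x hx
    rw [Matrix.add_mulVec, Matrix.one_mulVec, ← Matrix.mulVec_mulVec]
    refine U₁.add_mem hx ?_
    have : Matrix.replicateCol Unit ((c - 1) • u) *ᵥ (Matrix.replicateRow Unit φ *ᵥ x) = ((φ ⬝ᵥ x) * (c - 1)) • u := by
      funext a
      simp [Matrix.mulVec, dotProduct, mul_comm]; ring
    rw [this]
    exact U₁.smul_mem _ hu
  let g : Matrix.SpecialLinearGroup (Fin n) F := ⟨M * D, by rw [Matrix.det_mul, hD, mul_inv_cancel₀ hM]⟩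
  refine ⟨g, Submodule.eq_of_le_of_finrank_eq ?_ ?_⟩
  · rintro _ ⟨x, hx, rfl⟩
    show (M * D) *ᵥ x ∈ U₂
    rw [← Matrix.mulVec_mulVec, LinearMap.toMatrix'_mulVec]
    exact hf _ (hDU x hx)
  · rw [LinearEquiv.finrank_map_eq, h]

end Cfsg.Agent.S2552
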