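import Cfsg.Statements.S2559
import Cfsg.Agent.Lib.Classical.SympTwoOrthLower

set_option autoImplicit false
open Cfsg

namespace Cfsg.Agent.S2559

/-- The number of conjugacy classes of the full orthogonal groups O⁺(2n,q) and O⁻(2n,q), q even, 2n ≥ 4: for F a finite field of even order q and n ≥ 2, the number k of conjugacy classes of the isometry group of the hyperbolic quadratic form Σ xᵢyᵢ on F^{2n}, and likewise of the elliptic form Σ xᵢyᵢ + (z₁² + a z₁z₂ + b z₂²) with anisotropic binary part, satisfies q^n/2 ≤ k ≤ 15·q^n. -/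
theorem result {F : Type*} [Field F] [Fintype F] (heven : Even (Fintype.card F)) (n : ℕ) (hn : 2 ≤ n) (a b : F) (hab : ∀ z₁ z₂ : F, z₁ ^ 2 + a * z₁ * z₂ + b * z₂ ^ 2 = 0 → z₁ = 0 ∧ z₂ = 0) :
    (Fintype.card F ^ n ≤ 2 * Nat.card (ConjClasses ↥(Cfsg.isometryGroup F (Cfsg.quadFormPlus n F))) ∧
      Nat.card (ConjClasses ↥(Cfsg.isometryGroup F (Cfsg.quadFormPlus n F))) ≤ 15 * Fintype.card F ^ n) ∧
    (Fintype.card F ^ n ≤ 2 * Nat.card (ConjClasses ↥(Cfsg.isometryGroup F (Cfsg.quadFormMinus (n - 1) F a b))) ∧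
      Nat.card (ConjClasses ↥(Cfsg.isometryGroup F (Cfsg.quadFormMinus (n - 1) F a b))) ≤ 15 * Fintype.card F ^ n) := by
  haveI : CharP F 2 := by
    refine ringChar.of_eq ?_
    by_contra h
    have := FiniteField.odd_card_of_char_ne_two h
    rw [Nat.even_iff] at heven
    omega
  have hp : Fintype.card (Fin n ⊕ Fin n) = 2 * n := by simp [two_mul]
  have hm : Fintype.card ((Fin (n - 1) ⊕ Fin (n - 1)) ⊕ Fin 2) = 2 * n := by
    simp only [Fintype.card_sum, Fintype.card_fin]
    omega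
  have hQp := Cfsg.Agent.Classical.nondegenerate_qfPlus (F := F) n
  have hQm := Cfsg.Agent.Classical.nondegenerate_qfMinus (n - 1) hab
  have gp := Cfsg.Agent.Classical.IsometryTwo.gauss_plus (F := F) n
  have gm := Cfsg.Agent.Classical.IsometryTwo.gauss_minus (n - 1) hab
  rw [Nat.sub_add_cancel (show 1 ≤ n by omega)] at gm
  rw [← Cfsg.Agent.Classical.coe_qfPlus, ← Cfsg.Agent.Classical.coe_qfMinus]
  exact ⟨⟨Cfsg.Agent.Classical.IsometryTwo.le_card_classes_orth hn hp hQp hab (Or.inl rfl) (gp.trans (mul_one _).symm),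
      Cfsg.Agent.Classical.IsometryTwo.card_classes_orth_le (by omega) hp hQp⟩,
    Cfsg.Agent.Classical.IsometryTwo.le_card_classes_orth hn hm hQm hab (Or.inr rfl) (gm.trans (mul_neg_one _).symm),
    Cfsg.Agent.Classical.IsometryTwo.card_classes_orth_le (by omega) hm hQm⟩

end Cfsg.Agent.S2559
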