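import Cfsg.Statements.S2561
import Cfsg.Agent.Lib.Classical.ArfBinary
-- import your own Cfsg.Agent.* helpers here

set_option autoImplicit false
open Cfsg Cfsg.Agent.ArfBinary

namespace Cfsg.Agent.S2561

/-- Fix the non-singular alternating form on the 2m-dimensional space over the field of two elements obtained by polarizing the plus-type form Σ xᵢyᵢ (m ≥ 1). The functions q on the space with q(u + v) = q(u) + q(v) + f(u, v) (the quadratic forms polarizing to f) number 2^(2m); each is equivalent under an invertible linear map either to the plus-type form or to the minus-type form Σ xᵢyᵢ + (z₁² + z₁z₂ + z₂²); and those of plus type number 2^(2m−1) + 2^(m−1), those of minus type 2^(2m−1) − 2^(m−1). -/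
theorem result (m : ℕ) (hm : 1 ≤ m) :
    Nat.card {q : (Fin m ⊕ Fin m → ZMod 2) → ZMod 2 // (∀ u v : (Fin m ⊕ Fin m → ZMod 2), q (u + v) = q u + q v + (Cfsg.quadFormPlus m (ZMod 2) (u + v) - Cfsg.quadFormPlus m (ZMod 2) u - Cfsg.quadFormPlus m (ZMod 2) v))} = 2 ^ (2 * m) ∧
    (∀ q : (Fin m ⊕ Fin m → ZMod 2) → ZMod 2, (∀ u v : (Fin m ⊕ Fin m → ZMod 2), q (u + v) = q u + q v + (Cfsg.quadFormPlus m (ZMod 2) (u + v) - Cfsg.quadFormPlus m (ZMod 2) u - Cfsg.quadFormPlus m (ZMod 2) v)) →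
      (∃ g : (Fin m ⊕ Fin m → ZMod 2) ≃ₗ[ZMod 2] (Fin m ⊕ Fin m → ZMod 2), ∀ v, q v = Cfsg.quadFormPlus m (ZMod 2) (g v)) ∨
      (∃ g : (Fin m ⊕ Fin m → ZMod 2) ≃ₗ[ZMod 2] ((Fin (m - 1) ⊕ Fin (m - 1)) ⊕ Fin 2 → ZMod 2), ∀ v, q v = Cfsg.quadFormMinus (m - 1) (ZMod 2) 1 1 (g v))) ∧
    Nat.card {q : (Fin m ⊕ Fin m → ZMod 2) → ZMod 2 // (∀ u v : (Fin m ⊕ Fin m → ZMod 2), q (u + v) = q u + q v + (Cfsg.quadFormPlus m (ZMod 2) (u + v) - Cfsg.quadFormPlus m (ZMod 2) u - Cfsg.quadFormPlus m (ZMod 2) v)) ∧ ∃ g : (Fin m ⊕ Fin m → ZMod 2) ≃ₗ[ZMod 2] (Fin m ⊕ Fin m → ZMod 2), ∀ v, q v = Cfsg.quadFormPlus m (ZMod 2) (g v)} = 2 ^ (2 * m - 1) + 2 ^ (m - 1) ∧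
    Nat.card {q : (Fin m ⊕ Fin m → ZMod 2) → ZMod 2 // (∀ u v : (Fin m ⊕ Fin m → ZMod 2), q (u + v) = q u + q v + (Cfsg.quadFormPlus m (ZMod 2) (u + v) - Cfsg.quadFormPlus m (ZMod 2) u - Cfsg.quadFormPlus m (ZMod 2) v)) ∧ ∃ g : (Fin m ⊕ Fin m → ZMod 2) ≃ₗ[ZMod 2] ((Fin (m - 1) ⊕ Fin (m - 1)) ⊕ Fin 2 → ZMod 2), ∀ v, q v = Cfsg.quadFormMinus (m - 1) (ZMod 2) 1 1 (g v)} = 2 ^ (2 * m - 1) - 2 ^ (m - 1) := by
  change Nat.card {q : V m → ZMod 2 // ∀ u v, q (u + v) = q u + q v + polarFn m u v} = _ ∧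
    (∀ q : V m → ZMod 2, (∀ u v, q (u + v) = q u + q v + polarFn m u v) → _) ∧
    Nat.card {q : V m → ZMod 2 // (∀ u v, q (u + v) = q u + q v + polarFn m u v) ∧ _} = _ ∧
    Nat.card {q : V m → ZMod 2 // (∀ u v, q (u + v) = q u + q v + polarFn m u v) ∧ _} = _
  refine ⟨?_, fun q hq => ?_, ?_, ?_⟩
  · rw [Nat.card_congr (Equiv.subtypeEquivRight fun q => (iff_of_eq (and_true _)).symm),
      card_forms fun _ => True, Nat.card_congr (Equiv.subtypeUnivEquiv fun _ => trivial),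
      Nat.card_eq_fintype_card, Fintype.card_fun, ZMod.card, Fintype.card_sum, Fintype.card_fin,
      two_mul]
  · obtain ⟨w, rfl⟩ := exists_form q hq
    rcases type_of_form hm w with ⟨-, h⟩ | ⟨-, h⟩
    · exact Or.inl h
    · exact Or.inr h
  · rw [card_forms (fun q => ∃ g : V m ≃ₗ[ZMod 2] V m, ∀ v, q v = quadFormPlus m (ZMod 2) (g v)),
      Nat.card_congr (Equiv.subtypeEquivRight fun w => plus_iff hm w), card_zero_plus hm]
  · rw [card_forms (fun q => ∃ g : V m ≃ₗ[ZMod 2] ((Fin (m - 1) ⊕ Fin (m - 1)) ⊕ Fin 2 → ZMod 2),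
        ∀ v, q v = quadFormMinus (m - 1) (ZMod 2) 1 1 (g v)),
      Nat.card_congr (Equiv.subtypeEquivRight fun w => minus_iff hm w)]
    classical
    have h := card_zero_plus hm
    rw [Nat.card_eq_fintype_card] at h ⊢
    have h1 : Fintype.card {w : V m // quadFormPlus m (ZMod 2) w = 1} =
        Fintype.card (V m) - Fintype.card {w : V m // quadFormPlus m (ZMod 2) w = 0} := by
      rw [← Fintype.card_subtype_compl]
      refine Fintype.card_congr (Equiv.subtypeEquivRight fun w => ?_)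
      generalize quadFormPlus m (ZMod 2) w = x
      revert x; decide
    rw [h1, h, Fintype.card_fun, ZMod.card, Fintype.card_sum, Fintype.card_fin, ← two_mul]
    have e : 2 ^ (2 * m) = 2 * 2 ^ (2 * m - 1) := by
      rw [← pow_succ', show 2 * m - 1 + 1 = 2 * m by omega]
    have e2 : 2 ^ (m - 1) ≤ 2 ^ (2 * m - 1) := Nat.pow_le_pow_right (by norm_num) (by omega)
    omega

end Cfsg.Agent.S2561
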