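import Cfsg.Statements.S2562
import Mathlib
import Cfsg.Agent.Lib.Classical.QuadModels


set_option autoImplicit false
open Cfsg

namespace Cfsg.Agent.S2562


/-- Witt indices over the field of two elements, m ≥ 1: for the plus-type form Σ xᵢyᵢ in dimension 2m some m-dimensional subspace is totally singular and no totally singular subspace has larger dimension; for the minus-type form Σ xᵢyᵢ + (z₁² + z₁z₂ + z₂²) in dimension 2m the maximal dimension of a totally singular subspace is m − 1. -/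
theorem result (m : ℕ) (hm : 1 ≤ m) :
    (∃ U : Submodule (ZMod 2) (Fin m ⊕ Fin m → ZMod 2), (∀ u ∈ U, Cfsg.quadFormPlus m (ZMod 2) u = 0) ∧ Module.finrank (ZMod 2) ↥U = m) ∧
    (∀ U : Submodule (ZMod 2) (Fin m ⊕ Fin m → ZMod 2), (∀ u ∈ U, Cfsg.quadFormPlus m (ZMod 2) u = 0) → Module.finrank (ZMod 2) ↥U ≤ m) ∧
    (∃ U : Submodule (ZMod 2) ((Fin (m - 1) ⊕ Fin (m - 1)) ⊕ Fin 2 → ZMod 2), (∀ u ∈ U, Cfsg.quadFormMinus (m - 1) (ZMod 2) 1 1 u = 0) ∧ Module.finrank (ZMod 2) ↥U = m - 1) ∧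
    (∀ U : Submodule (ZMod 2) ((Fin (m - 1) ⊕ Fin (m - 1)) ⊕ Fin 2 → ZMod 2), (∀ u ∈ U, Cfsg.quadFormMinus (m - 1) (ZMod 2) 1 1 u = 0) → Module.finrank (ZMod 2) ↥U ≤ m - 1) := by
  obtain ⟨k, rfl⟩ : ∃ k, m = k + 1 := ⟨m - 1, by omega⟩
  have hab : ∀ z₁ z₂ : ZMod 2, z₁ ^ 2 + 1 * z₁ * z₂ + 1 * z₂ ^ 2 = 0 → z₁ = 0 ∧ z₂ = 0 := by decide +revert
  simp only [Nat.add_sub_cancel, ← Cfsg.Agent.Classical.qfPlus_apply,
    ← Cfsg.Agent.Classical.qfMinus_apply]
  refine ⟨Cfsg.Agent.Classical.exists_singular_plus (k + 1),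
    fun U hU => Cfsg.Agent.Classical.singular_finrank_le_plus (k + 1) U hU, ?_,
    fun U hU => Cfsg.Agent.Classical.singular_finrank_le_minus k hab U hU⟩
  classical
  let L : (Fin k → ZMod 2) →ₗ[ZMod 2] ((Fin k ⊕ Fin k) ⊕ Fin 2 → ZMod 2) :=
    { toFun := fun v => Sum.elim (Sum.elim v 0) 0
      map_add' := fun u v => by funext x; rcases x with (i | i) | i <;> simp
      map_smul' := fun c v => by funext x; rcases x with (i | i) | i <;> simp }
  refine ⟨L.range, ?_, ?_⟩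
  · rintro _ ⟨v, rfl⟩
    simp [Cfsg.Agent.Classical.qfMinus_apply, quadFormMinus, L]
  · rw [LinearMap.finrank_range_of_inj, Module.finrank_fin_fun]
    exact fun u v h => funext fun i => congrFun h (Sum.inl (Sum.inl i))

end Cfsg.Agent.S2562
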