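import Cfsg.Statements.S2564
import Cfsg.Agent.Lib.Classical.ArfBinary
-- import your own Cfsg.Agent.* helpers here

set_option autoImplicit false
open Cfsg Cfsg.Agent.ArfBinary

namespace Cfsg.Agent.S2564

/-- On the 2m-dimensional space over the field of two elements (m ≥ 1) let f be the alternating form obtained by polarizing the plus-type form Σ xᵢyᵢ, and let q be any quadratic form polarizing to f. For a vector w, the function q + f(·, w) again polarizes to f, and it is equivalent to q under an invertible linear map (that is, has the same type) if and only if q(w) = 0. -/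
theorem result (m : ℕ) (hm : 1 ≤ m) (q : (Fin m ⊕ Fin m → ZMod 2) → ZMod 2) (hq : (∀ u v : (Fin m ⊕ Fin m → ZMod 2), q (u + v) = q u + q v + (Cfsg.quadFormPlus m (ZMod 2) (u + v) - Cfsg.quadFormPlus m (ZMod 2) u - Cfsg.quadFormPlus m (ZMod 2) v))) (w : (Fin m ⊕ Fin m → ZMod 2)) :
    (∀ u v : (Fin m ⊕ Fin m → ZMod 2), (q (u + v) + (Cfsg.quadFormPlus m (ZMod 2) (u + v + w) - Cfsg.quadFormPlus m (ZMod 2) (u + v) - Cfsg.quadFormPlus m (ZMod 2) w)) =
        (q u + (Cfsg.quadFormPlus m (ZMod 2) (u + w) - Cfsg.quadFormPlus m (ZMod 2) u - Cfsg.quadFormPlus m (ZMod 2) w)) + (q v + (Cfsg.quadFormPlus m (ZMod 2) (v + w) - Cfsg.quadFormPlus m (ZMod 2) v - Cfsg.quadFormPlus m (ZMod 2) w)) +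
        (Cfsg.quadFormPlus m (ZMod 2) (u + v) - Cfsg.quadFormPlus m (ZMod 2) u - Cfsg.quadFormPlus m (ZMod 2) v)) ∧
    ((∃ g : (Fin m ⊕ Fin m → ZMod 2) ≃ₗ[ZMod 2] (Fin m ⊕ Fin m → ZMod 2), ∀ v, q v + (Cfsg.quadFormPlus m (ZMod 2) (v + w) - Cfsg.quadFormPlus m (ZMod 2) v - Cfsg.quadFormPlus m (ZMod 2) w) = q (g v)) ↔ q w = 0) := by
  change (∀ u v : V m, q (u + v) + polarFn m (u + v) w =
      (q u + polarFn m u w) + (q v + polarFn m v w) + polarFn m u v) ∧ _
  have hq' : ∀ u v, q (u + v) = q u + q v + polarFn m u v := hq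
  refine ⟨fun u v => ?_, ⟨fun ⟨g, hg⟩ => ?_, fun h => exists_isometry_shift q hq' h⟩⟩
  · rw [hq', polarFn_add_left]; ring
  · have e : gsum (fun v => q v + polarFn m v w) = gsum q := gsum_equiv g.toEquiv _ _ hg
    obtain ⟨a, ha⟩ := exists_form q hq'
    rw [gsum_shift q hq' w, ha, gsum_form] at e
    rcases (show ∀ x : ZMod 2, x = 0 ∨ x = 1 by decide) (q w) with h | h
    · exact h
    · rw [← ha, h, show chi 1 = -1 from rfl, neg_one_mul, neg_eq_iff_add_eq_zero, ← two_mul] at e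
      unfold chi at e; split_ifs at e <;> simp at e

end Cfsg.Agent.S2564
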