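import Cfsg.Statements.S2565
import Cfsg.Agent.Lib.Classical.HeartPlusSix
import Cfsg.Agent.S0287
-- import your own Cfsg.Agent.* helpers here

set_option autoImplicit false
open Cfsg

namespace Cfsg.Agent.S2565

/-- The commutator subgroup of the full orthogonal group of the plus-type form Σ xᵢyᵢ in dimension 6 over the field of two elements (the group Ω⁺₆(2), of index 2) is isomorphic to the alternating group of degree 8. -/
theorem result :
    (Cfsg.Omega (ZMod 2) (Cfsg.quadFormPlus 3 (ZMod 2))).index = 2 ∧
    Nonempty (↥(Cfsg.Omega (ZMod 2) (Cfsg.quadFormPlus 3 (ZMod 2))) ≃* alternatingGroup (Fin 8)) := by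
  have hcard : Nat.card (Cfsg.isometryGroup (ZMod 2) (Cfsg.quadFormPlus 3 (ZMod 2))) = 40320 := by
    rw [Cfsg.Agent.S0287.result (F := ZMod 2) (q := 2) (ZMod.card 2) 3 (by norm_num)]
    norm_num [Finset.prod_range_succ]
  let e : Equiv.Perm (Fin 8) ≃* Cfsg.isometryGroup (ZMod 2) (Cfsg.quadFormPlus 3 (ZMod 2)) :=
    MulEquiv.ofBijective Classical.HeartPlusSix.hom8 (Classical.HeartPlusSix.hom8_injective.bijective_of_nat_card_le (by
      rw [hcard, Nat.card_perm, Nat.card_fin]; rfl))
  have hA : commutator (Equiv.Perm (Fin 8)) = alternatingGroup (Fin 8) :=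
    alternatingGroup.commutator_perm_eq (by simp)
  have hmap : Cfsg.Omega (ZMod 2) (Cfsg.quadFormPlus 3 (ZMod 2)) = (alternatingGroup (Fin 8)).map e.toMonoidHom := by
    rw [← hA]
    show commutator _ = _
    rw [commutator_def, commutator_def, Subgroup.map_commutator,
      Subgroup.map_top_of_surjective e.toMonoidHom e.surjective]
  constructor
  · rw [hmap, show e.toMonoidHom = (e : _ →* _) from rfl, Subgroup.index_map_equiv]
    exact alternatingGroup.index_eq_two
  · exact ⟨((e.subgroupMap (alternatingGroup (Fin 8))).trans (MulEquiv.subgroupCongr hmap.symm)).symm⟩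

end Cfsg.Agent.S2565
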