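import Cfsg.Statements.S2566
import Mathlib.LinearAlgebra.QuadraticForm.Basic
-- import your own Cfsg.Agent.* helpers here

set_option autoImplicit false
open Cfsg

namespace Cfsg.Agent.S2566
open Matrix

abbrev I4 := Fin 2 ⊕ Fin 2
abbrev V4 := I4 → ZMod 2
abbrev M44 := Matrix I4 I4 (ZMod 2)
abbrev G44 := Matrix.GeneralLinearGroup I4 (ZMod 2)

def vec (x1 x2 y1 y2 : ZMod 2) : V4 := Sum.elim ![x1, x2] ![y1, y2]

/-- The two triples of mutually orthogonal non-singular vectors. -/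
def T1 : Fin 3 → V4 := ![vec 1 0 1 0, vec 1 1 0 1, vec 0 1 1 1]
def T2 : Fin 3 → V4 := ![vec 0 1 0 1, vec 1 1 1 0, vec 1 0 1 1]

def mat (σ τ : Equiv.Perm (Fin 3)) : M44 := Matrix.of fun i j =>
  (Sum.elim ![T1 (σ 1) + T2 (τ 0), T1 (σ 0) + T2 (τ 1)]
    ![T1 (σ 0) + T1 (σ 1) + T2 (τ 0), T2 (τ 0) + T1 (σ 0) + T2 (τ 1)] j) i

/-- The map exchanging the two triples. -/
def wmat : M44 := Matrix.of fun i j =>
  (Sum.elim ![T2 1 + T1 0, T2 0 + T1 1] ![T2 0 + T2 1 + T1 0, T1 0 + T2 0 + T1 1] j) i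

theorem mat_mul : ∀ σ τ σ' τ', mat σ τ * mat σ' τ' = mat (σ * σ') (τ * τ') := by decide +kernel
theorem mat_one : mat 1 1 = 1 := by decide +kernel
theorem mat_iso : ∀ σ τ, ∀ v : V4, quadFormPlus 2 (ZMod 2) (mat σ τ *ᵥ v) = quadFormPlus 2 (ZMod 2) v := by
  decide +kernel
theorem wmat_iso : ∀ v : V4, quadFormPlus 2 (ZMod 2) (wmat *ᵥ v) = quadFormPlus 2 (ZMod 2) v := by decide +kernel
theorem wmat_sq : wmat * wmat = 1 := by decide +kernel
theorem wmat_conj : ∀ σ τ, wmat * mat σ τ * wmat = mat τ σ := by decide +kernel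
theorem mat_inj : ∀ σ τ σ' τ', mat σ τ = mat σ' τ' → σ = σ' ∧ τ = τ' := by decide +kernel
theorem mat_ne_w : ∀ σ τ σ' τ', mat σ τ ≠ mat σ' τ' * wmat := by decide +kernel

def unit (p : Equiv.Perm (Fin 3) × Equiv.Perm (Fin 3)) : G44 :=
  ⟨mat p.1 p.2, mat p.1⁻¹ p.2⁻¹, by rw [mat_mul, mul_inv_cancel, mul_inv_cancel, mat_one],
    by rw [mat_mul, inv_mul_cancel, inv_mul_cancel, mat_one]⟩

def wunit : G44 := ⟨wmat, wmat, wmat_sq, wmat_sq⟩

local notation "OG" => isometryGroup (ZMod 2) (quadFormPlus 2 (ZMod 2))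

theorem mem_og {g : G44} : g ∈ OG ↔ ∀ v, quadFormPlus 2 (ZMod 2) ((g : M44) *ᵥ v) = quadFormPlus 2 (ZMod 2) v :=
  ⟨fun h v => h v v, fun h v _ => h v⟩

def phi : Equiv.Perm (Fin 3) × Equiv.Perm (Fin 3) →* OG where
  toFun p := ⟨unit p, mem_og.2 (mat_iso p.1 p.2)⟩
  map_one' := Subtype.ext (Units.ext mat_one)
  map_mul' p q := Subtype.ext (Units.ext (mat_mul p.1 p.2 q.1 q.2).symm)

theorem phi_injective : Function.Injective phi := fun p q h => by
  have h' := mat_inj _ _ _ _ (congrArg (fun g : OG => ((g : G44) : M44)) h)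
  exact Prod.ext h'.1 h'.2

def welt : OG := ⟨wunit, mem_og.2 wmat_iso⟩

/-! An upper bound on the order, from the images of the standard basis. -/

def dec (v : ℕ) : V4 := vec ((v : ℕ) : ZMod 2) ((v / 2 : ℕ) : ZMod 2) ((v / 4 : ℕ) : ZMod 2) ((v / 8 : ℕ) : ZMod 2)

def code (v : V4) : ℕ :=
  (v (.inl 0)).val + 2 * (v (.inl 1)).val + 4 * (v (.inr 0)).val + 8 * (v (.inr 1)).val

def qn (v : ℕ) : ℕ :=
  ((v % 2) * ((v / 4) % 2) + ((v / 2) % 2) * ((v / 8) % 2)) % 2

def pn (u v : ℕ) : ℕ :=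
  ((u % 2) * ((v / 4) % 2) + (v % 2) * ((u / 4) % 2) + ((u / 2) % 2) * ((v / 8) % 2) +
    ((v / 2) % 2) * ((u / 8) % 2)) % 2

theorem code_dec : ∀ v : V4, dec (code v) = v ∧ code v < 16 ∧ qn (code v) = (quadFormPlus 2 (ZMod 2) v).val := by
  decide +kernel

theorem pn_code : ∀ u v : V4, pn (code u) (code v) = (QuadraticMap.polar (quadFormPlus 2 (ZMod 2)) u v).val := by
  decide +kernel

def tuples : List (ℕ × ℕ × ℕ × ℕ) :=
  let S := (List.range 16).filter fun v => Nat.beq (qn v) 0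
  S.flatMap fun a => (S.filter fun c => Nat.beq (pn a c) 1).flatMap fun c =>
    (S.filter fun b => Nat.beq (pn a b) 0 && Nat.beq (pn c b) 0).flatMap fun b =>
      (S.filter fun d => Nat.beq (pn a d) 0 && Nat.beq (pn c d) 0 && Nat.beq (pn b d) 1).map fun d => (a, b, c, d)

theorem tuples_length : tuples.length = 72 := by decide +kernel

theorem card_le : Nat.card OG ≤ 72 := by
  classical
  let col : OG → I4 → ℕ := fun g i => code (((g : G44) : M44) *ᵥ Pi.single i 1)
  let f : OG → ℕ × ℕ × ℕ × ℕ := fun g => (col g (.inl 0), col g (.inl 1), col g (.inr 0), col g (.inr 1))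
  have hmem : ∀ g, f g ∈ tuples.toFinset := by
    intro g
    have hg := mem_og.1 g.2
    have hq : ∀ i, qn (col g i) = (quadFormPlus 2 (ZMod 2) (Pi.single i 1)).val := fun i => by
      rw [(code_dec _).2.2, hg]
    have hp : ∀ i j, pn (col g i) (col g j) =
        (QuadraticMap.polar (quadFormPlus 2 (ZMod 2)) (Pi.single i 1) (Pi.single j 1)).val := fun i j => by
      rw [pn_code]
      simp only [QuadraticMap.polar, ← Matrix.mulVec_add, hg]
    have hlt : ∀ i, col g i < 16 := fun i => (code_dec _).2.1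
    simp only [f, tuples, List.mem_toFinset, List.mem_flatMap, List.mem_map, List.mem_filter, List.mem_range,
      Bool.and_eq_true, Nat.beq_eq, hq, hp]
    refine ⟨_, ⟨hlt _, ?_⟩, _, ⟨⟨hlt _, ?_⟩, ?_⟩, _, ⟨⟨hlt _, ?_⟩, ?_, ?_⟩, _, ⟨⟨hlt _, ?_⟩, ⟨?_, ?_⟩, ?_⟩, rfl⟩ <;>
      simp only [hq, hp] <;> decide
  have hinj : Function.Injective f := fun g h e => by
    simp only [f, col, Prod.mk.injEq] at e
    obtain ⟨e1, e2, e3, e4⟩ := e
    refine Subtype.ext (Units.ext (Matrix.ext_of_mulVec_single fun i => ?_))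
    rcases i with i | i <;> fin_cases i
    · exact (code_dec _).1.symm.trans ((congrArg dec e1).trans (code_dec _).1)
    · exact (code_dec _).1.symm.trans ((congrArg dec e2).trans (code_dec _).1)
    · exact (code_dec _).1.symm.trans ((congrArg dec e3).trans (code_dec _).1)
    · exact (code_dec _).1.symm.trans ((congrArg dec e4).trans (code_dec _).1)
  refine (Nat.card_le_card_of_injective (fun g => (⟨f g, hmem g⟩ : tuples.toFinset)) (fun g h e => hinj (congrArg Subtype.val e))).trans ?_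
  rw [Nat.card_eq_finsetCard]
  exact (List.toFinset_card_le _).trans tuples_length.le

theorem card_eq : Nat.card OG = 72 := by
  refine le_antisymm card_le ?_
  have h36 : Nat.card (Equiv.Perm (Fin 3) × Equiv.Perm (Fin 3)) = 36 := by
    rw [Nat.card_eq_fintype_card, Fintype.card_prod, Fintype.card_perm, Fintype.card_fin]; rfl
  have := Nat.card_le_card_of_injective
    (Sum.elim (fun p => phi p) (fun p => phi p * welt)) (by
      refine Function.Injective.sumElim phi_injective (fun p q h => phi_injective (mul_right_cancel h)) fun p q h => ?_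
      exact mat_ne_w _ _ _ _ (congrArg (fun g : OG => ((g : G44) : M44)) h))
  rw [Nat.card_sum, h36] at this
  exact this


/-- The full orthogonal group of the plus-type form x₁y₁ + x₂y₂ in dimension 4 over the field of two elements has order 72 and is isomorphic to the wreath product of the symmetric group of degree 3 by a group of order 2: it has a normal subgroup isomorphic to the direct product of two symmetric groups of degree 3, of index 2, whose two direct factors are interchanged by conjugation by some element. -/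
theorem result :
    Nat.card ↥(Cfsg.isometryGroup (ZMod 2) (Cfsg.quadFormPlus 2 (ZMod 2))) = 72 ∧
    ∃ (A B : Subgroup ↥(Cfsg.isometryGroup (ZMod 2) (Cfsg.quadFormPlus 2 (ZMod 2)))),
      Nonempty (↥A ≃* Equiv.Perm (Fin 3)) ∧ Nonempty (↥B ≃* Equiv.Perm (Fin 3)) ∧ A ⊓ B = ⊥ ∧ (∀ a ∈ A, ∀ b ∈ B, a * b = b * a) ∧
      (A ⊔ B).index = 2 ∧ ∃ g : ↥(Cfsg.isometryGroup (ZMod 2) (Cfsg.quadFormPlus 2 (ZMod 2))), A.map (MulAut.conj g).toMonoidHom = B := by
  refine ⟨card_eq, (phi.comp (MonoidHom.inl _ _)).range, (phi.comp (MonoidHom.inr _ _)).range,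
    ⟨(MonoidHom.ofInjective (f := phi.comp (MonoidHom.inl _ _)) fun a b h => congrArg Prod.fst (phi_injective h)).symm⟩,
    ⟨(MonoidHom.ofInjective (f := phi.comp (MonoidHom.inr _ _)) fun a b h => congrArg Prod.snd (phi_injective h)).symm⟩, ?_, ?_, ?_, welt, ?_⟩
  · rw [Subgroup.eq_bot_iff_forall]
    rintro g ⟨⟨a, rfl⟩, b, hb⟩
    have := phi_injective hb
    simp only [MonoidHom.inr_apply, MonoidHom.inl_apply, Prod.mk.injEq] at this
    rw [← this.1]
    exact map_one (phi.comp (MonoidHom.inl _ _))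
  · rintro _ ⟨a, rfl⟩ _ ⟨b, rfl⟩
    simp only [MonoidHom.comp_apply, ← map_mul, MonoidHom.inl_apply, MonoidHom.inr_apply, Prod.mk_mul_mk, one_mul, mul_one]
  · have h : (phi.comp (MonoidHom.inl _ _)).range ⊔ (phi.comp (MonoidHom.inr _ _)).range = phi.range := by
      refine le_antisymm (sup_le ?_ ?_) ?_
      · rintro _ ⟨a, rfl⟩; exact ⟨_, rfl⟩
      · rintro _ ⟨a, rfl⟩; exact ⟨_, rfl⟩
      · rintro _ ⟨⟨a, b⟩, rfl⟩
        have : phi (a, b) = phi.comp (MonoidHom.inl _ _) a * phi.comp (MonoidHom.inr _ _) b := by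
          simp only [MonoidHom.comp_apply, ← map_mul, MonoidHom.inl_apply, MonoidHom.inr_apply, Prod.mk_mul_mk,
            one_mul, mul_one]
        rw [this]
        exact mul_mem (Subgroup.mem_sup_left ⟨a, rfl⟩) (Subgroup.mem_sup_right ⟨b, rfl⟩)
    rw [h]
    have h1 := phi.range.card_mul_index
    rw [card_eq, Nat.card_congr (MonoidHom.ofInjective phi_injective).symm.toEquiv, Nat.card_eq_fintype_card,
      Fintype.card_prod, Fintype.card_perm, Fintype.card_fin] at h1
    norm_num [Nat.factorial] at h1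
    omega
  · have hw : ∀ a, MulAut.conj welt (phi (a, 1)) = phi (1, a) := fun a => by
      refine Subtype.ext (Units.ext ?_)
      exact wmat_conj a 1
    ext g
    simp only [Subgroup.mem_map, MonoidHom.mem_range, MonoidHom.comp_apply, MonoidHom.inl_apply, MonoidHom.inr_apply,
      MulEquiv.coe_toMonoidHom]
    constructor
    · rintro ⟨_, ⟨a, rfl⟩, rfl⟩; exact ⟨a, (hw a).symm⟩
    · rintro ⟨a, rfl⟩; exact ⟨_, ⟨a, rfl⟩, hw a⟩

end Cfsg.Agent.S2566
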