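import Cfsg.Statements.S2567
import Mathlib
import Cfsg.Agent.Lib.Classical.SLGroup


set_option autoImplicit false
open Cfsg

namespace Cfsg.Agent.S2567


/-- Lifting elements of prime order from PGL to GL: let F be a finite field with q elements, r a prime not dividing q − 1, and x an element of order r in GL_n(F) modulo its centre (the scalar matrices). Then x has exactly one preimage in GL_n(F) of order r. -/
theorem result {F : Type*} [Field F] [Fintype F] {q n r : ℕ} (hF : Fintype.card F = q) (hr : r.Prime) (hdiv : ¬ r ∣ q - 1) (x : GL (Fin n) F ⧸ Subgroup.center (GL (Fin n) F)) (hx : orderOf x = r) : ∃! g : GL (Fin n) F, (QuotientGroup.mk g : GL (Fin n) F ⧸ Subgroup.center (GL (Fin n) F)) = x ∧ orderOf g = r := by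
  classical
  subst hF
  have hn : 1 ≤ n := by
    by_contra h
    obtain rfl : n = 0 := by omega
    haveI : Subsingleton (GL (Fin 0) F ⧸ (Subgroup.center (GL (Fin 0) F))) := (QuotientGroup.mk_surjective).subsingleton
    rw [Subsingleton.elim x 1, orderOf_one] at hx
    exact hr.ne_one hx.symm
  have hZpow : ∀ z ∈ (Subgroup.center (GL (Fin n) F)), z ^ (Fintype.card F - 1) = 1 := by
    intro z hz
    rw [Matrix.GeneralLinearGroup.center_eq_range_scalar] at hz
    obtain ⟨u, rfl⟩ := hz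
    rw [← map_pow, ← Classical.natCard_units_field, pow_card_eq_one', map_one]
  have hcop : Nat.Coprime (Fintype.card F - 1) r := ((hr.coprime_iff_not_dvd).2 hdiv).symm
  obtain ⟨g₀, rfl⟩ := QuotientGroup.mk_surjective x
  have hg₀ : g₀ ^ r ∈ (Subgroup.center (GL (Fin n) F)) := by
    rw [← QuotientGroup.eq_one_iff, QuotientGroup.mk_pow, ← hx, pow_orderOf_eq_one]
  obtain ⟨k, hk⟩ : ∃ k : ℕ, k * (Fintype.card F - 1) % r = 1 % r := by
    obtain ⟨k, hk⟩ := Nat.exists_mul_mod_eq_one_of_coprime hcop hr.one_lt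
    exact ⟨k, by rw [mul_comm, hk.2, Nat.one_mod_eq_one.2 hr.ne_one]⟩
  refine ⟨g₀ ^ (k * (Fintype.card F - 1)), ⟨?_, ?_⟩, ?_⟩
  · rw [QuotientGroup.mk_pow, ← pow_mod_orderOf, hx, hk, Nat.one_mod_eq_one.2 hr.ne_one, pow_one]
  · haveI := Fact.mk hr
    refine orderOf_eq_prime ?_ ?_
    · rw [← pow_mul, mul_comm _ r, pow_mul, mul_comm k, pow_mul, hZpow _ hg₀, one_pow]
    · intro h
      have h2 := congrArg (QuotientGroup.mk : GL (Fin n) F → GL (Fin n) F ⧸ (Subgroup.center (GL (Fin n) F))) h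
      rw [QuotientGroup.mk_pow, ← pow_mod_orderOf, hx, hk, Nat.one_mod_eq_one.2 hr.ne_one, pow_one,
        QuotientGroup.mk_one] at h2
      rw [h2, orderOf_one] at hx
      exact hr.ne_one hx.symm
  · rintro g ⟨hg, hgr⟩
    obtain ⟨z, hz, rfl⟩ : ∃ z ∈ (Subgroup.center (GL (Fin n) F)), g = g₀ * z := ⟨g₀⁻¹ * g, QuotientGroup.eq.1 hg.symm, by group⟩
    have hc : Commute g₀ z := Subgroup.mem_center_iff.1 hz g₀
    calc g₀ * z = (g₀ * z) ^ (k * (Fintype.card F - 1)) := by
          conv_rhs => rw [← pow_mod_orderOf, hgr, hk, Nat.one_mod_eq_one.2 hr.ne_one, pow_one]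
      _ = g₀ ^ (k * (Fintype.card F - 1)) := by
          rw [hc.mul_pow, mul_comm k, pow_mul z, hZpow z hz, one_pow, mul_one]

end Cfsg.Agent.S2567
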