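import Cfsg.Statements.S2573
-- import your own Cfsg.Agent.* helpers here

set_option autoImplicit false
open Cfsg

namespace Cfsg.Agent.S2573

/-- The invariant subspaces of a regular unipotent matrix form a chain: over a finite field, if u is an n × n matrix with (u − 1)^n = 0 and rank(u − 1) = n − 1, then every subspace W of F^n with u W ⊆ W is the kernel of (u − 1)^(dim W); so u has at most one invariant subspace of each dimension. -/
theorem result {F : Type*} [Field F] [Finite F] {n : ℕ} (u : Matrix (Fin n) (Fin n) F) (hnil : (u - 1) ^ n = 0) (hreg : (u - 1).rank = n - 1) (W : Submodule F (Fin n → F)) (hW : ∀ v ∈ W, u.mulVec v ∈ W) : W = LinearMap.ker (Matrix.mulVecLin ((u - 1) ^ Module.finrank F W)) := by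
  classical
  set N := (u - 1).mulVecLin with hN
  set d := Module.finrank F W
  have hWN : ∀ v ∈ W, N v ∈ W := fun v hv => by
    rw [hN, Matrix.mulVecLin_apply, Matrix.sub_mulVec, Matrix.one_mulVec]
    exact W.sub_mem (hW v hv) hv
  have hpow : ∀ k, ((u - 1) ^ k).mulVecLin = N ^ k := by
    intro k
    induction k with
    | zero => ext v; simp
    | succ k ih => rw [pow_succ, Matrix.mulVecLin_mul, ih, pow_succ]; rfl
  rw [hpow]
  have hnilW : IsNilpotent (N.restrict hWN) := by
    refine ⟨n, ?_⟩
    rw [Module.End.pow_restrict n hWN]
    ext v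
    simp [← hpow, hnil]
  have hle : W ≤ LinearMap.ker (N ^ d) := by
    intro v hv
    have h := (N.restrict hWN).aeval_self_charpoly
    rw [(LinearMap.charpoly_eq_X_pow_iff _).2 fun x => ?_, map_pow, Polynomial.aeval_X,
      Module.End.pow_restrict d hWN] at h
    · exact LinearMap.mem_ker.2 (congrArg Subtype.val (LinearMap.congr_fun h ⟨v, hv⟩))
    · obtain ⟨k, hk⟩ := hnilW
      exact ⟨k, by rw [hk]; rfl⟩
  have hker1 : Module.finrank F (LinearMap.ker N) ≤ 1 := by
    have h := LinearMap.finrank_range_add_finrank_ker N
    rw [show Module.finrank F (LinearMap.range N) = n - 1 from hreg, Module.finrank_fin_fun] at h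
    omega
  have hkerk : ∀ k, Module.finrank F (LinearMap.ker (N ^ k)) ≤ k := by
    intro k
    induction k with
    | zero => rw [pow_zero, Module.End.one_eq_id, LinearMap.ker_id, finrank_bot]
    | succ k ih =>
      let R : LinearMap.ker (N ^ (k + 1)) →ₗ[F] LinearMap.ker (N ^ k) :=
        (N.comp (LinearMap.ker (N ^ (k + 1))).subtype).codRestrict _ fun v => by
          refine LinearMap.mem_ker.2 ?_
          show (N ^ k * N) (v : Fin n → F) = 0
          rw [← pow_succ]
          exact LinearMap.mem_ker.1 v.2
      have h := LinearMap.finrank_range_add_finrank_ker R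
      have h1 := Submodule.finrank_le (LinearMap.range R)
      have h2 : Module.finrank F (LinearMap.ker R) ≤ Module.finrank F (LinearMap.ker N) := by
        let S : LinearMap.ker R →ₗ[F] LinearMap.ker N :=
          ((LinearMap.ker (N ^ (k + 1))).subtype.comp (LinearMap.ker R).subtype).codRestrict _ fun v => by
            exact LinearMap.mem_ker.2 (congrArg Subtype.val (LinearMap.mem_ker.1 v.2))
        refine LinearMap.finrank_le_finrank_of_injective (f := S) fun a b hab => ?_
        exact Subtype.ext (Subtype.ext (congrArg Subtype.val hab :))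
      omega
  exact Submodule.eq_of_le_of_finrank_le hle (hkerk d)

end Cfsg.Agent.S2573
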