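import Cfsg.Statements.S2575
-- import your own Cfsg.Agent.* helpers here

set_option autoImplicit false
open Cfsg

namespace Cfsg.Agent.S2575

/-- Which diagonal involutions of PGL_n(q) lie in PSL_n(q), q odd: for the diagonal matrix t with i entries −1 and n − i entries 1, some non-zero scalar multiple of t has determinant one if and only if i is even or the 2-part of q − 1 exceeds the 2-part of n (that is, −1 is an n-th power in the field exactly in the latter case). -/
theorem result {F : Type*} [Field F] [Fintype F] {q : ℕ} (hF : Fintype.card F = q) (hq : Odd q) {n : ℕ} (hn : 1 ≤ n) (i : ℕ) (hi : i ≤ n) : (∃ c : F, c ≠ 0 ∧ (c • Matrix.diagonal (fun j : Fin n => if (j : ℕ) < i then (-1 : F) else 1)).det = 1) ↔ (Even i ∨ padicValNat 2 n < padicValNat 2 (q - 1)) := by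
  classical
  subst hF
  haveI : Fact (Nat.Prime 2) := ⟨Nat.prime_two⟩
  set s := padicValNat 2 (Fintype.card F - 1) with hs
  set a := padicValNat 2 n with ha
  have hq1 : Fintype.card F - 1 ≠ 0 := by have := Fintype.one_lt_card (α := F); omega
  obtain ⟨o, hoo⟩ : 2 ^ s ∣ Fintype.card F - 1 := pow_padicValNat_dvd
  obtain ⟨b, hnb⟩ : 2 ^ a ∣ n := pow_padicValNat_dvd
  have hodd_of : ∀ {N x : ℕ}, N ≠ 0 → N = 2 ^ padicValNat 2 N * x → Odd x := fun {N x} hN hx => by
    refine Nat.not_even_iff_odd.1 fun ⟨y, hy⟩ => pow_succ_padicValNat_not_dvd (p := 2) hN ⟨y, ?_⟩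
    rw [pow_succ, mul_assoc, two_mul, ← hy]
    exact hx
  have ho : Odd o := hodd_of hq1 hoo
  have hb : Odd b := hodd_of (by omega) hnb
  have h2 : (2 : F) ≠ 0 := Ring.two_ne_zero fun h => by
    have := FiniteField.even_card_of_char_two h
    rw [Nat.odd_iff] at hq
    omega
  have hne : (-1 : F) ≠ 1 := fun h => h2 (by linear_combination -h)
  have hdet : ∀ c : F, (c • Matrix.diagonal (fun j : Fin n => if (j : ℕ) < i then (-1 : F) else 1)).det =
      c ^ n * (-1) ^ i := by
    intro c
    rw [Matrix.det_smul, Matrix.det_diagonal, Fintype.card_fin, Finset.prod_ite, Finset.prod_const_one, mul_one,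
      Finset.prod_const, Fin.card_filter_val_lt, min_eq_right hi]
  simp only [hdet]
  rcases Nat.even_or_odd i with hev | hod
  · simp only [hev.neg_one_pow, mul_one, hev, true_or, iff_true]
    exact ⟨1, one_ne_zero, one_pow n⟩
  have hnev : ¬ Even i := Nat.not_even_iff_odd.2 hod
  simp only [hod.neg_one_pow, hnev, false_or]
  constructor
  · rintro ⟨c, hc, hcn⟩
    by_contra hlt
    push Not at hlt
    apply hne
    have h1 : c ^ n = -1 := by linear_combination -hcn
    have h3 := congrArg (· ^ o) h1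
    simp only [← pow_mul, ho.neg_one_pow] at h3
    rw [← h3, hnb, show 2 ^ a * b * o = (2 ^ s * o) * (2 ^ (a - s) * b) by
      rw [show 2 ^ a = 2 ^ s * 2 ^ (a - s) by rw [← pow_add, Nat.add_sub_cancel' hlt]]; ring, ← hoo,
      pow_mul, FiniteField.pow_card_sub_one_eq_one c hc, one_pow]
  · intro hlt
    obtain ⟨g, hg⟩ := IsCyclic.exists_monoid_generator (α := Fˣ)
    have hgo : orderOf g = Fintype.card F - 1 := by
      rw [orderOf_eq_card_of_forall_mem_powers hg, Nat.card_eq_fintype_card, Fintype.card_units]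
    set x : Fˣ := g ^ (2 ^ (s - (a + 1)) * o)
    have hx : orderOf x = 2 ^ (a + 1) := by
      rw [orderOf_pow' g (mul_ne_zero (by positivity) ho.pos.ne'), hgo, hoo,
        show 2 ^ s = 2 ^ (a + 1) * 2 ^ (s - (a + 1)) by rw [← pow_add, Nat.add_sub_cancel' hlt], mul_assoc,
        Nat.gcd_mul_left_left, Nat.mul_div_cancel _ (mul_pos (by positivity) ho.pos)]
    have hx2 : ((x : F) ^ 2 ^ a) = -1 := by
      have h1 : ((x : F) ^ 2 ^ a) ^ 2 = 1 := by
        rw [← pow_mul, ← pow_succ, ← hx, ← Units.val_pow_eq_pow_val, pow_orderOf_eq_one, Units.val_one]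
      refine (sq_eq_one_iff.1 h1).resolve_left fun h => ?_
      have h4 : orderOf x ∣ 2 ^ a := orderOf_dvd_of_pow_eq_one (Units.ext (by simpa using h))
      rw [hx, Nat.pow_dvd_pow_iff_le_right Nat.one_lt_two] at h4
      omega
    refine ⟨(x : F), x.ne_zero, ?_⟩
    rw [hnb, pow_mul, hx2, hb.neg_one_pow]
    norm_num

end Cfsg.Agent.S2575
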