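import Cfsg.Statements.S2576
-- import your own Cfsg.Agent.* helpers here

set_option autoImplicit false
open Cfsg

namespace Cfsg.Agent.S2576

/-- Which involutions of PGL_2m(q) coming from a scalar of the quadratic extension field lie in PSL_2m(q), q odd: let μ generate the Sylow 2-subgroup of the multiplicative group of the field with q elements (μ has order the 2-part of q − 1) and let t be the block-diagonal matrix with m diagonal blocks [[0, 1], [μ, 0]] (so t² is the scalar μ and t is an involution modulo scalars). Then some non-zero scalar multiple of t has determinant one if and only if q ≡ 3 (mod 4) or the 2-part of q − 1 is less than the 2-part of 2m. -/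
theorem result {F : Type*} [Field F] [Fintype F] {q : ℕ} (hF : Fintype.card F = q) (hq : Odd q) {m : ℕ} (hm : 1 ≤ m) (μ : F) (hμ : orderOf μ = 2 ^ padicValNat 2 (q - 1)) : (∃ c : F, c ≠ 0 ∧ (c • Matrix.blockDiagonal (fun _ : Fin m => !![(0 : F), 1; μ, 0])).det = 1) ↔ (q % 4 = 3 ∨ padicValNat 2 (q - 1) < padicValNat 2 (2 * m)) := by
  classical
  subst hF
  haveI : Fact (Nat.Prime 2) := ⟨Nat.prime_two⟩
  set s := padicValNat 2 (Fintype.card F - 1) with hs
  set a := padicValNat 2 m with ha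
  have ha2 : padicValNat 2 (2 * m) = a + 1 := by
    rw [padicValNat.mul (by norm_num) (by omega), padicValNat.self (by norm_num), ← ha, add_comm]
  rw [ha2]
  have hq1 : Fintype.card F - 1 ≠ 0 := by have := Fintype.one_lt_card (α := F); omega
  obtain ⟨o, hoo⟩ : 2 ^ s ∣ Fintype.card F - 1 := pow_padicValNat_dvd
  obtain ⟨b, hmb⟩ : 2 ^ a ∣ m := pow_padicValNat_dvd
  have hodd_of : ∀ {N x : ℕ}, N ≠ 0 → N = 2 ^ padicValNat 2 N * x → Odd x := fun {N x} hN hx => by
    refine Nat.not_even_iff_odd.1 fun ⟨y, hy⟩ => pow_succ_padicValNat_not_dvd (p := 2) hN ⟨y, ?_⟩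
    rw [pow_succ, mul_assoc, two_mul, ← hy]
    exact hx
  have ho : Odd o := hodd_of hq1 hoo
  have hb : Odd b := hodd_of (by omega) hmb
  have h2 : (2 : F) ≠ 0 := Ring.two_ne_zero fun h => by
    have := FiniteField.even_card_of_char_two h
    rw [Nat.odd_iff] at hq
    omega
  have hne : (-1 : F) ≠ 1 := fun h => h2 (by linear_combination -h)
  have hμ0 : μ ≠ 0 := fun h => by
    rw [h, orderOf_zero] at hμ
    exact pow_ne_zero _ two_ne_zero hμ.symm
  have hs1 : 1 ≤ s := by
    refine Nat.one_le_iff_ne_zero.2 fun h0 => ?_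
    rw [h0, pow_zero, one_mul] at hoo
    rw [← hoo, Nat.odd_iff] at ho
    rw [Nat.odd_iff] at hq
    omega
  have hμs : μ ^ 2 ^ (s - 1) = -1 := by
    have h1 : (μ ^ 2 ^ (s - 1)) ^ 2 = 1 := by
      rw [← pow_mul, ← pow_succ, Nat.sub_add_cancel hs1, ← hμ, pow_orderOf_eq_one]
    refine (sq_eq_one_iff.1 h1).resolve_left fun h => ?_
    have h4 : orderOf μ ∣ 2 ^ (s - 1) := orderOf_dvd_of_pow_eq_one h
    rw [hμ, Nat.pow_dvd_pow_iff_le_right Nat.one_lt_two] at h4
    omega
  have hdet : ∀ c : F, (c • Matrix.blockDiagonal (fun _ : Fin m => !![(0 : F), 1; μ, 0])).det =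
      c ^ (2 * m) * (-μ) ^ m := by
    intro c
    rw [Matrix.det_smul, Matrix.det_blockDiagonal, Fintype.card_prod, Fintype.card_fin, Fintype.card_fin,
      Finset.prod_const, Finset.card_univ, Fintype.card_fin, Matrix.det_fin_two_of]
    ring_nf
  simp only [hdet]
  by_cases hs2 : s = 1
  · have hμ1 : μ = -1 := by simpa [hs2] using hμs
    have hq3 : Fintype.card F % 4 = 3 := by
      rw [hs2, pow_one] at hoo
      obtain ⟨y, hy⟩ := ho
      omega
    simp only [hq3, true_or, iff_true]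
    exact ⟨1, one_ne_zero, by rw [hμ1, neg_neg, one_pow, one_pow, one_mul]⟩
  have hq3 : Fintype.card F % 4 ≠ 3 := by
    intro h
    obtain ⟨y, hy⟩ : 4 ∣ Fintype.card F - 1 := (pow_dvd_pow 2 (show 2 ≤ s by omega)).trans ⟨o, hoo⟩
    omega
  simp only [hq3, false_or]
  constructor
  · rintro ⟨c, hc, hcm⟩
    by_contra hlt
    push Not at hlt
    apply hne
    have h3 := congrArg (· ^ (o * 2 ^ (s - (a + 1)))) hcm
    simp only [mul_pow, ← pow_mul, one_pow] at h3
    rw [show 2 * m * (o * 2 ^ (s - (a + 1))) = (2 ^ s * o) * b by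
        rw [show 2 ^ s = 2 ^ (a + 1) * 2 ^ (s - (a + 1)) by rw [← pow_add, Nat.add_sub_cancel' hlt], hmb, pow_succ]
        ring, ← hoo, pow_mul c, FiniteField.pow_card_sub_one_eq_one c hc, one_pow, one_mul,
      show m * (o * 2 ^ (s - (a + 1))) = 2 ^ (s - 1) * (b * o) by
        rw [show 2 ^ (s - 1) = 2 ^ a * 2 ^ (s - (a + 1)) by rw [← pow_add]; congr 1; omega, hmb]
        ring,
      pow_mul, Even.neg_pow (Nat.even_pow.2 ⟨even_two, by omega⟩), hμs, (hb.mul ho).neg_one_pow] at h3
    exact h3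
  · intro hlt
    refine ⟨1, one_ne_zero, ?_⟩
    rw [one_pow, one_mul, hmb, show 2 ^ a = 2 ^ s * 2 ^ (a - s) by rw [← pow_add]; congr 1; omega, mul_assoc, pow_mul,
      Even.neg_pow (Nat.even_pow.2 ⟨even_two, by omega⟩), ← hμ, pow_orderOf_eq_one, one_pow]

end Cfsg.Agent.S2576
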