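import Cfsg.Statements.S2579
import Mathlib
import Cfsg.Agent.Lib.Classical.Transvection


set_option autoImplicit false
open Cfsg

namespace Cfsg.Agent.S2579


/-- In SL_n(F) with n ≥ 3, over a finite field F, any two transvections (matrices t with t − 1 of rank one and square zero) are conjugate by an element of SL_n(F). -/
theorem result {F : Type*} [Field F] [Finite F] {n : ℕ} (hn : 3 ≤ n) (s t : Matrix.SpecialLinearGroup (Fin n) F) (hs : Cfsg.IsTransvection (s : Matrix (Fin n) (Fin n) F)) (ht : Cfsg.IsTransvection (t : Matrix (Fin n) (Fin n) F)) : IsConj s t := by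
  obtain ⟨k, rfl⟩ : ∃ k, n = k + 3 := ⟨n - 3, by omega⟩
  obtain ⟨g, hg⟩ := Cfsg.Agent.Classical.exists_sl_conj_std s hs
  obtain ⟨g', hg'⟩ := Cfsg.Agent.Classical.exists_sl_conj_std t ht
  have h : g⁻¹ * s * g = g'⁻¹ * t * g' := Subtype.ext (hg.trans hg'.symm)
  refine isConj_iff.2 ⟨g' * g⁻¹, ?_⟩
  calc g' * g⁻¹ * s * (g' * g⁻¹)⁻¹ = g' * (g⁻¹ * s * g) * g'⁻¹ := by group
    _ = t := by rw [h]; group

end Cfsg.Agent.S2579
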