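import Cfsg.Statements.S2582
import Cfsg.Agent.Lib.Classical.UnipotentRealisation
-- import your own Cfsg.Agent.* helpers here

set_option autoImplicit false
open Cfsg Cfsg.Agent

namespace Cfsg.Agent.S2582

/-- Which unipotent Jordan types occur in the finite symplectic group: over a finite field, a unipotent matrix with Jordan block sizes d_1, …, d_t (sum 2m, all at least 1) is similar to an element of Sp_2m(F) if and only if every odd block size occurs an even number of times. -/
theorem result {F : Type*} [Field F] [Fintype F] {m t : ℕ} (d : Fin t → ℕ) (hd : ∀ k, 1 ≤ d k) (hsum : ∑ k, d k = 2 * m) : (∃ e : ((k : Fin t) × Fin (d k)) ≃ (Fin m ⊕ Fin m), ∃ A : Matrix.symplecticGroup (Fin m) F, IsConj (Matrix.reindex e e (Cfsg.jordanTypeMatrix d F)) (A : Matrix (Fin m ⊕ Fin m) (Fin m ⊕ Fin m) F)) ↔ ∀ j : ℕ, Odd j → Even (Finset.univ.filter (fun k : Fin t => d k = j)).card := by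
  constructor
  · rintro ⟨e, A, hA⟩ j hj
    obtain ⟨hn, hp⟩ := (UnipotentRealisation.realised_iff d hd _).1 ⟨e, hA⟩
    rw [← UnipotentRealisation.count_map, ← hp]
    refine UnipotentRealisation.even_count_matrix (S := Matrix.J (Fin m) F) (Matrix.isUnit_det_J _ _)
      (SymplecticGroup.mem_iff'.1 A.2) (g' := ((A⁻¹ : Matrix.symplecticGroup (Fin m) F) : Matrix (Fin m ⊕ Fin m) (Fin m ⊕ Fin m) F))
      (congrArg Subtype.val (inv_mul_cancel A)) hn hj.pos (Or.inl ⟨fun u => ?_, hj⟩)
    exact (Classical.sympB_apply u u).trans (Classical.sympForm_self u)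
  · intro h
    obtain ⟨p, hp⟩ := CharP.exists F
    haveI : Fact p.Prime := ⟨CharP.char_is_prime F p⟩
    obtain ⟨A, hAm, hAn, hAp⟩ := UnipotentRealisation.exists_sform (F := F) p (Finset.univ.val.map d)
      (fun a ha => by obtain ⟨k, -, rfl⟩ := Multiset.mem_map.1 ha; exact hd k)
      (fun a _ ha => by rw [UnipotentRealisation.count_map]; exact h a (Nat.not_even_iff_odd.1 ha)) m hsum
    obtain ⟨e, he⟩ := (UnipotentRealisation.realised_iff d hd A).2 ⟨hAn, hAp⟩
    exact ⟨e, ⟨A, hAm⟩, he⟩

end Cfsg.Agent.S2582
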