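import Cfsg.Statements.S2583
import Cfsg.Agent.Lib.Classical.UnipotentRealisation
-- import your own Cfsg.Agent.* helpers here

set_option autoImplicit false
open Cfsg Cfsg.Agent

namespace Cfsg.Agent.S2583

open Matrix


/-- Which unipotent Jordan types occur in a finite orthogonal group in odd characteristic: over a finite field of odd order, a unipotent matrix with Jordan block sizes d_1, …, d_t (sum n, all at least 1) is similar to an isometry of some quadratic form on F^n with non-degenerate polar form if and only if every even block size occurs an even number of times. -/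
theorem result {F : Type*} [Field F] [Fintype F] (h2 : (2 : F) ≠ 0) {n t : ℕ} (d : Fin t → ℕ) (hd : ∀ k, 1 ≤ d k) (hsum : ∑ k, d k = n) : (∃ Q : QuadraticForm F (Fin n → F), (QuadraticMap.polarBilin Q).Nondegenerate ∧ ∃ e : ((k : Fin t) × Fin (d k)) ≃ Fin n, ∃ A : ↥(Cfsg.isometryGroup F ⇑Q), IsConj (Matrix.reindex e e (Cfsg.jordanTypeMatrix d F)) ((A : Matrix.GeneralLinearGroup (Fin n) F) : Matrix (Fin n) (Fin n) F)) ↔ ∀ j : ℕ, Even j → 0 < j → Even (Finset.univ.filter (fun k : Fin t => d k = j)).card := by
  constructor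
  · rintro ⟨Q, hQ, e, A, hA⟩ j hj hj0
    obtain ⟨hn, hp⟩ := (UnipotentRealisation.realised_iff d hd _).1 ⟨e, hA⟩
    rw [← UnipotentRealisation.count_map, ← hp, GLUnipotentTypes.mparts, map_sub, map_one]
    refine UnipotentParity.even_count (QuadraticMap.polarBilin Q) hQ
      (Matrix.toLinAlgEquiv' ((A : GL (Fin n) F) : Matrix (Fin n) (Fin n) F))
      (Matrix.toLinAlgEquiv' (((A : GL (Fin n) F)⁻¹ : GL (Fin n) F) : Matrix (Fin n) (Fin n) F))
      (by rw [← map_mul, Units.inv_mul, map_one]) (by rw [← map_mul, Units.mul_inv, map_one]) (fun u v => ?_) ?_ hj0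
      (Or.inr ⟨fun u v => by simp only [QuadraticMap.polarBilin_apply_apply]; exact QuadraticMap.polar_comm _ _ _, hj, h2⟩)
    · simp only [QuadraticMap.polarBilin_apply_apply, QuadraticMap.polar, Matrix.toLinAlgEquiv'_apply, ← Matrix.mulVec_add,
        Classical.mem_isometryGroup.1 A.2]
    · rw [← map_one (Matrix.toLinAlgEquiv' : Matrix (Fin n) (Fin n) F ≃ₐ[F] _), ← map_sub]
      exact GLUnipotentTypes.nil_end hn
  · intro h
    obtain ⟨p, hp⟩ := CharP.exists F
    haveI : Fact p.Prime := ⟨CharP.char_is_prime F p⟩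
    obtain ⟨ι, _, _, g, S, hS, hSu, hg, hgn, hgp⟩ := UnipotentRealisation.exists_oform p h2 (Finset.univ.val.map d)
      (fun a ha => by obtain ⟨k, -, rfl⟩ := Multiset.mem_map.1 ha; exact hd k)
      (fun a ha ho => by rw [UnipotentRealisation.count_map]; exact h a (Nat.not_odd_iff_even.1 ho) ha)
    have hcard : Fintype.card ι = n := by
      rw [← GLUnipotentTypes.sum_mparts hgn, hgp, ← hsum]; rfl
    let e := Fintype.equivFinOfCardEq hcard
    let S' := Matrix.reindex e e S
    let A := Matrix.reindex e e g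
    have hA1 : A - 1 = Matrix.reindex e e (g - 1) := by
      ext i j; simp [A, Matrix.one_apply, e.symm.injective.eq_iff]
    have hS'A : Aᵀ * S' * A = S' := by
      simp only [A, S', Matrix.reindex_apply, Matrix.transpose_submatrix, Matrix.submatrix_mul_equiv, hg]
    have hS't : S'ᵀ = S' := by simp only [S', Matrix.reindex_apply, Matrix.transpose_submatrix, hS]
    have hS'u : IsUnit S'.det := by rwa [Matrix.det_reindex_self]
    obtain ⟨hAn, hAp⟩ := UnipotentRealisation.mparts_reindex e hgn
    rw [← hA1] at hAn hAp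
    let Q : QuadraticForm F (Fin n → F) := LinearMap.BilinMap.toQuadraticMap (Matrix.toBilin' S')
    have hpol : QuadraticMap.polarBilin Q = Matrix.toBilin' ((2 : F) • S') := by
      refine LinearMap.ext₂ fun u v => ?_
      rw [LinearMap.BilinMap.polarBilin_toQuadraticMap, LinearMap.add_apply, LinearMap.add_apply, LinearMap.flip_apply,
        Matrix.toBilin'_apply', Matrix.toBilin'_apply', Matrix.toBilin'_apply', Matrix.smul_mulVec, dotProduct_smul,
        smul_eq_mul, two_mul, Matrix.dotProduct_mulVec v, ← Matrix.mulVec_transpose, hS't, dotProduct_comm _ u]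
    have hAu : IsUnit A := by
      have := IsNilpotent.isUnit_one_add hAn
      rwa [add_sub_cancel] at this
    have hQA : ∀ u, Q (A *ᵥ u) = Q u := fun u => by
      simp only [Q, LinearMap.BilinMap.toQuadraticMap_apply, Matrix.toBilin'_apply']
      conv_rhs => rw [← hS'A, ← Matrix.mulVec_mulVec, ← Matrix.mulVec_mulVec, Matrix.dotProduct_mulVec,
        Matrix.vecMul_transpose]
    refine ⟨Q, ?_, ?_⟩
    · rw [hpol]
      refine LinearMap.BilinForm.nondegenerate_toBilin'_iff_det_ne_zero.2 ?_
      rw [Matrix.det_smul]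
      exact mul_ne_zero (pow_ne_zero _ h2) hS'u.ne_zero
    · obtain ⟨e', he'⟩ := (UnipotentRealisation.realised_iff d hd A).2 ⟨hAn, hAp.trans hgp⟩
      exact ⟨e', Classical.mkIsometry A ((Matrix.isUnit_iff_isUnit_det _).1 hAu).ne_zero hQA, he'⟩

end Cfsg.Agent.S2583
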