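import Cfsg.Statements.S2584
import Cfsg.Agent.Lib.Classical.UnipotentRealisation
-- import your own Cfsg.Agent.* helpers here

set_option autoImplicit false
open Cfsg Cfsg.Agent

namespace Cfsg.Agent.S2584

open Matrix


/-- Which unipotent Jordan types occur in a finite orthogonal group in characteristic two: over a finite field of characteristic 2 and in even dimension 2m, a unipotent matrix with Jordan block sizes d_1, …, d_t (sum 2m, all at least 1) is similar to an isometry of some quadratic form on F^(2m) with non-degenerate polar form if and only if every odd block size occurs an even number of times (the same condition as for the symplectic group, which contains these orthogonal groups). -/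
theorem result {F : Type*} [Field F] [Fintype F] [CharP F 2] {m t : ℕ} (d : Fin t → ℕ) (hd : ∀ k, 1 ≤ d k) (hsum : ∑ k, d k = 2 * m) : (∃ Q : QuadraticForm F (Fin (2 * m) → F), (QuadraticMap.polarBilin Q).Nondegenerate ∧ ∃ e : ((k : Fin t) × Fin (d k)) ≃ Fin (2 * m), ∃ A : ↥(Cfsg.isometryGroup F ⇑Q), IsConj (Matrix.reindex e e (Cfsg.jordanTypeMatrix d F)) ((A : Matrix.GeneralLinearGroup (Fin (2 * m)) F) : Matrix (Fin (2 * m)) (Fin (2 * m)) F)) ↔ ∀ j : ℕ, Odd j → Even (Finset.univ.filter (fun k : Fin t => d k = j)).card := by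
  constructor
  · rintro ⟨Q, hQ, e, A, hA⟩ j hj
    obtain ⟨hn, hp⟩ := (UnipotentRealisation.realised_iff d hd _).1 ⟨e, hA⟩
    rw [← UnipotentRealisation.count_map, ← hp, GLUnipotentTypes.mparts, map_sub, map_one]
    refine UnipotentParity.even_count (QuadraticMap.polarBilin Q) hQ
      (Matrix.toLinAlgEquiv' ((A : GL (Fin (2 * m)) F) : Matrix (Fin (2 * m)) (Fin (2 * m)) F))
      (Matrix.toLinAlgEquiv' (((A : GL (Fin (2 * m)) F)⁻¹ : GL (Fin (2 * m)) F) : Matrix (Fin (2 * m)) (Fin (2 * m)) F))
      (by rw [← map_mul, Units.inv_mul, map_one]) (by rw [← map_mul, Units.mul_inv, map_one]) (fun u v => ?_) ?_ hj.pos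
      (Or.inl ⟨fun u => by simp [QuadraticMap.polar_self, CharTwo.two_eq_zero], hj⟩)
    · simp only [QuadraticMap.polarBilin_apply_apply, QuadraticMap.polar, Matrix.toLinAlgEquiv'_apply, ← Matrix.mulVec_add,
        Classical.mem_isometryGroup.1 A.2]
    · rw [← map_one (Matrix.toLinAlgEquiv' : Matrix (Fin (2 * m)) (Fin (2 * m)) F ≃ₐ[F] _), ← map_sub]
      exact GLUnipotentTypes.nil_end hn
  · intro h
    haveI : Fact (Nat.Prime 2) := ⟨Nat.prime_two⟩
    obtain ⟨g, hgm, hgn, hgp⟩ := UnipotentRealisation.exists_sform (F := F) 2 (Finset.univ.val.map d)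
      (fun a ha => by obtain ⟨k, -, rfl⟩ := Multiset.mem_map.1 ha; exact hd k)
      (fun a _ ha => by rw [UnipotentRealisation.count_map]; exact h a (Nat.not_even_iff_odd.1 ha)) m hsum
    let e : Fin m ⊕ Fin m ≃ Fin (2 * m) := finSumFinEquiv.trans (finCongr (two_mul m).symm)
    let U₀ : Matrix (Fin m ⊕ Fin m) (Fin m ⊕ Fin m) F := Matrix.fromBlocks 0 1 0 0
    have hJ : U₀ + U₀ᵀ = Matrix.J (Fin m) F := by
      ext (i | i) (j | j) <;> simp [U₀, Matrix.J, Matrix.one_apply, CharTwo.neg_eq, eq_comm]
    let A := Matrix.reindex e e g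
    have hA1 : A - 1 = Matrix.reindex e e (g - 1) := by
      ext i j; simp [A, Matrix.one_apply, e.symm.injective.eq_iff]
    obtain ⟨hAn, hAp⟩ := UnipotentRealisation.mparts_reindex e hgn
    rw [← hA1] at hAn hAp
    have hUt : Matrix.reindex e e U₀ + (Matrix.reindex e e U₀)ᵀ = Matrix.reindex e e (Matrix.J (Fin m) F) := by
      rw [← hJ]; rfl
    obtain ⟨U, hU, hUA⟩ := UnipotentRealisation.exists_quad (Matrix.reindex e e U₀) A (by
      rw [hUt]
      simp only [A, Matrix.reindex_apply, Matrix.transpose_submatrix, Matrix.submatrix_mul_equiv,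
        SymplecticGroup.mem_iff'.1 hgm])
    let Q : QuadraticForm F (Fin (2 * m) → F) := LinearMap.BilinMap.toQuadraticMap (Matrix.toBilin' U)
    have hpol : QuadraticMap.polarBilin Q = Matrix.toBilin' (U + Uᵀ) := by
      refine LinearMap.ext₂ fun u v => ?_
      rw [LinearMap.BilinMap.polarBilin_toQuadraticMap, LinearMap.add_apply, LinearMap.add_apply, LinearMap.flip_apply,
        Matrix.toBilin'_apply', Matrix.toBilin'_apply', Matrix.toBilin'_apply', Matrix.add_mulVec, dotProduct_add,
        Matrix.dotProduct_mulVec v, ← Matrix.mulVec_transpose, dotProduct_comm _ u]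
    have hAu : IsUnit A := by
      have := IsNilpotent.isUnit_one_add hAn
      rwa [add_sub_cancel] at this
    have hQA : ∀ u, Q (A *ᵥ u) = Q u := fun u => by
      simp only [Q, LinearMap.BilinMap.toQuadraticMap_apply, Matrix.toBilin'_apply']
      exact hUA u
    refine ⟨Q, ?_, ?_⟩
    · rw [hpol, hU, hUt]
      refine LinearMap.BilinForm.nondegenerate_toBilin'_iff_det_ne_zero.2 ?_
      rw [Matrix.det_reindex_self]
      exact (Matrix.isUnit_det_J _ _).ne_zero
    · obtain ⟨e', he'⟩ := (UnipotentRealisation.realised_iff d hd A).2 ⟨hAn, hAp.trans hgp⟩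
      exact ⟨e', Classical.mkIsometry A ((Matrix.isUnit_iff_isUnit_det _).1 hAu).ne_zero hQA, he'⟩

end Cfsg.Agent.S2584
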