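import Cfsg.Statements.S2585
-- import your own Cfsg.Agent.* helpers here

set_option autoImplicit false
open Cfsg

namespace Cfsg.Agent.S2585

open Matrix

/-- Over a finite field of characteristic two every element of the symplectic group is orthogonal for a suitable quadratic form: for each A in Sp_2m(F) there is a quadratic form Q on F^(2m) whose polar form is the alternating form defining Sp_2m(F) (so Q is non-degenerate) and which A preserves. Equivalently, for m ≥ 1, Sp_2m(F) is the union of the conjugates of its two orthogonal subgroups O⁺_2m(F) and O⁻_2m(F). -/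
theorem result {F : Type*} [Field F] [Fintype F] [CharP F 2] {m : ℕ} (A : Matrix.symplecticGroup (Fin m) F) : ∃ Q : QuadraticForm F (Fin m ⊕ Fin m → F), (∀ u v : Fin m ⊕ Fin m → F, QuadraticMap.polar ⇑Q u v = Cfsg.sympForm m F u v) ∧ ∀ v : Fin m ⊕ Fin m → F, Q ((A : Matrix (Fin m ⊕ Fin m) (Fin m ⊕ Fin m) F).mulVec v) = Q v := by
  classical
  have h2 : (2 : F) = 0 := CharTwo.two_eq_zero
  set Am := (A : Matrix (Fin m ⊕ Fin m) (Fin m ⊕ Fin m) F) with hAm
  let Q₀ : QuadraticForm F (Fin m ⊕ Fin m → F) := LinearMap.BilinMap.toQuadraticMap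
    (LinearMap.mk₂ F (fun u v : Fin m ⊕ Fin m → F => ∑ i, u (Sum.inl i) * v (Sum.inr i))
      (fun a b c => by simp [add_mul, Finset.sum_add_distrib])
      (fun r a b => by simp [Finset.mul_sum, mul_assoc])
      (fun a b c => by simp [mul_add, Finset.sum_add_distrib])
      (fun r a b => by simp [Finset.mul_sum, mul_left_comm]))
  have hQ₀ : ∀ v, Q₀ v = ∑ i, v (Sum.inl i) * v (Sum.inr i) := fun v => rfl
  have hpol : ∀ u v, QuadraticMap.polar Q₀ u v = Cfsg.sympForm m F u v := by
    intro u v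
    simp only [QuadraticMap.polar, hQ₀, Cfsg.sympForm, Matrix.J, Matrix.mulVec, dotProduct, Fintype.sum_sum_type,
      Matrix.fromBlocks_apply₁₁, Matrix.fromBlocks_apply₁₂, Matrix.fromBlocks_apply₂₁, Matrix.fromBlocks_apply₂₂,
      Matrix.zero_apply, Matrix.neg_apply, Matrix.one_apply, zero_mul, Finset.sum_const_zero, zero_add, add_zero,
      neg_mul, ite_mul, one_mul, Finset.sum_neg_distrib, Finset.sum_ite_eq, Finset.mem_univ, if_true]
    simp only [← Finset.sum_sub_distrib, ← Finset.sum_add_distrib, Pi.add_apply]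
    refine Finset.sum_congr rfl fun i _ => ?_
    linear_combination (u (Sum.inl i) * v (Sum.inr i)) * h2
  have hA : ∀ u v, Cfsg.sympForm m F (Am *ᵥ u) (Am *ᵥ v) = Cfsg.sympForm m F u v := by
    intro u v
    have h := A.2
    rw [SymplecticGroup.mem_iff'] at h
    simp only [Cfsg.sympForm]
    rw [Matrix.mulVec_mulVec, Matrix.dotProduct_mulVec, ← Matrix.vecMul_transpose, Matrix.vecMul_vecMul,
      ← Matrix.dotProduct_mulVec, ← mul_assoc, h]
  let f : (Fin m ⊕ Fin m → F) → F := fun v => Q₀ (Am *ᵥ v) + Q₀ v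
  have hadd : ∀ u v, f (u + v) = f u + f v := by
    intro u v
    have h1 := hA u v
    rw [← hpol, ← hpol, QuadraticMap.polar, QuadraticMap.polar, ← Matrix.mulVec_add] at h1
    simp only [f]
    linear_combination h1 + (Q₀ (u + v) - Q₀ u - Q₀ v) * h2
  have hroot : ∀ x : F, ∃ y : F, y ^ 2 = x := fun x => by
    haveI := Fact.mk Nat.prime_two
    obtain ⟨y, hy⟩ := (bijective_frobenius F 2).2 x
    exact ⟨y, by simpa [frobenius_def] using hy⟩
  choose r hr using hroot
  have hinj : ∀ a b : F, a ^ 2 = b ^ 2 → a = b := fun a b h => frobenius_inj F 2 (by simpa [frobenius_def] using h)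
  let φ : (Fin m ⊕ Fin m → F) →ₗ[F] F :=
    { toFun := fun v => r (f v)
      map_add' := fun u v => hinj _ _ (by rw [hr, CharTwo.add_sq, hr, hr, hadd])
      map_smul' := fun c v => hinj _ _ (by
        rw [hr, RingHom.id_apply, smul_eq_mul, mul_pow, hr]
        simp only [f, Matrix.mulVec_smul, QuadraticMap.map_smul, smul_eq_mul]
        ring) }
  let L : (Fin m ⊕ Fin m → F) →ₗ[F] (Fin m ⊕ Fin m → F) := Am.mulVecLin + LinearMap.id
  have hφ : φ ∈ LinearMap.range L.dualMap := by
    rw [LinearMap.range_dualMap_eq_dualAnnihilator_ker, Submodule.mem_dualAnnihilator]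
    intro v hv
    have hv' : Am *ᵥ v + v = 0 := LinearMap.mem_ker.1 hv
    have hfix : Am *ᵥ v = v := by
      rw [eq_neg_of_add_eq_zero_left hv']
      funext i
      exact CharTwo.neg_eq _
    refine hinj _ _ ?_
    show r (f v) ^ 2 = 0 ^ 2
    rw [hr]
    simp only [f, hfix, CharTwo.add_self_eq_zero, ne_eq, OfNat.ofNat_ne_zero, not_false_eq_true, zero_pow]
  obtain ⟨ψ, hψ⟩ := hφ
  refine ⟨Q₀ + QuadraticMap.linMulLin ψ ψ, fun u v => ?_, fun v => ?_⟩
  · rw [QuadraticMap.coeFn_add, QuadraticMap.polar_add, hpol]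
    simp only [QuadraticMap.polar, QuadraticMap.linMulLin_apply, map_add]
    linear_combination (ψ u * ψ v) * h2
  · have h1 : ψ (Am *ᵥ v) + ψ v = r (f v) := by
      rw [← map_add]
      exact LinearMap.congr_fun hψ v
    have h3 : ψ (Am *ᵥ v) ^ 2 + ψ v ^ 2 = Q₀ (Am *ᵥ v) + Q₀ v := by
      rw [← CharTwo.add_sq, h1, hr]
    simp only [QuadraticMap.add_apply, QuadraticMap.linMulLin_apply]
    linear_combination h3 + (Q₀ (Am *ᵥ v) - ψ v ^ 2) * h2

end Cfsg.Agent.S2585
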