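import Cfsg.Statements.S2586
import Cfsg.Agent.Lib.Classical.SimilarTranspose
-- import your own Cfsg.Agent.* helpers here

set_option autoImplicit false
open Cfsg

namespace Cfsg.Agent.S2586

open Matrix

/-- Over a finite field, every element of the symplectic group Sp_2m(F) is conjugate by an invertible matrix to its inverse. -/
theorem result {F : Type*} [Field F] [Finite F] {m : ℕ} (A : Matrix.symplecticGroup (Fin m) F) : IsConj (A : Matrix (Fin m ⊕ Fin m) (Fin m ⊕ Fin m) F) ((A⁻¹ : Matrix.symplecticGroup (Fin m) F) : Matrix (Fin m ⊕ Fin m) (Fin m ⊕ Fin m) F) := by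
  classical
  set M := (A : Matrix (Fin m ⊕ Fin m) (Fin m ⊕ Fin m) F) with hM
  refine (Cfsg.Agent.Classical.SimilarTranspose.isConj_transpose M).trans ?_
  have hJ : IsUnit (-Matrix.J (Fin m) F) := by
    refine IsUnit.neg ?_
    rw [Matrix.isUnit_iff_isUnit_det]
    exact Matrix.isUnit_det_J _ _
  refine ⟨hJ.unit, ?_⟩
  show -Matrix.J (Fin m) F * Mᵀ = ((A⁻¹ : Matrix.symplecticGroup (Fin m) F) : Matrix _ _ F) * -Matrix.J (Fin m) F
  rw [SymplecticGroup.coe_inv, ← hM]
  have hJJ := Matrix.J_squared (Fin m) F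
  simp only [neg_mul, mul_neg, neg_neg, mul_assoc, hJJ, mul_one]

end Cfsg.Agent.S2586
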