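import Cfsg.Statements.S2588
import Cfsg.Agent.Lib.Classical.UnitaryConjugacy
-- import your own Cfsg.Agent.* helpers here

set_option autoImplicit false
open Cfsg Cfsg.Agent

namespace Cfsg.Agent.S2588

/-- An invertible matrix A over the field with q² elements is conjugate in GL_n(q²) to an element of the general unitary group GU_n(q) (isometries of the Hermitian form Σ u_i v_i^q) if and only if A is similar to the inverse transpose of its entrywise q-th power (A ~ A^(−qT), the image of A under the map sending a matrix to the inverse transpose of its entrywise q-th power — inverse transpose composed with the field automorphism — whose fixed points form GU_n(q)). -/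
theorem result {K : Type*} [Field K] [Fintype K] {q n : ℕ} (hK : Fintype.card K = q ^ 2) (A : GL (Fin n) K) : (∃ B : ↥(Cfsg.GU n K q), IsConj A (B : GL (Fin n) K)) ↔ IsConj (A : Matrix (Fin n) (Fin n) K) (((A : Matrix (Fin n) (Fin n) K).map (fun x : K => x ^ q)).transpose)⁻¹ := by
  have hst : ((A : Matrix (Fin n) (Fin n) K).map (fun x : K => x ^ q)).transpose =
      UnitaryConjugacy.st hK (A : Matrix (Fin n) (Fin n) K) := rfl
  rw [hst]
  have hu := UnitaryConjugacy.st_unit hK A.isUnit
  have hinv : (UnitaryConjugacy.st hK (A : Matrix (Fin n) (Fin n) K))⁻¹ *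
      UnitaryConjugacy.st hK (A : Matrix (Fin n) (Fin n) K) = 1 :=
    Matrix.nonsing_inv_mul _ ((Matrix.isUnit_iff_isUnit_det _).1 hu)
  constructor
  · rintro ⟨⟨B, hB⟩, hAB⟩
    obtain ⟨P, hP⟩ := isConj_iff.1 hAB
    have hb := (UnitaryConjugacy.mem_GU_iff hK _).1 hB
    change P * A * P⁻¹ = B at hP
    rw [← hP, Units.val_mul, Units.val_mul] at hb
    obtain ⟨Q, hQ⟩ := (UnitaryConjugacy.st_unit hK P.isUnit).mul P.isUnit
    refine ⟨Q, ?_⟩
    show (Q : Matrix (Fin n) (Fin n) K) * A = _ * (Q : Matrix (Fin n) (Fin n) K)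
    rw [hQ]
    have h1 := congrArg (fun z => UnitaryConjugacy.st hK (P : Matrix (Fin n) (Fin n) K) * z *
      (P : Matrix (Fin n) (Fin n) K)) hb
    simp only [UnitaryConjugacy.st_mul, mul_one] at h1
    simp only [← mul_assoc, ← UnitaryConjugacy.st_mul, Units.inv_mul, UnitaryConjugacy.st_one,
      Units.inv_mul_cancel_right, one_mul] at h1
    rw [UnitaryConjugacy.st_mul] at h1
    calc UnitaryConjugacy.st hK (P : Matrix (Fin n) (Fin n) K) * P * A
        = (UnitaryConjugacy.st hK (A : Matrix (Fin n) (Fin n) K))⁻¹ *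
          (UnitaryConjugacy.st hK (A : Matrix (Fin n) (Fin n) K) *
            (UnitaryConjugacy.st hK (P : Matrix (Fin n) (Fin n) K) * P) * A) := by
          simp only [← mul_assoc, hinv, one_mul]
      _ = _ := by rw [← mul_assoc (UnitaryConjugacy.st hK (A : Matrix (Fin n) (Fin n) K)), h1]
  · rintro ⟨H, hH⟩
    refine UnitaryConjugacy.exists_similar_mem hK A H ?_
    rw [mul_assoc, hH.eq, ← mul_assoc, Matrix.mul_nonsing_inv _ ((Matrix.isUnit_iff_isUnit_det _).1 hu), one_mul]

end Cfsg.Agent.S2588
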