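import Cfsg.Statements.S2594
import Cfsg.Agent.S0245
import Cfsg.Agent.Lib.Classical.SympTvCentralizer
-- import your own Cfsg.Agent.* helpers here

set_option autoImplicit false
open Cfsg Cfsg.Agent

namespace Cfsg.Agent.S2594

/-- Over a finite field with q elements, q even, an element t of Sp_2m(F) with rank(t − 1) = 1 (a symplectic transvection) has centraliser in Sp_2m(F) of order q^(2m−1) · |Sp_(2m−2)(q)| = q^(2m−1) · q^((m−1)²) · Π_(i=1)^(m−1) (q^(2i) − 1). -/
theorem result {F : Type*} [Field F] [Fintype F] [CharP F 2] {q : ℕ} (hF : Fintype.card F = q) {m : ℕ} (hm : 1 ≤ m) (t : Matrix.symplecticGroup (Fin m) F) (ht : ((t : Matrix (Fin m ⊕ Fin m) (Fin m ⊕ Fin m) F) - 1).rank = 1) : Nat.card ↥(Subgroup.centralizer ({t} : Set ↥(Matrix.symplecticGroup (Fin m) F))) = q ^ (2 * m - 1) * (q ^ ((m - 1) ^ 2) * ∏ i : Fin (m - 1), (q ^ (2 * ((i : ℕ) + 1)) - 1)) := by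
  subst hF
  have h := SympTvCentralizer.card_centralizer t ht
  rw [Cfsg.Agent.S0245.result rfl m] at h
  obtain ⟨j, rfl⟩ : ∃ j, m = j + 1 := ⟨m - 1, by omega⟩
  rw [Finset.prod_range_succ] at h
  have hpos : 0 < Fintype.card F ^ (2 * (j + 1)) - 1 := by
    have : 2 ≤ Fintype.card F ^ (2 * (j + 1)) := le_trans Fintype.one_lt_card (Nat.le_self_pow (by omega) _)
    omega
  have e : (j + 1) ^ 2 = (2 * (j + 1) - 1) + j ^ 2 := by
    have : 2 * (j + 1) - 1 = 2 * j + 1 := by omega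
    rw [this]; ring
  rw [Fin.prod_univ_eq_prod_range (fun i => Fintype.card F ^ (2 * (i + 1)) - 1), Nat.add_sub_cancel]
  refine Nat.eq_of_mul_eq_mul_left hpos (h.trans ?_)
  rw [e, pow_add]
  ring

end Cfsg.Agent.S2594
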