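import Cfsg.Statements.S2601
import Cfsg.Agent.Lib.Classical.PSLAutStructure

set_option autoImplicit false
open Cfsg

namespace Cfsg.Agent.S2601

/-- Structure of the outer automorphism group of PSL_n(q), n ≥ 3, q = p^f: it has a normal cyclic subgroup of order gcd(n, q − 1) (the diagonal automorphisms) whose quotient is the direct product of a cyclic group of order f (field automorphisms) and a group of order 2 (the inverse-transpose graph automorphism). -/
theorem result {F : Type*} [Field F] [Fintype F] {p f n : ℕ} [Fact p.Prime] (hf : 1 ≤ f) (hF : Fintype.card F = p ^ f) (hn : 3 ≤ n) : ∃ φ : Cfsg.Out (Matrix.ProjectiveSpecialLinearGroup (Fin n) F) →* Multiplicative (ZMod f × ZMod 2), Function.Surjective φ ∧ IsCyclic φ.ker ∧ Nat.card φ.ker = Nat.gcd n (p ^ f - 1) := by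
  haveI : CharP F p := charP_of_card_eq_prime_pow hF
  obtain ⟨hcyc, hcard⟩ := Cfsg.Agent.Classical.PSLAut.card_ringAut (F := F) hF
  obtain ⟨Ψ, hker, hsur, -⟩ := Cfsg.Agent.Classical.PSLAut.exists_fieldGraphHom (F := F) (p := p) (show 2 ≤ n by omega)
  obtain ⟨hout1, hout2⟩ := Cfsg.Agent.Classical.PSLAut.outDiag (F := F) (show 2 ≤ n by omega)
  have e1 : RingAut F ≃* Multiplicative (ZMod f) := by
    rw [← hcard]; exact (zmodCyclicMulEquiv hcyc).symm
  let e : RingAut F × Multiplicative (ZMod 2) ≃* Multiplicative (ZMod f × ZMod 2) :=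
    (MulEquiv.prodCongr e1 (MulEquiv.refl _)).trans (MulEquiv.prodMultiplicative (ZMod f) (ZMod 2)).symm
  have hker' : (e.toMonoidHom.comp Ψ).ker = (Cfsg.Agent.Classical.PSLAut.inndiagHom n F).range := by
    rw [← hker]; ext x; simp
  have hle : Cfsg.Inn (Matrix.ProjectiveSpecialLinearGroup (Fin n) F) ≤ (e.toMonoidHom.comp Ψ).ker := by
    rw [hker']
    rintro _ ⟨x, rfl⟩
    obtain ⟨s, rfl⟩ := Cfsg.Agent.Classical.slToPSL_surjective x
    exact ⟨_, (Cfsg.Agent.Classical.PSLAut.conj_eq_pslSemi s).symm⟩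
  refine ⟨QuotientGroup.lift _ (e.toMonoidHom.comp Ψ) hle, ?_, ?_⟩
  · exact QuotientGroup.lift_surjective_of_surjective _ _ (e.surjective.comp (hsur hn)) hle
  · rw [QuotientGroup.ker_lift, hker', ← hF]
    exact ⟨hout1, hout2⟩

end Cfsg.Agent.S2601
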