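import Cfsg.Statements.S2608
import Cfsg.Agent.Lib.Classical.OrthPlusOutAut
import Cfsg.Agent.Lib.Lie.Chev.OutD4
-- import your own Cfsg.Agent.* helpers here

set_option autoImplicit false
open Cfsg Cfsg.Agent.Classical Cfsg.Agent.Classical.OrthAut

namespace Cfsg.Agent.S2608

/-- Outer automorphism group of PΩ⁺_2m(q), q = p^f odd: for m = 4 it is S_4 × C_f (triality); for m ≥ 5 it is C_2 × C_2 × C_f when q ≡ 3 (mod 4) and m is odd, and D_8 × C_f otherwise. -/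
theorem result {F : Type*} [Field F] [Fintype F] {p f m : ℕ} [Fact p.Prime] (hf : 1 ≤ f) (hF : Fintype.card F = p ^ f) (hp : p ≠ 2) (hm : 4 ≤ m) : if m = 4 then Nonempty (Cfsg.Out (Cfsg.POmega F (Cfsg.quadFormPlus m F)) ≃* Equiv.Perm (Fin 4) × Multiplicative (ZMod f)) else if p ^ f % 4 = 3 ∧ Odd m then Nonempty (Cfsg.Out (Cfsg.POmega F (Cfsg.quadFormPlus m F)) ≃* Multiplicative (ZMod 2 × ZMod 2 × ZMod f)) else Nonempty (Cfsg.Out (Cfsg.POmega F (Cfsg.quadFormPlus m F)) ≃* DihedralGroup 4 × Multiplicative (ZMod f)) := by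
  haveI : CharP F p := charP_of_card_eq_prime_pow hF
  rw [← coe_qfPlus]
  by_cases h4 : m = 4
  · subst h4
    rw [if_pos rfl]
    obtain ⟨e⟩ := Lie.Chev.IsoD4.exists_iso F
    obtain ⟨e'⟩ := Lie.Chev.OutD4.out_iso e
    obtain ⟨e''⟩ := Lie.Chev.OutD4.out_odd (F := F) (two_ne_zero_of_card hF hp) hF
    exact ⟨e'.symm.trans e''⟩
  · rw [if_neg h4]
    exact out_plus_odd (by omega) hF hp

end Cfsg.Agent.S2608
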