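import Cfsg.Statements.S2609
import Cfsg.Agent.Lib.Classical.OrthSpinor
-- import your own Cfsg.Agent.* helpers here

set_option autoImplicit false
open Cfsg

namespace Cfsg.Agent.S2609
open Cfsg.Agent.Classical Cfsg.Agent.Classical.OrthAut


/-- Spinor norm criterion for Ω over a finite field of odd order: let Q be a quadratic form on F^n, n ≥ 2, with non-degenerate polar form, and let g be an isometry written as a product of reflections in non-singular vectors v_1, …, v_k. Then g lies in Ω (the commutator subgroup of the orthogonal group) if and only if k is even and Q(v_1)⋯Q(v_k) is a square; in particular, for g of determinant one, whether that product is a square does not depend on the chosen factorisation (it is the spinor norm of g). -/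
theorem result {F : Type*} [Field F] [Fintype F] (h2 : (2 : F) ≠ 0) {n : ℕ} (hn : 2 ≤ n) (Q : QuadraticForm F (Fin n → F)) (hQ : (QuadraticMap.polarBilin Q).Nondegenerate) (g : ↥(Cfsg.isometryGroup F ⇑Q)) (vs : List (Fin n → F)) (hvs : ∀ v ∈ vs, Q v ≠ 0) (hg : ((g : Matrix.GeneralLinearGroup (Fin n) F) : Matrix (Fin n) (Fin n) F) = (vs.map (fun v => Cfsg.reflectionMatrix ⇑Q v)).prod) : g ∈ Cfsg.Omega F ⇑Q ↔ (Even vs.length ∧ IsSquare (vs.map (fun v => Q v)).prod) := by
  have hG := genQ_odd hQ h2
  have key : ∀ l : List (Fin n → F), (∀ v ∈ l, Q v ≠ 0) → ∃ x : isometryGroup F ⇑Q,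
      ogVal x = (l.map fun v => reflectionMatrix ⇑Q v).prod ∧ dick x = (-1) ^ l.length ∧
        spin x = sqSign (l.map fun v => Q v).prod := by
    intro l hl
    induction l with
    | nil =>
      refine ⟨1, by simp, ?_, ?_⟩
      · rw [List.length_nil, pow_zero]; exact map_one (dickGen hQ hG)
      · rw [← spinHom_apply hQ, map_one, List.map_nil, List.prod_nil, sqSign_of_isSquare IsSquare.one]
    | cons v l ih =>
      obtain ⟨x, hx, hd, hs⟩ := ih fun w hw => hl w (List.mem_cons_of_mem _ hw)
      have hv := hl v List.mem_cons_self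
      refine ⟨OrthAut.refl hv * x, ?_, ?_, ?_⟩
      · rw [ogVal_mul, hx, List.map_cons, List.prod_cons]; rfl
      · rw [dick_mul_gen hQ hG, hd, dick_refl hQ hv, List.length_cons, pow_succ']
      · rw [spin_mul hQ, hs, spin_refl hQ, List.map_cons, List.prod_cons, sqSign_mul hv]
        refine List.prod_ne_zero fun h => ?_
        obtain ⟨w, hw, e⟩ := List.mem_map.1 h
        exact hl w (List.mem_cons_of_mem _ hw) e
  obtain ⟨x, hx, hd, hs⟩ := key vs hvs
  obtain rfl : g = x := ogVal_ext (hg.trans hx.symm)
  rw [mem_omega_gen hQ hG, hd, hs]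
  refine and_congr ?_ ?_
  · exact neg_one_pow_eq_one_iff_even (by decide)
  · constructor
    · intro h
      by_contra hns
      rw [sqSign_of_not hns] at h
      exact absurd h (by decide)
    · exact sqSign_of_isSquare

end Cfsg.Agent.S2609
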