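import Cfsg.Statements.S2612
import Cfsg.Agent.Lib.Classical.OrthGenModels

set_option autoImplicit false
open Cfsg Cfsg.Agent.Classical Cfsg.Agent.Classical.OrthAut

namespace Cfsg.Agent.S2612

/-- For the hyperbolic quadratic form Σ x_i y_i on F^(2m) (F finite, m ≥ 1, excluding m = 2 over the field of two elements), Ω⁺_2m(F) (the commutator subgroup of the orthogonal group) contains an element interchanging the two complementary maximal totally singular subspaces {y = 0} and {x = 0} if and only if m is even (dimension divisible by 4). -/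
theorem result {F : Type*} [Field F] [Fintype F] {m : ℕ} (hm : 1 ≤ m) (h : Fintype.card F ≠ 2 ∨ m ≠ 2) : (∃ g : ↥(Cfsg.isometryGroup F (Cfsg.quadFormPlus m F)), g ∈ Cfsg.Omega F (Cfsg.quadFormPlus m F) ∧ (∀ v : Fin m ⊕ Fin m → F, (∀ i, v (Sum.inr i) = 0) → ∀ i, (((g : Matrix.GeneralLinearGroup (Fin m ⊕ Fin m) F) : Matrix (Fin m ⊕ Fin m) (Fin m ⊕ Fin m) F).mulVec v) (Sum.inl i) = 0) ∧ (∀ v : Fin m ⊕ Fin m → F, (∀ i, v (Sum.inl i) = 0) → ∀ i, (((g : Matrix.GeneralLinearGroup (Fin m ⊕ Fin m) F) : Matrix (Fin m ⊕ Fin m) (Fin m ⊕ Fin m) F).mulVec v) (Sum.inr i) = 0)) ↔ Even m := by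
  have hG : GenQ F (Fin m ⊕ Fin m) := genQ_of_card (h.imp_right fun hm' e => hm' (by
    rw [Fintype.card_sum, Fintype.card_fin] at e; omega))
  have hQ := nondegenerate_qfPlus (F := F) m
  rw [← coe_qfPlus]
  set U₁ : Submodule F (Fin m ⊕ Fin m → F) :=
    LinearMap.ker (LinearMap.funLeft F F (Sum.inl : Fin m → Fin m ⊕ Fin m)) with hU₁
  have m1 : ∀ v, v ∈ U₁ ↔ ∀ i, v (Sum.inl i) = 0 := fun v => by rw [hU₁, LinearMap.mem_ker, funext_iff]; rfl
  let M : Matrix (Fin m ⊕ Fin m) (Fin m ⊕ Fin m) F := Matrix.fromBlocks 0 1 1 0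
  have hM : ∀ v : Fin m ⊕ Fin m → F, M.mulVec v = Sum.elim (v ∘ Sum.inr) (v ∘ Sum.inl) := fun v => by
    simp [M, Matrix.fromBlocks_mulVec]
  let sw : isometryGroup F ⇑(qfPlus m F) := ⟨⟨M, M, by simp [M, Matrix.fromBlocks_multiply],
    by simp [M, Matrix.fromBlocks_multiply]⟩, mem_isometryGroup.2 fun v => by
      show qfPlus m F (M.mulVec v) = _
      rw [hM, qfPlus_apply, qfPlus_apply]
      simp [quadFormPlus, mul_comm]⟩
  have hsw : imageSubmodule (ogVal sw) (stdHalf m F) = U₁ := by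
    refine le_antisymm (Submodule.map_le_iff_le_comap.2 fun v hv => (m1 _).2 fun i => ?_) fun v hv =>
      ⟨M.mulVec v, mem_stdHalf.2 fun i => ?_, ?_⟩
    · show M.mulVec v (Sum.inl i) = 0
      rw [hM]; exact mem_stdHalf.1 hv i
    · rw [hM]; exact (m1 v).1 hv i
    · show M.mulVec (M.mulVec v) = v
      rw [Matrix.mulVec_mulVec]; simp [M, Matrix.fromBlocks_multiply]
  have hH := half_stdHalf (F := F) m
  have hH1 : Half (qfPlus m F) U₁ := hsw ▸ half_image_og sw hH
  have hfin : Module.finrank F (stdHalf m F) = m := by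
    have := hH.2; rw [Fintype.card_sum, Fintype.card_fin] at this; omega
  have hps : pSign (stdHalf m F) U₁ = (-1) ^ m := by
    have : stdHalf m F ⊓ U₁ = ⊥ := (Submodule.eq_bot_iff _).2 fun v hv => by
      funext k; rcases k with k | k
      · exact (m1 v).1 hv.2 k
      · exact mem_stdHalf.1 hv.1 k
    rw [pSign, hfin, this, finrank_bot, add_zero]
  have hd : dick sw = (-1) ^ m := by
    have h1 := pSign_image_gen hQ hG hH hH sw
    rw [pSign_self, mul_one, hsw, hps] at h1
    exact h1.symm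
  constructor
  · rintro ⟨g, hg, hg1, hg2⟩
    have himg : imageSubmodule (ogVal g) (stdHalf m F) = U₁ := by
      refine Submodule.eq_of_le_of_finrank_le (Submodule.map_le_iff_le_comap.2 fun v hv =>
        (m1 _).2 fun i => hg1 v (mem_stdHalf.1 hv) i) ?_
      have e1 := (half_image_og g hH).2
      have e2 := hH1.2
      omega
    have h1 := pSign_image_gen hQ hG hH hH g
    rw [pSign_self, mul_one, himg, hps, ((mem_omega_gen hQ hG g).1 hg).1] at h1
    rcases Nat.even_or_odd m with he | ho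
    · exact he
    · rw [ho.neg_one_pow] at h1; exact absurd h1 (by decide)
  · intro he
    obtain ⟨k, hk1, hk2, hk3⟩ : ∃ k : isometryGroup F ⇑(qfPlus m F), invHom hQ hG k = (1, spin sw) ∧
        (∀ v : Fin m ⊕ Fin m → F, (∀ i, v (Sum.inr i) = 0) → ∀ i, (ogVal k).mulVec v (Sum.inr i) = 0) ∧
        (∀ v : Fin m ⊕ Fin m → F, (∀ i, v (Sum.inl i) = 0) → ∀ i, (ogVal k).mulVec v (Sum.inl i) = 0) := by
      rcases Int.units_eq_one_or (spin sw) with e | e
      · exact ⟨1, by rw [map_one, e]; rfl, fun v hv i => by simpa using hv i, fun v hv i => by simpa using hv i⟩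
      · have h2 : (2 : F) ≠ 0 := fun h2 => by rw [spin_two hQ h2] at e; exact absurd e (by decide)
        obtain ⟨ε, hε⟩ := FiniteField.exists_nonsquare (F := F)
          (fun hc => h2 (by haveI := ringChar.of_eq hc; exact CharTwo.two_eq_zero))
        obtain ⟨k, hk, -, -, hki⟩ := exists_torus_elt hQ (pair_plus (F := F) (⟨0, hm⟩ : Fin m)) (ε := ε)
          (fun h0 => hε (h0 ▸ IsSquare.zero))
        refine ⟨k, by rw [hki hG, sqSign_of_not hε, e], fun v hv i => ?_, fun v hv i => ?_⟩ <;>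
        · rw [hk, polar_fPlus, polar_ePlus]; simp [ePlus, fPlus, hv]
    refine ⟨sw * k, ?_, fun v hv i => ?_, fun v hv i => ?_⟩
    · rw [mem_omega_gen hQ hG, ← Prod.mk_inj (a₁ := dick (sw * k)) (b₁ := spin (sw * k)), ← invHom_apply hQ hG,
        map_mul, hk1, invHom_apply, hd, he.neg_one_pow]
      exact Prod.ext (one_mul _) (Int.units_mul_self _)
    · show (ogVal (sw * k)).mulVec v (Sum.inl i) = 0
      rw [ogVal_mul, ← Matrix.mulVec_mulVec]
      show M.mulVec _ (Sum.inl i) = 0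
      rw [hM]; exact hk2 v hv i
    · show (ogVal (sw * k)).mulVec v (Sum.inr i) = 0
      rw [ogVal_mul, ← Matrix.mulVec_mulVec]
      show M.mulVec _ (Sum.inr i) = 0
      rw [hM]; exact hk3 v hv i

end Cfsg.Agent.S2612
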