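import Cfsg.Statements.S2614
import Cfsg.Agent.Lib.Classical.OrthGenModels

set_option autoImplicit false
open Cfsg Cfsg.Agent.Classical Cfsg.Agent.Classical.OrthAut

namespace Cfsg.Agent.S2614

/-- For the form x_0² + Σ x_j y_j on F^(2m+1), F finite with q elements, q odd, and 1 ≤ i ≤ m: the involution of determinant one negating the first i hyperbolic pairs (and fixing x_0 and the other pairs) lies in Ω_(2m+1)(q) (commutator subgroup of the orthogonal group) if and only if q^i ≡ 1 (mod 4); its (−1)-eigenspace is a hyperbolic 2i-space. -/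
theorem result {F : Type*} [Field F] [Fintype F] {q : ℕ} (hF : Fintype.card F = q) (hq : Odd q) {m : ℕ} (i : ℕ) (hi : 1 ≤ i) (him : i ≤ m) : (∃ g : ↥(Cfsg.isometryGroup F (Cfsg.quadFormOdd m F)), g ∈ Cfsg.Omega F (Cfsg.quadFormOdd m F) ∧ ((g : Matrix.GeneralLinearGroup (Unit ⊕ (Fin m ⊕ Fin m)) F) : Matrix (Unit ⊕ (Fin m ⊕ Fin m)) (Unit ⊕ (Fin m ⊕ Fin m)) F) = Matrix.diagonal (fun k : Unit ⊕ (Fin m ⊕ Fin m) => if (Sum.elim (fun _ : Unit => i) (Sum.elim (fun j : Fin m => (j : ℕ)) (fun j : Fin m => (j : ℕ))) k) < i then (-1 : F) else 1)) ↔ q ^ i % 4 = 1 := by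
  have h2 := two_ne_zero_of_odd hF hq
  rw [← isSquare_negOne_pow_iff hF hq i, ← coe_qfOdd]
  have hc : (Finset.univ.filter fun j : Fin m => (j : ℕ) < i).card = i := by
    rw [Fin.card_filter_val_lt, min_eq_right him]
  conv_rhs => rw [← hc]
  refine negate_mem_omega_iff (nondegenerate_qfOdd m h2) h2 eOdd fOdd pair_odd (fun _ _ => perp_odd) _ _ ?_
  intro x
  funext k
  simp only [polar_eOdd, polar_fOdd]
  rcases k with k | k | k
  · simp [polar_eOdd, polar_fOdd, eOdd, fOdd, Matrix.mulVec_diagonal, Finset.sum_apply, Pi.single_apply]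
  all_goals
    by_cases hk : (k : ℕ) < i <;>
    simp [polar_eOdd, polar_fOdd, eOdd, fOdd, Matrix.mulVec_diagonal, Finset.sum_apply, Pi.single_apply, hk] <;>
    ring

end Cfsg.Agent.S2614
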