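import Cfsg.Statements.S2615
import Cfsg.Agent.Lib.Classical.OrthGenModels

set_option autoImplicit false
open Cfsg Cfsg.Agent.Classical Cfsg.Agent.Classical.OrthAut

namespace Cfsg.Agent.S2615

/-- For an elliptic form Σ_(j<m−1) x_j y_j + (z₁² + a z₁z₂ + b z₂²) (anisotropic binary part) on F^(2m), F finite with q elements, q odd, and 1 ≤ i ≤ m − 1: the involution negating the first i hyperbolic pairs and fixing the rest lies in Ω⁻_2m(q) (commutator subgroup of the orthogonal group) if and only if q^i ≡ 1 (mod 4). -/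
theorem result {F : Type*} [Field F] [Fintype F] {q : ℕ} (hF : Fintype.card F = q) (hq : Odd q) {m : ℕ} (a b : F) (hab : ∀ z₁ z₂ : F, z₁ ^ 2 + a * z₁ * z₂ + b * z₂ ^ 2 = 0 → z₁ = 0 ∧ z₂ = 0) (i : ℕ) (hi : 1 ≤ i) (him : i + 1 ≤ m) : (∃ g : ↥(Cfsg.isometryGroup F (Cfsg.quadFormMinus (m - 1) F a b)), g ∈ Cfsg.Omega F (Cfsg.quadFormMinus (m - 1) F a b) ∧ ((g : Matrix.GeneralLinearGroup ((Fin (m - 1) ⊕ Fin (m - 1)) ⊕ Fin 2) F) : Matrix ((Fin (m - 1) ⊕ Fin (m - 1)) ⊕ Fin 2) ((Fin (m - 1) ⊕ Fin (m - 1)) ⊕ Fin 2) F) = Matrix.diagonal (fun k : (Fin (m - 1) ⊕ Fin (m - 1)) ⊕ Fin 2 => if (Sum.elim (Sum.elim (fun j : Fin (m - 1) => (j : ℕ)) (fun j : Fin (m - 1) => (j : ℕ))) (fun _ : Fin 2 => i) k) < i then (-1 : F) else 1)) ↔ q ^ i % 4 = 1 := by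
  have h2 := two_ne_zero_of_odd hF hq
  rw [← isSquare_negOne_pow_iff hF hq i, ← coe_qfMinus]
  have hc : (Finset.univ.filter fun j : Fin (m - 1) => (j : ℕ) < i).card = i := by
    rw [Fin.card_filter_val_lt, min_eq_right (by omega)]
  conv_rhs => rw [← hc]
  refine negate_mem_omega_iff (nondegenerate_qfMinus (m - 1) hab) h2 eMinus fMinus pair_minus
    (fun _ _ => perp_minus) _ _ ?_
  intro x
  funext k
  simp only [polar_eMinus, polar_fMinus]
  rcases k with (k | k) | k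
  rotate_left 2
  · simp [polar_eMinus, polar_fMinus, eMinus, fMinus, Matrix.mulVec_diagonal, Finset.sum_apply, Pi.single_apply]
  all_goals
    by_cases hk : (k : ℕ) < i <;>
    simp [polar_eMinus, polar_fMinus, eMinus, fMinus, Matrix.mulVec_diagonal, Finset.sum_apply, Pi.single_apply, hk] <;>
    ring

end Cfsg.Agent.S2615
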