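import Cfsg.Statements.S2617
import Mathlib
import Cfsg.Agent.Lib.Classical.QuadModels


set_option autoImplicit false
open Cfsg

namespace Cfsg.Agent.S2617


/-- The two standard quadratic forms of even dimension 2m over a finite field are not isometric: there is no linear isomorphism carrying the elliptic form Σ_(i<m−1) x_i y_i + z₁² + z₁z₂ + ζ z₂² (t² + t + ζ without roots) to the hyperbolic form Σ_(i<m) x_i y_i (they have different Witt index). -/
theorem result {F : Type*} [Field F] [Finite F] {m : ℕ} (hm : 1 ≤ m) (ζ : F) (hζ : ∀ t : F, t ^ 2 + t + ζ ≠ 0) (g : (Fin m ⊕ Fin m → F) ≃ₗ[F] ((Fin (m - 1) ⊕ Fin (m - 1)) ⊕ Fin 2 → F)) : ¬ (∀ v : Fin m ⊕ Fin m → F, Cfsg.quadFormMinus (m - 1) F 1 ζ (g v) = Cfsg.quadFormPlus m F v) := by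
  intro hg
  obtain ⟨k, rfl⟩ : ∃ k, m = k + 1 := ⟨m - 1, by omega⟩
  have hab : ∀ z₁ z₂ : F, z₁ ^ 2 + 1 * z₁ * z₂ + ζ * z₂ ^ 2 = 0 → z₁ = 0 ∧ z₂ = 0 := by
    intro z₁ z₂ h
    by_cases h2 : z₂ = 0
    · subst h2
      exact ⟨eq_zero_of_pow_eq_zero (n := 2) (by linear_combination h), rfl⟩
    · exfalso
      exact hζ (z₁ / z₂) (by field_simp; linear_combination h)
  exact Cfsg.Agent.Classical.not_isometric_plus_minus hab g (fun v => by
    rw [Cfsg.Agent.Classical.qfMinus_apply, Cfsg.Agent.Classical.qfPlus_apply]; exact hg v)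

end Cfsg.Agent.S2617
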