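import Cfsg.Statements.S2619
import Mathlib
import Cfsg.Agent.Lib.Classical.QuadClass


set_option autoImplicit false
open Cfsg

namespace Cfsg.Agent.S2619


/-- Over a finite field of characteristic two, given an alternating bilinear form B on a finite-dimensional space, a basis (v_i) and scalars (λ_i), there is exactly one quadratic form whose polar form is B and whose value at each v_i is λ_i. -/
theorem result {F V ι : Type*} [Field F] [Finite F] [CharP F 2] [AddCommGroup V] [Module F V] [Fintype ι] (b : Module.Basis ι F V) (B : LinearMap.BilinForm F V) (hB : B.IsAlt) (c : ι → F) : ∃! Q : QuadraticForm F V, QuadraticMap.polarBilin Q = B ∧ ∀ i, Q (b i) = c i := by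
  classical
  let o : LinearOrder ι := linearOrderOfSTO (WellOrderingRel)
  let A : LinearMap.BilinForm F V := Matrix.toLinearMap₂ b b
    (Matrix.of fun i j => if i = j then c i else if i < j then B (b i) (b j) else 0)
  have hA : ∀ i j, A (b i) (b j) = if i = j then c i else if i < j then B (b i) (b j) else 0 :=
    fun i j => Matrix.toLinearMap₂_apply_basis _ _ _ i j
  refine ⟨LinearMap.BilinMap.toQuadraticMap A, ⟨?_, fun i => ?_⟩, fun Q' hQ' => ?_⟩
  · rw [LinearMap.BilinMap.polarBilin_toQuadraticMap]
    refine b.ext fun i => b.ext fun j => ?_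
    simp only [LinearMap.add_apply, LinearMap.flip_apply, hA]
    rcases lt_trichotomy i j with h | rfl | h
    · simp [h.ne, h.ne', h, not_lt.2 h.le]
    · simp [hB (b i), CharTwo.add_self_eq_zero]
    · simp [h.ne, h.ne', h, not_lt.2 h.le]
      rw [← LinearMap.IsAlt.neg hB (b j) (b i), CharTwo.neg_eq]
  · rw [LinearMap.BilinMap.toQuadraticMap_apply, hA, if_pos rfl]
  · refine Cfsg.Agent.Classical.quad_ext_basis b (fun i => ?_) (fun i j => ?_)
    · rw [hQ'.2, LinearMap.BilinMap.toQuadraticMap_apply, hA, if_pos rfl]
    · rw [← QuadraticMap.polarBilin_apply_apply, hQ'.1, ← QuadraticMap.polarBilin_apply_apply,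
        LinearMap.BilinMap.polarBilin_toQuadraticMap, LinearMap.add_apply, LinearMap.add_apply,
        LinearMap.flip_apply, hA, hA]
      rcases lt_trichotomy i j with h | rfl | h
      · simp [h.ne, h.ne', h, not_lt.2 h.le]
      · simp [hB (b i), CharTwo.add_self_eq_zero]
      · simp [h.ne, h.ne', h, not_lt.2 h.le]
        rw [← LinearMap.IsAlt.neg hB (b j) (b i), CharTwo.neg_eq]

end Cfsg.Agent.S2619
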