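import Cfsg.Statements.S2620
import Mathlib
import Cfsg.Agent.Lib.Classical.QuadModels


set_option autoImplicit false
open Cfsg

namespace Cfsg.Agent.S2620
theorem isSquare_neg_one_pow_iff {F : Type*} [Field F] [Fintype F] (h2 : (2 : F) ≠ 0) (m : ℕ) :
    IsSquare ((-1 : F) ^ m) ↔ ¬ (Fintype.card F % 4 = 3 ∧ Odd m) := by
  rcases Nat.even_or_odd m with h | h
  · rw [h.neg_one_pow]
    simp [Nat.not_odd_iff_even.2 h]
  · rw [h.neg_one_pow, FiniteField.isSquare_neg_one_iff]
    simp [h]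

theorem card_odd {F : Type*} [Field F] [Fintype F] (h2 : (2 : F) ≠ 0) : Fintype.card F % 2 = 1 :=
  FiniteField.odd_card_of_char_ne_two fun hc => h2 (by
    exact_mod_cast (ringChar.spec F 2).2 (by rw [hc]))

theorem even_div_iff {q m : ℕ} (hq : q % 2 = 1) : Even (m * (q - 1) / 2) ↔ ¬ (q % 4 = 3 ∧ Odd m) := by
  obtain ⟨r, rfl⟩ : ∃ r, q = 2 * r + 1 := ⟨q / 2, by omega⟩
  rw [show m * (2 * r + 1 - 1) / 2 = m * r by
    rw [Nat.add_sub_cancel, mul_left_comm]; omega, Nat.even_mul, Nat.odd_iff, Nat.even_iff,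
    Nat.even_iff]
  omega

theorem two_ne_zero_of_odd {F : Type*} [Field F] [Fintype F] (hq : Odd (Fintype.card F)) :
    (2 : F) ≠ 0 := by
  intro h
  have : CharP F 2 := (CharP.charP_iff_prime_eq_zero Nat.prime_two).2 (by exact_mod_cast h)
  have := Nat.odd_iff.1 hq
  have h' := FiniteField.even_card_iff_char_two.1 (ringChar.eq F 2)
  omega


/-- Discriminant of the hyperbolic quadratic form Σ_(i<m) x_i y_i over a field with q elements, q odd, m ≥ 1: the determinant of the Gram matrix of its polar form in any basis is a square if and only if m(q − 1)/2 is even (equivalently q^m ≡ 1 (mod 4)). -/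
theorem result {F : Type*} [Field F] [Fintype F] {q : ℕ} (hF : Fintype.card F = q) (hq : Odd q) {m : ℕ} (hm : 1 ≤ m) {ι : Type*} [Fintype ι] [DecidableEq ι] (b : Module.Basis ι F (Fin m ⊕ Fin m → F)) : IsSquare (Matrix.of (fun i j : ι => QuadraticMap.polar (Cfsg.quadFormPlus m F) (b i) (b j))).det ↔ Even (m * (q - 1) / 2) := by
  classical
  subst hF
  have h2 := two_ne_zero_of_odd hq
  obtain ⟨t, ht, htd⟩ := Cfsg.Agent.Classical.gramDet_change
    (QuadraticMap.polarBilin (Cfsg.Agent.Classical.qfPlus m F)) (Pi.basisFun F (Fin m ⊕ Fin m)) b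
  rw [← Cfsg.Agent.Classical.coe_qfPlus, ← Cfsg.Agent.Classical.gramDet_eq_of, htd,
    Cfsg.Agent.Classical.gramDet_qfPlus, Cfsg.Agent.Classical.isSquare_mul_sq ht,
    isSquare_neg_one_pow_iff h2, even_div_iff (Nat.odd_iff.1 hq)]

end Cfsg.Agent.S2620
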