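import Cfsg.Statements.S2621
import Mathlib
import Cfsg.Agent.Lib.Classical.QuadModels


set_option autoImplicit false
open Cfsg

namespace Cfsg.Agent.S2621
theorem isSquare_neg_one_pow_iff {F : Type*} [Field F] [Fintype F] (h2 : (2 : F) ≠ 0) (m : ℕ) :
    IsSquare ((-1 : F) ^ m) ↔ ¬ (Fintype.card F % 4 = 3 ∧ Odd m) := by
  rcases Nat.even_or_odd m with h | h
  · rw [h.neg_one_pow]
    simp [Nat.not_odd_iff_even.2 h]
  · rw [h.neg_one_pow, FiniteField.isSquare_neg_one_iff]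
    simp [h]

theorem card_odd {F : Type*} [Field F] [Fintype F] (h2 : (2 : F) ≠ 0) : Fintype.card F % 2 = 1 :=
  FiniteField.odd_card_of_char_ne_two fun hc => h2 (by
    exact_mod_cast (ringChar.spec F 2).2 (by rw [hc]))

theorem even_div_iff {q m : ℕ} (hq : q % 2 = 1) : Even (m * (q - 1) / 2) ↔ ¬ (q % 4 = 3 ∧ Odd m) := by
  obtain ⟨r, rfl⟩ : ∃ r, q = 2 * r + 1 := ⟨q / 2, by omega⟩
  rw [show m * (2 * r + 1 - 1) / 2 = m * r by
    rw [Nat.add_sub_cancel, mul_left_comm]; omega, Nat.even_mul, Nat.odd_iff, Nat.even_iff,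
    Nat.even_iff]
  omega

theorem two_ne_zero_of_odd {F : Type*} [Field F] [Fintype F] (hq : Odd (Fintype.card F)) :
    (2 : F) ≠ 0 := by
  intro h
  have : CharP F 2 := (CharP.charP_iff_prime_eq_zero Nat.prime_two).2 (by exact_mod_cast h)
  have := Nat.odd_iff.1 hq
  have h' := FiniteField.even_card_iff_char_two.1 (ringChar.eq F 2)
  omega


/-- Discriminant of an elliptic quadratic form Σ_(i<m−1) x_i y_i + z₁² + a z₁z₂ + c z₂² (binary part anisotropic) in dimension 2m over a field with q elements, q odd, m ≥ 1: the determinant of the Gram matrix of its polar form in any basis is a square if and only if m(q − 1)/2 is odd (equivalently q^m ≡ 3 (mod 4)). -/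
theorem result {F : Type*} [Field F] [Fintype F] {q : ℕ} (hF : Fintype.card F = q) (hq : Odd q) {m : ℕ} (hm : 1 ≤ m) (a c : F) (hac : ∀ z₁ z₂ : F, z₁ ^ 2 + a * z₁ * z₂ + c * z₂ ^ 2 = 0 → z₁ = 0 ∧ z₂ = 0) {ι : Type*} [Fintype ι] [DecidableEq ι] (b : Module.Basis ι F ((Fin (m - 1) ⊕ Fin (m - 1)) ⊕ Fin 2 → F)) : IsSquare (Matrix.of (fun i j : ι => QuadraticMap.polar (Cfsg.quadFormMinus (m - 1) F a c) (b i) (b j))).det ↔ ¬ Even (m * (q - 1) / 2) := by
  classical
  subst hF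
  have h2 := two_ne_zero_of_odd hq
  obtain ⟨k, rfl⟩ : ∃ k, m = k + 1 := ⟨m - 1, by omega⟩
  revert b
  rw [Nat.add_sub_cancel]
  intro b
  obtain ⟨t, ht, htd⟩ := Cfsg.Agent.Classical.gramDet_change
    (QuadraticMap.polarBilin (Cfsg.Agent.Classical.qfMinus k F a c))
    (Pi.basisFun F ((Fin k ⊕ Fin k) ⊕ Fin 2)) b
  have hns : ¬ IsSquare (a ^ 2 - 4 * c) := by
    rintro ⟨s, hs⟩
    refine one_ne_zero (hac ((-a + s) / 2) 1 ?_).2
    field_simp
    linear_combination -hs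
  rw [← Cfsg.Agent.Classical.coe_qfMinus, ← Cfsg.Agent.Classical.gramDet_eq_of, htd,
    Cfsg.Agent.Classical.gramDet_qfMinus, Cfsg.Agent.Classical.isSquare_mul_sq ht,
    show (-1 : F) ^ k * (4 * c - a ^ 2) = (-1) ^ (k + 1) * (a ^ 2 - 4 * c) by ring,
    even_div_iff (Nat.odd_iff.1 hq), ← isSquare_neg_one_pow_iff h2]
  constructor
  · intro h hs
    exact hns ((Cfsg.Agent.Classical.isSquare_mul_left_iff (pow_ne_zero _ (by simp)) hs).1 h)
  · intro h
    exact Cfsg.Agent.Classical.isSquare_of_two_nonsquares h2 h hns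

end Cfsg.Agent.S2621
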