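import Cfsg.Statements.S2622
import Mathlib
import Cfsg.Agent.Lib.Classical.QuadClass


set_option autoImplicit false
open Cfsg

namespace Cfsg.Agent.S2622


/-- Over a finite field of characteristic two, a non-degenerate symmetric bilinear form that is not alternating (some vector v has B(v, v) ≠ 0) admits an orthonormal basis. -/
theorem result {F V : Type*} [Field F] [Finite F] [CharP F 2] [AddCommGroup V] [Module F V] [FiniteDimensional F V] {n : ℕ} (hV : Module.finrank F V = n) (B : LinearMap.BilinForm F V) (hS : B.IsSymm) (hB : B.Nondegenerate) (hna : ∃ v : V, B v v ≠ 0) : ∃ b : Module.Basis (Fin n) F V, ∀ i j, B (b i) (b j) = if i = j then 1 else 0 := by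
  obtain ⟨b, -, hb⟩ := Cfsg.Agent.Classical.exists_orthonormal_family_char_two B hS n ⊤
    (fun w _ hw => by
      by_contra hcon
      push Not at hcon
      exact hw (hB.1 w fun u => hcon u trivial)) (by rw [finrank_top, hV])
    (fun _ => hna.imp fun v hv => ⟨trivial, hv⟩)
  have hli : LinearIndependent F b := Cfsg.Agent.Classical.linearIndependent_of_orth b (fun i => B (b i))
    (fun i j h => by simp [hb, h]) (fun i => by simp [hb])
  obtain ⟨v, hv⟩ := hna
  have : Nonempty (Fin n) := by
    rcases n with _ | n
    · exfalso
      have : Subsingleton V := Module.finrank_zero_iff.1 hV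
      rw [Subsingleton.elim v 0] at hv
      simp at hv
    · exact ⟨0⟩
  refine ⟨basisOfLinearIndependentOfCardEqFinrank hli (by rw [Fintype.card_fin, hV]), ?_⟩
  rw [coe_basisOfLinearIndependentOfCardEqFinrank]; exact hb

end Cfsg.Agent.S2622
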