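import Cfsg.Statements.S2624
import Mathlib
import Cfsg.Agent.Lib.Classical.QuadClass


set_option autoImplicit false
open Cfsg

namespace Cfsg.Agent.S2624


/-- For a quadratic form Q on F^n with non-degenerate polar form, F finite and n ≥ 2 even, every non-zero scalar c is the multiplier of some similarity: there is an invertible linear map g with Q(g v) = c·Q(v) for all v. -/
theorem result {F : Type*} [Field F] [Fintype F] {n : ℕ} (hn : 2 ≤ n) (he : Even n) (Q : QuadraticForm F (Fin n → F)) (hQ : (QuadraticMap.polarBilin Q).Nondegenerate) (c : F) (hc : c ≠ 0) : ∃ g : (Fin n → F) ≃ₗ[F] (Fin n → F), ∀ v, Q (g v) = c * Q v := by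
  classical
  by_cases h2 : (2 : F) = 0
  · have : CharP F 2 := (CharP.charP_iff_prime_eq_zero Nat.prime_two).2 (by exact_mod_cast h2)
    obtain ⟨s, rfl⟩ := FiniteField.isSquare_of_char_two (ringChar.eq F 2) c
    have hs : s ≠ 0 := by rintro rfl; simp at hc
    exact ⟨LinearEquiv.smulOfUnit (Units.mk0 s hs), fun v => by
      show Q (s • v) = _
      rw [QuadraticMap.map_smul, smul_eq_mul]⟩
  · let b := Pi.basisFun F (Fin n)
    have n₁ := Cfsg.Agent.Classical.gramDet_ne_zero hQ b
    have hpol : QuadraticMap.polarBilin (c • Q) = c • QuadraticMap.polarBilin Q := by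
      ext u v; simp [QuadraticMap.polar, mul_sub]
    have hnd : (QuadraticMap.polarBilin (c • Q)).Nondegenerate := by
      refine (LinearMap.BilinForm.nondegenerate_iff_det_ne_zero b).2 ?_
      show Cfsg.Agent.Classical.gramDet _ b ≠ 0
      rw [hpol, Cfsg.Agent.Classical.gramDet_smul]
      exact mul_ne_zero (pow_ne_zero _ hc) n₁
    obtain ⟨g, hg⟩ := (Cfsg.Agent.Classical.isometric_iff_disc h2 hnd hQ b b rfl).2 (by
      rw [hpol, Cfsg.Agent.Classical.gramDet_smul, Fintype.card_fin]
      obtain ⟨k, rfl⟩ := he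
      exact ⟨c ^ k * Cfsg.Agent.Classical.gramDet (QuadraticMap.polarBilin Q) b, by ring⟩)
    exact ⟨g, fun v => by rw [hg]; rfl⟩

end Cfsg.Agent.S2624
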