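import Cfsg.Statements.S2625
import Mathlib
import Cfsg.Agent.Lib.Classical.QuadClass


set_option autoImplicit false
open Cfsg

namespace Cfsg.Agent.S2625


/-- For a quadratic form Q on F^n with non-degenerate polar form, F finite and n odd (so |F| is odd), the multiplier of any similarity is a square: if g is an invertible linear map with Q(g v) = c·Q(v) for all v then c is a square. -/
theorem result {F : Type*} [Field F] [Fintype F] {n : ℕ} (hn : Odd n) (Q : QuadraticForm F (Fin n → F)) (hQ : (QuadraticMap.polarBilin Q).Nondegenerate) (g : (Fin n → F) ≃ₗ[F] (Fin n → F)) (c : F) (hg : ∀ v, Q (g v) = c * Q v) : IsSquare c := by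
  classical
  let b := Pi.basisFun F (Fin n)
  have hd := Cfsg.Agent.Classical.gramDet_ne_zero hQ b
  have hpol : QuadraticMap.polarBilin (c • Q) = c • QuadraticMap.polarBilin Q := by
    ext u v; simp [QuadraticMap.polar, mul_sub]
  have h := Cfsg.Agent.Classical.gramDet_isometry (Q := c • Q) (Q' := Q) g
    (fun v => by rw [hg]; rfl) b
  obtain ⟨t, ht, htd⟩ := Cfsg.Agent.Classical.gramDet_change (QuadraticMap.polarBilin Q) b (b.map g)
  rw [htd, hpol, Cfsg.Agent.Classical.gramDet_smul, Fintype.card_fin] at h
  have h' : t ^ 2 = c ^ n := mul_right_cancel₀ hd h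
  obtain ⟨k, rfl⟩ := hn
  by_cases hc : c = 0
  · exact hc ▸ IsSquare.zero
  exact ⟨t / c ^ k, by field_simp; linear_combination -h'⟩

end Cfsg.Agent.S2625
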