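import Cfsg.Statements.S2627
import Cfsg.Agent.Lib.Classical.OrthGenApps

set_option autoImplicit false
open Cfsg Cfsg.Agent.Classical Cfsg.Agent.Classical.OrthAut

namespace Cfsg.Agent.S2627

/-- For an orthogonal direct sum Q = Q₁ ⊕ Q₂ of quadratic forms with non-degenerate polar forms over a finite field, an isometry g₁ of Q₁ extended by the identity on the second summand lies in Ω(Q) (the commutator subgroup of the orthogonal group of Q) if and only if g₁ lies in Ω(Q₁). (Excluded: the field of two elements when the first summand or the whole space has dimension 4, where the commutator subgroup of O⁺₄(2) is smaller than the group usually called Ω.) -/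
theorem result {F : Type*} [Field F] [Fintype F] {k l : ℕ} (h : Fintype.card F ≠ 2 ∨ (k ≠ 4 ∧ k + l ≠ 4)) (Q₁ : QuadraticForm F (Fin k → F)) (Q₂ : QuadraticForm F (Fin l → F)) (h₁ : (QuadraticMap.polarBilin Q₁).Nondegenerate) (h₂ : (QuadraticMap.polarBilin Q₂).Nondegenerate) (g₁ : ↥(Cfsg.isometryGroup F ⇑Q₁)) : (∃ g : ↥(Cfsg.isometryGroup F (fun v : Fin k ⊕ Fin l → F => Q₁ (v ∘ Sum.inl) + Q₂ (v ∘ Sum.inr))), g ∈ Cfsg.Omega F (fun v : Fin k ⊕ Fin l → F => Q₁ (v ∘ Sum.inl) + Q₂ (v ∘ Sum.inr)) ∧ ((g : Matrix.GeneralLinearGroup (Fin k ⊕ Fin l) F) : Matrix (Fin k ⊕ Fin l) (Fin k ⊕ Fin l) F) = Matrix.fromBlocks ((g₁ : Matrix.GeneralLinearGroup (Fin k) F) : Matrix (Fin k) (Fin k) F) 0 0 1) ↔ g₁ ∈ Cfsg.Omega F ⇑Q₁ := by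
  have hk : GenQ F (Fin k) := genQ_of_card (h.imp_right fun h => by simpa using h.1)
  have hkl : GenQ F (Fin k ⊕ Fin l) := genQ_of_card (h.imp_right fun h => by simpa using h.2)
  have hb := nondegenerate_sumQ h₁ h₂
  set g' : isometryGroup F ⇑(sumQ Q₁ Q₂) := embL Q₁ Q₂ g₁
  have key : invHom hb hkl g' = invHom h₁ hk g₁ := by
    have : (invHom hb hkl).comp (embL Q₁ Q₂) = invHom h₁ hk :=
      MonoidHom.eq_of_eqOn_dense (reflGroup_eq_top_gen h₁ hk) fun x hx => by
        obtain ⟨v, hv, rfl⟩ := hx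
        show invHom hb hkl (embL Q₁ Q₂ (refl hv)) = _
        rw [embL_refl, invHom_refl, invHom_refl, quad_elim_left]
    exact DFunLike.congr_fun this g₁
  have hiff : g' ∈ Omega F ⇑(sumQ Q₁ Q₂) ↔ g₁ ∈ Omega F ⇑Q₁ := by
    rw [omega_eq_ker hb hkl, omega_eq_ker h₁ hk, MonoidHom.mem_ker, MonoidHom.mem_ker, key]
  constructor
  · rintro ⟨g, hg, hgv⟩
    refine hiff.1 ?_
    have e : g = g' := Subtype.ext (Units.ext hgv)
    exact e ▸ hg
  · exact fun hg => ⟨g', hiff.2 hg, rfl⟩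

end Cfsg.Agent.S2627
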