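import Cfsg.Statements.S2628
import Cfsg.Agent.Lib.Classical.OrthGenApps

set_option autoImplicit false
open Cfsg Cfsg.Agent.Classical Cfsg.Agent.Classical.OrthAut

namespace Cfsg.Agent.S2628

/-- For the orthogonal direct sum Q ⊕ Q of two copies of a quadratic form Q with non-degenerate polar form on F^k (F finite), every isometry g of Q acting diagonally, diag(g, g), lies in Ω(Q ⊕ Q), the commutator subgroup of the orthogonal group of Q ⊕ Q. (Excluded: k = 2 over the field of two elements, where Q ⊕ Q is the hyperbolic 4-space whose orthogonal group's commutator subgroup is smaller than the group usually called Ω.) -/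
theorem result {F : Type*} [Field F] [Fintype F] {k : ℕ} (h : Fintype.card F ≠ 2 ∨ k ≠ 2) (Q : QuadraticForm F (Fin k → F)) (hQ : (QuadraticMap.polarBilin Q).Nondegenerate) (g : ↥(Cfsg.isometryGroup F ⇑Q)) : ∃ x : ↥(Cfsg.isometryGroup F (fun v : Fin k ⊕ Fin k → F => Q (v ∘ Sum.inl) + Q (v ∘ Sum.inr))), x ∈ Cfsg.Omega F (fun v : Fin k ⊕ Fin k → F => Q (v ∘ Sum.inl) + Q (v ∘ Sum.inr)) ∧ ((x : Matrix.GeneralLinearGroup (Fin k ⊕ Fin k) F) : Matrix (Fin k ⊕ Fin k) (Fin k ⊕ Fin k) F) = Matrix.fromBlocks ((g : Matrix.GeneralLinearGroup (Fin k) F) : Matrix (Fin k) (Fin k) F) 0 0 ((g : Matrix.GeneralLinearGroup (Fin k) F) : Matrix (Fin k) (Fin k) F) := by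
  have hb := nondegenerate_sumQ hQ hQ
  have hG : GenQ F (Fin k ⊕ Fin k) := genQ_of_card (h.imp_right fun h => by
    simp only [Fintype.card_sum, Fintype.card_fin]; omega)
  set Z := sumQ Q Q
  let w : Matrix (Fin k ⊕ Fin k) (Fin k ⊕ Fin k) F := Matrix.fromBlocks 0 1 1 0
  have hww : w * w = 1 := by simp [w, Matrix.fromBlocks_multiply]
  have hwq : ∀ u, Z (w.mulVec u) = Z u := fun u => by
    simp only [w, Z, sumQ_apply, Matrix.fromBlocks_mulVec]
    simp [add_comm]
  let s : isometryGroup F ⇑Z := mkIsometry w (fun h0 => by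
    have := congrArg Matrix.det hww
    rw [Matrix.det_mul, h0, Matrix.det_one] at this
    simp at this) hwq
  have hs : s * embL Q Q g = embR Q Q g * s := by
    refine ogVal_ext ?_
    rw [ogVal_mul, ogVal_mul, embL_val, embR_val, show ogVal s = w from rfl]
    simp [w, Matrix.fromBlocks_multiply]
  have hinv : invHom hb hG (embR Q Q g) = invHom hb hG (embL Q Q g) := by
    have := congrArg (invHom hb hG) hs
    rw [map_mul, map_mul, mul_comm] at this
    exact (mul_right_cancel this).symm
  refine ⟨embL Q Q g * embR Q Q g, ?_, ?_⟩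
  · show embL Q Q g * embR Q Q g ∈ Omega F ⇑Z
    rw [omega_eq_ker hb hG, MonoidHom.mem_ker, map_mul, hinv]
    exact Prod.ext (Int.units_mul_self _) (Int.units_mul_self _)
  · show ogVal (embL Q Q g * embR Q Q g) = _
    rw [ogVal_mul, embL_val, embR_val, Matrix.fromBlocks_multiply]
    simp [ogVal]

end Cfsg.Agent.S2628
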