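import Cfsg.Statements.S2636
import Cfsg.Agent.Lib.Classical.PSLFieldAut

open Cfsg.Agent.Classical.Descent

set_option autoImplicit false
open Cfsg

namespace Cfsg.Agent.S2636

/-- Centraliser of a field automorphism in PGL_n: let F be the field with q = q₀^r elements, σ a field automorphism of F of prime order r (so its fixed field has q₀ elements) and n ≥ 1. The invertible matrices g whose entrywise image under σ is a scalar multiple of g — those whose coset modulo scalars is fixed by σ — number (q − 1)/(q₀ − 1) · |GL_n(q₀)|; equivalently the centraliser in PGL_n(q) of the induced automorphism has the order of PGL_n(q₀). -/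
theorem result {F : Type*} [Field F] [Fintype F] {q₀ r n : ℕ} (hr : r.Prime) (hn : 1 ≤ n) (hF : Fintype.card F = q₀ ^ r) (σ : F ≃+* F) (hσ : orderOf σ = r) : Nat.card {g : GL (Fin n) F // ∃ c : F, c ≠ 0 ∧ (g : Matrix (Fin n) (Fin n) F).map σ = c • (g : Matrix (Fin n) (Fin n) F)} = (q₀ ^ r - 1) / (q₀ - 1) * ∏ i : Fin n, (q₀ ^ n - q₀ ^ (i : ℕ)) := by
  classical
  obtain ⟨p, hp⟩ := CharP.exists F
  haveI : Fact p.Prime := ⟨(CharP.char_is_prime_or_zero F p).resolve_right
    (CharP.char_ne_zero_of_finite F p)⟩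
  obtain ⟨f, -, hf⟩ := FiniteField.card F p
  obtain ⟨k, -, rfl⟩ : ∃ k ≤ (f : ℕ), q₀ = p ^ k :=
    (Nat.dvd_prime_pow Fact.out).1 (by rw [← hf, hF]; exact dvd_pow_self _ hr.ne_zero)
  have hkr : (f : ℕ) = k * r := by
    rw [hf, ← pow_mul] at hF
    exact Nat.pow_right_injective (Fact.out : p.Prime).two_le hF
  have hk : (f : ℕ) / r = k := by rw [hkr, Nat.mul_div_cancel _ hr.pos]
  have hk0 : k ≠ 0 := fun h => by simp [h] at hkr
  haveI : Nonempty (Fin n) := ⟨⟨0, hn⟩⟩
  haveI : Fintype (GaloisField p k) := Fintype.ofFinite _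
  have hc0 : Fintype.card (GaloisField p k) = p ^ k := by
    rw [← Nat.card_eq_fintype_card, GaloisField.card p k hk0]
  obtain ⟨-, hcard, j, hj⟩ := Cfsg.Agent.Classical.PSLAut.exists_fixed_embedding (p := p) hf hσ
    (GaloisField p k) (by rw [hc0, hk])
  let Ψ : Fˣ × GL (Fin n) (GaloisField p k) →* GL (Fin n) F := MonoidHom.mk'
    (fun x => Matrix.GeneralLinearGroup.scalar (Fin n) x.1 * Matrix.GeneralLinearGroup.map j x.2)
    fun x y => by
      show Matrix.GeneralLinearGroup.scalar (Fin n) (x.1 * y.1) *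
        Matrix.GeneralLinearGroup.map j (x.2 * y.2) = _
      rw [map_mul, map_mul]
      simp only [mul_assoc]
      congr 1
      rw [← mul_assoc (Matrix.GeneralLinearGroup.map j x.2), ← Cfsg.Agent.Classical.Descent.scalar_comm,
        mul_assoc]
  have hfix : ∀ g : GL (Fin n) (GaloisField p k), gmap σ (Matrix.GeneralLinearGroup.map j g) =
      Matrix.GeneralLinearGroup.map j g := fun g => by
    ext a b
    exact (hj _).2 ⟨_, rfl⟩
  have hset : Nat.card {g : GL (Fin n) F // ∃ c : F, c ≠ 0 ∧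
      (g : Matrix (Fin n) (Fin n) F).map σ = c • (g : Matrix (Fin n) (Fin n) F)} = Nat.card Ψ.range := by
    refine Nat.card_congr (Equiv.subtypeEquivRight fun g => ?_)
    constructor
    · rintro ⟨c, hc0, hc⟩
      obtain ⟨μ, m, hm, rfl⟩ := exists_fixed_of_map_eq_smul σ g (c := Units.mk0 c hc0) (Units.ext (by
        rw [Units.val_mul, Matrix.GeneralLinearGroup.coe_scalar, Matrix.scalar_apply,
          ← Matrix.smul_eq_diagonal_mul]
        exact hc))
      obtain ⟨m₀, rfl⟩ := Cfsg.Agent.Classical.PSLAut.mem_of_gmap_fixed hj hm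
      exact ⟨(μ, m₀), rfl⟩
    · rintro ⟨⟨μ, m⟩, rfl⟩
      refine ⟨σ (μ : F) / μ, div_ne_zero (by simp) μ.ne_zero, ?_⟩
      ext a b
      have h1 := congrFun (congrFun (congrArg
        (fun u : GL (Fin n) F => (u : Matrix (Fin n) (Fin n) F)) (hfix m)) a) b
      simp [Ψ, ← Matrix.smul_eq_diagonal_mul] at h1 ⊢
      rw [h1, ← mul_assoc, div_mul_cancel₀ _ μ.ne_zero]
  have hdom := Ψ.ker.card_eq_card_quotient_mul_card_subgroup
  rw [Nat.card_congr (QuotientGroup.quotientKerEquivRange Ψ).toEquiv, Nat.card_prod, ← hset] at hdom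
  let Λ : (GaloisField p k)ˣ →* Ψ.ker := (MonoidHom.prod (Units.map j.toMonoidHom)
    ((Matrix.GeneralLinearGroup.scalar (Fin n)).comp (MonoidHom.id _)⁻¹)).codRestrict _ fun c => by
      have hs : ∀ d : (GaloisField p k)ˣ, Matrix.GeneralLinearGroup.map j
          (Matrix.GeneralLinearGroup.scalar (Fin n) d) =
          Matrix.GeneralLinearGroup.scalar (Fin n) (Units.map j.toMonoidHom d) := fun d => by
        ext a b
        by_cases hab : a = b <;> simp [hab]
      refine MonoidHom.mem_ker.2 ?_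
      show Matrix.GeneralLinearGroup.scalar (Fin n) (Units.map j.toMonoidHom c) *
        Matrix.GeneralLinearGroup.map j (Matrix.GeneralLinearGroup.scalar (Fin n) c⁻¹) = 1
      rw [hs, ← map_mul, map_inv, mul_inv_cancel, map_one]
  have hΛ : Function.Bijective Λ := by
    constructor
    · intro a b hab
      exact Units.ext (j.injective (congrArg (fun x : Ψ.ker => ((x.1.1 : Fˣ) : F)) hab))
    · rintro ⟨⟨μ, m⟩, hm⟩
      have he := congrArg (fun u : GL (Fin n) F => (u : Matrix (Fin n) (Fin n) F)) (MonoidHom.mem_ker.1 hm)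
      simp [Ψ, ← Matrix.smul_eq_diagonal_mul] at he
      set o : Fin n := ⟨0, hn⟩
      have h00 := congrFun (congrFun he o) o
      simp at h00
      set m0 := (m : Matrix (Fin n) (Fin n) (GaloisField p k)) o o
      have hm0 : m0 ≠ 0 := fun h => by simp [h] at h00
      refine ⟨(Units.mk0 m0 hm0)⁻¹, Subtype.ext (Prod.ext (Units.ext ?_) ?_)⟩
      · show j (((Units.mk0 m0 hm0)⁻¹ : (GaloisField p k)ˣ) : GaloisField p k) = μ
        rw [Units.val_inv_eq_inv_val, Units.val_mk0, map_inv₀]
        exact inv_eq_of_mul_eq_one_left h00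
      · show Matrix.GeneralLinearGroup.scalar (Fin n) ((Units.mk0 m0 hm0)⁻¹)⁻¹ = m
        rw [inv_inv]
        refine Units.ext (Matrix.ext fun a b => j.injective (mul_left_cancel₀ μ.ne_zero ?_))
        have hab := congrFun (congrFun he a) b
        simp [Matrix.one_apply] at hab
        rw [hab]
        by_cases h : a = b <;> simp [h, h00]
  rw [← Nat.card_eq_of_bijective Λ hΛ, Nat.card_units, Nat.card_units, Matrix.card_GL_field, Nat.card_eq_fintype_card,
    Nat.card_eq_fintype_card, hc0, ← Nat.card_eq_fintype_card (α := {g : GL (Fin n) F // _})] at hdom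
  have h2 : 2 ≤ p ^ k := le_trans (Fact.out : p.Prime).two_le (Nat.le_self_pow hk0 p)
  have hdvd : p ^ k - 1 ∣ Fintype.card F - 1 := by
    rw [hF]; exact Nat.sub_one_dvd_pow_sub_one (p ^ k) r
  rw [← Nat.mul_div_cancel (Nat.card {g : GL (Fin n) F // ∃ c : F, c ≠ 0 ∧
      (g : Matrix (Fin n) (Fin n) F).map σ = c • (g : Matrix (Fin n) (Fin n) F)}) (show 0 < p ^ k - 1 by omega),
    show p ^ k - 1 = Nat.card (GaloisField p k) - 1 by rw [GaloisField.card p k hk0], ← hdom,
    mul_comm (Fintype.card F - 1), GaloisField.card p k hk0, Nat.mul_div_assoc _ hdvd, mul_comm, hF]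

end Cfsg.Agent.S2636
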