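import Cfsg.Statements.S2639
import Cfsg.Agent.Lib.Classical.QuadRes
-- import your own Cfsg.Agent.* helpers here

set_option autoImplicit false
open Cfsg

namespace Cfsg.Agent.S2639
open Matrix Cfsg.Agent.Classical.QuadRes

/-- The unitary group embeds in the symplectic group of twice the dimension over the subfield: for a field K with q² elements and a field F with q elements (isomorphic to the subfield of K of order q), there is an injective homomorphism GU_m(q) → Sp_2m(F). -/
theorem result {K F : Type*} [Field K] [Fintype K] [Field F] [Fintype F] {q : ℕ} (hK : Fintype.card K = q ^ 2) (hF : Fintype.card F = q) (m : ℕ) : ∃ φ : ↥(Cfsg.GU m K q) →* ↥(Matrix.symplecticGroup (Fin m) F), Function.Injective φ := by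
  classical
  obtain ⟨D, hq⟩ := exists_quad hK hF
  let e : Fin m × Fin 2 ≃ Fin m ⊕ Fin m :=
    (Equiv.prodComm _ _).trans ((Equiv.prodCongr finTwoEquiv (Equiv.refl _)).trans (Equiv.boolProdEquivSum _))
  let E : Matrix (Fin m × Fin 2) (Fin m × Fin 2) F →+* Matrix (Fin m ⊕ Fin m) (Fin m ⊕ Fin m) F := reindexHom e
  have hEt : ∀ X, (E X)ᵀ = E Xᵀ := fun X => rfl
  set G := Quad.blockConst (1 : Matrix (Fin m) (Fin m) F) (!![(0 : F), -1; 1, 0]) with hG
  have hJ : E G = Matrix.J (Fin m) F := by
    ext x y
    show G (e.symm x) (e.symm y) = _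
    rcases x with i | i <;> rcases y with k | k <;>
      simp [e, hG, Quad.blockConst, Matrix.J, Matrix.fromBlocks, finTwoEquiv, Matrix.one_apply] <;> split <;> simp
  have hmem : ∀ g : GU m K q, E (D.res _ ((g : GL (Fin m) K) : Matrix (Fin m) (Fin m) K)) ∈ Matrix.symplecticGroup (Fin m) F := by
    intro g
    set M := ((g : GL (Fin m) K) : Matrix (Fin m) (Fin m) K)
    have h1 : Mᵀ * M.map (· ^ q) = 1 := by
      ext i j
      have h := g.2 (Pi.single i 1) (Pi.single j 1)
      change hermForm m K q (M *ᵥ _) (M *ᵥ _) = hermForm m K q _ _ at h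
      simp [hermForm, Matrix.mulVec_single] at h
      rw [Matrix.mul_apply]
      refine h.trans ?_
      have hq0 : q ≠ 0 := by rintro rfl; simp at hK
      simp [Matrix.one_apply, Pi.single_apply, zero_pow hq0, eq_comm]
    have h2 := mul_eq_one_comm.mp h1
    rw [SymplecticGroup.mem_iff, ← hJ, hEt, ← map_mul, ← map_mul]
    congr 1
    refine Quad.res_congr D (fun k => k ^ D.q) _ D.bar_adjoint M 1
      (fun k c => by
        show (D.φ c * k) ^ D.q = _
        rw [mul_pow, hq, ← map_pow, ← hF, FiniteField.pow_card]) (fun i j => ?_)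
    have h := congrFun (congrFun h2 i) j
    rw [Matrix.mul_apply] at h
    have hq0 : q ≠ 0 := by rintro rfl; simp at hK
    simp only [Matrix.one_apply, apply_ite D.φ, map_one, map_zero, hq]
    rw [show (if i = j then (1 : K) else 0) = (1 : Matrix (Fin m) (Fin m) K) i j from Matrix.one_apply.symm, ← h]
    refine Finset.sum_congr rfl fun x _ => ?_
    rw [Finset.sum_eq_single x]
    · simp [Matrix.map_apply, mul_comm]
    · intro y _ hy; simp [Ne.symm hy, zero_pow hq0]
    · simp
  refine ⟨{ toFun := fun g => ⟨_, hmem g⟩, map_one' := ?_, map_mul' := ?_ }, fun M N h => ?_⟩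
  · refine Subtype.ext ?_
    show E (D.res _ ((1 : GL (Fin m) K) : Matrix (Fin m) (Fin m) K)) = 1
    rw [Units.val_one, map_one, map_one]
  · intro g k
    refine Subtype.ext ?_
    show E (D.res _ (((g : GL (Fin m) K) * (k : GL (Fin m) K) : GL (Fin m) K) : Matrix (Fin m) (Fin m) K)) = _
    rw [Units.val_mul, map_mul, map_mul]
    rfl
  · have h1 : E (D.res _ ((M : GL (Fin m) K) : Matrix (Fin m) (Fin m) K)) =
      E (D.res _ ((N : GL (Fin m) K) : Matrix (Fin m) (Fin m) K)) := congrArg Subtype.val h
    exact Subtype.ext (Units.ext (D.res_injective _ ((Matrix.reindexAlgEquiv F F e).injective h1)))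

end Cfsg.Agent.S2639
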