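import Cfsg.Statements.S2642
import Cfsg.Agent.Lib.Classical.GLUnipotentTypes
import Cfsg.Agent.Lib.Classical.UnitaryConjugacy
-- import your own Cfsg.Agent.* helpers here

set_option autoImplicit false
open Cfsg Cfsg.Agent

namespace Cfsg.Agent.S2642

open Cfsg.Agent.Classical
open scoped Matrix

theorem rank_map_qFrob {K : Type*} [Field K] [Fintype K] {q n : ℕ} (hK : Fintype.card K = q ^ 2)
    (M : Matrix (Fin n) (Fin n) K) : (M.map (qFrob hK)).rank = M.rank := by
  set σ := qFrob hK
  have hinv : ∀ c, σ (σ c) = c := fun c => qFrob_qFrob hK c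
  have hmv : ∀ (N : Matrix (Fin n) (Fin n) K) x, (N.map σ).mulVecLin (fun i => σ (x i)) = fun i => σ (N.mulVecLin x i) :=
    fun N x => funext fun i => (RingHom.map_mulVec σ N x i).symm
  let e : LinearMap.range M.mulVecLin ≃ LinearMap.range (M.map σ).mulVecLin :=
    { toFun := fun y => ⟨fun i => σ (y.1 i), by
        obtain ⟨x, hx⟩ := y.2
        exact ⟨fun i => σ (x i), by rw [hmv, hx]⟩⟩
      invFun := fun y => ⟨fun i => σ (y.1 i), by
        obtain ⟨x, hx⟩ := y.2
        refine ⟨fun i => σ (x i), ?_⟩
        have h := hmv M (fun i => σ (x i))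
        simp only [hinv] at h
        rw [hx] at h
        rw [h]
        simp only [hinv]⟩
      left_inv := fun y => Subtype.ext (funext fun i => hinv _)
      right_inv := fun y => Subtype.ext (funext fun i => hinv _) }
  have h := Nat.card_congr e
  rw [Module.natCard_eq_pow_finrank (K := K) (V := LinearMap.range M.mulVecLin),
    Module.natCard_eq_pow_finrank (K := K) (V := LinearMap.range (M.map σ).mulVecLin)] at h
  exact (Nat.pow_right_injective (show 2 ≤ Nat.card K by rw [Nat.card_eq_fintype_card]; exact Fintype.one_lt_card) h).symm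


/-- Number of conjugacy classes of elements of order p in the general unitary group GU_n(q), q a power of p: every unipotent Jordan type occurs and the classes correspond to the partitions of n with all parts at most p other than the all-ones partition, exactly as in GL_n; so there are (number of partitions of n with parts ≤ p) − 1 classes. -/
theorem result {K : Type*} [Field K] [Fintype K] {p q n : ℕ} [Fact p.Prime] [CharP K p] (hK : Fintype.card K = q ^ 2) : Nat.card {C : ConjClasses ↥(Cfsg.GU n K q) // ∃ g : ↥(Cfsg.GU n K q), ConjClasses.mk g = C ∧ orderOf g = p} = (Finset.univ.filter (fun μ : Nat.Partition n => ∀ a ∈ μ.parts, a ≤ p)).card - 1 := by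
  classical
  refine GLUnipotentTypes.card_classes (GU n K q).subtype Subtype.coe_injective
    (fun a b h => UnitaryConjugacy.isConj_of_isConj hK a b h) fun g hg => ?_
  obtain ⟨h0, -⟩ := (GLUnipotentTypes.orderOf_eq_iff g).1 hg
  set A : Matrix (Fin n) (Fin n) K := (g : Matrix (Fin n) (Fin n) K) with hA
  obtain ⟨S, hS⟩ := UnitaryConjugacy.st_unit hK (x := A) g.isUnit
  set σ := qFrob hK
  set T : Matrix (Fin n) (Fin n) K := ((A - 1).map σ)ᵀ
  have hST : (S : Matrix (Fin n) (Fin n) K) = 1 + T := by
    rw [hS, show T = UnitaryConjugacy.st hK (A - 1) from rfl]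
    conv_lhs => rw [← add_sub_cancel 1 A, UnitaryConjugacy.st_add, UnitaryConjugacy.st_one]
  set U : Matrix (Fin n) (Fin n) K := ((S⁻¹ : (Matrix (Fin n) (Fin n) K)ˣ) : Matrix (Fin n) (Fin n) K)
  have hU : U - 1 = -(U * T) := by
    have e : U * (S : Matrix (Fin n) (Fin n) K) = 1 := Units.inv_mul S
    rw [hST, mul_add, mul_one] at e
    rw [eq_neg_iff_add_eq_zero, sub_add_eq_add_sub, e, sub_self]
  have hc : Commute U T := by
    refine (Commute.units_inv_left ?_)
    rw [hST]
    exact (Commute.one_left T).add_left (Commute.refl T)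
  have hTn : T ^ p = 0 := by
    show (((A - 1).map σ)ᵀ) ^ p = 0
    rw [← Matrix.transpose_pow, ← RingHom.mapMatrix_apply, ← map_pow, h0, map_zero, Matrix.transpose_zero]
  have hrank : ∀ l, ((A - 1) ^ l).rank = ((U - 1) ^ l).rank := fun l => by
    rw [hU, neg_pow, hc.mul_pow, Matrix.rank_mul_eq_right_of_isUnit_det _ _ ?_,
      Matrix.rank_mul_eq_right_of_isUnit_det _ _ ?_]
    · show _ = ((((A - 1).map σ)ᵀ) ^ l).rank
      rw [← Matrix.transpose_pow, Matrix.rank_transpose, ← RingHom.mapMatrix_apply, ← map_pow, RingHom.mapMatrix_apply]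
      exact (rank_map_qFrob hK _).symm
    · exact (Matrix.isUnit_iff_isUnit_det _).1 ((S⁻¹).isUnit.pow l)
    · exact (Matrix.isUnit_iff_isUnit_det _).1 ((isUnit_one.neg).pow l)
  have hn1 : IsNilpotent (A - 1) := ⟨p, h0⟩
  have hn2 : IsNilpotent (U - 1) := ⟨p, by rw [hU, neg_pow, hc.mul_pow, hTn, mul_zero, mul_zero]⟩
  obtain ⟨P, hP⟩ := GLUnipotentTypes.exists_similar hn1 hn2 (GLUnipotentTypes.mparts_eq_of_rank hn1 hn2 hrank)
  rw [mul_sub, sub_mul, mul_one, one_mul, sub_left_inj] at hP
  refine UnitaryConjugacy.exists_similar_mem hK g P ?_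
  show UnitaryConjugacy.st hK A * (P : Matrix (Fin n) (Fin n) K) * A = P
  rw [mul_assoc, hP, ← hS, ← mul_assoc, Units.mul_inv, one_mul]

end Cfsg.Agent.S2642
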