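import Cfsg.Statements.S2644
import Cfsg.Agent.Lib.Classical.UnitRootGroups
import Cfsg.Agent.Lib.Classical.Transvection
-- import your own Cfsg.Agent.* helpers here

set_option autoImplicit false
open Cfsg

namespace Cfsg.Agent.S2644

open Matrix Cfsg.Agent.Classical

theorem exists_param {K : Type*} [Field K] [Fintype K] {q n : ℕ} (hK : Fintype.card K = q ^ 2)
    (s : ↥(Cfsg.SU n K q))
    (hs : Cfsg.IsTransvection (((s : GL (Fin n) K) : Matrix (Fin n) (Fin n) K))) :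
    ∃ (v : Fin n → K) (c : K), v ≠ 0 ∧ Cfsg.hermForm n K q v v = 0 ∧ c ≠ 0 ∧ c + qFrob hK c = 0 ∧
      suVal s = PSUAut.eMat q v 0 c := by
  classical
  obtain ⟨hrk, hsq⟩ := hs
  change (suVal s - 1).rank = 1 at hrk
  change (suVal s - 1) * (suVal s - 1) = 0 at hsq
  obtain ⟨v, φ, hv, hφ, hM⟩ := exists_vecMulVec_of_rank_eq_one hrk
  rw [hM] at hsq
  have hφv := dotProduct_eq_zero_of_vecMulVec_sq hv hφ hsq
  have hx : ∀ x, suVal s *ᵥ x = x + (φ ⬝ᵥ x) • v := by
    intro x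
    have h : suVal s = (suVal s - 1) + 1 := by rw [sub_add_cancel]
    rw [h, hM, Matrix.add_mulVec, Matrix.one_mulVec, Matrix.vecMulVec_mulVec, op_smul_eq_smul, add_comm]
  have key : ∀ x y, Cfsg.hermForm n K q x v * qFrob hK (φ ⬝ᵥ y) + (φ ⬝ᵥ x) * Cfsg.hermForm n K q v y +
      (φ ⬝ᵥ x) * qFrob hK (φ ⬝ᵥ y) * Cfsg.hermForm n K q v v = 0 := by
    intro x y
    have h := PSUAut.su_form s x y
    rw [hx, hx, PSUAut.h_add_left, PSUAut.h_add_right hK, PSUAut.h_add_right hK, PSUAut.h_smul_left, PSUAut.h_smul_left,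
      PSUAut.h_smul_right hK, PSUAut.h_smul_right hK] at h
    linear_combination h
  obtain ⟨x₀, hx₀⟩ : ∃ x₀, φ ⬝ᵥ x₀ ≠ 0 := by
    obtain ⟨j, hj⟩ := Function.ne_iff.1 hφ
    exact ⟨Pi.single j 1, by simpa using hj⟩
  have hvv : Cfsg.hermForm n K q v v = 0 := by
    have h := key x₀ v
    rw [hφv, map_zero, mul_zero, mul_zero, zero_mul, zero_add, add_zero] at h
    exact (mul_eq_zero.1 h).resolve_left hx₀
  obtain ⟨y, hy⟩ := PSUAut.exists_h_eq hK hv 1
  have hyv : Cfsg.hermForm n K q y v = 1 := by rw [← PSUAut.cj_h hK, hy, map_one]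
  set c := φ ⬝ᵥ y
  have hc : c + qFrob hK c = 0 := by
    have h := key y y
    rw [hvv, hy, hyv] at h
    linear_combination h
  have hfun : ∀ x, φ ⬝ᵥ x = c * Cfsg.hermForm n K q x v := by
    intro x
    have h := key x y
    rw [hvv, hy] at h
    linear_combination h - (Cfsg.hermForm n K q x v) * hc
  refine ⟨v, c, hv, hvv, fun h0 => hx₀ (by rw [hfun, h0, zero_mul]), hc, Matrix.ext_iff_mulVec.2 fun x => ?_⟩
  rw [hx, PSUAut.tv_apply' hK, hfun]

/-- In the special unitary group SU_n(q) with n ≥ 3 (isometries of Σ u_i v_i^q of determinant one over the field with q² elements), any two transvections (elements t with t − 1 of rank one and square zero) are conjugate. -/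
theorem result {K : Type*} [Field K] [Fintype K] {q n : ℕ} (hK : Fintype.card K = q ^ 2) (hn : 3 ≤ n) (s t : ↥(Cfsg.SU n K q)) (hs : Cfsg.IsTransvection (((s : GL (Fin n) K) : Matrix (Fin n) (Fin n) K))) (ht : Cfsg.IsTransvection (((t : GL (Fin n) K) : Matrix (Fin n) (Fin n) K))) : IsConj s t := by
  classical
  obtain ⟨v, c, hv, hvv, hc0, hc, hvs⟩ := exists_param hK s hs
  obtain ⟨w, d, hw, hww, hd0, hd, hwt⟩ := exists_param hK t ht
  obtain ⟨a, ha⟩ : ∃ a, a * qFrob hK a = d / c := by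
    refine PSUAut.exists_norm hK ?_
    rw [map_div₀, eq_neg_of_add_eq_zero_right hd, eq_neg_of_add_eq_zero_right hc, neg_div_neg_eq]
  have ha0 : a ≠ 0 := fun h => div_ne_zero hd0 hc0 (by rw [← ha, h, zero_mul])
  have haw : a • w ≠ 0 := smul_ne_zero ha0 hw
  have haww : Cfsg.hermForm n K q (a • w) (a • w) = 0 := by
    rw [PSUAut.h_smul_left, PSUAut.h_smul_right hK, hww, mul_zero, mul_zero]
  obtain ⟨g, hg⟩ := PSUAut.su_transitive hK hn hv hvv haw haww
  refine isConj_iff.2 ⟨g, suVal_ext ?_⟩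
  rw [suVal_mul, suVal_mul, hvs, PSUAut.eMat_conj hK, Matrix.mulVec_zero, hg, PSUAut.tv_smul hK, ha,
    div_mul_cancel₀ d hc0, hwt]

end Cfsg.Agent.S2644
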