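import Cfsg.Statements.S2645
import Cfsg.Agent.Lib.Classical.SympPrimeOrderClasses
-- import your own Cfsg.Agent.* helpers here

set_option autoImplicit false
open Cfsg Cfsg.Agent

namespace Cfsg.Agent.S2645

/-- Number of conjugacy classes of elements of odd prime order r, r different from the characteristic, in the symplectic group Sp_2m(q): let i be the multiplicative order of q modulo r and t = (r − 1)/i. If i is odd the eigenvalue orbits pair off (Λ ≠ Λ⁻¹) and the classes correspond to the non-zero (t/2)-tuples (a_j) with 2i Σ a_j ≤ 2m, giving C(⌊m/i⌋ + t/2, t/2) − 1 classes; if i is even (Λ = Λ⁻¹) they correspond to the non-zero t-tuples with i Σ a_j ≤ 2m, giving C(⌊2m/i⌋ + t, t) − 1 classes. -/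
theorem result {F : Type*} [Field F] [Fintype F] {p q : ℕ} [Fact p.Prime] [CharP F p] (hF : Fintype.card F = q) (m r i t : ℕ) (hr : r.Prime) (hr2 : r ≠ 2) (hrp : r ≠ p) (hi : i = orderOf (q : ZMod r)) (ht : t * i = r - 1) : Nat.card {C : ConjClasses ↥(Matrix.symplecticGroup (Fin m) F) // ∃ g : Matrix.symplecticGroup (Fin m) F, ConjClasses.mk g = C ∧ orderOf g = r} = if Odd i then Nat.choose (m / i + t / 2) (t / 2) - 1 else Nat.choose (2 * m / i + t) t - 1 := by

  classical
  subst hF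
  obtain ⟨hrF, hpr⟩ : (r : F) ≠ 0 ∧ r ≠ p := ⟨fun h => hrp
    ((Nat.prime_dvd_prime_iff_eq (Fact.out : p.Prime) hr).1 ((CharP.cast_eq_zero_iff F p r).1 h)).symm, hrp⟩
  have hctx : SelfReciprocalFactors.Ctx F r i t := ⟨hr, hr2, hrF, hi, ht⟩
  have h := SympPrimeOrderClasses.ncard_classes_pow hctx m
  set A := {C : ConjClasses ↥(Matrix.symplecticGroup (Fin m) F) | ∃ g, ConjClasses.mk g = C ∧ g ^ r = 1}
  have hB : {C : ConjClasses ↥(Matrix.symplecticGroup (Fin m) F) | ∃ g, ConjClasses.mk g = C ∧ orderOf g = r} =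
      A \ {ConjClasses.mk 1} := by
    ext C
    constructor
    · rintro ⟨g, rfl, hg⟩
      refine ⟨⟨g, rfl, hg ▸ pow_orderOf_eq_one g⟩, fun e => ?_⟩
      rw [Set.mem_singleton_iff, ConjClasses.mk_eq_mk_iff_isConj, isConj_one_left] at e
      rw [e, orderOf_one] at hg
      exact hr.one_lt.ne hg
    · rintro ⟨⟨g, rfl, hg⟩, hne⟩
      refine ⟨g, rfl, (hr.eq_one_or_self_of_dvd _ (orderOf_dvd_of_pow_eq_one hg)).resolve_left fun e => ?_⟩
      exact hne (by rw [orderOf_eq_one_iff.1 e]; rfl)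
  show Nat.card {C : ConjClasses ↥(Matrix.symplecticGroup (Fin m) F) | ∃ g, ConjClasses.mk g = C ∧ orderOf g = r} = _
  rw [hB, Nat.card_coe_set_eq, Set.ncard_sdiff_singleton_of_mem (show ConjClasses.mk 1 ∈ A from ⟨1, rfl, one_pow r⟩), h,
    SelfReciprocalFactors.ncard_selfRecip hctx, Nat.mul_div_mul_left _ _ two_pos]
  rcases Nat.even_or_odd i with he | ho
  · rw [if_pos he, if_neg (Nat.not_odd_iff_even.2 he)]
  · rw [if_neg (Nat.not_even_iff_odd.2 ho), if_pos ho]

end Cfsg.Agent.S2645
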