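import Cfsg.Statements.S2649
import Cfsg.Agent.Lib.Classical.M23Cohomology
-- import your own Cfsg.Agent.* helpers here

set_option autoImplicit false
open Cfsg

namespace Cfsg.Agent.S2649

/-- Extensions of the Mathieu group M₂₃ by its code module split. Let E be a finite group with a normal subgroup N, an isomorphism φ from E/N onto M₂₃ = `Spor.M23` (the stabiliser of the extra point `none` in M₂₄ acting on the 24 points `GolayPt`), and an injective additive homomorphism ψ from N onto the set of words of the binary Golay code `golayCode` that vanish at `none` (an 11-dimensional space over the field with two elements), such that conjugation by g ∈ E on N corresponds under ψ to the coordinate permutation w ↦ w ∘ σ⁻¹, σ the permutation φ(gN). Then N has a complement in E: some subgroup H meets N trivially and generates E together with N. (Equivalently, the second cohomology group of M₂₃ with coefficients in this module vanishes.) -/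
theorem result
    {E : Type*} [Group E] [Finite E] (N : Subgroup E) [hN : N.Normal]
    (φ : E ⧸ N ≃* ↥Cfsg.Spor.M23)
    (ψ : Additive ↥N →+ (Cfsg.GolayPt → ZMod 2)) (hinj : Function.Injective ψ)
    (hrange : ∀ w : Cfsg.GolayPt → ZMod 2, w ∈ Set.range ψ ↔ (w ∈ Cfsg.golayCode ∧ w none = 0))
    (hψ : ∀ (g : E) (n : ↥N),
      ψ (Additive.ofMul ⟨g * n * g⁻¹, hN.conj_mem n n.2 g⟩)
        = ψ (Additive.ofMul n) ∘ ⇑(((φ (QuotientGroup.mk g) : ↥Cfsg.Spor.M23) : Equiv.Perm Cfsg.GolayPt)⁻¹)) :
    ∃ H : Subgroup E, H ⊓ N = ⊥ ∧ H ⊔ N = ⊤ := by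
  classical
  have hn : ∀ v : Classical.Collect.V, ∃ n : ↥N, ψ (Additive.ofMul n) = Classical.ParkerM23.lw v := by
    intro v
    obtain ⟨n, hn⟩ := (hrange (Classical.ParkerM23.lw v)).mpr
      ⟨Classical.ParkerM23.lw_mem v, Classical.ParkerM23.lw_none v⟩
    exact ⟨n.toMul, hn⟩
  choose ν hν using hn
  let π : E →* ↥Cfsg.Spor.M23 := φ.toMonoidHom.comp (QuotientGroup.mk' N)
  have hker : π.ker = N := by
    ext x
    rw [MonoidHom.mem_ker]
    exact (φ.map_eq_one_iff).trans (QuotientGroup.eq_one_iff x)
  let X : Classical.Collect.Ext ↥Cfsg.Spor.M23 Classical.M23Sylow.codeAct E :=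
    { π := π
      ι := fun v => (ν v : E)
      ι_add := fun a b => by
        rw [← Subgroup.coe_mul]
        refine congrArg Subtype.val (Additive.ofMul.injective (hinj ?_))
        rw [ofMul_mul, map_add, hν, hν, hν, Classical.ParkerM23.lw_add]
      ι_inj := fun a b h => Classical.ParkerM23.lw_inj (by
        rw [← hν, ← hν, Subtype.ext h])
      π_ι := fun v => by rw [← MonoidHom.mem_ker, hker]; exact (ν v).2
      exists_ι := fun x hx => by
        rw [← MonoidHom.mem_ker, hker] at hx
        have h := (hrange (ψ (Additive.ofMul (⟨x, hx⟩ : ↥N)))).mp ⟨_, rfl⟩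
        refine ⟨Classical.ParkerM23.co (ψ (Additive.ofMul (⟨x, hx⟩ : ↥N))), ?_⟩
        refine congrArg Subtype.val (Additive.ofMul.injective (hinj ?_) : _ = (⟨x, hx⟩ : ↥N))
        rw [hν, Classical.ParkerM23.lw_co h.1 h.2]
      π_surj := φ.surjective.comp (QuotientGroup.mk'_surjective N)
      conj := fun x v => by
        show (⟨x * ν v * x⁻¹, hN.conj_mem _ (ν v).2 x⟩ : ↥N).val = _
        refine congrArg Subtype.val (Additive.ofMul.injective (hinj ?_))
        rw [hψ x (ν v), hν, hν]
        exact (Classical.ParkerM23.lw_hat (π x) v).symm }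
  obtain ⟨H, h1, h2⟩ := Classical.M23Cohomology.code_splits X
  exact ⟨H, hker ▸ h1, hker ▸ h2⟩

end Cfsg.Agent.S2649
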