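import Cfsg.Statements.S2650
import Cfsg.Agent.Lib.Classical.ParkerM23Cert
-- import your own Cfsg.Agent.* helpers here

set_option autoImplicit false
open Cfsg

namespace Cfsg.Agent.S2650

/-- A non-split extension of the Mathieu group M₂₃ by its cocode module exists. There is a finite group E with a normal subgroup N, an isomorphism φ from E/N onto M₂₃ = `Spor.M23` (the stabiliser of the extra point `none` in M₂₄ acting on the 24 points `GolayPt`), and a surjective additive homomorphism θ from the binary words on `GolayPt` onto N whose kernel consists of the words of the Golay code `golayCode` and their translates by the unit vector at `none` (so N is elementary abelian of order 2¹¹), such that θ carries the coordinate permutation w ↦ w ∘ σ⁻¹, σ = φ(gN), to conjugation by g on N — and such that N has no complement in E. -/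
theorem result :
    ∃ (E : Type) (_ : Group E) (_ : Finite E) (N : Subgroup E) (_ : N.Normal)
      (φ : E ⧸ N ≃* ↥Cfsg.Spor.M23) (θ : (Cfsg.GolayPt → ZMod 2) →+ Additive ↥N),
      Function.Surjective θ ∧
      (∀ w : Cfsg.GolayPt → ZMod 2, θ w = 0 ↔ (w ∈ Cfsg.golayCode ∨ w + Pi.single none 1 ∈ Cfsg.golayCode)) ∧
      (∀ (g : E) (w : Cfsg.GolayPt → ZMod 2),
        ((θ (w ∘ ⇑(((φ (QuotientGroup.mk g) : ↥Cfsg.Spor.M23) : Equiv.Perm Cfsg.GolayPt)⁻¹))).toMul : E)
          = g * ((θ w).toMul : E) * g⁻¹) ∧
      ∀ H : Subgroup E, H ⊓ N = ⊥ → H ⊔ N ≠ ⊤ := by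
  refine ⟨Cfsg.Agent.Classical.ParkerM23.El, inferInstance, inferInstance,
    Cfsg.Agent.Classical.ParkerM23.proj.ker, inferInstance,
    QuotientGroup.quotientKerEquivOfSurjective _ Cfsg.Agent.Classical.ParkerM23.proj_surjective,
    Cfsg.Agent.Classical.ParkerM23.thetaHom, Cfsg.Agent.Classical.ParkerM23.thetaHom_surjective,
    Cfsg.Agent.Classical.ParkerM23.thetaHom_ker, fun g w => ?_,
    Cfsg.Agent.Classical.ParkerM23.no_complement⟩
  rw [Cfsg.Agent.Classical.ParkerM23.coe_thetaHom, Cfsg.Agent.Classical.ParkerM23.coe_thetaHom,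
    Cfsg.Agent.Classical.ParkerM23.conj_kel]
  rfl

end Cfsg.Agent.S2650
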