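import Cfsg.Statements.S2651
import Cfsg.Agent.Lib.Classical.M23Cohomology
-- import your own Cfsg.Agent.* helpers here

set_option autoImplicit false
open Cfsg

namespace Cfsg.Agent.S2651

/-- The word with prescribed values on the basis of the code words vanishing at the extra point. -/
def word (v : Classical.Collect.V) : GolayPt → ZMod 2 :=
  ∑ i : Fin 11, v i • Pi.single (Agent.Spor.Golay.pt (i.val + 1)) 1

theorem lin_word (v : Classical.Collect.V) (i : Fin 11) :
    Classical.ParkerM23.lin (word v) (Pi.single i 1) = v i := by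
  rw [Classical.ParkerM23.lin]
  simp only [word, Finset.sum_apply, Pi.smul_apply, smul_eq_mul, Finset.sum_mul]
  rw [Finset.sum_comm, Finset.sum_eq_single i]
  · rw [Finset.sum_eq_single (Agent.Spor.Golay.pt (i.val + 1))]
    · rw [Pi.single_eq_same, mul_one]
      have h := congrFun (Classical.ParkerM23.co_lw (Pi.single i 1)) i
      rw [Pi.single_eq_same] at h
      rw [show Classical.ParkerM23.lw (Pi.single i 1) (Agent.Spor.Golay.pt (i.val + 1)) = 1 from h, mul_one]
    · intro p _ hp
      rw [Pi.single_eq_of_ne hp, mul_zero, zero_mul]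
    · exact fun h => absurd (Finset.mem_univ _) h
  · intro j _ hj
    rw [Finset.sum_eq_single (Agent.Spor.Golay.pt (j.val + 1))]
    · have h := congrFun (Classical.ParkerM23.co_lw (Pi.single i 1)) j
      rw [Pi.single_eq_of_ne hj] at h
      rw [show Classical.ParkerM23.lw (Pi.single i 1) (Agent.Spor.Golay.pt (j.val + 1)) = 0 from h, mul_zero]
    · intro p _ hp
      rw [Pi.single_eq_of_ne hp, mul_zero, zero_mul]
    · exact fun h => absurd (Finset.mem_univ _) h
  · exact fun h => absurd (Finset.mem_univ _) h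

theorem lin_add (v w : GolayPt → ZMod 2) (a : Classical.ParkerM23.D) :
    Classical.ParkerM23.lin (v + w) a = Classical.ParkerM23.lin v a + Classical.ParkerM23.lin w a := by
  simp [Classical.ParkerM23.lin, add_mul, Finset.sum_add_distrib]

theorem lin_eq_sum (w : GolayPt → ZMod 2) (a : Classical.ParkerM23.D) :
    Classical.ParkerM23.lin w a = ∑ i, Classical.ParkerM23.lin w (Pi.single i 1) * a i := by
  let F : Classical.ParkerM23.D →+ ZMod 2 := AddMonoidHom.mk' (Classical.ParkerM23.lin w) (fun a b => by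
    simp [Classical.ParkerM23.lin, Classical.ParkerM23.lw_add, mul_add, Finset.sum_add_distrib])
  show F a = _
  conv_lhs => rw [← Finset.univ_sum_single a]
  rw [map_sum]
  refine Finset.sum_congr rfl fun i _ => ?_
  rcases Classical.ParkerM23.z2 (a i) with h | h <;> rw [h]
  · rw [Pi.single_zero, map_zero, mul_zero]
  · rw [mul_one]; rfl

/-- An extension by the cocode module, in coordinates. -/
theorem ext_of_cocode {E : Type*} [Group E] (N : Subgroup E) [N.Normal]
    (φ : E ⧸ N ≃* ↥Cfsg.Spor.M23) (θ : (GolayPt → ZMod 2) →+ Additive ↥N)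
    (hsurj : Function.Surjective θ)
    (hker : ∀ w, θ w = 0 ↔ (w ∈ golayCode ∨ w + Pi.single none 1 ∈ golayCode))
    (hθ : ∀ (g : E) (w : GolayPt → ZMod 2),
      ((θ (w ∘ ⇑(((φ (QuotientGroup.mk g) : ↥Cfsg.Spor.M23) : Equiv.Perm GolayPt)⁻¹))).toMul : E) =
        g * ((θ w).toMul : E) * g⁻¹) :
    ∃ X : Classical.Collect.Ext ↥Cfsg.Spor.M23 Classical.M23Sylow.cocodeAct E, X.π.ker = N := by
  have hk : ∀ w, θ w = 0 ↔ Classical.ParkerM23.lin w = 0 := fun w => by
    rw [hker, ← Classical.ParkerM23.thetaHom_ker, Classical.ParkerM23.thetaHom_eq_zero]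
  have heq : ∀ v w, (∀ i, Classical.ParkerM23.lin v (Pi.single i 1) =
      Classical.ParkerM23.lin w (Pi.single i 1)) → θ v = θ w := by
    intro v w h
    have h1 : θ (v + w) = 0 := by
      refine (hk _).mpr (funext fun a => ?_)
      rw [lin_eq_sum]
      refine Finset.sum_eq_zero fun i _ => ?_
      rw [lin_add, h i, CharTwo.add_self_eq_zero, zero_mul]
    have h2 : θ w + θ w = 0 := by
      rw [← map_add, CharTwo.add_self_eq_zero, map_zero]
    rw [map_add] at h1
    exact add_right_cancel (h1.trans h2.symm)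
  let π : E →* ↥Cfsg.Spor.M23 := φ.toMonoidHom.comp (QuotientGroup.mk' N)
  have hkerπ : π.ker = N := by
    ext x
    rw [MonoidHom.mem_ker]
    exact (φ.map_eq_one_iff).trans (QuotientGroup.eq_one_iff x)
  refine ⟨{ π := π
            ι := fun v => ((θ (word v)).toMul : E)
            ι_add := fun a b => ?_
            ι_inj := fun a b h => ?_
            π_ι := fun v => by rw [← MonoidHom.mem_ker, hkerπ]; exact (θ (word v)).toMul.2
            exists_ι := fun x hx => ?_
            π_surj := φ.surjective.comp (QuotientGroup.mk'_surjective N)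
            conj := fun x v => ?_ }, hkerπ⟩
  · have h : θ (word (a + b)) = θ (word a) + θ (word b) := by
      rw [← map_add]
      refine heq _ _ fun i => ?_
      rw [lin_add, lin_word, lin_word, lin_word]; rfl
    rw [h, toMul_add, Subgroup.coe_mul]
  · funext i
    have h1 : θ (word a) = θ (word b) := Additive.toMul.injective (Subtype.ext h)
    have h2 : θ (word a + word b) = 0 := by
      rw [map_add, h1, ← map_add, CharTwo.add_self_eq_zero, map_zero]
    have h3 := congrFun ((hk _).mp h2) (Pi.single i 1)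
    rw [lin_add, lin_word, lin_word] at h3
    exact CharTwo.add_eq_zero.mp h3
  · rw [← MonoidHom.mem_ker, hkerπ] at hx
    obtain ⟨w, hw⟩ := hsurj (Additive.ofMul ⟨x, hx⟩)
    refine ⟨fun i => Classical.ParkerM23.lin w (Pi.single i 1), ?_⟩
    rw [heq _ w (fun i => lin_word _ i), hw]
    rfl
  · rw [← hθ x (word v)]
    refine congrArg (fun z => ((z : Additive ↥N).toMul : E)) (heq _ _ fun i => ?_)
    rw [lin_word]
    have key : ∀ a : Classical.ParkerM23.D,
        Classical.ParkerM23.lin (word v ∘ ⇑((π x : Equiv.Perm GolayPt)⁻¹)) a =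
          Classical.ParkerM23.lin (word v)
            (Classical.ParkerM23.hat ((π x)⁻¹ : ↥Cfsg.Spor.M23) a) := fun a => by
      simp only [Classical.ParkerM23.lin]
      refine (Fintype.sum_equiv (π x : Equiv.Perm GolayPt) _ _ fun q => ?_).symm
      rw [Classical.ParkerM23.lw_hat, Function.comp_apply, Function.comp_apply, Subgroup.coe_inv, inv_inv]
      simp
    refine (key _).trans ?_
    rw [lin_eq_sum]
    exact Finset.sum_congr rfl fun j _ => by rw [lin_word]

/-- The non-split extension of the Mathieu group M₂₃ by its cocode module is unique. Suppose E and E' are finite groups, each with a normal subgroup (N, N'), an isomorphism of the quotient onto M₂₃ = `Spor.M23`, and a surjective additive homomorphism from the binary words on the 24 points `GolayPt` onto the normal subgroup with kernel the Golay code `golayCode` together with its translate by the unit vector at the extra point `none`, intertwining the coordinate permutation w ↦ w ∘ σ⁻¹ (σ the image of gN) with conjugation by g; and suppose that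 in each group the normal subgroup has no complement. Then E and E' are isomorphic. -/
theorem result
    {E : Type*} [Group E] [Finite E] (N : Subgroup E) [hN : N.Normal]
    (φ : E ⧸ N ≃* ↥Cfsg.Spor.M23) (θ : (Cfsg.GolayPt → ZMod 2) →+ Additive ↥N)
    (hsurj : Function.Surjective θ)
    (hker : ∀ w : Cfsg.GolayPt → ZMod 2, θ w = 0 ↔ (w ∈ Cfsg.golayCode ∨ w + Pi.single none 1 ∈ Cfsg.golayCode))
    (hθ : ∀ (g : E) (w : Cfsg.GolayPt → ZMod 2),
      ((θ (w ∘ ⇑(((φ (QuotientGroup.mk g) : ↥Cfsg.Spor.M23) : Equiv.Perm Cfsg.GolayPt)⁻¹))).toMul : E)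
        = g * ((θ w).toMul : E) * g⁻¹)
    (hns : ∀ H : Subgroup E, H ⊓ N = ⊥ → H ⊔ N ≠ ⊤)
    {E' : Type*} [Group E'] [Finite E'] (N' : Subgroup E') [hN' : N'.Normal]
    (φ' : E' ⧸ N' ≃* ↥Cfsg.Spor.M23) (θ' : (Cfsg.GolayPt → ZMod 2) →+ Additive ↥N')
    (hsurj' : Function.Surjective θ')
    (hker' : ∀ w : Cfsg.GolayPt → ZMod 2, θ' w = 0 ↔ (w ∈ Cfsg.golayCode ∨ w + Pi.single none 1 ∈ Cfsg.golayCode))
    (hθ' : ∀ (g : E') (w : Cfsg.GolayPt → ZMod 2),
      ((θ' (w ∘ ⇑(((φ' (QuotientGroup.mk g) : ↥Cfsg.Spor.M23) : Equiv.Perm Cfsg.GolayPt)⁻¹))).toMul : E')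
        = g * ((θ' w).toMul : E') * g⁻¹)
    (hns' : ∀ H : Subgroup E', H ⊓ N' = ⊥ → H ⊔ N' ≠ ⊤) :
    Nonempty (E ≃* E') := by
  obtain ⟨X, hX⟩ := ext_of_cocode N φ θ hsurj hker hθ
  obtain ⟨X', hX'⟩ := ext_of_cocode N' φ' θ' hsurj' hker' hθ'
  exact Classical.M23Cohomology.cocode_unique X X'
    (fun H h1 => by rw [hX] at h1 ⊢; exact hns H h1) (fun H h1 => by rw [hX'] at h1 ⊢; exact hns' H h1)

end Cfsg.Agent.S2651
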