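import Cfsg.Statements.S2653
import Cfsg.Agent.Lib.Transfer.AltSection.Main
import Mathlib.LinearAlgebra.Matrix.GeneralLinearGroup.Defs

set_option maxHeartbeats 1000000
set_option maxRecDepth 8000

set_option autoImplicit false
open scoped MatrixGroups
open Cfsg

namespace Cfsg.Agent.S2653

open Cfsg.Agent.AltSection

/-- A copy of a finite index set without algebraic instances. -/
structure Carrier (q : ℕ) : Type where
  val : Fin q

/-- Alternating sections of finite linear groups. Let `F` be a finite field of characteristic `p` and `n` a natural number, and suppose some subgroup `H` of GL_n(F) has a normal subgroup `K` with `H ⧸ K` isomorphic to the alternating group of degree `r ≥ 9`. Then `n ≥ r - 2` when `p` divides `r`, and `n ≥ r - 1` otherwise (the smallest degree of a nontrivial projective representation of that alternating group in characteristic `p`). The same bound follows for every classical group with natural module of dimension `n` over `F`, since each is a section of a subgroup of GL_n(F). -/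
theorem result {F : Type*} [Field F] [Fintype F] (p : ℕ) [Fact p.Prime] [CharP F p]
    (n : ℕ) (r : ℕ) (H : Subgroup (GL (Fin n) F)) (K : Subgroup ↥H) [K.Normal]
    (h : Nonempty (↥H ⧸ K ≃* ↥(alternatingGroup (Fin r)))) (hr : 9 ≤ r) :
    r - 1 - (if p ∣ r then 1 else 0) ≤ n := by

  classical
  obtain ⟨e⟩ := h
  let e₀ : Carrier (Fintype.card F) ≃ F :=
    { toFun := fun x => (Fintype.equivFin F).symm x.val
      invFun := fun x => ⟨Fintype.equivFin F x⟩
      left_inv := fun x => by simp
      right_inv := fun x => by simp }
  letI : Field (Carrier (Fintype.card F)) := e₀.field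
  let re : Carrier (Fintype.card F) ≃+* F := e₀.ringEquiv
  let L := AlgebraicClosure (Carrier (Fintype.card F))
  let f : F →+* L := (algebraMap (Carrier (Fintype.card F)) L).comp re.symm.toRingHom
  have : CharP L p := charP_of_injective_ringHom f.injective p
  let g : GL (Fin n) F →* GL (Fin n) L := Units.map (f.mapMatrix : _ →+* _).toMonoidHom
  have hg : Function.Injective g := fun x y hxy =>
    Units.ext (Matrix.map_injective f.injective (congrArg Units.val hxy))
  let eH := H.equivMapOfInjective g hg
  have : Finite (H.map g) := Finite.of_equiv H eH.toEquiv
  let ρ : H.map g →* Module.End L (Fin n → L) :=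
    (Matrix.toLinAlgEquiv' : Matrix (Fin n) (Fin n) L ≃ₐ[L] _).toMonoidHom.comp
      ((Units.coeHom _).comp (H.map g).subtype)
  have hb := section_bound hr (Nat.card (H.map g)) ↥(H.map g) rfl
    ((e.toMonoidHom.comp (QuotientGroup.mk' K)).comp eH.symm.toMonoidHom)
    ((e.surjective.comp (QuotientGroup.mk'_surjective K)).comp eH.symm.surjective)
    L p (Fin n → L) ρ fun x hx => by
      have : x = 1 := Subtype.ext (Units.ext (Matrix.toLinAlgEquiv'.injective
        (hx.trans (map_one Matrix.toLinAlgEquiv').symm)))
      rw [this, map_one]
  rwa [Module.finrank_fintype_fun_eq_card, Fintype.card_fin] at hb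

end Cfsg.Agent.S2653
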