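import Cfsg.Statements.S2666
import Mathlib


set_option autoImplicit false
open Cfsg

namespace Cfsg.Agent.S2666
theorem mem_eq {X : Type*} [Group X] (f : MulAut X) (g : X) :
    g ∈ (MulEquiv.toMonoidHom f).eqLocus (MonoidHom.id X) ↔ f g = g := Iff.rfl


/-- Shintani descent, in an abstract form. Let `σ` be an automorphism of a group `X` such that the maps `a ↦ a·σ(a)⁻¹` and `a ↦ a·σᵉ(a)⁻¹` are surjective on `X` (the Lang–Steinberg property, which holds when `X` is a connected algebraic group and `σ` a Steinberg endomorphism), where `e ≥ 1`. Write `G` for the subgroup of fixed points of `σᵉ` and `H` for the subgroup of fixed points of `σ`. The `G`-conjugacy classes in the coset `G σ` of the semidirect product of `G` by `σ` correspond to the orbits of `G` on itself under twisted conjugation `g ↦ k g σ(k)⁻¹`, and the `e`-th power of `g σ` has `G`-part the norm `g σ(g) ⋯ σ^(e-1)(g)`. For `g` in `G` and any `a` with `g = a σ(a)⁻¹`, put `x = σᵉ(a)⁻¹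 a`. Then: (1) `x` lies in `H`, and `a⁻¹ · (g σ(g) ⋯ σ^(e-1)(g)) · a = x`; (2) for `g, g'` in `G` with such elements `a, b` and `x, x'`, the elements `g, g'` are twisted-conjugate under `G` if and only if `x, x'` are conjugate in `H`; (3) every element of `H` arises as such an `x`. So `g ↦ x` induces a well-defined bijection from the twisted `G`-classes of `G` onto the conjugacy classes of `H` (the Shintani map). -/
theorem result {X : Type*} [Group X] (σ : MulAut X) (e : ℕ) (he : 1 ≤ e)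
    (hL : ∀ g : X, ∃ a : X, g = a * (σ a)⁻¹) (hLe : ∀ g : X, ∃ a : X, g = a * ((σ ^ e) a)⁻¹) :
    (∀ g ∈ (MulEquiv.toMonoidHom (σ ^ e)).eqLocus (MonoidHom.id X), ∀ a : X, g = a * (σ a)⁻¹ →
        ((σ ^ e) a)⁻¹ * a ∈ (MulEquiv.toMonoidHom σ).eqLocus (MonoidHom.id X) ∧
          a⁻¹ * ((List.range e).map (fun i => (σ ^ i) g)).prod * a = ((σ ^ e) a)⁻¹ * a) ∧
    (∀ g ∈ (MulEquiv.toMonoidHom (σ ^ e)).eqLocus (MonoidHom.id X), ∀ g' ∈ (MulEquiv.toMonoidHom (σ ^ e)).eqLocus (MonoidHom.id X), ∀ a b : X,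
        g = a * (σ a)⁻¹ → g' = b * (σ b)⁻¹ →
          ((∃ k ∈ (MulEquiv.toMonoidHom (σ ^ e)).eqLocus (MonoidHom.id X), g' = k * g * (σ k)⁻¹) ↔
            (∃ h ∈ (MulEquiv.toMonoidHom σ).eqLocus (MonoidHom.id X), ((σ ^ e) b)⁻¹ * b = h * (((σ ^ e) a)⁻¹ * a) * h⁻¹))) ∧
    (∀ x ∈ (MulEquiv.toMonoidHom σ).eqLocus (MonoidHom.id X), ∃ g ∈ (MulEquiv.toMonoidHom (σ ^ e)).eqLocus (MonoidHom.id X), ∃ a : X,
        g = a * (σ a)⁻¹ ∧ ((σ ^ e) a)⁻¹ * a = x) := by
  have hpow : ∀ i j : ℕ, ∀ x, (σ ^ (i + j)) x = (σ ^ i) ((σ ^ j) x) := fun i j x => by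
    rw [pow_add]; rfl
  have hcomm : ∀ x, (σ ^ e) (σ x) = σ ((σ ^ e) x) := fun x => by
    show (σ ^ e * σ) x = (σ * σ ^ e) x
    rw [(Commute.self_pow σ e).eq]
  have hfix : ∀ i : ℕ, ∀ x : X, σ x = x → (σ ^ i) x = x := by
    intro i x hx
    induction i with
    | zero => simp
    | succ i ih => rw [hpow i 1, pow_one, hx, ih]
  have hy : ∀ g a : X, (σ ^ e) g = g → g = a * (σ a)⁻¹ →
      σ (((σ ^ e) a)⁻¹ * a) = ((σ ^ e) a)⁻¹ * a := by
    intro g a hg ha
    subst ha
    rw [map_mul, map_inv, hcomm] at hg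
    have h3 : (σ ((σ ^ e) a))⁻¹ = ((σ ^ e) a)⁻¹ * a * (σ a)⁻¹ := by
      rw [mul_assoc, ← hg, inv_mul_cancel_left]
    rw [map_mul, map_inv, h3]; group
  simp only [mem_eq]
  refine ⟨fun g hg a ha => ⟨hy g a hg ha, ?_⟩, ?_, ?_⟩
  · have hN : ∀ d : ℕ, ((List.range d).map (fun i => (σ ^ i) g)).prod = a * ((σ ^ d) a)⁻¹ := by
      intro d
      induction d with
      | zero => simp
      | succ d ih =>
        rw [List.range_succ, List.map_append, List.prod_append, ih, List.map_singleton,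
          List.prod_singleton, ha, map_mul, map_inv, hpow d 1, pow_one]
        group
    rw [hN]; group
  · intro g hg g' hg' a b ha hb
    constructor
    · rintro ⟨k, hk, rfl⟩
      subst ha
      refine ⟨b⁻¹ * (k * a), ?_, ?_⟩
      · have h1 : σ b = σ k * σ a * a⁻¹ * k⁻¹ * b := by
          calc σ b = (b * (σ b)⁻¹)⁻¹ * b := by group
            _ = _ := by rw [← hb]; group
        rw [map_mul, map_inv, map_mul, h1]; group
      · have hh : σ (b⁻¹ * (k * a)) = b⁻¹ * (k * a) := by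
          have h1 : σ b = σ k * σ a * a⁻¹ * k⁻¹ * b := by
            calc σ b = (b * (σ b)⁻¹)⁻¹ * b := by group
              _ = _ := by rw [← hb]; group
          rw [map_mul, map_inv, map_mul, h1]; group
        have h2 : (σ ^ e) b = k * (σ ^ e) a * (b⁻¹ * (k * a))⁻¹ := by
          calc (σ ^ e) b = (σ ^ e) ((k * a) * (b⁻¹ * (k * a))⁻¹) := by
                congr 1; group
            _ = _ := by rw [map_mul, map_mul, map_inv, hk, hfix e _ hh]
        rw [h2]; group
    · rintro ⟨h, hh, h3⟩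
      refine ⟨b * h * a⁻¹, ?_, ?_⟩
      · have h4 : (σ ^ e) b = b * (((σ ^ e) b)⁻¹ * b)⁻¹ := by group
        rw [map_mul, map_mul, map_inv, hfix e _ hh, h4, h3]; group
      · subst ha hb
        rw [map_mul, map_mul, map_inv, hh]; group
  · intro x hx
    obtain ⟨a', ha'⟩ := hLe x⁻¹
    have hxa : (σ ^ e) a' = x * a' := by
      calc (σ ^ e) a' = (a' * ((σ ^ e) a')⁻¹)⁻¹ * a' := by group
        _ = x * a' := by rw [← ha', inv_inv]
    refine ⟨a'⁻¹ * (σ a'⁻¹)⁻¹, ?_, a'⁻¹, rfl, ?_⟩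
    · simp only [map_mul, map_inv, inv_inv, hcomm, hxa, hx]; group
    · rw [map_inv, hxa]; group

end Cfsg.Agent.S2666
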