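import Cfsg.Statements.S2667
import Mathlib


set_option autoImplicit false
open Cfsg

namespace Cfsg.Agent.S2667
theorem mem_eq {X : Type*} [Group X] (f : MulAut X) (g : X) :
    g ∈ (MulEquiv.toMonoidHom f).eqLocus (MonoidHom.id X) ↔ f g = g := Iff.rfl


/-- Shintani descent, in an abstract form. Let `σ` be an automorphism of a group `X` and `e ≥ 1` (no surjectivity of the Lang maps is needed for this part; in the classical setting `X` is a connected algebraic group and `σ` a Steinberg endomorphism). Write `G` for the subgroup of fixed points of `σᵉ` and `H` for the subgroup of fixed points of `σ`. The `G`-conjugacy classes in the coset `G σ` of the semidirect product of `G` by `σ` correspond to the orbits of `G` on itself under twisted conjugation `g ↦ k g σ(k)⁻¹`, and the `e`-th power of `g σ` has `G`-part the norm `g σ(g) ⋯ σ^(e-1)(g)`. For `g` in `G` and any `a` with `g = a σ(a)⁻¹`, put `x = σᵉ(a)⁻¹ a`. Then conjugation by `a⁻¹` carries the twisted centralizer `{k ∈ G : k g σ(k)⁻¹ = g}` (the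 centralizer of `g σ` in `G`) exactly onto the centralizer of `x` in `H`: an element `k` of `X` lies in `G` and satisfies `k g σ(k)⁻¹ = g` if and only if `a⁻¹ k a` lies in `H` and commutes with `x`. In particular the two centralizers are conjugate in `X` and have the same order. -/
theorem result {X : Type*} [Group X] (σ : MulAut X) (e : ℕ) (he : 1 ≤ e)
    (g : X) (hg : g ∈ (MulEquiv.toMonoidHom (σ ^ e)).eqLocus (MonoidHom.id X)) (a : X) (ha : g = a * (σ a)⁻¹) (k : X) :
    (k ∈ (MulEquiv.toMonoidHom (σ ^ e)).eqLocus (MonoidHom.id X) ∧ k * g * (σ k)⁻¹ = g) ↔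
      (a⁻¹ * k * a ∈ (MulEquiv.toMonoidHom σ).eqLocus (MonoidHom.id X) ∧
        (a⁻¹ * k * a) * (((σ ^ e) a)⁻¹ * a) = (((σ ^ e) a)⁻¹ * a) * (a⁻¹ * k * a)) := by
  rw [mem_eq] at hg ⊢
  rw [mem_eq]
  have h1 : (σ ^ e) a = a * (((σ ^ e) a)⁻¹ * a)⁻¹ := by group
  generalize hy : ((σ ^ e) a)⁻¹ * a = y at h1 ⊢
  generalize hc : a⁻¹ * k * a = c
  have hk : k = a * c * a⁻¹ := by rw [← hc]; group
  subst hk
  have h2 : (a * c * a⁻¹) * g * (σ (a * c * a⁻¹))⁻¹ = g ↔ σ c = c := by
    rw [ha, map_mul, map_mul, map_inv]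
    constructor
    · intro h
      have h' : c * (σ c)⁻¹ = 1 := by
        have := congrArg (fun z => a⁻¹ * z * σ a) h
        simpa [mul_assoc] using this
      exact (mul_inv_eq_one.mp h').symm
    · intro h; rw [h]; group
  have hfix : ∀ i : ℕ, σ c = c → (σ ^ i) c = c := by
    intro i hx
    induction i with
    | zero => simp
    | succ i ih =>
      rw [pow_succ]
      show (σ ^ i) (σ c) = c
      rw [hx, ih]
  rw [h2]
  constructor
  · rintro ⟨h3, h4⟩
    refine ⟨h4, ?_⟩
    rw [map_mul, map_mul, map_inv, hfix e h4, h1] at h3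
    have h5 : y⁻¹ * c * y = c := by
      have := congrArg (fun z => a⁻¹ * z * a) h3
      simpa [mul_assoc] using this
    calc c * y = y * (y⁻¹ * c * y) := by group
      _ = y * c := by rw [h5]
  · rintro ⟨h4, h5⟩
    refine ⟨?_, h4⟩
    rw [map_mul, map_mul, map_inv, hfix e h4, h1]
    calc a * y⁻¹ * c * (a * y⁻¹)⁻¹ = a * (y⁻¹ * (c * y)) * a⁻¹ := by group
      _ = a * c * a⁻¹ := by rw [h5]; group

end Cfsg.Agent.S2667
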