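import Cfsg.Statements.S2668
import Mathlib


set_option autoImplicit false
open Cfsg

namespace Cfsg.Agent.S2668
theorem mem_eq {X : Type*} [Group X] (f : MulAut X) (g : X) :
    g ∈ (MulEquiv.toMonoidHom f).eqLocus (MonoidHom.id X) ↔ f g = g := Iff.rfl


/-- Shintani descent and powers (abstract form). Let `σ` be an automorphism of a group `X`, `e ≥ 1` and `d ≥ 1`, let `g` be fixed by `σᵉ` and let `a` satisfy `g = a σ(a)⁻¹`, so that the Shintani map of `(X, σ, e)` sends the class of `g σ` to the class of `x = σᵉ(a)⁻¹ a`. Put `h = g σ(g) ⋯ σ^(d-1)(g)`, the part in `X` of the `d`-th power `(g σ)^d = h σ^d`. Then `h = a σ^d(a)⁻¹` (so `a` also serves for `h` with respect to `σ^d`), `h` is fixed by `(σ^d)ᵉ`, and `(σ^d)ᵉ(a)⁻¹ a = x^d`: the Shintani map of `(X, σ^d, e)` sends the class of `(g σ)^d` to the class of `x^d`. (When `d` divides `e`, the Shintani map of `(X, σ^d, e/d)` sends it to the class of `x` itself, since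 `(σ^d)^(e/d) = σᵉ`.) -/
theorem result {X : Type*} [Group X] (σ : MulAut X) (e d : ℕ) (he : 1 ≤ e) (hd : 1 ≤ d)
    (g : X) (hg : g ∈ (MulEquiv.toMonoidHom (σ ^ e)).eqLocus (MonoidHom.id X)) (a : X) (ha : g = a * (σ a)⁻¹) :
    ((List.range d).map (fun i => (σ ^ i) g)).prod = a * ((σ ^ d) a)⁻¹ ∧
      ((List.range d).map (fun i => (σ ^ i) g)).prod ∈ (MulEquiv.toMonoidHom ((σ ^ d) ^ e)).eqLocus (MonoidHom.id X) ∧
      (((σ ^ d) ^ e) a)⁻¹ * a = (((σ ^ e) a)⁻¹ * a) ^ d := by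
  rw [mem_eq] at hg ⊢
  have hpow : ∀ i j : ℕ, ∀ x, (σ ^ (i + j)) x = (σ ^ i) ((σ ^ j) x) := fun i j x => by
    rw [pow_add]; rfl
  have hN : ∀ d : ℕ, ((List.range d).map (fun i => (σ ^ i) g)).prod = a * ((σ ^ d) a)⁻¹ := by
    intro d
    induction d with
    | zero => simp
    | succ d ih =>
      rw [List.range_succ, List.map_append, List.prod_append, ih, List.map_singleton,
        List.prod_singleton, ha, map_mul, map_inv, hpow d 1, pow_one]
      group
  have hy : σ (((σ ^ e) a)⁻¹ * a) = ((σ ^ e) a)⁻¹ * a := by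
    have h1 : (σ ^ e) (σ a) = σ ((σ ^ e) a) := by
      show (σ ^ e * σ) a = (σ * σ ^ e) a
      rw [(Commute.self_pow σ e).eq]
    have h2 : (σ ^ e) a * (σ ((σ ^ e) a))⁻¹ = a * (σ a)⁻¹ := by
      rw [ha, map_mul, map_inv, h1] at hg; exact hg
    have h3 : (σ ((σ ^ e) a))⁻¹ = ((σ ^ e) a)⁻¹ * a * (σ a)⁻¹ := by
      rw [mul_assoc, ← h2, inv_mul_cancel_left]
    rw [map_mul, map_inv, h3]; group
  have hfix : ∀ i : ℕ, ∀ x : X, σ x = x → (σ ^ i) x = x := by
    intro i x hx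
    induction i with
    | zero => simp
    | succ i ih => rw [hpow i 1, pow_one, hx, ih]
  have hyk : ∀ k : ℕ, ((σ ^ (e * k)) a)⁻¹ * a = (((σ ^ e) a)⁻¹ * a) ^ k := by
    intro k
    induction k with
    | zero => simp
    | succ k ih =>
      have : (σ ^ (e * (k + 1))) a = (σ ^ (e * k)) ((σ ^ e) a) := by
        rw [← hpow]; rfl
      rw [this]
      have h4 : (σ ^ e) a = a * (((σ ^ e) a)⁻¹ * a)⁻¹ := by group
      conv_lhs => rw [h4]
      rw [map_mul, map_inv, hfix _ _ hy, mul_inv_rev, inv_inv, mul_assoc, ih, ← pow_succ']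
  have hde : (σ ^ d) ^ e = σ ^ (e * d) := by rw [← pow_mul, Nat.mul_comm]
  refine ⟨hN d, ?_, by rw [hde, hyk d]⟩
  rw [hN d, hde, map_mul, map_inv]
  have h5 : (σ ^ (e * d)) ((σ ^ d) a) = (σ ^ d) ((σ ^ (e * d)) a) := by
    rw [← hpow, ← hpow, Nat.add_comm]
  have h6 : (σ ^ (e * d)) a = a * ((((σ ^ e) a)⁻¹ * a) ^ d)⁻¹ := by rw [← hyk d]; group
  rw [h5, h6, map_mul, map_inv, map_pow, hfix _ _ hy]
  group

end Cfsg.Agent.S2668
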