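import Cfsg.Statements.S2669
-- import your own Cfsg.Agent.* helpers here

set_option autoImplicit false
open Cfsg

namespace Cfsg.Agent.S2669

/-- Shintani descent preserves numbers of fixed points on coset spaces (abstract form). Let `σ` be an automorphism of a group `X` and `e ≥ 1`; write `G` for the fixed points of `σᵉ` and `H` for the fixed points of `σ`, and assume `G` is finite. Let `Y` be a `σ`-stable subgroup of `X` on which the maps `a ↦ a σ(a)⁻¹` and `a ↦ a σᵉ(a)⁻¹` are surjective (as for a closed connected `σ`-stable subgroup of an algebraic group). Let `g ∈ G`, let `a ∈ X` satisfy `g = a σ(a)⁻¹` and put `x = σᵉ(a)⁻¹ a` (the Shintani image, an element of `H`). The element `g σ` of the semidirect product acts on the cosets of `Y ∩ G` in `G` by `k (Y ∩ G) ↦ g σ(k) (Y ∩ G)`, fixing that coset exactly when `k⁻¹ g σ(k) ∈ Y`; and `x` fixes the coset `h (Y ∩ H)`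 of `H` exactly when `h⁻¹ x h ∈ Y`. Then the two numbers of fixed cosets agree; in cross-multiplied form, `#{k ∈ G : k⁻¹ g σ(k) ∈ Y} · |Y ∩ H| = #{h ∈ H : h⁻¹ x h ∈ Y} · |Y ∩ G|`. -/
theorem result {X : Type*} [Group X] (σ : MulAut X) (e : ℕ) (he : 1 ≤ e)
    [Finite ↥((MulEquiv.toMonoidHom (σ ^ e)).eqLocus (MonoidHom.id X))]
    (Y : Subgroup X) (hY : ∀ y : X, y ∈ Y ↔ σ y ∈ Y)
    (hYL : ∀ y ∈ Y, ∃ a ∈ Y, y = a * (σ a)⁻¹) (hYLe : ∀ y ∈ Y, ∃ a ∈ Y, y = a * ((σ ^ e) a)⁻¹)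
    (g : X) (hg : g ∈ (MulEquiv.toMonoidHom (σ ^ e)).eqLocus (MonoidHom.id X)) (a : X) (ha : g = a * (σ a)⁻¹) :
    Nat.card {k : ↥((MulEquiv.toMonoidHom (σ ^ e)).eqLocus (MonoidHom.id X)) // (k : X)⁻¹ * g * σ k ∈ Y} *
        Nat.card ↥(Y ⊓ (MulEquiv.toMonoidHom σ).eqLocus (MonoidHom.id X)) =
      Nat.card {h : ↥((MulEquiv.toMonoidHom σ).eqLocus (MonoidHom.id X)) // (h : X)⁻¹ * (((σ ^ e) a)⁻¹ * a) * h ∈ Y} *
        Nat.card ↥(Y ⊓ (MulEquiv.toMonoidHom (σ ^ e)).eqLocus (MonoidHom.id X)) := by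
  classical
  set Fe := (MulEquiv.toMonoidHom (σ ^ e)).eqLocus (MonoidHom.id X)
  set F1 := (MulEquiv.toMonoidHom σ).eqLocus (MonoidHom.id X)
  have memE : ∀ z, z ∈ Fe ↔ (σ ^ e) z = z := fun z => Iff.rfl
  have mem1 : ∀ z, z ∈ F1 ↔ σ z = z := fun z => Iff.rfl
  have fix1e : ∀ z, σ z = z → (σ ^ e) z = z := fun z hz => by
    have : ∀ j : ℕ, (σ ^ j) z = z := fun j => by
      induction j with
      | zero => rfl
      | succ j ih => rw [pow_succ, MulAut.mul_apply, hz, ih]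
    exact this e
  set x : X := ((σ ^ e) a)⁻¹ * a with hx
  let P := {p : X × X // p.1 ∈ F1 ∧ p.2 ∈ Y ∧ a * p.1 * p.2 ∈ Fe}
  let S1 := {k : Fe // (k : X)⁻¹ * g * σ k ∈ Y}
  let S2 := {h : F1 // (h : X)⁻¹ * x * h ∈ Y}
  have pair : ∀ h y : X, h ∈ F1 → (a * h * y ∈ Fe ↔ h⁻¹ * x * h = (σ ^ e) y * y⁻¹) := fun h y hh => by
    rw [memE, map_mul, map_mul, fix1e h ((mem1 h).1 hh), hx]
    constructor
    · intro H
      calc h⁻¹ * (((σ ^ e) a)⁻¹ * a) * h = h⁻¹ * ((σ ^ e) a)⁻¹ * (a * h * y) * y⁻¹ := by group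
        _ = _ := by rw [← H]; group
    · intro H
      calc (σ ^ e) a * h * (σ ^ e) y = (σ ^ e) a * h * ((σ ^ e) y * y⁻¹) * y := by group
        _ = _ := by rw [← H]; group
  have lift1 : ∀ k : S1, ∃ h y : X, h ∈ F1 ∧ y ∈ Y ∧ (k.1 : X) = a * h * y := fun k => by
    obtain ⟨b, hb, hbe⟩ := hYL _ k.2
    refine ⟨a⁻¹ * (k.1 : X) * b, b⁻¹, ?_, inv_mem hb, by group⟩
    rw [mem1, map_mul, map_mul, map_inv]
    have hbe : (k.1 : X)⁻¹ * (a * (σ a)⁻¹) * σ (k.1 : X) = b * (σ b)⁻¹ :=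
      (congrArg (fun z => (k.1 : X)⁻¹ * z * σ (k.1 : X)) ha).symm.trans hbe
    calc (σ a)⁻¹ * σ (k.1 : X) * σ b = a⁻¹ * (k.1 : X) * ((k.1 : X)⁻¹ * (a * (σ a)⁻¹) * σ (k.1 : X)) * σ b := by group
      _ = _ := by rw [hbe]; group
  have lift2 : ∀ h : S2, ∃ y : X, y ∈ Y ∧ a * (h.1 : X) * y ∈ Fe := fun h => by
    obtain ⟨b, hb, hbe⟩ := hYLe _ (inv_mem h.2)
    refine ⟨b, hb, (pair _ _ h.1.2).2 ?_⟩
    rw [← inv_inv ((h.1 : X)⁻¹ * x * h.1), hbe]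
    group
  let toS1 : P → S1 := fun p => ⟨⟨a * p.1.1 * p.1.2, p.2.2.2⟩, by
    show (a * p.1.1 * p.1.2)⁻¹ * g * σ (a * p.1.1 * p.1.2) ∈ Y
    rw [ha, map_mul, map_mul, (mem1 _).1 p.2.1]
    have : (a * p.1.1 * p.1.2)⁻¹ * (a * (σ a)⁻¹) * (σ a * p.1.1 * σ p.1.2) = p.1.2⁻¹ * σ p.1.2 := by group
    rw [this]
    exact mul_mem (inv_mem p.2.2.1) ((hY _).1 p.2.2.1)⟩
  choose u v hu hv huv using lift1
  choose w hw hwe using lift2
  have hS2 : ∀ p : P, p.1.1⁻¹ * x * p.1.1 ∈ Y := fun p => by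
    rw [(pair _ _ p.2.1).1 p.2.2.2]
    have he' : ∀ j : ℕ, ∀ y ∈ Y, (σ ^ j) y ∈ Y := fun j => by
      induction j with
      | zero => exact fun y hy => hy
      | succ j ih => exact fun y hy => by rw [pow_succ, MulAut.mul_apply]; exact ih _ ((hY y).1 hy)
    exact mul_mem (he' e _ p.2.2.1) (inv_mem p.2.2.1)
  let E1 : S1 × ↥(Y ⊓ F1) ≃ P := Equiv.ofBijective
    (fun z => ⟨(u z.1 * (z.2 : X), (z.2 : X)⁻¹ * v z.1), mul_mem (hu z.1) z.2.2.2, mul_mem (inv_mem z.2.2.1) (hv z.1), by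
      rw [show a * (u z.1 * (z.2 : X)) * ((z.2 : X)⁻¹ * v z.1) = a * u z.1 * v z.1 by group, ← huv]
      exact z.1.1.2⟩) ⟨by
      rintro ⟨k, t⟩ ⟨k', t'⟩ h
      obtain ⟨h1, h2⟩ := Prod.ext_iff.1 (congrArg Subtype.val h)
      have hk : k = k' := Subtype.ext (Subtype.ext (by
        rw [huv k, huv k']
        calc a * u k * v k = a * (u k * (t : X)) * ((t : X)⁻¹ * v k) := by group
          _ = a * (u k' * (t' : X)) * ((t' : X)⁻¹ * v k') := by rw [show u k * (t : X) = u k' * (t' : X) from h1,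
              show (t : X)⁻¹ * v k = (t' : X)⁻¹ * v k' from h2]
          _ = _ := by group))
      subst hk
      exact Prod.ext rfl (Subtype.ext (mul_left_cancel h1)), by
      rintro p
      have hk := huv (toS1 p)
      have hk' : a * p.1.1 * p.1.2 = a * u (toS1 p) * v (toS1 p) := hk
      have e1 : (u (toS1 p))⁻¹ * p.1.1 = v (toS1 p) * p.1.2⁻¹ := by
        calc (u (toS1 p))⁻¹ * p.1.1 = (u (toS1 p))⁻¹ * a⁻¹ * (a * p.1.1 * p.1.2) * p.1.2⁻¹ := by group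
          _ = _ := by rw [hk']; group
      refine ⟨(toS1 p, ⟨(u (toS1 p))⁻¹ * p.1.1, Subgroup.mem_inf.2 ⟨e1 ▸ Y.mul_mem (hv _) (Y.inv_mem p.2.2.1),
        F1.mul_mem (F1.inv_mem (hu _)) p.2.1⟩⟩), Subtype.ext (Prod.ext ?_ ?_)⟩
      · show u (toS1 p) * ((u (toS1 p))⁻¹ * p.1.1) = p.1.1
        group
      · show ((u (toS1 p))⁻¹ * p.1.1)⁻¹ * v (toS1 p) = p.1.2
        rw [e1]; group⟩
  let E2 : S2 × ↥(Y ⊓ Fe) ≃ P := Equiv.ofBijective
    (fun z => ⟨((z.1.1 : X), w z.1 * (z.2 : X)), z.1.1.2, mul_mem (hw z.1) z.2.2.1, by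
      rw [← mul_assoc]; exact mul_mem (hwe z.1) z.2.2.2⟩) ⟨by
      rintro ⟨k, t⟩ ⟨k', t'⟩ h
      obtain ⟨h1, h2⟩ := Prod.ext_iff.1 (congrArg Subtype.val h)
      obtain rfl : k = k' := Subtype.ext (Subtype.ext h1)
      exact Prod.ext rfl (Subtype.ext (mul_left_cancel h2)), by
      rintro p
      let h : S2 := ⟨⟨p.1.1, p.2.1⟩, hS2 p⟩
      refine ⟨(h, ⟨(w h)⁻¹ * p.1.2, Subgroup.mem_inf.2 ⟨Y.mul_mem (Y.inv_mem (hw h)) p.2.2.1, ?_⟩⟩), Subtype.ext (Prod.ext rfl ?_)⟩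
      · have := Fe.mul_mem (Fe.inv_mem (hwe h)) p.2.2.2
        rwa [show (a * p.1.1 * w h)⁻¹ * (a * p.1.1 * p.1.2) = (w h)⁻¹ * p.1.2 by group] at this
      · show w h * ((w h)⁻¹ * p.1.2) = p.1.2
        group⟩
  rw [← Nat.card_prod, ← Nat.card_prod]
  exact Nat.card_congr (E1.trans E2.symm)

end Cfsg.Agent.S2669
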