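import Cfsg.Statements.S2673
import Cfsg.Agent.Lib.Classical.OrthPrimeOrderClasses
-- import your own Cfsg.Agent.* helpers here

set_option autoImplicit false
open Cfsg Cfsg.Agent

namespace Cfsg.Agent.S2673
open SelfReciprocalFactors OrthPrimeOrderClasses Cfsg.Agent.Classical

theorem ctx {F : Type*} [Field F] [Fintype F] {p q r i t : ℕ} [Fact p.Prime] [CharP F p] (hF : Fintype.card F = q)
    (hr : r.Prime) (hr2 : r ≠ 2) (hrp : r ≠ p) (hi : i = orderOf (q : ZMod r)) (ht : t * i = r - 1) :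
    Ctx F r i t := by
  subst hF
  exact ⟨hr, hr2, fun h => hrp
    ((Nat.prime_dvd_prime_iff_eq (Fact.out : p.Prime) hr).1 ((CharP.cast_eq_zero_iff F p r).1 h)).symm, hi, ht⟩

theorem t_pos {F : Type*} [Field F] [Fintype F] {r i t : ℕ} (h : Ctx F r i t) : 1 ≤ t ∧ (Odd i → 1 ≤ t / 2) := by
  have h2 := h.prime.odd_of_ne_two h.odd
  have hr := h.prime.two_le
  have ht := h.ht
  obtain ⟨a, ha⟩ := h2
  have hte : t * i = 2 * a := by omega
  have h1 : 1 ≤ t := Nat.pos_of_ne_zero fun h0 => by rw [h0, zero_mul] at hte; omega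
  refine ⟨h1, fun hio => ?_⟩
  have : Even (t * i) := hte ▸ even_two_mul a
  rw [Nat.even_mul] at this
  obtain ⟨b, hb⟩ := this.resolve_right (Nat.not_even_iff_odd.2 hio)
  omega

theorem dvd_half {i m : ℕ} (hi : 0 < i) : i ∣ m ↔ i ∣ 2 * m ∧ Even (2 * m / i) := by
  constructor
  · rintro ⟨k, rfl⟩
    refine ⟨⟨2 * k, by ring⟩, ?_⟩
    rw [show 2 * (i * k) = i * (2 * k) by ring, Nat.mul_div_cancel_left _ hi]
    exact even_two_mul k
  · rintro ⟨⟨k, hk⟩, he⟩
    rw [hk, Nat.mul_div_cancel_left _ hi] at he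
    obtain ⟨w, rfl⟩ := he
    refine ⟨w, ?_⟩
    rw [show i * (w + w) = 2 * (i * w) by ring] at hk
    omega


/-- Number of conjugacy classes of elements of odd prime order r ≠ p in the orthogonal group O_(2m+1)(q) of x_0² + Σ x_j y_j, q odd: with i the multiplicative order of q mod r and t = (r − 1)/i, there are C(⌊m/i⌋ + t/2, t/2) − 1 classes if i is odd (dual pairs of totally singular i-blocks) and C(⌊(2m+1)/i⌋ + t, t) − 1 if i is even (elliptic i-blocks). -/
theorem result {F : Type*} [Field F] [Fintype F] {p q : ℕ} [Fact p.Prime] [CharP F p] (hF : Fintype.card F = q) (hq : Odd q) (m r i t : ℕ) (hr : r.Prime) (hr2 : r ≠ 2) (hrp : r ≠ p) (hi : i = orderOf (q : ZMod r)) (ht : t * i = r - 1) : Nat.card {C : ConjClasses ↥(Cfsg.isometryGroup F (Cfsg.quadFormOdd m F)) // ∃ g : ↥(Cfsg.isometryGroup F (Cfsg.quadFormOdd m F)), ConjClasses.mk g = C ∧ orderOf g = r} = if Odd i then Nat.choose (m / i + t / 2) (t / 2) - 1 else Nat.choose ((2 * m + 1) / i + t) t - 1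 := by

  classical
  have h := ctx hF hr hr2 hrp hi ht
  have h2 : (2 : F) ≠ 0 := by
    intro h2
    have : ringChar F = 2 := ringChar.eq_iff.2 ((CharP.charP_iff_prime_eq_zero Nat.prime_two).2 (by exact_mod_cast h2))
    have := FiniteField.even_card_iff_char_two.1 this
    rw [hF] at this
    exact Nat.not_even_iff_odd.2 hq (Nat.even_iff.2 this)
  rw [← coe_qfOdd, natCard_order h _ (nondegenerate_qfOdd m h2), spec_odd h h2 m, ncard_selfRecip h,
    show (2 * m + 1) / (2 * i) = m / i by rw [← Nat.div_div_eq_div_mul, show (2 * m + 1) / 2 = m by omega]]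
  rcases Nat.even_or_odd i with he | ho
  · rw [if_pos he, if_neg (Nat.not_odd_iff_even.2 he)]
  · rw [if_neg (Nat.not_even_iff_odd.2 ho), if_pos ho]

end Cfsg.Agent.S2673
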