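import Cfsg.Statements.S2674
import Cfsg.Agent.Lib.Classical.OrthPrimeOrderClasses
-- import your own Cfsg.Agent.* helpers here

set_option autoImplicit false
open Cfsg Cfsg.Agent

namespace Cfsg.Agent.S2674
open SelfReciprocalFactors OrthPrimeOrderClasses Cfsg.Agent.Classical

theorem ctx {F : Type*} [Field F] [Fintype F] {p q r i t : ℕ} [Fact p.Prime] [CharP F p] (hF : Fintype.card F = q)
    (hr : r.Prime) (hr2 : r ≠ 2) (hrp : r ≠ p) (hi : i = orderOf (q : ZMod r)) (ht : t * i = r - 1) :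
    Ctx F r i t := by
  subst hF
  exact ⟨hr, hr2, fun h => hrp
    ((Nat.prime_dvd_prime_iff_eq (Fact.out : p.Prime) hr).1 ((CharP.cast_eq_zero_iff F p r).1 h)).symm, hi, ht⟩

theorem t_pos {F : Type*} [Field F] [Fintype F] {r i t : ℕ} (h : Ctx F r i t) : 1 ≤ t ∧ (Odd i → 1 ≤ t / 2) := by
  have h2 := h.prime.odd_of_ne_two h.odd
  have hr := h.prime.two_le
  have ht := h.ht
  obtain ⟨a, ha⟩ := h2
  have hte : t * i = 2 * a := by omega
  have h1 : 1 ≤ t := Nat.pos_of_ne_zero fun h0 => by rw [h0, zero_mul] at hte; omega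
  refine ⟨h1, fun hio => ?_⟩
  have : Even (t * i) := hte ▸ even_two_mul a
  rw [Nat.even_mul] at this
  obtain ⟨b, hb⟩ := this.resolve_right (Nat.not_even_iff_odd.2 hio)
  omega

theorem dvd_half {i m : ℕ} (hi : 0 < i) : i ∣ m ↔ i ∣ 2 * m ∧ Even (2 * m / i) := by
  constructor
  · rintro ⟨k, rfl⟩
    refine ⟨⟨2 * k, by ring⟩, ?_⟩
    rw [show 2 * (i * k) = i * (2 * k) by ring, Nat.mul_div_cancel_left _ hi]
    exact even_two_mul k
  · rintro ⟨⟨k, hk⟩, he⟩
    rw [hk, Nat.mul_div_cancel_left _ hi] at he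
    obtain ⟨w, rfl⟩ := he
    refine ⟨w, ?_⟩
    rw [show i * (w + w) = 2 * (i * w) by ring] at hk
    omega


/-- Number of conjugacy classes of elements of odd prime order r ≠ p in the orthogonal group O⁺_2m(q) of Σ x_j y_j (m ≥ 1): with i the multiplicative order of q mod r and t = (r − 1)/i — if i is odd, C(⌊m/i⌋ + t/2, t/2) − 1; if i is even, C(⌊2m/i⌋ + t, t) − 1 minus, when i divides 2m with odd quotient, the C(2m/i + t − 1, t − 1) tuples using the whole space (an odd number of elliptic i-blocks fills an elliptic, not a hyperbolic, space). -/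
theorem result {F : Type*} [Field F] [Fintype F] {p q : ℕ} [Fact p.Prime] [CharP F p] (hF : Fintype.card F = q) (m r i t : ℕ) (hm : 1 ≤ m) (hr : r.Prime) (hr2 : r ≠ 2) (hrp : r ≠ p) (hi : i = orderOf (q : ZMod r)) (ht : t * i = r - 1) : Nat.card {C : ConjClasses ↥(Cfsg.isometryGroup F (Cfsg.quadFormPlus m F)) // ∃ g : ↥(Cfsg.isometryGroup F (Cfsg.quadFormPlus m F)), ConjClasses.mk g = C ∧ orderOf g = r} = if Odd i then Nat.choose (m / i + t / 2) (t / 2) - 1 else Nat.choose (2 * m / i + t) t - 1 - (if i ∣ 2 * m ∧ Odd (2 * m / i) then Nat.choose (2 * m / i + t - 1) (t - 1) else 0) := by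

  classical
  have h := ctx hF hr hr2 hrp hi ht
  have hi0 := i_pos h
  obtain ⟨ht1, ht2⟩ := t_pos h
  rw [← coe_qfPlus, natCard_order h _ (nondegenerate_qfPlus m),
    ncard_spec_even h hm (by simp; omega) _ (nondegenerate_qfPlus m)]
  have hs : sgn r (qfPlus m F) = 1 := by
    obtain ⟨U, hU, hUr⟩ := exists_singular_plus (F := F) m
    exact if_pos ⟨U, hU, by rw [hUr, Module.finrank_pi]; simp; omega⟩
  simp only [hs, show (Fintype.card F : ZMod r) ^ m = 1 ↔ i ∣ m by rw [← orderOf_dvd_iff_pow_eq_one, ← h.hi]]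
  rcases Nat.even_or_odd i with he | ho
  · rw [if_neg (Nat.not_odd_iff_even.2 he)]
    by_cases hd : i ∣ m
    · rw [if_pos hd, ncard_selfRecip h, if_pos he,
        if_neg (fun hh => Nat.not_odd_iff_even.2 ((dvd_half hi0).1 hd).2 hh.2), Nat.sub_zero]
    · rw [if_neg hd, ncard_selfRecip h, if_pos he, choose_pred hi0 (by omega) ht1]
      by_cases hd2 : i ∣ 2 * m
      · rw [if_pos hd2, if_pos ⟨hd2, Nat.not_even_iff_odd.1 fun hev => hd ((dvd_half hi0).2 ⟨hd2, hev⟩)⟩]
        omega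
      · rw [if_neg hd2, if_neg (fun hh => hd2 hh.1)]; simp
  · rw [if_pos ho]
    by_cases hd : i ∣ m
    · rw [if_pos hd, ncard_selfRecip h, if_neg (Nat.not_even_iff_odd.2 ho), Nat.mul_div_mul_left _ _ two_pos]
    · rw [if_neg hd, ncard_selfRecip h, if_neg (Nat.not_even_iff_odd.2 ho), choose_pred (by omega) (by omega) (ht2 ho),
        if_neg (fun hh => hd (Nat.dvd_of_mul_dvd_mul_left two_pos hh)), Nat.sub_zero,
        Nat.mul_div_mul_left _ _ two_pos]

end Cfsg.Agent.S2674
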