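import Cfsg.Statements.S2675
import Cfsg.Agent.Lib.Classical.OrthPrimeOrderClasses
-- import your own Cfsg.Agent.* helpers here

set_option autoImplicit false
open Cfsg Cfsg.Agent

namespace Cfsg.Agent.S2675
open SelfReciprocalFactors OrthPrimeOrderClasses Cfsg.Agent.Classical

theorem ctx {F : Type*} [Field F] [Fintype F] {p q r i t : ℕ} [Fact p.Prime] [CharP F p] (hF : Fintype.card F = q)
    (hr : r.Prime) (hr2 : r ≠ 2) (hrp : r ≠ p) (hi : i = orderOf (q : ZMod r)) (ht : t * i = r - 1) :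
    Ctx F r i t := by
  subst hF
  exact ⟨hr, hr2, fun h => hrp
    ((Nat.prime_dvd_prime_iff_eq (Fact.out : p.Prime) hr).1 ((CharP.cast_eq_zero_iff F p r).1 h)).symm, hi, ht⟩

theorem t_pos {F : Type*} [Field F] [Fintype F] {r i t : ℕ} (h : Ctx F r i t) : 1 ≤ t ∧ (Odd i → 1 ≤ t / 2) := by
  have h2 := h.prime.odd_of_ne_two h.odd
  have hr := h.prime.two_le
  have ht := h.ht
  obtain ⟨a, ha⟩ := h2
  have hte : t * i = 2 * a := by omega
  have h1 : 1 ≤ t := Nat.pos_of_ne_zero fun h0 => by rw [h0, zero_mul] at hte; omega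
  refine ⟨h1, fun hio => ?_⟩
  have : Even (t * i) := hte ▸ even_two_mul a
  rw [Nat.even_mul] at this
  obtain ⟨b, hb⟩ := this.resolve_right (Nat.not_even_iff_odd.2 hio)
  omega

theorem dvd_half {i m : ℕ} (hi : 0 < i) : i ∣ m ↔ i ∣ 2 * m ∧ Even (2 * m / i) := by
  constructor
  · rintro ⟨k, rfl⟩
    refine ⟨⟨2 * k, by ring⟩, ?_⟩
    rw [show 2 * (i * k) = i * (2 * k) by ring, Nat.mul_div_cancel_left _ hi]
    exact even_two_mul k
  · rintro ⟨⟨k, hk⟩, he⟩
    rw [hk, Nat.mul_div_cancel_left _ hi] at he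
    obtain ⟨w, rfl⟩ := he
    refine ⟨w, ?_⟩
    rw [show i * (w + w) = 2 * (i * w) by ring] at hk
    omega


/-- Number of conjugacy classes of elements of odd prime order r ≠ p in the orthogonal group O⁻_2m(q) of an elliptic form Σ_(j<m−1) x_j y_j + z₁² + a z₁z₂ + c z₂² (binary part anisotropic, m ≥ 1): with i the multiplicative order of q mod r and t = (r − 1)/i — if i is odd, C(⌊m/i⌋ + t/2, t/2) − 1 minus, when i divides m, the C(m/i + t/2 − 1, t/2 − 1) tuples filling the whole space (dual pairs of totally singular blocks fill a hyperbolic space); if i is even, C(⌊2m/i⌋ + t, t) − 1 minus, when i divides 2m with even quotient, the C(2m/i + t − 1, t − 1) tuples filling the whole space with an even number of elliptic blocks. -/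
theorem result {F : Type*} [Field F] [Fintype F] {p q : ℕ} [Fact p.Prime] [CharP F p] (hF : Fintype.card F = q) (m r i t : ℕ) (hm : 1 ≤ m) (a c : F) (hac : ∀ z₁ z₂ : F, z₁ ^ 2 + a * z₁ * z₂ + c * z₂ ^ 2 = 0 → z₁ = 0 ∧ z₂ = 0) (hr : r.Prime) (hr2 : r ≠ 2) (hrp : r ≠ p) (hi : i = orderOf (q : ZMod r)) (ht : t * i = r - 1) : Nat.card {C : ConjClasses ↥(Cfsg.isometryGroup F (Cfsg.quadFormMinus (m - 1) F a c)) // ∃ g : ↥(Cfsg.isometryGroup F (Cfsg.quadFormMinus (m - 1) F a c)), ConjClasses.mk g = C ∧ orderOf g = r} = if Odd i then Nat.choose (m / i + t / 2) (t / 2) - 1 - (if i ∣ m then Nat.choose (m / i + t / 2 - 1) (t / 2 - 1) else 0) else Nat.choose (2 * m / i + t) t - 1 - (if i ∣ 2 * m ∧ Even (2 * m / i) then Nat.choose (2 * m / i + t - 1) (t - 1) else 0) := by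

  classical
  have h := ctx hF hr hr2 hrp hi ht
  have hi0 := i_pos h
  obtain ⟨ht1, ht2⟩ := t_pos h
  rw [← coe_qfMinus, natCard_order h _ (nondegenerate_qfMinus (m - 1) hac),
    ncard_spec_even h hm (by simp; omega) _ (nondegenerate_qfMinus (m - 1) hac)]
  have hs : sgn r (qfMinus (m - 1) F a c) = -1 := by
    refine if_neg ?_
    rintro ⟨U, hU, hUd⟩
    have := singular_finrank_le_minus (m - 1) hac U hU
    rw [Module.finrank_pi] at hUd
    simp at hUd
    omega
  haveI := Fact.mk hr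
  set x := (Fintype.card F : ZMod r)
  have hxi : x ^ i = 1 := h.hi ▸ pow_orderOf_eq_one x
  have hne : (1 : ZMod r) ≠ -1 := fun e => hr2 ((Nat.prime_dvd_prime_iff_eq hr Nat.prime_two).1
    ((ZMod.natCast_eq_zero_iff _ _).1 (by push_cast; linear_combination e)))
  have hdiv : ∀ k, x ^ k = 1 ↔ i ∣ k := fun k => by rw [← orderOf_dvd_iff_pow_eq_one, ← h.hi]
  have hcond : x ^ m = -1 ↔ i ∣ 2 * m ∧ ¬ i ∣ m := by
    constructor
    · intro e
      exact ⟨(hdiv _).1 (by rw [mul_comm, pow_mul, e, neg_one_sq]), fun hd => hne (((hdiv m).2 hd).symm.trans e)⟩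
    · rintro ⟨h1, h2⟩
      refine (mul_self_eq_one_iff.1 ?_).resolve_left fun e => h2 ((hdiv m).1 e)
      rw [← pow_add, ← two_mul]
      exact (hdiv _).2 h1
  simp only [hs, hcond]
  rcases Nat.even_or_odd i with he | ho
  · rw [if_neg (Nat.not_odd_iff_even.2 he)]
    by_cases hd : i ∣ 2 * m ∧ ¬ i ∣ m
    · rw [if_pos hd, ncard_selfRecip h, if_pos he, if_neg (fun hh => hd.2 ((dvd_half hi0).2 hh)), Nat.sub_zero]
    · rw [if_neg hd, ncard_selfRecip h, if_pos he, choose_pred hi0 (by omega) ht1]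
      by_cases hd2 : i ∣ 2 * m
      · rw [if_pos hd2, if_pos ((dvd_half hi0).1 (not_not.1 fun hn => hd ⟨hd2, hn⟩))]
        omega
      · rw [if_neg hd2, if_neg (fun hh => hd2 hh.1)]; simp
  · have hd : ¬ (i ∣ 2 * m ∧ ¬ i ∣ m) := fun hd =>
      hd.2 ((Nat.coprime_two_right.2 ho).dvd_of_dvd_mul_left hd.1)
    rw [if_pos ho, if_neg hd, ncard_selfRecip h, if_neg (Nat.not_even_iff_odd.2 ho),
      choose_pred (by omega) (by omega) (ht2 ho), Nat.mul_div_mul_left _ _ two_pos]
    by_cases hdm : i ∣ m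
    · rw [if_pos hdm, if_pos (Nat.mul_dvd_mul_left 2 hdm)]
      omega
    · rw [if_neg hdm, if_neg (fun hh => hdm (Nat.dvd_of_mul_dvd_mul_left two_pos hh))]; simp

end Cfsg.Agent.S2675
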