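import Cfsg.Statements.S2677
import Cfsg.Agent.Lib.Classical.UnitFieldAut
-- import your own Cfsg.Agent.* helpers here

set_option autoImplicit false
open Cfsg Cfsg.Agent Cfsg.Agent.Classical Cfsg.Agent.Classical.PSUAut

namespace Cfsg.Agent.S2677

/-- Centraliser of a field automorphism of odd prime order in PGU_n(q): let q = q₀^r with r an odd prime, K the field with q² elements and σ a field automorphism of K of order r (fixed field of order q₀²). The elements g of GU_n(q) whose entrywise image under σ is a scalar multiple of g — those whose coset modulo the q + 1 unitary scalars is fixed by σ — number (q + 1)/(q₀ + 1) · |GU_n(q₀)|; equivalently the centraliser in PGU_n(q) of the induced automorphism has the order of PGU_n(q₀). -/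
theorem result {K : Type*} [Field K] [Fintype K] {q₀ q r n : ℕ} (hr : r.Prime) (hr2 : r ≠ 2) (hn : 1 ≤ n) (hq : q = q₀ ^ r) (hK : Fintype.card K = q ^ 2) (σ : K ≃+* K) (hσ : orderOf σ = r) : (Nat.card {g : ↥(Cfsg.GU n K q) // ∃ c : K, c ≠ 0 ∧ ((g : GL (Fin n) K) : Matrix (Fin n) (Fin n) K).map σ = c • ((g : GL (Fin n) K) : Matrix (Fin n) (Fin n) K)} : ℤ) = ((q + 1) / (q₀ + 1) : ℕ) * ((q₀ : ℤ) ^ (n * (n - 1) / 2) * ∏ i : Fin n, ((q₀ : ℤ) ^ ((i : ℕ) + 1) - (-1) ^ ((i : ℕ) + 1))) := by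
  classical
  haveI : Nonempty (Fin n) := ⟨⟨0, hn⟩⟩
  obtain ⟨p, hp⟩ := CharP.exists K
  haveI : CharP K p := hp
  haveI : Fact p.Prime := ⟨CharP.char_is_prime K p⟩
  obtain ⟨e, -, he⟩ := FiniteField.card K p
  obtain ⟨a, -, hq₀⟩ : ∃ a, a ≤ (e : ℕ) ∧ q₀ = p ^ a := (Nat.dvd_prime_pow Fact.out).1
    (by rw [← he, hK, hq, ← pow_mul]; exact dvd_pow_self q₀ (mul_ne_zero hr.ne_zero two_ne_zero))
  subst hq₀
  have hqf : q = p ^ (a * r) := by rw [hq, ← pow_mul]
  have h2q := two_le_q hK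
  have ha : a ≠ 0 := fun e0 => by rw [hqf, e0, zero_mul, pow_zero] at h2q; omega
  let F₀ := GaloisField p (2 * a)
  letI : Fintype F₀ := Fintype.ofFinite F₀
  have hF₀ : Fintype.card F₀ = (p ^ a) ^ 2 := by
    rw [← Nat.card_eq_fintype_card, GaloisField.card p (2 * a) (by omega), ← pow_mul, mul_comm]
  have hro : Odd r := hr.odd_of_ne_two hr2
  have hfr : a * r / r = a := Nat.mul_div_cancel a hr.pos
  obtain ⟨-, j, hj, hjq⟩ := exists_datum (σ := σ) hqf hK hr hro hσ F₀ (by rw [hfr]; exact hF₀)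
  rw [hfr] at hjq
  let N : Subgroup Kˣ := (powMonoidHom (q + 1) : Kˣ →* Kˣ).ker
  have hN : ∀ u : Kˣ, u ∈ N ↔ (u : K) * qFrob hK (u : K) = 1 := fun u => by
    rw [MonoidHom.mem_ker, powMonoidHom_apply, qFrob_apply, ← pow_succ', ← Units.val_pow_eq_pow_val,
      Units.val_eq_one]
  let sN : N →* GU n K q := ((Matrix.GeneralLinearGroup.scalar (Fin n)).comp N.subtype).codRestrict _ fun μ => by
    refine mem_GU.2 fun u v => ?_
    show hermForm n K q ((Matrix.GeneralLinearGroup.scalar (Fin n) (μ : Kˣ) : Matrix (Fin n) (Fin n) K).mulVec u)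
      ((Matrix.GeneralLinearGroup.scalar (Fin n) (μ : Kˣ) : Matrix (Fin n) (Fin n) K).mulVec v) = _
    rw [sc_coe, Matrix.smul_mulVec, Matrix.smul_mulVec, Matrix.one_mulVec, Matrix.one_mulVec, h_smul_left,
      h_smul_right hK, ← mul_assoc, (hN _).1 μ.2, one_mul]
  have hcomm : ∀ (μ : N) (g : GU n K q), Commute (sN μ) g := fun μ g => Subtype.ext (Units.ext (by
    show ((Matrix.GeneralLinearGroup.scalar (Fin n) (μ : Kˣ) : GL (Fin n) K) : Matrix (Fin n) (Fin n) K) * _ =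
      _ * ((Matrix.GeneralLinearGroup.scalar (Fin n) (μ : Kˣ) : GL (Fin n) K) : Matrix (Fin n) (Fin n) K)
    rw [sc_coe, Matrix.smul_mul, Matrix.one_mul, Matrix.mul_smul, Matrix.mul_one]))
  let Φ : N × GU n F₀ (p ^ a) →* GU n K q := MonoidHom.noncommCoprod sN (guEmb hK hF₀ j hjq) fun μ k => hcomm μ _
  have hΦ : ∀ μ k, ((Φ (μ, k) : GU n K q) : GL (Fin n) K) =
      Matrix.GeneralLinearGroup.scalar (Fin n) (μ : Kˣ) * Matrix.GeneralLinearGroup.map j (k : GL (Fin n) F₀) :=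
    fun μ k => rfl
  have hset : ∀ g : GU n K q, (∃ c : K, c ≠ 0 ∧ ((g : GL (Fin n) K) : Matrix (Fin n) (Fin n) K).map σ =
      c • ((g : GL (Fin n) K) : Matrix (Fin n) (Fin n) K)) ↔ g ∈ Φ.range := by
    intro g
    constructor
    · rintro ⟨c, hc, hgc⟩
      have hg : Descent.gmap σ (g : GL (Fin n) K) =
          Matrix.GeneralLinearGroup.scalar (Fin n) (Units.mk0 c hc) * (g : GL (Fin n) K) := by
        refine Units.ext ?_
        rw [Units.val_mul, sc_coe, Matrix.smul_mul, Matrix.one_mul, Units.val_mk0]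
        exact hgc
      obtain ⟨μ, k, hgk⟩ := exists_of_fixed hK hF₀ j hj hjq hn hg
      have hμ : μ ∈ N := by
        refine (hN μ).2 ?_
        have h1 := mem_GU.1 g.2 (Pi.single ⟨0, hn⟩ 1) (Pi.single ⟨0, hn⟩ 1)
        rw [hgk, Units.val_mul, sc_coe, Matrix.smul_mul, Matrix.one_mul, Matrix.smul_mulVec,
          h_smul_left, h_smul_right hK, mem_GU.1 (guEmb hK hF₀ j hjq k).2, hermForm_single_right hK,
          Pi.single_eq_same, mul_one] at h1
        exact h1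
      exact ⟨(⟨μ, hμ⟩, k), Subtype.ext (by rw [hΦ, hgk]; rfl)⟩
    · rintro ⟨⟨μ, k⟩, rfl⟩
      refine ⟨σ ((μ : Kˣ) : K) / ((μ : Kˣ) : K), div_ne_zero ((map_ne_zero σ).2 (μ : Kˣ).ne_zero) (μ : Kˣ).ne_zero, ?_⟩
      rw [hΦ, Units.val_mul, sc_coe, Matrix.smul_mul, Matrix.one_mul, smul_smul, div_mul_cancel₀ _ (μ : Kˣ).ne_zero]
      ext i l
      show σ (((μ : Kˣ) : K) * j _) = σ ((μ : Kˣ) : K) * j _
      rw [map_mul, (hj _).2 ⟨_, rfl⟩]
  rw [Nat.card_congr (Equiv.subtypeEquivRight hset)]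
  have hkey := Φ.ker.card_mul_index
  rw [Subgroup.index_ker, Nat.card_prod] at hkey
  let N₀ : Subgroup F₀ˣ := (powMonoidHom (p ^ a + 1) : F₀ˣ →* F₀ˣ).ker
  have hN₀ : ∀ z : F₀ˣ, z ∈ N₀ ↔ (z : F₀) * qFrob hF₀ (z : F₀) = 1 := fun u => by
    rw [MonoidHom.mem_ker, powMonoidHom_apply, qFrob_apply, ← pow_succ', ← Units.val_pow_eq_pow_val,
      Units.val_eq_one]
  have hjN : ∀ z : N₀, Units.map (j : F₀ →* K) (z : F₀ˣ) ∈ N := fun z => by
    refine (hN _).2 ?_
    show j _ * qFrob hK (j _) = 1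
    have e1 := congrArg j ((hN₀ _).1 z.2)
    rw [map_mul, qFrob_apply, ← hjq, map_one] at e1
    rwa [qFrob_apply]
  let sc₀ : N₀ → GU n F₀ (p ^ a) := fun z => ⟨Matrix.GeneralLinearGroup.scalar (Fin n) (z : F₀ˣ), mem_GU.2 fun u v => by
    rw [sc_coe, Matrix.smul_mulVec, Matrix.smul_mulVec, Matrix.one_mulVec, Matrix.one_mulVec, h_smul_left,
      h_smul_right hF₀, ← mul_assoc, (hN₀ _).1 z.2, one_mul]⟩
  have hkmem : ∀ z : N₀, ((⟨_, hjN z⟩ : N)⁻¹, sc₀ z) ∈ Φ.ker := fun z => Subtype.ext (Units.ext (by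
    rw [hΦ, Units.val_mul, sc_coe, Matrix.smul_mul, Matrix.one_mul]
    ext i l
    by_cases hil : i = l <;> simp [sc₀, hil, Units.val_inv_eq_inv_val]))
  have hker : Nat.card Φ.ker = p ^ a + 1 := by
    rw [← natCard_normOne hF₀]
    refine (Nat.card_eq_of_bijective (fun z : N₀ => (⟨_, hkmem z⟩ : Φ.ker)) ⟨fun z z' e1 => ?_, fun x => ?_⟩).symm
    · have e2 := congrArg (fun x : Φ.ker => ((x : N × GU n F₀ (p ^ a)).1 : Kˣ)) e1
      exact Subtype.ext (Units.map_injective j.injective (inv_injective e2))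
    · obtain ⟨⟨μ, k⟩, hx⟩ := x
      have hval : ((μ : Kˣ) : K) • ((k : GL (Fin n) F₀) : Matrix (Fin n) (Fin n) F₀).map j = 1 := by
        have h1 : Φ (μ, k) = 1 := hx
        have h2 := congrArg (fun g : GU n K q => ((g : GL (Fin n) K) : Matrix (Fin n) (Fin n) K)) h1
        simp only [hΦ, Units.val_mul, sc_coe, Matrix.smul_mul, Matrix.one_mul, OneMemClass.coe_one, Units.val_one] at h2
        exact h2
      let i₀ : Fin n := ⟨0, hn⟩
      set z := ((k : GL (Fin n) F₀) : Matrix (Fin n) (Fin n) F₀) i₀ i₀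
      have hz : ((μ : Kˣ) : K) * j z = 1 := by simpa using congrFun (congrFun hval i₀) i₀
      have hz0 : z ≠ 0 := fun e0 => by rw [e0, map_zero, mul_zero] at hz; exact zero_ne_one hz
      have hkz : ((k : GL (Fin n) F₀) : Matrix (Fin n) (Fin n) F₀) = z • (1 : Matrix (Fin n) (Fin n) F₀) := by
        refine Matrix.map_injective j.injective (smul_right_injective _ (μ : Kˣ).ne_zero (hval.trans ?_))
        show (1 : Matrix (Fin n) (Fin n) K) = _
        ext i l
        by_cases hil : i = l <;> simp [hil, hz, Matrix.one_apply]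
      have hzN : Units.mk0 z hz0 ∈ N₀ := by
        refine (hN₀ _).2 (j.injective ?_)
        have e1 := (hN (μ : Kˣ)).1 μ.2
        rw [qFrob_apply] at e1
        rw [Units.val_mk0, map_mul, qFrob_apply, ← hjq, map_one]
        rw [eq_inv_of_mul_eq_one_left hz, inv_pow, ← mul_inv, inv_eq_one] at e1
        exact e1
      refine ⟨⟨Units.mk0 z hz0, hzN⟩, Subtype.ext (Prod.ext (Subtype.ext (Units.ext ?_)) (Subtype.ext (Units.ext ?_)))⟩
      · show (((Units.map (j : F₀ →* K) (Units.mk0 z hz0))⁻¹ : Kˣ) : K) = ((μ : Kˣ) : K)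
        rw [Units.val_inv_eq_inv_val]
        exact (eq_inv_of_mul_eq_one_left hz).symm
      · show ((Matrix.GeneralLinearGroup.scalar (Fin n) (Units.mk0 z hz0) : GL (Fin n) F₀) : Matrix (Fin n) (Fin n) F₀) = _
        rw [sc_coe, hkz, Units.val_mk0]
  have hNc : Nat.card N = q + 1 := natCard_normOne hK
  rw [hker, hNc] at hkey
  obtain ⟨w, hw⟩ : p ^ a + 1 ∣ q + 1 := by
    have := hro.nat_add_dvd_pow_add_pow (p ^ a) 1
    rwa [one_pow, ← hq] at this
  rw [hw, Nat.mul_div_cancel_left w (Nat.succ_pos _)]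
  rw [hw, mul_assoc] at hkey
  rw [Nat.eq_of_mul_eq_mul_left (Nat.succ_pos _) hkey, Nat.cast_mul, order_GU hF₀, Finset.prod_range]
  congr 2
  refine Finset.prod_congr rfl fun i _ => ?_
  ring

end Cfsg.Agent.S2677
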