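import Cfsg.Statements.S2678
import Cfsg.Agent.Lib.Classical.QuadRes
-- import your own Cfsg.Agent.* helpers here

set_option autoImplicit false
open Cfsg

namespace Cfsg.Agent.S2678
open Matrix Cfsg.Agent.Classical.QuadRes

/-- Field-extension embedding of symplectic groups: for a field K with q² elements and a field F with q elements there is an injective homomorphism Sp_2a(K) → Sp_4a(F). -/
theorem result {K F : Type*} [Field K] [Fintype K] [Field F] [Fintype F] {q : ℕ} (hK : Fintype.card K = q ^ 2) (hF : Fintype.card F = q) (a : ℕ) : ∃ φ : ↥(Matrix.symplecticGroup (Fin a) K) →* ↥(Matrix.symplecticGroup (Fin (2 * a)) F), Function.Injective φ := by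
  classical
  obtain ⟨D, -⟩ := exists_quad hK hF
  let I := Fin a ⊕ Fin a
  let e : (Fin a ⊕ Fin a) × Fin 2 ≃ Fin (2 * a) ⊕ Fin (2 * a) :=
    (Equiv.sumProdDistrib _ _ _).trans (Equiv.sumCongr (finProdFinEquiv.trans (finCongr (mul_comm a 2)))
      (finProdFinEquiv.trans (finCongr (mul_comm a 2))))
  let d : (Fin a ⊕ Fin a) × Fin 2 → F := fun x => if x.1.isLeft ∧ x.2 = 0 then D.t⁻¹ else 1
  have hd : ∀ x, d x ≠ 0 := fun x => by
    simp only [d]; split
    · exact inv_ne_zero D.t_ne
    · exact one_ne_zero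
  set C : Matrix ((Fin a ⊕ Fin a) × Fin 2) ((Fin a ⊕ Fin a) × Fin 2) F := Matrix.diagonal d with hC
  set C' : Matrix ((Fin a ⊕ Fin a) × Fin 2) ((Fin a ⊕ Fin a) × Fin 2) F := Matrix.diagonal fun x => (d x)⁻¹ with hC'
  have hC'C : C' * C = 1 := by
    rw [hC, hC', Matrix.diagonal_mul_diagonal]
    simp [hd]
  set G := Quad.blockConst (Matrix.J (Fin a) F) (!![D.t, 0; 0, 1] : Matrix (Fin 2) (Fin 2) F) with hG
  let E : Matrix ((Fin a ⊕ Fin a) × Fin 2) ((Fin a ⊕ Fin a) × Fin 2) F →+*
      Matrix (Fin (2 * a) ⊕ Fin (2 * a)) (Fin (2 * a) ⊕ Fin (2 * a)) F := reindexHom e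
  have hEt : ∀ X, (E X)ᵀ = E Xᵀ := fun X => rfl
  have hJ : E (C * G * C) = Matrix.J (Fin (2 * a)) F := by
    have hin : ∀ (i : Fin (2 * a)), ∃ (j : Fin a) (u : Fin 2), e.symm (.inl i) = (.inl j, u) :=
      fun i => ⟨_, _, rfl⟩
    have hinr : ∀ (i : Fin (2 * a)), ∃ (j : Fin a) (u : Fin 2), e.symm (.inr i) = (.inr j, u) :=
      fun i => ⟨_, _, rfl⟩
    have hinj : ∀ (i i' : Fin (2 * a)) (j j' : Fin a) (u u' : Fin 2),
        (e.symm (.inl i) = (.inl j, u) ∧ e.symm (.inr i') = (.inr j', u')) → (i = i' ↔ (j = j' ∧ u = u')) := by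
      rintro i i' j j' u u' ⟨h, h'⟩
      have h1 := congrArg e h
      have h2 := congrArg e h'
      rw [Equiv.apply_symm_apply] at h1 h2
      simp [e] at h1 h2
      rw [h1, h2]
      simp [Fin.ext_iff]
      constructor
      · intro hh
        have := congrArg (fun z => z % 2) hh
        simp at this
        have hu : u = u' := Fin.ext (by omega)
        subst hu
        exact ⟨Fin.val_injective (by omega) |> congrArg Fin.val, rfl⟩
      · rintro ⟨h1, h2⟩; omega
    ext x y
    show (C * G * C) (e.symm x) (e.symm y) = _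
    rw [hC, Matrix.mul_diagonal, Matrix.diagonal_mul]
    rcases x with i | i <;> rcases y with k | k
    · obtain ⟨j, u, h⟩ := hin i
      obtain ⟨j', u', h'⟩ := hin k
      rw [h, h']; simp [hG, Quad.blockConst, Matrix.J, Matrix.fromBlocks]
    · obtain ⟨j, u, h⟩ := hin i
      obtain ⟨j', u', h'⟩ := hinr k
      rw [h, h']
      have := hinj i k j j' u u' ⟨h, h'⟩
      simp [hG, d, Quad.blockConst, Matrix.J, Matrix.fromBlocks, Matrix.one_apply, this]
      fin_cases u <;> fin_cases u' <;> simp <;> split <;> simp_all [D.t_ne]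
    · obtain ⟨j, u, h⟩ := hinr i
      obtain ⟨j', u', h'⟩ := hin k
      rw [h, h']
      have this : i = k ↔ (j = j' ∧ u = u') :=
        eq_comm.trans ((hinj k i j' j u' u ⟨h', h⟩).trans (and_congr eq_comm eq_comm))
      simp [hG, d, Quad.blockConst, Matrix.J, Matrix.fromBlocks, Matrix.one_apply, this]
      fin_cases u <;> fin_cases u' <;> simp <;> split <;> simp_all [D.t_ne]
    · obtain ⟨j, u, h⟩ := hinr i
      obtain ⟨j', u', h'⟩ := hinr k
      rw [h, h']; simp [hG, Quad.blockConst, Matrix.J, Matrix.fromBlocks]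
  have hGC : C' * (C * G * C) * C' = G := by
    have hCC' : C * C' = 1 := mul_eq_one_comm.mp hC'C
    calc C' * (C * G * C) * C' = (C' * C) * G * (C * C') := by simp only [Matrix.mul_assoc]
      _ = G := by rw [hC'C, hCC', one_mul, mul_one]
  let ψ : Matrix (Fin a ⊕ Fin a) (Fin a ⊕ Fin a) K → Matrix (Fin (2 * a) ⊕ Fin (2 * a)) (Fin (2 * a) ⊕ Fin (2 * a)) F :=
    fun M => E (C * D.res _ M * C')
  have hmem : ∀ M ∈ Matrix.symplecticGroup (Fin a) K, ψ M ∈ Matrix.symplecticGroup (Fin (2 * a)) F := by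
    intro M hM
    rw [SymplecticGroup.mem_iff] at hM
    rw [SymplecticGroup.mem_iff, ← hJ, hEt, ← map_mul, ← map_mul]
    congr 1
    have key := Quad.res_congr D id (!![D.t, 0; 0, 1] : Matrix (Fin 2) (Fin 2) F) D.self_adjoint M (Matrix.J (Fin a) F)
      (fun k c => rfl) (fun i j => by
        have h := congrFun (congrFun hM i) j
        have hJm : ∀ x y, D.φ (Matrix.J (Fin a) F x y) = Matrix.J (Fin a) K x y := by
          intro x y
          rcases x with x | x <;> rcases y with y | y <;>
            simp [Matrix.J, Matrix.fromBlocks, Matrix.one_apply, apply_ite D.φ]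
        rw [hJm, ← h]
        simp only [Matrix.mul_apply, Matrix.transpose_apply, id, hJm, Finset.sum_mul]
        rw [Finset.sum_comm]
        exact Finset.sum_congr rfl fun x _ => Finset.sum_congr rfl fun y _ => by ring)
    rw [← hG] at key
    have hCt : Cᵀ = C := Matrix.diagonal_transpose d
    have hC't : C'ᵀ = C' := Matrix.diagonal_transpose _
    calc C * D.res _ M * C' * (C * G * C) * (C * D.res _ M * C')ᵀ
        = C * (D.res _ M * (C' * (C * G * C) * C') * (D.res _ M)ᵀ) * C := by
          rw [Matrix.transpose_mul, Matrix.transpose_mul, hCt, hC't]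
          simp only [Matrix.mul_assoc]
      _ = C * G * C := by rw [hGC, key]
  refine ⟨{ toFun := fun M => ⟨ψ M, hmem _ M.2⟩, map_one' := ?_, map_mul' := ?_ }, fun M N h => ?_⟩
  · refine Subtype.ext ?_
    show E (C * D.res _ 1 * C') = 1
    rw [map_one, mul_one, mul_eq_one_comm.mp hC'C, map_one]
  · intro M N
    refine Subtype.ext ?_
    show E (C * D.res _ (M.1 * N.1) * C') = E (C * D.res _ M.1 * C') * E (C * D.res _ N.1 * C')
    rw [← map_mul E, map_mul (D.res _)]
    congr 1
    calc C * (D.res _ M.1 * D.res _ N.1) * C' = C * D.res _ M.1 * (C' * C) * D.res _ N.1 * C' := by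
          rw [hC'C, mul_one]; simp only [Matrix.mul_assoc]
      _ = _ := by simp only [Matrix.mul_assoc]
  · have h1 : E (C * D.res _ M.1 * C') = E (C * D.res _ N.1 * C') := congrArg Subtype.val h
    have h2 : C * D.res _ M.1 * C' = C * D.res _ N.1 * C' := (Matrix.reindexAlgEquiv F F e).injective h1
    refine Subtype.ext (D.res_injective _ ?_)
    have h3 := congrArg (fun X => C' * X * C) h2
    calc D.res _ M.1 = (C' * C) * D.res _ M.1 * (C' * C) := by rw [hC'C, one_mul, mul_one]
      _ = C' * (C * D.res _ M.1 * C') * C := by simp only [Matrix.mul_assoc]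
      _ = C' * (C * D.res _ N.1 * C') * C := h3
      _ = (C' * C) * D.res _ N.1 * (C' * C) := by simp only [Matrix.mul_assoc]
      _ = _ := by rw [hC'C, one_mul, mul_one]

end Cfsg.Agent.S2678
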