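import Cfsg.Statements.S2686
import Cfsg.Agent.Lib.Classical.PSLLocalBalanceGraph
-- import your own Cfsg.Agent.* helpers here

set_option autoImplicit false
open Cfsg Cfsg.Agent.Classical Cfsg.Agent.Classical.PSLAut Cfsg.Agent.Classical.PSLBal

namespace Cfsg.Agent.S2686

/-- A criterion for the failure of local balance in almost simple groups with linear socle. Let F be a finite field of characteristic r and K = PSL_n(F) (n ≥ 2) simple. Let A be a group of automorphisms of K containing all inner automorphisms (an almost simple group with socle K), and β ∈ A an automorphism of prime order p ≠ r that is not inner-diagonal (not induced by conjugation by an invertible matrix). Then the largest normal subgroup of C_A(β) of order prime to p is nontrivial if and only if β is the composite of an inner-diagonal automorphism with the automorphism induced by a field automorphism applied entrywise (β is of field type) and p does not divide the number of fixed points of β on K. -/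
theorem result
    (F : Type*) [Field F] [Fintype F] (r : ℕ) [Fact r.Prime] [CharP F r] (n : ℕ) (hn : 2 ≤ n)
    (hK : IsSimpleGroup (Matrix.ProjectiveSpecialLinearGroup (Fin n) F))
    (𝒢 : Subgroup (MulAut (Matrix.ProjectiveSpecialLinearGroup (Fin n) F))) (hinn : ∀ k : Matrix.ProjectiveSpecialLinearGroup (Fin n) F, MulAut.conj k ∈ 𝒢)
    (p : ℕ) [Fact p.Prime] (hpr : p ≠ r) (β : MulAut (Matrix.ProjectiveSpecialLinearGroup (Fin n) F)) (hβ : β ∈ 𝒢) (hord : orderOf β = p)
    (hnot : ¬ Cfsg.IsInnerDiagonalAutPSL β) :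
    Cfsg.pPrimeCore p ↥(𝒢 ⊓ Subgroup.centralizer {β}) ≠ ⊥ ↔
      ((∃ γ φ : MulAut (Matrix.ProjectiveSpecialLinearGroup (Fin n) F), Cfsg.IsInnerDiagonalAutPSL γ ∧ Cfsg.IsFieldAutPSL φ ∧ β = φ.trans γ) ∧
        Nat.Coprime p (Nat.card ↥(MonoidHom.eqLocus β.toMonoidHom (MonoidHom.id (Matrix.ProjectiveSpecialLinearGroup (Fin n) F))))) := by
  classical
  haveI : NeZero n := ⟨by omega⟩
  obtain ⟨g, σ, ε, hrep⟩ := exists_rep (p := r) hn β
  obtain ⟨hε, hε2, he⟩ := hrep
  interval_cases ε
  · rw [pow_zero, mul_one] at he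
    subst he
    have hσ1 : σ ≠ 1 := fun h => hnot (innerDiag_iff.2 ⟨g, by rw [h]; rfl⟩)
    obtain ⟨hσp, y, hy⟩ := exists_conj_field hn Fact.out hσ1 hord
    rw [balance_field (p := r) hn hinn hpr (a := inndiagHom n F y) hy hord hnot]
    refine ⟨fun h => ⟨⟨pslSemi g (RingEquiv.refl F), pslSemi 1 σ, innerDiag_iff.2 ⟨g, rfl⟩,
      ⟨σ, fun s s' hs => ?_⟩, ?_⟩, h⟩, fun h => h.2⟩
    · show slToPSL n F (slSemi 1 σ s) = slToPSL n F s'
      refine congrArg _ (Subtype.ext ?_)
      simp [slSemi_coe, hs]
    · show (pslSemi g σ : MulAut _) = pslSemi g (RingEquiv.refl F) * pslSemi 1 σ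
      rw [pslSemi_refl_mul, mul_one]
  · rw [pow_one] at he
    have hn3 : 3 ≤ n := by
      by_contra h
      exact absurd (hε2 (by omega)) one_ne_zero
    have key : p = 2 ∧ Cfsg.pPrimeCore p ↥(𝒢 ⊓ Subgroup.centralizer {β}) = ⊥ := by
      have h2of : p = 2 → (2 : F) ≠ 0 := fun hp h2 => by
        have h := (CharP.cast_eq_zero_iff F r 2).1 (by exact_mod_cast h2)
        exact hpr (hp.trans ((Nat.prime_dvd_prime_iff_eq Fact.out Nat.prime_two).1 h).symm)
      by_cases hσ1 : σ = 1
      · subst hσ1
        have hg : β = grAut g := he.trans rfl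
        have hp2 : p = 2 := by
          refine (Fact.out : p.Prime).eq_two_or_odd'.resolve_right fun hodd => ?_
          obtain ⟨k, hk⟩ := hodd
          have h1 := pow_orderOf_eq_one β
          rw [hord, hk, pow_succ', pow_mul, sq, hg, grAut_sq, ← map_pow, grAut] at h1
          have h2 : (pslInvT : MulAut (Matrix.ProjectiveSpecialLinearGroup (Fin n) F)) =
              pslSemi (g⁻¹ * ((g * invT g) ^ k)⁻¹ * 1) (RingEquiv.refl F) := by
            rw [mul_one, ← inndiagHom_apply]
            have h3 : inndiagHom n F g * pslInvT = (inndiagHom n F ((g * invT g) ^ k))⁻¹ :=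
              eq_inv_of_mul_eq_one_left h1
            rw [map_mul, map_inv, map_inv, ← h3, inv_mul_cancel_left]
          exact pslInvT_ne_semi hn3 _ _ h2
        subst hp2
        exact ⟨rfl, by rw [hg] at hord hnot ⊢; exact balance_graph (p := r) hn3 hinn (h2of rfl) hord hnot⟩
      · rw [he] at hord hnot ⊢
        obtain ⟨hp2, hσ2, y, hy⟩ := exists_conj_graphField hn3 Fact.out hσ1 hord
        subst hp2
        exact ⟨rfl, balance_gf (p := r) hn3 hinn (h2of rfl) hσ2 (a := inndiagHom n F y) hy hord hnot⟩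
    refine ⟨fun h => absurd key.2 h, ?_⟩
    rintro ⟨⟨γ, φ, hγ, ⟨τ, hτ⟩, hb⟩, -⟩
    obtain ⟨g', rfl⟩ := innerDiag_iff.1 hγ
    have hφ : φ = pslSemi 1 τ := MulEquiv.ext fun x => by
      obtain ⟨s, rfl⟩ := slToPSL_surjective x
      exact hτ s _ (by simp [slSemi_coe])
    have hrep0 : Rep β g' τ 0 := ⟨zero_le_one, fun _ => rfl, by
      rw [pow_zero, mul_one, hb, hφ]
      show pslSemi g' (RingEquiv.refl F) * pslSemi 1 τ = _
      rw [pslSemi_refl_mul, mul_one]⟩
    exact absurd (Rep.unique hn ⟨le_rfl, fun h => absurd h (by omega), by rw [pow_one]; exact he⟩ hrep0).2.1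
      one_ne_zero

end Cfsg.Agent.S2686
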