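import Cfsg.Statements.S2687
import Cfsg.Agent.Lib.Classical.UnitLocalBalanceField
import Cfsg.Agent.Lib.Classical.UnitLocalBalanceGraph
-- import your own Cfsg.Agent.* helpers here

set_option autoImplicit false
open Cfsg Cfsg.Agent.Classical Cfsg.Agent.Classical.PSUAut Cfsg.Agent.Classical.PSUBal

namespace Cfsg.Agent.S2687

/-- A criterion for the failure of local balance in almost simple groups with unitary socle. Let F be a finite field of characteristic r with q² elements and K = PSU_n(q) (n ≥ 3, the central quotient of the determinant-one isometries of the standard Hermitian form) simple. Let A be a group of automorphisms of K containing all inner automorphisms, and β ∈ A an automorphism of prime order p ≠ r that is not inner-diagonal (not induced by conjugation by a matrix of the general unitary group). Then the largest normal subgroup of C_A(β) of order prime to p is nontrivial if and only if β is the composite of an inner-diagonal automorphism with the automorphism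 induced by a field automorphism of F applied entrywise and p does not divide the number of fixed points of β on K. -/
theorem result
    (F : Type*) [Field F] [Fintype F] (r : ℕ) [Fact r.Prime] [CharP F r] (q : ℕ) (hF : Fintype.card F = q ^ 2)
    (n : ℕ) (hn : 3 ≤ n) (hK : IsSimpleGroup (Cfsg.PSU n F q))
    (𝒢 : Subgroup (MulAut (Cfsg.PSU n F q))) (hinn : ∀ k : Cfsg.PSU n F q, MulAut.conj k ∈ 𝒢)
    (p : ℕ) [Fact p.Prime] (hpr : p ≠ r) (β : MulAut (Cfsg.PSU n F q)) (hβ : β ∈ 𝒢) (hord : orderOf β = p)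
    (hnot : ¬ Cfsg.IsInnerDiagonalAutPSU β) :
    Cfsg.pPrimeCore p ↥(𝒢 ⊓ Subgroup.centralizer {β}) ≠ ⊥ ↔
      ((∃ γ φ : MulAut (Cfsg.PSU n F q), Cfsg.IsInnerDiagonalAutPSU γ ∧ (∃ σ : F ≃+* F, Cfsg.IsFieldAutPSUOf σ φ) ∧ β = φ.trans γ) ∧
        Nat.Coprime p (Nat.card ↥(MonoidHom.eqLocus β.toMonoidHom (MonoidHom.id (Cfsg.PSU n F q))))) := by
  classical
  have hs : ¬(n = 3 ∧ q = 2) := by
    rintro ⟨rfl, rfl⟩
    obtain ⟨π4, hπ4⟩ := Spor.SU32.model (F := F) (by rw [hF]; norm_num)
    haveI : IsSimpleGroup (PSU 3 Spor.SU32.F4 2) :=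
      (MulEquiv.ofBijective π4 hπ4).symm.isSimpleGroup
    rcases (MonoidHom.normal_ker Spor.SU32.kappaP).eq_bot_or_eq_top with h | h
    · have h1 := Spor.SU32.card_ker
      rw [h, Subgroup.card_bot] at h1
      omega
    · have h1 := Spor.SU32.card_ker
      rw [h, Subgroup.card_top, Spor.SU32.card_PSU] at h1
      omega
  obtain ⟨g, σ, rfl⟩ := exists_param hF hn hs β
  have hσ1 : σ ≠ 1 := fun h => hnot (innerDiag_iff.2 ⟨g, by rw [h]; rfl⟩)
  obtain ⟨hσp, c, hc⟩ := orderOf_field hF hn Fact.out hσ1 hord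
  have hfst : ∃ γ φ : MulAut (Cfsg.PSU n F q), Cfsg.IsInnerDiagonalAutPSU γ ∧
      (∃ σ : F ≃+* F, Cfsg.IsFieldAutPSUOf σ φ) ∧ psuSemi g σ = φ.trans γ :=
    ⟨psuSemi g (RingEquiv.refl F), psuSemi 1 σ, innerDiag_iff.2 ⟨g, rfl⟩, ⟨σ, stdField_iff.2 rfl⟩, by
      show (psuSemi g σ : MulAut _) = psuSemi g (RingEquiv.refl F) * psuSemi 1 σ
      rw [psuSemi_refl_mul, mul_one]⟩
  rcases (Fact.out : p.Prime).eq_two_or_odd' with hp2 | hodd
  · subst hp2
    have h2 : (2 : F) ≠ 0 := fun h2 => by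
      have h := (CharP.cast_eq_zero_iff F r 2).1 (by exact_mod_cast h2)
      exact hpr ((Nat.prime_dvd_prime_iff_eq Fact.out Nat.prime_two).1 h).symm
    obtain ⟨hbot, hncop⟩ := balance_graph hF hn hs h2 hσp hinn hord hnot
    exact ⟨fun h => absurd hbot h, fun h => absurd h.2 hncop⟩
  · obtain ⟨fF, -, hFr⟩ := FiniteField.card F r
    obtain ⟨k, -, hk⟩ := (Nat.dvd_prime_pow (Fact.out : r.Prime)).1
      (show q ∣ r ^ (fF : ℕ) by rw [← hFr, hF]; exact dvd_pow_self q two_ne_zero)
    have hF' : Fintype.card F = r ^ (2 * k) := by rw [hF, hk, ← pow_mul, mul_comm]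
    obtain ⟨-, hcard⟩ := PSLAut.card_ringAut (F := F) hF'
    have hpk : p ∣ k := Nat.Coprime.dvd_of_dvd_mul_left (Nat.coprime_two_right.2 hodd)
      (hσp ▸ hcard ▸ orderOf_dvd_natCard σ)
    have hk0 : k ≠ 0 := fun h0 => by
      have h1 := two_le_q hF
      rw [hk, h0, pow_zero] at h1
      omega
    have hkp : k / p ≠ 0 :=
      (Nat.div_pos (Nat.le_of_dvd (Nat.pos_of_ne_zero hk0) hpk) (Fact.out : p.Prime).pos).ne'
    letI : Fintype (GaloisField r (2 * (k / p))) := Fintype.ofFinite _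
    have hF₀ : Fintype.card (GaloisField r (2 * (k / p))) = (r ^ (k / p)) ^ 2 := by
      rw [← Nat.card_eq_fintype_card, GaloisField.card r _ (by omega), ← pow_mul, mul_comm]
    obtain ⟨-, j, hj, hjq⟩ := exists_datum hk hF Fact.out hodd hσp (GaloisField r (2 * (k / p))) hF₀
    obtain ⟨y, hy⟩ := exists_conj_field hF hF₀ j hj hjq hn (g := g) (c := c) (by rw [hσp]; exact hc)
    rw [balance_field hF hF₀ j hj hjq hn hs hinn hpr (a := inndiagHom n F q y) hy hord hnot]
    exact ⟨fun h => ⟨hfst, h⟩, fun h => h.2⟩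

end Cfsg.Agent.S2687
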