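import Cfsg.Statements.S2698
import Cfsg.Agent.Lib.Classical.PSLFieldAut

set_option autoImplicit false
open Cfsg

namespace Cfsg.Agent.S2698

/-- Let T = PSL_n(F) be simple over the field F with p^f elements (n ≥ 2; p^f ≥ 4 when n = 2), G = Inndiag(T) the image of PGL_n(F) in Aut(T), and x a field automorphism of T of prime order r. Then r divides f; the centralizer C_G(x) is isomorphic to PGL_n(F₀) for the subfield size |F₀| = p^(f/r); and the G-class of x is the union of exactly gcd(n, (p^f − 1)/(p^(f/r) − 1)) classes under conjugation by T (the inner automorphism group). -/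
theorem result {F : Type*} [Field F] [Fintype F] {p f : ℕ} [Fact p.Prime] (hF : Fintype.card F = p ^ f) (hf : 1 ≤ f) {n : ℕ} (hn : 2 ≤ n) (hs : n = 2 → 4 ≤ Fintype.card F) (x : MulAut (Matrix.ProjectiveSpecialLinearGroup (Fin n) F)) (hx : Cfsg.IsFieldAutClassPSL x) {r : ℕ} (hr : r.Prime) (hxr : orderOf x = r) (F₀ : Type*) [Field F₀] [Fintype F₀] (hF₀ : Fintype.card F₀ = p ^ (f / r)) :
    r ∣ f ∧ Nonempty (↥(Cfsg.inndiagPSL n F ⊓ Subgroup.centralizer {x}) ≃* Matrix.ProjGenLinGroup (Fin n) F₀) ∧ Cfsg.splitClassCount (Cfsg.inndiagPSL n F) (Cfsg.Inn (Matrix.ProjectiveSpecialLinearGroup (Fin n) F)) x = Nat.gcd n ((p ^ f - 1) / (p ^ (f / r) - 1)) := by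
  haveI : CharP F p := charP_of_card_eq_prime_pow hF
  obtain ⟨σ, a, hσ, rfl⟩ := Cfsg.Agent.Classical.PSLAut.fieldClass_std (p := p) hn hx
  have hx0 : orderOf (Cfsg.Agent.Classical.PSLAut.pslSemi (n := n) (1 : GL (Fin n) F) σ) = r := by
    rw [← hxr]
    exact ((MulAut.conj (Cfsg.Agent.Classical.PSLAut.inndiagHom n F a)).orderOf_eq _).symm
  obtain ⟨hσr, -⟩ := Cfsg.Agent.Classical.PSLAut.orderOf_field hn hr hσ hx0
  obtain ⟨hrf, hcard, j, hj⟩ :=
    Cfsg.Agent.Classical.PSLAut.exists_fixed_embedding (p := p) hF hσr F₀ hF₀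
  have ha : Cfsg.Agent.Classical.PSLAut.inndiagHom n F a ∈ Cfsg.inndiagPSL n F :=
    Cfsg.Agent.Classical.PSLAut.mem_inndiag_iff.2 ⟨a, rfl⟩
  obtain ⟨e1⟩ := Cfsg.Agent.Classical.PSLAut.inndiag_inf_centralizer_conj ha
    (Cfsg.Agent.Classical.PSLAut.pslSemi 1 σ)
  obtain ⟨e2⟩ := Cfsg.Agent.Classical.PSLAut.centralizer_field_iso hn σ j hj
  refine ⟨hrf, ⟨e1.trans e2⟩, ?_⟩
  rw [Cfsg.Agent.Classical.splitClassCount_conj ha, Cfsg.Agent.Classical.PSLAut.split_field hn σ]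
  congr 1
  have h1 := (Cfsg.Agent.Classical.Descent.fixedUnits σ).index_mul_card
  rw [hcard, Nat.card_units, Nat.card_eq_fintype_card, hF] at h1
  rw [← h1, Nat.mul_div_cancel]
  have h2 := Nat.card_pos (α := Cfsg.Agent.Classical.Descent.fixedUnits σ)
  rwa [hcard] at h2

end Cfsg.Agent.S2698
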