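import Cfsg.Statements.S2700
import Cfsg.Agent.Lib.Classical.PSLGraphAut
-- import your own Cfsg.Agent.* helpers here

set_option autoImplicit false
open Cfsg Matrix Cfsg.Agent.Classical Cfsg.Agent.Classical.FormSim Cfsg.Agent.Classical.PSLAut

namespace Cfsg.Agent.S2700

/-- Let T = PSL_n(F) over a finite field of odd order with n = 2m ≥ 4 even, and G = Inndiag(T) the image of PGL_n(F). The involutory graph automorphisms of T fall into exactly three G-classes, with representatives γ₁, γ₂, γ₃ whose centralizers in G are isomorphic respectively to the projective conformal symplectic group PGSp_n(F), the projective conformal orthogonal group of the plus-type form Σ xᵢ yᵢ, and that of a minus-type form Σ xᵢ yᵢ + z₁² + a z₁ z₂ + b z₂² (anisotropic binary part) in dimension n. -/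
theorem result {F : Type*} [Field F] [Fintype F] (hodd : Odd (Fintype.card F)) {n m : ℕ} (hm : 2 ≤ m) (hnm : n = 2 * m) :
    ∃ (γ₁ γ₂ γ₃ : MulAut (Matrix.ProjectiveSpecialLinearGroup (Fin n) F)) (a b : F), (∀ z₁ z₂ : F, z₁ ^ 2 + a * z₁ * z₂ + b * z₂ ^ 2 = 0 → z₁ = 0 ∧ z₂ = 0) ∧ Cfsg.IsGraphAutClassPSL γ₁ ∧ orderOf γ₁ = 2 ∧ Cfsg.IsGraphAutClassPSL γ₂ ∧ orderOf γ₂ = 2 ∧ Cfsg.IsGraphAutClassPSL γ₃ ∧ orderOf γ₃ = 2 ∧ ¬ Cfsg.IsConjUnder (Cfsg.inndiagPSL n F) γ₁ γ₂ ∧ ¬ Cfsg.IsConjUnder (Cfsg.inndiagPSL n F) γ₁ γ₃ ∧ ¬ Cfsg.IsConjUnder (Cfsg.inndiagPSL n F) γ₂ γ₃ ∧ (∀ γ : MulAut (Matrix.ProjectiveSpecialLinearGroup (Fin n) F), Cfsg.IsGraphAutClassPSL γ → orderOf γ = 2 → Cfsg.IsConjUnder (Cfsg.inndiagPSL n F) γ₁ γ ∨ Cfsg.IsConjUnder (Cfsg.inndiagPSL n F) γ₂ γ ∨ Cfsg.IsConjUnder (Cfsg.inndiagPSL n F) γ₃ γ) ∧ Nonempty (↥(Cfsg.inndiagPSL n F ⊓ Subgroup.centralizer {γ₁}) ≃* Cfsg.PGSp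 m F) ∧ Nonempty (↥(Cfsg.inndiagPSL n F ⊓ Subgroup.centralizer {γ₂}) ≃* Cfsg.PGO F (Cfsg.quadFormPlus m F)) ∧ Nonempty (↥(Cfsg.inndiagPSL n F ⊓ Subgroup.centralizer {γ₃}) ≃* Cfsg.PGO F (Cfsg.quadFormMinus (m - 1) F a b)) := by
  classical
  have h2 : (2 : F) ≠ 0 := Ring.two_ne_zero fun h => by
    have := FiniteField.even_card_iff_char_two.1 h
    rw [Nat.odd_iff] at hodd; omega
  obtain ⟨k, rfl⟩ : ∃ k, m = k + 1 := ⟨m - 1, by omega⟩
  have hn3 : 3 ≤ n := by omega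
  have hn2 : 2 ≤ n := by omega
  obtain ⟨a, b, hab⟩ := exists_minus h2 (K := F)
  have hJt : (Matrix.J (Fin (k + 1)) F)ᵀ = -Matrix.J (Fin (k + 1)) F := by
    simp [Matrix.J, Matrix.fromBlocks_transpose, Matrix.fromBlocks_neg]
  have hP := det_pMat_ne_zero (nondegenerate_qfPlus (F := F) (k + 1))
  have hM := det_pMat_ne_zero (nondegenerate_qfMinus (F := F) k hab)
  obtain ⟨g₁, s₁, c₁, o₁⟩ := exists_graph (F := F) hn3 (κ := Fin (k + 1) ⊕ Fin (k + 1)) (by simp; omega)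
    (Matrix.isUnit_det_J (Fin (k + 1)) F).ne_zero (Or.inr hJt)
  obtain ⟨g₂, s₂, c₂, o₂⟩ := exists_graph (F := F) hn3 (κ := Fin (k + 1) ⊕ Fin (k + 1)) (by simp; omega) hP
    (Or.inl (pMat_transpose _))
  obtain ⟨g₃, s₃, c₃, o₃⟩ := exists_graph (F := F) hn3 (κ := (Fin k ⊕ Fin k) ⊕ Fin 2) (by simp; omega) hM
    (Or.inl (pMat_transpose _))
  have hpos : 0 < Fintype.card (Fin n) := by rw [Fintype.card_fin]; omega
  refine ⟨grAut g₁, grAut g₂, grAut g₃, a, b, hab, c₁, o₁, c₂, o₂, c₃, o₃, fun h => ?_, fun h => ?_, fun h => ?_,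
    fun γ hγ hγ2 => ?_, ?_, ?_, ?_⟩
  · rw [conjUnder_iff hn2] at h
    exact J_not_symm h2 hpos g₂.det_ne_zero (symm_of_similar s₂ (pMat_transpose _)) (h.symm.trans s₁)
  · rw [conjUnder_iff hn2] at h
    exact J_not_symm h2 hpos g₃.det_ne_zero (symm_of_similar s₃ (pMat_transpose _)) (h.symm.trans s₁)
  · rw [conjUnder_iff hn2] at h
    exact plus_ne_minus h2 k hab ((s₂.symm.trans h).trans s₃)
  · obtain ⟨g, rfl, hg, hgd⟩ := std_of_involution hγ hγ2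
    rcases classify_odd h2 k hab (g : Matrix (Fin n) (Fin n) F) (by rw [Fintype.card_fin, hnm]) hgd hg with hh | hh | hh
    · exact Or.inl ((conjUnder_iff hn2 _ _).2 (s₁.trans hh.symm))
    · exact Or.inr (Or.inl ((conjUnder_iff hn2 _ _).2 (s₂.trans hh.symm)))
    · exact Or.inr (Or.inr ((conjUnder_iff hn2 _ _).2 (s₃.trans hh.symm)))
  · obtain ⟨e⟩ := centralizer_iso hn2 g₁
    obtain ⟨e'⟩ := psim_congr s₁
    exact ⟨e.trans e'⟩
  · obtain ⟨e⟩ := centralizer_iso hn2 g₂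
    obtain ⟨e'⟩ := psim_congr s₂
    obtain ⟨e''⟩ := pgo_iso h2 (qfPlus (k + 1) F) (coe_qfPlus (k + 1))
    exact ⟨(e.trans e').trans e''⟩
  · obtain ⟨e⟩ := centralizer_iso hn2 g₃
    obtain ⟨e'⟩ := psim_congr s₃
    obtain ⟨e''⟩ := pgo_iso h2 (qfMinus k F a b) (coe_qfMinus k a b)
    exact ⟨(e.trans e').trans e''⟩
end Cfsg.Agent.S2700
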