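import Cfsg.Statements.S2701
import Cfsg.Agent.Lib.Classical.PSLGraphAut
-- import your own Cfsg.Agent.* helpers here

set_option autoImplicit false
open Cfsg Matrix Cfsg.Agent.Classical Cfsg.Agent.Classical.FormSim Cfsg.Agent.Classical.PSLAut

namespace Cfsg.Agent.S2701

/-- Let T = PSL_n(F) over a finite field of characteristic 2 with n = 2m ≥ 4 even, and G = Inndiag(T) the image of PGL_n(F). The involutory graph automorphisms of T fall into exactly two G-classes, with representatives γ₁ and γ₃ whose centralizers in G are isomorphic respectively to the symplectic group Sp_n(F) and to the centralizer in Sp_n(F) of a symplectic transvection. -/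
theorem result {F : Type*} [Field F] [Fintype F] [CharP F 2] {n m : ℕ} (hm : 2 ≤ m) (hnm : n = 2 * m) :
    ∃ (γ₁ γ₃ : MulAut (Matrix.ProjectiveSpecialLinearGroup (Fin n) F)) (t : ↥(Matrix.symplecticGroup (Fin m) F)), Cfsg.IsTransvection (t : Matrix (Fin m ⊕ Fin m) (Fin m ⊕ Fin m) F) ∧ Cfsg.IsGraphAutClassPSL γ₁ ∧ orderOf γ₁ = 2 ∧ Cfsg.IsGraphAutClassPSL γ₃ ∧ orderOf γ₃ = 2 ∧ ¬ Cfsg.IsConjUnder (Cfsg.inndiagPSL n F) γ₁ γ₃ ∧ (∀ γ : MulAut (Matrix.ProjectiveSpecialLinearGroup (Fin n) F), Cfsg.IsGraphAutClassPSL γ → orderOf γ = 2 → Cfsg.IsConjUnder (Cfsg.inndiagPSL n F) γ₁ γ ∨ Cfsg.IsConjUnder (Cfsg.inndiagPSL n F) γ₃ γ) ∧ Nonempty (↥(Cfsg.inndiagPSL n F ⊓ Subgroup.centralizer {γ₁}) ≃* ↥(Matrix.symplecticGroup (Fin m) F)) ∧ Nonempty (↥(Cfsg.inndiagPSL n F ⊓ Subgroup.centralizer {γ₃}) ≃* ↥(Subgroup.centralizer ({t} : Set ↥(Matrix.symplecticGroup (Fin m) F)))) := by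
  classical
  have hn3 : 3 ≤ n := by omega
  have hn2 : 2 ≤ n := by omega
  obtain ⟨hcl, hne, ⟨eJ⟩, t, ht, ⟨e1⟩⟩ := char_two_even (K := F) (ι := Fin n) (m := m) (by omega) (by simp [hnm])
  obtain ⟨g₁, s₁, c₁, o₁⟩ := exists_graph (F := F) hn3 (κ := Fin m ⊕ Fin m) (by simp; omega)
    (Matrix.isUnit_det_J (Fin m) F).ne_zero (Or.inr (by simp [Matrix.J, Matrix.fromBlocks_transpose, Matrix.fromBlocks_neg]))
  obtain ⟨g₃, s₃, c₃, o₃⟩ := exists_graph (F := F) hn3 (κ := Fin m ⊕ Fin m) (by simp; omega)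
    (S := (1 : Matrix (Fin m ⊕ Fin m) (Fin m ⊕ Fin m) F)) (by rw [Matrix.det_one]; exact one_ne_zero)
    (Or.inl Matrix.transpose_one)
  refine ⟨grAut g₁, grAut g₃, t, ht, c₁, o₁, c₃, o₃, fun h => ?_, fun γ hγ hγ2 => ?_, ?_, ?_⟩
  · rw [conjUnder_iff hn2] at h
    exact hne s₁ (h.trans s₃)
  · obtain ⟨g, rfl, hg, hgd⟩ := std_of_involution hγ hγ2
    rcases hcl hgd hg with hh | hh
    · exact Or.inl ((conjUnder_iff hn2 _ _).2 (s₁.trans hh.symm))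
    · exact Or.inr ((conjUnder_iff hn2 _ _).2 (s₃.trans hh.symm))
  · obtain ⟨e⟩ := centralizer_iso hn2 g₁
    obtain ⟨e'⟩ := psim_congr s₁
    exact ⟨(e.trans e').trans eJ⟩
  · obtain ⟨e⟩ := centralizer_iso hn2 g₃
    obtain ⟨e'⟩ := psim_congr s₃
    exact ⟨(e.trans e').trans e1⟩
end Cfsg.Agent.S2701
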