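import Cfsg.Statements.S2702
import Cfsg.Agent.Lib.Classical.PSLGraphAut
-- import your own Cfsg.Agent.* helpers here

set_option autoImplicit false
open Cfsg Matrix Cfsg.Agent.Classical Cfsg.Agent.Classical.FormSim Cfsg.Agent.Classical.PSLAut

namespace Cfsg.Agent.S2702

/-- Let T = PSL_n(F) over the field with q = p^f elements, n ≥ 3, G = Inndiag(T) the image of PGL_n(F), and γ an involutory graph automorphism of T. The G-class of γ is the union of exactly c T-classes, where: if n is even and q is odd, c = gcd(n/2, q − 1) when C_G(γ) is isomorphic to the projective conformal symplectic group PGSp_n(F) (symplectic type) and c = gcd(n, q − 1)/2 otherwise; and c = gcd(n, q − 1) when n is odd or q is even. -/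
theorem result {F : Type*} [Field F] [Fintype F] {p f : ℕ} [Fact p.Prime] (hF : Fintype.card F = p ^ f) (hf : 1 ≤ f) {n : ℕ} (hn : 3 ≤ n) (γ : MulAut (Matrix.ProjectiveSpecialLinearGroup (Fin n) F)) (hγ : Cfsg.IsGraphAutClassPSL γ) (hγ2 : orderOf γ = 2) :
    ((Even n ∧ Odd p ∧ Nonempty (↥(Cfsg.inndiagPSL n F ⊓ Subgroup.centralizer {γ}) ≃* Cfsg.PGSp (n / 2) F)) → Cfsg.splitClassCount (Cfsg.inndiagPSL n F) (Cfsg.Inn (Matrix.ProjectiveSpecialLinearGroup (Fin n) F)) γ = Nat.gcd (n / 2) (p ^ f - 1)) ∧ ((Even n ∧ Odd p ∧ ¬ Nonempty (↥(Cfsg.inndiagPSL n F ⊓ Subgroup.centralizer {γ}) ≃* Cfsg.PGSp (n / 2) F)) → Cfsg.splitClassCount (Cfsg.inndiagPSL n F) (Cfsg.Inn (Matrix.ProjectiveSpecialLinearGroup (Fin n) F)) γ = Nat.gcd n (p ^ f - 1) / 2) ∧ (¬ (Even n ∧ Odd p) → Cfsg.splitClassCount (Cfsg.inndiagPSL n F) (Cfsg.Inn (Matrix.ProjectiveSpecialLinearGroup (Fin n) F)) γ = Nat.gcd n (p ^ f - 1)) := by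
  classical
  haveI : CharP F p := charP_of_card_eq_prime_pow hF
  have hn2 : 2 ≤ n := by omega
  have hN : Nat.card Fˣ = p ^ f - 1 := by rw [Nat.card_eq_fintype_card, Fintype.card_units, hF]
  obtain ⟨g, rfl, hg, hgd⟩ := std_of_involution hγ hγ2
  obtain ⟨eC⟩ := centralizer_iso hn2 g
  have two : Odd p → (2 : F) ≠ 0 := fun hp h => by
    have h1 : p ∣ 2 := (CharP.cast_eq_zero_iff F p 2).1 (by exact_mod_cast h)
    rw [(Nat.prime_dvd_prime_iff_eq (Fact.out : p.Prime) Nat.prime_two).1 h1] at hp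
    exact absurd hp (by decide)
  have hdet : ∀ y : GL (Fin n) F, ((Matrix.GeneralLinearGroup.det y : Fˣ) : F) = (y : Matrix (Fin n) (Fin n) F).det :=
    fun y => rfl
  refine ⟨?_, ?_, ?_⟩
  · rintro ⟨hev, hp, ⟨e⟩⟩
    obtain ⟨m, rfl⟩ : ∃ m, n = 2 * m := ⟨n / 2, by obtain ⟨c, rfl⟩ := hev; omega⟩
    rw [Nat.mul_div_cancel_left _ two_pos] at e ⊢
    obtain ⟨k, rfl⟩ : ∃ k, m = k + 1 := ⟨m - 1, by omega⟩
    have hsk : (g : Matrix (Fin (2 * (k + 1))) (Fin (2 * (k + 1))) F)ᵀ = -(g : Matrix (Fin (2 * (k + 1))) (Fin (2 * (k + 1))) F) :=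
      hg.resolve_left fun hs => not_pgsp (two hp) (k := k) (Fintype.card_fin _) hgd hs ⟨eC.symm.trans e⟩
    have hJ := similar_J _ (Fintype.card_fin _) hgd (bf_self_zero_of_skew (two hp) hsk)
    obtain ⟨hd1, hd2⟩ := alt_det hJ
    rw [split_graph hn2 g (powMonoidHom (k + 1) : Fˣ →* Fˣ).range (fun y hy => ?_) (fun t ht => ?_), gcd_index_half, hN]
    · obtain ⟨c, hc⟩ := mem_sim.1 hy
      exact Subgroup.mem_sup_right ⟨c, Units.ext (by rw [powMonoidHom_apply, Units.val_pow_eq_pow_val, hdet, hd1 y c hc])⟩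
    · obtain ⟨c, rfl⟩ := ht
      obtain ⟨y, hy⟩ := hd2 c
      exact ⟨y, mem_sim.2 ⟨c, hy⟩, Units.ext (by rw [powMonoidHom_apply, Units.val_pow_eq_pow_val, hdet, hd1 y c hy])⟩
  · rintro ⟨hev, hp, hne⟩
    obtain ⟨m, rfl⟩ : ∃ m, n = 2 * m := ⟨n / 2, by obtain ⟨c, rfl⟩ := hev; omega⟩
    rw [Nat.mul_div_cancel_left _ two_pos] at hne
    have hs : (g : Matrix (Fin (2 * m)) (Fin (2 * m)) F)ᵀ = (g : Matrix (Fin (2 * m)) (Fin (2 * m)) F) :=
      hg.resolve_right fun hsk => by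
        obtain ⟨e'⟩ := psim_congr (similar_J _ (Fintype.card_fin _) hgd (bf_self_zero_of_skew (two hp) hsk))
        exact hne ⟨eC.trans e'⟩
    have heven : Even (Nat.card Fˣ) := by
      rw [hN]
      have h1 : Odd (p ^ f) := hp.pow
      obtain ⟨c, hc⟩ := h1
      exact ⟨c, by omega⟩
    rw [split_graph hn2 g ((powMonoidHom (2 * m) : Fˣ →* Fˣ).range.comap (powMonoidHom 2 : Fˣ →* Fˣ)) (fun y hy => ?_)
      (fun t ht => ?_), gcd_index_sqroot m heven, hN]
    · obtain ⟨c, hc⟩ := mem_sim.1 hy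
      refine Subgroup.mem_sup_right ⟨c, Units.ext ?_⟩
      rw [powMonoidHom_apply, powMonoidHom_apply, Units.val_pow_eq_pow_val, Units.val_pow_eq_pow_val, hdet,
        sim_det hgd hc, Fintype.card_fin]
    · obtain ⟨c, hc⟩ := ht
      rw [powMonoidHom_apply, powMonoidHom_apply] at hc
      obtain ⟨y, hy⟩ := exists_multiplier (two hp) (Fintype.card_fin _) hgd hs c
      obtain ⟨r, hr, hrd⟩ := exists_reflection (two hp) ⟨⟨0, by omega⟩⟩ hgd hs
      have h1 := sim_det hgd hy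
      rw [Fintype.card_fin, ← Units.val_pow_eq_pow_val, hc, Units.val_pow_eq_pow_val] at h1
      rcases sq_eq_sq_iff_eq_or_eq_neg.1 h1 with h3 | h3
      · exact ⟨y, mem_sim.2 ⟨c, hy⟩, Units.ext (by rw [hdet, h3])⟩
      · refine ⟨r * y, mem_sim.2 ⟨c, ?_⟩, Units.ext ?_⟩
        · rw [Units.val_mul, Matrix.transpose_mul]
          calc _ = (y : Matrix (Fin (2 * m)) (Fin (2 * m)) F)ᵀ *
              ((r : Matrix (Fin (2 * m)) (Fin (2 * m)) F)ᵀ * (g : Matrix (Fin (2 * m)) (Fin (2 * m)) F) *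
                (r : Matrix (Fin (2 * m)) (Fin (2 * m)) F)) * (y : Matrix (Fin (2 * m)) (Fin (2 * m)) F) := by
                simp only [Matrix.mul_assoc]
            _ = _ := by rw [hr, hy]
        · rw [hdet, Units.val_mul, Matrix.det_mul, hrd, h3, neg_one_mul, neg_neg]
  · intro hcase
    have hodd : Odd (Fintype.card (Fin n)) ∨ (2 : F) = 0 := by
      rw [Fintype.card_fin]
      rcases Nat.even_or_odd n with he | ho
      · refine Or.inr ?_
        have h2 : p = 2 := ((Fact.out : p.Prime).eq_two_or_odd').resolve_right fun ho => hcase ⟨he, ho⟩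
        subst h2
        exact CharTwo.two_eq_zero
      · exact Or.inl ho
    rw [split_graph hn2 g ⊥ (fun y hy => ?_) (fun t ht => ?_), Subgroup.index_bot, hN]
    · obtain ⟨c, hc⟩ := mem_sim.1 hy
      obtain ⟨s, -, hs⟩ := det_is_pow hgd hodd hc
      rw [Fintype.card_fin] at hs
      exact Subgroup.mem_sup_left ⟨s, hs⟩
    · rw [Subgroup.mem_bot] at ht
      subst ht
      exact ⟨1, one_mem _, map_one _⟩
end Cfsg.Agent.S2702
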