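import Cfsg.Statements.S2703
import Cfsg.Agent.Lib.Classical.PSLGraphAut
-- import your own Cfsg.Agent.* helpers here

set_option autoImplicit false
open Cfsg Matrix Cfsg.Agent.Classical Cfsg.Agent.Classical.FormSim Cfsg.Agent.Classical.PSLAut

namespace Cfsg.Agent.S2703

/-- Let T = PSL_n(F) over the field with q elements, q odd, n = 2m ≥ 4 even, and ι the inverse-transpose automorphism. Its centralizer in G = Inndiag(T) (the image of PGL_n(F)) is isomorphic to the projective conformal orthogonal group of the plus-type form Σ xᵢ yᵢ in dimension n when n(q − 1)/4 is even, and to that of a minus-type form (Σ xᵢ yᵢ + z₁² + a z₁ z₂ + b z₂² with anisotropic binary part) when n(q − 1)/4 is odd. -/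
theorem result {F : Type*} [Field F] [Fintype F] (hodd : Odd (Fintype.card F)) {n m : ℕ} (hm : 2 ≤ m) (hnm : n = 2 * m) (ι : MulAut (Matrix.ProjectiveSpecialLinearGroup (Fin n) F)) (hι : Cfsg.IsInverseTransposeAutPSL ι) :
    (Even (n * (Fintype.card F - 1) / 4) → Nonempty (↥(Cfsg.inndiagPSL n F ⊓ Subgroup.centralizer {ι}) ≃* Cfsg.PGO F (Cfsg.quadFormPlus m F))) ∧ (¬ Even (n * (Fintype.card F - 1) / 4) → ∃ a b : F, (∀ z₁ z₂ : F, z₁ ^ 2 + a * z₁ * z₂ + b * z₂ ^ 2 = 0 → z₁ = 0 ∧ z₂ = 0) ∧ Nonempty (↥(Cfsg.inndiagPSL n F ⊓ Subgroup.centralizer {ι}) ≃* Cfsg.PGO F (Cfsg.quadFormMinus (m - 1) F a b))) := by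
  classical
  have h2 : (2 : F) ≠ 0 := Ring.two_ne_zero fun h => by
    have := FiniteField.even_card_iff_char_two.1 h
    rw [Nat.odd_iff] at hodd; omega
  obtain ⟨k, rfl⟩ : ∃ k, m = k + 1 := ⟨m - 1, by omega⟩
  have hn2 : 2 ≤ n := by omega
  obtain rfl : ι = grAut (1 : GL (Fin n) F) := by
    rw [invTr_iff.1 hι, grAut, map_one, one_mul]
  obtain ⟨eC⟩ := centralizer_iso hn2 (1 : GL (Fin n) F)
  have hd1 : ((1 : GL (Fin n) F) : Matrix (Fin n) (Fin n) F).det ≠ 0 := by simp
  have ht1 : ((1 : GL (Fin n) F) : Matrix (Fin n) (Fin n) F)ᵀ = ((1 : GL (Fin n) F) : Matrix (Fin n) (Fin n) F) := by simp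
  have hP := det_pMat_ne_zero (nondegenerate_qfPlus (F := F) (k + 1))
  have hdiv : n * (Fintype.card F - 1) / 4 = (k + 1) * ((Fintype.card F - 1) / 2) := by
    obtain ⟨c, hc⟩ := hodd
    rw [hnm, hc, Nat.add_sub_cancel, Nat.mul_div_cancel_left _ two_pos,
      show 2 * (k + 1) * (2 * c) = 4 * ((k + 1) * c) by ring, Nat.mul_div_cancel_left _ (by norm_num)]
  have hsq : IsSquare ((-1 : F) ^ (k + 1)) ↔ Even ((k + 1) * ((Fintype.card F - 1) / 2)) := by
    rw [Nat.even_mul]
    rcases Nat.even_or_odd (k + 1) with he | ho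
    · refine iff_of_true ?_ (Or.inl he)
      rw [he.neg_one_pow]; exact IsSquare.one
    · rw [ho.neg_one_pow, FiniteField.isSquare_neg_one_iff, or_iff_right (Nat.not_even_iff_odd.2 ho)]
      rw [Nat.odd_iff] at hodd
      rw [Nat.even_iff]
      omega
  rw [hdiv, ← hsq]
  refine ⟨fun h => ?_, fun h => ?_⟩
  · have hs : Similar ((1 : GL (Fin n) F) : Matrix (Fin n) (Fin n) F) (pMat (qfPlus (k + 1) F)) :=
      similar_of_det h2 ht1 (pMat_transpose _) hd1 hP (by simp; omega) (by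
        rw [det_pMat, gramDet_qfPlus, Units.val_one, Matrix.det_one, mul_one]; exact h)
    obtain ⟨e'⟩ := psim_congr hs
    obtain ⟨e''⟩ := pgo_iso h2 (qfPlus (k + 1) F) (coe_qfPlus (k + 1))
    exact ⟨(eC.trans e').trans e''⟩
  · obtain ⟨a, b, hab⟩ := exists_minus h2 (K := F)
    refine ⟨a, b, hab, ?_⟩
    have hM := det_pMat_ne_zero (nondegenerate_qfMinus (F := F) k hab)
    have hs : Similar ((1 : GL (Fin n) F) : Matrix (Fin n) (Fin n) F) (pMat (qfMinus k F a b)) :=
      similar_of_det h2 ht1 (pMat_transpose _) hd1 hM (by simp; omega) (by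
        rw [Units.val_one, Matrix.det_one, mul_one]
        have h3 := isSquare_of_two_nonsquares h2 (minus_disc h2 k hab) h
        rw [det_pMat (qfPlus (k + 1) F), gramDet_qfPlus,
          show (-1 : F) ^ (k + 1) * (pMat (qfMinus k F a b)).det * (-1) ^ (k + 1) =
            ((-1 : F) ^ (k + 1)) ^ 2 * (pMat (qfMinus k F a b)).det by ring,
          isSquare_mul_sq (pow_ne_zero _ (neg_ne_zero.2 one_ne_zero))] at h3
        exact h3)
    obtain ⟨e'⟩ := psim_congr hs
    obtain ⟨e''⟩ := pgo_iso h2 (qfMinus k F a b) (coe_qfMinus k a b)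
    exact ⟨(eC.trans e').trans e''⟩
end Cfsg.Agent.S2703
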