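import Cfsg.Statements.S2704
import Cfsg.Agent.Lib.Classical.PSLGraphFieldAut

set_option autoImplicit false
open Cfsg

namespace Cfsg.Agent.S2704

/-- Let T = PSL_n(F) over the field F with p^f elements, n ≥ 3, and G = Inndiag(T) the image of PGL_n(F). If x is an involutory graph-field automorphism of T then f is even; x is G-conjugate to every other involutory graph-field automorphism; C_G(x) is isomorphic to the projective general unitary group PGU_n(q₀) with q₀² = p^f, realised over F itself through the Hermitian form Σ uᵢ vᵢ^{q₀}; and the G-class of x is the union of exactly gcd(n, q₀ − 1) T-classes. -/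
theorem result {F : Type*} [Field F] [Fintype F] {p f : ℕ} [Fact p.Prime] (hF : Fintype.card F = p ^ f) (hf : 1 ≤ f) {n : ℕ} (hn : 3 ≤ n) (x : MulAut (Matrix.ProjectiveSpecialLinearGroup (Fin n) F)) (hx : Cfsg.IsGraphFieldAutClassPSL x) (hx2 : orderOf x = 2) :
    Even f ∧ (∀ y : MulAut (Matrix.ProjectiveSpecialLinearGroup (Fin n) F), Cfsg.IsGraphFieldAutClassPSL y → orderOf y = 2 → Cfsg.IsConjUnder (Cfsg.inndiagPSL n F) x y) ∧ Nonempty (↥(Cfsg.inndiagPSL n F ⊓ Subgroup.centralizer {x}) ≃* Cfsg.PGU n F (p ^ (f / 2))) ∧ Cfsg.splitClassCount (Cfsg.inndiagPSL n F) (Cfsg.Inn (Matrix.ProjectiveSpecialLinearGroup (Fin n) F)) x = Nat.gcd n (p ^ (f / 2) - 1) := by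
  haveI : CharP F p := charP_of_card_eq_prime_pow hF
  have hn2 : 2 ≤ n := by omega
  have std : ∀ z : MulAut (Matrix.ProjectiveSpecialLinearGroup (Fin n) F), IsGraphFieldAutClassPSL z →
      orderOf z = 2 → ∃ (σ : RingAut F) (a : GL (Fin n) F), orderOf σ = 2 ∧
        z = Cfsg.Agent.Classical.PSLAut.inndiagHom n F a *
          (Cfsg.Agent.Classical.PSLAut.pslSemi 1 σ * Cfsg.Agent.Classical.PSLAut.pslInvT) *
          (Cfsg.Agent.Classical.PSLAut.inndiagHom n F a)⁻¹ := by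
    intro z hz hz2
    obtain ⟨-, σ, a, hσ, rfl⟩ := Cfsg.Agent.Classical.PSLAut.graphFieldClass_std (p := p) hn2 hz
    have h0 : orderOf (Cfsg.Agent.Classical.PSLAut.pslSemi (n := n) (1 : GL (Fin n) F) σ *
        Cfsg.Agent.Classical.PSLAut.pslInvT) = 2 := by
      rw [← hz2]
      exact ((MulAut.conj (Cfsg.Agent.Classical.PSLAut.inndiagHom n F a)).orderOf_eq _).symm
    obtain ⟨-, h2, -⟩ := Cfsg.Agent.Classical.PSLAut.exists_conj_graphField hn Nat.prime_two hσ h0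
    exact ⟨σ, a, h2, rfl⟩
  obtain ⟨σ, a, hσ, rfl⟩ := std x hx hx2
  obtain ⟨-, hc⟩ := Cfsg.Agent.Classical.PSLAut.card_ringAut (F := F) hF
  have hf2 : 2 ∣ f := hσ ▸ hc ▸ orderOf_dvd_natCard σ
  have hF2 : Fintype.card F = (p ^ (f / 2)) ^ 2 := by
    rw [← pow_mul, Nat.div_mul_cancel hf2, hF]
  have ha : Cfsg.Agent.Classical.PSLAut.inndiagHom n F a ∈ Cfsg.inndiagPSL n F :=
    Cfsg.Agent.Classical.PSLAut.mem_inndiag_iff.2 ⟨a, rfl⟩
  refine ⟨even_iff_two_dvd.2 hf2, fun y hy hy2 => ?_, ?_, ?_⟩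
  · obtain ⟨τ, b, hτ, rfl⟩ := std y hy hy2
    rw [Cfsg.Agent.Classical.PSLAut.ringAut_involution_unique hτ hσ]
    exact ⟨Cfsg.Agent.Classical.PSLAut.inndiagHom n F (b * a⁻¹),
      Cfsg.Agent.Classical.PSLAut.mem_inndiag_iff.2 ⟨_, rfl⟩, by rw [map_mul, map_inv]; group⟩
  · obtain ⟨e1⟩ := Cfsg.Agent.Classical.PSLAut.inndiag_inf_centralizer_conj ha
      (Cfsg.Agent.Classical.PSLAut.pslSemi 1 σ * Cfsg.Agent.Classical.PSLAut.pslInvT)
    obtain ⟨e2⟩ := Cfsg.Agent.Classical.PSLAut.centralizer_graphField_iso hn2 hF2 hσ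
    exact ⟨e1.trans e2⟩
  · rw [Cfsg.Agent.Classical.splitClassCount_conj ha,
      Cfsg.Agent.Classical.PSLAut.split_graphField hn2 hσ]
    congr 1
    have hf0 : f / 2 ≠ 0 := by omega
    haveI : Fintype (GaloisField p (f / 2)) := Fintype.ofFinite _
    obtain ⟨-, hcard, -⟩ := Cfsg.Agent.Classical.PSLAut.exists_fixed_embedding (p := p) hF hσ
      (GaloisField p (f / 2)) (by rw [← Nat.card_eq_fintype_card, GaloisField.card p _ hf0])
    rw [Subgroup.index_ker, ← hσ, Cfsg.Agent.Classical.Descent.range_unitNorm, hcard, hσ]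

end Cfsg.Agent.S2704
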