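import Cfsg.Statements.S2707
import Cfsg.Agent.Lib.Classical.PSUGraphClasses
-- import your own Cfsg.Agent.* helpers here

set_option autoImplicit false
open Cfsg Matrix Cfsg.Agent.Classical Cfsg.Agent.Classical.FormSim Cfsg.Agent.Classical.PSUAut

namespace Cfsg.Agent.S2707

/-- Let T = PSU_n(q) with n = 2m ≥ 4 even and q odd, realised over the field F with q² elements, and G = Inndiag(T) the image of PGU_n(q). The involutory graph automorphisms of T fall into exactly three G-classes, with representatives whose centralizers in G are isomorphic respectively to the projective conformal symplectic group PGSp_n(F₀), the projective conformal orthogonal group of the plus-type form Σ xᵢ yᵢ, and that of a minus-type form Σ xᵢ yᵢ + z₁² + a z₁ z₂ + b z₂² (anisotropic binary part) in dimension n, all over a field F₀ with q elements. -/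
theorem result {F : Type*} [Field F] [Fintype F] {q : ℕ} (hodd : Odd q) (hF : Fintype.card F = q ^ 2) {n m : ℕ} (hm : 2 ≤ m) (hnm : n = 2 * m) (F₀ : Type*) [Field F₀] [Fintype F₀] (hF₀ : Fintype.card F₀ = q) :
    ∃ (γ₁ γ₂ γ₃ : MulAut (Cfsg.PSU n F q)) (a b : F₀), (∀ z₁ z₂ : F₀, z₁ ^ 2 + a * z₁ * z₂ + b * z₂ ^ 2 = 0 → z₁ = 0 ∧ z₂ = 0) ∧ Cfsg.IsGraphAutClassPSU γ₁ ∧ orderOf γ₁ = 2 ∧ Cfsg.IsGraphAutClassPSU γ₂ ∧ orderOf γ₂ = 2 ∧ Cfsg.IsGraphAutClassPSU γ₃ ∧ orderOf γ₃ = 2 ∧ ¬ Cfsg.IsConjUnder (Cfsg.inndiagPSU n F q) γ₁ γ₂ ∧ ¬ Cfsg.IsConjUnder (Cfsg.inndiagPSU n F q) γ₁ γ₃ ∧ ¬ Cfsg.IsConjUnder (Cfsg.inndiagPSU n F q) γ₂ γ₃ ∧ (∀ γ : MulAut (Cfsg.PSU n F q), Cfsg.IsGraphAutClassPSU γ → orderOf γ = 2 → Cfsg.IsConjUnder (Cfsg.inndiagPSU n F q) γ₁ γ ∨ Cfsg.IsConjUnder (Cfsg.inndiagPSU n F q) γ₂ γ ∨ Cfsg.IsConjUnder (Cfsg.inndiagPSU n F q) γ₃ γ) ∧ Nonempty (↥(Cfsg.inndiagPSU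 n F q ⊓ Subgroup.centralizer {γ₁}) ≃* Cfsg.PGSp m F₀) ∧ Nonempty (↥(Cfsg.inndiagPSU n F q ⊓ Subgroup.centralizer {γ₂}) ≃* Cfsg.PGO F₀ (Cfsg.quadFormPlus m F₀)) ∧ Nonempty (↥(Cfsg.inndiagPSU n F q ⊓ Subgroup.centralizer {γ₃}) ≃* Cfsg.PGO F₀ (Cfsg.quadFormMinus (m - 1) F₀ a b)) := by
  classical
  have h2 : (2 : F₀) ≠ 0 := two_ne_zero_small hF hF₀ hodd
  obtain ⟨k, rfl⟩ : ∃ k, m = k + 1 := ⟨m - 1, by omega⟩
  have hn3 : 3 ≤ n := by omega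
  obtain ⟨σ, hσ⟩ := exists_sigma hF
  obtain ⟨j, hj⟩ := exists_datum_graph hF hσ F₀ hF₀
  obtain ⟨a, b, hab⟩ := exists_minus h2 (K := F₀)
  have hJt : (Matrix.J (Fin (k + 1)) F₀)ᵀ = -Matrix.J (Fin (k + 1)) F₀ := by
    simp [Matrix.J, Matrix.fromBlocks_transpose, Matrix.fromBlocks_neg]
  have hP := det_pMat_ne_zero (nondegenerate_qfPlus (F := F₀) (k + 1))
  have hM := det_pMat_ne_zero (nondegenerate_qfMinus (F := F₀) k hab)
  obtain ⟨g₁, A₁, r₁, s₁, c₁, o₁⟩ := exists_graph hF hσ j hj hn3 (κ := Fin (k + 1) ⊕ Fin (k + 1)) (by simp; omega)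
    (Matrix.isUnit_det_J (Fin (k + 1)) F₀).ne_zero (Or.inr hJt)
  obtain ⟨g₂, A₂, r₂, s₂, c₂, o₂⟩ := exists_graph hF hσ j hj hn3 (κ := Fin (k + 1) ⊕ Fin (k + 1)) (by simp; omega) hP
    (Or.inl (pMat_transpose _))
  obtain ⟨g₃, A₃, r₃, s₃, c₃, o₃⟩ := exists_graph hF hσ j hj hn3 (κ := (Fin k ⊕ Fin k) ⊕ Fin 2) (by simp; omega) hM
    (Or.inl (pMat_transpose _))
  have hpos : 0 < Fintype.card (Fin n) := by rw [Fintype.card_fin]; omega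
  have hdet : ∀ {g : GU n F q} {A : Matrix (Fin n) (Fin n) F₀}, Rel σ j (g : GL (Fin n) F) A → A.det ≠ 0 := by
    rintro g A ⟨μ, η, y, -, hy⟩ h0
    have h1 := congrArg Matrix.det hy
    rw [← RingHom.mapMatrix_apply, ← RingHom.map_det, h0, map_zero, Matrix.det_smul, herm, Matrix.det_mul,
      Matrix.det_transpose, show (y : Matrix (Fin n) (Fin n) F).map σ = σ.toRingHom.mapMatrix (y : Matrix (Fin n) (Fin n) F)
        from rfl, ← RingHom.map_det] at h1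
    exact mul_ne_zero (pow_ne_zero _ η.ne_zero) (mul_ne_zero y.det_ne_zero ((map_ne_zero σ).2 y.det_ne_zero)) h1.symm
  refine ⟨_, _, _, a, b, hab, c₁, o₁, c₂, o₂, c₃, o₃, fun h => ?_, fun h => ?_, fun h => ?_,
    fun γ hγ hγ2 => ?_, ?_, ?_, ?_⟩
  · rw [conjUnder_iff hF hσ j hj hn3 r₁ r₂] at h
    exact J_not_symm h2 hpos (hdet r₂) (symm_of_similar s₂ (pMat_transpose _)) (h.trans s₁)
  · rw [conjUnder_iff hF hσ j hj hn3 r₁ r₃] at h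
    exact J_not_symm h2 hpos (hdet r₃) (symm_of_similar s₃ (pMat_transpose _)) (h.trans s₁)
  · rw [conjUnder_iff hF hσ j hj hn3 r₂ r₃] at h
    exact plus_ne_minus h2 k hab ((s₂.symm.trans h.symm).trans s₃)
  · obtain ⟨g, rfl, hg⟩ := std_of_involution hF hσ hγ hγ2
    obtain ⟨M, hr, hd, hM⟩ := exists_rel_GU hF hσ j hj hn3 g hg
    rcases classify_odd h2 k hab M (by rw [Fintype.card_fin, hnm]) hd hM with hh | hh | hh
    · exact Or.inl ((conjUnder_iff hF hσ j hj hn3 r₁ hr).2 (hh.trans s₁.symm))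
    · exact Or.inr (Or.inl ((conjUnder_iff hF hσ j hj hn3 r₂ hr).2 (hh.trans s₂.symm)))
    · exact Or.inr (Or.inr ((conjUnder_iff hF hσ j hj hn3 r₃ hr).2 (hh.trans s₃.symm)))
  · obtain ⟨e⟩ := centralizer_iso hF hσ j hj hn3 r₁
    obtain ⟨e'⟩ := psim_congr s₁
    exact ⟨e.trans e'⟩
  · obtain ⟨e⟩ := centralizer_iso hF hσ j hj hn3 r₂
    obtain ⟨e'⟩ := psim_congr s₂
    obtain ⟨e''⟩ := pgo_iso h2 (qfPlus (k + 1) F₀) (coe_qfPlus (k + 1))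
    exact ⟨(e.trans e').trans e''⟩
  · obtain ⟨e⟩ := centralizer_iso hF hσ j hj hn3 r₃
    obtain ⟨e'⟩ := psim_congr s₃
    obtain ⟨e''⟩ := pgo_iso h2 (qfMinus k F₀ a b) (coe_qfMinus k a b)
    exact ⟨(e.trans e').trans e''⟩

end Cfsg.Agent.S2707
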