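import Cfsg.Statements.S2708
import Cfsg.Agent.Lib.Classical.PSUGraphClasses
-- import your own Cfsg.Agent.* helpers here

set_option autoImplicit false
open Cfsg Matrix Cfsg.Agent.Classical Cfsg.Agent.Classical.FormSim Cfsg.Agent.Classical.PSUAut

namespace Cfsg.Agent.S2708

/-- Let T = PSU_n(q) with n = 2m ≥ 4 even and q even, realised over the field F (of characteristic 2) with q² elements, and G = Inndiag(T) the image of PGU_n(q). The involutory graph automorphisms of T fall into exactly two G-classes, with representatives whose centralizers in G are isomorphic respectively to the symplectic group Sp_n(F₀) and to the centralizer in Sp_n(F₀) of a symplectic transvection, F₀ a field with q elements. -/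
theorem result {F : Type*} [Field F] [Fintype F] [CharP F 2] {q : ℕ} (hF : Fintype.card F = q ^ 2) {n m : ℕ} (hm : 2 ≤ m) (hnm : n = 2 * m) (F₀ : Type*) [Field F₀] [Fintype F₀] (hF₀ : Fintype.card F₀ = q) :
    ∃ (γ₁ γ₃ : MulAut (Cfsg.PSU n F q)) (t : ↥(Matrix.symplecticGroup (Fin m) F₀)), Cfsg.IsTransvection (t : Matrix (Fin m ⊕ Fin m) (Fin m ⊕ Fin m) F₀) ∧ Cfsg.IsGraphAutClassPSU γ₁ ∧ orderOf γ₁ = 2 ∧ Cfsg.IsGraphAutClassPSU γ₃ ∧ orderOf γ₃ = 2 ∧ ¬ Cfsg.IsConjUnder (Cfsg.inndiagPSU n F q) γ₁ γ₃ ∧ (∀ γ : MulAut (Cfsg.PSU n F q), Cfsg.IsGraphAutClassPSU γ → orderOf γ = 2 → Cfsg.IsConjUnder (Cfsg.inndiagPSU n F q) γ₁ γ ∨ Cfsg.IsConjUnder (Cfsg.inndiagPSU n F q) γ₃ γ) ∧ Nonempty (↥(Cfsg.inndiagPSU n F q ⊓ Subgroup.centralizer {γ₁}) ≃* ↥(Matrix.symplecticGroup (Fin m) F₀)) ∧ Nonempty (↥(Cfsg.inndiagPSU n F q ⊓ Subgroup.centralizer {γ₃}) ≃* ↥(Subgroup.centralizer ({t} : Set ↥(Matrix.symplecticGroup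 (Fin m) F₀)))) := by
  classical
  have hn3 : 3 ≤ n := by omega
  obtain ⟨σ, hσ⟩ := exists_sigma hF
  obtain ⟨j, hj⟩ := exists_datum_graph hF hσ F₀ hF₀
  haveI : CharP F₀ 2 := (RingHom.charP_iff j j.injective 2).2 ‹_›
  obtain ⟨hcl, hne, ⟨eJ⟩, t, ht, ⟨e1⟩⟩ := char_two_even (K := F₀) (ι := Fin n) (m := m) (by omega) (by simp [hnm])
  obtain ⟨g₁, A₁, r₁, s₁, c₁, o₁⟩ := exists_graph hF hσ j hj hn3 (κ := Fin m ⊕ Fin m) (by simp; omega)
    (Matrix.isUnit_det_J (Fin m) F₀).ne_zero (Or.inr (by simp [Matrix.J, Matrix.fromBlocks_transpose, Matrix.fromBlocks_neg]))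
  obtain ⟨g₃, A₃, r₃, s₃, c₃, o₃⟩ := exists_graph hF hσ j hj hn3 (κ := Fin m ⊕ Fin m) (by simp; omega)
    (S := (1 : Matrix (Fin m ⊕ Fin m) (Fin m ⊕ Fin m) F₀)) (by rw [Matrix.det_one]; exact one_ne_zero)
    (Or.inl Matrix.transpose_one)
  refine ⟨_, _, t, ht, c₁, o₁, c₃, o₃, fun h => ?_, fun γ hγ hγ2 => ?_, ?_, ?_⟩
  · rw [conjUnder_iff hF hσ j hj hn3 r₁ r₃] at h
    exact hne s₁ (h.symm.trans s₃)
  · obtain ⟨g, rfl, hg⟩ := std_of_involution hF hσ hγ hγ2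
    obtain ⟨M, hr, hd, hM⟩ := exists_rel_GU hF hσ j hj hn3 g hg
    rcases hcl hd hM with hh | hh
    · exact Or.inl ((conjUnder_iff hF hσ j hj hn3 r₁ hr).2 (hh.trans s₁.symm))
    · exact Or.inr ((conjUnder_iff hF hσ j hj hn3 r₃ hr).2 (hh.trans s₃.symm))
  · obtain ⟨e⟩ := centralizer_iso hF hσ j hj hn3 r₁
    obtain ⟨e'⟩ := psim_congr s₁
    exact ⟨(e.trans e').trans eJ⟩
  · obtain ⟨e⟩ := centralizer_iso hF hσ j hj hn3 r₃
    obtain ⟨e'⟩ := psim_congr s₃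
    exact ⟨(e.trans e').trans e1⟩

end Cfsg.Agent.S2708
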