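import Cfsg.Statements.S2709
import Cfsg.Agent.Lib.Classical.PSUGraphClasses
-- import your own Cfsg.Agent.* helpers here

set_option autoImplicit false
open Cfsg Matrix Cfsg.Agent.Classical Cfsg.Agent.Classical.FormSim Cfsg.Agent.Classical.PSUAut

namespace Cfsg.Agent.S2709

/-- Let T = PSU_n(q) be simple (n ≥ 3, (n,q) ≠ (3,2), q = p^f), realised over the field F with q² elements, G = Inndiag(T) the image of PGU_n(q), and γ an involutory graph automorphism of T. The G-class of γ is the union of exactly c T-classes, where: if n is even and q is odd, c = gcd(n/2, q + 1) when C_G(γ) is isomorphic to PGSp_n(F₀) for a field F₀ with q elements (symplectic type) and c = gcd(n, q + 1)/2 otherwise; and c = gcd(n, q + 1) when n is odd or q is even. -/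
theorem result {F : Type*} [Field F] [Fintype F] {p f q : ℕ} [Fact p.Prime] (hq : q = p ^ f) (hf : 1 ≤ f) (hF : Fintype.card F = q ^ 2) {n : ℕ} (hn : 3 ≤ n) (hs : ¬ (n = 3 ∧ q = 2)) (F₀ : Type*) [Field F₀] [Fintype F₀] (hF₀ : Fintype.card F₀ = q) (γ : MulAut (Cfsg.PSU n F q)) (hγ : Cfsg.IsGraphAutClassPSU γ) (hγ2 : orderOf γ = 2) :
    ((Even n ∧ Odd q ∧ Nonempty (↥(Cfsg.inndiagPSU n F q ⊓ Subgroup.centralizer {γ}) ≃* Cfsg.PGSp (n / 2) F₀)) → Cfsg.splitClassCount (Cfsg.inndiagPSU n F q) (Cfsg.Inn (Cfsg.PSU n F q)) γ = Nat.gcd (n / 2) (q + 1)) ∧ ((Even n ∧ Odd q ∧ ¬ Nonempty (↥(Cfsg.inndiagPSU n F q ⊓ Subgroup.centralizer {γ}) ≃* Cfsg.PGSp (n / 2) F₀)) → Cfsg.splitClassCount (Cfsg.inndiagPSU n F q) (Cfsg.Inn (Cfsg.PSU n F q)) γ = Nat.gcd n (q + 1) / 2) ∧ (¬ (Even n ∧ Odd q) → Cfsg.splitClassCount (Cfsg.inndiagPSU n F q) (Cfsg.Inn (Cfsg.PSU n F q)) γ = Nat.gcd n (q + 1)) := by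
  classical
  obtain ⟨σ, hσ⟩ := exists_sigma hF
  obtain ⟨j, hj⟩ := exists_datum_graph hF hσ F₀ hF₀
  have hN : Nat.card (powMonoidHom (q + 1) : Fˣ →* Fˣ).ker = q + 1 := natCard_normOne hF
  obtain ⟨g, rfl, hg⟩ := std_of_involution hF hσ hγ hγ2
  obtain ⟨M, hr, hd, hM⟩ := exists_rel_GU hF hσ j hj hn g hg
  obtain ⟨eC⟩ := centralizer_iso hF hσ j hj hn hr
  refine ⟨?_, ?_, ?_⟩
  · rintro ⟨hev, hodd, ⟨e⟩⟩
    have h2 : (2 : F₀) ≠ 0 := two_ne_zero_small hF hF₀ hodd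
    obtain ⟨m, rfl⟩ : ∃ m, n = 2 * m := ⟨n / 2, by obtain ⟨c, rfl⟩ := hev; omega⟩
    rw [Nat.mul_div_cancel_left _ two_pos] at e ⊢
    obtain ⟨k, rfl⟩ : ∃ k, m = k + 1 := ⟨m - 1, by omega⟩
    have hsk : Mᵀ = -M :=
      hM.resolve_left fun hs => not_pgsp h2 (k := k) (Fintype.card_fin _) hd hs ⟨eC.symm.trans e⟩
    have hJ := similar_J _ (Fintype.card_fin _) hd (bf_self_zero_of_skew h2 hsk)
    obtain ⟨hd1, hd2⟩ := alt_det hJ
    rw [split_graph hF hσ j hj hn hr (powMonoidHom (k + 1)).range (fun y c ν t hy hν ht => ?_) (fun t ht => ?_),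
      gcd_index_half, hN]
    · refine Subgroup.mem_sup_right ⟨⟨_, mult_sq_mem hF hσ j hj hν⟩, Subtype.ext (Units.ext ?_)⟩
      rw [powMonoidHom_apply, Subgroup.coe_pow, Units.val_pow_eq_pow_val, ht, hd1 y c hy, map_pow, pow_mul,
        ← mul_pow]
      rfl
    · obtain ⟨w, rfl⟩ := ht
      obtain ⟨ν, c, hν, hw⟩ := exists_mult_of_norm_one hF hσ j hj w
      obtain ⟨y, hy⟩ := hd2 c
      refine ⟨y, c, ν, hy, hν, ?_⟩
      rw [powMonoidHom_apply, Subgroup.coe_pow, Units.val_pow_eq_pow_val, ← hw, hd1 y c hy, map_pow, pow_mul,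
        ← mul_pow]
  · rintro ⟨hev, hodd, hne⟩
    have h2 : (2 : F₀) ≠ 0 := two_ne_zero_small hF hF₀ hodd
    obtain ⟨m, rfl⟩ : ∃ m, n = 2 * m := ⟨n / 2, by obtain ⟨c, rfl⟩ := hev; omega⟩
    rw [Nat.mul_div_cancel_left _ two_pos] at hne
    have hs : Mᵀ = M :=
      hM.resolve_right fun hsk => by
        obtain ⟨e'⟩ := psim_congr (similar_J _ (Fintype.card_fin _) hd (bf_self_zero_of_skew h2 hsk))
        exact hne ⟨eC.trans e'⟩
    have heven : Even (Nat.card (powMonoidHom (q + 1) : Fˣ →* Fˣ).ker) := by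
      rw [hN]; exact hodd.add_odd odd_one
    rw [split_graph hF hσ j hj hn hr ((powMonoidHom (2 * m)).range.comap (powMonoidHom 2))
      (fun y c ν t hy hν ht => ?_) (fun t ht => ?_), gcd_index_sqroot m heven, hN]
    · refine Subgroup.mem_sup_right ⟨⟨_, mult_sq_mem hF hσ j hj hν⟩, Subtype.ext (Units.ext ?_)⟩
      have h1 : j (y : Matrix (Fin (2 * m)) (Fin (2 * m)) F₀).det ^ 2 = j (c : F₀) ^ (2 * m) := by
        rw [← map_pow, ← map_pow, sim_det hd hy, Fintype.card_fin]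
      simp only [powMonoidHom_apply, Subgroup.coe_pow, Units.val_pow_eq_pow_val, ht]
      rw [mul_pow _ _ 2, h1]
      show ((ν : F) ^ 2 * j c) ^ (2 * m) = _
      ring
    · obtain ⟨w, hw⟩ := ht
      obtain ⟨ν, c, hν, hνw⟩ := exists_mult_of_norm_one hF hσ j hj w
      obtain ⟨y, hy⟩ := exists_multiplier h2 (Fintype.card_fin _) hd hs c
      obtain ⟨r, hr', hrd⟩ := exists_reflection h2 ⟨⟨0, by omega⟩⟩ hd hs
      have h1 : j (y : Matrix (Fin (2 * m)) (Fin (2 * m)) F₀).det ^ 2 = j (c : F₀) ^ (2 * m) := by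
        rw [← map_pow, ← map_pow, sim_det hd hy, Fintype.card_fin]
      have h3 := congrArg (fun x : (powMonoidHom (q + 1) : Fˣ →* Fˣ).ker => ((x : Fˣ) : F)) hw
      simp only [powMonoidHom_apply, Subgroup.coe_pow, Units.val_pow_eq_pow_val] at h3
      have h4 : ((t : Fˣ) : F) ^ 2 = ((ν : F) ^ (2 * m) * j (y : Matrix (Fin (2 * m)) (Fin (2 * m)) F₀).det) ^ 2 := by
        rw [← h3, ← hνw, mul_pow _ _ 2, h1]; ring
      rcases sq_eq_sq_iff_eq_or_eq_neg.1 h4 with h5 | h5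
      · exact ⟨y, c, ν, hy, hν, h5⟩
      · refine ⟨r * y, c, ν, ?_, hν, ?_⟩
        · rw [Units.val_mul, Matrix.transpose_mul]
          calc _ = (y : Matrix (Fin (2 * m)) (Fin (2 * m)) F₀)ᵀ *
              ((r : Matrix (Fin (2 * m)) (Fin (2 * m)) F₀)ᵀ * M *
                (r : Matrix (Fin (2 * m)) (Fin (2 * m)) F₀)) * (y : Matrix (Fin (2 * m)) (Fin (2 * m)) F₀) := by
                simp only [Matrix.mul_assoc]
            _ = _ := by rw [hr', hy]
        · rw [h5, Units.val_mul, Matrix.det_mul, hrd, map_mul, map_neg, map_one, neg_one_mul, mul_neg]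
  · intro hcase
    have hodd : Odd (Fintype.card (Fin n)) ∨ (2 : F₀) = 0 := by
      rw [Fintype.card_fin]
      rcases Nat.even_or_odd n with he | ho
      · refine Or.inr ?_
        have hq2 : Even q := Nat.not_odd_iff_even.1 fun ho => hcase ⟨he, ho⟩
        haveI : CharP F₀ 2 := ringChar.of_eq (FiniteField.even_card_iff_char_two.2 (by
          rw [hF₀]; exact Nat.even_iff.1 hq2))
        exact CharTwo.two_eq_zero
      · exact Or.inl ho
    rw [split_graph hF hσ j hj hn hr ⊥ (fun y c ν t hy hν ht => ?_) (fun t ht => ?_), Subgroup.index_bot, hN]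
    · obtain ⟨s, hs2, hsn⟩ := det_is_pow hd hodd hy
      refine Subgroup.mem_sup_left ⟨⟨_, root_mem hF hσ j hj hs2 hν⟩, Subtype.ext (Units.ext ?_)⟩
      rw [powMonoidHom_apply, Subgroup.coe_pow, Units.val_pow_eq_pow_val, ht,
        show (y : Matrix (Fin n) (Fin n) F₀).det = ((Matrix.GeneralLinearGroup.det y : F₀ˣ) : F₀) from rfl, ← hsn,
        Fintype.card_fin, Units.val_pow_eq_pow_val, map_pow, ← mul_pow]
      rfl
    · rw [Subgroup.mem_bot] at ht
      subst ht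
      exact ⟨1, 1, 1, by simp, by simp, by simp⟩

end Cfsg.Agent.S2709
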