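import Cfsg.Statements.S2710
import Cfsg.Agent.Lib.Classical.PSUGraphClasses
-- import your own Cfsg.Agent.* helpers here

set_option autoImplicit false
open Cfsg Matrix Cfsg.Agent.Classical Cfsg.Agent.Classical.FormSim Cfsg.Agent.Classical.PSUAut

namespace Cfsg.Agent.S2710

/-- Let T = PSU_n(q) with n ≥ 4 divisible by 4 (n = 2m) and q odd, realised over the field F with q² elements, G = Inndiag(T) the image of PGU_n(q), and φ the standard field automorphism of T attached to the q-th power map of F (it induces inverse-transpose on the unitary matrices and is a graph automorphism). Its centralizer in G is isomorphic to the projective conformal orthogonal group of the plus-type form Σ xᵢ yᵢ in dimension n over a field F₀ with q elements. (Dimensions n ≡ 2 (mod 4) are not covered.) -/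
theorem result {F : Type*} [Field F] [Fintype F] {q : ℕ} (hodd : Odd q) (hF : Fintype.card F = q ^ 2) {n m : ℕ} (hm : 2 ≤ m) (hnm : n = 2 * m) (h4 : 4 ∣ n) (F₀ : Type*) [Field F₀] [Fintype F₀] (hF₀ : Fintype.card F₀ = q) (σ : F ≃+* F) (hσ : ∀ a : F, σ a = a ^ q) (φ : MulAut (Cfsg.PSU n F q)) (hφ : Cfsg.IsFieldAutPSUOf σ φ) :
    Nonempty (↥(Cfsg.inndiagPSU n F q ⊓ Subgroup.centralizer {φ}) ≃* Cfsg.PGO F₀ (Cfsg.quadFormPlus m F₀)) := by
  classical
  have h2 : (2 : F₀) ≠ 0 := two_ne_zero_small hF hF₀ hodd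
  obtain ⟨k, rfl⟩ : ∃ k, m = k + 1 := ⟨m - 1, by omega⟩
  have hn3 : 3 ≤ n := by omega
  obtain ⟨σ', hσ'⟩ := exists_sigma hF
  obtain rfl : σ = σ' := RingEquiv.ext fun a => by rw [hσ a, PSLAut.sigma_eq_pow hF hσ']
  obtain ⟨j, hj⟩ := exists_datum_graph hF hσ' F₀ hF₀
  obtain rfl : φ = psuSemi 1 σ := stdField_iff.1 hφ
  have hr : Rel σ j ((1 : GU n F q) : GL (Fin n) F) (1 : Matrix (Fin n) (Fin n) F₀) := by
    refine ⟨1, 1, 1, by simp, ?_⟩
    rw [herm]
    simp
  obtain ⟨eC⟩ := centralizer_iso hF hσ' j hj hn3 hr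
  have hP := det_pMat_ne_zero (nondegenerate_qfPlus (F := F₀) (k + 1))
  have he : Even (k + 1) := by
    obtain ⟨c, hc⟩ := h4
    exact ⟨c, by omega⟩
  have hs : Similar (1 : Matrix (Fin n) (Fin n) F₀) (pMat (qfPlus (k + 1) F₀)) :=
    similar_of_det h2 Matrix.transpose_one (pMat_transpose _) (by simp) hP (by simp; omega) (by
      rw [det_pMat, gramDet_qfPlus, Matrix.det_one, mul_one, he.neg_one_pow]; exact IsSquare.one)
  obtain ⟨e'⟩ := psim_congr hs
  obtain ⟨e''⟩ := pgo_iso h2 (qfPlus (k + 1) F₀) (coe_qfPlus (k + 1))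
  exact ⟨(eC.trans e').trans e''⟩

end Cfsg.Agent.S2710
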