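import Cfsg.Statements.S2712
import Cfsg.Agent.Lib.Classical.PSpFieldAut

set_option autoImplicit false
open Cfsg

namespace Cfsg.Agent.S2712

/-- Let T = PSp_{2m}(F) be simple over the field F with p^f elements (m ≥ 2, (2m, |F|) ≠ (4, 2)), G = Inndiag(T) the image of the projective conformal symplectic group PGSp_{2m}(F), and x a field automorphism of T of prime order r. Then r divides f; C_G(x) is isomorphic to PGSp_{2m}(F₀) for a field F₀ with p^(f/r) elements; and the G-class of x is the union of exactly gcd(gcd(2, p^f − 1), r) T-classes. -/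
theorem result {F : Type*} [Field F] [Fintype F] {p f : ℕ} [Fact p.Prime] (hF : Fintype.card F = p ^ f) (hf : 1 ≤ f) {m : ℕ} (hm : 2 ≤ m) (hs : m = 2 → 3 ≤ Fintype.card F) (x : MulAut (Cfsg.PSp m F)) (hx : Cfsg.IsFieldAutClassPSp x) {r : ℕ} (hr : r.Prime) (hxr : orderOf x = r) (F₀ : Type*) [Field F₀] [Fintype F₀] (hF₀ : Fintype.card F₀ = p ^ (f / r)) :
    r ∣ f ∧ Nonempty (↥(Cfsg.inndiagPSp m F ⊓ Subgroup.centralizer {x}) ≃* Cfsg.PGSp m F₀) ∧ Cfsg.splitClassCount (Cfsg.inndiagPSp m F) (Cfsg.Inn (Cfsg.PSp m F)) x = Nat.gcd (Nat.gcd 2 (p ^ f - 1)) r := by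
  haveI : CharP F p := charP_of_card_eq_prime_pow hF
  obtain ⟨σ, a, hσ, hσr, rfl⟩ := Cfsg.Agent.Classical.PSpAut.fieldClass_std (p := p) hm hx hr hxr
  obtain ⟨hrf, hcard, j, hj⟩ :=
    Cfsg.Agent.Classical.PSLAut.exists_fixed_embedding (p := p) hF hσr F₀ hF₀
  have ha : Cfsg.Agent.Classical.PSpAut.inndiagHom m F a ∈ Cfsg.inndiagPSp m F :=
    Cfsg.Agent.Classical.PSpAut.mem_inndiag_iff.2 ⟨a, rfl⟩
  obtain ⟨e1⟩ := Cfsg.Agent.Classical.PSpAut.inndiag_inf_centralizer_conj ha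
    (Cfsg.Agent.Classical.PSpAut.pspSemi 1 σ)
  obtain ⟨e2⟩ := Cfsg.Agent.Classical.PSpAut.centralizer_field_iso (m := m) (by omega) σ j hj
  refine ⟨hrf, ⟨e1.trans e2⟩, ?_⟩
  rw [Cfsg.Agent.Classical.splitClassCount_conj ha, Cfsg.Agent.Classical.PSpAut.split_field (by omega) σ]
  have h1 := (Cfsg.Agent.Classical.Descent.fixedUnits σ).index_mul_card
  rw [hcard, Nat.card_units, Nat.card_eq_fintype_card, hF] at h1
  have hk : f / r ≠ 0 := (Nat.div_pos (Nat.le_of_dvd hf hrf) hr.pos).ne'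
  obtain ⟨a0, ha0⟩ : ∃ a0, p ^ (f / r) = a0 := ⟨_, rfl⟩
  have hpow : p ^ f = a0 ^ r := by rw [← ha0, ← pow_mul, Nat.div_mul_cancel hrf]
  rw [ha0, hpow] at h1
  have hq1 : 1 < a0 := ha0 ▸ Nat.one_lt_pow hk (Fact.out : p.Prime).one_lt
  have hidx : (Cfsg.Agent.Classical.Descent.fixedUnits σ).index = ∑ i ∈ Finset.range r, a0 ^ i := by
    rw [Nat.geomSum_eq hq1 r, ← h1, Nat.mul_div_cancel _ (by omega)]
  rw [hidx, hpow]
  rcases Nat.even_or_odd a0 with hev | hodd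
  · have h3 : Odd (a0 ^ r - 1) :=
      Nat.Even.sub_odd (Nat.one_le_pow _ _ (by omega)) (hev.pow_of_ne_zero hr.ne_zero) odd_one
    rw [show Nat.gcd 2 (a0 ^ r - 1) = 1 from Nat.coprime_two_left.2 h3, Nat.gcd_one_left]
    refine Nat.coprime_two_left.2 ?_
    obtain ⟨r', hr'⟩ := Nat.exists_eq_succ_of_ne_zero hr.ne_zero
    rw [hr', Finset.sum_range_succ']
    simp only [pow_succ, ← Finset.sum_mul, pow_zero]
    exact (Even.mul_left hev _).add_one
  · have h3 : 2 ∣ a0 ^ r - 1 := (Nat.Odd.sub_odd hodd.pow odd_one).two_dvd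
    rw [Nat.gcd_eq_left h3]
    have hmod : (∑ i ∈ Finset.range r, a0 ^ i) % 2 = r % 2 := by
      rw [Finset.sum_nat_mod, Finset.sum_congr rfl (fun i _ => Nat.odd_iff.1 hodd.pow)]
      simp
    rw [Nat.gcd_rec 2, hmod, ← Nat.gcd_rec]

end Cfsg.Agent.S2712
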