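import Cfsg.Statements.S2718
import Cfsg.Agent.Lib.Classical.OrthGOInvol
-- import your own Cfsg.Agent.* helpers here

set_option autoImplicit false
open Cfsg

namespace Cfsg.Agent.S2718
open Cfsg.Agent.Classical Cfsg.Agent.Classical.OrthAut Cfsg.Agent.Classical.GOQuot

/-- Let T = PΩ⁺_{2m}(F) with m ≥ 4 and |F| = q odd, G = Inndiag(T), and γ an involutory graph automorphism of T induced by a similarity (one interchanging the two classes of maximal totally singular subspaces). Then the G-class of γ is either a single T-class or the union of exactly two T-classes, and it is the union of two unless m is odd and q ≡ 3 (mod 4). -/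
theorem result {F : Type*} [Field F] [Fintype F] (hodd : Odd (Fintype.card F)) {m : ℕ} (hm : 4 ≤ m) (γ : MulAut (Cfsg.POmega F (Cfsg.quadFormPlus m F))) (hγ : Cfsg.IsSimilarityGraphAutPOmegaPlus m γ) (hγ2 : orderOf γ = 2) :
    (Cfsg.splitClassCount (Cfsg.inndiagPOmegaPlus m F) (Cfsg.Inn (Cfsg.POmega F (Cfsg.quadFormPlus m F))) γ = 1 ∨ Cfsg.splitClassCount (Cfsg.inndiagPOmegaPlus m F) (Cfsg.Inn (Cfsg.POmega F (Cfsg.quadFormPlus m F))) γ = 2) ∧ (¬ (Odd m ∧ Fintype.card F % 4 = 3) → Cfsg.splitClassCount (Cfsg.inndiagPOmegaPlus m F) (Cfsg.Inn (Cfsg.POmega F (Cfsg.quadFormPlus m F))) γ = 2) := by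
  have C := ctx_plus hodd (m := m) (by omega)
  obtain ⟨k, hk⟩ := exists_nonsquare_sim_plus hodd (m := m) (by omega)
  have hP : ∀ g : Geo.quadSimilarityGroup (F := F) ⇑(qfPlus m F),
      PreservesSingularClasses (quadFormPlus m F) ((g : GL (Fin m ⊕ Fin m) F) : Matrix _ _ F) ↔ psgn m g = 1 := by
    intro g; rw [← coe_qfPlus m]; exact preserves_plus hodd (by omega) g
  obtain ⟨h1, h2⟩ := C.split_graph' hm hk _ (coe_qfPlus m) hP _ rfl γ hγ2 hγ
  exact ⟨h1, fun h => h2 ((spin_negOne_plus hodd (by omega)).2 h)⟩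

end Cfsg.Agent.S2718
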