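import Cfsg.Statements.S2725
import Cfsg.Agent.Lib.Classical.OrthGOModels
-- import your own Cfsg.Agent.* helpers here

set_option autoImplicit false
open Cfsg

namespace Cfsg.Agent.S2725
open Cfsg.Agent.Classical Cfsg.Agent.Classical.OrthAut Cfsg.Agent.Classical.GOQuot

/-- Let T = PΩ⁺_{2m}(F) with m ≥ 4 and |F| = q odd. The inner-diagonal group G = Inndiag(T) (image of the class-preserving similarities) taken modulo the inner automorphism group T is cyclic of order 2 when m is odd and q ≡ 3 (mod 4), cyclic of order 4 when m is odd and q ≡ 1 (mod 4), and elementary abelian of order 4 when m is even. -/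
theorem result {F : Type*} [Field F] [Fintype F] (hodd : Odd (Fintype.card F)) {m : ℕ} (hm : 4 ≤ m) :
    ((Odd m ∧ Fintype.card F % 4 = 3) → (∃ φ : ↥(Cfsg.inndiagPOmegaPlus m F) →* Multiplicative (ZMod 2), Function.Surjective φ ∧ φ.ker = (Cfsg.Inn (Cfsg.POmega F (Cfsg.quadFormPlus m F))).subgroupOf (Cfsg.inndiagPOmegaPlus m F))) ∧ ((Odd m ∧ Fintype.card F % 4 = 1) → (∃ φ : ↥(Cfsg.inndiagPOmegaPlus m F) →* Multiplicative (ZMod 4), Function.Surjective φ ∧ φ.ker = (Cfsg.Inn (Cfsg.POmega F (Cfsg.quadFormPlus m F))).subgroupOf (Cfsg.inndiagPOmegaPlus m F))) ∧ (Even m → (∃ φ : ↥(Cfsg.inndiagPOmegaPlus m F) →* Multiplicative (ZMod 2 × ZMod 2), Function.Surjective φ ∧ φ.ker = (Cfsg.Inn (Cfsg.POmega F (Cfsg.quadFormPlus m F))).subgroupOf (Cfsg.inndiagPOmegaPlus m F))) := by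
  have C := ctx_plus hodd (m := m) (by omega)
  obtain ⟨g, hg⟩ := exists_nonsquare_sim_plus hodd (m := m) (by omega)
  have hP : ∀ g : Geo.quadSimilarityGroup (F := F) ⇑(qfPlus m F),
      PreservesSingularClasses (quadFormPlus m F) ((g : GL (Fin m ⊕ Fin m) F) : Matrix _ _ F) ↔ psgn m g = 1 := by
    intro g; rw [← coe_qfPlus m]; exact preserves_plus hodd (by omega) g
  refine ⟨fun h => ?_, fun h => ?_, fun h => ?_⟩
  · exact C.diag_eq' _ (coe_qfPlus m) hP _ rfl _ (C.diag_quot_two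
      ((Int.units_eq_one_or _).resolve_left fun h' => (spin_negOne_plus hodd (by omega)).1 h' h) hg)
  · have hm' := (spin_negOne_plus hodd (m := m) (by omega)).2 fun h' => by omega
    obtain ⟨s, hs, hk⟩ := kap_sq_plus hodd (by omega) hm'
    exact C.diag_eq' _ (coe_qfPlus m) hP _ rfl _
      (C.diag_quot_cyclic hm' hs fun e => Nat.not_even_iff_odd.2 h.1 (hk.1 e))
  · have hm' := (spin_negOne_plus hodd (m := m) (by omega)).2 fun h' => Nat.not_odd_iff_even.2 h h'.1
    obtain ⟨s, hs, hk⟩ := kap_sq_plus hodd (by omega) hm'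
    exact C.diag_eq' _ (coe_qfPlus m) hP _ rfl _ (C.diag_quot_klein hm' hs (hk.2 h))

end Cfsg.Agent.S2725
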