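import Cfsg.Statements.S2729
import Cfsg.Agent.Lib.Classical.OrthGOModels
-- import your own Cfsg.Agent.* helpers here

set_option autoImplicit false
open Cfsg

namespace Cfsg.Agent.S2729
open Cfsg.Agent.Classical Cfsg.Agent.Classical.OrthAut Cfsg.Agent.Classical.GOQuot

/-- Let T = PΩ⁻_{2m+2}(F) with m ≥ 3 and |F| = q odd (form with anisotropic binary part). The inner-diagonal group G = Inndiag(T) (image of the class-preserving similarities) taken modulo the inner automorphism group T is cyclic of order 4 when m is even and q ≡ 3 (mod 4), and of order 2 otherwise. -/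
theorem result {F : Type*} [Field F] [Fintype F] (hodd : Odd (Fintype.card F)) {m : ℕ} (hm : 3 ≤ m) (a b : F) (hab : (∀ z₁ z₂ : F, z₁ ^ 2 + a * z₁ * z₂ + b * z₂ ^ 2 = 0 → z₁ = 0 ∧ z₂ = 0)) :
    ((Even m ∧ Fintype.card F % 4 = 3) → (∃ φ : ↥(Cfsg.inndiagPOmegaMinus m F a b) →* Multiplicative (ZMod 4), Function.Surjective φ ∧ φ.ker = (Cfsg.Inn (Cfsg.POmega F (Cfsg.quadFormMinus m F a b))).subgroupOf (Cfsg.inndiagPOmegaMinus m F a b))) ∧ (¬ (Even m ∧ Fintype.card F % 4 = 3) → (∃ φ : ↥(Cfsg.inndiagPOmegaMinus m F a b) →* Multiplicative (ZMod 2), Function.Surjective φ ∧ φ.ker = (Cfsg.Inn (Cfsg.POmega F (Cfsg.quadFormMinus m F a b))).subgroupOf (Cfsg.inndiagPOmegaMinus m F a b))) := by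
  have C := ctx_minus hodd hm hab
  obtain ⟨g, hg⟩ := exists_nonsquare_sim_minus hodd hm hab
  have hP : ∀ g : Geo.quadSimilarityGroup (F := F) ⇑(qfMinus m F a b),
      PreservesSingularClassesMinus m a b ((g : GL ((Fin m ⊕ Fin m) ⊕ Fin 2) F) : Matrix _ _ F) ↔
        psgn (m + 1) g = 1 := preserves_minus_iff hm hab
  refine ⟨fun h => ?_, fun h => ?_⟩
  · have hm' := (spin_negOne_minus hodd hm hab).2 h
    obtain ⟨e, hmu, hps, he⟩ := exists_sq_negOne hodd hm hab h.1
    have hpe : C.psi e = (-1, -1) := by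
      rw [C.psi_apply, hps, hmu, (sqChar_eq_neg_one_iff _).2 ?_]
      rw [Units.val_neg, Units.val_one, ← pow_one (-1 : F), isSquare_negOne_pow_iff rfl hodd, pow_one]
      omega
    obtain ⟨s, hs, hne⟩ := C.kap_sq_refl hm' hpe he
    exact C.diag_eq' _ (coe_qfMinus m a b) hP _ rfl _ (C.diag_quot_cyclic hm' hs hne)
  · exact C.diag_eq' _ (coe_qfMinus m a b) hP _ rfl _ (C.diag_quot_two
      ((Int.units_eq_one_or _).resolve_left fun h' => h ((spin_negOne_minus hodd hm hab).1 h')) hg)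

end Cfsg.Agent.S2729
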