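import Cfsg.Statements.S2734
import Cfsg.Agent.Lib.Lie.Chev.FoldG2
-- import your own Cfsg.Agent.* helpers here

set_option autoImplicit false
open Cfsg

namespace Cfsg.Agent.S2734

/-- In the Chevalley group of type D₄ over a finite field F (the matrix group generated by the root elements), a graph automorphism attached to a symmetry π of the Dynkin diagram (sending each fundamental root element x_p(t) to x_{π(p)}(t) and each x_{−p}(t) to x_{−π(p)}(t)) that has order 3 — a standard triality graph automorphism, π being a 3-cycle of the three outer nodes — has fixed-point subgroup isomorphic to the Chevalley group of type G₂ over F. -/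
theorem result {F : Type*} [Field F] [Fintype F] (τ : MulAut ↥(Cfsg.Lie.chevD4.group F)) (hτ : Cfsg.Lie.chevD4.IsGraphAut τ) (hτ3 : orderOf τ = 3) :
    Nonempty (↥(MonoidHom.eqLocus τ.toMonoidHom (MonoidHom.id ↥(Cfsg.Lie.chevD4.group F))) ≃* ↥(Cfsg.Lie.chevG2.group F)) := by
  obtain ⟨π, hsym, hφ⟩ := hτ
  have hlong : ∀ i : Fin Cfsg.Lie.chevD4.rank,
      Cfsg.Lie.chevD4.isLong (Cfsg.Lie.chevD4.simple i) = false := by decide +kernel
  have hexp : ∀ i j : Fin Cfsg.Lie.chevD4.rank,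
      Cfsg.Lie.chevD4.graphExp (ringChar F) i j = 1 := by
    intro i j
    simp [Cfsg.Lie.ChevalleyDatum.graphExp, hlong]
  have hperm : ∀ p : Equiv.Perm (Fin Cfsg.Lie.chevD4.rank),
      (∀ i j : Fin Cfsg.Lie.chevD4.rank, i ≠ j →
        Cfsg.Lie.chevD4.bonds (p i) (p j) = Cfsg.Lie.chevD4.bonds i j) →
      (∀ i, (p i : ℕ) = Cfsg.Agent.Lie.Chev.lookupN [2, 1, 3, 0] i) ∨
      (∀ i, (p i : ℕ) = Cfsg.Agent.Lie.Chev.lookupN [3, 1, 0, 2] i) ∨ ∀ i, p (p i) = i := by
    decide +kernel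
  have hdi : ∀ g, g ∈ MonoidHom.eqLocus τ.toMonoidHom (MonoidHom.id _) ↔ τ g = g := fun g => Iff.rfl
  rcases hperm π hsym with h | h | h
  · exact Cfsg.Agent.Lie.Chev.foldingD4G2.equiv_graphAut τ π hexp hφ (Or.inl h) _ hdi
  · exact Cfsg.Agent.Lie.Chev.foldingD4G2.equiv_graphAut τ π hexp hφ (Or.inr h) _ hdi
  · exfalso
    have h2 : τ ^ 2 = 1 := by
      refine MulEquiv.ext fun g => ?_
      rw [pow_two]
      refine Cfsg.Agent.Lie.Chev.certFullD4.simple_induction (P := fun g => τ (τ g) = g)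
        (fun i hi t => ?_) (by simp) (fun u v hu hv => by simp [hu, hv])
        (fun u hu => by simp [hu]) g
      constructor <;> refine Subtype.ext (Units.ext ?_)
      · have e := (hφ ⟨Cfsg.Agent.Lie.Chev.certFullD4.xg (Cfsg.Lie.chevD4.simple i) t, Cfsg.Agent.Lie.Chev.certFullD4.xg_mem_group (Cfsg.Agent.Lie.Chev.certFullD4.simple_lt hi) t⟩ ⟨i, hi⟩ t).1 (Cfsg.Agent.Lie.Chev.certFullD4.xg_val _ _)
        rw [hexp, pow_one] at e
        have e2 := (hφ _ (π ⟨i, hi⟩) t).1 e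
        rw [hexp, pow_one, h] at e2
        exact e2
      · have e := (hφ ⟨Cfsg.Agent.Lie.Chev.certFullD4.xg (Cfsg.Lie.chevD4.neg (Cfsg.Lie.chevD4.simple i)) t, Cfsg.Agent.Lie.Chev.certFullD4.xg_mem_group (Cfsg.Agent.Lie.Chev.certFullD4.neg_lt (Cfsg.Agent.Lie.Chev.certFullD4.simple_lt hi)) t⟩ ⟨i, hi⟩ t).2 (Cfsg.Agent.Lie.Chev.certFullD4.xg_val _ _)
        rw [hexp, pow_one] at e
        have e2 := (hφ _ (π ⟨i, hi⟩) t).2 e
        rw [hexp, pow_one, h] at e2
        exact e2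
    have hd := orderOf_dvd_of_pow_eq_one h2
    rw [hτ3] at hd
    norm_num at hd

end Cfsg.Agent.S2734
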