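import Cfsg.Statements.S2738
import Mathlib
import Cfsg.Agent.Lib.Classical.SLGroup


set_option autoImplicit false
open Cfsg

namespace Cfsg.Agent.S2738
open scoped commutatorElement

/-- The special linear group SL(3, 4) has centre of order 3 and does not split over it: no subgroup is a complement to the centre (so SL(3, 4) is a non-split central extension of PSL(3, 4) by a group of order 3). -/
theorem result (F : Type*) [Field F] [Fintype F] (hF : Fintype.card F = 4) : Nat.card ↥(Subgroup.center (Matrix.SpecialLinearGroup (Fin 3) F)) = 3 ∧ ¬ ∃ K : Subgroup (Matrix.SpecialLinearGroup (Fin 3) F), Subgroup.IsComplement' (Subgroup.center (Matrix.SpecialLinearGroup (Fin 3) F)) K := by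
  have h2 : Nat.card (Subgroup.center (Matrix.SpecialLinearGroup (Fin 3) F)) = 3 := by
    rw [Classical.natCard_center_SL, Classical.natCard_units_field, hF]; rfl
  refine ⟨h2, ?_⟩
  rintro ⟨K, hK⟩
  set Z := Subgroup.center (Matrix.SpecialLinearGroup (Fin 3) F)
  have hperf := Classical.SL_commutator_eq_top_of_three_le (F := F) (ι := Fin 3) (by simp)
  have htop : Z ⊔ K = ⊤ := hK.sup_eq_top
  have hle : commutator (Matrix.SpecialLinearGroup (Fin 3) F) ≤ K := by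
    rw [commutator_def, Subgroup.commutator_le]
    intro g₁ _ g₂ _
    obtain ⟨z₁, hz₁, k₁, hk₁, rfl⟩ := Subgroup.mem_sup_of_normal_left.1 (htop ▸ Subgroup.mem_top g₁ : g₁ ∈ Z ⊔ K)
    obtain ⟨z₂, hz₂, k₂, hk₂, rfl⟩ := Subgroup.mem_sup_of_normal_left.1 (htop ▸ Subgroup.mem_top g₂ : g₂ ∈ Z ⊔ K)
    have e1 := Subgroup.mem_center_iff.1 hz₁
    have e2 := Subgroup.mem_center_iff.1 hz₂
    have : ⁅z₁ * k₁, z₂ * k₂⁆ = ⁅k₁, k₂⁆ := by
      simp only [commutatorElement_def, _root_.mul_inv_rev]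
      calc z₁ * k₁ * (z₂ * k₂) * (k₁⁻¹ * z₁⁻¹) * (k₂⁻¹ * z₂⁻¹)
          = z₁ * (k₁ * z₂) * k₂ * k₁⁻¹ * z₁⁻¹ * k₂⁻¹ * z₂⁻¹ := by group
        _ = z₁ * z₂ * (k₁ * k₂ * k₁⁻¹) * z₁⁻¹ * k₂⁻¹ * z₂⁻¹ := by rw [e2 k₁]; group
        _ = z₁ * z₂ * (z₁⁻¹ * (k₁ * k₂ * k₁⁻¹)) * k₂⁻¹ * z₂⁻¹ := by
            rw [← Subgroup.mem_center_iff.1 (inv_mem hz₁) (k₁ * k₂ * k₁⁻¹)]; group
        _ = z₂ * (k₁ * k₂ * k₁⁻¹ * k₂⁻¹) * z₂⁻¹ := by
            rw [e2 z₁]; group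
        _ = k₁ * k₂ * k₁⁻¹ * k₂⁻¹ := by rw [← e2]; group
    rw [this]
    exact K.mul_mem (K.mul_mem (K.mul_mem hk₁ hk₂) (K.inv_mem hk₁)) (K.inv_mem hk₂)
  have hKtop : K = ⊤ := eq_top_iff.2 (hperf ▸ hle)
  have h3 : Z ⊓ K = ⊥ := disjoint_iff.1 hK.disjoint
  rw [hKtop, inf_top_eq] at h3
  rw [h3, Subgroup.card_bot] at h2
  omega

end Cfsg.Agent.S2738
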