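import Cfsg.Statements.S2739
import Cfsg.Agent.Lib.Spor.PSLThreeFour
-- import your own Cfsg.Agent.* helpers here

set_option autoImplicit false
open scoped Pointwise
open Cfsg

namespace Cfsg.Agent.S2739

/-- In the projective special linear group PSL(3, 4) all subgroups of order 3 are conjugate. -/
theorem result (F : Type*) [Field F] [Fintype F] (hF : Fintype.card F = 4) (X Y : Subgroup (Matrix.ProjectiveSpecialLinearGroup (Fin 3) F)) (hX : Nat.card ↥X = 3) (hY : Nat.card ↥Y = 3) : ∃ g : Matrix.ProjectiveSpecialLinearGroup (Fin 3) F, MulAut.conj g • X = Y := by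
  haveI : Fact (Nat.Prime 3) := ⟨Nat.prime_three⟩
  obtain ⟨x, hx⟩ := (isCyclic_iff_exists_orderOf_eq_natCard (α := X)).1 (isCyclic_of_prime_card hX)
  obtain ⟨y, hy⟩ := (isCyclic_iff_exists_orderOf_eq_natCard (α := Y)).1 (isCyclic_of_prime_card hY)
  have hX' : Subgroup.zpowers (x : Matrix.ProjectiveSpecialLinearGroup (Fin 3) F) = X :=
    Subgroup.eq_of_le_of_card_ge (Subgroup.zpowers_le.2 x.2) (by rw [Nat.card_zpowers, Subgroup.orderOf_coe, hx])
  have hY' : Subgroup.zpowers (y : Matrix.ProjectiveSpecialLinearGroup (Fin 3) F) = Y :=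
    Subgroup.eq_of_le_of_card_ge (Subgroup.zpowers_le.2 y.2) (by rw [Nat.card_zpowers, Subgroup.orderOf_coe, hy])
  obtain ⟨e⟩ := Spor.L34Elem.model hF
  have h := Spor.L34Elem.three_conj (x := e x) (y := e y) (by rw [MulEquiv.orderOf_eq, Subgroup.orderOf_coe, hx, hX])
    (by rw [MulEquiv.orderOf_eq, Subgroup.orderOf_coe, hy, hY])
  obtain ⟨g, hg⟩ := isConj_iff.1 h
  refine ⟨e.symm g, ?_⟩
  rw [← hX', ← hY', Subgroup.pointwise_smul_def]
  refine (MonoidHom.map_zpowers _ _).trans (congrArg Subgroup.zpowers (e.injective ?_))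
  rw [← hg]
  simp [MulAut.smul_def]

end Cfsg.Agent.S2739
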