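import Cfsg.Statements.S2752
import Cfsg.Agent.Lib.Classical.SThree.Main

set_option autoImplicit false
universe u
open Cfsg

namespace Cfsg.Agent.S2752

/-- Let M be an elementary abelian 2-subgroup of a finite group L and G a subgroup of L acting faithfully on M by conjugation (G normalizes M and meets C(M) trivially). Assume O₂(G) = 1, the symmetric group of degree 3 is not involved in G, and every non-abelian composition factor of G is a Suzuki group Sz(2^(2n+1)) or a group PSL₂(3^(2n+1)). Then every elementary abelian 2-subgroup A of G satisfies |M / C_M(A)| ≥ |A|² and |[M, A]| ≥ |A|². -/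
theorem result {L : Type u} [Group L] [Finite L] (M G : Subgroup L) (hM : Cfsg.IsElementaryAbelian 2 M) (hGM : G ≤ Subgroup.normalizer (M : Set L)) (hf : G ⊓ Subgroup.centralizer (M : Set L) = ⊥) (ha : Cfsg.pCore 2 ↥G = ⊥) (hb : ¬ Cfsg.Involves (Equiv.Perm (Fin 3)) ↥G) (hc : Cfsg.IsCompositionKGroupWith Cfsg.IsSuzukiOrPSL2OddPowerThree ↥G) (A : Subgroup L) (hA : A ≤ G) (hAe : Cfsg.IsElementaryAbelian 2 A) : Nat.card A ^ 2 * Nat.card ↥(M ⊓ Subgroup.centralizer (A : Set L)) ≤ Nat.card M ∧ Nat.card A ^ 2 ≤ Nat.card ↥⁅M, A⁆ := by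
  haveI : Fact (Nat.Prime 2) := ⟨Nat.prime_two⟩
  obtain ⟨hMab, hMexp⟩ := hM
  letI : CommGroup M := { (inferInstance : Group M) with mul_comm := fun a b => hMab.is_comm.comm a b }
  let α : G →* MulAut M := M.normalizerMonoidHom.comp (Subgroup.inclusion hGM)
  have hα : ∀ (g : G) (v : M), ((α g v : M) : L) = (g : L) * v * (g : L)⁻¹ := fun _ _ => rfl
  have hinj : Function.Injective α := by
    rw [injective_iff_map_eq_one]
    intro g hg
    have hm : (g : L) ∈ G ⊓ Subgroup.centralizer (M : Set L) := by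
      refine ⟨g.2, Subgroup.mem_centralizer_iff.mpr fun v hv => ?_⟩
      have h1 := congrArg (fun w : M => (w : L)) (DFunLike.congr_fun hg (⟨v, hv⟩ : M))
      simp only [hα] at h1
      exact (mul_inv_eq_iff_eq_mul.mp h1).symm
    rw [hf, Subgroup.mem_bot] at hm
    exact Subtype.ext hm
  have hV : ∀ v : M, v ^ 2 = 1 := fun v => Subtype.ext (hMexp v v.2)
  have hn : Block.SFour.NoThree G := by
    rintro ⟨t, r, ⟨k, hk⟩, hr3, hr1, hinv⟩
    exact hb (Classical.SThree.involves_perm_three hk hr3 hr1 hinv)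
  have hK := Classical.SThree.goodComps_of_composition hc
  set A' := A.subgroupOf G with hA'
  have hAe' : Cfsg.IsElementaryAbelian 2 A' :=
    ⟨⟨⟨fun a b => Subtype.ext (Subtype.ext (by
      have := hAe.1.is_comm.comm ⟨((a : G) : L), a.2⟩ ⟨((b : G) : L), b.2⟩
      exact congrArg (fun z : A => (z : L)) this))⟩⟩,
      fun a ha => Subtype.ext (hAe.2 _ ha)⟩
  have hcard : Nat.card A' = Nat.card A := Nat.card_congr (Subgroup.subgroupOfEquivOfLe hA).toEquiv
  refine ⟨?_, ?_⟩
  · have h := Classical.SThree.dom_faithful hinj hV ha hn hK _ A' rfl hAe'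
    rw [hcard] at h
    have e : Nat.card (Invol.fixOf α A') = Nat.card ↥(M ⊓ Subgroup.centralizer (A : Set L)) := by
      refine Nat.card_eq_of_bijective (fun v => ⟨(v.1 : L), v.1.2,
        Subgroup.mem_centralizer_iff.mpr fun a haA => ?_⟩) ⟨?_, ?_⟩
      · exact mul_inv_eq_iff_eq_mul.mp ((hα ⟨a, hA haA⟩ v.1).symm.trans
          (congrArg Subtype.val (v.2 ⟨a, hA haA⟩ haA)))
      · intro v w hvw
        have := congrArg (fun z : ↥(M ⊓ Subgroup.centralizer (A : Set L)) => (z : L)) hvw
        exact Subtype.ext (Subtype.ext this)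
      · rintro ⟨v, hv, hvc⟩
        refine ⟨⟨⟨v, hv⟩, fun a haA => Subtype.ext ?_⟩, rfl⟩
        rw [hα, Subgroup.mem_centralizer_iff.mp hvc a haA, mul_inv_cancel_right]
    rw [← e, ← Subgroup.card_mul_index (Invol.fixOf α A'), mul_comm (Nat.card A ^ 2)]
    exact Nat.mul_le_mul_left _ h
  · have h := Classical.SThree.dom_commutator hinj hV ha hn hK hAe'
    rw [hcard] at h
    refine h.trans ?_
    set D := Subgroup.closure {w : M | ∃ a ∈ A', ∃ v, w = α a v / v}
    rw [Nat.card_congr (Subgroup.equivMapOfInjective D M.subtype M.subtype_injective).toEquiv]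
    refine Subgroup.card_le_of_le ?_
    rw [MonoidHom.map_closure, Subgroup.closure_le]
    rintro _ ⟨_, ⟨a, haA, v, rfl⟩, rfl⟩
    rw [SetLike.mem_coe, Subgroup.commutator_comm]
    show ((α a v / v : M) : L) ∈ _
    rw [Subgroup.coe_div, hα, div_eq_mul_inv]
    exact Subgroup.commutator_mem_commutator haA v.2

end Cfsg.Agent.S2752
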