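import Cfsg.Prelude
import Cfsg.Agent.Lib.Invol.Dihedral
import Cfsg.Agent.Lib.Grp.Basic
-- import your own Cfsg.Agent.* helpers here

set_option autoImplicit false
open Cfsg

open scoped Pointwise commutatorElement

namespace Cfsg.Agent.S2758

/-- For an odd prime p and a finite group G the following are equivalent: the dihedral group of order 2p is involved in G; some element of 2-power order normalizes but does not centralize some p-subgroup of G; some element of 2-power order inverts some nonidentity element of p-power order. -/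
theorem result {G : Type*} [Group G] [Finite G] {p : ℕ} [Fact p.Prime] (hp : p ≠ 2) : (Cfsg.Involves (DihedralGroup p) G ↔ ∃ (x : G) (P : Subgroup G), (∃ k : ℕ, orderOf x = 2 ^ k) ∧ IsPGroup p ↥P ∧ x ∈ Subgroup.normalizer (P : Set G) ∧ x ∉ Subgroup.centralizer (P : Set G)) ∧ (Cfsg.Involves (DihedralGroup p) G ↔ ∃ x y : G, (∃ k : ℕ, orderOf x = 2 ^ k) ∧ (∃ k : ℕ, orderOf y = p ^ k) ∧ y ≠ 1 ∧ x * y * x⁻¹ = y⁻¹) := by
  classical
  have hp2 : Odd p := (Fact.out : p.Prime).odd_of_ne_two hp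
  have hab : Cfsg.Involves (DihedralGroup p) G → ∃ (x : G) (P : Subgroup G), (∃ k : ℕ, orderOf x = 2 ^ k) ∧
      IsPGroup p ↥P ∧ x ∈ Subgroup.normalizer (P : Set G) ∧ x ∉ Subgroup.centralizer (P : Set G) := by
    rintro ⟨K, R, hn, ⟨e⟩⟩
    haveI := hn
    set f : ↥K →* DihedralGroup p := e.toMonoidHom.comp (QuotientGroup.mk' _) with hf
    have hfs : Function.Surjective f := e.surjective.comp (QuotientGroup.mk'_surjective _)
    set Z := Subgroup.zpowers (DihedralGroup.r (1 : ZMod p))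
    haveI : NeZero p := ⟨(Fact.out : p.Prime).ne_zero⟩
    have hZi : Z.index = 2 := by
      have h2 := Subgroup.card_mul_index Z
      rw [Nat.card_zpowers, DihedralGroup.orderOf_r_one, DihedralGroup.nat_card, mul_comm 2 p] at h2
      exact Nat.eq_of_mul_eq_mul_left (Fact.out : p.Prime).pos h2
    haveI : Z.Normal := Subgroup.normal_of_index_eq_two hZi
    obtain ⟨P⟩ : Nonempty (Sylow p ↥(Z.comap f)) := inferInstance
    set g : ↥(Z.comap f) →* ↥Z := f.subgroupComap Z with hg
    have hgs : Function.Surjective g := f.subgroupComap_surjective_of_surjective Z hfs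
    have hPtop : (P.mapSurjective hgs : Subgroup ↥Z) = ⊤ := by
      refine Subgroup.eq_top_of_card_eq _ ?_
      have h1 : Nat.card ↥Z = p := by rw [Nat.card_zpowers, DihedralGroup.orderOf_r_one]
      rw [Sylow.card_eq_multiplicity, h1, (Fact.out : p.Prime).factorization_self, pow_one]
    obtain ⟨⟨q, hqP, hqr⟩⟩ : Nonempty { q : ↥(Z.comap f) // q ∈ (P : Subgroup ↥(Z.comap f)) ∧
        g q = ⟨DihedralGroup.r 1, Subgroup.mem_zpowers _⟩ } := by
      have h1 := hPtop.ge (Subgroup.mem_top (⟨DihedralGroup.r 1, Subgroup.mem_zpowers _⟩ : ↥Z))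
      obtain ⟨q, hq, hqe⟩ := h1
      exact ⟨⟨q, hq, hqe⟩⟩
    set P₁ := (P : Subgroup ↥(Z.comap f)).map (Z.comap f).subtype with hP₁
    obtain ⟨n, hn1, hnZ⟩ : ∃ n ∈ Subgroup.normalizer (P₁ : Set ↥K), f n ∉ Z := by
      by_contra h
      push Not at h
      have h1 : Subgroup.normalizer (P₁ : Set ↥K) ≤ Z.comap f := h
      have h2 := Sylow.normalizer_sup_eq_top P
      rw [sup_eq_right.mpr h1] at h2
      have h3 : Z = ⊤ := by
        rw [← Subgroup.map_comap_eq_self_of_surjective hfs Z, h2, Subgroup.map_top_of_surjective f hfs]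
      rw [h3, Subgroup.index_top] at hZi
      omega
    obtain ⟨i, hi⟩ : ∃ i, f n = DihedralGroup.sr i := by
      cases hfn : f n with
      | r j => exact absurd (hfn ▸ Subgroup.mem_zpowers_iff.mpr ⟨(j.val : ℤ), by simp⟩) hnZ
      | sr j => exact ⟨j, rfl⟩
    obtain ⟨a, m, hm, hfac⟩ := Nat.exists_eq_two_pow_mul_odd (orderOf_pos n).ne'
    set x : ↥K := n ^ m with hx
    have hxo : ∃ k, orderOf (x : G) = 2 ^ k := by
      refine ⟨a, ?_⟩
      rw [Subgroup.orderOf_coe, hx, orderOf_pow' n hm.pos.ne', hfac, Nat.gcd_eq_right (Dvd.intro_left _ rfl),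
        Nat.mul_div_cancel _ hm.pos]
    have hfx : f x = DihedralGroup.sr i := by
      obtain ⟨k, rfl⟩ := hm
      rw [hx, map_pow, hi, pow_add, pow_mul, pow_two, DihedralGroup.sr_mul_self, one_pow, one_mul, pow_one]
    refine ⟨x, P₁.map K.subtype, hxo, (P.isPGroup'.map _).map _,
      Subgroup.le_normalizer_map K.subtype ⟨x, Subgroup.pow_mem _ hn1 m, rfl⟩, fun hc => ?_⟩
    have h1 : ((q : ↥K) : G) * x = x * ((q : ↥K) : G) :=
      Subgroup.mem_centralizer_iff.mp hc _ ⟨(q : ↥K), ⟨q, hqP, rfl⟩, rfl⟩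
    have h2 : f ((q : ↥K) * x) = f (x * (q : ↥K)) := congrArg f (Subtype.ext h1)
    rw [map_mul, map_mul, hfx, show f (q : ↥K) = DihedralGroup.r 1 from congrArg Subtype.val hqr,
      DihedralGroup.r_mul_sr, DihedralGroup.sr_mul_r, DihedralGroup.sr.injEq] at h2
    have h3 : ((2 : ℕ) : ZMod p) = 0 := by
      push_cast
      linear_combination (norm := ring) -h2
    rw [ZMod.natCast_eq_zero_iff] at h3
    exact hp ((Nat.prime_dvd_prime_iff_eq Fact.out Nat.prime_two).mp h3)
  have hbc : (∃ (x : G) (P : Subgroup G), (∃ k : ℕ, orderOf x = 2 ^ k) ∧ IsPGroup p ↥P ∧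
      x ∈ Subgroup.normalizer (P : Set G) ∧ x ∉ Subgroup.centralizer (P : Set G)) →
      ∃ x y : G, (∃ k : ℕ, orderOf x = 2 ^ k) ∧ (∃ k : ℕ, orderOf y = p ^ k) ∧ y ≠ 1 ∧ x * y * x⁻¹ = y⁻¹ := by
    rintro ⟨x, P, ⟨k, hk⟩, hP, hxN, hxC⟩
    induction k generalizing x with
    | zero => exact absurd (by rw [pow_zero, orderOf_eq_one_iff] at hk; rw [hk]; exact one_mem _) hxC
    | succ k ih =>
      have hx2 : orderOf (x ^ 2) = 2 ^ k := by
        rw [orderOf_pow' x two_ne_zero, hk, pow_succ, Nat.gcd_eq_right (Dvd.intro_left _ rfl),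
          Nat.mul_div_cancel _ two_pos]
      by_cases hc2 : x ^ 2 ∈ Subgroup.centralizer (P : Set G)
      · obtain ⟨g, hg, hgne⟩ : ∃ g ∈ P, g * x ≠ x * g := by
          by_contra h; push Not at h; exact hxC (Subgroup.mem_centralizer_iff.mpr h)
        have hgx : x * g * x⁻¹ ∈ P := (Subgroup.mem_normalizer_iff.mp hxN g).mp hg
        have hne : g⁻¹ * (x * g * x⁻¹) ≠ 1 := fun h => hgne (by
          have h' := inv_mul_eq_one.mp h
          exact (eq_mul_inv_iff_mul_eq.mp h'))
        obtain ⟨j, hj⟩ := (IsPGroup.iff_orderOf.mp hP) ⟨_, P.mul_mem (P.inv_mem hg) hgx⟩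
        refine ⟨x, _, ⟨_, hk⟩, ⟨j, by rwa [← Subgroup.orderOf_coe] at hj⟩, hne, ?_⟩
        have h2 : x * x * g = g * (x * x) := by
          have := Subgroup.mem_centralizer_iff.mp hc2 g hg
          rw [pow_two] at this; exact this.symm
        calc x * (g⁻¹ * (x * g * x⁻¹)) * x⁻¹ = (x * g * x⁻¹)⁻¹ * (x * x * g * (x * x)⁻¹) := by group
          _ = (x * g * x⁻¹)⁻¹ * g := by rw [h2, mul_inv_cancel_right]
          _ = (g⁻¹ * (x * g * x⁻¹))⁻¹ := by group
      · exact ih (x ^ 2) hx2 (Subgroup.pow_mem _ hxN 2) hc2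
  have hca : (∃ x y : G, (∃ k : ℕ, orderOf x = 2 ^ k) ∧ (∃ k : ℕ, orderOf y = p ^ k) ∧ y ≠ 1 ∧
      x * y * x⁻¹ = y⁻¹) → Cfsg.Involves (DihedralGroup p) G := by
    rintro ⟨x, y₀, ⟨a, ha⟩, ⟨b, hb⟩, hy1, hinv₀⟩
    obtain ⟨y, hy, hinv⟩ : ∃ y : G, orderOf y = p ∧ x * y * x⁻¹ = y⁻¹ := by
      obtain ⟨b', rfl⟩ : ∃ b', b = b' + 1 := Nat.exists_eq_succ_of_ne_zero (fun h => hy1 (by
        rw [h, pow_zero, orderOf_eq_one_iff] at hb; exact hb))
      refine ⟨y₀ ^ p ^ b', ?_, by rw [← conj_pow, hinv₀, inv_pow]⟩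
      rw [orderOf_pow' y₀ (pow_ne_zero _ (Fact.out : p.Prime).ne_zero), hb, pow_succ,
        Nat.gcd_eq_right (Dvd.intro _ rfl), Nat.mul_div_cancel_left _ (pow_pos (Fact.out : p.Prime).pos _)]
    set K := Subgroup.closure ({x, y} : Set G) with hK
    have hxK : x ∈ K := Subgroup.subset_closure (by simp)
    have hyK : y ∈ K := Subgroup.subset_closure (by simp)
    have hc : x * x * y = y * (x * x) := by
      calc x * x * y = x * (x * y * x⁻¹) * x := by group
        _ = (x * y * x⁻¹)⁻¹ * (x * x) := by nth_rewrite 1 [hinv]; group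
        _ = y * (x * x) := by rw [hinv, inv_inv]
    have hKc : K ≤ Subgroup.centralizer {x * x} := (Subgroup.closure_le _).mpr (by
      rintro w (rfl | rfl)
      · exact Subgroup.mem_centralizer_singleton_iff.mpr (mul_assoc _ _ _).symm
      · exact Subgroup.mem_centralizer_singleton_iff.mpr hc.symm)
    have hne1 : a ≠ 0 := fun h => by
      rw [h, pow_zero, orderOf_eq_one_iff] at ha
      rw [ha, one_mul, inv_one, mul_one] at hinv
      have h2 : y * y = 1 := by nth_rewrite 2 [hinv]; exact mul_inv_cancel y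
      have h3 := orderOf_dvd_of_pow_eq_one ((pow_two y).trans h2)
      rw [hy] at h3
      exact hp ((Nat.prime_dvd_prime_iff_eq Fact.out Nat.prime_two).mp h3)
    set R := Subgroup.zpowers (x * x) with hR
    haveI hn : (R.subgroupOf K).Normal := by
      refine Subgroup.normal_subgroupOf_of_le_normalizer (hKc.trans ?_)
      rw [hR, Subgroup.zpowers_eq_closure, ← Subgroup.centralizer_closure]
      exact Subgroup.centralizer_le_normalizer _
    set π := QuotientGroup.mk' (R.subgroupOf K)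
    have hx' : orderOf (π ⟨x, hxK⟩) = 2 := by
      refine orderOf_eq_prime ?_ fun h => ?_
      · rw [← map_pow]
        refine (QuotientGroup.eq_one_iff _).mpr ?_
        rw [Subgroup.mem_subgroupOf, SubmonoidClass.coe_pow, pow_two]
        exact Subgroup.mem_zpowers _
      · have h1 : x ∈ R := (QuotientGroup.eq_one_iff (⟨x, hxK⟩ : ↥K)).mp h
        have h3 := Subgroup.orderOf_dvd_natCard R h1
        rw [hR, Nat.card_zpowers, ← pow_two, orderOf_pow' x two_ne_zero, ha] at h3
        obtain ⟨a', rfl⟩ := Nat.exists_eq_succ_of_ne_zero hne1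
        rw [pow_succ, Nat.gcd_eq_right (Dvd.intro_left _ rfl), Nat.mul_div_cancel _ two_pos] at h3
        have := Nat.le_of_dvd (by positivity) h3
        have : 0 < 2 ^ a' := by positivity
        omega
    have hy' : orderOf (π ⟨y, hyK⟩) = p := by
      refine orderOf_eq_prime ?_ fun h => ?_
      · rw [← map_pow]
        refine (QuotientGroup.eq_one_iff _).mpr ?_
        rw [Subgroup.mem_subgroupOf, SubmonoidClass.coe_pow, ← hy, pow_orderOf_eq_one]
        exact one_mem _
      · have h1 : y ∈ R := (QuotientGroup.eq_one_iff (⟨y, hyK⟩ : ↥K)).mp h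
        have h3 := Subgroup.orderOf_dvd_natCard R h1
        rw [hR, Nat.card_zpowers, hy] at h3
        have h4 := h3.trans ((pow_two x ▸ orderOf_pow_dvd 2 : orderOf (x * x) ∣ orderOf x))
        rw [ha] at h4
        exact hp ((Nat.prime_dvd_prime_iff_eq Fact.out Nat.prime_two).mp
          ((Fact.out : p.Prime).dvd_of_dvd_pow h4))
    set X' := π ⟨x, hxK⟩ with hX'
    set Y' := π ⟨y, hyK⟩ with hY'
    have hXY : X' * Y' * X'⁻¹ = Y'⁻¹ := by
      rw [hX', hY', ← map_mul, ← map_inv, ← map_mul, ← map_inv]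
      exact congrArg π (Subtype.ext hinv)
    have hXX : X' * X' = 1 := by rw [← pow_two, ← hx', pow_orderOf_eq_one]
    have hz : orderOf (X' * Y') = 2 := by
      refine orderOf_eq_prime ?_ fun h => ?_
      · rw [pow_two]
        calc X' * Y' * (X' * Y') = (X' * Y' * X'⁻¹) * (X' * X') * Y' := by group
          _ = 1 := by rw [hXY, hXX, mul_one, inv_mul_cancel]
      · have h2 := congrArg orderOf (eq_inv_of_mul_eq_one_right h)
        rw [orderOf_inv, hx', hy'] at h2
        exact hp h2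
    obtain ⟨e⟩ := Invol.nonempty_mulEquiv_dihedralGroup hx' hz
    have hp' : orderOf (X' * (X' * Y')) = p := by rw [← mul_assoc, hXX, one_mul, hy']
    rw [hp'] at e
    have htop : Subgroup.closure ({X', X' * Y'} : Set (↥K ⧸ R.subgroupOf K)) = ⊤ := by
      rw [eq_top_iff, ← Subgroup.map_top_of_surjective π (QuotientGroup.mk'_surjective _),
        ← Subgroup.closure_closure_coe_preimage (k := ({x, y} : Set G)), MonoidHom.map_closure, Subgroup.closure_le]
      rintro _ ⟨w, hw, rfl⟩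
      have hX1 : X' ∈ Subgroup.closure ({X', X' * Y'} : Set (↥K ⧸ R.subgroupOf K)) := Subgroup.subset_closure (by simp)
      rcases hw with hw | hw
      · rw [show w = ⟨x, hxK⟩ from Subtype.ext hw]; exact hX1
      · rw [show w = ⟨y, hyK⟩ from Subtype.ext hw, ← hY']
        have h5 := Subgroup.mul_mem _ hX1
          (Subgroup.subset_closure (by simp : X' * Y' ∈ ({X', X' * Y'} : Set (↥K ⧸ R.subgroupOf K))))
        rwa [← mul_assoc, hXX, one_mul] at h5
    exact ⟨K, R, hn, ⟨((MulEquiv.subgroupCongr htop).trans Subgroup.topEquiv).symm.trans e⟩⟩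
  exact ⟨⟨hab, fun h => hca (hbc h)⟩, ⟨fun h => hbc (hab h), hca⟩⟩

end Cfsg.Agent.S2758
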