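import Cfsg.Prelude
import Cfsg.Agent.Lib.Invol.QdOverStructure
-- import your own Cfsg.Agent.* helpers here

set_option autoImplicit false
open Cfsg

open scoped Pointwise commutatorElement

namespace Cfsg.Agent.S2762

/-- Structure of Qd over a finite field F of characteristic p (the affine subgroup of SL₃(F)): its largest normal p-subgroup is the group of translations (matrices with upper-left block the identity), the block-diagonal matrices form a complement isomorphic to SL₂(F), and the translation subgroup is a natural SL₂(F)-module for that complement. -/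
theorem result {F : Type*} [Field F] [Fintype F] {p : ℕ} [Fact p.Prime] [CharP F p] : (∀ M : ↥(Cfsg.qdOver F), M ∈ Cfsg.pCore p ↥(Cfsg.qdOver F) ↔ ((M : Matrix.SpecialLinearGroup (Fin 3) F) : Matrix (Fin 3) (Fin 3) F) 0 0 = 1 ∧ ((M : Matrix.SpecialLinearGroup (Fin 3) F) : Matrix (Fin 3) (Fin 3) F) 0 1 = 0 ∧ ((M : Matrix.SpecialLinearGroup (Fin 3) F) : Matrix (Fin 3) (Fin 3) F) 1 0 = 0 ∧ ((M : Matrix.SpecialLinearGroup (Fin 3) F) : Matrix (Fin 3) (Fin 3) F) 1 1 = 1) ∧ ∃ K : Subgroup ↥(Cfsg.qdOver F), (∀ M : ↥(Cfsg.qdOver F), M ∈ K ↔ ((M : Matrix.SpecialLinearGroup (Fin 3) F) : Matrix (Fin 3) (Fin 3) F) 0 2 = 0 ∧ ((M : Matrix.SpecialLinearGroup (Fin 3) F) : Matrix (Fin 3) (Fin 3) F) 1 2 = 0) ∧ K ⊓ Cfsg.pCore p ↥(Cfsg.qdOver F) = ⊥ ∧ K ⊔ Cfsg.pCore p ↥(Cfsg.qdOver F) = ⊤ ∧ Nonempty (↥K ≃* Matrix.SpecialLinearGroup (Fin 2) F) ∧ Cfsg.IsNaturalSL2Module F (Cfsg.pCore p ↥(Cfsg.qdOver F)) K := by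
  classical
  have hmem : ∀ M : ↥(Cfsg.qdOver F), M ∈ Cfsg.pCore p ↥(Cfsg.qdOver F) ↔ M ∈ (Invol.QdOv.lin (F := F)).ker := fun M => by
    rw [Invol.QdOv.pCore_eq p]
  refine ⟨fun M => (hmem M).trans Invol.QdOv.mem_ker, ?_⟩
  let K : Subgroup ↥(Cfsg.qdOver F) :=
    { carrier := {M | Invol.QdOv.tra M = 0}
      one_mem' := by
        show Invol.QdOv.tra (1 : ↥(Cfsg.qdOver F)) = 0
        ext i; fin_cases i <;> simp [Invol.QdOv.tra, Invol.QdOv.ent]
      mul_mem' := fun {a b} ha hb => by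
        show Invol.QdOv.tra (a * b) = 0
        rw [Invol.QdOv.tra_mul, ha, hb, Matrix.mulVec_zero, add_zero]
      inv_mem' := fun {a} ha => by
        show Invol.QdOv.tra a⁻¹ = 0
        have h := Invol.QdOv.tra_mul a⁻¹ a
        rw [inv_mul_cancel, ha, Matrix.mulVec_zero, add_zero] at h
        rw [← h]
        ext i; fin_cases i <;> simp [Invol.QdOv.tra, Invol.QdOv.ent] }
  have hbot : K ⊓ Cfsg.pCore p ↥(Cfsg.qdOver F) = ⊥ := by
    rw [eq_bot_iff]
    rintro M ⟨hK, hN⟩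
    exact Subgroup.mem_bot.mpr (Invol.QdOv.eq_of_lin_tra (by rw [MonoidHom.mem_ker.mp ((hmem M).mp hN), map_one])
      (by rw [hK]; exact (K.one_mem).symm))
  have hinj : Function.Injective ((Invol.QdOv.lin (F := F)).comp K.subtype) := by
    intro a b h
    exact Subtype.ext (Invol.QdOv.eq_of_lin_tra h (a.2.trans b.2.symm))
  have hsurj : Function.Surjective ((Invol.QdOv.lin (F := F)).comp K.subtype) := fun A =>
    ⟨⟨Invol.QdOv.mk A 0, Invol.QdOv.tra_mk A 0⟩, Invol.QdOv.lin_mk A 0⟩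
  refine ⟨K, fun M => ?_, hbot, ?_, ⟨MulEquiv.ofBijective _ ⟨hinj, hsurj⟩⟩, ?_⟩
  · show Invol.QdOv.tra M = 0 ↔ _
    constructor
    · exact fun h => ⟨congrFun h 0, congrFun h 1⟩
    · rintro ⟨h0, h1⟩
      ext i; fin_cases i
      · exact h0
      · exact h1
  · refine eq_top_iff.mpr fun M _ => ?_
    set k : ↥(Cfsg.qdOver F) := Invol.QdOv.mk (Invol.QdOv.lin M) 0 with hk
    rw [show M = k * (k⁻¹ * M) by group]
    refine Subgroup.mul_mem_sup (Invol.QdOv.tra_mk _ 0) ((hmem _).mpr (MonoidHom.mem_ker.mpr ?_))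
    rw [map_mul, map_inv, hk, Invol.QdOv.lin_mk, inv_mul_cancel]
  · set V := Cfsg.pCore p ↥(Cfsg.qdOver F) with hV
    have hVn : V.Normal := by rw [hV, Invol.QdOv.pCore_eq p]; infer_instance
    have hlv : ∀ v : V, Invol.QdOv.lin (v : ↥(Cfsg.qdOver F)) = 1 := fun v => MonoidHom.mem_ker.mp ((hmem _).mp v.2)
    let ψ : Additive V ≃+ (Fin 2 → F) :=
      AddEquiv.ofBijective (AddMonoidHom.mk' (fun v : Additive V => Invol.QdOv.tra ((Additive.toMul v : V) : ↥(Cfsg.qdOver F)))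
        fun a b => by
          show Invol.QdOv.tra (((Additive.toMul a : V) : ↥(Cfsg.qdOver F)) * ((Additive.toMul b : V) : ↥(Cfsg.qdOver F))) = _
          rw [Invol.QdOv.tra_mul, hlv, Matrix.SpecialLinearGroup.coe_one, Matrix.one_mulVec])
        ⟨fun a b h => Additive.toMul.injective (Subtype.ext (Invol.QdOv.eq_of_lin_tra (by rw [hlv, hlv]) h)),
          fun b => ⟨Additive.ofMul ⟨Invol.QdOv.mk 1 b, (hmem _).mpr (MonoidHom.mem_ker.mpr (Invol.QdOv.lin_mk 1 b))⟩,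
            Invol.QdOv.tra_mk 1 b⟩⟩
    have hact : ∀ (l : K) (v : V), Invol.QdOv.tra ((l : ↥(Cfsg.qdOver F)) * (v : ↥(Cfsg.qdOver F)) * (l : ↥(Cfsg.qdOver F))⁻¹) =
        ((Invol.QdOv.lin (l : ↥(Cfsg.qdOver F)) : Matrix.SpecialLinearGroup (Fin 2) F) : Matrix (Fin 2) (Fin 2) F).mulVec
          (Invol.QdOv.tra (v : ↥(Cfsg.qdOver F))) := fun l v => by
      rw [Invol.QdOv.tra_mul, Invol.QdOv.tra_mul, show Invol.QdOv.tra (l : ↥(Cfsg.qdOver F)) = 0 from l.2,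
        show Invol.QdOv.tra (l : ↥(Cfsg.qdOver F))⁻¹ = 0 from K.inv_mem l.2, Matrix.mulVec_zero, add_zero, zero_add]
    refine ⟨fun l _ => ?_, (Invol.QdOv.lin (F := F)).comp K.subtype, ψ, hsurj, ?_, fun l v => ⟨⟨_, hVn.conj_mem v v.2 l⟩, rfl, hact l v⟩⟩
    · rw [Subgroup.normalizer_eq_top_iff.mpr hVn]; exact Subgroup.mem_top _
    · rw [(MonoidHom.ker_eq_bot_iff _).mpr hinj, eq_comm, eq_bot_iff]
      intro l hl
      have key : ∀ b : Fin 2 → F,
          ((Invol.QdOv.lin (l : ↥(Cfsg.qdOver F)) : Matrix.SpecialLinearGroup (Fin 2) F) : Matrix (Fin 2) (Fin 2) F).mulVec b = b := by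
        intro b
        obtain ⟨v, hv⟩ : ∃ v : V, Invol.QdOv.tra (v : ↥(Cfsg.qdOver F)) = b :=
          ⟨Additive.toMul (ψ.symm b), ψ.apply_symm_apply b⟩
        have hc : (v : ↥(Cfsg.qdOver F)) * (l : ↥(Cfsg.qdOver F)) = (l : ↥(Cfsg.qdOver F)) * v :=
          Subgroup.mem_centralizer_iff.mp (Subgroup.mem_subgroupOf.mp hl) v v.2
        have h1 := hact l v
        rw [show (l : ↥(Cfsg.qdOver F)) * v * (l : ↥(Cfsg.qdOver F))⁻¹ = v by rw [← hc, mul_inv_cancel_right], hv] at h1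
        exact h1.symm
      have h1 : Invol.QdOv.lin (l : ↥(Cfsg.qdOver F)) = 1 := Subtype.ext (Matrix.ext_of_mulVec_single fun i => by
        rw [key, Matrix.SpecialLinearGroup.coe_one, Matrix.one_mulVec])
      exact Subgroup.mem_bot.mpr (hinj (h1.trans (map_one _).symm))

end Cfsg.Agent.S2762
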