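import Cfsg.Prelude
import Cfsg.Agent.Lib.Invol.QdSylowFacts
-- import your own Cfsg.Agent.* helpers here

set_option autoImplicit false
open Cfsg

open scoped Pointwise commutatorElement

namespace Cfsg.Agent.S2763

/-- In the group Qd(p) (p prime; the natural semidirect product of an elementary abelian group of order p² by SL₂(p)), the normalizer of every nontrivial characteristic subgroup of a Sylow p-subgroup S equals the normalizer of S, which is a proper subgroup; in particular no such characteristic subgroup is normal. -/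
theorem result {p : ℕ} [Fact p.Prime] (S : Sylow p ↥(Cfsg.qd p)) (T : Subgroup ↥(S : Subgroup ↥(Cfsg.qd p))) (hT : T ≠ ⊥) (hTc : T.Characteristic) : Subgroup.normalizer ((T.map (S : Subgroup ↥(Cfsg.qd p)).subtype : Subgroup ↥(Cfsg.qd p)) : Set ↥(Cfsg.qd p)) = Subgroup.normalizer ((S : Subgroup ↥(Cfsg.qd p)) : Set ↥(Cfsg.qd p)) ∧ Subgroup.normalizer ((S : Subgroup ↥(Cfsg.qd p)) : Set ↥(Cfsg.qd p)) ≠ ⊤ := by
  obtain ⟨S₀, hS₀⟩ := Invol.QdFusion.qdT_sylow (p := p)
  obtain ⟨g, hg⟩ := MulAction.exists_smul_eq ↥(Cfsg.qd p) S S₀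
  set c := (MulAut.conj g).toMonoidHom with hc
  have hSmap : (S : Subgroup ↥(Cfsg.qd p)).map c = Invol.QdFusion.qdT p := by
    rw [← hS₀, ← hg, Sylow.coe_subgroup_smul, hc, Grp.map_conj_eq_smul]
  set T₁ := T.map (S : Subgroup ↥(Cfsg.qd p)).subtype with hT₁
  have hnmap : ∀ A : Subgroup ↥(Cfsg.qd p), (Subgroup.normalizer (A : Set ↥(Cfsg.qd p))).map c =
      Subgroup.normalizer ((A.map c : Subgroup ↥(Cfsg.qd p)) : Set ↥(Cfsg.qd p)) := fun A =>
    Subgroup.map_equiv_normalizer_eq A (MulAut.conj g)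
  have hN : Subgroup.normalizer ((S : Subgroup ↥(Cfsg.qd p)) : Set ↥(Cfsg.qd p)) ≤
      Subgroup.normalizer (T₁ : Set ↥(Cfsg.qd p)) := by
    haveI := hTc
    intro n hn
    haveI : ((S : Subgroup ↥(Cfsg.qd p)).subgroupOf (Subgroup.normalizer ((S : Subgroup ↥(Cfsg.qd p)) : Set ↥(Cfsg.qd p)))).Normal :=
      Subgroup.normal_in_normalizer
    rw [Grp.mem_normalizer_iff_smul, ← Grp.map_conj_eq_smul, hT₁, Subgroup.map_map]
    let e : ↥(S : Subgroup ↥(Cfsg.qd p)) ≃* ↥(S : Subgroup ↥(Cfsg.qd p)) :=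
      ((MulAut.conj n).subgroupMap _).trans (MulEquiv.subgroupCongr (by
        show (S : Subgroup ↥(Cfsg.qd p)).map (MulAut.conj n).toMonoidHom = _
        rw [Grp.map_conj_eq_smul, Grp.mem_normalizer_iff_smul.mp hn]))
    conv_rhs => rw [← Subgroup.characteristic_iff_map_eq.mp hTc e, Subgroup.map_map]
    rfl
  refine ⟨le_antisymm ?_ hN, fun h => ?_⟩
  · have hle : T₁.map c ≤ Invol.QdFusion.qdT p := hSmap ▸ Subgroup.map_mono (Subgroup.map_subtype_le T)
    have hne : T₁.map c ≠ ⊥ := by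
      rw [Ne, Subgroup.map_eq_bot_iff_of_injective _ (MulAut.conj g).injective,
        Subgroup.map_eq_bot_iff_of_injective _ (Subgroup.subtype_injective _)]
      exact hT
    have hB := Invol.QdFusion.normalizer_le_qdB hle hne (fun α u hu => by
      let e : ↥(S : Subgroup ↥(Cfsg.qd p)) ≃* ↥(Invol.QdFusion.qdT p) :=
        ((MulAut.conj g).subgroupMap _).trans (MulEquiv.subgroupCongr hSmap)
      obtain ⟨_, ⟨t, ht, rfl⟩, htu⟩ := hu
      have hte : e t = u := Subtype.ext htu
      have h1 : ((e.trans α).trans e.symm) t ∈ T :=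
        (Subgroup.characteristic_iff_map_eq.mp hTc ((e.trans α).trans e.symm)).le ⟨t, ht, rfl⟩
      refine ⟨_, ⟨_, h1, rfl⟩, ?_⟩
      have h2 : e (((e.trans α).trans e.symm) t) = α u := by simp [hte]
      exact congrArg Subtype.val h2)
    rw [← Invol.QdSyl.normalizer_qdT, ← hSmap, ← hnmap, ← hnmap] at hB
    exact (Subgroup.map_le_map_iff_of_injective (MulAut.conj g).injective).mp hB
  · refine Invol.QdSyl.qdB_ne_top (p := p) ?_
    rw [← Invol.QdSyl.normalizer_qdT, ← hSmap, ← hnmap, h,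
      Subgroup.map_top_of_surjective _ (MulAut.conj g).surjective]

end Cfsg.Agent.S2763
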