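import Cfsg.Statements.S2766
import Cfsg.Agent.Lib.Invol.PushUp.Split
-- import your own Cfsg.Agent.* helpers here

set_option autoImplicit false
open Cfsg

open scoped Pointwise commutatorElement

namespace Cfsg.Agent.S2766

/-- Let p ≥ 5 be prime and G a maximal p-local subgroup of a finite group H (G is the normalizer of a nontrivial p-subgroup and lies in no other such normalizer). Suppose C_G(O_p(G)) ≤ O_p(G), G/K ≅ PSL₂(p^n) for some normal K and n ≥ 1, a Sylow p-subgroup S of G lies in exactly one maximal subgroup of G, and N_H(S) is not contained in G. Then G = G₀ × E for subgroups G₀ ≅ Qd(p^n) (the natural semidirect product of the plane over the field with p^n elements by SL₂) and E an elementary abelian p-group. -/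
theorem result {H : Type*} [Group H] [Finite H] {p : ℕ} [Fact p.Prime] (hp : 5 ≤ p) (G : Subgroup H) (hloc : ∃ R : Subgroup H, IsPGroup p ↥R ∧ R ≠ ⊥ ∧ G = Subgroup.normalizer (R : Set H)) (hmax : ∀ R : Subgroup H, IsPGroup p ↥R → R ≠ ⊥ → G ≤ Subgroup.normalizer (R : Set H) → Subgroup.normalizer (R : Set H) = G) (S : Sylow p ↥G) (hE₁ : Subgroup.centralizer (Cfsg.pCore p ↥G : Set ↥G) ≤ Cfsg.pCore p ↥G) (hE₂ : ∃! M : Subgroup ↥G, IsCoatom M ∧ (S : Subgroup ↥G) ≤ M) (K : Subgroup ↥G) [K.Normal] (F : Type) [Field F] [Fintype F] (n : ℕ) (hn : 1 ≤ n) (hF : Fintype.card F = p ^ n) (hE₃ : Nonempty (↥G ⧸ K ≃* Matrix.ProjectiveSpecialLinearGroup (Fin 2) F)) (hN : ¬ Subgroup.normalizer (((S : Subgroup ↥G).map G.subtype : Subgroup H) : Set H) ≤ G) : ∃ G₀ E : Subgroup H, Cfsg.IsInternalDirectProduct G₀ E G ∧ Cfsg.IsElementaryAbelian p E ∧ Nonempty (↥G₀ ≃* ↥(Cfsg.qdOver F)) := by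
  classical
  obtain ⟨e⟩ := hE₃
  obtain ⟨fr, -⟩ := Cfsg.Agent.Invol.PushUp.exists_frame S hE₁ hE₂ K hF e
  haveI hQn : (Cfsg.pCore p ↥G).Normal := Cfsg.Agent.Grp.pCore_isNormal
  -- normalisers of normal `p`-subgroups of `G`
  have hloc' : ∀ X : Subgroup ↥G, X.Normal → IsPGroup p X → X ≠ ⊥ →
      Subgroup.normalizer ((X.map G.subtype : Subgroup H) : Set H) = G := by
    intro X hX hXp hX1
    refine hmax _ (hXp.map _) (fun h => hX1 ((Subgroup.map_eq_bot_iff_of_injective _ G.subtype_injective).mp h)) fun x hx => ?_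
    refine Subgroup.mem_normalizer_iff.mpr fun y => ⟨?_, ?_⟩
    · rintro ⟨a, ha, rfl⟩
      exact ⟨⟨x, hx⟩ * a * ⟨x, hx⟩⁻¹, hX.conj_mem a ha _, rfl⟩
    · rintro ⟨a, ha, hay⟩
      refine ⟨⟨x, hx⟩⁻¹ * a * ⟨x, hx⟩, by simpa using hX.conj_mem a ha (⟨x, hx⟩⁻¹ : ↥G), ?_⟩
      show x⁻¹ * (a : H) * x = y
      have hay' : (a : H) = x * y * x⁻¹ := hay
      rw [hay']; group
  have hSmem : ∀ g ∈ Subgroup.normalizer (((S : Subgroup ↥G).map G.subtype : Subgroup H) : Set H),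
      ∀ s : ↥G, s ∈ (S : Subgroup ↥G) → ∃ t ∈ (S : Subgroup ↥G), (t : H) = g * s * g⁻¹ := by
    intro g hg s hs
    obtain ⟨t, ht, hte⟩ := (Subgroup.mem_normalizer_iff.mp hg (s : H)).mp ⟨s, hs, rfl⟩
    exact ⟨t, ht, hte⟩
  obtain ⟨g, hg, hgG⟩ := SetLike.not_le_iff_exists.mp hN
  have hd : Cfsg.Agent.Invol.PushUp.NoChar S := by
    intro T hT hTc hTn
    refine hgG ?_
    rw [← hloc' _ hTn ((IsPGroup.to_subgroup S.isPGroup' T).map _) (fun h => hT ((Subgroup.map_eq_bot_iff_of_injective _ (S : Subgroup ↥G).subtype_injective).mp h))]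
    choose f hf hfe using fun s : ↥(S : Subgroup ↥G) => hSmem g hg s s.2
    let φ : ↥(S : Subgroup ↥G) →* ↥(S : Subgroup ↥G) :=
      MonoidHom.mk' (fun s => ⟨f s, hf s⟩) fun a b => Subtype.ext (Subtype.ext (by
        show (f (a * b) : H) = (f a : H) * (f b : H)
        rw [hfe, hfe, hfe]; push_cast; group))
    have hφ : Function.Bijective φ := Finite.injective_iff_bijective.mp fun a b h => by
      have h' : (f a : H) = (f b : H) := congrArg (fun x : ↥(S : Subgroup ↥G) => ((x : ↥G) : H)) h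
      rw [hfe, hfe] at h'
      exact Subtype.ext (Subtype.ext (mul_left_cancel (mul_right_cancel h')))
    have hmap : T.map φ = T := Subgroup.characteristic_iff_map_eq.mp hTc (MulEquiv.ofBijective φ hφ)
    have hfwd : ∀ y ∈ (T.map (S : Subgroup ↥G).subtype).map G.subtype, g * y * g⁻¹ ∈ (T.map (S : Subgroup ↥G).subtype).map G.subtype := by
      rintro _ ⟨_, ⟨t, ht, rfl⟩, rfl⟩
      exact ⟨_, ⟨φ t, hmap.le ⟨t, ht, rfl⟩, rfl⟩, hfe t⟩
    exact Subgroup.mem_normalizer_fintype hfwd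
  obtain ⟨G₀, E₀, z, h⟩ := Cfsg.Agent.Invol.PushUp.exists_split fr hd hp
  obtain ⟨-, -, hcom, hinf, hsup⟩ := h.prod
  haveI := h.E_normal
  have hES : E₀ ≤ (S : Subgroup ↥G) := h.E_le.trans (Cfsg.Agent.Grp.pCore_le_sylow S)
  have hab : ∀ a ∈ E₀, ∀ b ∈ E₀, a * b = b * a := by
    by_contra hne
    push Not at hne
    obtain ⟨a, ha, b, hb, hab⟩ := hne
    have hEp : IsPGroup p E₀ := S.isPGroup'.to_le hES
    obtain ⟨D, hD⟩ : ∃ D, D = ⁅E₀, E₀⁆ := ⟨_, rfl⟩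
    have hDE : D ≤ E₀ := hD ▸ Subgroup.commutator_le_left E₀ E₀
    have hD1 : D ≠ ⊥ := fun h0 => hab (commutatorElement_eq_one_iff_mul_comm.mp
      (Subgroup.mem_bot.mp (h0 ▸ hD ▸ Subgroup.commutator_mem_commutator ha hb)))
    -- the conjugate by an element moving `G`
    have hginv : g⁻¹ ∈ Subgroup.normalizer (((S : Subgroup ↥G).map G.subtype : Subgroup H) : Set H) := inv_mem hg
    choose f hf hfe using fun s : ↥(S : Subgroup ↥G) => hSmem g hg s s.2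
    have hpre : ∀ s, s ∈ (S : Subgroup ↥G) → ∀ x, x ∈ E₀ → ∀ t ∈ (S : Subgroup ↥G), (t : H) = g⁻¹ * s * g →
        ((s : H) * (g * x * g⁻¹) * (s : H)⁻¹) = g * ((t * x * t⁻¹ : ↥G) : H) * g⁻¹ := by
      intro s _ x _ t _ ht
      push_cast; rw [ht]; group
    -- the intersection of the two conjugates is trivial
    obtain ⟨X, hX⟩ : ∃ X : Subgroup ↥G, X = E₀ ⊓ ((E₀.map G.subtype).map (MulAut.conj g).toMonoidHom).comap G.subtype := ⟨_, rfl⟩
    have hXmem : ∀ y, y ∈ X ↔ y ∈ E₀ ∧ ∃ x ∈ E₀, g * (x : H) * g⁻¹ = (y : H) := fun y => by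
      rw [hX]
      constructor
      · rintro ⟨hy, ⟨_, ⟨x, hx, rfl⟩, hxe⟩⟩; exact ⟨hy, x, hx, hxe⟩
      · rintro ⟨hy, x, hx, hxe⟩; exact ⟨hy, _, ⟨x, hx, rfl⟩, hxe⟩
    have hX0 : X = ⊥ := by
      by_contra hX1
      have hXn : X.Normal := h.E_normalised X (hX ▸ inf_le_left) fun s hs y hy => by
        obtain ⟨hyE, x, hx, hxe⟩ := (hXmem y).mp hy
        obtain ⟨t, ht, hte⟩ := hSmem g⁻¹ hginv s hs
        refine (hXmem _).mpr ⟨h.E_normal.conj_mem y hyE s, t * x * t⁻¹, h.E_normal.conj_mem x hx t, ?_⟩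
        rw [inv_inv] at hte
        rw [← hpre s hs x hx t ht hte, hxe]
        push_cast; rfl
      obtain ⟨X', hX'⟩ : ∃ X' : Subgroup ↥G, X' = E₀ ⊓ ((E₀.map G.subtype).map (MulAut.conj g⁻¹).toMonoidHom).comap G.subtype := ⟨_, rfl⟩
      have hX'mem : ∀ y, y ∈ X' ↔ y ∈ E₀ ∧ ∃ x ∈ E₀, g⁻¹ * (x : H) * g = (y : H) := fun y => by
        rw [hX']
        constructor
        · rintro ⟨hy, ⟨_, ⟨x, hx, rfl⟩, hxe⟩⟩; exact ⟨hy, x, hx, by simpa using hxe⟩
        · rintro ⟨hy, x, hx, hxe⟩; exact ⟨hy, _, ⟨x, hx, rfl⟩, by simpa using hxe⟩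
      have hX'n : X'.Normal := h.E_normalised X' (hX' ▸ inf_le_left) fun s hs y hy => by
        obtain ⟨hyE, x, hx, hxe⟩ := (hX'mem y).mp hy
        obtain ⟨t, ht, hte⟩ := hSmem g hg s hs
        refine (hX'mem _).mpr ⟨h.E_normal.conj_mem y hyE s, t * x * t⁻¹, h.E_normal.conj_mem x hx t, ?_⟩
        push_cast
        rw [hte, ← hxe]; group
      have himg : (X'.map G.subtype).map (MulAut.conj g).toMonoidHom = X.map G.subtype := by
        ext y
        constructor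
        · rintro ⟨_, ⟨u, hu, rfl⟩, rfl⟩
          obtain ⟨huE, x, hx, hxe⟩ := (hX'mem u).mp hu
          refine ⟨x, (hXmem x).mpr ⟨hx, u, huE, ?_⟩, ?_⟩
          · rw [← hxe]; group
          · show (x : H) = g * (u : H) * g⁻¹
            rw [← hxe]; group
        · rintro ⟨u, hu, rfl⟩
          obtain ⟨huE, x, hx, hxe⟩ := (hXmem u).mp hu
          exact ⟨_, ⟨x, (hX'mem x).mpr ⟨hx, u, huE, by rw [← hxe]; group⟩, rfl⟩, hxe⟩
      have hX'1 : X' ≠ ⊥ := fun h0 => hX1 (by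
        rw [h0, Subgroup.map_bot, Subgroup.map_bot] at himg
        exact (Subgroup.map_eq_bot_iff_of_injective _ G.subtype_injective).mp himg.symm)
      have hXp : IsPGroup p X := hEp.to_le (hX ▸ inf_le_left)
      have hX'p : IsPGroup p X' := hEp.to_le (hX' ▸ inf_le_left)
      -- so `g` normalises `G`
      have hgN : ∀ y ∈ G, g * y * g⁻¹ ∈ G := fun y hy => by
        rw [← hloc' X hXn hXp hX1]
        refine Subgroup.mem_normalizer_fintype fun u hu => ?_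
        obtain ⟨_, ⟨v, hv, rfl⟩, rfl⟩ := (himg.ge hu)
        have h1 := (Subgroup.mem_normalizer_iff.mp ((hloc' X' hX'n hX'p hX'1).ge hy) (v : H)).mp ⟨v, hv, rfl⟩
        refine himg.le ⟨_, h1, ?_⟩
        show g * (y * (v : H) * y⁻¹) * g⁻¹ = g * y * g⁻¹ * (g * (v : H) * g⁻¹) * (g * y * g⁻¹)⁻¹
        group
      let α : ↥G →* ↥G := MonoidHom.mk' (fun y => ⟨g * y * g⁻¹, hgN y y.2⟩) fun a b => Subtype.ext (by
        show g * ((a : H) * b) * g⁻¹ = g * a * g⁻¹ * (g * b * g⁻¹)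
        group)
      have hα : Function.Bijective α := Finite.injective_iff_bijective.mp fun a b hab' => by
        have h' := congrArg Subtype.val hab'
        exact Subtype.ext (mul_left_cancel (mul_right_cancel h'))
      refine hgG ?_
      rw [← hloc' (Cfsg.pCore p ↥G) hQn (S.isPGroup'.to_le (Cfsg.Agent.Grp.pCore_le_sylow S))
        (fun h0 => hX1 (le_bot_iff.mp (h0 ▸ (hX ▸ inf_le_left : X ≤ E₀).trans h.E_le)))]
      refine Subgroup.mem_normalizer_fintype ?_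
      rintro _ ⟨u, hu, rfl⟩
      have hle : (Cfsg.pCore p ↥G).map α ≤ Cfsg.pCore p ↥G :=
        Cfsg.Agent.Grp.le_pCore (hQn.map α hα.2) ((S.isPGroup'.to_le (Cfsg.Agent.Grp.pCore_le_sylow S)).map _)
      exact ⟨α u, hle ⟨u, hu, rfl⟩, rfl⟩
    -- the conjugate centralises `E₀`
    obtain ⟨C, hC⟩ : ∃ C, C = (S : Subgroup ↥G) ⊓ Subgroup.centralizer (E₀ : Set ↥G) := ⟨_, rfl⟩
    have hfC : ∀ x (hx : x ∈ E₀), f ⟨x, hES hx⟩ ∈ C := fun x hx => by
      rw [hC]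
      refine ⟨hf _, Subgroup.mem_centralizer_iff.mpr fun u hu => ?_⟩
      obtain ⟨y, hy⟩ : ∃ y, y = ⁅u, f ⟨x, hES hx⟩⁆ := ⟨_, rfl⟩
      refine commutatorElement_eq_one_iff_mul_comm.mp (hy ▸ Subgroup.mem_bot.mp (hX0 ▸ (hXmem y).mpr ⟨?_, ?_⟩))
      · rw [hy, commutatorElement_def, show u * f ⟨x, hES hx⟩ * u⁻¹ * (f ⟨x, hES hx⟩)⁻¹ = u * (f ⟨x, hES hx⟩ * u⁻¹ * (f ⟨x, hES hx⟩)⁻¹) by group]
        exact E₀.mul_mem hu (h.E_normal.conj_mem _ (E₀.inv_mem hu) _)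
      · obtain ⟨t, ht, hte⟩ := hSmem g⁻¹ hginv u (hES hu)
        rw [inv_inv] at hte
        refine ⟨t * x * t⁻¹ * x⁻¹, E₀.mul_mem (h.E_normal.conj_mem x hx t) (E₀.inv_mem hx), ?_⟩
        rw [hy, commutatorElement_def]
        push_cast
        rw [hte, hfe]; push_cast; group
    obtain ⟨R, hR⟩ : ∃ R : Subgroup H, R = (D.map G.subtype).map (MulAut.conj g).toMonoidHom := ⟨_, rfl⟩
    have hinv : ∀ r ∈ R, (z : H) * r * (z : H)⁻¹ = r⁻¹ := by
      intro r hr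
      have hle : R ≤ (⁅C, C⁆).map G.subtype := by
        have hmap : (E₀.map G.subtype).map (MulAut.conj g).toMonoidHom ≤ C.map G.subtype := by
          rintro _ ⟨_, ⟨x, hx, rfl⟩, rfl⟩
          exact ⟨f ⟨x, hES hx⟩, hfC x hx, hfe _⟩
        rw [hR, hD, Subgroup.map_commutator, Subgroup.map_commutator, Subgroup.map_commutator]
        exact Subgroup.commutator_mono hmap hmap
      obtain ⟨r', hr', rfl⟩ := hle hr
      exact congrArg Subtype.val (h.inverted r' (hC ▸ hr'))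
    have hDn : D.Normal := hD ▸ inferInstance
    have hDp : IsPGroup p D := hEp.to_le hDE
    have hzR : g⁻¹ * (z : H) * g ∈ G := by
      refine (hloc' D hDn hDp hD1).le ?_
      refine Subgroup.mem_normalizer_fintype ?_
      intro d hd'
      have h1 := hinv _ (hR ▸ ⟨d, hd', rfl⟩ : g * d * g⁻¹ ∈ R)
      have e : g⁻¹ * (z : H) * g * d * (g⁻¹ * (z : H) * g)⁻¹ = g⁻¹ * ((z : H) * (g * d * g⁻¹) * (z : H)⁻¹) * g := by group
      rw [show g⁻¹ * (z : H) * g * d * (g⁻¹ * (z : H) * g)⁻¹ = d⁻¹ by rw [e, h1]; group]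
      exact inv_mem hd'
    obtain ⟨d, hd', hd1⟩ := (Subgroup.ne_bot_iff_exists_ne_one.mp hD1 : ∃ d : ↥D, d ≠ 1) |>.elim fun d hd1 =>
      (⟨(d : ↥G), d.2, fun h0 => hd1 (Subtype.ext h0)⟩ : ∃ d, d ∈ D ∧ d ≠ 1)
    have h1 := hinv _ (hR ▸ ⟨(d : H), ⟨d, hd', rfl⟩, rfl⟩ : g * (d : H) * g⁻¹ ∈ R)
    have h2 := congrArg Subtype.val (h.derived_central d (hD ▸ hd') ⟨g⁻¹ * (z : H) * g, hzR⟩)
    simp only [Subgroup.coe_mul] at h2
    have h3 : (d : H) = (d : H)⁻¹ := by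
      have e : g⁻¹ * ((z : H) * (g * (d : H) * g⁻¹) * (z : H)⁻¹) * g = g⁻¹ * (z : H) * g * (d : H) * (g⁻¹ * (z : H) * g)⁻¹ := by group
      rw [h1, h2, mul_inv_cancel_right] at e
      refine e.symm.trans ?_
      group
    have h4 : d ^ 2 = 1 := by
      refine Subtype.ext ?_
      rw [SubgroupClass.coe_pow, pow_two]
      exact eq_inv_iff_mul_eq_one.mp h3
    have h5 : d ^ Nat.gcd 2 p = 1 := pow_gcd_eq_one.mpr ⟨h4, h.E_exp d (hDE hd')⟩
    rw [(Nat.coprime_primes Nat.prime_two (Fact.out : p.Prime)).mpr (by omega), pow_one] at h5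
    exact hd1 h5
  refine ⟨G₀.map G.subtype, E₀.map G.subtype, ⟨Subgroup.map_subtype_le _, Subgroup.map_subtype_le _, ?_, ?_, ?_⟩, ⟨⟨⟨?_⟩⟩, ?_⟩, ?_⟩
  · rintro _ ⟨a, ha, rfl⟩ _ ⟨b, hb, rfl⟩
    exact congrArg Subtype.val (hcom a ha b hb)
  · rw [← Subgroup.map_inf _ _ _ G.subtype_injective, hinf, Subgroup.map_bot]
  · rw [← Subgroup.map_sup, hsup, ← MonoidHom.range_eq_map, Subgroup.range_subtype]
  · rintro ⟨_, a, ha, rfl⟩ ⟨_, b, hb, rfl⟩
    refine Subtype.ext ?_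
    show G.subtype a * G.subtype b = G.subtype b * G.subtype a
    rw [← map_mul, hab a ha b hb, map_mul]
  · rintro _ ⟨a, ha, rfl⟩
    rw [← map_pow, h.E_exp a ha, map_one]
  · obtain ⟨φ⟩ := h.iso
    exact ⟨(Subgroup.equivMapOfInjective G₀ G.subtype G.subtype_injective).symm.trans φ⟩

end Cfsg.Agent.S2766
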