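import Cfsg.Prelude
import Cfsg.Agent.Lib.Invol.NaturalSL2
-- import your own Cfsg.Agent.* helpers here

set_option autoImplicit false
open Cfsg

open scoped Pointwise commutatorElement

namespace Cfsg.Agent.S2779

/-- Let L act on the elementary abelian p-group V (inside a finite group, by conjugation, faithfully) as SL₂(F) on its natural module, F a field with p^n elements, and let S be a Sylow p-subgroup of L. Then [V, S, S] = 1; |V| = p^(2n) and |C_V(S)| = p^n; and for every nonidentity s ∈ S and every v ∈ V outside C_V(S): C_V(s) = C_V(S) = [V, S] = [V, s] = the subgroup generated by the commutators [v, t], t ∈ S. -/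
theorem result {G : Type*} [Group G] [Finite G] {p : ℕ} [Fact p.Prime] {F : Type*} [Field F] [Fintype F] (n : ℕ) (hF : Fintype.card F = p ^ n) (V L : Subgroup G) (hnat : Cfsg.IsNaturalSL2Module F V L) (hf : L ⊓ Subgroup.centralizer (V : Set G) = ⊥) (S : Sylow p ↥L) (T : Subgroup G) (hT : T = ((S : Subgroup ↥L).map L.subtype)) : ⁅⁅V, T⁆, T⁆ = ⊥ ∧ Nat.card V = p ^ (2 * n) ∧ Nat.card ↥(V ⊓ Subgroup.centralizer ((T : Subgroup G) : Set G)) = p ^ n ∧ ∀ s ∈ T, s ≠ 1 → (V ⊓ Subgroup.centralizer ({s} : Set G)) = (V ⊓ Subgroup.centralizer ((T : Subgroup G) : Set G)) ∧ ⁅V, T⁆ = (V ⊓ Subgroup.centralizer ((T : Subgroup G) : Set G)) ∧ ⁅V, Subgroup.zpowers s⁆ = (V ⊓ Subgroup.centralizer ((T : Subgroup G) : Set G)) ∧ ∀ v ∈ V, v ∉ Subgroup.centralizer (T : Set G) → Subgroup.closure {x : G | ∃ t ∈ T, x = v * t * v⁻¹ * t⁻¹} = (V ⊓ Subgroup.centralizer ((T : Subgroup G) : Set G)) := by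
  classical
  haveI := Invol.Nat2.charP_of_card (p := p) hF
  obtain ⟨C⟩ := Invol.Nat2.exists_coord hnat hf S
  rw [← hT] at C
  have hW : ∀ x : G, x ∈ V ⊓ Subgroup.centralizer (T : Set G) → ∃ c : F, (C.vec ![c, 0] : G) = x := by
    rintro x ⟨hxV, hxC⟩
    refine ⟨C.co ⟨x, hxV⟩ 0, ?_⟩
    have h1 := (C.commute_T_iff ⟨x, hxV⟩).mp hxC
    have : (![C.co ⟨x, hxV⟩ 0, 0] : Fin 2 → F) = C.co ⟨x, hxV⟩ := by
      ext i; fin_cases i <;> simp [h1]
    rw [this, C.vec_co]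
  have hWmem : ∀ c : F, (C.vec ![c, 0] : G) ∈ V ⊓ Subgroup.centralizer (T : Set G) := fun c =>
    ⟨(C.vec _).2, (C.commute_T_iff _).mpr (by rw [C.co_vec]; simp)⟩
  have hgen : ∀ v ∈ V, ∀ t ∈ T, v * t * v⁻¹ * t⁻¹ ∈ V ⊓ Subgroup.centralizer (T : Set G) := by
    intro v hv t ht
    obtain ⟨a, rfl⟩ := (C.hT t).mp ht
    obtain ⟨h, he⟩ := C.comm_up_mem a ⟨v, hv⟩
    exact ⟨h, (C.commute_T_iff ⟨_, h⟩).mpr (by rw [he]; simp)⟩
  have hle : ⁅V, T⁆ ≤ V ⊓ Subgroup.centralizer (T : Set G) :=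
    Subgroup.commutator_le.mpr fun v hv t ht => hgen v hv t ht
  have hex : ∀ (a : F), a ≠ 0 → ∀ x ∈ V ⊓ Subgroup.centralizer (T : Set G), ∃ v ∈ V,
      v * (C.ρ.symm (Grp.SL2.up a) : G) * v⁻¹ * (C.ρ.symm (Grp.SL2.up a) : G)⁻¹ = x := by
    intro a ha x hx
    obtain ⟨c, rfl⟩ := hW x hx
    obtain ⟨h, he⟩ := C.comm_up_mem a (C.vec ![0, -c / a])
    refine ⟨_, (C.vec ![0, -c / a]).2, ?_⟩
    have : (⟨_, h⟩ : V) = C.vec ![c, 0] := C.co_injective (by
      rw [he, C.co_vec, C.co_vec]; ext i; fin_cases i <;> simp [ha] <;> field_simp)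
    exact congrArg Subtype.val this
  refine ⟨Subgroup.commutator_eq_bot_iff_le_centralizer.mpr (hle.trans inf_le_right), ?_, ?_, ?_⟩
  · rw [Nat.card_congr (Additive.ofMul.trans C.ψ.toEquiv), Nat.card_eq_fintype_card, Fintype.card_pi,
      Finset.prod_const, Finset.card_univ, Fintype.card_fin, hF, ← pow_mul, mul_comm]
  · rw [← hF, ← Nat.card_eq_fintype_card]
    refine (Nat.card_congr (Equiv.ofBijective
      (fun c : F => (⟨_, hWmem c⟩ : ↥(V ⊓ Subgroup.centralizer (T : Set G)))) ⟨?_, ?_⟩)).symm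
    · intro a b hab
      have h1 := congrArg Subtype.val hab
      simp only at h1
      have h2 := congrArg C.co (Subtype.ext h1)
      rw [C.co_vec, C.co_vec] at h2
      simpa using congrFun h2 0
    · rintro ⟨x, hx⟩
      obtain ⟨c, hc⟩ := hW x hx
      exact ⟨c, Subtype.ext hc⟩
  · intro s hs hs1
    obtain ⟨a, rfl⟩ := (C.hT s).mp hs
    have ha : a ≠ 0 := by
      rintro rfl
      rw [Grp.SL2.up_zero, map_one, OneMemClass.coe_one] at hs1
      exact hs1 rfl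
    refine ⟨?_, le_antisymm hle ?_, le_antisymm ((Subgroup.commutator_mono le_rfl (Subgroup.zpowers_le.mpr hs)).trans hle) ?_, ?_⟩
    · refine le_antisymm ?_ (inf_le_inf_left V (Subgroup.centralizer_le (Set.singleton_subset_iff.mpr hs)))
      rintro x ⟨hxV, hxC⟩
      exact ⟨hxV, (C.commute_T_iff ⟨x, hxV⟩).mpr ((C.commute_up_iff ha ⟨x, hxV⟩).mp
        (Subgroup.mem_centralizer_iff.mp hxC _ (Set.mem_singleton _)))⟩
    · intro x hx
      obtain ⟨v, hv, rfl⟩ := hex a ha x hx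
      exact Subgroup.commutator_mem_commutator hv hs
    · intro x hx
      obtain ⟨v, hv, rfl⟩ := hex a ha x hx
      exact Subgroup.commutator_mem_commutator hv (Subgroup.mem_zpowers _)
    · intro v hv hvT
      have hv1 : C.co ⟨v, hv⟩ 1 ≠ 0 := fun h => hvT ((C.commute_T_iff ⟨v, hv⟩).mpr h)
      refine le_antisymm ((Subgroup.closure_le _).mpr ?_) ?_
      · rintro _ ⟨t, ht, rfl⟩
        exact hgen v hv t ht
      · intro x hx
        obtain ⟨c, rfl⟩ := hW x hx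
        obtain ⟨h, he⟩ := C.comm_up_mem (-c / C.co ⟨v, hv⟩ 1) ⟨v, hv⟩
        refine Subgroup.subset_closure ⟨_, (C.hT _).mpr ⟨-c / C.co ⟨v, hv⟩ 1, rfl⟩, ?_⟩
        have h2 : (⟨_, h⟩ : V) = C.vec ![c, 0] := C.co_injective (by
          rw [he, C.co_vec]; ext i; fin_cases i <;> simp [hv1] <;> field_simp)
        exact (congrArg Subtype.val h2).symm

end Cfsg.Agent.S2779
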