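import Cfsg.Prelude
import Cfsg.Agent.Lib.Invol.NaturalSL2
-- import your own Cfsg.Agent.* helpers here

set_option autoImplicit false
open Cfsg

open scoped Pointwise commutatorElement

namespace Cfsg.Agent.S2780

/-- Let L act on the elementary abelian p-group V (inside a finite group, faithfully) as SL₂(F) on its natural module, F a field with p^n elements, S a Sylow p-subgroup of L. Then: for every g ∈ L not normalizing S, V is the internal direct product of C_V(S) and C_V(gSg⁻¹); every nonidentity element of L of order prime to p acts on V without nonidentity fixed points; and C_V(S) and V/C_V(S) are irreducible for N_L(S): the only N_L(S)-invariant subgroups of C_V(S) are 1 and C_V(S), and the only N_L(S)-invariant subgroups between C_V(S) and V are those two. -/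
theorem result {G : Type*} [Group G] [Finite G] {p : ℕ} [Fact p.Prime] {F : Type*} [Field F] [Fintype F] (n : ℕ) (hF : Fintype.card F = p ^ n) (V L : Subgroup G) (hnat : Cfsg.IsNaturalSL2Module F V L) (hf : L ⊓ Subgroup.centralizer (V : Set G) = ⊥) (S : Sylow p ↥L) (T : Subgroup G) (hT : T = ((S : Subgroup ↥L).map L.subtype)) : (∀ g ∈ L, g ∉ Subgroup.normalizer (T : Set G) → Cfsg.IsInternalDirectProduct (V ⊓ Subgroup.centralizer ((T : Subgroup G) : Set G)) (V ⊓ Subgroup.centralizer ((T.map (MulAut.conj g).toMonoidHom : Subgroup G) : Set G)) V) ∧ (∀ x ∈ L, x ≠ 1 → (orderOf x).Coprime p → (V ⊓ Subgroup.centralizer ({x} : Set G)) = ⊥) ∧ (∀ U : Subgroup G, U ≤ (V ⊓ Subgroup.centralizer ((T : Subgroup G) : Set G)) → L ⊓ Subgroup.normalizer (T : Set G) ≤ Subgroup.normalizer (U : Set G) → U = ⊥ ∨ U = (V ⊓ Subgroup.centralizer ((T : Subgroup G) : Set G))) ∧ (∀ U : Subgroup G, (V ⊓ Subgroup.centralizer ((T : Subgroup G) : Set G)) ≤ U → U ≤ V → L ⊓ Subgroup.normalizer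 (T : Set G) ≤ Subgroup.normalizer (U : Set G) → U = (V ⊓ Subgroup.centralizer ((T : Subgroup G) : Set G)) ∨ U = V) := by
  classical
  haveI := Invol.Nat2.charP_of_card (p := p) hF
  obtain ⟨C⟩ := Invol.Nat2.exists_coord hnat hf S
  rw [← hT] at C
  have hdg : ∀ (a : F) (ha : a ≠ 0), (C.ρ.symm (Invol.Nat2.dg a ha) : G) ∈ L ⊓ Subgroup.normalizer (T : Set G) := by
    intro a ha
    refine ⟨(C.ρ.symm _).2, Subgroup.mem_normalizer_fintype fun t ht => ?_⟩
    obtain ⟨u, rfl⟩ := (C.hT t).mp ht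
    refine (C.hT _).mpr ⟨a * a * u, ?_⟩
    rw [eq_mul_inv_iff_mul_eq.mpr (Invol.Nat2.dg_up a ha u).symm, map_mul, map_mul, map_inv]
    rfl
  refine ⟨fun g hg hgT => ?_, ?_, fun U hU hUn => ?_, fun U hWU hUV hUn => ?_⟩
  · set l : ↥L := ⟨g, hg⟩ with hl
    have hg10 : ((C.ρ l : Matrix.SpecialLinearGroup (Fin 2) F) : Matrix (Fin 2) (Fin 2) F) 1 0 ≠ 0 := by
      intro h
      refine hgT (Subgroup.mem_normalizer_fintype fun t ht => ?_)
      obtain ⟨u, rfl⟩ := (C.hT t).mp ht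
      obtain ⟨v, hv⟩ := Invol.Nat2.mem_upG.mp
        ((Subgroup.mem_normalizer_iff.mp (Invol.Nat2.normalizes_upG h) (Grp.SL2.up u)).mp ⟨u, rfl⟩)
      refine (C.hT _).mpr ⟨v, ?_⟩
      rw [hv, map_mul, map_mul, map_inv, MulEquiv.symm_apply_apply]
      rfl
    set A := ((C.ρ l : Matrix.SpecialLinearGroup (Fin 2) F) : Matrix (Fin 2) (Fin 2) F) with hA
    set T' : Subgroup G := T.map (MulAut.conj g).toMonoidHom with hT'
    have hgc : ∀ v : V, C.co v 1 = 0 →
        g * (v : G) * g⁻¹ ∈ V ⊓ Subgroup.centralizer (T' : Set G) := by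
      intro v hv
      refine ⟨C.conj_mem hg v, Subgroup.mem_centralizer_iff.mpr ?_⟩
      rintro _ ⟨t, ht, rfl⟩
      show g * t * g⁻¹ * (g * v * g⁻¹) = g * v * g⁻¹ * (g * t * g⁻¹)
      have := Subgroup.mem_centralizer_iff.mp ((C.commute_T_iff v).mpr hv) t ht
      calc g * t * g⁻¹ * (g * v * g⁻¹) = g * (t * v) * g⁻¹ := by group
        _ = g * (v * t) * g⁻¹ := by rw [this]
        _ = g * v * g⁻¹ * (g * t * g⁻¹) := by group
    refine ⟨inf_le_left, inf_le_left, fun a ha b hb => ?_, ?_, le_antisymm (sup_le inf_le_left inf_le_left) fun x hx => ?_⟩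
    · exact congrArg Subtype.val (show (⟨a, ha.1⟩ : V) * ⟨b, hb.1⟩ = ⟨b, hb.1⟩ * ⟨a, ha.1⟩ from
        C.co_injective (by rw [C.co_mul, C.co_mul, add_comm]))
    · rw [eq_bot_iff]
      rintro x ⟨⟨hxV, hx1⟩, ⟨-, hx2⟩⟩
      have hy : g⁻¹ * x * g ∈ V := by simpa using C.conj_mem (L.inv_mem hg) ⟨x, hxV⟩
      have hyC : (⟨_, hy⟩ : V).1 ∈ Subgroup.centralizer (T : Set G) := by
        refine Subgroup.mem_centralizer_iff.mpr fun t ht => ?_
        have h1 := Subgroup.mem_centralizer_iff.mp hx2 (g * t * g⁻¹) ⟨t, ht, rfl⟩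
        calc t * (g⁻¹ * x * g) = g⁻¹ * (g * t * g⁻¹ * x) * g := by group
          _ = g⁻¹ * (x * (g * t * g⁻¹)) * g := by rw [h1]
          _ = g⁻¹ * x * g * t := by group
      have hy1 := (C.commute_T_iff _).mp hyC
      have hx1' := (C.commute_T_iff ⟨x, hxV⟩).mp hx1
      have e : C.co ⟨x, hxV⟩ = A.mulVec (C.co ⟨_, hy⟩) := by
        rw [hA, ← C.co_conj l ⟨_, hy⟩ (by simpa [hl, mul_assoc] using hxV)]
        congr 1
        exact Subtype.ext (by simp [hl, mul_assoc])
      have h0 : A 1 0 * C.co ⟨_, hy⟩ 0 = 0 := by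
        have := congrFun e 1
        rw [hx1'] at this
        simpa [Matrix.mulVec, dotProduct, Fin.sum_univ_two, hy1] using this.symm
      have hz : C.co ⟨_, hy⟩ = 0 := by
        ext i; fin_cases i
        · exact (mul_eq_zero.mp h0).resolve_left hg10
        · exact hy1
      rw [hz, Matrix.mulVec_zero] at e
      have : (⟨x, hxV⟩ : V) = 1 := C.co_injective (by rw [e, C.co_one])
      exact congrArg Subtype.val this
    · set u := C.co ⟨x, hx⟩ with hu
      set c := u 1 / A 1 0 with hc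
      have hd := hgc (C.vec ![c, 0]) (by rw [C.co_vec]; rfl)
      set d : V := ⟨_, hd.1⟩ with hd'
      have hed : C.co (⟨x, hx⟩ * d⁻¹) 1 = 0 := by
        rw [C.co_mul, C.co_inv, hd', C.co_conj l, C.co_vec, ← hA, ← hu]
        simp [Matrix.mulVec, dotProduct, Fin.sum_univ_two, hc]
        field_simp
        ring
      have hm : ((⟨x, hx⟩ * d⁻¹ : V) : G) ∈ V ⊓ Subgroup.centralizer (T : Set G) :=
        ⟨SetLike.coe_mem _, (C.commute_T_iff _).mpr hed⟩
      have := Subgroup.mul_mem _ (Subgroup.mem_sup_left (T := V ⊓ Subgroup.centralizer (T' : Set G)) hm)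
        (Subgroup.mem_sup_right hd)
      simpa [hd', mul_assoc] using this
  · intro x hx hx1 hxp
    rw [eq_bot_iff]
    rintro v ⟨hvV, hvC⟩
    by_contra hv
    have hco : C.co ⟨v, hvV⟩ ≠ 0 := fun h => hv (congrArg Subtype.val
      (show (⟨v, hvV⟩ : V) = 1 from C.co_injective (by rw [h, C.co_one])))
    have hfix := (C.commute_iff ⟨x, hx⟩ ⟨v, hvV⟩).mp (Subgroup.mem_centralizer_iff.mp hvC x rfl)
    have h1 := Grp.SL2.unipotent_pow p (Invol.Nat2.tr_of_fix hco hfix)
    rw [← map_pow, MulEquiv.map_eq_one_iff] at h1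
    have h3 : orderOf x ∣ p := by
      rw [show x = ((⟨x, hx⟩ : L) : G) from rfl, Subgroup.orderOf_coe]
      exact orderOf_dvd_of_pow_eq_one h1
    exact hx1 (orderOf_eq_one_iff.mp (Nat.eq_one_of_dvd_coprimes hxp dvd_rfl h3))
  · by_contra hne
    push Not at hne
    obtain ⟨hU1, hU2⟩ := hne
    obtain ⟨u, hu, hu1⟩ := U.bot_or_exists_ne_one.resolve_left hU1
    refine hU2 (le_antisymm hU ?_)
    rintro x ⟨hxV, hxC⟩
    have hx1 := (C.commute_T_iff ⟨x, hxV⟩).mp hxC
    have hu10 := (C.commute_T_iff ⟨u, (hU hu).1⟩).mp (hU hu).2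
    by_cases hx0 : C.co ⟨x, hxV⟩ 0 = 0
    · have : (⟨x, hxV⟩ : V) = 1 := C.co_injective (by
        rw [C.co_one]; ext i; fin_cases i
        · exact hx0
        · exact hx1)
      rw [show x = 1 from congrArg Subtype.val this]
      exact U.one_mem
    have hu0 : C.co ⟨u, (hU hu).1⟩ 0 ≠ 0 := fun h => hu1 (congrArg Subtype.val
      (show (⟨u, (hU hu).1⟩ : V) = 1 from C.co_injective (by
        rw [C.co_one]; ext i; fin_cases i
        · exact h
        · exact hu10)))
    have hm := hdg _ (div_ne_zero hx0 hu0)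
    have h1 := (Subgroup.mem_normalizer_iff.mp (hUn hm) u).mp hu
    have h2 : (⟨_, C.conj_mem hm.1 ⟨u, (hU hu).1⟩⟩ : V) = ⟨x, hxV⟩ := C.co_injective (by
      rw [C.co_conj, MulEquiv.apply_symm_apply, Invol.Nat2.mulVec_dg]
      ext i; fin_cases i <;> simp [hu10, hx1, hu0])
    have h3 := congrArg Subtype.val h2
    simp only at h3
    rwa [h3] at h1
  · by_contra hne
    push Not at hne
    obtain ⟨hU1, hU2⟩ := hne
    obtain ⟨u, hu, huW⟩ : ∃ u ∈ U, u ∉ V ⊓ Subgroup.centralizer (T : Set G) := by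
      by_contra h
      push Not at h
      exact hU1 (le_antisymm h hWU)
    refine hU2 (le_antisymm hUV fun x hx => ?_)
    have hu0 : C.co ⟨u, hUV hu⟩ 1 ≠ 0 := fun h => huW ⟨hUV hu, (C.commute_T_iff ⟨u, hUV hu⟩).mpr h⟩
    by_cases hx1 : C.co ⟨x, hx⟩ 1 = 0
    · exact hWU ⟨hx, (C.commute_T_iff ⟨x, hx⟩).mpr hx1⟩
    have hm := hdg _ (div_ne_zero hu0 hx1)
    have h1 := (Subgroup.mem_normalizer_iff.mp (hUn hm) u).mp hu
    set y : V := ⟨_, C.conj_mem hm.1 ⟨u, hUV hu⟩⟩ with hy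
    have hz : C.co (⟨x, hx⟩ * y⁻¹) 1 = 0 := by
      rw [C.co_mul, C.co_inv, hy, C.co_conj, MulEquiv.apply_symm_apply, Invol.Nat2.mulVec_dg]
      simp
      field_simp
      ring
    have h2 := U.mul_mem (hWU (show ((⟨x, hx⟩ * y⁻¹ : V) : G) ∈ _ from ⟨SetLike.coe_mem _, (C.commute_T_iff _).mpr hz⟩)) h1
    simpa [hy, mul_assoc] using h2

end Cfsg.Agent.S2780
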