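import Cfsg.Statements.S2781
import Cfsg.Agent.Lib.Invol.LargeSubgroup
import Cfsg.Agent.Lib.Invol.PResidual
-- import your own Cfsg.Agent.* helpers here

set_option autoImplicit false
open Cfsg

namespace Cfsg.Agent.S2781

open scoped commutatorElement

/-- Let H act faithfully by conjugation on the elementary abelian p-subgroup V of a finite group, let O^p(H) be the subgroup of H generated by its elements of order prime to p, and T a Sylow p-subgroup of O^p(H). If V is generated by the H-conjugates of C_V(T) (V is the smallest H-invariant subgroup containing C_V(T)), then V = [V, O^p(H)]·C_V(O^p(H)). -/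
theorem result {G : Type*} [Group G] [Finite G] {p : ℕ} [Fact p.Prime] (V H : Subgroup G) (hV : Cfsg.IsElementaryAbelian p V) (hHV : H ≤ Subgroup.normalizer (V : Set G)) (hf : H ⊓ Subgroup.centralizer (V : Set G) = ⊥) (R : Subgroup G) (hR : R = (Cfsg.pResidual p ↥H).map H.subtype) (S : Sylow p ↥R) (T : Subgroup G) (hT : T = ((S : Subgroup ↥R).map R.subtype)) (hgen : ∀ W : Subgroup G, H ≤ Subgroup.normalizer (W : Set G) → (V ⊓ Subgroup.centralizer ((T : Subgroup G) : Set G)) ≤ W → V ≤ W) : ⁅V, R⁆ ⊔ (V ⊓ Subgroup.centralizer ((R : Subgroup G) : Set G)) = V := by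
  classical
  have hRH : R ≤ H := hR ▸ Subgroup.map_subtype_le _
  have hHR : ∀ h ∈ H, h ∈ Subgroup.normalizer (R : Set G) := by
    intro h hh
    haveI hn : (Cfsg.pResidual p ↥H).Normal := inferInstance
    refine Subgroup.mem_normalizer_fintype fun x hx => ?_
    rw [hR] at hx ⊢
    obtain ⟨y, hy, rfl⟩ := hx
    exact ⟨⟨h, hh⟩ * y * ⟨h, hh⟩⁻¹, hn.conj_mem y hy _, rfl⟩
  have hTR : T ≤ R := hT ▸ Subgroup.map_subtype_le _
  set W0 := ⁅V, R⁆ with hW0
  have hW0V : W0 ≤ V := Subgroup.commutator_le.mpr fun v hv r hr => by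
    rw [commutatorElement_def, show v * r * v⁻¹ * r⁻¹ = v * (r * v⁻¹ * r⁻¹) by group]
    exact V.mul_mem hv ((Subgroup.mem_normalizer_iff.mp (hHV (hRH hr)) _).mp (V.inv_mem hv))
  have hHW0 : ∀ h ∈ H, h ∈ Subgroup.normalizer (W0 : Set G) := fun h hh => by
    rw [← Cfsg.Agent.Invol.wc_map_conj_eq_iff, hW0, Subgroup.map_commutator,
      Cfsg.Agent.Invol.wc_map_conj_eq_iff.mpr (hHV hh), Cfsg.Agent.Invol.wc_map_conj_eq_iff.mpr (hHR h hh)]
  set Vb := V ⊓ Subgroup.centralizer (T : Set G) with hVb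
  set W := W0 ⊔ Vb with hW
  have hWV : W ≤ V := sup_le hW0V inf_le_left
  have hRW : ∀ r ∈ R, ∀ x ∈ W, r * x * r⁻¹ ∈ W := by
    intro r hr x hx
    rw [show r * x * r⁻¹ = (⁅x, r⁆)⁻¹ * x by rw [commutatorElement_def]; group]
    exact W.mul_mem (W.inv_mem (Subgroup.mem_sup_left (Subgroup.commutator_mem_commutator (hWV hx) hr))) hx
  have hHW : H ≤ Subgroup.normalizer (W : Set G) := by
    intro h hh
    set e := (MulAut.conj h).toMonoidHom
    have hTe : T.map e ≤ R := fun x hx => by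
      obtain ⟨t, ht, rfl⟩ := hx
      exact (Subgroup.mem_normalizer_iff.mp (hHR h hh) t).mp (hTR ht)
    have hcard : Nat.card ((T.map e).subgroupOf R) = Nat.card (S : Subgroup ↥R) := by
      rw [Nat.card_congr (Subgroup.subgroupOfEquivOfLe hTe).toEquiv, Subgroup.card_map_of_injective (MulAut.conj h).injective,
        hT, Subgroup.card_map_of_injective R.subtype_injective]
    have hp1 : IsPGroup p ((T.map e).subgroupOf R) := (hT ▸ (S.isPGroup'.map R.subtype) : IsPGroup p T).map e |>.comap_subtype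
    have hidx : ¬ p ∣ ((T.map e).subgroupOf R).index := by
      have h1 := ((T.map e).subgroupOf R).card_mul_index
      rw [hcard, ← (S : Subgroup ↥R).card_mul_index] at h1
      rw [Nat.eq_of_mul_eq_mul_left Nat.card_pos h1]
      exact S.not_dvd_index
    obtain ⟨r, hr⟩ := MulAction.exists_smul_eq R (hp1.toSylow hidx) S
    have hn : ((r : G) * h) ∈ Subgroup.normalizer (T : Set G) := by
      refine Subgroup.mem_normalizer_fintype fun t ht => ?_
      have h2 : r * (⟨h * t * h⁻¹, hTe ⟨t, ht, rfl⟩⟩ : R) * r⁻¹ ∈ (S : Subgroup ↥R) := by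
        rw [← hr, Sylow.coe_subgroup_smul, Subgroup.mem_pointwise_smul_iff_inv_smul_mem, ← map_inv, MulAut.smul_def, MulAut.conj_apply]
        simp only [mul_assoc, inv_mul_cancel_left, inv_inv, inv_mul_cancel, mul_one]
        exact ⟨t, ht, by simp [e, mul_assoc]⟩
      rw [hT]
      exact ⟨_, h2, by simp [mul_assoc]⟩
    have hmap : W.map e ≤ W := by
      rw [hW, Subgroup.map_sup]
      refine sup_le ((Cfsg.Agent.Invol.wc_map_conj_eq_iff.mpr (hHW0 h hh)).le.trans le_sup_left) ?_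
      rintro _ ⟨v, ⟨hvV, hvT⟩, rfl⟩
      have hv2 : (r : G) * h * v * ((r : G) * h)⁻¹ ∈ Vb := by
        refine ⟨(Subgroup.mem_normalizer_iff.mp (hHV (H.mul_mem (hRH r.2) hh)) v).mp hvV, Subgroup.mem_centralizer_iff.mpr fun t ht => ?_⟩
        have h1 := Subgroup.mem_centralizer_iff.mp hvT _ ((Subgroup.mem_normalizer_iff''.mp hn t).mp ht)
        calc t * ((r : G) * h * v * ((r : G) * h)⁻¹) = ((r : G) * h) * (((r : G) * h)⁻¹ * t * ((r : G) * h) * v) * ((r : G) * h)⁻¹ := by group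
          _ = ((r : G) * h) * (v * (((r : G) * h)⁻¹ * t * ((r : G) * h))) * ((r : G) * h)⁻¹ := by rw [h1]
          _ = (r : G) * h * v * ((r : G) * h)⁻¹ * t := by group
      have := hRW _ (R.inv_mem r.2) _ (Subgroup.mem_sup_right hv2)
      simpa [e, mul_assoc] using this
    exact Subgroup.mem_normalizer_fintype fun x hx => hmap ⟨x, hx, rfl⟩
  have hVW : V ≤ W := hgen W hHW le_sup_right
  -- the trace map
  haveI hVc : IsMulCommutative V := hV.1
  letI : CommGroup V := { (inferInstance : Group V) with mul_comm := hVc.is_comm.comm }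
  refine le_antisymm (sup_le hW0V inf_le_left) (hVW.trans (sup_le le_sup_left ?_))
  rintro v ⟨hvV, hvT⟩
  let f : R → V := fun r => ⟨(r : G) * v * (r : G)⁻¹, (Subgroup.mem_normalizer_iff.mp (hHV (hRH r.2)) v).mp hvV⟩
  let F : R ⧸ (S : Subgroup ↥R) → V := Quotient.lift f (fun a b hab => by
    have hs : a⁻¹ * b ∈ (S : Subgroup ↥R) := QuotientGroup.leftRel_apply.mp hab
    have ht : ((a⁻¹ * b : R) : G) ∈ T := hT ▸ ⟨_, hs, rfl⟩
    have h1 := Subgroup.mem_centralizer_iff.mp hvT _ ht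
    refine Subtype.ext ?_
    show (a : G) * v * (a : G)⁻¹ = (b : G) * v * (b : G)⁻¹
    have h2 : ((a⁻¹ * b : R) : G) = (a : G)⁻¹ * b := rfl
    rw [h2] at h1
    calc (a : G) * v * (a : G)⁻¹ = (a : G) * (v * ((a : G)⁻¹ * b)) * ((a : G)⁻¹ * b)⁻¹ * (a : G)⁻¹ := by group
      _ = (a : G) * ((a : G)⁻¹ * b * v) * ((a : G)⁻¹ * b)⁻¹ * (a : G)⁻¹ := by rw [h1]
      _ = (b : G) * v * (b : G)⁻¹ := by group)
  letI := Fintype.ofFinite (R ⧸ (S : Subgroup ↥R))
  set z : V := ∏ c, F c with hz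
  have hzC : (z : G) ∈ Subgroup.centralizer (R : Set G) := by
    refine Subgroup.mem_centralizer_iff.mpr fun r hr => ?_
    let φ : V →* V :=
      { toFun := fun x => ⟨r * x * r⁻¹, (Subgroup.mem_normalizer_iff.mp (hHV (hRH hr)) x).mp x.2⟩
        map_one' := Subtype.ext (by simp)
        map_mul' := fun a b => Subtype.ext (by simp [mul_assoc]) }
    have h1 : φ z = z := by
      rw [hz, map_prod]
      refine Fintype.prod_equiv (MulAction.toPerm (⟨r, hr⟩ : R)) _ _ fun c => ?_
      induction c using Quotient.inductionOn' with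
      | _ x => exact Subtype.ext (by show r * ((x : G) * v * (x : G)⁻¹) * r⁻¹ = r * (x : G) * v * (r * (x : G))⁻¹; group)
    have h2 : r * (z : G) * r⁻¹ = z := congrArg Subtype.val h1
    exact mul_inv_eq_iff_eq_mul.mp h2
  set q := QuotientGroup.mk' (W0.subgroupOf V)
  have hqF : ∀ c, q (F c) = q ⟨v, hvV⟩ := by
    intro c
    induction c using Quotient.inductionOn' with
    | _ x =>
      refine QuotientGroup.eq.mpr ?_
      show ((f x : V) : G)⁻¹ * v ∈ W0
      have hc : ⁅v, (x : G)⁆ ∈ W0 := Subgroup.commutator_mem_commutator hvV x.2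
      have e : ((f x : V) : G) = (x : G) * v * (x : G)⁻¹ := rfl
      rw [e, show ((x : G) * v * (x : G)⁻¹)⁻¹ * v = v⁻¹ * ⁅v, (x : G)⁆ * v by rw [commutatorElement_def]; group]
      have hvN : v ∈ Subgroup.normalizer (W0 : Set G) := Subgroup.mem_normalizer_fintype fun y hy => by
        have := congrArg Subtype.val (hVc.is_comm.comm ⟨v, hvV⟩ ⟨y, hW0V hy⟩)
        have h3 : v * y = y * v := this
        rwa [h3, mul_inv_cancel_right]
      exact (Subgroup.mem_normalizer_iff''.mp hvN _).mp hc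
  have hqz : q z = q ⟨v, hvV⟩ ^ (S : Subgroup ↥R).index := by
    rw [hz, map_prod, Finset.prod_congr rfl (fun c _ => hqF c), Finset.prod_const, Finset.card_univ, Subgroup.index,
      Nat.card_eq_fintype_card]
  obtain ⟨j, hj⟩ := exists_pow_eq_self_of_coprime (x := (⟨v, hvV⟩ : V)) (n := (S : Subgroup ↥R).index)
    (Nat.Coprime.coprime_dvd_right (orderOf_dvd_of_pow_eq_one (Subtype.ext (hV.2 v hvV)))
      ((Fact.out : p.Prime).coprime_iff_not_dvd.mpr S.not_dvd_index).symm)
  have hqv : q ⟨v, hvV⟩ = q (z ^ j) := by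
    rw [map_pow, hqz, ← map_pow, ← map_pow, hj]
  have hmem : ((z ^ j : V) : G)⁻¹ * v ∈ W0 := (QuotientGroup.eq.mp hqv.symm : (z ^ j)⁻¹ * ⟨v, hvV⟩ ∈ W0.subgroupOf V)
  have hzj : ((z ^ j : V) : G) ∈ V ⊓ Subgroup.centralizer (R : Set G) :=
    ⟨(z ^ j).2, by rw [SubgroupClass.coe_pow]; exact Subgroup.pow_mem _ hzC j⟩
  simpa using Subgroup.mul_mem _ (Subgroup.mem_sup_right (S := W0) hzj) (Subgroup.mem_sup_left hmem)

end Cfsg.Agent.S2781
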