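import Cfsg.Prelude
import Cfsg.Agent.Lib.Invol.NoQuadratic
import Cfsg.Agent.Lib.Transfer.Cores
import Cfsg.Agent.S1069
import Cfsg.Agent.S1073
-- import your own Cfsg.Agent.* helpers here

set_option autoImplicit false
open Cfsg

open scoped Pointwise commutatorElement

namespace Cfsg.Agent.S2787

/-- Let p be a prime and let H act by conjugation on the elementary abelian p-subgroup V of a finite group, irreducibly (no H-invariant subgroups of V other than 1 and V) and nontrivially, and suppose H/C_H(V) is isomorphic to PSL₂(F) for a field F with p^n elements, p^n odd, or p = 3 and H/C_H(V) is isomorphic to a Ree group ²G₂(3^(2m+1)), m ≥ 1. Then no subgroup A of H acting nontrivially on V acts quadratically: [V, A, A] = 1 forces [V, A] = 1. -/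
theorem result {G : Type*} [Group G] [Finite G] {p : ℕ} [Fact p.Prime] (V H : Subgroup G) (hV : Cfsg.IsElementaryAbelian p V) (hHV : H ≤ Subgroup.normalizer (V : Set G)) (hirr : ∀ U : Subgroup G, U ≤ V → H ≤ Subgroup.normalizer (U : Set G) → U = ⊥ ∨ U = V) (hnt : ¬ H ≤ Subgroup.centralizer (V : Set G)) [hn : ((Subgroup.centralizer (V : Set G)).subgroupOf H).Normal] (hq : (∃ (F : Type) (_ : Field F) (_ : Fintype F) (n : ℕ), Fintype.card F = p ^ n ∧ Odd (Fintype.card F) ∧ Nonempty (↥H ⧸ (Subgroup.centralizer (V : Set G)).subgroupOf H ≃* Matrix.ProjectiveSpecialLinearGroup (Fin 2) F)) ∨ (p = 3 ∧ Cfsg.Lie.IsoRee (↥H ⧸ (Subgroup.centralizer (V : Set G)).subgroupOf H))) (A : Subgroup G) (hA : A ≤ H) (hquad : ⁅⁅V, A⁆, A⁆ = ⊥) : ⁅V, A⁆ = ⊥ := by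
  classical
  haveI := hn
  haveI : Fact (Nat.Prime 2) := ⟨Nat.prime_two⟩
  have hp : p.Prime := Fact.out
  haveI := hV.1
  by_contra hne
  obtain ⟨a, haA, haC⟩ : ∃ a ∈ A, a ∉ Subgroup.centralizer (V : Set G) := by
    by_contra h
    push Not at h
    refine hne (Subgroup.commutator_eq_bot_iff_le_centralizer.mpr ?_)
    rw [Subgroup.le_centralizer_iff]
    exact h
  set C := (Subgroup.centralizer (V : Set G)).subgroupOf H with hC
  set Q := ↥H ⧸ C
  -- no quaternion section
  obtain ⟨hp2, hfree⟩ : p ≠ 2 ∧ Cfsg.Agent.Invol.NoQuadratic.QuatFree Q := by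
    rcases hq with ⟨F, _, _, n, hcard, hodd, ⟨iso⟩⟩ | ⟨rfl, K, _, _, m, hm, hK, ⟨iso⟩⟩
    · refine ⟨?_, Cfsg.Agent.Invol.NoQuadratic.quatFree_psl (Nat.odd_iff.mp hodd) iso⟩
      rintro rfl
      rcases Nat.eq_zero_or_pos n with rfl | hn0
      · have := Fintype.one_lt_card (α := F)
        simp [hcard] at this
      · rw [hcard] at hodd
        exact (Nat.not_even_iff_odd.mpr hodd) ((Nat.even_pow).mpr ⟨even_two, hn0.ne'⟩)
    · refine ⟨by norm_num, ?_⟩
      obtain ⟨hs, hna⟩ := Cfsg.Agent.S1073.result hm hK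
      haveI := hs
      haveI : Nontrivial Q := iso.toEquiv.nontrivial
      haveI : IsSimpleGroup Q := iso.isSimpleGroup
      refine Cfsg.Agent.Invol.NoQuadratic.quatFree_of_simple_eight
        (fun h => hna ⟨⟨fun x y => by
          obtain ⟨x, rfl⟩ := iso.surjective x
          obtain ⟨y, rfl⟩ := iso.surjective y
          rw [← map_mul, ← map_mul, h.is_comm.comm]⟩⟩) ?_
      rw [Nat.card_congr iso.toEquiv, Cfsg.Agent.S1069.result hK]
      generalize hq3 : 3 ^ (2 * m + 1) = q
      have h8 : q % 8 = 3 := by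
        rw [← hq3, pow_succ, pow_mul, Nat.mul_mod, Nat.pow_mod]
        norm_num
      rintro h16
      have h1 : q % 16 = 3 ∨ q % 16 = 11 := by omega
      have h2 := Nat.mod_eq_zero_of_dvd h16
      obtain ⟨k, rfl⟩ : ∃ k, q = k + 1 := ⟨q - 1, by omega⟩
      rw [Nat.add_sub_cancel, Nat.mul_mod, Nat.mul_mod ((k + 1) ^ 3), Nat.add_mod, Nat.pow_mod] at h2
      have hk : k % 16 = 2 ∨ k % 16 = 10 := by omega
      rcases h1 with e | e <;> rcases hk with e' | e' <;> simp [e, e'] at h2 <;> omega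
  -- the module
  letI : CommGroup V := { (inferInstance : Group V) with mul_comm := fun u v => IsMulCommutative.is_comm.comm u v }
  haveI : Module (ZMod p) (Additive V) := AddCommGroup.zmodModule (fun w => by
    refine Additive.toMul.injective (Subtype.ext ?_)
    rw [toMul_nsmul, toMul_zero, SubmonoidClass.coe_pow, hV.2 _ (Additive.toMul w).2, Subgroup.coe_one])
  let τ : H →* MulAut V := V.normalizerMonoidHom.comp (Subgroup.inclusion hHV)
  have hker : τ.ker = C := by
    ext g
    rw [MonoidHom.mem_ker, hC, Subgroup.mem_subgroupOf, Subgroup.mem_centralizer_iff]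
    constructor
    · intro h v hv
      have h1 := congrArg Subtype.val (DFunLike.congr_fun h ⟨v, hv⟩)
      change (g : G) * v * (g : G)⁻¹ = v at h1
      exact (mul_inv_eq_iff_eq_mul.mp h1).symm
    · intro h
      refine MulEquiv.ext fun v => Subtype.ext ?_
      show (g : G) * v * (g : G)⁻¹ = v
      rw [← h v v.2, mul_inv_cancel_right]
  let τQ : Q →* MulAut V := QuotientGroup.lift C τ hker.ge
  have hτinj : Function.Injective τQ := by
    refine (injective_iff_map_eq_one _).mpr fun x => ?_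
    induction x using QuotientGroup.induction_on with
    | _ g => exact fun h => (QuotientGroup.eq_one_iff g).mpr (hker.le h)
  let ρ : Q →* Module.End (ZMod p) (Additive V) :=
    { toFun := fun g => (τQ g).toMonoidHom.toAdditive.toZModLinearMap p
      map_one' := LinearMap.ext fun w => by
        show Additive.ofMul (τQ 1 (Additive.toMul w)) = w
        rw [map_one]; rfl
      map_mul' := fun g g' => LinearMap.ext fun w => by
        show Additive.ofMul (τQ (g * g') (Additive.toMul w)) = Additive.ofMul (τQ g (τQ g' (Additive.toMul w)))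
        rw [map_mul]; rfl }
  have hρinj : Function.Injective ρ := fun x y h => hτinj (MulEquiv.ext fun v =>
    Additive.ofMul.injective (DFunLike.congr_fun h (Additive.ofMul v)))
  set a' : Q := QuotientGroup.mk (⟨a, hA haA⟩ : H) with ha'
  have hρ : ∀ w, ((Additive.toMul (ρ a' w) : V) : G) = a * (Additive.toMul w : V) * a⁻¹ := fun w => rfl
  have hquad' : Cfsg.Agent.Grp.Quad.QuadOn a V := by
    refine Cfsg.Agent.Grp.Quad.quadOn_of_commutator ?_
    rw [eq_bot_iff, ← hquad]
    exact Subgroup.commutator_mono (Subgroup.commutator_mono le_rfl (Subgroup.zpowers_le.mpr haA))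
      (Subgroup.zpowers_le.mpr haA)
  have hqa : ∀ w, ρ a' (ρ a' w - w) = ρ a' w - w := by
    intro w
    refine Additive.toMul.injective (Subtype.ext ?_)
    rw [hρ, toMul_sub, div_eq_mul_inv, Subgroup.coe_mul, Subgroup.coe_inv, hρ]
    exact mul_inv_eq_iff_eq_mul.mpr (hquad' _ (Additive.toMul w).2).eq
  refine Cfsg.Agent.Invol.NoQuadratic.false_of_quad hp2 hfree ρ hρinj hqa ?_
  -- the largest normal `p`-subgroup is trivial, by irreducibility
  intro hac
  have hP : IsPGroup p (Cfsg.pCore p Q) := Cfsg.Agent.Transfer.pCore_isPGroup p Q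
  haveI hPn : (Cfsg.pCore p Q).Normal := inferInstance
  let U : Subgroup G :=
    { carrier := {v | ∃ h : v ∈ V, ∀ x ∈ Cfsg.pCore p Q, τQ x ⟨v, h⟩ = ⟨v, h⟩}
      one_mem' := ⟨one_mem _, fun x _ => map_one _⟩
      mul_mem' := fun {u v} ⟨hu, hu'⟩ ⟨hv, hv'⟩ => ⟨mul_mem hu hv, fun x hx => by
        show τQ x (⟨u, hu⟩ * ⟨v, hv⟩) = _
        rw [map_mul, hu' x hx, hv' x hx]; rfl⟩
      inv_mem' := fun {u} ⟨hu, hu'⟩ => ⟨inv_mem hu, fun x hx => by
        show τQ x (⟨u, hu⟩)⁻¹ = _
        rw [map_inv, hu' x hx]; rfl⟩ }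
  have hUV : U ≤ V := fun v hv => hv.1
  have hinv : ∀ g ∈ H, ∀ v ∈ U, g * v * g⁻¹ ∈ U := by
    rintro g hg v ⟨hv, hv'⟩
    refine ⟨(Subgroup.mem_normalizer_iff.mp (hHV hg) v).mp hv, fun x hx => ?_⟩
    have h1 : (QuotientGroup.mk (⟨g, hg⟩ : H) : Q)⁻¹ * x * QuotientGroup.mk (⟨g, hg⟩ : H) ∈ Cfsg.pCore p Q := by
      have := hPn.conj_mem x hx (QuotientGroup.mk (⟨g, hg⟩ : H) : Q)⁻¹
      rwa [inv_inv] at this
    have h2 := congrArg (τQ (QuotientGroup.mk (⟨g, hg⟩ : H))) (hv' _ h1)
    rw [← MulAut.mul_apply, ← map_mul, ← mul_assoc, mul_inv_cancel_left, map_mul, MulAut.mul_apply] at h2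
    exact h2
  have hUn : H ≤ Subgroup.normalizer (U : Set G) := fun g hg => Subgroup.mem_normalizer_iff.mpr fun v =>
    ⟨hinv g hg v, fun h => by simpa [mul_assoc] using hinv g⁻¹ (inv_mem hg) _ h⟩
  rcases hirr U hUV hUn with h | h
  · letI : MulAction (Cfsg.pCore p Q) V := MulAction.compHom V (τQ.comp (Cfsg.pCore p Q).subtype)
    have hV1 : V ≠ ⊥ := fun e => haC (Subgroup.mem_centralizer_iff.mpr fun v hv => by
      rw [SetLike.mem_coe, e, Subgroup.mem_bot] at hv
      rw [hv, one_mul, mul_one])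
    have hdvd : p ∣ Nat.card V := by
      obtain ⟨j, hj⟩ := IsPGroup.iff_card.mp (fun v : V => ⟨1, Subtype.ext (by simpa using hV.2 _ v.2)⟩ : IsPGroup p V)
      refine hj ▸ dvd_pow_self p fun e => hV1 (Subgroup.eq_bot_of_card_eq _ ?_)
      rw [hj, e, pow_zero]
    obtain ⟨v, hv, hv1⟩ := hP.exists_fixed_point_of_prime_dvd_card_of_fixed_point V hdvd
      (a := (1 : V)) (fun x => map_one (τQ x))
    have hmem : (v : G) ∈ U := ⟨v.2, fun x hx => hv ⟨x, hx⟩⟩
    rw [h, Subgroup.mem_bot] at hmem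
    exact hv1 (Subtype.ext hmem.symm)
  · refine haC (Subgroup.mem_centralizer_iff.mpr fun v hv => ?_)
    obtain ⟨hvV, hv'⟩ := h.ge hv
    have h1 := congrArg Subtype.val (hv' a' hac)
    change a * v * a⁻¹ = v at h1
    exact (mul_inv_eq_iff_eq_mul.mp h1).symm

end Cfsg.Agent.S2787
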