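import Cfsg.Statements.S2793
import Cfsg.Agent.Lib.Fus.FailGlobal

set_option autoImplicit false
open Cfsg

namespace Cfsg.Agent.S2793

open Cfsg.Agent.Fus Cfsg.Agent.Fus.Fail

variable {G : Type*} [Group G] [Finite G] {p : ℕ} [Fact p.Prime]

/-- An element acting on a subgroup of order `p` as a generator of the automorphisms. -/
theorem relIndex_eq {H : Subgroup G} {a0 : (ZMod p)ˣ} (ha0 : ∀ u : (ZMod p)ˣ, u ∈ Subgroup.zpowers a0)
    {b h : G} (hh : h ∈ H) (hb : orderOf b = p) (he : h * b * h⁻¹ = b ^ (a0 : ZMod p).val) :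
    (H ⊓ Subgroup.centralizer (Subgroup.zpowers b : Set G)).relIndex
      (H ⊓ Subgroup.normalizer (Subgroup.zpowers b : Set G)) = p - 1 := by
  set C := Subgroup.zpowers b with hC
  have hcard : Nat.card C = p := by rw [hC, Nat.card_zpowers, hb]
  let f : ↥(H ⊓ Subgroup.normalizer (C : Set G)) →* MulAut C :=
    C.normalizerMonoidHom.comp (Subgroup.inclusion inf_le_right)
  have hker : (H ⊓ Subgroup.centralizer (C : Set G)).subgroupOf (H ⊓ Subgroup.normalizer (C : Set G)) = f.ker := by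
    rw [← MonoidHom.comap_ker, Subgroup.normalizerMonoidHom_ker]
    ext x
    simp only [Subgroup.mem_subgroupOf, Subgroup.mem_comap, Subgroup.coe_inclusion]
    exact ⟨fun hx => hx.2, fun hx => ⟨x.2.1, hx⟩⟩
  have hn : h ∈ Subgroup.normalizer (C : Set G) := norm_of_le fun x hx => by
    obtain ⟨k, rfl⟩ := Subgroup.mem_zpowers_iff.mp hx
    rw [← conj_zpow, he]
    exact C.zpow_mem (C.pow_mem (Subgroup.mem_zpowers b) _) k
  have hk : ∀ k : ℕ, h ^ k * b * (h ^ k)⁻¹ = b ^ ((a0 : ZMod p).val ^ k) := by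
    intro k
    induction k with
    | zero => simp
    | succ k ih =>
      calc h ^ (k + 1) * b * (h ^ (k + 1))⁻¹ = h * (h ^ k * b * (h ^ k)⁻¹) * h⁻¹ := by rw [pow_succ']; group
        _ = (h * b * h⁻¹) ^ ((a0 : ZMod p).val ^ k) := by rw [ih, conj_pow]
        _ = _ := by rw [he, ← pow_mul, ← pow_succ']
  have horder : orderOf a0 = p - 1 := by
    rw [orderOf_eq_card_of_forall_mem_zpowers ha0, Nat.card_eq_fintype_card, ZMod.card_units]
  have hdvd : orderOf a0 ∣ orderOf (f ⟨h, hh, hn⟩) := by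
    obtain ⟨m, hm⟩ : ∃ m, m = orderOf (f ⟨h, hh, hn⟩) := ⟨_, rfl⟩
    have h1 : f ((⟨h, hh, hn⟩ : ↥(H ⊓ Subgroup.normalizer (C : Set G))) ^ m) = 1 := by
      rw [map_pow, hm, pow_orderOf_eq_one]
    have h2 := congrArg Subtype.val (DFunLike.congr_fun h1 (⟨b, Subgroup.mem_zpowers b⟩ : C))
    have h3 : h ^ m * b * (h ^ m)⁻¹ = b := h2
    rw [hk] at h3
    rw [← hm]
    refine orderOf_dvd_of_pow_eq_one (Units.ext ?_)
    have h4 : b ^ (a0 : ZMod p).val ^ m = b ^ 1 := by rw [h3, pow_one]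
    rw [pow_eq_pow_iff_modEq, hb] at h4
    rw [← ZMod.natCast_eq_natCast_iff] at h4
    simpa using h4
  have hle : Nat.card f.range ≤ p - 1 := by
    haveI : IsCyclic C := isCyclic_of_prime_card hcard
    refine (Subgroup.card_le_card_group f.range).trans (le_of_eq ?_)
    rw [IsCyclic.card_mulAut, hcard, Nat.totient_prime Fact.out]
  have hge : p - 1 ≤ Nat.card f.range := by
    rw [← horder]
    refine Nat.le_trans (Nat.le_of_dvd (orderOf_pos _) hdvd) ?_
    rw [← Nat.card_zpowers]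
    exact Subgroup.card_le_of_le ((Subgroup.zpowers_le).mpr ⟨_, rfl⟩)
  rw [Subgroup.relIndex, hker, Subgroup.index_ker]
  omega

/-- Let p be an odd prime, S a Sylow p-subgroup of the finite group G, J(S) the subgroup generated by the abelian subgroups of S of largest order, and suppose Z(J(S)) does not control strong fusion in G. Put H = N_G(Z(J(S))). Then the group F(p) of upper triangular 3 × 3 matrices (a b c; 0 a⁻¹ d; 0 0 1) over the field with p elements is involved in H, and Z(J(S)) contains a subgroup C of order p with |N_H(C) : C_H(C)| = p − 1. -/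
theorem result {G : Type*} [Group G] [Finite G] {p : ℕ} [Fact p.Prime] (hp : p ≠ 2) (S : Sylow p G) (h : ¬ Cfsg.ControlsStrongFusion p (Cfsg.centerThompsonAOf (S : Subgroup G))) (H : Subgroup G) (hH : H = Subgroup.normalizer ((Cfsg.centerThompsonAOf (S : Subgroup G)) : Set G)) : Cfsg.Involves ↥(Cfsg.fOver (ZMod p)) ↥H ∧ ∃ C : Subgroup G, C ≤ (Cfsg.centerThompsonAOf (S : Subgroup G)) ∧ Nat.card C = p ∧ (H ⊓ Subgroup.centralizer (C : Set G)).relIndex (H ⊓ Subgroup.normalizer (C : Set G)) = p - 1 := by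
  obtain ⟨a0, ha0⟩ := IsCyclic.exists_generator (α := (ZMod p)ˣ)
  subst hH
  have hS : Grp.IsSylowIn p (S : Subgroup G) ⊤ :=
    ⟨le_top, S.isPGroup', by rw [Subgroup.relIndex_top_right]; exact S.not_dvd_index⟩
  rcases ctrl_or_data hp ha0 (Nat.card (⊤ : Subgroup G) + 1) ⊤ S (Nat.lt_succ_self _) hS with hc | hd
  · refine absurd ⟨S, centerJ_le, fun A hA => ⟨hA, fun g hg => ?_⟩⟩ h
    obtain ⟨k, hk, he⟩ := hc (Subgroup.closure A) ((Subgroup.closure_le _).mpr hA) g trivial
      (cj_le_iff.mpr fun a ha => by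
        induction ha using Subgroup.closure_induction with
        | mem a ha => exact hg ⟨a, ha, rfl⟩
        | one => simp
        | mul a b _ _ iha ihb => rw [← conj_mul]; exact mul_mem iha ihb
        | inv a _ iha => rw [← conj_inv]; exact inv_mem iha)
    exact ⟨k, hk.2, fun a ha => he a (Subgroup.subset_closure ha)⟩
  obtain ⟨s, hs, x, hx, ⟨D1, hD1, φ, hφ, hxn, hsn, hxe, hse⟩, b, hb, hbo, hbe⟩ :=
    hd.mono (inf_le_right : _ ≤ Subgroup.normalizer (centerThompsonAOf (S : Subgroup G) : Set G))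
  refine ⟨?_, Subgroup.zpowers b, (Subgroup.zpowers_le).mpr hb, by rw [Nat.card_zpowers, hbo],
    relIndex_eq ha0 hs hbo hbe⟩
  generalize Subgroup.normalizer (centerThompsonAOf (S : Subgroup G) : Set G) = H at *
  refine involves_fOver hp (V := D1.subgroupOf H)
    (φ.comp (Subgroup.subgroupOfEquivOfLe hD1).toMonoidHom)
    (hφ.comp (Subgroup.subgroupOfEquivOfLe hD1).surjective) ha0 (x := ⟨x, hx⟩) (s := ⟨s, hs⟩)
    (norm_of_le fun v hv => (Subgroup.mem_normalizer_iff.mp hxn (v : G)).mp hv)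
    (norm_of_le fun v hv => (Subgroup.mem_normalizer_iff.mp hsn (v : G)).mp hv)
    (fun v h' => hxe (Subgroup.subgroupOfEquivOfLe hD1 v) h')
    (fun v h' => hse (Subgroup.subgroupOfEquivOfLe hD1 v) h')

end Cfsg.Agent.S2793
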