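import Cfsg.Statements.S2794
import Cfsg.Agent.Lib.Invol.QdFusion
import Cfsg.Agent.Lib.Invol.FusionTheorem
import Cfsg.Agent.Lib.Fus.ZJTheorem
import Cfsg.Agent.Lib.Grp.QuadraticGroup
-- import your own Cfsg.Agent.* helpers here

set_option autoImplicit false
open Cfsg

namespace Cfsg.Agent.S2794

/-- For an odd prime p and a finite group G, the group Qd(p) is not involved in G if and only if in every section K/R of G, for every Sylow p-subgroup S* of K/R, the centre of J(S*) (J generated by the abelian subgroups of largest order) controls strong fusion in K/R. -/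
theorem result {G : Type*} [Group G] [Finite G] {p : ℕ} [Fact p.Prime] (hp : p ≠ 2) : ¬ Cfsg.Involves ↥(Cfsg.qd p) G ↔ ∀ (K R : Subgroup G) [hR : (R.subgroupOf K).Normal], ∀ T : Sylow p (K ⧸ R.subgroupOf K), Cfsg.ControlsStrongFusion p (Cfsg.centerThompsonAOf (T : Subgroup (K ⧸ R.subgroupOf K))) := by
  constructor
  · intro hfree K R hR T
    have h𝓦 : ∀ W ∈ ({fun Q [Group Q] => Invol.centerThompsonFunctor Q} : Set (∀ (Q : Type _) [Group Q], Subgroup Q)),
        Cfsg.IsCharPFunctor p W := by rintro _ rfl; exact Invol.isCharPFunctor_centerThompson p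
    rw [← Invol.inducedFunctor_centerThompson]
    refine Invol.controlsStrongFusion_of_fusCtrl h𝓦 rfl ?_ T
    refine Invol.fusCtrl_of_local h𝓦 ⟨_, rfl⟩ (G := G) (fun X _ _ hX hC S A h _ hhA => ?_) _
      ((Invol.IsSectionOf.of_surjective _ (QuotientGroup.mk'_surjective _)).trans (Invol.IsSectionOf.of_subgroup K))
    refine Invol.chn_step ⟨_, ⟨_, rfl, rfl⟩, ?_⟩ hhA
    have hfX : ¬ Cfsg.Involves ↥(Cfsg.qd p) X := fun h' =>
      hfree ((Invol.isSectionOf_of_involves h').trans hX).involves
    show h ∈ Subgroup.normalizer (Cfsg.inducedFunctor Invol.centerThompsonFunctor (S : Subgroup X) : Set X)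
    rw [Invol.inducedFunctor_centerThompson]
    haveI := Fus.centerThompsonA_characteristic hp hC (fun P _ hP => Grp.Quad.isPStableOn_of_free hp hfX P hP) S
    rw [Subgroup.normalizer_eq_top]
    exact Subgroup.mem_top h
  · intro hctl hinv
    obtain ⟨K, R, hR, ⟨e⟩⟩ := hinv
    obtain ⟨T⟩ : Nonempty (Sylow p (↥K ⧸ R.subgroupOf K)) := inferInstance
    have h := hctl K R T
    rw [← Invol.inducedFunctor_centerThompson] at h
    exact Invol.QdFusion.not_controlsStrongFusion e.symm T (Invol.isCharPFunctor_centerThompson p) h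

end Cfsg.Agent.S2794
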