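import Cfsg.Statements.S2804
import Cfsg.Agent.Lib.Invol.PReduced
import Cfsg.Agent.Lib.Transfer.Residual
-- import your own Cfsg.Agent.* helpers here

set_option autoImplicit false
open Cfsg

namespace Cfsg.Agent.S2804

open scoped commutatorElement

/-- Let L be a finite group and p a prime with C_L(O_p(L)) ≤ O_p(L), V a p-reduced normal subgroup of L and K a subnormal subgroup of L. Then [V, O^p(K)] is contained in K and is a p-reduced normal subgroup of K, where O^p(K) is the subgroup of K generated by its elements of order prime to p. -/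
theorem result {L : Type*} [Group L] [Finite L] {p : ℕ} [Fact p.Prime] (hchar : Subgroup.centralizer (Cfsg.pCore p L : Set L) ≤ Cfsg.pCore p L) (V : Subgroup L) (hV : Cfsg.IsPReducedNormal p V) (K : Subgroup L) (hK : K.IsSubnormal) : ⁅V, (Cfsg.pResidual p ↥K).map K.subtype⁆ ≤ K ∧ Cfsg.IsPReducedNormal p ((⁅V, (Cfsg.pResidual p ↥K).map K.subtype⁆).subgroupOf K) := by
  classical
  obtain ⟨hVn, hVe, hVC, hVbot⟩ := hV
  have hVp := Cfsg.Agent.Invol.isPGroup_of_ea hVe
  set A := (Cfsg.pResidual p ↥K).map K.subtype with hA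
  have hAK : A ≤ K := Subgroup.map_subtype_le _
  have hcop : ∀ a : L, a ∈ K → (orderOf a).Coprime p → a ∈ A := fun a ha hc =>
    ⟨⟨a, ha⟩, Subgroup.subset_closure (show (orderOf (⟨a, ha⟩ : K)).Coprime p by rwa [Subgroup.orderOf_mk]), rfl⟩
  have hgen : A = Subgroup.closure {a : L | a ∈ A ∧ (orderOf a).Coprime p} := by
    refine le_antisymm ?_ ((Subgroup.closure_le _).mpr fun a ha => ha.1)
    rw [hA, Cfsg.pResidual, MonoidHom.map_closure]
    refine Subgroup.closure_mono ?_
    rintro _ ⟨a, ha, rfl⟩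
    refine ⟨Subgroup.subset_closure ⟨a, ha, rfl⟩, ?_⟩
    show (orderOf (a : L)).Coprime p
    rw [Subgroup.orderOf_coe]
    exact ha
  have hnorm : ∀ X : Subgroup L, X ≤ Subgroup.normalizer (V : Set L) :=
    fun X => by rw [Subgroup.normalizer_eq_top]; exact le_top
  have hWW := Cfsg.Agent.Invol.commutator_eq_of_coprime_gen hVp (hnorm A) hgen
  set W := ⁅V, A⁆ with hW
  have hWV : W ≤ V := Subgroup.commutator_le_left V A
  have hWK : W ≤ K := by
    suffices h : ∀ H : Subgroup L, H.IsSubnormal → A ≤ H → W ≤ H from h K hK hAK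
    intro H hH
    induction hH with
    | top => exact fun _ => le_top
    | step H K' hle hK' hn ih =>
      intro hAH
      refine hWW.trans (Subgroup.commutator_le.mpr fun a ha b hb => ?_)
      rw [commutatorElement_def]
      have h1 : (⟨a, ih (hAH.trans hle) ha⟩ : K') * ⟨b, hle (hAH hb)⟩ * (⟨a, ih (hAH.trans hle) ha⟩ : K')⁻¹
          ∈ H.subgroupOf K' := hn.conj_mem _ (show (⟨b, hle (hAH hb)⟩ : K') ∈ H.subgroupOf K' from hAH hb) _
      exact mul_mem h1 (inv_mem (hAH hb))
  refine ⟨hWK, ?_⟩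
  have hKA : K ≤ Subgroup.normalizer (A : Set L) := by
    intro k hk
    refine Subgroup.mem_normalizer_fintype fun a ha => ?_
    obtain ⟨b, hb, rfl⟩ := ha
    have hc := Cfsg.Agent.Transfer.pResidual_characteristic p ↥K
    exact ⟨⟨k, hk⟩ * b * ⟨k, hk⟩⁻¹, (inferInstance : (Cfsg.pResidual p ↥K).Normal).conj_mem b hb _, rfl⟩
  have hKW : K ≤ Subgroup.normalizer (W : Set L) := fun k hk => Subgroup.mem_normalizer_fintype fun w hw => by
    have h1 : (MulAut.conj k).toMonoidHom w ∈ W.map (MulAut.conj k).toMonoidHom := ⟨w, hw, rfl⟩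
    rw [hW, Subgroup.map_commutator] at h1
    refine Subgroup.commutator_mono ?_ ?_ h1
    · rintro _ ⟨v, hv, rfl⟩; exact hVn.conj_mem v hv k
    · rintro _ ⟨a, ha, rfl⟩; exact (Subgroup.mem_normalizer_iff.mp (hKA hk) a).mp ha
  rw [Cfsg.Agent.Invol.pReduced_iff]
  refine ⟨(Subgroup.normal_subgroupOf_iff_le_normalizer hWK).mpr hKW, ⟨⟨⟨fun a b => ?_⟩⟩, fun a ha => ?_⟩,
    fun M hM hMp => ?_⟩
  · exact Subtype.ext (Subtype.ext (Cfsg.Agent.Invol.comm_of_ea hVe (hWV a.2) (hWV b.2)))
  · exact Subtype.ext (hVe.2 _ (hWV ha))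
  set M' := M.map K.subtype with hM'
  have hM'K : M' ≤ K := Subgroup.map_subtype_le _
  have hM'sn : M'.IsSubnormal := hM.isSubnormal.trans' hK
  have hcopV : ∀ m ∈ M', (orderOf m).Coprime p → m ∈ Subgroup.centralizer (V : Set L) := by
    rintro _ ⟨m, hm, rfl⟩ hc
    rw [Subgroup.coe_subtype, Subgroup.orderOf_coe] at hc
    obtain ⟨k, hk⟩ := hMp m hm
    obtain ⟨j, hj⟩ := exists_pow_eq_self_of_coprime (x := m) (n := p ^ k) (hc.symm.pow_left k)
    have hmW : m ∈ Subgroup.centralizer ((W.subgroupOf K : Subgroup K) : Set K) := hj ▸ pow_mem hk j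
    have h1 : ⁅V, Subgroup.zpowers (m : L)⁆ = ⊥ := by
      have hle : Subgroup.zpowers (m : L) ≤ A :=
        Subgroup.zpowers_le.mpr (hcop m m.2 (by rwa [Subgroup.orderOf_coe]))
      rw [← Cfsg.Agent.Grp.commutator_commutator_eq (Subgroup.zpowers (m : L)) V (hnorm _) (by
        obtain ⟨i, hi⟩ := hVp.exists_card_eq
        rw [Nat.card_zpowers, hi, Subgroup.orderOf_coe]
        exact hc.pow_right i) (.inl inferInstance)]
      rw [Subgroup.commutator_eq_bot_iff_le_centralizer]
      intro w hw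
      refine Subgroup.mem_centralizer_iff.mpr ?_
      have hwW : w ∈ W := Subgroup.commutator_mono le_rfl hle hw
      intro x hx
      obtain ⟨i, rfl⟩ := Subgroup.mem_zpowers_iff.mp hx
      have := congrArg Subtype.val (Subgroup.mem_centralizer_iff.mp hmW ⟨w, hWK hwW⟩ hwW)
      exact ((show Commute w (m : L) from this).zpow_right i).symm.eq
    exact Subgroup.mem_centralizer_iff.mpr fun v hv =>
      Subgroup.mem_centralizer_iff.mp (Subgroup.commutator_eq_bot_iff_le_centralizer.mp h1 hv) _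
        (Subgroup.mem_zpowers _) |>.symm
  set π := QuotientGroup.mk' (Subgroup.centralizer (V : Set L))
  have himg : M'.map π ≤ ⊥ := by
    rw [← hVbot]
    refine Cfsg.Agent.Grp.le_pCore_of_isSubnormal (hM'sn.map (QuotientGroup.mk'_surjective _)) ?_
    rintro ⟨_, m, hm, rfl⟩
    obtain ⟨j, hj⟩ := Cfsg.Agent.Invol.exists_pow_coprime (p := p) m
    refine ⟨j, Subtype.ext ?_⟩
    rw [SubgroupClass.coe_pow, Subgroup.coe_one, ← map_pow]
    exact (QuotientGroup.eq_one_iff _).mpr (hcopV _ (pow_mem hm _) hj)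
  intro m hm
  refine Subgroup.mem_centralizer_iff.mpr fun w hw => Subtype.ext ?_
  have h1 : (m : L) ∈ Subgroup.centralizer (V : Set L) :=
    (QuotientGroup.eq_one_iff _).mp (Subgroup.mem_bot.mp (himg ⟨_, ⟨m, hm, rfl⟩, rfl⟩))
  exact Subgroup.mem_centralizer_iff.mp h1 _ (hWV hw)

end Cfsg.Agent.S2804
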