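import Cfsg.Statements.S2809
import Mathlib
import Cfsg.Agent.Lib.Invol.CharP
import Cfsg.Agent.Lib.Grp.Coprime
-- import your own Cfsg.Agent.* helpers here

set_option autoImplicit false
open Cfsg

namespace Cfsg.Agent.S2809

/-- Let H be a finite group, p a prime, R a p-subgroup of H with C_H(R) ≤ R, and L a subgroup of N_H(R) acting nilpotently on R (some iterated commutator [R, L, …, L] is trivial). Then L is a p-group. -/
theorem result {H : Type*} [Group H] [Finite H] {p : ℕ} [Fact p.Prime] (R : Subgroup H) (hR : IsPGroup p ↥R) (hC : Subgroup.centralizer (R : Set H) ≤ R) (L : Subgroup H) (hL : L ≤ Subgroup.normalizer (R : Set H)) (hnil : ∃ n : ℕ, Cfsg.iterCommutator R L n = ⊥) : IsPGroup p ↥L := by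
  obtain ⟨n, hn⟩ := hnil
  refine Invol.isPGroup_of_coprime_elements fun x hx => ?_
  have hxo : (orderOf (x : H)).Coprime p := by rwa [Subgroup.orderOf_coe]
  have hle : ∀ i, Cfsg.iterCommutator R L i ≤ R := by
    intro i
    induction i with
    | zero => exact le_rfl
    | succ i ih =>
      exact (Subgroup.commutator_mono ih le_rfl).trans (Grp.commutator_le_left_of_le_normalizer hL)
  have hfix : ∀ j, j ≤ n → ∀ q ∈ Cfsg.iterCommutator R L (n - j), Commute (x : H) q := by
    intro j
    induction j with
    | zero =>
      intro _ q hq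
      rw [Nat.sub_zero, hn, Subgroup.mem_bot] at hq
      rw [hq]; exact Commute.one_right _
    | succ j ih =>
      intro hj q hq
      have hsucc : n - j = (n - (j + 1)) + 1 := by omega
      open scoped commutatorElement in
      have hz : ⁅q, (x : H)⁆ ∈ Cfsg.iterCommutator R L (n - j) := by
        rw [hsucc]; exact Subgroup.commutator_mem_commutator hq x.2
      rw [commutatorElement_def] at hz
      have hzinv := inv_mem hz
      have hzinv' : (x : H) * q * (x : H)⁻¹ * q⁻¹ ∈ Cfsg.iterCommutator R L (n - j) := by
        simpa [mul_assoc] using hzinv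
      obtain ⟨k, hk⟩ := Invol.pow_ppow_eq_one_of_mem hR (hle _ hzinv')
      exact Invol.commute_of_stabilises hxo hk (ih (by omega) _ hzinv') (by group)
  have hxC : (x : H) ∈ Subgroup.centralizer (R : Set H) :=
    Subgroup.mem_centralizer_iff.mpr fun q hq =>
      (hfix n le_rfl q (by rw [Nat.sub_self]; exact hq)).eq.symm
  exact Subtype.ext (Invol.eq_one_of_coprime_of_mem hR (hC hxC) hxo)

end Cfsg.Agent.S2809
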