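import Cfsg.Statements.S2810
import Mathlib
import Cfsg.Agent.Lib.Invol.CharP
-- import your own Cfsg.Agent.* helpers here

set_option autoImplicit false
open Cfsg

namespace Cfsg.Agent.S2810

/-- Let H be a finite group of characteristic p and L a subgroup of H centralizing every factor of some H-invariant chain 1 = A₀ ≤ A₁ ≤ … ≤ Aₙ = O_p(H) of normal subgroups (that is, [A_{i+1}, L] ≤ Aᵢ for each i). Then L ≤ O_p(H). -/
theorem result {H : Type*} [Group H] [Finite H] {p : ℕ} [Fact p.Prime] (hchar : Subgroup.centralizer (Cfsg.pCore p H : Set H) ≤ Cfsg.pCore p H) (L : Subgroup H) (n : ℕ) (A : Fin (n + 1) → Subgroup H) (h0 : A 0 = ⊥) (hn : A (Fin.last n) = Cfsg.pCore p H) (hmono : Monotone A) (hnorm : ∀ i, (A i).Normal) (hcent : ∀ i : Fin n, ⁅A i.succ, L⁆ ≤ A i.castSucc) : L ≤ Cfsg.pCore p H := by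
  -- the normal subgroup of all elements acting trivially on every factor
  let M : Subgroup H := ⨅ i : Fin n, (Subgroup.centralizer
    (((A i.succ).map (QuotientGroup.mk' (A i.castSucc) (nN := hnorm _)) : Subgroup _) : Set _)).comap
      (QuotientGroup.mk' (A i.castSucc) (nN := hnorm _))
  have hMn : M.Normal := by
    refine Subgroup.normal_iInf_normal fun i => ?_
    have := hnorm i.castSucc
    have := (hnorm i.succ).map (QuotientGroup.mk' (A i.castSucc)) (QuotientGroup.mk'_surjective _)
    infer_instance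
  have hmem : ∀ x : H, x ∈ M ↔ ∀ i : Fin n, ∀ a ∈ A i.succ, x * a * x⁻¹ * a⁻¹ ∈ A i.castSucc := by
    intro x
    simp only [M, Subgroup.mem_iInf, Subgroup.mem_comap]
    refine forall_congr' fun i => ?_
    have := hnorm i.castSucc
    rw [Subgroup.mem_centralizer_iff]
    constructor
    · intro h a ha
      have h1 := h _ ⟨a, ha, rfl⟩
      rw [← QuotientGroup.eq_one_iff]
      change QuotientGroup.mk' (A i.castSucc) (x * a * x⁻¹ * a⁻¹) = 1
      rw [map_mul, map_mul, map_mul, map_inv, map_inv, ← h1, mul_inv_cancel_right, mul_inv_cancel]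
    · rintro h _ ⟨a, ha, rfl⟩
      have h1 := (QuotientGroup.eq_one_iff _).mpr (h a ha)
      change QuotientGroup.mk' (A i.castSucc) (x * a * x⁻¹ * a⁻¹) = 1 at h1
      rw [map_mul, map_mul, map_mul, map_inv, map_inv, mul_inv_eq_one, mul_inv_eq_iff_eq_mul] at h1
      exact h1.symm
  have hLM : L ≤ M := by
    intro l hl
    rw [hmem]
    intro i a ha
    open scoped commutatorElement in
    have h1 : ⁅a, l⁆ ∈ A i.castSucc := hcent i (Subgroup.commutator_mem_commutator ha hl)
    rw [commutatorElement_def] at h1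
    simpa [mul_assoc] using inv_mem h1
  have hQ : IsPGroup p ↥(Cfsg.pCore p H) := Grp.pCore_isPGroup
  refine hLM.trans (Grp.le_pCore hMn (Invol.isPGroup_of_coprime_elements fun x hx => ?_))
  have hxo : (orderOf (x : H)).Coprime p := by rwa [Subgroup.orderOf_coe]
  have hfix : ∀ i : Fin (n + 1), ∀ q ∈ A i, Commute (x : H) q := by
    intro i
    induction i using Fin.induction with
    | zero =>
      intro q hq
      rw [h0, Subgroup.mem_bot] at hq
      rw [hq]; exact Commute.one_right _
    | succ i ih =>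
      intro q hq
      have hz := (hmem x).mp x.2 i q hq
      obtain ⟨k, hk⟩ := Invol.pow_ppow_eq_one_of_mem hQ
        (hn ▸ hmono (Fin.le_last _) hz : (x : H) * q * (x : H)⁻¹ * q⁻¹ ∈ Cfsg.pCore p H)
      exact Invol.commute_of_stabilises hxo hk (ih _ hz) (by group)
  have hxC : (x : H) ∈ Subgroup.centralizer (Cfsg.pCore p H : Set H) :=
    Subgroup.mem_centralizer_iff.mpr fun q hq => (hfix (Fin.last n) q (hn.symm ▸ hq)).eq.symm
  exact Subtype.ext (Invol.eq_one_of_coprime_of_mem hQ (hchar hxC) hxo)

end Cfsg.Agent.S2810
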