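import Cfsg.Prelude
import Cfsg.Agent.Lib.Grp.Components
import Cfsg.Agent.Lib.Grp.Coprime
import Cfsg.Agent.Lib.Grp.FpfPrime
import Cfsg.Agent.Lib.Grp.Cores
-- import your own Cfsg.Agent.* helpers here

set_option autoImplicit false
open Cfsg

open scoped Pointwise commutatorElement

namespace Cfsg.Agent.S2812

/-- Let H be a subgroup of the finite group G with O_p(H) = 1, Y a p-subgroup of G normalizing H, and L a subgroup of the generalized Fitting subgroup F*(H) that is subnormal in H and normalized by Y. Then L = [L, Y]·C_L(Y) and [L, Y] = [L, Y, Y]. -/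
theorem result {G : Type*} [Group G] [Finite G] {p : ℕ} [Fact p.Prime] (H : Subgroup G) (hO : Cfsg.pCore p ↥H = ⊥) (Y : Subgroup G) (hY : IsPGroup p ↥Y) (hYH : Y ≤ Subgroup.normalizer (H : Set G)) (L : Subgroup G) (hLF : L ≤ (Cfsg.generalizedFittingSubgroup ↥H).map H.subtype) (hLsn : (L.subgroupOf H).IsSubnormal) (hYL : Y ≤ Subgroup.normalizer (L : Set G)) : ⁅L, Y⁆ ⊔ (L ⊓ Subgroup.centralizer (Y : Set G)) = L ∧ ⁅L, Y⁆ = ⁅⁅L, Y⁆, Y⁆ := by
  classical
  have hLH : L ≤ H := hLF.trans (Subgroup.map_subtype_le _)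
  set S := L.subgroupOf H with hS
  have hSmap : S.map H.subtype = L := Subgroup.map_subgroupOf_eq_of_le hLH
  have hinjH : Function.Injective H.subtype := Subgroup.subtype_injective H
  have hSle : S ≤ Cfsg.generalizedFittingSubgroup ↥H := fun x hx => by
    obtain ⟨y, hy, e⟩ := hLF hx
    rwa [← hinjH e]
  have hdec := Grp.subnormal_le_gfitting hLsn hSle
  rw [Grp.fitting_inf_subnormal hLsn, Grp.layerIn_eq hLsn] at hdec
  set F := (Cfsg.fittingSubgroup ↥H).map H.subtype ⊓ L with hF
  set W := ⁅L, Y⁆ with hW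
  set W' := ⁅W, Y⁆ with hW'
  set C := L ⊓ Subgroup.centralizer (Y : Set G) with hC
  have hWL : W ≤ L := Grp.commutator_le_left_of_le_normalizer hYL
  have hYW : Y ≤ Subgroup.normalizer (W : Set G) := Grp.right_le_normalizer_commutator Y L
  have hW'W : W' ≤ W := Grp.commutator_le_left_of_le_normalizer hYW
  have hWn : W ≤ Subgroup.normalizer (W' : Set G) := Grp.left_le_normalizer_commutator Y W
  have hLW : L ≤ Subgroup.normalizer (W : Set G) := Grp.left_le_normalizer_commutator Y L
  -- `F(H)` is a `p'`-group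
  have hFn := Grp.fittingSubgroup_isNormal (G := ↥H)
  have hFp : ¬ p ∣ Nat.card ↥(Cfsg.fittingSubgroup ↥H) := by
    intro hdvd
    obtain ⟨P⟩ : Nonempty (Sylow p ↥(Cfsg.fittingSubgroup ↥H)) := inferInstance
    haveI := Grp.fittingSubgroup_isNilpotent (G := ↥H)
    have hPn : (P : Subgroup ↥(Cfsg.fittingSubgroup ↥H)).Normal :=
      P.normal_of_normalizerCondition normalizerCondition_of_isNilpotent
    have h1 := (Subgroup.map_mono (f := (Cfsg.fittingSubgroup ↥H).subtype)
      (Grp.le_pCore hPn P.isPGroup')).trans (Grp.pCore_map_le _)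
    rw [hO, le_bot_iff, Subgroup.map_eq_bot_iff_of_injective _ (Subgroup.subtype_injective _)] at h1
    exact P.ne_bot_of_dvd_card hdvd h1
  have hFcop : (Nat.card ↥Y).Coprime (Nat.card ↥F) := by
    obtain ⟨n, hn⟩ := IsPGroup.iff_card.mp hY
    rw [hn]
    refine Nat.Coprime.pow_left _ ((Nat.Prime.coprime_iff_not_dvd Fact.out).mpr fun h => hFp ?_)
    rw [← Subgroup.card_map_of_injective hinjH]
    exact h.trans (Subgroup.card_dvd_of_le inf_le_left)
  have hYF : Y ≤ Subgroup.normalizer (F : Set G) := fun y hy => by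
    rw [Grp.mem_normalizer_iff_smul, hF, Subgroup.smul_inf, Grp.normalizer_le_smul hYL hy,
      ← Grp.map_conj_eq_smul, Grp.map_char_eq (hYH hy) (Cfsg.fittingSubgroup ↥H)]
  have hsolv : Group.IsSolvable ↥Y :=
    @IsNilpotent.to_isSolvable _ _ hY.isNilpotent
  have hFle : F ≤ W' ⊔ C := by
    refine (Grp.commutator_sup_fixed Y F hYF hFcop (Or.inl hsolv)).ge.trans
      (sup_le ?_ (le_trans (inf_le_inf_right _ inf_le_right) le_sup_right))
    rw [← Grp.commutator_commutator_eq Y F hYF hFcop (Or.inl hsolv)]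
    exact le_trans (Subgroup.commutator_mono (Subgroup.commutator_mono inf_le_right le_rfl) le_rfl)
      le_sup_left
  -- components
  have key : ∀ K : Subgroup ↥H, Cfsg.IsComponent K → K ≤ S →
      K.map H.subtype ≤ W' ⊔ C := by
    intro K hK hKS
    set K' := K.map H.subtype with hK'
    have hKL : K' ≤ L := hSmap ▸ Subgroup.map_mono hKS
    have hperf : ⁅K', K'⁆ = K' := by rw [hK', ← Subgroup.map_commutator, Grp.IsComponent.perfect hK]
    by_cases hnorm : Y ≤ Subgroup.normalizer (K' : Set G)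
    · set D := ⁅K', Y⁆ with hD
      have hDK : D ≤ K' := Grp.commutator_le_left_of_le_normalizer hnorm
      by_cases hDK' : D = K'
      · refine le_trans ?_ le_sup_left
        calc K' = ⁅⁅K', Y⁆, Y⁆ := by rw [← hD, hDK', ← hD, hDK']
          _ ≤ W' := Subgroup.commutator_mono (Subgroup.commutator_mono hKL le_rfl) le_rfl
      · refine le_trans ?_ le_sup_right
        refine le_inf hKL ?_
        haveI hq : Cfsg.IsQuasisimple ↥K' :=
          (Grp.isQuasisimple_map_iff hinjH _).mpr hK.2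
        haveI hDn : (D.subgroupOf K').Normal :=
          (Subgroup.normal_subgroupOf_iff_le_normalizer hDK).mpr (Grp.left_le_normalizer_commutator Y K')
        have hcen : D.subgroupOf K' ≤ Subgroup.center ↥K' := by
          rcases Grp.IsQuasisimple.eq_top_or_le_center hq (D.subgroupOf K') with h | h
          · exact absurd (le_antisymm hDK (Subgroup.subgroupOf_eq_top.mp h)) hDK'
          · exact h
        have h1 : ⁅⁅K', Y⁆, K'⁆ = ⊥ := by
          rw [Subgroup.commutator_eq_bot_iff_le_centralizer]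
          intro d hd
          refine Subgroup.mem_centralizer_iff.mpr fun k hk => ?_
          exact congrArg Subtype.val
            (Subgroup.mem_center_iff.mp (hcen (x := ⟨d, hDK hd⟩) hd) ⟨k, hk⟩)
        have h2 : ⁅⁅Y, K'⁆, K'⁆ = ⊥ := by rwa [Subgroup.commutator_comm Y K']
        have h3 := Subgroup.commutator_commutator_eq_bot_of_rotate h1 h2
        rw [hperf, Subgroup.commutator_eq_bot_iff_le_centralizer] at h3
        exact h3
    · obtain ⟨y, hy, hyK⟩ := SetLike.not_le_iff_exists.mp hnorm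
      refine le_trans ?_ le_sup_left
      -- the moved component commutes with `K'`
      have hyH := hYH hy
      set φ := H.normalizerMonoidHom ⟨y, hyH⟩ with hφ
      have hφK : (K.map φ.toMonoidHom).map H.subtype = MulAut.conj y • K' := by
        rw [← Grp.map_conj_eq_smul, hK', Subgroup.map_map, Subgroup.map_map]
        rfl
      have hne : K.map φ.toMonoidHom ≠ K := fun h => hyK (Grp.mem_normalizer_iff_smul.mpr (by
        rw [← hφK, h]))
      have hcomm : ∀ a ∈ MulAut.conj y • K', ∀ b ∈ K', a * b = b * a := by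
        rw [← hφK]
        rintro _ ⟨a, ha, rfl⟩ _ ⟨b, hb, rfl⟩
        have h0 := Grp.IsComponent.commute (Grp.IsComponent.map_iso φ hK) hK hne
        rw [← map_mul, ← map_mul]
        congr 1
        exact (Subgroup.mem_centralizer_iff.mp (h0 ha) b hb).symm
      -- pushing down
      have push : ∀ X : Subgroup G, K' ≤ Subgroup.normalizer ((⁅X, Y⁆ : Subgroup G) : Set G) →
          K' ≤ X → K' ≤ ⁅X, Y⁆ := by
        intro X hn hX
        rw [← hperf, Subgroup.commutator_le]
        intro k hk k' hk'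
        have h1 : ⁅k, y⁆ ∈ ⁅X, Y⁆ := Subgroup.commutator_mem_commutator (hX hk) hy
        have h2 : k' * ⁅k, y⁆⁻¹ * k'⁻¹ ∈ ⁅X, Y⁆ :=
          (Subgroup.mem_normalizer_iff.mp (hn hk') _).mp (inv_mem h1)
        have h3 : ⁅⁅k, y⁆, k'⁆ ∈ ⁅X, Y⁆ := by
          simpa [commutatorElement_def, mul_assoc] using Subgroup.mul_mem _ h1 h2
        have e : y * k⁻¹ * y⁻¹ * k' = k' * (y * k⁻¹ * y⁻¹) := by
          refine hcomm _ ?_ _ hk'
          rw [← Grp.map_conj_eq_smul]
          exact ⟨k⁻¹, K'.inv_mem hk, rfl⟩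
        convert h3 using 1
        simp only [commutatorElement_def]
        symm
        calc k * y * k⁻¹ * y⁻¹ * k' * (k * y * k⁻¹ * y⁻¹)⁻¹ * k'⁻¹
            = k * (y * k⁻¹ * y⁻¹ * k') * (y * k⁻¹ * y⁻¹)⁻¹ * k⁻¹ * k'⁻¹ := by group
          _ = k * (k' * (y * k⁻¹ * y⁻¹)) * (y * k⁻¹ * y⁻¹)⁻¹ * k⁻¹ * k'⁻¹ := by rw [e]
          _ = k * k' * k⁻¹ * k'⁻¹ := by group
      have hKW : K' ≤ W := push L (hKL.trans hLW) hKL
      exact push W (hKW.trans hWn) hKW
  have htot : L ≤ W' ⊔ C := by
    rw [← hSmap, hdec, Subgroup.map_sup]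
    refine sup_le (le_trans ?_ hFle) ?_
    · rw [hF]
      refine le_inf (Subgroup.map_mono inf_le_left) ?_
      exact (Subgroup.map_mono inf_le_right).trans hSmap.le
    · rw [Subgroup.map_le_iff_le_comap]
      refine sSup_le fun K hK => ?_
      rw [← Subgroup.map_le_iff_le_comap]
      exact key K hK.1 hK.2
  have hCn : C ≤ Subgroup.normalizer (W' : Set G) := fun c hc => by
    rw [Grp.mem_normalizer_iff_smul, hW', ← Grp.map_conj_eq_smul, Subgroup.map_commutator,
      Grp.map_conj_eq_smul, Grp.map_conj_eq_smul,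
      Grp.mem_normalizer_iff_smul.mp (hLW hc.1),
      Grp.mem_normalizer_iff_smul.mp (Subgroup.centralizer_le_normalizer _ hc.2)]
  refine ⟨le_antisymm (sup_le hWL inf_le_left) (htot.trans (sup_le_sup_right hW'W _)), ?_⟩
  refine le_antisymm ?_ hW'W
  rw [hW, Subgroup.commutator_le]
  intro x hx y hy
  have hx' : x ∈ ((C ⊔ W' : Subgroup G) : Set G) := by rw [sup_comm]; exact htot hx
  rw [Subgroup.coe_mul_of_left_le_normalizer_right _ _ hCn] at hx'
  obtain ⟨c, hc, m, hm, rfl⟩ := hx'
  have e : ⁅c * m, y⁆ = c * ⁅m, y⁆ * c⁻¹ := by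
    rw [commutatorElement_mul_left_eq_conj_mul,
      commutatorElement_eq_one_iff_mul_comm.mpr (Subgroup.mem_centralizer_iff.mp hc.2 y hy).symm]
    simp
  rw [e]
  exact (Subgroup.mem_normalizer_iff.mp (hCn hc) _).mp
    (Subgroup.commutator_mem_commutator (hW'W hm) hy)

end Cfsg.Agent.S2812
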