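import Cfsg.Statements.S2813
import Mathlib
import Cfsg.Agent.Lib.Invol.CharP
import Cfsg.Agent.Lib.Grp.Coprime
-- import your own Cfsg.Agent.* helpers here

set_option autoImplicit false
open Cfsg

namespace Cfsg.Agent.S2813

/-- Let K be a subgroup of the finite group H with O_p(K) = 1 and Y a p-subgroup of N_H(K) with [K, Y, Y] = 1. Then [K, Y] = 1. -/
theorem result {H : Type*} [Group H] [Finite H] {p : ℕ} [Fact p.Prime] (K : Subgroup H) (hO : Cfsg.pCore p ↥K = ⊥) (Y : Subgroup H) (hY : IsPGroup p ↥Y) (hYK : Y ≤ Subgroup.normalizer (K : Set H)) (hq : ⁅⁅K, Y⁆, Y⁆ = ⊥) : ⁅K, Y⁆ = ⊥ := by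
  set D := ⁅K, Y⁆ with hD
  have hDK : D ≤ K := Grp.commutator_le_left_of_le_normalizer hYK
  have hKD : K ≤ Subgroup.normalizer (D : Set H) := Grp.left_le_normalizer_commutator Y K
  have hDY : ∀ d ∈ D, ∀ y ∈ Y, d * y = y * d := by
    intro d hd y hy
    have := Subgroup.commutator_mem_commutator hd hy
    rwa [hq, Subgroup.mem_bot, commutatorElement_eq_one_iff_mul_comm] at this
  open scoped commutatorElement in
  have hgen : ∀ k ∈ K, ∀ y ∈ Y, (∃ i, ⁅k, y⁆ ^ p ^ i = 1) ∧ ∀ d ∈ D, Commute d ⁅k, y⁆ := by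
    intro k hk y hy
    set c := ⁅k, y⁆ with hc
    have hcD : c ∈ D := Subgroup.commutator_mem_commutator hk hy
    have hcy : k * y * k⁻¹ = c * y := by rw [hc, commutatorElement_def]; group
    constructor
    · obtain ⟨i, hi⟩ := Invol.pow_ppow_eq_one_of_mem hY hy
      refine ⟨i, ?_⟩
      have h1 : (c * y) ^ p ^ i = 1 := by rw [← hcy, conj_pow, hi]; group
      rwa [(show Commute c y from hDY c hcD y hy).mul_pow, hi, mul_one] at h1
    · intro d hd
      have hd' : k⁻¹ * d * k ∈ D := Grp.mem_conj_normalizer' (hKD hk) hd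
      have h1 : Commute d (c * y) := by
        rw [← hcy]
        have h2 := hDY _ hd' y hy
        calc d * (k * y * k⁻¹) = k * (k⁻¹ * d * k * y) * k⁻¹ := by group
          _ = k * (y * (k⁻¹ * d * k)) * k⁻¹ := by rw [h2]
          _ = k * y * k⁻¹ * d := by group
      have h3 := h1.mul_right (show Commute d y from hDY d hd y hy).inv_right
      rwa [mul_inv_cancel_right] at h3
  have hDab : ∀ d ∈ D, ∀ e ∈ D, Commute d e := by
    intro d hd e he
    refine Subgroup.closure_induction (p := fun e _ => Commute d e) ?_ (Commute.one_right d)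
      (fun a b _ _ ha hb => ha.mul_right hb) (fun a _ ha => ha.inv_right) he
    rintro _ ⟨k, hk, y, hy, rfl⟩
    exact (hgen k hk y hy).2 d hd
  have hDp : IsPGroup p D := by
    intro ⟨d, hd⟩
    suffices ∃ i, d ^ p ^ i = 1 by obtain ⟨i, hi⟩ := this; exact ⟨i, Subtype.ext hi⟩
    refine Subgroup.closure_induction (p := fun e _ => ∃ i, e ^ p ^ i = 1) ?_ ⟨0, one_pow _⟩ ?_ ?_ hd
    · rintro _ ⟨k, hk, y, hy, rfl⟩
      exact (hgen k hk y hy).1
    · rintro a b ha hb ⟨i, hi⟩ ⟨j, hj⟩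
      refine ⟨i + j, ?_⟩
      have hab : Commute a b := hDab a ha b hb
      rw [hab.mul_pow]
      nth_rewrite 1 [pow_add]
      rw [pow_mul, hi, one_pow, one_mul, pow_add, mul_comm, pow_mul, hj, one_pow]
    · rintro a _ ⟨i, hi⟩
      exact ⟨i, by rw [inv_pow, hi, inv_one]⟩
  have h1 : D.subgroupOf K ≤ Cfsg.pCore p ↥K :=
    Grp.le_pCore ((Subgroup.normal_subgroupOf_iff_le_normalizer hDK).mpr hKD) hDp.comap_subtype
  rw [hO, le_bot_iff, Subgroup.subgroupOf_eq_bot] at h1
  exact le_bot_iff.mp (fun d hd => h1.le_bot ⟨hd, hDK hd⟩)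

end Cfsg.Agent.S2813
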