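import Cfsg.Statements.S2814
import Cfsg.Agent.Lib.Invol.LargeSubgroup
import Cfsg.Agent.Lib.Invol.PResidual
import Cfsg.Agent.Lib.Grp.Baer
-- import your own Cfsg.Agent.* helpers here

set_option autoImplicit false
open Cfsg

namespace Cfsg.Agent.S2814

open scoped commutatorElement

/-- Let A be a subgroup of the finite group H and K the subnormal closure of A (intersection of the subnormal subgroups containing A). Then K is the normal closure of A inside K and N_H(A) ≤ N_H(K); K = A·O^p(K), O^p(K) being generated by the elements of K of order prime to p; and if A is a p-group, O^p(K) = [O^p(K), A]. -/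
theorem result {H : Type*} [Group H] [Finite H] {p : ℕ} [Fact p.Prime] (A : Subgroup H) (K : Subgroup H) (hK : K = Cfsg.subnormalClosure A) : (Subgroup.normalClosure ((A.subgroupOf K : Subgroup ↥K) : Set ↥K)).map K.subtype = K ∧ Subgroup.normalizer (A : Set H) ≤ Subgroup.normalizer (K : Set H) ∧ A ⊔ (Cfsg.pResidual p ↥K).map K.subtype = K ∧ (IsPGroup p ↥A → ⁅(Cfsg.pResidual p ↥K).map K.subtype, A⁆ = (Cfsg.pResidual p ↥K).map K.subtype) := by
  classical
  have hKsn : K.IsSubnormal := by
    rw [hK, Cfsg.subnormalClosure]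
    have : ∀ s : Set (Subgroup H), s.Finite → (∀ S ∈ s, S.IsSubnormal) → (sInf s).IsSubnormal := by
      intro s hs
      induction s, hs using Set.Finite.induction_on with
      | empty => intro _; rw [sInf_empty]; exact Subgroup.IsSubnormal.top
      | @insert a t _ _ ih =>
        intro h
        rw [sInf_insert]
        exact (h a (Set.mem_insert a t)).inf (ih fun S hS => h S (Set.mem_insert_of_mem a hS))
    exact this _ (Set.toFinite _) fun S hS => hS.2
  have hAK : A ≤ K := hK ▸ le_sInf fun S hS => hS.1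
  set A' := A.subgroupOf K with hA'
  have hsn : ∀ S : Subgroup ↥K, S.IsSubnormal → A' ≤ S → S = ⊤ := by
    intro S hS hAS
    have h1 : K ≤ S.map K.subtype := by
      conv_lhs => rw [hK]
      refine sInf_le (show S.map K.subtype ∈ {X : Subgroup H | A ≤ X ∧ X.IsSubnormal} from ⟨?_, hS.trans' hKsn⟩)
      rw [← Subgroup.map_subgroupOf_eq_of_le hAK]
      exact Subgroup.map_mono hAS
    rw [eq_top_iff]
    intro x _
    obtain ⟨y, hy, hyx⟩ := h1 x.2
    rwa [← Subtype.ext hyx]
  set R := Cfsg.pResidual p ↥K with hR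
  haveI hRn : R.Normal := inferInstance
  haveI hq : IsPGroup p (↥K ⧸ R) → Group.IsNilpotent (↥K ⧸ R) := fun h => h.isNilpotent
  refine ⟨?_, fun g hg => ?_, ?_, fun hAp => ?_⟩
  · rw [hsn _ (Subgroup.Normal.isSubnormal Subgroup.normalClosure_normal) Subgroup.le_normalClosure,
      ← MonoidHom.range_eq_map, Subgroup.range_subtype]
  · have h1 : K ≤ K.map (MulAut.conj g).toMonoidHom := by
      conv_lhs => rw [hK]
      refine sInf_le (show K.map (MulAut.conj g).toMonoidHom ∈ {X : Subgroup H | A ≤ X ∧ X.IsSubnormal} from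
        ⟨?_, hKsn.map (MulAut.conj g).surjective⟩)
      exact (Cfsg.Agent.Invol.wc_map_conj_eq_iff.mpr hg).ge.trans (Subgroup.map_mono hAK)
    exact Cfsg.Agent.Invol.wc_map_conj_eq_iff.mp
      (Subgroup.eq_of_le_of_card_ge h1 (Subgroup.card_map_of_injective (MulAut.conj g).injective).le).symm
  · haveI := (Cfsg.Agent.Invol.isPGroup_quotient_pResidual (p := p) (G := ↥K)).isNilpotent
    have h : A' ⊔ R = ⊤ := by
      refine hsn _ ?_ le_sup_left
      have h2 := (Cfsg.Agent.Grp.isSubnormal_of_nilpotent (A'.map (QuotientGroup.mk' R))).comap (QuotientGroup.mk' R)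
      rwa [Subgroup.comap_map_eq, QuotientGroup.ker_mk'] at h2
    have h3 := congrArg (Subgroup.map K.subtype) h
    rwa [Subgroup.map_sup, hA', Subgroup.map_subgroupOf_eq_of_le hAK, ← MonoidHom.range_eq_map, Subgroup.range_subtype] at h3
  · haveI := (Cfsg.Agent.Invol.isPGroup_quotient_pResidual (p := p) (G := ↥K)).isNilpotent
    have htop : A' ⊔ R = ⊤ := by
      refine hsn _ ?_ le_sup_left
      have h2 := (Cfsg.Agent.Grp.isSubnormal_of_nilpotent (A'.map (QuotientGroup.mk' R))).comap (QuotientGroup.mk' R)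
      rwa [Subgroup.comap_map_eq, QuotientGroup.ker_mk'] at h2
    set D := ⁅R, A'⁆ with hD
    have hRD : R ≤ Subgroup.normalizer (D : Set ↥K) := by
      intro x hx
      rw [← Cfsg.Agent.Invol.wc_map_conj_eq_iff]
      refine Subgroup.eq_of_le_of_card_ge ?_ (Subgroup.card_map_of_injective (MulAut.conj x).injective).ge
      rw [Subgroup.map_le_iff_le_comap, hD, Subgroup.commutator_le]
      intro r hr a ha
      show x * ⁅r, a⁆ * x⁻¹ ∈ D
      rw [show x * ⁅r, a⁆ * x⁻¹ = ⁅x * r, a⁆ * (⁅x, a⁆)⁻¹ by simp only [commutatorElement_def]; group]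
      exact D.mul_mem (Subgroup.commutator_mem_commutator (R.mul_mem hx hr) ha)
        (D.inv_mem (Subgroup.commutator_mem_commutator hx ha))
    have hAD : A' ≤ Subgroup.normalizer (D : Set ↥K) := fun a ha => by
      rw [← Cfsg.Agent.Invol.wc_map_conj_eq_iff, hD, Subgroup.map_commutator,
        Cfsg.Agent.Invol.wc_map_conj_eq_iff.mpr (by rw [Subgroup.normalizer_eq_top]; trivial : a ∈ Subgroup.normalizer (R : Set ↥K)),
        Cfsg.Agent.Invol.wc_map_conj_eq_iff.mpr (Subgroup.le_normalizer ha)]
    haveI hDn : D.Normal := Subgroup.normalizer_eq_top_iff.mp (eq_top_iff.mpr (htop.ge.trans (sup_le hAD hRD)))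
    have hRA : R ≤ Subgroup.normalizer ((A' ⊔ D : Subgroup ↥K) : Set ↥K) := by
      intro x hx
      rw [← Cfsg.Agent.Invol.wc_map_conj_eq_iff]
      refine Subgroup.eq_of_le_of_card_ge ?_ (Subgroup.card_map_of_injective (MulAut.conj x).injective).ge
      rw [Subgroup.map_sup]
      refine sup_le ?_ ((Cfsg.Agent.Invol.wc_map_conj_eq_iff.mpr (hRD hx)).le.trans le_sup_right)
      rintro _ ⟨a, ha, rfl⟩
      show x * a * x⁻¹ ∈ A' ⊔ D
      rw [show x * a * x⁻¹ = ⁅x, a⁆ * a by simp only [commutatorElement_def]; group]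
      exact Subgroup.mul_mem _ (Subgroup.mem_sup_right (Subgroup.commutator_mem_commutator hx ha)) (Subgroup.mem_sup_left ha)
    have hfull : A' ⊔ D = ⊤ := by
      refine hsn _ ?_ le_sup_left
      refine Subgroup.Normal.isSubnormal (Subgroup.normalizer_eq_top_iff.mp (eq_top_iff.mpr (htop.ge.trans
        (sup_le (le_sup_left.trans Subgroup.le_normalizer) hRA))))
    have hRle : R ≤ D := by
      refine Cfsg.Agent.Invol.pResidual_le_of_isPGroup_quotient ?_
      intro x
      have hx : x ∈ (A' ⊔ D).map (QuotientGroup.mk' D) := by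
        rw [hfull, Subgroup.map_top_of_surjective _ (QuotientGroup.mk'_surjective D)]
        trivial
      rw [Subgroup.map_sup, (Subgroup.map_eq_bot_iff D).mpr (by rw [QuotientGroup.ker_mk']), sup_bot_eq] at hx
      obtain ⟨a, ha, rfl⟩ := hx
      obtain ⟨k, hk⟩ := hAp ⟨(a : H), ha⟩
      refine ⟨k, ?_⟩
      rw [← map_pow]
      exact (QuotientGroup.eq_one_iff _).mpr (by
        rw [show a ^ p ^ k = 1 from Subtype.ext (by simpa using congrArg Subtype.val hk)]
        exact D.one_mem)
    have hle : D ≤ R := Subgroup.commutator_le_left R A'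
    have h3 := congrArg (Subgroup.map K.subtype) (le_antisymm hle hRle)
    rwa [hD, Subgroup.map_commutator, hA', Subgroup.map_subgroupOf_eq_of_le hAK] at h3

end Cfsg.Agent.S2814
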