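import Cfsg.Prelude
import Cfsg.Agent.Lib.Grp.Components
import Cfsg.Agent.Lib.Grp.MinimalPClosed
import Cfsg.Agent.Lib.Invol.PResidual
-- import your own Cfsg.Agent.* helpers here

set_option autoImplicit false
open Cfsg

open scoped commutatorElement

namespace Cfsg.Agent.S2815

/-- Let H be a finite group and p a prime dividing its order with O_p(H) = 1, and suppose K = O^p(H) (generated by the elements of order prime to p) is quasisimple. Then K = F*(H); for every nontrivial p-subgroup Y of H, K = [K, Y] and K lies in the subgroup generated by the K-conjugates of Y; every normal subgroup of H not containing K has order prime to p; and H is p-irreducible. -/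
theorem result {H : Type*} [Group H] [Finite H] {p : ℕ} [Fact p.Prime] (hp : p ∣ Nat.card H) (hO : Cfsg.pCore p H = ⊥) (hq : Cfsg.IsQuasisimple ↥(Cfsg.pResidual p H)) : Cfsg.pResidual p H = Cfsg.generalizedFittingSubgroup H ∧ (∀ Y : Subgroup H, IsPGroup p ↥Y → Y ≠ ⊥ → ⁅Cfsg.pResidual p H, Y⁆ = Cfsg.pResidual p H ∧ Cfsg.pResidual p H ≤ ⨆ k : ↥(Cfsg.pResidual p H), Y.map (MulAut.conj (k : H)).toMonoidHom) ∧ (∀ C : Subgroup H, C.Normal → ¬ Cfsg.pResidual p H ≤ C → (Nat.card ↥C).Coprime p) ∧ Cfsg.IsPIrreducible p H := by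
  classical
  set E := Cfsg.pResidual p H with hE
  have hEn : E.Normal := inferInstance
  have hEc : Cfsg.IsComponent E := ⟨hEn.isSubnormal, hq⟩
  have hFn := Grp.fittingSubgroup_isNormal (G := H)
  haveI := Grp.fittingSubgroup_isNilpotent (G := H)
  have hpdvd : ∀ {N : Subgroup H}, N.Normal → IsPGroup p ↥N → N = ⊥ := fun hN hNp =>
    le_bot_iff.mp (hO ▸ Grp.le_pCore hN hNp)
  have hFp : (Nat.card ↥(Cfsg.fittingSubgroup H)).Coprime p := by
    refine ((Nat.Prime.coprime_iff_not_dvd Fact.out).mpr fun hd => ?_).symm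
    obtain ⟨P⟩ : Nonempty (Sylow p ↥(Cfsg.fittingSubgroup H)) := inferInstance
    have hPc := Sylow.characteristic_of_normal P
      (P.normal_of_normalizerCondition Group.normalizerCondition_of_isNilpotent)
    have h := hpdvd (ConjAct.normal_of_characteristic_of_normal (H := Cfsg.fittingSubgroup H))
      (P.isPGroup'.map (Cfsg.fittingSubgroup H).subtype)
    rw [Subgroup.map_eq_bot_iff_of_injective _ (Subgroup.subtype_injective _)] at h
    exact P.ne_bot_of_dvd_card hd h
  have hFE : Cfsg.fittingSubgroup H ≤ E := fun x hx => Invol.mem_pResidual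
    (hFp.coprime_dvd_left (Subgroup.orderOf_dvd_natCard _ hx))
  have hlayer : Cfsg.layer H = E := by
    refine le_antisymm (sSup_le fun K hK => ?_) (Grp.IsComponent.le_layer hEc)
    by_cases hKE : K = E
    · exact hKE.le
    have h1 : ∀ x ∈ K, x ∈ E := fun x hx => by
      have hperf := Grp.IsComponent.perfect hK
      rw [← hperf] at hx
      refine (?_ : ⁅K, K⁆ ≤ E) hx
      have h2 : K.map (QuotientGroup.mk' E) = ⊥ := by
        haveI : Group.IsNilpotent (H ⧸ E) := Invol.isPGroup_quotient_pResidual.isNilpotent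
        refine Grp.eq_bot_of_perfect_of_solvable (by rw [← Subgroup.map_commutator, hperf]) inferInstance
      rw [Subgroup.map_eq_bot_iff, QuotientGroup.ker_mk'] at h2
      exact (Subgroup.commutator_le_self K).trans h2
    exact h1
  have hF : E = Cfsg.generalizedFittingSubgroup H := by
    rw [Cfsg.generalizedFittingSubgroup, hlayer, sup_eq_left.mpr hFE]
  have hYE : ∀ Y : Subgroup H, IsPGroup p ↥Y → Y ≠ ⊥ → ⁅E, Y⁆ = E := by
    intro Y hY hY1
    have hle : ⁅E, Y⁆ ≤ E := Grp.commutator_le_left_of_le_normalizer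
      (by rw [Subgroup.normalizer_eq_top E]; exact le_top)
    haveI hn : ((⁅E, Y⁆ : Subgroup H).subgroupOf E).Normal :=
      (Subgroup.normal_subgroupOf_iff_le_normalizer hle).mpr (Grp.left_le_normalizer_commutator Y E)
    rcases Grp.IsQuasisimple.eq_top_or_le_center hq ((⁅E, Y⁆ : Subgroup H).subgroupOf E) with h | h
    · exact le_antisymm hle (Subgroup.subgroupOf_eq_top.mp h)
    exfalso
    have h1 : ⁅⁅E, Y⁆, E⁆ = ⊥ := by
      rw [Subgroup.commutator_eq_bot_iff_le_centralizer]
      intro d hd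
      refine Subgroup.mem_centralizer_iff.mpr fun k hk => ?_
      exact congrArg Subtype.val (Subgroup.mem_center_iff.mp (h (x := ⟨d, hle hd⟩) hd) ⟨k, hk⟩)
    have h2 : ⁅⁅Y, E⁆, E⁆ = ⊥ := by rwa [Subgroup.commutator_comm Y E]
    have h3 := Subgroup.commutator_commutator_eq_bot_of_rotate h1 h2
    rw [Grp.IsComponent.perfect hEc, Subgroup.commutator_comm,
      Subgroup.commutator_eq_bot_iff_le_centralizer] at h3
    have h4 : Y ≤ Cfsg.fittingSubgroup H := by
      refine le_trans ?_ Grp.centralizer_gfitting_le_fitting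
      rwa [← hF]
    obtain ⟨n, hn⟩ := IsPGroup.iff_card.mp hY
    refine hY1 (Subgroup.card_eq_one.mp (Nat.eq_one_of_dvd_coprimes (Nat.Coprime.pow_right n hFp)
      (Subgroup.card_dvd_of_le h4) hn.dvd))
  have hC : ∀ C : Subgroup H, C.Normal → ¬ E ≤ C → (Nat.card ↥C).Coprime p := by
    intro C hC hEC
    refine ((Nat.Prime.coprime_iff_not_dvd Fact.out).mpr fun hd => ?_).symm
    obtain ⟨P⟩ : Nonempty (Sylow p ↥C) := inferInstance
    refine hEC ((hYE _ (P.isPGroup'.map C.subtype) ?_).ge.trans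
      ((Subgroup.commutator_mono le_rfl (Subgroup.map_subtype_le _)).trans (Subgroup.commutator_le_right E C)))
    rw [Ne, Subgroup.map_eq_bot_iff_of_injective _ (Subgroup.subtype_injective _)]
    exact P.ne_bot_of_dvd_card hd
  refine ⟨hF, fun Y hY hY1 => ⟨hYE Y hY hY1, ?_⟩, hC, fun hcl => ?_, fun N hN hncl => by_contra fun hle => ?_⟩
  · nth_rewrite 1 [← hYE Y hY hY1]
    rw [Subgroup.commutator_le]
    intro k hk y hy
    set W := ⨆ k : ↥E, Y.map (MulAut.conj (k : H)).toMonoidHom
    have h1 : k * y * k⁻¹ ∈ W := le_iSup (fun k : ↥E => Y.map (MulAut.conj (k : H)).toMonoidHom) ⟨k, hk⟩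
      ⟨y, hy, rfl⟩
    have h2 : y⁻¹ ∈ W := le_iSup (fun k : ↥E => Y.map (MulAut.conj (k : H)).toMonoidHom) 1
      ⟨y⁻¹, Y.inv_mem hy, by simp⟩
    simpa [commutatorElement_def] using W.mul_mem h1 h2
  · obtain ⟨P⟩ : Nonempty (Sylow p H) := inferInstance
    exact P.ne_bot_of_dvd_card hp (hpdvd (hcl P) P.isPGroup')
  · refine hncl (Grp.MinPClosed.isPClosed_of_not_dvd ?_)
    exact (Nat.Prime.coprime_iff_not_dvd Fact.out).mp (hC N hN hle).symm

end Cfsg.Agent.S2815
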