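import Cfsg.Prelude
import Cfsg.Agent.Lib.Grp.Components
import Cfsg.Agent.S2812
-- import your own Cfsg.Agent.* helpers here

set_option autoImplicit false
open Cfsg

namespace Cfsg.Agent.S2816

/-- Let H be a finite group and p a prime with O_p(H) = 1, and Y a p-subgroup of H. Then for every subnormal subgroup K of H containing Y, [F*(H), Y] = [F*(K), Y] = [F*(K), Y, Y]; and if Y₀ ≤ Y with [F*(H), Y, Y₀] = 1 then Y₀ = 1 (in particular [F*(H), Y] = 1 forces Y = 1). -/
theorem result {H : Type*} [Group H] [Finite H] {p : ℕ} [Fact p.Prime] (hO : Cfsg.pCore p H = ⊥) (Y : Subgroup H) (hY : IsPGroup p ↥Y) : (∀ K : Subgroup H, K.IsSubnormal → Y ≤ K → ⁅Cfsg.generalizedFittingSubgroup H, Y⁆ = ⁅(Cfsg.generalizedFittingSubgroup ↥K).map K.subtype, Y⁆ ∧ ⁅(Cfsg.generalizedFittingSubgroup ↥K).map K.subtype, Y⁆ = ⁅⁅(Cfsg.generalizedFittingSubgroup ↥K).map K.subtype, Y⁆, Y⁆) ∧ (∀ Y₀ : Subgroup H, Y₀ ≤ Y → ⁅⁅Cfsg.generalizedFittingSubgroup H, Y⁆, Y₀⁆ = ⊥ → Y₀ = ⊥) :=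 by
  classical
  set F := Cfsg.generalizedFittingSubgroup H with hF
  have hFf := Grp.fittingSubgroup_isNormal (G := H)
  haveI hFn : F.Normal := by rw [hF, Cfsg.generalizedFittingSubgroup]; infer_instance
  have htopinj : Function.Injective (⊤ : Subgroup H).subtype := Subgroup.subtype_injective _
  have hO' : Cfsg.pCore p ↥(⊤ : Subgroup H) = ⊥ := by
    have h := Grp.pCore_map_le (p := p) (⊤ : Subgroup H)
    rwa [hO, le_bot_iff, Subgroup.map_eq_bot_iff_of_injective _ htopinj] at h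
  have hFtop : F ≤ (Cfsg.generalizedFittingSubgroup ↥(⊤ : Subgroup H)).map (⊤ : Subgroup H).subtype := by
    rw [← Grp.gfitting_inf_normal (⊤ : Subgroup H), inf_top_eq]
  have hYtop : Y ≤ Subgroup.normalizer ((⊤ : Subgroup H) : Set H) := by
    rw [Subgroup.normalizer_eq_top (⊤ : Subgroup H)]; exact le_top
  have key : ∀ Y' : Subgroup H, IsPGroup p ↥Y' → Y' ≤ Subgroup.normalizer ((⊤ : Subgroup H) : Set H) →
      ⁅F, Y'⁆ = ⁅⁅F, Y'⁆, Y'⁆ := fun Y' hY' hY'top =>
    (Cfsg.Agent.S2812.result (p := p) (⊤ : Subgroup H) hO' Y' hY' hY'top F hFtop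
      (hFn.isSubnormal.subgroupOf) (by rw [Subgroup.normalizer_eq_top F]; exact le_top)).2
  have hidem := key Y hY hYtop
  set W := ⁅F, Y⁆ with hW
  have hWle : ∀ K : Subgroup H, K.IsSubnormal → Y ≤ K → W ≤ K := by
    intro K hK
    induction hK with
    | top => exact fun _ => le_top
    | step A B hle _ hN ih =>
      intro hYA
      rw [hidem]
      have h1 : ⁅W, Y⁆ ≤ ⁅B, A⁆ := Subgroup.commutator_mono (ih (hYA.trans hle)) hYA
      refine h1.trans ?_
      exact Subgroup.le_normalizer_iff_commutator_le_right.mp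
        ((Subgroup.normal_subgroupOf_iff_le_normalizer hle).mp hN)
  refine ⟨fun K hK hYK => ?_, fun Y₀ hY₀ h0 => ?_⟩
  · set FK := (Cfsg.generalizedFittingSubgroup ↥K).map K.subtype with hFK
    have h1 : FK ≤ F := by
      rw [hFK, Grp.gfittingIn_eq, Grp.layerIn_eq hK]
      exact sup_le (sSup_le fun L hL => (Grp.IsComponent.le_layer hL.1).trans le_sup_left)
        ((Grp.fittingIn_le_of_isSubnormal hK).trans le_sup_right)
    have h2 : F ⊓ K ≤ FK := by
      have hsn : (F ⊓ K).IsSubnormal := hFn.isSubnormal.inf hK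
      conv_lhs => rw [Grp.subnormal_le_gfitting hsn inf_le_left]
      rw [hFK, Grp.gfittingIn_eq, Grp.layerIn_eq hK, Grp.layerIn_eq hsn,
        Grp.fitting_inf_subnormal hK, Grp.fitting_inf_subnormal hsn]
      exact sup_le (le_trans (inf_le_inf_left _ inf_le_right) le_sup_right)
        (sSup_le fun L hL => le_trans (le_sSup (show L ∈ {L : Subgroup H | Cfsg.IsComponent L ∧ L ≤ K} from ⟨hL.1, hL.2.trans inf_le_right⟩)) le_sup_left)
    have hWF : W ≤ F := Grp.commutator_le_left_of_le_normalizer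
      (by rw [Subgroup.normalizer_eq_top F]; exact le_top)
    have h3 : W ≤ ⁅FK, Y⁆ := by
      rw [hidem]
      exact Subgroup.commutator_mono ((le_inf hWF (hWle K hK hYK)).trans h2) le_rfl
    have h4 : W = ⁅FK, Y⁆ := le_antisymm h3 (Subgroup.commutator_mono h1 le_rfl)
    exact ⟨h4, by rw [← h4]; exact hidem⟩
  · have hY₀p : IsPGroup p ↥Y₀ := hY.to_le hY₀
    have h1 := key Y₀ hY₀p (hY₀.trans hYtop)
    have h2 : ⁅F, Y₀⁆ = ⊥ := le_bot_iff.mp (h1.le.trans
      ((Subgroup.commutator_mono (Subgroup.commutator_mono le_rfl hY₀) le_rfl).trans h0.le))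
    have h3 : Y₀ ≤ Subgroup.centralizer (F : Set H) :=
      Subgroup.commutator_eq_bot_iff_le_centralizer.mp (by rw [Subgroup.commutator_comm]; exact h2)
    have h4 : Y₀ ≤ Cfsg.fittingSubgroup H := h3.trans Grp.centralizer_gfitting_le_fitting
    haveI := Grp.fittingSubgroup_isNilpotent (G := H)
    obtain ⟨P, hP⟩ := (hY₀p.comap_subtype (K := Cfsg.fittingSubgroup H)).exists_le_sylow
    have hPn : (P : Subgroup ↥(Cfsg.fittingSubgroup H)).Normal :=
      P.normal_of_normalizerCondition normalizerCondition_of_isNilpotent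
    have h5 := (Subgroup.map_mono (f := (Cfsg.fittingSubgroup H).subtype)
      (hP.trans (Grp.le_pCore hPn P.isPGroup'))).trans (Grp.pCore_map_le _)
    change (Y₀.subgroupOf (Cfsg.fittingSubgroup H)).map _ ≤ _ at h5
    rwa [Subgroup.map_subgroupOf_eq_of_le h4, hO, le_bot_iff] at h5

end Cfsg.Agent.S2816
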