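import Cfsg.Statements.S2818
import Mathlib
import Cfsg.Agent.Lib.Invol.CharP
import Cfsg.Agent.Lib.Grp.Frattini
-- import your own Cfsg.Agent.* helpers here

set_option autoImplicit false
open Cfsg

namespace Cfsg.Agent.S2818

/-- Let P be a finite p-subgroup of a group G and H a subgroup of N_G(P) with [P, H] ≤ Ω₁(Z(P)) (the elements of order dividing p in the centre of P). Then H centralizes the Frattini subgroup of P. -/
theorem result {G : Type*} [Group G] [Finite G] {p : ℕ} [Fact p.Prime] (P : Subgroup G) (hP : IsPGroup p ↥P) (H : Subgroup G) (hH : H ≤ Subgroup.normalizer (P : Set G)) (h : ⁅P, H⁆ ≤ Cfsg.omegaOne p (P ⊓ Subgroup.centralizer (P : Set G))) : ⁅(frattini ↥P).map P.subtype, H⁆ = ⊥ := by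
  have hpr : p.Prime := Fact.out
  set C := (Subgroup.centralizer (H : Set G)).subgroupOf P with hC
  -- the action of `H` moves elements by central elements of order dividing `p`
  have hom : ∀ z ∈ Cfsg.omegaOne p (P ⊓ Subgroup.centralizer (P : Set G)),
      z ∈ P ∧ z ^ p = 1 ∧ ∀ x ∈ P, Commute x z := by
    intro z hz
    refine Subgroup.closure_induction (p := fun z _ => z ∈ P ∧ z ^ p = 1 ∧ ∀ x ∈ P, Commute x z)
      ?_ ⟨one_mem _, one_pow _, fun x _ => Commute.one_right x⟩ ?_ ?_ hz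
    · rintro z ⟨⟨hzP, hzc⟩, hzp⟩
      exact ⟨hzP, hzp, fun x hx => Subgroup.mem_centralizer_iff.mp hzc x hx⟩
    · rintro a b _ _ ⟨ha, hap, hac⟩ ⟨hb, hbp, hbc⟩
      exact ⟨mul_mem ha hb, by rw [(hbc a ha).mul_pow, hap, hbp, one_mul],
        fun x hx => (hac x hx).mul_right (hbc x hx)⟩
    · rintro a _ ⟨ha, hap, hac⟩
      exact ⟨inv_mem ha, by rw [inv_pow, hap, inv_one], fun x hx => (hac x hx).inv_right⟩
  open scoped commutatorElement in
  have hmove : ∀ x ∈ P, ∀ g ∈ H, ∃ z, z ^ p = 1 ∧ (∀ y ∈ P, Commute y z) ∧ g * x * g⁻¹ = x * z := by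
    intro x hx g hg
    obtain ⟨hzP, hzp, hzc⟩ := hom _ (h (Subgroup.commutator_mem_commutator (inv_mem hx) hg))
    refine ⟨⁅x⁻¹, g⁆, hzp, hzc, ?_⟩
    rw [commutatorElement_def]; group
  have hcomm : commutator ↥P ≤ C := by
    rw [commutator_def, Subgroup.commutator_le]
    intro a _ b _
    rw [hC, Subgroup.mem_subgroupOf, Subgroup.mem_centralizer_iff]
    intro g hg
    obtain ⟨z, -, hzc, hz⟩ := hmove a a.2 g hg
    obtain ⟨w, -, hwc, hw⟩ := hmove b b.2 g hg
    change g * ((a : G) * b * (a : G)⁻¹ * (b : G)⁻¹) = (a : G) * b * (a : G)⁻¹ * (b : G)⁻¹ * g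
    rw [← mul_inv_eq_iff_eq_mul]
    have e : g * ((a : G) * b * (a : G)⁻¹ * (b : G)⁻¹) * g⁻¹ =
        (g * a * g⁻¹) * (g * b * g⁻¹) * (g * a * g⁻¹)⁻¹ * (g * b * g⁻¹)⁻¹ := by group
    rw [e, hz, hw, mul_inv_rev, mul_inv_rev]
    have h1 := (hzc b b.2).inv_left.inv_right
    calc (a : G) * z * ((b : G) * w) * (z⁻¹ * (a : G)⁻¹) * (w⁻¹ * (b : G)⁻¹)
        = (a : G) * (z * ((b : G) * w) * z⁻¹) * (a : G)⁻¹ * (w⁻¹ * (b : G)⁻¹) := by group
      _ = (a : G) * ((b : G) * w) * (a : G)⁻¹ * (w⁻¹ * (b : G)⁻¹) := by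
        have hzw : Commute z ((b : G) * w) :=
          (hzc b b.2).symm.mul_right (by
            have hwmem : w ∈ P := by
              have hgb : g * b * g⁻¹ ∈ P := (Subgroup.mem_normalizer_iff.mp (hH hg) b).mp b.2
              rw [hw] at hgb
              exact (Subgroup.mul_mem_cancel_left P b.2).mp hgb
            exact (hzc w hwmem).symm)
        rw [hzw.eq, mul_inv_cancel_right]
      _ = (a : G) * b * (w * (a : G)⁻¹ * w⁻¹) * (b : G)⁻¹ := by group
      _ = (a : G) * b * (a : G)⁻¹ * (b : G)⁻¹ := by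
        rw [← ((hwc a a.2).inv_left).eq, mul_inv_cancel_right]
  have hpow : ∀ x : P, x ^ p ∈ C := by
    intro x
    rw [hC, Subgroup.mem_subgroupOf, Subgroup.mem_centralizer_iff]
    intro g hg
    obtain ⟨z, hzp, hzc, hz⟩ := hmove x x.2 g hg
    rw [SubgroupClass.coe_pow, ← mul_inv_eq_iff_eq_mul, ← conj_pow, hz, (hzc x x.2).mul_pow, hzp, mul_one]
  have : C.Normal := ⟨fun c hc g => by
    open scoped commutatorElement in
    have h1 : ⁅g, c⁆ ∈ C := hcomm (Subgroup.commutator_mem_commutator (Subgroup.mem_top g) (Subgroup.mem_top c))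
    rw [commutatorElement_def] at h1
    simpa using mul_mem h1 hc⟩
  rw [Subgroup.commutator_eq_bot_iff_le_centralizer]
  rintro _ ⟨x, hx, rfl⟩
  exact Grp.frattini_le_of_elementary hpr hcomm hpow hx

end Cfsg.Agent.S2818
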