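import Cfsg.Statements.S2819
import Cfsg.Agent.Lib.Invol.LargeSubgroup
import Cfsg.Agent.Lib.Grp.Frattini
-- import your own Cfsg.Agent.* helpers here

set_option autoImplicit false
open Cfsg

namespace Cfsg.Agent.S2819

open scoped commutatorElement

/-- Let P be a finite p-subgroup of a group G, H a subgroup of N_G(P), and Y a subgroup of H centralizing the derived subgroup P' such that [P, Y] is elementary abelian. Then O^p(⟨Y^H⟩), the subgroup of the normal closure of Y in H generated by its elements of order prime to p, centralizes the Frattini subgroup of P. -/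
theorem result {G : Type*} [Group G] [Finite G] {p : ℕ} [Fact p.Prime] (P : Subgroup G) (hP : IsPGroup p ↥P) (H : Subgroup G) (hH : H ≤ Subgroup.normalizer (P : Set G)) (Y : Subgroup G) (hYH : Y ≤ H) (hYc : Y ≤ Subgroup.centralizer ((⁅P, P⁆ : Subgroup G) : Set G)) (hel : Cfsg.IsElementaryAbelian p ⁅P, Y⁆) (NY : Subgroup G) (hNY : NY = (Subgroup.normalClosure ((Y.subgroupOf H : Subgroup ↥H) : Set ↥H)).map H.subtype) : (Cfsg.pResidual p ↥NY).map NY.subtype ≤ Subgroup.centralizer (((frattini ↥P).map P.subtype : Subgroup G) : Set G) := by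
  classical
  set P' := ⁅P, P⁆ with hP'
  have hP'P : P' ≤ P := Subgroup.commutator_le.mpr fun a ha b hb => by
    rw [commutatorElement_def]; exact P.mul_mem (P.mul_mem (P.mul_mem ha hb) (P.inv_mem ha)) (P.inv_mem hb)
  have hmap : (commutator ↥P).map P.subtype = P' := by
    rw [commutator_def, Subgroup.map_commutator, ← MonoidHom.range_eq_map, Subgroup.range_subtype]
  have hHP' : ∀ h ∈ H, h ∈ Subgroup.normalizer (P' : Set G) := fun h hh => by
    rw [← Cfsg.Agent.Invol.wc_map_conj_eq_iff, hP', Subgroup.map_commutator, Cfsg.Agent.Invol.wc_map_conj_eq_iff.mpr (hH hh)]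
  let S : Subgroup G :=
    { carrier := {n | n ∈ H ∧ n ∈ Subgroup.centralizer (P' : Set G) ∧ ∀ x ∈ P, n * x ^ p * n⁻¹ * (x ^ p)⁻¹ ∈ P'}
      one_mem' := ⟨H.one_mem, Subgroup.one_mem _, fun x _ => by simp⟩
      mul_mem' := by
        rintro a b ⟨ha, ha', ha''⟩ ⟨hb, hb', hb''⟩
        refine ⟨H.mul_mem ha hb, Subgroup.mul_mem _ ha' hb', fun x hx => ?_⟩
        rw [show a * b * x ^ p * (a * b)⁻¹ * (x ^ p)⁻¹ = a * (b * x ^ p * b⁻¹ * (x ^ p)⁻¹) * a⁻¹ * (a * x ^ p * a⁻¹ * (x ^ p)⁻¹) by group,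
          ← Subgroup.mem_centralizer_iff.mp ha' _ (hb'' x hx), mul_inv_cancel_right]
        exact P'.mul_mem (hb'' x hx) (ha'' x hx)
      inv_mem' := by
        rintro a ⟨ha, ha', ha''⟩
        refine ⟨H.inv_mem ha, Subgroup.inv_mem _ ha', fun x hx => ?_⟩
        have h := Subgroup.mem_centralizer_iff.mp ha' _ (ha'' x hx)
        have : a⁻¹ * x ^ p * a⁻¹⁻¹ * (x ^ p)⁻¹ = a⁻¹ * (a * x ^ p * a⁻¹ * (x ^ p)⁻¹)⁻¹ * a := by group
        rw [this, mul_assoc, show (a * x ^ p * a⁻¹ * (x ^ p)⁻¹)⁻¹ * a = a * (a * x ^ p * a⁻¹ * (x ^ p)⁻¹)⁻¹ from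
          Subgroup.mem_centralizer_iff.mp ha' _ (P'.inv_mem (ha'' x hx)), inv_mul_cancel_left]
        exact P'.inv_mem (ha'' x hx) }
  have hSn : ∀ h ∈ H, ∀ n ∈ S, h * n * h⁻¹ ∈ S := by
    rintro h hh n ⟨hn, hn', hn''⟩
    refine ⟨H.mul_mem (H.mul_mem hh hn) (H.inv_mem hh), Subgroup.mem_centralizer_iff.mpr fun a ha => ?_, fun x hx => ?_⟩
    · have h1 := Subgroup.mem_centralizer_iff.mp hn' _ ((Subgroup.mem_normalizer_iff''.mp (hHP' h hh) a).mp ha)
      calc a * (h * n * h⁻¹) = h * (h⁻¹ * a * h * n) * h⁻¹ := by group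
        _ = h * (n * (h⁻¹ * a * h)) * h⁻¹ := by rw [h1]
        _ = h * n * h⁻¹ * a := by group
    · have h1 := (Subgroup.mem_normalizer_iff.mp (hHP' h hh) _).mp (hn'' _ ((Subgroup.mem_normalizer_iff''.mp (hH hh) x).mp hx))
      have he : (h⁻¹ * x * h) ^ p = h⁻¹ * x ^ p * h := by
        have := conj_pow (i := p) (a := h⁻¹) (b := x)
        rwa [inv_inv] at this
      rw [he] at h1
      have : h * n * h⁻¹ * x ^ p * (h * n * h⁻¹)⁻¹ * (x ^ p)⁻¹ =
          h * (n * (h⁻¹ * x ^ p * h) * n⁻¹ * (h⁻¹ * x ^ p * h)⁻¹) * h⁻¹ := by group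
      rw [this]; exact h1
  have hYS : Y ≤ S := by
    intro y hy
    refine ⟨hYH hy, hYc hy, fun x hx => ?_⟩
    set c := y * x * y⁻¹ * x⁻¹ with hc
    have hcP : c ∈ P := P.mul_mem ((Subgroup.mem_normalizer_iff.mp (hH (hYH hy)) x).mp hx) (P.inv_mem hx)
    have hcp : c ^ p = 1 := by
      refine hel.2 c ?_
      have := Subgroup.inv_mem _ (Subgroup.commutator_mem_commutator hx hy)
      simpa [hc, commutatorElement_def, mul_assoc] using this
    set a : P := ⟨c, hcP⟩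
    set b : P := ⟨x, hx⟩
    have h1 : Abelianization.of ((a * b) ^ p * (b ^ p)⁻¹) = 1 := by
      have ha : a ^ p = 1 := Subtype.ext (by rw [SubgroupClass.coe_pow]; exact hcp)
      rw [map_mul, map_pow, map_mul, mul_pow, ← map_pow, ← map_pow, ha, map_one, one_mul, ← map_mul, mul_inv_cancel, map_one]
    have h2 : (a * b) ^ p * (b ^ p)⁻¹ ∈ commutator ↥P := by
      rwa [← Abelianization.ker_of, MonoidHom.mem_ker]
    have h3 := Subgroup.mem_map_of_mem P.subtype h2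
    rw [hmap] at h3
    have h4 : (c * x) ^ p * (x ^ p)⁻¹ ∈ P' := h3
    rwa [show c * x = y * x * y⁻¹ by rw [hc]; group, conj_pow] at h4
  have hNS : NY ≤ S := by
    have h1 : Subgroup.normalClosure ((Y.subgroupOf H : Subgroup ↥H) : Set ↥H) ≤ S.subgroupOf H := by
      haveI : (S.subgroupOf H).Normal := ⟨fun n hn h => hSn h h.2 n hn⟩
      exact Subgroup.normalClosure_le_normal fun y hy => hYS hy
    rw [hNY]
    exact (Subgroup.map_mono h1).trans (Subgroup.map_subgroupOf_eq_of_le (fun n hn => hn.1 : S ≤ H)).le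
  rw [Cfsg.pResidual, MonoidHom.map_closure, Subgroup.closure_le]
  rintro _ ⟨n, hn, rfl⟩
  obtain ⟨hnH, hnC, hnp⟩ := hNS n.2
  have hno : (orderOf (n : G)).Coprime p := by rw [Subgroup.orderOf_coe]; exact hn
  let D : Subgroup P :=
    { carrier := {w | (n : G) * w * (n : G)⁻¹ * (w : G)⁻¹ ∈ P'}
      one_mem' := by simp
      mul_mem' := by
        intro u v hu hv
        show (n : G) * ((u : G) * v) * (n : G)⁻¹ * ((u : G) * v)⁻¹ ∈ P'
        rw [show (n : G) * ((u : G) * v) * (n : G)⁻¹ * ((u : G) * v)⁻¹ =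
          ((n : G) * u * (n : G)⁻¹) * ((n : G) * v * (n : G)⁻¹ * (v : G)⁻¹) * ((n : G) * u * (n : G)⁻¹)⁻¹ * ((n : G) * u * (n : G)⁻¹ * (u : G)⁻¹) by group]
        refine P'.mul_mem ?_ hu
        have hu' : (n : G) * u * (n : G)⁻¹ ∈ P := (Subgroup.mem_normalizer_iff.mp (hH hnH) _).mp u.2
        have hk : (n : G) * u * (n : G)⁻¹ ∈ Subgroup.normalizer (P' : Set G) := by
          rw [← Cfsg.Agent.Invol.wc_map_conj_eq_iff, hP', Subgroup.map_commutator,
            Cfsg.Agent.Invol.wc_map_conj_eq_iff.mpr (Subgroup.le_normalizer hu')]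
        exact (Subgroup.mem_normalizer_iff.mp hk _).mp hv
      inv_mem' := by
        intro u hu
        show (n : G) * (u : G)⁻¹ * (n : G)⁻¹ * (u : G)⁻¹⁻¹ ∈ P'
        rw [show (n : G) * (u : G)⁻¹ * (n : G)⁻¹ * (u : G)⁻¹⁻¹ =
          ((n : G) * u * (n : G)⁻¹)⁻¹ * ((n : G) * u * (n : G)⁻¹ * (u : G)⁻¹)⁻¹ * ((n : G) * u * (n : G)⁻¹)⁻¹⁻¹ by group]
        have hu' : (n : G) * u * (n : G)⁻¹ ∈ P := (Subgroup.mem_normalizer_iff.mp (hH hnH) _).mp u.2
        have hk : ((n : G) * u * (n : G)⁻¹)⁻¹ ∈ Subgroup.normalizer (P' : Set G) := by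
          rw [← Cfsg.Agent.Invol.wc_map_conj_eq_iff, hP', Subgroup.map_commutator,
            Cfsg.Agent.Invol.wc_map_conj_eq_iff.mpr (Subgroup.le_normalizer (P.inv_mem hu'))]
        exact (Subgroup.mem_normalizer_iff.mp hk _).mp (P'.inv_mem hu) }
  have hfix : ∀ z ∈ P', (n : G) * z * (n : G)⁻¹ = z := fun z hz => by
    rw [← Subgroup.mem_centralizer_iff.mp hnC z hz, mul_inv_cancel_right]
  have hPD : commutator ↥P ≤ D := by
    intro w hw
    have hw' : (w : G) ∈ P' := hmap.le ⟨w, hw, rfl⟩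
    show (n : G) * w * (n : G)⁻¹ * (w : G)⁻¹ ∈ P'
    rw [hfix _ hw', mul_inv_cancel]
    exact P'.one_mem
  haveI : D.Normal := ⟨fun w hw g => by
    rw [show g * w * g⁻¹ = ⁅g, w⁆ * w by rw [commutatorElement_def]; group]
    exact D.mul_mem (hPD (Subgroup.commutator_mem_commutator (Subgroup.mem_top g) (Subgroup.mem_top w))) hw⟩
  have hΦ : frattini ↥P ≤ D := Cfsg.Agent.Grp.frattini_le_of_elementary (Fact.out : p.Prime) hPD fun x => by
    show (n : G) * ((x ^ p : P) : G) * (n : G)⁻¹ * ((x ^ p : P) : G)⁻¹ ∈ P'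
    rw [SubgroupClass.coe_pow]
    exact hnp x x.2
  refine Subgroup.mem_centralizer_iff.mpr ?_
  rintro _ ⟨w, hw, rfl⟩
  have hz := hΦ hw
  exact (Cfsg.Agent.Invol.lg_stab_commute hP hno (Subgroup.mem_centralizer_iff.mp hnC _ hz).symm (hP'P hz)).eq.symm

end Cfsg.Agent.S2819
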