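import Cfsg.Prelude
import Cfsg.Agent.Lib.Invol.PClosedQuot
import Cfsg.Agent.Lib.Grp.Subnormal
-- import your own Cfsg.Agent.* helpers here

set_option autoImplicit false
open Cfsg

open scoped Pointwise commutatorElement

namespace Cfsg.Agent.S2820

universe u

variable {p : ℕ}

theorem res_le [Fact p.Prime] {G : Type u} [Group G] [Finite G] {B : Subgroup G}
    (hB : (Cfsg.pResidual p ↥B).map B.subtype = B) : B ≤ Cfsg.pResidual p G :=
  hB.ge.trans (Transfer.pResidual_map_le B.subtype)

/-- A residual-perfect subnormal subgroup supplementing the core is the residual. -/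
theorem aux [Fact p.Prime] : ∀ (n : ℕ) (G : Type u) [Group G] [Finite G], Nat.card G = n →
    ∀ B : Subgroup G, B.IsSubnormal → (Cfsg.pResidual p ↥B).map B.subtype = B →
      B ⊔ Cfsg.pCore p G = ⊤ → Cfsg.pResidual p G = B := by
  intro n
  induction n using Nat.strong_induction_on with
  | _ n ih =>
  intro G _ _ hn B hB hBr hsup
  haveI hBn : B.Normal := by
    rcases hB.lt_normal with e | ⟨N, hN, hle, hlt⟩
    · rw [e]; infer_instance
    haveI := hN
    have h2 : B.subgroupOf N ⊔ (Cfsg.pCore p G ⊓ N).subgroupOf N = ⊤ := by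
      rw [← Subgroup.subgroupOf_sup hle inf_le_right, Subgroup.subgroupOf_eq_top]
      intro x hx
      have h0 : x ∈ ((Cfsg.pCore p G ⊔ B : Subgroup G) : Set G) := by rw [sup_comm, hsup]; trivial
      haveI := Grp.pCore_isNormal (p := p) (G := G)
      rw [Subgroup.normal_mul (Cfsg.pCore p G) B] at h0
      obtain ⟨c, hc, b, hb, rfl⟩ := h0
      refine Subgroup.mul_mem _ (Subgroup.mem_sup_right ⟨hc, ?_⟩) (Subgroup.mem_sup_left hb)
      simpa using N.mul_mem hx (N.inv_mem (hle hb))
    have h3 : (Cfsg.pCore p G ⊓ N).subgroupOf N ≤ Cfsg.pCore p ↥N := by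
      haveI := Grp.pCore_isNormal (p := p) (G := G)
      exact Grp.le_pCore inferInstance (((Grp.pCore_isPGroup (p := p) (G := G)).to_le inf_le_left).comap_subtype)
    have hBr' : (Cfsg.pResidual p ↥(B.subgroupOf N)).map (B.subgroupOf N).subtype = B.subgroupOf N := by
      refine le_antisymm (Subgroup.map_subtype_le _) fun x hx => ?_
      have hx' : (x : G) ∈ (Cfsg.pResidual p ↥B).map B.subtype := by rw [hBr]; exact hx
      obtain ⟨b, hb, hbx⟩ := hx'
      refine ⟨(Subgroup.subgroupOfEquivOfLe hle).symm b,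
        Transfer.pResidual_map_le (p := p) (Subgroup.subgroupOfEquivOfLe hle).symm.toMonoidHom ⟨b, hb, rfl⟩,
        Subtype.ext hbx⟩
    have h4 := ih _ (hn ▸ Grp.card_lt_of_ne_top hlt.ne) ↥N rfl (B.subgroupOf N) hB.subgroupOf hBr'
      (top_le_iff.mp (h2 ▸ sup_le_sup_left h3 _))
    have h5 : (Cfsg.pResidual p ↥N).map N.subtype = B := by
      rw [h4, Subgroup.subgroupOf_map_subtype, inf_eq_left.mpr hle]
    haveI := Transfer.pResidual_characteristic p ↥N
    rw [← h5]; infer_instance
  exact le_antisymm (Invol.pq_residual_le (Grp.pCore_isPGroup (p := p) (G := G)) (hsup.symm ▸ le_top))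
    (res_le hBr)

/-- Let A and B be subnormal subgroups of the finite group H with A a p-group and B = O^p(B) (B generated by its elements of order prime to p). Then A normalizes B and B = O^p(AB), the subgroup of ⟨A, B⟩ generated by its elements of order prime to p. -/
theorem result {H : Type*} [Group H] [Finite H] {p : ℕ} [Fact p.Prime] (A B : Subgroup H) (hA : A.IsSubnormal) (hB : B.IsSubnormal) (hAp : IsPGroup p ↥A) (hBres : (Cfsg.pResidual p ↥B).map B.subtype = B) : A ≤ Subgroup.normalizer (B : Set H) ∧ (Cfsg.pResidual p ↥(A ⊔ B)).map (A ⊔ B).subtype = B := by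
  classical
  set J := A ⊔ B with hJ
  have hBJ : B ≤ J := le_sup_right
  have hAJ : A ≤ J := le_sup_left
  have h1 : A.subgroupOf J ⊔ B.subgroupOf J = ⊤ :=
    (Subgroup.subgroupOf_sup hAJ hBJ).symm.trans (Subgroup.subgroupOf_self _)
  have hP : A.subgroupOf J ≤ Cfsg.pCore p ↥J :=
    Grp.le_pCore_of_isSubnormal hA.subgroupOf hAp.comap_subtype
  have hB' : (Cfsg.pResidual p ↥(B.subgroupOf J)).map (B.subgroupOf J).subtype = B.subgroupOf J := by
    refine le_antisymm (Subgroup.map_subtype_le _) fun x hx => ?_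
    have hx' : (x : H) ∈ (Cfsg.pResidual p ↥B).map B.subtype := by rw [hBres]; exact hx
    obtain ⟨b, hb, hbx⟩ := hx'
    exact ⟨(Subgroup.subgroupOfEquivOfLe hBJ).symm b,
      Transfer.pResidual_map_le (p := p) (Subgroup.subgroupOfEquivOfLe hBJ).symm.toMonoidHom ⟨b, hb, rfl⟩,
      Subtype.ext hbx⟩
  have hmain := aux (p := p) (Nat.card ↥J) ↥J rfl (B.subgroupOf J) hB.subgroupOf hB'
    (top_le_iff.mp (h1.symm.le.trans (sup_le (hP.trans le_sup_right) le_sup_left)))
  refine ⟨?_, ?_⟩
  · haveI : (B.subgroupOf J).Normal := hmain ▸ Transfer.instNormalPResidual p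
    exact hAJ.trans ((Subgroup.normal_subgroupOf_iff_le_normalizer hBJ).mp ‹_›)
  · rw [hmain, Subgroup.subgroupOf_map_subtype, inf_eq_left.mpr hBJ]

end Cfsg.Agent.S2820
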