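import Cfsg.Statements.S2823
import Cfsg.Agent.Lib.Invol.PReducedSub
-- import your own Cfsg.Agent.* helpers here

set_option autoImplicit false
open Cfsg

namespace Cfsg.Agent.S2823

open scoped commutatorElement

/-- Let H be a finite group, p a prime, T a Sylow p-subgroup and L a subgroup of characteristic p containing T; let Z_L be the subgroup generated by the Ω₁(Z(S)) over the Sylow p-subgroups S of L and O^p(L) the subgroup generated by the elements of L of order prime to p. Then Z_L = Ω₁(Z(L))·[Z_L, O^p(L)] and [Z_L, L] = [Z_L, O^p(L)]. -/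
theorem result {H : Type*} [Group H] [Finite H] {p : ℕ} [Fact p.Prime] (T : Sylow p H) (L : Subgroup H) (hTL : (T : Subgroup H) ≤ L) (hL : Subgroup.centralizer (Cfsg.pCore p ↥L : Set ↥L) ≤ Cfsg.pCore p ↥L) : Cfsg.sylowCenterClosure p L = (Cfsg.omegaOne p (L ⊓ Subgroup.centralizer ((L : Subgroup H) : Set H))) ⊔ ⁅Cfsg.sylowCenterClosure p L, (Cfsg.pResidual p ↥L).map L.subtype⁆ ∧ ⁅Cfsg.sylowCenterClosure p L, L⁆ = ⁅Cfsg.sylowCenterClosure p L, (Cfsg.pResidual p ↥L).map L.subtype⁆ := by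
  classical
  set S := T.subtype hTL with hS
  rw [Cfsg.Agent.Invol.sylowCenterClosure_eq L S]
  set Z₀ := Subgroup.normalClosure (Cfsg.Agent.Invol.centSet p (S : Subgroup L)) with hZ₀
  set R := Cfsg.pResidual p ↥L with hR
  have hZn : Z₀.Normal := Subgroup.normalClosure_normal
  have hred : Cfsg.IsPReducedNormal p Z₀ := Cfsg.Agent.Invol.closure_centSet_pReduced hL S
  have hE : Cfsg.IsElementaryAbelian p Z₀ := (Cfsg.Agent.Invol.pReduced_iff.mp hred).2.1
  have hle := Cfsg.Agent.Invol.commutator_top_le_residual S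
    (s := Cfsg.Agent.Invol.centSet p (S : Subgroup L)) (fun x hx t ht => hx.2.1 t ht)
  have h2 : ⁅Z₀.map L.subtype, L⁆ = ⁅Z₀.map L.subtype, R.map L.subtype⁆ := by
    calc ⁅Z₀.map L.subtype, L⁆ = ⁅Z₀.map L.subtype, (⊤ : Subgroup L).map L.subtype⁆ := by
          rw [← MonoidHom.range_eq_map, Subgroup.range_subtype]
      _ = _ := by
          rw [← Subgroup.map_commutator, ← Subgroup.map_commutator]
          exact congrArg _ (le_antisymm hle (Subgroup.commutator_mono le_rfl le_top))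
  refine ⟨?_, h2⟩
  rw [← h2]
  set O := Cfsg.omegaOne p (L ⊓ Subgroup.centralizer ((L : Subgroup H) : Set H)) with hO
  refine le_antisymm ?_ (sup_le ?_ ?_)
  · rw [Subgroup.map_le_iff_le_comap]
    have hn : ((O ⊔ ⁅Z₀.map L.subtype, L⁆).comap L.subtype).Normal := by
      refine ⟨fun x hx l => ?_⟩
      refine Subgroup.mem_comap.mpr ?_
      have h1 : (MulAut.conj (l : H)).toMonoidHom (x : H) ∈
          (O ⊔ ⁅Z₀.map L.subtype, L⁆).map (MulAut.conj (l : H)).toMonoidHom := ⟨x, hx, rfl⟩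
      rw [Subgroup.map_sup] at h1
      refine (sup_le_sup ?_ ?_ : _ ≤ O ⊔ ⁅Z₀.map L.subtype, L⁆) h1
      · rw [hO, Cfsg.omegaOne, MonoidHom.map_closure]
        refine Subgroup.closure_mono ?_
        rintro _ ⟨a, ⟨ha, hap⟩, rfl⟩
        show (l : H) * a * (l : H)⁻¹ ∈ _
        rw [Subgroup.mem_centralizer_iff.mp ha.2 _ l.2, mul_inv_cancel_right]
        exact ⟨ha, hap⟩
      · rw [Subgroup.map_commutator]
        refine Subgroup.commutator_mono ?_ ?_
        · rintro _ ⟨_, ⟨a, ha, rfl⟩, rfl⟩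
          exact ⟨l * a * l⁻¹, hZn.conj_mem a ha l, rfl⟩
        · rintro _ ⟨a, ha, rfl⟩
          exact mul_mem (mul_mem l.2 ha) (inv_mem l.2)
    refine Subgroup.normalClosure_le_normal fun z hz => ?_
    obtain ⟨c, hc, w, hw, he⟩ := Cfsg.Agent.Invol.exists_central_mul hE S
      (Subgroup.subset_normalClosure hz) hz.2.1
    refine Subgroup.mem_comap.mpr ?_
    rw [he, map_mul]
    refine mul_mem (Subgroup.mem_sup_left (Subgroup.subset_closure ⟨⟨(c : L).2, ?_⟩, ?_⟩))
      (Subgroup.mem_sup_right ?_)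
    · exact Subgroup.mem_centralizer_iff.mpr fun l hl =>
        congrArg Subtype.val (Subgroup.mem_centralizer_iff.mp hc.2 (⟨l, hl⟩ : L) (Set.mem_univ _))
    · exact congrArg Subtype.val (hE.2 c hc.1)
    · have h3 : L.subtype w ∈ (⁅Z₀, (⊤ : Subgroup L)⁆).map L.subtype := ⟨w, hw, rfl⟩
      rwa [Subgroup.map_commutator, ← MonoidHom.range_eq_map, Subgroup.range_subtype] at h3
  · rw [hO, Cfsg.omegaOne, Subgroup.closure_le]
    intro z hz
    obtain ⟨⟨hzL, hzc⟩, hzp⟩ := hz
    refine ⟨⟨z, hzL⟩, Subgroup.subset_normalClosure ⟨?_, fun s _ => Subtype.ext ?_, Subtype.ext hzp⟩, rfl⟩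
    · exact Cfsg.Agent.Grp.pCore_le_sylow S (hL (Subgroup.mem_centralizer_iff.mpr fun q _ =>
        Subtype.ext (Subgroup.mem_centralizer_iff.mp hzc q q.2)))
    · exact Subgroup.mem_centralizer_iff.mp hzc s s.2
  · refine Subgroup.commutator_le.mpr ?_
    rintro _ ⟨a, ha, rfl⟩ l hl
    exact ⟨⁅a, (⟨l, hl⟩ : L)⁆, Subgroup.commutator_le_left Z₀ ⊤
      (Subgroup.commutator_mem_commutator ha (Subgroup.mem_top _)), rfl⟩

end Cfsg.Agent.S2823
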