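import Cfsg.Statements.S2825
import Cfsg.Agent.Lib.Invol.PReducedSub
import Cfsg.Agent.Lib.Invol.Transvection
-- import your own Cfsg.Agent.* helpers here

set_option autoImplicit false
open Cfsg

namespace Cfsg.Agent.S2825

open scoped commutatorElement

variable {G : Type*} [Group G] [Finite G] {p : ℕ} [Fact p.Prime]

open Cfsg.Agent.Invol

/-- `A × B` lemma: `n` of order prime to `p` commuting modulo `C(U)` with a `p`-group of actions `M`. -/
theorem centralizes_of_fix {U M : Subgroup G} (hU : Cfsg.IsElementaryAbelian p U)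
    (hMU : M ≤ Subgroup.normalizer (U : Set G))
    (hMp : PMod p M (Subgroup.centralizer (U : Set G))) {n : G} (hn : (orderOf n).Coprime p)
    (hnU : n ∈ Subgroup.normalizer (U : Set G))
    (hcomm : ∀ m ∈ M, ⁅m, n⁆ ∈ Subgroup.centralizer (U : Set G))
    (hfix : n ∈ Subgroup.centralizer ((U ⊓ Subgroup.centralizer (M : Set G) : Subgroup G) : Set G)) :
    n ∈ Subgroup.centralizer (U : Set G) := by
  letI : CommGroup U := { (inferInstance : Group U) with mul_comm := hU.1.is_comm.comm }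
  set φ := Subgroup.normalizerMonoidHom U with hφ
  have happ : ∀ (g : G) (hg : g ∈ Subgroup.normalizer (U : Set G)) (u : U),
      ((φ ⟨g, hg⟩ u : U) : G) = g * u * g⁻¹ := fun g hg u => rfl
  have hker : ∀ (g : G) (hg : g ∈ Subgroup.normalizer (U : Set G)),
      φ ⟨g, hg⟩ = 1 ↔ g ∈ Subgroup.centralizer (U : Set G) := by
    intro g hg
    rw [MulEquiv.ext_iff, Subgroup.mem_centralizer_iff]
    refine ⟨fun h u hu => ?_, fun h u => Subtype.ext ?_⟩
    · exact (mul_inv_eq_iff_eq_mul.mp ((happ g hg ⟨u, hu⟩).symm.trans (congrArg Subtype.val (h ⟨u, hu⟩)))).symm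
    · rw [happ, ← h u u.2, mul_inv_cancel_right]
      rfl
  set P := (M.subgroupOf (Subgroup.normalizer (U : Set G))).map φ with hP
  have hPp : IsPGroup p P := by
    rintro ⟨_, m, hm, rfl⟩
    obtain ⟨k, hk⟩ := hMp m hm
    refine ⟨k, Subtype.ext ?_⟩
    rw [SubgroupClass.coe_pow, Subgroup.coe_one, ← map_pow]
    exact (hker _ (pow_mem m.2 _)).mpr hk
  have hkey : φ ⟨n, hnU⟩ = 1 := by
    refine eq_one_of_fix_centralizer (isPGroup_of_ea hU) hPp (k := orderOf n) hn ?_ ?_ ?_
    · rw [← map_pow, ← map_one φ]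
      exact congrArg φ (Subtype.ext (pow_orderOf_eq_one n))
    · rintro _ ⟨⟨m, hm'⟩, hm, rfl⟩
      refine commutatorElement_eq_one_iff_commute.mp ?_
      rw [← map_commutatorElement]
      exact (hker _ ((⁅(⟨m, hm'⟩ : Subgroup.normalizer (U : Set G)), (⟨n, hnU⟩ : Subgroup.normalizer (U : Set G))⁆).2)).mpr (hcomm m hm)
    · intro v hv
      refine Subtype.ext ?_
      rw [happ]
      have hvC : (v : G) ∈ U ⊓ Subgroup.centralizer (M : Set G) := by
        refine ⟨v.2, Subgroup.mem_centralizer_iff.mpr fun m hm => ?_⟩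
        have h := hv _ ⟨⟨m, hMU hm⟩, hm, rfl⟩
        exact mul_inv_eq_iff_eq_mul.mp (congrArg Subtype.val h)
      rw [← Subgroup.mem_centralizer_iff.mp hfix v hvC, mul_inv_cancel_right]
  exact (hker n hnU).mp hkey

theorem conj_largest_le {L : Subgroup G} {g : G} (hg : g ∈ Subgroup.normalizer (L : Set G)) :
    (Cfsg.largestPReducedOf p L).map (MulAut.conj g).toMonoidHom ≤ Cfsg.largestPReducedOf p L := by
  obtain ⟨hUL, hE, hn, hr⟩ := redIn_largest (p := p) L
  set U := Cfsg.largestPReducedOf p L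
  set e := (MulAut.conj g).toMonoidHom with he
  have hLe : L.map e = L := by
    ext x
    constructor
    · rintro ⟨y, hy, rfl⟩; exact (Subgroup.mem_normalizer_iff.mp hg y).mp hy
    · intro hx
      exact ⟨g⁻¹ * x * g, (Subgroup.mem_normalizer_iff''.mp hg x).mp hx, by simp [he, mul_assoc]⟩
  have hinv : ∀ y : G, g⁻¹ * (g * y * g⁻¹) * g = y := fun y => by group
  refine RedIn.le_largest ⟨(Subgroup.map_mono hUL).trans hLe.le, ⟨⟨⟨?_⟩⟩, ?_⟩, ?_, ?_⟩
  · rintro ⟨_, a, ha, rfl⟩ ⟨_, b, hb, rfl⟩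
    refine Subtype.ext ?_
    show e a * e b = e b * e a
    rw [← map_mul, ← map_mul, comm_of_ea hE ha hb]
  · rintro _ ⟨a, ha, rfl⟩
    rw [← map_pow, hE.2 a ha, map_one]
  · intro l hl
    rw [← hLe] at hl
    obtain ⟨l₀, hl₀, rfl⟩ := hl
    refine Subgroup.mem_normalizer_fintype ?_
    rintro _ ⟨a, ha, rfl⟩
    exact ⟨l₀ * a * l₀⁻¹, (Subgroup.mem_normalizer_iff.mp (hn hl₀) a).mp ha, by simp [he, mul_assoc]⟩
  · intro M hML hMn hMp m hm
    have h1 : g⁻¹ * m * g ∈ Subgroup.centralizer (U : Set G) := by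
      refine hr (M.comap e) ?_ ?_ ?_ ?_
      · intro x hx
        rw [← hinv x]
        exact (Subgroup.mem_normalizer_iff''.mp hg _).mp (hML hx)
      · intro l hl
        refine Subgroup.mem_normalizer_fintype fun x hx => ?_
        have hl' : g * l * g⁻¹ ∈ L := (Subgroup.mem_normalizer_iff.mp hg l).mp hl
        have h := (Subgroup.mem_normalizer_iff.mp (hMn hl') _).mp hx
        show g * (l * x * l⁻¹) * g⁻¹ ∈ M
        simpa [he, mul_assoc] using h
      · intro x hx
        obtain ⟨k, hk⟩ := hMp _ hx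
        refine ⟨k, Subgroup.mem_centralizer_iff.mpr fun u hu => ?_⟩
        have h := Subgroup.mem_centralizer_iff.mp hk (e u) ⟨u, hu, rfl⟩
        rw [← map_pow, ← map_mul, ← map_mul] at h
        exact (MulAut.conj g).injective h
      · show g * (g⁻¹ * m * g) * g⁻¹ ∈ M
        simpa [mul_assoc] using hm
    refine Subgroup.mem_centralizer_iff.mpr ?_
    rintro _ ⟨u, hu, rfl⟩
    have h2 := Subgroup.mem_centralizer_iff.mp h1 u hu
    show g * u * g⁻¹ * m = m * (g * u * g⁻¹)
    calc g * u * g⁻¹ * m = g * (u * (g⁻¹ * m * g)) * g⁻¹ := by group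
      _ = g * (g⁻¹ * m * g * u) * g⁻¹ := by rw [h2]
      _ = m * (g * u * g⁻¹) := by group

/-- The normal step: `L ∩ C(Y_K)` centralizes `Y_L`. -/
theorem normal_step {L K : Subgroup G} (hLK : L ≤ K) (hKL : K ≤ Subgroup.normalizer (L : Set G)) :
    L ⊓ Subgroup.centralizer (Cfsg.largestPReducedOf p K : Set G) ≤
      Subgroup.centralizer (Cfsg.largestPReducedOf p L : Set G) := by
  classical
  set YK := Cfsg.largestPReducedOf p K with hYK
  set Kc := L ⊓ Subgroup.centralizer (YK : Set G) with hKc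
  have hcore : ∀ (n : ℕ) (U : Subgroup G), Nat.card U = n → RedIn p L U →
      K ≤ Subgroup.normalizer (U : Set G) →
      ∀ k ∈ Kc, (orderOf k).Coprime p → k ∈ Subgroup.centralizer (U : Set G) := by
    intro n
    induction n using Nat.strong_induction_on with
    | _ n ih =>
    intro U hn hU hKU k hk hkc
    obtain ⟨hUL, hUE, hLU, hUr⟩ := hU
    by_cases hr : ∀ M : Subgroup G, M ≤ K → K ≤ Subgroup.normalizer (M : Set G) →
        PMod p M (Subgroup.centralizer (U : Set G)) → M ≤ Subgroup.centralizer (U : Set G)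
    · exact Subgroup.centralizer_le (RedIn.le_largest ⟨hUL.trans hLK, hUE, hKU, hr⟩) hk.2
    push Not at hr
    obtain ⟨M, hMK, hKM, hMp, hMne⟩ := hr
    have hML : M ⊓ L ≤ Subgroup.centralizer (U : Set G) := by
      refine hUr _ inf_le_right (fun l hl => Subgroup.mem_normalizer_fintype fun x hx => ?_)
        fun x hx => hMp x hx.1
      exact ⟨(Subgroup.mem_normalizer_iff.mp (hKM (hLK hl)) x).mp hx.1,
        (Subgroup.mem_normalizer_iff.mp (hKL (hLK hl)) x).mp hx.2⟩
    have hcomm : ∀ m ∈ M, ∀ l ∈ L, ⁅m, l⁆ ∈ Subgroup.centralizer (U : Set G) := by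
      intro m hm l hl
      refine hML ⟨?_, ?_⟩
      · rw [show ⁅m, l⁆ = m * (l * m⁻¹ * l⁻¹) by simp [commutatorElement_def, mul_assoc]]
        exact mul_mem hm ((Subgroup.mem_normalizer_iff.mp (hKM (hLK hl)) _).mp (M.inv_mem hm))
      · rw [commutatorElement_def]
        exact L.mul_mem ((Subgroup.mem_normalizer_iff.mp (hKL (hMK hm)) l).mp hl) (L.inv_mem hl)
    set U₁ := U ⊓ Subgroup.centralizer (M : Set G) with hU₁
    have hKU₁ : K ≤ Subgroup.normalizer (U₁ : Set G) := fun x hx => Subgroup.mem_normalizer_fintype fun u hu => by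
      refine ⟨(Subgroup.mem_normalizer_iff.mp (hKU hx) u).mp hu.1, Subgroup.mem_centralizer_iff.mpr fun m hm => ?_⟩
      have h1 := Subgroup.mem_centralizer_iff.mp hu.2 _ ((Subgroup.mem_normalizer_iff''.mp (hKM hx) m).mp hm)
      calc m * (x * u * x⁻¹) = x * (x⁻¹ * m * x * u) * x⁻¹ := by group
        _ = x * (u * (x⁻¹ * m * x)) * x⁻¹ := by rw [h1]
        _ = x * u * x⁻¹ * m := by group
    have hMU : M ≤ Subgroup.normalizer (U : Set G) := hMK.trans hKU
    have hU₁r : RedIn p L U₁ := by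
      refine ⟨inf_le_left.trans hUL, ⟨⟨⟨fun a b => Subtype.ext (comm_of_ea hUE a.2.1 b.2.1)⟩⟩,
        fun a ha => hUE.2 a ha.1⟩, (hLK.trans hKU₁), fun N hNL hLN hNp => ?_⟩
      refine (hUr N hNL hLN fun x hx => ?_).trans (Subgroup.centralizer_le inf_le_left)
      obtain ⟨j, hj⟩ := exists_pow_coprime (p := p) x
      refine ⟨j, centralizes_of_fix hUE hMU hMp hj (hLU (hNL (pow_mem hx _)))
        (fun m hm => hcomm m hm _ (hNL (pow_mem hx _))) ?_⟩
      obtain ⟨i, hi⟩ := hNp _ (pow_mem hx (p ^ j))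
      obtain ⟨r, hr⟩ := exists_pow_eq_self_of_coprime (x := x ^ p ^ j) (n := p ^ i) (hj.symm.pow_left i)
      exact hr ▸ pow_mem hi r
    have hlt : Nat.card U₁ < n := by
      rw [← hn]
      refine lt_of_le_of_ne (Subgroup.card_le_of_le inf_le_left) fun e => hMne ?_
      rw [Subgroup.le_centralizer_iff]
      exact (Subgroup.eq_of_le_of_card_ge inf_le_left e.ge).ge.trans inf_le_right
    exact centralizes_of_fix hUE hMU hMp hkc (hLU hk.1) (fun m hm => hcomm m hm k hk.1)
      (ih _ hlt U₁ rfl hU₁r hKU₁ k hk hkc)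
  obtain ⟨hYL, hYE, hYn, hYr⟩ := redIn_largest (p := p) L
  have hKY : K ≤ Subgroup.normalizer (Cfsg.largestPReducedOf p L : Set G) := fun x hx =>
    Subgroup.mem_normalizer_fintype fun u hu => conj_largest_le (hKL hx) ⟨u, hu, rfl⟩
  refine hYr Kc inf_le_left (fun l hl => Subgroup.mem_normalizer_fintype fun x hx => ?_) fun x hx => ?_
  · refine ⟨(show l * x * l⁻¹ ∈ L from mul_mem (mul_mem hl hx.1) (inv_mem hl)),
      Subgroup.mem_centralizer_iff.mpr fun y hy => ?_⟩
    have h1 := Subgroup.mem_centralizer_iff.mp hx.2 _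
      ((Subgroup.mem_normalizer_iff''.mp ((redIn_largest (p := p) K).2.2.1 (hLK hl)) y).mp hy)
    calc y * (l * x * l⁻¹) = l * (l⁻¹ * y * l * x) * l⁻¹ := by group
      _ = l * (x * (l⁻¹ * y * l)) * l⁻¹ := by rw [h1]
      _ = l * x * l⁻¹ * y := by group
  · obtain ⟨j, hj⟩ := exists_pow_coprime (p := p) x
    exact ⟨j, hcore _ _ rfl (redIn_largest L) hKY _ (pow_mem hx _) hj⟩

theorem largestOf_top : Cfsg.largestPReducedOf p (⊤ : Subgroup G) = Cfsg.largestPReduced p G := by
  refine le_antisymm (le_sSup (redIn_top_iff.mp (redIn_largest _))) ?_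
  exact RedIn.le_largest (redIn_top_iff.mpr largest_pReduced)

theorem centralizer_step {L : Subgroup G} (hL : L.IsSubnormal) :
    L ⊓ Subgroup.centralizer (Cfsg.largestPReduced p G : Set G) ≤
      Subgroup.centralizer (Cfsg.largestPReducedOf p L : Set G) := by
  induction hL with
  | top => rw [largestOf_top]; exact inf_le_right
  | step H K hle hK hn ih =>
    refine le_trans ?_ (normal_step hle ((Subgroup.normal_subgroupOf_iff_le_normalizer hle).mp hn))
    exact le_inf inf_le_left (le_trans (le_inf (inf_le_left.trans hle) inf_le_right) ih)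

/-- Let L be a subnormal subgroup of the finite group H, p a prime, Y_H and Y_L the largest p-reduced normal subgroups. Then Y_H ∩ L = Y_H ∩ Y_L and this subgroup is a p-reduced normal subgroup of L; C_L(Y_L) = C_L(Y_H) = C_L(Y_H ∩ L); and if O^p(H) ≤ L, then [Y_L, L] = 1 if and only if [Y_H, H] = 1. -/
theorem result {H : Type*} [Group H] [Finite H] {p : ℕ} [Fact p.Prime] (L : Subgroup H) (hL : L.IsSubnormal) : Cfsg.largestPReduced p H ⊓ L = Cfsg.largestPReduced p H ⊓ (Cfsg.largestPReducedOf p L) ∧ Cfsg.IsPReducedNormal p ((Cfsg.largestPReduced p H ⊓ L).subgroupOf L) ∧ L ⊓ Subgroup.centralizer ((Cfsg.largestPReducedOf p L : Subgroup H) : Set H) = L ⊓ Subgroup.centralizer (Cfsg.largestPReduced p H : Set H) ∧ L ⊓ Subgroup.centralizer (Cfsg.largestPReduced p H : Set H) = L ⊓ Subgroup.centralizer ((Cfsg.largestPReduced p H ⊓ L : Subgroup H) : Set H) ∧ (Cfsg.pResidual p H ≤ L → (⁅(Cfsg.largestPReducedOf p L), L⁆ = ⊥ ↔ ⁅Cfsg.largestPReduced p H, (⊤ : Subgroup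 H)⁆ = ⊥)) := by
  classical
  set YH := Cfsg.largestPReduced p H with hYH
  have hYHr : Cfsg.IsPReducedNormal p YH := Cfsg.Agent.Invol.largest_pReduced
  obtain ⟨hYHn, hYHe, hYHc⟩ := Cfsg.Agent.Invol.pReduced_iff.mp hYHr
  have hLV : L ≤ Subgroup.normalizer ((YH ⊓ L : Subgroup H) : Set H) := fun l hl =>
    Subgroup.mem_normalizer_fintype fun x hx =>
      ⟨hYHn.conj_mem x hx.1 l, (show l * x * l⁻¹ ∈ L from mul_mem (mul_mem hl hx.2) (inv_mem hl))⟩
  have hV : Cfsg.Agent.Invol.RedIn p L (YH ⊓ L) :=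
    ⟨inf_le_right, ⟨⟨⟨fun a b => Subtype.ext (Cfsg.Agent.Invol.comm_of_ea hYHe a.2.1 b.2.1)⟩⟩,
      fun a ha => hYHe.2 a ha.1⟩, hLV,
      fun M hML hM hMp => (Cfsg.Agent.Invol.le_centralizer_of_subnormal hYHr hL hML hM hMp).trans
        (Subgroup.centralizer_le inf_le_left)⟩
  have hVY := hV.le_largest
  have hYLL : Cfsg.largestPReducedOf p L ≤ L := (Cfsg.Agent.Invol.redIn_largest L).1
  have hC3 : L ⊓ Subgroup.centralizer ((YH ⊓ L : Subgroup H) : Set H) ≤ Subgroup.centralizer (YH : Set H) := by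
    refine Cfsg.Agent.Invol.le_centralizer_of_subnormal hYHr hL inf_le_left
      (fun l hl => Subgroup.mem_normalizer_fintype fun x hx => ?_) fun x hx => ⟨0, by simpa using hx.2⟩
    refine ⟨(show l * x * l⁻¹ ∈ L from mul_mem (mul_mem hl hx.1) (inv_mem hl)),
      Subgroup.mem_centralizer_iff.mpr fun y hy => ?_⟩
    have h1 := Subgroup.mem_centralizer_iff.mp hx.2 _ ((Subgroup.mem_normalizer_iff''.mp (hLV hl) y).mp hy)
    calc y * (l * x * l⁻¹) = l * (l⁻¹ * y * l * x) * l⁻¹ := by group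
      _ = l * (x * (l⁻¹ * y * l)) * l⁻¹ := by rw [h1]
      _ = l * x * l⁻¹ * y := by group
  have heq2 : L ⊓ Subgroup.centralizer (YH : Set H) = L ⊓ Subgroup.centralizer ((YH ⊓ L : Subgroup H) : Set H) :=
    le_antisymm (inf_le_inf_left L (Subgroup.centralizer_le inf_le_left)) (le_inf inf_le_left hC3)
  have hc : L ⊓ Subgroup.centralizer ((Cfsg.largestPReducedOf p L : Subgroup H) : Set H) =
      L ⊓ Subgroup.centralizer (YH : Set H) := by
    refine le_antisymm ?_ (le_inf inf_le_left (centralizer_step hL))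
    rw [heq2]
    exact inf_le_inf_left L (Subgroup.centralizer_le hVY)
  refine ⟨le_antisymm (le_inf inf_le_left hVY) (inf_le_inf_left _ hYLL),
    (Cfsg.Agent.Invol.redIn_iff.mp hV).2, hc, heq2, fun hres => ?_⟩
  rw [Subgroup.commutator_eq_bot_iff_le_centralizer, Subgroup.commutator_eq_bot_iff_le_centralizer]
  constructor
  · intro h
    rw [Subgroup.le_centralizer_iff] at h ⊢
    have hL' : L ≤ Subgroup.centralizer (YH : Set H) := (le_inf le_rfl h).trans (hc.le.trans inf_le_right)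
    refine hYHc ⊤ inferInstance fun x _ => ?_
    obtain ⟨j, hj⟩ := Cfsg.Agent.Invol.exists_pow_coprime (p := p) x
    exact ⟨j, hL' (hres (Subgroup.subset_closure hj))⟩
  · intro h
    rw [Subgroup.le_centralizer_iff] at h ⊢
    exact (le_inf le_rfl (le_trans le_top h) : L ≤ L ⊓ _).trans (hc.ge.trans inf_le_right)

end Cfsg.Agent.S2825
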