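import Cfsg.Statements.S2826
import Cfsg.Agent.Lib.Invol.PReducedSub
-- import your own Cfsg.Agent.* helpers here

set_option autoImplicit false
open Cfsg

namespace Cfsg.Agent.S2826

/-- Let H be a finite group of characteristic p, T a Sylow p-subgroup, and V a normal elementary abelian p-subgroup of H containing Ω₁(Z(T)). Then C_H(Ω₁(Z(T))) = C_H([V, O^p(H)] ∩ Ω₁(Z(T))), O^p(H) being generated by the elements of order prime to p. -/
theorem result {H : Type*} [Group H] [Finite H] {p : ℕ} [Fact p.Prime] (hH : Subgroup.centralizer (Cfsg.pCore p H : Set H) ≤ Cfsg.pCore p H) (T : Sylow p H) (V : Subgroup H) [V.Normal] (hV : Cfsg.IsElementaryAbelian p V) (hZV : (Cfsg.omegaOne p ((T : Subgroup H) ⊓ Subgroup.centralizer (((T : Subgroup H) : Subgroup H) : Set H))) ≤ V) : Subgroup.centralizer ((Cfsg.omegaOne p ((T : Subgroup H) ⊓ Subgroup.centralizer (((T : Subgroup H) : Subgroup H) : Set H))) : Set H) = Subgroup.centralizer (((⁅V, Cfsg.pResidual p H⁆ ⊓ (Cfsg.omegaOne p ((T : Subgroup H)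 ⊓ Subgroup.centralizer (((T : Subgroup H) : Subgroup H) : Set H)))) : Subgroup H) : Set H) := by
  classical
  refine le_antisymm (Subgroup.centralizer_le inf_le_right) fun g hg => ?_
  rw [Cfsg.Agent.Invol.omegaOne_center_eq, Subgroup.centralizer_closure, Subgroup.mem_centralizer_iff]
  intro z hz
  set U := Subgroup.normalClosure (Cfsg.Agent.Invol.centSet p (T : Subgroup H)) with hU
  have hUn : U.Normal := Subgroup.normalClosure_normal
  have hUV : U ≤ V := Subgroup.normalClosure_le_normal fun x hx => hZV (by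
    rw [Cfsg.Agent.Invol.omegaOne_center_eq]; exact Subgroup.subset_closure hx)
  have hUE : Cfsg.IsElementaryAbelian p U :=
    ⟨⟨⟨fun a b => Subtype.ext (Cfsg.Agent.Invol.comm_of_ea hV (hUV a.2) (hUV b.2))⟩⟩,
      fun a ha => hV.2 a (hUV ha)⟩
  obtain ⟨c, hc, w, hw, he⟩ := Cfsg.Agent.Invol.exists_central_mul hUE T
    (Subgroup.subset_normalClosure hz) hz.2.1
  have hwR : w ∈ ⁅V, Cfsg.pResidual p H⁆ := Subgroup.commutator_mono hUV le_rfl
    (Cfsg.Agent.Invol.commutator_top_le_residual T (fun x hx t ht => hx.2.1 t ht) hw)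
  have hwV : w ∈ V := Subgroup.commutator_le_left V (Cfsg.pResidual p H) hwR
  have hwC : ∀ t ∈ (T : Subgroup H), t * w = w * t := by
    intro t ht
    have h1 : Commute t c := Subgroup.mem_centralizer_iff.mp hc.2 t (Set.mem_univ t)
    have h2 : w = c⁻¹ * z := by rw [he, inv_mul_cancel_left]
    rw [h2]
    exact (h1.inv_right.mul_right (hz.2.1 t ht)).eq
  have hgw : w * g = g * w := Subgroup.mem_centralizer_iff.mp hg w ⟨hwR,
    Subgroup.subset_closure ⟨⟨(Cfsg.Agent.Invol.isPGroup_of_ea hV).le_sylow_of_normal T hwV,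
      Subgroup.mem_centralizer_iff.mpr hwC⟩, hV.2 w hwV⟩⟩
  have hgc : c * g = g * c := (Subgroup.mem_centralizer_iff.mp hc.2 g (Set.mem_univ g)).symm
  rw [he]
  exact ((show Commute c g from hgc).mul_left hgw).eq

end Cfsg.Agent.S2826
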