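import Cfsg.Prelude
import Cfsg.Agent.Lib.Invol.PClosedQuot
import Cfsg.Agent.Lib.Grp.Coprime
-- import your own Cfsg.Agent.* helpers here

set_option autoImplicit false
open Cfsg

open scoped Pointwise commutatorElement

namespace Cfsg.Agent.S2827

/-- Let H be a finite p-irreducible group (not p-closed, and O^p(H) lies in every normal subgroup that is not p-closed) and T a Sylow p-subgroup. Then H is generated by the conjugates of T and H = H'·T; O^p(H) ≤ H'; and for every normal subgroup Y of T not contained in O_p(H), O^p(H) = [O^p(H), Y] and O^p(H) is contained in the normal closure of Y in H. -/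
theorem result {H : Type*} [Group H] [Finite H] {p : ℕ} [Fact p.Prime] (hH : Cfsg.IsPIrreducible p H) (T : Sylow p H) : Subgroup.normalClosure ((T : Subgroup H) : Set H) = ⊤ ∧ commutator H ⊔ (T : Subgroup H) = ⊤ ∧ Cfsg.pResidual p H ≤ commutator H ∧ ∀ Y : Subgroup H, Y ≤ (T : Subgroup H) → (T : Subgroup H) ≤ Subgroup.normalizer (Y : Set H) → ¬ Y ≤ Cfsg.pCore p H → ⁅Cfsg.pResidual p H, Y⁆ = Cfsg.pResidual p H ∧ Cfsg.pResidual p H ≤ Subgroup.normalClosure (Y : Set H) := by
  classical
  obtain ⟨hnc, hirr⟩ := hH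
  haveI : (Cfsg.pResidual p H).Normal := Transfer.instNormalPResidual p
  have hsup : (T : Subgroup H) ⊔ Cfsg.pResidual p H = ⊤ := Transfer.sylow_sup_pResidual T
  have hbig : ∀ Y : Subgroup H, IsPGroup p ↥Y → ¬ Y ≤ Cfsg.pCore p H →
      Cfsg.pResidual p H ≤ Subgroup.normalClosure (Y : Set H) := by
    intro Y hYp hY
    refine hirr _ inferInstance fun hcl => hY ?_
    obtain ⟨Q, hQ⟩ := (hYp.comap_subtype (K := Subgroup.normalClosure (Y : Set H))).exists_le_sylow
    haveI := hcl Q
    haveI := Q.characteristic_of_normal ‹_›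
    refine le_trans ?_ (Grp.le_pCore (N := (Q : Subgroup _).map
      (Subgroup.normalClosure (Y : Set H)).subtype) inferInstance (Q.isPGroup'.map _))
    exact fun y hy => ⟨⟨y, Subgroup.subset_normalClosure hy⟩, hQ hy, rfl⟩
  have hTn : ¬ (T : Subgroup H) ≤ Cfsg.pCore p H := fun hle => hnc fun P => by
    have h1 : (T : Subgroup H) = Cfsg.pCore p H := le_antisymm hle (Grp.pCore_le_sylow T)
    have h2 : (P : Subgroup H) = Cfsg.pCore p H := (Subgroup.eq_of_le_of_card_ge (Grp.pCore_le_sylow P)
      (by rw [← h1, P.card_eq_multiplicity, T.card_eq_multiplicity])).symm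
    rw [h2]; exact Grp.pCore_isNormal
  have htop : Subgroup.normalClosure ((T : Subgroup H) : Set H) = ⊤ :=
    top_le_iff.mp (hsup ▸ sup_le Subgroup.le_normalClosure (hbig _ T.isPGroup' hTn))
  have hcomm : commutator H ⊔ (T : Subgroup H) = ⊤ := by
    haveI : (commutator H ⊔ (T : Subgroup H)).Normal := ⟨fun n hn g => by
      have h1 : ⁅g, n⁆ ∈ commutator H := by
        rw [commutator_def]; exact Subgroup.commutator_mem_commutator trivial trivial
      have h2 := (commutator H ⊔ (T : Subgroup H)).mul_mem (Subgroup.mem_sup_left h1) hn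
      rwa [commutatorElement_def, inv_mul_cancel_right] at h2⟩
    exact top_le_iff.mp (htop ▸ Subgroup.normalClosure_le_normal (fun y hy => Subgroup.mem_sup_right hy))
  refine ⟨htop, hcomm, Invol.pq_residual_le T.isPGroup' (hcomm ▸ le_top), fun Y hYT hTY hY => ?_⟩
  have hYp : IsPGroup p ↥Y := T.isPGroup'.to_le hYT
  have hR := hbig Y hYp hY
  refine ⟨?_, hR⟩
  set R := Cfsg.pResidual p H
  set C := ⁅R, Y⁆
  have hCn : C.Normal := by
    rw [← Subgroup.normalizer_eq_top_iff, eq_top_iff, ← hsup]
    refine sup_le (fun t ht => ?_) (Grp.left_le_normalizer_commutator Y R)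
    rw [Grp.mem_normalizer_iff_smul, ← Grp.map_conj_eq_smul, Subgroup.map_commutator,
      Grp.map_conj_eq_smul, Grp.map_conj_eq_smul, Grp.mem_normalizer_iff_smul.mp (hTY ht),
      Grp.mem_normalizer_iff_smul.mp ((Subgroup.normalizer_eq_top (H := R)).symm ▸ Subgroup.mem_top t)]
  haveI := hCn
  refine le_antisymm (Subgroup.commutator_le_left R Y) ?_
  have hMn : (C ⊔ Y).Normal := by
    rw [← Subgroup.normalizer_eq_top_iff, eq_top_iff, ← hsup]
    refine sup_le (fun t ht => ?_) fun r hr => ?_
    · rw [Grp.mem_normalizer_iff_smul, Subgroup.smul_sup, Grp.mem_normalizer_iff_smul.mp (hTY ht),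
        Grp.mem_normalizer_iff_smul.mp ((Subgroup.normalizer_eq_top (H := C)).symm ▸ Subgroup.mem_top t)]
    · rw [Grp.mem_normalizer_iff_smul]
      refine Subgroup.eq_of_le_of_card_ge ?_ (by rw [Grp.card_conj_smul])
      rw [← Grp.map_conj_eq_smul, Subgroup.map_le_iff_le_comap]
      refine sup_le (fun c hc => Subgroup.mem_sup_left (hCn.conj_mem c hc r)) fun y hy => ?_
      show r * y * r⁻¹ ∈ C ⊔ Y
      have := (C ⊔ Y).mul_mem (Subgroup.mem_sup_left (Subgroup.commutator_mem_commutator hr hy))
        (Subgroup.mem_sup_right hy)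
      rwa [commutatorElement_def, inv_mul_cancel_right] at this
  exact Invol.pq_residual_le hYp (hR.trans (Subgroup.normalClosure_le_normal (fun y hy => Subgroup.mem_sup_right hy)))

end Cfsg.Agent.S2827
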