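import Cfsg.Prelude
import Cfsg.Agent.Lib.Invol.PClosedQuot
-- import your own Cfsg.Agent.* helpers here

set_option autoImplicit false
open Cfsg

open scoped Pointwise commutatorElement

namespace Cfsg.Agent.S2828

/-- Let H be a finite group, p a prime and D a normal p-subgroup of H. Then H is p-irreducible if and only if H/D is p-irreducible, and H is strongly p-irreducible if and only if H/D is strongly p-irreducible. -/
theorem result {H : Type*} [Group H] [Finite H] {p : ℕ} [Fact p.Prime] (D : Subgroup H) [D.Normal] (hD : IsPGroup p ↥D) : (Cfsg.IsPIrreducible p H ↔ Cfsg.IsPIrreducible p (H ⧸ D)) ∧ (Cfsg.IsStronglyPIrreducible p H ↔ Cfsg.IsStronglyPIrreducible p (H ⧸ D)) := by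
  classical
  set π := QuotientGroup.mk' D with hπ
  have hs : Function.Surjective π := QuotientGroup.mk'_surjective D
  have hker : IsPGroup p ↥π.ker := by rw [hπ, QuotientGroup.ker_mk']; exact hD
  have hcl := Invol.pq_isPClosed_iff hs hker
  have hres : (Cfsg.pResidual p H).map π = Cfsg.pResidual p (H ⧸ D) :=
    Transfer.pResidual_map_of_surjective hs
  have hsubcl : ∀ N : Subgroup H, Cfsg.IsPClosed p ↥N ↔ Cfsg.IsPClosed p ↥(N.map π) := fun N =>
    Invol.pq_isPClosed_iff (π.subgroupMap_surjective N) (hker.comap_subtype.of_equiv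
      (MulEquiv.subgroupCongr (by
        ext x
        rw [MonoidHom.mem_ker, Subtype.ext_iff, Subgroup.mem_comap, MonoidHom.mem_ker]
        rfl)))
  have hback : ∀ N : Subgroup H, N.Normal → Cfsg.pResidual p (H ⧸ D) ≤ N.map π →
      Cfsg.pResidual p H ≤ N := by
    intro N hN h
    rw [← hres, Subgroup.map_le_map_iff, hπ, QuotientGroup.ker_mk'] at h
    refine (Subgroup.closure_le _).mpr fun g hg => ?_
    obtain ⟨n, hn, d, hd, rfl⟩ := (Subgroup.coe_mul_of_right_le_normalizer_left _ _ (Subgroup.normalizer_eq_top (H := N) ▸ le_top) : ((N ⊔ D : Subgroup H) : Set H) = _).subset (h (Subgroup.subset_closure hg))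
    have h1 : QuotientGroup.mk' N (n * d) = QuotientGroup.mk' N d := by
      rw [map_mul, show QuotientGroup.mk' N n = 1 from (QuotientGroup.eq_one_iff n).mpr hn, one_mul]
    obtain ⟨k, hk⟩ := hD ⟨d, hd⟩
    have h2 : (QuotientGroup.mk' N (n * d)) ^ p ^ k = 1 := by
      rw [h1, ← map_pow, show d ^ p ^ k = 1 from congrArg Subtype.val hk, map_one]
    have h3 := orderOf_dvd_of_pow_eq_one h2
    have h4 := orderOf_map_dvd (QuotientGroup.mk' N) (n * d)
    have h5 : orderOf (QuotientGroup.mk' N (n * d)) = 1 :=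
      Nat.eq_one_of_dvd_coprimes ((hg : Nat.Coprime _ p).pow_right k) h4 h3
    exact (QuotientGroup.eq_one_iff _).mp (orderOf_eq_one_iff.mp h5)
  have hcom : ∀ N : Subgroup H, ⁅N.map π, (⊤ : Subgroup (H ⧸ D))⁆ ≤ Cfsg.pCore p (H ⧸ D) ↔
      ⁅N, (⊤ : Subgroup H)⁆ ≤ Cfsg.pCore p H := fun N => by
    rw [← Subgroup.map_top_of_surjective π hs, ← Subgroup.map_commutator,
      Subgroup.map_le_iff_le_comap, Invol.pq_comap_pCore hs hker]
  refine ⟨⟨fun h => ?_, fun h => ?_⟩, ⟨fun h => ?_, fun h => ?_⟩⟩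
  · refine ⟨mt hcl.mpr h.1, fun N hN hnc => ?_⟩
    have h1 : (N.comap π).map π = N := Subgroup.map_comap_eq_self_of_surjective hs N
    rw [← h1] at hnc ⊢
    rw [← hres]
    exact Subgroup.map_mono (h.2 _ (hN.comap π) (mt (hsubcl _).mp hnc))
  · exact ⟨mt hcl.mp h.1, fun N hN hnc => hback N hN (h.2 _ (hN.map π hs) (mt (hsubcl _).mpr hnc))⟩
  · refine ⟨mt hcl.mpr h.1, fun N hN hnc => ?_⟩
    have h1 : (N.comap π).map π = N := Subgroup.map_comap_eq_self_of_surjective hs N
    rw [← h1] at hnc ⊢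
    rw [← hres]
    exact Subgroup.map_mono (h.2 _ (hN.comap π) (mt (hcom _).mpr hnc))
  · exact ⟨mt hcl.mp h.1, fun N hN hnc => hback N hN (h.2 _ (hN.map π hs) (mt (hcom _).mp hnc))⟩

end Cfsg.Agent.S2828
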