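import Cfsg.Statements.S2829
import Mathlib
import Cfsg.Agent.Lib.Invol.CharP
-- import your own Cfsg.Agent.* helpers here

set_option autoImplicit false
open Cfsg

namespace Cfsg.Agent.S2829

/-- Every strongly p-irreducible finite group is p-irreducible. -/
theorem result {H : Type*} [Group H] [Finite H] {p : ℕ} [Fact p.Prime] (hH : Cfsg.IsStronglyPIrreducible p H) : Cfsg.IsPIrreducible p H := by
  refine ⟨hH.1, fun N hN hncl => hH.2 N hN fun hle => hncl ?_⟩
  intro P
  have := hN
  set O := (Cfsg.pCore p H).subgroupOf N with hO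
  have hOn : O.Normal := (Invol.pCore_normal p H).subgroupOf N
  have hOP : O ≤ (P : Subgroup N) :=
    IsPGroup.le_sylow_of_normal (Grp.pCore_isPGroup (p := p) (G := H)).comap_subtype P
  refine ⟨fun x hx g => ?_⟩
  open scoped commutatorElement in
  have h1 : ⁅g, x⁆ ∈ O := by
    rw [hO, Subgroup.mem_subgroupOf]
    exact hle (Subgroup.commutator_mem_commutator g.2 (Subgroup.mem_top (x : H)))
  rw [commutatorElement_def] at h1
  simpa using mul_mem (hOP h1) hx

end Cfsg.Agent.S2829
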