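import Cfsg.Prelude
import Cfsg.Agent.Lib.Invol.PClosedQuot
-- import your own Cfsg.Agent.* helpers here

set_option autoImplicit false
open Cfsg

open scoped Pointwise commutatorElement

namespace Cfsg.Agent.S2830

/-- Let H act by conjugation on the elementary abelian p-subgroup V of a finite group G (H ≤ N(V)), with H p-irreducible and O^p(H) not centralizing V. Then C_H(V) is p-closed and C_T(V) ≤ O_p(H) for every p-subgroup T of H. If in addition O_p(H) centralizes V, then C_T(V) = T ∩ O_p(H) for every p-subgroup T of H, and V is p-reduced for H: O_p(H/C_H(V)) = 1. -/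
theorem result {G : Type*} [Group G] [Finite G] {p : ℕ} [Fact p.Prime] (V H : Subgroup G) (hV : Cfsg.IsElementaryAbelian p V) (hHV : H ≤ Subgroup.normalizer (V : Set G)) (hH : Cfsg.IsPIrreducible p ↥H) (hnc : ¬ (Cfsg.pResidual p ↥H).map H.subtype ≤ Subgroup.centralizer (V : Set G)) [hn : ((Subgroup.centralizer (V : Set G)).subgroupOf H).Normal] : Cfsg.IsPClosed p ↥(H ⊓ Subgroup.centralizer (V : Set G)) ∧ (∀ T : Subgroup G, T ≤ H → IsPGroup p ↥T → T ⊓ Subgroup.centralizer (V : Set G) ≤ Cfsg.pCoreOf p H) ∧ (Cfsg.pCoreOf p H ≤ Subgroup.centralizer (V : Set G) → (∀ T : Subgroup G, T ≤ H → IsPGroup p ↥T → T ⊓ Subgroup.centralizer (V : Set G) = T ⊓ Cfsg.pCoreOf p H) ∧ Cfsg.pCore p (↥H ⧸ (Subgroup.centralizer (V : Set G)).subgroupOf H) = ⊥) := by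
  classical
  set C := (Subgroup.centralizer (V : Set G)).subgroupOf H with hC
  obtain ⟨hncl, hirr⟩ := hH
  have hnR : ¬ Cfsg.pResidual p ↥H ≤ C := fun h => hnc (Subgroup.map_le_iff_le_comap.mpr h)
  have hCcl : Cfsg.IsPClosed p ↥C := by
    by_contra h
    exact hnR (hirr C hn h)
  have key : ∀ Y : Subgroup ↥H, IsPGroup p ↥Y → Y ≤ C → Y ≤ Cfsg.pCore p ↥H := by
    intro Y hY hle
    obtain ⟨Q, hQ⟩ := (hY.comap_subtype (K := C)).exists_le_sylow
    haveI := hCcl Q
    haveI := Q.characteristic_of_normal ‹_›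
    refine le_trans ?_ (Grp.le_pCore (N := (Q : Subgroup _).map C.subtype) inferInstance (Q.isPGroup'.map _))
    exact fun y hy => ⟨⟨y, hle hy⟩, hQ hy, rfl⟩
  have hT : ∀ T : Subgroup G, T ≤ H → IsPGroup p ↥T →
      T ⊓ Subgroup.centralizer (V : Set G) ≤ Cfsg.pCoreOf p H := fun T hTH hTp x hx =>
    ⟨⟨x, hTH hx.1⟩, key ((T ⊓ Subgroup.centralizer (V : Set G)).subgroupOf H)
      (hTp.to_le inf_le_left).comap_subtype (Subgroup.comap_mono inf_le_right)
      (Subgroup.mem_subgroupOf.mpr hx), rfl⟩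
  refine ⟨?_, hT, fun hcore => ⟨fun T hTH hTp => le_antisymm (le_inf inf_le_left (hT T hTH hTp))
    (le_inf inf_le_left (inf_le_right.trans hcore)), ?_⟩⟩
  · have e : ↥C ≃* ↥(H ⊓ Subgroup.centralizer (V : Set G)) :=
      (MulEquiv.subgroupCongr (Subgroup.inf_subgroupOf_left (Subgroup.centralizer (V : Set G)) H).symm).trans
        (Subgroup.subgroupOfEquivOfLe inf_le_left)
    exact (Invol.pq_isPClosed_iff (f := e.toMonoidHom) e.surjective (by
      rw [(MonoidHom.ker_eq_bot_iff _).mpr e.injective]; exact IsPGroup.of_bot)).mp hCcl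
  · set π := QuotientGroup.mk' C
    set K := (Cfsg.pCore p (↥H ⧸ C)).comap π
    haveI hKn : K.Normal := Grp.pCore_isNormal.comap π
    obtain ⟨P⟩ : Nonempty (Sylow p ↥K) := inferInstance
    have hres : Cfsg.pResidual p ↥K ≤ C.subgroupOf K := by
      refine (Subgroup.closure_le _).mpr fun g hg => ?_
      obtain ⟨k, hk⟩ := (Grp.pCore_isPGroup (p := p) (G := ↥H ⧸ C)) ⟨π (g : ↥H), g.2⟩
      have h1 : orderOf (π (g : ↥H)) = 1 := Nat.eq_one_of_dvd_coprimes
        ((hg : Nat.Coprime _ p).pow_right k) (orderOf_map_dvd (π.comp K.subtype) g)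
        (orderOf_dvd_of_pow_eq_one (congrArg Subtype.val hk))
      rw [orderOf_eq_one_iff] at h1
      exact (QuotientGroup.eq_one_iff (g : ↥H)).mp h1
    have hsup : (P : Subgroup ↥K) ⊔ C.subgroupOf K = ⊤ :=
      top_le_iff.mp ((Transfer.sylow_sup_pResidual P).ge.trans (sup_le_sup_left hres _))
    have hKcl : Cfsg.IsPClosed p ↥K := by
      by_contra h
      refine hnR (Invol.pq_residual_le (N := C) (D := (P : Subgroup ↥K).map K.subtype)
        (P.isPGroup'.map _) ((hirr K hKn h).trans ?_))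
      intro x hx
      have h1 : (⟨x, hx⟩ : ↥K) ∈ (P : Subgroup ↥K) ⊔ C.subgroupOf K := hsup ▸ Subgroup.mem_top _
      have h2 := Subgroup.mem_map_of_mem K.subtype h1
      rw [Subgroup.map_sup, Subgroup.subgroupOf_map_subtype] at h2
      rw [sup_comm] at h2
      exact (sup_le_sup_right (inf_le_left : C ⊓ K ≤ C) ((P : Subgroup ↥K).map K.subtype)) h2
    have hPC : (P : Subgroup ↥K) ≤ C.subgroupOf K := by
      haveI := hKcl P
      haveI := P.characteristic_of_normal ‹_›
      intro x hx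
      exact hcore ⟨(x : ↥H), Grp.le_pCore (N := (P : Subgroup ↥K).map K.subtype) inferInstance
        (P.isPGroup'.map _) ⟨x, hx, rfl⟩, rfl⟩
    rw [sup_eq_right.mpr hPC, Subgroup.subgroupOf_eq_top] at hsup
    rw [← Subgroup.map_comap_eq_self_of_surjective (QuotientGroup.mk'_surjective C) (Cfsg.pCore p (↥H ⧸ C)),
      Subgroup.map_eq_bot_iff, QuotientGroup.ker_mk']
    exact hsup

end Cfsg.Agent.S2830
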