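import Cfsg.Statements.S2831
import Cfsg.Agent.Lib.Invol.PResidual
-- import your own Cfsg.Agent.* helpers here

set_option autoImplicit false
open Cfsg

namespace Cfsg.Agent.S2831

/-- Let H be a finite group with Sylow p-subgroup T such that H is T-minimal (H is generated by the conjugates of T and T lies in exactly one maximal subgroup of H). Then H is p-irreducible: H is not p-closed and O^p(H) lies in every normal subgroup of H that is not p-closed. -/
theorem result {H : Type*} [Group H] [Finite H] {p : ℕ} [Fact p.Prime] (T : Sylow p H) (hmin : Cfsg.IsMinimalOver (T : Subgroup H)) : Cfsg.IsPIrreducible p H := by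
  obtain ⟨hnc, M, ⟨hM, hTM⟩, huniq⟩ := hmin
  refine ⟨fun hcl => ?_, fun N hN hNc => ?_⟩
  · haveI := hcl T
    rw [Subgroup.normalClosure_eq_self] at hnc
    exact hM.1 (top_le_iff.1 (hnc ▸ hTM))
  haveI := hN
  by_cases hNM : N ≤ M
  · exfalso
    apply hNc
    intro Q
    obtain ⟨P, hP⟩ := (Q.2.map N.subtype).exists_le_sylow
    obtain ⟨g, hg⟩ := MulAction.exists_smul_eq H P T
    have hPN : (P : Subgroup H).subgroupOf N = (Q : Subgroup N) :=
      Q.3 P.isPGroup'.comap_subtype fun x hx => hP ⟨x, hx, rfl⟩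
    have hmap : (Q : Subgroup N).map N.subtype = (P : Subgroup H) ⊓ N := by
      rw [← hPN, Subgroup.subgroupOf_map_subtype]
    have h1 : Subgroup.normalizer (((Q : Subgroup N).map N.subtype : Subgroup H) : Set H) ⊔ N = ⊤ :=
      Sylow.normalizer_sup_eq_top Q
    have hPn : (P : Subgroup H) ≤ Subgroup.normalizer (((P : Subgroup H) ⊓ N : Subgroup H) : Set H) := by
      intro x hx
      refine Subgroup.mem_normalizer_iff.2 fun y => ⟨fun hy => ⟨(P : Subgroup H).mul_mem ((P : Subgroup H).mul_mem hx hy.1) ((P : Subgroup H).inv_mem hx),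
        hN.conj_mem y hy.2 x⟩, fun hy => ⟨?_, ?_⟩⟩
      · have := (P : Subgroup H).mul_mem ((P : Subgroup H).mul_mem ((P : Subgroup H).inv_mem hx) hy.1) hx
        rw [show x⁻¹ * (x * y * x⁻¹) * x = y by group] at this; exact this
      · have := hN.conj_mem _ hy.2 x⁻¹
        simpa [mul_assoc] using this
    have htop : Subgroup.normalizer (((P : Subgroup H) ⊓ N : Subgroup H) : Set H) = ⊤ := by
      by_contra hne
      obtain h | ⟨K, hK, hle⟩ := IsCoatomic.eq_top_or_exists_le_coatom
          (Subgroup.normalizer (((P : Subgroup H) ⊓ N : Subgroup H) : Set H))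
      · exact hne h
      have hKg : K.map (MulAut.conj g).toMonoidHom = M := by
        refine huniq _ ⟨?_, ?_⟩
        · exact (OrderIso.isCoatom_iff (MulEquiv.mapSubgroup (MulAut.conj g)) K).2 hK
        · intro x hx
          rw [← hg] at hx
          obtain ⟨y, hy, rfl⟩ := hx
          exact ⟨y, hle (hPn hy), rfl⟩
      refine hK.1 (top_le_iff.1 (h1 ▸ sup_le (hmap ▸ hle) fun x hx => ?_))
      have h3 : g * x * g⁻¹ ∈ K.map (MulAut.conj g).toMonoidHom := hKg ▸ hNM (hN.conj_mem x hx g)
      obtain ⟨y, hy, hye⟩ := h3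
      exact (MulAut.conj g).injective hye ▸ hy
    haveI : ((P : Subgroup H) ⊓ N).Normal := Subgroup.normalizer_eq_top_iff.1 htop
    rw [← hPN, ← Subgroup.inf_subgroupOf_right]
    exact Subgroup.Normal.subgroupOf inferInstance N
  · have hTN : (T : Subgroup H) ⊔ N = ⊤ := by
      rcases IsCoatomic.eq_top_or_exists_le_coatom ((T : Subgroup H) ⊔ N) with h | ⟨K, hK, hle⟩
      · exact h
      · exact absurd ((huniq K ⟨hK, le_sup_left.trans hle⟩) ▸ le_sup_right.trans hle) hNM
    refine Invol.pResidual_le_of_isPGroup_quotient ?_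
    refine T.2.of_surjective ((QuotientGroup.mk' N).comp (T : Subgroup H).subtype) fun q => ?_
    obtain ⟨x, rfl⟩ := QuotientGroup.mk'_surjective N q
    obtain ⟨t, ht, n, hn, rfl⟩ := Subgroup.mem_sup_of_normal_right.1
      (show x ∈ (T : Subgroup H) ⊔ N from hTN ▸ Subgroup.mem_top x)
    exact ⟨⟨t, ht⟩, by simp [(QuotientGroup.eq_one_iff n).2 hn]⟩

end Cfsg.Agent.S2831
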