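import Cfsg.Statements.S2832
import Mathlib
-- import your own Cfsg.Agent.* helpers here

set_option autoImplicit false
open Cfsg

namespace Cfsg.Agent.S2832

/-- Let H be a finite group with Sylow p-subgroup T such that H is T-minimal (generated by the conjugates of T, with T in exactly one maximal subgroup), and let N be a normal subgroup of H. Then either H/N is a p-group or H/N is minimal over the image of T in the same sense. -/
theorem result {H : Type*} [Group H] [Finite H] {p : ℕ} [Fact p.Prime] (T : Sylow p H) (hmin : Cfsg.IsMinimalOver (T : Subgroup H)) (N : Subgroup H) [N.Normal] : IsPGroup p (H ⧸ N) ∨ Cfsg.IsMinimalOver ((T : Subgroup H).map (QuotientGroup.mk' N)) := by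
  by_cases hp : IsPGroup p (H ⧸ N)
  · exact Or.inl hp
  refine Or.inr ?_
  set f := QuotientGroup.mk' N with hf
  have hsurj : Function.Surjective f := QuotientGroup.mk'_surjective N
  constructor
  · rw [Subgroup.coe_map, ← Subgroup.map_normalClosure _ f hsurj, hmin.1,
      Subgroup.map_top_of_surjective f hsurj]
  · obtain ⟨M, ⟨hM, hTM⟩, huniq⟩ := hmin.2
    have hcoatom : ∀ K : Subgroup (H ⧸ N), IsCoatom K → IsCoatom (K.comap f) := fun K hK =>
      Subgroup.isCoatom_comap_of_surjective hsurj hK
    have hex : ∃ K : Subgroup (H ⧸ N), IsCoatom K ∧ (T : Subgroup H).map f ≤ K := by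
      rcases IsCoatomic.eq_top_or_exists_le_coatom ((T : Subgroup H).map f) with h | h
      · exfalso
        refine hp (IsPGroup.of_equiv ?_ (Subgroup.topEquiv (G := H ⧸ N)))
        rw [← h]
        exact T.isPGroup'.map f
      · exact h
    obtain ⟨K, hK, hTK⟩ := hex
    refine ⟨K, ⟨hK, hTK⟩, fun K' ⟨hK', hTK'⟩ => Subgroup.comap_injective hsurj ?_⟩
    rw [huniq _ ⟨hcoatom K' hK', Subgroup.map_le_iff_le_comap.mp hTK'⟩,
      huniq _ ⟨hcoatom K hK, Subgroup.map_le_iff_le_comap.mp hTK⟩]

end Cfsg.Agent.S2832
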