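import Cfsg.Statements.S2833
import Mathlib
import Cfsg.Agent.Lib.Invol.Closed
import Cfsg.Agent.Lib.Grp.Coprime
-- import your own Cfsg.Agent.* helpers here

set_option autoImplicit false
open Cfsg

namespace Cfsg.Agent.S2833

/-- Let V be a subgroup of a finite group G normalized by the subgroup L, let X ≤ L and g ∈ L with [V, X, X] = 1 and L generated by X and gXg⁻¹. Put W = [V, L]. Then W = [V, X]·[V, gXg⁻¹], C_W(X) = [V, X], and C_W(L) = [V, X] ∩ [V, gXg⁻¹]. -/
theorem result {G : Type*} [Group G] [Finite G] (V L : Subgroup G) (hLV : L ≤ Subgroup.normalizer (V : Set G)) (X : Subgroup G) (hX : X ≤ L) (g : G) (hg : g ∈ L) (hq : ⁅⁅V, X⁆, X⁆ = ⊥) (hgen : X ⊔ X.map (MulAut.conj g).toMonoidHom = L) (W : Subgroup G) (hW : W = ⁅V, L⁆) : ⁅V, X⁆ ⊔ ⁅V, X.map (MulAut.conj g).toMonoidHom⁆ = W ∧ W ⊓ Subgroup.centralizer (X : Set G) = ⁅V, X⁆ ∧ W ⊓ Subgroup.centralizer (L : Set G) = ⁅V, X⁆ ⊓ ⁅V, X.map (MulAut.conj g).toMonoidHom⁆ := by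
  subst hW
  set X' := X.map (MulAut.conj g).toMonoidHom with hX'def
  set A := ⁅V, X⁆ with hA
  set A' := ⁅V, X'⁆ with hA'
  have hXn : X ≤ Subgroup.normalizer (V : Set G) := hX.trans hLV
  have hX'L : X' ≤ L := by
    rintro _ ⟨x, hx, rfl⟩
    exact mul_mem (mul_mem hg (hX hx)) (inv_mem hg)
  have hX'n : X' ≤ Subgroup.normalizer (V : Set G) := hX'L.trans hLV
  have hgV : V.map (MulAut.conj g).toMonoidHom = V := by
    ext y
    rw [Invol.mem_map_conj]
    exact (Subgroup.mem_normalizer_iff''.mp (hLV hg) y).symm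
  have hA'eq : A' = A.map (MulAut.conj g).toMonoidHom := by
    rw [hA, hA', Subgroup.map_commutator, hgV]
  have hq' : ⁅A', X'⁆ = ⊥ := by
    rw [hA'eq, hX'def, ← Subgroup.map_commutator, hq, Subgroup.map_bot]
  have hAV : A ≤ V := Grp.commutator_le_left_of_le_normalizer hXn
  have hA'V : A' ≤ V := Grp.commutator_le_left_of_le_normalizer hX'n
  have hAC : A ≤ Subgroup.centralizer (X : Set G) := Subgroup.commutator_eq_bot_iff_le_centralizer.mp hq
  have hA'C : A' ≤ Subgroup.centralizer (X' : Set G) :=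
    Subgroup.commutator_eq_bot_iff_le_centralizer.mp hq'
  set W0 := A ⊔ A' with hW0
  have hWV : W0 ≤ V := sup_le hAV hA'V
  have hVW : V ≤ Subgroup.normalizer (W0 : Set G) := by
    refine le_trans ?_ (Subgroup.normalizer_inf_normalizer_le_normalizer_sup A A')
    exact le_inf (Grp.left_le_normalizer_commutator X V) (Grp.left_le_normalizer_commutator X' V)
  open scoped commutatorElement in
  have hcase : ∀ Y : Subgroup G, (Y = X ∨ Y = X') → ∀ y ∈ Y, ∀ v ∈ V, ⁅v, y⁆ ∈ W0 := by
    rintro Y (rfl | rfl) y hy v hv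
    · exact Subgroup.mem_sup_left (Subgroup.commutator_mem_commutator hv hy)
    · exact Subgroup.mem_sup_right (Subgroup.commutator_mem_commutator hv hy)
  open scoped commutatorElement in
  have hWle : ⁅V, L⁆ ≤ W0 := by
    rw [Subgroup.commutator_le]
    intro v hv l hl
    rw [← hgen, Subgroup.sup_eq_closure] at hl
    suffices h : ∀ v ∈ V, ⁅v, l⁆ ∈ W0 ∧ l * v * l⁻¹ ∈ V from (h v hv).1
    induction hl using Subgroup.closure_induction_left with
    | one => exact fun v hv => ⟨by simp [commutatorElement_one_right, one_mem], by simpa using hv⟩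
    | mul_left a ha b _ ih =>
      intro v hv
      have ha' : a ∈ X ∨ a ∈ X' := ha
      have haL : a ∈ L := ha'.elim (fun h => hX h) (fun h => hX'L h)
      have haV : ∀ w ∈ V, a * w * a⁻¹ ∈ V := fun w hw => Grp.mem_conj_normalizer (hLV haL) hw
      refine ⟨?_, ?_⟩
      · have e : ⁅v, a * b⁆ = ⁅v, a⁆ * (a * ⁅v, b⁆ * a⁻¹) := by
          simp only [commutatorElement_def]; group
        rw [e]
        have h1 : ∀ w ∈ V, ⁅w, a⁆ ∈ W0 := fun w hw =>
          ha'.elim (fun h => hcase X (Or.inl rfl) a h w hw) (fun h => hcase X' (Or.inr rfl) a h w hw)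
        refine mul_mem (h1 v hv) ?_
        have hw0 := (ih v hv).1
        have e2 : a * ⁅v, b⁆ * a⁻¹ = (⁅⁅v, b⁆, a⁆)⁻¹ * ⁅v, b⁆ := by
          simp only [commutatorElement_def]; group
        rw [e2]
        exact mul_mem (inv_mem (h1 _ (hWV hw0))) hw0
      · have := haV _ (ih v hv).2
        simpa [mul_assoc] using this
    | inv_mul_cancel a ha b _ ih =>
      intro v hv
      have ha' : a⁻¹ ∈ X ∨ a⁻¹ ∈ X' := ha.imp inv_mem inv_mem
      have haL : a⁻¹ ∈ L := ha'.elim (fun h => hX h) (fun h => hX'L h)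
      have haV : ∀ w ∈ V, a⁻¹ * w * a⁻¹⁻¹ ∈ V := fun w hw => Grp.mem_conj_normalizer (hLV haL) hw
      refine ⟨?_, ?_⟩
      · have e : ⁅v, a⁻¹ * b⁆ = ⁅v, a⁻¹⁆ * (a⁻¹ * ⁅v, b⁆ * a⁻¹⁻¹) := by
          simp only [commutatorElement_def]; group
        rw [e]
        have h1 : ∀ w ∈ V, ⁅w, a⁻¹⁆ ∈ W0 := fun w hw =>
          ha'.elim (fun h => hcase X (Or.inl rfl) _ h w hw) (fun h => hcase X' (Or.inr rfl) _ h w hw)
        refine mul_mem (h1 v hv) ?_
        have hw0 := (ih v hv).1
        have e2 : a⁻¹ * ⁅v, b⁆ * a⁻¹⁻¹ = (⁅⁅v, b⁆, a⁻¹⁆)⁻¹ * ⁅v, b⁆ := by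
          simp only [commutatorElement_def]; group
        rw [e2]
        exact mul_mem (inv_mem (h1 _ (hWV hw0))) hw0
      · have := haV _ (ih v hv).2
        simpa [mul_assoc] using this
  have hWeq : W0 = ⁅V, L⁆ :=
    le_antisymm (sup_le (Subgroup.commutator_mono le_rfl hX) (Subgroup.commutator_mono le_rfl hX'L)) hWle
  -- `A` and `A'` normalise each other
  have hdec : ∀ w ∈ W0, ∃ a ∈ A, ∃ a' ∈ A', a * a' = w := by
    intro w hw
    have hn : A' ≤ Subgroup.normalizer (A : Set G) := hA'V.trans (Grp.left_le_normalizer_commutator X V)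
    have hw' : w ∈ ((A ⊔ A' : Subgroup G) : Set G) := hw
    rw [Subgroup.coe_mul_of_right_le_normalizer_left A A' hn] at hw'
    obtain ⟨a, ha, a', ha', rfl⟩ := hw'
    exact ⟨a, ha, a', ha', rfl⟩
  -- an element of `A'` centralising `X` lies in `A`
  have hkey : ∀ b ∈ A', b ∈ Subgroup.centralizer (X : Set G) → b ∈ A := by
    intro b hb hbX
    have hL : b ∈ Subgroup.centralizer (L : Set G) := by
      rw [Subgroup.mem_centralizer_iff]
      intro l hl
      have hle : L ≤ Subgroup.centralizer ({b} : Set G) := by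
        rw [← hgen]
        refine sup_le (fun x hx => ?_) (fun x hx => ?_)
        · exact Subgroup.mem_centralizer_singleton_iff.mpr (Subgroup.mem_centralizer_iff.mp hbX x hx)
        · exact Subgroup.mem_centralizer_singleton_iff.mpr
            (Subgroup.mem_centralizer_iff.mp (hA'C hb) x hx)
      exact Subgroup.mem_centralizer_singleton_iff.mp (hle hl)
    rw [hA'eq, Invol.mem_map_conj] at hb
    have := Subgroup.mem_centralizer_iff.mp hL g hg
    rwa [mul_assoc, ← this, inv_mul_cancel_left] at hb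
  have hkey' : ∀ a ∈ A, a ∈ Subgroup.centralizer (X' : Set G) → a ∈ A' := by
    intro a ha haX'
    have hL : a ∈ Subgroup.centralizer (L : Set G) := by
      rw [Subgroup.mem_centralizer_iff]
      intro l hl
      have hle : L ≤ Subgroup.centralizer ({a} : Set G) := by
        rw [← hgen]
        refine sup_le (fun x hx => ?_) (fun x hx => ?_)
        · exact Subgroup.mem_centralizer_singleton_iff.mpr (Subgroup.mem_centralizer_iff.mp (hAC ha) x hx)
        · exact Subgroup.mem_centralizer_singleton_iff.mpr (Subgroup.mem_centralizer_iff.mp haX' x hx)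
      exact Subgroup.mem_centralizer_singleton_iff.mp (hle hl)
    rw [hA'eq, Invol.mem_map_conj]
    have := Subgroup.mem_centralizer_iff.mp hL g hg
    rwa [mul_assoc, ← this, inv_mul_cancel_left]
  refine ⟨hWeq, le_antisymm ?_ ?_, le_antisymm ?_ ?_⟩
  · rintro w ⟨hw, hwX⟩
    obtain ⟨a, ha, a', ha', rfl⟩ := hdec w (hWle hw)
    refine mul_mem ha (hkey a' ha' ?_)
    have := mul_mem (inv_mem (hAC ha)) hwX
    rwa [inv_mul_cancel_left] at this
  · exact le_inf (hWeq ▸ le_sup_left) hAC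
  · rintro w ⟨hw, hwL⟩
    have hwX : w ∈ Subgroup.centralizer (X : Set G) := Subgroup.centralizer_le hX hwL
    have hwA : w ∈ A := by
      obtain ⟨a, ha, a', ha', rfl⟩ := hdec w (hWle hw)
      refine mul_mem ha (hkey a' ha' ?_)
      have := mul_mem (inv_mem (hAC ha)) hwX
      rwa [inv_mul_cancel_left] at this
    exact ⟨hwA, hkey' w hwA (Subgroup.centralizer_le hX'L hwL)⟩
  · rintro w ⟨hwA, hwA'⟩
    refine ⟨hWeq ▸ Subgroup.mem_sup_left hwA, Subgroup.mem_centralizer_iff.mpr ?_⟩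
    intro l hl
    have hle : L ≤ Subgroup.centralizer ({w} : Set G) := by
      rw [← hgen]
      refine sup_le (fun x hx => ?_) (fun x hx => ?_)
      · exact Subgroup.mem_centralizer_singleton_iff.mpr (Subgroup.mem_centralizer_iff.mp (hAC hwA) x hx)
      · exact Subgroup.mem_centralizer_singleton_iff.mpr (Subgroup.mem_centralizer_iff.mp (hA'C hwA') x hx)
    exact Subgroup.mem_centralizer_singleton_iff.mp (hle hl)

end Cfsg.Agent.S2833
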