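import Cfsg.Prelude
import Cfsg.Agent.Lib.Invol.LLemma
-- import your own Cfsg.Agent.* helpers here

set_option autoImplicit false
open Cfsg

open scoped Pointwise commutatorElement

namespace Cfsg.Agent.S2834

/-- The L-Lemma: let H be a finite group with Sylow p-subgroup T such that H is T-minimal (generated by the conjugates of T, T in exactly one maximal subgroup M), and let A ≤ T with A not contained in O_p(H). Then there is a subgroup L of H containing A·O_p(H) such that (a) A·O_p(L) lies in exactly one maximal subgroup L₀ of L, and L₀ = L ∩ gMg⁻¹ for some g ∈ H; (b) L = ⟨A, xAx⁻¹⟩·O_p(L) for every x ∈ L outside L₀. -/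
theorem result {H : Type*} [Group H] [Finite H] {p : ℕ} [Fact p.Prime] (T : Sylow p H) (hmin : Cfsg.IsMinimalOver (T : Subgroup H)) (M : Subgroup H) (hM : IsCoatom M ∧ (T : Subgroup H) ≤ M) (A : Subgroup H) (hAT : A ≤ (T : Subgroup H)) (hA : ¬ A ≤ Cfsg.pCore p H) : ∃ L : Subgroup H, A ⊔ Cfsg.pCore p H ≤ L ∧ ∃ L₀ : Subgroup H, A ⊔ (Cfsg.pCoreOf p L) ≤ L₀ ∧ L₀ < L ∧ (∀ X : Subgroup H, A ⊔ (Cfsg.pCoreOf p L) ≤ X → X < L → X ≤ L₀) ∧ (∃ g : H, L₀ = L ⊓ ((M : Subgroup H).map (MulAut.conj (g : H)).toMonoidHom)) ∧ ∀ x ∈ L, x ∉ L₀ → (A ⊔ ((A : Subgroup H).map (MulAut.conj (x : H)).toMonoidHom)) ⊔ (Cfsg.pCoreOf p L) = L := by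
  classical
  obtain ⟨hncl, M', ⟨hM'c, -⟩, huniq⟩ := hmin
  have hMe : M = M' := huniq M hM
  subst hMe
  have hsetup : Invol.LL.Setup p (⊤ : Subgroup H) (T : Subgroup H) M :=
    { pT := T.isPGroup'
      TX := le_top
      idx := by rw [Subgroup.relIndex_top_right]; exact T.not_dvd_index
      MX := lt_top_iff_ne_top.mpr hM.1.1
      TM := hM.2
      uniq := fun Y hY hTY => by
        obtain ⟨N, hN, hle⟩ := (eq_top_or_exists_le_coatom Y).resolve_left hY.ne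
        exact hle.trans (huniq N ⟨hN, hTY.trans hle⟩).le }
  have hAO : ¬ A ≤ Cfsg.pCoreOf p (⊤ : Subgroup H) := by rwa [Invol.lg_pCoreOf_top]
  obtain ⟨L, hL, -, L₀, h0, hlt, hmax, ⟨g, -, hg⟩, hgen⟩ :=
    Invol.LL.main _ ⊤ (T : Subgroup H) M A rfl hsetup hAT hAO
  rw [Invol.lg_pCoreOf_top] at hL
  refine ⟨L, hL, L₀, h0, hlt, hmax, ⟨g, ?_⟩, fun x hx hx0 => ?_⟩
  · rw [hg, Grp.map_conj_eq_smul]
  · have := hgen x hx hx0
    rwa [Invol.LL.cj, ← Grp.map_conj_eq_smul] at this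

end Cfsg.Agent.S2834
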