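import Cfsg.Prelude
import Cfsg.Agent.Lib.Invol.MinimalOverBasic
-- import your own Cfsg.Agent.* helpers here

set_option autoImplicit false
open Cfsg

open scoped Pointwise

namespace Cfsg.Agent.S2835

/-- Let L be a finite group, L₀ a maximal subgroup, T a Sylow p-subgroup of L₀ and Y ≤ T, and suppose L is Y-minimal (generated by the conjugates of Y, with Y in exactly one maximal subgroup, necessarily L₀). Then N_L(T) ≤ L₀, O_p(L) ≤ L₀ and T is a Sylow p-subgroup of L; N_L(L₀) = L₀; L = ⟨Y, gYg⁻¹⟩ for each g ∈ L outside L₀; and if Y is abelian then Y ∩ gYg⁻¹ = C_Y(L) for each such g. -/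
theorem result {L : Type*} [Group L] [Finite L] {p : ℕ} [Fact p.Prime] (L₀ : Subgroup L) (hL₀ : IsCoatom L₀) (T : Sylow p ↥L₀) (Y : Subgroup L) (hYT : Y ≤ (T : Subgroup ↥L₀).map L₀.subtype) (hmin : Cfsg.IsMinimalOver Y) : Subgroup.normalizer (((T : Subgroup ↥L₀).map L₀.subtype : Subgroup L) : Set L) ≤ L₀ ∧ Cfsg.pCore p L ≤ L₀ ∧ (∃ P : Sylow p L, (P : Subgroup L) = (T : Subgroup ↥L₀).map L₀.subtype) ∧ Subgroup.normalizer (L₀ : Set L) = L₀ ∧ (∀ g : L, g ∉ L₀ → Y ⊔ Y.map (MulAut.conj g).toMonoidHom = ⊤) ∧ (IsMulCommutative ↥Y → ∀ g : L, g ∉ L₀ → Y ⊓ Y.map (MulAut.conj g).toMonoidHom = Y ⊓ Subgroup.center L) := by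
  have h := Invol.MinOverBasic.setup_of hL₀ hYT hmin
  refine ⟨h.normalizer_T, h.pCore_le_T.trans h.TL, h.sylow, h.normalizer_L₀, fun g hg => ?_,
    fun hab g hg => ?_⟩
  · rw [Grp.map_conj_eq_smul]
    exact h.gen hg
  · rw [Grp.map_conj_eq_smul]
    refine le_antisymm (le_inf inf_le_left fun x hx => ?_) (le_inf inf_le_left fun x hx => ?_)
    · obtain ⟨hx1, hx2⟩ := hx
      have hY : Y ≤ Subgroup.centralizer ({x} : Set L) := fun y hy =>
        Subgroup.mem_centralizer_singleton_iff.mpr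
          (congrArg Subtype.val (hab.is_comm.comm ⟨y, hy⟩ ⟨x, hx1⟩))
      have hYg : MulAut.conj g • Y ≤ Subgroup.centralizer ({x} : Set L) := by
        rw [← Grp.map_conj_eq_smul] at hx2 ⊢
        obtain ⟨a, ha, rfl⟩ := hx2
        rintro _ ⟨b, hb, rfl⟩
        refine Subgroup.mem_centralizer_singleton_iff.mpr ?_
        rw [← map_mul, ← map_mul]
        exact congrArg _ (congrArg Subtype.val (hab.is_comm.comm ⟨b, hb⟩ ⟨a, ha⟩))
      have htop : (⊤ : Subgroup L) ≤ Subgroup.centralizer ({x} : Set L) := h.gen hg ▸ sup_le hY hYg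
      exact Subgroup.mem_center_iff.mpr fun y =>
        Subgroup.mem_centralizer_singleton_iff.mp (htop (Subgroup.mem_top y))
    · rw [← Grp.map_conj_eq_smul]
      exact ⟨x, hx.1, by simp [Subgroup.mem_center_iff.mp hx.2 g]⟩

end Cfsg.Agent.S2835
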