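import Cfsg.Prelude
import Cfsg.Agent.Lib.Invol.MinimalOverBasic
-- import your own Cfsg.Agent.* helpers here

set_option autoImplicit false
open Cfsg

open scoped Pointwise

namespace Cfsg.Agent.S2836

/-- Let L be a finite group, L₀ a maximal subgroup, T a Sylow p-subgroup of L₀, Y ≤ T, and suppose L is Y-minimal. Let D be the intersection of the conjugates of L₀ (the core of L₀). Then D contains O_p(L) and D/O_p(L) is the Frattini subgroup of L/O_p(L), so D is p-closed; and every normal subgroup N of L contained in L₀ is p-closed with N/O_p(N) a nilpotent group of order prime to p. -/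
theorem result {L : Type*} [Group L] [Finite L] {p : ℕ} [Fact p.Prime] (L₀ : Subgroup L) (hL₀ : IsCoatom L₀) (T : Sylow p ↥L₀) (Y : Subgroup L) (hYT : Y ≤ (T : Subgroup ↥L₀).map L₀.subtype) (hmin : Cfsg.IsMinimalOver Y) : (Cfsg.pCore p L ≤ L₀.normalCore ∧ (L₀.normalCore).map (QuotientGroup.mk' (Cfsg.pCore p L)) = frattini (L ⧸ Cfsg.pCore p L) ∧ Cfsg.IsPClosed p ↥(L₀.normalCore)) ∧ ∀ (N : Subgroup L) [N.Normal], N ≤ L₀ → Cfsg.IsPClosed p ↥N ∧ Group.IsNilpotent (↥N ⧸ Cfsg.pCore p ↥N) ∧ (Nat.card (↥N ⧸ Cfsg.pCore p ↥N)).Coprime p := by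
  classical
  have h := Invol.MinOverBasic.setup_of hL₀ hYT hmin
  set T₀ := (T : Subgroup ↥L₀).map L₀.subtype with hT₀
  have hOn := Grp.pCore_isNormal (p := p) (G := L)
  have hO : Cfsg.pCore p L ≤ L₀.normalCore :=
    Subgroup.normal_le_normalCore.mpr (h.pCore_le_T.trans h.TL)
  have main : ∀ (N : Subgroup L) [N.Normal], N ≤ L₀ → Cfsg.IsPClosed p ↥N ∧
      Group.IsNilpotent (↥N ⧸ Cfsg.pCore p ↥N) ∧ (Nat.card (↥N ⧸ Cfsg.pCore p ↥N)).Coprime p := by
    intro N _ hN
    have hX := h.inter_of_normal hN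
    set X := N ⊓ T₀ with hXdef
    have hXn : X.Normal := by rw [hXdef, h.inf_pCore hN]; infer_instance
    set Xs := X.subgroupOf N with hXs
    have hXsn : Xs.Normal := Subgroup.Normal.subgroupOf hXn N
    have hXsp : IsPGroup p ↥Xs := (h.pg.to_le inf_le_right).comap_subtype
    let P₀ : Sylow p ↥N := hXsp.toSylow hX.2
    have hcore : Cfsg.pCore p ↥N = Xs := le_antisymm (Grp.pCore_le_sylow P₀) (Grp.le_pCore hXsn hXsp)
    refine ⟨fun P => ?_, ?_, ?_⟩
    · obtain ⟨g, hg⟩ := MulAction.exists_smul_eq ↥N P₀ P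
      have : (P : Subgroup ↥N) = MulAut.conj g • Xs := by rw [← hg]; rfl
      rw [this, Grp.normalizer_le_smul (Subgroup.normalizer_eq_top (H := Xs)).ge (Subgroup.mem_top g)]
      exact hXsn
    · have key : ∀ (r : ℕ) (_ : Fact r.Prime) (R : Sylow r (↥N ⧸ Cfsg.pCore p ↥N)),
          (R : Subgroup (↥N ⧸ Cfsg.pCore p ↥N)).Normal := by
        intro r _ R
        obtain ⟨R₀, hR₀⟩ := Sylow.mapSurjective_surjective
          (QuotientGroup.mk'_surjective (Cfsg.pCore p ↥N)) r R
        have hn := h.sylow_mod hN R₀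
        have e : (R : Subgroup (↥N ⧸ Cfsg.pCore p ↥N)) =
            ((X ⊔ (R₀ : Subgroup ↥N).map N.subtype).subgroupOf N).map (QuotientGroup.mk' (Cfsg.pCore p ↥N)) := by
          rw [← hR₀, Sylow.coe_mapSurjective, Subgroup.subgroupOf_sup inf_le_left (Subgroup.map_subtype_le _),
            Subgroup.map_sup, ← hXs, ← hcore, QuotientGroup.map_mk'_self, bot_sup_eq, Subgroup.subgroupOf,
            Subgroup.comap_map_eq_self_of_injective (Subgroup.subtype_injective N)]
        rw [e]
        exact (Subgroup.Normal.subgroupOf hn N).map _ (QuotientGroup.mk'_surjective _)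
      exact Grp.isNilpotent_iff_sylow_normal.mpr key
    · rw [← Subgroup.index_eq_card, hcore]
      exact ((Nat.Prime.coprime_iff_not_dvd Fact.out).mpr hX.2).symm
  refine ⟨⟨hO, ?_, (main L₀.normalCore (Subgroup.normalCore_le L₀)).1⟩, main⟩
  set π := QuotientGroup.mk' (Cfsg.pCore p L) with hπ
  have hπs : Function.Surjective π := QuotientGroup.mk'_surjective _
  refine le_antisymm (le_iInf₂ (α := Subgroup (L ⧸ Cfsg.pCore p L)) fun Mb (hMb : IsCoatom Mb) => ?_) ?_
  · set M := Mb.comap π with hMdef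
    have hMco : M ≠ ⊤ := fun ht => hMb.1 (Subgroup.comap_injective hπs (by rw [Subgroup.comap_top]; exact ht))
    have hOM : Cfsg.pCore p L ≤ M := fun x hx => by
      rw [hMdef, Subgroup.mem_comap, hπ, QuotientGroup.mk'_apply, (QuotientGroup.eq_one_iff x).mpr hx]
      exact Mb.one_mem
    rw [Subgroup.map_le_iff_le_comap, ← hMdef]
    by_contra hD
    have hsup : M ⊔ L₀.normalCore = ⊤ := by
      have h1 : Mb < (M ⊔ L₀.normalCore).map π := by
        refine lt_of_le_of_ne ?_ fun e => hD ?_
        · rw [← Subgroup.map_comap_eq_self_of_surjective hπs Mb, ← hMdef]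
          exact Subgroup.map_mono le_sup_left
        · rw [hMdef, e]
          exact le_trans le_sup_right (Subgroup.le_comap_map _ _)
      have h2 := congrArg (Subgroup.comap π) (hMb.2 _ h1)
      rw [Subgroup.comap_top, Subgroup.comap_map_eq, QuotientGroup.ker_mk',
        sup_eq_left.mpr (hO.trans le_sup_right)] at h2
      exact h2
    have hX := h.inter_of_normal (Subgroup.normalCore_le L₀)
    have hMidx : ¬ p ∣ M.index := by
      intro hd
      have e1 := Grp.card_sup_mul_card_inf_normal (H := M) (N := L₀.normalCore)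
      rw [hsup, Subgroup.card_top] at e1
      have e2 : M.index * Nat.card ↥(M ⊓ L₀.normalCore) = Nat.card ↥L₀.normalCore := by
        refine Nat.eq_of_mul_eq_mul_left (Nat.card_pos (α := ↥M)) ?_
        rw [← mul_assoc, M.card_mul_index, e1]
      have e3 : p * Nat.card ↥(L₀.normalCore ⊓ T₀) ∣ Nat.card ↥L₀.normalCore :=
        e2 ▸ Nat.mul_dvd_mul hd (Subgroup.card_dvd_of_le (le_inf (hX.1.trans hOM) inf_le_left))
      rw [← Grp.card_mul_relIndex (inf_le_left : L₀.normalCore ⊓ T₀ ≤ L₀.normalCore), mul_comm p] at e3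
      exact hX.2 (Nat.dvd_of_mul_dvd_mul_left Nat.card_pos e3)
    obtain ⟨S₁⟩ : Nonempty (Sylow p ↥M) := inferInstance
    have hS'idx : ¬ p ∣ ((S₁ : Subgroup ↥M).map M.subtype).index := by
      rw [Subgroup.index_map_subtype]
      exact fun h' => ((Nat.Prime.dvd_mul Fact.out).mp h').elim S₁.not_dvd_index hMidx
    obtain ⟨P, hP⟩ := h.sylow
    obtain ⟨g, hg⟩ := MulAction.exists_smul_eq L ((S₁.isPGroup'.map M.subtype).toSylow hS'idx) P
    have hg' : MulAut.conj g • ((S₁ : Subgroup ↥M).map M.subtype) = T₀ := by rw [← hP, ← hg]; rfl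
    have hY : Y ≤ MulAut.conj g • M := (h.YT.trans hg'.ge).trans
      (Subgroup.pointwise_smul_le_pointwise_smul_iff.mpr (Subgroup.map_subtype_le _))
    have hgne : MulAut.conj g • M ≠ ⊤ := fun ht => hMco (by
      rw [← Grp.map_conj_eq_smul] at ht
      exact top_unique fun x _ => by
        obtain ⟨m, hm, e⟩ := ht.ge (Subgroup.mem_top (MulAut.conj g x))
        exact (MulAut.conj g).injective e ▸ hm)
    refine hD fun x hx => ?_
    have h1 : g * x * g⁻¹ ∈ L₀.normalCore := (inferInstance : L₀.normalCore.Normal).conj_mem x hx g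
    have hle := h.le_L₀ hY hgne
    by_contra hxM
    refine h.co.1 (top_unique ?_)
    have h4 : MulAut.conj g • (M ⊔ L₀.normalCore) ≤ L₀ := by
      rw [Subgroup.smul_sup, Grp.normalizer_le_smul (Subgroup.normalizer_eq_top (H := L₀.normalCore)).ge
        (Subgroup.mem_top g)]
      exact sup_le hle (Subgroup.normalCore_le _)
    rwa [hsup, Grp.normalizer_le_smul (Subgroup.normalizer_eq_top (H := (⊤ : Subgroup L))).ge
      (Subgroup.mem_top g)] at h4
  · have hco : IsCoatom (L₀.map π) := by
      constructor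
      · intro ht
        have := congrArg (Subgroup.comap π) ht
        rw [Subgroup.comap_top, Subgroup.comap_map_eq, QuotientGroup.ker_mk',
          sup_eq_left.mpr (h.pCore_le_T.trans h.TL)] at this
        exact h.co.1 this
      · intro K hK
        have h1 : L₀ < K.comap π := by
          refine lt_of_le_of_ne (Subgroup.map_le_iff_le_comap.mp hK.le) fun e => hK.ne ?_
          rw [e, Subgroup.map_comap_eq_self_of_surjective hπs]
        rw [← Subgroup.map_comap_eq_self_of_surjective hπs K, h.co.2 _ h1,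
          Subgroup.map_top_of_surjective π hπs]
    have h1 : frattini (L ⧸ Cfsg.pCore p L) ≤ L₀.map π := frattini_le_coatom hco
    have h2 : (frattini (L ⧸ Cfsg.pCore p L)).comap π ≤ L₀.normalCore := by
      refine Subgroup.normal_le_normalCore.mpr ((Subgroup.comap_mono h1).trans ?_)
      rw [Subgroup.comap_map_eq, QuotientGroup.ker_mk', sup_eq_left.mpr (h.pCore_le_T.trans h.TL)]
    calc frattini (L ⧸ Cfsg.pCore p L) = ((frattini (L ⧸ Cfsg.pCore p L)).comap π).map π :=
          (Subgroup.map_comap_eq_self_of_surjective hπs _).symm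
      _ ≤ L₀.normalCore.map π := Subgroup.map_mono h2

end Cfsg.Agent.S2836
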