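import Cfsg.Statements.S2839
import Cfsg.Agent.Lib.Invol.WeakClosed
import Cfsg.Agent.Lib.Invol.PResidual
import Cfsg.Agent.Lib.Grp.Cores
-- import your own Cfsg.Agent.* helpers here

set_option autoImplicit false
open Cfsg

namespace Cfsg.Agent.S2839

/-- Let Q be a nontrivial p-subgroup of the finite group H that is a weakly closed subgroup, K a subgroup containing Q and N a normal subgroup of H. Then Q is a weakly closed subgroup of K; every H-conjugate of Q contained in K is a K-conjugate of Q; N_K(Q) contains a Sylow p-subgroup of K; N = N_N(Q)·O^p(N); and QN/N is a weakly closed subgroup of H/N. -/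
theorem result {H : Type*} [Group H] [Finite H] {p : ℕ} [Fact p.Prime] (Q : Subgroup H) (hQp : IsPGroup p ↥Q) (hQ1 : Q ≠ ⊥) (hwc : Cfsg.IsWeaklyClosedSubgroup p Q) (K : Subgroup H) (hQK : Q ≤ K) (N' : Subgroup H) [N'.Normal] : Cfsg.IsWeaklyClosedSubgroup p (Q.subgroupOf K) ∧ (∀ g : H, ((Q : Subgroup H).map (MulAut.conj (g : H)).toMonoidHom) ≤ K → ∃ k ∈ K, ((Q : Subgroup H).map (MulAut.conj (g : H)).toMonoidHom) = ((Q : Subgroup H).map (MulAut.conj (k : H)).toMonoidHom)) ∧ Cfsg.IsParabolic p ((Subgroup.normalizer ((Q : Subgroup H) : Set H)).subgroupOf K) ∧ (N' ⊓ Subgroup.normalizer ((Q : Subgroup H) : Set H)) ⊔ (Cfsg.pResidual p ↥N').map N'.subtype = N' ∧ Cfsg.IsWeaklyClosedSubgroup p (Q.map (QuotientGroup.mk' N')) := by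
  refine ⟨Cfsg.Agent.Invol.wc_subgroupOf hwc hQp hQK, fun g hg => Cfsg.Agent.Invol.wc_conj_mem hwc hQp hQK hg, ?_, ?_, ?_⟩
  · obtain ⟨S, hS⟩ := (hQp.comap_subtype (K := K)).exists_le_sylow
    exact ⟨S, Subgroup.map_le_iff_le_comap.mp (Cfsg.Agent.Invol.wc_normalizes hwc (S.isPGroup'.map K.subtype)
      ((Subgroup.map_subgroupOf_eq_of_le hQK).ge.trans (Subgroup.map_mono hS)))⟩
  · refine le_antisymm (sup_le inf_le_left (Subgroup.map_subtype_le _)) ?_
    obtain ⟨P, hP⟩ := hQp.exists_le_sylow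
    have hPN : (P : Subgroup H) ≤ Subgroup.normalizer (Q : Set H) := Cfsg.Agent.Invol.wc_normalizes hwc P.isPGroup' hP
    set R' : Subgroup N' := (N' ⊓ Subgroup.normalizer (Q : Set H)).subgroupOf N' with hR'
    set O := Cfsg.pResidual p ↥N' with hO
    have hdiv : ¬ p ∣ R'.index := fun hd =>
      Cfsg.Agent.Grp.sylow_inf_normal_relIndex P N' (hd.trans (Subgroup.index_dvd_of_le (H := (P : Subgroup H).subgroupOf N') fun x hx => ⟨x.2, hPN hx⟩))
    have htop : R' ⊔ O = ⊤ := by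
      obtain ⟨k, hk⟩ := (Cfsg.Agent.Invol.isPGroup_quotient_pResidual (p := p) (G := N')).exists_card_eq
      rw [← Subgroup.index_eq_card] at hk
      rw [← Subgroup.index_eq_one]
      obtain ⟨j, -, hj⟩ := (Nat.dvd_prime_pow (Fact.out : p.Prime)).mp (hk ▸ Subgroup.index_dvd_of_le (le_sup_right : O ≤ R' ⊔ O))
      rcases j with - | j
      · simpa using hj
      · exact absurd ((Dvd.intro_left _ (pow_succ p j).symm).trans (hj ▸ Subgroup.index_dvd_of_le (le_sup_left : R' ≤ R' ⊔ O))) hdiv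
    intro x hx
    have : (⟨x, hx⟩ : N') ∈ R' ⊔ O := htop ▸ Subgroup.mem_top _
    have h2 := Subgroup.mem_map_of_mem N'.subtype this
    rw [Subgroup.map_sup, hR', Subgroup.map_subgroupOf_eq_of_le inf_le_left] at h2
    exact h2
  · obtain ⟨T, hT, hTwc⟩ := hwc
    refine ⟨T.mapSurjective (QuotientGroup.mk'_surjective N'), Subgroup.map_mono hT, fun gb => ?_⟩
    obtain ⟨g, rfl⟩ := QuotientGroup.mk'_surjective N' gb
    intro hg
    have hcomm : ∀ h : H, (Q.map (QuotientGroup.mk' N')).map (MulAut.conj (QuotientGroup.mk' N' h)).toMonoidHom =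
        (Q.map (MulAut.conj h).toMonoidHom).map (QuotientGroup.mk' N') := fun h => by
      rw [Subgroup.map_map, Subgroup.map_map]; rfl
    rw [hcomm] at hg ⊢
    have hg' : Q.map (MulAut.conj g).toMonoidHom ≤ (T : Subgroup H) ⊔ N' := by
      have := Subgroup.map_le_iff_le_comap.mp hg
      rwa [Sylow.coe_mapSurjective, Subgroup.comap_map_eq, QuotientGroup.ker_mk'] at this
    obtain ⟨k, hk, he⟩ := Cfsg.Agent.Invol.wc_conj_mem ⟨T, hT, hTwc⟩ hQp (hT.trans le_sup_left) hg'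
    rw [← SetLike.mem_coe, sup_comm, Subgroup.normal_mul] at hk
    obtain ⟨n, hn, t, ht, rfl⟩ := hk
    rw [he, ← hcomm, map_mul, show (QuotientGroup.mk' N') n = 1 from (QuotientGroup.eq_one_iff n).mpr hn, one_mul, hcomm,
      Cfsg.Agent.Invol.wc_map_conj_eq_iff.mpr (Cfsg.Agent.Invol.wc_normalizes ⟨T, hT, hTwc⟩ T.isPGroup' hT ht)]

end Cfsg.Agent.S2839
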