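import Cfsg.Statements.S2840
import Cfsg.Agent.Lib.Invol.WeakClosed
-- import your own Cfsg.Agent.* helpers here

set_option autoImplicit false
open Cfsg

namespace Cfsg.Agent.S2840

/-- Let Q be a nontrivial p-subgroup of the finite group H that is a weakly closed subgroup and K a subgroup containing Q; let K° be the weak closure of Q in K (generated by the H-conjugates of Q inside K). Then K° is generated by the K-conjugates of Q, and K° is the subnormal closure of Q in K. -/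
theorem result {H : Type*} [Group H] [Finite H] {p : ℕ} [Fact p.Prime] (Q : Subgroup H) (hQp : IsPGroup p ↥Q) (hQ1 : Q ≠ ⊥) (hwc : Cfsg.IsWeaklyClosedSubgroup p Q) (K : Subgroup H) (hQK : Q ≤ K) (Kc : Subgroup H) (hKc : Kc = Cfsg.weakClosure Q K) : Kc = ⨆ k : ↥K, ((Q : Subgroup H).map (MulAut.conj ((k : H) : H)).toMonoidHom) ∧ Kc = (Cfsg.subnormalClosure (Q.subgroupOf K)).map K.subtype := by
  subst hKc
  have h1 : Cfsg.weakClosure Q K = ⨆ k : ↥K, Q.map (MulAut.conj (k : H)).toMonoidHom := by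
    refine le_antisymm (iSup_le fun ⟨g, hg⟩ => ?_) (iSup_le fun k => ?_)
    · obtain ⟨k, hk, he⟩ := Cfsg.Agent.Invol.wc_conj_mem hwc hQp hQK hg
      exact he.le.trans (le_iSup (fun k : ↥K => Q.map (MulAut.conj (k : H)).toMonoidHom) ⟨k, hk⟩)
    · refine le_iSup (fun g : {g : H // Q.map (MulAut.conj g).toMonoidHom ≤ K} => Q.map (MulAut.conj (g : H)).toMonoidHom) ⟨k, ?_⟩
      rintro _ ⟨q, hq, rfl⟩
      exact K.mul_mem (K.mul_mem k.2 (hQK hq)) (K.inv_mem k.2)
  refine ⟨h1, ?_⟩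
  have hsn : ∀ S : Subgroup ↥K, S.IsSubnormal → Q.subgroupOf K ≤ S → ∀ k : ↥K, (Q.subgroupOf K).map (MulAut.conj k).toMonoidHom ≤ S := by
    intro S hS
    induction hS with
    | top => intro _ _; exact le_top
    | step A B hle hB hn ih =>
      intro hA k
      obtain ⟨b, hb, he⟩ := Cfsg.Agent.Invol.wc_conj_mem (Cfsg.Agent.Invol.wc_subgroupOf hwc hQp hQK)
        hQp.comap_subtype (hA.trans hle) (ih (hA.trans hle) k)
      rw [he]
      rintro _ ⟨q, hq, rfl⟩
      exact hn.conj_mem ⟨q, hle (hA hq)⟩ (hA hq) ⟨b, hb⟩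
  refine le_antisymm ?_ ?_
  · rw [h1]
    refine iSup_le fun k => ?_
    have hk : (Q.subgroupOf K).map (MulAut.conj k).toMonoidHom ≤ Cfsg.subnormalClosure (Q.subgroupOf K) :=
      le_sInf fun S hS => hsn S hS.2 hS.1 k
    rintro _ ⟨q, hq, rfl⟩
    exact ⟨k * ⟨q, hQK hq⟩ * k⁻¹, hk ⟨⟨q, hQK hq⟩, hq, rfl⟩, rfl⟩
  · set W := Cfsg.weakClosure Q K with hW
    have hWK : W ≤ K := iSup_le fun g => g.2
    have hQW : Q ≤ W := by
      rw [h1]
      refine le_trans ?_ (le_iSup _ (1 : ↥K))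
      rw [OneMemClass.coe_one, Cfsg.Agent.Invol.wc_map_conj_one]
    have hKW : ∀ k : ↥K, W.map (MulAut.conj (k : H)).toMonoidHom ≤ W := by
      intro k
      rw [h1, Subgroup.map_iSup]
      refine iSup_le fun l => ?_
      rw [← Cfsg.Agent.Invol.wc_map_conj_mul]
      exact le_iSup (fun j : ↥K => Q.map (MulAut.conj (j : H)).toMonoidHom) (k * l)
    haveI : (W.subgroupOf K).Normal := ⟨fun x hx k => hKW k ⟨x, hx, rfl⟩⟩
    refine (Subgroup.map_mono (sInf_le (show W.subgroupOf K ∈ {S : Subgroup ↥K | Q.subgroupOf K ≤ S ∧ S.IsSubnormal} from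
      ⟨fun x hx => hQW hx, Subgroup.Normal.isSubnormal inferInstance⟩))).trans ?_
    exact Subgroup.map_le_iff_le_comap.mpr le_rfl

end Cfsg.Agent.S2840
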