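import Cfsg.Statements.S2841
import Cfsg.Agent.Lib.Invol.WeakClosed
-- import your own Cfsg.Agent.* helpers here

set_option autoImplicit false
open Cfsg

namespace Cfsg.Agent.S2841

open scoped commutatorElement

/-- Let Q be a nontrivial p-subgroup of the finite group H that is a weakly closed subgroup and N a normal subgroup of H. Then N = N_N(Q)·[N, Q] and [N, Q] = (Q ∩ [N, Q])·[N, Q, Q]. -/
theorem result {H : Type*} [Group H] [Finite H] {p : ℕ} [Fact p.Prime] (Q : Subgroup H) (hQp : IsPGroup p ↥Q) (hQ1 : Q ≠ ⊥) (hwc : Cfsg.IsWeaklyClosedSubgroup p Q) (N' : Subgroup H) [N'.Normal] : (∀ n : H, n ∈ N' → ∃ a ∈ N' ⊓ Subgroup.normalizer ((Q : Subgroup H) : Set H), ∃ b ∈ ⁅N', Q⁆, n = a * b) ∧ (∀ c : H, c ∈ ⁅N', Q⁆ → ∃ a ∈ Q ⊓ ⁅N', Q⁆, ∃ b ∈ ⁅⁅N', Q⁆, Q⁆, c = a * b) := by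
  set C1 := ⁅N', Q⁆ with hC1
  have hQN : Q ≤ Subgroup.normalizer (N' : Set H) := fun q _ => by
    rw [Subgroup.normalizer_eq_top]; trivial
  refine ⟨fun n hn => Cfsg.Agent.Invol.wc_exists_mul hwc hQp hQN hn, fun c hc => ?_⟩
  have hNQ : ∀ x ∈ Subgroup.normalizer (Q : Set H), x ∈ Subgroup.normalizer ((C1 : Subgroup H) : Set H) := by
    intro x hx
    rw [← Cfsg.Agent.Invol.wc_map_conj_eq_iff, hC1, Subgroup.map_commutator, Cfsg.Agent.Invol.wc_map_conj_eq_iff.mpr hx,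
      Cfsg.Agent.Invol.wc_map_conj_eq_iff.mpr (by rw [Subgroup.normalizer_eq_top]; trivial : x ∈ Subgroup.normalizer (N' : Set H))]
  set C2 := ⁅C1, Q⁆ with hC2
  have hNQ2 : ∀ x ∈ Subgroup.normalizer (Q : Set H), x ∈ Subgroup.normalizer ((C2 : Subgroup H) : Set H) := by
    intro x hx
    rw [← Cfsg.Agent.Invol.wc_map_conj_eq_iff, hC2, Subgroup.map_commutator, Cfsg.Agent.Invol.wc_map_conj_eq_iff.mpr hx,
      Cfsg.Agent.Invol.wc_map_conj_eq_iff.mpr (hNQ x hx)]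
  have hX : Q ⊓ C1 ≤ Subgroup.normalizer ((C2 : Subgroup H) : Set H) := fun x hx => hNQ2 x (Subgroup.le_normalizer hx.1)
  have hle : C1 ≤ (Q ⊓ C1) ⊔ C2 := by
    refine Subgroup.commutator_le.mpr fun n hn q hq => ?_
    obtain ⟨a, ha, b, hb, rfl⟩ := Cfsg.Agent.Invol.wc_exists_mul hwc hQp hQN hn
    rw [show ⁅a * b, q⁆ = a * ⁅b, q⁆ * a⁻¹ * ⁅a, q⁆ by simp [commutatorElement_def, mul_assoc]]
    refine Subgroup.mul_mem _ (Subgroup.mem_sup_right ((Subgroup.mem_normalizer_iff.mp (hNQ2 a ha.2) _).mp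
      (Subgroup.commutator_mem_commutator hb hq))) (Subgroup.mem_sup_left ⟨?_, Subgroup.commutator_mem_commutator ha.1 hq⟩)
    rw [commutatorElement_def]
    exact Q.mul_mem ((Subgroup.mem_normalizer_iff.mp ha.2 q).mp hq) (Q.inv_mem hq)
  have h := hle hc
  rw [← SetLike.mem_coe, Subgroup.coe_mul_of_left_le_normalizer_right _ _ hX] at h
  obtain ⟨a, ha, b, hb, rfl⟩ := h
  exact ⟨a, ha, b, hb, rfl⟩

end Cfsg.Agent.S2841
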