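import Cfsg.Statements.S2843
import Cfsg.Agent.Lib.Invol.LargeSubgroup
-- import your own Cfsg.Agent.* helpers here

set_option autoImplicit false
open Cfsg

namespace Cfsg.Agent.S2843

/-- Let Q be a nontrivial large p-subgroup of the finite group H, Q ≤ L ≤ H, and Y a nontrivial p-subgroup of H normalized by L. Let L° be the weak closure of Q in L (generated by the conjugates of Q inside L). Then L° equals the weak closure of Q in L·C_H(Y), and [L°, C_H(Y)] ≤ O_p(L°); in particular C_H(Y) normalizes L°. -/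
theorem result {H : Type*} [Group H] [Finite H] {p : ℕ} [Fact p.Prime] (Q : Subgroup H) (hQp : IsPGroup p ↥Q) (hQ1 : Q ≠ ⊥) (hL : Cfsg.IsLarge Q) (L : Subgroup H) (hQL : Q ≤ L) (Y : Subgroup H) (hYp : IsPGroup p ↥Y) (hY1 : Y ≠ ⊥) (hLY : L ≤ Subgroup.normalizer ((Y : Subgroup H) : Set H)) : Cfsg.weakClosure Q L = Cfsg.weakClosure Q (L ⊔ Subgroup.centralizer ((Y : Subgroup H) : Set H)) ∧ ⁅Cfsg.weakClosure Q L, Subgroup.centralizer ((Y : Subgroup H) : Set H)⁆ ≤ (Cfsg.pCoreOf p (Cfsg.weakClosure Q L)) ∧ Subgroup.centralizer ((Y : Subgroup H) : Set H) ≤ Subgroup.normalizer (((Cfsg.weakClosure Q L) : Subgroup H) : Set H) := by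
  set C := Subgroup.centralizer (Y : Set H) with hC
  obtain ⟨y, ⟨hyY, hyQ⟩, hy1⟩ := Cfsg.Agent.Invol.lg_exists_fixed hQp hYp hY1 (hQL.trans hLY)
  have hCQ : C ≤ Subgroup.normalizer (Q : Set H) :=
    (Subgroup.centralizer_le (by simpa using hyY)).trans (Cfsg.Agent.Invol.lg_centralizer_singleton_le hL hyQ hy1)
  have hwc := Cfsg.Agent.Invol.lg_wc hQp hQ1 hL
  have hLC : L ≤ Subgroup.normalizer (C : Set H) := fun l hl => Subgroup.mem_normalizer_fintype fun g hg =>
    Subgroup.mem_centralizer_iff.mpr fun a ha => by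
      have h1 := Subgroup.mem_centralizer_iff.mp hg _ ((Subgroup.mem_normalizer_iff''.mp (hLY hl) a).mp ha)
      calc a * (l * g * l⁻¹) = l * (l⁻¹ * a * l * g) * l⁻¹ := by group
        _ = l * (g * (l⁻¹ * a * l)) * l⁻¹ := by rw [h1]
        _ = l * g * l⁻¹ * a := by group
  set W := Cfsg.weakClosure Q L with hW
  have hle : ∀ (K : Subgroup H) (g : H), Q.map (MulAut.conj g).toMonoidHom ≤ K →
      Q.map (MulAut.conj g).toMonoidHom ≤ Cfsg.weakClosure Q K := fun K g hg =>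
    le_iSup (fun g : {g : H // Q.map (MulAut.conj g).toMonoidHom ≤ K} => Q.map (MulAut.conj (g : H)).toMonoidHom) ⟨g, hg⟩
  have hCl : ∀ l ∈ L, C ≤ Subgroup.normalizer ((Q.map (MulAut.conj l).toMonoidHom : Subgroup H) : Set H) := by
    intro l hl c hc
    refine Cfsg.Agent.Invol.wc_le_normalizer_map l hCQ ⟨l⁻¹ * c * l, ?_, by simp [mul_assoc]⟩
    exact (Subgroup.mem_normalizer_iff''.mp (hLC hl) c).mp hc
  have hconj : ∀ g : H, Q.map (MulAut.conj g).toMonoidHom ≤ L ⊔ C → ∃ l ∈ L,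
      Q.map (MulAut.conj g).toMonoidHom = Q.map (MulAut.conj l).toMonoidHom := by
    intro g hg
    obtain ⟨k, hk, he⟩ := Cfsg.Agent.Invol.wc_conj_mem hwc hQp (hQL.trans le_sup_left) hg
    rw [← SetLike.mem_coe, Subgroup.coe_mul_of_left_le_normalizer_right _ _ hLC] at hk
    obtain ⟨l, hl, c, hc, rfl⟩ := hk
    exact ⟨l, hl, he.trans (by rw [Cfsg.Agent.Invol.wc_map_conj_mul, Cfsg.Agent.Invol.wc_map_conj_eq_iff.mpr (hCQ hc)])⟩
  have hconjL : ∀ l ∈ L, Q.map (MulAut.conj l).toMonoidHom ≤ L := by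
    rintro l hl _ ⟨q, hq, rfl⟩
    exact L.mul_mem (L.mul_mem hl (hQL hq)) (L.inv_mem hl)
  have hCW : C ≤ Subgroup.normalizer (W : Set H) := by
    intro c hc
    refine Subgroup.mem_normalizer_fintype fun x hx => ?_
    have : W.map (MulAut.conj c).toMonoidHom ≤ W := by
      rw [hW, Cfsg.weakClosure, Subgroup.map_iSup]
      refine iSup_le fun g => ?_
      obtain ⟨l, hl, he⟩ := hconj g.1 (g.2.trans le_sup_left)
      rw [he, Cfsg.Agent.Invol.wc_map_conj_eq_iff.mpr (hCl l hl hc)]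
      exact hle L l (hconjL l hl)
    exact this ⟨x, hx, rfl⟩
  set K := Cfsg.pCoreOf p C with hK
  have hWL : W ≤ L := iSup_le fun g => g.2
  have hWK : W ≤ Subgroup.normalizer (K : Set H) :=
    (hWL.trans hLC).trans (Cfsg.Agent.Invol.lg_normalizer_le_normalizer_pCoreOf C)
  have hcomm : ⁅W, C⁆ ≤ K := by
    let D : Subgroup H :=
      { carrier := {w | w ∈ Subgroup.normalizer (K : Set H) ∧ ∀ c ∈ C, w * c * w⁻¹ * c⁻¹ ∈ K}
        one_mem' := ⟨Subgroup.one_mem _, fun c _ => by simp⟩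
        mul_mem' := by
          rintro a b ⟨ha, ha'⟩ ⟨hb, hb'⟩
          refine ⟨Subgroup.mul_mem _ ha hb, fun c hc => ?_⟩
          rw [show a * b * c * (a * b)⁻¹ * c⁻¹ = a * (b * c * b⁻¹ * c⁻¹) * a⁻¹ * (a * c * a⁻¹ * c⁻¹) by group]
          exact K.mul_mem ((Subgroup.mem_normalizer_iff.mp ha _).mp (hb' c hc)) (ha' c hc)
        inv_mem' := by
          rintro a ⟨ha, ha'⟩
          refine ⟨Subgroup.inv_mem _ ha, fun c hc => ?_⟩
          have h := (Subgroup.mem_normalizer_iff''.mp ha _).mp (K.inv_mem (ha' c hc))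
          simpa [mul_assoc] using h }
    refine Subgroup.commutator_le.mpr fun w hw c hc => ?_
    have : W ≤ D := by
      refine iSup_le fun g => ?_
      obtain ⟨l, hl, he⟩ := hconj g.1 (g.2.trans le_sup_left)
      rw [he]
      set R := Q.map (MulAut.conj l).toMonoidHom with hR
      have hRC : R ⊓ C ≤ K := Cfsg.Agent.Invol.lg_le_pCoreOf inf_le_right
        (fun c' hc' => Subgroup.mem_normalizer_fintype fun z hz =>
          ⟨(Subgroup.mem_normalizer_iff.mp (hCl l hl hc') z).mp hz.1, C.mul_mem (C.mul_mem hc' hz.2) (C.inv_mem hc')⟩)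
        ((hQp.map _).to_le inf_le_left)
      intro r hr
      have hrL : r ∈ L := hconjL l hl hr
      refine ⟨Cfsg.Agent.Invol.lg_normalizer_le_normalizer_pCoreOf C (hLC hrL), fun c' hc' => hRC ⟨?_, ?_⟩⟩
      · rw [show r * c' * r⁻¹ * c'⁻¹ = r * (c' * r⁻¹ * c'⁻¹) by group]
        exact R.mul_mem hr ((Subgroup.mem_normalizer_iff.mp (hCl l hl hc') _).mp (R.inv_mem hr))
      · exact C.mul_mem ((Subgroup.mem_normalizer_iff.mp (hLC hrL) c').mp hc') (C.inv_mem hc')
    rw [commutatorElement_def]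
    exact (this hw).2 c hc
  refine ⟨le_antisymm (iSup_le fun g => hle _ g.1 (g.2.trans le_sup_left)) (iSup_le fun g => ?_), ?_, hCW⟩
  · obtain ⟨l, hl, he⟩ := hconj g.1 g.2
    rw [he]
    exact hle L l (hconjL l hl)
  · refine le_trans ?_ (Cfsg.Agent.Invol.lg_le_pCoreOf (U := W ⊓ K) inf_le_left
      (fun w hw => Subgroup.mem_normalizer_fintype fun z hz =>
        ⟨W.mul_mem (W.mul_mem hw hz.1) (W.inv_mem hw), (Subgroup.mem_normalizer_iff.mp (hWK hw) z).mp hz.2⟩)
      ((Cfsg.Agent.Invol.lg_isPGroup_pCoreOf C).to_le inf_le_right))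
    refine le_inf ?_ hcomm
    refine Subgroup.commutator_le.mpr fun w hw c hc => ?_
    rw [commutatorElement_def, show w * c * w⁻¹ * c⁻¹ = w * (c * w⁻¹ * c⁻¹) by group]
    exact W.mul_mem hw ((Subgroup.mem_normalizer_iff.mp (hCW hc) _).mp (W.inv_mem hw))

end Cfsg.Agent.S2843
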