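import Cfsg.Prelude
import Cfsg.Agent.Lib.Invol.LargeSubgroup
-- import your own Cfsg.Agent.* helpers here

set_option autoImplicit false
open Cfsg

open scoped Pointwise commutatorElement

namespace Cfsg.Agent.S2844

/-- Let Q be a nontrivial large p-subgroup of the finite group H and Q• = O_p(N_H(Q)). Then for every g ∈ H outside N_H(Q): C_H(Q) ∩ C_H(gQg⁻¹) = 1, C_H(Q•) ∩ C_H(gQ•g⁻¹) = 1, Z(Q) ∩ Z(gQg⁻¹) = 1 and Z(Q•) ∩ Z(gQ•g⁻¹) = 1; moreover N_H(Q) = N_H(Q•) and Q• is large in H. -/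
theorem result {H : Type*} [Group H] [Finite H] {p : ℕ} [Fact p.Prime] (Q : Subgroup H) (hQp : IsPGroup p ↥Q) (hQ1 : Q ≠ ⊥) (hL : Cfsg.IsLarge Q) (Qb : Subgroup H) (hQb : Qb = Cfsg.largeBullet p Q) : (∀ g : H, g ∉ Subgroup.normalizer ((Q : Subgroup H) : Set H) → Subgroup.centralizer ((Q : Subgroup H) : Set H) ⊓ Subgroup.centralizer ((((Q : Subgroup H).map (MulAut.conj (g : H)).toMonoidHom) : Subgroup H) : Set H) = ⊥ ∧ Subgroup.centralizer ((Qb : Subgroup H) : Set H) ⊓ Subgroup.centralizer ((((Qb : Subgroup H).map (MulAut.conj (g : H)).toMonoidHom) : Subgroup H) : Set H) = ⊥ ∧ (Q ⊓ Subgroup.centralizer ((Q : Subgroup H) : Set H)) ⊓ (((Q : Subgroup H).map (MulAut.conj (g : H)).toMonoidHom) ⊓ Subgroup.centralizer ((((Q : Subgroup H).map (MulAut.conj (g : H)).toMonoidHom) : Subgroup H) : Set H)) = ⊥ ∧ (Qb ⊓ Subgroup.centralizer ((Qb : Subgroup H) : Set H)) ⊓ (((Qb : Subgroup H).map (MulAut.conj (g : H)).toMonoidHom) ⊓ Subgroup.centralizer ((((Qb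 : Subgroup H).map (MulAut.conj (g : H)).toMonoidHom) : Subgroup H) : Set H)) = ⊥) ∧ Subgroup.normalizer ((Q : Subgroup H) : Set H) = Subgroup.normalizer ((Qb : Subgroup H) : Set H) ∧ Cfsg.IsLarge Qb := by
  have hwc := Invol.lg_wc hQp hQ1 hL
  subst hQb
  set N := Subgroup.normalizer (Q : Set H) with hN
  set B := Cfsg.largeBullet p Q with hB
  have hBp : IsPGroup p ↥B := Invol.lg_isPGroup_pCoreOf N
  have hQB : Q ≤ B := Invol.lg_le_pCoreOf Subgroup.le_normalizer le_rfl hQp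
  have hNB : N = Subgroup.normalizer (B : Set H) :=
    le_antisymm (Invol.lg_le_normalizer_pCoreOf N) (Invol.wc_le_normalizer hwc hBp hQB)
  have hCB : Subgroup.centralizer (B : Set H) ≤ Subgroup.centralizer (Q : Set H) := Subgroup.centralizer_le hQB
  have key : ∀ g : H, g ∉ N → Subgroup.centralizer (Q : Set H) ⊓
      Subgroup.centralizer ((Q.map (MulAut.conj g).toMonoidHom : Subgroup H) : Set H) = ⊥ := by
    intro g hg
    by_contra hU
    refine hg (Invol.wc_map_conj_eq_iff.mp ?_)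
    set W := Q.map (MulAut.conj g).toMonoidHom
    have hWN : W ≤ N := by
      refine le_trans ?_ (hL.2 _ inf_le_left hU)
      exact le_trans (Subgroup.le_centralizer_iff.mp inf_le_right) (Subgroup.centralizer_le_normalizer _)
    exact Invol.wc_eq hwc (IsPGroup.to_sup_of_normal_left' hQp (hQp.map _) hWN) le_sup_left le_sup_right
  refine ⟨fun g hg => ⟨key g hg, le_bot_iff.mp ?_, le_bot_iff.mp ?_, le_bot_iff.mp ?_⟩, hNB,
    hCB.trans (hL.1.trans hQB), fun U hU hU1 => (hL.2 U (hU.trans hCB) hU1).trans hNB.le⟩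
  · exact (key g hg).symm ▸ inf_le_inf hCB (Subgroup.centralizer_le (Subgroup.map_mono hQB))
  · exact (key g hg).symm ▸ inf_le_inf inf_le_right inf_le_right
  · exact (key g hg).symm ▸ inf_le_inf (inf_le_right.trans hCB)
      (inf_le_right.trans (Subgroup.centralizer_le (Subgroup.map_mono hQB)))

end Cfsg.Agent.S2844
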