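import Cfsg.Statements.S2845
import Cfsg.Agent.Lib.Invol.LargeSubgroup
-- import your own Cfsg.Agent.* helpers here

set_option autoImplicit false
open Cfsg

namespace Cfsg.Agent.S2845

/-- Let Q be a nontrivial large p-subgroup of the finite group H. Then for every subgroup L ≥ Q with O_p(L) ≠ 1, C_H(O_p(L)) is a p-group and L has characteristic p, and either the weak closure L° of Q in L equals Q or C_H(L°) = 1; for every subgroup R of H containing a Sylow p-subgroup of H with O_p(R) ≠ 1, C_H(O_p(R)) ≤ O_p(R); and H has parabolic characteristic p. -/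
theorem result {H : Type*} [Group H] [Finite H] {p : ℕ} [Fact p.Prime] (Q : Subgroup H) (hQp : IsPGroup p ↥Q) (hQ1 : Q ≠ ⊥) (hL : Cfsg.IsLarge Q) : (∀ L : Subgroup H, Q ≤ L → Cfsg.pCore p ↥L ≠ ⊥ → IsPGroup p ↥(Subgroup.centralizer (((Cfsg.pCoreOf p L) : Subgroup H) : Set H)) ∧ Subgroup.centralizer (Cfsg.pCore p ↥L : Set ↥L) ≤ Cfsg.pCore p ↥L ∧ (Cfsg.weakClosure Q L = Q ∨ Subgroup.centralizer (((Cfsg.weakClosure Q L) : Subgroup H) : Set H) = ⊥)) ∧ (∀ R : Subgroup H, Cfsg.IsParabolic p R → Cfsg.pCore p ↥R ≠ ⊥ → Subgroup.centralizer (((Cfsg.pCoreOf p R) : Subgroup H) : Set H) ≤ (Cfsg.pCoreOf p R)) ∧ Cfsg.IsOfParabolicCharacteristic p H := by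
  have hwc := Cfsg.Agent.Invol.lg_wc hQp hQ1 hL
  refine ⟨fun L hQL hO => ?_, fun R hR hO => Cfsg.Agent.Invol.lg_parabolic_centralizer hQp hQ1 hL hR hO, fun R hRp hR1 hpar => ?_⟩
  · obtain ⟨h2, h3⟩ := Cfsg.Agent.Invol.lg_large_centralizer hQp hQ1 hL hQL hO
    refine ⟨h2, Cfsg.Agent.Invol.lg_charP_iff.mpr h3, ?_⟩
    set W := Cfsg.weakClosure Q L with hW
    have hQW : Q ≤ W := le_trans (Cfsg.Agent.Invol.wc_map_conj_one Q).ge
      (le_iSup (fun g : {g : H // Q.map (MulAut.conj g).toMonoidHom ≤ L} => Q.map (MulAut.conj (g : H)).toMonoidHom)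
        ⟨1, (Cfsg.Agent.Invol.wc_map_conj_one Q).le.trans hQL⟩)
    by_cases hC : Subgroup.centralizer (W : Set H) = ⊥
    · exact Or.inr hC
    left
    obtain ⟨⟨y, hy⟩, hy1⟩ := Subgroup.ne_bot_iff_exists_ne_one.mp hC
    have hWN : W ≤ Subgroup.normalizer (Q : Set H) := by
      refine le_trans ?_ (Cfsg.Agent.Invol.lg_centralizer_singleton_le hL (Subgroup.centralizer_le hQW hy)
        fun h => hy1 (Subtype.ext h))
      intro w hw
      refine Subgroup.mem_centralizer_iff.mpr fun a ha => ?_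
      obtain rfl := Set.mem_singleton_iff.mp ha
      exact (Subgroup.mem_centralizer_iff.mp hy w hw).symm
    refine le_antisymm (iSup_le fun g => ?_) hQW
    have hg : Q.map (MulAut.conj (g : H)).toMonoidHom ≤ W :=
      le_iSup (fun g : {g : H // Q.map (MulAut.conj g).toMonoidHom ≤ L} => Q.map (MulAut.conj (g : H)).toMonoidHom) g
    exact (Cfsg.Agent.Invol.wc_eq hwc (IsPGroup.to_sup_of_normal_right' (hQp.map _) hQp (hg.trans hWN)) le_sup_right le_sup_left).le
  · have hO : Cfsg.pCore p ↥(Subgroup.normalizer (R : Set H)) ≠ ⊥ := fun h => hR1 <| by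
      have h2 : R ≤ Cfsg.pCoreOf p (Subgroup.normalizer (R : Set H)) :=
        Cfsg.Agent.Invol.lg_le_pCoreOf Subgroup.le_normalizer le_rfl hRp
      rw [Cfsg.pCoreOf, h, Subgroup.map_bot] at h2
      exact le_bot_iff.mp h2
    exact Cfsg.Agent.Invol.lg_charP_iff.mpr (inf_le_right.trans (Cfsg.Agent.Invol.lg_parabolic_centralizer hQp hQ1 hL hpar hO))

end Cfsg.Agent.S2845
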