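import Cfsg.Prelude
import Cfsg.Agent.Lib.Invol.FrakMExistence
-- import your own Cfsg.Agent.* helpers here

set_option autoImplicit false
open Cfsg

open scoped Pointwise commutatorElement

namespace Cfsg.Agent.S2846

/-- Let Q be a nontrivial large p-subgroup of the finite group H, S a Sylow p-subgroup containing Q, and L a subgroup containing S with O_p(L) ≠ 1 and C_H(O_p(L)) ≤ O_p(L). Then there are a subgroup M containing S having the basic property (M ∈ 𝔐_H, writing Y_X for the largest p-reduced normal subgroup of X and 𝓛_H for the set of subgroups X with O_p(X) ≠ 1 and C_H(O_p(X)) ≤ O_p(X): M ∈ 𝓛_H, M·C_H(Y_M) is the only maximal member of 𝓛_H containing M and its largest p-reduced normal subgroup is again Y_M, C_M(Y_M) is p-closed, and the image of C_M(Y_M) in M/O_p(M) lies in the Frattini subgroup of M/O_p(M)) and a subgroup L* with S ≤ L* ≤ M, O_p(L*) ≠ 1, C_H(O_p(L*)) ≤ O_p(L*), such that L·C_H(Y_L) = L*·C_H(Y_L),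 the weak closures of Q in L and in L* agree and lie in that of M, and Y_L = Y_{L*} ≤ Y_M. If moreover Q is not normal in L, then Q is normal in neither L* nor M. -/
theorem result {H : Type*} [Group H] [Finite H] {p : ℕ} [Fact p.Prime] (Q : Subgroup H) (hQp : IsPGroup p ↥Q) (hQ1 : Q ≠ ⊥) (hLg : Cfsg.IsLarge Q) (S : Sylow p H) (hQS : Q ≤ (S : Subgroup H)) (L : Subgroup H) (hSL : (S : Subgroup H) ≤ L) (hL : L ∈ Cfsg.charPSubgroups p H) : ∃ M Ls : Subgroup H, (S : Subgroup H) ≤ M ∧ Cfsg.IsInFrakM p M ∧ (S : Subgroup H) ≤ Ls ∧ Ls ≤ M ∧ Ls ∈ Cfsg.charPSubgroups p H ∧ L ⊔ Subgroup.centralizer (((Cfsg.largestPReducedOf p L) : Subgroup H) : Set H) = Ls ⊔ Subgroup.centralizer (((Cfsg.largestPReducedOf p L) : Subgroup H) : Set H) ∧ Cfsg.weakClosure Q L = Cfsg.weakClosure Q Ls ∧ Cfsg.weakClosure Q Ls ≤ Cfsg.weakClosure Q M ∧ (Cfsg.largestPReducedOf p L) = (Cfsg.largestPReducedOf p Ls) ∧ (Cfsg.largestPReducedOf p Ls) ≤ (Cfsg.largestPReducedOf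 p M) ∧ (¬ L ≤ Subgroup.normalizer ((Q : Subgroup H) : Set H) → ¬ Ls ≤ Subgroup.normalizer ((Q : Subgroup H) : Set H) ∧ ¬ M ≤ Subgroup.normalizer ((Q : Subgroup H) : Set H)) := by
  have hP : ∀ K : Subgroup H, (S : Subgroup H) ≤ K → Cfsg.pCore p ↥K ≠ ⊥ →
      Subgroup.centralizer (Cfsg.pCoreOf p K : Set H) ≤ Cfsg.pCoreOf p K :=
    fun K hSK hne => Invol.lg_parabolic_centralizer hQp hQ1 hLg ⟨S, hSK⟩ hne
  obtain ⟨M, Ls, hSM, hM, hSLs, hLsM, hLs, hY, hYM, hfac⟩ := Invol.FrakMExists.exists_frakM S hP L hSL hL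
  obtain ⟨Y, hY'⟩ : ∃ Y, Y = Cfsg.largestPReducedOf p L := ⟨_, rfl⟩
  rw [← hY'] at hY hYM hfac
  have hr := Invol.redIn_largest (p := p) L
  rw [← hY'] at hr
  have hY1 : Y ≠ ⊥ := hY' ▸ Invol.FrakMExists.largest_ne_bot S hL hSL
  obtain ⟨y, ⟨hyY, hyQ⟩, hy1⟩ := Invol.lg_exists_fixed hQp (Invol.isPGroup_of_ea hr.2.1) hY1
    ((hQS.trans hSL).trans hr.2.2.1)
  have hC : Subgroup.centralizer (Y : Set H) ≤ Subgroup.normalizer (Q : Set H) :=
    (Subgroup.centralizer_le (Set.singleton_subset_iff.mpr hyY)).trans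
      (Invol.lg_centralizer_singleton_le hLg hyQ hy1)
  have hCn : L ⊔ Subgroup.centralizer (Y : Set H) ≤
      Subgroup.normalizer (Subgroup.centralizer (Y : Set H) : Set H) :=
    (sup_le hr.2.2.1 (Subgroup.centralizer_le_normalizer _)).trans
      (Invol.FrakMExists.normalizer_le_normalizer_centralizer Y)
  have hwc := Invol.lg_wc hQp hQ1 hLg
  rw [← hY']
  have hwcl : Cfsg.weakClosure Q L = Cfsg.weakClosure Q Ls := le_antisymm
    (Invol.FrakMExists.weakClosure_sup S hQS hwc hQp hSL hSLs hC (le_sup_left.trans (hfac.ge.trans hCn))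
      (le_sup_left.trans hfac.le))
    (Invol.FrakMExists.weakClosure_sup S hQS hwc hQp hSLs hSL hC (le_sup_left.trans hCn)
      (le_sup_left.trans hfac.ge))
  refine ⟨M, Ls, hSM, hM, hSLs, hLsM, hLs, hfac, hwcl, ?_, hY, hY ▸ hYM, fun hn => ?_⟩
  · exact iSup_le fun g => le_iSup_of_le ⟨g.1, g.2.trans hLsM⟩ le_rfl
  · have h : ¬ Ls ≤ Subgroup.normalizer (Q : Set H) := fun h =>
      hn (le_sup_left.trans (hfac.le.trans (sup_le h hC)))
    exact ⟨h, fun h' => h (hLsM.trans h')⟩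

end Cfsg.Agent.S2846
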