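import Cfsg.Prelude
import Cfsg.Agent.Lib.Invol.PReducedSub
import Cfsg.Agent.Lib.Invol.LargeSubgroup
-- import your own Cfsg.Agent.* helpers here

set_option autoImplicit false
open Cfsg

open scoped Pointwise commutatorElement

namespace Cfsg.Agent.S2848

/-- Standing hypotheses: G a finite group, S a Sylow p-subgroup, Q a nontrivial large p-subgroup of G contained in S (C_G(Q) ≤ Q and N_G(U) ≤ N_G(Q) for all nontrivial U ≤ C_G(Q)), and M a subgroup containing S with the basic property (M ∈ 𝔐_G(S)); Y_M denotes the largest p-reduced normal subgroup of M and M† = M·C_G(Y_M). Then O_p(M) is a weakly closed subgroup of M† (for p): it is the only M†-conjugate of itself inside some Sylow p-subgroup of M† containing it. -/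
theorem result {G : Type*} [Group G] [Finite G] {p : ℕ} [Fact p.Prime] (S : Sylow p G) (Q : Subgroup G) (hQp : IsPGroup p ↥Q) (hQ1 : Q ≠ ⊥) (hQS : Q ≤ (S : Subgroup G)) (hQ : Cfsg.IsLarge Q) (M : Subgroup G) (hSM : (S : Subgroup G) ≤ M) (hM : Cfsg.IsInFrakM p M) : Cfsg.IsWeaklyClosedSubgroup p (((Cfsg.pCoreOf p M)).subgroupOf (M ⊔ Subgroup.centralizer (((Cfsg.largestPReducedOf p M) : Subgroup G) : Set G))) := by
  obtain ⟨-, -, -, -, hpc, -⟩ := hM
  set Y := Cfsg.largestPReducedOf p M with hY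
  set C := Subgroup.centralizer (Y : Set G) with hC
  set P := Cfsg.pCoreOf p M with hP
  obtain ⟨-, -, hMY, -⟩ := Invol.redIn_largest (p := p) M
  have hMC : M ≤ Subgroup.normalizer (C : Set G) := fun l hl => Subgroup.mem_normalizer_fintype fun g hg =>
    Subgroup.mem_centralizer_iff.mpr fun a ha => by
      have h1 := Subgroup.mem_centralizer_iff.mp hg _ ((Subgroup.mem_normalizer_iff''.mp (hMY hl) a).mp ha)
      calc a * (l * g * l⁻¹) = l * (l⁻¹ * a * l * g) * l⁻¹ := by group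
        _ = l * (g * (l⁻¹ * a * l)) * l⁻¹ := by rw [h1]
        _ = l * g * l⁻¹ * a := by group
  have hPS : P ≤ (S : Subgroup G) := Invol.pCoreOf_le_sylow S hSM
  have hPM : P ≤ M := Subgroup.map_subtype_le _
  have hSC : (S : Subgroup G) ⊓ C ≤ P := by
    have hle : (S : Subgroup G) ⊓ C ≤ M ⊓ C := inf_le_inf_right C hSM
    have hp : IsPGroup p ↥(((S : Subgroup G) ⊓ C).subgroupOf (M ⊓ C)) := (S.isPGroup'.to_le inf_le_left).comap_subtype
    obtain ⟨P₀, hP₀⟩ := hp.exists_le_sylow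
    have hn : (P₀ : Subgroup ↥(M ⊓ C)).Normal := hpc P₀
    have h1 : (S : Subgroup G) ⊓ C ≤ Cfsg.pCoreOf p (M ⊓ C) := fun x hx =>
      ⟨⟨x, hle hx⟩, (le_sSup ⟨hn, P₀.isPGroup'⟩ : (P₀ : Subgroup ↥(M ⊓ C)) ≤ Cfsg.pCore p ↥(M ⊓ C)) (hP₀ hx), rfl⟩
    refine h1.trans (Invol.lg_le_pCoreOf ((Invol.lg_pCoreOf_le _).trans inf_le_left) ?_ (Invol.lg_isPGroup_pCoreOf _))
    refine le_trans (fun l hl => ?_) (Invol.lg_normalizer_le_normalizer_pCoreOf _)
    exact Subgroup.inf_normalizer_le_normalizer_inf ⟨Subgroup.le_normalizer hl, hMC hl⟩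
  refine ⟨S.subtype (hSM.trans le_sup_left), fun x hx => hPS hx, fun g hg => ?_⟩
  obtain ⟨l, hl, c, hc, hlc⟩ : ∃ l ∈ M, ∃ c ∈ C, l * c = (g : G) := by
    have := g.2
    rwa [← SetLike.mem_coe, Subgroup.coe_mul_of_left_le_normalizer_right _ _ hMC, Set.mem_mul] at this
  have hgP : ∀ x ∈ P, (g : G) * x * (g : G)⁻¹ ∈ P := by
    intro x hx
    have hxM := hPM hx
    have hy : (g : G) * x * (g : G)⁻¹ ∈ (S : Subgroup G) := by
      have h1 := hg ⟨⟨x, le_sup_left (α := Subgroup G) hxM⟩, hx, rfl⟩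
      exact h1
    set c' := l * c * l⁻¹ with hc'
    have hc'C : c' ∈ C := (Subgroup.mem_normalizer_iff.mp (hMC hl) c).mp hc
    set x' := l * x * l⁻¹ with hx'
    have hx'P : x' ∈ P := (Subgroup.mem_normalizer_iff.mp (Invol.lg_le_normalizer_pCoreOf M hl) x).mp hx
    have e : (g : G) * x * (g : G)⁻¹ = c' * x' * c'⁻¹ := by rw [← hlc, hc', hx']; group
    rw [e] at hy ⊢
    have hd : c' * x' * c'⁻¹ * x'⁻¹ ∈ (S : Subgroup G) ⊓ C := by
      refine ⟨(S : Subgroup G).mul_mem hy ((S : Subgroup G).inv_mem (hPS hx'P)), ?_⟩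
      rw [mul_assoc c', mul_assoc c']
      exact C.mul_mem hc'C ((Subgroup.mem_normalizer_iff.mp (hMC (hPM hx'P)) _).mp (C.inv_mem hc'C))
    simpa using P.mul_mem (hSC hd) hx'P
  exact Invol.wc_map_conj_eq_iff.mpr (Subgroup.mem_normalizer_fintype fun x hx => hgP _ hx)

end Cfsg.Agent.S2848
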