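import Cfsg.Prelude
import Cfsg.Agent.Lib.Invol.PReducedSub
import Cfsg.Agent.Lib.Invol.LargeSubgroup
-- import your own Cfsg.Agent.* helpers here

set_option autoImplicit false
open Cfsg

open scoped Pointwise commutatorElement

namespace Cfsg.Agent.S2849

/-- Standing hypotheses: G a finite group, S a Sylow p-subgroup, Q a nontrivial large p-subgroup of G contained in S (C_G(Q) ≤ Q and N_G(U) ≤ N_G(Q) for all nontrivial U ≤ C_G(Q)), and M a subgroup containing S with the basic property (M ∈ 𝔐_G(S)); Y_M denotes the largest p-reduced normal subgroup of M and M† = M·C_G(Y_M). Suppose Y_M is asymmetric in G. Then for every subgroup R with Y_M ≤ R ≤ M†, the normal closure of Y_M in N_G(R) is elementary abelian. -/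
theorem result {G : Type*} [Group G] [Finite G] {p : ℕ} [Fact p.Prime] (S : Sylow p G) (Q : Subgroup G) (hQp : IsPGroup p ↥Q) (hQ1 : Q ≠ ⊥) (hQS : Q ≤ (S : Subgroup G)) (hQ : Cfsg.IsLarge Q) (M : Subgroup G) (hSM : (S : Subgroup G) ≤ M) (hM : Cfsg.IsInFrakM p M) (hasym : ¬ Cfsg.IsSymmetricIn (Cfsg.largestPReducedOf p M)) (R : Subgroup G) (hYR : (Cfsg.largestPReducedOf p M) ≤ R) (hRM : R ≤ (M ⊔ Subgroup.centralizer (((Cfsg.largestPReducedOf p M) : Subgroup G) : Set G))) : Cfsg.IsElementaryAbelian p ((Subgroup.normalClosure ((((Cfsg.largestPReducedOf p M)).subgroupOf (Subgroup.normalizer ((R : Subgroup G) : Set G)) : Subgroup ↥(Subgroup.normalizer ((R : Subgroup G) : Set G))) : Set ↥(Subgroup.normalizer ((R : Subgroup G) : Set G)))).map (Subgroup.normalizer ((R : Subgroup G) : Set G)).subtype) := by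
  classical
  set Y := Cfsg.largestPReducedOf p M with hY
  set N := Subgroup.normalizer (R : Set G) with hN
  obtain ⟨-, hE, hMY, -⟩ := Invol.redIn_largest (p := p) M
  have hdag : M ⊔ Subgroup.centralizer (Y : Set G) ≤ Subgroup.normalizer (Y : Set G) :=
    sup_le hMY (Subgroup.centralizer_le_normalizer _)
  have hYN : Y ≤ N := hYR.trans Subgroup.le_normalizer
  set s : Set G := {z | ∃ g ∈ N, ∃ y ∈ Y, z = g * y * g⁻¹} with hs
  have hkey : ∀ k ∈ N, ∀ y ∈ Y, ∀ y' ∈ Y, y * (k * y' * k⁻¹) = k * y' * k⁻¹ * y := by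
    intro k hk
    set Y' := Y.map (MulAut.conj k).toMonoidHom with hY'
    have h1 : Y' ≤ Subgroup.normalizer (Y : Set G) := by
      rintro _ ⟨y, hy, rfl⟩
      exact hdag (hRM ((Subgroup.mem_normalizer_iff.mp hk y).mp (hYR hy)))
    have h2 : Y ≤ Subgroup.normalizer (Y' : Set G) := by
      intro y hy
      have hy2 : k⁻¹ * y * k ∈ R := (Subgroup.mem_normalizer_iff''.mp hk y).mp (hYR hy)
      have hn := hdag (hRM hy2)
      refine Subgroup.mem_normalizer_fintype ?_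
      rintro _ ⟨z, hz, rfl⟩
      exact ⟨_, (Subgroup.mem_normalizer_iff.mp hn z).mp hz, by simp [mul_assoc]⟩
    have h3 : ⁅Y, Y'⁆ ≤ Y ⊓ Y' := Subgroup.commutator_le.mpr fun a ha b hb => by
      rw [commutatorElement_def]
      refine ⟨?_, Y'.mul_mem ((Subgroup.mem_normalizer_iff.mp (h2 ha) b).mp hb) (Y'.inv_mem hb)⟩
      rw [show a * b * a⁻¹ * b⁻¹ = a * (b * a⁻¹ * b⁻¹) by group]
      exact Y.mul_mem ha ((Subgroup.mem_normalizer_iff.mp (h1 hb) _).mp (Y.inv_mem ha))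
    have h4 : ⁅Y, Y'⁆ = ⊥ := by
      by_contra hne
      exact hasym ⟨k, hne, h3⟩
    intro y hy y' hy'
    have h5 : ⁅y, k * y' * k⁻¹⁆ ∈ ⁅Y, Y'⁆ := Subgroup.commutator_mem_commutator hy ⟨y', hy', rfl⟩
    rw [h4, Subgroup.mem_bot, commutatorElement_eq_one_iff_mul_comm] at h5
    exact h5
  have hea : Cfsg.IsElementaryAbelian p (Subgroup.closure s) := by
    refine Invol.isElementaryAbelian_closure ?_ ?_
    · rintro _ ⟨g, hg, y, hy, rfl⟩ _ ⟨g', hg', y', hy', rfl⟩
      have h := hkey _ (N.mul_mem (N.inv_mem hg) hg') y hy y' hy'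
      calc g * y * g⁻¹ * (g' * y' * g'⁻¹) = g * (y * (g⁻¹ * g' * y' * (g⁻¹ * g')⁻¹)) * g⁻¹ := by group
        _ = g * (g⁻¹ * g' * y' * (g⁻¹ * g')⁻¹ * y) * g⁻¹ := by rw [h]
        _ = g' * y' * g'⁻¹ * (g * y * g⁻¹) := by group
    · rintro _ ⟨g, -, y, hy, rfl⟩
      rw [conj_pow, hE.2 y hy, mul_one, mul_inv_cancel]
  have hle : (Subgroup.normalClosure ((Y.subgroupOf N : Subgroup N) : Set N)).map N.subtype ≤ Subgroup.closure s := by
    rw [Subgroup.normalClosure, MonoidHom.map_closure]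
    refine Subgroup.closure_mono ?_
    rintro _ ⟨z, hz, rfl⟩
    obtain ⟨y, hy, hc⟩ := Group.mem_conjugatesOfSet_iff.mp hz
    obtain ⟨g, rfl⟩ := isConj_iff.mp hc
    exact ⟨g, g.2, y, hy, rfl⟩
  exact ⟨⟨⟨fun a b => Subtype.ext (Invol.comm_of_ea hea (hle a.2) (hle b.2))⟩⟩, fun a ha => hea.2 a (hle ha)⟩

end Cfsg.Agent.S2849
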