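import Cfsg.Prelude
import Cfsg.Agent.Lib.Invol.FrakMAsym
import Cfsg.Agent.Lib.Grp.Subnormal
-- import your own Cfsg.Agent.* helpers here

set_option autoImplicit false
open Cfsg

open scoped Pointwise commutatorElement

namespace Cfsg.Agent.S2851

/-- Standing hypotheses: G a finite group, S a Sylow p-subgroup, Q a nontrivial large p-subgroup of G contained in S, M a subgroup containing S with the basic property (M ∈ 𝔐_G(S)); Y_M the largest p-reduced normal subgroup of M and M† = M·C_G(Y_M). Let F be the preimage in M† of the generalized Fitting subgroup of M†/C_{M†}(Y_M). If Y_M is asymmetric in G and H is a subgroup of characteristic p containing F, then Y_M ≤ Y_H. -/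
theorem result {G : Type*} [Group G] [Finite G] {p : ℕ} [Fact p.Prime] (S : Sylow p G) (Q : Subgroup G) (hQp : IsPGroup p ↥Q) (hQ1 : Q ≠ ⊥) (hQS : Q ≤ (S : Subgroup G)) (hQ : Cfsg.IsLarge Q) (M : Subgroup G) (hSM : (S : Subgroup G) ≤ M) (hM : Cfsg.IsInFrakM p M) (hasym : ¬ Cfsg.IsSymmetricIn (Cfsg.largestPReducedOf p M)) [hn : ((Subgroup.centralizer (((Cfsg.largestPReducedOf p M) : Subgroup G) : Set G)).subgroupOf (M ⊔ Subgroup.centralizer (((Cfsg.largestPReducedOf p M) : Subgroup G) : Set G))).Normal] (F : Subgroup G) (hF : F = ((Cfsg.generalizedFittingSubgroup (↥(M ⊔ Subgroup.centralizer (((Cfsg.largestPReducedOf p M) : Subgroup G) : Set G)) ⧸ (Subgroup.centralizer (((Cfsg.largestPReducedOf p M) : Subgroup G) : Set G)).subgroupOf (M ⊔ Subgroup.centralizer (((Cfsg.largestPReducedOf p M) : Subgroup G) : Set G)))).comap (QuotientGroup.mk' ((Subgroup.centralizer (((Cfsg.largestPReducedOf p M) : Subgroup G) : Set G)).subgroupOf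 (M ⊔ Subgroup.centralizer (((Cfsg.largestPReducedOf p M) : Subgroup G) : Set G))))).map ((M ⊔ Subgroup.centralizer (((Cfsg.largestPReducedOf p M) : Subgroup G) : Set G))).subtype) (H : Subgroup G) (hFH : F ≤ H) (hH : Subgroup.centralizer (Cfsg.pCore p ↥H : Set ↥H) ≤ Cfsg.pCore p ↥H) : (Cfsg.largestPReducedOf p M) ≤ Cfsg.largestPReducedOf p H := by
  obtain ⟨Y, hY⟩ : ∃ Y, Y = Cfsg.largestPReducedOf p M := ⟨_, rfl⟩
  obtain ⟨O, hO⟩ : ∃ O, O = Cfsg.pCoreOf p M := ⟨_, rfl⟩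
  have h : Invol.FrakMAsym.Setup S Q M (M ⊔ Subgroup.centralizer (Y : Set G)) Y O :=
    ⟨hQp, hQ1, hQ, hSM, hM, rfl, hY, hO⟩
  subst hY
  have hwc := h.weaklyClosed hasym
  set Y := Cfsg.largestPReducedOf p M
  set X := M ⊔ Subgroup.centralizer (Y : Set G)
  set C := Subgroup.centralizer (Y : Set G)
  let π := QuotientGroup.mk' (C.subgroupOf X)
  obtain ⟨Fb, hFb⟩ : ∃ Fb, Fb = Cfsg.generalizedFittingSubgroup (↥X ⧸ C.subgroupOf X) := ⟨_, rfl⟩
  rw [← hFb] at hF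
  haveI hFbn : Fb.Normal := by
    rw [hFb, Cfsg.generalizedFittingSubgroup]
    haveI := Grp.fittingSubgroup_isNormal (G := ↥X ⧸ C.subgroupOf X)
    infer_instance
  have hCF : C ≤ F := fun c hc => hF ▸ ⟨⟨c, Subgroup.mem_sup_right hc⟩, by
    rw [SetLike.mem_coe, Subgroup.mem_comap]
    rw [show π ⟨c, _⟩ = 1 from (QuotientGroup.eq_one_iff _).mpr hc]
    exact Fb.one_mem, rfl⟩
  have hFX : F ≤ X := hF ▸ Subgroup.map_subtype_le _
  have hredX : Invol.RedIn p X Y := by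
    have := Invol.redIn_largest (p := p) X
    rwa [← hM.2.2.2.1] at this
  have hcore : Cfsg.pCore p (↥X ⧸ C.subgroupOf X) = ⊥ := by
    rw [eq_bot_iff]
    intro q hq
    obtain ⟨x, rfl⟩ := QuotientGroup.mk'_surjective _ q
    haveI := Invol.pCore_normal p (↥X ⧸ C.subgroupOf X)
    have hle := hredX.2.2.2 (((Cfsg.pCore p _).comap π).map X.subtype) (Subgroup.map_subtype_le _)
      (fun l hl => Subgroup.mem_normalizer_fintype fun a ha => by
        obtain ⟨b, hb, rfl⟩ := ha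
        exact ⟨⟨l, hl⟩ * b * ⟨l, hl⟩⁻¹, (inferInstance : ((Cfsg.pCore p _).comap π).Normal).conj_mem b hb _, rfl⟩)
      (by
        rintro _ ⟨b, hb, rfl⟩
        obtain ⟨k, hk⟩ := (Grp.pCore_isPGroup (p := p) (G := ↥X ⧸ C.subgroupOf X)) ⟨π b, hb⟩
        refine ⟨k, ?_⟩
        have := congrArg Subtype.val hk
        simp only [SubgroupClass.coe_pow, OneMemClass.coe_one] at this
        rw [← map_pow] at this
        exact (QuotientGroup.eq_one_iff (b ^ p ^ k)).mp this)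
    exact (QuotientGroup.eq_one_iff x).mpr (hle ⟨x, hq, rfl⟩)
  have hkill : ∀ W : Subgroup G, W ≤ X → F ≤ Subgroup.normalizer (W : Set G) → Invol.PMod p W C → W ≤ C := by
    intro W hWX hFW hWp
    obtain ⟨Wb, hWb⟩ : ∃ Wb, Wb = (W.subgroupOf X).map π := ⟨_, rfl⟩
    have hWbp : IsPGroup p Wb := by
      rintro ⟨w, hw⟩
      obtain ⟨x, hx, rfl⟩ := hWb ▸ hw
      obtain ⟨k, hk⟩ := hWp x hx
      refine ⟨k, Subtype.ext ?_⟩
      show (π x) ^ p ^ k = 1
      rw [← map_pow]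
      exact (QuotientGroup.eq_one_iff _).mpr hk
    have hFn : Fb ≤ Subgroup.normalizer (Wb : Set _) := by
      intro f hf
      obtain ⟨x, rfl⟩ := QuotientGroup.mk'_surjective _ f
      have hxF : (x : G) ∈ F := hF ▸ ⟨x, hf, rfl⟩
      refine Subgroup.mem_normalizer_fintype fun w hw => ?_
      obtain ⟨y, hy, rfl⟩ := hWb ▸ hw
      rw [hWb]
      refine ⟨x * y * x⁻¹, (Subgroup.mem_normalizer_iff.mp (hFW hxF) y).mp hy, ?_⟩
      simp only [map_mul, map_inv]; rfl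
    have hinf : Wb ⊓ Fb = ⊥ := by
      rw [eq_bot_iff, ← hcore]
      refine Grp.le_pCore_of_isSubnormal ?_ (hWbp.to_le inf_le_left)
      refine Subgroup.IsSubnormal.trans inf_le_right ?_ hFbn.isSubnormal
      refine (Subgroup.normal_subgroupOf_of_le_normalizer ?_).isSubnormal
      exact fun f hf => Subgroup.mem_normalizer_fintype fun a ha => Subgroup.mem_inf.mpr
        ⟨(Subgroup.mem_normalizer_iff.mp (hFn hf) a).mp ha.1, hFbn.conj_mem a ha.2 f⟩
    have hcent : Wb ≤ Subgroup.centralizer (Fb : Set _) := by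
      refine Subgroup.commutator_eq_bot_iff_le_centralizer.mp (le_bot_iff.mp (hinf ▸ Subgroup.commutator_le.mpr ?_))
      intro a ha f hf
      rw [commutatorElement_def]
      refine Subgroup.mem_inf.mpr ⟨?_, Fb.mul_mem (hFbn.conj_mem f hf a) (Fb.inv_mem hf)⟩
      rw [show a * f * a⁻¹ * f⁻¹ = a * (f * a⁻¹ * f⁻¹) by group]
      exact Wb.mul_mem ha ((Subgroup.mem_normalizer_iff.mp (hFn hf) _).mp (Wb.inv_mem ha))
    intro w hw
    have hmem : π ⟨w, hWX hw⟩ ∈ Wb ⊓ Fb :=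
      ⟨hWb ▸ ⟨⟨w, hWX hw⟩, hw, rfl⟩, hFb.ge (Grp.centralizer_gfitting_le (hFb ▸ hcent (hWb ▸ ⟨⟨w, hWX hw⟩, hw, rfl⟩)))⟩
    rw [hinf, Subgroup.mem_bot] at hmem
    exact (QuotientGroup.eq_one_iff (⟨w, hWX hw⟩ : ↥X)).mp hmem
  have hOH : O ≤ H := (h.O_le_centralizer.trans hCF).trans hFH
  obtain ⟨A, hA⟩ : ∃ A, A = Cfsg.pCoreOf p H := ⟨_, rfl⟩
  have hHA : H ≤ Subgroup.normalizer (A : Set G) := hA ▸ Invol.lg_le_normalizer_pCoreOf H
  have hAp : IsPGroup p A := hA ▸ Invol.lg_isPGroup_pCoreOf H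
  have hAX : A ≤ X := (le_sup_left.trans (Subgroup.le_normalizer.trans (Invol.wc_le_normalizer hwc
    (IsPGroup.to_sup_of_normal_left' hAp h.O_isPGroup (hOH.trans hHA)) le_sup_right))).trans h.normalizer_O_le
  have hAC : A ≤ C := hkill A hAX (hFH.trans hHA) (fun a ha => by
    obtain ⟨k, hk⟩ := hAp ⟨a, ha⟩
    exact ⟨k, by rw [show a ^ p ^ k = 1 from congrArg Subtype.val hk]; exact C.one_mem⟩)
  have hYH : Y ≤ H := h.Y_le_O.trans hOH
  have hYA : Y ≤ A := by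
    intro y hy
    rw [hA]
    exact Invol.lg_charP_iff.mp hH ⟨hYH hy, Subgroup.mem_centralizer_iff.mpr fun a ha =>
      (Subgroup.mem_centralizer_iff.mp (hAC (hA ▸ ha)) y hy).symm⟩
  let s : Set G := {x | ∃ g ∈ H, ∃ y ∈ Y, x = g * y * g⁻¹}
  obtain ⟨U, hU⟩ : ∃ U, U = Subgroup.closure s := ⟨_, rfl⟩
  have hs : ∀ x ∈ s, x ∈ A ∧ x ∈ Subgroup.centralizer (A : Set G) ∧ x ^ p = 1 := by
    rintro _ ⟨g, hg, y, hy, rfl⟩
    refine ⟨(Subgroup.mem_normalizer_iff.mp (hHA hg) y).mp (hYA hy), Subgroup.mem_centralizer_iff.mpr fun o ho => ?_, ?_⟩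
    · have h1 := (Subgroup.mem_centralizer_iff.mp (hAC ((Subgroup.mem_normalizer_iff''.mp (hHA hg) o).mp ho)) y hy).symm
      calc o * (g * y * g⁻¹) = g * (g⁻¹ * o * g * y) * g⁻¹ := by group
        _ = g * (y * (g⁻¹ * o * g)) * g⁻¹ := by rw [h1]
        _ = g * y * g⁻¹ * o := by group
    · rw [conj_pow, hredX.2.1.2 y hy, mul_one, mul_inv_cancel]
  have hYU : Y ≤ U := fun y hy => hU ▸ Subgroup.subset_closure ⟨1, H.one_mem, y, hy, by simp⟩
  have hUn : H ≤ Subgroup.normalizer (U : Set G) := fun g hg => Subgroup.mem_normalizer_fintype fun x hx => by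
    have hle : U ≤ U.comap (MulAut.conj g).toMonoidHom := by
      conv_lhs => rw [hU]
      refine (Subgroup.closure_le _).mpr ?_
      rintro _ ⟨a, ha, y, hy, rfl⟩
      exact hU ▸ Subgroup.subset_closure ⟨g * a, H.mul_mem hg ha, y, hy, by simp [mul_assoc]⟩
    exact hle hx
  refine hYU.trans (Invol.RedIn.le_largest ⟨?_, ?_, hUn, fun K hKH hKn hKp => ?_⟩)
  · rw [hU, Subgroup.closure_le]
    exact fun x hx => (hA ▸ Invol.lg_pCoreOf_le H : A ≤ H) (hs x hx).1
  · exact hU ▸ Invol.isElementaryAbelian_closure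
      (fun a ha b hb => Subgroup.mem_centralizer_iff.mp (hs b hb).2.1 a (hs a ha).1) (fun a ha => (hs a ha).2.2)
  obtain ⟨D, hD⟩ : ∃ D, D = K ⊓ Subgroup.centralizer (U : Set G) := ⟨_, rfl⟩
  have hDK : D ≤ K := hD ▸ inf_le_left
  have hDC : D ≤ C := hD ▸ inf_le_right.trans (Subgroup.centralizer_le hYU)
  have hKD : K ≤ Subgroup.normalizer (D : Set G) := fun k hk => Subgroup.mem_normalizer_fintype fun d hd => by
    rw [SetLike.mem_coe, hD] at hd ⊢
    refine Subgroup.mem_inf.mpr ⟨K.mul_mem (K.mul_mem hk hd.1) (K.inv_mem hk), Subgroup.mem_centralizer_iff.mpr fun u hu => ?_⟩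
    have h1 := Subgroup.mem_centralizer_iff.mp hd.2 _ ((Subgroup.mem_normalizer_iff''.mp (hUn (hKH hk)) u).mp hu)
    calc u * (k * d * k⁻¹) = k * (k⁻¹ * u * k * d) * k⁻¹ := by group
      _ = k * (d * (k⁻¹ * u * k)) * k⁻¹ := by rw [h1]
      _ = k * d * k⁻¹ * u := by group
  obtain ⟨T, hT⟩ := (h.O_isPGroup.comap_subtype (K := H)).exists_le_sylow
  obtain ⟨T', hT'⟩ : ∃ T', T' = (T : Subgroup ↥H).map H.subtype := ⟨_, rfl⟩
  have hT'X : T' ≤ X := (hT' ▸ Subgroup.le_normalizer.trans (Invol.wc_le_normalizer hwc (T.isPGroup'.map H.subtype)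
    (fun u hu => ⟨⟨u, hOH hu⟩, hT hu, rfl⟩))).trans h.normalizer_O_le
  have hKX : K ≤ X := by
    haveI : (K.subgroupOf H).Normal := (Subgroup.normal_subgroupOf_iff_le_normalizer hKH).mpr hKn
    have h1 := Grp.sylow_inf_normal_relIndex T (K.subgroupOf H)
    rw [show (T : Subgroup ↥H) = T'.subgroupOf H by
      rw [hT', Subgroup.subgroupOf, Subgroup.comap_map_eq_self_of_injective H.subtype_injective],
      Subgroup.relIndex_subgroupOf hKH] at h1
    haveI : (D.subgroupOf K).Normal := (Subgroup.normal_subgroupOf_iff_le_normalizer hDK).mpr hKD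
    have hq : IsPGroup p (↥K ⧸ D.subgroupOf K) := by
      intro q
      obtain ⟨k, rfl⟩ := QuotientGroup.mk'_surjective _ q
      obtain ⟨n, hn⟩ := hKp k k.2
      refine ⟨n, ?_⟩
      rw [← map_pow]
      exact (QuotientGroup.eq_one_iff _).mpr (hD ▸ ⟨K.pow_mem k.2 _, hn⟩ : ((k : G) ^ p ^ n) ∈ D)
    obtain ⟨n, hn⟩ := IsPGroup.iff_card.mp hq
    obtain ⟨J, hJ⟩ : ∃ J, J = T' ⊓ K ⊔ D := ⟨_, rfl⟩
    have h2 : J.relIndex K ∣ p ^ n := hn ▸ Subgroup.relIndex_dvd_of_le_left K (hJ ▸ le_sup_right : D ≤ J)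
    have h3 : ¬ p ∣ J.relIndex K := fun hd => h1 (by
      rw [← Subgroup.inf_relIndex_right]
      exact hd.trans (Subgroup.relIndex_dvd_of_le_left K (hJ ▸ le_sup_left : T' ⊓ K ≤ J)))
    obtain ⟨j, -, hj⟩ := (Nat.dvd_prime_pow (Fact.out : p.Prime)).mp h2
    have hj0 : j = 0 := by
      rcases Nat.eq_zero_or_pos j with h0 | h0
      · exact h0
      · exact absurd (hj ▸ dvd_pow_self p h0.ne') h3
    rw [hj0, pow_zero, Subgroup.relIndex_eq_one] at hj
    exact hj.trans (hJ ▸ sup_le (inf_le_left.trans hT'X) (hDC.trans le_sup_right))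
  have hKC : K ≤ C := hkill K hKX (hFH.trans hKn) (fun k hk => (hKp k hk).imp fun _ e => Subgroup.centralizer_le hYU e)
  intro k hk
  rw [hU, Subgroup.centralizer_closure, Subgroup.mem_centralizer_iff]
  rintro _ ⟨g, hg, y, hy, rfl⟩
  have h1 := Subgroup.mem_centralizer_iff.mp (hKC ((Subgroup.mem_normalizer_iff''.mp (hKn hg) k).mp hk)) y hy
  calc g * y * g⁻¹ * k = g * (y * (g⁻¹ * k * g)) * g⁻¹ := by group
    _ = g * (g⁻¹ * k * g * y) * g⁻¹ := by rw [h1]
    _ = k * (g * y * g⁻¹) := by group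

end Cfsg.Agent.S2851
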