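import Cfsg.Prelude
import Cfsg.Agent.Lib.Invol.FrakMAsym
-- import your own Cfsg.Agent.* helpers here

set_option autoImplicit false
open Cfsg

open scoped Pointwise commutatorElement

namespace Cfsg.Agent.S2852

/-- Standing hypotheses: G a finite group, S a Sylow p-subgroup, Q a nontrivial large p-subgroup of G contained in S, M a subgroup containing S with the basic property (M ∈ 𝔐_G(S)); Y_M the largest p-reduced normal subgroup of M. If Y_M is char-p-tall and asymmetric in G, then some subgroup H of G lies in ℌ_G(O_p(M)): H has characteristic p, O_p(M) ≤ H, Y_M ≰ O_p(H), and Y_M ≤ O_p(P) for every proper subgroup P of H containing O_p(M). -/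
theorem result {G : Type*} [Group G] [Finite G] {p : ℕ} [Fact p.Prime] (S : Sylow p G) (Q : Subgroup G) (hQp : IsPGroup p ↥Q) (hQ1 : Q ≠ ⊥) (hQS : Q ≤ (S : Subgroup G)) (hQ : Cfsg.IsLarge Q) (M : Subgroup G) (hSM : (S : Subgroup G) ≤ M) (hM : Cfsg.IsInFrakM p M) (htall : Cfsg.IsCharPTall p (Cfsg.largestPReducedOf p M)) (hasym : ¬ Cfsg.IsSymmetricIn (Cfsg.largestPReducedOf p M)) : ∃ H : Subgroup G, Cfsg.IsInFrakH p M H := by
  obtain ⟨Y, hY⟩ : ∃ Y, Y = Cfsg.largestPReducedOf p M := ⟨_, rfl⟩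
  obtain ⟨O, hO⟩ : ∃ O, O = Cfsg.pCoreOf p M := ⟨_, rfl⟩
  have h : Invol.FrakMAsym.Setup S Q M (M ⊔ Subgroup.centralizer (Y : Set G)) Y O :=
    ⟨hQp, hQ1, hQ, hSM, hM, rfl, hY, hO⟩
  rw [← hY] at htall hasym
  have hwc := h.weaklyClosed hasym
  obtain ⟨C, hC⟩ : ∃ C, C = Subgroup.centralizer (Y : Set G) := ⟨_, rfl⟩
  obtain ⟨T, L, hTL, hL, hYL⟩ := htall
  have hOC := h.O_le_centralizer
  obtain ⟨P₀, hP₀⟩ := (h.O_isPGroup.comap_subtype (K := Subgroup.centralizer (Y : Set G))).exists_le_sylow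
  obtain ⟨c, hc⟩ := MulAction.exists_smul_eq ↥(Subgroup.centralizer (Y : Set G)) T P₀
  obtain ⟨L', hL'⟩ : ∃ L', L' = L.map (MulAut.conj (c : G)).toMonoidHom := ⟨_, rfl⟩
  have hOL' : O ≤ L' := by
    intro u hu
    have h1 : (⟨u, hOC hu⟩ : ↥(Subgroup.centralizer (Y : Set G))) ∈
        ((c • T : Sylow p ↥(Subgroup.centralizer (Y : Set G))) : Subgroup _) := by rw [hc]; exact hP₀ hu
    rw [Sylow.coe_subgroup_smul, Subgroup.mem_pointwise_smul_iff_inv_smul_mem] at h1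
    rw [hL']
    refine ⟨_, hTL ⟨_, h1, rfl⟩, ?_⟩
    simp [mul_assoc]
  have hcharL' : Invol.CharP' p L' := hL' ▸ Invol.charP_of_mulEquiv
    (L.equivMapOfInjective (MulAut.conj (c : G)).toMonoidHom (MulAut.conj (c : G)).injective) hL
  have hYL' : ¬ Y ≤ Cfsg.pCoreOf p L' := by
    intro hle
    obtain ⟨U, hU⟩ : ∃ U, U = (Cfsg.pCoreOf p L').map (MulAut.conj (c : G)⁻¹).toMonoidHom := ⟨_, rfl⟩
    have hUL : U ≤ L := by
      rw [hU]; rintro _ ⟨a, ha, rfl⟩
      have ha' := Invol.lg_pCoreOf_le L' ha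
      rw [hL'] at ha'
      obtain ⟨b, hb, rfl⟩ := ha'
      simpa [mul_assoc] using hb
    have hUn : L ≤ Subgroup.normalizer (U : Set G) := fun l hl => Subgroup.mem_normalizer_fintype fun a ha => by
      rw [SetLike.mem_coe, hU] at ha ⊢
      obtain ⟨b, hb, rfl⟩ := ha
      have hn := Invol.lg_le_normalizer_pCoreOf (p := p) L' (show (c : G) * l * (c : G)⁻¹ ∈ L' from hL' ▸ ⟨l, hl, rfl⟩)
      refine ⟨_, (Subgroup.mem_normalizer_iff.mp hn b).mp hb, ?_⟩
      simp [mul_assoc]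
    refine hYL fun y hy => Invol.lg_le_pCoreOf hUL hUn (hU ▸ (Invol.lg_isPGroup_pCoreOf L').map _) ?_
    rw [hU]
    refine ⟨y, hle hy, ?_⟩
    have hcy := Subgroup.mem_centralizer_iff.mp c.2 y hy
    show (c : G)⁻¹ * y * (c : G)⁻¹⁻¹ = y
    rw [inv_inv, mul_assoc, hcy, inv_mul_cancel_left]
  obtain ⟨H, ⟨hHc, hOH, hYH⟩, hHmin⟩ := exists_minimal_of_wellFoundedLT
    (fun H : Subgroup G => Invol.CharP' p H ∧ O ≤ H ∧ ¬ Y ≤ Cfsg.pCoreOf p H) ⟨L', hcharL', hOL', hYL'⟩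
  refine ⟨H, hHc, hO ▸ hOH, hY ▸ hYH, fun P hOP hPH => ?_⟩
  rw [← hO] at hOP
  rw [← hY]
  by_contra hYP
  obtain ⟨A, hA⟩ : ∃ A, A = Cfsg.pCoreOf p H := ⟨_, rfl⟩
  have hAH : A ≤ H := hA ▸ Invol.lg_pCoreOf_le H
  have hHA : H ≤ Subgroup.normalizer (A : Set G) := hA ▸ Invol.lg_le_normalizer_pCoreOf H
  have hAp : IsPGroup p A := hA ▸ Invol.lg_isPGroup_pCoreOf H
  have hPAH : P ⊔ A ≤ H := sup_le hPH.le hAH
  rcases lt_or_eq_of_le hPAH with hlt | heq
  · obtain ⟨J, hJ⟩ : ∃ J, J = P ⊔ A := ⟨_, rfl⟩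
    rw [← hJ] at hlt
    have hAJ : A ≤ Cfsg.pCoreOf p J :=
      Invol.lg_le_pCoreOf (hJ ▸ le_sup_right) (hlt.le.trans hHA) hAp
    have hJc : Invol.CharP' p J := Invol.lg_charP_iff.mpr
      ((le_inf (inf_le_left.trans hlt.le) (inf_le_right.trans (Subgroup.centralizer_le hAJ))).trans
        ((le_inf inf_le_left (inf_le_right.trans (hA ▸ le_rfl))).trans (Invol.lg_charP_iff.mp hHc) |>.trans
          (hA ▸ hAJ)))
    have hYJ : Y ≤ Cfsg.pCoreOf p J := by
      by_contra hh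
      exact hlt.not_ge (hHmin ⟨hJc, hOP.trans (hJ ▸ le_sup_left), hh⟩ hlt.le)
    refine hYP ((le_inf hYJ (h.Y_le_O.trans hOP)).trans (Invol.lg_le_pCoreOf inf_le_right ?_
      ((Invol.lg_isPGroup_pCoreOf J).to_le inf_le_left)))
    intro x hx
    refine Subgroup.mem_normalizer_fintype fun a ha => Subgroup.mem_inf.mpr ⟨?_,
      P.mul_mem (P.mul_mem hx ha.2) (P.inv_mem hx)⟩
    exact (Subgroup.mem_normalizer_iff.mp
      (Invol.lg_le_normalizer_pCoreOf J (hJ ▸ Subgroup.mem_sup_left hx)) a).mp ha.1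
  · obtain ⟨K, hK⟩ : ∃ K, K = Subgroup.closure {z : G | ∃ k ∈ P, ∃ u ∈ O, z = k * u * k⁻¹} := ⟨_, rfl⟩
    have hKP : K ≤ P := by
      rw [hK, Subgroup.closure_le]; rintro _ ⟨k, hk, u, hu, rfl⟩
      exact P.mul_mem (P.mul_mem hk (hOP hu)) (P.inv_mem hk)
    have hAO : A ≤ Subgroup.normalizer (O : Set G) :=
      le_sup_left.trans (Subgroup.le_normalizer.trans (Invol.wc_le_normalizer hwc
        (IsPGroup.to_sup_of_normal_left' hAp h.O_isPGroup (hOH.trans hHA)) le_sup_right))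
    have hHK : H ≤ Subgroup.normalizer (K : Set G) := by
      rw [← heq]
      refine sup_le (fun r hr => ?_) (fun a ha => ?_) <;> refine Subgroup.mem_normalizer_fintype fun x hx => ?_
      · have hle : K ≤ K.comap (MulAut.conj r).toMonoidHom := by
          conv_lhs => rw [hK]
          refine (Subgroup.closure_le _).mpr ?_
          rintro _ ⟨k, hk, u, hu, rfl⟩
          exact hK ▸ Subgroup.subset_closure ⟨r * k, P.mul_mem hr hk, u, hu, by simp [mul_assoc]⟩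
        exact hle hx
      · have hle : K ≤ K.comap (MulAut.conj a).toMonoidHom := by
          conv_lhs => rw [hK]
          refine (Subgroup.closure_le _).mpr ?_
          rintro _ ⟨k, hk, u, hu, rfl⟩
          have ha' := hAO ((Subgroup.mem_normalizer_iff''.mp (hHA (hPH.le hk)) a).mp ha)
          exact hK ▸ Subgroup.subset_closure ⟨k, hk, _, (Subgroup.mem_normalizer_iff.mp ha' u).mp hu, by simp [mul_assoc]⟩
        exact hle hx
    have hOK : O ≤ K := fun u hu => hK ▸ Subgroup.subset_closure ⟨1, P.one_mem, u, hu, by simp⟩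
    have hKc := Invol.CpLocal.charP_sub_normal hHc (hKP.trans hPH.le) hHK
    have hYK : Y ≤ Cfsg.pCoreOf p K := by
      by_contra hh
      exact hPH.not_ge ((hHmin ⟨hKc, hOK, hh⟩ (hKP.trans hPH.le)).trans hKP)
    exact hYH (hYK.trans (Invol.lg_le_pCoreOf ((Invol.lg_pCoreOf_le K).trans (hKP.trans hPH.le))
      (hHK.trans (Invol.lg_normalizer_le_normalizer_pCoreOf K)) (Invol.lg_isPGroup_pCoreOf K)))

end Cfsg.Agent.S2852
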