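import Cfsg.Prelude
import Cfsg.Agent.Lib.Invol.FrakMAsym
import Cfsg.Agent.Lib.Invol.PResidual
import Cfsg.Agent.Lib.Grp.Coprime
-- import your own Cfsg.Agent.* helpers here

set_option autoImplicit false
open Cfsg

open scoped Pointwise commutatorElement

namespace Cfsg.Agent.S2853

/-- Standing hypotheses: G a finite group, S a Sylow p-subgroup, Q a nontrivial large p-subgroup of G contained in S, M a subgroup containing S with the basic property (M ∈ 𝔐_G(S)); Y_M the largest p-reduced normal subgroup of M and M† = M·C_G(Y_M). Suppose Y_M is char-p-tall and asymmetric in G and H ∈ ℌ_G(O_p(M)). Then every Sylow p-subgroup of H ∩ M† is a Sylow p-subgroup of H; O_p(H) normalizes O_p(M) and Y_M; O^p(H) = [O^p(H), Y_M] and H = O^p(H)·O_p(M); O^p(H)·Y_M is the normal closure of Y_M in H; and H is the normal closure of O_p(M) in H. Here O^p(H) is the subgroup generated by the elements of H of order prime to p. -/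
theorem result {G : Type*} [Group G] [Finite G] {p : ℕ} [Fact p.Prime] (S : Sylow p G) (Q : Subgroup G) (hQp : IsPGroup p ↥Q) (hQ1 : Q ≠ ⊥) (hQS : Q ≤ (S : Subgroup G)) (hQ : Cfsg.IsLarge Q) (M : Subgroup G) (hSM : (S : Subgroup G) ≤ M) (hM : Cfsg.IsInFrakM p M) (htall : Cfsg.IsCharPTall p (Cfsg.largestPReducedOf p M)) (hasym : ¬ Cfsg.IsSymmetricIn (Cfsg.largestPReducedOf p M)) (H : Subgroup G) (hH : Cfsg.IsInFrakH p M H) (R : Subgroup G) (hR : R = (Cfsg.pResidual p ↥H).map H.subtype) : (∀ T : Sylow p ↥(H ⊓ (M ⊔ Subgroup.centralizer (((Cfsg.largestPReducedOf p M) : Subgroup G) : Set G))), ∃ P : Sylow p ↥H, ((P : Subgroup ↥H).map H.subtype) = (T : Subgroup ↥(H ⊓ (M ⊔ Subgroup.centralizer (((Cfsg.largestPReducedOf p M) : Subgroup G) : Set G)))).map (H ⊓ (M ⊔ Subgroup.centralizer (((Cfsg.largestPReducedOf p M) : Subgroup G) : Set G))).subtype) ∧ Cfsg.pCoreOf p H ≤ Subgroup.normalizer (((Cfsg.pCoreOf p M) : Subgroup G)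 : Set G) ⊓ Subgroup.normalizer (((Cfsg.largestPReducedOf p M) : Subgroup G) : Set G) ∧ ⁅R, (Cfsg.largestPReducedOf p M)⁆ = R ∧ R ⊔ (Cfsg.pCoreOf p M) = H ∧ R ⊔ (Cfsg.largestPReducedOf p M) = (Subgroup.normalClosure ((((Cfsg.largestPReducedOf p M)).subgroupOf H : Subgroup ↥H) : Set ↥H)).map H.subtype ∧ (Subgroup.normalClosure ((((Cfsg.pCoreOf p M)).subgroupOf H : Subgroup ↥H) : Set ↥H)).map H.subtype = H := by
  obtain ⟨Y, hY⟩ : ∃ Y, Y = Cfsg.largestPReducedOf p M := ⟨_, rfl⟩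
  obtain ⟨O, hO⟩ : ∃ O, O = Cfsg.pCoreOf p M := ⟨_, rfl⟩
  have h : Invol.FrakMAsym.Setup S Q M (M ⊔ Subgroup.centralizer (Y : Set G)) Y O :=
    ⟨hQp, hQ1, hQ, hSM, hM, rfl, hY, hO⟩
  subst hY
  have hwc := h.weaklyClosed hasym
  set Y := Cfsg.largestPReducedOf p M
  obtain ⟨hHc, hOH, hYH, hmin⟩ := hH
  rw [← hO] at hOH hmin ⊢
  set X := M ⊔ Subgroup.centralizer (Y : Set G)
  have hYle : Y ≤ H := h.Y_le_O.trans hOH
  have hOY : O ≤ Subgroup.normalizer (Y : Set G) :=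
    h.O_le_centralizer.trans (Subgroup.centralizer_le_normalizer _)
  have key : ∀ N : Subgroup G, N ≤ H → H ≤ Subgroup.normalizer (N : Set G) → N ⊔ O = H → R ≤ N := by
    intro N hNH hHN hNO
    haveI : (N.subgroupOf H).Normal := (Subgroup.normal_subgroupOf_iff_le_normalizer hNH).mpr hHN
    have hq : IsPGroup p (↥H ⧸ N.subgroupOf H) := by
      intro q
      obtain ⟨x, rfl⟩ := QuotientGroup.mk'_surjective _ q
      have hx : (x : G) ∈ N ⊔ O := hNO.ge x.2
      rw [← SetLike.mem_coe, Subgroup.coe_mul_of_right_le_normalizer_left N O (hOH.trans hHN)] at hx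
      obtain ⟨n, hn, o, ho, e⟩ := hx
      obtain ⟨k, hk⟩ := h.O_isPGroup ⟨o, ho⟩
      refine ⟨k, ?_⟩
      have e' : x = ⟨n, hNH hn⟩ * ⟨o, hOH ho⟩ := Subtype.ext e.symm
      rw [e', map_mul, show QuotientGroup.mk' (N.subgroupOf H) ⟨n, hNH hn⟩ = 1 from
        (QuotientGroup.eq_one_iff _).mpr hn, one_mul, ← map_pow]
      rw [show (⟨o, hOH ho⟩ : ↥H) ^ p ^ k = 1 from Subtype.ext (by simpa using congrArg Subtype.val hk), map_one]
    rw [hR]
    rintro _ ⟨x, hx, rfl⟩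
    exact Invol.pResidual_le_of_isPGroup_quotient hq hx
  have hclosN : ∀ B : Subgroup G, B ≤ H → H ≤ Subgroup.normalizer
      (((Subgroup.normalClosure ((B.subgroupOf H : Subgroup ↥H) : Set ↥H)).map H.subtype : Subgroup G) : Set G) := by
    intro B _ g hg
    refine Subgroup.mem_normalizer_fintype ?_
    rintro _ ⟨x, hx, rfl⟩
    exact ⟨⟨g, hg⟩ * x * ⟨g, hg⟩⁻¹, Subgroup.normalClosure_normal.conj_mem x hx _, rfl⟩
  have hclosB : ∀ B : Subgroup G, B ≤ H →
      B ≤ (Subgroup.normalClosure ((B.subgroupOf H : Subgroup ↥H) : Set ↥H)).map H.subtype :=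
    fun B hB b hb => ⟨⟨b, hB hb⟩, Subgroup.subset_normalClosure hb, rfl⟩
  -- the Sylow subgroups
  have hpart1 : ∀ T : Sylow p ↥(H ⊓ X), ∃ P : Sylow p ↥H,
      ((P : Subgroup ↥H).map H.subtype) = (T : Subgroup ↥(H ⊓ X)).map (H ⊓ X).subtype := by
    intro T
    obtain ⟨T', hT'⟩ : ∃ T', T' = (T : Subgroup ↥(H ⊓ X)).map (H ⊓ X).subtype := ⟨_, rfl⟩
    rw [← hT']
    have hT'H : T' ≤ H := hT' ▸ (Subgroup.map_subtype_le _).trans inf_le_left
    obtain ⟨P, hP⟩ := ((hT' ▸ T.isPGroup'.map _ : IsPGroup p T').comap_subtype (K := H)).exists_le_sylow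
    obtain ⟨P₀, hP₀⟩ := (h.O_isPGroup.comap_subtype (K := H)).exists_le_sylow
    have hP₀X : (P₀ : Subgroup ↥H).map H.subtype ≤ H ⊓ X := le_inf (Subgroup.map_subtype_le _)
      ((Subgroup.le_normalizer.trans (Invol.wc_le_normalizer hwc (P₀.isPGroup'.map H.subtype)
        (fun u hu => ⟨⟨u, hOH hu⟩, hP₀ hu, rfl⟩))).trans h.normalizer_O_le)
    obtain ⟨T₁, hT₁⟩ := ((P₀.isPGroup'.map H.subtype).comap_subtype (K := H ⊓ X)).exists_le_sylow
    have c1 : Nat.card ↥((P : Subgroup ↥H).map H.subtype) ≤ Nat.card ↥T' := by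
      rw [Subgroup.card_map_of_injective H.subtype_injective, hT',
        Subgroup.card_map_of_injective (H ⊓ X).subtype_injective, T.card_eq_multiplicity, ← T₁.card_eq_multiplicity,
        P.card_eq_multiplicity, ← P₀.card_eq_multiplicity, ← Subgroup.card_map_of_injective (K := (P₀ : Subgroup ↥H)) H.subtype_injective,
        ← Subgroup.card_map_of_injective (K := (T₁ : Subgroup ↥(H ⊓ X))) (H ⊓ X).subtype_injective]
      refine Subgroup.card_le_of_le (fun u hu => ⟨⟨u, hP₀X hu⟩, hT₁ hu, rfl⟩)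
    exact ⟨P, (Subgroup.eq_of_le_of_card_ge (show T' ≤ (P : Subgroup ↥H).map H.subtype from fun u hu => ⟨⟨u, hT'H hu⟩, hP hu, rfl⟩) c1).symm⟩
  obtain ⟨A, hA⟩ : ∃ A, A = Cfsg.pCoreOf p H := ⟨_, rfl⟩
  have hHA : H ≤ Subgroup.normalizer (A : Set G) := hA ▸ Invol.lg_le_normalizer_pCoreOf H
  have hAO : A ≤ Subgroup.normalizer (O : Set G) :=
    le_sup_left.trans (Subgroup.le_normalizer.trans (Invol.wc_le_normalizer hwc
      (IsPGroup.to_sup_of_normal_left' (hA ▸ Invol.lg_isPGroup_pCoreOf H) h.O_isPGroup (hOH.trans hHA)) le_sup_right))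
  have hpart2 : Cfsg.pCoreOf p H ≤ Subgroup.normalizer (O : Set G) ⊓ Subgroup.normalizer (Y : Set G) :=
    hA ▸ le_inf hAO ((hAO.trans h.normalizer_O_le).trans h.le_normalizer_Y)
  -- closure of `O`
  obtain ⟨N₀, hN₀⟩ : ∃ N₀, N₀ = (Subgroup.normalClosure ((O.subgroupOf H : Subgroup ↥H) : Set ↥H)).map H.subtype :=
    ⟨_, rfl⟩
  have hN₀H : N₀ ≤ H := hN₀ ▸ Subgroup.map_subtype_le _
  have hON₀ : O ≤ N₀ := hN₀ ▸ hclosB O hOH
  have hN₀n : H ≤ Subgroup.normalizer (N₀ : Set G) := hN₀ ▸ hclosN O hOH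
  have hN₀eq : N₀ = H := by
    by_contra hne
    refine hYH ((hmin N₀ hON₀ (lt_of_le_of_ne hN₀H hne)).trans (Invol.lg_le_pCoreOf
      ((Invol.lg_pCoreOf_le N₀).trans hN₀H) (hN₀n.trans (Invol.lg_normalizer_le_normalizer_pCoreOf N₀))
      (Invol.lg_isPGroup_pCoreOf N₀)))
  have hRH : R ≤ H := hR ▸ Subgroup.map_subtype_le _
  have hRn : H ≤ Subgroup.normalizer (R : Set G) := by
    intro g hg
    refine Subgroup.mem_normalizer_fintype ?_
    rw [hR]; rintro _ ⟨x, hx, rfl⟩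
    exact ⟨⟨g, hg⟩ * x * ⟨g, hg⟩⁻¹, (Subgroup.normal_of_characteristic (Cfsg.pResidual p ↥H)).conj_mem x hx _, rfl⟩
  have hRO : R ⊔ O = H := by
    refine le_antisymm (sup_le hRH hOH) ?_
    obtain ⟨B, hB⟩ : ∃ B, B = Cfsg.pResidual p ↥H ⊔ O.subgroupOf H := ⟨_, rfl⟩
    have htop : B = ⊤ := by
      haveI := (Subgroup.normal_of_characteristic (Cfsg.pResidual p ↥H))
      let π := QuotientGroup.mk' (Cfsg.pResidual p ↥H)
      haveI : Group.IsNilpotent (↥H ⧸ Cfsg.pResidual p ↥H) :=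
        (Invol.isPGroup_quotient_pResidual (p := p) (G := ↥H)).isNilpotent
      by_contra hne
      have hmap : B.map π ≠ ⊤ := fun e => hne (by
        rw [← Subgroup.comap_map_eq_self (f := π) (H := B) (by rw [QuotientGroup.ker_mk', hB]; exact le_sup_left), e,
          Subgroup.comap_top])
      obtain ⟨N, hN, hBN⟩ := (eq_top_or_exists_le_coatom (B.map π)).resolve_left hmap
      haveI : N.Normal := Subgroup.NormalizerCondition.normal_of_coatom N Group.normalizerCondition_of_isNilpotent hN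
      have hle : Subgroup.normalClosure ((O.subgroupOf H : Subgroup ↥H) : Set ↥H) ≤ N.comap π :=
        Subgroup.normalClosure_le_normal fun x hx =>
          hBN ⟨x, hB ▸ Subgroup.mem_sup_right hx, rfl⟩
      refine hN.1 (eq_top_iff.mpr fun q _ => ?_)
      obtain ⟨x, rfl⟩ := QuotientGroup.mk'_surjective _ q
      obtain ⟨y, hy, e⟩ := (hN₀ ▸ hN₀eq.ge x.2 : (x : G) ∈ (Subgroup.normalClosure _).map H.subtype)
      exact Subtype.ext e ▸ hle hy
    have h2 := congrArg (Subgroup.map H.subtype) htop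
    rw [hB, Subgroup.map_sup, ← hR, Subgroup.map_subgroupOf_eq_of_le hOH, ← MonoidHom.range_eq_map,
      Subgroup.range_subtype] at h2
    exact h2.ge
  obtain ⟨J, hJ⟩ : ∃ J, J = (Subgroup.normalClosure ((Y.subgroupOf H : Subgroup ↥H) : Set ↥H)).map H.subtype :=
    ⟨_, rfl⟩
  have hJH : J ≤ H := hJ ▸ Subgroup.map_subtype_le _
  have hYJ : Y ≤ J := hJ ▸ hclosB Y hYle
  have hJn : H ≤ Subgroup.normalizer (J : Set G) := hJ ▸ hclosN Y hYle
  have hJmin : ∀ Z : Subgroup G, Y ≤ Z → H ≤ Subgroup.normalizer (Z : Set G) → J ≤ Z := by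
    intro Z hYZ hHZ
    rw [hJ, Subgroup.map_le_iff_le_comap]
    haveI : (Z.comap H.subtype).Normal := ⟨fun n hn g => (Subgroup.mem_normalizer_iff.mp (hHZ g.2) (n : G)).mp hn⟩
    exact Subgroup.normalClosure_le_normal fun x hx => hYZ hx
  have hJO : J ⊔ O = H := by
    by_contra hne
    have h3 := hmin (J ⊔ O) le_sup_right (lt_of_le_of_ne (sup_le hJH hOH) hne)
    have h4 : Y ≤ Cfsg.pCoreOf p J := (le_inf h3 hYJ).trans (Invol.lg_le_pCoreOf inf_le_right
      (fun x hx => Subgroup.mem_normalizer_fintype fun a ha => Subgroup.mem_inf.mpr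
        ⟨(Subgroup.mem_normalizer_iff.mp (Invol.lg_le_normalizer_pCoreOf (J ⊔ O) (Subgroup.mem_sup_left hx)) a).mp ha.1,
          J.mul_mem (J.mul_mem hx ha.2) (J.inv_mem hx)⟩) ((Invol.lg_isPGroup_pCoreOf _).to_le inf_le_left))
    exact hYH (h4.trans (Invol.lg_le_pCoreOf ((Invol.lg_pCoreOf_le J).trans hJH)
      (hJn.trans (Invol.lg_normalizer_le_normalizer_pCoreOf J)) (Invol.lg_isPGroup_pCoreOf J)))
  have hRJ : R ≤ J := key J hJH hJn hJO
  obtain ⟨R', hR'⟩ : ∃ R', R' = ⁅R, Y⁆ := ⟨_, rfl⟩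
  have hR'R : R' ≤ R := hR' ▸ Subgroup.commutator_le.mpr fun a ha b hb => by
    rw [commutatorElement_def, show a * b * a⁻¹ * b⁻¹ = a * (b * a⁻¹ * b⁻¹) by group]
    exact R.mul_mem ha ((Subgroup.mem_normalizer_iff.mp (hRn (hYle hb)) _).mp (R.inv_mem ha))
  have hconj : ∀ (A B : Subgroup G) (g : G), g ∈ Subgroup.normalizer (A : Set G) → g ∈ Subgroup.normalizer (B : Set G) →
      g ∈ Subgroup.normalizer ((⁅A, B⁆ : Subgroup G) : Set G) := by
    intro A B g hA' hB'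
    refine Subgroup.mem_normalizer_fintype fun x hx => ?_
    have h1 : (⁅A, B⁆ : Subgroup G).map (MulAut.conj g).toMonoidHom ≤ ⁅A, B⁆ := by
      rw [Subgroup.map_commutator]
      refine Subgroup.commutator_mono ?_ ?_
      · rintro _ ⟨a, ha, rfl⟩; exact (Subgroup.mem_normalizer_iff.mp hA' a).mp ha
      · rintro _ ⟨a, ha, rfl⟩; exact (Subgroup.mem_normalizer_iff.mp hB' a).mp ha
    exact h1 ⟨x, hx, rfl⟩
  have hR'n : H ≤ Subgroup.normalizer (R' : Set G) := by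
    conv_lhs => rw [← hRO]
    refine sup_le ?_ fun o ho => hR' ▸ hconj R Y o (hRn (hOH ho)) (hOY ho)
    rw [hR']; exact Grp.left_le_normalizer_commutator Y R
  have hcomm : ∀ r ∈ R, ∀ y ∈ Y, r * y * r⁻¹ ∈ R' ⊔ Y := by
    intro r hr y hy
    rw [show r * y * r⁻¹ = ⁅r, y⁆ * y by rw [commutatorElement_def]; group]
    exact Subgroup.mul_mem_sup (hR' ▸ Subgroup.commutator_mem_commutator hr hy) hy
  have hR'Yn : H ≤ Subgroup.normalizer ((R' ⊔ Y : Subgroup G) : Set G) := by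
    intro g hg
    have hg' : g ∈ R ⊔ O := hRO.ge hg
    rw [← SetLike.mem_coe, Subgroup.coe_mul_of_right_le_normalizer_left R O (hOH.trans hRn)] at hg'
    obtain ⟨r, hr, o, ho, rfl⟩ := hg'
    refine Subgroup.mem_normalizer_fintype fun x hx => ?_
    have hle : (R' ⊔ Y) ≤ (R' ⊔ Y).comap (MulAut.conj (r * o)).toMonoidHom := by
      refine sup_le (fun z hz => ?_) (fun z hz => ?_)
      · exact Subgroup.mem_sup_left ((Subgroup.mem_normalizer_iff.mp (hR'n hg) z).mp hz)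
      · have h1 := hcomm r hr _ ((Subgroup.mem_normalizer_iff.mp (hOY ho) z).mp hz)
        simpa [mul_assoc] using h1
    exact hle hx
  have hJeq : J = R' ⊔ Y := le_antisymm (hJmin _ le_sup_right hR'Yn) (sup_le (hR'R.trans hRJ) hYJ)
  have hR'O : R' ⊔ O = H := le_antisymm (sup_le (hR'R.trans hRH) hOH) (by
    rw [← hJO, hJeq]; exact sup_le (sup_le le_sup_left (h.Y_le_O.trans le_sup_right)) le_sup_right)
  have hRR' : ⁅R, Y⁆ = R := hR' ▸ le_antisymm hR'R (key R' (hR'R.trans hRH) hR'n hR'O)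
  refine ⟨hpart1, hpart2, hRR', hRO, ?_, hN₀ ▸ hN₀eq⟩
  rw [← hJ, hJeq, hR', hRR']

end Cfsg.Agent.S2853
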