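import Cfsg.Prelude
import Cfsg.Agent.Lib.Invol.FrakMAsym
import Cfsg.Agent.Lib.Invol.FrakHIrred
import Cfsg.Agent.S2853
-- import your own Cfsg.Agent.* helpers here

set_option autoImplicit false
open Cfsg

open scoped Pointwise commutatorElement

namespace Cfsg.Agent.S2854

/-- Standing hypotheses: G a finite group, S a Sylow p-subgroup, Q a nontrivial large p-subgroup of G contained in S, M a subgroup containing S with the basic property (M ∈ 𝔐_G(S)); Y_M the largest p-reduced normal subgroup of M and M† = M·C_G(Y_M). Suppose Y_M is asymmetric in G, H ∈ ℌ_G(O_p(M)), and H ≤ N_G(gQg⁻¹) for some g ∈ G. Then gQg⁻¹ ≤ O_p(H·gQg⁻¹) ≤ N_G(O_p(M)) ≤ N_G(Y_M) = M†; H is normal in H·gQg⁻¹ with O^p(H) = O^p(H·gQg⁻¹); and H·gQg⁻¹ is p-irreducible. -/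
theorem result {G : Type*} [Group G] [Finite G] {p : ℕ} [Fact p.Prime] (S : Sylow p G) (Q : Subgroup G) (hQp : IsPGroup p ↥Q) (hQ1 : Q ≠ ⊥) (hQS : Q ≤ (S : Subgroup G)) (hQ : Cfsg.IsLarge Q) (M : Subgroup G) (hSM : (S : Subgroup G) ≤ M) (hM : Cfsg.IsInFrakM p M) (hasym : ¬ Cfsg.IsSymmetricIn (Cfsg.largestPReducedOf p M)) (H : Subgroup G) (hH : Cfsg.IsInFrakH p M H) (g : G) (hHQ : H ≤ Subgroup.normalizer ((((Q : Subgroup G).map (MulAut.conj (g : G)).toMonoidHom) : Subgroup G) : Set G)) : ((Q : Subgroup G).map (MulAut.conj (g : G)).toMonoidHom) ≤ Cfsg.pCoreOf p (H ⊔ ((Q : Subgroup G).map (MulAut.conj (g : G)).toMonoidHom)) ∧ Cfsg.pCoreOf p (H ⊔ ((Q : Subgroup G).map (MulAut.conj (g : G)).toMonoidHom)) ≤ Subgroup.normalizer (((Cfsg.pCoreOf p M) : Subgroup G) : Set G) ∧ Subgroup.normalizer (((Cfsg.pCoreOf p M) : Subgroup G) : Set G) ≤ Subgroup.normalizer (((Cfsg.largestPReducedOf p M) : Subgroup G) : Set G) ∧ Subgroup.normalizer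 (((Cfsg.largestPReducedOf p M) : Subgroup G) : Set G) = (M ⊔ Subgroup.centralizer (((Cfsg.largestPReducedOf p M) : Subgroup G) : Set G)) ∧ (H.subgroupOf (H ⊔ ((Q : Subgroup G).map (MulAut.conj (g : G)).toMonoidHom))).Normal ∧ (Cfsg.pResidual p ↥H).map H.subtype = (Cfsg.pResidual p ↥(H ⊔ ((Q : Subgroup G).map (MulAut.conj (g : G)).toMonoidHom))).map (H ⊔ ((Q : Subgroup G).map (MulAut.conj (g : G)).toMonoidHom)).subtype ∧ Cfsg.IsPIrreducible p ↥(H ⊔ ((Q : Subgroup G).map (MulAut.conj (g : G)).toMonoidHom)) := by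
  obtain ⟨hHc, hOH₀, hYH, hmin⟩ := id hH
  obtain ⟨O, hO⟩ : ∃ O, O = Cfsg.pCoreOf p M := ⟨_, rfl⟩
  have h : Invol.FrakMAsym.Setup S Q M (M ⊔ Subgroup.centralizer (Cfsg.largestPReducedOf p M : Set G))
      (Cfsg.largestPReducedOf p M) O := ⟨hQp, hQ1, hQ, hSM, hM, rfl, rfl, hO⟩
  have hwc := h.weaklyClosed hasym
  rw [← hO] at hOH₀ hmin ⊢
  set Y := Cfsg.largestPReducedOf p M
  set X := M ⊔ Subgroup.centralizer (Y : Set G)
  obtain ⟨q, hq⟩ : ∃ q, q = Q.map (MulAut.conj g).toMonoidHom := ⟨_, rfl⟩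
  rw [← hq] at hHQ ⊢
  have hqp : IsPGroup p q := hq ▸ hQp.map _
  obtain ⟨E, hE⟩ : ∃ E, E = H ⊔ q := ⟨_, rfl⟩
  rw [← hE]
  have hHE : H ≤ E := hE ▸ le_sup_left
  have hqE : q ≤ E := hE ▸ le_sup_right
  have hYO : Y ≤ O := h.Y_le_O
  have htall : Cfsg.IsCharPTall p Y := by
    obtain ⟨T, hT⟩ := (h.O_isPGroup.comap_subtype (K := Subgroup.centralizer (Y : Set G))).exists_le_sylow
    refine ⟨T, H, ?_, hHc, hYH⟩
    exact (h.le_O (T.isPGroup'.map _) (fun u hu => ⟨⟨u, h.O_le_centralizer hu⟩, hT hu, rfl⟩)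
      (Subgroup.map_subtype_le _)).trans hOH₀
  obtain ⟨R, hR⟩ : ∃ R, R = (Cfsg.pResidual p ↥H).map H.subtype := ⟨_, rfl⟩
  obtain ⟨-, -, hRY, hROeq, hclY, hclO⟩ := S2853.result S Q hQp hQ1 hQS hQ M hSM hM htall hasym H hH R hR
  rw [← hO] at hROeq hclO
  -- `O_p(E)` normalizes `O`
  have hqn : E ≤ Subgroup.normalizer (q : Set G) := hE ▸ sup_le hHQ Subgroup.le_normalizer
  have hqA : q ≤ Cfsg.pCoreOf p E := Invol.lg_le_pCoreOf hqE hqn hqp
  have hAO : Cfsg.pCoreOf p E ≤ Subgroup.normalizer (O : Set G) :=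
    le_sup_left.trans (Subgroup.le_normalizer.trans (Invol.wc_le_normalizer hwc
      (IsPGroup.to_sup_of_normal_left' (Invol.lg_isPGroup_pCoreOf E) h.O_isPGroup
        ((hOH₀.trans hHE).trans (Invol.lg_le_normalizer_pCoreOf E))) le_sup_right))
  have hqO : q ≤ Subgroup.normalizer (O : Set G) := hqA.trans hAO
  have hNY : Subgroup.normalizer (Y : Set G) = X :=
    le_antisymm (h.normalizer_le h.Y_ne_bot (h.O_isPGroup.to_le hYO) (le_sup_left.trans h.le_normalizer_Y))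
      h.le_normalizer_Y
  -- `q` normalizes `H`
  have hqH : q ≤ Subgroup.normalizer (H : Set G) := by
    intro x hx
    refine Subgroup.mem_normalizer_fintype fun a ha => ?_
    have hle : H ≤ H.comap (MulAut.conj x).toMonoidHom := by
      conv_lhs => rw [← hclO]
      rw [Subgroup.map_le_iff_le_comap, Subgroup.normalClosure, Subgroup.closure_le]
      intro b hb
      obtain ⟨u, hu, hc⟩ := Group.mem_conjugatesOfSet_iff.mp hb
      obtain ⟨k, rfl⟩ := isConj_iff.mp hc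
      have hx' : (k : G)⁻¹ * x * k ∈ q := (Subgroup.mem_normalizer_iff''.mp (hHQ k.2) x).mp hx
      have h1 : ((k : G)⁻¹ * x * k) * u * ((k : G)⁻¹ * x * k)⁻¹ ∈ H :=
        hOH₀ ((Subgroup.mem_normalizer_iff.mp (hqO hx') _).mp hu)
      have h2 := H.mul_mem (H.mul_mem k.2 h1) (H.inv_mem k.2)
      show x * ((k : G) * u * (k : G)⁻¹) * x⁻¹ ∈ H
      simpa [mul_assoc] using h2
    exact hle ha
  have hEH : E ≤ Subgroup.normalizer (H : Set G) := hE ▸ sup_le Subgroup.le_normalizer hqH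
  haveI hHn : (H.subgroupOf E).Normal := (Subgroup.normal_subgroupOf_iff_le_normalizer hHE).mpr hEH
  -- residuals
  have hcop : ∀ (N : Subgroup G), N ≤ E → E ≤ Subgroup.normalizer (N : Set G) → E ≤ N ⊔ q →
      (Cfsg.pResidual p ↥E).map E.subtype ≤ N := by
    intro N hNE hEN hsup
    haveI : (N.subgroupOf E).Normal := (Subgroup.normal_subgroupOf_iff_le_normalizer hNE).mpr hEN
    refine Subgroup.map_le_iff_le_comap.mpr (Invol.pResidual_le_of_isPGroup_quotient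
      (N := N.subgroupOf E) (fun γ => ?_))
    obtain ⟨x, rfl⟩ := QuotientGroup.mk'_surjective _ γ
    have hx : (x : G) ∈ N ⊔ q := hsup x.2
    rw [← SetLike.mem_coe, Subgroup.coe_mul_of_right_le_normalizer_left N q (hqE.trans hEN)] at hx
    obtain ⟨n, hn, o, ho, e⟩ := hx
    obtain ⟨k, hk⟩ := hqp ⟨o, ho⟩
    refine ⟨k, ?_⟩
    have e' : x = ⟨n, hNE hn⟩ * ⟨o, hqE ho⟩ := Subtype.ext e.symm
    rw [e', map_mul, show QuotientGroup.mk' (N.subgroupOf E) ⟨n, hNE hn⟩ = 1 from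
      (QuotientGroup.eq_one_iff _).mpr hn, one_mul, ← map_pow]
    rw [show (⟨o, hqE ho⟩ : ↥E) ^ p ^ k = 1 from Subtype.ext (by simpa using congrArg Subtype.val hk), map_one]
  have hRE : R ≤ (Cfsg.pResidual p ↥E).map E.subtype := by
    rw [hR, Subgroup.map_le_iff_le_comap, Cfsg.pResidual, Subgroup.closure_le]
    intro x hx
    refine ⟨⟨x, hHE x.2⟩, Invol.mem_pResidual ?_, rfl⟩
    rw [← Subgroup.orderOf_coe]
    change (orderOf (x : G)).Coprime p
    rw [Subgroup.orderOf_coe]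
    exact hx
  have hER : (Cfsg.pResidual p ↥E).map E.subtype ≤ R := by
    have hle := hcop H hHE hEH hE.le
    rw [hR, Cfsg.pResidual, MonoidHom.map_closure, Subgroup.closure_le]
    rintro _ ⟨x, hx, rfl⟩
    have hxH : (x : G) ∈ H := hle ⟨x, Invol.mem_pResidual hx, rfl⟩
    refine ⟨⟨x, hxH⟩, Invol.mem_pResidual ?_, rfl⟩
    rw [← Subgroup.orderOf_coe]
    change (orderOf (x : G)).Coprime p
    rw [Subgroup.orderOf_coe]
    exact hx
  refine ⟨hqA, hAO, h.normalizer_O_le.trans h.le_normalizer_Y, hNY, hHn, by rw [← hR]; exact le_antisymm hRE hER,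
    ?_, fun N hNn hNc => ?_⟩
  · intro hcl
    obtain ⟨T, hT⟩ := (((h.O_isPGroup.to_le hYO).comap_subtype (K := E))).exists_le_sylow
    have hYE : Y ≤ Cfsg.pCoreOf p E := fun y hy =>
      ⟨⟨y, hHE (hOH₀ (hYO hy))⟩, Grp.le_pCore (hcl T) T.isPGroup' (hT hy), rfl⟩
    refine hYH ((le_inf hYE (hYO.trans hOH₀)).trans (Invol.lg_le_pCoreOf inf_le_right
      (fun x hx => Subgroup.mem_normalizer_fintype fun a ha => Subgroup.mem_inf.mpr
        ⟨(Subgroup.mem_normalizer_iff.mp (Invol.lg_le_normalizer_pCoreOf E (hHE hx)) a).mp ha.1,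
          H.mul_mem (H.mul_mem hx ha.2) (H.inv_mem hx)⟩) ((Invol.lg_isPGroup_pCoreOf _).to_le inf_le_left)))
  · by_contra hres
    obtain ⟨Ng, hNg⟩ : ∃ Ng, Ng = N.map E.subtype := ⟨_, rfl⟩
    have hNgE : Ng ≤ E := hNg ▸ Subgroup.map_subtype_le _
    have hENg : E ≤ Subgroup.normalizer (Ng : Set G) := by
      intro e he
      refine Subgroup.mem_normalizer_fintype ?_
      rw [hNg]; rintro _ ⟨x, hx, rfl⟩
      exact ⟨⟨e, he⟩ * x * ⟨e, he⟩⁻¹, hNn.conj_mem x hx _, rfl⟩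
    obtain ⟨N', hN'⟩ : ∃ N', N' = (Ng ⊔ q) ⊓ H := ⟨_, rfl⟩
    have hHN' : H ≤ Subgroup.normalizer (N' : Set G) := fun x hx => Subgroup.mem_normalizer_fintype fun a ha => by
      rw [SetLike.mem_coe, hN'] at ha ⊢
      refine Subgroup.mem_inf.mpr ⟨?_, H.mul_mem (H.mul_mem hx ha.2) (H.inv_mem hx)⟩
      have hle : Ng ⊔ q ≤ (Ng ⊔ q).comap (MulAut.conj x).toMonoidHom := sup_le
        (fun b hb => Subgroup.mem_sup_left ((Subgroup.mem_normalizer_iff.mp (hENg (hHE hx)) b).mp hb))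
        (fun b hb => Subgroup.mem_sup_right ((Subgroup.mem_normalizer_iff.mp (hHQ hx) b).mp hb))
      exact hle ha.1
    have hN'H : N' ≤ H := hN' ▸ inf_le_right
    have hN'E : Ng ≤ N' ⊔ q := by
      intro x hx
      have hxE : x ∈ H ⊔ q := hE ▸ hNgE hx
      rw [← SetLike.mem_coe, Subgroup.coe_mul_of_left_le_normalizer_right H q hHQ] at hxE
      obtain ⟨a, ha, b, hb, rfl⟩ := hxE
      refine Subgroup.mul_mem_sup ?_ hb
      rw [hN']
      refine Subgroup.mem_inf.mpr ⟨?_, ha⟩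
      have := Subgroup.mul_mem _ (Subgroup.mem_sup_left hx : a * b ∈ Ng ⊔ q) (Subgroup.inv_mem _ (Subgroup.mem_sup_right hb))
      rwa [mul_inv_cancel_right] at this
    rcases lt_or_eq_of_le (sup_le hN'H hOH₀ : N' ⊔ O ≤ H) with hlt | heq
    · have hYP := hmin (N' ⊔ O) le_sup_right hlt
      obtain ⟨A, hA⟩ : ∃ A, A = Cfsg.pCoreOf p H := ⟨_, rfl⟩
      haveI : (N'.subgroupOf H).Normal := (Subgroup.normal_subgroupOf_iff_le_normalizer hN'H).mpr hHN'
      have hRcl : Cfsg.pResidual p ↥H ≤ Subgroup.normalClosure ((Y.subgroupOf H : Subgroup ↥H) : Set ↥H) := by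
        refine (Subgroup.map_le_map_iff_of_injective H.subtype_injective).mp ?_
        rw [← hR, ← hclY]; exact le_sup_left
      have hcomm : ∀ n ∈ N'.subgroupOf H, ∀ y ∈ Y.subgroupOf H, n * y * n⁻¹ * y⁻¹ ∈ Cfsg.pCore p ↥H := by
        intro n hn y hy
        have hB : (n : G) * y * (n : G)⁻¹ * (y : G)⁻¹ ∈ Cfsg.pCoreOf p (N' ⊔ O) ⊓ N' := by
          refine Subgroup.mem_inf.mpr ⟨Subgroup.mul_mem _ ((Subgroup.mem_normalizer_iff.mp
            (Invol.lg_le_normalizer_pCoreOf (N' ⊔ O) (Subgroup.mem_sup_left hn)) _).mp (hYP hy))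
            (Subgroup.inv_mem _ (hYP hy)), ?_⟩
          rw [show (n : G) * y * (n : G)⁻¹ * (y : G)⁻¹ = n * ((y : G) * (n : G)⁻¹ * (y : G)⁻¹) by group]
          exact N'.mul_mem hn ((Subgroup.mem_normalizer_iff.mp (hHN' y.2) _).mp (N'.inv_mem hn))
        have h1 : Cfsg.pCoreOf p (N' ⊔ O) ⊓ N' ≤ Cfsg.pCoreOf p N' := Invol.lg_le_pCoreOf inf_le_right
          (fun x hx => Subgroup.mem_normalizer_fintype fun a ha => Subgroup.mem_inf.mpr
            ⟨(Subgroup.mem_normalizer_iff.mp (Invol.lg_le_normalizer_pCoreOf _ (Subgroup.mem_sup_left hx)) a).mp ha.1,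
              N'.mul_mem (N'.mul_mem hx ha.2) (N'.inv_mem hx)⟩) ((Invol.lg_isPGroup_pCoreOf _).to_le inf_le_left)
        have h2 : Cfsg.pCoreOf p N' ≤ Cfsg.pCoreOf p H := Invol.lg_le_pCoreOf ((Invol.lg_pCoreOf_le N').trans hN'H)
          (hHN'.trans (Invol.lg_normalizer_le_normalizer_pCoreOf N')) (Invol.lg_isPGroup_pCoreOf N')
        obtain ⟨z, hz, e⟩ := h2 (h1 hB)
        rwa [show n * y * n⁻¹ * y⁻¹ = z from Subtype.ext e.symm]
      have hkey : ∀ x ∈ N', (∃ k : ℕ, x ^ p ^ k = 1) → x ∈ A := by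
        rintro x hx ⟨k, hk⟩
        rw [hA]
        exact ⟨⟨x, hN'H hx⟩, Invol.FrakHIrred.mem_pCore_of_pow (N'.subgroupOf H) (Y.subgroupOf H) hRcl hcomm
          (show (⟨x, hN'H hx⟩ : ↥H) ∈ N'.subgroupOf H from hx) (k := k) (Subtype.ext hk), rfl⟩
      obtain ⟨U, hU⟩ : ∃ U, U = (A ⊓ N') ⊔ q := ⟨_, rfl⟩
      have hAN' : H ≤ Subgroup.normalizer ((A ⊓ N' : Subgroup G) : Set G) := fun x hx =>
        Subgroup.mem_normalizer_fintype fun a ha => Subgroup.mem_inf.mpr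
          ⟨(Subgroup.mem_normalizer_iff.mp (hA ▸ Invol.lg_le_normalizer_pCoreOf H hx) a).mp ha.1,
            (Subgroup.mem_normalizer_iff.mp (hHN' hx) a).mp ha.2⟩
      have hUp : IsPGroup p U := hU ▸ IsPGroup.to_sup_of_normal_right'
        ((hA ▸ Invol.lg_isPGroup_pCoreOf H : IsPGroup p A).to_le inf_le_left) hqp
        ((inf_le_right.trans hN'H).trans hHQ)
      have hUn : N' ⊔ q ≤ Subgroup.normalizer (U : Set G) := by
        refine sup_le (fun x hx => Subgroup.mem_normalizer_fintype fun a ha => ?_)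
          ((hU ▸ le_sup_right : q ≤ U).trans Subgroup.le_normalizer)
        have hle : U ≤ U.comap (MulAut.conj x).toMonoidHom := by
          rw [hU]
          exact sup_le
            (fun b hb => Subgroup.mem_sup_left ((Subgroup.mem_normalizer_iff.mp (hAN' (hN'H hx)) b).mp hb))
            (fun b hb => Subgroup.mem_sup_right ((Subgroup.mem_normalizer_iff.mp (hHQ (hN'H hx)) b).mp hb))
        exact hle ha
      apply hNc
      intro P
      have hP : ∀ x : ↥N, x ∈ (P : Subgroup ↥N) ↔ ((x : ↥E) : G) ∈ U := by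
        have hfwd : ∀ x : ↥N, x ∈ (P : Subgroup ↥N) → ((x : ↥E) : G) ∈ U := by
          intro x hx
          obtain ⟨k, hk⟩ := P.isPGroup' ⟨x, hx⟩
          have hxp : (((x : ↥E) : G)) ^ p ^ k = 1 := by
            simpa using congrArg (fun z : ↥(P : Subgroup ↥N) => (((z : ↥N) : ↥E) : G)) hk
          have hxS : ((x : ↥E) : G) ∈ N' ⊔ q := hN'E (hNg ▸ ⟨x, x.2, rfl⟩)
          rw [← SetLike.mem_coe, Subgroup.coe_mul_of_left_le_normalizer_right N' q (hN'H.trans hHQ)] at hxS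
          obtain ⟨a, ha, b, hb, e⟩ := hxS
          have hJ : IsPGroup p ↥(Subgroup.zpowers ((x : ↥E) : G) ⊔ q) := by
            refine IsPGroup.to_sup_of_normal_right' ?_ hqp (Subgroup.zpowers_le.mpr (hqn ((x : ↥E)).2))
            rintro ⟨z, hz⟩
            obtain ⟨i, rfl⟩ := Subgroup.mem_zpowers_iff.mp hz
            refine ⟨k, Subtype.ext ?_⟩
            simp only [SubgroupClass.coe_pow, OneMemClass.coe_one]
            rw [← zpow_natCast, ← zpow_mul, mul_comm, zpow_mul, zpow_natCast, hxp, one_zpow]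
          have haJ : a ∈ Subgroup.zpowers ((x : ↥E) : G) ⊔ q := by
            rw [eq_mul_inv_of_mul_eq e]
            exact Subgroup.mul_mem_sup (Subgroup.mem_zpowers _) (q.inv_mem hb)
          obtain ⟨j, hj⟩ := hJ ⟨a, haJ⟩
          have haA := hkey a ha ⟨j, by simpa using congrArg Subtype.val hj⟩
          rw [← e, hU]
          exact Subgroup.mul_mem_sup (Subgroup.mem_inf.mpr ⟨haA, ha⟩) hb
        intro x
        refine ⟨hfwd x, fun hx => ?_⟩
        have hp' : IsPGroup p ↥((U.comap E.subtype).subgroupOf N) :=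
          ((hUp.comap_of_injective E.subtype E.subtype_injective)).comap_subtype
        have hle : (P : Subgroup ↥N) ≤ (U.comap E.subtype).subgroupOf N := fun z hz => hfwd z hz
        rw [← P.3 hp' hle]; exact hx
      refine ⟨fun x hx n => (hP _).mpr ?_⟩
      have hn : ((n : ↥E) : G) ∈ N' ⊔ q := hN'E (hNg ▸ ⟨n, n.2, rfl⟩)
      exact (Subgroup.mem_normalizer_iff.mp (hUn hn) _).mp ((hP x).mp hx)
    · -- `H = N' O`
      have h1 : R ≤ N' := by
        haveI : (N'.subgroupOf H).Normal := (Subgroup.normal_subgroupOf_iff_le_normalizer hN'H).mpr hHN'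
        rw [hR]
        refine Subgroup.map_le_iff_le_comap.mpr (Invol.pResidual_le_of_isPGroup_quotient
          (N := N'.subgroupOf H) (fun γ => ?_))
        obtain ⟨x, rfl⟩ := QuotientGroup.mk'_surjective _ γ
        have hx : (x : G) ∈ N' ⊔ O := heq.ge x.2
        rw [← SetLike.mem_coe, Subgroup.coe_mul_of_right_le_normalizer_left N' O (hOH₀.trans hHN')] at hx
        obtain ⟨n, hn, o, ho, e⟩ := hx
        obtain ⟨k, hk⟩ := h.O_isPGroup ⟨o, ho⟩
        refine ⟨k, ?_⟩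
        have e' : x = ⟨n, hN'H hn⟩ * ⟨o, hOH₀ ho⟩ := Subtype.ext e.symm
        rw [e', map_mul, show QuotientGroup.mk' (N'.subgroupOf H) ⟨n, hN'H hn⟩ = 1 from
          (QuotientGroup.eq_one_iff _).mpr hn, one_mul, ← map_pow]
        rw [show (⟨o, hOH₀ ho⟩ : ↥H) ^ p ^ k = 1 from Subtype.ext (by simpa using congrArg Subtype.val hk), map_one]
      apply hres
      rw [Cfsg.pResidual, Subgroup.closure_le]
      intro x hx
      have hxR : (x : G) ∈ Ng ⊔ q := (hN' ▸ inf_le_left : N' ≤ Ng ⊔ q) (h1 (hER ⟨x, Invol.mem_pResidual hx, rfl⟩))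
      rw [← SetLike.mem_coe, Subgroup.coe_mul_of_right_le_normalizer_left Ng q (hqE.trans hENg)] at hxR
      obtain ⟨n, hn, o, ho, e⟩ := hxR
      obtain ⟨n', hn', rfl⟩ := hNg ▸ hn
      have e' : x = n' * ⟨o, hqE ho⟩ := Subtype.ext e.symm
      obtain ⟨k, hk⟩ := hqp ⟨o, ho⟩
      haveI := hNn
      have h3 : (QuotientGroup.mk' N x) ^ p ^ k = 1 := by
        rw [e', map_mul, show QuotientGroup.mk' N n' = 1 from (QuotientGroup.eq_one_iff _).mpr hn', one_mul, ← map_pow,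
          show (⟨o, hqE ho⟩ : ↥E) ^ p ^ k = 1 from Subtype.ext (by simpa using congrArg Subtype.val hk), map_one]
      obtain ⟨i, hi⟩ := exists_pow_eq_self_of_coprime (x := x)
        ((Nat.Coprime.pow_right k (hx : (orderOf x).Coprime p)).symm)
      rw [SetLike.mem_coe, ← QuotientGroup.eq_one_iff (N := N), ← QuotientGroup.mk'_apply, ← hi, map_pow, map_pow, h3, one_pow]

end Cfsg.Agent.S2854
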