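import Cfsg.Prelude
import Cfsg.Agent.Lib.Invol.QuasiResidual
import Cfsg.Agent.Lib.Invol.WeakClosureProduct
import Cfsg.Agent.Lib.Invol.PReducedSub
import Cfsg.Agent.Lib.Fus.CentralExt
import Cfsg.Agent.S2843
-- import your own Cfsg.Agent.* helpers here

set_option autoImplicit false
open Cfsg

open scoped Pointwise commutatorElement

namespace Cfsg.Agent.S2860

/-- Let Q be a nontrivial large p-subgroup of the finite group H, U a nontrivial elementary abelian p-subgroup of H, and Q ≤ E ≤ N_H(U) with Q not normal in E. Suppose O_p(E/C_E(U)) = 1 and O^p(E)·C_E(U)/C_E(U) is quasisimple. Let E° be the weak closure of Q in E (generated by the conjugates of Q inside E) and E_∘ = O^p(E°). Then O^p(E)·C_E(U) = E_∘·C_E(U); E_∘ is perfect and equals O^p(E_∘); E_∘/C_{E_∘}(U) and E_∘/O_p(E_∘) are quasisimple; and E_∘ = [E_∘, Y] for every p-subgroup Y of E not centralizing U. -/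
theorem result {G : Type*} [Group G] [Finite G] {p : ℕ} [Fact p.Prime] (Q : Subgroup G) (hQp : IsPGroup p ↥Q) (hQ1 : Q ≠ ⊥) (hQ : Cfsg.IsLarge Q) (U : Subgroup G) (hU : Cfsg.IsElementaryAbelian p U) (hU1 : U ≠ ⊥) (E : Subgroup G) (hQE : Q ≤ E) (hEU : E ≤ Subgroup.normalizer ((U : Subgroup G) : Set G)) (hQn : ¬ E ≤ Subgroup.normalizer ((Q : Subgroup G) : Set G)) [hn : ((Subgroup.centralizer ((U : Subgroup G) : Set G)).subgroupOf E).Normal] (hred : Cfsg.pCore p (↥E ⧸ (Subgroup.centralizer ((U : Subgroup G) : Set G)).subgroupOf E) = ⊥) (hqs : Cfsg.IsQuasisimple ↥(((Cfsg.pResidual p ↥E) ⊔ (Subgroup.centralizer ((U : Subgroup G) : Set G)).subgroupOf E).map (QuotientGroup.mk' ((Subgroup.centralizer ((U : Subgroup G) : Set G)).subgroupOf E)))) (Er : Subgroup G) (hEr : Er = ((Cfsg.pResidual p ↥(Cfsg.weakClosure Q E)).map ((Cfsg.weakClosure Q E)).subtype)) [hn2 : ((Subgroup.centralizer ((U : Subgroup G) : Set G)).subgroupOf Er).Normal]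 : ((Cfsg.pResidual p ↥E).map (E).subtype) ⊔ (E ⊓ Subgroup.centralizer ((U : Subgroup G) : Set G)) = Er ⊔ (E ⊓ Subgroup.centralizer ((U : Subgroup G) : Set G)) ∧ ⁅Er, Er⁆ = Er ∧ ((Cfsg.pResidual p ↥Er).map (Er).subtype) = Er ∧ Cfsg.IsQuasisimple (↥Er ⧸ (Subgroup.centralizer ((U : Subgroup G) : Set G)).subgroupOf Er) ∧ Cfsg.IsQuasisimple (↥Er ⧸ Cfsg.pCore p ↥Er) ∧ ∀ Y : Subgroup G, Y ≤ E → IsPGroup p ↥Y → ¬ Y ≤ Subgroup.centralizer ((U : Subgroup G) : Set G) → ⁅Er, Y⁆ = Er := by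
  have hQn0 := hQn
  obtain ⟨C, hC⟩ : ∃ C, C = Subgroup.centralizer (U : Set G) := ⟨_, rfl⟩
  subst hC
  set C := Subgroup.centralizer (U : Set G)
  let π := QuotientGroup.mk' (C.subgroupOf E)
  have hwc := Invol.lg_wc hQp hQ1 hQ
  obtain ⟨W, hW⟩ : ∃ W, W = Cfsg.weakClosure Q E := ⟨_, rfl⟩
  obtain ⟨-, hWC, -⟩ := S2843.result Q hQp hQ1 hQ E hQE U (Invol.isPGroup_of_ea hU) hU1 hEU
  rw [← hW] at hWC
  obtain ⟨B, hB⟩ : ∃ B, B = Cfsg.pCoreOf p W := ⟨_, rfl⟩
  rw [← hB] at hWC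
  have hQW : Q ≤ W := hW ▸ le_trans (by rw [Invol.wc_map_conj_one])
    (le_iSup (fun g : {g : G // Q.map (MulAut.conj g).toMonoidHom ≤ E} => Q.map (MulAut.conj (g : G)).toMonoidHom)
      ⟨1, by rw [Invol.wc_map_conj_one]; exact hQE⟩)
  have hWE : W ≤ E := hW ▸ iSup_le fun g => g.2
  have hEW : E ≤ Subgroup.normalizer (W : Set G) := fun e he => by
    refine Subgroup.mem_normalizer_fintype fun x hx => ?_
    have hle : W ≤ W.comap (MulAut.conj e).toMonoidHom := by
      rw [hW]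
      refine iSup_le fun g => Subgroup.map_le_iff_le_comap.mp ?_
      rw [← Invol.wc_map_conj_mul]
      refine le_iSup (fun g : {g : G // Q.map (MulAut.conj g).toMonoidHom ≤ E} => Q.map (MulAut.conj (g : G)).toMonoidHom)
        ⟨e * g, ?_⟩
      rw [Invol.wc_map_conj_mul]
      rintro _ ⟨x, hx, rfl⟩
      exact E.mul_mem (E.mul_mem he (g.2 hx)) (E.inv_mem he)
    exact hle hx
  have hEr' : Er = Invol.WCProduct.res p W := by rw [hW]; exact hEr
  have hErW : Er ≤ W := hEr' ▸ Invol.WCProduct.res_le W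
  have hEEr : E ≤ Subgroup.normalizer (Er : Set G) := hEr' ▸ hEW.trans (Invol.WCProduct.normalizer_le_res W)
  have hErE : Er ≤ E := hErW.trans hWE
  have hWN : ∀ N : Subgroup G, N ≤ W → W ≤ Subgroup.normalizer (N : Set G) → ⁅Er, Q⁆ ≤ N → W ≤ N ⊔ Q := by
    intro N _ _ hc
    conv_lhs => rw [hW]
    refine iSup_le fun g => ?_
    have hgW : Q.map (MulAut.conj (g : G)).toMonoidHom ≤ W :=
      hW ▸ le_iSup (fun g : {g : G // Q.map (MulAut.conj g).toMonoidHom ≤ E} => Q.map (MulAut.conj (g : G)).toMonoidHom) g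
    obtain ⟨k, hk, e⟩ := Invol.WCProduct.conj_le_sup hQp hwc hErW (hWE.trans hEEr) hQW hEr'.ge hgW
    rw [e]
    rintro _ ⟨x, hx, rfl⟩
    show k * x * k⁻¹ ∈ N ⊔ Q
    rw [show k * x * k⁻¹ = ⁅k, x⁆ * x by rw [commutatorElement_def]; group]
    exact Subgroup.mul_mem_sup (hc (Subgroup.commutator_mem_commutator hk hx)) hx
  have hQn : Q ≤ Subgroup.normalizer (Er : Set G) := hQE.trans hEEr
  obtain ⟨u, ⟨huU, huQ⟩, hu1⟩ := Invol.lg_exists_fixed hQp (Invol.isPGroup_of_ea hU) hU1 (hQE.trans hEU)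
  have hCQ : C ≤ Subgroup.normalizer (Q : Set G) :=
    (Subgroup.centralizer_le (by simpa using huU)).trans (Invol.lg_centralizer_singleton_le hQ huQ hu1)
  have hEC : E ≤ Subgroup.normalizer (C : Set G) := fun e he => Subgroup.mem_normalizer_fintype fun c hc =>
    Subgroup.mem_centralizer_iff.mpr fun a ha => by
      have h1 := Subgroup.mem_centralizer_iff.mp hc _ ((Subgroup.mem_normalizer_iff''.mp (hEU he) a).mp ha)
      calc a * (e * c * e⁻¹) = e * (e⁻¹ * a * e * c) * e⁻¹ := by group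
        _ = e * (c * (e⁻¹ * a * e)) * e⁻¹ := by rw [h1]
        _ = e * c * e⁻¹ * a := by group
  have hQC : ¬ Q ≤ C := fun hle => hQn0 (fun e he => by
    have h1 : Q.map (MulAut.conj e).toMonoidHom ≤ C := by
      rintro _ ⟨x, hx, rfl⟩; exact (Subgroup.mem_normalizer_iff.mp (hEC he) x).mp (hle hx)
    exact Invol.wc_map_conj_eq_iff.mp (Invol.WCProduct.eq_of_le_pgroup hwc
      (IsPGroup.to_sup_of_normal_left' hQp (hQp.map (MulAut.conj e).toMonoidHom) (h1.trans hCQ)) le_sup_left le_sup_right))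
  -- the quotient
  obtain ⟨Fb, hFb⟩ : ∃ Fb, Fb = (Cfsg.pResidual p ↥E ⊔ C.subgroupOf E).map π := ⟨_, rfl⟩
  have hqs' : Cfsg.IsQuasisimple ↥Fb := hFb ▸ hqs
  have hFb' : Fb = (Cfsg.pResidual p ↥E).map π := by
    rw [hFb, Subgroup.map_sup, show (C.subgroupOf E).map π = ⊥ by rw [Subgroup.map_eq_bot_iff, QuotientGroup.ker_mk'], sup_bot_eq]
  haveI : Fb.Normal := hFb' ▸ (Subgroup.normal_of_characteristic (Cfsg.pResidual p ↥E)).map π (QuotientGroup.mk'_surjective _)
  have hres : Cfsg.pResidual p (↥E ⧸ C.subgroupOf E) ≤ Fb := by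
    rw [Cfsg.pResidual, Subgroup.closure_le]
    intro γ hγ
    obtain ⟨x, rfl⟩ := QuotientGroup.mk'_surjective _ γ
    obtain ⟨j, hj⟩ := Invol.exists_pow_coprime (p := p) x
    obtain ⟨i, hi⟩ := exists_pow_eq_self_of_coprime (x := π x)
      ((Nat.Coprime.pow_right j (hγ : (orderOf (π x)).Coprime p)).symm)
    rw [SetLike.mem_coe, ← hi, ← map_pow]
    exact Fb.pow_mem (hFb' ▸ Subgroup.mem_map_of_mem π (Invol.mem_pResidual hj)) i
  let im : Subgroup G → Subgroup (↥E ⧸ C.subgroupOf E) := fun X => (X.subgroupOf E).map π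
  have him_mem : ∀ (X : Subgroup G) (x : ↥E), (x : G) ∈ X → π x ∈ im X := fun X x hx => ⟨x, hx, rfl⟩
  have hQbne : im Q ≠ ⊥ := fun hb => hQC fun x hx => by
    have := hb ▸ him_mem Q ⟨x, hQE hx⟩ hx
    exact (QuotientGroup.eq_one_iff (⟨x, hQE hx⟩ : ↥E)).mp this
  have himp : ∀ X : Subgroup G, IsPGroup p X → IsPGroup p (im X) := fun X hX =>
    (hX.comap_subtype (K := E)).map π
  have himcomm : ∀ (X Y : Subgroup G), X ≤ E → Y ≤ E → ⁅im X, im Y⁆ = im ⁅X, Y⁆ := by
    intro X Y hX hY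
    show ⁅(X.subgroupOf E).map π, (Y.subgroupOf E).map π⁆ = ((⁅X, Y⁆ : Subgroup G).subgroupOf E).map π
    rw [← Subgroup.map_commutator]
    congr 1
    refine Subgroup.map_injective E.subtype_injective ?_
    rw [Subgroup.map_commutator, Subgroup.map_subgroupOf_eq_of_le hX, Subgroup.map_subgroupOf_eq_of_le hY,
      Subgroup.map_subgroupOf_eq_of_le]
    exact Subgroup.commutator_le.mpr fun a ha b hb => by
      rw [commutatorElement_def]
      exact E.mul_mem (E.mul_mem (E.mul_mem (hX ha) (hY hb)) (E.inv_mem (hX ha))) (E.inv_mem (hY hb))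
  have hErb : im Er = Fb := by
    refine le_antisymm ?_ ?_
    · rintro _ ⟨x, hx, rfl⟩
      rw [hFb']
      have hx' : (x : G) ∈ Invol.WCProduct.res p E := Invol.WCProduct.res_mono hWE (hEr' ▸ hx)
      obtain ⟨y, hy, e⟩ := hx'
      exact ⟨y, hy, by rw [show y = x from Subtype.ext e]⟩
    · have h1 : Fb ≤ im W := by
        rw [← Invol.QuasiResidual.commutator_eq hred hres hqs' (himp Q hQp) hQbne]
        haveI : (im W).Normal := ((Subgroup.normal_subgroupOf_iff_le_normalizer hWE).mpr hEW).map π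
          (QuotientGroup.mk'_surjective _)
        refine Subgroup.commutator_le.mpr fun a ha b hb => ?_
        have hbW : b ∈ im W := Subgroup.map_mono (show Q.subgroupOf E ≤ W.subgroupOf E from fun x hx => hQW hx) hb
        rw [commutatorElement_def]
        exact (im W).mul_mem ((inferInstance : (im W).Normal).conj_mem b hbW a) ((im W).inv_mem hbW)
      have hE' : W ≤ Er ⊔ Q := by
        refine hWN Er hErW (hWE.trans hEEr) (Subgroup.commutator_le.mpr fun a ha b hb => ?_)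
        rw [commutatorElement_def, show a * b * a⁻¹ * b⁻¹ = a * (b * a⁻¹ * b⁻¹) by group]
        exact Er.mul_mem ha ((Subgroup.mem_normalizer_iff.mp (hQn hb) _).mp (Er.inv_mem ha))
      have h2 : im W ≤ im Er ⊔ im Q := by
        rw [← Subgroup.map_sup, ← Subgroup.subgroupOf_sup hErE hQE]
        exact Subgroup.map_mono fun x hx => hE' hx
      have h3 : Fb ≤ Invol.WCProduct.res p Fb := by
        rw [Invol.WCProduct.res_eq_closure]
        conv_lhs => rw [hFb', Cfsg.pResidual, MonoidHom.map_closure]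
        refine Subgroup.closure_mono ?_
        rintro _ ⟨x, hx, rfl⟩
        exact ⟨hFb' ▸ Subgroup.mem_map_of_mem π (Invol.mem_pResidual hx),
          Nat.Coprime.coprime_dvd_left (orderOf_map_dvd π x) hx⟩
      refine h3.trans (Invol.WCProduct.res_le_of_le_sup (himp Q hQp) ?_ (h1.trans h2))
      haveI : (im Er).Normal := ((Subgroup.normal_subgroupOf_iff_le_normalizer hErE).mpr hEEr).map π
        (QuotientGroup.mk'_surjective _)
      rw [Subgroup.normalizer_eq_top]; exact le_top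
  have hdec : ∀ X : Subgroup G, X ≤ E → Fb ≤ im X → ∀ x ∈ Er, ∃ d ∈ X, d⁻¹ * x ∈ C := by
    intro X hX hle x hx
    obtain ⟨d, hd, e⟩ := hle (hErb.le (him_mem Er ⟨x, hErE hx⟩ hx))
    exact ⟨d, hd, (QuotientGroup.eq (s := C.subgroupOf E) (a := d) (b := ⟨x, hErE hx⟩)).mp e⟩
  obtain ⟨B', hB'⟩ : ∃ B', B' = B ⊓ Er := ⟨_, rfl⟩
  have hB'p : IsPGroup p B' := hB' ▸ (hB ▸ Invol.lg_isPGroup_pCoreOf W : IsPGroup p B).to_le inf_le_left
  have hErB' : ∀ z ∈ W, z ∈ Subgroup.normalizer (B' : Set G) := fun z hz => Subgroup.mem_normalizer_fintype fun a ha => by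
    rw [SetLike.mem_coe, hB'] at ha ⊢
    exact Subgroup.mem_inf.mpr ⟨(Subgroup.mem_normalizer_iff.mp (hB ▸ Invol.lg_le_normalizer_pCoreOf W hz) a).mp ha.1,
      (Subgroup.mem_normalizer_iff.mp (hEEr (hWE hz)) a).mp ha.2⟩
  have hkey : ∀ N : Subgroup G, N ≤ Er → Er ≤ Subgroup.normalizer (N : Set G) → Fb ≤ im N →
      ∀ b ∈ W, (∀ n ∈ N, ⁅n, b⁆ ∈ N) → b ∈ Subgroup.normalizer (Er : Set G) → ∀ x ∈ Er, ⁅x, b⁆ ∈ N ⊔ B' := by
    intro N hN hNn hle b hb hnb hbn x hx
    obtain ⟨d, hd, hc⟩ := hdec N (hN.trans hErE) hle x hx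
    have hcEr : d⁻¹ * x ∈ Er := Er.mul_mem (Er.inv_mem (hN hd)) hx
    have h1 : ⁅d⁻¹ * x, b⁆ ∈ B' := by
      rw [hB']
      refine Subgroup.mem_inf.mpr ⟨?_, ?_⟩
      · exact hWC (Subgroup.commutator_comm W C ▸ Subgroup.commutator_mem_commutator hc hb)
      · rw [commutatorElement_def, show ∀ c : G, c * b * c⁻¹ * b⁻¹ = c * (b * c⁻¹ * b⁻¹) from fun c => by group]
        exact Er.mul_mem hcEr ((Subgroup.mem_normalizer_iff.mp hbn _).mp (Er.inv_mem hcEr))
    rw [show x = d * (d⁻¹ * x) by group, commutatorElement_mul_left_eq_conj_mul]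
    exact Subgroup.mul_mem _ (Subgroup.mem_sup_right ((Subgroup.mem_normalizer_iff.mp (hErB' d (hErW (hN hd))) _).mp h1))
      (Subgroup.mem_sup_left (hnb d hd))
  have hcommle : ⁅Er, Q⁆ ≤ Er := Subgroup.commutator_le.mpr fun a ha b hb => by
    rw [commutatorElement_def, show a * b * a⁻¹ * b⁻¹ = a * (b * a⁻¹ * b⁻¹) by group]
    exact Er.mul_mem ha ((Subgroup.mem_normalizer_iff.mp (hQn hb) _).mp (Er.inv_mem ha))
  have hidem : Invol.WCProduct.res p Er = Er := by rw [hEr']; exact Invol.WCProduct.res_idem W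
  have hErQ : Er ≤ ⁅Er, Q⁆ := by
    have hn1 : Er ≤ Subgroup.normalizer ((⁅Er, Q⁆ : Subgroup G) : Set G) := by
      rw [Subgroup.commutator_comm]; exact (Grp.right_le_normalizer_commutator Er Q)
    have hn2 : Q ≤ Subgroup.normalizer ((⁅Er, Q⁆ : Subgroup G) : Set G) := Grp.right_le_normalizer_commutator Q Er
    have hW' : W ≤ Er ⊔ Q := hWN Er hErW (hWE.trans hEEr) hcommle
    have hWn : W ≤ Subgroup.normalizer ((⁅Er, Q⁆ : Subgroup G) : Set G) := hW'.trans (sup_le hn1 hn2)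
    calc Er = Invol.WCProduct.res p W := hEr'
      _ ≤ ⁅Er, Q⁆ := Invol.WCProduct.res_le_of_le_sup hQp hn2 (hWN _ (hcommle.trans hErW) hWn le_rfl)
  have hperf : ⁅Er, Er⁆ = Er := by
    obtain ⟨D, hD⟩ : ∃ D, D = ⁅Er, Er⁆ := ⟨_, rfl⟩
    have hDEr : D ≤ Er := hD ▸ Subgroup.commutator_le.mpr fun a ha b hb => by
      rw [commutatorElement_def]; exact Er.mul_mem (Er.mul_mem (Er.mul_mem ha hb) (Er.inv_mem ha)) (Er.inv_mem hb)
    have hnD : ∀ z ∈ Subgroup.normalizer (Er : Set G), z ∈ Subgroup.normalizer (D : Set G) := fun z hz => by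
      rw [← Invol.wc_map_conj_eq_iff, hD, Subgroup.map_commutator, Invol.wc_map_conj_eq_iff.mpr hz]
    have hle : Fb ≤ im D := by
      rw [hD, ← himcomm Er Er hErE hErE, hErb, Invol.QuasiResidual.commutator_self hqs']
    have hEr1 : Er ≤ D ⊔ B' := hErQ.trans (Subgroup.commutator_le.mpr fun x hx q hq =>
      hkey D hDEr (fun z hz => hnD z (Subgroup.le_normalizer hz)) hle q (hQW hq) (fun n hn => by
        rw [commutatorElement_def, show n * q * n⁻¹ * q⁻¹ = n * (q * n⁻¹ * q⁻¹) by group]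
        exact D.mul_mem hn ((Subgroup.mem_normalizer_iff.mp (hnD q (hQn hq)) _).mp (D.inv_mem hn))) (hQn hq) x hx)
    refine le_antisymm (hD ▸ hDEr) ?_
    calc Er = Invol.WCProduct.res p Er := hidem.symm
      _ ≤ ⁅Er, Er⁆ := hD ▸ Invol.WCProduct.res_le_of_le_sup hB'p
        (fun z hz => hnD z (Subgroup.le_normalizer ((hB' ▸ inf_le_right : B' ≤ Er) hz))) hEr1
  have hErperf : Group.IsPerfect ↥Er := by
    refine ⟨?_⟩
    refine Subgroup.map_injective Er.subtype_injective ?_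
    rw [Subgroup.map_subtype_commutator, hperf, ← MonoidHom.range_eq_map, Subgroup.range_subtype]
  refine ⟨?_, hperf, hidem, ?_, ?_, fun Y hYE hYp hYU => ?_⟩
  · refine le_antisymm (sup_le ?_ le_sup_right) (sup_le ?_ le_sup_right)
    · rintro _ ⟨x, hx, rfl⟩
      obtain ⟨d, hd, e⟩ := hErb.ge (hFb' ▸ Subgroup.mem_map_of_mem π hx)
      have hc : (d : G)⁻¹ * x ∈ C := (QuotientGroup.eq (s := C.subgroupOf E) (a := d) (b := x)).mp e
      show (x : G) ∈ _
      rw [show (x : G) = d * ((d : G)⁻¹ * x) by group]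
      exact Subgroup.mul_mem_sup hd (Subgroup.mem_inf.mpr ⟨E.mul_mem (E.inv_mem d.2) x.2, hc⟩)
    · rw [hEr']; exact le_sup_of_le_left (Invol.WCProduct.res_mono hWE)
  · let ψ : ↥Er →* (↥E ⧸ C.subgroupOf E) := π.comp (Subgroup.inclusion hErE)
    have hker : ψ.ker = C.subgroupOf Er := by
      ext x
      rw [MonoidHom.mem_ker]
      exact QuotientGroup.eq_one_iff (N := C.subgroupOf E) (Subgroup.inclusion hErE x)
    have hrange : ψ.range = Fb := by
      rw [← hErb]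
      ext γ
      constructor
      · rintro ⟨x, rfl⟩; exact him_mem Er _ x.2
      · rintro ⟨x, hx, rfl⟩; exact ⟨⟨x, hx⟩, rfl⟩
    exact (Grp.isQuasisimple_congr ((QuotientGroup.quotientMulEquivOfEq hker.symm).trans
      ((QuotientGroup.quotientKerEquivRange ψ).trans (MulEquiv.subgroupCongr hrange)))).mpr hqs'
  · have hq4 : Cfsg.IsQuasisimple (↥Er ⧸ C.subgroupOf Er) := by
      let ψ : ↥Er →* (↥E ⧸ C.subgroupOf E) := π.comp (Subgroup.inclusion hErE)
      have hker : ψ.ker = C.subgroupOf Er := by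
        ext x
        rw [MonoidHom.mem_ker]
        exact QuotientGroup.eq_one_iff (N := C.subgroupOf E) (Subgroup.inclusion hErE x)
      have hrange : ψ.range = Fb := by
        rw [← hErb]
        ext γ
        constructor
        · rintro ⟨x, rfl⟩; exact him_mem Er _ x.2
        · rintro ⟨x, hx, rfl⟩; exact ⟨⟨x, hx⟩, rfl⟩
      exact (Grp.isQuasisimple_congr ((QuotientGroup.quotientMulEquivOfEq hker.symm).trans
        ((QuotientGroup.quotientKerEquivRange ψ).trans (MulEquiv.subgroupCongr hrange)))).mpr hqs'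
    haveI hPn := Invol.pCore_normal p ↥Er
    haveI : (C.subgroupOf Er).Normal := hn2
    have hPC : Cfsg.pCore p ↥Er ≤ C.subgroupOf Er := by
      intro x hx
      have hxO : (x : G) ∈ Cfsg.pCoreOf p Er := ⟨x, hx, rfl⟩
      haveI : (im (Cfsg.pCoreOf p Er)).Normal := ((Subgroup.normal_subgroupOf_iff_le_normalizer
        ((Invol.lg_pCoreOf_le Er).trans hErE)).mpr (hEEr.trans (Invol.lg_normalizer_le_normalizer_pCoreOf Er))).map π
          (QuotientGroup.mk'_surjective _)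
      have h1 : π ⟨x, hErE x.2⟩ ∈ Cfsg.pCore p (↥E ⧸ C.subgroupOf E) :=
        Grp.le_pCore inferInstance (himp _ (Invol.lg_isPGroup_pCoreOf Er)) (him_mem _ ⟨x, hErE x.2⟩ hxO)
      have hred' : Cfsg.pCore p (↥E ⧸ C.subgroupOf E) = ⊥ := hred
      rw [hred', Subgroup.mem_bot] at h1
      exact (QuotientGroup.eq_one_iff (⟨x, hErE x.2⟩ : ↥E)).mp h1
    haveI hN₀ : ((C.subgroupOf Er).map (QuotientGroup.mk' (Cfsg.pCore p ↥Er))).Normal :=
      hn2.map _ (QuotientGroup.mk'_surjective _)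
    haveI := hErperf
    refine Fus.isQuasisimple_of_central (Group.IsPerfect.ofSurjective (QuotientGroup.mk'_surjective (Cfsg.pCore p ↥Er)))
      ((C.subgroupOf Er).map (QuotientGroup.mk' (Cfsg.pCore p ↥Er))) ?_
      ((Grp.isQuasisimple_congr (QuotientGroup.quotientQuotientEquivQuotient _ _ hPC)).mpr hq4)
    rintro _ ⟨c, hc, rfl⟩
    refine Subgroup.mem_center_iff.mpr fun γ => ?_
    obtain ⟨r, rfl⟩ := QuotientGroup.mk'_surjective _ γ
    have hrc : ((r : G) * c * (r : G)⁻¹ * (c : G)⁻¹) ∈ B' := by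
      rw [hB']
      refine Subgroup.mem_inf.mpr ⟨?_, (r * c * r⁻¹ * c⁻¹).2⟩
      have := hWC (Subgroup.commutator_mem_commutator (hErW r.2) hc)
      rwa [commutatorElement_def] at this
    have hB'O : B' ≤ Cfsg.pCoreOf p Er := Invol.lg_le_pCoreOf (hB' ▸ inf_le_right)
      (fun z hz => hErB' z (hErW hz)) hB'p
    obtain ⟨z, hz, e⟩ := hB'O hrc
    have h1 : QuotientGroup.mk' (Cfsg.pCore p ↥Er) (r * c * r⁻¹ * c⁻¹) = 1 := by
      rw [show r * c * r⁻¹ * c⁻¹ = z from Subtype.ext e.symm]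
      exact (QuotientGroup.eq_one_iff z).mpr hz
    simp only [map_mul, map_inv] at h1
    exact mul_inv_eq_iff_eq_mul.mp (mul_inv_eq_one.mp h1)
  · have hYb : im Y ≠ ⊥ := fun hb => hYU fun y hy => by
      have := hb ▸ him_mem Y ⟨y, hYE hy⟩ hy
      exact (QuotientGroup.eq_one_iff (⟨y, hYE hy⟩ : ↥E)).mp this
    obtain ⟨N, hN⟩ : ∃ N, N = ⁅Er, Y⁆ := ⟨_, rfl⟩
    have hNEr : N ≤ Er := hN ▸ Subgroup.commutator_le.mpr fun a ha b hb => by
      rw [commutatorElement_def, show a * b * a⁻¹ * b⁻¹ = a * (b * a⁻¹ * b⁻¹) by group]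
      exact Er.mul_mem ha ((Subgroup.mem_normalizer_iff.mp (hEEr (hYE hb)) _).mp (Er.inv_mem ha))
    have hNn : Er ≤ Subgroup.normalizer (N : Set G) := by
      rw [hN, Subgroup.commutator_comm]; exact (Grp.right_le_normalizer_commutator Er Y)
    have hle : Fb ≤ im N := by
      rw [hN, ← himcomm Er Y hErE hYE, hErb, Invol.QuasiResidual.commutator_eq hred hres hqs' (himp Y hYp) hYb]
    have hEr1 : Er ≤ N ⊔ B' := hperf.ge.trans (Subgroup.commutator_le.mpr fun x hx b hb =>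
      hkey N hNEr hNn hle b (hErW hb) (fun n hn => by
        rw [commutatorElement_def, show n * b * n⁻¹ * b⁻¹ = n * (b * n⁻¹ * b⁻¹) by group]
        exact N.mul_mem hn ((Subgroup.mem_normalizer_iff.mp (hNn hb) _).mp (N.inv_mem hn))) (Subgroup.le_normalizer hb) x hx)
    refine le_antisymm (hN ▸ hNEr) ?_
    calc Er = Invol.WCProduct.res p Er := hidem.symm
      _ ≤ ⁅Er, Y⁆ := hN ▸ Invol.WCProduct.res_le_of_le_sup hB'p
        ((hB' ▸ inf_le_right : B' ≤ Er).trans hNn) hEr1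

end Cfsg.Agent.S2860
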