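import Cfsg.Statements.S2861
import Cfsg.Agent.Lib.Invol.FrakLMember
-- import your own Cfsg.Agent.* helpers here

set_option autoImplicit false
open Cfsg

namespace Cfsg.Agent.S2861

/-- Standing hypotheses: G a finite group, S a Sylow p-subgroup, Q a nontrivial large p-subgroup of G contained in S, M a subgroup containing S with the basic property (M ∈ 𝔐_G(S)); Y_M the largest p-reduced normal subgroup of M and M† = M·C_G(Y_M). Let L ∈ 𝔏_G(Y_M) (L ∈ 𝔏_G(Y_M): Y_M ≤ L; O_p(L) is the normal closure in L of Y_M ∩ O_p(L) and normalizes Y_M; L is Y_M-minimal of characteristic p with N_L(Y_M) its unique maximal subgroup over Y_M; and L/O_p(L) ≅ SL₂(q) with q = |Y_M : Y_M ∩ O_p(L)|, or p = 2 and L/O_p(L) is a Suzuki group Sz(q) or dihedral of order 2r, r an odd prime) and A = O_p(L). Then Y_M·A/A is the unique nontrivial elementary abelian normal p-subgroup of N_L(Y_M)/A. -/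
theorem result {G : Type*} [Group G] [Finite G] {p : ℕ} [Fact p.Prime] (S : Sylow p G) (Q : Subgroup G) (hQp : IsPGroup p ↥Q) (hQ1 : Q ≠ ⊥) (hQS : Q ≤ (S : Subgroup G)) (hQ : Cfsg.IsLarge Q) (M : Subgroup G) (hSM : (S : Subgroup G) ≤ M) (hM : Cfsg.IsInFrakM p M) (L : Subgroup G) (hL : Cfsg.IsInFrakL p M L) (NL : Subgroup G) (hNL : NL = L ⊓ Subgroup.normalizer (((Cfsg.largestPReducedOf p M) : Subgroup G) : Set G)) [hn : (((Cfsg.pCoreOf p L)).subgroupOf NL).Normal] : let Ybar : Subgroup (↥NL ⧸ ((Cfsg.pCoreOf p L)).subgroupOf NL) := (((Cfsg.largestPReducedOf p M)).subgroupOf NL).map (QuotientGroup.mk' (((Cfsg.pCoreOf p L)).subgroupOf NL)); Ybar ≠ ⊥ ∧ Ybar.Normal ∧ Cfsg.IsElementaryAbelian p Ybar ∧ ∀ (V : Subgroup (↥NL ⧸ ((Cfsg.pCoreOf p L)).subgroupOf NL)), V.Normal → Cfsg.IsElementaryAbelian p V → V ≠ ⊥ → V = Ybar := by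
  subst hNL
  set NL := L ⊓ Subgroup.normalizer ((Cfsg.largestPReducedOf p M : Subgroup G) : Set G)
  intro Ybar
  have hYL : Cfsg.largestPReducedOf p M ≤ L := hL.1
  let ι : ↥NL →* ↥L := Subgroup.inclusion inf_le_left
  let f : ↥NL →* ↥L ⧸ Cfsg.pCore p ↥L := (Agent.Invol.FrakL.qmap p L).comp ι
  have hker : f.ker = (Cfsg.pCoreOf p L).subgroupOf NL := by
    ext z
    rw [MonoidHom.mem_ker, Subgroup.mem_subgroupOf]
    refine (QuotientGroup.eq_one_iff _).trans ?_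
    rw [← Agent.Invol.FrakL.pCore_subgroupOf, Subgroup.mem_subgroupOf]
    rfl
  have hrange : f.range = Subgroup.normalizer (Agent.Invol.FrakL.yBar p M L : Set (↥L ⧸ Cfsg.pCore p ↥L)) := by
    rw [← Subgroup.map_comap_eq_self_of_surjective (QuotientGroup.mk'_surjective _)
      (Subgroup.normalizer (Agent.Invol.FrakL.yBar p M L : Set (↥L ⧸ Cfsg.pCore p ↥L))),
      Agent.Invol.FrakL.comap_normalizer_yBar hL, MonoidHom.range_comp]
    congr 1
    ext x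
    rw [MonoidHom.mem_range, Agent.Invol.FrakL.mem_normalizer_yIn hYL]
    exact ⟨fun ⟨z, hz⟩ => hz ▸ (Subgroup.mem_inf.1 z.2).2,
      fun hx => ⟨⟨x, Subgroup.mem_inf.2 ⟨x.2, hx⟩⟩, Subtype.ext rfl⟩⟩
  let ψ : ↥NL ⧸ (Cfsg.pCoreOf p L).subgroupOf NL →* ↥L ⧸ Cfsg.pCore p ↥L :=
    QuotientGroup.lift _ f hker.ge
  have hψ : ∀ z : ↥NL, ψ (QuotientGroup.mk' _ z) = f z := fun z => rfl
  have hinj : Function.Injective ψ := by
    rw [← MonoidHom.ker_eq_bot_iff, eq_bot_iff]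
    intro q hq
    obtain ⟨z, rfl⟩ := QuotientGroup.mk'_surjective _ q
    rw [MonoidHom.mem_ker, hψ, ← MonoidHom.mem_ker, hker] at hq
    exact Subgroup.mem_bot.2 ((QuotientGroup.eq_one_iff z).2 hq)
  have hY : Ybar.map ψ = Agent.Invol.FrakL.yBar p M L := by
    ext q
    constructor
    · rintro ⟨_, ⟨z, hz, rfl⟩, rfl⟩
      exact ⟨ι z, hz, rfl⟩
    · rintro ⟨y, hy, rfl⟩
      exact ⟨_, ⟨⟨y, Subgroup.mem_inf.2 ⟨y.2, Subgroup.le_normalizer hy⟩⟩, hy, rfl⟩, rfl⟩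
  have hea : Cfsg.IsElementaryAbelian p Ybar := by
    refine Agent.Invol.FrakL.ea_map ⟨⟨⟨?_⟩⟩, fun a ha => Subtype.ext ((Agent.Invol.FrakL.ea_largest M).2 _ ha)⟩ _
    rintro ⟨a, ha⟩ ⟨b, hb⟩
    exact Subtype.ext (Subtype.ext (Agent.Invol.comm_of_ea (Agent.Invol.FrakL.ea_largest M) (a := (a : G)) (b := (b : G)) ha hb))
  have hsurj : ∀ x ∈ Subgroup.normalizer (Agent.Invol.FrakL.yBar p M L : Set (↥L ⧸ Cfsg.pCore p ↥L)),
      ∃ q, ψ q = x := fun x hx => by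
    rw [← hrange] at hx
    obtain ⟨z, rfl⟩ := hx
    exact ⟨_, hψ z⟩
  refine ⟨fun e => ?_, ⟨fun y hy q => ?_⟩, hea, fun V hV hVea hV1 => ?_⟩
  · have hne := (Agent.Invol.FrakL.isCoatom_normalizer_yIn hL).1
    rw [← Agent.Invol.FrakL.comap_normalizer_yBar hL, ← hY, e, Subgroup.map_bot] at hne
    rw [Subgroup.normalizer_eq_top_iff.2 inferInstance, Subgroup.comap_top] at hne
    exact hne rfl
  · have hq : ψ q ∈ Subgroup.normalizer (Agent.Invol.FrakL.yBar p M L : Set (↥L ⧸ Cfsg.pCore p ↥L)) := by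
      obtain ⟨z, rfl⟩ := QuotientGroup.mk'_surjective _ q
      exact hrange ▸ ⟨z, rfl⟩
    have h := (Subgroup.mem_normalizer_iff.1 hq (ψ y)).1 (hY ▸ Subgroup.mem_map_of_mem ψ hy)
    rw [← map_inv, ← map_mul, ← map_mul, ← hY] at h
    exact (Subgroup.mem_map_iff_mem hinj).1 h
  · refine Subgroup.map_injective hinj ?_
    rw [hY]
    refine (Agent.Invol.FrakL.quotGood hL).uniq _ ?_ ?_ ?_ ?_
    · rintro _ ⟨q, -, rfl⟩
      obtain ⟨z, rfl⟩ := QuotientGroup.mk'_surjective _ q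
      exact hrange ▸ ⟨z, rfl⟩
    · intro x hx
      obtain ⟨q, rfl⟩ := hsurj x hx
      rintro _ ⟨v, hv, rfl⟩
      exact ⟨q * v * q⁻¹, hV.conj_mem v hv q, by simp⟩
    · rintro _ ⟨v, hv, rfl⟩
      rw [← map_pow, hVea.2 v hv, map_one]
    · exact fun e => hV1 ((Subgroup.map_eq_bot_iff_of_injective _ hinj).1 e)

end Cfsg.Agent.S2861
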