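import Cfsg.Prelude
import Cfsg.Agent.Lib.Invol.FrakMAsym
import Cfsg.Agent.Lib.Invol.AsymLLemmaFactor
import Cfsg.Agent.Lib.Invol.PResidual
import Cfsg.Agent.S2853
import Cfsg.Agent.Lib.Invol.FrakHIrred
import Cfsg.Agent.Lib.Grp.Baer
-- import your own Cfsg.Agent.* helpers here

set_option autoImplicit false
open Cfsg

open scoped Pointwise commutatorElement

namespace Cfsg.Agent.S2862

set_option maxHeartbeats 1000000 in
/-- Standing hypotheses: G a finite group, S a Sylow p-subgroup, Q a nontrivial large p-subgroup of G contained in S, M a subgroup containing S with the basic property (M ∈ 𝔐_G(S)); Y_M the largest p-reduced normal subgroup of M and M† = M·C_G(Y_M). Suppose Y_M is char-p-tall and asymmetric in G, H ∈ ℌ_G(O_p(M)), and L is minimal among the subgroups of H containing Y_M with Y_M ≰ O_p(L). Then H = ⟨L, O_p(M)⟩ = ⟨hY_Mh⁻¹, O_p(M)⟩ for every h ∈ L outside N_L(Y_M); L is Y_M-minimal and of characteristic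 p, with N_L(Y_M) the unique maximal subgroup of L containing Y_M; [V, O^p(L)] ≠ 1 for every noncentral chief factor V/W of H inside O_p(H) (that is, O^p(L) does not act trivially on V/W); and the normal closure of O_p(L) ∩ Y_M in L lies in O_p(H). -/
theorem result {G : Type*} [Group G] [Finite G] {p : ℕ} [Fact p.Prime] (S : Sylow p G) (Q : Subgroup G) (hQp : IsPGroup p ↥Q) (hQ1 : Q ≠ ⊥) (hQS : Q ≤ (S : Subgroup G)) (hQ : Cfsg.IsLarge Q) (M : Subgroup G) (hSM : (S : Subgroup G) ≤ M) (hM : Cfsg.IsInFrakM p M) (htall : Cfsg.IsCharPTall p (Cfsg.largestPReducedOf p M)) (hasym : ¬ Cfsg.IsSymmetricIn (Cfsg.largestPReducedOf p M)) (H : Subgroup G) (hH : Cfsg.IsInFrakH p M H) (L : Subgroup G) (hLH : L ≤ H) (hYL : (Cfsg.largestPReducedOf p M) ≤ L) (hYO : ¬ (Cfsg.largestPReducedOf p M) ≤ (Cfsg.pCoreOf p L)) (hmin : ∀ L' : Subgroup G, L' ≤ L → (Cfsg.largestPReducedOf p M) ≤ L' → ¬ (Cfsg.largestPReducedOf p M) ≤ (Cfsg.pCoreOf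 p L') → L' = L) : (L ⊔ (Cfsg.pCoreOf p M) = H ∧ ∀ h ∈ L, h ∉ Subgroup.normalizer (((Cfsg.largestPReducedOf p M) : Subgroup G) : Set G) → (((Cfsg.largestPReducedOf p M) : Subgroup G).map (MulAut.conj (h : G)).toMonoidHom) ⊔ (Cfsg.pCoreOf p M) = H) ∧ (Cfsg.IsMinimalOver (((Cfsg.largestPReducedOf p M)).subgroupOf L) ∧ Subgroup.centralizer (Cfsg.pCore p ↥L : Set ↥L) ≤ Cfsg.pCore p ↥L ∧ L ⊓ Subgroup.normalizer (((Cfsg.largestPReducedOf p M) : Subgroup G) : Set G) < L ∧ ∀ X : Subgroup G, (Cfsg.largestPReducedOf p M) ≤ X → X < L → X ≤ L ⊓ Subgroup.normalizer (((Cfsg.largestPReducedOf p M) : Subgroup G) : Set G)) ∧ (∀ V W' : Subgroup G, V ≤ (Cfsg.pCoreOf p H) → H ≤ Subgroup.normalizer ((V : Subgroup G) : Set G) → H ≤ Subgroup.normalizer ((W' : Subgroup G) : Set G) → W' < V → (∀ Z' : Subgroup G, H ≤ Subgroup.normalizer ((Z' : Subgroup G) : Set G) → W' ≤ Z' → Z' ≤ V → Z' = W' ∨ Z' = V) → ¬ ⁅V, H⁆ ≤ W' → ¬ ⁅V, ((Cfsg.pResidual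 p ↥L).map (L).subtype)⁆ ≤ W') ∧ (Subgroup.normalClosure (((((Cfsg.pCoreOf p L) ⊓ (Cfsg.largestPReducedOf p M)).subgroupOf L : Subgroup ↥L)) : Set ↥L)).map L.subtype ≤ (Cfsg.pCoreOf p H) := by
  obtain ⟨Y, hY⟩ : ∃ Y, Y = Cfsg.largestPReducedOf p M := ⟨_, rfl⟩
  obtain ⟨O, hO⟩ : ∃ O, O = Cfsg.pCoreOf p M := ⟨_, rfl⟩
  have h : Invol.FrakMAsym.Setup S Q M (M ⊔ Subgroup.centralizer (Y : Set G)) Y O :=
    ⟨hQp, hQ1, hQ, hSM, hM, rfl, hY, hO⟩
  obtain ⟨-, hEN, hRY, hRO, -, -⟩ := S2853.result S Q hQp hQ1 hQS hQ M hSM hM htall hasym H hH _ rfl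
  rw [← hY] at hasym hYL hYO hmin hEN hRY ⊢
  obtain ⟨hHc, hOH, hYH, hHmin⟩ := hH
  rw [← hY] at hYH hHmin
  rw [← hO] at hOH hHmin hEN hRO ⊢
  have hwc := h.weaklyClosed hasym
  obtain ⟨E, hE⟩ : ∃ E, E = Cfsg.pCoreOf p H := ⟨_, rfl⟩
  rw [← hE] at hYH hEN ⊢
  have hEp : IsPGroup p E := hE ▸ Invol.lg_isPGroup_pCoreOf H
  have hEH : E ≤ H := hE ▸ Invol.lg_pCoreOf_le H
  have hHE : H ≤ Subgroup.normalizer (E : Set G) := hE ▸ Invol.lg_le_normalizer_pCoreOf H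
  have hCE : H ⊓ Subgroup.centralizer (E : Set G) ≤ E := hE ▸ Invol.lg_charP_iff.mp hHc
  have hpL := Invol.lg_isPGroup_pCoreOf (p := p) L
  have hnL := Invol.lg_le_normalizer_pCoreOf (p := p) L
  obtain ⟨A, hA⟩ : ∃ A, A = Cfsg.pCoreOf p L := ⟨_, rfl⟩
  rw [← hA] at hYO hpL hnL ⊢
  have hAL : A ≤ L := hA ▸ Invol.lg_pCoreOf_le L
  have hYp : IsPGroup p Y := h.O_isPGroup.to_le h.Y_le_O
  -- `p`-elements
  have hg1 : ∀ g ∈ H, ∀ n : ℕ, n.Coprime p → g ^ n = 1 →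
      g ∈ Subgroup.centralizer (E : Set G) → g = 1 := by
    intro g hg n hn hgn hgC
    obtain ⟨k, hk⟩ := hEp ⟨g, hCE ⟨hg, hgC⟩⟩
    exact orderOf_eq_one_iff.mp (Nat.eq_one_of_dvd_coprimes (Nat.Coprime.pow_right k hn)
      (orderOf_dvd_of_pow_eq_one hgn) (orderOf_dvd_of_pow_eq_one (by simpa using congrArg Subtype.val hk)))
  -- `L ⊔ O = H`
  have hLO : L ⊔ O = H := by
    by_contra hne
    refine hYO ((le_inf (hHmin _ le_sup_right (lt_of_le_of_ne (sup_le hLH hOH) hne)) hYL).trans ?_)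
    refine hA ▸ Invol.lg_le_pCoreOf inf_le_right ?_ ((Invol.lg_isPGroup_pCoreOf _).to_le inf_le_left)
    intro x hx
    refine Subgroup.mem_normalizer_fintype fun a ha => Subgroup.mem_inf.mpr ⟨?_,
      L.mul_mem (L.mul_mem hx ha.2) (L.inv_mem hx)⟩
    exact (Subgroup.mem_normalizer_iff.mp
      (Invol.lg_le_normalizer_pCoreOf _ (Subgroup.mem_sup_left hx)) a).mp ha.1
  -- two conjugates generate `L`
  obtain ⟨k, hk, hgen⟩ : ∃ k ∈ L, Y ⊔ Y.map (MulAut.conj k).toMonoidHom = L := by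
    by_contra hall
    push Not at hall
    have hpair : ∀ k ∈ L, IsPGroup p ↥(Y ⊔ Y.map (MulAut.conj k).toMonoidHom : Subgroup G) := by
      intro k hk
      obtain ⟨J, hJ⟩ : ∃ J, J = Y ⊔ Y.map (MulAut.conj k).toMonoidHom := ⟨_, rfl⟩
      have hJL : J ≤ L := hJ ▸ sup_le hYL (by
        rintro _ ⟨y, hy, rfl⟩; exact L.mul_mem (L.mul_mem hk (hYL hy)) (L.inv_mem hk))
      have hYJ : Y ≤ Cfsg.pCoreOf p J := by
        by_contra hn
        exact hall k hk (hJ ▸ hmin J hJL (hJ ▸ le_sup_left) hn)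
      rw [← hJ]
      refine (IsPGroup.to_sup_of_normal_left' (Invol.lg_isPGroup_pCoreOf (p := p) J)
        (hYp.map (MulAut.conj k).toMonoidHom)
        ((hJ ▸ le_sup_right).trans (Invol.lg_le_normalizer_pCoreOf J))).to_le ?_
      exact hJ.le.trans (sup_le (hYJ.trans le_sup_left) le_sup_right)
    refine hYO fun y hy => ?_
    have hz : ∀ g : ↥L, IsPGroup p (Subgroup.closure {(⟨y, hYL hy⟩ : ↥L), g * ⟨y, hYL hy⟩ * g⁻¹}) := by
      intro g
      refine ((hpair g g.2).comap_subtype (K := L)).to_le ((Subgroup.closure_le _).mpr ?_)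
      rintro _ (rfl | rfl)
      · exact Subgroup.mem_sup_left hy
      · exact Subgroup.mem_sup_right ⟨y, hy, rfl⟩
    rw [hA]
    exact ⟨⟨y, hYL hy⟩, Grp.baer_suzuki _ hz, rfl⟩
  have hkH : k ∈ H := hLH hk
  have hLO' : L ⊔ O.map (MulAut.conj k).toMonoidHom = H := by
    refine le_antisymm (sup_le hLH (by
      rintro _ ⟨o, ho, rfl⟩; exact H.mul_mem (H.mul_mem hkH (hOH ho)) (H.inv_mem hkH))) ?_
    rw [← hLO]
    refine sup_le le_sup_left fun o ho => ?_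
    have h1 : k * o * k⁻¹ ∈ L ⊔ O.map (MulAut.conj k).toMonoidHom := Subgroup.mem_sup_right ⟨o, ho, rfl⟩
    have h2 := Subgroup.mul_mem _ (Subgroup.mul_mem _ (Subgroup.inv_mem _ (Subgroup.mem_sup_left hk)) h1)
      (Subgroup.mem_sup_left hk)
    simpa [mul_assoc] using h2
  have hpr : Invol.AsymLFactor.Pair H E Y O :=
    ⟨h.Y_le_O.trans hOH, hOH, h.Y_le_O, h.O_le_centralizer, hEN.trans inf_le_right, hEN.trans inf_le_left⟩
  have c : Invol.AsymLFactor.Ctx p H E ((Cfsg.pResidual p ↥H).map H.subtype) L Y O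
      (Y.map (MulAut.conj k).toMonoidHom) (O.map (MulAut.conj k).toMonoidHom) :=
    ⟨hEH, hHE, hEp, h.O_isPGroup, hpr, hpr.conj hHE hkH, hgen, hLO, hLO', hRO, hRY⟩
  -- some factor is noncentral
  obtain ⟨V₀, W₀, f₀⟩ : ∃ V₀ W₀, Invol.AsymLFactor.Fac H E V₀ W₀ := by
    by_contra hnone
    push Not at hnone
    have hHp : IsPGroup p H := Invol.ModSeries.isPGroup_of_coprime_trivial fun g hg n hn hgn =>
      hg1 g hg n hn hgn (Invol.AsymLFactor.centralizes_of_factors hn hgn hg hEp hEH hHE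
        fun V W f => absurd f (hnone V W))
    exact hYH (hE ▸ (h.Y_le_O.trans hOH).trans (Invol.lg_le_pCoreOf le_rfl Subgroup.le_normalizer hHp))
  -- proper overgroups of `Y` in `L`
  have hX : ∀ X : Subgroup G, Y ≤ X → X < L → X ≤ L ⊓ Subgroup.normalizer (Y : Set G) := by
    intro X hYX hXL
    refine le_inf hXL.le ?_
    have hXp := Invol.lg_isPGroup_pCoreOf (p := p) X
    have hXn := Invol.lg_le_normalizer_pCoreOf (p := p) X
    have hXc : Cfsg.pCoreOf p X ≤ X := Invol.lg_pCoreOf_le X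
    have hYX' : Y ≤ Cfsg.pCoreOf p X := by
      by_contra hn
      exact hXL.ne (hmin X hXL.le hYX hn)
    have hne := f₀.sup_ne c hXL.le hYX' hXc hXp hXn
    obtain ⟨P, hP⟩ : ∃ P, P = X ⊔ O := ⟨_, rfl⟩
    have hPH : P < H := hP ▸ lt_of_le_of_ne (sup_le (hXL.le.trans hLH) hOH) hne
    have hYP := hHmin P (hP ▸ le_sup_right) hPH
    have hPn := Invol.lg_le_normalizer_pCoreOf (p := p) P
    have hPO : Cfsg.pCoreOf p P ≤ Subgroup.normalizer (O : Set G) :=
      le_sup_left.trans (Subgroup.le_normalizer.trans (Invol.wc_le_normalizer hwc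
        (IsPGroup.to_sup_of_normal_left' (Invol.lg_isPGroup_pCoreOf P) h.O_isPGroup
          ((hP ▸ le_sup_right : O ≤ P).trans hPn)) le_sup_right))
    have hPY : Cfsg.pCoreOf p P ≤ Subgroup.normalizer (Y : Set G) :=
      (hPO.trans h.normalizer_O_le).trans h.le_normalizer_Y
    have hcomm : ∀ x ∈ P, Y.map (MulAut.conj x).toMonoidHom ≤ Subgroup.centralizer (Y : Set G) := by
      intro x hx
      obtain ⟨Y', hY'⟩ : ∃ Y', Y' = Y.map (MulAut.conj x).toMonoidHom := ⟨_, rfl⟩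
      have h3 : Y' ≤ Subgroup.normalizer (Y : Set G) := by
        rw [hY']; rintro _ ⟨z, hz, rfl⟩
        exact hPY ((Subgroup.mem_normalizer_iff.mp (hPn hx) z).mp (hYP hz))
      have h4 : Y ≤ Subgroup.normalizer (Y' : Set G) := fun z hz =>
        Subgroup.mem_normalizer_fintype fun a ha => by
        rw [SetLike.mem_coe, hY'] at ha ⊢
        obtain ⟨b, hb, rfl⟩ := ha
        refine ⟨_, (Subgroup.mem_normalizer_iff.mp
          (hPY ((Subgroup.mem_normalizer_iff''.mp (hPn hx) z).mp (hYP hz))) b).mp hb, ?_⟩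
        simp [mul_assoc]
      rw [← hY', Subgroup.le_centralizer_iff, ← Subgroup.commutator_eq_bot_iff_le_centralizer]
      by_contra hne
      exact hasym ⟨x, hY' ▸ hne, hY' ▸ le_inf (Subgroup.commutator_le.mpr fun a ha b hb => by
        rw [commutatorElement_def, show a * b * a⁻¹ * b⁻¹ = a * (b * a⁻¹ * b⁻¹) by group]
        exact Subgroup.mul_mem _ ha ((Subgroup.mem_normalizer_iff.mp (h3 hb) _).mp (Subgroup.inv_mem _ ha)))
        (Subgroup.commutator_le.mpr fun a ha b hb => by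
        rw [commutatorElement_def]
        exact Subgroup.mul_mem _ ((Subgroup.mem_normalizer_iff.mp (h4 ha) b).mp hb) (Subgroup.inv_mem _ hb))⟩
    have hxO : ∀ x ∈ P, ∀ y ∈ Y, x * y * x⁻¹ ∈ O := by
      intro x hx y hy
      obtain ⟨U, hU⟩ : ∃ U, U = O ⊔ Cfsg.pCoreOf p P ⊓ Subgroup.centralizer (Y : Set G) := ⟨_, rfl⟩
      have hUp : IsPGroup p U := hU ▸ IsPGroup.to_sup_of_normal_left' h.O_isPGroup
        ((Invol.lg_isPGroup_pCoreOf P).to_le inf_le_left) (inf_le_left.trans hPO)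
      refine h.le_O hUp (hU ▸ le_sup_left) (hU ▸ sup_le h.O_le_centralizer inf_le_right) (hU ▸
        Subgroup.mem_sup_right (Subgroup.mem_inf.mpr ⟨(Subgroup.mem_normalizer_iff.mp (hPn hx) y).mp (hYP hy),
          hcomm x hx ⟨y, hy, rfl⟩⟩))
    intro x hx
    have hxH : x ∈ H := hLH (hXL.le hx)
    obtain ⟨J, hJ⟩ : ∃ J, J = O ⊔ O.map (MulAut.conj x).toMonoidHom := ⟨_, rfl⟩
    have hJH : J ≤ H := hJ ▸ sup_le hOH (by
      rintro _ ⟨o, ho, rfl⟩; exact H.mul_mem (H.mul_mem hxH (hOH ho)) (H.inv_mem hxH))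
    have hJp : IsPGroup p J := Invol.ModSeries.isPGroup_of_coprime_trivial fun g hg n hn hgn =>
      hg1 g (hJH hg) n hn hgn (Invol.AsymLFactor.centralizes_of_factors hn hgn (hJH hg) hEp hEH hHE
        fun V W f => f.triv_of_coprime c (hXL.le hx) (hxO x (hP ▸ Subgroup.mem_sup_left hx)) (hJ ▸ hg) hn hgn)
    have heq := Invol.wc_eq hwc hJp (hJ ▸ le_sup_left) (hJ ▸ le_sup_right)
    exact h.le_normalizer_Y (h.normalizer_O_le (Invol.wc_map_conj_eq_iff.mp heq))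
  obtain ⟨N, hN⟩ : ∃ N, N = L ⊓ Subgroup.normalizer (Y : Set G) := ⟨_, rfl⟩
  have hNlt : N < L := hN ▸ lt_of_le_of_ne inf_le_left fun e =>
    hYO (hA ▸ Invol.lg_le_pCoreOf hYL (e.ge.trans inf_le_right) hYp)
  have hYN : Y ≤ N := hN ▸ le_inf hYL Subgroup.le_normalizer
  rw [← hN] at hX
  rw [← hN]
  -- conjugates outside `N`
  have hgenh : ∀ g ∈ L, g ∉ Subgroup.normalizer (Y : Set G) →
      Y ⊔ Y.map (MulAut.conj g).toMonoidHom = L := by
    intro g hg hgY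
    by_contra hne
    obtain ⟨J, hJ⟩ : ∃ J, J = Y ⊔ Y.map (MulAut.conj g).toMonoidHom := ⟨_, rfl⟩
    have hJL : J ≤ L := hJ ▸ sup_le hYL (by
      rintro _ ⟨y, hy, rfl⟩; exact L.mul_mem (L.mul_mem hg (hYL hy)) (L.inv_mem hg))
    have hJN : J ≤ N := hX J (hJ ▸ le_sup_left) (lt_of_le_of_ne hJL (hJ ▸ hne))
    obtain ⟨N', hN'⟩ : ∃ N', N' = N.map (MulAut.conj g⁻¹).toMonoidHom := ⟨_, rfl⟩
    have hcard : Nat.card ↥N' = Nat.card ↥N := hN' ▸ Subgroup.card_map_of_injective (MulAut.conj g⁻¹).injective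
    have hN'L : N' ≤ L := by
      rw [hN']; rintro _ ⟨a, ha, rfl⟩
      simpa using L.mul_mem (L.mul_mem (L.inv_mem hg) (hNlt.le ha)) hg
    have hYN' : Y ≤ N' := fun y hy => hN' ▸ ⟨g * y * g⁻¹,
      hJN (hJ ▸ Subgroup.mem_sup_right ⟨y, hy, rfl⟩), by simp [mul_assoc]⟩
    have hN'N : N' ≤ N := hX N' hYN' (lt_of_le_of_ne hN'L fun e => hNlt.ne
      (Subgroup.eq_of_le_of_card_ge hNlt.le (by rw [← hcard, e])))
    have hgN : g ∈ Subgroup.normalizer (N : Set G) := inv_mem_iff.mp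
      (Invol.wc_map_conj_eq_iff.mp (hN' ▸ Subgroup.eq_of_le_of_card_ge hN'N hcard.ge))
    rcases lt_or_eq_of_le (inf_le_left : L ⊓ Subgroup.normalizer (N : Set G) ≤ L) with hlt | heq
    · have := hX _ (le_inf hYL (hYN.trans Subgroup.le_normalizer)) hlt ⟨hg, hgN⟩
      exact hgY ((hN ▸ this : g ∈ L ⊓ Subgroup.normalizer (Y : Set G)).2)
    · have hYc : Y ≤ Cfsg.pCoreOf p N := by
        by_contra hn
        exact hNlt.ne (hmin N hNlt.le hYN hn)
      exact hYO (hA ▸ hYc.trans (Invol.lg_le_pCoreOf ((Invol.lg_pCoreOf_le N).trans hNlt.le)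
        ((heq.ge.trans inf_le_right).trans (Invol.lg_normalizer_le_normalizer_pCoreOf N))
        (Invol.lg_isPGroup_pCoreOf N)))
  have hEL : E ≤ Subgroup.normalizer (L : Set G) := by
    conv_rhs => rw [← hgen]
    exact Invol.ModSeries.sup_normalized c.pair.EY c.pair'.EY
  have hELA : E ⊓ L ≤ A := by
    refine hA ▸ Invol.lg_le_pCoreOf inf_le_right (fun x hx => Subgroup.mem_normalizer_fintype fun a ha =>
      Subgroup.mem_inf.mpr ⟨(Subgroup.mem_normalizer_iff.mp (hHE (hLH hx)) a).mp ha.1,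
        L.mul_mem (L.mul_mem hx ha.2) (L.inv_mem hx)⟩) (hEp.to_le inf_le_left)
  have hres : ∀ V W : Subgroup G, Invol.AsymLFactor.Fac H E V W →
      ¬ ⁅V, (Cfsg.pResidual p ↥L).map L.subtype⁆ ≤ W := by
    intro V W f
    obtain ⟨T, hT⟩ : ∃ T : Sylow p ↥L, True := ⟨default, trivial⟩
    refine f.residual_nontrivial c (Subgroup.map_subtype_le _) (T.isPGroup'.map L.subtype)
      (Subgroup.map_subtype_le _) ?_
    rw [← Subgroup.map_sup, Invol.pResidual_sup_sylow T, ← MonoidHom.range_eq_map, Subgroup.range_subtype]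
  refine ⟨⟨hLO, fun g hg hgY => ?_⟩, ⟨⟨?_, ?_⟩, ?_, hNlt, hX⟩,
    fun V W hVE hHV hHW hlt hch hnc => hres V W ⟨hVE, hHV, hHW, hlt, hch, hnc⟩, ?_⟩
  · refine le_antisymm (sup_le ?_ hOH) ?_
    · rintro _ ⟨y, hy, rfl⟩
      exact H.mul_mem (H.mul_mem (hLH hg) (hpr.YH hy)) (H.inv_mem (hLH hg))
    · refine hLO.ge.trans (sup_le ((hgenh g hg hgY).ge.trans (sup_le ?_ le_sup_left)) le_sup_right)
      exact h.Y_le_O.trans le_sup_right
  · -- generated by the conjugates of `Y`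
    obtain ⟨Z, hZ⟩ : ∃ Z, Z = Subgroup.normalClosure ((Y.subgroupOf L : Subgroup ↥L) : Set ↥L) := ⟨_, rfl⟩
    rw [← hZ, eq_top_iff, ← Subgroup.map_le_map_iff_of_injective L.subtype_injective,
      ← MonoidHom.range_eq_map, Subgroup.range_subtype]
    conv_lhs => rw [← hgen]
    refine sup_le (fun y hy => ⟨⟨y, hYL hy⟩, hZ ▸ Subgroup.subset_normalClosure hy, rfl⟩) ?_
    rintro _ ⟨y, hy, rfl⟩
    exact ⟨⟨k, hk⟩ * ⟨y, hYL hy⟩ * ⟨k, hk⟩⁻¹,
      by rw [hZ]; exact Subgroup.normalClosure_normal.conj_mem _ (Subgroup.subset_normalClosure (show (⟨y, hYL hy⟩ : ↥L) ∈ Y.subgroupOf L from hy)) _, rfl⟩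
  · have hmax : ∀ Z : Subgroup ↥L, Y.subgroupOf L ≤ Z → Z ≠ ⊤ → Z ≤ N.subgroupOf L := by
      intro Z hYZ hZ
      have h1 : Z.map L.subtype < L := lt_of_le_of_ne (Subgroup.map_subtype_le _) fun e => hZ (by
        rw [← Subgroup.comap_map_eq_self_of_injective L.subtype_injective Z, e]
        exact Subgroup.subgroupOf_self L)
      have h2 : Y ≤ Z.map L.subtype := fun y hy => ⟨⟨y, hYL hy⟩, hYZ hy, rfl⟩
      exact fun z hz => hX _ h2 h1 ⟨z, hz, rfl⟩
    have hNtop : N.subgroupOf L ≠ ⊤ := fun e => hNlt.not_ge (Subgroup.subgroupOf_eq_top.mp e)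
    refine ⟨N.subgroupOf L, ⟨⟨hNtop, fun Z hZ => ?_⟩, fun y hy => hYN hy⟩, fun Z hZ => ?_⟩
    · by_contra hne
      exact hZ.not_ge (hmax Z ((show Y.subgroupOf L ≤ N.subgroupOf L from fun y hy => hYN hy).trans hZ.le) hne)
    · have := hmax Z hZ.2 hZ.1.1
      exact ((hZ.1.le_iff.mp this).resolve_left hNtop).symm
  · -- characteristic `p`
    rw [Invol.lg_charP_iff, ← hA]
    obtain ⟨C, hC⟩ : ∃ C, C = L ⊓ Subgroup.centralizer (A : Set G) := ⟨_, rfl⟩
    rw [← hC]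
    have hCp : IsPGroup p C := Invol.ModSeries.isPGroup_of_coprime_trivial fun g hg n hn hgn => by
      rw [hC] at hg
      refine hg1 g (hLH hg.1) n hn hgn (Subgroup.mem_centralizer_iff.mpr fun e he => ?_)
      have hw : g * e * g⁻¹ * e⁻¹ ∈ E ⊓ L := Subgroup.mem_inf.mpr
        ⟨E.mul_mem ((Subgroup.mem_normalizer_iff.mp (hHE (hLH hg.1)) e).mp he) (E.inv_mem he), by
          have h1 := L.mul_mem hg.1 ((Subgroup.mem_normalizer_iff.mp (hEL he) _).mp (L.inv_mem hg.1))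
          simpa [mul_assoc] using h1⟩
      have h2 := Subgroup.mem_centralizer_iff.mp hg.2 _ (hELA hw)
      have hbot : ∀ {x : G}, x ∈ Subgroup.normalizer ((⊥ : Subgroup G) : Set G) := fun {x} =>
        Subgroup.mem_normalizer_fintype fun a ha => by rw [SetLike.mem_coe, Subgroup.mem_bot] at ha ⊢; simp [ha]
      have h3 := Invol.ModSeries.coprime_step (W := (⊥ : Subgroup G)) hEp hn hgn
        hbot hw.1
        hbot (by
          rw [Subgroup.mem_bot, ← h2, mul_inv_cancel_right, mul_inv_cancel])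
      rw [Subgroup.mem_bot] at h3
      exact ((mul_inv_eq_iff_eq_mul.mp (mul_inv_eq_one.mp h3))).symm
    refine hA ▸ Invol.lg_le_pCoreOf (hC ▸ inf_le_left) ?_ hCp
    intro x hx
    refine Subgroup.mem_normalizer_fintype fun a ha => ?_
    rw [SetLike.mem_coe, hC] at ha ⊢
    refine Subgroup.mem_inf.mpr ⟨L.mul_mem (L.mul_mem hx ha.1) (L.inv_mem hx),
      Subgroup.mem_centralizer_iff.mpr fun b hb => ?_⟩
    have h1 := Subgroup.mem_centralizer_iff.mp ha.2 _ ((Subgroup.mem_normalizer_iff''.mp (hnL hx) b).mp hb)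
    calc b * (x * a * x⁻¹) = x * (x⁻¹ * b * x * a) * x⁻¹ := by group
      _ = x * (a * (x⁻¹ * b * x)) * x⁻¹ := by rw [h1]
      _ = x * a * x⁻¹ * b := by group
  · -- the normal closure of `A ⊓ Y`
    have hAYlt : A ⊔ Y < L := lt_of_le_of_ne (sup_le hAL hYL) fun e => hYO (hA ▸ hYL.trans
      (Invol.lg_le_pCoreOf le_rfl Subgroup.le_normalizer
        (e ▸ IsPGroup.to_sup_of_normal_left' hpL hYp (hYL.trans hnL))))
    have hAY : A ≤ Subgroup.normalizer (Y : Set G) := le_sup_left.trans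
      ((hX _ le_sup_right hAYlt).trans (hN ▸ inf_le_right))
    obtain ⟨K, hK⟩ : ∃ K, K = ⨅ q : {q : Subgroup G × Subgroup G // Invol.AsymLFactor.Fac H E q.1 q.2},
        Invol.ModSeries.fixOn q.1.2 (q.1.1 : Set G) ⊓ H := ⟨_, rfl⟩
    have hKmem : ∀ {x : G}, x ∈ K → ∀ V W, Invol.AsymLFactor.Fac H E V W →
        x ∈ Invol.ModSeries.fixOn W (V : Set G) ⊓ H := fun hx V W f =>
      Subgroup.mem_iInf.mp (hK ▸ hx) ⟨(V, W), f⟩
    have hKH : K ≤ H := fun x hx => (hKmem hx V₀ W₀ f₀).2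
    have hKp : IsPGroup p K := Invol.ModSeries.isPGroup_of_coprime_trivial fun g hg n hn hgn =>
      hg1 g (hKH hg) n hn hgn (Invol.AsymLFactor.centralizes_of_factors hn hgn (hKH hg) hEp hEH hHE
        fun V W f => (hKmem hg V W f).1.2)
    have hKE : K ≤ E := hE ▸ Invol.lg_le_pCoreOf hKH (fun x hx => Subgroup.mem_normalizer_fintype fun a ha => by
      rw [SetLike.mem_coe, hK] at ha ⊢
      refine Subgroup.mem_iInf.mpr fun q => Subgroup.mem_inf.mpr ⟨Invol.ModSeries.fixOn_normalizer (q.2.HW hx)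
        (q.2.HV hx) (Subgroup.mem_iInf.mp ha q).1, ?_⟩
      exact H.mul_mem (H.mul_mem hx (Subgroup.mem_iInf.mp ha q).2) (H.inv_mem hx)) hKp
    have hsub : A ⊓ Y ≤ E := by
      intro y hy
      refine hKE ?_
      rw [hK]
      refine Subgroup.mem_iInf.mpr fun q => Subgroup.mem_inf.mpr ⟨q.2.triv_of_normalizing c hy.2 ?_,
        hpr.YH hy.2⟩
      refine Subgroup.mem_normalizer_fintype fun a ha => ?_
      rw [SetLike.mem_coe, Invol.AsymLFactor.mem_map_conj] at ha ⊢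
      have h1 := hAY ((Subgroup.mem_normalizer_iff''.mp (hnL hk) y).mp hy.1)
      have h2 := (Subgroup.mem_normalizer_iff.mp h1 _).mp ha
      simpa [mul_assoc] using h2
    haveI : (E.subgroupOf L).Normal :=
      ⟨fun n hn g => (Subgroup.mem_normalizer_iff.mp (hHE (hLH g.2)) (n : G)).mp hn⟩
    exact Subgroup.map_le_iff_le_comap.mpr (Subgroup.normalClosure_le_normal (N := E.subgroupOf L)
      fun x hx => hsub hx)

end Cfsg.Agent.S2862
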