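import Cfsg.Prelude
import Cfsg.Agent.Lib.Invol.LargeSubgroup
import Cfsg.Agent.Lib.Grp.Subnormal
import Cfsg.Agent.Lib.Grp.Coprime
import Cfsg.Agent.Lib.Grp.Frattini
import Cfsg.Agent.Lib.Grp.Baer
-- import your own Cfsg.Agent.* helpers here

set_option autoImplicit false
open Cfsg

open scoped Pointwise commutatorElement

namespace Cfsg.Agent.S2864

/-- Standing hypotheses: G a finite group, S a Sylow p-subgroup, Q a nontrivial large p-subgroup of G contained in S, M a subgroup containing S with the basic property (M ∈ 𝔐_G(S)); Y_M the largest p-reduced normal subgroup of M and M† = M·C_G(Y_M). Let I be a nontrivial normal p-subgroup of M and Y ≤ O_p(M†); let L be a subgroup of G containing Y and A a normal p-subgroup of L with I ≤ A ≤ M. If [Y, A] ≤ [I, A], then Y ≤ O_p(L). -/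
theorem result {G : Type*} [Group G] [Finite G] {p : ℕ} [Fact p.Prime] (S : Sylow p G) (Q : Subgroup G) (hQp : IsPGroup p ↥Q) (hQ1 : Q ≠ ⊥) (hQS : Q ≤ (S : Subgroup G)) (hQ : Cfsg.IsLarge Q) (M : Subgroup G) (hSM : (S : Subgroup G) ≤ M) (hM : Cfsg.IsInFrakM p M) (I : Subgroup G) (hI1 : I ≠ ⊥) (hIp : IsPGroup p ↥I) (hIM : I ≤ M ∧ M ≤ Subgroup.normalizer ((I : Subgroup G) : Set G)) (Y : Subgroup G) (hY : Y ≤ (Cfsg.pCoreOf p (M ⊔ Subgroup.centralizer (((Cfsg.largestPReducedOf p M) : Subgroup G) : Set G)))) (L : Subgroup G) (hYL : Y ≤ L) (A : Subgroup G) (hAp : IsPGroup p ↥A) (hAL : A ≤ L ∧ L ≤ Subgroup.normalizer ((A : Subgroup G) : Set G)) (hIA : I ≤ A) (hAM : A ≤ M) (hc : ⁅Y, A⁆ ≤ ⁅I, A⁆) : Y ≤ (Cfsg.pCoreOf p L) := by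
  classical
  haveI : Fintype G := Fintype.ofFinite G
  obtain ⟨Md, hMd⟩ : ∃ Md, Md = M ⊔ Subgroup.centralizer ((Cfsg.largestPReducedOf p M : Subgroup G) : Set G) := ⟨_, rfl⟩
  rw [← hMd] at hY
  obtain ⟨-, -, huniq, -, -, -⟩ := hM
  rw [← hMd] at huniq
  -- the normalizer of `I` lies in `M†`
  have hNI : Subgroup.normalizer (I : Set G) ≤ Md := by
    obtain ⟨R, hR⟩ : ∃ R, R = Subgroup.normalizer (I : Set G) := ⟨_, rfl⟩
    rw [← hR]
    have hIR : I ≤ Cfsg.pCoreOf p R := Invol.lg_le_pCoreOf (hR ▸ Subgroup.le_normalizer) (hR ▸ le_rfl) hIp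
    have hO : Cfsg.pCore p ↥R ≠ ⊥ := fun h => hI1 (le_bot_iff.mp (hIR.trans (by
      rw [Cfsg.pCoreOf, h, Subgroup.map_bot])))
    have hc := Invol.lg_parabolic_centralizer hQp hQ1 hQ (R := R) ⟨S, hR ▸ hSM.trans hIM.2⟩ hO
    obtain ⟨X, hRX, hX⟩ := (Set.toFinite (Cfsg.charPSubgroups p G)).exists_le_maximal (show R ∈ _ from ⟨hO, hc⟩)
    have : X = Md := huniq X ⟨hX.1, fun L' hL' hle => le_antisymm (hX.2 hL' hle) hle⟩ ((hR ▸ hIM.2).trans hRX)
    exact this ▸ hRX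
  obtain ⟨A', hA'⟩ : ∃ A', A' = ⁅A, A⁆ := ⟨_, rfl⟩
  have hA'A : A' ≤ A := hA' ▸ Subgroup.commutator_le.mpr fun a ha b hb =>
    A.mul_mem (A.mul_mem (A.mul_mem ha hb) (A.inv_mem ha)) (A.inv_mem hb)
  have hnorm : ∀ g ∈ L, ∀ x ∈ A', g * x * g⁻¹ ∈ A' := by
    intro g hg x hx
    have h1 : A'.map (MulAut.conj g).toMonoidHom ≤ A' := by
      rw [hA', Subgroup.map_commutator]
      have h2 : A.map (MulAut.conj g).toMonoidHom ≤ A := by
        rintro _ ⟨a, ha, rfl⟩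
        exact (Subgroup.mem_normalizer_iff.mp (hAL.2 hg) a).mp ha
      exact Subgroup.commutator_mono h2 h2
    exact h1 ⟨x, hx, rfl⟩
  have hconjA : ∀ g ∈ L, ∀ a ∈ A, g * a * g⁻¹ ∈ A := fun g hg a ha =>
    (Subgroup.mem_normalizer_iff.mp (hAL.2 hg) a).mp ha
  -- elements of `L` trivial on `A / A'`
  let K : Subgroup G :=
    { carrier := {g | g ∈ L ∧ ∀ a ∈ A, g * a * g⁻¹ * a⁻¹ ∈ A'}
      one_mem' := ⟨L.one_mem, fun a _ => by simp⟩
      mul_mem' := by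
        rintro g k ⟨hg, hg'⟩ ⟨hk, hk'⟩
        refine ⟨L.mul_mem hg hk, fun a ha => ?_⟩
        rw [show g * k * a * (g * k)⁻¹ * a⁻¹ = (g * (k * a * k⁻¹ * a⁻¹) * g⁻¹) * (g * a * g⁻¹ * a⁻¹) by group]
        exact A'.mul_mem (hnorm g hg _ (hk' a ha)) (hg' a ha)
      inv_mem' := by
        rintro g ⟨hg, hg'⟩
        refine ⟨L.inv_mem hg, fun a ha => ?_⟩
        rw [show g⁻¹ * a * g⁻¹⁻¹ * a⁻¹ = g⁻¹ * (g * a * g⁻¹ * a⁻¹)⁻¹ * g⁻¹⁻¹ by group]
        exact hnorm _ (L.inv_mem hg) _ (A'.inv_mem (hg' a ha)) }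
  have hKL : K ≤ L := fun g hg => hg.1
  have hLK : L ≤ Subgroup.normalizer (K : Set G) := by
    intro l hl
    refine Subgroup.mem_normalizer_fintype fun g hg => ⟨L.mul_mem (L.mul_mem hl hg.1) (L.inv_mem hl), fun a ha => ?_⟩
    have h := hg.2 _ (hconjA _ (L.inv_mem hl) a ha)
    rw [show l * g * l⁻¹ * a * (l * g * l⁻¹)⁻¹ * a⁻¹ = l * (g * (l⁻¹ * a * l⁻¹⁻¹) * g⁻¹ * (l⁻¹ * a * l⁻¹⁻¹)⁻¹) * l⁻¹ by group]
    exact hnorm l hl _ h
  have hYK : Y ≤ K := fun y hy => ⟨hYL hy, fun a ha => by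
    have h := hc (Subgroup.commutator_mem_commutator hy ha)
    exact hA' ▸ Subgroup.commutator_mono hIA le_rfl h⟩
  obtain ⟨C, hC⟩ : ∃ C : Subgroup ↥K, C = (Subgroup.centralizer (A : Set G)).subgroupOf K := ⟨_, rfl⟩
  haveI hCn : C.Normal := by
    refine ⟨fun c hc' k => ?_⟩
    rw [hC, Subgroup.mem_subgroupOf] at hc' ⊢
    refine Subgroup.mem_centralizer_iff.mpr fun a ha => ?_
    have h := Subgroup.mem_centralizer_iff.mp hc' _ (hconjA _ (L.inv_mem (hKL k.2)) a ha)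
    simp only [Subgroup.coe_mul, Subgroup.coe_inv]
    calc a * ((k : G) * c * (k : G)⁻¹) = k * ((k : G)⁻¹ * a * (k : G)⁻¹⁻¹ * c) * (k : G)⁻¹ := by group
      _ = k * ((c : G) * ((k : G)⁻¹ * a * (k : G)⁻¹⁻¹)) * (k : G)⁻¹ := by rw [h]
      _ = _ := by group
  -- coprime action
  have hcop : ∀ g : ↥K, (orderOf g).Coprime p → g ∈ C := by
    intro g hg
    obtain ⟨Z, hZ⟩ : ∃ Z, Z = Subgroup.zpowers (g : G) := ⟨_, rfl⟩
    have hZA : Z ≤ Subgroup.normalizer (A : Set G) := hZ ▸ Subgroup.zpowers_le.mpr (hAL.2 (hKL g.2))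
    have hcZ : (Nat.card Z).Coprime (Nat.card A) := by
      rw [hZ, Nat.card_zpowers, Subgroup.orderOf_coe]
      obtain ⟨n, hn⟩ := IsPGroup.iff_card.mp hAp
      rw [hn]; exact Nat.Coprime.pow_right n hg
    haveI := hAp.isNilpotent
    have hsup := Grp.commutator_sup_fixed Z A hZA hcZ (Or.inr inferInstance)
    have hle : ⁅A, Z⁆ ≤ A' := by
      rw [Subgroup.commutator_le]
      intro a ha z hz
      have hzK : z ∈ K := (Subgroup.zpowers_le.mpr g.2) (hZ ▸ hz)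
      rw [show ⁅a, z⁆ = (z * a * z⁻¹ * a⁻¹)⁻¹ by rw [commutatorElement_def]; group]
      exact A'.inv_mem (hzK.2 a ha)
    have htop : (A ⊓ Subgroup.centralizer (Z : Set G)).subgroupOf A ⊔ frattini ↥A = ⊤ := by
      refine eq_top_iff.mpr fun a _ => ?_
      have h1 : (a : G) ∈ A' ⊔ (A ⊓ Subgroup.centralizer (Z : Set G)) := sup_le_sup_right hle _ (hsup.ge a.2)
      rw [← Subgroup.mem_subgroupOf (H := A' ⊔ (A ⊓ Subgroup.centralizer (Z : Set G))) (K := A),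
        Subgroup.subgroupOf_sup hA'A inf_le_left] at h1
      refine SetLike.le_def.mp (sup_le ?_ le_sup_left) h1
      refine le_trans ?_ le_sup_right
      refine le_trans ?_ (Grp.pGroup_commutator_le_frattini hAp)
      intro x hx
      rw [Subgroup.mem_subgroupOf, hA', ← Subgroup.map_subtype_commutator] at hx
      obtain ⟨y, hy, e⟩ := hx
      rwa [← Subtype.ext e]
    have h2 := frattini_nongenerating htop
    rw [hC, Subgroup.mem_subgroupOf]
    refine Subgroup.mem_centralizer_iff.mpr fun a ha => ?_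
    have h3 : (⟨a, ha⟩ : A) ∈ (A ⊓ Subgroup.centralizer (Z : Set G)).subgroupOf A := h2 ▸ Subgroup.mem_top _
    exact (Subgroup.mem_centralizer_iff.mp h3.2 _ (hZ ▸ Subgroup.mem_zpowers (g : G))).symm
  have hquot : IsPGroup p (↥K ⧸ C) := by
    intro q
    obtain ⟨g, rfl⟩ := QuotientGroup.mk'_surjective C q
    obtain ⟨k, m, hm, hgm⟩ := Nat.exists_eq_pow_mul_and_not_dvd (orderOf_pos g).ne' p (Fact.out : p.Prime).ne_one
    refine ⟨k, ?_⟩
    rw [← map_pow]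
    refine (QuotientGroup.eq_one_iff _).mpr (hcop _ ?_)
    rw [orderOf_pow, hgm, Nat.gcd_eq_right (Dvd.intro _ rfl), Nat.mul_div_cancel_left _ (pow_pos (Fact.out : p.Prime).pos _)]
    exact ((Fact.out : p.Prime).coprime_iff_not_dvd.mpr hm).symm
  obtain ⟨R, hR⟩ : ∃ R : Subgroup ↥K, R = (Cfsg.pCoreOf p Md).subgroupOf K := ⟨_, rfl⟩
  have hRp : IsPGroup p ↥R := hR ▸ (Invol.lg_isPGroup_pCoreOf Md).comap_subtype
  have hCR : C ≤ Subgroup.normalizer (R : Set ↥K) := by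
    intro c hc'
    rw [hC, Subgroup.mem_subgroupOf] at hc'
    have hcMd : (c : G) ∈ Md := hNI (Subgroup.centralizer_le_normalizer _ (Subgroup.centralizer_le hIA hc'))
    refine Subgroup.mem_normalizer_fintype fun r hr => ?_
    rw [SetLike.mem_coe, hR, Subgroup.mem_subgroupOf] at hr ⊢
    exact (Subgroup.mem_normalizer_iff.mp (Invol.lg_le_normalizer_pCoreOf Md hcMd) r).mp hr
  have hsn : R.IsSubnormal := by
    haveI := hquot.isNilpotent
    have h1 : (R ⊔ C).IsSubnormal := by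
      have h := (Grp.isSubnormal_of_nilpotent (R.map (QuotientGroup.mk' C))).comap (QuotientGroup.mk' C)
      rwa [Subgroup.comap_map_eq, QuotientGroup.ker_mk'] at h
    refine Subgroup.IsSubnormal.trans le_sup_left ?_ h1
    exact (Subgroup.normal_subgroupOf_of_le_normalizer (sup_le Subgroup.le_normalizer hCR)).isSubnormal
  have hle := Grp.le_pCore_of_isSubnormal hsn hRp
  intro y hy
  refine Invol.lg_le_pCoreOf ((Invol.lg_pCoreOf_le K).trans hKL)
    (hLK.trans (Invol.lg_normalizer_le_normalizer_pCoreOf K)) (Invol.lg_isPGroup_pCoreOf K) ?_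
  exact ⟨⟨y, hYK hy⟩, hle (hR ▸ hY hy), rfl⟩

end Cfsg.Agent.S2864
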