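import Cfsg.Statements.S3058
import Cfsg.Agent.Lib.Invol.SylowChains
import Cfsg.Agent.Lib.Grp.CoprimeAbelian
-- import your own Cfsg.Agent.* helpers here

set_option autoImplicit false
open Cfsg

namespace Cfsg.Agent.S3058

open scoped commutatorElement

/-- Let p be a prime and G a finite group whose Sylow p-subgroups are not chain-connected through nontrivial intersections (so G has a strongly p-embedded subgroup). If N and M are normal subgroups of G whose orders are both divisible by p, then the order of N ∩ M is divisible by p. Consequently, among the normal subgroups of G whose order is divisible by p there is a smallest one (the intersection of all of them). -/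
theorem result {G : Type*} [Group G] [Finite G]
    (p : ℕ) [Fact p.Prime] (hG : ¬ Cfsg.IsSylowChainConnected p G)
    (N M : Subgroup G) [N.Normal] [M.Normal] (hN : p ∣ Nat.card N) (hM : p ∣ Nat.card M) :
    p ∣ Nat.card ↥(N ⊓ M) := by
  classical
  by_contra hNM
  obtain ⟨H, hHtop, hdH, hY⟩ := Cfsg.Agent.Invol.exists_classical_of_not_connected hG
  obtain ⟨P, hPH⟩ := Cfsg.Agent.Invol.exists_sylow_le_of_classical hdH hY
  have hmeet : ∀ K : Subgroup G, K.Normal → p ∣ Nat.card K →
      ∃ z ∈ K ⊓ (P : Subgroup G), orderOf z = p := by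
    intro K hK hd
    obtain ⟨w, hwK, hw⟩ := Cfsg.Agent.Invol.exists_orderOf_prime_mem hd
    obtain ⟨g, hg⟩ := Cfsg.Agent.Invol.exists_conj_mem_sylow (n := 1) (by rw [hw, pow_one]) P
    exact ⟨g * w * g⁻¹, ⟨hK.conj_mem w hwK g, hg⟩, by rw [← MulAut.conj_apply, MulEquiv.orderOf_eq, hw]⟩
  obtain ⟨z, hz, hzo⟩ := hmeet N inferInstance hN
  obtain ⟨w, hw, hwo⟩ := hmeet M inferInstance hM
  have hmemH : ∀ x : G, ∀ a ∈ H, orderOf a = p → x * a * x⁻¹ ∈ H → x ∈ H := by
    intro x a ha hao hxa
    by_contra hx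
    refine hY x hx (Cfsg.Agent.Invol.dvd_card_of_mem (z := x * a * x⁻¹) ?_
      (Subgroup.mem_inf.mpr ⟨hxa, ⟨a, ha, rfl⟩⟩))
    rw [← MulAut.conj_apply, MulEquiv.orderOf_eq, hao]
  set K := N ⊓ M with hK
  have hKco : (Nat.card K).Coprime p := ((Fact.out : p.Prime).coprime_iff_not_dvd.mpr hNM).symm
  have hzw : ⁅z, w⁆ = 1 := by
    have h1 : ⁅z, w⁆ ∈ K := by
      refine Subgroup.mem_inf.mpr ⟨?_, ?_⟩
      · exact Subgroup.commutator_le_left N M (Subgroup.commutator_mem_commutator hz.1 hw.1)
      · exact Subgroup.commutator_le_right N M (Subgroup.commutator_mem_commutator hz.1 hw.1)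
    have h2 : ⁅z, w⁆ ∈ (P : Subgroup G) := by
      rw [commutatorElement_def]
      exact mul_mem (mul_mem (mul_mem hz.2 hw.2) (inv_mem hz.2)) (inv_mem hw.2)
    obtain ⟨k, hk⟩ := (P.isPGroup'.to_le (inf_le_right : K ⊓ (P : Subgroup G) ≤ _)).exists_card_eq
    have h3 : Nat.card ↥(K ⊓ (P : Subgroup G)) = 1 :=
      Nat.eq_one_of_dvd_coprimes (hKco.pow_right k) (Subgroup.card_dvd_of_le inf_le_left) (by rw [hk])
    exact Subgroup.mem_bot.mp ((Subgroup.card_eq_one.mp h3).le ⟨h1, h2⟩)
  have hzwc : Commute z w := commutatorElement_eq_one_iff_commute.mp hzw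
  set A := Subgroup.closure ({z, w} : Set G) with hA
  have hAcomm : ∀ a ∈ ({z, w} : Set G), ∀ b ∈ ({z, w} : Set G), a * b = b * a := by
    rintro a (rfl | rfl) b (rfl | rfl)
    · rfl
    · exact hzwc.eq
    · exact hzwc.symm.eq
    · rfl
  have : IsMulCommutative A := Subgroup.isMulCommutative_closure hAcomm
  have hzA : z ∈ A := Subgroup.subset_closure (by simp)
  have hwA : w ∈ A := Subgroup.subset_closure (by simp)
  have hnc : ¬ IsCyclic A := by
    intro hc
    have hpow : ∀ a ∈ A, a ^ p = 1 := by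
      intro a ha
      induction ha using Subgroup.closure_induction with
      | mem a ha =>
        rcases ha with rfl | rfl
        · rw [← hzo]; exact pow_orderOf_eq_one _
        · rw [← hwo]; exact pow_orderOf_eq_one _
      | one => exact one_pow _
      | mul a b ha hb h1 h2 =>
        rw [(show Commute a b from congrArg Subtype.val
          (‹IsMulCommutative A›.is_comm.comm (⟨a, ha⟩ : A) ⟨b, hb⟩)).mul_pow, h1, h2, mul_one]
      | inv a _ h1 => rw [inv_pow, h1, inv_one]
    have h1 : Nat.card A ≤ p := by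
      rw [← IsCyclic.exponent_eq_card]
      exact Nat.le_of_dvd (Fact.out : p.Prime).pos
        (Monoid.exponent_dvd_of_forall_pow_eq_one fun a => Subtype.ext (hpow a a.2))
    have h2 : Subgroup.zpowers z = A := Subgroup.eq_of_le_of_card_ge (Subgroup.zpowers_le.mpr hzA)
      (by rwa [Nat.card_zpowers, hzo])
    obtain ⟨i, hi⟩ := Subgroup.mem_zpowers_iff.mp (h2.ge hwA)
    exact hNM (Cfsg.Agent.Invol.dvd_card_of_mem hwo ⟨hi ▸ zpow_mem (show z ∈ N from hz.1) i, hw.1⟩)
  have hAP : A ≤ (P : Subgroup G) := by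
    rw [hA, Subgroup.closure_le]
    rintro a (rfl | rfl)
    · exact hz.2
    · exact hw.2
  have hKH : K ≤ H := by
    rw [← Cfsg.Agent.Grp.generated_by_centralizers A K hnc (fun a _ =>
      (Subgroup.normalizer_eq_top K).ge (Subgroup.mem_top a)) (by
        obtain ⟨k, hk⟩ := (P.isPGroup'.to_le hAP).exists_card_eq
        exact hk ▸ (hKco.pow_right k).symm)]
    refine iSup₂_le fun a ha x hx => ?_
    obtain ⟨haA, ha1⟩ := ha
    obtain ⟨k, hk⟩ := IsPGroup.iff_orderOf.mp (P.isPGroup'.to_le hAP) ⟨a, haA⟩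
    rw [Subgroup.orderOf_mk] at hk
    obtain ⟨b, hb, hbo⟩ : ∃ b ∈ Subgroup.zpowers a, orderOf b = p := by
      refine Cfsg.Agent.Invol.exists_orderOf_prime_mem ?_
      rw [Nat.card_zpowers, hk]
      refine dvd_pow_self p fun h0 => ha1 ?_
      rwa [h0, pow_zero, orderOf_eq_one_iff] at hk
    refine hmemH x b (hPH (hAP (Subgroup.zpowers_le.mpr haA hb))) hbo ?_
    obtain ⟨i, rfl⟩ := Subgroup.mem_zpowers_iff.mp hb
    rw [((show Commute x a from Subgroup.mem_centralizer_singleton_iff.mp hx.2).zpow_right i).eq,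
      mul_inv_cancel_right]
    exact zpow_mem (hPH (hAP haA)) i
  have hNH : N ≤ H := by
    intro g hg
    refine hmemH g w (hPH hw.2) hwo ?_
    have h1 : ⁅g, w⁆ ∈ K := Subgroup.mem_inf.mpr
      ⟨Subgroup.commutator_le_left N M (Subgroup.commutator_mem_commutator hg hw.1),
        Subgroup.commutator_le_right N M (Subgroup.commutator_mem_commutator hg hw.1)⟩
    rw [show g * w * g⁻¹ = ⁅g, w⁆ * w by rw [commutatorElement_def]; group]
    exact mul_mem (hKH h1) (hPH hw.2)
  exact hHtop (Subgroup.eq_top_iff' _ |>.mpr fun x =>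
    hmemH x z (hNH hz.1) hzo (hNH (Subgroup.Normal.conj_mem inferInstance z hz.1 x)))

end Cfsg.Agent.S3058
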