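import Cfsg.Statements.S2872
import Cfsg.Agent.Lib.Invol.Transfer2
import Cfsg.Agent.Lib.Invol.PResidual
import Cfsg.Agent.Lib.Transfer.Tate
-- import your own Cfsg.Agent.* helpers here

set_option autoImplicit false
open Cfsg

namespace Cfsg.Agent.S2872

/-- Let S be a Sylow 2-subgroup of the finite group G. Then G has a proper normal subgroup of 2-power index (O²(G) ≠ G), or Ω₁(Z(S)) is contained in the Frattini subgroup of S, or N_G(S) acts nontrivially on Ω₁(Z(S)) by conjugation. -/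
theorem result {G : Type*} [Group G] [Finite G] (S : Sylow 2 G) : Cfsg.pResidual 2 G ≠ ⊤ ∨ Cfsg.omegaOne 2 ((S : Subgroup G) ⊓ Subgroup.centralizer ((S : Subgroup G) : Set G)) ≤ (frattini ↥(S : Subgroup G)).map (S : Subgroup G).subtype ∨ ∃ g ∈ Subgroup.normalizer ((S : Subgroup G) : Set G), ∃ z ∈ Cfsg.omegaOne 2 ((S : Subgroup G) ⊓ Subgroup.centralizer ((S : Subgroup G) : Set G)), g * z * g⁻¹ ≠ z := by
  classical
  by_contra hcon
  push Not at hcon
  obtain ⟨hres, hfrat, hfix⟩ := hcon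
  obtain ⟨z, ⟨hzC, hz2⟩, hzF⟩ : ∃ z : G, (z ∈ (S : Subgroup G) ⊓ Subgroup.centralizer ((S : Subgroup G) : Set G) ∧ z ^ 2 = 1) ∧
      z ∉ (frattini (S : Subgroup G)).map (S : Subgroup G).subtype := by
    by_contra h
    push Not at h
    exact hfrat ((Subgroup.closure_le _).mpr fun z hz => h z hz)
  have hzS : z ∈ (S : Subgroup G) := hzC.1
  have hzΩ : z ∈ Cfsg.omegaOne 2 ((S : Subgroup G) ⊓ Subgroup.centralizer ((S : Subgroup G) : Set G)) :=
    Subgroup.subset_closure ⟨hzC, hz2⟩
  obtain ⟨K, hK, hzK⟩ : ∃ K : Subgroup (S : Subgroup G), IsCoatom K ∧ (⟨z, hzS⟩ : (S : Subgroup G)) ∉ K := by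
    by_contra h
    push Not at h
    refine hzF ⟨⟨z, hzS⟩, ?_, rfl⟩
    rw [SetLike.mem_coe, frattini, Order.radical, Subgroup.mem_iInf]
    intro K
    rw [Subgroup.mem_iInf]
    exact fun hK => h K hK
  have hKi : K.index = 2 := Transfer.coatom_index_eq S.isPGroup' hK
  have : K.Normal := Subgroup.normal_of_index_eq_two hKi
  have : IsCyclic ((S : Subgroup G) ⧸ K) := isCyclic_of_prime_card (p := 2) (by rw [← Subgroup.index_eq_card, hKi])
  let _ : CommGroup ((S : Subgroup G) ⧸ K) := IsCyclic.commGroup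
  let φ : (S : Subgroup G) →* (S : Subgroup G) ⧸ K := QuotientGroup.mk' K
  have hne : φ ⟨z, hzS⟩ ≠ 1 := fun h => hzK ((QuotientGroup.eq_one_iff _).mp h)
  have hzz : z * z = 1 := by rw [← pow_two, hz2]
  have hz : orderOf z = 2 := orderOf_eq_prime hz2 (by rintro rfl; exact hzK (one_mem _))
  have hι : orderOf (φ ⟨z, hzS⟩) = 2 := by
    refine orderOf_eq_prime ?_ hne
    rw [← map_pow]
    exact (congrArg φ (Subtype.ext (by simpa using hz2))).trans (map_one φ)
  have hcard2 : Nat.card ((S : Subgroup G) ⧸ K) = 2 := by rw [← Subgroup.index_eq_card, hKi]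
  have htr : MonoidHom.transfer φ z = 1 := by
    have : Cfsg.pResidual 2 G ≤ (MonoidHom.transfer φ).ker := by
      rw [Cfsg.pResidual, Subgroup.closure_le]
      intro g hg
      rw [SetLike.mem_coe, MonoidHom.mem_ker, ← orderOf_eq_one_iff]
      refine Nat.eq_one_of_dvd_coprimes hg (orderOf_map_dvd _ g) ?_
      have := orderOf_dvd_natCard (MonoidHom.transfer φ g)
      rwa [hcard2] at this
    rw [hres, top_le_iff] at this
    refine MonoidHom.mem_ker.mp ?_
    rw [this]
    exact Subgroup.mem_top z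
  have heven := Invol.even_card_of_transfer_eq_one φ hzz htr hι
    (fun a ha => Invol.involution_unique_of_isCyclic ha hι)
  set E : G ⧸ (S : Subgroup G) → Prop := fun q => ∃ x : G, QuotientGroup.mk x = q ∧
      ∃ h : x⁻¹ * z * x ∈ (S : Subgroup G), φ ⟨_, h⟩ ≠ 1 with hE
  have hinv : ∀ r ∈ (S : Subgroup G), ∀ q, E q → E (r • q) := by
    rintro r hr q ⟨x, rfl, h, hx⟩
    refine ⟨r * x, rfl, ?_⟩
    have hc : r * z = z * r := Subgroup.mem_centralizer_iff.mp hzC.2 r hr
    have : (r * x)⁻¹ * z * (r * x) = x⁻¹ * z * x := by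
      rw [mul_inv_rev, mul_assoc (x⁻¹ * r⁻¹), ← mul_assoc z, ← hc]; group
    exact ⟨this ▸ h, by convert hx using 3⟩
  have hmod := Invol.card_invariant_modEq S.isPGroup' E hinv
  have heq : Nat.card {q : G ⧸ (S : Subgroup G) // E q ∧ ∀ r ∈ (S : Subgroup G), r • q = q} =
      Nat.card {q : G ⧸ (S : Subgroup G) // True ∧ ∀ r ∈ (S : Subgroup G), r • q = q} := by
    refine Nat.card_congr (Equiv.subtypeEquivRight fun q => ⟨fun h => ⟨trivial, h.2⟩, fun h => ⟨?_, h.2⟩⟩)
    induction q using QuotientGroup.induction_on with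
    | _ x =>
      have hx : x ∈ Subgroup.normalizer ((S : Subgroup G) : Set G) := by
        have hle : (S : Subgroup G).map (MulAut.conj x⁻¹).toMonoidHom ≤ (S : Subgroup G) := by
          rintro _ ⟨r, hr, rfl⟩
          simpa [mul_assoc] using Invol.smul_mk_eq_iff.mp (h.2 r hr)
        have := Subgroup.eq_of_le_of_card_ge hle
          (Subgroup.card_map_of_injective (MulAut.conj x⁻¹).injective).ge
        refine Subgroup.mem_normalizer_iff''.mpr fun r => ?_
        conv_rhs => rw [← this]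
        simp [Subgroup.mem_map_equiv, mul_assoc]
      have hzx : x⁻¹ * z * x = z := by
        simpa using hfix x⁻¹ (inv_mem hx) z hzΩ
      exact ⟨x, rfl, hzx.symm ▸ hzS, by convert hne using 3⟩
  have hmod2 := Invol.card_invariant_modEq S.isPGroup' (fun _ : G ⧸ (S : Subgroup G) => True)
    (fun _ _ _ _ => trivial)
  rw [Nat.card_congr (Equiv.subtypeUnivEquiv (fun _ => trivial)), ← Subgroup.index_eq_card] at hmod2
  rw [heq] at hmod
  have h1 := hmod.trans hmod2.symm
  rw [Nat.ModEq, Nat.even_iff.mp heven] at h1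
  exact S.not_dvd_index (Nat.dvd_of_mod_eq_zero h1.symm)

end Cfsg.Agent.S2872
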