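import Cfsg.Prelude
import Cfsg.Agent.Lib.Invol.DihedralTop
import Cfsg.Agent.Lib.Grp.Frattini
import Cfsg.Agent.Lib.Grp.Coprime
-- import your own Cfsg.Agent.* helpers here

set_option autoImplicit false
open Cfsg

open scoped Pointwise commutatorElement

namespace Cfsg.Agent.S2873

/-- Let G be a finite group and r an odd prime such that G ⧸ O₂(G) is dihedral of order 2r, and let R be a Sylow r-subgroup of G with C_{O₂(G)}(R) = 1. Then N_G(R) is dihedral of order 2r; for any involution a of N_G(R), every involution of G outside O₂(G) is conjugate to a; and |C_{O₂(G)}(a)|² = |O₂(G)|. -/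
theorem result {G : Type*} [Group G] [Finite G] {r : ℕ} [Fact r.Prime] (hr : r ≠ 2) [hN : (Cfsg.pCore 2 G).Normal] (hquot : Nonempty (G ⧸ Cfsg.pCore 2 G ≃* DihedralGroup r)) (R : Sylow r G) (hC : Cfsg.pCore 2 G ⊓ Subgroup.centralizer ((R : Subgroup G) : Set G) = ⊥) : Nonempty (↥(Subgroup.normalizer ((R : Subgroup G) : Set G)) ≃* DihedralGroup r) ∧ ∀ a : G, a ∈ Subgroup.normalizer ((R : Subgroup G) : Set G) → orderOf a = 2 → (∀ b : G, orderOf b = 2 → b ∉ Cfsg.pCore 2 G → ∃ g : G, g * a * g⁻¹ = b) ∧ Nat.card ↥(Cfsg.pCore 2 G ⊓ Subgroup.centralizer ({a} : Set G)) ^ 2 = Nat.card ↥(Cfsg.pCore 2 G) := by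
  classical
  obtain ⟨e⟩ := hquot
  have hNn : (Cfsg.pCore 2 G).Normal := ‹_›
  set V := Cfsg.pCore 2 G with hV
  set f : G →* DihedralGroup r := e.toMonoidHom.comp (QuotientGroup.mk' V) with hf
  have hfs : Function.Surjective f := e.surjective.comp (QuotientGroup.mk'_surjective _)
  have hfk : ∀ g, f g = 1 ↔ g ∈ V := fun g => by
    rw [hf]
    show e (QuotientGroup.mk' V g) = 1 ↔ _
    rw [MulEquiv.map_eq_one_iff, QuotientGroup.mk'_apply, QuotientGroup.eq_one_iff]
  have hr2 : r % 2 = 1 := ((Fact.out : r.Prime).eq_two_or_odd).resolve_left hr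
  set D : Subgroup (DihedralGroup r) := Subgroup.zpowers (DihedralGroup.r 1) with hD
  have hDi : D.index = 2 := by
    have h1 := D.card_mul_index
    rw [hD, Nat.card_zpowers, DihedralGroup.orderOf_r_one, DihedralGroup.nat_card, mul_comm 2 r] at h1
    exact Nat.eq_of_mul_eq_mul_left (Fact.out : r.Prime).pos h1
  set M : Subgroup G := D.comap f with hM
  have hMn : M.Normal := (Subgroup.normal_of_index_eq_two hDi).comap f
  have hmemD : ∀ i, DihedralGroup.r i ∈ D := fun i =>
    ⟨(i.val : ℤ), by show DihedralGroup.r 1 ^ ((i.val : ℤ)) = _; rw [zpow_natCast, DihedralGroup.r_one_pow, ZMod.natCast_zmod_val]⟩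
  have hrot : ∀ g : G, (∃ j, g ^ r ^ j = 1) → g ∈ M := by
    rintro g ⟨j, hj⟩
    show f g ∈ D
    match h : f g with
    | DihedralGroup.r i => exact hmemD i
    | DihedralGroup.sr i =>
      have h1 : f g ^ r ^ j = 1 := by rw [← map_pow, hj, map_one]
      rw [h] at h1
      have h2 := orderOf_dvd_of_pow_eq_one h1
      rw [DihedralGroup.orderOf_sr] at h2
      exact absurd (Nat.prime_two.dvd_of_dvd_pow h2) (fun hd => by omega)
  have hRM : (R : Subgroup G) ≤ M := fun x hx => by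
    obtain ⟨j, hj⟩ := R.isPGroup' ⟨x, hx⟩
    exact hrot x ⟨j, congrArg Subtype.val hj⟩
  set N := Subgroup.normalizer ((R : Subgroup G) : Set G) with hN
  have hRV : ∀ x ∈ (R : Subgroup G), x ∈ V → x = 1 := by
    intro x hx hxV
    obtain ⟨j, hj⟩ := IsPGroup.iff_orderOf.mp R.isPGroup' ⟨x, hx⟩
    obtain ⟨i, hi⟩ := IsPGroup.iff_orderOf.mp (Grp.pCore_isPGroup (p := 2) (G := G)) ⟨x, hxV⟩
    rw [Subgroup.orderOf_mk] at hj hi
    refine orderOf_eq_one_iff.mp (Nat.eq_one_of_dvd_coprimes (Nat.Coprime.pow j i ?_) (dvd_of_eq hj) (dvd_of_eq hi))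
    exact (Nat.coprime_primes Fact.out Nat.prime_two).mpr hr
  have hNV : ∀ v ∈ V, v ∈ N → v = 1 := by
    intro v hv hvN
    have hvC : v ∈ Subgroup.centralizer ((R : Subgroup G) : Set G) := Subgroup.mem_centralizer_iff.mpr fun x hx => by
      have h1 : x * v * x⁻¹ * v⁻¹ = 1 := hRV _ (by
        rw [show x * v * x⁻¹ * v⁻¹ = x * (v * x⁻¹ * v⁻¹) by group]
        exact Subgroup.mul_mem _ hx ((Subgroup.mem_normalizer_iff.mp hvN _).mp (Subgroup.inv_mem _ hx)))
        (V.mul_mem (hNn.conj_mem v hv x) (V.inv_mem hv))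
      rwa [mul_inv_eq_one, mul_inv_eq_iff_eq_mul] at h1
    have : v ∈ V ⊓ Subgroup.centralizer ((R : Subgroup G) : Set G) := ⟨hv, hvC⟩
    rwa [hC, Subgroup.mem_bot] at this
  let fN : N →* DihedralGroup r := f.comp N.subtype
  have hinj : Function.Injective fN := (injective_iff_map_eq_one fN).mpr fun x hx =>
    Subtype.ext (hNV x ((hfk x).mp hx) x.2)
  haveI : Finite M := Finite.of_injective _ M.subtype_injective
  have hfrat : N ⊔ M = ⊤ := by
    have h1 := @Sylow.normalizer_sup_eq_top G _ r _ M hMn _ (R.subtype hRM)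
    rwa [show ((R.subtype hRM : Subgroup M).map M.subtype) = (R : Subgroup G) by
      rw [Sylow.coe_subtype, Subgroup.subgroupOf_map_subtype, inf_eq_left.mpr hRM]] at h1
  have hsur : Function.Surjective fN := by
    have hR' : (R : Subgroup G).map f = D := by
      refine le_antisymm (Subgroup.map_le_iff_le_comap.mpr hRM) ?_
      set RD := (R.mapSurjective hfs : Subgroup (DihedralGroup r))
      have hle : RD ≤ D := Subgroup.map_le_iff_le_comap.mpr hRM
      have hne : RD ≠ ⊥ := Sylow.ne_bot_of_dvd_card (R.mapSurjective hfs) (by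
        rw [DihedralGroup.nat_card]; exact Dvd.intro_left _ rfl)
      obtain ⟨⟨z, hz⟩, hz1⟩ := Subgroup.ne_bot_iff_exists_ne_one.mp hne
      have hcard : Nat.card D = r := by rw [hD, Nat.card_zpowers, DihedralGroup.orderOf_r_one]
      have h2 : Nat.card RD = r := by
        rcases (Fact.out : r.Prime).eq_one_or_self_of_dvd _ (hcard ▸ Subgroup.card_dvd_of_le hle) with h | h
        · exact absurd (Subgroup.card_eq_one.mp h) hne
        · exact h
      exact (Subgroup.eq_of_le_of_card_ge hle (by rw [hcard, h2])).ge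
    have htop : N.map f = ⊤ := by
      have h1 := congrArg (Subgroup.map f) hfrat
      rw [Subgroup.map_sup, Subgroup.map_top_of_surjective f hfs] at h1
      rw [← h1, eq_comm, sup_eq_left]
      refine le_trans (Subgroup.map_comap_le _ _) ?_
      rw [← hR']
      exact Subgroup.map_mono Subgroup.le_normalizer
    intro d
    obtain ⟨n, hn, rfl⟩ := (htop ▸ Subgroup.mem_top d : d ∈ N.map f)
    exact ⟨⟨n, hn⟩, rfl⟩
  let eN := MulEquiv.ofBijective fN ⟨hinj, hsur⟩
  refine ⟨⟨eN⟩, fun a haN hao => ?_⟩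
  obtain ⟨i, hi⟩ : ∃ i, fN ⟨a, haN⟩ = DihedralGroup.sr i := by
    match h : fN ⟨a, haN⟩ with
    | DihedralGroup.sr i => exact ⟨i, rfl⟩
    | DihedralGroup.r i =>
      exfalso
      have h1 : fN ⟨a, haN⟩ ^ r = 1 := by
        rw [h, DihedralGroup.r_pow, ZMod.natCast_self, mul_zero]; rfl
      rw [← map_pow] at h1
      have h2 := congrArg Subtype.val (hinj (h1.trans (map_one fN).symm))
      have h3 : orderOf a ∣ r := orderOf_dvd_of_pow_eq_one h2
      rw [hao] at h3
      omega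
  obtain ⟨⟨x, hxN⟩, hx⟩ := hsur (DihedralGroup.r 1)
  have ha2 : a * a = 1 := by rw [← pow_two, ← hao]; exact pow_orderOf_eq_one a
  have hax : a * x * a = x⁻¹ := by
    have h1 : fN (⟨a, haN⟩ * ⟨x, hxN⟩ * ⟨a, haN⟩) = fN (⟨x, hxN⟩⁻¹) := by
      rw [map_mul, map_mul, map_inv, hi, hx, DihedralGroup.sr_mul_r, DihedralGroup.sr_mul_sr, DihedralGroup.inv_r]
      congr 1; ring
    exact congrArg Subtype.val (hinj h1)
  have hxr : x ^ r = 1 := congrArg Subtype.val (hinj
    (show fN (⟨x, hxN⟩ ^ r) = fN 1 by rw [map_pow, map_one, hx, DihedralGroup.r_one_pow_n]))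
  have hxR : x ∈ (R : Subgroup G) := by
    have hD' : fN ⟨x, hxN⟩ ∈ D := hx ▸ hmemD 1
    have hxm : x ∈ M := hD'
    have : Subgroup.zpowers x ≤ (R : Subgroup G) := by
      have hp : IsPGroup r (Subgroup.zpowers x) := by
        obtain ⟨j, -, hj⟩ := (Nat.dvd_prime_pow Fact.out).mp (show orderOf x ∣ r ^ 1 by
          rw [pow_one]; exact orderOf_dvd_of_pow_eq_one hxr)
        exact IsPGroup.of_card (n := j) (by rw [Nat.card_zpowers, hj])
      have hsup := IsPGroup.to_sup_of_normal_right' (p := r) hp R.isPGroup'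
        (Subgroup.zpowers_le.mpr hxN)
      exact le_sup_left.trans (R.is_maximal' hsup le_sup_right).le
    exact this (Subgroup.mem_zpowers x)
  have hRgen : ∀ z ∈ (R : Subgroup G), z ∈ Subgroup.zpowers x := by
    intro z hz
    have hzN : z ∈ N := Subgroup.le_normalizer hz
    obtain ⟨n, hn⟩ := (hRM hz : f z ∈ D)
    refine ⟨n, congrArg Subtype.val (hinj (show fN (⟨x, hxN⟩ ^ n) = fN ⟨z, hzN⟩ by rw [map_zpow, hx]; exact hn))⟩
  have hfix : ∀ v ∈ V, v * x = x * v → v = 1 := by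
    intro v hv hvx
    have : v ∈ V ⊓ Subgroup.centralizer ((R : Subgroup G) : Set G) := ⟨hv, Subgroup.mem_centralizer_iff.mpr fun z hz => by
      obtain ⟨n, rfl⟩ := Subgroup.mem_zpowers_iff.mp (hRgen z hz)
      exact ((show Commute v x from hvx).zpow_right n).symm⟩
    rwa [hC, Subgroup.mem_bot] at this
  obtain ⟨hcard, hinvs⟩ := Invol.DihTop.count hNn (a := a) (x := x) ha2 hax hfix (k := r / 2) (by
    rw [show 2 * (r / 2) + 1 = r by omega]; exact hxr)
  refine ⟨fun b hb hbV => ?_, hcard⟩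
  obtain ⟨j, hj⟩ : ∃ j, f b = DihedralGroup.sr j := by
    match h : f b with
    | DihedralGroup.sr j => exact ⟨j, rfl⟩
    | DihedralGroup.r j =>
      exfalso
      have h1 : f b ^ r = 1 := by rw [h, DihedralGroup.r_pow, ZMod.natCast_self, mul_zero]; rfl
      have h2 : f b ^ 2 = 1 := by rw [← map_pow, ← hb, pow_orderOf_eq_one, map_one]
      obtain ⟨c, hc⟩ : Odd r := Nat.odd_iff.mpr hr2
      have h1' : f b ^ (2 * c + 1) = 1 := by
        convert h1 using 2
        exact hc.symm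
      rw [pow_succ, pow_mul, h2, one_pow, one_mul] at h1'
      have h1 := h1'
      exact hbV ((hfk b).mp h1)
  obtain ⟨k, hk⟩ : ∃ k : ℕ, f (x ^ k * a * (x ^ k)⁻¹) = f b := by
    refine ⟨((i - j) * ((r + 1) / 2 : ℕ) : ZMod r).val, ?_⟩
    have hxf : f x = DihedralGroup.r 1 := hx
    have haf : f a = DihedralGroup.sr i := hi
    rw [map_mul, map_mul, map_inv, map_pow, hxf, haf, hj, DihedralGroup.r_one_pow, DihedralGroup.inv_r,
      DihedralGroup.r_mul_sr, DihedralGroup.sr_mul_r, ZMod.natCast_zmod_val]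
    congr 1
    have h2 : (2 : ZMod r) * (((r + 1) / 2 : ℕ) : ZMod r) = 1 := by
      rw [← Nat.cast_two, ← Nat.cast_mul, show 2 * ((r + 1) / 2) = r + 1 by omega, Nat.cast_add, ZMod.natCast_self,
        zero_add, Nat.cast_one]
    linear_combination (j - i) * h2
  set g₀ := x ^ k with hg₀
  set v := g₀⁻¹ * b * g₀ * a with hv
  have hvV : v ∈ V := by
    rw [← hfk, hv, map_mul, map_mul, map_mul, ← hk, map_mul, map_mul, map_inv]
    have : f a * f a = 1 := by rw [← map_mul, ha2, map_one]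
    simp [mul_assoc, this]
  have hinv : a * v * a = v⁻¹ := by
    have hb2 : b * b = 1 := by rw [← pow_two, ← hb]; exact pow_orderOf_eq_one b
    rw [hv]
    simp [mul_assoc, ha2, inv_eq_of_mul_eq_one_right hb2, inv_eq_of_mul_eq_one_right ha2]
  obtain ⟨w, -, hw⟩ := hinvs v hvV hinv
  refine ⟨g₀ * w, ?_⟩
  have h3 : w * a * w⁻¹ = g₀⁻¹ * b * g₀ := mul_right_cancel (hw.trans hv)
  calc g₀ * w * a * (g₀ * w)⁻¹ = g₀ * (w * a * w⁻¹) * g₀⁻¹ := by group
    _ = b := by rw [h3]; group

end Cfsg.Agent.S2873
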