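import Cfsg.Prelude
import Mathlib

set_option autoImplicit false
open Cfsg

namespace Cfsg.Agent.S2874

open Matrix

/-- The companion matrix of `X² + X + 1`. -/
def comp (R : Type*) [Ring R] : Matrix (Fin 2) (Fin 2) R := !![0, -1; 1, -1]

theorem forall_mat {R : Type*} {P : Matrix (Fin 2) (Fin 2) R → Prop}
    (h : ∀ a b c d : R, P !![a, b; c, d]) : ∀ X, P X := fun X => by
  rw [Matrix.eta_fin_two X]; exact h _ _ _ _

theorem f2_t10 : ∀ t : Matrix (Fin 2) (Fin 2) (ZMod 2), t * (t * t) = 1 → t ≠ 1 →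
    t 1 0 ≠ 0 ∧ (t - 1).det ≠ 0 := by
  refine forall_mat ?_
  decide

theorem f2_four : ∀ t : Matrix (Fin 2) (Fin 2) (ZMod 2), t * (t * t) = 1 → t ≠ 1 →
    ∀ X : Matrix (Fin 2) (Fin 2) (ZMod 2), X * X = 1 → X * (t * X * (t * t)) = t * X * (t * t) * X → X = 1 := by
  refine forall_mat fun a b c d ht ht1 => forall_mat fun e f g h => ?_
  revert a b c d e f g h
  decide

theorem f2_idem : ∀ X : Matrix (Fin 2) (Fin 2) (ZMod 2),
    X + comp _ * X * (comp _ * comp _) + comp _ * comp _ * X * comp _ = 0 → X + X * X = 0 → X = 0 := by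
  refine forall_mat ?_
  decide

theorem f2_count : (Finset.univ.filter fun p : ZMod 2 × ZMod 2 × ZMod 2 × ZMod 2 =>
    let X : Matrix (Fin 2) (Fin 2) (ZMod 2) := !![p.1, p.2.1; p.2.2.1, p.2.2.2]
    X + comp _ * X * (comp _ * comp _) + comp _ * comp _ * X * comp _ = 0).card ≤ 4 := by
  decide

variable {k : ℕ}

theorem two_dvd_m (hk : 2 ≤ k) : 2 ∣ 2 ^ k := dvd_pow_self 2 (by omega)

theorem exists_two_mul (hk : 2 ≤ k) {x : ZMod (2 ^ k)} (hx : ZMod.castHom (two_dvd_m hk) (ZMod 2) x = 0) :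
    ∃ y, x = 2 * y := by
  rw [← ZMod.natCast_zmod_val x, map_natCast, ZMod.natCast_eq_zero_iff] at hx
  obtain ⟨c, hc⟩ := hx
  exact ⟨c, by rw [← ZMod.natCast_zmod_val x, hc, Nat.cast_mul]; norm_num⟩

theorem cast_eq_zero (hk : 2 ≤ k) {j : ℕ} (hj : j < k) {y : ZMod (2 ^ k)} (h : 2 ^ j * y = 0) :
    ZMod.castHom (two_dvd_m hk) (ZMod 2) y = 0 := by
  rw [← ZMod.natCast_zmod_val y] at h ⊢
  rw [show ((2 : ZMod (2 ^ k)) ^ j * (y.val : ZMod (2 ^ k))) = ((2 ^ j * y.val : ℕ) : ZMod (2 ^ k)) by push_cast; ring,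
    ZMod.natCast_eq_zero_iff] at h
  rw [map_natCast, ZMod.natCast_eq_zero_iff]
  generalize y.val = n at h ⊢
  rw [show k = j + (k - j) by omega, pow_add] at h
  exact (dvd_pow_self 2 (by omega)).trans (Nat.dvd_of_mul_dvd_mul_left (by positivity) h)

theorem isUnit_of_cast (hk : 2 ≤ k) {x : ZMod (2 ^ k)} (hx : ZMod.castHom (two_dvd_m hk) (ZMod 2) x ≠ 0) :
    IsUnit x := by
  rw [← ZMod.natCast_zmod_val x, map_natCast, Ne, ZMod.natCast_eq_zero_iff] at hx
  rw [← ZMod.natCast_zmod_val x, ZMod.isUnit_iff_coprime]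
  exact Nat.Coprime.pow_right _ (Nat.coprime_comm.mp (Nat.prime_two.coprime_iff_not_dvd.mpr hx))

/-- Reduction modulo two. -/
noncomputable def red (hk : 2 ≤ k) : Matrix (Fin 2) (Fin 2) (ZMod (2 ^ k)) →+* Matrix (Fin 2) (Fin 2) (ZMod 2) :=
  (ZMod.castHom (two_dvd_m hk) (ZMod 2)).mapMatrix

theorem exists_two_smul (hk : 2 ≤ k) {X : Matrix (Fin 2) (Fin 2) (ZMod (2 ^ k))} (hX : red hk X = 0) :
    ∃ Y, X = (2 : ZMod (2 ^ k)) • Y := by
  have h : ∀ i j, ∃ y, X i j = 2 * y := fun i j => exists_two_mul hk (by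
    simpa [red] using congrFun (congrFun hX i) j)
  choose Y hY using h
  exact ⟨Y, Matrix.ext fun i j => hY i j⟩

theorem red_eq_zero (hk : 2 ≤ k) {j : ℕ} (hj : j < k) {X : Matrix (Fin 2) (Fin 2) (ZMod (2 ^ k))}
    (hX : (2 : ZMod (2 ^ k)) ^ j • X = 0) : red hk X = 0 :=
  Matrix.ext fun a b => cast_eq_zero hk hj (by simpa using congrFun (congrFun hX a) b)

theorem red_smul_two (hk : 2 ≤ k) {j : ℕ} (hj : 1 ≤ j) (X : Matrix (Fin 2) (Fin 2) (ZMod (2 ^ k))) :
    red hk ((2 : ZMod (2 ^ k)) ^ j • X) = 0 := by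
  refine Matrix.ext fun a b => ?_
  obtain ⟨i, rfl⟩ : ∃ i, j = i + 1 := ⟨j - 1, by omega⟩
  simp only [red, RingHom.mapMatrix_apply, Matrix.map_apply, Matrix.smul_apply, smul_eq_mul, map_mul, map_pow,
    Matrix.zero_apply]
  rw [show (ZMod.castHom (two_dvd_m hk) (ZMod 2)) 2 = 0 by rw [map_ofNat]; decide]
  simp

theorem comp_map {R S : Type*} [Ring R] [Ring S] (φ : R →+* S) : (comp R).map φ = comp S := by
  ext i j; fin_cases i <;> fin_cases j <;> simp [comp]

theorem pow_mul_red_val (hk : 2 ≤ k) (y : ZMod (2 ^ k)) :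
    (2 : ZMod (2 ^ k)) ^ (k - 1) * ((ZMod.castHom (two_dvd_m hk) (ZMod 2) y).val : ZMod (2 ^ k)) = 2 ^ (k - 1) * y := by
  obtain ⟨n, rfl⟩ : ∃ n : ℕ, (n : ZMod (2 ^ k)) = y := ⟨y.val, ZMod.natCast_zmod_val y⟩
  rw [map_natCast, ZMod.val_natCast]
  have h2 : (2 : ZMod (2 ^ k)) ^ (k - 1) * 2 = 0 := by
    rw [← pow_succ, show k - 1 + 1 = k by omega]; exact_mod_cast ZMod.natCast_self (2 ^ k)
  have hn : ((n : ℕ) : ZMod (2 ^ k)) = ((n % 2 : ℕ) : ZMod (2 ^ k)) + 2 * ((n / 2 : ℕ) : ZMod (2 ^ k)) := by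
    exact_mod_cast congrArg (Nat.cast (R := ZMod (2 ^ k))) (Nat.mod_add_div n 2).symm
  rw [hn]
  linear_combination -((n / 2 : ℕ) : ZMod (2 ^ k)) * h2

/-- An element of order dividing three congruent to one modulo two is one. -/
theorem eq_one_of_cube (hk : 2 ≤ k) {t : Matrix (Fin 2) (Fin 2) (ZMod (2 ^ k))} (ht : t * (t * t) = 1)
    (h1 : red hk t = 1) : t = 1 := by
  have key : ∀ j, 1 ≤ j → j ≤ k → ∃ X, t = 1 + (2 : ZMod (2 ^ k)) ^ j • X := by
    intro j hj hjk
    induction j, hj using Nat.le_induction with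
    | base =>
      obtain ⟨Y, hY⟩ := exists_two_smul hk (X := t - 1) (by rw [map_sub, map_one, h1, sub_self])
      exact ⟨Y, by rw [pow_one, ← hY]; abel⟩
    | succ j hj ih =>
      obtain ⟨X, hX⟩ := ih (by omega)
      have h2 : (2 : ZMod (2 ^ k)) ^ j • ((3 : ZMod (2 ^ k)) • X + (2 : ZMod (2 ^ k)) ^ j • ((3 : ZMod (2 ^ k)) • (X * X) +
          (2 : ZMod (2 ^ k)) ^ j • (X * (X * X)))) = 0 := by
        rw [hX] at ht
        simp only [add_mul, mul_add, one_mul, mul_one, smul_mul_assoc, mul_smul_comm, smul_add, smul_smul] at ht ⊢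
        rw [← sub_eq_zero] at ht
        rw [← ht]
        module
      have h3 := red_eq_zero hk (show j < k by omega) h2
      rw [map_add, red_smul_two hk hj, add_zero] at h3
      have h4 : red hk X = 0 := by
        refine Matrix.ext fun a b => ?_
        have := congrFun (congrFun h3 a) b
        simp only [red, RingHom.mapMatrix_apply, Matrix.map_apply, Matrix.smul_apply, smul_eq_mul, map_mul,
          Matrix.zero_apply] at this
        rw [show (ZMod.castHom (two_dvd_m hk) (ZMod 2)) 3 = 1 by rw [map_ofNat]; decide, one_mul] at this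
        simpa [red] using this
      obtain ⟨Y, rfl⟩ := exists_two_smul hk h4
      exact ⟨Y, by rw [hX, smul_smul, pow_succ]⟩
  obtain ⟨X, hX⟩ := key k (by omega) le_rfl
  rw [hX, show (2 : ZMod (2 ^ k)) ^ k = 0 by exact_mod_cast ZMod.natCast_self (2 ^ k)]
  simp

set_option maxRecDepth 10000 in
set_option synthInstance.maxSize 4096 in
set_option synthInstance.maxHeartbeats 1000000 in
theorem a4_gen : ∃ a b : ↥(alternatingGroup (Fin 4)), a * (a * a) = 1 ∧ a ≠ 1 ∧ b * b = 1 ∧ b ≠ 1 ∧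
    b * (a * b * (a * a)) = a * b * (a * a) * b ∧ b * (a * b * (a * a)) = a * a * b * a ∧
    a * b * (a * a) ≠ b ∧ a * a * b * a ≠ b ∧ a * a * b * a ≠ a * b * (a * a) ∧ a * b * (a * a) ≠ 1 ∧
    a * a * b * a ≠ 1 ∧ (∀ v, v = a * b * (a * a) ∨ v = a * a * b * a →
      v * v = 1 ∧ v * (a * v * (a * a)) = a * v * (a * a) * v ∧ v * (a * v * (a * a)) = a * a * v * a) ∧
    ∀ x, ∃ i : Fin 3, x = a ^ (i : ℕ) ∨ x = b * a ^ (i : ℕ) ∨ x = a * b * (a * a) * a ^ (i : ℕ) ∨
      x = a * a * b * a * a ^ (i : ℕ) := by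
  refine ⟨⟨Equiv.swap 0 1 * Equiv.swap 1 2, Equiv.Perm.mem_alternatingGroup.mpr (by decide)⟩,
    ⟨Equiv.swap 0 1 * Equiv.swap 2 3, Equiv.Perm.mem_alternatingGroup.mpr (by decide)⟩, ?_⟩
  decide +kernel

/-- Every copy of the alternating group of degree four is conjugate to one standard copy. -/
theorem standard (hk : 2 ≤ k) : ∃ S : Set (GL (Fin 2) (ZMod (2 ^ k))), ∀ H : Subgroup (GL (Fin 2) (ZMod (2 ^ k))),
    Nonempty (↥H ≃* ↥(alternatingGroup (Fin 4))) →
    ∃ g : GL (Fin 2) (ZMod (2 ^ k)), ((H.map (MulAut.conj g).toMonoidHom : Subgroup _) : Set (GL (Fin 2) (ZMod (2 ^ k)))) = S := by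
  classical
  let C := comp (ZMod (2 ^ k))
  let Cond : Finset (ZMod 2 × ZMod 2 × ZMod 2 × ZMod 2) := Finset.univ.filter fun p =>
    let X : Matrix (Fin 2) (Fin 2) (ZMod 2) := !![p.1, p.2.1; p.2.2.1, p.2.2.2]
    X + comp _ * X * (comp _ * comp _) + comp _ * comp _ * X * comp _ = 0
  let f : ZMod 2 × ZMod 2 × ZMod 2 × ZMod 2 → Matrix (Fin 2) (Fin 2) (ZMod (2 ^ k)) := fun p =>
    1 + (2 : ZMod (2 ^ k)) ^ (k - 1) • !![(p.1.val : ZMod (2 ^ k)), p.2.1.val; p.2.2.1.val, p.2.2.2.val]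
  refine ⟨{z | ∃ u ∈ Cond.image f, ∃ i : Fin 3, (z : Matrix (Fin 2) (Fin 2) (ZMod (2 ^ k))) = u * C ^ (i : ℕ)}, fun H hH => ?_⟩
  obtain ⟨e⟩ := hH
  obtain ⟨a, b, ha, ha1, hb, hb1, hab, hab', hne₁, hne₂, hne₃, hne₄, hne₅, hvw, hall⟩ := a4_gen
  let ψ : ↥(alternatingGroup (Fin 4)) →* Matrix (Fin 2) (Fin 2) (ZMod (2 ^ k)) :=
    (Units.coeHom _).comp (H.subtype.comp e.symm.toMonoidHom)
  have hψ : Function.Injective ψ := fun x y h => e.symm.injective (Subtype.ext (Units.ext h))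
  have hred : red hk (ψ a) ≠ 1 := fun h =>
    ha1 (hψ ((eq_one_of_cube hk (by rw [← map_mul, ← map_mul, ha, map_one]) h).trans (map_one ψ).symm))
  obtain ⟨h10, hdet⟩ := f2_t10 (red hk (ψ a)) (by rw [← map_mul, ← map_mul, ← map_mul, ← map_mul, ha, map_one, map_one]) hred
  have h10u : IsUnit (ψ a 1 0) := isUnit_of_cast hk (by simpa [red] using h10)
  have hdu : IsUnit (ψ a - 1).det := isUnit_of_cast hk (by
    rw [RingHom.map_det]
    show (red hk (ψ a - 1)).det ≠ 0
    rw [map_sub, map_one]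
    exact hdet)
  have hquad : ψ a * ψ a + ψ a + 1 = 0 := by
    refine ((Matrix.isUnit_iff_isUnit_det _).mpr hdu).mul_right_eq_zero.mp ?_
    have h3 : ψ a * (ψ a * ψ a) = 1 := by rw [← map_mul, ← map_mul, ha, map_one]
    calc (ψ a - 1) * (ψ a * ψ a + ψ a + 1) = ψ a * (ψ a * ψ a) - 1 := by noncomm_ring
      _ = 0 := by rw [h3, sub_self]
  let P : Matrix (Fin 2) (Fin 2) (ZMod (2 ^ k)) := !![1, ψ a 0 0; 0, ψ a 1 0]
  have hP : IsUnit P := by
    rw [Matrix.isUnit_iff_isUnit_det, Matrix.det_fin_two_of]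
    simpa using h10u
  have hPC : ψ a * P = P * C := by
    have e0 := congrFun (congrFun hquad 0) 0
    have e1 := congrFun (congrFun hquad 1) 0
    simp only [Matrix.add_apply, Matrix.mul_apply, Fin.sum_univ_two, Matrix.zero_apply,
      Matrix.one_apply_eq, Matrix.one_apply_ne (show (1 : Fin 2) ≠ 0 by decide)] at e0 e1
    ext i j
    fin_cases i <;> fin_cases j <;> simp [P, C, comp, Matrix.mul_apply, Fin.sum_univ_two]
    · linear_combination e0
    · linear_combination e1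
  obtain ⟨Pu, hPu⟩ := hP
  refine ⟨Pu⁻¹, ?_⟩
  let χ : ↥(alternatingGroup (Fin 4)) →* Matrix (Fin 2) (Fin 2) (ZMod (2 ^ k)) :=
    (Units.coeHom _).comp ((MulAut.conj Pu⁻¹).toMonoidHom.comp (H.subtype.comp e.symm.toMonoidHom))
  have hχ : Function.Injective χ := fun x y h =>
    e.symm.injective (Subtype.ext ((MulAut.conj Pu⁻¹).injective (Units.ext h)))
  have hχa : χ a = C := by
    show ((Pu⁻¹ * (e.symm a : GL (Fin 2) (ZMod (2 ^ k))) * Pu⁻¹⁻¹ : GL (Fin 2) (ZMod (2 ^ k))) : Matrix _ _ _) = C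
    rw [inv_inv, Units.val_mul, Units.val_mul, mul_assoc]
    have h : ((e.symm a : GL (Fin 2) (ZMod (2 ^ k))) : Matrix (Fin 2) (Fin 2) (ZMod (2 ^ k))) = ψ a := rfl
    rw [h, hPu, hPC, ← hPu, Units.inv_mul_cancel_left]
  -- the elements of the four-group
  have hV : ∀ x, x * x = 1 → x * (a * x * (a * a)) = a * x * (a * a) * x →
      x * (a * x * (a * a)) = a * a * x * a → χ x ∈ Cond.image f := by
    intro x hx hc hc'
    have hX2 : χ x * χ x = 1 := by rw [← map_mul, hx, map_one]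
    have hC3 : C * (C * C) = 1 := by rw [← hχa, ← map_mul, ← map_mul, ha, map_one]
    have hYd : C * χ x * (C * C) = χ (a * x * (a * a)) := by rw [map_mul, map_mul, map_mul, hχa]
    have hZd : C * C * χ x * C = χ (a * a * x * a) := by rw [map_mul, map_mul, map_mul, hχa]
    have hXY : χ x * (C * χ x * (C * C)) = C * C * χ x * C := by rw [hYd, hZd, ← map_mul, hc']
    have hXY' : χ x * (C * χ x * (C * C)) = C * χ x * (C * C) * χ x := by rw [hYd, ← map_mul, ← map_mul, hc]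
    have hZ : C * C * χ x * C * (C * C * χ x * C) = 1 := by
      rw [hZd, ← map_mul, show a * a * x * a * (a * a * x * a) = a * a * (x * (a * (a * a)) * x) * a by group,
        ha, mul_one, hx, mul_one, mul_assoc, ha, map_one]
    have hrC : red hk C = comp (ZMod 2) := comp_map _
    have h0 : red hk (χ x) = 1 := by
      refine f2_four (red hk C) (by rw [← map_mul, ← map_mul, hC3, map_one]) (by rw [hrC]; decide) _
        (by rw [← map_mul, hX2, map_one]) ?_
      simp only [← map_mul]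
      rw [hXY']
    have hstep : ∀ j, 1 ≤ j → j < k → ∃ X, χ x = 1 + (2 : ZMod (2 ^ k)) ^ j • X ∧
        red hk (X + C * X * (C * C) + C * C * X * C) = 0 := by
      intro j hj hjk
      have hsum' : ∀ j, 1 ≤ j → j < k → ∀ X, χ x = 1 + (2 : ZMod (2 ^ k)) ^ j • X → red hk (X + C * X * (C * C) + C * C * X * C) = 0 := by
        intro j hj hjk X hX
        have hY' : C * χ x * (C * C) = 1 + (2 : ZMod (2 ^ k)) ^ j • (C * X * (C * C)) := by
          rw [hX, mul_add, add_mul, mul_one, hC3, mul_smul_comm, smul_mul_assoc]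
        have hZ' : C * C * χ x * C = 1 + (2 : ZMod (2 ^ k)) ^ j • (C * C * X * C) := by
          rw [hX, mul_add, add_mul, mul_one, mul_assoc C C C, hC3, mul_smul_comm, smul_mul_assoc]
        have h1 : χ x * (C * χ x * (C * C)) * (C * C * χ x * C) = 1 := by rw [hXY, hZ]
        rw [hY', hZ', hX, ← sub_eq_zero] at h1
        have h2 : (2 : ZMod (2 ^ k)) ^ j • (X + C * X * (C * C) + C * C * X * C + (2 : ZMod (2 ^ k)) ^ j •
            (X * (C * X * (C * C)) + X * (C * C * X * C) + C * X * (C * C) * (C * C * X * C) +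
              (2 : ZMod (2 ^ k)) ^ j • (X * (C * X * (C * C)) * (C * C * X * C)))) = 0 := by
          rw [← h1]
          generalize C * X * (C * C) = Y
          generalize C * C * X * C = Z
          simp only [add_mul, mul_add, one_mul, mul_one, smul_mul_assoc, mul_smul_comm, smul_add, smul_smul]
          abel
        have h3 := red_eq_zero hk hjk h2
        rwa [map_add, red_smul_two hk hj, add_zero] at h3
      suffices h : ∃ X, χ x = 1 + (2 : ZMod (2 ^ k)) ^ j • X from h.elim fun X hX => ⟨X, hX, hsum' j hj hjk X hX⟩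
      have hex : ∀ i, 1 ≤ i → i < k → ∀ X, χ x = 1 + (2 : ZMod (2 ^ k)) ^ i • X →
          red hk (X + C * X * (C * C) + C * C * X * C) = 0 := hsum'
      induction j, hj using Nat.le_induction with
      | base =>
        obtain ⟨Y, hY⟩ := exists_two_smul hk (X := χ x - 1) (by rw [map_sub, map_one, h0, sub_self])
        exact ⟨Y, by rw [pow_one, ← hY]; abel⟩
      | succ j hj ih =>
        obtain ⟨X, hX⟩ := ih (by omega)
        have h2 : (2 : ZMod (2 ^ k)) ^ (j + 1) • (X + (2 : ZMod (2 ^ k)) ^ (j - 1) • (X * X)) = 0 := by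
          have e : (2 : ZMod (2 ^ k)) ^ (j + 1) * 2 ^ (j - 1) = 2 ^ j * 2 ^ j := by
            rw [← pow_add, ← pow_add]; congr 1; omega
          have h := hX2
          rw [hX, ← sub_eq_zero] at h
          rw [← h]
          simp only [add_mul, mul_add, one_mul, mul_one, smul_mul_assoc, mul_smul_comm, smul_add, smul_smul, e]
          rw [pow_succ, mul_two, add_smul]
          abel
        have h3 := red_eq_zero hk (by omega) h2
        have h4 : red hk X = 0 := by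
          rcases Nat.eq_or_lt_of_le hj with rfl | hj2
          · refine f2_idem _ ?_ ?_
            · rw [← hrC]; simpa only [map_add, map_mul] using hex 1 le_rfl (by omega) X hX
            · simpa [map_mul] using h3
          · rwa [map_add, red_smul_two hk (show 1 ≤ j - 1 by omega), add_zero] at h3
        obtain ⟨Y, rfl⟩ := exists_two_smul hk h4
        exact ⟨Y, by rw [hX, smul_smul, pow_succ]⟩
    obtain ⟨X, hX, hsum⟩ := hstep (k - 1) (by omega) (by omega)
    refine Finset.mem_image.mpr ⟨(red hk X 0 0, red hk X 0 1, red hk X 1 0, red hk X 1 1), ?_, ?_⟩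
    · simp only [Cond, Finset.mem_filter, Finset.mem_univ, true_and]
      rw [← Matrix.eta_fin_two (red hk X), ← hrC]
      simpa only [map_add, map_mul] using hsum
    · rw [hX]
      refine congrArg (1 + ·) (Matrix.ext fun i j => ?_)
      fin_cases i <;> fin_cases j <;> exact pow_mul_red_val hk _
  have hmem : ∀ z, z ∈ H.map (MulAut.conj Pu⁻¹).toMonoidHom ↔ ∃ x, χ x = (z : Matrix (Fin 2) (Fin 2) (ZMod (2 ^ k))) := by
    intro z
    constructor
    · rintro ⟨h, hh, rfl⟩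
      exact ⟨e ⟨h, hh⟩, by simp [χ]⟩
    · rintro ⟨x, hx⟩
      exact ⟨_, (e.symm x).2, Units.ext hx⟩
  have hc1 : (1 : ↥(alternatingGroup (Fin 4))) * (a * 1 * (a * a)) = a * 1 * (a * a) * 1 := by simp
  have hV1 : χ 1 ∈ Cond.image f := hV 1 (one_mul 1) hc1 (by simp [ha, mul_assoc])
  have hVb : χ b ∈ Cond.image f := hV b hb hab hab'
  have hVv : χ (a * b * (a * a)) ∈ Cond.image f :=
    let h := hvw _ (Or.inl rfl); hV _ h.1 h.2.1 h.2.2
  have hVw : χ (a * a * b * a) ∈ Cond.image f :=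
    let h := hvw _ (Or.inr rfl); hV _ h.1 h.2.1 h.2.2
  have hfour : Cond.image f = {χ 1, χ b, χ (a * b * (a * a)), χ (a * a * b * a)} := by
    refine (Finset.eq_of_subset_of_card_le ?_ ?_).symm
    · intro y hy
      simp only [Finset.mem_insert, Finset.mem_singleton] at hy
      rcases hy with rfl | rfl | rfl | rfl <;> assumption
    · refine Finset.card_image_le.trans (f2_count.trans (le_of_eq (Eq.symm ?_)))
      rw [Finset.card_insert_of_notMem, Finset.card_insert_of_notMem, Finset.card_insert_of_notMem,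
        Finset.card_singleton] <;> simp [-map_mul, -map_one, hχ.eq_iff, hb1.symm, hne₁.symm, hne₂.symm, hne₃.symm, hne₄.symm, hne₅.symm]
  ext z
  rw [SetLike.mem_coe, hmem, Set.mem_setOf_eq, hfour]
  simp only [Finset.mem_insert, Finset.mem_singleton, exists_eq_or_imp, exists_eq_left]
  constructor
  · rintro ⟨x, hx⟩
    rw [← hx]
    obtain ⟨i, h | h | h | h⟩ := hall x <;> subst h
    · exact Or.inl ⟨i, by rw [map_pow, hχa, map_one, one_mul]⟩
    · exact Or.inr (Or.inl ⟨i, by rw [map_mul, map_pow, hχa]⟩)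
    · exact Or.inr (Or.inr (Or.inl ⟨i, by rw [map_mul, map_pow, hχa]⟩))
    · exact Or.inr (Or.inr (Or.inr ⟨i, by rw [map_mul, map_pow, hχa]⟩))
  · rintro (⟨i, h⟩ | ⟨i, h⟩ | ⟨i, h⟩ | ⟨i, h⟩) <;> rw [h, ← hχa, ← map_pow, ← map_mul] <;> exact ⟨_, rfl⟩

/-- For k ≥ 2, any two subgroups of GL₂(ℤ/2ᵏℤ) (the automorphism group of the homocyclic group ℤ/2ᵏ × ℤ/2ᵏ) that are isomorphic to the alternating group of degree 4 are conjugate. -/
theorem result (k : ℕ) (hk : 2 ≤ k) (H₁ H₂ : Subgroup (GL (Fin 2) (ZMod (2 ^ k)))) (h₁ : Nonempty (↥H₁ ≃* ↥(alternatingGroup (Fin 4)))) (h₂ : Nonempty (↥H₂ ≃* ↥(alternatingGroup (Fin 4)))) : ∃ g : GL (Fin 2) (ZMod (2 ^ k)), H₂ = H₁.map (MulAut.conj g).toMonoidHom := by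
  obtain ⟨S, hS⟩ := standard hk
  obtain ⟨g₁, hg₁⟩ := hS H₁ h₁
  obtain ⟨g₂, hg₂⟩ := hS H₂ h₂
  refine ⟨g₂⁻¹ * g₁, ?_⟩
  have h : H₂.map (MulAut.conj g₂).toMonoidHom = H₁.map (MulAut.conj g₁).toMonoidHom :=
    SetLike.coe_injective (hg₂.trans hg₁.symm)
  calc H₂ = (H₂.map (MulAut.conj g₂).toMonoidHom).map (MulAut.conj g₂⁻¹).toMonoidHom := by
        rw [Subgroup.map_map]
        conv_lhs => rw [← Subgroup.map_id H₂]
        congr 1; ext x; simp [mul_assoc]
    _ = _ := by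
        rw [h, Subgroup.map_map]; congr 1; ext x; simp [mul_assoc]

end Cfsg.Agent.S2874
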