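import Cfsg.Prelude
import Cfsg.Agent.Lib.Invol.SolvableMaxClass
import Cfsg.Agent.Lib.Grp.Basic
import Cfsg.Agent.Lib.Grp.Coprime
-- import your own Cfsg.Agent.* helpers here

set_option autoImplicit false
open Cfsg

open scoped Pointwise commutatorElement

namespace Cfsg.Agent.S2879

/-- Let G be a finite solvable group with O(G) = 1 whose Sylow 2-subgroup T is dihedral of order at least 8 or semidihedral, with G ≠ T and Z(T) normal in G. Then G has a normal subgroup isomorphic to SL₂(3). -/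
theorem result {G : Type*} [Group G] [Finite G] (hsol : IsSolvable G) (hO : Cfsg.oddCore G = ⊥) (T : Sylow 2 G) (hT : (∃ n : ℕ, 4 ≤ n ∧ Nonempty (↥(T : Subgroup G) ≃* DihedralGroup n)) ∨ Cfsg.IsQuasiDihedral ↥(T : Subgroup G)) (hne : (T : Subgroup G) ≠ ⊤) (hZ : ((T : Subgroup G) ⊓ Subgroup.centralizer ((T : Subgroup G) : Set G)).Normal) : ∃ U : Subgroup G, U.Normal ∧ Nonempty (↥U ≃* Matrix.SpecialLinearGroup (Fin 2) (ZMod 3)) := by
  classical
  haveI : Fact (Nat.Prime 2) := ⟨Nat.prime_two⟩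
  haveI : Fact (Nat.Prime 3) := ⟨Nat.prime_three⟩
  haveI : Fintype G := Fintype.ofFinite G
  rcases hT with ⟨n, hn, ⟨e⟩⟩ | hqd
  · -- dihedral groups do not occur
    exfalso
    haveI : NeZero n := ⟨by omega⟩
    obtain ⟨m', hm'⟩ := T.isPGroup'.exists_card_eq
    rw [Nat.card_congr e.toEquiv, DihedralGroup.nat_card] at hm'
    obtain ⟨m, rfl⟩ : ∃ m, n = 2 ^ m := by
      obtain ⟨j, -, hj⟩ := (Nat.dvd_prime_pow Nat.prime_two).mp (Dvd.intro_left 2 hm')
      exact ⟨j, hj⟩
    have hm : 2 ≤ m := by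
      rcases Nat.lt_or_ge m 2 with h | h
      · interval_cases m <;> norm_num at hn
      · exact h
    obtain ⟨x, hx⟩ : ∃ x : ↥(T : Subgroup G), x = e.symm (DihedralGroup.r 1) := ⟨_, rfl⟩
    have hox : orderOf (x : G) = 2 ^ m := by
      rw [Subgroup.orderOf_coe, hx, MulEquiv.orderOf_eq, DihedralGroup.orderOf_r_one]
    have hout : ∀ w : ↥(T : Subgroup G), (w : G) ∉ Subgroup.zpowers (x : G) → ∃ i, e w = DihedralGroup.sr i := by
      intro w hw
      rcases hd : e w with i | i
      · refine absurd ?_ hw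
        refine ⟨(i.val : ℤ), ?_⟩
        show (x : G) ^ (i.val : ℤ) = w
        rw [zpow_natCast, ← SubgroupClass.coe_pow, hx, ← map_pow, DihedralGroup.r_one_pow, ZMod.natCast_zmod_val, ← hd,
          e.symm_apply_apply]
      · exact ⟨i, rfl⟩
    have hinvol : ∀ w : ↥(T : Subgroup G), (w : G) ∉ Subgroup.zpowers (x : G) → (w : G) * w = 1 := by
      intro w hw
      obtain ⟨i, hi⟩ := hout w hw
      exact congrArg Subtype.val (e.injective (show e (w * w) = e 1 by rw [map_mul, hi, DihedralGroup.sr_mul_self, map_one]))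
    have hD : Invol.SolvableMaxClass.Data (T : Subgroup G) (x : G) m := by
      refine ⟨hm, x.2, hox, ?_, ?_, ?_⟩
      · rw [Nat.card_congr e.toEquiv, DihedralGroup.nat_card, pow_succ']
      · intro w hw hwX
        rw [show w ^ 4 = w * w * (w * w) by simp [pow_succ, mul_assoc], hinvol ⟨w, hw⟩ hwX, one_mul]
      · intro w hw hwX
        obtain ⟨i, hi⟩ := hout ⟨w, hw⟩ hwX
        refine (congrArg Subtype.val (e.injective (?_ : e (⟨w, hw⟩ * x ^ 2 ^ (m - 2) * ⟨w, hw⟩⁻¹) = e (x ^ 2 ^ (m - 2))⁻¹)) :)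
        rw [map_mul, map_mul, map_inv, map_inv, map_pow, hi, hx, e.apply_symm_apply, DihedralGroup.r_one_pow]
        simp
    obtain ⟨f, w, -, hwF, hwX, hf, hfw, -, -, -⟩ := Invol.SolvableMaxClass.core hsol hO hne hZ hD
    rw [hinvol ⟨w, Grp.pCore_le_sylow T hwF⟩ hwX, hf, ← pow_add] at hfw
    have h1 := Nat.le_of_dvd (by positivity) (orderOf_dvd_of_pow_eq_one hfw)
    rw [hox, ← two_mul, ← pow_succ', Nat.pow_le_pow_iff_right (le_refl 2)] at h1
    omega
  obtain ⟨n, x, y, hq⟩ := Invol.exists_qd hqd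
  have hn3 := hq.hn
  have hD : Invol.SolvableMaxClass.Data (T : Subgroup G) (x : G) n := by
    have hcases : ∀ w : ↥(T : Subgroup G), (w : G) ∉ Subgroup.zpowers (x : G) → ∃ i : ℤ, w = x ^ i * y := by
      intro w hw
      obtain ⟨i, h | h⟩ := hq.cases' w
      · exact absurd ⟨i, by rw [h, SubgroupClass.coe_zpow]⟩ hw
      · exact ⟨i, h⟩
    refine ⟨by omega, x.2, by rw [Subgroup.orderOf_coe, hq.ox], hq.card, ?_, ?_⟩
    · intro w hw hwX
      obtain ⟨i, hi⟩ := hcases ⟨w, hw⟩ hwX
      refine (congrArg Subtype.val (?_ : (⟨w, hw⟩ : ↥(T : Subgroup G)) ^ 4 = 1) :)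
      rw [hi, show ∀ v : ↥(T : Subgroup G), v ^ 4 = (v * v) * (v * v) from fun v => by simp [pow_succ, mul_assoc],
        hq.sq_mul_y, ← zpow_add, hq.zpow_eq_one]
      exact ⟨i, by ring⟩
    · intro w hw hwX
      obtain ⟨i, hi⟩ := hcases ⟨w, hw⟩ hwX
      refine (congrArg Subtype.val (?_ : (⟨w, hw⟩ : ↥(T : Subgroup G)) * x ^ 2 ^ (n - 2) * (⟨w, hw⟩ : ↥(T : Subgroup G))⁻¹ = (x ^ 2 ^ (n - 2))⁻¹) :)
      have e : (x : ↥(T : Subgroup G)) ^ 2 ^ (n - 2) = x ^ Invol.qq n := by
        rw [← zpow_natCast]; simp [Invol.qq]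
      rw [e, hi]
      calc x ^ i * y * x ^ Invol.qq n * (x ^ i * y)⁻¹ = x ^ i * (y * x ^ Invol.qq n * y⁻¹) * (x ^ i)⁻¹ := by group
        _ = x ^ i * x ^ (-Invol.qq n) * (x ^ i)⁻¹ := by rw [hq.conj_y_quarter]
        _ = _ := by group
  obtain ⟨f, w, hfF, hwF, hwX, hf, hfw, hzfix, hFcase, hkey⟩ := Invol.SolvableMaxClass.core hsol hO hne hZ hD
  obtain ⟨F, hFdef⟩ : ∃ F, F = Cfsg.pCore 2 G := ⟨_, rfl⟩
  rw [← hFdef] at hfF hwF hFcase
  haveI hFnormal : F.Normal := hFdef ▸ (Subgroup.sSup_normal _ fun _ hN => hN.1)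
  have hof : orderOf f = 4 := by
    rw [hf, orderOf_pow_of_dvd (by positivity) (hD.ox ▸ pow_dvd_pow 2 (by omega)), hD.ox,
      show 2 ^ n = 4 * 2 ^ (n - 2) by rw [show (4 : ℕ) = 2 ^ 2 by norm_num, ← pow_add]; congr 1; omega,
      Nat.mul_div_cancel _ (by positivity)]
  have hfX : Subgroup.zpowers f ≤ Subgroup.zpowers (x : G) := Subgroup.zpowers_le.mpr (hf ▸ Subgroup.npow_mem_zpowers _ _)
  have hwf : w ∉ Subgroup.zpowers f := fun h => hwX (hfX h)
  have hwinv : w * f * w⁻¹ = f⁻¹ := hf ▸ hD.inv w (hFdef ▸ Grp.pCore_le_sylow T <| hwF) hwX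
  have hff : f * f ≠ 1 := fun e => by
    have := Nat.le_of_dvd two_pos (orderOf_dvd_of_pow_eq_one (show f ^ 2 = 1 by rw [pow_two]; exact e))
    omega
  have hff4 : f * f * (f * f) = 1 := by
    rw [show f * f * (f * f) = f ^ 4 by simp [pow_succ, mul_assoc], ← hof, pow_orderOf_eq_one]
  -- squares outside `⟨f⟩`
  have hsq : ∀ i : ℤ, (w * f ^ i) * (w * f ^ i) = f * f := by
    intro i
    calc (w * f ^ i) * (w * f ^ i) = (w * f ^ i * w⁻¹) * (w * w) * f ^ i := by group
      _ = (f⁻¹) ^ i * (f * f) * f ^ i := by rw [← conj_zpow, hwinv, hfw]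
      _ = f * f := by
        rw [inv_zpow, ← zpow_neg, ← zpow_two, ← zpow_add, ← zpow_add]
        congr 1
        ring
  -- the order of `F`
  have hF8 : Nat.card F = 8 := by
    have hcard : (Finset.univ.filter fun u : G => u ∈ F) =
        (Finset.univ.filter fun u : G => u ∈ Subgroup.zpowers f) ∪
          (Finset.univ.filter fun u : G => u ∈ Subgroup.zpowers f).map ⟨fun u => w * u, mul_right_injective w⟩ := by
      ext u
      simp only [Finset.mem_filter, Finset.mem_univ, true_and, Finset.mem_union, Finset.mem_map,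
        Function.Embedding.coeFn_mk]
      constructor
      · intro hu
        rcases hFcase u hu with h | h
        · exact Or.inl h
        · exact Or.inr ⟨_, h, by rw [mul_inv_cancel_left]⟩
      · rintro (h | ⟨v, hv, rfl⟩)
        · exact Subgroup.zpowers_le.mpr hfF h
        · exact F.mul_mem hwF (Subgroup.zpowers_le.mpr hfF hv)
    rw [Nat.card_eq_fintype_card, Fintype.card_subtype, hcard, Finset.card_union_of_disjoint, Finset.card_map,
      ← Fintype.card_subtype, ← Nat.card_eq_fintype_card]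
    · show Nat.card (Subgroup.zpowers f) + Nat.card (Subgroup.zpowers f) = 8
      rw [Nat.card_zpowers, hof]
    · rw [Finset.disjoint_left]
      intro u hu hu'
      simp only [Finset.mem_filter, Finset.mem_univ, true_and, Finset.mem_map, Function.Embedding.coeFn_mk] at hu hu'
      obtain ⟨v, hv, rfl⟩ := hu'
      exact hwf ((Subgroup.mul_mem_cancel_right _ hv).mp hu)
  -- the order of `G`
  have hG48 : Nat.card G ≤ 48 := by
    let I : Finset (Σ _ : G, G) := ((Finset.univ.filter fun a : G => a ∈ F ∧ a ∉ Subgroup.zpowers (f * f))).sigma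
      fun a => (Finset.univ.filter fun u : G => u ∈ F ∧ orderOf a = 4 ∧ u ∉ Subgroup.zpowers a)
    have hI : I.card ≤ 24 := by
      rw [Finset.card_sigma]
      refine le_trans (Finset.sum_le_card_nsmul _ _ 4 fun a ha => ?_) ?_
      · simp only [Finset.mem_filter, Finset.mem_univ, true_and] at ha
        by_cases h4 : orderOf a = 4
        · have h1 : (Finset.univ.filter fun u : G => u ∈ F ∧ orderOf a = 4 ∧ u ∉ Subgroup.zpowers a) =
              (Finset.univ.filter fun u : G => u ∈ F) \ (Finset.univ.filter fun u : G => u ∈ Subgroup.zpowers a) := by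
            ext u; simp [h4]
          rw [h1, Finset.card_sdiff_of_subset, ← Fintype.card_subtype, ← Nat.card_eq_fintype_card,
            ← Fintype.card_subtype, ← Nat.card_eq_fintype_card]
          · show Nat.card F - Nat.card (Subgroup.zpowers a) ≤ 4
            rw [hF8, Nat.card_zpowers, h4]
          · intro u hu
            simp only [Finset.mem_filter, Finset.mem_univ, true_and] at hu ⊢
            exact Subgroup.zpowers_le.mpr ha.1 hu
        · rw [Finset.filter_false_of_mem fun u _ hu => h4 hu.2.1, Finset.card_empty]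
          exact Nat.zero_le 4
      · rw [smul_eq_mul]
        have h1 : (Finset.univ.filter fun a : G => a ∈ F ∧ a ∉ Subgroup.zpowers (f * f)) =
            (Finset.univ.filter fun u : G => u ∈ F) \ (Finset.univ.filter fun u : G => u ∈ Subgroup.zpowers (f * f)) := by
          ext u; simp
        rw [h1, Finset.card_sdiff_of_subset, ← Fintype.card_subtype, ← Nat.card_eq_fintype_card,
          ← Fintype.card_subtype, ← Nat.card_eq_fintype_card]
        · show (Nat.card F - Nat.card (Subgroup.zpowers (f * f))) * 4 ≤ 24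
          rw [hF8, Nat.card_zpowers, orderOf_eq_prime (by rw [pow_two]; exact hff4) hff]
        · intro u hu
          simp only [Finset.mem_filter, Finset.mem_univ, true_and] at hu ⊢
          exact Subgroup.zpowers_le.mpr (F.mul_mem hfF hfF) hu
    have h2 := Finset.card_le_mul_card_image (Finset.univ : Finset G)
      (f := fun g => (⟨g * f * g⁻¹, g * w * g⁻¹⟩ : Σ _ : G, G)) 2 ?_
    · rw [Finset.card_univ, ← Nat.card_eq_fintype_card] at h2
      refine h2.trans ((Nat.mul_le_mul_left 2 (Finset.card_le_card ?_)).trans (by omega : 2 * I.card ≤ 48))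
      intro p hp
      obtain ⟨g, -, rfl⟩ := Finset.mem_image.mp hp
      refine Finset.mem_sigma.mpr ⟨?_, ?_⟩
      · simp only [Finset.mem_filter, Finset.mem_univ, true_and]
        refine ⟨hFnormal.conj_mem f hfF g, fun hc => ?_⟩
        obtain ⟨i, hi⟩ := Subgroup.mem_zpowers_iff.mp hc
        have hh : f = (f * f) ^ i := by
          have h3 : g * (f * f) ^ i * g⁻¹ = g * f * g⁻¹ := by rw [← conj_zpow, hzfix, hi]
          exact (mul_left_cancel (mul_right_cancel h3)).symm
        have : f * f = 1 := by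
          rw [hh, ← zpow_add, ← two_mul, zpow_mul, zpow_two, hff4, one_zpow]
        exact hff this
      · simp only [Finset.mem_filter, Finset.mem_univ, true_and]
        refine ⟨hFnormal.conj_mem w hwF g, ?_, fun hc => ?_⟩
        · rw [← hof]; exact orderOf_injective (MulAut.conj g).toMonoidHom (MulAut.conj g).injective f
        · obtain ⟨i, hi⟩ := Subgroup.mem_zpowers_iff.mp hc
          rw [conj_zpow] at hi
          exact hwf ⟨i, mul_left_cancel (mul_right_cancel hi)⟩
    · intro p hp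
      obtain ⟨g, -, rfl⟩ := Finset.mem_image.mp hp
      refine le_trans (Finset.card_le_card (t := ({g, g * (f * f)} : Finset G)) ?_) Finset.card_le_two
      intro k hk
      simp only [Finset.mem_filter, Finset.mem_univ, true_and, Sigma.mk.injEq, heq_eq_eq] at hk
      simp only [Finset.mem_insert, Finset.mem_singleton]
      obtain ⟨c, hc⟩ : ∃ c, c = g⁻¹ * k := ⟨_, rfl⟩
      have hk' : k = g * c := by rw [hc, mul_inv_cancel_left]
      have hcf : c * f * c⁻¹ = f := by
        rw [hc]
        calc g⁻¹ * k * f * (g⁻¹ * k)⁻¹ = g⁻¹ * (k * f * k⁻¹) * g := by group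
          _ = g⁻¹ * (g * f * g⁻¹) * g := by rw [hk.1]
          _ = f := by group
      have hcw : c * w * c⁻¹ = w := by
        rw [hc]
        calc g⁻¹ * k * w * (g⁻¹ * k)⁻¹ = g⁻¹ * (k * w * k⁻¹) * g := by group
          _ = g⁻¹ * (g * w * g⁻¹) * g := by rw [hk.2]
          _ = w := by group
      have hcC : c ∈ Subgroup.centralizer (F : Set G) := by
        refine Subgroup.mem_centralizer_iff.mpr fun u hu => ?_
        rcases hFcase u hu with h | h
        · obtain ⟨i, rfl⟩ := Subgroup.mem_zpowers_iff.mp h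
          exact ((show Commute c f from mul_inv_eq_iff_eq_mul.mp hcf).zpow_right i).eq.symm
        · obtain ⟨i, hi⟩ := Subgroup.mem_zpowers_iff.mp h
          have e1 : u = w * f ^ i := by rw [hi, mul_inv_cancel_left]
          rw [e1]
          exact ((show Commute c w from mul_inv_eq_iff_eq_mul.mp hcw).mul_right
            ((show Commute c f from mul_inv_eq_iff_eq_mul.mp hcf).zpow_right i)).eq.symm
      have hcF : c ∈ F := by
        rw [hFdef] at hcC ⊢
        rw [← Grp.fitting_eq_pCore hO] at hcC ⊢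
        exact (haveI : Group.IsSolvable G := hsol; Grp.centralizer_fittingSubgroup_le) hcC
      rcases hFcase c hcF with h | h
      · obtain ⟨i, hi⟩ := Subgroup.mem_zpowers_iff.mp h
        have h1 : w * f ^ i * w⁻¹ = f ^ i := by
          rw [hi]
          exact mul_inv_eq_iff_eq_mul.mpr (mul_inv_eq_iff_eq_mul.mp hcw).symm
        rw [← conj_zpow, hwinv, inv_zpow', zpow_eq_zpow_iff_modEq, hof] at h1
        obtain ⟨j, hj⟩ : (2 : ℤ) ∣ i := by rw [Int.ModEq] at h1; omega
        have hcj : c = (f * f) ^ j := by rw [← hi, hj, zpow_mul, zpow_two]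
        rcases Int.even_or_odd j with ⟨l, hl⟩ | ⟨l, hl⟩
        · left
          rw [hk', hcj, hl, ← two_mul, zpow_mul, zpow_two, hff4, one_zpow, mul_one]
        · right
          rw [hk', hcj, hl, zpow_add, zpow_mul, zpow_two, hff4, one_zpow, one_mul, zpow_one]
      · exfalso
        obtain ⟨i, hi⟩ := Subgroup.mem_zpowers_iff.mp h
        have e1 : c = w * f ^ i := by rw [hi, mul_inv_cancel_left]
        have h1 : c * f * c⁻¹ = f⁻¹ := by
          rw [e1, ← hwinv]; group
        rw [hcf, eq_inv_iff_mul_eq_one] at h1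
        exact hff h1
  have hT16 : 16 ≤ Nat.card (T : Subgroup G) := by
    rw [hq.card]
    calc 16 = 2 ^ 4 := by norm_num
      _ ≤ 2 ^ (n + 1) := Nat.pow_le_pow_right two_pos (by omega)
  have hidx : (T : Subgroup G).index ≠ 1 := fun e => hne (Subgroup.index_eq_one.mp e)
  have hidx2 := T.not_dvd_index
  have hmul := (T : Subgroup G).card_mul_index
  have hidx0 : (T : Subgroup G).index ≠ 0 := Subgroup.index_ne_zero_of_finite
  have hG : Nat.card G = 48 := by nlinarith [show 3 ≤ (T : Subgroup G).index by omega]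
  -- the subgroup of index two
  obtain ⟨g, hg⟩ := exists_prime_orderOf_dvd_card' (G := G) 3 (by rw [hG]; norm_num)
  have hgodd : Odd (orderOf g) := by rw [hg]; decide
  have hg1 : g ≠ 1 := fun e => by rw [e, orderOf_one] at hg; omega
  obtain ⟨U, hU⟩ : ∃ U, U = F ⊔ Subgroup.zpowers g := ⟨_, rfl⟩
  have hgU : g ∈ U := hU ▸ Subgroup.mem_sup_right (Subgroup.mem_zpowers g)
  have hFU : F ≤ U := hU ▸ le_sup_left
  have hU24 : Nat.card U = 24 := by
    have h1 := Grp.card_sup_mul_card_inf_normal (H := Subgroup.zpowers g) (N := F)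
    have h2 : Subgroup.zpowers g ⊓ F = ⊥ := Subgroup.inf_eq_bot_of_coprime (by rw [Nat.card_zpowers, hg, hF8]; decide)
    rw [h2, Subgroup.card_bot, mul_one, Nat.card_zpowers, hg, hF8, sup_comm, ← hU] at h1
    exact h1
  have hUi : U.index = 2 := by
    have := U.card_mul_index
    rw [hU24, hG] at this
    omega
  refine ⟨U, Subgroup.normal_of_index_eq_two hUi, ?_⟩
  -- the involution
  have hfU : f * f ∈ U := hFU (F.mul_mem hfF hfF)
  have hoff : orderOf (f * f) = 2 := orderOf_eq_prime (by rw [pow_two]; exact hff4) hff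
  refine Recog.RegularLinear.order_twentyfour (G := U) ?_ hU24 (z := ⟨f * f, hfU⟩) ⟨by rw [Subgroup.orderOf_mk]; exact hoff, ?_⟩
  · rintro ⟨N, hNn, hN2⟩
    have hmul2 : ∀ a b : U, a * b ∈ N ↔ (a ∈ N ↔ b ∈ N) := fun a b => Subgroup.mul_mem_iff_of_index_two hN2
    obtain ⟨g', hg'⟩ : ∃ g' : U, g' = ⟨g, hgU⟩ := ⟨_, rfl⟩
    obtain ⟨f', hf'⟩ : ∃ f' : U, f' = ⟨f, hFU hfF⟩ := ⟨_, rfl⟩
    have hgN : g' ∈ N := by
      by_contra h
      have hsq : g' * g' ∈ N := (hmul2 g' g').mpr Iff.rfl
      have h3 : g' * g' * g' = 1 := by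
        refine Subtype.ext ?_
        rw [hg']
        show g * g * g = 1
        rw [show g * g * g = g ^ 3 by simp [pow_succ, mul_assoc], ← hg, pow_orderOf_eq_one]
      exact h (((hmul2 (g' * g') g').mp (h3 ▸ N.one_mem)).mp hsq)
    have hconjN : ∀ v : U, (g' * v * g'⁻¹ ∈ N ↔ v ∈ N) := fun v => by
      rw [N.mul_mem_cancel_right (N.inv_mem hgN), N.mul_mem_cancel_left hgN]
    obtain ⟨w₁, hw₁⟩ : ∃ w₁ : U, w₁ = g' * f' * g'⁻¹ := ⟨_, rfl⟩
    have hw₁F : (w₁ : G) ∈ F := by rw [hw₁, hg', hf']; exact hFnormal.conj_mem f hfF g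
    have hw₁f : (w₁ : G) ∉ Subgroup.zpowers f := by
      rw [hw₁, hg', hf']
      exact fun h => hg1 (hkey g hgodd h)
    -- decomposition of `F` along `w₁`
    have hdec : ∀ v : U, (v : G) ∈ F → ∃ i : ℤ, v = f' ^ i ∨ v = w₁ * f' ^ i := by
      intro v hv
      rcases hFcase _ hv with h | h
      · obtain ⟨i, hi⟩ := Subgroup.mem_zpowers_iff.mp h
        exact ⟨i, Or.inl (Subtype.ext (by rw [hf', SubgroupClass.coe_zpow, hi]))⟩
      · rcases hFcase _ hw₁F with h' | h'
        · exact absurd h' hw₁f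
        · obtain ⟨i, hi⟩ := Subgroup.mem_zpowers_iff.mp h
          obtain ⟨j, hj⟩ := Subgroup.mem_zpowers_iff.mp h'
          refine ⟨-j + i, Or.inr (Subtype.ext ?_)⟩
          rw [hf', Subgroup.coe_mul, SubgroupClass.coe_zpow]
          show (v : G) = (w₁ : G) * f ^ (-j + i)
          rw [zpow_add, zpow_neg, hj, hi]
          group
    by_cases hfN : f' ∈ N
    · have hw₁N : w₁ ∈ N := hw₁ ▸ (hconjN f').mpr hfN
      have hall : U ≤ N.map U.subtype := by
        refine hU.le.trans ?_
        refine sup_le (fun v hv => ?_) (Subgroup.zpowers_le.mpr ⟨g', hgN, by rw [hg']; rfl⟩)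
        obtain ⟨i, h | h⟩ := hdec ⟨v, hFU hv⟩ hv
        · exact ⟨_, h ▸ N.zpow_mem hfN i, rfl⟩
        · exact ⟨_, h ▸ N.mul_mem hw₁N (N.zpow_mem hfN i), rfl⟩
      have h1 := Subgroup.card_le_of_le hall
      rw [Subgroup.card_map_of_injective U.subtype_injective] at h1
      have h2 := N.card_mul_index
      rw [hN2, hU24] at h2
      omega
    · have hw₁N : w₁ ∉ N := hw₁ ▸ fun h => hfN ((hconjN f').mp h)
      obtain ⟨w₂, hw₂⟩ : ∃ w₂ : U, w₂ = g' * w₁ * g'⁻¹ := ⟨_, rfl⟩
      have hw₂N : w₂ ∉ N := hw₂ ▸ fun h => hw₁N ((hconjN w₁).mp h)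
      obtain ⟨i, h | h⟩ := hdec w₂ (by rw [hw₂, hg']; exact hFnormal.conj_mem _ hw₁F g)
      · have h1 : (g * g) * f * (g * g)⁻¹ ∈ Subgroup.zpowers f := by
          refine ⟨i, ?_⟩
          have h2 := congrArg Subtype.val h
          rw [hw₂, hw₁, hg', hf'] at h2
          simp only [Subgroup.coe_mul, Subgroup.coe_inv, SubgroupClass.coe_zpow] at h2
          show f ^ i = _
          rw [← h2]; group
        have h3 := hkey (g * g) (by
          refine Odd.of_dvd_nat hgodd ?_
          rw [← pow_two]; exact orderOf_pow_dvd 2) h1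
        have h4 := Nat.le_of_dvd two_pos (orderOf_dvd_of_pow_eq_one (show g ^ 2 = 1 by rw [pow_two]; exact h3))
        omega
      · rcases Int.even_or_odd i with ⟨j, hj⟩ | ⟨j, hj⟩
        · refine hg1 (hkey g hgodd ?_)
          have h2 := congrArg Subtype.val h
          rw [hw₂, hw₁, hg', hf'] at h2
          simp only [Subgroup.coe_mul, Subgroup.coe_inv, SubgroupClass.coe_zpow] at h2
          rw [hj, ← two_mul, zpow_mul, zpow_two] at h2
          refine ⟨1 + 2 * j, ?_⟩
          show f ^ (1 + 2 * j) = _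
          rw [zpow_add, zpow_one, zpow_mul, zpow_two]
          have hz : g * (f * f) ^ j * g⁻¹ = (f * f) ^ j := by rw [← conj_zpow, hzfix]
          have h5 : g * (g * f * g⁻¹) * g⁻¹ = g * (f * (f * f) ^ j) * g⁻¹ := by
            rw [h2]
            calc g * f * g⁻¹ * (f * f) ^ j = g * f * g⁻¹ * (g * (f * f) ^ j * g⁻¹) := by rw [hz]
              _ = _ := by group
          exact (mul_left_cancel (mul_right_cancel h5)).symm
        · refine hw₂N ?_
          rw [h, hj, zpow_add, zpow_one, ← mul_assoc, hmul2, hmul2]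
          have h2N : f' ^ (2 * j) ∈ N := by
            rw [zpow_mul, zpow_two]; exact N.zpow_mem ((hmul2 f' f').mpr Iff.rfl) j
          simp [hw₁N, hfN, h2N]
  · intro v hv
    have hvF : (v : G) ∈ F := by
      have hn' : (F.subgroupOf U).Normal := inferInstance
      have hq3 : (F.subgroupOf U).index = 3 := by
        have := (F.subgroupOf U).card_mul_index
        rw [Nat.card_congr (Subgroup.subgroupOfEquivOfLe hFU).toEquiv, hF8, hU24] at this
        omega
      have h1 : ((v : U) : U ⧸ F.subgroupOf U) ^ 3 = 1 := by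
        have := pow_card_eq_one' (x := ((v : U) : U ⧸ F.subgroupOf U))
        rwa [← Subgroup.index, hq3] at this
      rw [← QuotientGroup.mk_pow, QuotientGroup.eq_one_iff, pow_succ, hv, one_mul] at h1
      exact h1
    rcases hFcase _ hvF with h | h
    · obtain ⟨i, hi⟩ := Subgroup.mem_zpowers_iff.mp h
      have h2 : f ^ (i * 2) = 1 := by
        rw [zpow_mul, hi, zpow_two, ← pow_two]; exact congrArg Subtype.val hv
      rw [← orderOf_dvd_iff_zpow_eq_one, hof] at h2
      obtain ⟨j, hj⟩ : (2 : ℤ) ∣ i := by push_cast at h2; omega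
      rcases Int.even_or_odd j with ⟨l, hl⟩ | ⟨l, hl⟩
      · left
        refine Subtype.ext ?_
        rw [← hi, hj, hl, ← two_mul, ← mul_assoc, zpow_mul, show f ^ ((2 : ℤ) * 2) = f * f * (f * f) by
          rw [zpow_mul, zpow_two, zpow_two], hff4, one_zpow]
        rfl
      · right
        refine Subtype.ext ?_
        show (v : G) = f * f
        rw [← hi, hj, hl, mul_add, mul_one, zpow_add, ← mul_assoc, zpow_mul, show f ^ ((2 : ℤ) * 2) = f * f * (f * f) by
          rw [zpow_mul, zpow_two, zpow_two], hff4, one_zpow, one_mul, zpow_two]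
    · obtain ⟨i, hi⟩ := Subgroup.mem_zpowers_iff.mp h
      exfalso
      have e1 : (v : G) = w * f ^ i := by rw [hi, mul_inv_cancel_left]
      have h2 : (v : G) * v = 1 := by rw [← pow_two]; exact congrArg Subtype.val hv
      rw [e1, hsq] at h2
      exact hff h2

end Cfsg.Agent.S2879
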