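import Cfsg.Statements.S2880
import Cfsg.Agent.Lib.Fus.Extraspecial
-- import your own Cfsg.Agent.* helpers here

set_option autoImplicit false
open Cfsg

namespace Cfsg.Agent.S2880

open scoped commutatorElement

/-- Let E be an extraspecial 2-group of order 2^(2m+1) of plus type, that is, containing an elementary abelian subgroup of order 2^(m+1) (equivalently, a central product of m dihedral groups of order 8). Then E has exactly 2^(2m) − 2^m elements of order 4. -/
theorem result {E : Type*} [Group E] [Finite E] (m : ℕ) (hm : 1 ≤ m) (hE : Cfsg.IsExtraspecial 2 E) (hcard : Nat.card E = 2 ^ (2 * m + 1)) (hplus : ∃ A : Subgroup E, Cfsg.IsElementaryAbelian 2 A ∧ Nat.card A = 2 ^ (m + 1)) : Nat.card {x : E // orderOf x = 4} = 2 ^ (2 * m) - 2 ^ m := by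
  classical
  haveI : Fact (Nat.Prime 2) := ⟨Nat.prime_two⟩
  obtain ⟨A0, hA0, hA0c⟩ := hplus
  obtain ⟨hsq, hcomm⟩ := Cfsg.Agent.Fus.extraspecial_two_facts hE
  set Z := Subgroup.center E with hZ
  have hZ2 : Nat.card Z = 2 := hE.2
  have hzsq : ∀ z ∈ Z, z ^ 2 = 1 := fun z hz => by
    have := pow_card_eq_one' (x := (⟨z, hz⟩ : Z))
    rw [hZ2] at this
    exact congrArg Subtype.val this
  -- `|A||C(A)| ≤ |Z||E|`
  have hbound : Nat.card A0 * Nat.card ↥(Subgroup.centralizer (A0 : Set E)) ≤ 2 * Nat.card E := by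
    obtain ⟨K, ⟨hK, hKle⟩, hmax⟩ := Set.exists_max_image
      {K : Subgroup E | Subgroup.centralizer (A0 : Set E) ≤ K ∧ Nat.card A0 * Nat.card ↥(Subgroup.centralizer (A0 : Set E)) ≤
        Nat.card ↥(A0 ⊓ Subgroup.centralizer (K : Set E)) * Nat.card K}
      (fun K => Nat.card K) (Set.toFinite _) ⟨Subgroup.centralizer (A0 : Set E), le_rfl, by
        rw [inf_eq_left.mpr (Subgroup.le_centralizer_iff.mp le_rfl)]⟩
    by_cases hKt : K = ⊤
    · subst hKt
      refine hKle.trans ?_
      rw [Subgroup.card_top]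
      exact Nat.mul_le_mul_right _ (le_of_le_of_eq (Subgroup.card_le_of_le (inf_le_right.trans (fun x hx => Subgroup.mem_center_iff.mpr fun y => Subgroup.mem_centralizer_iff.mp hx y (Subgroup.mem_top y)))) hZ2)
    exfalso
    obtain ⟨w, -, hw⟩ := SetLike.exists_of_lt (lt_top_iff_ne_top.mpr hKt)
    set K' := K ⊔ Subgroup.zpowers w with hK'
    have hlt : K < K' := lt_of_le_of_ne le_sup_left fun e => hw (e ▸ Subgroup.mem_sup_right (Subgroup.mem_zpowers w))
    have h2K : 2 * Nat.card K ≤ Nat.card K' := by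
      obtain ⟨d, hd⟩ := Subgroup.card_dvd_of_le hlt.le
      have h1 : Nat.card K < Nat.card K' := lt_of_le_of_ne (Subgroup.card_le_of_le hlt.le)
        fun e => hlt.ne (Subgroup.eq_of_le_of_card_ge hlt.le e.ge)
      rw [hd] at h1 ⊢
      have : 2 ≤ d := by
        by_contra hd'
        interval_cases d <;> simp at h1
      nlinarith
    have hstep := Cfsg.Agent.Fus.card_centralizer_step hE (A0 ⊓ Subgroup.centralizer (K : Set E)) w
    have hle : A0 ⊓ Subgroup.centralizer (K : Set E) ⊓ Subgroup.centralizer ({w} : Set E) ≤ A0 ⊓ Subgroup.centralizer (K' : Set E) := by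
      rintro x ⟨⟨hx1, hx2⟩, hx3⟩
      refine ⟨hx1, ?_⟩
      have h : K' ≤ Subgroup.centralizer ({x} : Set E) := sup_le
        (fun k hk => Subgroup.mem_centralizer_singleton_iff.mpr (Subgroup.mem_centralizer_iff.mp hx2 k hk))
        (Subgroup.zpowers_le.mpr (Subgroup.mem_centralizer_singleton_iff.mpr (Subgroup.mem_centralizer_singleton_iff.mp hx3).symm))
      exact Subgroup.mem_centralizer_iff.mpr fun k hk => Subgroup.mem_centralizer_singleton_iff.mp (h hk)
    have := Subgroup.card_le_of_le hle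
    have := hmax K' ⟨hK.trans hlt.le, by nlinarith⟩
    nlinarith [Nat.card_pos (α := K)]
  haveI : IsMulCommutative A0 := hA0.1
  have hAC : A0 ≤ Subgroup.centralizer (A0 : Set E) := Subgroup.le_centralizer A0
  have hCA : Subgroup.centralizer (A0 : Set E) = A0 := by
    refine (Subgroup.eq_of_le_of_card_ge hAC ?_).symm
    rw [hcard] at hbound
    refine Nat.le_of_mul_le_mul_left (hbound.trans (le_of_eq ?_)) (Nat.card_pos (α := A0))
    rw [hA0c, ← pow_succ', ← pow_add]
    congr 1; ring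
  have hZA : Z ≤ A0 := hCA.le.trans' (Subgroup.center_le_centralizer _)
  have hord : ∀ x : E, orderOf x = 4 ↔ x ^ 2 ≠ 1 := by
    intro x
    constructor
    · intro h he
      have := orderOf_dvd_of_pow_eq_one he
      rw [h] at this
      omega
    · intro h
      exact orderOf_eq_prime_pow (p := 2) (n := 1) (by simpa using h) (by
        rw [show 2 ^ (1 + 1) = 2 * 2 from rfl, pow_mul]; exact hzsq _ (hsq x))
  -- translating by an element of `A` with `[a, x] ≠ 1` exchanges the two kinds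
  have hnc : ∀ x : E, x ∉ A0 → ∃ a ∈ A0, a * x ≠ x * a := fun x hx => by
    by_contra hc
    push Not at hc
    exact hx (hCA.le (Subgroup.mem_centralizer_iff.mpr fun a ha => hc a ha))
  let c : E → A0 → Prop := fun x a => (a : E) * x ≠ x * a
  have hflip : ∀ x : E, ∀ a : A0, (((a : E) * x) ^ 2 = 1 ↔ (x ^ 2 = 1 ↔ (a : E) * x = x * a)) := by
    intro x a
    have ha : (a : E) ^ 2 = 1 := hA0.2 a a.2
    have ha' : (a : E)⁻¹ = a := inv_eq_of_mul_eq_one_right (by rw [← pow_two, ha])
    have hk := hcomm (a : E) x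
    have h1 : ((a : E) * x) ^ 2 = ⁅(a : E), x⁆ * x ^ 2 := by
      rw [commutatorElement_def, ha', pow_two, pow_two]
      group
    have hk2 := hzsq _ hk
    have hx2 := hzsq _ (hsq x)
    have hZcases : ∀ u v : Z, u ≠ 1 → v ≠ 1 → u = v := by
      intro u v hu hv
      have h2 := (Nat.card_eq_two_iff' (1 : Z)).mp hZ2
      exact h2.unique hu hv
    rw [h1]
    by_cases hx : x ^ 2 = 1
    · rw [hx, mul_one, commutatorElement_eq_one_iff_mul_comm]
      simp
    · simp only [hx, false_iff]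
      constructor
      · intro h hc
        rw [commutatorElement_eq_one_iff_mul_comm.mpr hc, one_mul] at h
        exact hx h
      · intro hc
        have := hZcases ⟨_, hk⟩ ⟨_, hsq x⟩ (fun e => hc (commutatorElement_eq_one_iff_mul_comm.mp (congrArg Subtype.val e)))
          (fun e => hx (congrArg Subtype.val e))
        have e : ⁅(a : E), x⁆ = x ^ 2 := congrArg Subtype.val this
        rw [e, ← pow_two]
        exact hx2
  -- the bijection inside each coset
  let Out := {x : E // x ∉ A0}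
  have key : ∀ q : E ⧸ A0, q ≠ QuotientGroup.mk 1 → ∃ a : A0, ∀ x : E, QuotientGroup.mk x = q → (a : E) * x ≠ x * a := by
    intro q hq
    obtain ⟨x0, rfl⟩ := QuotientGroup.mk_surjective q
    obtain ⟨a, ha, hax⟩ := hnc x0 fun h => hq (QuotientGroup.eq.mpr (A0.mul_mem (A0.inv_mem h) A0.one_mem))
    refine ⟨⟨a, ha⟩, fun x hx h => hax ?_⟩
    have hb : x⁻¹ * x0 ∈ A0 := QuotientGroup.eq.mp hx
    have hab : a * (x⁻¹ * x0) = (x⁻¹ * x0) * a := congrArg Subtype.val (hA0.1.is_comm.comm ⟨a, ha⟩ ⟨_, hb⟩)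
    calc a * x0 = a * x * (x⁻¹ * x0) := by group
      _ = x * (a * (x⁻¹ * x0)) := by rw [show a * x = x * a from h, mul_assoc]
      _ = x * (x⁻¹ * x0 * a) := by rw [hab]
      _ = x0 * a := by group
  choose! f hf using key
  have hcoset : ∀ x : E, x ∉ A0 → (QuotientGroup.mk x : E ⧸ A0) ≠ QuotientGroup.mk 1 := fun x hx h => hx (by
    have := QuotientGroup.eq.mp h
    simpa using A0.inv_mem this)
  have hnorm : A0.Normal := by
    refine ⟨fun a ha g => ?_⟩
    rw [show g * a * g⁻¹ = ⁅g, a⁆ * a by simp [commutatorElement_def, mul_assoc]]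
    exact A0.mul_mem (hZA (hcomm g a)) ha
  let σ : Out → Out := fun x => ⟨(f (QuotientGroup.mk x.1) : E) * x.1, fun h => x.2 (by
    simpa using A0.mul_mem (A0.inv_mem (f (QuotientGroup.mk x.1)).2) h)⟩
  have hσ : Function.Involutive σ := by
    intro x
    have hq : (QuotientGroup.mk ((f (QuotientGroup.mk x.1) : E) * x.1) : E ⧸ A0) = QuotientGroup.mk x.1 := by
      refine QuotientGroup.eq.mpr ?_
      rw [mul_inv_rev, mul_assoc]
      simpa [mul_assoc] using hnorm.conj_mem _ (A0.inv_mem (f (QuotientGroup.mk x.1)).2) x.1⁻¹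
    refine Subtype.ext ?_
    show (f (QuotientGroup.mk ((f (QuotientGroup.mk x.1) : E) * x.1)) : E) * ((f (QuotientGroup.mk x.1) : E) * x.1) = x.1
    rw [hq, ← mul_assoc, ← pow_two, hA0.2 _ (f _).2, one_mul]
  have hswap : ∀ x : Out, (σ x).1 ^ 2 = 1 ↔ ¬ x.1 ^ 2 = 1 := by
    intro x
    have := hf _ (hcoset x.1 x.2) x.1 rfl
    show ((f (QuotientGroup.mk x.1) : E) * x.1) ^ 2 = 1 ↔ _
    rw [hflip]
    simp [this]
  have hOut : Nat.card Out = 2 ^ (2 * m + 1) - 2 ^ (m + 1) := by
    have : Fintype E := Fintype.ofFinite E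
    simp only [Out, Nat.card_eq_fintype_card, Fintype.card_subtype_compl]
    rw [← Nat.card_eq_fintype_card, hcard, ← Nat.card_eq_fintype_card]
    rw [show Nat.card {x // x ∈ A0} = 2 ^ (m + 1) from hA0c]
  have hhalf : Nat.card {x : Out // x.1 ^ 2 = 1} = Nat.card {x : Out // ¬ x.1 ^ 2 = 1} :=
    Nat.card_congr (Equiv.subtypeEquiv hσ.toPerm fun x => by
      show x.1 ^ 2 = 1 ↔ ¬ (σ x).1 ^ 2 = 1
      rw [hswap]; simp)
  have hsum : Nat.card Out = Nat.card {x : Out // x.1 ^ 2 = 1} + Nat.card {x : Out // ¬ x.1 ^ 2 = 1} := by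
    rw [← Nat.card_sum]
    exact Nat.card_congr (Equiv.sumCompl (fun x : Out => x.1 ^ 2 = 1)).symm
  have hans : Nat.card {x : E // orderOf x = 4} = Nat.card {x : Out // ¬ x.1 ^ 2 = 1} :=
    Nat.card_congr {
      toFun := fun x => ⟨⟨x.1, fun h => (hord x.1).mp x.2 (hA0.2 x.1 h)⟩, (hord x.1).mp x.2⟩
      invFun := fun x => ⟨x.1.1, (hord x.1.1).mpr x.2⟩
      left_inv := fun x => rfl
      right_inv := fun x => rfl }
  rw [hans]
  have h1 : 2 ^ (2 * m + 1) = 2 * 2 ^ (2 * m) := by ring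
  have h2 : 2 ^ (m + 1) = 2 * 2 ^ m := by ring
  omega

end Cfsg.Agent.S2880
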