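import Cfsg.Prelude
import Cfsg.Agent.Lib.Grp.ExtraRank
-- import your own Cfsg.Agent.* helpers here

set_option autoImplicit false
open Cfsg

namespace Cfsg.Agent.S2881

/-- Let E be an extraspecial 2-group of order 2^(2m+1) of plus type (containing an elementary abelian subgroup of order 2^(m+1)), and let ω be an automorphism of E of order 5 whose fixed points are exactly the centre of E. Then m is divisible by 4. -/
theorem result {E : Type*} [Group E] [Finite E] (m : ℕ) (hm : 1 ≤ m) (hE : Cfsg.IsExtraspecial 2 E) (hcard : Nat.card E = 2 ^ (2 * m + 1)) (hplus : ∃ A : Subgroup E, Cfsg.IsElementaryAbelian 2 A ∧ Nat.card A = 2 ^ (m + 1)) (ω : E ≃* E) (hω : orderOf ω = 5) (hfix : ∀ x : E, ω x = x ↔ x ∈ Subgroup.center E) : 4 ∣ m := by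
  classical
  haveI : Fact (Nat.Prime 5) := ⟨by norm_num⟩
  haveI : Fact (Nat.Prime 2) := ⟨Nat.prime_two⟩
  haveI := Fintype.ofFinite E
  obtain ⟨z, hz, hne⟩ := Transfer.ExtraIso.exists_ext hE
  obtain ⟨m', hm', hcase⟩ := Grp.ExtraRank.rank_formula _ E z hz rfl
  have hmm : m' = m := by
    have := Nat.pow_right_injective le_rfl (hcard.symm.trans hm')
    omega
  subst hmm
  obtain ⟨A, hA, hAc⟩ := hplus
  have hcount : Nat.card {g : E // g ^ 2 = 1} = 2 ^ (2 * m') + 2 ^ m' := by
    rcases hcase with ⟨h, -⟩ | ⟨-, -, hr⟩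
    · exact h
    · have h1 := hr.1 A hA.1 hA.2
      rw [hAc] at h1
      have := (Nat.pow_le_pow_iff_right Nat.one_lt_two).mp h1
      omega
  have hω5 : ∀ x : E, (ω : MulAut E) ^ 5 = 1 ∧ ((ω : MulAut E) ^ 5) x = x := fun x => by
    have : (ω : MulAut E) ^ 5 = 1 := hω ▸ pow_orderOf_eq_one _
    exact ⟨this, by rw [this]; rfl⟩
  -- a free action of `ω`
  have free : ∀ T : Finset E, (∀ x, x ∈ T ↔ ω x ∈ T) → (∀ x ∈ T, x ∉ Subgroup.center E) → 5 ∣ T.card := by
    intro T hT hTc
    by_contra hd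
    set σ : Equiv.Perm {x // x ∈ T} := Equiv.Perm.subtypePerm ω.toEquiv (fun x => (hT x).symm) with hσ
    have hσ5 : σ ^ 5 ^ 1 = 1 := by
      rw [pow_one, hσ, Equiv.Perm.subtypePerm_pow]
      ext x
      have h5 := (hω5 (x : E)).2
      show (ω.toEquiv ^ 5) (x : E) = x
      conv_rhs => rw [← h5]
      simp [pow_succ, Equiv.Perm.mul_apply, MulAut.mul_apply]
    obtain ⟨⟨a, ha⟩, hfa⟩ := Equiv.Perm.exists_fixed_point_of_prime (α := {x // x ∈ T})
      (by rwa [Fintype.card_coe]) hσ5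
    exact hTc a ha ((hfix a).mp (congrArg Subtype.val hfa))
  set Z := Finset.univ.filter (fun x : E => x ∈ Subgroup.center E) with hZ
  have hZcard : Z.card = 2 := by
    rw [hZ, ← Fintype.card_subtype, ← Nat.card_eq_fintype_card]
    exact hE.2
  have hωc : ∀ x, x ∈ Subgroup.center E ↔ ω x ∈ Subgroup.center E := fun x => by
    rw [Subgroup.mem_center_iff, Subgroup.mem_center_iff]
    exact ⟨fun h g => by simpa using congrArg ω (h (ω.symm g)),
      fun h g => ω.injective (by simpa using h (ω g))⟩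
  have h1 : 5 ∣ 2 ^ (2 * m' + 1) - 2 := by
    have := free (Finset.univ \ Z) (fun x => by simp [hZ, ← hωc x]) (fun x hx => by simpa [hZ] using hx)
    rwa [Finset.card_sdiff_of_subset (Finset.subset_univ _), hZcard, Finset.card_univ,
      ← Nat.card_eq_fintype_card, hcard] at this
  set I := Finset.univ.filter (fun x : E => x ^ 2 = 1) with hI
  have hZI : Z ⊆ I := fun x hx => by
    simp only [hZ, Finset.mem_filter] at hx
    simp only [hI, Finset.mem_filter, Finset.mem_univ, true_and]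
    have := pow_card_eq_one' (x := (⟨x, hx.2⟩ : Subgroup.center E))
    rw [hE.2] at this
    exact congrArg Subtype.val this
  have hIc : I.card = 2 ^ (2 * m') + 2 ^ m' := by
    rw [hI, ← Fintype.card_subtype, ← Nat.card_eq_fintype_card]
    exact hcount
  have h2 : 5 ∣ 2 ^ (2 * m') + 2 ^ m' - 2 := by
    have := free (I \ Z) (fun x => by simp [hZ, hI, ← hωc x, ← map_pow])
      (fun x hx => by simp [hZ] at hx; exact hx.2)
    rwa [Finset.card_sdiff_of_subset hZI, hZcard, hIc] at this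
  obtain ⟨k, r, hr, rfl⟩ : ∃ k r, r < 4 ∧ m' = 4 * k + r := ⟨m' / 4, m' % 4, Nat.mod_lt _ (by norm_num), (Nat.div_add_mod m' 4).symm⟩
  have e1 : 2 ^ (4 * k) % 5 = 1 := by rw [pow_mul, Nat.pow_mod]; norm_num
  have e2 : 2 ^ (2 * (4 * k)) % 5 = 1 := by
    rw [show 2 * (4 * k) = 4 * (2 * k) by ring, pow_mul, Nat.pow_mod]; norm_num
  rw [show 2 * (4 * k + r) + 1 = 2 * (4 * k) + (2 * r + 1) by ring, pow_add] at h1
  rw [show 2 * (4 * k + r) = 2 * (4 * k) + 2 * r by ring, pow_add, pow_add] at h2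
  set a := 2 ^ (4 * k)
  set b := 2 ^ (2 * (4 * k))
  have ha : 1 ≤ a := Nat.one_le_two_pow
  have hb : 1 ≤ b := Nat.one_le_two_pow
  interval_cases r <;> omega

end Cfsg.Agent.S2881
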