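import Cfsg.Statements.S2882
import Cfsg.Agent.Lib.Spor.AffineOctad
import Cfsg.Agent.S5425
import Cfsg.Agent.S0364
import Cfsg.Agent.Lib.Classical.SLGroup
import Cfsg.Prelude.Def_CaseTheorems
-- import your own Cfsg.Agent.* helpers here

set_option autoImplicit false
open Cfsg

namespace Cfsg.Agent.S2882

open Matrix
open scoped Pointwise

abbrev M3 := Matrix (Fin 3) (Fin 3) (ZMod 2)

def upb (m : M3) : Bool := decide (m 1 0 = 0 ∧ m 2 0 = 0 ∧ m 2 1 = 0)

def ua : M3 := !![1, 1, 0; 0, 1, 0; 0, 0, 1]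

def ub : M3 := !![1, 0, 0; 0, 1, 1; 0, 0, 1]

def normChk (m : M3) : Bool := decide (m.det ≠ 1) || !(upb (m * ua * m.adjugate) && upb (m * ub * m.adjugate)) || upb m

theorem normChk_ok : ∀ m : M3, normChk m = true := by decide +kernel

def upU : Subgroup (SpecialLinearGroup (Fin 3) (ZMod 2)) where
  carrier := {g | (g : M3) 1 0 = 0 ∧ (g : M3) 2 0 = 0 ∧ (g : M3) 2 1 = 0}
  one_mem' := by simp
  mul_mem' {a b} ha hb := by
    obtain ⟨a1, a2, a3⟩ := ha
    obtain ⟨b1, b2, b3⟩ := hb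
    simp [Matrix.SpecialLinearGroup.coe_mul, Matrix.mul_apply, Fin.sum_univ_three, a1, a2, a3, b1, b2, b3]
  inv_mem' {a} ha := by
    obtain ⟨a1, a2, a3⟩ := ha
    simp [Matrix.SpecialLinearGroup.coe_inv, Matrix.adjugate_fin_three, a1, a2, a3]

theorem upU_norm : Subgroup.normalizer (upU : Set (SpecialLinearGroup (Fin 3) (ZMod 2))) = upU := by
  refine le_antisymm (fun g hg => ?_) Subgroup.le_normalizer
  have key : ∀ (u : M3) (hu : u.det = 1), (u 1 0 = 0 ∧ u 2 0 = 0 ∧ u 2 1 = 0) → upb ((g : M3) * u * (g : M3).adjugate) = true :=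
    fun u hu h => by
      have := (Subgroup.mem_normalizer_iff.1 hg (⟨u, hu⟩ : SpecialLinearGroup (Fin 3) (ZMod 2))).1 h
      exact decide_eq_true this
  have h := normChk_ok (g : M3)
  rw [normChk, key ua (by decide +kernel) (by decide), key ub (by decide +kernel) (by decide)] at h
  have hdet : (g : M3).det = 1 := g.2
  simp [upb, hdet] at h
  exact h

theorem upU_card : Nat.card upU = 8 := by
  let f : Fin 2 × Fin 2 × Fin 2 → upU := fun p =>
    ⟨⟨!![1, (p.1 : ℕ), (p.2.1 : ℕ); 0, 1, (p.2.2 : ℕ); 0, 0, 1], by simp [Matrix.det_fin_three]⟩, by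
      refine ⟨?_, ?_, ?_⟩ <;> simp⟩
  have hcast : ∀ a b : Fin 2, ((a : ℕ) : ZMod 2) = ((b : ℕ) : ZMod 2) → a = b := by decide
  have hsur : ∀ c : ZMod 2, ∃ a : Fin 2, ((a : ℕ) : ZMod 2) = c := by decide
  have hone : ∀ x y z : ZMod 2, x * y * z = 1 → x = 1 ∧ y = 1 ∧ z = 1 := by decide
  have hf : Function.Bijective f := by
    refine ⟨fun p q h => ?_, fun g => ?_⟩
    · have h' : ((f p : SpecialLinearGroup (Fin 3) (ZMod 2)) : M3) = ((f q : SpecialLinearGroup (Fin 3) (ZMod 2)) : M3) := by rw [h]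
      exact Prod.ext (hcast _ _ (congrFun (congrFun h' 0) 1))
        (Prod.ext (hcast _ _ (congrFun (congrFun h' 0) 2)) (hcast _ _ (congrFun (congrFun h' 1) 2)))
    · obtain ⟨⟨m, hm⟩, h1, h2, h3⟩ := g
      simp only at h1 h2 h3
      have hd := hm
      rw [Matrix.det_fin_three] at hd
      simp [h1, h2, h3] at hd
      obtain ⟨⟨d0, d1⟩, d2⟩ := hd
      obtain ⟨a, ha⟩ := hsur (m 0 1)
      obtain ⟨b, hb⟩ := hsur (m 0 2)
      obtain ⟨c, hc⟩ := hsur (m 1 2)
      refine ⟨(a, b, c), Subtype.ext (Subtype.ext ?_)⟩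
      ext i j
      fin_cases i <;> fin_cases j <;> simp [f, h1, h2, h3, d0, d1, d2, ha, hb, hc]
  rw [← Nat.card_eq_of_bijective f hf]
  simp

/-- A self-normalising Sylow subgroup transfers along conjugation. -/
theorem sylow_self_norm {G : Type*} [Group G] [Finite G] {p : ℕ} [Fact p.Prime] (P₀ P : Sylow p G)
    (h : Subgroup.normalizer ((P₀ : Subgroup G) : Set G) = (P₀ : Subgroup G)) :
    Subgroup.normalizer ((P : Subgroup G) : Set G) = (P : Subgroup G) := by
  have hidx : (Subgroup.normalizer ((P : Subgroup G) : Set G)).index = (P₀ : Subgroup G).index := by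
    show (Subgroup.normalizer (P : Set G)).index = _
    rw [← Sylow.card_eq_index_normalizer, Sylow.card_eq_index_normalizer P₀]
    show (Subgroup.normalizer ((P₀ : Subgroup G) : Set G)).index = _
    rw [h]
  refine le_antisymm ?_ Subgroup.le_normalizer
  refine le_of_eq (Subgroup.eq_of_le_of_card_ge Subgroup.le_normalizer ?_).symm
  have h1 := Subgroup.card_mul_index (Subgroup.normalizer ((P : Subgroup G) : Set G))
  have h2 := Subgroup.card_mul_index (P₀ : Subgroup G)
  rw [hidx, ← h2] at h1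
  have h3 : Nat.card (P₀ : Subgroup G) = Nat.card (P : Subgroup G) := by rw [P₀.card_eq_multiplicity, P.card_eq_multiplicity]
  rw [← h3]
  exact le_of_eq (Nat.eq_of_mul_eq_mul_right (Nat.pos_of_ne_zero Subgroup.index_ne_zero_of_finite) h1)

/-- In the Mathieu group of degree 24 (realised as the automorphism group of the extended binary Golay code) every Sylow 2-subgroup is self-normalizing. -/
theorem result (S : Sylow 2 ↥Cfsg.M24) : Subgroup.normalizer ((S : Subgroup ↥Cfsg.M24) : Set ↥Cfsg.M24) = (S : Subgroup ↥Cfsg.M24) := by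
  classical
  haveI : Fact (Nat.Prime 2) := ⟨Nat.prime_two⟩
  obtain ⟨o, ho⟩ : ∃ o, o ∈ Cfsg.octads := ⟨_, Cfsg.Agent.Spor.Golay.mem_octads.mpr ⟨5279, by decide +kernel, rfl⟩⟩
  obtain ⟨p, hp⟩ : ∃ p, p ∉ o := by
    by_contra h
    push Not at h
    have h8 := Cfsg.Agent.Spor.Golay.octad_card ho
    rw [Finset.eq_univ_of_forall h, Finset.card_univ, Cfsg.Agent.Spor.Golay.card_golayPt] at h8
    omega
  have hU := Cfsg.Agent.Spor.Affine.Oct.card_facts ho hp
  haveI : Nontrivial ↥(Cfsg.Agent.Spor.Affine.Oct.U o) := Finite.one_lt_card_iff_nontrivial.mp (by rw [hU.1]; norm_num)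
  obtain ⟨⟨z, hzU⟩, hne⟩ := exists_ne (1 : ↥(Cfsg.Agent.Spor.Affine.Oct.U o))
  have hz1 : z ≠ 1 := fun h => hne (Subtype.ext h)
  have hz : orderOf z = 2 := orderOf_eq_prime ((Cfsg.Agent.Spor.Affine.Oct.elem_U ho).2 z hzU) hz1
  have hfix : (Finset.univ.filter fun q : GolayPt => (z : Equiv.Perm GolayPt) q = q) = o := by
    ext q
    rw [Finset.mem_filter]
    refine ⟨fun h => ?_, fun h => ⟨Finset.mem_univ q, Cfsg.Agent.Spor.Affine.Oct.mem_U.1 hzU q h⟩⟩
    by_contra hq
    exact hz1 (Cfsg.Agent.Spor.Affine.Oct.semiregular ho hq hzU h.2)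
  set C := Subgroup.centralizer ({z} : Set ↥M24) with hCdef
  set Q := (pCore 2 C).map C.subtype with hQdef
  obtain ⟨hQe, hQc, -, ⟨-, hcent, -, -⟩, K, hKC, hQK, hQKC, ⟨eK⟩⟩ := S5425.result z hz (hfix.symm ▸ ho) Q rfl
  have hQC : Q ≤ C := Subgroup.map_subtype_le _
  have hconj : ∀ k ∈ C, ∀ x ∈ Q, k * x * k⁻¹ ∈ Q := by
    rintro k hk _ ⟨w, hw, rfl⟩
    have hn : (pCore 2 C).Normal := Cfsg.pCore_normal 2 C
    exact ⟨⟨k, hk⟩ * w * ⟨k, hk⟩⁻¹, hn.conj_mem w hw ⟨k, hk⟩, rfl⟩
  have hQn : C ≤ Subgroup.normalizer (Q : Set ↥M24) := fun k hk => Subgroup.mem_normalizer_iff.2 fun x =>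
    ⟨hconj k hk x, fun hx => by
      have := hconj k⁻¹ (inv_mem hk) _ hx
      simpa [mul_assoc] using this⟩
  obtain ⟨PK⟩ : Nonempty (Sylow 2 K) := inferInstance
  have hKnorm : Subgroup.normalizer ((PK : Subgroup K) : Set K) = (PK : Subgroup K) := by
    have hsl : Nat.card (Matrix.SpecialLinearGroup (Fin 3) (ZMod 2)) = 168 := by
      have := Classical.natCard_GL_eq_SL_mul (F := ZMod 2) 3 (by norm_num)
      rw [Matrix.card_GL_field, Classical.natCard_units_field, ZMod.card, Fin.prod_univ_three] at this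
      norm_num [-Nat.card_eq_fintype_card] at this
      omega
    have hfac : (Nat.card (Matrix.SpecialLinearGroup (Fin 3) (ZMod 2))).factorization 2 = 3 := by
      rw [hsl, show 168 = 2 ^ 3 * 21 by norm_num, Nat.factorization_mul (by norm_num) (by norm_num),
        Finsupp.add_apply, Nat.Prime.factorization_pow Nat.prime_two, Finsupp.single_eq_same,
        Nat.factorization_eq_zero_of_not_dvd (by norm_num)]
    let P0 : Sylow 2 (Matrix.SpecialLinearGroup (Fin 3) (ZMod 2)) := Sylow.ofCard upU (by rw [upU_card, hfac]; rfl)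
    let P0K : Sylow 2 K := P0.comapOfInjective eK.toMonoidHom eK.injective (fun x _ => eK.surjective x)
    refine sylow_self_norm P0K PK ?_
    show Subgroup.normalizer ((upU.comap eK.toMonoidHom : Subgroup K) : Set K) = upU.comap eK.toMonoidHom
    rw [← Subgroup.comap_normalizer_eq_of_surjective _ eK.surjective, upU_norm]
  -- the Sylow subgroup
  set PG := (PK : Subgroup K).map K.subtype with hPG
  have hPGK : PG ≤ K := Subgroup.map_subtype_le _
  set S₀ := Q ⊔ PG with hS0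
  have hS0set : (S₀ : Set ↥M24) = (Q : Set ↥M24) * (PG : Set ↥M24) := by
    rw [hS0, Subgroup.coe_mul_of_right_le_normalizer_left Q PG ((hPGK.trans hKC).trans hQn)]
  have hcard : Nat.card S₀ = 2 ^ 10 := by
    have hinj : Function.Injective fun x : Q × PG => (x.1 : ↥M24) * (x.2 : ↥M24) := by
      rintro ⟨a, b⟩ ⟨a', b'⟩ h
      have e : (a' : ↥M24)⁻¹ * a = (b' : ↥M24) * (b : ↥M24)⁻¹ := by
        have h' : (a : ↥M24) * b = a' * b' := h
        rw [eq_mul_inv_iff_mul_eq, mul_assoc, h', inv_mul_cancel_left]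
      have : (a' : ↥M24)⁻¹ * a ∈ Q ⊓ K := ⟨Q.mul_mem (Q.inv_mem a'.2) a.2, by rw [e]; exact hPGK (PG.mul_mem b'.2 (PG.inv_mem b.2))⟩
      rw [hQK, Subgroup.mem_bot, inv_mul_eq_one] at this
      have ha : a = a' := Subtype.ext this.symm
      subst ha
      exact Prod.ext rfl (Subtype.ext (mul_left_cancel h))
    have hrange : Set.range (fun x : Q × PG => (x.1 : ↥M24) * (x.2 : ↥M24)) = (S₀ : Set ↥M24) := by
      rw [hS0set]
      ext y
      constructor
      · rintro ⟨⟨a, b⟩, rfl⟩; exact ⟨a, a.2, b, b.2, rfl⟩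
      · rintro ⟨a, ha, b, hb, rfl⟩; exact ⟨(⟨a, ha⟩, ⟨b, hb⟩), rfl⟩
    have h8 : Nat.card PG = 8 := by
      rw [hPG, Nat.card_congr (Subgroup.equivMapOfInjective _ _ K.subtype_injective).symm.toEquiv, PK.card_eq_multiplicity,
        Nat.card_congr eK.toEquiv]
      have hsl : Nat.card (Matrix.SpecialLinearGroup (Fin 3) (ZMod 2)) = 168 := by
        have := Classical.natCard_GL_eq_SL_mul (F := ZMod 2) 3 (by norm_num)
        rw [Matrix.card_GL_field, Classical.natCard_units_field, ZMod.card, Fin.prod_univ_three] at this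
        norm_num [-Nat.card_eq_fintype_card] at this
        omega
      rw [hsl, show 168 = 2 ^ 3 * 21 by norm_num, Nat.factorization_mul (by norm_num) (by norm_num),
        Finsupp.add_apply, Nat.Prime.factorization_pow Nat.prime_two, Finsupp.single_eq_same,
        Nat.factorization_eq_zero_of_not_dvd (by norm_num)]
      rfl
    rw [← SetLike.coe_sort_coe, ← hrange, Nat.card_range_of_injective hinj, Nat.card_prod, hQc, h8]
    rfl
  have hM : Nat.card ↥M24 = 244823040 := Cfsg.Agent.S0364.result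
  let S0 : Sylow 2 ↥M24 := Sylow.ofCard S₀ (by
    rw [hcard, hM, show 244823040 = 2 ^ 10 * 239085 by norm_num, Nat.factorization_mul (by norm_num) (by norm_num),
      Finsupp.add_apply, Nat.Prime.factorization_pow Nat.prime_two, Finsupp.single_eq_same,
      Nat.factorization_eq_zero_of_not_dvd (by norm_num)])
  refine sylow_self_norm S0 S (le_antisymm (fun n hn => ?_) Subgroup.le_normalizer)
  have hn' : ∀ x, x ∈ S₀ ↔ n * x * n⁻¹ ∈ S₀ := Subgroup.mem_normalizer_iff.1 hn
  have hS0C : S₀ ≤ C := sup_le hQC (hPGK.trans hKC)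
  have hzQ : z ∈ Q := by
    have hzc : z ∈ Subgroup.centralizer (Q : Set ↥M24) := fun x hx => Subgroup.mem_centralizer_singleton_iff.1 (hQC hx)
    rw [hcent] at hzc
    obtain ⟨w, -, hw⟩ := hzc
    exact hw ▸ w.2
  have hzS : z ∈ S₀ := le_sup_left (b := PG) hzQ
  have hzn : n * z * n⁻¹ = z := by
    have h1 : n * z * n⁻¹ ∈ Subgroup.centralizer (Q : Set ↥M24) := fun x hx => by
      have hx' : n⁻¹ * x * n ∈ S₀ := (hn' _).2 (by simpa [mul_assoc] using le_sup_left (b := PG) hx)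
      have hc : z * (n⁻¹ * x * n) = (n⁻¹ * x * n) * z := (Subgroup.mem_centralizer_singleton_iff.1 (hS0C hx')).symm
      calc x * (n * z * n⁻¹) = n * ((n⁻¹ * x * n) * z) * n⁻¹ := by group
        _ = n * (z * (n⁻¹ * x * n)) * n⁻¹ := by rw [hc]
        _ = n * z * n⁻¹ * x := by group
    have h2 : z ∈ Subgroup.centralizer (Q : Set ↥M24) := fun x hx => Subgroup.mem_centralizer_singleton_iff.1 (hQC hx)
    rw [hcent] at h1 h2
    obtain ⟨a, ha, hae⟩ := h1
    obtain ⟨b, hb, hbe⟩ := h2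
    obtain ⟨u, v, huv, huni⟩ := Nat.card_eq_two_iff.1 hQe.2
    have hone : ∀ w : Subgroup.center Q, w = u ∨ w = v := fun w => by
      have := (Set.eq_univ_iff_forall.1 huni) w
      simpa using this
    have hval : ∀ w : Subgroup.center Q, w = 1 ∨ w = ⟨b, hb⟩ := fun w => by
      have hb1 : (⟨b, hb⟩ : Subgroup.center Q) ≠ 1 := fun h => hz1 (by
        rw [← hbe, show b = 1 from congrArg Subtype.val h, map_one])
      rcases hone w with h | h <;> rcases hone ⟨b, hb⟩ with h' | h' <;> rcases hone 1 with h'' | h''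
      all_goals first
        | exact Or.inl (h.trans h''.symm)
        | exact Or.inr (h.trans h'.symm)
        | exact absurd (h'.trans h''.symm) hb1
    rcases hval ⟨a, ha⟩ with h | h
    · rw [show a = 1 from congrArg Subtype.val h, map_one] at hae
      exact absurd (conj_eq_one_iff.1 hae.symm) hz1
    · rw [← hae, show a = b from congrArg Subtype.val h, hbe]
  have hnC : n ∈ C := Subgroup.mem_centralizer_singleton_iff.2 (mul_inv_eq_iff_eq_mul.1 hzn)
  have hnQK : n ∈ (Q : Set ↥M24) * (K : Set ↥M24) := by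
    rw [← Subgroup.coe_mul_of_right_le_normalizer_left Q K (hKC.trans hQn), hQKC]; exact hnC
  obtain ⟨q, hq, k, hk, rfl⟩ := hnQK
  have hk' : (⟨k, hk⟩ : K) ∈ Subgroup.normalizer ((PK : Subgroup K) : Set K) := by
    refine Subgroup.mem_normalizer_fintype fun x hx => ?_
    have hxS : (x : ↥M24) ∈ S₀ := le_sup_right (a := Q) ⟨x, hx, rfl⟩
    have h1 : k * (x : ↥M24) * k⁻¹ ∈ S₀ := by
      have := mul_mem (mul_mem (inv_mem (le_sup_left (b := PG) hq)) ((hn' _).1 hxS)) (le_sup_left (b := PG) hq)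
      simpa [mul_assoc] using this
    rw [← SetLike.mem_coe, hS0set] at h1
    obtain ⟨a, ha, b, hb, hab⟩ := h1
    have hab' : a * b = k * (x : ↥M24) * k⁻¹ := hab
    have haK : a ∈ Q ⊓ K := ⟨ha, by
      rw [show a = k * (x : ↥M24) * k⁻¹ * b⁻¹ by rw [← hab', mul_inv_cancel_right]]
      exact K.mul_mem (K.mul_mem (K.mul_mem hk x.2) (K.inv_mem hk)) (K.inv_mem (hPGK hb))⟩
    rw [hQK, Subgroup.mem_bot] at haK
    rw [haK, one_mul] at hab'
    obtain ⟨b', hb', rfl⟩ := hb
    have : (⟨k, hk⟩ : K) * x * (⟨k, hk⟩ : K)⁻¹ = b' := Subtype.ext hab'.symm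
    rw [this]; exact hb'
  rw [hKnorm] at hk'
  exact mul_mem (le_sup_left (b := PG) hq) (le_sup_right (a := Q) ⟨⟨k, hk⟩, hk', rfl⟩)

end Cfsg.Agent.S2882
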