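import Cfsg.Prelude
import Cfsg.Agent.Lib.Invol.CharPLocal
-- import your own Cfsg.Agent.* helpers here

set_option autoImplicit false
open Cfsg Cfsg.Agent.Invol

namespace Cfsg.Agent.S2896

/-- Let p be a prime dividing the order of the finite group G, S a Sylow p-subgroup of G and X a subgroup of S. (i) If some nontrivial element z of the centre of X has F*(C_G(z)) = O_p(C_G(z)), then F*(N_G(X)) = O_p(N_G(X)). (ii) G has parabolic characteristic p if and only if F*(C_G(z)) = O_p(C_G(z)) for every nontrivial z ∈ Ω₁(Z(S)). (iii) If F*(C_G(z)) = O_p(C_G(z)) for every element z of S of order p, then G has local characteristic p. -/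
theorem result {G : Type*} [Group G] [Finite G] {p : ℕ} [Fact p.Prime] (hdiv : p ∣ Nat.card G) (S : Sylow p G) (X : Subgroup G) (hX : X ≤ (S : Subgroup G)) : (∀ z : G, z ≠ 1 → z ∈ X → (∀ x ∈ X, x * z = z * x) → Cfsg.generalizedFittingSubgroup ↥(Subgroup.centralizer ({z} : Set G)) = Cfsg.pCore p ↥(Subgroup.centralizer ({z} : Set G)) → Cfsg.generalizedFittingSubgroup ↥(Subgroup.normalizer (X : Set G)) = Cfsg.pCore p ↥(Subgroup.normalizer (X : Set G))) ∧ (Cfsg.IsOfParabolicCharacteristic p G ↔ ∀ z : G, z ≠ 1 → z ∈ Cfsg.omegaOne p ((S : Subgroup G) ⊓ Subgroup.centralizer ((S : Subgroup G) : Set G)) → Cfsg.generalizedFittingSubgroup ↥(Subgroup.centralizer ({z} : Set G)) = Cfsg.pCore p ↥(Subgroup.centralizer ({z} : Set G))) ∧ ((∀ z : G, z ∈ (S : Subgroup G) → orderOf z = p → Cfsg.generalizedFittingSubgroup ↥(Subgroup.centralizer ({z} : Set G)) = Cfsg.pCore p ↥(Subgroup.centralizer ({z} : Set G))) → Cfsg.IsOfLocalCharacteristic p G) := by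
  refine ⟨fun z _ hzX hzc hC => ?_, ?_, ?_⟩
  · refine CpLocal.gfit_of_charP (CpLocal.normalizer_charP (S.isPGroup'.to_le hX) ?_ ?_
      (CpLocal.charP_of_gfit hC))
    · exact fun x hx => Subgroup.mem_centralizer_singleton_iff.mpr (hzc x hx)
    · exact fun x hx => Subgroup.mem_centralizer_singleton_iff.mpr
        (Subgroup.mem_centralizer_iff.mp hx z hzX).symm
  · rw [CpLocal.parabolic_iff S]
    constructor
    · intro h z hz1 hz
      exact CpLocal.gfit_of_charP
        (h z (CpLocal.orderOf_of_mem_omegaOne_center hz hz1) (CpLocal.omegaOne_le hz))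
    · intro h z hzo hz
      refine CpLocal.charP_of_gfit (h z (fun e => ?_) (CpLocal.mem_omegaOne hz hzo))
      rw [e, orderOf_one] at hzo
      exact (Fact.out : p.Prime).ne_one hzo.symm
  · intro h
    exact CpLocal.local_of_centralizers hdiv S fun z hz hzo => CpLocal.charP_of_gfit (h z hz hzo)

end Cfsg.Agent.S2896
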