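import Cfsg.Statements.S2898
import Cfsg.Agent.Lib.Invol.LargeSubgroup
import Cfsg.Agent.Lib.Invol.IsolatedFactor
-- import your own Cfsg.Agent.* helpers here

set_option autoImplicit false
open Cfsg

namespace Cfsg.Agent.S2898

/-- Let G be a finite group of even order with parabolic characteristic 2. If the centre of G ⧸ O(G) is trivial, then O(G) = 1. -/
theorem result {G : Type*} [Group G] [Finite G] (h2 : 2 ∣ Nat.card G) (hG : Cfsg.IsOfParabolicCharacteristic 2 G) [hN : (Cfsg.oddCore G).Normal] (hZ : Subgroup.center (G ⧸ Cfsg.oddCore G) = ⊥) : Cfsg.oddCore G = ⊥ := by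
  set O := Cfsg.oddCore G with hOdef
  have hodd : (Nat.card O).Coprime 2 := Cfsg.Agent.Grp.pPrimeCore_coprime (p := 2)
  have hOn : O.Normal := hN
  by_contra hO
  obtain ⟨T⟩ : Nonempty (Sylow 2 G) := inferInstance
  haveI : Group.IsNilpotent ↥(T : Subgroup G) := T.isPGroup'.isNilpotent
  have hinv : ∀ t : G, orderOf t = 2 → (∀ s ∈ (T : Subgroup G), s * t = t * s) → t ∈ (T : Subgroup G) →
      ∀ o ∈ O, t * o = o * t → o = 1 := by
    intro t ht htc htT o ho hto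
    set R := Subgroup.zpowers t
    have hRp : IsPGroup 2 R := Cfsg.Agent.Invol.isPGroup_zpowers (n := 1) (by rw [ht, pow_one])
    have hR1 : R ≠ ⊥ := fun h => by
      rw [Subgroup.zpowers_eq_bot] at h
      simp [h] at ht
    set N := Subgroup.normalizer (R : Set G) with hNdef
    have hCN : Subgroup.centralizer ({t} : Set G) ≤ N := by
      rw [hNdef, ← Subgroup.centralizer_closure, ← Subgroup.zpowers_eq_closure]
      exact Subgroup.centralizer_le_normalizer _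
    have hTN : (T : Subgroup G) ≤ N := fun s hs => hCN (Subgroup.mem_centralizer_iff.mpr fun a ha => by
      obtain rfl := Set.mem_singleton_iff.mp ha
      exact (htc s hs).symm)
    have hch := Cfsg.Agent.Invol.lg_charP_iff.mp (hG R hRp hR1 ⟨T, hTN⟩)
    set P := Cfsg.pCoreOf 2 N with hP
    have hoN : o ∈ N := hCN (Subgroup.mem_centralizer_iff.mpr fun a ha => by
      obtain rfl := Set.mem_singleton_iff.mp ha
      exact hto)
    have hdis : ∀ z ∈ P, z ∈ O → z = 1 := fun z hzP hzO =>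
      Cfsg.Agent.Invol.eq_one_of_coprime_of_mem (Cfsg.Agent.Invol.lg_isPGroup_pCoreOf N) hzP
        (Nat.Coprime.coprime_dvd_left (by rw [← Subgroup.orderOf_mk z hzO]; exact orderOf_dvd_natCard _) hodd)
    refine hdis o (hch ⟨hoN, Subgroup.mem_centralizer_iff.mpr fun a ha => ?_⟩) ho
    have h := hdis (o * a * o⁻¹ * a⁻¹)
      (P.mul_mem ((Subgroup.mem_normalizer_iff.mp (Cfsg.Agent.Invol.lg_le_normalizer_pCoreOf N hoN) a).mp ha) (P.inv_mem ha))
      (by rw [show o * a * o⁻¹ * a⁻¹ = o * (a * o⁻¹ * a⁻¹) by group]; exact O.mul_mem ho (hOn.conj_mem _ (O.inv_mem ho) a))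
    exact (mul_inv_eq_iff_eq_mul.mp (mul_inv_eq_one.mp h)).symm
  have hcentral : ∀ K : Subgroup G, K.Normal → 2 ∣ Nat.card K →
      ∃ t ∈ K, orderOf t = 2 ∧ (∀ s ∈ (T : Subgroup G), s * t = t * s) ∧ t ∈ (T : Subgroup G) := by
    intro K hK h2K
    set K' := K.subgroupOf (T : Subgroup G) with hK'
    have hne : K' ≠ ⊥ := by
      intro h
      refine Cfsg.Agent.Grp.sylow_inf_normal_relIndex T K ?_
      have : (T : Subgroup G).subgroupOf K = ⊥ :=
        Subgroup.subgroupOf_eq_bot.mpr (Subgroup.subgroupOf_eq_bot.mp h).symm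
      rwa [Subgroup.relIndex, this, Subgroup.index_bot]
    haveI : K'.Normal := hK.comap _
    obtain ⟨⟨z, hz⟩, hz1⟩ := Subgroup.ne_bot_iff_exists_ne_one.mp (Cfsg.Agent.Grp.inf_center_ne_bot K' hne)
    have hZp : IsPGroup 2 ↥(K' ⊓ Subgroup.center _ : Subgroup (T : Subgroup G)) := T.isPGroup'.to_subgroup _
    haveI : Nontrivial ↥(K' ⊓ Subgroup.center _ : Subgroup (T : Subgroup G)) := ⟨⟨⟨z, hz⟩, 1, hz1⟩⟩
    obtain ⟨k, hk, hcard⟩ := hZp.nontrivial_iff_card.mp inferInstance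
    obtain ⟨w, hw⟩ := exists_prime_orderOf_dvd_card' (G := ↥(K' ⊓ Subgroup.center _ : Subgroup (T : Subgroup G))) 2
      (by rw [hcard]; exact dvd_pow_self 2 hk.ne')
    refine ⟨((w : (T : Subgroup G)) : G), w.2.1, by rw [Subgroup.orderOf_coe, Subgroup.orderOf_coe, hw],
      fun s hs => congrArg Subtype.val (Subgroup.mem_center_iff.mp w.2.2 ⟨s, hs⟩), (w : (T : Subgroup G)).2⟩
  obtain ⟨t, -, ht, htc, htT⟩ := hcentral ⊤ inferInstance (by rw [Subgroup.card_top]; exact h2)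
  have ht2 : t * t = 1 := by rw [← pow_two, ← ht, pow_orderOf_eq_one]
  have ht' : t⁻¹ = t := inv_eq_of_mul_eq_one_right ht2
  have hinvert : ∀ o ∈ O, t * o * t⁻¹ = o⁻¹ := by
    intro o ho
    let f : O → O := fun x => ⟨(x : G)⁻¹ * (t * x * t⁻¹), O.mul_mem (O.inv_mem x.2) (hOn.conj_mem _ x.2 t)⟩
    have hf : Function.Injective f := by
      intro x y hxy
      have h : (x : G)⁻¹ * (t * x * t⁻¹) = (y : G)⁻¹ * (t * y * t⁻¹) := congrArg Subtype.val hxy
      have h2 : t * ((y : G) * (x : G)⁻¹) = (y : G) * (x : G)⁻¹ * t := by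
        calc t * ((y : G) * (x : G)⁻¹) = (y : G) * ((y : G)⁻¹ * (t * y * t⁻¹)) * (t * (x : G)⁻¹) := by group
          _ = (y : G) * ((x : G)⁻¹ * (t * x * t⁻¹)) * (t * (x : G)⁻¹) := by rw [h]
          _ = (y : G) * (x : G)⁻¹ * t := by group
      exact Subtype.ext (mul_inv_eq_one.mp (hinv t ht htc htT _ (O.mul_mem y.2 (O.inv_mem x.2)) h2)).symm
    obtain ⟨x, hx⟩ := (Finite.injective_iff_surjective.mp hf) ⟨o, ho⟩
    have hx' : (x : G)⁻¹ * (t * x * t⁻¹) = o := congrArg Subtype.val hx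
    rw [← hx', ht']
    calc t * ((x : G)⁻¹ * (t * x * t)) * t = t * (x : G)⁻¹ * t * x * (t * t) := by group
      _ = t * (x : G)⁻¹ * t * x := by rw [ht2, mul_one]
      _ = ((x : G)⁻¹ * (t * x * t))⁻¹ := by rw [mul_inv_rev, mul_inv_rev, mul_inv_rev, ht', inv_inv]; group
  set C := Subgroup.centralizer (O : Set G) with hC
  haveI : C.Normal := inferInstance
  by_cases h2C : 2 ∣ Nat.card C
  · obtain ⟨u, huC, hu, huc, huT⟩ := hcentral C inferInstance h2C
    refine hO (eq_bot_iff.mpr fun o ho => Subgroup.mem_bot.mpr (hinv u hu huc huT o ho ?_))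
    exact (Subgroup.mem_centralizer_iff.mp huC o ho).symm
  have hCO : C ≤ O := le_sSup ⟨inferInstance, ((Nat.prime_two.coprime_iff_not_dvd).mpr h2C).symm⟩
  have hz : (QuotientGroup.mk' O) t ∈ Subgroup.center (G ⧸ O) := by
    refine Subgroup.mem_center_iff.mpr fun x => ?_
    obtain ⟨g, rfl⟩ := QuotientGroup.mk'_surjective O x
    rw [← map_mul, ← map_mul]
    refine QuotientGroup.eq.mpr (hCO (Subgroup.mem_centralizer_iff.mpr fun o ho => ?_))
    have hg : ∀ o ∈ O, g * t * g⁻¹ * o * (g * t * g⁻¹)⁻¹ = o⁻¹ := fun o ho => by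
      have := hinvert _ (hOn.conj_mem o ho g⁻¹)
      calc g * t * g⁻¹ * o * (g * t * g⁻¹)⁻¹ = g * (t * (g⁻¹ * o * g⁻¹⁻¹) * t⁻¹) * g⁻¹ := by group
        _ = g * (g⁻¹ * o * g⁻¹⁻¹)⁻¹ * g⁻¹ := by rw [this]
        _ = o⁻¹ := by group
    have hd : ∀ o ∈ O, (g * t)⁻¹ * (t * g) * o * ((g * t)⁻¹ * (t * g))⁻¹ = o := fun o ho => by
      have h3 := hinvert (g * o * g⁻¹) (hOn.conj_mem o ho g)
      calc (g * t)⁻¹ * (t * g) * o * ((g * t)⁻¹ * (t * g))⁻¹
          = t⁻¹ * g⁻¹ * (t * (g * o * g⁻¹) * t⁻¹) * g * t := by group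
        _ = t⁻¹ * g⁻¹ * (g * o * g⁻¹)⁻¹ * g * t := by rw [h3]
        _ = t⁻¹ * o⁻¹ * t⁻¹⁻¹ := by group
        _ = o := by rw [ht', hinvert _ (O.inv_mem ho), inv_inv]
    exact (mul_inv_eq_iff_eq_mul.mp (hd o ho)).symm
  rw [hZ, Subgroup.mem_bot] at hz
  have htO : t ∈ O := (QuotientGroup.eq_one_iff t).mp hz
  have h3 : orderOf t ∣ Nat.card O := by rw [← Subgroup.orderOf_mk t htO]; exact orderOf_dvd_natCard _
  rw [ht] at h3
  exact (Nat.prime_two.coprime_iff_not_dvd.mp hodd.symm) h3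

end Cfsg.Agent.S2898
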