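import Cfsg.Prelude

-- import your own Cfsg.Agent.* helpers here

set_option autoImplicit false
open Cfsg

open scoped Pointwise commutatorElement

namespace Cfsg.Agent.S2907

/-- Let X be a finite semi-extraspecial p-group and x an element of X outside the centre. Then the index of C_X(x) in X equals the order of Z(X), and the commutators [x, y], y ∈ X, form exactly the centre Z(X). -/
theorem result {X : Type*} [Group X] [Finite X] {p : ℕ} [Fact p.Prime] (hX : Cfsg.IsSemiExtraspecial p X) (x : X) (hx : x ∉ Subgroup.center X) : (Subgroup.centralizer ({x} : Set X)).index = Nat.card ↥(Subgroup.center X) ∧ {z : X | ∃ y : X, z = x * y * x⁻¹ * y⁻¹} = (Subgroup.center X : Set X) := by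
  classical
  obtain ⟨⟨hXp, -, hcomm⟩, hY⟩ := hX
  have hmem : ∀ a b : X, a * b * a⁻¹ * b⁻¹ ∈ Subgroup.center X := fun a b => by
    rw [← hcomm, commutator_def, ← commutatorElement_def]
    exact Subgroup.commutator_mem_commutator trivial trivial
  let φ : X →* ↥(Subgroup.center X) := MonoidHom.mk' (fun y => ⟨x * y * x⁻¹ * y⁻¹, hmem x y⟩)
    fun a b => Subtype.ext (by
      have h1 : a * (x * b * x⁻¹ * b⁻¹) = (x * b * x⁻¹ * b⁻¹) * a :=
        Subgroup.mem_center_iff.mp (hmem x b) a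
      calc x * (a * b) * x⁻¹ * (a * b)⁻¹
          = (x * a * x⁻¹ * a⁻¹) * (a * (x * b * x⁻¹ * b⁻¹) * a⁻¹) := by group
        _ = (x * a * x⁻¹ * a⁻¹) * (x * b * x⁻¹ * b⁻¹) := by rw [h1, mul_inv_cancel_right])
  have hker : φ.ker = Subgroup.centralizer {x} := by
    ext y
    rw [MonoidHom.mem_ker, Subgroup.mem_centralizer_singleton_iff, Subtype.ext_iff]
    show x * y * x⁻¹ * y⁻¹ = 1 ↔ _
    rw [mul_inv_eq_one, mul_inv_eq_iff_eq_mul]
    exact eq_comm
  have htop : φ.range = ⊤ := by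
    by_contra hne
    obtain ⟨M, hM, hle⟩ := (eq_top_or_exists_le_coatom φ.range).resolve_left hne
    have hMZ : M.map (Subgroup.center X).subtype ≤ Subgroup.center X := Subgroup.map_subtype_le M
    have hback : (M.map (Subgroup.center X).subtype).subgroupOf (Subgroup.center X) = M :=
      Subgroup.comap_map_eq_self_of_injective (Subgroup.subtype_injective _) M
    obtain ⟨hYn, ⟨-, hZc⟩⟩ := hY _ hMZ (by rw [hback]; exact hM)
    set π := QuotientGroup.mk' (M.map (Subgroup.center X).subtype) with hπ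
    have hsurj : Function.Surjective π := QuotientGroup.mk'_surjective _
    set Zi := (Subgroup.center X).map π with hZi
    have hZle : Zi ≤ Subgroup.center _ := by
      rintro _ ⟨z, hz, rfl⟩
      refine Subgroup.mem_center_iff.mpr fun q => ?_
      obtain ⟨y, rfl⟩ := hsurj q
      rw [← map_mul, ← map_mul, Subgroup.mem_center_iff.mp hz y]
    have hZne : Zi ≠ ⊥ := fun hb => by
      rw [hZi, Subgroup.map_eq_bot_iff, hπ, QuotientGroup.ker_mk'] at hb
      refine hM.1 (hback ▸ ?_)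
      exact Subgroup.subgroupOf_eq_top.mpr hb
    have hZeq : Zi = Subgroup.center _ := by
      refine Subgroup.eq_of_le_of_card_ge hZle ?_
      rw [hZc]
      have h1 : Nat.card ↥Zi ∣ p := hZc ▸ Subgroup.card_dvd_of_le hZle
      rcases (Nat.dvd_prime Fact.out).mp h1 with h2 | h2
      · exact absurd (Subgroup.card_eq_one.mp h2) hZne
      · exact h2.ge
    have hxc : π x ∈ Subgroup.center _ := by
      refine Subgroup.mem_center_iff.mpr fun q => ?_
      obtain ⟨y, rfl⟩ := hsurj q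
      rw [← map_mul, ← map_mul]
      refine (QuotientGroup.eq).mpr ⟨(φ y⁻¹)⁻¹, M.inv_mem (hle ⟨_, rfl⟩), ?_⟩
      have h1 := Subgroup.mem_center_iff.mp ((Subgroup.center X).inv_mem (hmem x y⁻¹)) x⁻¹
      show (x * y⁻¹ * x⁻¹ * y⁻¹⁻¹)⁻¹ = (y * x)⁻¹ * (x * y)
      calc (x * y⁻¹ * x⁻¹ * y⁻¹⁻¹)⁻¹ = x⁻¹ * (x * y⁻¹ * x⁻¹ * y⁻¹⁻¹)⁻¹ * x := by
            rw [h1, inv_mul_cancel_right]
        _ = _ := by group
    rw [← hZeq] at hxc
    obtain ⟨z, hz, hzx⟩ := hxc
    have := (QuotientGroup.eq).mp hzx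
    have h2 := (Subgroup.center X).mul_mem hz (hMZ this)
    rw [mul_inv_cancel_left] at h2
    exact hx h2
  refine ⟨?_, ?_⟩
  · rw [← hker, Subgroup.index_ker, htop, Subgroup.card_top]
  · ext z
    refine ⟨?_, fun hz => ?_⟩
    · rintro ⟨y, rfl⟩; exact hmem x y
    · obtain ⟨y, hy⟩ := htop.ge (Subgroup.mem_top (⟨z, hz⟩ : ↥(Subgroup.center X)))
      exact ⟨y, (congrArg Subtype.val hy).symm⟩

end Cfsg.Agent.S2907
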