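import Cfsg.Statements.S2908
import Cfsg.Agent.Lib.Grp.Coprime
import Cfsg.Agent.Lib.Transfer.Fusion
-- import your own Cfsg.Agent.* helpers here

set_option autoImplicit false
open Cfsg

namespace Cfsg.Agent.S2908

open scoped commutatorElement

/-- Let P be a p-subgroup of a finite group, normalized by a p-subgroup A and by a subgroup B of order prime to p that commutes elementwise with A. If [P, B] ≤ [P, A], then B centralizes P. -/
theorem result {G : Type*} [Group G] [Finite G] {p : ℕ} [Fact p.Prime] (P A B : Subgroup G) (hP : IsPGroup p ↥P) (hA : IsPGroup p ↥A) (hB : ¬ p ∣ Nat.card ↥B) (hnA : A ≤ Subgroup.normalizer (P : Set G)) (hnB : B ≤ Subgroup.normalizer (P : Set G)) (hAB : ⁅A, B⁆ = ⊥) (hcomm : ⁅P, B⁆ ≤ ⁅P, A⁆) : ⁅P, B⁆ = ⊥ := by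
  classical
  set R := ⁅P, B⁆ with hR
  set Q := P ⊔ A with hQ
  have hQp : IsPGroup p Q := by
    rw [hQ, sup_comm]
    exact hA.to_sup_of_normal_right' hP hnA
  have hRP : R ≤ P := Cfsg.Agent.Grp.commutator_le_left_of_le_normalizer hnB
  have hcomm : ∀ a ∈ A, ∀ b ∈ B, a * b = b * a := fun a ha b hb =>
    commutatorElement_eq_one_iff_mul_comm.mp
      (Subgroup.mem_bot.mp (hAB.le (Subgroup.commutator_mem_commutator ha hb)))
  have hRR : ⁅R, B⁆ = R := by
    refine Cfsg.Agent.Grp.commutator_commutator_eq B P hnB ?_ (.inr ?_)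
    · obtain ⟨k, hk⟩ := hP.exists_card_eq
      rw [hk]
      exact Nat.Coprime.pow_right k ((Fact.out : p.Prime).coprime_iff_not_dvd.mpr hB).symm
    · have := hP.isNilpotent
      infer_instance
  set S := ⁅R, Q⁆ with hS
  have hQS : Q ≤ Subgroup.normalizer (S : Set G) :=
    Cfsg.Agent.Grp.right_le_normalizer_commutator Q R
  have hgen : ∀ b ∈ B, ∀ c ∈ ⁅P, A⁆, c ∈ Q ∧ ⁅c, b⁆ ∈ S := by
    intro b hb c hc
    rw [Subgroup.commutator_def] at hc
    induction hc using Subgroup.closure_induction with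
    | mem c hc =>
      obtain ⟨x, hx, a, ha, rfl⟩ := hc
      have hcQ : ⁅x, a⁆ ∈ Q := by
        rw [commutatorElement_def]
        exact mul_mem (mul_mem (mul_mem (Subgroup.mem_sup_left hx) (Subgroup.mem_sup_right ha))
          (inv_mem (Subgroup.mem_sup_left hx))) (inv_mem (Subgroup.mem_sup_right ha))
      refine ⟨hcQ, ?_⟩
      set r := b * x * b⁻¹ * x⁻¹ with hr
      have hrR : r ∈ R := by
        rw [hR, hr, Subgroup.commutator_comm]
        exact Subgroup.commutator_mem_commutator hb hx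
      have e : ⁅⁅x, a⁆, b⁆ = ⁅x, a⁆ * (⁅r, a⁆⁻¹) * ⁅x, a⁆⁻¹ * ⁅r, ⁅x, a⁆⁆⁻¹ := by
        have h1 : b * ⁅x, a⁆ * b⁻¹ = r * x * a * x⁻¹ * r⁻¹ * a⁻¹ := by
          rw [commutatorElement_def, hr]
          calc b * (x * a * x⁻¹ * a⁻¹) * b⁻¹
              = (b * x * b⁻¹) * (b * a * b⁻¹) * (b * x * b⁻¹)⁻¹ * (b * a * b⁻¹)⁻¹ := by group
            _ = _ := by rw [← hcomm a ha b hb, mul_inv_cancel_right]; group
        calc ⁅⁅x, a⁆, b⁆ = ⁅x, a⁆ * (b * ⁅x, a⁆ * b⁻¹)⁻¹ := by simp only [commutatorElement_def]; group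
          _ = _ := by rw [h1]; simp only [commutatorElement_def]; group
      rw [e]
      refine mul_mem ?_ (inv_mem (Subgroup.commutator_mem_commutator hrR hcQ))
      exact (Subgroup.mem_normalizer_iff.mp (hQS hcQ) _).mp
        (inv_mem (Subgroup.commutator_mem_commutator hrR (Subgroup.mem_sup_right ha)))
    | one => exact ⟨one_mem _, by simp⟩
    | mul c d _ _ h1 h2 =>
      refine ⟨mul_mem h1.1 h2.1, ?_⟩
      rw [commutatorElement_mul_left_eq_conj_mul]
      exact mul_mem ((Subgroup.mem_normalizer_iff.mp (hQS h1.1) _).mp h2.2) h1.2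
    | inv c _ h1 =>
      refine ⟨inv_mem h1.1, ?_⟩
      rw [show ⁅c⁻¹, b⁆ = c⁻¹ * ⁅c, b⁆⁻¹ * c⁻¹⁻¹ by simp only [commutatorElement_def]; group]
      exact (Subgroup.mem_normalizer_iff.mp (hQS (inv_mem h1.1)) _).mp (inv_mem h1.2)
  have hle : R ≤ S := by
    calc R = ⁅R, B⁆ := hRR.symm
      _ ≤ ⁅⁅P, A⁆, B⁆ := Subgroup.commutator_mono (by assumption) le_rfl
      _ ≤ S := Subgroup.commutator_le.mpr fun c hc b hb => (hgen b hb c hc).2
  exact Cfsg.Agent.Transfer.eq_bot_of_le_commutator hQp.isNilpotent (hRP.trans le_sup_left) hle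

end Cfsg.Agent.S2908
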