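import Cfsg.Statements.S2909
import Cfsg.Agent.Lib.Invol.LargeSubgroup
import Cfsg.Agent.Lib.Invol.PReduced
import Cfsg.Agent.Lib.Invol.Transvection
import Cfsg.Agent.Lib.Grp.CoprimeAbelian
-- import your own Cfsg.Agent.* helpers here

set_option autoImplicit false
open Cfsg

namespace Cfsg.Agent.S2909

open scoped commutatorElement

theorem trivial_of_trivial_mod {G : Type*} [Group G] [Finite G] {p : ℕ} [Fact p.Prime] {E : Subgroup G} [hEn : E.Normal]
    (hE : IsPGroup p E) {u c : G} (hu : IsPGroup p (Subgroup.zpowers u)) (hc : (orderOf c).Coprime p)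
    (hcu : Commute c u) (hmod : ∀ e ∈ E, c * e * c⁻¹ * e⁻¹ ∈ ⁅E, Subgroup.zpowers u⁆) :
    c ∈ Subgroup.centralizer (E : Set G) := by
  set X := E ⊔ Subgroup.zpowers u with hX
  have hEN : ∀ g : G, g ∈ Subgroup.normalizer (E : Set G) := fun g => by rw [Subgroup.normalizer_eq_top]; trivial
  have hXN : ∀ x ∈ X, x ∈ Subgroup.normalizer (X : Set G) := fun x hx => Subgroup.le_normalizer hx
  have hcX : c ∈ Subgroup.normalizer (X : Set G) := by
    rw [← Cfsg.Agent.Invol.wc_map_conj_eq_iff, hX, Subgroup.map_sup, Cfsg.Agent.Invol.wc_map_conj_eq_iff.mpr (hEN c),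
      MonoidHom.map_zpowers, MulEquiv.coe_toMonoidHom, MulAut.conj_apply, hcu.eq, mul_inv_cancel_right]
  let M : ℕ → Subgroup G := fun i => (fun K : Subgroup G => ⁅K, X⁆)^[i] E
  have hM0 : M 0 = E := rfl
  have hMs : ∀ i, M (i + 1) = ⁅M i, X⁆ := fun i => Function.iterate_succ_apply' _ i E
  have hinv : ∀ i, ∀ g ∈ Subgroup.normalizer (X : Set G), g ∈ Subgroup.normalizer ((M i : Subgroup G) : Set G) := by
    intro i
    induction i with
    | zero => exact fun g _ => hEN g
    | succ i ih =>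
      intro g hg
      rw [← Cfsg.Agent.Invol.wc_map_conj_eq_iff, hMs, Subgroup.map_commutator,
        Cfsg.Agent.Invol.wc_map_conj_eq_iff.mpr (ih g hg), Cfsg.Agent.Invol.wc_map_conj_eq_iff.mpr hg]
  have hME : ∀ i, M i ≤ E := by
    intro i
    induction i with
    | zero => exact le_rfl
    | succ i ih => exact (hMs i).le.trans ((Subgroup.commutator_mono ih le_rfl).trans (Subgroup.commutator_le_left E X))
  have hbot : ∃ n, M n = ⊥ := by
    haveI := (IsPGroup.to_sup_of_normal_left hE hu : IsPGroup p X).isNilpotent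
    obtain ⟨n, hn⟩ := (Subgroup.nilpotent_iff_lowerCentralSeries (G := ↥X)).mp inferInstance
    have hall : ∀ k, M k ≤ ((⊤ : Subgroup ↥X).lowerCentralSeries k).map X.subtype := by
      intro k
      induction k with
      | zero =>
        rw [Subgroup.lowerCentralSeries_zero, ← MonoidHom.range_eq_map, Subgroup.range_subtype, hM0]
        exact le_sup_left
      | succ k ihk =>
        rw [Subgroup.lowerCentralSeries_succ, Subgroup.map_commutator, ← MonoidHom.range_eq_map, Subgroup.range_subtype, hMs]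
        exact Subgroup.commutator_mono ihk le_rfl
    exact ⟨n, le_bot_iff.mp ((hall n).trans (by rw [hn, Subgroup.map_bot]))⟩
  have key : ∀ i, ∀ e ∈ E, c * e * c⁻¹ * e⁻¹ ∈ M i := by
    intro i
    induction i with
    | zero => exact fun e he => E.mul_mem (hEn.conj_mem e he c) (E.inv_mem he)
    | succ i ih =>
      have hN := hinv (i + 1)
      let D : Subgroup G :=
        { carrier := {w | w ∈ E ∧ c * w * c⁻¹ * w⁻¹ ∈ M (i + 1)}
          one_mem' := ⟨E.one_mem, by simp⟩
          mul_mem' := by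
            rintro a b ⟨ha, ha'⟩ ⟨hb, hb'⟩
            refine ⟨E.mul_mem ha hb, ?_⟩
            rw [show c * (a * b) * c⁻¹ * (a * b)⁻¹ =
              c * a * c⁻¹ * (c * b * c⁻¹ * b⁻¹) * (c * a * c⁻¹)⁻¹ * (c * a * c⁻¹ * a⁻¹) by group]
            exact Subgroup.mul_mem _ ((Subgroup.mem_normalizer_iff.mp
              (hN _ (hXN _ (Subgroup.mem_sup_left (hEn.conj_mem a ha c)))) _).mp hb') ha'
          inv_mem' := by
            rintro a ⟨ha, ha'⟩
            refine ⟨E.inv_mem ha, ?_⟩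
            rw [show c * a⁻¹ * c⁻¹ * a⁻¹⁻¹ = (c * a * c⁻¹)⁻¹ * (c * a * c⁻¹ * a⁻¹)⁻¹ * (c * a * c⁻¹)⁻¹⁻¹ by group]
            exact (Subgroup.mem_normalizer_iff.mp
              (hN _ (hXN _ (X.inv_mem (Subgroup.mem_sup_left (hEn.conj_mem a ha c))))) _).mp (Subgroup.inv_mem _ ha') }
      have hWD : ⁅E, Subgroup.zpowers u⁆ ≤ D := by
        refine Subgroup.commutator_le.mpr fun e he w hw => ?_
        obtain ⟨k, rfl⟩ := Subgroup.mem_zpowers_iff.mp hw
        refine ⟨?_, ?_⟩
        · rw [commutatorElement_def, show e * u ^ k * e⁻¹ * (u ^ k)⁻¹ = e * (u ^ k * e⁻¹ * (u ^ k)⁻¹) by group]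
          exact E.mul_mem he (hEn.conj_mem _ (E.inv_mem he) _)
        set v := u ^ k with hv
        have hcv : c * v * c⁻¹ = v := by rw [hv, (hcu.zpow_right k).eq, mul_inv_cancel_right]
        set m := c * e * c⁻¹ * e⁻¹ with hm
        have hmM : m ∈ M i := ih e he
        have hvX : v ∈ X := Subgroup.mem_sup_right (Subgroup.mem_zpowers_iff.mpr ⟨k, rfl⟩)
        set z := e * v * e⁻¹ * v⁻¹ with hz
        have hzX : z ∈ X := X.mul_mem (X.mul_mem (X.mul_mem (Subgroup.mem_sup_left he) hvX) (X.inv_mem (Subgroup.mem_sup_left he))) (X.inv_mem hvX)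
        have h1 : c * z * c⁻¹ * z⁻¹ = m * z * m⁻¹ * z⁻¹ * (z * (m * v * m⁻¹ * v⁻¹) * z⁻¹) := by
          calc c * z * c⁻¹ * z⁻¹ = (c * e * c⁻¹) * (c * v * c⁻¹) * (c * e * c⁻¹)⁻¹ * (c * v * c⁻¹)⁻¹ * z⁻¹ := by
                rw [hz]; group
            _ = (m * e) * v * (m * e)⁻¹ * v⁻¹ * z⁻¹ := by rw [hcv, hm]; group
            _ = _ := by rw [hz]; group
        show c * (⁅e, v⁆) * c⁻¹ * (⁅e, v⁆)⁻¹ ∈ M (i + 1)
        rw [commutatorElement_def, ← hz, h1]
        refine Subgroup.mul_mem _ ((hMs i).ge (Subgroup.commutator_mem_commutator hmM hzX)) ?_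
        exact (Subgroup.mem_normalizer_iff.mp (hN z (hXN z hzX)) _).mp ((hMs i).ge (Subgroup.commutator_mem_commutator hmM hvX))
      intro e he
      set m := c * e * c⁻¹ * e⁻¹ with hm
      have hmD : ∀ w ∈ ⁅E, Subgroup.zpowers u⁆, c * w * c⁻¹ * w⁻¹ ∈ M (i + 1) := fun w hw => (hWD hw).2
      have hn : ∀ n : ℕ, ∃ r ∈ M (i + 1), c ^ n * e * (c ^ n)⁻¹ = r * m ^ n * e := by
        intro n
        induction n with
        | zero => exact ⟨1, Subgroup.one_mem _, by simp⟩
        | succ n ihn =>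
          obtain ⟨r, hr, hre⟩ := ihn
          have h2 := hmD (m ^ n) (Subgroup.pow_mem _ (hmod e he) n)
          refine ⟨(c * r * c⁻¹) * (c * m ^ n * c⁻¹ * (m ^ n)⁻¹), Subgroup.mul_mem _
            ((Subgroup.mem_normalizer_iff.mp (hN c hcX) r).mp hr) h2, ?_⟩
          calc c ^ (n + 1) * e * (c ^ (n + 1))⁻¹ = c * (c ^ n * e * (c ^ n)⁻¹) * c⁻¹ := by
                rw [pow_succ']; group
            _ = c * (r * m ^ n * e) * c⁻¹ := by rw [hre]
            _ = c * r * c⁻¹ * (c * m ^ n * c⁻¹ * (m ^ n)⁻¹) * (m ^ n * m) * e := by rw [hm]; group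
            _ = _ := by rw [pow_succ]
      obtain ⟨r, hr, hre⟩ := hn (orderOf c)
      rw [pow_orderOf_eq_one, one_mul, inv_one, mul_one, right_eq_mul] at hre
      have h3 : m ^ orderOf c ∈ M (i + 1) := by
        rw [mul_eq_one_iff_inv_eq] at hre
        exact hre ▸ Subgroup.inv_mem _ hr
      obtain ⟨k, hk⟩ := Cfsg.Agent.Invol.pow_ppow_eq_one_of_mem hE
        (E.mul_mem (hEn.conj_mem e he c) (E.inv_mem he) : m ∈ E)
      obtain ⟨j, hj⟩ := exists_pow_eq_self_of_coprime (x := m) (n := orderOf c)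
        ((hc.pow_right k).of_dvd_right (orderOf_dvd_of_pow_eq_one hk))
      rw [← hj]
      exact Subgroup.pow_mem _ h3 _
  obtain ⟨n, hn⟩ := hbot
  refine Subgroup.mem_centralizer_iff.mpr fun e he => ?_
  have := key n e he
  rw [hn, Subgroup.mem_bot, mul_inv_eq_one, mul_inv_eq_iff_eq_mul] at this
  exact this.symm

/-- Let p be a prime, E a normal p-subgroup of the finite group G, and U a non-cyclic elementary abelian p-subgroup of G such that either C_E(U) = C_E(u) for every nontrivial u ∈ U, or [E, U] = [E, ⟨u⟩] for every nontrivial u ∈ U. If R is a subgroup of order prime to p normalized by U, then [R, U] centralizes E. -/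
theorem result {G : Type*} [Group G] [Finite G] {p : ℕ} [Fact p.Prime] (E : Subgroup G) [E.Normal] (hE : IsPGroup p ↥E) (U : Subgroup G) (hU : Cfsg.IsElementaryAbelian p U) (hnc : ¬ IsCyclic ↥U) (hcond : (∀ u ∈ U, u ≠ 1 → E ⊓ Subgroup.centralizer (U : Set G) = E ⊓ Subgroup.centralizer ({u} : Set G)) ∨ (∀ u ∈ U, u ≠ 1 → ⁅E, U⁆ = ⁅E, Subgroup.zpowers u⁆)) (R : Subgroup G) (hR : ¬ p ∣ Nat.card ↥R) (hRU : U ≤ Subgroup.normalizer (R : Set G)) : ⁅R, U⁆ ≤ Subgroup.centralizer (E : Set G) := by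
  haveI : IsMulCommutative U := hU.1
  have hUp : IsPGroup p U := Cfsg.Agent.Invol.isPGroup_of_ea hU
  obtain ⟨k, hk⟩ := hUp.exists_card_eq
  have hcopR : (Nat.card R).Coprime p := ((Fact.out : p.Prime).coprime_iff_not_dvd.mpr hR).symm
  have hgen := Cfsg.Agent.Grp.generated_by_centralizers U R hnc hRU (by rw [hk]; exact (hcopR.pow_right k).symm)
  set C := Subgroup.centralizer (E : Set G) with hC
  set D := (Subgroup.centralizer ((U.map (QuotientGroup.mk' C) : Subgroup (G ⧸ C)) : Set (G ⧸ C))).comap (QuotientGroup.mk' C)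
  suffices hRD : R ≤ D by
    refine Subgroup.commutator_le.mpr fun r hr v hv => ?_
    rw [← QuotientGroup.eq_one_iff, ← QuotientGroup.mk'_apply, map_commutatorElement, commutatorElement_eq_one_iff_mul_comm]
    exact (Subgroup.mem_centralizer_iff.mp (hRD hr) _ ⟨v, hv, rfl⟩).symm
  refine hgen.ge.trans (iSup₂_le fun u hu => ?_)
  obtain ⟨huU, hu1⟩ := hu
  intro r hr
  obtain ⟨hrR, hru⟩ := hr
  have hru' : Commute r u := (Subgroup.mem_centralizer_iff.mp hru u rfl).symm
  refine Subgroup.mem_comap.mpr (Subgroup.mem_centralizer_iff.mpr ?_)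
  rintro _ ⟨v, hv, rfl⟩
  refine (commutatorElement_eq_one_iff_mul_comm.mp ?_).symm
  rw [← map_commutatorElement, QuotientGroup.mk'_apply, QuotientGroup.eq_one_iff]
  set c := ⁅r, v⁆ with hcdef
  have huv : Commute v u := congrArg Subtype.val (hU.1.is_comm.comm ⟨v, hv⟩ ⟨u, huU⟩)
  have hcu : Commute c u := by
    rw [hcdef, commutatorElement_def]
    exact ((hru'.mul_left huv).mul_left hru'.inv_left).mul_left huv.inv_left
  have hcR : c ∈ R := by
    rw [hcdef, commutatorElement_def, show r * v * r⁻¹ * v⁻¹ = r * (v * r⁻¹ * v⁻¹) by group]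
    exact R.mul_mem hrR ((Subgroup.mem_normalizer_iff.mp (hRU hv) _).mp (R.inv_mem hrR))
  have hco : (orderOf c).Coprime p := Nat.Coprime.coprime_dvd_left
    (by rw [← Subgroup.orderOf_mk c hcR]; exact orderOf_dvd_natCard _) hcopR
  have hzu : IsPGroup p (Subgroup.zpowers u) := hUp.to_le (Subgroup.zpowers_le.mpr huU)
  have hEn : E.Normal := inferInstance
  rcases hcond with hcond | hcond
  · have hfix : ∀ w ∈ E ⊓ Subgroup.centralizer ({u} : Set G), v * w * v⁻¹ = w := fun w hw => by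
      rw [← hcond u huU hu1] at hw
      rw [Subgroup.mem_centralizer_iff.mp hw.2 v hv, mul_inv_cancel_right]
    refine (Cfsg.Agent.Grp.thompson_PQ (Subgroup.zpowers u) (Subgroup.zpowers c) hzu
      (by rw [Nat.card_zpowers]; exact hco) (Subgroup.zpowers_le.mpr ?_) E hE
      (by rw [Subgroup.normalizer_eq_top]; exact le_top) (by rw [Subgroup.normalizer_eq_top]; exact le_top) ?_)
      (Subgroup.mem_zpowers c)
    · exact Subgroup.mem_centralizer_iff.mpr fun x hx => by
        obtain ⟨n, rfl⟩ := Subgroup.mem_zpowers_iff.mp hx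
        exact (hcu.symm.zpow_right n).eq.symm
    rintro w ⟨hwE, hwu⟩
    refine Subgroup.mem_centralizer_iff.mpr fun x hx => ?_
    obtain ⟨n, rfl⟩ := Subgroup.mem_zpowers_iff.mp hx
    have hwu' : Commute u w := Subgroup.mem_centralizer_iff.mp hwu u (Subgroup.mem_zpowers u)
    have hmem : ∀ a : G, Commute a u → a * w * a⁻¹ ∈ E ⊓ Subgroup.centralizer ({u} : Set G) := fun a ha =>
      ⟨hEn.conj_mem w hwE a, Subgroup.mem_centralizer_iff.mpr fun b hb => by
        obtain rfl := Set.mem_singleton_iff.mp hb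
        exact ((ha.symm.mul_right hwu').mul_right ha.symm.inv_right).eq⟩
    have h1 : v⁻¹ * w * v⁻¹⁻¹ = w := by
      have := hfix w (by simpa using hmem 1 (Commute.one_left u))
      calc v⁻¹ * w * v⁻¹⁻¹ = v⁻¹ * (v * w * v⁻¹) * v⁻¹⁻¹ := by rw [this]
        _ = w := by group
    have h2 := hfix _ (hmem r⁻¹ hru'.inv_left)
    have hcw : c * w * c⁻¹ = w := by
      calc c * w * c⁻¹ = r * (v * (r⁻¹ * (v⁻¹ * w * v⁻¹⁻¹) * r⁻¹⁻¹) * v⁻¹) * r⁻¹ := by
            rw [hcdef, commutatorElement_def]; group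
        _ = r * (v * (r⁻¹ * w * r⁻¹⁻¹) * v⁻¹) * r⁻¹ := by rw [h1]
        _ = r * (r⁻¹ * w * r⁻¹⁻¹) * r⁻¹ := by rw [h2]
        _ = w := by group
    exact ((show Commute c w from mul_inv_eq_iff_eq_mul.mp hcw).zpow_left n).eq
  · refine trivial_of_trivial_mod hE hzu hco hcu fun e he => ?_
    set W := ⁅E, Subgroup.zpowers u⁆ with hW
    have hNW : ∀ g : G, Commute g u → g ∈ Subgroup.normalizer (W : Set G) := fun g hg => by
      rw [← Cfsg.Agent.Invol.wc_map_conj_eq_iff, hW, Subgroup.map_commutator,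
        Cfsg.Agent.Invol.wc_map_conj_eq_iff.mpr (by rw [Subgroup.normalizer_eq_top]; trivial : g ∈ Subgroup.normalizer (E : Set G)),
        MonoidHom.map_zpowers, MulEquiv.coe_toMonoidHom, MulAut.conj_apply, hg.eq, mul_inv_cancel_right]
    have hmv : ∀ x ∈ E, ∀ y ∈ U, y * x * y⁻¹ * x⁻¹ ∈ W := fun x hx y hy => by
      rw [hW, ← hcond u huU hu1]
      have := Subgroup.inv_mem _ (Subgroup.commutator_mem_commutator hx hy)
      simpa [commutatorElement_def, mul_assoc] using this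
    set m1 := v⁻¹ * e * v⁻¹⁻¹ * e⁻¹ with hm1
    have hm1W : m1 ∈ W := hmv e he _ (U.inv_mem hv)
    set e2 := r⁻¹ * e * r with he2
    have he2E : e2 ∈ E := by simpa [he2] using hEn.conj_mem e he r⁻¹
    set m2 := r⁻¹ * m1 * r with hm2
    have hm2W : m2 ∈ W := (Subgroup.mem_normalizer_iff''.mp (hNW r hru') m1).mp hm1W
    set m3 := v * m2 * v⁻¹ * (v * e2 * v⁻¹ * e2⁻¹) with hm3
    have hm3W : m3 ∈ W := W.mul_mem ((Subgroup.mem_normalizer_iff.mp (hNW v huv) m2).mp hm2W) (hmv e2 he2E v hv)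
    have hfin : c * e * c⁻¹ * e⁻¹ = r * m3 * r⁻¹ := by
      rw [hm3, hm2, he2, hm1, hcdef, commutatorElement_def]; group
    rw [hfin]
    exact (Subgroup.mem_normalizer_iff.mp (hNW r hru') m3).mp hm3W

end Cfsg.Agent.S2909
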