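import Cfsg.Statements.S2910
import Mathlib
import Cfsg.Agent.S0132
import Cfsg.Agent.Lib.Grp.Basic
import Cfsg.Agent.Lib.Grp.OmegaFixed
import Cfsg.Agent.Lib.Transfer.NormalComplement
-- import your own Cfsg.Agent.* helpers here

set_option autoImplicit false
open Cfsg

namespace Cfsg.Agent.S2910

/-- Let p be an odd prime dividing the order of the finite group G and P a Sylow p-subgroup of G. If Ω₁(P) (generated by the elements of order dividing p) is contained in the centre of G, then G has a normal p-complement. In particular, if G is quasisimple then Ω₁(P) is not central in G. -/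
theorem result {G : Type*} [Group G] [Finite G] {p : ℕ} [Fact p.Prime] (hp : p ≠ 2) (hdiv : p ∣ Nat.card G) (P : Sylow p G) (hZ : Cfsg.omegaOne p (P : Subgroup G) ≤ Subgroup.center G) : Cfsg.HasNormalPComplement p G ∧ ¬ Cfsg.IsQuasisimple G := by
  have hnc : HasNormalPComplement p G := by
    suffices H : ∀ (n : ℕ) (X : Type u_1) [Group X] [Finite X], Nat.card X = n →
        (∀ x : X, x ^ p = 1 → x ∈ Subgroup.center X) → HasNormalPComplement p X by
      refine H _ G rfl fun x hx => ?_
      obtain ⟨i, hi⟩ := (Nat.dvd_prime_pow (Fact.out : p.Prime)).1 (by rw [pow_one]; exact orderOf_dvd_of_pow_eq_one hx : orderOf x ∣ p ^ 1)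
      obtain ⟨Q, hQ⟩ := (IsPGroup.of_card (p := p) (n := i) (by rw [Nat.card_zpowers, hi.2]) : IsPGroup p (Subgroup.zpowers x)).exists_le_sylow
      obtain ⟨g, hg⟩ := MulAction.exists_smul_eq G Q P
      have h1 : g * x * g⁻¹ ∈ (P : Subgroup G) := by
        rw [← hg, Sylow.coe_subgroup_smul]; exact ⟨x, hQ (Subgroup.mem_zpowers x), rfl⟩
      have h2 := hZ (Subgroup.subset_closure ⟨h1, by rw [conj_pow, hx, mul_one, mul_inv_cancel]⟩)
      have h3 := (inferInstance : (Subgroup.center G).Normal).conj_mem _ h2 g⁻¹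
      simpa [mul_assoc] using h3
    intro n
    induction n using Nat.strong_induction_on with
    | _ n ih =>
      intro X _ _ hn hX
      by_contra hno
      obtain ⟨-, -, hnorm⟩ := Cfsg.Agent.S0132.result hno fun K hK => ih _
        (hn ▸ Cfsg.Agent.Grp.card_lt_of_ne_top hK) K rfl fun x hx => Subgroup.mem_center_iff.2 fun y =>
          Subtype.ext (Subgroup.mem_center_iff.1 (hX x (by have := congrArg Subtype.val hx; simpa using this)) y)
      let Q : Sylow p X := default
      haveI := hnorm Q
      obtain ⟨K, hK⟩ := Subgroup.exists_left_complement'_of_coprime (N := (Q : Subgroup X)) Q.card_coprime_index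
      have hKcard : ¬ p ∣ Nat.card K := fun hd => Q.not_dvd_index (hK.index_eq_card.symm ▸ hd)
      have hcen : ∀ k ∈ K, ∀ q ∈ (Q : Subgroup X), k * q * k⁻¹ = q := by
        intro k hk q hq
        have h1 := Cfsg.Agent.Grp.OmegaFix.aut_eq_one hp _ (Q : Subgroup X) rfl Q.isPGroup' (MulAut.conjNormal k)
          (orderOf k) (((Fact.out : p.Prime).coprime_iff_not_dvd.2 fun hd => hKcard (hd.trans (K.orderOf_dvd_natCard hk))).symm)
          (fun y => ?_) (fun y hy => Subtype.ext ?_) ⟨q, hq⟩
        · simpa using congrArg Subtype.val h1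
        · have hit : ∀ i : ℕ, ((⇑(MulAut.conjNormal k : MulAut (Q : Subgroup X)))^[i] y : X) = k ^ i * y * (k ^ i)⁻¹ := by
            intro i
            induction i with
            | zero => simp
            | succ i ih' => rw [Function.iterate_succ_apply', MulAut.conjNormal_apply, ih', pow_succ']; group
          exact Subtype.ext (by rw [hit, pow_orderOf_eq_one]; simp)
        · rw [MulAut.conjNormal_apply,
            Subgroup.mem_center_iff.1 (hX y (by have := congrArg Subtype.val hy; simpa using this)) k,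
            mul_inv_cancel_right]
      have hKn : K.Normal := ⟨fun k hk x => by
        have hx : x ∈ (⊤ : Subgroup X) := Subgroup.mem_top x
        rw [← hK.sup_eq_top, sup_comm] at hx
        obtain ⟨q, hq, k', hk', rfl⟩ := Subgroup.mem_sup_of_normal_left.1 hx
        have h1 : k' * k * k'⁻¹ ∈ K := mul_mem (mul_mem hk' hk) (inv_mem hk')
        have h2 : q * (k' * k * k'⁻¹) * q⁻¹ = k' * k * k'⁻¹ := by
          rw [mul_inv_eq_iff_eq_mul, ← mul_inv_eq_iff_eq_mul.1 (hcen _ h1 q hq)]
        rw [show q * k' * k * (q * k')⁻¹ = q * (k' * k * k'⁻¹) * q⁻¹ by group, h2]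
        exact h1⟩
      exact hno ⟨Q, K, hKn, hK⟩
  refine ⟨hnc, fun hq => ?_⟩
  obtain ⟨Q, N, hN, hc⟩ := hnc
  haveI := hN
  by_cases hNtop : N = ⊤
  · exact Cfsg.Agent.Transfer.not_dvd_card_of_isComplement' Q hc (by rw [hNtop, Subgroup.card_top]; exact hdiv)
  · obtain ⟨m, hm⟩ := IsPGroup.iff_card.1 Q.isPGroup'
    have hQ : IsPGroup p (G ⧸ N) := IsPGroup.of_card (n := m) (by
      rw [← Subgroup.index_eq_card, hc.symm.index_eq_card, hm])
    haveI := hQ.isNilpotent
    haveI : Nontrivial (G ⧸ N) := QuotientGroup.nontrivial_iff.2 hNtop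
    refine (IsSolvable.commutator_lt_top_of_nontrivial (G ⧸ N)).ne ?_
    haveI := hq.1
    rw [commutator_def, ← Subgroup.map_top_of_surjective _ (QuotientGroup.mk'_surjective N), ← Subgroup.map_commutator,
      ← commutator_def, Group.IsPerfect.commutator_eq_top]

end Cfsg.Agent.S2910
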