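import Cfsg.Prelude
import Cfsg.Agent.Lib.Invol.ExtraRepBound
-- import your own Cfsg.Agent.* helpers here

set_option autoImplicit false
open Cfsg

open scoped Pointwise commutatorElement

namespace Cfsg.Agent.S2912

/-- Let p and r be distinct primes, let E be an extraspecial subgroup of order p^(2w+1) of a finite group, and let A be an elementary abelian r-subgroup normalized by E on which E acts faithfully (C_E(A) = 1). If n ≥ 1 is least with p dividing rⁿ − 1 (the smallest dimension of a faithful representation of a group of order p over the field with r elements), then the order of A is at least r^(n·p^w). -/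
theorem result {G : Type*} [Group G] [Finite G] {p r : ℕ} [Fact p.Prime] [hr : Fact r.Prime] (hpr : p ≠ r) (E A : Subgroup G) (w : ℕ) (hE : Cfsg.IsExtraspecial p ↥E) (hEcard : Nat.card ↥E = p ^ (2 * w + 1)) (hA : Cfsg.IsElementaryAbelian r A) (hnorm : E ≤ Subgroup.normalizer (A : Set G)) (hfaith : E ⊓ Subgroup.centralizer (A : Set G) = ⊥) (n : ℕ) (hn : 1 ≤ n) (hdiv : p ∣ r ^ n - 1) (hmin : ∀ k : ℕ, 1 ≤ k → p ∣ r ^ k - 1 → n ≤ k) : r ^ (n * p ^ w) ≤ Nat.card ↥A := by
  obtain ⟨hcA, hexp⟩ := hA
  let : CommGroup A := { (inferInstance : Group A) with mul_comm := fun a b => hcA.is_comm.comm a b }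
  obtain ⟨⟨hP, -, hcom⟩, hZ⟩ := hE
  have hindex : (Subgroup.center E).index = p ^ (2 * w) := by
    have h := (Subgroup.center E).card_mul_index
    rw [hZ, hEcard, pow_succ'] at h
    exact Nat.eq_of_mul_eq_mul_left (Fact.out : p.Prime).pos h
  refine Invol.ExtraRep.card_ge_mulAut Fact.out Fact.out hpr (fun a => Subtype.ext (hexp _ a.2)) hP w hZ hindex
    (fun y d => hcom ▸ Subgroup.commutator_mem_commutator (Subgroup.mem_top y) (Subgroup.mem_top d))
    ((Subgroup.normalizerMonoidHom A).comp (Subgroup.inclusion hnorm)) ?_ n hmin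
  rw [injective_iff_map_eq_one]
  intro e he
  have h := MonoidHom.mem_ker.mpr he
  rw [← MonoidHom.comap_ker, Subgroup.mem_comap, Subgroup.normalizerMonoidHom_ker, Subgroup.mem_subgroupOf] at h
  have h' := Subgroup.mem_inf.mpr ⟨e.2, h⟩
  rw [hfaith, Subgroup.mem_bot] at h'
  exact Subtype.ext h'

end Cfsg.Agent.S2912
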