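import Cfsg.Statements.S2918
import Cfsg.Agent.Lib.Transfer.AEightSolv.CaseA
import Cfsg.Agent.Lib.Transfer.AEightSolv.CaseS
import Cfsg.Agent.Lib.Transfer.AEightSolv.CaseL
import Cfsg.Agent.Lib.Transfer.AEightSolv.EndS
import Cfsg.Agent.Lib.Transfer.AEightSolv.EndL
-- import your own Cfsg.Agent.* helpers here

set_option autoImplicit false
open Cfsg

namespace Cfsg.Agent.S2918

/-- Let G be a finite group with O²(G) = G and O₂(G) = O(G) = 1 whose Sylow 2-subgroups are isomorphic to those of the alternating group of degree 8, and suppose that the centralizer in G of every involution in the centre of a Sylow 2-subgroup is solvable. Then G is isomorphic to A₈, A₉ or PSp₄(3). -/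
theorem result {G : Type*} [Group G] [Finite G] (hO2 : Cfsg.pResidual 2 G = ⊤) (hcore2 : Cfsg.pCore 2 G = ⊥) (hodd : Cfsg.oddCore G = ⊥) (S : Sylow 2 G) (hS : ∀ P : Sylow 2 ↥(alternatingGroup (Fin 8)), Nonempty (↥(S : Subgroup G) ≃* ↥(P : Subgroup ↥(alternatingGroup (Fin 8))))) (hsol : ∀ z : G, z ∈ (S : Subgroup G) → (∀ s ∈ (S : Subgroup G), s * z = z * s) → orderOf z = 2 → IsSolvable ↥(Subgroup.centralizer ({z} : Set G))) : Nonempty (G ≃* ↥(alternatingGroup (Fin 8))) ∨ Nonempty (G ≃* ↥(alternatingGroup (Fin 9))) ∨ (∃ (F : Type) (_ : Field F) (_ : Fintype F), Fintype.card F = 3 ∧ Nonempty (G ≃* Cfsg.PSp 2 F)) := by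
  classical
  obtain ⟨e, c⟩ := Cfsg.Agent.Transfer.AEightSolv.exists_coords S hS
  have hz := c.e_mem (show 15 < 64 by norm_num)
  have h : Cfsg.Agent.Transfer.AEightSolv.Ctx G S e :=
    ⟨c, hsol _ hz (fun s hs => c.z_central hs) c.z_order, hodd, hcore2, hO2⟩
  obtain ⟨T, hl⟩ := h.exists_local
  rcases hl.radical with hn | ⟨hr, -⟩
  · exact (h.caseA hl hn).elim
  have hq : Cfsg.Agent.Transfer.AEightSolv.LocalQ h.Xq T h.eX := ⟨hl, hr⟩
  rcases hq.shape.1 with hs | hs
  · obtain ⟨hth, v, hv, hvO⟩ := h.small_theta hq hs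
    rcases h.small_end hq hs hth hv hvO with r | r
    · exact Or.inl r
    · exact Or.inr (Or.inl r)
  · exact Or.inr (Or.inr (h.large_end hq hs (h.large_theta hq hs)))

end Cfsg.Agent.S2918
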