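import Cfsg.Prelude
import Cfsg.Agent.Lib.Grp.ComponentBalance
import Cfsg.Agent.Lib.Grp.Subnormal
-- import your own Cfsg.Agent.* helpers here

set_option autoImplicit false
open Cfsg

open scoped Pointwise commutatorElement

namespace Cfsg.Agent.S2925

/-- Let K be a component of the finite group X and T a Sylow 2-subgroup of X. If some abelian normal subgroup Y of T does not normalize K, then K ⧸ Z(K) has abelian Sylow 2-subgroups. -/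
theorem result {X : Type*} [Group X] [Finite X] (K : Subgroup X) (hK : Cfsg.IsComponent K) (T : Sylow 2 X) (Y : Subgroup X) (hYT : Y ≤ (T : Subgroup X)) (hYn : (Y.subgroupOf (T : Subgroup X)).Normal) (hYab : IsMulCommutative ↥Y) (hnot : ¬ Y ≤ Subgroup.normalizer (K : Set X)) (P : Sylow 2 (↥K ⧸ Subgroup.center ↥K)) : IsMulCommutative ↥(P : Subgroup (↥K ⧸ Subgroup.center ↥K)) := by
  obtain ⟨y, hy, hyn⟩ := SetLike.not_le_iff_exists.mp hnot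
  haveI : Fact (Nat.Prime 2) := ⟨Nat.prime_two⟩
  obtain ⟨Z, hZ⟩ : ∃ Z, Z = Subgroup.center ↥K := ⟨_, rfl⟩
  -- conjugates by `y` commute with `K`
  have hc : ∀ a ∈ K, ∀ b ∈ K, a * (y * b * y⁻¹) = (y * b * y⁻¹) * a := by
    intro a ha b hb
    have := Grp.component_conj_commute hK (g := y) (h := 1) (by simpa using hyn) ha hb
    simpa [Commute, SemiconjBy] using this
  have hmY : ∀ r : X, r ∈ (T : Subgroup X) → y * r * y⁻¹ * r⁻¹ ∈ Y := by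
    intro r hr
    have hm := hYn.conj_mem ⟨y⁻¹, hYT (inv_mem hy)⟩ (show _ ∈ Y from inv_mem hy) ⟨r, hr⟩
    simp only [Subgroup.mem_subgroupOf, Subgroup.coe_mul, Subgroup.coe_inv] at hm
    rw [show y * r * y⁻¹ * r⁻¹ = y * (r * y⁻¹ * r⁻¹) by group]
    exact Subgroup.mul_mem _ hy hm
  -- `T ⊓ K` is abelian modulo `Z(K)`
  have key : ∀ r s : ↥K, (r : X) ∈ (T : Subgroup X) → (s : X) ∈ (T : Subgroup X) →
      r * s * r⁻¹ * s⁻¹ ∈ Subgroup.center ↥K := by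
    intro r s hr hs
    have e : (y * (r : X)⁻¹ * y⁻¹ * (r : X)) * (y * (s : X)⁻¹ * y⁻¹ * (s : X)) =
        (y * (s : X)⁻¹ * y⁻¹ * (s : X)) * (y * (r : X)⁻¹ * y⁻¹ * (r : X)) := by
      have h1 := hmY _ (inv_mem hr)
      have h2 := hmY _ (inv_mem hs)
      rw [inv_inv] at h1 h2
      exact congrArg Subtype.val (hYab.is_comm.comm (⟨_, h1⟩ : Y) ⟨_, h2⟩)
    have hrs : (r : X) * (y * (s : X)⁻¹ * y⁻¹) = (y * (s : X)⁻¹ * y⁻¹) * r := hc _ r.2 _ (inv_mem s.2)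
    have hsr : (s : X) * (y * (r : X)⁻¹ * y⁻¹) = (y * (r : X)⁻¹ * y⁻¹) * s := hc _ s.2 _ (inv_mem r.2)
    have e2 : (r : X) * s * (r : X)⁻¹ * (s : X)⁻¹ =
        y * ((s : X) * r * (s : X)⁻¹ * (r : X)⁻¹) * y⁻¹ *
          1 := by
      have e3 : (y * (r : X)⁻¹ * y⁻¹) * (y * (s : X)⁻¹ * y⁻¹) * ((r : X) * s) =
          (y * (s : X)⁻¹ * y⁻¹) * (y * (r : X)⁻¹ * y⁻¹) * ((s : X) * r) := by
        calc (y * (r : X)⁻¹ * y⁻¹) * (y * (s : X)⁻¹ * y⁻¹) * ((r : X) * s)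
            = (y * (r : X)⁻¹ * y⁻¹) * ((y * (s : X)⁻¹ * y⁻¹) * r) * s := by group
          _ = (y * (r : X)⁻¹ * y⁻¹) * (r * (y * (s : X)⁻¹ * y⁻¹)) * s := by rw [hrs]
          _ = (y * (r : X)⁻¹ * y⁻¹ * r) * (y * (s : X)⁻¹ * y⁻¹ * s) := by group
          _ = (y * (s : X)⁻¹ * y⁻¹ * s) * (y * (r : X)⁻¹ * y⁻¹ * r) := e
          _ = (y * (s : X)⁻¹ * y⁻¹) * (s * (y * (r : X)⁻¹ * y⁻¹)) * r := by group
          _ = (y * (s : X)⁻¹ * y⁻¹) * ((y * (r : X)⁻¹ * y⁻¹) * s) * r := by rw [hsr]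
          _ = (y * (s : X)⁻¹ * y⁻¹) * (y * (r : X)⁻¹ * y⁻¹) * ((s : X) * r) := by group
      calc (r : X) * s * (r : X)⁻¹ * (s : X)⁻¹
          = (y * (s : X) * r * y⁻¹) * ((y * (r : X)⁻¹ * y⁻¹) * (y * (s : X)⁻¹ * y⁻¹) * ((r : X) * s)) *
              ((r : X)⁻¹ * (s : X)⁻¹) := by group
        _ = (y * (s : X) * r * y⁻¹) * ((y * (s : X)⁻¹ * y⁻¹) * (y * (r : X)⁻¹ * y⁻¹) * ((s : X) * r)) *
              ((r : X)⁻¹ * (s : X)⁻¹) := by rw [e3]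
        _ = _ := by group
    rw [mul_one] at e2
    refine Subgroup.mem_center_iff.mpr fun k => Subtype.ext ?_
    show (k : X) * ((r : X) * s * (r : X)⁻¹ * (s : X)⁻¹) = ((r : X) * s * (r : X)⁻¹ * (s : X)⁻¹) * k
    rw [e2]
    exact hc _ k.2 _ (Subgroup.mul_mem _ (Subgroup.mul_mem _ (Subgroup.mul_mem _ s.2 r.2) (Subgroup.inv_mem _ s.2)) (Subgroup.inv_mem _ r.2))
  -- the image of `T ⊓ K` is Sylow
  let R : Sylow 2 ↥K := (T.2.comap_subtype (K := K)).toSylow (Grp.not_dvd_relIndex_sylow T hK.1)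
  let Q : Sylow 2 (↥K ⧸ Subgroup.center ↥K) := R.mapSurjective (QuotientGroup.mk'_surjective _)
  obtain ⟨g, hg⟩ := MulAction.exists_smul_eq (↥K ⧸ Subgroup.center ↥K) Q P
  refine ⟨⟨fun a b => Subtype.ext ?_⟩⟩
  have hm : ∀ a : ↥(P : Subgroup (↥K ⧸ Subgroup.center ↥K)), ∃ r : ↥K, (r : X) ∈ (T : Subgroup X) ∧
      (a : ↥K ⧸ Subgroup.center ↥K) = g * (r : ↥K ⧸ Subgroup.center ↥K) * g⁻¹ := by
    intro a
    have hP : (P : Subgroup (↥K ⧸ Subgroup.center ↥K)) =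
        MulAut.conj g • (Q : Subgroup (↥K ⧸ Subgroup.center ↥K)) := by rw [← hg, Sylow.coe_subgroup_smul]
    obtain ⟨q, hq, e⟩ := hP.le a.2
    obtain ⟨r, hr, rfl⟩ := hq
    exact ⟨r, hr, e.symm⟩
  obtain ⟨r, hr, ea⟩ := hm a
  obtain ⟨s, hs, eb⟩ := hm b
  show (a : ↥K ⧸ Subgroup.center ↥K) * b = b * a
  have h1 : ((r * s : ↥K) : ↥K ⧸ Subgroup.center ↥K) = ((s * r : ↥K) : ↥K ⧸ Subgroup.center ↥K) := by
    refine (QuotientGroup.eq).mpr ?_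
    have := key r⁻¹ s⁻¹ (by simpa using inv_mem hr) (by simpa using inv_mem hs)
    rw [inv_inv, inv_inv] at this
    rw [show (r * s)⁻¹ * (s * r) = (r⁻¹ * s⁻¹ * r * s)⁻¹ by group]
    have h2 := key s⁻¹ r⁻¹ (by simpa using inv_mem hs) (by simpa using inv_mem hr)
    rw [inv_inv, inv_inv] at h2
    rw [show (r⁻¹ * s⁻¹ * r * s)⁻¹ = s⁻¹ * r⁻¹ * s * r by group]
    exact h2
  rw [QuotientGroup.mk_mul, QuotientGroup.mk_mul] at h1
  rw [ea, eb]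
  calc g * (r : ↥K ⧸ Subgroup.center ↥K) * g⁻¹ * (g * s * g⁻¹) = g * ((r : ↥K ⧸ Subgroup.center ↥K) * s) * g⁻¹ := by group
    _ = g * ((s : ↥K ⧸ Subgroup.center ↥K) * r) * g⁻¹ := by rw [h1]
    _ = _ := by group

end Cfsg.Agent.S2925
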