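import Cfsg.Statements.S2931
import Cfsg.Agent.Lib.Grp.SylModel
import Cfsg.Agent.Lib.Grp.SylModelData
import Cfsg.Agent.Lib.Classical.SympGen
import Cfsg.Agent.Lib.Classical.OrthCount
import Cfsg.Agent.Lib.Classical.OrthOrder
import Cfsg.Agent.Lib.Classical.QuadClass
-- import your own Cfsg.Agent.* helpers here

set_option autoImplicit false
open Cfsg

namespace Cfsg.Agent.S2931

open Cfsg.Agent.SylModel Matrix

abbrev permTab (a : Nat → Nat) (i : Nat) (x : Fin 8) : Fin 8 := ⟨a i / 8 ^ x.val % 8, Nat.mod_lt _ (by norm_num)⟩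

theorem spPerm_inv : ∀ i : Fin 64, ∀ x : Fin 8, permTab spPermInv i (permTab spPerm i x) = x ∧
    permTab spPerm i (permTab spPermInv i x) = x := by decide +kernel

theorem omPerm_inv : ∀ i : Fin 128, ∀ x : Fin 8, permTab omPermInv i (permTab omPerm i x) = x ∧
    permTab omPerm i (permTab omPermInv i x) = x := by decide +kernel

def spP (i : Fin 64) : Equiv.Perm (Fin 8) :=
  ⟨permTab spPerm i, permTab spPermInv i, fun x => (spPerm_inv i x).1, fun x => (spPerm_inv i x).2⟩

def omP (i : Fin 128) : Equiv.Perm (Fin 8) :=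
  ⟨permTab omPerm i, permTab omPermInv i, fun x => (omPerm_inv i x).1, fun x => (omPerm_inv i x).2⟩

def spTable : Table 63 3 where
  T i k := Fin.ofNat 64 (spT (3 * i.val + k.val))
  reach := by decide +kernel

def omTable : Table 127 3 where
  T i k := Fin.ofNat 128 (omT (3 * i.val + k.val))
  reach := by decide +kernel

theorem sign_spP : ∀ i, Equiv.Perm.sign (spP i) = 1 := by decide +kernel

def spAlt : Real spTable (Equiv.Perm (Fin 8)) where
  el := spP
  one := by decide +kernel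
  mul := by decide +kernel
  faithful := by decide +kernel

def omSym : Real omTable (Equiv.Perm (Fin 8)) where
  el := omP
  one := by decide +kernel
  mul := by decide +kernel
  faithful := by decide +kernel

theorem spP_inj : Function.Injective spAlt.el := by decide +kernel
theorem omP_inj : Function.Injective omSym.el := by decide +kernel

/-! symplectic side -/

abbrev I4 := Fin 2 ⊕ Fin 2
def ix4 : I4 → Nat := Sum.elim (fun i => i.val) fun i => 2 + i.val

def spM (i : Fin 64) : Matrix I4 I4 (ZMod 3) :=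
  Matrix.of fun r c => ((spMat i / 3 ^ (ix4 r * 4 + ix4 c) % 3 : ℕ) : ZMod 3)

theorem spM_mem : ∀ i, spM i * Matrix.J (Fin 2) (ZMod 3) * (spM i)ᵀ = Matrix.J (Fin 2) (ZMod 3) := by decide +kernel

theorem spM_mul : ∀ i k, spM i * spM (spTable.T 0 k) = spM (spTable.T i k) ∨
    spM i * spM (spTable.T 0 k) = -spM (spTable.T i k) := by decide +kernel

theorem spM_zero : spM 0 = 1 := by decide +kernel

/-- Witnesses against centrality. -/
def wit : Fin 4 → Matrix I4 I4 (ZMod 3)
  | 0 => 1 + Matrix.single (Sum.inl 0) (Sum.inr 0) 1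
  | 1 => 1 + Matrix.single (Sum.inl 1) (Sum.inr 1) 1
  | 2 => 1 + Matrix.single (Sum.inr 0) (Sum.inl 0) 1
  | 3 => spM (spTable.T 0 2)

theorem wit_mem : ∀ w, wit w * Matrix.J (Fin 2) (ZMod 3) * (wit w)ᵀ = Matrix.J (Fin 2) (ZMod 3) := by decide +kernel

theorem spM_noncentral : ∀ i, (∀ w, spM i * wit w = wit w * spM i) → i = 0 := by decide +kernel

section Sp

variable {F : Type} [Field F] (φ : ZMod 3 →+* F)

theorem map_mem {A : Matrix I4 I4 (ZMod 3)} (h : A * Matrix.J (Fin 2) (ZMod 3) * Aᵀ = Matrix.J (Fin 2) (ZMod 3)) :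
    A.map φ ∈ Matrix.symplecticGroup (Fin 2) F := by
  rw [SymplecticGroup.mem_iff]
  have hJ : (Matrix.J (Fin 2) (ZMod 3)).map φ = Matrix.J (Fin 2) F := by
    ext r c
    rcases r with r | r <;> rcases c with c | c <;> simp [Matrix.J, Matrix.one_apply, apply_ite φ]
  rw [← hJ, ← Matrix.transpose_map, ← Matrix.map_mul, ← Matrix.map_mul, h]

def spF (A : Matrix I4 I4 (ZMod 3)) (h : A * Matrix.J (Fin 2) (ZMod 3) * Aᵀ = Matrix.J (Fin 2) (ZMod 3)) :
    Matrix.symplecticGroup (Fin 2) F :=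
  ⟨A.map φ, map_mem φ h⟩

theorem negOne_center (h : (-1 : Matrix I4 I4 F) ∈ Matrix.symplecticGroup (Fin 2) F) :
    (⟨-1, h⟩ : Matrix.symplecticGroup (Fin 2) F) ∈ Subgroup.center (Matrix.symplecticGroup (Fin 2) F) :=
  Subgroup.mem_center_iff.2 fun g => Subtype.ext (by
    show (g : Matrix I4 I4 F) * -1 = -1 * (g : Matrix I4 I4 F)
    simp)

noncomputable def spReal : Real spTable (Cfsg.PSp 2 F) where
  el i := QuotientGroup.mk' _ (spF φ (spM i) (spM_mem i))
  one := by
    rw [← map_one (QuotientGroup.mk' (Subgroup.center (Matrix.symplecticGroup (Fin 2) F)))]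
    refine congrArg _ (Subtype.ext ?_)
    show (spM 0).map φ = 1
    rw [spM_zero, Matrix.map_one _ (map_zero φ) (map_one φ)]
  mul i k := by
    rw [← map_mul]
    rcases spM_mul i k with h | h
    · refine congrArg _ (Subtype.ext ?_)
      show (spM i).map φ * (spM (spTable.T 0 k)).map φ = (spM (spTable.T i k)).map φ
      rw [← Matrix.map_mul, h]
    · have hn : (-1 : Matrix I4 I4 F) ∈ Matrix.symplecticGroup (Fin 2) F := by
        rw [SymplecticGroup.mem_iff]; simp
      refine (QuotientGroup.mk'_eq_mk' _).2 ⟨⟨-1, hn⟩, negOne_center hn, Subtype.ext ?_⟩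
      show (spM i).map φ * (spM (spTable.T 0 k)).map φ * -1 = (spM (spTable.T i k)).map φ
      rw [← Matrix.map_mul, h, mul_neg, mul_one]
      ext r c
      simp
  faithful i hi := by
    rw [QuotientGroup.mk'_apply, QuotientGroup.eq_one_iff, Subgroup.mem_center_iff] at hi
    refine spM_noncentral i fun w => Matrix.map_injective φ.injective ?_
    have := congrArg Subtype.val (hi (spF φ (wit w) (wit_mem w)))
    show (spM i * wit w).map φ = (wit w * spM i).map φ
    rw [Matrix.map_mul, Matrix.map_mul]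
    exact this.symm

end Sp

/-! orthogonal side -/

abbrev I6 := (Fin 2 ⊕ Fin 2) ⊕ Fin 2
def ix6 : I6 → Nat := Sum.elim ix4 fun i => 4 + i.val

def omM (i : Fin 128) : Matrix I6 I6 (ZMod 2) :=
  Matrix.of fun r c => ((omMat i / 2 ^ (ix6 c * 6 + ix6 r) % 2 : ℕ) : ZMod 2)
def omMi (i : Fin 128) : Matrix I6 I6 (ZMod 2) :=
  Matrix.of fun r c => ((omMatInv i / 2 ^ (ix6 c * 6 + ix6 r) % 2 : ℕ) : ZMod 2)

theorem omM_rinv : ∀ i, omM i * omMi i = 1 := by decide +kernel
theorem omM_inv (i : Fin 128) : omM i * omMi i = 1 ∧ omMi i * omM i = 1 := ⟨omM_rinv i, mul_eq_one_comm.1 (omM_rinv i)⟩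
theorem omM_mul : ∀ i k, omM i * omM (omTable.T 0 k) = omM (omTable.T i k) := by decide +kernel
theorem omM_one : omM 0 = 1 := by decide +kernel
theorem omM_faithful : ∀ i, omM i = 1 → i = 0 := by decide +kernel

def vecOf (x : Fin 64) : I6 → ZMod 2 := fun r => ((x.val / 2 ^ ix6 r % 2 : ℕ) : ZMod 2)

def q2 (v : I6 → ZMod 2) : ZMod 2 :=
  v (.inl (.inl 0)) * v (.inl (.inr 0)) + v (.inl (.inl 1)) * v (.inl (.inr 1)) +
    (v (.inr 0) ^ 2 + v (.inr 0) * v (.inr 1) + v (.inr 1) ^ 2)

theorem omM_form_gen : ∀ k x, q2 (omM (omTable.T 0 k) *ᵥ vecOf x) = q2 (vecOf x) := by decide +kernel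
theorem vecOf_surj : ∀ v : I6 → ZMod 2, ∃ x, vecOf x = v := by decide +kernel

theorem omM_form (i : Fin 128) (x : Fin 64) : q2 (omM i *ᵥ vecOf x) = q2 (vecOf x) := by
  induction hv : i.val using Nat.strong_induction_on generalizing i x with
  | _ v ih =>
    by_cases hi : i = 0
    · subst hi; rw [omM_one, Matrix.one_mulVec]
    · obtain ⟨j, k, hji, hjk⟩ := omTable.reach i hi
      obtain ⟨y, hy⟩ := vecOf_surj (omM (omTable.T 0 k) *ᵥ vecOf x)
      rw [← hjk, ← omM_mul, ← Matrix.mulVec_mulVec, ← hy, ih j.val (hv ▸ hji) j y rfl, hy, omM_form_gen]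

section Om

variable {K : Type} [Field K] (φ : ZMod 2 →+* K) (hφ : Function.Surjective φ)

def omUnit (i : Fin 128) : Matrix.GeneralLinearGroup I6 K :=
  ⟨(omM i).map φ, (omMi i).map φ, by rw [← Matrix.map_mul, (omM_inv i).1, Matrix.map_one _ (map_zero φ) (map_one φ)],
    by rw [← Matrix.map_mul, (omM_inv i).2, Matrix.map_one _ (map_zero φ) (map_one φ)]⟩

include hφ in
theorem omUnit_mem (a b : K) (ha : a = 1) (hb : b = 1) (i : Fin 128) :
    omUnit φ i ∈ Cfsg.isometryGroup K (Cfsg.quadFormMinus 2 K a b) := by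
  intro u _
  obtain ⟨v, rfl⟩ : ∃ v : I6 → ZMod 2, φ ∘ v = u := ⟨fun r => (hφ (u r)).choose, funext fun r => (hφ (u r)).choose_spec⟩
  obtain ⟨x, rfl⟩ := vecOf_surj v
  have key : ∀ w : I6 → ZMod 2, Cfsg.quadFormMinus 2 K a b (φ ∘ w) = φ (q2 w) := fun w => by
    simp only [Cfsg.quadFormMinus, q2, ha, hb, Fin.sum_univ_two, map_add, map_mul, map_pow, Function.comp_apply, one_mul]
  show Cfsg.quadFormMinus 2 K a b ((omM i).map φ *ᵥ (φ ∘ vecOf x)) = Cfsg.quadFormMinus 2 K a b (φ ∘ vecOf x)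
  rw [key, show (omM i).map φ *ᵥ (φ ∘ vecOf x) = φ ∘ (omM i *ᵥ vecOf x) from
    funext fun r => (RingHom.map_mulVec φ _ _ r).symm, key, omM_form]

noncomputable def omReal (a b : K) (ha : a = 1) (hb : b = 1) :
    Real omTable ↥(Cfsg.isometryGroup K (Cfsg.quadFormMinus 2 K a b)) where
  el i := ⟨omUnit φ i, omUnit_mem φ hφ a b ha hb i⟩
  one := Subtype.ext (Units.ext (by
    show (omM 0).map φ = 1
    rw [omM_one, Matrix.map_one _ (map_zero φ) (map_one φ)]))
  mul i k := Subtype.ext (Units.ext (by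
    show (omM i).map φ * (omM (omTable.T 0 k)).map φ = (omM (omTable.T i k)).map φ
    rw [← Matrix.map_mul, omM_mul]))
  faithful i hi := omM_faithful i (Matrix.map_injective φ.injective (by
    have : (omM i).map φ = 1 := congrArg (fun g => ((g.1 : Matrix.GeneralLinearGroup I6 K) : Matrix I6 I6 K)) hi
    show (omM i).map φ = (1 : Matrix I6 I6 (ZMod 2)).map φ
    rw [this, Matrix.map_one _ (map_zero φ) (map_one φ)]))

end Om

theorem aniso_two : ∀ x y : ZMod 2, (∀ z w : ZMod 2, z ^ 2 + x * z * w + y * w ^ 2 = 0 → z = 0 ∧ w = 0) → x = 1 ∧ y = 1 := by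
  decide

/-- A subgroup of the largest possible two-power order is Sylow. -/
theorem sylow_equiv {G : Type*} [Group G] [Finite G] (A : Subgroup G) (k : ℕ) (hA : Nat.card A = 2 ^ k)
    (hG : ¬ 2 ^ (k + 1) ∣ Nat.card G) (P : Sylow 2 G) : Nonempty (A ≃* (P : Subgroup G)) := by
  haveI : Fact (Nat.Prime 2) := ⟨Nat.prime_two⟩
  obtain ⟨S, hS⟩ := (IsPGroup.of_card hA).exists_le_sylow
  obtain ⟨m, hm⟩ := IsPGroup.iff_card.1 S.isPGroup'
  have hmk : m ≤ k := by
    by_contra h
    exact hG (dvd_trans (pow_dvd_pow 2 (by omega)) (hm ▸ Subgroup.card_subgroup_dvd_card _))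
  have : A = (S : Subgroup G) := Subgroup.eq_of_le_of_card_ge hS (by
    rw [hm, hA]; exact Nat.pow_le_pow_right (by norm_num) hmk)
  subst this
  exact ⟨S.equiv P⟩

/-- The Sylow 2-subgroups of the alternating group of degree 8 and of PSp₄(3) are isomorphic, and so are the Sylow 2-subgroups of the symmetric group of degree 8 and of the full isometry group of a non-degenerate quadratic form of minus type in dimension 6 over the field with 2 elements. -/
theorem result (F : Type) [Field F] [Fintype F] (hF : Fintype.card F = 3) (K : Type) [Field K] [Fintype K] (hK : Fintype.card K = 2) (a b : K) (hab : ∀ z₁ z₂ : K, z₁ ^ 2 + a * z₁ * z₂ + b * z₂ ^ 2 = 0 → z₁ = 0 ∧ z₂ = 0) (P : Sylow 2 ↥(alternatingGroup (Fin 8))) (Q : Sylow 2 (Cfsg.PSp 2 F)) (P' : Sylow 2 (Equiv.Perm (Fin 8))) (Q' : Sylow 2 ↥(Cfsg.isometryGroup K (Cfsg.quadFormMinus 2 K a b))) : Nonempty (↥(P : Subgroup ↥(alternatingGroup (Fin 8))) ≃* ↥(Q : Subgroup (Cfsg.PSp 2 F))) ∧ Nonempty (↥(P' : Subgroup (Equiv.Perm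 (Fin 8))) ≃* ↥(Q' : Subgroup ↥(Cfsg.isometryGroup K (Cfsg.quadFormMinus 2 K a b)))) := by
  classical
  haveI : Fact (Nat.Prime 2) := ⟨Nat.prime_two⟩
  haveI : Fact (Nat.Prime 3) := ⟨Nat.prime_three⟩
  haveI : CharP F 3 := charP_of_card_eq_prime (by rw [hF])
  haveI : CharP K 2 := charP_of_card_eq_prime (by rw [hK])
  let φ : ZMod 3 →+* F := ZMod.castHom dvd_rfl F
  let ψ : ZMod 2 →+* K := ZMod.castHom dvd_rfl K
  have hψ : Function.Bijective ψ := (Fintype.bijective_iff_injective_and_card _).2 ⟨ψ.injective, by rw [ZMod.card, hK]⟩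
  constructor
  · obtain ⟨A, B, hA, hB, hmem, ⟨e⟩⟩ := model_iso spAlt (spReal φ) spP_inj
    have hAalt : A ≤ alternatingGroup (Fin 8) := fun x hx => by
      obtain ⟨i, rfl⟩ := hmem x hx
      exact Equiv.Perm.mem_alternatingGroup.2 (sign_spP i)
    have h8 : Nat.card ↥(alternatingGroup (Fin 8)) = 20160 := by
      rw [nat_card_alternatingGroup, Nat.card_eq_fintype_card, Fintype.card_fin]; rfl
    obtain ⟨eA⟩ := sylow_equiv (A.subgroupOf (alternatingGroup (Fin 8))) 6
      (by rw [Nat.card_congr (Subgroup.subgroupOfEquivOfLe hAalt).toEquiv, hA]; rfl) (by rw [h8]; decide) P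
    have hdvd : ¬ 2 ^ 7 ∣ Nat.card (Cfsg.PSp 2 F) := by
      intro h
      have hc : Nat.card (Matrix.symplecticGroup (Fin 2) F) = 51840 := by
        rw [Classical.natCard_symplecticGroup, Nat.card_eq_fintype_card, hF]; rfl
      have hn : (-1 : Matrix I4 I4 F) ∈ Matrix.symplecticGroup (Fin 2) F := by
        rw [SymplecticGroup.mem_iff]; simp
      have h2 : 2 ∣ Nat.card (Subgroup.center (Matrix.symplecticGroup (Fin 2) F)) := by
        have ho : orderOf (⟨⟨-1, hn⟩, negOne_center hn⟩ : ↥(Subgroup.center (Matrix.symplecticGroup (Fin 2) F))) = 2 :=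
          orderOf_eq_prime (Subtype.ext (Subtype.ext (by show (-1 : Matrix I4 I4 F) ^ 2 = 1; simp)))
            fun e => by
              have h00 : (-1 : Matrix I4 I4 F) = 1 := congrArg (fun x => ((x.1 : Matrix.symplecticGroup (Fin 2) F) : Matrix I4 I4 F)) e
              have h01 := congrFun (congrFun h00 (Sum.inl 0)) (Sum.inl 0)
              simp at h01
              have h3 : (3 : F) = 0 := by exact_mod_cast CharP.cast_eq_zero F 3
              exact one_ne_zero (α := F) (by linear_combination h01 + h3)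
        have hdc := orderOf_dvd_natCard (⟨⟨-1, hn⟩, negOne_center hn⟩ : ↥(Subgroup.center (Matrix.symplecticGroup (Fin 2) F)))
        rwa [ho] at hdc
      have h3 := Subgroup.card_eq_card_quotient_mul_card_subgroup (Subgroup.center (Matrix.symplecticGroup (Fin 2) F))
      have h4 : 2 ^ 8 ∣ Nat.card (Matrix.symplecticGroup (Fin 2) F) := by
        rw [h3]; exact mul_dvd_mul h h2
      rw [hc] at h4
      exact absurd h4 (by decide)
    obtain ⟨eB⟩ := sylow_equiv B 6 (by rw [hB]; rfl) hdvd Q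
    exact ⟨eA.symm.trans ((Subgroup.subgroupOfEquivOfLe hAalt).trans (e.trans eB))⟩
  · have hab' : a = 1 ∧ b = 1 := by
      obtain ⟨a', rfl⟩ := hψ.2 a
      obtain ⟨b', rfl⟩ := hψ.2 b
      obtain ⟨h1, h2⟩ := aniso_two a' b' fun z w h => by
        have h' := congrArg ψ h
        simp only [map_add, map_mul, map_pow, map_zero] at h'
        have := hab (ψ z) (ψ w) h'
        exact ⟨ψ.injective (this.1.trans (map_zero ψ).symm), ψ.injective (this.2.trans (map_zero ψ).symm)⟩
      exact ⟨by rw [h1, map_one], by rw [h2, map_one]⟩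
    obtain ⟨A, B, hA, hB, -, ⟨e⟩⟩ := model_iso omSym (omReal ψ hψ.2 a b hab'.1 hab'.2) omP_inj
    have hS8 : Nat.card (Equiv.Perm (Fin 8)) = 40320 := by
      rw [Nat.card_perm, Nat.card_eq_fintype_card, Fintype.card_fin]; rfl
    obtain ⟨eA⟩ := sylow_equiv A 7 (by rw [hA]; rfl) (by rw [hS8]; decide) P'
    have ho : Nat.card ↥(Cfsg.isometryGroup K (Cfsg.quadFormMinus 2 K a b)) = 51840 := by
      rw [Classical.natCard_isometryGroup' (Classical.qfMinus 2 K a b) (Classical.coe_qfMinus 2 a b)]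
      have := Classical.order_qfMinus 2 hab
      rw [hK] at this
      simp [Finset.prod_range_succ] at this
      omega
    obtain ⟨eB⟩ := sylow_equiv B 7 (by rw [hB]; rfl) (by rw [ho]; decide) Q'
    exact ⟨eA.symm.trans (e.trans eB)⟩

end Cfsg.Agent.S2931
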