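import Cfsg.Statements.S2932
import Cfsg.Agent.Lib.Fus.NatSL.Main

set_option autoImplicit false
open Cfsg

namespace Cfsg.Agent.S2932

/-- Let p be a prime. Inside a finite ambient group let V be an elementary abelian p-subgroup and G a subgroup normalizing V and acting faithfully on it (G ∩ C(V) = 1), and let L ≤ G act on V as SL₂(F) on its natural module, F a finite field of characteristic p, with L ≅ SL₂(F). If every Sylow p-subgroup of N_G(L) is a Sylow p-subgroup of G, then either L is normal in G, or F has 4 elements and G is isomorphic to the alternating group of degree 7. -/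
theorem result {X : Type*} [Group X] [Finite X] {p : ℕ} [Fact p.Prime] (F : Type) [Field F] [Fintype F] [CharP F p] (V G L : Subgroup X) (hV : Cfsg.IsElementaryAbelian p V) (hGV : G ≤ Subgroup.normalizer (V : Set X)) (hfaith : G ⊓ Subgroup.centralizer (V : Set X) = ⊥) (hLG : L ≤ G) (hnat : Cfsg.IsNaturalSL2Module F V L) (hLiso : Nonempty (↥L ≃* Matrix.SpecialLinearGroup (Fin 2) F)) (hSyl : ∀ S : Sylow p ↥(G ⊓ Subgroup.normalizer (L : Set X)), ∀ P : Sylow p ↥G, Nat.card S = Nat.card P) : (L.subgroupOf G).Normal ∨ (Fintype.card F = 4 ∧ Nonempty (↥G ≃* ↥(alternatingGroup (Fin 7)))) := by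
  classical
  haveI : Finite G := inferInstance
  obtain ⟨hLV, f, e, hfs, hker, hact⟩ := hnat
  have hVG : ∀ g : ↥G, ∀ v : X, v ∈ V → (g : X) * v * (g : X)⁻¹ ∈ V := fun g v hv =>
    (Subgroup.mem_normalizer_iff.mp (hGV g.2) v).mp hv
  have hfi : Function.Injective f := by
    rw [← MonoidHom.ker_eq_bot_iff, hker, eq_bot_iff]
    intro l hl
    have h : (l : X) ∈ G ⊓ Subgroup.centralizer (V : Set X) := ⟨hLG l.2, Subgroup.mem_subgroupOf.mp hl⟩
    rw [hfaith, Subgroup.mem_bot] at h
    exact Subgroup.mem_bot.mpr (Subtype.ext h)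
  let fe : ↥L ≃* Matrix.SpecialLinearGroup (Fin 2) F := MulEquiv.ofBijective f ⟨hfi, hfs⟩
  let mv : ↥G → ↥V → ↥V := fun g v => ⟨(g : X) * (v : X) * (g : X)⁻¹, hVG g v v.2⟩
  have hmv : ∀ g v w, mv g (v * w) = mv g v * mv g w := fun g v w => Subtype.ext (by simp [mv, mul_assoc])
  let act : ↥G → AddMonoid.End (Fin 2 → F) := fun g =>
    AddMonoidHom.mk' (fun w => e (Additive.ofMul (mv g (Additive.toMul (e.symm w))))) fun a b => by
      rw [map_add, toMul_add, hmv, ofMul_mul, map_add]
  have hact1 : ∀ g w, act g w = e (Additive.ofMul (mv g (Additive.toMul (e.symm w)))) := fun _ _ => rfl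
  let ρ : ↥G →* AddMonoid.End (Fin 2 → F) :=
    { toFun := act
      map_one' := DFunLike.ext _ _ fun w => by
        rw [hact1]
        show e (Additive.ofMul (mv 1 (Additive.toMul (e.symm w)))) = w
        rw [show mv 1 (Additive.toMul (e.symm w)) = Additive.toMul (e.symm w) from Subtype.ext (by simp [mv]),
          ofMul_toMul, e.apply_symm_apply]
      map_mul' := fun g h => DFunLike.ext _ _ fun w => by
        show act (g * h) w = act g (act h w)
        rw [hact1, hact1, hact1, e.symm_apply_apply, toMul_ofMul]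
        exact congrArg _ (congrArg _ (Subtype.ext (by simp [mv, mul_assoc]))) }
  have hρi : Function.Injective ρ := by
    refine (injective_iff_map_eq_one ρ).mpr fun g hg => ?_
    have h : (g : X) ∈ G ⊓ Subgroup.centralizer (V : Set X) := by
      refine ⟨g.2, Subgroup.mem_centralizer_iff.mpr fun v hv => ?_⟩
      have h1 : act g (e (Additive.ofMul ⟨v, hv⟩)) = e (Additive.ofMul ⟨v, hv⟩) :=
        DFunLike.congr_fun hg (e (Additive.ofMul ⟨v, hv⟩))
      rw [hact1, e.symm_apply_apply, toMul_ofMul] at h1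
      have h2 : (g : X) * v * (g : X)⁻¹ = v := congrArg Subtype.val (Additive.ofMul.injective (e.injective h1))
      exact (mul_inv_eq_iff_eq_mul.mp h2).symm
    rw [hfaith, Subgroup.mem_bot] at h
    exact Subtype.ext h
  let H : Cfsg.Agent.Fus.NatSL.Setup F ↥G :=
    { ρ := ρ
      inj := hρi
      ι := (Subgroup.inclusion hLG).comp fe.symm.toMonoidHom
      spec := fun A w => by
        obtain ⟨l, hl⟩ : ∃ l, fe l = A := ⟨_, fe.apply_symm_apply A⟩
        show act (Subgroup.inclusion hLG (fe.symm A)) w = _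
        rw [← hl, fe.symm_apply_apply, hact1]
        obtain ⟨v, hv, hv2⟩ := hact l (Additive.toMul (e.symm w))
        rw [ofMul_toMul, e.apply_symm_apply] at hv2
        rw [← show v = mv (Subgroup.inclusion hLG l) (Additive.toMul (e.symm w)) from Subtype.ext hv, hv2]
        rfl }
  have hrange : H.ι.range = L.subgroupOf G := by
    ext g
    constructor
    · rintro ⟨A, rfl⟩
      exact Subgroup.mem_subgroupOf.mpr (fe.symm A).2
    · intro hg
      exact ⟨fe ⟨g, Subgroup.mem_subgroupOf.mp hg⟩, Subtype.ext (by simp [H])⟩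
  rw [← hrange]
  have hN : Nat.card ↥(Subgroup.normalizer (H.ι.range : Set ↥G)) =
      Nat.card ↥(G ⊓ Subgroup.normalizer (L : Set X)) := by
    rw [← Subgroup.card_map_of_injective (K := Subgroup.normalizer (H.ι.range : Set ↥G)) (f := G.subtype)
      Subtype.val_injective]
    refine congrArg (fun K : Subgroup X => Nat.card K) (le_antisymm ?_ ?_)
    · rintro _ ⟨g, hg, rfl⟩
      refine ⟨g.2, Subgroup.mem_normalizer_iff.mpr fun l => ?_⟩
      constructor
      · intro hl
        have h := (Subgroup.mem_normalizer_iff.mp hg ⟨l, hLG hl⟩).mp (by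
          rw [hrange]; exact Subgroup.mem_subgroupOf.mpr hl)
        rw [hrange] at h
        exact Subgroup.mem_subgroupOf.mp h
      · intro hl
        have hlG : l ∈ G := by
          have h : (g : X) * l * (g : X)⁻¹ ∈ G := hLG hl
          rwa [G.mul_mem_cancel_right (G.inv_mem g.2), G.mul_mem_cancel_left g.2] at h
        have h := (Subgroup.mem_normalizer_iff.mp hg ⟨l, hlG⟩).mpr (by
          rw [hrange]; exact Subgroup.mem_subgroupOf.mpr hl)
        rw [hrange] at h
        exact Subgroup.mem_subgroupOf.mp h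
    · rintro g ⟨hg, hgN⟩
      refine ⟨⟨g, hg⟩, Subgroup.mem_normalizer_iff.mpr fun l => ?_, rfl⟩
      rw [hrange, Subgroup.mem_subgroupOf, Subgroup.mem_subgroupOf]
      exact Subgroup.mem_normalizer_iff.mp hgN l
  refine Cfsg.Agent.Fus.NatSL.normal_or_alt H p fun S Q => ?_
  obtain ⟨S'⟩ : Nonempty (Sylow p ↥(G ⊓ Subgroup.normalizer (L : Set X))) := inferInstance
  rw [← hSyl S' Q, S.card_eq_multiplicity, S'.card_eq_multiplicity, hN]

end Cfsg.Agent.S2932
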