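import Cfsg.Prelude
import Cfsg.Agent.Lib.Invol.SixtyFourSplit
import Cfsg.Agent.Lib.Recog.SU3Sylow
-- import your own Cfsg.Agent.* helpers here

set_option autoImplicit false
open Cfsg

open scoped Pointwise commutatorElement

namespace Cfsg.Agent.S2933

/-- Let T be a 2-subgroup of a finite group G, V ≤ Z(T) a four-group, and t, ρ ∈ N_G(V) ∩ N_G(T) elements of order 2 and 3 with t commuting with ρ and with V. If [V, ρ] = V and C_T(t) = V, then T is elementary abelian of order 16, or homocyclic of rank 2 (ℤ/2ⁿ × ℤ/2ⁿ for some n ≥ 1), or isomorphic to a Sylow 2-subgroup of PSL₃(4) or of PSU₃(4). -/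
theorem result {G : Type*} [Group G] [Finite G] (T V : Subgroup G) (hT : IsPGroup 2 ↥T) (hVT : V ≤ T ⊓ Subgroup.centralizer (T : Set G)) (hV : Nat.card ↥V = 4 ∧ ∀ v ∈ V, v ^ 2 = 1) (t ρ : G) (ht : orderOf t = 2) (hρ : orderOf ρ = 3) (htn : t ∈ Subgroup.normalizer (V : Set G) ⊓ Subgroup.normalizer (T : Set G)) (hρn : ρ ∈ Subgroup.normalizer (V : Set G) ⊓ Subgroup.normalizer (T : Set G)) (htρ : t * ρ = ρ * t) (htV : t ∈ Subgroup.centralizer (V : Set G)) (hVρ : ⁅V, Subgroup.zpowers ρ⁆ = V) (hCt : T ⊓ Subgroup.centralizer ({t} : Set G) = V) : (Nat.card ↥T = 16 ∧ ∀ x ∈ T, x ^ 2 = 1) ∨ (∃ n : ℕ, 1 ≤ n ∧ Nonempty (↥T ≃* Multiplicative (ZMod (2 ^ n)) × Multiplicative (ZMod (2 ^ n)))) ∨ (∃ (F : Type) (_ : Field F) (_ : Fintype F), Fintype.card F = 4 ∧ ∀ P : Sylow 2 (Matrix.ProjectiveSpecialLinearGroup (Fin 3) F), Nonempty (↥T ≃* ↥(P : Subgroup (Matrix.ProjectiveSpecialLinearGroup (Fin 3) F)))) ∨ (∃ (F : Type)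 (_ : Field F) (_ : Fintype F), Fintype.card F = 16 ∧ ∀ P : Sylow 2 (Cfsg.PSU 3 F 4), Nonempty (↥T ≃* ↥(P : Subgroup (Cfsg.PSU 3 F 4)))) := by
  classical
  haveI : Fact (Nat.Prime 2) := ⟨Nat.prime_two⟩
  haveI : Fact (Nat.Prime 3) := ⟨Nat.prime_three⟩
  obtain ⟨htV', htT⟩ := Subgroup.mem_inf.mp htn
  obtain ⟨hρV', hρT⟩ := Subgroup.mem_inf.mp hρn
  let mkAut : ∀ g : G, g ∈ Subgroup.normalizer (T : Set G) → MulAut T := fun g hg =>
    { toFun := fun x => ⟨g * x * g⁻¹, (Subgroup.mem_normalizer_iff.mp hg x).mp x.2⟩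
      invFun := fun x => ⟨g⁻¹ * x * g, by
        have h := (Subgroup.mem_normalizer_iff.mp (inv_mem hg) x).mp x.2
        rwa [inv_inv] at h⟩
      left_inv := fun x => Subtype.ext (by show g⁻¹ * (g * (x : G) * g⁻¹) * g = x; group)
      right_inv := fun x => Subtype.ext (by show g * (g⁻¹ * (x : G) * g) * g⁻¹ = x; group)
      map_mul' := fun x y => Subtype.ext (by
        show g * ((x : G) * y) * g⁻¹ = g * x * g⁻¹ * (g * y * g⁻¹); group) }
  let ψ := mkAut ρ hρT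
  let τ := mkAut t htT
  have hψ : ∀ x : T, (ψ x : G) = ρ * x * ρ⁻¹ := fun x => rfl
  have hτ : ∀ x : T, (τ x : G) = t * x * t⁻¹ := fun x => rfl
  have htt : t * t = 1 := by rw [← pow_two, ← ht, pow_orderOf_eq_one]
  have hρ3 : ρ * (ρ * ρ) = 1 := by rw [← pow_three, ← hρ, pow_orderOf_eq_one]
  set V' := V.subgroupOf T
  have hVT' : V ≤ T := hVT.trans inf_le_left
  have hmV : ∀ x : T, x ∈ V' ↔ (x : G) ∈ V := fun x => Iff.rfl
  have h4 : Nat.card V' = 4 := by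
    rw [Nat.card_congr (Subgroup.subgroupOfEquivOfLe hVT').toEquiv]; exact hV.1
  have hsq : ∀ w ∈ V', w * w = 1 := fun w hw => Subtype.ext (by
    show (w : G) * w = 1; rw [← pow_two]; exact hV.2 _ hw)
  have hmem : ∀ w ∈ V', ψ w ∈ V' := fun w hw => (hmV _).mpr (by
    rw [hψ]; exact (Subgroup.mem_normalizer_iff.mp hρV' w).mp hw)
  have hthree : ∀ x : T, ψ (ψ (ψ x)) = x := fun x => Subtype.ext (by
    rw [hψ, hψ, hψ, show ρ * (ρ * (ρ * (x : G) * ρ⁻¹) * ρ⁻¹) * ρ⁻¹ = (ρ * (ρ * ρ)) * x * (ρ * (ρ * ρ))⁻¹ by group,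
      hρ3, one_mul, inv_one, mul_one])
  have hodd : Odd (orderOf ψ) := by
    have h1 : ψ ^ 3 = 1 := MulEquiv.ext fun x => by rw [pow_three]; exact hthree x
    rcases (Nat.dvd_prime Nat.prime_three).mp (orderOf_dvd_of_pow_eq_one h1) with h | h <;> rw [h] <;> decide
  obtain ⟨v, hv, hvm⟩ : ∃ v ∈ V', ψ v ≠ v := by
    by_contra hno
    push Not at hno
    have hcomm : ∀ w ∈ V, ρ * w = w * ρ := fun w hw => by
      have h1 := congrArg Subtype.val (hno ⟨w, hVT' hw⟩ ((hmV _).mpr hw))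
      rw [hψ] at h1
      exact mul_inv_eq_iff_eq_mul.mp h1
    have hb : ⁅V, Subgroup.zpowers ρ⁆ = ⊥ := by
      rw [Subgroup.commutator_eq_bot_iff_le_centralizer]
      intro w hw
      rw [Subgroup.mem_centralizer_iff]
      rintro _ ⟨i, rfl⟩
      exact ((show Commute ρ w from hcomm w hw).zpow_left i).eq
    have hcV := hV.1
    rw [← hVρ, hb, Subgroup.card_bot] at hcV
    omega
  obtain ⟨hrot, -⟩ := Cfsg.Agent.Invol.NoSCN.rot_of_moved hodd h4.le hmem hsq hv hvm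
  have hcomm : ∀ x : T, ψ (τ x) = τ (ψ x) := fun x => Subtype.ext (by
    rw [hψ, hτ, hτ, hψ, show ρ * (t * (x : G) * t⁻¹) * ρ⁻¹ = (ρ * t) * x * (ρ * t)⁻¹ by group, ← htρ]
    group)
  have hfixed : ∀ x : T, τ x = x ↔ x ∈ V' := by
    intro x
    rw [hmV, ← hCt, Subgroup.mem_inf, Subgroup.mem_centralizer_singleton_iff, Subtype.ext_iff, hτ,
      mul_inv_eq_iff_eq_mul]
    exact ⟨fun h => ⟨x.2, h.symm⟩, fun h => h.2.symm⟩
  have hvc : V' ≤ Subgroup.center T := fun w hw => Subgroup.mem_center_iff.mpr fun g => Subtype.ext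
    (Subgroup.mem_centralizer_iff.mp (Subgroup.mem_inf.mp (hVT hw)).2 (g : G) g.2)
  have hinvol : ∀ x : T, τ (τ x) = x := fun x => Subtype.ext (by
    rw [hτ, hτ, show t * (t * (x : G) * t⁻¹) * t⁻¹ = (t * t) * x * (t * t)⁻¹ by group, htt, one_mul,
      inv_one, mul_one])
  have h : Cfsg.Agent.Invol.SixtyFour.Data ψ τ V' := ⟨hT, hinvol, hcomm, hfixed, hvc, hrot, h4, hthree⟩
  by_cases hab : IsMulCommutative T
  · rcases h.abelian_case hab with ⟨h16, hx⟩ | hh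
    · exact Or.inl ⟨h16, fun x hxT => congrArg Subtype.val (hx ⟨x, hxT⟩)⟩
    · exact Or.inr (Or.inl hh)
  by_cases hu : ∃ u : T, u * u = 1 ∧ u ∉ V'
  · obtain ⟨u, hu2, huV⟩ := hu
    obtain ⟨P₁⟩ := h.linear hab hu2 huV
    refine Or.inr (Or.inr (Or.inl ?_))
    haveI : Fintype (GaloisField 2 2) := Fintype.ofFinite _
    have hF : Fintype.card (GaloisField 2 2) = 4 := by
      rw [← Nat.card_eq_fintype_card, GaloisField.card 2 2 (by norm_num)]; norm_num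
    refine ⟨GaloisField 2 2, inferInstance, inferInstance, hF, fun P => ?_⟩
    obtain ⟨P₂⟩ := Cfsg.Agent.Invol.SixtyFour.linear_pres (F := GaloisField 2 2) hF
    obtain ⟨e⟩ := P₁.nonempty_mulEquiv P₂
    obtain ⟨e'⟩ := Cfsg.Agent.Invol.SixtyFour.sylow_psl P
    exact ⟨e.trans e'⟩
  · push Not at hu
    obtain ⟨P₁⟩ := h.unitary hab hu
    refine Or.inr (Or.inr (Or.inr ?_))
    haveI : Fintype (GaloisField 2 4) := Fintype.ofFinite _
    have hF : Fintype.card (GaloisField 2 4) = 16 := by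
      rw [← Nat.card_eq_fintype_card, GaloisField.card 2 4 (by norm_num)]; norm_num
    haveI : Fact (Fintype.card (GaloisField 2 4) = 4 ^ 2) := ⟨by rw [hF]; norm_num⟩
    refine ⟨GaloisField 2 4, inferInstance, inferInstance, hF, fun P => ?_⟩
    obtain ⟨ψ', hψ'⟩ := Cfsg.Agent.Invol.SixtyFour.unitary_model (F := GaloisField 2 4)
    haveI : Finite (Cfsg.Agent.Recog.SU3Two.UT (GaloisField 2 4) 4) :=
      Nat.finite_of_card_ne_zero (by rw [Cfsg.Agent.Recog.SU3Two.UT.card]; norm_num)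
    obtain ⟨P₂⟩ := Cfsg.Agent.Invol.SixtyFour.exists_pres hψ'
    obtain ⟨e⟩ := P₁.nonempty_mulEquiv P₂
    obtain ⟨e'⟩ := Cfsg.Agent.Recog.SU3Two.sylow_psu (n := 2) (q := 4) rfl (by norm_num) P
    exact ⟨e.trans e'⟩

end Cfsg.Agent.S2933
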