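import Cfsg.Statements.S2939
import Cfsg.Agent.Lib.Invol.SylowControl
-- import your own Cfsg.Agent.* helpers here

set_option autoImplicit false
open Cfsg

namespace Cfsg.Agent.S2939

open scoped Pointwise

/-- A factorised fusing element. -/
def Fct {G : Type*} [Group G] (p : ℕ) (𝓕 : Set (Subgroup G)) (S : Sylow p G) (A : Set G) (w : G) :
    Prop :=
  ∃ (n : ℕ) (Y : Fin n → Subgroup G) (y : Fin n → G),
    (∀ i : Fin n, Y i ∈ Cfsg.sylowMembers p 𝓕 (S : Subgroup G) ∧ y i ∈ Y i) ∧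
      (List.ofFn y).prod = w ∧
      ∀ i : Fin n, Cfsg.conjRight (((List.ofFn y).take (i.val + 1)).prod) A ⊆ (S : Set G) ∩ (Y i : Set G)

theorem Fct.snoc {G : Type*} [Group G] {p : ℕ} {𝓕 : Set (Subgroup G)} {S : Sylow p G} {A : Set G}
    {w : G} (h : Fct p 𝓕 S A w) {Y' : Subgroup G} {y' : G}
    (hY : Y' ∈ Cfsg.sylowMembers p 𝓕 (S : Subgroup G)) (hy : y' ∈ Y')
    (hA : Cfsg.conjRight (w * y') A ⊆ (S : Set G) ∩ (Y' : Set G)) : Fct p 𝓕 S A (w * y') := by
  obtain ⟨n, Y, y, h1, h2, h3⟩ := h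
  have hl : List.ofFn (Fin.snoc y y' : Fin (n + 1) → G) = List.ofFn y ++ [y'] := by
    rw [List.ofFn_succ', List.concat_eq_append]
    simp
  refine ⟨n + 1, Fin.snoc Y Y', Fin.snoc y y', fun i => ?_, ?_, fun i => ?_⟩
  · refine Fin.lastCases ?_ (fun i => ?_) i
    · simpa only [Fin.snoc_last] using And.intro hY hy
    · simpa only [Fin.snoc_castSucc] using h1 i
  · rw [hl, List.prod_append, List.prod_singleton, h2]
  · rw [hl]
    refine Fin.lastCases ?_ (fun i => ?_) i
    · rw [Fin.snoc_last, Fin.val_last, List.take_of_length_le (by simp), List.prod_append,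
        List.prod_singleton, h2]
      exact hA
    · rw [Fin.snoc_castSucc, Fin.val_castSucc, List.take_append_of_le_length (by simp)]
      exact h3 i

/-- Let p be a prime dividing the order of the finite group G and 𝓕 a family of subgroups of G closed under conjugation, with conjugates taken as X^g = g⁻¹Xg. Then 𝓕 controls Sylow p-intersections in G (any two distinct Sylow p-subgroups S and T with S ∩ T ≠ 1 are joined by a chain S = S₀, S₁, …, Sₙ = T of Sylow p-subgroups where, for each i, some member Xᵢ of 𝓕 meets both S_{i-1} and Sᵢ in Sylow p-subgroups of Xᵢ, satisfies S ∩ T ≤ Sᵢ ∩ Xᵢ, and contains an element xᵢ with Sᵢ^{xᵢ} = S_{i-1}) if and only if 𝓕 strongly controls p-fusion in G (whenever A is a subset of a Sylow p-subgroup S, A contains an element other than 1, and A^g ⊆ S, the element g factorises as g = y₁⋯yₙy with y ∈ N_G(S) and each yᵢ in a member Yᵢ of 𝓕 that meets S in a Sylow p-subgroup of Yᵢ, with A^{y₁⋯yᵢ} ⊆ S ∩ Yᵢ for each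 i). -/
theorem result {G : Type*} [Group G] [Finite G] {p : ℕ} [Fact p.Prime] (hdiv : p ∣ Nat.card G) (𝓕 : Set (Subgroup G)) (h𝓕 : Cfsg.IsNormalSet 𝓕) : Cfsg.ControlsSylowIntersections p 𝓕 ↔ Cfsg.FamilyStronglyControlsFusion p 𝓕 := by
  classical
  constructor
  · intro hc S A g hA hne hAg
    rw [Cfsg.Agent.Invol.controls_iff] at hc
    obtain ⟨a₀, ha₀, ha₁⟩ := hne
    set T := g • S with hT
    have hAT : ∀ a ∈ A, a ∈ (T : Subgroup G) := fun a ha =>
      Cfsg.Agent.Invol.mem_smul_sylow.mpr (hAg ⟨a, ha, rfl⟩)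
    rcases eq_or_ne S T with hST | hST
    · exact ⟨0, Fin.elim0, Fin.elim0, g, Sylow.smul_eq_iff_mem_normalizer.mp hST.symm,
        fun i => i.elim0, by simp, fun i => i.elim0⟩
    have hD : (S : Subgroup G) ⊓ (T : Subgroup G) ≠ ⊥ := fun e =>
      ha₁ (Subgroup.mem_bot.mp (e.le ⟨hA ha₀, hAT a₀ ha₀⟩))
    have key : ∀ U, Relation.ReflTransGen (Cfsg.Agent.Invol.CtrlStep p 𝓕
        ((S : Subgroup G) ⊓ (T : Subgroup G))) S U → ∃ w : G, w • S = U ∧ Fct p 𝓕 S A w := by
      intro U hU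
      induction hU with
      | refl => exact ⟨1, one_smul _ _, 0, Fin.elim0, Fin.elim0, fun i => i.elim0, by simp, fun i => i.elim0⟩
      | @tail U V _ hstep ih =>
        obtain ⟨w, rfl, hw⟩ := ih
        obtain ⟨X, x, hx, hXU, -, rfl, hle⟩ := hstep
        refine ⟨x * w, mul_smul _ _ _, ?_⟩
        rw [show x * w = w * (w⁻¹ * x * w) by group]
        refine hw.snoc (Y' := X.map (MulAut.conj w⁻¹).toMonoidHom) ?_ ?_ ?_
        · simpa using Cfsg.Agent.Invol.sylowMembers_conj h𝓕 hXU w⁻¹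
        · exact ⟨x, hx, by simp⟩
        · rintro _ ⟨a, ha, rfl⟩
          obtain ⟨haV, haX⟩ := Subgroup.mem_inf.mp (hle ⟨hA ha, hAT a ha⟩)
          refine ⟨?_, ⟨x⁻¹ * a * x, mul_mem (mul_mem (inv_mem hx) haX) hx, by simp [mul_assoc]⟩⟩
          have h := Cfsg.Agent.Invol.mem_smul_sylow.mp
            (Cfsg.Agent.Invol.mem_smul_sylow.mp haV)
          show (w * (w⁻¹ * x * w))⁻¹ * a * (w * (w⁻¹ * x * w)) ∈ (S : Subgroup G)
          simpa [mul_assoc] using h
    obtain ⟨w, hw, n, Y, y, h1, h2, h3⟩ := key T (hc S T hST hD)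
    refine ⟨n, Y, y, w⁻¹ * g, ?_, h1, by rw [h2, mul_inv_cancel_left], h3⟩
    exact Sylow.smul_eq_iff_mem_normalizer.mp (by rw [mul_smul, ← hT, ← hw, inv_smul_smul])
  · intro hf
    rw [Cfsg.Agent.Invol.controls_iff]
    intro S T hST hD
    obtain ⟨g, rfl⟩ := MulAction.exists_smul_eq G S T
    set D := (S : Subgroup G) ⊓ ((g • S : Sylow p G) : Subgroup G) with hDdef
    obtain ⟨a₀, ha₀, ha₁⟩ := (Subgroup.ne_bot_iff_exists_ne_one.mp hD) |> fun ⟨⟨a, ha⟩, h⟩ =>
      (⟨a, ha, fun e => h (Subtype.ext e)⟩ : ∃ a ∈ D, a ≠ 1)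
    obtain ⟨n, Y, y, y₀, hy₀, hY, hg, hpre⟩ := hf S (D : Set G) g (fun a ha => (show a ∈ D from ha).1)
      ⟨a₀, ha₀, ha₁⟩ (by rintro _ ⟨a, ha, rfl⟩; exact Cfsg.Agent.Invol.mem_smul_sylow.mp (show a ∈ D from ha).2)
    let c : Fin (n + 1) → Sylow p G := fun j => ((List.ofFn y).take j.val).prod • S
    have hstep : ∀ i : Fin n, Cfsg.Agent.Invol.CtrlStep p 𝓕 D (c i.castSucc) (c i.succ) := by
      intro i
      set w := ((List.ofFn y).take i.val).prod with hw
      have hsucc : c i.succ = (w * y i) • S := by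
        simp only [c, Fin.val_succ, Cfsg.Agent.Invol.prod_take_succ, ← hw]
      refine ⟨(Y i).map (MulAut.conj w).toMonoidHom, w * y i * w⁻¹, ⟨y i, (hY i).2, by simp⟩, ?_, ?_, ?_, ?_⟩
      · exact Cfsg.Agent.Invol.sylowMembers_conj h𝓕 (hY i).1 w
      · rw [hsucc]
        have h := Cfsg.Agent.Invol.sylowMembers_conj h𝓕 (hY i).1 (w * y i)
        convert h using 1
        ext a
        simp only [Subgroup.mem_map, MulEquiv.coe_toMonoidHom, MulAut.conj_apply]
        constructor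
        · rintro ⟨b, hb, rfl⟩
          exact ⟨(y i)⁻¹ * b * y i, mul_mem (mul_mem (inv_mem (hY i).2) hb) (hY i).2, by group⟩
        · rintro ⟨b, hb, rfl⟩
          exact ⟨y i * b * (y i)⁻¹, mul_mem (mul_mem (hY i).2 hb) (inv_mem (hY i).2), by group⟩
      · rw [hsucc]
        show (w * y i * w⁻¹) • (w • S) = _
        rw [← mul_smul, inv_mul_cancel_right]
      · intro a ha
        have h := hpre i ⟨a, ha, rfl⟩
        rw [Cfsg.Agent.Invol.prod_take_succ, ← hw] at h
        refine ⟨?_, ⟨y i * ((w * y i)⁻¹ * a * (w * y i)) * (y i)⁻¹,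
          mul_mem (mul_mem (hY i).2 h.2) (inv_mem (hY i).2), by simp [mul_assoc]⟩⟩
        rw [hsucc]
        exact Cfsg.Agent.Invol.mem_smul_sylow.mpr h.1
    have h := Cfsg.Agent.Invol.reflTransGen_of_fin_chain hstep (Fin.last n)
    have hlast : c (Fin.last n) = g • S := by
      simp only [c, Fin.val_last]
      rw [List.take_of_length_le (by simp), hg, mul_smul, Sylow.smul_eq_iff_mem_normalizer.mpr hy₀]
    rw [hlast] at h
    simpa [c] using h

end Cfsg.Agent.S2939
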