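import Cfsg.Statements.S2940
import Cfsg.Agent.Lib.Invol.SylowControl
-- import your own Cfsg.Agent.* helpers here

set_option autoImplicit false
open Cfsg

namespace Cfsg.Agent.S2940

open scoped Pointwise

/-- Let S be a Sylow p-subgroup of the finite group G and G₁, G₂ subgroups containing S with G = G₁G₂. Then for every g ∈ G there is a Sylow p-subgroup U of G with S ∩ S^g ≤ U ≤ G₁ ∩ G₂^g (conjugates taken as X^g = g⁻¹Xg). -/
theorem result {G : Type*} [Group G] [Finite G] {p : ℕ} [Fact p.Prime] (S : Sylow p G) (G₁ G₂ : Subgroup G) (h1 : (S : Subgroup G) ≤ G₁) (h2 : (S : Subgroup G) ≤ G₂) (hfact : ∀ g : G, ∃ g₁ ∈ G₁, ∃ g₂ ∈ G₂, g = g₁ * g₂) (g : G) : ∃ U : Sylow p G, (S : Subgroup G) ⊓ Cfsg.subgroupConjRight g (S : Subgroup G) ≤ (U : Subgroup G) ∧ (U : Subgroup G) ≤ G₁ ⊓ Cfsg.subgroupConjRight g G₂ := by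
  classical
  obtain ⟨a, ha, b, hb, he⟩ := hfact g⁻¹
  set K := G₁ ⊓ Cfsg.subgroupConjRight g G₂ with hK
  have hSa : ((a • S : Sylow p G) : Subgroup G) ≤ K := by
    intro x hx
    rw [Cfsg.Agent.Invol.mem_smul_sylow] at hx
    refine Subgroup.mem_inf.mpr ⟨?_, Cfsg.Agent.Invol.mem_conjRightSubgroup.mpr ?_⟩
    · rw [show x = a * (a⁻¹ * x * a) * a⁻¹ by group]
      exact mul_mem (mul_mem ha (h1 hx)) (inv_mem ha)
    · rw [← inv_inv g, he, show (a * b)⁻¹ * x * (a * b)⁻¹⁻¹ = b⁻¹ * (a⁻¹ * x * a) * b by group]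
      exact mul_mem (mul_mem (inv_mem hb) (h2 hx)) hb
  set D := (S : Subgroup G) ⊓ Cfsg.subgroupConjRight g (S : Subgroup G) with hD
  have hDK : D ≤ K := le_inf (inf_le_left.trans h1) (inf_le_right.trans (Subgroup.map_mono h2))
  have hDp : IsPGroup p ↥(D.subgroupOf K) :=
    (S.isPGroup'.to_le (inf_le_left : D ≤ _)).of_equiv (Subgroup.subgroupOfEquivOfLe hDK).symm
  obtain ⟨Q, hQ⟩ := hDp.exists_le_sylow
  obtain ⟨k, hk⟩ := MulAction.exists_smul_eq ↥K ((a • S : Sylow p G).subtype hSa) Q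
  refine ⟨(k : G) • (a • S), fun x hx => ?_, fun x hx => ?_⟩
  · have h3 : (⟨x, hDK hx⟩ : K) ∈ Q := hQ (show x ∈ D from hx)
    rw [← hk] at h3
    change (⟨x, hDK hx⟩ : K) ∈ ((k • (a • S : Sylow p G).subtype hSa : Sylow p K) : Subgroup K) at h3
    rw [Cfsg.Agent.Invol.mem_smul_sylow] at h3 ⊢
    exact h3
  · rw [Cfsg.Agent.Invol.mem_smul_sylow] at hx
    rw [show x = (k : G) * ((k : G)⁻¹ * x * k) * (k : G)⁻¹ by group]
    exact mul_mem (mul_mem k.2 (hSa hx)) (inv_mem k.2)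

end Cfsg.Agent.S2940
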