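import Cfsg.Statements.S2955
import Cfsg.Agent.Lib.Invol.SylowControl
-- import your own Cfsg.Agent.* helpers here

set_option autoImplicit false
open Cfsg

namespace Cfsg.Agent.S2955

open scoped Pointwise

/-- Let p be a prime dividing the order of the finite group G and 𝓕 a conjugation-closed family of subgroups that controls Sylow p-intersections in G. Suppose the Sylow p-subgroups of G are chain-connected: any two of them are joined by a chain of Sylow p-subgroups, consecutive ones distinct with nontrivial intersection, all containing the intersection of the two ends (equivalently, the graph on the Sylow p-subgroups whose edges are the distinct pairs meeting nontrivially is connected). Then for every Sylow p-subgroup S, G is generated by N_G(S) together with the members of 𝓕 that meet S in a Sylow p-subgroup of themselves. -/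
theorem result {G : Type*} [Group G] [Finite G] (p : ℕ) [Fact p.Prime] (hdiv : p ∣ Nat.card G)
    (𝓕 : Set (Subgroup G)) (h𝓕 : Cfsg.IsNormalSet 𝓕) (hc : Cfsg.ControlsSylowIntersections p 𝓕)
    (hconn : Cfsg.IsSylowChainConnected p G) (S : Sylow p G) :
    (⨆ X ∈ Cfsg.sylowMembers p 𝓕 (S : Subgroup G), X) ⊔ Subgroup.normalizer ((S : Subgroup G) : Set G) = ⊤ := by
  classical
  set H := (⨆ X ∈ Cfsg.sylowMembers p 𝓕 (S : Subgroup G), X) ⊔
    Subgroup.normalizer ((S : Subgroup G) : Set G) with hH
  have hstep : ∀ D U V, Cfsg.Agent.Invol.CtrlStep p 𝓕 D U V → (∃ h ∈ H, h • S = U) → ∃ h ∈ H, h • S = V := by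
    rintro D U V ⟨X, x, hx, hXU, -, rfl, -⟩ ⟨h, hh, rfl⟩
    refine ⟨x * h, mul_mem ?_ hh, mul_smul _ _ _⟩
    have h1 : X.map (MulAut.conj h⁻¹).toMonoidHom ∈ Cfsg.sylowMembers p 𝓕 (S : Subgroup G) := by
      simpa using Cfsg.Agent.Invol.sylowMembers_conj h𝓕 hXU h⁻¹
    have h2 : h⁻¹ * x * h⁻¹⁻¹ ∈ H :=
      Subgroup.mem_sup_left (le_iSup₂ (f := fun (Y : Subgroup G) (_ : Y ∈ Cfsg.sylowMembers p 𝓕 (S : Subgroup G)) => Y) _ h1 ⟨x, hx, rfl⟩)
    rw [show x = h * (h⁻¹ * x * h⁻¹⁻¹) * h⁻¹ by group]
    exact mul_mem (mul_mem hh h2) (inv_mem hh)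
  refine (Subgroup.eq_top_iff' H).mpr fun g => ?_
  obtain ⟨h, hh, he⟩ : ∃ h ∈ H, h • S = g • S := by
    obtain ⟨n, c, h0, hl, -, hc'⟩ := hconn S (g • S)
    have hall : ∀ i : Fin (n + 1), ∃ h ∈ H, h • S = c i := by
      intro i
      induction i using Fin.induction with
      | zero => exact ⟨1, one_mem H, by rw [one_smul, h0]⟩
      | succ i ih =>
        have hchain := (Cfsg.Agent.Invol.controls_iff.mp hc) _ _ (hc' i).1 (hc' i).2
        generalize c i.succ = V at hchain ⊢
        generalize hD : (c i.castSucc : Subgroup G) ⊓ _ = D at hchain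
        clear hD
        induction hchain with
        | refl => exact ih
        | tail _ hs ih' => exact hstep _ _ _ hs ih'
    exact hl ▸ hall (Fin.last n)
  rw [show g = h * (h⁻¹ * g) by group]
  refine mul_mem hh (Subgroup.mem_sup_right ?_)
  exact Sylow.smul_eq_iff_mem_normalizer.mp (by rw [mul_smul, ← he, inv_smul_smul])

end Cfsg.Agent.S2955
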