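import Cfsg.Statements.S2956
import Cfsg.Agent.Lib.Invol.SylowControl
-- import your own Cfsg.Agent.* helpers here

set_option autoImplicit false
open Cfsg

namespace Cfsg.Agent.S2956

open scoped Pointwise

variable {G : Type*} [Group G] [Finite G] {p : ℕ} [Fact p.Prime]

/-- `V` meets `M` in a Sylow subgroup of `M`. -/
def SylIn (M : Subgroup G) (V : Sylow p G) : Prop :=
  ¬ p ∣ ((V : Subgroup G) ⊓ M).relIndex M

/-- The order of a Sylow `p`-subgroup of `M`. -/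
noncomputable def pp (p : ℕ) (M : Subgroup G) : ℕ := p ^ (Nat.card M).factorization p

theorem sylIn_card {M : Subgroup G} {V : Sylow p G} (h : SylIn M V) :
    Nat.card ↥((V : Subgroup G) ⊓ M) = pp p M := by
  have hp : IsPGroup p ↥(((V : Subgroup G) ⊓ M).subgroupOf M) :=
    (V.isPGroup'.to_le (inf_le_left : (V : Subgroup G) ⊓ M ≤ _)).of_equiv
      (Subgroup.subgroupOfEquivOfLe inf_le_right).symm
  rw [pp, ← Sylow.card_eq_multiplicity (hp.toSylow h)]
  exact (Nat.card_congr (Subgroup.subgroupOfEquivOfLe inf_le_right).toEquiv).symm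

theorem pp_mono {M M' : Subgroup G} (h : M ≤ M') : pp p M ≤ pp p M' :=
  Nat.pow_le_pow_right (Fact.out : p.Prime).pos
    ((Nat.factorization_le_iff_dvd Nat.card_pos.ne' Nat.card_pos.ne').mpr (Subgroup.card_dvd_of_le h) p)

theorem card_sylow_eq (V : Sylow p G) : Nat.card V = pp p (⊤ : Subgroup G) := by
  rw [pp, Subgroup.card_top, Sylow.card_eq_multiplicity]

theorem card_le_pp {M : Subgroup G} {Q : Subgroup G} (hQ : IsPGroup p Q) (h : Q ≤ M) :
    Nat.card Q ≤ pp p M := by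
  obtain ⟨k, hk⟩ := hQ.exists_card_eq
  rw [hk, pp]
  refine Nat.pow_le_pow_right (Fact.out : p.Prime).pos ?_
  exact ((Fact.out : p.Prime).pow_dvd_iff_le_factorization Nat.card_pos.ne').mp
    (hk ▸ Subgroup.card_dvd_of_le h)

theorem exists_sylIn {M Q : Subgroup G} (hQ : IsPGroup p Q) (h : Q ≤ M) :
    ∃ V : Sylow p G, Q ≤ (V : Subgroup G) ∧ SylIn M V := by
  obtain ⟨U, hU⟩ := (hQ.of_equiv (Subgroup.subgroupOfEquivOfLe h).symm).exists_le_sylow
  obtain ⟨V, hV⟩ := (U.isPGroup'.map M.subtype).exists_le_sylow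
  refine ⟨V, fun x hx => hV ⟨⟨x, h hx⟩, hU hx, rfl⟩, fun hd => U.not_dvd_index ?_⟩
  refine hd.trans ?_
  rw [Subgroup.relIndex]
  exact Subgroup.index_dvd_of_le fun x hx => ⟨hV ⟨x, hx, rfl⟩, x.2⟩

theorem sylIn_smul {M : Subgroup G} {V : Sylow p G} (h : SylIn M V) {x : G} (hx : x ∈ M) :
    SylIn M (x • V) := by
  have e : ((x • V : Sylow p G) : Subgroup G) = (V : Subgroup G).map (MulAut.conj x).toMonoidHom := by
    rw [Sylow.coe_subgroup_smul]; rfl
  have eM : M.map (MulAut.conj x).toMonoidHom = M := by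
    ext a
    constructor
    · rintro ⟨b, hb, rfl⟩; exact mul_mem (mul_mem hx hb) (inv_mem hx)
    · intro ha
      exact ⟨x⁻¹ * a * x, mul_mem (mul_mem (inv_mem hx) ha) hx, by simp [mul_assoc]⟩
  unfold SylIn
  rw [e]
  nth_rw 1 [← eM]
  nth_rw 2 [← eM]
  rw [← Subgroup.map_inf _ _ _ (MulAut.conj x).injective,
    Subgroup.relIndex_map_map_of_injective _ _ (MulAut.conj x).injective]
  exact h

/-- The step through the heart of the argument. -/
theorem local_step (f : Subgroup G → Set (Subgroup G)) (hf : Cfsg.IsNormalizerFunctor p f)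
    (hf1 : ∀ P : Subgroup G, IsPGroup p ↥P → P ≠ ⊥ → ∀ F ∈ f P, F ≠ ⊥)
    (𝓖 : Set (Subgroup G))
    (h𝓕 : ∀ P : Sylow p G, ∀ F ∈ f (P : Subgroup G), Subgroup.normalizer (F : Set G) ∈ 𝓖)
    (h𝓕' : ∀ M, Cfsg.IsMaximalPLocal p M → ¬ Cfsg.IsFunctorRegular p f M → M ∈ 𝓖)
    (D : Subgroup G) (hD : D ≠ ⊥)
    (hIH : ∀ V W : Sylow p G, Nat.card D < Nat.card ↥((V : Subgroup G) ⊓ (W : Subgroup G)) →
      D ≤ (V : Subgroup G) ⊓ (W : Subgroup G) →
      Relation.ReflTransGen (Cfsg.Agent.Invol.CtrlStep p 𝓖 D) V W) :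
    ∀ (k : ℕ) (M : Subgroup G), pp p (⊤ : Subgroup G) - pp p M = k → Cfsg.IsPLocal p M →
      Nat.card D < pp p M → ∀ V₁ V₂ : Sylow p G, SylIn M V₁ → SylIn M V₂ →
      D ≤ (V₁ : Subgroup G) ⊓ M → D ≤ (V₂ : Subgroup G) ⊓ M →
      Relation.ReflTransGen (Cfsg.Agent.Invol.CtrlStep p 𝓖 D) V₁ V₂ := by
  intro k
  induction k using Nat.strong_induction_on with
  | _ k ihk =>
  intro M₀ hk hM₀ hDM₀ V₁₀ V₂₀ hV₁₀ hV₂₀ hD₁₀ hD₂₀
  -- common intersections bigger than `D`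
  have hbig : ∀ (N : Subgroup G) (V W : Sylow p G) (U : Subgroup G), U ≤ (V : Subgroup G) →
      U ≤ (W : Subgroup G) → D ≤ U → Nat.card D < Nat.card U →
      Relation.ReflTransGen (Cfsg.Agent.Invol.CtrlStep p 𝓖 D) V W := fun _ V W U hV hW hDU hlt =>
    hIH V W (lt_of_lt_of_le hlt (Subgroup.card_le_of_le (le_inf hV hW))) (hDU.trans (le_inf hV hW))
  obtain ⟨M, hM₀M, hMmax⟩ : ∃ M, M₀ ≤ M ∧ Cfsg.IsMaximalPLocal p M := by
    obtain ⟨M, ⟨hM, hle⟩, hmax⟩ := Set.exists_max_image {M : Subgroup G | Cfsg.IsPLocal p M ∧ M₀ ≤ M}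
      (fun M : Subgroup G => Nat.card M) (Set.toFinite _) ⟨M₀, hM₀, le_rfl⟩
    exact ⟨M, hle, hM, fun N hN hMN =>
      (Subgroup.eq_of_le_of_card_ge hMN (hmax N ⟨hN, hle.trans hMN⟩)).symm⟩
  have hkM : pp p (⊤ : Subgroup G) - pp p M ≤ k := hk ▸ Nat.sub_le_sub_left (pp_mono hM₀M) _
  have hDM : Nat.card D < pp p M := lt_of_lt_of_le hDM₀ (pp_mono hM₀M)
  obtain ⟨V₁, hV₁, hS₁⟩ := exists_sylIn (p := p) (M := M)
    (V₁₀.isPGroup'.to_le (inf_le_left : (V₁₀ : Subgroup G) ⊓ M₀ ≤ _)) (inf_le_right.trans hM₀M)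
  obtain ⟨V₂, hV₂, hS₂⟩ := exists_sylIn (p := p) (M := M)
    (V₂₀.isPGroup'.to_le (inf_le_left : (V₂₀ : Subgroup G) ⊓ M₀ ≤ _)) (inf_le_right.trans hM₀M)
  have hD₁ : D ≤ (V₁ : Subgroup G) ⊓ M := le_inf (hD₁₀.trans hV₁) ((hD₁₀.trans inf_le_right).trans hM₀M)
  have hD₂ : D ≤ (V₂ : Subgroup G) ⊓ M := le_inf (hD₂₀.trans hV₂) ((hD₂₀.trans inf_le_right).trans hM₀M)
  refine (hbig M V₁₀ V₁ _ inf_le_left hV₁ hD₁₀ (by rwa [sylIn_card hV₁₀])).trans
    (Relation.ReflTransGen.trans ?_ (hbig M V₂ V₂₀ _ hV₂ inf_le_left hD₂₀ (by rwa [sylIn_card hV₂₀])))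
  -- the Sylow subgroups of `M`
  have hp₁ : IsPGroup p ↥(((V₁ : Subgroup G) ⊓ M).subgroupOf M) :=
    (V₁.isPGroup'.to_le (inf_le_left : (V₁ : Subgroup G) ⊓ M ≤ _)).of_equiv
      (Subgroup.subgroupOfEquivOfLe inf_le_right).symm
  have hp₂ : IsPGroup p ↥(((V₂ : Subgroup G) ⊓ M).subgroupOf M) :=
    (V₂.isPGroup'.to_le (inf_le_left : (V₂ : Subgroup G) ⊓ M ≤ _)).of_equiv
      (Subgroup.subgroupOfEquivOfLe inf_le_right).symm
  set U₁ : Sylow p M := hp₁.toSylow hS₁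
  set U₂ : Sylow p M := hp₂.toSylow hS₂
  have hU₁ : (U₁ : Subgroup M).map M.subtype = (V₁ : Subgroup G) ⊓ M :=
    Subgroup.map_subgroupOf_eq_of_le inf_le_right
  have hU₂ : (U₂ : Subgroup M).map M.subtype = (V₂ : Subgroup G) ⊓ M :=
    Subgroup.map_subgroupOf_eq_of_le inf_le_right
  rcases eq_or_ne U₁ U₂ with hUU | hUU
  · refine hbig M V₁ V₂ ((V₁ : Subgroup G) ⊓ M) inf_le_left ?_ hD₁ (by rwa [sylIn_card hS₁])
    rw [← hU₁, hUU, hU₂]
    exact inf_le_left
  by_cases hreg : Cfsg.IsFunctorRegular p f M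
  swap
  · obtain ⟨m, hm⟩ := MulAction.exists_smul_eq M U₁ U₂
    have hmem : ∀ V : Sylow p G, SylIn M V → M ∈ Cfsg.sylowMembers p 𝓖 (V : Subgroup G) := fun V hV =>
      (Cfsg.Agent.Invol.sylowMembers_iff V).mpr ⟨h𝓕' M hMmax hreg, hV⟩
    have hle : (V₂ : Subgroup G) ⊓ M ≤ (((m : G) • V₁ : Sylow p G) : Subgroup G) := by
      rw [← hU₂]
      rintro _ ⟨y, hy, rfl⟩
      rw [← hm] at hy
      have h := Cfsg.Agent.Invol.mem_smul_sylow.mp hy
      exact Cfsg.Agent.Invol.mem_smul_sylow.mpr (Subgroup.mem_inf.mp (hU₁.le ⟨_, h, rfl⟩)).1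
    refine (Relation.ReflTransGen.single ⟨M, m, m.2, hmem _ hS₁, hmem _ (sylIn_smul hS₁ m.2), rfl,
      le_inf (hD₂.trans hle) (hD₂.trans inf_le_right)⟩).trans ?_
    exact hbig M _ V₂ _ hle inf_le_left hD₂ (by rwa [sylIn_card hS₂])
  -- the regular case
  have hne : (U₁ : Subgroup M) ⊓ (U₂ : Subgroup M) ≠ ⊥ := by
    intro e
    refine hD (eq_bot_iff.mpr fun d hd => ?_)
    have h1 : (⟨d, (hD₁ hd).2⟩ : M) ∈ (U₁ : Subgroup M) ⊓ (U₂ : Subgroup M) := ⟨hD₁ hd, hD₂ hd⟩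
    rw [e] at h1
    exact congrArg Subtype.val (Subgroup.mem_bot.mp h1)
  have hchain := (Cfsg.Agent.Invol.controls_iff.mp hreg) U₁ U₂ hUU hne
  have hcard : ∀ U : Sylow p M, Nat.card ↥((U : Subgroup M).map M.subtype) = pp p M := by
    intro U
    rw [Subgroup.card_map_of_injective M.subtype_injective, Sylow.card_eq_multiplicity U, pp]
  suffices key : ∀ U : Sylow p M, Relation.ReflTransGen (Cfsg.Agent.Invol.CtrlStep p
      ((fun X : Subgroup G => X.subgroupOf M) '' Cfsg.functorFamily p f M)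
      ((U₁ : Subgroup M) ⊓ (U₂ : Subgroup M))) U₁ U →
    D ≤ (U : Subgroup M).map M.subtype ∧ ∀ W : Sylow p G, (U : Subgroup M).map M.subtype ≤ (W : Subgroup G) →
      Relation.ReflTransGen (Cfsg.Agent.Invol.CtrlStep p 𝓖 D) V₁ W from
    (key U₂ hchain).2 V₂ (hU₂.le.trans inf_le_left)
  intro U hU
  induction hU with
  | refl =>
    refine ⟨hU₁ ▸ hD₁, fun W hW => hbig M V₁ W _ (hU₁.le.trans inf_le_left) hW (hU₁ ▸ hD₁) ?_⟩
    rwa [hcard]
  | @tail U U' _ hs ih =>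
    obtain ⟨hDU, ih⟩ := ih
    obtain ⟨X₀, x, hx, hXU, hXU', hxU, hle'⟩ := hs
    obtain ⟨X, ⟨P, F, hF, rfl⟩, rfl⟩ := hXU.1
    set P' := (P : Subgroup M).map M.subtype with hP'
    have hP'p : IsPGroup p P' := P.isPGroup'.map _
    have hP'ne : P' ≠ ⊥ := by
      intro e
      have h := hcard P
      rw [← hP', e, Subgroup.card_bot] at h
      have := Nat.card_pos (α := D)
      omega
    obtain ⟨hFP, hFN⟩ := (hf P' hP'p).1 F hF
    set N := Subgroup.normalizer (F : Set G) with hN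
    have hPX : P' ≤ M ⊓ N := le_inf (Subgroup.map_subtype_le _) (Subgroup.le_normalizer.trans hFN)
    have hmem : ∀ U : Sylow p M,
        ¬ p ∣ ((U : Subgroup M) ⊓ (M ⊓ N).subgroupOf M).relIndex ((M ⊓ N).subgroupOf M) →
        (U : Subgroup M).map M.subtype ≤ N := by
      intro U hU
      set Y := M ⊓ N with hY
      set W := (U : Subgroup M).map M.subtype with hW
      have h1 : (W ⊓ Y).relIndex Y =
          ((U : Subgroup M) ⊓ Y.subgroupOf M).relIndex (Y.subgroupOf M) := by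
        rw [← Subgroup.relIndex_map_map_of_injective (f := M.subtype) _ _ M.subtype_injective,
          Subgroup.map_inf _ _ _ M.subtype_injective, Subgroup.map_subgroupOf_eq_of_le inf_le_left]
      have hdvd : Nat.card P' ∣ Nat.card ↥(W ⊓ Y) := by
        have h2 : Nat.card ↥(W ⊓ Y) * (W ⊓ Y).relIndex Y = Nat.card Y := by
          rw [← Subgroup.card_mul_index ((W ⊓ Y).subgroupOf Y),
            Nat.card_congr (Subgroup.subgroupOfEquivOfLe inf_le_right).toEquiv]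
          rfl
        obtain ⟨j, hj⟩ := hP'p.exists_card_eq
        refine Nat.Coprime.dvd_of_dvd_mul_right ?_ (h2 ▸ Subgroup.card_dvd_of_le hPX)
        rw [hj]
        exact Nat.Coprime.pow_left j ((Fact.out : p.Prime).coprime_iff_not_dvd.mpr (h1 ▸ hU))
      have h3 := Subgroup.eq_of_le_of_card_ge (inf_le_left : W ⊓ Y ≤ W) (by
        rw [hW, hcard U, ← hcard P]
        exact Nat.le_of_dvd Nat.card_pos hdvd)
      exact (inf_eq_left.mp h3).trans inf_le_right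
    have hN1 := hmem U ((Cfsg.Agent.Invol.sylowMembers_iff U).mp hXU).2
    have hN2 := hmem U' ((Cfsg.Agent.Invol.sylowMembers_iff U').mp hXU').2
    have hxN : (x : G) ∈ N := (show (x : G) ∈ M ⊓ N from hx).2
    have hDU' : D ≤ (U' : Subgroup M).map M.subtype := fun d hd =>
      ⟨⟨d, (hD₁ hd).2⟩, (hle' ⟨hD₁ hd, hD₂ hd⟩).1, rfl⟩
    have hxmap : ∀ Z : Sylow p G, (U : Subgroup M).map M.subtype ≤ (Z : Subgroup G) →
        (U' : Subgroup M).map M.subtype ≤ (((x : G) • Z : Sylow p G) : Subgroup G) := by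
      rintro Z hZ _ ⟨y, hy, rfl⟩
      rw [← hxU] at hy
      exact Cfsg.Agent.Invol.mem_smul_sylow.mpr
        (hZ ⟨x⁻¹ * y * x, Cfsg.Agent.Invol.mem_smul_sylow.mp hy, rfl⟩)
    refine ⟨hDU', fun W hW => ?_⟩
    obtain ⟨Z, hUZ, hZ⟩ := exists_sylIn (p := p) (M := N) (U.isPGroup'.map M.subtype) hN1
    refine (ih Z hUZ).trans (Relation.ReflTransGen.trans ?_ (hbig M ((x : G) • Z) W _ (hxmap Z hUZ) hW hDU'
      (by rwa [hcard])))
    rcases eq_or_ne (pp p M) (pp p (⊤ : Subgroup G)) with heq | hlt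
    · -- `P` is Sylow in `G`
      obtain ⟨R, hR⟩ := hP'p.exists_le_sylow
      have hPR : P' = (R : Subgroup G) := Subgroup.eq_of_le_of_card_ge hR (by
        rw [hcard P, heq, ← card_sylow_eq R])
      have hNmem : N ∈ 𝓖 := h𝓕 R F (hPR ▸ hF)
      refine Relation.ReflTransGen.single ⟨N, x, hxN,
        (Cfsg.Agent.Invol.sylowMembers_iff _).mpr ⟨hNmem, hZ⟩,
        (Cfsg.Agent.Invol.sylowMembers_iff _).mpr ⟨hNmem, sylIn_smul hZ hxN⟩, rfl,
        le_inf (hDU'.trans (hxmap Z hUZ)) (hDU'.trans hN2)⟩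
    · have hloc : Cfsg.IsPLocal p N :=
        ⟨F, hP'p.to_le hFP, hf1 P' hP'p hP'ne F hF, rfl⟩
      have hbigN : pp p M < pp p N := by
        obtain ⟨R, hR⟩ := hP'p.exists_le_sylow
        have hPR : P' < (R : Subgroup G) := lt_of_le_of_ne hR fun e => hlt (by
          rw [← card_sylow_eq R, ← hcard P, ← hP', e])
        have := R.isPGroup'.isNilpotent
        obtain ⟨y, hy, hyP⟩ := SetLike.exists_of_lt (Group.normalizerCondition_of_isNilpotent
          (P'.subgroupOf (R : Subgroup G)) (lt_top_iff_ne_top.mpr fun e =>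
            hPR.not_ge (Subgroup.subgroupOf_eq_top.mp e)))
        have hyN : (y : G) ∈ Subgroup.normalizer (P' : Set G) := by
          refine Subgroup.mem_normalizer_fintype fun q hq => ?_
          exact (Subgroup.mem_normalizer_iff.mp hy ⟨q, hR hq⟩).mp hq
        have hlt' : P' < (R : Subgroup G) ⊓ N :=
          lt_of_le_of_ne (le_inf hR (hPX.trans inf_le_right)) fun e => hyP (e.ge ⟨y.2, hFN hyN⟩)
        calc pp p M = Nat.card P' := (hcard P).symm
          _ < Nat.card ↥((R : Subgroup G) ⊓ N) := lt_of_le_of_ne (Subgroup.card_le_of_le hlt'.le)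
              fun e => hlt'.ne (Subgroup.eq_of_le_of_card_ge hlt'.le e.ge)
          _ ≤ pp p N := card_le_pp (R.isPGroup'.to_le inf_le_left) inf_le_right
      have hNle : pp p N ≤ pp p (⊤ : Subgroup G) := pp_mono le_top
      exact ihk (pp p (⊤ : Subgroup G) - pp p N) (by omega) N rfl hloc (hDM.trans hbigN) Z _ hZ
        (sylIn_smul hZ hxN) (le_inf (hDU.trans hUZ) (hDU.trans hN1))
        (le_inf (hDU'.trans (hxmap Z hUZ)) (hDU'.trans hN2))

/-- Let p be a prime dividing the order of the finite group G, and f an assignment to every p-subgroup P of a set f(P) of subgroups of P, each normalized by N_G(P), compatible with conjugation, such that for P ≠ 1 the members of f(P) are nontrivial. Let 𝓕 be the family of the normalizers N_G(F) of the members F of f(S) over the Sylow p-subgroups S of G, and 𝓕' the family of the maximal p-local subgroups M of G that are singular for f (the corresponding family of normalizers inside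 M does not control Sylow p-intersections in M). Then 𝓕 ∪ 𝓕' controls Sylow p-intersections in G. -/
theorem result {G : Type*} [Group G] [Finite G] (p : ℕ) [Fact p.Prime] (hdiv : p ∣ Nat.card G)
    (f : Subgroup G → Set (Subgroup G)) (hf : Cfsg.IsNormalizerFunctor p f)
    (hf1 : ∀ P : Subgroup G, IsPGroup p ↥P → P ≠ ⊥ → ∀ F ∈ f P, F ≠ ⊥)
    (𝓕 𝓕' : Set (Subgroup G)) (h𝓕 : 𝓕 = Cfsg.functorFamily p f ⊤)
    (h𝓕' : 𝓕' = {M | Cfsg.IsMaximalPLocal p M ∧ ¬ Cfsg.IsFunctorRegular p f M}) :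
    Cfsg.ControlsSylowIntersections p (𝓕 ∪ 𝓕') := by
  classical
  rw [Cfsg.Agent.Invol.controls_iff]
  have hfam : ∀ P : Sylow p G, ∀ F ∈ f (P : Subgroup G), Subgroup.normalizer (F : Set G) ∈ 𝓕 ∪ 𝓕' := by
    intro P F hF
    refine .inl (h𝓕 ▸ ⟨P.subtype le_top, F, ?_, (top_inf_eq _).symm⟩)
    rwa [show ((P.subtype le_top : Sylow p ↥(⊤ : Subgroup G)) : Subgroup _).map (⊤ : Subgroup G).subtype =
      (P : Subgroup G) from Subgroup.map_subgroupOf_eq_of_le le_top]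
  have hsing : ∀ M, Cfsg.IsMaximalPLocal p M → ¬ Cfsg.IsFunctorRegular p f M → M ∈ 𝓕 ∪ 𝓕' :=
    fun M h1 h2 => .inr (h𝓕' ▸ ⟨h1, h2⟩)
  suffices key : ∀ (n : ℕ) (S T : Sylow p G),
      Nat.card G - Nat.card ↥((S : Subgroup G) ⊓ (T : Subgroup G)) = n → S ≠ T →
      (S : Subgroup G) ⊓ (T : Subgroup G) ≠ ⊥ → Relation.ReflTransGen
        (Cfsg.Agent.Invol.CtrlStep p (𝓕 ∪ 𝓕') ((S : Subgroup G) ⊓ (T : Subgroup G))) S T from
    fun S T => key _ S T rfl
  intro n
  induction n using Nat.strong_induction_on with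
  | _ n ih =>
  intro S T hn hne hD
  set D := (S : Subgroup G) ⊓ (T : Subgroup G) with hDdef
  have hIH : ∀ V W : Sylow p G, Nat.card D < Nat.card ↥((V : Subgroup G) ⊓ (W : Subgroup G)) →
      D ≤ (V : Subgroup G) ⊓ (W : Subgroup G) →
      Relation.ReflTransGen (Cfsg.Agent.Invol.CtrlStep p (𝓕 ∪ 𝓕') D) V W := by
    intro V W hlt hle
    rcases eq_or_ne V W with rfl | hVW
    · exact .refl
    have hne' : (V : Subgroup G) ⊓ (W : Subgroup G) ≠ ⊥ := fun e => hD (eq_bot_iff.mpr (e ▸ hle))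
    have hcG := Subgroup.card_le_of_le (le_top : (V : Subgroup G) ⊓ (W : Subgroup G) ≤ ⊤)
    rw [Subgroup.card_top] at hcG
    refine Relation.ReflTransGen.mono ?_ _ _ (ih _ (by omega) V W rfl hVW hne')
    rintro A B ⟨X, x, hx, h1, h2, h3, h4⟩
    exact ⟨X, x, hx, h1, h2, h3, hle.trans h4⟩
  set M := Subgroup.normalizer (D : Set G) with hM
  have hgrow : ∀ R : Sylow p G, D ≤ (R : Subgroup G) → D ≠ (R : Subgroup G) →
      Nat.card D < Nat.card ↥((R : Subgroup G) ⊓ M) := by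
    intro R hle hne'
    have := R.isPGroup'.isNilpotent
    obtain ⟨y, hy, hyP⟩ := SetLike.exists_of_lt (Group.normalizerCondition_of_isNilpotent
      (D.subgroupOf (R : Subgroup G)) (lt_top_iff_ne_top.mpr fun e =>
        hne' (le_antisymm hle (Subgroup.subgroupOf_eq_top.mp e))))
    have hyN : (y : G) ∈ M := by
      refine Subgroup.mem_normalizer_fintype fun q hq => ?_
      exact (Subgroup.mem_normalizer_iff.mp hy ⟨q, hle hq⟩).mp hq
    refine lt_of_le_of_ne (Subgroup.card_le_of_le (le_inf hle Subgroup.le_normalizer)) fun e => hyP ?_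
    exact (Subgroup.eq_of_le_of_card_ge (le_inf hle Subgroup.le_normalizer) e.ge).ge ⟨y.2, hyN⟩
  have hDS : D ≠ (S : Subgroup G) := fun e => hne (Sylow.ext (Subgroup.eq_of_le_of_card_ge
    (inf_eq_left.mp e) (by rw [card_sylow_eq, card_sylow_eq])))
  have hDT : D ≠ (T : Subgroup G) := fun e => hne.symm (Sylow.ext (Subgroup.eq_of_le_of_card_ge
    (inf_eq_right.mp e) (by rw [card_sylow_eq, card_sylow_eq])))
  have hS' := hgrow S inf_le_left hDS
  have hT' := hgrow T inf_le_right hDT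
  obtain ⟨V₁, hV₁, hs₁⟩ := exists_sylIn (p := p) (M := M)
    (S.isPGroup'.to_le (inf_le_left : (S : Subgroup G) ⊓ M ≤ _)) inf_le_right
  obtain ⟨V₂, hV₂, hs₂⟩ := exists_sylIn (p := p) (M := M)
    (T.isPGroup'.to_le (inf_le_left : (T : Subgroup G) ⊓ M ≤ _)) inf_le_right
  have hDS' : D ≤ (S : Subgroup G) ⊓ M := le_inf inf_le_left Subgroup.le_normalizer
  have hDT' : D ≤ (T : Subgroup G) ⊓ M := le_inf inf_le_right Subgroup.le_normalizer
  refine (hIH S V₁ (lt_of_lt_of_le hS' (Subgroup.card_le_of_le (le_inf inf_le_left hV₁)))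
    (hDS'.trans (le_inf inf_le_left hV₁))).trans (Relation.ReflTransGen.trans ?_
    (hIH V₂ T (lt_of_lt_of_le hT' (Subgroup.card_le_of_le (le_inf hV₂ inf_le_left)))
      (hDT'.trans (le_inf hV₂ inf_le_left))))
  exact local_step f hf hf1 (𝓕 ∪ 𝓕') hfam hsing D hD hIH _ M rfl
    ⟨D, S.isPGroup'.to_le inf_le_left, hD, rfl⟩
    (lt_of_lt_of_le hS' (card_le_pp (S.isPGroup'.to_le inf_le_left) inf_le_right)) V₁ V₂ hs₁ hs₂
    (le_inf (hDS'.trans hV₁) Subgroup.le_normalizer) (le_inf (hDT'.trans hV₂) Subgroup.le_normalizer)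

end Cfsg.Agent.S2956
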