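import Cfsg.Statements.S2957
import Cfsg.Agent.Lib.Invol.SylowControl
import Cfsg.Agent.S2940
-- import your own Cfsg.Agent.* helpers here

set_option autoImplicit false
open Cfsg

namespace Cfsg.Agent.S2957

open scoped Pointwise

variable {G : Type*} [Group G] [Finite G] {p : ℕ} [Fact p.Prime]

/-- The family of normalizers induced by `f` in the whole group. -/
def GFam (p : ℕ) (f : Subgroup G → Set (Subgroup G)) : Set (Subgroup G) :=
  {X | ∃ P : Sylow p G, ∃ F ∈ f (P : Subgroup G), X = Subgroup.normalizer (F : Set G)}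

theorem conj_coe_sylow (g : G) (P : Sylow p G) :
    ((g • P : Sylow p G) : Subgroup G) = (P : Subgroup G).map (MulAut.conj g).toMonoidHom := by
  rw [Sylow.coe_subgroup_smul]; rfl

theorem gfam_normal (f : Subgroup G → Set (Subgroup G)) (hf : Cfsg.IsNormalizerFunctor p f) :
    Cfsg.IsNormalSet (GFam p f) := by
  rintro _ ⟨P, F, hF, rfl⟩ g
  refine ⟨g⁻¹ • P, F.map (MulAut.conj g⁻¹).toMonoidHom, ?_, ?_⟩
  · rw [conj_coe_sylow, (hf _ P.isPGroup').2]
    exact ⟨F, hF, rfl⟩
  · exact (Subgroup.map_equiv_normalizer_eq F (MulAut.conj g⁻¹))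

theorem mem_members {f : Subgroup G → Set (Subgroup G)} {X : Subgroup G} (hX : X ∈ GFam p f)
    (W : Sylow p G) (hW : (W : Subgroup G) ≤ X) :
    X ∈ Cfsg.sylowMembers p (GFam p f) (W : Subgroup G) := by
  refine (Cfsg.Agent.Invol.sylowMembers_iff W).mpr ⟨hX, ?_⟩
  rw [inf_eq_left.mpr hW]
  exact fun h => W.not_dvd_index (h.trans (Subgroup.relIndex_dvd_index_of_le hW))

/-- Conjugating a step. -/
theorem step_conj {f : Subgroup G → Set (Subgroup G)} (hf : Cfsg.IsNormalizerFunctor p f)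
    {D : Subgroup G} {U V : Sylow p G} (h : Cfsg.Agent.Invol.CtrlStep p (GFam p f) D U V) (g : G) :
    Cfsg.Agent.Invol.CtrlStep p (GFam p f) (D.map (MulAut.conj g).toMonoidHom) (g • U) (g • V) := by
  obtain ⟨X, x, hx, h1, h2, h3, h4⟩ := h
  refine ⟨X.map (MulAut.conj g).toMonoidHom, g * x * g⁻¹, ⟨x, hx, rfl⟩,
    Cfsg.Agent.Invol.sylowMembers_conj (gfam_normal f hf) h1 g,
    Cfsg.Agent.Invol.sylowMembers_conj (gfam_normal f hf) h2 g, ?_, ?_⟩
  · rw [← h3, ← mul_smul, ← mul_smul, inv_mul_cancel_right]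
  · rw [conj_coe_sylow, ← Subgroup.map_inf _ _ _ (MulAut.conj g).injective]
    exact Subgroup.map_mono h4

/-- A chain inside a regular subgroup gives a chain in the whole group. -/
theorem lift_chain (f : Subgroup G → Set (Subgroup G)) (hf : Cfsg.IsNormalizerFunctor p f)
    (M : Subgroup G) (hr : Cfsg.IsFunctorRegular p f M) (S T : Sylow p G) (hS : (S : Subgroup G) ≤ M)
    (hT : (T : Subgroup G) ≤ M) (D : Subgroup G) (hD : D ≠ ⊥)
    (hle : D ≤ (S : Subgroup G) ⊓ (T : Subgroup G)) :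
    Relation.ReflTransGen (Cfsg.Agent.Invol.CtrlStep p (GFam p f) D) S T := by
  rcases eq_or_ne S T with rfl | hne
  · exact .refl
  set S' := S.subtype hS
  set T' := T.subtype hT
  have hmap : ∀ (W : Sylow p G) (h : (W : Subgroup G) ≤ M),
      ((W.subtype h : Sylow p M) : Subgroup M).map M.subtype = W :=
    fun W h => Subgroup.map_subgroupOf_eq_of_le h
  have hne' : S' ≠ T' := fun e => hne (Sylow.ext (by
    have := congrArg (fun U : Sylow p M => (U : Subgroup M).map M.subtype) e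
    simpa only [S', T', hmap] using this))
  have hD' : (S' : Subgroup M) ⊓ (T' : Subgroup M) ≠ ⊥ := by
    intro e
    refine hD (eq_bot_iff.mpr fun d hd => ?_)
    have h1 : (⟨d, hS (hle hd).1⟩ : M) ∈ (S' : Subgroup M) ⊓ (T' : Subgroup M) :=
      ⟨(hle hd).1, (hle hd).2⟩
    rw [e] at h1
    exact congrArg Subtype.val (Subgroup.mem_bot.mp h1)
  have hchain := (Cfsg.Agent.Invol.controls_iff.mp hr) S' T' hne' hD'
  have hcard : ∀ U : Sylow p M, Nat.card ↥((U : Subgroup M).map M.subtype) = Nat.card S := by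
    intro U
    rw [Subgroup.card_map_of_injective M.subtype_injective, Sylow.card_eq_multiplicity U,
      ← Sylow.card_eq_multiplicity S', ← Subgroup.card_map_of_injective M.subtype_injective, hmap S hS]
  have hup : ∀ U : Sylow p M, ∃ W : Sylow p G, (W : Subgroup G) = (U : Subgroup M).map M.subtype := by
    intro U
    obtain ⟨W, hW⟩ := (U.isPGroup'.map M.subtype).exists_le_sylow
    refine ⟨W, (Subgroup.eq_of_le_of_card_ge hW ?_).symm⟩
    rw [hcard U, Sylow.card_eq_multiplicity S, Sylow.card_eq_multiplicity W]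
  suffices key : ∀ U : Sylow p M, Relation.ReflTransGen (Cfsg.Agent.Invol.CtrlStep p
      ((fun X : Subgroup G => X.subgroupOf M) '' Cfsg.functorFamily p f M)
      ((S' : Subgroup M) ⊓ (T' : Subgroup M))) S' U →
    ∀ W : Sylow p G, (W : Subgroup G) = (U : Subgroup M).map M.subtype →
      Relation.ReflTransGen (Cfsg.Agent.Invol.CtrlStep p (GFam p f) D) S W from
    key T' hchain T (hmap T hT).symm
  intro U hU
  induction hU with
  | refl => exact fun W hW => (Sylow.ext (hW.trans (hmap S hS)) : W = S) ▸ .refl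
  | @tail U U' _ hs ih =>
    intro W' hW'
    obtain ⟨W, hW⟩ := hup U
    refine (ih W hW).tail ?_
    obtain ⟨X₀, x, hx, hXU, hXU', hxU, hle'⟩ := hs
    obtain ⟨X, ⟨P, F, hF, rfl⟩, rfl⟩ := hXU.1
    obtain ⟨P', hP'⟩ := hup P
    rw [← hP'] at hF
    obtain ⟨hFP, hFN⟩ := (hf P' P'.isPGroup').1 F hF
    have hX : Subgroup.normalizer (F : Set G) ∈ GFam p f := ⟨P', F, hF, rfl⟩
    have hPX : (P' : Subgroup G) ≤ M ⊓ Subgroup.normalizer (F : Set G) :=
      le_inf (hP'.le.trans (Subgroup.map_subtype_le _)) (Subgroup.le_normalizer.trans hFN)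
    have hmem : ∀ (W : Sylow p G) (U : Sylow p M), (W : Subgroup G) = (U : Subgroup M).map M.subtype →
        ¬ p ∣ ((U : Subgroup M) ⊓ (M ⊓ Subgroup.normalizer (F : Set G)).subgroupOf M).relIndex
          ((M ⊓ Subgroup.normalizer (F : Set G)).subgroupOf M) →
        (W : Subgroup G) ≤ Subgroup.normalizer (F : Set G) := by
      intro W U hW hU
      set Y := M ⊓ Subgroup.normalizer (F : Set G) with hY
      have h1 : ((W : Subgroup G) ⊓ Y).relIndex Y =
          ((U : Subgroup M) ⊓ Y.subgroupOf M).relIndex (Y.subgroupOf M) := by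
        rw [← Subgroup.relIndex_map_map_of_injective (f := M.subtype) _ _ M.subtype_injective,
          Subgroup.map_inf _ _ _ M.subtype_injective, Subgroup.map_subgroupOf_eq_of_le inf_le_left, hW]
      have hdvd : Nat.card P' ∣ Nat.card ↥((W : Subgroup G) ⊓ Y) := by
        have h2 : Nat.card ↥((W : Subgroup G) ⊓ Y) * ((W : Subgroup G) ⊓ Y).relIndex Y = Nat.card Y := by
          rw [← Subgroup.card_mul_index (((W : Subgroup G) ⊓ Y).subgroupOf Y),
            Nat.card_congr (Subgroup.subgroupOfEquivOfLe inf_le_right).toEquiv]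
          rfl
        obtain ⟨k, hk⟩ := P'.isPGroup'.exists_card_eq
        refine Nat.Coprime.dvd_of_dvd_mul_right ?_ (h2 ▸ Subgroup.card_dvd_of_le hPX)
        rw [hk]
        exact Nat.Coprime.pow_left k ((Fact.out : p.Prime).coprime_iff_not_dvd.mpr (h1 ▸ hU))
      have hWcard : Nat.card P' = Nat.card W := by
        rw [Sylow.card_eq_multiplicity P', Sylow.card_eq_multiplicity W]
      have h3 := Subgroup.eq_of_le_of_card_ge (inf_le_left : (W : Subgroup G) ⊓ Y ≤ W) (by
        exact hWcard ▸ Nat.le_of_dvd Nat.card_pos hdvd)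
      exact (inf_eq_left.mp h3).trans inf_le_right
    have hN1 := hmem W U hW ((Cfsg.Agent.Invol.sylowMembers_iff U).mp hXU).2
    have hN2 := hmem W' U' hW' ((Cfsg.Agent.Invol.sylowMembers_iff U').mp hXU').2
    refine ⟨_, (x : G), (show (x : G) ∈ M ⊓ Subgroup.normalizer (F : Set G) from hx).2,
      mem_members hX W hN1, mem_members hX W' hN2, ?_, ?_⟩
    · refine Sylow.ext (SetLike.ext fun a => ?_)
      rw [Cfsg.Agent.Invol.mem_smul_sylow, hW, hW', ← hxU]
      constructor
      · rintro ⟨b, hb, he⟩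
        refine ⟨x * b * x⁻¹, Cfsg.Agent.Invol.mem_smul_sylow.mpr (by rw [show x⁻¹ * (x * b * x⁻¹) * x = b by group]; exact hb), ?_⟩
        show (x : G) * b * (x : G)⁻¹ = a
        rw [show (b : G) = (x : G)⁻¹ * a * x from he]; group
      · rintro ⟨b, hb, rfl⟩
        exact ⟨x⁻¹ * b * x, Cfsg.Agent.Invol.mem_smul_sylow.mp hb, rfl⟩
    · intro d hd
      have h1 := Subgroup.mem_inf.mp (hle' (show (⟨d, hS (hle hd).1⟩ : M) ∈ _ from ⟨(hle hd).1, (hle hd).2⟩))
      exact ⟨hW'.ge ⟨_, h1.1, rfl⟩, (show d ∈ M ⊓ Subgroup.normalizer (F : Set G) from h1.2).2⟩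

/-- Let p be a prime dividing the order of the finite group G, f an equivariant assignment of a set of subgroups f(P) of P to every p-subgroup P, each normalized by N_G(P), and S a Sylow p-subgroup. If G = G₁G₂ for subgroups G₁, G₂ both containing S and both regular for f (in each Gᵢ, the family of normalizers in Gᵢ of the members of f(P), P a Sylow p-subgroup of Gᵢ, controls Sylow p-intersections), then G itself is regular for f. -/
theorem result {G : Type*} [Group G] [Finite G] (p : ℕ) [Fact p.Prime] (hdiv : p ∣ Nat.card G)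
    (f : Subgroup G → Set (Subgroup G)) (hf : Cfsg.IsNormalizerFunctor p f) (S : Sylow p G)
    (G₁ G₂ : Subgroup G) (h₁ : (S : Subgroup G) ≤ G₁) (h₂ : (S : Subgroup G) ≤ G₂)
    (hprod : ∀ g : G, ∃ g₁ ∈ G₁, ∃ g₂ ∈ G₂, g = g₁ * g₂)
    (hr₁ : Cfsg.IsFunctorRegular p f G₁) (hr₂ : Cfsg.IsFunctorRegular p f G₂) :
    Cfsg.IsFunctorRegular p f ⊤ := by
  classical
  -- control in `G` itself
  have hG : ∀ S' T' : Sylow p G, (S' : Subgroup G) ⊓ (T' : Subgroup G) ≠ ⊥ →
      Relation.ReflTransGen (Cfsg.Agent.Invol.CtrlStep p (GFam p f) ((S' : Subgroup G) ⊓ (T' : Subgroup G))) S' T' := by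
    intro S' T' hne
    obtain ⟨a, rfl⟩ := MulAction.exists_smul_eq G S S'
    obtain ⟨t, rfl⟩ := MulAction.exists_smul_eq G S T'
    set g := a⁻¹ * t with hg
    set T := g • S with hT
    have hTt : a • T = t • S := by rw [hT, ← mul_smul, hg, mul_inv_cancel_left]
    have hmain : ∀ D : Subgroup G, D ≠ ⊥ → D ≤ (S : Subgroup G) ⊓ (T : Subgroup G) →
        Relation.ReflTransGen (Cfsg.Agent.Invol.CtrlStep p (GFam p f) D) S T := by
      intro D hD hle
      obtain ⟨U, hDU, hUle⟩ := Cfsg.Agent.S2940.result S G₁ G₂ h₁ h₂ hprod g⁻¹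
      have hle' : D ≤ (U : Subgroup G) := fun d hd => hDU ⟨(hle hd).1,
        Cfsg.Agent.Invol.mem_conjRightSubgroup.mpr (by
          simpa using Cfsg.Agent.Invol.mem_smul_sylow.mp (hle hd).2)⟩
      refine (lift_chain f hf G₁ hr₁ S U h₁ (hUle.trans inf_le_left) D hD
        (le_inf (hle.trans inf_le_left) hle')).trans ?_
      obtain ⟨g₁, hg₁, g₂, hg₂, he⟩ := hprod g
      have hU2 : ((g₁⁻¹ • U : Sylow p G) : Subgroup G) ≤ G₂ := by
        intro x hx
        rw [Cfsg.Agent.Invol.mem_smul_sylow, inv_inv] at hx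
        have h := Cfsg.Agent.Invol.mem_conjRightSubgroup.mp (Subgroup.mem_inf.mp (hUle hx)).2
        rw [he] at h
        rw [show x = g₂ * ((g₁ * g₂)⁻¹ * (g₁ * x * g₁⁻¹) * (g₁ * g₂)⁻¹⁻¹) * g₂⁻¹ by group]
        exact mul_mem (mul_mem hg₂ h) (inv_mem hg₂)
      have hT2 : ((g₂ • S : Sylow p G) : Subgroup G) ≤ G₂ := by
        intro x hx
        rw [Cfsg.Agent.Invol.mem_smul_sylow] at hx
        rw [show x = g₂ * (g₂⁻¹ * x * g₂) * g₂⁻¹ by group]
        exact mul_mem (mul_mem hg₂ (h₂ hx)) (inv_mem hg₂)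
      set D₂ := D.map (MulAut.conj g₁⁻¹).toMonoidHom with hD₂
      have hT' : g₂ • S = g₁⁻¹ • T := by rw [hT, he, mul_smul, inv_smul_smul]
      have hc := lift_chain f hf G₂ hr₂ (g₁⁻¹ • U) (g₂ • S) hU2 hT2 D₂
        (fun e => hD ((Subgroup.map_eq_bot_iff_of_injective _ (MulAut.conj g₁⁻¹).injective).mp e))
        (le_inf (by rw [conj_coe_sylow]; exact Subgroup.map_mono hle')
          (by rw [hT', conj_coe_sylow]; exact Subgroup.map_mono (hle.trans inf_le_right)))
      have hc' := Relation.ReflTransGen.lift (fun V : Sylow p G => g₁ • V)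
        (fun _ _ h => step_conj hf h g₁) _ _ hc
      have hDD : D₂.map (MulAut.conj g₁).toMonoidHom = D := by
        rw [hD₂, Subgroup.map_map]
        convert Subgroup.map_id D using 2
        ext x; simp [mul_assoc]
      change Relation.ReflTransGen _ (g₁ • g₁⁻¹ • U) (g₁ • (g₂ • S)) at hc'
      rw [hDD, smul_inv_smul, hT', smul_inv_smul] at hc'
      exact hc'
    set D := ((a • S : Sylow p G) : Subgroup G) ⊓ ((t • S : Sylow p G) : Subgroup G) with hDdef
    set D₀ := D.map (MulAut.conj a⁻¹).toMonoidHom with hD₀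
    have hc := hmain D₀
      (fun e => hne ((Subgroup.map_eq_bot_iff_of_injective _ (MulAut.conj a⁻¹).injective).mp e))
      (le_inf (fun x hx => by
          obtain ⟨d, hd, rfl⟩ := hx
          simpa [mul_assoc] using Cfsg.Agent.Invol.mem_smul_sylow.mp hd.1)
        (fun x hx => by
          obtain ⟨d, hd, rfl⟩ := hx
          have h := hd.2
          rw [← hTt] at h
          simpa [mul_assoc] using Cfsg.Agent.Invol.mem_smul_sylow.mp h))
    have hc' := Relation.ReflTransGen.lift (fun V : Sylow p G => a • V)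
      (fun _ _ h => step_conj hf h a) _ _ hc
    have hDD : D₀.map (MulAut.conj a).toMonoidHom = D := by
      rw [hD₀, Subgroup.map_map]
      convert Subgroup.map_id D using 2
      ext x; simp [mul_assoc]
    change Relation.ReflTransGen _ (a • S) (a • T) at hc'
    rw [hDD, hTt] at hc'
    exact hc'
  -- move to `⊤`
  rw [Cfsg.IsFunctorRegular, Cfsg.Agent.Invol.controls_iff]
  intro A B hne hAB
  set e := (Subgroup.topEquiv : (⊤ : Subgroup G) ≃* G)
  set up : Sylow p ↥(⊤ : Subgroup G) → Sylow p G :=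
    fun U => U.mapSurjective (f := (⊤ : Subgroup G).subtype) (fun g => ⟨⟨g, trivial⟩, rfl⟩) with hupdef
  set down : Sylow p G → Sylow p ↥(⊤ : Subgroup G) := fun W => W.subtype le_top with hdown
  have hud : ∀ U, down (up U) = U := fun U => Sylow.ext (SetLike.ext fun x => by
    show (x : G) ∈ ((U : Subgroup _).map (⊤ : Subgroup G).subtype) ↔ _
    constructor
    · rintro ⟨y, hy, he⟩; exact Subtype.ext he ▸ hy
    · exact fun hx => ⟨x, hx, rfl⟩)
  have hne' : (up A : Subgroup G) ⊓ (up B : Subgroup G) ≠ ⊥ := by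
    intro e0
    refine hAB (eq_bot_iff.mpr fun x hx => Subgroup.mem_bot.mpr (Subtype.ext ?_))
    exact Subgroup.mem_bot.mp (e0.le ⟨⟨x, hx.1, rfl⟩, ⟨x, hx.2, rfl⟩⟩)
  have hc : Relation.ReflTransGen (Cfsg.Agent.Invol.CtrlStep p
      ((fun X : Subgroup G => X.subgroupOf ⊤) '' Cfsg.functorFamily p f ⊤)
      ((A : Subgroup _) ⊓ (B : Subgroup _))) (down (up A)) (down (up B)) := by
    refine Relation.ReflTransGen.lift down (fun U V h => ?_) _ _ (hG (up A) (up B) hne')
    obtain ⟨X, x, hx, hXU, hXV, hxUV, hle⟩ := h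
    obtain ⟨P, F, hF, rfl⟩ := hXU.1
    have hfam : (Subgroup.normalizer (F : Set G)).subgroupOf ⊤ ∈
        (fun X : Subgroup G => X.subgroupOf ⊤) '' Cfsg.functorFamily p f ⊤ :=
      ⟨_, ⟨down P, F, by rwa [show ((down P : Sylow p _) : Subgroup _).map (⊤ : Subgroup G).subtype =
        (P : Subgroup G) from Subgroup.map_subgroupOf_eq_of_le le_top], (top_inf_eq _).symm⟩, rfl⟩
    have hmem : ∀ W : Sylow p G, Subgroup.normalizer (F : Set G) ∈ Cfsg.sylowMembers p (GFam p f) (W : Subgroup G) →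
        (Subgroup.normalizer (F : Set G)).subgroupOf ⊤ ∈ Cfsg.sylowMembers p
          ((fun X : Subgroup G => X.subgroupOf ⊤) '' Cfsg.functorFamily p f ⊤) (down W : Subgroup _) := by
      intro W hW
      refine (Cfsg.Agent.Invol.sylowMembers_iff _).mpr ⟨hfam, ?_⟩
      have h := ((Cfsg.Agent.Invol.sylowMembers_iff W).mp hW).2
      rwa [← Subgroup.relIndex_map_map_of_injective (f := (⊤ : Subgroup G).subtype) _ _
        (Subgroup.subtype_injective _), Subgroup.map_inf _ _ _ (Subgroup.subtype_injective _),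
        show ((down W : Sylow p _) : Subgroup _).map (⊤ : Subgroup G).subtype = (W : Subgroup G) from
          Subgroup.map_subgroupOf_eq_of_le le_top, Subgroup.map_subgroupOf_eq_of_le le_top]
    refine ⟨_, ⟨x, trivial⟩, hx, hmem U hXU, hmem V hXV, Sylow.ext (SetLike.ext fun y => ?_), fun d hd => ?_⟩
    · rw [Cfsg.Agent.Invol.mem_smul_sylow]
      show (x⁻¹ * (y : G) * x) ∈ (U : Subgroup G) ↔ (y : G) ∈ (V : Subgroup G)
      rw [← hxUV, Cfsg.Agent.Invol.mem_smul_sylow]
    · exact hle ⟨⟨d, hd.1, rfl⟩, ⟨d, hd.2, rfl⟩⟩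
  rw [hud, hud] at hc
  exact hc

end Cfsg.Agent.S2957
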