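import Cfsg.Statements.S2958
import Mathlib
import Cfsg.Agent.Lib.Invol.Closed
-- import your own Cfsg.Agent.* helpers here

set_option autoImplicit false
open Cfsg

namespace Cfsg.Agent.S2958

/-- Let X, A, B be subgroups of a group G such that G is generated by the conjugates of X and every conjugate of X is contained in A or in B. Then A = G or B = G. -/
theorem result {G : Type*} [Group G] (X A B : Subgroup G) (hgen : (⨆ g : G, X.map (MulAut.conj g).toMonoidHom) = ⊤) (hcover : ∀ g : G, X.map (MulAut.conj g).toMonoidHom ≤ A ∨ X.map (MulAut.conj g).toMonoidHom ≤ B) : A = ⊤ ∨ B = ⊤ := by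
  classical
  by_cases hall : ∀ g : G, X.map (MulAut.conj g).toMonoidHom ≤ A
  · exact Or.inl (top_le_iff.mp (hgen ▸ iSup_le hall))
  push Not at hall
  obtain ⟨g₀, hg₀⟩ := hall
  -- the conjugates not contained in `A` generate a normal subgroup of `B`
  set M := ⨆ g ∈ {g : G | ¬ X.map (MulAut.conj g).toMonoidHom ≤ A}, X.map (MulAut.conj g).toMonoidHom
    with hM
  have hMB : M ≤ B := iSup₂_le fun g hg => (hcover g).resolve_left hg
  have hmem : ∀ g : G, ¬ X.map (MulAut.conj g).toMonoidHom ≤ A → X.map (MulAut.conj g).toMonoidHom ≤ M :=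
    fun g hg => le_iSup₂_of_le g hg le_rfl
  have hnorm : ∀ k : G, X.map (MulAut.conj k).toMonoidHom ≤ Subgroup.normalizer (M : Set G) := by
    intro k
    by_cases hk : X.map (MulAut.conj k).toMonoidHom ≤ A
    · -- elements of `A` permute the members
      have hstab : ∀ a ∈ A, M.map (MulAut.conj a).toMonoidHom ≤ M := by
        intro a ha
        rw [hM, Subgroup.map_iSup]
        refine iSup_le fun g => ?_
        rw [Subgroup.map_iSup]
        refine iSup_le fun hg => ?_
        rw [Invol.map_conj_map_conj]
        refine hmem _ fun hle => hg ?_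
        rintro x hx
        have h1 : a * x * a⁻¹ ∈ A := hle (by
          rw [← Invol.map_conj_map_conj]
          exact Invol.conj_mem_map_conj hx)
        have h2 := mul_mem (mul_mem (inv_mem ha) h1) ha
        simpa [mul_assoc] using h2
      intro a ha
      refine Invol.mem_normalizer_of_map_eq (le_antisymm (hstab a (hk ha)) ?_)
      intro x hx
      rw [Invol.mem_map_conj]
      have := hstab a⁻¹ (inv_mem (hk ha)) (Invol.conj_mem_map_conj hx)
      simpa using this
    · exact (hmem k hk).trans Subgroup.le_normalizer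
  have hMn : M.Normal := Subgroup.normalizer_eq_top_iff.mp (top_le_iff.mp (hgen ▸ iSup_le hnorm))
  refine Or.inr (top_le_iff.mp (le_trans ?_ hMB))
  rw [← hgen]
  refine iSup_le fun g => ?_
  rintro _ ⟨x, hx, rfl⟩
  have h1 : g₀ * x * g₀⁻¹ ∈ M := hmem g₀ hg₀ (Invol.conj_mem_map_conj hx)
  have h2 := hMn.conj_mem _ h1 (g * g₀⁻¹)
  simpa [mul_assoc] using h2

end Cfsg.Agent.S2958
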