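import Cfsg.Statements.S2960
import Mathlib
import Cfsg.Agent.Lib.Invol.CharP
import Cfsg.Agent.Lib.Grp.CoprimeAbelian
-- import your own Cfsg.Agent.* helpers here

set_option autoImplicit false
open Cfsg

namespace Cfsg.Agent.S2960

/-- Let G be a finite group of characteristic p (C_G(O_p(G)) ≤ O_p(G)), p prime, T a Sylow p-subgroup of G and Q a normal subgroup of T with C_T(Q) ≤ Q. Then C_G(Q) ≤ Q. -/
theorem result {G : Type*} [Group G] [Finite G] {p : ℕ} [Fact p.Prime] (hG : Subgroup.centralizer (Cfsg.pCore p G : Set G) ≤ Cfsg.pCore p G) (T : Sylow p G) (Q : Subgroup G) (hQT : Q ≤ (T : Subgroup G)) (hQn : (T : Subgroup G) ≤ Subgroup.normalizer (Q : Set G)) (hC : (T : Subgroup G) ⊓ Subgroup.centralizer (Q : Set G) ≤ Q) : Subgroup.centralizer (Q : Set G) ≤ Q := by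
  set C := Subgroup.centralizer (Q : Set G)
  set R := Cfsg.pCore p G with hR
  have hRn : R.Normal := Invol.pCore_normal p G
  have hRT : R ≤ (T : Subgroup G) := Grp.pCore_le_sylow T
  have hQp : IsPGroup p Q := T.isPGroup'.to_le hQT
  have hCp : IsPGroup p C := by
    refine Invol.isPGroup_of_coprime_elements fun x hx => ?_
    have hxo : (orderOf (x : G)).Coprime p := by rwa [Subgroup.orderOf_coe]
    have h := Grp.thompson_PQ (p := p) Q (Subgroup.zpowers (x : G)) hQp
      (by rwa [Nat.card_zpowers])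
      (Subgroup.le_centralizer_iff.mp ((Subgroup.zpowers_le (H := C)).mpr x.2))
      R Grp.pCore_isPGroup
      (by rw [Subgroup.normalizer_eq_top]; exact le_top)
      (by rw [Subgroup.normalizer_eq_top]; exact le_top) ?_
    · exact Subtype.ext (Invol.eq_one_of_coprime_of_mem Grp.pCore_isPGroup
        (hG (h (Subgroup.mem_zpowers _))) hxo)
    · intro u hu
      have huQ : u ∈ Q := hC ⟨hRT hu.1, hu.2⟩
      rw [Subgroup.mem_centralizer_iff]
      intro y hy
      obtain ⟨i, rfl⟩ := Subgroup.mem_zpowers_iff.mp hy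
      have hxu : Commute (x : G) u := (Subgroup.mem_centralizer_iff.mp x.2 u huQ).symm
      exact (hxu.zpow_left i).eq
  have hTC : (T : Subgroup G) ≤ Subgroup.normalizer (C : Set G) := by
    intro t ht
    have htQ := hQn ht
    rw [Subgroup.mem_normalizer_iff]
    intro c
    simp only [C, Subgroup.mem_centralizer_iff]
    constructor
    · intro h q hq
      have h1 := h _ ((Subgroup.mem_normalizer_iff''.mp htQ q).mp hq)
      calc q * (t * c * t⁻¹) = t * (t⁻¹ * q * t * c) * t⁻¹ := by group
        _ = t * (c * (t⁻¹ * q * t)) * t⁻¹ := by rw [h1]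
        _ = t * c * t⁻¹ * q := by group
    · intro h q hq
      have h1 := h _ ((Subgroup.mem_normalizer_iff.mp htQ q).mp hq)
      calc q * c = t⁻¹ * (t * q * t⁻¹ * (t * c * t⁻¹)) * t := by group
        _ = t⁻¹ * (t * c * t⁻¹ * (t * q * t⁻¹)) * t := by rw [h1]
        _ = c * q := by group
  have hsup : IsPGroup p ↥((T : Subgroup G) ⊔ C) := T.isPGroup'.to_sup_of_normal_right' hCp hTC
  have hCT : C ≤ (T : Subgroup G) := le_sup_right.trans_eq (T.is_maximal' hsup le_sup_left)
  exact fun c hc => hC ⟨hCT hc, hc⟩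

end Cfsg.Agent.S2960
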