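import Cfsg.Statements.S2961
import Mathlib
import Cfsg.Agent.Lib.Invol.CharP
import Cfsg.Agent.S2960
-- import your own Cfsg.Agent.* helpers here

set_option autoImplicit false
open Cfsg

namespace Cfsg.Agent.S2961

/-- Let G be a finite group of characteristic p (C_G(O_p(G)) ≤ O_p(G)), p prime, T a Sylow p-subgroup of G and Q a normal subgroup of T with C_T(Q) ≤ Q. Then every subgroup L of G containing Q has characteristic p: C_L(O_p(L)) ≤ O_p(L). -/
theorem result {G : Type*} [Group G] [Finite G] {p : ℕ} [Fact p.Prime] (hG : Subgroup.centralizer (Cfsg.pCore p G : Set G) ≤ Cfsg.pCore p G) (T : Sylow p G) (Q : Subgroup G) (hQT : Q ≤ (T : Subgroup G)) (hQn : (T : Subgroup G) ≤ Subgroup.normalizer (Q : Set G)) (hC : (T : Subgroup G) ⊓ Subgroup.centralizer (Q : Set G) ≤ Q) (L : Subgroup G) (hQL : Q ≤ L) : Subgroup.centralizer (Cfsg.pCore p ↥L : Set ↥L) ≤ Cfsg.pCore p ↥L := by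
  have hpr : p.Prime := Fact.out
  have hQT' : IsPGroup p Q := T.isPGroup'.to_le hQT
  have hCQ := S2960.result hG T Q hQT hQn hC
  set K := Cfsg.pCore p G with hK
  have hKn : K.Normal := Invol.pCore_normal p G
  have hKp : IsPGroup p K := Grp.pCore_isPGroup
  have hKQ : K ≤ Subgroup.normalizer (Q : Set G) := (Grp.pCore_le_sylow T).trans hQn
  set Q₀ := Cfsg.pCore p ↥L with hQ₀
  have := Invol.pCore_normal p L
  set C := Subgroup.centralizer (Q₀ : Set L) with hCdef
  set D := ⁅K, Q⁆ with hD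
  have hDK : D ≤ K := Subgroup.commutator_le_left _ _
  have hDQ : D ≤ Q := by
    rw [hD, Subgroup.commutator_comm]
    exact Subgroup.le_normalizer_iff_commutator_le_left.mp hKQ
  have hDint : ∀ d, d ∈ D → ∀ (hdL : d ∈ L), (⟨d, hdL⟩ : L) ∈ Q₀ := fun d hd hdL =>
    Invol.mem_pCore_of_subgroupOf (hKn.subgroupOf L) hKp (hDK hd) hdL
  have hCD : ∀ c ∈ C, ∀ d ∈ D, Commute (c : G) d := fun c hc d hd =>
    (congrArg Subtype.val (Subgroup.mem_centralizer_iff.mp hc _ (hDint d hd (hQL (hDQ hd))))).symm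
  -- elements of `C` acting trivially on `K / [K, Q]`
  let A : Subgroup C :=
    { carrier := {c : C | ∀ k ∈ K, ((c : L) : G) * k * ((c : L) : G)⁻¹ * k⁻¹ ∈ D}
      one_mem' := fun k _ => by simp [one_mem]
      mul_mem' := by
        intro a b ha hb k hk
        have h1 := hb k hk
        have h2 := ha _ (hKn.conj_mem k hk ((b : L) : G))
        have := mul_mem h2 h1
        simpa [mul_assoc] using this
      inv_mem' := by
        intro a ha k hk
        have h1 := inv_mem (ha _ (hKn.conj_mem k hk ((a : L) : G)⁻¹))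
        simpa [mul_assoc] using h1 }
  have hAn : A.Normal := ⟨fun a ha c k hk => by
    have h1 := ha _ (hKn.conj_mem k hk ((c : L) : G)⁻¹)
    rw [inv_inv] at h1
    have hcomm := hCD (c : L) c.2 _ h1
    have e : ((c : L) : G) * (((a : L) : G) * (((c : L) : G)⁻¹ * k * ((c : L) : G)) * ((a : L) : G)⁻¹ *
        (((c : L) : G)⁻¹ * k * ((c : L) : G))⁻¹) * ((c : L) : G)⁻¹ =
        ((c : L) : G) * ((a : L) : G) * ((c : L) : G)⁻¹ * k * (((c : L) : G) * ((a : L) : G) * ((c : L) : G)⁻¹)⁻¹ * k⁻¹ := by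
      group
    rw [hcomm.eq, mul_inv_cancel_right] at e
    change (((c * a * c⁻¹ : C) : L) : G) * k * (((c * a * c⁻¹ : C) : L) : G)⁻¹ * k⁻¹ ∈ D
    rw [show (((c * a * c⁻¹ : C) : L) : G) = ((c : L) : G) * ((a : L) : G) * ((c : L) : G)⁻¹ from rfl, ← e]
    exact h1⟩
  have hord : ∀ x : C, (orderOf x).Coprime p → (orderOf ((x : L) : G)).Coprime p := fun x hx => by
    rwa [Subgroup.orderOf_coe, Subgroup.orderOf_coe]
  have hAp : IsPGroup p A := by
    refine Invol.isPGroup_of_coprime_elements fun a ha => ?_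
    have hao : (orderOf (((a : C) : L) : G)).Coprime p :=
      hord a (by rwa [Subgroup.orderOf_coe])
    have hcen : (((a : C) : L) : G) ∈ Subgroup.centralizer (K : Set G) := by
      rw [Subgroup.mem_centralizer_iff]
      intro k hk
      have hz := a.2 k hk
      obtain ⟨e, he⟩ := Invol.pow_ppow_eq_one_of_mem hKp (hDK hz)
      exact (Invol.commute_of_stabilises hao he (hCD _ (a : C).2 _ hz) (by group)).eq.symm
    have h1 := Invol.eq_one_of_coprime_of_mem hKp (hG hcen) hao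
    exact Subtype.ext (Subtype.ext (Subtype.ext h1))
  have hAQ₀ : A.map C.subtype ≤ Q₀ := by
    have : C.Normal := inferInstance
    exact (Subgroup.map_mono (Grp.le_pCore hAn hAp)).trans (Grp.pCore_map_le C)
  have hCp : IsPGroup p C := by
    refine Invol.isPGroup_of_coprime_elements fun x hx => ?_
    have hxo := hord x hx
    have hxQ : ((x : L) : G) ∈ Subgroup.centralizer (Q : Set G) := by
      rw [Subgroup.mem_centralizer_iff]
      intro q hq
      have hqL : q ∈ L := hQL hq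
      have hCn : C.Normal := inferInstance
      set y : C := ⟨(⟨q, hqL⟩ : L) * (x : L) * (⟨q, hqL⟩ : L)⁻¹, hCn.conj_mem _ x.2 _⟩ with hy
      have hzA : y * x⁻¹ ∈ A := by
        intro k hk
        set xg : G := ((x : L) : G) with hxg
        change q * xg * q⁻¹ * xg⁻¹ * k * (q * xg * q⁻¹ * xg⁻¹)⁻¹ * k⁻¹ ∈ D
        open scoped commutatorElement in
        have hmov : ∀ r ∈ Q, ∀ j ∈ K, r * j * r⁻¹ * j⁻¹ ∈ D := fun r hr j hj => by
          have h := inv_mem (Subgroup.commutator_mem_commutator hj hr : ⁅j, r⁆ ∈ D)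
          simpa [commutatorElement_def, mul_assoc] using h
        set k₁ := xg⁻¹ * k * xg with hk₁
        have hk₁K : k₁ ∈ K := by simpa [hk₁] using hKn.conj_mem k hk xg⁻¹
        set d₁ := q⁻¹ * k₁ * q⁻¹⁻¹ * k₁⁻¹ with hd₁
        have hd₁D : d₁ ∈ D := hmov _ (inv_mem hq) _ hk₁K
        have hd₂D := hmov q hq (d₁ * k) (mul_mem (hDK hd₁D) hk)
        have e : q * xg * q⁻¹ * xg⁻¹ * k * (q * xg * q⁻¹ * xg⁻¹)⁻¹ * k⁻¹ =
            q * (xg * d₁ * xg⁻¹ * k) * q⁻¹ * k⁻¹ := by
          rw [hd₁, hk₁]; group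
        rw [e, (show Commute xg d₁ from hCD (x : L) x.2 d₁ hd₁D).eq, mul_inv_cancel_right]
        have e2 : q * (d₁ * k) * q⁻¹ * k⁻¹ = q * (d₁ * k) * q⁻¹ * (d₁ * k)⁻¹ * d₁ := by group
        rw [e2]
        exact mul_mem hd₂D hd₁D
      have hz : ((y * x⁻¹ : C) : L) ∈ Q₀ := hAQ₀ ⟨_, hzA, rfl⟩
      have hcz : Commute (x : L) ((y * x⁻¹ : C) : L) :=
        (Subgroup.mem_centralizer_iff.mp x.2 _ hz).symm
      set z : L := ((y * x⁻¹ : C) : L) with hzdef
      have hyz : (⟨q, hqL⟩ : L) * (x : L) * (⟨q, hqL⟩ : L)⁻¹ = z * (x : L) := by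
        rw [hzdef]
        simp [hy]
      obtain ⟨e, he⟩ := Invol.pow_ppow_eq_one_of_mem (Grp.pCore_isPGroup (p := p) (G := L)) hz
      have hxo' : (orderOf (x : L)).Coprime p := by rwa [Subgroup.orderOf_coe]
      have h1 : z ^ orderOf (x : L) = 1 := by
        have h2 := congrArg (fun w => w ^ orderOf (x : L)) hyz
        simp only [conj_pow, pow_orderOf_eq_one, mul_one, mul_inv_cancel, hcz.symm.mul_pow] at h2
        exact h2.symm
      have hz1 : z = 1 := orderOf_eq_one_iff.mp (Nat.eq_one_of_dvd_coprimes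
        (hxo'.pow_right e) (orderOf_dvd_of_pow_eq_one h1) (orderOf_dvd_of_pow_eq_one he))
      rw [hz1, one_mul, mul_inv_eq_iff_eq_mul] at hyz
      exact congrArg Subtype.val hyz
    have h1 := Invol.eq_one_of_coprime_of_mem hQT' (hCQ hxQ) hxo
    exact Subtype.ext (Subtype.ext h1)
  exact Grp.le_pCore inferInstance hCp

end Cfsg.Agent.S2961
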