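import Cfsg.Prelude

-- import your own Cfsg.Agent.* helpers here

set_option autoImplicit false
open Cfsg

open scoped Pointwise commutatorElement

namespace Cfsg.Agent.S2963

/-- Let n be odd. If the symmetric group of degree n is a minimal parabolic group for the prime 2, that is, a Sylow 2-subgroup is not normal and lies in exactly one maximal subgroup, then n = 2^m + 1 for some natural number m. -/
theorem result (n : ℕ) (hn : Odd n) (h : Cfsg.IsPMinimal 2 (Equiv.Perm (Fin n))) : ∃ m : ℕ, n = 2 ^ m + 1 := by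
  classical
  haveI := Fact.mk Nat.prime_two
  obtain ⟨T⟩ : Nonempty (Sylow 2 (Equiv.Perm (Fin n))) := inferInstance
  obtain ⟨hTn, hM⟩ := h T
  obtain ⟨x, hx⟩ : ∃ x : Fin n, x ∈ MulAction.fixedPoints ↥(T : Subgroup (Equiv.Perm (Fin n))) (Fin n) :=
    T.isPGroup'.nonempty_fixed_point_of_prime_not_dvd_card (Fin n)
      (by rw [Nat.card_fin]; exact hn.not_two_dvd_nat)
  have hfix : ∀ g ∈ (T : Subgroup (Equiv.Perm (Fin n))), g x = x := fun g hg => hx ⟨g, hg⟩
  by_contra hcon
  obtain ⟨o, ho⟩ : ∃ o : Fin n, o ≠ x := by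
    by_contra hall
    push Not at hall
    refine hTn ?_
    have : Subsingleton (Fin n) := ⟨fun a b => (hall a).trans (hall b).symm⟩
    have : (T : Subgroup (Equiv.Perm (Fin n))) = ⊥ := Subgroup.eq_bot_of_subsingleton _
    rw [this]; infer_instance
  set O := MulAction.orbit ↥(T : Subgroup (Equiv.Perm (Fin n))) o with hO
  obtain ⟨y, hyx, hyO⟩ : ∃ y : Fin n, y ≠ x ∧ y ∉ O := by
    by_contra hall
    push Not at hall
    have hxO : x ∉ O := fun hxO => by
      have h1 : o ∈ MulAction.orbit ↥(T : Subgroup (Equiv.Perm (Fin n))) x :=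
        MulAction.mem_orbit_symm.mp hxO
      obtain ⟨g, hg⟩ := h1
      exact ho (hg.symm.trans (hx g))
    have hOeq : O = {x}ᶜ := Set.ext fun a => ⟨fun ha hax => hxO (Set.mem_singleton_iff.mp hax ▸ ha),
      fun ha => hall a ha⟩
    obtain ⟨k, hk⟩ := (T.isPGroup').card_orbit o
    refine hcon ⟨k, ?_⟩
    rw [← hO, hOeq, Nat.card_coe_set_eq, Set.ncard_compl, Set.ncard_singleton, Nat.card_fin] at hk
    have := hn.pos
    omega
  set s : Set (Fin n) := insert x O with hs
  set K := MulAction.stabilizer (Equiv.Perm (Fin n)) s with hK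
  have hTs : (T : Subgroup (Equiv.Perm (Fin n))) ≤ K := by
    have h1 : ∀ g ∈ (T : Subgroup (Equiv.Perm (Fin n))), ∀ a ∈ s, g a ∈ s := by
      intro g hg a ha
      rcases ha with rfl | ha
      · rw [hfix g hg]; exact Set.mem_insert _ _
      · obtain ⟨k, rfl⟩ := ha
        exact Set.mem_insert_of_mem _ ⟨⟨g, hg⟩ * k, rfl⟩
    intro g hg
    rw [hK, MulAction.mem_stabilizer_iff]
    refine Set.Subset.antisymm ?_ fun a ha => ⟨g⁻¹ a, h1 _ (inv_mem hg) a ha, g.apply_symm_apply a⟩
    rintro _ ⟨a, ha, rfl⟩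
    exact h1 g hg a ha
  have hoS : o ∈ s := Set.mem_insert_of_mem _ (MulAction.mem_orbit_self o)
  have hxS : x ∈ s := Set.mem_insert _ _
  have hyS : y ∉ s := fun hy => by rcases hy with h1 | h1 <;> [exact hyx h1; exact hyO h1]
  have hswap : Equiv.swap x o ∈ K := by
    rw [hK, MulAction.mem_stabilizer_iff]
    have h1 : ∀ a ∈ s, Equiv.swap x o a ∈ s := fun a ha => by
      rw [Equiv.swap_apply_def]; split_ifs <;> assumption
    exact Set.Subset.antisymm (by rintro _ ⟨a, ha, rfl⟩; exact h1 a ha)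
      fun a ha => ⟨Equiv.swap x o a, h1 a ha, Equiv.swap_apply_self _ _ _⟩
  have hKtop : K ≠ ⊤ := fun hKt => by
    have h1 : Equiv.swap o y ∈ K := by rw [hKt]; trivial
    rw [hK, MulAction.mem_stabilizer_iff] at h1
    exact hyS (h1.subset ⟨o, hoS, Equiv.swap_apply_left o y⟩)
  haveI : Nontrivial (Fin n) := ⟨⟨o, x, ho⟩⟩
  have hSx : IsCoatom (MulAction.stabilizer (Equiv.Perm (Fin n)) x) :=
    MulAction.IsPreprimitive.isCoatom_stabilizer_of_isPreprimitive _ x
  obtain ⟨M, hMc, hKM⟩ := (eq_top_or_exists_le_coatom K).resolve_left hKtop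
  obtain ⟨M₀, -, huniq⟩ := hM
  have e1 := huniq M ⟨hMc, hTs.trans hKM⟩
  have e2 := huniq _ ⟨hSx, fun g hg => hfix g hg⟩
  have := hKM hswap
  rw [e1, ← e2, MulAction.mem_stabilizer_iff, Equiv.Perm.smul_def, Equiv.swap_apply_left] at this
  exact ho this

end Cfsg.Agent.S2963
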