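import Cfsg.Statements.S2968
import Mathlib
import Cfsg.Agent.Lib.Invol.IsolatedElement
import Cfsg.Agent.S1939
-- import your own Cfsg.Agent.* helpers here

set_option autoImplicit false
open Cfsg

namespace Cfsg.Agent.S2968

/-- Let G be a finite group, p a prime, P a Sylow p-subgroup of G and x ∈ P an element of p-power order which is isolated in G (the only conjugate of x commuting with x is x itself). Then x lies in the centre of P, and the subgroup generated by x is both strongly closed and weakly closed in P with respect to G. -/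
theorem result {G : Type*} [Group G] [Finite G] {p : ℕ} [Fact p.Prime] (P : Sylow p G) (x : G) (hxP : x ∈ (P : Subgroup G)) (hx : ∃ k : ℕ, orderOf x = p ^ k) (hiso : Cfsg.IsIsolated x) : x ∈ (P : Subgroup G) ⊓ Subgroup.centralizer ((P : Subgroup G) : Set G) ∧ Cfsg.IsStronglyClosed (Subgroup.zpowers x) (P : Subgroup G) ∧ Cfsg.IsWeaklyClosed (Subgroup.zpowers x) (P : Subgroup G) := by
  have hwc : ∀ g : G, g * x * g⁻¹ ∈ (P : Subgroup G) → g * x * g⁻¹ = x :=
    fun g hg => Invol.isolated_eq hiso P.isPGroup' hxP hg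
  refine ⟨⟨hxP, ?_⟩, ⟨Subgroup.zpowers_le.mpr hxP, ?_⟩, ⟨Subgroup.zpowers_le.mpr hxP, ?_⟩⟩
  · exact Subgroup.mem_centralizer_iff.mpr fun r hr => (Invol.isolated_central hiso P.isPGroup' hxP r hr).eq.symm
  · intro y hy g hg
    rw [← mem_powers_iff_mem_zpowers] at hy
    obtain ⟨n, rfl⟩ := hy
    rw [S1939.result P x hxP hwc n g hg]
    exact Subgroup.npow_mem_zpowers x n
  · intro g hg
    have h1 := hwc g (hg (Subgroup.mem_map_of_mem _ (Subgroup.mem_zpowers x)))
    rw [MonoidHom.map_zpowers]
    exact congrArg Subgroup.zpowers h1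

end Cfsg.Agent.S2968
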