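import Cfsg.Statements.S2969
import Mathlib
import Cfsg.Agent.Lib.Invol.IsolatedElement
-- import your own Cfsg.Agent.* helpers here

set_option autoImplicit false
open Cfsg

namespace Cfsg.Agent.S2969

/-- Let G be a finite group, p a prime and x ∈ G an element of p-power order which is isolated in G. If R is a p-subgroup of G containing x, then N_G(R) ≤ C_G(x); in particular x lies in the centre of R. Moreover, if x lies in a normal subgroup N of a subgroup H of G, then H = N·C_H(x). -/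
theorem result {G : Type*} [Group G] [Finite G] {p : ℕ} [Fact p.Prime] (x : G) (hx : ∃ k : ℕ, orderOf x = p ^ k) (hiso : Cfsg.IsIsolated x) : (∀ R : Subgroup G, IsPGroup p ↥R → x ∈ R → Subgroup.normalizer (R : Set G) ≤ Subgroup.centralizer ({x} : Set G)) ∧ (∀ H N : Subgroup G, N ≤ H → H ≤ Subgroup.normalizer (N : Set G) → x ∈ N → N ⊔ (H ⊓ Subgroup.centralizer ({x} : Set G)) = H) := by
  refine ⟨fun R hR hxR => Invol.isolated_normalizer_le hiso hR hxR, fun H N hNH hHN hxN => ?_⟩
  refine le_antisymm (sup_le hNH inf_le_left) fun h hh => ?_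
  obtain ⟨k, hk⟩ := hx
  obtain ⟨R, hR⟩ := (Invol.isPGroup_zpowers (x := (⟨x, hxN⟩ : N)) (p := p) (n := k)
    (by rw [Subgroup.orderOf_mk, hk])).exists_le_sylow
  have hy : h * x * h⁻¹ ∈ N := (Subgroup.mem_normalizer_iff.mp (hHN hh) x).mp hxN
  obtain ⟨n, hn⟩ := Invol.exists_conj_mem_sylow (x := (⟨_, hy⟩ : N)) (p := p) (n := k)
    (by rw [Subgroup.orderOf_mk, Invol.orderOf_conj_eq, hk]) R
  have h1 : ((n : G) * h) * x * ((n : G) * h)⁻¹ = x := by
    refine Invol.isolated_eq hiso (R.isPGroup'.map N.subtype)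
      ⟨⟨x, hxN⟩, hR (Subgroup.mem_zpowers _), rfl⟩ ?_
    have hmem : (n : G) * (h * x * h⁻¹) * (n : G)⁻¹ ∈ (R : Subgroup N).map N.subtype := ⟨_, hn, rfl⟩
    simpa [mul_assoc] using hmem
  have hc : (n : G) * h ∈ H ⊓ Subgroup.centralizer ({x} : Set G) :=
    ⟨mul_mem (hNH n.2) hh, Subgroup.mem_centralizer_singleton_iff.mpr (mul_inv_eq_iff_eq_mul.mp h1)⟩
  have := mul_mem (Subgroup.mem_sup_left (T := H ⊓ Subgroup.centralizer ({x} : Set G)) (inv_mem n.2))
    (Subgroup.mem_sup_right (S := N) hc)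
  rwa [inv_mul_cancel_left] at this

end Cfsg.Agent.S2969
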