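import Cfsg.Statements.S2970
import Mathlib
import Cfsg.Agent.Lib.Invol.IsolatedElement
import Cfsg.Agent.Lib.Invol.CharP
-- import your own Cfsg.Agent.* helpers here

set_option autoImplicit false
open Cfsg

namespace Cfsg.Agent.S2970

/-- Let G be a finite group, p a prime and x ∈ G an element of p-power order which is isolated in G. Then the image of x in any quotient G ⧸ N is isolated in G ⧸ N; and if x ≠ 1 and the Sylow p-subgroups of G are cyclic, then G has a normal p-complement. -/
theorem result {G : Type*} [Group G] [Finite G] {p : ℕ} [Fact p.Prime] (x : G) (hx : ∃ k : ℕ, orderOf x = p ^ k) (hiso : Cfsg.IsIsolated x) : (∀ (N : Subgroup G) [N.Normal], Cfsg.IsIsolated (QuotientGroup.mk x : G ⧸ N)) ∧ (x ≠ 1 → (∀ P : Sylow p G, IsCyclic ↥(P : Subgroup G)) → Cfsg.HasNormalPComplement p G) := by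
  obtain ⟨k, hk⟩ := hx
  constructor
  · intro N hNn gb hcomm
    induction gb using QuotientGroup.induction_on with | _ g => ?_
    set xb : G ⧸ N := QuotientGroup.mk' N x with hxb
    set yb : G ⧸ N := QuotientGroup.mk' N (g * x * g⁻¹) with hyb
    have hcomm' : Commute xb yb := hcomm
    set Mb := Subgroup.closure ({xb, yb} : Set (G ⧸ N)) with hMb
    set M := Mb.comap (QuotientGroup.mk' N) with hM
    have hxM : x ∈ M := Subgroup.subset_closure (by simp [hxb])
    have hyM : g * x * g⁻¹ ∈ M := Subgroup.subset_closure (by simp [hyb])
    obtain ⟨R, hR⟩ := (Invol.isPGroup_zpowers (x := (⟨x, hxM⟩ : M)) (p := p) (n := k)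
      (by rw [Subgroup.orderOf_mk, hk])).exists_le_sylow
    obtain ⟨m, hm⟩ := Invol.exists_conj_mem_sylow (x := (⟨_, hyM⟩ : M)) (p := p) (n := k)
      (by rw [Subgroup.orderOf_mk, Invol.orderOf_conj_eq, hk]) R
    have h1 : (m : G) * (g * x * g⁻¹) * (m : G)⁻¹ = x := by
      have h2 : (m : G) * g * x * ((m : G) * g)⁻¹ = x := by
        refine Invol.isolated_eq hiso (R.isPGroup'.map M.subtype)
          ⟨⟨x, hxM⟩, hR (Subgroup.mem_zpowers _), rfl⟩ ?_
        have hmem : (m : G) * (g * x * g⁻¹) * (m : G)⁻¹ ∈ (R : Subgroup M).map M.subtype := ⟨_, hm, rfl⟩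
        simpa [mul_assoc] using hmem
      simpa [mul_assoc] using h2
    have hcy : Commute (QuotientGroup.mk' N (m : G)) yb := by
      have hm' : QuotientGroup.mk' N (m : G) ∈ Mb := m.2
      have hle : Mb ≤ Subgroup.centralizer ({yb} : Set (G ⧸ N)) := by
        rw [hMb, Subgroup.closure_le]
        rintro z (rfl | rfl)
        · exact Subgroup.mem_centralizer_singleton_iff.mpr hcomm'.eq
        · exact Subgroup.mem_centralizer_singleton_iff.mpr rfl
      exact Subgroup.mem_centralizer_singleton_iff.mp (hle hm')
    have h3 := congrArg (QuotientGroup.mk' N) h1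
    rw [map_mul, map_mul, map_inv] at h3
    change QuotientGroup.mk' N (m : G) * yb * (QuotientGroup.mk' N (m : G))⁻¹ = xb at h3
    rw [hcy.eq, mul_inv_cancel_right] at h3
    exact h3
  · intro hx1 hcyc
    obtain ⟨P, hP⟩ := (Invol.isPGroup_zpowers (p := p) hk).exists_le_sylow
    have hxP : x ∈ (P : Subgroup G) := hP (Subgroup.mem_zpowers x)
    have := hcyc P
    set C := Subgroup.centralizer ((P : Subgroup G) : Set G)
    set N := Subgroup.normalizer ((P : Subgroup G) : Set G) with hNdef
    have hle : N ≤ C := by
      have hfix : ∀ n : N, (orderOf n).Coprime p → ∀ a ∈ (P : Subgroup G), Commute (n : G) a := by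
        intro n hn
        have hno : (orderOf (n : G)).Coprime p := by rwa [Subgroup.orderOf_coe]
        have hnx : Commute (n : G) x :=
          Subgroup.mem_centralizer_singleton_iff.mp (Invol.isolated_normalizer_le hiso P.isPGroup' hxP n.2)
        intro a ha
        obtain ⟨i, hi⟩ := P.isPGroup' ⟨a, ha⟩
        replace hi : a ^ p ^ i = 1 := congrArg Subtype.val hi
        induction i generalizing a with
        | zero =>
          rw [pow_zero, pow_one] at hi
          rw [hi]; exact Commute.one_right _
        | succ i ih =>
          have hap : Commute (n : G) (a ^ p) :=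
            ih (a ^ p) (pow_mem ha p) (by rw [← pow_mul, ← pow_succ', hi])
          set z := (n : G) * a * (n : G)⁻¹ * a⁻¹ with hz
          have hzP : z ∈ (P : Subgroup G) :=
            mul_mem ((Subgroup.mem_normalizer_iff.mp n.2 a).mp ha) (inv_mem ha)
          have hzp : z ^ p = 1 := by
            have hc : Commute ((n : G) * a * (n : G)⁻¹) a⁻¹ := by
              have h := (IsCyclic.isMulCommutative (α := (P : Subgroup G))).is_comm.comm
                ⟨_, (Subgroup.mem_normalizer_iff.mp n.2 a).mp ha⟩ ⟨a⁻¹, inv_mem ha⟩
              exact congrArg Subtype.val h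
            rw [hz, hc.mul_pow, conj_pow, hap.eq, mul_inv_cancel_right, inv_pow, mul_inv_cancel]
          have hzx : Commute (n : G) z := by
            rcases eq_or_ne z 1 with h | h
            · rw [h]; exact Commute.one_right _
            have hzo : orderOf z = p := orderOf_eq_prime hzp h
            obtain ⟨j, -, hj⟩ := (Nat.dvd_prime_pow (Fact.out : p.Prime)).mp (dvd_of_eq hk)
            obtain ⟨e, he⟩ : ∃ e, k = e + 1 := ⟨k - 1, by
              have : k ≠ 0 := by rintro rfl; exact hx1 (orderOf_eq_one_iff.mp (by simpa using hk))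
              omega⟩
            have hwo : orderOf (x ^ p ^ e) = p := by
              rw [orderOf_pow' _ (pow_ne_zero _ (Fact.out : p.Prime).ne_zero), hk, he, pow_succ,
                Nat.gcd_mul_right_left, Nat.mul_div_cancel_left _ (pow_pos (Fact.out : p.Prime).pos _)]
            obtain ⟨l, hl⟩ : ∃ l : ℤ, (x ^ p ^ e) ^ l = z := by
              classical
              have := Fintype.ofFinite (P : Subgroup G)
              set w : (P : Subgroup G) := ⟨x ^ p ^ e, pow_mem hxP _⟩ with hw
              have hle2 := IsCyclic.card_pow_eq_one_le (α := (P : Subgroup G)) (Fact.out : p.Prime).pos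
              have hsub : (Finset.univ.filter fun a => a ∈ Subgroup.zpowers w) ⊆
                  Finset.univ.filter fun a : (P : Subgroup G) => a ^ p = 1 := by
                intro a ha
                obtain ⟨l, rfl⟩ := Subgroup.mem_zpowers_iff.mp (Finset.mem_filter.mp ha).2
                refine Finset.mem_filter.mpr ⟨Finset.mem_univ _, ?_⟩
                rw [← zpow_natCast, ← zpow_mul, mul_comm, zpow_mul, zpow_natCast]
                have : w ^ p = 1 := Subtype.ext (by
                  change (x ^ p ^ e) ^ p = 1
                  exact orderOf_dvd_iff_pow_eq_one.mp hwo.dvd)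
                rw [this, one_zpow]
              have heq := Finset.eq_of_subset_of_card_le hsub (by
                refine hle2.trans (le_of_eq ?_)
                rw [← Fintype.card_subtype, ← Nat.card_eq_fintype_card]
                have hwp : orderOf w = p := by rw [hw, Subgroup.orderOf_mk, hwo]
                exact (hwp.symm.trans (Nat.card_zpowers w).symm))
              have hzmem : (⟨z, hzP⟩ : (P : Subgroup G)) ∈
                  Finset.univ.filter fun a : (P : Subgroup G) => a ^ p = 1 :=
                Finset.mem_filter.mpr ⟨Finset.mem_univ _, Subtype.ext hzp⟩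
              rw [← heq] at hzmem
              obtain ⟨l, hl⟩ := Subgroup.mem_zpowers_iff.mp (Finset.mem_filter.mp hzmem).2
              exact ⟨l, congrArg Subtype.val hl⟩
            rw [← hl]
            exact (hnx.pow_right _).zpow_right l
          exact Invol.commute_of_stabilises hno (k := 1) (by rw [pow_one, hzp]) hzx (by rw [hz]; group)
      intro g hg
      have htop : (⊤ : Subgroup N) ≤ C.subgroupOf N := by
        rw [← Invol.pResidual_sup_sylow (P.subtype (N := N) Subgroup.le_normalizer)]
        refine sup_le ((Subgroup.closure_le _).mpr fun n hn => ?_) ?_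
        · exact Subgroup.mem_centralizer_iff.mpr fun a ha => (hfix n hn a ha).eq.symm
        · intro r hr
          refine Subgroup.mem_centralizer_iff.mpr fun a ha => ?_
          exact congrArg Subtype.val
            ((IsCyclic.isMulCommutative (α := (P : Subgroup G))).is_comm.comm ⟨a, ha⟩ ⟨(r : G), hr⟩)
      exact htop (Subgroup.mem_top ⟨g, hg⟩)
    exact ⟨P, _, MonoidHom.normal_ker _, MonoidHom.ker_transferSylow_isComplement' P hle⟩

end Cfsg.Agent.S2970
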