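import Cfsg.Statements.S2971
import Cfsg.Agent.S2970
import Cfsg.Agent.Lib.Invol.RankOne
import Cfsg.Agent.Lib.Grp.Cores
-- import your own Cfsg.Agent.* helpers here

set_option autoImplicit false
open Cfsg

namespace Cfsg.Agent.S2971

/-- Let G be a finite group and p an odd prime such that G has p-rank at most 1 (no elementary abelian subgroup of order p²). If x ∈ G is an isolated element of order p, then x is central modulo the largest normal subgroup of G of order prime to p. -/
theorem result {G : Type*} [Group G] [Finite G] {p : ℕ} [Fact p.Prime] (hp : p ≠ 2) (hrk : Cfsg.PRankLE p 1 G) (x : G) (hx : orderOf x = p) (hiso : Cfsg.IsIsolated x) : Cfsg.InZStar p x := by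
  classical
  have hcyc : ∀ P : Sylow p G, IsCyclic (P : Subgroup G) := by
    intro P
    by_cases hP : (P : Subgroup G) = ⊥
    · rw [hP]; infer_instance
    have : Nontrivial (P : Subgroup G) := (Subgroup.nontrivial_iff_ne_bot _).mpr hP
    have := P.isPGroup'.center_nontrivial
    have hd : p ∣ Nat.card (Subgroup.center (P : Subgroup G)) := by
      obtain ⟨m, hm⟩ := (P.isPGroup'.to_subgroup (Subgroup.center (P : Subgroup G))).exists_card_eq
      have : 1 < Nat.card (Subgroup.center (P : Subgroup G)) := Finite.one_lt_card
      rw [hm] at this ⊢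
      exact dvd_pow_self p (by rintro rfl; simp at this)
    obtain ⟨z, hz⟩ := exists_prime_orderOf_dvd_card' p hd
    have hzp : (z : (P : Subgroup G)) ^ p = 1 := by
      exact orderOf_dvd_iff_pow_eq_one.mp (by rw [Subgroup.orderOf_coe z, hz])
    refine Invol.isCyclic_of_pow_eq_one_mem P.isPGroup' hp z.2 hzp fun y hy => ?_
    set w : (P : Subgroup G) := (z : (P : Subgroup G)) with hw
    set A : Subgroup (P : Subgroup G) := Subgroup.closure {w, y} with hA
    have hgen : ∀ a ∈ ({w, y} : Set (P : Subgroup G)), ∀ b ∈ ({w, y} : Set (P : Subgroup G)), a * b = b * a := by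
      rintro a (rfl | rfl) b (rfl | rfl)
      · rfl
      · exact (Subgroup.mem_center_iff.mp z.2 b).symm
      · exact Subgroup.mem_center_iff.mp z.2 a
      · rfl
    have hcm : IsMulCommutative A := Subgroup.isMulCommutative_closure hgen
    have hexp : ∀ a ∈ A, a ^ p = 1 := by
      intro a ha
      induction ha using Subgroup.closure_induction with
      | mem a ha => rcases ha with rfl | rfl; exacts [hzp, hy]
      | one => exact one_pow p
      | mul a b ha hb iha ihb =>
        have : Commute a b := congrArg Subtype.val (hcm.is_comm.comm ⟨a, ha⟩ ⟨b, hb⟩)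
        rw [this.mul_pow, iha, ihb, one_mul]
      | inv a _ iha => rw [inv_pow, iha, inv_one]
    have hcard : Nat.card A ≤ p := by
      have := hrk (A.map (P : Subgroup G).subtype) (Subgroup.map_isMulCommutative A _) (by
        rintro _ ⟨a, ha, rfl⟩
        rw [← map_pow, hexp a ha, map_one])
      rwa [Subgroup.card_map_of_injective (P : Subgroup G).subtype_injective, pow_one] at this
    have hsub : Subgroup.zpowers w ≤ A := Subgroup.zpowers_le.mpr (Subgroup.subset_closure (by simp))
    have := Subgroup.eq_of_le_of_card_ge hsub (by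
      rw [Nat.card_zpowers, hw, Subgroup.orderOf_coe z, hz]; exact hcard)
    rw [this]
    exact Subgroup.subset_closure (by simp)
  obtain ⟨P, N, hN, hNP⟩ := (Cfsg.Agent.S2970.result x ⟨1, by rw [hx, pow_one]⟩ hiso).2
    (by rintro rfl; exact (Fact.out : p.Prime).ne_one (by rw [← hx, orderOf_one])) hcyc
  have hle : N ≤ Cfsg.pPrimeCore p G := (Grp.pPrimeCore_le_iff hN).mpr (Nat.Coprime.symm
    ((Fact.out : p.Prime).coprime_iff_not_dvd.mpr (by rw [← hNP.index_eq_card]; exact P.not_dvd_index)))
  intro g
  apply hle
  have := hcyc P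
  have hcomm : commutator G ≤ N :=
    hN.commutator_le_of_self_sup_commutative_eq_top hNP.sup_eq_top inferInstance
  exact hcomm (Subgroup.commutator_mem_commutator (Subgroup.mem_top g) (Subgroup.mem_top x))

end Cfsg.Agent.S2971
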