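import Cfsg.Prelude
import Cfsg.Agent.Lib.Grp.Subnormal
import Cfsg.Agent.Lib.Grp.Frattini
import Cfsg.Agent.Lib.Grp.Solvable
import Cfsg.Agent.Lib.Grp.Coprime
-- import your own Cfsg.Agent.* helpers here

set_option autoImplicit false
open Cfsg

open scoped Pointwise commutatorElement

namespace Cfsg.Agent.S2972

/-- Let G be a finite group, p a prime and x ∈ G an isolated element of order p (the only conjugate of x commuting with x is x) which is not central modulo the largest normal subgroup of order prime to p, while x is central modulo the largest normal subgroup of order prime to p in every proper subgroup containing x, and the image of x is so in every quotient of G by a nontrivial normal subgroup (a minimal counterexample to the Z*_p statement). Then the derived subgroup G' is a non-abelian simple group and G = G'⟨x⟩. -/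
theorem result {G : Type*} [Group G] [Finite G] {p : ℕ} [Fact p.Prime] (x : G) (hx : orderOf x = p) (hiso : Cfsg.IsIsolated x) (hnz : ¬ Cfsg.InZStar p x) (hmin : ∀ (H : Subgroup G) (hxH : x ∈ H), H ≠ ⊤ → Cfsg.InZStar p (⟨x, hxH⟩ : ↥H)) (hquot : ∀ (N : Subgroup G) [N.Normal], N ≠ ⊥ → Cfsg.InZStar p (QuotientGroup.mk x : G ⧸ N)) : IsSimpleGroup ↥(commutator G) ∧ ¬ IsMulCommutative ↥(commutator G) ∧ commutator G ⊔ Subgroup.zpowers x = ⊤ := by
  classical
  have hnc : ∃ g : G, g * x * g⁻¹ ≠ x := by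
    by_contra h
    push Not at h
    exact hnz fun g => by rw [h g, mul_inv_cancel]; exact one_mem _
  have hcore : Cfsg.pPrimeCore p G = ⊥ := by
    by_contra hne
    haveI := Grp.pPrimeCore_isNormal (p := p) (G := G)
    refine hnz fun g => ?_
    have h := hquot (Cfsg.pPrimeCore p G) hne (g : G ⧸ Cfsg.pPrimeCore p G)
    rw [Grp.pPrimeCore_quotient_eq_bot, Subgroup.mem_bot, ← QuotientGroup.mk_mul, ← QuotientGroup.mk_inv,
      ← QuotientGroup.mk_mul, ← QuotientGroup.mk_inv, ← QuotientGroup.mk_mul, QuotientGroup.eq_one_iff] at h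
    exact h
  have hsn : ∀ R : Subgroup G, R.IsSubnormal → (Nat.card ↥R).Coprime p → R = ⊥ := fun R hR hc =>
    le_bot_iff.mp (hcore ▸ Grp.le_pPrimeCore_of_isSubnormal hR hc)
  have hcentral : ∀ (K : Subgroup G), x ∈ K → K ≠ ⊤ → ∀ N : Subgroup G, N.Normal → N ≤ K →
      ∀ n ∈ N, n * x = x * n := by
    intro K hxK hK N hN hNK n hn
    have h := hmin K hxK hK (⟨n, hNK hn⟩ : ↥K)
    haveI := Grp.pPrimeCore_isNormal (p := p) (G := ↥K)
    set O := (Cfsg.pPrimeCore p ↥K).map K.subtype
    have hmem : n * x * n⁻¹ * x⁻¹ ∈ N ⊓ O := by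
      refine ⟨?_, ⟨_, h, rfl⟩⟩
      simpa [mul_assoc] using N.mul_mem hn (hN.conj_mem n⁻¹ (N.inv_mem hn) x)
    have hKO : K ≤ Subgroup.normalizer (O : Set G) :=
      (Subgroup.normal_subgroupOf_iff_le_normalizer (Subgroup.map_subtype_le _)).mp (by
        rw [Subgroup.subgroupOf, Subgroup.comap_map_eq_self_of_injective (Subgroup.subtype_injective K)]
        infer_instance)
    have hsub : (N ⊓ O).IsSubnormal := Subgroup.IsSubnormal.step _ N inf_le_left hN.isSubnormal
      ((Subgroup.normal_subgroupOf_iff_le_normalizer inf_le_left).mpr fun g hg => by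
        rw [Grp.mem_normalizer_iff_smul, Subgroup.smul_inf, Grp.conj_smul_eq_self_of_mem hg,
          Grp.normalizer_le_smul hKO (hNK hg)])
    have h1 := hsn _ hsub (Nat.Coprime.coprime_dvd_left (Subgroup.card_dvd_of_le inf_le_right)
      ((Grp.pPrimeCore_coprime (p := p) (G := ↥K)).coprime_dvd_left (Subgroup.card_map_dvd _ _)))
    rw [h1, Subgroup.mem_bot, mul_inv_eq_one, mul_inv_eq_iff_eq_mul] at hmem
    exact hmem
  -- isolated elements are central in their Sylow subgroups
  have hsyl : ∀ S : Sylow p G, x ∈ S → ∀ s ∈ S, s * x = x * s := by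
    intro S hxS
    haveI : Group.IsNilpotent ↥(S : Subgroup G) := S.isPGroup'.isNilpotent
    set C := (Subgroup.centralizer ({x} : Set G)).subgroupOf (S : Subgroup G)
    by_contra hne
    push Not at hne
    obtain ⟨s, hs, hsx⟩ := hne
    have hlt : C < ⊤ := lt_top_iff_ne_top.mpr fun h => hsx (Subgroup.mem_centralizer_singleton_iff.mp
      (Subgroup.subgroupOf_eq_top.mp h hs))
    obtain ⟨g, hgn, hgC⟩ := SetLike.exists_of_lt (Group.normalizerCondition_of_isNilpotent _ hlt)
    have hxC : (⟨x, hxS⟩ : ↥(S : Subgroup G)) ∈ C :=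
      Subgroup.mem_subgroupOf.mpr (Subgroup.mem_centralizer_singleton_iff.mpr rfl)
    have h1 := Subgroup.mem_centralizer_singleton_iff.mp
      (Subgroup.mem_subgroupOf.mp ((Subgroup.mem_normalizer_iff.mp hgn _).mp hxC))
    have h2 : (g : G) * x * (g : G)⁻¹ = x := hiso g h1.symm
    exact hgC (Subgroup.mem_subgroupOf.mpr
      (Subgroup.mem_centralizer_singleton_iff.mpr (mul_inv_eq_iff_eq_mul.mp h2)))
  have hxp : IsPGroup p ↥(Subgroup.zpowers x) :=
    IsPGroup.of_card (n := 1) (by rw [Nat.card_zpowers, hx, pow_one])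
  obtain ⟨S, hS⟩ := hxp.exists_le_sylow
  have hxS : x ∈ S := hS (Subgroup.mem_zpowers x)
  have hnontriv : (⊤ : Subgroup G) ≠ ⊥ := by
    intro h
    obtain ⟨g, hg⟩ := hnc
    exact hg (Subgroup.mem_bot.mp (h ▸ Subgroup.mem_top _) |>.trans (Subgroup.mem_bot.mp (h ▸ Subgroup.mem_top x)).symm)
  by_cases hall : ∀ N : Subgroup G, N.Normal → N ≠ ⊥ → (∀ K : Subgroup G, K.Normal → K ≤ N → K = ⊥ ∨ K = N) →
      ∀ n ∈ N, n * x = x * n
  · exfalso
    obtain ⟨N, hN, hN1, -, hNmin⟩ := Grp.exists_minimal_normal_le (N := (⊤ : Subgroup G)) hnontriv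
    set C := Subgroup.centralizer (N : Set G)
    haveI := hN
    have hxC : x ∈ C := Subgroup.mem_centralizer_iff.mpr fun n hn => hall N hN hN1 hNmin n hn
    obtain ⟨g, hg⟩ := hnc
    have hCn : C.Normal := inferInstance
    have hC : C = ⊤ := by
      by_contra hC
      exact hg (hiso g ((hcentral C hxC hC C hCn le_rfl _ (hCn.conj_mem x hxC g)).symm))
    have hNZ : ∀ n ∈ N, ∀ k : G, n * k = k * n := fun n hn k =>
      Subgroup.mem_centralizer_iff.mp (show k ∈ C by rw [hC]; trivial) n hn
    have hNab : IsMulCommutative ↥N := ⟨⟨fun a b => Subtype.ext (hNZ a a.2 b)⟩⟩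
    obtain ⟨r, hr, hrN⟩ := Grp.minimal_normal_solvable_isPGroup (Group.isSolvable_of_comm mul_comm') hN1 hNmin
    obtain ⟨k, hk⟩ := (haveI := Fact.mk hr; IsPGroup.iff_card.mp hrN)
    have hrp : r = p := by
      by_contra hne
      exact hN1 (hsn N hN.isSubnormal (hk ▸ Nat.Coprime.pow_left k ((Nat.coprime_primes hr Fact.out).mpr hne)))
    subst hrp
    set π := QuotientGroup.mk' N
    have hq := Grp.pPrimeCore_isNormal (p := r) (G := G ⧸ N)
    set M := (Cfsg.pPrimeCore r (G ⧸ N)).comap π with hM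
    have hMn : M.Normal := inferInstance
    have hNM : N ≤ M := fun n hn => by
      rw [hM, Subgroup.mem_comap, show π n = 1 from (QuotientGroup.eq_one_iff n).mpr hn]
      exact one_mem _
    have hidx : Nat.Coprime (Nat.card ↥(N.subgroupOf M)) (N.subgroupOf M).index := by
      rw [Nat.card_congr (Subgroup.subgroupOfEquivOfLe hNM).toEquiv, hk]
      refine Nat.Coprime.pow_left _ (Nat.Coprime.coprime_dvd_left (dvd_refl r) ?_)
      have : N.relIndex M = Nat.card ↥(Cfsg.pPrimeCore r (G ⧸ N)) := by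
        have h := Subgroup.relIndex_map_map π N M
        rw [QuotientGroup.ker_mk', sup_idem, sup_eq_left.mpr hNM, QuotientGroup.map_mk'_self,
          Subgroup.relIndex_bot_left, hM, Subgroup.map_comap_eq_self_of_surjective (QuotientGroup.mk'_surjective N)] at h
        exact h.symm
      show Nat.Coprime r (N.relIndex M)
      rw [this]
      exact Grp.pPrimeCore_coprime.symm
    obtain ⟨H, hH⟩ := Subgroup.exists_right_complement'_of_coprime hidx
    have hHn : H.Normal := ⟨fun h hh m => by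
      obtain ⟨n, hn, h', hh', rfl⟩ := Subgroup.mem_sup_of_normal_left.mp
        (show m ∈ N.subgroupOf M ⊔ H by rw [hH.sup_eq_top]; trivial)
      have hc : ∀ y : ↥M, n * y = y * n := fun y => Subtype.ext (hNZ n (Subgroup.mem_subgroupOf.mp hn) y)
      have : n * h' * h * (n * h')⁻¹ = h' * h * h'⁻¹ := by
        calc n * h' * h * (n * h')⁻¹ = n * (h' * h * h'⁻¹) * n⁻¹ := by group
          _ = h' * h * h'⁻¹ := by rw [hc, mul_inv_cancel_right]
      rw [this]
      exact H.mul_mem (H.mul_mem hh' hh) (H.inv_mem hh')⟩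
    have hHc : (Nat.card ↥H).Coprime r := by
      have h2 : Nat.card ↥H = (N.subgroupOf M).index := by rw [hH.symm.index_eq_card]
      rw [h2]
      refine (Nat.Coprime.coprime_dvd_left ?_ hidx).symm
      rw [Nat.card_congr (Subgroup.subgroupOfEquivOfLe hNM).toEquiv, hk]
      rcases k with _ | k
      · exact absurd (Subgroup.card_eq_one.mp (by rw [hk, pow_zero])) hN1
      · exact dvd_pow_self r k.succ_ne_zero
    have hH1 := hsn _ (hHn.isSubnormal.trans' hMn.isSubnormal)
      (by rwa [Subgroup.card_map_of_injective (Subgroup.subtype_injective M)])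
    have hMN : M ≤ N := fun m hm => by
      rw [Subgroup.map_eq_bot_iff_of_injective _ (Subgroup.subtype_injective M)] at hH1
      have h := hH.sup_eq_top
      rw [hH1, sup_bot_eq] at h
      exact Subgroup.subgroupOf_eq_top.mp h hm
    have h1 : g * x * g⁻¹ * x⁻¹ ∈ N := hMN (by
      have h := hquot N hN1 (g : G ⧸ N)
      rwa [← QuotientGroup.mk_inv, ← QuotientGroup.mk_inv, ← QuotientGroup.mk_mul, ← QuotientGroup.mk_mul,
        ← QuotientGroup.mk_mul] at h)
    refine hg (hiso g ?_)
    have e : g * x * g⁻¹ = (g * x * g⁻¹ * x⁻¹) * x := by group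
    rw [e]
    exact Commute.mul_right (hNZ _ h1 x).symm (Commute.refl x)
  push Not at hall
  obtain ⟨N, hN, hN1, hNmin, n, hn, hnx⟩ := hall
  haveI := hN
  have htop : N ⊔ Subgroup.zpowers x = ⊤ := by
    by_contra hne
    exact hnx (hcentral _ (Subgroup.mem_sup_right (Subgroup.mem_zpowers x)) hne N hN le_sup_left n hn)
  have hns : ¬ Group.IsSolvable ↥N := by
    intro hs
    obtain ⟨r, hr, hrN⟩ := Grp.minimal_normal_solvable_isPGroup hs hN1 hNmin
    obtain ⟨k, hk⟩ := (haveI := Fact.mk hr; IsPGroup.iff_card.mp hrN)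
    have hrp : r = p := by
      by_contra hne
      exact hN1 (hsn N hN.isSubnormal (hk ▸ Nat.Coprime.pow_left k ((Nat.coprime_primes hr Fact.out).mpr hne)))
    subst hrp
    have hG : IsPGroup r G := by
      have hd := Grp.card_sup_dvd_mul (H := Subgroup.zpowers x) (N := N)
        (by rw [Subgroup.normalizer_eq_top N]; exact le_top)
      rw [sup_comm, htop, Subgroup.card_top, Nat.card_zpowers, hx, hk, ← pow_succ'] at hd
      obtain ⟨l, -, hl⟩ := (Nat.dvd_prime_pow hr).mp hd
      exact IsPGroup.of_card hl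
    have hS' : (S : Subgroup G) = ⊤ := (S.3 (hG.to_subgroup ⊤) le_top).symm
    exact hnx (hsyl S hxS n (by rw [← SetLike.mem_coe, ← Sylow.coe_coe, hS']; trivial))
  have hperf : ⁅N, N⁆ = N := by
    refine (hNmin _ inferInstance (Subgroup.commutator_le_self N)).resolve_left fun h => hns ?_
    haveI : IsMulCommutative ↥N := Subgroup.commutator_self_eq_bot_iff.mp h
    exact Group.isSolvable_of_comm mul_comm'
  have hGN : commutator G = N := by
    refine le_antisymm ?_ (hperf.symm.le.trans (Subgroup.commutator_mono le_top le_top))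
    have hz : ∀ q : G ⧸ N, q ∈ Subgroup.zpowers (x : G ⧸ N) := by
      intro q
      induction q using QuotientGroup.induction_on with | _ g => ?_
      obtain ⟨a, ha, b, ⟨i, rfl⟩, rfl⟩ := Subgroup.mem_sup_of_normal_left.mp
        (show g ∈ N ⊔ Subgroup.zpowers x by rw [htop]; trivial)
      exact ⟨i, by simp [(QuotientGroup.eq_one_iff a).mpr ha]⟩
    rw [commutator_def, Subgroup.commutator_le]
    intro a _ b _
    rw [← QuotientGroup.eq_one_iff, ← QuotientGroup.mk'_apply, map_commutatorElement, commutatorElement_eq_one_iff_mul_comm]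
    obtain ⟨i, hi⟩ := hz a
    obtain ⟨j, hj⟩ := hz b
    simp only [QuotientGroup.mk'_apply]
    rw [← hi, ← hj]
    exact (Commute.zpow_zpow_self _ i j).eq
  refine ⟨?_, ?_, by rw [hGN]; exact htop⟩
  swap
  · rw [hGN]
    intro h
    exact hns (Group.isSolvable_of_comm mul_comm')
  rw [hGN]
  haveI : Nontrivial ↥N := (Subgroup.nontrivial_iff_ne_bot N).mpr hN1
  refine ⟨fun M hM => or_iff_not_imp_left.mpr fun hM1 => ?_⟩
  haveI := hM
  obtain ⟨M₀, hM₀n, hM₀1, hM₀M, hM₀min⟩ := Grp.exists_minimal_normal_le hM1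
  set R := M₀.map N.subtype with hR
  have hRsn : R.IsSubnormal := hM₀n.isSubnormal.trans' hN.isSubnormal
  have hR1 : R ≠ ⊥ := fun h => hM₀1 ((Subgroup.map_eq_bot_iff_of_injective _ (Subgroup.subtype_injective N)).mp h)
  obtain ⟨y, hyR, hyS, hy1⟩ : ∃ y ∈ R, y ∈ S ∧ y ≠ 1 := by
    by_contra h
    push Not at h
    have h0 : R ⊓ (S : Subgroup G) = ⊥ := (Subgroup.eq_bot_iff_forall _).mpr fun y hy => h y hy.1 hy.2
    have h1 := Grp.not_dvd_relIndex_sylow S hRsn
    rw [← Subgroup.inf_relIndex_right, inf_comm, h0, Subgroup.relIndex_bot_left] at h1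
    exact hR1 (hsn R hRsn ((Nat.Prime.coprime_iff_not_dvd Fact.out).mpr h1).symm)
  have hxy := hsyl S hxS y hyS
  have hNR : N ≤ Subgroup.normalizer (R : Set G) :=
    (Subgroup.normal_subgroupOf_iff_le_normalizer (Subgroup.map_subtype_le _)).mp (by
      rw [Subgroup.subgroupOf, Subgroup.comap_map_eq_self_of_injective (Subgroup.subtype_injective N)]
      exact hM₀n)
  set R' := R ⊓ MulAut.conj x • R with hR'
  have hyR' : y ∈ R' := ⟨hyR, by
    rw [← Grp.map_conj_eq_smul]
    exact ⟨y, hyR, by simp [← hxy]⟩⟩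
  have hNR2 : N ≤ Subgroup.normalizer (R' : Set G) := fun a ha => by
    have ha' : x⁻¹ * a * x ∈ N := by simpa using hN.conj_mem a ha x⁻¹
    rw [Grp.mem_normalizer_iff_smul, hR', Subgroup.smul_inf, Grp.normalizer_le_smul hNR ha,
      Grp.conj_smul_conj_smul, show a * x = x * (x⁻¹ * a * x) by group, ← Grp.conj_smul_conj_smul,
      Grp.normalizer_le_smul hNR ha']
  have hR'N : R' ≤ N := inf_le_left.trans (Subgroup.map_subtype_le _)
  have hR'0 : R'.subgroupOf N = M₀ := by
    have hn' : (R'.subgroupOf N).Normal := (Subgroup.normal_subgroupOf_iff_le_normalizer hR'N).mpr hNR2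
    refine (hM₀min _ hn' ?_).resolve_left fun h => hy1 ?_
    · intro a ha
      obtain ⟨b, hb, e⟩ := (Subgroup.mem_subgroupOf.mp ha).1
      rwa [← Subtype.ext e]
    · have := (Subgroup.eq_bot_iff_forall _).mp h ⟨y, hR'N hyR'⟩ (Subgroup.mem_subgroupOf.mpr hyR')
      exact congrArg Subtype.val this
  have hRR' : R' = R := by rw [hR, ← hR'0, Subgroup.map_subgroupOf_eq_of_le hR'N]
  have hxR : x ∈ Subgroup.normalizer (R : Set G) := by
    rw [Grp.mem_normalizer_iff_smul]
    exact (Subgroup.eq_of_le_of_card_ge (hRR'.ge.trans inf_le_right : R ≤ MulAut.conj x • R)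
      (by rw [Grp.card_conj_smul])).symm
  have hRn : R.Normal := Subgroup.normalizer_eq_top_iff.mp
    (top_unique (htop ▸ sup_le hNR (Subgroup.zpowers_le.mpr hxR)))
  refine top_unique fun a _ => hM₀M ?_
  obtain ⟨b, hb, e⟩ := ((hNmin R hRn (Subgroup.map_subtype_le _)).resolve_left hR1).ge a.2
  rwa [← Subtype.ext e]

end Cfsg.Agent.S2972
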