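import Cfsg.Statements.S2974
import Cfsg.Agent.Lib.Invol.IsolatedSfour.Ree.Main
import Cfsg.Agent.Lib.Invol.IsolatedSfour.LType.Main

set_option autoImplicit false
open Cfsg

namespace Cfsg.Agent.S2974

/-- Let G be a finite group, p a prime and x ∈ G an isolated element of order p (the only conjugate of x commuting with x is x) which is not central modulo the largest normal subgroup of order prime to p, while x is central modulo the largest normal subgroup of order prime to p in every proper subgroup containing x, and the image of x is so in every quotient of G by a nontrivial normal subgroup (a minimal counterexample to the Z*_p statement). Then the symmetric group of degree 4 is involved in G (G is not S₄-free); no Sylow 2-subgroup of G has a nontrivial abelian subgroup that is strongly closed in it with respect to G; and no Sylow 2-subgroup of G is isomorphic to a Sylow 2-subgroup of the special linear group SL₃ over a field with 2ⁿ elements, n ≥ 2. -/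
theorem result {G : Type*} [Group G] [Finite G] {p : ℕ} [Fact p.Prime] (x : G) (hx : orderOf x = p) (hiso : Cfsg.IsIsolated x) (hnz : ¬ Cfsg.InZStar p x) (hmin : ∀ (H : Subgroup G) (hxH : x ∈ H), H ≠ ⊤ → Cfsg.InZStar p (⟨x, hxH⟩ : ↥H)) (hquot : ∀ (N : Subgroup G) [N.Normal], N ≠ ⊥ → Cfsg.InZStar p (QuotientGroup.mk x : G ⧸ N)) : Cfsg.Involves (Equiv.Perm (Fin 4)) G ∧ (∀ (S : Sylow 2 G) (A : Subgroup G), A ≤ (S : Subgroup G) → IsMulCommutative ↥A → Cfsg.IsStronglyClosed A (S : Subgroup G) → A = ⊥) ∧ (∀ (S : Sylow 2 G) (n : ℕ) (F : Type) [Field F] [Fintype F], 2 ≤ n → Fintype.card F = 2 ^ n → ∀ T : Sylow 2 (Matrix.SpecialLinearGroup (Fin 3) F), ¬ Nonempty (↥(S : Subgroup G) ≃* ↥(T : Subgroup (Matrix.SpecialLinearGroup (Fin 3) F)))) := by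
  refine ⟨Agent.Invol.IsolatedSfour.involves_sfour Agent.Invol.IsolatedSfour.Ree.ree_good hx hiso hnz hmin hquot,
    fun S A hA hc hsc => Agent.Invol.IsolatedSfour.no_closed_abelian Agent.Invol.IsolatedSfour.Ree.ree_good
      hx hiso hnz hmin hquot S A hA hc hsc, ?_⟩
  rintro S n F _ _ hn hF T ⟨σ⟩
  haveI : Fact (Nat.Prime 2) := ⟨Nat.prime_two⟩
  haveI : CharP F 2 := Agent.Invol.Nat2.charP_of_card (p := 2) (n := n) hF
  obtain ⟨hK, -, htop⟩ := Cfsg.Agent.S2972.result x hx hiso hnz hmin hquot
  haveI := hK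
  have hp2 := Agent.Invol.IsolatedSmall.ne_two hx hiso hnz
  have hle : (S : Subgroup G) ≤ commutator G := fun a ha => by
    obtain ⟨k, hk⟩ := S.isPGroup' ⟨a, ha⟩
    exact Agent.Invol.IsolatedSfour.two_mem_commutator hx hp2 htop (congrArg Subtype.val hk)
  refine Agent.Invol.IsolatedSmall.false_of_good hx hiso hnz hmin hquot fun hp2 hdvd => ?_
  exact Agent.Invol.IsolatedSfour.LType.good (F := F)
    (hF ▸ le_trans (show 4 ≤ 2 ^ 2 by norm_num) (Nat.pow_le_pow_right two_pos hn)) (S.subtype hle) T
    ((Subgroup.subgroupOfEquivOfLe hle).trans σ) hp2 hdvd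

end Cfsg.Agent.S2974
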