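import Cfsg.Statements.S2998
import Cfsg.Agent.Lib.Fus.SPE
import Cfsg.Agent.Lib.Grp.Cores
-- import your own Cfsg.Agent.* helpers here

set_option autoImplicit false
open Cfsg

namespace Cfsg.Agent.S2998

/-- Let G be a finite group, p a prime, P a Sylow p-subgroup of G and x ∈ P an element such that N_G(R) ≤ C_G(x) for every nontrivial subgroup R of P. Then P ≤ C_G(x); every G-conjugate of x lying in P equals x (so g ∈ C_G(x) whenever g x g⁻¹ ∈ P); and for every normal subgroup N of G, the image of x in G ⧸ N has the same property with respect to the image of P: the normalizer of every nontrivial subgroup of the image of P centralizes the image of x. -/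
theorem result {G : Type*} [Group G] [Finite G] {p : ℕ} [Fact p.Prime] (P : Sylow p G) (x : G) (hxP : x ∈ (P : Subgroup G)) (hlc : ∀ R : Subgroup G, R ≤ (P : Subgroup G) → R ≠ ⊥ → Subgroup.normalizer (R : Set G) ≤ Subgroup.centralizer ({x} : Set G)) : (P : Subgroup G) ≤ Subgroup.centralizer ({x} : Set G) ∧ (∀ g : G, g * x * g⁻¹ ∈ (P : Subgroup G) → g * x * g⁻¹ = x) ∧ ∀ (N : Subgroup G) [N.Normal], ∀ R : Subgroup (G ⧸ N), R ≤ (P : Subgroup G).map (QuotientGroup.mk' N) → R ≠ ⊥ → Subgroup.normalizer (R : Set (G ⧸ N)) ≤ Subgroup.centralizer ({(QuotientGroup.mk x : G ⧸ N)} : Set (G ⧸ N)) := by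
  classical
  rcases eq_or_ne x 1 with rfl | hx1
  · refine ⟨fun y _ => Subgroup.mem_centralizer_singleton_iff.mpr (by simp), fun g _ => by simp,
      fun N _ R _ _ y _ => Subgroup.mem_centralizer_singleton_iff.mpr (by simp)⟩
  have hPne : (P : Subgroup G) ≠ ⊥ := fun e => hx1 (Subgroup.mem_bot.mp (e.le hxP))
  have hPC : (P : Subgroup G) ≤ Subgroup.centralizer ({x} : Set G) :=
    Subgroup.le_normalizer.trans (hlc _ le_rfl hPne)
  have hcore : Cfsg.kGeneratedCore p 1 (P : Subgroup G) ≤ Subgroup.centralizer ({x} : Set G) :=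
    Cfsg.Agent.Fus.kGeneratedCore_one_le fun R hR hne => hlc R hR hne
  refine ⟨hPC, fun g hg => ?_, fun N hN R hR hne => ?_⟩
  · have h := Cfsg.Agent.Fus.mem_of_conj_le_sylow P hcore (R := Subgroup.zpowers x) (β := g)
      (Subgroup.zpowers_le.mpr hxP) (by simpa using hx1)
      (by rw [MonoidHom.map_zpowers]; exact Subgroup.zpowers_le.mpr hg)
    rw [Subgroup.mem_centralizer_singleton_iff.mp h, mul_inv_cancel_right]
  intro ξ hξ
  obtain ⟨g, rfl⟩ := QuotientGroup.mk'_surjective N ξ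
  set π := QuotientGroup.mk' N
  set M := R.comap π with hM
  set Q := (P : Subgroup G) ⊓ M with hQ
  have hNM : N ≤ M := fun a ha => by
    rw [hM, Subgroup.mem_comap, QuotientGroup.mk'_apply, (QuotientGroup.eq_one_iff a).mpr ha]
    exact one_mem _
  have hQne : Q ≠ ⊥ := by
    intro e
    refine hne (eq_bot_iff.mpr fun r hr => ?_)
    obtain ⟨a, ha, rfl⟩ := hR hr
    rw [Subgroup.mem_bot.mp (e.le ⟨ha, hr⟩), map_one]
    exact one_mem _
  have hQsyl : ¬ p ∣ Q.relIndex M := by
    intro h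
    have hQN : ¬ p ∣ ((P : Subgroup G) ⊓ N).relIndex N := by
      rw [Subgroup.inf_relIndex_right]
      exact Cfsg.Agent.Grp.sylow_inf_normal_relIndex P N
    have hMQ : M = Q ⊔ N := by
      refine le_antisymm (fun a ha => ?_) (sup_le inf_le_right hNM)
      obtain ⟨b, hb, hbe⟩ := hR ha
      rw [show a = b * (b⁻¹ * a) by group]
      refine mul_mem (Subgroup.mem_sup_left ⟨hb, ?_⟩) (Subgroup.mem_sup_right (QuotientGroup.eq.mp hbe))
      show π b ∈ R
      rw [show π b = π a from hbe]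
      exact ha
    have hQN' : Q ⊓ N = (P : Subgroup G) ⊓ N := by
      rw [hQ, inf_assoc, inf_eq_right.mpr hNM]
    have e1 := Subgroup.relIndex_mul_relIndex (Q ⊓ N) Q M inf_le_left inf_le_right
    have e2 := Subgroup.relIndex_mul_relIndex (Q ⊓ N) N M inf_le_right hNM
    have e3 : N.relIndex M = (Q ⊓ N).relIndex Q := by
      rw [hMQ, Subgroup.relIndex_sup_right, Subgroup.inf_relIndex_left]
    rw [e3, mul_comm ((Q ⊓ N).relIndex N)] at e2
    have hpos : (Q ⊓ N).relIndex Q ≠ 0 := Subgroup.index_ne_zero_of_finite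
    have heq : Q.relIndex M = (Q ⊓ N).relIndex N := Nat.eq_of_mul_eq_mul_left (Nat.pos_of_ne_zero hpos) (e1.trans e2.symm)
    rw [heq, hQN'] at h
    exact hQN h
  -- Frattini
  have hgM : ∀ a ∈ M, g * a * g⁻¹ ∈ M := fun a ha => by
    show π (g * a * g⁻¹) ∈ R
    rw [map_mul, map_mul, map_inv]
    exact (Subgroup.mem_normalizer_iff.mp hξ _).mp ha
  set S : Sylow p M := ((P.isPGroup'.to_le (inf_le_left : Q ≤ _)).of_equiv
    (Subgroup.subgroupOfEquivOfLe (inf_le_right : Q ≤ M)).symm).toSylow hQsyl with hS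
  have hS'p : IsPGroup p ↥((Q.map (MulAut.conj g).toMonoidHom).subgroupOf M) :=
    ((P.isPGroup'.to_le (inf_le_left : Q ≤ _)).map _).comap_of_injective _ M.subtype_injective
  obtain ⟨S', hS'⟩ := hS'p.exists_le_sylow
  obtain ⟨m, hm⟩ := MulAction.exists_smul_eq M S' S
  have hn : (m : G) * g ∈ Subgroup.normalizer (Q : Set G) := by
    refine Subgroup.mem_normalizer_fintype fun q hq => ?_
    have h1 : (⟨g * q * g⁻¹, hgM q hq.2⟩ : M) ∈ S' := hS' ⟨q, hq, rfl⟩
    have h2 : m * ⟨g * q * g⁻¹, hgM q hq.2⟩ * m⁻¹ ∈ S := by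
      rw [← hm]
      exact ⟨_, h1, rfl⟩
    have h3 : (m : G) * (g * q * g⁻¹) * (m : G)⁻¹ ∈ Q := h2
    simpa [mul_assoc] using h3
  have hc := hlc Q inf_le_left hQne hn
  obtain ⟨b, hb, hbe⟩ := hR (show π (m : G) ∈ R from m.2)
  have hbc := hPC hb
  have h4 := Subgroup.mul_mem _ (Subgroup.inv_mem _ hbc) hc
  rw [Subgroup.mem_centralizer_singleton_iff] at h4 ⊢
  have h5 := congrArg π h4
  have e : π (b⁻¹ * ((m : G) * g)) = π g := by
    rw [map_mul, map_mul, map_inv, show π b = π (m : G) from hbe, inv_mul_cancel_left]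
  rw [map_mul π _ x, map_mul π x, e] at h5
  exact h5

end Cfsg.Agent.S2998
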