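import Cfsg.Prelude
import Cfsg.Agent.Lib.Grp.OffenderSL2.Main
-- import your own Cfsg.Agent.* helpers here

set_option autoImplicit false
open Cfsg

namespace Cfsg.Agent.S2999

/-- Let p be a prime and let P and V be subgroups of a finite group with V elementary abelian, P normalizing V and acting faithfully on it (P ∩ C(V) = 1). Suppose P is p-minimal (a Sylow p-subgroup T of P is not normal and lies in a unique maximal subgroup M of P) and A ≤ T is an elementary abelian subgroup such that: |V/C_V(A)| ≤ |A| while |A₀|·|C_V(A₀)| < |A|·|C_V(A)| for every nontrivial proper subgroup A₀ of A; [C_V(T), P] ≠ 1; and P = ⟨A, xAx⁻¹⟩ for every x ∈ P outside M. Then, with q = |A|, there is a field F with q elements such that P ≅ SL₂(F), C_V(A) = [V, A]·C_V(P), and P acts on V/C_V(P) as SL₂(F) on its natural two-dimensional module. -/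
theorem result {G : Type*} [Group G] [Finite G] {p : ℕ} [Fact p.Prime] (V P : Subgroup G) (hV : Cfsg.IsElementaryAbelian p V) (hPV : P ≤ Subgroup.normalizer (V : Set G)) (hfaith : P ⊓ Subgroup.centralizer (V : Set G) = ⊥) (hmin : Cfsg.IsPMinimal p ↥P) (T : Sylow p ↥P) (M : Subgroup ↥P) (hM : IsCoatom M) (hTM : (T : Subgroup ↥P) ≤ M) (A : Subgroup G) (hAT : A ≤ ((T : Subgroup ↥P).map P.subtype)) (hAel : Cfsg.IsElementaryAbelian p A) (hi : Nat.card ↥V ≤ Nat.card ↥A * Nat.card ↥(V ⊓ Subgroup.centralizer ((A : Subgroup G) : Set G)) ∧ ∀ A₀ : Subgroup G, A₀ ≤ A → A₀ ≠ ⊥ → A₀ ≠ A → Nat.card ↥A₀ * Nat.card ↥(V ⊓ Subgroup.centralizer ((A₀ : Subgroup G) : Set G)) < Nat.card ↥A * Nat.card ↥(V ⊓ Subgroup.centralizer ((A : Subgroup G) : Set G))) (hii : ⁅(V ⊓ Subgroup.centralizer ((((T : Subgroup ↥P).map P.subtype) : Subgroup G) : Set G)), P⁆ ≠ ⊥) (hiii : ∀ x : ↥P, x ∉ M → A ⊔ A.map (MulAut.conj (x : G)).toMonoidHom = P) : ∃ (F : Type)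 (_ : Field F) (_ : Fintype F), Fintype.card F = Nat.card ↥A ∧ Nonempty (↥P ≃* Matrix.SpecialLinearGroup (Fin 2) F) ∧ (V ⊓ Subgroup.centralizer ((A : Subgroup G) : Set G)) = ⁅V, A⁆ ⊔ (V ⊓ Subgroup.centralizer ((P : Subgroup G) : Set G)) ∧ Cfsg.ActsAsSL2OnSection F ⊤ P V (V ⊓ Subgroup.centralizer ((P : Subgroup G) : Set G)) := by
  classical
  obtain ⟨T', hT'⟩ : ∃ T', T' = (T : Subgroup ↥P).map P.subtype := ⟨_, rfl⟩
  rw [← hT'] at hAT hii
  obtain ⟨M', hM'⟩ : ∃ M', M' = M.map P.subtype := ⟨_, rfl⟩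
  have hmemM : ∀ g : ↥P, (g : G) ∈ M' ↔ g ∈ M := fun g => by
    rw [hM']
    exact Subgroup.mem_map_iff_mem P.subtype_injective
  have hC : Grp.OffenderSL2.Config p V P A M' T' := by
    refine ⟨fun a ha b hb => ?_, hV.2, fun g hg a ha => ?_, fun a ha b hb => ?_, hAT, ?_, ?_, ?_, ?_,
      ?_, ?_, hi.1, hi.2, ?_, ?_⟩
    · exact congrArg Subtype.val (hV.1.is_comm.comm ⟨a, ha⟩ ⟨b, hb⟩)
    · exact (Subgroup.mem_normalizer_iff.mp (hPV hg) a).mp ha
    · exact congrArg Subtype.val (hAel.1.is_comm.comm ⟨a, ha⟩ ⟨b, hb⟩)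
    · rw [hT', hM']; exact Subgroup.map_mono hTM
    · rw [hM']; exact Subgroup.map_subtype_le M
    · obtain ⟨g, hg⟩ : ∃ g : ↥P, g ∉ M := by
        by_contra! h
        exact hM.1 (eq_top_iff.mpr fun g _ => h g)
      exact ⟨g, g.2, fun h => hg ((hmemM g).mp h)⟩
    · rw [hT']; exact T.isPGroup'.map _
    · intro Q hQM hQp
      have hQP : Q ≤ P := hQM.trans (hM' ▸ Subgroup.map_subtype_le M)
      obtain ⟨m, hm, hle⟩ := Grp.OffenderSL2.sylow_inside T (Q := Q.subgroupOf P) hTM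
        (fun g hg => (hmemM g).mp (hQM hg)) (hQp.of_equiv (Subgroup.subgroupOfEquivOfLe hQP).symm)
      refine ⟨m, (hmemM m).mpr hm, fun q hq => Grp.OffenderSL2.mem_cj.mpr ?_⟩
      rw [hT']
      exact ⟨m⁻¹ * ⟨q, hQP hq⟩ * m, hle ⟨q, hQP hq⟩ hq, rfl⟩
    · rw [hT', Subgroup.relIndex, Subgroup.subgroupOf,
        Subgroup.comap_map_eq_self_of_injective P.subtype_injective]
      exact T.not_dvd_index
    · intro g hg hgM
      exact hiii ⟨g, hg⟩ fun h => hgM ((hmemM ⟨g, hg⟩).mpr h)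
    · by_contra! h
      refine hii (eq_bot_iff.mpr (Subgroup.commutator_le.mpr fun u hu g hg => ?_))
      rw [Subgroup.mem_bot, commutatorElement_eq_one_iff_mul_comm]
      exact ((Subgroup.mem_centralizer_iff.mp (h u hu.1 hu.2)) g hg).symm
  exact hC.natural hfaith

end Cfsg.Agent.S2999
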