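import Cfsg.Statements.S3001
import Cfsg.Agent.Lib.Fus.PMinFF.Main

set_option autoImplicit false
open Cfsg

namespace Cfsg.Agent.S3001

/-- Let p be a prime and let P and V be subgroups of a finite group with V elementary abelian, P normalizing V and acting faithfully on it (P ∩ C(V) = 1). Suppose P is p-minimal (a Sylow p-subgroup is not normal and lies in a unique maximal subgroup), O_p(P) = 1, and P has a best offender on V (a subgroup A not centralizing V, with A/C_A(V) elementary abelian and |B|·|C_V(B)| ≤ |A|·|C_V(A)| for every B ≤ A). Then [C_V(T), P] ≠ 1 for every Sylow p-subgroup T of P. -/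
theorem result {G : Type*} [Group G] [Finite G] {p : ℕ} [Fact p.Prime] (V P : Subgroup G) (hV : Cfsg.IsElementaryAbelian p V) (hPV : P ≤ Subgroup.normalizer (V : Set G)) (hfaith : P ⊓ Subgroup.centralizer (V : Set G) = ⊥) (hmin : Cfsg.IsPMinimal p ↥P) (hOp : Cfsg.pCore p ↥P = ⊥) (hoff : ∃ A : Subgroup G, A ≤ P ∧ ¬ A ≤ Subgroup.centralizer (V : Set G) ∧ Cfsg.IsBestOffenderOn p V A) (T : Sylow p ↥P) : ⁅(V ⊓ Subgroup.centralizer ((((T : Subgroup ↥P).map P.subtype) : Subgroup G) : Set G)), P⁆ ≠ ⊥ := by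
  classical
  obtain ⟨A, hA, hAV, hAb⟩ := hoff
  obtain ⟨M1, -, -, H⟩ := Fus.MinModule.phyp_of hmin T hOp
  have hV' : Fus.MinModule.VHyp p V P :=
    ⟨fun v hv w hw => congrArg Subtype.val (hV.1.is_comm.comm ⟨v, hv⟩ ⟨w, hw⟩), hV.2,
      fun g hg v hv => (Subgroup.mem_normalizer_iff.mp (hPV hg) v).mp hv, hfaith⟩
  obtain ⟨h1, h2, h3⟩ := Fus.MinModule.offender_of hfaith hA hAb
  obtain ⟨-, u, hu, hfix, g, hg, hmove⟩ := Fus.MinModule.main H hV' hA (fun e => hAV (e ▸ bot_le)) h1 h2 h3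
  intro e
  refine hmove (mul_inv_eq_iff_eq_mul.mpr (commutatorElement_eq_one_iff_mul_comm.mp (Subgroup.mem_bot.mp (e.le
    (Subgroup.commutator_mem_commutator (Subgroup.mem_inf.mpr ⟨hu, Subgroup.mem_centralizer_iff.mpr fun t ht => ?_⟩) hg)))).symm)
  exact mul_inv_eq_iff_eq_mul.mp (hfix t ht)

end Cfsg.Agent.S3001
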