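import Cfsg.Prelude
import Cfsg.Agent.Lib.Grp.Signalizer
-- import your own Cfsg.Agent.* helpers here

set_option autoImplicit false
open Cfsg

namespace Cfsg.Agent.S3003

/-- Let G be a finite group, p a prime and Q a large p-subgroup of G: C_G(Q) ≤ Q and N_G(U) ≤ N_G(Q) for every nontrivial subgroup U of C_G(Q). Let Q ≤ G₁ ≤ G, let R be a subgroup of order prime to p normalized by G₁, and let U ≤ G₁ be a p-subgroup. If U contains a nontrivial element which is G₁-conjugate to an element of Z(Q), then C_R(U) = 1. In particular, if U is elementary abelian of order at least p² and every maximal subgroup of U contains a nontrivial element G₁-conjugate into Z(Q), then R = 1. -/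
theorem result {G : Type*} [Group G] [Finite G] {p : ℕ} [Fact p.Prime] (Q : Subgroup G) (hQp : IsPGroup p ↥Q) (hlarge : Cfsg.IsLarge Q) (G₁ : Subgroup G) (hQG : Q ≤ G₁) (R : Subgroup G) (hR : (Nat.card ↥R).Coprime p) (hGR : G₁ ≤ Subgroup.normalizer (R : Set G)) (U : Subgroup G) (hUG : U ≤ G₁) (hUp : IsPGroup p ↥U) : ((∃ x ∈ U, x ≠ 1 ∧ ∃ g ∈ G₁, g * x * g⁻¹ ∈ Q ⊓ Subgroup.centralizer (Q : Set G)) → R ⊓ Subgroup.centralizer (U : Set G) = ⊥) ∧ (Cfsg.IsElementaryAbelian p U → p ^ 2 ≤ Nat.card ↥U → (∀ U₀ : Subgroup G, U₀ ≤ U → IsCoatom (U₀.subgroupOf U) → ∃ x ∈ U₀, x ≠ 1 ∧ ∃ g ∈ G₁, g * x * g⁻¹ ∈ Q ⊓ Subgroup.centralizer (Q : Set G)) → R = ⊥) := by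
  classical
  have hp : p.Prime := Fact.out
  have hQR : ∀ y ∈ Q, y ∈ R → y = 1 := by
    intro y hyQ hyR
    have h := Subgroup.card_dvd_of_le (show Subgroup.zpowers y ≤ R from Subgroup.zpowers_le.mpr hyR)
    rw [Nat.card_zpowers] at h
    obtain ⟨k, hk⟩ := (IsPGroup.iff_orderOf.mp hQp) ⟨y, hyQ⟩
    rw [Subgroup.orderOf_mk] at hk
    have := Nat.Coprime.coprime_dvd_left h hR
    rw [hk] at this
    rcases Nat.eq_zero_or_pos k with rfl | hk0
    · exact orderOf_eq_one_iff.mp (by simpa using hk)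
    · rw [Nat.coprime_pow_left_iff hk0, Nat.coprime_self] at this
      exact absurd this hp.ne_one
  have part : ∀ V : Subgroup G,
      (∃ x ∈ V, x ≠ 1 ∧ ∃ g ∈ G₁, g * x * g⁻¹ ∈ Q ⊓ Subgroup.centralizer (Q : Set G)) →
      R ⊓ Subgroup.centralizer (V : Set G) = ⊥ := by
    rintro V ⟨x, hx, hx1, g, hg, hz⟩
    rw [Subgroup.eq_bot_iff_forall]
    rintro c ⟨hcR, hcV⟩
    set z := g * x * g⁻¹ with hzdef
    set d := g * c * g⁻¹ with hddef
    have hdR : d ∈ R := (Subgroup.mem_normalizer_iff.mp (hGR hg) c).mp hcR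
    have hdz : z * d = d * z := by
      have := Subgroup.mem_centralizer_iff.mp hcV x hx
      rw [hzdef, hddef, show g * x * g⁻¹ * (g * c * g⁻¹) = g * (x * c) * g⁻¹ by group, this]
      group
    have hZC : Subgroup.zpowers z ≤ Subgroup.centralizer (Q : Set G) := Subgroup.zpowers_le.mpr hz.2
    have hz1 : Subgroup.zpowers z ≠ ⊥ := by
      rw [Ne, Subgroup.zpowers_eq_bot]
      intro h
      exact hx1 (by rwa [hzdef, conj_eq_one_iff] at h)
    have hdN : d ∈ Subgroup.normalizer (Q : Set G) := by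
      refine hlarge.2 _ hZC hz1 ?_
      have hc : d ∈ Subgroup.centralizer ((Subgroup.zpowers z : Subgroup G) : Set G) := by
        rw [Subgroup.mem_centralizer_iff]
        rintro _ ⟨k, rfl⟩
        exact ((show Commute z d from hdz).zpow_left k).eq
      exact Subgroup.centralizer_le_normalizer _ hc
    have hdC : d ∈ Subgroup.centralizer (Q : Set G) := by
      rw [Subgroup.mem_centralizer_iff]
      intro y hy
      have h1 : d * y * d⁻¹ * y⁻¹ ∈ Q :=
        Q.mul_mem ((Subgroup.mem_normalizer_iff.mp hdN y).mp hy) (Q.inv_mem hy)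
      have h2 : d * y * d⁻¹ * y⁻¹ ∈ R := by
        rw [show d * y * d⁻¹ * y⁻¹ = d * (y * d⁻¹ * y⁻¹) by group]
        exact R.mul_mem hdR ((Subgroup.mem_normalizer_iff.mp (hGR (hQG hy)) _).mp (R.inv_mem hdR))
      have h3 := hQR _ h1 h2
      rw [mul_inv_eq_one, mul_inv_eq_iff_eq_mul] at h3
      exact h3.symm
    have hd1 := hQR d (hlarge.1 hdC) hdR
    rwa [hddef, conj_eq_one_iff] at hd1
  refine ⟨part U, fun hU hU2 hmax => ?_⟩
  have hU1 : U ≠ ⊥ := by
    rintro rfl
    rw [Subgroup.card_bot] at hU2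
    exact absurd hU2 (not_le.mpr (Nat.one_lt_pow (by norm_num) hp.one_lt))
  have hpR : ¬ p ∣ Nat.card R := fun h => hp.ne_one (Nat.dvd_one.mp
    ((Nat.Coprime.gcd_eq_one hR) ▸ Nat.dvd_gcd h dvd_rfl))
  refine le_antisymm (Cfsg.Agent.Grp.le_of_hyperplanes hU hU1 R hpR (hUG.trans hGR) fun D hD hidx => ?_) bot_le
  refine le_of_eq (part D (hmax D hD ?_))
  refine ⟨fun h => ?_, fun K hK => ?_⟩
  · have h' : D.relIndex U = 1 := by
      rw [Subgroup.relIndex, h, Subgroup.index_top]
    rw [h'] at hidx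
    exact hp.ne_one hidx.symm
  · have hdvd := Subgroup.index_dvd_of_le hK.le
    rw [show (D.subgroupOf U).index = p from hidx] at hdvd
    rcases (Nat.dvd_prime hp).mp hdvd with h | h
    · exact Subgroup.index_eq_one.mp h
    · exfalso
      have h3 := Subgroup.relIndex_mul_index hK.le
      rw [show (D.subgroupOf U).index = p from hidx, h] at h3
      have : (D.subgroupOf U).relIndex K = 1 := by
        have hp0 := hp.pos
        nlinarith
      exact hK.not_ge (Subgroup.relIndex_eq_one.mp this)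

end Cfsg.Agent.S3003
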