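import Cfsg.Statements.S3005
import Cfsg.Agent.Lib.Invol.ChermakDelgado
-- import your own Cfsg.Agent.* helpers here

set_option autoImplicit false
open scoped Pointwise
open Cfsg

namespace Cfsg.Agent.S3005

/-- Let P be a finite p-group; call R ≤ P centrally large if |R|·|Z(R)| is as large as possible among subgroups of P, and measure-largest if |R|·|C_P(R)| is as large as possible. Then: a centrally large Q is measure-largest with C_P(Q) = Z(Q); a measure-largest Q is centrally large if and only if C_P(Q) ≤ Q; if Q and R are centrally large then QR = RQ is a centrally large subgroup; and the subgroups generated by all centrally large subgroups, respectively by all minimal centrally large subgroups, are themselves centrally large. -/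
theorem result {p : ℕ} [Fact p.Prime] (P : Type*) [Group P] [Finite P] (hP : IsPGroup p P) : (∀ Q : Subgroup P, Cfsg.IsCentrallyLarge Q → Cfsg.IsCentralizerLarge Q ∧ Subgroup.centralizer (Q : Set P) = Q ⊓ Subgroup.centralizer (Q : Set P)) ∧ (∀ Q : Subgroup P, Cfsg.IsCentralizerLarge Q → (Cfsg.IsCentrallyLarge Q ↔ Subgroup.centralizer (Q : Set P) ≤ Q)) ∧ (∀ Q R : Subgroup P, Cfsg.IsCentrallyLarge Q → Cfsg.IsCentrallyLarge R → ((Q ⊔ R : Subgroup P) : Set P) = (Q : Set P) * (R : Set P) ∧ Cfsg.IsCentrallyLarge (Q ⊔ R)) ∧ Cfsg.IsCentrallyLarge (Cfsg.centrallyLargeJoin P) ∧ Cfsg.IsCentrallyLarge (Cfsg.minimalCentrallyLargeJoin P) := by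
  classical
  have hsup : ∀ Q R : Subgroup P, Cfsg.IsCentrallyLarge Q → Cfsg.IsCentrallyLarge R →
      ((Q ⊔ R : Subgroup P) : Set P) = (Q : Set P) * (R : Set P) ∧ Cfsg.IsCentrallyLarge (Q ⊔ R) := by
    intro Q R hQ hR
    rw [Invol.centrallyLarge_iff] at hQ hR
    obtain ⟨h1, -, h3, -⟩ := hQ.1.lattice hR.1
    exact ⟨h3, (Invol.centrallyLarge_iff _).mpr ⟨h1,
      le_trans (Subgroup.centralizer_le (SetLike.coe_subset_coe.mpr le_sup_left)) (hQ.2.trans le_sup_left)⟩⟩
  have hjoin : ∀ S : Set (Subgroup P), S.Nonempty → (∀ R ∈ S, Cfsg.IsCentrallyLarge R) →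
      Cfsg.IsCentrallyLarge (sSup S) := by
    intro S hS hall
    have key : ∀ T : Set (Subgroup P), T.Finite → T ⊆ S → T = ∅ ∨ Cfsg.IsCentrallyLarge (sSup T) := by
      intro T hT
      induction T, hT using Set.Finite.induction_on with
      | empty => exact fun _ => .inl rfl
      | @insert a T _ _ ih =>
        intro hsub
        refine .inr ?_
        rw [sSup_insert]
        have ha := hall a (hsub (Set.mem_insert a T))
        rcases ih ((Set.subset_insert a T).trans hsub) with rfl | h
        · simpa using ha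
        · exact (hsup _ _ ha h).2
    exact (key S (Set.toFinite S) subset_rfl).resolve_left hS.ne_empty
  obtain ⟨M, hM⟩ := Invol.exists_cdMax (G := P)
  have hM' := (Invol.centrallyLarge_iff _).mpr hM.centralizer_le_sup
  refine ⟨fun Q hQ => ?_, fun Q hQ => ?_, hsup, hjoin _ ⟨_, hM'⟩ (fun R hR => hR), ?_⟩
  · rw [Invol.centrallyLarge_iff] at hQ
    exact ⟨(Invol.centralizerLarge_iff _).mpr hQ.1, (inf_eq_right.mpr hQ.2).symm⟩
  · rw [Invol.centralizerLarge_iff] at hQ
    rw [Invol.centrallyLarge_iff]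
    exact ⟨fun h => h.2, fun h => ⟨hQ, h⟩⟩
  · refine hjoin _ ?_ (fun R hR => hR.1)
    obtain ⟨R, hR, hmin⟩ := (Set.toFinite {R : Subgroup P | Cfsg.IsCentrallyLarge R}).exists_minimalFor
      id _ ⟨_, hM'⟩
    exact ⟨R, hR, fun R' hle hR' => le_antisymm hle (hmin hR' hle)⟩

end Cfsg.Agent.S3005
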