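import Cfsg.Prelude
import Cfsg.Agent.Lib.Invol.CentrallyLargeFixed
-- import your own Cfsg.Agent.* helpers here

set_option autoImplicit false
open Cfsg

open scoped Pointwise commutatorElement

namespace Cfsg.Agent.S3008

/-- Let P be a finite p-group, with J(P) generated by its abelian subgroups of largest order and J̃(P) = C_P(Z(J(P))); call R ≤ P centrally large if |R|·|Z(R)| is as large as possible, and let P_MCL be generated by the minimal centrally large subgroups. Then: for every centrally large Q, Q·J(P) ⊇ J̃(P); some minimal centrally large subgroup of P is normalized by both J(P) and P_MCL; if P = J(P) and d(P)² = |P|·|Z(P)|, where d(P) is the largest order of an abelian subgroup, then every minimal centrally large subgroup of P is abelian; and if every minimal centrally large subgroup is abelian then J̃(P) = J(P). -/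
theorem result {p : ℕ} [Fact p.Prime] (P : Type*) [Group P] [Finite P] (hP : IsPGroup p P) : (∀ Q : Subgroup P, Cfsg.IsCentrallyLarge Q → Subgroup.centralizer ((Cfsg.thompsonSubgroupA P ⊓ Subgroup.centralizer (Cfsg.thompsonSubgroupA P : Set P) : Subgroup P) : Set P) ≤ Q ⊔ Cfsg.thompsonSubgroupA P) ∧ (∃ Q : Subgroup P, Cfsg.IsMinimalCentrallyLarge Q ∧ Cfsg.thompsonSubgroupA P ≤ Subgroup.normalizer (Q : Set P) ∧ Cfsg.minimalCentrallyLargeJoin P ≤ Subgroup.normalizer (Q : Set P)) ∧ (Cfsg.thompsonSubgroupA P = ⊤ → (∀ A ∈ Cfsg.maxAbelianSubgroups P, Nat.card ↥A ^ 2 = Nat.card P * Nat.card ↥(Subgroup.center P)) → ∀ Q : Subgroup P, Cfsg.IsMinimalCentrallyLarge Q → IsMulCommutative ↥Q) ∧ ((∀ Q : Subgroup P, Cfsg.IsMinimalCentrallyLarge Q → IsMulCommutative ↥Q) → Subgroup.centralizer ((Cfsg.thompsonSubgroupA P ⊓ Subgroup.centralizer (Cfsg.thompsonSubgroupA P : Set P) : Subgroup P) : Set P) = Cfsg.thompsonSubgroupA P) := by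
  classical
  refine ⟨fun Q hQ => ?_, Invol.CLFix.exists_fixed_minimal hP, fun hJ hcard => ?_, fun hab => ?_⟩
  · exact Invol.CL.centralizer_center_thompson_le (Invol.CL.sup_thompson hQ) le_sup_right
  · obtain ⟨Q₀, hQ₀⟩ := Invol.CL.exists_centrallyLarge P
    obtain ⟨A, hA⟩ := Invol.CL.exists_maxAbelian P
    have htop : Cfsg.IsCentrallyLarge (⊤ : Subgroup P) := by
      have h := Invol.CL.sup_thompson hQ₀
      rwa [hJ, sup_top_eq] at h
    have hA' : Cfsg.IsMinimalCentrallyLarge A := by
      refine Invol.CL.abelian_centrallyLarge hA ((Invol.centrallyLarge_iff _).mp htop).1 ?_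
      rw [← pow_two, hcard A hA]
      unfold Invol.cdMeasure
      rw [Subgroup.card_top, Subgroup.coe_top, Subgroup.centralizer_univ]
    exact fun Q hQ => Invol.CL.minimal_abelian hA' hQ hA.1
  · obtain ⟨Q₀, hQ₀⟩ := Invol.CL.exists_centrallyLarge P
    obtain ⟨R, -, hR⟩ := Invol.CL.exists_minimal_le hQ₀
    have hRA := (Invol.CL.minimal_abelian_iff hR (hab R hR) R).mp hR
    have hJ : Cfsg.IsCentrallyLarge (Cfsg.thompsonSubgroupA P) := by
      have h := Invol.CL.sup_thompson hR.1
      have hle : R ≤ Cfsg.thompsonSubgroupA P := le_sSup hRA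
      rwa [sup_eq_right.mpr hle] at h
    refine le_antisymm (Invol.CL.centralizer_center_thompson_le hJ le_rfl) ?_
    exact Subgroup.le_centralizer_iff.mp inf_le_right

end Cfsg.Agent.S3008
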