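import Cfsg.Prelude
import Cfsg.Agent.Lib.Grp.Baer
import Cfsg.Agent.Lib.Grp.Real
import Cfsg.Agent.S0200
-- import your own Cfsg.Agent.* helpers here

set_option autoImplicit false
open Cfsg

open scoped Pointwise commutatorElement

namespace Cfsg.Agent.S3011

/-- Let G be a finite group and V a nontrivial elementary abelian 2-subgroup of G of order at most 4 such that, whenever an element of V inverts an element h of G of odd order, some nontrivial element of V commutes with h. Then V meets O₂(G) nontrivially. (The case of order at most 4 has a short argument from the Baer–Suzuki theorem.) -/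
theorem result {G : Type*} [Group G] [Finite G] (V : Subgroup G) (hV : Cfsg.IsElementaryAbelian 2 V) (hV1 : V ≠ ⊥) (hS : Cfsg.IsSidkiPair V) (h4 : Nat.card V ≤ 4) : V ⊓ Cfsg.pCore 2 G ≠ ⊥ := by
  classical
  haveI := Fintype.ofFinite G
  by_contra hbot
  have hcom : ∀ x ∈ V, ∀ y ∈ V, x * y = y * x := fun x hx y hy =>
    congrArg Subtype.val (hV.1.is_comm.comm ⟨x, hx⟩ ⟨y, hy⟩)
  have hinv : ∀ x ∈ V, x⁻¹ = x := fun x hx =>
    inv_eq_of_mul_eq_one_right (by rw [← sq]; exact hV.2 x hx)
  have hex : ∀ v ∈ V, v ≠ 1 → ∃ h : G, h ≠ 1 ∧ Odd (orderOf h) ∧ v * h * v⁻¹ = h⁻¹ := by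
    intro v hv hv1
    refine S0200.result v ?_ fun N hN hNp hvN => hv1 ?_
    · exact orderOf_eq_prime (hV.2 v hv) hv1
    · exact (Subgroup.mem_bot.mp (hbot ▸ (Subgroup.mem_inf.mpr ⟨hv, Grp.le_pCore hN hNp hvN⟩)))
  have hsq : ∀ h : G, Odd (orderOf h) → h * h = 1 → h = 1 := fun h ho e => Grp.eq_one_of_odd_of_sq ho e
  have hne : ∀ (h v : G), h ≠ 1 → Odd (orderOf h) → v * h * v⁻¹ = h⁻¹ → v * h ≠ h * v := by
    intro h v h1 ho hi e
    rw [e, mul_inv_cancel_right] at hi
    exact h1 (hsq h ho (mul_eq_one_iff_eq_inv.mpr hi))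
  have hfour : ∀ a ∈ V, ∀ b ∈ V, a ≠ 1 → b ≠ 1 → a ≠ b → ∀ x ∈ V, x = 1 ∨ x = a ∨ x = b ∨ x = a * b := by
    intro a ha b hb a1 b1 hab x hx
    by_contra hc
    push Not at hc
    obtain ⟨c1, c2, c3, c4⟩ := hc
    have hab1 : a * b ≠ 1 := fun e => hab (by rw [mul_eq_one_iff_eq_inv.mp e, hinv b hb])
    have hs : ({1, a, b, a * b, x} : Finset G) ⊆ Finset.univ.filter (· ∈ V) := by
      intro y hy
      simp only [Finset.mem_insert, Finset.mem_singleton] at hy
      simp only [Finset.mem_filter, Finset.mem_univ, true_and]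
      rcases hy with rfl | rfl | rfl | rfl | rfl
      exacts [V.one_mem, ha, hb, V.mul_mem ha hb, hx]
    have h5 : ({1, a, b, a * b, x} : Finset G).card = 5 := by
      rw [Finset.card_insert_of_notMem (by simp [a1.symm, b1.symm, hab1.symm, c1.symm]),
        Finset.card_insert_of_notMem (by simp [hab, c2.symm, b1]),
        Finset.card_insert_of_notMem (by simp [c3.symm, a1]),
        Finset.card_insert_of_notMem (by simp [c4.symm]), Finset.card_singleton]
    have h6 := Finset.card_le_card hs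
    rw [h5, ← Fintype.card_subtype, ← Nat.card_eq_fintype_card] at h6
    omega
  have core : ∀ (a b h k : G), a ∈ V → b ∈ V → a ≠ 1 → b ≠ 1 → a ≠ b → h ≠ 1 → Odd (orderOf h) →
      a * h * a⁻¹ = h⁻¹ → b * h = h * b → k ≠ 1 → Odd (orderOf k) → b * k * b⁻¹ = k⁻¹ →
      a * k = k * a → False := by
    intro a b h k ha hb a1 b1 hab h1 ho hia hcb k1 ko kib kca
    have hab1 : a * b ≠ 1 := fun e => hab (by rw [mul_eq_one_iff_eq_inv.mp e, hinv b hb])
    have kfix : a * k * a⁻¹ = k := by rw [kca, mul_inv_cancel_right]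
    have hfix : b * h * b⁻¹ = h := by rw [hcb, mul_inv_cancel_right]
    -- `h` and `k` commute
    have hhk : Commute h k := by
      set l := k * h * k⁻¹ with hl
      have hlo : Odd (orderOf l) := by rw [hl, Invol.orderOf_conj_eq]; exact ho
      have hli : a * l * a⁻¹ = l⁻¹ := by
        calc a * (k * h * k⁻¹) * a⁻¹ = (a * k * a⁻¹) * (a * h * a⁻¹) * (a * k * a⁻¹)⁻¹ := by group
          _ = (k * h * k⁻¹)⁻¹ := by rw [kfix, hia]; group
      have hl1 : l ≠ 1 := fun e => h1 (conj_eq_one_iff.mp e)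
      have hbl : b * l * b⁻¹ = k⁻¹ * h * k := by
        calc b * (k * h * k⁻¹) * b⁻¹ = (b * k * b⁻¹) * (b * h * b⁻¹) * (b * k * b⁻¹)⁻¹ := by group
          _ = k⁻¹ * h * k := by rw [kib, hfix, inv_inv]
      obtain ⟨w, hw, w1, hwc⟩ := hS l a ha hlo hli
      have hwfix : w * l * w⁻¹ = l := by rw [hwc, mul_inv_cancel_right]
      obtain ⟨m, hm⟩ := ko
      have hk2 : Commute h (k * k) := by
        rcases hfour a ha b hb a1 b1 hab w hw with e | e | e | e
        · exact absurd e w1
        · exact absurd (e ▸ hwc) (hne l a hl1 hlo hli)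
        · rw [e, hbl] at hwfix
          show h * (k * k) = (k * k) * h
          calc h * (k * k) = k * (k⁻¹ * h * k) * k := by group
            _ = k * (k * h * k⁻¹) * k := by rw [hwfix]
            _ = (k * k) * h := by group
        · have e2 : (k⁻¹ * h * k)⁻¹ = l := by
            rw [e] at hwfix
            rw [← hbl]
            calc (b * l * b⁻¹)⁻¹ = b * l⁻¹ * b⁻¹ := by group
              _ = b * (a * l * a⁻¹) * b⁻¹ := by rw [hli]
              _ = (a * b) * l * (a * b)⁻¹ := by rw [hcom a ha b hb]; group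
              _ = l := hwfix
          have e3 : (k * k) * h * (k * k)⁻¹ = h⁻¹ := by
            calc (k * k) * h * (k * k)⁻¹ = k * (k * h * k⁻¹) * k⁻¹ := by group
              _ = k * (k⁻¹ * h * k)⁻¹ * k⁻¹ := by rw [e2]
              _ = h⁻¹ := by group
          have e4 := Grp.conj_sq_of_inv e3
          have e5 : Commute (k * k * (k * k)) h := mul_inv_eq_iff_eq_mul.mp e4
          have e6 : (k * k * (k * k)) ^ (m + 1) = k * k := by
            have : k * k * (k * k) = k ^ 4 := by simp [pow_succ, mul_assoc]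
            rw [this, ← pow_mul, show 4 * (m + 1) = orderOf k + orderOf k + 2 by omega, pow_add, pow_add,
              pow_orderOf_eq_one, one_mul, one_mul, sq]
          exact (e6 ▸ e5.pow_left (m + 1)).symm
      have e7 : (k * k) ^ (m + 1) = k := by
        rw [← sq, ← pow_mul, show 2 * (m + 1) = orderOf k + 1 by omega, pow_succ, pow_orderOf_eq_one, one_mul]
      exact e7 ▸ hk2.pow_right (m + 1)
    set u := h * k with hu
    have huo : Odd (orderOf u) := Odd.of_dvd_nat (ho.mul ko) hhk.orderOf_mul_dvd_mul_orderOf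
    have hua : a * u * a⁻¹ = h⁻¹ * k := by rw [hu, ← conj_mul, hia, kfix]
    have hub : b * u * b⁻¹ = h * k⁻¹ := by rw [hu, ← conj_mul, hfix, kib]
    have huab : (a * b) * u * (a * b)⁻¹ = u⁻¹ := by
      calc (a * b) * u * (a * b)⁻¹ = a * (b * u * b⁻¹) * a⁻¹ := by group
        _ = (a * h * a⁻¹) * (a * k * a⁻¹)⁻¹ := by rw [hub]; group
        _ = u⁻¹ := by rw [hia, kfix, hu, hhk.eq, mul_inv_rev]
    obtain ⟨w, hw, w1, hwc⟩ := hS u (a * b) (V.mul_mem ha hb) huo huab
    have hwfix : w * u * w⁻¹ = u := by rw [hwc, mul_inv_cancel_right]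
    rcases hfour a ha b hb a1 b1 hab w hw with e | e | e | e
    · exact w1 e
    · rw [e, hua] at hwfix
      exact h1 (hsq h ho (mul_eq_one_iff_eq_inv.mpr (mul_right_cancel hwfix).symm))
    · rw [e, hub] at hwfix
      exact k1 (hsq k ko (mul_eq_one_iff_eq_inv.mpr (mul_left_cancel hwfix).symm))
    · rw [e, huab] at hwfix
      have hu1 : u = 1 := hsq u huo (mul_eq_one_iff_eq_inv.mpr hwfix.symm)
      have hkh : k = h⁻¹ := eq_inv_of_mul_eq_one_right hu1
      rw [hkh] at kca
      exact hne h a h1 ho hia (Commute.inv_right_iff.mp (show Commute a h⁻¹ from kca))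
  obtain ⟨a, ha, a1⟩ : ∃ a ∈ V, a ≠ 1 := by
    by_contra hc
    push Not at hc
    exact hV1 ((Subgroup.eq_bot_iff_forall _).mpr hc)
  obtain ⟨h, h1, ho, hia⟩ := hex a ha a1
  obtain ⟨b, hb, b1, hcb⟩ := hS h a ha ho hia
  have hab : a ≠ b := fun e => hne h a h1 ho hia (e ▸ hcb)
  obtain ⟨k, k1, ko, kib⟩ := hex b hb b1
  obtain ⟨w, hw, w1, hwc⟩ := hS k b hb ko kib
  rcases hfour a ha b hb a1 b1 hab w hw with e | e | e | e
  · exact w1 e
  · exact core a b h k ha hb a1 b1 hab h1 ho hia hcb k1 ko kib (e ▸ hwc)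
  · exact hne k b k1 ko kib (e ▸ hwc)
  · have hc1 : a * b ≠ 1 := fun e => hab (by rw [mul_eq_one_iff_eq_inv.mp e, hinv b hb])
    refine core (a * b) b h k (V.mul_mem ha hb) hb hc1 b1 (fun e => a1 (by simpa using e)) h1 ho ?_ hcb k1 ko kib (e ▸ hwc)
    calc a * b * h * (a * b)⁻¹ = a * (b * h * b⁻¹) * a⁻¹ := by group
      _ = h⁻¹ := by rw [hcb, mul_inv_cancel_right, hia]

end Cfsg.Agent.S3011
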