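import Cfsg.Statements.S3012
import Mathlib
import Cfsg.Agent.Lib.Invol.Basic
-- import your own Cfsg.Agent.* helpers here

set_option autoImplicit false
open Cfsg

namespace Cfsg.Agent.S3012

/-- Let G be a finite group, V a nontrivial elementary abelian 2-subgroup of G satisfying the Sidki pair condition (every odd-order element inverted by an element of V commutes with a nontrivial element of V), and K a normal subgroup of G with V ∩ K = 1. Then the image of V in G/K satisfies the Sidki pair condition in G/K. -/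
theorem result {G : Type*} [Group G] [Finite G] (V K : Subgroup G) [K.Normal] (hV : Cfsg.IsElementaryAbelian 2 V) (hV1 : V ≠ ⊥) (hS : Cfsg.IsSidkiPair V) (hVK : V ⊓ K = ⊥) : Cfsg.IsSidkiPair (V.map (QuotientGroup.mk' K)) := by
  intro hb vb hvb hodd hinv
  obtain ⟨v, hv, rfl⟩ := hvb
  induction hb using QuotientGroup.induction_on with | _ g => ?_
  set π := QuotientGroup.mk' K with hπ
  change Odd (orderOf (π g)) at hodd
  change π v * π g * (π v)⁻¹ = (π g)⁻¹ at hinv
  have hvv : v * v = 1 := by have := hV.2 v hv; rwa [sq] at this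
  have hvinv : v⁻¹ = v := inv_eq_of_mul_eq_one_right hvv
  set w := g * v * g⁻¹ * v with hw
  have hinvw : v * w * v⁻¹ = w⁻¹ := by
    rw [hw]
    simp only [mul_inv_rev, inv_inv, hvinv, mul_assoc, hvv, mul_one]
  have himg : π w = π g ^ 2 := by
    have h1 : π v * (π g)⁻¹ * (π v)⁻¹ = π g := by
      have := congrArg (fun z => z⁻¹) hinv
      simpa [mul_assoc] using this
    have hpv : (π v)⁻¹ = π v := by rw [← map_inv, hvinv]
    rw [hw, map_mul, map_mul, map_mul, map_inv, sq]
    conv_rhs => arg 2; rw [← h1]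
    rw [hpv]
    simp [mul_assoc]
  obtain ⟨a, b, hb2, hab⟩ := Nat.exists_eq_two_pow_mul_odd (orderOf_pos w).ne'
  set x := w ^ 2 ^ a with hx
  have hxodd : Odd (orderOf x) := by
    rw [hx, orderOf_pow' _ (by positivity), hab, Nat.gcd_eq_right (dvd_mul_right _ b),
      Nat.mul_div_cancel_left _ (by positivity)]
    exact hb2
  have hxinv : v * x * v⁻¹ = x⁻¹ := by rw [hx, ← conj_pow, hinvw, inv_pow]
  obtain ⟨u, hu, hu1, hux⟩ := hS x v hv hxodd hxinv
  refine ⟨π u, ⟨u, hu, rfl⟩, fun h => hu1 ?_, ?_⟩
  · have : u ∈ V ⊓ K := ⟨hu, (QuotientGroup.eq_one_iff u).mp h⟩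
    rwa [hVK, Subgroup.mem_bot] at this
  · have h1 : Commute (π u) (π g ^ 2 ^ (a + 1)) := by
      have := (show Commute u x from hux).map π
      rwa [hx, map_pow, himg, ← pow_mul, ← pow_succ'] at this
    have hcop : (2 ^ (a + 1)).Coprime (orderOf (π g)) :=
      (Nat.coprime_two_left.mpr hodd).pow_left _
    obtain ⟨m, hm⟩ := exists_pow_eq_self_of_coprime hcop
    have h2 := h1.pow_right m
    rw [hm] at h2
    exact h2.eq

end Cfsg.Agent.S3012
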