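import Cfsg.Statements.S3013
import Mathlib
import Cfsg.Agent.Lib.Invol.Basic
-- import your own Cfsg.Agent.* helpers here

set_option autoImplicit false
open Cfsg

namespace Cfsg.Agent.S3013

/-- Let G be a finite group and V a nontrivial elementary abelian 2-subgroup of G satisfying the Sidki pair condition. Let v ∈ V and let x be an element of odd order inverted by v, and put C = C_G(v) ∩ C_G(x), the centralizer of the dihedral subgroup generated by v and x. Then C ∩ V is nontrivial and satisfies the Sidki pair condition inside C: every odd-order element of C inverted by an element of C ∩ V commutes with a nontrivial element of C ∩ V. -/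
theorem result {G : Type*} [Group G] [Finite G] (V : Subgroup G) (hV : Cfsg.IsElementaryAbelian 2 V) (hV1 : V ≠ ⊥) (hS : Cfsg.IsSidkiPair V) (v x : G) (hv : v ∈ V) (hx : Odd (orderOf x)) (hinv : v * x * v⁻¹ = x⁻¹) (C : Subgroup G) (hC : C = Subgroup.centralizer ({v} : Set G) ⊓ Subgroup.centralizer ({x} : Set G)) : C ⊓ V ≠ ⊥ ∧ Cfsg.IsSidkiPair ((C ⊓ V).subgroupOf C) := by
  subst hC
  have hcomm : ∀ a ∈ V, ∀ b ∈ V, Commute a b :=
    fun a ha b hb => congrArg Subtype.val (hV.1.is_comm.comm ⟨a, ha⟩ ⟨b, hb⟩)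
  constructor
  · obtain ⟨w, hw, hw1, hwx⟩ := hS x v hv hx hinv
    intro hbot
    refine hw1 ?_
    rw [← Subgroup.mem_bot, ← hbot]
    exact ⟨⟨Subgroup.mem_centralizer_singleton_iff.mpr (hcomm w hw v hv).eq,
      Subgroup.mem_centralizer_singleton_iff.mpr hwx⟩, hw⟩
  · rintro ⟨h, hhC⟩ ⟨u, huC⟩ hu hodd hhinv
    have hu' : u ∈ V := (Subgroup.mem_subgroupOf.mp hu).2
    obtain ⟨hhv, hhx⟩ := Subgroup.mem_inf.mp hhC
    obtain ⟨huv, hux⟩ := Subgroup.mem_inf.mp huC
    rw [Subgroup.mem_centralizer_singleton_iff] at hhv hhx huv hux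
    have hhinv' : u * h * u⁻¹ = h⁻¹ := congrArg Subtype.val hhinv
    rw [Subgroup.orderOf_mk] at hodd
    have hxh : Commute x h := hhx.symm
    have hoddxh : Odd (orderOf (x * h)) :=
      (hx.mul hodd).of_dvd_nat (hxh.orderOf_mul_dvd_mul_orderOf)
    have hinv' : (u * v) * (x * h) * (u * v)⁻¹ = (x * h)⁻¹ := by
      calc (u * v) * (x * h) * (u * v)⁻¹ = u * (v * x * v⁻¹ * (v * h * v⁻¹)) * u⁻¹ := by group
        _ = u * (x⁻¹ * h) * u⁻¹ := by
          rw [hinv, ← hhv, mul_inv_cancel_right]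
        _ = (u * x⁻¹ * u⁻¹) * (u * h * u⁻¹) := by group
        _ = x⁻¹ * h⁻¹ := by
          rw [hhinv', (show Commute u x from hux).inv_right.eq, mul_inv_cancel_right]
        _ = (x * h)⁻¹ := by rw [mul_inv_rev, hxh.inv_inv.eq]
    obtain ⟨w, hw, hw1, hwxh⟩ := hS (x * h) (u * v) (mul_mem hu' hv) hoddxh hinv'
    have hwv := hcomm w hw v hv
    have h2 : Commute w (x⁻¹ * h) := by
      have : v * (x * h) * v⁻¹ = x⁻¹ * h := by
        calc v * (x * h) * v⁻¹ = v * x * v⁻¹ * (v * h * v⁻¹) := by group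
          _ = x⁻¹ * h := by rw [hinv, ← hhv, mul_inv_cancel_right]
      rw [← this]
      exact ((hwv.mul_right (show Commute w (x * h) from hwxh)).mul_right hwv.inv_right)
    have hx2 : Commute w (x ^ 2) := by
      have h3 := (show Commute w (x * h) from hwxh).mul_right h2.inv_right
      have e : x * h * (x⁻¹ * h)⁻¹ = x ^ 2 := by rw [sq]; group
      rwa [e] at h3
    obtain ⟨m, hm⟩ := exists_pow_eq_self_of_coprime (x := x) (n := 2) (Nat.coprime_two_left.mpr hx)
    have hwx : Commute w x := hm ▸ hx2.pow_right m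
    have hwh : Commute w h := by
      have h3 := hwx.inv_right.mul_right (show Commute w (x * h) from hwxh)
      rwa [inv_mul_cancel_left] at h3
    have hwC : w ∈ Subgroup.centralizer ({v} : Set G) ⊓ Subgroup.centralizer ({x} : Set G) :=
      ⟨Subgroup.mem_centralizer_singleton_iff.mpr hwv.eq, Subgroup.mem_centralizer_singleton_iff.mpr hwx.eq⟩
    exact ⟨⟨w, hwC⟩, ⟨hwC, hw⟩, fun h1 => hw1 (congrArg Subtype.val h1), Subtype.ext hwh.eq⟩

end Cfsg.Agent.S3013
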