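import Cfsg.Statements.S3014
import Cfsg.Agent.Lib.Invol.WeakClosed
import Cfsg.Agent.Lib.Invol.SylowChains
-- import your own Cfsg.Agent.* helpers here

set_option autoImplicit false
open Cfsg

namespace Cfsg.Agent.S3014

/-- Let G be a finite group and H ≤ M ≤ G subgroups such that for every g ∈ G the subgroup generated by H and g H g⁻¹ meets M exactly in H. If H is a maximal subgroup of M and M is a maximal subgroup of G, then the normal closure of H in G meets M exactly in H. -/
theorem result {G : Type*} [Group G] [Finite G] (H M : Subgroup G) (hHM : H ≤ M) (hcl : ∀ g : G, (H ⊔ H.map (MulAut.conj g).toMonoidHom) ⊓ M = H) (hmaxH : IsCoatom (H.subgroupOf M)) (hmaxM : IsCoatom M) : Subgroup.normalClosure (H : Set G) ⊓ M = H := by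
  classical
  set N := Subgroup.normalClosure (H : Set G) with hN
  have hHN : H ≤ N := Subgroup.le_normalClosure
  have hconj : ∀ g : G, H.map (MulAut.conj g).toMonoidHom ≤ N := by
    rintro g _ ⟨h, hh, rfl⟩
    exact Subgroup.normalClosure_normal.conj_mem h (hHN hh) g
  have hHn : M ≤ Subgroup.normalizer (H : Set G) := by
    intro m hm
    refine Subgroup.mem_normalizer_fintype fun x hx => ?_
    refine (hcl m).le ⟨Subgroup.mem_sup_right ⟨x, hx, rfl⟩, M.mul_mem (M.mul_mem hm (hHM hx)) (M.inv_mem hm)⟩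
  by_contra hne
  have hHlt : H ≤ N ⊓ M := le_inf hHN hHM
  -- `M ≤ N`
  have hMN : M ≤ N := by
    by_contra hMN
    refine hne (le_antisymm ?_ hHlt)
    by_contra hle
    have hlt : H.subgroupOf M < (N ⊓ M).subgroupOf M := by
      refine lt_of_le_of_ne (Subgroup.comap_mono hHlt) fun e => hle fun x hx => ?_
      exact (e.ge (show (⟨x, hx.2⟩ : M) ∈ (N ⊓ M).subgroupOf M from hx) : _)
    exact hMN fun m hm => ((hmaxH.2 _ hlt).ge (Subgroup.mem_top (⟨m, hm⟩ : M))).1
  have hNtop : N = ⊤ := by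
    by_contra h
    have hNM : N = M := by
      rcases lt_or_eq_of_le hMN with h' | h'
      · exact absurd (hmaxM.2 N h') h
      · exact h'.symm
    have hHnorm : H.Normal := ⟨fun x hx g => (hcl g).le ⟨Subgroup.mem_sup_right ⟨x, hx, rfl⟩, hNM.le (hconj g ⟨x, hx, rfl⟩)⟩⟩
    exact hne (le_antisymm (inf_le_left.trans (Subgroup.normalClosure_le_normal fun x hx => hx)) hHlt)
  -- intersections of `M` with its conjugates lie in `H`
  have hgen : ∀ u ∈ M, u ∉ H → H ⊔ Subgroup.zpowers u = M := by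
    intro u hu huH
    refine le_antisymm (sup_le hHM (Subgroup.zpowers_le.mpr hu)) ?_
    have hlt : H.subgroupOf M < (H ⊔ Subgroup.zpowers u).subgroupOf M := by
      refine lt_of_le_of_ne (Subgroup.comap_mono le_sup_left) fun e => huH ?_
      exact e.ge (show (⟨u, hu⟩ : M) ∈ _ from Subgroup.mem_sup_right (Subgroup.mem_zpowers u))
    exact fun m hm => (hmaxH.2 _ hlt).ge (Subgroup.mem_top (⟨m, hm⟩ : M))
  have hint : ∀ g : G, g ∉ M → ∀ u ∈ M, g⁻¹ * u * g ∈ M → u ∈ H := by
    intro g hg u hu hug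
    by_contra huH
    set Hg := H.map (MulAut.conj g).toMonoidHom with hHg
    set X := H ⊔ Hg with hX
    have huX : u ∈ Subgroup.normalizer (X : Set G) := by
      rw [← Cfsg.Agent.Invol.wc_map_conj_eq_iff, hX, Subgroup.map_sup, Cfsg.Agent.Invol.wc_map_conj_eq_iff.mpr (hHn hu),
        Cfsg.Agent.Invol.wc_map_conj_eq_iff.mpr]
      refine Cfsg.Agent.Invol.wc_le_normalizer_map g hHn ⟨g⁻¹ * u * g, hug, by simp [mul_assoc]⟩
    set Y := X ⊔ Subgroup.zpowers u with hY
    have hMY : M ≤ Y := by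
      rw [← hgen u hu huH]
      exact sup_le (le_sup_left.trans le_sup_left) le_sup_right
    have hXH : X ≤ M → X ≤ H := fun h => (le_inf le_rfl h).trans (hcl g).le
    have hYtop : Y = ⊤ := by
      rcases lt_or_eq_of_le hMY with h | h
      · exact hmaxM.2 Y h
      exfalso
      -- otherwise `g` normalizes `H`
      have hle : Hg ≤ H := le_sup_right.trans (hXH ((le_sup_left : X ≤ Y).trans h.ge))
      have hgN : g ∈ Subgroup.normalizer (H : Set G) := Subgroup.mem_normalizer_fintype fun x hx => hle ⟨x, hx, rfl⟩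
      rcases lt_or_eq_of_le hHn with h' | h'
      · have hHnorm : H.Normal := Subgroup.normalizer_eq_top_iff.mp (hmaxM.2 _ h')
        exact huH ((Subgroup.normalClosure_le_normal (s := (H : Set G)) (N := H) subset_rfl) (hMN hu))
      · exact hg (h'.ge hgN)
    have hXn : X.Normal := Subgroup.normalizer_eq_top_iff.mp (eq_top_iff.mpr (hYtop.ge.trans
      (sup_le Subgroup.le_normalizer (Subgroup.zpowers_le.mpr huX))))
    have hNX : N ≤ X := Subgroup.normalClosure_le_normal fun x hx => Subgroup.mem_sup_left hx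
    exact huH ((hcl g).le ⟨hNX (hMN hu), hu⟩)
  -- the transfer to `M / H`
  haveI : (H.subgroupOf M).Normal := (Subgroup.normal_subgroupOf_iff_le_normalizer hHM).mpr hHn
  haveI : IsMulCommutative (M ⧸ H.subgroupOf M) := by
    obtain ⟨⟨u, hu⟩, -, huH⟩ := SetLike.exists_of_lt (lt_top_iff_ne_top.mpr hmaxH.1)
    have hcyc : IsCyclic (M ⧸ H.subgroupOf M) := by
      refine ⟨QuotientGroup.mk ⟨u, hu⟩, fun x => ?_⟩
      obtain ⟨⟨m, hm⟩, rfl⟩ := QuotientGroup.mk_surjective x
      have hm' : m ∈ ((H ⊔ Subgroup.zpowers u : Subgroup G) : Set G) := (hgen u hu huH).ge hm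
      rw [sup_comm, Subgroup.coe_mul_of_left_le_normalizer_right _ _ ((Subgroup.zpowers_le.mpr hu).trans hHn)] at hm'
      obtain ⟨_, ⟨k, rfl⟩, h, hh, e⟩ := hm'
      refine ⟨k, ?_⟩
      simp only at e ⊢
      rw [← QuotientGroup.mk_zpow]
      refine QuotientGroup.eq.mpr ?_
      show ((⟨u, hu⟩ : M) ^ k : M).1⁻¹ * m ∈ H
      rw [SubgroupClass.coe_zpow, ← e]
      simpa using hh
    exact IsCyclic.isMulCommutative
  letI : CommGroup (M ⧸ H.subgroupOf M) := { (inferInstance : Group (M ⧸ H.subgroupOf M)) with mul_comm := IsMulCommutative.is_comm.comm }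
  set φ := QuotientGroup.mk' (H.subgroupOf M) with hφ
  set τ := MonoidHom.transfer (G := G) (H := M) φ with hτ
  have hφ1 : ∀ (v : M), (v : G) ∈ H → φ v = 1 := fun v hv => (QuotientGroup.eq_one_iff v).mpr hv
  have hτH : H ≤ τ.ker := by
    intro h hh
    letI := Fintype.ofFinite (Quotient (MulAction.orbitRel (Subgroup.zpowers h) (G ⧸ M)))
    rw [MonoidHom.mem_ker, hτ, MonoidHom.transfer_eq_prod_quotient_orbitRel_zpowers_quot]
    refine Finset.prod_eq_one fun q _ => hφ1 _ ?_
    refine (hcl q.out.out⁻¹).le ⟨Subgroup.mem_sup_right ⟨_, H.pow_mem hh (Function.minimalPeriod (h • ·) q.out), by simp [mul_assoc]⟩, ?_⟩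
    exact QuotientGroup.out_conj_pow_minimalPeriod_mem M h q.out
  have hker : τ.ker = ⊤ := eq_top_iff.mpr (hNtop.ge.trans (Subgroup.normalClosure_le_normal hτH))
  obtain ⟨m, hm, hmH⟩ := SetLike.exists_of_lt (lt_top_iff_ne_top.mpr hmaxH.1)
  apply hmH
  have h1 : τ (m : G) = 1 := MonoidHom.mem_ker.mp (hker.ge (Subgroup.mem_top _))
  letI := Fintype.ofFinite (Quotient (MulAction.orbitRel (Subgroup.zpowers (m : G)) (G ⧸ M)))
  rw [hτ, MonoidHom.transfer_eq_prod_quotient_orbitRel_zpowers_quot] at h1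
  set c1 : G ⧸ M := QuotientGroup.mk (1 : G) with hc1
  have hfix : (m : G) • c1 = c1 := QuotientGroup.eq.mpr (by simpa using M.inv_mem m.2)
  set q0 : Quotient (MulAction.orbitRel (Subgroup.zpowers (m : G)) (G ⧸ M)) := Quotient.mk'' c1 with hq0
  have hout : q0.out = c1 := by
    obtain ⟨⟨k, j, rfl⟩, hk⟩ := (Quotient.exact (Quotient.out_eq q0) : MulAction.orbitRel (Subgroup.zpowers (m : G)) (G ⧸ M) _ _)
    rw [← hk]
    exact (MulAction.mem_stabilizer_iff.mp (Subgroup.zpow_mem (MulAction.stabilizer G c1) (MulAction.mem_stabilizer_iff.mpr hfix) j) : ((m : G) ^ j) • c1 = c1)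
  rw [Finset.prod_eq_single q0] at h1
  · have hx : q0.out.out ∈ M := by
      have h2 : (QuotientGroup.mk q0.out.out : G ⧸ M) = c1 := (QuotientGroup.out_eq' q0.out).trans hout
      simpa using M.inv_mem (by simpa [hc1] using QuotientGroup.eq.mp h2)
    have hper : Function.minimalPeriod ((m : G) • ·) q0.out = 1 :=
      Function.minimalPeriod_eq_one_iff_isFixedPt.mpr (by rw [hout]; exact hfix)
    refine (QuotientGroup.eq_one_iff m).mp ?_
    have h3 : φ ((⟨q0.out.out, hx⟩ : M)⁻¹ * m * ⟨q0.out.out, hx⟩) = 1 := by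
      refine Eq.trans (congrArg φ (Subtype.ext ?_)) h1
      simp only [hper, pow_one]
      rfl
    rw [map_mul, map_mul, map_inv, mul_comm _ (φ m), inv_mul_cancel_right] at h3
    exact h3
  · intro q _ hq
    refine hφ1 _ ?_
    refine hint q.out.out⁻¹ (fun h => hq ?_) _ (QuotientGroup.out_conj_pow_minimalPeriod_mem M _ q.out) ?_
    · rw [hq0, ← Quotient.out_eq q]
      refine Quotient.sound' ?_
      have h2 : q.out = c1 := by
        rw [← QuotientGroup.out_eq' q.out, hc1]
        exact QuotientGroup.eq.mpr (by simpa using M.mul_mem h M.one_mem)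
      rw [h2]
    · simp only [mul_assoc, inv_inv, mul_inv_cancel_left, mul_inv_cancel, mul_one]
      first | done | exact M.pow_mem m.2 _
  · simp

end Cfsg.Agent.S3014
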