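import Cfsg.Statements.S3015
import Cfsg.Agent.Lib.Invol.WeakClosed
import Cfsg.Agent.Lib.Invol.SylowChains
import Cfsg.Agent.Lib.Grp.Basic
-- import your own Cfsg.Agent.* helpers here

set_option autoImplicit false
open Cfsg

namespace Cfsg.Agent.S3015

/-- Let G be a finite non-abelian simple group, M a maximal subgroup of G and H a normal subgroup of M of prime index in M. Then G is generated by H together with one of its conjugates. -/
theorem result {G : Type*} [Group G] [Finite G] [IsSimpleGroup G] (hG : ¬ IsMulCommutative G) (M H : Subgroup G) (hmaxM : IsCoatom M) (hHM : H ≤ M) (hHn : (H.subgroupOf M).Normal) (hidx : (H.relIndex M).Prime) : ∃ g : G, H ⊔ H.map (MulAut.conj g).toMonoidHom = ⊤ := by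
  classical
  by_contra hno
  push Not at hno
  set q := H.relIndex M with hq
  have hHn'' := hHn
  replace hHn : M ≤ Subgroup.normalizer (H : Set G) := (Subgroup.normal_subgroupOf_iff_le_normalizer hHM).mp hHn
  have hqne : ¬ M ≤ H := fun h => hidx.ne_one (Subgroup.relIndex_eq_one.mpr h)
  have hM1 : M ≠ ⊥ := fun h => hqne (h.le.trans bot_le)
  have hMn : ¬ M.Normal := fun h => h.eq_bot_or_eq_top.elim hM1 hmaxM.1
  haveI hHn' : (H.subgroupOf M).Normal := hHn''
  haveI : Fact q.Prime := ⟨hidx⟩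
  have hidx' : (H.subgroupOf M).index = q := rfl
  have hgen : ∀ u ∈ M, u ∉ H → H ⊔ Subgroup.zpowers u = M := by
    intro u hu huH
    set W := H ⊔ Subgroup.zpowers u with hW
    have hWM : W ≤ M := sup_le hHM (Subgroup.zpowers_le.mpr hu)
    have h1 : H.relIndex W * W.relIndex M = q := Subgroup.relIndex_mul_relIndex _ _ _ le_sup_left hWM
    refine le_antisymm hWM (Subgroup.relIndex_eq_one.mp ((hidx.eq_one_or_self_of_dvd _ ⟨_, (mul_comm _ _).trans h1 |>.symm⟩).resolve_right fun h2 => huH ?_))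
    rw [h2] at h1
    have h3 : H.relIndex W = 1 := (Nat.mul_eq_right hidx.ne_zero).mp h1
    exact Subgroup.relIndex_eq_one.mp h3 (Subgroup.mem_sup_right (Subgroup.mem_zpowers u))
  have hMM : ∀ g : G, g ∉ M → ¬ M ≤ M.map (MulAut.conj g).toMonoidHom := by
    intro g hg h
    have hgN : g⁻¹ ∈ Subgroup.normalizer (M : Set G) := Subgroup.mem_normalizer_fintype fun x hx => by
      obtain ⟨y, hy, hyx⟩ := h hx
      have : g * y * g⁻¹ = x := hyx
      rw [← this]; simpa [mul_assoc] using hy
    rcases lt_or_eq_of_le (Subgroup.le_normalizer (H := M)) with h' | h'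
    · exact hMn (Subgroup.normalizer_eq_top_iff.mp (hmaxM.2 _ h'))
    · exact hg (by simpa using M.inv_mem (h'.ge hgN))
  -- proper joins meet `M` in the conjugate
  have hint : ∀ g : G, g ∉ M → ¬ H.map (MulAut.conj g).toMonoidHom ≤ M → ∀ u ∈ M, g⁻¹ * u * g ∈ M → u ∈ H := by
    intro g hg hgM u hu hug
    by_contra huH
    set X := H ⊔ H.map (MulAut.conj g).toMonoidHom with hX
    have huX : u ∈ Subgroup.normalizer (X : Set G) := by
      rw [← Cfsg.Agent.Invol.wc_map_conj_eq_iff, hX, Subgroup.map_sup, Cfsg.Agent.Invol.wc_map_conj_eq_iff.mpr (hHn hu),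
        Cfsg.Agent.Invol.wc_map_conj_eq_iff.mpr]
      exact Cfsg.Agent.Invol.wc_le_normalizer_map g hHn ⟨g⁻¹ * u * g, hug, by simp [mul_assoc]⟩
    set Y := X ⊔ Subgroup.zpowers u with hY
    have hMY : M ≤ Y := by
      rw [← hgen u hu huH]
      exact sup_le (le_sup_left.trans le_sup_left) le_sup_right
    rcases lt_or_eq_of_le hMY with h | h
    · have hXn : X.Normal := Subgroup.normalizer_eq_top_iff.mp (eq_top_iff.mpr ((hmaxM.2 _ h).ge.trans
        (sup_le Subgroup.le_normalizer (Subgroup.zpowers_le.mpr huX))))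
      rcases hXn.eq_bot_or_eq_top with h' | h'
      · exact hgM (le_sup_right.trans (h'.le.trans bot_le))
      · exact hno g h'
    · exact hgM (le_sup_right.trans ((le_sup_left : X ≤ Y).trans h.ge))
  -- a conjugate of `H` in `M` is the whole intersection
  have hinter : ∀ g : G, g ∉ M → H.map (MulAut.conj g).toMonoidHom ≤ M →
      M ⊓ M.map (MulAut.conj g).toMonoidHom = H.map (MulAut.conj g).toMonoidHom := by
    intro g hg hgM
    set L := M ⊓ M.map (MulAut.conj g).toMonoidHom with hL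
    set Hg := H.map (MulAut.conj g).toMonoidHom with hHg
    set Mg := M.map (MulAut.conj g).toMonoidHom with hMg
    have h1 : Hg ≤ L := le_inf hgM (Subgroup.map_mono hHM)
    have h2 : Hg.relIndex L * L.relIndex Mg = q := by
      rw [Subgroup.relIndex_mul_relIndex _ _ _ h1 inf_le_right]
      exact Subgroup.relIndex_map_map_of_injective H M (MulAut.conj g).injective
    refine le_antisymm (Subgroup.relIndex_eq_one.mp ((hidx.eq_one_or_self_of_dvd _ ⟨_, h2.symm⟩).resolve_right fun h3 => ?_)) h1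
    rw [h3] at h2
    have h4 : Mg ≤ M := (Subgroup.relIndex_eq_one.mp ((Nat.mul_eq_left hidx.ne_zero).mp h2)).trans inf_le_left
    have h5 : Nat.card Mg = Nat.card M := Subgroup.card_map_of_injective (MulAut.conj g).injective
    exact hMM g hg (Subgroup.eq_of_le_of_card_ge h4 h5.ge).ge
  -- the test element
  obtain ⟨m, hmM, hmH, hgood⟩ : ∃ m ∈ M, m ∉ H ∧ ∀ x : G, x ∉ M → ∀ r : ℕ, x⁻¹ * m ^ r * x ∈ M → x⁻¹ * m ^ r * x ∈ H := by
    have hbase : ∀ x : G, x ∉ M → ∀ w ∈ M, x⁻¹ * w * x ∈ M →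
        (¬ H.map (MulAut.conj x⁻¹).toMonoidHom ≤ M → x⁻¹ * w * x ∈ H) ∧
        (H.map (MulAut.conj x⁻¹).toMonoidHom ≤ M → x⁻¹ * w * x ∈ H.map (MulAut.conj x⁻¹).toMonoidHom ∧ w ∈ H) := by
      intro x hx w hw hv
      have hx' : x⁻¹ ∉ M := fun h => hx (by simpa using M.inv_mem h)
      refine ⟨fun h => hint x⁻¹ hx' h _ hv (by simpa [mul_assoc] using hw), fun h => ?_⟩
      have h1 : x⁻¹ * w * x ∈ H.map (MulAut.conj x⁻¹).toMonoidHom :=
        (hinter x⁻¹ hx' h).le ⟨hv, ⟨w, hw, by simp⟩⟩
      refine ⟨h1, ?_⟩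
      obtain ⟨y, hy, hyx⟩ := h1
      have e : x⁻¹ * y * x⁻¹⁻¹ = x⁻¹ * w * x := hyx
      have : y = w := by simpa using e
      exact this ▸ hy
    by_cases hB : ∃ g : G, H.map (MulAut.conj g).toMonoidHom ≤ M ∧ H.map (MulAut.conj g).toMonoidHom ≠ H
    · obtain ⟨g0, hg0, hne⟩ := hB
      set K := H.map (MulAut.conj g0).toMonoidHom with hK
      have hcardK : Nat.card K = Nat.card H := Subgroup.card_map_of_injective (MulAut.conj g0).injective
      have hKH : ¬ K ≤ H := fun h => hne (Subgroup.eq_of_le_of_card_ge h hcardK.ge)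
      obtain ⟨k, hkK, hkH⟩ := SetLike.not_le_iff_exists.mp hKH
      refine ⟨k, hg0 hkK, hkH, fun x hx r hv => ?_⟩
      obtain ⟨h1, h2⟩ := hbase x hx (k ^ r) (M.pow_mem (hg0 hkK) r) hv
      by_cases hxM : H.map (MulAut.conj x⁻¹).toMonoidHom ≤ M
      swap
      · exact h1 hxM
      obtain ⟨hv', hw⟩ := h2 hxM
      set H' := H.map (MulAut.conj x).toMonoidHom with hH'
      suffices hD : H ⊓ K ≤ H' by
        obtain ⟨y, hy, hyx⟩ := hD ⟨hw, K.pow_mem hkK r⟩
        have e : x * y * x⁻¹ = k ^ r := hyx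
        rw [← e]; simpa [mul_assoc] using hy
      set M' := M.map (MulAut.conj x).toMonoidHom with hM'
      have hHM' : H ≤ M' := by
        intro h hh
        refine ⟨x⁻¹ * h * x, hxM ⟨h, hh, by simp⟩, by simp [mul_assoc]⟩
      have hq' : H'.relIndex M' = q := Subgroup.relIndex_map_map_of_injective H M (MulAut.conj x).injective
      have hE : H'.relIndex H ≤ q := hq' ▸ Subgroup.relIndex_le_of_le_right hHM' (by rw [hq']; exact hidx.ne_zero)
      have hD : K.relIndex H = q := by
        have hd : H.relIndex K ∣ q := by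
          rw [← Subgroup.relIndex_subgroupOf hg0, ← hidx']
          exact Subgroup.relIndex_dvd_index_of_normal _ _
        have hd' : H.relIndex K = q := (hidx.eq_one_or_self_of_dvd _ hd).resolve_left fun h => hKH (Subgroup.relIndex_eq_one.mp h)
        have e1 := Cfsg.Agent.Grp.card_mul_relIndex (inf_le_left : H ⊓ K ≤ H)
        have e2 := Cfsg.Agent.Grp.card_mul_relIndex (inf_le_right : H ⊓ K ≤ K)
        rw [Subgroup.inf_relIndex_left] at e1
        rw [Subgroup.inf_relIndex_right, hcardK, hd'] at e2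
        exact Nat.eq_of_mul_eq_mul_left Nat.card_pos (e1.trans e2.symm)
      -- `X = ⟨K, H'⟩` meets `M` in `K`
      have hH'M : ¬ H' ≤ M := by
        intro h
        have h1 := hinter x hx h
        have h2 : H ≤ H' := (le_inf hHM hHM').trans h1.le
        have h3 := Subgroup.eq_of_le_of_card_ge h2 (Subgroup.card_map_of_injective (MulAut.conj x).injective).le
        rcases lt_or_eq_of_le hHn with h' | h'
        · rcases (Subgroup.normalizer_eq_top_iff.mp (hmaxM.2 _ h')).eq_bot_or_eq_top with h4 | h4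
          · exact hKH (by simp [hK, h4])
          · exact hqne (h4 ▸ le_top)
        · exact hx (h'.ge (Cfsg.Agent.Invol.wc_map_conj_eq_iff.mp h3.symm))
      set X := K ⊔ H' with hX
      have hXtop : X ≠ ⊤ := by
        intro h
        refine hno (g0⁻¹ * x) ?_
        have h1 := congrArg (Subgroup.map (MulAut.conj g0⁻¹).toMonoidHom) h
        rw [hX, Subgroup.map_sup, hK, hH', ← Cfsg.Agent.Invol.wc_map_conj_mul, ← Cfsg.Agent.Invol.wc_map_conj_mul,
          inv_mul_cancel, Cfsg.Agent.Invol.wc_map_conj_one] at h1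
        rw [h1]
        exact Subgroup.map_top_of_surjective _ (MulAut.conj g0⁻¹).surjective
      have hXM : X ⊓ M ≤ K := by
        have h1 : K ≤ X ⊓ M := le_inf le_sup_left hg0
        have hqK : K.relIndex M = q := by
          have e1 := Cfsg.Agent.Grp.card_mul_relIndex hg0
          have e2 := Cfsg.Agent.Grp.card_mul_relIndex hHM
          rw [hcardK, ← e2] at e1
          exact Nat.eq_of_mul_eq_mul_left Nat.card_pos e1
        have h2 : K.relIndex (X ⊓ M) * (X ⊓ M).relIndex M = q := by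
          rw [Subgroup.relIndex_mul_relIndex _ _ _ h1 inf_le_right, hqK]
        refine Subgroup.relIndex_eq_one.mp ((hidx.eq_one_or_self_of_dvd _ ⟨_, h2.symm⟩).resolve_right fun h3 => ?_)
        rw [h3] at h2
        have h4 : M ≤ X := (Subgroup.relIndex_eq_one.mp ((Nat.mul_eq_left hidx.ne_zero).mp h2)).trans inf_le_left
        rcases lt_or_eq_of_le h4 with h5 | h5
        · exact hXtop (hmaxM.2 _ h5)
        · exact hH'M (le_sup_right.trans h5.ge)
      have hED : H ⊓ H' ≤ H ⊓ K := le_inf inf_le_left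
        ((le_inf (inf_le_right.trans le_sup_right) (inf_le_left.trans hHM)).trans hXM)
      have h6 := Subgroup.relIndex_mul_relIndex _ _ _ hED (inf_le_left : H ⊓ K ≤ H)
      rw [Subgroup.inf_relIndex_left, Subgroup.inf_relIndex_left, hD] at h6
      have h7 : (H ⊓ H').relIndex (H ⊓ K) * q ≤ 1 * q := by rw [one_mul, h6]; exact hE
      have h8 : (H ⊓ H').relIndex (H ⊓ K) = 1 :=
        le_antisymm (Nat.le_of_mul_le_mul_right h7 hidx.pos) (Nat.one_le_iff_ne_zero.mpr Subgroup.index_ne_zero_of_finite)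
      exact (Subgroup.relIndex_eq_one.mp h8).trans inf_le_right
    · push Not at hB
      obtain ⟨m, hmM, hmH⟩ := SetLike.not_le_iff_exists.mp hqne
      refine ⟨m, hmM, hmH, fun x hx r hv => ?_⟩
      obtain ⟨h1, h2⟩ := hbase x hx (m ^ r) (M.pow_mem hmM r) hv
      by_cases hxM : H.map (MulAut.conj x⁻¹).toMonoidHom ≤ M
      · exact (hB _ hxM).le (h2 hxM).1
      · exact h1 hxM
  -- the transfer to `M / H`
  haveI : IsCyclic (M ⧸ H.subgroupOf M) := isCyclic_of_prime_card (p := q) (by rw [← Subgroup.index_eq_card, hidx'])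
  letI : CommGroup (M ⧸ H.subgroupOf M) := IsCyclic.commGroup
  set φ := QuotientGroup.mk' (H.subgroupOf M) with hφ
  set τ := MonoidHom.transfer (G := G) (H := M) φ with hτ
  have hker : τ.ker = ⊤ := by
    refine (MonoidHom.normal_ker τ).eq_bot_or_eq_top.resolve_left fun h => hG ?_
    refine ⟨⟨fun a b => (MonoidHom.ker_eq_bot_iff τ).mp h ?_⟩⟩
    rw [map_mul, map_mul, mul_comm]
  apply hmH
  have h1 : τ m = 1 := MonoidHom.mem_ker.mp (hker.ge (Subgroup.mem_top _))
  letI := Fintype.ofFinite (Quotient (MulAction.orbitRel (Subgroup.zpowers m) (G ⧸ M)))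
  rw [hτ, MonoidHom.transfer_eq_prod_quotient_orbitRel_zpowers_quot] at h1
  set c1 : G ⧸ M := QuotientGroup.mk (1 : G) with hc1
  have hfix : m • c1 = c1 := QuotientGroup.eq.mpr (by simpa using M.inv_mem hmM)
  set q0 : Quotient (MulAction.orbitRel (Subgroup.zpowers m) (G ⧸ M)) := Quotient.mk'' c1 with hq0
  have hout : q0.out = c1 := by
    obtain ⟨⟨k, j, rfl⟩, hk⟩ := (Quotient.exact (Quotient.out_eq q0) : MulAction.orbitRel (Subgroup.zpowers m) (G ⧸ M) _ _)
    rw [← hk]
    exact (MulAction.mem_stabilizer_iff.mp (Subgroup.zpow_mem (MulAction.stabilizer G c1) (MulAction.mem_stabilizer_iff.mpr hfix) j) : (m ^ j) • c1 = c1)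
  rw [Finset.prod_eq_single q0] at h1
  · have hx : q0.out.out ∈ M := by
      have h2 : (QuotientGroup.mk q0.out.out : G ⧸ M) = c1 := (QuotientGroup.out_eq' q0.out).trans hout
      simpa using M.inv_mem (by simpa [hc1] using QuotientGroup.eq.mp h2)
    have hper : Function.minimalPeriod (m • ·) q0.out = 1 :=
      Function.minimalPeriod_eq_one_iff_isFixedPt.mpr (by rw [hout]; exact hfix)
    suffices h4 : φ ⟨m, hmM⟩ = 1 from (QuotientGroup.eq_one_iff (N := H.subgroupOf M) (⟨m, hmM⟩ : M)).mp h4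
    have h3 : φ ((⟨q0.out.out, hx⟩ : M)⁻¹ * ⟨m, hmM⟩ * ⟨q0.out.out, hx⟩) = 1 := by
      refine Eq.trans (congrArg φ (Subtype.ext ?_)) h1
      simp only [hper, pow_one]
      rfl
    rw [map_mul, map_mul, map_inv, mul_comm _ (φ ⟨m, hmM⟩), inv_mul_cancel_right] at h3
    exact h3
  · intro c _ hc
    refine (QuotientGroup.eq_one_iff _).mpr (hgood c.out.out (fun h => hc ?_) _ (QuotientGroup.out_conj_pow_minimalPeriod_mem M m c.out))
    rw [hq0, ← Quotient.out_eq c]
    refine Quotient.sound' ?_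
    have h2 : c.out = c1 := by
      rw [← QuotientGroup.out_eq' c.out, hc1]
      exact QuotientGroup.eq.mpr (by simpa using M.inv_mem h)
    rw [h2]
  · simp

end Cfsg.Agent.S3015
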