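import Cfsg.Statements.S3016
import Cfsg.Agent.Lib.Invol.ExtClosedOdd.Main
import Cfsg.Agent.Lib.Invol.ExtClosedOdd.Fixed
-- import your own Cfsg.Agent.* helpers here

set_option autoImplicit false
open Cfsg
open scoped Pointwise commutatorElement

namespace Cfsg.Agent.S3016

/-- Let G be a finite group, p an odd prime, and H an abelian p-subgroup of G that is extremely closed (for every g, the subgroup generated by H and g H g⁻¹ meets N_G(H) exactly in H). Then the normal closure of H meets N_G(H) exactly in H, and G = N_G(H) O_{p'}(G). -/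
theorem result {G : Type*} [Group G] [Finite G] {p : ℕ} [Fact p.Prime] (hp : p ≠ 2) (H : Subgroup G) (hHp : IsPGroup p H) (hHab : IsMulCommutative H) (hcl : Cfsg.IsExtremelyClosed H) : Subgroup.normalClosure (H : Set G) ⊓ Subgroup.normalizer (H : Set G) = H ∧ Subgroup.normalizer (H : Set G) ⊔ Cfsg.pPrimeCore p G = ⊤ := by
  haveI hON : (Cfsg.pPrimeCore p G).Normal := Grp.pPrimeCore_isNormal
  set O := Cfsg.pPrimeCore p G with hO
  have htop : Subgroup.normalizer (H : Set G) ⊔ O = ⊤ :=
    ExtClosedP.normalizer_sup_core hp _ G rfl H hHp hHab hcl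
  refine ⟨le_antisymm ?_ (le_inf Subgroup.subset_normalClosure Subgroup.le_normalizer), htop⟩
  set D := ⁅O, H⁆ with hD
  have hHO : H ≤ Subgroup.normalizer (O : Set G) := by
    rw [Subgroup.normalizer_eq_top]; exact le_top
  have hHD : H ≤ Subgroup.normalizer (D : Set G) := Grp.right_le_normalizer_commutator H O
  have hDO : D ≤ O := Grp.commutator_le_left_of_le_normalizer hHO
  have hfix : D ⊓ Subgroup.centralizer (H : Set G) = ⊥ :=
    ExtClosedP.commutator_inf_centralizer hp _ G H O hHp hHab hcl Grp.pPrimeCore_not_dvd hHO rfl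
  have hclos : Subgroup.normalClosure (H : Set G) ≤ H ⊔ D := by
    refine (Subgroup.closure_le _).2 fun x hx => ?_
    obtain ⟨a, ha, hax⟩ := Group.mem_conjugatesOfSet_iff.1 hx
    obtain ⟨g, rfl⟩ := isConj_iff.1 hax
    have hg : g ∈ (O : Set G) * (Subgroup.normalizer (H : Set G) : Set G) := by
      rw [← Subgroup.normal_mul, sup_comm, htop]; exact Subgroup.mem_top g
    obtain ⟨o, ho, n, hn, rfl⟩ := hg
    have hb : n * a * n⁻¹ ∈ H := (Subgroup.mem_normalizer_iff.1 hn a).1 ha
    show o * n * a * (o * n)⁻¹ ∈ H ⊔ D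
    rw [show o * n * a * (o * n)⁻¹ = ⁅o, n * a * n⁻¹⁆ * (n * a * n⁻¹) by
      rw [commutatorElement_def]; group]
    exact mul_mem (Subgroup.mem_sup_right (Subgroup.commutator_mem_commutator ho hb))
      (Subgroup.mem_sup_left hb)
  rintro x ⟨hx, hxN⟩
  obtain ⟨d, hd, a, ha, rfl⟩ := ExtClosedP.mem_sup_dec hHD (hclos hx)
  have hdN : d ∈ Subgroup.normalizer (H : Set G) := by
    rw [show d = d * a * a⁻¹ by group]
    exact mul_mem hxN (inv_mem (Subgroup.le_normalizer ha))
  have hdC : d ∈ Subgroup.centralizer (H : Set G) := by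
    refine Subgroup.mem_centralizer_iff.2 fun b hb => ?_
    have h1 : ⁅d, b⁆ ∈ H := by
      rw [commutatorElement_def]
      exact mul_mem ((Subgroup.mem_normalizer_iff.1 hdN b).1 hb) (inv_mem hb)
    have h2 : ⁅d, b⁆ ∈ O := hDO (Subgroup.commutator_mem_commutator (hDO hd) hb)
    exact (commutatorElement_eq_one_iff_mul_comm.1
      (ExtClosedP.eq_one_of_mem_odd hHp Grp.pPrimeCore_not_dvd h1 h2)).symm
  have hd1 : d = 1 := Subgroup.mem_bot.1 (hfix ▸ (⟨hd, hdC⟩ : d ∈ D ⊓ Subgroup.centralizer (H : Set G)))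
  rw [hd1, one_mul]
  exact ha

end Cfsg.Agent.S3016
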