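import Cfsg.Statements.S3022
import Cfsg.Agent.Lib.Fus.PushBlocks.OddAut.Invariant

set_option autoImplicit false
open Cfsg

namespace Cfsg.Agent.S3022

/-- Let G be a finite group all of whose non-abelian simple sections are known simple groups, such that a Sylow 2-subgroup of G lies in exactly one maximal subgroup of G and C_G(O₂(G)) ≤ O₂(G). Let S be a Sylow 2-subgroup of G and A a group of automorphisms of S of odd order. Then some nontrivial A-invariant subgroup of S is normal in G. -/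
theorem result {G : Type*} [Group G] [Finite G] (hK : Cfsg.IsKGroup G) (hirr : ∀ S : Sylow 2 G, ∃! M : Subgroup G, IsCoatom M ∧ (S : Subgroup G) ≤ M) (hchar : Subgroup.centralizer (Cfsg.pCore 2 G : Set G) ≤ Cfsg.pCore 2 G) (S : Sylow 2 G) (A : Subgroup (MulAut ↥(S : Subgroup G))) (hA : Odd (Nat.card A)) : ∃ U : Subgroup G, U ≠ ⊥ ∧ U.Normal ∧ U ≤ (S : Subgroup G) ∧ ∀ a ∈ A, ∀ x : ↥(S : Subgroup G), (x : G) ∈ U → ((a x : ↥(S : Subgroup G)) : G) ∈ U := by
  haveI : Fact (Nat.Prime 2) := ⟨Nat.prime_two⟩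
  by_cases hn : (S : Subgroup G).Normal
  · refine ⟨(S : Subgroup G), fun e => ?_, hn, le_rfl, fun a _ x _ => (a x).2⟩
    have hQ : Cfsg.pCore 2 G = ⊥ := le_bot_iff.mp ((Cfsg.Agent.Grp.pCore_le_sylow S).trans e.le)
    have hs : ∀ g : G, g = 1 := fun g => by
      have h1 : g ∈ Cfsg.pCore 2 G := hchar (Subgroup.mem_centralizer_iff.mpr fun x hx => by
        rw [hQ] at hx
        rw [Subgroup.mem_bot.mp hx, one_mul, mul_one])
      rw [hQ] at h1
      exact Subgroup.mem_bot.mp h1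
    obtain ⟨M, ⟨⟨hM, -⟩, -⟩, -⟩ := hirr S
    exact hM (eq_top_iff.mpr fun g _ => (hs g).symm ▸ one_mem M)
  · refine Cfsg.Agent.Fus.PushBlocks.exists_invariant (fun P => ⟨fun hP => hn ?_, hirr P⟩) hchar S A hA
    obtain ⟨g, hg⟩ := MulAction.exists_smul_eq G P S
    rw [← hg, Sylow.smul_eq_of_normal]
    exact hP

end Cfsg.Agent.S3022
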