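import Cfsg.Prelude
import Cfsg.Agent.S0016
-- import your own Cfsg.Agent.* helpers here

set_option autoImplicit false
open Cfsg

open scoped Pointwise commutatorElement

namespace Cfsg.Agent.S3025

/-- Let F be a finite group and H a nontrivial subgroup of F that is contained in every nontrivial subgroup of F which H normalizes. Then F has a nontrivial normal subgroup N contained in every nontrivial normal subgroup of F (a unique minimal normal subgroup), N is simple, and one of the following holds: C_F(N) = 1; or H = N has prime order p, C_F(N) is cyclic of order a power of p, and F/C_F(N) is cyclic of order dividing p − 1; or H = N has order 2, N is central in F, and F is a generalized quaternion group. -/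
theorem result {F : Type*} [Group F] [Finite F] (H : Subgroup F) (hH : H ≠ ⊥)
    (hmin : ∀ R : Subgroup F, R ≠ ⊥ → H ≤ Subgroup.normalizer (R : Set F) → H ≤ R) :
    ∃ N : Subgroup F, N.Normal ∧ N ≠ ⊥ ∧ (∀ M : Subgroup F, M.Normal → M ≠ ⊥ → N ≤ M) ∧ IsSimpleGroup ↥N ∧
      (Subgroup.centralizer (N : Set F) = ⊥ ∨
       (H = N ∧ (Nat.card N).Prime ∧ IsCyclic ↥(Subgroup.centralizer (N : Set F)) ∧
          (∃ k : ℕ, 1 ≤ k ∧ Nat.card ↥(Subgroup.centralizer (N : Set F)) = Nat.card N ^ k) ∧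
          (∃ g : F, Subgroup.centralizer (N : Set F) ⊔ Subgroup.zpowers g = ⊤) ∧
          (Subgroup.centralizer (N : Set F)).index ∣ Nat.card N - 1) ∨
       (H = N ∧ Nat.card N = 2 ∧ Subgroup.centralizer (N : Set F) = ⊤ ∧
          ∃ k : ℕ, 1 ≤ k ∧ Nonempty (F ≃* QuaternionGroup (2 ^ k)))) := by
  classical
  obtain ⟨N, hN⟩ : ∃ N, N = Subgroup.normalClosure (H : Set F) := ⟨_, rfl⟩
  have hNn : N.Normal := hN ▸ Subgroup.normalClosure_normal
  have hHN : H ≤ N := hN ▸ Subgroup.le_normalClosure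
  have hN1 : N ≠ ⊥ := fun e => hH (le_bot_iff.mp (e ▸ hHN))
  have hmin' : ∀ M : Subgroup F, M.Normal → M ≠ ⊥ → N ≤ M := fun M hM hM1 => by
    haveI := hM
    exact hN ▸ Subgroup.normalClosure_le_normal (hmin M hM1 (by rw [Subgroup.normalizer_eq_top_iff.mpr hM]; exact le_top))
  have hsimp : IsSimpleGroup ↥N := by
    haveI : Nontrivial ↥N := (Subgroup.nontrivial_iff_ne_bot N).mpr hN1
    refine ⟨fun M hM => ?_⟩
    rcases eq_or_ne M ⊥ with h | hM1
    · exact Or.inl h
    refine Or.inr (eq_top_iff.mpr fun x _ => ?_)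
    have hall : ∀ g : F, ∀ h ∈ H, g * h * g⁻¹ ∈ M.map N.subtype := by
      intro g h hh
      have h1 : H ≤ (M.map N.subtype).map (MulAut.conj g⁻¹).toMonoidHom := by
        refine hmin _ ?_ ?_
        · rw [Ne, Subgroup.map_eq_bot_iff_of_injective _ (MulAut.conj g⁻¹).injective,
            Subgroup.map_eq_bot_iff_of_injective _ N.subtype_injective]
          exact hM1
        · intro k hk
          refine Subgroup.mem_normalizer_fintype ?_
          rintro _ ⟨_, ⟨m, hm, rfl⟩, rfl⟩
          refine ⟨(g * k * g⁻¹) * m * (g * k * g⁻¹)⁻¹, ⟨⟨g * k * g⁻¹, hNn.conj_mem _ (hHN hk) g⟩ * m *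
            ⟨g * k * g⁻¹, hNn.conj_mem _ (hHN hk) g⟩⁻¹, hM.conj_mem m hm _, rfl⟩, ?_⟩
          simp [mul_assoc]
      obtain ⟨z, hz, e⟩ := h1 hh
      rw [← e]
      simpa [mul_assoc] using hz
    have h2 : N ≤ M.map N.subtype := by
      refine le_trans hN.le ((Subgroup.closure_le _).mpr fun y hy => ?_)
      obtain ⟨h, hh, hy⟩ := Group.mem_conjugatesOfSet_iff.mp hy
      obtain ⟨g, rfl⟩ := isConj_iff.mp hy
      exact hall g h hh
    obtain ⟨z, hz, e⟩ := h2 x.2
    rwa [← Subtype.ext e]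
  refine ⟨N, hNn, hN1, hmin', hsimp, ?_⟩
  obtain ⟨C, hC⟩ : ∃ C, C = Subgroup.centralizer (N : Set F) := ⟨_, rfl⟩
  rw [← hC]
  by_cases hC1 : C = ⊥
  · exact Or.inl hC1
  haveI := hNn
  haveI hCn : C.Normal := hC ▸ inferInstance
  have hNC : N ≤ C := hmin' C hCn hC1
  haveI := hsimp
  have hp : (Nat.card N).Prime := by
    letI : CommGroup ↥N := { (inferInstance : Group ↥N) with
      mul_comm := fun a b => Subtype.ext (Subgroup.mem_centralizer_iff.mp (show (b : F) ∈ Subgroup.centralizer (N : Set F) from hC ▸ hNC b.2) a a.2) }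
    exact IsSimpleGroup.prime_card
  obtain ⟨p, hpdef⟩ : ∃ p, p = Nat.card N := ⟨_, rfl⟩
  rw [← hpdef] at hp ⊢
  haveI := Fact.mk hp
  have hHeq : H = N := by
    refine Subgroup.eq_of_le_of_card_ge hHN ?_
    rcases (Nat.dvd_prime hp).mp (hpdef ▸ Subgroup.card_dvd_of_le hHN) with h | h
    · exact absurd (Subgroup.eq_bot_of_card_eq _ h) hH
    · rw [h, hpdef]
  have hsub : ∀ R : Subgroup F, R ≤ C → R ≠ ⊥ → N ≤ R := by
    intro R hR hR1
    refine hHeq ▸ hmin R hR1 (fun k hk => ?_)
    refine Subgroup.mem_normalizer_fintype fun r hr => ?_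
    rw [Subgroup.mem_centralizer_iff.mp (hC ▸ hR hr) k (hHN hk), mul_inv_cancel_right]
    exact hr
  have hCp : IsPGroup p ↥C := by
    refine IsPGroup.of_card (n := (Nat.card C).primeFactorsList.length)
      (Nat.eq_prime_pow_of_unique_prime_dvd Nat.card_pos.ne' fun {q} hq hqd => ?_)
    haveI := Fact.mk hq
    obtain ⟨x, hx⟩ := exists_prime_orderOf_dvd_card' (G := C) q hqd
    have hx' : orderOf (x : F) = q := by rw [Subgroup.orderOf_coe, hx]
    have h1 := hsub (Subgroup.zpowers (x : F)) (Subgroup.zpowers_le.mpr x.2) (by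
      rw [Ne, Subgroup.zpowers_eq_bot]; intro e; rw [e, orderOf_one] at hx'; exact hq.ne_one hx'.symm)
    have h2 := Subgroup.card_dvd_of_le h1
    rw [Nat.card_zpowers, hx', ← hpdef] at h2
    exact ((Nat.prime_dvd_prime_iff_eq hp hq).mp h2).symm
  have huniq : ∀ A B : Subgroup ↥C, Nat.card A = p → Nat.card B = p → A = B := by
    suffices h : ∀ A : Subgroup ↥C, Nat.card A = p → A.map C.subtype = N by
      intro A B hA hB
      exact Subgroup.map_injective C.subtype_injective ((h A hA).trans (h B hB).symm)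
    intro A hA
    have hcard : Nat.card ↥(A.map C.subtype) = p := by
      rw [Subgroup.card_map_of_injective C.subtype_injective, hA]
    exact (Subgroup.eq_of_le_of_card_ge (hsub _ (Subgroup.map_subtype_le _) (fun e => by
      rw [e, Subgroup.card_bot] at hcard; exact hp.ne_one hcard.symm)) (by rw [hcard, hpdef])).symm
  obtain ⟨k, hk⟩ := IsPGroup.iff_card.mp hCp
  have hk1 : 1 ≤ k := by
    by_contra h
    rw [show k = 0 by omega, pow_zero] at hk
    exact hC1 (Subgroup.eq_bot_of_card_eq _ hk)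
  -- the automorphisms of `N`
  haveI : IsCyclic ↥N := isCyclic_of_prime_card (p := p) hpdef.symm
  let θ : F →* MulAut ↥N := MulAut.conjNormal
  have hker : θ.ker = C := by
    ext g
    rw [MonoidHom.mem_ker, hC, Subgroup.mem_centralizer_iff]
    constructor
    · intro h y hy
      have h1 := congrArg Subtype.val (DFunLike.congr_fun h (⟨y, hy⟩ : N))
      simp only [θ, MulAut.conjNormal_apply, MulAut.one_apply] at h1
      exact (mul_inv_eq_iff_eq_mul.mp h1).symm
    · intro h
      refine MulEquiv.ext fun y => Subtype.ext ?_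
      rw [MulAut.conjNormal_apply, MulAut.one_apply, ← h y y.2, mul_inv_cancel_right]
  have hautc : Nat.card (MulAut ↥N) = p - 1 := by
    rw [Nat.card_congr (IsCyclic.mulAutMulEquiv ↥N).toEquiv, ← hpdef, Nat.card_eq_fintype_card,
      ZMod.card_units]
  haveI : IsCyclic (MulAut ↥N) := by
    haveI : IsCyclic (ZMod (Nat.card N))ˣ := hpdef ▸ inferInstanceAs (IsCyclic (ZMod p)ˣ)
    exact isCyclic_of_surjective _ (IsCyclic.mulAutMulEquiv ↥N).symm.surjective
  have hidx : C.index ∣ p - 1 := by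
    rw [← hker, Subgroup.index_ker, ← hautc]
    exact Subgroup.card_subgroup_dvd_card _
  have hgen : ∃ g : F, C ⊔ Subgroup.zpowers g = ⊤ := by
    obtain ⟨⟨_, g, rfl⟩, hgen⟩ := IsCyclic.exists_generator (α := θ.range)
    refine ⟨g, eq_top_iff.mpr fun x _ => ?_⟩
    obtain ⟨i, hi⟩ := Subgroup.mem_zpowers_iff.mp (hgen ⟨θ x, x, rfl⟩)
    have hi' : θ g ^ i = θ x := congrArg Subtype.val hi
    have hx : x * (g ^ i)⁻¹ ∈ C := by
      rw [← hker, MonoidHom.mem_ker, map_mul, map_inv, map_zpow, hi', mul_inv_cancel]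
    have := Subgroup.mul_mem_sup hx (Subgroup.zpow_mem_zpowers g i)
    rwa [inv_mul_cancel_right] at this
  rcases S0016.result p hCp huniq with hcyc | ⟨hp2, n, ⟨e⟩⟩
  · exact Or.inr (Or.inl ⟨hHeq, hp, hcyc, ⟨k, hk1, hk⟩, hgen, hidx⟩)
  rcases Nat.eq_zero_or_pos n with rfl | hn
  · haveI : IsCyclic (QuaternionGroup (2 ^ 0)) := QuaternionGroup.quaternionGroup_one_isCyclic
    exact Or.inr (Or.inl ⟨hHeq, hp, isCyclic_of_surjective _ e.symm.surjective, ⟨k, hk1, hk⟩, hgen, hidx⟩)
  refine Or.inr (Or.inr ⟨hHeq, hp2, ?_, n, hn, ?_⟩)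
  · exact Subgroup.index_eq_one.mp (Nat.dvd_one.mp (by simpa [hp2] using hidx))
  · have htop : C = ⊤ := Subgroup.index_eq_one.mp (Nat.dvd_one.mp (by simpa [hp2] using hidx))
    exact ⟨((MulEquiv.subgroupCongr htop).trans Subgroup.topEquiv).symm.trans e⟩

end Cfsg.Agent.S3025
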