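import Cfsg.Statements.S3027
import Mathlib
-- import your own Cfsg.Agent.* helpers here

set_option autoImplicit false
open Cfsg

namespace Cfsg.Agent.S3027

set_option linter.style.haveILetI false

open scoped commutatorElement Pointwise

universe w

variable {G : Type w} [Group G] (D : Subgroup G) [D.Normal]

theorem sup_eq_top_of_le (hperf : ⁅(⊤ : Subgroup G), (⊤ : Subgroup G)⁆ ⊔ D = ⊤) {X Y Z : Subgroup G}
    (hX : X ⊔ D = ⊤) (hY : Y ⊔ D = ⊤) (hZ : ⁅X, Y⁆ ≤ Z) : Z ⊔ D = ⊤ := by
  let π := QuotientGroup.mk' D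
  have key : ∀ H : Subgroup G, H.map π = ⊤ ↔ H ⊔ D = ⊤ := fun H => by
    constructor
    · intro h
      rw [← QuotientGroup.ker_mk' D, ← Subgroup.comap_map_eq, show H.map (QuotientGroup.mk' D) = ⊤ from h,
        Subgroup.comap_top]
    · intro h
      refine (eq_top_iff.2 fun y _ => ?_)
      obtain ⟨g, rfl⟩ := QuotientGroup.mk'_surjective D y
      obtain ⟨a, ha, d, hd, rfl⟩ := Subgroup.mem_sup_of_normal_right.1 (h ▸ Subgroup.mem_top g)
      exact ⟨a, ha, by simp [π, (QuotientGroup.eq_one_iff d).2 hd]⟩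
  have hfull : (⊤ : Subgroup (G ⧸ D)) ≤ Z.map π := by
    calc (⊤ : Subgroup (G ⧸ D)) = (⁅(⊤ : Subgroup G), (⊤ : Subgroup G)⁆).map π := ((key _).2 hperf).symm
      _ = ⁅(⊤ : Subgroup G).map π, (⊤ : Subgroup G).map π⁆ := Subgroup.map_commutator _ _ _
      _ = ⁅X.map π, Y.map π⁆ := by
          rw [Subgroup.map_top_of_surjective π (QuotientGroup.mk'_surjective D), (key X).2 hX, (key Y).2 hY]
      _ = (⁅X, Y⁆).map π := (Subgroup.map_commutator _ _ _).symm
      _ ≤ Z.map π := Subgroup.map_mono hZ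
  exact (key Z).1 (top_le_iff.1 hfull)

theorem mem_inf_finset {ι : Type w} (s : Finset ι) (f : ι → Subgroup G) (x : G) :
    x ∈ s.inf f ↔ ∀ i ∈ s, x ∈ f i := by
  classical
  induction s using Finset.induction_on with
  | empty => simp
  | @insert a s _ ih => simp [Finset.inf_insert, Subgroup.mem_inf, ih]

theorem main [Finite G] (hperf : ⁅(⊤ : Subgroup G), (⊤ : Subgroup G)⁆ ⊔ D = ⊤) :
    ∃ B : Subgroup G, B.Normal ∧ B ⊔ D = ⊤ ∧
      ∀ B' : Subgroup G, B'.IsSubnormal → B' ⊔ D = ⊤ → B ≤ B' := by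
  classical
  obtain ⟨B, ⟨hBn, hBD⟩, hmin⟩ := Set.exists_min_image {B : Subgroup G | B.Normal ∧ B ⊔ D = ⊤}
    (fun B => Nat.card B) (Set.toFinite _) ⟨⊤, inferInstance, top_sup_eq D⟩
  haveI := hBn
  have hminle : ∀ N : Subgroup G, N.Normal → N ⊔ D = ⊤ → B ≤ N := by
    intro N hN hND
    haveI := hN
    have h := sup_eq_top_of_le D hperf hBD hND (Subgroup.commutator_le_inf B N)
    have he : B ⊓ N = B := Subgroup.eq_of_le_of_card_ge inf_le_left
      (hmin _ ⟨inferInstance, h⟩)
    exact inf_eq_left.1 he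
  refine ⟨B, hBn, hBD, fun B' hsn => ?_⟩
  induction hsn with
  | top => exact fun _ => le_top
  | step H C hle hC hN ih =>
    intro hHD
    have hBC : B ≤ C := ih (top_le_iff.1 (hHD ▸ sup_le_sup_right hle D))
    set E := B ⊓ H with hE
    have hHn : ∀ c ∈ C, ∀ h ∈ H, c * h * c⁻¹ ∈ H := fun c hc h hh => by
      have := hN.conj_mem ⟨h, hle hh⟩ hh ⟨c, hc⟩
      exact this
    have hED : E ⊔ D = ⊤ := by
      refine sup_eq_top_of_le D hperf hBD hHD (Subgroup.commutator_le.2 fun b hb h hh => Subgroup.mem_inf.2 ⟨?_, ?_⟩)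
      · rw [commutatorElement_def, show b * h * b⁻¹ * h⁻¹ = b * (h * b⁻¹ * h⁻¹) by group]
        exact mul_mem hb (hBn.conj_mem _ (inv_mem hb) h)
      · rw [commutatorElement_def]
        exact mul_mem (hHn b (hBC hb) h hh) (inv_mem hh)
    -- conjugates of E are normal in B
    have hEn : ∀ (g : G), ∀ b ∈ B, ∀ e ∈ MulAut.conj g • E, b * e * b⁻¹ ∈ MulAut.conj g • E := by
      intro g b hb e he
      rw [Subgroup.mem_pointwise_smul_iff_inv_smul_mem] at he ⊢
      simp only [← map_inv, MulAut.smul_def, MulAut.conj_apply, inv_inv] at he ⊢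
      have hb' := hBn.conj_mem' b hb g
      rw [show g⁻¹ * (b * e * b⁻¹) * g = g⁻¹ * b * g * (g⁻¹ * e * g) * (g⁻¹ * b * g)⁻¹ by group]
      exact Subgroup.mem_inf.2 ⟨hBn.conj_mem _ he.1 _, hHn _ (hBC hb') _ he.2⟩
    have hconjD : ∀ g : G, (MulAut.conj g • E) ⊔ D = ⊤ := by
      intro g
      have h1 : MulAut.conj g • (E ⊔ D) = MulAut.conj g • (⊤ : Subgroup G) := by rw [hED]
      rw [Subgroup.smul_sup, Subgroup.Normal.conjAct inferInstance g |> fun h => (show MulAut.conj g • D = D from h)] at h1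
      rw [h1]
      exact top_le_iff.1 fun x _ => by
        rw [Subgroup.mem_pointwise_smul_iff_inv_smul_mem]; exact Subgroup.mem_top _
    have hall : ∀ s : Finset G, (B ⊓ s.inf fun g => MulAut.conj g • E) ⊔ D = ⊤ := by
      intro s
      induction s using Finset.induction_on with
      | empty => simpa using hBD
      | @insert a s _ ihs =>
        rw [Finset.inf_insert]
        refine sup_eq_top_of_le D hperf (hconjD a) ihs (Subgroup.commutator_le.2 fun x hx y hy => ?_)
        have hxB : x ∈ B := by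
          rw [Subgroup.mem_pointwise_smul_iff_inv_smul_mem] at hx
          have h1 := hBn.conj_mem _ hx.1 a
          simpa [← map_inv, MulAut.smul_def, MulAut.conj_apply, mul_assoc] using h1
        refine Subgroup.mem_inf.2 ⟨?_, Subgroup.mem_inf.2 ⟨?_, ?_⟩⟩
        · rw [commutatorElement_def]
          exact mul_mem (mul_mem (mul_mem hxB (Subgroup.mem_inf.1 hy).1) (inv_mem hxB)) (inv_mem (Subgroup.mem_inf.1 hy).1)
        · rw [commutatorElement_def, show x * y * x⁻¹ * y⁻¹ = x * (y * x⁻¹ * y⁻¹) by group]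
          exact mul_mem hx (hEn a y (Subgroup.mem_inf.1 hy).1 _ (inv_mem hx))
        · have hy2 := (Subgroup.mem_inf.1 hy).2
          rw [mem_inf_finset] at hy2 ⊢
          intro g hg
          rw [commutatorElement_def]
          exact mul_mem (hEn g x hxB _ (hy2 g hg)) (inv_mem (hy2 g hg))
    haveI := Fintype.ofFinite G
    set N := B ⊓ (Finset.univ : Finset G).inf (fun g => MulAut.conj g • E) with hNdef
    have hNn : N.Normal := ⟨fun x hx k => by
      obtain ⟨hxB, hxI⟩ := Subgroup.mem_inf.1 hx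
      refine Subgroup.mem_inf.2 ⟨hBn.conj_mem x hxB k, ?_⟩
      rw [mem_inf_finset] at hxI ⊢
      intro g _
      have h1 := hxI (k⁻¹ * g) (Finset.mem_univ _)
      rw [Subgroup.mem_pointwise_smul_iff_inv_smul_mem] at h1 ⊢
      simpa [← map_inv, MulAut.smul_def, MulAut.conj_apply, mul_assoc] using h1⟩
    refine (hminle N hNn (hall _)).trans (inf_le_right.trans ((Finset.inf_le (Finset.mem_univ 1)).trans ?_))
    rw [map_one, one_smul]
    exact inf_le_right

/-- Let G be a finite group and D a normal subgroup of G such that G/D is perfect (that is, G = G′D). Then among the subnormal subgroups B of G with BD = G there is a least one, and it is normal in G. -/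
theorem result {G : Type*} [Group G] [Finite G] (D : Subgroup G) [D.Normal] (hperf : ⁅(⊤ : Subgroup G), (⊤ : Subgroup G)⁆ ⊔ D = ⊤) :
    ∃ B : Subgroup G, B.Normal ∧ B ⊔ D = ⊤ ∧ ∀ B' : Subgroup G, B'.IsSubnormal → B' ⊔ D = ⊤ → B ≤ B' := by
  exact main D hperf

end Cfsg.Agent.S3027
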