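import Cfsg.Statements.S3036
import Cfsg.Agent.Lib.Invol.ChermakDelgado
-- import your own Cfsg.Agent.* helpers here

set_option autoImplicit false
open Cfsg

namespace Cfsg.Agent.S3036

/-- Let G be a finite non-abelian simple group and A a proper nontrivial subgroup of G. Then |G| > |A| · |C_G(A)|. In particular |G| > |A|² for every nontrivial abelian subgroup A of G. -/
theorem result {G : Type*} [Group G] [Finite G] [IsSimpleGroup G] (hG : ¬ IsMulCommutative G) (A : Subgroup G) (hA1 : A ≠ ⊥) (hA2 : A ≠ ⊤) : Nat.card A * Nat.card ↥(Subgroup.centralizer (A : Set G)) < Nat.card G := by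
  classical
  have hZ : Subgroup.center G = ⊥ := by
    rcases IsSimpleGroup.eq_bot_or_eq_top_of_normal (Subgroup.center G) inferInstance with h | h
    · exact h
    · exact absurd ⟨⟨fun a b => (Subgroup.mem_center_iff.mp (h ▸ Subgroup.mem_top a : a ∈ Subgroup.center G) b).symm⟩⟩ hG
  by_contra hle
  push Not at hle
  obtain ⟨M, hM⟩ := Invol.exists_cdMax (G := G)
  -- a maximal-measure subgroup that is neither trivial nor everything
  obtain ⟨A', hA', hA'1, hA'2⟩ : ∃ A' : Subgroup G, Invol.CDMax A' ∧ A' ≠ ⊥ ∧ A' ≠ ⊤ := by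
    by_cases hMA : Invol.CDMax A
    · exact ⟨A, hMA, hA1, hA2⟩
    refine ⟨M, hM, ?_, ?_⟩
    · rintro rfl
      refine hMA (hM.of_ge ?_)
      have : Invol.cdMeasure (⊥ : Subgroup G) = Nat.card G := by
        unfold Invol.cdMeasure
        rw [Subgroup.card_bot, one_mul]
        exact (congrArg (fun H : Subgroup G => Nat.card H) (Subgroup.centralizer_eq_top_iff_subset.mpr
          (by simp))).trans Subgroup.card_top
      rw [this]
      exact hle
    · rintro rfl
      refine hMA (hM.of_ge ?_)
      have : Invol.cdMeasure (⊤ : Subgroup G) = Nat.card G := by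
        unfold Invol.cdMeasure
        rw [Subgroup.card_top, Subgroup.coe_top, Subgroup.centralizer_univ, hZ, Subgroup.card_bot, mul_one]
      rw [this]
      exact hle
  -- take one of largest order
  let s : Finset (Subgroup G) := (Set.toFinite {H : Subgroup G | Invol.CDMax H ∧ H ≠ ⊥ ∧ H ≠ ⊤}).toFinset
  obtain ⟨H, hHs, hHmax⟩ := s.exists_max_image (fun H => Nat.card H) ⟨A', by simp [s, hA', hA'1, hA'2]⟩
  simp only [s, Set.Finite.mem_toFinset, Set.mem_setOf_eq] at hHs hHmax
  obtain ⟨hH, hH1, hH2⟩ := hHs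
  have hnorm : H.Normal := by
    constructor
    intro n hn g
    obtain ⟨hsup, -, hprod, -⟩ := (hH.map (MulAut.conj g)).lattice hH
    by_cases htop : H.map (MulAut.conj g).toMonoidHom ⊔ H = ⊤
    · open scoped Pointwise in
      have hg : g ∈ ((H.map (MulAut.conj g).toMonoidHom : Subgroup G) : Set G) * (H : Set G) := by
        rw [← hprod, htop]; trivial
      obtain ⟨_, ⟨a, ha, rfl⟩, b, hb, hab⟩ := hg
      have hgH : g ∈ H := by
        simp only [MulEquiv.coe_toMonoidHom, MulAut.conj_apply] at hab
        have h0 : a * g⁻¹ * b = 1 := by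
          calc a * g⁻¹ * b = g⁻¹ * (g * a * g⁻¹ * b) := by group
            _ = 1 := by rw [hab, inv_mul_cancel]
        have h1 : g = b * a := by
          calc g = b * (a * g⁻¹ * b)⁻¹ * a := by group
            _ = b * a := by rw [h0, inv_one, mul_one]
        exact h1 ▸ mul_mem hb ha
      exact mul_mem (mul_mem hgH hn) (inv_mem hgH)
    · have hne : H.map (MulAut.conj g).toMonoidHom ⊔ H ≠ ⊥ := fun h => hH1 (eq_bot_iff.mpr (h ▸ le_sup_right))
      have heq := Subgroup.eq_of_le_of_card_ge le_sup_right (hHmax _ ⟨hsup, hne, htop⟩)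
      have : g * n * g⁻¹ ∈ H.map (MulAut.conj g).toMonoidHom := ⟨n, hn, rfl⟩
      rw [heq]
      exact Subgroup.mem_sup_left this
  rcases IsSimpleGroup.eq_bot_or_eq_top_of_normal H hnorm with h | h
  · exact hH1 h
  · exact hH2 h

end Cfsg.Agent.S3036
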