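import Cfsg.Statements.S3037
import Cfsg.Agent.Lib.Invol.ChermakDelgado

set_option autoImplicit false
open Cfsg Cfsg.Agent

namespace Cfsg.Agent.S3037

/-- Let V and G be subgroups of a finite group with V an elementary abelian p-group (p prime) on which G acts faithfully and irreducibly by conjugation: G normalizes V, G ∩ C(V) = 1, and the only subgroups of V normalized by G are 1 and V. If for some nontrivial subgroup A of G and some real α > 0 one has |V| ≤ |A|^α · |C_V(A)|, then |V| ≤ |G|^α. -/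
theorem result {X : Type*} [Group X] [Finite X] {p : ℕ} [Fact p.Prime] (V G : Subgroup X) (hV : Cfsg.IsElementaryAbelian p V)
    (hGV : G ≤ Subgroup.normalizer (V : Set X)) (hfaith : G ⊓ Subgroup.centralizer (V : Set X) = ⊥)
    (hirr : ∀ W : Subgroup X, W ≤ V → G ≤ Subgroup.normalizer (W : Set X) → W = ⊥ ∨ W = V)
    (A : Subgroup X) (hA : A ≤ G) (hA1 : A ≠ ⊥) (α : ℝ) (hα : 0 < α)
    (hbig : (Nat.card V : ℝ) ≤ (Nat.card A : ℝ) ^ α * (Nat.card ↥(V ⊓ Subgroup.centralizer (A : Set X)) : ℝ)) :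
    (Nat.card V : ℝ) ≤ (Nat.card G : ℝ) ^ α := by
  classical
  let m : Subgroup X → ℝ := fun H =>
    (Nat.card H : ℝ) ^ α * (Nat.card ↥(V ⊓ Subgroup.centralizer (H : Set X)) : ℝ)
  have hm0 : ∀ H : Subgroup X, 0 < m H := fun H =>
    mul_pos (Real.rpow_pos_of_pos (Nat.cast_pos.2 Nat.card_pos) α) (Nat.cast_pos.2 Nat.card_pos)
  have hsub : ∀ H K : Subgroup X, m H * m K ≤ m (H ⊔ K) * m (H ⊓ K) := by
    intro H K
    have h1 : (Nat.card H : ℝ) * Nat.card K ≤ (Nat.card ↥(H ⊔ K) : ℝ) * Nat.card ↥(H ⊓ K) := by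
      exact_mod_cast Invol.card_mul_le_card_sup H K
    have h2 := Invol.card_mul_le_card_sup (V ⊓ Subgroup.centralizer (H : Set X))
      (V ⊓ Subgroup.centralizer (K : Set X))
    have h3 : (V ⊓ Subgroup.centralizer (H : Set X)) ⊔ (V ⊓ Subgroup.centralizer (K : Set X)) ≤
        V ⊓ Subgroup.centralizer ((H ⊓ K : Subgroup X) : Set X) :=
      le_inf (sup_le inf_le_left inf_le_left)
        ((sup_le_sup inf_le_right inf_le_right).trans (Invol.sup_centralizer_le H K))
    have h4 : (V ⊓ Subgroup.centralizer (H : Set X)) ⊓ (V ⊓ Subgroup.centralizer (K : Set X)) ≤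
        V ⊓ Subgroup.centralizer ((H ⊔ K : Subgroup X) : Set X) :=
      le_inf (inf_le_left.trans inf_le_left)
        ((inf_le_inf inf_le_right inf_le_right).trans (Invol.centralizer_sup_le H K))
    have h5 := h2.trans (Nat.mul_le_mul (Subgroup.card_le_of_le h3) (Subgroup.card_le_of_le h4))
    have h5' : (Nat.card ↥(V ⊓ Subgroup.centralizer (H : Set X)) : ℝ) *
        Nat.card ↥(V ⊓ Subgroup.centralizer (K : Set X)) ≤
        (Nat.card ↥(V ⊓ Subgroup.centralizer ((H ⊔ K : Subgroup X) : Set X)) : ℝ) *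
        Nat.card ↥(V ⊓ Subgroup.centralizer ((H ⊓ K : Subgroup X) : Set X)) := by
      rw [mul_comm] at h5 ⊢
      norm_cast
      linarith
    have h1' := Real.rpow_le_rpow (by positivity) h1 hα.le
    rw [Real.mul_rpow (by positivity) (by positivity), Real.mul_rpow (by positivity) (by positivity)]
      at h1'
    have := mul_le_mul h1' h5' (by positivity) (by positivity)
    simp only [m]
    linarith
  let s : Finset (Subgroup X) := (Set.toFinite {H : Subgroup X | H ≤ G}).toFinset
  obtain ⟨M₀, hM₀, hmax₀⟩ := s.exists_max_image m ⟨A, by simp [s, hA]⟩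
  obtain ⟨M, hM, hMbig⟩ := (s.filter fun H => m M₀ ≤ m H).exists_max_image
    (fun H => Nat.card H) ⟨M₀, by simp [hM₀]⟩
  simp only [s, Finset.mem_filter, Set.Finite.mem_toFinset, Set.mem_setOf_eq] at hM hMbig hmax₀
  have hAV : (Nat.card V : ℝ) ≤ m M := hbig.trans ((hmax₀ A hA).trans hM.2)
  -- invariance
  have hconj : ∀ g ∈ G, ∀ H : Subgroup X,
      V ⊓ Subgroup.centralizer ((H.map (MulAut.conj g).toMonoidHom : Subgroup X) : Set X) =
        (V ⊓ Subgroup.centralizer (H : Set X)).map (MulAut.conj g).toMonoidHom := by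
    intro g hg H
    ext x
    simp only [Subgroup.mem_inf, Subgroup.mem_map_equiv, Subgroup.mem_centralizer_iff, SetLike.mem_coe,
      MulAut.conj_symm_apply]
    have hxV : g⁻¹ * x * g ∈ V ↔ x ∈ V := by
      have := Subgroup.mem_normalizer_iff.1 (inv_mem (hGV hg)) x
      simpa using this.symm
    constructor
    · rintro ⟨hx, hc⟩
      refine ⟨hxV.2 hx, fun a ha => ?_⟩
      have h := hc (g * a * g⁻¹) (by simpa [mul_assoc] using ha)
      calc a * (g⁻¹ * x * g) = g⁻¹ * (g * a * g⁻¹ * x) * g := by group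
        _ = _ := by rw [h]; group
    · rintro ⟨hx, hc⟩
      refine ⟨hxV.1 hx, fun a ha => ?_⟩
      have h := hc (g⁻¹ * a * g) ha
      calc a * x = g * ((g⁻¹ * a * g) * (g⁻¹ * x * g)) * g⁻¹ := by group
        _ = _ := by rw [h]; group
  have hmap : ∀ g ∈ G, M.map (MulAut.conj g).toMonoidHom = M := by
    intro g hg
    set M' := M.map (MulAut.conj g).toMonoidHom with hM'
    have hc : Nat.card M' = Nat.card M := Subgroup.card_map_of_injective (MulAut.conj g).injective
    have hM'G : M' ≤ G := by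
      rintro _ ⟨a, ha, rfl⟩
      exact mul_mem (mul_mem hg (hM.1 ha)) (inv_mem hg)
    have hmM' : m M' = m M := by
      simp only [m]
      rw [hc, hM', hconj g hg M, Subgroup.card_map_of_injective (MulAut.conj g).injective]
    have h1 := hsub M M'
    have h2 := hmax₀ (M ⊓ M') (inf_le_left.trans hM.1)
    have h3 : m M₀ ≤ m (M ⊔ M') := by
      rw [hmM'] at h1
      have h4 : m M₀ * m M₀ ≤ m (M ⊔ M') * m M₀ :=
        (mul_le_mul hM.2 hM.2 (hm0 _).le (hm0 _).le).trans
          (h1.trans (mul_le_mul_of_nonneg_left h2 (hm0 _).le))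
      exact le_of_mul_le_mul_right h4 (hm0 _)
    have h5 : M = M ⊔ M' := Subgroup.eq_of_le_of_card_ge le_sup_left
      (hMbig _ ⟨sup_le hM.1 hM'G, h3⟩)
    exact Subgroup.eq_of_le_of_card_ge (le_sup_right.trans h5.ge) hc.ge
  rcases hirr (V ⊓ Subgroup.centralizer (M : Set X)) inf_le_left (fun g hg => by
    rw [Subgroup.mem_normalizer_iff]
    intro x
    have h := hconj g hg M
    rw [hmap g hg] at h
    conv_rhs => rw [h]
    simp [Subgroup.mem_map_equiv, mul_assoc]) with hW | hW
  · refine hAV.trans ?_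
    simp only [m]
    rw [hW, Subgroup.card_bot, Nat.cast_one, mul_one]
    exact Real.rpow_le_rpow (by positivity) (by exact_mod_cast Subgroup.card_le_of_le hM.1) hα.le
  · exfalso
    have hMbot : M = ⊥ := le_bot_iff.1 (hfaith ▸ le_inf hM.1
      (Subgroup.le_centralizer_iff.1 (inf_eq_left.1 hW)))
    have hbot : m M = (Nat.card V : ℝ) := by
      simp only [m]
      rw [hW, hMbot, Subgroup.card_bot, Nat.cast_one, Real.one_rpow, one_mul]
    have h6 := hMbig A ⟨hA, hM.2.trans (hbot ▸ hbig)⟩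
    rw [hMbot, Subgroup.card_bot] at h6
    exact absurd (A.one_lt_card_iff_ne_bot.2 hA1) (not_lt.2 h6)

end Cfsg.Agent.S3037
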