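import Cfsg.Statements.S3038
import Cfsg.Agent.Lib.Invol.IsolatedRankTwo
import Cfsg.Agent.Lib.Fus.IsolatedRankTwoSylow
-- import your own Cfsg.Agent.* helpers here

set_option autoImplicit false
open Cfsg

namespace Cfsg.Agent.S3038

/-- Let G be a finite group and p an odd prime with O_{p'}(G) = 1. Suppose that G has p-rank at most 2 and that some element x of order p is isolated in G and not central. Then F*(G) is a non-abelian simple group, and for every Sylow p-subgroup P of F*(G), either no conjugate of x lies in P and P is cyclic, or some conjugate of x lies in P and either P is extraspecial of order p³ and exponent p, or p = 3 and P has order 3^{2k+1} for some k ≥ 2 and is of maximal class (nilpotency class 2k). Since O_{p'}(G) = 1, such an x is not central modulo O_{p'}(G): the hypotheses describe a counterexample to the Z*_p statement in p-rank at most 2, and the conclusion records the structure it would have. -/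
theorem result {G : Type*} [Group G] [Finite G] {p : ℕ} [Fact p.Prime] (hp : p ≠ 2) (hcore : Cfsg.pPrimeCore p G = ⊥)
    (hrank : Cfsg.PRankLE p 2 G) (x : G) (hx : orderOf x = p) (hiso : Cfsg.IsIsolated x) (hnc : x ∉ Subgroup.center G) :
    IsSimpleGroup ↥(Cfsg.generalizedFittingSubgroup G) ∧ ¬ IsMulCommutative ↥(Cfsg.generalizedFittingSubgroup G) ∧
    ∀ P : Sylow p ↥(Cfsg.generalizedFittingSubgroup G),
      ((∀ g : G, g * x * g⁻¹ ∉ ((P : Subgroup ↥(Cfsg.generalizedFittingSubgroup G)).map (Cfsg.generalizedFittingSubgroup G).subtype)) ∧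
          IsCyclic ↥(P : Subgroup ↥(Cfsg.generalizedFittingSubgroup G))) ∨
      ((∃ g : G, g * x * g⁻¹ ∈ ((P : Subgroup ↥(Cfsg.generalizedFittingSubgroup G)).map (Cfsg.generalizedFittingSubgroup G).subtype)) ∧
        ((Cfsg.IsExtraspecial p ↥(P : Subgroup ↥(Cfsg.generalizedFittingSubgroup G)) ∧
            Nat.card (P : Subgroup ↥(Cfsg.generalizedFittingSubgroup G)) = p ^ 3 ∧
            ∀ y ∈ (P : Subgroup ↥(Cfsg.generalizedFittingSubgroup G)), y ^ p = 1) ∨
         (p = 3 ∧ ∃ k : ℕ, 2 ≤ k ∧ Nat.card (P : Subgroup ↥(Cfsg.generalizedFittingSubgroup G)) = 3 ^ (2 * k + 1) ∧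
            ∃ _ : Group.IsNilpotent ↥(P : Subgroup ↥(Cfsg.generalizedFittingSubgroup G)),
              Group.nilpotencyClass ↥(P : Subgroup ↥(Cfsg.generalizedFittingSubgroup G)) = 2 * k))) := by
  classical
  obtain ⟨hsimple, hna⟩ := Invol.IsolatedRankTwo.fitting_simple hp hcore hrank x hx hiso hnc
  refine ⟨hsimple, hna, ?_⟩
  revert hsimple hna
  generalize hFdef : Cfsg.generalizedFittingSubgroup G = F
  intro hsimple hna P
  have hrkF : Cfsg.PRankLE p 2 ↥F := by
    intro A hA hexp
    haveI := hA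
    have := hrank (A.map F.subtype) (Subgroup.map_isMulCommutative _ _) (by
      rintro _ ⟨a, ha, rfl⟩
      exact congrArg Subtype.val (hexp a ha))
    rwa [Subgroup.card_map_of_injective F.subtype_injective] at this
  have hisoc : ∀ g : G, Cfsg.IsIsolated (g * x * g⁻¹) := by
    intro g h hc
    have e : ∀ y : G, h * (g * y * g⁻¹) * h⁻¹ = g * ((g⁻¹ * h * g) * y * (g⁻¹ * h * g)⁻¹) * g⁻¹ :=
      fun y => by group
    rw [e] at hc ⊢
    rw [hiso (g⁻¹ * h * g) ((Commute.conj_iff g).1 hc)]
  have hconj : ∀ g : G, orderOf (g * x * g⁻¹) = p := fun g => by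
    rw [← hx]
    exact orderOf_injective (MulAut.conj g).toMonoidHom (MulAut.conj g).injective x
  by_cases hex : ∃ g : G, g * x * g⁻¹ ∈ ((P : Subgroup ↥F).map F.subtype)
  · refine Or.inr ⟨hex, ?_⟩
    obtain ⟨g, y, hy, hye⟩ := hex
    have hye' : (y : G) = g * x * g⁻¹ := hye
    have hord : orderOf y = p := by rw [← Subgroup.orderOf_coe, hye', hconj]
    have hisoy : Cfsg.IsIsolated y := by
      intro h hc
      refine Subtype.ext ?_
      have h1 := hisoc g (h : G) (hye' ▸ (hc.map F.subtype))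
      show (h : G) * (y : G) * (h : G)⁻¹ = (y : G)
      rw [hye']; exact h1
    have hper : commutator ↥F = ⊤ := by
      rcases IsSimpleGroup.eq_bot_or_eq_top_of_normal (commutator ↥F) inferInstance with h | h
      · exact absurd ⟨⟨fun a b => commutatorElement_eq_one_iff_mul_comm.1 (Subgroup.mem_bot.1
          (h ▸ Subgroup.commutator_mem_commutator (Subgroup.mem_top a) (Subgroup.mem_top b)))⟩⟩ hna
      · exact h
    exact Fus.IsoSylow.sylow_shape hper hp hrkF P hy hord hisoy
  · left
    rw [not_exists] at hex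
    refine ⟨hex, ?_⟩
    obtain ⟨S, hS⟩ := (P.isPGroup'.map F.subtype).exists_le_sylow
    have hxp : IsPGroup p (Subgroup.zpowers x) :=
      IsPGroup.of_card (n := 1) (by rw [Nat.card_zpowers, hx, pow_one])
    obtain ⟨T, hT⟩ := hxp.exists_le_sylow
    obtain ⟨g, hg⟩ := MulAction.exists_smul_eq G T S
    have hx' : g * x * g⁻¹ ∈ (S : Subgroup G) := by
      rw [← hg, Sylow.coe_subgroup_smul, Subgroup.mem_pointwise_smul_iff_inv_smul_mem]
      have e : (MulAut.conj g)⁻¹ • (g * x * g⁻¹) = x := by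
        rw [← map_inv, MulAut.smul_def, MulAut.conj_apply, inv_inv]; group
      rw [e]; exact hT (Subgroup.mem_zpowers x)
    have hord := hconj g
    have key : ∀ a b : ↥(P : Subgroup ↥F), a ^ p = 1 → a ≠ 1 → b ^ p = 1 →
        ((a : ↥F) : G) * (b : ↥F) = (b : ↥F) * (a : ↥F) → b ∈ Subgroup.zpowers a := by
      intro a b ha ha1 hb hab
      have hao : orderOf ((a : ↥F) : G) = p := by
        rw [Subgroup.orderOf_coe, Subgroup.orderOf_coe]; exact orderOf_eq_prime ha ha1
      have hbm : ((b : ↥F) : G) ∈ (S : Subgroup G) := hS ⟨b, b.2, rfl⟩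
      have ham : ((a : ↥F) : G) ∈ (S : Subgroup G) := hS ⟨a, a.2, rfl⟩
      have hnot : g * x * g⁻¹ ∉ Subgroup.zpowers ((a : ↥F) : G) := by
        intro hm
        refine hex g ?_
        obtain ⟨k, hk⟩ := Subgroup.mem_zpowers_iff.1 hm
        exact ⟨((a ^ k : ↥(P : Subgroup ↥F)) : ↥F), (a ^ k).2, by rw [← hk]; simp⟩
      obtain ⟨i, j, hij⟩ := Invol.IsolatedRankTwo.mem_of_rank hrank hao hord
        ((Invol.isolated_central (hisoc g) S.isPGroup' hx' _ ham).symm) hnot
        (by rw [← SubmonoidClass.coe_pow, ← SubmonoidClass.coe_pow, hb]; rfl)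
        hab (Invol.isolated_central (hisoc g) S.isPGroup' hx' _ hbm)
      have hj : (g * x * g⁻¹) ^ j ∈ (P : Subgroup ↥F).map F.subtype := by
        refine ⟨((a ^ (-i) * b : ↥(P : Subgroup ↥F)) : ↥F), (a ^ (-i) * b).2, ?_⟩
        simp [hij]
      by_cases hpj : (p : ℤ) ∣ j
      · rw [← hord] at hpj
        rw [orderOf_dvd_iff_zpow_eq_one.1 hpj, mul_one] at hij
        exact Subgroup.mem_zpowers_iff.2 ⟨i, Subtype.ext (Subtype.ext (by simpa using hij.symm))⟩
      · exfalso
        obtain ⟨u, v, huv⟩ :=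
          ((Nat.prime_iff_prime_int.1 (Fact.out : p.Prime)).coprime_iff_not_dvd.2 hpj).symm
        refine hex g ?_
        have hxp' : (g * x * g⁻¹) ^ (p : ℤ) = 1 := by rw [zpow_natCast, ← hord, pow_orderOf_eq_one]
        have e1 : (g * x * g⁻¹) ^ (j * u) = g * x * g⁻¹ := by
          calc (g * x * g⁻¹) ^ (j * u) = (g * x * g⁻¹) ^ (u * j + v * p) := by
                rw [zpow_add, zpow_mul _ v, zpow_comm _ v, hxp', one_zpow, mul_one, mul_comm]
            _ = g * x * g⁻¹ := by rw [huv, zpow_one]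
        rw [← e1, zpow_mul]
        exact Subgroup.zpow_mem _ hj u
    have hcen : ∀ a : ↥(P : Subgroup ↥F), a ^ p = 1 → a ∈ Subgroup.center ↥(P : Subgroup ↥F) := by
      intro a ha
      by_cases ha1 : a = 1
      · rw [ha1]; exact one_mem _
      haveI : Nontrivial ↥(P : Subgroup ↥F) := ⟨⟨a, 1, ha1⟩⟩
      haveI := P.isPGroup'.center_nontrivial
      obtain ⟨n, hn, hcard⟩ :=
        (P.isPGroup'.to_subgroup (Subgroup.center _)).nontrivial_iff_card.1 inferInstance
      obtain ⟨z, hz⟩ := exists_prime_orderOf_dvd_card' (G := Subgroup.center ↥(P : Subgroup ↥F)) p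
        (hcard ▸ dvd_pow_self p hn.ne')
      have hzo : orderOf (z : ↥(P : Subgroup ↥F)) = p := (Subgroup.orderOf_coe z).trans hz
      have hz1 : (z : ↥(P : Subgroup ↥F)) ≠ 1 := fun e => by
        rw [e, orderOf_one] at hzo
        exact (Fact.out : p.Prime).ne_one hzo.symm
      have hzp : (z : ↥(P : Subgroup ↥F)) ^ p = 1 :=
        orderOf_dvd_iff_pow_eq_one.1 (dvd_of_eq hzo)
      refine (Subgroup.zpowers_le.2 z.2) (key z a hzp hz1 ha ?_)
      have := congrArg (fun w : ↥(P : Subgroup ↥F) => ((w : ↥F) : G)) (Subgroup.mem_center_iff.1 z.2 a)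
      simpa using this.symm
    refine Grp.Blackburn.isCyclic_of_omega hp P.isPGroup' hcen ?_
    by_cases hA : ∀ a : ↥(P : Subgroup ↥F), a ^ p = 1 → a = 1
    · haveI : Subsingleton {a : ↥(P : Subgroup ↥F) // a ^ p = 1} :=
        ⟨fun a b => Subtype.ext ((hA _ a.2).trans (hA _ b.2).symm)⟩
      exact (Finite.card_le_one_iff_subsingleton.2 inferInstance).trans (Fact.out : p.Prime).one_lt.le
    · push_neg at hA
      obtain ⟨a, ha, ha1⟩ := hA
      refine (Nat.card_le_card_of_injective (fun b : {b : ↥(P : Subgroup ↥F) // b ^ p = 1} =>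
        (⟨b.1, key a b.1 ha ha1 b.2 (by
          have := congrArg (fun w : ↥(P : Subgroup ↥F) => ((w : ↥F) : G))
            (Subgroup.mem_center_iff.1 (hcen a ha) b.1)
          simpa using this.symm)⟩ : Subgroup.zpowers a))
        fun b c e => Subtype.ext (congrArg (fun t : Subgroup.zpowers a => (t : ↥(P : Subgroup ↥F))) e)).trans ?_
      rw [Nat.card_zpowers, orderOf_eq_prime ha ha1]

end Cfsg.Agent.S3038
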