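import Cfsg.Statements.S3040
import Cfsg.Agent.Lib.Grp.FpfThree.Main
-- import your own Cfsg.Agent.* helpers here

set_option autoImplicit false
open Cfsg

namespace Cfsg.Agent.S3040

/-- Let G be a finite group of even order coprime to 3, and let Σ be a group of automorphisms of G isomorphic to the symmetric group of degree 3 that is fixed-point-free (only the identity of G is fixed by every element of Σ). Then G is solvable, O_{2′,2}(G) (the preimage in G of O₂(G/O(G))) has odd index in G, and G = O_{2′,2}(G) C_G(σ) for every element σ of Σ of order 3; that is, O₂(G/O(G)) is a Sylow 2-subgroup of G/O(G) and G/O(G) = O₂(G/O(G)) C_{G/O(G)}(σ). -/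
theorem result {G : Type*} [Group G] [Finite G] (heven : 2 ∣ Nat.card G) (h3 : ¬ 3 ∣ Nat.card G)
    (Sig : Subgroup (MulAut G)) (hS3 : Nonempty (↥Sig ≃* Equiv.Perm (Fin 3))) (hfpf : ∀ g : G, (∀ σ ∈ Sig, σ g = g) → g = 1) :
    Group.IsSolvable G ∧ ¬ 2 ∣ (Cfsg.pPrimePCore 2 G).index ∧ ∀ σ ∈ Sig, orderOf σ = 3 →
      Cfsg.pPrimePCore 2 G ⊔ Subgroup.closure {g : G | σ g = g} = ⊤ := by
  obtain ⟨e⟩ := hS3
  haveI : Fact (Nat.Prime 2) := ⟨Nat.prime_two⟩
  have hS : ∀ s t : Equiv.Perm (Fin 3), s ^ 3 = 1 → s ≠ 1 → t ^ 2 = 1 → t ≠ 1 →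
      t * s = s⁻¹ * t ∧ ∀ u, u = 1 ∨ u = s ∨ u = s * s ∨ u = t ∨ u = t * s ∨ u = t * (s * s) := by
    decide
  obtain ⟨t, ht2, ht1⟩ : ∃ t : Equiv.Perm (Fin 3), t ^ 2 = 1 ∧ t ≠ 1 := by decide
  obtain ⟨τ, hτd⟩ : ∃ τ : ↥Sig, τ = e.symm t := ⟨_, rfl⟩
  have hτ2 : τ ^ 2 = 1 := by rw [hτd, ← map_pow, ht2, map_one]
  have key : ∀ σ : ↥Sig, orderOf σ = 3 → Grp.FpfThree.Hyp 3 (σ : MulAut G) := by
    intro σ hσ
    obtain ⟨hrel, hgen⟩ := hS (e σ) t (by rw [← map_pow, orderOf_dvd_iff_pow_eq_one.1 (dvd_of_eq hσ), map_one])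
      (fun h => by
        rw [map_eq_one_iff e e.injective] at h
        rw [h, orderOf_one] at hσ
        exact absurd hσ (by decide)) ht2 ht1
    have hrel' : τ * σ = σ⁻¹ * τ := e.injective (by
      rw [hτd, map_mul, map_mul, map_inv, e.apply_symm_apply, hrel])
    have hall : ∀ ρ : ↥Sig, ρ = 1 ∨ ρ = σ ∨ ρ = σ * σ ∨ ρ = τ ∨ ρ = τ * σ ∨ ρ = τ * (σ * σ) := by
      intro ρ
      rcases hgen (e ρ) with h | h | h | h | h | h
      · exact Or.inl (e.injective (by rw [h, map_one]))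
      · exact Or.inr (Or.inl (e.injective h))
      · exact Or.inr (Or.inr (Or.inl (e.injective (by rw [h, map_mul]))))
      · exact Or.inr (Or.inr (Or.inr (Or.inl (e.injective (by rw [h, hτd, e.apply_symm_apply])))))
      · exact Or.inr (Or.inr (Or.inr (Or.inr (Or.inl (e.injective (by
          rw [h, map_mul, hτd, e.apply_symm_apply]))))))
      · exact Or.inr (Or.inr (Or.inr (Or.inr (Or.inr (e.injective (by
          rw [h, map_mul, map_mul, hτd, e.apply_symm_apply]))))))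
    obtain ⟨a, had⟩ : ∃ a : MulAut G, a = (σ : MulAut G) := ⟨_, rfl⟩
    obtain ⟨b, hbd⟩ : ∃ b : MulAut G, b = (τ : MulAut G) := ⟨_, rfl⟩
    have hba : b * a = a⁻¹ * b := by
      rw [had, hbd]; exact congrArg Subtype.val hrel'
    have hb2 : ∀ x, b (b x) = x := fun x => by
      have h1 : b ^ 2 = 1 := by rw [hbd]; exact congrArg Subtype.val hτ2
      rw [pow_two] at h1
      exact congrArg (fun f : MulAut G => f x) h1
    have hinv : ∀ x, a x = x → b x ∈ Grp.FpfThree.fixed a := fun x hx => by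
      have h1 : b (a x) = a⁻¹ (b x) := congrArg (fun f : MulAut G => f x) hba
      rw [hx] at h1
      have h2 := congrArg a h1
      rw [MulAut.apply_inv_self] at h2
      exact h2
    let φ : Grp.FpfThree.fixed a →* Grp.FpfThree.fixed a :=
      { toFun := fun x => ⟨b x, hinv x x.2⟩
        map_one' := Subtype.ext (map_one b)
        map_mul' := fun x y => Subtype.ext (map_mul b (x : G) y) }
    have hφ : MonoidHom.FixedPointFree φ := by
      intro x hx
      have hbx : b x = x := congrArg Subtype.val hx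
      have hax : a x = x := x.2
      refine Subtype.ext (hfpf x fun ρ hρ => ?_)
      have hax : (σ : MulAut G) x = x := (congrArg (fun f : MulAut G => f (x : G)) had.symm).trans hax
      have hbx : (τ : MulAut G) x = x := (congrArg (fun f : MulAut G => f (x : G)) hbd.symm).trans hbx
      rcases hall ⟨ρ, hρ⟩ with h | h | h | h | h | h <;>
        rw [show ρ = ((⟨ρ, hρ⟩ : ↥Sig) : MulAut G) from rfl, h] <;>
        simp [MulAut.mul_apply, hax, hbx]
    have hφ2 : Function.Involutive φ := fun x => Subtype.ext (hb2 x)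
    rw [← had]
    refine ⟨Nat.prime_three, ?_, h3, h3, fun x y hx hy => ?_, fun x hx => ?_⟩
    · rw [had]
      exact congrArg Subtype.val (show σ ^ 3 = 1 by rw [← hσ, pow_orderOf_eq_one])
    · exact congrArg Subtype.val
        (hφ.commute_all_of_involutive hφ2 ⟨x, hx⟩ ⟨y, hy⟩).eq
    · have h1 := hφ.odd_orderOf_of_involutive hφ2 ⟨x, hx⟩
      rwa [← Subgroup.orderOf_coe] at h1
  obtain ⟨σ, hσ⟩ : ∃ σ : ↥Sig, orderOf σ = 3 := by
    haveI : Fact (Nat.Prime 3) := ⟨Nat.prime_three⟩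
    exact exists_prime_orderOf_dvd_card' 3 (by
      rw [Nat.card_congr e.toEquiv, Nat.card_perm, Nat.card_fin]; decide)
  haveI := Grp.FpfThree.isSolvable_of_hyp (key σ hσ)
  refine ⟨inferInstance, Grp.FpfThree.odd_index (key σ hσ), fun σ' hσ' h3' => ?_⟩
  refine top_le_iff.1 ((Grp.FpfThree.sup_fixed_eq_top (key ⟨σ', hσ'⟩ ?_)).ge.trans
    (sup_le_sup_left (fun x hx => Subgroup.subset_closure hx) _))
  rwa [← Subgroup.orderOf_coe]

end Cfsg.Agent.S3040
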