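import Cfsg.Statements.S3047
import Cfsg.Agent.Lib.Classical.RankOneCentralModels
import Cfsg.Agent.Lib.Grp.TwoClassCore
import Cfsg.Agent.Lib.Transfer.Residual

set_option autoImplicit false
open Cfsg

namespace Cfsg.Agent.S3047Aux

/-- A `p`-subgroup normalising a Sylow subgroup lies in it. -/
theorem mem_sylow {G : Type*} [Group G] {p : ℕ} [Fact p.Prime] [Finite G] (S : Sylow p G) {z : G}
    (hn : z ∈ Subgroup.normalizer ((S : Subgroup G) : Set G)) (hp : IsPGroup p (Subgroup.zpowers z)) :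
    z ∈ (S : Subgroup G) := by
  have h1 : IsPGroup p ((Subgroup.zpowers z ⊔ (S : Subgroup G) : Subgroup G)) :=
    hp.to_sup_of_normal_right' S.2 (Subgroup.zpowers_le.2 hn)
  rw [← S.3 h1 le_sup_right]
  exact Subgroup.mem_sup_left (Subgroup.mem_zpowers z)

end Cfsg.Agent.S3047Aux

namespace Cfsg.Agent.S3047

/-- Let p ≥ 5 be a prime, G a finite group all of whose composition factors are known simple groups, S a Sylow p-subgroup and P a p-minimal subgroup of G containing S such that O^p(P/O_p(P)) is isomorphic to SL₂(pᵃ), PSL₂(pᵃ), SU₃(pᵃ) or PSU₃(pᵃ) for some a ≥ 1. Let L be the subgroup generated by N_G(S) and the p-minimal subgroups of G containing S other than P. Then either O^p(P) is normal in G, or every p-element of the centre of L lies in O_p(P). -/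
theorem result {G : Type*} [Group G] [Finite G] {p : ℕ} [Fact p.Prime] (hp : 5 ≤ p) (hK : Cfsg.IsCompositionKGroup G)
    (S : Sylow p G) (P : Subgroup G) (hSP : (S : Subgroup G) ≤ P) (hPmin : Cfsg.IsPMinimal p ↥P) [hn : (Cfsg.pCore p ↥P).Normal]
    (hrk1 : ∃ (F : Type) (_ : Field F) (_ : Fintype F) (a : ℕ), 1 ≤ a ∧
      ((Fintype.card F = p ^ a ∧ (Nonempty (↥(Cfsg.pResidual p (↥P ⧸ Cfsg.pCore p ↥P)) ≃* Matrix.SpecialLinearGroup (Fin 2) F) ∨
                                  Nonempty (↥(Cfsg.pResidual p (↥P ⧸ Cfsg.pCore p ↥P)) ≃* Matrix.ProjectiveSpecialLinearGroup (Fin 2) F))) ∨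
       (Fintype.card F = p ^ (2 * a) ∧ (Nonempty (↥(Cfsg.pResidual p (↥P ⧸ Cfsg.pCore p ↥P)) ≃* ↥(Cfsg.SU 3 F (p ^ a))) ∨
                                        Nonempty (↥(Cfsg.pResidual p (↥P ⧸ Cfsg.pCore p ↥P)) ≃* Cfsg.PSU 3 F (p ^ a))))))
    (L : Subgroup G)
    (hL : L = Subgroup.normalizer ((S : Subgroup G) : Set G) ⊔ ⨆ P' : {P' : Subgroup G // (S : Subgroup G) ≤ P' ∧ Cfsg.IsPMinimal p ↥P' ∧ P' ≠ P}, (P' : Subgroup G)) :
    ((Cfsg.pResidual p ↥P).map P.subtype).Normal ∨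
    ∀ z ∈ L ⊓ Subgroup.centralizer (L : Set G), (∃ k : ℕ, orderOf z = p ^ k) → z ∈ (Cfsg.pCore p ↥P).map P.subtype := by
  right
  classical
  intro z hz hord
  obtain ⟨k, hk⟩ := hord
  -- `z` lies in the Sylow subgroup
  have hNL : Subgroup.normalizer ((S : Subgroup G) : Set G) ≤ L := hL ▸ le_sup_left
  have hzc : ∀ x ∈ L, x * z = z * x := fun x hx => Subgroup.mem_centralizer_iff.1 hz.2 x hx
  have hzS : z ∈ (S : Subgroup G) := by
    have hzn : z ∈ Subgroup.normalizer ((S : Subgroup G) : Set G) := by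
      refine Subgroup.mem_normalizer_iff.2 fun y => ?_
      have key : ∀ y ∈ (S : Subgroup G), z * y * z⁻¹ = y := fun y hy => by
        rw [← hzc y (hNL (Subgroup.le_normalizer hy)), mul_inv_cancel_right]
      refine ⟨fun hy => by rwa [key y hy], fun hy => ?_⟩
      have h1 : z⁻¹ * (z * y * z⁻¹) * z = z * y * z⁻¹ := by
        rw [mul_assoc, hzc _ (hNL (Subgroup.le_normalizer hy)), inv_mul_cancel_left]
      rw [show z⁻¹ * (z * y * z⁻¹) * z = y by group] at h1
      rwa [← h1] at hy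
    refine Cfsg.Agent.S3047Aux.mem_sylow S hzn ?_
    exact IsPGroup.of_card (n := k) (by rw [Nat.card_zpowers, hk])
  have hzP : z ∈ P := hSP hzS
  refine ⟨⟨z, hzP⟩, ?_, rfl⟩
  -- the quotient by the `p`-core
  let π : ↥P →* ↥P ⧸ pCore p ↥P := QuotientGroup.mk' _
  let SP : Sylow p ↥P := S.subtype hSP
  let SH : Sylow p (↥P ⧸ pCore p ↥P) := SP.mapSurjective (f := π) (QuotientGroup.mk'_surjective _)
  have hcore : pCore p (↥P ⧸ pCore p ↥P) = ⊥ :=
    Cfsg.Agent.Grp.TwoClassCore.pCore_quotient_eq_bot _ Cfsg.Agent.Grp.pCore_isPGroup rfl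
  have hR : (pResidual p (↥P ⧸ pCore p ↥P)).Normal := Cfsg.Agent.Transfer.instNormalPResidual p
  obtain ⟨D⟩ : Nonempty (Cfsg.Agent.RankOneCentral.Data p ↥(pResidual p (↥P ⧸ pCore p ↥P))) := by
    obtain ⟨F, iF, iF', a, ha, hF⟩ := hrk1
    have hchar : ∀ m : ℕ, Fintype.card F = p ^ m → CharP F p := by
      intro m hm
      exact charP_of_card_eq_prime_pow (by rw [← Nat.card_eq_fintype_card] at hm; simpa using hm)
    rcases hF with ⟨hc, he | he⟩ | ⟨hc, he | he⟩
    all_goals haveI := hchar _ hc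
    all_goals obtain ⟨e⟩ := he
    · obtain ⟨D⟩ := Cfsg.Agent.RankOneCentral.exists_dataSL (F := F) p hp
      exact ⟨D.map e.symm.toMonoidHom e.symm.surjective
        (le_of_eq_of_le ((MonoidHom.ker_eq_bot_iff _).2 e.symm.injective) bot_le)⟩
    · obtain ⟨D⟩ := Cfsg.Agent.RankOneCentral.exists_dataPSL (F := F) p hp
      exact ⟨D.map e.symm.toMonoidHom e.symm.surjective
        (le_of_eq_of_le ((MonoidHom.ker_eq_bot_iff _).2 e.symm.injective) bot_le)⟩
    · obtain ⟨D⟩ := Cfsg.Agent.RankOneCentral.exists_dataSU (F := F) p hp ha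
        (hc.trans (by rw [← pow_mul, mul_comm])) rfl
      exact ⟨D.map e.symm.toMonoidHom e.symm.surjective
        (le_of_eq_of_le ((MonoidHom.ker_eq_bot_iff _).2 e.symm.injective) bot_le)⟩
    · obtain ⟨D⟩ := Cfsg.Agent.RankOneCentral.exists_dataPSU (F := F) p hp ha
        (hc.trans (by rw [← pow_mul, mul_comm])) rfl
      exact ⟨D.map e.symm.toMonoidHom e.symm.surjective
        (le_of_eq_of_le ((MonoidHom.ker_eq_bot_iff _).2 e.symm.injective) bot_le)⟩
  have hmain := Cfsg.Agent.RankOneCentral.eq_one_of_central (pResidual p (↥P ⧸ pCore p ↥P))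
    (Cfsg.Agent.Transfer.isPGroup_quotient_pResidual p) hcore D SH (π ⟨z, hzP⟩) ?_ ?_
  · exact (QuotientGroup.eq_one_iff _).1 hmain
  · rw [Sylow.coe_mapSurjective]
    exact Subgroup.mem_map_of_mem π hzS
  · intro x hx
    obtain ⟨x, rfl⟩ := QuotientGroup.mk'_surjective _ x
    -- the preimage normalises the Sylow subgroup
    have hxS : x ∈ Subgroup.normalizer ((SP : Subgroup ↥P) : Set ↥P) := by
      have hle : (SP : Subgroup ↥P) ⊔ π.ker = SP := by
        rw [sup_eq_left, QuotientGroup.ker_mk']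
        exact Cfsg.Agent.Grp.pCore_le_sylow SP
      have hback : ∀ y : ↥P, π y ∈ (SH : Subgroup (↥P ⧸ pCore p ↥P)) ↔ y ∈ (SP : Subgroup ↥P) := by
        intro y
        rw [Sylow.coe_mapSurjective, ← Subgroup.mem_comap, Subgroup.comap_map_eq, hle]
      refine Subgroup.mem_normalizer_iff.2 fun y => ?_
      rw [← hback, ← hback, map_mul, map_mul, map_inv]
      exact Subgroup.mem_normalizer_iff.1 hx (π y)
    have hxG : (x : G) ∈ Subgroup.normalizer ((S : Subgroup G) : Set G) := by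
      refine Subgroup.mem_normalizer_iff.2 fun y => ⟨fun hy => ?_, fun hy => ?_⟩
      · exact (Subgroup.mem_normalizer_iff.1 hxS ⟨y, hSP hy⟩).1 hy
      · have h1 := (Subgroup.mem_normalizer_iff.1 (inv_mem hxS) ⟨_, hSP hy⟩).1 hy
        have h2 : (x : G)⁻¹ * ((x : G) * y * (x : G)⁻¹) * (x : G)⁻¹⁻¹ ∈ (S : Subgroup G) := h1
        simpa [mul_assoc] using h2
    show π x * π ⟨z, hzP⟩ = π ⟨z, hzP⟩ * π x
    rw [← map_mul, ← map_mul]
    exact congrArg π (Subtype.ext (hzc _ (hNL hxG)))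

end Cfsg.Agent.S3047
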