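import Cfsg.Prelude
import Cfsg.Agent.Lib.Invol.SL2FpfGroup
-- import your own Cfsg.Agent.* helpers here

set_option autoImplicit false
open Cfsg

open scoped Pointwise commutatorElement

namespace Cfsg.Agent.S3050

/-- Let G be a finite group with a normal 2-subgroup Q such that G/Q is isomorphic to SL(2, 2ⁿ) with n ≥ 2, and suppose some element of G of order 3 fixes no nonidentity element of Q under conjugation. Then Q is elementary abelian and is the direct product of normal subgroups of G on each of which G acts as SL(2, 2ⁿ) acts on its natural two-dimensional module (a Galois twist of the natural action allowed). -/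
theorem result {G : Type*} [Group G] [Finite G]
    (Q : Subgroup G) [Q.Normal] (hQ : IsPGroup 2 ↥Q) (n : ℕ) (hn : 2 ≤ n)
    (K : Type*) [Field K] [Fintype K] (hK : Fintype.card K = 2 ^ n)
    (e : G ⧸ Q ≃* Matrix.SpecialLinearGroup (Fin 2) K)
    (x : G) (hx : orderOf x = 3) (hfpf : ∀ q ∈ Q, x * q * x⁻¹ = q → q = 1) :
    Cfsg.IsElementaryAbelian 2 Q ∧
      ∃ (k : ℕ) (V : Fin k → Subgroup G), (∀ i, V i ≤ Q ∧ (V i).Normal ∧
        Cfsg.ActsAsSL2OnSection K ⊤ ⊤ (V i) ⊥) ∧ iSupIndep V ∧ ⨆ i, V i = Q := by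
  classical
  haveI : Fact (Nat.Prime 2) := ⟨Nat.prime_two⟩
  haveI : CharP K 2 := charP_of_card_eq_prime_pow hK
  have h4 : 4 ≤ Fintype.card K := by
    rw [hK]
    exact (show 4 = 2 ^ 2 by norm_num).le.trans (Nat.pow_le_pow_right two_pos hn)
  let π : G →* Matrix.SpecialLinearGroup (Fin 2) K := e.toMonoidHom.comp (QuotientGroup.mk' Q)
  have hπ : Function.Surjective π := e.surjective.comp (QuotientGroup.mk'_surjective Q)
  have hker : π.ker = Q := by
    ext g
    simp [π, MonoidHom.mem_ker]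
  have hx3 : x * x * x = 1 := by
    have h := pow_orderOf_eq_one x
    rw [hx, pow_succ, pow_two] at h
    exact h
  have hxQ : x ∉ Q := by
    intro h
    obtain ⟨j, hj⟩ := hQ ⟨x, h⟩
    have h1 : orderOf x ∣ 2 ^ j := orderOf_dvd_of_pow_eq_one (congrArg Subtype.val hj)
    rw [hx] at h1
    exact absurd (Nat.prime_three.dvd_of_dvd_pow h1) (by norm_num)
  have hxt : Cfsg.Agent.Invol.SL2Fpf.tr (π x) = 1 :=
    Cfsg.Agent.Invol.SL2Fpf.tr_eq_one_of_cube (by rw [← map_mul, ← map_mul, hx3, map_one])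
      fun h => hxQ (hker.le (MonoidHom.mem_ker.mpr h))
  have hel : Cfsg.IsElementaryAbelian 2 Q := by
    have h := Cfsg.Agent.Invol.SL2Fpf.elementary_aux _ G rfl π hπ (hker ▸ hQ) h4 x hx3 hxt
      (fun q hq => hfpf q (hker.le hq))
    rwa [hker] at h
  refine ⟨hel, ?_⟩
  haveI := hel.1
  letI : CommGroup Q := { (inferInstance : Group Q) with mul_comm := fun a b => hel.1.is_comm.comm a b }
  obtain ⟨ρ, hρ⟩ := Cfsg.Agent.Invol.SL2Fpf.exists_rep hπ (MulAut.conjNormal : G →* MulAut Q) (fun g hg => by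
    rw [MonoidHom.mem_ker]
    refine MulEquiv.ext fun q => Subtype.ext ?_
    show g * q * g⁻¹ = q
    rw [mul_inv_eq_iff_eq_mul]
    exact congrArg Subtype.val (hel.1.is_comm.comm ⟨g, hker.le hg⟩ q))
  have H : Cfsg.Agent.Invol.SL2Fpf.Hyp ρ := by
    refine ⟨fun v => Additive.toMul.injective (Subtype.ext (by
      show ((Additive.toMul v : Q) : G) * (Additive.toMul v : Q) = 1
      rw [← pow_two]
      exact hel.2 _ (Additive.toMul v).2)), fun g hg v hv => ?_⟩
    obtain ⟨P, hP⟩ := Cfsg.Agent.Invol.SL2Fpf.conj_comp hg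
    obtain ⟨P₀, hP₀⟩ := Cfsg.Agent.Invol.SL2Fpf.conj_comp hxt
    obtain ⟨h, hh⟩ := hπ (P * P₀⁻¹)
    have hgy : π (h * x * h⁻¹) = g := by
      rw [map_mul, map_mul, map_inv, hh, hP₀, hP]; group
    obtain ⟨q, rfl⟩ := Additive.ofMul.surjective v
    rw [← hgy, hρ] at hv
    have h' : h * x * h⁻¹ * (q : G) * (h * x * h⁻¹)⁻¹ = q := congrArg Subtype.val (Additive.ofMul.injective hv)
    have h1 := hfpf (h⁻¹ * q * h) (by
      have := (inferInstance : Q.Normal).conj_mem _ q.2 h⁻¹
      rwa [inv_inv] at this) (by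
      conv_rhs => rw [← h']
      group)
    refine congrArg Additive.ofMul (Subtype.ext ?_)
    show (q : G) = 1
    rw [show (q : G) = h * (h⁻¹ * q * h) * h⁻¹ by group, h1, mul_one, mul_inv_cancel]
  obtain ⟨k, E, hE⟩ := H.natural_sum
  let co : ↥Q → Fin k → Fin 2 → K := fun q => E (Additive.ofMul q)
  have hco_mul : ∀ a b : ↥Q, co (a * b) = co a + co b := fun a b => map_add E (Additive.ofMul a) (Additive.ofMul b)
  have hco1 : co 1 = 0 := map_zero E
  have hco : ∀ (g : G) (q : ↥Q) (i : Fin k),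
      co (MulAut.conjNormal g q) i = (π g : Matrix (Fin 2) (Fin 2) K).mulVec (co q i) := fun g q i => by
    show E (Additive.ofMul (MulAut.conjNormal g q)) i = _
    rw [← hρ g q, hE]
  let W : Fin k → Subgroup ↥Q := fun i =>
    { carrier := {q | ∀ j, j ≠ i → co q j = 0}
      one_mem' := fun j _ => by rw [hco1]; rfl
      mul_mem' := fun {a b} ha hb j hj => by rw [hco_mul, Pi.add_apply, ha j hj, hb j hj, add_zero]
      inv_mem' := fun {a} ha j hj => by
        have h := congrFun (hco_mul a⁻¹ a) j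
        rw [inv_mul_cancel, hco1, Pi.zero_apply, Pi.add_apply, ha j hj, add_zero] at h
        exact h.symm }
  let V : Fin k → Subgroup G := fun i => (W i).map Q.subtype
  have hVQ : ∀ i, V i ≤ Q := fun i => Subgroup.map_subtype_le _
  have hVn : ∀ i, (V i).Normal := fun i => ⟨fun v hv g => by
    obtain ⟨q, hq, rfl⟩ := hv
    exact ⟨MulAut.conjNormal g q, fun j hj => by rw [hco, hq j hj, Matrix.mulVec_zero], rfl⟩⟩
  refine ⟨k, V, fun i => ⟨hVQ i, hVn i, ?_⟩, ?_, ?_⟩
  · refine ⟨fun g _ => ?_, bot_le, π.comp (⊤ : Subgroup G).subtype, ?_⟩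
    · rw [Subgroup.normalizer_eq_top_iff.mpr (hVn i)]; exact Subgroup.mem_top g
    let ψ : ↥(V i) →* Multiplicative (Fin 2 → K) :=
      { toFun := fun u => Multiplicative.ofAdd (co ⟨u, hVQ i u.2⟩ i)
        map_one' := by rw [show (⟨((1 : ↥(V i)) : G), hVQ i (1 : ↥(V i)).2⟩ : ↥Q) = 1 from rfl, hco1]; rfl
        map_mul' := fun a b => by
          rw [show (⟨((a * b : ↥(V i)) : G), hVQ i (a * b).2⟩ : ↥Q) = ⟨a, hVQ i a.2⟩ * ⟨b, hVQ i b.2⟩ from rfl, hco_mul]
          rfl }
    refine ⟨ψ, ?_, ?_, ?_, ?_⟩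
    · rw [MonoidHom.range_eq_top]
      exact hπ.comp fun g => ⟨⟨g, Subgroup.mem_top g⟩, rfl⟩
    · intro f
      let q : ↥Q := Additive.toMul (E.symm (Pi.single i (Multiplicative.toAdd f)))
      have hq : co q = Pi.single i (Multiplicative.toAdd f) := E.apply_symm_apply _
      refine ⟨⟨q, q, fun j hj => by rw [hq, Pi.single_eq_of_ne hj], rfl⟩, ?_⟩
      show Multiplicative.ofAdd (co q i) = f
      rw [hq, Pi.single_eq_same]
      rfl
    · rintro ⟨_, q, hq, rfl⟩
      show Multiplicative.ofAdd (co q i) = 1 ↔ (q : G) ∈ (⊥ : Subgroup G)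
      rw [Subgroup.mem_bot]
      constructor
      · intro h
        have h0 : co q = 0 := by
          funext j
          by_cases hj : j = i
          · subst hj; exact h
          · exact hq j hj
        exact congrArg Subtype.val (show q = 1 from Additive.ofMul.injective (E.injective (h0.trans hco1.symm)))
      · intro h
        rw [show q = 1 from Subtype.ext h, hco1]
        rfl
    · rintro ⟨g, -⟩ ⟨_, q, hq, rfl⟩
      refine ⟨⟨_, MulAut.conjNormal g q, fun j hj => by rw [hco, hq j hj, Matrix.mulVec_zero], rfl⟩, rfl, ?_⟩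
      exact hco g q i
  · rw [iSupIndep_def]
    intro i
    rw [disjoint_iff, eq_bot_iff]
    rintro v ⟨⟨q, hq, rfl⟩, hv⟩
    let W' : Subgroup ↥Q :=
      { carrier := {q | co q i = 0}
        one_mem' := by show co 1 i = 0; rw [hco1]; rfl
        mul_mem' := fun {a b} (ha : co a i = 0) (hb : co b i = 0) => show co (a * b) i = 0 by
          rw [hco_mul, Pi.add_apply, ha, hb, add_zero]
        inv_mem' := fun {a} (ha : co a i = 0) => show co a⁻¹ i = 0 by
          have h := congrFun (hco_mul a⁻¹ a) i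
          rw [inv_mul_cancel, hco1, Pi.zero_apply, Pi.add_apply, ha, add_zero] at h
          exact h.symm }
    have hle : (⨆ (j : Fin k) (_ : j ≠ i), V j) ≤ W'.map Q.subtype :=
      iSup₂_le fun j hj => Subgroup.map_mono fun a ha => ha i (Ne.symm hj)
    obtain ⟨q', hq', he⟩ := hle hv
    obtain rfl : q' = q := Subtype.ext he
    have h0 : co q' = 0 := by
      funext j
      by_cases hj : j = i
      · subst hj; exact hq'
      · exact hq j hj
    rw [Subgroup.mem_bot, show q' = 1 from Additive.ofMul.injective (E.injective (h0.trans hco1.symm))]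
    rfl
  · refine le_antisymm (iSup_le hVQ) fun v hv => ?_
    have hall : ∀ f : Fin k → Fin 2 → K, ((Additive.toMul (E.symm f) : ↥Q) : G) ∈ ⨆ i, V i := by
      intro f
      rw [← Finset.univ_sum_single f]
      refine Finset.sum_induction _ (fun f => ((Additive.toMul (E.symm f) : ↥Q) : G) ∈ ⨆ i, V i) ?_ ?_ ?_
      · intro a b ha hb
        rw [map_add]
        exact mul_mem ha hb
      · rw [map_zero]; exact one_mem _
      · intro i _
        refine Subgroup.mem_iSup_of_mem i ⟨_, fun j hj => ?_, rfl⟩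
        show E (E.symm (Pi.single i (f i))) j = 0
        rw [E.apply_symm_apply, Pi.single_eq_of_ne hj]
    have := hall (E (Additive.ofMul ⟨v, hv⟩))
    rwa [E.symm_apply_apply] at this

end Cfsg.Agent.S3050
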