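import Cfsg.Statements.S3053
import Cfsg.Agent.Lib.Transfer.Fusion
import Cfsg.Agent.Lib.Transfer.PGroups
import Cfsg.Agent.Lib.Invol.Sylow
import Cfsg.Agent.Lib.Grp.PGroupSmall
import Cfsg.Agent.Lib.Grp.Frattini
-- import your own Cfsg.Agent.* helpers here

set_option autoImplicit false
open Cfsg

namespace Cfsg.Agent.S3053

open scoped commutatorElement

theorem tv_pow {G : Type*} [Group G] {n b c : G} (hb : n * b * n⁻¹ = b * c) (hc : n * c * n⁻¹ = c)
    (k : ℕ) : n ^ k * b * (n ^ k)⁻¹ = b * c ^ k := by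
  induction k with
  | zero => simp
  | succ k ih =>
    calc n ^ (k + 1) * b * (n ^ (k + 1))⁻¹ = n * (n ^ k * b * (n ^ k)⁻¹) * n⁻¹ := by
          rw [pow_succ']; group
      _ = n * b * n⁻¹ * (n * c ^ k * n⁻¹) := by rw [ih]; group
      _ = b * c ^ (k + 1) := by rw [hb, ← conj_pow, hc, pow_succ', mul_assoc]

/-- Let p be an odd prime and G a finite group with a Sylow p-subgroup P that is extraspecial of order p³ and exponent p². Then the centre of P is strongly closed in P with respect to G: a G-conjugate of an element of Z(P) that lies in P already lies in Z(P). In particular a nontrivial central element of P is conjugate in G to no noncentral element of P. -/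
theorem result {G : Type*} [Group G] [Finite G]
    {p : ℕ} [Fact p.Prime] (hp : p ≠ 2) (P : Sylow p G) (hE : Cfsg.IsExtraspecial p ↥P)
    (hcard : Nat.card P = p ^ 3) (hexp : Monoid.exponent ↥P = p ^ 2) :
    Cfsg.IsStronglyClosed ((Subgroup.center ↥P).map (P : Subgroup G).subtype) (P : Subgroup G) := by
  classical
  have hpp : p.Prime := Fact.out
  have hE' : Cfsg.IsExtraspecial p ↥(P : Subgroup G) := hE
  replace hcard : Nat.card ↥(P : Subgroup G) = p ^ 3 := hcard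
  replace hexp : Monoid.exponent ↥(P : Subgroup G) = p ^ 2 := hexp
  obtain ⟨⟨hPp, hΦ, hcomP⟩, hZc⟩ := hE'
  set Z := Subgroup.center ↥(P : Subgroup G) with hZdef
  have hsmall : Cfsg.Agent.Transfer.PGroups.SmallClass p ↥(P : Subgroup G) := by
    refine .inl ⟨hp, ?_⟩
    rw [Subgroup.commutator_eq_bot_iff_le_centralizer, hcomP]
    exact fun a ha => Subgroup.mem_centralizer_iff.mpr fun b _ => Subgroup.mem_center_iff.mp ha b
  have hpowZ : ∀ a : ↥(P : Subgroup G), a ^ p ∈ Z := fun a =>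
    hΦ.le (Cfsg.Agent.Grp.pGroup_pow_mem_frattini hPp a)
  have hder : ∀ a ∈ commutator ↥(P : Subgroup G), a ^ p = 1 := by
    intro a ha
    rw [hcomP] at ha
    have h := pow_card_eq_one' (G := Z) (x := ⟨a, ha⟩)
    rw [hZc] at h
    exact congrArg Subtype.val h
  let f : ↥(P : Subgroup G) →* Z := MonoidHom.mk' (fun a => ⟨a ^ p, hpowZ a⟩) fun a b =>
    Subtype.ext (Cfsg.Agent.Transfer.PGroups.mul_pow_of_derived hsmall hder a b)
  set E₀ := f.ker with hE₀
  have hmem₀ : ∀ a : ↥(P : Subgroup G), a ∈ E₀ ↔ a ^ p = 1 := fun a => by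
    rw [hE₀, MonoidHom.mem_ker, Subtype.ext_iff]
    rfl
  have hE₀card : Nat.card E₀ = p ^ 2 := by
    have h1 := Subgroup.card_mul_index E₀
    rw [hE₀, Subgroup.index_ker, hcard] at h1
    have h2 : Nat.card f.range ∣ p := (Subgroup.card_subgroup_dvd_card f.range).trans (dvd_of_eq hZc)
    rcases (Nat.dvd_prime hpp).mp h2 with h | h
    · exfalso
      have hall : ∀ a : ↥(P : Subgroup G), a ^ p = 1 := fun a =>
        congrArg Subtype.val (Subgroup.mem_bot.mp ((Subgroup.card_eq_one.mp h).le ⟨a, rfl⟩))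
      have h3 : p ^ 2 ∣ p ^ 1 := by
        rw [pow_one, ← hexp]
        exact Monoid.exponent_dvd_of_forall_pow_eq_one hall
      exact absurd ((Nat.pow_dvd_pow_iff_le_right hpp.one_lt).mp h3) (by omega)
    · rw [h] at h1
      exact Nat.eq_of_mul_eq_mul_right hpp.pos (h1.trans (by ring))
  set E := E₀.map (P : Subgroup G).subtype with hEdef
  have hmemE : ∀ a : G, a ∈ E ↔ a ∈ (P : Subgroup G) ∧ a ^ p = 1 := by
    intro a
    constructor
    · rintro ⟨a, ha, rfl⟩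
      exact ⟨a.2, congrArg Subtype.val ((hmem₀ a).mp ha)⟩
    · exact fun ⟨h1, h2⟩ => ⟨⟨a, h1⟩, (hmem₀ _).mpr (Subtype.ext h2), rfl⟩
  have hEcard : Nat.card E = p ^ 2 := by
    rw [hEdef, Subgroup.card_map_of_injective Subtype.val_injective, hE₀card]
  have hEcomm : ∀ a ∈ E, ∀ b ∈ E, a * b = b * a := by
    have : IsMulCommutative ↥E := IsPGroup.isMulCommutative_of_card_eq_prime_sq hEcard
    exact fun a ha b hb => congrArg Subtype.val (this.is_comm.comm (⟨a, ha⟩ : E) ⟨b, hb⟩)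
  have hPN : (P : Subgroup G) ≤ Subgroup.normalizer (E : Set G) := fun u hu =>
    Subgroup.mem_normalizer_fintype fun a ha => by
      obtain ⟨h1, h2⟩ := (hmemE a).mp ha
      exact (hmemE _).mpr ⟨mul_mem (mul_mem hu h1) (inv_mem hu), by rw [conj_pow, h2]; group⟩
  refine ⟨Subgroup.map_subtype_le _, ?_⟩
  rintro _ ⟨⟨x, hxP⟩, hxZ, rfl⟩ g hy
  simp only [Subgroup.coe_subtype] at hy ⊢
  by_contra hyZ
  set y := g * x * g⁻¹ with hydef
  have hx1 : x ≠ 1 := by
    rintro rfl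
    exact hyZ (by rw [hydef]; simp)
  have hxp : x ^ p = 1 := by
    have h := pow_card_eq_one' (G := Z) (x := ⟨⟨x, hxP⟩, hxZ⟩)
    rw [hZc] at h
    exact congrArg (fun a : Z => ((a : ↥(P : Subgroup G)) : G)) h
  have hxc : ∀ a ∈ (P : Subgroup G), a * x = x * a := fun a ha =>
    congrArg Subtype.val (Subgroup.mem_center_iff.mp hxZ ⟨a, ha⟩)
  have hyE : y ∈ E := (hmemE y).mpr ⟨hy, by rw [hydef, conj_pow, hxp]; group⟩
  have hxE : x ∈ E := (hmemE x).mpr ⟨hxP, hxp⟩
  have hxord : orderOf x = p := orderOf_eq_prime hxp hx1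
  have hgenZ : ∀ a : ↥(P : Subgroup G), a ∈ Z → (a : G) ∈ Subgroup.zpowers x := by
    intro a ha
    have h1 : Z.map (P : Subgroup G).subtype = Subgroup.zpowers x :=
      (Subgroup.eq_of_le_of_card_ge (Subgroup.zpowers_le.mpr (show x ∈ Z.map (P : Subgroup G).subtype from ⟨⟨x, hxP⟩, hxZ, rfl⟩)) (by
        rw [Subgroup.card_map_of_injective Subtype.val_injective, hZc, Nat.card_zpowers, hxord])).symm
    exact h1.le ⟨a, ha, rfl⟩
  have hgen : Subgroup.closure ({x, y} : Set G) = E := by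
    have hle : Subgroup.closure ({x, y} : Set G) ≤ E := by
      rw [Subgroup.closure_le]
      rintro a (rfl | rfl)
      · exact hxE
      · exact hyE
    refine Subgroup.eq_of_le_of_card_ge hle ?_
    obtain ⟨k, hk, hke⟩ := (Nat.dvd_prime_pow hpp).mp (hEcard ▸ Subgroup.card_dvd_of_le hle)
    rw [hEcard, hke]
    refine Nat.pow_le_pow_right hpp.pos ?_
    by_contra hk2
    have hle2 : Subgroup.zpowers x ≤ Subgroup.closure ({x, y} : Set G) :=
      Subgroup.zpowers_le.mpr (Subgroup.subset_closure (by simp))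
    have heq := Subgroup.eq_of_le_of_card_ge hle2 (by
      rw [Nat.card_zpowers, hxord, hke]
      calc p ^ k ≤ p ^ 1 := Nat.pow_le_pow_right hpp.pos (by omega)
        _ = p := pow_one p)
    obtain ⟨i, hi⟩ := Subgroup.mem_zpowers_iff.mp (heq.ge (Subgroup.subset_closure (Set.mem_insert_of_mem x rfl)))
    exact hyZ ⟨(⟨x, hxP⟩ : ↥(P : Subgroup G)) ^ i, zpow_mem hxZ i, by simpa using hi⟩
  have hEind : ∀ {q : G → Prop}, q x → q y → q 1 → (∀ a b, a ∈ E → b ∈ E → q a → q b → q (a * b)) →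
      (∀ a, a ∈ E → q a → q a⁻¹) → ∀ a ∈ E, q a := by
    intro q h1 h2 h0 hm hi a ha
    rw [← hgen] at ha
    induction ha using Subgroup.closure_induction with
    | mem a ha => rcases ha with rfl | rfl <;> assumption
    | one => exact h0
    | mul a b ha hb hqa hqb => exact hm a b (hgen.le ha) (hgen.le hb) hqa hqb
    | inv a ha hqa => exact hi a (hgen.le ha) hqa
  have hcentP : ∀ u ∈ (P : Subgroup G), u ∉ E → ∀ e ∈ E, u * e = e * u → e ∈ Subgroup.zpowers x := by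
    intro u hu huE e he hcomm
    refine hgenZ ⟨e, ((hmemE e).mp he).1⟩ (Subgroup.mem_center_iff.mpr fun a => ?_)
    have htop : E₀ ⊔ Subgroup.zpowers ⟨u, hu⟩ = ⊤ := by
      refine Subgroup.eq_top_of_card_eq _ ?_
      obtain ⟨k, hk, hke⟩ := (Nat.dvd_prime_pow hpp).mp (hcard ▸ Subgroup.card_subgroup_dvd_card
        (E₀ ⊔ Subgroup.zpowers (⟨u, hu⟩ : ↥(P : Subgroup G))))
      have hlt : E₀ < E₀ ⊔ Subgroup.zpowers (⟨u, hu⟩ : ↥(P : Subgroup G)) :=
        lt_of_le_of_ne le_sup_left fun h => huE ⟨⟨u, hu⟩,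
          h.ge (Subgroup.mem_sup_right (Subgroup.mem_zpowers _)), rfl⟩
      have h2 : p ^ 2 < p ^ k := by
        rw [← hE₀card, ← hke]
        refine lt_of_le_of_ne (Subgroup.card_le_of_le hlt.le) fun h => hlt.ne ?_
        exact Subgroup.eq_of_le_of_card_ge hlt.le h.ge
      have := (Nat.pow_lt_pow_iff_right hpp.one_lt).mp h2
      rw [hcard, hke, show k = 3 by omega]
    have hle : E₀ ⊔ Subgroup.zpowers ⟨u, hu⟩ ≤
        Subgroup.centralizer {(⟨e, ((hmemE e).mp he).1⟩ : ↥(P : Subgroup G))} := by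
      refine sup_le (fun b hb => ?_) (Subgroup.zpowers_le.mpr ?_)
      · exact Subgroup.mem_centralizer_singleton_iff.mpr
          (Subtype.ext (hEcomm b ⟨b, hb, rfl⟩ e he))
      · exact Subgroup.mem_centralizer_singleton_iff.mpr (Subtype.ext hcomm)
    exact Subgroup.mem_centralizer_singleton_iff.mp (hle (htop ▸ Subgroup.mem_top a))
  -- an element of `P` outside `E`
  obtain ⟨u, hu, huE⟩ : ∃ u ∈ (P : Subgroup G), u ∉ E := by
    by_contra hcon
    push Not at hcon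
    have : p ^ 3 ≤ p ^ 2 := by
      rw [← hcard, ← hEcard]
      exact Subgroup.card_le_of_le hcon
    exact absurd ((Nat.pow_le_pow_iff_right hpp.one_lt).mp this) (by omega)
  -- `h` normalizes `E` and carries `y` to `x`
  obtain ⟨h, hhN, hhy⟩ : ∃ h ∈ Subgroup.normalizer (E : Set G), h * y * h⁻¹ = x := by
    set C := Subgroup.centralizer ({x} : Set G) with hC
    have hPC : (P : Subgroup G) ≤ C := fun a ha => Subgroup.mem_centralizer_singleton_iff.mpr (hxc a ha)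
    set M := E.map (MulAut.conj g⁻¹).toMonoidHom with hM
    have hMC : M ≤ C := by
      rintro _ ⟨a, ha, rfl⟩
      refine Subgroup.mem_centralizer_singleton_iff.mpr ?_
      show g⁻¹ * a * g⁻¹⁻¹ * x = x * (g⁻¹ * a * g⁻¹⁻¹)
      calc g⁻¹ * a * g⁻¹⁻¹ * x = g⁻¹ * (a * y) * g := by rw [hydef]; group
        _ = g⁻¹ * (y * a) * g := by rw [hEcomm a ha y hyE]
        _ = x * (g⁻¹ * a * g⁻¹⁻¹) := by rw [hydef]; group
    have hEp : IsPGroup p ↥E := IsPGroup.of_card hEcard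
    obtain ⟨c, hc⟩ := Cfsg.Agent.Invol.exists_conj_subset_sylow
      ((hEp.map (MulAut.conj g⁻¹).toMonoidHom).comap_of_injective C.subtype C.subtype_injective)
      (P.subtype hPC)
    refine ⟨(c : G) * g⁻¹, Subgroup.mem_normalizer_fintype fun a ha => ?_, ?_⟩
    · have h1 : (c : G) * (g⁻¹ * a * g⁻¹⁻¹) * (c : G)⁻¹ ∈ (P : Subgroup G) :=
        hc ⟨g⁻¹ * a * g⁻¹⁻¹, hMC ⟨a, ha, rfl⟩⟩ ⟨a, ha, rfl⟩
      refine (hmemE _).mpr ⟨?_, by rw [conj_pow, ((hmemE a).mp ha).2]; group⟩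
      convert h1 using 1
      group
    · calc (c : G) * g⁻¹ * y * ((c : G) * g⁻¹)⁻¹ = c * x * (c : G)⁻¹ := by rw [hydef]; group
        _ = x := by rw [Subgroup.mem_centralizer_singleton_iff.mp c.2, mul_inv_cancel_right]
  -- transvections
  have htrans : ∀ e ∈ E, e ∉ Subgroup.zpowers x → ∀ j : ℤ, ∃ k : ℕ,
      u ^ k * e * (u ^ k)⁻¹ = e * x ^ j := by
    intro e he hex j
    set c := e⁻¹ * (u * e * u⁻¹) with hc
    have hcx : c ∈ Subgroup.zpowers x := by
      refine hgenZ ⟨c, mul_mem (inv_mem ((hmemE e).mp he).1)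
        (mul_mem (mul_mem hu ((hmemE e).mp he).1) (inv_mem hu))⟩ ?_
      rw [← hcomP]
      have : (⟨c, mul_mem (inv_mem ((hmemE e).mp he).1)
        (mul_mem (mul_mem hu ((hmemE e).mp he).1) (inv_mem hu))⟩ : ↥(P : Subgroup G)) =
        ⁅(⟨e, ((hmemE e).mp he).1⟩ : ↥(P : Subgroup G))⁻¹, ⟨u, hu⟩⁆ := by
        refine Subtype.ext ?_
        simp [commutatorElement_def, hc, mul_assoc]
      rw [this]
      exact Subgroup.commutator_mem_commutator (Subgroup.mem_top _) (Subgroup.mem_top _)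
    have hc1 : c ≠ 1 := fun h1 => hex (hcentP u hu huE e he (by
      rw [hc, inv_mul_eq_one] at h1
      exact mul_inv_eq_iff_eq_mul.mp h1.symm))
    have hz : Subgroup.zpowers c = Subgroup.zpowers x := by
      refine Subgroup.eq_of_le_of_card_ge (Subgroup.zpowers_le.mpr hcx) ?_
      rw [Nat.card_zpowers, Nat.card_zpowers]
      refine le_of_eq ?_
      rw [hxord]
      refine (orderOf_eq_prime ?_ hc1).symm
      obtain ⟨i, hi⟩ := Subgroup.mem_zpowers_iff.mp hcx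
      rw [← hi, ← zpow_natCast (G := G), ← zpow_mul, mul_comm, zpow_mul, zpow_natCast, hxp, one_zpow]
    have hfix : u * c * u⁻¹ = c := by
      obtain ⟨i, hi⟩ := Subgroup.mem_zpowers_iff.mp hcx
      rw [← hi, ((show Commute u x from hxc u hu).zpow_right i).eq, mul_inv_cancel_right]
    obtain ⟨k, hk⟩ : x ^ j ∈ Submonoid.powers c := by
      rw [mem_powers_iff_mem_zpowers, hz]
      exact Subgroup.zpow_mem_zpowers x j
    refine ⟨k, ?_⟩
    rw [tv_pow (c := c) (by rw [hc, mul_inv_cancel_left]) hfix k]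
    exact congrArg (e * ·) hk
  have hyx : y ∉ Subgroup.zpowers x := by
    intro hm
    obtain ⟨i, hi⟩ := Subgroup.mem_zpowers_iff.mp hm
    refine hyZ ⟨(⟨x, hxP⟩ : ↥(P : Subgroup G)) ^ i, zpow_mem hxZ i, ?_⟩
    simpa using hi
  set x₂ := h * x * h⁻¹ with hx₂
  have hx₂E : x₂ ∈ E := (Subgroup.mem_normalizer_iff.mp hhN x).mp hxE
  have hx₂x : x₂ ∉ Subgroup.zpowers x := by
    intro hm
    have h1 : x ∈ Subgroup.zpowers y := by
      obtain ⟨i, hi⟩ := Subgroup.mem_zpowers_iff.mp hm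
      refine Subgroup.mem_zpowers_iff.mpr ⟨i, ?_⟩
      apply (MulAut.conj h).injective
      rw [map_zpow, MulAut.conj_apply, hhy, hi, hx₂, MulAut.conj_apply]
    refine hyx ?_
    have hyord : orderOf y = p := orderOf_eq_prime ((hmemE y).mp hyE).2 fun h1 => hyx (h1 ▸ one_mem _)
    rw [Subgroup.eq_of_le_of_card_ge (Subgroup.zpowers_le.mpr h1) (by
      rw [Nat.card_zpowers, Nat.card_zpowers, hxord, hyord])]
    exact Subgroup.mem_zpowers y
  obtain ⟨k₁, hk₁⟩ := htrans y hyE hyx 1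
  obtain ⟨k₂, hk₂⟩ := htrans x₂ hx₂E hx₂x (-1)
  rw [zpow_one] at hk₁
  set U := u ^ k₁ with hU
  set V := h⁻¹ * u ^ k₂ * h with hV
  have hUN : U ∈ Subgroup.normalizer (E : Set G) := hPN (pow_mem hu _)
  have hVN : V ∈ Subgroup.normalizer (E : Set G) :=
    mul_mem (mul_mem (inv_mem hhN) (hPN (pow_mem hu _))) hhN
  have hUx : U * x * U⁻¹ = x := by rw [hxc _ (pow_mem hu _), mul_inv_cancel_right]
  have hVy : V * y * V⁻¹ = y := by
    calc V * y * V⁻¹ = h⁻¹ * (u ^ k₂ * (h * y * h⁻¹) * (u ^ k₂)⁻¹) * h := by rw [hV]; group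
      _ = h⁻¹ * (h * y * h⁻¹) * h := by rw [hhy, hxc _ (pow_mem hu _), mul_inv_cancel_right]
      _ = y := by group
  have hVx : V * x * V⁻¹ = x * y⁻¹ := by
    calc V * x * V⁻¹ = h⁻¹ * (u ^ k₂ * x₂ * (u ^ k₂)⁻¹) * h := by rw [hV, hx₂]; group
      _ = h⁻¹ * (x₂ * x ^ (-1 : ℤ)) * h := by rw [hk₂]
      _ = h⁻¹ * (x₂ * (h * y * h⁻¹)⁻¹) * h := by rw [hhy, zpow_neg_one]
      _ = x * y⁻¹ := by rw [hx₂]; group
  set w := U * V * U with hw
  have hwx : w * x * w⁻¹ = y⁻¹ := by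
    calc w * x * w⁻¹ = U * (V * (U * x * U⁻¹) * V⁻¹) * U⁻¹ := by rw [hw]; group
      _ = U * (x * y⁻¹) * U⁻¹ := by rw [hUx, hVx]
      _ = U * x * U⁻¹ * (U * y * U⁻¹)⁻¹ := by group
      _ = y⁻¹ := by
        rw [hUx, hk₁, mul_inv_rev, ← mul_assoc, mul_inv_cancel, one_mul]
  have hwy : w * y * w⁻¹ = x := by
    calc w * y * w⁻¹ = U * (V * (U * y * U⁻¹) * V⁻¹) * U⁻¹ := by rw [hw]; group
      _ = U * ((V * y * V⁻¹) * (V * x * V⁻¹)) * U⁻¹ := by rw [hk₁]; group
      _ = U * (y * (x * y⁻¹)) * U⁻¹ := by rw [hVy, hVx]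
      _ = U * x * U⁻¹ := by
        rw [show y * (x * y⁻¹) = x by rw [← mul_assoc, hEcomm y hyE x hxE, mul_inv_cancel_right]]
      _ = x := hUx
  set s := w * w with hs
  have hsN : s ∈ Subgroup.normalizer (E : Set G) :=
    mul_mem (mul_mem (mul_mem hUN hVN) hUN) (mul_mem (mul_mem hUN hVN) hUN)
  have hinv : ∀ e ∈ E, s * e * s⁻¹ = e⁻¹ := by
    refine fun e he => hEind (q := fun e => s * e * s⁻¹ = e⁻¹) ?_ ?_ ?_ ?_ ?_ e he
    · calc s * x * s⁻¹ = w * (w * x * w⁻¹) * w⁻¹ := by rw [hs]; group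
        _ = (w * y * w⁻¹)⁻¹ := by rw [hwx]; group
        _ = x⁻¹ := by rw [hwy]
    · calc s * y * s⁻¹ = w * (w * y * w⁻¹) * w⁻¹ := by rw [hs]; group
        _ = y⁻¹ := by rw [hwy, hwx]
    · simp
    · intro a b ha hb h1 h2
      rw [show s * (a * b) * s⁻¹ = s * a * s⁻¹ * (s * b * s⁻¹) by group, h1, h2, mul_inv_rev,
        hEcomm _ (inv_mem ha) _ (inv_mem hb)]
    · intro a _ h1
      rw [show s * a⁻¹ * s⁻¹ = (s * a * s⁻¹)⁻¹ by group, h1]
  -- Frattini
  set C := Subgroup.centralizer (E : Set G) with hC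
  have hsame : ∀ a b : G, a ∈ Subgroup.normalizer (E : Set G) → b ∈ Subgroup.normalizer (E : Set G) →
      (∀ e ∈ E, a * e * a⁻¹ = b * e * b⁻¹) → a * b⁻¹ ∈ C := by
    intro a b ha hb hab
    refine Subgroup.mem_centralizer_iff.mpr fun e he => ?_
    obtain he' := (Subgroup.mem_normalizer_iff.mp (inv_mem hb) e).mp he
    have h1 := hab _ he'
    simp only [inv_inv] at h1
    calc e * (a * b⁻¹) = (b * (b⁻¹ * e * b) * b⁻¹) * (a * b⁻¹) := by group
      _ = (a * (b⁻¹ * e * b) * a⁻¹) * (a * b⁻¹) := by rw [h1]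
      _ = a * b⁻¹ * e := by group
  have hcommact : ∀ n r : G, n ∈ Subgroup.normalizer (E : Set G) → (∀ e ∈ E, n * e * n⁻¹ = e⁻¹) →
      r ∈ Subgroup.normalizer (E : Set G) → n * r * n⁻¹ * r⁻¹ ∈ C := by
    intro n r hn hni hr
    refine hsame _ _ (mul_mem (mul_mem hn hr) (inv_mem hn)) hr fun e he => ?_
    have hre : r * e⁻¹ * r⁻¹ ∈ E := (Subgroup.mem_normalizer_iff.mp hr _).mp (inv_mem he)
    have hne : n⁻¹ * e * n = e⁻¹ := by
      have := hni e⁻¹ (inv_mem he)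
      rw [inv_inv] at this
      conv_lhs => rw [← this]
      group
    calc n * r * n⁻¹ * e * (n * r * n⁻¹)⁻¹ = n * (r * (n⁻¹ * e * n) * r⁻¹) * n⁻¹ := by group
      _ = (r * e⁻¹ * r⁻¹)⁻¹ := by rw [hne, hni _ hre]
      _ = r * e * r⁻¹ := by group
  have hPC : (P : Subgroup G) ≤ Subgroup.normalizer (C : Set G) := fun r hr =>
    Subgroup.mem_normalizer_fintype fun c hc => Subgroup.mem_centralizer_iff.mpr fun e he => by
      have h1 := Subgroup.mem_centralizer_iff.mp hc _ ((Subgroup.mem_normalizer_iff.mp (inv_mem (hPN hr)) e).mp he)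
      simp only [inv_inv] at h1
      calc e * (r * c * r⁻¹) = r * (r⁻¹ * e * r * c) * r⁻¹ := by group
        _ = r * (c * (r⁻¹ * e * r)) * r⁻¹ := by rw [h1]
        _ = r * c * r⁻¹ * e := by group
  obtain ⟨c, hc, hn⟩ := Cfsg.Agent.Transfer.exists_mem_mul_mem_normalizer P
    (S := (P : Subgroup G) ⊔ C) le_sup_left s (fun r hr => by
      rw [show s * r * s⁻¹ = s * r * s⁻¹ * r⁻¹ * r by group]
      exact mul_mem (Subgroup.mem_sup_right (hcommact s r hsN hinv (hPN hr))) (Subgroup.mem_sup_left hr))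
  rw [← SetLike.mem_coe, Subgroup.coe_mul_of_left_le_normalizer_right _ _ hPC] at hc
  obtain ⟨r₀, hr₀, c₀, hc₀, rfl⟩ := hc
  set n := c₀ * s with hndef
  have hnP : n ∈ Subgroup.normalizer ((P : Subgroup G) : Set G) := by
    have h1 := mul_mem (inv_mem (Subgroup.le_normalizer hr₀)) hn
    simpa [hndef, mul_assoc] using h1
  have hc₀N : c₀ ∈ Subgroup.normalizer (E : Set G) := Subgroup.centralizer_le_normalizer _ hc₀
  have hninv : ∀ e ∈ E, n * e * n⁻¹ = e⁻¹ := by
    intro e he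
    calc n * e * n⁻¹ = c₀ * (s * e * s⁻¹) * c₀⁻¹ := by rw [hndef]; group
      _ = e⁻¹ := by
        rw [hinv e he, ← Subgroup.mem_centralizer_iff.mp hc₀ _ (inv_mem he), mul_inv_cancel_right]
  set d := n * u * n⁻¹ * u⁻¹ with hd
  have hdP : d ∈ (P : Subgroup G) :=
    mul_mem ((Subgroup.mem_normalizer_iff.mp hnP u).mp hu) (inv_mem hu)
  have hdC : d ∈ C := hcommact n u (mul_mem hc₀N hsN) hninv (hPN hu)
  have hdE : d ∈ E := by
    by_contra hdE
    exact hyx (hcentP d hdP hdE y hyE (Subgroup.mem_centralizer_iff.mp hdC y hyE).symm)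
  have hup : u ^ p ∈ E := by
    have h1 := hpowZ ⟨u, hu⟩
    exact (hmemE _).mpr ⟨pow_mem hu _, congrArg Subtype.val (hder _ (hcomP.ge h1))⟩
  have heq : n * u ^ p * n⁻¹ = u ^ p := by
    rw [← conj_pow, show n * u * n⁻¹ = d * u by rw [hd]; group]
    have h1 := congrArg Subtype.val
      (Cfsg.Agent.Transfer.PGroups.mul_pow_of_derived hsmall hder ⟨d, hdP⟩ ⟨u, hu⟩)
    simp only [Subgroup.coe_mul, SubgroupClass.coe_pow] at h1
    rw [h1, ((hmemE d).mp hdE).2, one_mul]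
  rw [hninv _ hup] at heq
  have h2 : (u ^ p) ^ 2 = 1 := by
    rw [pow_two]
    nth_rewrite 1 [← heq]
    exact inv_mul_cancel _
  have h3 : (u ^ p) ^ p = 1 := ((hmemE _).mp hup).2
  have h4 : u ^ p = 1 := by
    have hcop : (2 : ℕ).Coprime p := (Nat.coprime_primes Nat.prime_two hpp).mpr (Ne.symm hp)
    have := pow_gcd_eq_one.mpr ⟨h2, h3⟩
    rwa [hcop.gcd_eq_one, pow_one] at this
  exact huE ((hmemE u).mpr ⟨hu, h4⟩)

end Cfsg.Agent.S3053
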