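import Cfsg.Statements.S3057
import Cfsg.Agent.Lib.Invol.SPEBasics
import Cfsg.Agent.Lib.Invol.SylowChains
import Cfsg.Agent.Lib.Grp.PSolvable
import Cfsg.Agent.S0016
-- import your own Cfsg.Agent.* helpers here

set_option autoImplicit false
open Cfsg

namespace Cfsg.Agent.S3057

/-- Let p be a prime and G a finite p-solvable group of order divisible by p, with Sylow p-subgroup P. Then the Sylow p-subgroups of G fail to be chain-connected through nontrivial intersections (equivalently, G has a strongly p-embedded subgroup) if and only if O_p(G) = 1 and P is cyclic or, for p = 2, generalized quaternion. -/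
theorem result {G : Type*} [Group G] [Finite G]
    (p : ℕ) [Fact p.Prime] (hdiv : p ∣ Nat.card G) (hsol : Cfsg.IsPSolvable p G) (P : Sylow p G) :
    ¬ Cfsg.IsSylowChainConnected p G ↔
      Cfsg.pCore p G = ⊥ ∧ (IsCyclic ↥P ∨ (p = 2 ∧ ∃ n : ℕ, Nonempty (↥P ≃* QuaternionGroup (2 ^ n)))) := by
  classical
  have hPne : (P : Subgroup G) ≠ ⊥ := P.ne_bot_of_dvd_card hdiv
  constructor
  · intro hG
    obtain ⟨H, hne, hdH, hY⟩ := Cfsg.Agent.Invol.exists_classical_of_not_connected hG
    have hY' : Cfsg.Agent.Invol.SPClassical p H := hY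
    obtain ⟨P₀, hP₀⟩ := Cfsg.Agent.Invol.exists_sylow_le_of_classical hdH hY
    have hO : Cfsg.pCore p G = ⊥ := by
      by_contra hO
      obtain ⟨k, hk⟩ := (Cfsg.Agent.Grp.pCore_isPGroup (p := p) (G := G)).exists_card_eq
      have hk0 : k ≠ 0 := by
        rintro rfl
        exact hO (Subgroup.card_eq_one.mp (by simpa using hk))
      exact hY'.normal_not_dvd hne Cfsg.Agent.Grp.pCore_isNormal
        ((Cfsg.Agent.Grp.pCore_le_sylow P₀).trans hP₀) (hk ▸ dvd_pow_self p hk0)
    refine ⟨hO, ?_⟩
    have hPne₀ : (P₀ : Subgroup G) ≠ ⊥ := P₀.ne_bot_of_dvd_card hdiv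
    rcases Cfsg.Agent.Invol.exists_noncyclic_or_unique P₀.isPGroup' hPne₀ with ⟨A, hA, hAc, hnc⟩ | hu
    · exfalso
      set K := Cfsg.pPrimeCore p G with hKdef
      have hKn : K.Normal := Cfsg.Agent.Grp.pPrimeCore_isNormal
      have hKH : K ≤ H := hY'.pPrime_le (P₀.isPGroup'.to_le hA) hnc (hA.trans hP₀)
        Cfsg.Agent.Grp.pPrimeCore_coprime
      -- the preimage of the `p`-core of the quotient lies in `H`
      set R := (Cfsg.pCore p (G ⧸ K)).comap (QuotientGroup.mk' K) with hR
      have hRn : R.Normal := (Cfsg.Agent.Grp.pCore_isNormal).comap _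
      have hcore : Cfsg.pPrimeCore p (G ⧸ K) = ⊥ := by
        have hn := Cfsg.Agent.Grp.pPrimeCore_isNormal (p := p) (G := G ⧸ K)
        set M := (Cfsg.pPrimeCore p (G ⧸ K)).comap (QuotientGroup.mk' K) with hM
        have hMK : M ≤ K := by
          refine Cfsg.Agent.Grp.le_pPrimeCore (hn.comap _) ?_
          rw [← Subgroup.card_mul_index (K.subgroupOf M)]
          refine Nat.Coprime.mul_left ?_ ?_
          · rw [Nat.card_congr (Subgroup.subgroupOfEquivOfLe (show K ≤ M from
              (QuotientGroup.ker_mk' K).symm.le.trans (Subgroup.ker_le_comap _ _))).toEquiv]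
            exact Cfsg.Agent.Grp.pPrimeCore_coprime
          · have e : (K.subgroupOf M).index = Nat.card ↥(Cfsg.pPrimeCore p (G ⧸ K)) := by
              have h := Subgroup.relIndex_ker (K := M) (QuotientGroup.mk' K)
              rw [QuotientGroup.ker_mk', hM,
                Subgroup.map_comap_eq_self_of_surjective (QuotientGroup.mk'_surjective K)] at h
              exact h
            rw [e]
            exact Cfsg.Agent.Grp.pPrimeCore_coprime
        refine eq_bot_iff.mpr fun x hx => ?_
        obtain ⟨g, rfl⟩ := QuotientGroup.mk'_surjective K x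
        exact Subgroup.mem_bot.mpr ((QuotientGroup.eq_one_iff g).mpr (hMK hx))
      have hcoreP : Cfsg.pCore p (G ⧸ K) ≠ ⊥ := by
        intro h1
        have h2 := Cfsg.Agent.Grp.isPSolvable_eq_top_of_cores
          (Cfsg.Agent.Grp.isPSolvable_map hsol (QuotientGroup.mk' K) (QuotientGroup.mk'_surjective K))
          h1 hcore
        refine Cfsg.Agent.Grp.pPrimeCore_not_dvd (p := p) (G := G) ?_
        have h3 : K = ⊤ := eq_top_iff.mpr fun g _ =>
          (QuotientGroup.eq_one_iff g).mp (Subgroup.mem_bot.mp (h2.le (Subgroup.mem_top _)))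
        rw [← hKdef, h3, Subgroup.card_top]
        exact hdiv
      have hRdvd : p ∣ Nat.card R := by
        obtain ⟨k, hk⟩ := (Cfsg.Agent.Grp.pCore_isPGroup (p := p) (G := G ⧸ K)).exists_card_eq
        have hk0 : k ≠ 0 := by
          rintro rfl
          exact hcoreP (Subgroup.card_eq_one.mp (by simpa using hk))
        refine (hk ▸ dvd_pow_self p hk0).trans ?_
        rw [← Subgroup.map_comap_eq_self_of_surjective (QuotientGroup.mk'_surjective K)
          (Cfsg.pCore p (G ⧸ K))]
        exact Subgroup.card_map_dvd R _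
      refine hY'.normal_not_dvd hne hRn (fun r hr => ?_) hRdvd
      -- `R = (R ∩ P₀) K`
      have h1 : (R ⊓ (P₀ : Subgroup G)) ⊔ K = R := by
        have hKR : K ≤ R := fun k hk => by
          rw [hR, Subgroup.mem_comap, QuotientGroup.mk'_apply, (QuotientGroup.eq_one_iff k).mpr hk]
          exact one_mem _
        refine le_antisymm (sup_le inf_le_left hKR) ?_
        have h2 : Cfsg.pCore p (G ⧸ K) ≤ (P₀ : Subgroup G).map (QuotientGroup.mk' K) :=
          Cfsg.Agent.Grp.pCore_le_sylow (P₀.mapSurjective (QuotientGroup.mk'_surjective K))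
        intro x hx
        obtain ⟨a, ha, hae⟩ := h2 hx
        have hk : a⁻¹ * x ∈ K := QuotientGroup.eq.mp hae
        rw [show x = a * (a⁻¹ * x) by group]
        refine mul_mem (Subgroup.mem_sup_left ⟨?_, ha⟩) (Subgroup.mem_sup_right hk)
        show QuotientGroup.mk' K a ∈ Cfsg.pCore p (G ⧸ K)
        rw [show QuotientGroup.mk' K a = QuotientGroup.mk' K x from hae]
        exact hx
      exact (h1.ge.trans (sup_le (inf_le_right.trans hP₀) hKH)) hr
    · rcases Cfsg.Agent.S0016.result p P₀.isPGroup' hu with hc | ⟨hp2, n, ⟨e⟩⟩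
      · exact .inl ((P.equiv P₀).isCyclic.mpr hc)
      · exact .inr ⟨hp2, n, ⟨(P.equiv P₀).trans e⟩⟩
  · rintro ⟨hO, hcq⟩
    have : Nontrivial ↥(P : Subgroup G) := (Subgroup.nontrivial_iff_ne_bot _).mpr hPne
    have h : IsCyclic ↥(P : Subgroup G) ∨ ∃ n : ℕ, Nonempty (↥(P : Subgroup G) ≃* QuaternionGroup n) := by
      rcases hcq with h | ⟨-, n, h⟩
      · exact .inl h
      · exact .inr ⟨_, h⟩
    obtain ⟨z, hz, huniq⟩ :=
      Cfsg.Agent.Invol.exists_generator_of_cyclic_or_quaternion P.isPGroup' this h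
    obtain ⟨h1, h2, h3⟩ := Cfsg.Agent.Invol.spClassical_normalizer_zpowers hO P z.2
      (by rw [Subgroup.orderOf_coe, hz]) (fun y hy hy1 => by
        obtain ⟨i, hi⟩ := Subgroup.mem_zpowers_iff.mp (huniq ⟨y, hy⟩ (Subtype.ext hy1))
        exact Subgroup.mem_zpowers_iff.mpr ⟨i, by simpa using congrArg Subtype.val hi⟩)
    exact Cfsg.Agent.Invol.not_connected_of_classical h1 h2 h3

end Cfsg.Agent.S3057
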