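import Cfsg.Statements.S3059
import Mathlib
import Cfsg.Agent.Lib.Invol.SPEmbedded
import Cfsg.Agent.Lib.Invol.PResidual
import Cfsg.Agent.Lib.Grp.Cores
-- import your own Cfsg.Agent.* helpers here

set_option autoImplicit false
open Cfsg

namespace Cfsg.Agent.S3059

/-- Let p be a prime and H a strongly p-embedded subgroup of the finite group G in the classical sense: H is proper, p divides the order of H, and H ∩ gHg⁻¹ has order prime to p for every g outside H. Then for every normal subgroup N of G of order divisible by p, G = H · O^p(N), where O^p(N) is the subgroup generated by the elements of N of order prime to p. -/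
theorem result {G : Type*} [Group G] [Finite G]
    (p : ℕ) [Fact p.Prime] (H : Subgroup G) (hH : H ≠ ⊤) (hpH : p ∣ Nat.card H)
    (hse : ∀ g : G, g ∉ H → ¬ p ∣ Nat.card ↥(H ⊓ H.map (MulAut.conj g).toMonoidHom))
    (N : Subgroup G) [N.Normal] (hN : p ∣ Nat.card N) :
    H ⊔ Subgroup.closure {g : G | g ∈ N ∧ (orderOf g).Coprime p} = ⊤ := by
  obtain ⟨P, hP⟩ := Invol.exists_sylow_le_of_classical hpH hse
  set M := Subgroup.closure {g : G | g ∈ N ∧ (orderOf g).Coprime p} with hM
  have hQidx : ¬ p ∣ ((P : Subgroup G).subgroupOf N).index := Grp.sylow_inf_normal_relIndex P N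
  let Q : Sylow p N := (P.isPGroup'.comap_subtype (K := N)).toSylow hQidx
  have hres : (Cfsg.pResidual p ↥N).map N.subtype ≤ M := by
    rw [Cfsg.pResidual, MonoidHom.map_closure, Subgroup.closure_le]
    rintro _ ⟨x, hx, rfl⟩
    refine Subgroup.subset_closure ⟨x.2, ?_⟩
    rw [Subgroup.coe_subtype, Subgroup.orderOf_coe]
    exact hx
  have hNle : N ≤ H ⊔ M := by
    intro x hx
    have h1 : (⟨x, hx⟩ : N) ∈ (Q : Subgroup N) ⊔ Cfsg.pResidual p ↥N := by
      rw [sup_comm, Invol.pResidual_sup_sylow]; trivial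
    obtain ⟨q, hq, r, hr, hqr⟩ := Subgroup.mem_sup_of_normal_right.mp h1
    have : x = (q : G) * (r : G) := (congrArg Subtype.val hqr).symm
    rw [this]
    exact mul_mem (Subgroup.mem_sup_left (hP hq)) (Subgroup.mem_sup_right (hres ⟨r, hr, rfl⟩))
  have hnorm : Subgroup.normalizer (((Q : Subgroup N).map N.subtype : Subgroup G) : Set G) ≤ H := by
    intro g hg
    by_contra hgH
    have hcard : p ∣ Nat.card (Q : Subgroup N) := Q.dvd_card_of_dvd_card hN
    obtain ⟨w, hwQ, hw⟩ := Invol.exists_orderOf_prime_mem hcard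
    have hwG : (w : G) ∈ (Q : Subgroup N).map N.subtype := ⟨w, hwQ, rfl⟩
    have hQH : (Q : Subgroup N).map N.subtype ≤ H := by
      rintro _ ⟨q, hq, rfl⟩
      exact hP hq
    refine hse g hgH (Invol.dvd_card_of_mem (z := (w : G)) (by rw [Subgroup.orderOf_coe, hw])
      (Subgroup.mem_inf.mpr ⟨hQH hwG, Invol.mem_map_conj.mpr ?_⟩))
    exact hQH ((Subgroup.mem_normalizer_iff''.mp hg _).mp hwG)
  rw [eq_top_iff, ← Sylow.normalizer_sup_eq_top Q]
  exact sup_le (hnorm.trans le_sup_left) hNle

end Cfsg.Agent.S3059
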