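import Cfsg.Statements.S3060
import Cfsg.Agent.Lib.Invol.DStar
-- import your own Cfsg.Agent.* helpers here

set_option autoImplicit false
open Cfsg

namespace Cfsg.Agent.S3060

set_option maxHeartbeats 800000

/-- The D*-Theorem. For a finite p-group S let D*(S) be the subgroup generated by the abelian subgroups A of S such that every x ∈ S with ⟨A, x⟩ of nilpotency class at most two centralizes A. Let p be an odd prime and H a finite p-stable group with Sylow p-subgroup S. Here H is p-stable in the following sense: the largest normal p-subgroup O_p(H) contains its centralizer in H, and for every normal p-subgroup P of H, every element acting quadratically on P has image in O_p(H/C_H(P)). Then D*(S) is a normal subgroup of H. -/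
theorem result {G : Type*} [Group G] [Finite G] {p : ℕ} [Fact p.Prime] (hp : p ≠ 2)
    (hc : Subgroup.centralizer (Cfsg.pCore p G : Set G) ≤ Cfsg.pCore p G)
    (hst : ∀ (P : Subgroup G) [P.Normal], IsPGroup p P → Cfsg.IsPStableOn p P) (S : Sylow p G) :
    (Cfsg.dStarOf (S : Subgroup G)).Normal := by
  haveI hQn := Grp.pCore_isNormal (p := p) (G := G)
  have hQ := Grp.pCore_isPGroup (p := p) (G := G)
  have hSp : IsPGroup p (S : Subgroup G) := S.2
  set D := Cfsg.dStarOf (S : Subgroup G) with hD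
  set Q := Cfsg.pCore p G with hQdef
  have hDm : Invol.IsDMem (S : Subgroup G) D := Invol.dStarOf_isDMem hSp
  have hQS : Q ≤ (S : Subgroup G) := Grp.pCore_le_sylow S
  have hDQ : D ≤ Q := by
    intro z hz
    have hq := hst Q hQ z (le_bot_iff.1 (Subgroup.commutator_le.2 fun u hu v hv => ?_))
    · set C := Subgroup.centralizer (Q : Set G)
      haveI := Grp.pCore_isNormal (p := p) (G := G ⧸ C)
      have hKp : IsPGroup p ((Cfsg.pCore p (G ⧸ C)).comap (QuotientGroup.mk' C)) :=
        Grp.pCore_isPGroup.comap_of_ker_isPGroup _ (by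
          rw [QuotientGroup.ker_mk']
          exact hQ.to_le hc)
      exact Grp.le_pCore inferInstance hKp hq
    · have hzD : Subgroup.zpowers z ≤ D := (Subgroup.zpowers_le).2 hz
      have huD : u ∈ D := by
        refine (Subgroup.commutator_le.2 (fun x hx y hy => ?_) :
          ⁅Q, Subgroup.zpowers z⁆ ≤ D) hu
        rw [commutatorElement_def]
        exact mul_mem (Invol.conj_mem_dStarOf hSp (Subgroup.le_normalizer (hQS hx)) (hzD hy))
          (inv_mem (hzD hy))
      rw [Subgroup.mem_bot, commutatorElement_eq_one_iff_mul_comm]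
      exact hDm.comm u huD v (hzD hv)
  have hQm : ∀ g : G, Invol.IsDMem Q (D.map (MulAut.conj g).toMonoidHom) := by
    intro g
    refine ((Invol.isDMem_map (MulAut.conj g).toMonoidHom (MulAut.conj g).injective).2
      (hDm.mono hQS hDQ)).mono (fun x hx => ?_) ?_
    · exact ⟨g⁻¹ * x * g, by simpa using hQn.conj_mem x hx g⁻¹, by simp [mul_assoc]⟩
    · rintro _ ⟨x, hx, rfl⟩
      exact hQn.conj_mem x (hDQ hx) g
  set S₀ := {x : G | ∃ g : G, x ∈ D.map (MulAut.conj g).toMonoidHom} with hS₀
  have hS₀c : ∀ x ∈ S₀, ∀ y ∈ S₀, x * y = y * x := by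
    rintro x ⟨r, hx⟩ y ⟨s, hy⟩
    exact Invol.IsDMem.commute hQ (hQm r) (hQm s) x hx y hy
  haveI := Subgroup.isMulCommutative_closure hS₀c
  set W := Subgroup.closure S₀ with hW
  have hWQ : W ≤ Q := (Subgroup.closure_le Q).2 fun x ⟨g, hx⟩ => (hQm g).le hx
  have hWc : ∀ x ∈ W, ∀ y ∈ W, x * y = y * x := fun x hx y hy =>
    congrArg Subtype.val (IsMulCommutative.is_comm.comm (⟨x, hx⟩ : W) ⟨y, hy⟩)
  haveI hWn : W.Normal := ⟨fun x hx g => by
    have : W ≤ W.comap (MulAut.conj g).toMonoidHom := by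
      refine (Subgroup.closure_le _).2 ?_
      rintro y ⟨s, a, ha, rfl⟩
      exact Subgroup.subset_closure ⟨g * s, a, ha, by simp [mul_assoc]⟩
    exact this hx⟩
  have hDW : D ≤ W := fun a ha => Subgroup.subset_closure ⟨1, a, ha, by simp⟩
  suffices hWD : W = D by rw [← hWD]; exact hWn
  refine le_antisymm ?_ hDW
  refine Invol.IsDMem.le_dStarOf ⟨hWQ.trans hQS, hWc, fun x hx hcl => ?_⟩
  set C := Subgroup.centralizer (W : Set G) with hC
  haveI : C.Normal := inferInstance
  haveI := Grp.pCore_isNormal (p := p) (G := G ⧸ C)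
  set K := (Cfsg.pCore p (G ⧸ C)).comap (QuotientGroup.mk' C) with hK
  haveI hKn : K.Normal := inferInstance
  have hxK : x ∈ K := hst W (hQ.to_le hWQ) x (le_bot_iff.1
    ((Subgroup.commutator_mono (Subgroup.commutator_mono le_sup_left le_sup_right)
      le_sup_right).trans hcl.le))
  set T := (S : Subgroup G) ⊓ K with hT
  have hTK : K ≤ T ⊔ C := by
    intro k hk
    let f : K →* Cfsg.pCore p (G ⧸ C) :=
      ((QuotientGroup.mk' C).comp K.subtype).codRestrict _ fun y => y.2
    have hf : Function.Surjective f := by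
      rintro ⟨q, hq⟩
      obtain ⟨g, rfl⟩ := QuotientGroup.mk'_surjective C q
      exact ⟨⟨g, hq⟩, rfl⟩
    obtain ⟨-, P, hP⟩ := Fus.isSylowOf_inf_normal S K
    have hPtop := (P.mapSurjective hf).is_maximal'
      ((Grp.pCore_isPGroup (p := p) (G := G ⧸ C)).to_subgroup ⊤) le_top
    obtain ⟨y, hy, hyk⟩ : f ⟨k, hk⟩ ∈ (P : Subgroup K).map f :=
      hPtop.le (Subgroup.mem_top _)
    have hyT : (y : G) ∈ T := hP.le hy
    have hcm : (y : G)⁻¹ * k ∈ C := QuotientGroup.eq.1 (congrArg Subtype.val hyk)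
    rw [show k = (y : G) * ((y : G)⁻¹ * k) by group]
    exact mul_mem (Subgroup.mem_sup_left hyT) (Subgroup.mem_sup_right hcm)
  have hGT : ∀ g : G, ∃ n ∈ Subgroup.normalizer (T : Set G), ∃ c ∈ C, g = n * c := fun g => by
    obtain ⟨-, P, hP⟩ := Fus.isSylowOf_inf_normal S K
    have h1 : Subgroup.normalizer (T : Set G) ⊔ K = ⊤ := by
      have hPT : (P : Subgroup K).map K.subtype = T := by
        rw [hP, Subgroup.subgroupOf_map_subtype, inf_eq_left.2 (inf_le_right : T ≤ K)]
      rw [← hPT]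
      exact Sylow.normalizer_sup_eq_top P
    have h2 : Subgroup.normalizer (T : Set G) ⊔ C = ⊤ := top_le_iff.1 (h1 ▸ sup_le le_sup_left
      (hTK.trans (sup_le_sup_right Subgroup.le_normalizer _)))
    obtain ⟨n, hn, c, hcm, e⟩ := Subgroup.mem_sup_of_normal_right.1
      (show g ∈ Subgroup.normalizer (T : Set G) ⊔ C by rw [h2]; exact Subgroup.mem_top g)
    exact ⟨n, hn, c, hcm, e.symm⟩
  have hWC : W ≤ C := fun a ha => Subgroup.mem_centralizer_iff.2 fun b hb => hWc b hb a ha
  have hDT : D ≤ T := le_inf hDm.le fun a ha => by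
    rw [hK, Subgroup.mem_comap, QuotientGroup.mk'_apply,
      (QuotientGroup.eq_one_iff a).2 (hWC (hDW ha))]
    exact one_mem _
  have key : W ≤ Subgroup.centralizer ({x} : Set G) := by
    refine (Subgroup.closure_le _).2 ?_
    rintro y ⟨g, a, ha, rfl⟩
    refine Subgroup.mem_centralizer_iff.2 fun x' hx' => ?_
    rw [Set.mem_singleton_iff.1 hx']
    obtain ⟨n, hn, c, hcm, rfl⟩ := hGT g
    have hca : c * a * c⁻¹ = a := by
      rw [← (Subgroup.mem_centralizer_iff.1 hcm a (hDW ha)), mul_inv_cancel_right]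
    have hy : (MulAut.conj (n * c)).toMonoidHom a = (MulAut.conj n).toMonoidHom a := by
      show n * c * a * (n * c)⁻¹ = n * a * n⁻¹
      calc n * c * a * (n * c)⁻¹ = n * (c * a * c⁻¹) * n⁻¹ := by group
        _ = n * a * n⁻¹ := by rw [hca]
    rw [hy]
    have hnm := (Invol.isDMem_map (MulAut.conj n).toMonoidHom (MulAut.conj n).injective).2
      (hDm.mono inf_le_left hDT : Invol.IsDMem T D)
    have hxT : x ∈ T.map (MulAut.conj n).toMonoidHom :=
      ⟨n⁻¹ * x * n, (Subgroup.mem_normalizer_iff''.1 hn x).1 ⟨hx, hxK⟩, by simp [mul_assoc]⟩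
    refine (hnm.cent x hxT (Invol.isClassTwoJoin_mono ?_ hcl) _ ⟨a, ha, rfl⟩).symm
    rintro _ ⟨b, hb, rfl⟩
    exact Subgroup.subset_closure ⟨n, b, hb, rfl⟩
  exact fun a ha => (Subgroup.mem_centralizer_iff.1 (key ha) x rfl).symm

end Cfsg.Agent.S3060
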