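import Cfsg.Statements.S3062
import Cfsg.Agent.Lib.Invol.DStar
-- import your own Cfsg.Agent.* helpers here

set_option autoImplicit false
open Cfsg

namespace Cfsg.Agent.S3062

set_option maxHeartbeats 800000

/-- Let S be a finite p-group, J(S) the subgroup generated by the abelian subgroups of S of largest order and Z(J(S)) its centre. Then Z(S) ≤ D*(S) ≤ Z(J(S)), and every maximal normal abelian subgroup of S contains D*(S). -/
theorem result {S : Type*} [Group S] [Finite S] {p : ℕ} [Fact p.Prime]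
    (hS : IsPGroup p S) :
    Subgroup.center S ≤ Cfsg.dStar S ∧
    Cfsg.dStar S ≤ Cfsg.thompsonSubgroupA S ⊓ Subgroup.centralizer (Cfsg.thompsonSubgroupA S : Set S) ∧
    ∀ A : Subgroup S, A.Normal → IsMulCommutative A →
      (∀ B : Subgroup S, B.Normal → IsMulCommutative B → A ≤ B → B = A) → Cfsg.dStar S ≤ A := by
  have hD := Invol.dStar_isDMem hS
  have hcomm : ∀ {A : Subgroup S}, IsMulCommutative A → ∀ a ∈ A, ∀ b ∈ A, a * b = b * a :=
    fun {A} h a ha b hb => congrArg Subtype.val (h.is_comm.comm (⟨a, ha⟩ : A) ⟨b, hb⟩)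
  have hJ : ∀ A ∈ Cfsg.maxAbelianSubgroups S, Cfsg.dStar S ≤ A := by
    suffices h : ∀ n, ∀ A ∈ Cfsg.maxAbelianSubgroups S,
        Nat.card (Cfsg.dStar S) - Nat.card ↥(A ⊓ Cfsg.dStar S) ≤ n → Cfsg.dStar S ≤ A from
      fun A hA => h _ A hA le_rfl
    intro n
    induction n with
    | zero =>
      intro A hA hn
      have h1 : Nat.card (Cfsg.dStar S) ≤ Nat.card ↥(A ⊓ Cfsg.dStar S) := by omega
      exact inf_eq_right.1 (Subgroup.eq_of_le_of_card_ge inf_le_right h1)
    | succ n ih =>
      intro A hA hn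
      have hstep : Cfsg.dStar S ≤ Subgroup.normalizer (A : Set S) → Cfsg.dStar S ≤ A := by
        intro hnorm x hx
        refine Fus.IsMaxAb.mem_of_commute (R := (⊤ : Subgroup S))
          ⟨le_top, hcomm hA.1, fun B _ hc => hA.2 B ⟨⟨fun a b => Subtype.ext (hc a a.2 b b.2)⟩⟩⟩
          (Subgroup.mem_top x) fun a ha => (hD.centralizes (hS.to_subgroup ⊤) le_top (hcomm hA.1)
            hnorm a ha x hx).symm
      by_cases hnorm : Cfsg.dStar S ≤ Subgroup.normalizer (A : Set S)
      · exact hstep hnorm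
      have hAD : A ≤ Subgroup.normalizer (Cfsg.dStar S : Set S) := fun a _ =>
        Fus.mem_normalizer_of_forall
          (fun x hx => by
            have h1 := (Invol.isDMem_map (MulAut.conj a).toMonoidHom (MulAut.conj a).injective).2 hD
            exact Invol.le_dStar (h1.mono (R' := ⊤) (by
              intro y _
              exact ⟨a⁻¹ * y * a, Subgroup.mem_top _, by simp [mul_assoc]⟩) le_top) ⟨x, hx, rfl⟩)
          (fun x hx => by
            have h1 := (Invol.isDMem_map (MulAut.conj a⁻¹).toMonoidHom (MulAut.conj a⁻¹).injective).2 hD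
            have := Invol.le_dStar (h1.mono (R' := ⊤) (by
              intro y _
              exact ⟨a * y * a⁻¹, Subgroup.mem_top _, by simp [mul_assoc]⟩) le_top) ⟨x, hx, rfl⟩
            simpa using this)
      obtain ⟨B, -, hBc, hBcard, hlt, hBA⟩ := Fus.thompson_replacement (R := (⊤ : Subgroup S))
        (hS.to_subgroup ⊤) le_top le_top (hcomm hA.1) hD.comm hAD hnorm
      have hB : B ∈ Cfsg.maxAbelianSubgroups S :=
        ⟨⟨⟨fun a b => Subtype.ext (hBc a a.2 b b.2)⟩⟩, fun C hC => (hA.2 C hC).trans hBcard⟩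
      have h1 := Fus.card_lt_of_lt hlt
      have h2 := Subgroup.card_le_of_le (inf_le_right : B ⊓ Cfsg.dStar S ≤ Cfsg.dStar S)
      exact hstep ((ih B hB (by omega)).trans hBA)
  refine ⟨?_, ?_, ?_⟩
  · refine Invol.le_dStar ⟨le_top, fun a ha b _ => (Subgroup.mem_center_iff.1 ha b).symm,
      fun x _ _ a ha => (Subgroup.mem_center_iff.1 ha x).symm⟩
  · obtain ⟨A, hA⟩ : ∃ A, A ∈ Cfsg.maxAbelianSubgroups S := by
      obtain ⟨hf, hne⟩ : {A : Subgroup S | IsMulCommutative A}.Finite ∧
          {A : Subgroup S | IsMulCommutative A}.Nonempty :=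
        ⟨Set.toFinite _, Subgroup.center S, show IsMulCommutative (Subgroup.center S) from inferInstance⟩
      obtain ⟨A, h1, h2⟩ := Set.exists_max_image _ (fun A : Subgroup S => Nat.card A) hf hne
      exact ⟨A, h1, h2⟩
    refine le_inf ((hJ A hA).trans (le_sSup hA)) ?_
    refine Subgroup.le_centralizer_iff.1 (sSup_le fun B hB b hb => Subgroup.mem_centralizer_iff.2
      fun d hd => hcomm hB.1 d (hJ B hB hd) b hb)
  · intro A hAn hAc hmax
    haveI := hAn
    have hDA := hD.centralizes (hS.to_subgroup ⊤) le_top (hcomm hAc)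
      (Subgroup.normalizer_eq_top A ▸ le_top)
    haveI hDn : (Cfsg.dStar S).Normal := ⟨fun x hx g => by
      have h1 := (Invol.isDMem_map (MulAut.conj g).toMonoidHom (MulAut.conj g).injective).2 hD
      exact Invol.le_dStar (h1.mono (R' := ⊤) (by
        intro y _
        exact ⟨g⁻¹ * y * g, Subgroup.mem_top _, by simp [mul_assoc]⟩) le_top) ⟨x, hx, rfl⟩⟩
    have hg : ∀ u ∈ (A : Set S) ∪ (Cfsg.dStar S : Set S), ∀ v ∈ (A : Set S) ∪ (Cfsg.dStar S : Set S),
        u * v = v * u := by
      rintro u (hu | hu) v (hv | hv)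
      · exact hcomm hAc u hu v hv
      · exact (hDA u hu v hv).symm
      · exact hDA v hv u hu
      · exact hD.comm u hu v hv
    haveI := Subgroup.isMulCommutative_closure hg
    have h1 := hmax (A ⊔ Cfsg.dStar S) inferInstance (by
      rw [← Subgroup.closure_eq A, ← Subgroup.closure_eq (Cfsg.dStar S), ← Subgroup.closure_union]
      infer_instance) le_sup_left
    exact le_sup_right.trans h1.le

end Cfsg.Agent.S3062
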