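import Cfsg.Prelude
import Cfsg.Agent.Lib.Invol.CentrallyLarge
-- import your own Cfsg.Agent.* helpers here

set_option autoImplicit false
open Cfsg

namespace Cfsg.Agent.S3063

/-- A weak replacement Theorem for metabelian p-groups: let S be a finite p-group whose derived subgroup is abelian and A an abelian subgroup of S of largest possible order. Then the normal closure of A in S contains an abelian subgroup B of the same order as A that is normal in S. -/
theorem result {S : Type*} [Group S] [Finite S] {p : ℕ} [Fact p.Prime]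
    (hS : IsPGroup p S) (hmeta : IsMulCommutative ↥(commutator S))
    (A : Subgroup S) (hA : A ∈ Cfsg.maxAbelianSubgroups S) :
    ∃ B ∈ Cfsg.maxAbelianSubgroups S, B.Normal ∧ B ≤ Subgroup.normalClosure (A : Set S) := by
  classical
  set N := Subgroup.normalClosure (A : Set S) with hN
  obtain ⟨B, ⟨hB, hBN⟩, hmax⟩ := Set.exists_max_image
    {B : Subgroup S | B ∈ Cfsg.maxAbelianSubgroups S ∧ B ≤ N}
    (fun B => Nat.card ↥(B ⊓ commutator S)) (Set.toFinite _)
    ⟨A, hA, fun x hx => Subgroup.subset_normalClosure hx⟩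
  refine ⟨B, hB, ⟨fun b hb g => ?_⟩, hBN⟩
  have hBB := Invol.CL.le_centralizer_of_isMulCommutative hB.1
  have hCB := Invol.CL.maxAbelian_centralizer hB
  set f : S → S := fun b => b * g * b⁻¹ * g⁻¹ with hf
  set M := Subgroup.closure (f '' (B : Set S)) with hM
  have hfmem : ∀ c ∈ B, f c ∈ M := fun c hc => Subgroup.subset_closure ⟨c, hc, rfl⟩
  have hMD : M ≤ commutator S := (Subgroup.closure_le _).mpr (by
    rintro _ ⟨c, -, rfl⟩
    exact Subgroup.commutator_mem_commutator (Subgroup.mem_top c) (Subgroup.mem_top g))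
  have hNn : N.Normal := Subgroup.normalClosure_normal
  have hMN : M ≤ N := (Subgroup.closure_le _).mpr (by
    rintro _ ⟨c, hc, rfl⟩
    have h1 : c⁻¹ ∈ N := N.inv_mem (hBN hc)
    have h2 : c * (g * c⁻¹ * g⁻¹) ∈ N := N.mul_mem (hBN hc) (hNn.conj_mem c⁻¹ h1 g)
    rw [SetLike.mem_coe]
    simpa [hf, mul_assoc] using h2)
  have hDD := Invol.CL.le_centralizer_of_isMulCommutative hmeta
  have hMM : M ≤ Subgroup.centralizer (M : Set S) :=
    hMD.trans (hDD.trans (Subgroup.centralizer_le (SetLike.coe_subset_coe.mpr hMD)))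
  have hcomm : ∀ u ∈ M, ∀ v ∈ M, u * v = v * u := fun u hu v hv =>
    (Subgroup.mem_centralizer_iff.mp (hMM hu) v hv).symm
  have hBc : ∀ u ∈ B, ∀ v ∈ B, u * v = v * u := fun u hu v hv =>
    (Subgroup.mem_centralizer_iff.mp (hBB hu) v hv).symm
  have hexp : ∀ a c : S, f (a * c) = a * f c * a⁻¹ * f a := fun a c => by simp only [hf]; group
  set C := B ⊓ Subgroup.centralizer (M : Set S) with hC
  set X := C ⊔ M with hX
  -- the map `B / C → M / (B ⊓ M)` is injective
  have hinj : ∀ c ∈ B, ∀ d ∈ B, (f c)⁻¹ * f d ∈ B → c⁻¹ * d ∈ C := by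
    intro c hc d hd hz
    refine ⟨B.mul_mem (B.inv_mem hc) hd, ?_⟩
    have hgen : M ≤ Subgroup.centralizer ({c⁻¹ * d} : Set S) := by
      refine (Subgroup.closure_le _).mpr ?_
      rintro _ ⟨a, ha, rfl⟩
      refine Subgroup.mem_centralizer_singleton_iff.mpr ?_
      set z := (f c)⁻¹ * f d with hzdef
      have e1 : a * z = z * a := hBc a ha z hz
      have ec : a * f c * a⁻¹ * f a = c * f a * c⁻¹ * f c := by rw [← hexp, ← hexp, hBc a ha c hc]
      have ed : a * f d * a⁻¹ * f a = d * f a * d⁻¹ * f d := by rw [← hexp, ← hexp, hBc a ha d hd]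
      have e2 : f d = f c * z := by rw [hzdef]; group
      have e3 : a * f d * a⁻¹ = a * f c * a⁻¹ * z := by
        rw [e2, show a * (f c * z) * a⁻¹ = a * f c * (z * a⁻¹) by group,
          show z * a⁻¹ = a⁻¹ * z by
            calc z * a⁻¹ = a⁻¹ * (a * z) * a⁻¹ := by group
              _ = a⁻¹ * z := by rw [e1]; group]
        group
      have hzM : z ∈ M := mul_mem (inv_mem (hfmem c hc)) (hfmem d hd)
      have e4 : d * f a * d⁻¹ = c * f a * c⁻¹ := by
        have h1 : d * f a * d⁻¹ * f d = c * f a * c⁻¹ * f d := by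
          calc d * f a * d⁻¹ * f d = a * f c * a⁻¹ * (z * f a) := by rw [← ed, e3]; group
            _ = a * f c * a⁻¹ * f a * z := by rw [hcomm z hzM (f a) (hfmem a ha)]; group
            _ = c * f a * c⁻¹ * f d := by rw [ec, e2]; group
        exact mul_right_cancel h1
      calc f a * (c⁻¹ * d) = c⁻¹ * (c * f a * c⁻¹) * d := by group
        _ = c⁻¹ * (d * f a * d⁻¹) * d := by rw [e4]
        _ = c⁻¹ * d * f a := by group
    exact Subgroup.mem_centralizer_iff.mpr fun u hu => Subgroup.mem_centralizer_singleton_iff.mp (hgen hu)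
  have hrel : C.relIndex B ≤ B.relIndex M := by
    let φ : ↥B ⧸ C.subgroupOf B → ↥M ⧸ B.subgroupOf M :=
      fun q => QuotientGroup.mk (⟨f q.out, hfmem _ q.out.2⟩ : ↥M)
    have : Function.Injective φ := by
      intro q r hqr
      rw [QuotientGroup.eq, Subgroup.mem_subgroupOf] at hqr
      rw [← QuotientGroup.out_eq' q, ← QuotientGroup.out_eq' r, QuotientGroup.eq,
        Subgroup.mem_subgroupOf]
      exact hinj _ q.out.2 _ r.out.2 hqr
    exact Nat.card_le_card_of_injective φ this
  have hXab : IsMulCommutative ↥X := by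
    refine Invol.CL.isMulCommutative_of_le_centralizer
      (sup_le (le_trans (le_inf ?_ inf_le_right) (Invol.centralizer_sup_le _ _))
        (le_trans (le_inf ?_ hMM) (Invol.centralizer_sup_le _ _)))
    · exact inf_le_left.trans (hBB.trans (Subgroup.centralizer_le (SetLike.coe_subset_coe.mpr inf_le_left)))
    · exact Subgroup.le_centralizer_iff.mp inf_le_right
  have hcard : Nat.card ↥B ≤ Nat.card ↥X := by
    have h1 := Invol.card_mul_le_card_sup C M
    have h2 := Grp.relIndex_mul_card_inf M B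
    have h3 := Grp.card_mul_relIndex (inf_le_left : C ≤ B)
    have h4 : Nat.card ↥(C ⊓ M) ≤ Nat.card ↥(M ⊓ B) :=
      Subgroup.card_le_of_le (le_inf inf_le_right (inf_le_left.trans inf_le_left))
    refine Nat.le_of_mul_le_mul_right ?_ (Nat.card_pos (α := ↥(M ⊓ B : Subgroup S)))
    calc Nat.card ↥B * Nat.card ↥(M ⊓ B) = Nat.card ↥C * C.relIndex B * Nat.card ↥(M ⊓ B) := by rw [h3]
      _ ≤ Nat.card ↥C * B.relIndex M * Nat.card ↥(M ⊓ B) :=
          Nat.mul_le_mul_right _ (Nat.mul_le_mul_left _ hrel)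
      _ = Nat.card ↥C * Nat.card ↥M := by rw [← h2]; ring
      _ ≤ Nat.card ↥X * Nat.card ↥(C ⊓ M) := h1
      _ ≤ Nat.card ↥X * Nat.card ↥(M ⊓ B) := Nat.mul_le_mul_left _ h4
  have hXmax : X ∈ Cfsg.maxAbelianSubgroups S := ⟨hXab, fun Y hY => (hB.2 Y hY).trans hcard⟩
  have hle : B ⊓ commutator S ≤ X ⊓ commutator S :=
    le_inf (le_trans (le_inf inf_le_left (inf_le_right.trans
      (hDD.trans (Subgroup.centralizer_le (SetLike.coe_subset_coe.mpr hMD))))) le_sup_left) inf_le_right
  have heq := Subgroup.eq_of_le_of_card_ge hle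
    (hmax X ⟨hXmax, sup_le (inf_le_left.trans hBN) hMN⟩)
  have hMB : M ≤ B := fun x hx =>
    (heq.ge (show x ∈ X ⊓ commutator S from ⟨Subgroup.mem_sup_right hx, hMD hx⟩)).1
  simpa [hf, mul_assoc] using B.mul_mem hb (hMB (hfmem b⁻¹ (B.inv_mem hb)))

end Cfsg.Agent.S3063
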