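import Cfsg.Prelude
import Cfsg.Agent.Lib.Grp.FrobeniusTheorem

set_option autoImplicit false
open Cfsg

open scoped Pointwise commutatorElement

namespace Cfsg.Agent.S3064

universe u

theorem aux {p : ℕ} [Fact p.Prime] : ∀ (n : ℕ) (G : Type u) [Group G] [Finite G], Nat.card G = n → ∀ x : G,
    IsPGroup p ↥(Subgroup.zpowers x) →
    (∀ R : Subgroup G, IsPGroup p ↥R → x ∈ R → ∀ g : G, g * x * g⁻¹ ∈ R → g * x * g⁻¹ = x) →
    (∀ H : Subgroup G, (Nat.card H).Coprime p → (∀ h ∈ H, x * h * x⁻¹ ∈ H) → ∀ h ∈ H, x * h = h * x) →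
    x ∈ Subgroup.center G := by
  intro n
  induction n using Nat.strong_induction_on with
  | _ n ih =>
  intro G _ _ hn x hxp hU hb
  classical
  by_contra hx
  haveI := Fintype.ofFinite G
  obtain ⟨M, hM⟩ : ∃ M : Subgroup G, M = Subgroup.centralizer {x} := ⟨_, rfl⟩
  have hxM : x ∈ M := hM ▸ Subgroup.mem_centralizer_singleton_iff.mpr rfl
  have hMtop : M ≠ ⊤ := fun e => hx (Subgroup.mem_center_iff.mpr fun g => by
    have hg : g ∈ Subgroup.centralizer {x} := hM ▸ e ▸ Subgroup.mem_top g
    exact Subgroup.mem_centralizer_singleton_iff.mp hg)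
  have hMmem : ∀ g, g * x * g⁻¹ = x → g ∈ M := fun g hg =>
    hM ▸ Subgroup.mem_centralizer_singleton_iff.mpr (mul_inv_eq_iff_eq_mul.mp hg)
  -- `x` is central in every proper subgroup containing it
  have hsub : ∀ H : Subgroup G, H ≠ ⊤ → x ∈ H → H ≤ M := by
    intro H hH hxH h hh
    have hlt : Nat.card H < n := hn ▸ (lt_of_le_of_ne (Subgroup.card_le_card_group H)
      fun e => hH (Subgroup.card_eq_iff_eq_top H |>.mp e))
    have h1 := ih _ hlt ↥H rfl ⟨x, hxH⟩ ?_ ?_ ?_
    · have h2 := congrArg Subtype.val (Subgroup.mem_center_iff.mp h1 ⟨h, hh⟩)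
      exact hM ▸ Subgroup.mem_centralizer_singleton_iff.mpr h2
    · obtain ⟨k, hk⟩ := IsPGroup.iff_card.mp hxp
      exact IsPGroup.of_card (n := k) (by rw [Nat.card_zpowers, Subgroup.orderOf_mk, ← Nat.card_zpowers, hk])
    · intro R hR hxR g hg
      exact Subtype.ext (hU (R.map H.subtype) (hR.map _) ⟨_, hxR, rfl⟩ g ⟨_, hg, rfl⟩)
    · intro L hL hLx l hl
      refine Subtype.ext (hb (L.map H.subtype) ?_ ?_ l ⟨l, hl, rfl⟩)
      · rwa [Subgroup.card_map_of_injective H.subtype_injective]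
      · rintro _ ⟨z, hz, rfl⟩
        exact ⟨_, hLx z hz, rfl⟩
  have hTI : ∀ g : G, g ∉ M → ∀ u ∈ M, g⁻¹ * u * g ∈ M → u ∈ Subgroup.center G := by
    intro g hg u hu hu'
    have hux : u * x = x * u := Subgroup.mem_centralizer_singleton_iff.mp (hM ▸ hu)
    have huy : u * (g * x * g⁻¹) = (g * x * g⁻¹) * u := by
      have e : g⁻¹ * u * g * x = x * (g⁻¹ * u * g) := Subgroup.mem_centralizer_singleton_iff.mp (hM ▸ hu')
      calc u * (g * x * g⁻¹) = g * (g⁻¹ * u * g * x) * g⁻¹ := by group
        _ = g * (x * (g⁻¹ * u * g)) * g⁻¹ := by rw [e]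
        _ = g * x * g⁻¹ * u := by group
    by_contra huc
    refine hg (hMmem g ?_)
    have hCu : Subgroup.centralizer {u} ≠ ⊤ := fun e => huc (Subgroup.mem_center_iff.mpr fun z => by
      have hz : z ∈ Subgroup.centralizer {u} := e ▸ Subgroup.mem_top z
      exact Subgroup.mem_centralizer_singleton_iff.mp hz)
    have hyM := hsub _ hCu (Subgroup.mem_centralizer_singleton_iff.mpr hux.symm)
      (Subgroup.mem_centralizer_singleton_iff.mpr huy.symm)
    have hyx : (g * x * g⁻¹) * x = x * (g * x * g⁻¹) := Subgroup.mem_centralizer_singleton_iff.mp (hM ▸ hyM)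
    have hyp : IsPGroup p ↥(Subgroup.zpowers (g * x * g⁻¹)) := by
      obtain ⟨k, hk⟩ := IsPGroup.iff_card.mp hxp
      refine IsPGroup.of_card (n := k) ?_
      rw [Nat.card_zpowers] at hk ⊢
      rw [← hk]
      exact orderOf_injective (MulAut.conj g).toMonoidHom (MulAut.conj g).injective x
    have hN : Subgroup.zpowers (g * x * g⁻¹) ≤ Subgroup.normalizer (Subgroup.zpowers x : Set G) := by
      rw [Subgroup.zpowers_le]
      exact Subgroup.centralizer_le_normalizer _
        (Subgroup.mem_centralizer_iff.mpr (by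
          rintro _ ⟨i, rfl⟩
          exact ((show Commute (g * x * g⁻¹) x from hyx).zpow_right i).symm.eq))
    exact hU _ (IsPGroup.to_sup_of_normal_left' hxp hyp hN) (Subgroup.mem_sup_left (Subgroup.mem_zpowers x)) g
      (Subgroup.mem_sup_right (Subgroup.mem_zpowers _))
  let π := QuotientGroup.mk' (Subgroup.center G)
  have hZM : Subgroup.center G ≤ M := fun z hz =>
    hM ▸ Subgroup.mem_centralizer_singleton_iff.mpr (Subgroup.mem_center_iff.mp hz x).symm
  have hcm : (M.map π).comap π = M := by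
    rw [Subgroup.comap_map_eq, QuotientGroup.ker_mk', sup_eq_left.mpr hZM]
  haveI : Fintype (G ⧸ Subgroup.center G) := Fintype.ofFinite _
  have hF : Cfsg.IsFrobeniusComplement (M.map π) := by
    refine ⟨fun e => hx ?_, fun e => hMtop ?_, ?_⟩
    · rw [Subgroup.map_eq_bot_iff, QuotientGroup.ker_mk'] at e
      exact e hxM
    · rw [← hcm, e, Subgroup.comap_top]
    · intro q hq
      obtain ⟨g, rfl⟩ := QuotientGroup.mk'_surjective (Subgroup.center G) q
      have hgM : g ∉ M := fun h => hq ⟨g, h, rfl⟩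
      rw [Subgroup.eq_bot_iff_forall]
      rintro z ⟨hz, hz'⟩
      replace hz' := (Frob.mem_smul_conj_iff _ _).mp hz'
      obtain ⟨u, hu, rfl⟩ := hz
      refine (QuotientGroup.eq_one_iff u).mpr (hTI g hgM u hu ?_)
      rw [← hcm, Subgroup.mem_comap]
      simpa only [map_mul, map_inv] using hz'
  obtain ⟨N, hN⟩ := Grp.exists_frobenius_kernel hF
  obtain ⟨N', hN', hN'n, hcompl, hnil⟩ := Grp.frobenius_kernel_spec hF
  -- the kernel has order prime to `p`
  have hidx : Nat.card N' = M.index := by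
    rw [hcompl.index_eq_card.symm, ← Subgroup.index_comap_of_surjective _ (QuotientGroup.mk'_surjective _), hcm]
  obtain ⟨R, hR⟩ := hxp.exists_le_sylow
  have hRM : (R : Subgroup G) ≤ M := fun s hs => hMmem s (hU R R.2 (hR (Subgroup.mem_zpowers x)) s
    ((R : Subgroup G).mul_mem ((R : Subgroup G).mul_mem hs (hR (Subgroup.mem_zpowers x))) ((R : Subgroup G).inv_mem hs)))
  have hpN : ¬ p ∣ Nat.card N' := fun hd =>
    R.not_dvd_index ((hidx ▸ hd).trans (Subgroup.index_dvd_of_le hRM))
  obtain ⟨K, hK⟩ : ∃ K, K = N'.comap π := ⟨_, rfl⟩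
  have hKn : K.Normal := hK ▸ hN'n.comap π
  let f : ↥K →* ↥N' := (π.comp K.subtype).codRestrict N' fun k => (hK ▸ k.2 : (k : G) ∈ N'.comap π)
  have hKnil : Group.IsNilpotent ↥K := by
    haveI := hnil
    refine Subgroup.isNilpotent_of_ker_le_center f (fun k hk => ?_)
    have h1 : (k : G) ∈ Subgroup.center G := (QuotientGroup.eq_one_iff _).mp (congrArg Subtype.val hk)
    exact Subgroup.mem_center_iff.mpr fun l => Subtype.ext (Subgroup.mem_center_iff.mp h1 l)
  have hKM : K ≤ M := by
    suffices h : K.subtype.range ≤ M by rwa [Subgroup.range_subtype] at h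
    rw [MonoidHom.range_eq_map, Subgroup.map_le_iff_le_comap, top_le_iff]
    refine Subgroup.eq_top_of_card_eq _ (Nat.dvd_antisymm (Subgroup.card_subgroup_dvd_card _) ?_)
    rw [← Nat.factorization_prime_le_iff_dvd Nat.card_pos.ne' Nat.card_pos.ne']
    intro q hq
    haveI := Fact.mk hq
    obtain ⟨Q⟩ : Nonempty (Sylow q ↥K) := inferInstance
    have hQ : (Q : Subgroup ↥K) ≤ M.comap K.subtype := by
      intro a ha
      show (a : G) ∈ M
      by_cases hqp : q = p
      · subst hqp
        have hz : f a = 1 := by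
          obtain ⟨i, hi⟩ := Q.2 ⟨a, ha⟩
          have h1 : orderOf (f a) ∣ q ^ i := (orderOf_map_dvd f a).trans
            (orderOf_dvd_of_pow_eq_one (congrArg Subtype.val hi))
          have h2 : orderOf (f a) ∣ Nat.card N' := orderOf_dvd_natCard _
          exact orderOf_eq_one_iff.mp (Nat.eq_one_of_dvd_coprimes
            (Nat.Coprime.pow_left i (hq.coprime_iff_not_dvd.mpr hpN)) h1 h2)
        exact hZM ((QuotientGroup.eq_one_iff _).mp (congrArg Subtype.val hz))
      · haveI hQn : (Q : Subgroup ↥K).Normal := Grp.isNilpotent_iff_sylow_normal.mp hKnil q inferInstance Q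
        haveI := Q.characteristic_of_normal hQn
        haveI := hKn
        have hQG : ((Q : Subgroup ↥K).map K.subtype).Normal := inferInstance
        have hc : (Nat.card ↥((Q : Subgroup ↥K).map K.subtype)).Coprime p := by
          rw [Subgroup.card_map_of_injective K.subtype_injective, Q.card_eq_multiplicity]
          exact Nat.Coprime.pow_left _ ((Nat.coprime_primes hq Fact.out).mpr hqp)
        exact hM ▸ Subgroup.mem_centralizer_singleton_iff.mpr
          (hb _ hc (fun h hh => hQG.conj_mem h hh x) a ⟨a, ha, rfl⟩).symm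
    have hd : q ^ (Nat.card ↥K).factorization q ∣ Nat.card (M.comap K.subtype) :=
      Q.card_eq_multiplicity ▸ Subgroup.card_dvd_of_le hQ
    exact (hq.pow_dvd_iff_le_factorization Nat.card_pos.ne').mp hd
  have hbot : N' = ⊥ := by
    rw [eq_bot_iff, ← hcompl.disjoint.eq_bot]
    refine le_inf le_rfl fun z hz => ?_
    obtain ⟨k, rfl⟩ := QuotientGroup.mk'_surjective (Subgroup.center G) z
    exact ⟨k, hKM (hK ▸ hz), rfl⟩
  subst hbot
  exact hF.2.1 (Subgroup.isComplement'_bot_left.mp hcompl)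

/-- Let S be a Sylow p-subgroup of the finite group G and x an element of S such that (i) x is the only G-conjugate of x lying in S, and (ii) x centralizes every subgroup of order prime to p that it normalizes. Then x lies in the centre of G. -/
theorem result {G : Type*} [Group G] [Finite G] {p : ℕ} [Fact p.Prime]
    (S : Sylow p G) (x : G) (hx : x ∈ S)
    (hU : ∀ g : G, g⁻¹ * x * g ∈ S → g⁻¹ * x * g = x)
    (hb : ∀ H : Subgroup G, (Nat.card H).Coprime p → (∀ h ∈ H, x * h * x⁻¹ ∈ H) → ∀ h ∈ H, x * h = h * x) :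
    x ∈ Subgroup.center G := by
  refine aux (p := p) _ G rfl x (S.2.to_le (Subgroup.zpowers_le.mpr hx)) (fun R hR hxR g hg => ?_) hb
  obtain ⟨T, hT⟩ := hR.exists_le_sylow
  obtain ⟨m, hm⟩ := MulAction.exists_smul_eq G S T
  have hmem : ∀ z, z ∈ R → m⁻¹ * z * m ∈ S := by
    intro z hz
    have := hT hz
    rw [← hm, Sylow.coe_subgroup_smul, Subgroup.mem_smul_pointwise_iff_exists] at this
    obtain ⟨w, hw, rfl⟩ := this
    show m⁻¹ * (MulAut.conj m • w) * m ∈ (S : Subgroup G)
    simpa [mul_assoc] using hw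
  have h1 := hU m (hmem x hxR)
  have h2 := hU (g⁻¹ * m) (by simpa [mul_assoc] using hmem _ hg)
  calc g * x * g⁻¹ = m * ((g⁻¹ * m)⁻¹ * x * (g⁻¹ * m)) * m⁻¹ := by group
    _ = m * (m⁻¹ * x * m) * m⁻¹ := by rw [h2, h1]
    _ = x := by group

end Cfsg.Agent.S3064
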