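import Cfsg.Statements.S3066
import Cfsg.Agent.Lib.Grp.OutOmega.Main
import Cfsg.Agent.S0205
-- import your own Cfsg.Agent.* helpers here

set_option autoImplicit false
open Cfsg

namespace Cfsg.Agent.S3066

/-- Let G be a finite non-abelian simple group with a nontrivial Sylow 2-subgroup S (that is, G has even order). Then Out(G) = Aut(G)/Inn(G) is solvable provided one of the following holds: (a) S is generated by two elements; (b) S is generated by three elements and N_G(S)/C_G(S) is not a 2-group (some element of N_G(S) of odd order does not centralize S); (c) the involutions of S commute pairwise and are all conjugate in G. -/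
theorem result {G : Type*} [Group G] [Finite G] [IsSimpleGroup G]
    (hG : ¬ IsMulCommutative G) (S : Sylow 2 G) (hS1 : (S : Subgroup G) ≠ ⊥)
    (h : (∃ a b : ↥S, Subgroup.closure ({a, b} : Set ↥S) = ⊤) ∨
      ((∃ a b c : ↥S, Subgroup.closure ({a, b, c} : Set ↥S) = ⊤) ∧
        ∃ g ∈ Subgroup.normalizer ((S : Subgroup G) : Set G), Odd (orderOf g) ∧ g ∉ Subgroup.centralizer ((S : Subgroup G) : Set G)) ∨
      ((∀ s ∈ S, ∀ t ∈ S, orderOf s = 2 → orderOf t = 2 → s * t = t * s) ∧
        (∀ s ∈ S, ∀ t ∈ S, orderOf s = 2 → orderOf t = 2 → ∃ g : G, g * s * g⁻¹ = t))) :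
    Group.IsSolvable (Cfsg.Out G) := by
  classical
  haveI : Fact (Nat.Prime 2) := ⟨Nat.prime_two⟩
  set cj : G →* MulAut G := MulAut.conj with hcj
  have hinj : Function.Injective cj := by
    rw [injective_iff_map_eq_one]
    intro g hg
    have hgc : g ∈ Subgroup.center G := Subgroup.mem_center_iff.2 fun y => by
      have := congrArg (fun α : MulAut G => α y) hg
      simp only [hcj, MulAut.conj_apply, MulAut.one_apply, mul_inv_eq_iff_eq_mul] at this
      exact this.symm
    rcases Subgroup.Normal.eq_bot_or_eq_top (H := Subgroup.center G) inferInstance with h | h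
    · rwa [h, Subgroup.mem_bot] at hgc
    · exact absurd ⟨⟨fun a b => (Subgroup.mem_center_iff.1 (h ▸ Subgroup.mem_top b) a)⟩⟩ hG
  let eI : G ≃* Inn G := MonoidHom.ofInjective hinj
  haveI : Nontrivial (Inn G) := eI.symm.toEquiv.nontrivial
  haveI : IsSimpleGroup (Inn G) := IsSimpleGroup.isSimpleGroup_of_surjective eI.toMonoidHom eI.surjective
  let SN : Sylow 2 (Inn G) := S.mapSurjective (f := eI.toMonoidHom) eI.surjective
  have hNc : Subgroup.centralizer ((Inn G : Subgroup (MulAut G)) : Set (MulAut G)) = ⊥ := by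
    refine (Subgroup.eq_bot_iff_forall _).2 fun α hα => MulEquiv.ext fun y => hinj ?_
    have h1 := Subgroup.mem_centralizer_iff.1 hα _ ⟨y, rfl⟩
    show MulAut.conj (α y) = MulAut.conj y
    calc MulAut.conj (α y) = α * MulAut.conj y * α⁻¹ := by ext z; simp
      _ = MulAut.conj y := by rw [← h1, mul_inv_cancel_right]
  have hO : pPrimeCore 2 (Inn G) = ⊥ := by
    haveI : (pPrimeCore 2 (Inn G)).Normal := Cfsg.Agent.Grp.pPrimeCore_isNormal
    refine (Subgroup.Normal.eq_bot_or_eq_top (H := pPrimeCore 2 (Inn G)) inferInstance).resolve_right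
      fun h => hS1 ?_
    have hc := Cfsg.Agent.Grp.pPrimeCore_coprime (p := 2) (G := Inn G)
    rw [h, Subgroup.card_top, ← Nat.card_congr eI.toEquiv] at hc
    refine (Subgroup.eq_bot_iff_card _).2 (Nat.eq_one_of_dvd_coprimes hc (Subgroup.card_subgroup_dvd_card _) ?_)
    obtain ⟨n, hn⟩ := S.2.exists_card_eq
    rcases n with _ | n
    · rw [hn, pow_zero]; exact one_dvd _
    · exfalso
      exact Nat.prime_two.not_dvd_one ((Nat.dvd_gcd ((hn ▸ dvd_pow_self 2 n.succ_ne_zero).trans
        (Subgroup.card_subgroup_dvd_card _)) dvd_rfl).trans hc.gcd_eq_one.dvd)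
  have hcS := Cfsg.Agent.Fus.SylowCent.solvable_centralizer (Inn G) hNc hO SN
    (fun K hK => Cfsg.Agent.S0205.result hK)
  set S' : Subgroup (MulAut G) := (SN : Subgroup (Inn G)).map (Inn G).subtype with hS'
  have hS'eq : S' = (S : Subgroup G).map cj := by
    rw [hS', show (SN : Subgroup (Inn G)) = (S : Subgroup G).map eI.toMonoidHom from Sylow.coe_mapSurjective _ _,
      Subgroup.map_map]
    rfl
  have hSI : S' ≤ Inn G := Subgroup.map_subtype_le _
  have hS'p : IsPGroup 2 S' := SN.2.map _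
  have hidx : ¬ 2 ∣ S'.relIndex (Inn G) := by
    rw [Subgroup.relIndex, Subgroup.subgroupOf, hS', Subgroup.comap_map_eq_self_of_injective (Inn G).subtype_injective]
    exact SN.not_dvd_index
  let eS : ↥(S : Subgroup G) ≃* ↥S' :=
    ((S : Subgroup G).equivMapOfInjective _ hinj).trans (MulEquiv.subgroupCongr hS'eq.symm)
  have hgen : ∀ k : ℕ, ∀ g : Fin k → ↥(S : Subgroup G), Subgroup.closure (Set.range g) = ⊤ →
      Nat.card (↥S' ⧸ frattini ↥S') ≤ 2 ^ k := by
    intro k g hg
    refine Cfsg.Agent.Grp.OutOmega.card_le_of_gen (Cfsg.Agent.Grp.OutOmega.flat_sq S' hS'p)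
      (fun i => QuotientGroup.mk' (frattini ↥S') (eS (g i))) ?_
    have hsurj : Function.Surjective ((QuotientGroup.mk' (frattini ↥S')).comp eS.toMonoidHom) :=
      (QuotientGroup.mk'_surjective _).comp eS.surjective
    rw [← Subgroup.map_top_of_surjective _ hsurj, ← hg, MonoidHom.map_closure, ← Set.range_comp]
    rfl
  set L : Subgroup (MulAut G) := Subgroup.normalizer (S' : Set (MulAut G)) with hL
  have key : ∀ R : Subgroup (MulAut G), R ≤ L → ⁅R, R⁆ = R → R ≤ (QuotientGroup.mk' (Inn G)).ker := by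
    intro R hRL hRp
    have hcen : R ≤ Subgroup.centralizer (S' : Set (MulAut G)) → R ≤ (QuotientGroup.mk' (Inn G)).ker := by
      intro hle
      haveI := hcS
      exact Cfsg.Agent.Grp.OutOmega.perfect_le_ker_of_map_le _ hRp
        (T := (Subgroup.centralizer (S' : Set (MulAut G))).map (QuotientGroup.mk' (Inn G)))
        (Group.isSolvable_of_surjective (f := (QuotientGroup.mk' (Inn G)).subgroupMap _)
          ((QuotientGroup.mk' (Inn G)).subgroupMap_surjective _)) (Subgroup.map_mono hle)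
    rcases h with ⟨a, b, hab⟩ | ⟨⟨a, b, c, habc⟩, g, hgN, hgo, hgc⟩ | ⟨hc, hcl⟩
    · refine hcen (Cfsg.Agent.Grp.OutOmega.centralizes_of_two S' hS'p hRp hRL ?_)
      refine hgen 2 ![a, b] ?_
      rw [← hab]; congr 1
      simp [Set.pair_comm]
    · refine hcen (Cfsg.Agent.Grp.OutOmega.centralizes_of_three (Inn G) S' hSI hS'p hidx
        (g := cj g) ⟨g, rfl⟩ ?_ ?_ ?_ hRp hRL ?_)
      · rw [hS'eq]
        exact Subgroup.le_normalizer_map cj ⟨g, hgN, rfl⟩
      · rwa [orderOf_injective cj hinj]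
      · intro hcg
        refine hgc (Subgroup.mem_centralizer_iff.2 fun x hx => hinj ?_)
        rw [map_mul, map_mul]
        exact Subgroup.mem_centralizer_iff.1 hcg _ (hS'eq.ge ⟨x, hx, rfl⟩)
      · refine hgen 3 ![a, b, c] ?_
        rw [← habc]; congr 1
        ext x
        simp [Fin.exists_fin_succ, eq_comm, or_comm, or_left_comm]
    · rw [QuotientGroup.ker_mk']
      have hlift : ∀ s ∈ S', ∃ s₀ ∈ (S : Subgroup G), cj s₀ = s := fun s hs => hS'eq.le hs
      have hord : ∀ s₀ : G, cj s₀ * cj s₀ = 1 → s₀ = 1 ∨ orderOf s₀ = 2 := fun s₀ hs => by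
        by_cases h1 : s₀ = 1
        · exact Or.inl h1
        · rw [← map_mul] at hs
          exact Or.inr (orderOf_eq_prime (by rw [pow_two]; exact hinj (hs.trans (map_one cj).symm)) h1)
      refine Cfsg.Agent.Grp.OutOmega.le_of_omega (Inn G) S' hSI hS'p hidx ?_ ?_ hcS hRp hRL
      · intro s hs t ht hs2 ht2
        obtain ⟨s₀, hs₀, rfl⟩ := hlift s hs
        obtain ⟨t₀, ht₀, rfl⟩ := hlift t ht
        rw [← map_mul, ← map_mul]
        congr 1
        rcases hord s₀ hs2 with rfl | h1
        · simp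
        rcases hord t₀ ht2 with rfl | h2
        · simp
        exact hc s₀ hs₀ t₀ ht₀ h1 h2
      · intro s hs t ht hs2 ht2 hs1 ht1
        obtain ⟨s₀, hs₀, rfl⟩ := hlift s hs
        obtain ⟨t₀, ht₀, rfl⟩ := hlift t ht
        obtain ⟨g, hg⟩ := hcl s₀ hs₀ t₀ ht₀
          ((hord s₀ hs2).resolve_left fun e => hs1 (by rw [e, map_one]))
          ((hord t₀ ht2).resolve_left fun e => ht1 (by rw [e, map_one]))
        exact ⟨cj g, ⟨g, rfl⟩, by rw [← hg, map_mul, map_mul, map_inv]⟩
  haveI := Cfsg.Agent.Grp.OutOmega.solvable_map_of_perfect (QuotientGroup.mk' (Inn G)) L key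
  refine Group.isSolvable_of_surjective (f := (L.map (QuotientGroup.mk' (Inn G))).subtype) fun q => ?_
  obtain ⟨α, rfl⟩ := QuotientGroup.mk'_surjective _ q
  obtain ⟨l, hl, i, hi, rfl⟩ := Subgroup.mem_sup_of_normal_right.1
    (show α ∈ L ⊔ Inn G from (Sylow.normalizer_sup_eq_top SN).symm ▸ Subgroup.mem_top α)
  refine ⟨⟨_, l, hl, rfl⟩, ?_⟩
  rw [map_mul, show QuotientGroup.mk' (Inn G) i = 1 from (QuotientGroup.eq_one_iff i).2 hi, mul_one]
  rfl

end Cfsg.Agent.S3066
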