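import Cfsg.Prelude
import Cfsg.Agent.Lib.Invol.ZJComplement
import Cfsg.Agent.Lib.Transfer.NormalComplement
import Cfsg.Agent.Lib.Transfer.Fusion
import Cfsg.Agent.Lib.Fus.GroupLocal

set_option autoImplicit false
open Cfsg

open scoped Pointwise commutatorElement

namespace Cfsg.Agent.S3073

universe u

variable {p : ℕ} [Fact p.Prime]

/-- If a normal subgroup has a normal `p`-complement and contains all `p'`-elements, so does the group. -/
theorem npc_of_normal {H : Type*} [Group H] [Finite H] (C : Subgroup H) (hC : Cfsg.HasNormalPComplement p ↥C)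
    (hmem : ∀ g : H, (orderOf g).Coprime p → g ∈ C) : Cfsg.HasNormalPComplement p H := by
  rw [Transfer.hasNormalPComplement_iff_not_dvd] at hC ⊢
  intro hd
  refine hC (hd.trans ?_)
  rw [← Subgroup.card_map_of_injective (f := C.subtype) C.subtype_injective]
  refine Subgroup.card_dvd_of_le ((Subgroup.closure_le _).mpr fun g hg => ?_)
  refine ⟨⟨g, hmem g hg⟩, Subgroup.subset_closure ?_, rfl⟩
  show (orderOf (⟨g, hmem g hg⟩ : C)).Coprime p
  rw [Subgroup.orderOf_mk]; exact hg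

/-- A central extension of a `p`-group by a group with a normal `p`-complement has one. -/
theorem npc_central {H : Type*} [Group H] [Finite H] (Z : Subgroup H) [Z.Normal] (hZ : Z ≤ Subgroup.center H)
    (hZp : IsPGroup p ↥Z) (h : Cfsg.HasNormalPComplement p (H ⧸ Z)) : Cfsg.HasNormalPComplement p H := by
  obtain ⟨N, hN, hd, k, hk⟩ := Transfer.hasNormalPComplement_iff_exists.mp h
  obtain ⟨L, hL⟩ : ∃ L, L = N.comap (QuotientGroup.mk' Z) := ⟨_, rfl⟩
  haveI hLn : L.Normal := hL ▸ hN.comap _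
  refine npc_of_normal L ?_ fun g hg => ?_
  · obtain ⟨P⟩ : Nonempty (Sylow p ↥L) := inferInstance
    refine Transfer.hasNormalPComplement_of_control P fun x hx y _ ⟨g, hg⟩ => ⟨1, one_mem _, ?_⟩
    let f : ↥L →* ↥N := ((QuotientGroup.mk' Z).comp L.subtype).codRestrict N
      fun l => (hL ▸ l.2 : (l : H) ∈ N.comap (QuotientGroup.mk' Z))
    have hfx : f x = 1 := by
      obtain ⟨i, hi⟩ := P.2 ⟨x, hx⟩
      have h1 : orderOf (f x) ∣ p ^ i := (orderOf_map_dvd f x).trans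
        (orderOf_dvd_of_pow_eq_one (congrArg Subtype.val hi))
      exact orderOf_eq_one_iff.mp (Nat.eq_one_of_dvd_coprimes
        (Nat.Coprime.pow_left i ((Fact.out : p.Prime).coprime_iff_not_dvd.mpr hd)) h1 (orderOf_dvd_natCard _))
    have hxc : g * x = x * g := Subtype.ext (Subgroup.mem_center_iff.mp
      (hZ ((QuotientGroup.eq_one_iff _).mp (congrArg Subtype.val hfx))) g)
    rw [← hg, hxc, mul_inv_cancel_right, one_mul, inv_one, mul_one]
  · have hidx : L.index = p ^ k := by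
      rw [hL, Subgroup.index_comap_of_surjective _ (QuotientGroup.mk'_surjective Z), hk]
    have h1 : orderOf ((g : H ⧸ L)) ∣ p ^ k := by
      rw [← hidx, Subgroup.index]; exact orderOf_dvd_natCard _
    have h2 : orderOf ((g : H ⧸ L)) ∣ orderOf g := orderOf_map_dvd (QuotientGroup.mk' L) g
    exact (QuotientGroup.eq_one_iff g).mp (orderOf_eq_one_iff.mp
      (Nat.eq_one_of_dvd_coprimes ((hg.symm).pow_left k) h1 h2))

variable (p) in
/-- The property required of `K`. -/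
def Good (S : Type u) [Group S] (K : Subgroup S) : Prop :=
  K.Characteristic ∧ Subgroup.centralizer (K : Set S) ≤ K ∧
    ∀ (G : Type u) [Group G] [Finite G] (P : Sylow p G) (φ : S →* G), Function.Injective φ →
      φ.range = (P : Subgroup G) →
      Cfsg.HasNormalPComplement p ↥(Subgroup.normalizer ((K.map φ : Subgroup G) : Set G)) →
      Cfsg.HasNormalPComplement p G

theorem exists_good (hp : p ≠ 2) : ∀ (n : ℕ) (S : Type u) [Group S] [Finite S], Nat.card S = n → IsPGroup p S →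
    ∃ K : Subgroup S, Good p S K := by
  intro n
  induction n using Nat.strong_induction_on with
  | _ n ih =>
  intro S _ _ hn hS
  classical
  rcases subsingleton_or_nontrivial S with hsub | hnt
  · refine ⟨⊤, inferInstance, le_top, fun G _ _ P φ hφ hr _ => Transfer.hasNormalPComplement_of_not_dvd_card fun hd => ?_⟩
    have h1 : (P : Subgroup G) = ⊥ := by
      rw [← hr, MonoidHom.range_eq_bot_iff]
      ext x; rw [Subsingleton.elim x 1, map_one, map_one]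
    have h2 := P.not_dvd_index
    rw [h1, Subgroup.index_bot] at h2
    exact h2 hd
  let W := fun (G : Type u) [Group G] (R : Subgroup G) => Cfsg.centerThompsonAOf R
  have hF : Invol.IsZJFunctor.{u} p W := Invol.isZJFunctor_centerThompsonA
  obtain ⟨Z, hZ⟩ : ∃ Z, Z = W S ⊤ := ⟨_, rfl⟩
  have hZ1 : Z ≠ ⊥ := hZ ▸ hF.ne_bot (hS.to_subgroup ⊤) top_ne_bot
  have hZab : ∀ a ∈ Z, ∀ b ∈ Z, b * a = a * b := fun a ha b hb =>
    (Subgroup.mem_centralizer_iff.mp (hZ ▸ ha : a ∈ W S ⊤).2 b (hZ ▸ hb : b ∈ W S ⊤).1)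
  obtain ⟨S₁, hS₁⟩ : ∃ S₁ : Subgroup S, S₁ = Subgroup.centralizer (Z : Set S) := ⟨_, rfl⟩
  have hZS₁ : Z ≤ S₁ := fun z hz => hS₁ ▸ Subgroup.mem_centralizer_iff.mpr fun b hb => hZab z hz b hb
  have hZc : Z.subgroupOf S₁ ≤ Subgroup.center ↥S₁ := fun z hz => Subgroup.mem_center_iff.mpr fun b =>
    Subtype.ext (Subgroup.mem_centralizer_iff.mp (hS₁ ▸ b.2 : (b : S) ∈ Subgroup.centralizer (Z : Set S)) z hz).symm
  haveI hZn : (Z.subgroupOf S₁).Normal := ⟨fun z hz g => by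
    rw [Subgroup.mem_center_iff.mp (hZc hz) g, mul_inv_cancel_right]; exact hz⟩
  have hlt : Nat.card (↥S₁ ⧸ Z.subgroupOf S₁) < n := by
    have h1 := Subgroup.card_eq_card_quotient_mul_card_subgroup (Z.subgroupOf S₁)
    have h2 : Nat.card S₁ ≤ n := hn ▸ Subgroup.card_le_card_group S₁
    have h3 : 1 < Nat.card (Z.subgroupOf S₁) := by
      rw [Nat.card_congr (Subgroup.subgroupOfEquivOfLe hZS₁).toEquiv]
      exact (Subgroup.one_lt_card_iff_ne_bot Z).mpr hZ1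
    have h4 : 0 < Nat.card (↥S₁ ⧸ Z.subgroupOf S₁) := Nat.card_pos
    calc Nat.card (↥S₁ ⧸ Z.subgroupOf S₁) < Nat.card (↥S₁ ⧸ Z.subgroupOf S₁) * Nat.card (Z.subgroupOf S₁) :=
          lt_mul_of_one_lt_right h4 h3
      _ = Nat.card S₁ := h1.symm
      _ ≤ n := h2
  obtain ⟨Kb, hKbc, hKbcen, hKb⟩ := ih _ hlt (↥S₁ ⧸ Z.subgroupOf S₁) rfl ((hS.to_subgroup S₁).to_quotient _)
  obtain ⟨K, hK⟩ : ∃ K, K = (Kb.comap (QuotientGroup.mk' (Z.subgroupOf S₁))).map S₁.subtype := ⟨_, rfl⟩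
  have hKS₁ : K ≤ S₁ := hK ▸ Subgroup.map_subtype_le _
  have hmemK : ∀ (x : S) (hx : x ∈ S₁), x ∈ K ↔ ((⟨x, hx⟩ : S₁) : ↥S₁ ⧸ Z.subgroupOf S₁) ∈ Kb := by
    intro x hx
    rw [hK]
    constructor
    · rintro ⟨y, hy, e⟩
      obtain rfl : y = ⟨x, hx⟩ := Subtype.ext e
      exact hy
    · exact fun h => ⟨⟨x, hx⟩, h, rfl⟩
  have hZK : Z ≤ K := fun z hz => (hmemK z (hZS₁ hz)).mpr (by
    rw [(QuotientGroup.eq_one_iff _).mpr (show (⟨z, hZS₁ hz⟩ : S₁) ∈ Z.subgroupOf S₁ from hz)]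
    exact one_mem _)
  -- automorphisms
  have hinv : ∀ α : MulAut S, Z.map α.toMonoidHom = Z ∧ S₁.map α.toMonoidHom = S₁ := by
    intro α
    have h1 : Z.map α.toMonoidHom = Z := by
      rw [hZ, hF.map α.toMonoidHom ⊤ (fun x _ h => α.injective (by rw [map_one]; exact h)),
        Subgroup.map_top_of_surjective _ α.surjective]
    refine ⟨h1, ?_⟩
    have h2 : S₁.map α.toMonoidHom ≤ S₁ := by
      rintro _ ⟨x, hx, rfl⟩
      rw [hS₁] at hx ⊢
      refine Subgroup.mem_centralizer_iff.mpr fun z hz => ?_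
      rw [SetLike.mem_coe, ← h1] at hz
      obtain ⟨z', hz', rfl⟩ := hz
      rw [← map_mul, ← map_mul, Subgroup.mem_centralizer_iff.mp hx z' hz']
    exact Subgroup.eq_of_le_of_card_ge h2 (Subgroup.card_map_of_injective α.injective).ge
  have hKα : ∀ α : MulAut S, K.map α.toMonoidHom ≤ K := by
    intro α
    obtain ⟨h1, h2⟩ := hinv α
    rintro _ ⟨x, hx, rfl⟩
    let β : ↥S₁ ≃* ↥S₁ := (α.subgroupMap S₁).trans (MulEquiv.subgroupCongr h2)
    have hβ : (Z.subgroupOf S₁).map β.toMonoidHom = Z.subgroupOf S₁ := by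
      refine Subgroup.eq_of_le_of_card_ge ?_ (Subgroup.card_map_of_injective β.injective).ge
      rintro _ ⟨z, hz, rfl⟩
      exact h1.le ⟨_, hz, rfl⟩
    let γ : (↥S₁ ⧸ Z.subgroupOf S₁) ≃* (↥S₁ ⧸ Z.subgroupOf S₁) := QuotientGroup.congr _ _ β hβ
    have hxS : x ∈ S₁ := hKS₁ hx
    have h3 : γ ((⟨x, hxS⟩ : S₁) : ↥S₁ ⧸ Z.subgroupOf S₁) ∈ Kb :=
      (Subgroup.characteristic_iff_map_eq.mp hKbc γ).le ⟨_, (hmemK x hxS).mp hx, rfl⟩
    exact (hmemK (α x) (h2.le ⟨x, hxS, rfl⟩)).mpr h3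
  refine ⟨K, Subgroup.characteristic_iff_map_le.mpr hKα, fun x hx => ?_, ?_⟩
  · have hxS : x ∈ S₁ := hS₁ ▸ Subgroup.centralizer_le (SetLike.coe_subset_coe.mpr hZK) hx
    refine (hmemK x hxS).mpr (hKbcen (Subgroup.mem_centralizer_iff.mpr fun y hy => ?_))
    obtain ⟨y, rfl⟩ := QuotientGroup.mk'_surjective _ y
    have e : (y : S) * x = x * y := Subgroup.mem_centralizer_iff.mp hx y ((hmemK y y.2).mpr hy)
    exact congrArg (QuotientGroup.mk' (Z.subgroupOf S₁)) (Subtype.ext e : y * ⟨x, hxS⟩ = ⟨x, hxS⟩ * y)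
  intro G _ _ P φ hφ hr hnpc
  obtain ⟨ZG, hZG⟩ : ∃ ZG, ZG = W G (P : Subgroup G) := ⟨_, rfl⟩
  have hmapZ : Z.map φ = ZG := by
    rw [hZ, hF.map φ ⊤ (fun x _ h => hφ (by rw [map_one]; exact h)), ← MonoidHom.range_eq_map, hr, hZG]
  refine Invol.npc_of_stronglyClosed hp hF G P _ ⟨le_rfl, fun _ _ _ h => h⟩ ?_
  rw [← hZG]
  obtain ⟨NZ, hNZ⟩ : ∃ NZ, NZ = Subgroup.normalizer (ZG : Set G) := ⟨_, rfl⟩
  rw [← hNZ]
  have hPNZ : (P : Subgroup G) ≤ NZ :=
    hNZ ▸ hZG ▸ Subgroup.le_normalizer.trans (hF.normalizer_le _)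
  obtain ⟨C, hC⟩ : ∃ C, C = Subgroup.centralizer (ZG : Set G) := ⟨_, rfl⟩
  have hCNZ : C ≤ NZ := hC ▸ hNZ ▸ Subgroup.centralizer_le_normalizer _
  have hCn : ∀ g ∈ NZ, ∀ c ∈ C, g * c * g⁻¹ ∈ C := by
    intro g hg c hc
    rw [hNZ] at hg
    rw [hC] at hc ⊢
    exact (Subgroup.mem_normalizer_iff.mp (Fus.mem_normalizer_centralizer hg) c).mp hc
  obtain ⟨SG, hSG⟩ : ∃ SG, SG = S₁.map φ := ⟨_, rfl⟩
  have hSGP : SG = (P : Subgroup G) ⊓ C := by
    refine le_antisymm ?_ ?_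
    · rw [hSG]
      rintro _ ⟨x, hx, rfl⟩
      rw [hS₁] at hx
      refine ⟨hr ▸ ⟨x, rfl⟩, ?_⟩
      rw [SetLike.mem_coe, hC, ← hmapZ]
      refine Subgroup.mem_centralizer_iff.mpr ?_
      rintro _ ⟨z, hz, rfl⟩
      rw [← map_mul, ← map_mul, Subgroup.mem_centralizer_iff.mp hx z hz]
    · rintro g ⟨hg, hgC⟩
      rw [← hr] at hg
      obtain ⟨x, rfl⟩ := hg
      rw [hSG]
      refine ⟨x, ?_, rfl⟩
      rw [SetLike.mem_coe, hS₁]
      refine Subgroup.mem_centralizer_iff.mpr fun z hz => hφ ?_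
      rw [map_mul, map_mul]
      exact Subgroup.mem_centralizer_iff.mp (hC ▸ hgC) _ (hmapZ ▸ ⟨z, hz, rfl⟩)
  have hSGC : SG ≤ C := hSGP ▸ inf_le_right
  have hSGs : Fus.IsSylowOf p SG C := by
    refine Fus.IsSylowOf.of_card_le hSGC (P.2.to_le (hSGP ▸ inf_le_left)) fun X hX hXp hle => ?_
    have hsy : Fus.IsSylowOf p (P : Subgroup G) NZ := ⟨hPNZ, P.subtype hPNZ, rfl⟩
    obtain ⟨y, hy, hyle⟩ := hsy.exists_conj_le hXp (hX.trans hCNZ)
    refine (Subgroup.eq_of_le_of_card_ge hle ?_).ge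
    rw [← Fus.card_conjMap X y]
    refine Subgroup.card_le_of_le ?_
    rw [hSGP]
    rintro _ ⟨x, hx, rfl⟩
    exact ⟨hyle ⟨x, hx, rfl⟩, hCn y hy x (hX hx)⟩
  obtain ⟨KG, hKG⟩ : ∃ KG, KG = K.map φ := ⟨_, rfl⟩
  rw [← hKG] at hnpc
  -- `C` has a normal `p`-complement
  let Zc := ZG.subgroupOf C
  have hZGC : ZG ≤ C := by rw [← hmapZ]; exact (Subgroup.map_mono hZS₁).trans (hSG ▸ hSGC)
  have hZcc : Zc ≤ Subgroup.center ↥C := fun z hz => Subgroup.mem_center_iff.mpr fun b =>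
    Subtype.ext (Subgroup.mem_centralizer_iff.mp (hC ▸ b.2 : (b : G) ∈ Subgroup.centralizer (ZG : Set G)) z hz).symm
  haveI hZcn : Zc.Normal := ⟨fun z hz g => by
    rw [Subgroup.mem_center_iff.mp (hZcc hz) g, mul_inv_cancel_right]; exact hz⟩
  let φ₁ : ↥S₁ →* ↥C := (φ.comp S₁.subtype).codRestrict C fun x => hSGC (hSG ▸ ⟨x, x.2, rfl⟩)
  have hker : Z.subgroupOf S₁ ≤ Zc.comap φ₁ := fun z hz => hmapZ.le ⟨_, hz, rfl⟩
  let φb : (↥S₁ ⧸ Z.subgroupOf S₁) →* (↥C ⧸ Zc) := QuotientGroup.map _ _ φ₁ hker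
  have hφb : Function.Injective φb := by
    rw [injective_iff_map_eq_one]
    intro q hq
    obtain ⟨x, rfl⟩ := QuotientGroup.mk'_surjective _ q
    refine (QuotientGroup.eq_one_iff x).mpr ?_
    have h1 : φ₁ x ∈ Zc := (QuotientGroup.eq_one_iff _).mp hq
    have h2 : φ x ∈ Z.map φ := hmapZ.symm ▸ (h1 : ((φ₁ x : C) : G) ∈ ZG)
    obtain ⟨z, hz, e⟩ := h2
    show (x : S) ∈ Z
    rw [← hφ e]; exact hz
  obtain ⟨-, R, hR⟩ := hSGs
  let Rb : Sylow p (↥C ⧸ Zc) := R.mapSurjective (QuotientGroup.mk'_surjective Zc)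
  have hrb : φb.range = (Rb : Subgroup (↥C ⧸ Zc)) := by
    rw [Sylow.coe_mapSurjective, hR]
    ext q
    constructor
    · rintro ⟨y, rfl⟩
      obtain ⟨x, rfl⟩ := QuotientGroup.mk'_surjective _ y
      exact ⟨φ₁ x, hSG ▸ ⟨x, x.2, rfl⟩, rfl⟩
    · rintro ⟨c, hc, rfl⟩
      obtain ⟨x, hx, e⟩ := (hSG ▸ hc : (c : G) ∈ S₁.map φ)
      exact ⟨((⟨x, hx⟩ : S₁) : ↥S₁ ⧸ Z.subgroupOf S₁), congrArg (QuotientGroup.mk' Zc) (Subtype.ext e : φ₁ ⟨x, hx⟩ = c)⟩
  have hCnpc : Cfsg.HasNormalPComplement p ↥C := by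
    refine npc_central Zc hZcc ((P.2.to_le ?_).comap_subtype) ?_
    · rw [hZG]; exact hF.le _
    refine hKb (↥C ⧸ Zc) Rb φb hφb hrb ?_
    let M₀ := (Subgroup.normalizer (KG : Set G)).subgroupOf C
    have hM₀ : Cfsg.HasNormalPComplement p ↥M₀ := by
      refine Transfer.hasNormalPComplement_of_injective
        ((C.subtype.comp M₀.subtype).codRestrict (Subgroup.normalizer (KG : Set G)) fun m => m.2) ?_ hnpc
      exact fun a b h => Subtype.ext (Subtype.ext (congrArg Subtype.val h :))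
    refine Transfer.hasNormalPComplement_mono (K := M₀.map (QuotientGroup.mk' Zc)) ?_
      (Transfer.hasNormalPComplement_of_surjective _ (MonoidHom.subgroupMap_surjective (QuotientGroup.mk' Zc) M₀) hM₀)
    intro q hq
    obtain ⟨c, rfl⟩ := QuotientGroup.mk'_surjective Zc q
    refine ⟨c, ?_, rfl⟩
    show (c : G) ∈ Subgroup.normalizer (KG : Set G)
    haveI := Fintype.ofFinite G
    refine Subgroup.mem_normalizer_fintype fun y hy => ?_
    rw [SetLike.mem_coe, hKG] at hy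
    obtain ⟨k, hk, rfl⟩ := hy
    have hk₁ := hKS₁ hk
    obtain ⟨q', hq', e⟩ := (Subgroup.mem_normalizer_iff.mp hq _).mp
      ⟨_, (hmemK k hk₁).mp hk, rfl⟩
    obtain ⟨k', rfl⟩ := QuotientGroup.mk'_surjective _ q'
    have e' : (φ₁ k')⁻¹ * (c * φ₁ ⟨k, hk₁⟩ * c⁻¹) ∈ Zc :=
      QuotientGroup.eq.mp (show ((φ₁ k' : C) : ↥C ⧸ Zc) = ((c * φ₁ ⟨k, hk₁⟩ * c⁻¹ : C) : ↥C ⧸ Zc) from e)
    rw [Subgroup.mem_subgroupOf] at e'
    rw [hKG]
    have h2 : φ ↑k' * ((φ ↑k')⁻¹ * ((c : G) * φ k * (c : G)⁻¹)) ∈ K.map φ := by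
      refine mul_mem ⟨_, (hmemK k' k'.2).mpr hq', rfl⟩ ?_
      exact Subgroup.map_mono hZK (hmapZ.symm ▸ e' : _ ∈ Z.map φ)
    rwa [mul_inv_cancel_left] at h2
  -- the normalizer of `ZG`
  haveI : Fintype G := Fintype.ofFinite G
  haveI hCsn : (C.subgroupOf NZ).Normal := ⟨fun c hc g => hCn g g.2 c hc⟩
  have hC' : Cfsg.HasNormalPComplement p ↥(C.subgroupOf NZ) :=
    (Transfer.hasNormalPComplement_congr (Subgroup.subgroupOfEquivOfLe hCNZ)).mpr hCnpc
  obtain ⟨D₀, hD₀⟩ : ∃ D₀, D₀ = Cfsg.pResidual p ↥(C.subgroupOf NZ) := ⟨_, rfl⟩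
  obtain ⟨D, hD⟩ : ∃ D, D = D₀.map (C.subgroupOf NZ).subtype := ⟨_, rfl⟩
  haveI hDn : D.Normal := by
    haveI : D₀.Characteristic := hD₀ ▸ Transfer.pResidual_characteristic p _
    rw [hD]; infer_instance
  have hDp : ¬ p ∣ Nat.card D := by
    rw [hD, Subgroup.card_map_of_injective (C.subgroupOf NZ).subtype_injective, hD₀]
    exact Transfer.hasNormalPComplement_iff_not_dvd.mp hC'
  refine Transfer.hasNormalPComplement_of_quotient D hDp ?_
  let M := (Subgroup.normalizer (KG : Set G)).subgroupOf NZ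
  have hM : Cfsg.HasNormalPComplement p ↥M := by
    refine Transfer.hasNormalPComplement_of_injective
      ((NZ.subtype.comp M.subtype).codRestrict (Subgroup.normalizer (KG : Set G)) fun m => m.2) ?_ hnpc
    exact fun a b h => Subtype.ext (Subtype.ext (congrArg Subtype.val h :))
  refine Transfer.hasNormalPComplement_of_surjective ((QuotientGroup.mk' D).comp M.subtype) ?_ hM
  -- `NZ = D M`
  have hSGsub : Fus.IsSylowOf p (SG.subgroupOf NZ) (C.subgroupOf NZ) := by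
    refine Fus.IsSylowOf.of_card_le (fun x hx => hSGC hx)
      ((P.2.to_le (hSGP ▸ inf_le_left)).comap_subtype) fun X hX hXp hle x hx => ?_
    have hmax : SG ≤ X.map NZ.subtype := fun s hs =>
      ⟨⟨s, hCNZ (hSGC hs)⟩, hle (show (⟨s, hCNZ (hSGC hs)⟩ : NZ) ∈ SG.subgroupOf NZ from hs), rfl⟩
    have hXC : X.map NZ.subtype ≤ C := by rintro _ ⟨y, hy, rfl⟩; exact hX hy
    have hs : Fus.IsSylowOf p SG C := ⟨hSGC, R, hR⟩
    exact (Subgroup.eq_of_le_of_card_ge hmax (hs.card_le (hXp.map _) hXC)).ge ⟨x, hx, rfl⟩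
  have hSGK : Subgroup.normalizer (SG : Set G) ⊓ NZ ≤ Subgroup.normalizer (KG : Set G) := by
    rintro g ⟨hg, hgZ⟩
    refine Subgroup.mem_normalizer_fintype fun y hy => ?_
    rw [SetLike.mem_coe, hKG] at hy
    obtain ⟨k, hk, rfl⟩ := hy
    -- conjugation by `g` induces an automorphism of `S₁` fixing `Z`
    have hmem : ∀ x : S₁, g * φ x * g⁻¹ ∈ S₁.map φ := fun x => by
      rw [← hSG]
      exact (Subgroup.mem_normalizer_iff.mp hg _).mp (hSG ▸ ⟨x, x.2, rfl⟩)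
    choose f hf hfe using hmem
    let β₀ : ↥S₁ →* ↥S₁ := MonoidHom.mk' (fun x => ⟨f x, hf x⟩) fun a b => by
      refine Subtype.ext (hφ ?_)
      show φ (f (a * b)) = φ (f a * f b)
      rw [map_mul, hfe, hfe, hfe, Subgroup.coe_mul, map_mul]
      group
    have hβi : Function.Injective β₀ := fun a b h => by
      have h' : φ (f a) = φ (f b) := congrArg φ (congrArg Subtype.val h)
      rw [hfe, hfe] at h'
      exact Subtype.ext (hφ (mul_left_cancel (mul_right_cancel h')))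
    let β : ↥S₁ ≃* ↥S₁ := MulEquiv.ofBijective β₀ (Finite.injective_iff_bijective.mp hβi)
    have hβ : (Z.subgroupOf S₁).map β.toMonoidHom = Z.subgroupOf S₁ := by
      refine Subgroup.eq_of_le_of_card_ge ?_ (Subgroup.card_map_of_injective β.injective).ge
      rintro _ ⟨z, hz, rfl⟩
      show f z ∈ Z
      have h1 : φ (f z) ∈ Z.map φ := by
        rw [hfe, hmapZ]
        exact (Subgroup.mem_normalizer_iff.mp (hNZ ▸ hgZ) _).mp (hmapZ ▸ ⟨_, hz, rfl⟩)
      obtain ⟨z', hz', e⟩ := h1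
      rw [← hφ e]; exact hz'
    let γ : (↥S₁ ⧸ Z.subgroupOf S₁) ≃* (↥S₁ ⧸ Z.subgroupOf S₁) := QuotientGroup.congr _ _ β hβ
    have hk₁ := hKS₁ hk
    have h3 : γ ((⟨k, hk₁⟩ : S₁) : ↥S₁ ⧸ Z.subgroupOf S₁) ∈ Kb :=
      (Subgroup.characteristic_iff_map_eq.mp hKbc γ).le ⟨_, (hmemK k hk₁).mp hk, rfl⟩
    rw [hKG]
    exact ⟨f ⟨k, hk₁⟩, (hmemK _ (hf ⟨k, hk₁⟩)).mpr h3, hfe ⟨k, hk₁⟩⟩
  intro q
  obtain ⟨x, rfl⟩ := QuotientGroup.mk'_surjective D q
  obtain ⟨-, R', hR'⟩ := hSGsub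
  have h1 := Sylow.normalizer_sup_eq_top R'
  rw [hR', Subgroup.map_subgroupOf_eq_of_le (fun y hy => hSGC hy : SG.subgroupOf NZ ≤ C.subgroupOf NZ)] at h1
  have h2 : x ∈ ((Subgroup.normalizer ((SG.subgroupOf NZ : Subgroup ↥NZ) : Set ↥NZ) ⊔ C.subgroupOf NZ : Subgroup ↥NZ) : Set ↥NZ) := by
    rw [h1]; exact Subgroup.mem_top x
  rw [Subgroup.mul_normal] at h2
  obtain ⟨m, hm, c, hc, rfl⟩ := h2
  have hmM : (m : G) ∈ Subgroup.normalizer (KG : Set G) := by
    refine hSGK ⟨Subgroup.mem_normalizer_fintype fun s hs => ?_, m.2⟩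
    exact (Subgroup.mem_normalizer_iff.mp hm ⟨s, hCNZ (hSGC hs)⟩).mp hs
  -- write `c` as a product
  haveI : D₀.Normal := by
    haveI : D₀.Characteristic := hD₀ ▸ Transfer.pResidual_characteristic p _
    infer_instance
  obtain ⟨kk, hkk⟩ := Transfer.exists_pResidual_index (G := ↥(C.subgroupOf NZ)) p
  have hcompl := Transfer.isComplement'_sylow R' (hD₀ ▸ Transfer.hasNormalPComplement_iff_not_dvd.mp hC' : ¬ p ∣ Nat.card D₀)
    (by rw [hD₀]; exact hkk)
  have hx : (⟨c, hc⟩ : ↥(C.subgroupOf NZ)) ∈ ((D₀ ⊔ (R' : Subgroup _) : Subgroup _) : Set _) := by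
    rw [hcompl.sup_eq_top]; exact Subgroup.mem_top _
  rw [Subgroup.normal_mul] at hx
  obtain ⟨d, hd, s, hs, e⟩ := hx
  rw [hR'] at hs
  have hsM : ((s : NZ) : G) ∈ Subgroup.normalizer (KG : Set G) :=
    hSGK ⟨Subgroup.le_normalizer hs, (s : NZ).2⟩
  refine ⟨⟨m * s, Subgroup.mul_mem _ hmM hsM⟩, ?_⟩
  show QuotientGroup.mk' D (m * s) = QuotientGroup.mk' D (m * c)
  have e' : c = (d : NZ) * s := (congrArg Subtype.val e).symm
  rw [e', map_mul, map_mul, map_mul, show QuotientGroup.mk' D (d : NZ) = 1 from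
    (QuotientGroup.eq_one_iff _).mpr (hD ▸ ⟨d, hd, rfl⟩), one_mul]

/-- For an odd prime p, every finite p-group S has a characteristic subgroup K with C_S(K) ≤ K such that, whenever S is (isomorphic to) a Sylow p-subgroup of a finite group G, G has a normal p-complement if and only if N_G(K)/C_G(K) is a p-group, i.e. every element of N_G(K) of order prime to p centralizes K (K transported into G along the isomorphism). -/
theorem result (p : ℕ) [Fact p.Prime] (hp : p ≠ 2)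
    (S : Type u) [Group S] [Finite S] (hS : IsPGroup p S) :
    ∃ K : Subgroup S, K.Characteristic ∧ Subgroup.centralizer (K : Set S) ≤ K ∧
      ∀ (G : Type u) [Group G] [Finite G] (P : Sylow p G) (e : ↥(P : Subgroup G) ≃* S),
        Cfsg.HasNormalPComplement p G ↔
          ∀ g ∈ Subgroup.normalizer (((K.comap (e : ↥(P : Subgroup G) →* S)).map (P : Subgroup G).subtype : Subgroup G) : Set G),
            (orderOf g).Coprime p →
              g ∈ Subgroup.centralizer (((K.comap (e : ↥(P : Subgroup G) →* S)).map (P : Subgroup G).subtype : Subgroup G) : Set G) := by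
  classical
  obtain ⟨K, hchar, hcen, hK⟩ := exists_good (p := p) hp _ S rfl hS
  refine ⟨K, hchar, hcen, fun G _ _ P e => ?_⟩
  haveI := hchar
  haveI : Fintype G := Fintype.ofFinite G
  obtain ⟨KG, hKG⟩ : ∃ KG : Subgroup G,
      KG = (K.comap (e : ↥(P : Subgroup G) →* S)).map (P : Subgroup G).subtype := ⟨_, rfl⟩
  rw [← hKG]
  let φ : S →* G := (P : Subgroup G).subtype.comp e.symm.toMonoidHom
  have hφ : Function.Injective φ := (Subgroup.subtype_injective _).comp e.symm.injective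
  have hr : φ.range = (P : Subgroup G) := by
    rw [MonoidHom.range_comp, MonoidHom.range_eq_top.mpr e.symm.surjective, ← MonoidHom.range_eq_map,
      Subgroup.range_subtype]
  have hKφ : K.map φ = KG := by
    rw [hKG, Subgroup.comap_equiv_eq_map_symm, ← Subgroup.map_map]; rfl
  have hKP : KG ≤ (P : Subgroup G) := hKG ▸ Subgroup.map_subtype_le _
  obtain ⟨NK, hNK⟩ : ∃ NK, NK = Subgroup.normalizer (KG : Set G) := ⟨_, rfl⟩
  have hPN : (P : Subgroup G) ≤ NK := by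
    rw [hNK, ← hr]
    rintro _ ⟨s, rfl⟩
    refine Subgroup.mem_normalizer_fintype fun y hy => ?_
    rw [SetLike.mem_coe, ← hKφ] at hy
    obtain ⟨k, hk, rfl⟩ := hy
    rw [← map_inv, ← map_mul, ← map_mul, ← hKφ]
    exact ⟨_, (Subgroup.normal_of_characteristic K).conj_mem k hk s, rfl⟩
  constructor
  · intro h g hg hgo
    have h' := Transfer.hasNormalPComplement_subgroup NK h
    refine Subgroup.mem_centralizer_iff.mpr fun k hk => ?_
    obtain ⟨R, hR⟩ : ∃ R : Sylow p ↥NK, (R : Subgroup ↥NK) = (P : Subgroup G).subgroupOf NK :=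
      ⟨P.subtype hPN, rfl⟩
    have hgR : (⟨g, hNK ▸ hg⟩ : NK) ∈ Cfsg.pResidual p ↥NK :=
      (Transfer.mem_pResidual_iff h').mpr (by rwa [Subgroup.orderOf_mk])
    have hkN : k ∈ NK := hPN (hKP hk)
    haveI : (Cfsg.pResidual p ↥NK).Characteristic := Transfer.pResidual_characteristic p _
    obtain ⟨gg, hgg⟩ : ∃ gg : NK, gg = ⟨g, hNK ▸ hg⟩ := ⟨_, rfl⟩
    obtain ⟨kk, hkk⟩ : ∃ kk : NK, kk = ⟨k, hkN⟩ := ⟨_, rfl⟩
    rw [← hgg] at hgR
    have h1 : gg * kk * gg⁻¹ * kk⁻¹ ∈ Cfsg.pResidual p ↥NK := by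
      rw [show gg * kk * gg⁻¹ * kk⁻¹ = gg * (kk * gg⁻¹ * kk⁻¹) by group]
      exact mul_mem hgR ((Subgroup.normal_of_characteristic _).conj_mem _ (inv_mem hgR) _)
    have h2 : gg * kk * gg⁻¹ * kk⁻¹ ∈ (R : Subgroup ↥NK) := by
      rw [hR, Subgroup.mem_subgroupOf, hgg, hkk]
      exact hKP (Subgroup.mul_mem _ ((Subgroup.mem_normalizer_iff.mp hg k).mp hk) (Subgroup.inv_mem _ hk))
    have h3 := (Transfer.pResidual_inf_sylow_eq_bot R h').le (Subgroup.mem_inf.mpr ⟨h1, h2⟩)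
    rw [Subgroup.mem_bot, mul_inv_eq_one, mul_inv_eq_iff_eq_mul, hgg, hkk] at h3
    exact (congrArg Subtype.val h3).symm
  intro h
  refine hK G P φ hφ hr ?_
  rw [hKφ, ← hNK]
  rw [← hNK] at h
  obtain ⟨C, hC⟩ : ∃ C : Subgroup ↥NK, C = (Subgroup.centralizer (KG : Set G)).subgroupOf NK := ⟨_, rfl⟩
  haveI hCn : C.Normal := by
    refine ⟨fun c hc x => ?_⟩
    rw [hC, Subgroup.mem_subgroupOf] at hc ⊢
    exact (Subgroup.mem_normalizer_iff.mp
      (Fus.mem_normalizer_centralizer (hNK ▸ x.2 : (x : G) ∈ Subgroup.normalizer (KG : Set G))) c).mp hc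
  refine npc_of_normal C ?_ fun g hg => ?_
  · let R : Sylow p ↥NK := P.subtype hPN
    have hRi : ¬ p ∣ ((R : Subgroup ↥NK).subgroupOf C).index :=
      Grp.sylow_inf_normal_relIndex R C
    let RC : Sylow p ↥C := (R.2.comap_subtype (K := C)).toSylow hRi
    refine Transfer.hasNormalPComplement_of_control RC fun x hx y _ ⟨g, hg⟩ => ⟨1, one_mem _, ?_⟩
    have hxP : ((x : NK) : G) ∈ (P : Subgroup G) := hx
    have hxK : ((x : NK) : G) ∈ KG := by
      rw [← hr] at hxP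
      obtain ⟨s, hs⟩ := hxP
      rw [← hs, ← hKφ]
      refine ⟨s, hcen (Subgroup.mem_centralizer_iff.mpr fun k hk => hφ ?_), rfl⟩
      rw [map_mul, map_mul, hs]
      exact Subgroup.mem_centralizer_iff.mp (hC ▸ x.2 : (x : NK) ∈ (Subgroup.centralizer (KG : Set G)).subgroupOf NK) _
        (hKφ ▸ ⟨k, hk, rfl⟩)
    have hgc : g * x = x * g := Subtype.ext (Subtype.ext
      (Subgroup.mem_centralizer_iff.mp (hC ▸ g.2 : (g : NK) ∈ (Subgroup.centralizer (KG : Set G)).subgroupOf NK) _ hxK).symm)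
    rw [← hg, hgc, mul_inv_cancel_right, one_mul, inv_one, mul_one]
  · rw [hC, Subgroup.mem_subgroupOf]
    exact h g g.2 (by rwa [Subgroup.orderOf_coe])

end Cfsg.Agent.S3073
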