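import Cfsg.Prelude
import Cfsg.Agent.Lib.Invol.QdSylowFacts
-- import your own Cfsg.Agent.* helpers here

set_option autoImplicit false
open Cfsg

open scoped Pointwise commutatorElement

namespace Cfsg.Agent.S3074

/-- Let p be an odd prime. A Sylow p-subgroup of Qd(p), the split extension of an elementary abelian group of order p² by SL₂(p) acting naturally, is extraspecial of order p³ and exponent p. -/
theorem result (p : ℕ) [Fact p.Prime] (hp : p ≠ 2) (P : Sylow p ↥(Cfsg.qd p)) :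
    Cfsg.IsExtraspecial p ↥P ∧ Nat.card P = p ^ 3 ∧ Monoid.exponent ↥P = p := by
  obtain ⟨S, hS⟩ := Invol.QdFusion.qdT_sylow (p := p)
  let e : ↥(P : Subgroup ↥(Cfsg.qd p)) ≃* ↥(Invol.QdFusion.qdT p) :=
    (P.equiv S).trans (MulEquiv.subgroupCongr hS)
  have hc : Nat.card ↥(P : Subgroup ↥(Cfsg.qd p)) = p ^ 3 := by
    rw [Nat.card_congr e.toEquiv, Invol.QdSyl.card_qdT]
  refine ⟨Fus.extraspecial_of_cube hc (fun h => Invol.QdSyl.not_comm
    ⟨⟨fun a b => e.symm.injective (by rw [map_mul, map_mul, h.is_comm.comm])⟩⟩), ?_, ?_⟩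
  · exact hc
  · show Monoid.exponent ↥(P : Subgroup ↥(Cfsg.qd p)) = p
    rw [Monoid.exponent_eq_of_mulEquiv e, Invol.QdSyl.exponent_qdT hp]

end Cfsg.Agent.S3074
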