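import Cfsg.Statements.S3075
import Mathlib
import Cfsg.Agent.Lib.Invol.Basic
-- import your own Cfsg.Agent.* helpers here

set_option autoImplicit false
open Cfsg

namespace Cfsg.Agent.S3075

/-- Let p be an odd prime and N a finite group with a normal elementary abelian subgroup A of order p² that is its own centralizer in N, such that N/A is isomorphic to SL₂(p) (over any field F with p elements). Then N splits over A: some subgroup U of N satisfies A ∩ U = 1 and AU = N. -/
theorem result {N : Type*} [Group N] [Finite N] {p : ℕ} [Fact p.Prime] (hp : p ≠ 2)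
    (A : Subgroup N) [A.Normal] (hAcomm : IsMulCommutative A) (hAcard : Nat.card A = p ^ 2) (hAexp : Monoid.exponent ↥A = p)
    (hAself : Subgroup.centralizer (A : Set N) = A)
    {F : Type*} [Field F] [Fintype F] (hF : Fintype.card F = p) (e : N ⧸ A ≃* Matrix.SpecialLinearGroup (Fin 2) F) :
    ∃ U : Subgroup N, A ⊓ U = ⊥ ∧ A ⊔ U = ⊤ := by
  classical
  have hpr : p.Prime := Fact.out
  have hp3 : 2 < p := lt_of_le_of_ne hpr.two_le (Ne.symm hp)
  have hApow : ∀ a ∈ A, a ^ p = 1 := by
    intro a ha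
    have := Monoid.pow_exponent_eq_one (⟨a, ha⟩ : A)
    rw [hAexp] at this
    exact congrArg Subtype.val this
  have hchar : (1 : F) ≠ -1 := by
    intro h
    have h2 : ((2 : ℕ) : F) = 0 := by push_cast; linear_combination h
    have hcp : ((p : ℕ) : F) = 0 := by rw [← hF]; exact Nat.cast_card_eq_zero F
    obtain ⟨c, hc⟩ : ∃ c, p = 2 * c + 1 := hpr.odd_of_ne_two hp
    rw [hc] at hcp
    push_cast at hcp h2
    rw [h2, zero_mul, zero_add] at hcp
    exact one_ne_zero hcp
  set z : Matrix.SpecialLinearGroup (Fin 2) F := -1 with hz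
  have hz1 : z ≠ 1 := by
    intro h
    have h00 := congrArg (fun M : Matrix.SpecialLinearGroup (Fin 2) F => M.1 0 0) h
    simp [hz] at h00
    exact hchar h00.symm
  have hzz : z * z = 1 := by rw [hz, neg_mul_neg, one_mul]
  have hzc : ∀ g, g * z = z * g := by
    intro g; rw [hz, mul_neg, neg_mul, one_mul, mul_one]
  obtain ⟨m, hm⟩ := QuotientGroup.mk'_surjective A (e.symm z)
  set t := m ^ p with ht
  have htimg : QuotientGroup.mk' A t = e.symm z := by
    rw [ht, map_pow, hm, ← map_pow]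
    obtain ⟨c, hc⟩ := hpr.odd_of_ne_two hp
    rw [hc, pow_succ, pow_mul, sq, hzz, one_pow, one_mul]
  have htt : t * t = 1 := by
    have hmm : m * m ∈ A := by
      rw [← QuotientGroup.eq_one_iff, QuotientGroup.mk_mul]
      change QuotientGroup.mk' A m * QuotientGroup.mk' A m = 1
      rw [hm, ← map_mul, hzz, map_one]
    rw [ht, ← (Commute.refl m).mul_pow]
    exact hApow _ hmm
  have htinv : t⁻¹ = t := inv_eq_of_mul_eq_one_right htt
  have htnA : t ∉ A := by
    intro h
    apply hz1
    have : e.symm z = 1 := by rw [← htimg]; exact (QuotientGroup.eq_one_iff t).mpr h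
    simpa using congrArg e this
  -- `t` is central modulo `A`
  have htc : ∀ g : N, g * t * g⁻¹ * t⁻¹ ∈ A := by
    intro g
    rw [← QuotientGroup.eq_one_iff]
    change QuotientGroup.mk' A (g * t * g⁻¹ * t⁻¹) = 1
    rw [map_mul, map_mul, map_mul, map_inv, map_inv, htimg]
    apply e.injective
    rw [map_mul, map_mul, map_mul, map_inv, map_inv, e.apply_symm_apply, map_one, hzc,
      mul_inv_cancel_right, mul_inv_cancel]
  have hAc : ∀ a ∈ A, ∀ b ∈ A, Commute a b :=
    fun a ha b hb => congrArg Subtype.val (hAcomm.is_comm.comm ⟨a, ha⟩ ⟨b, hb⟩)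
  have hAn : ∀ g : N, ∀ a ∈ A, g * a * g⁻¹ ∈ A := fun g a ha => Subgroup.Normal.conj_mem inferInstance a ha g
  have hconjt : ∀ g : N, ∀ a ∈ A, t * (g * a * g⁻¹) * t⁻¹ = g * (t * a * t⁻¹) * g⁻¹ := by
    intro g a ha
    set c := g * t * g⁻¹ * t⁻¹ with hc
    have h1 : Commute c (t * (g * a * g⁻¹) * t⁻¹) := hAc _ (htc g) _ (hAn t _ (hAn g a ha))
    calc t * (g * a * g⁻¹) * t⁻¹ = c * (t * (g * a * g⁻¹) * t⁻¹) * c⁻¹ := by rw [h1.eq, mul_inv_cancel_right]
      _ = g * (t * a * t⁻¹) * g⁻¹ := by rw [hc]; group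
  -- the elements fixed, resp. inverted, by `t`
  let L : Subgroup N := A ⊓ Subgroup.centralizer ({t} : Set N)
  let M : Subgroup N :=
    { carrier := {a | a ∈ A ∧ t * a * t⁻¹ = a⁻¹}
      one_mem' := ⟨one_mem A, by group⟩
      mul_mem' := by
        rintro a b ⟨ha, ha'⟩ ⟨hb, hb'⟩
        refine ⟨mul_mem ha hb, ?_⟩
        rw [← conj_mul, ha', hb', mul_inv_rev, ((hAc a ha b hb).inv_inv).eq]
      inv_mem' := by
        rintro a ⟨ha, ha'⟩
        exact ⟨inv_mem ha, by rw [← conj_inv, ha']⟩ }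
  have hLM : ∀ a, a ∈ L → a ∈ M → a = 1 := by
    rintro a haL ⟨-, hainv⟩
    obtain ⟨haA, hat⟩ := Subgroup.mem_inf.mp haL
    rw [Subgroup.mem_centralizer_singleton_iff] at hat
    rw [← hat, mul_inv_cancel_right] at hainv
    have h2 : a ^ 2 = 1 := by rw [sq]; exact mul_eq_one_iff_eq_inv.mpr hainv
    exact orderOf_eq_one_iff.mp (Nat.eq_one_of_dvd_coprimes
      ((Nat.coprime_primes hpr Nat.prime_two).mpr hp) (orderOf_dvd_of_pow_eq_one (hApow a haA))
      (orderOf_dvd_of_pow_eq_one h2))
  -- `t` inverts `A`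
  have hinvA : ∀ a ∈ A, t * a * t⁻¹ = a⁻¹ := by
    have hLbot : L = ⊥ := by
      by_contra hL
      have hMne : M ≠ ⊥ := by
        intro hMb
        apply htnA
        have : t ∈ Subgroup.centralizer (A : Set N) := by
          rw [Subgroup.mem_centralizer_iff]
          intro a ha
          have hb : a * (t * a⁻¹ * t⁻¹) ∈ M := by
            refine ⟨mul_mem ha (hAn t _ (inv_mem ha)), ?_⟩
            have e1 : t * (t * a⁻¹ * t⁻¹) * t⁻¹ = a⁻¹ := by
              simp [htinv, mul_assoc, htt, ← mul_assoc t t]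
            calc t * (a * (t * a⁻¹ * t⁻¹)) * t⁻¹
                = t * a * t⁻¹ * (t * (t * a⁻¹ * t⁻¹) * t⁻¹) := by group
              _ = t * a * t⁻¹ * a⁻¹ := by rw [e1]
              _ = (a * (t * a⁻¹ * t⁻¹))⁻¹ := by group
          rw [hMb, Subgroup.mem_bot] at hb
          calc a * t = a * (t * a⁻¹ * t⁻¹) * (t * a) := by group
            _ = t * a := by rw [hb, one_mul]
        rwa [hAself] at this
      have hcyc : ∀ K : Subgroup N, K ≤ A → K ≠ ⊥ → ∀ K' : Subgroup N, K' ≤ A → K' ≠ ⊥ →
          (∀ a, a ∈ K → a ∈ K' → a = 1) → Nat.card K = p ∧ K ⊔ K' = A := by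
        intro K hKA hK K' hK'A hK' hdis
        have hdiv : ∀ S : Subgroup N, S ≤ A → S ≠ ⊥ → Nat.card S = p ∨ Nat.card S = p ^ 2 := by
          intro S hS hSne
          obtain ⟨i, hi, hSi⟩ := (Nat.dvd_prime_pow hpr).mp (hAcard ▸ Subgroup.card_dvd_of_le hS)
          interval_cases i
          · exact absurd (Subgroup.card_eq_one.mp (by simpa using hSi)) hSne
          · exact Or.inl (by simpa using hSi)
          · exact Or.inr hSi
        have hKp : ∀ (S S' : Subgroup N), S ≤ A → S' ≤ A → S' ≠ ⊥ → S ≠ ⊥ →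
            (∀ a, a ∈ S → a ∈ S' → a = 1) → Nat.card S = p := by
          intro S S' hS hS' hS'ne hSne hd
          refine (hdiv S hS hSne).resolve_right fun h => hS'ne ?_
          have hSA : S = A := Subgroup.eq_of_le_of_card_ge hS (by rw [h, hAcard])
          rw [eq_bot_iff]
          exact fun a ha => hd a (hSA ▸ hS' ha) ha
        have h1 := hKp K K' hKA hK'A hK' hK hdis
        refine ⟨h1, ?_⟩
        obtain ⟨i, hi, hSi⟩ := (Nat.dvd_prime_pow hpr).mp
          (hAcard ▸ Subgroup.card_dvd_of_le (sup_le hKA hK'A))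
        refine Subgroup.eq_of_le_of_card_ge (sup_le hKA hK'A) ?_
        rcases hdiv _ (sup_le hKA hK'A) (fun h => hK (le_bot_iff.mp (h ▸ le_sup_left))) with h | h
        · exfalso
          have e : K = K ⊔ K' := Subgroup.eq_of_le_of_card_ge le_sup_left (by rw [h, h1])
          obtain ⟨⟨a, ha⟩, ha1'⟩ := Subgroup.ne_bot_iff_exists_ne_one.mp hK'
          have ha1 : a ≠ 1 := fun h => ha1' (Subtype.ext h)
          exact ha1 (hdis a (e ▸ Subgroup.mem_sup_right ha) ha)
        · rw [h, hAcard]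
      have hLA : L ≤ A := inf_le_left
      have hMA : M ≤ A := fun a ha => ha.1
      obtain ⟨hLp, hsup⟩ := hcyc L hLA hL M hMA hMne hLM
      obtain ⟨hMp, -⟩ := hcyc M hMA hMne L hLA hL (fun a h1 h2 => hLM a h2 h1)
      have hLn : L.Normal := ⟨fun a ha g => Subgroup.mem_inf.mpr ⟨hAn g a ha.1, by
        rw [Subgroup.mem_centralizer_singleton_iff]
        have h := hconjt g a ha.1
        have h0 : t * a * t⁻¹ = a := by
          rw [← Subgroup.mem_centralizer_singleton_iff.mp ha.2, mul_inv_cancel_right]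
        rw [h0] at h
        exact (mul_inv_eq_iff_eq_mul.mp h).symm⟩⟩
      have hMn : M.Normal := ⟨fun a ha g => ⟨hAn g a ha.1, by
        rw [hconjt g a ha.1, ha.2]; group⟩⟩
      -- conjugation on each of two cyclic subgroups commutes
      have hab : ∀ g h : N, g * h * g⁻¹ * h⁻¹ ∈ A := by
        intro g h
        have hfix : ∀ K : Subgroup N, K.Normal → Nat.card K = p → ∀ a ∈ K,
            (g * h * g⁻¹ * h⁻¹) * a * (g * h * g⁻¹ * h⁻¹)⁻¹ = a := by
          intro K hK hKp a ha
          rcases eq_or_ne a 1 with rfl | ha1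
          · group
          have hKgen : Subgroup.zpowers a = K := Subgroup.eq_of_le_of_card_ge
            (Subgroup.zpowers_le.mpr ha) (by
              rw [hKp, Nat.card_zpowers]
              have hd : orderOf a ∣ Nat.card K := Subgroup.orderOf_dvd_natCard K ha
              rw [hKp, Nat.dvd_prime hpr] at hd
              exact (hd.resolve_left (fun h => ha1 (orderOf_eq_one_iff.mp h))).ge)
          obtain ⟨i, hi⟩ := Subgroup.mem_zpowers_iff.mp (hKgen.ge (hK.conj_mem a ha g))
          obtain ⟨j, hj⟩ := Subgroup.mem_zpowers_iff.mp (hKgen.ge (hK.conj_mem a ha h))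
          have h3 : g * h * a * (g * h)⁻¹ = h * g * a * (h * g)⁻¹ := by
            calc g * h * a * (g * h)⁻¹ = g * (h * a * h⁻¹) * g⁻¹ := by group
              _ = (a ^ i) ^ j := by rw [← hj, ← conj_zpow, hi]
              _ = (a ^ j) ^ i := by rw [← zpow_mul, mul_comm, zpow_mul]
              _ = h * (g * a * g⁻¹) * h⁻¹ := by rw [← hi, ← conj_zpow, hj]
              _ = h * g * a * (h * g)⁻¹ := by group
          calc (g * h * g⁻¹ * h⁻¹) * a * (g * h * g⁻¹ * h⁻¹)⁻¹
              = g * h * g⁻¹ * h⁻¹ * (h * g * ((h * g)⁻¹ * a * (h * g)) * (h * g)⁻¹) * (g * h * g⁻¹ * h⁻¹)⁻¹ := by group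
            _ = g * h * ((h * g)⁻¹ * a * (h * g)) * (g * h)⁻¹ := by group
            _ = a := by
              have ha' : (h * g)⁻¹ * a * (h * g) ∈ K := by simpa using hK.conj_mem a ha (h * g)⁻¹
              obtain ⟨l, hl⟩ := Subgroup.mem_zpowers_iff.mp (hKgen.ge ha')
              rw [← hl, ← conj_zpow, h3, conj_zpow, hl]; group
        rw [← hAself, Subgroup.mem_centralizer_iff]
        intro a ha
        have hle : A ≤ Subgroup.centralizer ({g * h * g⁻¹ * h⁻¹} : Set N) := by
          rw [← hsup]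
          refine sup_le (fun b hb => ?_) (fun b hb => ?_)
          · exact Subgroup.mem_centralizer_singleton_iff.mpr (mul_inv_eq_iff_eq_mul.mp (hfix L hLn hLp b hb)).symm
          · exact Subgroup.mem_centralizer_singleton_iff.mpr (mul_inv_eq_iff_eq_mul.mp (hfix M hMn hMp b hb)).symm
        exact Subgroup.mem_centralizer_singleton_iff.mp (hle ha)
      -- but `SL₂` is not abelian
      have hcommSL : ∀ a b : Matrix.SpecialLinearGroup (Fin 2) F, a * b = b * a := by
        intro a b
        obtain ⟨g, hg⟩ := QuotientGroup.mk'_surjective A (e.symm a)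
        obtain ⟨h, hh⟩ := QuotientGroup.mk'_surjective A (e.symm b)
        have h1 : QuotientGroup.mk' A (g * h * g⁻¹ * h⁻¹) = 1 := (QuotientGroup.eq_one_iff _).mpr (hab g h)
        rw [map_mul, map_mul, map_mul, map_inv, map_inv, hg, hh] at h1
        have h2 := congrArg e h1
        rw [map_mul, map_mul, map_mul, map_inv, map_inv, map_one, e.apply_symm_apply,
          e.apply_symm_apply, mul_inv_eq_one, mul_inv_eq_iff_eq_mul] at h2
        exact h2
      let U : Matrix.SpecialLinearGroup (Fin 2) F := ⟨!![1, 1; 0, 1], by simp [Matrix.det_fin_two]⟩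
      let V : Matrix.SpecialLinearGroup (Fin 2) F := ⟨!![1, 0; 1, 1], by simp [Matrix.det_fin_two]⟩
      have h : ((U * V : Matrix.SpecialLinearGroup (Fin 2) F) : Matrix (Fin 2) (Fin 2) F) 0 0 =
          ((V * U : Matrix.SpecialLinearGroup (Fin 2) F) : Matrix (Fin 2) (Fin 2) F) 0 0 := by
        rw [hcommSL U V]
      rw [Matrix.SpecialLinearGroup.coe_mul, Matrix.SpecialLinearGroup.coe_mul, Matrix.mul_apply,
        Matrix.mul_apply, Fin.sum_univ_two, Fin.sum_univ_two] at h
      simp [U, V] at h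
    intro a ha
    have hb : a * (t * a * t⁻¹) ∈ L := by
      refine Subgroup.mem_inf.mpr ⟨mul_mem ha (hAn t a ha), ?_⟩
      rw [Subgroup.mem_centralizer_singleton_iff]
      have hc1 : Commute a (t * a * t⁻¹) := hAc _ ha _ (hAn t a ha)
      symm
      rw [← mul_inv_eq_iff_eq_mul, ← conj_mul]
      have : t * (t * a * t⁻¹) * t⁻¹ = a := by
        simp [htinv, mul_assoc, htt, ← mul_assoc t t]
      rw [this, hc1.eq]
    rw [hLbot, Subgroup.mem_bot, mul_eq_one_iff_eq_inv'] at hb
    exact hb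
  refine ⟨Subgroup.centralizer ({t} : Set N), ?_, ?_⟩
  · rw [eq_bot_iff]
    rintro a ⟨ha, hat⟩
    exact hLM a ⟨ha, hat⟩ ⟨ha, hinvA a ha⟩
  · rw [eq_top_iff]
    intro g _
    -- choose `b ∈ A` with `g t g⁻¹ = b² t`
    set c := g * t * g⁻¹ * t⁻¹ with hc
    obtain ⟨j, hj⟩ := hpr.odd_of_ne_two hp
    set b := c ^ (j + 1) with hb
    have hbA : b ∈ A := pow_mem (htc g) _
    have hbb : b * b = c := by
      rw [hb, ← pow_add, show j + 1 + (j + 1) = (2 * j + 1) + 1 by ring, pow_succ, ← hj, hApow _ (htc g), one_mul]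
    have hbt : b * t * b⁻¹ = g * t * g⁻¹ := by
      calc b * t * b⁻¹ = b * (t * b⁻¹ * t⁻¹) * t := by group
        _ = b * b * t := by rw [hinvA _ (inv_mem hbA), inv_inv]
        _ = g * t * g⁻¹ := by rw [hbb, hc, inv_mul_cancel_right]
    have hmem : b⁻¹ * g ∈ Subgroup.centralizer ({t} : Set N) := by
      rw [Subgroup.mem_centralizer_singleton_iff]
      calc b⁻¹ * g * t = b⁻¹ * (g * t * g⁻¹) * g := by group
        _ = t * (b⁻¹ * g) := by rw [← hbt]; group
    have := mul_mem (Subgroup.mem_sup_left (T := Subgroup.centralizer ({t} : Set N)) hbA)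
      (Subgroup.mem_sup_right (S := A) hmem)
    rwa [mul_inv_cancel_left] at this

end Cfsg.Agent.S3075
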