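import Cfsg.Prelude
import Cfsg.Agent.Lib.Char.FongCores
-- import your own Cfsg.Agent.* helpers here

set_option autoImplicit false
open Cfsg

open scoped Pointwise commutatorElement

namespace Cfsg.Agent.S3076

/-- Let P be a Sylow p-subgroup of the finite group G and H ≤ P a subgroup with N_P(H) a Sylow p-subgroup of N_G(H). Let N be the preimage in N_G(H) of O_p(N_G(H)/C_G(H)). Then H is a Sylow p-subgroup of N if and only if C_P(H) ≤ H and O_{p',p}(N_G(H)) = H·C_G(H). -/
theorem result {G : Type*} [Group G] [Finite G] {p : ℕ} [Fact p.Prime]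
    (P : Sylow p G) (H : Subgroup G) (hHP : H ≤ (P : Subgroup G))
    (hSyl : ¬ p ∣ ((P : Subgroup G) ⊓ Subgroup.normalizer (H : Set G)).relIndex (Subgroup.normalizer (H : Set G)))
    [hC : ((Subgroup.centralizer (H : Set G)).subgroupOf (Subgroup.normalizer (H : Set G))).Normal] :
    (H ≤ ((Cfsg.pCore p (↥(Subgroup.normalizer (H : Set G)) ⧸
              (Subgroup.centralizer (H : Set G)).subgroupOf (Subgroup.normalizer (H : Set G)))).comap
            (QuotientGroup.mk' _)).map (Subgroup.normalizer (H : Set G)).subtype ∧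
      ¬ p ∣ H.relIndex (((Cfsg.pCore p (↥(Subgroup.normalizer (H : Set G)) ⧸
              (Subgroup.centralizer (H : Set G)).subgroupOf (Subgroup.normalizer (H : Set G)))).comap
            (QuotientGroup.mk' _)).map (Subgroup.normalizer (H : Set G)).subtype)) ↔
    ((P : Subgroup G) ⊓ Subgroup.centralizer (H : Set G) ≤ H ∧
      (Cfsg.pPrimePCore p ↥(Subgroup.normalizer (H : Set G))).map (Subgroup.normalizer (H : Set G)).subtype =
        H ⊔ Subgroup.centralizer (H : Set G)) := by
  classical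
  set X := Subgroup.normalizer (H : Set G) with hX
  set C := (Subgroup.centralizer (H : Set G)).subgroupOf X with hCdef
  set f := QuotientGroup.mk' C with hf
  set Nw := (Cfsg.pCore p (↥X ⧸ C)).comap f with hNw
  set Hx := H.subgroupOf X with hHx
  have hHX : H ≤ X := Subgroup.le_normalizer
  have hCX : Subgroup.centralizer (H : Set G) ≤ X := Subgroup.centralizer_le_normalizer _
  haveI hHxn : Hx.Normal := Subgroup.normal_subgroupOf_of_le_normalizer le_rfl
  have hHxp : IsPGroup p ↥Hx := (P.isPGroup'.to_le hHP).comap_subtype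
  let R : Sylow p ↥X := ((P.isPGroup'.to_le inf_le_left).comap_subtype :
    IsPGroup p ↥(((P : Subgroup G) ⊓ X).subgroupOf X)).toSylow hSyl
  have hHR : Hx ≤ (R : Subgroup ↥X) := fun x hx => ⟨hHP hx, x.2⟩
  have hcomm : ∀ c ∈ C, ∀ h ∈ Hx, c * h = h * c := fun c hc h hh =>
    Subtype.ext (Subgroup.mem_centralizer_iff.mp hc h hh).symm
  haveI hNn : Nw.Normal := Grp.pCore_isNormal.comap f
  have hCN : C ≤ Nw := fun x hx => by
    show f x ∈ Cfsg.pCore p (↥X ⧸ C)
    rw [show f x = 1 from (QuotientGroup.eq_one_iff x).mpr hx]; exact one_mem _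
  have hHN : Hx ≤ Nw := Subgroup.map_le_iff_le_comap.mp
    (Grp.le_pCore (hHxn.map f (QuotientGroup.mk'_surjective C)) (hHxp.map f))
  have hmapH : Hx.map X.subtype = H := by rw [hHx, Subgroup.subgroupOf_map_subtype, inf_eq_left.mpr hHX]
  have hmapC : C.map X.subtype = Subgroup.centralizer (H : Set G) := by
    rw [hCdef, Subgroup.subgroupOf_map_subtype, inf_eq_left.mpr hCX]
  have hgoal1 : (H ≤ Nw.map X.subtype ∧ ¬ p ∣ H.relIndex (Nw.map X.subtype)) ↔ ¬ p ∣ Hx.relIndex Nw := by
    have h1 : H.relIndex (Nw.map X.subtype) = Hx.relIndex Nw := by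
      conv_lhs => rw [← hmapH]
      exact Subgroup.relIndex_map_map_of_injective _ _ (Subgroup.subtype_injective X)
    rw [h1]
    exact and_iff_right (hmapH.ge.trans (Subgroup.map_mono hHN))
  have hgoal2 : (P : Subgroup G) ⊓ Subgroup.centralizer (H : Set G) ≤ H ↔ (R : Subgroup ↥X) ⊓ C ≤ Hx := by
    refine ⟨fun h x hx => h ⟨hx.1.1, hx.2⟩, fun h x hx => ?_⟩
    exact @h ⟨x, hCX hx.2⟩ ⟨⟨hx.1, hCX hx.2⟩, hx.2⟩
  have hgoal3 : (Cfsg.pPrimePCore p ↥X).map X.subtype = H ⊔ Subgroup.centralizer (H : Set G) ↔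
      Cfsg.pPrimePCore p ↥X = Hx ⊔ C := by
    have e : H ⊔ Subgroup.centralizer (H : Set G) = (Hx ⊔ C).map X.subtype := by
      rw [Subgroup.map_sup, hmapH, hmapC]
    rw [e]
    exact (Subgroup.map_injective (Subgroup.subtype_injective X)).eq_iff
  rw [hgoal1, hgoal2, hgoal3]
  obtain ⟨jN, hjN⟩ : ∃ j : ℕ, C.relIndex Nw = p ^ j := by
    obtain ⟨j, hj⟩ := IsPGroup.iff_card.1 (Grp.pCore_isPGroup (p := p) (G := ↥X ⧸ C))
    refine ⟨j, ?_⟩
    have h1 := Subgroup.relIndex_comap (H := (⊥ : Subgroup (↥X ⧸ C))) (f := f) (K := Nw)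
    rw [show (⊥ : Subgroup (↥X ⧸ C)).comap f = C from QuotientGroup.ker_mk' _, hNw,
      Subgroup.map_comap_eq_self_of_surjective (QuotientGroup.mk'_surjective _), Subgroup.relIndex_bot_left, hj] at h1
    exact h1
  -- the consequences of `C_P(H) ≤ H`
  have core : (R : Subgroup ↥X) ⊓ C ≤ Hx → Cfsg.pPrimePCore p ↥X = Nw := by
    intro hRC
    set E := Cfsg.pPrimeCore p ↥X with hE
    haveI hEn : E.Normal := Grp.pPrimeCore_isNormal
    have hEC : E ≤ C := fun e he => Subgroup.mem_centralizer_iff.mpr fun h hh => by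
      have hdis : Hx ⊓ E = ⊥ := Grp.inf_eq_bot_of_coprime (by
        obtain ⟨m, hm⟩ := IsPGroup.iff_card.mp hHxp
        rw [hm]; exact ((Grp.pPrimeCore_coprime (p := p) (G := ↥X)).pow_right m).symm)
      exact congrArg Subtype.val (Subgroup.commute_of_normal_of_disjoint _ _ hHxn hEn
        (disjoint_iff.mpr hdis) ⟨h, hHX hh⟩ e hh he)
    have hpg : IsPGroup p ↥((R : Subgroup ↥X).subgroupOf C) := R.isPGroup'.comap_subtype
    let Z : Sylow p ↥C := hpg.toSylow (Grp.sylow_inf_normal_relIndex R C)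
    have hcen : Subgroup.normalizer ((Z : Subgroup ↥C) : Set ↥C) ≤ Subgroup.centralizer ((Z : Subgroup ↥C) : Set ↥C) :=
      fun d _ => Subgroup.mem_centralizer_iff.mpr fun r hr =>
        Subtype.ext (hcomm d d.2 r (hRC ⟨hr, r.2⟩)).symm
    have hc := MonoidHom.ker_transferSylow_isComplement' Z hcen
    have hker : (MonoidHom.transferSylow Z hcen).ker.map C.subtype ≤ E := by
      refine le_trans (Subgroup.map_mono (Grp.le_pPrimeCore inferInstance ?_))
        ((Grp.pPrimeCore_map_eq C).le.trans inf_le_left)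
      rw [Nat.coprime_comm, (Fact.out : p.Prime).coprime_iff_not_dvd, ← hc.index_eq_card]
      exact Z.not_dvd_index
    have hCle : C ≤ Hx ⊔ E := fun x hx => by
      have h1 : (⟨x, hx⟩ : ↥C) ∈ (MonoidHom.transferSylow Z hcen).ker ⊔ (Z : Subgroup ↥C) :=
        hc.sup_eq_top ▸ Subgroup.mem_top _
      have h2 := Subgroup.mem_map_of_mem C.subtype h1
      rw [Subgroup.map_sup, sup_comm] at h2
      refine sup_le_sup ?_ hker h2
      rintro _ ⟨r, hr, rfl⟩
      exact hRC ⟨hr, r.2⟩
    obtain ⟨jY, hjY⟩ := Char.Fong.exists_relIndex_pPrimePCore (p := p) (G := ↥X)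
    haveI hYn : (Cfsg.pPrimePCore p ↥X).Normal := Char.Fong.pPrimePCore_normal
    refine le_antisymm ?_ ?_
    · have h1 : E ⊔ ((R : Subgroup ↥X) ⊓ Cfsg.pPrimePCore p ↥X) = Cfsg.pPrimePCore p ↥X :=
        Char.Fong.sup_eq_of_relIndex Char.Fong.pPrimeCore_le_pPrimePCore inf_le_right hjY
          (by rw [Subgroup.inf_relIndex_right]; exact Grp.sylow_inf_normal_relIndex R _)
      refine Subgroup.map_le_iff_le_comap.mp (Grp.le_pCore (hYn.map f (QuotientGroup.mk'_surjective C)) ?_)
      rw [← h1, Subgroup.map_sup, (Subgroup.map_eq_bot_iff E).mpr (by rw [hf, QuotientGroup.ker_mk']; exact hEC),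
        bot_sup_eq]
      exact (R.isPGroup'.to_le inf_le_left).map f
    · set g := QuotientGroup.mk' E with hg
      have h1 : C ⊔ ((R : Subgroup ↥X) ⊓ Nw) = Nw :=
        Char.Fong.sup_eq_of_relIndex hCN inf_le_right hjN
          (by rw [Subgroup.inf_relIndex_right]; exact Grp.sylow_inf_normal_relIndex R _)
      refine Subgroup.map_le_iff_le_comap.mp (Grp.le_pCore (hNn.map g (QuotientGroup.mk'_surjective E)) ?_)
      have h2 : Nw.map g ≤ (R : Subgroup ↥X).map g := by
        rw [← h1, Subgroup.map_sup]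
        refine sup_le ((Subgroup.map_mono hCle).trans ?_) (Subgroup.map_mono inf_le_left)
        rw [Subgroup.map_sup, hg, QuotientGroup.map_mk'_self, sup_bot_eq]
        exact Subgroup.map_mono hHR
      exact (R.isPGroup'.map g).to_le h2
  constructor
  · intro hS
    have hRC : (R : Subgroup ↥X) ⊓ C ≤ Hx := by
      let Q : Sylow p ↥Nw := (hHxp.comap_subtype : IsPGroup p ↥(Hx.subgroupOf Nw)).toSylow hS
      intro x hx
      obtain ⟨Q', hQ'⟩ := (((R.isPGroup'.to_le inf_le_left) : IsPGroup p ↥((R : Subgroup ↥X) ⊓ C)).comap_subtype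
        (K := Nw)).exists_le_sylow
      haveI : (Q : Subgroup ↥Nw).Normal := Subgroup.normal_subgroupOf
      haveI := Sylow.unique_of_normal Q inferInstance
      rw [Subsingleton.elim Q' Q] at hQ'
      exact @hQ' ⟨x, hCN hx.2⟩ hx
    exact ⟨hRC, by rw [core hRC, sup_comm, Char.Fong.sup_eq_of_relIndex hCN hHN hjN hS]⟩
  · rintro ⟨hRC, hY⟩
    rw [← core hRC, hY]
    intro hd
    refine Grp.sylow_inf_normal_relIndex R C (hd.trans ?_)
    rw [sup_comm, Subgroup.relIndex_sup_right]
    exact Subgroup.relIndex_dvd_of_le_left _ hRC |>.trans (by rw [Subgroup.inf_relIndex_right])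

end Cfsg.Agent.S3076
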