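import Cfsg.Statements.S3078
import Cfsg.Agent.Lib.Invol.ReplacementExp
-- import your own Cfsg.Agent.* helpers here

set_option autoImplicit false
open Cfsg

namespace Cfsg.Agent.S3078

open scoped Classical commutatorElement

theorem card_omega {G : Type*} [Group G] {p : ℕ} (A : Subgroup G)
    (hA : ∀ x ∈ A, ∀ y ∈ A, x * y = y * x) :
    Nat.card (Cfsg.omegaOne p A) = Nat.card {a : A // (a : G) ^ p = 1} := by
  let K : Subgroup G :=
    { carrier := {x | x ∈ A ∧ x ^ p = 1}
      one_mem' := ⟨A.one_mem, one_pow p⟩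
      mul_mem' := fun {a b} ha hb => ⟨A.mul_mem ha.1 hb.1, by
        rw [(show Commute a b from hA a ha.1 b hb.1).mul_pow, ha.2, hb.2, mul_one]⟩
      inv_mem' := fun {a} ha => ⟨A.inv_mem ha.1, by rw [inv_pow, ha.2, inv_one]⟩ }
  have hK : Cfsg.omegaOne p A = K :=
    le_antisymm ((Subgroup.closure_le K).2 fun x hx => hx) fun x hx => Subgroup.subset_closure hx
  rw [hK]
  exact Nat.card_congr ⟨fun x => ⟨⟨x.1, x.2.1⟩, x.2.2⟩, fun a => ⟨a.1.1, a.1.2, a.2⟩,
    fun _ => rfl, fun _ => rfl⟩

/-- A replacement Theorem for abelian subgroups of p-groups, p odd. Let G be a finite p-group with p odd, A an abelian subgroup of G, and B a subgroup of nilpotency class at most 2 with [B, B] ≤ A, such that A normalizes B but B does not normalize A. Then there is an abelian subgroup A* of G of the same order as A with A ∩ B strictly contained in A* ∩ B, A* contained in N_G(A) and in the normal closure of A, the exponent of A* dividing the exponent of A, and with the subgroup generated by the elements of order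 dividing p in A of order at most that of the corresponding subgroup of A* (the rank of A is at most the rank of A*). -/
theorem result {G : Type*} [Group G] [Finite G] {p : ℕ} [Fact p.Prime] (hp : p ≠ 2) (hG : IsPGroup p G) (A B : Subgroup G) (hA : IsMulCommutative A) (hB2 : ⁅⁅B, B⁆, B⁆ = ⊥) (hBA : ⁅B, B⁆ ≤ A) (hAB : A ≤ Subgroup.normalizer (B : Set G)) (hBnA : ¬ B ≤ Subgroup.normalizer (A : Set G)) : ∃ Astar : Subgroup G, IsMulCommutative Astar ∧ Nat.card Astar = Nat.card A ∧ A ⊓ B < Astar ⊓ B ∧ Astar ≤ Subgroup.normalizer (A : Set G) ∧ Astar ≤ Subgroup.normalClosure (A : Set G) ∧ Monoid.exponent Astar ∣ Monoid.exponent A ∧ Nat.card (Cfsg.omegaOne p A) ≤ Nat.card (Cfsg.omegaOne p Astar) := by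
  have hAc : ∀ x ∈ A, ∀ y ∈ A, x * y = y * x := fun x hx y hy =>
    congrArg Subtype.val (hA.is_comm.comm ⟨x, hx⟩ ⟨y, hy⟩)
  obtain ⟨A', -, hc', -, hlt, hN, hK, hcard, hexp, hom⟩ :=
    Invol.glauberman_replacement_exponent (R := (⊤ : Subgroup G)) hp (hG.to_subgroup ⊤) le_top le_top
      hAB hAc (fun x hx y hy z hz => by
        have h : ⁅⁅x, y⁆, z⁆ = 1 := Subgroup.mem_bot.1 (hB2 ▸ Subgroup.commutator_mem_commutator
          (Subgroup.commutator_mem_commutator hx hy) hz)
        exact commutatorElement_eq_one_iff_mul_comm.1 h)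
      (fun x hx y hy => hBA (Subgroup.commutator_mem_commutator hx hy)) hBnA
  have hpodd : p % 2 = 1 := ((Fact.out : p.Prime).eq_two_or_odd).resolve_left hp
  refine ⟨A', ⟨⟨fun a b => Subtype.ext (hc' _ a.2 _ b.2)⟩⟩, hcard, hlt, hN,
    hK _ Subgroup.subset_normalClosure (fun b _ => ?_), ?_, ?_⟩
  · rw [Subgroup.normalizer_eq_top]
    exact Subgroup.mem_top b
  · have hodd : Monoid.exponent A % 2 = 1 := by
      obtain ⟨k, hk⟩ := (hG.to_subgroup A).exists_card_eq
      obtain ⟨j, -, hj⟩ := (Nat.dvd_prime_pow Fact.out).1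
        (hk ▸ Group.exponent_dvd_nat_card (G := A))
      rw [hj, Nat.pow_mod, hpodd, one_pow, Nat.one_mod]
    refine Monoid.exponent_dvd_of_forall_pow_eq_one fun x => Subtype.ext ?_
    rw [SubmonoidClass.coe_pow]
    exact hexp _ hodd (fun a ha => congrArg Subtype.val
      (Monoid.pow_exponent_eq_one (⟨a, ha⟩ : A))) x x.2
  · rw [card_omega A hAc, card_omega A' hc']
    exact hom p hpodd

end Cfsg.Agent.S3078
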