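import Cfsg.Statements.S3079
import Cfsg.Agent.Lib.Invol.StronglyClosedControl
-- import your own Cfsg.Agent.* helpers here

set_option autoImplicit false
open Cfsg

namespace Cfsg.Agent.S3079

open scoped commutatorElement

theorem stableOn {G : Type*} [Group G] [Finite G] {p : ℕ} [Fact p.Prime]
    (hst : Cfsg.IsNormalizerPStable p G) (V : Subgroup G) [V.Normal] (hV : IsPGroup p V) :
    Cfsg.IsPStableOn p V := by
  intro a hq
  set N := Subgroup.normalizer (V : Set G) with hN
  have hN' : ∀ x : G, x ∈ N := fun x => by
    rw [hN, Subgroup.normalizer_eq_top]; exact Subgroup.mem_top x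
  have h := hst V hV a (hN' a) hq
  set C := Subgroup.centralizer (V : Set G) with hC
  let φ : N ⧸ C.subgroupOf N →* G ⧸ C :=
    QuotientGroup.map _ _ N.subtype (fun x hx => hx)
  have hφ : Function.Surjective φ := by
    intro y
    obtain ⟨x, rfl⟩ := QuotientGroup.mk'_surjective C y
    exact ⟨QuotientGroup.mk (⟨x, hN' x⟩ : N), rfl⟩
  exact Grp.le_pCore (Subgroup.Normal.map Grp.pCore_isNormal φ hφ)
    (Grp.pCore_isPGroup.map φ) ⟨_, h, rfl⟩

/-- Glauberman's ZJ-Theorem for strongly closed subgroups, p odd. Let G be a finite group that is p-stable in the normalizer form (for every p-subgroup U and g ∈ N_G(U) with [U, g, g] = 1, the image of g lies in O_p(N_G(U)/C_G(U))), with C_G(O_p(G)) ≤ O_p(G), let P be a Sylow p-subgroup and D a subgroup of P strongly closed in P with respect to G. Then Z(J(D)) is normal in G, where J(D) is generated by the abelian subgroups of D of largest order; and so is Ω₁(Z(J_e(D))), where J_e(D) is generated by the elementary abelian subgroups of D of largest order. -/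
theorem result {G : Type*} [Group G] [Finite G] {p : ℕ} [Fact p.Prime] (hp : p ≠ 2) (P : Sylow p G) (D : Subgroup G) (hD : Cfsg.IsStronglyClosed D (P : Subgroup G)) (hst : Cfsg.IsNormalizerPStable p G) (hc : Subgroup.centralizer ((Cfsg.pCore p G : Subgroup G) : Set G) ≤ Cfsg.pCore p G) : (Cfsg.centerThompsonAOf D).Normal ∧ (Cfsg.omegaOne p (Cfsg.centerThompsonOf p D)).Normal := by
  exact ⟨Fus.centerThompsonA_normal hp hc (fun V _ hV => stableOn hst V hV) P hD,
    Invol.centerOmega_normal hp hc (fun V _ hV => stableOn hst V hV) P hD⟩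

end Cfsg.Agent.S3079
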