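import Cfsg.Prelude
import Cfsg.Agent.Lib.Invol.ExtraspecialExtensionMain
-- import your own Cfsg.Agent.* helpers here

set_option autoImplicit false
open Cfsg

open scoped Pointwise commutatorElement

namespace Cfsg.Agent.S3084

/-- Let K be a group acting faithfully and linearly on a finite-dimensional vector space U of dimension 2n ≥ 2 over the field with two elements, preserving a quadratic form q whose polar bilinear form is non-degenerate and which vanishes on some n-dimensional subspace (a non-singular form of plus type). Then there is a finite group R with a normal extraspecial 2-subgroup Q of order 2^(2n+1), an isomorphism of R/Q with K, and a surjective homomorphism χ from Q onto (the additive group of) U with kernel the centre of Q, such that χ carries conjugation by any r in R to the action of the image of r in K, and an element a of Q squares to the identity exactly when q vanishes at χ(a). -/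
theorem result {K : Type*} [Group K] {U : Type*} [AddCommGroup U] [Module (ZMod 2) U] [Module.Finite (ZMod 2) U] (n : ℕ) (hn1 : 1 ≤ n) (hn : Module.finrank (ZMod 2) U = 2 * n) (ρ : Representation (ZMod 2) K U) (hρ : Function.Injective ρ) (q : QuadraticForm (ZMod 2) U) (hq : ∀ (k : K) (u : U), q (ρ k u) = q u) (hnd : (QuadraticMap.polarBilin q).Nondegenerate) (hplus : ∃ W : Submodule (ZMod 2) U, Module.finrank (ZMod 2) ↥W = n ∧ ∀ w ∈ W, q w = 0) : ∃ (R : Type) (_ : Group R) (_ : Finite R) (Q : Subgroup R) (hN : Q.Normal) (e : R ⧸ Q ≃* K) (χ : ↥Q →* Multiplicative U), Cfsg.IsExtraspecial 2 ↥Q ∧ Nat.card ↥Q = 2 ^ (2 * n + 1) ∧ Function.Surjective χ ∧ χ.ker = Subgroup.center ↥Q ∧ (∀ (r : R) (a : ↥Q), χ ⟨r * a * r⁻¹, hN.conj_mem (a : R) a.2 r⟩ = Multiplicative.ofAdd (ρ (e (r : R ⧸ Q)) (Multiplicative.toAdd (χ a)))) ∧ ∀ a : ↥Q, a * a = 1 ↔ q (Multiplicative.toAdd (χ a)) = 0 := by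
  obtain ⟨W₀, hW, hW0⟩ := hplus
  obtain ⟨Λ, hΛ⟩ := Invol.ExtraExtension.exists_coordinates hn q hnd W₀ hW hW0
  obtain ⟨φ, hφ⟩ : ∃ φ : K →* (Invol.ExtraExtension.W n ≃ₗ[ZMod 2] Invol.ExtraExtension.W n),
      ∀ k w, φ k w = Λ.symm (ρ k (Λ w)) := by
    let E : K → (U ≃ₗ[ZMod 2] U) := fun k => LinearEquiv.ofLinear (ρ k) (ρ k⁻¹)
      (by rw [← Module.End.mul_eq_comp, ← map_mul, mul_inv_cancel, map_one]; rfl)
      (by rw [← Module.End.mul_eq_comp, ← map_mul, inv_mul_cancel, map_one]; rfl)
    let F : K → (Invol.ExtraExtension.W n ≃ₗ[ZMod 2] Invol.ExtraExtension.W n) := fun k =>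
      (Λ.trans (E k)).trans Λ.symm
    refine ⟨MonoidHom.mk' F ?_, fun _ _ => rfl⟩
    intro a b
    refine LinearEquiv.ext fun w => ?_
    show Λ.symm (ρ (a * b) (Λ w)) = Λ.symm (ρ a (Λ (Λ.symm (ρ b (Λ w)))))
    rw [LinearEquiv.apply_symm_apply, map_mul]
    rfl
  have hφinj : Function.Injective φ := fun a b h => hρ (LinearMap.ext fun u => by
    obtain ⟨w, rfl⟩ := Λ.surjective u
    have h' := LinearEquiv.congr_fun h w
    rw [hφ, hφ] at h'
    exact Λ.symm.injective h')
  have hK : ∀ k ∈ φ.range, ∀ w, Invol.ExtraExtension.β (k w) (k w) = Invol.ExtraExtension.β w w := by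
    rintro - ⟨k, rfl⟩ w
    rw [← hΛ, ← hΛ, hφ, LinearEquiv.apply_symm_apply, hq]
  obtain ⟨R, iG, iF, π, χ, hπ, hex, hcard, hsurj, hker, hconj, hsq⟩ :=
    Invol.ExtraExtension.exists_extension hn1 φ.range hK
  refine ⟨R, iG, iF, π.ker, inferInstance,
    (QuotientGroup.quotientKerEquivOfSurjective π hπ).trans (MonoidHom.ofInjective hφinj).symm,
    Λ.toAddEquiv.toMultiplicative.toMonoidHom.comp χ, hex, hcard,
    Λ.toAddEquiv.toMultiplicative.surjective.comp hsurj, ?_, ?_, ?_⟩
  · rw [← hker]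
    refine Subgroup.ext fun a => ⟨fun h => Λ.toAddEquiv.toMultiplicative.injective ?_, fun h => ?_⟩
    · exact (MonoidHom.mem_ker.mp h).trans (map_one _).symm
    · refine MonoidHom.mem_ker.mpr ?_
      show Λ.toAddEquiv.toMultiplicative (χ a) = 1
      rw [MonoidHom.mem_ker.mp h, map_one]
  · intro r a
    have h := hconj r a ((inferInstance : π.ker.Normal).conj_mem a a.2 r)
    obtain ⟨k, hk⟩ : ∃ k, φ k = (π r).1 := (π r).2
    have he : (MonoidHom.ofInjective hφinj).symm (π r) = k := by
      rw [MulEquiv.symm_apply_eq]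
      exact Subtype.ext hk.symm
    show Multiplicative.ofAdd (Λ (Multiplicative.toAdd (χ ⟨r * a * r⁻¹, _⟩))) =
      Multiplicative.ofAdd (ρ ((MonoidHom.ofInjective hφinj).symm (π r)) (Λ (Multiplicative.toAdd (χ a))))
    rw [he, h, ← hk, hφ, LinearEquiv.apply_symm_apply]
  · intro a
    show _ ↔ q (Λ (Multiplicative.toAdd (χ a))) = 0
    rw [hΛ]
    exact hsq a

end Cfsg.Agent.S3084
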