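import Cfsg.Statements.S3087
import Mathlib
-- import your own Cfsg.Agent.* helpers here

set_option autoImplicit false
open Cfsg

namespace Cfsg.Agent.S3087

/-- Let p be a prime, G a finite group acting linearly on a finite vector space V over the field with p elements, W a G-invariant subspace, and A a subgroup of G with |A|·|C_V(A)| ≥ |B|·|C_V(B)| for every subgroup B of A. Then |A|·|C_W(A)| ≥ |B|·|C_W(B)| for every subgroup B of A that contains C_A(W); that is, the image of A in the group induced on W satisfies the same maximality condition. -/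
theorem result {G V : Type*} [Group G] [Finite G] [AddCommGroup V] [Finite V] (p : ℕ) [Fact p.Prime] [Module (ZMod p) V]
    (ρ : Representation (ZMod p) G V) (W : Submodule (ZMod p) V) (hW : ∀ g : G, ∀ w ∈ W, ρ g w ∈ W)
    (A : Subgroup G)
    (hP : ∀ B : Subgroup G, B ≤ A →
      Nat.card ↥B * Nat.card {v : V // ∀ b ∈ B, ρ b v = v} ≤ Nat.card ↥A * Nat.card {v : V // ∀ a ∈ A, ρ a v = v})
    (B : Subgroup G) (hBA : B ≤ A) (hCB : ∀ a ∈ A, (∀ w ∈ W, ρ a w = w) → a ∈ B) :
    Nat.card ↥B * Nat.card {w : W // ∀ b ∈ B, ρ b w = w} ≤ Nat.card ↥A * Nat.card {w : W // ∀ a ∈ A, ρ a w = w} := by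
  let K : Subgroup G → AddSubgroup V := fun C =>
    { carrier := {v | ∀ c ∈ C, ρ c v = v}
      zero_mem' := fun c _ => map_zero _
      add_mem' := fun {a b} ha hb c hc => by rw [map_add, ha c hc, hb c hc]
      neg_mem' := fun {a} ha c hc => by rw [map_neg, ha c hc] }
  have hKV : ∀ C, Nat.card {v : V // ∀ c ∈ C, ρ c v = v} = Nat.card (K C) := fun C => rfl
  have hKW : ∀ C, Nat.card {w : W // ∀ c ∈ C, ρ c w = w} = Nat.card ↥(W.toAddSubgroup ⊓ K C) := by
    intro C
    exact Nat.card_congr
      { toFun := fun w => ⟨w.1.1, w.1.2, w.2⟩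
        invFun := fun v => ⟨⟨v.1, v.2.1⟩, v.2.2⟩
        left_inv := fun _ => rfl
        right_inv := fun _ => rfl }
  rw [hKW, hKW]
  have hP' := hP B hBA
  rw [hKV, hKV] at hP'
  have hle : K A ≤ K B := fun v hv c hc => hv c (hBA hc)
  set U := W.toAddSubgroup ⊓ K B with hU
  have hrel : ∀ {S T : AddSubgroup V}, S ≤ T → Nat.card S * S.relIndex T = Nat.card T := by
    intro S T hST
    rw [← AddSubgroup.relIndex_bot_left, AddSubgroup.relIndex_mul_relIndex ⊥ S T bot_le hST,
      AddSubgroup.relIndex_bot_left]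
  have hUA : U ⊓ K A = W.toAddSubgroup ⊓ K A := by
    rw [hU, inf_assoc, inf_eq_right.mpr hle]
  have h1 : Nat.card ↥(U ⊓ K A) * (K A).relIndex U = Nat.card U := by
    rw [← AddSubgroup.inf_relIndex_left, hrel inf_le_left]
  have h2 : Nat.card (K A) * (K A).relIndex (K B) = Nat.card (K B) := hrel hle
  have h3 : (K A).relIndex U ≤ (K A).relIndex (K B) :=
    AddSubgroup.relIndex_le_of_le_right inf_le_right AddSubgroup.index_ne_zero_of_finite
  rw [hUA] at h1
  rw [← h1]
  rw [← h2] at hP'
  have hpos : 0 < Nat.card (K A) := Nat.card_pos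
  have h4 : Nat.card B * (K A).relIndex (K B) ≤ Nat.card A := by
    refine Nat.le_of_mul_le_mul_right ?_ hpos
    calc Nat.card B * (K A).relIndex (K B) * Nat.card (K A)
        = Nat.card B * (Nat.card (K A) * (K A).relIndex (K B)) := by ring
      _ ≤ Nat.card A * Nat.card (K A) := hP'
  calc Nat.card B * (Nat.card ↥(W.toAddSubgroup ⊓ K A) * (K A).relIndex U)
      = Nat.card B * (K A).relIndex U * Nat.card ↥(W.toAddSubgroup ⊓ K A) := by ring
    _ ≤ Nat.card A * Nat.card ↥(W.toAddSubgroup ⊓ K A) :=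
        Nat.mul_le_mul_right _ ((Nat.mul_le_mul_left _ h3).trans h4)

end Cfsg.Agent.S3087
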