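import Cfsg.Statements.S3090
import Cfsg.Agent.Lib.Invol.PushNorm.NatCase
import Cfsg.Agent.Lib.Invol.PushNorm.FiveRank

set_option autoImplicit false
set_option linter.style.haveILetI false
open Cfsg

namespace Cfsg.Agent.S3090

open Subgroup
open Cfsg.Agent.Invol.PushNorm
open Cfsg.Agent.Transfer.QRC (core2 core2_le core2_norm le_core2 core2_isPGroup norm_of_conj pCore_normal_two)

universe u

variable {G : Type u} [Group G] [Finite G]

/-- A group is generated by its elements of odd order and a Sylow 2-subgroup. -/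
theorem le_sup_sylow (H : Subgroup G) (T : Sylow 2 ↥H) :
    H ≤ Cfsg.oddGenerated H ⊔ (T : Subgroup ↥H).map H.subtype := by
  haveI : Fact (Nat.Prime 2) := ⟨Nat.prime_two⟩
  obtain ⟨N, hN⟩ : ∃ N, N = (Cfsg.oddGenerated H).subgroupOf H := ⟨_, rfl⟩
  haveI hNn : N.Normal := hN ▸ normal_subgroupOf_of_le_normalizer (oddGen_norm H)
  have hq : IsPGroup 2 (↥H ⧸ N) := fun x => QuotientGroup.induction_on x fun a => by
    obtain ⟨k, m, hm, e⟩ := Nat.exists_eq_pow_mul_and_not_dvd (orderOf_pos a).ne' 2 (by norm_num)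
    refine ⟨k, ?_⟩
    rw [← QuotientGroup.mk_pow, QuotientGroup.eq_one_iff, hN, mem_subgroupOf]
    refine Subgroup.subset_closure ⟨(a ^ 2 ^ k).2, ?_⟩
    show Odd (orderOf ((a ^ 2 ^ k : ↥H) : G))
    rw [Subgroup.orderOf_coe, orderOf_pow a, e, Nat.gcd_eq_right (dvd_mul_right _ m),
      Nat.mul_div_cancel_left _ (pow_pos (by norm_num : 0 < 2) k)]
    exact Nat.not_even_iff_odd.mp fun h => hm h.two_dvd
  obtain ⟨j, hj⟩ := hq.exists_card_eq
  have h1 : (N ⊔ (T : Subgroup ↥H)).index ∣ 2 ^ j := by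
    rw [← hj, ← index_eq_card]
    exact Subgroup.index_dvd_of_le le_sup_left
  have h2 : (N ⊔ (T : Subgroup ↥H)).index ∣ (T : Subgroup ↥H).index := Subgroup.index_dvd_of_le le_sup_right
  have hcop : (2 ^ j).Coprime (T : Subgroup ↥H).index :=
    ((Nat.Prime.coprime_iff_not_dvd Nat.prime_two).mpr T.not_dvd_index).pow_left j
  have htop : N ⊔ (T : Subgroup ↥H) = ⊤ := Subgroup.index_eq_one.mp (Nat.eq_one_of_dvd_coprimes hcop h1 h2)
  intro x hx
  have hm : x ∈ (N ⊔ (T : Subgroup ↥H)).map H.subtype := ⟨⟨x, hx⟩, htop.ge (mem_top _), rfl⟩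
  rw [Subgroup.map_sup] at hm
  refine (sup_le_sup_right ?_ _ : (N.map H.subtype ⊔ (T : Subgroup ↥H).map H.subtype) ≤ _) hm
  rw [hN, subgroupOf_map_subtype]
  exact inf_le_left

/-- The hypotheses, unless the Sylow subgroup is normal. -/
theorem hyp_of (hG : Cfsg.IsCharacteristicTwoType G) (H : Subgroup G) (T : Sylow 2 ↥H)
    (hsyl : ∀ S : Subgroup G, IsPGroup 2 ↥S → (Cfsg.pCore 2 ↥H).map H.subtype ≤ S →
      S ≤ Subgroup.normalizer (Cfsg.oddGenerated H : Set G) →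
      (∀ s ∈ S, ∀ k ∈ Cfsg.oddGenerated H, s * k * s⁻¹ * k⁻¹ ∈ core2 (Cfsg.oddGenerated H)) →
      S = (Cfsg.pCore 2 ↥H).map H.subtype)
    (huniq : Cfsg.maxTwoLocalsContaining H = {Subgroup.normalizer (Cfsg.oddGenerated H : Set G)})
    (hnot : ¬ Subgroup.normalizer (((T : Subgroup ↥H).map H.subtype : Subgroup G) : Set G) ≤
      Subgroup.normalizer (Cfsg.oddGenerated H : Set G)) :
    Hyp H (Cfsg.oddGenerated H) (Subgroup.normalizer (Cfsg.oddGenerated H : Set G))
      ((Cfsg.pCore 2 ↥H).map H.subtype) ((T : Subgroup ↥H).map H.subtype) := by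
  haveI : Fact (Nat.Prime 2) := ⟨Nat.prime_two⟩
  refine { char2 := hG, hK := rfl, hM := rfl, hQ := rfl, T_le := map_subtype_le _, T_p := T.isPGroup'.map _
           T_max := fun P hP hPH hTP => ?_, sup := le_sup_sylow H T, hsyl := hsyl, uniq := huniq, T_ne := ?_ }
  · have h1 : (T : Subgroup ↥H) ≤ P.subgroupOf H := fun x hx => mem_subgroupOf.mpr (hTP ⟨x, hx, rfl⟩)
    have h2 := T.is_maximal' (hP.comap_of_injective H.subtype H.subtype_injective) h1
    exact le_antisymm (fun x hx => ⟨⟨x, hPH hx⟩, h2.le (mem_subgroupOf.mpr hx), rfl⟩) hTP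
  · intro hle
    have hmem : Subgroup.normalizer (Cfsg.oddGenerated H : Set G) ∈ Cfsg.maxTwoLocalsContaining H := by
      rw [huniq]; rfl
    obtain ⟨⟨⟨D, hD, hne, hMD⟩, -⟩, hHM⟩ := hmem
    by_cases hT : (T : Subgroup ↥H).map H.subtype = ⊥
    · have hQT : Cfsg.pCore 2 ↥H ≤ (T : Subgroup ↥H) := sSup_le fun N hN => by
        obtain ⟨hNn, hNp⟩ := hN
        exact hNp.le_sylow_of_normal T
      have hQ : (Cfsg.pCore 2 ↥H).map H.subtype = ⊥ := le_bot_iff.mp ((Subgroup.map_mono hQT).trans hT.le)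
      have hDM : D ≤ Subgroup.normalizer (Cfsg.oddGenerated H : Set G) := hMD ▸ Subgroup.le_normalizer
      have hKM : Cfsg.oddGenerated H ≤ Subgroup.normalizer (Cfsg.oddGenerated H : Set G) := Subgroup.le_normalizer
      refine hne ((hsyl D hD (hQ.le.trans bot_le) hDM fun s hs k hk => ?_).trans hQ)
      refine le_core2 (N := D ⊓ Cfsg.oddGenerated H) inf_le_right (hD.to_le inf_le_left)
        (fun x hx n hn => ⟨(mem_normalizer_iff.mp (hMD.le (hKM hx)) n).mp hn.1, (Cfsg.oddGenerated H).mul_mem ((Cfsg.oddGenerated H).mul_mem hx hn.2) ((Cfsg.oddGenerated H).inv_mem hx)⟩)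
        ⟨?_, (Cfsg.oddGenerated H).mul_mem (conj_mem le_rfl (hDM hs) hk) ((Cfsg.oddGenerated H).inv_mem hk)⟩
      rw [show s * k * s⁻¹ * k⁻¹ = s * (k * s⁻¹ * k⁻¹) by group]
      exact mul_mem hs ((mem_normalizer_iff.mp (hMD.le (hKM hk)) _).mp (inv_mem hs))
    · obtain ⟨N, hN, hNle⟩ := exists_maxLocal ⟨_, T.isPGroup'.map H.subtype, hT, rfl⟩
      have hN' : N ∈ Cfsg.maxTwoLocalsContaining H := ⟨hN, hle.trans hNle⟩
      rw [huniq] at hN'
      exact hnot (hNle.trans (Set.mem_singleton_iff.mp hN').le)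

/-- Let G be a finite group of characteristic 2 type, H a subgroup, K = O²(H) (the subgroup generated by the elements of H of odd order), M = N_G(K), and T a Sylow 2-subgroup of H. Assume: K/O₂(K) (that is, O²(H/O₂(H))) is cyclic of order 3 or isomorphic to L₂(2ⁿ) = SL(2, 2ⁿ) for some n ≥ 1; O₂(H) is a Sylow 2-subgroup of the centralizer in M of K/O₂(K) (every 2-subgroup of M containing O₂(H) and acting trivially on K/O₂(K) equals O₂(H)); and M is the unique maximal 2-local subgroup of G containing H. Then N_G(T) ≤ M, or G has sectional 2-rank at most 4. -/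
theorem result
    {G : Type*} [Group G] [Finite G] (hG : Cfsg.IsCharacteristicTwoType G)
    (H : Subgroup G) (T : Sylow 2 ↥H)
    (hstar : Nonempty (↥(Cfsg.oddGenerated H) ⧸ Cfsg.pCore 2 ↥(Cfsg.oddGenerated H) ≃* Multiplicative (ZMod 3)) ∨
      ∃ n : ℕ, 1 ≤ n ∧ Nonempty (↥(Cfsg.oddGenerated H) ⧸ Cfsg.pCore 2 ↥(Cfsg.oddGenerated H) ≃* Matrix.SpecialLinearGroup (Fin 2) (GaloisField 2 n)))
    (hsyl : ∀ S : Subgroup G, IsPGroup 2 ↥S → (Cfsg.pCore 2 ↥H).map H.subtype ≤ S →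
      S ≤ Subgroup.normalizer (Cfsg.oddGenerated H : Set G) →
      (∀ s ∈ S, ∀ k ∈ Cfsg.oddGenerated H, s * k * s⁻¹ * k⁻¹ ∈ (Cfsg.pCore 2 ↥(Cfsg.oddGenerated H)).map (Cfsg.oddGenerated H).subtype) →
      S = (Cfsg.pCore 2 ↥H).map H.subtype)
    (huniq : Cfsg.maxTwoLocalsContaining H = {Subgroup.normalizer (Cfsg.oddGenerated H : Set G)}) :
    Subgroup.normalizer (((T : Subgroup ↥H).map H.subtype : Subgroup G) : Set G) ≤ Subgroup.normalizer (Cfsg.oddGenerated H : Set G) ∨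
      Cfsg.SectionalPRankLE 2 4 G := by
  by_cases hnot : Subgroup.normalizer (((T : Subgroup ↥H).map H.subtype : Subgroup G) : Set G) ≤
      Subgroup.normalizer (Cfsg.oddGenerated H : Set G)
  · exact Or.inl hnot
  refine Or.inr ?_
  have h := hyp_of hG H T hsyl huniq hnot
  obtain ⟨g, gT, gM⟩ := SetLike.not_le_iff_exists.mp hnot
  haveI := pCore_normal_two ↥(Cfsg.oddGenerated H)
  obtain ⟨hcore, hshape⟩ := h.shapes gT gM (star_of _ hstar)
  rcases hshape with (⟨h3, h4⟩ | ⟨⟨P⟩⟩) | ⟨F, fF, fT, n, hn, hcard, ⟨P⟩⟩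
  · exact h.three_rank (mdl_three hcore h3 h4) h3 h4 gT gM
  · obtain ⟨R⟩ := exists_five h (mdl_perm hcore P) P gT gM
    exact R.five_rank
  · haveI : CharP F 2 := Agent.Invol.Nat2.charP_of_card (p := 2) hcard
    have q4 : 4 ≤ Nat.card F := by
      rw [Nat.card_eq_fintype_card, hcard]
      exact le_trans (by norm_num) (Nat.pow_le_pow_right (by norm_num : 0 < 2) hn)
    obtain ⟨R⟩ := exists_fr h (mdl_nat hcore P) P q4 gT gM
    exact R.natural_rank

end Cfsg.Agent.S3090
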