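import Cfsg.Statements.S3091
import Cfsg.Agent.Lib.Invol.NatPair.Start
import Cfsg.Agent.Lib.Invol.NatPair.RankFour
import Cfsg.Agent.Lib.Invol.NatPair.Main

set_option autoImplicit false
open Cfsg

namespace Cfsg.Agent.S3091

/-- Let G be a finite group of characteristic 2 type and q = 2ᵉ > 2, F the field with q elements. Let L₁ ≠ L₂ be subgroups of G such that, for i = 1, 2, V_i = O₂(L_i) is elementary abelian with L_i/V_i ≅ SL(2, q) acting on V_i as on its natural 2-dimensional module F² (an additive isomorphism V_i ≅ F² carrying conjugation by g ∈ L_i to multiplication by the matrix of gV_i), and such that J = V₁V₂ is a Sylow 2-subgroup of both L₁ and L₂. Assume that N_G(L₁) and N_G(L₂) are maximal 2-local subgroups of G and that, for a Sylow 2-subgroup T of N_G(L₁), the subgroup generated by T, L₁ and L₂ has no nontrivial normal 2-subgroup. Then G has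 sectional 2-rank at most 4, or F*(G) ≅ L₃(q). -/
theorem result
    {G : Type*} [Group G] [Finite G] (hG : Cfsg.IsCharacteristicTwoType G)
    {F : Type*} [Field F] [Fintype F] (e : ℕ) (he : 2 ≤ e) (hF : Fintype.card F = 2 ^ e)
    (L₁ L₂ : Subgroup G) (hne : L₁ ≠ L₂)
    (φ₁ : ↥L₁ ⧸ Cfsg.pCore 2 ↥L₁ ≃* Matrix.SpecialLinearGroup (Fin 2) F)
    (ψ₁ : Additive ↥(Cfsg.pCore 2 ↥L₁) ≃+ (Fin 2 → F))
    (h₁ : ∀ (g : ↥L₁) (v : ↥(Cfsg.pCore 2 ↥L₁)),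
      ψ₁ (Additive.ofMul ⟨g * v * g⁻¹, Subgroup.Normal.conj_mem inferInstance (v : ↥L₁) v.2 g⟩)
        = Matrix.mulVec ((φ₁ (QuotientGroup.mk g) : Matrix.SpecialLinearGroup (Fin 2) F) : Matrix (Fin 2) (Fin 2) F) (ψ₁ (Additive.ofMul v)))
    (φ₂ : ↥L₂ ⧸ Cfsg.pCore 2 ↥L₂ ≃* Matrix.SpecialLinearGroup (Fin 2) F)
    (ψ₂ : Additive ↥(Cfsg.pCore 2 ↥L₂) ≃+ (Fin 2 → F))
    (h₂ : ∀ (g : ↥L₂) (v : ↥(Cfsg.pCore 2 ↥L₂)),
      ψ₂ (Additive.ofMul ⟨g * v * g⁻¹, Subgroup.Normal.conj_mem inferInstance (v : ↥L₂) v.2 g⟩)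
        = Matrix.mulVec ((φ₂ (QuotientGroup.mk g) : Matrix.SpecialLinearGroup (Fin 2) F) : Matrix (Fin 2) (Fin 2) F) (ψ₂ (Additive.ofMul v)))
    (hJ₁ : ∃ S : Sylow 2 ↥L₁, (S : Subgroup ↥L₁).map L₁.subtype = (Cfsg.pCore 2 ↥L₁).map L₁.subtype ⊔ (Cfsg.pCore 2 ↥L₂).map L₂.subtype)
    (hJ₂ : ∃ S : Sylow 2 ↥L₂, (S : Subgroup ↥L₂).map L₂.subtype = (Cfsg.pCore 2 ↥L₁).map L₁.subtype ⊔ (Cfsg.pCore 2 ↥L₂).map L₂.subtype)
    (hM₁ : Cfsg.IsMaximalTwoLocal (Subgroup.normalizer (L₁ : Set G))) (hM₂ : Cfsg.IsMaximalTwoLocal (Subgroup.normalizer (L₂ : Set G)))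
    (T : Sylow 2 ↥(Subgroup.normalizer (L₁ : Set G)))
    (hO : Cfsg.pCore 2 ↥(((T : Subgroup ↥(Subgroup.normalizer (L₁ : Set G))).map (Subgroup.normalizer (L₁ : Set G)).subtype) ⊔ L₁ ⊔ L₂) = ⊥) :
    Cfsg.SectionalPRankLE 2 4 G ∨
      Nonempty (↥(Cfsg.generalizedFittingSubgroup G) ≃* Matrix.ProjectiveSpecialLinearGroup (Fin 3) F) := by
  have hF' : Nat.card F = 2 ^ e := by rw [Nat.card_eq_fintype_card]; exact hF
  haveI : CharP F 2 := Agent.Invol.Nat2.charP_of_card (p := 2) (n := e) hF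
  obtain ⟨m1⟩ := Agent.Invol.NatPair.exists_mod L₁ _ φ₁ ψ₁ h₁ hJ₁
  obtain ⟨m2⟩ := Agent.Invol.NatPair.exists_mod L₂ _ φ₂ ψ₂ h₂ hJ₂
  obtain ⟨S, hS⟩ := hJ₁
  obtain ⟨T0, ⟨P⟩⟩ := Agent.Invol.NatPair.exists_pair hG e he hF' L₁ L₂ m1 m2 S hS hM₁ hM₂ T hO
  by_cases h2 : e = 2
  · exact Or.inl (P.sectional_le_four (by rw [hF', h2]; rfl))
  · refine Or.inr (P.gfitting_iso ?_)
    rw [hF']
    calc 8 = 2 ^ 3 := by norm_num
      _ ≤ 2 ^ e := Nat.pow_le_pow_right (by norm_num) (by omega)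

end Cfsg.Agent.S3091
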