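import Cfsg.Statements.S4218
import Cfsg.Agent.Lib.Grp.PSolvable
import Cfsg.Agent.Lib.Grp.Frattini
import Cfsg.Agent.Lib.Transfer.BurnsideBasis

set_option maxHeartbeats 1000000
set_option maxRecDepth 8000

set_option autoImplicit false
open Cfsg
open scoped commutatorElement

namespace Cfsg.Agent.S4218

/-- The automorphisms trivial modulo the Frattini subgroup form a subgroup of `p`-power order. -/
theorem exists_frattiniKernel {Q : Type*} [Group Q] [Finite Q] {p : ℕ} [Fact p.Prime] (hQ : IsPGroup p Q) :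
    ∃ A : Subgroup (MulAut Q), A.Normal ∧ (∀ α, α ∈ A ↔ ∀ w, α w * w⁻¹ ∈ frattini Q) ∧
      ∃ a : ℕ, Nat.card A ∣ p ^ a := by
  have hchar : ∀ (α : MulAut Q) (v : Q), v ∈ frattini Q → α v ∈ frattini Q := fun α v hv => by
    have h := (Subgroup.characteristic_iff_map_eq.1 (inferInstance : (frattini Q).Characteristic)) α
    rw [← h]
    exact Subgroup.mem_map_of_mem _ hv
  let A : Subgroup (MulAut Q) :=
    { carrier := {α | ∀ w, α w * w⁻¹ ∈ frattini Q}
      mul_mem' := fun {α β} hα hβ w => by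
        show α (β w) * w⁻¹ ∈ _
        have := mul_mem (hα (β w)) (hβ w)
        rwa [mul_assoc, inv_mul_cancel_left] at this
      one_mem' := fun w => by simp
      inv_mem' := fun {α} hα w => by
        show α.symm w * w⁻¹ ∈ _
        have := inv_mem (hα (α.symm w))
        rwa [MulEquiv.apply_symm_apply, mul_inv_rev, inv_inv] at this }
  refine ⟨A, ⟨fun α hα β w => ?_⟩, fun α => Iff.rfl, ?_⟩
  · show β (α (β.symm w)) * w⁻¹ ∈ _
    have h := hchar β _ (hα (β.symm w))
    rwa [map_mul, map_inv, MulEquiv.apply_symm_apply] at h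
  · obtain ⟨m, hm⟩ := IsPGroup.iff_card.1 (hQ.to_subgroup (frattini Q))
    refine ⟨m * Nat.card Q, ?_⟩
    let B : Set (Q → Q) := {y | ∀ i, i⁻¹ * y i ∈ frattini Q}
    have hB : Nat.card B = p ^ (m * Nat.card Q) := by
      have e : B ≃ (Q → frattini Q) :=
        { toFun := fun y i => ⟨i⁻¹ * (y : Q → Q) i, y.2 i⟩
          invFun := fun f => ⟨fun i => i * (f i : Q), fun i => by simp⟩
          left_inv := fun y => Subtype.ext (funext fun i => by simp)
          right_inv := fun f => funext fun i => Subtype.ext (by simp) }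
      rw [Nat.card_congr e, Nat.card_fun, hm, ← pow_mul]
    rw [← hB]
    refine Cfsg.Agent.Transfer.BurnsideBasis.card_dvd_of_generating A B (fun α hα y hy i => ?_)
      fun y hy => Cfsg.Agent.Transfer.BurnsideBasis.closure_eq_top_of_modFrattini (b := id)
        (by simp [Subgroup.closure_univ]) hy
    have h := mul_mem (hchar α _ (hy i)) (Subgroup.Normal.conj_mem inferInstance _ (hchar α _ (hy i)) 1)
    have hi : i⁻¹ * α i ∈ frattini Q := by
      have := Subgroup.Normal.conj_mem (inferInstance : (frattini Q).Normal) _ (hα i) i⁻¹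
      simpa [mul_assoc] using this
    show i⁻¹ * α (y i) ∈ _
    have h2 := mul_mem hi (hchar α _ (hy i))
    rwa [map_mul, map_inv, mul_assoc, mul_inv_cancel_left] at h2

/-- Let `G` be a finite `p`-solvable group, `N₀ = O_{p'}(G)`, `P₁ = O_{p',p}(G)`, and let `F ≤ P₁` be the preimage of the Frattini subgroup of `P₁/N₀`. Then an element `g` of `G` induces the identity on `P₁/F` by conjugation (that is, `g x g⁻¹ x⁻¹ ∈ F` for all `x ∈ P₁`) if and only if `g ∈ P₁`: the group `G/P₁` acts faithfully on `P₁/F`. -/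
theorem result {G : Type*} [Group G] [Finite G] {p : ℕ} [Fact p.Prime] (hG : Cfsg.IsPSolvable p G) (g : G) : (∀ x ∈ Cfsg.pPrimePCore p G, g * x * g⁻¹ * x⁻¹ ∈ ((frattini (↥(Cfsg.pPrimePCore p G) ⧸ (Cfsg.pPrimeCore p G).subgroupOf (Cfsg.pPrimePCore p G))).comap (QuotientGroup.mk' ((Cfsg.pPrimeCore p G).subgroupOf (Cfsg.pPrimePCore p G)))).map (Cfsg.pPrimePCore p G).subtype) ↔ g ∈ Cfsg.pPrimePCore p G := by

  set N := Cfsg.pPrimeCore p G with hN
  set P := Cfsg.pPrimePCore p G with hP
  haveI hNn : N.Normal := Cfsg.Agent.Grp.pPrimeCore_isNormal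
  haveI hPn : P.Normal := Subgroup.Normal.comap Cfsg.Agent.Grp.pCore_isNormal _
  set N' := N.subgroupOf P with hN'
  have hNP : N ≤ P := fun x hx => by
    show (QuotientGroup.mk x : G ⧸ N) ∈ Cfsg.pCore p (G ⧸ N)
    rw [(QuotientGroup.eq_one_iff x).2 hx]; exact one_mem _
  set F := ((frattini (P ⧸ N')).comap (QuotientGroup.mk' N')).map P.subtype with hF
  have hFmem : ∀ x : P, (x : G) ∈ F ↔ QuotientGroup.mk' N' x ∈ frattini (P ⧸ N') := fun x => by
    rw [hF]; exact Subgroup.mem_map_iff_mem P.subtype_injective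
  -- the quotient is a p-group
  set q := QuotientGroup.mk' N
  have hPmap : P.map q = Cfsg.pCore p (G ⧸ N) := Subgroup.map_comap_eq_self_of_surjective (QuotientGroup.mk'_surjective N) _
  obtain ⟨b, hb⟩ := IsPGroup.iff_card.1 (Cfsg.Agent.Grp.pCore_isPGroup (p := p) (G := G ⧸ N))
  have hQcard : Nat.card (P ⧸ N') = p ^ b := by
    have h1 := Subgroup.card_eq_card_quotient_mul_card_subgroup N'
    rw [Nat.card_congr (Subgroup.subgroupOfEquivOfLe hNP).toEquiv] at h1
    have h2 := Subgroup.card_eq_card_quotient_mul_card_subgroup N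
    have h3 : (Cfsg.pCore p (G ⧸ N)).index = P.index :=
      (Subgroup.index_comap_of_surjective _ (QuotientGroup.mk'_surjective N)).symm
    rw [← P.card_mul_index, ← (Cfsg.pCore p (G ⧸ N)).card_mul_index, hb, h3, h1] at h2
    exact Nat.eq_of_mul_eq_mul_right Nat.card_pos (Nat.eq_of_mul_eq_mul_right (Nat.pos_of_ne_zero Subgroup.index_ne_zero_of_finite)
      (h2.trans (mul_right_comm _ _ _)))
  have hQp : IsPGroup p (P ⧸ N') := IsPGroup.of_card hQcard
  constructor
  swap
  · intro hg x hx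
    have h1 : g * x * g⁻¹ * x⁻¹ ∈ P := mul_mem (mul_mem (mul_mem hg hx) (inv_mem hg)) (inv_mem hx)
    rw [show g * x * g⁻¹ * x⁻¹ = ((⟨g, hg⟩ * ⟨x, hx⟩ * ⟨g, hg⟩⁻¹ * ⟨x, hx⟩⁻¹ : P) : G) from rfl, hFmem]
    refine Cfsg.Agent.Grp.pGroup_commutator_le_frattini hQp ?_
    rw [map_mul, map_mul, map_mul, map_inv, map_inv]
    exact Subgroup.commutator_mem_commutator (Subgroup.mem_top _) (Subgroup.mem_top _)
  intro hgF
  obtain ⟨A, hAn, hA, a, ha⟩ := exists_frattiniKernel hQp
  have hN'map : ∀ g : G, N'.map (MulAut.conjNormal g : P ≃* P).toMonoidHom = N' := fun g => by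
    refine Subgroup.eq_of_le_of_card_ge ?_ (Subgroup.card_map_of_injective (MulEquiv.injective _)).ge
    rintro _ ⟨x, hx, rfl⟩
    show ((MulAut.conjNormal g x : P) : G) ∈ N
    rw [MulAut.conjNormal_apply]
    exact hNn.conj_mem _ hx g
  let ψ : G →* MulAut (P ⧸ N') :=
    { toFun := fun g => QuotientGroup.congr N' N' (MulAut.conjNormal g) (hN'map g)
      map_one' := by
        refine MulEquiv.ext fun w => ?_
        obtain ⟨x, rfl⟩ := QuotientGroup.mk_surjective w
        simp
      map_mul' := fun g h => by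
        refine MulEquiv.ext fun w => ?_
        obtain ⟨x, rfl⟩ := QuotientGroup.mk_surjective w
        simp only [map_mul, MulAut.mul_apply]
        rfl }
  have hψ : ∀ (g : G) (x : P), ψ g (x : P ⧸ N') = ((MulAut.conjNormal g x : P) : P ⧸ N') := fun g x => rfl
  set K := A.comap ψ with hK
  haveI hKn : K.Normal := hAn.comap ψ
  have hgK : g ∈ K := (hA _).2 fun w => by
    obtain ⟨x, rfl⟩ := QuotientGroup.mk_surjective w
    rw [hψ, ← QuotientGroup.mk_inv, ← QuotientGroup.mk_mul]
    refine (hFmem _).1 ?_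
    rw [Subgroup.coe_mul, MulAut.conjNormal_apply, Subgroup.coe_inv]
    exact hgF x x.2
  have hker : ψ.ker ≤ P := fun h hh => by
    show q h ∈ Cfsg.pCore p (G ⧸ N)
    refine Cfsg.Agent.Grp.centralizer_pCore_le_of_pSolvable (Cfsg.Agent.Grp.isPSolvable_map hG q (QuotientGroup.mk'_surjective N))
      Cfsg.Agent.Grp.pPrimeCore_quotient_eq_bot (Subgroup.mem_centralizer_iff.2 ?_)
    rw [← hPmap]
    rintro _ ⟨x, hx, rfl⟩
    have h1 : ((MulAut.conjNormal h ⟨x, hx⟩ : P) : P ⧸ N') = ((⟨x, hx⟩ : P) : P ⧸ N') := by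
      rw [← hψ, MonoidHom.mem_ker.1 hh]; rfl
    rw [QuotientGroup.eq, Subgroup.mem_subgroupOf] at h1
    simp only [Subgroup.coe_mul, Subgroup.coe_inv, MulAut.conjNormal_apply] at h1
    have h3 : q (h * x * h⁻¹) = q x := QuotientGroup.eq.2 h1
    rw [map_mul, map_mul, map_inv, mul_inv_eq_iff_eq_mul] at h3
    exact h3.symm
  -- the kernel of the action modulo the Frattini subgroup has p-power order over `N`
  have hcard : Nat.card K ∣ Nat.card N * p ^ (a + b) := by
    rw [← (ψ.comp K.subtype).ker.card_mul_index, Subgroup.index_ker]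
    have h1 : Nat.card (ψ.comp K.subtype).range ∣ p ^ a := by
      refine dvd_trans (Subgroup.card_dvd_of_le ?_) ha
      rintro _ ⟨x, rfl⟩; exact x.2
    have h2 : Nat.card (ψ.comp K.subtype).ker ∣ Nat.card N * p ^ b := by
      rw [← MonoidHom.comap_ker]
      refine dvd_trans (Subgroup.card_comap_dvd_of_injective _ K.subtype K.subtype_injective)
        (dvd_trans (Subgroup.card_dvd_of_le hker) ?_)
      rw [Subgroup.card_eq_card_quotient_mul_card_subgroup N', hQcard,
        Nat.card_congr (Subgroup.subgroupOfEquivOfLe hNP).toEquiv, mul_comm]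
    refine (mul_dvd_mul h2 h1).trans (dvd_of_eq ?_)
    rw [pow_add]; ring
  have hKq : IsPGroup p (K.map q) := by
    have hNK : N ≤ K := fun h hh => (hA _).2 fun w => by
      obtain ⟨x, rfl⟩ := QuotientGroup.mk_surjective w
      rw [hψ, ← QuotientGroup.mk_inv, ← QuotientGroup.mk_mul]
      suffices h0 : ((MulAut.conjNormal h x * x⁻¹ : P) : P ⧸ N') = 1 by
        rw [h0]; exact one_mem _
      rw [QuotientGroup.eq_one_iff, Subgroup.mem_subgroupOf, Subgroup.coe_mul, MulAut.conjNormal_apply,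
        Subgroup.coe_inv, mul_assoc, mul_assoc, ← mul_assoc (x : G)]
      exact mul_mem hh (hNn.conj_mem _ (inv_mem hh) x)
    have h1 : K.index = (K.map q).index := (Subgroup.index_map_eq _ (QuotientGroup.mk'_surjective N)
      (by rwa [QuotientGroup.ker_mk'])).symm
    have h2 := Subgroup.card_eq_card_quotient_mul_card_subgroup N
    rw [← K.card_mul_index, ← (K.map q).card_mul_index, h1, mul_right_comm] at h2
    have h3 := Nat.eq_of_mul_eq_mul_right (Nat.pos_of_ne_zero Subgroup.index_ne_zero_of_finite) h2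
    rw [h3, mul_comm (Nat.card N)] at hcard
    obtain ⟨j, -, hj⟩ := (Nat.dvd_prime_pow (Fact.out : p.Prime)).1 (Nat.dvd_of_mul_dvd_mul_right Nat.card_pos hcard)
    exact IsPGroup.of_card hj
  show q g ∈ Cfsg.pCore p (G ⧸ N)
  exact Cfsg.Agent.Grp.le_pCore (Subgroup.Normal.map hKn q (QuotientGroup.mk'_surjective N)) hKq (Subgroup.mem_map_of_mem q hgK)

end Cfsg.Agent.S4218
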