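import Cfsg.Statements.S3103
import Mathlib
import Cfsg.Agent.Lib.Recog.GL42
import Cfsg.Agent.Lib.Grp.Frattini
import Cfsg.Agent.Lib.Grp.Cores
import Cfsg.Agent.S4218
-- import your own Cfsg.Agent.* helpers here

set_option autoImplicit false
open Cfsg

namespace Cfsg.Agent.S3103

theorem elem_embed {V : Type*} [Group V] [Finite V] (hc : ∀ a b : V, a * b = b * a) (hp : ∀ a : V, a ^ 2 = 1)
    (h4 : Nat.card V ≤ 2 ^ 4) : ∃ f : MulAut V →* GL (Fin 4) (ZMod 2), Function.Injective f := by
  classical
  haveI : Fact (Nat.Prime 2) := ⟨Nat.prime_two⟩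
  letI : CommGroup V := { (inferInstance : Group V) with mul_comm := hc }
  letI : Module (ZMod 2) (Additive V) := AddCommGroup.zmodModule fun x => by
    show x.toMul ^ 2 = 1
    exact hp _
  haveI : Module.Finite (ZMod 2) (Additive V) := Module.Finite.of_finite
  have hd : Module.finrank (ZMod 2) (Additive V) ≤ 4 := by
    have h := Module.natCard_eq_pow_finrank (K := ZMod 2) (V := Additive V)
    rw [Nat.card_zmod] at h
    have hV : Nat.card (Additive V) = Nat.card V := rfl
    rw [hV] at h
    rw [h] at h4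
    exact (Nat.pow_le_pow_iff_right Nat.one_lt_two).mp h4
  set d := Module.finrank (ZMod 2) (Additive V)
  let W := Additive V × (Fin (4 - d) → ZMod 2)
  have hW : Module.finrank (ZMod 2) W = 4 := by
    rw [Module.finrank_prod, Module.finrank_fin_fun]; omega
  let b : Module.Basis (Fin 4) (ZMod 2) W := Module.finBasisOfFinrankEq (ZMod 2) W hW
  let lin : MulAut V → (W →ₗ[ZMod 2] W) := fun α =>
    ((MonoidHom.toAdditive α.toMonoidHom).toZModLinearMap 2).prodMap LinearMap.id
  have hlin : ∀ α β, lin (α * β) = lin α * lin β := fun α β => by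
    refine LinearMap.ext fun w => ?_
    rfl
  have hone : lin 1 = 1 := LinearMap.ext fun w => rfl
  let g : MulAut V →* (Matrix (Fin 4) (Fin 4) (ZMod 2))ˣ := MonoidHom.toHomUnits
    { toFun := fun α => LinearMap.toMatrix b b (lin α)
      map_one' := by rw [hone]; exact LinearMap.toMatrix_one b
      map_mul' := fun α β => by rw [hlin]; exact LinearMap.toMatrix_mul b _ _ }
  refine ⟨g, fun α β h => MulEquiv.ext fun v => ?_⟩
  have h1 : lin α = lin β := (LinearMap.toMatrix b b).injective (congrArg Units.val h)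
  exact congrArg (fun w : W => w.1.toMul) (LinearMap.congr_fun h1 (Additive.ofMul v, 0))

theorem frattini_card_le {Q : Type*} [Group Q] [Finite Q] (hQ : IsPGroup 2 Q) (h4 : SectionalPRankLE 2 4 Q) :
    Nat.card (Q ⧸ frattini Q) ≤ 2 ^ 4 ∧ (∀ a b : Q ⧸ frattini Q, a * b = b * a) ∧
      ∀ a : Q ⧸ frattini Q, a ^ 2 = 1 := by
  haveI : Fact (Nat.Prime 2) := ⟨Nat.prime_two⟩
  have hc : ∀ a b : Q ⧸ frattini Q, a * b = b * a := by
    have := Subgroup.Normal.quotient_commutative_iff_commutator_le.mpr (Cfsg.Agent.Grp.pGroup_commutator_le_frattini (p := 2) hQ)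
    exact mul_comm'
  have hp : ∀ a : Q ⧸ frattini Q, a ^ 2 = 1 := fun a => by
    obtain ⟨x, rfl⟩ := QuotientGroup.mk'_surjective _ a
    rw [← map_pow]
    exact (QuotientGroup.eq_one_iff _).mpr (Cfsg.Agent.Grp.pGroup_pow_mem_frattini hQ x)
  refine ⟨?_, hc, hp⟩
  let N : Subgroup (⊤ : Subgroup Q) := (frattini Q).subgroupOf ⊤
  let φ : (⊤ : Subgroup Q) →* Q ⧸ frattini Q := (QuotientGroup.mk' _).comp (⊤ : Subgroup Q).subtype
  have hφ : Function.Surjective φ := fun y => by
    obtain ⟨x, rfl⟩ := QuotientGroup.mk'_surjective _ y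
    exact ⟨⟨x, trivial⟩, rfl⟩
  have hN : φ.ker = N := by ext x; simp [φ, N, Subgroup.mem_subgroupOf]
  let e : (↥(⊤ : Subgroup Q)) ⧸ N ≃* Q ⧸ frattini Q :=
    (QuotientGroup.quotientMulEquivOfEq hN.symm).trans (QuotientGroup.quotientKerEquivOfSurjective φ hφ)
  have h := h4 ⊤ N ⊤ ⟨⟨fun a b => Subtype.ext (e.injective (by
    simp only [Subgroup.coe_mul, map_mul]; exact hc _ _))⟩⟩ (fun a _ => e.injective (by rw [map_pow, hp, map_one]))
  rwa [Subgroup.card_top, Nat.card_congr e.toEquiv] at h

/-- Let X be a finite 2-constrained group with no nontrivial normal subgroup of odd order such that O₂(X) has sectional 2-rank at most 4. Then X/O₂(X) is isomorphic to a subgroup of the alternating group of degree 8. -/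
theorem result {X : Type*} [Group X] [Finite X] (hc : Cfsg.IsPConstrained 2 X) (hO : Cfsg.oddCore X = ⊥)
    (h4 : Cfsg.SectionalPRankLE 2 4 ↥(Cfsg.pCore 2 X)) :
    ∃ f : X ⧸ Cfsg.pCore 2 X →* ↥(alternatingGroup (Fin 8)), Function.Injective f := by
  classical
  haveI : Fact (Nat.Prime 2) := ⟨Nat.prime_two⟩
  have hO' : pPrimeCore 2 X = ⊥ := hO
  set Q := pCore 2 X with hQdef
  haveI : Q.Normal := Cfsg.Agent.Grp.pCore_isNormal
  have hQp : IsPGroup 2 Q := Cfsg.Agent.Grp.pCore_isPGroup
  have hP : pPrimePCore 2 X = Q := by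
    let π := QuotientGroup.mk' (pPrimeCore 2 X)
    have hinj : Function.Injective π := by
      rw [← MonoidHom.ker_eq_bot_iff, QuotientGroup.ker_mk']; exact hO'
    apply le_antisymm
    · exact Cfsg.Agent.Grp.le_pCore (Subgroup.Normal.comap Cfsg.Agent.Grp.pCore_isNormal _)
        ((Cfsg.Agent.Grp.pCore_isPGroup).comap_of_injective π hinj)
    · refine Subgroup.map_le_iff_le_comap.mp ?_
      exact Cfsg.Agent.Grp.le_pCore ((inferInstance : Q.Normal).map _ (QuotientGroup.mk'_surjective _)) (hQp.map _)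
  have hcent : Subgroup.centralizer (Q : Set X) ≤ Q := by
    obtain ⟨P⟩ : Nonempty (Sylow 2 ↥(pPrimePCore 2 X)) := inferInstance
    have htop : (P : Subgroup ↥(pPrimePCore 2 X)) = ⊤ :=
      (P.3 ((hP ▸ hQp : IsPGroup 2 ↥(pPrimePCore 2 X)).to_subgroup ⊤) le_top).symm
    have h := hc P
    rwa [htop, ← MonoidHom.range_eq_map, Subgroup.range_subtype, hP] at h
  obtain ⟨h1, h2, h3⟩ := frattini_card_le hQp h4
  obtain ⟨f1, hf1⟩ := elem_embed h2 h3 h1
  obtain ⟨A, -, hA, a, ha⟩ := Cfsg.Agent.S4218.exists_frattiniKernel hQp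
  haveI : (frattini ↥Q).Characteristic := inferInstance
  have hmap : ∀ α : MulAut Q, (frattini Q).map α.toMonoidHom = frattini Q := fun α =>
    Subgroup.characteristic_iff_map_eq.mp inferInstance α
  let q : MulAut Q →* MulAut (Q ⧸ frattini Q) := MonoidHom.mk'
    (fun α => QuotientGroup.congr _ _ α (hmap α)) (fun α β => MulEquiv.ext fun x => by
      induction x using QuotientGroup.induction_on with
      | H z => rfl)
  let c : X →* MulAut Q := MulAut.conjNormal
  let ψ : X →* GL (Fin 4) (ZMod 2) := (f1.comp q).comp c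
  have hker : ψ.ker = Q := by
    apply le_antisymm
    · have hcA : ∀ x ∈ ψ.ker, c x ∈ A := by
        intro x hx
        rw [hA]
        intro w
        have h := hf1 ((MonoidHom.mem_ker.mp hx).trans (map_one f1).symm)
        have h' := DFunLike.congr_fun h (QuotientGroup.mk w : Q ⧸ frattini Q)
        have h'' : ((c x w : Q) : Q ⧸ frattini Q) = (w : Q ⧸ frattini Q) := h'
        rw [← QuotientGroup.eq_one_iff, QuotientGroup.mk_mul, h'', QuotientGroup.mk_inv, mul_inv_cancel]
      have hp : IsPGroup 2 ψ.ker := by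
        let c' : ψ.ker →* A := (c.comp ψ.ker.subtype).codRestrict A fun x => hcA x x.2
        obtain ⟨b, -, hb⟩ := (Nat.dvd_prime_pow Nat.prime_two).mp ha
        have hk : IsPGroup 2 c'.ker := by
          refine hQp.of_injective (((ψ.ker.subtype).comp c'.ker.subtype).codRestrict Q fun x => hcent ?_) ?_
          · refine Subgroup.mem_centralizer_iff.mpr fun y hy => ?_
            have hx : c' x.1 = 1 := x.2
            have := congrArg (fun (z : Q) => (z : X)) (DFunLike.congr_fun (congrArg Subtype.val hx) ⟨y, hy⟩)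
            simp only [c', c, MonoidHom.codRestrict_apply, MonoidHom.coe_comp, Function.comp_apply, Subgroup.subtype_apply,
              MulAut.conjNormal_apply, OneMemClass.coe_one, MulAut.one_apply] at this
            exact (mul_inv_eq_iff_eq_mul.mp this).symm
          · intro x y hxy
            exact Subtype.ext (Subtype.ext (congrArg (fun z : Q => (z : X)) hxy))
        obtain ⟨e, he⟩ := hk.exists_card_eq
        obtain ⟨r, hr⟩ := ((IsPGroup.of_card (G := A) hb).to_subgroup c'.range).exists_card_eq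
        refine IsPGroup.of_card (n := e + r) ?_
        rw [← c'.ker.card_mul_index, Subgroup.index_ker, he, hr, pow_add]
      exact Cfsg.Agent.Grp.le_pCore ψ.normal_ker hp
    · intro x hx
      have h1 : q (c x) = 1 := MulEquiv.ext fun z => by
        induction z using QuotientGroup.induction_on with
        | H w =>
          show ((c x w : Q) : Q ⧸ frattini Q) = (w : Q ⧸ frattini Q)
          rw [show c x w = (⟨x, hx⟩ : Q) * w * (⟨x, hx⟩ : Q)⁻¹ from Subtype.ext (MulAut.conjNormal_apply _ _),
            QuotientGroup.mk_mul, QuotientGroup.mk_mul, QuotientGroup.mk_inv, h2, inv_mul_cancel_left]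
      show f1 (q (c x)) = 1
      rw [h1, map_one]
  refine ⟨(Cfsg.Agent.Recog.GL42.homAlt.comp (QuotientGroup.kerLift ψ)).comp
    (QuotientGroup.quotientMulEquivOfEq hker.symm).toMonoidHom, ?_⟩
  exact (Cfsg.Agent.Recog.GL42.homAlt_injective.comp (QuotientGroup.kerLift_injective ψ)).comp (MulEquiv.injective _)

end Cfsg.Agent.S3103
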