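import Cfsg.Statements.S3113
import Cfsg.Agent.Lib.Transfer.Product.Split.Both
import Cfsg.Agent.Lib.Transfer.Product.Split.FourFinal

set_option autoImplicit false
open Cfsg

namespace Cfsg.Agent.S3113

open Cfsg.Agent.ProdFus Cfsg.Agent.ProdFus.Split

/-- The degree of a dihedral 2-group. -/
theorem degree_pow {G : Type*} [Group G] [Finite G] {A : Subgroup G} (h2 : IsPGroup 2 A) {m : ℕ}
    (e : A ≃* DihedralGroup m) : ∃ j, m = 2 ^ j := by
  haveI : Fact (Nat.Prime 2) := ⟨Nat.prime_two⟩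
  obtain ⟨n, hn⟩ := IsPGroup.iff_card.1 h2
  rw [Nat.card_congr e.toEquiv, DihedralGroup.nat_card] at hn
  obtain ⟨j, -, hj⟩ := (Nat.dvd_prime_pow Nat.prime_two).1 (Dvd.intro_left 2 hn : m ∣ 2 ^ n)
  exact ⟨j, hj⟩

/-- The data of a dihedral factor of degree at least three. -/
theorem exists_big {G : Type*} [Group G] [Finite G] {P : Sylow 2 G} {A B : Subgroup G}
    (hp : Pair P A B) {m : ℕ} (hm : 3 ≤ m) (e : A ≃* DihedralGroup m) :
    ∃ (R : Subgroup G) (r s a : G), Big P A B R r s a := by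
  obtain ⟨R, r, s, a, hd, hg⟩ := exists_dih (P.isPGroup'.to_le hp.leA) (by omega) e
  refine ⟨R, r, s, a, ⟨hp, hd, ?_, hg⟩⟩
  by_contra h4
  haveI : Fact (Nat.Prime 2) := ⟨Nat.prime_two⟩
  obtain ⟨k, hk⟩ := IsPGroup.iff_orderOf.1 P.isPGroup'
    ⟨r, hp.leA (hd.le (hd.gen ▸ Subgroup.mem_zpowers r))⟩
  rw [Subgroup.orderOf_mk] at hk
  have hrr : r * r = 1 := by
    rw [← pow_two]
    refine orderOf_dvd_iff_pow_eq_one.1 ?_
    rcases k with _ | _ | k
    · simp [hk]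
    · simp [hk]
    · exfalso; apply h4; rw [hk]; exact Nat.pow_le_pow_right two_pos (show 2 ≤ k + 1 + 1 by omega)
  have hsq : ∀ x ∈ A, x * x = 1 := fun x hx => by
    by_cases hR : x ∈ R
    · obtain ⟨i, rfl⟩ := Subgroup.mem_zpowers_iff.1 (hd.gen ▸ hR)
      rw [← (Commute.refl r).mul_zpow, hrr, one_zpow]
    · exact hd.sq_of_not_mem hx hR
  have h1 := congrArg e (Subtype.ext (hsq _ (e.symm (DihedralGroup.r 1)).2) :
    e.symm (DihedralGroup.r 1) * e.symm (DihedralGroup.r 1) = 1)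
  rw [map_mul, map_one, MulEquiv.apply_symm_apply, ← pow_two] at h1
  have := Nat.le_of_dvd two_pos (orderOf_dvd_of_pow_eq_one h1)
  rw [DihedralGroup.orderOf_r_one] at this
  omega

/-- A strongly closed factorization of the Sylow subgroup. -/
theorem exists_prod {G : Type*} [Group G] [Finite G]
    (h2 : ∀ N : Subgroup G, N.Normal → N.index ≠ 2) {P : Sylow 2 G} {A B : Subgroup G}
    (hp : Pair P A B) {m n : ℕ} (hm : 3 ≤ m) (hn : 2 ≤ n) (e : A ≃* DihedralGroup m)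
    (f : B ≃* DihedralGroup n) :
    ∃ A' B' : Subgroup G, Prod P A' B' ∧ Nonempty (A' ≃* DihedralGroup m) ∧
      Nonempty (B' ≃* DihedralGroup n) := by
  obtain ⟨j, rfl⟩ := degree_pow (P.isPGroup'.to_le hp.leA) e
  have hm2 : 2 ∣ 2 ^ j := by
    rcases j with _ | j
    · simp at hm
    · exact dvd_pow_self 2 (by omega)
  obtain ⟨R, r, s, a, hA⟩ := exists_big hp hm e
  by_cases hn2 : n = 2
  · subst hn2
    exact exists_prod_of_four h2 hm2 hA e f
  obtain ⟨R', r', s', b, hB⟩ := exists_big hp.swap (show 3 ≤ n by omega) f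
  obtain ⟨i, rfl⟩ := degree_pow (P.isPGroup'.to_le hp.leB) f
  have hn2' : 2 ∣ 2 ^ i := by
    rcases i with _ | i
    · simp at hn
    · exact dvd_pow_self 2 (by omega)
  exact exists_prod_of_both h2 hm2 hn2' ⟨hA, hB⟩ e f

/-- Let G be a finite group with no nontrivial normal subgroup of odd order, no proper normal subgroup of odd index and no normal subgroup of index 2, whose Sylow 2-subgroup S is non-abelian and is the internal direct product of two dihedral subgroups (each of order at least 4). Then G is the internal direct product of two normal subgroups G₁ and G₂, and for a suitable such factorization of S into dihedral subgroups S₁ × S₂ the factor Sᵢ is a Sylow 2-subgroup of Gᵢ for i = 1, 2. -/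
theorem result {G : Type*} [Group G] [Finite G] (hO : Cfsg.oddCore G = ⊥) (hidx : ∀ N : Subgroup G, N.Normal → Odd N.index → N = ⊤)
    (h2 : ∀ N : Subgroup G, N.Normal → N.index ≠ 2)
    (S : Sylow 2 G) (hS : ¬ IsMulCommutative ↥(S : Subgroup G))
    (D₁ D₂ : Subgroup G) (hD : Cfsg.IsInternalDirectProduct D₁ D₂ (S : Subgroup G))
    (hD₁ : ∃ m : ℕ, 2 ≤ m ∧ Nonempty (↥D₁ ≃* DihedralGroup m)) (hD₂ : ∃ m : ℕ, 2 ≤ m ∧ Nonempty (↥D₂ ≃* DihedralGroup m)) :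
    ∃ G₁ G₂ : Subgroup G, G₁.Normal ∧ G₂.Normal ∧ Cfsg.IsInternalDirectProduct G₁ G₂ ⊤ ∧
      ∃ S₁ S₂ : Subgroup G, Cfsg.IsInternalDirectProduct S₁ S₂ (S : Subgroup G) ∧
        (∃ m : ℕ, 2 ≤ m ∧ Nonempty (↥S₁ ≃* DihedralGroup m)) ∧ (∃ m : ℕ, 2 ≤ m ∧ Nonempty (↥S₂ ≃* DihedralGroup m)) ∧
        S₁ ≤ G₁ ∧ S₂ ≤ G₂ ∧ ¬ (2 ∣ (S₁.subgroupOf G₁).index) ∧ ¬ (2 ∣ (S₂.subgroupOf G₂).index) := by
  obtain ⟨-, -, hc, hd, hsup⟩ := hD
  obtain ⟨m, hm, ⟨e⟩⟩ := hD₁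
  obtain ⟨n, hn, ⟨f⟩⟩ := hD₂
  have hp : Pair S D₁ D₂ := ⟨fun x hx y hy => hc x hx y hy, hd, hsup⟩
  obtain ⟨A, B, hP, m', hm', ⟨e'⟩, n', hn', ⟨f'⟩⟩ :
      ∃ A B : Subgroup G, Prod S A B ∧ ∃ m', 2 ≤ m' ∧ Nonempty (A ≃* DihedralGroup m') ∧
        ∃ n', 2 ≤ n' ∧ Nonempty (B ≃* DihedralGroup n') := by
    by_cases hm2 : m = 2
    · by_cases hn2 : n = 2
      · exfalso
        refine hS ⟨⟨fun x y => Subtype.ext ?_⟩⟩
        subst hm2 hn2
        have key : ∀ y z : DihedralGroup 2, y * z = z * y := by decide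
        have hAc : ∀ {D : Subgroup G}, (D ≃* DihedralGroup 2) → ∀ u ∈ D, ∀ v ∈ D, Commute u v :=
          fun {D} q u hu v hv => congrArg Subtype.val
            (q.injective (by rw [map_mul, map_mul, key]) :
              (⟨u, hu⟩ : D) * ⟨v, hv⟩ = ⟨v, hv⟩ * ⟨u, hu⟩)
        obtain ⟨u, hu, v, hv, ex⟩ := hp.split x.2
        obtain ⟨u', hu', v', hv', ey⟩ := hp.split y.2
        rw [Subgroup.coe_mul, Subgroup.coe_mul, ex, ey]
        exact ((hp.commute_iff hu hv hu' hv').2 ⟨hAc e u hu u' hu', hAc f v hv v' hv'⟩).eq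
      · obtain ⟨A', B', hP, he, hf⟩ := exists_prod h2 hp.swap (show 3 ≤ n by omega) hm f e
        exact ⟨A', B', hP, n, hn, he, m, hm, hf⟩
    · obtain ⟨A', B', hP, he, hf⟩ := exists_prod h2 hp (show 3 ≤ m by omega) hn e f
      exact ⟨A', B', hP, m, hm, he, n, hn, hf⟩
  have hA : A ≤ (S : Subgroup G) := hP.sup ▸ le_sup_left
  have hB : B ≤ (S : Subgroup G) := hP.sup ▸ le_sup_right
  obtain ⟨R₁, r₁, s₁, a₁, E₁, g₁⟩ := exists_dih (S.isPGroup'.to_le hA) hm' e'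
  obtain ⟨R₂, r₂, s₂, a₂, E₂, g₂⟩ := exists_dih (S.isPGroup'.to_le hB) hn' f'
  obtain ⟨hG, ho₁, ho₂⟩ := normal_product hO hidx hP E₁ E₂ g₁ g₂
  refine ⟨_, _, Subgroup.normalClosure_normal, Subgroup.normalClosure_normal, hG, A, B,
    ⟨hA, hB, fun x hx y hy => (hP.comm x hx y hy).eq, hP.disj, hP.sup⟩, ⟨m', hm', ⟨e'⟩⟩,
    ⟨n', hn', ⟨f'⟩⟩, Subgroup.le_normalClosure, Subgroup.le_normalClosure, ?_, ?_⟩
  · exact (Nat.not_even_iff_odd.2 ho₁) ∘ fun hd => even_iff_two_dvd.2 hd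
  · exact (Nat.not_even_iff_odd.2 ho₂) ∘ fun hd => even_iff_two_dvd.2 hd

end Cfsg.Agent.S3113
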