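import Cfsg.Statements.S3117
import Mathlib
import Cfsg.Agent.Lib.Recog.ThreeInvolutions
-- import your own Cfsg.Agent.* helpers here

set_option autoImplicit false
open Cfsg

namespace Cfsg.Agent.S3117

/-- If X is a finite 2-group containing exactly three involutions, then the automorphism group of X is solvable. -/
theorem result {X : Type*} [Group X] [Finite X] (h2 : IsPGroup 2 X) (h3 : Nat.card {x : X // orderOf x = 2} = 3) : Group.IsSolvable (MulAut X) := by
  classical
  haveI : Fact (Nat.Prime 2) := ⟨Nat.prime_two⟩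
  have hI4 : Nat.card {x : X // x ^ 2 = 1} ≤ 4 := by
    haveI := Fintype.ofFinite X
    have hsub : (Finset.univ.filter fun x : X => x ^ 2 = 1) ⊆ insert 1 (Finset.univ.filter fun x : X => orderOf x = 2) := by
      intro x hx
      simp only [Finset.mem_filter, Finset.mem_univ, true_and] at hx
      rw [Finset.mem_insert, Finset.mem_filter]
      by_cases h : x = 1
      · exact Or.inl h
      · exact Or.inr ⟨Finset.mem_univ _, orderOf_eq_prime hx h⟩
    have := (Finset.card_le_card hsub).trans (Finset.card_insert_le _ _)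
    rw [Nat.card_eq_fintype_card, Fintype.card_subtype] at h3
    rw [Nat.card_eq_fintype_card, Fintype.card_subtype]
    omega
  haveI : Nontrivial X := by
    obtain ⟨⟨x, hx⟩⟩ : Nonempty {x : X // orderOf x = 2} := (Nat.card_pos_iff.mp (by omega)).1
    exact ⟨x, 1, fun h => by rw [h, orderOf_one] at hx; omega⟩
  haveI := h2.center_nontrivial
  obtain ⟨z, hz⟩ : ∃ z : Subgroup.center X, orderOf z = 2 := by
    refine exists_prime_orderOf_dvd_card' 2 ?_
    obtain ⟨n, hn⟩ := IsPGroup.iff_card.mp (h2.to_subgroup (Subgroup.center X))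
    rw [hn]
    refine dvd_pow_self 2 fun h => ?_
    rw [h, pow_zero] at hn
    exact absurd hn (Finite.one_lt_card (α := Subgroup.center X)).ne'
  have hzc : ∀ x : X, x * (z : X) = (z : X) * x := fun x => Subgroup.mem_center_iff.mp z.2 x
  have hz2 : (z : X) ^ 2 = 1 := by rw [← hz, ← Subgroup.orderOf_coe]; exact pow_orderOf_eq_one _
  have hz1 : (z : X) ≠ 1 := fun h => by rw [← Subgroup.orderOf_coe, h, orderOf_one] at hz; omega
  have hcommI : ∀ s t : X, s ^ 2 = 1 → t ^ 2 = 1 → s * t = t * s := by
    intro s t hs ht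
    by_contra hne
    haveI := Fintype.ofFinite X
    have h1 : s ≠ 1 := fun h => hne (by rw [h]; simp)
    have h2' : t ≠ 1 := fun h => hne (by rw [h]; simp)
    have h3' : s ≠ t := fun h => hne (by rw [h])
    have h4 : s ≠ z := fun h => hne (by rw [h, hzc])
    have h5 : t ≠ z := fun h => hne (by rw [h, hzc])
    have h6 : s * z ≠ t := fun h => hne (by rw [← h, mul_assoc s (z : X) s, ← hzc s, ← mul_assoc])
    have h7 : ({1, (z : X), s, t, s * z} : Finset X).card ≤ 4 := by
      refine (Finset.card_le_card (fun x hx => ?_ : _ ⊆ Finset.univ.filter fun x : X => x ^ 2 = 1)).trans ?_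
      · rw [Finset.mem_filter]
        simp only [Finset.mem_insert, Finset.mem_singleton] at hx
        refine ⟨Finset.mem_univ _, ?_⟩
        rcases hx with rfl | rfl | rfl | rfl | rfl
        exacts [one_pow _, hz2, hs, ht, by rw [(show Commute s (z : X) from hzc s).mul_pow, hs, hz2, one_mul]]
      · rw [← Fintype.card_subtype, ← Nat.card_eq_fintype_card]; exact hI4
    have h8 : s * (z : X) ≠ 1 := fun h => h4 (by
      calc s = s * ((z : X) * z) := by rw [← sq, hz2, mul_one]
        _ = z := by rw [← mul_assoc, h, one_mul])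
    rw [Finset.card_insert_of_notMem (by simp [Ne.symm hz1, h1.symm, h2'.symm, Ne.symm h8]),
      Finset.card_insert_of_notMem (by simp [Ne.symm h4, Ne.symm h5, h1]),
      Finset.card_insert_of_notMem (by simp [h3', hz1]), Finset.card_pair (Ne.symm h6)] at h7
    omega
  -- the centralizer of the involutions
  let H : Subgroup X := Subgroup.centralizer {x : X | x ^ 2 = 1}
  haveI hH : H.Characteristic := by
    refine Subgroup.characteristic_iff_le_comap.mpr fun φ x hx => ?_
    show φ x ∈ H
    refine Subgroup.mem_centralizer_iff.mpr fun s hs => ?_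
    have hs' : (φ.symm s) ^ 2 = 1 := by rw [← map_pow, show s ^ 2 = 1 from hs, map_one]
    have := congrArg φ (Subgroup.mem_centralizer_iff.mp hx _ hs')
    simpa using this
  have hIH : ∀ x : X, x ^ 2 = 1 → x ∈ H := fun x hx => Subgroup.mem_centralizer_iff.mpr fun s hs => hcommI s x hs hx
  have hCH : Subgroup.centralizer (H : Set X) ≤ H := Subgroup.centralizer_le fun x hx => hIH x hx
  refine Cfsg.Agent.Recog.ThreeInv.solvable_of_critical h2 H hCH ?_
  obtain ⟨K, hK, hK1, hK2, hK3⟩ := Cfsg.Agent.Invol.exists_critical (h2.to_subgroup H)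
  haveI := hK
  refine Cfsg.Agent.Recog.ThreeInv.solvable_of_critical (h2.to_subgroup H) K hK3 ?_
  have hcen : ∀ k : K, (k : H) ∈ K ⊓ Subgroup.centralizer (K : Set H) → k ∈ Subgroup.center K := fun k hk =>
    Subgroup.mem_center_iff.mpr fun m => Subtype.ext (Subgroup.mem_centralizer_iff.mp hk.2 _ m.2)
  refine Cfsg.Agent.Recog.ThreeInv.aut_solvable_class_two ((h2.to_subgroup H).to_subgroup K) (fun x y => hcen _ ?_)
    (fun x => hcen _ (by simpa using hK2 x x.2)) (fun x hx => ?_) ?_
  · have h := hK1 (Subgroup.commutator_mem_commutator (inv_mem x.2) (Subgroup.mem_top ((y : H)⁻¹)))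
    simpa [commutatorElement_def, mul_assoc] using h
  · have hx' : ((x : H) : X) ^ 2 = 1 := by
      have := congrArg (fun k : K => ((k : H) : X)) hx
      simpa using this
    refine Subgroup.mem_center_iff.mpr fun m => Subtype.ext (Subtype.ext ?_)
    exact (Subgroup.mem_centralizer_iff.mp (m : H).2 _ hx').symm
  · refine le_trans (Nat.card_le_card_of_injective (fun x : {x : K // x ^ 2 = 1} => (⟨((x.1 : H) : X), by
      have := congrArg (fun k : K => ((k : H) : X)) x.2
      simpa using this⟩ : {x : X // x ^ 2 = 1})) fun a b h => Subtype.ext (Subtype.ext (Subtype.ext (Subtype.mk.inj h)))) hI4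

end Cfsg.Agent.S3117
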