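import Cfsg.Statements.S3120
import Cfsg.Agent.Lib.Fus.OddTwoTrans.Main
import Cfsg.Agent.S1728

set_option autoImplicit false
open Cfsg

namespace Cfsg.Agent.S3120

/-- Let G be a finite group acting faithfully and doubly transitively on a finite set Ω of odd size, and suppose that the Sylow 2-subgroups of the stabilizer of two points are cyclic or generalized quaternion. Then either G has a normal subgroup acting regularly on Ω, or G has a unique minimal normal subgroup L with trivial centralizer in G (so that G embeds in the automorphism group of L), and L is isomorphic to a projective special linear group of dimension 2, a Suzuki group or a projective special unitary group of dimension 3 over a field of characteristic 2, with Ω of size q + 1, q² + 1 or q³ + 1 respectively (q the order of the field, respectively the parameter of the unitary group), or Ω has 11 points and L is isomorphic to the projective special linear group of dimension 2 over the field with 11 elements or to the Mathieu group of degree 11. -/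
theorem result {G Ω : Type*} [Group G] [Finite G] [Fintype Ω] [MulAction G Ω] [FaithfulSMul G Ω]
    (hodd : Odd (Fintype.card Ω))
    (h2t : ∀ a b c d : Ω, a ≠ b → c ≠ d → ∃ g : G, g • a = c ∧ g • b = d)
    (a b : Ω) (hab : a ≠ b)
    (hS : ∀ S : Sylow 2 ↥(MulAction.stabilizer G a ⊓ MulAction.stabilizer G b),
      IsCyclic ↥(S : Subgroup ↥(MulAction.stabilizer G a ⊓ MulAction.stabilizer G b)) ∨
        ∃ n : ℕ, Nonempty (↥(S : Subgroup ↥(MulAction.stabilizer G a ⊓ MulAction.stabilizer G b)) ≃* QuaternionGroup (2 ^ (n + 1)))) :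
    (∃ N : Subgroup G, N.Normal ∧ (∀ x y : Ω, ∃ n ∈ N, n • x = y) ∧ ∀ x : Ω, ∀ n ∈ N, n • x = x → n = 1) ∨
      (∃ L : Subgroup G, L.Normal ∧ L ≠ ⊥ ∧ (∀ N : Subgroup G, N.Normal → N ≠ ⊥ → L ≤ N) ∧
        Subgroup.centralizer (L : Set G) = ⊥ ∧
        ((∃ (F : Type) (_ : Field F) (_ : Fintype F), ringChar F = 2 ∧ Fintype.card Ω = Fintype.card F + 1 ∧
            Nonempty (↥L ≃* Matrix.ProjectiveSpecialLinearGroup (Fin 2) F)) ∨
          (∃ (F : Type) (_ : Field F) (_ : Fintype F) (m : ℕ), 1 ≤ m ∧ Fintype.card F = 2 ^ (2 * m + 1) ∧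
            Fintype.card Ω = Fintype.card F ^ 2 + 1 ∧ Nonempty (↥L ≃* ↥(Cfsg.Lie.Sz F (2 ^ (m + 1))))) ∨
          (∃ (F : Type) (_ : Field F) (_ : Fintype F) (q : ℕ), Even q ∧ Fintype.card F = q ^ 2 ∧ Fintype.card Ω = q ^ 3 + 1 ∧
            Nonempty (↥L ≃* Cfsg.PSU 3 F q)) ∨
          (Fintype.card Ω = 11 ∧ ((∃ (F : Type) (_ : Field F) (_ : Fintype F), Fintype.card F = 11 ∧
              Nonempty (↥L ≃* Matrix.ProjectiveSpecialLinearGroup (Fin 2) F)) ∨ Cfsg.Spor.IsoM11 ↥L)))) := by
  exact Cfsg.Agent.Fus.OddTwoTrans.main (fun K _ _ _ hna hc => Cfsg.Agent.S1728.result hna hc) hodd h2t a b hab hS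

end Cfsg.Agent.S3120
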