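import Cfsg.Statements.S3125
import Cfsg.Agent.Lib.Invol.KInfTransfer
import Cfsg.Agent.S0144
-- import your own Cfsg.Agent.* helpers here

set_option autoImplicit false
open Cfsg

namespace Cfsg.Agent.S3125

universe u

/-- Glauberman: for `p ≥ 5`, a self-normalizing nontrivial Sylow subgroup is not inside the derived group. -/
theorem not_le_commutator (p : ℕ) [Fact p.Prime] (hp5 : 5 ≤ p) : ∀ (n : ℕ) (G : Type u) [Group G] [Finite G],
    Nat.card G = n → ∀ S : Sylow p G, (S : Subgroup G) ≠ ⊥ →
      Subgroup.normalizer ((S : Subgroup G) : Set G) = S → ¬ (S : Subgroup G) ≤ commutator G := by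
  intro n
  induction n using Nat.strong_induction_on with
  | _ n ih =>
    intro G _ _ hn S hne hN hle
    set W := Cfsg.inducedFunctor Cfsg.kInfUpper (S : Subgroup G) with hW
    have hctrl := Invol.inf_commutator_eq_of_transferCtrl
      (Invol.transferCtrl_kInfUpper hp5 (G := G) G (Invol.IsSectionOf.refl G)) S
    have hFun := Invol.KInf.isCharPFunctor_kInfUpper.{u} p
    have hWne : W ≠ ⊥ := Invol.inducedFunctor_ne_bot hFun S.isPGroup' hne
    have hWS : W ≤ (S : Subgroup G) := Invol.inducedFunctor_le _ _
    set H := Subgroup.normalizer (W : Set G) with hH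
    have hSH : (S : Subgroup G) ≤ H :=
      hN ▸ Invol.normalizer_le_normalizer_inducedFunctor hFun S.isPGroup'
    by_cases htop : H = ⊤
    · haveI : W.Normal := Subgroup.normalizer_eq_top_iff.1 htop
      set f := QuotientGroup.mk' W
      have hf : Function.Surjective f := QuotientGroup.mk'_surjective W
      have hlt : Nat.card (G ⧸ W) < n := by
        rw [← hn, Subgroup.card_eq_card_quotient_mul_card_subgroup W]
        refine lt_mul_of_one_lt_right Nat.card_pos ?_
        haveI := (Subgroup.nontrivial_iff_ne_bot W).2 hWne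
        exact Finite.one_lt_card
      set T := S.mapSurjective hf with hT
      have hTc : (T : Subgroup (G ⧸ W)) = (S : Subgroup G).map f := rfl
      by_cases hTb : (T : Subgroup (G ⧸ W)) = ⊥
      · rw [hTc, Subgroup.map_eq_bot_iff, QuotientGroup.ker_mk'] at hTb
        have hSW : (S : Subgroup G) = W := le_antisymm hTb hWS
        have hStop : (S : Subgroup G) = ⊤ := by rw [← hN, hSW]; exact htop
        have hG : IsPGroup p G := fun g => by
          obtain ⟨k, hk⟩ := S.isPGroup' ⟨g, hStop ▸ Subgroup.mem_top g⟩
          exact ⟨k, congrArg Subtype.val hk⟩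
        haveI := hG.isNilpotent
        haveI : Nontrivial G := (Subgroup.nontrivial_iff_ne_bot _).2 hne |>.exists_pair_ne.elim
          fun a h => h.elim fun b hab => ⟨⟨a, b, fun e => hab (Subtype.ext e)⟩⟩
        exact (IsSolvable.commutator_lt_top_of_nontrivial G).ne (top_le_iff.1 (hStop ▸ hle))
      · refine ih _ hlt (G ⧸ W) rfl T hTb ?_ ?_
        · refine le_antisymm (fun y hy => ?_) Subgroup.le_normalizer
          obtain ⟨g, rfl⟩ := hf y
          rw [hTc] at hy ⊢
          refine ⟨g, ?_, rfl⟩
          have hg : g ∈ (Subgroup.normalizer (((S : Subgroup G).map f : Subgroup (G ⧸ W)) : Set (G ⧸ W))).comap f := hy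
          rw [Subgroup.comap_normalizer_eq_of_surjective _ hf, Subgroup.comap_map_eq,
            QuotientGroup.ker_mk', sup_eq_left.2 hWS, hN] at hg
          exact hg
        · rw [hTc]
          refine (Subgroup.map_mono hle).trans ?_
          rw [commutator_def, commutator_def, Subgroup.map_commutator,
            Subgroup.map_top_of_surjective f hf]
    · have hlt : Nat.card H < n := by
        rw [← hn]
        exact (Nat.le_of_dvd Nat.card_pos (Subgroup.card_subgroup_dvd_card H)).lt_of_ne
          fun e => htop (Subgroup.eq_top_of_card_eq H e)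
      set T := S.subtype hSH
      refine ih _ hlt H rfl T ?_ ?_ ?_
      · intro hb
        refine hne (eq_bot_iff.2 fun x hx => ?_)
        have h1 : (⟨x, hSH hx⟩ : H) ∈ (T : Subgroup H) := hx
        rw [hb, Subgroup.mem_bot] at h1
        exact congrArg Subtype.val h1
      · refine le_antisymm (fun x hx => ?_) Subgroup.le_normalizer
        show (x : G) ∈ (S : Subgroup G)
        rw [← hN, Subgroup.mem_normalizer_iff]
        intro y
        constructor
        · intro hy
          exact ((Subgroup.mem_normalizer_iff.1 hx ⟨y, hSH hy⟩).1 hy : _)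
        · intro hy
          have hyH : y ∈ H := by
            have h2 := mul_mem (mul_mem (inv_mem x.2) (hSH hy)) x.2
            simpa [mul_assoc] using h2
          exact ((Subgroup.mem_normalizer_iff.1 hx ⟨y, hyH⟩).2 hy : _)
      · intro x hx
        have h1 : (x : G) ∈ (S : Subgroup G) ⊓ commutator G := ⟨hx, hle hx⟩
        rw [hctrl] at h1
        have h2 := h1.2
        rw [show ⁅H, H⁆ = (commutator H).map H.subtype by
          rw [commutator_def, Subgroup.map_commutator, ← MonoidHom.range_eq_map, Subgroup.range_subtype]] at h2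
        obtain ⟨y, hy, hyx⟩ := h2
        rwa [← H.subtype_injective hyx]


/-- Let G be a finite group such that, for every prime p dividing the order of G, every Sylow p-subgroup of G is its own normalizer. Then G is not a non-abelian simple group. -/
theorem result {G : Type*} [Group G] [Finite G]
    (h : ∀ p : ℕ, p.Prime → p ∣ Nat.card G → ∀ P : Sylow p G, Subgroup.normalizer ((P : Subgroup G) : Set G) = P) :
    ¬ (IsSimpleGroup G ∧ ¬ IsMulCommutative G) := by
  rintro ⟨hs, hna⟩
  haveI := hs
  by_cases hp : ∃ p : ℕ, p.Prime ∧ 5 ≤ p ∧ p ∣ Nat.card G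
  · obtain ⟨p, hp, hp5, hdvd⟩ := hp
    haveI : Fact p.Prime := ⟨hp⟩
    let S : Sylow p G := default
    refine not_le_commutator p hp5 _ G rfl S (S.ne_bot_of_dvd_card hdvd) (h p hp hdvd S) ?_
    rcases hs.eq_bot_or_eq_top_of_normal (commutator G) inferInstance with hb | ht
    · exact absurd ⟨⟨fun a b => commutatorElement_eq_one_iff_mul_comm.1 ((Subgroup.mem_bot).1
        (hb ▸ Subgroup.commutator_mem_commutator (Subgroup.mem_top a) (Subgroup.mem_top b)))⟩⟩ hna
    · exact ht ▸ le_top
  push Not at hp
  have hfac : ∀ q : ℕ, q.Prime → q ∣ Nat.card G → q = 2 ∨ q = 3 := fun q hq hd => by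
    by_contra hne
    push Not at hne
    have h2 := hq.two_le
    have h4 : q ≠ 4 := fun e => by rw [e] at hq; norm_num at hq
    exact hp q hq (by omega) hd
  obtain ⟨a, b, hab⟩ : ∃ a b : ℕ, Nat.card G = 2 ^ a * 3 ^ b := by
    refine ⟨(Nat.card G).factorization 2, (Nat.card G).factorization 3, ?_⟩
    conv_lhs => rw [← Nat.prod_factorization_pow_eq_self (Nat.card_pos (α := G)).ne']
    rw [Finsupp.prod_of_support_subset _ (s := {2, 3}) (fun q hq => ?_) _ (fun i _ => pow_zero i),
      Finset.prod_pair (by norm_num)]
    rw [Nat.support_factorization, Nat.mem_primeFactors] at hq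
    simpa using hfac q hq.1 hq.2.1
  haveI : Group.IsSolvable G := Cfsg.Agent.S0144.result 2 3 a b Nat.prime_two Nat.prime_three hab
  haveI : Nontrivial G := hs.toNontrivial
  refine (IsSolvable.commutator_lt_top_of_nontrivial G).ne ?_
  rcases hs.eq_bot_or_eq_top_of_normal (commutator G) inferInstance with hb | ht
  · exact absurd ⟨⟨fun a b => commutatorElement_eq_one_iff_mul_comm.1 ((Subgroup.mem_bot).1
      (hb ▸ Subgroup.commutator_mem_commutator (Subgroup.mem_top a) (Subgroup.mem_top b)))⟩⟩ hna
  · exact ht

end Cfsg.Agent.S3125
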