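import Cfsg.Statements.S3153
import Cfsg.Agent.Lib.Grp.CoprimeAbelian
import Cfsg.Agent.Lib.Grp.Components
-- import your own Cfsg.Agent.* helpers here

set_option autoImplicit false
open Cfsg Cfsg.Agent

namespace Cfsg.Agent.S3153

open Subgroup
open scoped commutatorElement

variable {X : Type*} [Group X] [Finite X]

theorem commute_of_fixed_eq (O : Subgroup X) [hOn : O.Normal] (hO : Odd (Nat.card O)) {t t' : X} (ht : t * t = 1)
    (ht' : t' * t' = 1) (hc : t * t' = t' * t) (hne : t' ≠ t) (ht1 : t ≠ 1) (ht'1 : t' ≠ 1)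
    (hfix : ∀ x ∈ O, (x * t = t * x ↔ x * t' = t' * x)) :
    ∀ x ∈ O, x * (t * t') = (t * t') * x := by
  let E : Subgroup X :=
    { carrier := {1, t, t', t * t'}
      one_mem' := Or.inl rfl
      mul_mem' := by
        have e1 : t * (t * t') = t' := by rw [← mul_assoc, ht, one_mul]
        have e2 : t' * (t * t') = t := by rw [hc, ← mul_assoc, ht', one_mul]
        have e3 : t * t' * t = t' := by rw [hc, mul_assoc, ht, mul_one]
        have e4 : t * t' * t' = t := by rw [mul_assoc, ht', mul_one]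
        have e5 : t * t' * (t * t') = 1 := by rw [← mul_assoc, e3, ht']
        rintro a b (rfl | rfl | rfl | rfl) (rfl | rfl | rfl | rfl) <;>
          simp [ht, ht', ← hc, e1, e2, e3, e4, e5]
      inv_mem' := by
        rintro a (rfl | rfl | rfl | rfl) <;>
          simp [inv_eq_of_mul_eq_one_right ht, inv_eq_of_mul_eq_one_right ht', hc] }
  have hmem : ∀ a, a ∈ E ↔ a = 1 ∨ a = t ∨ a = t' ∨ a = t * t' := fun a => Iff.rfl
  have hEc : ∀ a ∈ E, ∀ b ∈ E, a * b = b * a := by
    have c1 : Commute t t' := hc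
    have c2 : Commute t (t * t') := (Commute.refl t).mul_right c1
    have c3 : Commute t' (t * t') := c1.symm.mul_right (Commute.refl t')
    rintro a (rfl | rfl | rfl | rfl) b (rfl | rfl | rfl | rfl) <;>
      first
      | exact (Commute.refl _).eq
      | exact (Commute.one_left _).eq
      | exact (Commute.one_right _).eq
      | exact c1.eq
      | exact c1.eq.symm
      | exact c2.eq
      | exact c2.eq.symm
      | exact c3.eq
      | exact c3.eq.symm
  haveI : IsMulCommutative E := ⟨⟨fun a b => Subtype.ext (hEc a a.2 b b.2)⟩⟩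
  have hsq : ∀ a : E, a * a = 1 := fun a => Subtype.ext (by
    rcases (hmem a).1 a.2 with e | e | e | e <;> show (a : X) * a = 1 <;> rw [e]
    · exact one_mul 1
    · exact ht
    · exact ht'
    · calc t * t' * (t * t') = t * (t' * t) * t' := by group
        _ = (t * t) * (t' * t') := by rw [← hc]; group
        _ = 1 := by rw [ht, ht', one_mul])
  have hne' : (⟨t, Or.inr (Or.inl rfl)⟩ : E) ≠ ⟨t', Or.inr (Or.inr (Or.inl rfl))⟩ := fun e =>
    hne (congrArg Subtype.val e).symm
  have hcyc : ¬ IsCyclic E := fun hcy => by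
    obtain ⟨γ, hγ⟩ := hcy.exists_generator
    have hsmall : ∀ a : E, a = 1 ∨ a = γ := fun a => by
      obtain ⟨k, rfl⟩ := hγ a
      rcases Int.even_or_odd k with ⟨j, rfl⟩ | ⟨j, rfl⟩
      · exact Or.inl (by show γ ^ (j + j) = 1; rw [← two_mul, _root_.zpow_mul, zpow_two, hsq, one_zpow])
      · exact Or.inr (by show γ ^ (2 * j + 1) = γ; rw [zpow_add, _root_.zpow_mul, zpow_two, hsq, one_zpow, one_mul, zpow_one])
    rcases hsmall ⟨t, Or.inr (Or.inl rfl)⟩ with e | e
    · exact ht1 (congrArg Subtype.val e)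
    rcases hsmall ⟨t', Or.inr (Or.inr (Or.inl rfl))⟩ with e' | e'
    · exact ht'1 (congrArg Subtype.val e')
    · exact hne' (e.trans e'.symm)
  haveI : Fact (Nat.Prime 2) := ⟨Nat.prime_two⟩
  have hEp : IsPGroup 2 E := fun a => ⟨1, by rw [pow_one, pow_two]; exact hsq a⟩
  obtain ⟨n, hn⟩ := IsPGroup.iff_card.1 hEp
  have hgen := Grp.generated_by_centralizers E O hcyc (by rw [Subgroup.normalizer_eq_top]; exact le_top)
    (hn ▸ Nat.Coprime.pow_left n hO.coprime_two_left)
  intro x hx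
  rw [← mem_centralizer_singleton_iff]
  refine (le_of_eq_of_le hgen.symm ?_) hx
  refine iSup₂_le fun a ha y hy => ?_
  have hya := mem_centralizer_singleton_iff.1 hy.2
  rw [mem_centralizer_singleton_iff]
  rcases (hmem a).1 ha.1 with e | e | e | e
  · exact absurd e ha.2
  · have h1 : Commute y t := e ▸ hya
    exact (h1.mul_right ((hfix y hy.1).1 h1)).eq
  · have h1 : Commute y t' := e ▸ hya
    exact ((show Commute y t from (hfix y hy.1).2 h1).mul_right h1).eq
  · rw [← e]; exact hya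

/-- Let X be a finite group and P a standard subgroup of X whose centralizer has 2-rank at most 1 and whose centre has odd order. Let S be a Sylow 2-subgroup of N_X(P) and t an involution of S centralizing P. Suppose some element g of X normalizes S, does not lie in S, has its square in S, and conjugates t into P·C_X(P). Then P commutes elementwise with the largest normal odd-order subgroup O(X) of X; consequently every t-invariant 2-component of X containing P is quasisimple. -/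
theorem result {X : Type*} [Group X] [Finite X] (P : Subgroup X) (hP : Cfsg.IsStandardSubgroup P)
    (hr : Cfsg.PRankLE 2 1 ↥(Subgroup.centralizer (P : Set X))) (hZ : Odd (Nat.card ↥(Subgroup.center ↥P)))
    (S : Sylow 2 ↥(Subgroup.normalizer (P : Set X))) (t : X) (ht : orderOf t = 2) (htS : t ∈ (S : Subgroup ↥(Subgroup.normalizer (P : Set X))).map (Subgroup.normalizer (P : Set X)).subtype)
    (htP : t ∈ Subgroup.centralizer (P : Set X))
    (g : X) (hgN : ∀ s ∈ (S : Subgroup ↥(Subgroup.normalizer (P : Set X))).map (Subgroup.normalizer (P : Set X)).subtype, g * s * g⁻¹ ∈ (S : Subgroup ↥(Subgroup.normalizer (P : Set X))).map (Subgroup.normalizer (P : Set X)).subtype)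
    (hgS : g ∉ (S : Subgroup ↥(Subgroup.normalizer (P : Set X))).map (Subgroup.normalizer (P : Set X)).subtype) (hg2 : g ^ 2 ∈ (S : Subgroup ↥(Subgroup.normalizer (P : Set X))).map (Subgroup.normalizer (P : Set X)).subtype)
    (hgt : g * t * g⁻¹ ∈ P ⊔ Subgroup.centralizer (P : Set X)) :
    ⁅P, Cfsg.oddCore X⁆ = ⊥ ∧
      ∀ L : Subgroup X, Cfsg.IsPComponent 2 L → P ≤ L → (∀ l ∈ L, t * l * t⁻¹ ∈ L) → Cfsg.IsQuasisimple ↥L := by
  classical
  haveI : Fact (Nat.Prime 2) := ⟨Nat.prime_two⟩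
  obtain ⟨hQS, hTE, -, hN⟩ := hP
  obtain ⟨C, hC⟩ : ∃ C, C = Subgroup.centralizer (P : Set X) := ⟨_, rfl⟩
  rw [← hC] at htP hTE hN hgt hr
  obtain ⟨S', hS'⟩ : ∃ S', S' = (S : Subgroup ↥(Subgroup.normalizer (P : Set X))).map (Subgroup.normalizer (P : Set X)).subtype := ⟨_, rfl⟩
  rw [← hS'] at htS hgN hgS hg2
  have hSN : S' ≤ Subgroup.normalizer (P : Set X) := hS' ▸ Subgroup.map_subtype_le _
  have hSp : IsPGroup 2 S' := hS' ▸ S.isPGroup'.map _
  have hCN : C ≤ Subgroup.normalizer (P : Set X) := hC ▸ Subgroup.centralizer_le_normalizer _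
  have hcomm : ∀ c ∈ C, ∀ p ∈ P, p * c = c * p := fun c hc => Subgroup.mem_centralizer_iff.1 (hC ▸ hc)
  have htt : t * t = 1 := by rw [← pow_two, ← ht, pow_orderOf_eq_one]
  have ht1 : t ≠ 1 := fun e => by rw [e, orderOf_one] at ht; omega
  -- tight embedding
  have hCt : ∀ y : X, y * t = t * y → y ∈ Subgroup.normalizer (P : Set X) := fun y hy => by
    by_contra hyN
    have hodd := hTE.2 y (hN ▸ hyN)
    refine Nat.not_even_iff_odd.2 hodd (even_iff_two_dvd.2 ?_)
    rw [← ht]
    exact Subgroup.orderOf_dvd_natCard _ (Subgroup.mem_inf.2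
      ⟨htP, t, htP, show y * t * y⁻¹ = t by rw [hy, mul_inv_cancel_right]⟩)
  -- commuting involutions of `C`
  have hone : ∀ a ∈ C, a * a = 1 → a * t = t * a → a = 1 ∨ a = t := fun a ha haa hat => by
    by_contra hne
    rw [not_or] at hne
    let T : Set ↥C := {⟨t, htP⟩, ⟨a, ha⟩}
    let A : Subgroup ↥C := Subgroup.closure T
    have hTc : ∀ x ∈ T, ∀ y ∈ T, x * y = y * x := by
      rintro x (rfl | rfl) y (rfl | rfl)
      · rfl
      · exact Subtype.ext hat.symm
      · exact Subtype.ext hat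
      · rfl
    have hAc : IsMulCommutative A := Subgroup.isMulCommutative_closure hTc
    have hsq : ∀ x ∈ A, x ^ 2 = 1 := fun x hx => by
      refine (Subgroup.closure_induction (p := fun y hy => y ^ 2 = 1) ?_ (one_pow 2) ?_ ?_ hx)
      · rintro y (rfl | rfl)
        · exact Subtype.ext (by rw [pow_two]; exact htt)
        · exact Subtype.ext (by rw [pow_two]; exact haa)
      · intro x y hx hy e1 e2
        have hxy : Commute x y := congrArg Subtype.val (hAc.is_comm.comm (⟨x, hx⟩ : A) ⟨y, hy⟩)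
        rw [hxy.mul_pow, e1, e2, one_mul]
      · intro x _ e1
        rw [inv_pow, e1, inv_one]
    have hcard := hr A hAc hsq
    have hsub : ({1, ⟨t, htP⟩, ⟨a, ha⟩} : Finset ↥C).card ≤ Nat.card A := by
      rw [← Set.ncard_coe_finset]
      refine le_trans (Set.ncard_le_ncard ?_ (Set.toFinite _)) (Nat.card_coe_set_eq (A : Set ↥C)).ge
      intro x hx
      simp only [Finset.coe_insert, Finset.coe_singleton, Set.mem_insert_iff, Set.mem_singleton_iff] at hx
      rcases hx with rfl | rfl | rfl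
      · exact one_mem A
      · exact Subgroup.subset_closure (Or.inl rfl)
      · exact Subgroup.subset_closure (Or.inr rfl)
    rw [Finset.card_eq_three.2 ⟨_, _, _, fun e => ht1 (congrArg Subtype.val e).symm,
      fun e => hne.1 (congrArg Subtype.val e).symm, fun e => hne.2 (congrArg Subtype.val e).symm, rfl⟩] at hsub
    omega
  -- `t` is central in `S'`
  have htZ : ∀ s ∈ S', s * t = t * s := fun s hs => by
    haveI : Nontrivial ↥(S' ⊓ C) := (Subgroup.nontrivial_iff_ne_bot _).2 fun e => ht1 (by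
      have : t ∈ S' ⊓ C := Subgroup.mem_inf.2 ⟨htS, htP⟩
      rwa [e, Subgroup.mem_bot] at this)
    have hRp : IsPGroup 2 ↥(S' ⊓ C) := hSp.to_le inf_le_left
    have hZne := hRp.bot_lt_center
    obtain ⟨n, hn⟩ := IsPGroup.iff_card.1 (hRp.to_subgroup (Subgroup.center ↥(S' ⊓ C)))
    have hn0 : n ≠ 0 := fun e => hZne.ne' (Subgroup.card_eq_one.1 (by rw [hn, e, pow_zero]))
    obtain ⟨w, hw⟩ := exists_prime_orderOf_dvd_card' (G := Subgroup.center ↥(S' ⊓ C)) 2
      (hn ▸ dvd_pow_self 2 hn0)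
    have hwt : ((w : ↥(S' ⊓ C)) : X) * t = t * ((w : ↥(S' ⊓ C)) : X) :=
      (congrArg Subtype.val (Subgroup.mem_center_iff.1 w.2 ⟨t, htS, htP⟩)).symm
    have hww : ((w : ↥(S' ⊓ C)) : X) * ((w : ↥(S' ⊓ C)) : X) = 1 := by
      have e : w ^ 2 = 1 := by rw [← hw, pow_orderOf_eq_one]
      have e' := congrArg (fun v : Subgroup.center ↥(S' ⊓ C) => ((v : ↥(S' ⊓ C)) : X)) e
      simpa [pow_two] using e'
    have hwt' : ((w : ↥(S' ⊓ C)) : X) = t := (hone _ (w : ↥(S' ⊓ C)).2.2 hww hwt).resolve_left fun e => by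
      rw [show w = 1 from Subtype.ext (Subtype.ext e), orderOf_one] at hw
      omega
    have hsC : s * t * s⁻¹ ∈ C := by
      have : s ∈ Subgroup.normalizer (C : Set X) := hN ▸ hSN hs
      exact (Subgroup.mem_normalizer_iff.1 this t).1 htP
    have hstS : s * t * s⁻¹ ∈ S' := mul_mem (mul_mem hs htS) (inv_mem hs)
    have hcs : s * t * s⁻¹ * t = t * (s * t * s⁻¹) := by
      have h := congrArg Subtype.val (Subgroup.mem_center_iff.1 w.2 ⟨_, hstS, hsC⟩)
      simp only [Subgroup.coe_mul] at h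
      rwa [hwt'] at h
    exact mul_inv_eq_iff_eq_mul.1 ((hone _ hsC (by rw [conj_mul, htt, mul_one, mul_inv_cancel]) hcs).resolve_left
      fun e => ht1 (conj_eq_one_iff.1 e))
  have hg2t : g * g * t = t * (g * g) := htZ _ (by rwa [← pow_two])
  obtain ⟨t', ht'⟩ : ∃ t', t' = g * t * g⁻¹ := ⟨_, rfl⟩
  rw [← ht'] at hgt
  have ht'S : t' ∈ S' := ht' ▸ hgN t htS
  have ht't : t' * t = t * t' := htZ t' ht'S
  have ht't' : t' * t' = 1 := by rw [ht', conj_mul, htt, mul_one, mul_inv_cancel]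
  have hgt' : g * t' * g⁻¹ = t := by
    rw [ht']
    calc g * (g * t * g⁻¹) * g⁻¹ = (g * g * t) * (g * g)⁻¹ := by group
      _ = t := by rw [hg2t, mul_inv_cancel_right]
  have hne : t' ≠ t := fun e => by
    have hgP : g ∈ Subgroup.normalizer (P : Set X) := hCt g (mul_inv_eq_iff_eq_mul.1 (ht'.symm.trans e))
    obtain ⟨g', hg'⟩ : ∃ g' : ↥(Subgroup.normalizer (P : Set X)), g' = ⟨g, hgP⟩ := ⟨_, rfl⟩
    have hSg : Subgroup.zpowers g' ≤ Subgroup.normalizer ((S : Subgroup ↥(Subgroup.normalizer (P : Set X))) : Set _) := by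
      have hmemS : ∀ v : ↥(Subgroup.normalizer (P : Set X)), v ∈ (S : Subgroup _) ↔ (v : X) ∈ S' := fun v => by
        rw [hS']
        exact ⟨fun hv => ⟨v, hv, rfl⟩, fun ⟨v', hv', e⟩ => Subtype.ext e ▸ hv'⟩
      rw [Subgroup.zpowers_le, Subgroup.mem_normalizer_iff]
      intro v
      rw [hmemS, hmemS]
      constructor
      · intro hv; rw [hg']; exact hgN _ hv
      · intro hv
        rw [hg'] at hv
        have h1 := hgN _ hv
        have h2 : (v : X) = (g * g)⁻¹ * (g * (g * v * g⁻¹) * g⁻¹) * (g * g) := by group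
        rw [h2]
        have hgg : g * g ∈ S' := by rwa [← pow_two]
        exact mul_mem (mul_mem (inv_mem hgg) h1) hgg
    have hgp : IsPGroup 2 (Subgroup.zpowers g') := by
      obtain ⟨k, hk⟩ := hSp ⟨g ^ 2, hg2⟩
      have hg2k : g' ^ 2 ^ (k + 1) = 1 := Subtype.ext (by
        rw [pow_succ', pow_mul]; simpa [hg'] using congrArg Subtype.val hk)
      rintro ⟨v, i, rfl⟩
      exact ⟨k + 1, Subtype.ext (by
        show (g' ^ i) ^ 2 ^ (k + 1) = 1
        rw [← zpow_natCast, ← _root_.zpow_mul, mul_comm, _root_.zpow_mul, zpow_natCast, hg2k, one_zpow])⟩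
    have hsup : IsPGroup 2 ↥(Subgroup.zpowers g' ⊔ (S : Subgroup _)) := hgp.to_sup_of_normal_right' S.isPGroup' hSg
    have := S.is_maximal' hsup le_sup_right
    exact hgS (hS' ▸ ⟨g', this.le (Subgroup.mem_sup_left (Subgroup.mem_zpowers g')), by rw [hg']; rfl⟩)
  -- decomposition of `t'`
  obtain ⟨p₀, hp₀, c₀, hc₀, ht'eq, hp₀2, hc₀2⟩ : ∃ p₀ ∈ P, ∃ c₀ ∈ C, t' = p₀ * c₀ ∧ p₀ * p₀ = 1 ∧ c₀ * c₀ = 1 := by
    rw [← SetLike.mem_coe, sup_comm, Subgroup.coe_mul_of_left_le_normalizer_right _ _ hCN] at hgt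
    obtain ⟨c, hc, p, hp, hcp⟩ := Set.mem_mul.1 hgt
    have hcom : Commute p c := hcomm c hc p hp
    have e1 : p ^ 2 * c ^ 2 = 1 := by
      rw [← hcom.mul_pow, hcom.eq, show c * p = t' from hcp, pow_two, ht't']
    have hpZ : (⟨p ^ 2, pow_mem hp 2⟩ : P) ∈ Subgroup.center ↥P := by
      refine Subgroup.mem_center_iff.2 fun v => Subtype.ext ?_
      show (v : X) * p ^ 2 = p ^ 2 * v
      rw [eq_inv_of_mul_eq_one_left e1]
      exact (show Commute (v : X) c from hcomm c hc v v.2).pow_right 2 |>.inv_right.eq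
    obtain ⟨m, hm⟩ : ∃ m, m = Nat.card ↥(Subgroup.center ↥P) := ⟨_, rfl⟩
    have hp2 : (p ^ 2) ^ m = 1 := by
      have := pow_card_eq_one' (x := (⟨_, hpZ⟩ : ↥(Subgroup.center ↥P)))
      rw [hm]
      exact congrArg Subtype.val (congrArg Subtype.val this)
    have hc2 : (c ^ 2) ^ m = 1 := by
      rw [eq_inv_of_mul_eq_one_right e1, inv_pow, hp2, inv_one]
    refine ⟨p ^ m, pow_mem hp m, c ^ m, pow_mem hc m, ?_, by rw [← pow_two, ← pow_mul, mul_comm, pow_mul, hp2],
      by rw [← pow_two, ← pow_mul, mul_comm, pow_mul, hc2]⟩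
    obtain ⟨j, hj⟩ := hm ▸ hZ
    rw [← hcom.mul_pow, hcom.eq, show c * p = t' from hcp, hj, pow_succ, pow_mul, pow_two, ht't', one_pow, one_mul]
  have htp₀ : p₀ * t = t * p₀ := hcomm t htP p₀ hp₀
  have hc₀t : c₀ * t = t * c₀ := by
    have e : c₀ = p₀ * t' := by rw [ht'eq, ← mul_assoc, hp₀2, one_mul]
    rw [e]
    exact (show Commute p₀ t from htp₀).mul_left (show Commute t' t from ht't) |>.eq
  have hc₀' := hone c₀ hc₀ hc₀2 hc₀t
  have hp₀1 : p₀ ≠ 1 := fun e => by
    rw [e, one_mul] at ht'eq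
    rcases hc₀' with e' | e'
    · exact ht1 (conj_eq_one_iff.1 (ht'.symm.trans (ht'eq.trans e')))
    · exact hne (ht'eq.trans e')
  have ht'1 : t' ≠ 1 := fun e => ht1 (conj_eq_one_iff.1 (ht'.symm.trans e))
  obtain ⟨O, hO⟩ : ∃ O, O = Cfsg.oddCore X := ⟨_, rfl⟩
  rw [← hO]
  haveI : O.Normal := hO ▸ Grp.pPrimeCore_isNormal
  have hOodd : Odd (Nat.card O) := hO ▸ Nat.coprime_two_right.1 (Grp.pPrimeCore_coprime (p := 2) (G := X))
  -- fixed points of `t` centralise `P`
  have hperf : ⁅P, P⁆ = P := by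
    haveI := hQS.1
    have h := congrArg (Subgroup.map P.subtype) (Group.IsPerfect.commutator_eq_top (G := ↥P))
    rwa [_root_.commutator_def, Subgroup.map_commutator, ← MonoidHom.range_eq_map, Subgroup.range_subtype] at h
  have hfixP : ∀ o ∈ O, o * t = t * o → ∀ p ∈ P, p * o = o * p := by
    intro o ho hot
    obtain ⟨D, hD⟩ : ∃ D, D = O ⊓ Subgroup.centralizer ({t} : Set X) := ⟨_, rfl⟩
    suffices hle : P ≤ Subgroup.centralizer (D : Set X) from fun p hp =>
      (Subgroup.mem_centralizer_iff.1 (hle hp) o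
        (hD ▸ Subgroup.mem_inf.2 ⟨ho, Subgroup.mem_centralizer_singleton_iff.2 hot⟩)).symm
    have hDn : ∀ d ∈ D, d ∈ Subgroup.normalizer (P : Set X) ∧ ∀ p ∈ P, p * d * p⁻¹ ∈ O := fun d hd => by
      rw [hD] at hd
      exact ⟨hCt d (Subgroup.mem_centralizer_singleton_iff.1 hd.2),
        fun p _ => (inferInstance : O.Normal).conj_mem d hd.1 p⟩
    have hPOZ : ∀ v ∈ P, v ∈ O → ∀ p ∈ P, p * v = v * p := fun v hv hvO p hp => by
      haveI : (O.subgroupOf P).Normal := inferInstance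
      rcases Grp.IsQuasisimple.eq_top_or_le_center hQS (O.subgroupOf P) with e | e
      · exfalso
        have hp₀O : p₀ ∈ O := Subgroup.subgroupOf_eq_top.1 e hp₀
        have h2 : orderOf p₀ ∣ 2 := orderOf_dvd_of_pow_eq_one (by rw [pow_two]; exact hp₀2)
        exact hp₀1 (orderOf_eq_one_iff.1 (Nat.eq_one_of_dvd_coprimes hOodd.coprime_two_right
          (Subgroup.orderOf_dvd_natCard _ hp₀O) h2))
      · exact congrArg Subtype.val (Subgroup.mem_center_iff.1 (e (show (⟨v, hv⟩ : P) ∈ O.subgroupOf P from hvO)) ⟨p, hp⟩)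
    have hPD : ⁅P, D⁆ ≤ Subgroup.centralizer (P : Set X) := by
      rw [Subgroup.commutator_le]
      intro p hp d hd
      have h1 : ⁅p, d⁆ ∈ P := by
        rw [commutatorElement_def, show p * d * p⁻¹ * d⁻¹ = p * (d * p⁻¹ * d⁻¹) by group]
        exact mul_mem hp ((Subgroup.mem_normalizer_iff.1 (hDn d hd).1 _).1 (inv_mem hp))
      have h2 : ⁅p, d⁆ ∈ O := by
        rw [commutatorElement_def]
        exact mul_mem ((hDn d hd).2 p hp) (inv_mem (show d ∈ O from (hD ▸ hd : d ∈ O ⊓ _).1))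
      exact Subgroup.mem_centralizer_iff.2 fun v hv => hPOZ _ h1 h2 v hv
    have h0 : ⁅⁅P, D⁆, P⁆ = ⊥ := Subgroup.commutator_eq_bot_iff_le_centralizer.2 hPD
    have h0' : ⁅⁅D, P⁆, P⁆ = ⊥ := by rw [Subgroup.commutator_comm D P]; exact h0
    have h := Subgroup.commutator_commutator_eq_bot_of_rotate h0 h0'
    rw [hperf] at h
    exact Subgroup.commutator_eq_bot_iff_le_centralizer.1 h
  have hfix : ∀ x ∈ O, (x * t = t * x ↔ x * t' = t' * x) := by
    have h1 : ∀ x ∈ O, x * t = t * x → x * t' = t' * x := fun x hx hxt => by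
      rw [ht'eq]
      have hxp : Commute x p₀ := (hfixP x hx hxt p₀ hp₀).symm
      rcases hc₀' with e | e <;> rw [e]
      · rw [mul_one]; exact hxp.eq
      · exact (hxp.mul_right (show Commute x t from hxt)).eq
    refine fun x hx => ⟨h1 x hx, fun hxt' => ?_⟩
    obtain ⟨y, hy⟩ : ∃ y, y = g⁻¹ * x * g := ⟨_, rfl⟩
    have hyO : y ∈ O := hy ▸ by simpa using (inferInstance : O.Normal).conj_mem x hx g⁻¹
    have hyt : y * t = t * y := by
      rw [hy]
      calc g⁻¹ * x * g * t = g⁻¹ * (x * (g * t * g⁻¹)) * g := by group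
        _ = g⁻¹ * ((g * t * g⁻¹) * x) * g := by rw [← ht', hxt']
        _ = _ := by group
    have hxp : Commute x (g * p₀ * g⁻¹) := by
      show x * (g * p₀ * g⁻¹) = g * p₀ * g⁻¹ * x
      calc x * (g * p₀ * g⁻¹) = g * (y * p₀) * g⁻¹ := by rw [hy]; group
        _ = g * (p₀ * y) * g⁻¹ := by rw [hfixP y hyO hyt p₀ hp₀]
        _ = _ := by rw [hy]; group
    have e := hgt'
    rw [ht'eq] at e
    rcases hc₀' with e' | e'
    · rw [e', mul_one] at e
      rw [← e]; exact hxp.eq
    · rw [e', ← conj_mul, ← ht'] at e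
      rw [← e]; exact (hxp.mul_right (show Commute x t' from hxt')).eq
  have hw := commute_of_fixed_eq O hOodd htt ht't' ht't.symm hne ht1 ht'1 hfix
  -- the kernel of `P` on `O`
  have hker : ∀ p ∈ P, p ∈ Subgroup.centralizer (O : Set X) := by
    haveI : ((Subgroup.centralizer (O : Set X)).subgroupOf P).Normal := inferInstance
    rcases Grp.IsQuasisimple.eq_top_or_le_center hQS ((Subgroup.centralizer (O : Set X)).subgroupOf P) with e | e
    · exact fun p hp => Subgroup.subgroupOf_eq_top.1 e hp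
    exfalso
    have hprod : ∀ v ∈ P, p₀ * (v * p₀ * v⁻¹) ∈ Subgroup.centralizer (O : Set X) := by
      intro v hv
      have hwC : t * t' ∈ Subgroup.centralizer (O : Set X) := Subgroup.mem_centralizer_iff.2 hw
      have hv' := (inferInstance : (Subgroup.centralizer (O : Set X)).Normal).conj_mem _ hwC v
      have hvt : v * t = t * v := hcomm t htP v hv
      rcases hc₀' with e' | e'
      · rw [e', mul_one] at ht'eq
        rw [ht'eq] at hwC hv'
        have h2 := mul_mem hwC hv'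
        have e2 : t * p₀ * (v * (t * p₀) * v⁻¹) = p₀ * (v * p₀ * v⁻¹) := by
          calc t * p₀ * (v * (t * p₀) * v⁻¹) = t * p₀ * ((v * t) * p₀ * v⁻¹) := by group
            _ = t * (p₀ * t) * (v * p₀ * v⁻¹) := by rw [hvt]; group
            _ = (t * t) * p₀ * (v * p₀ * v⁻¹) := by rw [htp₀]; group
            _ = p₀ * (v * p₀ * v⁻¹) := by rw [htt, one_mul]
        rwa [e2] at h2
      · rw [e'] at ht'eq
        have e2 : t * t' = p₀ := by rw [ht'eq, ← mul_assoc, ← htp₀, mul_assoc, htt, mul_one]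
        rw [e2] at hwC hv'
        exact mul_mem hwC hv'
    haveI := hQS.2
    have hq : ∀ v : ↥P ⧸ Subgroup.center ↥P, v * QuotientGroup.mk' _ (⟨p₀, hp₀⟩ : P) = QuotientGroup.mk' _ (⟨p₀, hp₀⟩ : P) * v := by
      intro v
      obtain ⟨v, rfl⟩ := QuotientGroup.mk'_surjective _ v
      have h1 : (⟨p₀, hp₀⟩ : P) * (v * ⟨p₀, hp₀⟩ * v⁻¹) ∈ Subgroup.center ↥P := e (hprod v v.2)
      have h2 := (QuotientGroup.eq_one_iff _).2 h1
      change QuotientGroup.mk' _ _ = 1 at h2
      have h3 : (QuotientGroup.mk' (Subgroup.center ↥P) (⟨p₀, hp₀⟩ : P)) ^ 2 = 1 := by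
        rw [← map_pow, show (⟨p₀, hp₀⟩ : P) ^ 2 = 1 from Subtype.ext (by rw [pow_two]; exact hp₀2), map_one]
      rw [map_mul, map_mul, map_mul, map_inv, pow_two] at *
      have h4 := eq_inv_of_mul_eq_one_right h2
      rw [inv_eq_of_mul_eq_one_right h3, mul_inv_eq_iff_eq_mul] at h4
      exact h4
    rcases IsSimpleGroup.eq_bot_or_eq_top_of_normal (Subgroup.center (↥P ⧸ Subgroup.center ↥P)) inferInstance with e' | e'
    · have : QuotientGroup.mk' (Subgroup.center ↥P) (⟨p₀, hp₀⟩ : P) = 1 := by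
        rw [← Subgroup.mem_bot, ← e', Subgroup.mem_center_iff]; exact hq
      have hZm := (QuotientGroup.eq_one_iff _).1 this
      have h2 : orderOf (⟨_, hZm⟩ : Subgroup.center ↥P) ∣ 2 :=
        orderOf_dvd_of_pow_eq_one (Subtype.ext (Subtype.ext (by rw [pow_two]; exact hp₀2)))
      exact hp₀1 (congrArg (fun v : Subgroup.center ↥P => ((v : ↥P) : X))
        (orderOf_eq_one_iff.1 (Nat.eq_one_of_dvd_coprimes hZ.coprime_two_right (orderOf_dvd_natCard _) h2)))
    · have hcom : commutator (↥P ⧸ Subgroup.center ↥P) = ⊥ := by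
        rw [_root_.commutator_def, Subgroup.commutator_eq_bot_iff_le_centralizer]
        intro a _
        exact Subgroup.mem_centralizer_iff.2 fun b _ =>
          Subgroup.mem_center_iff.1 (e' ▸ Subgroup.mem_top a) b
      haveI := hQS.1
      have htop : commutator (↥P ⧸ Subgroup.center ↥P) = ⊤ := by
        rw [_root_.commutator_def, ← Subgroup.map_top_of_surjective _ (QuotientGroup.mk'_surjective (Subgroup.center ↥P)),
          ← Subgroup.map_commutator, ← _root_.commutator_def, Group.IsPerfect.commutator_eq_top]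
      rw [hcom] at htop
      exact bot_ne_top htop
  refine ⟨Subgroup.commutator_eq_bot_iff_le_centralizer.2 hker, fun L hL hPL _ => ?_⟩
  obtain ⟨hLsn, hLcomp, hLmin⟩ := hL
  obtain ⟨q, hq⟩ : ∃ q, q = QuotientGroup.mk' (Cfsg.pPrimeCore 2 X) := ⟨_, rfl⟩
  rw [← hq] at hLcomp hLmin
  have hkerq : ∀ x, q x = 1 ↔ x ∈ O := fun x => by rw [hq, hO]; exact QuotientGroup.eq_one_iff x
  have hqs := hLcomp.2
  have hsub : ∀ H : Subgroup X, H.IsSubnormal → H ≤ L → (H.map q).subgroupOf (L.map q) = ⊤ → H = L :=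
    fun H hH hHL e => hLmin H hH hHL (le_antisymm (Subgroup.map_mono hHL) (Subgroup.subgroupOf_eq_top.1 e))
  have hLC : L ≤ Subgroup.centralizer (O : Set X) := by
    haveI : ((Subgroup.centralizer (O : Set X)).subgroupOf L).Normal := inferInstance
    obtain ⟨H, hH⟩ : ∃ H, H = ((Subgroup.centralizer (O : Set X)).subgroupOf L).map L.subtype := ⟨_, rfl⟩
    have hHeq : H = Subgroup.centralizer (O : Set X) ⊓ L := by rw [hH, Subgroup.subgroupOf_map_subtype]
    have hHs : H.IsSubnormal := hH ▸ (inferInstance : ((Subgroup.centralizer (O : Set X)).subgroupOf L).Normal).isSubnormal.trans' hLsn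
    have hHn : ((H.map q).subgroupOf (L.map q)).Normal := by
      refine ⟨fun a ha b => ?_⟩
      obtain ⟨h, hh, hha⟩ := ha
      obtain ⟨l, hl, hlb⟩ := b.2
      refine ⟨l * h * l⁻¹, ?_, ?_⟩
      · rw [hHeq] at hh
        show l * h * l⁻¹ ∈ H
        rw [hHeq]
        exact Subgroup.mem_inf.2 ⟨(inferInstance : (Subgroup.centralizer (O : Set X)).Normal).conj_mem h hh.1 l,
          mul_mem (mul_mem hl hh.2) (inv_mem hl)⟩
      · rw [map_mul, map_mul, map_inv, hha, hlb]; rfl
    haveI := hHn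
    rcases Grp.IsQuasisimple.eq_top_or_le_center hqs ((H.map q).subgroupOf (L.map q)) with e | e
    · have := hsub H hHs (hHeq ▸ inf_le_right) e
      rw [← this, hHeq]; exact inf_le_left
    exfalso
    have hPO : ∀ a ∈ P, ∀ b ∈ P, ⁅a, b⁆ ∈ O := fun a ha b hb => by
      rw [← hkerq, map_commutatorElement, commutatorElement_eq_one_iff_mul_comm]
      have hb' : q b ∈ H.map q := ⟨b, hHeq ▸ Subgroup.mem_inf.2 ⟨hker b hb, hPL hb⟩, rfl⟩
      exact congrArg Subtype.val (Subgroup.mem_center_iff.1 (e (show (⟨q b, ⟨b, hPL hb, rfl⟩⟩ : ↥(L.map q)) ∈ (H.map q).subgroupOf (L.map q) from hb')) ⟨q a, ⟨a, hPL ha, rfl⟩⟩)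
    have h2 : p₀ ∈ O := (hperf ▸ Subgroup.commutator_le.2 hPO : P ≤ O) hp₀
    exact hp₀1 (orderOf_eq_one_iff.1 (Nat.eq_one_of_dvd_coprimes hOodd.coprime_two_right
      (Subgroup.orderOf_dvd_natCard _ h2) (orderOf_dvd_of_pow_eq_one (by rw [pow_two]; exact hp₀2))))
  have hLperf : ⁅L, L⁆ = L := by
    refine hLmin _ ?_ (Subgroup.commutator_le_self L) ?_
    · haveI : Group.IsPerfect ↥(L.map q) := hqs.1
      rw [← Subgroup.map_subtype_commutator L]
      exact (inferInstance : (commutator ↥L).Normal).isSubnormal.trans' hLsn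
    · haveI : Group.IsPerfect ↥(L.map q) := hqs.1
      rw [Subgroup.map_commutator]
      have h := congrArg (Subgroup.map (L.map q).subtype) (Group.IsPerfect.commutator_eq_top (G := ↥(L.map q)))
      rwa [_root_.commutator_def, Subgroup.map_commutator, ← MonoidHom.range_eq_map, Subgroup.range_subtype] at h
  haveI : Nontrivial ↥L := ⟨⟨p₀, hPL hp₀⟩, 1, fun e => hp₀1 (congrArg Subtype.val e)⟩
  refine Grp.isQuasisimple_of ?_ fun N hN => ?_
  · refine ⟨Subgroup.map_injective L.subtype_injective ?_⟩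
    rw [Subgroup.map_subtype_commutator, hLperf, ← MonoidHom.range_eq_map, Subgroup.range_subtype]
  haveI := hN
  have hNn : ((N.map L.subtype).map q).subgroupOf (L.map q) |>.Normal := by
    refine ⟨fun a ha b => ?_⟩
    obtain ⟨h, hh, hha⟩ := ha
    obtain ⟨h', hh', rfl⟩ := hh
    obtain ⟨l, hl, hlb⟩ := b.2
    refine ⟨l * (L.subtype h') * l⁻¹, ⟨⟨l, hl⟩ * h' * ⟨l, hl⟩⁻¹, hN.conj_mem h' hh' _, rfl⟩, ?_⟩
    rw [map_mul, map_mul, map_inv, hha, hlb]; rfl
  haveI := hNn
  rcases Grp.IsQuasisimple.eq_top_or_le_center hqs (((N.map L.subtype).map q).subgroupOf (L.map q)) with e | e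
  · left
    have := hsub _ (hN.isSubnormal.trans' hLsn) (Subgroup.map_subtype_le N) e
    exact Subgroup.map_injective L.subtype_injective (this.trans (by rw [← MonoidHom.range_eq_map, Subgroup.range_subtype]))
  · right
    intro n hn
    obtain ⟨N', hN'⟩ : ∃ N', N' = N.map L.subtype := ⟨_, rfl⟩
    have hc1 : ⁅N', L⁆ ≤ Subgroup.centralizer (L : Set X) := by
      rw [Subgroup.commutator_le]
      intro a ha b hb
      have hamem : q a ∈ (N.map L.subtype).map q := ⟨a, hN' ▸ ha, rfl⟩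
      have haL : a ∈ L := Subgroup.map_subtype_le N (hN' ▸ ha)
      have h1 : ⁅a, b⁆ ∈ O := by
        rw [← hkerq, map_commutatorElement, commutatorElement_eq_one_iff_mul_comm]
        exact (congrArg Subtype.val (Subgroup.mem_center_iff.1 (e (show (⟨q a, ⟨a, haL, rfl⟩⟩ : ↥(L.map q)) ∈ ((N.map L.subtype).map q).subgroupOf (L.map q) from hamem)) ⟨q b, ⟨b, hb, rfl⟩⟩)).symm
      refine Subgroup.mem_centralizer_iff.2 fun v hv => ?_
      exact ((Subgroup.mem_centralizer_iff.1 (hLC hv)) _ h1).symm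
    have h0 : ⁅⁅N', L⁆, L⁆ = ⊥ := Subgroup.commutator_eq_bot_iff_le_centralizer.2 hc1
    have h0' : ⁅⁅L, N'⁆, L⁆ = ⊥ := by rw [Subgroup.commutator_comm L N']; exact h0
    have h := Subgroup.commutator_commutator_eq_bot_of_rotate h0' h0
    rw [hLperf] at h
    have h' := Subgroup.commutator_eq_bot_iff_le_centralizer.1 h
    refine Subgroup.mem_center_iff.2 fun v => Subtype.ext ?_
    exact (Subgroup.mem_centralizer_iff.1 (h' v.2) (n : X) (hN' ▸ ⟨n, hn, rfl⟩)).symm

end Cfsg.Agent.S3153
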