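import Cfsg.Statements.S3155
import Mathlib

set_option autoImplicit false
open Cfsg

namespace Cfsg.Agent.S3155

/-- Let B be the direct product of three cyclic groups of order 4. Then the automorphism of B inverting every element is not the square of any automorphism of B. -/
theorem result {B : Type*} [CommGroup B] [Finite B] (hB : Nonempty (B ≃* Multiplicative (ZMod 4 × ZMod 4 × ZMod 4)))
    (τ : B ≃* B) : τ.trans τ ≠ MulEquiv.inv B := by
  intro h
  obtain ⟨e⟩ := hB
  -- transport to additive automorphisms of the free module of rank three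
  let f : Multiplicative (ZMod 4 × ZMod 4 × ZMod 4) ≃* (Multiplicative (ZMod 4 × ZMod 4 × ZMod 4)) :=
    (e.symm.trans τ).trans e
  let A : (ZMod 4 × ZMod 4 × ZMod 4) →+ (ZMod 4 × ZMod 4 × ZMod 4) := MonoidHom.toAdditive f.toMonoidHom
  have hA : ∀ v, A (A v) = -v := by
    intro v
    have hb := congrArg (fun g => e (g (e.symm (Multiplicative.ofAdd v)))) h
    simp only [MulEquiv.trans_apply, MulEquiv.inv_apply, map_inv, MulEquiv.apply_symm_apply] at hb
    show Multiplicative.toAdd (f (f (Multiplicative.ofAdd v))) = -v
    have : f (f (Multiplicative.ofAdd v)) = (Multiplicative.ofAdd v)⁻¹ := by simpa [f] using hb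
    rw [this]; rfl
  let L := A.toZModLinearMap 4
  have hL : L * L = (-1 : ZMod 4) • (1 : Module.End (ZMod 4) (ZMod 4 × ZMod 4 × ZMod 4)) := by
    apply LinearMap.ext
    intro v
    show A (A v) = _
    simp [hA]
  have hd := congrArg LinearMap.det hL
  rw [map_mul, LinearMap.det_smul, map_one, mul_one] at hd
  have hr : Module.finrank (ZMod 4) (ZMod 4 × ZMod 4 × ZMod 4) = 3 := by
    haveI : Nontrivial (ZMod 4) := ⟨0, 1, by decide⟩
    rw [Module.finrank_prod, Module.finrank_prod, Module.finrank_self]
  rw [hr] at hd
  revert hd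
  generalize LinearMap.det L = d
  revert d
  decide

end Cfsg.Agent.S3155
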