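import Cfsg.Statements.S3156
import Mathlib
import Cfsg.Agent.Lib.Recog.SU3SylowMulAut
-- import your own Cfsg.Agent.* helpers here

set_option autoImplicit false
open Cfsg

namespace Cfsg.Agent.S3156

/-- If a finite group T is isomorphic to a Sylow 2-subgroup of the projective special unitary group of dimension 3 with parameter 4 (realised over the field with 16 elements), then no subgroup of the automorphism group of T is isomorphic to the symmetric group of degree 3. -/
theorem result {T : Type*} [Group T] [Finite T] (hT : (∃ (F : Type) (_ : Field F) (_ : Fintype F), Fintype.card F = 16 ∧ ∃ S : Sylow 2 (Cfsg.PSU 3 F 4), Nonempty (T ≃* ↥(S : Subgroup (Cfsg.PSU 3 F 4))))) (H : Subgroup (MulAut T)) : ¬ Nonempty (↥H ≃* Equiv.Perm (Fin 3)) := by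
  open Cfsg.Agent.Recog.SU3Two in
  obtain ⟨F, i1, i2, hF, P, ⟨e0⟩⟩ := hT
  have hF' : Fintype.card F = 4 ^ 2 := by rw [hF]; norm_num
  haveI := Cfsg.Agent.Recog.SU3Two.charP_two (F := F) (m := 4) (by rw [hF]; norm_num)
  haveI : Fact (Fintype.card F = 4 ^ 2) := ⟨hF'⟩
  haveI : Fact (Nat.Prime 2) := ⟨Nat.prime_two⟩
  obtain ⟨e1⟩ := Cfsg.Agent.Recog.SU3Two.sylow_psu (n := 2) (q := 4) (by norm_num) (by norm_num) P
  let E := MulAut.congr (e0.trans e1.symm)
  rintro ⟨e⟩
  let f : Equiv.Perm (Fin 3) →* MulAut (Cfsg.Agent.Recog.SU3Two.UT F 4) :=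
    E.toMonoidHom.comp (H.subtype.comp e.symm.toMonoidHom)
  have hf : Function.Injective f := E.injective.comp (H.subtype_injective.comp e.symm.injective)
  set ρ := f (finRotate 3)
  set t := f (Equiv.swap 0 1)
  have h3 : ρ * ρ * ρ = 1 := by rw [← map_mul, ← map_mul, ← map_one f]; congr 1; decide
  have h2 : t * t = 1 := by rw [← map_mul, ← map_one f]; congr 1; decide
  have hinv : t * ρ = ρ * ρ * t := by rw [← map_mul, ← map_mul, ← map_mul]; congr 1; decide
  have hne : ρ ≠ 1 := fun h => absurd (hf (h.trans (map_one f).symm)) (by decide)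
  obtain ⟨p, hp⟩ := Cfsg.Agent.Recog.SU3Two.exists_data ρ
  obtain ⟨s, hs⟩ := Cfsg.Agent.Recog.SU3Two.exists_data t
  open Cfsg.Agent.Recog.SU3Two in
  have e3 : ∀ a, (p.1 : F) * p.2 ((p.1 : F) * p.2 ((p.1 : F) * p.2 a)) = a := fun a => by
    rw [← hp, ← hp, ← hp, ← LA_mul, ← LA_mul, h3, LA_one]
  open Cfsg.Agent.Recog.SU3Two in
  have e2 : ∀ a, (s.1 : F) * s.2 ((s.1 : F) * s.2 a) = a := fun a => by
    rw [← hs, ← hs, ← LA_mul, h2, LA_one]
  open Cfsg.Agent.Recog.SU3Two in
  have ei : ∀ a, (s.1 : F) * s.2 ((p.1 : F) * p.2 a) = (p.1 : F) * p.2 ((p.1 : F) * p.2 ((s.1 : F) * s.2 a)) := fun a => by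
    rw [← hp, ← hs, ← LA_mul, hinv, LA_mul, LA_mul, hp, hp, hs]
  -- the field automorphism of `ρ` is trivial
  have hcard : Nat.card (F ≃+* F) = 4 := Cfsg.Agent.Recog.SU3Two.card_ringAut (by rw [hF]; norm_num)
  haveI : Finite (F ≃+* F) := Nat.finite_of_card_ne_zero (by rw [hcard]; norm_num)
  have hτ3 : ∀ a, p.2 (p.2 (p.2 a)) = a := by
    intro a
    have h1 := e3 a
    have h0 := e3 1
    simp only [map_mul, map_one, mul_one] at h1 h0
    linear_combination h1 - p.2 (p.2 (p.2 a)) * h0
  have hp1 : ∀ a, p.2 a = a := by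
    intro a
    have h : (p.2 : RingAut F) ^ 3 = 1 := RingEquiv.ext hτ3
    have h4 : (p.2 : RingAut F) ^ 4 = 1 := by rw [← hcard]; exact pow_card_eq_one'
    rw [pow_succ, h, one_mul] at h4
    exact RingEquiv.congr_fun h4 a
  set c : F := (p.1 : F) with hc
  have hc3 : c ^ 3 = 1 := by
    have := e3 1
    simp only [hp1, mul_one] at this
    linear_combination this
  -- the field automorphism of `t` fixes cube roots of unity
  have hσ2 : ∀ a, s.2 (s.2 a) = a := by
    intro a
    have h1 := e2 a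
    have h0 := e2 1
    simp only [map_mul, map_one, mul_one] at h1 h0
    linear_combination h1 - s.2 (s.2 a) * h0
  have hfix : s.2 c = c := by
    -- `x ↦ x ^ 2` has order four, so an involutive automorphism is `1` or `x ↦ x ^ 4`
    let φ : RingAut F := RingEquiv.ofBijective (frobenius F 2) (PerfectRing.bijective_frobenius (R := F) (p := 2))
    have hφ : ∀ (j : ℕ) (a : F), (φ ^ j) a = a ^ 2 ^ j := by
      intro j
      induction j with
      | zero => intro a; simp
      | succ j ih =>
        intro a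
        rw [pow_succ', RingAut.mul_apply, ih]
        show (a ^ 2 ^ j) ^ 2 = _
        rw [← pow_mul, ← pow_succ]
    obtain ⟨g, hg⟩ := IsCyclic.exists_generator (α := Fˣ)
    have hgo : orderOf g = 15 := by
      rw [orderOf_eq_card_of_forall_mem_zpowers hg, Nat.card_units, Nat.card_eq_fintype_card, hF]
    have hφo : orderOf φ = 4 := by
      refine orderOf_eq_prime_pow (p := 2) (n := 1) (fun h => ?_) ?_
      · have h' := RingEquiv.congr_fun h (g : F)
        rw [hφ] at h'
        norm_num at h'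
        have : g ^ 4 = g ^ 1 := Units.ext (by simpa using h')
        rw [pow_eq_pow_iff_modEq, hgo] at this
        exact absurd this (by decide)
      · refine RingEquiv.ext fun a => ?_
        rw [hφ]
        show a ^ 2 ^ 2 ^ (1 + 1) = a
        norm_num
        rw [← hF]; exact FiniteField.pow_card a
    have hmem : (s.2 : RingAut F) ∈ Submonoid.powers φ := by
      rw [mem_powers_iff_mem_zpowers]
      have : Subgroup.zpowers φ = ⊤ := Subgroup.eq_top_of_card_eq _ (by rw [Nat.card_zpowers, hφo]; exact hcard.symm)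
      rw [this]; trivial
    obtain ⟨j, hj⟩ := hmem
    have hj' : φ ^ j = s.2 := hj
    have h2' : φ ^ (j + j) = 1 := by rw [pow_add, hj']; exact RingEquiv.ext hσ2
    rw [← orderOf_dvd_iff_pow_eq_one, hφo] at h2'
    obtain ⟨i, hi⟩ : ∃ i, j = 2 * i := ⟨j / 2, by omega⟩
    rw [← hj', hφ, hi, pow_mul]
    clear hi hj h2' hj'
    induction i with
    | zero => simp
    | succ i ih =>
      rw [pow_succ, pow_mul, ih]
      linear_combination c * hc3
  have hc1 : c = 1 := by
    have h1 := ei 1
    simp only [hp1, map_mul, map_one, mul_one, hfix] at h1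
    have hs0 : (s.1 : F) ≠ 0 := s.1.ne_zero
    have hc0 : c ≠ 0 := p.1.ne_zero
    have : (s.1 : F) * c * (c - 1) = 0 := by linear_combination -h1
    rcases mul_eq_zero.mp this with h | h
    · exact absurd h (mul_ne_zero hs0 hc0)
    · exact sub_eq_zero.mp h
  have hker : ρ ∈ Cfsg.Agent.Recog.SU3Two.kerLA F 4 := fun a => by rw [hp, hp1, hc1, one_mul]
  have := Cfsg.Agent.Recog.SU3Two.ker_elementary.2 ρ hker
  rw [this, one_mul] at h3
  exact hne h3

end Cfsg.Agent.S3156
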