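import Cfsg.Statements.S3158
import Mathlib
import Cfsg.Agent.Lib.Grp.Frattini
-- import your own Cfsg.Agent.* helpers here

set_option autoImplicit false
open Cfsg

namespace Cfsg.Agent.S3158

/-- Let U be a group of order q² with q = 2^n ≥ 2, and y an automorphism of U of order q − 1 all of whose nontrivial powers fix only the identity. Let V be a proper normal y-invariant subgroup of U such that V and U/V are elementary abelian 2-groups and there is an isomorphism from V to U/V commuting with the actions of y. Then U is abelian. -/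
theorem result {U : Type*} [Group U] [Finite U] (n : ℕ) (hn : 1 ≤ n) (hU : Nat.card U = (2 ^ n) ^ 2)
    (y : MulAut U) (hy : orderOf y = 2 ^ n - 1) (hfp : ∀ k : ℕ, y ^ k ≠ 1 → ∀ u : U, (y ^ k) u = u → u = 1)
    (V : Subgroup U) [V.Normal] (hV : V ≠ ⊤) (hyV : ∀ v ∈ V, y v ∈ V)
    (hVe : ∀ v ∈ V, v ^ 2 = 1) (hQe : ∀ u : U, u ^ 2 ∈ V) (hQc : ∀ u w : U, u * w * u⁻¹ * w⁻¹ ∈ V)
    (φ : ↥V ≃* U ⧸ V) (hφ : ∀ (v : ↥V) (u : U), (QuotientGroup.mk u : U ⧸ V) = φ v → φ ⟨y v, hyV v v.2⟩ = QuotientGroup.mk (y u)) :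
    IsMulCommutative U := by
  classical
  haveI : Fact (Nat.Prime 2) := ⟨Nat.prime_two⟩
  have hp : IsPGroup 2 U := IsPGroup.of_card (n := n * 2) (by rw [hU, pow_mul])
  have hcardV : Nat.card V = 2 ^ n := by
    have h1 := Subgroup.card_eq_card_quotient_mul_card_subgroup V
    rw [← Nat.card_congr φ.toEquiv, hU, pow_two] at h1
    exact Nat.mul_self_inj.1 h1.symm
  -- powers of `y` preserve `V`
  have hyV' : ∀ (k : ℕ), ∀ v ∈ V, (y ^ k) v ∈ V := fun k => by
    induction k with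
    | zero => exact fun v hv => hv
    | succ k ih => intro v hv; rw [pow_succ']; exact hyV _ (ih v hv)
  have hsurj : ∀ e ∈ V, e ≠ 1 → ∀ v ∈ V, v ≠ 1 → ∃ k : ℕ, (y ^ k) e = v := by
    intro e he he1 v hv hv1
    haveI := Fintype.ofFinite U
    let S : Finset U := (Finset.range (2 ^ n - 1)).image fun k => (y ^ k) e
    have hS : S.card = 2 ^ n - 1 := by
      rw [Finset.card_image_of_injOn, Finset.card_range]
      intro i hi j hj hij
      simp only [Finset.coe_range, Set.mem_Iio] at hi hj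
      have hij : (y ^ i) e = (y ^ j) e := hij
      have key : ∀ a d : ℕ, a + d < 2 ^ n - 1 → (y ^ a) e = (y ^ (a + d)) e → d = 0 := fun a d hlt hh => by
        rw [pow_add, MulAut.mul_apply] at hh
        have h1 : (y ^ d) e = e := ((y ^ a).injective hh).symm
        by_contra hne
        refine he1 (hfp d (fun hd => ?_) e h1)
        have h2 := orderOf_dvd_of_pow_eq_one hd
        rw [hy] at h2
        have := Nat.le_of_dvd (by omega) h2
        omega
      rcases Nat.le_total i j with hle | hle <;> obtain ⟨d, rfl⟩ := Nat.exists_eq_add_of_le hle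
      · rw [key i d hj hij, Nat.add_zero]
      · rw [key j d hi hij.symm, Nat.add_zero]
    let T : Finset U := (Finset.univ.filter fun u => u ∈ V).erase 1
    have hT : T.card = 2 ^ n - 1 := by
      rw [Finset.card_erase_of_mem (by simp [one_mem])]
      congr 1
      rw [← hcardV, Nat.card_eq_fintype_card, Fintype.card_subtype]
    have hsub : S ⊆ T := by
      intro x hx
      simp only [S, Finset.mem_image] at hx
      obtain ⟨k, -, rfl⟩ := hx
      simp only [T, Finset.mem_erase, Finset.mem_filter, Finset.mem_univ, true_and]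
      exact ⟨fun h => he1 ((y ^ k).injective (h.trans (map_one _).symm)), hyV' k e he⟩
    have hmem : v ∈ S := by
      rw [Finset.eq_of_subset_of_card_le hsub (by omega)]
      simp [T, hv, hv1]
    simp only [S, Finset.mem_image] at hmem
    obtain ⟨k, -, hk⟩ := hmem
    exact ⟨k, hk⟩
  -- `V` is central
  have hne : V ≠ ⊥ := fun hb => by
    rw [hb, Subgroup.card_bot] at hcardV
    have := Nat.one_lt_pow (a := 2) (by omega : n ≠ 0) (by norm_num)
    omega
  haveI : Group.IsNilpotent U := hp.isNilpotent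
  obtain ⟨⟨e, he⟩, he1⟩ := Subgroup.ne_bot_iff_exists_ne_one.1 (Cfsg.Agent.Grp.inf_center_ne_bot V hne)
  have he1' : e ≠ 1 := fun h => he1 (Subtype.ext h)
  obtain ⟨heV, heZ⟩ := Subgroup.mem_inf.1 he
  have hcen : ∀ v ∈ V, ∀ u, u * v = v * u := fun v hv u => by
    by_cases hv1 : v = 1
    · rw [hv1, mul_one, one_mul]
    obtain ⟨k, rfl⟩ := hsurj e heV he1' v hv hv1
    have h1 := congrArg (y ^ k) (Subgroup.mem_center_iff.1 heZ ((y ^ k).symm u))
    rwa [map_mul, map_mul, MulEquiv.apply_symm_apply] at h1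
  have hsq : ∀ u, ∀ v ∈ V, (u * v) ^ 2 = u ^ 2 := fun u v hv => by
    rw [Commute.mul_pow (hcen v hv u), hVe v hv, mul_one]
  have hpow : ∀ (k : ℕ) (v : V) (u : U), (QuotientGroup.mk u : U ⧸ V) = φ v →
      φ ⟨(y ^ k) v, hyV' k v v.2⟩ = QuotientGroup.mk ((y ^ k) u) := fun k => by
    induction k with
    | zero => exact fun v u h => h.symm
    | succ k ih =>
      intro v u h
      have h1 := hφ ⟨(y ^ k) v, hyV' k v v.2⟩ ((y ^ k) u) (ih v u h).symm
      have h2 : (⟨(y ^ (k + 1)) v, hyV' (k + 1) v v.2⟩ : V) = ⟨y ((y ^ k) v), hyV _ (hyV' k v v.2)⟩ :=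
        Subtype.ext (by show (y ^ (k + 1)) (v : U) = _; rw [pow_succ', MulAut.mul_apply])
      rw [h2, pow_succ', MulAut.mul_apply]
      exact h1
  obtain ⟨u₀, hu₀⟩ := QuotientGroup.mk_surjective (φ ⟨e, heV⟩)
  have hall : ∀ u : U, φ.symm (QuotientGroup.mk u) = 1 ∨ ∃ k : ℕ,
      ((φ.symm (QuotientGroup.mk u) : V) : U) = (y ^ k) e ∧ u ^ 2 = (y ^ k) (u₀ ^ 2) := fun u => by
    by_cases h1 : φ.symm (QuotientGroup.mk u) = 1
    · exact Or.inl h1
    obtain ⟨k, hk⟩ := hsurj e heV he1' _ (φ.symm (QuotientGroup.mk u)).2 fun h => h1 (Subtype.ext h)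
    refine Or.inr ⟨k, hk.symm, ?_⟩
    have h2 := hpow k ⟨e, heV⟩ u₀ hu₀
    have h3 : (QuotientGroup.mk u : U ⧸ V) = QuotientGroup.mk ((y ^ k) u₀) := by
      rw [← h2, ← φ.eq_symm_apply.1 (Subtype.ext hk : (⟨(y ^ k) e, hyV' k e heV⟩ : V) = _)]
    have h4 := hsq ((y ^ k) u₀) _ (QuotientGroup.eq.1 h3.symm)
    rw [mul_inv_cancel_left] at h4
    rw [h4, map_pow]
  have hone : ∀ u, φ.symm (QuotientGroup.mk u) = 1 → u ^ 2 = 1 := fun u h => by
    rw [MulEquiv.map_eq_one_iff, QuotientGroup.eq_one_iff] at h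
    exact hVe u h
  -- squaring is a homomorphism
  obtain ⟨σ, hσ⟩ : ∃ σ : U →* U, ∀ u, σ u = u ^ 2 := by
    by_cases h0 : u₀ ^ 2 = 1
    · refine ⟨1, fun u => ?_⟩
      rcases hall u with h | ⟨k, -, h⟩
      · rw [hone u h]; rfl
      · rw [h, h0, map_one]; rfl
    · obtain ⟨m, hm⟩ := hsurj e heV he1' _ (hQe u₀) h0
      refine ⟨(y ^ m).toMonoidHom.comp (V.subtype.comp (φ.symm.toMonoidHom.comp (QuotientGroup.mk' V))),
        fun u => ?_⟩
      show (y ^ m) ((φ.symm (QuotientGroup.mk u) : V) : U) = u ^ 2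
      rcases hall u with h | ⟨k, hk, h⟩
      · rw [hone u h, h]; exact map_one _
      · rw [h, hk, ← hm, ← MulAut.mul_apply, ← MulAut.mul_apply, ← pow_add, ← pow_add, Nat.add_comm]
  refine ⟨⟨fun a b => ?_⟩⟩
  have h1 := map_mul σ a b
  rw [hσ, hσ, hσ, pow_two, pow_two, pow_two, mul_assoc, mul_assoc] at h1
  have h2 := mul_left_cancel h1
  rw [← mul_assoc, ← mul_assoc] at h2
  exact (mul_right_cancel h2).symm

end Cfsg.Agent.S3158
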