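import Cfsg.Prelude
import Cfsg.Agent.Lib.Invol.SuzTwo.Models
-- import your own Cfsg.Agent.* helpers here

set_option autoImplicit false
open Cfsg

open scoped Pointwise commutatorElement

namespace Cfsg.Agent.S3161

/-- Let Q be a non-abelian finite 2-group admitting commuting automorphisms α of order 2 and ρ of order 2^n − 1, where n ≥ 2, such that the fixed points of α form an elementary abelian subgroup of order 2^n on whose nonidentity elements the group generated by ρ acts transitively. Then Q is isomorphic to a Sylow 2-subgroup of the projective special unitary group of dimension 3 with parameter 2^n (realised over the field with 4^n elements) or of the projective special linear group of dimension 3 over the field with 2^n elements. -/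
theorem result {Q : Type*} [Group Q] [Finite Q] (hQ : IsPGroup 2 Q) (hna : ¬ IsMulCommutative Q) (n : ℕ) (hn : 2 ≤ n)
    (α ρ : MulAut Q) (hα : orderOf α = 2) (hρ : orderOf ρ = 2 ^ n - 1) (hc : Commute α ρ)
    (C : Subgroup Q) (hC : ∀ x : Q, x ∈ C ↔ α x = x) (hCE : Cfsg.IsElementaryAbelian 2 C ∧ Nat.card ↥C = 2 ^ n)
    (htr : ∀ x y : Q, x ∈ C → y ∈ C → x ≠ 1 → y ≠ 1 → ∃ k : ℕ, (ρ ^ k) x = y) :
    (∃ (F : Type) (_ : Field F) (_ : Fintype F), Fintype.card F = 4 ^ n ∧
        ∃ S : Sylow 2 (Cfsg.PSU 3 F (2 ^ n)), Nonempty (Q ≃* ↥(S : Subgroup (Cfsg.PSU 3 F (2 ^ n))))) ∨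
      (∃ (F : Type) (_ : Field F) (_ : Fintype F), Fintype.card F = 2 ^ n ∧
        ∃ S : Sylow 2 (Matrix.ProjectiveSpecialLinearGroup (Fin 3) F), Nonempty (Q ≃* ↥(S : Subgroup (Matrix.ProjectiveSpecialLinearGroup (Fin 3) F)))) := by
  classical
  haveI : Fact (Nat.Prime 2) := ⟨Nat.prime_two⟩
  have hmem : ∀ x, x ∈ C → ρ x ∈ C := fun x hx => by
    rw [hC] at hx ⊢
    have := DFunLike.congr_fun hc.eq x
    rw [MulAut.mul_apply, MulAut.mul_apply, hx] at this
    exact this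
  have hmem' : ∀ x, ρ x ∈ C → x ∈ C := fun x hx => by
    rw [hC] at hx ⊢
    have := DFunLike.congr_fun hc.eq x
    rw [MulAut.mul_apply, MulAut.mul_apply, hx] at this
    exact ρ.injective this.symm
  obtain ⟨hcard2, hCexp⟩ : Nat.card ↥C = 2 ^ n ∧ ∀ c : C, c * c = 1 := by
    refine ⟨hCE.2, fun c => ?_⟩
    have := hCE.1
    unfold Cfsg.IsElementaryAbelian at this
    rw [← pow_two]
    first
      | exact this.2 c
      | exact Subtype.ext (this.2 c c.2)
      | exact Subtype.ext (this.2 c.1 c.2)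
      | exact this.2.2 c
  letI : CommGroup C := { (inferInstance : Group C) with
    mul_comm := fun a b => by
      have h1 := hCexp (a * b)
      rw [mul_eq_one_iff_inv_eq, mul_inv_rev, inv_eq_of_mul_eq_one_right (hCexp a), inv_eq_of_mul_eq_one_right (hCexp b)] at h1
      exact h1.symm }
  have h1q : 1 < 2 ^ n := Nat.one_lt_two_pow (by omega)
  haveI : Nontrivial C := Finite.one_lt_card_iff_nontrivial.mp (by rw [hcard2]; exact h1q)
  let r : MulAut C :=
    { toFun := fun c => ⟨ρ c.1, hmem _ c.2⟩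
      invFun := fun c => ⟨ρ.symm c.1, hmem' _ (by rw [ρ.apply_symm_apply]; exact c.2)⟩
      left_inv := fun c => Subtype.ext (ρ.symm_apply_apply _)
      right_inv := fun c => Subtype.ext (ρ.apply_symm_apply _)
      map_mul' := fun a b => Subtype.ext (map_mul ρ _ _) }
  have hrk : ∀ (k : ℕ) (c : C), ((r ^ k) c : Q) = (ρ ^ k) c.1 := by
    intro k
    induction k with
    | zero => intro c; rfl
    | succ k ih => intro c; rw [pow_succ', pow_succ' ρ, MulAut.mul_apply, MulAut.mul_apply, ← ih]; rfl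
  obtain ⟨F, _, _, ω, θ₀, hω, hadd, hbij, heq⟩ :=
    Cfsg.Agent.Invol.SuzTwo.exists_coord hCexp r (fun x y hx hy => by
      obtain ⟨k, hk⟩ := htr x.1 y.1 x.2 y.2 (fun e => hx (Subtype.ext e)) (fun e => hy (Subtype.ext e))
      exact ⟨k, Subtype.ext (by rw [hrk, hk])⟩)
  have hFc : Fintype.card F = 2 ^ n := by
    rw [← Nat.card_eq_fintype_card, ← Nat.card_congr (Equiv.ofBijective θ₀ hbij), hcard2]
  haveI : CharP F 2 := Cfsg.Agent.Recog.SU3Two.charP_two hFc
  let θ : Q → F := fun x => if hx : x ∈ C then θ₀ ⟨x, hx⟩ else 0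
  have hθ : ∀ c : C, θ c.1 = θ₀ c := fun c => dif_pos c.2
  have h : Cfsg.Agent.Invol.SuzTwo.Hyp α ρ ω θ := by
    refine ⟨hQ, fun x => ?_, fun x => ?_, fun c d hcc hdd => ?_, fun c hcc h0 => ?_, fun t => ?_, fun c hcc => ?_, ?_⟩
    · have := DFunLike.congr_fun (hα ▸ pow_orderOf_eq_one α) x
      rw [pow_two] at this
      exact this
    · exact DFunLike.congr_fun hc.eq x
    · have hc' := (hC c).mpr hcc
      have hd' := (hC d).mpr hdd
      rw [hθ ⟨c, hc'⟩, hθ ⟨d, hd'⟩, ← hadd]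
      exact hθ (⟨c, hc'⟩ * ⟨d, hd'⟩)
    · have hc' := (hC c).mpr hcc
      rw [hθ ⟨c, hc'⟩] at h0
      have h1 : θ₀ 1 = 0 := by
        have := hadd 1 1
        rw [mul_one] at this
        simpa using this.symm.trans (add_zero _).symm
      exact congrArg Subtype.val (hbij.1 (h0.trans h1.symm))
    · obtain ⟨c, hcc⟩ := hbij.2 t
      exact ⟨c.1, (hC _).mp c.2, by rw [hθ, hcc]⟩
    · have hc' := (hC c).mpr hcc
      rw [hθ ⟨c, hc'⟩, ← heq ⟨c, hc'⟩]
      exact hθ (r ⟨c, hc'⟩)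
    · rw [hFc, ← hρ]
      exact pow_orderOf_eq_one ρ
  have hq3 : 3 ≤ Fintype.card F := by
    rw [hFc]
    have : 2 ^ 2 ≤ 2 ^ n := Nat.pow_le_pow_right (by norm_num) hn
    omega
  rcases Cfsg.Agent.Invol.SuzTwo.classify hω hq3 Q α ρ θ h with hab | hS
  · exact absurd ⟨⟨hab⟩⟩ hna
  rcases Cfsg.Agent.Invol.SuzTwo.identify hω h hS with ⟨⟨e⟩⟩ | ⟨K, _, _, _, hK, ⟨e⟩⟩
  · right
    obtain ⟨P⟩ : Nonempty (Sylow 2 (Matrix.ProjectiveSpecialLinearGroup (Fin 3) F)) := inferInstance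
    obtain ⟨e'⟩ := Cfsg.Agent.Invol.SixtyFour.sylow_psl (F := F) P
    exact ⟨F, inferInstance, inferInstance, hFc, P, ⟨e.trans e'⟩⟩
  · left
    obtain ⟨S⟩ : Nonempty (Sylow 2 (Cfsg.PSU 3 K (Fintype.card F))) := inferInstance
    obtain ⟨e'⟩ := Cfsg.Agent.Recog.SU3Two.sylow_psu (n := n) hFc (by omega) S
    have goal : ∀ m, Fintype.card F = m → ∃ T : Sylow 2 (Cfsg.PSU 3 K m), Nonempty (Q ≃* ↥(T : Subgroup (Cfsg.PSU 3 K m))) := by
      rintro m rfl
      exact ⟨S, ⟨e.trans e'⟩⟩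
    refine ⟨K, inferInstance, inferInstance, ?_, goal _ hFc⟩
    rw [hK.out, hFc, show (4 : ℕ) = 2 ^ 2 from rfl, ← pow_mul, ← pow_mul, mul_comm]

end Cfsg.Agent.S3161
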