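import Cfsg.Statements.S3162
import Mathlib
import Cfsg.Agent.Lib.Recog.SU3SylowMulAut
-- import your own Cfsg.Agent.* helpers here

set_option autoImplicit false
open Cfsg

namespace Cfsg.Agent.S3162

/-- Let S be a Sylow 2-subgroup of the special unitary group of dimension 3 with parameter q = 2^n (n ≥ 2; realised over the field with q² elements). Then the largest normal 2-subgroup of the automorphism group of S is elementary abelian of order 2^(2n²), and the automorphism group has order 2^(2n²) · 2n(q² − 1). -/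
theorem result {S : Type*} [Group S] [Finite S] (n : ℕ) (hn : 2 ≤ n) {F : Type*} [Field F] [Fintype F] (hF : Fintype.card F = 4 ^ n)
    (P : Sylow 2 ↥(Cfsg.SU 3 F (2 ^ n))) (hS : Nonempty (S ≃* ↥(P : Subgroup ↥(Cfsg.SU 3 F (2 ^ n))))) :
    Cfsg.IsElementaryAbelian 2 (Cfsg.pCore 2 (MulAut S)) ∧ Nat.card ↥(Cfsg.pCore 2 (MulAut S)) = 2 ^ (2 * n ^ 2) ∧
      Nat.card (MulAut S) = 2 ^ (2 * n ^ 2) * (2 * n * ((2 ^ n) ^ 2 - 1)) := by
  have hF' : Fintype.card F = (2 ^ n) ^ 2 := by rw [hF, ← pow_mul, mul_comm, pow_mul]; norm_num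
  haveI := Cfsg.Agent.Recog.SU3Two.charP_two (F := F) (m := n * 2) (hF'.trans (pow_mul 2 n 2).symm)
  haveI : Fact (Fintype.card F = (2 ^ n) ^ 2) := ⟨hF'⟩
  obtain ⟨e0⟩ := Cfsg.Agent.Recog.SU3Two.sylow_su (n := n) (q := 2 ^ n) rfl (by omega) P
  obtain ⟨e1⟩ := hS
  let e := e0.trans e1.symm
  let E := MulAut.congr e
  have hF2 : Fintype.card F = 2 ^ (n * 2) := hF'.trans (pow_mul 2 n 2).symm
  let Q := MulAut (Cfsg.Agent.Recog.SU3Two.UT F (2 ^ n))
  set K := Cfsg.Agent.Recog.SU3Two.kerLA F (2 ^ n)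
  have hK : pCore 2 (MulAut S) = K.map E.toMonoidHom := by
    refine le_antisymm (sSup_le ?_) (le_sSup ⟨(inferInstance : K.Normal).map _ E.surjective,
      Cfsg.Agent.Recog.SU3Two.kerLA_isPGroup.map _⟩)
    rintro N ⟨hN, hN2⟩ g hg
    haveI := hN
    refine ⟨E.symm g, ?_, E.apply_symm_apply g⟩
    show E.symm g ∈ Cfsg.Agent.Recog.SU3Two.kerLA F (2 ^ n)
    rw [← Cfsg.Agent.Recog.SU3Two.pCore_aut]
    exact (le_sSup ⟨hN.map _ E.symm.surjective, hN2.map E.symm.toMonoidHom⟩ : N.map E.symm.toMonoidHom ≤ pCore 2 Q)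
      ⟨g, hg, rfl⟩
  have hKc : Nat.card K = 2 ^ (2 * n ^ 2) := by
    rw [Nat.card_congr Cfsg.Agent.Recog.SU3Two.kerEquiv, Cfsg.Agent.Recog.SU3Two.card_hom hF2, ← pow_mul]
    congr 1; ring
  rw [hK]
  refine ⟨?_, ?_, ?_⟩
  · refine ⟨⟨⟨fun a b => ?_⟩⟩, ?_⟩
    · obtain ⟨_, a, ha, rfl⟩ := a
      obtain ⟨_, b, hb, rfl⟩ := b
      exact Subtype.ext (by
        show E a * E b = E b * E a
        rw [← map_mul, ← map_mul, Cfsg.Agent.Recog.SU3Two.ker_elementary.1 a ha b hb])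
    · rintro _ ⟨a, ha, rfl⟩
      show E a ^ 2 = 1
      rw [← map_pow, sq, Cfsg.Agent.Recog.SU3Two.ker_elementary.2 a ha, map_one]
  · rw [Subgroup.card_map_of_injective E.injective, hKc]
  · rw [← Nat.card_congr E.toEquiv, Nat.card_congr Cfsg.Agent.Recog.SU3Two.autEquiv, Nat.card_prod, Nat.card_prod,
      hKc, Nat.card_units, Nat.card_eq_fintype_card (α := F), Cfsg.Agent.Recog.SU3Two.card_ringAut hF2, hF']
    ring

end Cfsg.Agent.S3162
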