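import Cfsg.Statements.S3163
import Mathlib

set_option autoImplicit false
open Cfsg

namespace Cfsg.Agent.S3163

theorem map_elem {S : Type*} [Group S] {X : Subgroup S} (h : IsElementaryAbelian 2 X) (f : S →* S) :
    IsElementaryAbelian 2 (X.map f) := by
  refine ⟨⟨⟨fun u v => Subtype.ext ?_⟩⟩, ?_⟩
  · obtain ⟨u', hu', hu⟩ := u.2
    obtain ⟨v', hv', hv⟩ := v.2
    simp only [Subgroup.coe_mul, ← hu, ← hv, ← map_mul]
    exact congrArg f (congrArg Subtype.val (h.1.is_comm.comm ⟨u', hu'⟩ ⟨v', hv'⟩))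
  · rintro _ ⟨u, hu, rfl⟩
    rw [← map_pow, h.2 u hu, map_one]

/-- Let S be a non-abelian finite 2-group which is the product S = AB of two elementary abelian subgroups A and B, and suppose that the centralizer in S of every element of A outside B is exactly A. Then the centralizer of every element of B outside A is exactly B; A and B are maximal elementary abelian subgroups of S and the only ones; the centre of S is A ∩ B; and every element of S outside A ∪ B has centralizer of order at most min(|A|, |B|). -/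
theorem result {S : Type*} [Group S] [Finite S] (hS : IsPGroup 2 S) (hna : ¬ IsMulCommutative S) (A B : Subgroup S)
    (hA : Cfsg.IsElementaryAbelian 2 A) (hB : Cfsg.IsElementaryAbelian 2 B) (hAB : ∀ s : S, ∃ a ∈ A, ∃ b ∈ B, s = a * b)
    (hC : ∀ a ∈ A, a ∉ B → Subgroup.centralizer ({a} : Set S) = A) :
    (∀ b ∈ B, b ∉ A → Subgroup.centralizer ({b} : Set S) = B) ∧
      (∀ E : Subgroup S, Cfsg.IsElementaryAbelian 2 E → (∀ E' : Subgroup S, Cfsg.IsElementaryAbelian 2 E' → E ≤ E' → E' = E) → E = A ∨ E = B) ∧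
      (∀ E' : Subgroup S, Cfsg.IsElementaryAbelian 2 E' → A ≤ E' → E' = A) ∧ (∀ E' : Subgroup S, Cfsg.IsElementaryAbelian 2 E' → B ≤ E' → E' = B) ∧
      Subgroup.center S = A ⊓ B ∧
      (∀ x : S, x ∉ A → x ∉ B → Nat.card ↥(Subgroup.centralizer ({x} : Set S)) ≤ min (Nat.card ↥A) (Nat.card ↥B)) := by
  obtain ⟨hAc, hA2⟩ := hA
  obtain ⟨hBc, hB2⟩ := hB
  have hcommA : ∀ a ∈ A, ∀ b ∈ A, a * b = b * a := fun a ha b hb => congrArg Subtype.val (hAc.is_comm.comm ⟨a, ha⟩ ⟨b, hb⟩)
  have hcommB : ∀ a ∈ B, ∀ b ∈ B, a * b = b * a := fun a ha b hb => congrArg Subtype.val (hBc.is_comm.comm ⟨a, ha⟩ ⟨b, hb⟩)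
  have hnot : ∀ a ∈ A, a ∉ B → ∀ x, x * a = a * x → x ∈ A := fun a ha hab x hx => by
    rw [← hC a ha hab]; exact Subgroup.mem_centralizer_singleton_iff.mpr hx
  have hAnB : ¬ A ≤ B := by
    intro h
    refine hna ⟨⟨fun s t => ?_⟩⟩
    obtain ⟨a, ha, b, hb, rfl⟩ := hAB s
    obtain ⟨c, hc, d, hd, rfl⟩ := hAB t
    exact hcommB _ (B.mul_mem (h ha) hb) _ (B.mul_mem (h hc) hd)
  have hBnA : ¬ B ≤ A := by
    intro h
    refine hna ⟨⟨fun s t => ?_⟩⟩
    obtain ⟨a, ha, b, hb, rfl⟩ := hAB s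
    obtain ⟨c, hc, d, hd, rfl⟩ := hAB t
    exact hcommA _ (A.mul_mem ha (h hb)) _ (A.mul_mem hc (h hd))
  obtain ⟨a₀, ha₀, ha₀B⟩ := SetLike.not_le_iff_exists.mp hAnB
  obtain ⟨b₀, hb₀, hb₀A⟩ := SetLike.not_le_iff_exists.mp hBnA
  have hCB : ∀ b ∈ B, b ∉ A → ∀ x, x * b = b * x → x ∈ B := by
    intro b hb hbA x hx
    obtain ⟨a, ha, c, hc, rfl⟩ := hAB x
    refine B.mul_mem ?_ hc
    by_contra haB
    refine hbA (hnot a ha haB b ?_)
    have h1 : a * b * c = b * a * c := by
      rw [mul_assoc, hcommB b hb c hc, ← mul_assoc, hx, ← mul_assoc]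
    exact (mul_right_cancel h1).symm
  have hinv : ∀ x : S, x ^ 2 = 1 → x ∈ A ∨ x ∈ B := by
    intro x hx
    obtain ⟨a, ha, b, hb, rfl⟩ := hAB x
    by_cases haB : a ∈ B
    · exact Or.inr (B.mul_mem haB hb)
    · refine Or.inl (A.mul_mem ha (hnot a ha haB b ?_))
      have ea := hA2 a ha
      have eb := hB2 b hb
      rw [pow_two] at hx ea eb
      calc b * a = (a * a) * (b * a) * (b * b) := by rw [ea, eb, one_mul, mul_one]
        _ = a * (a * b * (a * b)) * b := by group
        _ = a * b := by rw [hx, mul_one]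
  have hdich : ∀ E : Subgroup S, IsElementaryAbelian 2 E → E ≤ A ∨ E ≤ B := by
    intro E hE
    by_contra h
    push Not at h
    obtain ⟨x, hx, hxA⟩ := SetLike.not_le_iff_exists.mp h.1
    obtain ⟨y, hy, hyB⟩ := SetLike.not_le_iff_exists.mp h.2
    have hxB := (hinv x (hE.2 x hx)).resolve_left hxA
    have hyA := (hinv y (hE.2 y hy)).resolve_right hyB
    exact hxA (hnot y hyA hyB x (congrArg Subtype.val (hE.1.is_comm.comm ⟨x, hx⟩ ⟨y, hy⟩)))
  have hAmax : ∀ E' : Subgroup S, IsElementaryAbelian 2 E' → A ≤ E' → E' = A := by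
    intro E hE hle
    refine le_antisymm ((hdich E hE).resolve_right fun h => hAnB (hle.trans h)) hle
  have hBmax : ∀ E' : Subgroup S, IsElementaryAbelian 2 E' → B ≤ E' → E' = B := by
    intro E hE hle
    refine le_antisymm ((hdich E hE).resolve_left fun h => hBnA (hle.trans h)) hle
  have hcentZ : Subgroup.center S = A ⊓ B := by
    ext z
    rw [Subgroup.mem_center_iff, Subgroup.mem_inf]
    constructor
    · exact fun hz => ⟨hnot a₀ ha₀ ha₀B z (hz a₀).symm, hCB b₀ hb₀ hb₀A z (hz b₀).symm⟩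
    · rintro ⟨hzA, hzB⟩ s
      obtain ⟨a, ha, b, hb, rfl⟩ := hAB s
      rw [mul_assoc, hcommB b hb z hzB, ← mul_assoc, hcommA a ha z hzA, mul_assoc]
  refine ⟨fun b hb hbA => ?_, fun E hE hEmax => ?_, hAmax, hBmax, hcentZ, fun x hxA hxB => ?_⟩
  · ext x
    rw [Subgroup.mem_centralizer_singleton_iff]
    exact ⟨hCB b hb hbA x, fun hx => hcommB x hx b hb⟩
  · rcases hdich E hE with h | h
    · exact Or.inl (hEmax A ⟨hAc, hA2⟩ h).symm
    · exact Or.inr (hEmax B ⟨hBc, hB2⟩ h).symm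
  · obtain ⟨a, ha, b, hb, rfl⟩ := hAB x
    have haB : a ∉ B := fun h => hxB (B.mul_mem h hb)
    have hbA : b ∉ A := fun h => hxA (A.mul_mem ha h)
    set C := Subgroup.centralizer ({a * b} : Set S) with hCdef
    have hboth : C ⊓ A = A ⊓ B ∧ C ⊓ B = A ⊓ B := by
      constructor
      · ext y
        simp only [Subgroup.mem_inf, hCdef, Subgroup.mem_centralizer_singleton_iff]
        constructor
        · rintro ⟨hy, hyA⟩
          refine ⟨hyA, hCB b hb hbA y ?_⟩
          rw [← mul_assoc, hcommA y hyA a ha, mul_assoc, mul_assoc] at hy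
          exact mul_left_cancel hy
        · rintro ⟨hyA, hyB⟩
          exact ⟨by rw [← mul_assoc, hcommA y hyA a ha, mul_assoc, hcommB y hyB b hb, ← mul_assoc], hyA⟩
      · ext y
        simp only [Subgroup.mem_inf, hCdef, Subgroup.mem_centralizer_singleton_iff]
        constructor
        · rintro ⟨hy, hyB⟩
          refine ⟨hnot a ha haB y ?_, hyB⟩
          rw [mul_assoc a b y, hcommB b hb y hyB, ← mul_assoc, ← mul_assoc] at hy
          exact mul_right_cancel hy
        · rintro ⟨hyA, hyB⟩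
          exact ⟨by rw [← mul_assoc, hcommA y hyA a ha, mul_assoc, hcommB y hyB b hb, ← mul_assoc], hyB⟩
    have hnA : A.Normal := ⟨fun n hn g => by
      obtain ⟨c, hc, d, hd, rfl⟩ := hAB g
      have hd' : d * n * d⁻¹ ∈ A := by
        rcases hdich (A.map (MulAut.conj d).toMonoidHom) (map_elem ⟨hAc, hA2⟩ _) with h | h
        · exact h ⟨n, hn, rfl⟩
        · exfalso
          exact ha₀B (by
            have := h ⟨a₀, ha₀, rfl⟩
            simpa [mul_assoc] using B.mul_mem (B.mul_mem (B.inv_mem hd) this) hd)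
      have := A.mul_mem (A.mul_mem hc hd') (A.inv_mem hc)
      simpa [mul_assoc, mul_inv_rev] using this⟩
    have hnB : B.Normal := ⟨fun n hn g => by
      obtain ⟨c, hc, d, hd, rfl⟩ := hAB g
      have hd' : d * n * d⁻¹ ∈ B := B.mul_mem (B.mul_mem hd hn) (B.inv_mem hd)
      rcases hdich (B.map (MulAut.conj c).toMonoidHom) (map_elem ⟨hBc, hB2⟩ _) with h | h
      · exfalso
        exact hb₀A (by
          have := h ⟨b₀, hb₀, rfl⟩
          simpa [mul_assoc] using A.mul_mem (A.mul_mem (A.inv_mem hc) this) hc)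
      · simpa [mul_assoc, mul_inv_rev] using h ⟨_, hd', rfl⟩⟩
    have hsup : A ⊔ B = ⊤ := top_le_iff.mp fun s _ => by
      obtain ⟨c, hc, d, hd, rfl⟩ := hAB s
      exact Subgroup.mul_mem_sup hc hd
    have hsize : ∀ (A B : Subgroup S), A.Normal → A ⊔ B = ⊤ → C ⊓ A = A ⊓ B →
        Nat.card C ≤ Nat.card B := by
      intro A B hn hs hCA
      haveI := hn
      have e1 := Subgroup.relIndex_mul_relIndex ⊥ (C ⊓ A) C bot_le inf_le_left
      rw [Subgroup.relIndex_bot_left, Subgroup.relIndex_bot_left, Subgroup.inf_relIndex_left] at e1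
      have e2 := Subgroup.relIndex_mul_relIndex ⊥ (A ⊓ B) B bot_le inf_le_right
      rw [Subgroup.relIndex_bot_left, Subgroup.relIndex_bot_left, Subgroup.inf_relIndex_right] at e2
      have e3 : A.relIndex B = A.index := by
        rw [← Subgroup.relIndex_sup_right B A, sup_comm, hs, Subgroup.relIndex_top_right]
      rw [← e1, ← e2, hCA, e3]
      exact Nat.mul_le_mul_left _ (Nat.le_of_dvd (Nat.pos_of_ne_zero Subgroup.index_ne_zero_of_finite)
        (Subgroup.relIndex_dvd_index_of_normal A C))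
    refine le_min (hsize B A hnB (sup_comm A B ▸ hsup) (by rw [hboth.2, inf_comm])) (hsize A B hnA hsup hboth.1)

end Cfsg.Agent.S3163
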