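import Cfsg.Statements.S3165
import Mathlib

set_option autoImplicit false
open Cfsg

namespace Cfsg.Agent.S3165

/-- Let a group X act on a group Y by automorphisms and let z be an element of Y all of whose Y-conjugates are fixed by X. Then every element of the form (x·y)y⁻¹, x ∈ X, y ∈ Y (these generate the commutator [X, Y]) commutes with z. -/
theorem result {X Y : Type*} [Group X] [Group Y] [MulDistribMulAction X Y] (z : Y)
    (hz : ∀ y : Y, ∀ x : X, x • (y * z * y⁻¹) = y * z * y⁻¹) :
    ∀ x : X, ∀ y : Y, Commute ((x • y) * y⁻¹) z := by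
  intro x y
  have h1 : x • z = z := by simpa using hz 1 x
  have h2 := hz y x
  rw [smul_mul', smul_mul', smul_inv', h1] at h2
  show (x • y) * y⁻¹ * z = z * ((x • y) * y⁻¹)
  have h3 : ∀ a b : Y, a * z * a⁻¹ = b * z * b⁻¹ → b⁻¹ * a * z = z * (b⁻¹ * a) := by
    intro a b h
    have := congrArg (fun w => b⁻¹ * w * a) h
    simpa [mul_assoc] using this
  -- every conjugate of z is fixed, so apply this to the conjugate by y⁻¹
  have h4 := hz (y⁻¹) x
  rw [smul_mul', smul_mul', smul_inv', smul_inv', h1] at h4
  simp only [inv_inv] at h4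
  have h5 := h3 ((x • y)⁻¹) (y⁻¹) (by simpa using h4)
  simp only [inv_inv] at h5
  have := congrArg (fun w => y * w * y⁻¹) h5
  have h6 := h3 (x • y) y h2
  have h7 : Commute (y * (x • y)⁻¹) z := h5
  have := h7.inv_left
  simpa [Commute, SemiconjBy] using this

end Cfsg.Agent.S3165
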