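import Cfsg.Statements.S3166
import Mathlib

set_option autoImplicit false
open Cfsg

namespace Cfsg.Agent.S3166

theorem not_sq {q : ℤ} (hq : 2 ≤ q) (k : ℤ) : q ^ 4 - q ^ 3 + q ^ 2 - q + 1 ≠ k ^ 2 := by
  intro h
  have h4 : (2 * |k|) ^ 2 = 4 * (q ^ 4 - q ^ 3 + q ^ 2 - q + 1) := by rw [h, mul_pow, sq_abs]; norm_num
  have hlo : 2 * q ^ 2 - q < 2 * |k| := by
    refine lt_of_pow_lt_pow_left₀ 2 (by positivity) ?_
    rw [h4]; nlinarith
  have hhi : 2 * |k| < 2 * q ^ 2 - q + 1 := by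
    refine lt_of_pow_lt_pow_left₀ 2 (by nlinarith) ?_
    rw [h4]; nlinarith
  omega


/-- Let q = 2^n with n ≥ 1. If q⁴ − q³ + q² − q + 1 is a power p^m of a prime p, then m = 1: the value is never a prime power with exponent greater than 1. -/
theorem result (n p m : ℕ) (hn : 1 ≤ n) (hp : p.Prime) (h : (2 ^ n) ^ 4 - (2 ^ n) ^ 3 + (2 ^ n) ^ 2 - 2 ^ n + 1 = p ^ m) : m = 1 := by
  set q : ℕ := 2 ^ n with hq
  have hq2 : 2 ≤ q := by rw [hq]; calc 2 = 2 ^ 1 := by norm_num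
                                    _ ≤ 2 ^ n := Nat.pow_le_pow_right (by norm_num) hn
  have h34 : q ^ 3 ≤ q ^ 4 := Nat.pow_le_pow_right (by omega) (by norm_num)
  have hqq : q ≤ q ^ 4 - q ^ 3 + q ^ 2 := le_trans (Nat.le_self_pow (by norm_num) q) (Nat.le_add_left _ _)
  have hZ : (q : ℤ) ^ 4 - (q : ℤ) ^ 3 + (q : ℤ) ^ 2 - q + 1 = (p : ℤ) ^ m := by
    have := congrArg (fun x : ℕ => (x : ℤ)) h
    push_cast [Nat.cast_sub h34, Nat.cast_sub hqq] at this
    simpa using this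
  have hqZ : (2 : ℤ) ≤ q := by exact_mod_cast hq2
  rcases Nat.even_or_odd m with ⟨j, hj⟩ | hodd
  · exfalso
    refine not_sq hqZ ((p : ℤ) ^ j) ?_
    rw [hZ, hj, ← two_mul, pow_mul', ← pow_mul]
  by_contra hm1
  obtain ⟨j, rfl⟩ := hodd
  have hpodd : Odd p := by
    rcases hp.eq_two_or_odd' with rfl | h'
    · exfalso
      have hev : Even ((q : ℤ)) := by
        rw [hq]; push_cast; exact (Int.even_pow.mpr ⟨even_two, by omega⟩)
      have : Odd ((q : ℤ) ^ 4 - (q : ℤ) ^ 3 + (q : ℤ) ^ 2 - q + 1) := by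
        refine Even.add_one ?_
        simp [parity_simps, hev]
      rw [hZ] at this
      simp [parity_simps] at this
      all_goals exact absurd this (by decide)
    · exact h'
  -- q divides p - 1
  have hgeom : ((p : ℤ) - 1) * (∑ i ∈ Finset.range (2 * j + 1), (p : ℤ) ^ i) = (p : ℤ) ^ (2 * j + 1) - 1 := by
    rw [mul_comm, geom_sum_mul]
  have hSodd : Odd (∑ i ∈ Finset.range (2 * j + 1), (p : ℤ) ^ i) := by
    have : Odd ((p : ℤ)) := by exact_mod_cast hpodd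
    have h2 : ∀ k, (Odd (∑ i ∈ Finset.range k, (p : ℤ) ^ i) ↔ Odd k) := by
      intro k
      induction k with
      | zero => simp
      | succ k ih =>
        rw [Finset.sum_range_succ, Int.odd_add, ih]
        have hp2 : ¬ Even ((p : ℤ) ^ k) := Int.not_even_iff_odd.mpr this.pow
        rw [Nat.odd_add_one]
        simp [hp2]
    exact (h2 _).mpr ⟨j, rfl⟩
  have hdiv : (q : ℤ) ∣ ((p : ℤ) - 1) := by
    have h1 : (q : ℤ) ∣ ((p : ℤ) - 1) * (∑ i ∈ Finset.range (2 * j + 1), (p : ℤ) ^ i) := by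
      rw [hgeom, ← hZ]
      exact ⟨(q : ℤ) ^ 3 - (q : ℤ) ^ 2 + q - 1, by ring⟩
    refine IsCoprime.dvd_of_dvd_mul_right ?_ h1
    rw [hq]; push_cast
    refine IsCoprime.pow_left ?_
    obtain ⟨t, ht⟩ := hSodd
    exact ⟨-t, 1, by rw [ht]; ring⟩
  obtain ⟨u, hu⟩ := hdiv
  have hp' : (p : ℤ) = 1 + q * u := by linarith
  have hu1 : 1 ≤ u := by
    have : (2 : ℤ) ≤ p := by exact_mod_cast hp.two_le
    nlinarith
  rcases (show j = 1 ∨ 2 ≤ j by omega) with rfl | hj2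
  swap
  · have hge : (q : ℤ) + 1 ≤ p := by nlinarith
    have h5 : ((q : ℤ) + 1) ^ 5 ≤ (p : ℤ) ^ (2 * j + 1) :=
      le_trans (pow_le_pow_left₀ (by omega) hge 5) (pow_le_pow_right₀ (by omega) (by omega))
    rw [← hZ] at h5
    nlinarith [pow_nonneg (show (0:ℤ) ≤ q by omega) 3, pow_nonneg (show (0:ℤ) ≤ q by omega) 5, pow_nonneg (show (0:ℤ) ≤ q by omega) 4]
  · -- the cube case
    rw [hp'] at hZ
    have hq0 : (q : ℤ) ≠ 0 := by omega
    have hk : 3 * u + 1 = (q : ℤ) * ((q : ℤ) ^ 2 - q + 1 - 3 * u ^ 2 - q * u ^ 3) := by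
      refine mul_left_cancel₀ hq0 ?_
      linear_combination -hZ
    have hcube : u ^ 3 < q := by
      have h1 : (q : ℤ) ^ 3 * u ^ 3 < (q : ℤ) ^ 4 := by nlinarith [pow_nonneg (show (0:ℤ) ≤ q by omega) 2, pow_nonneg (show (0:ℤ) ≤ q by omega) 3]
      have hq3 : (0:ℤ) < (q : ℤ) ^ 3 := by positivity
      nlinarith
    have hle : (q : ℤ) ≤ 3 * u + 1 := Int.le_of_dvd (by omega) ⟨_, hk⟩
    have hu3 : u < 3 := by nlinarith
    have hq8 : q ≤ 7 := by omega
    have hn3 : n < 3 := by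
      by_contra hcon
      have : 2 ^ 3 ≤ q := by rw [hq]; exact Nat.pow_le_pow_right (by norm_num) (not_lt.mp hcon)
      omega
    interval_cases n <;> norm_num [hq] at hk hcube ⊢ <;> interval_cases u <;> first | omega | (norm_num at hk)

end Cfsg.Agent.S3166
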