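import Cfsg.Statements.S3170
import Cfsg.Agent.Lib.Spor.M24Closed.Main

set_option autoImplicit false
open Cfsg

namespace Cfsg.Agent.S3170

/-- Let H be a finite group with no nontrivial normal subgroup of odd order whose Sylow 2-subgroup T is isomorphic to a Sylow 2-subgroup of the Mathieu group of degree 24, and suppose that the centre of T lies in the centre of H. If E is a subgroup of T that is normal in T and extraspecial of order 2^7, and E is the only such subgroup of T, then E is normal in H. -/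
theorem result {H : Type*} [Group H] [Finite H]
    (hO : Cfsg.oddCore H = ⊥) (T : Sylow 2 H) (P : Sylow 2 ↥Cfsg.M24)
    (hT : Nonempty (↥(T : Subgroup H) ≃* ↥(P : Subgroup ↥Cfsg.M24)))
    (hZ : ∀ z ∈ (T : Subgroup H), (∀ t ∈ (T : Subgroup H), z * t = t * z) → z ∈ Subgroup.center H)
    (E : Subgroup H) (hE : E ≤ (T : Subgroup H)) (hEn : (E.subgroupOf (T : Subgroup H)).Normal)
    (hEx : Cfsg.IsExtraspecial 2 ↥E) (hE7 : Nat.card ↥E = 2 ^ 7)
    (huniq : ∀ E' : Subgroup H, E' ≤ (T : Subgroup H) → (E'.subgroupOf (T : Subgroup H)).Normal →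
      Cfsg.IsExtraspecial 2 ↥E' → Nat.card ↥E' = 2 ^ 7 → E' = E) :
    E.Normal := by
  classical
  haveI : Fact (Nat.Prime 2) := ⟨Nat.prime_two⟩
  obtain ⟨e⟩ := hT
  set Z : Subgroup H := (Subgroup.center ↥(T : Subgroup H)).map (T : Subgroup H).subtype with hZdef
  have hZc : Z ≤ Subgroup.center H := by
    rintro _ ⟨z, hz, rfl⟩
    exact hZ z z.2 fun t ht => (congrArg Subtype.val (Subgroup.mem_center_iff.1 hz ⟨t, ht⟩)).symm
  haveI hZn : Z.Normal :=
    ⟨fun z hz g => by rw [Subgroup.mem_center_iff.1 (hZc hz) g, mul_inv_cancel_right]; exact hz⟩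
  have hZT : Z ≤ (T : Subgroup H) := Subgroup.map_subtype_le _
  have hq := QuotientGroup.mk'_surjective Z
  set T' : Sylow 2 (H ⧸ Z) := T.mapSurjective hq
  have hT' : (T' : Subgroup (H ⧸ Z)) = (T : Subgroup H).map (QuotientGroup.mk' Z) := Sylow.coe_mapSurjective _ _
  -- the Sylow subgroup of the quotient
  let f : ↥(T : Subgroup H) →* ↥(T' : Subgroup (H ⧸ Z)) :=
    ((QuotientGroup.mk' Z).comp (T : Subgroup H).subtype).codRestrict _ fun t => hT'.ge ⟨t, t.2, rfl⟩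
  have hf : Function.Surjective f := by
    rintro ⟨x, hx⟩
    obtain ⟨t, ht, rfl⟩ := hT'.le hx
    exact ⟨⟨t, ht⟩, rfl⟩
  have hker : f.ker = Subgroup.center ↥(T : Subgroup H) := by
    ext t
    refine ⟨fun h => ?_, fun h => Subtype.ext ((QuotientGroup.eq_one_iff _).2 ⟨t, h, rfl⟩)⟩
    have h' : ((t : H) : H ⧸ Z) = 1 := congrArg Subtype.val h
    obtain ⟨z, hz, hzt⟩ := (QuotientGroup.eq_one_iff _).1 h'
    exact (Subtype.ext hzt : z = t) ▸ hz
  let g : ↥(T : Subgroup H) →* (↥(P : Subgroup ↥Cfsg.M24) ⧸ Subgroup.center ↥(P : Subgroup ↥Cfsg.M24)) :=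
    (QuotientGroup.mk' _).comp e.toMonoidHom
  have hg : Function.Surjective g := (QuotientGroup.mk'_surjective _).comp e.surjective
  have hgker : g.ker = Subgroup.center ↥(T : Subgroup H) := by
    ext t
    rw [MonoidHom.mem_ker, MonoidHom.comp_apply, QuotientGroup.mk'_apply, QuotientGroup.eq_one_iff]
    refine ⟨fun h => Subgroup.mem_center_iff.2 fun s => e.injective ?_, fun h => Subgroup.mem_center_iff.2 fun p => ?_⟩
    · rw [map_mul, map_mul]; exact Subgroup.mem_center_iff.1 h (e s)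
    · obtain ⟨s, rfl⟩ := e.surjective p
      show e s * e t = e t * e s
      rw [← map_mul, ← map_mul, Subgroup.mem_center_iff.1 h s]
  let iso : ↥(T' : Subgroup (H ⧸ Z)) ≃* (↥(P : Subgroup ↥Cfsg.M24) ⧸ Subgroup.center ↥(P : Subgroup ↥Cfsg.M24)) :=
    (QuotientGroup.quotientKerEquivOfSurjective f hf).symm.trans
      ((QuotientGroup.quotientMulEquivOfEq (hker.trans hgker.symm)).trans (QuotientGroup.quotientKerEquivOfSurjective g hg))
  -- the uniqueness in the quotient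
  obtain ⟨-, ⟨V, -, hV⟩, hun⟩ := Cfsg.Agent.S3171.result P
  have hunT : ∀ B₁ B₂ : Subgroup (H ⧸ Z), B₁ ≤ (T' : Subgroup (H ⧸ Z)) → B₂ ≤ (T' : Subgroup (H ⧸ Z)) →
      IsMulCommutative ↥B₁ → Nat.card ↥B₁ = 64 → IsMulCommutative ↥B₂ → Nat.card ↥B₂ = 64 → B₁ = B₂ := by
    intro B₁ B₂ h1 h2 c1 n1 c2 n2
    have key : ∀ (B : Subgroup (H ⧸ Z)), B ≤ (T' : Subgroup (H ⧸ Z)) → IsMulCommutative ↥B → Nat.card ↥B = 64 →
        IsMulCommutative ↥((B.subgroupOf T').map iso.toMonoidHom) ∧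
          Nat.card ↥((B.subgroupOf T').map iso.toMonoidHom) = 64 := fun B hB hc hn => by
      refine ⟨⟨⟨?_⟩⟩, ?_⟩
      · rintro ⟨_, x, hx, rfl⟩ ⟨_, y, hy, rfl⟩
        refine Subtype.ext ?_
        show iso x * iso y = iso y * iso x
        rw [← map_mul, ← map_mul]
        refine congrArg iso (Subtype.ext ?_)
        exact congrArg (fun z : ↥B => (z : H ⧸ Z)) (hc.is_comm.comm (⟨x.1, hx⟩ : ↥B) ⟨y.1, hy⟩)
      · rw [Subgroup.card_map_of_injective (f := iso.toMonoidHom) iso.injective,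
          Nat.card_congr (Subgroup.subgroupOfEquivOfLe hB).toEquiv, hn]
    obtain ⟨a1, b1⟩ := key B₁ h1 c1 n1
    obtain ⟨a2, b2⟩ := key B₂ h2 c2 n2
    have h := Subgroup.map_injective (f := iso.toMonoidHom) iso.injective (hun _ _ a1 b1 a2 b2)
    rw [← Subgroup.map_subgroupOf_eq_of_le h1, h, Subgroup.map_subgroupOf_eq_of_le h2]
  -- `E` maps onto the abelian subgroup of order 64
  set Ec : Subgroup H := (Subgroup.center ↥E).map E.subtype with hEc
  have hEc2 : Nat.card ↥Ec = 2 := (Subgroup.card_map_of_injective E.subtype_injective).trans hEx.2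
  have hEcZ : Ec ≤ Z := by
    intro c hc
    obtain ⟨c', hc', rfl⟩ := hc
    have hcT : (c' : H) ∈ (T : Subgroup H) := hE c'.2
    refine ⟨⟨c', hcT⟩, Subgroup.mem_center_iff.2 fun t => Subtype.ext ?_, rfl⟩
    have hn : ∀ x ∈ E, (t : H) * x * (t : H)⁻¹ ∈ E := fun x hx =>
      Subgroup.mem_subgroupOf.1 (hEn.conj_mem ⟨x, hE hx⟩ (Subgroup.mem_subgroupOf.2 hx) t)
    by_cases h1 : (c' : H) = 1
    · show (t : H) * c' = c' * t
      rw [h1]; simp
    -- the conjugate is again the non-trivial central element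
    have hcc : (⟨(t : H) * c' * (t : H)⁻¹, hn _ c'.2⟩ : ↥E) ∈ Subgroup.center ↥E := by
      refine Subgroup.mem_center_iff.2 fun x => Subtype.ext ?_
      have hx' : (t : H)⁻¹ * x * t ∈ E := Subgroup.mem_subgroupOf.1 (by
        have := hEn.conj_mem ⟨x, hE x.2⟩ (Subgroup.mem_subgroupOf.2 x.2) t⁻¹
        simpa using this)
      have h2 : (t : H)⁻¹ * x * t * c' = c' * ((t : H)⁻¹ * x * t) :=
        congrArg Subtype.val (Subgroup.mem_center_iff.1 hc' ⟨_, hx'⟩)
      show (x : H) * ((t : H) * c' * (t : H)⁻¹) = (t : H) * c' * (t : H)⁻¹ * x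
      calc (x : H) * ((t : H) * c' * (t : H)⁻¹) = (t : H) * ((t : H)⁻¹ * x * t * c') * (t : H)⁻¹ := by group
        _ = (t : H) * (c' * ((t : H)⁻¹ * x * t)) * (t : H)⁻¹ := by rw [h2]
        _ = _ := by group
    obtain ⟨w, -, huniq2⟩ := Nat.card_eq_two_iff' (1 : ↥(Subgroup.center ↥E)) |>.1 hEx.2
    have e1 : (⟨c', hc'⟩ : ↥(Subgroup.center ↥E)) = w :=
      huniq2 _ fun h => h1 (by simpa using congrArg (fun z : ↥(Subgroup.center ↥E) => ((z : ↥E) : H)) h)
    have e2 : (⟨_, hcc⟩ : ↥(Subgroup.center ↥E)) = w := huniq2 _ fun h => h1 (by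
      have := congrArg (fun z : ↥(Subgroup.center ↥E) => ((z : ↥E) : H)) h
      simpa [conj_eq_one_iff] using this)
    show (t : H) * c' = c' * t
    exact mul_inv_eq_iff_eq_mul.1
      (congrArg (fun z : ↥(Subgroup.center ↥E) => ((z : ↥E) : H)) (e2.trans e1.symm))
  have hZ2 : Nat.card ↥Z ≤ 2 := by
    have h10 : Nat.card ↥(P : Subgroup ↥Cfsg.M24) = 2 ^ 10 := by
      obtain ⟨φ, -⟩ := Cfsg.Agent.S3171.coords P
      rw [Nat.card_congr φ, Nat.card_eq_fintype_card]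
      decide +kernel
    have h512 : Nat.card (↥(P : Subgroup ↥Cfsg.M24) ⧸ Subgroup.center ↥(P : Subgroup ↥Cfsg.M24)) = 512 := by
      obtain ⟨φ, hφ⟩ := Cfsg.Agent.S3171.coords P
      obtain ⟨ψ, -⟩ := Spor.M24Quot.quot_coord φ hφ
      rw [Nat.card_congr ψ, Nat.card_eq_fintype_card]
      decide +kernel
    have h2 : Nat.card ↥(Subgroup.center ↥(P : Subgroup ↥Cfsg.M24)) = 2 := by
      have := (Subgroup.center ↥(P : Subgroup ↥Cfsg.M24)).card_mul_index
      rw [Subgroup.index_eq_card, h512, h10] at this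
      omega
    rw [hZdef, Subgroup.card_map_of_injective (T : Subgroup H).subtype_injective,
      Nat.card_congr (Subgroup.centerCongr e).toEquiv, h2]
  have hEcEq : Ec = Z := Subgroup.eq_of_le_of_card_ge hEcZ (hEc2 ▸ hZ2)
  set Eb : Subgroup (H ⧸ Z) := E.map (QuotientGroup.mk' Z) with hEb
  have hEbT : Eb ≤ (T' : Subgroup (H ⧸ Z)) := hT' ▸ Subgroup.map_mono hE
  have hEbc : IsMulCommutative ↥Eb := by
    refine ⟨⟨?_⟩⟩
    rintro ⟨_, x, hx, rfl⟩ ⟨_, y, hy, rfl⟩
    refine Subtype.ext ?_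
    show ((x : H) : H ⧸ Z) * (y : H ⧸ Z) = (y : H ⧸ Z) * (x : H ⧸ Z)
    rw [← QuotientGroup.mk_mul, ← QuotientGroup.mk_mul, QuotientGroup.eq, ← hEcEq]
    have hc : (⟨y, hy⟩ : ↥E)⁻¹ * (⟨x, hx⟩ : ↥E)⁻¹ * ⟨y, hy⟩ * ⟨x, hx⟩ ∈ Subgroup.center ↥E := by
      rw [← hEx.1.2.2, commutator_def]
      have := Subgroup.commutator_mem_commutator (Subgroup.mem_top (⟨y, hy⟩ : ↥E)⁻¹) (Subgroup.mem_top (⟨x, hx⟩ : ↥E)⁻¹)
      rw [commutatorElement_def, inv_inv, inv_inv] at this
      exact this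
    refine ⟨_, hc, ?_⟩
    simp [mul_assoc]
  have hEbn : Nat.card ↥Eb = 64 := by
    have hZE : Z ≤ E := hEcEq ▸ Subgroup.map_subtype_le _
    have hk : ((QuotientGroup.mk' Z).comp E.subtype).ker = Z.subgroupOf E := by
      ext x; simp [Subgroup.mem_subgroupOf]
    have h := ((QuotientGroup.mk' Z).comp E.subtype).ker.card_mul_index
    have hZcard : Nat.card ↥Z = 2 := hEcEq ▸ hEc2
    rw [Subgroup.index_ker, hk, Nat.card_congr (Subgroup.subgroupOfEquivOfLe hZE).toEquiv, hZcard, hE7,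
      MonoidHom.range_eq_map, ← Subgroup.map_map, ← MonoidHom.range_eq_map, Subgroup.range_subtype] at h
    show Nat.card ↥(E.map (QuotientGroup.mk' Z)) = 64
    omega
  have hEbN : Eb.Normal := Spor.M24Closed.normal_of_iso
    (Spor.M24Closed.oddCore_quotient hO Z hZc (T.isPGroup'.to_le hZT)) T' P iso Eb hEbT
    fun B hB hc hn => hunT B Eb hB hEbT hc hn hEbc hEbn
  have hEeq : E = Eb.comap (QuotientGroup.mk' Z) := by
    rw [hEb, Subgroup.comap_map_eq, QuotientGroup.ker_mk', sup_eq_left.2 (hEcEq ▸ Subgroup.map_subtype_le _)]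
  rw [hEeq]
  exact hEbN.comap _

end Cfsg.Agent.S3170
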