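import Cfsg.Statements.S3178
import Mathlib
import Cfsg.Agent.Lib.Transfer.Frobenius
import Cfsg.Agent.Lib.Invol.LeastRadical
-- import your own Cfsg.Agent.* helpers here

set_option autoImplicit false
open Cfsg

namespace Cfsg.Agent.S3178

set_option linter.style.haveILetI false
set_option linter.unusedVariables false

open scoped Pointwise

universe w

/-- In a finite cyclic group membership in a subgroup is detected by powers. -/
theorem cyclic_mem_iff {K : Type w} [Group K] [Finite K] [IsCyclic K] (C : Subgroup K) (x : K) :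
    x ∈ C ↔ x ^ Nat.card C = 1 := by
  classical
  haveI := Fintype.ofFinite K
  have hsub : (Finset.univ.filter fun x => x ∈ C) ⊆
      Finset.univ.filter fun x : K => x ^ Nat.card C = 1 := fun x hx => by
    rw [Finset.mem_filter] at hx ⊢
    exact ⟨hx.1, orderOf_dvd_iff_pow_eq_one.1 (Subgroup.orderOf_dvd_natCard C hx.2)⟩
  have heq := Finset.eq_of_subset_of_card_le hsub
    ((IsCyclic.card_pow_eq_one_le (α := K) Nat.card_pos).trans
      (by rw [Nat.card_eq_fintype_card, Fintype.card_subtype]))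
  simpa using Finset.ext_iff.1 heq x

/-- An automorphism of odd order of a cyclic 2-group is trivial. -/
theorem cyclic_two_aut {C : Type w} [Group C] [Finite C] [IsCyclic C] (hC : IsPGroup 2 C)
    (φ : MulAut C) {t : ℕ} (ht : Odd t) (hφ : φ ^ t = 1) : φ = 1 := by
  haveI := Fact.mk Nat.prime_two
  obtain ⟨k, hk⟩ := IsPGroup.iff_card.1 hC
  have h1 : orderOf φ ∣ Nat.card (MulAut C) := orderOf_dvd_natCard φ
  rw [IsCyclic.card_mulAut, hk] at h1
  have h2 : orderOf φ ∣ t := orderOf_dvd_of_pow_eq_one hφ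
  rcases k with _ | k
  · simp at h1; exact h1
  · rw [Nat.totient_prime_pow_succ Nat.prime_two] at h1
    have hco : Nat.Coprime (2 ^ k * (2 - 1)) t :=
      Nat.Coprime.mul_left (Nat.Coprime.pow_left _ (Nat.coprime_two_left.2 ht)) (by simp)
    exact orderOf_eq_one_iff.1 (Nat.dvd_one.1 (hco ▸ Nat.dvd_gcd h1 h2))

theorem main {G : Type w} [Group G] [Finite G] (S : Sylow 2 G) (n : ℕ) (hn : 3 ≤ n)
    (hS : Nat.card ↥(S : Subgroup G) = 2 ^ (n + 1)) (a b : G) (ha : a ∈ (S : Subgroup G))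
    (hb : b ∈ (S : Subgroup G)) (hao : orderOf a = 2 ^ n) (hbo : orderOf b = 2)
    (hrel : b * a * b⁻¹ = a ^ (2 ^ (n - 1) + 1)) : HasNormalPComplement 2 G := by
  haveI := Fact.mk Nat.prime_two
  obtain ⟨m, rfl⟩ : ∃ m, n = m + 3 := ⟨n - 3, by omega⟩
  have e21 : m + 3 - 1 = m + 2 := rfl
  rw [e21] at hrel
  set A := Subgroup.zpowers a with hA
  set z := a ^ (2 ^ (m + 2)) with hz
  have hb2 : b * b = 1 := by rw [← pow_two, ← hbo]; exact pow_orderOf_eq_one b
  have hbi : b⁻¹ = b := inv_eq_of_mul_eq_one_left hb2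
  have hapow : ∀ i : ℕ, b * a ^ i * b = a ^ (i * (2 ^ (m + 2) + 1)) := by
    intro i
    rw [mul_comm i, pow_mul, ← hrel, conj_pow, hbi]
  -- elements of S
  have hbA : b ∉ A := by
    intro h
    obtain ⟨i, hi⟩ := (mem_powers_iff_mem_zpowers (x := a) (y := b)).2 h
    have hi' : a ^ i = b := hi
    have h1 : b * a * b⁻¹ = a := by
      rw [← hi', mul_inv_eq_iff_eq_mul, ← pow_succ, ← pow_succ']
    rw [hrel] at h1
    have h2 : a ^ (2 ^ (m + 2)) = 1 := by
      rw [pow_succ, mul_eq_right] at h1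
      exact h1
    have h3 := Nat.le_of_dvd (by positivity) (orderOf_dvd_of_pow_eq_one h2)
    rw [hao] at h3
    have := Nat.pow_lt_pow_right (show 1 < 2 by norm_num) (show m + 2 < m + 3 by omega)
    omega
  have hAS : A ≤ (S : Subgroup G) := Subgroup.zpowers_le.2 ha
  have hAidx : (A.subgroupOf (S : Subgroup G)).index = 2 := by
    have h1 := Subgroup.index_mul_card (A.subgroupOf (S : Subgroup G))
    rw [hS, Nat.card_congr (Subgroup.subgroupOfEquivOfLe hAS).toEquiv, Nat.card_zpowers, hao]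
      at h1
    exact Nat.eq_of_mul_eq_mul_right (Nat.two_pow_pos (m + 3)) (by rw [h1, pow_succ'])
  have hform : ∀ x ∈ (S : Subgroup G), ∃ i : ℕ, x = a ^ i ∨ x = a ^ i * b := by
    intro x hx
    by_cases hxA : x ∈ A
    · obtain ⟨i, hi⟩ := (mem_powers_iff_mem_zpowers (x := a) (y := x)).2 hxA
      exact ⟨i, Or.inl hi.symm⟩
    · have h := (Subgroup.mul_mem_iff_of_index_two hAidx (a := ⟨x, hx⟩) (b := ⟨b, hb⟩)).2
        (iff_of_false hxA hbA)
      obtain ⟨i, hi⟩ := (mem_powers_iff_mem_zpowers (x := a) (y := x * b)).2 h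
      refine ⟨i, Or.inr ?_⟩
      have hi' : a ^ i = x * b := hi
      rw [hi', mul_assoc, hb2, mul_one]
  have hsq : ∀ i : ℕ, a ^ i * b * (a ^ i * b) = (a ^ (2 * i)) ^ (2 ^ (m + 1) + 1) := by
    intro i
    calc a ^ i * b * (a ^ i * b) = a ^ i * (b * a ^ i * b) := by group
      _ = a ^ (i + i * (2 ^ (m + 2) + 1)) := by rw [hapow, ← pow_add a]
      _ = _ := by rw [← pow_mul]; ring_nf
  have hu : Nat.Coprime (2 ^ (m + 3)) (2 ^ (m + 1) + 1) := by
    refine Nat.Coprime.pow_left _ (Nat.coprime_two_left.2 ?_)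
    exact (Nat.even_pow.2 ⟨even_two, by omega⟩).add_one
  have hcu : ∀ (i : ℕ) (H : Subgroup G), (a ^ i) ^ (2 ^ (m + 1) + 1) ∈ H → a ^ i ∈ H := by
    intro i H h
    have hco : Nat.Coprime (orderOf (a ^ i)) (2 ^ (m + 1) + 1) :=
      hu.coprime_dvd_left (hao ▸ orderOf_pow_dvd i)
    obtain ⟨j, hj⟩ := exists_pow_eq_self_of_coprime hco.symm
    rw [← hj]; exact pow_mem h j
  have hinv : ∀ i : ℕ, (a ^ i) ^ 2 = 1 → a ^ i = 1 ∨ a ^ i = z := by
    intro i h
    rw [← pow_mul] at h
    have h1 := orderOf_dvd_of_pow_eq_one h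
    rw [hao] at h1
    have h2 : 2 ^ (m + 2) ∣ i := by
      have h1' : 2 ^ (m + 2) * 2 ∣ i * 2 := by rwa [← pow_succ]
      exact Nat.dvd_of_mul_dvd_mul_right (by norm_num) h1'
    obtain ⟨j, rfl⟩ := h2
    rcases Nat.even_or_odd j with ⟨r, rfl⟩ | ⟨r, rfl⟩
    · left
      rw [show 2 ^ (m + 2) * (r + r) = 2 ^ (m + 3) * r by ring, pow_mul, ← hao,
        pow_orderOf_eq_one, one_pow]
    · right
      rw [show 2 ^ (m + 2) * (2 * r + 1) = 2 ^ (m + 3) * r + 2 ^ (m + 2) by ring, pow_add,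
        pow_mul, ← hao, pow_orderOf_eq_one, one_pow, one_mul, hz]
  have hz2 : z * z = 1 := by
    rw [hz, ← pow_add, ← two_mul, ← pow_succ', ← hao, pow_orderOf_eq_one]
  have hzb : b * z = z * b := by
    have h1 := hapow (2 ^ (m + 2))
    rw [show 2 ^ (m + 2) * (2 ^ (m + 2) + 1) = 2 ^ (m + 3) * 2 ^ (m + 1) + 2 ^ (m + 2) by ring,
      pow_add a, pow_mul a (2 ^ (m + 3)), ← hao, pow_orderOf_eq_one, one_pow, one_mul, ← hz] at h1
    calc b * z = b * z * (b * b) := by rw [hb2, mul_one]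
      _ = (b * z * b) * b := by group
      _ = z * b := by rw [h1]
  have hE : ∀ x ∈ (S : Subgroup G), x ^ 2 = 1 → x = 1 ∨ x = z ∨ x = b ∨ x = z * b := by
    intro x hx hx2
    obtain ⟨i, rfl | rfl⟩ := hform x hx
    · rcases hinv i hx2 with h | h
      · exact Or.inl h
      · exact Or.inr (Or.inl h)
    · rw [pow_two, hsq] at hx2
      have h1 : a ^ (2 * i) = 1 := by
        have := hcu (2 * i) ⊥ (Subgroup.mem_bot.2 hx2)
        exact Subgroup.mem_bot.1 this
      rw [mul_comm, pow_mul] at h1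
      rcases hinv i h1 with h | h <;> rw [h]
      · simp
      · tauto
  rw [Transfer.hasNormalPComplement_iff_frobeniusCondition S]
  intro Q hQS g hg hgo
  have hQp : IsPGroup 2 Q := S.isPGroup'.to_le hQS
  -- the induced automorphism
  set φ := Subgroup.normalizerMonoidHom Q ⟨g, hg⟩ with hφdef
  have hφv : ∀ q : Q, ((φ q : Q) : G) = g * q * g⁻¹ := fun q => rfl
  have htodd : Odd (orderOf g) := Nat.coprime_two_right.1 hgo
  have hφt : φ ^ orderOf g = 1 := by
    rw [hφdef, ← map_pow, ← Subgroup.orderOf_mk g hg, pow_orderOf_eq_one, map_one]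
  suffices hφ1 : φ = 1 by
    intro q hq
    have := congrArg (fun ψ : MulAut Q => ((ψ ⟨q, hq⟩ : Q) : G)) hφ1
    simp only [MulAut.one_apply] at this
    rw [hφv] at this
    exact (mul_inv_eq_iff_eq_mul.1 this).symm
  have hAmem : ∀ x ∈ A, ∀ y ∈ A, orderOf x ∣ orderOf y → x ∈ Subgroup.zpowers y := by
    intro x hx y hy hdvd
    have h1 := (cyclic_mem_iff (K := A) (Subgroup.zpowers ⟨y, hy⟩) ⟨x, hx⟩).2 (by
      rw [Nat.card_zpowers, Subgroup.orderOf_mk, ← orderOf_dvd_iff_pow_eq_one, Subgroup.orderOf_mk]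
      exact hdvd)
    obtain ⟨j, hj⟩ := h1
    exact ⟨j, congrArg Subtype.val hj⟩
  have hzA : z ∈ A := Subgroup.npow_mem_zpowers a _
  have hzo : orderOf z = 2 := orderOf_eq_prime (by rw [pow_two, hz2]) (by
    intro h
    have h3 := Nat.le_of_dvd (by positivity) (orderOf_dvd_of_pow_eq_one h)
    rw [hao] at h3
    have := Nat.pow_lt_pow_right (show 1 < 2 by norm_num) (show m + 2 < m + 3 by omega)
    omega)
  have hz1 : z ≠ 1 := fun h => by simp [h] at hzo
  have hAS2 : ∀ y ∈ A, y ≠ 1 → z ∈ Subgroup.zpowers y := by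
    intro y hy hy1
    refine hAmem z hzA y hy ?_
    rw [hzo]
    obtain ⟨e, he⟩ := IsPGroup.iff_orderOf.1 S.isPGroup' ⟨y, hAS hy⟩
    rw [Subgroup.orderOf_mk] at he
    rcases e with _ | e
    · exact absurd (orderOf_eq_one_iff.1 (by rwa [pow_zero] at he)) hy1
    · rw [he, pow_succ]; exact dvd_mul_left _ _
  have hsqA : ∀ x ∈ (S : Subgroup G), x ^ 2 ∈ A := fun x hx =>
    Subgroup.sq_mem_of_index_two hAidx ⟨x, hx⟩
  -- cyclic case
  by_cases hcase : b ∈ Q ∧ z ∈ Q
  swap
  · suffices hcyc : IsCyclic Q from cyclic_two_aut hQp φ htodd hφt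
    by_cases hQA : Q ≤ A
    · exact Subgroup.isCyclic_of_le hQA
    obtain ⟨x, hxQ, hxA⟩ := SetLike.not_le_iff_exists.1 hQA
    obtain ⟨i, rfl | rfl⟩ := hform x (hQS hxQ)
    · exact absurd (Subgroup.npow_mem_zpowers a i) hxA
    have hdiv : ∀ q ∈ Q, q ∉ A → q * (a ^ i * b) ∈ A := fun q hq hqA =>
      (Subgroup.mul_mem_iff_of_index_two hAidx (a := ⟨q, hQS hq⟩)
        (b := ⟨a ^ i * b, hQS hxQ⟩)).2 (iff_of_false hqA hxA)
    suffices hall : ∀ q ∈ Q, q ∈ A → q ∈ Subgroup.zpowers (a ^ i * b) by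
      rw [show Q = Subgroup.zpowers (a ^ i * b) from le_antisymm (fun q hq => by
        by_cases hqA : q ∈ A
        · exact hall q hq hqA
        · exact (Subgroup.mul_mem_cancel_right _ (Subgroup.mem_zpowers _)).1
            (hall _ (mul_mem hq hxQ) (hdiv q hq hqA))) (Subgroup.zpowers_le.2 hxQ)]
      infer_instance
    intro q hq hqA
    by_cases hwQ : a ^ i ∈ Q
    · have hbQ : b ∈ Q := by simpa using mul_mem (inv_mem hwQ) hxQ
      have hzQ : z ∉ Q := fun h => hcase ⟨hbQ, h⟩
      by_cases hq1 : q = 1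
      · rw [hq1]; exact one_mem _
      · exact absurd (Subgroup.zpowers_le.2 hq (hAS2 q hqA hq1)) hzQ
    have hw2 : a ^ (2 * i) ∈ Q := hcu _ Q (by rw [← hsq]; exact mul_mem hxQ hxQ)
    have hwA : a ^ i ∈ A := Subgroup.npow_mem_zpowers a i
    obtain ⟨eq_, heq⟩ := IsPGroup.iff_orderOf.1 S.isPGroup' ⟨q, hAS hqA⟩
    obtain ⟨ew, hew⟩ := IsPGroup.iff_orderOf.1 S.isPGroup' ⟨a ^ i, hAS hwA⟩
    rw [Subgroup.orderOf_mk] at heq hew
    have hlt : eq_ < ew := by
      by_contra hle
      push Not at hle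
      exact hwQ (Subgroup.zpowers_le.2 hq (hAmem _ hwA q hqA (by
        rw [heq, hew]; exact pow_dvd_pow 2 hle)))
    obtain ⟨ew', rfl⟩ : ∃ e, ew = e + 1 := ⟨ew - 1, by omega⟩
    have hw2o : orderOf (a ^ (2 * i)) = 2 ^ ew' := by
      rw [mul_comm, pow_mul, orderOf_pow, hew, pow_succ, Nat.gcd_mul_left_left,
        Nat.mul_div_cancel _ (by norm_num)]
    have h1 : q ∈ Subgroup.zpowers (a ^ (2 * i)) := hAmem q hqA _ (Subgroup.npow_mem_zpowers a _) (by
      rw [heq, hw2o]; exact pow_dvd_pow 2 (by omega))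
    refine (Subgroup.zpowers_le.2 ?_) h1
    refine hcu _ _ ?_
    rw [← hsq]
    exact mul_mem (Subgroup.mem_zpowers _) (Subgroup.mem_zpowers _)
  obtain ⟨hbQ, hzQ⟩ := hcase
  have hEQ : ∀ q ∈ Q, q ^ 2 = 1 → q = 1 ∨ q = z ∨ q = b ∨ q = z * b := fun q hq h =>
    hE q (hQS hq) h
  have hφsq : ∀ q : Q, (q : G) ^ 2 = 1 → ((φ q : Q) : G) ^ 2 = 1 := by
    intro q h
    have h1 : q ^ 2 = 1 := Subtype.ext h
    have h2 := congrArg (fun r : Q => ((φ r : Q) : G)) h1
    simpa using h2
  -- z is fixed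
  have hgz : g * z * g⁻¹ = z := by
    by_cases hexp : ∃ q ∈ Q, q ^ 2 ≠ 1
    · obtain ⟨q, hq, hq2⟩ := hexp
      obtain ⟨j, hj⟩ := hAS2 _ (hsqA q (hQS hq)) hq2
      have hj' : (q ^ 2) ^ j = z := hj
      have hgq : g * q * g⁻¹ ∈ Q := (Subgroup.mem_normalizer_iff.1 hg q).1 hq
      have h1 : g * z * g⁻¹ = ((g * q * g⁻¹) ^ 2) ^ j := by
        rw [← hj', conj_pow, conj_zpow]
      have hmem : g * z * g⁻¹ ∈ A := h1 ▸ zpow_mem (hsqA _ (hQS hgq)) j
      obtain ⟨k, hk⟩ := (mem_powers_iff_mem_zpowers (x := a) (y := g * z * g⁻¹)).2 hmem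
      have hk' : a ^ k = g * z * g⁻¹ := hk
      rcases hinv k (by rw [hk', conj_pow, pow_two, hz2, mul_one, mul_inv_cancel]) with h | h
      · rw [hk', mul_inv_eq_one, mul_eq_left] at h
        exact absurd h hz1
      · rw [← hk', h]
    · push Not at hexp
      have hQeq : ∀ x, x ∈ Q ↔ x ∈ (S : Subgroup G) ∧ x ^ 2 = 1 := by
        intro x
        refine ⟨fun hx => ⟨hQS hx, hexp x hx⟩, fun ⟨hx, hx2⟩ => ?_⟩
        rcases hE x hx hx2 with rfl | rfl | rfl | rfl
        exacts [one_mem Q, hzQ, hbQ, mul_mem hzQ hbQ]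
      have hSN : (S : Subgroup G) ≤ Subgroup.normalizer (Q : Set G) := by
        intro s hs
        rw [Subgroup.mem_normalizer_iff]
        intro x
        rw [hQeq, hQeq]
        have hconj : (s * x * s⁻¹) ^ 2 = 1 ↔ x ^ 2 = 1 := by
          rw [conj_pow, conj_eq_one_iff]
        exact and_congr ((Subgroup.mul_mem_cancel_right _ (inv_mem hs)).trans
          (Subgroup.mul_mem_cancel_left _ hs)).symm hconj.symm
      have hCN : Subgroup.centralizer (Q : Set G) ≤ Subgroup.normalizer (Q : Set G) :=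
        Subgroup.centralizer_le_normalizer _
      have hNC : Subgroup.normalizer (Q : Set G) ≤
          Subgroup.normalizer ((Subgroup.centralizer (Q : Set G) : Subgroup G) : Set G) := by
        intro x hx
        rw [Subgroup.mem_normalizer_iff]
        intro y
        constructor
        · intro hy q hq
          have hq' := (Subgroup.mem_normalizer_iff''.1 hx q).1 hq
          calc q * (x * y * x⁻¹) = x * ((x⁻¹ * q * x) * y) * x⁻¹ := by group
            _ = x * (y * (x⁻¹ * q * x)) * x⁻¹ := by rw [hy _ hq']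
            _ = x * y * x⁻¹ * q := by group
        · intro hy q hq
          have hq' := (Subgroup.mem_normalizer_iff.1 hx q).1 hq
          calc q * y = x⁻¹ * ((x * q * x⁻¹) * (x * y * x⁻¹)) * x := by group
            _ = x⁻¹ * ((x * y * x⁻¹) * (x * q * x⁻¹)) * x := by rw [hy _ hq']
            _ = y * q := by group
      have hsyl := Invol.isSylowIn_inf_of_normalized S hSN hCN hNC
      -- a ^ 2 centralizes Q
      have ha2 : a ^ 2 ∈ Subgroup.centralizer (Q : Set G) := by
        intro x hx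
        have hbc : b * a ^ 2 = a ^ 2 * b := by
          have h1 := hapow 2
          rw [show 2 * (2 ^ (m + 2) + 1) = 2 ^ (m + 3) + 2 by ring, pow_add a, ← hao,
            pow_orderOf_eq_one, one_mul] at h1
          calc b * a ^ 2 = b * a ^ 2 * (b * b) := by rw [hb2, mul_one]
            _ = (b * a ^ 2 * b) * b := by group
            _ = a ^ 2 * b := by rw [h1]
        have hzc : z * a ^ 2 = a ^ 2 * z := by rw [hz, ← pow_add, ← pow_add, add_comm]
        rcases hEQ x hx (hexp x hx) with rfl | rfl | rfl | rfl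
        · rw [one_mul, mul_one]
        · exact hzc
        · exact hbc
        · rw [mul_assoc, hbc, ← mul_assoc, hzc, mul_assoc]
      set c := g * a ^ 2 * g⁻¹ with hc
      have hcC : c ∈ Subgroup.centralizer (Q : Set G) :=
        (Subgroup.mem_normalizer_iff.1 (hNC hg) (a ^ 2)).1 ha2
      have hcp : IsPGroup 2 (Subgroup.zpowers c) := by
        rw [IsPGroup.iff_card]
        obtain ⟨e, he⟩ := IsPGroup.iff_orderOf.1 S.isPGroup' ⟨a ^ 2, pow_mem ha 2⟩
        rw [Subgroup.orderOf_mk] at he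
        refine ⟨e, ?_⟩
        rw [Nat.card_zpowers, hc, ← he]
        exact orderOf_injective (MulAut.conj g).toMonoidHom (MulAut.conj g).injective (a ^ 2)
      obtain ⟨Y, hcY, hY⟩ : ∃ Y, c ∈ Y ∧
          Grp.IsSylowIn 2 Y (Subgroup.centralizer (Q : Set G)) := by
        have hle : Subgroup.zpowers c ≤ Subgroup.centralizer (Q : Set G) :=
          Subgroup.zpowers_le.2 hcC
        obtain ⟨P, hP⟩ := (hcp.comap_subtype
          (K := Subgroup.centralizer (Q : Set G))).exists_le_sylow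
        refine ⟨_, ?_, Grp.isSylowIn_iff.2 ⟨P, rfl⟩⟩
        exact ⟨⟨c, hcC⟩, hP (Subgroup.mem_zpowers c), rfl⟩
      obtain ⟨k, hk, hkY⟩ := hY.conj hsyl
      have hkc : k * c * k⁻¹ ∈ (S : Subgroup G) := by
        have : MulAut.conj k • c ∈ MulAut.conj k • Y := Subgroup.smul_mem_pointwise_smul c _ Y hcY
        rw [hkY] at this
        exact this.1
      have hkz : k * (g * z * g⁻¹) * k⁻¹ = g * z * g⁻¹ := by
        have hgzQ : g * z * g⁻¹ ∈ Q := (Subgroup.mem_normalizer_iff.1 hg z).1 hzQ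
        rw [mul_inv_eq_iff_eq_mul]
        exact (hk _ hgzQ).symm
      have hzc : g * z * g⁻¹ = ((k * c * k⁻¹) ^ 2) ^ (2 ^ m) := by
        rw [← hkz, hc, ← pow_mul, conj_pow, conj_pow, ← pow_mul, hz]
        congr 4
        ring
      obtain ⟨i, hi⟩ := (mem_powers_iff_mem_zpowers (x := a) (y := g * z * g⁻¹)).2
        (hzc ▸ pow_mem (hsqA _ hkc) _)
      have hi' : a ^ i = g * z * g⁻¹ := hi
      rcases hinv i (by rw [hi', conj_pow, pow_two, hz2, mul_one, mul_inv_cancel]) with h | h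
      · rw [hi', mul_inv_eq_one, mul_eq_left] at h
        exact absurd h hz1
      · rw [← hi', h]
  -- b is fixed
  have hzb1 : z * b ≠ 1 := fun h => hbA (by
    rw [← inv_eq_of_mul_eq_one_right h]; exact inv_mem hzA)
  have hgb : g * b * g⁻¹ = b := by
    have hgbQ : g * b * g⁻¹ ∈ Q := (Subgroup.mem_normalizer_iff.1 hg b).1 hbQ
    rcases hEQ _ hgbQ (by rw [conj_pow, pow_two, hb2, mul_one, mul_inv_cancel]) with h | h | h | h
    · rw [mul_inv_eq_one, mul_eq_left] at h
      exact absurd h (fun hb1 => by simp [hb1] at hbo)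
    · exfalso
      rw [mul_inv_eq_iff_eq_mul] at h
      have h2 : g * b = g * z := by rw [h, ← mul_inv_eq_iff_eq_mul.1 hgz]
      exact hbA (mul_left_cancel h2 ▸ hzA)
    · exact h
    · exfalso
      have hcz : Commute g z := mul_inv_eq_iff_eq_mul.1 hgz
      have key : ∀ t : ℕ, g ^ t * b * (g ^ t)⁻¹ = z ^ t * b := by
        intro t
        induction t with
        | zero => simp
        | succ t ih =>
          calc g ^ (t + 1) * b * (g ^ (t + 1))⁻¹ = g * (g ^ t * b * (g ^ t)⁻¹) * g⁻¹ := by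
                rw [pow_succ']; group
            _ = g * z ^ t * b * g⁻¹ := by rw [ih]; group
            _ = z ^ t * (g * b * g⁻¹) := by rw [(hcz.pow_right t).eq]; group
            _ = _ := by rw [h, pow_succ, mul_assoc]
      have := key (orderOf g)
      rw [pow_orderOf_eq_one, one_mul, inv_one, mul_one] at this
      obtain ⟨r, hr⟩ := htodd
      rw [hr, pow_succ, pow_mul, pow_two, hz2, one_pow, one_mul] at this
      exact hz1 (mul_eq_right.1 this.symm)
  have hfixE : ∀ q : Q, (q : G) ^ 2 = 1 → φ q = q := by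
    intro q hq
    refine Subtype.ext ?_
    rw [hφv]
    rcases hEQ _ q.2 hq with h | h | h | h <;> rw [h]
    · group
    · exact hgz
    · exact hgb
    · calc g * (z * b) * g⁻¹ = (g * z * g⁻¹) * (g * b * g⁻¹) := by group
        _ = z * b := by rw [hgz, hgb]
  have hc0 : Commute b z := hzb
  let N : Subgroup Q :=
    { carrier := {q | (q : G) ^ 2 = 1}
      one_mem' := by simp
      mul_mem' := by
        intro x y hx hy
        have hxy : Commute (x : G) y := by
          rcases hEQ _ x.2 hx with h | h | h | h <;> rcases hEQ _ y.2 hy with h' | h' | h' | h' <;>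
            rw [h, h'] <;>
            first
            | exact Commute.one_left _
            | exact Commute.one_right _
            | exact Commute.refl _
            | exact hc0
            | exact hc0.symm
            | exact ((Commute.refl z).mul_right hc0.symm)
            | exact ((Commute.refl z).mul_right hc0.symm).symm
            | exact (hc0.mul_right (Commute.refl b))
            | exact (hc0.mul_right (Commute.refl b)).symm
        change ((x : G) * y) ^ 2 = 1
        rw [hxy.mul_pow]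
        simp only [Set.mem_setOf_eq] at hx hy
        rw [hx, hy, one_mul]
      inv_mem' := by
        intro x hx
        simp only [Set.mem_setOf_eq] at hx ⊢
        rw [Subgroup.coe_inv, inv_pow, hx, inv_one] }
  haveI hNn : N.Normal := ⟨fun x hx y => by
    change ((y : G) * x * (y : G)⁻¹) ^ 2 = 1
    rw [conj_pow, (hx : (x : G) ^ 2 = 1), mul_one, mul_inv_cancel]⟩
  have hcycq : IsCyclic (Q ⧸ N) := by
    let f : (A.subgroupOf Q) →* Q ⧸ N := (QuotientGroup.mk' N).comp (A.subgroupOf Q).subtype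
    haveI hcA : IsCyclic (A.subgroupOf Q) := isCyclic_of_injective
      (f := (Q.subtype.comp (A.subgroupOf Q).subtype).codRestrict A fun x => x.2)
      (fun x y hxy => Subtype.ext (Subtype.ext (congrArg (fun r : A => (r : G)) hxy)))
    refine isCyclic_of_surjective f ?_
    intro c
    obtain ⟨q, rfl⟩ := QuotientGroup.mk'_surjective N c
    by_cases hqA : (q : G) ∈ A
    · exact ⟨⟨q, hqA⟩, rfl⟩
    · refine ⟨⟨q * ⟨b, hbQ⟩, (Subgroup.mul_mem_iff_of_index_two hAidx (a := ⟨(q : G), hQS q.2⟩)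
        (b := ⟨b, hb⟩)).2 (iff_of_false hqA hbA)⟩, ?_⟩
      have hbN : (⟨b, hbQ⟩ : Q) ∈ N := by change b ^ 2 = 1; rw [pow_two, hb2]
      change QuotientGroup.mk' N (q * ⟨b, hbQ⟩) = QuotientGroup.mk' N q
      rw [map_mul]
      simp [(QuotientGroup.eq_one_iff _).2 hbN]
  have hmap : N.map (φ : Q →* Q) = N := by
    ext x
    constructor
    · rintro ⟨y, hy, rfl⟩
      exact hφsq y hy
    · intro hx
      exact ⟨x, hx, hfixE x hx⟩
  let ψ := QuotientGroup.congr N N φ hmap
  have hψ : ∀ (k : ℕ) (q : Q), (ψ ^ k) (q : Q ⧸ N) = ((φ ^ k) q : Q) := by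
    intro k
    induction k with
    | zero => simp
    | succ k ih =>
      intro q
      rw [pow_succ, MulAut.mul_apply, pow_succ, MulAut.mul_apply]
      exact ih (φ q)
  have hψ1 : ψ = 1 := cyclic_two_aut (hQp.to_quotient N) ψ htodd (by
    ext c
    obtain ⟨q, rfl⟩ := QuotientGroup.mk'_surjective N c
    change (ψ ^ orderOf g) (q : Q ⧸ N) = (q : Q ⧸ N)
    rw [hψ, hφt]; rfl)
  ext q
  have hd : q⁻¹ * φ q ∈ N := by
    have h := congrArg (fun χ : MulAut (Q ⧸ N) => χ (q : Q ⧸ N)) hψ1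
    exact QuotientGroup.eq.1 h.symm
  set e := q⁻¹ * φ q with hedef
  have hq : φ q = q * e := by rw [hedef, mul_inv_cancel_left]
  have key : ∀ k : ℕ, (φ ^ k) q = q * e ^ k := by
    intro k
    induction k with
    | zero => simp
    | succ k ih =>
      rw [pow_succ', MulAut.mul_apply, ih, map_mul, hq, map_pow, hfixE e hd, pow_succ', mul_assoc]
  have h1 := key (orderOf g)
  rw [hφt, MulAut.one_apply, left_eq_mul] at h1
  have he2 : e ^ 2 = 1 := Subtype.ext (hd : (e : G) ^ 2 = 1)
  obtain ⟨r, hr⟩ := htodd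
  rw [hr, pow_succ, pow_mul, he2, one_pow, one_mul] at h1
  change ((φ q : Q) : G) = _
  rw [hq, h1, mul_one]; rfl

/-- Groups with a modular Sylow 2-subgroup have a normal 2-complement. Let S, of order 2^(n+1) with n ≥ 3, be a Sylow 2-subgroup of a finite group G, and suppose S contains an element a of order 2^n and an involution b with b a b⁻¹ = a^(2^(n-1) + 1); so S is the non-abelian 2-group with a cyclic subgroup of index 2 that is neither dihedral, semidihedral nor generalized quaternion. Then G has a normal 2-complement. -/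
theorem result {G : Type*} [Group G] [Finite G]
    (S : Sylow 2 G) (n : ℕ) (hn : 3 ≤ n) (hS : Nat.card ↥(S : Subgroup G) = 2 ^ (n + 1))
    (a b : G) (ha : a ∈ (S : Subgroup G)) (hb : b ∈ (S : Subgroup G))
    (hao : orderOf a = 2 ^ n) (hbo : orderOf b = 2) (hrel : b * a * b⁻¹ = a ^ (2 ^ (n - 1) + 1)) :
    Cfsg.HasNormalPComplement 2 G := by
  exact main S n hn hS a b ha hb hao hbo hrel

end Cfsg.Agent.S3178
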