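import Cfsg.Statements.S3179
import Cfsg.Agent.Lib.Recog.PSLTwoSpectrum
import Cfsg.Agent.S1163
import Cfsg.Agent.S0280
-- import your own Cfsg.Agent.* helpers here

set_option autoImplicit false
open Cfsg

namespace Cfsg.Agent.S3179

theorem card_gl5 : Nat.card (GL (Fin 5) (ZMod 2)) = 9999360 := by
  haveI : Fact (Nat.Prime 2) := ⟨Nat.prime_two⟩
  rw [Matrix.card_GL_field, ZMod.card, Fin.prod_univ_five]
  norm_num

/-- `L(a, b)` is block diagonal with two blocks from the group of order 3. -/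
def block3 : Fin 3 → Matrix (Fin 2) (Fin 2) (ZMod 2) :=
  ![!![1, 0; 0, 1], !![0, 1; 1, 1], !![1, 1; 1, 0]]

def twoBlocks (ab : Fin 3 × Fin 3) : Matrix (Fin 5) (Fin 5) (ZMod 2) :=
  Matrix.of fun i j =>
    if hi : (i : ℕ) < 2 then (if hj : (j : ℕ) < 2 then block3 ab.1 ⟨i, hi⟩ ⟨j, hj⟩ else 0)
    else if hi' : (i : ℕ) < 4 then
      (if hj : 2 ≤ (j : ℕ) ∧ (j : ℕ) < 4 then block3 ab.2 ⟨i - 2, by omega⟩ ⟨j - 2, by omega⟩ else 0)
    else (if j = i then 1 else 0)

theorem twoBlocks_mul : ∀ x y, twoBlocks x * twoBlocks y = twoBlocks (x + y) := by decide +kernel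

theorem twoBlocks_zero : twoBlocks 0 = 1 := by decide +kernel

theorem twoBlocks_inj : Function.Injective twoBlocks := by
  have h : ∀ x y, twoBlocks x = twoBlocks y → x = y := by decide +kernel
  exact fun x y => h x y

def twoBlocksHom : Multiplicative (Fin 3 × Fin 3) →* GL (Fin 5) (ZMod 2) :=
  MonoidHom.toHomUnits
    { toFun := fun x => twoBlocks (Multiplicative.toAdd x)
      map_one' := twoBlocks_zero
      map_mul' := fun x y => (twoBlocks_mul _ _).symm }

theorem no_order_nine (g : GL (Fin 5) (ZMod 2)) : ¬ 9 ∣ orderOf g := by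
  intro h
  haveI : Fact (Nat.Prime 3) := ⟨Nat.prime_three⟩
  obtain ⟨c, hc⟩ := h
  set x := g ^ c with hx
  have hx9 : orderOf x = 9 := by
    rw [hx, orderOf_pow, hc, Nat.gcd_eq_right (Dvd.intro_left _ rfl),
      Nat.mul_div_cancel _ (Nat.pos_of_ne_zero (by rintro rfl; rw [mul_zero] at hc; exact (orderOf_pos g).ne' hc))]
  have hinj : Function.Injective twoBlocksHom := fun a b hab =>
    twoBlocks_inj (congrArg Units.val hab)
  have hE : Nat.card twoBlocksHom.range = 3 ^ 2 := by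
    rw [Nat.card_congr (MonoidHom.ofInjective hinj).symm.toEquiv, Nat.card_congr Multiplicative.toAdd]
    simp
  have hX : Nat.card (Subgroup.zpowers x) = 3 ^ 2 := by rw [Nat.card_zpowers, hx9]; norm_num
  have hfac : Nat.factorization (Nat.card (GL (Fin 5) (ZMod 2))) 3 = 2 := by
    rw [card_gl5, show (9999360 : ℕ) = 3 ^ 2 * 1111040 by norm_num,
      Nat.factorization_mul (by norm_num) (by norm_num), Finsupp.add_apply,
      Nat.prime_three.factorization_pow, Finsupp.single_eq_same,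
      Nat.factorization_eq_zero_of_not_dvd (by norm_num)]
  let S : Sylow 3 (GL (Fin 5) (ZMod 2)) := Sylow.ofCard (Subgroup.zpowers x) (by rw [hX, hfac])
  let T : Sylow 3 (GL (Fin 5) (ZMod 2)) := Sylow.ofCard twoBlocksHom.range (by rw [hE, hfac])
  have e : ↥(Subgroup.zpowers x) ≃* ↥twoBlocksHom.range := Sylow.equiv S T
  have h3 : ∀ y : twoBlocksHom.range, y ^ 3 = 1 := by
    rintro ⟨_, a, rfl⟩
    refine Subtype.ext ?_
    change twoBlocksHom a ^ 3 = 1
    rw [← map_pow]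
    have : ∀ b : Fin 3 × Fin 3, 3 • b = 0 := by decide
    rw [show a ^ 3 = 1 from congrArg Multiplicative.ofAdd (this (Multiplicative.toAdd a)), map_one]
  have := h3 (e ⟨x, Subgroup.mem_zpowers x⟩)
  rw [← map_pow, e.map_eq_one_iff] at this
  have h9 : x ^ 3 = 1 := congrArg Subtype.val this
  have := orderOf_dvd_of_pow_eq_one h9
  rw [hx9] at this
  norm_num at this

theorem section_dvd {H : Subgroup (GL (Fin 5) (ZMod 2))} (K : Subgroup ↥H) [K.Normal] :
    Nat.card (↥H ⧸ K) ∣ 9999360 := by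
  haveI : Fact (Nat.Prime 2) := ⟨Nat.prime_two⟩
  rw [← card_gl5]
  exact ((Dvd.intro _ K.card_eq_card_quotient_mul_card_subgroup.symm)).trans (Subgroup.card_subgroup_dvd_card H)

theorem section_order {H : Subgroup (GL (Fin 5) (ZMod 2))} (K : Subgroup ↥H) [K.Normal] (y : ↥H ⧸ K) :
    ¬ 9 ∣ orderOf y := by
  intro h
  obtain ⟨z, rfl⟩ := QuotientGroup.mk_surjective y
  refine no_order_nine (z : GL (Fin 5) (ZMod 2)) ?_
  rw [Subgroup.orderOf_coe]
  exact h.trans (orderOf_map_dvd (QuotientGroup.mk' K) z)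

theorem small_exp {a : ℕ} {n : ℕ} (h : 2 ^ n + a ∣ 9999360 ∨ 2 ^ n ∣ 9999360) : n ≤ 23 := by
  by_contra hn
  have h1 : 2 ^ 24 ≤ 2 ^ n := Nat.pow_le_pow_right (by norm_num) (by omega)
  rcases h with h | h <;> have := Nat.le_of_dvd (by norm_num) h <;> norm_num at h1 <;> omega

theorem psl_small : ∀ n < 24, 2 ^ n - 1 ∣ 9999360 → 2 ^ n + 1 ∣ 9999360 → n ≤ 3 := by decide +kernel

theorem sz_small : ∀ n < 24, 3 ≤ n → Odd n → ¬ (2 ^ n) ^ 2 + 1 ∣ 9999360 := by decide +kernel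

theorem psu_small : ∀ n < 24, 2 ≤ n → ¬ (2 ^ n) ^ 3 + 1 ∣ 3 * 9999360 := by decide +kernel

/-- Let X be a section of the general linear group GL(5, 2), that is, a quotient of a subgroup of it. If X is isomorphic to PSL(2, 2^n) for some n ≥ 2, to a Suzuki group over the field with 2^(2m+1) elements for some m ≥ 1, or to PSU(3, 2^n) for some n ≥ 2, then X is isomorphic to PSL(2, 4). -/
theorem result {H : Subgroup (GL (Fin 5) (ZMod 2))}
    {K : Subgroup ↥H} [K.Normal]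
    (hX : (∃ (n : ℕ) (F : Type) (_ : Field F) (_ : Fintype F), 2 ≤ n ∧ Fintype.card F = 2 ^ n ∧
        Nonempty (↥H ⧸ K ≃* Matrix.ProjectiveSpecialLinearGroup (Fin 2) F)) ∨
      (∃ (m : ℕ) (F : Type) (_ : Field F) (_ : Fintype F), 1 ≤ m ∧ Fintype.card F = 2 ^ (2 * m + 1) ∧
        Nonempty (↥H ⧸ K ≃* ↥(Cfsg.Lie.Sz F (2 ^ (m + 1))))) ∨
      (∃ (n : ℕ) (F : Type) (_ : Field F) (_ : Fintype F), 2 ≤ n ∧ Fintype.card F = 4 ^ n ∧
        Nonempty (↥H ⧸ K ≃* Cfsg.PSU 3 F (2 ^ n)))) :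
    ∃ (F : Type) (_ : Field F) (_ : Fintype F), Fintype.card F = 4 ∧
      Nonempty (↥H ⧸ K ≃* Matrix.ProjectiveSpecialLinearGroup (Fin 2) F) := by
  haveI : Fact (Nat.Prime 2) := ⟨Nat.prime_two⟩
  rcases hX with ⟨n, F, _, _, hn, hF, ⟨e⟩⟩ | ⟨m, F, _, _, hm, hF, ⟨e⟩⟩ | ⟨n, F, _, _, hn, hF, ⟨e⟩⟩
  · haveI : CharP F 2 := charP_of_card_eq_prime_pow hF
    have hd : Cfsg.Agent.PSL2Spec.dd F = 1 := by
      rw [Cfsg.Agent.PSL2Spec.dd, hF]
      have : ¬ 2 ∣ 2 ^ n - 1 := by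
        have h2 : 2 ∣ 2 ^ n := dvd_pow_self 2 (by omega)
        have := Nat.two_pow_pos n
        omega
      exact (Nat.Prime.coprime_iff_not_dvd Nat.prime_two).mpr this
    have key : ∀ y : Matrix.ProjectiveSpecialLinearGroup (Fin 2) F, orderOf y ∣ 9999360 ∧ ¬ 9 ∣ orderOf y := by
      intro y
      rw [← e.symm.orderOf_eq y]
      exact ⟨(orderOf_dvd_natCard _).trans (section_dvd K), section_order K _⟩
    obtain ⟨y1, hy1⟩ := Cfsg.Agent.PSL2Spec.exists_order_split (F := F)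
    obtain ⟨y2, hy2⟩ := Cfsg.Agent.PSL2Spec.exists_order_nonsplit (F := F) 2
    rw [hd, hF, Nat.div_one] at hy1 hy2
    have d1 := (key y1).1
    have d2 := (key y2).1
    rw [hy1] at d1
    rw [hy2] at d2
    have hle := psl_small n (by have := small_exp (a := 1) (Or.inl d2); omega) d1 d2
    interval_cases n
    · exact ⟨F, inferInstance, inferInstance, by rw [hF]; norm_num, ⟨e⟩⟩
    · exact absurd (by rw [hy2]; norm_num) (key y2).2
  · exfalso
    have hc := section_dvd K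
    rw [Nat.card_congr e.toEquiv, (Cfsg.Agent.S1163.result hm hF).1] at hc
    have h1 : (2 ^ (2 * m + 1)) ^ 2 + 1 ∣ 9999360 := (Dvd.intro_left _ rfl).trans hc
    have h2 : 2 ^ (2 * m + 1) ∣ 9999360 :=
      (dvd_pow_self _ two_ne_zero).trans ((Dvd.intro _ rfl).trans ((Dvd.intro _ rfl).trans hc))
    exact sz_small _ (by have := small_exp (a := 0) (Or.inr h2); omega) (by omega) ⟨m, rfl⟩ h1
  · exfalso
    have hc := section_dvd K
    rw [Nat.card_congr e.toEquiv] at hc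
    have hf := Cfsg.Agent.S0280.result (q := 2 ^ n) (by rw [hF, ← pow_mul, mul_comm, pow_mul]; norm_num) 3 (by norm_num)
    simp only [Finset.prod_range_succ, Finset.prod_range_zero, one_mul] at hf
    norm_num at hf
    have hq : 0 < 2 ^ n + 1 := by positivity
    have hf2 : Nat.gcd 3 (2 ^ n + 1) * Nat.card (Cfsg.PSU 3 F (2 ^ n)) =
        (2 ^ n) ^ 3 * (((2 ^ n) ^ 2 - 1) * ((2 ^ n) ^ 3 + 1)) := by
      apply Nat.eq_of_mul_eq_mul_left hq
      rw [mul_left_comm, hf]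
      ring
    have h1 : (2 ^ n) ^ 3 * (((2 ^ n) ^ 2 - 1) * ((2 ^ n) ^ 3 + 1)) ∣ 3 * 9999360 := by
      rw [← hf2]
      exact mul_dvd_mul (Nat.gcd_dvd_left _ _) hc
    have h2 : (2 ^ n) ^ 3 + 1 ∣ 3 * 9999360 := (Dvd.intro_left _ rfl).trans ((Dvd.intro_left _ rfl).trans h1)
    refine psu_small n ?_ hn h2
    by_contra hlt
    have h3 : 2 ^ 24 ≤ 2 ^ n := Nat.pow_le_pow_right (by norm_num) (by omega)
    have h4 := Nat.le_of_dvd (by norm_num) h2
    have h5 := Nat.pow_le_pow_left h3 3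
    norm_num at h5
    omega

end Cfsg.Agent.S3179
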