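import Cfsg.Statements.S3180
import Mathlib

set_option autoImplicit false
open Cfsg

namespace Cfsg.Agent.S3180

/-- Let P be a Sylow p-subgroup of a finite group J and P₁ a subgroup of P that is weakly closed in P with respect to J. If J acts on a set and two points, each fixed by every element of P₁, lie in one J-orbit, then they lie in one orbit of the normalizer of P₁ in J. -/
theorem result {J : Type*} [Group J] [Finite J]
    {p : ℕ} [Fact p.Prime] (P : Sylow p J) (P₁ : Subgroup J) (hW : Cfsg.IsWeaklyClosed P₁ (P : Subgroup J))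
    {Ω : Type*} [MulAction J Ω] (x y : Ω) (hx : ∀ g ∈ P₁, g • x = x) (hy : ∀ g ∈ P₁, g • y = y)
    (hc : ∃ g : J, g • x = y) :
    ∃ g ∈ Subgroup.normalizer (P₁ : Set J), g • x = y := by
  obtain ⟨g, rfl⟩ := hc
  obtain ⟨hle, hwc⟩ := hW
  set S : Subgroup J := MulAction.stabilizer J (g • x) with hS
  have h1 : P₁ ≤ S := fun u hu => by rw [hS, MulAction.mem_stabilizer_iff]; exact hy u hu
  have h2 : P₁.map (MulAut.conj g).toMonoidHom ≤ S := by
    rintro _ ⟨u, hu, rfl⟩
    rw [hS, MulAction.mem_stabilizer_iff]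
    simp [mul_smul, hx u hu]
  have hp1 : IsPGroup p P₁ := P.isPGroup'.to_le hle
  obtain ⟨Q₁, hQ₁⟩ := (hp1.comap_subtype (K := S)).exists_le_sylow
  obtain ⟨Q₂, hQ₂⟩ := ((hp1.map (MulAut.conj g).toMonoidHom).comap_subtype (K := S)).exists_le_sylow
  obtain ⟨k, hk⟩ := MulAction.exists_smul_eq S Q₂ Q₁
  -- k moves the conjugate of P₁ into the Sylow subgroup of the stabilizer over P₁
  have h3 : P₁.map (MulAut.conj ((k : J) * g)).toMonoidHom ≤ (Q₁ : Subgroup S).map S.subtype := by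
    rintro _ ⟨u, hu, rfl⟩
    have hmem : g * u * g⁻¹ ∈ S := h2 ⟨u, hu, rfl⟩
    refine ⟨k * ⟨g * u * g⁻¹, hmem⟩ * k⁻¹, ?_, ?_⟩
    · rw [← hk]
      show _ ∈ ((k • Q₂ : Sylow p S) : Subgroup S)
      rw [Sylow.coe_subgroup_smul]
      have : (⟨g * u * g⁻¹, hmem⟩ : S) ∈ (Q₂ : Subgroup S) := hQ₂ ⟨u, hu, rfl⟩
      exact ⟨_, this, rfl⟩
    · simp [mul_assoc]
  have h4 : P₁ ≤ (Q₁ : Subgroup S).map S.subtype := fun u hu => ⟨⟨u, h1 hu⟩, hQ₁ hu, rfl⟩
  obtain ⟨R, hR⟩ := (Q₁.isPGroup'.map S.subtype).exists_le_sylow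
  obtain ⟨a, ha⟩ := MulAction.exists_smul_eq J R P
  have hconj : ∀ {A : Subgroup J} {c : J}, A ≤ (R : Subgroup J) →
      A.map (MulAut.conj a).toMonoidHom ≤ (P : Subgroup J) := by
    intro A c hA
    rintro _ ⟨u, hu, rfl⟩
    rw [← ha]
    exact Subgroup.mem_pointwise_smul_iff_inv_smul_mem.mpr (by simpa [MulAut.smul_def, mul_assoc] using hA hu)
  have e1 := hwc a (hconj (c := a) (h4.trans hR))
  have e2 : P₁.map (MulAut.conj ((k : J) * g)).toMonoidHom = P₁ := by
    have h5 := hconj (c := a) (h3.trans hR)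
    rw [Subgroup.map_map] at h5
    have hcomp : (MulAut.conj a).toMonoidHom.comp (MulAut.conj ((k : J) * g)).toMonoidHom =
        (MulAut.conj (a * ((k : J) * g))).toMonoidHom := by ext; simp [mul_assoc]
    rw [hcomp] at h5
    have e3 := hwc _ h5
    rw [← hcomp, ← Subgroup.map_map] at e3
    exact Subgroup.map_injective (f := (MulAut.conj a).toMonoidHom) (MulAut.conj a).injective (e3.trans e1.symm)
  refine ⟨(k : J) * g, ?_, ?_⟩
  · rw [Subgroup.mem_normalizer_iff]
    intro u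
    constructor
    · intro hu
      rw [← e2]
      exact ⟨u, hu, rfl⟩
    · intro hu
      rw [← e2] at hu
      obtain ⟨v, hv, hve⟩ := hu
      have : v = u := (MulAut.conj ((k : J) * g)).injective hve
      exact this ▸ hv
  · rw [mul_smul]
    exact k.2

end Cfsg.Agent.S3180
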