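import Cfsg.Statements.S3182
import Cfsg.Agent.S3181
import Cfsg.Agent.Lib.Invol.AbelTwo.Walter
import Cfsg.Agent.Lib.Invol.GW.Consumers.Dihedral
import Cfsg.Agent.Lib.Invol.MinNonCA.Backward

set_option autoImplicit false
open Cfsg

namespace Cfsg.Agent.S3182

open Subgroup Fus.Gold

universe u

theorem nonsolvable {G : Type u} [Group G] [Finite G] [IsSimpleGroup G] (hG : ¬ IsMulCommutative G) :
    ¬ Group.IsSolvable G := by
  intro h
  exact hG ⟨⟨fun a b => IsSimpleGroup.comm_iff_isSolvable.2 h a b⟩⟩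

theorem exists_pow_two {F : Type} [Field F] [Fintype F] {q : ℕ} (hq : Even q) (h4 : 4 ≤ q)
    (hF : Fintype.card F = q ^ 2) : ∃ n : ℕ, 2 ≤ n ∧ q = 2 ^ n := by
  obtain ⟨p, hc⟩ := CharP.exists F
  haveI : Fact p.Prime := ⟨CharP.char_is_prime F p⟩
  obtain rfl : p = 2 := Dickson.p_eq_two p (by rw [hF]; exact hq.pow_of_ne_zero two_ne_zero)
  obtain ⟨k, hk⟩ := FiniteField.card F 2
  obtain ⟨j, -, hj⟩ := (Nat.dvd_prime_pow Nat.prime_two).1
    (show q ∣ 2 ^ (k : ℕ) from hk.2 ▸ hF ▸ dvd_pow_self q two_ne_zero)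
  refine ⟨j, ?_, hj⟩
  rcases j with _ | _ | j
  · simp [hj] at h4
  · simp [hj] at h4
  · omega

/-- Simple groups with central Sylow 2-intersections. Let G be a non-abelian finite simple group in which the intersection of any two distinct Sylow 2-subgroups is contained in the centre of some Sylow 2-subgroup. Then G is isomorphic to PSL(2, q) for some prime power q ≡ 0, 3 or 5 mod 8; or G has abelian Sylow 2-subgroups and an involution t whose centralizer is a maximal subgroup of G and is the direct product of the subgroup generated by t with a subgroup E having a normal subgroup isomorphic to PSL(2, q), q odd and greater than 3, with trivial centralizer in E; or G is isomorphic to a Suzuki group Sz(2^(2m+1)) with m ≥ 1, or to PSU(3, 2^n) with n ≥ 2. -/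
theorem result {G : Type*} [Group G] [Finite G] [IsSimpleGroup G]
    (hG : ¬ IsMulCommutative G)
    (hCI : ∀ S T : Sylow 2 G, S ≠ T → ∃ U : Sylow 2 G,
      (S : Subgroup G) ⊓ (T : Subgroup G) ≤ (Subgroup.center ↥(U : Subgroup G)).map (U : Subgroup G).subtype) :
    (∃ (F : Type) (_ : Field F) (_ : Fintype F),
        (Fintype.card F % 8 = 0 ∨ Fintype.card F % 8 = 3 ∨ Fintype.card F % 8 = 5) ∧
        Nonempty (G ≃* Matrix.ProjectiveSpecialLinearGroup (Fin 2) F)) ∨
    ((∀ S : Sylow 2 G, IsMulCommutative ↥(S : Subgroup G)) ∧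
      ∃ t : G, orderOf t = 2 ∧ IsCoatom (Subgroup.centralizer ({t} : Set G)) ∧
        ∃ E : Subgroup G, Cfsg.IsInternalDirectProduct (Subgroup.zpowers t) E (Subgroup.centralizer ({t} : Set G)) ∧
          ∃ (F : Type) (_ : Field F) (_ : Fintype F), Odd (Fintype.card F) ∧ 3 < Fintype.card F ∧
            ∃ N : Subgroup ↥E, N.Normal ∧ Nonempty (↥N ≃* Matrix.ProjectiveSpecialLinearGroup (Fin 2) F) ∧
              Subgroup.centralizer (N : Set ↥E) = ⊥) ∨
    (∃ (m : ℕ) (F : Type) (_ : Field F) (_ : Fintype F), 1 ≤ m ∧ Fintype.card F = 2 ^ (2 * m + 1) ∧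
        Nonempty (G ≃* ↥(Cfsg.Lie.Sz F (2 ^ (m + 1))))) ∨
    (∃ (n : ℕ) (F : Type) (_ : Field F) (_ : Fintype F), 2 ≤ n ∧ Fintype.card F = 4 ^ n ∧
        Nonempty (G ≃* Cfsg.PSU 3 F (2 ^ n))) := by
  classical
  haveI : Fact (Nat.Prime 2) := ⟨Nat.prime_two⟩
  have h2 : 2 ∣ Nat.card G := by
    by_contra h
    exact nonsolvable hG (S0205.result (Nat.not_even_iff_odd.1 fun he => h (even_iff_two_dvd.1 he)))
  have hZ : center G = ⊥ := Transfer.CentralFour.center_eq_bot hG
  have hnormal : ∀ N : Subgroup G, N.Normal → N = ⊥ ∨ N = ⊤ := fun N hN => hN.eq_bot_or_eq_top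
  by_cases hab : ∀ S : Sylow 2 G, IsMulCommutative ↥(S : Subgroup G)
  · obtain ⟨S⟩ : Nonempty (Sylow 2 G) := inferInstance
    rcases Invol.AbelTwo.walter G hG h2 S (hab S) with ⟨H, hH⟩ | ⟨F, i, j, -, -, h8, he⟩ | ⟨h8, hsq, hJ⟩
    · rcases (bender_of_se hG hH).1 with ⟨F, i, j, hc, h4, ⟨e⟩⟩ | ⟨F, i, j, q, hq, h4, hF, he⟩ |
        ⟨F, i, j, m, hm, hF, he⟩
      · haveI := hc
        obtain ⟨k, hk⟩ := FiniteField.card F 2
        by_cases hk3 : 3 ≤ (k : ℕ)
        · refine Or.inl ⟨F, i, j, Or.inl ?_, ⟨e.trans Invol.GW.SLTwoEquivPSL⟩⟩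
          obtain ⟨l, hl⟩ := Nat.exists_eq_add_of_le hk3
          rw [hk.2, hl, pow_add]
          simp
        · have hF4 : Fintype.card F = 4 := by
            have : 2 ^ (k : ℕ) ≤ 2 ^ 2 := Nat.pow_le_pow_right two_pos (by omega)
            omega
          have h60 : Nat.card G = 60 := by
            rw [Nat.card_congr e.toEquiv, Fus.PSLTwo.natCard_SL_two, hF4]
          obtain ⟨e1⟩ := Fus.alternating_five_of_card (G := G) h60
          haveI : Fact (Nat.Prime 5) := ⟨by norm_num⟩
          haveI := Classical.PSL_isSimple (F := ZMod 5) (n := 2) le_rfl fun _ => by simp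
          have hc5 := Invol.GW.card_PSLTwo (F := ZMod 5) (by simp; decide)
          obtain ⟨e2⟩ := Fus.alternating_five_of_card (G := Matrix.ProjectiveSpecialLinearGroup (Fin 2) (ZMod 5))
            (by rw [ZMod.card] at hc5; norm_num at hc5 ⊢; omega)
          exact Or.inl ⟨ZMod 5, inferInstance, inferInstance, Or.inr (Or.inr (by rw [ZMod.card])),
            ⟨e1.trans e2.symm⟩⟩
      · obtain ⟨n, hn, rfl⟩ := exists_pow_two hq h4 hF
        exact Or.inr (Or.inr (Or.inr ⟨n, F, i, j, hn, by rw [hF, ← pow_mul, mul_comm, pow_mul]; norm_num, he⟩))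
      · exact Or.inr (Or.inr (Or.inl ⟨m, F, i, j, hm, hF, he⟩))
    · exact Or.inl ⟨F, i, j, Or.inr h8, he⟩
    · obtain ⟨t, ht⟩ := exists_prime_orderOf_dvd_card' (G := ↥(S : Subgroup G)) 2 (by rw [h8]; norm_num)
      refine Or.inr (Or.inl ⟨hab, (t : G), by rw [orderOf_coe]; exact ht, hJ t t.2 fun e => ?_⟩)
      rw [show t = 1 from Subtype.ext e, orderOf_one] at ht
      omega
  · refine Or.inr (Or.inr ?_)
    rcases S3181.result hCI with ⟨hsol, -⟩ | h | ⟨N, M, hN, hM, _, hlt, hNodd, -, A, L, hA, -, ⟨eL⟩, hAL, hsup⟩ |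
      ⟨M, hM, hModd, A, L, hA, hAp, h⟩
    · exact absurd hsol (nonsolvable hG)
    · exact absurd h hab
    · exfalso
      have hN0 : N = ⊥ := (hnormal N hN).resolve_right fun e => absurd hlt (e ▸ not_top_lt)
      have hM1 : M = ⊤ := (hnormal M hM).resolve_left fun e => absurd hlt (e ▸ not_lt_bot)
      haveI := hNodd
      -- the involution of `SL(2,5)` would be central
      let π : ↥M →* ↥M ⧸ N.subgroupOf M := QuotientGroup.mk' _
      let z₀ : Matrix.SpecialLinearGroup (Fin 2) (ZMod 5) := -1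
      have hz₀ : ∀ g, g * z₀ = z₀ * g := fun g => by
        apply Subtype.ext
        simp [z₀]
      set z := ((eL.symm z₀ : ↥L) : ↥M ⧸ N.subgroupOf M) with hz
      have hz1 : z ≠ 1 := by
        rw [hz, Ne, OneMemClass.coe_eq_one, MulEquiv.map_eq_one_iff]
        decide
      have hzc : ∀ y, y * z = z * y := by
        intro y
        have hle : A ⊔ L ≤ centralizer ({z} : Set _) := sup_le
          (fun a ha => mem_centralizer_singleton_iff.2 (hAL a ha z (eL.symm z₀).2))
          (fun l hl => mem_centralizer_singleton_iff.2 (congrArg Subtype.val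
            (show (⟨l, hl⟩ : ↥L) * eL.symm z₀ = eL.symm z₀ * ⟨l, hl⟩ from eL.injective (by simp [hz₀]))))
        exact mem_centralizer_singleton_iff.1 (hle (hsup ▸ mem_top y))
      obtain ⟨m, hm⟩ := QuotientGroup.mk'_surjective (N.subgroupOf M) z
      have hmc : (m : G) ∈ center G := mem_center_iff.2 fun g => by
        have h1 := hzc (π ⟨g, hM1 ▸ mem_top g⟩)
        rw [← hm, ← map_mul, ← map_mul, QuotientGroup.mk'_eq_mk'] at h1
        obtain ⟨n, hn, h2⟩ := h1
        rw [mem_subgroupOf, hN0, mem_bot] at hn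
        rw [show n = 1 from Subtype.ext hn, mul_one] at h2
        exact congrArg Subtype.val h2
      rw [hZ, mem_bot] at hmc
      rw [show m = 1 from Subtype.ext hmc, map_one] at hm
      exact hz1 hm.symm
    · have hM1 : M = ⊤ := (hnormal M hM).resolve_left fun e => by
        rw [e, index_bot] at hModd
        exact (Nat.not_even_iff_odd.2 hModd) (even_iff_two_dvd.2 h2)
      subst hM1
      rcases h with ⟨⟨-, -, hcm, hd, hsup⟩, hL⟩ | ⟨-, -, hcm, hsup, -, hLz, -⟩
      swap
      · exfalso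
        refine hLz ((Subgroup.eq_bot_iff_forall _).2 fun z hz => Subtype.ext ?_)
        have hle : A ⊔ L ≤ centralizer ({(z : G)} : Set G) := sup_le
          (fun a ha => mem_centralizer_singleton_iff.2 (hcm a ha z z.2))
          (fun l hl => mem_centralizer_singleton_iff.2 (congrArg Subtype.val (mem_center_iff.1 hz ⟨l, hl⟩)))
        exact mem_bot.1 (hZ ▸ mem_center_iff.2 fun g => mem_centralizer_singleton_iff.1 (hle (hsup ▸ mem_top g)))
      have hAn : A ≤ center G := fun a ha => by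
        have hle : A ⊔ L ≤ centralizer ({a} : Set G) := sup_le
          (fun b hb => mem_centralizer_singleton_iff.2 (congrArg Subtype.val (hA.is_comm.comm ⟨b, hb⟩ ⟨a, ha⟩)))
          (fun l hl => mem_centralizer_singleton_iff.2 (hcm a ha l hl).symm)
        exact mem_center_iff.2 fun g => mem_centralizer_singleton_iff.1 (hle (hsup ▸ mem_top g))
      rw [hZ, le_bot_iff] at hAn
      rw [hAn, bot_sup_eq] at hsup
      let eG : G ≃* ↥L := (Subgroup.topEquiv.symm).trans (MulEquiv.subgroupCongr hsup.symm)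
      rcases hL with ⟨m, F, i, j, hm, hF, ⟨e⟩⟩ | ⟨n, F, i, j, hn, hF, (⟨⟨e⟩⟩ | ⟨⟨e⟩⟩)⟩
      · exact Or.inl ⟨m, F, i, j, hm, hF, ⟨eG.trans e⟩⟩
      · exact Or.inr ⟨n, F, i, j, hn, hF, ⟨eG.trans e⟩⟩
      · refine Or.inr ⟨n, F, i, j, hn, hF, ⟨(eG.trans e).trans ?_⟩⟩
        have hc : center ↥(Cfsg.SU 3 F (2 ^ n)) = ⊥ := (Subgroup.eq_bot_iff_forall _).2 fun z hz => by
          have h1 : (eG.trans e).symm z ∈ center G := mem_center_iff.2 fun g => (eG.trans e).injective (by
            rw [map_mul, map_mul, MulEquiv.apply_symm_apply]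
            exact mem_center_iff.1 hz _)
          rw [hZ, mem_bot] at h1
          simpa using h1
        exact MulEquiv.ofBijective (QuotientGroup.mk' _) ⟨(MonoidHom.ker_eq_bot_iff _).1
          (by rw [QuotientGroup.ker_mk', hc]), QuotientGroup.mk'_surjective _⟩

end Cfsg.Agent.S3182
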