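import Cfsg.Statements.S3183


set_option autoImplicit false
open Cfsg

namespace Cfsg.Agent.S3183

theorem central_of_mem {G : Type*} [Group G] [Finite G]
    (hCI : ∀ S T : Sylow 2 G, S ≠ T → ∃ U : Sylow 2 G,
      (S : Subgroup G) ⊓ (T : Subgroup G) ≤ (Subgroup.center ↥(U : Subgroup G)).map (U : Subgroup G).subtype)
    (S T : Sylow 2 G) (hne : T ≠ S) (x : G) (hxS : x ∈ (S : Subgroup G)) (hxT : x ∈ (T : Subgroup G)) :
    ∀ s ∈ (S : Subgroup G), s * x = x * s := by
  classical
  haveI : Fact (Nat.Prime 2) := ⟨Nat.prime_two⟩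
  have cen : ∀ (U : Sylow 2 G) (z : G), z ∈ (Subgroup.center ↥(U : Subgroup G)).map (U : Subgroup G).subtype →
      (U : Subgroup G) ≤ Subgroup.centralizer ({z} : Set G) := by
    rintro U _ ⟨w, hw, rfl⟩ u hu
    rw [Subgroup.mem_centralizer_iff]
    simp only [Set.mem_singleton_iff, forall_eq]
    exact (congrArg Subtype.val (Subgroup.mem_center_iff.mp hw ⟨u, hu⟩)).symm
  obtain ⟨U, hU⟩ := hCI S T hne.symm
  have hUx := cen U x (hU ⟨hxS, hxT⟩)
  set C := Subgroup.centralizer ({x} : Set G)
  set A : Subgroup G := (S : Subgroup G) ⊓ C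
  suffices hAS : (S : Subgroup G) ≤ C from fun s hs =>
    (Subgroup.mem_centralizer_iff.mp (hAS hs) x rfl).symm
  by_contra hns
  have hAlt : A < (S : Subgroup G) := lt_of_le_of_ne inf_le_left fun h => hns (h ▸ inf_le_right)
  -- a full Sylow subgroup of the centralizer of `x` over `A`
  obtain ⟨V, hV⟩ := (S.2.to_le (inf_le_left : A ≤ (S : Subgroup G))).comap_subtype (K := C).exists_le_sylow
  obtain ⟨W, hW⟩ := (V.2.map C.subtype).exists_le_sylow
  have hcardV : Nat.card (U : Subgroup G) ≤ Nat.card V := by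
    obtain ⟨V', hV'⟩ := (U.2.comap_subtype (K := C)).exists_le_sylow
    calc Nat.card (U : Subgroup G) = Nat.card ((U : Subgroup G).subgroupOf C) :=
          (Nat.card_congr (Subgroup.subgroupOfEquivOfLe hUx).toEquiv).symm
      _ ≤ Nat.card V' := Subgroup.card_le_of_le hV'
      _ = _ := (Sylow.card_eq_multiplicity V').trans (Sylow.card_eq_multiplicity V).symm
  have hWC : (W : Subgroup G) ≤ C := by
    have h : (V : Subgroup C).map C.subtype = (W : Subgroup G) := Subgroup.eq_of_le_of_card_ge hW (by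
      rw [← Nat.card_congr ((V : Subgroup C).equivMapOfInjective _ C.subtype_injective).toEquiv]
      exact le_of_eq_of_le (Sylow.card_eq_multiplicity W |>.trans (Sylow.card_eq_multiplicity U).symm) hcardV)
    rw [← h]; exact Subgroup.map_subtype_le _
  have hAW : A ≤ (W : Subgroup G) := fun a ha => hW ⟨⟨a, ha.2⟩, hV ha, rfl⟩
  have hWS : W ≠ S := fun h => hns (h ▸ hWC)
  obtain ⟨U2, hU2⟩ := hCI S W hWS.symm
  set CA := Subgroup.centralizer (A : Set G)
  have hU2A : (U2 : Subgroup G) ≤ CA := by
    intro u hu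
    rw [Subgroup.mem_centralizer_iff]
    intro a ha
    exact Subgroup.mem_centralizer_iff.mp (cen U2 a (hU2 ⟨ha.1, hAW ha⟩) hu) a rfl
  -- `N_S(A)` centralizes `A`
  set NA := Subgroup.normalizer (A : Set G)
  obtain ⟨U3, hU3⟩ := (S.2.to_le (inf_le_left : (S : Subgroup G) ⊓ NA ≤ (S : Subgroup G))).comap_subtype (K := NA).exists_le_sylow
  have hCN : CA ≤ NA := Subgroup.centralizer_le_normalizer _
  haveI : (CA.subgroupOf NA).Normal := by
    refine ⟨fun c hc g => ?_⟩
    rw [Subgroup.mem_subgroupOf, Subgroup.mem_centralizer_iff] at hc ⊢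
    intro a ha
    have ha' : (g : G)⁻¹ * a * g ∈ A := by
      have := (Subgroup.mem_normalizer_iff.mp (NA.inv_mem g.2) a).mp ha
      simpa using this
    have := hc _ ha'
    show a * ((g : G) * c * (g : G)⁻¹) = ((g : G) * c * (g : G)⁻¹) * a
    calc a * ((g : G) * c * (g : G)⁻¹) = g * (((g : G)⁻¹ * a * g) * c) * (g : G)⁻¹ := by group
      _ = g * (c * ((g : G)⁻¹ * a * g)) * (g : G)⁻¹ := by rw [this]
      _ = _ := by group
  have hU3C : (U3 : Subgroup NA) ≤ CA.subgroupOf NA := by
    obtain ⟨U4, hU4⟩ := (U2.2.comap_subtype (K := NA)).exists_le_sylow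
    have hle : (U2 : Subgroup G).subgroupOf NA ≤ CA.subgroupOf NA := Subgroup.subgroupOf_mono _ hU2A
    have heq : (U2 : Subgroup G).subgroupOf NA = U4 := Subgroup.eq_of_le_of_card_ge hU4 (by
      rw [Nat.card_congr (Subgroup.subgroupOfEquivOfLe (hU2A.trans hCN)).toEquiv, U2.card_eq_multiplicity, U4.card_eq_multiplicity]
      exact Nat.pow_le_pow_right (by norm_num)
        ((Nat.factorization_le_iff_dvd Nat.card_pos.ne' Nat.card_pos.ne').mpr NA.card_subgroup_dvd_card 2))
    obtain ⟨g, hg⟩ := MulAction.exists_smul_eq NA U4 U3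
    intro u hu
    rw [← hg, Sylow.coe_subgroup_smul, Subgroup.mem_pointwise_smul_iff_inv_smul_mem] at hu
    have h' : (MulAut.conj g)⁻¹ • u ∈ CA.subgroupOf NA := by rw [← heq] at hu; exact hle hu
    have := Subgroup.Normal.conj_mem inferInstance _ h' g
    simpa [MulAut.inv_apply, mul_assoc] using this
  have hsub : (S : Subgroup G) ⊓ NA ≤ A := by
    intro s hs
    refine ⟨hs.1, ?_⟩
    show s ∈ Subgroup.centralizer ({x} : Set G)
    have h1 : (⟨s, hs.2⟩ : NA) ∈ CA.subgroupOf NA := hU3C (hU3 hs)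
    rw [Subgroup.mem_centralizer_iff]
    intro w hw
    rw [Set.mem_singleton_iff.mp hw]
    exact Subgroup.mem_centralizer_iff.mp h1 x ⟨hxS, Subgroup.mem_centralizer_iff.mpr (by simp)⟩
  haveI := S.2.isNilpotent
  have hlt : A.subgroupOf (S : Subgroup G) < ⊤ := by
    rw [lt_top_iff_ne_top, ne_eq, Subgroup.subgroupOf_eq_top]
    exact hAlt.not_ge
  have := normalizerCondition_of_isNilpotent _ hlt
  refine this.not_ge fun y hy => ?_
  refine hsub ⟨y.2, ?_⟩
  show (y : G) ∈ Subgroup.normalizer (A : Set G)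
  rw [Subgroup.mem_normalizer_iff] at hy ⊢
  intro a
  constructor
  · intro ha
    exact (hy ⟨a, ha.1⟩).mp ha
  · intro ha
    have haS : a ∈ (S : Subgroup G) := by
      have := (S : Subgroup G).mul_mem ((S : Subgroup G).mul_mem ((S : Subgroup G).inv_mem y.2) ha.1) y.2
      rwa [show (y : G)⁻¹ * ((y : G) * a * (y : G)⁻¹) * y = a by group] at this
    exact (hy ⟨a, haS⟩).mpr ha

/-- Let G be a finite group in which the intersection of any two distinct Sylow 2-subgroups is contained in the centre of some Sylow 2-subgroup, and let S be a Sylow 2-subgroup. Then for every x in S the centralizer of x in S is a Sylow 2-subgroup of the centralizer of x in G (no 2-subgroup centralizing x is larger), and for every other Sylow 2-subgroup T the intersection S ∩ T lies in both the centre of S and the centre of T. -/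
theorem result {G : Type*} [Group G] [Finite G]
    (hCI : ∀ S T : Sylow 2 G, S ≠ T → ∃ U : Sylow 2 G,
      (S : Subgroup G) ⊓ (T : Subgroup G) ≤ (Subgroup.center ↥(U : Subgroup G)).map (U : Subgroup G).subtype)
    (S : Sylow 2 G) :
    (∀ x ∈ (S : Subgroup G), ∀ P : Subgroup G, IsPGroup 2 ↥P → P ≤ Subgroup.centralizer ({x} : Set G) →
        Nat.card ↥P ≤ Nat.card ↥((S : Subgroup G) ⊓ Subgroup.centralizer ({x} : Set G))) ∧
    (∀ T : Sylow 2 G, T ≠ S →
        (S : Subgroup G) ⊓ (T : Subgroup G) ≤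
          (Subgroup.center ↥(S : Subgroup G)).map (S : Subgroup G).subtype ⊓
            (Subgroup.center ↥(T : Subgroup G)).map (T : Subgroup G).subtype) := by
  classical
  haveI : Fact (Nat.Prime 2) := ⟨Nat.prime_two⟩
  refine ⟨fun x hx P hP hPC => ?_, fun T hT z hz => ⟨?_, ?_⟩⟩
  · by_cases hc : ∀ s ∈ (S : Subgroup G), s * x = x * s
    · have hSC : (S : Subgroup G) ⊓ Subgroup.centralizer ({x} : Set G) = (S : Subgroup G) :=
        inf_eq_left.mpr fun s hs => Subgroup.mem_centralizer_iff.mpr (by simpa using (hc s hs).symm)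
      rw [hSC]
      obtain ⟨T, hT⟩ := hP.exists_le_sylow
      exact (Subgroup.card_le_of_le hT).trans (T.card_eq_multiplicity.trans S.card_eq_multiplicity.symm).le
    · -- only `S` contains `x`
      have hxp : IsPGroup 2 (Subgroup.zpowers x) := S.2.to_le (Subgroup.zpowers_le.mpr hx)
      have hn : P ≤ Subgroup.normalizer (Subgroup.zpowers x : Set G) := by
        intro g hg
        rw [Subgroup.mem_normalizer_iff]
        have h : x * g = g * x := Subgroup.mem_centralizer_iff.mp (hPC hg) x rfl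
        intro y
        constructor
        · rintro ⟨j, rfl⟩
          exact ⟨j, by show x ^ j = g * x ^ j * g⁻¹; rw [← (Commute.zpow_left h j).eq, mul_inv_cancel_right]⟩
        · rintro ⟨j, hj⟩
          refine ⟨j, ?_⟩
          show x ^ j = y
          have hj' : x ^ j = g * y * g⁻¹ := hj
          calc x ^ j = g⁻¹ * (g * x ^ j) := by group
            _ = g⁻¹ * (x ^ j * g) := by rw [(Commute.zpow_left h j).eq]
            _ = y := by rw [hj']; group
      obtain ⟨T, hT⟩ := (hP.to_sup_of_normal_right' hxp hn).exists_le_sylow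
      have hxT : x ∈ (T : Subgroup G) := hT (Subgroup.mem_sup_right (Subgroup.mem_zpowers x))
      have hTS : T = S := by
        by_contra h
        exact hc (central_of_mem hCI S T h x hx hxT)
      exact Subgroup.card_le_of_le (le_inf ((le_sup_left.trans hT).trans hTS.le) hPC)
  · have h := central_of_mem hCI S T hT z hz.1 hz.2
    exact ⟨⟨z, hz.1⟩, Subgroup.mem_center_iff.mpr fun s => Subtype.ext (h s s.2), rfl⟩
  · have h := central_of_mem hCI T S hT.symm z hz.2 hz.1
    exact ⟨⟨z, hz.2⟩, Subgroup.mem_center_iff.mpr fun s => Subtype.ext (h s s.2), rfl⟩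

end Cfsg.Agent.S3183
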