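import Cfsg.Statements.S3184
import Cfsg.Agent.Lib.Invol.ZStar
-- import your own Cfsg.Agent.* helpers here

set_option autoImplicit false
open Cfsg
open scoped Pointwise

namespace Cfsg.Agent.S3184

/-- Let G be a finite group in which the intersection of any two distinct Sylow 2-subgroups is contained in the centre of some Sylow 2-subgroup, and let S be a Sylow 2-subgroup. If C is a nontrivial cyclic characteristic subgroup of S, then the involution of C is central modulo the largest normal subgroup of odd order of G: each of its conjugates has the same image in G/O(G). -/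
theorem result {G : Type*} [Group G] [Finite G]
    (hCI : ∀ S T : Sylow 2 G, S ≠ T → ∃ U : Sylow 2 G,
      (S : Subgroup G) ⊓ (T : Subgroup G) ≤ (Subgroup.center ↥(U : Subgroup G)).map (U : Subgroup G).subtype)
    (S : Sylow 2 G) (C : Subgroup ↥(S : Subgroup G)) (hC : C ≠ ⊥) (hCc : IsCyclic ↥C) (hCh : C.Characteristic)
    (c : ↥(S : Subgroup G)) (hc : c ∈ C) (hc2 : orderOf c = 2) :
    ∀ g : G, (QuotientGroup.mk (s := Cfsg.oddCore G) (g * (c : G) * g⁻¹)) =
      QuotientGroup.mk (s := Cfsg.oddCore G) (c : G) := by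
  haveI : Fact (Nat.Prime 2) := ⟨Nat.prime_two⟩
  haveI := hCc
  have hcG : orderOf (c : G) = 2 := by rw [Subgroup.orderOf_coe, hc2]
  have hmapC : ∀ φ : MulAut (S : Subgroup G), φ c = c := by
    intro φ
    have hmem : φ c ∈ C := by
      have h1 := hCh.fixed φ
      rw [← h1] at hc
      exact hc
    have := Invol.involution_unique_of_isCyclic (G := C) (x := ⟨φ c, hmem⟩) (y := ⟨c, hc⟩)
      (by rw [Subgroup.orderOf_mk, MulEquiv.orderOf_eq, hc2]) (by rw [Subgroup.orderOf_mk, hc2])
    exact congrArg Subtype.val this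
  have hcen : ∀ s ∈ (S : Subgroup G), s * c = c * s := fun s hs => by
    have := congrArg Subtype.val (hmapC (MulAut.conj (⟨s, hs⟩ : (S : Subgroup G))))
    simp only [MulAut.conj_apply, Subgroup.coe_mul, Subgroup.coe_inv] at this
    exact mul_inv_eq_iff_eq_mul.1 this
  have hnorm : ∀ a : G, a • S = S → a * c * a⁻¹ = c := fun a ha => by
    have haN : a ∈ Subgroup.normalizer ((S : Subgroup G) : Set G) := Sylow.smul_eq_iff_mem_normalizer.1 ha
    exact congrArg Subtype.val (hmapC ((S : Subgroup G).normalizerMonoidHom ⟨a, haN⟩))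
  -- a Sylow subgroup centralizing a conjugate of `c` determines it
  have key : ∀ (g a : G), (∀ x ∈ (S : Subgroup G), (a * x * a⁻¹) * (g * c * g⁻¹) = (g * c * g⁻¹) * (a * x * a⁻¹)) →
      a * c * a⁻¹ = g * c * g⁻¹ := by
    intro g a h
    set b := g⁻¹ * a
    have hle : (S : Subgroup G) ≤ Subgroup.centralizer ({(c : G)} : Set G) := fun s hs =>
      Subgroup.mem_centralizer_singleton_iff.2 (hcen s hs)
    have hle' : ((b • S : Sylow 2 G) : Subgroup G) ≤ Subgroup.centralizer ({(c : G)} : Set G) := by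
      rw [Sylow.coe_subgroup_smul]
      rintro _ ⟨x, hx, rfl⟩
      refine Subgroup.mem_centralizer_singleton_iff.2 ?_
      simp only [MulDistribMulAction.toMonoidEnd_apply, MulDistribMulAction.toMonoidHom_apply,
        MulAut.smul_def, MulAut.conj_apply, b]
      calc g⁻¹ * a * x * (g⁻¹ * a)⁻¹ * c = g⁻¹ * ((a * x * a⁻¹) * (g * c * g⁻¹)) * g := by group
        _ = _ := by rw [h x hx]; group
    obtain ⟨k, hk⟩ := MulAction.exists_smul_eq (Subgroup.centralizer ({(c : G)} : Set G))
      (S.subtype hle) ((b • S).subtype hle')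
    rw [Sylow.smul_subtype] at hk
    have he : (k : G) • S = b • S := Sylow.subtype_injective hk
    have hfix := hnorm ((k : G)⁻¹ * b) (by rw [mul_smul, ← he, inv_smul_smul])
    have hkc : (k : G) * c * (k : G)⁻¹ = c :=
      mul_inv_eq_iff_eq_mul.2 (Subgroup.mem_centralizer_singleton_iff.1 k.2)
    have hbc : b * c * b⁻¹ = c := by
      calc b * c * b⁻¹ = k * ((k : G)⁻¹ * b * c * ((k : G)⁻¹ * b)⁻¹) * (k : G)⁻¹ := by group
        _ = c := by rw [hfix, hkc]
    calc a * c * a⁻¹ = g * (b * c * b⁻¹) * g⁻¹ := by simp only [b]; group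
      _ = g * c * g⁻¹ := by rw [hbc]
  have hiso : ∀ g : G, g * c * g⁻¹ ∈ (S : Subgroup G) → g * c * g⁻¹ = c := by
    intro g hw
    set w := g * (c : G) * g⁻¹ with hwdef
    have hw2 : orderOf w = 2 := by rw [hwdef, Invol.orderOf_conj_eq, hcG]
    -- the Sylow subgroup of the centralizer of `w` containing `c`
    have hgS : ((g • S : Sylow 2 G) : Subgroup G) ≤ Subgroup.centralizer ({w} : Set G) := by
      rw [Sylow.coe_subgroup_smul]
      rintro _ ⟨x, hx, rfl⟩
      refine Subgroup.mem_centralizer_singleton_iff.2 ?_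
      simp only [MulDistribMulAction.toMonoidEnd_apply, MulDistribMulAction.toMonoidHom_apply,
        MulAut.smul_def, MulAut.conj_apply, hwdef]
      rw [conj_mul, hcen x hx, conj_mul]
    have hcw : (c : G) ∈ Subgroup.centralizer ({w} : Set G) :=
      Subgroup.mem_centralizer_singleton_iff.2 (hcen w hw).symm
    set H := Subgroup.centralizer ({w} : Set G)
    obtain ⟨r, hr⟩ := Invol.exists_conj_mem_sylow (G := H) (n := 1) (x := ⟨c, hcw⟩)
      (by rw [Subgroup.orderOf_mk, hcG, pow_one]) ((g • S).subtype hgS)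
    set a := (r : G)⁻¹ * g with hadef
    have hrw : (r : G) * w = w * r := Subgroup.mem_centralizer_singleton_iff.1 r.2
    have hwconj : a * c * a⁻¹ = w := by
      calc a * c * a⁻¹ = (r : G)⁻¹ * w * r := by rw [hadef, hwdef]; group
        _ = w := by rw [mul_assoc, ← hrw, inv_mul_cancel_left]
    have hc' : (r : G) * c * (r : G)⁻¹ ∈ ((g • S : Sylow 2 G) : Subgroup G) := by
      exact hr
    have hmem : ∀ x ∈ (S : Subgroup G), a * x * a⁻¹ ∈ ((a • S : Sylow 2 G) : Subgroup G) := fun x hx => by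
      rw [Sylow.coe_subgroup_smul]
      exact Subgroup.smul_mem_pointwise_smul x (MulAut.conj a) _ hx
    have hcT : (c : G) ∈ ((a • S : Sylow 2 G) : Subgroup G) := by
      rw [Sylow.coe_subgroup_smul, Subgroup.mem_pointwise_smul_iff_inv_smul_mem] at hc'
      have h0 : g⁻¹ * ((r : G) * c * (r : G)⁻¹) * g ∈ (S : Subgroup G) := by
        simpa [mul_assoc] using hc'
      have := hmem _ h0
      rwa [show a * (g⁻¹ * ((r : G) * c * (r : G)⁻¹) * g) * a⁻¹ = c by rw [hadef]; group] at this
    have hwT : w ∈ ((a • S : Sylow 2 G) : Subgroup G) := hwconj ▸ hmem _ c.2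
    obtain ⟨U, hU⟩ : ∃ U : Sylow 2 G, ∀ u ∈ (U : Subgroup G), u * c = c * u ∧ u * w = w * u := by
      by_cases hST : S = a • S
      · refine ⟨S, fun u hu => ⟨hcen u hu, ?_⟩⟩
        have h1 : a * c * a⁻¹ = c := hnorm a hST.symm
        rw [← hwconj, h1]
        exact hcen u hu
      · obtain ⟨U, hU⟩ := hCI S (a • S) hST
        refine ⟨U, fun u hu => ?_⟩
        have hz : ∀ y, y ∈ (S : Subgroup G) → y ∈ ((a • S : Sylow 2 G) : Subgroup G) → u * y = y * u := by
          intro y h1 h2
          obtain ⟨y', hy', rfl⟩ := hU ⟨h1, h2⟩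
          exact congrArg Subtype.val (Subgroup.mem_center_iff.1 hy' ⟨u, hu⟩)
        exact ⟨hz c c.2 hcT, hz w hw hwT⟩
    obtain ⟨e, he⟩ := MulAction.exists_smul_eq G S U
    have hmemU : ∀ x ∈ (S : Subgroup G), e * x * e⁻¹ ∈ (U : Subgroup G) := fun x hx => by
      rw [← he, Sylow.coe_subgroup_smul]
      exact Subgroup.smul_mem_pointwise_smul x (MulAut.conj e) _ hx
    have h1 := key 1 e (fun x hx => by
      rw [one_mul, inv_one, mul_one]; exact (hU _ (hmemU x hx)).1)
    have h2 := key g e (fun x hx => (hU _ (hmemU x hx)).2)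
    rw [one_mul, inv_one, mul_one] at h1
    exact h2.symm.trans h1
  intro g
  obtain h := ZStar.commutator_mem_oddCore _ G rfl _ (ZStar.isIsolated_of_sylow c.2 hcG hiso) g
  refine QuotientGroup.eq.2 ?_
  have hi := Invol.inv_of_orderOf_two hcG
  have e : (g * (c : G) * g⁻¹)⁻¹ * c = ((c : G) * g * (c : G)⁻¹ * g⁻¹)⁻¹ := by
    rw [conj_inv, hi]
    simp [mul_assoc, hi]
  rw [e]
  exact inv_mem h

end Cfsg.Agent.S3184
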