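import Cfsg.Statements.S3186
import Cfsg.Agent.Lib.Fus.AbInt.Main

set_option autoImplicit false
open Cfsg

namespace Cfsg.Agent.S3186

/-- Let G be a non-abelian finite simple group in which the intersection of any two distinct Sylow 2-subgroups is abelian. Then a Sylow 2-subgroup of G is either dihedral (of order at least 4) or of nilpotency class at most two (its derived subgroup is central). -/
theorem result {G : Type*} [Group G] [Finite G] [IsSimpleGroup G]
    (hG : ¬ IsMulCommutative G)
    (hA : ∀ S T : Sylow 2 G, S ≠ T → IsMulCommutative ↥((S : Subgroup G) ⊓ (T : Subgroup G))) (S : Sylow 2 G) :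
    (∃ m : ℕ, 2 ≤ m ∧ Nonempty (↥(S : Subgroup G) ≃* DihedralGroup m)) ∨
      commutator ↥(S : Subgroup G) ≤ Subgroup.center ↥(S : Subgroup G) := by
  have hperf : commutator G = ⊤ := by
    rcases IsSimpleGroup.eq_bot_or_eq_top_of_normal (commutator G) inferInstance with h | h
    · refine absurd ⟨⟨fun a b => ?_⟩⟩ hG
      rw [← commutatorElement_eq_one_iff_mul_comm, ← Subgroup.mem_bot, ← h, commutator_def]
      exact Subgroup.commutator_mem_commutator (Subgroup.mem_top a) (Subgroup.mem_top b)
    · exact h
  rcases Cfsg.Agent.Fus.AbInt.dihedral_or_classTwo hG hA hperf S with ⟨k, hk⟩ | h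
  · exact Or.inl ⟨2 ^ (k + 2), le_trans (by norm_num : 2 ≤ 2 ^ 2) (Nat.pow_le_pow_right two_pos (by omega)), hk⟩
  · refine Or.inr ?_
    rw [commutator_def, Subgroup.commutator_le]
    intro x _ y _
    exact Subgroup.mem_center_iff.2 fun z => Subtype.ext (by simpa [commutatorElement_def, mul_assoc] using h x x.2 y y.2 z z.2)

end Cfsg.Agent.S3186
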