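import Cfsg.Statements.S3190


set_option autoImplicit false
open Cfsg

namespace Cfsg.Agent.S3190

theorem nilpotent_normal_inf_center (P : Type*) [Group P] [Group.IsNilpotent P] (N : Subgroup P) [N.Normal]
    (hN : N ≠ ⊥) : N ⊓ Subgroup.center P ≠ ⊥ := by
  classical
  have hex : ∃ n, N ⊓ Subgroup.upperCentralSeries P n ≠ ⊥ := by
    obtain ⟨n, hn⟩ := Group.IsNilpotent.nilpotent P
    exact ⟨n, by rwa [hn, inf_top_eq]⟩
  set n := Nat.find hex with hn
  have hspec : N ⊓ Subgroup.upperCentralSeries P n ≠ ⊥ := Nat.find_spec hex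
  obtain ⟨m, hm⟩ : ∃ m, n = m + 1 := by
    rcases Nat.eq_zero_or_pos n with h | h
    · rw [h, Subgroup.upperCentralSeries_zero, inf_bot_eq] at hspec; exact absurd rfl hspec
    · exact ⟨n - 1, by omega⟩
  have hbot : N ⊓ Subgroup.upperCentralSeries P m = ⊥ := not_not.mp (Nat.find_min hex (by omega))
  rw [hm] at hspec
  refine fun h => hspec ((Subgroup.eq_bot_iff_forall _).mpr fun x hx => ?_)
  have hxc : x ∈ Subgroup.center P := by
    rw [Subgroup.mem_center_iff]
    intro y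
    have h1 : x * y * x⁻¹ * y⁻¹ ∈ N ⊓ Subgroup.upperCentralSeries P m :=
      ⟨by rw [mul_assoc x y, mul_assoc x]; exact N.mul_mem hx.1 (Subgroup.Normal.conj_mem inferInstance _ (N.inv_mem hx.1) y),
        Subgroup.mem_upperCentralSeries_succ_iff.mp hx.2 y⟩
    rw [hbot, Subgroup.mem_bot, mul_inv_eq_one] at h1
    exact (mul_inv_eq_iff_eq_mul.mp h1).symm
  exact (Subgroup.eq_bot_iff_forall _).mp h x ⟨hx.1, hxc⟩

/-- Let p be an odd prime and, inside a finite group, let P be a p-subgroup normalized by a Klein four-group T. Let R be a subgroup of P, normal in P and normalized by T, such that P is the product of R with the centralizer of T in P. If T centralizes the centre of P, then T centralizes the centre of R. -/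
theorem result {X : Type*} [Group X] [Finite X]
    {p : ℕ} (hp : p.Prime) (hodd : Odd p) (P T R : Subgroup X) (hP : IsPGroup p ↥P) (hT : IsKleinFour ↥T)
    (hTP : T ≤ Subgroup.normalizer (P : Set X)) (hRP : R ≤ P) (hRn : (R.subgroupOf P).Normal)
    (hTR : T ≤ Subgroup.normalizer (R : Set X)) (hfac : R ⊔ (P ⊓ Subgroup.centralizer (T : Set X)) = P)
    (hZ : T ≤ Subgroup.centralizer (((Subgroup.center ↥P).map P.subtype : Subgroup X) : Set X)) :
    T ≤ Subgroup.centralizer (((Subgroup.center ↥R).map R.subtype : Subgroup X) : Set X) := by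
  classical
  haveI := Fact.mk hp
  intro t ht
  rw [Subgroup.mem_centralizer_iff]
  rintro _ ⟨z0, hz0, rfl⟩
  set Z : Subgroup X := (Subgroup.center ↥R).map R.subtype
  have hZR : ∀ z ∈ Z, z ∈ R ∧ ∀ r ∈ R, r * z = z * r := by
    rintro _ ⟨w, hw, rfl⟩
    exact ⟨w.2, fun r hr => congrArg Subtype.val (Subgroup.mem_center_iff.mp hw ⟨r, hr⟩)⟩
  have hmemZ : ∀ z, z ∈ R → (∀ r ∈ R, r * z = z * r) → z ∈ Z := fun z hz h =>
    ⟨⟨z, hz⟩, Subgroup.mem_center_iff.mpr fun r => Subtype.ext (h r r.2), rfl⟩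
  have ht2 : t * t = 1 := by
    haveI := hT
    exact congrArg Subtype.val (IsKleinFour.mul_self (⟨t, ht⟩ : T))
  -- the part of the centre inverted by `t`
  let I : Subgroup X :=
    { carrier := {z | z ∈ Z ∧ t * z * t⁻¹ = z⁻¹}
      one_mem' := ⟨Z.one_mem, by simp⟩
      mul_mem' := fun {a b} ha hb => ⟨Z.mul_mem ha.1 hb.1, by
        rw [show t * (a * b) * t⁻¹ = (t * a * t⁻¹) * (t * b * t⁻¹) by group, ha.2, hb.2, mul_inv_rev,
          (hZR _ (Z.inv_mem hb.1)).2 a⁻¹ (R.inv_mem (hZR a ha.1).1)]⟩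
      inv_mem' := fun {a} ha => ⟨Z.inv_mem ha.1, by
        rw [show t * a⁻¹ * t⁻¹ = (t * a * t⁻¹)⁻¹ by group, ha.2]⟩ }
  have hIn : ∀ g ∈ P, ∀ z ∈ I, g * z * g⁻¹ ∈ I := by
    intro g hg z hz
    have hP' : R ⊔ (P ⊓ Subgroup.centralizer (T : Set X)) ≤ Subgroup.normalizer (I : Set X) := by
      refine sup_le (fun r hr => ?_) (fun c hc => ?_) <;> rw [Subgroup.mem_normalizer_iff]
      · intro w
        constructor
        · intro hw
          rw [(hZR w hw.1).2 r hr, mul_inv_cancel_right]; exact hw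
        · intro hw
          have h := (hZR _ hw.1).2 r hr
          have : w = r * w * r⁻¹ := by
            calc w = r⁻¹ * ((r * w * r⁻¹) * r) := by group
              _ = r⁻¹ * (r * (r * w * r⁻¹)) := by rw [h]
              _ = _ := by group
          rw [this]; exact hw
      · have key : ∀ c, c ∈ P ⊓ Subgroup.centralizer (T : Set X) → ∀ w ∈ I, c * w * c⁻¹ ∈ I := by
          intro c hc w hw
          have hcR : ∀ r ∈ R, c * r * c⁻¹ ∈ R := fun r hr =>
            hRn.conj_mem ⟨r, hRP hr⟩ hr ⟨c, hc.1⟩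
          have hcR' : ∀ r ∈ R, c⁻¹ * r * c ∈ R := fun r hr => by
            have := hRn.conj_mem ⟨r, hRP hr⟩ hr ⟨c⁻¹, P.inv_mem hc.1⟩
            simpa [Subgroup.mem_subgroupOf] using this
          refine ⟨hmemZ _ (hcR w (hZR w hw.1).1) fun r hr => ?_, ?_⟩
          · have := (hZR w hw.1).2 _ (hcR' r hr)
            calc r * (c * w * c⁻¹) = c * ((c⁻¹ * r * c) * w) * c⁻¹ := by group
              _ = c * (w * (c⁻¹ * r * c)) * c⁻¹ := by rw [this]
              _ = _ := by group
          · have hct : t * c = c * t := Subgroup.mem_centralizer_iff.mp hc.2 t ht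
            calc t * (c * w * c⁻¹) * t⁻¹ = (t * c) * w * (t * c)⁻¹ := by group
              _ = (c * t) * w * (c * t)⁻¹ := by rw [hct]
              _ = c * (t * w * t⁻¹) * c⁻¹ := by group
              _ = (c * w * c⁻¹)⁻¹ := by rw [hw.2]; group
        intro w
        constructor
        · exact key c hc w
        · intro hw
          have := key c⁻¹ (Subgroup.inv_mem _ hc) _ hw
          have e : c⁻¹ * (c * w * c⁻¹) * c⁻¹⁻¹ = w := by group
          rwa [e] at this
    rw [hfac] at hP'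
    exact (Subgroup.mem_normalizer_iff.mp (hP' hg) z).mp hz
  have hIbot : I = ⊥ := by
    by_contra hI
    have hIP : I ≤ P := fun z hz => hRP (hZR z hz.1).1
    haveI hN : (I.subgroupOf P).Normal := ⟨fun z hz g => hIn g g.2 z hz⟩
    obtain ⟨w, hw, hw1⟩ := (Subgroup.ne_bot_iff_exists_ne_one.mp hI : ∃ w : I, w ≠ 1) |> fun ⟨w, hw⟩ => (⟨w.1, w.2, fun h => hw (Subtype.ext h)⟩ : ∃ w, w ∈ I ∧ w ≠ 1)
    have hne : I.subgroupOf P ≠ ⊥ := fun h => by
      have : (⟨w, hIP hw⟩ : P) ∈ I.subgroupOf P := hw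
      rw [h, Subgroup.mem_bot] at this
      exact hw1 (congrArg Subtype.val this)
    haveI := hP.isNilpotent
    obtain ⟨u, hu, hu1⟩ : ∃ u : P, (u ∈ I.subgroupOf P ∧ u ∈ Subgroup.center P) ∧ u ≠ 1 := by
      have h := nilpotent_normal_inf_center P (I.subgroupOf P) hne
      obtain ⟨u, hu⟩ := (Subgroup.ne_bot_iff_exists_ne_one.mp h)
      exact ⟨u, u.2, fun e => hu (Subtype.ext e)⟩
    have hut := Subgroup.mem_centralizer_iff.mp (hZ ht) _ (Subgroup.mem_map_of_mem P.subtype hu.2)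
    have hinv : t * (u : X) * t⁻¹ = (u : X)⁻¹ := hu.1.2
    have : (u : X) * u = 1 := by
      rw [show t * (u : X) = (u : X) * t from hut.symm, mul_inv_cancel_right] at hinv
      exact mul_eq_one_iff_eq_inv.mpr hinv
    have hd : orderOf u ∣ 2 := orderOf_dvd_of_pow_eq_one (Subtype.ext (by rw [pow_two]; simpa using this))
    obtain ⟨j, hj⟩ := IsPGroup.iff_orderOf.mp hP u
    rw [hj] at hd
    rcases Nat.eq_zero_or_pos j with rfl | hj0
    · exact hu1 (orderOf_eq_one_iff.mp (by simpa using hj))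
    · have h2 : p ∣ 2 := (dvd_pow_self p hj0.ne').trans hd
      have : p = 2 := (Nat.prime_dvd_prime_iff_eq hp Nat.prime_two).mp h2
      subst this
      exact absurd hodd (by decide)
  -- the difference element is inverted
  have hzZ : (R.subtype z0) ∈ Z := Subgroup.mem_map_of_mem _ hz0
  set z := R.subtype z0
  have hzt : t * z * t⁻¹ ∈ Z := by
    refine hmemZ _ ((Subgroup.mem_normalizer_iff.mp (hTR ht) z).mp (hZR z hzZ).1) fun r hr => ?_
    have hr' : t⁻¹ * r * t ∈ R := (Subgroup.mem_normalizer_iff.mp (hTR ht) _).mpr (by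
      rw [show t * (t⁻¹ * r * t) * t⁻¹ = r by group]; exact hr)
    have := (hZR z hzZ).2 _ hr'
    calc r * (t * z * t⁻¹) = t * ((t⁻¹ * r * t) * z) * t⁻¹ := by group
      _ = t * (z * (t⁻¹ * r * t)) * t⁻¹ := by rw [this]
      _ = _ := by group
  have hd : z⁻¹ * (t * z * t⁻¹) ∈ I := by
    refine ⟨Z.mul_mem (Z.inv_mem hzZ) hzt, ?_⟩
    have hcomm := (hZR _ (Z.inv_mem hzt)).2 z (hZR z hzZ).1
    calc t * (z⁻¹ * (t * z * t⁻¹)) * t⁻¹ = (t * z * t⁻¹)⁻¹ * ((t * t) * z * (t * t)⁻¹) := by group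
      _ = (t * z * t⁻¹)⁻¹ * z := by rw [ht2, inv_one, mul_one, one_mul]
      _ = _ := by group
  rw [hIbot, Subgroup.mem_bot, inv_mul_eq_one] at hd
  exact (eq_mul_inv_iff_mul_eq.mp hd)

end Cfsg.Agent.S3190
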