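import Cfsg.Statements.S3192
import Cfsg.Agent.Lib.Transfer.ConjRankThree.Main

set_option autoImplicit false
open Cfsg

namespace Cfsg.Agent.S3192

/-- Simple groups of conjugate type rank three. For a finite group G consider the set of indices of the centralizers of the non-central elements of G. Then G is a non-abelian simple group for which this set has exactly three members if and only if G is isomorphic to PSL(2, 2^m) for some m ≥ 2. -/
theorem result (G : Type*) [Group G] [Finite G] :
    (IsSimpleGroup G ∧ ¬ IsMulCommutative G ∧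
        Set.ncard {m : ℕ | ∃ x : G, x ∉ Subgroup.center G ∧ m = (Subgroup.centralizer ({x} : Set G)).index} = 3) ↔
      ∃ (m : ℕ) (F : Type) (_ : Field F) (_ : Fintype F), 2 ≤ m ∧ Fintype.card F = 2 ^ m ∧
        Nonempty (G ≃* Matrix.ProjectiveSpecialLinearGroup (Fin 2) F) := by
  have hset : ∀ (_ : Subgroup.center G = ⊥),
      {m : ℕ | ∃ x : G, x ∉ Subgroup.center G ∧ m = (Subgroup.centralizer ({x} : Set G)).index} =
        {m : ℕ | ∃ x : G, x ≠ 1 ∧ m = Transfer.ClassDisconnected.cix x} := by
    intro hz
    simp only [hz, Subgroup.mem_bot]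
  constructor
  · rintro ⟨hs, hna, h3⟩
    haveI := hs
    have hz : Subgroup.center G = ⊥ := (Subgroup.eq_bot_iff_forall _).2 fun g hg => by
      by_contra h
      exact Transfer.ConjRankThree.not_mem_center hna h hg
    rw [hset hz] at h3
    refine Transfer.ConjRankThree.exists_psl hna fun t ht => ?_
    rcases Transfer.ConjRankThree.anti_or_tri hna h3 with hA | ⟨a, b, c, T⟩
    · exact Transfer.ConjRankThree.anti_abelian hna hA ht
    · exact (T.false hna).elim
  · rintro ⟨m, F, hFld, hFin, hm, hF, ⟨e⟩⟩
    have h4 : 4 ≤ Fintype.card F := by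
      rw [hF]
      exact le_trans (by norm_num) (Nat.pow_le_pow_right (by norm_num : 0 < 2) hm)
    haveI : IsSimpleGroup (Matrix.ProjectiveSpecialLinearGroup (Fin 2) F) :=
      Classical.PSL_isSimple le_rfl fun _ => h4
    haveI : Nontrivial G := e.toEquiv.nontrivial
    haveI : IsSimpleGroup G := e.isSimpleGroup
    have hna : ¬ IsMulCommutative G := by
      intro hc
      have h := S2507.result (F := F) (by rw [hF]; exact dvd_pow_self 2 (by omega)) h4
      obtain ⟨p, hp⟩ := (Set.ext_iff.1 h _).2 (Set.mem_insert_of_mem _ (Set.mem_insert _ _))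
      have ht : Subgroup.centralizer ({p} : Set (Matrix.ProjectiveSpecialLinearGroup (Fin 2) F)) = ⊤ := by
        refine eq_top_iff.2 fun z _ => Subgroup.mem_centralizer_singleton_iff.2 (e.symm.injective ?_)
        rw [map_mul, map_mul]
        exact hc.is_comm.comm _ _
      simp only [ht, Subgroup.index_top] at hp
      have := Nat.eq_one_of_mul_eq_one_right hp.symm
      omega
    refine ⟨inferInstance, hna, ?_⟩
    have hz : Subgroup.center G = ⊥ := (Subgroup.eq_bot_iff_forall _).2 fun g hg => by
      by_contra h
      exact Transfer.ConjRankThree.not_mem_center hna h hg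
    rw [hset hz, Transfer.ConjRankThree.cix_psl hna hm hF e]
    set q := Fintype.card F with hq
    have h16 : 16 ≤ q * q := Nat.mul_le_mul h4 h4
    have e1 : q * (q - 1) + q = q * q := by
      rw [← Nat.mul_succ, Nat.succ_eq_add_one, Nat.sub_add_cancel (by omega)]
    have e2 : q ^ 2 = q * q := pow_two q
    have e3 : q * (q + 1) = q * q + q := by ring
    refine Set.ncard_eq_three.2 ⟨_, _, _, ?_, ?_, ?_, rfl⟩ <;> omega

end Cfsg.Agent.S3192
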