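import Cfsg.Statements.S3193
import Cfsg.Agent.Lib.Transfer.ConjRankFour.Main

set_option autoImplicit false
open Cfsg

namespace Cfsg.Agent.S3193

/-- Simple groups of conjugate type rank four. For a finite group G consider the set of indices of the centralizers of the non-central elements of G. Then G is a non-abelian simple group for which this set has exactly four members if and only if G is isomorphic to PSL(2, q) for some odd prime power q ≥ 7. -/
theorem result (G : Type*) [Group G] [Finite G] :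
    (IsSimpleGroup G ∧ ¬ IsMulCommutative G ∧
        Set.ncard {m : ℕ | ∃ x : G, x ∉ Subgroup.center G ∧ m = (Subgroup.centralizer ({x} : Set G)).index} = 4) ↔
      ∃ (F : Type) (_ : Field F) (_ : Fintype F), Odd (Fintype.card F) ∧ 7 ≤ Fintype.card F ∧
        Nonempty (G ≃* Matrix.ProjectiveSpecialLinearGroup (Fin 2) F) := by
  classical
  have hset : ∀ [IsSimpleGroup G], ¬ IsMulCommutative G →
      {m : ℕ | ∃ x : G, x ∉ Subgroup.center G ∧ m = (Subgroup.centralizer ({x} : Set G)).index} =
        {m : ℕ | ∃ w : G, w ≠ 1 ∧ m = Cfsg.Agent.Transfer.ClassDisconnected.cix w} := by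
    intro _ hna
    ext m
    exact ⟨fun ⟨x, hx, hm⟩ => ⟨x, fun e => hx (e ▸ one_mem _), hm⟩,
      fun ⟨x, hx, hm⟩ => ⟨x, Cfsg.Agent.Transfer.ConjRankThree.not_mem_center hna hx, hm⟩⟩
  constructor
  · rintro ⟨hs, hna, h4⟩
    haveI := hs
    exact Cfsg.Agent.Transfer.ConjRankFour.forward ⟨hna, hset hna ▸ h4⟩
  · rintro ⟨F, iF, iFin, hodd, h7, ⟨e⟩⟩
    obtain ⟨hs, X⟩ := Cfsg.Agent.Transfer.ConjRankFour.reverse hodd h7 e
    haveI := hs
    exact ⟨hs, X.hna, by rw [hset X.hna]; exact X.four⟩

end Cfsg.Agent.S3193
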