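import Cfsg.Statements.S3195
import Cfsg.Agent.S0200
-- import your own Cfsg.Agent.* helpers here

set_option autoImplicit false
open Cfsg

namespace Cfsg.Agent.S3195

variable {G : Type*} [Group G] [Finite G]

theorem eq_one_of_inv_self {x : G} (ho : Odd (orderOf x)) (h : x = x⁻¹) : x = 1 := by
  have h2 : x ^ 2 = 1 := by rw [pow_two]; exact mul_eq_one_iff_eq_inv.mpr h
  obtain ⟨k, hk⟩ := ho
  have := pow_orderOf_eq_one x
  rwa [hk, pow_succ, pow_mul, h2, one_pow, one_mul] at this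

theorem commute_of_sq {x y : G} (ho : Odd (orderOf y)) (h : Commute (y ^ 2) x) : Commute y x := by
  obtain ⟨k, hk⟩ := ho
  have hy : y = (y ^ 2) ^ (k + 1) := by
    rw [← pow_mul, show 2 * (k + 1) = (2 * k + 1) + 1 by ring, pow_succ, ← hk, pow_orderOf_eq_one, one_mul]
  rw [hy]
  exact h.pow_left _

theorem exists_centralizing (A : Subgroup G) (hA : IsKleinFour ↥A)
    (h : ∀ a ∈ A, a ≠ 1 → ∀ g : G, A ⊓ Subgroup.centralizer ({g * a * g⁻¹} : Set G) ≠ ⊥)
    {a x : G} (ha : a ∈ A) (ha1 : a ≠ 1) (hx : x ≠ 1) (ho : Odd (orderOf x)) (hinv : a * x * a⁻¹ = x⁻¹) :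
    ∃ b ∈ A, b ≠ 1 ∧ b ≠ a ∧ b * x * b⁻¹ = x := by
  obtain ⟨k, hk⟩ := ho
  have hy : (x ^ (k + 1)) * (x ^ (k + 1)) = x := by
    rw [← pow_add, show k + 1 + (k + 1) = (2 * k + 1) + 1 by ring, pow_succ, ← hk, pow_orderOf_eq_one, one_mul]
  have hcy : a * x ^ (k + 1) * a⁻¹ = (x ^ (k + 1))⁻¹ := by rw [← conj_pow, hinv, inv_pow]
  have hax : (x ^ (k + 1))⁻¹ * a * (x ^ (k + 1))⁻¹⁻¹ = a * x := by
    rw [inv_inv, ← hcy, inv_mul_cancel_right, mul_assoc, hy]
  have hne := h a ha ha1 (x ^ (k + 1))⁻¹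
  rw [hax] at hne
  obtain ⟨b, hb, hb1⟩ := Subgroup.ne_bot_iff_exists_ne_one.mp hne |> fun ⟨b, hb⟩ =>
    (⟨b.1, b.2, fun e => hb (Subtype.ext e)⟩ : ∃ b : G, b ∈ A ⊓ Subgroup.centralizer ({a * x} : Set G) ∧ b ≠ 1)
  have hbc : b * (a * x) = a * x * b := Subgroup.mem_centralizer_singleton_iff.mp hb.2
  refine ⟨b, hb.1, hb1, fun e => hx (eq_one_of_inv_self ⟨k, hk⟩ ?_), ?_⟩
  · rw [e, mul_assoc a x a] at hbc
    have h1 : a * x = x * a := mul_left_cancel hbc
    rw [h1, mul_inv_cancel_right] at hinv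
    exact hinv
  · have hab : a * b = b * a := congrArg Subtype.val
      (mul_comm_of_exponent_two (IsKleinFour.exponent_two) (⟨a, ha⟩ : A) ⟨b, hb.1⟩)
    have : a * (b * x) = a * (x * b) := by rw [← mul_assoc, hab, mul_assoc, hbc, mul_assoc]
    rw [mul_left_cancel this, mul_inv_cancel_right]

theorem no_pair (A : Subgroup G) (hA : IsKleinFour ↥A)
    (h : ∀ a ∈ A, a ≠ 1 → ∀ g : G, A ⊓ Subgroup.centralizer ({g * a * g⁻¹} : Set G) ≠ ⊥)
    {a b x y : G} (ha : a ∈ A) (hb : b ∈ A) (ha1 : a ≠ 1) (hb1 : b ≠ 1) (hab : a ≠ b)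
    (hx : x ≠ 1) (hox : Odd (orderOf x)) (hax : a * x * a⁻¹ = x⁻¹) (hbx : b * x * b⁻¹ = x)
    (hy : y ≠ 1) (hoy : Odd (orderOf y)) (hay : a * y * a⁻¹ = y) (hby : b * y * b⁻¹ = y⁻¹) : False := by
  have hel : ∀ d ∈ A, d ≠ 1 → d = a ∨ d = b ∨ d = a * b := by
    intro d hd hd1
    by_cases h1 : d = a
    · exact Or.inl h1
    by_cases h2 : d = b
    · exact Or.inr (Or.inl h2)
    haveI := hA
    have := IsKleinFour.eq_mul_of_ne_all (x := (⟨a, ha⟩ : A)) (y := ⟨b, hb⟩) (z := ⟨d, hd⟩)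
      (by simpa [Subtype.ext_iff] using ha1) (by simpa [Subtype.ext_iff] using hb1) (by simpa [Subtype.ext_iff] using hab)
      (by simpa [Subtype.ext_iff] using hd1) (by simpa [Subtype.ext_iff] using h1) (by simpa [Subtype.ext_iff] using h2)
    exact Or.inr (Or.inr (congrArg Subtype.val this))
  have hX : a * (y⁻¹ * x * y) * a⁻¹ = (y⁻¹ * x * y)⁻¹ := by
    rw [← MulAut.conj_apply, map_mul, map_mul, map_inv]
    simp only [MulAut.conj_apply, hax, hay]
    group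
  have hX1 : y⁻¹ * x * y ≠ 1 := fun e => hx (by
    rw [show x = y * (y⁻¹ * x * y) * y⁻¹ by group, e, mul_one, mul_inv_cancel])
  have hoX : Odd (orderOf (y⁻¹ * x * y)) := by
    have he : orderOf (MulAut.conj y⁻¹ x) = orderOf x := MulEquiv.orderOf_eq _ x
    rw [MulAut.conj_apply, inv_inv] at he
    rwa [he]
  have hcomm : Commute y x := by
    obtain ⟨d, hd, hd1, hda, hdX⟩ := exists_centralizing A hA h ha ha1 hX1 hoX hX
    have hbX : b * (y⁻¹ * x * y) * b⁻¹ = y * x * y⁻¹ := by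
      rw [← MulAut.conj_apply, map_mul, map_mul, map_inv]
      simp only [MulAut.conj_apply, hbx, hby, inv_inv]
    rcases hel d hd hd1 with e | e | e
    · exact absurd e hda
    · rw [e, hbX] at hdX
      refine commute_of_sq hoy ?_
      show y ^ 2 * x = x * y ^ 2
      rw [pow_two, show y * y * x = y * (y * x * y⁻¹) * y by group, hdX]
      group
    · have h1 : a * (y * x * y⁻¹) * a⁻¹ = y⁻¹ * x * y := by
        rw [← hbX]; rw [e] at hdX; conv_rhs => rw [← hdX]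
        group
      rw [← MulAut.conj_apply, map_mul, map_mul, map_inv] at h1
      simp only [MulAut.conj_apply, hax, hay] at h1
      have h2 : (y ^ 2) * x⁻¹ * (y ^ 2)⁻¹ = x := by
        rw [show y ^ 2 * x⁻¹ * (y ^ 2)⁻¹ = y * (y * x⁻¹ * y⁻¹) * y⁻¹ by rw [pow_two]; group, h1]; group
      have h3 : Commute (y ^ 2) x := by
        refine commute_of_sq (x := x) (y := y ^ 2) ?_ ?_
        · exact hoy.of_dvd_nat (orderOf_pow_dvd 2)
        · have h4 : (y ^ 2) * x * (y ^ 2)⁻¹ = x⁻¹ := by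
            conv_rhs => rw [← h2]
            group
          show (y ^ 2) ^ 2 * x = x * (y ^ 2) ^ 2
          calc (y ^ 2) ^ 2 * x = y ^ 2 * (y ^ 2 * x * (y ^ 2)⁻¹) * (y ^ 2)⁻¹ * (y ^ 2) ^ 2 := by group
            _ = (y ^ 2 * x⁻¹ * (y ^ 2)⁻¹) * (y ^ 2) ^ 2 := by rw [h4]
            _ = x * (y ^ 2) ^ 2 := by rw [h2]
      rw [h3.inv_right.eq, mul_inv_cancel_right] at h2
      exact absurd (eq_one_of_inv_self hox h2.symm) hx
  have hz1 : x * y ≠ 1 := fun e => by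
    rw [eq_inv_of_mul_eq_one_left e] at hax
    rw [← MulAut.conj_apply, map_inv, MulAut.conj_apply, hay, inv_inv] at hax
    exact hy (eq_one_of_inv_self hoy hax.symm)
  have hoz : Odd (orderOf (x * y)) :=
    Odd.of_dvd_nat (hox.mul hoy) ((hcomm.symm.orderOf_mul_dvd_lcm).trans (Nat.lcm_dvd_mul _ _))
  have hc : a * b * (x * y) * (a * b)⁻¹ = (x * y)⁻¹ := by
    rw [show a * b * (x * y) * (a * b)⁻¹ = a * ((b * x * b⁻¹) * (b * y * b⁻¹)) * a⁻¹ by group, hbx, hby,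
      show a * (x * y⁻¹) * a⁻¹ = (a * x * a⁻¹) * (a * y * a⁻¹)⁻¹ by group, hax, hay, mul_inv_rev]
    exact hcomm.symm.inv_inv.eq
  have hc1 : a * b ≠ 1 := fun e => hab (by
    have hbb : (⟨b, hb⟩ : A) * ⟨b, hb⟩ = 1 := IsKleinFour.mul_self _
    rw [eq_inv_of_mul_eq_one_left e]
    exact (eq_inv_of_mul_eq_one_left (congrArg Subtype.val hbb)).symm)
  obtain ⟨d, hd, hd1, hdc, hdz⟩ := exists_centralizing A hA h (mul_mem ha hb) hc1 hz1 hoz hc
  rcases hel d hd hd1 with e | e | e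
  · rw [e, show a * (x * y) * a⁻¹ = (a * x * a⁻¹) * (a * y * a⁻¹) by group, hax, hay] at hdz
    exact hx (eq_one_of_inv_self hox (mul_right_cancel hdz).symm)
  · rw [e, show b * (x * y) * b⁻¹ = (b * x * b⁻¹) * (b * y * b⁻¹) by group, hbx, hby] at hdz
    exact hy (eq_one_of_inv_self hoy (mul_left_cancel hdz).symm)
  · exact hdc e

/-- Let A be a Klein four-subgroup of a finite group G. If every G-conjugate of every involution of A commutes with some involution of A (its centralizer meets A nontrivially), then A meets the largest normal 2-subgroup O₂(G) nontrivially. -/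
theorem result {G : Type*} [Group G] [Finite G]
    (A : Subgroup G) (hA : IsKleinFour ↥A)
    (h : ∀ a ∈ A, a ≠ 1 → ∀ g : G, A ⊓ Subgroup.centralizer ({g * a * g⁻¹} : Set G) ≠ ⊥) :
    A ⊓ Cfsg.pCore 2 G ≠ ⊥ := by
  haveI := hA
  by_contra hbot
  have hex : ∀ a ∈ A, a ≠ 1 → ∃ x : G, x ≠ 1 ∧ Odd (orderOf x) ∧ a * x * a⁻¹ = x⁻¹ := by
    intro a ha ha1
    haveI : Fact (Nat.Prime 2) := ⟨Nat.prime_two⟩
    have hsq : a ^ 2 = 1 := by
      have h1 : (⟨a, ha⟩ : A) * ⟨a, ha⟩ = 1 := IsKleinFour.mul_self _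
      rw [pow_two]; exact congrArg Subtype.val h1
    refine Cfsg.Agent.S0200.result a (orderOf_eq_prime hsq ha1) fun N hN hp haN => ha1 ?_
    have : a ∈ A ⊓ Cfsg.pCore 2 G := ⟨ha, le_sSup (s := {N : Subgroup G | N.Normal ∧ IsPGroup 2 N}) ⟨hN, hp⟩ haN⟩
    rwa [hbot, Subgroup.mem_bot] at this
  haveI : Nontrivial A := Finite.one_lt_card_iff_nontrivial.mp (by rw [IsKleinFour.card_four]; norm_num)
  obtain ⟨⟨a, ha⟩, hane⟩ := exists_ne (1 : A)
  have ha1 : a ≠ 1 := fun e => hane (Subtype.ext e)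
  obtain ⟨x, hx, hox, hax⟩ := hex a ha ha1
  obtain ⟨b, hb, hb1, hba, hbx⟩ := exists_centralizing A hA h ha ha1 hx hox hax
  obtain ⟨y, hy, hoy, hby⟩ := hex b hb hb1
  obtain ⟨c, hc, hc1, hcb, hcy⟩ := exists_centralizing A hA h hb hb1 hy hoy hby
  by_cases hca : c = a
  · exact no_pair A hA h ha hb ha1 hb1 (Ne.symm hba) hx hox hax hbx hy hoy (hca ▸ hcy) hby
  · have e : (⟨c, hc⟩ : A) = ⟨a, ha⟩ * ⟨b, hb⟩ :=
      IsKleinFour.eq_mul_of_ne_all (by simpa [Subtype.ext_iff] using ha1)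
        (by simpa [Subtype.ext_iff] using hb1) (by simpa [Subtype.ext_iff] using Ne.symm hba)
        (by simpa [Subtype.ext_iff] using hc1) (by simpa [Subtype.ext_iff] using hca) (by simpa [Subtype.ext_iff] using hcb)
    have e' : c = a * b := congrArg Subtype.val e
    refine no_pair A hA h hc hb hc1 hb1 hcb hx hox ?_ hbx hy hoy hcy hby
    rw [e', show a * b * x * (a * b)⁻¹ = a * (b * x * b⁻¹) * a⁻¹ by group, hbx, hax]

end Cfsg.Agent.S3195
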