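import Cfsg.Statements.S3196
-- import your own Cfsg.Agent.* helpers here

set_option autoImplicit false
open Cfsg

namespace Cfsg.Agent.S3196

variable {G : Type*} [Group G] [Finite G] {p : ℕ}

theorem conj_fix_of_pow (hp : p.Prime) {u s : G} (hu : u ^ p = 1) (hs : orderOf s = p) {k : ℤ}
    (h : u * s * u⁻¹ = s ^ k) : Commute u s := by
  have hn : ∀ m : ℕ, u ^ m * s * (u ^ m)⁻¹ = s ^ (k ^ m) := by
    intro m
    induction m with
    | zero => simp
    | succ m ih =>
        rw [show u ^ (m + 1) * s * (u ^ (m + 1))⁻¹ = u * (u ^ m * s * (u ^ m)⁻¹) * u⁻¹ by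
          rw [pow_succ']; group, ih, ← conj_zpow, h, ← zpow_mul, ← pow_succ']
  have h1 := hn p
  rw [hu, one_mul, inv_one, mul_one] at h1
  have h2 : ((p : ℕ) : ℤ) ∣ k - 1 := by
    haveI : Fact p.Prime := ⟨hp⟩
    have h3 : s ^ (k ^ p - 1) = 1 := by rw [zpow_sub, ← h1, zpow_one, mul_inv_cancel]
    have h4 := orderOf_dvd_iff_zpow_eq_one.mpr h3
    rw [hs] at h4
    rw [← ZMod.intCast_zmod_eq_zero_iff_dvd] at h4 ⊢
    push_cast at h4 ⊢
    rwa [ZMod.pow_card] at h4
  obtain ⟨c, hc⟩ := h2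
  rw [show k = 1 + (p : ℤ) * c by omega, zpow_add, zpow_mul, zpow_natCast, ← hs, pow_orderOf_eq_one, one_zpow,
    mul_one, zpow_one, mul_inv_eq_iff_eq_mul] at h
  exact h

theorem comm_of_pow (hp : p.Prime) {w g : G} {i : ℕ} (hg : g ^ p = 1) (hi : ¬ p ∣ i)
    (h : Commute w (g ^ i)) : Commute w g := by
  obtain ⟨m, hm⟩ := exists_pow_eq_self_of_coprime (x := g) (n := i) (Nat.Coprime.coprime_dvd_right
    (orderOf_dvd_of_pow_eq_one hg) ((hp.coprime_iff_not_dvd.mpr hi).symm))
  rw [← hm]; exact h.pow_right m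

/-- Elements generating a member of `K`. -/
def gens (K : Set (Subgroup G)) : Set G := {g | g ≠ 1 ∧ Subgroup.zpowers g ∈ K}

structure Good (K : Set (Subgroup G)) (p : ℕ) : Prop where
  pr : p.Prime
  card : ∀ g ∈ gens K, orderOf g = p
  conj : ∀ g ∈ gens K, ∀ x : G, x * g * x⁻¹ ∈ gens K
  prod : ∀ a ∈ gens K, ∀ b ∈ gens K, Commute a b → a ∉ Subgroup.zpowers b → ∀ i : ℕ, a * b ^ i ∈ gens K
  proj : ∀ a ∈ gens K, ∀ b ∈ gens K, Commute a b → a ∉ Subgroup.zpowers b → ∀ w ∈ gens K,
    Commute w b ∨ ∃ i : ℕ, Commute w (a * b ^ i)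
  norad : ∀ g ∈ gens K, ∃ w ∈ gens K, ¬ Commute g w

variable {K : Set (Subgroup G)}

theorem Good.pow_p (hK : Good K p) {g : G} (hg : g ∈ gens K) : g ^ p = 1 := by
  rw [← hK.card g hg, pow_orderOf_eq_one]

theorem Good.gen (hK : Good K p) {g h w : G} (hg : g ∈ gens K) (hh : h ∈ Subgroup.zpowers g) (hh1 : h ≠ 1)
    (hw : Commute w h) : Commute w g := by
  obtain ⟨i, hi⟩ : ∃ i : ℕ, g ^ i = h := (isOfFinOrder_of_finite g).mem_powers_iff_mem_zpowers.mpr hh
  subst hi
  refine comm_of_pow hK.pr (hK.pow_p hg) (fun ⟨c, hc⟩ => hh1 ?_) hw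
  rw [hc, pow_mul, hK.pow_p hg, one_pow]

theorem comm_of_mem {a b w : G} (h : a ∈ Subgroup.zpowers b) (hw : Commute w b) : Commute w a := by
  obtain ⟨i, rfl⟩ := Subgroup.mem_zpowers_iff.mp h
  exact hw.zpow_right i

/-- No member moves another one to a commuting one. -/
theorem Good.no_comm_conj (hK : Good K p) {w u : G} (hw : w ∈ gens K) (hu : u ∈ gens K) (hn : ¬ Commute u w)
    (hc : Commute w (u * w * u⁻¹)) : False := by
  have hcD := hK.conj w hw u
  have hcw : u * w * u⁻¹ ∉ Subgroup.zpowers w := fun h => by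
    obtain ⟨k, hk⟩ := Subgroup.mem_zpowers_iff.mp h
    exact hn (conj_fix_of_pow hK.pr (hK.pow_p hu) (hK.card w hw) hk.symm)
  set c := u * w * u⁻¹ with hcdef
  rcases hK.proj c hcD w hw hc.symm hcw u hu with h | ⟨i, hi⟩
  · exact hn h
  set s := w⁻¹ * c with hsdef
  have hws : c = w * s := by rw [hsdef]; group
  have hwsc : Commute w s := (Commute.refl w).inv_right.mul_right hc
  have hsD : s ∈ gens K := by
    have := hK.prod c hcD w hw hc.symm hcw (p - 1)
    rw [hsdef, hc.inv_left.eq]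
    have hp := hK.pr.two_le
    rwa [show w⁻¹ = w ^ (p - 1) from inv_eq_of_mul_eq_one_right (by
      rw [← pow_succ', Nat.sub_add_cancel (by omega), hK.pow_p hw])]
  have hus : Commute u s := by
    refine conj_fix_of_pow hK.pr (hK.pow_p hu) (hK.card s hsD) (k := -(i : ℤ)) ?_
    have h1 : u * (c * w ^ i) * u⁻¹ = c * w ^ i := by rw [hi.eq, mul_inv_cancel_right]
    rw [← MulAut.conj_apply, map_mul, map_pow, MulAut.conj_apply, MulAut.conj_apply, ← hcdef] at h1
    rw [hsdef, show u * (w⁻¹ * c) * u⁻¹ = c⁻¹ * (u * c * u⁻¹) by rw [hcdef]; group,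
      show u * c * u⁻¹ = c * w ^ i * (c ^ i)⁻¹ by rw [← h1]; group, zpow_neg, zpow_natCast,
      ((Commute.inv_left hc).mul_pow i), inv_pow, mul_inv_rev (w ^ i)⁻¹ (c ^ i), inv_inv (w ^ i), mul_assoc c,
      inv_mul_cancel_left]
    exact (hc.pow_pow i i).inv_right.eq
  have hu' : Commute s u := hus.symm
  have hsw : w ∉ Subgroup.zpowers s := fun h => hn (comm_of_mem h hus)
  have hsu : u ∉ Subgroup.zpowers s := fun h => hn (comm_of_mem h hwsc).symm
  obtain ⟨R, hR, hRs⟩ := hK.norad s hsD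
  rcases hK.proj w hw s hsD hwsc hsw R hR with h | ⟨j, hj⟩
  · exact hRs h.symm
  rcases hK.proj u hu s hsD hus hsu R hR with h | ⟨l, hl⟩
  · exact hRs h.symm
  have h2 : (u * s ^ l) * (w * s ^ j) * (u * s ^ l)⁻¹ = (w * s ^ j) * s := by
    have e1 : s ^ l * (w * s ^ j) * (s ^ l)⁻¹ = w * s ^ j := by
      rw [(((hwsc.symm.pow_left l).mul_right (Commute.pow_pow_self s l j))).eq, mul_inv_cancel_right]
    rw [show (u * s ^ l) * (w * s ^ j) * (u * s ^ l)⁻¹ = u * (s ^ l * (w * s ^ j) * (s ^ l)⁻¹) * u⁻¹ by group, e1,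
      show u * (w * s ^ j) * u⁻¹ = c * (u * s ^ j * u⁻¹) by rw [hcdef]; group, (hus.pow_right j).eq,
      mul_inv_cancel_right, hws, mul_assoc, ← pow_succ', mul_assoc, ← pow_succ]
  have h3 : Commute R ((w * s ^ j) * s) := h2 ▸ ((hl.mul_right hj).mul_right hl.inv_right)
  refine hRs ((?_ : Commute R s).symm)
  have h4 := hj.inv_right.mul_right h3
  rwa [inv_mul_cancel_left] at h4

/-- No perp of a point is contained in that of another point collinear with it. -/
theorem Good.no_contain (hK : Good K p) {z x : G} (hz : z ∈ gens K) (hx : x ∈ gens K) (hzx : Commute x z)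
    (hne : x ∉ Subgroup.zpowers z) (hall : ∀ d ∈ gens K, Commute d z → Commute d x) : False := by
  have hlab : ∀ R ∈ gens K, ¬ Commute R z → ∃ i : ℕ, Commute R (x * z ^ i) := fun R hR hRz =>
    (hK.proj x hx z hz hzx hne R hR).resolve_left hRz
  have hsame : ∀ R ∈ gens K, ∀ y, (∃ i : ℕ, y = x * z ^ i) → Commute R y → ¬ Commute R z →
      ∀ R' ∈ gens K, ¬ Commute R' z → Commute R' y := by
    intro R hR y hy hRy hRz R' hR' hR'z
    obtain ⟨i, rfl⟩ := hy
    have hyD := hK.prod x hx z hz hzx hne i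
    have hyz : Commute (x * z ^ i) z := hzx.mul_left (Commute.pow_self z i)
    have hRne : R ∉ Subgroup.zpowers (x * z ^ i) := fun h => hRz (comm_of_mem h hyz.symm).symm
    rcases hK.proj R hR _ hyD hRy hRne R' hR' with h | ⟨k, hk⟩
    · exact h
    have hPD := hK.prod R hR _ hyD hRy hRne k
    set P := R * (x * z ^ i) ^ k with hP
    have hPy : Commute P (x * z ^ i) := hRy.mul_left (Commute.pow_self _ k)
    have hPz : ¬ Commute P z := fun h => hRz (by
      have := h.mul_left ((hyz.pow_left k).inv_left)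
      rwa [hP, mul_inv_cancel_right] at this)
    by_cases hmem : R' ∈ Subgroup.zpowers P
    · exact (comm_of_mem hmem hPy.symm).symm
    rcases hK.proj R' hR' P hPD hk hmem z hz with h | ⟨j, hj⟩
    · exact absurd h.symm hPz
    have hQ := hK.prod R' hR' P hPD hk hmem j
    have h1 : Commute (R' * P ^ j) (x * z ^ i) := (hall _ hQ hj.symm).mul_right (hj.symm.pow_right i)
    have h2 := h1.mul_left ((hPy.pow_left j).inv_left)
    rwa [mul_inv_cancel_right] at h2
  obtain ⟨T, hT, hTz⟩ := hK.norad z hz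
  have hTz' : ¬ Commute T z := fun h => hTz h.symm
  obtain ⟨i, hi⟩ := hlab T hT hTz'
  obtain ⟨R, hR, hRy⟩ := hK.norad _ (hK.prod x hx z hz hzx hne i)
  by_cases hRz : Commute R z
  · exact hRy (((hall R hR hRz).mul_right (hRz.pow_right i)).symm)
  · exact hRy (hsame T hT _ ⟨i, rfl⟩ hi hTz' R hR hRz).symm

theorem Good.absurd (hK : Good K p) {z x₀ : G} (hz : z ∈ gens K) (hx₀ : x₀ ∈ gens K) (hzx : Commute x₀ z)
    (hne : x₀ ∉ Subgroup.zpowers z) : False := by
  obtain ⟨T, hT, hTz⟩ := hK.norad z hz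
  have hTz' : ¬ Commute T z := fun h => hTz h.symm
  obtain ⟨i, hi⟩ := (hK.proj x₀ hx₀ z hz hzx hne T hT).resolve_left hTz'
  set x := x₀ * z ^ i with hxdef
  have hx : x ∈ gens K := hK.prod x₀ hx₀ z hz hzx hne i
  have hxz : Commute x z := hzx.mul_left (Commute.pow_self z i)
  have hxne : x ∉ Subgroup.zpowers z := fun h => hne (by
    have := mul_mem h (inv_mem (Subgroup.pow_mem _ (Subgroup.mem_zpowers z) i))
    rwa [hxdef, mul_inv_cancel_right] at this)
  obtain ⟨W, hW, hWz, hWx⟩ : ∃ W ∈ gens K, Commute W z ∧ ¬ Commute W x := by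
    by_contra hh
    push Not at hh
    exact hK.no_contain hz hx hxz hxne hh
  have hWne : W ∉ Subgroup.zpowers z := fun h => hWx (comm_of_mem h hxz).symm
  obtain ⟨k, hk⟩ := (hK.proj W hW z hz hWz hWne T hT).resolve_left hTz'
  set R := W * z ^ k with hRdef
  have hR : R ∈ gens K := hK.prod W hW z hz hWz hWne k
  have hRz : Commute R z := hWz.mul_left (Commute.pow_self z k)
  have hRx : ¬ Commute R x := fun h => hWx (by
    have := h.mul_left ((hxz.symm.pow_left k).inv_left)
    rwa [hRdef, mul_inv_cancel_right] at this)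
  have hu : x * z ∈ gens K := by simpa using hK.prod x hx z hz hxz hxne 1
  have hRne : R ∉ Subgroup.zpowers T := fun h =>
    hTz' (hK.gen hT h hR.1 hRz.symm).symm
  have hnT : ¬ Commute (x * z) T := fun h => hTz (by simpa using hi.symm.inv_left.mul_left h)
  obtain ⟨j, hj⟩ := (hK.proj R hR T hT hk.symm hRne (x * z) hu).resolve_left hnT
  have hTj : T ^ j ≠ 1 := fun h => hRx (by
    rw [h, mul_one] at hj
    have := hj.symm.mul_right hRz.inv_right
    rwa [mul_inv_cancel_right] at this)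
  refine hK.no_comm_conj hR hx (fun h => hRx h.symm) ?_
  have hQT : Commute (x * R * x⁻¹) T := (hi.symm.mul_left hk.symm).mul_left hi.symm.inv_left
  have he : (x * z) * R * (x * z)⁻¹ = x * R * x⁻¹ := by
    rw [mul_inv_rev, mul_assoc x z R, hRz.symm.eq]; group
  have hQT' : Commute ((x * z) * R * (x * z)⁻¹) (R * T ^ j) :=
    (hj.mul_left ((Commute.refl R).mul_right (hk.symm.pow_right j))).mul_left hj.inv_left
  rw [he] at hQT'
  have := hQT'.mul_right ((hQT.pow_right j).inv_right)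
  rw [mul_inv_cancel_right] at this
  exact this.symm

/-- Let p be a prime and K a set of subgroups of order p of a finite group G, closed under conjugation, such that at least two distinct members of K commute elementwise, and whenever two distinct members X, Y of K commute: every subgroup of order p of the group XY they generate belongs to K, and every member W of K has centralizer meeting XY nontrivially. Then some member V of K commutes elementwise with every member of K and lies in O_p(G); in particular G is not simple. -/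
theorem result {G : Type*} [Group G] [Finite G]
    {p : ℕ} (hp : p.Prime) (K : Set (Subgroup G)) (hK : ∀ X ∈ K, Nat.card ↥X = p)
    (hKc : ∀ X ∈ K, ∀ g : G, X.map (MulAut.conj g).toMonoidHom ∈ K)
    (hex : ∃ X ∈ K, ∃ Y ∈ K, X ≠ Y ∧ ∀ x ∈ X, ∀ y ∈ Y, x * y = y * x)
    (ha : ∀ X ∈ K, ∀ Y ∈ K, X ≠ Y → (∀ x ∈ X, ∀ y ∈ Y, x * y = y * x) →
      ∀ Z : Subgroup G, Z ≤ X ⊔ Y → Nat.card ↥Z = p → Z ∈ K)
    (hb : ∀ X ∈ K, ∀ Y ∈ K, X ≠ Y → (∀ x ∈ X, ∀ y ∈ Y, x * y = y * x) →
      ∀ W ∈ K, (X ⊔ Y) ⊓ Subgroup.centralizer (W : Set G) ≠ ⊥) :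
    (∃ V ∈ K, (∀ W ∈ K, ∀ v ∈ V, ∀ w ∈ W, v * w = w * v) ∧ V ≤ Cfsg.pCore p G) ∧ ¬ IsSimpleGroup G := by
  haveI : Fact p.Prime := ⟨hp⟩
  have hord : ∀ g ∈ gens K, orderOf g = p := fun g hg => by rw [← Nat.card_zpowers]; exact hK _ hg.2
  have hgen : ∀ X ∈ K, ∀ x ∈ X, x ≠ 1 → Subgroup.zpowers x = X := fun X hX x hx hx1 => by
    refine Subgroup.eq_of_le_of_card_ge (Subgroup.zpowers_le.mpr hx) ?_
    rw [hK X hX, Nat.card_zpowers]
    refine (orderOf_eq_prime ?_ hx1).ge
    have h1 : (⟨x, hx⟩ : X) ^ Nat.card X = 1 := pow_card_eq_one'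
    rw [hK X hX] at h1
    exact congrArg Subtype.val h1
  have hpick : ∀ X ∈ K, ∃ x ∈ X, x ≠ 1 := fun X hX => by
    haveI : Nontrivial X := Finite.one_lt_card_iff_nontrivial.mp (by rw [hK X hX]; exact hp.one_lt)
    obtain ⟨⟨x, hx⟩, hne⟩ := exists_ne (1 : X)
    exact ⟨x, hx, fun e => hne (Subtype.ext e)⟩
  have hcomm : ∀ a b : G, Commute a b → ∀ x ∈ Subgroup.zpowers a, ∀ y ∈ Subgroup.zpowers b, x * y = y * x := by
    rintro a b h x ⟨i, rfl⟩ y ⟨j, rfl⟩
    exact (h.zpow_zpow i j).eq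
  have hne' : ∀ a ∈ gens K, ∀ b ∈ gens K, a ∉ Subgroup.zpowers b → Subgroup.zpowers a ≠ Subgroup.zpowers b :=
    fun a _ b _ h e => h (e ▸ Subgroup.mem_zpowers a)
  have hrad : ∃ g ∈ gens K, ∀ w ∈ gens K, Commute g w := by
    by_contra hno
    push Not at hno
    have hgood : Good K p := by
      refine ⟨hp, hord, fun g hg x => ?_, fun a ha' b hb' hab hne i => ?_, fun a ha' b hb' hab hne w hw => ?_, hno⟩
      · refine ⟨fun e => hg.1 (by simpa using e), ?_⟩
        have := hKc _ hg.2 x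
        rwa [MonoidHom.map_zpowers] at this
      · have h1 : a * b ^ i ≠ 1 := fun e => hne (by
          rw [eq_inv_of_mul_eq_one_left e]; exact inv_mem (Subgroup.pow_mem _ (Subgroup.mem_zpowers b) i))
        refine ⟨h1, ha _ ha'.2 _ hb'.2 (hne' a ha' b hb' hne) (hcomm a b hab) _ (Subgroup.zpowers_le.mpr ?_) ?_⟩
        · exact Subgroup.mul_mem_sup (Subgroup.mem_zpowers a) (Subgroup.pow_mem _ (Subgroup.mem_zpowers b) i)
        · rw [Nat.card_zpowers]
          refine orderOf_eq_prime ?_ h1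
          rw [(hab.pow_right i).mul_pow, ← hord a ha', pow_orderOf_eq_one, hord a ha', ← pow_mul, mul_comm, pow_mul,
            ← hord b hb', pow_orderOf_eq_one, one_pow, one_mul]
      · obtain ⟨⟨g, hg⟩, hg1⟩ := Subgroup.ne_bot_iff_exists_ne_one.mp
          (hb _ ha'.2 _ hb'.2 (hne' a ha' b hb' hne) (hcomm a b hab) _ hw.2)
        have hgw : Commute w g :=
          Subgroup.mem_centralizer_iff.mp hg.2 w (Subgroup.mem_zpowers w)
        have hgl : g ∈ Subgroup.zpowers a ⊔ Subgroup.zpowers b := hg.1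
        obtain ⟨i, j, rfl⟩ : ∃ i j : ℕ, g = a ^ i * b ^ j := by
          rw [Subgroup.zpowers_eq_closure, Subgroup.zpowers_eq_closure, ← Subgroup.closure_union,
            ← Subgroup.mem_toSubmonoid, Subgroup.closure_toSubmonoid_of_finite] at hgl
          refine Submonoid.closure_induction (motive := fun g _ => ∃ i j : ℕ, g = a ^ i * b ^ j) ?_ ⟨0, 0, by simp⟩ ?_ hgl
          · rintro x (rfl | rfl)
            · exact ⟨1, 0, by simp⟩
            · exact ⟨0, 1, by simp⟩
          · rintro x y - - ⟨i, j, rfl⟩ ⟨k, l, rfl⟩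
            exact ⟨i + k, j + l, by
              rw [pow_add, pow_add, mul_assoc, ← mul_assoc (b ^ j), (hab.pow_pow k j).eq.symm]; group⟩
        have hpa : a ^ p = 1 := by rw [← hord a ha', pow_orderOf_eq_one]
        have hpb : b ^ p = 1 := by rw [← hord b hb', pow_orderOf_eq_one]
        by_cases hi : p ∣ i
        · left
          obtain ⟨c, rfl⟩ := hi
          rw [pow_mul, hpa, one_pow, one_mul] at hgw
          refine comm_of_pow hp hpb (fun ⟨d, hd⟩ => hg1 (Subtype.ext ?_)) hgw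
          show a ^ (p * c) * b ^ j = 1
          rw [hd, pow_mul, pow_mul, hpa, hpb, one_pow, one_pow, one_mul]
        · right
          obtain ⟨m, hm⟩ := exists_pow_eq_self_of_coprime (x := a) (n := i)
            (by rw [hord a ha']; exact (hp.coprime_iff_not_dvd.mpr hi).symm)
          refine ⟨j * m, ?_⟩
          have := hgw.pow_right m
          rwa [(hab.pow_pow i j).mul_pow, hm, ← pow_mul] at this
    obtain ⟨X, hX, Y, hY, hXY, hc⟩ := hex
    obtain ⟨x, hx, hx1⟩ := hpick X hX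
    obtain ⟨y, hy, hy1⟩ := hpick Y hY
    refine hgood.absurd (z := y) (x₀ := x) ⟨hy1, by rw [hgen Y hY y hy hy1]; exact hY⟩
      ⟨hx1, by rw [hgen X hX x hx hx1]; exact hX⟩ (hc x hx y hy) fun h => hXY ?_
    rw [← hgen X hX x hx hx1]
    exact hgen Y hY x (Subgroup.zpowers_le.mpr hy h) hx1
  obtain ⟨g, hg, hall⟩ := hrad
  let S : Set G := {v | v ∈ gens K ∧ ∀ w ∈ gens K, Commute v w}
  have hN : (Subgroup.closure S).Normal := by
    refine ⟨fun n hn x => ?_⟩
    induction hn using Subgroup.closure_induction with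
    | mem v hv =>
        refine Subgroup.subset_closure ⟨⟨fun e => hv.1.1 (by simpa using e), ?_⟩, fun w hw => ?_⟩
        · have := hKc _ hv.1.2 x
          rwa [MonoidHom.map_zpowers] at this
        · have hw' : x⁻¹ * w * x ∈ gens K := ⟨fun e => hw.1 (by
              rw [show w = x * (x⁻¹ * w * x) * x⁻¹ by group, e, mul_one, mul_inv_cancel]), by
            have := hKc _ hw.2 x⁻¹
            rw [MonoidHom.map_zpowers] at this
            simpa using this⟩
          have := (hv.2 _ hw').map (MulAut.conj x).toMonoidHom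
          simpa [mul_assoc] using this
    | one => simp
    | mul a b _ _ iha ihb => rw [← conj_mul]; exact mul_mem iha ihb
    | inv a _ iha => rw [← conj_inv]; exact inv_mem iha
  haveI hcS : IsMulCommutative (Subgroup.closure S) :=
    Subgroup.isMulCommutative_closure fun a ha b hb => (ha.2 b hb.1).eq
  have hpN : IsPGroup p (Subgroup.closure S) := fun ⟨v, hv⟩ => ⟨1, Subtype.ext (by
    show v ^ p ^ 1 = 1
    rw [pow_one]
    induction hv using Subgroup.closure_induction with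
    | mem v hv => rw [← hord v hv.1, pow_orderOf_eq_one]
    | one => exact one_pow _
    | mul a b ha hb iha ihb =>
        have : Commute a b := congrArg Subtype.val (hcS.is_comm.comm ⟨a, ha⟩ ⟨b, hb⟩)
        rw [this.mul_pow, iha, ihb, one_mul]
    | inv a _ iha => rw [inv_pow, iha, inv_one])⟩
  have hgS : g ∈ Subgroup.closure S := Subgroup.subset_closure ⟨hg, hall⟩
  refine ⟨⟨Subgroup.zpowers g, hg.2, fun W hW v hv w hw => ?_, ?_⟩, fun hs => ?_⟩
  · by_cases hw1 : w = 1
    · rw [hw1, mul_one, one_mul]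
    · exact (comm_of_mem hv (hall w ⟨hw1, by rw [hgen W hW w hw hw1]; exact hW⟩).symm).symm.eq
  · exact (Subgroup.zpowers_le.mpr hgS).trans (le_sSup (s := {N : Subgroup G | N.Normal ∧ IsPGroup p N}) ⟨hN, hpN⟩)
  · haveI := hs
    obtain ⟨X, hX, Y, hY, hXY, -⟩ := hex
    rcases hN.eq_bot_or_eq_top with h | h
    · exact hg.1 (by rwa [h, Subgroup.mem_bot] at hgS)
    · have hc : ∀ a b : G, a * b = b * a := fun a b =>
        congrArg Subtype.val (hcS.is_comm.comm ⟨a, h ▸ Subgroup.mem_top a⟩ ⟨b, h ▸ Subgroup.mem_top b⟩)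
      have hnor : ∀ Z : Subgroup G, Z.Normal := fun Z => ⟨fun n hn x => by rwa [hc x n, mul_inv_cancel_right]⟩
      have htop : ∀ Z ∈ K, Z = ⊤ := fun Z hZ => (hnor Z).eq_bot_or_eq_top.resolve_left fun e => by
        obtain ⟨z, hz, hz1⟩ := hpick Z hZ
        exact hz1 (by rwa [e, Subgroup.mem_bot] at hz)
      exact hXY ((htop X hX).trans (htop Y hY).symm)

end Cfsg.Agent.S3196
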