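import Cfsg.Statements.S3200
import Cfsg.Agent.Lib.Recog.PRegularClass
import Cfsg.Agent.Lib.Grp.Hall

set_option autoImplicit false
open Cfsg

namespace Cfsg.Agent.S3200

open scoped Pointwise
open Cfsg.Agent.PRegularClass Cfsg.Agent.Grp

universe u

/-- An abelian subgroup of odd order and 2-power index gives a Sylow 2-subgroup with abelian complement. -/
theorem split {X : Type u} [Group X] [Finite X] (D : Subgroup X) (hD : IsMulCommutative ↥D)
    (hodd : ¬ 2 ∣ Nat.card D) (h : ∃ k, D.index = 2 ^ k) :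
    ∃ (P : Sylow 2 X) (D : Subgroup X), IsMulCommutative ↥D ∧ Subgroup.IsComplement' (P : Subgroup X) D := by
  obtain ⟨k, hk⟩ := h
  obtain ⟨P⟩ : Nonempty (Sylow 2 X) := inferInstance
  refine ⟨P, D, hD, Subgroup.isComplement'_of_coprime ?_ ?_⟩
  · rw [P.card_eq_multiplicity, ← D.card_mul_index, hk,
      Nat.factorization_mul Nat.card_pos.ne' (pow_ne_zero _ two_ne_zero), Finsupp.add_apply,
      Nat.factorization_eq_zero_of_not_dvd hodd, Nat.Prime.factorization_pow Nat.prime_two,
      Finsupp.single_eq_same, zero_add, Nat.mul_comm]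
  · obtain ⟨i, hi⟩ := IsPGroup.iff_card.mp P.2
    rw [hi]
    exact Nat.Coprime.pow_left _ ((Nat.prime_two.coprime_iff_not_dvd).mpr hodd)

/-- A finite group with an abelian 2-complement is solvable, and subgroups and quotients inherit this. -/
theorem result {H : Type*} [Group H] [Finite H] (S : Sylow 2 H) (C : Subgroup H)
    (hC : IsMulCommutative ↥C) (hSC : Subgroup.IsComplement' (S : Subgroup H) C) :
    Group.IsSolvable H ∧
    (∀ L : Subgroup H, ∃ (P : Sylow 2 ↥L) (D : Subgroup ↥L),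
      IsMulCommutative ↥D ∧ Subgroup.IsComplement' (P : Subgroup ↥L) D) ∧
    (∀ (N : Subgroup H) [N.Normal], ∃ (P : Sylow 2 (H ⧸ N)) (D : Subgroup (H ⧸ N)),
      IsMulCommutative ↥D ∧ Subgroup.IsComplement' (P : Subgroup (H ⧸ N)) D) := by
  classical
  have hc : ∀ a ∈ C, ∀ b ∈ C, a * b = b * a := fun a ha b hb =>
    congrArg Subtype.val (hC.is_comm.comm ⟨a, ha⟩ ⟨b, hb⟩)
  obtain ⟨k, hk⟩ := IsPGroup.iff_card.mp S.2
  have hmul := hSC.card_mul
  have hidx : C.index = 2 ^ k := by
    apply Nat.eq_of_mul_eq_mul_left (Nat.card_pos (α := C))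
    rw [C.card_mul_index, ← hk, Nat.mul_comm, hmul]
  have hodd : ¬ 2 ∣ Nat.card C := by
    intro h
    apply S.not_dvd_index
    have : (S : Subgroup H).index = Nat.card C := by
      apply Nat.eq_of_mul_eq_mul_left (Nat.card_pos (α := (S : Subgroup H)))
      rw [(S : Subgroup H).card_mul_index, hmul]
    rwa [this]
  haveI hsol := solvable_of_abelian_complement Nat.prime_two (Nat.card H) H rfl C hc ⟨k, hidx⟩
  refine ⟨hsol, fun L => ?_, ?_⟩
  · set n := Nat.card L
    have hsplit : n = ordCompl[2] n * 2 ^ n.factorization 2 :=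
      (Nat.ordProj_mul_ordCompl_eq_self n 2).symm.trans (Nat.mul_comm _ _)
    have hco : (ordCompl[2] n).Coprime 2 :=
      ((Nat.prime_two.coprime_iff_not_dvd).mpr (Nat.not_dvd_ordCompl Nat.prime_two Nat.card_pos.ne')).symm
    obtain ⟨D, hD⟩ := exists_hall (G := L) hsplit (hco.pow_right _)
    let D' := D.map L.subtype
    have hD' : Nat.card D' = ordCompl[2] n := by
      rw [← hD]; exact (Nat.card_congr (D.equivMapOfInjective _ L.subtype_injective).toEquiv).symm
    obtain ⟨g, hg⟩ := exists_conj_le_hall (G := H) (hidx ▸ C.card_mul_index.symm)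
      (((Nat.prime_two.coprime_iff_not_dvd).mpr hodd).symm.pow_right _) rfl (K := D')
      (hD' ▸ hco.pow_right _)
    refine split D ⟨⟨fun a b => ?_⟩⟩ (hD ▸ Nat.not_dvd_ordCompl Nat.prime_two Nat.card_pos.ne')
      ⟨n.factorization 2, ?_⟩
    · obtain ⟨x, hx, hxe⟩ := hg (Subgroup.mem_map_of_mem L.subtype a.2)
      obtain ⟨y, hy, hye⟩ := hg (Subgroup.mem_map_of_mem L.subtype b.2)
      apply Subtype.ext
      apply L.subtype_injective
      show L.subtype ((a : L) * b) = L.subtype ((b : L) * a)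
      rw [map_mul, map_mul, ← hxe, ← hye]
      show MulAut.conj g x * MulAut.conj g y = MulAut.conj g y * MulAut.conj g x
      rw [← map_mul, ← map_mul, hc x hx y hy]
    · apply Nat.eq_of_mul_eq_mul_left (Nat.card_pos (α := D))
      rw [D.card_mul_index, hD, ← hsplit]
  · intro N _
    refine split (C.map (QuotientGroup.mk' N)) ⟨⟨fun a b => ?_⟩⟩
      (fun h => hodd (h.trans (C.card_map_dvd _))) ?_
    · obtain ⟨x, hx, hxe⟩ := a.2
      obtain ⟨y, hy, hye⟩ := b.2
      apply Subtype.ext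
      show (a : H ⧸ N) * b = b * a
      rw [← hxe, ← hye, ← map_mul, ← map_mul, hc x hx y hy]
    · obtain ⟨i, -, hi⟩ := (Nat.dvd_prime_pow Nat.prime_two).mp
        (hidx ▸ C.index_map_dvd (QuotientGroup.mk'_surjective N))
      exact ⟨i, hi⟩

end Cfsg.Agent.S3200
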