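import Cfsg.Statements.S3201
import Cfsg.Agent.Lib.Invol.OneInvol
-- import your own Cfsg.Agent.* helpers here

set_option autoImplicit false
open Cfsg

namespace Cfsg.Agent.S3201

section Shape

variable {R : Type*} [Group R] [Finite R] {α : R}

theorem eq_invol (huniq : ∀ u v : R, orderOf u = 2 → orderOf v = 2 → u = v) (h4 : 4 ∣ orderOf α)
    {x : R} (hx : x * x = 1) (hx1 : x ≠ 1) : x = α ^ (orderOf α / 2) := by
  haveI : Fact (Nat.Prime 2) := ⟨Nat.prime_two⟩
  refine huniq _ _ (orderOf_eq_prime (by rw [pow_two, hx]) hx1) ?_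
  obtain ⟨k, hk⟩ := h4
  have hpos := orderOf_pos α
  rw [orderOf_pow, Nat.gcd_eq_right (Nat.div_dvd_of_dvd ⟨2 * k, by omega⟩), hk]
  rw [show 4 * k / 2 = 2 * k by omega]
  exact Nat.div_eq_of_eq_mul_left (by omega) (by omega)

/-- The structure of a generating pair of a quaternion group. -/
theorem pair_rel (hR : IsPGroup 2 R) (huniq : ∀ u v : R, orderOf u = 2 → orderOf v = 2 → u = v) (h4 : 4 ∣ orderOf α)
    (hidx : (Subgroup.zpowers α).index = 2) (hinv : ∀ x ∉ Subgroup.zpowers α, x * α * x⁻¹ = α⁻¹)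
    {u v : R} (hgen : Subgroup.closure ({u, v} : Set R) ⊔ Subgroup.center R = ⊤)
    (hc : v * u * v⁻¹ * u ∈ Subgroup.center R) :
    v * u * v⁻¹ = u⁻¹ ∧ orderOf u = orderOf α ∧ v * v = u ^ (orderOf u / 2) := by
  haveI : Fact (Nat.Prime 2) := ⟨Nat.prime_two⟩
  set n := orderOf α with hn
  have hconj : ∀ x ∉ Subgroup.zpowers α, ∀ w ∈ Subgroup.zpowers α, x * w * x⁻¹ = w⁻¹ := by
    intro x hx w hw
    obtain ⟨k, rfl⟩ := Subgroup.mem_zpowers_iff.mp hw
    rw [← conj_zpow, hinv x hx, inv_zpow]
  obtain ⟨ξ, hξ⟩ : ∃ ξ : R, ξ ∉ Subgroup.zpowers α := by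
    by_contra h
    push Not at h
    rw [show Subgroup.zpowers α = ⊤ from eq_top_iff.mpr fun g _ => h g, Subgroup.index_top] at hidx
    omega
  have hsqo : ∀ x ∉ Subgroup.zpowers α, x * x = α ^ (n / 2) := by
    intro x hx
    have hm : x * x ∈ Subgroup.zpowers α := (Subgroup.mul_mem_iff_of_index_two hidx).2 Iff.rfl
    have h1 : x * (x * x) * x⁻¹ = (x * x)⁻¹ := hconj x hx _ hm
    rw [show x * (x * x) * x⁻¹ = x * x by group] at h1
    refine eq_invol huniq h4 (by rw [← mul_eq_one_iff_eq_inv] at h1; exact h1) fun h => hx ?_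
    by_cases hx1 : x = 1
    · rw [hx1]; exact one_mem _
    · rw [eq_invol huniq h4 h hx1]; exact Subgroup.pow_mem _ (Subgroup.mem_zpowers α) _
  have hn4 : 4 ≤ n := Nat.le_of_dvd (orderOf_pos α) h4
  have hcen : ∀ x ∈ Subgroup.center R, x * x = 1 := by
    intro x hx
    have hxin : x ∈ Subgroup.zpowers α := by
      by_contra hxo
      have h1 := hinv x hxo
      rw [show x * α * x⁻¹ = α by rw [← Subgroup.mem_center_iff.mp hx α, mul_inv_cancel_right],
        ← mul_eq_one_iff_eq_inv] at h1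
      have := orderOf_dvd_of_pow_eq_one (show α ^ 2 = 1 by rw [pow_two, h1])
      exact absurd (Nat.le_of_dvd two_pos this) (by omega)
    have h1 := hconj ξ hξ x hxin
    rw [show ξ * x * ξ⁻¹ = x by rw [Subgroup.mem_center_iff.mp hx ξ, mul_inv_cancel_right],
      ← mul_eq_one_iff_eq_inv] at h1
    exact h1
  have hzc : α ^ (n / 2) ∈ Subgroup.center R := by
    refine Subgroup.mem_center_iff.mpr fun g => ?_
    by_cases hg : g ∈ Subgroup.zpowers α
    · obtain ⟨k, rfl⟩ := Subgroup.mem_zpowers_iff.mp hg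
      exact (((Commute.refl α).zpow_left k).pow_right (n / 2)).eq
    · rw [← hsqo g hg, mul_assoc]
  -- no proper subgroup contains `u` and `v`
  have hfull : ∀ T : Subgroup R, u ∈ T → v ∈ T → α ^ (n / 2) ∈ T → T = ⊤ := by
    intro T hu hv hz
    refine eq_top_iff.mpr (hgen.ge.trans (sup_le ((Subgroup.closure_le _).mpr ?_) fun x hx => ?_))
    · rintro x (rfl | rfl) <;> assumption
    · by_cases hx1 : x = 1
      · rw [hx1]; exact one_mem _
      · rw [eq_invol huniq h4 (hcen x hx) hx1]; exact hz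
  have hncomm : u * v ≠ v * u := by
    intro h
    have htop : Subgroup.centralizer ({u} : Set R) = ⊤ := hfull _ (Subgroup.mem_centralizer_singleton_iff.mpr rfl)
      (Subgroup.mem_centralizer_singleton_iff.mpr h.symm)
      (Subgroup.mem_centralizer_singleton_iff.mpr (Subgroup.mem_center_iff.mp hzc u).symm)
    have huc : u ∈ Subgroup.center R := Subgroup.mem_center_iff.mpr fun g =>
      Subgroup.mem_centralizer_singleton_iff.mp (htop ▸ Subgroup.mem_top g)
    have htop' : Subgroup.centralizer ({v} : Set R) = ⊤ := hfull _ (Subgroup.mem_centralizer_singleton_iff.mpr h)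
      (Subgroup.mem_centralizer_singleton_iff.mpr rfl)
      (Subgroup.mem_centralizer_singleton_iff.mpr (Subgroup.mem_center_iff.mp hzc v).symm)
    have hvc : v ∈ Subgroup.center R := Subgroup.mem_center_iff.mpr fun g =>
      Subgroup.mem_centralizer_singleton_iff.mp (htop' ▸ Subgroup.mem_top g)
    have hall := hfull _ huc hvc hzc
    have := hinv ξ hξ
    rw [show ξ * α * ξ⁻¹ = α by
      rw [Subgroup.mem_center_iff.mp (hall ▸ Subgroup.mem_top α : α ∈ Subgroup.center R) ξ, mul_inv_cancel_right],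
      ← mul_eq_one_iff_eq_inv] at this
    exact absurd (Nat.le_of_dvd two_pos (orderOf_dvd_of_pow_eq_one (show α ^ 2 = 1 by rw [pow_two, this])))
      (by omega)
  -- a subgroup `zpowers w` normalized by `x`
  have hdih : ∀ w x : R, x ∉ Subgroup.zpowers α → w ∈ Subgroup.zpowers α → w * x ≠ x * w →
      u ∈ Subgroup.closure {w, x} → v ∈ Subgroup.closure {w, x} → orderOf w = n := by
    intro w x hx hw hwx hu hv
    have hw1 : w * w ≠ 1 := fun h => hwx (by
      by_cases h1 : w = 1
      · rw [h1, one_mul, mul_one]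
      · rw [eq_invol huniq h4 h h1]
        exact (Subgroup.mem_center_iff.mp hzc x).symm)
    have hzw : α ^ (n / 2) ∈ Subgroup.zpowers w := by
      have hev : Even (orderOf w) := by
        obtain ⟨k, hk⟩ := IsPGroup.iff_orderOf.mp hR w
        rcases k with _ | k
        · refine absurd ?_ hw1
          rw [pow_zero, orderOf_eq_one_iff] at hk
          rw [hk, one_mul]
        · exact ⟨2 ^ k, by rw [hk, pow_succ]; ring⟩
      obtain ⟨k, hk⟩ := hev
      have h2 : w ^ k * w ^ k = 1 := by rw [← pow_add, ← hk, pow_orderOf_eq_one]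
      have h3 : w ^ k ≠ 1 := fun h => by
        have := Nat.le_of_dvd (by have := orderOf_pos w; omega) (orderOf_dvd_of_pow_eq_one h)
        have := orderOf_pos w
        omega
      rw [← eq_invol huniq h4 h2 h3]
      exact Subgroup.pow_mem _ (Subgroup.mem_zpowers w) _
    let T : Subgroup R :=
      { carrier := {g | g ∈ Subgroup.zpowers w ∨ x⁻¹ * g ∈ Subgroup.zpowers w}
        one_mem' := Or.inl (one_mem _)
        mul_mem' := by
          have hmove : ∀ g ∈ Subgroup.zpowers w, x⁻¹ * g * x ∈ Subgroup.zpowers w := fun g hg => by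
            have hgα : g ∈ Subgroup.zpowers α := (Subgroup.zpowers_le.mpr hw) hg
            have := hconj x⁻¹ (fun h => hx (by simpa using inv_mem h)) g hgα
            rw [inv_inv] at this
            rw [this]; exact inv_mem hg
          have hxx : x * x ∈ Subgroup.zpowers w := by rw [hsqo x hx]; exact hzw
          rintro g h (hg | hg) (hh | hh)
          · exact Or.inl (mul_mem hg hh)
          · refine Or.inr ?_
            rw [show x⁻¹ * (g * h) = (x⁻¹ * g * x) * (x⁻¹ * h) by group]
            exact mul_mem (hmove g hg) hh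
          · refine Or.inr ?_
            rw [show x⁻¹ * (g * h) = (x⁻¹ * g) * h by group]
            exact mul_mem hg hh
          · refine Or.inl ?_
            rw [show g * h = (x * x) * (x⁻¹ * (x⁻¹ * g) * x) * (x⁻¹ * h) by group]
            exact mul_mem (mul_mem hxx (hmove _ hg)) hh
        inv_mem' := by
          rintro g (hg | hg)
          · exact Or.inl (inv_mem hg)
          · refine Or.inr ?_
            have hxx : x * x ∈ Subgroup.zpowers w := by rw [hsqo x hx]; exact hzw
            have hgα := (Subgroup.zpowers_le.mpr hw) (inv_mem hg)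
            have := hconj x⁻¹ (fun h => hx (by simpa using inv_mem h)) _ hgα
            rw [inv_inv] at this
            rw [show x⁻¹ * g⁻¹ = (x⁻¹ * (x⁻¹ * g)⁻¹ * x) * (x * x)⁻¹ by group, this, inv_inv]
            exact mul_mem hg (inv_mem hxx) }
    have hle : Subgroup.closure ({w, x} : Set R) ≤ T := by
      refine (Subgroup.closure_le _).mpr ?_
      rintro g (rfl | rfl)
      · exact Or.inl (Subgroup.mem_zpowers _)
      · exact Or.inr (by rw [inv_mul_cancel]; exact one_mem _)
    have hT := hfull T (hle hu) (hle hv) (Or.inl hzw)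
    refine le_antisymm ?_ ?_
    · obtain ⟨k, rfl⟩ := Subgroup.mem_zpowers_iff.mp hw
      exact Nat.le_of_dvd (orderOf_pos α) (orderOf_dvd_of_mem_zpowers (Subgroup.zpow_mem _ (Subgroup.mem_zpowers α) k))
    · have hα : α ∈ T := hT ▸ Subgroup.mem_top α
      rcases hα with h | h
      · exact Nat.le_of_dvd (orderOf_pos w) (orderOf_dvd_of_mem_zpowers h)
      · refine absurd ?_ hx
        have h1 := (Subgroup.zpowers_le.mpr hw) h
        have h2 := mul_mem (Subgroup.mem_zpowers α) (inv_mem h1)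
        rwa [mul_inv_rev, inv_inv, mul_inv_cancel_left] at h2
  have hun : ∀ {g : R}, g * g = 1 → g ∈ Subgroup.center R := fun {g} h => by
    by_cases h1 : g = 1
    · rw [h1]; exact one_mem _
    · rw [eq_invol huniq h4 h h1]; exact hzc
  by_cases hu : u ∈ Subgroup.zpowers α
  · have hv : v ∉ Subgroup.zpowers α := fun hv => by
      obtain ⟨i, rfl⟩ := Subgroup.mem_zpowers_iff.mp hu
      obtain ⟨j, rfl⟩ := Subgroup.mem_zpowers_iff.mp hv
      exact hncomm (Commute.zpow_zpow (Commute.refl α) i j).eq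
    have hord : orderOf u = n := hdih u v hv hu hncomm (Subgroup.subset_closure (Or.inl rfl))
      (Subgroup.subset_closure (Or.inr rfl))
    refine ⟨hconj v hv u hu, hord, ?_⟩
    rw [hsqo v hv, hord]
    symm
    refine eq_invol huniq h4 ?_ fun h => ?_
    · rw [← pow_add, show n / 2 + n / 2 = n by omega, ← hord, pow_orderOf_eq_one]
    · have := Nat.le_of_dvd (by omega) (orderOf_dvd_of_pow_eq_one h); omega
  · -- `u` lies outside the cyclic subgroup: the group has order eight
    have huu := hsqo u hu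
    have hc1 : v * u * v⁻¹ * u⁻¹ ∈ Subgroup.center R := by
      rw [show v * u * v⁻¹ * u⁻¹ = (v * u * v⁻¹ * u) * (u * u)⁻¹ by group, huu]
      exact Subgroup.mul_mem _ hc (Subgroup.inv_mem _ hzc)
    obtain ⟨w, hw, hwc, hwu, hwv⟩ : ∃ w ∈ Subgroup.zpowers α, w * u * w⁻¹ * u⁻¹ ∈ Subgroup.center R ∧
        w * u ≠ u * w ∧ v ∈ Subgroup.closure {w, u} := by
      by_cases hv : v ∈ Subgroup.zpowers α
      · exact ⟨v, hv, hc1, fun h => hncomm h.symm, Subgroup.subset_closure (Or.inl rfl)⟩
      · refine ⟨u * v, (Subgroup.mul_mem_iff_of_index_two hidx).2 (iff_of_false hu hv), ?_, fun h => hncomm ?_, ?_⟩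
        · rw [show u * v * u * (u * v)⁻¹ * u⁻¹ = u * (v * u * v⁻¹ * u⁻¹) * u⁻¹ by group,
            Subgroup.mem_center_iff.mp hc1 u, mul_inv_cancel_right]
          exact hc1
        · exact (mul_left_cancel (a := u) (show u * (v * u) = u * (u * v) by simpa [mul_assoc] using h)).symm
        · have h1 : u * v ∈ Subgroup.closure ({u * v, u} : Set R) := Subgroup.subset_closure (Or.inl rfl)
          have h2 : u ∈ Subgroup.closure ({u * v, u} : Set R) := Subgroup.subset_closure (Or.inr rfl)
          simpa using mul_mem (inv_mem h2) h1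
    have hw2 : w * w ∈ Subgroup.center R := by
      have h1 := hconj u hu w⁻¹ (inv_mem hw)
      rw [inv_inv] at h1
      rwa [show w * w = w * (u * w⁻¹ * u⁻¹) by rw [h1], show w * (u * w⁻¹ * u⁻¹) = w * u * w⁻¹ * u⁻¹ by group]
    have hwn : orderOf w = n := hdih w u hu hw hwu (Subgroup.subset_closure (Or.inr rfl)) hwv
    have hn4' : n = 4 := by
      have h1 : w ^ 4 = 1 := by
        rw [show (4 : ℕ) = 2 * 2 from rfl, pow_mul, pow_two, pow_two, hcen _ hw2]
      have := Nat.le_of_dvd (by norm_num) (orderOf_dvd_of_pow_eq_one h1)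
      omega
    have hord : orderOf u = 4 := by
      refine orderOf_eq_prime_pow (p := 2) (n := 1) ?_ ?_
      · rw [pow_one, pow_two, huu, hn4']
        intro h
        have := Nat.le_of_dvd two_pos (orderOf_dvd_of_pow_eq_one h)
        omega
      · rw [show (2 : ℕ) ^ (1 + 1) = 2 * 2 by norm_num, pow_mul, pow_two u, pow_two, huu, hcen _ hzc]
    have hz : α ^ (n / 2) = u ^ (orderOf u / 2) := by rw [hord, ← huu, pow_two]
    have hvc : ∀ g : R, g * g = 1 → g * u = u * g := fun g h => (Subgroup.mem_center_iff.mp (hun h) u).symm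
    refine ⟨?_, by rw [hord, hn4'], ?_⟩
    · have hd1 : v * u * v⁻¹ * u⁻¹ ≠ 1 := fun h => hncomm (mul_inv_eq_iff_eq_mul.mp (mul_inv_eq_one.mp h)).symm
      have hd2 := eq_invol huniq h4 (hcen _ hc1) hd1
      have h3 : v * u * v⁻¹ = u * u * u := by
        rw [huu, ← hd2, inv_mul_cancel_right]
      rw [h3]
      refine eq_inv_of_mul_eq_one_left ?_
      rw [show u * u * u * u = (u * u) * (u * u) by group, huu, hcen _ hzc]
    · rw [← hz]
      by_cases hv : v ∈ Subgroup.zpowers α
      · refine eq_invol huniq h4 ?_ fun h => hncomm (hvc v h).symm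
        have h4' : v ^ 4 = 1 := by
          obtain ⟨k, rfl⟩ := Subgroup.mem_zpowers_iff.mp hv
          rw [← zpow_natCast, ← zpow_mul, mul_comm, zpow_mul, zpow_natCast, ← hn4', pow_orderOf_eq_one, one_zpow]
        rw [← h4']; simp [pow_succ, mul_assoc]
      · exact hsqo v hv

end Shape

/-- Let S be a finite 2-group whose centre Z(S) has n ≥ 2 distinct maximal subgroups C₁, …, Cₙ with trivial intersection such that each quotient S/Cᵢ is a non-abelian group with exactly one involution (a generalized quaternion group). Then S is the internal direct product of an elementary abelian subgroup and a non-abelian subgroup with exactly one involution. -/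
theorem result {S : Type*} [Group S] [Finite S]
    (hS : IsPGroup 2 S) (n : ℕ) (hn : 2 ≤ n) (C : Fin n → Subgroup ↥(Subgroup.center S))
    (hCmax : ∀ i, IsCoatom (C i)) (hCinj : Function.Injective C) (hCint : ⨅ i, C i = ⊥)
    (hCq : ∀ i, ∃ (_ : ((C i).map (Subgroup.center S).subtype).Normal),
      ¬ IsMulCommutative (S ⧸ (C i).map (Subgroup.center S).subtype) ∧
      ∃! x : S ⧸ (C i).map (Subgroup.center S).subtype, orderOf x = 2) :
    ∃ E Q : Subgroup S, Cfsg.IsInternalDirectProduct E Q ⊤ ∧ Cfsg.IsElementaryAbelian 2 E ∧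
      ¬ IsMulCommutative ↥Q ∧ ∃! x : ↥Q, orderOf x = 2 := by
  haveI : Fact (Nat.Prime 2) := ⟨Nat.prime_two⟩
  choose hNn hNa hNu using hCq
  let N : Fin n → Subgroup S := fun i => (C i).map (Subgroup.center S).subtype
  haveI : ∀ i, (N i).Normal := hNn
  have hNZ : ∀ i, N i ≤ Subgroup.center S := fun i => Subgroup.map_subtype_le _
  have huniq : ∀ i, ∀ u v : S ⧸ N i, orderOf u = 2 → orderOf v = 2 → u = v := fun i u v hu hv => by
    obtain ⟨x, -, hx⟩ := hNu i
    exact (hx u hu).trans (hx v hv).symm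
  have hshape : ∀ i, ∃ α : S ⧸ N i, 4 ∣ orderOf α ∧ (Subgroup.zpowers α).index = 2 ∧
      ∀ x ∉ Subgroup.zpowers α, x * α * x⁻¹ = α⁻¹ := fun i => by
    rcases Cfsg.Agent.OneInvol.cyclic_or_quatShape (hS.to_quotient (N i)) (huniq i) with hc | h
    · exact absurd (by
        haveI := hc
        exact ⟨⟨fun u v => (IsCyclic.commGroup (α := S ⧸ N i)).mul_comm u v⟩⟩) (hNa i)
    · exact h
  choose α h4 hidx hinv using hshape
  set i0 : Fin n := ⟨0, by omega⟩
  obtain ⟨β, hβ⟩ : ∃ β : S ⧸ N i0, β ∉ Subgroup.zpowers (α i0) := by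
    by_contra h
    push Not at h
    have := hidx i0
    rw [show Subgroup.zpowers (α i0) = ⊤ from eq_top_iff.mpr fun g _ => h g, Subgroup.index_top] at this
    omega
  obtain ⟨a, ha⟩ := QuotientGroup.mk_surjective (α i0)
  obtain ⟨b, hb⟩ := QuotientGroup.mk_surjective β
  have hgen : Subgroup.closure ({a, b} : Set S) ⊔ Subgroup.center S = ⊤ := by
    refine eq_top_iff.mpr fun g _ => ?_
    have key : ∀ u : S, (u : S ⧸ N i0) ∈ Subgroup.zpowers (a : S ⧸ N i0) →
        u ∈ Subgroup.closure ({a, b} : Set S) ⊔ Subgroup.center S := by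
      intro u hu
      obtain ⟨k, hk⟩ := hu
      have h1 : (a ^ k)⁻¹ * u ∈ N i0 := QuotientGroup.eq.mp ((QuotientGroup.mk_zpow _ a k).trans hk)
      have ha' : a ∈ Subgroup.closure ({a, b} : Set S) := Subgroup.subset_closure (Or.inl rfl)
      rw [show u = a ^ k * ((a ^ k)⁻¹ * u) by group]
      exact Subgroup.mul_mem_sup (Subgroup.zpow_mem _ ha' k) (hNZ _ h1)
    by_cases hg : (g : S ⧸ N i0) ∈ Subgroup.zpowers (a : S ⧸ N i0)
    · exact key g hg
    · have h2 : ((b⁻¹ * g : S) : S ⧸ N i0) ∈ Subgroup.zpowers (a : S ⧸ N i0) := by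
        rw [QuotientGroup.mk_mul, QuotientGroup.mk_inv, ha,
          Subgroup.mul_mem_iff_of_index_two (hidx i0), inv_mem_iff, hb]
        rw [ha] at hg
        exact iff_of_false hβ hg
      rw [show g = b * (b⁻¹ * g) by group]
      exact mul_mem (Subgroup.mem_sup_left (Subgroup.subset_closure (Or.inr rfl))) (key _ h2)
  have hd : b * a * b⁻¹ * a ∈ N i0 := by
    refine (QuotientGroup.eq_one_iff _).mp ?_
    rw [QuotientGroup.mk_mul, QuotientGroup.mk_mul, QuotientGroup.mk_mul, QuotientGroup.mk_inv, ha, hb,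
      hinv i0 _ hβ, inv_mul_cancel]
  have hrel : ∀ i, (b : S ⧸ N i) * a * (b : S ⧸ N i)⁻¹ = (a : S ⧸ N i)⁻¹ ∧
      orderOf (a : S ⧸ N i) = orderOf (α i) ∧
      (b : S ⧸ N i) * b = (a : S ⧸ N i) ^ (orderOf (a : S ⧸ N i) / 2) := by
    intro i
    refine pair_rel (hS.to_quotient (N i)) (huniq i) (h4 i) (hidx i) (hinv i) ?_ ?_
    · refine eq_top_iff.mpr fun x _ => ?_
      obtain ⟨g, rfl⟩ := QuotientGroup.mk_surjective x
      have hg : g ∈ Subgroup.closure ({a, b} : Set S) ⊔ Subgroup.center S := hgen ▸ Subgroup.mem_top g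
      have hle : Subgroup.closure ({a, b} : Set S) ⊔ Subgroup.center S ≤
          (Subgroup.closure ({(a : S ⧸ N i), (b : S ⧸ N i)} : Set (S ⧸ N i)) ⊔ Subgroup.center (S ⧸ N i)).comap
            (QuotientGroup.mk' (N i)) := by
        refine sup_le ((Subgroup.closure_le _).mpr ?_) fun z hz => ?_
        · rintro w (rfl | rfl)
          · exact Subgroup.mem_sup_left (Subgroup.subset_closure (Or.inl rfl))
          · exact Subgroup.mem_sup_left (Subgroup.subset_closure (Or.inr rfl))
        · refine Subgroup.mem_sup_right (Subgroup.mem_center_iff.mpr fun y => ?_)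
          obtain ⟨w, rfl⟩ := QuotientGroup.mk_surjective y
          exact congrArg (QuotientGroup.mk' (N i)) (Subgroup.mem_center_iff.mp hz w)
      exact hle hg
    · refine Subgroup.mem_center_iff.mpr fun y => ?_
      obtain ⟨w, rfl⟩ := QuotientGroup.mk_surjective y
      exact congrArg (QuotientGroup.mk' (N i)) (Subgroup.mem_center_iff.mp (hNZ _ hd) w)
  -- all quotients have the same order
  have hZidx : ∀ i, (C i).index = 2 := fun i => by
    have hp := hS.to_subgroup (Subgroup.center S)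
    obtain ⟨m, hm⟩ := IsPGroup.iff_card.mp (hp.to_subgroup (C i))
    obtain ⟨l, hl⟩ := IsPGroup.iff_card.mp hp
    have hlt : m < l := by
      by_contra hle
      push Not at hle
      refine (hCmax i).1 (Subgroup.eq_top_of_le_card _ ?_)
      rw [hl, hm]
      exact Nat.pow_le_pow_right two_pos hle
    obtain ⟨K, hK, hCK⟩ := Sylow.exists_subgroup_card_pow_succ (p := 2) (n := m)
      (hl ▸ pow_dvd_pow 2 hlt) hm
    rcases hCK.lt_or_eq with hlt' | heq
    · have hKt := (hCmax i).2 K hlt'
      rw [hKt, Subgroup.card_top] at hK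
      have h1 := (C i).card_mul_index
      rw [hK, hm, pow_succ] at h1
      exact Nat.eq_of_mul_eq_mul_left (by positivity) h1
    · exfalso
      rw [← heq, hm] at hK
      exact absurd (Nat.pow_right_injective le_rfl hK) (by omega)
  have hord : ∀ i, orderOf (a : S ⧸ N i) = orderOf (a : S ⧸ N i0) := fun i => by
    have hh : ∀ j, 2 * orderOf (a : S ⧸ N j) * (Nat.card (Subgroup.center S)) = 2 * Nat.card S := fun j => by
      rw [(hrel j).2.1, ← Nat.card_zpowers, mul_comm 2, ← hidx j, (Subgroup.zpowers (α j)).card_mul_index]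
      have h1 := (N j).card_eq_card_quotient_mul_card_subgroup
      have h2 : Nat.card (N j) * 2 = Nat.card (Subgroup.center S) := by
        rw [← hZidx j, Subgroup.card_map_of_injective (Subgroup.center S).subtype_injective,
          (C j).card_mul_index]
      rw [← h2, h1, hidx j]; ring
    have h := (hh i).trans (hh i0).symm
    have hpos : 0 < Nat.card (Subgroup.center S) := Nat.card_pos
    exact Nat.eq_of_mul_eq_mul_left two_pos (Nat.eq_of_mul_eq_mul_right hpos h)
  have hint : ∀ x : S, (∀ i, x ∈ N i) → x = 1 := fun x hx => by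
    have hxZ : x ∈ Subgroup.center S := hNZ i0 (hx i0)
    have : (⟨x, hxZ⟩ : Subgroup.center S) ∈ ⨅ i, C i := Subgroup.mem_iInf.mpr fun i => by
      obtain ⟨y, hy, hyx⟩ := hx i
      rwa [show (⟨x, hxZ⟩ : Subgroup.center S) = y from Subtype.ext hyx.symm]
    rw [hCint, Subgroup.mem_bot] at this
    exact congrArg Subtype.val this
  set k := orderOf (a : S ⧸ N i0) with hk
  have hba : b * a * b⁻¹ * a = 1 := hint _ fun i => (QuotientGroup.eq_one_iff _).mp (by
    rw [QuotientGroup.mk_mul, QuotientGroup.mk_mul, QuotientGroup.mk_mul, QuotientGroup.mk_inv, (hrel i).1,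
      inv_mul_cancel])
  have hak : a ^ k = 1 := hint _ fun i => (QuotientGroup.eq_one_iff _).mp (by
    rw [QuotientGroup.mk_pow, ← hord i, pow_orderOf_eq_one])
  have hbb : b * b = a ^ (k / 2) := by
    have := hint ((b * b)⁻¹ * a ^ (k / 2)) fun i => (QuotientGroup.eq_one_iff _).mp (by
      rw [QuotientGroup.mk_mul, QuotientGroup.mk_inv, QuotientGroup.mk_mul, (hrel i).2.2, QuotientGroup.mk_pow,
        hord i, inv_mul_cancel])
    exact inv_mul_eq_one.mp this
  have hba' : b * a * b⁻¹ = a⁻¹ := eq_inv_of_mul_eq_one_left hba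
  have hmove : ∀ j : ℤ, b * a ^ j * b⁻¹ = a ^ (-j) := fun j => by rw [← conj_zpow, hba', inv_zpow, zpow_neg]
  let Q : Subgroup S :=
    { carrier := {g | g ∈ Subgroup.zpowers a ∨ b⁻¹ * g ∈ Subgroup.zpowers a}
      one_mem' := Or.inl (one_mem _)
      mul_mem' := by
        have hm : ∀ g ∈ Subgroup.zpowers a, b⁻¹ * g * b ∈ Subgroup.zpowers a := by
          rintro _ ⟨j, rfl⟩
          refine ⟨-j, ?_⟩
          have h1 := hmove (-j)
          rw [neg_neg] at h1
          show a ^ (-j) = b⁻¹ * a ^ j * b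
          rw [← h1]; group
        have hxx : b * b ∈ Subgroup.zpowers a := by rw [hbb]; exact Subgroup.pow_mem _ (Subgroup.mem_zpowers a) _
        rintro g h (hg | hg) (hh | hh)
        · exact Or.inl (mul_mem hg hh)
        · refine Or.inr ?_
          rw [show b⁻¹ * (g * h) = (b⁻¹ * g * b) * (b⁻¹ * h) by group]
          exact mul_mem (hm g hg) hh
        · refine Or.inr ?_
          rw [show b⁻¹ * (g * h) = (b⁻¹ * g) * h by group]
          exact mul_mem hg hh
        · refine Or.inl ?_
          rw [show g * h = (b * b) * (b⁻¹ * (b⁻¹ * g) * b) * (b⁻¹ * h) by group]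
          exact mul_mem (mul_mem hxx (hm _ hg)) hh
      inv_mem' := by
        rintro g (hg | hg)
        · exact Or.inl (inv_mem hg)
        · refine Or.inr ?_
          obtain ⟨j, hj⟩ := hg
          change a ^ j = b⁻¹ * g at hj
          have h1 : b⁻¹ * g⁻¹ = (b⁻¹ * a ^ (-j) * b) * (b * b)⁻¹ := by
            rw [zpow_neg, hj]; group
          rw [h1, hbb]
          refine mul_mem ⟨j, ?_⟩ (inv_mem (Subgroup.pow_mem _ (Subgroup.mem_zpowers a) _))
          show a ^ j = b⁻¹ * a ^ (-j) * b
          rw [← hmove j]; group }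
  have hinj : Q ⊓ N i0 = ⊥ := by
    refine (Subgroup.eq_bot_iff_forall _).mpr fun x hx => ?_
    rcases hx.1 with h | h
    · obtain ⟨j, rfl⟩ := h
      have h1 : ((a : S ⧸ N i0)) ^ j = 1 := by rw [← QuotientGroup.mk_zpow]; exact (QuotientGroup.eq_one_iff _).mpr hx.2
      have h2 := orderOf_dvd_iff_zpow_eq_one.mpr h1
      obtain ⟨t, ht⟩ := h2
      show a ^ j = 1
      rw [ht, zpow_mul, zpow_natCast, hak, one_zpow]
    · exfalso
      refine hβ ?_
      have h1 : ((b⁻¹ * x : S) : S ⧸ N i0) ∈ Subgroup.zpowers (a : S ⧸ N i0) := by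
        obtain ⟨j, hj⟩ := h
        exact ⟨j, by rw [← hj]; exact (QuotientGroup.mk_zpow _ _ _).symm⟩
      rw [QuotientGroup.mk_mul, (QuotientGroup.eq_one_iff x).mpr hx.2, mul_one, QuotientGroup.mk_inv,
        inv_mem_iff, ha, hb] at h1
      exact h1
  have hsup : N i0 ⊔ Q = ⊤ := by
    refine eq_top_iff.mpr fun g _ => ?_
    have key : ∀ u : S, (u : S ⧸ N i0) ∈ Subgroup.zpowers (a : S ⧸ N i0) → u ∈ N i0 ⊔ Q := by
      intro u hu
      obtain ⟨j, hj⟩ := hu
      have h1 : (a ^ j)⁻¹ * u ∈ N i0 := QuotientGroup.eq.mp ((QuotientGroup.mk_zpow _ a j).trans hj)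
      rw [show u = a ^ j * ((a ^ j)⁻¹ * u) by group]
      exact mul_mem (Subgroup.mem_sup_right (Or.inl ⟨j, rfl⟩)) (Subgroup.mem_sup_left h1)
    by_cases hg : (g : S ⧸ N i0) ∈ Subgroup.zpowers (a : S ⧸ N i0)
    · exact key g hg
    · have h2 : ((b⁻¹ * g : S) : S ⧸ N i0) ∈ Subgroup.zpowers (a : S ⧸ N i0) := by
        rw [QuotientGroup.mk_mul, QuotientGroup.mk_inv, ha,
          Subgroup.mul_mem_iff_of_index_two (hidx i0), inv_mem_iff, hb]
        rw [ha] at hg
        exact iff_of_false hβ hg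
      rw [show g = b * (b⁻¹ * g) by group]
      exact mul_mem (Subgroup.mem_sup_right (Or.inr (by rw [inv_mul_cancel]; exact one_mem _))) (key _ h2)
  let e : Q →* S ⧸ N i0 := (QuotientGroup.mk' (N i0)).comp Q.subtype
  have hei : Function.Injective e := (injective_iff_map_eq_one e).mpr fun x hx => Subtype.ext (by
    have : (x : S) ∈ Q ⊓ N i0 := ⟨x.2, (QuotientGroup.eq_one_iff _).mp hx⟩
    rwa [hinj, Subgroup.mem_bot] at this)
  have hes : Function.Surjective e := fun y => by
    obtain ⟨g, rfl⟩ := QuotientGroup.mk_surjective y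
    obtain ⟨u, hu, v, hv, rfl⟩ := Subgroup.mem_sup_of_normal_left.mp (hsup ▸ Subgroup.mem_top g)
    refine ⟨⟨v, hv⟩, ?_⟩
    show (v : S ⧸ N i0) = ((u * v : S) : S ⧸ N i0)
    rw [QuotientGroup.mk_mul, (QuotientGroup.eq_one_iff u).mpr hu, one_mul]
  let eq' := MulEquiv.ofBijective e ⟨hei, hes⟩
  have hel : ∀ x ∈ N i0, x ^ 2 = 1 := by
    intro x hx
    refine hint _ fun i => ?_
    have h1 : (⟨x, hNZ _ hx⟩ : Subgroup.center S) ^ 2 ∈ C i := by
      haveI : (C i).Normal := Subgroup.normal_of_comm _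
      have := Subgroup.pow_index_mem (C i) (⟨x, hNZ _ hx⟩ : Subgroup.center S)
      rwa [hZidx i] at this
    exact ⟨_, h1, rfl⟩
  refine ⟨N i0, Q, ⟨⟨le_top, le_top, fun x hx y _ => (Subgroup.mem_center_iff.mp (hNZ _ hx) y).symm, ?_, hsup⟩,
    ⟨⟨⟨fun x y => Subtype.ext (Subgroup.mem_center_iff.mp (hNZ _ y.2) x)⟩⟩, fun x hx => hel x hx⟩, ?_, ?_⟩⟩
  · rw [inf_comm]; exact hinj
  · intro h
    refine hNa i0 ⟨⟨fun x y => ?_⟩⟩
    exact eq'.symm.injective (by rw [map_mul, map_mul]; exact h.is_comm.comm _ _)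
  · obtain ⟨x, hx, hxu⟩ := hNu i0
    refine ⟨eq'.symm x, (MulEquiv.orderOf_eq _ _).trans hx, fun y hy => ?_⟩
    rw [← eq'.symm_apply_apply y]
    exact congrArg eq'.symm (hxu _ ((MulEquiv.orderOf_eq _ _).trans hy))

end Cfsg.Agent.S3201
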