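import Cfsg.Statements.S3202
import Cfsg.Agent.Lib.Invol.OneInvol
-- import your own Cfsg.Agent.* helpers here

set_option autoImplicit false
open Cfsg
open scoped commutatorElement

namespace Cfsg.Agent.S3202

/-- Let S be a finite 2-group of 2-rank exactly 2 and D a maximal subgroup of the centre of S such that S/D is a non-abelian group with exactly one involution (a generalized quaternion group). Then S has a nontrivial cyclic characteristic subgroup. -/
theorem result {S : Type*} [Group S]
    [Finite S] (hS : IsPGroup 2 S) (hr2 : Cfsg.PRankLE 2 2 S) (hr1 : ¬ Cfsg.PRankLE 2 1 S)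
    (D : Subgroup ↥(Subgroup.center S)) (hD : IsCoatom D)
    (hq : ∃ (_ : (D.map (Subgroup.center S).subtype).Normal),
      ¬ IsMulCommutative (S ⧸ D.map (Subgroup.center S).subtype) ∧
      ∃! x : S ⧸ D.map (Subgroup.center S).subtype, orderOf x = 2) :
    ∃ C : Subgroup S, C ≠ ⊥ ∧ IsCyclic ↥C ∧ C.Characteristic := by
  obtain ⟨hDn, hna, x0, hx0, huniq⟩ := hq
  set N := D.map (Subgroup.center S).subtype with hN
  have hNZ : N ≤ Subgroup.center S := Subgroup.map_subtype_le _
  have hshape := Cfsg.Agent.OneInvol.cyclic_or_quatShape (hS.to_quotient N)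
    (fun u v hu hv => (huniq u hu).trans (huniq v hv).symm)
  rcases hshape with hc | ⟨α, -, hidx, hinv⟩
  · exact absurd (by
      haveI := hc
      exact ⟨⟨fun u v => (IsCyclic.commGroup (α := S ⧸ N)).mul_comm u v⟩⟩) hna
  obtain ⟨β, -, hβ⟩ : ∃ β : S ⧸ N, β ∈ (⊤ : Subgroup (S ⧸ N)) ∧ β ∉ Subgroup.zpowers α := by
    refine SetLike.exists_of_lt (lt_top_iff_ne_top.mpr fun h => ?_)
    rw [h, Subgroup.index_top] at hidx
    omega
  obtain ⟨a, rfl⟩ := QuotientGroup.mk_surjective α
  obtain ⟨b, rfl⟩ := QuotientGroup.mk_surjective β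
  have hd : b * a * b⁻¹ * a ∈ N := by
    refine (QuotientGroup.eq_one_iff _).mp ?_
    rw [QuotientGroup.mk_mul, QuotientGroup.mk_mul, QuotientGroup.mk_mul, QuotientGroup.mk_inv, hinv _ hβ,
      inv_mul_cancel]
  set d := b * a * b⁻¹ * a with hddef
  have hdc : ∀ g : S, g * d = d * g := fun g => Subgroup.mem_center_iff.mp (hNZ hd) g
  set c := b * a * b⁻¹ * a⁻¹ with hcdef
  have hcd : c = d * (a⁻¹ * a⁻¹) := by rw [hcdef, hddef]; group
  have hac : a * c * a⁻¹ = c := by
    calc a * c * a⁻¹ = (a * d) * (a⁻¹ * a⁻¹) * a⁻¹ := by rw [hcd]; group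
      _ = (d * a) * (a⁻¹ * a⁻¹) * a⁻¹ := by rw [hdc a]
      _ = c := by rw [hcd]; group
  have hbc : b * c * b⁻¹ = c⁻¹ := by
    have hb : b * a⁻¹ * b⁻¹ = a * d⁻¹ := by rw [hddef]; group
    have hdi : a * d⁻¹ = d⁻¹ * a := (Commute.inv_right (hdc a)).eq
    calc b * c * b⁻¹ = (b * d) * (a⁻¹ * a⁻¹) * b⁻¹ := by rw [hcd]; group
      _ = (d * b) * (a⁻¹ * a⁻¹) * b⁻¹ := by rw [hdc b]
      _ = d * ((b * a⁻¹ * b⁻¹) * (b * a⁻¹ * b⁻¹)) := by group
      _ = d * ((a * d⁻¹) * (d⁻¹ * a)) := by rw [hb]; exact congrArg (fun t => d * (a * d⁻¹ * t)) hdi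
      _ = (d * a) * d⁻¹ * d⁻¹ * a := by group
      _ = (a * d) * d⁻¹ * d⁻¹ * a := by rw [hdc a]
      _ = a * (d⁻¹ * a) := by group
      _ = a * (a * d⁻¹) := by rw [hdi]
      _ = c⁻¹ := by rw [hcd]; simp [mul_assoc]
  set T := Subgroup.closure ({a, b} : Set S) ⊔ Subgroup.center S with hT
  have hgen : T = ⊤ := by
    refine eq_top_iff.mpr fun g _ => ?_
    have key : ∀ u : S, (u : S ⧸ N) ∈ Subgroup.zpowers (a : S ⧸ N) → u ∈ T := by
      intro u hu
      obtain ⟨k, hk⟩ := hu
      have h1 : (a ^ k)⁻¹ * u ∈ N := QuotientGroup.eq.mp ((QuotientGroup.mk_zpow N a k).trans hk)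
      rw [show u = a ^ k * ((a ^ k)⁻¹ * u) by group]
      have ha' : a ∈ Subgroup.closure ({a, b} : Set S) := Subgroup.subset_closure (Or.inl rfl)
      exact Subgroup.mul_mem_sup (Subgroup.zpow_mem _ ha' k) (hNZ h1)
    by_cases hg : (g : S ⧸ N) ∈ Subgroup.zpowers (a : S ⧸ N)
    · exact key g hg
    · have h2 : ((b⁻¹ * g : S) : S ⧸ N) ∈ Subgroup.zpowers (a : S ⧸ N) := by
        rw [QuotientGroup.mk_mul, QuotientGroup.mk_inv,
          Subgroup.mul_mem_iff_of_index_two hidx, inv_mem_iff]
        exact iff_of_false hβ hg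
      rw [show g = b * (b⁻¹ * g) by group]
      exact T.mul_mem (Subgroup.mem_sup_left (Subgroup.subset_closure (Or.inr rfl))) (key _ h2)
  set C := Subgroup.zpowers c with hC
  have hCn : C.Normal := by
    refine Subgroup.normalizer_eq_top_iff.mp (eq_top_iff.mpr ?_)
    rw [← hgen, hT]
    refine sup_le ((Subgroup.closure_le _).mpr ?_)
      ((Subgroup.center_le_centralizer _).trans (Subgroup.centralizer_le_normalizer _))
    rintro g (rfl | rfl)
    · refine SetLike.mem_coe.mpr (Subgroup.mem_normalizer_iff_map_conj_eq.mpr ?_)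
      rw [hC, MonoidHom.map_zpowers]
      exact congrArg Subgroup.zpowers hac
    · refine SetLike.mem_coe.mpr (Subgroup.mem_normalizer_iff_map_conj_eq.mpr ?_)
      rw [hC, MonoidHom.map_zpowers, ← Subgroup.zpowers_inv (g := c)]
      exact congrArg Subgroup.zpowers hbc
  have hab : ∀ x y : S ⧸ C, x * y = y * x := by
    have htop : Subgroup.center (S ⧸ C) = ⊤ := by
      refine eq_top_iff.mpr fun x _ => ?_
      obtain ⟨g, rfl⟩ := QuotientGroup.mk_surjective x
      have hg : g ∈ T := hgen ▸ Subgroup.mem_top g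
      revert hg
      suffices T ≤ (Subgroup.center (S ⧸ C)).comap (QuotientGroup.mk' C) from fun hg => this hg
      have hab0 : (b : S ⧸ C) * a = a * b := by
        have h1 : ((c : S) : S ⧸ C) = 1 := (QuotientGroup.eq_one_iff c).mpr (Subgroup.mem_zpowers c)
        rw [hcdef, QuotientGroup.mk_mul, QuotientGroup.mk_mul, QuotientGroup.mk_mul,
          QuotientGroup.mk_inv, QuotientGroup.mk_inv] at h1
        exact mul_inv_eq_iff_eq_mul.mp (mul_inv_eq_one.mp h1)
      refine sup_le ((Subgroup.closure_le _).mpr ?_) fun z hz => ?_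
      · intro g hg
        refine Subgroup.mem_center_iff.mpr fun y => ?_
        obtain ⟨u, rfl⟩ := QuotientGroup.mk_surjective y
        have hu : u ∈ T := hgen ▸ Subgroup.mem_top u
        have : T ≤ (Subgroup.centralizer {((g : S) : S ⧸ C)}).comap (QuotientGroup.mk' C) := by
          refine sup_le ((Subgroup.closure_le _).mpr ?_) fun z hz => ?_
          · intro w hw
            refine Subgroup.mem_centralizer_singleton_iff.mpr ?_
            rcases hw with rfl | rfl <;> rcases hg with rfl | rfl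
            · rfl
            · exact hab0.symm
            · exact hab0
            · rfl
          · exact Subgroup.mem_centralizer_singleton_iff.mpr
              (congrArg (QuotientGroup.mk' C) (Subgroup.mem_center_iff.mp hz g)).symm
        exact Subgroup.mem_centralizer_singleton_iff.mp (this hu)
      · refine Subgroup.mem_center_iff.mpr fun y => ?_
        obtain ⟨u, rfl⟩ := QuotientGroup.mk_surjective y
        exact congrArg (QuotientGroup.mk' C) (Subgroup.mem_center_iff.mp hz u)
    exact fun x y => (Subgroup.mem_center_iff.mp (htop ▸ Subgroup.mem_top y) x)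
  have hS' : commutator S = C := by
    refine le_antisymm ?_ ?_
    · rw [commutator_def, Subgroup.commutator_le]
      intro g _ h _
      rw [← QuotientGroup.eq_one_iff, commutatorElement_def, QuotientGroup.mk_mul, QuotientGroup.mk_mul,
        QuotientGroup.mk_mul, QuotientGroup.mk_inv, QuotientGroup.mk_inv, hab (g : S ⧸ C) h]
      group
    · rw [hC, Subgroup.zpowers_le, hcdef, ← commutatorElement_def, commutator_def]
      exact Subgroup.commutator_mem_commutator (Subgroup.mem_top _) (Subgroup.mem_top _)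
  refine ⟨commutator S, fun hbot => hna ⟨⟨fun x y => ?_⟩⟩, ?_, inferInstance⟩
  · obtain ⟨u, rfl⟩ := QuotientGroup.mk_surjective x
    obtain ⟨v, rfl⟩ := QuotientGroup.mk_surjective y
    have : ⁅u, v⁆ ∈ commutator S := by
      rw [commutator_def]; exact Subgroup.commutator_mem_commutator (Subgroup.mem_top _) (Subgroup.mem_top _)
    rw [hbot, Subgroup.mem_bot, commutatorElement_eq_one_iff_mul_comm] at this
    exact congrArg QuotientGroup.mk this
  · rw [hS', hC]; infer_instance

end Cfsg.Agent.S3202
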