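import Cfsg.Statements.S3203
import Mathlib

set_option autoImplicit false
open Cfsg

namespace Cfsg.Agent.S3203

theorem conj_sylow_into {G : Type*} [Group G] [Finite G] {p : ℕ} [Fact p.Prime] (S : Sylow p G) (N : Subgroup G)
    (hSN : (S : Subgroup G) ≤ N) (P : Subgroup G) (hP : IsPGroup p P) (hPN : P ≤ N) :
    ∃ n ∈ N, ∀ x ∈ P, n * x * n⁻¹ ∈ (S : Subgroup G) := by
  obtain ⟨T, hT⟩ := (hP.comap_subtype (K := N)).exists_le_sylow
  obtain ⟨n, hn⟩ := MulAction.exists_smul_eq N T (S.subtype hSN)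
  refine ⟨n, n.2, fun x hx => ?_⟩
  have h1 : n * ⟨x, hPN hx⟩ * n⁻¹ ∈ ((n • T : Sylow p N) : Subgroup N) := by
    rw [Sylow.coe_subgroup_smul]
    exact ⟨⟨x, hPN hx⟩, hT (by simpa [Subgroup.mem_subgroupOf] using hx), rfl⟩
  rw [hn] at h1
  simpa [Sylow.coe_subtype, Subgroup.mem_subgroupOf] using h1

theorem map_conj_elem {G : Type*} [Group G] {A : Subgroup G} (h : IsElementaryAbelian 2 A) (g : G) :
    IsElementaryAbelian 2 (A.map (MulAut.conj g).toMonoidHom) := by
  refine ⟨⟨⟨fun u v => Subtype.ext ?_⟩⟩, ?_⟩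
  · obtain ⟨u', hu', hu⟩ := u.2
    obtain ⟨v', hv', hv⟩ := v.2
    simp only [Subgroup.coe_mul, ← hu, ← hv, ← map_mul]
    exact congrArg _ (congrArg Subtype.val (h.1.is_comm.comm ⟨u', hu'⟩ ⟨v', hv'⟩))
  · rintro _ ⟨u, hu, rfl⟩
    rw [← map_pow, h.2 u hu, map_one]

theorem mem_map_conj {G : Type*} [Group G] {A : Subgroup G} {g x : G} :
    x ∈ A.map (MulAut.conj g).toMonoidHom ↔ g⁻¹ * x * g ∈ A := by
  constructor
  · rintro ⟨a, ha, rfl⟩; simpa [mul_assoc] using ha
  · intro h; exact ⟨_, h, by simp [mul_assoc]⟩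

theorem mem_normalizer_of_map_le {G : Type*} [Group G] [Finite G] {K : Subgroup G} {g : G}
    (h : K.map (MulAut.conj g).toMonoidHom ≤ K) : g ∈ Subgroup.normalizer (K : Set G) :=
  Subgroup.mem_normalizer_iff_map_conj_eq.mpr (Subgroup.eq_of_le_of_card_ge h
    (Nat.card_congr (Subgroup.equivMapOfInjective _ _ (MulAut.conj g).injective).toEquiv).le)

theorem key {G : Type*} [Group G] [Finite G] (S : Sylow 2 G) (A B : Subgroup G) (hne : A ≠ B)
    (hAS : A ≤ S) (hBS : B ≤ S) (hA : IsElementaryAbelian 2 A) (hB : IsElementaryAbelian 2 B)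
    (hAmax : ∀ E : Subgroup G, E ≤ S → IsElementaryAbelian 2 E → A ≤ E → E = A)
    (hdich : ∀ E : Subgroup G, E ≤ S → IsElementaryAbelian 2 E → E ≤ A ∨ E ≤ B)
    (hBmax : ∀ E : Subgroup G, E ≤ S → IsElementaryAbelian 2 E → B ≤ E → E = B)
    (hprod : ∀ s ∈ (S : Subgroup G), ∃ a ∈ A, ∃ b ∈ B, a * b = s) :
    IsWeaklyClosed A (S : Subgroup G) := by
  haveI : Fact (Nat.Prime 2) := ⟨Nat.prime_two⟩
  -- A and B are normal in S
  have hnormS : ∀ s ∈ (S : Subgroup G), A.map (MulAut.conj s).toMonoidHom = A ∧ B.map (MulAut.conj s).toMonoidHom = B := by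
    intro s hs
    have hinj : ∀ (X Y : Subgroup G) (g : G), X.map (MulAut.conj g).toMonoidHom ≤ Y.map (MulAut.conj g).toMonoidHom → X ≤ Y :=
      fun X Y g h => (Subgroup.map_le_map_iff_of_injective (MulAut.conj g).injective).mp h
    have himg : ∀ X : Subgroup G, X ≤ S → X.map (MulAut.conj s).toMonoidHom ≤ S := by
      rintro X hX _ ⟨x, hx, rfl⟩
      exact mul_mem (mul_mem hs (hX hx)) (inv_mem hs)
    obtain ⟨a, ha, b, hb, rfl⟩ := hprod s hs
    constructor
    · rcases hdich _ (himg A hAS) (map_conj_elem hA _) with h | h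
      · exact Subgroup.eq_of_le_of_card_ge h (Nat.card_congr (Subgroup.equivMapOfInjective _ _ (MulAut.conj _).injective).toEquiv).le
      · exfalso
        -- pull back by b
        have h2 : A ≤ B := by
          intro x hx
          have h3 := h ⟨a⁻¹ * (a * x * a⁻¹) * a, by simpa [mul_assoc] using hx, rfl⟩
          have h4 : b * x * b⁻¹ ∈ B := by
            rcases hdich (A.map (MulAut.conj b).toMonoidHom) (by
              rintro _ ⟨y, hy, rfl⟩; exact mul_mem (mul_mem (hBS hb) (hAS hy)) (inv_mem (hBS hb))) (map_conj_elem hA _) with hh | hh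
            · have hx' : b * x * b⁻¹ ∈ A := hh ⟨x, hx, rfl⟩
              have e : MulAut.conj (a * b) x = b * x * b⁻¹ := by
                have hc : a * (b * x * b⁻¹) = (b * x * b⁻¹) * a := congrArg Subtype.val (hA.1.is_comm.comm ⟨a, ha⟩ ⟨_, hx'⟩)
                rw [MulAut.conj_apply]
                calc a * b * x * (a * b)⁻¹ = a * (b * x * b⁻¹) * a⁻¹ := by group
                  _ = b * x * b⁻¹ := by rw [hc]; group
              rw [← e]
              exact h ⟨x, hx, rfl⟩
            · exact hh ⟨x, hx, rfl⟩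
          simpa [mul_assoc] using B.mul_mem (B.mul_mem (B.inv_mem hb) h4) hb
        exact hne (hAmax B hBS hB h2).symm
    · rcases hdich _ (himg B hBS) (map_conj_elem hB _) with h | h
      · exfalso
        have h2 : B ≤ A := by
          intro x hx
          have hx' : MulAut.conj (a * b) x ∈ A := h ⟨x, hx, rfl⟩
          have e : MulAut.conj (a * b) x = a * x * a⁻¹ := by
            have hc : b * x = x * b := congrArg Subtype.val (hB.1.is_comm.comm ⟨b, hb⟩ ⟨x, hx⟩)
            rw [MulAut.conj_apply]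
            calc a * b * x * (a * b)⁻¹ = a * (b * x) * b⁻¹ * a⁻¹ := by group
              _ = a * x * a⁻¹ := by rw [hc]; group
          rw [e] at hx'
          simpa [mul_assoc] using A.mul_mem (A.mul_mem (A.inv_mem ha) hx') ha
        exact hne (hBmax A hAS hA h2)
      · exact Subgroup.eq_of_le_of_card_ge h (Nat.card_congr (Subgroup.equivMapOfInjective _ _ (MulAut.conj _).injective).toEquiv).le
  refine ⟨hAS, fun g hg => ?_⟩
  have hcard : Nat.card (A.map (MulAut.conj g).toMonoidHom) = Nat.card A :=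
    (Nat.card_congr (Subgroup.equivMapOfInjective _ _ (MulAut.conj _).injective).toEquiv).symm
  rcases hdich _ hg (map_conj_elem hA g) with h | h
  · exact Subgroup.eq_of_le_of_card_ge h hcard.ge
  exfalso
  -- the centralizer of A in S is A
  have hcA : ∀ x ∈ (S : Subgroup G), (∀ a ∈ A, x * a = a * x) → x ∈ A := by
    intro x hx hc
    obtain ⟨a, ha, b, hb, rfl⟩ := hprod x hx
    refine A.mul_mem ha ?_
    have hbc : ∀ a' ∈ A, b * a' = a' * b := by
      intro a' ha'
      have h1 := hc a' ha'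
      have h2 : a * a' = a' * a := congrArg Subtype.val (hA.1.is_comm.comm ⟨a, ha⟩ ⟨a', ha'⟩)
      rw [← mul_assoc, ← h2, mul_assoc, mul_assoc] at h1
      exact mul_left_cancel h1
    have hel : IsElementaryAbelian 2 (A ⊔ Subgroup.zpowers b) := by
      have hc' : IsMulCommutative ↥(Subgroup.closure ((A : Set G) ∪ {b})) := by
        refine Subgroup.isMulCommutative_closure ?_
        intro u hu v hv
        simp only [Set.mem_union, SetLike.mem_coe, Set.mem_singleton_iff] at hu hv
        rcases hu with hu | rfl <;> rcases hv with hv | rfl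
        · exact congrArg Subtype.val (hA.1.is_comm.comm ⟨u, hu⟩ ⟨v, hv⟩)
        · exact (hbc u hu).symm
        · exact hbc v hv
        · rfl
      rw [Subgroup.closure_union, Subgroup.closure_eq, ← Subgroup.zpowers_eq_closure] at hc'
      refine ⟨hc', fun x hx => ?_⟩
      have hle : A ⊔ Subgroup.zpowers b ≤ Subgroup.closure ((A : Set G) ∪ {b}) := by
        rw [Subgroup.closure_union, Subgroup.closure_eq, ← Subgroup.zpowers_eq_closure]
      induction hle hx using Subgroup.closure_induction with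
      | mem y hy =>
        rcases hy with hy | hy
        · exact hA.2 y hy
        · rw [Set.mem_singleton_iff.mp hy]; exact hB.2 b hb
      | one => simp
      | mul y z hy hz e1 e2 =>
        rw [Subgroup.closure_union, Subgroup.closure_eq, ← Subgroup.zpowers_eq_closure] at hy hz
        have hcomm : Commute y z := congrArg Subtype.val (hc'.is_comm.comm ⟨y, hy⟩ ⟨z, hz⟩)
        rw [hcomm.mul_pow, e1 hy, e2 hz, one_mul]
      | inv y hy e1 =>
        rw [Subgroup.closure_union, Subgroup.closure_eq, ← Subgroup.zpowers_eq_closure] at hy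
        rw [inv_pow, e1 hy, inv_one]
    exact hAmax _ (sup_le hAS (Subgroup.zpowers_le.mpr (hBS hb))) hel le_sup_left ▸
      (le_sup_right : Subgroup.zpowers b ≤ _) (Subgroup.mem_zpowers b)
  -- sizes
  have hle : Nat.card B ≤ Nat.card A := by
    let C := B.map (MulAut.conj g⁻¹).toMonoidHom
    have hC2 : IsPGroup 2 C := (S.2.to_le hBS).map _
    have hCA : ∀ x ∈ C, ∀ a ∈ A, x * a = a * x := by
      rintro _ ⟨b, hb, rfl⟩ a ha
      have h1 : g * a * g⁻¹ ∈ B := h ⟨a, ha, rfl⟩
      have h2 : b * (g * a * g⁻¹) = (g * a * g⁻¹) * b := congrArg Subtype.val (hB.1.is_comm.comm ⟨b, hb⟩ ⟨_, h1⟩)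
      show g⁻¹ * b * g⁻¹⁻¹ * a = a * (g⁻¹ * b * g⁻¹⁻¹)
      calc g⁻¹ * b * g⁻¹⁻¹ * a = g⁻¹ * (b * (g * a * g⁻¹)) * g := by group
        _ = g⁻¹ * ((g * a * g⁻¹) * b) * g := by rw [h2]
        _ = a * (g⁻¹ * b * g⁻¹⁻¹) := by group
    have hCN : C ≤ Subgroup.normalizer (A : Set G) := fun x hx => by
      rw [Subgroup.mem_normalizer_iff]
      intro a
      constructor
      · intro ha; rw [hCA x hx a ha, mul_inv_cancel_right]; exact ha
      · intro ha
        have := hCA x hx _ ha
        have e : x * (x * a * x⁻¹) * x⁻¹ = x * a * x⁻¹ := by rw [this, mul_inv_cancel_right]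
        have : x * a * x⁻¹ = a := mul_left_cancel (mul_right_cancel e)
        rwa [this] at ha
    have hSN : (S : Subgroup G) ≤ Subgroup.normalizer (A : Set G) := fun s hs => by
      rw [Subgroup.mem_normalizer_iff]
      intro a
      nth_rewrite 2 [← (hnormS s hs).1]
      rw [mem_map_conj]
      simp [mul_assoc]
    obtain ⟨n, hn, hnC⟩ := conj_sylow_into S _ hSN C hC2 hCN
    have hsub : C.map (MulAut.conj n).toMonoidHom ≤ A := by
      rintro _ ⟨x, hx, rfl⟩
      refine hcA _ (hnC x hx) fun a ha => ?_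
      have ha' : n⁻¹ * a * n ∈ A := by
        have := (Subgroup.mem_normalizer_iff.mp (inv_mem hn) a).mp ha
        rwa [inv_inv] at this
      have h2 := hCA x hx _ ha'
      show n * x * n⁻¹ * a = a * (n * x * n⁻¹)
      calc n * x * n⁻¹ * a = n * (x * (n⁻¹ * a * n)) * n⁻¹ := by group
        _ = n * ((n⁻¹ * a * n) * x) * n⁻¹ := by rw [h2]
        _ = a * (n * x * n⁻¹) := by group
    have := Subgroup.card_le_of_le hsub
    rwa [← Nat.card_congr (Subgroup.equivMapOfInjective _ _ (MulAut.conj n).injective).toEquiv,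
      ← Nat.card_congr (Subgroup.equivMapOfInjective _ _ (MulAut.conj g⁻¹).injective).toEquiv] at this
  have heq : A.map (MulAut.conj g).toMonoidHom = B := Subgroup.eq_of_le_of_card_ge h (hcard ▸ hle)
  -- Burnside: the conjugation may be done in N(S)
  have hSB : (S : Subgroup G) ≤ Subgroup.normalizer (B : Set G) := fun s hs => by
    rw [Subgroup.mem_normalizer_iff]
    intro b
    nth_rewrite 2 [← (hnormS s hs).2]
    rw [mem_map_conj]
    simp [mul_assoc]
  have hgS : (S : Subgroup G).map (MulAut.conj g).toMonoidHom ≤ Subgroup.normalizer (B : Set G) := by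
    rintro _ ⟨s, hs, rfl⟩
    rw [Subgroup.mem_normalizer_iff]
    intro b
    rw [← heq, mem_map_conj, mem_map_conj]
    have hA' := (hnormS s hs).1
    nth_rewrite 2 [← hA']
    rw [mem_map_conj]
    simp [mul_assoc]
  obtain ⟨n, hn, hnS⟩ := conj_sylow_into S _ hSB _ (S.2.map _) hgS
  set k := n * g with hk
  have hkS : ∀ s ∈ (S : Subgroup G), k * s * k⁻¹ ∈ (S : Subgroup G) := fun s hs => by
    have := hnS _ ⟨s, hs, rfl⟩
    simpa [hk, mul_assoc] using this
  have hkN : k ∈ Subgroup.normalizer ((S : Subgroup G) : Set G) := mem_normalizer_of_map_le (K := (S : Subgroup G)) (by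
    rintro _ ⟨s, hs, rfl⟩; exact hkS s hs)
  have hkA : A.map (MulAut.conj k).toMonoidHom = B := by
    ext x
    rw [mem_map_conj, hk]
    have : (n * g)⁻¹ * x * (n * g) = g⁻¹ * (n⁻¹ * x * n) * g := by group
    rw [this, ← mem_map_conj, heq]
    have h2 := Subgroup.mem_normalizer_iff.mp (inv_mem hn) x
    rw [inv_inv] at h2
    exact h2.symm
  have hkB : B.map (MulAut.conj k).toMonoidHom = A := by
    have hin : B.map (MulAut.conj k).toMonoidHom ≤ S := by rintro _ ⟨b, hb, rfl⟩; exact hkS b (hBS hb)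
    have hc : Nat.card (B.map (MulAut.conj k).toMonoidHom) = Nat.card A := by
      rw [← Nat.card_congr (Subgroup.equivMapOfInjective _ _ (MulAut.conj k).injective).toEquiv, ← heq, hcard]
    rcases hdich _ hin (map_conj_elem hB k) with h' | h'
    · exact Subgroup.eq_of_le_of_card_ge h' hc.ge
    · exfalso
      have h2 : B.map (MulAut.conj k).toMonoidHom = A.map (MulAut.conj k).toMonoidHom := by
        rw [hkA]
        exact Subgroup.eq_of_le_of_card_ge h' (by rw [hc, ← heq, hcard])
      exact hne (Subgroup.map_injective (MulAut.conj k).injective h2).symm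
  -- odd powers of k exchange A and B
  have hcomp : ∀ (X : Subgroup G) (u v : G), X.map (MulAut.conj (u * v)).toMonoidHom =
      (X.map (MulAut.conj v).toMonoidHom).map (MulAut.conj u).toMonoidHom := fun X u v => by
    ext x
    simp only [mem_map_conj, mul_inv_rev, mul_assoc]
  have hodd : ∀ j : ℕ, A.map (MulAut.conj (k ^ (2 * j + 1))).toMonoidHom = B := by
    intro j
    induction j with
    | zero => simpa using hkA
    | succ j ih =>
      rw [show 2 * (j + 1) + 1 = (2 * j + 1) + 1 + 1 by ring, pow_succ', hcomp A k, pow_succ', hcomp A k (k ^ (2 * j + 1)), ih, hkB, hkA]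
  obtain ⟨m, hm, hmo⟩ : ∃ m : ℕ, Odd m ∧ ∃ i : ℕ, orderOf (k ^ m) = 2 ^ i := by
    obtain ⟨i, m, hm, he⟩ := Nat.exists_eq_two_pow_mul_odd (orderOf_pos k).ne'
    exact ⟨m, hm, i, by rw [orderOf_pow, he, Nat.gcd_eq_right (dvd_mul_left m _), Nat.mul_div_cancel _ hm.pos]⟩
  obtain ⟨i, hi⟩ := hmo
  have hkm : k ^ m ∈ (S : Subgroup G) := by
    have hp : IsPGroup 2 (Subgroup.zpowers (k ^ m)) := IsPGroup.of_card (n := i) (by rw [Nat.card_zpowers, hi])
    have hN : k ^ m ∈ Subgroup.normalizer ((S : Subgroup G) : Set G) := pow_mem hkN m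
    obtain ⟨T, hT⟩ := (hp.comap_subtype (K := Subgroup.normalizer ((S : Subgroup G) : Set G))).exists_le_sylow
    haveI := Sylow.unique_of_normal (S.subtype Subgroup.le_normalizer) (by
      rw [Sylow.coe_subtype]; exact Subgroup.normal_in_normalizer)
    have h1 : (⟨k ^ m, hN⟩ : Subgroup.normalizer ((S : Subgroup G) : Set G)) ∈ (T : Subgroup _) :=
      hT (Subgroup.mem_zpowers (k ^ m))
    rw [Subsingleton.elim T (S.subtype Subgroup.le_normalizer)] at h1
    exact h1
  obtain ⟨j, rfl⟩ := hm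
  exact hne ((hnormS _ hkm).1.symm.trans (hodd j))


/-- Let S be a Sylow 2-subgroup of a finite group G having exactly two subgroups A ≠ B that are maximal among its elementary abelian subgroups, with S = AB. Then A and B are each weakly closed in S with respect to G, and the normalizer of S normalizes both A and B. -/
theorem result {G : Type*} [Group G] [Finite G] (S : Sylow 2 G)
    (A B : Subgroup ↥(S : Subgroup G)) (hAB : A ≠ B)
    (hA : Cfsg.IsElementaryAbelian 2 A ∧ ∀ C : Subgroup ↥(S : Subgroup G), Cfsg.IsElementaryAbelian 2 C → A ≤ C → C = A)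
    (hB : Cfsg.IsElementaryAbelian 2 B ∧ ∀ C : Subgroup ↥(S : Subgroup G), Cfsg.IsElementaryAbelian 2 C → B ≤ C → C = B)
    (honly : ∀ C : Subgroup ↥(S : Subgroup G), Cfsg.IsElementaryAbelian 2 C →
      (∀ D : Subgroup ↥(S : Subgroup G), Cfsg.IsElementaryAbelian 2 D → C ≤ D → D = C) → C = A ∨ C = B)
    (hprod : ∀ s : ↥(S : Subgroup G), ∃ a ∈ A, ∃ b ∈ B, a * b = s)
    (A' B' : Subgroup G) (hA' : A' = A.map (S : Subgroup G).subtype) (hB' : B' = B.map (S : Subgroup G).subtype) :
    Cfsg.IsWeaklyClosed A' (S : Subgroup G) ∧ Cfsg.IsWeaklyClosed B' (S : Subgroup G) ∧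
      Subgroup.normalizer ((S : Subgroup G) : Set G) ≤ Subgroup.normalizer (A' : Set G) ⊓ Subgroup.normalizer (B' : Set G) := by
  classical
  subst hA' hB'
  have hsub : ∀ E : Subgroup G, E ≤ (S : Subgroup G) → IsElementaryAbelian 2 E → IsElementaryAbelian 2 (E.subgroupOf (S : Subgroup G)) := by
    intro E hE hel
    exact ⟨⟨⟨fun u v => Subtype.ext (Subtype.ext (by
      have h0 := congrArg Subtype.val (hel.1.is_comm.comm ⟨_, u.2⟩ ⟨_, v.2⟩)
      exact h0))⟩⟩,
      fun u hu => Subtype.ext (hel.2 _ hu)⟩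
  have hmap : ∀ X : Subgroup (S : Subgroup G), IsElementaryAbelian 2 X → IsElementaryAbelian 2 (X.map (S : Subgroup G).subtype) := by
    intro X hX
    refine ⟨⟨⟨fun u v => Subtype.ext ?_⟩⟩, ?_⟩
    · obtain ⟨u', hu', hu⟩ := u.2
      obtain ⟨v', hv', hv⟩ := v.2
      simp only [Subgroup.coe_mul, ← hu, ← hv, ← map_mul]
      exact congrArg (S : Subgroup G).subtype (congrArg Subtype.val (hX.1.is_comm.comm ⟨u', hu'⟩ ⟨v', hv'⟩))
    · rintro _ ⟨u, hu, rfl⟩
      rw [← map_pow, hX.2 u hu, map_one]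
  have hdich : ∀ E : Subgroup G, E ≤ (S : Subgroup G) → IsElementaryAbelian 2 E → E ≤ A.map (S : Subgroup G).subtype ∨ E ≤ B.map (S : Subgroup G).subtype := by
    intro E hE hel
    obtain ⟨C, hCle, hC⟩ := Finite.exists_le_maximal (p := fun X : Subgroup (S : Subgroup G) => IsElementaryAbelian 2 X) (hsub E hE hel)
    have := honly C hC.1 fun D hD hCD => le_antisymm (hC.2 hD hCD) hCD
    rw [← Subgroup.map_subgroupOf_eq_of_le hE]
    rcases this with h | h
    · exact Or.inl (Subgroup.map_mono (h ▸ hCle))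
    · exact Or.inr (Subgroup.map_mono (h ▸ hCle))
  have hmax : ∀ X : Subgroup (S : Subgroup G), (∀ C : Subgroup (S : Subgroup G), IsElementaryAbelian 2 C → X ≤ C → C = X) →
      ∀ E : Subgroup G, E ≤ (S : Subgroup G) → IsElementaryAbelian 2 E → X.map (S : Subgroup G).subtype ≤ E → E = X.map (S : Subgroup G).subtype := by
    intro X hX E hE hel hle
    rw [← hX _ (hsub E hE hel) (fun x hx => hle ⟨x, hx, rfl⟩), Subgroup.map_subgroupOf_eq_of_le hE]
  have hneq : A.map (S : Subgroup G).subtype ≠ B.map (S : Subgroup G).subtype := fun h => hAB (Subgroup.map_injective (S : Subgroup G).subtype_injective h)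
  have hp : ∀ s ∈ (S : Subgroup G), ∃ a ∈ A.map (S : Subgroup G).subtype, ∃ b ∈ B.map (S : Subgroup G).subtype, a * b = s := fun s hs => by
    obtain ⟨a, ha, b, hb, h⟩ := hprod ⟨s, hs⟩
    exact ⟨a, ⟨a, ha, rfl⟩, b, ⟨b, hb, rfl⟩, congrArg Subtype.val h⟩
  have hp' : ∀ s ∈ (S : Subgroup G), ∃ b ∈ B.map (S : Subgroup G).subtype, ∃ a ∈ A.map (S : Subgroup G).subtype, b * a = s := fun s hs => by
    obtain ⟨a, ha, b, hb, h⟩ := hp s⁻¹ (inv_mem hs)
    exact ⟨b⁻¹, inv_mem hb, a⁻¹, inv_mem ha, by rw [← mul_inv_rev, h, inv_inv]⟩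
  have hWA := key S _ _ hneq (Subgroup.map_subtype_le _) (Subgroup.map_subtype_le _) (hmap A hA.1) (hmap B hB.1)
    (hmax A hA.2) hdich (hmax B hB.2) hp
  have hWB := key S _ _ hneq.symm (Subgroup.map_subtype_le _) (Subgroup.map_subtype_le _) (hmap B hB.1) (hmap A hA.1)
    (hmax B hB.2) (fun E hE hel => (hdich E hE hel).symm) (hmax A hA.2) hp'
  refine ⟨hWA, hWB, fun g hg => ?_⟩
  have hin : ∀ X : Subgroup G, X ≤ (S : Subgroup G) → X.map (MulAut.conj g).toMonoidHom ≤ (S : Subgroup G) := by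
    rintro X hX _ ⟨x, hx, rfl⟩
    exact (Subgroup.mem_normalizer_iff.mp hg x).mp (hX hx)
  exact ⟨mem_normalizer_of_map_le (hWA.2 g (hin _ (Subgroup.map_subtype_le _))).le,
    mem_normalizer_of_map_le (hWB.2 g (hin _ (Subgroup.map_subtype_le _))).le⟩

end Cfsg.Agent.S3203
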