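import Cfsg.Statements.S3208
import Mathlib
import Cfsg.Agent.Lib.Recog.SylowExtend

set_option autoImplicit false
open Cfsg

namespace Cfsg.Agent.S3208

/-- Let j be an involution of a finite group G, H a subgroup of G, and T a Sylow 2-subgroup of H ∩ C_G(j) containing j such that ⟨j⟩ is a characteristic subgroup of T. Then T is a Sylow 2-subgroup of H. -/
theorem result {G : Type*} [Group G] [Finite G]
    (j : G) (hj : orderOf j = 2) (H T : Subgroup G) (hT : T ≤ H ⊓ Subgroup.centralizer ({j} : Set G)) (h2 : IsPGroup 2 ↥T)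
    (hSyl : ¬ 2 ∣ T.relIndex (H ⊓ Subgroup.centralizer ({j} : Set G))) (hjT : j ∈ T)
    (hchar : ((Subgroup.zpowers j).subgroupOf T).Characteristic) :
    ¬ 2 ∣ T.relIndex H := by
  haveI : Fact (Nat.Prime 2) := ⟨Nat.prime_two⟩
  obtain ⟨hTH, hTC⟩ := le_inf_iff.mp hT
  let T' := T.subgroupOf H
  have hT' : IsPGroup 2 T' := h2.comap_subtype
  obtain ⟨S, hS⟩ := hT'.exists_le_sylow
  have hjT' : (⟨j, hTH hjT⟩ : H) ∈ T' := hjT
  have heq : T' = S := by
    refine Cfsg.Agent.Recog.eq_of_inf_normalizer_le S.2 hS ?_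
    intro x hx
    obtain ⟨hxS, hxN⟩ := hx
    replace hxN : x ∈ Subgroup.normalizer (T' : Set H) := hxN
    rw [Subgroup.mem_normalizer_iff] at hxN
    have hxNT : (x : G) ∈ Subgroup.normalizer (T : Set G) := by
      rw [Subgroup.mem_normalizer_iff]
      intro y
      constructor
      · intro hy
        exact (hxN ⟨y, hTH hy⟩).mp hy
      · intro hy
        have hyH : y ∈ H := by
          have := H.mul_mem (H.mul_mem (H.inv_mem x.2) (hTH hy)) x.2
          simpa [mul_assoc] using this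
        exact (hxN ⟨y, hyH⟩).mpr hy
    have hcent : (x : G) * j * (x : G)⁻¹ = j := by
      have hm := (Subgroup.characteristic_iff_map_le.mp hchar (Subgroup.normalizerMonoidHom T ⟨x, hxNT⟩))
        (Subgroup.mem_map_of_mem _ (show (⟨j, hjT⟩ : T) ∈ (Subgroup.zpowers j).subgroupOf T from Subgroup.mem_zpowers j))
      obtain ⟨n, hn⟩ := Subgroup.mem_zpowers_iff.mp hm
      have hn' : j ^ n = (x : G) * j * (x : G)⁻¹ := hn
      rcases Int.even_or_odd n with ⟨i, rfl⟩ | ⟨i, rfl⟩
      · exfalso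
        have : (x : G) * j * (x : G)⁻¹ = 1 := by
          rw [← hn', ← two_mul, zpow_mul, zpow_two, ← pow_two, ← hj, pow_orderOf_eq_one, one_zpow]
        rw [conj_eq_one_iff] at this
        rw [this, orderOf_one] at hj
        exact absurd hj (by decide)
      · rw [← hn', zpow_add_one, zpow_mul, zpow_two, ← pow_two, ← hj, pow_orderOf_eq_one, one_zpow, one_mul]
    have hxC : (x : G) ∈ H ⊓ Subgroup.centralizer ({j} : Set G) :=
      ⟨x.2, Subgroup.mem_centralizer_singleton_iff.mpr (mul_inv_eq_iff_eq_mul.mp hcent)⟩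
    set C := H ⊓ Subgroup.centralizer ({j} : Set G) with hC
    have hsyl : ∀ P : Subgroup G, IsPGroup 2 P → T ≤ P → P ≤ C → P = T := by
      intro P hP hTP hPC
      obtain ⟨n, hn⟩ := hP.exists_card_eq
      have h1 : T.relIndex P ∣ 2 ^ n := hn ▸ Subgroup.relIndex_dvd_card _ _
      have h2' : T.relIndex P ∣ T.relIndex C := dvd_of_mul_right_eq _ (Subgroup.relIndex_mul_relIndex T P C hTP hPC)
      obtain ⟨i, -, hi⟩ := (Nat.dvd_prime_pow Nat.prime_two).mp h1
      rcases Nat.eq_zero_or_pos i with rfl | hi0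
      · exact le_antisymm (Subgroup.relIndex_eq_one.mp (by simpa using hi)) hTP
      · exact absurd ((dvd_pow_self 2 hi0.ne').trans (hi ▸ h2')) hSyl
    have hx2 : (x : G) ∈ ((S : Subgroup H).map H.subtype ⊓ C) := ⟨Subgroup.mem_map_of_mem _ hxS, hxC⟩
    rw [hsyl _ ((S.2.map _).to_le inf_le_left) (le_inf (fun y hy => ⟨⟨y, hTH hy⟩, hS hy, rfl⟩) hT) inf_le_right] at hx2
    exact hx2
  have := S.not_dvd_index
  rw [← heq] at this
  exact this

end Cfsg.Agent.S3208
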