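import Cfsg.Statements.S3209
import Mathlib
-- import your own Cfsg.Agent.* helpers here

set_option autoImplicit false
open Cfsg

namespace Cfsg.Agent.S3209


/-- Every element is a sum of two squares in a finite field of odd order. -/
theorem exists_sum_sq {F : Type*} [Field F] [Fintype F] (hF : Odd (Fintype.card F)) (c : F) :
    ∃ u v : F, u ^ 2 + v ^ 2 = c := by
  classical
  have h1 : Fintype.card F % 2 = 1 := Nat.odd_iff.1 hF
  obtain ⟨u, v, huv⟩ := FiniteField.exists_root_sum_quadratic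
    (f := (Polynomial.X ^ 2 : Polynomial F)) (g := Polynomial.X ^ 2 - Polynomial.C c)
    (Polynomial.degree_X_pow 2) (Polynomial.degree_X_pow_sub_C two_pos c) h1
  refine ⟨u, v, ?_⟩
  simp only [Polynomial.eval_pow, Polynomial.eval_X, Polynomial.eval_sub, Polynomial.eval_C] at huv
  linear_combination huv

theorem two_ne {F : Type*} [Field F] [Fintype F] (hF : Odd (Fintype.card F)) : (2 : F) ≠ 0 :=
  Ring.two_ne_zero fun h => by
    have := (FiniteField.even_card_iff_char_two (F := F)).1 h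
    have := Nat.odd_iff.1 hF
    omega

/-- In `SL(2, q)`, `q` odd, `±1` are the only solutions of `x ^ 2 = 1`. -/
theorem eq_one_or_neg {F : Type*} [Field F] (h2 : (2 : F) ≠ 0) {x : Matrix.SpecialLinearGroup (Fin 2) F}
    (hx : x * x = 1) : x = 1 ∨ x = -1 := by
  have hd : (x : Matrix (Fin 2) (Fin 2) F) 0 0 * (x : Matrix (Fin 2) (Fin 2) F) 1 1 - (x : Matrix (Fin 2) (Fin 2) F) 0 1 * (x : Matrix (Fin 2) (Fin 2) F) 1 0 = 1 := by
    rw [← Matrix.det_fin_two]; exact x.2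
  have hinv : x⁻¹ = x := inv_eq_of_mul_eq_one_right hx
  have he : Matrix.adjugate (x : Matrix (Fin 2) (Fin 2) F) = (x : Matrix (Fin 2) (Fin 2) F) := by
    rw [← Matrix.SpecialLinearGroup.coe_inv, hinv]
  rw [Matrix.adjugate_fin_two] at he
  have h00 : (x : Matrix (Fin 2) (Fin 2) F) 1 1 = (x : Matrix (Fin 2) (Fin 2) F) 0 0 := by simpa using congrFun (congrFun he 0) 0
  have h01 : -(x : Matrix (Fin 2) (Fin 2) F) 0 1 = (x : Matrix (Fin 2) (Fin 2) F) 0 1 := by simpa using congrFun (congrFun he 0) 1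
  have h10 : -(x : Matrix (Fin 2) (Fin 2) F) 1 0 = (x : Matrix (Fin 2) (Fin 2) F) 1 0 := by simpa using congrFun (congrFun he 1) 0
  have hb : (x : Matrix (Fin 2) (Fin 2) F) 0 1 = 0 := by
    have : (2 : F) * (x : Matrix (Fin 2) (Fin 2) F) 0 1 = 0 := by linear_combination -h01
    exact (mul_eq_zero.1 this).resolve_left h2
  have hc : (x : Matrix (Fin 2) (Fin 2) F) 1 0 = 0 := by
    have : (2 : F) * (x : Matrix (Fin 2) (Fin 2) F) 1 0 = 0 := by linear_combination -h10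
    exact (mul_eq_zero.1 this).resolve_left h2
  have ha : (x : Matrix (Fin 2) (Fin 2) F) 0 0 * (x : Matrix (Fin 2) (Fin 2) F) 0 0 = 1 := by rw [hb, h00] at hd; linear_combination hd
  rcases mul_self_eq_one_iff.1 ha with h | h
  · left
    ext i j
    fin_cases i <;> fin_cases j <;> simp [hb, hc, h00, h]
  · right
    ext i j
    fin_cases i <;> fin_cases j <;> simp [hb, hc, h00, h]

/-- The elements of `SL(2, q)` squaring to `-1`, `q` odd, are conjugate to one of them. -/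
theorem exists_conj_std {F : Type*} [Field F] [Fintype F] (hF : Odd (Fintype.card F))
    (g : Matrix.SpecialLinearGroup (Fin 2) F) (hg : g * g = -1) :
    ∃ P : Matrix.SpecialLinearGroup (Fin 2) F, ((g * P : Matrix.SpecialLinearGroup (Fin 2) F) : Matrix (Fin 2) (Fin 2) F) = (P : Matrix (Fin 2) (Fin 2) F) * !![0, -1; 1, 0] := by
  have h2 := two_ne hF
  have hd : (g : Matrix (Fin 2) (Fin 2) F) 0 0 * (g : Matrix (Fin 2) (Fin 2) F) 1 1 - (g : Matrix (Fin 2) (Fin 2) F) 0 1 * (g : Matrix (Fin 2) (Fin 2) F) 1 0 = 1 := by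
    rw [← Matrix.det_fin_two]; exact g.2
  have hinv : g⁻¹ = -g := inv_eq_of_mul_eq_one_right (by rw [mul_neg, hg, neg_neg])
  have he : Matrix.adjugate (g : Matrix (Fin 2) (Fin 2) F) = -(g : Matrix (Fin 2) (Fin 2) F) := by
    rw [← Matrix.SpecialLinearGroup.coe_inv, hinv, Matrix.SpecialLinearGroup.coe_neg]
  rw [Matrix.adjugate_fin_two] at he
  have htr : (g : Matrix (Fin 2) (Fin 2) F) 1 1 = -(g : Matrix (Fin 2) (Fin 2) F) 0 0 := by simpa using congrFun (congrFun he 0) 0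
  set a := (g : Matrix (Fin 2) (Fin 2) F) 0 0 with hadef
  set b := (g : Matrix (Fin 2) (Fin 2) F) 0 1 with hbdef
  set c := (g : Matrix (Fin 2) (Fin 2) F) 1 0 with hcdef
  have hrel : a * a + b * c = -1 := by rw [htr] at hd; linear_combination -hd
  -- a vector `(x, y)` with determinant one against its image
  obtain ⟨x, y, hxy⟩ : ∃ x y : F, x * (c * x - a * y) - y * (a * x + b * y) = 1 := by
    by_cases hc : c = 0
    · have ha : a ≠ 0 := fun ha => by
        rw [ha, hc] at hrel; simp at hrel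
      refine ⟨(-1 - b) / (2 * a), 1, ?_⟩
      rw [hc]
      field_simp
      ring
    · obtain ⟨u, v, huv⟩ := exists_sum_sq hF c
      refine ⟨(u + a * v) / c, v, ?_⟩
      field_simp
      linear_combination huv - v ^ 2 * hrel
  obtain ⟨P, hP⟩ : ∃ P : Matrix.SpecialLinearGroup (Fin 2) F,
      (P : Matrix (Fin 2) (Fin 2) F) = !![x, a * x + b * y; y, c * x - a * y] := ⟨⟨!![x, a * x + b * y; y, c * x - a * y], by
    rw [Matrix.det_fin_two_of]; linear_combination hxy⟩, rfl⟩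
  refine ⟨P, ?_⟩
  rw [Matrix.SpecialLinearGroup.coe_mul, hP]
  ext i j
  fin_cases i <;> fin_cases j <;>
    simp [Matrix.mul_apply, Fin.sum_univ_two, ← hadef, ← hbdef, ← hcdef, htr] <;>
    first
      | linear_combination 0
      | linear_combination x * hrel
      | linear_combination y * hrel

theorem conj_of_sq_neg_one {F : Type*} [Field F] [Fintype F] (hF : Odd (Fintype.card F))
    {g h : Matrix.SpecialLinearGroup (Fin 2) F} (hg : g * g = -1) (hh : h * h = -1) :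
    ∃ k : Matrix.SpecialLinearGroup (Fin 2) F, k * g * k⁻¹ = h := by
  obtain ⟨P, hP⟩ := exists_conj_std hF g hg
  obtain ⟨R, hR⟩ := exists_conj_std hF h hh
  let J : Matrix.SpecialLinearGroup (Fin 2) F := ⟨!![0, -1; 1, 0], by simp [Matrix.det_fin_two_of]⟩
  have e1 : g * P = P * J := Subtype.ext (by rw [hP]; rfl)
  have e2 : h * R = R * J := Subtype.ext (by rw [hR]; rfl)
  refine ⟨R * P⁻¹, ?_⟩
  calc R * P⁻¹ * g * (R * P⁻¹)⁻¹ = R * (P⁻¹ * (g * P)) * R⁻¹ := by group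
    _ = R * J * R⁻¹ := by rw [e1, inv_mul_cancel_left]
    _ = h := by rw [← e2, mul_inv_cancel_right]

/-- Let L₁ ≅ SL₂(q₁) and L₂ ≅ SL₂(q₂), q₁ and q₂ odd, be elementwise-commuting subgroups of a finite group meeting in ⟨j⟩ for an involution j. Then L₁L₂ has exactly two conjugacy classes of involutions: the central involution j, and one further class (there is an involution x ≠ j in L₁L₂, and every involution of L₁L₂ other than j is conjugate to x by an element of L₁L₂). -/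
theorem result {G : Type*} [Group G] [Finite G]
    {F₁ : Type*} [Field F₁] [Fintype F₁] {F₂ : Type*} [Field F₂] [Fintype F₂]
    (hF₁ : Odd (Fintype.card F₁)) (hF₂ : Odd (Fintype.card F₂)) (L₁ L₂ : Subgroup G)
    (e₁ : ↥L₁ ≃* Matrix.SpecialLinearGroup (Fin 2) F₁) (e₂ : ↥L₂ ≃* Matrix.SpecialLinearGroup (Fin 2) F₂)
    (hc : ∀ x ∈ L₁, ∀ y ∈ L₂, x * y = y * x) (j : G) (hj : orderOf j = 2) (hm : L₁ ⊓ L₂ = Subgroup.zpowers j) :
    ∃ x ∈ L₁ ⊔ L₂, orderOf x = 2 ∧ x ≠ j ∧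
      ∀ y ∈ L₁ ⊔ L₂, orderOf y = 2 → y = j ∨ ∃ g ∈ L₁ ⊔ L₂, g * x * g⁻¹ = y := by
  have h21 := two_ne hF₁
  have h22 := two_ne hF₂
  have hj2 : j * j = 1 := by rw [← pow_two, ← hj, pow_orderOf_eq_one]
  have hj1 : j ≠ 1 := fun h => by rw [h, orderOf_one] at hj; norm_num at hj
  have hjm : j ∈ L₁ ∧ j ∈ L₂ := Subgroup.mem_inf.1 (hm ▸ Subgroup.mem_zpowers j)
  have hjj : ∀ x ∈ L₁ ⊓ L₂, x = 1 ∨ x = j := fun x hx => by
    rw [hm] at hx
    obtain ⟨i, rfl⟩ := Subgroup.mem_zpowers_iff.1 hx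
    have h2 : j ^ (2 : ℤ) = 1 := by rw [zpow_two, hj2]
    rcases Int.even_or_odd i with ⟨l, rfl⟩ | ⟨l, rfl⟩
    · exact Or.inl (by rw [← two_mul, zpow_mul, h2, one_zpow])
    · exact Or.inr (by rw [zpow_add, zpow_mul, h2, one_zpow, one_mul, zpow_one])
  -- transporting the two facts about `SL(2, q)`
  have hneg1 : e₁ ⟨j, hjm.1⟩ = -1 := (eq_one_or_neg h21 (by
    rw [← map_mul, show (⟨j, hjm.1⟩ * ⟨j, hjm.1⟩ : L₁) = 1 from Subtype.ext hj2, map_one])).resolve_left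
    fun h => hj1 (congrArg Subtype.val (e₁.map_eq_one_iff.1 h))
  have hneg2 : e₂ ⟨j, hjm.2⟩ = -1 := (eq_one_or_neg h22 (by
    rw [← map_mul, show (⟨j, hjm.2⟩ * ⟨j, hjm.2⟩ : L₂) = 1 from Subtype.ext hj2, map_one])).resolve_left
    fun h => hj1 (congrArg Subtype.val (e₂.map_eq_one_iff.1 h))
  have hsq1 : ∀ a : G, a ∈ L₁ → a * a = 1 → a = 1 ∨ a = j := fun a ha h => by
    rcases eq_one_or_neg h21 (x := e₁ ⟨a, ha⟩) (by
      rw [← map_mul, show (⟨a, ha⟩ * ⟨a, ha⟩ : L₁) = 1 from Subtype.ext h, map_one]) with h' | h'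
    · exact Or.inl (congrArg Subtype.val (e₁.map_eq_one_iff.1 h'))
    · exact Or.inr (congrArg Subtype.val (e₁.injective (h'.trans hneg1.symm)))
  have hsq2 : ∀ a : G, a ∈ L₂ → a * a = 1 → a = 1 ∨ a = j := fun a ha h => by
    rcases eq_one_or_neg h22 (x := e₂ ⟨a, ha⟩) (by
      rw [← map_mul, show (⟨a, ha⟩ * ⟨a, ha⟩ : L₂) = 1 from Subtype.ext h, map_one]) with h' | h'
    · exact Or.inl (congrArg Subtype.val (e₂.map_eq_one_iff.1 h'))
    · exact Or.inr (congrArg Subtype.val (e₂.injective (h'.trans hneg2.symm)))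
  let J₁ : Matrix.SpecialLinearGroup (Fin 2) F₁ := ⟨!![0, -1; 1, 0], by simp [Matrix.det_fin_two_of]⟩
  let J₂ : Matrix.SpecialLinearGroup (Fin 2) F₂ := ⟨!![0, -1; 1, 0], by simp [Matrix.det_fin_two_of]⟩
  have hJ₁ : J₁ * J₁ = -1 := by
    refine Subtype.ext ?_
    show (!![0, -1; 1, 0] : Matrix (Fin 2) (Fin 2) F₁) * !![0, -1; 1, 0] = -1
    ext i k; fin_cases i <;> fin_cases k <;> simp [Matrix.mul_apply, Fin.sum_univ_two]
  have hJ₂ : J₂ * J₂ = -1 := by
    refine Subtype.ext ?_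
    show (!![0, -1; 1, 0] : Matrix (Fin 2) (Fin 2) F₂) * !![0, -1; 1, 0] = -1
    ext i k; fin_cases i <;> fin_cases k <;> simp [Matrix.mul_apply, Fin.sum_univ_two]
  set a := e₁.symm J₁ with hadef
  set b := e₂.symm J₂ with hbdef
  have ha2 : (a : G) * a = j := congrArg Subtype.val (e₁.injective (a₁ := a * a) (a₂ := ⟨j, hjm.1⟩)
    (by rw [map_mul, hadef, MulEquiv.apply_symm_apply, hJ₁, hneg1]))
  have hb2 : (b : G) * b = j := congrArg Subtype.val (e₂.injective (a₁ := b * b) (a₂ := ⟨j, hjm.2⟩)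
    (by rw [map_mul, hbdef, MulEquiv.apply_symm_apply, hJ₂, hneg2]))
  have hmulsq : ∀ u ∈ L₁, ∀ v ∈ L₂, (u * v) * (u * v) = (u * u) * (v * v) := fun u hu v hv =>
    Commute.mul_mul_mul_comm (hc u hu v hv).symm u v
  set x := (a : G) * b with hxdef
  have hxj : x ≠ j := fun h => by
    have hmem : (a : G) ∈ L₁ ⊓ L₂ := Subgroup.mem_inf.2 ⟨a.2, by
      rw [show (a : G) = j * (b : G)⁻¹ by rw [← h, hxdef, mul_inv_cancel_right]]
      exact mul_mem hjm.2 (inv_mem b.2)⟩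
    rcases hjj _ hmem with h' | h' <;> rw [h'] at ha2
    · rw [one_mul] at ha2; exact hj1 ha2.symm
    · exact hj1 (hj2 ▸ ha2).symm
  have hx2 : x * x = 1 := by rw [hxdef, hmulsq _ a.2 _ b.2, ha2, hb2, hj2]
  have hx1 : x ≠ 1 := fun h => by
    have hmem : (a : G) ∈ L₁ ⊓ L₂ := Subgroup.mem_inf.2 ⟨a.2, by
      rw [show (a : G) = (b : G)⁻¹ from eq_inv_of_mul_eq_one_left h]
      exact inv_mem b.2⟩
    rcases hjj _ hmem with h' | h' <;> rw [h'] at ha2
    · rw [one_mul] at ha2; exact hj1 ha2.symm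
    · exact hj1 (hj2 ▸ ha2).symm
  haveI : Fact (Nat.Prime 2) := ⟨Nat.prime_two⟩
  refine ⟨x, mul_mem (Subgroup.mem_sup_left a.2) (Subgroup.mem_sup_right b.2),
    orderOf_eq_prime (by rw [pow_two, hx2]) hx1, hxj, fun y hy hy2 => ?_⟩
  let P : Subgroup G :=
    { carrier := {g | ∃ u ∈ L₁, ∃ v ∈ L₂, u * v = g}
      one_mem' := ⟨1, one_mem _, 1, one_mem _, one_mul 1⟩
      mul_mem' := by
        rintro _ _ ⟨u, hu, v, hv, rfl⟩ ⟨u', hu', v', hv', rfl⟩
        exact ⟨u * u', mul_mem hu hu', v * v', mul_mem hv hv',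
          (Commute.mul_mul_mul_comm (hc u' hu' v hv).symm u v').symm⟩
      inv_mem' := by
        rintro _ ⟨u, hu, v, hv, rfl⟩
        exact ⟨u⁻¹, inv_mem hu, v⁻¹, inv_mem hv,
          by rw [mul_inv_rev, hc u⁻¹ (inv_mem hu) v⁻¹ (inv_mem hv)]⟩ }
  have hle : L₁ ⊔ L₂ ≤ P := sup_le (fun g hg => ⟨g, hg, 1, one_mem _, mul_one g⟩)
    fun g hg => ⟨1, one_mem _, g, hg, one_mul g⟩
  obtain ⟨u, hu, v, hv, rfl⟩ := hle hy
  have hy' : (u * u) * (v * v) = 1 := by rw [← hmulsq u hu v hv, ← pow_two, ← hy2, pow_orderOf_eq_one]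
  have huu : u * u ∈ L₁ ⊓ L₂ := Subgroup.mem_inf.2 ⟨mul_mem hu hu, by
    rw [eq_inv_of_mul_eq_one_left hy']; exact inv_mem (mul_mem hv hv)⟩
  rcases hjj _ huu with h1 | h1
  · left
    rw [h1, one_mul] at hy'
    rcases hsq1 u hu h1 with rfl | rfl <;> rcases hsq2 v hv hy' with rfl | rfl
    · rw [mul_one, orderOf_one] at hy2; norm_num at hy2
    · rw [one_mul]
    · rw [mul_one]
    · rw [hj2, orderOf_one] at hy2; norm_num at hy2
  · right
    have h2 : v * v = j := by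
      rw [h1] at hy'
      rw [← inv_eq_of_mul_eq_one_right hy', inv_eq_of_mul_eq_one_right hj2]
    obtain ⟨k₁, hk₁⟩ := conj_of_sq_neg_one hF₁ hJ₁ (h := e₁ ⟨u, hu⟩) (by
      rw [← map_mul, show (⟨u, hu⟩ * ⟨u, hu⟩ : L₁) = ⟨j, hjm.1⟩ from Subtype.ext h1, hneg1])
    obtain ⟨k₂, hk₂⟩ := conj_of_sq_neg_one hF₂ hJ₂ (h := e₂ ⟨v, hv⟩) (by
      rw [← map_mul, show (⟨v, hv⟩ * ⟨v, hv⟩ : L₂) = ⟨j, hjm.2⟩ from Subtype.ext h2, hneg2])
    have hk₁' : (e₁.symm k₁ : G) * a * (e₁.symm k₁ : G)⁻¹ = u := by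
      have h3 := congrArg (fun t => (e₁.symm t : G)) hk₁
      simpa only [map_mul, map_inv, MulEquiv.symm_apply_apply, Subgroup.coe_mul, Subgroup.coe_inv] using h3
    have hk₂' : (e₂.symm k₂ : G) * b * (e₂.symm k₂ : G)⁻¹ = v := by
      have h3 := congrArg (fun t => (e₂.symm t : G)) hk₂
      simpa only [map_mul, map_inv, MulEquiv.symm_apply_apply, Subgroup.coe_mul, Subgroup.coe_inv] using h3
    set k := (e₁.symm k₁ : G) with hkdef
    set l := (e₂.symm k₂ : G) with hldef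
    refine ⟨k * l, mul_mem (Subgroup.mem_sup_left (e₁.symm k₁).2) (Subgroup.mem_sup_right (e₂.symm k₂).2), ?_⟩
    have c1 : Commute (a : G) l := hc _ a.2 _ (e₂.symm k₂).2
    have c2 : Commute k⁻¹ (l * (b : G) * l⁻¹) :=
      hc _ (inv_mem (e₁.symm k₁).2) _
        (mul_mem (mul_mem (e₂.symm k₂).2 b.2) (inv_mem (e₂.symm k₂).2))
    calc k * l * ((a : G) * b) * (k * l)⁻¹ = k * (l * a) * b * l⁻¹ * k⁻¹ := by group
      _ = k * a * ((l * b * l⁻¹) * k⁻¹) := by rw [← c1.eq]; group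
      _ = (k * a * k⁻¹) * (l * b * l⁻¹) := by rw [← c2.eq]; group
      _ = u * v := by rw [hk₁', hk₂']

end Cfsg.Agent.S3209
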