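import Cfsg.Statements.S3210
import Cfsg.Agent.Lib.Classical.SLNormal
import Cfsg.Agent.Lib.Classical.SLTwoSmall
import Cfsg.Agent.Lib.Fus.PSLTwo
-- import your own Cfsg.Agent.* helpers here

set_option autoImplicit false
open Cfsg

namespace Cfsg.Agent.S3210

theorem q8_conj : ∀ a : Matrix.SpecialLinearGroup (Fin 2) (ZMod 3), a ^ 4 = 1 → a ^ 2 ≠ 1 →
    ∃ g, g * a * g⁻¹ = Classical.SLTwoSmall.qi := by decide +kernel

theorem q8_comm : ∀ x : Matrix.SpecialLinearGroup (Fin 2) (ZMod 3), x ≠ 1 → x ≠ -1 →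
    ∃ g, (x * (g * x⁻¹ * g⁻¹)) ^ 4 = 1 ∧ (x * (g * x⁻¹ * g⁻¹)) ^ 2 ≠ 1 := by decide +kernel

theorem qi_noncentral : ¬ ∀ h, h * Classical.SLTwoSmall.qi = Classical.SLTwoSmall.qi * h := by
  decide +kernel

theorem qi_mem (N : Subgroup (Matrix.SpecialLinearGroup (Fin 2) (ZMod 3))) (hn : N.Normal)
    (hN : ¬ N ≤ Subgroup.center _) : Classical.SLTwoSmall.qi ∈ N := by
  obtain ⟨x, hx, hxc⟩ := SetLike.not_le_iff_exists.1 hN
  have h := mt (Classical.SLTwoSmall.center_iff x).2 (fun h => hxc (Subgroup.mem_center_iff.2 h))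
  push Not at h
  obtain ⟨g, h4, h2⟩ := q8_comm x h.1 h.2
  obtain ⟨k, hk⟩ := q8_conj _ h4 h2
  rw [← hk]
  exact hn.conj_mem _ (N.mul_mem hx (hn.conj_mem _ (N.inv_mem hx) g)) k

theorem inf_noncentral {F : Type*} [Field F] [Fintype F] (hodd : Odd (Fintype.card F))
    {L : Type*} [Group L] (e : L ≃* Matrix.SpecialLinearGroup (Fin 2) F)
    (A B : Subgroup L) [A.Normal] [B.Normal]
    (hA : ¬ A ≤ Subgroup.center L) (hB : ¬ B ≤ Subgroup.center L) :
    ¬ (A ⊓ B) ≤ Subgroup.center L ∧ (3 < Fintype.card F → A = ⊤) := by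
  by_cases hq : 3 < Fintype.card F
  · haveI := Classical.PSL_isSimple (F := F) (n := 2) le_rfl (fun _ => hq)
    have hperf : commutator (Matrix.SpecialLinearGroup (Fin 2) F) = ⊤ :=
      Classical.SL_commutator_eq_top (fun _ => Classical.exists_sq_ne_one_field hq)
    have top : ∀ N : Subgroup L, N.Normal → ¬ N ≤ Subgroup.center L → N = ⊤ := fun N hn hN => by
      haveI := hn
      haveI : (N.map e.toMonoidHom).Normal := hn.map e.toMonoidHom e.surjective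
      have h2 := Classical.SL_normal_eq_top hperf (N.map e.toMonoidHom) fun hc => hN fun x hx => by
        have h3 := hc (Subgroup.mem_map_of_mem _ hx)
        rw [Subgroup.mem_center_iff] at h3 ⊢
        exact fun y => e.injective (by simpa using h3 (e y))
      exact (Subgroup.map_injective (f := e.toMonoidHom) e.injective) (h2.trans
        (Subgroup.map_top_of_surjective e.toMonoidHom e.surjective).symm)
    rw [top A ‹_› hA, top B ‹_› hB]
    exact ⟨fun h => hA (le_top.trans (by simpa using h)), fun _ => rfl⟩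
  · obtain ⟨k, hk⟩ := hodd
    have h1 := Fintype.one_lt_card (α := F)
    have h3 : Fintype.card F = 3 := by omega
    haveI : Fact (Nat.Prime 3) := ⟨Nat.prime_three⟩
    let r : F ≃+* ZMod 3 := FiniteField.ringEquivOfCardEq (by rw [h3, ZMod.card])
    let f : L ≃* Matrix.SpecialLinearGroup (Fin 2) (ZMod 3) :=
      e.trans (Classical.SLTwoSmall.mapEquiv r 2)
    have key : ∀ N : Subgroup L, N.Normal → ¬ N ≤ Subgroup.center L →
        f.symm Classical.SLTwoSmall.qi ∈ N := fun N hn hN => by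
      have h2 := qi_mem (N.map f.toMonoidHom) (hn.map f.toMonoidHom f.surjective) fun hc => hN fun x hx => by
        have h3 := hc (Subgroup.mem_map_of_mem _ hx)
        rw [Subgroup.mem_center_iff] at h3 ⊢
        exact fun y => f.injective (by simpa using h3 (f y))
      obtain ⟨x, hx, hxe⟩ := h2
      have : f.symm Classical.SLTwoSmall.qi = x := by rw [← hxe]; exact f.symm_apply_apply x
      rwa [this]
    refine ⟨fun h => ?_, fun h => absurd h hq⟩
    have h4 := h ⟨key A ‹_› hA, key B ‹_› hB⟩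
    rw [Subgroup.mem_center_iff] at h4
    exact qi_noncentral fun y => by
      have := congrArg f (h4 (f.symm y))
      simpa using this

theorem card_sl_inj {a b : ℕ} (ha : 1 ≤ a) (hb : 1 ≤ b)
    (h : a * ((a - 1) * (a + 1)) = b * ((b - 1) * (b + 1))) : a = b := by
  have mono : ∀ x y : ℕ, 1 ≤ x → x < y → x * ((x - 1) * (x + 1)) < y * ((y - 1) * (y + 1)) :=
    fun x y hx hxy => lt_of_le_of_lt (Nat.mul_le_mul_left x (Nat.mul_le_mul (by omega) (by omega)))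
      (Nat.mul_lt_mul_of_pos_right hxy (Nat.mul_pos (by omega : 0 < y - 1) (by omega : 0 < y + 1)))
  rcases lt_trichotomy a b with h1 | h1 | h1
  · exact absurd h (mono a b ha h1).ne
  · exact h1
  · exact absurd h (mono b a hb h1).ne'

theorem center_eq {G : Type*} [Group G] [Finite G] {F : Type*} [Field F] [Fintype F]
    (ho : Odd (Fintype.card F)) (L : Subgroup G) (e : ↥L ≃* Matrix.SpecialLinearGroup (Fin 2) F)
    (j : G) (hj : orderOf j = 2) (hjL : j ∈ L) (hjc : ∀ y ∈ L, y * j = j * y)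
    (x : G) (hx : x ∈ L) (hxc : ∀ y ∈ L, y * x = x * y) : x ∈ Subgroup.zpowers j := by
  have h2 : Nat.card (Subgroup.center ↥L) = 2 := by
    rw [Nat.card_congr (Subgroup.centerCongr e).toEquiv, Classical.natCard_center_SL,
      Nat.card_units, Nat.card_eq_fintype_card]
    obtain ⟨k, hk⟩ := ho
    rw [hk, Nat.max_eq_left (by norm_num)]
    exact Nat.gcd_eq_left ⟨k, by omega⟩
  have hle : Subgroup.zpowers (⟨j, hjL⟩ : L) ≤ Subgroup.center ↥L :=
    Subgroup.zpowers_le.2 (Subgroup.mem_center_iff.2 fun y => Subtype.ext (hjc y y.2))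
  have heq := Subgroup.eq_of_le_of_card_ge hle (by
    rw [h2, Nat.card_zpowers, Subgroup.orderOf_mk, hj])
  have : (⟨x, hx⟩ : L) ∈ Subgroup.zpowers (⟨j, hjL⟩ : L) := by
    rw [heq]; exact Subgroup.mem_center_iff.2 fun y => Subtype.ext (hxc y y.2)
  obtain ⟨i, hi⟩ := this
  exact ⟨i, congrArg Subtype.val hi⟩

theorem central_meet {G : Type*} [Group G] [Finite G] {F : Type*} [Field F] [Fintype F]
    (ho : Odd (Fintype.card F)) (L : Subgroup G) (e : ↥L ≃* Matrix.SpecialLinearGroup (Fin 2) F)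
    (K M : Subgroup G) (j : G) (hj : orderOf j = 2) (hjc : ∀ m ∈ M, m * j = j * m)
    (hLM : L ≤ M) (hKM : K ≤ M) (hKn : ∀ m ∈ M, ∀ x ∈ K, m * x * m⁻¹ ∈ K)
    (hLn : ∀ m ∈ M, ∀ x ∈ L, m * x * m⁻¹ ∈ L) (hKL : K ⊓ L ≤ Subgroup.zpowers j)
    (x : G) (hx : x ∈ K) (y : G) (hy : y ∈ L) : x * y = y * x := by
  have hcomm : ∀ y ∈ L, x * y * x⁻¹ * y⁻¹ ∈ Subgroup.zpowers j := fun y hy => hKL ⟨by
    rw [show x * y * x⁻¹ * y⁻¹ = x * (y * x⁻¹ * y⁻¹) by group]
    exact K.mul_mem hx (hKn y (hLM hy) _ (K.inv_mem hx)), L.mul_mem (hLn x (hKM hx) y hy) (L.inv_mem hy)⟩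
  let φ : ↥L →* G :=
    { toFun := fun y => x * (y : G) * x⁻¹ * (y : G)⁻¹
      map_one' := by simp
      map_mul' := fun a b => by
        obtain ⟨i, hi⟩ := hcomm b b.2
        have hcom : Commute ((a : G)) (j ^ i) := (Commute.zpow_right (hjc a (hLM a.2)) i)
        have : (a : G) * (x * (b : G) * x⁻¹ * (b : G)⁻¹) = (x * (b : G) * x⁻¹ * (b : G)⁻¹) * a := by
          simp only at hi; rw [← hi]; exact hcom.eq
        calc x * ((a * b : ↥L) : G) * x⁻¹ * ((a * b : ↥L) : G)⁻¹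
            = (x * (a : G) * x⁻¹ * (a : G)⁻¹) * ((a : G) * (x * (b : G) * x⁻¹ * (b : G)⁻¹)) * (a : G)⁻¹ := by
              rw [Subgroup.coe_mul]; group
          _ = _ := by rw [this]; group }
  have hrange : φ.range ≤ Subgroup.zpowers j := by
    rintro _ ⟨z, rfl⟩; exact hcomm z z.2
  have hsq : ∀ z : ↥L, φ (z ^ 2) = 1 := fun z => by
    obtain ⟨i, hi⟩ := hrange ⟨z, rfl⟩
    rw [map_pow, ← hi]
    have : j ^ 2 = 1 := hj ▸ pow_orderOf_eq_one j
    show (j ^ i) ^ 2 = 1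
    rw [← zpow_natCast, ← zpow_mul, mul_comm, zpow_mul, zpow_natCast, this, _root_.one_zpow]
  have htop : (φ.comp e.symm.toMonoidHom).ker = ⊤ := by
    rw [← top_le_iff, ← Classical.SL_closure_transvections, Subgroup.closure_le]
    rintro g ⟨⟨i, k, hik, c⟩, rfl⟩
    haveI : NeZero (2 : F) := ⟨Fus.PSLTwo.two_ne_zero_of_odd (Nat.odd_iff.1 ho)⟩
    refine MonoidHom.mem_ker.2 ?_
    have hs : (Matrix.TransvectionStruct.mk i k hik c).toSpecialLinearGroup =
        (Matrix.TransvectionStruct.mk i k hik (c / 2)).toSpecialLinearGroup ^ 2 := by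
      refine Subtype.ext ?_
      rw [pow_two, Matrix.SpecialLinearGroup.coe_mul]
      show Matrix.transvection i k c = Matrix.transvection i k (c / 2) * Matrix.transvection i k (c / 2)
      rw [Matrix.transvection_mul_transvection_same _ _ hik, add_halves]
    rw [hs, MonoidHom.comp_apply, map_pow]
    exact hsq _
  have hz : e ⟨y, hy⟩ ∈ (φ.comp e.symm.toMonoidHom).ker := by rw [htop]; trivial
  have h1 : x * y * x⁻¹ * y⁻¹ = 1 := by
    have := MonoidHom.mem_ker.1 hz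
    simp only [MonoidHom.comp_apply, MulEquiv.coe_toMonoidHom, MulEquiv.symm_apply_apply] at this
    exact this
  exact commutatorElement_eq_one_iff_mul_comm.1 h1

/-- Conjugation facts for the pair. -/
theorem pair_main {G : Type*} [Group G] [Finite G]
    {F₁ : Type*} [Field F₁] [Fintype F₁] {F₂ : Type*} [Field F₂] [Fintype F₂]
    (hF₁ : Odd (Fintype.card F₁)) (hF₂ : Odd (Fintype.card F₂)) (L₁ L₂ K : Subgroup G)
    (e₁ : ↥L₁ ≃* Matrix.SpecialLinearGroup (Fin 2) F₁) (e₂ : ↥L₂ ≃* Matrix.SpecialLinearGroup (Fin 2) F₂)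
    (eK : ↥K ≃* Matrix.SpecialLinearGroup (Fin 2) F₁)
    (hc : ∀ x ∈ L₁, ∀ y ∈ L₂, x * y = y * x) (j : G) (hj : orderOf j = 2)
    (hm : L₁ ⊓ L₂ = Subgroup.zpowers j) (hKM : K ≤ L₁ ⊔ L₂) (hjK : j ∈ K)
    (hKn : ∀ m ∈ L₁ ⊔ L₂, ∀ x ∈ K, m * x * m⁻¹ ∈ K) : K = L₁ ∨ K = L₂ := by
  have hcard : Nat.card ↥K = Nat.card ↥L₁ :=
    Nat.card_congr (eK.trans e₁.symm).toEquiv
  -- elements of the product
  have hprod : ∀ m ∈ L₁ ⊔ L₂, ∃ a ∈ L₁, ∃ b ∈ L₂, a * b = m := by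
    intro m hm'
    rw [← SetLike.mem_coe, Subgroup.coe_mul_of_left_le_normalizer_right] at hm'
    · exact hm'
    · intro x hx
      rw [Subgroup.mem_normalizer_iff]
      intro y
      constructor
      · intro hy; rw [hc x hx y hy, mul_inv_cancel_right]; exact hy
      · intro hy
        have := hc x hx _ hy
        have e : y = x⁻¹ * ((x * y * x⁻¹) * x) := by group
        rw [e, ← this, inv_mul_cancel_left]; exact hy
  have hnorm1 : ∀ m ∈ L₁ ⊔ L₂, ∀ x ∈ L₁, m * x * m⁻¹ ∈ L₁ := by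
    intro m hm' x hx
    obtain ⟨a, ha, b, hb, rfl⟩ := hprod m hm'
    rw [show a * b * x * (a * b)⁻¹ = a * (b * x * b⁻¹) * a⁻¹ by group, ← hc x hx b hb,
      mul_inv_cancel_right]
    exact L₁.mul_mem (L₁.mul_mem ha hx) (L₁.inv_mem ha)
  have hnorm2 : ∀ m ∈ L₁ ⊔ L₂, ∀ x ∈ L₂, m * x * m⁻¹ ∈ L₂ := by
    intro m hm' x hx
    obtain ⟨a, ha, b, hb, rfl⟩ := hprod m hm'
    rw [show a * b * x * (a * b)⁻¹ = a * (b * x * b⁻¹) * a⁻¹ by group,
      hc a ha _ (L₂.mul_mem (L₂.mul_mem hb hx) (L₂.inv_mem hb)), mul_inv_cancel_right]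
    exact L₂.mul_mem (L₂.mul_mem hb hx) (L₂.inv_mem hb)
  have hjm : j ∈ L₁ ∧ j ∈ L₂ := Subgroup.mem_inf.1 (hm ▸ Subgroup.mem_zpowers j)
  have hjc : ∀ m ∈ L₁ ⊔ L₂, m * j = j * m := by
    intro m hm'
    obtain ⟨a, ha, b, hb, rfl⟩ := hprod m hm'
    rw [mul_assoc, ← hc j hjm.1 b hb, ← mul_assoc, hc a ha j hjm.2, mul_assoc]
  have h1M : L₁ ≤ L₁ ⊔ L₂ := le_sup_left
  have h2M : L₂ ≤ L₁ ⊔ L₂ := le_sup_right
  have hK1 : j ∈ L₁ := hjm.1
  -- centralizer of one factor inside the product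
  have cent : ∀ x ∈ L₁ ⊔ L₂, ((∀ y ∈ L₂, x * y = y * x) → x ∈ L₁) ∧ ((∀ y ∈ L₁, x * y = y * x) → x ∈ L₂) := by
    intro x hx
    obtain ⟨a, ha, b, hb, rfl⟩ := hprod x hx
    refine ⟨fun h => L₁.mul_mem ha ?_, fun h => L₂.mul_mem ?_ hb⟩
    · have := center_eq hF₂ L₂ e₂ j hj hjm.2 (fun y hy => hjc y (h2M hy)) b hb fun y hy => by
        have h' := h y hy
        rw [mul_assoc, ← mul_assoc y, ← hc a ha y hy, mul_assoc] at h'
        exact (mul_left_cancel h').symm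
      exact (hm ▸ this : b ∈ L₁ ⊓ L₂).1
    · have := center_eq hF₁ L₁ e₁ j hj hjm.1 (fun y hy => hjc y (h1M hy)) a ha fun y hy => by
        have h' := h y hy
        rw [mul_assoc, ← hc y hy b hb, ← mul_assoc, ← mul_assoc] at h'
        exact (mul_right_cancel h').symm
      exact (hm ▸ this : a ∈ L₁ ⊓ L₂).2
  by_cases h2 : K ⊓ L₂ ≤ Subgroup.zpowers j
  · left
    exact Subgroup.eq_of_le_of_card_ge
      (fun x hx => (cent x (hKM hx)).1 (central_meet hF₂ L₂ e₂ K (L₁ ⊔ L₂) j hj hjc h2M hKM hKn hnorm2 h2 x hx)) hcard.ge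
  have h1 : K ⊓ L₁ ≤ Subgroup.zpowers j := by
    by_contra h1
    haveI : ((L₁).subgroupOf K).Normal := ⟨fun z hz g => hnorm1 g (hKM g.2) z hz⟩
    haveI : ((L₂).subgroupOf K).Normal := ⟨fun z hz g => hnorm2 g (hKM g.2) z hz⟩
    have nc : ∀ L : Subgroup G, ¬ K ⊓ L ≤ Subgroup.zpowers j →
        ¬ L.subgroupOf K ≤ Subgroup.center ↥K := fun L hL h => hL fun z hz =>
      center_eq hF₁ K eK j hj hjK (fun y hy => hjc y (hKM hy)) z hz.1 fun y hy =>
        congrArg Subtype.val (Subgroup.mem_center_iff.1 (h (show (⟨z, hz.1⟩ : K) ∈ L.subgroupOf K from hz.2)) ⟨y, hy⟩)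
    refine (inf_noncentral hF₁ eK _ _ (nc L₁ h1) (nc L₂ h2)).1 fun z hz => ?_
    obtain ⟨i, hi⟩ := (hm ▸ (⟨hz.1, hz.2⟩ : (z : G) ∈ L₁ ⊓ L₂) : (z : G) ∈ Subgroup.zpowers j)
    refine Subgroup.mem_center_iff.2 fun y => Subtype.ext ?_
    simp only [Subgroup.coe_mul]
    rw [← hi]
    exact (Commute.zpow_right (hjc y (hKM y.2)) i).eq
  right
  have hKL : K ≤ L₂ := fun x hx => (cent x (hKM hx)).2 (central_meet hF₁ L₁ e₁ K (L₁ ⊔ L₂) j hj hjc h1M hKM hKn hnorm1 h1 x hx)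
  haveI : (K.subgroupOf L₂).Normal := ⟨fun z hz g => hKn g (h2M g.2) z hz⟩
  have hnc : ¬ K.subgroupOf L₂ ≤ Subgroup.center ↥L₂ := fun h => h2 fun z hz =>
    center_eq hF₂ L₂ e₂ j hj hjm.2 (fun y hy => hjc y (h2M hy)) z hz.2 fun y hy =>
      congrArg Subtype.val (Subgroup.mem_center_iff.1 (h (show (⟨z, hz.2⟩ : L₂) ∈ K.subgroupOf L₂ from hz.1)) ⟨y, hy⟩)
  by_cases hq : 3 < Fintype.card F₂
  · refine le_antisymm hKL fun z hz => ?_
    have h5 : (⟨z, hz⟩ : L₂) ∈ K.subgroupOf L₂ := by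
      rw [(inf_noncentral hF₂ e₂ _ _ hnc hnc).2 hq]; trivial
    exact h5
  · refine Subgroup.eq_of_le_of_card_ge hKL ?_
    rw [Nat.card_congr e₂.toEquiv, Nat.card_congr eK.toEquiv, Fus.PSLTwo.natCard_SL_two,
      Fus.PSLTwo.natCard_SL_two]
    obtain ⟨a, ha⟩ := hF₁
    obtain ⟨b, hb⟩ := hF₂
    have h11 := Fintype.one_lt_card (α := F₁)
    have h22 := Fintype.one_lt_card (α := F₂)
    exact Nat.mul_le_mul (by omega) (Nat.mul_le_mul (by omega) (by omega))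

/-- Let G be a finite group with subgroups L₁ ≅ SL₂(q₁) and L₂ ≅ SL₂(q₂), q₁ and q₂ odd prime powers, which commute elementwise and meet in ⟨j⟩ for an involution j, and suppose L₁L₂ has index 2 in C_G(j). Then every element n of C_G(j) outside L₁L₂ either normalizes both L₁ and L₂, or conjugates L₁ onto L₂; in the second case q₁ = q₂ and there is an element n′ of C_G(j) outside L₁L₂ conjugating L₁ onto L₂ with n′² ∈ ⟨j⟩. -/
theorem result {G : Type*} [Group G] [Finite G]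
    {F₁ : Type*} [Field F₁] [Fintype F₁] {F₂ : Type*} [Field F₂] [Fintype F₂]
    (hF₁ : Odd (Fintype.card F₁)) (hF₂ : Odd (Fintype.card F₂)) (L₁ L₂ : Subgroup G)
    (e₁ : ↥L₁ ≃* Matrix.SpecialLinearGroup (Fin 2) F₁) (e₂ : ↥L₂ ≃* Matrix.SpecialLinearGroup (Fin 2) F₂)
    (hc : ∀ x ∈ L₁, ∀ y ∈ L₂, x * y = y * x) (j : G) (hj : orderOf j = 2) (hm : L₁ ⊓ L₂ = Subgroup.zpowers j)
    (hle : L₁ ⊔ L₂ ≤ Subgroup.centralizer ({j} : Set G)) (hi : (L₁ ⊔ L₂).relIndex (Subgroup.centralizer ({j} : Set G)) = 2) (n : G) (hn : n ∈ Subgroup.centralizer ({j} : Set G)) (hn' : n ∉ L₁ ⊔ L₂) :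
    (L₁.map (MulAut.conj n).toMonoidHom = L₁ ∧ L₂.map (MulAut.conj n).toMonoidHom = L₂) ∨
      (L₁.map (MulAut.conj n).toMonoidHom = L₂ ∧ Fintype.card F₁ = Fintype.card F₂ ∧
        ∃ n' ∈ Subgroup.centralizer ({j} : Set G), n' ∉ L₁ ⊔ L₂ ∧ L₁.map (MulAut.conj n').toMonoidHom = L₂ ∧ n' ^ 2 ∈ Subgroup.zpowers j) := by
  set M := L₁ ⊔ L₂ with hM
  have hCj := hi
  haveI : (M.subgroupOf (Subgroup.centralizer ({j} : Set G))).Normal :=
    Subgroup.normal_of_index_eq_two hi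
  have hMn : ∀ c ∈ Subgroup.centralizer ({j} : Set G), ∀ m ∈ M, c * m * c⁻¹ ∈ M := fun c hc' m hm' =>
    Subgroup.Normal.conj_mem (H := M.subgroupOf (Subgroup.centralizer ({j} : Set G))) inferInstance
      ⟨m, hle hm'⟩ hm' ⟨c, hc'⟩
  have hjn : ∀ c ∈ Subgroup.centralizer ({j} : Set G), c * j * c⁻¹ = j := fun c hc' => by
    rw [← Subgroup.mem_centralizer_iff.1 hc' j rfl, mul_inv_cancel_right]
  have hsq : n ^ 2 ∈ M := by
    have := Subgroup.sq_mem_of_index_two (H := M.subgroupOf (Subgroup.centralizer ({j} : Set G))) hi ⟨n, hn⟩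
    exact this
  have hjm : j ∈ L₁ ∧ j ∈ L₂ := Subgroup.mem_inf.1 (hm ▸ Subgroup.mem_zpowers j)
  have hc' : ∀ x ∈ L₂, ∀ y ∈ L₁, x * y = y * x := fun x hx y hy => (hc y hy x hx).symm
  -- images of the factors
  have key : ∀ (L : Subgroup G), L ≤ M → j ∈ L → (∀ m ∈ M, ∀ x ∈ L, m * x * m⁻¹ ∈ L) →
      (L.map (MulAut.conj n).toMonoidHom ≤ M ∧ j ∈ L.map (MulAut.conj n).toMonoidHom ∧
       (∀ m ∈ M, ∀ x ∈ L.map (MulAut.conj n).toMonoidHom, m * x * m⁻¹ ∈ L.map (MulAut.conj n).toMonoidHom)) := by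
    intro L hLM hjL hLn
    refine ⟨?_, ⟨j, hjL, hjn n hn⟩, ?_⟩
    · rintro _ ⟨x, hx, rfl⟩
      exact hMn n hn x (hLM hx)
    · rintro m hm' _ ⟨x, hx, rfl⟩
      refine ⟨(n⁻¹ * m * n) * x * (n⁻¹ * m * n)⁻¹, hLn _ ?_ x hx, ?_⟩
      · simpa using hMn n⁻¹ (Subgroup.inv_mem _ hn) m hm'
      · show n * ((n⁻¹ * m * n) * x * (n⁻¹ * m * n)⁻¹) * n⁻¹ = m * (n * x * n⁻¹) * m⁻¹
        group
  have hprod : ∀ m ∈ M, ∃ a ∈ L₁, ∃ b ∈ L₂, a * b = m := by
    intro m hm'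
    rw [hM, ← SetLike.mem_coe, Subgroup.coe_mul_of_left_le_normalizer_right] at hm'
    · exact hm'
    · intro x hx
      rw [Subgroup.mem_normalizer_iff]
      intro y
      constructor
      · intro hy; rw [hc x hx y hy, mul_inv_cancel_right]; exact hy
      · intro hy
        have := hc x hx _ hy
        have e : y = x⁻¹ * ((x * y * x⁻¹) * x) := by group
        rw [e, ← this, inv_mul_cancel_left]; exact hy
  have hn1 : ∀ m ∈ M, ∀ x ∈ L₁, m * x * m⁻¹ ∈ L₁ := by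
    intro m hm' x hx
    obtain ⟨a, ha, b, hb, rfl⟩ := hprod m hm'
    rw [show a * b * x * (a * b)⁻¹ = a * (b * x * b⁻¹) * a⁻¹ by group, ← hc x hx b hb,
      mul_inv_cancel_right]
    exact L₁.mul_mem (L₁.mul_mem ha hx) (L₁.inv_mem ha)
  have hn2 : ∀ m ∈ M, ∀ x ∈ L₂, m * x * m⁻¹ ∈ L₂ := by
    intro m hm' x hx
    obtain ⟨a, ha, b, hb, rfl⟩ := hprod m hm'
    rw [show a * b * x * (a * b)⁻¹ = a * (b * x * b⁻¹) * a⁻¹ by group,
      hc a ha _ (L₂.mul_mem (L₂.mul_mem hb hx) (L₂.inv_mem hb)), mul_inv_cancel_right]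
    exact L₂.mul_mem (L₂.mul_mem hb hx) (L₂.inv_mem hb)
  obtain ⟨kM1, kj1, kn1⟩ := key L₁ le_sup_left hjm.1 hn1
  obtain ⟨kM2, kj2, kn2⟩ := key L₂ le_sup_right hjm.2 hn2
  have e1 := pair_main hF₁ hF₂ L₁ L₂ _ e₁ e₂
    ((Subgroup.equivMapOfInjective L₁ _ (MulAut.conj n).injective).symm.trans e₁) hc j hj hm kM1 kj1 kn1
  have e2 := pair_main hF₂ hF₁ L₂ L₁ _ e₂ e₁
    ((Subgroup.equivMapOfInjective L₂ _ (MulAut.conj n).injective).symm.trans e₂) hc' j hj
    (by rw [inf_comm]; exact hm) (by rw [sup_comm]; exact kM2) kj2 (by rw [sup_comm]; exact kn2)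
  have hne : L₁ ≠ L₂ := by
    intro h
    subst h
    rw [inf_idem] at hm
    have h5 := Nat.card_congr e₁.toEquiv
    rw [hm, Nat.card_zpowers, hj, Fus.PSLTwo.natCard_SL_two] at h5
    obtain ⟨a, ha⟩ := hF₁
    have h11 := Fintype.one_lt_card (α := F₁)
    have : 3 * 1 ≤ Fintype.card F₁ * ((Fintype.card F₁ - 1) * (Fintype.card F₁ + 1)) :=
      Nat.mul_le_mul (by omega) (Nat.one_le_iff_ne_zero.2 (Nat.mul_ne_zero (by omega) (by omega)))
    omega
  have inj := Subgroup.map_injective (f := (MulAut.conj n).toMonoidHom) (MulAut.conj n).injective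
  rcases e1 with h1 | h1
  · left
    refine ⟨h1, ?_⟩
    rcases e2 with h2 | h2
    · exact h2
    · exact absurd (inj (h2.trans h1.symm)) hne.symm
  · right
    have h2 : L₂.map (MulAut.conj n).toMonoidHom = L₁ := by
      rcases e2 with h2 | h2
      · exact absurd (inj (h1.trans h2.symm)) hne
      · exact h2
    refine ⟨h1, ?_, ?_⟩
    · refine card_sl_inj Fintype.card_pos Fintype.card_pos ?_
      rw [← Fus.PSLTwo.natCard_SL_two, ← Fus.PSLTwo.natCard_SL_two]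
      refine Nat.card_congr (((e₁.symm.trans
        (Subgroup.equivMapOfInjective L₁ _ (MulAut.conj n).injective)).trans (MulEquiv.subgroupCongr h1)).trans e₂).toEquiv
    · obtain ⟨a, ha, b, hb, hab⟩ := hprod _ hsq
      have ha2 : n⁻¹ * a * n ∈ L₂ := by
        obtain ⟨y, hy, hye⟩ : a ∈ L₂.map (MulAut.conj n).toMonoidHom := by rw [h2]; exact ha
        have : n⁻¹ * a * n = y := by rw [← hye]; show n⁻¹ * (n * y * n⁻¹) * n = y; group
        rwa [this]
      have hb1 : n⁻¹ * b * n ∈ L₁ := by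
        obtain ⟨y, hy, hye⟩ : b ∈ L₁.map (MulAut.conj n).toMonoidHom := by rw [h1]; exact hb
        have : n⁻¹ * b * n = y := by rw [← hye]; show n⁻¹ * (n * y * n⁻¹) * n = y; group
        rwa [this]
      have hmem : n * a⁻¹ ∈ Subgroup.centralizer ({j} : Set G) :=
        Subgroup.mul_mem _ hn (Subgroup.inv_mem _ (hle (Subgroup.mem_sup_left ha)))
      refine ⟨n * a⁻¹, hmem, fun h => hn' ?_, ?_, ?_⟩
      · have := M.mul_mem h (Subgroup.mem_sup_left ha : a ∈ M)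
        simpa using this
      · apply le_antisymm
        · rintro _ ⟨x, hx, rfl⟩
          rw [← h1]
          refine ⟨a⁻¹ * x * a, L₁.mul_mem (L₁.mul_mem (L₁.inv_mem ha) hx) ha, ?_⟩
          show n * (a⁻¹ * x * a) * n⁻¹ = n * a⁻¹ * x * (n * a⁻¹)⁻¹
          group
        · intro z hz
          obtain ⟨x, hx, rfl⟩ : z ∈ L₁.map (MulAut.conj n).toMonoidHom := h1.symm ▸ hz
          refine ⟨a * x * a⁻¹, L₁.mul_mem (L₁.mul_mem ha hx) (L₁.inv_mem ha), ?_⟩
          show n * a⁻¹ * (a * x * a⁻¹) * (n * a⁻¹)⁻¹ = n * x * n⁻¹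
          group
      · -- the square
        have hcomm : a * b = (n⁻¹ * a * n) * (n⁻¹ * b * n) := by
          rw [hab]
          calc n ^ 2 = n⁻¹ * n ^ 2 * n := by group
            _ = _ := by rw [← hab]; group
        have hswap : (n⁻¹ * a * n) * (n⁻¹ * b * n) = (n⁻¹ * b * n) * (n⁻¹ * a * n) := hc' _ ha2 _ hb1
        have h7 : b * (n⁻¹ * a * n)⁻¹ = a⁻¹ * (n⁻¹ * b * n) := by
          rw [mul_inv_eq_iff_eq_mul, mul_assoc a⁻¹, ← hswap, ← hcomm, inv_mul_cancel_left]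
        have h8 : (n * a⁻¹) ^ 2 = b * (n⁻¹ * a * n)⁻¹ := by
          have e : (n * a⁻¹) ^ 2 = n ^ 2 * ((n⁻¹ * a * n)⁻¹ * a⁻¹) := by
            rw [pow_two, pow_two]; group
          rw [e, ← hab, hc' _ (L₂.inv_mem ha2) _ (L₁.inv_mem ha)]
          rw [hc a ha b hb]
          group
        rw [h8, ← hm]
        exact ⟨h7 ▸ L₁.mul_mem (L₁.inv_mem ha) hb1, L₂.mul_mem hb (L₂.inv_mem ha2)⟩

end Cfsg.Agent.S3210
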