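import Cfsg.Statements.S3211
import Cfsg.Agent.Lib.Classical.SLNormal
import Cfsg.Agent.Lib.Fus.PSLTwo
import Cfsg.Agent.Lib.Invol.ZStar
-- import your own Cfsg.Agent.* helpers here

set_option autoImplicit false
open Cfsg

namespace Cfsg.Agent.S3211

open Cfsg.Agent.Fus.PSLTwo in
theorem sl_main {F : Type*} [Field F] [Fintype F] (hodd : Fintype.card F % 2 = 1)
    (A : Matrix.SpecialLinearGroup (Fin 2) F) (hA : A * A = -1) :
    IsConj (stdJ (F := F)) A ∧ ∃ W : Matrix.SpecialLinearGroup (Fin 2) F, W * W = -1 ∧ W * A * W⁻¹ = A⁻¹ ∧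
      (∀ C, Commute C A → W * C * W⁻¹ = C⁻¹) ∧
      (∀ C D, Commute C A → Commute D A → Commute C D) ∧
      (∀ C, Commute C A → C * C = -1 → C = A ∨ C = A⁻¹) := by
  have h2 := two_ne_zero_of_odd hodd
  have e00 := congrArg (fun X : Matrix.SpecialLinearGroup (Fin 2) F => (X : Matrix (Fin 2) (Fin 2) F) 0 0) hA
  have e01 := congrArg (fun X : Matrix.SpecialLinearGroup (Fin 2) F => (X : Matrix (Fin 2) (Fin 2) F) 0 1) hA
  have e10 := congrArg (fun X : Matrix.SpecialLinearGroup (Fin 2) F => (X : Matrix (Fin 2) (Fin 2) F) 1 0) hA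
  simp [Matrix.SpecialLinearGroup.coe_mul, Matrix.mul_apply] at e00 e01 e10
  have hd := A.2
  rw [Matrix.det_fin_two] at hd
  have htr : (A : Matrix (Fin 2) (Fin 2) F) 1 1 = -(A : Matrix (Fin 2) (Fin 2) F) 0 0 := by
    by_contra hne
    have hne' : (A : Matrix (Fin 2) (Fin 2) F) 0 0 + (A : Matrix (Fin 2) (Fin 2) F) 1 1 ≠ 0 :=
      fun h => hne (eq_neg_of_add_eq_zero_right h)
    have ha : (A : Matrix (Fin 2) (Fin 2) F) 0 0 = 0 :=
      (mul_eq_zero.1 (show (A : Matrix (Fin 2) (Fin 2) F) 0 0 * ((A : Matrix (Fin 2) (Fin 2) F) 0 0 +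
        (A : Matrix (Fin 2) (Fin 2) F) 1 1) = 0 by linear_combination e00 + hd)).resolve_right hne'
    have hb : (A : Matrix (Fin 2) (Fin 2) F) 0 1 = 0 :=
      (mul_eq_zero.1 (show (A : Matrix (Fin 2) (Fin 2) F) 0 1 * ((A : Matrix (Fin 2) (Fin 2) F) 0 0 +
        (A : Matrix (Fin 2) (Fin 2) F) 1 1) = 0 by linear_combination e01)).resolve_right hne'
    rw [ha, hb] at hd
    simp at hd
  have hJ := isConj_stdJ hodd htr
  refine ⟨hJ, ?_⟩
  obtain ⟨P, hP⟩ := isConj_iff.1 hJ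
  have hC : ∀ C, Commute C A → P⁻¹ * C * P ∈ torus F := fun C hC => by
    have h : Commute (P⁻¹ * C * P) (stdJ (F := F)) := by
      have := hC.map (MulAut.conj P⁻¹).toMonoidHom
      simpa [MulAut.conj_apply, ← hP, mul_assoc] using this
    generalize P⁻¹ * C * P = X at h ⊢
    have g0 := congrArg (fun X : Matrix.SpecialLinearGroup (Fin 2) F => (X : Matrix (Fin 2) (Fin 2) F) 0 0) h.eq
    have g1 := congrArg (fun X : Matrix.SpecialLinearGroup (Fin 2) F => (X : Matrix (Fin 2) (Fin 2) F) 1 0) h.eq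
    simp [stdJ, coe_mk2, Matrix.SpecialLinearGroup.coe_mul, Matrix.mul_apply] at g0 g1
    exact ⟨by linear_combination g1, by linear_combination g0⟩
  obtain ⟨B, hBT, hBB, hBA⟩ := exists_flip (F := F) hodd
  have hB1 : B * B = -1 := by
    obtain ⟨c, hc⟩ := (Classical.slMem_center_iff (B * B)).1 hBB
    have hdet := (B * B).2
    rw [hc] at hdet
    simp at hdet
    rcases hdet with rfl | rfl
    · exfalso
      have hBi : B = B⁻¹ := (inv_eq_of_mul_eq_one_right
        (show B * B = 1 from Subtype.ext (by rw [hc]; simp))).symm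
      have k0 := congrArg (fun X : Matrix.SpecialLinearGroup (Fin 2) F => (X : Matrix (Fin 2) (Fin 2) F) 0 0) hBi
      have k1 := congrArg (fun X : Matrix.SpecialLinearGroup (Fin 2) F => (X : Matrix (Fin 2) (Fin 2) F) 0 1) hBi
      have k2 := congrArg (fun X : Matrix.SpecialLinearGroup (Fin 2) F => (X : Matrix (Fin 2) (Fin 2) F) 1 0) hBi
      simp [Matrix.SpecialLinearGroup.coe_inv, Matrix.adjugate_fin_two] at k0 k1 k2
      have z1 : (B : Matrix (Fin 2) (Fin 2) F) 0 1 = 0 :=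
        (mul_eq_zero.1 (show (2 : F) * _ = 0 by linear_combination k1)).resolve_left h2
      have z2 : (B : Matrix (Fin 2) (Fin 2) F) 1 0 = 0 :=
        (mul_eq_zero.1 (show (2 : F) * _ = 0 by linear_combination k2)).resolve_left h2
      exact hBT ⟨k0.symm, by rw [z1, z2, neg_zero]⟩
    · apply Subtype.ext
      rw [hc]
      ext i k
      fin_cases i <;> fin_cases k <;> simp [Matrix.scalar, Matrix.diagonal]
  refine ⟨P * B * P⁻¹, ?_, ?_, ?_, ?_, ?_⟩
  · rw [show P * B * P⁻¹ * (P * B * P⁻¹) = P * (B * B) * P⁻¹ by group, hB1]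
    apply Subtype.ext
    simp [Matrix.SpecialLinearGroup.coe_mul, Matrix.mul_adjugate]
  · have := hBA _ (hC A (Commute.refl A))
    rw [← hP] at this ⊢
    simpa [mul_assoc] using congrArg (fun X => P * X * P⁻¹) this
  · intro C hCA
    calc P * B * P⁻¹ * C * (P * B * P⁻¹)⁻¹ = P * (B * (P⁻¹ * C * P) * B⁻¹) * P⁻¹ := by group
      _ = P * (P⁻¹ * C * P)⁻¹ * P⁻¹ := by rw [hBA _ (hC C hCA)]
      _ = C⁻¹ := by group
  · intro C D hCA hDA
    haveI := isCyclic_torus (F := F) hodd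
    letI : CommGroup (torus F) := IsCyclic.commGroup
    have h := congrArg Subtype.val (mul_comm (⟨_, hC C hCA⟩ : torus F) ⟨_, hC D hDA⟩)
    calc C * D = P * ((P⁻¹ * C * P) * (P⁻¹ * D * P)) * P⁻¹ := by group
      _ = P * ((P⁻¹ * D * P) * (P⁻¹ * C * P)) * P⁻¹ := by rw [show (P⁻¹ * C * P) * (P⁻¹ * D * P) = _ from h]; rfl
      _ = D * C := by group
  · intro C hCA hCC
    have hX := hC C hCA
    set X := P⁻¹ * C * P with hXdef
    have hXX : X * X = -1 := by
      rw [hXdef, show P⁻¹ * C * P * (P⁻¹ * C * P) = P⁻¹ * (C * C) * P by group, hCC]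
      apply Subtype.ext
      simp [Matrix.SpecialLinearGroup.coe_mul, Matrix.adjugate_mul]
    have f00 := congrArg (fun Y : Matrix.SpecialLinearGroup (Fin 2) F => (Y : Matrix (Fin 2) (Fin 2) F) 0 0) hXX
    simp [Matrix.SpecialLinearGroup.coe_mul, Matrix.mul_apply, hX.1, hX.2] at f00
    have hd' := X.2
    rw [Matrix.det_fin_two, hX.1, hX.2] at hd'
    have a0 : (X : Matrix (Fin 2) (Fin 2) F) 0 0 = 0 := by
      have : (2 : F) * ((X : Matrix (Fin 2) (Fin 2) F) 0 0 * (X : Matrix (Fin 2) (Fin 2) F) 0 0) = 0 := by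
        linear_combination f00 + hd'
      exact mul_self_eq_zero.1 ((mul_eq_zero.1 this).resolve_left h2)
    rw [a0] at hd'
    have hb : (X : Matrix (Fin 2) (Fin 2) F) 1 0 = 1 ∨ (X : Matrix (Fin 2) (Fin 2) F) 1 0 = -1 := by
      refine sq_eq_one_iff.1 ?_
      linear_combination hd'
    have hCX : C = P * X * P⁻¹ := by rw [hXdef]; group
    rcases hb with hb | hb
    · left
      rw [hCX, ← hP]
      congr 2
      apply Subtype.ext
      ext i k
      fin_cases i <;> fin_cases k <;> simp [stdJ, a0, hb, hX.1, hX.2]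
    · right
      rw [hCX, ← hP, show (P * stdJ * P⁻¹)⁻¹ = P * (stdJ (F := F))⁻¹ * P⁻¹ by group]
      congr 2
      apply Subtype.ext
      ext i k
      fin_cases i <;> fin_cases k <;>
        simp [stdJ, a0, hb, hX.1, hX.2, Matrix.SpecialLinearGroup.coe_inv, Matrix.adjugate_fin_two]

theorem sl_sq_one {F : Type*} [Field F] [Fintype F] (hodd : Fintype.card F % 2 = 1)
    (A : Matrix.SpecialLinearGroup (Fin 2) F) (h : A * A = 1) : A = 1 ∨ A = -1 := by
  have h2 := Fus.PSLTwo.two_ne_zero_of_odd hodd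
  have hBi : A = A⁻¹ := (inv_eq_of_mul_eq_one_right h).symm
  have k0 := congrArg (fun X : Matrix.SpecialLinearGroup (Fin 2) F => (X : Matrix (Fin 2) (Fin 2) F) 0 0) hBi
  have k1 := congrArg (fun X : Matrix.SpecialLinearGroup (Fin 2) F => (X : Matrix (Fin 2) (Fin 2) F) 0 1) hBi
  have k2 := congrArg (fun X : Matrix.SpecialLinearGroup (Fin 2) F => (X : Matrix (Fin 2) (Fin 2) F) 1 0) hBi
  simp [Matrix.SpecialLinearGroup.coe_inv, Matrix.adjugate_fin_two] at k0 k1 k2
  have z1 : (A : Matrix (Fin 2) (Fin 2) F) 0 1 = 0 :=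
    (mul_eq_zero.1 (show (2 : F) * _ = 0 by linear_combination k1)).resolve_left h2
  have z2 : (A : Matrix (Fin 2) (Fin 2) F) 1 0 = 0 :=
    (mul_eq_zero.1 (show (2 : F) * _ = 0 by linear_combination k2)).resolve_left h2
  have hd := A.2
  rw [Matrix.det_fin_two, z1, z2, ← k0] at hd
  have hs : (A : Matrix (Fin 2) (Fin 2) F) 0 0 ^ 2 = 1 := by linear_combination hd
  rcases sq_eq_one_iff.1 hs with h1 | h1
  · left
    apply Subtype.ext
    ext i k
    fin_cases i <;> fin_cases k <;> simp [z1, z2, ← k0, h1]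
  · right
    apply Subtype.ext
    ext i k
    fin_cases i <;> fin_cases k <;> simp [z1, z2, ← k0, h1]

/-- The part of the structure of `SL₂` used below. -/
def Shape {G : Type*} [Group G] (L : Subgroup G) (j : G) : Prop :=
  (∀ c ∈ L, c * c = 1 → c = 1 ∨ c = j) ∧
  (∀ a ∈ L, a * a = j → ∀ a' ∈ L, a' * a' = j → ∃ v ∈ L, v * a * v⁻¹ = a') ∧
  ∀ a ∈ L, a * a = j → ∃ w ∈ L, w * w = j ∧ w * a * w⁻¹ = a⁻¹ ∧
    (∀ c ∈ L, Commute c a → w * c * w⁻¹ = c⁻¹) ∧
    (∀ c ∈ L, ∀ d ∈ L, Commute c a → Commute d a → Commute c d) ∧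
    (∀ c ∈ L, Commute c a → c * c = j → c = a ∨ c = a⁻¹)

theorem shape {G : Type*} [Group G] [Finite G] {F : Type*} [Field F] [Fintype F]
    (ho : Odd (Fintype.card F)) (L : Subgroup G) (e : ↥L ≃* Matrix.SpecialLinearGroup (Fin 2) F)
    (j : G) (hj : orderOf j = 2) (hjL : j ∈ L) : Shape L j := by
  have hodd := Nat.odd_iff.1 ho
  have hjj : j * j = 1 := by rw [← pow_two]; exact hj ▸ pow_orderOf_eq_one j
  have hj1 : j ≠ 1 := fun h => by rw [h, orderOf_one] at hj; omega
  have hej : e ⟨j, hjL⟩ = -1 := by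
    refine (sl_sq_one hodd _ (by rw [← map_mul]; exact (congrArg e (Subtype.ext hjj)).trans (map_one e))).resolve_left ?_
    exact fun h => hj1 (congrArg Subtype.val (e.injective (h.trans (map_one e).symm)))
  have tr : ∀ c : ↥L, e c * e c = -1 ↔ (c : G) * c = j := fun c => by
    rw [← map_mul, ← hej, e.injective.eq_iff, Subtype.ext_iff]; rfl
  refine ⟨fun c hc h => ?_, fun a ha h a' ha' h' => ?_, fun a ha h => ?_⟩
  · rcases sl_sq_one hodd (e ⟨c, hc⟩) (by rw [← map_mul]; exact (congrArg e (Subtype.ext h)).trans (map_one e)) with h1 | h1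
    · left; exact congrArg Subtype.val (e.injective (h1.trans (map_one e).symm))
    · right; exact congrArg Subtype.val (e.injective (h1.trans hej.symm))
  · have c1 := (sl_main hodd _ ((tr ⟨a, ha⟩).2 h)).1
    have c2 := (sl_main hodd _ ((tr ⟨a', ha'⟩).2 h')).1
    obtain ⟨P, hP⟩ := isConj_iff.1 (c1.symm.trans c2)
    refine ⟨(e.symm P : ↥L), (e.symm P).2, ?_⟩
    have := congrArg e.symm hP
    simp only [map_mul, map_inv, MulEquiv.symm_apply_apply] at this
    exact congrArg Subtype.val this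
  · obtain ⟨W, hW, hWA, hWC, hcomm, hsq⟩ := (sl_main hodd _ ((tr ⟨a, ha⟩).2 h)).2
    have cm : ∀ c : ↥L, Commute (c : G) a → Commute (e c) (e ⟨a, ha⟩) := fun c hc => by
      show _ = _
      rw [← map_mul, ← map_mul]
      exact congrArg e (Subtype.ext hc.eq)
    refine ⟨(e.symm W : ↥L), (e.symm W).2, (tr _).1 (by simpa using hW), ?_, ?_, ?_, ?_⟩
    · have := congrArg e.symm hWA
      simp only [map_mul, map_inv, MulEquiv.symm_apply_apply] at this
      exact congrArg Subtype.val this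
    · intro c hc hca
      have := congrArg e.symm (hWC _ (cm ⟨c, hc⟩ hca))
      simp only [map_mul, map_inv, MulEquiv.symm_apply_apply] at this
      exact congrArg Subtype.val this
    · intro c hc d hd hca hda
      have h' := hcomm _ _ (cm ⟨c, hc⟩ hca) (cm ⟨d, hd⟩ hda)
      have := congrArg e.symm h'.eq
      simp only [map_mul, MulEquiv.symm_apply_apply] at this
      exact congrArg Subtype.val this
    · intro c hc hca hcc
      rcases hsq _ (cm ⟨c, hc⟩ hca) ((tr ⟨c, hc⟩).2 hcc) with h1 | h1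
      · left; exact congrArg Subtype.val (e.injective h1)
      · right; exact congrArg Subtype.val (e.injective (h1.trans (map_inv e _).symm))

/-- Two square roots of `z` centralizing `j` and `y`, with quotient an involution outside `⟨j, y⟩`. -/
def Wit {G : Type*} [Group G] (j y z : G) : Prop :=
  ∃ u v : G, Commute u j ∧ Commute u y ∧ Commute v j ∧ Commute v y ∧ u * u = z ∧ v * v = z ∧
    u⁻¹ * v * (u⁻¹ * v) = 1 ∧ u⁻¹ * v ≠ 1 ∧ u⁻¹ * v ≠ j ∧ u⁻¹ * v ≠ y ∧ u⁻¹ * v ≠ j * y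

theorem wit_map {G : Type*} [Group G] (φ : G ≃* G) {j y z : G} (h : Wit j y z) :
    Wit (φ j) (φ y) (φ z) := by
  obtain ⟨u, v, h1, h2, h3, h4, h5, h6, h7, h8, h9, h10, h11⟩ := h
  refine ⟨φ u, φ v, h1.map φ, h2.map φ, h3.map φ, h4.map φ, ?_, ?_, ?_, ?_, ?_, ?_, ?_⟩ <;>
    simp only [← map_mul, ← map_inv, h5, h6, h7, map_one]
  · rw [← map_one φ]; exact φ.injective.ne h8
  · exact φ.injective.ne h9
  · exact φ.injective.ne h10
  · exact φ.injective.ne h11

/-- Let G be a finite group with subgroups L₁ ≅ SL₂(q₁) and L₂ ≅ SL₂(q₂), q₁ and q₂ odd prime powers, which commute elementwise and meet in ⟨j⟩ for an involution j, and suppose L₁L₂ has index 2 in C_G(j). If some n ∈ C_G(j) with n² = j interchanges L₁ and L₂ under conjugation (so that C_G(j) = L₁L₂⟨n⟩), then G = C_G(j)O(G). -/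
theorem result {G : Type*} [Group G] [Finite G]
    {F₁ : Type*} [Field F₁] [Fintype F₁] {F₂ : Type*} [Field F₂] [Fintype F₂]
    (hF₁ : Odd (Fintype.card F₁)) (hF₂ : Odd (Fintype.card F₂)) (L₁ L₂ : Subgroup G)
    (e₁ : ↥L₁ ≃* Matrix.SpecialLinearGroup (Fin 2) F₁) (e₂ : ↥L₂ ≃* Matrix.SpecialLinearGroup (Fin 2) F₂)
    (hc : ∀ x ∈ L₁, ∀ y ∈ L₂, x * y = y * x) (j : G) (hj : orderOf j = 2) (hm : L₁ ⊓ L₂ = Subgroup.zpowers j)
    (hle : L₁ ⊔ L₂ ≤ Subgroup.centralizer ({j} : Set G)) (hi : (L₁ ⊔ L₂).relIndex (Subgroup.centralizer ({j} : Set G)) = 2) (n : G) (hn : n ∈ Subgroup.centralizer ({j} : Set G))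
    (hn2 : n ^ 2 = j) (hswap : L₁.map (MulAut.conj n).toMonoidHom = L₂) :
    Subgroup.centralizer ({j} : Set G) ⊔ Cfsg.oddCore G = ⊤ := by
  set H := Subgroup.centralizer ({j} : Set G) with hH
  set M := L₁ ⊔ L₂ with hM
  have hjm : j ∈ L₁ ∧ j ∈ L₂ := Subgroup.mem_inf.1 (hm ▸ Subgroup.mem_zpowers j)
  obtain ⟨P1a, P1b, P1c⟩ := shape hF₁ L₁ e₁ j hj hjm.1
  obtain ⟨P2a, P2b, P2c⟩ := shape hF₂ L₂ e₂ j hj hjm.2
  have hjj : j * j = 1 := by rw [← pow_two]; exact hj ▸ pow_orderOf_eq_one j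
  have hj1 : j ≠ 1 := fun h => by rw [h, orderOf_one] at hj; omega
  have hjinv : j⁻¹ = j := inv_eq_of_mul_eq_one_right hjj
  have memH : ∀ h, h ∈ H ↔ Commute h j := fun h => by
    rw [hH, Subgroup.mem_centralizer_singleton_iff]
    exact Iff.rfl
  have jc : ∀ m ∈ M, Commute m j := fun m hm' => (memH m).1 (hle hm')
  have l1 : L₁ ≤ M := le_sup_left
  have l2 : L₂ ≤ M := le_sup_right
  have hprod : ∀ m ∈ M, ∃ a ∈ L₁, ∃ b ∈ L₂, a * b = m := by
    intro m hm'
    rw [hM, ← SetLike.mem_coe, Subgroup.coe_mul_of_left_le_normalizer_right] at hm'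
    · exact hm'
    · intro x hx
      rw [Subgroup.mem_normalizer_iff]
      intro y
      constructor
      · intro hy; rw [hc x hx y hy, mul_inv_cancel_right]; exact hy
      · intro hy
        have := hc x hx _ hy
        have e : y = x⁻¹ * ((x * y * x⁻¹) * x) := by group
        rw [e, ← this, inv_mul_cancel_left]; exact hy
  -- the swap
  have hnj : Commute n j := (memH n).1 hn
  have hnn : n * n = j := by rw [← pow_two]; exact hn2
  have t12 : ∀ a ∈ L₁, n * a * n⁻¹ ∈ L₂ := fun a ha => hswap ▸ ⟨a, ha, rfl⟩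
  have tt : ∀ m ∈ M, n * (n * m * n⁻¹) * n⁻¹ = m := fun m hm' => by
    rw [show n * (n * m * n⁻¹) * n⁻¹ = (n * n) * m * (n * n)⁻¹ by group, hnn, (jc m hm').symm.eq,
      mul_inv_cancel_right]
  have t21 : ∀ b ∈ L₂, n * b * n⁻¹ ∈ L₁ := fun b hb => by
    obtain ⟨a, ha, hab⟩ : b ∈ L₁.map (MulAut.conj n).toMonoidHom := hswap.symm ▸ hb
    have e : n * b * n⁻¹ = a := by rw [← hab]; exact tt a (l1 ha)
    rw [e]; exact ha
  have hnM : n ∉ M := fun h => by
    obtain ⟨a, ha, b, hb, hab⟩ := hprod n h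
    have e1 : ∀ x ∈ L₁, n * x * n⁻¹ ∈ L₁ ⊓ L₂ := fun x hx => ⟨by
      rw [← hab, show a * b * x * (a * b)⁻¹ = a * (b * x * b⁻¹) * a⁻¹ by group, ← hc x hx b hb,
        mul_inv_cancel_right]
      exact L₁.mul_mem (L₁.mul_mem ha hx) (L₁.inv_mem ha), t12 x hx⟩
    have hsub : L₁ ≤ Subgroup.zpowers j := fun x hx => by
      have h3 := e1 x hx
      rw [hm] at h3
      obtain ⟨i, hi⟩ := h3
      refine ⟨i, ?_⟩
      have h4 : x = n⁻¹ * (n * x * n⁻¹) * n := by group
      rw [h4]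
      simp only at hi ⊢
      rw [← hi, ((hnj.inv_left).zpow_right i).eq, inv_mul_cancel_right]
    have hcard := Subgroup.card_le_of_le hsub
    rw [Nat.card_zpowers, hj, Nat.card_congr e₁.toEquiv, Fus.PSLTwo.natCard_SL_two] at hcard
    obtain ⟨k, hk⟩ := hF₁
    have h11 := Fintype.one_lt_card (α := F₁)
    have : 3 * 1 ≤ Fintype.card F₁ * ((Fintype.card F₁ - 1) * (Fintype.card F₁ + 1)) :=
      Nat.mul_le_mul (by omega) (Nat.one_le_iff_ne_zero.2 (Nat.mul_ne_zero (by omega) (by omega)))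
    omega
  have hout : ∀ h, Commute h j → h ∉ M → ∃ m ∈ M, n * m = h := fun h hh hhM => by
    refine ⟨n⁻¹ * h, ?_, mul_inv_cancel_left n h⟩
    have h3 := Subgroup.mul_mem_iff_of_index_two (H := M.subgroupOf H) hi
      (a := (⟨n, hn⟩ : H)⁻¹) (b := ⟨h, (memH h).2 hh⟩)
    exact h3.2 ⟨fun hh => absurd ((Subgroup.inv_mem_iff _).1 hh) hnM, fun hh => absurd hh hhM⟩
  have hsqout : ∀ a ∈ L₁, ∀ b ∈ L₂, n * (a * b) * (n * (a * b)) =
      j * ((n * b * n⁻¹) * a * ((n * a * n⁻¹) * b)) := fun a ha b hb => by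
    have hτ : n⁻¹ * (a * b) * n = n * (a * b) * n⁻¹ := by
      have h5 := tt (a * b) (M.mul_mem (l1 ha) (l2 hb))
      calc n⁻¹ * (a * b) * n = n⁻¹ * (n * (n * (a * b) * n⁻¹) * n⁻¹) * n := by rw [h5]
        _ = _ := by group
    calc n * (a * b) * (n * (a * b)) = (n * n) * ((n⁻¹ * (a * b) * n) * (a * b)) := by group
      _ = j * ((n * a * n⁻¹) * (n * b * n⁻¹) * (a * b)) := by rw [hnn, hτ]; group
      _ = _ := by
        rw [← hc _ (t21 b hb) _ (t12 a ha), mul_assoc (n * b * n⁻¹), ← mul_assoc (n * a * n⁻¹),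
          ← hc a ha _ (t12 a ha)]
        group
  have central : ∀ x ∈ L₁, x ∈ L₂ → x = 1 ∨ x = j := fun x h1 h2 => by
    obtain ⟨i, rfl⟩ := (hm ▸ (⟨h1, h2⟩ : x ∈ L₁ ⊓ L₂) : x ∈ Subgroup.zpowers j)
    have hjz : j ^ (2 : ℤ) = 1 := by rw [zpow_two]; exact hjj
    rcases Int.even_or_odd' i with ⟨k, rfl | rfl⟩
    · left; simp [zpow_mul, hjz]
    · right; simp [zpow_add, zpow_mul, hjz]
  have hjc' : ∀ x, x = 1 ∨ x = j → n * x * n⁻¹ = x := by
    rintro x (rfl | rfl)
    · simp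
    · rw [hnj.eq, mul_inv_cancel_right]
  have noinv : ∀ h, Commute h j → h ∉ M → h * h ≠ 1 := by
    intro h hh hhM h1
    obtain ⟨m, hm', rfl⟩ := hout h hh hhM
    obtain ⟨a, ha, b, hb, rfl⟩ := hprod m hm'
    rw [hsqout a ha b hb] at h1
    have hX : n * b * n⁻¹ * a ∈ L₁ := L₁.mul_mem (t21 b hb) ha
    have hY : n * a * n⁻¹ * b ∈ L₂ := L₂.mul_mem (t12 a ha) hb
    set X := n * b * n⁻¹ * a with hXd
    set Y := n * a * n⁻¹ * b with hYd
    have hX2 : X ∈ L₂ := by
      have : X = (j * (1 : G)) * Y⁻¹ := by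
        rw [mul_one, eq_mul_inv_iff_mul_eq, ← hjinv]
        exact eq_inv_of_mul_eq_one_right h1
      rw [this]
      exact L₂.mul_mem (L₂.mul_mem hjm.2 L₂.one_mem) (L₂.inv_mem hY)
    have hXc := central X hX hX2
    have hτX : n * X * n⁻¹ = b * (n * a * n⁻¹) := by
      rw [hXd, show n * (n * b * n⁻¹ * a) * n⁻¹ = (n * (n * b * n⁻¹) * n⁻¹) * (n * a * n⁻¹) by group,
        tt b (l2 hb)]
    rw [hjc' X hXc] at hτX
    have hYX : Y = X := by
      have e : Y = b⁻¹ * X * b := by rw [hYd, hτX]; group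
      rw [e]
      rcases hXc with h2 | h2 <;> rw [h2]
      · group
      · rw [mul_assoc, ← (jc b (l2 hb)).eq, inv_mul_cancel_left]
    rw [hYX] at h1
    rcases hXc with h2 | h2 <;> rw [h2] at h1
    · exact hj1 (by simpa using h1)
    · exact hj1 (by simpa [hjj] using h1)
  -- involutions of `H`
  have std : ∀ y, Commute y j → y * y = 1 → y ≠ 1 → y ≠ j →
      ∃ v, Commute v j ∧ ∃ a ∈ L₁, a * a = j ∧ v * y * v⁻¹ = a * (n * a * n⁻¹) := by
    intro y hy hyy hy1 hyj
    have hyM : y ∈ M := by_contra fun h => noinv y hy h hyy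
    obtain ⟨a, ha, b, hb, rfl⟩ := hprod y hyM
    have hsq : (a * a) * (b * b) = 1 := by
      rw [← hyy]
      calc a * a * (b * b) = a * (a * b) * b := by group
        _ = a * (b * a) * b := by rw [hc a ha b hb]
        _ = _ := by group
    have haa : a * a = 1 ∨ a * a = j := central _ (L₁.mul_mem ha ha) (by
      rw [eq_inv_of_mul_eq_one_left hsq]; exact L₂.inv_mem (L₂.mul_mem hb hb))
    rcases haa with haa | haa
    · exfalso
      rw [haa, one_mul] at hsq
      rcases P1a a ha haa with rfl | rfl <;> rcases P2a b hb hsq with rfl | rfl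
      · exact hy1 (by simp)
      · exact hyj (by simp)
      · exact hyj (by simp)
      · exact hy1 hjj
    · have hbb : b * b = j := by
        rw [haa] at hsq
        rw [← hjinv]; exact eq_inv_of_mul_eq_one_right hsq
      have htau : (n * a * n⁻¹) * (n * a * n⁻¹) = j := by
        rw [show (n * a * n⁻¹) * (n * a * n⁻¹) = n * (a * a) * n⁻¹ by group, haa, hjc' j (Or.inr rfl)]
      obtain ⟨v, hv, hve⟩ := P2b b hb hbb _ (t12 a ha) htau
      refine ⟨v, jc v (l2 hv), a, ha, haa, ?_⟩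
      rw [← hve, show v * (a * b) * v⁻¹ = (v * a) * b * v⁻¹ by group, ← hc a ha v hv]
      group
  -- the two facts about the standard involution
  have core : ∀ a ∈ L₁, a * a = j →
      Wit j (a * (n * a * n⁻¹)) j ∧ ¬ Wit j (a * (n * a * n⁻¹)) (a * (n * a * n⁻¹)) := by
    intro a ha haa
    set b := n * a * n⁻¹ with hbd
    set x := a * b with hx
    have hb : b ∈ L₂ := t12 a ha
    have htb : n * b * n⁻¹ = a := tt a (l1 ha)
    have hbb : b * b = j := by
      rw [hbd, show (n * a * n⁻¹) * (n * a * n⁻¹) = n * (a * a) * n⁻¹ by group, haa, hjc' j (Or.inr rfl)]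
    obtain ⟨w1, hw1, hw11, hwa, hwc, hcomm1, hsq1⟩ := P1c a ha haa
    obtain ⟨w2, -, -, -, -, hcomm2, hsq2⟩ := P2c b hb hbb
    have haninv : a⁻¹ = j * a := by
      refine inv_eq_of_mul_eq_one_right ?_
      rw [← mul_assoc, (jc a (l1 ha)).eq, mul_assoc, haa, hjj]
    have hbninv : b⁻¹ = j * b := by
      refine inv_eq_of_mul_eq_one_right ?_
      rw [← mul_assoc, (jc b (l2 hb)).eq, mul_assoc, hbb, hjj]
    have hane : a⁻¹ ≠ a := fun h => hj1 (by rw [← haa]; nth_rw 1 [← h]; exact inv_mul_cancel a)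
    have hxn : Commute n x := by
      show n * (a * b) = a * b * n
      rw [hc a ha b hb, ← mul_inv_eq_iff_eq_mul, show n * (b * a) * n⁻¹ = (n * b * n⁻¹) * (n * a * n⁻¹) by group,
        htb, ← hbd]
      exact hc a ha b hb
    -- classification of `C(x) ∩ M`
    have cls : ∀ h ∈ M, Commute h x → ∃ c ∈ L₁, ∃ d ∈ L₂, c * d = h ∧
        ((Commute c a ∧ Commute d b) ∨ ((c * a * c⁻¹ = a⁻¹ ∧ d * b * d⁻¹ = b⁻¹) ∧ h * h = 1)) := by
      intro h hh hhx
      obtain ⟨c, hc1, d, hd, rfl⟩ := hprod h hh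
      refine ⟨c, hc1, d, hd, rfl, ?_⟩
      have e : (c * a * c⁻¹) * (d * b * d⁻¹) = a * b := by
        calc c * a * c⁻¹ * (d * b * d⁻¹) = c * (a * (c⁻¹ * d)) * (b * d⁻¹) := by group
          _ = c * (a * (d * c⁻¹)) * (b * d⁻¹) := by rw [hc _ (L₁.inv_mem hc1) d hd]
          _ = c * (d * a * c⁻¹) * (b * d⁻¹) := by rw [← mul_assoc a, hc a ha d hd]
          _ = c * d * (a * (c⁻¹ * b)) * d⁻¹ := by group
          _ = c * d * (a * b * c⁻¹) * d⁻¹ := by rw [hc _ (L₁.inv_mem hc1) b hb, mul_assoc a b]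
          _ = c * d * (a * b) * (c * d)⁻¹ := by rw [hc c hc1 d hd]; group
          _ = _ := by rw [show c * d * (a * b) = a * b * (c * d) from hhx.eq, mul_inv_cancel_right]
      have e2 : a⁻¹ * (c * a * c⁻¹) = b * (d * b * d⁻¹)⁻¹ := by
        rw [inv_mul_eq_iff_eq_mul, ← mul_assoc, eq_mul_inv_iff_mul_eq, e]
      have hmem1 : a⁻¹ * (c * a * c⁻¹) ∈ L₁ :=
        L₁.mul_mem (L₁.inv_mem ha) (L₁.mul_mem (L₁.mul_mem hc1 ha) (L₁.inv_mem hc1))
      rcases central _ hmem1 (by rw [e2]; exact L₂.mul_mem hb (L₂.inv_mem (L₂.mul_mem (L₂.mul_mem hd hb) (L₂.inv_mem hd)))) with h1 | h1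
      · left
        refine ⟨mul_inv_eq_iff_eq_mul.1 (inv_mul_eq_one.1 h1).symm, ?_⟩
        rw [h1] at e2
        exact mul_inv_eq_iff_eq_mul.1 (mul_inv_eq_one.1 e2.symm).symm
      · right
        have hca : c * a * c⁻¹ = a⁻¹ := by
          rw [inv_mul_eq_iff_eq_mul] at h1
          rw [h1, haninv, (jc a (l1 ha)).eq]
        have hdb : d * b * d⁻¹ = b⁻¹ := by
          rw [h1] at e2
          have e3 : (d * b * d⁻¹)⁻¹ = b⁻¹ * j := by rw [e2]; group
          rw [← inv_inv (d * b * d⁻¹), e3, mul_inv_rev, inv_inv, hjinv, hbninv]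
        refine ⟨⟨hca, hdb⟩, ?_⟩
        have hroot : ∀ (L : Subgroup G), L ≤ M → ∀ a c : G, a ∈ L → c ∈ L → a * a = j →
            Shape L j → c * a * c⁻¹ = a⁻¹ → c * c = j := by
          intro L hL a c ha hc1 haa hS hca
          obtain ⟨w, hw, hww, hwa, hwc, -, -⟩ := hS.2.2 a ha haa
          have ht : Commute (w⁻¹ * c) a := by
            show w⁻¹ * c * a = a * (w⁻¹ * c)
            calc w⁻¹ * c * a = w⁻¹ * (c * a * c⁻¹) * c := by group
              _ = w⁻¹ * (w * a * w⁻¹) * c := by rw [hca, hwa]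
              _ = _ := by group
          have h6 := hwc _ (L.mul_mem (L.inv_mem hw) hc1) ht
          have h7 : Commute j (w⁻¹ * c) := (jc _ (hL (L.mul_mem (L.inv_mem hw) hc1))).symm
          calc c * c = w * (w⁻¹ * c) * w⁻¹ * (w * w) * (w⁻¹ * c) := by group
            _ = (w⁻¹ * c)⁻¹ * j * (w⁻¹ * c) := by rw [h6, hww]
            _ = j := by rw [mul_assoc, h7.eq, inv_mul_cancel_left]
        have hcc := hroot L₁ l1 a c ha hc1 haa ⟨P1a, P1b, P1c⟩ hca
        have hdd := hroot L₂ l2 b d hb hd hbb ⟨P2a, P2b, P2c⟩ hdb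
        calc c * d * (c * d) = (c * c) * (d * d) := by
              rw [mul_assoc c d, ← mul_assoc d c d, ← hc c hc1 d hd]; group
          _ = 1 := by rw [hcc, hdd, hjj]
    have notin : ∀ c ∈ L₁, ∀ d ∈ L₂, Commute c a → w1 * (n * w1 * n⁻¹) ≠ c * d := by
      intro c hc1 d hd hca h
      have h1 : c⁻¹ * w1 = d * (n * w1 * n⁻¹)⁻¹ := by
        rw [inv_mul_eq_iff_eq_mul, ← mul_assoc, eq_mul_inv_iff_mul_eq]; exact h
      have hw : Commute w1 a := by
        have hz : Commute (c⁻¹ * w1) a := by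
          rcases central _ (L₁.mul_mem (L₁.inv_mem hc1) hw1) (by
            rw [h1]; exact L₂.mul_mem hd (L₂.inv_mem (t12 w1 hw1))) with h2 | h2 <;> rw [h2]
          · exact Commute.one_left a
          · exact (jc a (l1 ha)).symm
        have := hca.mul_left hz
        rwa [mul_inv_cancel_left] at this
      refine hane ?_
      rw [← hwa, hw.eq, mul_inv_cancel_right]
    constructor
    · -- the witness
      have hw2 : n * w1 * n⁻¹ ∈ L₂ := t12 w1 hw1
      set w := w1 * (n * w1 * n⁻¹) with hwd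
      have hwM : w ∈ M := M.mul_mem (l1 hw1) (l2 hw2)
      have hnw : Commute n w := by
        show n * w = w * n
        rw [← mul_inv_eq_iff_eq_mul, hwd, show n * (w1 * (n * w1 * n⁻¹)) * n⁻¹ =
          (n * w1 * n⁻¹) * (n * (n * w1 * n⁻¹) * n⁻¹) by group, tt w1 (l1 hw1)]
        exact (hc w1 hw1 _ hw2).symm
      have hw22 : (n * w1 * n⁻¹) * (n * w1 * n⁻¹) = j := by
        rw [show (n * w1 * n⁻¹) * (n * w1 * n⁻¹) = n * (w1 * w1) * n⁻¹ by group, hw11, hjc' j (Or.inr rfl)]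
      have hww : w * w = 1 := by
        calc w * w = w1 * ((n * w1 * n⁻¹) * w1) * (n * w1 * n⁻¹) := by rw [hwd]; group
          _ = (w1 * w1) * ((n * w1 * n⁻¹) * (n * w1 * n⁻¹)) := by rw [← hc w1 hw1 _ hw2]; group
          _ = 1 := by rw [hw11, hw22, hjj]
      have hw1a : w1 * a * w1⁻¹ = a⁻¹ := hwa
      have hwx : Commute w x := by
        show w * x = x * w
        rw [← mul_inv_eq_iff_eq_mul]
        have hm1 : n * (w1 * a * w1⁻¹) * n⁻¹ ∈ L₂ := t12 _ (L₁.mul_mem (L₁.mul_mem hw1 ha) (L₁.inv_mem hw1))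
        calc w * x * w⁻¹ = w1 * ((n * w1 * n⁻¹) * a) * (n * a * n⁻¹) * ((n * w1 * n⁻¹)⁻¹ * w1⁻¹) := by
              rw [hwd, hx, hbd]; group
          _ = w1 * a * ((n * (w1 * a * w1⁻¹) * n⁻¹) * w1⁻¹) := by rw [← hc a ha _ hw2]; group
          _ = w1 * a * (w1⁻¹ * (n * (w1 * a * w1⁻¹) * n⁻¹)) := by rw [hc _ (L₁.inv_mem hw1) _ hm1]
          _ = a⁻¹ * b⁻¹ := by rw [← mul_assoc, hw1a, hbd]; group
          _ = x := by
              rw [haninv, hbninv, hx]
              calc j * a * (j * b) = j * (a * j) * b := by group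
                _ = j * (j * a) * b := by rw [(jc a (l1 ha)).eq]
                _ = a * b := by rw [← mul_assoc j j, hjj, one_mul]
      refine ⟨n, n * w, hnj, hxn, hnj.mul_left (jc w hwM), hxn.mul_left hwx, hnn, ?_, ?_, ?_, ?_, ?_, ?_⟩
      · calc n * w * (n * w) = n * (w * n) * w := by group
          _ = n * (n * w) * w := by rw [hnw.eq]
          _ = (n * n) * (w * w) := by group
          _ = j := by rw [hnn, hww, mul_one]
      · rw [inv_mul_cancel_left]; exact hww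
      all_goals rw [inv_mul_cancel_left]
      · exact fun h => notin 1 L₁.one_mem 1 L₂.one_mem (Commute.one_left a) (by rw [h, one_mul])
      · exact fun h => notin j hjm.1 1 L₂.one_mem (jc a (l1 ha)).symm (by rw [h, mul_one])
      · exact fun h => notin a ha b hb (Commute.refl a) (by rw [h, hx])
      · exact fun h => notin (j * a) (L₁.mul_mem hjm.1 ha) b hb
          ((jc a (l1 ha)).symm.mul_left (Commute.refl a)) (by rw [h, hx, mul_assoc])
    · rintro ⟨u, v, huj, hux, hvj, hvx, huu, hvv, hr, hr1, hrj, hrx, hrjx⟩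
      have hx1 : x ≠ 1 := fun h => hj1 (by
        rw [hx] at h
        have hz := central a ha (by rw [eq_inv_of_mul_eq_one_left h]; exact L₂.inv_mem hb)
        rcases hz with h1 | h1 <;> rw [h1] at haa
        · rw [← haa, one_mul]
        · rw [← haa, hjj])
      have inM : ∀ z, z ∈ M → Commute z x → z * z = x →
          ∃ c ∈ L₁, ∃ d ∈ L₂, c * d = z ∧ Commute c a ∧ Commute d b := fun z hz hzx hzz => by
        obtain ⟨c, hc1, d, hd, hcd, h | ⟨-, h⟩⟩ := cls z hz hzx
        · exact ⟨c, hc1, d, hd, hcd, h.1, h.2⟩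
        · exact absurd (hzz ▸ h) hx1
      have outM : ∀ z, Commute z j → z ∉ M → Commute z x → z * z = x →
          ∃ c ∈ L₁, ∃ d ∈ L₂, n * (c * d) = z ∧ c * a * c⁻¹ = a⁻¹ ∧ d * b * d⁻¹ = b⁻¹ := by
        intro z hzj hzM hzx hzz
        obtain ⟨m, hm', rfl⟩ := hout z hzj hzM
        have hmx : Commute m x := by
          have := hxn.inv_left.mul_left hzx
          rwa [inv_mul_cancel_left] at this
        obtain ⟨c, hc1, d, hd, hcd, h | ⟨h, -⟩⟩ := cls m hm' hmx
        · exfalso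
          subst hcd
          rw [hsqout c hc1 d hd] at hzz
          have htd : n * d * n⁻¹ ∈ L₁ := t21 d hd
          have htc : n * c * n⁻¹ ∈ L₂ := t12 c hc1
          set e := n * d * n⁻¹ * c with hed
          have heq : n * c * n⁻¹ * d = n * e * n⁻¹ := by
            rw [hed, show n * (n * d * n⁻¹ * c) * n⁻¹ = (n * (n * d * n⁻¹) * n⁻¹) * (n * c * n⁻¹) by group,
              tt d (l2 hd)]
            exact (hcomm2 _ htc d hd (by
              rw [hbd]; exact h.1.map (MulAut.conj n).toMonoidHom) h.2).eq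
          rw [heq] at hzz
          have he : e ∈ L₁ := L₁.mul_mem htd hc1
          have hne : n * e * n⁻¹ ∈ L₂ := t12 e he
          set δ := a⁻¹ * (j * e) with hδd
          have h8 : (j * e) * (n * e * n⁻¹) = a * b := by rw [mul_assoc]; exact hzz
          have hδ : δ = b * (n * e * n⁻¹)⁻¹ := by
            rw [hδd, inv_mul_eq_iff_eq_mul, ← mul_assoc a, eq_mul_inv_iff_mul_eq]
            exact h8
          have hδc := central δ (L₁.mul_mem (L₁.inv_mem ha) (L₁.mul_mem hjm.1 he))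
            (by rw [hδ]; exact L₂.mul_mem hb (L₂.inv_mem hne))
          have h4 : n * δ * n⁻¹ = b⁻¹ * (j * (n * e * n⁻¹)) := by
            rw [hδd, hbd, show n * (a⁻¹ * (j * e)) * n⁻¹ = (n * a * n⁻¹)⁻¹ * ((n * j * n⁻¹) * (n * e * n⁻¹)) by group,
              hjc' j (Or.inr rfl)]
          rw [hjc' δ hδc] at h4
          have h5 : n * e * n⁻¹ = δ⁻¹ * b := by rw [hδ]; group
          rw [h5] at h4
          rcases hδc with h7 | h7 <;> rw [h7] at h4
          · rw [inv_one, one_mul, ← mul_assoc, mul_assoc b⁻¹ j b, ← (jc b (l2 hb)).eq, inv_mul_cancel_left] at h4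
            exact hj1 h4.symm
          · rw [hjinv, ← mul_assoc j j, hjj, one_mul, inv_mul_cancel] at h4
            exact hj1 h4
        · exact ⟨c, hc1, d, hd, by rw [hcd], h.1, h.2⟩
      -- the quotient lies in the abelian part
      have split : ∀ c c' d d' : G, c ∈ L₁ → c' ∈ L₁ → d ∈ L₂ → d' ∈ L₂ →
          c⁻¹ * c' * (d⁻¹ * d') = (c * d)⁻¹ * (c' * d') := fun c c' d d' hc1 hc' hd hd' => by
        calc c⁻¹ * c' * (d⁻¹ * d') = c⁻¹ * (c' * d⁻¹) * d' := by group
          _ = c⁻¹ * (d⁻¹ * c') * d' := by rw [hc c' hc' _ (L₂.inv_mem hd)]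
          _ = (c⁻¹ * d⁻¹) * (c' * d') := by group
          _ = (d⁻¹ * c⁻¹) * (c' * d') := by rw [hc _ (L₁.inv_mem hc1) _ (L₂.inv_mem hd)]
          _ = _ := by group
      have hA : ∃ c ∈ L₁, ∃ d ∈ L₂, c * d = u⁻¹ * v ∧ Commute c a ∧ Commute d b := by
        by_cases hu : u ∈ M <;> by_cases hv : v ∈ M
        · obtain ⟨c, hc1, d, hd, hcd, hca, hdb⟩ := inM u hu hux huu
          obtain ⟨c', hc', d', hd', hcd', hca', hdb'⟩ := inM v hv hvx hvv
          exact ⟨c⁻¹ * c', L₁.mul_mem (L₁.inv_mem hc1) hc', d⁻¹ * d', L₂.mul_mem (L₂.inv_mem hd) hd',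
            by rw [split c c' d d' hc1 hc' hd hd', hcd, hcd'],
            hca.inv_left.mul_left hca', hdb.inv_left.mul_left hdb'⟩
        · exact absurd hr (noinv _ (huj.inv_left.mul_left hvj)
            fun h => hv ((Subgroup.mul_mem_cancel_left M (M.inv_mem hu)).1 h))
        · exact absurd hr (noinv _ (huj.inv_left.mul_left hvj)
            fun h => hu ((Subgroup.inv_mem_iff M).1 ((Subgroup.mul_mem_cancel_right M hv).1 h)))
        · obtain ⟨c, hc1, d, hd, hcd, hca, hdb⟩ := outM u huj hu hux huu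
          obtain ⟨c', hc', d', hd', hcd', hca', hdb'⟩ := outM v hvj hv hvx hvv
          have inv2 : ∀ c c' a : G, c * a * c⁻¹ = a⁻¹ → c' * a * c'⁻¹ = a⁻¹ → Commute (c⁻¹ * c') a := by
            intro c c' a h h'
            show c⁻¹ * c' * a = a * (c⁻¹ * c')
            calc c⁻¹ * c' * a = c⁻¹ * (c' * a * c'⁻¹) * c' := by group
              _ = c⁻¹ * (c * a * c⁻¹) * c' := by rw [h, h']
              _ = _ := by group
          exact ⟨c⁻¹ * c', L₁.mul_mem (L₁.inv_mem hc1) hc', d⁻¹ * d', L₂.mul_mem (L₂.inv_mem hd) hd',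
            by rw [split c c' d d' hc1 hc' hd hd', ← hcd, ← hcd']; group,
            inv2 c c' a hca hca', inv2 d d' b hdb hdb'⟩
      obtain ⟨c, hc1, d, hd, hcd, hca, hdb⟩ := hA
      rw [← hcd] at hr hr1 hrj hrx hrjx
      have hsq : (c * c) * (d * d) = 1 := by
        rw [← hr]
        calc c * c * (d * d) = c * (c * d) * d := by group
          _ = c * (d * c) * d := by rw [hc c hc1 d hd]
          _ = _ := by group
      rcases central _ (L₁.mul_mem hc1 hc1) (by
        rw [eq_inv_of_mul_eq_one_left hsq]; exact L₂.inv_mem (L₂.mul_mem hd hd)) with hcc | hcc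
      · rw [hcc, one_mul] at hsq
        rcases P1a c hc1 hcc with h1 | h1 <;> rcases P2a d hd hsq with h2 | h2 <;>
          rw [h1, h2] at hr1 hrj
        · exact hr1 (one_mul 1)
        · exact hrj (one_mul _)
        · exact hrj (mul_one _)
        · exact hr1 hjj
      · rw [hcc] at hsq
        have hdd : d * d = j := by rw [← hjinv]; exact eq_inv_of_mul_eq_one_right hsq
        rcases hsq1 c hc1 hca hcc with h1 | h1 <;> rcases hsq2 d hd hdb hdd with h2 | h2 <;>
          rw [h1, h2] at hrx hrjx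
        · exact hrx hx.symm
        · exact hrjx (by rw [hbninv, ← mul_assoc, (jc a (l1 ha)).eq, mul_assoc, ← hx])
        · exact hrjx (by rw [haninv, mul_assoc, ← hx])
        · exact hrx (by
            rw [haninv, hbninv, hx]
            calc j * a * (j * b) = j * (a * j) * b := by group
              _ = j * (j * a) * b := by rw [(jc a (l1 ha)).eq]
              _ = a * b := by rw [← mul_assoc j j, hjj, one_mul])
  have facts : ∀ y, Commute y j → y * y = 1 → y ≠ 1 → y ≠ j → Wit j y j ∧ ¬ Wit j y y := by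
    intro y hy hyy hy1 hyj
    obtain ⟨v, hvj, a, ha, haa, hve⟩ := std y hy hyy hy1 hyj
    obtain ⟨f1, f2⟩ := core a ha haa
    have hfj : MulAut.conj v j = j := by
      show v * j * v⁻¹ = j
      rw [hvj.eq, mul_inv_cancel_right]
    have hfy : MulAut.conj v y = a * (n * a * n⁻¹) := hve
    constructor
    · have := wit_map (MulAut.conj v).symm f1
      rw [← hfy, MulEquiv.symm_apply_apply] at this
      rwa [show (MulAut.conj v).symm j = j from (MulEquiv.symm_apply_eq _).2 hfj.symm] at this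
    · intro h
      refine f2 ?_
      have := wit_map (MulAut.conj v) h
      rwa [hfj, hfy] at this
  have hiso : IsIsolatedInvolution j := by
    refine ⟨hj, fun g hg => ?_⟩
    by_contra hne
    set x := g * j * g⁻¹ with hx
    have hxx : x * x = 1 := by
      rw [hx, show g * j * g⁻¹ * (g * j * g⁻¹) = g * (j * j) * g⁻¹ by group, hjj]; group
    have hx1 : x ≠ 1 := fun h => hj1 (conj_eq_one_iff.1 h)
    set y := g⁻¹ * j * g with hy
    have hyj : Commute y j := by
      have := hg.map (MulAut.conj g⁻¹).toMonoidHom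
      simpa [MulAut.conj_apply, hy, hx, mul_assoc] using this
    have hyy : y * y = 1 := by
      rw [hy, show g⁻¹ * j * g * (g⁻¹ * j * g) = g⁻¹ * (j * j) * g by group, hjj]; group
    have hy1 : y ≠ 1 := fun h => hj1 (conj_eq_one_iff (a := g⁻¹).1 (by rw [inv_inv]; exact h))
    have hyne : y ≠ j := fun h => hne (by
      rw [hx]; conv_lhs => rw [← h, hy]
      group)
    obtain ⟨u, v, h1, h2, h3, h4, h5, h6, h7, h8, h9, h10, h11⟩ :=
      wit_map (MulAut.conj g) (facts y hyj hyy hy1 hyne).1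
    have e1 : MulAut.conj g j = x := rfl
    have e2 : MulAut.conj g y = j := by show g * y * g⁻¹ = j; rw [hy]; group
    rw [e1] at h1 h3 h5 h6 h9 h11
    rw [e2] at h2 h4 h10 h11
    refine (facts x hg.symm hxx hx1 hne).2 ⟨u, v, h2, h1, h4, h3, h5, h6, h7, h8, h10, h9, ?_⟩
    rw [hg.eq]; exact h11
  obtain ⟨N, hNn, hNodd, hN⟩ := ZStar.exists_odd_normal hiso
  have hNle : N ≤ oddCore G := Grp.le_pPrimeCore hNn (BS.odd_iff_coprime_two.1 hNodd)
  rw [eq_top_iff]
  intro g _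
  set t := g * j * g⁻¹ with ht
  have htt : t * t = 1 := by
    rw [ht, show g * j * g⁻¹ * (g * j * g⁻¹) = g * (j * j) * g⁻¹ by group, hjj]; group
  set k := j * t with hkd
  have hk : k ∈ N := by
    have := hN g
    rwa [show j * g * j⁻¹ * g⁻¹ = k by rw [hkd, ht, hjinv]; group] at this
  have hkinv : j * k * j⁻¹ = k⁻¹ := by
    rw [hkd, mul_inv_rev, hjinv, ← mul_assoc j j, hjj, one_mul]
    congr 1
    exact eq_inv_of_mul_eq_one_left htt
  obtain ⟨i, hio⟩ : Odd (orderOf k) := hNodd.of_dvd_nat (Subgroup.orderOf_dvd_natCard N hk)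
  have hpow : k ^ (2 * i + 1) = 1 := by rw [← hio]; exact pow_orderOf_eq_one k
  have hh : j * (k ^ i) * j⁻¹ = (k ^ i)⁻¹ := by rw [← conj_pow, hkinv, inv_pow]
  have hkey : t = (k ^ i) * j * (k ^ i)⁻¹ := by
    have h1 : t = j * k := by rw [hkd, ← mul_assoc, hjj, one_mul]
    have h2 : k = ((k ^ i)⁻¹) * (k ^ i)⁻¹ := by
      rw [← mul_inv_rev, eq_inv_iff_mul_eq_one, ← pow_add, ← pow_succ']
      rw [show i + i + 1 = 2 * i + 1 by ring]; exact hpow
    calc t = j * ((k ^ i)⁻¹ * (k ^ i)⁻¹) := by rw [← h2, h1]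
      _ = (j * (k ^ i) * j⁻¹)⁻¹ * j * (k ^ i)⁻¹ := by group
      _ = _ := by rw [hh, inv_inv]
  have hmem : (k ^ i)⁻¹ * g ∈ H := by
    rw [memH]
    show (k ^ i)⁻¹ * g * j = j * ((k ^ i)⁻¹ * g)
    calc (k ^ i)⁻¹ * g * j = (k ^ i)⁻¹ * (g * j * g⁻¹) * g := by group
      _ = (k ^ i)⁻¹ * t * g := rfl
      _ = _ := by rw [hkey]; group
  have := Subgroup.mul_mem _ (Subgroup.mem_sup_right (S := H) (hNle (N.pow_mem hk i)))
    (Subgroup.mem_sup_left (T := oddCore G) hmem)
  simpa using this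

end Cfsg.Agent.S3211
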