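import Cfsg.Statements.S3213
import Mathlib
-- import your own Cfsg.Agent.* helpers here

set_option autoImplicit false
open Cfsg

namespace Cfsg.Agent.S3213

theorem inverter_table : ∀ p q r s : ZMod 5, p * s - q * r = 1 →
    (p * p + q * r) * p + q * (p + s) * r = 1 → (p * p + q * r) * q + q * (p + s) * s = 0 →
    r * (p + s) * p + (r * q + s * s) * r = 0 → r * (p + s) * q + (r * q + s * s) * s = 1 →
    ¬ (p = 1 ∧ q = 0 ∧ r = 0 ∧ s = 1) →
    ∃ a b c : ZMod 5, -(a * a) - b * c = 1 ∧ a * p + b * r = s * a - q * c ∧ a * q + b * s = s * b + q * a ∧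
      c * p - a * r = -(r * a) + p * c ∧ c * q - a * s = -(r * b) - p * a := by
  decide

/-- Every element of order three is inverted by a square root of `-1`. -/
theorem exists_inverter {K : Type*} [Field K] [Fintype K] (hK : Fintype.card K = 5)
    (x : Matrix.SpecialLinearGroup (Fin 2) K) (hx : orderOf x = 3) :
    ∃ y : Matrix.SpecialLinearGroup (Fin 2) K, y * x * y⁻¹ = x⁻¹ ∧ y * y = -1 := by
  let e : ZMod 5 ≃+* K := ZMod.ringEquivOfPrime K (by norm_num) hK
  let M := Matrix.SpecialLinearGroup.map (n := Fin 2) e.symm.toRingHom x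
  have hM3 : M * M * M = 1 := by
    rw [show M * M * M = Matrix.SpecialLinearGroup.map e.symm.toRingHom (x ^ 3) by
      simp [M, pow_succ, map_mul], ← hx, pow_orderOf_eq_one, map_one]
  have hdet := M.2
  rw [Matrix.det_fin_two] at hdet
  have hm : ∀ i j, ((M : Matrix (Fin 2) (Fin 2) (ZMod 5)) * M * M) i j = (1 : Matrix (Fin 2) (Fin 2) (ZMod 5)) i j := by
    intro i j
    rw [← Matrix.SpecialLinearGroup.coe_mul, ← Matrix.SpecialLinearGroup.coe_mul, hM3]; simp
  have h00 := hm 0 0; have h01 := hm 0 1; have h10 := hm 1 0; have h11 := hm 1 1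
  simp [Matrix.mul_apply, Fin.sum_univ_two] at h00 h01 h10 h11
  have hne : ¬ (M 0 0 = 1 ∧ M 0 1 = 0 ∧ M 1 0 = 0 ∧ M 1 1 = 1) := by
    rintro ⟨a, b, c, d⟩
    have hx1 : x = 1 := by
      ext i j
      have h : ∀ i j, M i j = (1 : Matrix (Fin 2) (Fin 2) (ZMod 5)) i j := by
        intro i j; fin_cases i <;> fin_cases j <;> simp [a, b, c, d]
      have h' := congrArg e (h i j)
      simp [M, Matrix.SpecialLinearGroup.map_apply_coe, Matrix.one_apply, apply_ite e] at h'
      simpa [Matrix.one_apply] using h'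
    rw [hx1, orderOf_one] at hx; omega
  obtain ⟨a, b, c, hd, e00, e01, e10, e11⟩ := inverter_table (M 0 0) (M 0 1) (M 1 0) (M 1 1) hdet
    (by linear_combination h00) (by linear_combination h01) (by linear_combination h10) (by linear_combination h11) hne
  let N : Matrix.SpecialLinearGroup (Fin 2) (ZMod 5) := ⟨!![a, b; c, -a], by
    rw [Matrix.det_fin_two_of]; linear_combination hd⟩
  refine ⟨Matrix.SpecialLinearGroup.map e.toRingHom N, ?_, ?_⟩
  · have hx' : Matrix.SpecialLinearGroup.map e.toRingHom M = x := by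
      ext i j; simp [M, Matrix.SpecialLinearGroup.map_apply_coe]
    have h1 : N * M = M⁻¹ * N := by
      ext i j
      rw [Matrix.SpecialLinearGroup.coe_mul, Matrix.SpecialLinearGroup.coe_mul, Matrix.SpecialLinearGroup.coe_inv,
        Matrix.adjugate_fin_two]
      fin_cases i <;> fin_cases j <;>
        simp [N, Matrix.mul_apply, Fin.sum_univ_two] <;>
        first
        | linear_combination e00
        | linear_combination e01
        | linear_combination e10
        | linear_combination e11
    have h2 := congrArg (Matrix.SpecialLinearGroup.map e.toRingHom) h1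
    rw [map_mul, map_mul, map_inv, hx'] at h2
    rw [h2, mul_inv_cancel_right]
  · ext i j
    rw [← map_mul, Matrix.SpecialLinearGroup.map_apply_coe, Matrix.SpecialLinearGroup.coe_mul]
    have hd' : e (-(a * a) - b * c) = 1 := by rw [hd, map_one]
    simp only [map_sub, map_neg, map_mul] at hd'
    fin_cases i <;> fin_cases j <;> simp [N, Matrix.mul_apply, Fin.sum_univ_two] <;>
      first
      | linear_combination hd'
      | linear_combination -hd'
      | ring

theorem exists_order_five {K : Type*} [Field K] [Fintype K] (hK : Fintype.card K = 5) :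
    ∃ u : Matrix.SpecialLinearGroup (Fin 2) K, u ≠ 1 ∧ u ^ 5 = 1 := by
  let e : ZMod 5 ≃+* K := ZMod.ringEquivOfPrime K (by norm_num) hK
  let N : Matrix.SpecialLinearGroup (Fin 2) (ZMod 5) := ⟨!![1, 1; 0, 1], by simp [Matrix.det_fin_two_of]⟩
  refine ⟨Matrix.SpecialLinearGroup.map e.toRingHom N, fun h => ?_, ?_⟩
  · have := congrArg (fun g : Matrix.SpecialLinearGroup (Fin 2) K => g 0 1) h
    change e (1 : ZMod 5) = 0 at this
    simp at this
  · rw [← map_pow, show N ^ 5 = 1 from by decide, map_one]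

section Lin
variable {F : Type*} [Field F] [Fintype F] {V : Type*} [AddCommGroup V] [Module F V] [FiniteDimensional F V]

theorem fix_all_of_pow_five (hF : Fintype.card F = 3) (hV : Module.finrank F V ≤ 4) {f : Module.End F V}
    (hf : f ^ 5 = 1) (S : Submodule F V) (hS : ∀ v ∈ S, f v ∈ S)
    (hd : Module.finrank F S < 4 ∨ (S ⊓ LinearMap.ker (f - 1)) ≠ ⊥) : ∀ v ∈ S, f v = v := by
  haveI : Finite V := Module.finite_of_finite F
  haveI := Fintype.ofFinite V
  haveI : Fact (Nat.Prime 5) := ⟨by norm_num⟩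
  classical
  let g : S → S := fun v => ⟨f v, hS v v.2⟩
  have hg : ∀ n : ℕ, ∀ v : S, ((g^[n] v : S) : V) = (f ^ n) v := by
    intro n
    induction n with
    | zero => intro v; simp
    | succ n ih => intro v; rw [Function.iterate_succ_apply', pow_succ', Module.End.mul_apply, ← ih]
  have hg5 : ∀ v : S, g^[5] v = v := fun v => Subtype.ext (by rw [hg, hf]; rfl)
  let σ : Equiv.Perm S := ⟨g, g^[4], fun v => by rw [← Function.iterate_succ_apply]; exact hg5 v,
    fun v => by rw [← Function.iterate_succ_apply' g 4]; exact hg5 v⟩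
  have hmod := Equiv.Perm.card_fixedPoints_modEq (p := 5) (n := 1) (f := (σ : S → S))
    (by funext v; show (g^[5] : S → S) v = v; exact hg5 v)
  let T : Submodule F V := S ⊓ LinearMap.ker (f - 1)
  have hfp : Fintype.card (Function.fixedPoints (σ : S → S)) = Nat.card T := by
    rw [← Nat.card_eq_fintype_card]
    refine Nat.card_congr
      { toFun := fun v => ⟨(v.1 : V), ⟨v.1.2, ?_⟩⟩
        invFun := fun w => ⟨⟨w.1, w.2.1⟩, ?_⟩
        left_inv := fun _ => rfl
        right_inv := fun _ => rfl }
    · have : f (v.1 : V) = v.1 := congrArg Subtype.val v.2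
      simpa [sub_eq_zero] using this
    · have h := w.2.2
      simp [sub_eq_zero] at h
      exact Subtype.ext h
  have hcS : Nat.card S = 3 ^ Module.finrank F S := by rw [← hF, ← Nat.card_eq_fintype_card (α := F)]; exact Module.natCard_eq_pow_finrank
  have hcT : Nat.card T = 3 ^ Module.finrank F T := by rw [← hF, ← Nat.card_eq_fintype_card (α := F)]; exact Module.natCard_eq_pow_finrank
  rw [hfp, hcT, ← Nat.card_eq_fintype_card, hcS] at hmod
  have hle : Module.finrank F T ≤ Module.finrank F S := Submodule.finrank_mono inf_le_left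
  have hle4 : Module.finrank F S ≤ 4 := (Submodule.finrank_le S).trans hV
  have heq : T = S := by
    refine Submodule.eq_of_le_of_finrank_le inf_le_left ?_
    have hpos : Module.finrank F S < 4 ∨ 1 ≤ Module.finrank F T := hd.imp id fun h =>
      Nat.one_le_iff_ne_zero.mpr fun h0 => h (Submodule.finrank_eq_zero.mp h0)
    unfold Nat.ModEq at hmod
    generalize hs : Module.finrank F S = d at hmod hle hle4 hpos ⊢
    generalize ht : Module.finrank F T = a at hmod hle hpos ⊢
    interval_cases d <;> interval_cases a <;> simp_all <;> omega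
  intro v hv
  have := (heq.symm ▸ hv : v ∈ T).2
  simpa [sub_eq_zero] using this

theorem even_finrank (hF : Fintype.card F = 3) {Y : Module.End F V} (hY : Y * Y = -1) (S : Submodule F V)
    (hS : ∀ v ∈ S, Y v ∈ S) : Even (Module.finrank F S) := by
  by_contra hodd
  rw [Nat.not_even_iff_odd] at hodd
  have h1 : Y.restrict hS * Y.restrict hS = (-1 : F) • (1 : Module.End F S) := by
    ext v
    have := LinearMap.congr_fun hY v.1
    simpa using this
  have h2 := congrArg LinearMap.det h1
  rw [map_mul, LinearMap.det_smul, map_one, mul_one, hodd.neg_one_pow] at h2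
  have h3 : IsSquare (-1 : F) := ⟨_, h2.symm⟩
  rw [FiniteField.isSquare_neg_one_iff, hF] at h3
  omega

end Lin

/-- Let F be the field with 3 elements and K the field with 5 elements. For every injective homomorphism φ from SL₂(K) into the symplectic group Sp₄(F) (4 × 4 matrices g with g J gᵀ = J for the standard alternating matrix J) and every element x of order 3 of SL₂(K), the vectors of F⁴ fixed by φ(x) form a 2-dimensional subspace that is totally isotropic for the alternating form defined by J. -/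
theorem result {F : Type*} [Field F] [Fintype F] (hF : Fintype.card F = 3)
    {K : Type*} [Field K] [Fintype K] (hK : Fintype.card K = 5)
    (φ : Matrix.SpecialLinearGroup (Fin 2) K →* ↥(Matrix.symplecticGroup (Fin 2) F)) (hφ : Function.Injective φ)
    (x : Matrix.SpecialLinearGroup (Fin 2) K) (hx : orderOf x = 3) :
    Module.finrank F ↥(LinearMap.ker (Matrix.toLin' ((φ x : Matrix (Fin 2 ⊕ Fin 2) (Fin 2 ⊕ Fin 2) F)) - LinearMap.id)) = 2 ∧
      ∀ v w : Fin 2 ⊕ Fin 2 → F, (φ x : Matrix (Fin 2 ⊕ Fin 2) (Fin 2 ⊕ Fin 2) F).mulVec v = v →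
        (φ x : Matrix (Fin 2 ⊕ Fin 2) (Fin 2 ⊕ Fin 2) F).mulVec w = w →
          dotProduct v ((Matrix.J (Fin 2) F).mulVec w) = 0 := by
  classical
  haveI : CharP F 3 := by
    haveI : Fact (Nat.Prime 3) := ⟨Nat.prime_three⟩
    exact charP_of_card_eq_prime hF
  let Ψ : Matrix.SpecialLinearGroup (Fin 2) K →* Module.End F (Fin 2 ⊕ Fin 2 → F) :=
    { toFun := fun g => Matrix.toLin' (φ g : Matrix (Fin 2 ⊕ Fin 2) (Fin 2 ⊕ Fin 2) F)
      map_one' := by simp [Module.End.one_eq_id]
      map_mul' := fun a b => by simp [Matrix.toLin'_mul, Module.End.mul_eq_comp] }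
  have hΨ : Function.Injective Ψ := fun a b h => hφ (Subtype.ext (Matrix.toLin'.injective h))
  have hV : Module.finrank F (Fin 2 ⊕ Fin 2 → F) = 4 := by simp
  obtain ⟨y, hyx, hyy⟩ := exists_inverter hK x hx
  obtain ⟨u, hu1, hu5⟩ := exists_order_five hK
  set Z := Ψ (-1) with hZdef
  have hzz : Z * Z = 1 := by rw [hZdef, ← map_mul, neg_mul_neg, mul_one, map_one]
  have hz1 : Z ≠ 1 := fun h => by
    have h1 : (-1 : Matrix.SpecialLinearGroup (Fin 2) K) = 1 := hΨ (h.trans (map_one Ψ).symm)
    have h2 : (-1 : K) = 1 := by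
      have := congrArg (fun g : Matrix.SpecialLinearGroup (Fin 2) K => g 0 0) h1
      simpa using this
    haveI : Fact (Nat.Prime 5) := ⟨by norm_num⟩
    haveI : CharP K 5 := charP_of_card_eq_prime hK
    have h3 : ((2 : ℕ) : K) = 0 := by push_cast; linear_combination -h2
    rw [CharP.cast_eq_zero_iff K 5] at h3
    omega
  have hcom : ∀ g, Z * Ψ g = Ψ g * Z := fun g => by rw [hZdef, ← map_mul, ← map_mul, neg_one_mul, mul_neg_one]
  have hW : LinearMap.ker (Z - 1) = ⊥ := by
    by_contra hne
    have htop : LinearMap.ker (Z - 1) ≠ ⊤ := fun h => hz1 (sub_eq_zero.mp (LinearMap.ker_eq_top.mp h))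
    have hlt : Module.finrank F ↥(LinearMap.ker (Z - 1)) < 4 := hV ▸ Submodule.finrank_lt htop
    have hinv : ∀ v ∈ LinearMap.ker (Z - 1), Ψ u v ∈ LinearMap.ker (Z - 1) := fun v hv => by
      simp [sub_eq_zero] at hv ⊢
      have := LinearMap.congr_fun (hcom u) v
      rw [Module.End.mul_apply, Module.End.mul_apply, hv] at this
      exact this
    have h5 : Ψ u ^ 5 = 1 := by rw [← map_pow, hu5, map_one]
    have h1 := fix_all_of_pow_five hF hV.le h5 _ hinv (Or.inl hlt)
    have h2 := fix_all_of_pow_five hF hV.le h5 ⊤ (fun _ _ => trivial) (Or.inr fun h => hne ?_)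
    · exact hu1 (hΨ ((LinearMap.ext fun v => by simpa using h2 v trivial).trans (map_one Ψ).symm))
    · refine eq_bot_iff.mpr fun v hv => ?_
      rw [← h]
      exact ⟨trivial, by simp [sub_eq_zero, h1 v hv]⟩
  have hZ : Z = -1 := LinearMap.ext fun v => by
    have h1 : Z v + v ∈ LinearMap.ker (Z - 1) := by
      have := LinearMap.congr_fun hzz v
      simp [sub_eq_zero] at this ⊢
      rw [this, add_comm]
    rw [hW, Submodule.mem_bot, add_eq_zero_iff_eq_neg] at h1
    simpa using h1
  set Y := Ψ y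
  have hY : Y * Y = -1 := by rw [← map_mul, hyy]; exact hZ
  set A := Ψ x with hA
  have hA3 : A ^ 3 = 1 := by rw [hA, ← map_pow, ← hx, pow_orderOf_eq_one, map_one]
  have hA1 : A ≠ 1 := fun h => by
    rw [hΨ (h.trans (map_one Ψ).symm), orderOf_one] at hx; omega
  have hxy : x * y = y * x⁻¹ := by
    have h := congrArg (fun g => g⁻¹) hyx
    simp only [mul_inv_rev, inv_inv] at h
    conv_lhs => rw [← h]
    group
  have hAY : A * Y = Y * (A * A) := by
    show Ψ x * Ψ y = Ψ y * (Ψ x * Ψ x)
    rw [← map_mul, hxy, ← map_mul, ← map_mul, show x⁻¹ = x * x from inv_eq_of_mul_eq_one_left (by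
      rw [← pow_two, ← pow_succ]; show x ^ 3 = 1; rw [← hx, pow_orderOf_eq_one])]
  have hker : ∀ v, v ∈ LinearMap.ker (A - 1) → Y v ∈ LinearMap.ker (A - 1) := fun v hv => by
    simp [sub_eq_zero] at hv ⊢
    have := LinearMap.congr_fun hAY v
    simp only [Module.End.mul_apply, hv] at this
    exact this
  have hA3' : A * (A * A) = 1 := by rw [← hA3]; simp [pow_succ, mul_assoc]
  have three0 : (3 : Module.End F (Fin 2 ⊕ Fin 2 → F)) = 0 := by
    ext v i
    have h30 : (3 : F) = 0 := by exact_mod_cast (CharP.cast_eq_zero F 3)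
    simp [Module.End.ofNat_apply, h30]
  have hN2 : (A - 1) * (A - 1) = A * A + A + 1 := by
    have h : A * A + A + 1 - (A - 1) * (A - 1) = 3 * A := by
      rw [show (3 : Module.End F (Fin 2 ⊕ Fin 2 → F)) = 1 + 1 + 1 by norm_num, sub_mul, mul_sub, one_mul, mul_one,
        add_mul, add_mul, one_mul]
      abel
    rw [three0, zero_mul, sub_eq_zero] at h
    exact h.symm
  have hN3 : (A - 1) * ((A - 1) * (A - 1)) = 0 := by
    rw [hN2, sub_mul, one_mul, mul_add, mul_add, mul_one, hA3']
    abel
  have hNY : (A - 1) * (A - 1) * Y = Y * ((A - 1) * (A - 1)) := by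
    rw [hN2, add_mul, add_mul, one_mul, mul_add, mul_add, mul_one]
    have e2 : A * A * Y = Y * A := by
      rw [mul_assoc, hAY, ← mul_assoc, hAY]
      rw [mul_assoc, show A * A * (A * A) = A * (A * (A * A)) by simp [mul_assoc], hA3', mul_one]
    rw [e2, hAY]; abel
  have hd2 : Module.finrank F ↥(LinearMap.ker (A - 1)) = 2 := by
    have he := even_finrank hF hY _ hker
    have hle : Module.finrank F ↥(LinearMap.ker (A - 1)) ≤ 4 := hV ▸ Submodule.finrank_le _
    have hne4 : Module.finrank F ↥(LinearMap.ker (A - 1)) ≠ 4 := fun h => hA1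
      (sub_eq_zero.mp (LinearMap.ker_eq_top.mp (Submodule.eq_top_of_finrank_eq (h.trans hV.symm))))
    have hne0 : Module.finrank F ↥(LinearMap.ker (A - 1)) ≠ 0 := fun h => by
      have hinj := LinearMap.ker_eq_bot.mp (Submodule.finrank_eq_zero.mp h)
      refine hA1 (sub_eq_zero.mp (LinearMap.ext fun v => hinj (hinj ?_)))
      simpa using LinearMap.congr_fun hN3 v
    obtain ⟨c, hc⟩ := he
    omega
  have hrange : Module.finrank F ↥(LinearMap.range (A - 1)) = 2 := by
    have := LinearMap.finrank_range_add_finrank_ker (A - 1); omega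
  have hsq : (A - 1) * (A - 1) = 0 := by
    have hinv : ∀ v ∈ LinearMap.range ((A - 1) * (A - 1)), Y v ∈ LinearMap.range ((A - 1) * (A - 1)) := by
      rintro _ ⟨w, rfl⟩
      exact ⟨Y w, LinearMap.congr_fun hNY w⟩
    have he := even_finrank hF hY _ hinv
    have hle : LinearMap.range ((A - 1) * (A - 1)) ≤ LinearMap.range (A - 1) := by
      rintro _ ⟨w, rfl⟩; exact ⟨(A - 1) w, rfl⟩
    have hne : Module.finrank F ↥(LinearMap.range ((A - 1) * (A - 1))) ≠ 2 := fun h => by
      have heq := Submodule.eq_of_le_of_finrank_eq hle (h.trans hrange.symm)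
      have h0 : ((A - 1) * (A - 1)) = 0 := LinearMap.ext fun v => by
        obtain ⟨w, hw⟩ : (A - 1) v ∈ LinearMap.range ((A - 1) * (A - 1)) := heq.symm ▸ LinearMap.mem_range_self _ v
        rw [Module.End.mul_apply, ← hw]
        exact LinearMap.congr_fun hN3 w
      rw [h0, LinearMap.range_zero, finrank_bot] at h
      omega
    have h2 := Submodule.finrank_mono hle
    obtain ⟨c, hc⟩ := he
    have : Module.finrank F ↥(LinearMap.range ((A - 1) * (A - 1))) = 0 := by omega
    exact LinearMap.range_eq_bot.mp (Submodule.finrank_eq_zero.mp this)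
  have hrk : LinearMap.range (A - 1) = LinearMap.ker (A - 1) := by
    refine Submodule.eq_of_le_of_finrank_eq ?_ (hrange.trans hd2.symm)
    rintro _ ⟨w, rfl⟩
    exact LinearMap.congr_fun hsq w
  refine ⟨hd2, fun v w hv hw => ?_⟩
  have hwm : w ∈ LinearMap.range (A - 1) := by
    rw [hrk]
    simp [sub_eq_zero, hA, Ψ, hw]
  obtain ⟨t, rfl⟩ := hwm
  set M := (φ x : Matrix (Fin 2 ⊕ Fin 2) (Fin 2 ⊕ Fin 2) F) with hM
  have hmem : M.transpose * Matrix.J (Fin 2) F * M = Matrix.J (Fin 2) F := SymplecticGroup.mem_iff'.mp (φ x).2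
  have h1 : dotProduct v ((Matrix.J (Fin 2) F).mulVec (M.mulVec t)) = dotProduct v ((Matrix.J (Fin 2) F).mulVec t) := by
    conv_lhs => rw [← hv]
    rw [Matrix.mulVec_mulVec, Matrix.dotProduct_mulVec (M.mulVec v), ← Matrix.vecMul_transpose, Matrix.vecMul_vecMul,
      ← Matrix.dotProduct_mulVec, ← Matrix.mul_assoc, hmem]
  have h2 : (A - 1) t = M.mulVec t - t := by simp [hA, Ψ, hM]
  rw [h2, Matrix.mulVec_sub, dotProduct_sub, h1, sub_self]

end Cfsg.Agent.S3213
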