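import Cfsg.Statements.S3215
import Mathlib
import Cfsg.Agent.Lib.Grp.CoprimeAbelian
import Cfsg.Agent.Lib.Grp.Solvable
import Cfsg.Agent.Lib.Grp.Baer
import Cfsg.Agent.Lib.Grp.Cores
import Cfsg.Agent.Lib.Grp.PComponents
import Cfsg.Agent.Lib.Grp.QuotientNormalizer
import Cfsg.Agent.Lib.Invol.OneInvol
import Cfsg.Agent.Lib.Invol.RankOne
-- import your own Cfsg.Agent.* helpers here

set_option autoImplicit false
open Cfsg

namespace Cfsg.Agent.S3215

open Cfsg.Agent

section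
variable {H : Type*} [Group H] [Finite H]

theorem centralizer_le [Group.IsSolvable H] (hO : Cfsg.oddCore H = ⊥) :
    Subgroup.centralizer (Cfsg.pCore 2 H : Set H) ≤ Cfsg.pCore 2 H := by
  haveI : Fact (Nat.Prime 2) := ⟨Nat.prime_two⟩
  have h := Grp.centralizer_fittingSubgroup_le (G := H)
  rwa [Grp.fitting_eq_pCore (p := 2) hO] at h

/-- Odd elements commuting with an involution centralize `O₂(H) ⊓ C(t)`. -/
theorem odd_commute_local (hI : ∀ t : H, orderOf t = 2 → Cfsg.HasNormalPComplement 2 ↥(Subgroup.centralizer ({t} : Set H)))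
    {t x u : H} (ht : orderOf t = 2) (hxt : Commute x t) (hx : Odd (orderOf x))
    (hu : u ∈ Cfsg.pCore 2 H) (hut : Commute u t) : Commute x u := by
  haveI : Fact (Nat.Prime 2) := ⟨Nat.prime_two⟩
  have hI' := hI t ht
  set C := Subgroup.centralizer ({t} : Set H) with hC
  obtain ⟨P, N, hN, hc⟩ := hI'
  haveI := hN
  have hxC : x ∈ C := Subgroup.mem_centralizer_singleton_iff.mpr hxt.eq
  have huC : u ∈ C := Subgroup.mem_centralizer_singleton_iff.mpr hut.eq
  have hodd : Odd (Nat.card N) := by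
    rw [← hc.index_eq_card, Nat.odd_iff]
    have := P.not_dvd_index
    omega
  have hxN : (⟨x, hxC⟩ : C) ∈ N := by
    rw [← QuotientGroup.eq_one_iff]
    obtain ⟨k, hk⟩ := IsPGroup.iff_card.mp P.isPGroup'
    refine orderOf_eq_one_iff.mp (Nat.eq_one_of_dvd_coprimes (b := 2 ^ k) ?_ dvd_rfl ?_ |> id)
    rotate_right
    · rw [← hk, ← hc.symm.index_eq_card]; exact orderOf_dvd_natCard _
    · refine Nat.Coprime.pow_right k (Nat.Coprime.coprime_dvd_left ((orderOf_map_dvd (QuotientGroup.mk' N) _).trans (Subgroup.orderOf_mk x hxC).dvd) (Nat.coprime_two_right.mpr hx))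
  have hYn := Grp.pCore_isNormal (p := 2) (G := H)
  haveI hUn : ((Cfsg.pCore 2 H).subgroupOf C).Normal := inferInstance
  have hdis : N ⊓ (Cfsg.pCore 2 H).subgroupOf C = ⊥ := Grp.inf_eq_bot_of_coprime (by
    obtain ⟨m, hm⟩ := IsPGroup.iff_card.mp
      ((Grp.pCore_isPGroup (p := 2) (G := H)).comap_subtype (K := C))
    show (Nat.card N).Coprime (Nat.card ((Cfsg.pCore 2 H).comap C.subtype))
    rw [hm]; exact (Nat.coprime_two_right.mpr hodd).pow_right m)
  exact congrArg Subtype.val (Subgroup.commute_of_normal_of_disjoint _ _ hN hUn (disjoint_iff.mpr hdis)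
    ⟨x, hxC⟩ ⟨u, huC⟩ hxN hu).eq

/-- Elements of odd order act fixed-point-freely on `O₂(H)`. -/
theorem fpf [Group.IsSolvable H] (hO : Cfsg.oddCore H = ⊥)
    (hI : ∀ t : H, orderOf t = 2 → Cfsg.HasNormalPComplement 2 ↥(Subgroup.centralizer ({t} : Set H)))
    {x y : H} (hx : Odd (orderOf x)) (hx1 : x ≠ 1) (hy : y ∈ Cfsg.pCore 2 H) (hy1 : y ≠ 1) :
    ¬ Commute x y := by
  intro hxy
  haveI : Fact (Nat.Prime 2) := ⟨Nat.prime_two⟩
  obtain ⟨k, hk⟩ := IsPGroup.iff_orderOf.mp (Grp.pCore_isPGroup (p := 2) (G := H)) ⟨y, hy⟩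
  rw [Subgroup.orderOf_mk] at hk
  obtain ⟨j, rfl⟩ : ∃ j, k = j + 1 := by
    rcases k with _ | j
    · exact absurd (orderOf_eq_one_iff.mp (by simpa using hk)) hy1
    · exact ⟨j, rfl⟩
  set t := y ^ 2 ^ j
  have ht : orderOf t = 2 := by
    rw [orderOf_pow' _ (by positivity), hk, pow_succ,
      Nat.gcd_mul_right_left, Nat.mul_div_cancel_left _ (by positivity)]
  have hxt : Commute x t := hxy.pow_right _
  have htY : t ∈ Cfsg.pCore 2 H := pow_mem hy _
  have hYn := Grp.pCore_isNormal (p := 2) (G := H)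
  have hxY : x ∈ Cfsg.pCore 2 H := by
    refine centralizer_le hO (Grp.thompson_PQ (Subgroup.zpowers t) (Subgroup.zpowers x)
      (IsPGroup.of_card (n := 1) (by rw [Nat.card_zpowers, ht, pow_one]))
      (by rw [Nat.card_zpowers]; exact Nat.coprime_two_right.mpr hx) ?_
      (Cfsg.pCore 2 H) Grp.pCore_isPGroup
      (le_top.trans (Subgroup.normalizer_eq_top (H := Cfsg.pCore 2 H)).ge)
      (le_top.trans (Subgroup.normalizer_eq_top (H := Cfsg.pCore 2 H)).ge) ?_ (Subgroup.mem_zpowers x))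
    · rw [Subgroup.zpowers_le, Subgroup.mem_centralizer_iff]
      intro z hz
      obtain ⟨i, rfl⟩ := Subgroup.mem_zpowers_iff.mp hz
      exact (hxt.zpow_left i).eq
    · rintro u ⟨hu, hut⟩
      refine Subgroup.mem_centralizer_iff.mpr fun z hz => ?_
      obtain ⟨i, rfl⟩ := Subgroup.mem_zpowers_iff.mp hz
      have hut' : Commute u t := (Subgroup.mem_centralizer_iff.mp hut t (Subgroup.mem_zpowers t)).symm
      exact ((odd_commute_local hI ht hxt hx hu hut').zpow_left i).eq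
  obtain ⟨l, hl⟩ := IsPGroup.iff_orderOf.mp (Grp.pCore_isPGroup (p := 2) (G := H)) ⟨x, hxY⟩
  rw [Subgroup.orderOf_mk] at hl
  exact hx1 (orderOf_eq_one_iff.mp (Nat.eq_one_of_dvd_coprimes
    ((Nat.coprime_two_right.mpr hx).pow_right l) dvd_rfl hl.dvd))

theorem exists_odd_pow {h : H} : ∃ m k : ℕ, Odd m ∧ orderOf (h ^ m) = 2 ^ k := by
  obtain ⟨k, m, hm, hkm⟩ := Nat.exists_eq_pow_mul_and_not_dvd (orderOf_pos h).ne' 2 (by norm_num)
  have hm0 : m ≠ 0 := fun e => hm (e ▸ dvd_zero 2)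
  refine ⟨m, k, Nat.odd_iff.mpr (by omega), ?_⟩
  rw [orderOf_pow' _ hm0, hkm, Nat.gcd_mul_left_left, Nat.mul_div_cancel _ (Nat.pos_of_ne_zero hm0)]

/-- An involution of `H / O₂(H)` commutes with no non-trivial element of odd order. -/
theorem no_commute [Group.IsSolvable H] (hO : Cfsg.oddCore H = ⊥)
    (hI : ∀ t : H, orderOf t = 2 → Cfsg.HasNormalPComplement 2 ↥(Subgroup.centralizer ({t} : Set H)))
    (hY1 : Cfsg.pCore 2 H ≠ ⊥) [(Cfsg.pCore 2 H).Normal]
    {s : H ⧸ Cfsg.pCore 2 H} {x : H} (hs : s ^ 2 = 1) (hs1 : s ≠ 1) (hx : Odd (orderOf x)) (hx1 : x ≠ 1)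
    (hc : Commute s (QuotientGroup.mk' (Cfsg.pCore 2 H) x)) : False := by
  haveI : Fact (Nat.Prime 2) := ⟨Nat.prime_two⟩
  set π := QuotientGroup.mk' (Cfsg.pCore 2 H)
  have hcop : (Nat.card (Cfsg.pCore 2 H)).Coprime (Nat.card (Subgroup.zpowers x)) := by
    obtain ⟨m, hm⟩ := IsPGroup.iff_card.mp (Grp.pCore_isPGroup (p := 2) (G := H))
    rw [hm, Nat.card_zpowers]
    exact ((Nat.coprime_two_right.mpr hx).pow_right m).symm
  have hmem : s ∈ Subgroup.centralizer (((Subgroup.zpowers x).map π : Subgroup _) : Set (H ⧸ (Cfsg.pCore 2 H))) := by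
    rw [MonoidHom.map_zpowers]
    refine Subgroup.mem_centralizer_iff.mpr fun z hz => ?_
    obtain ⟨i, rfl⟩ := Subgroup.mem_zpowers_iff.mp hz
    exact (hc.zpow_right i).symm.eq
  rw [Grp.QuotNorm.centralizer_map (Cfsg.pCore 2 H) _ hcop (Or.inl inferInstance)] at hmem
  obtain ⟨a, ha, has⟩ := hmem
  have hxa : Commute x a := Subgroup.mem_centralizer_iff.mp ha x (Subgroup.mem_zpowers x)
  obtain ⟨m, k, hm, hk⟩ := exists_odd_pow (h := a)
  set t := a ^ m
  have hts : π t = s := by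
    obtain ⟨i, rfl⟩ := hm
    rw [map_pow, has, pow_add, pow_mul, hs, one_pow, one_mul, pow_one]
  have hxt : Commute x t := hxa.pow_right m
  have ht2 : t ^ 2 = 1 := by
    by_contra hne
    refine fpf hO hI hx hx1 ((QuotientGroup.eq_one_iff (t ^ 2)).mp ?_) hne (hxt.pow_right 2)
    show π (t ^ 2) = 1
    rw [map_pow, hts, hs]
  have ht : orderOf t = 2 := orderOf_eq_prime ht2 (fun e => hs1 (by rw [← hts, e, map_one]))
  have hfix : ∃ u ∈ (Cfsg.pCore 2 H), u ≠ 1 ∧ Commute u t := by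
    let A := Subgroup.zpowers (MulAut.conjNormal t : MulAut (Cfsg.pCore 2 H))
    have hA : IsPGroup 2 A := by
      have h2 : Nat.card A ∣ 2 ^ 1 := by
        rw [Nat.card_zpowers, pow_one]; refine orderOf_dvd_of_pow_eq_one ?_
        rw [← map_pow, ht2, map_one]
      obtain ⟨j, -, hj⟩ := (Nat.dvd_prime_pow Nat.prime_two).mp h2
      exact IsPGroup.of_card hj
    have hdvd : 2 ∣ Nat.card (Cfsg.pCore 2 H) := by
      haveI : Nontrivial (Cfsg.pCore 2 H) := (Subgroup.nontrivial_iff_ne_bot (Cfsg.pCore 2 H)).mpr hY1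
      obtain ⟨n, hn, hcard⟩ := (Grp.pCore_isPGroup (p := 2) (G := H)).nontrivial_iff_card.mp inferInstance
      exact hcard ▸ dvd_pow_self 2 hn.ne'
    obtain ⟨b, hb, hb1⟩ := hA.exists_fixed_point_of_prime_dvd_card_of_fixed_point (Cfsg.pCore 2 H) hdvd
      (a := 1) (fun g => map_one (g : MulAut (Cfsg.pCore 2 H)))
    refine ⟨b, b.2, fun e => hb1 (Subtype.ext e.symm), ?_⟩
    have := congrArg Subtype.val (hb ⟨_, Subgroup.mem_zpowers _⟩)
    have h' : t * (b : H) * t⁻¹ = b := this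
    exact (mul_inv_eq_iff_eq_mul.mp h').symm
  obtain ⟨u, hu, hu1, hut⟩ := hfix
  exact fpf hO hI hx hx1 hu hu1 (odd_commute_local hI ht hxt hx hu hut)

theorem sylow_cyclic [Group.IsSolvable H] (hO : Cfsg.oddCore H = ⊥)
    (hI : ∀ t : H, orderOf t = 2 → Cfsg.HasNormalPComplement 2 ↥(Subgroup.centralizer ({t} : Set H)))
    (hY1 : Cfsg.pCore 2 H ≠ ⊥) {X : Subgroup H} (hX : Odd (Nat.card X))
    (p : ℕ) [hp : Fact p.Prime] (P : Sylow p ↥X) : IsCyclic ↥(P : Subgroup ↥X) := by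
  rcases subsingleton_or_nontrivial (P : Subgroup X) with hs | hs
  · infer_instance
  have hodd : ∀ x : H, x ∈ X → Odd (orderOf x) := fun x hx =>
    hX.of_dvd_nat (Subgroup.orderOf_dvd_natCard X hx)
  have hp2 : p ≠ 2 := by
    rintro rfl
    obtain ⟨n, hn, hcard⟩ := P.isPGroup'.nontrivial_iff_card.mp hs
    have h := (hX.of_dvd_nat (Subgroup.card_subgroup_dvd_card (P : Subgroup X)))
    rw [hcard, Nat.odd_pow_iff hn.ne'] at h
    exact absurd h (by decide)
  haveI := P.isPGroup'.center_nontrivial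
  obtain ⟨n, hn, hcard⟩ := (P.isPGroup'.to_subgroup (Subgroup.center (P : Subgroup X))).nontrivial_iff_card.mp inferInstance
  obtain ⟨z, hz⟩ := exists_prime_orderOf_dvd_card' p (hcard ▸ dvd_pow_self p hn.ne')
  refine Invol.isCyclic_of_pow_eq_one_mem P.isPGroup' hp2 z.2
    (by have := congrArg Subtype.val (show z ^ p = 1 from orderOf_dvd_iff_pow_eq_one.mp hz.dvd); exact this) ?_
  intro y hy
  by_contra hyz
  set Q := Subgroup.closure ({(z : (P : Subgroup X)), y} : Set (P : Subgroup X)) with hQ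
  have hcomm : Commute (z : (P : Subgroup X)) y := (Subgroup.mem_center_iff.mp z.2 y).symm
  haveI hQc : IsMulCommutative Q := Subgroup.isMulCommutative_closure (by
    intro a ha b hb
    rcases ha with rfl | rfl <;> rcases hb with rfl | rfl
    · rfl
    · exact hcomm.eq
    · exact hcomm.eq.symm
    · rfl)
  have hnc : ¬ IsCyclic Q := by
    intro hc
    obtain ⟨⟨g, hg⟩, hgen⟩ := hc.exists_generator
    have hexp : ∀ w : Q, w ^ p = 1 := by
      intro w
      obtain ⟨w, hw⟩ := w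
      refine Subtype.ext ?_
      show w ^ p = 1
      refine Subgroup.closure_induction (p := fun w _ => w ^ p = 1) ?_ (one_pow p) ?_ ?_ hw
      · rintro a (rfl | rfl)
        · exact congrArg Subtype.val (show z ^ p = 1 from orderOf_dvd_iff_pow_eq_one.mp hz.dvd)
        · exact hy
      · intro a b ha hb iha ihb
        have : Commute a b := congrArg Subtype.val ((mul_comm' (⟨a, ha⟩ : Q) ⟨b, hb⟩))
        rw [this.mul_pow, iha, ihb, one_mul]
      · intro a _ iha; rw [inv_pow, iha, inv_one]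
    have hcardQ : Nat.card Q ≤ p := by
      rw [← orderOf_eq_card_of_forall_mem_zpowers hgen]
      exact orderOf_le_of_pow_eq_one hp.out.pos (hexp _)
    have hzQ : Subgroup.zpowers (z : (P : Subgroup X)) ≤ Q :=
      Subgroup.zpowers_le.mpr (Subgroup.subset_closure (Or.inl rfl))
    have heq := Subgroup.eq_of_le_of_card_ge hzQ (by
      rw [Nat.card_zpowers, Subgroup.orderOf_coe, hz]; exact hcardQ)
    exact hyz (heq ▸ Subgroup.subset_closure (Or.inr rfl))
  let i : (P : Subgroup X) →* H := X.subtype.comp (P : Subgroup X).subtype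
  have hi : Function.Injective i := fun a b e => Subtype.ext (Subtype.ext e)
  haveI : IsMulCommutative (Q.map i) := Subgroup.map_isMulCommutative Q i
  have hnc' : ¬ IsCyclic (Q.map i) := fun h =>
    hnc ((Subgroup.equivMapOfInjective Q i hi).symm.isCyclic.mp h)
  have hYn := Grp.pCore_isNormal (p := 2) (G := H)
  have hcop : (Nat.card (Q.map i)).Coprime (Nat.card (Cfsg.pCore 2 H)) := by
    haveI : Fact (Nat.Prime 2) := ⟨Nat.prime_two⟩
    obtain ⟨m, hm⟩ := IsPGroup.iff_card.mp (Grp.pCore_isPGroup (p := 2) (G := H))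
    rw [hm]
    refine Nat.Coprime.pow_right m (Nat.coprime_two_right.mpr (hX.of_dvd_nat ?_))
    refine Subgroup.card_dvd_of_le ?_
    rintro _ ⟨w, -, rfl⟩; exact (w : X).2
  have hgen := Grp.generated_by_centralizers (Q.map i) (Cfsg.pCore 2 H) hnc'
    (le_top.trans (Subgroup.normalizer_eq_top (H := Cfsg.pCore 2 H)).ge) hcop
  refine hY1 (le_bot_iff.mp ?_)
  rw [← hgen]
  refine iSup₂_le fun a ha u hu => Subgroup.mem_bot.mpr ?_
  by_contra hu1
  obtain ⟨w, -, hw⟩ := ha.1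
  exact fpf hO hI (hodd a (hw ▸ (w : X).2)) ha.2 hu.1 hu1
    (Subgroup.mem_centralizer_singleton_iff.mp hu.2).symm

end

/-- Let H be a finite solvable group with no nontrivial normal subgroup of odd order in which the centralizer of every involution has a normal 2-complement. Let X be a Hall 2'-subgroup of H (odd order, index a power of 2) and Y = O₂(H). Then no non-identity element of X commutes with a non-identity element of Y (so for X ≠ 1 the group XY is a Frobenius group with kernel Y), every Sylow subgroup of X is cyclic, XY is normal in H, and H/XY is a cyclic 2-group. -/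
theorem result {H : Type*} [Group H] [Finite H] (hsol : Group.IsSolvable H)
    (hO : Cfsg.oddCore H = ⊥)
    (hI : ∀ t : H, orderOf t = 2 → Cfsg.HasNormalPComplement 2 ↥(Subgroup.centralizer ({t} : Set H)))
    (X : Subgroup H) (hXodd : Odd (Nat.card X)) (hXidx : ∃ k : ℕ, X.index = 2 ^ k) :
    (∀ x ∈ X, x ≠ 1 → ∀ y ∈ Cfsg.pCore 2 H, y ≠ 1 → x * y ≠ y * x) ∧
      (∀ (p : ℕ) [Fact p.Prime] (P : Sylow p ↥X), IsCyclic ↥(P : Subgroup ↥X)) ∧
      (X ⊔ Cfsg.pCore 2 H).Normal ∧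
      ∀ hN : (X ⊔ Cfsg.pCore 2 H).Normal, IsCyclic (H ⧸ (X ⊔ Cfsg.pCore 2 H)) ∧ IsPGroup 2 (H ⧸ (X ⊔ Cfsg.pCore 2 H)) := by
  haveI : Fact (Nat.Prime 2) := ⟨Nat.prime_two⟩
  haveI := hsol
  haveI hYn := Grp.pCore_isNormal (p := 2) (G := H)
  set Y := Cfsg.pCore 2 H with hY
  have hCY := centralizer_le hO
  have hodd : ∀ x ∈ X, Odd (orderOf x) := fun x hx => hXodd.of_dvd_nat (Subgroup.orderOf_dvd_natCard X hx)
  refine ⟨fun x hx hx1 y hy hy1 => fpf hO hI (hodd x hx) hx1 hy hy1, ?_⟩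
  by_cases hY1 : Y = ⊥
  · have htop : ∀ h : H, h = 1 := fun h => Subgroup.mem_bot.mp (hY1 ▸ hCY (by
      rw [← hY, hY1]; exact Subgroup.mem_centralizer_iff.mpr fun y hy => by
        rw [Subgroup.mem_bot.mp hy, one_mul, mul_one]))
    haveI : Subsingleton H := ⟨fun a b => (htop a).trans (htop b).symm⟩
    refine ⟨fun p _ P => inferInstance, ⟨fun a ha g => by rwa [Subsingleton.elim (g * a * g⁻¹) a]⟩, fun hN => ?_⟩
    haveI : Subsingleton (H ⧸ (X ⊔ Y)) := (QuotientGroup.mk'_surjective (X ⊔ Y)).subsingleton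
    exact ⟨inferInstance, IsPGroup.of_card (n := 0) (by simp)⟩
  have hcyc := fun (p : ℕ) [Fact p.Prime] (P : Sylow p ↥X) => sylow_cyclic hO hI hY1 hXodd p P
  refine ⟨hcyc, ?_⟩
  set π := QuotientGroup.mk' Y with hπ
  have hπs : Function.Surjective π := QuotientGroup.mk'_surjective _
  set F := Cfsg.fittingSubgroup (H ⧸ Y) with hF
  haveI : F.Normal := Grp.fittingSubgroup_isNormal
  haveI : Group.IsSolvable (H ⧸ Y) := Group.isSolvable_of_surjective hπs
  have hCF : Subgroup.centralizer (F : Set (H ⧸ Y)) ≤ F := Grp.centralizer_fittingSubgroup_le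
  have hO2 : Cfsg.pCore 2 (H ⧸ Y) = ⊥ := by
    rw [← Subgroup.map_comap_eq_self_of_surjective hπs (Cfsg.pCore 2 (H ⧸ Y)), Subgroup.map_eq_bot_iff,
      hπ, QuotientGroup.ker_mk']
    refine Grp.le_pCore ((Grp.pCore_isNormal (p := 2) (G := H ⧸ Y)).comap _) ?_
    refine (Grp.pCore_isPGroup (p := 2) (G := H ⧸ Y)).comap_of_ker_isPGroup _ ?_
    rw [QuotientGroup.ker_mk']; exact Grp.pCore_isPGroup
  have hFodd : Odd (Nat.card F) := by
    rw [Nat.odd_iff]
    by_contra h2
    obtain ⟨f, hf⟩ := exists_prime_orderOf_dvd_card' (G := F) 2 (by omega)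
    have := Grp.mem_pCore_of_mem_fitting (p := 2) f.2
      (IsPGroup.of_card (n := 1) (by rw [Nat.card_zpowers, Subgroup.orderOf_coe, hf, pow_one]))
    rw [hO2, Subgroup.mem_bot] at this
    rw [show f = 1 from Subtype.ext this, orderOf_one] at hf
    exact absurd hf (by decide)
  set X' := X.map π with hX'
  have hXY : X ⊓ Y = ⊥ := Grp.inf_eq_bot_of_coprime (by
    obtain ⟨m, hm⟩ := IsPGroup.iff_card.mp (Grp.pCore_isPGroup (p := 2) (G := H))
    rw [hY, hm]; exact (Nat.coprime_two_right.mpr hXodd).pow_right m)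
  have hinj : Function.Injective (π.comp X.subtype) := by
    rw [injective_iff_map_eq_one]
    intro a ha
    exact Subtype.ext (Subgroup.mem_bot.mp (hXY.le ⟨a.2, (QuotientGroup.eq_one_iff (a : H)).mp ha⟩))
  let eX : X ≃* X' := (MonoidHom.ofInjective hinj).trans
    (MulEquiv.subgroupCongr (by rw [hX', MonoidHom.range_comp, Subgroup.range_subtype]))
  have hX'odd : Odd (Nat.card X') := Nat.card_congr eX.toEquiv ▸ hXodd
  obtain ⟨k, hk⟩ := hXidx
  have hFX : F ≤ X' := by
    have h1 : Odd (Nat.card ↥(X' ⊔ F)) :=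
      (hX'odd.mul hFodd).of_dvd_nat (Grp.card_sup_dvd_mul (le_top.trans (Subgroup.normalizer_eq_top (H := F)).ge))
    have h2 : X'.relIndex (X' ⊔ F) ∣ 2 ^ k := by
      refine (Subgroup.relIndex_dvd_index_of_le le_sup_left).trans ?_
      rw [← hk]; exact Subgroup.index_map_dvd _ hπs
    have h3 : X'.relIndex (X' ⊔ F) ∣ Nat.card ↥(X' ⊔ F) := by
      exact Subgroup.index_dvd_card (X'.subgroupOf (X' ⊔ F))
    have h4 := Nat.eq_one_of_dvd_coprimes ((Nat.coprime_two_right.mpr h1).pow_right k) h3 h2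
    exact le_sup_right.trans (Subgroup.relIndex_eq_one.mp h4)
  haveI : IsZGroup X' := by
    haveI : IsZGroup X := ⟨fun p hp P => by haveI := Fact.mk hp; exact hcyc p P⟩
    exact IsZGroup.of_surjective (f := eX.toMonoidHom) eX.surjective
  haveI : IsZGroup F := IsZGroup.of_injective (f := Subgroup.inclusion hFX) (Subgroup.inclusion_injective hFX)
  haveI : Group.IsNilpotent F := Grp.fittingSubgroup_isNilpotent
  haveI hFc : IsCyclic F := inferInstance
  obtain ⟨f0, hf0⟩ := hFc.exists_generator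
  have habel : ∀ a b : H ⧸ Y, a * b * a⁻¹ * b⁻¹ ∈ F := by
    intro a b
    refine hCF (Subgroup.mem_centralizer_iff.mpr fun f hf => ?_)
    have key : Commute (MulAut.conjNormal a : MulAut F) (MulAut.conjNormal b) := by
      obtain ⟨i, hi⟩ := MonoidHom.map_cyclic ((MulAut.conjNormal a : MulAut F).toMonoidHom)
      obtain ⟨j, hj⟩ := MonoidHom.map_cyclic ((MulAut.conjNormal b : MulAut F).toMonoidHom)
      refine MulEquiv.ext fun w => ?_
      show MulAut.conjNormal a (MulAut.conjNormal b w) = MulAut.conjNormal b (MulAut.conjNormal a w)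
      simp only [MulEquiv.coe_toMonoidHom] at hi hj
      rw [hj, hi, hi w, hj (w ^ i), ← zpow_mul, ← zpow_mul, mul_comm]
    have h1 : (MulAut.conjNormal (a * b * a⁻¹ * b⁻¹) : MulAut F) = 1 := by
      rw [map_mul, map_mul, map_mul, key.eq, map_inv, map_inv]; group
    have h2 := congrArg Subtype.val (DFunLike.congr_fun h1 ⟨f, hf⟩)
    rw [MulAut.conjNormal_apply] at h2
    exact (mul_inv_eq_iff_eq_mul.mp h2).symm
  have hX'n : X'.Normal := ⟨fun x hx g => by
    have := X'.mul_mem (hFX (habel g x)) hx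
    rwa [inv_mul_cancel_right] at this⟩
  have heq : X ⊔ Y = X'.comap π := by
    rw [hX', Subgroup.comap_map_eq, hπ, QuotientGroup.ker_mk']
  have hN0 : (X ⊔ Y).Normal := heq ▸ hX'n.comap π
  refine ⟨hN0, fun hN => ?_⟩
  have h2Q : IsPGroup 2 (H ⧸ (X ⊔ Y)) := by
    obtain ⟨j, -, hj⟩ := (Nat.dvd_prime_pow Nat.prime_two).mp
      (hk ▸ Subgroup.index_dvd_of_le (le_sup_left : X ≤ X ⊔ Y))
    exact IsPGroup.of_card (n := j) hj
  refine ⟨?_, h2Q⟩
  set ρ := QuotientGroup.mk' (X ⊔ Y)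
  have hρπ : ∀ h : H, π h ∈ F → ρ h = 1 := fun h hh => (QuotientGroup.eq_one_iff h).mpr (by
    rw [heq, Subgroup.mem_comap]; exact hFX hh)
  have habQ : ∀ u v : H ⧸ (X ⊔ Y), Commute u v := by
    intro u v
    obtain ⟨a, rfl⟩ := QuotientGroup.mk'_surjective (X ⊔ Y) u
    obtain ⟨b, rfl⟩ := QuotientGroup.mk'_surjective (X ⊔ Y) v
    have := hρπ (a * b * a⁻¹ * b⁻¹) (by simpa only [map_mul, map_inv] using habel (π a) (π b))
    simp only [map_mul, map_inv] at this
    exact mul_inv_eq_iff_eq_mul.mp (mul_inv_eq_one.mp this)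
  have lift : ∀ u : H ⧸ (X ⊔ Y), orderOf u = 2 →
      ∃ a : H, ρ a = u ∧ ∀ f ∈ F, π a * f * (π a)⁻¹ = f⁻¹ := by
    intro u hu
    obtain ⟨h, rfl⟩ := QuotientGroup.mk'_surjective (X ⊔ Y) u
    obtain ⟨m, j, hm, hj⟩ := exists_odd_pow (h := h)
    have hau : ρ (h ^ m) = ρ h := by
      obtain ⟨i, rfl⟩ := hm
      rw [map_pow, pow_add, pow_mul, pow_orderOf_eq_one (ρ h) |> fun e => (hu ▸ e : ρ h ^ 2 = 1),
        one_pow, one_mul, pow_one]
    refine ⟨h ^ m, hau, ?_⟩
    set a := h ^ m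
    have hu2 : ρ a ^ 2 = 1 := by rw [hau, ← hu]; exact pow_orderOf_eq_one _
    have ha2 : π a ^ 2 = 1 := by
      have h1 : a ^ 2 ∈ X ⊔ Y := by rw [← QuotientGroup.eq_one_iff]; exact (map_pow ρ a 2).trans hu2
      rw [heq, Subgroup.mem_comap, map_pow] at h1
      refine orderOf_eq_one_iff.mp (Nat.eq_one_of_dvd_coprimes (b := 2 ^ j)
        ((Nat.coprime_two_right.mpr hX'odd).pow_right j) (Subgroup.orderOf_dvd_natCard X' h1) ?_)
      rw [← hj]
      exact (orderOf_pow_dvd 2).trans (orderOf_map_dvd π a)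
    have ha1 : π a ≠ 1 := by
      intro e
      have h1 := hρπ a (e ▸ F.one_mem)
      rw [hau] at h1
      rw [h1, orderOf_one] at hu
      exact absurd hu (by decide)
    intro f hf
    set c := f * (π a * f * (π a)⁻¹)
    have hfa : π a * f * (π a)⁻¹ ∈ F := (inferInstance : F.Normal).conj_mem f hf _
    have hcF : c ∈ F := F.mul_mem hf hfa
    have hcomm : f * (π a * f * (π a)⁻¹) = (π a * f * (π a)⁻¹) * f :=
      congrArg Subtype.val ((IsCyclic.commGroup (α := F)).mul_comm ⟨f, hf⟩ ⟨_, hfa⟩)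
    have hac : Commute (π a) c := by
      have e1 : π a * π a = 1 := by rw [← pow_two]; exact ha2
      have e2 : (π a)⁻¹ = π a := inv_eq_of_mul_eq_one_right e1
      show π a * c = c * π a
      calc π a * c = (π a * f * (π a)⁻¹) * (π a * π a * f * (π a)⁻¹) := by simp only [c]; group
        _ = (π a * f * (π a)⁻¹) * f * π a := by rw [e1, one_mul, e2]; simp [mul_assoc]
        _ = c * π a := by rw [← hcomm]
    by_contra hne
    have hc1 : c ≠ 1 := fun e => hne (eq_inv_of_mul_eq_one_right e)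
    obtain ⟨x, hx, hxc⟩ := hFX hcF
    exact no_commute hO hI hY1 ha2 ha1 (hodd x hx) (fun e => hc1 (by rw [← hxc, e, map_one]))
      (hxc.symm ▸ hac)
  have huniq : ∀ u v : H ⧸ (X ⊔ Y), orderOf u = 2 → orderOf v = 2 → u = v := by
    intro u v hu hv
    obtain ⟨a, rfl, ha⟩ := lift u hu
    obtain ⟨b, rfl, hb⟩ := lift v hv
    have hmem : π (b⁻¹ * a) ∈ F := by
      refine hCF (Subgroup.mem_centralizer_iff.mpr fun f hf => ?_)
      have h1 : π a * f * (π a)⁻¹ = π b * f * (π b)⁻¹ := (ha f hf).trans (hb f hf).symm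
      rw [map_mul, map_inv]
      calc f * ((π b)⁻¹ * π a) = (π b)⁻¹ * (π b * f * (π b)⁻¹) * π a := by group
        _ = (π b)⁻¹ * (π a * f * (π a)⁻¹) * π a := by rw [h1]
        _ = (π b)⁻¹ * π a * f := by group
    have := hρπ _ hmem
    rw [map_mul, map_inv, inv_mul_eq_one] at this
    exact this.symm
  obtain ⟨g, -, hg⟩ := OneInvol.exists_zpowers_eq h2Q (A := ⊤) (fun u _ v _ => habQ u v) huniq
  exact ⟨⟨g, fun w => Subgroup.mem_zpowers_iff.mp (hg ▸ Subgroup.mem_top w)⟩⟩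

end Cfsg.Agent.S3215
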