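import Cfsg.Statements.S3221
import Cfsg.Agent.Lib.Invol.PSp43.Model
import Cfsg.Agent.Lib.Invol.PSp43.Iso
import Cfsg.Agent.Lib.Classical.SympSimple

set_option autoImplicit false
open Cfsg

namespace Cfsg.Agent.S3221

open Cfsg.Agent.Invol.PSp43 in
/-- A setting moves along an isomorphism of centralisers. -/
theorem exists_setting {G K : Type*} [Group G] [Group K] (h : Setting K) {t₀ g : K} {t : G}
    (ht : orderOf t = 2) (hg : g * t₀ * g⁻¹ = h.e tI)
    (e : ↥(Subgroup.centralizer ({t} : Set G)) ≃* ↥(Subgroup.centralizer ({t₀} : Set K))) :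
    Nonempty (Setting G) := by
  classical
  have hconj : ∀ x : K, x ∈ Subgroup.centralizer ({t₀} : Set K) ↔ ∃ i < 576, h.e i = g * x * g⁻¹ := by
    intro x
    rw [Subgroup.mem_centralizer_singleton_iff, ← h.cen, ← hg]
    constructor
    · intro hx
      calc g * x * g⁻¹ * (g * t₀ * g⁻¹) = g * (x * t₀) * g⁻¹ := by group
        _ = g * (t₀ * x) * g⁻¹ := by rw [hx]
        _ = _ := by group
    · intro hx
      refine mul_left_cancel (a := g) (mul_right_cancel (b := g⁻¹) ?_)
      calc g * (x * t₀) * g⁻¹ = g * x * g⁻¹ * (g * t₀ * g⁻¹) := by group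
        _ = g * t₀ * g⁻¹ * (g * x * g⁻¹) := hx
        _ = _ := by group
  have hmem : ∀ i < 576, g⁻¹ * h.e i * g ∈ Subgroup.centralizer ({t₀} : Set K) := fun i hi =>
    (hconj _).2 ⟨i, hi, by group⟩
  let k : ℕ → ↥(Subgroup.centralizer ({t₀} : Set K)) := fun i =>
    if hi : i < 576 then ⟨_, hmem i hi⟩ else 1
  have hk : ∀ {i}, i < 576 → (k i : K) = g⁻¹ * h.e i * g := fun {i} hi => by simp [k, hi]
  let ee : ℕ → G := fun i => ((e.symm (k i) : ↥(Subgroup.centralizer ({t} : Set G))) : G)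
  have hinj : ∀ i < 576, ∀ j < 576, ee i = ee j → i = j := fun i hi j hj he => by
    have h1 : k i = k j := e.symm.injective (Subtype.ext he)
    have h2 := congrArg Subtype.val h1
    rw [hk hi, hk hj] at h2
    exact h.inj i hi j hj (mul_left_cancel (mul_right_cancel h2))
  have hmul : ∀ i < 576, ∀ j < 576, ee (mL i j) = ee i * ee j := fun i hi j hj => by
    have h1 : k (mL i j) = k i * k j := Subtype.ext (by
      rw [Subgroup.coe_mul, hk (mL_lt i j), hk hi, hk hj, h.mul i hi j hj]; group)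
    show ((e.symm (k (mL i j)) : ↥(Subgroup.centralizer ({t} : Set G))) : G) = _
    rw [h1, map_mul]; rfl
  have hsurj : ∀ x : G, x * t = t * x → ∃ i < 576, ee i = x := fun x hx => by
    obtain ⟨i, hi, hie⟩ := (hconj _).1 (e ⟨x, Subgroup.mem_centralizer_singleton_iff.2 hx⟩).2
    refine ⟨i, hi, ?_⟩
    have h1 : k i = e ⟨x, Subgroup.mem_centralizer_singleton_iff.2 hx⟩ := Subtype.ext (by
      rw [hk hi, hie]; group)
    show ((e.symm (k i) : ↥(Subgroup.centralizer ({t} : Set G))) : G) = x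
    rw [h1, e.symm_apply_apply]
  have heC : ∀ i, ee i * t = t * ee i := fun i =>
    Subgroup.mem_centralizer_singleton_iff.1 (e.symm (k i)).2
  obtain ⟨i, hi, hie⟩ := hsurj t rfl
  have hcom : ∀ j < 576, com i j = true := fun j hj => by
    refine beq_iff.2 (hinj _ (mL_lt _ _) _ (mL_lt _ _) ?_)
    rw [hmul i hi j hj, hmul j hj i hi, hie, heC j]
  have he0 : ee 0 = 1 := by
    have := hmul 0 (by norm_num) 0 (by norm_num)
    rw [show mL 0 0 = 0 by decide +kernel] at this
    simpa using this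
  have hit : i = tI := by
    have hc := center_ok
    simp only [List.all_eq_true, List.mem_range, Bool.or_eq_true, beq_iff, List.any_eq_true,
      Bool.not_eq_true'] at hc
    rcases hc i hi with (r | r) | ⟨j, hj, hjc⟩
    · exfalso
      rw [r, he0] at hie
      exact Cfsg.Agent.Invol.ne_one_of_orderOf_two ht hie.symm
    · exact r
    · exfalso
      have hj576 : j < 576 := (show ∀ j ∈ [pI, wI, aI, sI], j < 576 by decide) j hj
      rw [hcom j hj576] at hjc
      exact Bool.noConfusion hjc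
  subst hit
  refine ⟨{ e := ee, inj := hinj, mul := hmul, cen := fun x => ?_ }⟩
  rw [hie]
  exact ⟨hsurj x, fun ⟨j, _, hj⟩ => hj ▸ heC j⟩

/-- Let F be the field with 3 elements and t₀ an involution of PSp₄(3) = PSp₄(F) lying in the centre of a Sylow 2-subgroup. If G is a finite group of even order that has no subgroup of index 2 and contains an involution t whose centralizer C_G(t) is isomorphic to C_{PSp₄(3)}(t₀), then G ≅ PSp₄(3). -/
theorem result {G : Type*} [Group G] [Finite G] (hev : Even (Nat.card G))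
    (hG : ∀ H : Subgroup G, H.index ≠ 2) {F : Type*} [Field F] [Fintype F] (hF : Fintype.card F = 3)
    (U : Sylow 2 (Cfsg.PSp 2 F)) (t₀ : Cfsg.PSp 2 F) (ht₀ : orderOf t₀ = 2) (ht₀U : t₀ ∈ (U : Subgroup (Cfsg.PSp 2 F)))
    (ht₀c : ∀ u ∈ (U : Subgroup (Cfsg.PSp 2 F)), u * t₀ = t₀ * u) (t : G) (ht : orderOf t = 2)
    (e : ↥(Subgroup.centralizer ({t} : Set G)) ≃* ↥(Subgroup.centralizer ({t₀} : Set (Cfsg.PSp 2 F)))) :
    Nonempty (G ≃* Cfsg.PSp 2 F) := by
  classical
  haveI : Fact (Nat.Prime 3) := ⟨Nat.prime_three⟩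
  haveI : CharP F 3 := charP_of_card_eq_prime (by rw [hF])
  let φ : ZMod 3 →+* F := ZMod.castHom dvd_rfl F
  have hφ : Function.Bijective φ :=
    (Fintype.bijective_iff_injective_and_card _).2 ⟨φ.injective, by rw [ZMod.card, hF]⟩
  let hP := Cfsg.Agent.Invol.PSp43.setting φ hφ
  obtain ⟨g, hg⟩ := Cfsg.Agent.Invol.PSp43.central_conj φ hφ U t₀ ht₀ ht₀U ht₀c
  obtain ⟨hGs⟩ := exists_setting hP ht hg e
  haveI : IsSimpleGroup (Cfsg.PSp 2 F) := by
    refine Cfsg.Agent.Classical.PSp_isSimpleGroup (by norm_num) ?_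
    exact Cfsg.Agent.Classical.symp_perfect_of_card (Or.inr (Or.inl ⟨rfl, hF.ge⟩))
  refine Cfsg.Agent.Invol.PSp43.iso hGs hG hP fun H hH => ?_
  have hle : 576 ≤ Nat.card (Cfsg.PSp 2 F) := hP.card_cent ▸ Subgroup.card_le_card_group _
  rcases (Subgroup.normal_of_index_eq_two hH).eq_bot_or_eq_top with r | r
  · rw [r, Subgroup.index_bot] at hH
    omega
  · rw [r, Subgroup.index_top] at hH
    omega

end Cfsg.Agent.S3221
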