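import Cfsg.Statements.S3222
import Cfsg.Agent.S3035
import Cfsg.Agent.Lib.Grp.TwoSymFour.Cases
import Cfsg.Agent.Lib.Grp.TwoSymFour.Known

set_option autoImplicit false
open Cfsg

namespace Cfsg.Agent.S3222

/-- Let G be a finite group of even order such that (1) some involution t lying in the centre of a Sylow 2-subgroup of G has C_G(t) ≅ Z₂ × S₄, and (2) every Sylow 2-subgroup S of G satisfies C_G(S′) = S, where S′ is the derived subgroup of S. Then G = C_G(t) if G is solvable, and G ≅ S₆ otherwise. -/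
theorem result {G : Type*} [Group G] [Finite G] (hev : Even (Nat.card G))
    (t : G) (ht : orderOf t = 2) (T : Sylow 2 G) (htT : t ∈ (T : Subgroup G)) (htc : ∀ s ∈ (T : Subgroup G), s * t = t * s)
    (e : ↥(Subgroup.centralizer ({t} : Set G)) ≃* (Multiplicative (ZMod 2) × Equiv.Perm (Fin 4)))
    (h2 : ∀ S : Sylow 2 G, Subgroup.centralizer ((⁅(S : Subgroup G), (S : Subgroup G)⁆ : Subgroup G) : Set G) = (S : Subgroup G)) :
    (Group.IsSolvable G → Subgroup.centralizer ({t} : Set G) = ⊤) ∧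
      (¬ Group.IsSolvable G → Nonempty (G ≃* Equiv.Perm (Fin 6))) := by
  let c : Cfsg.Agent.Grp.TwoSymFour.Config G := ⟨t, ht, T, htc, e, h2⟩
  obtain ⟨K, hK, htK, hzK⟩ := c.exists_index_two
  have hG := Cfsg.Agent.Grp.TwoSymFour.Config.card_eq (G := G) hK
  have hzo : orderOf (⟨c.z, hzK⟩ : K) = 2 := by
    rw [Subgroup.orderOf_mk, orderOf_injective c.ι c.ι_injective]
    exact orderOf_eq_prime (by rw [pow_two]; exact Cfsg.Agent.Grp.TwoSymFour.z_mul_self.1)
      Cfsg.Agent.Grp.TwoSymFour.z_mul_self.2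
  have hd := c.centralizer_dihedral hK htK hzK
  have hsol : Nat.card G = 48 → Group.IsSolvable G := by
    intro h
    haveI h4 := Cfsg.Agent.Grp.TwoSymFour.isSolvable_perm_four
    haveI : Group.IsSolvable Cfsg.Agent.Grp.TwoSymFour.M := inferInstance
    have htop : Subgroup.centralizer ({t} : Set G) = ⊤ := c.eq_top_of_card h
    let f : G →* Cfsg.Agent.Grp.TwoSymFour.M :=
      e.toMonoidHom.comp ((MonoidHom.id G).codRestrict _ fun x => by rw [htop]; trivial)
    exact Group.isSolvable_of_isSolvable_injective (f := f)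
      (fun a b hab => congrArg Subtype.val (e.injective hab))
  rcases Cfsg.Agent.S3035.result _ hzo hd with h | ⟨⟨α⟩⟩ | ⟨⟨α⟩⟩ | ⟨⟨α⟩⟩ | ⟨⟨α⟩⟩
  · exfalso
    rw [Cfsg.Agent.Grp.TwoSymFour.Config.oddCore_K c hK, sup_bot_eq] at h
    obtain ⟨d⟩ := hd
    have h8 : Nat.card K = 8 := by
      rw [← Subgroup.card_top (G := K), ← h, Nat.card_congr d.toEquiv, DihedralGroup.nat_card]
    have := Cfsg.Agent.Grp.TwoSymFour.Config.le_card_K c hK
    omega
  · have h48 : Nat.card G = 48 := by
      rw [hG, Nat.card_congr α.toEquiv, Nat.card_perm, Nat.card_fin]; rfl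
    exact ⟨fun _ => c.eq_top_of_card h48, fun hn => absurd (hsol h48) hn⟩
  · exfalso
    apply c.card_ne_240
    rw [hG, Nat.card_congr α.toEquiv, Nat.card_perm, Nat.card_fin]; rfl
  · exfalso
    apply c.card_ne_336
    rw [hG, Nat.card_congr α.toEquiv, Cfsg.Agent.Grp.TwoSymFour.card_SL]
  · obtain ⟨σ⟩ := c.mulEquiv_perm_six hK htK hzK α
    refine ⟨fun hs => ?_, fun _ => ⟨σ⟩⟩
    exfalso
    haveI := hs
    have h6 : Group.IsSolvable (Equiv.Perm (Fin 6)) :=
      Group.isSolvable_of_surjective (f := σ.toMonoidHom) σ.surjective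
    exact Equiv.Perm.not_isSolvable (Fin 6) (by simp; norm_num) h6

end Cfsg.Agent.S3222
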