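import Cfsg.Statements.S3226
import Cfsg.Agent.Lib.Fus.OddCentral.Families

set_option autoImplicit false
open Cfsg

namespace Cfsg.Agent.S3226

/-- Let G be a finite group with an involution t lying in the centre of a Sylow 2-subgroup of G and such that C_G(t) = ⟨t⟩ × F (internal direct product) where F is isomorphic to an alternating group A_n (n ≥ 5) or to a simple group of Lie type over a field of odd characteristic. Then G has a subgroup of index 2 not containing t, unless F ≅ A₅ or F ≅ PSL₂(3^(2k+1)) for some k ≥ 1. -/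
theorem result {G : Type*} [Group G] [Finite G]
    (t : G) (ht : orderOf t = 2) (S : Sylow 2 G) (htS : t ∈ (S : Subgroup G)) (htc : ∀ s ∈ (S : Subgroup G), s * t = t * s)
    (F : Subgroup G) (hF : Cfsg.IsInternalDirectProduct (Subgroup.zpowers t) F (Subgroup.centralizer ({t} : Set G)))
    (hFs : IsSimpleGroup ↥F) (hFna : ¬ IsMulCommutative ↥F)
    (hFiso : (∃ n : ℕ, 5 ≤ n ∧ Nonempty (↥F ≃* ↥(alternatingGroup (Fin n)))) ∨
      (∃ p : ℕ, p.Prime ∧ p ≠ 2 ∧ Cfsg.IsLieTypeChar p ↥F)) :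
    (∃ H : Subgroup G, H.index = 2 ∧ t ∉ H) ∨ Nonempty (↥F ≃* ↥(alternatingGroup (Fin 5))) ∨
      (∃ (K : Type) (_ : Field K) (_ : Fintype K) (n : ℕ), 1 ≤ n ∧ Fintype.card K = 3 ^ (2 * n + 1) ∧
        Nonempty (↥F ≃* Matrix.ProjectiveSpecialLinearGroup (Fin 2) K)) := by
  have h : Cfsg.Agent.OddCentral.Setup t S F := ⟨ht, htS, htc, hF⟩
  haveI := hFs
  rcases hFiso with ⟨n, hn, ⟨e⟩⟩ | ⟨p, hpp, hp, hLie⟩
  · rcases Nat.lt_or_ge n 6 with h6 | h6
    · obtain rfl : n = 5 := by omega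
      exact Or.inr (Or.inl ⟨e⟩)
    · exact Or.inl (h.exists_index_two_of_good ((Cfsg.Agent.OddCentral.good_alternating h6).congr e))
  · exact h.lie_cases hFna hpp hp hLie

end Cfsg.Agent.S3226
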