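import Cfsg.Statements.S3230
import Cfsg.Agent.Lib.Fus.U62Red.Main
import Cfsg.Agent.Lib.Fus.U62Rec.Global
import Cfsg.Agent.S0822

set_option autoImplicit false
open Cfsg

namespace Cfsg.Agent.S3230

/-- Let G be a finite group with an involution z, H = C_G(z), such that J = O₂(H) is extraspecial of order 2⁹ with C_H(J) ≤ J and H/J ≅ PSp₄(3). Then G ≅ U₆(2) or G = H·O(G). -/
theorem result {G : Type*} [Group G] [Finite G] (z : G) (hz : orderOf z = 2)
    {F : Type*} [Field F] [Fintype F] (hF : Fintype.card F = 3) {K : Type*} [Field K] [Fintype K] (hK : Fintype.card K = 4)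
    (hJ : Cfsg.IsExtraspecial 2 ↥(Cfsg.pCore 2 ↥(Subgroup.centralizer ({z} : Set G)))) (hJc : Nat.card ↥(Cfsg.pCore 2 ↥(Subgroup.centralizer ({z} : Set G))) = 2 ^ 9)
    (hCJ : Subgroup.centralizer ((Cfsg.pCore 2 ↥(Subgroup.centralizer ({z} : Set G))) : Set ↥(Subgroup.centralizer ({z} : Set G))) ≤ Cfsg.pCore 2 ↥(Subgroup.centralizer ({z} : Set G))) [hJn : (Cfsg.pCore 2 ↥(Subgroup.centralizer ({z} : Set G))).Normal]
    (e : (↥(Subgroup.centralizer ({z} : Set G)) ⧸ Cfsg.pCore 2 ↥(Subgroup.centralizer ({z} : Set G))) ≃* Cfsg.PSp 2 F) :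
    Nonempty (G ≃* Cfsg.PSU 6 K 2) ∨ Subgroup.centralizer ({z} : Set G) ⊔ Cfsg.oddCore G = ⊤ := by
  obtain ⟨e'⟩ := S0822.result (F := Agent.Spor.USixTwo.K4) (K := F) Fus.U62Rec.k4_card hF
  let π : ↥(Fus.U62Rec.CC z) →* Fus.U62Rec.Q4 :=
    (e.trans e'.symm).toMonoidHom.comp (QuotientGroup.mk' (pCore 2 ↥(Fus.U62Rec.CC z)))
  have hsurj : Function.Surjective π := (e.trans e'.symm).surjective.comp (QuotientGroup.mk'_surjective _)
  have hker : π.ker = pCore 2 ↥(Fus.U62Rec.CC z) := by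
    ext x
    rw [MonoidHom.mem_ker]
    show (e.trans e'.symm) (QuotientGroup.mk x) = 1 ↔ _
    rw [map_eq_one_iff _ (e.trans e'.symm).injective, QuotientGroup.eq_one_iff]
  rcases Fus.U62Red.reduction z hz hJ hJc hCJ π hsurj hker with ⟨⟨S⟩⟩ | h
  · exact Or.inl (Fus.U62Rec.nonempty_psu S K hK)
  · exact Or.inr h

end Cfsg.Agent.S3230
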