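import Cfsg.Statements.S3231
import Cfsg.Agent.Lib.Fus.U62Red.AutMain
import Cfsg.Agent.Lib.Classical.PSpAutCard
import Cfsg.Agent.S0822

set_option autoImplicit false
open Cfsg

namespace Cfsg.Agent.S3231

/-- Let G be a finite group with an involution z, H = C_G(z), such that J = O₂(H) is extraspecial of order 2⁹ with C_H(J) ≤ J and H/J ≅ Aut(PSp₄(3)). Then either G has a subgroup G₀ of index 2 with G₀ ≅ U₆(2) and C_G(G₀) = 1 (so that G embeds in Aut(G₀)), or G = H·O(G). -/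
theorem result {G : Type*} [Group G] [Finite G] (z : G) (hz : orderOf z = 2)
    {F : Type*} [Field F] [Fintype F] (hF : Fintype.card F = 3) {K : Type*} [Field K] [Fintype K] (hK : Fintype.card K = 4)
    (hJ : Cfsg.IsExtraspecial 2 ↥(Cfsg.pCore 2 ↥(Subgroup.centralizer ({z} : Set G)))) (hJc : Nat.card ↥(Cfsg.pCore 2 ↥(Subgroup.centralizer ({z} : Set G))) = 2 ^ 9)
    (hCJ : Subgroup.centralizer ((Cfsg.pCore 2 ↥(Subgroup.centralizer ({z} : Set G))) : Set ↥(Subgroup.centralizer ({z} : Set G))) ≤ Cfsg.pCore 2 ↥(Subgroup.centralizer ({z} : Set G))) [hJn : (Cfsg.pCore 2 ↥(Subgroup.centralizer ({z} : Set G))).Normal]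
    (e : (↥(Subgroup.centralizer ({z} : Set G)) ⧸ Cfsg.pCore 2 ↥(Subgroup.centralizer ({z} : Set G))) ≃* MulAut (Cfsg.PSp 2 F)) :
    (∃ G₀ : Subgroup G, G₀.index = 2 ∧ Nonempty (↥G₀ ≃* Cfsg.PSU 6 K 2) ∧ Subgroup.centralizer (G₀ : Set G) = ⊥) ∨
      Subgroup.centralizer ({z} : Set G) ⊔ Cfsg.oddCore G = ⊤ := by
  haveI : Fact (Nat.Prime 3) := ⟨Nat.prime_three⟩
  haveI : CharP F 3 := charP_of_card_eq_prime_pow (f := 1) (by rw [hF, pow_one])
  obtain ⟨e'⟩ := S0822.result (F := Agent.Spor.USixTwo.K4) (K := F) Fus.U62Rec.k4_card hF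
  have hinn : Nat.card (Inn (PSp 2 F)) = Nat.card (PSp 2 F) :=
    Agent.Classical.PSpAut.natCard_inn (F := F) (m := 2) (by norm_num)
  have hpos : 0 < Nat.card (PSp 2 F) := Nat.card_pos
  have haut : Nat.card (MulAut (PSp 2 F)) = 2 * Nat.card (PSp 2 F) := by
    rw [Agent.Classical.PSpAut.natCard_mulAut (p := 3) (f := 1) le_rfl one_ne_zero (by rw [hF, pow_one])]
    norm_num
  have hN : (Inn (PSp 2 F)).index = 2 := by
    have h := (Inn (PSp 2 F)).card_mul_index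
    rw [hinn, haut, mul_comm 2] at h
    exact Nat.eq_of_mul_eq_mul_left hpos h
  have hinj : Function.Injective (MulAut.conj : PSp 2 F →* MulAut (PSp 2 F)) :=
    MonoidHom.rangeRestrict_injective_iff.1
      ((Nat.bijective_iff_surjective_and_card _).2 ⟨MonoidHom.rangeRestrict_surjective _, hinn.symm⟩).1
  let eN : ↥(Inn (PSp 2 F)) ≃* Fus.U62Rec.Q4 := (MonoidHom.ofInjective hinj).symm.trans e'.symm
  have hcent : Subgroup.centralizer ((Inn (PSp 2 F) : Subgroup (MulAut (PSp 2 F))) : Set (MulAut (PSp 2 F))) = ⊥ := by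
    refine (Subgroup.eq_bot_iff_forall _).2 fun φ hφ => MulEquiv.ext fun x => hinj ?_
    have h := Subgroup.mem_centralizer_iff.1 hφ (MulAut.conj x) ⟨x, rfl⟩
    have h2 : φ * MulAut.conj x * φ⁻¹ = MulAut.conj x := by rw [← h, mul_inv_cancel_right]
    conv_rhs => rw [show (1 : MulAut (PSp 2 F)) x = x from rfl, ← h2]
    ext y
    simp [MulAut.mul_apply, MulAut.inv_def]
  let φ : ↥(Fus.U62Rec.CC z) →* MulAut (PSp 2 F) :=
    e.toMonoidHom.comp (QuotientGroup.mk' (pCore 2 ↥(Fus.U62Rec.CC z)))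
  have hsurj : Function.Surjective φ := e.surjective.comp (QuotientGroup.mk'_surjective _)
  have hker : φ.ker = pCore 2 ↥(Fus.U62Rec.CC z) := by
    ext x
    rw [MonoidHom.mem_ker]
    show e (QuotientGroup.mk x) = 1 ↔ _
    rw [map_eq_one_iff _ e.injective, QuotientGroup.eq_one_iff]
  rcases Fus.U62Red.aut_reduction z hz hJ hJc hCJ φ hsurj hker _ hN eN hcent K hK with h | ⟨G₀, h1, h2, h3, -⟩
  · exact Or.inr h
  · exact Or.inl ⟨G₀, h1, h2, h3⟩

end Cfsg.Agent.S3231
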