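import Cfsg.Statements.S3240
import Cfsg.Agent.Lib.Invol.ThreeTI.Conclusion

set_option autoImplicit false
open Cfsg

namespace Cfsg.Agent.S3240

/-- Call a subgroup A of a finite group G strongly self-centralizing if C_G(a) = A for every non-identity a ∈ A. Let G be a finite non-abelian simple group with three pairwise non-conjugate strongly self-centralizing subgroups A₁, A₂, A₃ with [N_G(A₁) : A₁] = 2, [N_G(A₂) : A₂] = [N_G(A₃) : A₃] = 4, |A₁| = n₁ ≥ 5, |A₂| = n₂ > 5, |A₃| = n₃ > 5, such that |G| ≤ 3 n₁² n₂² n₃² and the Sylow r-subgroups of G are abelian for every odd prime r not dividing n₁n₂n₃. Then G is isomorphic to a Suzuki group. -/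
theorem result {G : Type*} [Group G] [Finite G] [IsSimpleGroup G] (hG : ¬ IsMulCommutative G)
    (A₁ A₂ A₃ : Subgroup G)
    (hsc : ∀ A ∈ ({A₁, A₂, A₃} : Set (Subgroup G)), ∀ a ∈ A, a ≠ 1 → Subgroup.centralizer ({a} : Set G) = A)
    (hnc : ∀ g : G, A₁.map (MulAut.conj g).toMonoidHom ≠ A₂ ∧ A₁.map (MulAut.conj g).toMonoidHom ≠ A₃ ∧ A₂.map (MulAut.conj g).toMonoidHom ≠ A₃)
    (h₁ : A₁.relIndex (Subgroup.normalizer (A₁ : Set G)) = 2) (h₂ : A₂.relIndex (Subgroup.normalizer (A₂ : Set G)) = 4)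
    (h₃ : A₃.relIndex (Subgroup.normalizer (A₃ : Set G)) = 4)
    (hn₁ : 5 ≤ Nat.card ↥A₁) (hn₂ : 5 < Nat.card ↥A₂) (hn₃ : 5 < Nat.card ↥A₃)
    (hord : Nat.card G ≤ 3 * Nat.card ↥A₁ ^ 2 * Nat.card ↥A₂ ^ 2 * Nat.card ↥A₃ ^ 2)
    (hab : ∀ r : ℕ, r.Prime → r ≠ 2 → ¬ r ∣ Nat.card ↥A₁ * Nat.card ↥A₂ * Nat.card ↥A₃ →
      ∀ P : Sylow r G, IsMulCommutative ↥(P : Subgroup G)) :
    Cfsg.Lie.IsoSuzuki G := by
  have h : Invol.ThreeTI.Hyp ![A₁, A₂, A₃] := by
    have hnn : Invol.ThreeTI.nn ![A₁, A₂, A₃] = Nat.card ↥A₁ * Nat.card ↥A₂ * Nat.card ↥A₃ := by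
      simp [Invol.ThreeTI.nn, Fin.prod_univ_three]
    refine ⟨fun i => ?_, fun i j hij g hg => ?_, fun i => ?_, by simpa using hn₁, by simpa using hn₂,
      by simpa using hn₃, ?_, fun r hr hr2 hrn P => hab r hr hr2 (hnn ▸ hrn) P⟩
    · fin_cases i <;> exact hsc _ (by simp)
    · obtain ⟨h12, h13, h23⟩ := hnc g
      obtain ⟨h12', h13', h23'⟩ := hnc g⁻¹
      have hinv : ∀ B B' : Subgroup G, B.map (MulAut.conj g).toMonoidHom = B' →
          B'.map (MulAut.conj g⁻¹).toMonoidHom = B := by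
        rintro B B' rfl
        rw [Subgroup.map_map]
        convert Subgroup.map_id B
        ext x
        simp [mul_assoc]
      fin_cases i <;> fin_cases j
      all_goals first
        | exact absurd rfl hij
        | exact h12 hg
        | exact h13 hg
        | exact h23 hg
        | exact h12' (hinv _ _ hg)
        | exact h13' (hinv _ _ hg)
        | exact h23' (hinv _ _ hg)
    · fin_cases i
      · exact h₁
      · exact h₂
      · exact h₃
    · rw [hnn, mul_pow, mul_pow]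
      calc Nat.card G ≤ _ := hord
        _ = _ := by ring
  exact h.isoSuzuki hG

end Cfsg.Agent.S3240
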