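import Cfsg.Statements.S3243
import Cfsg.Agent.Lib.Invol.CentSix.AltJ1
import Cfsg.Agent.Lib.Invol.CentSix.SolvOdd
import Cfsg.Agent.Lib.Invol.CentSix.SolvSmall
import Cfsg.Agent.Lib.Invol.CentSix.CenterNrm
import Cfsg.Agent.Lib.Invol.CentSix.Final

set_option autoImplicit false
open Cfsg

namespace Cfsg.Agent.S3243

/-- Let G be a finite non-abelian simple group with a single conjugacy class of involutions containing an element t of order 6 with C_G(t) = ⟨t⟩. Then G is isomorphic to L₂(11), L₂(13), L₃(3), the Mathieu group M₁₁, or the Janko group J₁. -/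
theorem result {G : Type*} [Group G] [Finite G] [IsSimpleGroup G]
    (hG : ¬ IsMulCommutative G) (h1 : ∀ x y : G, orderOf x = 2 → orderOf y = 2 → IsConj x y)
    (t : G) (ht : orderOf t = 6) (hC : Subgroup.centralizer ({t} : Set G) = Subgroup.zpowers t) :
    (∃ (F : Type) (_ : Field F) (_ : Fintype F), (Fintype.card F = 11 ∨ Fintype.card F = 13) ∧
        Nonempty (G ≃* Matrix.ProjectiveSpecialLinearGroup (Fin 2) F)) ∨
      (∃ (F : Type) (_ : Field F) (_ : Fintype F), Fintype.card F = 3 ∧ Nonempty (G ≃* Matrix.ProjectiveSpecialLinearGroup (Fin 3) F)) ∨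
      Cfsg.Spor.IsoM11 G ∨ Cfsg.Spor.IsoJ1 G := by
  classical
  let c : Cfsg.Agent.Invol.CentSix.Cfg G := ⟨t, ht, hC, h1⟩
  obtain ⟨S, hS⟩ := c.exists_sylow
  rcases c.shapes with hd | hd | ⟨φ, hφ, hker⟩
  · obtain ⟨d⟩ := hd
    rcases d.dichotomy hS with hT | ⟨h8, hq⟩ | hD
    · exact Or.inl (d.small_z hG hS hT)
    · rcases d.small_quat hG hS h8 hq with h | h
      · exact Or.inr (Or.inl h)
      · exact Or.inr (Or.inr (Or.inl h))
    · obtain ⟨D⟩ := hD
      have hK := d.K_eq_bot hG hS D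
      exfalso
      by_cases hΩ : Cfsg.Agent.Invol.CentSix.OmegaZ c S
      · exact d.no_omega hG D hS hK hΩ
      · simp only [Cfsg.Agent.Invol.CentSix.OmegaZ, not_forall] at hΩ
        obtain ⟨b, hbS, hb, hbc, hbz⟩ := hΩ
        by_cases hST : (S : Subgroup G) ≤ d.T
        · exact d.no_center_nrm hG D hS hK hST hb hbc hbz
        · obtain ⟨w, hw, hwT⟩ := SetLike.not_le_iff_exists.mp hST
          exact d.no_center_pair D hS hK hw hwT hbS hb hbc hbz
  · obtain ⟨d⟩ := hd
    obtain ⟨D⟩ := d.nonempty_sData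
    by_cases hT : d.T = c.Z2
    · exact Or.inr (Or.inr (Or.inr (Cfsg.Agent.Invol.CentSix.Cfg.AltShape.isoJ1 hG D hT)))
    · obtain ⟨Q⟩ := Cfsg.Agent.Invol.CentSix.Cfg.AltShape.nonempty_uAlt D hT
      exfalso
      by_cases hΩ : Cfsg.Agent.Invol.CentSix.OmegaZ c D.S
      · exact Q.no_omega hΩ
      · simp only [Cfsg.Agent.Invol.CentSix.OmegaZ, not_forall] at hΩ
        obtain ⟨b, -, hb, hbc, hbz⟩ := hΩ
        have h8 := (Cfsg.Agent.Invol.CentSix.LHyp.of_normalizer D.le D.u_mem hb hbc hbz Q.geo.small).nrm D.u_mem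
        have h128 := Q.card_S
        omega
  · exact (c.not_psl7 hG φ hφ hker).elim

end Cfsg.Agent.S3243
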