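import Cfsg.Statements.S3245
import Cfsg.Agent.Lib.Fus.OneClassLocal
import Cfsg.Agent.Lib.Local.CoreConsumers.SPERankOne
-- import your own Cfsg.Agent.* helpers here

set_option autoImplicit false
open Cfsg

namespace Cfsg.Agent.S3245

/-- A finite non-abelian simple group in which all maximal 2-local subgroups are conjugate is isomorphic to L₂(2ⁿ), Sz(2ⁿ) or U₃(2ⁿ) for some n ≥ 2. -/
theorem result {G : Type*} [Group G] [Finite G] [IsSimpleGroup G] (hG : ¬ IsMulCommutative G)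
    (h1 : ∀ M M' : Subgroup G, Cfsg.IsMaximalTwoLocal M → Cfsg.IsMaximalTwoLocal M' → ∃ g : G, M' = M.map (MulAut.conj g).toMonoidHom) :
    (∃ (F : Type) (_ : Field F) (_ : Fintype F) (n : ℕ), 2 ≤ n ∧ Fintype.card F = 2 ^ n ∧
        Nonempty (G ≃* Matrix.ProjectiveSpecialLinearGroup (Fin 2) F)) ∨
      Cfsg.Lie.IsoSuzuki G ∨
      (∃ (F : Type) (_ : Field F) (_ : Fintype F) (n : ℕ), 2 ≤ n ∧ Fintype.card F = (2 ^ n) ^ 2 ∧ Nonempty (G ≃* Cfsg.PSU 3 F (2 ^ n))) := by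
  haveI : Fact (Nat.Prime 2) := ⟨Nat.prime_two⟩
  obtain ⟨M, hM⟩ := Cfsg.Agent.Fus.OneClass.exists_stronglyEmbedded hG h1
  have hP : Cfsg.IsStronglyPEmbedded 2 M := Cfsg.Agent.Invol.isStronglyPEmbedded_iff.2
    ⟨even_iff_two_dvd.1 hM.2.1, hM.1, fun g hg h => Nat.not_even_iff_odd.2 (hM.2.2 g hg) (even_iff_two_dvd.2 h)⟩
  obtain ⟨t, htM, ht⟩ := Cfsg.Agent.Invol.exists_orderOf_prime_mem (H := M) (even_iff_two_dvd.1 hM.2.1)
  have hO : Cfsg.pPrimeCore 2 G = ⊥ := by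
    haveI : (Cfsg.pPrimeCore 2 G).Normal := Cfsg.Agent.Grp.pPrimeCore_isNormal
    rcases (inferInstance : (Cfsg.pPrimeCore 2 G).Normal).eq_bot_or_eq_top with h | h
    · exact h
    · refine absurd ?_ (Cfsg.Agent.Grp.pPrimeCore_not_dvd (p := 2) (G := G))
      rw [h, Subgroup.card_top, ← ht]
      exact orderOf_dvd_natCard t
  have hgen : Cfsg.pElementClosure 2 (⊤ : Subgroup G) = ⊤ := by
    have hn : (Cfsg.pElementClosure 2 (⊤ : Subgroup G)).Normal := ⟨fun x hx g => by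
      refine Subgroup.closure_induction (p := fun y _ => g * y * g⁻¹ ∈ Cfsg.pElementClosure 2 (⊤ : Subgroup G))
        ?_ ?_ ?_ ?_ hx
      · rintro y ⟨-, k, hk⟩
        exact Subgroup.subset_closure ⟨Subgroup.mem_top _, k, (orderOf_injective (MulAut.conj g).toMonoidHom (MulAut.conj g).injective y).trans hk⟩
      · simp
      · intro a b _ _ ha hb
        simpa [mul_assoc] using mul_mem ha hb
      · intro a _ ha
        simpa [mul_assoc] using inv_mem ha⟩
    rcases hn.eq_bot_or_eq_top with h | h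
    · exfalso
      have h2 : t ∈ Cfsg.pElementClosure 2 (⊤ : Subgroup G) :=
        Subgroup.subset_closure ⟨Subgroup.mem_top _, 1, by rw [ht, pow_one]⟩
      rw [h, Subgroup.mem_bot] at h2
      rw [h2, orderOf_one] at ht
      omega
    · exact h
  have hgen' := Cfsg.Agent.CoreConsumers.SPERankOne.pElementClosure_map_top (p := 2) hgen
    (QuotientGroup.mk' (Cfsg.pPrimeCore 2 G)) (QuotientGroup.mk'_surjective _)
  let e : G ≃* ↥(Cfsg.pElementClosure 2 (⊤ : Subgroup (G ⧸ Cfsg.pPrimeCore 2 G))) :=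
    (((QuotientGroup.quotientMulEquivOfEq hO).trans QuotientGroup.quotientBot).symm.trans
      Subgroup.topEquiv.symm).trans (MulEquiv.subgroupCongr hgen'.symm)
  rcases Cfsg.Agent.S2798.result M hP with h | ⟨F, iF, iFF, hc, hq, ⟨f⟩⟩ | ⟨F, iF, iFF, q, hq2, hq4, hF, ⟨f⟩⟩ | h
  · exfalso
    have h3 := (h t ht).1
    rw [hO, bot_sup_eq] at h3
    have h4 : t ∈ Subgroup.center G := Subgroup.mem_center_iff.2 fun g =>
      Subgroup.mem_centralizer_singleton_iff.1 (h3.ge (Subgroup.mem_top g))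
    rcases (inferInstance : (Subgroup.center G).Normal).eq_bot_or_eq_top with hz | hz
    · rw [hz, Subgroup.mem_bot] at h4
      rw [h4, orderOf_one] at ht
      omega
    · exact hG ⟨⟨fun a b => Subgroup.mem_center_iff.1 (hz.ge (Subgroup.mem_top b)) a⟩⟩
  · haveI : Fact (Nat.Prime 2) := ⟨Nat.prime_two⟩
    obtain ⟨n, -, hn⟩ := FiniteField.card F 2
    have hn2 : 2 ≤ (n : ℕ) := by
      by_contra hlt
      have := Nat.pow_le_pow_right (show 0 < 2 by omega) (show (n : ℕ) ≤ 1 by omega)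
      omega
    exact Or.inl ⟨F, iF, iFF, n, hn2, hn, ⟨((e.trans f).trans QuotientGroup.quotientBot.symm).trans
      (QuotientGroup.quotientMulEquivOfEq
        (Cfsg.Agent.Fus.CTSimple.center_eq_bot_of_two (F := F) CharTwo.two_eq_zero).symm)⟩⟩
  · haveI : Fact (Nat.Prime 2) := ⟨Nat.prime_two⟩
    obtain ⟨p, hp⟩ := CharP.exists F
    obtain ⟨n, hpp, hn⟩ := FiniteField.card F p
    have hp2 : p = 2 := by
      have h5 : 2 ∣ p ^ (n : ℕ) := by
        rw [← hn, hF]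
        exact dvd_pow (even_iff_two_dvd.1 hq2) two_ne_zero
      exact ((Nat.prime_dvd_prime_iff_eq Nat.prime_two hpp).1 (Nat.prime_two.dvd_of_dvd_pow h5)).symm
    subst hp2
    obtain ⟨m, -, rfl⟩ := (Nat.dvd_prime_pow Nat.prime_two).1
      (hn ▸ hF ▸ dvd_pow_self q two_ne_zero : q ∣ 2 ^ (n : ℕ))
    have hm2 : 2 ≤ m := by
      by_contra hlt
      have := Nat.pow_le_pow_right (show 0 < 2 by omega) (show m ≤ 1 by omega)
      omega
    exact Or.inr (Or.inr ⟨F, iF, iFF, m, hm2, hF, ⟨e.trans f⟩⟩)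
  · obtain ⟨F, iF, iFF, m, hm, hq, ⟨f⟩⟩ := h
    exact Or.inr (Or.inl ⟨F, iF, iFF, m, hm, hq, ⟨e.trans f⟩⟩)

end Cfsg.Agent.S3245
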