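import Cfsg.Statements.S3246
import Cfsg.Agent.Lib.Fus.CharTwo
import Cfsg.Agent.Lib.Recog.LocalConstrained
import Cfsg.Agent.Lib.Grp.Frattini
-- import your own Cfsg.Agent.* helpers here

set_option autoImplicit false
open Cfsg Cfsg.Agent

namespace Cfsg.Agent.S3246

open Subgroup
open scoped commutatorElement

variable {G : Type*} [Group G] [Finite G]

theorem charP_of_constrained {H : Type*} [Group H] [Finite H] (hc : Cfsg.IsPConstrained 2 H)
    (hO : Cfsg.oddCore H = ⊥) : Invol.CharP' 2 H := by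
  haveI : Fact (Nat.Prime 2) := ⟨Nat.prime_two⟩
  haveI := Grp.pPrimeCore_isNormal (p := 2) (G := H)
  have e : H ⧸ Cfsg.pPrimeCore 2 H ≃* H :=
    (QuotientGroup.quotientMulEquivOfEq hO).trans QuotientGroup.quotientBot
  exact Invol.charP_of_mulEquiv e (Transfer.Transitivity.centralizer_pCore_quotient hc)

theorem constrained_of_charP {H : Type*} [Group H] [Finite H] (h : Invol.CharP' 2 H) :
    Cfsg.IsPConstrained 2 H := by
  haveI : Fact (Nat.Prime 2) := ⟨Nat.prime_two⟩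
  exact Recog.LocalConstrained.isPConstrained_of_surjective (MonoidHom.id H) Function.surjective_id
    (by rw [MonoidHom.ker_eq_bot (MonoidHom.id H) Function.injective_id, Subgroup.card_bot]; exact Nat.coprime_one_left 2) h

theorem centralizer_eq_normalizer_zpowers {t : G} (ht : orderOf t = 2) :
    centralizer ({t} : Set G) = Subgroup.normalizer ((zpowers t : Subgroup G) : Set G) := by
  have htt : t * t = 1 := by rw [← pow_two, ← ht, pow_orderOf_eq_one]
  have hmem : ∀ x ∈ zpowers t, x = 1 ∨ x = t := fun x hx => by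
    obtain ⟨k, rfl⟩ := hx
    rcases Int.even_or_odd k with ⟨j, rfl⟩ | ⟨j, rfl⟩
    · exact Or.inl (by show t ^ (j + j) = 1; rw [← two_mul, _root_.zpow_mul, zpow_two, htt, one_zpow])
    · exact Or.inr (by show t ^ (2 * j + 1) = t; rw [zpow_add, _root_.zpow_mul, zpow_two, htt, one_zpow, one_mul, zpow_one])
  ext g
  rw [mem_centralizer_singleton_iff, mem_normalizer_iff]
  constructor
  · intro hg x
    constructor
    · intro hx
      rcases hmem x hx with rfl | rfl
      · simp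
      · rw [hg, mul_inv_cancel_right]; exact mem_zpowers _
    · intro hx
      rcases hmem _ hx with e | e
      · rw [conj_eq_one_iff.1 e]; exact one_mem _
      · have : x = t := mul_left_cancel (a := g) (by rw [mul_inv_eq_iff_eq_mul.1 e, hg])
        rw [this]; exact mem_zpowers _
  · intro hg
    rcases hmem _ ((hg t).1 (mem_zpowers t)) with e | e
    · rw [conj_eq_one_iff.1 e]; simp
    · exact mul_inv_eq_iff_eq_mul.1 e

/-- All involution centralisers have characteristic two. -/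
theorem charP_centralizer
    (h : (∀ M : Subgroup G, Cfsg.IsMaximalTwoLocal M → Cfsg.IsPConstrained 2 ↥M ∧ Cfsg.oddCore ↥M = ⊥) ∨
      (∀ t : G, orderOf t = 2 → Cfsg.IsPConstrained 2 ↥(Subgroup.centralizer ({t} : Set G)) ∧
        Cfsg.oddCore ↥(Subgroup.centralizer ({t} : Set G)) = ⊥))
    {t : G} (ht : orderOf t = 2) : Invol.CharP' 2 ↥(centralizer ({t} : Set G)) := by
  haveI : Fact (Nat.Prime 2) := ⟨Nat.prime_two⟩
  rcases h with h | h
  swap
  · exact charP_of_constrained (h t ht).1 (h t ht).2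
  have hp : IsPGroup 2 (zpowers t) := IsPGroup.of_card (n := 1) (by rw [Nat.card_zpowers, ht, pow_one])
  have hne : zpowers t ≠ ⊥ := fun e => by
    rw [zpowers_eq_bot] at e; rw [e, orderOf_one] at ht; omega
  have hloc : Cfsg.IsTwoLocal (centralizer ({t} : Set G)) :=
    ⟨zpowers t, hp, hne, centralizer_eq_normalizer_zpowers ht⟩
  obtain ⟨M, hCM, hM⟩ := Finite.exists_le_maximal (p := fun N : Subgroup G => Cfsg.IsTwoLocal N) hloc
  have hmax : Cfsg.IsMaximalTwoLocal M := ⟨hM.1, fun N hN hMN => le_antisymm (hM.2 hN hMN) hMN⟩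
  have htM : t ∈ M := hCM (mem_centralizer_singleton_iff.2 rfl)
  have hch := Fus.charP_normalizer (charP_of_constrained (h M hmax).1 (h M hmax).2)
    (U := (zpowers t).subgroupOf M) (hp.of_equiv (Subgroup.subgroupOfEquivOfLe (zpowers_le.2 htM)).symm)
  have e : Subgroup.normalizer (((zpowers t).subgroupOf M : Subgroup M) : Set M) =
      (centralizer ({t} : Set G)).subgroupOf M := by
    rw [centralizer_eq_normalizer_zpowers ht]
    ext x
    rw [mem_subgroupOf, mem_normalizer_iff, mem_normalizer_iff]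
    constructor
    · intro hx w
      constructor
      · intro hw; exact (hx ⟨w, zpowers_le.2 htM hw⟩).1 hw
      · intro hw
        have hwM : w ∈ M := by
          simpa [mul_assoc] using mul_mem (mul_mem (inv_mem x.2) (zpowers_le.2 htM hw)) x.2
        exact (hx ⟨w, hwM⟩).2 hw
    · intro hx w; exact hx w
  exact Invol.charP_of_mulEquiv ((MulEquiv.subgroupCongr e).trans (Subgroup.subgroupOfEquivOfLe hCM)) hch

/-- An odd subgroup centralising `t` and normalised by a large `2`-subgroup of `C(t)` is trivial. -/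
theorem eq_bot_of_index_two {t : G} (hch : Invol.CharP' 2 ↥(centralizer ({t} : Set G)))
    (S : Sylow 2 G) (T : Subgroup G) (hTC : T ≤ centralizer ({t} : Set G)) (hTS : T ≤ S)
    (hidx : Nat.card (S : Subgroup G) ≤ 2 * Nat.card T) (Y : Subgroup G) (hY : Odd (Nat.card Y))
    (hYC : Y ≤ centralizer ({t} : Set G)) (hTY : T ≤ Subgroup.normalizer (Y : Set G)) : Y = ⊥ := by
  haveI : Fact (Nat.Prime 2) := ⟨Nat.prime_two⟩
  obtain ⟨C, hC⟩ : ∃ C, C = centralizer ({t} : Set G) := ⟨_, rfl⟩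
  rw [← hC] at hch hTC hYC
  haveI hRn : (Cfsg.pCore 2 C).Normal := Grp.pCore_isNormal
  obtain ⟨R, hRdef⟩ : ∃ R, R = (Cfsg.pCore 2 C).map C.subtype := ⟨_, rfl⟩
  have hRC : R ≤ C := hRdef ▸ map_subtype_le _
  have hRp : IsPGroup 2 R := hRdef ▸ Grp.pCore_isPGroup.map _
  have hRconj : ∀ c ∈ C, ∀ r ∈ R, c * r * c⁻¹ ∈ R := fun c hc r hr => by
    rw [hRdef] at hr ⊢
    obtain ⟨r, hr, rfl⟩ := hr
    exact ⟨⟨c, hc⟩ * r * ⟨c, hc⟩⁻¹, hRn.conj_mem r hr _, rfl⟩
  obtain ⟨Ts, hTs⟩ := ((S.isPGroup'.to_le hTS).of_equiv (Subgroup.subgroupOfEquivOfLe hTC).symm).exists_le_sylow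
  obtain ⟨S₂, hS₂⟩ := (Ts.isPGroup'.map C.subtype).exists_le_sylow
  have hcard : Nat.card ↥((Ts : Subgroup C).map C.subtype) ≤ Nat.card (S : Subgroup G) := by
    obtain ⟨g, hg⟩ := MulAction.exists_smul_eq G S₂ S
    refine (Subgroup.card_le_of_le hS₂).trans (le_of_eq ?_)
    rw [Sylow.card_eq_multiplicity S₂, Sylow.card_eq_multiplicity S]
  obtain ⟨W, hW⟩ : ∃ W, W = (Ts : Subgroup C).map C.subtype := ⟨_, rfl⟩
  rw [← hW] at hcard
  have hTW : T ≤ W := fun x hx => hW ▸ ⟨⟨x, hTC hx⟩, hTs hx, rfl⟩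
  have hRW : R ≤ W := by
    rw [hRdef, hW]; exact Subgroup.map_mono (Grp.pCore_le_sylow Ts)
  obtain ⟨R₀, hR₀⟩ : ∃ R₀, R₀ = T ⊓ R := ⟨_, rfl⟩
  have hR₀2 : R₀.relIndex R ≤ 2 := by
    rw [hR₀, inf_relIndex_right]
    refine (Subgroup.relIndex_le_of_le_right hRW ?_).trans ?_
    · exact (Subgroup.index_ne_zero_of_finite (H := T.subgroupOf W))
    · have h1 := Subgroup.relIndex_mul_relIndex ⊥ T W bot_le hTW
      rw [Subgroup.relIndex_bot_left, Subgroup.relIndex_bot_left] at h1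
      have hpos : 0 < Nat.card T := Nat.card_pos
      nlinarith
  have hfix : ∀ y ∈ Y, ∀ r ∈ R₀, Commute y r := fun y hy r hr => by
    rw [hR₀] at hr
    have h1 : r * y * r⁻¹ * y⁻¹ ∈ Y := mul_mem ((mem_normalizer_iff.1 (hTY hr.1) y).1 hy) (inv_mem hy)
    have h2 : r * y * r⁻¹ * y⁻¹ ∈ R := by
      rw [show r * y * r⁻¹ * y⁻¹ = r * (y * r⁻¹ * y⁻¹) by group]
      exact mul_mem hr.2 (hRconj y (hYC hy) _ (inv_mem hr.2))
    obtain ⟨k, hk⟩ := Invol.pow_ppow_eq_one_of_mem hRp h2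
    have h3 : r * y * r⁻¹ * y⁻¹ = 1 := orderOf_eq_one_iff.1 (Nat.eq_one_of_dvd_coprimes
      (Nat.Coprime.pow_right k hY.coprime_two_right) (orderOf_dvd_natCard _ h1) (orderOf_dvd_of_pow_eq_one hk))
    exact (mul_inv_eq_iff_eq_mul.1 (mul_inv_eq_one.1 h3)).symm
  refine (Subgroup.eq_bot_iff_forall Y).2 fun y hy => ?_
  have hyo : (orderOf y).Coprime 2 := hY.coprime_two_right.coprime_dvd_left (orderOf_dvd_natCard _ hy)
  have hall : ∀ r ∈ R, Commute y r := fun r hr => by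
    by_cases hr0 : r ∈ R₀
    · exact hfix y hy r hr0
    have hy' : y * r * y⁻¹ ∈ R := hRconj y (hYC hy) r hr
    have hy0 : y * r * y⁻¹ ∉ R₀ := fun h => hr0 (by
      have h2 := (hfix y hy _ h).eq
      have h3 : r = y * r * y⁻¹ := by
        calc r = y⁻¹ * ((y * r * y⁻¹) * y) := by group
          _ = y⁻¹ * (y * (y * r * y⁻¹)) := by rw [h2]
          _ = y * r * y⁻¹ := by group
      rw [h3]; exact h)
    have hidx2 : (R₀.subgroupOf R).index = 2 := by
      refine le_antisymm hR₀2 ?_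
      have h0 : (R₀.subgroupOf R).index ≠ 1 := fun e => hr0 (Subgroup.index_eq_one.1 e ▸ mem_top (⟨r, hr⟩ : R) : (⟨r, hr⟩ : R) ∈ R₀.subgroupOf R)
      have h0' : (R₀.subgroupOf R).index ≠ 0 := Subgroup.index_ne_zero_of_finite
      omega
    have hz : y * r * y⁻¹ * r⁻¹ ∈ R₀ := by
      have := (Subgroup.mul_mem_iff_of_index_two hidx2 (a := (⟨_, hy'⟩ : R)) (b := ⟨r⁻¹, inv_mem hr⟩)).2
        (iff_of_false (fun h => hy0 h) fun h => hr0 (by simpa using inv_mem (show r⁻¹ ∈ R₀ from h)))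
      exact this
    obtain ⟨k, hk⟩ := Invol.pow_ppow_eq_one_of_mem hRp (show y * r * y⁻¹ * r⁻¹ ∈ R from mul_mem hy' (inv_mem hr))
    exact Invol.commute_of_stabilises hyo hk (hfix y hy _ hz) (by group)
  have hyR : (⟨y, hYC hy⟩ : C) ∈ Cfsg.pCore 2 C := hch (mem_centralizer_iff.2 fun r hr => Subtype.ext
    (hall r (hRdef ▸ ⟨r, hr, rfl⟩)).eq.symm)
  exact Invol.eq_one_of_coprime_of_mem hRp (hRdef ▸ ⟨_, hyR, rfl⟩) hyo

/-- Let G be a finite group whose Sylow 2-subgroup S has a self-centralizing normal subgroup of rank at least 3. Suppose that either every maximal 2-local subgroup of G is 2-constrained with no nontrivial normal subgroup of odd order, or the centralizer of every involution of G is 2-constrained with no nontrivial normal subgroup of odd order. Then S normalizes no nontrivial subgroup of G of odd order and every 2-local subgroup of G is 2-constrained. -/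
theorem result {G : Type*} [Group G] [Finite G]
    (S : Sylow 2 G) (A : Subgroup G) (hA : Cfsg.IsSCN (S : Subgroup G) A) (hA3 : ¬ Cfsg.PRankLE 2 2 ↥A)
    (h : (∀ M : Subgroup G, Cfsg.IsMaximalTwoLocal M → Cfsg.IsPConstrained 2 ↥M ∧ Cfsg.oddCore ↥M = ⊥) ∨
      (∀ t : G, orderOf t = 2 → Cfsg.IsPConstrained 2 ↥(Subgroup.centralizer ({t} : Set G)) ∧
        Cfsg.oddCore ↥(Subgroup.centralizer ({t} : Set G)) = ⊥)) :
    (∀ X : Subgroup G, Odd (Nat.card ↥X) → (S : Subgroup G) ≤ Subgroup.normalizer (X : Set G) → X = ⊥) ∧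
      (∀ T : Subgroup G, IsPGroup 2 ↥T → T ≠ ⊥ → Cfsg.IsPConstrained 2 ↥(Subgroup.normalizer (T : Set G))) := by
  classical
  haveI : Fact (Nat.Prime 2) := ⟨Nat.prime_two⟩
  have hch : ∀ t : G, orderOf t = 2 → Invol.CharP' 2 ↥(Subgroup.centralizer ({t} : Set G)) :=
    fun t ht => charP_centralizer h ht
  refine ⟨fun X hX hSX => ?_, fun T hT hT1 => ?_⟩
  swap
  · obtain ⟨z, hz⟩ : ∃ z : T, orderOf z = 2 := by
      refine exists_prime_orderOf_dvd_card' 2 ?_
      obtain ⟨k, hk⟩ := hT.exists_card_eq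
      rw [hk]
      refine dvd_pow_self 2 fun h0 => hT1 ?_
      rw [h0, pow_zero] at hk
      exact Subgroup.card_eq_one.1 hk
    exact constrained_of_charP (Fus.charP_normalizer_of_centralizer hT z.2 (hch _ (by rw [Subgroup.orderOf_coe, hz])))
  -- the involutions of `A`
  obtain ⟨hAS, hSA, hAC⟩ := hA
  have hAc : ∀ a ∈ A, ∀ b ∈ A, a * b = b * a := fun a ha b hb => by
    have hb' : b ∈ (S : Subgroup G) ⊓ Subgroup.centralizer (A : Set G) := hAC.symm ▸ hb
    exact Subgroup.mem_centralizer_iff.1 hb'.2 a ha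
  let E : Subgroup G :=
    { carrier := {a | a ∈ A ∧ a * a = 1}
      one_mem' := ⟨one_mem A, one_mul 1⟩
      mul_mem' := fun {a b} ha hb => ⟨mul_mem ha.1 hb.1, by
        calc a * b * (a * b) = a * (b * a) * b := by group
          _ = (a * a) * (b * b) := by rw [hAc b hb.1 a ha.1]; group
          _ = 1 := by rw [ha.2, hb.2, one_mul]⟩
      inv_mem' := fun {a} ha => ⟨inv_mem ha.1, by rw [← mul_inv_rev, ha.2, inv_one]⟩ }
  have hmemE : ∀ a, a ∈ E ↔ a ∈ A ∧ a * a = 1 := fun a => Iff.rfl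
  have hES : E ≤ (S : Subgroup G) := fun a ha => hAS ha.1
  have hEn : ∀ s ∈ (S : Subgroup G), ∀ a ∈ E, s * a * s⁻¹ ∈ E := fun s hs a ha =>
    ⟨(Subgroup.mem_normalizer_iff.1 (hSA hs) a).1 ha.1, by rw [conj_mul, ha.2, mul_one, mul_inv_cancel]⟩
  have hE4 : 4 < Nat.card E := by
    simp only [Cfsg.PRankLE, not_forall, not_le] at hA3
    obtain ⟨B, hBc, hB2, hB⟩ := hA3
    refine lt_of_lt_of_le hB ?_
    rw [← Subgroup.card_map_of_injective (f := A.subtype) Subtype.val_injective]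
    exact Subgroup.card_le_of_le (by
      rintro _ ⟨b, hb, rfl⟩
      refine ⟨b.2, ?_⟩
      have := congrArg Subtype.val (hB2 b hb)
      simpa [pow_two] using this)
  haveI : Group.IsNilpotent (S : Subgroup G) := S.isPGroup'.isNilpotent
  haveI : (E.subgroupOf (S : Subgroup G)).Normal := ⟨fun a ha s => hEn s s.2 a ha⟩
  have hEne : E.subgroupOf (S : Subgroup G) ≠ ⊥ := fun e => by
    have h1 : Nat.card E = 1 := by
      rw [← Nat.card_congr (Subgroup.subgroupOfEquivOfLe hES).toEquiv, e, Subgroup.card_bot]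
    omega
  obtain ⟨⟨z', hz'E, hz'Z⟩, hz'1⟩ := (Subgroup.ne_bot_iff_exists_ne_one).1 (Grp.inf_center_ne_bot _ hEne)
  obtain ⟨z, hzdef⟩ : ∃ z, z = (z' : G) := ⟨_, rfl⟩
  have hzE : z ∈ E := hzdef ▸ hz'E
  have hz1 : z ≠ 1 := fun e => hz'1 (Subtype.ext (Subtype.ext (hzdef ▸ e)))
  have hzS : ∀ s ∈ (S : Subgroup G), s * z = z * s := fun s hs =>
    hzdef ▸ congrArg Subtype.val (Subgroup.mem_center_iff.1 hz'Z ⟨s, hs⟩)
  -- an involution of `A` central in `S` modulo `z`
  obtain ⟨Z, hZdef⟩ : ∃ Z, Z = Subgroup.zpowers z' := ⟨_, rfl⟩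
  haveI hZn : Z.Normal := by
    refine ⟨fun a ha s => ?_⟩
    have hac : a ∈ Subgroup.center (S : Subgroup G) := (hZdef ▸ Subgroup.zpowers_le.2 hz'Z : Z ≤ _) ha
    rw [Subgroup.mem_center_iff.1 hac s, mul_inv_cancel_right]; exact ha
  obtain ⟨f, hf⟩ : ∃ f, f = QuotientGroup.mk' Z := ⟨_, rfl⟩
  haveI : Group.IsNilpotent ((S : Subgroup G) ⧸ Z) :=
    Group.nilpotent_of_surjective (QuotientGroup.mk' Z) (QuotientGroup.mk'_surjective Z)
  haveI : ((E.subgroupOf (S : Subgroup G)).map f).Normal :=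
    Subgroup.Normal.map inferInstance _ (hf ▸ QuotientGroup.mk'_surjective Z)
  have hzz : z * z = 1 := ((hmemE z).1 hzE).2
  have hzcase : ∀ w : (S : Subgroup G), w ∈ Z → (w : G) = 1 ∨ (w : G) = z := fun w hw => by
    rw [hZdef] at hw
    obtain ⟨k, rfl⟩ := hw
    rcases Int.even_or_odd k with ⟨j, rfl⟩ | ⟨j, rfl⟩
    · left
      show ((z' ^ (j + j) : (S : Subgroup G)) : G) = 1
      rw [Subgroup.coe_zpow, ← hzdef, ← two_mul, zpow_mul, zpow_two, hzz, one_zpow]
    · right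
      show ((z' ^ (2 * j + 1) : (S : Subgroup G)) : G) = z
      rw [Subgroup.coe_zpow, ← hzdef, zpow_add, zpow_mul, zpow_two, hzz, one_zpow, one_mul, zpow_one]
  have hne : (E.subgroupOf (S : Subgroup G)).map f ≠ ⊥ := fun e => by
    rw [Subgroup.map_eq_bot_iff, hf, QuotientGroup.ker_mk'] at e
    have h1 : Nat.card (E.subgroupOf (S : Subgroup G)) ≤ Nat.card Z := Subgroup.card_le_of_le e
    rw [Nat.card_congr (Subgroup.subgroupOfEquivOfLe hES).toEquiv, hZdef, Nat.card_zpowers] at h1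
    have h2 : orderOf z' ≤ 2 := Nat.le_of_dvd (by norm_num) (orderOf_dvd_of_pow_eq_one (Subtype.ext (by
      show (z' : G) ^ 2 = 1
      rw [← hzdef, pow_two, hzz])))
    omega
  obtain ⟨⟨w, ⟨a', ha'E, hwe⟩, hwZ⟩, hw1⟩ := (Subgroup.ne_bot_iff_exists_ne_one).1 (Grp.inf_center_ne_bot _ hne)
  obtain ⟨a, hadef⟩ : ∃ a, a = (a' : G) := ⟨_, rfl⟩
  have haE : a ∈ E := hadef ▸ ha'E
  have haS : a ∈ (S : Subgroup G) := hES haE
  have haZ : a' ∉ Z := fun hh => hw1 (Subtype.ext (hwe.symm.trans (hf ▸ (QuotientGroup.eq_one_iff a').2 hh)))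
  have ha1 : a ≠ 1 := fun e => haZ (by rw [show a' = 1 from Subtype.ext (hadef ▸ e)]; exact one_mem Z)
  have haz : a ≠ z := fun e => haZ (by
    rw [show a' = z' from Subtype.ext (hadef ▸ hzdef ▸ e), hZdef]; exact Subgroup.mem_zpowers _)
  have hcomm : ∀ s ∈ (S : Subgroup G), s * a * s⁻¹ = a ∨ s * a * s⁻¹ = z * a := fun s hs => by
    have h1 := Subgroup.mem_center_iff.1 hwZ (f ⟨s, hs⟩)
    rw [← hwe] at h1
    have h2 : (⟨s, hs⟩ * a' * (⟨s, hs⟩ : (S : Subgroup G))⁻¹ * a'⁻¹) ∈ Z := by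
      refine (QuotientGroup.eq_one_iff _).1 ?_
      show QuotientGroup.mk' Z _ = 1
      rw [← hf, map_mul, map_mul, map_mul, map_inv, map_inv, h1, mul_inv_cancel_right, mul_inv_cancel]
    rcases hzcase _ h2 with e | e
    · exact Or.inl (hadef ▸ mul_inv_eq_one.1 e)
    · exact Or.inr (hadef ▸ mul_inv_eq_iff_eq_mul.1 e)
  have haa : a * a = 1 := ((hmemE a).1 haE).2
  have hza : z * a = a * z := hAc z hzE.1 a haE.1
  let B : Subgroup G :=
    { carrier := {1, z, a, z * a}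
      one_mem' := Or.inl rfl
      mul_mem' := by
        have e1 : z * (z * a) = a := by rw [← mul_assoc, hzz, one_mul]
        have e2 : a * (z * a) = z := by rw [hza, ← mul_assoc, haa, one_mul]
        have e3 : z * a * z = a := by rw [hza, mul_assoc, hzz, mul_one]
        have e4 : z * a * a = z := by rw [mul_assoc, haa, mul_one]
        have e5 : z * a * (z * a) = 1 := by rw [← mul_assoc, e3, haa]
        rintro x y (rfl | rfl | rfl | rfl) (rfl | rfl | rfl | rfl) <;>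
          simp [hzz, haa, ← hza, e1, e2, e3, e4, e5]
      inv_mem' := by
        rintro x (rfl | rfl | rfl | rfl) <;>
          simp [inv_eq_of_mul_eq_one_right hzz, inv_eq_of_mul_eq_one_right haa, hza] }
  have hBmem : ∀ x, x ∈ B ↔ x = 1 ∨ x = z ∨ x = a ∨ x = z * a := fun x => Iff.rfl
  have hBE : B ≤ E := fun x hx => by
    rcases (hBmem x).1 hx with rfl | rfl | rfl | rfl
    exacts [one_mem E, hzE, haE, mul_mem hzE haE]
  haveI : IsMulCommutative B := ⟨⟨fun x y => Subtype.ext (hAc _ (hBE x.2).1 _ (hBE y.2).1)⟩⟩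
  have hsq : ∀ x : B, x * x = 1 := fun x => Subtype.ext (hBE x.2).2
  have hza1 : z * a ≠ 1 := fun e => haz (by rw [eq_inv_of_mul_eq_one_right e, inv_eq_of_mul_eq_one_right hzz])
  have hzaz : z * a ≠ z := fun e => ha1 (mul_eq_left.1 e)
  have hcyc : ¬ IsCyclic B := fun hcy => by
    obtain ⟨γ, hγ⟩ := hcy.exists_generator
    have hsmall : ∀ x : B, x = 1 ∨ x = γ := fun x => by
      obtain ⟨k, rfl⟩ := hγ x
      rcases Int.even_or_odd k with ⟨j, rfl⟩ | ⟨j, rfl⟩
      · exact Or.inl (by show γ ^ (j + j) = 1; rw [← two_mul, zpow_mul, zpow_two, hsq, one_zpow])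
      · exact Or.inr (by show γ ^ (2 * j + 1) = γ; rw [zpow_add, zpow_mul, zpow_two, hsq, one_zpow, one_mul, zpow_one])
    rcases hsmall ⟨z, Or.inr (Or.inl rfl)⟩ with e | e
    · exact hz1 (congrArg Subtype.val e)
    rcases hsmall ⟨a, Or.inr (Or.inr (Or.inl rfl))⟩ with e' | e'
    · exact ha1 (congrArg Subtype.val e')
    · exact haz (congrArg Subtype.val (e'.trans e.symm))
  -- the centralisers in `X`
  have hfree : ∀ b : G, b ≠ 1 → b * b = 1 → ∀ T : Subgroup G, T = (S : Subgroup G) ⊓ Subgroup.centralizer {b} →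
      Nat.card (S : Subgroup G) ≤ 2 * Nat.card T → X ⊓ Subgroup.centralizer {b} = ⊥ := fun b hb hbb T hT hidx => by
    refine eq_bot_of_index_two (hch b (orderOf_eq_prime (by rw [pow_two, hbb]) hb)) S T (hT ▸ inf_le_right)
      (hT ▸ inf_le_left) hidx _ ?_ inf_le_right ?_
    · exact hX.of_dvd_nat (Subgroup.card_dvd_of_le inf_le_left)
    · intro s hs
      rw [hT] at hs
      have hsb := hs.2
      refine Subgroup.mem_normalizer_iff.2 fun x => ?_
      have h1 := Subgroup.mem_normalizer_iff.1 (hSX hs.1) x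
      refine ⟨fun hx => Subgroup.mem_inf.2 ⟨h1.1 hx.1, mul_mem (mul_mem hsb hx.2) (inv_mem hsb)⟩, fun hx => Subgroup.mem_inf.2 ⟨h1.2 hx.1, ?_⟩⟩
      have := mul_mem (mul_mem (Subgroup.inv_mem _ (show s ∈ Subgroup.centralizer ({b} : Set G) from hsb)) (show _ ∈ Subgroup.centralizer ({b} : Set G) from hx.2)) (show s ∈ Subgroup.centralizer ({b} : Set G) from hsb)
      simpa [mul_assoc] using this
  have hidx : ∀ b : G, (∀ s ∈ (S : Subgroup G), s * b * s⁻¹ = b ∨ s * b * s⁻¹ = z * b) →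
      Nat.card (S : Subgroup G) ≤ 2 * Nat.card ↥((S : Subgroup G) ⊓ Subgroup.centralizer {b}) := fun b hb => by
    by_cases hall : ∀ s ∈ (S : Subgroup G), s * b * s⁻¹ = b
    · rw [inf_eq_left.2 fun s hs => Subgroup.mem_centralizer_singleton_iff.2 (mul_inv_eq_iff_eq_mul.1 (hall s hs))]
      omega
    simp only [not_forall] at hall
    obtain ⟨s₀, hs₀, hs₀b⟩ := hall
    have e₀ := (hb s₀ hs₀).resolve_left hs₀b
    obtain ⟨T, hT⟩ : ∃ T, T = (S : Subgroup G) ⊓ Subgroup.centralizer {b} := ⟨_, rfl⟩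
    rw [← hT]
    have hsub : ((S : Subgroup G) : Set G) ⊆ (T : Set G) ∪ (fun y => s₀ * y) '' (T : Set G) := fun s hs => by
      rcases hb s hs with e | e
      · exact Or.inl (hT ▸ ⟨hs, Subgroup.mem_centralizer_singleton_iff.2 (mul_inv_eq_iff_eq_mul.1 e)⟩)
      · refine Or.inr ⟨s₀⁻¹ * s, hT ▸ Subgroup.mem_inf.2 ⟨mul_mem (inv_mem hs₀) hs, Subgroup.mem_centralizer_singleton_iff.2 ?_⟩, by group⟩
        calc s₀⁻¹ * s * b = s₀⁻¹ * (s * b * s⁻¹) * s := by group
          _ = s₀⁻¹ * (s₀ * b * s₀⁻¹) * s := by rw [e, e₀]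
          _ = _ := by group
    have h1 := (Set.ncard_le_ncard hsub (Set.toFinite _)).trans (Set.ncard_union_le _ _)
    rw [Set.ncard_image_of_injective _ (mul_right_injective s₀), ← Nat.card_coe_set_eq, ← Nat.card_coe_set_eq] at h1
    rw [two_mul]; exact h1
  have hgen := Grp.generated_by_centralizers B X hcyc ((hBE.trans hES).trans hSX) (by
    obtain ⟨n, hn⟩ := IsPGroup.iff_card.1 (show IsPGroup 2 B from fun x => ⟨1, by rw [pow_one, pow_two]; exact hsq x⟩)
    rw [hn]; exact Nat.Coprime.pow_left n hX.coprime_two_left)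
  rw [← hgen]
  refine le_bot_iff.1 (iSup₂_le fun b hb => le_of_eq ?_)
  refine hfree b hb.2 (hBE hb.1).2 _ rfl (hidx b fun s hs => ?_)
  rcases (hBmem b).1 hb.1 with rfl | rfl | rfl | rfl
  · exact absurd rfl hb.2
  · exact Or.inl (by rw [hzS s hs, mul_inv_cancel_right])
  · exact hcomm s hs
  · have e : s * (z * a) * s⁻¹ = z * (s * a * s⁻¹) := by rw [← mul_assoc s z, hzS s hs]; group
    rcases hcomm s hs with e' | e'
    · exact Or.inl (by rw [e, e'])
    · exact Or.inr (by rw [e, e'])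

end Cfsg.Agent.S3246
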