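import Cfsg.Statements.S3247
import Mathlib
import Cfsg.Agent.Lib.Recog.LocalConstrained
-- import your own Cfsg.Agent.* helpers here

set_option autoImplicit false
open Cfsg Cfsg.Agent

namespace Cfsg.Agent.S3247

/-- Let G be a finite group and p a prime; here a p-local subgroup means the normalizer of a nontrivial p-subgroup, other than G itself. If every p-local subgroup of G that is maximal among p-local subgroups is p-constrained, or if the centralizer of every element of order p of G is p-constrained, then every p-local subgroup of G is p-constrained. -/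
theorem result {G : Type*} [Group G] [Finite G] (p : ℕ) [hp : Fact p.Prime]
    (h : (∀ M : Subgroup G, (∃ T : Subgroup G, IsPGroup p ↥T ∧ T ≠ ⊥ ∧ M = Subgroup.normalizer (T : Set G)) → M ≠ ⊤ →
        (∀ M' : Subgroup G, (∃ T' : Subgroup G, IsPGroup p ↥T' ∧ T' ≠ ⊥ ∧ M' = Subgroup.normalizer (T' : Set G)) → M' ≠ ⊤ → M ≤ M' → M = M') →
        Cfsg.IsPConstrained p ↥M) ∨
      (∀ x : G, orderOf x = p → Cfsg.IsPConstrained p ↥(Subgroup.centralizer ({x} : Set G))))
    (T : Subgroup G) (hT : IsPGroup p ↥T) (hT1 : T ≠ ⊥) (hTG : Subgroup.normalizer (T : Set G) ≠ ⊤) :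
    Cfsg.IsPConstrained p ↥(Subgroup.normalizer (T : Set G)) := by
  haveI := hp
  set N := Subgroup.normalizer (T : Set G) with hNdef
  have hTN : T ≤ N := Subgroup.le_normalizer
  rcases h with h | h
  · let P : Subgroup G → Prop := fun M =>
      (∃ T : Subgroup G, IsPGroup p ↥T ∧ T ≠ ⊥ ∧ M = Subgroup.normalizer (T : Set G)) ∧ M ≠ ⊤
    obtain ⟨M, hNM, hMax⟩ := Finite.exists_le_maximal (p := P) (a := N) ⟨⟨T, hT, hT1, rfl⟩, hTG⟩
    have hMc := h M hMax.1.1 hMax.1.2 (fun M' h1 h2 h3 => le_antisymm h3 (hMax.2 ⟨h1, h2⟩ h3))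
    refine Recog.LocalConstrained.isPConstrained_of_equiv (Subgroup.subgroupOfEquivOfLe hNM).symm
      (Recog.LocalConstrained.isPConstrained_local hMc (T := T.subgroupOf M) hT.comap_subtype ?_ ?_ (Or.inl ?_))
    · intro x hx
      refine Subgroup.mem_subgroupOf.mpr (Subgroup.centralizer_le_normalizer _ ?_)
      refine Subgroup.mem_centralizer_iff.mpr fun t ht => ?_
      exact congrArg Subtype.val (Subgroup.mem_centralizer_iff.mp hx ⟨t, hNM (hTN ht)⟩ ht)
    · intro x hx
      refine Subgroup.mem_normalizer_iff.mpr fun a => ?_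
      exact Subgroup.mem_normalizer_iff.mp (Subgroup.mem_subgroupOf.mp hx) (a : G)
    · exact fun x hx => Subgroup.mem_subgroupOf.mpr (hTN hx)
  · obtain ⟨x, hxT, hxo, hxZ⟩ : ∃ x ∈ T, orderOf x = p ∧ ∀ t ∈ T, t * x = x * t := by
      haveI : Nontrivial T := (Subgroup.nontrivial_iff_ne_bot T).mpr hT1
      haveI := hT.center_nontrivial
      obtain ⟨n, hn, hcard⟩ := (hT.to_subgroup (Subgroup.center T)).nontrivial_iff_card.mp inferInstance
      obtain ⟨z, hz⟩ := exists_prime_orderOf_dvd_card' p (hcard ▸ dvd_pow_self p hn.ne')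
      refine ⟨((z : T) : G), (z : T).2, ?_, fun t ht => ?_⟩
      · rw [Subgroup.orderOf_coe, Subgroup.orderOf_coe, hz]
      · exact congrArg Subtype.val (Subgroup.mem_center_iff.mp z.2 ⟨t, ht⟩)
    have hCx : Subgroup.centralizer (T : Set G) ≤ Subgroup.centralizer ({x} : Set G) := fun g hg =>
      Subgroup.mem_centralizer_singleton_iff.mpr (Subgroup.mem_centralizer_iff.mp hg x hxT).symm
    have hTx : T ≤ Subgroup.centralizer ({x} : Set G) := fun t ht =>
      Subgroup.mem_centralizer_singleton_iff.mpr (hxZ t ht)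
    have hCc : Cfsg.IsPConstrained p ↥(Subgroup.centralizer (T : Set G)) := by
      refine Recog.LocalConstrained.isPConstrained_of_equiv (Subgroup.subgroupOfEquivOfLe hCx).symm
        (Recog.LocalConstrained.isPConstrained_local (h x hxo) (T := T.subgroupOf (Subgroup.centralizer ({x} : Set G))) hT.comap_subtype ?_ ?_ (Or.inr ?_))
      · intro g hg
        refine Subgroup.mem_subgroupOf.mpr (Subgroup.mem_centralizer_iff.mpr fun t ht => ?_)
        exact congrArg Subtype.val (Subgroup.mem_centralizer_iff.mp hg ⟨t, hTx ht⟩ ht)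
      · intro g hg
        refine Subgroup.mem_normalizer_iff.mpr fun a => ?_
        exact Subgroup.mem_normalizer_iff.mp
          (Subgroup.centralizer_le_normalizer _ (Subgroup.mem_subgroupOf.mp hg)) (a : G)
      · intro g hg
        refine Subgroup.mem_centralizer_iff.mpr fun a ha => Subtype.ext ?_
        exact Subgroup.mem_centralizer_iff.mp (Subgroup.mem_subgroupOf.mp hg) (a : G) ha
    set C := (Subgroup.centralizer (T : Set G)).subgroupOf N with hCdef
    haveI : C.Normal := inferInstance
    have hC : Cfsg.IsPConstrained p C := Recog.LocalConstrained.isPConstrained_of_equiv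
      (Subgroup.subgroupOfEquivOfLe (Subgroup.centralizer_le_normalizer _)) hCc
    exact Recog.LocalConstrained.isPConstrained_of_normal (T.subgroupOf N) hT.comap_subtype
      (Subgroup.normal_in_normalizer) C
      (fun g hg => Subgroup.mem_subgroupOf.mpr (Subgroup.mem_centralizer_iff.mpr fun t ht =>
        congrArg Subtype.val (Subgroup.mem_centralizer_iff.mp hg ⟨t, hTN ht⟩ ht)))
      (fun g hg => Subgroup.mem_centralizer_iff.mpr fun a ha => Subtype.ext
        (Subgroup.mem_centralizer_iff.mp (Subgroup.mem_subgroupOf.mp hg) (a : G) ha)) hC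

end Cfsg.Agent.S3247
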