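import Cfsg.Statements.S3251
import Cfsg.Agent.Lib.Block.OnePrime.Main
import Cfsg.Agent.Lib.Block.OnePrime.RowsSmallTwo
import Cfsg.Agent.Lib.Block.OnePrime.Row20
import Cfsg.Agent.Lib.Block.OnePrime.Row49Nine
import Cfsg.Agent.Lib.Block.OnePrime.Seven
import Cfsg.Agent.Lib.Block.OnePrime.Five

set_option autoImplicit false
open Cfsg

namespace Cfsg.Agent.S3251

/-- Let G be a finite non-abelian simple group of order 2^a·3^b·5^c·7^d·p with a > 0 and p an odd prime occurring to the first power (a Sylow p-subgroup of G has order p), such that a Sylow p-subgroup of G has index 2 in its normalizer. Then G is isomorphic to one of PSL₂(5), PSL₂(7), PSL₂(9), PSL₂(8), PSL₂(16), PSL₂(25), PSL₂(27), PSL₂(81), PSL₂(2401), PSL₃(4). -/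
theorem result {G : Type*} [Group G] [Finite G] [IsSimpleGroup G]
    (hG : ¬ IsMulCommutative G) (a b c d p : ℕ) (ha : 0 < a) (hp : p.Prime) (hp2 : p ≠ 2)
    (hord : Nat.card G = 2 ^ a * 3 ^ b * 5 ^ c * 7 ^ d * p)
    (P : Sylow p G) (hPp : Nat.card ↥(P : Subgroup G) = p) (hN : (P : Subgroup G).relIndex (Subgroup.normalizer ((P : Subgroup G) : Set G)) = 2) :
    (∃ (F : Type) (_ : Field F) (_ : Fintype F), Fintype.card F = 5 ∧ Nonempty (G ≃* Matrix.ProjectiveSpecialLinearGroup (Fin 2) F)) ∨ (∃ (F : Type) (_ : Field F) (_ : Fintype F), Fintype.card F = 7 ∧ Nonempty (G ≃* Matrix.ProjectiveSpecialLinearGroup (Fin 2) F)) ∨ (∃ (F : Type) (_ : Field F) (_ : Fintype F), Fintype.card F = 9 ∧ Nonempty (G ≃* Matrix.ProjectiveSpecialLinearGroup (Fin 2) F)) ∨ (∃ (F : Type) (_ : Field F) (_ : Fintype F), Fintype.card F = 8 ∧ Nonempty (G ≃* Matrix.ProjectiveSpecialLinearGroup (Fin 2) F)) ∨ (∃ (F : Type) (_ : Field F) (_ : Fintype F), Fintype.card F = 16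 ∧ Nonempty (G ≃* Matrix.ProjectiveSpecialLinearGroup (Fin 2) F)) ∨ (∃ (F : Type) (_ : Field F) (_ : Fintype F), Fintype.card F = 25 ∧ Nonempty (G ≃* Matrix.ProjectiveSpecialLinearGroup (Fin 2) F)) ∨ (∃ (F : Type) (_ : Field F) (_ : Fintype F), Fintype.card F = 27 ∧ Nonempty (G ≃* Matrix.ProjectiveSpecialLinearGroup (Fin 2) F)) ∨ (∃ (F : Type) (_ : Field F) (_ : Fintype F), Fintype.card F = 81 ∧ Nonempty (G ≃* Matrix.ProjectiveSpecialLinearGroup (Fin 2) F)) ∨ (∃ (F : Type) (_ : Field F) (_ : Fintype F), Fintype.card F = 2401 ∧ Nonempty (G ≃* Matrix.ProjectiveSpecialLinearGroup (Fin 2) F)) ∨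
      (∃ (F : Type) (_ : Field F) (_ : Fintype F), Fintype.card F = 4 ∧ Nonempty (G ≃* Matrix.ProjectiveSpecialLinearGroup (Fin 3) F)) := by
  haveI : Fact p.Prime := ⟨hp⟩
  have hsm : ∀ q : ℕ, q.Prime → q ∣ Nat.card G → q = p ∨ q ∈ [2, 3, 5, 7] := by
    intro q hq hqd
    rw [hord] at hqd
    have hpow : ∀ {m n : ℕ}, m.Prime → q ∣ m ^ n → q = m := fun hm h =>
      (Nat.prime_dvd_prime_iff_eq hq hm).1 (hq.dvd_of_dvd_pow h)
    rcases (Nat.Prime.dvd_mul hq).1 hqd with h | h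
    · rcases (Nat.Prime.dvd_mul hq).1 h with h | h
      · rcases (Nat.Prime.dvd_mul hq).1 h with h | h
        · rcases (Nat.Prime.dvd_mul hq).1 h with h | h
          · exact Or.inr (by simp [hpow Nat.prime_two h])
          · exact Or.inr (by simp [hpow Nat.prime_three h])
        · exact Or.inr (by simp [hpow (by norm_num) h])
      · exact Or.inr (by simp [hpow (by norm_num) h])
    · exact Or.inl ((Nat.prime_dvd_prime_iff_eq hq hp).1 h)
  have hT : Block.OnePrime.Target G := by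
    rcases Nat.lt_or_ge p 5 with h5 | h5
    · have h3 : p = 3 := by
        have := hp.two_le
        interval_cases p
        · exact absurd rfl hp2
        · rfl
        · exact absurd hp (by norm_num)
      subst h3
      exact Block.OnePrime.target_three hG P hPp hN
    · obtain ⟨S, hS⟩ := Block.OnePrime.exists_setup hG h5 P hPp hN
      exact S.target (fun q hq hqd => hS ▸ hsm q hq hqd) (fun S => Block.OnePrime.row20_20 S) (fun S => Block.OnePrime.row24_252 S)
        (fun S a b c _ => Block.OnePrime.row27_25 S a b c) (fun S a b c _ => Block.OnePrime.row27_25 S a b c)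
        (fun S a b c _ => Block.OnePrime.row27_25 S a b c) (fun S => Block.OnePrime.row27_40 S) (fun S => Block.OnePrime.row49_9 S)
        (fun S => Block.OnePrime.row64_21 S) (fun S => S.row64_25) (fun S => Block.OnePrime.row64_105 S)
  rcases hT with ⟨F, i1, i2, hF, e⟩ | h
  · simp only [List.mem_cons, List.not_mem_nil, or_false] at hF
    rcases hF with hF | hF | hF | hF | hF | hF | hF | hF | hF
    · exact Or.inl ⟨F, i1, i2, hF, e⟩
    · exact Or.inr (Or.inl ⟨F, i1, i2, hF, e⟩)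
    · exact Or.inr (Or.inr (Or.inr (Or.inl ⟨F, i1, i2, hF, e⟩)))
    · exact Or.inr (Or.inr (Or.inl ⟨F, i1, i2, hF, e⟩))
    · exact Or.inr (Or.inr (Or.inr (Or.inr (Or.inl ⟨F, i1, i2, hF, e⟩))))
    · exact Or.inr (Or.inr (Or.inr (Or.inr (Or.inr (Or.inl ⟨F, i1, i2, hF, e⟩)))))
    · exact Or.inr (Or.inr (Or.inr (Or.inr (Or.inr (Or.inr (Or.inl ⟨F, i1, i2, hF, e⟩))))))
    · exact Or.inr (Or.inr (Or.inr (Or.inr (Or.inr (Or.inr (Or.inr (Or.inl ⟨F, i1, i2, hF, e⟩)))))))
    · exact Or.inr (Or.inr (Or.inr (Or.inr (Or.inr (Or.inr (Or.inr (Or.inr (Or.inl ⟨F, i1, i2, hF, e⟩))))))))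
  · exact Or.inr (Or.inr (Or.inr (Or.inr (Or.inr (Or.inr (Or.inr (Or.inr (Or.inr h))))))))

end Cfsg.Agent.S3251
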