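import Cfsg.Statements.S3260
import Cfsg.Agent.Lib.Fus.QuadFixedStable
import Cfsg.Agent.Lib.Fus.ZJTheorem
import Cfsg.Agent.Lib.Fus.FreeFunctorTwo
import Cfsg.Agent.Lib.Invol.RealFreeBasic
import Cfsg.Agent.Lib.Invol.ThompsonReduction
import Cfsg.Agent.Lib.Transfer.Transitivity
import Cfsg.Agent.Lib.Classical.DicksonFacts

set_option autoImplicit false
set_option maxHeartbeats 1000000
open Cfsg

namespace Cfsg.Agent.S3260

/-- Let p ≥ 5 be a prime, G a finite p-constrained group with Sylow p-subgroup S, and A a group of automorphisms of G of order coprime to |G| whose fixed-point subgroup has no section isomorphic to PSL₂(p). Then G = O_{p'}(G) · N_G(Z(J(S))), where J(S) is the subgroup generated by the abelian subgroups of S of largest order. -/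
theorem result {G : Type*} [Group G] [Finite G] (p : ℕ) [hp : Fact p.Prime] (hp5 : 5 ≤ p)
    (hG : Cfsg.IsPConstrained p G) (S : Sylow p G) (A : Subgroup (MulAut G)) (hA : (Nat.card ↥A).Coprime (Nat.card G))
    (C : Subgroup G) (hC : ∀ g : G, g ∈ C ↔ ∀ a ∈ A, a g = g)
    {F : Type*} [Field F] [Fintype F] (hF : Fintype.card F = p)
    (hfix : ¬ Cfsg.Involves (Matrix.ProjectiveSpecialLinearGroup (Fin 2) F) ↥C) :
    Cfsg.pPrimeCore p G ⊔ Subgroup.normalizer (Cfsg.centerThompsonAOf (S : Subgroup G) : Set G) = ⊤ := by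
  classical
  obtain ⟨iso⟩ := Dickson.nonempty_psl_congr (ZMod.ringEquivOfPrime F hp.out hF)
  have hfix' : ¬ Cfsg.Involves (Matrix.ProjectiveSpecialLinearGroup (Fin 2) (ZMod p)) ↥C :=
    fun h => hfix ((Fus.involves_congr iso).1 h)
  have hC' : ∀ g, (∀ a : A, A.subtype a g = g) → g ∈ C := fun g h => (hC g).2 fun a ha => h ⟨a, ha⟩
  haveI hOn : (Cfsg.pPrimeCore p G).Normal := Grp.pPrimeCore_isNormal
  obtain ⟨f, hf⟩ : ∃ f, f = QuotientGroup.mk' (Cfsg.pPrimeCore p G) := ⟨_, rfl⟩
  have hfs : Function.Surjective f := hf ▸ QuotientGroup.mk'_surjective _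
  let α' : A →* MulAut (G ⧸ Cfsg.pPrimeCore p G) := Fus.QFix.quotientAut A.subtype _ fun a x hx =>
    Subgroup.characteristic_iff_map_le.1 Grp.instCharPPrimeCore (a : MulAut G) (Subgroup.mem_map_of_mem _ hx)
  have heq : ∀ a g, f (A.subtype a g) = α' a (f g) := fun a g => by rw [hf]; rfl
  have hinj : ∀ R : Sylow p G, Set.InjOn f (R : Subgroup G) := by
    intro R x hx y hy hxy
    have h1 : x⁻¹ * y ∈ Cfsg.pPrimeCore p G := by
      rw [← QuotientGroup.eq_one_iff]
      show (QuotientGroup.mk' (Cfsg.pPrimeCore p G)) (x⁻¹ * y) = 1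
      rw [← hf, map_mul, map_inv, hxy, inv_mul_cancel]
    obtain ⟨k, hk⟩ := R.isPGroup' ⟨x⁻¹ * y, mul_mem (inv_mem hx) hy⟩
    exact inv_mul_eq_one.1 (orderOf_eq_one_iff.1 (Nat.eq_one_of_dvd_coprimes
      ((Grp.pPrimeCore_coprime (p := p)).pow_right k) (Subgroup.orderOf_dvd_natCard _ h1)
      (orderOf_dvd_of_pow_eq_one (congrArg Subtype.val hk))))
  -- an invariant Sylow subgroup
  haveI : Finite A := Finite.of_injective (Subtype.val : A → MulAut G) Subtype.val_injective
  haveI : Finite (G ⋊[A.subtype] A) := Finite.of_equiv _ SemidirectProduct.equivProd.symm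
  haveI hK : (SemidirectProduct.inl : G →* G ⋊[A.subtype] A).range.Normal := by
    rw [SemidirectProduct.range_inl_eq_ker_rightHom]; infer_instance
  have hcop : (Nat.card (SemidirectProduct.inr : A →* G ⋊[A.subtype] A).range).Coprime
      (Nat.card (SemidirectProduct.inl : G →* G ⋊[A.subtype] A).range) :=
    (hA.coprime_dvd_left (Subgroup.card_range_dvd _)).coprime_dvd_right (Subgroup.card_range_dvd _)
  obtain ⟨X, hX, hXA⟩ := Grp.exists_invariant_sylow _ _
    (by rw [Subgroup.normalizer_eq_top_iff.2 hK]; exact le_top) hcop (Fus.QFix.solvable_or_solvable hcop) p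
  obtain ⟨X₁, hX₁⟩ := Grp.isSylowIn_iff.1 hX
  let R : Sylow p G := X₁.comapOfInjective (SemidirectProduct.inl (φ := A.subtype)).rangeRestrict
    (fun x y h => SemidirectProduct.inl_injective (congrArg Subtype.val h))
    (by rw [MonoidHom.range_eq_top.2 (MonoidHom.rangeRestrict_surjective _)]; exact le_top)
  have hR : ∀ x, x ∈ (R : Subgroup G) ↔ (SemidirectProduct.inl x : G ⋊[A.subtype] A) ∈ X := by
    intro x
    rw [← hX₁]
    constructor
    · intro h; exact ⟨_, h, rfl⟩
    · rintro ⟨u, hu, he⟩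
      show (SemidirectProduct.inl (φ := A.subtype)).rangeRestrict x ∈ (X₁ : Subgroup _)
      rwa [show (SemidirectProduct.inl (φ := A.subtype)).rangeRestrict x = u from Subtype.ext he.symm]
  have hRinv : ∀ a, ∀ x ∈ (R : Subgroup G), A.subtype a x ∈ (R : Subgroup G) := by
    intro a x hx
    rw [hR] at hx ⊢
    rw [SemidirectProduct.inl_aut, map_inv]
    exact (Subgroup.mem_normalizer_iff.1 (hXA ⟨a, rfl⟩) _).1 hx
  obtain ⟨P, hP⟩ : ∃ P, P = R.mapSurjective hfs := ⟨_, rfl⟩
  have hPinv : ∀ a, (P : Subgroup (G ⧸ Cfsg.pPrimeCore p G)).map (α' a).toMonoidHom = P := by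
    intro a
    have key : ∀ b, ∀ y ∈ (P : Subgroup (G ⧸ Cfsg.pPrimeCore p G)), α' b y ∈ (P : Subgroup _) := by
      rw [hP]
      rintro b _ ⟨x, hx, rfl⟩
      exact ⟨_, hRinv b x hx, heq b x⟩
    refine le_antisymm (Subgroup.map_le_iff_le_comap.2 (key a)) fun y hy => ⟨α' a⁻¹ y, key _ y hy, ?_⟩
    show α' a (α' a⁻¹ y) = y
    rw [← MulAut.mul_apply, ← map_mul, mul_inv_cancel, map_one]; rfl
  have hD : IsStronglyClosed (P : Subgroup (G ⧸ Cfsg.pPrimeCore p G)) (P : Subgroup _) :=
    ⟨le_rfl, fun _ _ _ h => h⟩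
  haveI hn : (centerThompsonAOf (P : Subgroup (G ⧸ Cfsg.pPrimeCore p G))).Normal := by
    refine Fus.centerThompsonA_normal_of (by omega) (Transfer.Transitivity.centralizer_pCore_quotient hG)
      (Inv := fun B => ∀ a, ∀ v ∈ B, α' a v ∈ B)
      (fun V _ hV hVinv => Fus.QFix.stableOn_of_fixed hp5 hA hC' hfix' f hfs α' heq V hV hVinv) P hD ?_ ?_ ?_
    · exact fun a v hv => Subgroup.characteristic_iff_map_le.1 Grp.instCharPCore (α' a)
        (Subgroup.mem_map_of_mem _ hv)
    · intro B hB a v hv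
      obtain ⟨Z, hZ⟩ : ∃ Z, Z = centerThompsonAOf (P : Subgroup (G ⧸ Cfsg.pPrimeCore p G)) := ⟨_, rfl⟩
      have hZinv : ∀ u ∈ Z, α' a u ∈ Z := by
        intro u hu
        have h := Subgroup.mem_map_of_mem (α' a).toMonoidHom hu
        rw [hZ, ← Invol.RealFree.centerThompsonA_map (α' a).toMonoidHom (α' a).injective.injOn, hPinv a, ← hZ] at h
        exact h
      rw [← hZ] at hv ⊢
      have hn' : ((Subgroup.normalClosure ((B ⊓ Z : Subgroup _) : Set _)).comap (α' a).toMonoidHom).Normal :=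
        Subgroup.Normal.comap Subgroup.normalClosure_normal _
      have hsub : ∀ u : G ⧸ Cfsg.pPrimeCore p G, u ∈ B ⊓ Z →
          (α' a).toMonoidHom u ∈ Subgroup.normalClosure ((B ⊓ Z : Subgroup _) : Set (G ⧸ Cfsg.pPrimeCore p G)) := by
        intro u hu
        obtain ⟨hu₁, hu₂⟩ := Subgroup.mem_inf.1 hu
        have h3 : (α' a).toMonoidHom u ∈ B ⊓ Z := Subgroup.mem_inf.2 ⟨hB a u hu₁, hZinv u hu₂⟩
        exact Subgroup.subset_normalClosure h3
      have h : v ∈ (Subgroup.normalClosure ((B ⊓ Z : Subgroup _) : Set (G ⧸ Cfsg.pPrimeCore p G))).comap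
          (α' a).toMonoidHom := Subgroup.normalClosure_le_normal (fun u hu => Subgroup.mem_comap.2 (hsub u hu)) hv
      exact h
    · intro B hB a v hv
      have h1 := Subgroup.mem_map_of_mem (α' a).toMonoidHom hv
      rw [Subgroup.map_commutator] at h1
      exact Subgroup.commutator_mono (Subgroup.map_le_iff_le_comap.2 (hB a))
        (Subgroup.map_le_iff_le_comap.2 (hB a)) h1
  -- the given Sylow subgroup
  have hS : (centerThompsonAOf (S : Subgroup G)).map f =
      centerThompsonAOf (P : Subgroup (G ⧸ Cfsg.pPrimeCore p G)) := by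
    obtain ⟨g, hg⟩ := MulAction.exists_smul_eq (G ⧸ Cfsg.pPrimeCore p G) P (S.mapSurjective hfs)
    rw [← Invol.RealFree.centerThompsonA_map f (hinj S)]
    show centerThompsonAOf (S.mapSurjective hfs).toSubgroup = _
    rw [← hg]
    show centerThompsonAOf ((P : Subgroup (G ⧸ Cfsg.pPrimeCore p G)).map (MulAut.conj g).toMonoidHom) = _
    rw [Invol.RealFree.centerThompsonA_map _ (MulAut.conj g).injective.injOn]
    refine le_antisymm ?_ fun z hz => ⟨g⁻¹ * z * g, ?_, ?_⟩
    · rintro _ ⟨z, hz, rfl⟩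
      exact hn.conj_mem z hz g
    · have h := hn.conj_mem z hz g⁻¹
      rwa [inv_inv] at h
    · show g * (g⁻¹ * z * g) * g⁻¹ = z
      group
  have h1 : (Subgroup.normalizer (centerThompsonAOf (S : Subgroup G) : Set G)).map f = ⊤ := by
    refine top_le_iff.1 (le_trans ?_ (Invol.normalizer_map_le_of_coprime f hfs
      (by rw [hf, QuotientGroup.ker_mk']; exact Grp.pPrimeCore_coprime)
      (S.isPGroup'.to_le (Invol.RealFree.centerThompsonA_le _))))
    rw [hS, Subgroup.normalizer_eq_top_iff.2 hn]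
  have h2 : ((Subgroup.normalizer (centerThompsonAOf (S : Subgroup G) : Set G)).map f).comap f = ⊤ := by
    rw [h1, Subgroup.comap_top]
  rw [Subgroup.comap_map_eq, hf, QuotientGroup.ker_mk', sup_comm] at h2
  exact h2

end Cfsg.Agent.S3260
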