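import Cfsg.Statements.S3266
import Cfsg.Agent.Lib.Grp.OddGraphDiamTwo
import Cfsg.Agent.Lib.Fus.PSLTwo
import Cfsg.Agent.Lib.Fus.TransvectionInvolutions
-- import your own Cfsg.Agent.* helpers here

set_option autoImplicit false
open Cfsg

namespace Cfsg.Agent.S3266

open Matrix Cfsg.Agent.Fus Cfsg.Agent.Classical

theorem swap_order {G : Type*} [Group G] (a b : G) : orderOf (b * a) = orderOf (a * b) :=
  ((SemiconjBy.orderOf_eq b (by show b * (a * b) = b * a * b; group : SemiconjBy b (a * b) (b * a)))).symm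

local notation "SL2" => Matrix.SpecialLinearGroup (Fin 2)

variable {F : Type*} [Field F]

abbrev TZ (A : SL2 F) : Prop := A.1 1 1 = -A.1 0 0

/-- Half of minus the trace of a product of two trace-zero matrices. -/
def dgn (A B : SL2 F) : F := A.1 0 1 * B.1 1 0 + A.1 1 0 * B.1 0 1

theorem trace_zero_of_involution (A : SL2 F) (h : orderOf (slToPSL 2 F A) = 2) : TZ A := by
  by_contra htr
  obtain ⟨c, hc⟩ := (slToPSL_pow_eq_one_iff A 2).1 (by
    have := pow_orderOf_eq_one (slToPSL 2 F A)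
    rwa [h] at this)
  have hne : A.1 0 0 + A.1 1 1 ≠ 0 := fun e => htr (by show A.1 1 1 = -A.1 0 0; linear_combination e)
  have h01 := congrFun (congrFun hc 0) 1
  have h10 := congrFun (congrFun hc 1) 0
  have h00 := congrFun (congrFun hc 0) 0
  have h11 := congrFun (congrFun hc 1) 1
  simp [sq, Matrix.mul_apply] at h01 h10 h00 h11
  have hb : A.1 0 1 = 0 :=
    (mul_eq_zero.1 (by linear_combination h01 : (A.1 0 0 + A.1 1 1) * A.1 0 1 = 0)).resolve_left hne
  have hc' : A.1 1 0 = 0 :=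
    (mul_eq_zero.1 (by linear_combination h10 : (A.1 0 0 + A.1 1 1) * A.1 1 0 = 0)).resolve_left hne
  have had : A.1 0 0 = A.1 1 1 := sub_eq_zero.1
    ((mul_eq_zero.1 (by linear_combination h00 - h11 :
      (A.1 0 0 + A.1 1 1) * (A.1 0 0 - A.1 1 1) = 0)).resolve_left hne)
  refine Nat.one_lt_two.ne' (h.symm.trans (orderOf_eq_one_iff.2 ?_))
  refine (slToPSL_eq_one_iff A).2 ⟨A.1 0 0, ?_⟩
  ext i j
  fin_cases i <;> fin_cases j <;> simp [hb, hc', had]

section Even

variable [Fintype F] [CharP F 2]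

def upperU (x : F) : SL2 F := PSLTwo.mk2 1 x 0 1 (by ring)

theorem conj_upperU {A : SL2 F} (hA : TZ A) (hns : slToPSL 2 F A ≠ 1) : IsConj (upperU 1) A := by
  have h2 : (2 : F) = 0 := CharTwo.two_eq_zero
  have hd := A.2
  rw [det_fin_two] at hd
  have hA' : A.1 1 1 = A.1 0 0 := by rw [show A.1 1 1 = -A.1 0 0 from hA, CharTwo.neg_eq]
  rw [hA'] at hd
  by_cases hc : A.1 1 0 = 0
  · have ha : A.1 0 0 = 1 := by
      have : (A.1 0 0 - 1) ^ 2 = 0 := by linear_combination hd + A.1 0 1 * hc + (1 - A.1 0 0) * h2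
      exact sub_eq_zero.1 ((pow_eq_zero_iff two_ne_zero).1 this)
    have hb : A.1 0 1 ≠ 0 := fun hb => hns ((slToPSL_eq_one_iff A).2 ⟨1, by
      ext i j; fin_cases i <;> fin_cases j <;> simp [ha, hA', hb, hc]⟩)
    obtain ⟨s, hs⟩ := FiniteField.isSquare_of_char_two (F := F) (ringChar.eq_iff.mpr ‹_›) (A.1 0 1)⁻¹
    refine isConj_iff.2 ⟨PSLTwo.mk2 (s * A.1 0 1) 0 0 s ?_, ?_⟩
    · simp only [mul_zero, sub_zero]
      linear_combination (-A.1 0 1) * hs + mul_inv_cancel₀ hb
    · refine mul_inv_eq_iff_eq_mul.mpr ?_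
      apply Subtype.ext
      ext i j
      fin_cases i <;> fin_cases j <;> simp [upperU, Matrix.mul_apply, ha, hA', hc] <;> ring
  · obtain ⟨s, hs⟩ := FiniteField.isSquare_of_char_two (F := F) (ringChar.eq_iff.mpr ‹_›) (-A.1 1 0)⁻¹
    refine isConj_iff.2 ⟨PSLTwo.mk2 (s * (A.1 0 0 + 1)) s (s * A.1 1 0) 0 ?_, ?_⟩
    · simp only [mul_zero, zero_sub]
      linear_combination (A.1 1 0) * hs + mul_inv_cancel₀ (neg_ne_zero.mpr hc)
    · refine mul_inv_eq_iff_eq_mul.mpr ?_
      apply Subtype.ext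
      ext i j
      fin_cases i <;> fin_cases j <;> simp [upperU, Matrix.mul_apply, hA']
      all_goals first
        | linear_combination (-s) * hd + (-s * A.1 0 1 * A.1 1 0) * h2
        | linear_combination (-s) * hd + (s * (1 - A.1 0 0)) * h2
        | grind
        | linear_combination s * hd + (-s) * h2
        | linear_combination (s * (A.1 0 0)) * h2
        | linear_combination (s * A.1 1 0) * h2
        | linear_combination (-s * A.1 0 0) * h2
        | ring

theorem odd_of_dgn {A B : SL2 F} (hA : TZ A) (hB : TZ B) (h : dgn A B ≠ 0) :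
    Odd (orderOf (slToPSL 2 F A * slToPSL 2 F B)) := by
  rw [← map_mul]
  refine Odd.of_dvd_nat (SLRoot.odd_orderOf_of_trace_ne (A * B) fun e => h ?_) (orderOf_map_dvd _ _)
  rw [Matrix.SpecialLinearGroup.coe_mul, Matrix.mul_apply, Matrix.mul_apply, Fin.sum_univ_two, Fin.sum_univ_two,
    show A.1 1 1 = -A.1 0 0 from hA, show B.1 1 1 = -B.1 0 0 from hB] at e
  have h2 : (2 : F) = 0 := CharTwo.two_eq_zero
  unfold dgn
  linear_combination e + A.1 1 0 * B.1 0 1 * h2

theorem even_mid {A B : SL2 F} (hA : TZ A) (hA1 : slToPSL 2 F A ≠ 1) (hB : TZ B) (hB1 : slToPSL 2 F B ≠ 1) :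
    ∃ C : SL2 F, TZ C ∧ slToPSL 2 F C ≠ 1 ∧ dgn A C ≠ 0 ∧ dgn C B ≠ 0 := by
  have key : ∀ M : SL2 F, TZ M → slToPSL 2 F M ≠ 1 → M.1 0 1 = 0 → M.1 1 0 = 0 → False := fun M hM h1 hb hc =>
    h1 ((slToPSL_eq_one_iff M).2 ⟨M.1 0 0, by
      ext i j; fin_cases i <;> fin_cases j <;> simp [hb, hc, show M.1 1 1 = -M.1 0 0 from hM, CharTwo.neg_eq]⟩)
  let C1 : SL2 F := ⟨!![1, 1; 0, 1], by simp [det_fin_two]⟩
  let C2 : SL2 F := ⟨!![1, 0; 1, 1], by simp [det_fin_two]⟩
  let C3 : SL2 F := ⟨!![0, 1; 1, 0], by simp [det_fin_two, CharTwo.neg_eq]⟩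
  have hne : ∀ C : SL2 F, (C.1 0 1 = 1 ∨ C.1 1 0 = 1) → slToPSL 2 F C ≠ 1 := fun C hC h1 => by
    obtain ⟨c, hc⟩ := (slToPSL_eq_one_iff C).1 h1
    rw [hc] at hC
    simp at hC
  by_cases h1 : A.1 1 0 ≠ 0 ∧ B.1 1 0 ≠ 0
  · exact ⟨C1, by simp [TZ, C1, CharTwo.neg_eq], hne _ (Or.inl (by simp [C1])), by simpa [dgn, C1] using h1.1,
      by simpa [dgn, C1] using h1.2⟩
  by_cases h2 : A.1 0 1 ≠ 0 ∧ B.1 0 1 ≠ 0
  · exact ⟨C2, by simp [TZ, C2, CharTwo.neg_eq], hne _ (Or.inr (by simp [C2])), by simpa [dgn, C2] using h2.1,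
      by simpa [dgn, C2] using h2.2⟩
  refine ⟨C3, by simp [TZ, C3, CharTwo.neg_eq], hne _ (Or.inl (by simp [C3])), ?_, ?_⟩
  · intro e
    simp [dgn, C3] at e
    have hs : A.1 0 1 = A.1 1 0 := CharTwo.add_eq_zero.1 e
    by_cases hc : A.1 1 0 = 0
    · exact key A hA hA1 (hs.trans hc) hc
    · exact key B hB hB1 (by by_contra hh; exact h2 ⟨hs ▸ hc, hh⟩) (by by_contra hh; exact h1 ⟨hc, hh⟩)
  · intro e
    simp [dgn, C3] at e
    have hs : B.1 0 1 = B.1 1 0 := CharTwo.add_eq_zero.1 (by linear_combination e)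
    by_cases hc : B.1 1 0 = 0
    · exact key B hB hB1 (hs.trans hc) hc
    · exact key A hA hA1 (by by_contra hh; exact h2 ⟨hh, hs ▸ hc⟩) (by by_contra hh; exact h1 ⟨hh, hc⟩)

end Even

section Odd

variable [Fintype F]

theorem odd_of_trace (hodd : Fintype.card F % 2 = 1) (M : SL2 F) (a : F) (ha : M.1 0 0 + M.1 1 1 = 2 * a)
    (h : a * a = 1 ∨ (Fintype.card F % 4 = 3 ∧ ∃ u : F, u ≠ 0 ∧ a * a - 1 = u * u)) :
    Odd (orderOf (slToPSL 2 F M)) := by
  have hd := M.2
  rw [det_fin_two] at hd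
  have hch : (M.1 - Matrix.scalar (Fin 2) a) * (M.1 - Matrix.scalar (Fin 2) a) = Matrix.scalar (Fin 2) (a * a - 1) := by
    ext i j
    fin_cases i <;> fin_cases j <;> simp [Matrix.mul_apply]
    · linear_combination M.1 0 0 * ha - hd
    · linear_combination M.1 0 1 * ha
    · linear_combination M.1 1 0 * ha
    · linear_combination M.1 1 1 * ha - hd
  rcases h with h | ⟨h4, u, hu0, hu⟩
  · obtain ⟨p, hp⟩ := CharP.exists F
    obtain ⟨n, hpp, hcard⟩ := FiniteField.card F p
    haveI : Fact p.Prime := ⟨hpp⟩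
    have hp2 : p ≠ 2 := fun e => by
      rw [hcard, e, Nat.pow_mod] at hodd
      simp at hodd
    have hz : (M.1 - Matrix.scalar (Fin 2) a) ^ p = 0 := by
      obtain ⟨k, hk⟩ := Nat.exists_eq_add_of_le hpp.two_le
      rw [hk, pow_add, pow_two, hch, h, sub_self, map_zero, zero_mul]
    have hpow : M.1 ^ p = Matrix.scalar (Fin 2) (a ^ p) := by
      conv_lhs => rw [← sub_add_cancel M.1 (Matrix.scalar (Fin 2) a)]
      rw [add_pow_char_of_commute p
        ((Matrix.scalar_commute a (fun r => Commute.all a r) _).symm : Commute (M.1 - Matrix.scalar (Fin 2) a) (Matrix.scalar (Fin 2) a)), hz, zero_add, map_pow]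
    exact Odd.of_dvd_nat (hpp.odd_of_ne_two hp2)
      (orderOf_dvd_of_pow_eq_one ((slToPSL_pow_eq_one_iff M p).2 ⟨_, hpow⟩))
  · set n := Fintype.card F / 2 with hn
    have h2 : (2 : F) ≠ 0 := PSLTwo.two_ne_zero_of_odd hodd
    have hr : (a + u) * (a - u) = 1 := by linear_combination hu
    set E : Matrix (Fin 2) (Fin 2) F := (2 * u)⁻¹ • (M.1 - Matrix.scalar (Fin 2) (a - u)) with hE
    have hu2 : (2 * u) * (2 * u)⁻¹ = 1 := mul_inv_cancel₀ (mul_ne_zero h2 hu0)
    have hpw : ∀ k : ℕ, M.1 ^ k = (a + u) ^ k • E + (a - u) ^ k • (1 - E) := fun k => by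
      induction k with
      | zero => simp
      | succ k ih =>
        have e1 : E * M.1 = (a + u) • E ∧ (1 - E) * M.1 = (a - u) • (1 - E) := by
          constructor <;> ext i j <;> fin_cases i <;> fin_cases j <;>
            simp [hE, Matrix.mul_apply, Fin.sum_univ_two]
          all_goals first
            | linear_combination ((2 * u)⁻¹ * M.1 0 0) * ha + (2 * u)⁻¹ * (hu - hd)
            | linear_combination ((2 * u)⁻¹ * M.1 0 1) * ha
            | linear_combination ((2 * u)⁻¹ * M.1 1 0) * ha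
            | linear_combination ((2 * u)⁻¹ * M.1 1 1) * ha + (2 * u)⁻¹ * (hu - hd)
            | linear_combination (-(2 * u)⁻¹ * M.1 0 0) * ha - (2 * u)⁻¹ * (hu - hd) + (-(M.1 0 0) + a - u) * hu2
            | linear_combination (-(2 * u)⁻¹ * M.1 1 1) * ha - (2 * u)⁻¹ * (hu - hd) + (-(M.1 1 1) + a - u) * hu2
            | linear_combination (-(2 * u)⁻¹ * M.1 0 1) * ha + (-M.1 0 1) * hu2
            | linear_combination (-(2 * u)⁻¹ * M.1 1 0) * ha + (-M.1 1 0) * hu2
        clear_value E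
        rw [pow_succ, ih, add_mul, smul_mul_assoc, smul_mul_assoc, e1.1, e1.2, smul_smul, smul_smul, ← pow_succ, ← pow_succ]
    have hr0 : a + u ≠ 0 := left_ne_zero_of_mul_eq_one hr
    have hr' : a - u = (a + u)⁻¹ := (inv_eq_of_mul_eq_one_right hr).symm
    have hscal : ∃ e : F, (a + u) ^ n = e ∧ (a - u) ^ n = e := by
      rcases FiniteField.pow_dichotomy (fun hc => by
        have := FiniteField.even_card_of_char_two hc; omega) hr0 with h1 | h1
      · exact ⟨1, h1, by rw [hr', inv_pow, h1, inv_one]⟩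
      · exact ⟨-1, h1, by rw [hr', inv_pow, h1]; norm_num⟩
    obtain ⟨e, he1, he2⟩ := hscal
    have : slToPSL 2 F M ^ n = 1 := (slToPSL_pow_eq_one_iff M n).2 ⟨e, by
      rw [hpw, he1, he2, ← smul_add, add_sub_cancel, Matrix.smul_one_eq_diagonal]; rfl⟩
    exact Odd.of_dvd_nat ⟨n / 2, by omega⟩ (orderOf_dvd_of_pow_eq_one this)

theorem tr_mul {A B : SL2 F} (hA : TZ A) (hB : TZ B) :
    (A * B).1 0 0 + (A * B).1 1 1 = 2 * (A.1 0 0 * B.1 0 0) + dgn A B := by
  rw [Matrix.SpecialLinearGroup.coe_mul, Matrix.mul_apply, Matrix.mul_apply, Fin.sum_univ_two, Fin.sum_univ_two,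
    show A.1 1 1 = -A.1 0 0 from hA, show B.1 1 1 = -B.1 0 0 from hB]
  unfold dgn; ring

theorem exists_mid (h2 : (2 : F) ≠ 0) {A B : SL2 F} (hA : TZ A) (hB : TZ B) (c a b s : F)
    (hc : (A * B).1 0 0 + (A * B).1 1 1 = 2 * -c) (hc1 : 1 - c * c ≠ 0)
    (hs : 1 - c * c - a * a - b * b + 2 * a * b * c = s * s) :
    ∃ C : SL2 F, TZ C ∧ (A * C).1 0 0 + (A * C).1 1 1 = 2 * -a ∧ (C * B).1 0 0 + (C * B).1 1 1 = 2 * -b := by
  rw [tr_mul hA hB, dgn] at hc
  have dA := A.2
  have dB := B.2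
  rw [det_fin_two, show A.1 1 1 = -A.1 0 0 from hA] at dA
  rw [det_fin_two, show B.1 1 1 = -B.1 0 0 from hB] at dB
  obtain ⟨k, hk⟩ : ∃ k, (1 - c * c) * k = 1 := ⟨_, mul_inv_cancel₀ hc1⟩
  obtain ⟨t, ht⟩ : ∃ t : F, 2 * t = 1 := ⟨_, mul_inv_cancel₀ h2⟩
  set α := (a - b * c) * k with hα
  set β := (b - a * c) * k with hβ
  set γ := s * k with hγ
  set z1 := α * A.1 0 0 + β * B.1 0 0 + γ * (t * (A.1 0 1 * B.1 1 0 - A.1 1 0 * B.1 0 1)) with hz1
  set z2 := α * A.1 0 1 + β * B.1 0 1 + γ * (A.1 0 0 * B.1 0 1 - A.1 0 1 * B.1 0 0) with hz2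
  set z3 := α * A.1 1 0 + β * B.1 1 0 + γ * (A.1 1 0 * B.1 0 0 - A.1 0 0 * B.1 1 0) with hz3
  have ea : α + β * c = a := by rw [hα, hβ]; linear_combination a * hk
  have eb : α * c + β = b := by rw [hα, hβ]; linear_combination b * hk
  have e1 : α * α + β * β + 2 * α * β * c + γ * γ * (1 - c * c) = 1 := by
    have : α * a + β * b + γ * γ * (1 - c * c) = 1 := by
      rw [hα, hβ, hγ]
      linear_combination k * (1 - c * c) * k * (-1) * hs + (k * (1 - c * c) * k * 0 + k * (a * a + b * b - 2 * a * b * c) * (-1) + k * (1 - c * c) + 1) * hk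
    rw [← ea, ← eb] at this
    linear_combination this
  have hdet : (!![z1, z2; z3, -z1] : Matrix (Fin 2) (Fin 2) F).det = 1 := by
    rw [det_fin_two]
    simp only [Matrix.of_apply, Matrix.cons_val_zero, Matrix.cons_val_one, Matrix.cons_val', Matrix.cons_val_fin_one]
    rw [hz1, hz2, hz3]
    grind
  let C : SL2 F := ⟨!![z1, z2; z3, -z1], hdet⟩
  have hC : TZ C := by simp [TZ, C]
  refine ⟨C, hC, ?_, ?_⟩
  · rw [tr_mul hA hC, dgn]
    simp only [C, Matrix.of_apply, Matrix.cons_val_zero, Matrix.cons_val_one, Matrix.cons_val', Matrix.cons_val_fin_one]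
    rw [hz1, hz2, hz3]
    grind
  · rw [tr_mul hC hB, dgn]
    simp only [C, Matrix.of_apply, Matrix.cons_val_zero, Matrix.cons_val_one, Matrix.cons_val', Matrix.cons_val_fin_one]
    rw [hz1, hz2, hz3]
    grind

theorem neg_square (h4 : Fintype.card F % 4 = 3) {x : F} (hx : ¬ IsSquare x) : IsSquare (-x) := by
  have hch : ringChar F ≠ 2 := fun hc => by have := FiniteField.even_card_of_char_two hc; omega
  have hx0 : x ≠ 0 := fun e => hx (e ▸ ⟨0, by simp⟩)
  rw [FiniteField.isSquare_iff hch (neg_ne_zero.mpr hx0)]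
  have h1 : x ^ (Fintype.card F / 2) = -1 :=
    (FiniteField.pow_dichotomy hch hx0).resolve_left (mt (FiniteField.isSquare_iff hch hx0).mpr hx)
  rw [neg_pow, h1, Odd.neg_one_pow ⟨Fintype.card F / 4, by omega⟩]
  ring

theorem exists_b (h5 : 5 ≤ Fintype.card F) (h4 : Fintype.card F % 4 = 3) (c : F) (hc : ¬ IsSquare (c * c - 1)) :
    ∃ a b s : F, (∃ u, u ≠ 0 ∧ a * a - 1 = u * u) ∧ (b * b = 1 ∨ ∃ u, u ≠ 0 ∧ b * b - 1 = u * u) ∧
      1 - c * c - a * a - b * b + 2 * a * b * c = s * s := by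
  classical
  have hodd : Fintype.card F % 2 = 1 := by omega
  have h2 : (2 : F) ≠ 0 := PSLTwo.two_ne_zero_of_odd hodd
  obtain ⟨t, ht⟩ : ∃ t : F, 2 * t = 1 := ⟨_, mul_inv_cancel₀ h2⟩
  obtain ⟨w, hw⟩ := neg_square h4 hc
  have hw0 : w ≠ 0 := fun e => hc ⟨0, by rw [e] at hw; linear_combination -hw⟩
  have hns1 : ¬ IsSquare (-1 : F) := fun h => by
    rw [FiniteField.isSquare_neg_one_iff] at h; omega
  let D : Finset F := Finset.univ.erase 0
  have hD : D.card = Fintype.card F - 1 := by simp [D]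
  obtain ⟨r, hr0, hr1, hr2⟩ : ∃ r : F, r ≠ 0 ∧ r ≠ 1 ∧ r ≠ -1 := by
    by_contra h
    push Not at h
    have : (Finset.univ : Finset F).card ≤ ({0, 1, -1} : Finset F).card := Finset.card_le_card fun x _ => by
      by_cases hx0 : x = 0
      · simp [hx0]
      · by_cases hx1 : x = 1
        · simp [hx1]
        · simp [h x hx0 hx1]
    rw [Finset.card_univ] at this
    have := this.trans Finset.card_le_three
    omega
  set a := t * (r + r⁻¹) with ha
  have hri : r * r⁻¹ = 1 := mul_inv_cancel₀ hr0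
  have hau : a * a - 1 = (t * (r - r⁻¹)) * (t * (r - r⁻¹)) := by
    rw [ha]; linear_combination (2 * t + 1) * (r * r⁻¹) * ht + hri
  have hu0 : t * (r - r⁻¹) ≠ 0 := by
    intro e
    have e1 : r - r⁻¹ = 0 := by linear_combination 2 * e - (r - r⁻¹) * ht
    have e2 : (r - 1) * (r + 1) = 0 := by linear_combination r * e1 + hri
    rcases mul_eq_zero.1 e2 with e3 | e3
    · exact hr1 (sub_eq_zero.1 e3)
    · exact hr2 (eq_neg_of_add_eq_zero_left e3)
  set K := t * (r - r⁻¹) * w with hK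
  have hK0 : K ≠ 0 := mul_ne_zero hu0 hw0
  let f1 : F → F := fun x => t * (x + x⁻¹)
  let f2 : F → F := fun x => t * (x - K * K * x⁻¹)
  let Bs : Finset F := D.image f1
  let Ss : Finset F := Finset.univ.filter fun v => IsSquare (v * v + K * K)
  have hmemD : ∀ {x : F}, x ∈ D ↔ x ≠ 0 := fun {x} => by simp [D]
  have hSs : 2 * Ss.card ≤ Fintype.card F - 1 := by
    have hsub : Ss ⊆ D.image f2 := fun v hv => by
      obtain ⟨y, hy⟩ := (Finset.mem_filter.mp hv).2
      have hne : v + y ≠ 0 := fun e => hK0 (by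
        have : K * K = 0 := by linear_combination hy - (v - y) * e
        exact mul_self_eq_zero.mp this)
      refine Finset.mem_image.mpr ⟨v + y, hmemD.mpr hne, ?_⟩
      have e1 : (v + y) * (v + y)⁻¹ = 1 := mul_inv_cancel₀ hne
      show t * ((v + y) - K * K * (v + y)⁻¹) = v
      linear_combination v * ht + t * (v + y)⁻¹ * (-1) * hy + (t * (v - y)) * e1
    refine le_trans (Nat.mul_le_mul_left 2 (Finset.card_le_card hsub)) ?_
    rw [← hD]
    refine Finset.mul_card_image_le_card D 2 fun v hv => ?_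
    obtain ⟨x, hx, rfl⟩ := Finset.mem_image.mp hv
    have hx0 := hmemD.mp hx
    have hx' : -(K * K) * x⁻¹ ≠ 0 := mul_ne_zero (neg_ne_zero.mpr (mul_ne_zero hK0 hK0)) (inv_ne_zero hx0)
    have hdist : x ≠ -(K * K) * x⁻¹ := fun e => hns1 ⟨x * K⁻¹, by
      have e1 : x * x = -(K * K) := by
        calc x * x = x * (-(K * K) * x⁻¹) := by rw [← e]
          _ = -(K * K) * (x * x⁻¹) := by ring
          _ = _ := by rw [mul_inv_cancel₀ hx0, mul_one]
      calc (-1 : F) = -((K * K⁻¹) * (K * K⁻¹)) := by rw [mul_inv_cancel₀ hK0, one_mul]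
        _ = x * K⁻¹ * (x * K⁻¹) := by linear_combination (-(K⁻¹ * K⁻¹)) * e1⟩
    refine le_trans (le_of_eq (Finset.card_pair hdist).symm) (Finset.card_le_card fun y hy => ?_)
    rcases Finset.mem_insert.mp hy with rfl | hy
    · exact Finset.mem_filter.mpr ⟨hx, rfl⟩
    · rw [Finset.mem_singleton.mp hy]
      refine Finset.mem_filter.mpr ⟨hmemD.mpr hx', ?_⟩
      show t * (_ - K * K * (-(K * K) * x⁻¹)⁻¹) = t * (x - K * K * x⁻¹)
      field_simp
      ring
  have hBs : Fintype.card F + 1 ≤ 2 * Bs.card := by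
    have hne : (1 : F) ≠ -1 := fun e => h2 (by linear_combination e)
    have hf1 : f1 1 = 1 := by show t * (1 + 1⁻¹) = 1; rw [inv_one]; linear_combination ht
    have hf1' : f1 (-1) = -1 := by show t * (-1 + (-1)⁻¹) = -1; rw [inv_neg, inv_one]; linear_combination -ht
    have hsub : ({1, -1} : Finset F) ⊆ Bs := fun y hy => by
      rcases Finset.mem_insert.mp hy with rfl | hy
      · exact Finset.mem_image.mpr ⟨1, hmemD.mpr one_ne_zero, hf1⟩
      · rw [Finset.mem_singleton.mp hy]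
        exact Finset.mem_image.mpr ⟨-1, hmemD.mpr (by simp), hf1'⟩
    let D' := D \ {1, -1}
    have h1 : D.card - 2 ≤ D'.card := by
      have := Finset.le_card_sdiff ({1, -1} : Finset F) D
      rw [Finset.card_pair hne] at this
      exact this
    have key : ∀ x y : F, x ≠ 0 → y ≠ 0 → f1 x = f1 y → x = y ∨ x = y⁻¹ := fun x y hx hy e => by
      have e0 : x + x⁻¹ = y + y⁻¹ := by
        have : t * (x + x⁻¹ - (y + y⁻¹)) = 0 := by
          have e' : t * (x + x⁻¹) = t * (y + y⁻¹) := e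
          linear_combination e'
        exact sub_eq_zero.1 ((mul_eq_zero.1 this).resolve_left fun ht0 => one_ne_zero (α := F) (by rw [← ht, ht0, mul_zero]))
      have : (x - y) * (x - y⁻¹) = 0 := by
        linear_combination x * e0 - mul_inv_cancel₀ hx + mul_inv_cancel₀ hy
      rcases mul_eq_zero.1 this with e' | e'
      · exact Or.inl (sub_eq_zero.1 e')
      · exact Or.inr (sub_eq_zero.1 e')
    have h2' : D'.card ≤ 2 * (Bs \ {1, -1}).card := by
      have himg : D'.image f1 ⊆ Bs \ {1, -1} := fun y hy => by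
        obtain ⟨x, hx, rfl⟩ := Finset.mem_image.mp hy
        obtain ⟨hxD, hxn⟩ := Finset.mem_sdiff.mp hx
        refine Finset.mem_sdiff.mpr ⟨Finset.mem_image_of_mem _ hxD, fun hy' => hxn ?_⟩
        rcases Finset.mem_insert.mp hy' with e | e
        · rcases key x 1 (hmemD.mp hxD) one_ne_zero (e.trans hf1.symm) with h | h <;> simp [h]
        · rcases key x (-1) (hmemD.mp hxD) (by simp) ((Finset.mem_singleton.mp e).trans hf1'.symm) with h | h <;> simp [h]
      refine le_trans (Finset.card_le_mul_card_image D' 2 fun y hy => ?_) (Nat.mul_le_mul_left 2 (Finset.card_le_card himg))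
      obtain ⟨x, hx, rfl⟩ := Finset.mem_image.mp hy
      refine le_trans (Finset.card_le_card (t := {x, x⁻¹}) fun z hz => ?_) Finset.card_le_two
      obtain ⟨hz, hze⟩ := Finset.mem_filter.mp hz
      rcases key z x (hmemD.mp (Finset.mem_sdiff.mp hz).1) (hmemD.mp (Finset.mem_sdiff.mp hx).1) hze with h | h <;> simp [h]
    rw [Finset.card_sdiff_of_subset hsub, Finset.card_pair hne] at h2'
    rw [hD] at h1
    have := Finset.card_le_card hsub
    rw [Finset.card_pair hne] at this
    omega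
  obtain ⟨b, hbB, hbS⟩ : ∃ b ∈ Bs, b - a * c ∉ Ss := by
    by_contra h
    push Not at h
    have := Finset.card_le_card_of_injOn (fun b => b - a * c) (fun b hb => h b hb) (fun x _ y _ e => sub_left_injective e)
    omega
  obtain ⟨x, hx, rfl⟩ := Finset.mem_image.mp hbB
  have hx0 := hmemD.mp hx
  obtain ⟨s, hs⟩ := neg_square h4 (fun h => hbS (Finset.mem_filter.mpr ⟨Finset.mem_univ _, h⟩) : ¬ IsSquare ((f1 x - a * c) * (f1 x - a * c) + K * K))
  refine ⟨a, f1 x, s, ⟨_, hu0, hau⟩, ?_, ?_⟩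
  · have hb : f1 x * f1 x - 1 = (t * (x - x⁻¹)) * (t * (x - x⁻¹)) := by
      show t * (x + x⁻¹) * (t * (x + x⁻¹)) - 1 = _
      linear_combination (2 * t + 1) * (x * x⁻¹) * ht + mul_inv_cancel₀ hx0
    by_cases h0 : t * (x - x⁻¹) = 0
    · exact Or.inl (by rw [h0] at hb; linear_combination hb)
    · exact Or.inr ⟨_, h0, hb⟩
  · rw [hK] at hs
    linear_combination hs - (w * w) * hau - (a * a - 1) * hw

end Odd

/-- Let F be a finite field with at least 4 elements and let X be a conjugacy class of involutions of PSL(2, F). The graph on X joining two distinct involutions whose product has odd order is connected and has diameter exactly 2. -/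
theorem result {F : Type*} [Field F] [Fintype F] (hF : 4 ≤ Fintype.card F)
    (t : Matrix.ProjectiveSpecialLinearGroup (Fin 2) F) (ht : orderOf t = 2) :
    (SimpleGraph.fromRel fun x y : {x : Matrix.ProjectiveSpecialLinearGroup (Fin 2) F // IsConj t x} =>
        Odd (orderOf (x.1 * y.1))).Connected ∧
      (SimpleGraph.fromRel fun x y : {x : Matrix.ProjectiveSpecialLinearGroup (Fin 2) F // IsConj t x} =>
        Odd (orderOf (x.1 * y.1))).diam = 2 := by
  classical
  obtain ⟨T, rfl⟩ := Classical.slToPSL_surjective t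
  have hT := trace_zero_of_involution T ht
  -- the class consists of the trace zero images
  have hcls : ∀ A : Matrix.SpecialLinearGroup (Fin 2) F, IsConj (Classical.slToPSL 2 F T) (Classical.slToPSL 2 F A) → TZ A := by
    intro A hA
    refine trace_zero_of_involution A ?_
    obtain ⟨g, hg⟩ := isConj_iff.1 hA
    rw [← hg]
    exact (orderOf_injective (MulAut.conj g).toMonoidHom (MulEquiv.injective _) _).trans ht
  by_cases hodd : Fintype.card F % 2 = 1
  · have h2 : (2 : F) ≠ 0 := PSLTwo.two_ne_zero_of_odd hodd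
    have hmk : ∀ A : Matrix.SpecialLinearGroup (Fin 2) F, TZ A → IsConj (Classical.slToPSL 2 F T) (Classical.slToPSL 2 F A) :=
      fun A hA => (Classical.slToPSL 2 F).map_isConj ((PSLTwo.isConj_stdJ hodd hT).symm.trans (PSLTwo.isConj_stdJ hodd hA))
    refine OddGraph.diam_two _ (fun x y hxy hn => ?_) ?_
    · obtain ⟨A, hA⟩ := Classical.slToPSL_surjective x.1
      obtain ⟨B, hB⟩ := Classical.slToPSL_surjective y.1
      have hA0 := hcls A (hA ▸ x.2)
      have hB0 := hcls B (hB ▸ y.2)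
      have hno : ¬ Odd (orderOf (x.1 * y.1)) := fun h => hn ((SimpleGraph.fromRel_adj _ x y).2 ⟨hxy, Or.inl h⟩)
      rw [← hA, ← hB, ← map_mul] at hno
      obtain ⟨c, hc⟩ : ∃ c : F, (A * B).1 0 0 + (A * B).1 1 1 = 2 * -c :=
        ⟨-(((A * B).1 0 0 + (A * B).1 1 1) * 2⁻¹), by field_simp⟩
      have hc1 : c * c ≠ 1 := fun e => hno (odd_of_trace hodd _ _ hc (Or.inl (by linear_combination e)))
      have hcc : 1 - c * c ≠ 0 := fun e => hc1 (by linear_combination -e)
      obtain ⟨a, b, s, ha, hb, hs⟩ : ∃ a b s : F,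
          (a * a = 1 ∨ (Fintype.card F % 4 = 3 ∧ ∃ u : F, u ≠ 0 ∧ a * a - 1 = u * u)) ∧
          (b * b = 1 ∨ (Fintype.card F % 4 = 3 ∧ ∃ u : F, u ≠ 0 ∧ b * b - 1 = u * u)) ∧
          1 - c * c - a * a - b * b + 2 * a * b * c = s * s := by
        by_cases h4 : Fintype.card F % 4 = 3
        · obtain ⟨a, b, s, ha, hb, hs⟩ := exists_b (by omega) h4 c fun ⟨u, hu⟩ => by
            refine hno (odd_of_trace hodd _ _ hc (Or.inr ⟨h4, u, fun e => hc1 ?_, by linear_combination hu⟩))
            rw [e] at hu; linear_combination hu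
          exact ⟨a, b, s, Or.inr ⟨h4, ha⟩, hb.imp_right fun h => ⟨h4, h⟩, hs⟩
        · obtain ⟨i, hi⟩ := FiniteField.isSquare_neg_one_iff.2 h4
          exact ⟨1, 1, i * (c - 1), Or.inl (one_mul 1), Or.inl (one_mul 1), by linear_combination (c - 1) ^ 2 * hi⟩
      obtain ⟨C, hC, hAC, hCB⟩ := exists_mid h2 hA0 hB0 c a b s hc hcc hs
      have o1 : Odd (orderOf (x.1 * Classical.slToPSL 2 F C)) := by
        rw [← hA, ← map_mul]
        exact odd_of_trace hodd _ _ hAC (ha.imp (fun h => by linear_combination h)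
          fun ⟨h4, u, hu, h⟩ => ⟨h4, u, hu, by linear_combination h⟩)
      have o2 : Odd (orderOf (Classical.slToPSL 2 F C * y.1)) := by
        rw [← hB, ← map_mul]
        exact odd_of_trace hodd _ _ hCB (hb.imp (fun h => by linear_combination h)
          fun ⟨h4, u, hu, h⟩ => ⟨h4, u, hu, by linear_combination h⟩)
      rw [map_mul, hA, hB] at hno
      refine ⟨⟨_, hmk C hC⟩, (SimpleGraph.fromRel_adj _ _ _).2 ⟨fun e => ?_, Or.inl o1⟩,
        (SimpleGraph.fromRel_adj _ _ _).2 ⟨fun e => ?_, Or.inl o2⟩⟩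
      · rw [e] at hno; exact hno o2
      · rw [← e] at hno; exact hno o1
    · obtain ⟨p, r, hpr⟩ := PSLTwo.exists_sq_add_sq hodd (-1)
      let Y : Matrix.SpecialLinearGroup (Fin 2) F := PSLTwo.mk2 p r r (-p) (by linear_combination -hpr)
      let J : Matrix.SpecialLinearGroup (Fin 2) F := PSLTwo.stdJ
      have hJ : TZ J := by simp [TZ, J, PSLTwo.stdJ]
      have hY : TZ Y := by simp [TZ, Y]
      have h0 : TZ (J * Y) := by
        simp [TZ, J, Y, PSLTwo.stdJ, Matrix.mul_apply, Fin.sum_univ_two]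
      have hsq : Classical.slToPSL 2 F (J * Y) ^ 2 = 1 := (Classical.slToPSL_pow_eq_one_iff _ 2).2 ⟨-1, by
        ext i j
        fin_cases i <;> fin_cases j <;>
          simp [J, Y, PSLTwo.stdJ, pow_two, Matrix.mul_apply, Fin.sum_univ_two] <;>
          first
          | linear_combination (1 : F) * hpr
          | linear_combination (-1 : F) * hpr
          | ring⟩
      have hne : Classical.slToPSL 2 F (J * Y) ≠ 1 := fun h => by
        obtain ⟨c, hc⟩ := (Classical.slToPSL_eq_one_iff _).1 h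
        have hd := (J * Y).2
        have e : c = -c := by
          have := h0
          unfold TZ at this
          rw [hc] at this
          simpa using this
        have : c = 0 := (mul_eq_zero.1 (by linear_combination e : (2 : F) * c = 0)).resolve_left h2
        rw [hc, this] at hd
        simp at hd
      have ho : orderOf (Classical.slToPSL 2 F (J * Y)) = 2 := orderOf_eq_prime hsq hne
      have hxy : Classical.slToPSL 2 F J ≠ Classical.slToPSL 2 F Y := fun e => hne (by
        rw [map_mul, ← e, ← pow_two]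
        refine (Classical.slToPSL_pow_eq_one_iff _ 2).2 ⟨-1, ?_⟩
        ext i j
        fin_cases i <;> fin_cases j <;> simp [J, PSLTwo.stdJ, pow_two, Matrix.mul_apply, Fin.sum_univ_two])
      refine ⟨⟨_, hmk J hJ⟩, ⟨_, hmk Y hY⟩, fun e => hxy (congrArg Subtype.val e), fun h => ?_⟩
      obtain ⟨-, h | h⟩ := (SimpleGraph.fromRel_adj _ _ _).1 h
      · rw [← map_mul, ho] at h; exact absurd h (by decide)
      · have : orderOf (Classical.slToPSL 2 F Y * Classical.slToPSL 2 F J) = 2 := by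
          rw [swap_order, ← map_mul]; exact ho
        rw [this] at h; exact absurd h (by decide)
  · haveI hch : CharP F 2 := by
      obtain ⟨p, hp⟩ := CharP.exists F
      obtain ⟨n, hpp, hcard⟩ := FiniteField.card F p
      rcases hpp.eq_two_or_odd with rfl | ho
      · exact hp
      · exfalso; apply hodd; rw [hcard, Nat.pow_mod, ho]; simp
    have hT1 : Classical.slToPSL 2 F T ≠ 1 := fun e => by rw [e, orderOf_one] at ht; omega
    have hmk : ∀ A : Matrix.SpecialLinearGroup (Fin 2) F, TZ A → Classical.slToPSL 2 F A ≠ 1 →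
        IsConj (Classical.slToPSL 2 F T) (Classical.slToPSL 2 F A) :=
      fun A hA h1 => (Classical.slToPSL 2 F).map_isConj ((conj_upperU hT hT1).symm.trans (conj_upperU hA h1))
    refine OddGraph.diam_two _ (fun x y hxy hn => ?_) ?_
    · obtain ⟨A, hA⟩ := Classical.slToPSL_surjective x.1
      obtain ⟨B, hB⟩ := Classical.slToPSL_surjective y.1
      have hA0 := hcls A (hA ▸ x.2)
      have hB0 := hcls B (hB ▸ y.2)
      have hne1 : ∀ z : {x : Matrix.ProjectiveSpecialLinearGroup (Fin 2) F // IsConj (Classical.slToPSL 2 F T) x}, z.1 ≠ 1 := fun z e => by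
        have := isConj_one_left.1 (e ▸ z.2)
        exact hT1 this
      obtain ⟨C, hC, hC1, d1, d2⟩ := even_mid hA0 (hA ▸ hne1 x) hB0 (hB ▸ hne1 y)
      have o1 := odd_of_dgn hA0 hC d1
      have o2 := odd_of_dgn hC hB0 d2
      rw [hA] at o1
      rw [hB] at o2
      have hno : ¬ Odd (orderOf (x.1 * y.1)) := fun h => hn ((SimpleGraph.fromRel_adj _ x y).2 ⟨hxy, Or.inl h⟩)
      refine ⟨⟨_, hmk C hC hC1⟩, (SimpleGraph.fromRel_adj _ _ _).2 ⟨fun e => ?_, Or.inl o1⟩,
        (SimpleGraph.fromRel_adj _ _ _).2 ⟨fun e => ?_, Or.inl o2⟩⟩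
      · rw [e] at hno; exact hno o2
      · rw [← e] at hno; exact hno o1
    · obtain ⟨l, hl0, hl1⟩ : ∃ l : F, l ≠ 0 ∧ l ≠ 1 := by
        by_contra h
        push Not at h
        have : (Finset.univ : Finset F).card ≤ ({0, 1} : Finset F).card := Finset.card_le_card fun x _ => by
          by_cases hx : x = 0
          · simp [hx]
          · simp [h x hx]
        rw [Finset.card_univ] at this
        have := this.trans Finset.card_le_two
        omega
      have hne : ∀ m : F, m ≠ 0 → Classical.slToPSL 2 F (upperU m) ≠ 1 := fun m hm h => by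
        obtain ⟨c, hc⟩ := (Classical.slToPSL_eq_one_iff _).1 h
        have := congrFun (congrFun hc 0) 1
        simp [upperU] at this
        exact hm this
      have htz : ∀ m : F, TZ (upperU m) := fun m => by simp [TZ, upperU, CharTwo.neg_eq]
      have hmul : upperU (F := F) 1 * upperU l = upperU (1 + l) := Subtype.ext (by
        simp [upperU, Matrix.SpecialLinearGroup.coe_mul, Matrix.mul_fin_two, PSLTwo.coe_mk2, add_comm])
      have hl2 : (1 : F) + l ≠ 0 := fun e => hl1 (CharTwo.add_eq_zero.1 e).symm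
      have ho : orderOf (Classical.slToPSL 2 F (upperU (1 + l))) = 2 := orderOf_eq_prime (by
        rw [← map_pow, show upperU (F := F) (1 + l) ^ 2 = 1 from Subtype.ext (by
          rw [pow_two, Matrix.SpecialLinearGroup.coe_mul]; ext i j; fin_cases i <;> fin_cases j <;> simp [upperU, Matrix.mul_apply, CharTwo.add_self_eq_zero]), map_one]) (hne _ hl2)
      refine ⟨⟨_, hmk _ (htz 1) (hne 1 one_ne_zero)⟩, ⟨_, hmk _ (htz l) (hne l hl0)⟩, fun e => ?_, fun h => ?_⟩
      · have h := congrArg Subtype.val e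
        apply hne _ hl2
        rw [← hmul, map_mul, ← show Classical.slToPSL 2 F (upperU 1) = Classical.slToPSL 2 F (upperU l) from h,
          ← pow_two, ← map_pow, show upperU (F := F) 1 ^ 2 = 1 from Subtype.ext (by
            rw [pow_two, Matrix.SpecialLinearGroup.coe_mul]; ext i j; fin_cases i <;> fin_cases j <;> simp [upperU, Matrix.mul_apply, CharTwo.add_self_eq_zero]), map_one]
      · obtain ⟨-, h | h⟩ := (SimpleGraph.fromRel_adj _ _ _).1 h
        · rw [← map_mul, hmul, ho] at h; exact absurd h (by decide)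
        · rw [swap_order, ← map_mul, hmul, ho] at h; exact absurd h (by decide)

end Cfsg.Agent.S3266
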