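import Cfsg.Statements.S3269
import Cfsg.Agent.Lib.Invol.ZStar
import Cfsg.Agent.Lib.Transfer.Burnside
-- import your own Cfsg.Agent.* helpers here

set_option autoImplicit false
open Cfsg
open scoped commutatorElement

namespace Cfsg.Agent.S3269

/-- Let G be a finite group whose Sylow 2-subgroup S is an internal direct product Q × R with Q generalized quaternion (of order at least 8) and R a subgroup all of whose involutions are central in R. Then G is not simple. In particular no finite simple group has a Sylow 2-subgroup that is a direct product of one or more generalized quaternion groups. -/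
theorem result {G : Type*} [Group G] [Finite G]
    (S : Sylow 2 G) (Q R : Subgroup G) (hQR : Cfsg.IsInternalDirectProduct Q R (S : Subgroup G))
    (n : ℕ) (hn : 1 ≤ n) (eQ : ↥Q ≃* QuaternionGroup (2 ^ n))
    (hR : ∀ r ∈ R, orderOf r = 2 → ∀ s ∈ R, r * s = s * r) :
    ¬ IsSimpleGroup G := by
  classical
  intro hsimple
  haveI : Fact (Nat.Prime 2) := ⟨Nat.prime_two⟩
  obtain ⟨hQS, hRS, hcomm, hinf, hsup⟩ := hQR
  have hbot : ∀ x, x ∈ Q → x ∈ R → x = 1 := fun x h1 h2 =>
    Subgroup.mem_bot.1 (hinf ▸ Subgroup.mem_inf.2 ⟨h1, h2⟩)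
  haveI : NeZero (2 ^ n) := ⟨by positivity⟩
  -- decomposition
  let T : Subgroup G :=
    { carrier := {s | ∃ q ∈ Q, ∃ r ∈ R, s = q * r}
      one_mem' := ⟨1, one_mem _, 1, one_mem _, (one_mul 1).symm⟩
      mul_mem' := by
        rintro _ _ ⟨q, hq, r, hr, rfl⟩ ⟨q', hq', r', hr', rfl⟩
        refine ⟨q * q', mul_mem hq hq', r * r', mul_mem hr hr', ?_⟩
        rw [mul_assoc q r, ← mul_assoc r q', ← hcomm q' hq' r hr]
        simp [mul_assoc]
      inv_mem' := by
        rintro _ ⟨q, hq, r, hr, rfl⟩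
        exact ⟨q⁻¹, inv_mem hq, r⁻¹, inv_mem hr, by rw [mul_inv_rev, hcomm _ (inv_mem hq) _ (inv_mem hr)]⟩ }
  have hdec : ∀ s ∈ (S : Subgroup G), ∃ q ∈ Q, ∃ r ∈ R, s = q * r := by
    intro s hs
    have hle : Q ⊔ R ≤ T := sup_le (fun q hq => ⟨q, hq, 1, one_mem _, (mul_one q).symm⟩)
      (fun r hr => ⟨1, one_mem _, r, hr, (one_mul r).symm⟩)
    exact hle (hsup.symm ▸ hs)
  -- the involution of `Q`
  set m : ℕ := 2 ^ n with hm
  set aQ : Q := eQ.symm (QuaternionGroup.a ((2 ^ (n - 1) : ℕ) : ZMod (2 * m)))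
  set xQ : Q := eQ.symm (QuaternionGroup.xa 0)
  set zQ : Q := ⁅aQ, xQ⁆ with hzQ
  have hzimg : eQ zQ = QuaternionGroup.a (m : ZMod (2 * m)) := by
    rw [hzQ, map_commutatorElement, MulEquiv.apply_symm_apply, MulEquiv.apply_symm_apply,
      commutatorElement_def, QuaternionGroup.a_mul_xa, inv_eq_of_mul_eq_one_right
        (show QuaternionGroup.a ((2 ^ (n - 1) : ℕ) : ZMod (2 * m)) *
          QuaternionGroup.a (-((2 ^ (n - 1) : ℕ) : ZMod (2 * m))) = 1 by
          rw [QuaternionGroup.a_mul_a, add_neg_cancel]; rfl),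
      inv_eq_of_mul_eq_one_right (show QuaternionGroup.xa (0 : ZMod (2 * m)) *
          QuaternionGroup.xa ((m : ZMod (2 * m)) + 0) = 1 by
          rw [QuaternionGroup.xa_mul_xa, QuaternionGroup.one_def]
          congr 1
          have h2 : (((2 * m : ℕ)) : ZMod (2 * m)) = 0 := ZMod.natCast_self _
          push_cast at h2
          linear_combination h2),
      QuaternionGroup.xa_mul_a, QuaternionGroup.xa_mul_xa]
    congr 1
    have h2 : (((2 * 2 ^ (n - 1) : ℕ)) : ZMod (2 * m)) = (m : ZMod (2 * m)) := by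
      congr 1
      rw [hm, ← pow_succ']; congr 1; omega
    have h4 : (((2 * m : ℕ)) : ZMod (2 * m)) = 0 := ZMod.natCast_self _
    push_cast at h2 h4 ⊢
    linear_combination h2 + h4
  have hzord : orderOf zQ = 2 := by
    rw [← MulEquiv.orderOf_eq eQ, hzimg]
    refine orderOf_eq_prime ?_ ?_
    · rw [pow_two, QuaternionGroup.a_mul_a, QuaternionGroup.one_def]
      congr 1
      rw [← Nat.cast_add, ← two_mul, ZMod.natCast_self]
    · rw [QuaternionGroup.one_def, ne_eq, QuaternionGroup.a.injEq, ZMod.natCast_eq_zero_iff]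
      intro hd
      have := Nat.le_of_dvd (by positivity) hd
      have : 0 < m := by positivity
      omega
  set z : G := (zQ : G) with hzdef
  have hz2 : orderOf z = 2 := by rw [hzdef, Subgroup.orderOf_coe, hzord]
  have hzz : z * z = 1 := Invol.mul_self_of_orderOf_two hz2
  have huniq : ∀ q ∈ Q, q * q = 1 → q = 1 ∨ q = z := by
    intro q hq hq2
    rcases BS.quaternion_sq_one (x := eQ ⟨q, hq⟩) (by
        rw [pow_two, ← map_mul, MulEquiv.map_eq_one_iff]; exact Subtype.ext hq2) with h | h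
    · rw [MulEquiv.map_eq_one_iff] at h
      exact .inl (congrArg Subtype.val h)
    · rw [← hzimg] at h
      exact .inr (congrArg Subtype.val (eQ.injective h))
  have hzcenQ : ∀ q ∈ Q, q * z = z * q := by
    intro q hq
    have h1 : q * z * q⁻¹ ∈ Q := mul_mem (mul_mem hq zQ.2) (inv_mem hq)
    have h2 : q * z * q⁻¹ * (q * z * q⁻¹) = 1 := by rw [conj_mul, hzz]; group
    rcases huniq _ h1 h2 with e | e
    · exact absurd (conj_eq_one_iff.1 e) (Invol.ne_one_of_orderOf_two hz2)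
    · exact mul_inv_eq_iff_eq_mul.1 e
  -- involutions of `S` are central
  have hinvcen : ∀ s ∈ (S : Subgroup G), s * s = 1 → ∀ y ∈ (S : Subgroup G), y * s = s * y := by
    intro s hs hs2 y hy
    obtain ⟨q, hq, r, hr, rfl⟩ := hdec s hs
    obtain ⟨q', hq', r', hr', rfl⟩ := hdec y hy
    have e : q * q * (r * r) = 1 := by
      rw [← hs2, mul_assoc, mul_assoc q r, ← mul_assoc r q r, ← hcomm q hq r hr, mul_assoc q r r]
    have hqq : q * q = 1 := hbot _ (mul_mem hq hq) (by
      rw [eq_inv_of_mul_eq_one_left e]; exact inv_mem (mul_mem hr hr))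
    have hrr : r * r = 1 := by rwa [hqq, one_mul] at e
    have hr' : ∀ w ∈ R, r * w = w * r := fun w hw => by
      by_cases h1 : r = 1
      · simp [h1]
      · exact hR r hr (orderOf_eq_prime (by rw [pow_two, hrr]) h1) w hw
    have hq'' : q' * q = q * q' := by
      rcases huniq q hq hqq with e | e
      · simp [e]
      · rw [e]; exact hzcenQ q' hq'
    have c1 : Commute (q' * r') q := by
      refine Commute.mul_left hq'' (hcomm q hq r' ‹r' ∈ R›).symm
    have c2 : Commute (q' * r') r := by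
      refine Commute.mul_left (hcomm q' hq' r hr) (hr' r' ‹r' ∈ R›).symm
    exact (c1.mul_right c2).eq
  -- the orbit of `z` under the normalizer
  set N := Subgroup.normalizer ((S : Subgroup G) : Set G) with hN
  have hzS : z ∈ (S : Subgroup G) := hQS zQ.2
  let ψ : N → ((Subgroup.center (S : Subgroup G)) ≃* (Subgroup.center (S : Subgroup G))) := fun a => Subgroup.centerCongr ((S : Subgroup G).normalizerMonoidHom a)
  have hψ : ∀ (a : N) (w : (Subgroup.center (S : Subgroup G))), (((ψ a w : (Subgroup.center (S : Subgroup G))) : (S : Subgroup G)) : G) = a * ((w : (S : Subgroup G)) : G) * (a : G)⁻¹ :=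
    fun a w => rfl
  let z₀ : (Subgroup.center (S : Subgroup G)) := ⟨⟨z, hzS⟩, Subgroup.mem_center_iff.2 fun y => Subtype.ext (hinvcen z hzS hzz y y.2)⟩
  haveI : Fintype (Subgroup.center (S : Subgroup G)) := Fintype.ofFinite (Subgroup.center (S : Subgroup G))
  set O : Finset (Subgroup.center (S : Subgroup G)) := Finset.univ.filter (fun w => ∃ a : N, ψ a z₀ = w) with hO
  have hzO : z₀ ∈ O := Finset.mem_filter.2 ⟨Finset.mem_univ _, ⟨1, Subtype.ext (Subtype.ext (by
    rw [hψ]; simp))⟩⟩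
  -- the other members of the orbit lie in `R`
  have hothers : ∀ w ∈ O.erase z₀, ((w : (S : Subgroup G)) : G) ∈ R := by
    intro w hw
    obtain ⟨hne, hwO⟩ := Finset.mem_erase.1 hw
    obtain ⟨a, rfl⟩ := (Finset.mem_filter.1 hwO).2
    have haS : ∀ y ∈ (S : Subgroup G), (a : G) * y * (a : G)⁻¹ ∈ (S : Subgroup G) :=
      fun y hy => (Subgroup.mem_normalizer_iff.1 a.2 y).1 hy
    have hQnorm : ∀ s ∈ (S : Subgroup G), ∀ q ∈ Q, s * q * s⁻¹ ∈ Q := by
      intro s hs q hq
      obtain ⟨q', hq', r', hr', rfl⟩ := hdec s hs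
      rw [show q' * r' * q * (q' * r')⁻¹ = q' * (r' * q * r'⁻¹) * q'⁻¹ by group,
        ← hcomm q hq r' hr', mul_inv_cancel_right]
      exact mul_mem (mul_mem hq' hq) (inv_mem hq')
    -- the image of `Q` commutes with `Q`
    have hQQ : ∀ q ∈ Q, ∀ y ∈ Q, q * (a * y * (a : G)⁻¹) = (a * y * (a : G)⁻¹) * q := by
      intro q hq y hy
      set y' := (a : G) * y * (a : G)⁻¹ with hy'
      set c := q * y' * q⁻¹ * y'⁻¹ with hc
      have hc1 : c ∈ Q := by
        rw [hc, show q * y' * q⁻¹ * y'⁻¹ = q * (y' * q⁻¹ * y'⁻¹) by group]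
        exact mul_mem hq (hQnorm y' (haS y (hQS hy)) _ (inv_mem hq))
      have hc2 : (a : G)⁻¹ * c * a ∈ Q := by
        have h1 : (a : G)⁻¹ * q * a ∈ (S : Subgroup G) :=
          (Subgroup.mem_normalizer_iff''.1 a.2 q).1 (hQS hq)
        rw [hc, hy', show (a : G)⁻¹ * (q * (a * y * (a : G)⁻¹) * q⁻¹ * (a * y * (a : G)⁻¹)⁻¹) * a =
          ((a : G)⁻¹ * q * a) * y * ((a : G)⁻¹ * q * a)⁻¹ * y⁻¹ by group]
        exact mul_mem (hQnorm _ h1 y hy) (inv_mem hy)
      by_cases h1 : c = 1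
      · rw [hc, mul_inv_eq_one, mul_inv_eq_iff_eq_mul] at h1; exact h1
      exfalso
      obtain ⟨k, hk⟩ := (S.isPGroup'.to_le hQS).exists_orderOf_eq_pow (⟨c, hc1⟩ : Q)
      rw [Subgroup.orderOf_mk] at hk
      have hk0 : k ≠ 0 := fun h0 => h1 (orderOf_eq_one_iff.1 (by simpa [h0] using hk))
      set e := c ^ (orderOf c / 2) with he
      have he2 : orderOf e = 2 :=
        orderOf_pow_orderOf_div (orderOf_pos c).ne' (hk ▸ dvd_pow_self 2 hk0)
      have hee := Invol.mul_self_of_orderOf_two he2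
      have he1 : e ≠ 1 := Invol.ne_one_of_orderOf_two he2
      have ez : e = z := (huniq e (pow_mem hc1 _) hee).resolve_left he1
      have eq2 : (a : G)⁻¹ * e * a = z := by
        have hmem : (a : G)⁻¹ * e * a ∈ Q := by
          have := pow_mem hc2 (orderOf c / 2)
          have hcp : ((a : G)⁻¹ * c * a) ^ (orderOf c / 2) = (a : G)⁻¹ * e * a := by
            have := conj_pow (i := orderOf c / 2) (a := (a : G)⁻¹) (b := c)
            simpa [he] using this
          rwa [hcp] at this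
        refine (huniq _ hmem (by
          rw [show (a : G)⁻¹ * e * a * ((a : G)⁻¹ * e * a) = (a : G)⁻¹ * (e * e) * a by group, hee]
          group)).resolve_left fun h => he1 ?_
        calc e = (a : G) * ((a : G)⁻¹ * e * a) * (a : G)⁻¹ := by group
          _ = 1 := by rw [h]; group
      refine hne (Subtype.ext (Subtype.ext ?_))
      rw [hψ]
      show (a : G) * z * (a : G)⁻¹ = z
      rw [ez] at eq2
      conv_lhs => rw [← eq2]
      group
    -- hence the image is in the centre of `Q` times `R`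
    have hsplit : ∀ y ∈ Q, ∃ q ∈ Q, ∃ r ∈ R, (a : G) * y * (a : G)⁻¹ = q * r ∧ ∀ q' ∈ Q, q' * q = q * q' := by
      intro y hy
      obtain ⟨q, hq, r, hr, e⟩ := hdec _ (haS y (hQS hy))
      refine ⟨q, hq, r, hr, e, fun q' hq' => ?_⟩
      have h1 := hQQ q' hq' y hy
      rw [e, ← mul_assoc, mul_assoc q r q', ← hcomm q' hq' r hr, ← mul_assoc] at h1
      exact mul_right_cancel h1
    obtain ⟨q₁, hq₁, r₁, hr₁, e₁, c₁⟩ := hsplit aQ aQ.2
    obtain ⟨q₂, hq₂, r₂, hr₂, e₂, c₂⟩ := hsplit xQ xQ.2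
    rw [hψ]
    show (a : G) * z * (a : G)⁻¹ ∈ R
    have hza : z = (aQ : G) * xQ * (aQ : G)⁻¹ * (xQ : G)⁻¹ := rfl
    rw [hza, show (a : G) * ((aQ : G) * xQ * (aQ : G)⁻¹ * (xQ : G)⁻¹) * (a : G)⁻¹ =
      ((a : G) * aQ * (a : G)⁻¹) * ((a : G) * xQ * (a : G)⁻¹) * ((a : G) * aQ * (a : G)⁻¹)⁻¹ *
        ((a : G) * xQ * (a : G)⁻¹)⁻¹ by group, e₁, e₂]
    have k1 : Commute q₁ q₂ := (c₁ q₂ hq₂).symm
    have k2 : Commute r₁ q₂ := (hcomm q₂ hq₂ r₁ hr₁).symm
    have k3 : Commute q₁ r₂ := hcomm q₁ hq₁ r₂ hr₂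
    have : q₁ * r₁ * (q₂ * r₂) * (q₁ * r₁)⁻¹ * (q₂ * r₂)⁻¹ = r₁ * r₂ * r₁⁻¹ * r₂⁻¹ := by
      rw [show q₁ * r₁ * (q₂ * r₂) * (q₁ * r₁)⁻¹ = q₁ * (r₁ * q₂ * r₁⁻¹) * (r₁ * r₂ * r₁⁻¹) * q₁⁻¹ by group,
        k2.eq, mul_inv_cancel_right, k1.eq]
      have k4 : Commute q₁ (r₁ * r₂ * r₁⁻¹) := hcomm q₁ hq₁ _ (mul_mem (mul_mem hr₁ hr₂) (inv_mem hr₁))
      rw [mul_assoc q₂ q₁, k4.eq, ← mul_assoc, mul_inv_cancel_right]
      have k5 : Commute q₂ (r₁ * r₂ * r₁⁻¹) := hcomm q₂ hq₂ _ (mul_mem (mul_mem hr₁ hr₂) (inv_mem hr₁))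
      rw [k5.eq, mul_inv_rev, mul_assoc, ← mul_assoc q₂, (hcomm q₂ hq₂ _ (inv_mem hr₂)), mul_inv_cancel_right]
    rw [this]
    exact mul_mem (mul_mem (mul_mem hr₁ hr₂) (inv_mem hr₁)) (inv_mem hr₂)
  letI : CommGroup (Subgroup.center (S : Subgroup G)) :=
    { (inferInstance : Group (Subgroup.center (S : Subgroup G))) with
      mul_comm := fun x y => Subtype.ext (Subgroup.mem_center_iff.1 y.2 x.1) }
  set v : (Subgroup.center (S : Subgroup G)) := ∏ w ∈ O, w with hv
  set vG : G := ((v : (S : Subgroup G)) : G) with hvG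
  have hvne : vG ≠ 1 := by
    intro he
    rw [hvG, hv, ← Finset.mul_prod_erase O (fun w => w) hzO] at he
    simp only [Subgroup.coe_mul] at he
    have hR' : (((∏ w ∈ O.erase z₀, w : (Subgroup.center (S : Subgroup G))) : (S : Subgroup G)) : G) ∈ R := by
      refine Finset.prod_induction (fun w : (Subgroup.center (S : Subgroup G)) => w) (fun w => ((w : (S : Subgroup G)) : G) ∈ R) ?_ ?_ hothers
      · intro x y hx hy; simpa using mul_mem hx hy
      · simp
    have : z ∈ R := by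
      rw [show z = ((z₀ : (S : Subgroup G)) : G) from rfl, eq_inv_of_mul_eq_one_left he]
      exact inv_mem hR'
    exact Invol.ne_one_of_orderOf_two hz2 (hbot z zQ.2 this)
  have hv2 : vG * vG = 1 := by
    have h : v * v = 1 := by
      rw [hv, ← Finset.prod_mul_distrib]
      refine Finset.prod_eq_one fun w hw => ?_
      obtain ⟨a, rfl⟩ := (Finset.mem_filter.1 hw).2
      rw [← map_mul, show z₀ * z₀ = 1 from Subtype.ext (Subtype.ext hzz), map_one]
    exact congrArg (fun t : (Subgroup.center (S : Subgroup G)) => ((t : (S : Subgroup G)) : G)) h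
  have hvo : orderOf vG = 2 := orderOf_eq_prime (by rw [pow_two, hv2]) hvne
  have hvfix : ∀ a : N, ψ a v = v := by
    intro a
    rw [hv, map_prod]
    refine Finset.prod_bij (fun w _ => ψ a w) ?_ ?_ ?_ ?_
    · intro w hw
      obtain ⟨b, rfl⟩ := (Finset.mem_filter.1 hw).2
      refine Finset.mem_filter.2 ⟨Finset.mem_univ _, a * b, Subtype.ext (Subtype.ext ?_)⟩
      rw [hψ, hψ, hψ, Subgroup.coe_mul]; group
    · intro w₁ _ w₂ _ h; exact (ψ a).injective h
    · intro w hw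
      obtain ⟨b, rfl⟩ := (Finset.mem_filter.1 hw).2
      refine ⟨ψ (a⁻¹ * b) z₀, Finset.mem_filter.2 ⟨Finset.mem_univ _, _, rfl⟩, Subtype.ext (Subtype.ext ?_)⟩
      rw [hψ, hψ, hψ, Subgroup.coe_mul, Subgroup.coe_inv]; group
    · intro w _; rfl
  have hvcen : ∀ y ∈ (S : Subgroup G), Commute y vG := fun y hy =>
    congrArg Subtype.val (Subgroup.mem_center_iff.1 v.2 ⟨y, hy⟩)
  have hiso : ∀ g : G, g * vG * g⁻¹ ∈ S → g * vG * g⁻¹ = vG := by
    intro g hg
    have hg2 : g * vG * g⁻¹ * (g * vG * g⁻¹) = 1 := by rw [conj_mul, hv2]; group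
    obtain ⟨b, hb, he⟩ := Transfer.exists_normalizer_conj_elem S (x := vG) (g := g) hvcen
      (fun y hy => hinvcen _ hg hg2 y hy)
    rw [← he]
    exact (hψ ⟨b, hb⟩ v).symm.trans (congrArg (fun t : (Subgroup.center (S : Subgroup G)) => ((t : (S : Subgroup G)) : G)) (hvfix ⟨b, hb⟩))
  obtain ⟨M, hM, hodd, hmem⟩ :=
    ZStar.exists_odd_normal (ZStar.isIsolated_of_sylow (P := S) (v : (S : Subgroup G)).2 hvo hiso)
  have hMbot : M = ⊥ := (hsimple.eq_bot_or_eq_top_of_normal M hM).resolve_right fun h => by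
    rw [h, Subgroup.card_top] at hodd
    exact (Nat.not_even_iff_odd.2 hodd) (even_iff_two_dvd.2 (hvo ▸ orderOf_dvd_natCard vG))
  have hcen : vG ∈ Subgroup.center G := Subgroup.mem_center_iff.2 fun g => by
    have h1 := hmem g
    rw [hMbot, Subgroup.mem_bot, mul_inv_eq_one, mul_inv_eq_iff_eq_mul] at h1
    exact h1.symm
  have hCtop : Subgroup.center G = ⊤ :=
    (hsimple.eq_bot_or_eq_top_of_normal _ inferInstance).resolve_left fun h =>
      hvne (Subgroup.mem_bot.1 (h ▸ hcen))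
  have hab : ∀ g h : G, g * h = h * g := fun g h =>
    Subgroup.mem_center_iff.1 (hCtop.symm ▸ Subgroup.mem_top h) g
  have hz1 : z = 1 := by
    show (aQ : G) * xQ * (aQ : G)⁻¹ * (xQ : G)⁻¹ = 1
    rw [hab (aQ : G) xQ]; group
  exact Invol.ne_one_of_orderOf_two hz2 hz1

end Cfsg.Agent.S3269
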