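import Cfsg.Statements.S3272
import Cfsg.Agent.Lib.Transfer.NoEightSmall
import Cfsg.Agent.Lib.Transfer.NoEight.Rank
import Cfsg.Agent.Lib.Transfer.NoEight.Parity
import Cfsg.Agent.Lib.Transfer.NoEight.CaseB
import Cfsg.Agent.S0205

set_option autoImplicit false
open Cfsg

namespace Cfsg.Agent.S3272

/-- Let G be a non-abelian finite simple group with a Sylow 2-subgroup T that has no normal elementary abelian subgroup of order 8, and suppose that for every involution t of T whose centralizer in T has index at most 2 in T, the centralizer C_G(t) is 2-constrained. Then G is isomorphic to PSL(2, q) for some q, to the alternating group of degree 7, to PSL(3, 3), PSU(3, 3) or PSU(3, 4), or G is simple of the order of the smallest Mathieu group or of the second or third Janko group. -/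
theorem result {G : Type*} [Group G] [Finite G] [IsSimpleGroup G] (hG : ¬ IsMulCommutative G)
    (T : Sylow 2 G)
    (hT : ∀ E : Subgroup G, E ≤ (T : Subgroup G) → Cfsg.IsElementaryAbelian 2 E → Nat.card ↥E = 8 →
      ¬ (E.subgroupOf (T : Subgroup G)).Normal)
    (hC : ∀ t ∈ (T : Subgroup G), orderOf t = 2 →
      (Subgroup.centralizer ({t} : Set G) ⊓ (T : Subgroup G)).relIndex (T : Subgroup G) ≤ 2 →
        Cfsg.IsPConstrained 2 ↥(Subgroup.centralizer ({t} : Set G))) :
    (∃ (F : Type) (_ : Field F) (_ : Fintype F), Nonempty (G ≃* Matrix.ProjectiveSpecialLinearGroup (Fin 2) F)) ∨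
      Nonempty (G ≃* ↥(alternatingGroup (Fin 7))) ∨ Cfsg.IsM11 G ∨
      (∃ (F : Type) (_ : Field F) (_ : Fintype F), Fintype.card F = 3 ∧ Nonempty (G ≃* Matrix.ProjectiveSpecialLinearGroup (Fin 3) F)) ∨
      (∃ (F : Type) (_ : Field F) (_ : Fintype F), Fintype.card F = 9 ∧ Nonempty (G ≃* Cfsg.PSU 3 F 3)) ∨
      (∃ (F : Type) (_ : Field F) (_ : Fintype F), Fintype.card F = 16 ∧ Nonempty (G ≃* Cfsg.PSU 3 F 4)) ∨
      Cfsg.IsJ2 G ∨ Cfsg.IsJ3 G := by
  haveI : Fact (Nat.Prime 2) := ⟨Nat.prime_two⟩
  by_cases h2 : Cfsg.PRankLE 2 2 G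
  · -- rank two: a central involution of `T` has a constrained centraliser
    have hT1 : (T : Subgroup G) ≠ ⊥ := fun e => by
      have hodd : Odd (Nat.card G) := by
        have h := T.not_dvd_index
        rw [e, Subgroup.index_bot] at h
        exact Nat.not_even_iff_odd.1 fun he => h he.two_dvd
      haveI : Group.IsSolvable G := S0205.result hodd
      exact hG ⟨⟨IsSimpleGroup.comm_iff_isSolvable.2 inferInstance⟩⟩
    haveI : Nontrivial (T : Subgroup G) := (Subgroup.nontrivial_iff_ne_bot _).2 hT1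
    haveI := T.isPGroup'.center_nontrivial
    obtain ⟨⟨w, hwc⟩, hw⟩ := exists_prime_orderOf_dvd_card' (G := Subgroup.center (T : Subgroup G)) 2 (by
      obtain ⟨k, hk⟩ := IsPGroup.iff_card.1 (T.isPGroup'.to_subgroup (Subgroup.center (T : Subgroup G)))
      rw [hk]
      refine dvd_pow_self 2 fun e => ?_
      rw [e, pow_zero] at hk
      exact absurd hk (Finite.one_lt_card (α := Subgroup.center (T : Subgroup G))).ne')
    rw [Subgroup.orderOf_mk, ← Subgroup.orderOf_coe] at hw
    have hle : (T : Subgroup G) ≤ Subgroup.centralizer ({(w : G)} : Set G) := fun g hg =>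
      Subgroup.mem_centralizer_singleton_iff.2
        (congrArg Subtype.val (Subgroup.mem_center_iff.1 hwc ⟨g, hg⟩))
    have hCw := hC w w.2 hw (by rw [inf_eq_right.2 hle, Subgroup.relIndex_self]; omega)
    rcases Transfer.NoEightSmall.rank_two hG h2 T w.2 hw hCw with h | h | h | h | h | h
    exacts [Or.inl h, Or.inr (Or.inl h), Or.inr (Or.inr (Or.inl h)), Or.inr (Or.inr (Or.inr (Or.inl h))),
      Or.inr (Or.inr (Or.inr (Or.inr (Or.inl h)))), Or.inr (Or.inr (Or.inr (Or.inr (Or.inr (Or.inl h)))))]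
  · obtain ⟨F, hFT, hFe, hF8⟩ := Transfer.NoEight.exists_eight h2 T
    obtain ⟨U, z, hU⟩ := CoreConsumers.Disc.exists_fourIn T hFT hFe hF8
    obtain ⟨u, huU, hu1, huz⟩ := hU.exists_ne
    let c : Transfer.NoEight.Hyp G :=
      { T := T, U := U, z := z, u := u, four := hU, uU := huU, u1 := hu1, uz := huz, simple := inferInstance,
        nonab := hG, noEight := hT, rank3 := ⟨F, hFT, hFe, hF8⟩, cons := hC }
    have hJ : Cfsg.IsJ2 G ∨ Cfsg.IsJ3 G := by
      rcases c.janko_or_conn with h | h
      · exact h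
      by_cases hA : c.CaseA
      · exact hA.absurd_caseA.elim
      · exact (c.caseB_false h hA).elim
    exact Or.inr (Or.inr (Or.inr (Or.inr (Or.inr (Or.inr hJ)))))

end Cfsg.Agent.S3272
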