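import Cfsg.Statements.S3276
import Mathlib
-- import your own Cfsg.Agent.* helpers here

set_option autoImplicit false
open Cfsg

namespace Cfsg.Agent.S3276

/-- Let x and y be commuting, non-conjugate involutions of a finite group G, and suppose that for every involution u commuting with x, each conjugate of y that commutes with u also commutes with y. Then the normal closure of y is a proper, normal, elementary abelian 2-subgroup of G; and if y is the only involution of that normal closure commuting with x, it has order at most 4. -/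
theorem result {G : Type*} [Group G] [Finite G] (x y : G) (hx : orderOf x = 2) (hy : orderOf y = 2)
    (hxy : Commute x y) (hnc : ¬ IsConj x y)
    (hstar : ∀ u : G, orderOf u = 2 → Commute u x → ∀ g : G, Commute (g * y * g⁻¹) u → Commute (g * y * g⁻¹) y) :
    Subgroup.normalClosure ({y} : Set G) ≠ ⊤ ∧ Cfsg.IsElementaryAbelian 2 (Subgroup.normalClosure ({y} : Set G)) ∧
      ((∀ u ∈ Subgroup.normalClosure ({y} : Set G), orderOf u = 2 → Commute u x → u = y) →
        Nat.card ↥(Subgroup.normalClosure ({y} : Set G)) ≤ 4) := by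
  have hx2 : x * x = 1 := by rw [← pow_two, ← hx]; exact pow_orderOf_eq_one x
  have hy2 : y * y = 1 := by rw [← pow_two, ← hy]; exact pow_orderOf_eq_one y
  have key : ∀ g : G, Commute (g * y * g⁻¹) y := by
    intro g
    set w := g * y * g⁻¹ with hw
    have hw2 : w * w = 1 := by rw [hw, show g * y * g⁻¹ * (g * y * g⁻¹) = g * (y * y) * g⁻¹ by group, hy2]; group
    have hxi : x⁻¹ = x := inv_eq_of_mul_eq_one_right hx2
    have hwi : w⁻¹ = w := inv_eq_of_mul_eq_one_right hw2
    set d := x * w with hd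
    have hdinv : x * d * x⁻¹ = d⁻¹ := by
      rw [hd, mul_inv_rev, hwi, hxi, show x * (x * w) * x = (x * x) * w * x by group, hx2, one_mul]
    have hdinv' : ∀ n : ℕ, x * d ^ n * x⁻¹ = (d ^ n)⁻¹ := by
      intro n; rw [← conj_pow, hdinv, inv_pow]
    rcases Nat.even_or_odd (orderOf d) with he | ho
    · obtain ⟨m, hm⟩ := he
      have hpos := orderOf_pos d
      have hz : orderOf (d ^ m) = 2 := by
        rw [orderOf_pow' _ (by omega), hm, show m + m = 2 * m by ring, Nat.gcd_mul_left_left,
          Nat.mul_div_cancel _ (by omega)]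
      have hzz : d ^ m * d ^ m = 1 := by rw [← pow_add, ← hm]; exact pow_orderOf_eq_one d
      have hzx : Commute (d ^ m) x := by
        have h1 := hdinv' m
        rw [inv_eq_of_mul_eq_one_right hzz, mul_inv_eq_iff_eq_mul] at h1
        exact h1.symm
      refine hstar (d ^ m) hz hzx g ?_
      have h2 : Commute (x * d) (d ^ m) := (hzx.symm).mul_left ((Commute.refl d).pow_right m)
      rwa [hd, ← mul_assoc, hx2, one_mul] at h2
    · exfalso
      obtain ⟨k, hk⟩ := ho
      refine hnc (isConj_iff.mpr ⟨g⁻¹ * d ^ k, ?_⟩)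
      have h1 : d ^ (k + k) * d = 1 := by
        rw [← pow_succ, show k + k + 1 = orderOf d by omega]; exact pow_orderOf_eq_one d
      have h2 : x * (d ^ k)⁻¹ = d ^ k * x := by
        rw [← hdinv' k, hxi]
        calc x * (x * d ^ k * x) = (x * x) * d ^ k * x := by group
          _ = _ := by rw [hx2, one_mul]
      have h3 : d ^ (k + k) * x = w := by
        calc d ^ (k + k) * x = d ^ (k + k) * d * (d⁻¹ * x) := by group
          _ = w⁻¹ * x⁻¹ * x := by rw [h1, one_mul, hd, mul_inv_rev]
          _ = w := by rw [inv_mul_cancel_right, hwi]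
      calc g⁻¹ * d ^ k * x * (g⁻¹ * d ^ k)⁻¹ = g⁻¹ * (d ^ k * (x * (d ^ k)⁻¹)) * g := by group
        _ = g⁻¹ * w * g := by rw [h2, ← mul_assoc (d ^ k), ← pow_add, h3]
        _ = y := by rw [hw]; group
  set N := Subgroup.normalClosure ({y} : Set G) with hN
  have hNab : ∀ a ∈ N, ∀ b ∈ N, a * b = b * a := by
    have hc : IsMulCommutative N := by
      rw [hN, Subgroup.normalClosure]
      refine Subgroup.isMulCommutative_closure ?_
      intro a ha b hb
      obtain ⟨c, hc, hca⟩ := Group.mem_conjugatesOfSet_iff.mp ha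
      obtain ⟨e, he, heb⟩ := Group.mem_conjugatesOfSet_iff.mp hb
      rw [Set.mem_singleton_iff] at hc he
      subst hc he
      obtain ⟨g, rfl⟩ := isConj_iff.mp hca
      obtain ⟨h, rfl⟩ := isConj_iff.mp heb
      have := key (h⁻¹ * g)
      calc g * e * g⁻¹ * (h * e * h⁻¹) = h * (h⁻¹ * g * e * (h⁻¹ * g)⁻¹ * e) * h⁻¹ := by group
        _ = h * (e * (h⁻¹ * g * e * (h⁻¹ * g)⁻¹)) * h⁻¹ := by rw [this.eq]
        _ = _ := by group
    intro a ha b hb
    exact congrArg Subtype.val (hc.is_comm.comm (⟨a, ha⟩ : N) ⟨b, hb⟩)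
  have hN2 : ∀ a ∈ N, a ^ 2 = 1 := by
    intro a ha
    rw [hN, Subgroup.normalClosure] at ha
    induction ha using Subgroup.closure_induction with
    | mem c hc =>
      obtain ⟨e, he, hec⟩ := Group.mem_conjugatesOfSet_iff.mp hc
      rw [Set.mem_singleton_iff] at he
      subst he
      obtain ⟨g, rfl⟩ := isConj_iff.mp hec
      rw [conj_pow, pow_two, hy2]; group
    | one => exact one_pow 2
    | mul a b ha hb iha ihb =>
      rw [Commute.mul_pow (hNab a ha b hb), iha, ihb, one_mul]
    | inv a _ iha => rw [inv_pow, iha, inv_one]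
  refine ⟨?_, ⟨⟨⟨fun a b => Subtype.ext (hNab a a.2 b b.2)⟩⟩, fun a ha => hN2 a ha⟩, fun honly => ?_⟩
  · intro htop
    haveI : (Subgroup.zpowers y).Normal := ⟨fun a ha g => by
      have := hNab a (htop ▸ Subgroup.mem_top a) g (htop ▸ Subgroup.mem_top g)
      rwa [← this, mul_inv_cancel_right]⟩
    have hn : Subgroup.normalClosure ({y} : Set G) ≤ Subgroup.zpowers y :=
      Subgroup.normalClosure_le_normal (by rintro z rfl; exact Subgroup.mem_zpowers _)
    obtain ⟨i, hi⟩ := Subgroup.mem_zpowers_iff.mp (hn (htop ▸ Subgroup.mem_top x))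
    rcases Int.even_or_odd i with ⟨j, rfl⟩ | ⟨j, rfl⟩
    · rw [← two_mul, zpow_mul, zpow_two, hy2, one_zpow] at hi
      rw [← hi, orderOf_one] at hx; exact absurd hx (by decide)
    · rw [zpow_add, zpow_mul, zpow_two, hy2, one_zpow, one_mul, zpow_one] at hi
      exact hnc (hi ▸ IsConj.refl y)
  · have hNn : N.Normal := Subgroup.normalClosure_normal
    let φ : N →* N :=
      { toFun := fun a => a * ⟨x * a * x⁻¹, hNn.conj_mem a a.2 x⟩
        map_one' := by ext; simp
        map_mul' := fun a b => by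
          ext
          show (a : G) * b * (x * (a * b) * x⁻¹) = a * (x * a * x⁻¹) * (b * (x * b * x⁻¹))
          have hc := hNab (b : G) b.2 (x * a * x⁻¹) (hNn.conj_mem a a.2 x)
          calc (a : G) * b * (x * (a * b) * x⁻¹) = a * (b * (x * a * x⁻¹)) * (x * b * x⁻¹) := by group
            _ = a * ((x * a * x⁻¹) * b) * (x * b * x⁻¹) := by rw [hc]
            _ = _ := by group }
    have hC : ∀ a : N, Commute (a : G) x → a ∈ ({1, ⟨y, Subgroup.subset_normalClosure rfl⟩} : Set N) := by
      intro a ha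
      by_cases h1 : a = 1
      · exact Or.inl h1
      · refine Or.inr (Subtype.ext (honly a a.2 ?_ ha))
        exact orderOf_eq_prime (hN2 a a.2) (fun e => h1 (Subtype.ext e))
    have hker : ∀ a ∈ φ.ker, a ∈ ({1, ⟨y, Subgroup.subset_normalClosure rfl⟩} : Set N) := by
      intro a ha
      refine hC a ?_
      have h1 : (a : G) * (x * a * x⁻¹) = 1 := congrArg Subtype.val (MonoidHom.mem_ker.mp ha)
      have h2 : x * a * x⁻¹ = (a : G) := by
        have h3 : (a : G)⁻¹ = a := inv_eq_of_mul_eq_one_right (by rw [← pow_two]; exact hN2 a a.2)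
        exact (eq_inv_of_mul_eq_one_right h1).trans h3
      exact (mul_inv_eq_iff_eq_mul.mp h2).symm
    have hran : ∀ a ∈ φ.range, a ∈ ({1, ⟨y, Subgroup.subset_normalClosure rfl⟩} : Set N) := by
      rintro _ ⟨a, rfl⟩
      refine hC _ ?_
      have hxi : x⁻¹ = x := inv_eq_of_mul_eq_one_right hx2
      show (a : G) * (x * a * x⁻¹) * x = x * (a * (x * a * x⁻¹))
      have hc := hNab (a : G) a.2 (x * a * x⁻¹) (hNn.conj_mem a a.2 x)
      calc (a : G) * (x * a * x⁻¹) * x = (x * x) * (a * (x * a)) := by rw [hx2, one_mul]; group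
        _ = x * (x * a * x⁻¹ * a) := by rw [hxi]; group
        _ = _ := by rw [← hc]
    have hb : ∀ K : Subgroup N, (∀ a ∈ K, a ∈ ({1, ⟨y, Subgroup.subset_normalClosure rfl⟩} : Set N)) → Nat.card K ≤ 2 := by
      intro K hK
      calc Nat.card K ≤ Nat.card ({1, ⟨y, Subgroup.subset_normalClosure rfl⟩} : Set N) :=
            Nat.card_mono (Set.toFinite _) hK
        _ ≤ 2 := by rw [Nat.card_coe_set_eq]; exact (Set.ncard_insert_le _ _).trans (by simp)
    rw [← Subgroup.index_mul_card φ.ker, Subgroup.index_ker]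
    exact Nat.mul_le_mul (hb _ hran) (hb _ hker)

end Cfsg.Agent.S3276
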