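import Cfsg.Statements.S3279
import Mathlib
import Cfsg.Agent.Lib.Invol.Basic
import Cfsg.Agent.S0215
-- import your own Cfsg.Agent.* helpers here

set_option autoImplicit false
open Cfsg

namespace Cfsg.Agent.S3279

open Cfsg.Agent in
theorem conj_or_central {G : Type*} [Group G] [Finite G] {x y : G} (hx : orderOf x = 2)
    (hy : orderOf y = 2) :
    IsConj x y ∨ ∃ c : G, orderOf c = 2 ∧ Commute c x ∧ Commute c y := by
  set a := x * y with ha
  rcases Nat.even_or_odd (orderOf a) with ⟨m, hm⟩ | ⟨m, hm⟩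
  · right
    have hpos := orderOf_pos a
    have hc : orderOf (a ^ m) = 2 := by
      rw [orderOf_pow' a (by omega), hm, ← two_mul, Nat.gcd_mul_left_left, Nat.mul_div_cancel _ (by omega)]
    have h1 : x * a ^ m * x⁻¹ = a ^ m := by
      rw [← conj_pow, Invol.conj_mul_eq_inv hx hy, inv_pow, Invol.inv_of_orderOf_two hc]
    have hcx : Commute (a ^ m) x := (mul_inv_eq_iff_eq_mul.1 h1).symm
    refine ⟨_, hc, hcx, ?_⟩
    rw [Invol.y_eq hx (y := y), ← ha]
    exact hcx.mul_right ((Commute.refl a).pow_left m)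
  · left
    refine isConj_iff.2 ⟨a ^ (m : ℤ), ?_⟩
    have h1 : x * a ^ (m : ℤ) = a ^ (-(m : ℤ)) * x := Invol.mul_zpow_comm hx hy m
    have h2 : a ^ (m : ℤ) * x * (a ^ (m : ℤ))⁻¹ = a ^ (2 * (m : ℤ)) * x := by
      rw [← zpow_neg, mul_assoc, Invol.mul_zpow_comm hx hy, neg_neg, ← mul_assoc, ← zpow_add, two_mul]
    rw [h2, show (2 * (m : ℤ)) = (orderOf a : ℤ) + (-1) by rw [hm]; push_cast; ring, zpow_add,
      zpow_natCast, pow_orderOf_eq_one, one_mul, ← Invol.y_eq' hx hy]

open Cfsg.Agent in
theorem three_eq {G : Type*} [Group G] [Finite G] {x : G}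
    (h3 : Nat.card {u : ↥(Subgroup.centralizer ({x} : Set G)) // orderOf u = 2} ≤ 3)
    {a b c d : G} (hab : a ≠ b) (hac : a ≠ c) (hbc : b ≠ c)
    (ha : orderOf a = 2) (hb : orderOf b = 2) (hc : orderOf c = 2) (hd : orderOf d = 2)
    (ha' : Commute a x) (hb' : Commute b x) (hc' : Commute c x) (hd' : Commute d x) :
    d = a ∨ d = b ∨ d = c := by
  classical
  by_contra hne
  push Not at hne
  haveI := Fintype.ofFinite G
  let S : Finset G := {a, b, c, d}
  have hS : S.card = 4 := by
    rw [Finset.card_insert_of_notMem, Finset.card_insert_of_notMem, Finset.card_insert_of_notMem,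
      Finset.card_singleton] <;> simp [hab, hac, hbc, hne.1.symm, hne.2.1.symm, hne.2.2.symm]
  have hmem : ∀ u ∈ S, orderOf u = 2 ∧ u ∈ Subgroup.centralizer ({x} : Set G) := fun u hu => by
    simp only [S, Finset.mem_insert, Finset.mem_singleton] at hu
    rcases hu with rfl | rfl | rfl | rfl <;>
      exact ⟨by assumption, Subgroup.mem_centralizer_singleton_iff.2 (Commute.eq (by assumption))⟩
  have h4 : 4 ≤ Nat.card {u : ↥(Subgroup.centralizer ({x} : Set G)) // orderOf u = 2} := by
    rw [← hS, ← Fintype.card_coe, ← Nat.card_eq_fintype_card]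
    exact Nat.card_le_card_of_injective
      (fun u : S => (⟨⟨u.1, (hmem u.1 u.2).2⟩, by rw [← Subgroup.orderOf_coe]; exact (hmem u.1 u.2).1⟩ :
        {u : ↥(Subgroup.centralizer ({x} : Set G)) // orderOf u = 2}))
      fun u v h => Subtype.ext (congrArg (fun t : {u : ↥(Subgroup.centralizer ({x} : Set G)) // orderOf u = 2} => ((t.1 : _) : G)) h)
  omega

/-- Let G be a finite simple group and x an involution of G whose centralizer contains at most three involutions. Then C_G(x) contains a Sylow 2-subgroup of G, and all involutions of G are conjugate. -/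
theorem result {G : Type*} [Group G] [Finite G] [IsSimpleGroup G] (x : G) (hx : orderOf x = 2)
    (h3 : Nat.card {u : ↥(Subgroup.centralizer ({x} : Set G)) // orderOf u = 2} ≤ 3) :
    (∃ S : Sylow 2 G, (S : Subgroup G) ≤ Subgroup.centralizer ({x} : Set G)) ∧
      ∀ u v : G, orderOf u = 2 → orderOf v = 2 → IsConj u v := by
  classical
  haveI : Fact (Nat.Prime 2) := ⟨Nat.prime_two⟩
  have hxx : x * x = 1 := Cfsg.Agent.Invol.mul_self_of_orderOf_two hx
  by_cases hxZ : x ∈ Subgroup.center G
  · -- the group has order two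
    have htop : Subgroup.zpowers x = ⊤ := by
      haveI : (Subgroup.zpowers x).Normal := ⟨fun n hn g => by
        obtain ⟨i, rfl⟩ := Subgroup.mem_zpowers_iff.1 hn
        rw [Subgroup.mem_center_iff.1 (zpow_mem hxZ i) g, mul_inv_cancel_right]
        exact Subgroup.zpow_mem_zpowers x i⟩
      refine (Subgroup.Normal.eq_bot_or_eq_top ‹(Subgroup.zpowers x).Normal›).resolve_left fun h => ?_
      exact Cfsg.Agent.Invol.ne_one_of_orderOf_two hx (Subgroup.zpowers_eq_bot.1 h)
    have hall : ∀ u : G, orderOf u = 2 → u = x := fun u hu => by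
      obtain ⟨i, rfl⟩ := Subgroup.mem_zpowers_iff.1 (htop ▸ Subgroup.mem_top u)
      rcases Int.even_or_odd i with ⟨l, rfl⟩ | ⟨l, rfl⟩
      · rw [← two_mul, zpow_mul, zpow_two, hxx, one_zpow, orderOf_one] at hu
        norm_num at hu
      · rw [zpow_add, zpow_mul, zpow_two, hxx, one_zpow, one_mul, zpow_one]
    exact ⟨⟨default, fun g _ => Subgroup.mem_centralizer_singleton_iff.2
      (Subgroup.mem_center_iff.1 hxZ g)⟩, fun u v hu hv => by rw [hall u hu, hall v hv]⟩
  obtain ⟨P, hP⟩ := (IsPGroup.of_card (n := 1) (by rw [Nat.card_zpowers, hx, pow_one]) :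
    IsPGroup 2 (Subgroup.zpowers x)).exists_le_sylow
  have hxP : x ∈ P := hP (Subgroup.mem_zpowers x)
  have key : ∃ S : Sylow 2 G, (S : Subgroup G) ≤ Subgroup.centralizer ({x} : Set G) := by
    by_cases hcase : (P : Subgroup G) ≤ Subgroup.centralizer ({x} : Set G)
    · exact ⟨P, hcase⟩
    -- a central involution of `P`
    haveI hPn : Group.IsNilpotent (P : Subgroup G) := P.2.isNilpotent
    haveI : Nontrivial (P : Subgroup G) := ⟨⟨⟨x, hxP⟩, 1, fun h =>
      Cfsg.Agent.Invol.ne_one_of_orderOf_two hx (congrArg Subtype.val h)⟩⟩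
    haveI := P.2.center_nontrivial
    obtain ⟨⟨⟨z, hzP⟩, hzc⟩, hz⟩ := exists_prime_orderOf_dvd_card' (G := Subgroup.center (P : Subgroup G)) 2 (by
      obtain ⟨k, hk⟩ := IsPGroup.iff_card.1 (P.2.to_subgroup (Subgroup.center (P : Subgroup G)))
      have h1 : 1 < Nat.card (Subgroup.center (P : Subgroup G)) := Finite.one_lt_card
      rcases Nat.eq_zero_or_pos k with rfl | hk0
      · rw [hk, pow_zero] at h1; omega
      · exact hk ▸ dvd_pow_self 2 hk0.ne')
    rw [← Subgroup.orderOf_coe, ← Subgroup.orderOf_coe] at hz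
    have hz : orderOf z = 2 := hz
    have hzall : ∀ g ∈ P, Commute g z := fun g hg =>
      congrArg Subtype.val (Subgroup.mem_center_iff.1 hzc ⟨g, hg⟩)
    have hxz : x ≠ z := fun h => hcase fun g hg =>
      Subgroup.mem_centralizer_singleton_iff.2 (h ▸ hzall g hg).eq
    have hxzc : Commute x z := hzall x hxP
    have hy : orderOf (x * z) = 2 := orderOf_eq_prime
      (by rw [hxzc.mul_pow, pow_two, pow_two, hxx, Cfsg.Agent.Invol.mul_self_of_orderOf_two hz, one_mul])
      (Cfsg.Agent.Invol.mul_ne_one_of_ne hx hxz)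
    have hxy : x ≠ x * z := fun h => Cfsg.Agent.Invol.ne_one_of_orderOf_two hz (mul_eq_left.1 h.symm)
    have hzy : z ≠ x * z := fun h => Cfsg.Agent.Invol.ne_one_of_orderOf_two hx (mul_eq_right.1 h.symm)
    have hthree : ∀ d, orderOf d = 2 → Commute d x → d = x ∨ d = z ∨ d = x * z := fun d hd hdx =>
      three_eq h3 hxz hxy hzy hx hz hy hd (Commute.refl x) hxzc.symm ((Commute.refl x).mul_left hxzc.symm) hdx
    -- `x` is conjugate to `x * z`
    set Q := (Subgroup.centralizer ({x} : Set G)).subgroupOf (P : Subgroup G) with hQ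
    obtain ⟨g, hgN, hgQ⟩ := SetLike.exists_of_lt (Group.normalizerCondition_of_isNilpotent Q
      (lt_top_iff_ne_top.2 fun h => hcase (Subgroup.subgroupOf_eq_top.1 h)))
    have hg1 : ((g : G) * x * (g : G)⁻¹) = x * z := by
      have hxQ : (⟨x, hxP⟩ : (P : Subgroup G)) ∈ Q :=
        Subgroup.mem_subgroupOf.2 (Subgroup.mem_centralizer_singleton_iff.2 rfl)
      have h1 : g * ⟨x, hxP⟩ * g⁻¹ ∈ Q := (Subgroup.mem_normalizer_iff.1 hgN _).1 hxQ
      have h2 : Commute ((g : G) * x * (g : G)⁻¹) x :=
        Subgroup.mem_centralizer_singleton_iff.1 (Subgroup.mem_subgroupOf.1 h1)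
      rcases hthree _ (by rw [Cfsg.Agent.Invol.orderOf_conj_eq, hx]) h2 with h | h | h
      · exact absurd (Subgroup.mem_subgroupOf.2 (Subgroup.mem_centralizer_singleton_iff.2
          (mul_inv_eq_iff_eq_mul.1 h))) hgQ
      · refine absurd ?_ hxz
        have hgz := (hzall g g.2).eq
        exact mul_left_cancel ((mul_inv_eq_iff_eq_mul.1 h).trans hgz.symm)
      · exact h
    by_cases hconj : IsConj z x
    · obtain ⟨h, hh⟩ := isConj_iff.1 hconj
      refine ⟨h • P, fun u hu => ?_⟩
      rw [Sylow.coe_subgroup_smul, Subgroup.mem_pointwise_smul_iff_inv_smul_mem] at hu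
      simp only [MulAut.smul_def, MulAut.conj_inv_apply] at hu
      rw [Subgroup.mem_centralizer_singleton_iff, ← hh]
      have h1 := (hzall _ hu).eq
      calc u * (h * z * h⁻¹) = h * ((h⁻¹ * u * h) * z) * h⁻¹ := by group
        _ = h * (z * (h⁻¹ * u * h)) * h⁻¹ := by rw [h1]
        _ = h * z * h⁻¹ * u := by group
    -- otherwise all conjugates of `z` commute with `z`
    exfalso
    have hall : ∀ k : G, Commute (k * z * k⁻¹) z := fun k => by
      set d := k * z * k⁻¹ with hd
      have hdo : orderOf d = 2 := by rw [hd, Cfsg.Agent.Invol.orderOf_conj_eq, hz]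
      have hdz : IsConj z d := isConj_iff.2 ⟨k, rfl⟩
      have hcxy : IsConj x (x * z) := isConj_iff.2 ⟨g, hg1⟩
      have hne1 : d ≠ x := fun h => hconj (h ▸ hdz)
      have hne2 : d ≠ x * z := fun h => hconj ((h ▸ hdz).trans hcxy.symm)
      obtain ⟨c, hc, hcx, hcd⟩ := (conj_or_central hx hdo).resolve_left fun h =>
        hconj (hdz.trans h.symm)
      have hdx : Commute d x → Commute d z := fun h => by
        rcases hthree d hdo h with h' | h' | h'
        · exact absurd h' hne1
        · rw [h']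
        · exact absurd h' hne2
      rcases hthree c hc hcx with rfl | rfl | rfl
      · exact hdx hcd.symm
      · exact hcd.symm
      · -- transport by `g`
        have h1 : Commute ((g : G)⁻¹ * d * g) x := by
          have h0 : (g : G)⁻¹ * (x * z) * g = x := by rw [← hg1]; group
          show (g : G)⁻¹ * d * g * x = x * ((g : G)⁻¹ * d * g)
          calc (g : G)⁻¹ * d * g * x = (g : G)⁻¹ * d * g * ((g : G)⁻¹ * (x * z) * g) := by rw [h0]
            _ = (g : G)⁻¹ * (d * (x * z)) * g := by group
            _ = (g : G)⁻¹ * ((x * z) * d) * g := by rw [hcd.eq]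
            _ = ((g : G)⁻¹ * (x * z) * g) * ((g : G)⁻¹ * d * g) := by group
            _ = _ := by rw [h0]
        have hd' : orderOf ((g : G)⁻¹ * d * g) = 2 := by
          have := Cfsg.Agent.Invol.orderOf_conj_eq (g : G)⁻¹ d
          rw [inv_inv] at this
          rw [this, hdo]
        rcases hthree _ hd' h1 with h' | h' | h'
        · refine absurd ?_ hne2
          rw [← hg1]; nth_rewrite 1 [← h']; group
        · have hgz := (hzall g g.2).eq
          have h2 : d = z := by
            have h4 : (g : G)⁻¹ * d * g = (g : G)⁻¹ * z * g := by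
              rw [h', mul_assoc, ← hgz, inv_mul_cancel_left]
            exact mul_left_cancel (mul_right_cancel h4)
          rw [h2]
        · exact absurd ((hdz.trans (isConj_iff.2 ⟨(g : G)⁻¹, by rw [inv_inv]; exact h'⟩ :
            IsConj d (x * z))).trans hcxy.symm) hconj
    have hN : ∀ u ∈ Subgroup.normalClosure {z}, Commute u z := fun u hu => by
      have : Subgroup.normalClosure {z} ≤ Subgroup.centralizer {z} := by
        refine (Subgroup.closure_le _).2 fun w hw => ?_
        obtain ⟨z', hz', hwz⟩ := Group.mem_conjugatesOfSet_iff.1 hw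
        rw [Set.mem_singleton_iff] at hz'
        subst hz'
        obtain ⟨k, rfl⟩ := isConj_iff.1 hwz
        exact Subgroup.mem_centralizer_singleton_iff.2 (hall k).eq
      exact Subgroup.mem_centralizer_singleton_iff.1 (this hu)
    have htop : Subgroup.normalClosure {z} = ⊤ :=
      (Subgroup.Normal.eq_bot_or_eq_top inferInstance).resolve_left fun h => by
        have := Subgroup.subset_normalClosure (s := {z}) rfl
        rw [h] at this
        exact Cfsg.Agent.Invol.ne_one_of_orderOf_two hz (Subgroup.mem_bot.1 this)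
    have hzc' : z ∈ Subgroup.center G := Subgroup.mem_center_iff.2 fun u => (hN u (htop ▸ Subgroup.mem_top u)).eq
    have hZ : Subgroup.center G = ⊤ := (Subgroup.Normal.eq_bot_or_eq_top inferInstance).resolve_left fun h => by
      rw [h] at hzc'
      exact Cfsg.Agent.Invol.ne_one_of_orderOf_two hz (Subgroup.mem_bot.1 hzc')
    exact hxZ (hZ ▸ Subgroup.mem_top x)
  refine ⟨key, fun u v hu hv => ?_⟩
  obtain ⟨S, hS⟩ := key
  have hcomm : ∀ w, w ∈ S → Commute w x := fun w hw => Subgroup.mem_centralizer_singleton_iff.1 (hS hw)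
  have hxS : x ∈ S := by
    by_contra hns
    have hx' : IsPGroup 2 ((S : Subgroup G) ⊔ Subgroup.zpowers x : Subgroup G) := by
      refine IsPGroup.to_sup_of_normal_right' S.2
        (IsPGroup.of_card (n := 1) (by rw [Nat.card_zpowers, hx, pow_one])) ?_
      intro w hw
      refine Subgroup.mem_normalizer_iff.2 fun t => ?_
      have hwz : w ∈ Subgroup.centralizer (Subgroup.zpowers x : Set G) :=
        Subgroup.mem_centralizer_iff.2 fun t ht => by
          obtain ⟨i, rfl⟩ := Subgroup.mem_zpowers_iff.1 ht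
          exact ((hcomm w hw).zpow_right i).eq.symm
      constructor
      · intro ht
        rw [← Subgroup.mem_centralizer_iff.1 hwz t ht, mul_inv_cancel_right]
        exact ht
      · intro ht
        have h1 := Subgroup.mem_centralizer_iff.1 hwz _ ht
        have h2 : w * t * w⁻¹ = t := by
          calc w * t * w⁻¹ = w⁻¹ * (w * (w * t * w⁻¹)) := (inv_mul_cancel_left _ _).symm
            _ = w⁻¹ * ((w * t * w⁻¹) * w) := congrArg (w⁻¹ * ·) h1.symm
            _ = t := by group
        rwa [h2] at ht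
    exact hns ((S.is_maximal' hx' le_sup_left).le (Subgroup.mem_sup_right (Subgroup.mem_zpowers x)))
  -- every involution of `S` is fused to another one
  have hfus : ∀ t, t ∈ S → orderOf t = 2 → ∃ t', t' ∈ S ∧ t' ≠ t ∧ IsConj t t' := fun t htS ht => by
    by_contra hno
    push Not at hno
    obtain ⟨N, hNn, hNo, hNc⟩ := S0215.result S t ht htS fun g hg =>
      by_contra fun hne => hno _ hg hne (isConj_iff.2 ⟨g, rfl⟩)
    rcases hNn.eq_bot_or_eq_top with rfl | rfl
    · have htc : t ∈ Subgroup.center G := Subgroup.mem_center_iff.2 fun g => by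
        have := Subgroup.mem_bot.1 (hNc g)
        rw [mul_inv_eq_one, mul_inv_eq_iff_eq_mul] at this
        exact this.symm
      have hZ : Subgroup.center G = ⊤ := (Subgroup.Normal.eq_bot_or_eq_top inferInstance).resolve_left fun h => by
        rw [h] at htc
        exact Cfsg.Agent.Invol.ne_one_of_orderOf_two ht (Subgroup.mem_bot.1 htc)
      exact hxZ (hZ ▸ Subgroup.mem_top x)
    · rw [Subgroup.card_top] at hNo
      exact Nat.not_even_iff_odd.2 hNo (even_iff_two_dvd.2 (hx ▸ orderOf_dvd_natCard x))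
  obtain ⟨y, hyS, hyx, hxy⟩ := hfus x hxS hx
  have hy : orderOf y = 2 := by rw [← Cfsg.Agent.Invol.orderOf_eq_of_isConj hxy, hx]
  have hyc : Commute x y := (hcomm y hyS).symm
  have hw : orderOf (x * y) = 2 := orderOf_eq_prime
    (by rw [hyc.mul_pow, pow_two, pow_two, hxx, Cfsg.Agent.Invol.mul_self_of_orderOf_two hy, one_mul])
    (Cfsg.Agent.Invol.mul_ne_one_of_ne hx (Ne.symm hyx))
  have hxw : x ≠ x * y := fun h => Cfsg.Agent.Invol.ne_one_of_orderOf_two hy (mul_eq_left.1 h.symm)
  have hyw : y ≠ x * y := fun h => Cfsg.Agent.Invol.ne_one_of_orderOf_two hx (mul_eq_right.1 h.symm)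
  have hclass : ∀ t, t ∈ S → orderOf t = 2 → IsConj x t := fun t htS ht => by
    rcases three_eq h3 (Ne.symm hyx) hxw hyw hx hy hw ht (Commute.refl x) hyc.symm
      ((Commute.refl x).mul_left hyc.symm) (hcomm t htS) with rfl | rfl | rfl
    · exact IsConj.refl _
    · exact hxy
    · obtain ⟨t', ht'S, htne, htt⟩ := hfus _ htS ht
      have ht' : orderOf t' = 2 := by rw [← Cfsg.Agent.Invol.orderOf_eq_of_isConj htt, ht]
      rcases three_eq h3 (Ne.symm hyx) hxw hyw hx hy hw ht' (Commute.refl x) hyc.symm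
        ((Commute.refl x).mul_left hyc.symm) (hcomm t' ht'S) with rfl | rfl | rfl
      · exact htt.symm
      · exact hxy.trans htt.symm
      · exact absurd rfl htne
  have hinto : ∀ w, orderOf w = 2 → IsConj x w := fun w hw' => by
    obtain ⟨P', hP'⟩ := (IsPGroup.of_card (n := 1) (by rw [Nat.card_zpowers, hw', pow_one]) :
      IsPGroup 2 (Subgroup.zpowers w)).exists_le_sylow
    obtain ⟨k, hk⟩ := MulAction.exists_smul_eq G P' S
    have hmem : k * w * k⁻¹ ∈ S := by
      rw [← hk]
      show k * w * k⁻¹ ∈ ((k • P' : Sylow 2 G) : Subgroup G)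
      rw [Sylow.coe_subgroup_smul, Subgroup.mem_pointwise_smul_iff_inv_smul_mem]
      have : (MulAut.conj k)⁻¹ • (k * w * k⁻¹) = w := by
        simp only [MulAut.smul_def, MulAut.conj_inv_apply]; group
      rw [this]
      exact hP' (Subgroup.mem_zpowers w)
    exact (hclass _ hmem (by rw [Cfsg.Agent.Invol.orderOf_conj_eq, hw'])).trans
      (isConj_iff.2 ⟨k, rfl⟩ : IsConj w (k * w * k⁻¹)).symm
  exact (hinto u hu).symm.trans (hinto v hv)

end Cfsg.Agent.S3279
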