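import Cfsg.Statements.S3283
import Cfsg.Agent.Lib.Invol.ExtraEight.Main

set_option autoImplicit false
open Cfsg

namespace Cfsg.Agent.S3283

/-- Let G be a finite group with an involution z whose centralizer M has Q = O₂(M) extraspecial of order 2⁹ with C_M(Q) ≤ Q, and M/Q isomorphic to S₃ × A₆ or to S₃ × S₆. Then G is not simple. -/
theorem result {G : Type*} [Group G] [Finite G] (z : G) (hz : orderOf z = 2)
    (hQ : Cfsg.IsExtraspecial 2 ↥(Cfsg.pCore 2 ↥(Subgroup.centralizer ({z} : Set G)))) (hQ9 : Nat.card ↥(Cfsg.pCore 2 ↥(Subgroup.centralizer ({z} : Set G))) = 2 ^ 9)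
    (hCQ : Subgroup.centralizer ((Cfsg.pCore 2 ↥(Subgroup.centralizer ({z} : Set G))) : Set ↥(Subgroup.centralizer ({z} : Set G))) ≤ Cfsg.pCore 2 ↥(Subgroup.centralizer ({z} : Set G)))
    (hMQ : Nonempty (↥(Subgroup.centralizer ({z} : Set G)) ⧸ Cfsg.pCore 2 ↥(Subgroup.centralizer ({z} : Set G)) ≃* (Equiv.Perm (Fin 3) × ↥(alternatingGroup (Fin 6)))) ∨
      Nonempty (↥(Subgroup.centralizer ({z} : Set G)) ⧸ Cfsg.pCore 2 ↥(Subgroup.centralizer ({z} : Set G)) ≃* (Equiv.Perm (Fin 3) × Equiv.Perm (Fin 6)))) :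
    ¬ IsSimpleGroup G := by
  intro hs
  classical
  haveI : Fact (Nat.Prime 2) := ⟨Nat.prime_two⟩
  haveI := hs
  have hG : ¬ IsMulCommutative G := fun hc => by
    haveI := hc
    have h1 : Subgroup.center ↥(Cfsg.pCore 2 ↥(Subgroup.centralizer ({z} : Set G))) = ⊤ :=
      eq_top_iff.2 fun x _ => Subgroup.mem_center_iff.2 fun y =>
        Subtype.ext (Subtype.ext (IsMulCommutative.is_comm.comm _ _))
    have h2 := hQ.2
    rw [h1, Subgroup.card_top, hQ9] at h2
    norm_num at h2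
  have key : ∀ (θ : ↥(Subgroup.centralizer ({z} : Set G)) →* Equiv.Perm (Fin 3) × Equiv.Perm (Fin 6)),
      θ.ker = Cfsg.pCore 2 ↥(Subgroup.centralizer ({z} : Set G)) →
      (∀ p q, Equiv.Perm.sign p = 1 → Equiv.Perm.sign q = 1 → (p, q) ∈ θ.range) →
      (∃ m, Equiv.Perm.sign (θ m).1 = -1) → False := fun θ h1 h2 h3 =>
    Cfsg.Agent.Invol.ExtraEight.no_simple hG z hz _ inferInstance hQ hQ9 hCQ θ h1 h2 h3
  have hswap : Equiv.Perm.sign (Equiv.swap (0 : Fin 3) 1) = -1 := Equiv.Perm.sign_swap (by decide)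
  rcases hMQ with ⟨⟨e⟩⟩ | ⟨⟨e⟩⟩
  · refine key (((MonoidHom.id (Equiv.Perm (Fin 3))).prodMap (alternatingGroup (Fin 6)).subtype).comp
      (e.toMonoidHom.comp (QuotientGroup.mk' _))) ?_ ?_ ?_
    · ext m
      rw [MonoidHom.mem_ker]
      constructor
      · intro h
        have h1 := congrArg Prod.fst h
        have h2 := congrArg Prod.snd h
        have h' : e (m : ↥(Subgroup.centralizer ({z} : Set G)) ⧸ _) = 1 := Prod.ext h1 (Subtype.ext h2)
        exact (QuotientGroup.eq_one_iff m).1 (e.map_eq_one_iff.1 h')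
      · intro h
        show ((MonoidHom.id (Equiv.Perm (Fin 3))).prodMap (alternatingGroup (Fin 6)).subtype) (e (m : _ ⧸ _)) = 1
        rw [(QuotientGroup.eq_one_iff m).2 h, map_one, map_one]
    · intro p q _ hq
      obtain ⟨x, hx⟩ := e.surjective (p, ⟨q, Equiv.Perm.mem_alternatingGroup.2 hq⟩)
      obtain ⟨m, rfl⟩ := QuotientGroup.mk'_surjective _ x
      exact ⟨m, show ((MonoidHom.id (Equiv.Perm (Fin 3))).prodMap (alternatingGroup (Fin 6)).subtype) (e _) = _ by
        rw [hx]; rfl⟩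
    · obtain ⟨x, hx⟩ := e.surjective (Equiv.swap 0 1, 1)
      obtain ⟨m, rfl⟩ := QuotientGroup.mk'_surjective _ x
      refine ⟨m, ?_⟩
      show Equiv.Perm.sign (e _).1 = -1
      rw [hx]; exact hswap
  · refine key (e.toMonoidHom.comp (QuotientGroup.mk' _)) ?_ ?_ ?_
    · ext m
      rw [MonoidHom.mem_ker]
      exact e.map_eq_one_iff.trans (QuotientGroup.eq_one_iff m)
    · intro p q _ _
      obtain ⟨x, hx⟩ := e.surjective (p, q)
      obtain ⟨m, rfl⟩ := QuotientGroup.mk'_surjective _ x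
      exact ⟨m, hx⟩
    · obtain ⟨x, hx⟩ := e.surjective (Equiv.swap 0 1, 1)
      obtain ⟨m, rfl⟩ := QuotientGroup.mk'_surjective _ x
      refine ⟨m, ?_⟩
      show Equiv.Perm.sign (e _).1 = -1
      rw [hx]; exact hswap

end Cfsg.Agent.S3283
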