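import Cfsg.Statements.S3284
import Cfsg.Agent.Lib.Invol.ExtraEight.Main
import Cfsg.Agent.Lib.Grp.Components

set_option autoImplicit false
open Cfsg

namespace Cfsg.Agent.S3284

/-- There is no non-abelian finite simple group with an involution z whose centralizer M has generalized Fitting subgroup Q = F*(M) extraspecial of order 2⁹ and M/Q isomorphic to the subgroup of S₃ × S₆ consisting of the pairs of permutations with equal sign (a group (3 × A₆)·2 in which an involution outside 3 × A₆ induces S₃ on the first factor and S₆ on the second). -/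
theorem result {G : Type*} [Group G] [Finite G] [IsSimpleGroup G] (hG : ¬ IsMulCommutative G) (z : G) (hz : orderOf z = 2)
    [hn : (Cfsg.generalizedFittingSubgroup ↥(Subgroup.centralizer ({z} : Set G))).Normal]
    (hQ : Cfsg.IsExtraspecial 2 ↥(Cfsg.generalizedFittingSubgroup ↥(Subgroup.centralizer ({z} : Set G)))) (hQ9 : Nat.card ↥(Cfsg.generalizedFittingSubgroup ↥(Subgroup.centralizer ({z} : Set G))) = 2 ^ 9)
    (e : (↥(Subgroup.centralizer ({z} : Set G)) ⧸ Cfsg.generalizedFittingSubgroup ↥(Subgroup.centralizer ({z} : Set G))) ≃*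
      ↥(MonoidHom.ker (Equiv.Perm.sign.comp (MonoidHom.fst (Equiv.Perm (Fin 3)) (Equiv.Perm (Fin 6))) *
          Equiv.Perm.sign.comp (MonoidHom.snd (Equiv.Perm (Fin 3)) (Equiv.Perm (Fin 6)))))) :
    False := by
  classical
  refine Cfsg.Agent.Invol.ExtraEight.no_simple hG z hz _ hn hQ hQ9 Cfsg.Agent.Grp.centralizer_gfitting_le
    ((Subgroup.subtype _).comp (e.toMonoidHom.comp (QuotientGroup.mk' _))) ?_ ?_ ?_
  · ext m
    rw [MonoidHom.mem_ker]
    constructor
    · intro h
      have h' : e (m : _ ⧸ Cfsg.generalizedFittingSubgroup ↥(Subgroup.centralizer ({z} : Set G))) = 1 := Subtype.ext h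
      exact (QuotientGroup.eq_one_iff m).1 (e.map_eq_one_iff.1 h')
    · intro h
      show ((e (m : _ ⧸ Cfsg.generalizedFittingSubgroup ↥(Subgroup.centralizer ({z} : Set G)))) : Equiv.Perm (Fin 3) × Equiv.Perm (Fin 6)) = 1
      rw [(QuotientGroup.eq_one_iff m).2 h, map_one]; rfl
  · intro p q hp hq
    obtain ⟨x, hx⟩ := e.surjective ⟨(p, q), by simp [MonoidHom.mem_ker, hp, hq]⟩
    obtain ⟨m, rfl⟩ := QuotientGroup.mk'_surjective _ x
    exact ⟨m, congrArg Subtype.val hx⟩
  · have h1 : Equiv.Perm.sign (Equiv.swap (0 : Fin 3) 1) = -1 := Equiv.Perm.sign_swap (by decide)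
    have h2 : Equiv.Perm.sign (Equiv.swap (0 : Fin 6) 1) = -1 := Equiv.Perm.sign_swap (by decide)
    obtain ⟨x, hx⟩ := e.surjective ⟨(Equiv.swap 0 1, Equiv.swap 0 1), by simp [MonoidHom.mem_ker, h1, h2]⟩
    obtain ⟨m, rfl⟩ := QuotientGroup.mk'_surjective _ x
    exact ⟨m, show Equiv.Perm.sign ((e _).1).1 = -1 by rw [hx]; exact h1⟩

end Cfsg.Agent.S3284
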