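import Cfsg.Statements.S3285
import Cfsg.Agent.Lib.Invol.TwoTimesAlt.Five
import Cfsg.Agent.Lib.Invol.TwoTimesAlt.FourMain

set_option autoImplicit false
open Cfsg

namespace Cfsg.Agent.S3285

/-- Let G be a finite non-solvable group with no normal subgroup of index 2, and J an involution lying in the centre of a Sylow 2-subgroup of G whose centralizer is the internal direct product of ⟨J⟩ with a subgroup isomorphic to the alternating group of degree m. Then either m = 4 and G is isomorphic to the automorphism group PΓL(2, 8) of PSL(2, 8), or m = 5 and G is isomorphic to the first Janko group. -/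
theorem result {G : Type*} [Group G] [Finite G] (hns : ¬ Group.IsSolvable G) (h2 : ∀ N : Subgroup G, N.Normal → N.index ≠ 2)
    (J : G) (hJ : Cfsg.IsTwoCentralInvolution J) (m : ℕ) (T : Subgroup G)
    (hT : Nonempty (↥T ≃* ↥(alternatingGroup (Fin m))))
    (hd : Cfsg.IsInternalDirectProduct (Subgroup.zpowers J) T (Subgroup.centralizer ({J} : Set G))) :
    (m = 4 ∧ ∃ (F : Type) (_ : Field F) (_ : Fintype F), Fintype.card F = 8 ∧
        Nonempty (G ≃* MulAut (Matrix.ProjectiveSpecialLinearGroup (Fin 2) F))) ∨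
      (m = 5 ∧ Cfsg.Spor.IsoJ1 G) := by
  obtain ⟨e⟩ := hT
  have h : Cfsg.Agent.TwoTimesAlt.Setup J T := ⟨h2, hJ, hd⟩
  by_cases h4 : m = 4
  · subst h4
    exact Or.inl ⟨rfl, Cfsg.Agent.TwoTimesAlt.iso_of_four h hns e⟩
  by_cases h5 : m = 5
  · subst h5
    exact Or.inr ⟨rfl, Cfsg.Agent.TwoTimesAlt.iso_j1_of_five h hns e⟩
  exfalso
  by_cases h6 : 6 ≤ m
  · exact h.false_of_large h6 e
  have h2T := h.two_dvd
  rw [Nat.card_congr e.toEquiv] at h2T
  rcases (show m = 0 ∨ m = 1 ∨ m = 2 ∨ m = 3 by omega) with rfl | rfl | rfl | rfl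
  · rw [Nat.card_unique] at h2T; omega
  · rw [Nat.card_unique] at h2T; omega
  · rw [nat_card_alternatingGroup, Nat.card_fin] at h2T; revert h2T; decide
  · rw [nat_card_alternatingGroup, Nat.card_fin] at h2T; revert h2T; decide

end Cfsg.Agent.S3285
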