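import Cfsg.Statements.S3290
import Cfsg.Agent.Lib.Invol.AbgConsumers.BicyclicSimple
import Cfsg.Agent.S0507
import Cfsg.Agent.S0523

set_option autoImplicit false
open Cfsg

namespace Cfsg.Agent.S3290

/-- Let G be a finite simple group of even order whose Sylow 2-subgroups are bicyclic (a product of two cyclic subgroups: every element is a power of x times a power of y for two fixed elements). Then G has order 2, or G is isomorphic to PSL₂(q), PSL₃(q) or PSU₃(q) for an odd prime power q, to the alternating group of degree 7, or G is a simple group of the order of the Mathieu group of degree 11. -/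
theorem result {G : Type*} [Group G] [Finite G] [IsSimpleGroup G] (P : Sylow 2 G) (hb : ∃ x y : ↥(P : Subgroup G), ∀ g : ↥(P : Subgroup G), ∃ i j : ℤ, g = x ^ i * y ^ j) (h2 : 2 ∣ Nat.card G) : Nat.card G = 2 ∨ (∃ (K : Type) (_ : Field K) (_ : Fintype K) (q : ℕ), Fintype.card K = q ∧ Odd q ∧ (Nonempty (G ≃* Matrix.ProjectiveSpecialLinearGroup (Fin 2) K) ∨ Nonempty (G ≃* Matrix.ProjectiveSpecialLinearGroup (Fin 3) K))) ∨ (∃ (K : Type) (_ : Field K) (_ : Fintype K) (q : ℕ), Fintype.card K = q ^ 2 ∧ Odd q ∧ Nonempty (G ≃* Cfsg.PSU 3 K q)) ∨ Nonempty (G ≃* alternatingGroup (Fin 7)) ∨ Cfsg.IsM11 G := by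
  exact Cfsg.Agent.Invol.AbgConsumers.bicyclic_sylow (fun G _ _ _ S hS => Cfsg.Agent.S0507.result S hS) (fun G _ _ _ S hS => Cfsg.Agent.S0523.result S hS) P hb h2

end Cfsg.Agent.S3290
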