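import Cfsg.Statements.S3299
import Mathlib
import Cfsg.Agent.Lib.Transfer.HallWielandt
import Cfsg.Agent.Lib.Invol.Transfer2
import Cfsg.Agent.Lib.Grp.Frattini
-- import your own Cfsg.Agent.* helpers here

set_option autoImplicit false
open Cfsg

namespace Cfsg.Agent.S3299

open Cfsg.Agent.Transfer.HallWielandt
open scoped commutatorElement

variable {G : Type*} [Group G]

/-- a choice depending only on the set -/
noncomputable def pick (s : Set G) : G :=
  haveI := Classical.propDecidable s.Nonempty
  if h : s.Nonempty then h.some else 1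

theorem pick_mem {s : Set G} (h : s.Nonempty) : pick s ∈ s := by
  unfold pick
  rw [dif_pos h]
  exact h.some_mem

theorem orth_nonabelian [Finite G] (E : Subgroup G) (z : G) (hzc : ∀ a ∈ E, a * z = z * a)
    (hcomm : ∀ a ∈ E, ∀ b ∈ E, a * b = b * a ∨ a * b = z * (b * a)) (hcen : ∀ a ∈ E, (∀ b ∈ E, a * b = b * a) → a = 1 ∨ a = z)
    (hcard : 32 ≤ Nat.card E) {e y : G} (he : e ∈ E) (hy : y ∈ E) (hey : e * y ≠ y * e) :
    ∃ a ∈ E, ∃ b ∈ E, e * a = a * e ∧ e * b = b * e ∧ y * a = a * y ∧ y * b = b * y ∧ a * b = z * (b * a) ∧ a * b ≠ b * a := by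
  classical
  by_contra hcon
  push Not at hcon
  let M : Set G := {a | a ∈ E ∧ e * a = a * e ∧ y * a = a * y}
  have hab : ∀ a ∈ M, ∀ b ∈ M, a * b = b * a := fun a ha b hb => by
    rcases hcomm a ha.1 b hb.1 with h | h
    · exact h
    · exact hcon a ha.1 b hb.1 ha.2.1 hb.2.1 ha.2.2 hb.2.2 h
  have hz0 : ∀ {a b : G}, a ∈ E → b ∈ E → a * b ≠ b * a → a * b = z * (b * a) := fun ha hb h => (hcomm _ ha _ hb).resolve_left h
  -- every element is adjusted into `M` by one of `1, e, y, ey`
  have hadj : ∀ x ∈ E, x ∈ M ∨ x * e ∈ M ∨ x * y ∈ M ∨ x * (e * y) ∈ M := by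
    intro x hx
    have hez := hz0 he hy hey
    have hye : y * e = z⁻¹ * (e * y) := by rw [hez, inv_mul_cancel_left]
    have hzz : z * z = 1 := by
      rcases hcomm y hy e he with h | h
      · exact absurd h.symm hey
      · have : y * e = z * (z * (y * e)) := by rw [← hez]; exact h
        rw [← mul_assoc] at this
        exact (mul_eq_right.mp this.symm)
    have hzi : z⁻¹ = z := inv_eq_of_mul_eq_one_right hzz
    rw [hzi] at hye
    by_cases h1 : e * x = x * e <;> by_cases h2 : y * x = x * y
    · exact Or.inl ⟨hx, h1, h2⟩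
    · refine Or.inr (Or.inl ⟨E.mul_mem hx he, by rw [← mul_assoc, h1], ?_⟩)
      calc y * (x * e) = z * (x * y) * e := by rw [← mul_assoc, hz0 hy hx h2]
        _ = z * x * (z * (e * y)) := by rw [← hye]; simp only [mul_assoc]
        _ = z * (x * z) * (e * y) := by simp only [mul_assoc]
        _ = x * e * y := by rw [hzc x hx, ← mul_assoc z, hzz, one_mul]; simp only [mul_assoc]
    · refine Or.inr (Or.inr (Or.inl ⟨E.mul_mem hx hy, ?_, by rw [← mul_assoc, h2]⟩))
      calc e * (x * y) = z * (x * e) * y := by rw [← mul_assoc, hz0 he hx h1]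
        _ = z * x * (z * (y * e)) := by rw [← hez]; simp only [mul_assoc]
        _ = z * (x * z) * (y * e) := by simp only [mul_assoc]
        _ = x * y * e := by rw [hzc x hx, ← mul_assoc z, hzz, one_mul]; simp only [mul_assoc]
    · refine Or.inr (Or.inr (Or.inr ⟨E.mul_mem hx (E.mul_mem he hy), ?_, ?_⟩))
      · calc e * (x * (e * y)) = z * (x * e) * (e * y) := by rw [← mul_assoc, hz0 he hx h1]
          _ = x * (z * (e * (e * y))) := by rw [← mul_assoc z x, ← hzc x hx]; simp only [mul_assoc]
          _ = x * (z * (e * (z * (y * e)))) := by rw [← hez]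
          _ = x * (z * ((e * z) * (y * e))) := by simp only [mul_assoc]
          _ = x * (z * z * (e * (y * e))) := by rw [hzc e he]; simp only [mul_assoc]
          _ = x * (e * y) * e := by rw [hzz, one_mul]; simp only [mul_assoc]
      · calc y * (x * (e * y)) = z * (x * y) * (e * y) := by rw [← mul_assoc, hz0 hy hx h2]
          _ = x * (z * ((y * e) * y)) := by rw [← mul_assoc z x, ← hzc x hx]; simp only [mul_assoc]
          _ = x * (e * y) * y := by rw [hye, ← mul_assoc z (z * (e * y)), ← mul_assoc z z, hzz, one_mul]; simp only [mul_assoc]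
  -- hence `M` is central in `E`
  have hMz : ∀ a ∈ M, a = 1 ∨ a = z := by
    intro a ha
    refine hcen a ha.1 fun x hx => ?_
    have hc : ∀ w : G, (w = 1 ∨ w = e ∨ w = y ∨ w = e * y) → x * w ∈ M → a * x = x * a := by
      intro w hw hxw
      have haw : a * w = w * a := by
        rcases hw with rfl | rfl | rfl | rfl
        · simp
        · exact ha.2.1.symm
        · exact ha.2.2.symm
        · rw [← mul_assoc, ← ha.2.1, mul_assoc, ← ha.2.2, mul_assoc]
      have h1 := hab a ha _ hxw
      rw [← mul_assoc, mul_assoc x w a, ← haw, ← mul_assoc] at h1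
      exact mul_right_cancel h1
    rcases hadj x hx with h | h | h | h
    · exact hc 1 (Or.inl rfl) (by rwa [mul_one])
    · exact hc e (Or.inr (Or.inl rfl)) h
    · exact hc y (Or.inr (Or.inr (Or.inl rfl))) h
    · exact hc _ (Or.inr (Or.inr (Or.inr rfl))) h
  let T : Finset G := {1, z}
  let W : Finset G := {1, e, y, e * y}
  have hsub : ∀ x : E, (x : G) ∈ (T ×ˢ W).image (fun p => p.1 * p.2⁻¹) := by
    intro x
    rw [Finset.mem_image]
    have hT : ∀ {a : G}, a ∈ M → a ∈ T := fun ha => by simpa [T] using hMz _ ha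
    rcases hadj x x.2 with h | h | h | h
    · exact ⟨((x : G), 1), Finset.mem_product.mpr ⟨hT h, by simp [W]⟩, by simp⟩
    · exact ⟨((x : G) * e, e), Finset.mem_product.mpr ⟨hT h, by simp [W]⟩, by simp⟩
    · exact ⟨((x : G) * y, y), Finset.mem_product.mpr ⟨hT h, by simp [W]⟩, by simp⟩
    · exact ⟨((x : G) * (e * y), e * y), Finset.mem_product.mpr ⟨hT h, by simp [W]⟩, by simp [mul_assoc]⟩
  have h8 : Nat.card E ≤ 8 := by
    refine (Nat.card_le_card_of_injective (fun x : E => (⟨x.1, hsub x⟩ : ((T ×ˢ W).image (fun p => p.1 * p.2⁻¹) : Finset G)))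
      fun a b h => Subtype.ext (Subtype.mk.inj h)).trans ?_
    rw [Nat.card_eq_finsetCard]
    refine Finset.card_image_le.trans ?_
    rw [Finset.card_product]
    calc T.card * W.card ≤ 2 * 4 := Nat.mul_le_mul Finset.card_le_two Finset.card_le_four
      _ = 8 := rfl
  omega

/-- Let G be a finite group with no nontrivial 2-group quotient (O^2(G) = G), z an involution of G with H = C_G(z), and suppose E = O_2(H) is extraspecial with C_G(E) ≤ E and of order 2^(2n+1) with n ≥ 2. Then E is contained in every normal subgroup of H of index 2. -/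
theorem result {G : Type*} [Group G] [Finite G] (hres : Cfsg.pResidual 2 G = ⊤) (z : G) (hz : orderOf z = 2)
    (E : Subgroup G) (hE : E = (Cfsg.pCore 2 ↥(Subgroup.centralizer ({z} : Set G))).map (Subgroup.centralizer ({z} : Set G)).subtype)
    (hext : Cfsg.IsExtraspecial 2 ↥E) (hcent : Subgroup.centralizer (E : Set G) ≤ E) (n : ℕ) (hn : 2 ≤ n) (hcard : Nat.card ↥E = 2 ^ (2 * n + 1))
    (K : Subgroup G) (hKH : K ≤ Subgroup.centralizer ({z} : Set G))
    (hKn : ∀ h ∈ Subgroup.centralizer ({z} : Set G), K.map (MulAut.conj h).toMonoidHom = K)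
    (hKi : K.relIndex (Subgroup.centralizer ({z} : Set G)) = 2) : E ≤ K := by
  classical
  haveI : Fact (Nat.Prime 2) := ⟨Nat.prime_two⟩
  set H := Subgroup.centralizer ({z} : Set G) with hHdef
  have hEH : E ≤ H := by rw [hE]; exact Subgroup.map_subtype_le _
  have hzc : ∀ a ∈ E, a * z = z * a := fun a ha => (Subgroup.mem_centralizer_singleton_iff.mp (hEH ha))
  have hzz : z * z = 1 := by rw [← sq, ← hz]; exact pow_orderOf_eq_one z
  have hz1 : z ≠ 1 := fun h => by rw [h, orderOf_one] at hz; omega
  have hzE : z ∈ E := hcent (Subgroup.mem_centralizer_iff.mpr fun a ha => hzc a ha)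
  obtain ⟨⟨-, hfr, hder⟩, hc2⟩ := hext
  have hcenE : ∀ a : E, a ∈ Subgroup.center E → a = 1 ∨ a = ⟨z, hzE⟩ := by
    intro a ha
    by_contra hcon
    push Not at hcon
    haveI := Fintype.ofFinite (Subgroup.center E)
    have hzmem : (⟨z, hzE⟩ : E) ∈ Subgroup.center E := Subgroup.mem_center_iff.mpr fun b => Subtype.ext (hzc b b.2)
    have h3 : ({1, ⟨⟨z, hzE⟩, hzmem⟩, ⟨a, ha⟩} : Finset (Subgroup.center E)).card ≤ 2 :=
      (Finset.card_le_univ _).trans (by rw [← Nat.card_eq_fintype_card, hc2])
    rw [Finset.card_insert_of_notMem (by simp [Subtype.ext_iff, Ne.symm hz1]; exact fun h => hcon.1 (Subtype.ext h.symm)),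
      Finset.card_pair (fun h => hcon.2 (congrArg Subtype.val h).symm)] at h3
    omega
  have hcen : ∀ a ∈ E, (∀ b ∈ E, a * b = b * a) → a = 1 ∨ a = z := fun a ha h =>
    (hcenE ⟨a, ha⟩ (Subgroup.mem_center_iff.mpr fun b => Subtype.ext (h b b.2).symm)).imp
      (congrArg Subtype.val) (congrArg Subtype.val)
  have hcomm : ∀ a ∈ E, ∀ b ∈ E, a * b = b * a ∨ a * b = z * (b * a) := by
    intro a ha b hb
    have h : ⁅(⟨a, ha⟩ : E), ⟨b, hb⟩⁆ ∈ Subgroup.center E := by
      rw [← hder, commutator_def]; exact Subgroup.commutator_mem_commutator (Subgroup.mem_top _) (Subgroup.mem_top _)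
    rcases hcenE _ h with h' | h'
    · left
      have := congrArg Subtype.val h'
      simp only [commutatorElement_def, Subgroup.coe_mul, Subgroup.coe_inv, Subgroup.coe_one] at this
      rwa [mul_inv_eq_one, mul_inv_eq_iff_eq_mul] at this
    · right
      have := congrArg Subtype.val h'
      simp only [commutatorElement_def, Subgroup.coe_mul, Subgroup.coe_inv] at this
      rw [mul_inv_eq_iff_eq_mul, mul_inv_eq_iff_eq_mul, mul_assoc] at this
      exact this
  have h32 : 32 ≤ Nat.card E := by
    rw [hcard]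
    exact le_trans (by norm_num) (Nat.pow_le_pow_right two_pos (show 5 ≤ 2 * n + 1 by omega))
  have hsq : ∀ a ∈ E, a * a = 1 ∨ a * a = z := by
    intro a ha
    have h : (⟨a, ha⟩ : E) * ⟨a, ha⟩ ∈ frattini E := by
      rw [← sq]; exact Cfsg.Agent.Grp.pGroup_pow_mem_frattini (IsPGroup.of_card hcard) _
    rw [hfr] at h
    exact (hcenE _ h).imp (congrArg Subtype.val) (congrArg Subtype.val)
  -- the homomorphism
  intro e₀ he₀
  have hK2 : (K.subgroupOf H).index = 2 := hKi
  haveI : (K.subgroupOf H).Normal := Subgroup.normal_of_index_eq_two hK2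
  let φ : H →* H ⧸ K.subgroupOf H := QuotientGroup.mk' _
  have hq2 : ∀ a : H ⧸ K.subgroupOf H, a * a = 1 := fun a => by
    induction a using QuotientGroup.induction_on with
    | H x => exact (QuotientGroup.eq_one_iff _).mpr (Subgroup.mul_self_mem_of_index_two hK2 x)
  letI : CommGroup (H ⧸ K.subgroupOf H) :=
    { (inferInstance : Group (H ⧸ K.subgroupOf H)) with
      mul_comm := fun a b => by
        have h := hq2 (a * b)
        have ha : a⁻¹ = a := inv_eq_of_mul_eq_one_right (hq2 a)
        have hb : b⁻¹ = b := inv_eq_of_mul_eq_one_right (hq2 b)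
        calc a * b = (a * b)⁻¹ := (inv_eq_of_mul_eq_one_right h).symm
          _ = b * a := by rw [mul_inv_rev, ha, hb] }
  suffices hinv : ∀ e, (he : e ∈ E) → e * e = 1 → φ ⟨e, hEH he⟩ = 1 by
    have goalK : ∀ a, (ha : a ∈ E) → φ ⟨a, hEH ha⟩ = 1 → a ∈ K := fun a ha h =>
      Subgroup.mem_subgroupOf.mp ((QuotientGroup.eq_one_iff _).mp h)
    rcases hsq e₀ he₀ with h | h
    · exact goalK _ he₀ (hinv _ he₀ h)
    · by_cases hec : ∀ b ∈ E, e₀ * b = b * e₀
      · rcases hcen e₀ he₀ hec with rfl | rfl
        · exact one_mem _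
        · exact goalK _ he₀ (hinv _ he₀ hzz)
      push Not at hec
      obtain ⟨y, hy, hey⟩ := hec
      have key : ∃ y' ∈ E, y' * y' = 1 ∧ e₀ * y' ≠ y' * e₀ := by
        rcases hsq y hy with hyy | hyy
        · exact ⟨y, hy, hyy, hey⟩
        obtain ⟨a, ha, b, hb, hea, heb, hya, hyb, hab, -⟩ := orth_nonabelian E z hzc hcomm hcen h32 he₀ hy hey
        have main : ∀ w ∈ E, e₀ * w = w * e₀ → y * w = w * y → w * w = z →
            ∃ y' ∈ E, y' * y' = 1 ∧ e₀ * y' ≠ y' * e₀ := by
          intro w hw hew hyw hww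
          refine ⟨y * w, E.mul_mem hy hw, ?_, fun hc => hey ?_⟩
          · calc y * w * (y * w) = y * (w * y) * w := by simp only [mul_assoc]
              _ = (y * y) * (w * w) := by rw [← hyw]; simp only [mul_assoc]
              _ = 1 := by rw [hyy, hww, hzz]
          · rw [← mul_assoc, mul_assoc y w e₀, ← hew, ← mul_assoc] at hc
            exact mul_right_cancel hc
        rcases hsq a ha with haa | haa
        · rcases hsq b hb with hbb | hbb
          · refine main (a * b) (E.mul_mem ha hb) (by rw [← mul_assoc, hea, mul_assoc, heb, mul_assoc])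
              (by rw [← mul_assoc, hya, mul_assoc, hyb, mul_assoc]) ?_
            calc a * b * (a * b) = z * (b * a) * (a * b) := by rw [← hab]
              _ = z * (b * (a * a) * b) := by simp only [mul_assoc]
              _ = z := by rw [haa, mul_one, hbb, mul_one]
          · exact main b hb heb hyb hbb
        · exact main a ha hea hya haa
      obtain ⟨y', hy', hyy', hey'⟩ := key
      have hprod : e₀ * y' * (e₀ * y') = 1 := by
        have h' := (hcomm y' hy' e₀ he₀).resolve_left fun h => hey' h.symm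
        calc e₀ * y' * (e₀ * y') = e₀ * (y' * e₀) * y' := by simp only [mul_assoc]
          _ = e₀ * z * e₀ * (y' * y') := by rw [h']; simp only [mul_assoc]
          _ = 1 := by rw [hyy', mul_one, hzc e₀ he₀, mul_assoc, h, hzz]
      have h1 := hinv _ (E.mul_mem he₀ hy') hprod
      have h2 := hinv _ hy' hyy'
      refine goalK _ he₀ ?_
      have : φ ⟨e₀ * y', hEH (E.mul_mem he₀ hy')⟩ = φ ⟨e₀, hEH he₀⟩ * φ ⟨y', hEH hy'⟩ := map_mul φ ⟨e₀, hEH he₀⟩ ⟨y', hEH hy'⟩
      rw [h1, h2, mul_one] at this
      exact this.symm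
  intro e he hee
  haveI := Fintype.ofFinite (G ⧸ H)
  have htr : φ.transfer e = 1 := by
    have hall : ∀ g : G, φ.transfer g = 1 := fun g => by
      have hg : g ∈ pResidual 2 G := hres ▸ Subgroup.mem_top g
      refine Subgroup.closure_induction (fun x hx => ?_) (map_one _) (fun a b _ _ ha hb => by rw [map_mul, ha, hb, one_mul])
        (fun a _ ha => by rw [map_inv, ha, inv_one]) hg
      have h2 : φ.transfer x ^ 2 = 1 := by rw [sq]; exact hq2 _
      have h1 : φ.transfer x ^ orderOf x = 1 := by rw [← map_pow, pow_orderOf_eq_one, map_one]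
      have := pow_gcd_eq_one.mpr ⟨h1, h2⟩
      rwa [show Nat.gcd (orderOf x) 2 = 1 from hx, pow_one] at this
    exact hall e
  rw [transfer_eq_prod_fixed φ e (fun x l hl hld h => by
    have hl2 : l = 2 := by
      have : orderOf e ∣ 2 := orderOf_dvd_of_pow_eq_one (by rw [sq, hee])
      have := Nat.le_of_dvd two_pos (hld.trans this)
      omega
    subst hl2
    refine (congrArg φ (Subtype.ext ?_)).trans (map_one φ)
    show x⁻¹ * e ^ 2 * x = 1
    rw [sq, hee, mul_one, inv_mul_cancel])] at htr
  set base : G ⧸ H := ((1 : G) : G ⧸ H)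
  have hbase : fixVal φ e base = φ ⟨e, hEH he⟩ := by
    rw [fixVal_mk φ (x := 1) (by simpa using hEH he)]
    exact congrArg φ (Subtype.ext (by simp))
  have hbfix : ∀ k ∈ E, k • base = base := fun k hk => by
    rw [MulAction.Quotient.smul_mk, QuotientGroup.eq, smul_eq_mul, mul_one, mul_one]; exact inv_mem (hEH hk)
  rw [← Finset.mul_prod_erase _ _ (Finset.mem_univ base), hbase] at htr
  suffices hrest : ∏ q ∈ Finset.univ.erase base, fixVal φ e q = 1 by rwa [hrest, mul_one] at htr
  -- conjugates of commutators are killed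
  have hone : ∀ q : G ⧸ H, (∀ k ∈ E, k • q = q) → q = base := by
    intro q hq
    obtain ⟨x, rfl⟩ := QuotientGroup.mk_surjective q
    have hmem : x * z * x⁻¹ ∈ Subgroup.centralizer (E : Set G) := Subgroup.mem_centralizer_iff.mpr fun k hk => by
      have h := hq k hk
      rw [MulAction.Quotient.smul_mk, eq_comm, QuotientGroup.eq, smul_eq_mul] at h
      have hc := Subgroup.mem_centralizer_singleton_iff.mp h
      have := congrArg (fun w => x * w * x⁻¹) hc
      simpa [mul_assoc] using this
    have hzx : x * z * x⁻¹ = z := by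
      rcases hcen _ (hcent hmem) (fun b hb => (Subgroup.mem_centralizer_iff.mp hmem b hb).symm) with h | h
      · exact absurd (by simpa using h) hz1
      · exact h
    refine (QuotientGroup.eq.mpr ?_).symm
    rw [inv_one, one_mul]
    exact Subgroup.mem_centralizer_singleton_iff.mpr (mul_inv_eq_iff_eq_mul.mp hzx)
  have hzcom : ∀ a ∈ E, a⁻¹ * z * a = z := fun a ha => by rw [mul_assoc, ← hzc a ha, inv_mul_cancel_left]
  have hzsmul : ∀ k ∈ E, ∀ q : G ⧸ H, z • (k • q) = k • q ↔ z • q = q := fun k hk q => by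
    rw [smul_smul, ← hzc k hk, ← smul_smul]
    exact (MulAction.injective k).eq_iff
  let S : G ⧸ H → Set G := fun q => {k | k ∈ E ∧ k • q ≠ q ∧ (e * k = k * e ∨ fixVal φ z q = 1)}
  have hSne : ∀ q, q ≠ base → e • q = q → z • q = q → (S q).Nonempty := by
    intro q hqb heq hzq
    by_contra hemp
    have hall : ∀ k ∈ E, e * k = k * e → k • q = q := fun k hk hek => by
      by_contra hne
      exact hemp ⟨k, hk, hne, Or.inl hek⟩
    obtain ⟨k, hk, hkq⟩ : ∃ k ∈ E, k • q ≠ q := by
      by_contra hcon
      push Not at hcon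
      exact hqb (hone q hcon)
    have hek : e * k ≠ k * e := fun h => hkq (hall k hk h)
    refine hemp ⟨k, hk, hkq, Or.inr ?_⟩
    obtain ⟨a, ha, b, hb, hea, heb, -, -, hab, -⟩ := orth_nonabelian E z hzc hcomm hcen h32 he hk hek
    have ha' := hall a ha hea
    have hb' := hall b hb heb
    obtain ⟨x, rfl⟩ := QuotientGroup.mk_surjective q
    rw [Cfsg.Agent.Invol.smul_mk_eq_iff] at ha' hb' hzq
    rw [fixVal_mk φ hzq, show (⟨x⁻¹ * z * x, hzq⟩ : H) = ⟨_, ha'⟩ * ⟨_, hb'⟩ * (⟨_, hb'⟩ * ⟨_, ha'⟩)⁻¹ by
      apply Subtype.ext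
      show x⁻¹ * z * x = x⁻¹ * a * x * (x⁻¹ * b * x) * (x⁻¹ * b * x * (x⁻¹ * a * x))⁻¹
      have : a * b * (b * a)⁻¹ = z := by rw [hab, mul_inv_cancel_right]
      rw [← this]; group]
    rw [map_mul, map_inv, map_mul, map_mul, mul_comm (φ ⟨_, hb'⟩), mul_inv_cancel]
  have hSinv : ∀ k ∈ E, ∀ q, z • q = q → S (k • q) = S q := by
    intro k hk q hzq
    have hf : fixVal φ z (k • q) = fixVal φ z q := by rw [fixVal_smul, hzcom k hk]
    ext l
    show l ∈ E ∧ l • (k • q) ≠ k • q ∧ _ ↔ l ∈ E ∧ l • q ≠ q ∧ _
    rw [hf]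
    refine and_congr_right fun hl => and_congr_left fun _ => not_congr ?_
    have hlq : l • (k • q) = k • (l • q) := by
      rw [smul_smul, smul_smul]
      rcases hcomm l hl k hk with h | h
      · rw [h]
      · rw [h, ← smul_smul z, ← smul_smul k]
        exact (hzsmul k hk (l • q)).mpr ((hzsmul l hl q).mpr hzq)
    rw [hlq]
    exact (MulAction.injective k).eq_iff
  let ι : G ⧸ H → G ⧸ H := fun q => if z • q = q then pick (S q) • q else z • q
  refine Finset.prod_involution (fun q _ => ι q) (fun q hq => ?_) (fun q hq hne => ?_) (fun q hq => ?_) (fun q hq => ?_)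
  · by_cases hzq : z • q = q
    · simp only [ι, if_pos hzq]
      by_cases hS : (S q).Nonempty
      · obtain ⟨hk, -, hor⟩ := pick_mem hS
        by_cases heq : e • q = q
        · have hval : fixVal φ e (pick (S q) • q) = fixVal φ e q := by
            rw [fixVal_smul]
            rcases hcomm (pick (S q)) hk e he with h | h
            · rw [mul_assoc, ← h, inv_mul_cancel_left]
            · rcases hor with h' | h'
              · rw [mul_assoc, h', inv_mul_cancel_left]
              · have h2 : (pick (S q))⁻¹ * e * pick (S q) = e * z := by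
                  have h3 : e * pick (S q) = z * (pick (S q) * e) := by
                    rw [h, ← mul_assoc z, hzz, one_mul]
                  rw [mul_assoc, h3, ← mul_assoc, ← mul_assoc, mul_assoc _ z, ← hzc _ hk, inv_mul_cancel_left, hzc e he]
                rw [h2]
                obtain ⟨x, hx⟩ := QuotientGroup.mk_surjective q
                rw [← hx] at heq hzq h' ⊢
                rw [Cfsg.Agent.Invol.smul_mk_eq_iff] at heq hzq
                have hm : x⁻¹ * (e * z) * x ∈ H := by
                  rw [show x⁻¹ * (e * z) * x = (x⁻¹ * e * x) * (x⁻¹ * z * x) by group]; exact mul_mem heq hzq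
                rw [fixVal_mk φ hzq] at h'
                rw [fixVal_mk φ hm, fixVal_mk φ heq,
                  show (⟨x⁻¹ * (e * z) * x, hm⟩ : H) = ⟨_, heq⟩ * ⟨_, hzq⟩ from Subtype.ext (by
                    show x⁻¹ * (e * z) * x = x⁻¹ * e * x * (x⁻¹ * z * x); group),
                  map_mul, h', mul_one]
          rw [hval]; exact hq2 _
        · rw [fixVal_of_ne φ heq, one_mul]
          refine fixVal_of_ne φ fun hc => heq ?_
          have hek : e • (pick (S q) • q) = pick (S q) • (e • q) := by
            rw [smul_smul, smul_smul]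
            rcases hcomm e he _ hk with h | h
            · rw [h]
            · rw [h, ← smul_smul z, ← smul_smul (pick (S q))]
              exact (hzsmul _ hk _).mpr ((hzsmul e he q).mpr hzq)
          rw [hek] at hc
          exact MulAction.injective _ hc
      · have : ¬ e • q = q := fun heq => hS (hSne q (Finset.mem_erase.mp hq).1 heq hzq)
        rw [fixVal_of_ne φ this, one_mul, show pick (S q) = 1 by unfold pick; rw [dif_neg hS], one_smul, fixVal_of_ne φ this]
    · simp only [ι, if_neg hzq]
      rw [fixVal_smul, show z⁻¹ * e * z = e by rw [mul_assoc, hzc e he, inv_mul_cancel_left]]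
      exact hq2 _
  · by_cases hzq : z • q = q
    · simp only [ι, if_pos hzq]
      by_cases hS : (S q).Nonempty
      · exact (pick_mem hS).2.1
      · have : ¬ e • q = q := fun heq => hS (hSne q (Finset.mem_erase.mp hq).1 heq hzq)
        exact absurd (fixVal_of_ne φ this) hne
    · simp only [ι, if_neg hzq]
      exact hzq
  · have hk : ∀ k ∈ E, k • q ∈ Finset.univ.erase base := fun k hk => Finset.mem_erase.mpr ⟨fun hc => (Finset.mem_erase.mp hq).1
      (MulAction.injective k (hc.trans (hbfix k hk).symm)), Finset.mem_univ _⟩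
    by_cases hzq : z • q = q
    · simp only [ι, if_pos hzq]
      refine hk _ ?_
      by_cases hS : (S q).Nonempty
      · exact (pick_mem hS).1
      · unfold pick; rw [dif_neg hS]; exact one_mem _
    · simp only [ι, if_neg hzq]
      exact hk z hzE
  · by_cases hzq : z • q = q
    · have hk : pick (S q) ∈ E := by
        by_cases hS : (S q).Nonempty
        · exact (pick_mem hS).1
        · unfold pick; rw [dif_neg hS]; exact one_mem _
      have hz' := (hzsmul _ hk q).mpr hzq
      simp only [ι, if_pos hzq, if_pos hz', hSinv _ hk q hzq, smul_smul]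
      rcases hsq _ hk with h | h
      · rw [h, one_smul]
      · rw [h, hzq]
    · have hz' : ¬ z • (z • q) = z • q := fun h => hzq (MulAction.injective z h)
      simp only [ι, if_neg hzq, if_neg hz', smul_smul, hzz, one_smul]

end Cfsg.Agent.S3299
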