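import Cfsg.Statements.S3301
import Mathlib
import Cfsg.Agent.Lib.Invol.ExtraTransfer
import Cfsg.Agent.Lib.Grp.Frattini
import Cfsg.Agent.Lib.Grp.Cores
-- import your own Cfsg.Agent.* helpers here

set_option autoImplicit false
open Cfsg

namespace Cfsg.Agent.S3301

variable {G : Type*} [Group G]

open scoped commutatorElement
open Cfsg.Agent.Invol.ExtraTransfer

theorem perm3 : ∀ p : Fin 3 → Fin 3, Function.Injective p → ¬ (∀ i, p (p i) = i) →
    (p 0 = 1 ∧ p 1 = 2) ∨ (p 0 = 2 ∧ p 1 = 0) := by decide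

theorem small_case [Finite G] {z : G} {H E : Subgroup G} (S : Setting z H E) (hz1 : z ≠ 1) (hle : Nat.card E ≤ 8)
    (hCE : ∀ g ∈ H, (∀ e ∈ E, g * e = e * g) → g ∈ E) (hcore : IsPGroup 2 H → H ≤ E)
    (h : H) : (Abelianization.of h) ^ 6 = 1 ∧ (∀ k : ℕ, orderOf (Abelianization.of h) = 2 ^ k → (Abelianization.of h) ^ 2 = 1) := by
  classical
  obtain ⟨a, ha, b, hb, hzab⟩ := S.zder
  have hab : a * b ≠ b * a := fun h => hz1 (by rw [← hzab, h]; group)
  have hab' : a * b = z * (b * a) := (S.comm a ha b hb).resolve_left hab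
  have hzc : ∀ g ∈ E, g * z = z * g := fun g hg => S.central g (S.le hg)
  have hba : b * a ≠ a * b := fun h => hab h.symm
  let f : Fin 3 → G := ![a, b, a * b]
  have hfE : ∀ i, f i ∈ E := fun i => by fin_cases i <;> simp [f, ha, hb, E.mul_mem ha hb]
  -- the eight elements
  let W : Option (Fin 3) → G := fun o => o.elim 1 f
  let F : Bool × Option (Fin 3) → E := fun p =>
    ⟨(if p.1 then z else 1) * W p.2, E.mul_mem (by split <;> simp [S.zmem]) (by
      rcases p.2 with - | i
      · exact E.one_mem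
      · exact hfE i)⟩
  let pat : G → Prop × Prop := fun g => (g * a = a * g, g * b = b * g)
  have hpz : ∀ (t : Bool) (w : G), pat ((if t then z else 1) * w) = pat w := by
    intro t w
    cases t
    · simp [pat]
    · simp only [pat, ↓reduceIte, mul_assoc, ← mul_assoc a z, ← mul_assoc b z, hzc a ha, hzc b hb, mul_right_inj]
  have hpat : ∀ o, pat (W o) = match o with
      | none => (True, True) | some i => (if i = 0 then True else False, if i = 1 then True else False) := by
    intro o
    rcases o with - | i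
    · simp [pat, W]
    have h2a : a * b * a ≠ a * (a * b) := fun h => hba (mul_left_cancel (by rwa [mul_assoc] at h))
    have h2b : a * b * b ≠ b * (a * b) := fun h => hab (mul_right_cancel (by rwa [← mul_assoc] at h))
    fin_cases i <;> simp [pat, W, f, hab, hba, h2a, h2b]
  have hFinj : Function.Injective F := by
    rintro ⟨t, o⟩ ⟨t', o'⟩ h
    have h' : (if t then z else 1) * W o = (if t' then z else 1) * W o' := congrArg Subtype.val h
    have hp := congrArg pat h'
    rw [hpz, hpz, hpat, hpat] at hp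
    have ho : o = o' := by
      rcases o with - | i <;> rcases o' with - | j
      · rfl
      · fin_cases j <;> simp at hp
      · fin_cases i <;> simp at hp
      · fin_cases i <;> fin_cases j <;> simp at hp <;> rfl
    subst ho
    have h'' := mul_right_cancel h'
    cases t <;> cases t' <;> simp at h'' <;> first | rfl | exact absurd h''.symm hz1 | exact absurd h'' hz1
  haveI := Fintype.ofFinite E
  have hFsurj : Function.Surjective F := by
    refine (Function.Injective.bijective_of_nat_card_le hFinj ?_).2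
    simpa [Nat.card_prod] using hle
  have hdec : ∀ e ∈ E, (∀ i, e = f i → False) → (∀ i, e = z * f i → False) → e = 1 ∨ e = z := by
    intro e he h1 h2
    obtain ⟨⟨t, o⟩, hto⟩ := hFsurj ⟨e, he⟩
    have h' : (if t then z else 1) * W o = e := congrArg Subtype.val hto
    rcases o with - | i
    · cases t <;> simp [W] at h' <;> simp [← h']
    · cases t
      · exact absurd (by simp [W] at h'; exact h'.symm) (h1 i)
      · exact absurd (by simp [W] at h'; exact h'.symm) (h2 i)
  let R : G → G → Prop := fun u v => u = v ∨ u = z * v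
  have Rtrans : ∀ {u v w : G}, R u v → R v w → R u w := by
    rintro u v w (rfl | rfl) (rfl | rfl)
    · exact Or.inl rfl
    · exact Or.inr rfl
    · exact Or.inr rfl
    · exact Or.inl (by rw [← mul_assoc, S.zz, one_mul])
  have Rconj : ∀ g ∈ H, ∀ {u v : G}, R u v → R (g * u * g⁻¹) (g * v * g⁻¹) := by
    rintro g hg u v (rfl | rfl)
    · exact Or.inl rfl
    · exact Or.inr (by rw [← mul_assoc g z v, S.central g hg]; group)
  have Rcases : ∀ g ∈ H, ∀ i, ∃ j, R (g * f i * g⁻¹) (f j) := by
    intro g hg i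
    by_contra hcon
    push Not at hcon
    rcases hdec _ (S.normal g hg _ (hfE i)) (fun j hj => hcon j (Or.inl hj)) (fun j hj => hcon j (Or.inr hj)) with h | h
    · have hf1 : f i = 1 := conj_eq_one_iff.mp h
      have := congrArg pat hf1
      have hW := hpat (some i)
      simp only [W, Option.elim] at hW
      rw [hW] at this
      fin_cases i <;> simp [pat] at this
    · have hfz : f i = z := mul_left_cancel (mul_right_cancel (h.trans (by rw [S.central g hg]; group)) : g * f i = g * z)
      have := congrArg pat hfz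
      have hW := hpat (some i)
      simp only [W, Option.elim] at hW
      rw [hW] at this
      fin_cases i <;> simp [pat, hzc a ha, hzc b hb] at this
  have Runiq : ∀ {u : G} {i j : Fin 3}, R u (f i) → R u (f j) → i = j := by
    intro u i j h1 h2
    have : R (f i) (f j) := by
      refine Rtrans ?_ h2
      rcases h1 with h | h
      · exact Or.inl h.symm
      · exact Or.inr (by rw [h, ← mul_assoc, S.zz, one_mul])
    have hp : pat (f i) = pat (f j) := by
      rcases this with h | h
      · rw [h]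
      · rw [h]; exact hpz true (f j)
    have h1 := hpat (some i)
    have h2 := hpat (some j)
    simp only [W, Option.elim] at h1 h2
    rw [h1, h2] at hp
    fin_cases i <;> fin_cases j <;> simp at hp <;> rfl
  choose σ hσ using Rcases
  have hσmul : ∀ (g k : H) i, σ (g * k : H) (g * k).2 i = σ g g.2 (σ k k.2 i) := fun g k i => by
    refine Runiq (hσ _ _ i) ?_
    rw [show (((g * k : H)) : G) * f i * (((g * k : H)) : G)⁻¹ = g * ((k : G) * f i * (k : G)⁻¹) * (g : G)⁻¹ by
      simp only [Subgroup.coe_mul]; group]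
    exact Rtrans (Rconj g g.2 (hσ k k.2 i)) (hσ g g.2 _)
  have hσone : ∀ i, σ ((1 : H) : G) (1 : H).2 i = i := fun i => Runiq (hσ _ _ i) (Or.inl (by simp))
  let θ : H →* Equiv.Perm (Fin 3) :=
    { toFun := fun g => ⟨σ g g.2, σ (g⁻¹ : H) (g⁻¹).2, fun i => by rw [← hσmul]; simp only [inv_mul_cancel]; exact hσone i,
        fun i => by rw [← hσmul]; simp only [mul_inv_cancel]; exact hσone i⟩
      map_one' := Equiv.ext hσone
      map_mul' := fun g k => Equiv.ext (hσmul g k) }
  have hker : ∀ g : H, θ g = 1 → (g : G) ∈ E := by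
    intro g hg
    have hi : ∀ i, R ((g : G) * f i * (g : G)⁻¹) (f i) := fun i => by
      have h := hσ g g.2 i
      rwa [show σ g g.2 i = i from congrArg (fun p : Equiv.Perm (Fin 3) => p i) hg] at h
    have key : ∀ w ∈ E, ((g : G) * w) * a = a * ((g : G) * w) → ((g : G) * w) * b = b * ((g : G) * w) → (g : G) ∈ E := by
      intro w hw hwa hwb
      refine (E.mul_mem_cancel_right hw).mp (hCE _ (mul_mem g.2 (S.le hw)) fun e he => ?_)
      obtain ⟨⟨t, o⟩, hto⟩ := hFsurj ⟨e, he⟩
      rw [← show (if t then z else 1) * W o = e from congrArg Subtype.val hto]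
      have hz' : Commute ((g : G) * w) (if t then z else 1) := by
        cases t
        · exact Commute.one_right _
        · exact S.central _ (mul_mem g.2 (S.le hw))
      refine hz'.mul_right ?_
      rcases o with - | i
      · exact Commute.one_right _
      · fin_cases i
        · exact hwa
        · exact hwb
        · exact Commute.mul_right hwa hwb
    have hcv : ∀ {w u v : G}, w * u = v * w → (g : G) * v * (g : G)⁻¹ = u → ((g : G) * w) * u = u * ((g : G) * w) := by
      intro w u v h h'
      rw [mul_assoc, h, ← mul_assoc, ← mul_assoc, ← mul_inv_eq_iff_eq_mul.mp h']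
    have e1 := hi 0
    have e2 := hi 1
    simp only [R, f, Matrix.cons_val_zero, Matrix.cons_val_one] at e1 e2
    have hz2 : ∀ {u : G}, (g : G) * u * (g : G)⁻¹ = z * u → (g : G) * (z * u) * (g : G)⁻¹ = u := fun {u} h => by
      rw [← mul_assoc, S.central _ g.2, mul_assoc z, mul_assoc z, h, ← mul_assoc, S.zz, one_mul]
    have hba' : b * a = z * (a * b) := by rw [hab', ← mul_assoc, S.zz, one_mul]
    rcases e1 with h1 | h1 <;> rcases e2 with h2 | h2
    · exact key 1 E.one_mem (hcv (by simp) h1) (hcv (by simp) h2)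
    · exact key a ha (hcv rfl h1) (hcv (v := z * b) (by rw [mul_assoc]; exact hab') (hz2 h2))
    · exact key b hb (hcv (v := z * a) (by rw [mul_assoc]; exact hba') (hz2 h1)) (hcv rfl h2)
    · refine key (a * b) (E.mul_mem ha hb) (hcv (v := z * a) ?_ (hz2 h1)) (hcv (v := z * b) ?_ (hz2 h2))
      · rw [mul_assoc, hba', ← mul_assoc, hzc a ha, mul_assoc]
      · rw [mul_assoc z b, ← mul_assoc b a b, hba', mul_assoc, mul_assoc, ← mul_assoc z z, S.zz, one_mul, mul_assoc]
  have hψsq : ∀ e : H, (e : G) ∈ E → Abelianization.of e * Abelianization.of e = 1 := by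
    intro e he
    rw [← map_mul]
    rcases S.sq e he with h | h
    · rw [show e * e = 1 from Subtype.ext h, map_one]
    · rw [show e * e = (⟨a, S.le ha⟩ : H) * ⟨b, S.le hb⟩ * (⟨a, S.le ha⟩ : H)⁻¹ * (⟨b, S.le hb⟩ : H)⁻¹ from
        Subtype.ext (h.trans hzab.symm), map_mul, map_mul, map_mul, map_inv, map_inv,
        mul_comm (Abelianization.of (⟨a, S.le ha⟩ : H)), mul_inv_cancel_right, mul_inv_cancel]
  have hψz : ∀ e : H, (e : G) = z → Abelianization.of e = 1 := fun e he => by
    rw [show e = (⟨a, S.le ha⟩ : H) * ⟨b, S.le hb⟩ * (⟨a, S.le ha⟩ : H)⁻¹ * (⟨b, S.le hb⟩ : H)⁻¹ from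
        Subtype.ext (he.trans hzab.symm), map_mul, map_mul, map_mul, map_inv, map_inv,
        mul_comm (Abelianization.of (⟨a, S.le ha⟩ : H)), mul_inv_cancel_right, mul_inv_cancel]
  suffices h6 : (Abelianization.of h) ^ 6 = 1 by
    refine ⟨h6, fun k hk => ?_⟩
    have hd : 2 ^ k ∣ 6 := hk ▸ orderOf_dvd_of_pow_eq_one h6
    refine orderOf_dvd_iff_pow_eq_one.mp ?_
    rw [hk]
    rcases k with - | - | k
    · norm_num
    · norm_num
    · exfalso
      have h4 : 4 ∣ 2 ^ (k + 2) := ⟨2 ^ k, by ring⟩
      have := h4.trans hd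
      omega
  by_cases hall : ∀ g : H, θ g ^ 2 = 1
  · have hgE : (h : G) ∈ E := by
      refine hcore ((IsPGroup.iff_card).mpr ?_) h.2
      have hp : IsPGroup 2 H := fun g => ⟨3, Subtype.ext ?_⟩
      · exact (IsPGroup.iff_card).mp hp
      · have h2 : ((g * g : H) : G) ∈ E := hker _ (by rw [map_mul, ← sq]; exact hall g)
        rw [Subgroup.coe_pow, Subgroup.coe_one, show (g : G) ^ 2 ^ 3 = ((g : G) * g) * ((g : G) * g) * (((g : G) * g) * ((g : G) * g)) by simp [pow_succ, mul_assoc]]
        rcases S.sq _ h2 with h' | h'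
        · rw [Subgroup.coe_mul] at h'; rw [h', one_mul]
        · rw [Subgroup.coe_mul] at h'; rw [h', S.zz]
    rw [show (6 : ℕ) = 2 * 3 from rfl, pow_mul, sq, hψsq h hgE, one_pow]
  push Not at hall
  obtain ⟨g, hg⟩ := hall
  have hfp : ∀ p : Equiv.Perm (Fin 3), p ^ 2 ≠ 1 → (p 0 = 1 ∧ p 1 = 2) ∨ (p 0 = 2 ∧ p 1 = 0) := by
    intro p hp
    refine perm3 p p.injective fun hc => hp (Equiv.ext fun i => ?_)
    rw [sq]; exact hc i
  have h6p : ∀ p : Equiv.Perm (Fin 3), p ^ 6 = 1 := fun p => by
    have hc : Fintype.card (Equiv.Perm (Fin 3)) = 6 := by rw [Fintype.card_perm, Fintype.card_fin]; rfl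
    rw [← hc]; exact pow_card_eq_one
  let F' : Fin 3 → Abelianization H := fun i => Abelianization.of (⟨f i, S.le (hfE i)⟩ : H)
  have hstep : ∀ i, F' i = F' (θ g i) := by
    intro i
    have hc : F' i = Abelianization.of (g * (⟨f i, S.le (hfE i)⟩ : H) * g⁻¹) := by
      rw [map_mul, map_mul, map_inv, mul_comm (Abelianization.of g), mul_inv_cancel_right]
    rw [hc]
    show _ = Abelianization.of (⟨f (σ g g.2 i), _⟩ : H)
    rcases hσ g g.2 i with h' | h'
    · exact congrArg _ (Subtype.ext h')
    · rw [show g * (⟨f i, S.le (hfE i)⟩ : H) * g⁻¹ = (⟨z, S.le S.zmem⟩ : H) * ⟨f (σ g g.2 i), S.le (hfE _)⟩ from Subtype.ext h',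
        map_mul, hψz _ rfl, one_mul]
  have h2 : F' 2 = F' 0 * F' 1 := by
    simp only [F', ← map_mul]; rfl
  have h01 : F' 0 = F' 1 ∧ F' 1 = F' 2 := by
    have s0 := hstep 0
    have s1 := hstep 1
    rcases hfp (θ g) hg with ⟨p0, p1⟩ | ⟨p0, p1⟩
    · rw [p0] at s0; rw [p1] at s1; exact ⟨s0, s1⟩
    · rw [p0] at s0; rw [p1] at s1; exact ⟨s1.symm, s1.trans s0⟩
  have h20 : F' 2 = 1 := by rw [h2, ← h01.1]; exact hψsq _ (hfE 0)
  have hF1 : ∀ i, F' i = 1 := by
    have h1' := h01.2.trans h20
    have h0' := h01.1.trans h1'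
    intro i; fin_cases i
    · exact h0'
    · exact h1'
    · exact h20
  have hE1 : ∀ e : H, (e : G) ∈ E → Abelianization.of e = 1 := by
    intro e he
    obtain ⟨⟨t, o⟩, hto⟩ := hFsurj ⟨e, he⟩
    have h' : (if t then z else 1) * W o = e := congrArg Subtype.val hto
    rcases o with - | i
    · cases t
      · rw [show e = 1 from Subtype.ext (by simpa [W] using h'.symm), map_one]
      · exact hψz e (by simpa [W] using h'.symm)
    · cases t
      · exact (congrArg _ (Subtype.ext (by simpa [W] using h'.symm))).trans (hF1 i)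
      · rw [show e = (⟨z, S.le S.zmem⟩ : H) * ⟨f i, S.le (hfE i)⟩ from Subtype.ext (by simpa [W] using h'.symm),
          map_mul, hψz _ rfl, one_mul]
        exact hF1 i
  rw [← map_pow]
  exact hE1 _ (hker _ (by rw [map_pow, h6p]))

/-- Let G be a finite group with no nontrivial 2-group quotient (O^2(G) = G), z an involution of G with H = C_G(z), and suppose E = O_2(H) is extraspecial with C_G(E) ≤ E. Then the Sylow 2-subgroups of H/[H, H] are elementary abelian: every element of 2-power order of the abelianization of H has order at most 2. -/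
theorem result {G : Type*} [Group G] [Finite G] (hres : Cfsg.pResidual 2 G = ⊤) (z : G) (hz : orderOf z = 2)
    (E : Subgroup G) (hE : E = (Cfsg.pCore 2 ↥(Subgroup.centralizer ({z} : Set G))).map (Subgroup.centralizer ({z} : Set G)).subtype)
    (hext : Cfsg.IsExtraspecial 2 ↥E) (hcent : Subgroup.centralizer (E : Set G) ≤ E) :
    ∀ q : Abelianization ↥(Subgroup.centralizer ({z} : Set G)), (∃ k : ℕ, orderOf q = 2 ^ k) → q ^ 2 = 1 := by
  classical
  haveI : Fact (Nat.Prime 2) := ⟨Nat.prime_two⟩
  set H := Subgroup.centralizer ({z} : Set G) with hHdef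
  have hEH : E ≤ H := by rw [hE]; exact Subgroup.map_subtype_le _
  have hzc : ∀ a ∈ E, a * z = z * a := fun a ha => (Subgroup.mem_centralizer_singleton_iff.mp (hEH ha))
  have hzz : z * z = 1 := by rw [← sq, ← hz]; exact pow_orderOf_eq_one z
  have hz1 : z ≠ 1 := fun h => by rw [h, orderOf_one] at hz; omega
  have hzE : z ∈ E := hcent (Subgroup.mem_centralizer_iff.mpr fun a ha => hzc a ha)
  obtain ⟨⟨hp, hfr, hder⟩, hc2⟩ := hext
  have hzmem : (⟨z, hzE⟩ : E) ∈ Subgroup.center E := Subgroup.mem_center_iff.mpr fun b => Subtype.ext (hzc b b.2)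
  have hcenE : ∀ a : E, a ∈ Subgroup.center E → a = 1 ∨ a = ⟨z, hzE⟩ := by
    intro a ha
    by_contra hcon
    push Not at hcon
    haveI := Fintype.ofFinite (Subgroup.center E)
    have h3 : ({1, ⟨⟨z, hzE⟩, hzmem⟩, ⟨a, ha⟩} : Finset (Subgroup.center E)).card ≤ 2 :=
      (Finset.card_le_univ _).trans (by rw [← Nat.card_eq_fintype_card, hc2])
    rw [Finset.card_insert_of_notMem (by simp [Subtype.ext_iff, Ne.symm hz1]; exact fun h => hcon.1 (Subtype.ext h.symm)),
      Finset.card_pair (fun h => hcon.2 (congrArg Subtype.val h).symm)] at h3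
    omega
  have hcen : ∀ a ∈ E, (∀ b ∈ E, a * b = b * a) → a = 1 ∨ a = z := fun a ha h =>
    (hcenE ⟨a, ha⟩ (Subgroup.mem_center_iff.mpr fun b => Subtype.ext (h b b.2).symm)).imp
      (congrArg Subtype.val) (congrArg Subtype.val)
  have hcomm : ∀ a ∈ E, ∀ b ∈ E, a * b = b * a ∨ a * b = z * (b * a) := by
    intro a ha b hb
    have h : ⁅(⟨a, ha⟩ : E), ⟨b, hb⟩⁆ ∈ Subgroup.center E := by
      rw [← hder, commutator_def]; exact Subgroup.commutator_mem_commutator (Subgroup.mem_top _) (Subgroup.mem_top _)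
    rcases hcenE _ h with h' | h'
    · left
      have := congrArg Subtype.val h'
      simp only [commutatorElement_def, Subgroup.coe_mul, Subgroup.coe_inv, Subgroup.coe_one] at this
      rwa [mul_inv_eq_one, mul_inv_eq_iff_eq_mul] at this
    · right
      have := congrArg Subtype.val h'
      simp only [commutatorElement_def, Subgroup.coe_mul, Subgroup.coe_inv] at this
      rw [mul_inv_eq_iff_eq_mul, mul_inv_eq_iff_eq_mul, mul_assoc] at this
      exact this
  have hsq : ∀ a ∈ E, a * a = 1 ∨ a * a = z := by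
    intro a ha
    have h : (⟨a, ha⟩ : E) * ⟨a, ha⟩ ∈ frattini E := by
      rw [← sq]; exact Cfsg.Agent.Grp.pGroup_pow_mem_frattini hp _
    rw [hfr] at h
    exact (hcenE _ h).imp (congrArg Subtype.val) (congrArg Subtype.val)
  have hzder : ∃ a ∈ E, ∃ b ∈ E, a * b * a⁻¹ * b⁻¹ = z := by
    by_contra hcon
    push Not at hcon
    have hbot : commutator E = ⊥ := by
      rw [commutator_def, eq_bot_iff, Subgroup.commutator_le]
      intro a _ b _
      rw [Subgroup.mem_bot]
      refine Subtype.ext ?_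
      simp only [commutatorElement_def, Subgroup.coe_mul, Subgroup.coe_inv, Subgroup.coe_one]
      rcases hcomm a a.2 b b.2 with h | h
      · rw [h]; group
      · exact absurd (by rw [h]; group) (hcon a a.2 b b.2)
    rw [← hder, hbot, Subgroup.card_bot] at hc2
    omega
  have hnorm : ∀ h ∈ H, ∀ e ∈ E, h * e * h⁻¹ ∈ E := by
    intro h hh e he
    rw [hE] at he ⊢
    obtain ⟨e', he', rfl⟩ := he
    exact ⟨⟨h, hh⟩ * e' * ⟨h, hh⟩⁻¹, (Cfsg.Agent.Grp.pCore_isNormal (p := 2) (G := H)).conj_mem _ he' _, rfl⟩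
  have hfixed : ∀ q : G ⧸ H, (∀ k ∈ E, k • q = q) → q = ((1 : G) : G ⧸ H) := by
    intro q hq
    obtain ⟨x, rfl⟩ := QuotientGroup.mk_surjective q
    have hmem : x * z * x⁻¹ ∈ Subgroup.centralizer (E : Set G) := Subgroup.mem_centralizer_iff.mpr fun k hk => by
      have h := hq k hk
      rw [MulAction.Quotient.smul_mk, eq_comm, QuotientGroup.eq, smul_eq_mul] at h
      have hc := Subgroup.mem_centralizer_singleton_iff.mp h
      have := congrArg (fun w => x * w * x⁻¹) hc
      simpa [mul_assoc] using this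
    have hzx : x * z * x⁻¹ = z := by
      rcases hcen _ (hcent hmem) (fun b hb => (Subgroup.mem_centralizer_iff.mp hmem b hb).symm) with h | h
      · exact absurd (by simpa using h) hz1
      · exact h
    refine (QuotientGroup.eq.mpr ?_).symm
    rw [inv_one, one_mul]
    exact Subgroup.mem_centralizer_singleton_iff.mpr (mul_inv_eq_iff_eq_mul.mp hzx)
  have S : Setting z H E := ⟨hEH, hzE, hzz, fun h hh => Subgroup.mem_centralizer_singleton_iff.mp hh, hnorm,
    hcomm, hcen, hsq, hzder, hfixed⟩
  rintro q ⟨k, hk⟩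
  by_cases h9 : 8 < Nat.card E
  swap
  · obtain ⟨h, rfl⟩ := abelianization_of_surjective q
    refine (small_case S hz1 (by omega) (fun g hg hc => hcent (Subgroup.mem_centralizer_iff.mpr fun e he => (hc e he).symm))
      (fun hHp g hg => ?_) h).2 k hk
    rw [hE]
    exact ⟨⟨g, hg⟩, Cfsg.Agent.Grp.le_pCore (N := (⊤ : Subgroup H)) inferInstance (hHp.of_equiv Subgroup.topEquiv.symm) (Subgroup.mem_top _), rfl⟩
  let sqh : Abelianization H →* Abelianization H := powMonoidHom 2
  let N : Subgroup (Abelianization H) := sqh.ker ⊔ sqh.range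
  let φ : H →* Abelianization H ⧸ N := (QuotientGroup.mk' N).comp Abelianization.of
  have hA : ∀ a : Abelianization H ⧸ N, a * a = 1 := fun a => by
    induction a using QuotientGroup.induction_on with
    | H w => exact (QuotientGroup.eq_one_iff _).mpr (Subgroup.mem_sup_right ⟨w, pow_two w⟩)
  have hkill : ∀ h : H, Abelianization.of (h * h) = 1 → φ h = 1 := fun h hh =>
    (QuotientGroup.eq_one_iff _).mpr (Subgroup.mem_sup_left (by
      show (Abelianization.of h) ^ 2 = 1
      rw [pow_two, ← map_mul, hh]))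
  have htriv : ∀ x : H, φ x = 1 := fun x => by
    rw [← transfer_eq_self S hp h9 hA φ hkill x]
    have hg : (x : G) ∈ pResidual 2 G := hres ▸ Subgroup.mem_top _
    refine Subgroup.closure_induction (fun g hg' => ?_) (map_one _) (fun a b _ _ ha hb => by rw [map_mul, ha, hb, one_mul])
      (fun a _ ha => by rw [map_inv, ha, inv_one]) hg
    have h2 : φ.transfer g ^ 2 = 1 := by rw [sq]; exact hA _
    have h1 : φ.transfer g ^ orderOf g = 1 := by rw [← map_pow, pow_orderOf_eq_one, map_one]
    have := pow_gcd_eq_one.mpr ⟨h1, h2⟩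
    rwa [show Nat.gcd (orderOf g) 2 = 1 from hg', pow_one] at this
  let sr : sqh.range →* sqh.range := powMonoidHom 2
  have hsur : Function.Surjective sr := by
    rintro ⟨_, w, rfl⟩
    obtain ⟨h, rfl⟩ := abelianization_of_surjective w
    obtain ⟨u, hu, v, ⟨v', hv⟩, huv⟩ := Subgroup.mem_sup.mp ((QuotientGroup.eq_one_iff _).mp (htriv h))
    refine ⟨⟨v, ⟨v', hv⟩⟩, Subtype.ext ?_⟩
    show v ^ 2 = (Abelianization.of h) ^ 2
    rw [← huv, mul_pow, show u ^ 2 = 1 from hu, one_mul]
  have hinj : Function.Injective sr := Finite.injective_iff_surjective.mpr hsur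
  rcases k with - | - | k
  · have h1 : orderOf q = 1 := by simpa using hk
    rw [orderOf_eq_one_iff.mp h1, one_pow]
  · rw [← pow_one 2, ← hk]; exact pow_orderOf_eq_one q
  · exfalso
    have ht : (q ^ 2 ^ k) ^ 2 ∈ sqh.range := ⟨q ^ 2 ^ k, rfl⟩
    have h := @hinj ⟨_, ht⟩ 1 (Subtype.ext (by
      show ((q ^ 2 ^ k) ^ 2) ^ 2 = (1 : Abelianization H) ^ 2
      rw [one_pow, ← pow_mul, ← pow_mul, show 2 ^ k * (2 * 2) = 2 ^ (k + 1 + 1) by ring, ← hk, pow_orderOf_eq_one]))
    have h' : (q ^ 2 ^ k) ^ 2 = 1 := congrArg Subtype.val h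
    rw [← pow_mul, show 2 ^ k * 2 = 2 ^ (k + 1) by ring] at h'
    have := Nat.le_of_dvd (by positivity) (orderOf_dvd_of_pow_eq_one h')
    rw [hk] at this
    exact absurd this (by simp [pow_succ])

end Cfsg.Agent.S3301
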