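import Cfsg.Statements.S3303
import Mathlib
import Cfsg.Agent.Lib.Grp.Frattini
import Cfsg.Agent.S3305

set_option autoImplicit false
open Cfsg

namespace Cfsg.Agent.S3303

/-- Let G be a finite solvable group in which the intersection of any two distinct Sylow 2-subgroups is cyclic. Then G/O(G) has a normal Sylow 2-subgroup, where O(G) is the largest normal subgroup of odd order. -/
theorem result {G : Type*} [Group G] [Finite G] (hs : Group.IsSolvable G)
    (hC : ∀ S T : Sylow 2 G, S ≠ T → IsCyclic ↥((S : Subgroup G) ⊓ (T : Subgroup G))) :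
    ∃ P : Sylow 2 (G ⧸ Cfsg.oddCore G), (P : Subgroup (G ⧸ Cfsg.oddCore G)).Normal := by
  haveI : Fact (Nat.Prime 2) := ⟨Nat.prime_two⟩
  haveI : (pPrimeCore 2 G).Normal := Cfsg.Agent.Grp.pPrimeCore_isNormal
  have hC' := Cfsg.Agent.S3305.result hC (oddCore G)
  set X := G ⧸ oddCore G
  haveI : Group.IsSolvable X := solvable_of_surjective (QuotientGroup.mk'_surjective (oddCore G))
  have hcent : Subgroup.centralizer (pCore 2 X : Set X) ≤ pCore 2 X :=
    Cfsg.Agent.Grp.centralizer_pCore_le Cfsg.Agent.Grp.pPrimeCore_quotient_eq_bot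
  obtain ⟨P⟩ : Nonempty (Sylow 2 X) := inferInstance
  refine ⟨P, ?_⟩
  by_contra hn
  obtain ⟨g, hg⟩ : ∃ g : X, g • P ≠ P := by
    by_contra h
    push Not at h
    exact hn (Subgroup.normalizer_eq_top_iff.mp (top_le_iff.mp fun g _ => Sylow.smul_eq_iff_mem_normalizer.mp (h g)))
  haveI hFc : IsCyclic (pCore 2 X) := by
    haveI := hC' (g • P) P hg
    exact isCyclic_of_injective (Subgroup.inclusion (le_inf (Cfsg.Agent.Grp.pCore_le_sylow (g • P)) (Cfsg.Agent.Grp.pCore_le_sylow P)))
      (Subgroup.inclusion_injective _)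
  set F := pCore 2 X
  haveI : F.Normal := Cfsg.Agent.Grp.pCore_isNormal
  have hFp : IsPGroup 2 F := Cfsg.Agent.Grp.pCore_isPGroup
  obtain ⟨m, hm⟩ := hFp.exists_card_eq
  let φ : X →* MulAut F := MulAut.conjNormal
  have hker : φ.ker ≤ F := by
    intro x hx
    refine hcent (Subgroup.mem_centralizer_iff.mpr fun f hf => ?_)
    have := congrArg (fun (a : F) => (a : X)) (DFunLike.congr_fun (MonoidHom.mem_ker.mp hx) ⟨f, hf⟩)
    simp only [φ, MulAut.conjNormal_apply, MulAut.one_apply] at this
    exact (mul_inv_eq_iff_eq_mul.mp this).symm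
  have hXp : IsPGroup 2 X := by
    have hrange : IsPGroup 2 φ.range := by
      have hA : IsPGroup 2 (MulAut F) := by
        rcases Nat.eq_zero_or_pos m with rfl | hm0
        · exact IsPGroup.of_card (n := 0) (by rw [IsCyclic.card_mulAut, hm]; simp)
        · exact IsPGroup.of_card (n := m - 1)
            (by rw [IsCyclic.card_mulAut, hm, Nat.totient_prime_pow Nat.prime_two hm0]; simp)
      exact hA.to_subgroup _
    obtain ⟨a, ha⟩ := hrange.exists_card_eq
    obtain ⟨b, hb⟩ := (hFp.to_le hker).exists_card_eq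
    refine IsPGroup.of_card (n := b + a) ?_
    rw [← φ.ker.card_mul_index, Subgroup.index_ker, ha, hb, pow_add]
  have htop : (P : Subgroup X) = ⊤ := (P.3 (hXp.to_subgroup ⊤) le_top).symm
  exact hn (by rw [htop]; infer_instance)

end Cfsg.Agent.S3303
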