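import Cfsg.Statements.S3309
import Mathlib
import Cfsg.Agent.S0111
-- import your own Cfsg.Agent.* helpers here

set_option autoImplicit false
open Cfsg

namespace Cfsg.Agent.S3309

abbrev M16 := Multiplicative (ZMod 2) × DihedralGroup 4

def zz : M16 := (1, .r 2)
def tt : M16 := (Multiplicative.ofAdd 1, 1)
def uu : M16 := (Multiplicative.ofAdd 1, .r 2)
def refl (i : ZMod 4) : M16 := (1, .sr i)
def trefl (i : ZMod 4) : M16 := (Multiplicative.ofAdd 1, .sr i)

/-- Two times the transfer functional: the `t`-coordinate, optionally twisted by the reflection class `i`. -/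
def func (i : ZMod 4) : M16 → Bool := fun x =>
  let b : Bool := decide (x.1 ≠ 1)
  match x.2 with
  | .r k => xor b (decide (k = 1 ∨ k = 3))
  | .sr k => xor b (decide (k = i ∨ k = i + 2))

def funcT : M16 → Bool := fun x => decide (x.1 ≠ 1)

theorem funcT_hom : ∀ x y : M16, funcT (x * y) = xor (funcT x) (funcT y) := by decide
theorem func_hom : ∀ i : ZMod 4, ∀ x y : M16, func i (x * y) = xor (func i x) (func i y) := by decide
theorem funcT_ker : ∀ v : M16, v * v = 1 → funcT v = false → v = 1 ∨ v = zz ∨ ∃ i, v = refl i := by decide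
theorem func_ker : ∀ i : ZMod 4, ∀ v : M16, v * v = 1 → func i v = false →
    v = 1 ∨ v = zz ∨ v = refl (i + 1) ∨ v = refl (i + 3) ∨ v = trefl i ∨ v = trefl (i + 2) := by decide
theorem func_tt : ∀ i : ZMod 4, func i tt = true := by decide
theorem refl_conj : ∀ i : ZMod 4, ∃ g : M16, g * refl i * g⁻¹ = refl (i + 2) := by decide
theorem trefl_conj : ∀ i : ZMod 4, ∃ g : M16, g * trefl i * g⁻¹ = trefl (i + 2) := by decide
theorem center_cases : ∀ x : M16, (∀ y, x * y = y * x) → x = 1 ∨ x = zz ∨ x = tt ∨ x = uu := by decide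
theorem central : ∀ y : M16, zz * y = y * zz ∧ tt * y = y * tt ∧ uu * y = y * uu := by decide
theorem sq_zz : ∀ x : M16, x * x = 1 ∨ x * x = zz := by decide
theorem zz_sq : ∃ x : M16, x * x = zz := by decide
def inE (i : ZMod 4) : M16 → Bool := fun v =>
  match v.2 with
  | .r k => decide (k = 0 ∨ k = 2)
  | .sr k => decide (k = i ∨ k = i + 2)

theorem inE_mul : ∀ i, ∀ x y : M16, inE i x = true → inE i y = true → inE i (x * y) = true := by decide
theorem inE_inv : ∀ i, ∀ x : M16, inE i x = true → inE i x⁻¹ = true := by decide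
theorem inE_card : ∀ i, (Finset.univ.filter fun x : M16 => inE i x = true).card = 8 := by decide
theorem inE_cases : ∀ i, ∀ v : M16, inE i v = true → v = 1 ∨ v = zz ∨ v = uu ∨ v = tt ∨
    v = refl i ∨ v = refl (i + 2) ∨ v = trefl i ∨ v = trefl (i + 2) := by decide
theorem inE_prod : ∀ i, refl (i + 2) = refl i * zz ∧ trefl i = tt * refl i ∧ trefl (i + 2) = tt * (refl i * zz) := by decide
theorem invol : ∀ i, tt * tt = 1 ∧ uu * uu = 1 ∧ refl i * refl i = 1 ∧ zz * zz = 1 ∧ tt ≠ 1 ∧ uu ≠ 1 ∧ zz ≠ 1 ∧ refl i ≠ 1 := by decide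
theorem uu_eq : (uu : M16) = tt * zz ∧ uu * zz = tt ∧ tt = uu * zz := by decide
theorem ne_ones : zz ≠ 1 ∧ uu ≠ 1 := by decide
theorem inE_comm : ∀ i, ∀ v : M16, inE i v = true → v * refl i = refl i * v := by decide
theorem four_lt : ¬ 8 ≤ ({1, zz, tt, uu} : Finset M16).card := by decide

/-- A finite group whose Sylow 2-subgroups are isomorphic to the direct product of a group of order 2 and the dihedral group of order 8 is not a non-abelian simple group. -/
theorem result {G : Type*} [Group G] [Finite G] (S : Sylow 2 G) (hS : Nonempty (↥(S : Subgroup G) ≃* Multiplicative (ZMod 2) × DihedralGroup 4))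
    [IsSimpleGroup G] (hG : ¬ IsMulCommutative G) : False := by
  classical
  haveI : Fact (Nat.Prime 2) := ⟨Nat.prime_two⟩
  obtain ⟨e⟩ := hS
  let j : M16 →* G := (S : Subgroup G).subtype.comp e.symm.toMonoidHom
  have hjinj : Function.Injective j := Subtype.val_injective.comp e.symm.injective
  have hjS : ∀ v, j v ∈ (S : Subgroup G) := fun v => (e.symm v).2
  have hjsurj : ∀ x ∈ (S : Subgroup G), ∃ v, j v = x := fun x hx => ⟨e ⟨x, hx⟩, by simp [j]⟩
  have hjconj : ∀ g v : M16, IsConj (j v) (j (g * v * g⁻¹)) := fun g v => isConj_iff.mpr ⟨j g, by simp⟩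
  -- no index two
  have hno : ∀ M : Subgroup G, M.Normal → M.index = 2 → False := fun M hM hi => by
    rcases hM.eq_bot_or_eq_top with h | h
    · rw [h, Subgroup.index_bot] at hi
      haveI : Fact (Nat.Prime 2) := ⟨Nat.prime_two⟩
      haveI := isCyclic_of_prime_card hi
      exact hG ⟨⟨fun a b => (IsCyclic.commGroup (α := G)).mul_comm a b⟩⟩
    · rw [h, Subgroup.index_top] at hi; omega
  -- transfer
  have htr : ∀ (f : M16 → Bool), (∀ x y, f (x * y) = xor (f x) (f y)) → ∀ u : M16, u * u = 1 → f u = true →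
      ∃ v : M16, v * v = 1 ∧ f v = false ∧ IsConj (j u) (j v) := by
    intro f hf u hu hfu
    have hf1 : f 1 = false := by have := hf 1 1; rw [one_mul] at this; cases h : f 1 <;> simp [h] at this ⊢
    let Q : Subgroup G :=
      { carrier := {x | ∃ v, f v = false ∧ j v = x}
        one_mem' := ⟨1, hf1, map_one j⟩
        mul_mem' := by rintro _ _ ⟨v, hv, rfl⟩ ⟨w, hw, rfl⟩; exact ⟨v * w, by rw [hf, hv, hw]; rfl, map_mul j v w⟩
        inv_mem' := by
          rintro _ ⟨v, hv, rfl⟩
          refine ⟨v⁻¹, ?_, map_inv j v⟩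
          have := hf v v⁻¹
          rw [mul_inv_cancel, hf1, hv] at this
          simpa using this.symm }
    have hQS : Q ≤ (S : Subgroup G) := by rintro _ ⟨v, -, rfl⟩; exact hjS v
    have hu1 : u ≠ 1 := fun h => by rw [h, hf1] at hfu; exact Bool.false_ne_true hfu
    have huQ : j u ∉ Q := fun ⟨v, hv, hvu⟩ => by rw [hjinj hvu, hfu] at hv; exact Bool.false_ne_true hv.symm
    have hQi : Q.relIndex (S : Subgroup G) = 2 := by
      rw [Subgroup.relIndex, Subgroup.index_eq_two_iff]
      refine ⟨⟨j u, hjS u⟩, fun ⟨x, hx⟩ => ?_⟩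
      obtain ⟨v, rfl⟩ := hjsurj x hx
      have hxor : f (v * u) = !(f v) := by rw [hf, hfu]; cases f v <;> rfl
      cases hv : f v
      · refine Or.inr ⟨⟨v, hv, rfl⟩, ?_⟩
        rintro ⟨w, hw, hwe⟩
        have : w = v * u := hjinj (hwe.trans (map_mul j v u).symm)
        rw [this, hxor, hv] at hw
        simp at hw
      · refine Or.inl ⟨⟨v * u, by rw [hxor, hv]; rfl, map_mul j v u⟩, ?_⟩
        rintro ⟨w, hw, hwe⟩
        have : w = v := hjinj hwe
        rw [this, hv] at hw
        simp at hw
    have huo : orderOf (j u) = 2 := by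
      rw [orderOf_injective j hjinj]
      exact orderOf_eq_prime (by rw [pow_two, hu]) hu1
    rcases Cfsg.Agent.S0111.result S Q hQS hQi (j u) huo (hjS u) huQ with ⟨M, hM, hMi, -⟩ | ⟨g, v, hv, hvg⟩
    · exact (hno M hM hMi).elim
    · refine ⟨v, hjinj ?_, hv, isConj_iff.mpr ⟨g, hvg.symm⟩⟩
      rw [map_mul, hvg, map_one, conj_mul, ← map_mul, hu, map_one]
      simp
  -- fusion of central involutions
  have hfus : ∀ u v : M16, (∀ y, u * y = y * u) → (∀ y, v * y = y * v) → IsConj (j u) (j v) →
      ∃ φ : M16 ≃* M16, φ u = v ∧ ∃ m : ℕ, Odd m ∧ ∀ w, (∀ y, w * y = y * w) → (φ^[m]) w = w := by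
    intro u v hu hv huv
    have hcen : ∀ w : M16, (∀ y, w * y = y * w) → j w ∈ Subgroup.centralizer ((S : Subgroup G) : Set G) := fun w hw =>
      Subgroup.mem_centralizer_iff.mpr fun x hx => by
        obtain ⟨y, rfl⟩ := hjsurj x hx
        rw [← map_mul, ← map_mul, hw]
    obtain ⟨g, hg⟩ := isConj_iff.mp huv.symm
    have hg' : g⁻¹ * j u * g = j v := by rw [← hg]; group
    obtain ⟨n, hn, hne⟩ := Sylow.conj_eq_normalizer_conj_of_mem_centralizer S (j u) g (hcen u hu) (by rw [hg']; exact hcen v hv)
    rw [hg'] at hne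
    set N := Subgroup.normalizer ((S : Subgroup G) : Set G) with hN
    have hmemn : ∀ x, x ∈ (S : Subgroup G) ↔ n⁻¹ * x * n⁻¹⁻¹ ∈ (S : Subgroup G) :=
      fun x => Subgroup.mem_normalizer_iff.mp (inv_mem hn) x
    let c : (S : Subgroup G) ≃* (S : Subgroup G) :=
      { toFun := fun x => ⟨n⁻¹ * x * n⁻¹⁻¹, (hmemn x).mp x.2⟩
        invFun := fun x => ⟨n * x * n⁻¹, (Subgroup.mem_normalizer_iff.mp hn x).mp x.2⟩
        left_inv := fun x => Subtype.ext (by simp [mul_assoc])
        right_inv := fun x => Subtype.ext (by simp [mul_assoc])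
        map_mul' := fun x y => Subtype.ext (by simp [mul_assoc]) }
    let φ : M16 ≃* M16 := e.symm.trans (c.trans e)
    have hjφ : ∀ w, j (φ w) = n⁻¹ * j w * n := fun w => by simp [j, φ, c]
    refine ⟨φ, hjinj ((hjφ u).trans hne.symm), ((S : Subgroup G).subgroupOf N).index, ?_, ?_⟩
    · have hnd : ¬ 2 ∣ (S : Subgroup G).index := S.not_dvd_index
      have hd : (S : Subgroup G).relIndex N ∣ (S : Subgroup G).index :=
        Subgroup.relIndex_dvd_index_of_le (Subgroup.le_normalizer)
      rw [Nat.odd_iff]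
      have : ¬ 2 ∣ ((S : Subgroup G).subgroupOf N).index := fun h => hnd (h.trans hd)
      omega
    · intro w hw
      have hit : ∀ m : ℕ, j ((φ^[m]) w) = (n ^ m)⁻¹ * j w * n ^ m := by
        intro m
        induction m with
        | zero => simp
        | succ m ih => rw [Function.iterate_succ_apply', hjφ, ih, pow_succ]; group
      apply hjinj
      rw [hit]
      haveI : ((S : Subgroup G).subgroupOf N).Normal := Subgroup.normal_in_normalizer
      have hm : n ^ ((S : Subgroup G).subgroupOf N).index ∈ (S : Subgroup G) :=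
        Subgroup.pow_index_mem ((S : Subgroup G).subgroupOf N) ⟨n, hn⟩
      rw [mul_assoc, ← Subgroup.mem_centralizer_iff.mp (hcen w hw) _ hm, inv_mul_cancel_left]
  have hzt : ∀ v : M16, (∀ y, v * y = y * v) → v ≠ zz → ¬ IsConj (j zz) (j v) := fun v hv hvz h => by
    obtain ⟨φ, hφ, -⟩ := hfus zz v (fun y => (central y).1) hv h
    obtain ⟨x, hx⟩ := zz_sq
    rcases sq_zz (φ x) with h1 | h1 <;> rw [← map_mul, hx, hφ] at h1
    · subst h1
      have : (zz : M16) = 1 := φ.injective (by rw [hφ, map_one])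
      exact (invol 0).2.2.2.2.2.2.1 this
    · exact hvz h1
  have htu : ¬ IsConj (j tt) (j uu) := fun h => by
    obtain ⟨φ, hφ, m, hm, hfix⟩ := hfus tt uu (fun y => (central y).2.1) (fun y => (central y).2.2) h
    have hz : φ zz = zz := by
      obtain ⟨x, hx⟩ := zz_sq
      rcases sq_zz (φ x) with h1 | h1 <;> rw [← map_mul, hx] at h1
      · exact absurd (φ.injective (h1.trans (map_one φ).symm)) (invol 0).2.2.2.2.2.2.1
      · exact h1
    have hu' : φ uu = tt := by
      rw [uu_eq.1, map_mul, hφ, hz]; exact uu_eq.2.1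
    obtain ⟨k, rfl⟩ := hm
    have hper : ∀ i : ℕ, (φ^[2 * i]) tt = tt := by
      intro i
      induction i with
      | zero => rfl
      | succ i ih => rw [show 2 * (i + 1) = 1 + (1 + 2 * i) by ring, Function.iterate_add_apply, Function.iterate_add_apply, ih]; simp [hφ, hu']
    have := hfix tt (fun y => (central y).2.1)
    rw [show 2 * k + 1 = Nat.succ (2 * k) from rfl, Function.iterate_succ_apply', hper, hφ] at this
    exact absurd this (by decide)
  have hzu : ¬ IsConj (j zz) (j uu) := hzt uu (fun y => (central y).2.2) (by decide)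
  have hzt' : ¬ IsConj (j zz) (j tt) := hzt tt (fun y => (central y).2.1) (by decide)
  have hone : ∀ u : M16, u ≠ 1 → ¬ IsConj (j u) (j 1) := fun u hu h => hu (hjinj (by
    rw [map_one] at h; rw [map_one]; exact isConj_one_left.mp h))
  -- both central involutions are conjugate to reflections
  obtain ⟨v, hv, hfv, htv⟩ := htr funcT funcT_hom tt (invol 0).1 (by decide)
  obtain ⟨i, rfl⟩ : ∃ i, v = refl i := by
    rcases funcT_ker v hv hfv with rfl | rfl | h
    · exact absurd htv (hone _ (invol 0).2.2.2.2.1)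
    · exact absurd htv.symm hzt'
    · exact h
  have hrc : ∀ k, IsConj (j (refl k)) (j (refl (k + 2))) := fun k => by
    obtain ⟨g, hg⟩ := refl_conj k; exact hg ▸ hjconj g _
  have htc : ∀ k, IsConj (j (trefl k)) (j (trefl (k + 2))) := fun k => by
    obtain ⟨g, hg⟩ := trefl_conj k; exact hg ▸ hjconj g _
  obtain ⟨v, hv, hfv, huv⟩ := htr funcT funcT_hom uu (invol 0).2.1 (by decide)
  have hother : IsConj (j uu) (j (refl (i + 1))) := by
    rcases funcT_ker v hv hfv with rfl | rfl | ⟨k, rfl⟩
    · exact absurd huv (hone _ (invol 0).2.2.2.2.2.1)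
    · exact absurd huv.symm hzu
    · have hcases : ∀ i k : ZMod 4, k = i ∨ k = i + 2 ∨ k = i + 1 ∨ k + 2 = i + 1 := by decide
      rcases hcases i k with rfl | rfl | rfl | h
      · exact absurd (htv.trans huv.symm) htu
      · exact absurd ((htv.trans (hrc i)).trans huv.symm) htu
      · exact huv
      · exact huv.trans (h ▸ hrc k)
  obtain ⟨v, hv, hfv, htv'⟩ := htr (func i) (func_hom i) tt (invol 0).1 (func_tt i)
  have htrefl : IsConj (j tt) (j (trefl i)) := by
    rcases func_ker i v hv hfv with rfl | rfl | rfl | rfl | rfl | rfl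
    · exact absurd htv' (hone _ (invol 0).2.2.2.2.1)
    · exact absurd htv'.symm hzt'
    · exact absurd (htv'.trans hother.symm) htu
    · exact absurd (htv'.trans (((show (i + 3 : ZMod 4) = i + 1 + 2 by ring) ▸ hrc (i + 1)).symm.trans hother.symm)) htu
    · exact htv'
    · exact htv'.trans (htc i).symm
  -- the plane and a Sylow subgroup centralizing the reflection
  let E : Subgroup M16 :=
    { carrier := {x | inE i x = true}
      one_mem' := by
        have := inE_mul i (refl i) (refl i) (by simp [inE, refl]) (by simp [inE, refl])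
        rwa [(invol i).2.2.1] at this
      mul_mem' := fun {x y} hx hy => inE_mul i x y hx hy
      inv_mem' := fun {x} hx => inE_inv i x hx }
  have hEcard : Nat.card E = 8 := by
    rw [← inE_card i, ← Nat.card_eq_finsetCard]
    exact Nat.card_congr (Equiv.subtypeEquivRight fun x => by simp [E])
  let E1 : Subgroup G := E.map j
  set s := j (refl i) with hs
  have hzE : zz ∈ E := by show inE i zz = true; simp [inE, zz]
  have huE : uu ∈ E := by show inE i uu = true; simp [inE, uu]
  have hrE : refl i ∈ E := by show inE i (refl i) = true; simp [inE, refl]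
  have hE1le : E1 ≤ Subgroup.centralizer ({s} : Set G) := by
    rintro _ ⟨v, hv, rfl⟩
    rw [Subgroup.mem_centralizer_singleton_iff, hs, ← map_mul, ← map_mul]
    congr 1
    exact inE_comm i v hv
  have hE1card : Nat.card E1 = 8 := by rw [Subgroup.card_map_of_injective hjinj, hEcard]
  have hE1p : IsPGroup 2 E1 := IsPGroup.of_card (n := 3) (by rw [hE1card]; norm_num)
  obtain ⟨T, hT⟩ := IsPGroup.exists_le_sylow (G := Subgroup.centralizer ({s} : Set G)) (P := E1.subgroupOf _)
    (hE1p.comap_of_injective _ (Subgroup.subtype_injective _))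
  obtain ⟨g, hg⟩ := isConj_iff.mp htv
  set P : Subgroup G := (S : Subgroup G).map (MulAut.conj g).toMonoidHom with hP
  have hPle : P ≤ Subgroup.centralizer ({s} : Set G) := by
    rintro _ ⟨x, hx, rfl⟩
    obtain ⟨y, rfl⟩ := hjsurj x hx
    rw [Subgroup.mem_centralizer_singleton_iff]
    show g * j y * g⁻¹ * j (refl i) = j (refl i) * (g * j y * g⁻¹)
    rw [show j (refl i) = g * j tt * g⁻¹ from hg.symm]
    show g * j y * g⁻¹ * (g * j tt * g⁻¹) = g * j tt * g⁻¹ * (g * j y * g⁻¹)
    rw [conj_mul, conj_mul, ← map_mul, ← map_mul, (central y).2.1]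
  set T1 : Subgroup G := (T : Subgroup _).map (Subgroup.centralizer ({s} : Set G)).subtype with hT1
  have hS16 : Nat.card (S : Subgroup G) = 16 := by
    rw [Nat.card_congr e.toEquiv, Nat.card_eq_fintype_card]; rfl
  have hT1c : Nat.card T1 = 16 := by
    rw [hT1, Subgroup.card_map_of_injective (Subgroup.subtype_injective _)]
    apply le_antisymm
    · obtain ⟨Q, hQ⟩ := (T.isPGroup'.map (Subgroup.centralizer ({s} : Set G)).subtype).exists_le_sylow
      rw [← Subgroup.card_map_of_injective (Subgroup.subtype_injective _), ← hS16,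
        Nat.card_congr (Sylow.equiv S Q).toEquiv]
      exact Subgroup.card_le_of_le hQ
    · have hPp : IsPGroup 2 (P.subgroupOf (Subgroup.centralizer ({s} : Set G))) :=
        (S.isPGroup'.map _).comap_of_injective _ (Subgroup.subtype_injective _)
      obtain ⟨Q, hQ⟩ := hPp.exists_le_sylow
      rw [Nat.card_congr (Sylow.equiv T Q).toEquiv]
      refine le_trans ?_ (Subgroup.card_le_of_le hQ)
      rw [Nat.card_congr (Subgroup.subgroupOfEquivOfLe hPle).toEquiv, hP,
        Subgroup.card_map_of_injective (MulAut.conj g).injective, hS16]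
  have hE1T : E1 ≤ T1 := fun x hx => ⟨⟨x, hE1le hx⟩, hT (show (⟨x, hE1le hx⟩ : Subgroup.centralizer ({s} : Set G)) ∈ E1.subgroupOf _ from hx), rfl⟩
  have hidx : (E1.subgroupOf T1).index = 2 := by
    have h := (E1.subgroupOf T1).card_mul_index
    rw [Nat.card_congr (Subgroup.subgroupOfEquivOfLe hE1T).toEquiv, hE1card, hT1c] at h
    omega
  have hn2 : (E1.subgroupOf T1).Normal := Subgroup.normal_of_index_eq_two hidx
  have hT1C : ∀ x ∈ T1, x * s = s * x := by
    rintro _ ⟨⟨x, hx⟩, -, rfl⟩
    exact Subgroup.mem_centralizer_singleton_iff.mp hx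
  -- the Sylow subgroup centralizes the plane
  have hfix : ∀ x ∈ T1, ∀ u ∈ [zz, uu], x * j u * x⁻¹ = j u := by
    intro x hx u hu
    have hu' : u = zz ∨ u = uu := by simpa using hu
    have hmem : j u ∈ E1 := ⟨u, by rcases hu' with rfl | rfl <;> assumption, rfl⟩
    obtain ⟨w, hw, hwe⟩ := hn2.conj_mem ⟨j u, hE1T hmem⟩ hmem ⟨x, hx⟩
    change j w = x * j u * x⁻¹ at hwe
    have hcw : IsConj (j u) (j w) := isConj_iff.mpr ⟨x, hwe.symm⟩
    have htr' : ∀ k, k = i ∨ k = i + 2 → IsConj (j tt) (j (trefl k)) := fun k hk => by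
      rcases hk with rfl | rfl
      · exact htrefl
      · exact htrefl.trans (htc i)
    have hu1 : u ≠ 1 := by
      rcases hu' with rfl | rfl
      · exact ne_ones.1
      · exact ne_ones.2
    have hnt : ¬ IsConj (j u) (j tt) := by
      rcases hu' with rfl | rfl
      · exact hzt'
      · exact fun h => htu h.symm
    rw [← hwe]
    congr 1
    rcases inE_cases i w hw with rfl | rfl | rfl | rfl | rfl | rfl | rfl | rfl
    · exact absurd hcw (hone u hu1)
    · rcases hu' with rfl | rfl
      · rfl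
      · exact absurd hcw.symm hzu
    · rcases hu' with rfl | rfl
      · exact absurd hcw hzu
      · rfl
    · exact absurd hcw hnt
    · exact absurd (hcw.trans htv.symm) hnt
    · exact absurd (hcw.trans ((hrc i).symm.trans htv.symm)) hnt
    · exact absurd (hcw.trans (htr' i (Or.inl rfl)).symm) hnt
    · exact absurd (hcw.trans (htr' _ (Or.inr rfl)).symm) hnt
  have hcomm : ∀ x ∈ T1, ∀ v ∈ E, Commute (j v) x := by
    intro x hx v hv
    have hz : Commute (j zz) x := (mul_inv_eq_iff_eq_mul.mp (hfix x hx zz (by simp))).symm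
    have hu : Commute (j uu) x := (mul_inv_eq_iff_eq_mul.mp (hfix x hx uu (by simp))).symm
    have hr : Commute (j (refl i)) x := (hT1C x hx).symm
    have htt : Commute (j tt) x := by rw [uu_eq.2.2, map_mul]; exact hu.mul_left hz
    obtain ⟨p1, p2, p3⟩ := inE_prod i
    rcases inE_cases i v hv with rfl | rfl | rfl | rfl | rfl | rfl | rfl | rfl
    · rw [map_one]; exact Commute.one_left x
    · exact hz
    · exact hu
    · exact htt
    · exact hr
    · rw [p1, map_mul]; exact hr.mul_left hz
    · rw [p2, map_mul]; exact htt.mul_left hr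
    · rw [p3, map_mul, map_mul]; exact htt.mul_left (hr.mul_left hz)
  -- compare with the centre
  obtain ⟨Q, hQ⟩ := (T.isPGroup'.map (Subgroup.centralizer ({s} : Set G)).subtype).exists_le_sylow
  have hQT : (Q : Subgroup G) = T1 := (Subgroup.eq_of_le_of_card_ge hQ (by
    rw [← Nat.card_congr (Sylow.equiv S Q).toEquiv, hS16]; exact hT1c.ge)).symm
  let ε : M16 ≃* (Q : Subgroup G) := e.symm.trans (Sylow.equiv S Q)
  let F : E → {x : M16 // x ∈ ({1, zz, tt, uu} : Finset M16)} := fun v => ⟨ε.symm ⟨j v, hQ (hE1T ⟨v, v.2, rfl⟩)⟩, by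
    have h := center_cases (ε.symm ⟨j v, hQ (hE1T ⟨v, v.2, rfl⟩)⟩) fun y => by
      apply ε.injective
      rw [map_mul, map_mul, MulEquiv.apply_symm_apply]
      exact Subtype.ext (hcomm (ε y) (hQT ▸ (ε y).2) v v.2).eq
    simpa using h⟩
  have hFinj : Function.Injective F := fun v w h => by
    have := congrArg (fun x : M16 => ((ε x : (Q : Subgroup G)) : G)) (congrArg Subtype.val h)
    simp [F] at this
    exact Subtype.ext (hjinj this)
  have h8 := Nat.card_le_card_of_injective F hFinj
  rw [hEcard, Nat.card_eq_fintype_card, Fintype.card_coe] at h8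
  exact four_lt h8

end Cfsg.Agent.S3309
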