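import Cfsg.Statements.S3311
import Cfsg.Agent.Lib.Transfer.NormalTwo.Main
-- import your own Cfsg.Agent.* helpers here

set_option autoImplicit false
open Cfsg

namespace Cfsg.Agent.S3311

/-- Let G be a non-abelian finite simple group with Sylow 2-subgroup T. Suppose every normal abelian subgroup of T is generated by two elements, some normal abelian subgroup of T is not cyclic (so the normal rank of T is exactly 2), and the normalizer N_G(T) is not contained in T·C_G(T). Then T has order 4, 64 or 128. -/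
theorem result {G : Type*} [Group G] [Finite G]
    [IsSimpleGroup G] (hna : ¬ IsMulCommutative G) (T : Sylow 2 G)
    (hd2 : ∀ A : Subgroup ↥T, A.Normal → IsMulCommutative ↥A → ∃ a b : ↥T, Subgroup.closure {a, b} = A)
    (hd2' : ∃ A : Subgroup ↥T, A.Normal ∧ IsMulCommutative ↥A ∧ ¬ IsCyclic ↥A)
    (hN : ¬ Subgroup.normalizer ((T : Subgroup G) : Set G) ≤ (T : Subgroup G) ⊔ Subgroup.centralizer ((T : Subgroup G) : Set G)) :
    Nat.card ↥T = 4 ∨ Nat.card ↥T = 64 ∨ Nat.card ↥T = 128 := by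
  obtain ⟨φ, hp, ho⟩ := Cfsg.Agent.Transfer.NTwo.exists_aut T hN
  refine Cfsg.Agent.Transfer.NTwo.main hna T (φ := φ) ⟨T.isPGroup', fun E hE h2 => ?_, hp, ho⟩
  have hc : ∀ a ∈ E, ∀ b ∈ E, a * b = b * a := fun a ha b hb => by
    have h1 := h2 _ (mul_mem ha hb)
    calc a * b = (a * b)⁻¹ := (inv_eq_of_mul_eq_one_right h1).symm
      _ = b⁻¹ * a⁻¹ := mul_inv_rev a b
      _ = b * a := by rw [inv_eq_of_mul_eq_one_right (h2 a ha), inv_eq_of_mul_eq_one_right (h2 b hb)]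
  obtain ⟨a, b, hab⟩ := hd2 E hE ⟨⟨fun x y => Subtype.ext (hc x x.2 y y.2)⟩⟩
  have haE : a ∈ E := hab ▸ Subgroup.subset_closure (Or.inl rfl)
  have hbE : b ∈ E := hab ▸ Subgroup.subset_closure (Or.inr rfl)
  let f : Fin 2 × Fin 2 → ↥E := fun p => ⟨a ^ (p.1 : ℕ) * b ^ (p.2 : ℕ), mul_mem (pow_mem haE _) (pow_mem hbE _)⟩
  have key : ∀ x ∈ E, ∃ i j : Fin 2, a ^ (i : ℕ) * b ^ (j : ℕ) = x := by
    intro x hx
    rw [← hab] at hx
    induction hx using Subgroup.closure_induction with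
    | mem x hx =>
      rcases hx with rfl | rfl
      · exact ⟨1, 0, by simp⟩
      · exact ⟨0, 1, by simp⟩
    | one => exact ⟨0, 0, by simp⟩
    | mul x y _ _ hx hy =>
      obtain ⟨i, j, rfl⟩ := hx
      obtain ⟨k, l, rfl⟩ := hy
      refine ⟨i + k, j + l, ?_⟩
      have e : ∀ c ∈ E, ∀ i k : Fin 2, c ^ ((i + k : Fin 2) : ℕ) = c ^ (i : ℕ) * c ^ (k : ℕ) := fun c hc' i k => by
        fin_cases i <;> fin_cases k <;> simp [h2 c hc']
      rw [e a haE, e b hbE]
      calc a ^ (i : ℕ) * a ^ (k : ℕ) * (b ^ (j : ℕ) * b ^ (l : ℕ))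
          = a ^ (i : ℕ) * (a ^ (k : ℕ) * b ^ (j : ℕ)) * b ^ (l : ℕ) := by group
        _ = a ^ (i : ℕ) * (b ^ (j : ℕ) * a ^ (k : ℕ)) * b ^ (l : ℕ) := by
          rw [hc _ (pow_mem haE (k : ℕ)) _ (pow_mem hbE (j : ℕ))]
        _ = _ := by group
    | inv x hx' hx =>
      obtain ⟨i, j, rfl⟩ := hx
      refine ⟨i, j, (inv_eq_of_mul_eq_one_right (h2 _ ?_)).symm⟩
      exact mul_mem (pow_mem haE _) (pow_mem hbE _)
  have hs : Function.Surjective f := fun ⟨x, hx⟩ => by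
    obtain ⟨i, j, e⟩ := key x hx
    exact ⟨(i, j), Subtype.ext e⟩
  exact (Nat.card_le_card_of_surjective f hs).trans (by simp)

end Cfsg.Agent.S3311
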