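import Cfsg.Statements.S3312
import Cfsg.Agent.Lib.Invol.ZStar
import Cfsg.Agent.Lib.Transfer.Burnside
-- import your own Cfsg.Agent.* helpers here

set_option autoImplicit false
open Cfsg Filter
open scoped Topology

namespace Cfsg.Agent.S3312

/-- A non-simplicity criterion by weak closure. Let T be a Sylow 2-subgroup of a finite group G, W a nontrivial subgroup of the centre of T that is weakly closed in T with respect to G, and t an involution of T outside W. Suppose that for every involution x in the coset Wt, W lies in O_{2',2}(C_G(x)), the preimage of O₂ of C_G(x)/O_{2'}(C_G(x)). Then G is not simple. -/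
theorem result {G : Type*} [Group G] [Finite G]
    (T : Sylow 2 G) (W : Subgroup G) (hW1 : W ≠ ⊥) (hWZ : W ≤ (T : Subgroup G) ⊓ Subgroup.centralizer ((T : Subgroup G) : Set G))
    (hwc : Cfsg.IsWeaklyClosed W (T : Subgroup G)) (t : G) (ht : orderOf t = 2) (htT : t ∈ (T : Subgroup G)) (htW : t ∉ W)
    (hcos : ∀ w ∈ W, orderOf (w * t) = 2 →
      W.subgroupOf (Subgroup.centralizer ({w * t} : Set G)) ≤ Cfsg.pPrimePCore 2 ↥(Subgroup.centralizer ({w * t} : Set G))) :
    ¬ IsSimpleGroup G := by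
  classical
  intro hsimple
  haveI : Fact (Nat.Prime 2) := ⟨Nat.prime_two⟩
  cases nonempty_fintype G
  have hWT : W ≤ (T : Subgroup G) := hwc.1
  have hWc : ∀ w ∈ W, ∀ a ∈ (T : Subgroup G), a * w = w * a := fun w hw a ha =>
    (Subgroup.mem_centralizer_iff.1 (hWZ hw).2 a ha)
  have htt := Invol.mul_self_of_orderOf_two ht
  -- conjugates of elements of `W` in 2-groups over `W`
  have hA : ∀ P' : Subgroup G, IsPGroup 2 P' → W ≤ P' → ∀ w ∈ W, ∀ g : G, g * w * g⁻¹ ∈ P' →
      g * w * g⁻¹ ∈ W := by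
    intro P' hP' hWP w hw g hg
    obtain ⟨h, hh⟩ := Invol.exists_conj_subset_sylow hP' T
    have hWeq : W.map (MulAut.conj h).toMonoidHom = W := hwc.2 h (by
      rintro _ ⟨v, hv, rfl⟩; exact hh v (hWP hv))
    have hy : (h * g) * w * (h * g)⁻¹ ∈ (T : Subgroup G) := by
      rw [show (h * g) * w * (h * g)⁻¹ = h * (g * w * g⁻¹) * h⁻¹ by group]; exact hh _ hg
    obtain ⟨n, hn, he⟩ := Transfer.exists_normalizer_conj_of_weaklyClosed T
      (fun v hv => (hWZ hv).2) hwc (hWT hw) hy
    have hmem : h * (g * w * g⁻¹) * h⁻¹ ∈ W := by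
      rw [show h * (g * w * g⁻¹) * h⁻¹ = (h * g) * w * (h * g)⁻¹ by group, ← he]
      exact (Subgroup.mem_normalizer_iff.1 hn w).1 hw
    rw [← hWeq] at hmem
    obtain ⟨v, hv, hve⟩ := hmem
    rwa [← (MulAut.conj h).injective hve]
  -- the involution
  obtain ⟨w₀, hw₀, hw₀2⟩ : ∃ w ∈ W, orderOf w = 2 := by
    refine Invol.exists_orderOf_two_mem ?_
    obtain ⟨k, hk⟩ := IsPGroup.iff_card.1 (T.isPGroup'.to_le hWT)
    rcases Nat.eq_zero_or_pos k with rfl | hk0
    · exact absurd (Subgroup.card_eq_one.1 (by simpa using hk)) hW1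
    · rw [hk, even_iff_two_dvd]; exact dvd_pow_self 2 hk0.ne'
  have hloc : ∀ x : G, x ∈ (T : Subgroup G) → ∀ g : G, g * w₀ * g⁻¹ ∈ Subgroup.centralizer ({x} : Set G) →
      ∃ h ∈ Subgroup.centralizer ({x} : Set G), h * (g * w₀ * g⁻¹) * h⁻¹ ∈ W := by
    intro x hx g hg
    set H := Subgroup.centralizer ({x} : Set G)
    have hWH : W ≤ H := fun v hv => Subgroup.mem_centralizer_singleton_iff.2 (hWc v hv x hx).symm
    have hp : IsPGroup 2 (W.subgroupOf H) :=
      (T.isPGroup'.to_le hWT).of_equiv (Subgroup.subgroupOfEquivOfLe hWH).symm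
    obtain ⟨P, hP⟩ := hp.exists_le_sylow
    obtain ⟨h, hh⟩ := Invol.exists_conj_mem_sylow (G := H) (n := 1) (x := ⟨_, hg⟩)
      (by rw [Subgroup.orderOf_mk, Invol.orderOf_conj_eq, hw₀2, pow_one]) P
    refine ⟨h, h.2, ?_⟩
    have := hA ((P : Subgroup H).map H.subtype) (P.isPGroup'.map _)
      (fun v hv => ⟨⟨v, hWH hv⟩, hP hv, rfl⟩) w₀ hw₀ ((h : G) * g)
      ⟨_, hh, by simp [mul_assoc]⟩
    rwa [show (h : G) * (g * w₀ * g⁻¹) * (h : G)⁻¹ = (h : G) * g * w₀ * ((h : G) * g)⁻¹ by group]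
  obtain ⟨M, hM⟩ := Cfsg.Agent.Char.exists_isPModular 2 Nat.prime_two
  -- the involutions of `W t`
  let good : G → Prop := fun x => orderOf x = 2 ∧ ∃ v ∈ W, x = v * t
  have hgoodT : ∀ x, good x → x ∈ (T : Subgroup G) ∧ x ∉ W := by
    rintro x ⟨-, v, hv, rfl⟩
    exact ⟨mul_mem (hWT hv) htT, fun h => htW ((Subgroup.mul_mem_cancel_left _ hv).1 h)⟩
  have hstep : ∀ x, good x → ∀ g : G, ∃ x', good x' ∧
      ∀ χ : IrrCharacter G, χ ∈ principalBlock M G → (χ : G → ℂ) (x * (g * w₀ * g⁻¹)) = (χ : G → ℂ) x' := by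
    intro x hx g
    obtain ⟨hxT, hxW⟩ := hgoodT x hx
    set u := g * w₀ * g⁻¹ with hu
    have hu2 : orderOf u = 2 := by rw [hu, Invol.orderOf_conj_eq, hw₀2]
    obtain ⟨a, b, hb, hab⟩ := Nat.exists_eq_two_pow_mul_odd (orderOf_pos (x * u)).ne'
    obtain ⟨d, -, hd, hord⟩ := Invol.exists_conj_two_part hx.1 hu2 hab hb
    set z := (x * u) ^ b with hz
    set y := x * z with hy
    have hxx := Invol.mul_self_of_orderOf_two hx.1
    have hy2 : orderOf y = 2 := by rw [← hd, Invol.orderOf_conj_eq, hu2]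
    have hyconj : y = (d * g) * w₀ * (d * g)⁻¹ := by rw [← hd, hu]; group
    have hxy : Commute x y := by
      have hP := Invol.isPGroup_closure_pair (a := a) hx.1 hy2 (by rw [hy, ← mul_assoc, hxx, one_mul, hord])
      obtain ⟨h, hh⟩ := Invol.exists_conj_subset_sylow hP T
      have h1 := hh x Invol.left_mem_closure_pair
      have h2 := hh y Invol.right_mem_closure_pair
      have h3 : h * y * h⁻¹ ∈ W := by
        rw [hyconj, show h * (d * g * w₀ * (d * g)⁻¹) * h⁻¹ = (h * d * g) * w₀ * (h * d * g)⁻¹ by group]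
        refine hA T T.isPGroup' hWT w₀ hw₀ _ ?_
        rw [show (h * d * g) * w₀ * (h * d * g)⁻¹ = h * (d * g * w₀ * (d * g)⁻¹) * h⁻¹ by group, ← hyconj]
        exact h2
      have h4 := hWc _ h3 _ h1
      simp only [conj_mul] at h4
      exact mul_left_cancel (mul_right_cancel h4)
    have hzz : z * z = 1 := by
      have hz' : z = x * y := by rw [hy, ← mul_assoc, hxx, one_mul]
      calc z * z = x * y * (x * y) := by rw [hz']
        _ = x * x * (y * y) := by rw [mul_assoc x y, ← mul_assoc y x y, ← hxy.eq, mul_assoc x y y]; simp [mul_assoc]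
        _ = 1 := by rw [hxx, Invol.mul_self_of_orderOf_two hy2, one_mul]
    have hz1 : z ≠ 1 := fun h1 => hxW (by
      have hyx : y = x := by rw [hy, h1, mul_one]
      rw [← hyx, hyconj]
      exact hA T T.isPGroup' hWT w₀ hw₀ _ (by rw [← hyconj, hyx]; exact hxT))
    have hz2 : orderOf z = 2 := orderOf_eq_prime (by rw [pow_two, hzz]) hz1
    have ha : a = 1 := by
      rw [hz2] at hord
      exact (Nat.pow_right_injective (le_refl 2) (show 2 ^ 1 = 2 ^ a by rw [pow_one, ← hord])).symm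
    subst ha
    -- move `z` into `W t`
    obtain ⟨h, hhC, hh⟩ := hloc x hxT (d * g) (by
      rw [← hyconj]; exact Subgroup.mem_centralizer_singleton_iff.2 hxy.eq.symm)
    rw [← hyconj] at hh
    have hhx : h * x * h⁻¹ = x := mul_inv_eq_iff_eq_mul.2 (Subgroup.mem_centralizer_singleton_iff.1 hhC)
    set x' := x * (h * y * h⁻¹) with hx'
    have hzx' : h * z * h⁻¹ = x' := by
      rw [hx']; conv_rhs => arg 1; rw [← hhx]
      rw [conj_mul, hy, ← mul_assoc x x z, hxx, one_mul]
    have hgood' : good x' := by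
      obtain ⟨-, v, hv, hxv⟩ := hx
      refine ⟨by rw [← hzx', Invol.orderOf_conj_eq, hz2], v * (h * y * h⁻¹), mul_mem hv hh, ?_⟩
      rw [hx', hxv, mul_assoc v t, hWc _ hh t htT, ← mul_assoc v]
    refine ⟨x', hgood', fun χ hχ => ?_⟩
    obtain ⟨hx'2, v', hv', hxv'⟩ := hgood'
    set H' := Subgroup.centralizer ({x'} : Set G)
    set L := pPrimePCore 2 H'
    haveI : (pCore 2 (H' ⧸ pPrimeCore 2 H')).Normal := Grp.pCore_isNormal
    haveI hLn : L.Normal := Subgroup.Normal.comap inferInstance _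
    have hxH' : x ∈ H' := Subgroup.mem_centralizer_singleton_iff.2 (by
      have : Commute x x' := (Commute.refl x).mul_right (hWc _ hh x hxT)
      exact this.eq)
    set u' := h * u * h⁻¹ with hu'
    have hxu' : x * u' = h * (x * u) * h⁻¹ := by
      rw [hu']; nth_rewrite 1 [← hhx]; rw [conj_mul]
    have hcz : Commute x z := by
      have : z = x * y := by rw [hy, ← mul_assoc, hxx, one_mul]
      rw [this]; exact (Commute.refl x).mul_right hxy
    have huz : Commute u z := by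
      have h1 : Commute (x * u) z := (Commute.refl (x * u)).pow_right b
      have h2 := hcz.mul_left h1
      rwa [← mul_assoc, hxx, one_mul] at h2
    have hu'H : u' ∈ H' := Subgroup.mem_centralizer_singleton_iff.2 (by
      rw [hu', ← hzx', conj_mul, conj_mul, huz.eq])
    obtain ⟨k, hkC, hk⟩ := hloc x' (hgoodT x' ⟨hx'2, v', hv', hxv'⟩).1 (h * g) (by
      rw [show h * g * w₀ * (h * g)⁻¹ = u' by rw [hu', hu]; group]; exact hu'H)
    rw [show h * g * w₀ * (h * g)⁻¹ = u' by rw [hu', hu]; group] at hk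
    have hWL : ∀ v ∈ W, ∀ hvH : v ∈ H', (⟨v, hvH⟩ : H') ∈ L := by
      have h1 := hcos v' hv' (hxv' ▸ hx'2)
      rw [← hxv'] at h1
      intro v hv hvH
      exact h1 hv
    set U : H' := ⟨u', hu'H⟩
    set X : H' := ⟨x, hxH'⟩
    set K : H' := ⟨k, hkC⟩
    have hUL : U ∈ L := by
      have h1 : K * U * K⁻¹ ∈ L := hWL _ hk (K * U * K⁻¹).2
      have := hLn.conj_mem _ h1 K⁻¹
      simpa [mul_assoc] using this
    have hsq : X * U * (X * U) ∈ L := by
      have h1 : X * U * X⁻¹ ∈ L := hLn.conj_mem U hUL X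
      have hXX : X⁻¹ = X := Subtype.ext (Invol.inv_of_orderOf_two hx.1)
      rw [show X * U * (X * U) = X * U * X⁻¹ * U by rw [hXX]; group]
      exact mul_mem h1 hUL
    have hsqO : X * U * (X * U) ∈ pPrimeCore 2 H' := by
      have hcoe : ((X * U * (X * U) : H') : G) = h * ((x * u) ^ 2) * h⁻¹ := by
        simp only [Subgroup.coe_mul, X, U, hxu', pow_two]; group
      have hordsq : orderOf (X * U * (X * U)) = b := by
        rw [← Subgroup.orderOf_coe, hcoe, Invol.orderOf_conj_eq, orderOf_pow' _ two_ne_zero, hab,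
          pow_one, Nat.gcd_eq_right (dvd_mul_right 2 b), Nat.mul_div_cancel_left _ two_pos]
      have hsq' : QuotientGroup.mk' (pPrimeCore 2 H') (X * U * (X * U)) ∈
          pCore 2 (H' ⧸ pPrimeCore 2 H') := Subgroup.mem_comap.1 hsq
      obtain ⟨j, hj⟩ := (Grp.pCore_isPGroup (p := 2) (G := H' ⧸ pPrimeCore 2 H')).exists_orderOf_eq_pow
        ⟨_, hsq'⟩
      rw [Subgroup.orderOf_mk] at hj
      refine (QuotientGroup.eq_one_iff _).1 (orderOf_eq_one_iff.1 (Nat.eq_one_of_dvd_coprimes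
        (Nat.Coprime.pow_left j (Nat.coprime_two_left.2 hb)) (dvd_of_eq hj) ?_))
      exact hordsq ▸ orderOf_map_dvd (QuotientGroup.mk' (pPrimeCore 2 H')) _
    obtain ⟨j, hj⟩ := hb
    set s : H' := ((X * U * (X * U)) ^ j)⁻¹ with hs
    have hsG : x' * (s : G) = h * (x * u) * h⁻¹ := by
      have e1 : ((X * U * (X * U) : H') : G) = (h * (x * u) * h⁻¹) ^ 2 := by
        simp only [Subgroup.coe_mul, X, U, hxu', pow_two]
      have e2 : x' = (h * (x * u) * h⁻¹) ^ (2 * j + 1) := by
        rw [← hzx', hz, hj, conj_pow]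
      rw [hs, Subgroup.coe_inv, Subgroup.coe_pow, e1, e2, ← pow_mul, pow_succ', mul_assoc,
        mul_inv_cancel, mul_one]
    have hval := ZStar.value_eq_of_core (z := x') hM ⟨1, by rw [hx'2, pow_one]⟩ (s := s)
      (inv_mem (pow_mem hsqO j)) hχ
    rw [hsG] at hval
    rw [← hval, Block.irr_classFun χ (x * u) h]
  -- characters
  set S := Finset.univ.filter (fun χ : IrrCharacter G => χ ∈ principalBlock M G) with hS
  have hint : ∀ χ : IrrCharacter G, ∀ x : G, x * x = 1 → ∃ n : ℤ, (χ : G → ℂ) x = n :=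
    fun χ x hx => Block.char_involution_int χ hx
  obtain ⟨a, ha⟩ : ∃ a : IrrCharacter G → ℤ, ∀ χ : IrrCharacter G, (χ : G → ℂ) w₀ = a χ :=
    ⟨fun χ => (hint χ w₀ (Invol.mul_self_of_orderOf_two hw₀2)).choose,
      fun χ => (hint χ w₀ (Invol.mul_self_of_orderOf_two hw₀2)).choose_spec⟩
  obtain ⟨e, he⟩ : ∃ e : IrrCharacter G → ℤ, ∀ χ : IrrCharacter G, (χ : G → ℂ) t = e χ :=
    ⟨fun χ => (hint χ t htt).choose, fun χ => (hint χ t htt).choose_spec⟩
  have hd : ∀ χ : IrrCharacter G, (χ : G → ℂ) 1 = (charDegree (χ : G → ℂ) : ℂ) :=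
    fun χ => Block.charDeg_spec' χ
  have hG : (Nat.card G : ℂ) ≠ 0 := Nat.cast_ne_zero.2 Nat.card_pos.ne'
  have hF : ∀ k : ℕ, ∀ x, good x →
      ∑ χ ∈ S, (χ : G → ℂ) 1 * ((χ : G → ℂ) w₀ / (χ : G → ℂ) 1) ^ k * (χ : G → ℂ) x = 0 := by
    intro k
    induction k with
    | zero =>
      intro x hx
      have h0 := Block.principal_pElem_orth hM (y := x) (x := 1) ⟨1, by rw [hx.1, pow_one]⟩ ⟨0, by simp⟩
        (fun hc => Invol.ne_one_of_orderOf_two hx.1 (isConj_one_left.1 hc))
      rw [Block.finsum_mem_block] at h0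
      rw [← h0]
      exact Finset.sum_congr rfl fun χ _ => by rw [pow_zero, hd, Complex.conj_natCast]; ring
    | succ k ih =>
      intro x hx
      choose f hf1 hf2 using hstep x hx
      calc ∑ χ ∈ S, (χ : G → ℂ) 1 * ((χ : G → ℂ) w₀ / (χ : G → ℂ) 1) ^ (k + 1) * (χ : G → ℂ) x
          = (Nat.card G : ℂ)⁻¹ * ∑ g : G, ∑ χ ∈ S,
              (χ : G → ℂ) 1 * ((χ : G → ℂ) w₀ / (χ : G → ℂ) 1) ^ k * (χ : G → ℂ) (f g) := by
            rw [Finset.sum_comm, Finset.mul_sum]
            refine Finset.sum_congr rfl fun χ hχ => ?_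
            rw [← Finset.mul_sum, Finset.sum_congr rfl fun g _ =>
              (hf2 g χ (Finset.mem_filter.1 hχ).2).symm, Block.sum_mul_conj χ x w₀, pow_succ]
            field_simp
        _ = 0 := by
            rw [Finset.sum_eq_zero fun g _ => ih (f g) (hf1 g), mul_zero]
  have hgoodt : good t := ⟨ht, 1, one_mem _, (one_mul t).symm⟩
  -- a character with `w₀` in its centre
  obtain ⟨χ, hχ1, hχ⟩ : ∃ χ : IrrCharacter G, χ ≠ Block.trivialIrr G ∧
      ‖(χ : G → ℂ) w₀‖ = ‖(χ : G → ℂ) 1‖ := by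
    by_contra hno
    push Not at hno
    set d : IrrCharacter G → ℝ := fun χ => (charDegree (χ : G → ℂ) : ℝ) with hddef
    have hreal : ∀ k : ℕ, ∑ χ ∈ S, d χ * ((a χ : ℝ) / d χ) ^ k * (e χ : ℝ) = 0 := by
      intro k
      refine Complex.ofReal_eq_zero.1 ?_
      rw [← hF k t hgoodt]
      push_cast
      exact Finset.sum_congr rfl fun χ _ => by rw [hd, ha, he]; simp [hddef]
    have hone : Block.trivialIrr G ∈ S :=
      Finset.mem_filter.2 ⟨Finset.mem_univ _, Block.trivial_mem_principalBlock hM⟩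
    have hlim : Tendsto (fun k : ℕ => ∑ χ ∈ S.erase (Block.trivialIrr G),
        d χ * ((a χ : ℝ) / d χ) ^ k * (e χ : ℝ)) atTop (𝓝 0) := by
      rw [show (0 : ℝ) = ∑ _χ ∈ S.erase (Block.trivialIrr G), (0 : ℝ) by simp]
      refine tendsto_finsetSum _ fun χ hχ => ?_
      have hlt : |(a χ : ℝ) / d χ| < 1 := by
        have hle := Cfsg.Agent.Char.IsChar.norm_le (Block.irr_isChar χ) w₀
        have hne := hno χ (Finset.ne_of_mem_erase hχ)
        have hlt := lt_of_le_of_ne hle hne
        rw [ha, hd, Complex.norm_intCast, Complex.norm_natCast] at hlt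
        have hpos : (0 : ℝ) < d χ := by simp only [hddef]; exact_mod_cast Block.charDeg_pos χ
        rw [abs_div, abs_of_pos hpos, div_lt_one hpos]
        exact hlt
      have := ((tendsto_pow_atTop_nhds_zero_of_abs_lt_one hlt).const_mul (d χ)).mul_const (e χ : ℝ)
      simpa using this
    have hval : ∀ k : ℕ, ∑ χ ∈ S.erase (Block.trivialIrr G),
        d χ * ((a χ : ℝ) / d χ) ^ k * (e χ : ℝ) = -1 := by
      intro k
      have h := hreal k
      rw [← Finset.add_sum_erase S _ hone] at h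
      have e1 : d (Block.trivialIrr G) = 1 := by
        have := hd (Block.trivialIrr G)
        rw [show ((Block.trivialIrr G : IrrCharacter G) : G → ℂ) 1 = 1 from rfl] at this
        simp only [hddef]
        exact_mod_cast this.symm
      have e2 : a (Block.trivialIrr G) = 1 := by
        have := ha (Block.trivialIrr G)
        rw [show ((Block.trivialIrr G : IrrCharacter G) : G → ℂ) w₀ = 1 from rfl] at this
        exact_mod_cast this.symm
      have e3 : e (Block.trivialIrr G) = 1 := by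
        have := he (Block.trivialIrr G)
        rw [show ((Block.trivialIrr G : IrrCharacter G) : G → ℂ) t = 1 from rfl] at this
        exact_mod_cast this.symm
      rw [e1, e2, e3] at h
      norm_num at h
      linarith
    simp only [hval] at hlim
    have := tendsto_nhds_unique (tendsto_const_nhds (x := (-1 : ℝ)) (f := (atTop : Filter ℕ))) hlim
    norm_num at this
  set K := Cfsg.Agent.Char.charKer (Block.irr_isChar χ) with hK
  have hKn : K.Normal := Cfsg.Agent.Char.charKer_normal _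
  have hKbot : K = ⊥ := (hsimple.eq_bot_or_eq_top_of_normal K hKn).resolve_right fun htop => hχ1 (by
    refine Subtype.ext (Cfsg.Agent.Char.eq_of_constituent_irr χ.2 Cfsg.Agent.Char.isIrr_one ?_)
    rw [classInner, Finset.sum_congr rfl (g := fun _ => (χ : G → ℂ) 1) fun g _ => by
      rw [(Cfsg.Agent.Char.mem_charKer (Block.irr_isChar χ)).1 (htop ▸ Subgroup.mem_top g : g ∈ K)]
      show _ * (starRingEnd ℂ) (1 : ℂ) = _
      rw [map_one, mul_one]]
    simp [Block.irr_one_ne_zero χ, Nat.card_pos.ne'])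
  have hcen : w₀ ∈ Subgroup.center G := Subgroup.mem_center_iff.2 fun g => by
    obtain ⟨n, ρ, hρ⟩ := Block.irr_isChar χ
    have h1 : ‖ρ.character w₀‖ = (Module.finrank ℂ (Fin n → ℂ) : ℝ) := by
      rw [hρ, hχ, ← hρ, Representation.char_one, Complex.norm_natCast]
    obtain ⟨c, hc⟩ := (Cfsg.Agent.Char.norm_character_eq_iff ρ w₀).1 h1
    have hcomm : ρ w₀ * ρ g = ρ g * ρ w₀ := by rw [hc]; ext x; simp
    have hmemK : w₀ * g * w₀⁻¹ * g⁻¹ ∈ K := by
      rw [hK, Cfsg.Agent.Char.mem_charKer, ← hρ, Representation.char_one,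
        Cfsg.Agent.Char.character_eq_finrank_iff, ← Module.End.one_eq_id]
      calc ρ (w₀ * g * w₀⁻¹ * g⁻¹) = ρ w₀ * ρ g * ρ (w₀⁻¹ * g⁻¹) := by
            rw [← map_mul, ← map_mul]; congr 1; group
        _ = 1 := by rw [hcomm, ← map_mul, ← map_mul, show g * w₀ * (w₀⁻¹ * g⁻¹) = 1 by group, map_one]
    rw [hKbot, Subgroup.mem_bot, mul_inv_eq_one, mul_inv_eq_iff_eq_mul] at hmemK
    exact hmemK.symm
  have hCtop : Subgroup.center G = ⊤ :=
    (hsimple.eq_bot_or_eq_top_of_normal _ inferInstance).resolve_left fun h =>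
      Invol.ne_one_of_orderOf_two hw₀2 (Subgroup.mem_bot.1 (h ▸ hcen))
  have hWn : W.Normal := ⟨fun v hv g => by
    rw [Subgroup.mem_center_iff.1 (hCtop.symm ▸ Subgroup.mem_top v) g, mul_inv_cancel_right]
    exact hv⟩
  rcases hsimple.eq_bot_or_eq_top_of_normal W hWn with h | h
  · exact hW1 h
  · exact htW (h ▸ Subgroup.mem_top t)

end Cfsg.Agent.S3312
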