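import Cfsg.Statements.S3315
import Mathlib
import Cfsg.Agent.Lib.Recog.SU3SylowMulAut
-- import your own Cfsg.Agent.* helpers here

set_option autoImplicit false
open Cfsg

namespace Cfsg.Agent.S3315

/-- Let S be a Sylow 2-subgroup of SU₃(2ⁿ), n ≥ 2 (realised over the field with 4ⁿ elements). If a finite 2-group R contains a subgroup S' of index 2 isomorphic to S, then the centre of S' is contained in the centre of R. -/
theorem result {R : Type*} [Group R] [Finite R]
    (hR : IsPGroup 2 R) (n : ℕ) (hn : 2 ≤ n) {F : Type*} [Field F] [Fintype F] (hF : Fintype.card F = 4 ^ n)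
    (P : Sylow 2 ↥(Cfsg.SU 3 F (2 ^ n))) (S' : Subgroup R) (hS : Nonempty (↥S' ≃* ↥(P : Subgroup ↥(Cfsg.SU 3 F (2 ^ n)))))
    (hidx : S'.index = 2) :
    (Subgroup.center ↥S').map S'.subtype ≤ Subgroup.center R := by
  have hF' : Fintype.card F = (2 ^ n) ^ 2 := by rw [hF, ← pow_mul, mul_comm, pow_mul]; norm_num
  haveI := Cfsg.Agent.Recog.SU3Two.charP_two (F := F) (m := n * 2) (hF'.trans (pow_mul 2 n 2).symm)
  haveI : Fact (Fintype.card F = (2 ^ n) ^ 2) := ⟨hF'⟩
  obtain ⟨e0⟩ := Cfsg.Agent.Recog.SU3Two.sylow_su (n := n) (q := 2 ^ n) rfl (by omega) P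
  obtain ⟨e1⟩ := hS
  let e := e0.trans e1.symm
  haveI hn' : S'.Normal := Subgroup.normal_of_index_eq_two hidx
  rintro _ ⟨z, hz, rfl⟩
  rw [Subgroup.mem_center_iff]
  intro r
  by_cases hr : r ∈ S'
  · exact congrArg Subtype.val (Subgroup.mem_center_iff.mp hz ⟨r, hr⟩)
  let c : MulAut S' := MulAut.conjNormal r
  let β : MulAut (Cfsg.Agent.Recog.SU3Two.UT F (2 ^ n)) := MulAut.congr e.symm c
  have hr2 : r * r ∈ S' := Subgroup.mul_self_mem_of_index_two hidx r
  have hβ : β * β = MulAut.conj (e.symm ⟨r * r, hr2⟩) := by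
    refine MulEquiv.ext fun u => ?_
    show e.symm (c (e (e.symm (c (e u))))) = e.symm ⟨r * r, hr2⟩ * u * (e.symm ⟨r * r, hr2⟩)⁻¹
    rw [e.apply_symm_apply, ← map_inv]
    apply e.injective
    rw [map_mul, map_mul, e.apply_symm_apply, e.apply_symm_apply, e.apply_symm_apply]
    refine Subtype.ext ?_
    simp only [c, MulAut.conjNormal_apply, Subgroup.coe_mul, Subgroup.coe_inv, mul_inv_rev, mul_assoc]
  have hza : (e.symm z).a = 0 := by
    rw [← Cfsg.Agent.Recog.SU3Two.UT.mem_center_iff, Subgroup.mem_center_iff]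
    intro g
    apply e.injective
    rw [map_mul, map_mul, e.apply_symm_apply]
    exact Subgroup.mem_center_iff.mp hz (e g)
  have hfix : β (e.symm z) = e.symm z := by
    rw [← Cfsg.Agent.Recog.SU3Two.z_toFx (e.symm z) hza]
    exact Cfsg.Agent.Recog.SU3Two.fix_center_of_sq hβ _
  have hfix' : e.symm (c (e (e.symm z))) = e.symm z := hfix
  rw [e.apply_symm_apply] at hfix'
  have := congrArg Subtype.val (e.symm.injective hfix')
  simp only [c, MulAut.conjNormal_apply] at this
  exact mul_inv_eq_iff_eq_mul.mp this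

end Cfsg.Agent.S3315
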