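import Cfsg.Statements.S3324
import Cfsg.Agent.Lib.Transfer.SpFourLocal.Build
-- import your own Cfsg.Agent.* helpers here

set_option autoImplicit false
open Cfsg

namespace Cfsg.Agent.S3324

open Cfsg.Agent.Transfer.SpFourLocal
open Multiplicative (ofAdd toAdd)

/-- Let p be an odd prime and q = pⁿ with q ≡ 3 (mod 4), and let C₀ be the centralizer in PSp(4, q) of an element x of order p lying in the centre of a Sylow p-subgroup. Let G be a finite group with an element α of order p such that C_G(α) ≅ C₀, such that C_G(z) = C_G(α) for every nontrivial z in the centre of C_G(α), and in which not all elements of order p that are central in some Sylow p-subgroup are conjugate. Let P be a Sylow p-subgroup of G contained in C_G(α) (P has order q⁴) and M an elementary abelian subgroup of P of order q³. If N_G(M) does not have a normal Sylow p-subgroup, then M has a complement J in N_G(M) with J isomorphic to PGL(2, q) × C, C cyclic of order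 (q − 1)/2. -/
theorem result
    {G : Type*} [Group G] [Finite G] {F : Type*} [Field F] [Fintype F] (p n : ℕ) [Fact p.Prime] (hp : p ≠ 2)
    (hn : 1 ≤ n) (hq4 : p ^ n % 4 = 3) (hF : Fintype.card F = p ^ n)
    (x : Cfsg.PSp 2 F) (hx : orderOf x = p) (Px : Sylow p (Cfsg.PSp 2 F)) (hxP : x ∈ (Px : Subgroup (Cfsg.PSp 2 F)))
    (hxc : ∀ y ∈ (Px : Subgroup (Cfsg.PSp 2 F)), y * x = x * y)
    (α : G) (hα : orderOf α = p)
    (e : ↥(Subgroup.centralizer ({α} : Set G)) ≃* ↥(Subgroup.centralizer ({x} : Set (Cfsg.PSp 2 F))))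
    (hb : ∀ z ∈ Subgroup.centralizer ({α} : Set G), z ≠ 1 → (∀ c ∈ Subgroup.centralizer ({α} : Set G), c * z = z * c) →
      Subgroup.centralizer ({z} : Set G) = Subgroup.centralizer ({α} : Set G))
    (hc : ∃ (u v : G) (Pu Pv : Sylow p G), orderOf u = p ∧ orderOf v = p ∧
      u ∈ (Pu : Subgroup G) ∧ (∀ y ∈ (Pu : Subgroup G), y * u = u * y) ∧
      v ∈ (Pv : Subgroup G) ∧ (∀ y ∈ (Pv : Subgroup G), y * v = v * y) ∧ ∀ g : G, g * u * g⁻¹ ≠ v)
    (P : Sylow p G) (hP : (P : Subgroup G) ≤ Subgroup.centralizer ({α} : Set G))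
    (M : Subgroup G) (hMP : M ≤ P) (hMc : IsMulCommutative ↥M) (hMe : ∀ m ∈ M, m ^ p = 1) (hMcard : Nat.card ↥M = p ^ (3 * n))
    (hnc : ∃ Q R : Sylow p ↥(Subgroup.normalizer (M : Set G)), Q ≠ R) :
    ∃ J : Subgroup G, J ≤ Subgroup.normalizer (M : Set G) ∧ M ⊔ J = Subgroup.normalizer (M : Set G) ∧ M ⊓ J = ⊥ ∧
      Nonempty (↥J ≃* (Matrix.ProjGenLinGroup (Fin 2) F × Multiplicative (ZMod ((p ^ n - 1) / 2)))) := by
  classical
  have hcard : Nat.card F = p ^ n := by rw [Nat.card_eq_fintype_card, hF]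
  haveI : CharP F p := charP_of_card_eq_prime_pow (p := p) hF
  have h2 : (2 : F) ≠ 0 := by
    intro e0
    have := (CharP.cast_eq_zero_iff F p 2).1 (by exact_mod_cast e0)
    exact hp ((Nat.prime_dvd_prime_iff_eq Fact.out Nat.prime_two).1 this)
  obtain ⟨g₀, c₀, hc₀, hg₀⟩ := exists_conj_transvection h2 hcard hx Px hxP hxc
  -- the centralizer of `α` is that of the standard transvection
  set Cα := Subgroup.centralizer ({α} : Set G)
  let e₁ : ↥(Subgroup.centralizer ({x} : Set (Cfsg.PSp 2 F))) ≃* ↥(cenT F c₀) :=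
    ((MulAut.conj g₀).subgroupMap (Subgroup.centralizer ({x} : Set (Cfsg.PSp 2 F)))).trans
      (MulEquiv.subgroupCongr (by
        ext y
        constructor
        · rintro ⟨z, hz, rfl⟩
          rw [SetLike.mem_coe, Subgroup.mem_centralizer_singleton_iff] at hz
          rw [Subgroup.mem_centralizer_singleton_iff, ← hg₀]
          show g₀ * z * g₀⁻¹ * (g₀ * x * g₀⁻¹) = g₀ * x * g₀⁻¹ * (g₀ * z * g₀⁻¹)
          rw [show g₀ * z * g₀⁻¹ * (g₀ * x * g₀⁻¹) = g₀ * (z * x) * g₀⁻¹ by group, hz]; group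
        · intro hy
          rw [Subgroup.mem_centralizer_singleton_iff, ← hg₀] at hy
          refine ⟨g₀⁻¹ * y * g₀, ?_, by simp [mul_assoc]⟩
          rw [SetLike.mem_coe, Subgroup.mem_centralizer_singleton_iff]
          calc g₀⁻¹ * y * g₀ * x = g₀⁻¹ * (y * (g₀ * x * g₀⁻¹)) * g₀ := by group
            _ = x * (g₀⁻¹ * y * g₀) := by rw [hy]; group))
  let e₂ : ↥Cα ≃* ↥(cenT F c₀) := e.trans e₁
  obtain ⟨S, hS⟩ := exists_sylow_cenT (p := p) hn h2 hcard hc₀
  obtain ⟨g₁, hg₁⟩ := MulAction.exists_smul_eq (↥(cenT F c₀)) ((P.subtype hP).mapSurjective (f := e₂.toMonoidHom) e₂.surjective) S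
  let ψ : ↥Cα ≃* ↥(cenT F c₀) := e₂.trans (MulAut.conj g₁)
  let φ : ↥(cenT F c₀) →* G := Cα.subtype.comp ψ.symm.toMonoidHom
  have hφ : Function.Injective φ := Subtype.val_injective.comp ψ.symm.injective
  have hφC : ∀ y, φ y ∈ Cα := fun y => (ψ.symm y).2
  have hψP : ∀ g : ↥Cα, (g : G) ∈ (P : Subgroup G) ↔ (ψ g : Cfsg.PSp 2 F) ∈ uU (F := F) := by
    intro g
    rw [← Subgroup.mem_subgroupOf (K := cenT F c₀), ← hS, ← hg₁, Sylow.coe_subgroup_smul]
    constructor
    · intro hg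
      exact ⟨e₂ g, ⟨g, by simpa [Subgroup.mem_subgroupOf] using hg, rfl⟩, rfl⟩
    · rintro ⟨_, ⟨y, hy, rfl⟩, hyg⟩
      have : y = g := ψ.injective hyg
      subst this
      simpa [Subgroup.mem_subgroupOf] using hy
  let mu : Multiplicative (V F) →* G := φ.comp ((muP (F := F)).codRestrict (cenT F c₀) (fun v => mem_cenT_mu c₀ (toAdd v)))
  let xi : Multiplicative F →* G := φ.comp ((xiP (F := F)).codRestrict (cenT F c₀) (fun c => mem_cenT_xi c₀ (toAdd c)))
  let tau : Fˣ →* G := φ.comp ((tauP (F := F)).codRestrict (cenT F c₀) (fun t => mem_cenT_tau c₀ t))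
  have hmu : Function.Injective mu := fun a b hab =>
    muP_injective (congrArg Subtype.val (hφ hab))
  have hPform : ∀ g, g ∈ (P : Subgroup G) ↔ ∃ v c, g = mu (ofAdd v) * xi (ofAdd c) := by
    intro g
    constructor
    · intro hg
      obtain ⟨v, c, hvc⟩ := (hψP ⟨g, hP hg⟩).1 hg
      refine ⟨v, c, ?_⟩
      rw [show mu (ofAdd v) * xi (ofAdd c) = φ (⟨_, mem_cenT_mu c₀ v⟩ * ⟨_, mem_cenT_xi c₀ c⟩) from (map_mul φ _ _).symm]
      rw [show (⟨_, mem_cenT_mu c₀ v⟩ * ⟨_, mem_cenT_xi c₀ c⟩ : ↥(cenT F c₀)) = ψ ⟨g, hP hg⟩ from Subtype.ext hvc.symm]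
      show g = ((ψ.symm (ψ ⟨g, hP hg⟩) : ↥Cα) : G)
      rw [MulEquiv.symm_apply_apply]
    · rintro ⟨v, c, rfl⟩
      rw [show mu (ofAdd v) * xi (ofAdd c) = φ (⟨_, mem_cenT_mu c₀ v⟩ * ⟨_, mem_cenT_xi c₀ c⟩) from (map_mul φ _ _).symm]
      refine (hψP (ψ.symm _)).2 ?_
      rw [MulEquiv.apply_symm_apply]
      exact ⟨v, c, rfl⟩
  have hPcard : Nat.card (P : Subgroup G) = Nat.card F ^ 4 := by
    rw [← card_uU (F := F), ← Nat.card_congr (Subgroup.subgroupOfEquivOfLe hP).toEquiv,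
      ← Nat.card_congr (Subgroup.subgroupOfEquivOfLe (uU_le_cenT c₀)).toEquiv]
    refine Nat.card_congr (Equiv.subtypeEquiv ψ.toEquiv fun g => ?_)
    rw [Subgroup.mem_subgroupOf, Subgroup.mem_subgroupOf]
    exact hψP g
  -- the radical is `M`
  set A := ((M.subgroupOf Cα).map ψ.toMonoidHom).map (cenT F c₀).subtype with hA
  have hMC : M ≤ Cα := hMP.trans hP
  have hAeq : A = (muP (F := F)).range := by
    refine eq_radical h2 A ?_ ?_ ?_
    · rintro _ ⟨_, ⟨g, hg, rfl⟩, rfl⟩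
      exact (hψP g).1 (hMP hg)
    · refine ⟨⟨fun a b => ?_⟩⟩
      obtain ⟨_, _, ⟨u, hu, rfl⟩, rfl⟩ := a
      obtain ⟨_, _, ⟨v, hv, rfl⟩, rfl⟩ := b
      have huv' : (u : G) * v = v * u := congrArg Subtype.val (hMc.is_comm.comm ⟨(u : G), hu⟩ ⟨(v : G), hv⟩)
      have huv : u * v = v * u := Subtype.ext huv'
      refine Subtype.ext ?_
      show ((ψ u : ↥(cenT F c₀)) : Cfsg.PSp 2 F) * (ψ v : ↥(cenT F c₀)) = (ψ v : ↥(cenT F c₀)) * (ψ u : ↥(cenT F c₀))
      rw [← Subgroup.coe_mul, ← map_mul, huv, map_mul, Subgroup.coe_mul]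
    · rw [hA, Subgroup.card_map_of_injective (cenT F c₀).subtype_injective,
        Subgroup.card_map_of_injective ψ.injective, Nat.card_congr (Subgroup.subgroupOfEquivOfLe hMC).toEquiv,
        hMcard, hcard, ← pow_mul, mul_comm 3]
  have hMeq : mu.range = M := by
    refine le_antisymm ?_ fun g hg => ?_
    · rintro _ ⟨v, rfl⟩
      have : muP v ∈ A := hAeq ▸ ⟨v, rfl⟩
      obtain ⟨_, ⟨y, hy, rfl⟩, hyv⟩ := this
      have he : mu v = (y : G) := by
        show ((ψ.symm _ : ↥Cα) : G) = y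
        rw [show ((muP (F := F)).codRestrict (cenT F c₀) (fun v => mem_cenT_mu c₀ (toAdd v))) v = ψ y from
          Subtype.ext hyv.symm, MulEquiv.symm_apply_apply]
      rw [he]; exact hy
    · have : ((ψ ⟨g, hMC hg⟩ : ↥(cenT F c₀)) : Cfsg.PSp 2 F) ∈ (muP (F := F)).range :=
        hAeq ▸ ⟨_, ⟨_, hg, rfl⟩, rfl⟩
      obtain ⟨v, hv⟩ := this
      refine ⟨v, ?_⟩
      show ((ψ.symm _ : ↥Cα) : G) = g
      rw [show ((muP (F := F)).codRestrict (cenT F c₀) (fun v => mem_cenT_mu c₀ (toAdd v))) v = ψ ⟨g, hMC hg⟩ from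
        Subtype.ext hv, MulEquiv.symm_apply_apply]
  subst hMeq
  have hconj1 : ∀ c v, xi (ofAdd c) * mu (ofAdd v) = mu (ofAdd (Xp c v)) * xi (ofAdd c) := fun c v => by
    show φ _ * φ _ = φ _ * φ _
    rw [← map_mul, ← map_mul]
    exact congrArg φ (Subtype.ext (xiP_conj c v))
  have hconj2 : ∀ t v, tau t * mu (ofAdd v) = mu (ofAdd (Dp 1 t v)) * tau t := fun t v => by
    show φ _ * φ _ = φ _ * φ _
    rw [← map_mul, ← map_mul]
    exact congrArg φ (Subtype.ext (tauP_conj t v))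
  have hnorm : ∀ g ∈ Cα, (∃ w, g * mu (ofAdd ((1, 0, 1) : V F)) = mu (ofAdd w) * g) →
      ∃ v c t, g = mu (ofAdd v) * xi (ofAdd c) * tau t := by
    rintro g hg ⟨w, hw⟩
    set y := ψ ⟨g, hg⟩ with hy
    have hgy : g = φ y := by
      show g = ((ψ.symm (ψ ⟨g, hg⟩) : ↥Cα) : G)
      rw [MulEquiv.symm_apply_apply]
    rw [hgy] at hw
    change φ y * φ _ = φ _ * φ y at hw
    rw [← map_mul, ← map_mul] at hw
    obtain ⟨v, c, t, hvct⟩ := centralizer_mem hc₀ h2 (Subgroup.mem_centralizer_singleton_iff.1 y.2)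
      ⟨w, congrArg Subtype.val (hφ hw)⟩
    refine ⟨v, c, t, ?_⟩
    rw [hgy]
    show φ y = φ _ * φ _ * φ _
    rw [← map_mul, ← map_mul]
    exact congrArg φ (Subtype.ext hvct)
  have hcent : ∀ z : F, z ≠ 0 →
      Subgroup.centralizer ({mu (ofAdd ((z, 0, 0) : V F))} : Set G) = Cα := by
    intro z hz
    refine hb _ (hφC _) (fun h1 => ?_) fun g hg => ?_
    · rw [← map_one mu] at h1
      exact hz (congrArg Prod.fst (ofAdd.injective (hmu h1 : ofAdd ((z, 0, 0) : V F) = ofAdd 0)))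
    · have hgy : g = φ (ψ ⟨g, hg⟩) := by
        show g = ((ψ.symm (ψ ⟨g, hg⟩) : ↥Cα) : G)
        rw [MulEquiv.symm_apply_apply]
      rw [hgy]
      show φ _ * φ _ = φ _ * φ _
      rw [← map_mul, ← map_mul]
      refine congrArg φ (Subtype.ext ?_)
      exact central_in_centralizer hc₀ z (Subgroup.mem_centralizer_singleton_iff.1 (ψ ⟨g, hg⟩).2)
  let D : Data G F p :=
    { mu := mu, xi := xi, tau := tau, C := Cα, P := P, mu_inj := hmu, xi_conj := hconj1,
      tau_conj := hconj2, P_le := hP, P_form := hPform, P_card := hPcard,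
      tau_mem := fun t => hφC _, norm_form := hnorm, cent := hcent, classes := hc, many := hnc }
  exact D.main hp hn hcard hq4

end Cfsg.Agent.S3324
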