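import Cfsg.Statements.S3332
import Cfsg.Agent.Lib.Local.CoreConsumers.Main
import Cfsg.Agent.Lib.Grp.Solvable
import Cfsg.Agent.S0205
import Cfsg.Agent.S1221

set_option autoImplicit false
open Cfsg Cfsg.Agent

namespace Cfsg.Agent.S3332

/-- Let G be a finite group of 2-rank at least 4 with O_{2'}(G) = 1 whose Sylow 2-subgroup S has a normal abelian subgroup of rank at least 3 that is its own centralizer in S. If the centralizer of every involution of G is solvable, then O_{2'}(C_G(t)) = 1 for every involution t of G. -/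
theorem result {G : Type*} [Group G] [Finite G]
    (hrank : ¬ Cfsg.PRankLE 2 3 G) (hO : Cfsg.oddCore G = ⊥) (S : Sylow 2 G)
    (A : Subgroup G) (hAS : A ≤ S) (hAn : (A.subgroupOf S).Normal) (hAc : IsMulCommutative A)
    (hAself : (S : Subgroup G) ⊓ Subgroup.centralizer (A : Set G) = A) (hA3 : ¬ Cfsg.PRankLE 2 2 A)
    (hsol : ∀ t : G, orderOf t = 2 → Group.IsSolvable (Subgroup.centralizer ({t} : Set G))) :
    ∀ t : G, orderOf t = 2 → Cfsg.oddCore (Subgroup.centralizer ({t} : Set G)) = ⊥ := by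
  haveI : Fact (Nat.Prime 2) := ⟨Nat.prime_two⟩
  have hnc : ¬ Cfsg.IsComponentType G := by
    rintro ⟨t, ht, K, hK⟩
    haveI := hsol t ht
    exact Cfsg.Agent.Grp.IsQuasisimple.not_isSolvable hK.2 inferInstance
  have h2c := CoreConsumers.constrained_locals fun t ht => (CoreConsumers.constrained_of_not_componentType hnc ht).2
  have hcomm : ∀ a b : ↥(S : Subgroup G), (a : G) ∈ A → (b : G) ∈ A → Commute a b := fun a b ha hb =>
    Subtype.ext (congrArg Subtype.val (hAc.is_comm.comm ⟨a, ha⟩ ⟨b, hb⟩) : _)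
  let E₀ : Subgroup ↥(S : Subgroup G) :=
    { carrier := {a | (a : G) ∈ A ∧ a ^ 2 = 1}
      mul_mem' := fun {a b} ha hb =>
        ⟨A.mul_mem ha.1 hb.1, by rw [(hcomm a b ha.1 hb.1).mul_pow, ha.2, hb.2, one_mul]⟩
      one_mem' := ⟨A.one_mem, one_pow 2⟩
      inv_mem' := fun {a} ha => ⟨A.inv_mem ha.1, by rw [inv_pow, ha.2, inv_one]⟩ }
  have hE : Cfsg.IsElementaryAbelian 2 E₀ :=
    ⟨⟨⟨fun a b => Subtype.ext (hcomm a b a.2.1 b.2.1).eq⟩⟩, fun a ha => ha.2⟩
  haveI : E₀.Normal := ⟨fun a ha g => ⟨hAn.conj_mem a ha.1 g, by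
    rw [conj_pow, ha.2, mul_one, mul_inv_cancel]⟩⟩
  have h4 : 4 < Nat.card E₀ := by
    obtain ⟨X, hX, hX2, hXc⟩ : ∃ X : Subgroup A, IsMulCommutative X ∧ (∀ a ∈ X, a ^ 2 = 1) ∧
        2 ^ 2 < Nat.card X := by
      simpa [Cfsg.PRankLE] using hA3
    let f : A →* ↥(S : Subgroup G) := Subgroup.inclusion hAS
    have h2 := Subgroup.card_le_of_le (show X.map f ≤ E₀ by
      rintro _ ⟨x, hx, rfl⟩
      exact ⟨x.2, by rw [← map_pow, hX2 x hx, map_one]⟩)
    rw [Subgroup.card_map_of_injective (Subgroup.inclusion_injective hAS)] at h2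
    omega
  obtain ⟨k, hk⟩ := IsPGroup.iff_card.1 (S.isPGroup'.to_subgroup E₀)
  have h8 : 8 ≤ Nat.card E₀ := by
    rw [hk] at h4 ⊢
    rcases Nat.lt_or_ge k 3 with h | h
    · interval_cases k <;> omega
    · exact le_trans (by norm_num) (Nat.pow_le_pow_right two_pos h)
  intro t ht
  refine (Subgroup.map_eq_bot_iff_of_injective _ (Subgroup.centralizer ({t} : Set G)).subtype_injective).1 ?_
  exact CoreConsumers.core_trivial (fun M hM => Cfsg.Agent.S1221.result M hM)
    (fun K _ _ h => Cfsg.Agent.S0205.result h) hO h2c S (S0502.result S.isPGroup' E₀ hE.1 hE.2 h8)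
    (fun h => by
      have := h E₀ hE.1 hE.2
      omega) t ht

end Cfsg.Agent.S3332
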