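import Cfsg.Statements.S3335
import Mathlib
-- import your own Cfsg.Agent.* helpers here

set_option autoImplicit false
open Cfsg

namespace Cfsg.Agent.S3335

def rels (m : ℕ) : Set (FreeGroup (Fin m)) :=
  {g | ∃ i : Fin m, i.val = 0 ∧ g = FreeGroup.of i ^ 3} ∪
    {g | ∃ i : Fin m, 1 ≤ i.val ∧ g = FreeGroup.of i ^ 2} ∪
    {g | ∃ i j : Fin m, j.val = i.val + 1 ∧ g = (FreeGroup.of i * FreeGroup.of j) ^ 3} ∪
    {g | ∃ i j : Fin m, i.val + 1 < j.val ∧ g = (FreeGroup.of i * FreeGroup.of j) ^ 2}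

abbrev AP (m : ℕ) := PresentedGroup (rels m)

def xg (m i : ℕ) : AP m := if h : i < m then PresentedGroup.of (⟨i, h⟩ : Fin m) else 1

theorem xg_of {m i : ℕ} (h : i < m) : xg m i = PresentedGroup.of (⟨i, h⟩ : Fin m) := dif_pos h

theorem rel_one {m : ℕ} {r : FreeGroup (Fin m)} (h : r ∈ rels m) : PresentedGroup.mk (rels m) r = 1 :=
  PresentedGroup.one_of_mem h

theorem cube_zero {m : ℕ} (h : 0 < m) : xg m 0 ^ 3 = 1 := by
  rw [xg_of h]
  exact rel_one (Or.inl (Or.inl (Or.inl ⟨⟨0, h⟩, rfl, rfl⟩)))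

theorem sq_one {m i : ℕ} (hi : 1 ≤ i) (h : i < m) : xg m i * xg m i = 1 := by
  rw [xg_of h, ← pow_two]
  exact rel_one (Or.inl (Or.inl (Or.inr ⟨⟨i, h⟩, hi, rfl⟩)))

theorem cube_succ {m i : ℕ} (h : i + 1 < m) : (xg m i * xg m (i + 1)) ^ 3 = 1 := by
  rw [xg_of h, xg_of (show i < m by omega)]
  exact rel_one (Or.inl (Or.inr ⟨⟨i, by omega⟩, ⟨i + 1, h⟩, rfl, rfl⟩))

theorem sq_far {m i j : ℕ} (hij : i + 1 < j) (h : j < m) : (xg m i * xg m j) ^ 2 = 1 := by
  rw [xg_of h, xg_of (show i < m by omega)]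
  exact rel_one (Or.inr ⟨⟨i, by omega⟩, ⟨j, h⟩, hij, rfl⟩)

theorem far_comm {m i j : ℕ} (hi : 1 ≤ i) (hij : i + 1 < j) (h : j < m) : Commute (xg m i) (xg m j) := by
  have h1 := sq_far hij h
  have hi' := inv_eq_of_mul_eq_one_left (sq_one hi (show i < m by omega))
  have hj' := inv_eq_of_mul_eq_one_left (sq_one (show 1 ≤ j by omega) h)
  rw [pow_two] at h1
  show xg m i * xg m j = xg m j * xg m i
  rw [eq_inv_of_mul_eq_one_left h1, mul_inv_rev, hi', hj']

theorem far_zero {m j : ℕ} (hj : 2 ≤ j) (h : j < m) : xg m 0 * xg m j = xg m j * (xg m 0)⁻¹ := by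
  have h1 := sq_far (i := 0) (by omega : 0 + 1 < j) h
  have hj' := inv_eq_of_mul_eq_one_left (sq_one (show 1 ≤ j by omega) h)
  rw [pow_two] at h1
  rw [eq_inv_of_mul_eq_one_left h1, mul_inv_rev, hj']

theorem zero_one {m : ℕ} (h : 1 < m) :
    xg m 1 * xg m 0 * xg m 1 = (xg m 0)⁻¹ * xg m 1 * (xg m 0)⁻¹ := by
  have h1 := cube_succ (i := 0) (show 0 + 1 < m by omega)
  have hb := inv_eq_of_mul_eq_one_left (sq_one le_rfl h)
  rw [zero_add, pow_succ, pow_two] at h1
  calc xg m 1 * xg m 0 * xg m 1 = (xg m 0)⁻¹ * ((xg m 0 * xg m 1) * (xg m 0 * xg m 1) * (xg m 0 * xg m 1)) *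
        ((xg m 1)⁻¹ * (xg m 0)⁻¹) := by group
    _ = (xg m 0)⁻¹ * xg m 1 * (xg m 0)⁻¹ := by rw [h1, mul_one, hb, mul_assoc]

theorem zero_one' {m : ℕ} (h : 1 < m) : xg m 1 * (xg m 0)⁻¹ * xg m 1 = xg m 0 * xg m 1 * xg m 0 := by
  have h1 := congrArg (fun g => g⁻¹) (zero_one h)
  have hb := inv_eq_of_mul_eq_one_left (sq_one le_rfl h)
  simpa [mul_assoc, hb] using h1

theorem braid {m i : ℕ} (hi : 1 ≤ i) (h : i + 1 < m) :
    xg m (i + 1) * xg m i * xg m (i + 1) = xg m i * xg m (i + 1) * xg m i := by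
  have h1 := cube_succ h
  have ha := inv_eq_of_mul_eq_one_left (sq_one hi (show i < m by omega))
  have hb := inv_eq_of_mul_eq_one_left (sq_one (show 1 ≤ i + 1 by omega) h)
  rw [pow_succ, pow_two] at h1
  calc xg m (i + 1) * xg m i * xg m (i + 1) = (xg m i)⁻¹ *
        ((xg m i * xg m (i + 1)) * (xg m i * xg m (i + 1)) * (xg m i * xg m (i + 1))) *
        ((xg m (i + 1))⁻¹ * (xg m i)⁻¹) := by group
    _ = xg m i * xg m (i + 1) * xg m i := by rw [h1, mul_one, ha, hb, mul_assoc]

/-- Inclusion of the smaller presented group. -/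
noncomputable def incl (m : ℕ) : AP m →* AP (m + 1) :=
  PresentedGroup.toGroup (f := fun i : Fin m => xg (m + 1) i.val) (by
    rintro r (((⟨i, hi, rfl⟩ | ⟨i, hi, rfl⟩) | ⟨i, j, hij, rfl⟩) | ⟨i, j, hij, rfl⟩) <;>
      simp only [map_pow, map_mul, FreeGroup.lift_apply_of]
    · rw [hi]; exact cube_zero (by omega)
    · rw [pow_two]; exact sq_one hi (by omega)
    · rw [hij]; exact cube_succ (by omega)
    · exact sq_far hij (by omega))

theorem incl_xg {m i : ℕ} (h : i < m) : xg (m + 1) i ∈ (incl m).range :=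
  ⟨xg m i, by rw [xg_of h, incl, PresentedGroup.toGroup.of]⟩

/-- The product `x m * x (m - 1) * ... * x (m + 1 - d)`. -/
def chain (m : ℕ) : ℕ → AP (m + 1)
  | 0 => 1
  | d + 1 => chain m d * xg (m + 1) (m - d)

/-- Coset representatives. -/
def cw (m k : ℕ) : AP (m + 1) := chain m (m + 1 - k)

theorem cw_top (m : ℕ) : cw m (m + 1) = 1 := by simp [cw, chain]

theorem cw_step {m k : ℕ} (h : k ≤ m) : cw m k = cw m (k + 1) * xg (m + 1) k := by
  rw [cw, cw, show m + 1 - k = (m + 1 - (k + 1)) + 1 by omega, chain, show m - (m + 1 - (k + 1)) = k by omega]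

theorem cw_comm {m j : ℕ} (hj : 1 ≤ j) : ∀ d k, k + d = m + 1 → j + 1 < k → Commute (cw m k) (xg (m + 1) j) := by
  intro d
  induction d with
  | zero => intro k hk _; rw [show k = m + 1 by omega, cw_top]; exact Commute.one_left _
  | succ d ih =>
      intro k hk hjk
      rw [cw_step (show k ≤ m by omega)]
      exact (ih (k + 1) (by omega) (by omega)).mul_left (far_comm hj hjk (by omega)).symm

theorem cw_zero {m : ℕ} : ∀ d k, k + d = m + 1 → 2 ≤ k → ∀ h ∈ Subgroup.zpowers (xg (m + 1) 0),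
    cw m k * h * (cw m k)⁻¹ ∈ Subgroup.zpowers (xg (m + 1) 0) := by
  intro d
  induction d with
  | zero => intro k hk _ h hh; rw [show k = m + 1 by omega, cw_top]; simpa using hh
  | succ d ih =>
      intro k hk hk2 h hh
      rw [cw_step (show k ≤ m by omega), show cw m (k + 1) * xg (m + 1) k * h * (cw m (k + 1) * xg (m + 1) k)⁻¹ =
        cw m (k + 1) * (xg (m + 1) k * h * (xg (m + 1) k)⁻¹) * (cw m (k + 1))⁻¹ by group]
      refine ih (k + 1) (by omega) (by omega) _ ?_
      obtain ⟨i, rfl⟩ := Subgroup.mem_zpowers_iff.mp hh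
      rw [← conj_zpow, show xg (m + 1) k * xg (m + 1) 0 * (xg (m + 1) k)⁻¹ = (xg (m + 1) 0)⁻¹ by
        have h1 := far_zero hk2 (show k < m + 1 by omega)
        have h2 := sq_one (show 1 ≤ k by omega) (show k < m + 1 by omega)
        rw [inv_eq_of_mul_eq_one_left h2]
        calc xg (m + 1) k * xg (m + 1) 0 * xg (m + 1) k
            = xg (m + 1) k * (xg (m + 1) 0 * xg (m + 1) k) := mul_assoc _ _ _
          _ = (xg (m + 1) 0)⁻¹ := by rw [h1, ← mul_assoc, h2, one_mul]]
      exact zpow_mem (inv_mem (Subgroup.mem_zpowers _)) i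

theorem cw_shift {m j : ℕ} (hj : j ≤ m) : ∀ d k, k + d + 1 = j → 1 ≤ k →
    cw m k * xg (m + 1) j = xg (m + 1) (j - 1) * cw m k := by
  intro d
  induction d with
  | zero =>
      intro k hk h1
      obtain rfl : j = k + 1 := by omega
      rw [Nat.add_sub_cancel, cw_step (show k ≤ m by omega), cw_step hj, mul_assoc, mul_assoc, ← mul_assoc (xg (m + 1) (k + 1)),
        braid h1 (by omega), ← mul_assoc, ← mul_assoc,
        (cw_comm h1 (m + 1 - (k + 2)) (k + 2) (by omega) (by omega)).eq, mul_assoc, mul_assoc, mul_assoc]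
  | succ d ih =>
      intro k hk h1
      rw [cw_step (show k ≤ m by omega), mul_assoc, (far_comm h1 (show k + 1 < j by omega) (by omega)).eq,
        ← mul_assoc, ih (k + 1) (by omega) (by omega), mul_assoc]

def reps (m : ℕ) : Fin (m + 3) → AP (m + 1) := fun i =>
  if i.val ≤ m then cw m (i.val + 1)
  else if i.val = m + 1 then cw m 1 * xg (m + 1) 0 else cw m 1 * (xg (m + 1) 0)⁻¹

theorem reps_surj (m : ℕ) : ∀ g : AP (m + 1), ∃ h ∈ (incl m).range, ∃ i, g = h * reps m i := by
  set H := (incl m).range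
  let S : Set (AP (m + 1)) := {g | ∃ h ∈ H, ∃ i, g = h * reps m i}
  have hcw : ∀ k, 1 ≤ k → k ≤ m + 1 → ∀ h ∈ H, h * cw m k ∈ S := fun k h1 h2 h hh =>
    ⟨h, hh, ⟨k - 1, by omega⟩, by rw [reps, if_pos (show k - 1 ≤ m by omega)]; congr 2; show k = k - 1 + 1; omega⟩
  have h2 : ∀ h ∈ H, h * (cw m 1 * xg (m + 1) 0) ∈ S := fun h hh =>
    ⟨h, hh, ⟨m + 1, by omega⟩, by simp [reps]⟩
  have h1 : ∀ h ∈ H, h * (cw m 1 * (xg (m + 1) 0)⁻¹) ∈ S := fun h hh =>
    ⟨h, hh, ⟨m + 2, by omega⟩, by simp [reps]⟩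
  have hzero : 0 < m → Subgroup.zpowers (xg (m + 1) 0) ≤ H := fun hm =>
    Subgroup.zpowers_le.mpr (incl_xg hm)
  have hcube : (xg (m + 1) 0)⁻¹ * (xg (m + 1) 0)⁻¹ = xg (m + 1) 0 := by
    rw [← mul_inv_rev, inv_eq_iff_mul_eq_one, ← pow_two, ← pow_succ]; exact cube_zero (by omega)
  have hcube' : xg (m + 1) 0 * xg (m + 1) 0 = (xg (m + 1) 0)⁻¹ := by
    refine eq_inv_of_mul_eq_one_left ?_
    rw [← pow_two, ← pow_succ]; exact cube_zero (by omega)
  -- the generator zero
  have hS0 : ∀ g ∈ S, g * xg (m + 1) 0 ∈ S := by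
    rintro _ ⟨h, hh, ⟨i, hi⟩, rfl⟩
    rw [reps, mul_assoc]
    split_ifs with hc hc'
    · change i ≤ m at hc
      show h * (cw m (i + 1) * xg (m + 1) 0) ∈ S
      rcases Nat.eq_zero_or_pos i with rfl | hpos
      · exact h2 h hh
      · rw [show cw m (i + 1) * xg (m + 1) 0 = (cw m (i + 1) * xg (m + 1) 0 * (cw m (i + 1))⁻¹) * cw m (i + 1) by group,
          ← mul_assoc]
        exact hcw _ (by omega) (by omega) _ (mul_mem hh (hzero (show 0 < m by omega)
          (cw_zero (m + 1 - (i + 1)) (i + 1) (by omega) (by omega) _ (Subgroup.mem_zpowers _))))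
    · rw [mul_assoc, hcube']; exact h1 h hh
    · rw [mul_assoc, inv_mul_cancel, mul_one]; exact hcw 1 le_rfl (by omega) h hh
  have hSj : ∀ j, 1 ≤ j → j ≤ m → ∀ g ∈ S, g * xg (m + 1) j ∈ S := by
    intro j hj1 hjm
    rintro _ ⟨h, hh, ⟨i, hi⟩, rfl⟩
    have hsq := sq_one hj1 (show j < m + 1 by omega)
    rw [reps, mul_assoc]
    split_ifs with hc hc'
    · change i ≤ m at hc
      show h * (cw m (i + 1) * xg (m + 1) j) ∈ S
      rcases lt_trichotomy (j + 1) (i + 1) with hlt | heq | hgt
      · rw [(cw_comm hj1 (m + 1 - (i + 1)) (i + 1) (by omega) hlt).eq, ← mul_assoc]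
        exact hcw _ (by omega) (by omega) _ (mul_mem hh (incl_xg (show j < m by omega)))
      · rw [← heq, ← cw_step hjm]
        exact hcw j hj1 (by omega) h hh
      · rcases Nat.lt_or_ge (i + 1) j with hlt | hge
        · rw [cw_shift hjm (j - (i + 1) - 1) (i + 1) (by omega) (by omega), ← mul_assoc]
          exact hcw _ (by omega) (by omega) _ (mul_mem hh (incl_xg (show j - 1 < m by omega)))
        · have he : i + 1 = j := by omega
          rw [he, cw_step hjm, mul_assoc, hsq, mul_one]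
          exact hcw (j + 1) (by omega) (by omega) h hh
    · rcases Nat.lt_or_ge j 2 with hj | hj
      · obtain rfl : j = 1 := by omega
        rw [cw_step hjm, show cw m (1 + 1) * xg (m + 1) 1 * xg (m + 1) 0 * xg (m + 1) 1 =
          cw m 2 * (xg (m + 1) 1 * xg (m + 1) 0 * xg (m + 1) 1) by group, zero_one (by omega),
          show h * (cw m 2 * ((xg (m + 1) 0)⁻¹ * xg (m + 1) 1 * (xg (m + 1) 0)⁻¹)) =
          h * (cw m 2 * (xg (m + 1) 0)⁻¹ * (cw m 2)⁻¹) * (cw m 2 * xg (m + 1) 1 * (xg (m + 1) 0)⁻¹) by group,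
          ← cw_step (show 1 ≤ m by omega)]
        exact h1 _ (mul_mem hh (hzero (by omega) (cw_zero (m - 1) 2 (by omega) le_rfl _
          (inv_mem (Subgroup.mem_zpowers _)))))
      · rw [mul_assoc, far_zero hj (by omega), ← mul_assoc (cw m 1), cw_shift hjm (j - 2) 1 (by omega) le_rfl,
          mul_assoc (xg (m + 1) (j - 1)), ← mul_assoc h]
        exact h1 _ (mul_mem hh (incl_xg (show j - 1 < m by omega)))
    · rcases Nat.lt_or_ge j 2 with hj | hj
      · obtain rfl : j = 1 := by omega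
        rw [cw_step hjm, show cw m (1 + 1) * xg (m + 1) 1 * (xg (m + 1) 0)⁻¹ * xg (m + 1) 1 =
          cw m 2 * (xg (m + 1) 1 * (xg (m + 1) 0)⁻¹ * xg (m + 1) 1) by group, zero_one' (by omega),
          show h * (cw m 2 * (xg (m + 1) 0 * xg (m + 1) 1 * xg (m + 1) 0)) =
          h * (cw m 2 * xg (m + 1) 0 * (cw m 2)⁻¹) * (cw m 2 * xg (m + 1) 1 * xg (m + 1) 0) by group,
          ← cw_step (show 1 ≤ m by omega)]
        exact h2 _ (mul_mem hh (hzero (by omega) (cw_zero (m - 1) 2 (by omega) le_rfl _ (Subgroup.mem_zpowers _))))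
      · have hc0 : (xg (m + 1) 0)⁻¹ * xg (m + 1) j = xg (m + 1) j * xg (m + 1) 0 := by
          rw [inv_mul_eq_iff_eq_mul, ← mul_assoc, far_zero hj (by omega), inv_mul_cancel_right]
        rw [mul_assoc, hc0, ← mul_assoc (cw m 1), cw_shift hjm (j - 2) 1 (by omega) le_rfl,
          mul_assoc (xg (m + 1) (j - 1)), ← mul_assoc h]
        exact h2 _ (mul_mem hh (incl_xg (show j - 1 < m by omega)))
  intro g
  have hg : g ∈ Subgroup.closure (Set.range (PresentedGroup.of : Fin (m + 1) → AP (m + 1))) := by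
    rw [PresentedGroup.closure_range_of]; trivial
  have hinv : ∀ g ∈ S, ∀ j, j ≤ m → g * xg (m + 1) j ∈ S ∧ g * (xg (m + 1) j)⁻¹ ∈ S := by
    intro g hg j hj
    rcases Nat.eq_zero_or_pos j with rfl | hpos
    · exact ⟨hS0 g hg, by rw [← hcube', ← mul_assoc]; exact hS0 _ (hS0 g hg)⟩
    · exact ⟨hSj j hpos hj g hg, by rw [inv_eq_of_mul_eq_one_left (sq_one hpos (by omega))]; exact hSj j hpos hj g hg⟩
  show g ∈ S
  induction hg using Subgroup.closure_induction_right with
  | one => have := hcw (m + 1) (by omega) le_rfl 1 (one_mem _); rwa [cw_top, mul_one] at this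
  | mul_right x hx y hy ih =>
      obtain ⟨⟨j, hj⟩, rfl⟩ := hy
      rw [← xg_of hj]
      exact (hinv x ih j (by omega)).1
  | mul_inv_cancel x hx y hy ih =>
      obtain ⟨⟨j, hj⟩, rfl⟩ := hy
      rw [← xg_of hj]
      exact (hinv x ih j (by omega)).2

theorem card_le : ∀ m : ℕ, Finite (AP m) ∧ 2 * Nat.card (AP m) ≤ (m + 2).factorial := by
  intro m
  induction m with
  | zero =>
      have hall : ∀ g : AP 0, g = 1 := fun g => by
        induction g using PresentedGroup.induction_on with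
        | _ z => rw [Subsingleton.elim z 1, map_one]
      haveI : Subsingleton (AP 0) := ⟨fun a b => (hall a).trans (hall b).symm⟩
      exact ⟨inferInstance, by rw [Nat.card_unique]; decide⟩
  | succ m ih =>
      obtain ⟨hf, hc⟩ := ih
      let f : AP m × Fin (m + 3) → AP (m + 1) := fun x => incl m x.1 * reps m x.2
      have hs : Function.Surjective f := fun g => by
        obtain ⟨_, ⟨x, rfl⟩, i, rfl⟩ := reps_surj m g
        exact ⟨(x, i), rfl⟩
      refine ⟨Finite.of_surjective f hs, ?_⟩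
      have h := Nat.card_le_card_of_surjective f hs
      rw [Nat.card_prod, Nat.card_fin] at h
      calc 2 * Nat.card (AP (m + 1)) ≤ 2 * Nat.card (AP m) * (m + 3) := by rw [mul_assoc]; exact Nat.mul_le_mul_left 2 h
        _ ≤ (m + 2).factorial * (m + 3) := Nat.mul_le_mul_right _ hc
        _ = (m + 3).factorial := by rw [Nat.factorial_succ (m + 2)]; ring

open Equiv in
/-- The permutation images. -/
def gimg (m : ℕ) (i : Fin m) : Perm (Fin (m + 2)) :=
  swap 0 1 * (if i.val = 0 then swap 1 ⟨2, by have := i.isLt; omega⟩ else swap ⟨i.val + 1, by omega⟩ ⟨i.val + 2, by omega⟩)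

/-- A presentation of the alternating group of degree n ≥ 3 on generators x_1, …, x_{n−2} (indexed here by 0, …, n−3): the first generator cubes to 1, every other generator squares to 1, the product of two consecutive generators has order dividing 3, and the product of two generators at distance at least 2 has order dividing 2. The group so presented is isomorphic to the alternating group of degree n. -/
theorem result (n : ℕ) (hn : 3 ≤ n) :
    Nonempty (PresentedGroup
      ({g : FreeGroup (Fin (n - 2)) | ∃ i : Fin (n - 2), i.val = 0 ∧ g = FreeGroup.of i ^ 3} ∪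
       {g | ∃ i : Fin (n - 2), 1 ≤ i.val ∧ g = FreeGroup.of i ^ 2} ∪
       {g | ∃ i j : Fin (n - 2), j.val = i.val + 1 ∧ g = (FreeGroup.of i * FreeGroup.of j) ^ 3} ∪
       {g | ∃ i j : Fin (n - 2), i.val + 1 < j.val ∧ g = (FreeGroup.of i * FreeGroup.of j) ^ 2})
      ≃* alternatingGroup (Fin n)) := by
  classical
  obtain ⟨m, rfl⟩ : ∃ m, n = m + 2 := ⟨n - 2, by omega⟩
  change Nonempty (AP m ≃* alternatingGroup (Fin (m + 2)))
  let a : Fin (m + 2) := 0
  let b : Fin (m + 2) := 1
  have hab : a ≠ b := by simp [a, b]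
  let p : ℕ → Fin (m + 2) := fun k => if h : k < m + 2 then ⟨k, h⟩ else 0
  have hp0 : p 0 = a := by simp [p, a]
  have hp1 : p 1 = b := by
    simp only [p, dif_pos (show 1 < m + 2 by omega)]; rfl
  have hpne : ∀ {i j : ℕ}, i < m + 2 → j < m + 2 → i ≠ j → p i ≠ p j := fun {i j} hi hj h => by
    simp [p, hi, hj, h]
  have hg : ∀ i : Fin m, gimg m i = Equiv.swap a b *
      (if i.val = 0 then Equiv.swap b (p 2) else Equiv.swap (p (i.val + 1)) (p (i.val + 2))) := fun i => by
    have := i.isLt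
    simp only [gimg, p, a, b, dif_pos (show 2 < m + 2 by omega), dif_pos (show i.val + 1 < m + 2 by omega),
      dif_pos (show i.val + 2 < m + 2 by omega)]
  have hdis : ∀ {u v w x : Fin (m + 2)}, u ≠ w → u ≠ x → v ≠ w → v ≠ x → Commute (Equiv.swap u v) (Equiv.swap w x) :=
    fun {u v w x} h1 h2 h3 h4 => by
      refine (Equiv.Perm.disjoint_iff_eq_or_eq.mpr fun z => ?_).commute
      by_cases hz : z = u ∨ z = v
      · right; rcases hz with rfl | rfl
        · exact Equiv.swap_apply_of_ne_of_ne h1 h2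
        · exact Equiv.swap_apply_of_ne_of_ne h3 h4
      · push Not at hz; left; exact Equiv.swap_apply_of_ne_of_ne hz.1 hz.2
  have hfar : ∀ {i : Fin m}, 1 ≤ i.val → gimg m i = Equiv.swap a b * Equiv.swap (p (i.val + 1)) (p (i.val + 2)) ∧
      Commute (Equiv.swap a b) (Equiv.swap (p (i.val + 1)) (p (i.val + 2))) := fun {i} hi => by
    refine ⟨by rw [hg, if_neg (show ¬ i.val = 0 by omega)], ?_⟩
    have := i.isLt
    rw [← hp0, ← hp1]
    exact hdis (hpne (by omega) (by omega) (by omega)) (hpne (by omega) (by omega) (by omega))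
      (hpne (by omega) (by omega) (by omega)) (hpne (by omega) (by omega) (by omega))
  have hzero : ∀ {i : Fin m}, i.val = 0 → gimg m i = Equiv.swap a b * Equiv.swap b (p 2) := fun {i} hi => by
    rw [hg, if_pos hi]
  have hrel : ∀ r ∈ rels m, FreeGroup.lift (gimg m) r = 1 := by
    rintro r (((⟨i, hi, rfl⟩ | ⟨i, hi, rfl⟩) | ⟨i, j, hij, rfl⟩) | ⟨i, j, hij, rfl⟩) <;>
      simp only [map_pow, map_mul, FreeGroup.lift_apply_of]
    · have := i.isLt
      rw [hzero hi, Equiv.swap_comm a b]
      have h3 := (Equiv.Perm.isThreeCycle_swap_mul_swap_same (a := b) (b := a) (c := p 2) hab.symm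
        (by rw [← hp1]; exact hpne (by omega) (by omega) (by omega))
        (by rw [← hp0]; exact hpne (by omega) (by omega) (by omega))).orderOf
      exact orderOf_dvd_iff_pow_eq_one.mp h3.dvd
    · obtain ⟨h1, h2⟩ := hfar hi
      rw [h1, h2.mul_pow, pow_two, pow_two, Equiv.swap_mul_self, Equiv.swap_mul_self, one_mul]
    · obtain ⟨hj1, hj2⟩ := hfar (i := j) (by omega)
      have := j.isLt
      rcases Nat.eq_zero_or_pos i.val with hi | hi
      · rw [hzero hi, hj1, hij, hi]
        have he : Equiv.swap a b * Equiv.swap b (p 2) * (Equiv.swap a b * Equiv.swap (p (0 + 1 + 1)) (p (0 + 1 + 2))) =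
            Equiv.swap (p 2) a * Equiv.swap (p 2) (p 3) := by
          rw [← mul_assoc]
          congr 1
          rw [show Equiv.swap a b * Equiv.swap b (p 2) * Equiv.swap a b = Equiv.swap a b * Equiv.swap b (p 2) * (Equiv.swap a b)⁻¹ by
            rw [Equiv.swap_inv], ← Equiv.swap_apply_apply, Equiv.swap_apply_right, Equiv.swap_apply_of_ne_of_ne
            (by rw [← hp0]; exact hpne (by omega) (by omega) (by omega))
            (by rw [← hp1]; exact hpne (by omega) (by omega) (by omega)), Equiv.swap_comm]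
        rw [he]
        have h3 := (Equiv.Perm.isThreeCycle_swap_mul_swap_same (a := p 2) (b := a) (c := p 3)
          (by rw [← hp0]; exact hpne (by omega) (by omega) (by omega)) (hpne (by omega) (by omega) (by omega))
          (by rw [← hp0]; exact hpne (by omega) (by omega) (by omega))).orderOf
        exact orderOf_dvd_iff_pow_eq_one.mp h3.dvd
      · obtain ⟨hi1, hi2⟩ := hfar hi
        rw [hi1, hj1, hij]
        have he : Equiv.swap a b * Equiv.swap (p (i.val + 1)) (p (i.val + 2)) *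
            (Equiv.swap a b * Equiv.swap (p (i.val + 1 + 1)) (p (i.val + 1 + 2))) =
            Equiv.swap (p (i.val + 2)) (p (i.val + 1)) * Equiv.swap (p (i.val + 2)) (p (i.val + 3)) := by
          rw [← mul_assoc, mul_assoc (Equiv.swap a b), ← hi2.eq, ← mul_assoc, Equiv.swap_mul_self, one_mul,
            Equiv.swap_comm (p (i.val + 1))]
        rw [he]
        have h3 := (Equiv.Perm.isThreeCycle_swap_mul_swap_same (a := p (i.val + 2)) (b := p (i.val + 1)) (c := p (i.val + 3))
          (hpne (by omega) (by omega) (by omega)) (hpne (by omega) (by omega) (by omega))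
          (hpne (by omega) (by omega) (by omega))).orderOf
        exact orderOf_dvd_iff_pow_eq_one.mp h3.dvd
    · obtain ⟨hj1, hj2⟩ := hfar (i := j) (by omega)
      have := j.isLt
      rcases Nat.eq_zero_or_pos i.val with hi | hi
      · rw [hzero hi, hj1]
        have he : Equiv.swap a b * Equiv.swap b (p 2) * Equiv.swap a b = Equiv.swap a (p 2) := by
          rw [show Equiv.swap a b * Equiv.swap b (p 2) * Equiv.swap a b = Equiv.swap a b * Equiv.swap b (p 2) * (Equiv.swap a b)⁻¹ by
            rw [Equiv.swap_inv], ← Equiv.swap_apply_apply, Equiv.swap_apply_right, Equiv.swap_apply_of_ne_of_ne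
            (by rw [← hp0]; exact hpne (by omega) (by omega) (by omega))
            (by rw [← hp1]; exact hpne (by omega) (by omega) (by omega))]
        rw [← mul_assoc, he, (show Commute (Equiv.swap a (p 2)) (Equiv.swap (p (j.val + 1)) (p (j.val + 2))) by
          rw [← hp0]
          exact hdis (hpne (by omega) (by omega) (by omega)) (hpne (by omega) (by omega) (by omega))
            (hpne (by omega) (by omega) (by omega)) (hpne (by omega) (by omega) (by omega))).mul_pow,
          pow_two, pow_two, Equiv.swap_mul_self, Equiv.swap_mul_self, one_mul]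
      · obtain ⟨hi1, hi2⟩ := hfar hi
        rw [hi1, hj1, ← mul_assoc, mul_assoc (Equiv.swap a b), ← hi2.eq, ← mul_assoc, Equiv.swap_mul_self, one_mul,
          (hdis (hpne (by omega) (by omega) (by omega)) (hpne (by omega) (by omega) (by omega))
            (hpne (by omega) (by omega) (by omega)) (hpne (by omega) (by omega) (by omega))).mul_pow,
          pow_two, pow_two, Equiv.swap_mul_self, Equiv.swap_mul_self, one_mul]
  let φ : AP m →* Equiv.Perm (Fin (m + 2)) := PresentedGroup.toGroup hrel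
  have hφ : ∀ i : Fin m, φ (PresentedGroup.of i) = gimg m i := fun i => PresentedGroup.toGroup.of hrel
  have hsign : ∀ i : Fin m, Equiv.Perm.sign (gimg m i) = 1 := fun i => by
    rw [hg, map_mul, Equiv.Perm.sign_swap hab]
    have := i.isLt
    split_ifs
    · rw [Equiv.Perm.sign_swap (by rw [← hp1]; exact hpne (by omega) (by omega) (by omega))]; rfl
    · rw [Equiv.Perm.sign_swap (hpne (by omega) (by omega) (by omega))]; rfl
  have hrange : φ.range ≤ alternatingGroup (Fin (m + 2)) := by
    rw [MonoidHom.range_eq_map, ← PresentedGroup.closure_range_of, MonoidHom.map_closure, Subgroup.closure_le]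
    rintro _ ⟨_, ⟨i, rfl⟩, rfl⟩
    rw [SetLike.mem_coe, Equiv.Perm.mem_alternatingGroup, hφ]
    exact hsign i
  -- the three-cycles `(0 1 k)`
  have hc : ∀ k, 2 ≤ k → k < m + 2 → Equiv.swap a b * Equiv.swap b (p k) ∈ φ.range := by
    intro k hk
    induction k, hk using Nat.le_induction with
    | base => intro h; exact ⟨PresentedGroup.of ⟨0, by omega⟩, by rw [hφ, hzero rfl]⟩
    | succ k hk ih =>
        intro h
        obtain ⟨y, hy⟩ := ih (by omega)
        have hgi := hfar (i := ⟨k - 1, by omega⟩) (show 1 ≤ k - 1 by omega)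
        rw [show k - 1 + 1 = k by omega, show k - 1 + 2 = k + 1 by omega] at hgi
        refine ⟨(PresentedGroup.of ⟨k - 1, by omega⟩ * y * (PresentedGroup.of ⟨k - 1, by omega⟩)⁻¹)⁻¹, ?_⟩
        rw [map_inv, map_mul, map_mul, map_inv, hφ, hy, hgi.1,
          show ∀ g : Equiv.Perm (Fin (m + 2)), g * (Equiv.swap a b * Equiv.swap b (p k)) * g⁻¹ =
            (g * Equiv.swap a b * g⁻¹) * (g * Equiv.swap b (p k) * g⁻¹) from fun g => by group,
          ← Equiv.swap_apply_apply, ← Equiv.swap_apply_apply]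
        have hva : (Equiv.swap a b * Equiv.swap (p k) (p (k + 1))) a = b := by
          rw [Equiv.Perm.mul_apply, Equiv.swap_apply_of_ne_of_ne (show a ≠ p k by rw [← hp0]; exact hpne (by omega) (by omega) (by omega))
            (show a ≠ p (k + 1) by rw [← hp0]; exact hpne (by omega) (by omega) (by omega)), Equiv.swap_apply_left]
        have hvb : (Equiv.swap a b * Equiv.swap (p k) (p (k + 1))) b = a := by
          rw [Equiv.Perm.mul_apply, Equiv.swap_apply_of_ne_of_ne (show b ≠ p k by rw [← hp1]; exact hpne (by omega) (by omega) (by omega))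
            (show b ≠ p (k + 1) by rw [← hp1]; exact hpne (by omega) (by omega) (by omega)), Equiv.swap_apply_right]
        have hvk : (Equiv.swap a b * Equiv.swap (p k) (p (k + 1))) (p k) = p (k + 1) := by
          rw [Equiv.Perm.mul_apply, Equiv.swap_apply_left, Equiv.swap_apply_of_ne_of_ne
            (show p (k + 1) ≠ a by rw [← hp0]; exact hpne (by omega) (by omega) (by omega))
            (show p (k + 1) ≠ b by rw [← hp1]; exact hpne (by omega) (by omega) (by omega))]
        rw [hva, hvb, hvk, mul_inv_rev, Equiv.swap_inv, Equiv.swap_inv, Equiv.swap_comm b a,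
          show Equiv.swap a (p (k + 1)) = Equiv.swap a b * Equiv.swap b (p (k + 1)) * (Equiv.swap a b)⁻¹ by
            rw [← Equiv.swap_apply_apply, Equiv.swap_apply_right, Equiv.swap_apply_of_ne_of_ne
              (by rw [← hp0]; exact hpne (by omega) (by omega) (by omega))
              (by rw [← hp1]; exact hpne (by omega) (by omega) (by omega))],
          Equiv.swap_inv, mul_assoc, Equiv.swap_mul_self, mul_one]
  have hzk : ∀ x : Fin (m + 2), x ≠ a → Equiv.swap a x * Equiv.swap a b ∈ φ.range := by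
    intro x hx
    by_cases hxb : x = b
    · rw [hxb, Equiv.swap_mul_self]; exact one_mem _
    have hxp : x = p x.val := by simp [p, x.isLt]
    have hx2 : 2 ≤ x.val := by
      have h0 : x.val ≠ 0 := fun h => hx (hxp.trans (h ▸ hp0))
      have h1 : x.val ≠ 1 := fun h => hxb (hxp.trans (h ▸ hp1))
      omega
    rw [show Equiv.swap a x = Equiv.swap a b * Equiv.swap b x * (Equiv.swap a b)⁻¹ by
      rw [← Equiv.swap_apply_apply, Equiv.swap_apply_right, Equiv.swap_apply_of_ne_of_ne hx hxb],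
      Equiv.swap_inv, mul_assoc, Equiv.swap_mul_self, mul_one, hxp]
    exact hc _ hx2 x.isLt
  have hzk' : ∀ x : Fin (m + 2), x ≠ a → Equiv.swap a b * Equiv.swap a x ∈ φ.range := fun x hx => by
    have := inv_mem (hzk x hx)
    rwa [mul_inv_rev, Equiv.swap_inv, Equiv.swap_inv] at this
  have hswap : ∀ u v : Fin (m + 2), u ≠ v → Equiv.swap u v * Equiv.swap a b ∈ φ.range := by
    intro u v huv
    by_cases hu : u = a
    · subst hu; exact hzk v huv.symm
    by_cases hv : v = a
    · subst hv; rw [Equiv.swap_comm]; exact hzk u huv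
    rw [show Equiv.swap u v = Equiv.swap a u * Equiv.swap a v * (Equiv.swap a u)⁻¹ by
      rw [← Equiv.swap_apply_apply, Equiv.swap_apply_left, Equiv.swap_apply_of_ne_of_ne hv huv.symm],
      Equiv.swap_inv, show Equiv.swap a u * Equiv.swap a v * Equiv.swap a u * Equiv.swap a b =
      (Equiv.swap a u * Equiv.swap a b) * (Equiv.swap a b * Equiv.swap a v) * (Equiv.swap a u * Equiv.swap a b) by
        simp only [mul_assoc, Equiv.swap_mul_self_mul]]
    exact mul_mem (mul_mem (hzk u hu) (hzk' v hv)) (hzk u hu)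
  have hsurj : ∀ σ : Equiv.Perm (Fin (m + 2)),
      (Equiv.Perm.sign σ = 1 → σ ∈ φ.range) ∧ (Equiv.Perm.sign σ = -1 → σ * Equiv.swap a b ∈ φ.range) := by
    intro σ
    induction σ using Equiv.Perm.swap_induction_on' with
    | one => exact ⟨fun _ => one_mem _, fun h => absurd h (by simp)⟩
    | mul_swap σ u v huv ih =>
        have hs : Equiv.Perm.sign (σ * Equiv.swap u v) = - Equiv.Perm.sign σ := by
          rw [map_mul, Equiv.Perm.sign_swap huv, mul_neg_one]
        refine ⟨fun h => ?_, fun h => ?_⟩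
        · have h2 := ih.2 (by rw [hs] at h; exact neg_eq_iff_eq_neg.mp h)
          rw [show σ * Equiv.swap u v = (σ * Equiv.swap a b) * (Equiv.swap u v * Equiv.swap a b)⁻¹ by
            rw [mul_inv_rev, Equiv.swap_inv, Equiv.swap_inv, mul_assoc, Equiv.swap_mul_self_mul]]
          exact mul_mem h2 (inv_mem (hswap u v huv))
        · have h2 := ih.1 (by rw [hs] at h; exact neg_inj.mp h)
          rw [mul_assoc]
          exact mul_mem h2 (hswap u v huv)
  let ψ : AP m →* alternatingGroup (Fin (m + 2)) := φ.codRestrict _ fun x => hrange ⟨x, rfl⟩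
  have hψs : Function.Surjective ψ := fun σ => by
    obtain ⟨x, hx⟩ := (hsurj σ.1).1 (Equiv.Perm.mem_alternatingGroup.mp σ.2)
    exact ⟨x, Subtype.ext hx⟩
  obtain ⟨hfin, hle⟩ := card_le m
  haveI := hfin
  have hA : 2 * Nat.card (alternatingGroup (Fin (m + 2))) = (m + 2).factorial := by
    haveI : Nontrivial (Fin (m + 2)) := ⟨⟨a, b, hab⟩⟩
    have := two_mul_nat_card_alternatingGroup (α := Fin (m + 2))
    rwa [Nat.card_perm, Nat.card_fin] at this
  exact ⟨MulEquiv.ofBijective ψ ((Nat.bijective_iff_surjective_and_card ψ).mpr ⟨hψs,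
    le_antisymm (by omega) (Nat.card_le_card_of_surjective ψ hψs)⟩)⟩

end Cfsg.Agent.S3335
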