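import Cfsg.Statements.S3339
import Cfsg.Agent.Lib.Recog.AltNine.Top
import Cfsg.Agent.Lib.Recog.AltNine.Constrained

set_option autoImplicit false
open Cfsg

namespace Cfsg.Agent.S3339

/-- A 3-local characterization of the alternating group of degree 9. Let G be a finite group and J ≤ G an elementary abelian subgroup of order 27 whose normalizer H = N_G(J) is isomorphic to the normalizer, in the alternating group of degree 9, of the subgroup generated by three disjoint 3-cycles. If O_{3'}(C_G(x)) = 1 for every element x of order 3 in H, then either G = H or G is isomorphic to the alternating group of degree 9. -/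
theorem result {G : Type*} [Group G] [Finite G]
    (J : Subgroup G) (hJcomm : IsMulCommutative J) (hJexp : ∀ a ∈ J, a ^ 3 = 1) (hJcard : Nat.card J = 27)
    (H : Subgroup G) (hH : H = Subgroup.normalizer (J : Set G))
    (J₀ : Subgroup (Equiv.Perm (Fin 9)))
    (hJ₀ : J₀ = Subgroup.closure {Equiv.swap (0 : Fin 9) 1 * Equiv.swap 1 2, Equiv.swap (3 : Fin 9) 4 * Equiv.swap 4 5, Equiv.swap (6 : Fin 9) 7 * Equiv.swap 7 8})
    (eH : H ≃* ↥(alternatingGroup (Fin 9) ⊓ Subgroup.normalizer (J₀ : Set (Equiv.Perm (Fin 9)))))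
    (hcores : ∀ x ∈ H, orderOf x = 3 → Cfsg.pPrimeCore 3 (Subgroup.centralizer ({x} : Set G)) = ⊥) :
    H = ⊤ ∨ Nonempty (G ≃* alternatingGroup (Fin 9)) := by
  obtain ⟨θ, hinj, hrange, hmap⟩ := Recog.AltNine.exists_model J hJcomm hJexp hJcard H hH J₀ hJ₀ eH
  let C : Recog.AltNine.Ctx G :=
    { θ := θ
      inj := hinj
      norm := by rw [hmap, hrange, hH]
      core := fun g hg h3 => hcores g (hrange ▸ hg) h3 }
  rcases C.cent_A_cases with hA | h
  · exact Or.inl (hrange ▸ C.eq_top_of_cent_le hA)
  · exact Or.inr (C.iso_of_quot h)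

end Cfsg.Agent.S3339
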