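import Cfsg.Statements.S3341
import Cfsg.Agent.Lib.Block.NineCC.Main
-- import your own Cfsg.Agent.* helpers here

set_option autoImplicit false
open Cfsg

namespace Cfsg.Agent.S3341

/-- Let G be a finite simple group whose Sylow 3-subgroup S is elementary abelian of order 9, such that G has more than one conjugacy class of elements of order 3 and C_G(s) = S for every non-identity s in S. Then G is isomorphic to the alternating group of degree 6. -/
theorem result {G : Type*} [Group G] [Finite G] [IsSimpleGroup G]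
    (P : Sylow 3 G) (S : Subgroup G) (hSP : S = P) (hcomm : IsMulCommutative S) (hexp : ∀ a ∈ S, a ^ 3 = 1)
    (hcard : Nat.card S = 9)
    (hclasses : ∃ a b : G, orderOf a = 3 ∧ orderOf b = 3 ∧ ∀ g : G, g * a * g⁻¹ ≠ b)
    (hcent : ∀ s ∈ S, s ≠ 1 → Subgroup.centralizer ({s} : Set G) = S) :
    Nonempty (G ≃* alternatingGroup (Fin 6)) := by
  subst hSP
  haveI := Fact.mk Nat.prime_three
  have h : Block.NineCC.Hyp P := ⟨hcard, hexp, hcent⟩
  have hmove : ∀ x : G, orderOf x = 3 → ∃ t ∈ (P : Subgroup G), t ≠ 1 ∧ IsConj x t := by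
    intro x hx
    have hp : IsPGroup 3 (Subgroup.zpowers x) :=
      IsPGroup.of_card (n := 1) (by rw [Nat.card_zpowers, hx, pow_one])
    obtain ⟨Q, hQ⟩ := hp.exists_le_sylow
    obtain ⟨g, hg⟩ := MulAction.exists_smul_eq G Q P
    refine ⟨g * x * g⁻¹, ?_, fun e => ?_, isConj_iff.mpr ⟨g, rfl⟩⟩
    · rw [← hg, Sylow.coe_subgroup_smul]
      exact Subgroup.smul_mem_pointwise_smul _ _ _ (hQ (Subgroup.mem_zpowers _))
    · rw [conj_eq_one_iff.mp e, orderOf_one] at hx
      omega
  obtain ⟨a, b, ha, hb, hab⟩ := hclasses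
  obtain ⟨s, hs, hs1, hsc⟩ := hmove a ha
  obtain ⟨t, ht, ht1, htc⟩ := hmove b hb
  have h2 : Block.NineCC.TwoClasses P := ⟨s, hs, t, ht, hs1, ht1, fun hc => by
    obtain ⟨g, hg⟩ := isConj_iff.mp (hsc.trans (hc.trans htc.symm))
    exact hab g hg⟩
  rcases h.normal_or_iso h2 with hn | ⟨-, e⟩
  · rcases hn.eq_bot_or_eq_top with hbot | htop
    · rw [hbot, Subgroup.card_bot] at hcard
      omega
    · exfalso
      refine hs1 ?_
      have hall : ∀ u v : G, u * v = v * u := fun u v =>
        h.comm (htop ▸ Subgroup.mem_top u) (htop ▸ Subgroup.mem_top v)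
      have hsC : Subgroup.zpowers s ≠ ⊥ := fun e => hs1 (Subgroup.zpowers_eq_bot.mp e)
      haveI : (Subgroup.zpowers s).Normal := ⟨fun x hx g => by
        rwa [hall g x, mul_inv_cancel_right]⟩
      rcases Subgroup.Normal.eq_bot_or_eq_top (H := Subgroup.zpowers s) inferInstance with he | he
      · exact absurd he hsC
      · exfalso
        have hc := congrArg (fun H : Subgroup G => Nat.card H) he
        simp only [Nat.card_zpowers, ← htop, hcard] at hc
        have := Nat.le_of_dvd (by norm_num) (orderOf_dvd_of_pow_eq_one (hexp s hs))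
        omega
  · exact e

end Cfsg.Agent.S3341
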