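import Cfsg.Statements.S3349
import Mathlib

set_option autoImplicit false
open Cfsg

namespace Cfsg.Agent.S3349

/-- Let Q be a finite extraspecial p-group and α an automorphism of Q fixing every element of some maximal abelian subgroup of Q. Then the order of α is a power of p. -/
theorem result {Q : Type*} [Group Q] [Finite Q]
    (p : ℕ) [Fact p.Prime] (hQ : Cfsg.IsExtraspecial p Q) (α : MulAut Q)
    (A : Subgroup Q) (hA : IsMulCommutative A) (hmax : ∀ B : Subgroup Q, A ≤ B → IsMulCommutative B → B = A)
    (hfix : ∀ a ∈ A, α a = a) :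
    ∃ k : ℕ, orderOf α = p ^ k := by
  classical
  obtain ⟨⟨hQp, hfr, hcomm⟩, hcard⟩ := hQ
  have hZA : Subgroup.center Q ≤ A := by
    have h1 : IsMulCommutative ↥(A ⊔ Subgroup.center Q) := by
      refine ⟨⟨fun a b => Subtype.ext ?_⟩⟩
      have key : ∀ x ∈ A ⊔ Subgroup.center Q, ∀ y ∈ A ⊔ Subgroup.center Q, x * y = y * x := by
        intro x hx y hy
        obtain ⟨a, ha, z, hz, rfl⟩ := Subgroup.mem_sup_of_normal_right.mp hx
        obtain ⟨b, hb, w, hw, rfl⟩ := Subgroup.mem_sup_of_normal_right.mp hy
        have hab : a * b = b * a := congrArg Subtype.val (hA.is_comm.comm ⟨a, ha⟩ ⟨b, hb⟩)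
        rw [Subgroup.mem_center_iff] at hz hw
        have c1 : Commute a b := hab
        have c2 : Commute a w := hw a
        have c3 : Commute z b := (hz b).symm
        have c4 : Commute z w := (hz w).symm
        exact ((c1.mul_right c2).mul_left (c3.mul_right c4)).eq
      exact key a a.2 b b.2
    exact hmax _ le_sup_left h1 ▸ le_sup_right
  have hcA : ∀ x : Q, (∀ a ∈ A, a * x = x * a) → x ∈ A := by
    intro x hx
    have h1 : IsMulCommutative ↥(Subgroup.closure ((A : Set Q) ∪ {x})) := by
      refine Subgroup.isMulCommutative_closure ?_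
      intro u hu v hv
      simp only [Set.mem_union, SetLike.mem_coe, Set.mem_singleton_iff] at hu hv
      rcases hu with hu | rfl <;> rcases hv with hv | rfl
      · exact congrArg Subtype.val (hA.is_comm.comm ⟨u, hu⟩ ⟨v, hv⟩)
      · exact hx u hu
      · exact (hx v hv).symm
      · rfl
    have := hmax _ (fun a ha => Subgroup.subset_closure (Or.inl ha)) h1
    exact this ▸ Subgroup.subset_closure (Or.inr rfl)
  have hstep : ∀ x : Q, x⁻¹ * α x ∈ A := by
    intro x
    refine hcA _ fun a ha => ?_
    have hb : x * a * x⁻¹ ∈ A := by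
      have h1 : x * a * x⁻¹ * a⁻¹ ∈ Subgroup.center Q := by
        rw [← hcomm, commutator_def, ← commutatorElement_def]
        exact Subgroup.commutator_mem_commutator (Subgroup.mem_top _) (Subgroup.mem_top _)
      have := A.mul_mem (hZA h1) ha
      simpa using this
    have h2 := hfix _ hb
    rw [map_mul, map_mul, map_inv, hfix a ha] at h2
    calc a * (x⁻¹ * α x) = x⁻¹ * (x * a * x⁻¹) * α x := by group
      _ = x⁻¹ * (α x * a * (α x)⁻¹) * α x := by rw [h2]
      _ = x⁻¹ * α x * a := by group
  have hpow : ∀ (n : ℕ) (x : Q), (α ^ n) x = x * (x⁻¹ * α x) ^ n := by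
    intro n
    induction n with
    | zero => simp
    | succ n ih =>
      intro x
      rw [pow_succ', MulAut.mul_apply, ih, map_mul, map_pow, hfix _ (hstep x), pow_succ', ← mul_assoc, ← mul_assoc]
      simp
  obtain ⟨k, hk⟩ := IsPGroup.iff_card.mp hQp
  have hone : α ^ p ^ k = 1 := by
    ext x
    rw [hpow, ← hk, pow_card_eq_one', mul_one, MulAut.one_apply]
  obtain ⟨j, -, hj⟩ := (Nat.dvd_prime_pow (Fact.out : p.Prime)).mp (orderOf_dvd_of_pow_eq_one hone)
  exact ⟨j, hj⟩

end Cfsg.Agent.S3349
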