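import Cfsg.Statements.S3356
import Mathlib
-- import your own Cfsg.Agent.* helpers here

set_option autoImplicit false
open Cfsg

namespace Cfsg.Agent.S3356

section

theorem orbit_mul_stab {S α : Type*} [Group S] [MulAction S α] (y : α) :
    Nat.card (MulAction.orbit S y) * Nat.card (MulAction.stabilizer S y) = Nat.card S := by
  rw [Nat.card_coe_set_eq, ← MulAction.index_stabilizer, Subgroup.index_mul_card]

theorem card_dvd_card_mul_of_stab {S α : Type*} [Group S] [MulAction S α] [Finite S] [Finite α] (k : ℕ)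
    (h : ∀ y : α, Nat.card (MulAction.stabilizer S y) = k) : Nat.card S ∣ Nat.card α * k := by
  classical
  haveI : Fintype (MulAction.orbitRel.Quotient S α) := Fintype.ofFinite _
  rw [Nat.card_congr (MulAction.selfEquivSigmaOrbits S α), Nat.card_sigma, Finset.sum_mul]
  refine Finset.dvd_sum fun ω _ => ?_
  rw [← h ω.out, orbit_mul_stab]

variable {G : Type*} [Group G]

/-- The setwise conjugation stabiliser of `C` inside `H`. -/
def setStab (H : Subgroup G) (C : Set G) : Subgroup G where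
  carrier := {h | h ∈ H ∧ ∀ y, h * y * h⁻¹ ∈ C ↔ y ∈ C}
  one_mem' := ⟨H.one_mem, fun y => by simp⟩
  mul_mem' := fun {a b} ha hb => ⟨H.mul_mem ha.1 hb.1, fun y => by
    rw [show a * b * y * (a * b)⁻¹ = a * (b * y * b⁻¹) * a⁻¹ by group, ha.2, hb.2]⟩
  inv_mem' := fun {a} ha => ⟨H.inv_mem ha.1, fun y => by
    rw [← ha.2 (a⁻¹ * y * a⁻¹⁻¹)]; group⟩

instance setStabAction (H : Subgroup G) (C : Set G) : MulAction (setStab H C) C where
  smul h y := ⟨(h : G) * y * (h : G)⁻¹, (h.2.2 y).mpr y.2⟩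
  one_smul y := Subtype.ext (by show (1 : G) * y * (1 : G)⁻¹ = y; group)
  mul_smul a b y := Subtype.ext (by
    show (a * b : G) * y * (a * b : G)⁻¹ = a * (b * y * (b : G)⁻¹) * (a : G)⁻¹; group)

theorem setStab_card_dvd [Finite G] (H : Subgroup G) (C : Set G) (k : ℕ)
    (hk : ∀ y ∈ C, Nat.card (H ⊓ Subgroup.centralizer {y} : Subgroup G) = k)
    (hcl : ∀ y ∈ C, ∀ h ∈ H ⊓ Subgroup.centralizer {y}, ∀ z ∈ C, h * z * h⁻¹ ∈ C) :
    Nat.card (setStab H C) ∣ Nat.card C * k ∧ ∀ y ∈ C, H ⊓ Subgroup.centralizer {y} ≤ setStab H C := by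
  have hle : ∀ y ∈ C, H ⊓ Subgroup.centralizer {y} ≤ setStab H C := fun y hy h hh => by
    refine ⟨hh.1, fun z => ⟨fun hz => ?_, hcl y hy h hh z⟩⟩
    have := hcl y hy h⁻¹ (inv_mem hh) _ hz
    rwa [show h⁻¹ * (h * z * h⁻¹) * h⁻¹⁻¹ = z by group] at this
  refine ⟨card_dvd_card_mul_of_stab k fun y => ?_, hle⟩
  rw [← hk y y.2]
  refine Nat.card_congr
    { toFun := fun s => ⟨(s.1 : G), s.1.2.1, Subgroup.mem_centralizer_singleton_iff.mpr ?_⟩
      invFun := fun s => ⟨⟨(s : G), hle y y.2 s.2⟩, Subtype.ext ?_⟩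
      left_inv := fun s => rfl
      right_inv := fun s => rfl }
  · have h1 : (s.1 : G) * y * (s.1 : G)⁻¹ = y := congrArg Subtype.val s.2
    exact mul_inv_eq_iff_eq_mul.mp h1
  · show (s : G) * y * (s : G)⁻¹ = y
    rw [Subgroup.mem_centralizer_singleton_iff.mp s.2.2, mul_inv_cancel_right]

end

/-- Let G be a finite 3/2-transitive permutation group: G acts faithfully and transitively on a finite set, the point stabilizers are non-trivial, and for each point a all orbits of G_a on the remaining points have the same size. Suppose G has a regular normal subgroup N and G is not a Frobenius group (some two-point stabilizer is non-trivial). Then N is an elementary abelian p-group for some prime p, and every non-trivial normal subgroup of G contains N (so N is the unique minimal normal subgroup). -/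
theorem result {G Ω : Type*} [Group G] [Finite G]
    [MulAction G Ω] [FaithfulSMul G Ω] [Finite Ω] (htrans : MulAction.IsPretransitive G Ω)
    (hne : ∀ a : Ω, MulAction.stabilizer G a ≠ ⊥)
    (hhalf : ∀ a b c : Ω, b ≠ a → c ≠ a →
      Nat.card (MulAction.orbit (MulAction.stabilizer G a) b) = Nat.card (MulAction.orbit (MulAction.stabilizer G a) c))
    (N : Subgroup G) [hN : N.Normal] (hNt : MulAction.IsPretransitive N Ω) (hNr : ∀ a : Ω, MulAction.stabilizer N a = ⊥)
    (hnotF : ∃ a b : Ω, a ≠ b ∧ MulAction.stabilizer G a ⊓ MulAction.stabilizer G b ≠ ⊥) :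
    (∃ p : ℕ, p.Prime ∧ IsMulCommutative N ∧ ∀ x ∈ N, x ^ p = 1) ∧
    (∀ M : Subgroup G, M.Normal → M ≠ ⊥ → N ≤ M) := by
  classical
  obtain ⟨a, b, hab, hab'⟩ := hnotF
  haveI := htrans
  haveI := hNt
  set H := MulAction.stabilizer G a with hH
  have hinj : ∀ x ∈ N, ∀ y ∈ N, x • a = y • a → x = y := by
    intro x hx y hy e
    have h1 : (⟨y, hy⟩ : N)⁻¹ * ⟨x, hx⟩ ∈ MulAction.stabilizer N a := by
      show (y⁻¹ * x) • a = a
      rw [mul_smul, e, inv_smul_smul]
    rw [hNr, Subgroup.mem_bot, inv_mul_eq_one] at h1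
    exact (congrArg Subtype.val h1).symm
  let e : N → Ω := fun x => (x : G) • a
  have hebij : Function.Bijective e :=
    ⟨fun x y h => Subtype.ext (hinj _ x.2 _ y.2 h), MulAction.surjective_smul N a⟩
  let K : G → Subgroup G := fun x => H ⊓ Subgroup.centralizer {x}
  have hK : ∀ x ∈ N, K x = H ⊓ MulAction.stabilizer G (x • a) := by
    intro x hx
    ext h
    simp only [K, Subgroup.mem_inf, Subgroup.mem_centralizer_singleton_iff, MulAction.mem_stabilizer_iff]
    refine and_congr_right fun hh => ?_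
    rw [hH, MulAction.mem_stabilizer_iff] at hh
    constructor
    · intro he
      rw [← mul_smul, he, mul_smul, hh]
    · intro he
      have : h * x * h⁻¹ = x := by
        refine hinj _ (hN.conj_mem x hx h) x hx ?_
        rw [mul_smul, mul_smul, inv_smul_eq_iff.mpr hh.symm, he]
      exact mul_inv_eq_iff_eq_mul.mp this
  have hne1 : ∀ x ∈ N, x ≠ 1 → x • a ≠ a := fun x hx h1 h2 => h1 (hinj x hx 1 N.one_mem (by rw [h2, one_smul]))
  obtain ⟨⟨x₁, hx₁⟩, hb⟩ := hebij.2 b
  change x₁ • a = b at hb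
  have hx₁1 : x₁ ≠ 1 := fun e => hab (by rw [← hb, e, one_smul])
  set k := Nat.card (K x₁) with hkdef
  have hcard : ∀ x ∈ N, x ≠ 1 → Nat.card (K x) = k := by
    have key : ∀ x ∈ N, Nat.card (MulAction.orbit H (x • a)) * Nat.card (K x) = Nat.card H := by
      intro x hx
      rw [← orbit_mul_stab (S := H) (x • a)]
      congr 1
      rw [hK x hx]
      exact Nat.card_congr
        { toFun := fun s => ⟨⟨s, s.2.1⟩, s.2.2⟩
          invFun := fun s => ⟨s.1, s.1.2, s.2⟩
          left_inv := fun s => rfl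
          right_inv := fun s => rfl }
    intro x hx h1
    have h2 := key x hx
    rw [← key x₁ hx₁, hhalf a (x • a) (x₁ • a) (hne1 x hx h1) (hne1 x₁ hx₁ hx₁1)] at h2
    haveI : Nonempty (MulAction.orbit H (x₁ • a)) := ⟨⟨_, MulAction.mem_orbit_self _⟩⟩
    exact Nat.eq_of_mul_eq_mul_left Nat.card_pos h2
  have heq : ∀ x ∈ N, x ≠ 1 → ∀ y ∈ N, y ≠ 1 → K x ≤ K y → K x = K y := fun x hx h1 y hy h2 hle =>
    Subgroup.eq_of_le_of_card_ge hle (by rw [hcard x hx h1, hcard y hy h2])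
  have hfull : ∀ (L : Subgroup G), L ≤ H → (∀ x ∈ N, x ≠ 1 → L ≤ K x) → L = ⊥ := by
    intro L hL hall
    rw [Subgroup.eq_bot_iff_forall]
    intro h hh
    refine eq_of_smul_eq_smul fun w : Ω => ?_
    rw [one_smul]
    obtain ⟨⟨x, hx⟩, rfl⟩ := hebij.2 w
    show h • x • a = x • a
    by_cases h1 : x = 1
    · rw [h1, one_smul]; exact hL hh
    · have := hall x hx h1 hh
      rw [hK x hx] at this
      exact this.2
  have hKne : K x₁ ≠ ⊥ := by rw [hK x₁ hx₁, hb]; exact hab'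
  have hnotall : ¬ ∀ x ∈ N, x ≠ 1 → K x = K x₁ := fun hall =>
    hKne (hfull _ inf_le_left fun x hx h1 => (hall x hx h1).ge)
  have hnΩ : Nat.card N = Nat.card Ω := Nat.card_congr (Equiv.ofBijective e hebij)
  have hHdvd : Nat.card H ∣ (Nat.card N - 1) * k := by
    have h1 := setStab_card_dvd H ((N : Set G) \ {1}) k (fun y hy => hcard y hy.1 hy.2)
      (fun y _ h _ z hz => ⟨hN.conj_mem z hz.1 h, fun e => hz.2 (by
        simpa using (conj_eq_one_iff.mp e : z = 1))⟩)
    have h2 : Nat.card ((N : Set G) \ {1} : Set G) = Nat.card N - 1 := by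
      rw [Nat.card_coe_set_eq, Set.ncard_diff_singleton_of_mem N.one_mem, ← Nat.card_coe_set_eq]; rfl
    rw [h2] at h1
    refine dvd_trans (Subgroup.card_dvd_of_le ?_) h1.1
    intro h hh
    refine ⟨hh, fun y => ⟨fun hy => ⟨?_, fun e => hy.2 ?_⟩, fun hy => ⟨hN.conj_mem y hy.1 h, fun e => hy.2 ?_⟩⟩⟩
    · have := hN.conj_mem _ hy.1 h⁻¹
      rwa [show h⁻¹ * (h * y * h⁻¹) * h⁻¹⁻¹ = y by group] at this
    · rw [Set.mem_singleton_iff] at e ⊢; rw [e]; group
    · exact conj_eq_one_iff.mp e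
  have count : ∀ C : Set G, C ⊆ (N : Set G) \ {1} → Nat.card C ∣ Nat.card N →
      (∀ y ∈ C, ∀ h ∈ K y, ∀ z ∈ C, h * z * h⁻¹ ∈ C) → ∀ y ∈ C, ∀ z ∈ C, K y = K z := by
    intro C hC hCn hcl
    obtain ⟨h1, h2⟩ := setStab_card_dvd H C k (fun y hy => hcard y (hC hy).1 (hC hy).2) hcl
    have h3 : Nat.card (setStab H C) ∣ k := by
      have ha := h1.trans (Nat.mul_dvd_mul_right hCn k)
      have hb := (Subgroup.card_dvd_of_le (show setStab H C ≤ H from fun h hh => hh.1)).trans hHdvd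
      have hc := Nat.dvd_gcd ha hb
      rwa [Nat.gcd_mul_right, (Nat.coprime_self_sub_right (Nat.card_pos : 0 < Nat.card N)).mpr (Nat.coprime_one_right _) |>.gcd_eq_one, one_mul] at hc
    have h4 : ∀ y ∈ C, K y = setStab H C := fun y hy =>
      Subgroup.eq_of_le_of_card_ge (h2 y hy) (by
        rw [hcard y (hC hy).1 (hC hy).2]; exact Nat.le_of_dvd (by rw [hkdef]; exact Nat.card_pos) h3)
    exact fun y hy z hz => (h4 y hy).trans (h4 z hz).symm
  have hclass : ∀ x ∈ N, x ≠ 1 → ∀ n ∈ N, K (n * x * n⁻¹) = K x := by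
    intro x hx h1 n hn
    refine count (Set.range fun m : N => (m : G) * x * (m : G)⁻¹) ?_ ?_ ?_ _ ⟨⟨n, hn⟩, rfl⟩ _ ⟨1, by simp⟩
    · rintro _ ⟨m, rfl⟩
      exact ⟨hN.conj_mem x hx m, fun e => h1 (conj_eq_one_iff.mp e)⟩
    · letI : MulAction N G := MulAction.compHom G (ConjAct.toConjAct.toMonoidHom.comp N.subtype)
      exact ⟨_, (orbit_mul_stab (S := N) x).symm⟩
    · rintro _ ⟨m, rfl⟩ h hh _ ⟨l, rfl⟩
      have hcomm := Subgroup.mem_centralizer_singleton_iff.mp hh.2
      refine ⟨⟨h * ((l : G) * (m : G)⁻¹) * h⁻¹ * m, N.mul_mem (hN.conj_mem _ (N.mul_mem l.2 (N.inv_mem m.2)) h) m.2⟩, ?_⟩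
      have e2 : (m : G) * x * (m : G)⁻¹ = h * ((m : G) * x * (m : G)⁻¹) * h⁻¹ := by
        rw [hcomm, mul_inv_cancel_right]
      show h * ((l : G) * (m : G)⁻¹) * h⁻¹ * m * x * (h * ((l : G) * (m : G)⁻¹) * h⁻¹ * m)⁻¹ = h * (l * x * (l : G)⁻¹) * h⁻¹
      rw [show h * ((l : G) * (m : G)⁻¹) * h⁻¹ * m * x * (h * ((l : G) * (m : G)⁻¹) * h⁻¹ * m)⁻¹ =
        h * ((l : G) * (m : G)⁻¹) * h⁻¹ * ((m : G) * x * (m : G)⁻¹) * h * m * (l : G)⁻¹ * h⁻¹ by group]
      conv_lhs => rw [e2]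
      group
  have hcomm' : ∀ y ∈ N, y ≠ 1 → ∀ w ∈ N, w ≠ 1 → K y ≠ K w → Commute y w := by
    intro y hy hy1 w hw hw1 hne'
    by_contra hnc
    set c := y * (w * y⁻¹ * w⁻¹) with hc
    have hcN : c ∈ N := N.mul_mem hy (N.mul_mem (N.mul_mem hw (N.inv_mem hy)) (N.inv_mem hw))
    have hc1 : c ≠ 1 := fun e => hnc (by
      rw [hc, ← mul_assoc, ← mul_assoc, mul_inv_eq_one, mul_inv_eq_iff_eq_mul] at e; exact e)
    have hy2 : K y ≤ K c := fun h hh => by
      refine ⟨hh.1, ?_⟩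
      have h2 : h ∈ K (w * y * w⁻¹) := by rw [hclass y hy hy1 w hw]; exact hh
      have e1 : Commute h y := Subgroup.mem_centralizer_singleton_iff.mp hh.2
      have e2 : Commute h (w * y * w⁻¹) := Subgroup.mem_centralizer_singleton_iff.mp h2.2
      have e3 := e1.mul_right e2.inv_right
      rw [show y * (w * y * w⁻¹)⁻¹ = c by rw [hc]; group] at e3
      exact Subgroup.mem_centralizer_singleton_iff.mpr e3
    have hw2 : K w ≤ K c := fun h hh => by
      refine ⟨hh.1, ?_⟩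
      have h2 : h ∈ K (y * w * y⁻¹) := by rw [hclass w hw hw1 y hy]; exact hh
      have e1 : Commute h w := Subgroup.mem_centralizer_singleton_iff.mp hh.2
      have e2 : Commute h (y * w * y⁻¹) := Subgroup.mem_centralizer_singleton_iff.mp h2.2
      have e3 := e2.mul_right e1.inv_right
      rw [show y * w * y⁻¹ * w⁻¹ = c by rw [hc]; group] at e3
      exact Subgroup.mem_centralizer_singleton_iff.mpr e3
    exact hne' ((heq y hy hy1 c hcN hc1 hy2).trans (heq w hw hw1 c hcN hc1 hw2).symm)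
  have hab2 : ∀ y ∈ N, ∀ w ∈ N, Commute y w := by
    intro y hy w hw
    by_cases hy1 : y = 1
    · rw [hy1]; exact Commute.one_left w
    by_cases hw1 : w = 1
    · rw [hw1]; exact Commute.one_right y
    by_cases hKe : K y = K w
    · obtain ⟨z, hz, hz1, hzne⟩ : ∃ z ∈ N, z ≠ 1 ∧ K z ≠ K y := by
        by_contra hall
        push Not at hall
        exact hnotall fun x hx h1 => (hall x hx h1).trans (hall x₁ hx₁ hx₁1).symm
      have hzw1 : z * w ≠ 1 := fun e => hzne (by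
        rw [eq_inv_of_mul_eq_one_left e, hKe]
        ext h
        simp only [K, Subgroup.mem_inf, Subgroup.mem_centralizer_singleton_iff]
        exact and_congr_right fun _ => Commute.inv_right_iff)
      have hne2 : K y ≠ K (z * w) := fun e => hzne (Eq.symm (heq y hy hy1 z hz hz1 fun h hh => by
        refine ⟨hh.1, Subgroup.mem_centralizer_singleton_iff.mpr ?_⟩
        have e1 : Commute h (z * w) := Subgroup.mem_centralizer_singleton_iff.mp (e ▸ hh : h ∈ K (z * w)).2
        have e2 : Commute h w := Subgroup.mem_centralizer_singleton_iff.mp (hKe ▸ hh : h ∈ K w).2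
        have e3 := e1.mul_right e2.inv_right
        rw [mul_inv_cancel_right] at e3
        exact e3))
      have h1 := hcomm' y hy hy1 (z * w) (N.mul_mem hz hw) hzw1 hne2
      have h2 := hcomm' y hy hy1 z hz hz1 (Ne.symm hzne)
      have h3 := h2.inv_right.mul_right h1
      rwa [inv_mul_cancel_left] at h3
    · exact hcomm' y hy hy1 w hw hw1 hKe
  have hirr : ∀ M : Subgroup G, M ≤ N → (∀ h ∈ H, ∀ m ∈ M, h * m * h⁻¹ ∈ M) → M ≠ ⊥ → M = N := by
    intro M hM hinv hMne
    by_contra hMN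
    obtain ⟨y₀, hy₀, hy₀M⟩ := SetLike.exists_of_lt (lt_of_le_of_ne hM hMN)
    obtain ⟨m₀, hm₀, hm₀1⟩ : ∃ m ∈ M, m ≠ 1 := by
      by_contra hall; push Not at hall; exact hMne ((Subgroup.eq_bot_iff_forall M).mpr hall)
    have hout : ∀ y ∈ N, y ∉ M → ∀ m ∈ M, m ≠ 1 → K y = K m := by
      intro y hy hyM m hm hm1
      have hy1 : y ≠ 1 := fun e => hyM (e ▸ M.one_mem)
      have hc := count (Set.range fun l : M => (l : G) * y) ?_ ?_ ?_ y ⟨1, by simp⟩ (m * y) ⟨⟨m, hm⟩, rfl⟩
      · refine heq y hy hy1 m (hM hm) hm1 fun h hh => ⟨hh.1, Subgroup.mem_centralizer_singleton_iff.mpr ?_⟩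
        have e1 : Commute h (m * y) := Subgroup.mem_centralizer_singleton_iff.mp (hc ▸ hh : h ∈ K (m * y)).2
        have e2 : Commute h y := Subgroup.mem_centralizer_singleton_iff.mp hh.2
        have e3 := e1.mul_right e2.inv_right
        rw [mul_inv_cancel_right] at e3
        exact e3
      · rintro _ ⟨l, rfl⟩
        exact ⟨N.mul_mem (hM l.2) hy, fun e => hyM (by
          rw [show y = (l : G)⁻¹ from eq_inv_of_mul_eq_one_right e]; exact M.inv_mem l.2)⟩
      · rw [Nat.card_range_of_injective (fun l l' e => Subtype.ext (mul_right_cancel e))]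
        exact Subgroup.card_dvd_of_le hM
      · rintro _ ⟨l, rfl⟩ h hh _ ⟨l', rfl⟩
        have hcm := Subgroup.mem_centralizer_singleton_iff.mp hh.2
        refine ⟨⟨h * (l' * (l : G)⁻¹) * h⁻¹ * l, M.mul_mem (hinv h hh.1 _ (M.mul_mem l'.2 (M.inv_mem l.2))) l.2⟩, ?_⟩
        show h * (l' * (l : G)⁻¹) * h⁻¹ * l * y = h * (l' * y) * h⁻¹
        rw [show h * (l' * (l : G)⁻¹) * h⁻¹ * l * y = h * (l' * (l : G)⁻¹) * h⁻¹ * (l * y) * h * h⁻¹ by group,
          mul_assoc _ ((l : G) * y) h, ← hcm]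
        group
    refine hnotall fun x hx h1 => ?_
    have h2 : ∀ z ∈ N, z ≠ 1 → K z = K y₀ := by
      intro z hz hz1
      by_cases hzM : z ∈ M
      · exact (hout y₀ hy₀ hy₀M z hzM hz1).symm
      · exact (hout z hz hzM m₀ hm₀ hm₀1).trans (hout y₀ hy₀ hy₀M m₀ hm₀ hm₀1).symm
    rw [h2 x hx h1, h2 x₁ hx₁ hx₁1]
  refine ⟨?_, ?_⟩
  · have hNne : N ≠ ⊥ := fun e => hx₁1 (by rw [e] at hx₁; exact hx₁)
    obtain ⟨p, hp, hpd⟩ := Nat.exists_prime_and_dvd (show Nat.card N ≠ 1 from fun e => hNne (Subgroup.card_eq_one.mp e))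
    haveI := Fact.mk hp
    obtain ⟨u, hu⟩ := exists_prime_orderOf_dvd_card' p hpd
    let M : Subgroup G :=
      { carrier := {x | x ∈ N ∧ x ^ p = 1}
        one_mem' := ⟨N.one_mem, one_pow p⟩
        mul_mem' := fun {x y} hx hy => ⟨N.mul_mem hx.1 hy.1, by rw [(hab2 x hx.1 y hy.1).mul_pow, hx.2, hy.2, one_mul]⟩
        inv_mem' := fun {x} hx => ⟨N.inv_mem hx.1, by rw [inv_pow, hx.2, inv_one]⟩ }
    have hM : M = N := hirr M (fun x hx => hx.1) (fun h _ m hm => ⟨hN.conj_mem m hm.1 h, by rw [conj_pow, hm.2]; group⟩) (fun e => by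
      have : (u : G) ∈ M := ⟨u.2, by rw [← Subgroup.coe_pow, ← hu, pow_orderOf_eq_one]; rfl⟩
      rw [e, Subgroup.mem_bot] at this
      rw [show u = 1 from Subtype.ext this, orderOf_one] at hu
      exact hp.ne_one hu.symm)
    refine ⟨p, hp, ⟨⟨fun x y => Subtype.ext (hab2 x x.2 y y.2)⟩⟩, fun x hx => ?_⟩
    rw [← hM] at hx
    exact hx.2
  · intro M hM hMne
    by_contra hle
    have hbot : M ⊓ N = ⊥ := by
      by_contra hne2
      exact hle (inf_eq_right.mp (hirr (M ⊓ N) inf_le_right (fun h _ m hm => ⟨hM.conj_mem m hm.1 h, hN.conj_mem m hm.2 h⟩) hne2))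
    refine hMne ((Subgroup.eq_bot_iff_forall M).mpr fun g hg => ?_)
    obtain ⟨⟨x, hx⟩, hxa⟩ := hebij.2 (g • a)
    change x • a = g • a at hxa
    have hcx : ∀ y ∈ N, Commute g y := fun y hy =>
      Subgroup.commute_of_normal_of_disjoint M N hM hN (disjoint_iff.mpr hbot) g y hg hy
    have hgx : g = x := by
      refine eq_of_smul_eq_smul fun w : Ω => ?_
      obtain ⟨⟨y, hy⟩, rfl⟩ := hebij.2 w
      show g • y • a = x • y • a
      rw [← mul_smul, (hcx y hy).eq, mul_smul, ← hxa, ← mul_smul, (hab2 y hy x hx).eq, mul_smul]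
    have : g ∈ M ⊓ N := ⟨hg, hgx ▸ hx⟩
    rw [hbot] at this
    exact this

end Cfsg.Agent.S3356
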