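import Cfsg.Statements.S3357
import Cfsg.Agent.Lib.Grp.Zassenhaus.Complement
-- import your own Cfsg.Agent.* helpers here

set_option autoImplicit false
open Cfsg

namespace Cfsg.Agent.S3357

attribute [local instance] Classical.propDecidable

section Lift

variable {G : Type*} [Group G] [Finite G] {p : ℕ} [Fact p.Prime] {d : ℕ}

theorem exists_lift (hcop : ¬ p ∣ Nat.card G) (ρ₀ : G →* GL (Fin d) (ZMod p)) (n : ℕ) (hn : n ≠ 0) :
    ∃ ρ : G →* GL (Fin d) (ZMod (p ^ n)),
      ∀ g, Matrix.GeneralLinearGroup.map (ZMod.castHom (dvd_pow_self p hn) (ZMod p)) (ρ g) = ρ₀ g := by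
  haveI : NeZero (p ^ n) := ⟨pow_ne_zero _ (Fact.out : p.Prime).ne_zero⟩
  set c := ZMod.castHom (dvd_pow_self p hn) (ZMod p) with hc
  set red := Matrix.GeneralLinearGroup.map (n := Fin d) c with hred
  let E : Subgroup (G × GL (Fin d) (ZMod (p ^ n))) :=
    MonoidHom.eqLocus (red.comp (MonoidHom.snd G _)) (ρ₀.comp (MonoidHom.fst G _))
  let π : E →* G := (MonoidHom.fst G _).comp E.subtype
  have hlift : ∀ g, ∃ X : GL (Fin d) (ZMod (p ^ n)), red X = ρ₀ g := by
    intro g
    have hs : Function.Surjective c := ZMod.ringHom_surjective c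
    choose Y hY using fun i j => hs ((ρ₀ g : Matrix (Fin d) (Fin d) (ZMod p)) i j)
    have hmap : c.mapMatrix (Matrix.of Y) = (ρ₀ g : Matrix (Fin d) (Fin d) (ZMod p)) := by
      ext i j; exact hY i j
    have hu : IsUnit (Matrix.of Y).det := by
      have h1 : IsUnit (c (Matrix.of Y).det) := by
        rw [RingHom.map_det, hmap]
        exact (Matrix.isUnit_iff_isUnit_det _).mp (ρ₀ g).isUnit
      obtain ⟨a, ha⟩ : ∃ a : ℕ, (a : ZMod (p ^ n)) = (Matrix.of Y).det := ⟨_, ZMod.natCast_zmod_val _⟩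
      rw [← ha, map_natCast] at h1
      rw [← ha]
      exact (ZMod.isUnit_iff_coprime a (p ^ n)).mpr
        (Nat.Coprime.pow_right n ((ZMod.isUnit_iff_coprime a p).mp h1))
    refine ⟨Matrix.GeneralLinearGroup.mk'' (Matrix.of Y) hu, ?_⟩
    ext i j
    exact hY i j
  have hπ : Function.Surjective π := fun g => by
    obtain ⟨X, hX⟩ := hlift g
    exact ⟨⟨(g, X), hX⟩, rfl⟩
  have hker : IsPGroup p π.ker := by
    rintro ⟨⟨⟨g, X⟩, hE⟩, hk⟩
    refine ⟨n, ?_⟩
    have hg : g = 1 := hk
    subst hg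
    have hred1 : red X = 1 := by
      have : red X = ρ₀ 1 := hE
      rwa [map_one] at this
    have hdiv : ∀ i j, ∃ y, ((X : Matrix (Fin d) (Fin d) (ZMod (p ^ n))) - 1) i j = (p : ZMod (p ^ n)) * y := by
      intro i j
      set a := ((X : Matrix (Fin d) (Fin d) (ZMod (p ^ n))) - 1) i j with ha
      have h0 : c a = 0 := by
        have h1 := congrArg (fun M : GL (Fin d) (ZMod p) => (M : Matrix (Fin d) (Fin d) (ZMod p)) i j) hred1
        change c ((X : Matrix (Fin d) (Fin d) (ZMod (p ^ n))) i j) = (1 : Matrix (Fin d) (Fin d) (ZMod p)) i j at h1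
        rw [ha, Matrix.sub_apply, map_sub, h1, Matrix.one_apply, Matrix.one_apply]
        split_ifs <;> simp
      rw [← ZMod.natCast_zmod_val a, map_natCast, ZMod.natCast_eq_zero_iff] at h0
      obtain ⟨y, hy⟩ := h0
      exact ⟨y, by rw [← Nat.cast_mul, ← hy, ZMod.natCast_zmod_val]⟩
    choose Y hY using hdiv
    have hX : (X : Matrix (Fin d) (Fin d) (ZMod (p ^ n))) = 1 + (p : Matrix (Fin d) (Fin d) (ZMod (p ^ n))) * Matrix.of Y := by
      ext i j
      have := hY i j
      rw [Matrix.sub_apply, sub_eq_iff_eq_add] at this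
      rw [this, Matrix.add_apply, ← nsmul_eq_mul (p : ℕ) (Matrix.of Y), Matrix.smul_apply, nsmul_eq_mul, Matrix.of_apply, add_comm]
    obtain ⟨Q, hQ⟩ : ((p : Polynomial ℤ) ^ (n + 1)) ∣
        ((1 + (p : Polynomial ℤ) * Polynomial.X) ^ p ^ n - 1 ^ p ^ n) :=
      dvd_sub_pow_of_dvd_sub (by simp) n
    have hpow : (X : Matrix (Fin d) (Fin d) (ZMod (p ^ n))) ^ p ^ n = 1 := by
      have := congrArg (Polynomial.aeval (Matrix.of Y)) hQ
      simp only [map_sub, map_pow, map_add, map_one, map_mul, map_natCast, Polynomial.aeval_X] at this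
      rw [← hX, one_pow, sub_eq_iff_eq_add] at this
      rw [this, pow_succ (p : Matrix (Fin d) (Fin d) (ZMod (p ^ n))) n, ← Nat.cast_pow,
        ← map_natCast (Matrix.scalar (Fin d) (α := ZMod (p ^ n))) (p ^ n), ZMod.natCast_self, map_zero,
        zero_mul, zero_mul, zero_add]
    refine Subtype.ext (Subtype.ext (Prod.ext ?_ (Units.ext ?_)))
    · simp
    · simpa using hpow
  have hcard : π.ker.index = Nat.card G := by
    rw [Subgroup.index_ker, MonoidHom.range_eq_top.mpr hπ, Subgroup.card_top]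
  obtain ⟨k, hk⟩ := hker.exists_card_eq
  obtain ⟨C, hC⟩ := Subgroup.exists_right_complement'_of_coprime (N := π.ker) (by
    rw [hcard, hk]
    exact Nat.Coprime.pow_left k ((Nat.Prime.coprime_iff_not_dvd Fact.out).mpr hcop))
  have hbij : Function.Bijective (π.comp C.subtype) := by
    refine ⟨(injective_iff_map_eq_one _).mpr fun x hx => ?_, fun g => ?_⟩
    · exact Subtype.ext (Subgroup.disjoint_def.mp hC.disjoint hx x.2)
    · obtain ⟨e, he⟩ := hπ g
      obtain ⟨⟨⟨a, ha⟩, c'⟩, hac⟩ := hC.2 e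
      refine ⟨c', ?_⟩
      rw [← he, ← hac]
      change π c' = π (a * c')
      rw [map_mul, MonoidHom.mem_ker.mp ha, one_mul]
  let e := MulEquiv.ofBijective _ hbij
  refine ⟨(MonoidHom.snd G _).comp (E.subtype.comp (C.subtype.comp e.symm.toMonoidHom)), fun g => ?_⟩
  have h1 : red ((e.symm g : E) : G × GL (Fin d) (ZMod (p ^ n))).2 =
      ρ₀ ((e.symm g : E) : G × GL (Fin d) (ZMod (p ^ n))).1 := (e.symm g : E).2
  exact h1.trans (congrArg ρ₀ (e.apply_symm_apply g))

end Lift

section Sums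

variable {G : Type*} [Group G] [Fintype G]

/-- Sum of `ρ` over a cyclic subgroup. -/
noncomputable def cycSum {R : Type*} [CommRing R] {d : ℕ} (ρ : G →* GL (Fin d) R) (g : G) :
    Matrix (Fin d) (Fin d) R :=
  ∑ x : Subgroup.zpowers g, (ρ x : Matrix (Fin d) (Fin d) R)

theorem mul_cycSum {R : Type*} [CommRing R] {d : ℕ} (ρ : G →* GL (Fin d) R) (g : G) (y : Subgroup.zpowers g) :
    (ρ y : Matrix (Fin d) (Fin d) R) * cycSum ρ g = cycSum ρ g := by
  rw [cycSum, Finset.mul_sum]
  refine Fintype.sum_equiv (Equiv.mulLeft y) _ _ fun x => ?_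
  simp

theorem cycSum_eq_zero_of_fpf {k : Type*} [Field k] {d : ℕ} (ρ : G →* GL (Fin d) k) (g : G)
    (hfpf : ∀ v : Fin d → k, (ρ g : Matrix (Fin d) (Fin d) k).mulVec v = v → v = 0) : cycSum ρ g = 0 := by
  have h := mul_cycSum ρ g ⟨g, Subgroup.mem_zpowers g⟩
  refine Matrix.mulVec_injective (funext fun v => ?_)
  rw [Matrix.zero_mulVec]
  exact hfpf _ (by rw [Matrix.mulVec_mulVec, h])

theorem cycSum_lift_eq_zero {p n d : ℕ} [Fact p.Prime] (hn : n ≠ 0) (hcop : ¬ p ∣ Nat.card G)
    (ρ : G →* GL (Fin d) (ZMod (p ^ n))) (g : G)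
    (hfpf : ∀ v : Fin d → ZMod p, (Matrix.GeneralLinearGroup.map (ZMod.castHom (dvd_pow_self p hn) (ZMod p))
      (ρ g) : Matrix (Fin d) (Fin d) (ZMod p)).mulVec v = v → v = 0) : cycSum ρ g = 0 := by
  haveI : NeZero (p ^ n) := ⟨pow_ne_zero _ (Fact.out : p.Prime).ne_zero⟩
  set c := ZMod.castHom (dvd_pow_self p hn) (ZMod p)
  set T := cycSum ρ g with hT
  have h0 : c.mapMatrix T = 0 := by
    have := cycSum_eq_zero_of_fpf ((Matrix.GeneralLinearGroup.map c).comp ρ) g hfpf
    rw [hT, cycSum, map_sum]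
    exact this
  have hdiv : ∀ i j, ∃ y, T i j = (p : ZMod (p ^ n)) * y := by
    intro i j
    have h1 : c (T i j) = 0 := congrArg (fun M : Matrix (Fin d) (Fin d) (ZMod p) => M i j) h0
    rw [← ZMod.natCast_zmod_val (T i j), map_natCast, ZMod.natCast_eq_zero_iff] at h1
    obtain ⟨y, hy⟩ := h1
    exact ⟨y, by rw [← Nat.cast_mul, ← hy, ZMod.natCast_zmod_val]⟩
  choose Y hY using hdiv
  have hTY : T = p • Matrix.of Y := by
    ext i j
    rw [hY, Matrix.smul_apply, nsmul_eq_mul, Matrix.of_apply]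
  have hsq : T * T = Nat.card (Subgroup.zpowers g) • T := by
    conv_lhs => arg 1; rw [hT, cycSum]
    rw [Finset.sum_mul]
    simp only [hT, mul_cycSum, Finset.sum_const, Finset.card_univ, Nat.card_eq_fintype_card]
  have hpow : ∀ m : ℕ, T ^ (m + 1) = (Nat.card (Subgroup.zpowers g)) ^ m • T := by
    intro m
    induction m with
    | zero => simp
    | succ m ih => rw [pow_succ, ih, smul_mul_assoc, hsq, smul_smul, ← pow_succ]
  obtain ⟨m, rfl⟩ := Nat.exists_eq_succ_of_ne_zero hn
  have h1 : T ^ (m + 1) = 0 := by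
    rw [hTY, smul_pow, ← Nat.cast_smul_eq_nsmul (ZMod (p ^ (m + 1))), Nat.cast_pow,
      ← Nat.cast_pow, ZMod.natCast_self, zero_smul]
  rw [hpow] at h1
  have hu : IsUnit ((Nat.card (Subgroup.zpowers g) ^ m : ℕ) : ZMod (p ^ (m + 1))) := by
    refine (ZMod.isUnit_iff_coprime _ _).mpr (Nat.Coprime.pow _ _ (Nat.Coprime.symm ?_))
    exact (Nat.Prime.coprime_iff_not_dvd Fact.out).mpr fun h => hcop (h.trans (Subgroup.card_subgroup_dvd_card _))
  rw [← Nat.cast_smul_eq_nsmul (ZMod (p ^ (m + 1)))] at h1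
  exact hu.smul_eq_zero.mp h1

/-- Index set of the linear conditions. -/
abbrev Cond (G : Type*) [Group G] := G × {g : G // g ≠ 1} × G

/-- Coefficient of the linear conditions. -/
noncomputable def condCoeff (i : Cond G) (z : G) : ℕ :=
  ∑ k : Subgroup.zpowers (i.2.1 : G), if i.1 * k * i.2.2 = z then 1 else 0

theorem condSum_eq {R : Type*} [CommRing R] (f : G → R) (i : Cond G) :
    ∑ z, (condCoeff i z : R) * f z = ∑ k : Subgroup.zpowers (i.2.1 : G), f (i.1 * k * i.2.2) := by
  simp only [condCoeff, Nat.cast_sum, Finset.sum_mul]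
  rw [Finset.sum_comm]
  simp

/-- The regular linear conditions over `ℚ`. -/
noncomputable def condMap : (G → ℚ) →ₗ[ℚ] (Cond G → ℚ) where
  toFun f i := ∑ k : Subgroup.zpowers (i.2.1 : G), f (i.1 * k * i.2.2)
  map_add' f h := funext fun i => Finset.sum_add_distrib
  map_smul' a f := funext fun i => (Finset.mul_sum _ _ _).symm

theorem exists_rat_solution {p d : ℕ} [Fact p.Prime] [NeZero d] (hcop : ¬ p ∣ Nat.card G)
    (ρ₀ : G →* GL (Fin d) (ZMod p))
    (hfpf : ∀ g : G, g ≠ 1 → ∀ v : Fin d → ZMod p, (ρ₀ g : Matrix (Fin d) (Fin d) (ZMod p)).mulVec v = v → v = 0) :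
    ∃ f : G → ℚ, f ≠ 0 ∧ ∀ i : Cond G, ∑ k : Subgroup.zpowers (i.2.1 : G), f (i.1 * k * i.2.2) = 0 := by
  by_contra hno
  push Not at hno
  have hinj : LinearMap.ker (condMap (G := G)) = ⊥ := by
    rw [LinearMap.ker_eq_bot']
    intro f hf
    by_contra hne
    obtain ⟨i, hi⟩ := hno f hne
    exact hi (congrFun hf i)
  obtain ⟨C, hC⟩ := LinearMap.exists_leftInverse_of_injective _ hinj
  -- an integral multiple
  let q : Cond G → ℚ := fun i => C (Pi.single i 1) 1
  set m : ℕ := ∏ i, (q i).den with hm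
  have hm0 : m ≠ 0 := Finset.prod_ne_zero_iff.mpr fun i _ => (q i).den_ne_zero
  let z : Cond G → ℤ := fun i => (q i).num * ((∏ j ∈ Finset.univ.erase i, (q j).den : ℕ) : ℤ)
  have hz : ∀ i, (z i : ℚ) = m * q i := by
    intro i
    simp only [z, hm]
    rw [← Finset.mul_prod_erase Finset.univ _ (Finset.mem_univ i)]
    push_cast
    rw [mul_comm ((q i).den : ℚ), mul_assoc, mul_comm ((q i).den : ℚ), Rat.mul_den_eq_num, mul_comm]
  have key : ∀ y : G, ∑ i, z i * (condCoeff i y : ℤ) = if y = 1 then (m : ℤ) else 0 := by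
    intro y
    have h1 := congrFun (LinearMap.congr_fun hC (Pi.single y 1)) 1
    rw [LinearMap.comp_apply, LinearMap.id_apply, pi_eq_sum_univ' (condMap (Pi.single y 1)), map_sum,
      Finset.sum_apply] at h1
    have h2 : ∀ i, (condMap (Pi.single y (1 : ℚ))) i = (condCoeff i y : ℚ) := by
      intro i
      have := condSum_eq (Pi.single y (1 : ℚ)) i
      rw [Finset.sum_eq_single y (fun b _ hb => by simp [hb]) (by simp), Pi.single_eq_same, mul_one] at this
      exact this.symm
    simp only [map_smul, Pi.smul_apply, smul_eq_mul, h2] at h1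
    have h3 : ((∑ i, z i * (condCoeff i y : ℤ) : ℤ) : ℚ) = (((if y = 1 then (m : ℤ) else 0) : ℤ) : ℚ) := by
      push_cast
      simp only [hz, mul_assoc]
      rw [← Finset.mul_sum]
      have h4 : ∑ i, q i * (condCoeff i y : ℚ) = (Pi.single y (1 : ℚ) : G → ℚ) 1 := by
        rw [← h1]
        exact Finset.sum_congr rfl fun i _ => mul_comm _ _
      rw [h4, Pi.single_apply]
      simp only [eq_comm (a := (1 : G))]
      split_ifs <;> simp
    exact_mod_cast h3
  -- contradiction in `ZMod (p ^ (m + 1))`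
  obtain ⟨ρ, hρ⟩ := exists_lift hcop ρ₀ (m + 1) m.succ_ne_zero
  let f : G → ZMod (p ^ (m + 1)) := fun y => (ρ y : Matrix (Fin d) (Fin d) (ZMod (p ^ (m + 1)))) 0 0
  have hzero : ∀ i : Cond G, ∑ y, (condCoeff i y : ZMod (p ^ (m + 1))) * f y = 0 := by
    intro i
    rw [condSum_eq]
    have h0 := cycSum_lift_eq_zero m.succ_ne_zero hcop ρ (i.2.1 : G) (by rw [hρ]; exact hfpf _ i.2.1.2)
    have h1 : ∑ k : Subgroup.zpowers (i.2.1 : G),
        (ρ (i.1 * k * i.2.2) : Matrix (Fin d) (Fin d) (ZMod (p ^ (m + 1)))) = 0 := by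
      simp only [map_mul, Units.val_mul]
      rw [← Finset.sum_mul, ← Finset.mul_sum]
      rw [cycSum] at h0
      rw [h0, mul_zero, zero_mul]
    have h2 := congrArg (fun M : Matrix (Fin d) (Fin d) (ZMod (p ^ (m + 1))) => M 0 0) h1
    simp only [Matrix.sum_apply, Matrix.zero_apply] at h2
    exact h2
  have hm' : (m : ZMod (p ^ (m + 1))) = 0 := by
    have : ∑ y, ((∑ i, z i * (condCoeff i y : ℤ) : ℤ) : ZMod (p ^ (m + 1))) * f y = 0 := by
      simp only [Int.cast_sum, Int.cast_mul, Int.cast_natCast, Finset.sum_mul, mul_assoc]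
      rw [Finset.sum_comm]
      simp only [← Finset.mul_sum, hzero, mul_zero, Finset.sum_const_zero]
    simp only [key] at this
    rw [Finset.sum_eq_single 1 (fun b _ hb => by simp [hb]) (by simp)] at this
    simpa [f] using this
  rw [ZMod.natCast_eq_zero_iff] at hm'
  have h2 := Nat.le_of_dvd (Nat.pos_of_ne_zero hm0) hm'
  have h3 := Nat.lt_pow_self (n := m + 1) (Fact.out : p.Prime).one_lt
  omega

variable {K : Type*} [Field K] [CharZero K]

/-- Functions satisfying all cyclic conditions. -/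
noncomputable def solSpace (G : Type*) [Group G] [Fintype G] (K : Type*) [Field K] : Submodule K (G → K) where
  carrier := {f | ∀ i : Cond G, ∑ k : Subgroup.zpowers (i.2.1 : G), f (i.1 * k * i.2.2) = 0}
  add_mem' := fun ha hb i => by simp only [Pi.add_apply, Finset.sum_add_distrib, ha i, hb i, add_zero]
  zero_mem' := fun i => by simp
  smul_mem' := fun a f hf i => by simp only [Pi.smul_apply, smul_eq_mul, ← Finset.mul_sum, hf i, mul_zero]

/-- Left translation. -/
def lReg (G : Type*) [Group G] (K : Type*) [Field K] : G →* Module.End K (G → K) where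
  toFun g :=
    { toFun := fun f z => f (g⁻¹ * z)
      map_add' := fun _ _ => rfl
      map_smul' := fun _ _ => rfl }
  map_one' := by ext f z; simp
  map_mul' := fun g h => by ext f z; simp [mul_assoc]

theorem lReg_mem {f : G → K} (hf : f ∈ solSpace G K) (g : G) : lReg G K g f ∈ solSpace G K := by
  intro i
  have h : ∑ k : Subgroup.zpowers (i.2.1 : G), f (g⁻¹ * i.1 * k * i.2.2) = 0 := hf (g⁻¹ * i.1, i.2)
  rw [← h]
  exact Finset.sum_congr rfl fun k _ => by simp [lReg, mul_assoc]

theorem lReg_fixed {f : G → K} (hf : f ∈ solSpace G K) {g : G} (hg : g ≠ 1) (hfix : lReg G K g f = f) :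
    f = 0 := by
  funext y
  have h1 : ∀ z, f (g⁻¹ * z) = f z := fun z => congrFun hfix z
  have hk : ∀ k ∈ Subgroup.zpowers g, ∀ z, f (k * z) = f z := by
    let S : Subgroup G :=
      { carrier := {k | ∀ z, f (k * z) = f z}
        one_mem' := fun z => by rw [one_mul]
        mul_mem' := fun {a b} ha hb z => by rw [mul_assoc, ha, hb]
        inv_mem' := fun {a} ha z => by
          conv_rhs => rw [← mul_inv_cancel_left a z]
          rw [ha] }
    have : g ∈ S := by
      have h2 : g⁻¹ ∈ S := h1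
      simpa using S.inv_mem h2
    exact fun k hk => (Subgroup.zpowers_le.mpr this) hk
  have h2 : ∑ k : Subgroup.zpowers g, f (1 * k * y) = 0 := hf (1, ⟨g, hg⟩, y)
  simp only [one_mul] at h2
  rw [Finset.sum_congr rfl (fun (k : Subgroup.zpowers g) _ => hk (k : G) k.2 y), Finset.sum_const, nsmul_eq_mul] at h2
  exact (mul_eq_zero.mp h2).resolve_left (Nat.cast_ne_zero.mpr (Finset.card_ne_zero.mpr Finset.univ_nonempty))

theorem exists_rep {p d : ℕ} [Fact p.Prime] [NeZero d] (hcop : ¬ p ∣ Nat.card G)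
    (ρ₀ : G →* GL (Fin d) (ZMod p))
    (hfpf : ∀ g : G, g ≠ 1 → ∀ v : Fin d → ZMod p, (ρ₀ g : Matrix (Fin d) (Fin d) (ZMod p)).mulVec v = v → v = 0) :
    ∃ (n : ℕ) (ρ : G →* GL (Fin n) K), 0 < n ∧ Function.Injective ρ ∧
      (∀ W : Submodule K (Fin n → K),
        (∀ g : G, ∀ w ∈ W, ((ρ g : GL (Fin n) K) : Matrix (Fin n) (Fin n) K).mulVec w ∈ W) → W = ⊥ ∨ W = ⊤) ∧
      ∀ g : G, g ≠ 1 → ∀ v : Fin n → K, ((ρ g : GL (Fin n) K) : Matrix (Fin n) (Fin n) K).mulVec v = v → v = 0 := by
  obtain ⟨f, hf0, hf⟩ := exists_rat_solution hcop ρ₀ hfpf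
  let P : Submodule K (G → K) → Prop := fun W =>
    W ≠ ⊥ ∧ W ≤ solSpace G K ∧ ∀ g : G, ∀ w ∈ W, lReg G K g w ∈ W
  have hne : solSpace G K ≠ ⊥ := by
    intro h
    have hmem : (fun z => (f z : K)) ∈ solSpace G K := fun i => by
      have := congrArg (fun r : ℚ => (r : K)) (hf i)
      simpa using this
    rw [h, Submodule.mem_bot] at hmem
    exact hf0 (funext fun z => by simpa using congrFun hmem z)
  obtain ⟨W, hW, hmin⟩ := WellFounded.has_min (α := Submodule K (G → K)) wellFounded_lt {W | P W}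
    ⟨_, hne, le_rfl, fun g w hw => lReg_mem hw g⟩
  obtain ⟨hW0, hWS, hWi⟩ := hW
  let σ : G →* Module.End K W :=
    { toFun := fun g => (lReg G K g).restrict (hWi g)
      map_one' := LinearMap.ext fun w => Subtype.ext (by simp)
      map_mul' := fun g h => LinearMap.ext fun w => Subtype.ext (by simp) }
  let b := Module.finBasis K W
  set n := Module.finrank K W
  let μ : G →* Matrix (Fin n) (Fin n) K := (LinearMap.toMatrixAlgEquiv b).toMonoidHom.comp σ
  let ρ : G →* GL (Fin n) K := μ.toHomUnits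
  let e : W ≃ₗ[K] (Fin n → K) := b.equivFun
  have he : ∀ g v, ((ρ g : GL (Fin n) K) : Matrix (Fin n) (Fin n) K).mulVec v = e (σ g (e.symm v)) := by
    intro g v
    conv_lhs => rw [show v = b.equivFun (e.symm v) from (e.apply_symm_apply v).symm]
    exact LinearMap.toMatrix_mulVec_repr b b (σ g) (e.symm v)
  have hfix : ∀ g : G, g ≠ 1 → ∀ v : Fin n → K,
      ((ρ g : GL (Fin n) K) : Matrix (Fin n) (Fin n) K).mulVec v = v → v = 0 := by
    intro g hg v hv
    rw [he] at hv
    have h1 : σ g (e.symm v) = e.symm v := e.injective (hv.trans (e.apply_symm_apply v).symm)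
    have h2 := lReg_fixed (hWS (e.symm v).2) hg (congrArg Subtype.val h1)
    have h3 : e.symm v = 0 := Subtype.ext h2
    exact e.symm.injective (by rw [h3, map_zero])
  have hn : 0 < n := by
    haveI : Nontrivial W := Submodule.nontrivial_iff_ne_bot.mpr hW0
    exact Module.finrank_pos
  refine ⟨n, ρ, hn, (injective_iff_map_eq_one ρ).mpr fun g hg => ?_, fun U hU => ?_, hfix⟩
  · by_contra hne1
    have := hfix g hne1 (Pi.single ⟨0, hn⟩ 1) (by rw [hg, Units.val_one, Matrix.one_mulVec])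
    simpa using congrFun this ⟨0, hn⟩
  · by_cases hU0 : U = ⊥
    · exact Or.inl hU0
    right
    set W' := (U.comap e.toLinearMap).map W.subtype with hW'
    have hP : P W' := by
      refine ⟨?_, (Submodule.map_subtype_le W _).trans hWS, ?_⟩
      · intro h
        obtain ⟨u, hu, hu0⟩ := Submodule.exists_mem_ne_zero_of_ne_bot hU0
        have : ((e.symm u : W) : G → K) ∈ W' := ⟨e.symm u, by simpa using hu, rfl⟩
        rw [h, Submodule.mem_bot] at this
        exact hu0 (e.symm.injective (by rw [map_zero]; exact Subtype.ext this))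
      · rintro g _ ⟨w, hw, rfl⟩
        refine ⟨σ g w, ?_, rfl⟩
        have := hU g (e w) hw
        rw [he, LinearEquiv.symm_apply_apply] at this
        exact this
    have hEq : W' = W := by
      by_contra hne2
      exact hmin W' hP (lt_of_le_of_ne (Submodule.map_subtype_le W _) hne2)
    rw [eq_top_iff]
    intro u _
    have hu : ((e.symm u : W) : G → K) ∈ W' := hEq.symm ▸ (e.symm u).2
    obtain ⟨w, hw, hwe⟩ := hu
    have : w = e.symm u := Subtype.ext hwe
    rw [this] at hw
    simpa using hw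

end Sums

theorem matrix_of_fpf {G : Type*} [Group G] [Finite G] {A : Type*} [AddCommGroup A] [Finite A]
    [Nontrivial A] {p : ℕ} [Fact p.Prime] [Module (ZMod p) A] (φ : G →* AddMonoid.End A)
    (hfpf : ∀ g : G, g ≠ 1 → ∀ a : A, φ g a = a → a = 0) :
    ∃ (d : ℕ) (_ : NeZero d) (ρ₀ : G →* GL (Fin d) (ZMod p)),
      ∀ g : G, g ≠ 1 → ∀ v : Fin d → ZMod p, (ρ₀ g : Matrix (Fin d) (Fin d) (ZMod p)).mulVec v = v → v = 0 := by
  have : Module.Finite (ZMod p) A := Module.Finite.of_finite
  have hfree : Module.Free (ZMod p) A := Module.Free.of_divisionRing (ZMod p) A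
  let b := Module.finBasis (ZMod p) A
  let F : G → Module.End (ZMod p) A := fun g => (φ g : A →+ A).toZModLinearMap p
  have h1 : ∀ a : A, F 1 a = a := fun a => by
    show φ 1 a = a
    rw [map_one, AddMonoid.End.coe_one]; rfl
  have h2 : ∀ g h, ∀ a : A, F (g * h) a = F g (F h a) := fun g h a => by
    show φ (g * h) a = φ g (φ h a)
    rw [map_mul, AddMonoid.End.coe_mul]; rfl
  let σ : G →* Module.End (ZMod p) A :=
    { toFun := F
      map_one' := LinearMap.ext fun a => by rw [Module.End.one_apply]; exact h1 a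
      map_mul' := fun g h => LinearMap.ext fun a => by rw [Module.End.mul_apply]; exact h2 g h a }
  refine ⟨Module.finrank (ZMod p) A, ⟨(Module.finrank_pos).ne'⟩,
    ((LinearMap.toMatrixAlgEquiv b).toMonoidHom.comp σ).toHomUnits, fun g hg v hv => ?_⟩
  set a := b.equivFun.symm v with hadef
  have ha : φ g a = a := by
    refine b.equivFun.injective ?_
    have e1 := LinearMap.toMatrix_mulVec_repr b b (σ g) a
    rw [show (⇑(b.repr a) : Fin _ → ZMod p) = v from by
      rw [← Module.Basis.equivFun_apply, hadef, LinearEquiv.apply_symm_apply]] at e1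
    rw [show b.equivFun a = v from b.equivFun.apply_symm_apply v]
    exact e1.symm.trans hv
  exact b.equivFun.symm.injective (by rw [map_zero]; exact hfpf g hg a ha)

theorem elementary_fpf.{v} {L : Type v} [Group L] [Finite L] {H : Subgroup L} (hH : Cfsg.IsFrobeniusComplement H) :
    ∃ (p : ℕ) (_ : Fact p.Prime) (d : ℕ) (_ : NeZero d) (ρ₀ : H →* GL (Fin d) (ZMod p)),
      ¬ p ∣ Nat.card H ∧
      ∀ g : H, g ≠ 1 → ∀ v : Fin d → ZMod p, (ρ₀ g : Matrix (Fin d) (Fin d) (ZMod p)).mulVec v = v → v = 0 := by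
  classical
  have := Fintype.ofFinite L
  obtain ⟨K, hK, hKn, hc, hnil⟩ := Grp.frobenius_kernel_spec hH
  have hKbot := Frob.kernel_ne_bot hH hK
  have : Nontrivial K := K.nontrivial_iff_ne_bot.mpr hKbot
  have hz : Nontrivial (Subgroup.center K) := by
    rw [Subgroup.nontrivial_iff_ne_bot]
    intro e
    have : Group.IsNilpotent K := hnil
    exact Group.IsNilpotent.center_ne_bot (G := K) e
  obtain ⟨p, hp, hpd⟩ := Nat.exists_prime_and_dvd (Finite.one_lt_card (α := Subgroup.center K)).ne'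
  have := Fact.mk hp
  let A : Subgroup K :=
    { carrier := {x | x ∈ Subgroup.center K ∧ x ^ p = 1}
      one_mem' := ⟨one_mem _, one_pow p⟩
      mul_mem' := fun {a b} ha hb => ⟨mul_mem ha.1 hb.1, by
        rw [(show Commute a b from (Subgroup.mem_center_iff.mp ha.1 b).symm).mul_pow, ha.2, hb.2, one_mul]⟩
      inv_mem' := fun {a} ha => ⟨inv_mem ha.1, by rw [inv_pow, ha.2, inv_one]⟩ }
  have hAc : IsMulCommutative A := ⟨⟨fun a b => Subtype.ext (Subgroup.mem_center_iff.mp b.2.1 a)⟩⟩
  have hA : Nontrivial A := by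
    obtain ⟨a, ha⟩ := exists_prime_orderOf_dvd_card' (G := Subgroup.center K) p hpd
    rw [← Subgroup.orderOf_coe] at ha
    refine ⟨⟨⟨a, a.2, orderOf_dvd_iff_pow_eq_one.mp ha.dvd⟩, 1, fun e => ?_⟩⟩
    have : (a : K) = 1 := congrArg Subtype.val e
    rw [this, orderOf_one] at ha
    exact hp.ne_one ha.symm
  let c : H → K → K := fun h x => ⟨(h : L) * x * (h : L)⁻¹, hKn.conj_mem x x.2 h⟩
  have cmem : ∀ (h : H) (a : A), c h a ∈ A := fun h a => by
    refine ⟨Subgroup.mem_center_iff.mpr fun y => ?_, ?_⟩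
    · refine Subtype.ext ?_
      have := congrArg Subtype.val (Subgroup.mem_center_iff.mp a.2.1 (c h⁻¹ y))
      simp only [c, Subgroup.coe_mul, Subgroup.coe_inv, inv_inv] at this ⊢
      calc (y : L) * ((h : L) * (a : K) * (h : L)⁻¹)
          = (h : L) * ((h : L)⁻¹ * y * h * (a : K)) * (h : L)⁻¹ := by group
        _ = (h : L) * ((a : K) * ((h : L)⁻¹ * y * h)) * (h : L)⁻¹ := by rw [this]
        _ = (h : L) * (a : K) * (h : L)⁻¹ * y := by group
    · refine Subtype.ext ?_
      simp only [c, Subgroup.coe_pow, Subgroup.coe_one, conj_pow]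
      rw [← Subgroup.coe_pow, a.2.2, Subgroup.coe_one, mul_one, mul_inv_cancel]
  letI : CommGroup A := { (inferInstance : Group A) with mul_comm := fun a b => hAc.is_comm.comm a b }
  let φ : H →* AddMonoid.End (Additive A) :=
    { toFun := fun h => MonoidHom.toAdditive
        { toFun := fun a : A => (⟨c h a, cmem h a⟩ : A)
          map_one' := Subtype.ext (Subtype.ext (by simp [c]))
          map_mul' := fun a b => Subtype.ext (Subtype.ext (by simp [c, mul_assoc])) }
      map_one' := AddMonoidHom.ext fun a => Subtype.ext (Subtype.ext (by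
        show ((1 : H) : L) * ((Additive.toMul a : A) : K) * ((1 : H) : L)⁻¹ = _
        simp; rfl))
      map_mul' := fun g h => AddMonoidHom.ext fun a => Subtype.ext (Subtype.ext (by
        show ((g * h : H) : L) * ((Additive.toMul a : A) : K) * ((g * h : H) : L)⁻¹ =
          (g : L) * ((h : L) * ((Additive.toMul a : A) : K) * (h : L)⁻¹) * (g : L)⁻¹
        simp [mul_assoc])) }
  have : Finite (Additive A) := inferInstanceAs (Finite A)
  have : Nontrivial (Additive A) := inferInstanceAs (Nontrivial A)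
  letI : Module (ZMod p) (Additive A) := AddCommGroup.zmodModule fun a =>
    congrArg Additive.ofMul (show (Additive.toMul a : A) ^ p = 1 from Subtype.ext (Additive.toMul a : A).2.2)
  obtain ⟨d, hd, ρ₀, hρ₀⟩ := matrix_of_fpf (p := p) φ (fun g hg a ha => by
    have e : (g : L) * ((Additive.toMul a : A) : K) * (g : L)⁻¹ = (((Additive.toMul a : A) : K) : L) :=
      congrArg (fun t : Additive A => (((Additive.toMul t : A) : K) : L)) ha
    have hmem : (((Additive.toMul a : A) : K) : L) ∈ K ⊓ Subgroup.centralizer {(g : L)} :=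
      ⟨((Additive.toMul a : A) : K).2, Subgroup.mem_centralizer_singleton_iff.mpr (mul_inv_eq_iff_eq_mul.mp e).symm⟩
    have hle : K ⊓ Subgroup.centralizer {(g : L)} ≤ ⊥ := by
      rw [← Frob.kernel_inf_eq_bot hK]
      exact inf_le_inf_left _ (Frob.centralizer_le hH g.2 fun e => hg (Subtype.ext e))
    have h1 := Subgroup.mem_bot.mp (hle hmem)
    exact congrArg Additive.ofMul (show (Additive.toMul a : A) = 1 from Subtype.ext (Subtype.ext h1)))
  refine ⟨p, inferInstance, d, hd, ρ₀, ?_, hρ₀⟩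
  intro hd
  have hcop := Frob.coprime_card_index hH
  rw [← Frob.kernel_card hH hK] at hcop
  exact hp.ne_one (Nat.eq_one_of_dvd_coprimes hcop hd (hpd.trans (Subgroup.card_subgroup_dvd_card _)))

/-- Let G be a finite group that occurs as a Frobenius complement. Then G has a faithful irreducible representation over an algebraic closure of the rationals in which no non-identity element of G has 1 as an eigenvalue: there are n ≥ 1 and an injective homomorphism ρ from G to GL(n) over that field, with no invariant subspace other than 0 and the whole space, such that for g ≠ 1 the only vector fixed by ρ(g) is 0. -/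
theorem result {G : Type*} [Group G] [Finite G]
    (hFC : ∃ (L : Type) (_ : Group L) (_ : Finite L) (H : Subgroup L), Cfsg.IsFrobeniusComplement H ∧ Nonempty (G ≃* H)) :
    ∃ (n : ℕ) (ρ : G →* GL (Fin n) (AlgebraicClosure ℚ)), 0 < n ∧ Function.Injective ρ ∧
      (∀ W : Submodule (AlgebraicClosure ℚ) (Fin n → AlgebraicClosure ℚ),
        (∀ g : G, ∀ w ∈ W, ((ρ g : GL (Fin n) (AlgebraicClosure ℚ)) : Matrix (Fin n) (Fin n) (AlgebraicClosure ℚ)).mulVec w ∈ W) → W = ⊥ ∨ W = ⊤) ∧
      ∀ g : G, g ≠ 1 → ∀ v : Fin n → AlgebraicClosure ℚ,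
        ((ρ g : GL (Fin n) (AlgebraicClosure ℚ)) : Matrix (Fin n) (Fin n) (AlgebraicClosure ℚ)).mulVec v = v → v = 0 := by
  obtain ⟨L, _, _, H, hH, ⟨e⟩⟩ := hFC
  obtain ⟨p, hp, d, hd, ρ₀, hcop, hfpf⟩ := elementary_fpf hH
  haveI := Fintype.ofFinite G
  refine exists_rep (G := G) (K := AlgebraicClosure ℚ) (p := p) (d := d) ?_ (ρ₀.comp e.toMonoidHom) fun g hg =>
    hfpf (e g) fun h => hg (e.injective (h.trans (map_one e).symm))
  rwa [Nat.card_congr e.toEquiv]

end Cfsg.Agent.S3357
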