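import Cfsg.Statements.S3379
import Mathlib

set_option autoImplicit false
open Cfsg

namespace Cfsg.Agent.S3379

open scoped IsMulCommutative


/-- Let G be a finite group all of whose Sylow subgroups are cyclic. Then G is generated by two elements x and y of coprime orders n and m with x⁻¹yx = y^r, where gcd(r − 1, m) = 1 and r^n ≡ 1 (mod m). -/
theorem result {G : Type*} [Group G] [Finite G]
    (hZ : ∀ (p : ℕ) [Fact p.Prime] (P : Sylow p G), IsCyclic (P : Subgroup G)) :
    ∃ (x y : G) (n m r : ℕ), Subgroup.closure {x, y} = ⊤ ∧ orderOf x = n ∧ orderOf y = m ∧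
      x⁻¹ * y * x = y ^ r ∧ Nat.Coprime (r - 1) m ∧ Nat.Coprime n m ∧ 1 ≤ r ∧ r ^ n % m = 1 % m := by
  classical
  haveI hZG : IsZGroup G := ⟨fun p hp P => by haveI := Fact.mk hp; exact hZ p P⟩
  obtain ⟨H, hH⟩ := Subgroup.exists_right_complement'_of_coprime hZG.coprime_commutator_index
  haveI : IsCyclic H := by
    have e : Abelianization G ≃* H := hH.symm.QuotientMulEquiv
    exact isCyclic_of_surjective _ e.surjective
  haveI := IsZGroup.isCyclic_commutator G
  obtain ⟨⟨y, hy⟩, hygen⟩ := IsCyclic.exists_generator (α := commutator G)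
  obtain ⟨⟨x, hx⟩, hxgen⟩ := IsCyclic.exists_generator (α := H)
  have hCz : commutator G = Subgroup.zpowers y := by
    refine le_antisymm (fun c hc => ?_) (Subgroup.zpowers_le.mpr hy)
    obtain ⟨k, hk⟩ := hygen ⟨c, hc⟩
    exact ⟨k, congrArg Subtype.val hk⟩
  have hHz : H = Subgroup.zpowers x := by
    refine le_antisymm (fun c hc => ?_) (Subgroup.zpowers_le.mpr hx)
    obtain ⟨k, hk⟩ := hxgen ⟨c, hc⟩
    exact ⟨k, congrArg Subtype.val hk⟩
  have hconj : x⁻¹ * y * x ∈ Subgroup.zpowers y := by
    rw [← hCz]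
    have := Subgroup.Normal.conj_mem (inferInstance : (commutator G).Normal) y hy x⁻¹
    rwa [inv_inv] at this
  obtain ⟨r₀, hr₀⟩ : ∃ r₀ : ℕ, y ^ r₀ = x⁻¹ * y * x := by
    have := (orderOf_pos y |> fun h => (orderOf_pos_iff.mp h).mem_powers_iff_mem_zpowers).mpr hconj
    exact this
  set m := orderOf y with hm
  set n := orderOf x with hn
  -- a positive exponent
  set r := r₀ + m with hr
  have hr1 : 1 ≤ r := by have := orderOf_pos y; omega
  have hyr : x⁻¹ * y * x = y ^ r := by rw [hr, pow_add, hm, pow_orderOf_eq_one, mul_one, hr₀]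
  have hgen : Subgroup.closure {x, y} = ⊤ := by
    rw [eq_top_iff, ← hH.sup_eq_top, hCz, hHz, sup_le_iff]
    exact ⟨Subgroup.zpowers_le.mpr (Subgroup.subset_closure (by simp)), Subgroup.zpowers_le.mpr (Subgroup.subset_closure (by simp))⟩
  have hcop : Nat.Coprime n m := by
    have h1 := hZG.coprime_commutator_index
    have e1 : Nat.card (commutator G) = m := by rw [hCz, Nat.card_zpowers]
    have e2 : (commutator G).index = n := by
      have := hH.card_mul
      rw [← (commutator G).card_mul_index, hHz, Nat.card_zpowers] at this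
      exact (Nat.eq_of_mul_eq_mul_left Nat.card_pos this).symm
    rw [e1, e2] at h1
    exact h1.symm
  refine ⟨x, y, n, m, r, hgen, hn.symm, hm.symm, hyr, ?_, hcop, hr1, ?_⟩
  · -- ⟨y ^ (r - 1)⟩ is already the derived subgroup
    set w := y ^ (r - 1) with hw
    have hxw : x⁻¹ * w * x = w ^ r := by
      rw [hw, show x⁻¹ * y ^ (r - 1) * x = MulAut.conj x⁻¹ (y ^ (r - 1)) by simp, map_pow,
        show MulAut.conj x⁻¹ y = y ^ r by simpa using hyr, ← pow_mul, ← pow_mul, mul_comm]
    set W := Subgroup.zpowers w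
    have hWn : W.Normal := by
      rw [← Subgroup.normalizer_eq_top_iff, eq_top_iff, ← hgen, Subgroup.closure_le]
      intro z hz
      simp only [Set.mem_insert_iff, Set.mem_singleton_iff] at hz
      rw [SetLike.mem_coe]
      refine Subgroup.mem_normalizer_iff_map_conj_eq.mpr (Subgroup.eq_of_le_of_card_ge ?_
        (Nat.card_congr (Subgroup.equivMapOfInjective _ _ (MulAut.conj z).injective).toEquiv).le)
      rcases hz with rfl | rfl
      · -- the inverse normalises, hence so does x
        have hinv : W.map (MulAut.conj z⁻¹).toMonoidHom = W := by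
          refine Subgroup.eq_of_le_of_card_ge ?_
            (Nat.card_congr (Subgroup.equivMapOfInjective _ _ (MulAut.conj z⁻¹).injective).toEquiv).le
          rw [MonoidHom.map_zpowers, Subgroup.zpowers_le]
          show z⁻¹ * w * z⁻¹⁻¹ ∈ W
          rw [inv_inv, hxw]
          exact Subgroup.npow_mem_zpowers _ _
        conv_lhs => rw [← hinv, Subgroup.map_map]
        intro u hu
        obtain ⟨v, hv, rfl⟩ := hu
        simpa [mul_assoc] using hv
      · rw [MonoidHom.map_zpowers, Subgroup.zpowers_le]
        show z * w * z⁻¹ ∈ W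
        rw [hw, (Commute.self_pow z (r - 1)).eq, mul_inv_cancel_right]
        exact Subgroup.mem_zpowers _
    haveI := hWn
    have hcomm : commutator G ≤ W := by
      have hq : ∀ a b : G ⧸ W, a * b = b * a := by
        have hxy : Commute (QuotientGroup.mk x : G ⧸ W) (QuotientGroup.mk y) := by
          show (QuotientGroup.mk (x * y) : G ⧸ W) = QuotientGroup.mk (y * x)
          rw [QuotientGroup.eq]
          refine ⟨1, ?_⟩
          show w ^ (1 : ℤ) = (x * y)⁻¹ * (y * x)
          rw [zpow_one, mul_inv_rev, show y⁻¹ * x⁻¹ * (y * x) = y⁻¹ * (x⁻¹ * y * x) by group, hyr, hw,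
            eq_inv_mul_iff_mul_eq, ← pow_succ', Nat.sub_add_cancel hr1]
        have hc : IsMulCommutative ↥(Subgroup.closure ({(QuotientGroup.mk x : G ⧸ W), QuotientGroup.mk y} : Set (G ⧸ W))) := by
          refine Subgroup.isMulCommutative_closure ?_
          intro a ha b hb
          simp only [Set.mem_insert_iff, Set.mem_singleton_iff] at ha hb
          rcases ha with rfl | rfl <;> rcases hb with rfl | rfl <;> first | rfl | exact hxy.eq | exact hxy.eq.symm
        have htop : Subgroup.closure ({(QuotientGroup.mk x : G ⧸ W), QuotientGroup.mk y} : Set (G ⧸ W)) = ⊤ := by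
          have := congrArg (Subgroup.map (QuotientGroup.mk' W)) hgen
          rw [MonoidHom.map_closure, Subgroup.map_top_of_surjective _ (QuotientGroup.mk'_surjective W), Set.image_pair] at this
          exact this
        intro a b
        exact congrArg Subtype.val (hc.is_comm.comm ⟨a, htop ▸ Subgroup.mem_top a⟩ ⟨b, htop ▸ Subgroup.mem_top b⟩)
      rw [commutator_def, Subgroup.commutator_le]
      intro a _ b _
      rw [← QuotientGroup.eq_one_iff, commutatorElement_def, QuotientGroup.mk_mul, QuotientGroup.mk_mul, QuotientGroup.mk_mul,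
        QuotientGroup.mk_inv, QuotientGroup.mk_inv, hq (QuotientGroup.mk a), mul_inv_cancel_right, mul_inv_cancel]
    have hdvd : m ∣ orderOf w := orderOf_dvd_of_mem_zpowers (hcomm hy)
    rw [hw, orderOf_pow, ← hm] at hdvd
    have hpos : 0 < m := orderOf_pos y
    have h1 := Nat.le_of_dvd (Nat.div_pos (Nat.le_of_dvd hpos (Nat.gcd_dvd_left _ _)) (Nat.gcd_pos_of_pos_left _ hpos)) hdvd
    by_contra hne
    have hg : 1 < m.gcd (r - 1) := by
      have := Nat.gcd_pos_of_pos_left (r - 1) hpos
      have hne' : m.gcd (r - 1) ≠ 1 := fun h => hne (by rw [Nat.Coprime, Nat.gcd_comm]; exact h)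
      omega
    have := Nat.div_lt_self hpos hg
    omega
  · have hpow : ∀ k : ℕ, (x ^ k)⁻¹ * y * x ^ k = y ^ (r ^ k) := by
      intro k
      induction k with
      | zero => simp
      | succ k ih =>
        rw [show (x ^ (k + 1))⁻¹ * y * x ^ (k + 1) = MulAut.conj x⁻¹ ((x ^ k)⁻¹ * y * x ^ k) by
          rw [pow_succ]; simp [mul_assoc], ih, map_pow, show MulAut.conj x⁻¹ y = y ^ r by simpa using hyr,
          ← pow_mul, pow_succ']
    have := hpow n
    rw [hn, pow_orderOf_eq_one, inv_one, one_mul, mul_one] at this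
    have h2 : y ^ 1 = y ^ (r ^ n) := by rw [pow_one]; exact this
    rw [pow_eq_pow_iff_modEq, ← hm] at h2
    exact h2.symm

end Cfsg.Agent.S3379
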