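import Cfsg.Statements.S3358
import Cfsg.Agent.Lib.Grp.Zassenhaus.Quotient
import Cfsg.Agent.S3379

set_option autoImplicit false
open Cfsg

namespace Cfsg.Agent.S3358

/-- Structure of solvable Frobenius complements. Let G be a finite solvable group that occurs as a Frobenius complement. Then G has a normal subgroup G₀ such that G/G₀ is isomorphic to a subgroup of Sym(4) (G₀ is the kernel of a homomorphism to Sym(4)), all Sylow subgroups of G₀ are cyclic, and G₀ has a presentation ⟨x, y | x^n = 1, y^m = 1, x⁻¹ y x = y^r⟩ with n, m ≥ 1, gcd(r − 1, m) = gcd(n, m) = 1 and r^(n/n′) ≡ 1 (mod m), where n′ is the product of the distinct primes dividing n. -/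
theorem result {G : Type*} [Group G] [Finite G] (hsol : Group.IsSolvable G)
    (hFC : ∃ (L : Type) (_ : Group L) (_ : Finite L) (H : Subgroup L), Cfsg.IsFrobeniusComplement H ∧ Nonempty (G ≃* H)) :
    ∃ G₀ : Subgroup G, G₀.Normal ∧
      (∃ f : G →* Equiv.Perm (Fin 4), f.ker = G₀) ∧
      (∀ (p : ℕ) [Fact p.Prime] (P : Sylow p G₀), IsCyclic P) ∧
      ∃ n m r : ℕ, 0 < n ∧ 0 < m ∧ Nat.Coprime (r - 1) m ∧ Nat.Coprime n m ∧ 1 ≤ r ∧
        r ^ (n / ∏ p ∈ n.primeFactors, p) % m = 1 % m ∧
        Nonempty (G₀ ≃* PresentedGroup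
          ({FreeGroup.of (0 : Fin 2) ^ n, FreeGroup.of (1 : Fin 2) ^ m,
            (FreeGroup.of (0 : Fin 2))⁻¹ * FreeGroup.of 1 * FreeGroup.of 0 * (FreeGroup.of (1 : Fin 2) ^ r)⁻¹} :
            Set (FreeGroup (Fin 2)))) := by
  classical
  obtain ⟨L, _, _, H, hH, ⟨e⟩⟩ := hFC
  have h : Grp.Zas.HasFpf G := (Grp.Zas.hasFpf_of_complement hH).of_injective e.toMonoidHom e.injective
  obtain ⟨N, ⟨hNn, hNz, hNq⟩, -⟩ := h.existsUnique_of_isSolvable
  refine ⟨N, hNn, ?_, hNz, ?_⟩
  · rcases hNq.solQuot with rfl | ⟨f, hf, hk⟩ | ⟨f, hf, hk⟩ | ⟨f, hf, hk⟩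
    · exact ⟨1, MonoidHom.ker_one⟩
    · let σ : DihedralGroup 2 ≃ Fin 4 := (Finite.card_eq.mp (Grp.Zas.card_klein.trans (Nat.card_fin 4).symm)).some
      refine ⟨(σ.permCongrHom.toMonoidHom.comp (MulAction.toPermHom (DihedralGroup 2) (DihedralGroup 2))).comp f, ?_⟩
      rw [← MonoidHom.comap_ker, (MonoidHom.ker_eq_bot_iff _).mpr
        (σ.permCongrHom.injective.comp MulAction.toPerm_injective), MonoidHom.comap_bot, hk]
    · refine ⟨(alternatingGroup (Fin 4)).subtype.comp f, ?_⟩
      rw [← MonoidHom.comap_ker, Subgroup.ker_subtype, MonoidHom.comap_bot, hk]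
    · exact ⟨f, hk⟩
  obtain ⟨x, y, n, m, r, hgen, hxn, hym, hrel, hr1, hnm, hr, -⟩ := S3379.result hNz
  have hn0 : 0 < n := hxn ▸ orderOf_pos x
  have hm0 : 0 < m := hym ▸ orderOf_pos y
  refine ⟨n, m, r, hn0, hm0, hr1, hnm, hr, ?_, ?_⟩
  · have hN := h.of_injective N.subtype N.subtype_injective
    set n' := ∏ p ∈ n.primeFactors, p with hn'
    have hdvd : n' ∣ n := Nat.prod_primeFactors_dvd n
    set w := x ^ (n / n') with hw
    have hwo : orderOf w = n' := by
      rw [hw]
      subst hxn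
      exact orderOf_pow_orderOf_div (orderOf_pos x).ne' hdvd
    have hconj : ∀ k : ℕ, (x ^ k)⁻¹ * y * x ^ k = y ^ (r ^ k) := by
      intro k
      induction k with
      | zero => simp
      | succ k ih =>
        rw [show (x ^ (k + 1))⁻¹ * y * x ^ (k + 1) = MulAut.conj x⁻¹ ((x ^ k)⁻¹ * y * x ^ k) by
          rw [pow_succ]; simp [mul_assoc], ih, map_pow, show MulAut.conj x⁻¹ y = y ^ r by simpa using hrel,
          ← pow_mul, pow_succ']
    set Z := Subgroup.zpowers w ⊓ Subgroup.centralizer {y} with hZ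
    have hq : ∀ q ∈ n.primeFactors, q ∣ Nat.card Z := by
      intro q hq
      have hqp := Nat.prime_of_mem_primeFactors hq
      have := Fact.mk hqp
      have hqn := Nat.dvd_of_mem_primeFactors hq
      have hqn' : q ∣ n' := Finset.dvd_prod_of_mem _ hq
      set z := x ^ (n / q) with hz
      have hzo : orderOf z = q := by
        rw [hz]
        subst hxn
        exact orderOf_pow_orderOf_div (orderOf_pos x).ne' hqn
      have hzw : z = w ^ (n' / q) := by
        rw [hw, ← pow_mul, hz]
        congr 1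
        obtain ⟨s, hs⟩ := hqn'
        obtain ⟨t, ht⟩ := hdvd
        have hn'0 : 0 < n' := Nat.pos_of_ne_zero fun e => by simp [e] at ht; omega
        rw [ht, Nat.mul_div_cancel_left _ hn'0, hs, Nat.mul_div_cancel_left _ hqp.pos, Nat.mul_assoc,
          Nat.mul_div_cancel_left _ hqp.pos, Nat.mul_comm]
      have hzy : Commute z⁻¹ y := by
        refine hN.commute_of_cyclic_normal (q := q) (by rw [orderOf_inv, hzo]) ?_ ?_
        · rw [hym]
          intro hqm
          exact Nat.not_coprime_of_dvd_of_dvd hqp.one_lt hqn hqm hnm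
        · rw [inv_inv, hz, hconj]
          exact Subgroup.npow_mem_zpowers _ _
      rw [← hzo]
      exact Z.orderOf_dvd_natCard ⟨hzw ▸ Subgroup.npow_mem_zpowers _ _,
        Subgroup.mem_centralizer_singleton_iff.mpr (Commute.inv_left_iff.mp hzy)⟩
    have hle : n' ∣ Nat.card Z :=
      Finset.prod_primes_dvd _ (fun q hq => (Nat.prime_of_mem_primeFactors hq).prime) hq
    have hZw : Z = Subgroup.zpowers w := Subgroup.eq_of_le_of_card_ge inf_le_left (by
      rw [Nat.card_zpowers, hwo]; exact Nat.le_of_dvd Nat.card_pos hle)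
    have hwy : w * y = y * w :=
      Subgroup.mem_centralizer_singleton_iff.mp (hZw ▸ Subgroup.mem_zpowers w : w ∈ Z).2
    have h1 := hconj (n / n')
    rw [← hw, mul_assoc, ← hwy, inv_mul_cancel_left] at h1
    have h2 : y ^ 1 = y ^ r ^ (n / n') := by rw [pow_one]; exact h1
    rw [pow_eq_pow_iff_modEq, hym] at h2
    exact h2.symm
  · set rels : Set (FreeGroup (Fin 2)) := {FreeGroup.of (0 : Fin 2) ^ n, FreeGroup.of (1 : Fin 2) ^ m,
      (FreeGroup.of (0 : Fin 2))⁻¹ * FreeGroup.of 1 * FreeGroup.of 0 * (FreeGroup.of (1 : Fin 2) ^ r)⁻¹}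
    let a : PresentedGroup rels := PresentedGroup.of 0
    let b : PresentedGroup rels := PresentedGroup.of 1
    have han : a ^ n = 1 := by
      show PresentedGroup.mk rels (FreeGroup.of 0) ^ n = 1
      rw [← map_pow]
      exact PresentedGroup.one_of_mem (by simp [rels])
    have hbm : b ^ m = 1 := by
      show PresentedGroup.mk rels (FreeGroup.of 1) ^ m = 1
      rw [← map_pow]
      exact PresentedGroup.one_of_mem (by simp [rels])
    have hab : a⁻¹ * b * a = b ^ r := by
      rw [← mul_inv_eq_one]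
      show (PresentedGroup.mk rels (FreeGroup.of 0))⁻¹ * PresentedGroup.mk rels (FreeGroup.of 1) *
        PresentedGroup.mk rels (FreeGroup.of 0) * (PresentedGroup.mk rels (FreeGroup.of 1) ^ r)⁻¹ = 1
      simp only [← map_pow, ← map_inv, ← map_mul]
      exact PresentedGroup.one_of_mem (by simp [rels])
    have hbj : ∀ j : ℕ, b ^ j * a = a * b ^ (r * j) := by
      intro j
      have h1 : a⁻¹ * b ^ j * a = b ^ (r * j) := by
        rw [pow_mul, ← hab, show a⁻¹ * b * a = a⁻¹ * b * a⁻¹⁻¹ by rw [inv_inv], conj_pow, inv_inv]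
      rw [← h1]; group
    have hbja : ∀ k j : ℕ, b ^ j * a ^ k = a ^ k * b ^ (r ^ k * j) := by
      intro k
      induction k with
      | zero => simp
      | succ k ih =>
        intro j
        rw [pow_succ, ← mul_assoc, ih, mul_assoc, hbj, ← mul_assoc]
        congr 2
        ring
    have hdec : ∀ g : PresentedGroup rels, ∃ i j : ℕ, g = a ^ i * b ^ j := by
      intro g
      have hg : g ∈ Subgroup.closure (Set.range (PresentedGroup.of : Fin 2 → PresentedGroup rels)) := by
        rw [PresentedGroup.closure_range_of]; trivial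
      induction hg using Subgroup.closure_induction_right with
      | one => exact ⟨0, 0, by simp⟩
      | mul_right u _ v hv ih =>
        obtain ⟨i, j, rfl⟩ := ih
        obtain ⟨t, rfl⟩ := hv
        rcases (show t = 0 ∨ t = 1 by omega) with rfl | rfl
        · exact ⟨i + 1, r * j, by
            show a ^ i * b ^ j * a = _
            rw [mul_assoc, hbj, ← mul_assoc, ← pow_succ]⟩
        · exact ⟨i, j + 1, by show a ^ i * b ^ j * b = _; rw [mul_assoc, ← pow_succ]⟩
      | mul_inv_cancel u _ v hv ih =>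
        obtain ⟨i, j, rfl⟩ := ih
        obtain ⟨t, rfl⟩ := hv
        have hinv : ∀ (c : PresentedGroup rels) (d : ℕ), 0 < d → c ^ d = 1 → c⁻¹ = c ^ (d - 1) := fun c d hd hc =>
          inv_eq_of_mul_eq_one_left (by rw [← pow_succ, Nat.sub_add_cancel hd, hc])
        rcases (show t = 0 ∨ t = 1 by omega) with rfl | rfl
        · exact ⟨i + (n - 1), r ^ (n - 1) * j, by
            show a ^ i * b ^ j * a⁻¹ = _
            rw [hinv a n hn0 han, mul_assoc, hbja, ← mul_assoc, ← pow_add]⟩
        · exact ⟨i, j + (m - 1), by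
            show a ^ i * b ^ j * b⁻¹ = _
            rw [hinv b m hm0 hbm, mul_assoc, ← pow_add]⟩
    have hsur : Function.Surjective (fun q : Fin n × Fin m => a ^ (q.1 : ℕ) * b ^ (q.2 : ℕ)) := by
      intro g
      obtain ⟨i, j, rfl⟩ := hdec g
      exact ⟨(⟨i % n, Nat.mod_lt _ hn0⟩, ⟨j % m, Nat.mod_lt _ hm0⟩), by
        simp only; rw [← pow_eq_pow_mod _ han, ← pow_eq_pow_mod _ hbm]⟩
    have : Finite (PresentedGroup rels) := Finite.of_surjective _ hsur
    have hP : Nat.card (PresentedGroup rels) ≤ n * m :=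
      (Nat.card_le_card_of_surjective _ hsur).trans (by rw [Nat.card_prod, Nat.card_fin, Nat.card_fin])
    let φ : PresentedGroup rels →* N := PresentedGroup.toGroup (f := ![x, y]) (by
      rintro q (rfl | rfl | rfl) <;> simp [← hxn, ← hym, pow_orderOf_eq_one, hrel])
    have hφ : Function.Surjective φ := by
      rw [← MonoidHom.range_eq_top, eq_top_iff, ← hgen, Subgroup.closure_le]
      rintro z (rfl | rfl)
      · exact ⟨a, PresentedGroup.toGroup.of _⟩
      · exact ⟨b, PresentedGroup.toGroup.of _⟩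
    have hN2 : n * m ∣ Nat.card N :=
      hnm.mul_dvd_of_dvd_of_dvd (hxn ▸ orderOf_dvd_natCard x) (hym ▸ orderOf_dvd_natCard y)
    exact ⟨(MulEquiv.ofBijective φ (hφ.bijective_of_nat_card_le
      (hP.trans (Nat.le_of_dvd Nat.card_pos hN2)))).symm⟩

end Cfsg.Agent.S3358
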