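import Cfsg.Statements.S3361
import Mathlib
import Cfsg.Agent.Lib.Recog.RegularLinear
import Cfsg.Agent.S3360
-- import your own Cfsg.Agent.* helpers here

set_option autoImplicit false
open Cfsg

namespace Cfsg.Agent.S3361

section
open Cfsg.Agent Cfsg.Agent.Recog Cfsg.Agent.Recog.HuppertCases Cfsg.Agent.Recog.RegularLinear

variable {q : ℕ} [Fact q.Prime] {V : Type*} [AddCommGroup V] [Module (ZMod q) V] [Finite V] [Nontrivial V]
  {G : Type*} [Group G] [Finite G] {ρ : G →* (V ≃ₗ[ZMod q] V)}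

theorem card_eq (hρ : Function.Injective ρ) (ht : Trans ρ) (hreg : ∀ v : V, v ≠ 0 → ∀ g : G, ρ g v = v → g = 1) :
    Nat.card G = q ^ Module.finrank (ZMod q) V - 1 := by
  classical
  obtain ⟨v₀, hv₀⟩ := exists_ne (0 : V)
  have hne : ∀ g : G, ρ g v₀ ≠ 0 := fun g h0 => hv₀ ((ρ g).injective (h0.trans (map_zero _).symm))
  let f : G → {w : V // w ≠ 0} := fun g => ⟨ρ g v₀, hne g⟩
  have hf : Function.Bijective f := by
    refine ⟨fun g h hgh => ?_, fun w => ?_⟩
    · have h1 : ρ g v₀ = ρ h v₀ := congrArg Subtype.val hgh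
      have : h⁻¹ * g = 1 := hreg v₀ hv₀ _ (by rw [rho_mul, h1, rho_inv'])
      exact (inv_mul_eq_one.mp this).symm
    · obtain ⟨g, hg⟩ := ht v₀ w hv₀ w.2
      exact ⟨g, Subtype.ext hg⟩
  haveI := Fintype.ofFinite V
  rw [Nat.card_eq_of_bijective f hf, Nat.card_eq_fintype_card, Fintype.card_subtype_compl, Fintype.card_subtype_eq,
    ← Nat.card_eq_fintype_card, HuppertCases.card_V (q := q)]

theorem minus_one (hρ : Function.Injective ρ) (hreg : ∀ v : V, v ≠ 0 → ∀ g : G, ρ g v = v → g = 1) {g : G}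
    (hg : g ^ 2 = 1) (hg1 : g ≠ 1) : ∀ v, ρ g v = -v := by
  intro v
  by_contra hne
  refine hg1 (hreg (ρ g v + v) (fun h0 => hne (eq_neg_of_add_eq_zero_left h0)) g ?_)
  rw [map_add, ← rho_mul, ← pow_two, hg, map_one]
  exact add_comm _ _

theorem unique_inv (hρ : Function.Injective ρ) (ht : Trans ρ) (hreg : ∀ v : V, v ≠ 0 → ∀ g : G, ρ g v = v → g = 1)
    (hq : q ≠ 2) : ∃ z : G, UniqueInv G z := by
  haveI : Fact (Nat.Prime 2) := ⟨Nat.prime_two⟩
  have hodd := (Fact.out : q.Prime).odd_of_ne_two hq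
  have h2 : 2 ∣ Nat.card G := by
    rw [card_eq hρ ht hreg]
    exact even_iff_two_dvd.mp (Nat.Odd.sub_odd hodd.pow odd_one)
  obtain ⟨z, hz⟩ := exists_prime_orderOf_dvd_card' 2 h2
  refine ⟨z, hz, fun g hg => (em (g = 1)).imp id fun hg1 => hρ (LinearEquiv.ext fun v => ?_)⟩
  rw [minus_one hρ hreg hg hg1, minus_one hρ hreg (by rw [← hz, pow_orderOf_eq_one]) (fun h => by rw [h, orderOf_one] at hz; omega)]

theorem two_of_semi (hρ : Function.Injective ρ) (ht : Trans ρ) (hreg : ∀ v : V, v ≠ 0 → ∀ g : G, ρ g v = v → g = 1)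
    (hq : q ≠ 2) (hS : Semi ρ) : RegularLinear.Two G := by
  classical
  obtain ⟨F, _, _, e, he⟩ := hS
  choose a σ hσ using he
  obtain ⟨z, hz⟩ := unique_inv hρ ht hreg hq
  have h0 : ∀ g, a g ≠ 0 := fun g h0 => by
    obtain ⟨v, hv⟩ := exists_ne (0 : V)
    have h1 := hσ g v
    rw [h0, zero_mul] at h1
    exact hv ((ρ g).injective ((e.injective (h1.trans (map_zero e).symm)).trans (map_zero _).symm))
  have huniq : ∀ (g : G) (b : F) (τ : F ≃+* F), (∀ v, e (ρ g v) = b * τ (e v)) → a g = b ∧ σ g = τ := by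
    intro g b τ h
    have h1 : ∀ w, a g * σ g w = b * τ w := fun w => by
      have h' := (hσ g (e.symm w)).symm.trans (h (e.symm w))
      rwa [e.apply_symm_apply] at h'
    have hb : a g = b := by simpa using h1 1
    refine ⟨hb, RingEquiv.ext fun w => ?_⟩
    have := h1 w
    rw [← hb] at this
    exact mul_left_cancel₀ (h0 g) this
  let f : G →* (F ≃+* F) :=
    { toFun := σ
      map_one' := (huniq 1 1 1 (fun v => by simp)).2
      map_mul' := fun g h => (huniq (g * h) (a g * σ g (a h)) (σ g * σ h) (fun v => by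
        rw [HuppertCases.rho_mul, hσ, hσ, map_mul, mul_assoc]; rfl)).2 }
  have hcomm : ∀ s t : F ≃+* F, Commute s t := by
    intro s t
    obtain ⟨x, hx⟩ := IsCyclic.exists_monoid_generator (α := Fˣ)
    refine RingEquiv.ext fun w => ?_
    show s (t w) = t (s w)
    by_cases hw : w = 0
    · simp [hw]
    obtain ⟨i, hi⟩ := hx (Units.mk0 w hw)
    obtain ⟨k, hk⟩ := hx (Units.map (s : F →* F) x)
    obtain ⟨l, hl⟩ := hx (Units.map (t : F →* F) x)
    have hi' : (x : F) ^ i = w := by simpa using congrArg Units.val hi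
    have hk' : s x = (x : F) ^ k := by simpa using (congrArg Units.val hk).symm
    have hl' : t x = (x : F) ^ l := by simpa using (congrArg Units.val hl).symm
    rw [← hi', map_pow, map_pow, map_pow, map_pow, hk', hl', map_pow, map_pow, hk', hl', ← pow_mul (x : F) k, ← pow_mul (x : F) l,
      mul_comm k l]
  by_cases heven : 2 ∣ Nat.card f.range
  · exact two_of_even f (fun s _ t _ => hcomm s t) heven
  -- now the kernel is cyclic of even order
  have hk : ∀ g ∈ f.ker, ∀ v, e (ρ g v) = a g * e v := fun g hg v => by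
    rw [hσ, show σ g = 1 from hg]; rfl
  let c : f.ker →* Fˣ :=
    { toFun := fun g => Units.mk0 (a g) (h0 g)
      map_one' := Units.ext (huniq 1 1 1 (fun v => by simp)).1
      map_mul' := fun g h => Units.ext (huniq ((g : G) * h) (a g * a h) 1 (fun v => by
        rw [HuppertCases.rho_mul, hk g g.2, hk h h.2]; simp [mul_assoc])).1 }
  have hc : Function.Injective c := fun g h hgh => Subtype.ext (hρ (LinearEquiv.ext fun v => e.injective (by
    rw [hk g g.2, hk h h.2, show a g = a h from congrArg Units.val hgh])))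
  haveI : IsCyclic f.ker := isCyclic_of_injective c hc
  letI := IsCyclic.commGroup (α := f.ker)
  let S : Subgroup G := (powMonoidHom 2 : f.ker →* f.ker).range.map f.ker.subtype
  haveI hSn : S.Normal := by
    refine ⟨?_⟩
    rintro _ ⟨_, ⟨u, rfl⟩, rfl⟩ g
    refine ⟨_, ⟨⟨g * u * g⁻¹, (MonoidHom.normal_ker f).conj_mem u u.2 g⟩, rfl⟩, ?_⟩
    show (g * (u : G) * g⁻¹) ^ 2 = g * ((u : G) ^ 2) * g⁻¹
    rw [conj_pow]
  let π : G →* G ⧸ S := QuotientGroup.mk' S
  have hπ : Function.Surjective π := QuotientGroup.mk'_surjective S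
  have hSle : S ≤ f.ker := Subgroup.map_subtype_le _
  -- the kernel modulo squares has order two
  have hkS : ∀ u ∈ f.ker, ∀ u' ∈ f.ker, u ∉ S → u' ∉ S → π u = π u' := by
    intro u hu u' hu' hn hn'
    obtain ⟨x, hx⟩ := IsCyclic.exists_monoid_generator (α := f.ker)
    have key : ∀ w : f.ker, (w : G) ∉ S → ∃ w' : f.ker, w = x * w' ^ 2 := by
      intro w hw
      obtain ⟨i, rfl⟩ := hx w
      rcases Nat.even_or_odd' i with ⟨j, rfl | rfl⟩
      · exact absurd ⟨_, ⟨x ^ j, rfl⟩, by simp [← pow_mul, mul_comm]⟩ hw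
      · exact ⟨x ^ j, by simp only; rw [← pow_mul, pow_succ', mul_comm j 2]⟩
    obtain ⟨w, hw⟩ := key ⟨u, hu⟩ hn
    obtain ⟨w', hw'⟩ := key ⟨u', hu'⟩ hn'
    have e1 : u = (x : G) * (w : G) ^ 2 := by simpa using congrArg Subtype.val hw
    have e2 : u' = (x : G) * (w' : G) ^ 2 := by simpa using congrArg Subtype.val hw'
    have hs : ∀ w : f.ker, π ((w : G) ^ 2) = 1 := fun w =>
      (QuotientGroup.eq_one_iff _).mpr ⟨_, ⟨w, rfl⟩, by simp⟩
    rw [e1, e2, map_mul, map_mul, hs, hs]
  have hcent : ∀ u ∈ f.ker, ∀ g : G, Commute (π u) (π g) := by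
    intro u hu g
    by_cases hn : u ∈ S
    · rw [show π u = 1 from (QuotientGroup.eq_one_iff u).mpr hn]; exact Commute.one_left _
    have hn' : g * u * g⁻¹ ∉ S := fun h => hn (by simpa [mul_assoc] using hSn.conj_mem _ h g⁻¹)
    have := hkS u hu _ ((MonoidHom.normal_ker f).conj_mem u hu g) hn hn'
    rw [map_mul, map_mul, map_inv] at this
    show π u * π g = π g * π u
    calc π u * π g = π g * π u * (π g)⁻¹ * π g := by rw [← this]
      _ = _ := inv_mul_cancel_right _ _
  -- the quotient is commutative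
  have hab : ∀ A B : G ⧸ S, Commute A B := by
    intro A B
    obtain ⟨g, rfl⟩ := hπ A
    obtain ⟨h, rfl⟩ := hπ B
    have hck : g * h * g⁻¹ * h⁻¹ ∈ f.ker := by
      rw [MonoidHom.mem_ker]
      simp only [map_mul, map_inv]
      rw [(hcomm (f g) (f h)).eq, mul_inv_cancel_right, mul_inv_cancel]
    set d := g * h * g⁻¹ * h⁻¹
    have hd2 : π d ^ 2 = 1 := by
      rw [← map_pow]
      exact (QuotientGroup.eq_one_iff _).mpr ⟨_, ⟨⟨d, hck⟩, rfl⟩, by simp⟩
    set m := Nat.card f.range
    have hgm : g ^ m ∈ f.ker := by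
      rw [MonoidHom.mem_ker, map_pow]
      have := congrArg Subtype.val (pow_card_eq_one' (x := (⟨f g, g, rfl⟩ : f.range)))
      rw [Subgroup.coe_pow] at this
      exact this
    have hconj : ∀ j : ℕ, (π g) ^ j * π h * ((π g) ^ j)⁻¹ = π d ^ j * π h := by
      intro j
      induction j with
      | zero => simp
      | succ j ih =>
        rw [pow_succ' (π g), _root_.mul_inv_rev,
          show π g * π g ^ j * π h * ((π g ^ j)⁻¹ * (π g)⁻¹) = π g * (π g ^ j * π h * (π g ^ j)⁻¹) * (π g)⁻¹ by group, ih,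
          show π g * (π d ^ j * π h) * (π g)⁻¹ = (π g * π d ^ j * (π g)⁻¹) * (π g * π h * (π g)⁻¹) by group,
          ← ((hcent d hck g).pow_left j).eq, mul_inv_cancel_right,
          show π g * π h * (π g)⁻¹ = π d * π h by simp only [d, map_mul, map_inv]; group, ← mul_assoc, ← pow_succ]
    have hdm : π d ^ m = 1 := by
      have h1 := hconj m
      rw [← map_pow π g, ← (hcent _ hgm h).symm.eq, mul_inv_cancel_right] at h1
      exact mul_eq_right.mp h1.symm
    have hd1 : π d = 1 := orderOf_eq_one_iff.mp (Nat.eq_one_of_dvd_coprimes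
      (Nat.prime_two.coprime_iff_not_dvd.mpr heven) (orderOf_dvd_of_pow_eq_one hd2) (orderOf_dvd_of_pow_eq_one hdm))
    simp only [d, map_mul, map_inv, mul_inv_eq_one, mul_inv_eq_iff_eq_mul, one_mul] at hd1
    exact hd1
  have hz' : z ∈ f.ker := by
    rw [MonoidHom.mem_ker]
    exact orderOf_eq_one_iff.mp (Nat.eq_one_of_dvd_coprimes (Nat.prime_two.coprime_iff_not_dvd.mpr heven)
      (orderOf_dvd_of_pow_eq_one (by rw [← map_pow, ← hz.1, pow_orderOf_eq_one, map_one]))
      (by
        have := orderOf_dvd_natCard (⟨f z, z, rfl⟩ : f.range)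
        rwa [← Subgroup.orderOf_coe] at this))
  -- a generator of the kernel is outside the squares
  obtain ⟨x, hx⟩ := IsCyclic.exists_generator (α := f.ker)
  have hxS : (x : G) ∉ S := by
    rintro ⟨_, ⟨w, rfl⟩, hw⟩
    have hsurj : Function.Surjective (powMonoidHom 2 : f.ker →* f.ker) := by
      intro y
      obtain ⟨i, rfl⟩ := hx y
      exact ⟨w ^ i, by rw [map_zpow]; exact congrArg (· ^ i) (Subtype.ext hw)⟩
    have hinj := Finite.injective_iff_surjective.mpr hsurj
    have h1 : (⟨z, hz'⟩ : f.ker) = 1 := hinj (by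
      refine Subtype.ext ?_
      show z ^ 2 = ((1 : f.ker) : G) ^ 2
      rw [← hz.1, pow_orderOf_eq_one]; simp)
    have := hz.1
    rw [show z = 1 from congrArg Subtype.val h1, orderOf_one] at this
    omega
  refine two_of_even π (fun A _ B _ => hab A B) ?_
  rw [MonoidHom.range_eq_top.mpr hπ, Subgroup.card_top]
  have hx2 : π (x : G) ^ 2 = 1 := by
    rw [← map_pow]; exact (QuotientGroup.eq_one_iff _).mpr ⟨_, ⟨x, rfl⟩, by simp⟩
  have hx1 : π (x : G) ≠ 1 := fun h => hxS ((QuotientGroup.eq_one_iff _).mp h)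
  exact (orderOf_eq_prime hx2 hx1) ▸ orderOf_dvd_natCard _

theorem semi_eighty_one (hρ : Function.Injective ρ) (ht : Trans ρ)
    (hreg : ∀ v : V, v ≠ 0 → ∀ g : G, ρ g v = v → g = 1) (hq : q = 3) (hn : Module.finrank (ZMod q) V = 4) :
    Semi ρ := by
  classical
  subst hq
  haveI : Fact (Nat.Prime 5) := ⟨by norm_num⟩
  obtain ⟨z, hz⟩ := unique_inv hρ ht hreg (by norm_num)
  have hG : Nat.card G = 80 := by rw [card_eq hρ ht hreg, hn]; norm_num
  obtain ⟨P⟩ : Nonempty (Sylow 5 G) := Sylow.nonempty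
  have hP5 : Nat.card P = 5 := by
    rw [P.card_eq_multiplicity, hG, show (80 : ℕ) = 2 ^ 4 * 5 by norm_num,
      Nat.factorization_mul (by positivity) (by norm_num), Finsupp.add_apply, Nat.factorization_pow, Finsupp.smul_apply,
      Nat.prime_two.factorization, Nat.Prime.factorization_self (by norm_num)]
    simp
  have h1 : Nat.card (Sylow 5 G) = 1 := by
    have hidx : (P : Subgroup G).index = 16 := by
      have := (P : Subgroup G).card_mul_index
      rw [hP5, hG] at this
      omega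
    have hd := Sylow.card_dvd_index P
    rw [hidx] at hd
    have hmod := card_sylow_modEq_one 5 G
    unfold Nat.ModEq at hmod
    obtain ⟨j, hj, hje⟩ := (Nat.dvd_prime_pow Nat.prime_two).mp (show Nat.card (Sylow 5 G) ∣ 2 ^ 4 by simpa using hd)
    rw [hje] at hmod ⊢
    interval_cases j <;> (try norm_num at hmod)
    · norm_num
    exfalso
    have hN := (Subgroup.normalizer ((P : Subgroup G) : Set G)).card_mul_index
    have hidx' : (Subgroup.normalizer ((P : Subgroup G) : Set G)).index = 2 ^ 4 := by rw [← hje]; exact P.card_eq_index_normalizer.symm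
    have hzN : z ∈ Subgroup.normalizer ((P : Subgroup G) : Set G) :=
      Subgroup.centralizer_le_normalizer _ (Subgroup.mem_centralizer_iff.mpr fun x _ => (uniqueInv_central hz x).eq)
    have h2 := orderOf_dvd_natCard (⟨z, hzN⟩ : Subgroup.normalizer ((P : Subgroup G) : Set G))
    rw [← Subgroup.orderOf_coe, hz.1] at h2
    rw [hidx', hG] at hN
    obtain ⟨c, hc⟩ := h2
    rw [hc] at hN
    omega
  haveI := (Nat.card_eq_one_iff_unique.mp h1).1
  have hn' : (P : Subgroup G).Normal := P.normal_of_subsingleton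
  haveI : IsCyclic P := isCyclic_of_prime_card hP5
  letI := IsCyclic.commGroup (α := (P : Subgroup G))
  have hab : ∀ a ∈ (P : Subgroup G), ∀ b ∈ (P : Subgroup G), Commute a b := fun a ha b hb =>
    congrArg Subtype.val (mul_comm (⟨a, ha⟩ : (P : Subgroup G)) ⟨b, hb⟩)
  refine semilinear hn' hab ?_
  by_contra hirr
  obtain ⟨d, hd0, hdn, -, hAd, -⟩ := reducible hρ ht hn' hab hirr
  rw [hn] at hdn
  rw [hP5] at hAd
  interval_cases d <;> norm_num at hAd

theorem semi_nine (hρ : Function.Injective ρ) (ht : Trans ρ)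
    (hreg : ∀ v : V, v ≠ 0 → ∀ g : G, ρ g v = v → g = 1) (hq : q = 3) (hn : Module.finrank (ZMod q) V = 2) :
    Semi ρ := by
  classical
  subst hq
  obtain ⟨z, hz⟩ := unique_inv hρ ht hreg (by norm_num)
  have hG : Nat.card G = 8 := by rw [card_eq hρ ht hreg, hn]; norm_num
  obtain ⟨x, hx⟩ : ∃ x : G, 4 ∣ orderOf x := by
    by_contra h
    push Not at h
    have hsq : ∀ g : G, g = 1 ∨ g = z := fun g => hz.2 g (by
      obtain ⟨j, hj, hje⟩ := (Nat.dvd_prime_pow Nat.prime_two).mp (show orderOf g ∣ 2 ^ 3 by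
        have := orderOf_dvd_natCard g; rwa [hG] at this)
      rw [← orderOf_dvd_iff_pow_eq_one, hje]
      rcases (show j ≤ 1 ∨ 2 ≤ j by omega) with h1 | h1
      · simpa using pow_dvd_pow 2 h1
      · exact absurd (by rw [hje]; exact (show (4 : ℕ) = 2 ^ 2 by norm_num) ▸ pow_dvd_pow 2 h1) (h g))
    haveI := Fintype.ofFinite G
    have : (Finset.univ : Finset G).card ≤ ({1, z} : Finset G).card :=
      Finset.card_le_card fun g _ => by rcases hsq g with h1 | h1 <;> simp [h1]
    rw [Finset.card_univ, ← Nat.card_eq_fintype_card, hG] at this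
    have := this.trans Finset.card_le_two
    omega
  set y := x ^ (orderOf x / 4)
  have hy : orderOf y = 4 := orderOf_pow_orderOf_div (orderOf_pos x).ne' hx
  set A := Subgroup.zpowers y
  have hA : Nat.card A = 4 := by rw [Nat.card_zpowers, hy]
  have hAn : A.Normal := Subgroup.normal_of_index_eq_two (by
    have := A.card_mul_index
    rw [hA, hG] at this
    omega)
  have hab : ∀ a ∈ A, ∀ b ∈ A, Commute a b := by
    rintro _ ⟨i, rfl⟩ _ ⟨j, rfl⟩
    exact (Commute.refl y).zpow_zpow i j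
  refine semilinear hAn hab ?_
  by_contra hirr
  obtain ⟨d, hd0, hdn, -, hAd, -⟩ := reducible hρ ht hAn hab hirr
  rw [hn] at hdn
  rw [hA] at hAd
  interval_cases d
  norm_num at hAd

end

/-- Let q be a prime and V a non-trivial finite vector space over the field with q elements, and let G be a finite solvable group acting faithfully and linearly on V and regularly on the non-zero vectors (transitively, with only the identity fixing a non-zero vector). Then either V can be identified with the additive group of a finite field F so that every element of G acts as x ↦ a·σ(x) (a ∈ F, σ a field automorphism), or V has 5^2, 7^2, 11^2 or 23^2 elements. Moreover, if q ≠ 2 then G has a normal subgroup of index 2, except that when V has 25 elements G may be isomorphic to SL(2,3) and when V has 121 elements G may be isomorphic to SL(2,3) × C₅. -/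
theorem result
    (q : ℕ) [Fact q.Prime] {V : Type*} [AddCommGroup V] [Module (ZMod q) V] [Finite V] [Nontrivial V]
    {G : Type*} [Group G] [Finite G] (hsol : Group.IsSolvable G)
    (ρ : G →* (V ≃ₗ[ZMod q] V)) (hρ : Function.Injective ρ)
    (htrans : ∀ v w : V, v ≠ 0 → w ≠ 0 → ∃ g : G, ρ g v = w)
    (hreg : ∀ v : V, v ≠ 0 → ∀ g : G, ρ g v = v → g = 1) :
    ((∃ (F : Type) (_ : Field F) (_ : Fintype F) (e : V ≃+ F),
        ∀ g : G, ∃ (a : F) (σ : F ≃+* F), ∀ v : V, e (ρ g v) = a * σ (e v)) ∨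
      Nat.card V ∈ ({25, 49, 121, 529} : Set ℕ)) ∧
    (q ≠ 2 → (∃ N : Subgroup G, N.Normal ∧ N.index = 2) ∨
      (Nat.card V = 25 ∧ Nonempty (G ≃* Matrix.SpecialLinearGroup (Fin 2) (ZMod 3))) ∨
      (Nat.card V = 121 ∧ Nonempty (G ≃* Matrix.SpecialLinearGroup (Fin 2) (ZMod 3) × Multiplicative (ZMod 5)))) := by
  classical
  have hsol' : Group.IsSolvable G := hsol
  have ht : Recog.HuppertCases.Trans ρ := htrans
  set n := Module.finrank (ZMod q) V with hn
  have hn0 : 0 < n := Module.finrank_pos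
  have hcard : Nat.card V = q ^ n := Recog.HuppertCases.card_V
  have hG := card_eq hρ ht hreg
  have hq := (Fact.out : q.Prime)
  have hH := Cfsg.Agent.S3360.result q hsol ρ hρ htrans
  by_cases hsemi : Recog.HuppertCases.Semi ρ
  · exact ⟨Or.inl hsemi, fun hq2 => Or.inl (two_of_semi hρ ht hreg hq2 hsemi)⟩
  have hmem := hH.resolve_left hsemi
  rw [hcard] at hmem
  have hqn : (n = 2 ∧ (q = 5 ∨ q = 7 ∨ q = 11 ∨ q = 23)) := by
    simp only [Set.mem_insert_iff, Set.mem_singleton_iff] at hmem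
    have key : ∀ p k : ℕ, p.Prime → q ^ n = p ^ k → q = p ∧ n = k := by
      intro p k hp h
      obtain rfl : q = p := (Nat.prime_dvd_prime_iff_eq hq hp).mp
        (hq.dvd_of_dvd_pow (h ▸ dvd_pow_self q hn0.ne'))
      exact ⟨rfl, Nat.pow_right_injective hq.two_le h⟩
    rcases hmem with h | h | h | h | h | h
    · obtain ⟨h1, h2⟩ := key 3 2 (by norm_num) (by rw [h]; norm_num)
      exact absurd (semi_nine hρ ht hreg h1 h2) hsemi
    · obtain ⟨h1, h2⟩ := key 5 2 (by norm_num) (by rw [h]; norm_num)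
      exact ⟨h2, by omega⟩
    · obtain ⟨h1, h2⟩ := key 7 2 (by norm_num) (by rw [h]; norm_num)
      exact ⟨h2, by omega⟩
    · obtain ⟨h1, h2⟩ := key 11 2 (by norm_num) (by rw [h]; norm_num)
      exact ⟨h2, by omega⟩
    · obtain ⟨h1, h2⟩ := key 23 2 (by norm_num) (by rw [h]; norm_num)
      exact ⟨h2, by omega⟩
    · obtain ⟨h1, h2⟩ := key 3 4 (by norm_num) (by rw [h]; norm_num)
      exact absurd (semi_eighty_one hρ ht hreg h1 h2) hsemi
  obtain ⟨hn2, hq4⟩ := hqn
  constructor
  · right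
    rw [hcard, hn2]
    rcases hq4 with rfl | rfl | rfl | rfl <;> norm_num
  intro hq2
  by_cases h2 : Recog.RegularLinear.Two G
  · exact Or.inl h2
  obtain ⟨z, hz⟩ := unique_inv hρ ht hreg hq2
  -- a normal abelian subgroup acts by scalars
  have hsmall : ∀ A : Subgroup G, A.Normal → (∀ a ∈ A, ∀ b ∈ A, Commute a b) → Nat.card A ∣ q - 1 := by
    intro A hA hab
    obtain ⟨d, hd0, hdn, -, hAd, -⟩ := Recog.HuppertCases.reducible hρ ht hA hab
      (fun hirr => hsemi (Recog.HuppertCases.semilinear hA hab hirr))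
    rw [← hn, hn2] at hdn
    obtain rfl : d = 1 := by omega
    simpa using hAd
  rw [← hn, hn2] at hG
  rcases hq4 with rfl | rfl | rfl | rfl <;> norm_num at hG
  · exact Or.inr (Or.inl ⟨by rw [hcard, hn2]; norm_num, Recog.RegularLinear.order_twentyfour h2 hG hz⟩)
  · obtain ⟨K, hK, hK4, hKc⟩ := Recog.RegularLinear.order_fortyeight h2 hG hz
    have := hsmall K hK fun a ha b _ => (hKc a ha b).symm
    rw [hK4] at this
    norm_num at this
  · obtain ⟨C, hC, hC5, hCc⟩ := Recog.RegularLinear.central_prime h2 (k := 3) (r := 5) (by norm_num)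
      (Or.inl ⟨rfl, rfl⟩) (by rw [hG]; norm_num)
    obtain ⟨H, hH24, hH2, ⟨z', hz'⟩, ⟨e⟩⟩ := Recog.RegularLinear.complement hC (r := 5) (m := 24) hC5
      (by rw [hG]) (by norm_num) hCc h2 hz (by decide)
    obtain ⟨eH⟩ := Recog.RegularLinear.order_twentyfour hH2 hH24 hz'
    haveI : Fact (Nat.Prime 5) := ⟨by norm_num⟩
    haveI : IsCyclic C := isCyclic_of_prime_card hC5
    have eC : C ≃* Multiplicative (ZMod 5) := mulEquivOfCyclicCardEq (by rw [hC5]; simp)
    exact Or.inr (Or.inr ⟨by rw [hcard, hn2]; norm_num,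
      ⟨e.trans ((MulEquiv.prodComm).trans (eH.prodCongr eC))⟩⟩)
  · obtain ⟨C, hC, hC11, hCc⟩ := Recog.RegularLinear.central_prime h2 (k := 4) (r := 11) (by norm_num)
      (Or.inr ⟨rfl, rfl⟩) (by rw [hG]; norm_num)
    obtain ⟨H, hH48, hH2, ⟨z', hz'⟩, ⟨e⟩⟩ := Recog.RegularLinear.complement hC (r := 11) (m := 48) hC11
      (by rw [hG]) (by norm_num) hCc h2 hz (by decide)
    obtain ⟨K, hK, hK4, hKc⟩ := Recog.RegularLinear.order_fortyeight hH2 hH48 hz'
    -- transport to `G`
    let g : C × H →* G := e.symm.toMonoidHom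
    let KG : Subgroup G := (Subgroup.prod (⊥ : Subgroup C) K).map g
    have hKn : KG.Normal := Subgroup.Normal.map inferInstance _ e.symm.surjective
    have hKcard : Nat.card KG = 4 := by
      rw [Subgroup.card_map_of_injective e.symm.injective, Nat.card_congr (Subgroup.prodEquiv _ _).toEquiv, Nat.card_prod,
        Subgroup.card_bot, hK4]
    have := hsmall KG hKn (by
      rintro _ ⟨a, ha, rfl⟩ _ ⟨b, hb, rfl⟩
      refine Commute.map ?_ g
      obtain ⟨ha1, ha2⟩ := Subgroup.mem_prod.mp ha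
      obtain ⟨hb1, hb2⟩ := Subgroup.mem_prod.mp hb
      refine Prod.ext ?_ (hKc a.2 ha2 b.2).symm.eq
      show a.1 * b.1 = b.1 * a.1
      rw [Subgroup.mem_bot.mp ha1, one_mul, mul_one])
    rw [hKcard] at this
    norm_num at this

end Cfsg.Agent.S3361
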