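import Cfsg.Statements.S3362
import Mathlib
-- import your own Cfsg.Agent.* helpers here

set_option autoImplicit false
open Cfsg

namespace Cfsg.Agent.S3362

abbrev L := List (Fin 12)

def idL : L := List.finRange 12

def toL (g : Equiv.Perm (Fin 12)) : L := (List.finRange 12).map g

def cmp (a b : L) : L := b.map fun i => a.getD i.val 0

theorem getD_toL (g : Equiv.Perm (Fin 12)) (i : Fin 12) : (toL g).getD i.val 0 = g i := by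
  simp [toL, List.getD_eq_getElem?_getD]

theorem toL_mul (g h : Equiv.Perm (Fin 12)) : cmp (toL g) (toL h) = toL (g * h) := by
  show ((List.finRange 12).map h).map _ = _
  rw [List.map_map]
  exact List.map_congr_left fun i _ => getD_toL g (h i)

theorem toL_one : toL 1 = idL := by decide +kernel

theorem toL_injective : Function.Injective toL := fun g h e => Equiv.ext fun i => by
  rw [← getD_toL g i, e, getD_toL]

def gl : List L :=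
  [[0, 1, 2, 4, 5, 3, 7, 8, 6, 10, 11, 9],
   [0, 1, 2, 6, 7, 8, 9, 10, 11, 3, 4, 5],
   [0, 1, 2, 3, 6, 9, 5, 8, 11, 4, 7, 10],
   [0, 1, 2, 3, 7, 11, 10, 5, 6, 8, 9, 4],
   [0, 1, 2, 3, 10, 8, 11, 6, 4, 7, 5, 9],
   [3, 1, 2, 0, 4, 5, 7, 6, 10, 11, 8, 9],
   [1, 0, 2, 3, 4, 5, 9, 10, 11, 6, 7, 8],
   [0, 2, 1, 3, 4, 5, 11, 9, 10, 7, 8, 6]]

open Equiv in
def gen : Fin 8 → Perm (Fin 12) :=
  ![swap (3 : Fin 12) 5 * swap (3 : Fin 12) 4 * swap (6 : Fin 12) 8 * swap (6 : Fin 12) 7 * swap (9 : Fin 12) 11 * swap (9 : Fin 12) 10,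
    swap (3 : Fin 12) 9 * swap (3 : Fin 12) 6 * swap (4 : Fin 12) 10 * swap (4 : Fin 12) 7 * swap (5 : Fin 12) 11 * swap (5 : Fin 12) 8,
    swap (4 : Fin 12) 9 * swap (4 : Fin 12) 5 * swap (4 : Fin 12) 6 * swap (7 : Fin 12) 10 * swap (7 : Fin 12) 11 * swap (7 : Fin 12) 8,
    swap (4 : Fin 12) 11 * swap (4 : Fin 12) 5 * swap (4 : Fin 12) 7 * swap (6 : Fin 12) 8 * swap (6 : Fin 12) 9 * swap (6 : Fin 12) 10,
    swap (4 : Fin 12) 8 * swap (4 : Fin 12) 5 * swap (4 : Fin 12) 10 * swap (6 : Fin 12) 7 * swap (6 : Fin 12) 9 * swap (6 : Fin 12) 11,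
    swap (0 : Fin 12) 3 * swap (6 : Fin 12) 7 * swap (8 : Fin 12) 10 * swap (9 : Fin 12) 11,
    swap (0 : Fin 12) 1 * swap (6 : Fin 12) 9 * swap (7 : Fin 12) 10 * swap (8 : Fin 12) 11,
    swap (1 : Fin 12) 2 * swap (6 : Fin 12) 11 * swap (7 : Fin 12) 9 * swap (8 : Fin 12) 10]

def evalP (w : List (Fin 8)) : Equiv.Perm (Fin 12) := (w.map gen).prod

def evalL : List (Fin 8) → L
  | [] => idL
  | j :: w => cmp (gl.getD j.val idL) (evalL w)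

theorem gen_ok : ∀ j, toL (gen j) = gl.getD j.val idL := by decide +kernel

theorem toL_evalP : ∀ w, toL (evalP w) = evalL w
  | [] => toL_one
  | j :: w => by rw [evalP, List.map_cons, List.prod_cons, ← toL_mul, gen_ok]; exact congrArg _ (toL_evalP w)

abbrev Ent := List (Fin 8) × List (Fin 8) × L × L

def trans : List (List Ent) :=
  [[([6, 7], [7, 6], [1, 2, 0, 3, 4, 5, 8, 6, 7, 10, 11, 9], [2, 0, 1, 3, 4, 5, 7, 8, 6, 11, 9, 10]),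
    ([7], [7], [0, 2, 1, 3, 4, 5, 11, 9, 10, 7, 8, 6], [0, 2, 1, 3, 4, 5, 11, 9, 10, 7, 8, 6]),
    ([], [], [0, 1, 2, 3, 4, 5, 6, 7, 8, 9, 10, 11], [0, 1, 2, 3, 4, 5, 6, 7, 8, 9, 10, 11]),
    ([5, 6, 7], [7, 6, 5], [1, 2, 3, 0, 4, 5, 10, 7, 6, 8, 9, 11], [3, 0, 1, 2, 4, 5, 8, 7, 9, 10, 6, 11]),
    ([0, 5, 6, 7], [7, 6, 5, 0, 0], [1, 2, 4, 0, 5, 3, 11, 8, 7, 6, 10, 9], [3, 0, 1, 5, 2, 4, 9, 8, 7, 11, 10, 6]),
    ([0, 0, 5, 6, 7], [7, 6, 5, 0, 0, 0, 0], [1, 2, 5, 0, 3, 4, 9, 6, 8, 7, 11, 10], [3, 0, 1, 4, 5, 2, 7, 9, 8, 6, 11, 10]),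
    ([1, 5, 6, 7], [7, 6, 5, 1, 1], [1, 2, 6, 0, 7, 8, 4, 10, 9, 11, 3, 5], [3, 0, 1, 10, 6, 11, 2, 4, 5, 8, 7, 9]),
    ([1, 0, 5, 6, 7], [7, 6, 5, 0, 0, 1, 1], [1, 2, 7, 0, 8, 6, 5, 11, 10, 9, 4, 3], [3, 0, 1, 11, 10, 6, 5, 2, 4, 9, 8, 7]),
    ([1, 0, 0, 5, 6, 7], [7, 6, 5, 0, 0, 0, 0, 1, 1], [1, 2, 8, 0, 6, 7, 3, 9, 11, 10, 5, 4], [3, 0, 1, 6, 11, 10, 4, 5, 2, 7, 9, 8]),
    ([1, 1, 5, 6, 7], [7, 6, 5, 1, 1, 1, 1], [1, 2, 9, 0, 10, 11, 7, 4, 3, 5, 6, 8], [3, 0, 1, 8, 7, 9, 10, 6, 11, 2, 4, 5]),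
    ([4, 0, 5, 6, 7], [7, 6, 5, 0, 0, 4, 4, 4], [1, 2, 10, 0, 8, 3, 9, 4, 6, 11, 5, 7], [3, 0, 1, 5, 7, 10, 8, 11, 4, 6, 2, 9]),
    ([4, 1, 5, 6, 7], [7, 6, 5, 1, 1, 4, 4, 4], [1, 2, 11, 0, 6, 4, 10, 5, 7, 9, 3, 8], [3, 0, 1, 10, 5, 7, 4, 8, 11, 9, 6, 2])],
   [([6], [6], [1, 0, 2, 3, 4, 5, 9, 10, 11, 6, 7, 8], [1, 0, 2, 3, 4, 5, 9, 10, 11, 6, 7, 8]),
    ([], [], [0, 1, 2, 3, 4, 5, 6, 7, 8, 9, 10, 11], [0, 1, 2, 3, 4, 5, 6, 7, 8, 9, 10, 11]),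
    ([5, 6], [6, 5], [1, 3, 2, 0, 4, 5, 11, 8, 9, 7, 6, 10], [3, 0, 2, 1, 4, 5, 10, 9, 7, 8, 11, 6]),
    ([0, 5, 6], [6, 5, 0, 0], [1, 4, 2, 0, 5, 3, 9, 6, 10, 8, 7, 11], [3, 0, 2, 5, 1, 4, 7, 10, 9, 6, 8, 11]),
    ([0, 0, 5, 6], [6, 5, 0, 0, 0, 0], [1, 5, 2, 0, 3, 4, 10, 7, 11, 6, 8, 9], [3, 0, 2, 4, 5, 1, 9, 7, 10, 11, 6, 8]),
    ([1, 5, 6], [6, 5, 1, 1], [1, 6, 2, 0, 7, 8, 5, 11, 3, 10, 9, 4], [3, 0, 2, 8, 11, 6, 1, 4, 5, 10, 9, 7]),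
    ([1, 0, 5, 6], [6, 5, 0, 0, 1, 1], [1, 7, 2, 0, 8, 6, 3, 9, 4, 11, 10, 5], [3, 0, 2, 6, 8, 11, 5, 1, 4, 7, 10, 9]),
    ([1, 0, 0, 5, 6], [6, 5, 0, 0, 0, 0, 1, 1], [1, 8, 2, 0, 6, 7, 4, 10, 5, 9, 11, 3], [3, 0, 2, 11, 6, 8, 4, 5, 1, 9, 7, 10]),
    ([1, 1, 5, 6], [6, 5, 1, 1, 1, 1], [1, 9, 2, 0, 10, 11, 8, 5, 6, 4, 3, 7], [3, 0, 2, 10, 9, 7, 8, 11, 6, 1, 4, 5]),
    ([4, 0, 5, 6], [6, 5, 0, 0, 4, 4, 4], [1, 10, 2, 0, 8, 3, 7, 11, 5, 4, 6, 9], [3, 0, 2, 5, 9, 8, 10, 6, 4, 11, 1, 7]),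
    ([4, 1, 5, 6], [6, 5, 1, 1, 4, 4, 4], [1, 11, 2, 0, 6, 4, 8, 9, 3, 5, 7, 10], [3, 0, 2, 8, 5, 9, 4, 10, 6, 7, 11, 1])],
   [([], [], [0, 1, 2, 3, 4, 5, 6, 7, 8, 9, 10, 11], [0, 1, 2, 3, 4, 5, 6, 7, 8, 9, 10, 11]),
    ([5], [5], [3, 1, 2, 0, 4, 5, 7, 6, 10, 11, 8, 9], [3, 1, 2, 0, 4, 5, 7, 6, 10, 11, 8, 9]),
    ([0, 5], [5, 0, 0], [4, 1, 2, 0, 5, 3, 8, 7, 11, 9, 6, 10], [3, 1, 2, 5, 0, 4, 10, 7, 6, 9, 11, 8]),
    ([0, 0, 5], [5, 0, 0, 0, 0], [5, 1, 2, 0, 3, 4, 6, 8, 9, 10, 7, 11], [3, 1, 2, 4, 5, 0, 6, 10, 7, 8, 9, 11]),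
    ([1, 5], [5, 1, 1], [6, 1, 2, 0, 7, 8, 10, 9, 4, 5, 11, 3], [3, 1, 2, 11, 8, 9, 0, 4, 5, 7, 6, 10]),
    ([1, 0, 5], [5, 0, 0, 1, 1], [7, 1, 2, 0, 8, 6, 11, 10, 5, 3, 9, 4], [3, 1, 2, 9, 11, 8, 5, 0, 4, 10, 7, 6]),
    ([1, 0, 0, 5], [5, 0, 0, 0, 0, 1, 1], [8, 1, 2, 0, 6, 7, 9, 11, 3, 4, 10, 5], [3, 1, 2, 8, 9, 11, 4, 5, 0, 6, 10, 7]),
    ([1, 1, 5], [5, 1, 1, 1, 1], [9, 1, 2, 0, 10, 11, 4, 3, 7, 8, 5, 6], [3, 1, 2, 7, 6, 10, 11, 8, 9, 0, 4, 5]),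
    ([4, 0, 5], [5, 0, 0, 4, 4, 4], [10, 1, 2, 0, 8, 3, 4, 6, 9, 7, 11, 5], [3, 1, 2, 5, 6, 11, 7, 9, 4, 8, 0, 10]),
    ([4, 1, 5], [5, 1, 1, 4, 4, 4], [11, 1, 2, 0, 6, 4, 5, 7, 10, 8, 9, 3], [3, 1, 2, 11, 5, 6, 4, 7, 9, 10, 8, 0])],
   [([], [], [0, 1, 2, 3, 4, 5, 6, 7, 8, 9, 10, 11], [0, 1, 2, 3, 4, 5, 6, 7, 8, 9, 10, 11]),
    ([0], [0, 0], [0, 1, 2, 4, 5, 3, 7, 8, 6, 10, 11, 9], [0, 1, 2, 5, 3, 4, 8, 6, 7, 11, 9, 10]),
    ([0, 0], [0, 0, 0, 0], [0, 1, 2, 5, 3, 4, 8, 6, 7, 11, 9, 10], [0, 1, 2, 4, 5, 3, 7, 8, 6, 10, 11, 9]),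
    ([1], [1, 1], [0, 1, 2, 6, 7, 8, 9, 10, 11, 3, 4, 5], [0, 1, 2, 9, 10, 11, 3, 4, 5, 6, 7, 8]),
    ([1, 0], [0, 0, 1, 1], [0, 1, 2, 7, 8, 6, 10, 11, 9, 4, 5, 3], [0, 1, 2, 11, 9, 10, 5, 3, 4, 8, 6, 7]),
    ([1, 0, 0], [0, 0, 0, 0, 1, 1], [0, 1, 2, 8, 6, 7, 11, 9, 10, 5, 3, 4], [0, 1, 2, 10, 11, 9, 4, 5, 3, 7, 8, 6]),
    ([1, 1], [1, 1, 1, 1], [0, 1, 2, 9, 10, 11, 3, 4, 5, 6, 7, 8], [0, 1, 2, 6, 7, 8, 9, 10, 11, 3, 4, 5]),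
    ([4, 0], [0, 0, 4, 4, 4], [0, 1, 2, 10, 8, 3, 6, 4, 11, 5, 9, 7], [0, 1, 2, 5, 7, 9, 6, 11, 4, 10, 3, 8]),
    ([4, 1], [1, 1, 4, 4, 4], [0, 1, 2, 11, 6, 4, 7, 5, 9, 3, 10, 8], [0, 1, 2, 9, 5, 7, 4, 6, 11, 8, 10, 3])],
   [([], [], [0, 1, 2, 3, 4, 5, 6, 7, 8, 9, 10, 11], [0, 1, 2, 3, 4, 5, 6, 7, 8, 9, 10, 11]),
    ([2, 2], [2, 2, 2, 2, 2, 2], [0, 1, 2, 3, 5, 4, 9, 11, 10, 6, 8, 7], [0, 1, 2, 3, 5, 4, 9, 11, 10, 6, 8, 7]),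
    ([2], [2, 2, 2], [0, 1, 2, 3, 6, 9, 5, 8, 11, 4, 7, 10], [0, 1, 2, 3, 9, 6, 4, 10, 7, 5, 11, 8]),
    ([3], [3, 3, 3], [0, 1, 2, 3, 7, 11, 10, 5, 6, 8, 9, 4], [0, 1, 2, 3, 11, 7, 8, 4, 9, 10, 6, 5]),
    ([2, 3], [3, 3, 3, 2, 2, 2], [0, 1, 2, 3, 8, 10, 7, 9, 5, 11, 4, 6], [0, 1, 2, 3, 10, 8, 11, 6, 4, 7, 5, 9]),
    ([3, 4], [4, 4, 4, 3, 3, 3], [0, 1, 2, 3, 9, 6, 4, 10, 7, 5, 11, 8], [0, 1, 2, 3, 6, 9, 5, 8, 11, 4, 7, 10]),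
    ([4], [4, 4, 4], [0, 1, 2, 3, 10, 8, 11, 6, 4, 7, 5, 9], [0, 1, 2, 3, 8, 10, 7, 9, 5, 11, 4, 6]),
    ([4, 2], [2, 2, 2, 4, 4, 4], [0, 1, 2, 3, 11, 7, 8, 4, 9, 10, 6, 5], [0, 1, 2, 3, 7, 11, 10, 5, 6, 8, 9, 4])]]

def tr (k : ℕ) : List Ent := trans.getD k []

def base : ℕ → Fin 12
  | 0 => 2 | 1 => 1 | 2 => 0 | 3 => 3 | _ => 4

def inS : ℕ → Fin 8 → Bool
  | 0, _ => true
  | 1, j => decide (j.val < 7)
  | 2, j => decide (j.val < 6)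
  | 3, j => decide (j.val < 5)
  | 4, j => decide (2 ≤ j.val) && decide (j.val < 5)
  | _, _ => false

def sift : ℕ → ℕ → L → Bool
  | 0, _, l => l == idL
  | f + 1, k, l => (tr k).any fun t => (t.2.2.1.getD (base k).val 0 == l.getD (base k).val 0) && sift f (k + 1) (cmp t.2.2.2 l)

theorem ent_ok : ((List.range 5).all fun k => (tr k).all fun t =>
    (evalL t.1 == t.2.2.1) && (evalL t.2.1 == t.2.2.2) && (cmp t.2.2.1 t.2.2.2 == idL) &&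
      (t.1.all (inS k)) && ((t.2.2.1.getD (base k).val 0 != base k) || (t.2.2.1 == idL))) = true := by
  decide +kernel

theorem closed_ok : ((List.range 5).all fun k => (List.finRange 8).all fun j => !inS k j ||
    (tr k).all fun t => (tr k).any fun t' =>
      (t'.2.2.1.getD (base k).val 0 == (cmp (gl.getD j.val idL) t.2.2.1).getD (base k).val 0) &&
        sift (4 - k) (k + 1) (cmp t'.2.2.2 (cmp (gl.getD j.val idL) t.2.2.1))) = true := by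
  decide +kernel

theorem gens_ok : ((List.range 5).all fun k => (List.finRange 8).all fun j =>
    (!inS (k + 1) j || inS k j) && (!inS (k + 1) j || ((gl.getD j.val idL).getD (base k).val 0 == base k))) = true := by
  decide +kernel

theorem distinct_ok : ((List.range 5).all fun k => decide ((tr k).map (fun t => t.2.2.1.getD (base k).val 0)).Nodup &&
    ((tr k).any fun t => t.1 == [])) = true := by decide +kernel

def H (k : ℕ) : Subgroup (Equiv.Perm (Fin 12)) := Subgroup.closure (gen '' {j | inS k j = true})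

theorem ent {k : ℕ} (hk : k < 5) {t : Ent} (ht : t ∈ tr k) :
    toL (evalP t.1) = t.2.2.1 ∧ (evalP t.1)⁻¹ = evalP t.2.1 ∧ toL (evalP t.2.1) = t.2.2.2 ∧ evalP t.1 ∈ H k ∧
      (evalP t.1 (base k) = base k → evalP t.1 = 1) := by
  have h := List.all_eq_true.mp (List.all_eq_true.mp ent_ok k (List.mem_range.mpr hk)) t ht
  simp only [Bool.and_eq_true, beq_iff_eq, Bool.or_eq_true, bne_iff_ne, ne_eq, List.all_eq_true] at h
  obtain ⟨⟨⟨⟨h1, h2⟩, h3⟩, h4⟩, h5⟩ := h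
  refine ⟨by rw [toL_evalP, h1], ?_, by rw [toL_evalP, h2], ?_, fun hb => ?_⟩
  · refine inv_eq_of_mul_eq_one_right (toL_injective ?_)
    rw [← toL_mul, toL_evalP, toL_evalP, h1, h2, h3, toL_one]
  · refine Subgroup.list_prod_mem _ fun g hg => ?_
    obtain ⟨j, hj, rfl⟩ := List.mem_map.mp hg
    exact Subgroup.subset_closure ⟨j, h4 j hj, rfl⟩
  · rcases h5 with h5 | h5
    · exact absurd (by rw [← h1, ← toL_evalP, getD_toL, hb]) h5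
    · exact toL_injective (by rw [toL_evalP, h1, h5, toL_one])

theorem H_succ_le {k : ℕ} (hk : k < 5) : H (k + 1) ≤ H k ⊓ MulAction.stabilizer (Equiv.Perm (Fin 12)) (base k) := by
  refine (Subgroup.closure_le _).mpr ?_
  rintro _ ⟨j, hj, rfl⟩
  have h := List.all_eq_true.mp (List.all_eq_true.mp gens_ok k (List.mem_range.mpr hk)) j (List.mem_finRange j)
  simp only [Set.mem_ofPred_eq] at hj
  simp only [Bool.and_eq_true, Bool.or_eq_true, Bool.not_eq_true', beq_iff_eq, hj] at h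
  obtain ⟨h1, h2⟩ := h
  refine ⟨Subgroup.subset_closure ⟨j, h1.resolve_left (by simp), rfl⟩, ?_⟩
  show gen j (base k) = base k
  rw [← getD_toL, gen_ok]
  exact h2.resolve_left (by simp)

theorem H_five : H 5 = ⊥ := by
  rw [H, Subgroup.closure_eq_bot_iff]
  rintro _ ⟨j, hj, rfl⟩
  simp [inS] at hj

theorem sift_sound : ∀ f k : ℕ, f + k = 5 → ∀ g, sift f k (toL g) = true → g ∈ H k
  | 0, k, hk, g, h => by
      simp only [sift, beq_iff_eq] at h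
      rw [show g = 1 from toL_injective (h.trans toL_one.symm)]
      exact one_mem _
  | f + 1, k, hk, g, h => by
      simp only [sift, List.any_eq_true, Bool.and_eq_true] at h
      obtain ⟨t, ht, -, h2⟩ := h
      obtain ⟨-, e2, e3, e4, -⟩ := ent (show k < 5 by omega) ht
      rw [← e3, toL_mul] at h2
      have := H_succ_le (show k < 5 by omega) (sift_sound f (k + 1) (by omega) _ h2)
      rw [show g = evalP t.1 * (evalP t.2.1 * g) by rw [← e2, mul_inv_cancel_left]]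
      exact mul_mem e4 this.1

theorem decompose {k : ℕ} (hk : k < 5) {g : Equiv.Perm (Fin 12)} (hg : g ∈ H k) :
    ∃ t ∈ tr k, ∃ h ∈ H (k + 1), g = evalP t.1 * h := by
  have hd := List.all_eq_true.mp distinct_ok k (List.mem_range.mpr hk)
  simp only [Bool.and_eq_true, List.any_eq_true, beq_iff_eq] at hd
  have hstep : ∀ j, inS k j = true → ∀ t ∈ tr k, ∃ t' ∈ tr k, ∃ h ∈ H (k + 1), gen j * evalP t.1 = evalP t'.1 * h := by
    intro j hj t ht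
    have h := List.all_eq_true.mp (List.all_eq_true.mp closed_ok k (List.mem_range.mpr hk)) j (List.mem_finRange j)
    simp only [hj, Bool.not_true, Bool.false_or, List.all_eq_true, List.any_eq_true, Bool.and_eq_true] at h
    obtain ⟨t', ht', -, h2⟩ := h t ht
    obtain ⟨e1, -, -, -, -⟩ := ent hk ht
    obtain ⟨-, e2, e3, -, -⟩ := ent hk ht'
    rw [← e3, ← gen_ok, ← e1, toL_mul, toL_mul] at h2
    exact ⟨t', ht', _, sift_sound (4 - k) (k + 1) (by omega) _ h2, by rw [← e2, mul_inv_cancel_left]⟩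
  have hg' : g ∈ (Subgroup.closure (gen '' {j | inS k j = true})).toSubmonoid := hg
  rw [Subgroup.closure_toSubmonoid_of_finite] at hg'
  induction hg' using Submonoid.closure_induction_left with
  | one =>
      obtain ⟨t, ht, ht0⟩ := hd.2
      exact ⟨t, ht, 1, one_mem _, by rw [ht0]; simp [evalP]⟩
  | mul_left x hx y hy ih =>
      obtain ⟨j, hj, rfl⟩ := hx
      obtain ⟨t, ht, h, hh, rfl⟩ := ih (by
        rw [← Subgroup.closure_toSubmonoid_of_finite] at hy; exact hy)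
      obtain ⟨t', ht', h0, hh0, e⟩ := hstep j hj t ht
      exact ⟨t', ht', h0 * h, mul_mem hh0 hh, by rw [← mul_assoc, e, mul_assoc]⟩

theorem stab_eq {k : ℕ} (hk : k < 5) : H k ⊓ MulAction.stabilizer (Equiv.Perm (Fin 12)) (base k) = H (k + 1) := by
  refine le_antisymm ?_ (H_succ_le hk)
  rintro g ⟨hg, hgb⟩
  obtain ⟨t, ht, h, hh, rfl⟩ := decompose hk hg
  have hhb : h (base k) = base k := (H_succ_le hk hh).2
  have h1 : evalP t.1 (h (base k)) = base k := hgb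
  rw [hhb] at h1
  rwa [(ent hk ht).2.2.2.2 h1, one_mul]

theorem card_H {k : ℕ} (hk : k < 5) : Nat.card (H k) = (tr k).length * Nat.card (H (k + 1)) := by
  have hd := List.all_eq_true.mp distinct_ok k (List.mem_range.mpr hk)
  simp only [Bool.and_eq_true, decide_eq_true_eq] at hd
  let f : Fin (tr k).length × H (k + 1) → H k := fun p =>
    ⟨evalP ((tr k).get p.1).1 * p.2, mul_mem (ent hk (List.get_mem _ _)).2.2.2.1 (H_succ_le hk p.2.2).1⟩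
  have hf : Function.Bijective f := by
    refine ⟨fun p q hpq => ?_, fun g => ?_⟩
    · have e : evalP ((tr k).get p.1).1 * p.2 = evalP ((tr k).get q.1).1 * q.2 := congrArg Subtype.val hpq
      have hb := congrArg (fun s : Equiv.Perm (Fin 12) => s (base k)) e
      have hp : (p.2 : Equiv.Perm (Fin 12)) (base k) = base k := (H_succ_le hk p.2.2).2
      have hq : (q.2 : Equiv.Perm (Fin 12)) (base k) = base k := (H_succ_le hk q.2.2).2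
      simp only [Equiv.Perm.mul_apply, hp, hq] at hb
      have hi : p.1 = q.1 := by
        refine Fin.ext ((List.Nodup.getElem_inj_iff hd.1 (hi := by simp) (hj := by simp)).mp ?_)
        simp only [List.getElem_map]
        rw [← (ent hk (List.getElem_mem _)).1, ← (ent hk (List.getElem_mem _)).1, getD_toL, getD_toL]
        exact hb
      exact Prod.ext hi (Subtype.ext (mul_left_cancel (hi ▸ e)))
    · obtain ⟨t, ht, h, hh, e⟩ := decompose hk g.2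
      obtain ⟨i, rfl⟩ := List.get_of_mem ht
      exact ⟨(i, ⟨h, hh⟩), Subtype.ext e.symm⟩
  rw [← Nat.card_eq_of_bijective f hf, Nat.card_prod, Nat.card_fin]

theorem card_H_zero : Nat.card (H 0) = 95040 ∧ Nat.card (H 1) = 7920 := by
  have hl : (tr 0).length = 12 ∧ (tr 1).length = 11 ∧ (tr 2).length = 10 ∧ (tr 3).length = 9 ∧ (tr 4).length = 8 := by
    decide +kernel
  obtain ⟨l0, l1, l2, l3, l4⟩ := hl
  have h5 : Nat.card (H 5) = 1 := by rw [H_five, Subgroup.card_bot]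
  rw [card_H (show 0 < 5 by norm_num), card_H (show 1 < 5 by norm_num), card_H (show 2 < 5 by norm_num),
    card_H (show 3 < 5 by norm_num), card_H (show 4 < 5 by norm_num), h5, l0, l1, l2, l3, l4]
  exact ⟨rfl, rfl⟩

/-- An explicit construction of the Mathieu groups of degrees 11 and 12. On the points 0, …, 11 let s = (3 4 5)(6 7 8)(9 10 11), t = (3 6 9)(4 7 10)(5 8 11), u = (4 6 5 9)(7 8 11 10), v = (4 7 5 11)(6 10 9 8), w = (4 10 5 8)(6 11 9 7), x₁ = (0 3)(6 7)(8 10)(9 11), x₂ = (0 1)(6 9)(7 10)(8 11), x₃ = (1 2)(6 11)(7 9)(8 10) (each written as a product of transpositions). Then the group M₁₂ generated by all eight permutations is sharply 5-transitive on the 12 points and has order 95040, and the group M₁₁ generated by the first seven has order 7920 and is the stabilizer of the point 2 in M₁₂. -/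
theorem result
    (s t u v w x₁ x₂ x₃ : Equiv.Perm (Fin 12))
    (hs : s = Equiv.swap (3 : Fin 12) 5 * Equiv.swap (3 : Fin 12) 4 * Equiv.swap (6 : Fin 12) 8 * Equiv.swap (6 : Fin 12) 7 * Equiv.swap (9 : Fin 12) 11 * Equiv.swap (9 : Fin 12) 10) (ht : t = Equiv.swap (3 : Fin 12) 9 * Equiv.swap (3 : Fin 12) 6 * Equiv.swap (4 : Fin 12) 10 * Equiv.swap (4 : Fin 12) 7 * Equiv.swap (5 : Fin 12) 11 * Equiv.swap (5 : Fin 12) 8)
    (hu : u = Equiv.swap (4 : Fin 12) 9 * Equiv.swap (4 : Fin 12) 5 * Equiv.swap (4 : Fin 12) 6 * Equiv.swap (7 : Fin 12) 10 * Equiv.swap (7 : Fin 12) 11 * Equiv.swap (7 : Fin 12) 8) (hv : v = Equiv.swap (4 : Fin 12) 11 * Equiv.swap (4 : Fin 12) 5 * Equiv.swap (4 : Fin 12) 7 * Equiv.swap (6 : Fin 12) 8 * Equiv.swap (6 : Fin 12) 9 * Equiv.swap (6 : Fin 12) 10) (hw : w = Equiv.swap (4 : Fin 12) 8 * Equiv.swap (4 : Fin 12) 5 * Equiv.swap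 (4 : Fin 12) 10 * Equiv.swap (6 : Fin 12) 7 * Equiv.swap (6 : Fin 12) 9 * Equiv.swap (6 : Fin 12) 11)
    (hx₁ : x₁ = Equiv.swap (0 : Fin 12) 3 * Equiv.swap (6 : Fin 12) 7 * Equiv.swap (8 : Fin 12) 10 * Equiv.swap (9 : Fin 12) 11) (hx₂ : x₂ = Equiv.swap (0 : Fin 12) 1 * Equiv.swap (6 : Fin 12) 9 * Equiv.swap (7 : Fin 12) 10 * Equiv.swap (8 : Fin 12) 11)
    (hx₃ : x₃ = Equiv.swap (1 : Fin 12) 2 * Equiv.swap (6 : Fin 12) 11 * Equiv.swap (7 : Fin 12) 9 * Equiv.swap (8 : Fin 12) 10)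
    (M₁₂ M₁₁ : Subgroup (Equiv.Perm (Fin 12))) (hM₁₂ : M₁₂ = Subgroup.closure {s, t, u, v, w, x₁, x₂, x₃})
    (hM₁₁ : M₁₁ = Subgroup.closure {s, t, u, v, w, x₁, x₂}) :
    MulAction.IsMultiplyPretransitive M₁₂ (Fin 12) 5 ∧ (∀ y : Fin 5 ↪ Fin 12, MulAction.stabilizer M₁₂ y = ⊥) ∧
    Nat.card M₁₂ = 95040 ∧ Nat.card M₁₁ = 7920 ∧
    M₁₁ = M₁₂ ⊓ MulAction.stabilizer (Equiv.Perm (Fin 12)) (2 : Fin 12) := by
  classical
  subst hs ht hu hv hw hx₁ hx₂ hx₃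
  have h12 : M₁₂ = H 0 := by
    rw [hM₁₂, H]
    congr 1
    apply Set.Subset.antisymm
    · rintro g (rfl | rfl | rfl | rfl | rfl | rfl | rfl | rfl)
      exacts [⟨0, rfl, rfl⟩, ⟨1, rfl, rfl⟩, ⟨2, rfl, rfl⟩, ⟨3, rfl, rfl⟩, ⟨4, rfl, rfl⟩, ⟨5, rfl, rfl⟩, ⟨6, rfl, rfl⟩, ⟨7, rfl, rfl⟩]
    · rintro _ ⟨j, -, rfl⟩
      fin_cases j <;> simp [gen]
  have h11 : M₁₁ = H 1 := by
    rw [hM₁₁, H]
    congr 1
    apply Set.Subset.antisymm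
    · rintro g (rfl | rfl | rfl | rfl | rfl | rfl | rfl)
      exacts [⟨0, rfl, rfl⟩, ⟨1, rfl, rfl⟩, ⟨2, rfl, rfl⟩, ⟨3, rfl, rfl⟩, ⟨4, rfl, rfl⟩, ⟨5, rfl, rfl⟩, ⟨6, rfl, rfl⟩]
    · rintro _ ⟨j, hj, rfl⟩
      fin_cases j <;> first | (exact absurd hj (by decide)) | simp [gen]
  subst h12 h11
  have hcard : Nat.card (H 0) = 95040 := card_H_zero.1
  have hfix : ∀ g ∈ H 0, (∀ i : Fin 5, g (base i) = base i) → g = 1 := by
    intro g hg h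
    have hmem : ∀ k, k ≤ 5 → g ∈ H k := by
      intro k hk
      induction k with
      | zero => exact hg
      | succ k ih => rw [← stab_eq (show k < 5 by omega)]; exact ⟨ih (by omega), h ⟨k, by omega⟩⟩
    simpa [H_five] using hmem 5 le_rfl
  let b : Fin 5 ↪ Fin 12 := ⟨fun i => base i, by decide +kernel⟩
  have hinj : Function.Injective (fun g : H 0 => g • b) := by
    intro g h e
    have e' : ∀ i : Fin 5, (g : Equiv.Perm (Fin 12)) (base i) = (h : Equiv.Perm (Fin 12)) (base i) := fun i =>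
      DFunLike.congr_fun e i
    have h1 := hfix ((h : Equiv.Perm (Fin 12))⁻¹ * g) (mul_mem (inv_mem h.2) g.2) fun i => by
      rw [Equiv.Perm.mul_apply, e' i]; exact Equiv.symm_apply_apply _ _
    exact Subtype.ext (eq_of_inv_mul_eq_one h1).symm
  have hbij : Function.Bijective (fun g : H 0 => g • b) := by
    refine hinj.bijective_of_nat_card_le ?_
    rw [hcard, Nat.card_eq_fintype_card, Fintype.card_embedding_eq, Fintype.card_fin, Fintype.card_fin]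
    exact le_of_eq (by decide)
  refine ⟨⟨fun x y => ?_⟩, fun y => ?_, hcard, card_H_zero.2, (stab_eq (show 0 < 5 by norm_num)).symm⟩
  · obtain ⟨g, hg⟩ := hbij.2 x
    obtain ⟨h, hh⟩ := hbij.2 y
    have hg' : g • b = x := hg
    have hh' : h • b = y := hh
    refine ⟨h * g⁻¹, ?_⟩
    subst hg' hh'
    refine DFunLike.ext _ _ fun i => ?_
    show ((h : Equiv.Perm (Fin 12)) * (g : Equiv.Perm (Fin 12))⁻¹) ((g : Equiv.Perm (Fin 12)) (b i)) = (h : Equiv.Perm (Fin 12)) (b i)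
    rw [Equiv.Perm.mul_apply]
    exact congrArg _ (Equiv.symm_apply_apply _ _)
  · obtain ⟨k, hk⟩ := hbij.2 y
    rw [eq_bot_iff]
    intro g hg
    have hk' : k • b = y := hk
    have hg' : g • y = y := hg
    have h1 : (k⁻¹ * g * k) • b = (1 : H 0) • b := by
      subst hk'
      refine DFunLike.ext _ _ fun i => ?_
      have h2 : ((g : Equiv.Perm (Fin 12))) ((k : Equiv.Perm (Fin 12)) (b i)) = (k : Equiv.Perm (Fin 12)) (b i) :=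
        DFunLike.congr_fun hg' i
      show ((k : Equiv.Perm (Fin 12))⁻¹ * g * k) (b i) = b i
      rw [Equiv.Perm.mul_apply, Equiv.Perm.mul_apply, h2]
      exact Equiv.symm_apply_apply _ _
    have h2 := hinj h1
    rw [Subgroup.mem_bot]
    calc g = k * (k⁻¹ * g * k) * k⁻¹ := by group
      _ = 1 := by rw [h2]; group

end Cfsg.Agent.S3362
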