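import Cfsg.Statements.S3366
import Cfsg.Agent.Lib.Fus.HeisSLTwoPSp
-- import your own Cfsg.Agent.* helpers here

set_option autoImplicit false
open Cfsg
open scoped commutatorElement

namespace Cfsg.Agent.S3366

/-- Let X be a finite group with O₃(X) extraspecial of order 27 and exponent 3, X/O₃(X) isomorphic to SL(2,3), O₂(X) = 1, and a Sylow 3-subgroup of X containing an elementary abelian subgroup of order 27. Then X is isomorphic to the centralizer in PSp(4,3) of a 3-central element of order 3 (an element of order 3 in the centre of a Sylow 3-subgroup). -/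
theorem result {X : Type*} [Group X] [Finite X]
    (hR : Cfsg.IsExtraspecial 3 (Cfsg.pCore 3 X)) (hRcard : Nat.card (Cfsg.pCore 3 X) = 27)
    (hRexp : ∀ r ∈ Cfsg.pCore 3 X, r ^ 3 = 1)
    (e : X ⧸ Cfsg.pCore 3 X ≃* Matrix.SpecialLinearGroup (Fin 2) (ZMod 3))
    (hO2 : Cfsg.pCore 2 X = ⊥)
    (hE : ∃ E : Subgroup X, IsMulCommutative E ∧ (∀ a ∈ E, a ^ 3 = 1) ∧ Nat.card E = 27)
    (F : Type*) [Field F] [Fintype F] (hF : Fintype.card F = 3) :
    ∃ (c : Cfsg.PSp 2 F) (S : Sylow 3 (Cfsg.PSp 2 F)), orderOf c = 3 ∧ c ∈ (S : Subgroup (Cfsg.PSp 2 F)) ∧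
      c ∈ Subgroup.centralizer ((S : Subgroup (Cfsg.PSp 2 F)) : Set (Cfsg.PSp 2 F)) ∧
      Nonempty (X ≃* Subgroup.centralizer ({c} : Set (Cfsg.PSp 2 F))) := by
  haveI : (pCore 3 X).Normal := Grp.pCore_isNormal
  let π : X →* Matrix.SpecialLinearGroup (Fin 2) (ZMod 3) := e.toMonoidHom.comp (QuotientGroup.mk' _)
  have hker : π.ker = pCore 3 X := by
    ext x; simp [π, MonoidHom.mem_ker, QuotientGroup.eq_one_iff]
  obtain ⟨E, hEc, hE3, hE27⟩ := hE
  have hEx : ∀ a ∈ E, ∀ b ∈ E, a * b = b * a := fun a ha b hb =>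
    congrArg Subtype.val (hEc.is_comm.comm (⟨a, ha⟩ : E) ⟨b, hb⟩)
  let hx : Fus.HeisSL.Ext X := ⟨π, e.surjective.comp (QuotientGroup.mk'_surjective _), hO2, E, hEx, hE3, hE27⟩
  obtain ⟨⟨-, hfr, hcomm⟩, hcenter⟩ := hR
  have hnc : ¬ ∀ a b : ↥(pCore 3 X), a * b = b * a := fun h => by
    have : Subgroup.center ↥(pCore 3 X) = ⊤ :=
      eq_top_iff.2 fun a _ => Subgroup.mem_center_iff.2 fun b => h b a
    rw [this, Subgroup.card_top, hRcard] at hcenter
    omega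
  push Not at hnc
  obtain ⟨a, b, hab⟩ := hnc
  have hzc : ⁅a, b⁆ ∈ Subgroup.center ↥(pCore 3 X) :=
    hcomm ▸ Subgroup.commutator_mem_commutator (Subgroup.mem_top a) (Subgroup.mem_top b)
  let Fr : Fus.HeisSL.Frame π.ker :=
    ⟨a, b, (⁅a, b⁆ : ↥(pCore 3 X)), hker.ge a.2, hker.ge b.2, hker.ge (⁅a, b⁆ : ↥(pCore 3 X)).2, by
      rw [show ((⁅a, b⁆ : ↥(pCore 3 X)) : X) = ⁅(a : X), (b : X)⁆ from rfl, commutatorElement_def]; group,
      fun h => hab (commutatorElement_eq_one_iff_mul_comm.1 (Subtype.ext h)),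
      fun r hr => congrArg Subtype.val (Subgroup.mem_center_iff.1 hzc ⟨r, hker.le hr⟩).symm,
      fun r hr => hRexp r (hker.le hr), by rw [hker, hRcard]⟩
  obtain ⟨D, hD⟩ := hx.exists_data Fr
  exact Fus.HeisSL.exists_centralizer D hD F hF

end Cfsg.Agent.S3366
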