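import Cfsg.Statements.S3374
import Cfsg.Agent.Lib.Transfer.FrobBuild
import Cfsg.Agent.Lib.Block.SharplyTransitive


set_option autoImplicit false
open Cfsg

namespace Cfsg.Agent.S3374

open Cfsg.Agent.Block.SharpTwo

/-- Images in SL(2,11) of the elements of SL(2,5). -/
def tbl : List (ℕ × (ℕ × ℕ × ℕ × ℕ)) := [
  (45, (1, 3, 3, 10)), (46, (4, 1, 9, 8)), (47, (5, 4, 5, 2)), (48, (9, 5, 4, 6)),
  (49, (3, 9, 1, 7)), (60, (3, 10, 10, 8)), (61, (5, 2, 6, 7)), (62, (1, 7, 8, 2)),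
  (63, (9, 8, 7, 10)), (64, (4, 6, 2, 6)), (90, (8, 1, 1, 3)), (91, (7, 5, 9, 5)),
  (92, (2, 3, 4, 1)), (93, (10, 4, 3, 9)), (94, (6, 9, 5, 4)), (105, (10, 8, 8, 1)),
  (106, (8, 2, 10, 4)), (107, (2, 6, 7, 5)), (108, (6, 7, 6, 9)), (109, (7, 10, 2, 3)),
  (126, (1, 0, 0, 1)), (131, (4, 0, 0, 3)), (136, (5, 0, 0, 9)), (141, (9, 0, 0, 5)),
  (146, (3, 0, 0, 4)), (151, (5, 3, 3, 2)), (157, (9, 1, 9, 6)), (163, (3, 4, 5, 7)),
  (169, (1, 5, 4, 10)), (170, (4, 9, 1, 8)), (176, (1, 10, 10, 2)), (183, (4, 7, 8, 6)),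
  (185, (5, 6, 2, 7)), (192, (9, 2, 6, 10)), (199, (3, 8, 7, 8)), (201, (2, 1, 1, 1)),
  (209, (8, 4, 3, 3)), (212, (10, 5, 9, 9)), (215, (7, 9, 5, 5)), (223, (6, 3, 4, 4)),
  (226, (2, 8, 8, 5)), (230, (8, 10, 2, 4)), (239, (10, 7, 6, 1)), (243, (7, 6, 7, 3)),
  (247, (6, 2, 10, 9)), (253, (0, 1, 10, 0)), (258, (0, 9, 6, 0)), (263, (0, 4, 8, 0)),
  (268, (0, 3, 7, 0)), (273, (0, 5, 2, 0)), (278, (1, 1, 9, 10)), (281, (9, 9, 1, 6)),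
  (289, (4, 4, 5, 8)), (292, (3, 3, 3, 7)), (295, (5, 5, 4, 2)), (303, (3, 2, 6, 8)),
  (309, (5, 7, 8, 7)), (310, (1, 8, 7, 2)), (316, (9, 6, 2, 10)), (322, (4, 10, 10, 6)),
  (328, (8, 5, 9, 3)), (332, (6, 1, 1, 4)), (336, (10, 9, 5, 9)), (340, (2, 4, 3, 1)),
  (349, (7, 3, 4, 5)), (353, (10, 2, 10, 1)), (355, (2, 7, 6, 5)), (362, (7, 8, 8, 3)),
  (369, (8, 6, 7, 4)), (371, (6, 10, 2, 9)), (377, (0, 10, 1, 0)), (382, (0, 6, 9, 0)),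
  (387, (0, 8, 4, 0)), (392, (0, 7, 3, 0)), (397, (0, 2, 5, 0)), (402, (1, 9, 1, 10)),
  (409, (5, 1, 9, 2)), (411, (3, 5, 4, 7)), (418, (4, 3, 3, 8)), (420, (9, 4, 5, 6)),
  (427, (3, 6, 2, 8)), (431, (4, 8, 7, 6)), (435, (9, 7, 8, 10)), (444, (1, 2, 6, 2)),
  (448, (5, 10, 10, 7)), (452, (8, 9, 5, 3)), (458, (7, 1, 1, 5)), (464, (2, 5, 9, 1)),
  (465, (10, 3, 4, 9)), (471, (6, 4, 3, 4)), (477, (10, 10, 2, 1)), (480, (6, 6, 7, 9)),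
  (488, (8, 8, 8, 4)), (491, (7, 7, 6, 3)), (499, (2, 2, 10, 5)), (504, (10, 0, 0, 10)),
  (509, (8, 0, 0, 7)), (514, (2, 0, 0, 6)), (519, (6, 0, 0, 2)), (524, (7, 0, 0, 8)),
  (529, (9, 3, 3, 6)), (533, (5, 9, 1, 2)), (537, (4, 5, 4, 8)), (541, (1, 4, 5, 10)),
  (545, (3, 1, 9, 7)), (554, (9, 10, 10, 10)), (557, (5, 8, 7, 7)), (560, (4, 2, 6, 6)),
  (568, (1, 6, 2, 2)), (571, (3, 7, 8, 8)), (579, (10, 1, 1, 9)), (581, (8, 3, 4, 3)),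
  (588, (2, 9, 5, 1)), (590, (6, 5, 9, 4)), (597, (7, 4, 3, 5)), (604, (6, 8, 8, 9)),
  (605, (7, 2, 10, 3)), (611, (10, 6, 7, 1)), (617, (8, 7, 6, 4)), (623, (2, 10, 2, 5))]

/-- The image of an element of SL(2,5). -/
def imgT (g : SL25) : ℕ × ℕ × ℕ × ℕ :=
  (tbl.lookup ((g 0 0).val * 125 + (g 0 1).val * 25 + (g 1 0).val * 5 + (g 1 1).val)).getD (1, 0, 0, 1)

theorem imgT_det : ∀ g : SL25,
    ((imgT g).1 : ZMod 11) * (imgT g).2.2.2 - ((imgT g).2.1 : ZMod 11) * (imgT g).2.2.1 = 1 := by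
  decide +kernel

/-- The map from SL(2,5) to SL(2,11). -/
def img (g : SL25) : Matrix.SpecialLinearGroup (Fin 2) (ZMod 11) :=
  ⟨!![((imgT g).1 : ZMod 11), ((imgT g).2.1 : ZMod 11); ((imgT g).2.2.1 : ZMod 11), ((imgT g).2.2.2 : ZMod 11)], by
    rw [Matrix.det_fin_two_of]; exact imgT_det g⟩

theorem img_spec : (∀ g, img (i0 * g) = img i0 * img g ∧ img (j0 * g) = img j0 * img g ∧ img (u0 * g) = img u0 * img g) ∧
    (∀ g, img g = 1 → g = 1) ∧ Fintype.card SL25 = 120 ∧ img 1 = 1 := by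
  decide +kernel

/-- SL(2,5) occurs as a Frobenius complement: there is a finite group L with a subgroup H isomorphic to SL(2,5) which is a non-trivial proper subgroup meeting each conjugate gHg⁻¹ with g outside H trivially. -/
theorem result :
    ∃ (L : Type) (_ : Group L) (_ : Finite L) (H : Subgroup L),
      Cfsg.IsFrobeniusComplement H ∧ Nonempty (H ≃* Matrix.SpecialLinearGroup (Fin 2) (ZMod 5)) := by
  open Cfsg.Agent.Block.SharpTwo in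
  haveI : Fact (Nat.Prime 11) := ⟨by norm_num⟩
  let f : Matrix.SpecialLinearGroup (Fin 2) (ZMod 5) →* Matrix.SpecialLinearGroup (Fin 2) (ZMod 11) :=
    MonoidHom.mk' img fun g h => by
      revert h
      induction g using generators with
      | h1 => intro h; rw [img_spec.2.2.2, one_mul, one_mul]
      | hi g ih => intro h; rw [mul_assoc, (img_spec.1 _).1, ih, (img_spec.1 g).1, mul_assoc]
      | hj g ih => intro h; rw [mul_assoc, (img_spec.1 _).2.1, ih, (img_spec.1 g).2.1, mul_assoc]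
      | hu g ih => intro h; rw [mul_assoc, (img_spec.1 _).2.2, ih, (img_spec.1 g).2.2, mul_assoc]
  have hf : Function.Injective f := (injective_iff_map_eq_one f).2 fun g hg => img_spec.2.1 g hg
  haveI : Nontrivial (Matrix.SpecialLinearGroup (Fin 2) (ZMod 5)) :=
    Fintype.one_lt_card_iff_nontrivial.mp (by rw [img_spec.2.2.1]; norm_num)
  obtain ⟨L, i1, i2, C, h1, ⟨h2⟩⟩ := Cfsg.Agent.Transfer.FrobBuild.exists_frobenius_sl2 (p := 11)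
    (by rw [Nat.card_eq_fintype_card, img_spec.2.2.1]; norm_num) f hf
  exact ⟨L, i1, i2, C, h1, ⟨h2.symm⟩⟩

end Cfsg.Agent.S3374
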