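import Cfsg.Statements.S3375
import Mathlib

set_option autoImplicit false
open Cfsg

namespace Cfsg.Agent.S3375

/-- Let γ be an automorphism of order 2 of a finite group H. (i) If γ fixes only the identity, then H is abelian and γ inverts every element. (ii) If γ has exactly two fixed points and H has a subgroup of index 2, then H has a γ-invariant abelian subgroup of index 2 on which γ acts by inversion. -/
theorem result {H : Type*} [Group H] [Finite H] (γ : MulAut H) (hγ : orderOf γ = 2) :
    ((∀ h : H, γ h = h → h = 1) → (∀ a b : H, a * b = b * a) ∧ ∀ h : H, γ h = h⁻¹) ∧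
    ((Nat.card {h : H // γ h = h} = 2 ∧ ∃ M : Subgroup H, M.index = 2) →
      ∃ A : Subgroup H, A.index = 2 ∧ IsMulCommutative A ∧ (∀ a ∈ A, γ a ∈ A) ∧ ∀ a ∈ A, γ a = a⁻¹) := by
  have hinv : Function.Involutive γ := fun h => by
    have : γ ^ 2 = 1 := by rw [← hγ]; exact pow_orderOf_eq_one γ
    have := congrArg (fun e => e h) this
    simpa [pow_two] using this
  constructor
  · intro hf
    have hF : MonoidHom.FixedPointFree γ := hf
    exact ⟨fun a b => hF.commute_all_of_involutive hinv a b, fun h => congrFun (hF.coe_eq_inv_of_involutive hinv) h⟩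
  rintro ⟨h2, M, hM⟩
  -- an invariant subgroup of index two
  obtain ⟨A, hA, hAinv⟩ : ∃ A : Subgroup H, A.index = 2 ∧ ∀ a, γ a ∈ A ↔ a ∈ A := by
    by_cases hMi : ∀ a, γ a ∈ M ↔ a ∈ M
    · exact ⟨M, hM, hMi⟩
    push Not at hMi
    have hiff := fun a b => Subgroup.mul_mem_iff_of_index_two hM (a := a) (b := b)
    let A : Subgroup H :=
      { carrier := {a | γ a ∈ M ↔ a ∈ M}
        mul_mem' := by
          intro a b ha hb
          simp only [Set.mem_setOf_eq, map_mul, hiff] at *
          rw [ha, hb]
        one_mem' := by simp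
        inv_mem' := by
          intro a ha
          simp only [Set.mem_setOf_eq, map_inv, inv_mem_iff] at *
          exact ha }
    refine ⟨A, ?_, fun a => ?_⟩
    · obtain ⟨a₀, ha₀⟩ := hMi
      rw [Subgroup.index_eq_two_iff]
      refine ⟨a₀, fun b => ?_⟩
      show Xor (γ (b * a₀) ∈ M ↔ b * a₀ ∈ M) (γ b ∈ M ↔ b ∈ M)
      rw [map_mul, hiff, hiff]
      simp only [Xor]
      by_cases h1 : γ a₀ ∈ M <;> by_cases h2 : a₀ ∈ M <;> by_cases h3 : γ b ∈ M <;> by_cases h4 : b ∈ M <;> simp_all
    · show (γ (γ a) ∈ M ↔ γ a ∈ M) ↔ (γ a ∈ M ↔ a ∈ M)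
      rw [hinv a]
      exact iff_comm
  have hAn : A.Normal := Subgroup.normal_of_index_eq_two hA
  have hinvA : ∀ a ∈ A, γ a = a⁻¹ := by
    by_cases hFA : ∀ a ∈ A, γ a = a → a = 1
    · let δ : A →* A :=
        { toFun := fun a => ⟨γ a, (hAinv _).mpr a.2⟩
          map_one' := by ext; simp
          map_mul' := fun a b => by ext; simp }
      have hF : MonoidHom.FixedPointFree δ := fun a ha => Subtype.ext (hFA a a.2 (congrArg Subtype.val ha))
      intro a ha
      exact congrArg Subtype.val (congrFun (hF.coe_eq_inv_of_involutive (fun b => Subtype.ext (hinv b))) ⟨a, ha⟩)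
    · push Not at hFA
      obtain ⟨t, htA, htf, ht1⟩ := hFA
      have hfix : ∀ h, γ h = h → h = 1 ∨ h = t := by
        intro h hh
        by_contra hne
        push Not at hne
        have : 3 ≤ Nat.card {h : H // γ h = h} := by
          let _ := Fintype.ofFinite {h : H // γ h = h}
          rw [Nat.card_eq_fintype_card]
          calc 3 = Fintype.card (Fin 3) := (Fintype.card_fin 3).symm
            _ ≤ _ := Fintype.card_le_of_injective ![⟨1, map_one γ⟩, ⟨t, htf⟩, ⟨h, hh⟩] (by
              intro i j hij
              fin_cases i <;> fin_cases j <;> simp [Subtype.ext_iff] at hij ⊢ <;> first | exact absurd hij.symm (by assumption) | exact absurd hij (by assumption) | exact absurd hij ht1 | exact absurd hij.symm ht1 | exact absurd hij hne.1 | exact absurd hij.symm hne.1 | exact absurd hij hne.2 | exact absurd hij.symm hne.2)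
        omega
      -- the map h ↦ h⁻¹ γ(h) lands in A and has fibres of size two
      have hmem : ∀ h : H, h⁻¹ * γ h ∈ A := by
        intro h
        rw [Subgroup.mul_mem_iff_of_index_two hA, inv_mem_iff]
        exact (hAinv h).symm
      let f : H → A := fun h => ⟨h⁻¹ * γ h, hmem h⟩
      have hf : Function.Surjective f := by
        classical
        let _ := Fintype.ofFinite H
        let _ := Fintype.ofFinite A
        have hle : ∀ a : A, (Finset.univ.filter fun h => f h = a).card ≤ 2 := by
          intro a
          by_cases he : ∃ h₀, f h₀ = a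
          · obtain ⟨h₀, hh₀⟩ := he
            refine (Finset.card_le_card (t := {h₀, t * h₀}) fun h hh => ?_).trans Finset.card_le_two
            have he : h⁻¹ * γ h = h₀⁻¹ * γ h₀ := congrArg Subtype.val ((Finset.mem_filter.mp hh).2.trans hh₀.symm)
            have : γ (h * h₀⁻¹) = h * h₀⁻¹ := by
              have := congrArg (fun z => h * z * (γ h₀)⁻¹) he
              simpa [mul_assoc] using this
            rcases hfix _ this with h' | h'
            · simp [mul_inv_eq_one.mp h']
            · simp [← h']
          · simp only [not_exists] at he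
            simp [he]
        by_contra hns
        simp only [Function.Surjective, not_forall, not_exists] at hns
        obtain ⟨a₀, ha₀⟩ := hns
        have hcount := Finset.card_eq_sum_card_fiberwise (s := (Finset.univ : Finset H)) (t := Finset.univ)
          (f := f) (fun _ _ => Finset.mem_univ _)
        have hlt : ∑ a : A, (Finset.univ.filter fun h => f h = a).card < ∑ _a : A, 2 :=
          Finset.sum_lt_sum (fun a _ => hle a) ⟨a₀, Finset.mem_univ _, by simp [ha₀]⟩
        have := A.card_mul_index
        rw [hA, Nat.card_eq_fintype_card, Nat.card_eq_fintype_card] at this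
        rw [← hcount, Finset.sum_const, Finset.card_univ, Finset.card_univ, smul_eq_mul] at hlt
        omega
      intro a ha
      obtain ⟨h, hh⟩ := hf ⟨a, ha⟩
      have hh' : h⁻¹ * γ h = a := congrArg Subtype.val hh
      rw [← hh', map_mul, map_inv, hinv h, mul_inv_rev, inv_inv]
  refine ⟨A, hA, ⟨⟨fun a b => Subtype.ext ?_⟩⟩, fun a ha => (hAinv a).mpr ha, hinvA⟩
  have := hinvA _ (A.mul_mem a.2 b.2)
  rw [map_mul, hinvA _ a.2, hinvA _ b.2, mul_inv_rev] at this
  have := congrArg (fun z => (b : H) * ((a : H) * z * a) * b) this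
  simpa [mul_assoc] using this

end Cfsg.Agent.S3375
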