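import Cfsg.Statements.S3380
import Mathlib
import Cfsg.Agent.Lib.Recog.NormalAbelianCyclic
import Cfsg.Agent.Lib.Grp.ConjSylow
import Cfsg.Agent.Lib.Grp.Frattini
-- import your own Cfsg.Agent.* helpers here

set_option autoImplicit false
open Cfsg

namespace Cfsg.Agent.S3380

theorem exists_normal_plane {G : Type*} [Group G] [Finite G] {p : ℕ} [Fact p.Prime] (hG : IsPGroup p G)
    {A : Subgroup G} (hAn : A.Normal) (hAc : IsMulCommutative A) (hA : ¬ IsCyclic A) :
    ∃ z e : G, orderOf z = p ∧ z ∈ Subgroup.center G ∧ e ^ p = 1 ∧ e ∉ Subgroup.zpowers z ∧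
      (∀ g : G, ∃ c : ℤ, g * e * g⁻¹ = e * z ^ c) := by
  have hp : p.Prime := Fact.out
  have hcm : ∀ s ∈ A, ∀ t ∈ A, Commute s t := fun s hs t ht =>
    congrArg Subtype.val (hAc.is_comm.comm ⟨s, hs⟩ ⟨t, ht⟩)
  let A1 : Subgroup G :=
    { carrier := {s | s ∈ A ∧ s ^ p = 1}
      one_mem' := ⟨one_mem _, one_pow _⟩
      mul_mem' := fun {s t} hs ht => ⟨mul_mem hs.1 ht.1, by rw [(hcm s hs.1 t ht.1).mul_pow, hs.2, ht.2, one_mul]⟩
      inv_mem' := fun {s} hs => ⟨inv_mem hs.1, by rw [inv_pow, hs.2, inv_one]⟩ }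
  haveI hA1n : A1.Normal := ⟨fun s hs g => ⟨hAn.conj_mem s hs.1 g, by rw [conj_pow, hs.2, mul_one, mul_inv_cancel]⟩⟩
  have hbig : p ^ 2 ≤ Nat.card A1 := by
    rcases Cfsg.Agent.Grp.ConjSylow.exists_square (hG.to_subgroup A) hA with ⟨E, hE, hEc⟩ | ⟨rfl, k, ⟨e⟩⟩
    · rw [← hEc, ← Subgroup.card_map_of_injective A.subtype_injective]
      refine Subgroup.card_le_of_le ?_
      rintro _ ⟨s, hs, rfl⟩
      exact ⟨s.2, congrArg Subtype.val (hE.2 s hs)⟩
    · exfalso
      have h := congrArg e (hAc.is_comm.comm (e.symm (QuaternionGroup.a 1)) (e.symm (QuaternionGroup.xa 0)))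
      rw [map_mul, map_mul, MulEquiv.apply_symm_apply, MulEquiv.apply_symm_apply, QuaternionGroup.a_mul_xa,
        QuaternionGroup.xa_mul_a, QuaternionGroup.xa.injEq, zero_sub, zero_add] at h
      have h2 : ((2 : ℕ) : ZMod (2 * 2 ^ (k + 1))) = 0 := by push_cast; linear_combination -h
      rw [ZMod.natCast_eq_zero_iff] at h2
      have h3 := Nat.le_of_dvd two_pos h2
      have : 2 ≤ 2 ^ (k + 1) := Nat.le_self_pow (by omega) 2
      omega
  have hne : A1 ≠ ⊥ := fun h => by
    rw [h, Subgroup.card_bot] at hbig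
    have := Nat.one_lt_pow (two_ne_zero) hp.one_lt
    omega
  haveI := hG.isNilpotent
  obtain ⟨⟨z, hz⟩, hz1⟩ := Subgroup.ne_bot_iff_exists_ne_one.mp (Cfsg.Agent.Grp.inf_center_ne_bot A1 hne)
  have hzo : orderOf z = p := orderOf_eq_prime hz.1.2 fun e => hz1 (Subtype.ext e)
  have hzc : z ∈ Subgroup.center G := hz.2
  haveI hZn : (Subgroup.zpowers z).Normal := ⟨fun s hs g => by
    have : s ∈ Subgroup.center G := Subgroup.zpowers_le.mpr hzc hs
    rwa [Subgroup.mem_center_iff.mp this g, mul_inv_cancel_right]⟩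
  haveI : Group.IsNilpotent (G ⧸ Subgroup.zpowers z) := (hG.to_quotient _).isNilpotent
  have hNn : (A1.map (QuotientGroup.mk' (Subgroup.zpowers z))).Normal :=
    Subgroup.Normal.map hA1n _ (QuotientGroup.mk'_surjective _)
  have hNne : A1.map (QuotientGroup.mk' (Subgroup.zpowers z)) ≠ ⊥ := fun h => by
    rw [Subgroup.map_eq_bot_iff, QuotientGroup.ker_mk'] at h
    have h1 := Subgroup.card_le_of_le h
    rw [Nat.card_zpowers, hzo] at h1
    have : p < p ^ 2 := lt_self_pow₀ hp.one_lt (by norm_num)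
    omega
  haveI := hNn
  obtain ⟨⟨w, hw⟩, hw1⟩ := Subgroup.ne_bot_iff_exists_ne_one.mp (Cfsg.Agent.Grp.inf_center_ne_bot _ hNne)
  obtain ⟨e, he, rfl⟩ := hw.1
  refine ⟨z, e, hzo, hzc, he.2, fun h => hw1 (Subtype.ext ((QuotientGroup.eq_one_iff e).mpr h)), fun g => ?_⟩
  have h1 := Subgroup.mem_center_iff.mp hw.2 (QuotientGroup.mk' _ g)
  rw [← map_mul, ← map_mul, QuotientGroup.mk'_eq_mk'] at h1
  obtain ⟨t, ht, hte⟩ := h1
  obtain ⟨i, rfl⟩ := Subgroup.mem_zpowers_iff.mp ht
  refine ⟨-i, ?_⟩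
  have hc : Commute (z ^ i) g := (Commute.zpow_left (Subgroup.mem_center_iff.mp hzc g).symm i)
  rw [show g * e = e * g * (z ^ i)⁻¹ by rw [← hte]; group, mul_assoc (e * g), hc.inv_left.inv_right.eq, zpow_neg]
  group

/-- Let a finite p-group G act faithfully and irreducibly on a non-trivial finite vector space V over the field with q elements (q prime), and suppose G is not cyclic, generalized quaternion, dihedral or semidihedral. Then G has a subgroup H of index p and V is the direct sum of p subspaces, each invariant under H, on none of which H acts faithfully, and which every element of G outside H permutes in a single p-cycle. -/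
theorem result
    (q : ℕ) [Fact q.Prime] {V : Type*} [AddCommGroup V] [Module (ZMod q) V] [Finite V] [Nontrivial V]
    {G : Type*} [Group G] [Finite G] (p : ℕ) [Fact p.Prime] (hG : IsPGroup p G)
    (ρ : G →* (V ≃ₗ[ZMod q] V)) (hρ : Function.Injective ρ)
    (hirr : ∀ W : Submodule (ZMod q) V, (∀ g : G, ∀ w ∈ W, ρ g w ∈ W) → W = ⊥ ∨ W = ⊤)
    (hnc : ¬ IsCyclic G) (hnq : ∀ n : ℕ, ¬ Nonempty (G ≃* QuaternionGroup n))
    (hnd : ∀ n : ℕ, ¬ Nonempty (G ≃* DihedralGroup n)) (hnsd : ¬ Cfsg.IsQuasiDihedral G) :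
    ∃ (H : Subgroup G) (W : Fin p → Submodule (ZMod q) V), H.index = p ∧
      iSup W = ⊤ ∧ iSupIndep W ∧
      (∀ h ∈ H, ∀ i, ∀ w ∈ W i, ρ h w ∈ W i) ∧
      (∀ i, ∃ h ∈ H, h ≠ 1 ∧ ∀ w ∈ W i, ρ h w = w) ∧
      ∀ g : G, g ∉ H → ∃ σ : Equiv.Perm (Fin p), orderOf σ = p ∧ ∀ i, (W i).map (ρ g : V →ₗ[ZMod q] V) = W (σ i) := by
  classical
  have hp : p.Prime := Fact.out
  have hq : q.Prime := Fact.out
  obtain ⟨A, hAn, hAc, hA⟩ : ∃ A : Subgroup G, A.Normal ∧ IsMulCommutative A ∧ ¬ IsCyclic A := by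
    by_contra hno
    rcases Cfsg.Agent.NAC.classify hG (fun A h1 h2 => by
        by_contra h3; exact hno ⟨A, h1, h2, h3⟩) with h | ⟨-, ⟨k, h⟩ | ⟨k, -, h⟩ | h⟩
    · exact hnc h
    · exact hnq k h
    · exact hnd k h
    · exact hnsd h
  obtain ⟨z, e, hz, hzc, he, hez, hconj⟩ := exists_normal_plane hG hAn hAc hA
  have hρm : ∀ (g h : G) (v : V), ρ (g * h) v = ρ g (ρ h v) := fun g h v => by rw [map_mul]; rfl
  have hρ1 : ∀ v : V, ρ 1 v = v := fun v => by rw [map_one]; rfl
  have hpq : (p : ZMod q) ≠ 0 := by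
    intro h0
    have hpq' : q = p := (Nat.prime_dvd_prime_iff_eq hq hp).mp ((ZMod.natCast_eq_zero_iff p q).mp h0)
    letI : MulAction G V :=
      { smul := fun g v => ρ g v
        one_smul := hρ1
        mul_smul := hρm }
    haveI := Fintype.ofFinite V
    have hdvd : p ∣ Nat.card V := by
      rw [Module.natCard_eq_pow_finrank (K := ZMod q), Nat.card_zmod, ← hpq']
      exact dvd_pow_self _ (Module.finrank_pos.ne')
    obtain ⟨v, hv, hv0⟩ := hG.exists_fixed_point_of_prime_dvd_card_of_fixed_point V hdvd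
      (a := (0 : V)) (fun g => map_zero (ρ g))
    have hfix : ∀ g, ρ g v = v := hv
    rcases hirr (Submodule.span (ZMod q) {v}) (fun g w hw => by
      obtain ⟨c, rfl⟩ := Submodule.mem_span_singleton.mp hw
      rw [map_smul, hfix]; exact hw) with h | h
    · exact hv0 (Submodule.span_singleton_eq_bot.mp h).symm
    · refine hnc ?_
      have : ∀ g : G, g = 1 := fun g => hρ (LinearEquiv.ext fun w => by
        obtain ⟨c, rfl⟩ := Submodule.mem_span_singleton.mp (h ▸ Submodule.mem_top (x := w))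
        rw [map_smul, hfix, hρ1])
      haveI : Subsingleton G := ⟨fun s t => (this s).trans (this t).symm⟩
      infer_instance
  have hzcomm : ∀ g : G, Commute g z := fun g => Subgroup.mem_center_iff.mp hzc g
  have hzp : z ^ p = 1 := by rw [← hz, pow_orderOf_eq_one]
  -- a central element of order `p` fixes no nonzero vector
  have hz0 : ∀ v : V, ρ z v = v → v = 0 := by
    let W : Submodule (ZMod q) V := LinearMap.ker ((ρ z : V →ₗ[ZMod q] V) - LinearMap.id)
    have hmem : ∀ v, v ∈ W ↔ ρ z v = v := fun v => by simp [W, sub_eq_zero]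
    rcases hirr W (fun g w hw => by rw [hmem] at hw ⊢; rw [← hρm, ← (hzcomm g).eq, hρm, hw]) with h | h
    · intro v hv; simpa [h] using (hmem v).mpr hv
    · exfalso
      have : z = 1 := hρ (LinearEquiv.ext fun w => by rw [(hmem w).mp (h ▸ Submodule.mem_top), hρ1])
      rw [this, orderOf_one] at hz
      exact hp.one_lt.ne hz
  -- the elements `e * z ^ i`
  let el : ZMod p → G := fun i => e * z ^ i.val
  have hzval : ∀ i : ℤ, z ^ i = z ^ (i : ZMod p).val := fun i => by
    rw [← zpow_natCast, ZMod.val_intCast, ← hz, zpow_mod_orderOf]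
  have help : ∀ i, el i ^ p = 1 := fun i => by
    rw [(((hzcomm e).pow_right i.val)).mul_pow, he, ← pow_mul, mul_comm, pow_mul, hzp, one_pow, one_mul]
  have hel1 : ∀ i, el i ≠ 1 := fun i h => hez (by
    rw [eq_inv_of_mul_eq_one_left h]; exact inv_mem (Subgroup.pow_mem _ (Subgroup.mem_zpowers z) _))
  have helc : ∀ i j, Commute (el i) (el j) := fun i j =>
    ((Commute.refl e).mul_right ((hzcomm e).pow_right _)).mul_left
      ((((hzcomm e).symm.pow_left _)).mul_right ((Commute.refl z).pow_pow _ _))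
  choose γ hγ using hconj
  have hconjel : ∀ g i, g * el i * g⁻¹ = el (i + (γ g : ZMod p)) := fun g i => by
    show g * (e * z ^ i.val) * g⁻¹ = e * z ^ (i + (γ g : ZMod p)).val
    rw [show g * (e * z ^ i.val) * g⁻¹ = (g * e * g⁻¹) * (g * z ^ i.val * g⁻¹) by group, hγ,
      ((hzcomm g).pow_right i.val).eq, mul_inv_cancel_right, mul_assoc, ← zpow_natCast, ← zpow_add, hzval]
    congr 2
    push_cast
    rw [ZMod.natCast_val, ZMod.cast_id, add_comm]
  have helinj : ∀ i j, el i = el j → i = j := fun i j h => by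
    have h1 := mul_left_cancel h
    rw [pow_eq_pow_iff_modEq, hz, ← ZMod.natCast_eq_natCast_iff, ZMod.natCast_val, ZMod.natCast_val, ZMod.cast_id,
      ZMod.cast_id] at h1
    exact h1
  let χ : G →* Multiplicative (ZMod p) :=
    { toFun := fun g => Multiplicative.ofAdd (γ g : ZMod p)
      map_one' := by
        have := hconjel 1 0
        rw [one_mul, inv_one, mul_one, zero_add] at this
        rw [← helinj _ _ this]; rfl
      map_mul' := fun g h => by
        have h1 := hconjel (g * h) 0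
        rw [show g * h * el 0 * (g * h)⁻¹ = g * (h * el 0 * h⁻¹) * g⁻¹ by group, hconjel, hconjel, zero_add,
          zero_add] at h1
        rw [← helinj _ _ h1, ofAdd_add, mul_comm] }
  have hχ : ∀ g, (χ g).toAdd = (γ g : ZMod p) := fun g => rfl
  -- the fixed spaces
  let W' : ZMod p → Submodule (ZMod q) V := fun i => LinearMap.ker ((ρ (el i) : V →ₗ[ZMod q] V) - LinearMap.id)
  have hW' : ∀ i v, v ∈ W' i ↔ ρ (el i) v = v := fun i v => by simp [W', sub_eq_zero]
  have hfixpow : ∀ (g : G) (v : V), ρ g v = v → ∀ m : ℕ, ρ (g ^ m) v = v := by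
    intro g v hv m
    induction m with
    | zero => rw [pow_zero, hρ1]
    | succ m ih => rw [pow_succ, hρm, hv, ih]
  have hWmap : ∀ g i w, w ∈ W' i → ρ g w ∈ W' (i + (γ g : ZMod p)) := fun g i w hw => by
    rw [hW'] at hw ⊢
    rw [← hconjel, ← hρm, inv_mul_cancel_right, hρm, hw]
  -- two of the `el i` generate `z`
  have htwo : ∀ i j v, i ≠ j → v ∈ W' i → v ∈ W' j → v = 0 := fun i j v hij hi hj => by
    rw [hW'] at hi hj
    refine hz0 v ?_
    have hd : ρ (z ^ ((j.val : ℤ) - i.val)) v = v := by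
      rw [zpow_sub, zpow_natCast, zpow_natCast, show z ^ j.val * (z ^ i.val)⁻¹ = (el i)⁻¹ * el j by
        show z ^ j.val * (z ^ i.val)⁻¹ = (e * z ^ i.val)⁻¹ * (e * z ^ j.val)
        rw [mul_inv_rev, mul_assoc, inv_mul_cancel_left, ((Commute.refl z).pow_pow j.val i.val).inv_right.eq],
        hρm, hj]
      conv_lhs => arg 2; rw [← hi]
      rw [← hρm, inv_mul_cancel, hρ1]
    have hd' : ρ (z ^ (j - i).val) v = v := by
      rw [show (j - i) = ((((j.val : ℤ) - i.val) : ℤ) : ZMod p) by simp, ← hzval]; exact hd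
    have := hfixpow _ v hd' ((j - i)⁻¹).val
    rw [← pow_mul, ← pow_mod_orderOf, hz, ← ZMod.val_mul, mul_inv_cancel₀ (sub_ne_zero.mpr hij.symm), ZMod.val_one,
      pow_one] at this
    exact this
  -- averages
  let av : ZMod p → (V →ₗ[ZMod q] V) := fun i => ∑ k : ZMod p, (ρ ((el i) ^ k.val) : V →ₗ[ZMod q] V)
  have havv : ∀ i v, av i v = ∑ k : ZMod p, ρ ((el i) ^ k.val) v := fun i v => by
    simp [av, LinearMap.sum_apply]
  have hpowadd : ∀ (g : G), g ^ p = 1 → ∀ k l : ZMod p, g ^ k.val * g ^ l.val = g ^ (k + l).val := fun g hg k l => by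
    rw [← pow_add, ZMod.val_add]
    exact pow_eq_pow_mod _ hg
  have havmem : ∀ i v, av i v ∈ W' i := fun i v => by
    rw [hW', havv, map_sum]
    refine Fintype.sum_equiv (Equiv.addLeft (1 : ZMod p)) _ _ fun k => ?_
    rw [← hρm, Equiv.coe_addLeft]
    congr 2
    rw [← hpowadd (el i) (help i) 1 k, ZMod.val_one, pow_one]
  have havself : ∀ i v, v ∈ W' i → av i v = (p : ZMod q) • v := fun i v hv => by
    rw [havv, Finset.sum_congr rfl fun k _ => hfixpow _ v ((hW' i v).mp hv) k.val, Finset.sum_const, Finset.card_univ,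
      ZMod.card, ← Nat.cast_smul_eq_nsmul (ZMod q)]
  have havzero : ∀ i j v, i ≠ j → v ∈ W' j → av i v = 0 := fun i j v hij hv => by
    refine htwo i j _ hij (havmem i v) ?_
    rw [hW', havv, map_sum]
    refine Finset.sum_congr rfl fun k _ => ?_
    rw [← hρm, ((helc j i).pow_right k.val).eq, hρm, (hW' j v).mp hv]
  have hspan : ∀ v, ∑ i, av i v = (p : ZMod q) • v := fun v => by
    simp_rw [havv]
    rw [Finset.sum_comm, ← Finset.sum_erase_add _ _ (Finset.mem_univ (0 : ZMod p))]
    have h0 : ∀ k ∈ (Finset.univ : Finset (ZMod p)).erase 0, ∑ i : ZMod p, ρ ((el i) ^ k.val) v = 0 := by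
      intro k hk
      refine hz0 _ ?_
      rw [map_sum]
      refine Fintype.sum_equiv (Equiv.addRight (k⁻¹)) _ _ fun i => ?_
      rw [← hρm, Equiv.coe_addRight]
      congr 2
      show z * (e * z ^ i.val) ^ k.val = (e * z ^ (i + k⁻¹).val) ^ k.val
      rw [((hzcomm e).pow_right i.val).mul_pow, ((hzcomm e).pow_right (i + k⁻¹).val).mul_pow,
        ← pow_mul, ← pow_mul, ← mul_assoc, ← ((hzcomm e).pow_left k.val).eq, mul_assoc, ← pow_succ']
      congr 1
      rw [pow_eq_pow_iff_modEq, hz, ← ZMod.natCast_eq_natCast_iff]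
      push_cast
      simp only [ZMod.natCast_val, ZMod.cast_id, id_eq, add_mul, inv_mul_cancel₀ (Finset.ne_of_mem_erase hk)]
    rw [Finset.sum_eq_zero h0, zero_add, ZMod.val_zero]
    simp only [pow_zero, hρ1, Finset.sum_const, Finset.card_univ, ZMod.card]
    rw [← Nat.cast_smul_eq_nsmul (ZMod q)]
  let eFin : Fin p ≃ ZMod p := (ZMod.finEquiv p).toEquiv
  let W : Fin p → Submodule (ZMod q) V := fun i => W' (eFin i)
  have htop : iSup W = ⊤ := by
    refine eq_top_iff.mpr fun v _ => ?_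
    have h := hspan v
    have hv : v = (p : ZMod q)⁻¹ • ∑ i, av i v := by rw [h, smul_smul, inv_mul_cancel₀ hpq, one_smul]
    rw [hv]
    refine Submodule.smul_mem _ _ (Submodule.sum_mem _ fun i _ => ?_)
    refine Submodule.mem_iSup_of_mem (eFin.symm i) ?_
    show av i v ∈ W' (eFin (eFin.symm i))
    rw [Equiv.apply_symm_apply]
    exact havmem i v
  have hind : iSupIndep W := by
    intro i
    rw [disjoint_iff, eq_bot_iff]
    rintro v ⟨hv, hv'⟩
    have hle : (⨆ j, ⨆ (_ : j ≠ i), W j) ≤ LinearMap.ker (av (eFin i)) := iSup_le fun j => iSup_le fun hji w hw =>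
      havzero _ _ w (fun h => hji (eFin.injective h).symm) hw
    have h1 : av (eFin i) v = 0 := hle hv'
    rw [havself _ _ hv, smul_eq_zero] at h1
    simpa [hpq] using h1
  -- no `W' i` is trivial, so `χ` is surjective
  have hchi : ∃ g, χ g ≠ 1 := by
    by_contra hh
    push Not at hh
    have hfixW : ∀ i, ∀ g, ∀ w ∈ W' i, ρ g w ∈ W' i := fun i g w hw => by
      have := hWmap g i w hw
      rwa [show (γ g : ZMod p) = 0 by rw [← hχ, hh g]; rfl, add_zero] at this
    have hall : ∀ i, W' i = ⊥ := fun i => (hirr (W' i) (hfixW i)).resolve_right fun h => hel1 i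
      (hρ (LinearEquiv.ext fun w => by rw [(hW' i w).mp (h ▸ Submodule.mem_top), hρ1]))
    obtain ⟨v, hv⟩ := exists_ne (0 : V)
    refine hv ?_
    have h := hspan v
    rw [Finset.sum_eq_zero (fun i _ => by simpa [hall i] using havmem i v)] at h
    simpa [hpq] using h.symm
  obtain ⟨g₁, hg₁⟩ := hchi
  refine ⟨χ.ker, W, ?_, htop, hind, ?_, ?_, ?_⟩
  · rw [Subgroup.index_ker]
    have hdvd : Nat.card χ.range ∣ p := by
      have := Subgroup.card_subgroup_dvd_card χ.range
      rwa [Nat.card_congr Multiplicative.toAdd, Nat.card_zmod] at this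
    refine ((Nat.dvd_prime hp).mp hdvd).resolve_left fun h => hg₁ ?_
    have : χ g₁ ∈ (⊥ : Subgroup (Multiplicative (ZMod p))) := Subgroup.eq_bot_of_card_eq _ h ▸ ⟨g₁, rfl⟩
    simpa using this
  · intro h hh i w hw
    have := hWmap h (eFin i) w hw
    rwa [show (γ h : ZMod p) = 0 by rw [← hχ, MonoidHom.mem_ker.mp hh]; rfl, add_zero] at this
  · intro i
    refine ⟨el (eFin i), ?_, hel1 _, fun w hw => (hW' _ w).mp hw⟩
    have h1 := hconjel (el (eFin i)) 0
    rw [(helc _ 0).eq, mul_inv_cancel_right, zero_add] at h1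
    rw [MonoidHom.mem_ker]
    exact Multiplicative.toAdd.injective ((hχ _).trans (helinj _ _ h1).symm)
  · intro g hg
    refine ⟨eFin.trans ((Equiv.addRight (γ g : ZMod p)).trans eFin.symm), ?_, fun i => ?_⟩
    · have hγ0 : (γ g : ZMod p) ≠ 0 := fun h => hg (by
        rw [MonoidHom.mem_ker]; exact Multiplicative.toAdd.injective ((hχ g).trans h))
      refine orderOf_eq_prime ?_ fun h => hγ0 ?_
      · ext i
        have hk : ∀ m : ℕ, ((eFin.trans ((Equiv.addRight (γ g : ZMod p)).trans eFin.symm)) ^ m) i =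
            eFin.symm (eFin i + m • (γ g : ZMod p)) := by
          intro m
          induction m with
          | zero => simp
          | succ m ih =>
              rw [pow_succ', Equiv.Perm.mul_apply, ih]
              simp [succ_nsmul, add_assoc]; ring
        rw [hk, nsmul_eq_mul, CharP.cast_eq_zero, zero_mul, add_zero, Equiv.symm_apply_apply]; rfl
      · have h1 := congrArg (fun σ : Equiv.Perm (Fin p) => eFin (σ (eFin.symm 0))) h
        simpa using h1
    · show (W' (eFin i)).map (ρ g : V →ₗ[ZMod q] V) = W' (eFin (eFin.symm (eFin i + (γ g : ZMod p))))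
      rw [Equiv.apply_symm_apply]
      refine le_antisymm ?_ fun w hw => ?_
      · rintro _ ⟨w, hw, rfl⟩
        exact hWmap g _ w hw
      · refine ⟨ρ g⁻¹ w, ?_, ?_⟩
        · have hinv : (γ g⁻¹ : ZMod p) = -(γ g : ZMod p) := by
            rw [← hχ, ← hχ, map_inv, toAdd_inv]
          have := hWmap g⁻¹ _ w hw
          rwa [hinv, add_neg_cancel_right] at this
        · show ρ g (ρ g⁻¹ w) = w
          rw [← hρm, mul_inv_cancel, hρ1]

end Cfsg.Agent.S3380
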