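import Cfsg.Statements.S3381
import Mathlib

set_option autoImplicit false
open Cfsg

namespace Cfsg.Agent.S3381

/-- Let G be a finite group acting faithfully and linearly on a non-trivial finite vector space V over the field with q elements (q prime) so that every non-zero vector has a stabilizer of order 2, and suppose G has a central involution. Then V has q^(2r) elements for some r and G contains exactly q^r + 1 non-central involutions. -/
theorem result
    (q : ℕ) [Fact q.Prime] {V : Type*} [AddCommGroup V] [Module (ZMod q) V] [Finite V] [Nontrivial V]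
    {G : Type*} [Group G] [Finite G] (ρ : G →* (V ≃ₗ[ZMod q] V)) (hρ : Function.Injective ρ)
    (hstab : ∀ v : V, v ≠ 0 → Nat.card {g : G // ρ g v = v} = 2)
    (z : G) (hz : orderOf z = 2) (hzc : z ∈ Subgroup.center G) :
    ∃ r : ℕ, Nat.card V = q ^ (2 * r) ∧
      Nat.card {g : G // orderOf g = 2 ∧ g ∉ Subgroup.center G} = q ^ r + 1 := by
  classical
  let _ := Fintype.ofFinite V
  let _ := Fintype.ofFinite G
  have hmul : ∀ a b : G, ∀ v : V, ρ (a * b) v = ρ a (ρ b v) := fun a b v => by rw [map_mul]; rfl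
  have hstab1 : ∀ v : V, v ≠ 0 → ∀ a b : G, a ≠ 1 → b ≠ 1 → ρ a v = v → ρ b v = v → a = b := by
    intro v hv a b ha hb hav hbv
    obtain ⟨x, y, hxy, huniv⟩ := Nat.card_eq_two_iff.mp (hstab v hv)
    have h1 : ρ (1 : G) v = v := by simp
    have hmem : ∀ c : {g : G // ρ g v = v}, c = x ∨ c = y := fun c => by simpa using huniv.ge (Set.mem_univ c)
    by_contra hab
    rcases hmem ⟨a, hav⟩ with e1 | e1 <;> rcases hmem ⟨b, hbv⟩ with e2 | e2 <;> rcases hmem ⟨1, h1⟩ with e3 | e3 <;>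
      first
        | exact hab (congrArg Subtype.val (e1.trans e2.symm))
        | exact ha (congrArg Subtype.val (e1.trans e3.symm))
        | exact hb (congrArg Subtype.val (e2.trans e3.symm))
  have hex : ∀ v : V, v ≠ 0 → ∃ t : G, t ≠ 1 ∧ orderOf t = 2 ∧ ρ t v = v := by
    intro v hv
    obtain ⟨x, y, hxy, -⟩ := Nat.card_eq_two_iff.mp (hstab v hv)
    obtain ⟨⟨t, ht⟩, ht1⟩ : ∃ t : {g : G // ρ g v = v}, (t : G) ≠ 1 := by
      by_cases h : (x : G) = 1
      · exact ⟨y, fun h' => hxy (Subtype.ext (h.trans h'.symm))⟩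
      · exact ⟨x, h⟩
    refine ⟨t, ht1, orderOf_eq_prime ?_ ht1, ht⟩
    by_contra h2
    have hs : ρ (t ^ 2) v = v := by rw [pow_two, hmul, ht, ht]
    have he := hstab1 v hv t (t ^ 2) ht1 h2 ht hs
    rw [pow_two] at he
    exact ht1 (mul_eq_left.mp he.symm)
  -- a central involution is -1
  have hcentral : ∀ c : G, orderOf c = 2 → c ∈ Subgroup.center G → ∀ v : V, ρ c v = -v ∧ (v ≠ 0 → ρ c v ≠ v) := by
    intro c hc hcc
    have hc1 : c ≠ 1 := fun h => by rw [h, orderOf_one] at hc; omega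
    have hcc2 : ∀ v, ρ c (ρ c v) = v := fun v => by
      rw [← hmul, ← pow_two, ← hc, pow_orderOf_eq_one]; simp
    have hneg : ∀ v : V, v ≠ 0 → ρ c v ≠ v → ρ c v = -v := by
      intro v hv hcv
      obtain ⟨t, ht1, -, htv⟩ := hex v hv
      by_contra hne
      have hu : v + ρ c v ≠ 0 := fun h => hne (eq_neg_of_add_eq_zero_right h)
      have htu : ρ t (v + ρ c v) = v + ρ c v := by
        rw [map_add, htv, ← hmul, Subgroup.mem_center_iff.mp hcc t, hmul, htv]
      have hcu : ρ c (v + ρ c v) = v + ρ c v := by rw [map_add, hcc2, add_comm]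
      rw [hstab1 _ hu t c ht1 hc1 htu hcu] at htv
      exact hcv htv
    have hno : ∀ v : V, v ≠ 0 → ρ c v ≠ v := by
      intro w hw hcw
      apply hc1
      refine hρ ?_
      rw [map_one]
      refine LinearEquiv.ext fun v => ?_
      show ρ c v = v
      by_contra hcv
      have hv : v ≠ 0 := fun h => hcv (by rw [h, map_zero])
      have h1 := hneg v hv hcv
      have hwv : w + v ≠ 0 := fun h => hcv (by rw [eq_neg_of_add_eq_zero_right h, map_neg, hcw])
      have hwv' : ρ c (w + v) ≠ w + v := by rw [map_add, hcw]; exact fun h => hcv (add_left_cancel h)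
      have h2 := hneg _ hwv hwv'
      rw [map_add, hcw, h1, neg_add] at h2
      have h3 : w + w = 0 := by
        have := add_right_cancel h2
        rwa [eq_neg_iff_add_eq_zero] at this
      have hq2 : (2 : ZMod q) = 0 := by
        by_contra h
        rw [← two_smul (ZMod q) w] at h3
        exact hw ((smul_eq_zero.mp h3).resolve_left h)
      exact hcv (h1.trans (neg_eq_iff_add_eq_zero.mpr (by rw [← two_smul (ZMod q) v, hq2, zero_smul])))
    exact fun v => ⟨if hv : v = 0 then by simp [hv] else hneg v hv (hno v hv), hno v⟩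
  have hzneg : ∀ v, ρ z v = -v := fun v => (hcentral z hz hzc v).1
  have hz1 : z ≠ 1 := fun h => by rw [h, orderOf_one] at hz; omega
  obtain ⟨v₀, hv₀⟩ := exists_ne (0 : V)
  have h2 : (2 : ZMod q) ≠ 0 := fun h => (hcentral z hz hzc v₀).2 hv₀ (by
    rw [hzneg, neg_eq_iff_add_eq_zero, ← two_smul (ZMod q) v₀, h, zero_smul])
  have hhalf : ∀ w : V, w + w = 0 → w = 0 := fun w h => by
    rw [← two_smul (ZMod q) w] at h
    exact (smul_eq_zero.mp h).resolve_left h2
  let T := {g : G // orderOf g = 2 ∧ g ∉ Subgroup.center G}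
  let F : G → Submodule (ZMod q) V := fun g => LinearMap.eqLocus (ρ g : V →ₗ[ZMod q] V) LinearMap.id
  have hF : ∀ g v, v ∈ F g ↔ ρ g v = v := fun g v => by simp [F]
  have hT1 : ∀ t : T, (t : G) ≠ 1 := fun t h => by
    have := t.2.1; rw [h, orderOf_one] at this; omega
  have hT2 : ∀ t : T, (t : G) ^ 2 = 1 := fun t => orderOf_dvd_iff_pow_eq_one.mp (dvd_of_eq t.2.1)
  have hz2 : z ^ 2 = 1 := orderOf_dvd_iff_pow_eq_one.mp (dvd_of_eq hz)
  have hTsq : ∀ t : T, ∀ v, ρ (t : G) (ρ (t : G) v) = v := fun t v => by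
    rw [← hmul, ← pow_two, hT2]; simp
  have hzt : ∀ t : T, orderOf (z * (t : G)) = 2 ∧ z * (t : G) ∉ Subgroup.center G := by
    intro t
    have hnc : z * (t : G) ∉ Subgroup.center G := fun h => t.2.2 (by
      simpa using (Subgroup.center G).mul_mem ((Subgroup.center G).inv_mem hzc) h)
    refine ⟨orderOf_eq_prime ?_ (fun h => hnc (h ▸ (Subgroup.center G).one_mem)), hnc⟩
    have hc : Commute z (t : G) := (Subgroup.mem_center_iff.mp hzc t).symm
    rw [hc.mul_pow, hz2, hT2, one_mul]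
  let zT : T → T := fun t => ⟨z * (t : G), hzt t⟩
  have hFz : ∀ (t : T) v, v ∈ F (zT t) ↔ ρ (t : G) v = -v := fun t v => by
    show v ∈ F (z * (t : G)) ↔ _
    rw [hF, hmul, hzneg, neg_eq_iff_eq_neg]
  have hdis : ∀ s t : T, s ≠ t → ∀ v, v ∈ F s → v ∈ F t → v = 0 := by
    intro s t hst v hs ht
    by_contra hv
    exact hst (Subtype.ext (hstab1 v hv _ _ (hT1 s) (hT1 t) ((hF _ _).mp hs) ((hF _ _).mp ht)))
  have hle : ∀ s t : T, s ≠ t → Nat.card (F s) * Nat.card (F t) ≤ Nat.card V := by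
    intro s t hst
    rw [← Nat.card_prod]
    refine Nat.card_le_card_of_injective (fun p : F s × F t => (p.1 : V) + (p.2 : V)) ?_
    rintro ⟨a, b⟩ ⟨c, d⟩ h
    have h' : (a : V) - c = d - b := sub_eq_sub_iff_add_eq_add.mpr ((show (a : V) + b = c + d from h).trans (add_comm _ _))
    have h0 := hdis s t hst _ ((F s).sub_mem a.2 c.2) (h' ▸ (F t).sub_mem d.2 b.2)
    rw [h0, eq_comm, sub_eq_zero] at h'
    exact Prod.ext (Subtype.ext (sub_eq_zero.mp h0)) (Subtype.ext h'.symm)
  have hne0 : ∀ t : T, ∃ v, v ≠ 0 ∧ v ∈ F t := by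
    intro t
    by_contra h
    push Not at h
    apply t.2.2
    have : (t : G) = z := hρ (LinearEquiv.ext fun v => by
      rw [hzneg]
      by_cases hv : v + ρ (t : G) v = 0
      · exact eq_neg_of_add_eq_zero_right hv
      · exact absurd ((hF _ _).mpr (by rw [map_add, hTsq, add_comm])) (h _ hv))
    rw [this]; exact hzc
  have hsplit : ∀ t : T, Nat.card (F t) * Nat.card (F (zT t)) = Nat.card V := by
    intro t
    rw [← Nat.card_prod]
    refine Nat.card_eq_of_bijective (fun p : F (t : G) × F (zT t : G) => (p.1 : V) + (p.2 : V)) ⟨?_, ?_⟩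
    · rintro ⟨a, b⟩ ⟨c, d⟩ h
      have hne : t ≠ zT t := fun h' => hz1 (mul_eq_right.mp (congrArg Subtype.val h').symm)
      have h' : (a : V) - c = d - b := sub_eq_sub_iff_add_eq_add.mpr ((show (a : V) + b = c + d from h).trans (add_comm _ _))
      have h0 := hdis t (zT t) hne _ ((F (t : G)).sub_mem a.2 c.2) (h' ▸ (F (zT t : G)).sub_mem d.2 b.2)
      rw [h0, eq_comm, sub_eq_zero] at h'
      exact Prod.ext (Subtype.ext (sub_eq_zero.mp h0)) (Subtype.ext h'.symm)
    · intro v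
      refine ⟨(⟨(2 : ZMod q)⁻¹ • (v + ρ (t : G) v), ?_⟩, ⟨(2 : ZMod q)⁻¹ • (v - ρ (t : G) v), ?_⟩), ?_⟩
      · rw [hF, map_smul, map_add, hTsq, add_comm]
      · rw [hFz, map_smul, map_sub, hTsq, ← smul_neg, neg_sub]
      · show (2 : ZMod q)⁻¹ • (v + ρ (t : G) v) + (2 : ZMod q)⁻¹ • (v - ρ (t : G) v) = v
        rw [← smul_add, add_add_sub_cancel, ← two_smul (ZMod q) v, smul_smul, inv_mul_cancel₀ h2, one_smul]
  have hthird : ∀ t : T, ∃ s : T, s ≠ t ∧ s ≠ zT t := by
    intro t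
    obtain ⟨f, hf0, hf⟩ := hne0 t
    obtain ⟨g, hg0, hg⟩ := hne0 (zT t)
    rw [hF] at hf
    rw [hFz] at hg
    have hv : f + g ≠ 0 := fun h => by
      have hgf := eq_neg_of_add_eq_zero_right h
      rw [hgf, map_neg, hf, neg_neg] at hg
      exact hf0 (hhalf f (neg_eq_iff_add_eq_zero.mp hg))
    obtain ⟨u, hu1, hu2, huv⟩ := hex _ hv
    refine ⟨⟨u, hu2, fun hc => (hcentral u hu2 hc _).2 hv huv⟩, fun h => ?_, fun h => ?_⟩
    · have e : u = (t : G) := congrArg Subtype.val h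
      rw [e, map_add, hf, hg] at huv
      exact hg0 (hhalf g (neg_eq_iff_add_eq_zero.mp (add_left_cancel huv)))
    · have e : u = z * (t : G) := congrArg Subtype.val h
      rw [e, hmul, map_add, hf, hg, hzneg, neg_add, neg_neg] at huv
      exact hf0 (hhalf f (neg_eq_iff_add_eq_zero.mp (add_right_cancel huv)))
  have hzz : ∀ t : T, zT (zT t) = t := fun t => Subtype.ext (by
    show z * (z * (t : G)) = t
    rw [← mul_assoc, ← pow_two, hz2, one_mul])
  have hcpos : ∀ t : T, 0 < Nat.card (F t) := fun t => Nat.card_pos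
  have hleT : ∀ s t : T, s ≠ t → s ≠ zT t → Nat.card (F s) ≤ Nat.card (F t) := by
    intro s t h1 h2
    have := hle s (zT t) h2
    rw [← hsplit t] at this
    exact Nat.le_of_mul_le_mul_right this (hcpos _)
  have hne' : ∀ s t : T, s ≠ zT t → t ≠ zT s := fun s t h h' => h (by rw [h', hzz])
  have hne'' : ∀ s t : T, s ≠ t → s ≠ zT t → zT s ≠ t ∧ zT s ≠ zT t := fun s t h1 h2 =>
    ⟨fun h => hne' s t h2 h.symm, fun h => h1 (by rw [← hzz s, h, hzz])⟩
  have heqT : ∀ s t : T, s ≠ t → s ≠ zT t → Nat.card (F s) = Nat.card (F t) := fun s t h1 h2 =>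
    le_antisymm (hleT s t h1 h2) (hleT t s h1.symm (hne' s t h2))
  have hsq : ∀ t : T, Nat.card (F t) * Nat.card (F t) = Nat.card V := by
    intro t
    obtain ⟨s, hs1, hs2⟩ := hthird t
    have e1 := heqT s t hs1 hs2
    have e2 := heqT (zT s) t (hne'' s t hs1 hs2).1 (hne'' s t hs1 hs2).2
    have h := hsplit s
    rw [e1, e2] at h
    exact h
  have hTne : Nonempty T := by
    obtain ⟨t, -, ht2, htv⟩ := hex v₀ hv₀
    exact ⟨⟨t, ht2, fun hc => (hcentral t ht2 hc v₀).2 hv₀ htv⟩⟩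
  obtain ⟨t₀⟩ := hTne
  obtain ⟨r, hr⟩ : ∃ r, Nat.card (F t₀) = q ^ r :=
    ⟨Module.finrank (ZMod q) (F t₀), by rw [Module.natCard_eq_pow_finrank (K := ZMod q), Nat.card_zmod]⟩
  have hN : Nat.card V = q ^ (2 * r) := by rw [← hsq t₀, hr, ← pow_add, two_mul]
  have hall : ∀ t : T, Nat.card (F t) = q ^ r := fun t => Nat.mul_self_inj.mp ((hsq t).trans ((hsq t₀).symm.trans (by rw [hr])))
  refine ⟨r, hN, ?_⟩
  let e : {v : V // v ≠ 0} ≃ (Σ t : T, {v : F (t : G) // v ≠ 0}) := Equiv.symm (Equiv.ofBijective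
    (fun p => ⟨((p.2.1 : F (p.1 : G)) : V), fun h => p.2.2 (Subtype.ext h)⟩) ⟨by
      rintro ⟨s, ⟨v, hv⟩, hv0⟩ ⟨t, ⟨w, hw⟩, hw0⟩ h
      have hvw : v = w := congrArg Subtype.val h
      subst hvw
      have : s = t := by
        by_contra hst
        exact hv0 (Subtype.ext (hdis s t hst v hv hw))
      subst this
      rfl, by
      rintro ⟨v, hv⟩
      obtain ⟨t, -, ht2, htv⟩ := hex v hv
      exact ⟨⟨⟨t, ht2, fun hc => (hcentral t ht2 hc v).2 hv htv⟩, ⟨v, (hF _ _).mpr htv⟩, fun h => hv (congrArg Subtype.val h)⟩, rfl⟩⟩)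
  have hcnt := Nat.card_congr e
  rw [Nat.card_sigma] at hcnt
  have hsub : ∀ (W : Type _) [AddCommGroup W] [Finite W], Nat.card {v : W // v ≠ 0} = Nat.card W - 1 := by
    intro W _ _
    let _ := Fintype.ofFinite W
    rw [Nat.card_eq_fintype_card, Nat.card_eq_fintype_card, Fintype.card_subtype_compl, Fintype.card_subtype_eq]
  rw [hsub V, hN] at hcnt
  have hfib : ∀ t : T, Nat.card {v : F (t : G) // v ≠ 0} = q ^ r - 1 := fun t => by rw [hsub, hall t]
  simp only [hfib, Finset.sum_const, Finset.card_univ, smul_eq_mul] at hcnt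
  rw [Nat.card_eq_fintype_card]
  have hq1 : 1 < q ^ r := by
    rw [← hr]
    obtain ⟨v, hv, hv'⟩ := hne0 t₀
    haveI : Nontrivial (F (t₀ : G)) := ⟨⟨⟨v, hv'⟩, 0, fun h => hv (congrArg Subtype.val h)⟩⟩
    exact Finite.one_lt_card
  have : (q ^ r + 1) * (q ^ r - 1) = q ^ (2 * r) - 1 := by
    rw [mul_comm 2 r, pow_mul, ← Nat.sq_sub_sq, one_pow]
  rw [← this] at hcnt
  exact (Nat.eq_of_mul_eq_mul_right (by omega) hcnt).symm

end Cfsg.Agent.S3381
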