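import Cfsg.Statements.S3382
import Mathlib
-- import your own Cfsg.Agent.* helpers here

set_option autoImplicit false
open Cfsg

namespace Cfsg.Agent.S3382

section Gen
variable {X : Type*} [Group X] [Finite X]

theorem step {φ : MulAut X} {n : ℕ} (hn : φ ^ n = 1) (hodd : Odd n) (hX : IsPGroup 2 X) {H : Subgroup X}
    (hfix : ∀ h ∈ H, φ h = h) {k : X} (hk : φ k ∈ H ∨ k⁻¹ * φ k ∈ H) : φ k = k := by
  rcases hk with h | h
  · exact φ.injective (hfix _ h)
  set c := k⁻¹ * φ k with hc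
  have hpow : ∀ j : ℕ, (φ ^ j) k = k * c ^ j := by
    intro j
    induction j with
    | zero => simp
    | succ j ih =>
        rw [pow_succ', MulAut.mul_apply, ih, map_mul, map_pow, hfix c h, pow_succ', ← mul_assoc, hc,
          mul_inv_cancel_left]
  have h1 := hpow n
  rw [hn, MulAut.one_apply, left_eq_mul] at h1
  obtain ⟨j, hj⟩ := IsPGroup.iff_orderOf.mp hX c
  have h2 : orderOf c ∣ n := orderOf_dvd_of_pow_eq_one h1
  rw [hj] at h2
  have hc1 : c = 1 := orderOf_eq_one_iff.mp (by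
    rw [hj]
    exact Nat.eq_one_of_dvd_coprimes ((Nat.coprime_two_left.mpr hodd).pow_left j) dvd_rfl h2)
  rw [hc, inv_mul_eq_one] at hc1
  exact hc1.symm

theorem fix_cyclic {φ : MulAut X} {n : ℕ} (hn : φ ^ n = 1) (hodd : Odd n) (hX : IsPGroup 2 X) :
    ∀ (k : ℕ) (g : X), g ^ 2 ^ k = 1 → φ g ∈ Subgroup.zpowers g → ∀ h ∈ Subgroup.zpowers g, φ h = h := by
  intro k
  induction k with
  | zero =>
      intro g hg _ h hh
      rw [pow_zero, pow_one] at hg
      rw [hg, Subgroup.zpowers_one_eq_bot, Subgroup.mem_bot] at hh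
      rw [hh, map_one]
  | succ k ih =>
      intro g hg hinv
      obtain ⟨i, hi⟩ := Subgroup.mem_zpowers_iff.mp hinv
      have hfix := ih (g ^ 2) (by rw [← pow_mul, ← pow_succ', hg]) (by
        rw [map_pow, ← hi]
        exact ⟨i, by show (g ^ 2) ^ i = (g ^ i) ^ 2; rw [← zpow_natCast, ← zpow_natCast, ← zpow_mul, ← zpow_mul, mul_comm]⟩)
      have hgg : φ g = g := by
        refine step hn hodd hX hfix ?_
        rw [← hi]
        obtain ⟨t, ht⟩ := Int.even_or_odd' i
        rcases ht with rfl | rfl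
        · exact Or.inl ⟨t, by show (g ^ 2) ^ t = g ^ (2 * t); rw [← zpow_natCast, ← zpow_mul]; norm_num⟩
        · refine Or.inr ⟨t, ?_⟩
          show (g ^ 2) ^ t = g⁻¹ * g ^ (2 * t + 1)
          rw [← zpow_natCast, ← zpow_mul, add_comm, zpow_one_add, inv_mul_cancel_left]
          norm_num
      rintro h ⟨j, rfl⟩
      show φ (g ^ j) = g ^ j
      rw [map_zpow, hgg]

end Gen

variable {q : ℕ} [Fact q.Prime]

def DD (f : (Fin 2 → ZMod q) ≃ₗ[ZMod q] (Fin 2 → ZMod q)) (a s : ZMod q) : Prop :=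
  ∀ v, f v = ![a * v 0, s * a⁻¹ * v 1]

def WW (f : (Fin 2 → ZMod q) ≃ₗ[ZMod q] (Fin 2 → ZMod q)) (a s : ZMod q) : Prop :=
  ∀ v, f v = ![s * a⁻¹ * v 1, a * v 0]

variable {f g : (Fin 2 → ZMod q) ≃ₗ[ZMod q] (Fin 2 → ZMod q)} {a b s t : ZMod q}

theorem DD.eq (hf : DD f a s) (hg : DD g a s) : f = g := LinearEquiv.ext fun v => (hf v).trans (hg v).symm
theorem WW.eq (hf : WW f a s) (hg : WW g a s) : f = g := LinearEquiv.ext fun v => (hf v).trans (hg v).symm

theorem DD.mul (hf : DD f a s) (hg : DD g b t) : DD (f * g) (a * b) (s * t) := fun v => by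
  show f (g v) = _
  rw [hf, hg]
  funext i
  fin_cases i <;> simp [mul_inv] <;> ring

theorem DD.one : DD (1 : (Fin 2 → ZMod q) ≃ₗ[ZMod q] (Fin 2 → ZMod q)) 1 1 := fun v => by
  funext i; fin_cases i <;> simp

theorem DD.pow (hf : DD f a s) : ∀ k : ℕ, DD (f ^ k) (a ^ k) (s ^ k)
  | 0 => by simpa using DD.one
  | k + 1 => by
      rw [pow_succ, pow_succ, pow_succ]
      exact (DD.pow hf k).mul hf

theorem WW.mulDD (hf : WW f a s) (hg : DD g b t) : WW (f * g) (a * b) (s * t) := fun v => by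
  show f (g v) = _
  rw [hf, hg]
  funext i
  fin_cases i <;> simp [mul_inv] <;> ring

theorem WW.mul (ha : a ≠ 0) (hb : b ≠ 0) (hs : s * s = 1) (hf : WW f a s) (hg : WW g b t) :
    DD (f * g) (s * b * a⁻¹) (s * t) := fun v => by
  show f (g v) = _
  rw [hf, hg]
  have hs0 : s ≠ 0 := fun h => by rw [h, mul_zero] at hs; exact zero_ne_one hs
  have hsi : s⁻¹ = s := inv_eq_of_mul_eq_one_left hs
  funext i
  fin_cases i
  · simp; ring
  · simp only [Matrix.cons_val_zero, Matrix.cons_val_one, Matrix.head_cons, Fin.mk_one, Fin.zero_eta,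
      mul_inv, inv_inv, hsi]
    rw [show s * t * (s * b⁻¹ * a) = (s * s) * (t * b⁻¹ * a) by ring, hs]
    simp; ring

theorem DD.ne_one (hf : DD f a s) (ha : a ≠ 1) : f ≠ 1 := fun h => ha (by
  have h1 := congrFun (hf (Pi.single 0 1)) 0
  rw [h] at h1
  simpa using h1.symm)

theorem exists_DD (a s : ZMod q) (ha : a ≠ 0) (hs : s * s = 1) :
    ∃ f : (Fin 2 → ZMod q) ≃ₗ[ZMod q] (Fin 2 → ZMod q), DD f a s := by
  refine ⟨{ toFun := fun v => ![a * v 0, s * a⁻¹ * v 1]
            invFun := fun v => ![a⁻¹ * v 0, s * a * v 1]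
            map_add' := fun u v => by funext i; fin_cases i <;> simp <;> ring
            map_smul' := fun c v => by funext i; fin_cases i <;> simp <;> ring
            left_inv := fun v => by
              funext i; fin_cases i
              · simp [ha]
              · simp
                rw [show s * a * (s * a⁻¹ * v 1) = (s * s) * (a * a⁻¹) * v 1 by ring, hs, mul_inv_cancel₀ ha]
                ring
            right_inv := fun v => by
              funext i; fin_cases i
              · simp [ha]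
              · simp
                rw [show s * a⁻¹ * (s * a * v 1) = (s * s) * (a * a⁻¹) * v 1 by ring, hs, mul_inv_cancel₀ ha]
                ring }, fun v => rfl⟩

theorem exists_WW (a s : ZMod q) (ha : a ≠ 0) (hs : s * s = 1) :
    ∃ f : (Fin 2 → ZMod q) ≃ₗ[ZMod q] (Fin 2 → ZMod q), WW f a s := by
  obtain ⟨f, hf⟩ := exists_DD a s ha hs
  refine ⟨(LinearEquiv.funCongrLeft (ZMod q) (ZMod q) (Equiv.swap (0 : Fin 2) 1)) * f, fun v => ?_⟩
  show (LinearEquiv.funCongrLeft (ZMod q) (ZMod q) (Equiv.swap (0 : Fin 2) 1)) (f v) = _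
  rw [hf]
  funext i; fin_cases i <;> simp [LinearMap.funLeft]

/-- Let q = 2^m + 1 be a prime other than 5. Then the automorphism group of the group of linear maps of F_q² of the forms (x, y) ↦ (a x, ± a⁻¹ y) and (x, y) ↦ (± a⁻¹ y, a x) with a ≠ 0 is itself a 2-group. -/
theorem result (q m : ℕ) [Fact q.Prime] (hq : q = 2 ^ m + 1) (hq5 : q ≠ 5)
    (T : Subgroup ((Fin 2 → ZMod q) ≃ₗ[ZMod q] (Fin 2 → ZMod q)))
    (hT : ∀ f, f ∈ T ↔ ∃ a s : ZMod q, a ≠ 0 ∧ (s = 1 ∨ s = -1) ∧
      ((∀ v, f v = ![a * v 0, s * a⁻¹ * v 1]) ∨ (∀ v, f v = ![s * a⁻¹ * v 1, a * v 0]))) :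
    IsPGroup 2 (MulAut T) := by
  have hqp : q.Prime := Fact.out
  have hss : ∀ s : ZMod q, (s = 1 ∨ s = -1) → s * s = 1 := fun s h => by rcases h with rfl | rfl <;> simp
  have hmem : ∀ x : T, (∃ a s, a ≠ 0 ∧ (s = 1 ∨ s = -1) ∧ DD x.1 a s) ∨ (∃ a s, a ≠ 0 ∧ (s = 1 ∨ s = -1) ∧ WW x.1 a s) :=
    fun x => by
      obtain ⟨a, s, ha, hs, h | h⟩ := (hT x.1).mp x.2
      · exact Or.inl ⟨a, s, ha, hs, h⟩
      · exact Or.inr ⟨a, s, ha, hs, h⟩
  have hmk : ∀ (a s : ZMod q), a ≠ 0 → (s = 1 ∨ s = -1) → (∃ x : T, DD x.1 a s) ∧ (∃ x : T, WW x.1 a s) := by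
    intro a s ha hs
    obtain ⟨f, hf⟩ := exists_DD a s ha (hss s hs)
    obtain ⟨f', hf'⟩ := exists_WW a s ha (hss s hs)
    exact ⟨⟨⟨f, (hT f).mpr ⟨a, s, ha, hs, Or.inl hf⟩⟩, hf⟩, ⟨⟨f', (hT f').mpr ⟨a, s, ha, hs, Or.inr hf'⟩⟩, hf'⟩⟩
  have hpow1 : ∀ a : ZMod q, a ≠ 0 → a ^ 2 ^ m = 1 := fun a ha => by
    have := ZMod.pow_card_sub_one_eq_one ha
    rwa [show q - 1 = 2 ^ m by rw [hq, Nat.add_sub_cancel]] at this
  have hDpow : ∀ x : T, ∀ a s, a ≠ 0 → (s = 1 ∨ s = -1) → DD x.1 a s → x ^ 2 ^ (m + 1) = 1 := fun x a s ha hs h => by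
    refine Subtype.ext ((h.pow _).eq ?_)
    rw [pow_succ, pow_mul, hpow1 a ha, one_pow, mul_comm, pow_mul, pow_two s, hss s hs, one_pow]
    exact DD.one
  haveI : Finite T := Finite.of_injective (fun x : T => (⇑x.1 : (Fin 2 → ZMod q) → (Fin 2 → ZMod q)))
    fun x y h => Subtype.ext (DFunLike.coe_injective h)
  have hTp : IsPGroup 2 T := fun x => ⟨m + 2, by
    rcases hmem x with ⟨a, s, ha, hs, h⟩ | ⟨a, s, ha, hs, h⟩
    · rw [pow_succ, pow_mul, hDpow x a s ha hs h, one_pow]
    · rw [pow_succ', pow_mul]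
      refine hDpow (x ^ 2) (s * a * a⁻¹) (s * s) ?_ (Or.inl (hss s hs)) ?_
      · rw [mul_inv_cancel_right₀ ha]; rcases hs with rfl | rfl <;> simp
      · have := WW.mul ha ha (hss s hs) h h
        rwa [show ((x ^ 2 : T) : _) = x.1 * x.1 by rw [pow_two]; rfl]⟩
  intro ψ
  obtain ⟨k, n, hn, hkn⟩ := Nat.exists_eq_two_pow_mul_odd (orderOf_pos ψ).ne'
  refine ⟨k, ?_⟩
  set φ := ψ ^ 2 ^ k
  have hφn : φ ^ n = 1 := by rw [← pow_mul, ← hkn, pow_orderOf_eq_one]
  suffices h : ∀ x : T, φ x = x from MulEquiv.ext h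
  obtain ⟨u, hu⟩ := IsCyclic.exists_ofOrder_eq_natCard (α := (ZMod q)ˣ)
  have hu' : orderOf u = 2 ^ m := by rw [hu, Nat.card_eq_fintype_card, ZMod.card_units, hq, Nat.add_sub_cancel]
  set g : ZMod q := (u : ZMod q) with hg
  have hg0 : g ≠ 0 := u.ne_zero
  have hgen : ∀ a : ZMod q, a ≠ 0 → ∃ i : ℕ, g ^ i = a := fun a ha => by
    obtain ⟨i, hi⟩ := (isOfFinOrder_of_finite u).mem_powers_iff_mem_zpowers.mpr
      ((Subgroup.eq_top_of_card_eq (Subgroup.zpowers u) (by rw [Nat.card_zpowers, hu])).symm ▸ Subgroup.mem_top (Units.mk0 a ha))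
    exact ⟨i, by simpa [Units.ext_iff] using hi⟩
  obtain ⟨d, hd⟩ := (hmk g 1 hg0 (Or.inl rfl)).1
  obtain ⟨e, he⟩ := (hmk 1 (-1) one_ne_zero (Or.inr rfl)).1
  obtain ⟨w, hw⟩ := (hmk 1 1 one_ne_zero (Or.inl rfl)).2
  obtain ⟨r, hr⟩ := (hmk 1 (-1) one_ne_zero (Or.inr rfl)).2
  have hdpow : ∀ i : ℕ, DD (d ^ i : T).1 (g ^ i) 1 := fun i => by
    have := hd.pow i; rw [one_pow] at this; exact this
  have hm' : m = 0 ∨ m = 1 ∨ 3 ≤ m := by
    rcases Nat.lt_or_ge m 3 with h | h
    · interval_cases m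
      · exact Or.inl rfl
      · exact Or.inr (Or.inl rfl)
      · exact absurd hq hq5
    · exact Or.inr (Or.inr h)
  rcases hm' with rfl | rfl | hm
  · -- two elements
    have h1 : ∀ a : ZMod q, a ≠ 0 → a = 1 := fun a ha => by simpa using hpow1 a ha
    have hs1 : ∀ s : ZMod q, (s = 1 ∨ s = -1) → s = 1 := fun s hs => h1 s (by rcases hs with rfl | rfl <;> simp)
    have hall : ∀ x : T, x = 1 ∨ x = w := fun x => by
      rcases hmem x with ⟨a, s, ha, hs, h⟩ | ⟨a, s, ha, hs, h⟩
      · rw [h1 a ha, hs1 s hs] at h; exact Or.inl (Subtype.ext (h.eq DD.one))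
      · rw [h1 a ha, hs1 s hs] at h; exact Or.inr (Subtype.ext (h.eq hw))
    intro x
    obtain ⟨j, hj⟩ := IsPGroup.iff_orderOf.mp hTp w
    have hfix := fix_cyclic hφn hn hTp j w (by rw [← hj, pow_orderOf_eq_one]) (by
      rcases hall (φ w) with h | h <;> rw [h]
      · exact one_mem _
      · exact Subgroup.mem_zpowers w)
    rcases hall x with rfl | rfl
    · exact map_one φ
    · exact hfix _ (Subgroup.mem_zpowers _)
  · -- `q = 3`: the dihedral group of order eight
    have h3 : ∀ a : ZMod q, a ≠ 0 → a = 1 ∨ a = -1 := fun a ha => by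
      have h := hpow1 a ha
      rw [pow_one, sq_eq_one_iff] at h
      exact h
    have hsq : ∀ x : T, x ^ 2 ≠ 1 → ∃ a s, WW x.1 a s ∧ a ≠ 0 ∧ (a = 1 ∨ a = -1) ∧ s = -1 := fun x hx => by
      rcases hmem x with ⟨a, s, ha, hs, h⟩ | ⟨a, s, ha, hs, h⟩
      · refine absurd (Subtype.ext ((h.pow 2).eq ?_)) hx
        rw [show a ^ 2 = 1 by rcases h3 a ha with rfl | rfl <;> simp, show s ^ 2 = 1 by rw [pow_two]; exact hss s hs]
        exact DD.one
      · refine ⟨a, s, h, ha, h3 a ha, hs.resolve_left fun e => hx (Subtype.ext ?_)⟩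
        subst e
        have := WW.mul ha ha (mul_one 1) h h
        rw [mul_inv_cancel_right₀ ha, mul_one] at this
        show ((x ^ 2 : T) : (Fin 2 → ZMod q) ≃ₗ[ZMod q] (Fin 2 → ZMod q)) = 1
        rw [pow_two]
        exact this.eq DD.one
    have hr2 : DD (r * r : T).1 (-1) 1 := by
      have := WW.mul one_ne_zero one_ne_zero (hss (-1) (Or.inr rfl)) hr hr
      simpa using this
    have hrw : ∀ (x : T) (a : ZMod q), (a = 1 ∨ a = -1) → WW x.1 a (-1) → x ∈ Subgroup.zpowers r := by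
      intro x a ha h
      rcases ha with rfl | rfl
      · rw [show x = r from Subtype.ext (h.eq hr)]; exact Subgroup.mem_zpowers r
      · rw [show x = r * (r * r) from Subtype.ext (h.eq (by simpa using hr.mulDD hr2))]
        exact mul_mem (Subgroup.mem_zpowers r) (mul_mem (Subgroup.mem_zpowers r) (Subgroup.mem_zpowers r))
    have hr4 : r ^ 2 ≠ 1 := fun h => by
      rw [pow_two] at h
      exact hr2.ne_one (by
        intro h2
        have : ((2 : ℕ) : ZMod q) = 0 := by push_cast; linear_combination -h2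
        rw [ZMod.natCast_eq_zero_iff] at this
        have := Nat.le_of_dvd two_pos this
        omega) (congrArg Subtype.val h)
    have hfix := fix_cyclic hφn hn hTp 3 r (by
      have := hDpow (r * r) (-1) 1 (by simp) (Or.inl rfl) hr2
      rw [show (2 : ℕ) ^ 3 = 2 * 2 ^ (1 + 1) by norm_num, pow_mul, pow_two, this]) (by
      obtain ⟨a, s, h, ha0, ha, rfl⟩ := hsq (φ r) fun h => hr4 (φ.injective (by rw [map_pow, h, map_one]))
      exact hrw _ a ha h)
    have hw2 : w ^ 2 = 1 := Subtype.ext (by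
      show ((w ^ 2 : T) : (Fin 2 → ZMod q) ≃ₗ[ZMod q] (Fin 2 → ZMod q)) = 1
      rw [pow_two]
      refine (WW.mul one_ne_zero one_ne_zero (mul_one 1) hw hw).eq ?_
      simpa using DD.one)
    intro x
    by_cases hx : x ^ 2 = 1
    swap
    · obtain ⟨a, s, h, ha0, ha, rfl⟩ := hsq x hx
      exact hfix x (hrw x a ha h)
    have hcase : ∀ y : T, y ∈ Subgroup.zpowers r ∨ w⁻¹ * y ∈ Subgroup.zpowers r := by
      have hww : w⁻¹ = w := inv_eq_of_mul_eq_one_left (by rw [← pow_two]; exact hw2)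
      intro y
      rw [hww]
      rcases hmem y with ⟨a, s, ha, hs, h⟩ | ⟨a, s, ha, hs, h⟩
      · rcases hs with rfl | rfl
        · left
          rcases h3 a ha with rfl | rfl
          · rw [show y = 1 from Subtype.ext (h.eq DD.one)]; exact one_mem _
          · rw [show y = r * r from Subtype.ext (h.eq hr2)]
            exact mul_mem (Subgroup.mem_zpowers r) (Subgroup.mem_zpowers r)
        · right
          have := hw.mulDD h
          rw [one_mul, one_mul] at this
          exact hrw _ a (h3 a ha) this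
      · rcases hs with rfl | rfl
        · right
          have := WW.mul one_ne_zero ha (mul_one 1) hw h
          rw [one_mul, inv_one, mul_one, mul_one] at this
          rcases h3 a ha with rfl | rfl
          · rw [show w * y = 1 from Subtype.ext (this.eq DD.one)]; exact one_mem _
          · rw [show w * y = r * r from Subtype.ext (this.eq hr2)]
            exact mul_mem (Subgroup.mem_zpowers r) (Subgroup.mem_zpowers r)
        · exact Or.inl (hrw y a (h3 a ha) h)
    have hfw : φ w = w := by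
      refine step hφn hn hTp hfix ?_
      rcases hcase (φ w) with h | h
      · exact Or.inl h
      · exact Or.inr h
    rcases hcase x with h | h
    · exact hfix x h
    · rw [show x = w * (w⁻¹ * x) by group, map_mul, hfw, hfix _ h]
  -- the general case
  have h8 : 8 ≤ 2 ^ m := le_trans (by norm_num) (Nat.pow_le_pow_right two_pos hm)
  have hW4 : ∀ (x : T) a s, a ≠ 0 → (s = 1 ∨ s = -1) → WW x.1 a s → x ^ 4 = 1 := fun x a s ha hs h => by
    have h2 : DD (x * x : T).1 (s * a * a⁻¹) (s * s) := WW.mul ha ha (hss s hs) h h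
    rw [mul_inv_cancel_right₀ ha, hss s hs] at h2
    have h4 := h2.mul h2
    rw [hss s hs, mul_one] at h4
    rw [show x ^ 4 = (x * x) * (x * x) by simp [pow_succ, mul_assoc]]
    exact Subtype.ext (h4.eq DD.one)
  have hbig : ∀ (x : T) (s : ZMod q), DD x.1 g s → x ^ 4 ≠ 1 := fun x s h h4 => by
    have h1 := h.pow 4
    refine h1.ne_one (fun e => ?_) (congrArg Subtype.val h4)
    have := orderOf_dvd_of_pow_eq_one (show u ^ 4 = 1 from Units.ext (by rw [Units.val_pow_eq_pow_val]; exact e))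
    rw [hu'] at this
    exact absurd (Nat.le_of_dvd (by norm_num) this) (by omega)
  -- the subgroups `C` and `D₀`
  let C := Subgroup.zpowers (d ^ 2)
  have hdec : ∀ (x : T) a s, a ≠ 0 → (s = 1 ∨ s = -1) → DD x.1 a s → ∃ i : ℕ, x = d ^ i ∨ x = d ^ i * e := by
    intro x a s ha hs h
    obtain ⟨i, hi⟩ := hgen a ha
    refine ⟨i, ?_⟩
    rcases hs with rfl | rfl
    · exact Or.inl (Subtype.ext (h.eq (hi ▸ hdpow i)))
    · right
      have := (hdpow i).mul he
      rw [mul_one, one_mul, hi] at this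
      exact Subtype.ext (h.eq this)
  have hD : ∀ x : T, x ^ 4 ≠ 1 → ∃ i : ℕ, x = d ^ i ∨ x = d ^ i * e := fun x hx => by
    rcases hmem x with ⟨a, s, ha, hs, h⟩ | ⟨a, s, ha, hs, h⟩
    · exact hdec x a s ha hs h
    · exact absurd (hW4 x a s ha hs h) hx
  have hcomm : Commute d e := Subtype.ext ((hd.mul he).eq (by rw [mul_comm g, mul_comm (1 : ZMod q) (-1)]; exact he.mul hd))
  have he2 : e ^ 2 = 1 := Subtype.ext ((he.pow 2).eq (by simpa using DD.one))
  have hφd : ∃ i : ℕ, φ d = d ^ i ∨ φ d = d ^ i * e :=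
    hD _ fun h => hbig d 1 hd (φ.injective (by rw [map_pow, h, map_one]))
  have hφc : φ (d ^ 2) ∈ C := by
    obtain ⟨i, h | h⟩ := hφd <;> rw [map_pow, h]
    · rw [← pow_mul, mul_comm, pow_mul]; exact Subgroup.pow_mem _ (Subgroup.mem_zpowers _) i
    · rw [(hcomm.pow_left i).mul_pow, he2, mul_one, ← pow_mul, mul_comm, pow_mul]
      exact Subgroup.pow_mem _ (Subgroup.mem_zpowers _) i
  obtain ⟨j, hj⟩ := IsPGroup.iff_orderOf.mp hTp (d ^ 2)
  have hfixC := fix_cyclic hφn hn hTp j (d ^ 2) (by rw [← hj, pow_orderOf_eq_one]) hφc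
  have heven : ∀ i : ℕ, Even i → d ^ i ∈ C := by
    rintro i ⟨t, rfl⟩
    rw [show t + t = 2 * t by omega, pow_mul]
    exact Subgroup.pow_mem _ (Subgroup.mem_zpowers _) t
  have hm1 : (d : T) ^ 2 ^ (m - 1) ≠ 1 := fun h => (hdpow (2 ^ (m - 1))).ne_one (fun e' => by
    have := orderOf_dvd_of_pow_eq_one (show u ^ 2 ^ (m - 1) = 1 from Units.ext (by rw [Units.val_pow_eq_pow_val]; exact e'))
    rw [hu', Nat.pow_dvd_pow_iff_le_right (by norm_num)] at this
    omega) (congrArg Subtype.val h)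
  have hd2 : (d : T) ^ 2 ^ m = 1 := Subtype.ext ((hdpow (2 ^ m)).eq (by rw [hpow1 g hg0]; exact DD.one))
  have he2' : ∀ k, 1 ≤ k → e ^ 2 ^ k = 1 := fun k hk => by
    rw [show k = (k - 1) + 1 by omega, pow_succ', pow_mul, he2, one_pow]
  -- `e` is fixed: it lies in the image of elements killed by `2 ^ (m - 1)`
  have hfe : φ e = e := by
    have hex : ∃ i : ℕ, φ e = d ^ i ∨ φ e = d ^ i * e := by
      obtain ⟨i, hi⟩ : ∃ i : ℕ, φ (d * e) = d ^ i ∨ φ (d * e) = d ^ i * e := by
        refine hD _ fun h => ?_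
        have h1 : (d * e) ^ 4 = 1 := φ.injective (by rw [map_pow, h, map_one])
        exact hbig (d * e) (1 * -1) (by simpa using hd.mul he) h1
      obtain ⟨k, hk⟩ := hφd
      obtain ⟨t, hi'⟩ : ∃ t : ℕ, (d ^ k)⁻¹ * d ^ i = d ^ t :=
        let ⟨t, ht⟩ := (isOfFinOrder_of_finite d).mem_powers_iff_mem_zpowers.mpr
          (mul_mem (inv_mem (Subgroup.pow_mem _ (Subgroup.mem_zpowers d) k)) (Subgroup.pow_mem _ (Subgroup.mem_zpowers d) i))
        ⟨t, ht.symm⟩
      refine ⟨t, ?_⟩
      have hei : e⁻¹ = e := inv_eq_of_mul_eq_one_left (by rw [← pow_two]; exact he2)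
      have hfe' : φ e = (φ d)⁻¹ * φ (d * e) := by rw [← map_inv, ← map_mul, inv_mul_cancel_left]
      rcases hk with hk | hk <;> rcases hi with hi | hi <;> rw [hfe', hk, hi]
      · exact Or.inl hi'
      · exact Or.inr (by rw [← mul_assoc, hi'])
      · right; rw [mul_inv_rev, hei, mul_assoc, hi']; exact ((hcomm.pow_left t).eq).symm
      · left; rw [mul_inv_rev, hei, mul_assoc, ← mul_assoc (d ^ k)⁻¹, hi', ← mul_assoc, ← (hcomm.pow_left t).eq,
          mul_assoc, ← pow_two, he2, mul_one]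
    obtain ⟨i, hi⟩ := hex
    have hieven : Even i := by
      by_contra hodd
      rw [Nat.not_even_iff_odd] at hodd
      have h0 : φ e ^ 2 ^ (m - 1) = 1 := by rw [← map_pow, he2' _ (by omega), map_one]
      obtain ⟨t, rfl⟩ := hodd
      have h1 : (d ^ (2 * t + 1)) ^ 2 ^ (m - 1) = 1 := by
        rcases hi with hi | hi <;> rw [hi] at h0
        · exact h0
        · rwa [(hcomm.pow_left _).mul_pow, he2' _ (by omega), mul_one] at h0
      refine hm1 ?_
      rw [← pow_mul, add_mul, one_mul, pow_add, mul_comm 2 t, mul_assoc, ← pow_succ', show m - 1 + 1 = m by omega,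
        mul_comm t, pow_mul, hd2, one_pow, one_mul] at h1
      exact h1
    refine step hφn hn hTp hfixC ?_
    rcases hi with hi | hi <;> rw [hi]
    · exact Or.inl (heven i hieven)
    · right
      rw [(hcomm.pow_left i).eq, inv_mul_cancel_left]
      exact heven i hieven
  let D₀ := Subgroup.closure (({d ^ 2, e} : Set T))
  have hfix0 : ∀ x ∈ D₀, φ x = x := by
    intro x hx
    induction hx using Subgroup.closure_induction with
    | mem y hy =>
        rcases hy with rfl | rfl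
        · exact hfixC _ (Subgroup.mem_zpowers _)
        · exact hfe
    | one => exact map_one φ
    | mul a b _ _ iha ihb => rw [map_mul, iha, ihb]
    | inv a _ iha => rw [map_inv, iha]
  have hCle : C ≤ D₀ := Subgroup.zpowers_le.mpr (Subgroup.subset_closure (Or.inl rfl))
  have heD : e ∈ D₀ := Subgroup.subset_closure (Or.inr rfl)
  have hfd : φ d = d := by
    obtain ⟨i, hi⟩ := hφd
    refine step hφn hn hTp hfix0 ?_
    rcases Nat.even_or_odd i with he' | ⟨t, rfl⟩
    · left; rcases hi with hi | hi <;> rw [hi]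
      · exact hCle (heven i he')
      · exact mul_mem (hCle (heven i he')) heD
    · right
      have hd1 : d⁻¹ * d ^ (2 * t + 1) ∈ D₀ := by
        rw [pow_succ', inv_mul_cancel_left]; exact hCle (heven _ (even_two_mul t))
      rcases hi with hi | hi <;> rw [hi]
      · exact hd1
      · rw [← mul_assoc]; exact mul_mem hd1 heD
  let D := Subgroup.closure (({d, e} : Set T))
  have hfixD : ∀ x ∈ D, φ x = x := by
    intro x hx
    induction hx using Subgroup.closure_induction with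
    | mem y hy =>
        rcases hy with rfl | rfl
        · exact hfd
        · exact hfe
    | one => exact map_one φ
    | mul a b _ _ iha ihb => rw [map_mul, iha, ihb]
    | inv a _ iha => rw [map_inv, iha]
  have hDdec : ∀ (x : T) a s, a ≠ 0 → (s = 1 ∨ s = -1) → DD x.1 a s → x ∈ D := fun x a s ha hs h => by
    obtain ⟨i, rfl | rfl⟩ := hdec x a s ha hs h
    · exact Subgroup.pow_mem D (Subgroup.subset_closure (Or.inl rfl)) i
    · exact mul_mem (Subgroup.pow_mem D (Subgroup.subset_closure (Or.inl rfl)) i) (Subgroup.subset_closure (Or.inr rfl))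
  have hcase : ∀ y : T, y ∈ D ∨ w⁻¹ * y ∈ D := fun y => by
    rcases hmem y with ⟨a, s, ha, hs, h⟩ | ⟨a, s, ha, hs, h⟩
    · exact Or.inl (hDdec y a s ha hs h)
    · right
      have hww : w⁻¹ = w := inv_eq_of_mul_eq_one_left (by
        exact Subtype.ext ((WW.mul one_ne_zero one_ne_zero (mul_one 1) hw hw).eq (by simpa using DD.one)))
      rw [hww]
      have := WW.mul one_ne_zero ha (mul_one 1) hw h
      exact hDdec (w * y) (1 * a * 1⁻¹) (1 * s) (by simpa using ha) (by simpa using hs) this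
  have hfw : φ w = w := by
    refine step hφn hn hTp hfixD ?_
    exact hcase (φ w)
  intro x
  rcases hcase x with h | h
  · exact hfixD x h
  · rw [show x = w * (w⁻¹ * x) by group, map_mul, hfw, hfixD _ h]

end Cfsg.Agent.S3382
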