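import Cfsg.Statements.S3389
import Mathlib
import Cfsg.Agent.Lib.Recog.SylowExtend

set_option autoImplicit false
open Cfsg

namespace Cfsg.Agent.S3389

/-- Let G be a finite group acting faithfully and transitively on a finite set Ω with fixity k ≥ 1: every non-identity element fixes at most k points and some non-identity element fixes exactly k points. Then |Z(G)| divides k; if k = 2 then |G| is even; and for every prime p > k dividing |G| and every point α, either p does not divide |G_α| or G_α contains a Sylow p-subgroup of G. -/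
theorem result {G : Type*} [Group G] [Finite G] {Ω : Type*} [Fintype Ω] [MulAction G Ω] [FaithfulSMul G Ω]
    (htr : MulAction.IsPretransitive G Ω) (k : ℕ) (hk : 1 ≤ k)
    (hfix : ∀ g : G, g ≠ 1 → Nat.card (MulAction.fixedBy Ω g) ≤ k) (hex : ∃ g : G, g ≠ 1 ∧ Nat.card (MulAction.fixedBy Ω g) = k) :
    Nat.card (Subgroup.center G) ∣ k ∧ (k = 2 → 2 ∣ Nat.card G) ∧
      ∀ (p : ℕ), p.Prime → k < p → p ∣ Nat.card G → ∀ α : Ω,
        ¬ p ∣ Nat.card (MulAction.stabilizer G α) ∨ ¬ p ∣ (MulAction.stabilizer G α).index := by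
  classical
  haveI := htr
  have hfree : ∀ (z : G), z ∈ Subgroup.center G → ∀ ω : Ω, z • ω = ω → z = 1 := by
    intro z hz ω hω
    refine FaithfulSMul.eq_of_smul_eq_smul (α := Ω) fun w => ?_
    obtain ⟨x, rfl⟩ := MulAction.exists_smul_eq G ω w
    rw [one_smul, ← mul_smul, ← Subgroup.mem_center_iff.mp hz x, mul_smul, hω]
  -- a Sylow subgroup of a stabilizer whose normalizer fixes the point is a Sylow subgroup
  have hfixQ : ∀ (Q : Subgroup G), Q ≠ ⊥ → Nat.card (MulAction.fixedPoints Q Ω) ≤ k := by
    intro Q hQ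
    obtain ⟨x, hx, hx1⟩ := (Subgroup.bot_or_exists_ne_one Q).resolve_left hQ
    refine le_trans ?_ (hfix x hx1)
    exact Nat.card_mono (Set.toFinite _) fun ω hω => hω ⟨x, hx⟩
  have hnormfix : ∀ (Q : Subgroup G) (g : G), g ∈ Subgroup.normalizer (Q : Set G) →
      ∀ ω : Ω, ω ∈ MulAction.fixedPoints Q Ω → g • ω ∈ MulAction.fixedPoints Q Ω := by
    intro Q g hg ω hω q
    have hmem : g⁻¹ * (q : G) * g ∈ Q := by
      have := (Subgroup.mem_normalizer_iff.mp (inv_mem hg) q).mp q.2
      simpa using this
    have := hω ⟨_, hmem⟩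
    rw [Subgroup.smul_def] at this
    simp only [mul_smul, inv_smul_eq_iff] at this
    exact this
  refine ⟨?_, ?_, ?_⟩
  · obtain ⟨g, -, hgk⟩ := hex
    let F := MulAction.fixedBy Ω g
    letI : MulAction (Subgroup.center G) F :=
      { smul := fun z x => ⟨(z : G) • (x : Ω), by
          show g • ((z : G) • (x : Ω)) = (z : G) • (x : Ω)
          rw [← mul_smul, Subgroup.mem_center_iff.mp z.2 g, mul_smul, x.2]⟩
        one_smul := fun x => Subtype.ext (one_smul G (x : Ω))
        mul_smul := fun a b x => Subtype.ext (mul_smul (a : G) (b : G) (x : Ω)) }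
    have hst : ∀ x : F, MulAction.stabilizer (Subgroup.center G) x = ⊥ := by
      intro x
      rw [Subgroup.eq_bot_iff_forall]
      exact fun z hz => Subtype.ext (hfree z z.2 x (congrArg Subtype.val hz))
    have e := Nat.card_congr (MulAction.selfEquivOrbitsQuotientProd hst)
    rw [hgk, Nat.card_prod] at e
    exact e ▸ dvd_mul_left _ _
  · intro hk2
    by_contra hodd
    obtain ⟨g, hg1, hgk⟩ := hex
    rw [hk2, Nat.card_eq_two_iff] at hgk
    obtain ⟨a, b, hab, -⟩ := hgk
    let L := MulAction.stabilizer G (a : Ω) ⊓ MulAction.stabilizer G (b : Ω)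
    have hgL : g ∈ L := ⟨a.2, b.2⟩
    haveI : Nontrivial L := ⟨⟨⟨g, hgL⟩, 1, fun h => hg1 (congrArg Subtype.val h)⟩⟩
    obtain ⟨p, hp, hpd⟩ := Nat.exists_prime_and_dvd (n := Nat.card L) Finite.one_lt_card.ne'
    haveI := Fact.mk hp
    obtain ⟨Q⟩ : Nonempty (Sylow p L) := inferInstance
    let Q' := (Q : Subgroup L).map L.subtype
    have hQL : Q' ≤ L := Subgroup.map_subtype_le _
    have hQne : Q' ≠ ⊥ := by
      intro h
      have h1 := Q.dvd_card_of_dvd_card hpd
      rw [Nat.card_congr (Subgroup.equivMapOfInjective (Q : Subgroup L) _ L.subtype_injective).toEquiv] at h1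
      change p ∣ Nat.card Q' at h1
      rw [h, Subgroup.card_bot] at h1
      exact hp.one_lt.ne' (Nat.dvd_one.mp h1)
    have hab' : (a : Ω) ≠ (b : Ω) := fun h => hab (Subtype.ext h)
    have hfa : (a : Ω) ∈ MulAction.fixedPoints Q' Ω := fun q => (hQL q.2).1
    have hfb : (b : Ω) ∈ MulAction.fixedPoints Q' Ω := fun q => (hQL q.2).2
    have htwo : ∀ w ∈ MulAction.fixedPoints Q' Ω, w = (a : Ω) ∨ w = (b : Ω) := by
      intro w hw
      by_contra hne
      push Not at hne
      have h3 : ({(a : Ω), (b : Ω), w} : Finset Ω).card ≤ Nat.card (MulAction.fixedPoints Q' Ω) := by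
        rw [← Nat.card_eq_finsetCard]
        refine Nat.card_mono (Set.toFinite _) ?_
        intro x hx
        simp only [Finset.mem_coe, Finset.mem_insert, Finset.mem_singleton] at hx
        rcases hx with rfl | rfl | rfl <;> assumption
      rw [Finset.card_insert_of_notMem (by simp [hab', hne.1.symm]), Finset.card_pair hne.2.symm] at h3
      have := hfixQ Q' hQne
      omega
    have hNfix : ∀ x ∈ Subgroup.normalizer (Q' : Set G), x • (a : Ω) = (a : Ω) := by
      intro x hx
      rcases htwo _ (hnormfix Q' x hx _ hfa) with h | h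
      · exact h
      · exfalso
        have hb2 : x • (b : Ω) = (a : Ω) := by
          rcases htwo _ (hnormfix Q' x hx _ hfb) with h' | h'
          · exact h'
          · exact absurd (MulAction.injective x (h.trans h'.symm)) hab'
        have hper : x ^ 2 • (a : Ω) = (a : Ω) := by rw [pow_two, mul_smul, h, hb2]
        have hm : Odd (orderOf x) := Nat.not_even_iff_odd.mp fun he =>
          hodd (even_iff_two_dvd.mp he |>.trans (orderOf_dvd_natCard x))
        obtain ⟨j, hj⟩ := hm
        have hj2 : ∀ i : ℕ, (x ^ 2) ^ i • (a : Ω) = (a : Ω) := by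
          intro i; induction i with
          | zero => simp
          | succ i ih => rw [pow_succ, mul_smul, hper, ih]
        have := pow_orderOf_eq_one x
        rw [hj, pow_succ', pow_mul] at this
        have h' := congrArg (· • (a : Ω)) this
        simp only [mul_smul, hj2, one_smul, h] at h'
        exact hab' h'.symm
    obtain ⟨S, hS⟩ := Cfsg.Agent.Recog.exists_sylow_eq_of_normalizer_le Q (fun x hx _ => ⟨hNfix x hx, by
      show x • (b : Ω) = (b : Ω)
      rcases htwo _ (hnormfix Q' x hx _ hfb) with h | h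
      · exact absurd (MulAction.injective x ((hNfix x hx).trans h.symm)) hab'
      · exact h⟩)
    obtain ⟨x, hx⟩ := MulAction.exists_smul_eq G (a : Ω) (b : Ω)
    have hSb : (S : Subgroup G) ≤ MulAction.stabilizer G (b : Ω) := hS.le.trans (hQL.trans inf_le_right)
    have hxS : ((x • S : Sylow p G) : Subgroup G) ≤ MulAction.stabilizer G (b : Ω) := by
      intro y hy
      rw [Sylow.coe_subgroup_smul, Subgroup.mem_pointwise_smul_iff_inv_smul_mem] at hy
      have h1 : x⁻¹ * y * x ∈ MulAction.stabilizer G (a : Ω) := by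
        have h0 : x⁻¹ * y * x ∈ (S : Subgroup G) := by simpa using hy
        rw [hS] at h0
        exact (hQL h0).1
      rw [MulAction.mem_stabilizer_iff, mul_smul, mul_smul, inv_smul_eq_iff, hx] at h1
      exact h1
    obtain ⟨h, hh⟩ := MulAction.exists_smul_eq (MulAction.stabilizer G (b : Ω)) ((x • S).subtype hxS) (S.subtype hSb)
    rw [Sylow.smul_subtype] at hh
    have hh' := Sylow.subtype_injective hh
    rw [Subgroup.smul_def, smul_smul, Sylow.smul_eq_iff_mem_normalizer] at hh'
    have hh'' : (h : G) * x ∈ Subgroup.normalizer (Q' : Set G) := by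
      have e : ((S : Subgroup G) : Set G) = (Q' : Set G) := congrArg SetLike.coe hS
      rw [← e]; exact hh'
    have h2 := hNfix _ hh''
    rw [mul_smul, hx, MulAction.mem_stabilizer_iff.mp h.2] at h2
    exact hab' h2.symm
  · intro p hp hkp hpG α
    haveI := Fact.mk hp
    by_contra hcon
    push Not at hcon
    obtain ⟨hpα, hpi⟩ := hcon
    obtain ⟨Q⟩ : Nonempty (Sylow p (MulAction.stabilizer G α)) := inferInstance
    let Q' := (Q : Subgroup (MulAction.stabilizer G α)).map (MulAction.stabilizer G α).subtype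
    have hQne : Q' ≠ ⊥ := by
      intro h
      have h1 := Q.dvd_card_of_dvd_card hpα
      rw [Nat.card_congr (Subgroup.equivMapOfInjective (Q : Subgroup _) _ (MulAction.stabilizer G α).subtype_injective).toEquiv] at h1
      change p ∣ Nat.card Q' at h1
      rw [h, Subgroup.card_bot] at h1
      exact hp.one_lt.ne' (Nat.dvd_one.mp h1)
    obtain ⟨S, hS⟩ := Cfsg.Agent.Recog.exists_sylow_eq_of_normalizer_le Q (fun x hx hpx => by
      obtain ⟨n, hn⟩ := hpx
      let X := Subgroup.zpowers x
      letI : MulAction X (MulAction.fixedPoints Q' Ω) :=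
        { smul := fun z w => ⟨(z : G) • (w : Ω), hnormfix Q' z (Subgroup.zpowers_le.mpr hx z.2) _ w.2⟩
          one_smul := fun w => Subtype.ext (one_smul G (w : Ω))
          mul_smul := fun a b w => Subtype.ext (mul_smul (a : G) (b : G) (w : Ω)) }
      have hX : IsPGroup p X := IsPGroup.of_card (n := n) (by rw [Nat.card_zpowers, hn])
      let w : MulAction.fixedPoints Q' Ω := ⟨α, fun q => Subgroup.map_subtype_le _ q.2⟩
      obtain ⟨m, hm⟩ := hX.card_orbit w
      have hle : Nat.card (MulAction.orbit X w) ≤ k :=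
        le_trans (Finite.card_subtype_le _) (hfixQ Q' hQne)
      rcases Nat.eq_zero_or_pos m with rfl | hm0
      · rw [pow_zero, Nat.card_eq_one_iff_unique] at hm
        haveI := hm.1
        have := @Subsingleton.elim _ hm.1 ⟨_, MulAction.mem_orbit w ⟨x, Subgroup.mem_zpowers x⟩⟩ ⟨w, MulAction.mem_orbit_self w⟩
        exact congrArg (fun y : MulAction.orbit X w => ((y : MulAction.fixedPoints Q' Ω) : Ω)) this
      · have := Nat.le_self_pow hm0.ne' p
        omega)
    have hsub : (S : Subgroup G) ≤ MulAction.stabilizer G α := hS.le.trans (Subgroup.map_subtype_le _)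
    exact S.not_dvd_index (hpi.trans (Subgroup.index_dvd_of_le hsub))

end Cfsg.Agent.S3389
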