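import Cfsg.Statements.S3391
import Cfsg.Agent.Lib.Lie.Sz.Fixity
import Cfsg.Agent.Lib.Lie.Sz.LieEquiv
-- import your own Cfsg.Agent.* helpers here

set_option autoImplicit false
open Cfsg

namespace Cfsg.Agent.S3391

/-- Let q = 2^{2m+1} ≥ 8 and let G be isomorphic to the Suzuki group Sz(q). If G acts faithfully and transitively on a finite set Ω with fixity 2 (every non-identity element fixes at most two points, and some fixes exactly two), then either |Ω| = q² + 1 and the action is 2-transitive, or |Ω| = q²(q² + 1) and the point stabilizers have order q − 1. -/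
theorem result {G : Type*} [Group G] [Finite G] (F : Type) [Field F] [Fintype F] (m : ℕ) (hm : 1 ≤ m) (hF : Fintype.card F = 2 ^ (2 * m + 1))
    (e : G ≃* ↥(Cfsg.Lie.Sz F (2 ^ (m + 1)))) {Ω : Type*} [Fintype Ω] [MulAction G Ω] [FaithfulSMul G Ω] (htr : MulAction.IsPretransitive G Ω)
    (hfix : ∀ g : G, g ≠ 1 → Nat.card (MulAction.fixedBy Ω g) ≤ 2) (hex : ∃ g : G, g ≠ 1 ∧ Nat.card (MulAction.fixedBy Ω g) = 2) :
    (Fintype.card Ω = Fintype.card F ^ 2 + 1 ∧ MulAction.IsMultiplyPretransitive G Ω 2) ∨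
    (Fintype.card Ω = Fintype.card F ^ 2 * (Fintype.card F ^ 2 + 1) ∧ ∀ α : Ω, Nat.card (MulAction.stabilizer G α) = Fintype.card F - 1) := by
  have hS : Cfsg.Agent.Suz.SzField F m := ⟨hm, hF⟩
  let φ : ↥(Cfsg.Sz F m) ≃* G := (Cfsg.Agent.Suz.szEquiv hS).trans e.symm
  letI : MulAction ↥(Cfsg.Sz F m) Ω := MulAction.compHom Ω φ.toMonoidHom
  have hsmul : ∀ (k : ↥(Cfsg.Sz F m)) (β : Ω), k • β = φ k • β := fun _ _ => rfl
  have htr' : MulAction.IsPretransitive ↥(Cfsg.Sz F m) Ω := by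
    refine ⟨fun a b => ?_⟩
    obtain ⟨g, rfl⟩ := MulAction.exists_smul_eq G a b
    exact ⟨φ.symm g, by rw [hsmul, MulEquiv.apply_symm_apply]⟩
  have hfx : ∀ k : ↥(Cfsg.Sz F m), MulAction.fixedBy Ω k = MulAction.fixedBy Ω (φ k) := fun k => rfl
  have hfix' : ∀ k : ↥(Cfsg.Sz F m), k ≠ 1 → Nat.card (MulAction.fixedBy Ω k) ≤ 2 := fun k hk => by
    rw [hfx]; exact hfix _ fun h => hk (φ.map_eq_one_iff.1 h)
  have hex' : ∃ k : ↥(Cfsg.Sz F m), k ≠ 1 ∧ Nat.card (MulAction.fixedBy Ω k) = 2 := by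
    obtain ⟨g, hg1, hg⟩ := hex
    refine ⟨φ.symm g, fun h => hg1 (φ.symm.map_eq_one_iff.1 h), ?_⟩
    rw [hfx, MulEquiv.apply_symm_apply]; exact hg
  rcases Cfsg.Agent.Suz.fixity_two hS htr' hfix' hex' with ⟨hc, h2⟩ | ⟨hc, hst⟩
  · refine Or.inl ⟨by rw [← Nat.card_eq_fintype_card, hc, hF], ?_⟩
    rw [MulAction.is_two_pretransitive_iff]
    intro a b c d hab hcd
    obtain ⟨k, h1, h2'⟩ := MulAction.is_two_pretransitive_iff.1 h2 hab hcd
    exact ⟨φ k, h1, h2'⟩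
  · refine Or.inr ⟨by rw [← Nat.card_eq_fintype_card, hc, hF], fun α => ?_⟩
    rw [hF, ← hst α]
    exact Nat.card_congr (φ.symm.toEquiv.subtypeEquiv fun g => by
      show g • α = α ↔ φ (φ.symm g) • α = α
      rw [MulEquiv.apply_symm_apply])

end Cfsg.Agent.S3391
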