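import Cfsg.Statements.S3396
import Cfsg.Agent.Lib.Transfer.CIT.TwoOrPrime
import Cfsg.Agent.Lib.Grp.SolvableThreePrimes
import Cfsg.Agent.S0495
-- import your own Cfsg.Agent.* helpers here

set_option autoImplicit false
open Cfsg

namespace Cfsg.Agent.S3396

/-- Let G be a finite group whose order has at least three distinct prime divisors, and suppose every nonidentity element of G has order a power of 2 or a prime other than 5. Then G is isomorphic to PSL₂(7) (here F is any field with 7 elements). In particular a finite group whose set of element orders is {1, 2, 3, 4, 7} is PSL₂(7). -/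
theorem result {G : Type*} [Group G] [Finite G]
    {F : Type*} [Field F] [Fintype F] (hF : Fintype.card F = 7)
    (h3 : 3 ≤ (Nat.card G).primeFactors.card)
    (hord : ∀ g : G, g ≠ 1 → (∃ k : ℕ, orderOf g = 2 ^ k) ∨ ((orderOf g).Prime ∧ orderOf g ≠ 5)) :
    Nonempty (G ≃* Matrix.ProjectiveSpecialLinearGroup (Fin 2) F) := by
  have h : Cfsg.Agent.Transfer.CIT.TwoOrPrime G := hord
  have hns : ¬ Group.IsSolvable G := fun hs => by
    haveI := hs
    obtain ⟨a, ha, b, hb, c, hc', hab, hac, hbc⟩ := Finset.two_lt_card.mp h3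
    obtain ⟨pa, pb, pc⟩ := And.intro (Nat.prime_of_mem_primeFactors ha)
      (And.intro (Nat.prime_of_mem_primeFactors hb) (Nat.prime_of_mem_primeFactors hc'))
    rcases Cfsg.Agent.Grp.ThreePrimes.exists_edge pa pb pc hab hac hbc (Nat.dvd_of_mem_primeFactors ha)
      (Nat.dvd_of_mem_primeFactors hb) (Nat.dvd_of_mem_primeFactors hc') with ⟨g, hg⟩ | ⟨g, hg⟩ | ⟨g, hg⟩
    · exact h.eppo.no_mixed pa pb hab (hg ▸ dvd_mul_right a b) (hg ▸ dvd_mul_left b a)
    · exact h.eppo.no_mixed pa pc hac (hg ▸ dvd_mul_right a c) (hg ▸ dvd_mul_left c a)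
    · exact h.eppo.no_mixed pb pc hbc (hg ▸ dvd_mul_right b c) (hg ▸ dvd_mul_left c b)
  obtain ⟨hs, hc⟩ := Cfsg.Agent.Transfer.CIT.TwoOrPrime.simple_168 _ rfl h hns
  haveI := hs
  exact Cfsg.Agent.S0495.result hc hF

end Cfsg.Agent.S3396
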