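import Cfsg.Statements.S3401
import Mathlib
-- import your own Cfsg.Agent.* helpers here

set_option autoImplicit false
open Cfsg

namespace Cfsg.Agent.S3401

open MulAction
open scoped Pointwise

theorem transitive_of_normal {X : Type*} [Group X] {Ω : Type*} [MulAction X Ω] [FaithfulSMul X Ω]
    (hp : IsPreprimitive X Ω) (N : Subgroup X) [N.Normal] (hN : N ≠ ⊥) : IsPretransitive N Ω := by
  haveI := hp
  refine IsQuasiPreprimitive.isPretransitive_of_normal (G := X) (fun h => hN ?_)
  rw [Subgroup.eq_bot_iff_forall]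
  intro n hn
  refine eq_of_smul_eq_smul (α := Ω) fun x => ?_
  have : x ∈ fixedPoints N Ω := by rw [h]; trivial
  rw [one_smul]
  exact this ⟨n, hn⟩

variable {X : Type*} [Group X] [Finite X] {Ω : Type*} [Fintype Ω] [MulAction X Ω] [FaithfulSMul X Ω]

theorem no_regular (h2 : IsMultiplyPretransitive X Ω 2) (hn : Fintype.card Ω % 4 = 2)
    (hn2 : 2 < Fintype.card Ω) (R : Subgroup X) [hR : R.Normal] [ht : IsPretransitive R Ω]
    (hfree : ∀ r ∈ R, ∀ a : Ω, r • a = a → r = 1) : False := by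
  classical
  obtain ⟨a⟩ : Nonempty Ω := Fintype.card_pos_iff.1 (by omega)
  have hcard : Nat.card R = Fintype.card Ω := by
    rw [← Nat.card_eq_fintype_card]
    refine Nat.card_congr (Equiv.ofBijective (fun r : R => (r : X) • a) ⟨fun r s e => ?_, fun x => ?_⟩)
    · have h := hfree _ (mul_mem (inv_mem r.2) s.2) a (by
        rw [mul_smul]; exact inv_smul_eq_iff.2 e.symm)
      exact Subtype.ext (inv_mul_eq_one.1 h)
    · obtain ⟨r, hr⟩ := ht.exists_smul_eq a x
      exact ⟨r, hr⟩
  have horder : ∀ r ∈ R, ∀ s ∈ R, r ≠ 1 → s ≠ 1 → orderOf r = orderOf s := by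
    intro r hr s hs hr1 hs1
    have hra : r • a ≠ a := fun e => hr1 (hfree r hr a e)
    have hsa : s • a ≠ a := fun e => hs1 (hfree s hs a e)
    obtain ⟨g, hga, hgr⟩ := is_two_pretransitive_iff.1 h2 (Ne.symm hra) (Ne.symm hsa)
    have h1 : s⁻¹ * (g * r * g⁻¹) = 1 := by
      refine hfree _ (mul_mem (inv_mem hs) (hR.conj_mem r hr g)) a ?_
      rw [mul_smul, mul_smul, mul_smul, inv_smul_eq_iff.2 hga.symm, hgr, inv_smul_smul]
    rw [inv_mul_eq_one] at h1
    rw [h1]
    exact (orderOf_injective (MulAut.conj g).toMonoidHom (MulAut.conj g).injective r).symm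
  haveI : Fact (Nat.Prime 2) := ⟨Nat.prime_two⟩
  obtain ⟨t, ht2⟩ := exists_prime_orderOf_dvd_card' (G := R) 2 (by rw [hcard]; omega)
  have hp : IsPGroup 2 R := fun r => by
    refine ⟨1, ?_⟩
    by_cases hr1 : r = 1
    · simp [hr1]
    · have h := horder r r.2 t t.2 (by simpa using hr1) (fun e => by
        rw [Subtype.ext (a2 := (1 : R)) e, orderOf_one] at ht2; norm_num at ht2)
      rw [Subgroup.orderOf_coe, Subgroup.orderOf_coe, ht2] at h
      rw [pow_one, ← h]
      exact pow_orderOf_eq_one r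
  obtain ⟨k, hk⟩ := IsPGroup.iff_card.1 hp
  rw [hcard] at hk
  rcases k with _ | _ | k
  · omega
  · omega
  · rw [pow_succ, pow_succ] at hk; omega

theorem centralizer_eq_bot (h2 : IsMultiplyPretransitive X Ω 2) (hn : Fintype.card Ω % 4 = 2)
    (hn2 : 2 < Fintype.card Ω) (N : Subgroup X) [hN : N.Normal] (hne : N ≠ ⊥) :
    Subgroup.centralizer (N : Set X) = ⊥ := by
  by_contra hC
  have hp := isPreprimitive_of_is_two_pretransitive h2
  haveI := transitive_of_normal hp N hne
  haveI hCt := transitive_of_normal hp (Subgroup.centralizer (N : Set X)) hC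
  refine no_regular h2 hn hn2 N fun r hr a e => eq_of_smul_eq_smul (α := Ω) fun x => ?_
  obtain ⟨⟨c, hc⟩, rfl⟩ := hCt.exists_smul_eq a x
  show r • c • a = (1 : X) • c • a
  rw [one_smul, ← mul_smul, Subgroup.mem_centralizer_iff.1 hc r hr, mul_smul, e]

omit [Fintype Ω] [FaithfulSMul X Ω] in
/-- conjugacy of subgroups of maximal 2-power order -/
theorem exists_conj_two {H K P Q : Subgroup X} (hK : K ≤ H) (hP : P ≤ K) (hQ : Q ≤ K)
    (cP : Nat.card P = 2 ^ (Nat.card H).factorization 2) (cQ : Nat.card Q = 2 ^ (Nat.card H).factorization 2) :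
    ∃ m ∈ K, ∀ x, x ∈ Q ↔ m⁻¹ * x * m ∈ P := by
  haveI : Fact (Nat.Prime 2) := ⟨Nat.prime_two⟩
  have hfac : (Nat.card K).factorization 2 = (Nat.card H).factorization 2 := by
    refine le_antisymm ((Nat.factorization_le_iff_dvd Nat.card_pos.ne' Nat.card_pos.ne').2
      (Subgroup.card_dvd_of_le hK) 2) ?_
    exact (Nat.Prime.pow_dvd_iff_le_factorization Nat.prime_two Nat.card_pos.ne').1
      (cP ▸ Subgroup.card_dvd_of_le hP)
  let P' : Sylow 2 K := Sylow.ofCard (P.subgroupOf K)
    (by rw [Nat.card_congr (Subgroup.subgroupOfEquivOfLe hP).toEquiv, cP, hfac])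
  let Q' : Sylow 2 K := Sylow.ofCard (Q.subgroupOf K)
    (by rw [Nat.card_congr (Subgroup.subgroupOfEquivOfLe hQ).toEquiv, cQ, hfac])
  obtain ⟨m, hm⟩ := exists_smul_eq K P' Q'
  refine ⟨m, m.2, fun x => ?_⟩
  constructor
  · intro hx
    have h : (⟨x, hQ hx⟩ : K) ∈ ((m • P' : Sylow 2 K) : Subgroup K) := by
      rw [hm]; exact Subgroup.mem_subgroupOf.2 hx
    rw [Sylow.smul_def, Sylow.pointwise_smul_def, Subgroup.mem_pointwise_smul_iff_inv_smul_mem] at h
    simpa [P', Subgroup.mem_subgroupOf] using h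
  · intro hx
    have h : (m⁻¹ : X) * x * m ∈ K := hP hx
    have hxK : x ∈ K := by
      have := mul_mem (mul_mem m.2 h) (inv_mem m.2)
      simpa [mul_assoc] using this
    have h' : (⟨x, hxK⟩ : K) ∈ ((m • P' : Sylow 2 K) : Subgroup K) := by
      rw [Sylow.smul_def, Sylow.pointwise_smul_def, Subgroup.mem_pointwise_smul_iff_inv_smul_mem]
      simpa [P', Subgroup.mem_subgroupOf] using hx
    rw [hm] at h'
    exact Subgroup.mem_subgroupOf.1 h'

theorem normal_two_transitive (h2 : IsMultiplyPretransitive X Ω 2) (hn : Fintype.card Ω % 4 = 2)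
    (hn2 : 2 < Fintype.card Ω) (M : Subgroup X) [hM : M.Normal] (hne : M ≠ ⊥) :
    IsMultiplyPretransitive M Ω 2 := by
  classical
  haveI : Fact (Nat.Prime 2) := ⟨Nat.prime_two⟩
  have hXt : IsPretransitive X Ω := isPretransitive_of_is_two_pretransitive
  have hprim := isPreprimitive_of_is_two_pretransitive h2
  haveI hMt := transitive_of_normal hprim M hne
  obtain ⟨a⟩ : Nonempty Ω := Fintype.card_pos_iff.1 (by omega)
  set H : Subgroup X := M ⊓ stabilizer X a with hH
  have horb : ∀ c, c ≠ a → ¬ 2 ∣ Nat.card (orbit H c) := by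
    intro c hc h2d
    have heq : ∀ c', c' ≠ a → Nat.card (orbit H c') = Nat.card (orbit H c) := by
      intro c' hc'
      obtain ⟨g, hga, hgc⟩ := is_two_pretransitive_iff.1 h2 (Ne.symm hc) (Ne.symm hc')
      have hconj : ∀ g : X, g • a = a → ∀ h ∈ H, g * h * g⁻¹ ∈ H := fun g hg h hh => by
        refine ⟨hM.conj_mem h hh.1 g, ?_⟩
        have hha : h • a = a := hh.2
        show (g * h * g⁻¹) • a = a
        rw [mul_smul, mul_smul, inv_smul_eq_iff.2 hg.symm, hha, hg]
      have himg : orbit H c' = (fun x => g • x) '' orbit H c := by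
        ext x
        constructor
        · rintro ⟨⟨h, hh⟩, rfl⟩
          refine ⟨(g⁻¹ * h * g) • c, ⟨⟨_, by simpa using hconj g⁻¹ (inv_smul_eq_iff.2 hga.symm) h hh⟩, rfl⟩, ?_⟩
          show g • (g⁻¹ * h * g) • c = h • c'
          rw [mul_smul, mul_smul, smul_inv_smul, hgc]
        · rintro ⟨y, ⟨⟨h, hh⟩, rfl⟩, rfl⟩
          refine ⟨⟨_, hconj g hga h hh⟩, ?_⟩
          show (g * h * g⁻¹) • c' = g • h • c
          rw [mul_smul, mul_smul, inv_smul_eq_iff.2 hgc.symm]
      rw [himg, Nat.card_image_of_injective (MulAction.injective g)]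
    have hsum := Finset.card_eq_sum_card_image (fun c' : Ω => orbit H c') (Finset.univ.erase a)
    rw [Finset.card_erase_of_mem (Finset.mem_univ a), Finset.card_univ] at hsum
    have hodd : 2 ∣ Fintype.card Ω - 1 := by
      rw [hsum]
      refine Finset.dvd_sum fun O hO => ?_
      obtain ⟨c', hc', rfl⟩ := Finset.mem_image.1 hO
      have hca : c' ≠ a := (Finset.mem_erase.1 hc').1
      have : (Finset.univ.erase a).filter (fun y => orbit H y = orbit H c') =
          Finset.univ.filter (fun y => y ∈ orbit H c') := by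
        ext y
        simp only [Finset.mem_filter, Finset.mem_erase, Finset.mem_univ, and_true, true_and]
        constructor
        · rintro ⟨-, e⟩; exact e ▸ mem_orbit_self y
        · intro hy
          refine ⟨?_, orbit_eq_iff.2 hy⟩
          obtain ⟨⟨h, hh⟩, rfl⟩ := hy
          intro e
          have hha : h • a = a := hh.2
          exact hca (smul_left_cancel h (e.trans hha.symm))
      rw [this, ← Fintype.card_subtype, ← Nat.card_eq_fintype_card]
      show 2 ∣ Nat.card (orbit H c')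
      rwa [heq c' hca]
    omega
  obtain ⟨S₀⟩ : Nonempty (Sylow 2 H) := inferInstance
  set S : Subgroup X := (S₀ : Subgroup H).map H.subtype with hS
  have hSH : S ≤ H := Subgroup.map_subtype_le _
  have cS : Nat.card S = 2 ^ (Nat.card H).factorization 2 := by
    rw [hS, Subgroup.card_subtype, S₀.card_eq_multiplicity]
  set F : Set Ω := {x | ∀ s ∈ S, s • x = x} with hF
  have haF : a ∈ F := fun s hs => (hSH hs).2
  have hmeet : ∀ c, c ≠ a → ∃ m ∈ H, m • c ∈ F := by
    intro c hc
    have hsub : ∀ x ∈ orbit H c, ∀ s : S₀, (s : H) • x ∈ orbit H c := fun x hx s =>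
      (orbit_eq_iff.2 hx) ▸ mem_orbit x (s : H)
    let _ : MulAction S₀ (orbit H c) :=
      MulAction.compHom (orbit H c) (Subgroup.subtype (S₀ : Subgroup H))
    obtain ⟨⟨x, ⟨⟨m, hm⟩, rfl⟩⟩, hx⟩ := S₀.isPGroup'.nonempty_fixed_point_of_prime_not_dvd_card
      (orbit H c) (horb c hc)
    refine ⟨m, hm, fun s hs => ?_⟩
    obtain ⟨s', hs', rfl⟩ := Subgroup.mem_map.1 hs
    exact congrArg Subtype.val (hx ⟨s', hs'⟩)
  set N : Subgroup X := Subgroup.normalizer (S : Set X) with hNdef
  have hNF : ∀ g ∈ N, ∀ x ∈ F, g • x ∈ F := by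
    intro g hg x hx s hs
    have h1 : g⁻¹ * s * g ∈ S := by
      have := (Subgroup.mem_normalizer_iff.1 (inv_mem hg) s).1 hs
      simpa using this
    have := hx _ h1
    rwa [mul_smul, mul_smul, inv_smul_eq_iff] at this
  -- transitivity of the normalizer in the stabiliser
  have hN1 : ∀ b ∈ F, ∀ c ∈ F, b ≠ a → c ≠ a → ∃ g ∈ N, g • a = a ∧ g • b = c := by
    intro b hb c hc hba hca
    obtain ⟨g, hga, hgb⟩ := is_two_pretransitive_iff.1 h2 (Ne.symm hba) (Ne.symm hca)
    set K : Subgroup X := H ⊓ stabilizer X c with hK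
    have hQ : S.map (MulAut.conj g).toMonoidHom ≤ K := by
      rintro _ ⟨s, hs, rfl⟩
      show g * s * g⁻¹ ∈ K
      have hsa : s • a = a := (hSH hs).2
      refine ⟨⟨hM.conj_mem s (hSH hs).1 g, ?_⟩, ?_⟩
      · show (g * s * g⁻¹) • a = a
        rw [mul_smul, mul_smul, inv_smul_eq_iff.2 hga.symm, hsa, hga]
      · show (g * s * g⁻¹) • c = c
        rw [mul_smul, mul_smul, inv_smul_eq_iff.2 hgb.symm, hb s hs, hgb]
    obtain ⟨m, hm, hiff⟩ := exists_conj_two (X := X) (K := K) (P := S.map (MulAut.conj g).toMonoidHom)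
      (Q := S) inf_le_left hQ (le_inf hSH fun s hs => hc s hs)
      (by rw [Subgroup.card_map_of_injective (MulAut.conj g).injective, cS]) cS
    refine ⟨m * g, ?_, ?_, ?_⟩
    · rw [hNdef, Subgroup.mem_normalizer_iff]
      intro x
      rw [hiff ((m * g) * x * (m * g)⁻¹), Subgroup.mem_map_equiv]
      simp [mul_assoc]
    · have hma : m • a = a := hm.1.2
      rw [mul_smul, hga, hma]
    · have hmc : m • c = c := hm.2
      rw [mul_smul, hgb, hmc]
  have hN2 : ∀ c ∈ F, ∃ g ∈ M ⊓ N, g • a = c := by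
    intro c hc
    obtain ⟨⟨g, hg⟩, hgc⟩ := hMt.exists_smul_eq a c
    have hgc' : g • a = c := hgc
    set K : Subgroup X := M ⊓ stabilizer X c with hK
    have hQ : S.map (MulAut.conj g).toMonoidHom ≤ K := by
      rintro _ ⟨s, hs, rfl⟩
      show g * s * g⁻¹ ∈ K
      have hsa : s • a = a := (hSH hs).2
      refine ⟨hM.conj_mem s (hSH hs).1 g, ?_⟩
      show (g * s * g⁻¹) • c = c
      rw [mul_smul, mul_smul, inv_smul_eq_iff.2 hgc'.symm, hsa, hgc']
    have hKcard : Nat.card K = Nat.card H := by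
      have e : K = H.map (MulAut.conj g).toMonoidHom := by
        ext x
        rw [Subgroup.mem_map_equiv]
        have e1 : (MulAut.conj g).symm x = g⁻¹ * x * g := by simp
        rw [e1, hK, hH, Subgroup.mem_inf, Subgroup.mem_inf, mem_stabilizer_iff, mem_stabilizer_iff]
        refine and_congr ⟨fun hx => ?_, fun hx => ?_⟩ ?_
        · simpa using hM.conj_mem x hx g⁻¹
        · simpa [mul_assoc] using hM.conj_mem _ hx g
        · rw [mul_smul, mul_smul, hgc', inv_smul_eq_iff, hgc']
      rw [e, Subgroup.card_map_of_injective (MulAut.conj g).injective]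
    obtain ⟨m, hm, hiff⟩ := exists_conj_two (X := X) (H := K) (K := K) (P := S.map (MulAut.conj g).toMonoidHom)
      (Q := S) le_rfl hQ (le_inf (fun s hs => (hSH hs).1) fun s hs => hc s hs)
      (by rw [Subgroup.card_map_of_injective (MulAut.conj g).injective, cS, hKcard]) (by rw [cS, hKcard])
    refine ⟨m * g, ⟨mul_mem hm.1 hg, ?_⟩, ?_⟩
    · show m * g ∈ N
      rw [hNdef, Subgroup.mem_normalizer_iff]
      intro x
      rw [hiff ((m * g) * x * (m * g)⁻¹), Subgroup.mem_map_equiv]
      simp [mul_assoc]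
    · have hmc : m • c = c := hm.2
      rw [mul_smul, hgc', hmc]
  -- the action of the normalizer on the fixed points
  let _ : MulAction N F :=
    { smul := fun g x => ⟨(g : X) • (x : Ω), hNF g g.2 x x.2⟩
      one_smul := fun x => Subtype.ext (one_smul X (x : Ω))
      mul_smul := fun g h x => Subtype.ext (mul_smul (g : X) (h : X) (x : Ω)) }
  let φ : N →* Equiv.Perm F := MulAction.toPermHom N F
  let K₁ : Subgroup (Equiv.Perm F) := φ.range
  let K₀ : Subgroup K₁ := (M.subgroupOf N).map φ.rangeRestrict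
  haveI hK₀n : K₀.Normal := Subgroup.Normal.map inferInstance _ φ.rangeRestrict_surjective
  have hK₀t : ∀ x : F, ∃ k ∈ K₀, (k : Equiv.Perm F) ⟨a, haF⟩ = x := by
    intro x
    obtain ⟨g, hg, hgx⟩ := hN2 x x.2
    exact ⟨φ.rangeRestrict ⟨g, hg.2⟩, Subgroup.mem_map.2 ⟨⟨g, hg.2⟩, Subgroup.mem_subgroupOf.2 hg.1, rfl⟩,
      Subtype.ext hgx⟩
  have h2F : 2 ∣ Nat.card F := by
    let _ : MulAction S₀ Ω := MulAction.compHom Ω ((H.subtype).comp (S₀ : Subgroup H).subtype)
    have h := S₀.isPGroup'.card_modEq_card_fixedPoints Ω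
    have e : fixedPoints S₀ Ω = F := by
      ext x
      constructor
      · intro hx s hs
        obtain ⟨s', hs', rfl⟩ := Subgroup.mem_map.1 hs
        exact hx ⟨s', hs'⟩
      · intro hx s
        exact hx _ (Subgroup.mem_map.2 ⟨s, s.2, rfl⟩)
    rw [e, Nat.card_eq_fintype_card (α := Ω)] at h
    have : Fintype.card Ω % 2 = Nat.card F % 2 := h
    omega
  have hFpos : 0 < Nat.card F := Nat.card_pos_iff.2 ⟨⟨⟨a, haF⟩⟩, inferInstance⟩
  -- 4 does not divide the order of the image
  have h4 : ¬ 4 ∣ Nat.card K₀ := by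
    intro h4
    let f : N.subgroupOf M →* K₁ := φ.rangeRestrict.comp
      (⟨⟨fun x => ⟨(x.1 : X), x.2⟩, rfl⟩, fun _ _ => rfl⟩ : N.subgroupOf M →* N)
    have hfr : f.range = K₀ := by
      ext k
      constructor
      · rintro ⟨⟨⟨x, hxM⟩, hxN⟩, rfl⟩
        exact Subgroup.mem_map.2 ⟨⟨x, hxN⟩, Subgroup.mem_subgroupOf.2 hxM, rfl⟩
      · rintro ⟨⟨x, hxN⟩, hxM, rfl⟩
        exact ⟨⟨⟨x, hxM⟩, hxN⟩, rfl⟩
    have hSker : (S.subgroupOf M).subgroupOf (N.subgroupOf M) ≤ f.ker := by
      intro x hx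
      exact MonoidHom.mem_ker.2 (Subtype.ext (Equiv.ext fun y => Subtype.ext (y.2 _ hx)))
    have hdvd : Nat.card S * Nat.card K₀ ∣ Nat.card M := by
      refine dvd_trans ?_ (Subgroup.card_subgroup_dvd_card (N.subgroupOf M))
      rw [← hfr, ← Subgroup.card_mul_index f.ker, ← Subgroup.index_ker f]
      refine mul_dvd_mul_right ?_ _
      have hSN : S.subgroupOf M ≤ N.subgroupOf M := fun x hx =>
        Subgroup.mem_subgroupOf.2 (Subgroup.le_normalizer (Subgroup.mem_subgroupOf.1 hx))
      rw [← Nat.card_congr (Subgroup.subgroupOfEquivOfLe (show S ≤ M from hSH.trans inf_le_left)).toEquiv,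
        ← Nat.card_congr (Subgroup.subgroupOfEquivOfLe hSN).toEquiv]
      exact Subgroup.card_dvd_of_le hSker
    have hMcard : Nat.card M = Nat.card H * Fintype.card Ω := by
      have h := Subgroup.card_mul_index (stabilizer M a)
      rw [MulAction.index_stabilizer, orbit_eq_univ, Set.ncard_univ, Nat.card_eq_fintype_card (α := Ω)] at h
      rw [← h]
      congr 1
      exact Nat.card_congr
        { toFun := fun x => ⟨(x.1 : X), x.1.2, x.2⟩
          invFun := fun x => ⟨⟨(x : X), x.2.1⟩, x.2.2⟩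
          left_inv := fun _ => rfl
          right_inv := fun _ => rfl }
    rw [hMcard, cS] at hdvd
    have h1 := (mul_dvd_mul_left _ h4).trans hdvd
    rw [show (4 : ℕ) = 2 ^ 2 from rfl, ← pow_add] at h1
    have h3 := (Nat.Prime.pow_dvd_iff_le_factorization Nat.prime_two (mul_ne_zero Nat.card_pos.ne' (by omega))).1 h1
    rw [Nat.factorization_mul Nat.card_pos.ne' (by omega), Finsupp.add_apply] at h3
    have h5 : (Fintype.card Ω).factorization 2 ≤ 1 := by
      by_contra hc
      have := (Nat.Prime.pow_dvd_iff_le_factorization Nat.prime_two (k := 2) (n := Fintype.card Ω) (by omega)).2 (by omega)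
      omega
    omega
  -- the image is two-transitive on the fixed points
  have hK1 : IsMultiplyPretransitive K₁ F 2 := by
    have hto : ∀ x y : F, x ≠ y → ∀ b : F, b ≠ ⟨a, haF⟩ → ∃ k : K₁, k • (⟨a, haF⟩ : F) = x ∧ k • b = y := by
      intro x y hxy b hb
      obtain ⟨g, hg, hgx⟩ := hN2 x x.2
      have hy' : g⁻¹ • (y : Ω) ∈ F := hNF _ (inv_mem hg.2) y y.2
      have hy'a : g⁻¹ • (y : Ω) ≠ a := fun e => hxy (Subtype.ext (by
        rw [← hgx]; exact (inv_smul_eq_iff.1 e).symm))
      obtain ⟨h, hh, hha, hhb⟩ := hN1 b b.2 _ hy' (fun e => hb (Subtype.ext e)) hy'a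
      refine ⟨φ.rangeRestrict ⟨g * h, mul_mem hg.2 hh⟩, Subtype.ext ?_, Subtype.ext ?_⟩
      · show (g * h) • a = x
        rw [mul_smul, hha, hgx]
      · show (g * h) • (b : Ω) = y
        rw [mul_smul, hhb, smul_inv_smul]
    rw [is_two_pretransitive_iff]
    intro p q r s hpq hrs
    by_cases hF1 : ∀ b : F, b = ⟨a, haF⟩
    · exact absurd ((hF1 p).trans (hF1 q).symm) hpq
    push Not at hF1
    obtain ⟨b, hb⟩ := hF1
    obtain ⟨k, hk1, hk2⟩ := hto p q hpq b hb
    obtain ⟨l, hl1, hl2⟩ := hto r s hrs b hb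
    exact ⟨l * k⁻¹, by rw [← hk1, mul_smul, inv_smul_smul, hl1], by rw [← hk2, mul_smul, inv_smul_smul, hl2]⟩
  haveI hK₀pt : IsPretransitive K₀ F := by
    refine ⟨fun x y => ?_⟩
    obtain ⟨k, hk, e⟩ := hK₀t x
    obtain ⟨l, hl, e'⟩ := hK₀t y
    refine ⟨⟨l * k⁻¹, mul_mem hl (inv_mem hk)⟩, ?_⟩
    show (l * k⁻¹) • x = y
    rw [mul_smul, inv_smul_eq_iff.2 (show x = k • (⟨a, haF⟩ : F) from e.symm)]
    exact e'
  have hdvd : Nat.card F ∣ Nat.card K₀ := by
    have h := MulAction.index_stabilizer K₀ (⟨a, haF⟩ : F)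
    rw [orbit_eq_univ, Set.ncard_univ] at h
    exact h ▸ Subgroup.index_dvd_card _
  have hF2 : Nat.card F = 2 := by
    obtain ⟨T⟩ : Nonempty (Sylow 2 K₀) := inferInstance
    have h2K : 2 ∣ Nat.card K₀ := h2F.trans hdvd
    have hT : Nat.card T = 2 := by
      rw [T.card_eq_multiplicity]
      have h1 := (Nat.Prime.dvd_iff_one_le_factorization Nat.prime_two Nat.card_pos.ne').1 h2K
      have h3 : (Nat.card K₀).factorization 2 ≤ 1 := by
        by_contra hc
        exact h4 ((Nat.Prime.pow_dvd_iff_le_factorization Nat.prime_two (k := 2) Nat.card_pos.ne').2 (by omega))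
      rw [show (Nat.card K₀).factorization 2 = 1 by omega, pow_one]
    haveI : IsCyclic T := isCyclic_of_prime_card hT
    have hmin : (Nat.card K₀).minFac = 2 := (Nat.minFac_eq_two_iff _).2 h2K
    have hcomp := IsCyclic.isComplement' hmin (P := T) inferInstance
    set O := (MonoidHom.transferSylow T (IsCyclic.normalizer_le_centralizer hmin (P := T) inferInstance)).ker with hO
    have hOc : Nat.card O * 2 = Nat.card K₀ := by rw [← hT, hcomp.card_mul]
    have hOodd : ¬ 2 ∣ Nat.card O := fun h => h4 (by rw [← hOc]; exact mul_dvd_mul_right h 2)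
    -- O is normal in K₁
    have hmem : ∀ x : K₀, x ∈ O ↔ ¬ 2 ∣ orderOf x := by
      intro x
      constructor
      · intro hx h
        have h1 := orderOf_dvd_natCard (⟨x, hx⟩ : O)
        rw [Subgroup.orderOf_mk] at h1
        exact hOodd (h.trans h1)
      · intro hx
        have h1 : orderOf (QuotientGroup.mk' O x) ∣ orderOf x := orderOf_map_dvd _ x
        have h2' : orderOf (QuotientGroup.mk' O x) ∣ O.index := Subgroup.index_eq_card O ▸ orderOf_dvd_natCard _
        have hidx : O.index = 2 := by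
          have := Subgroup.card_mul_index O
          rw [← hOc] at this
          exact Nat.eq_of_mul_eq_mul_left Nat.card_pos this
        rw [hidx, Nat.dvd_prime Nat.prime_two] at h2'
        rcases h2' with e | e
        · exact (QuotientGroup.eq_one_iff x).1 (orderOf_eq_one_iff.1 e)
        · exact absurd (e ▸ h1) hx
    haveI : (O.map K₀.subtype).Normal := by
      refine ⟨fun x hx g => ?_⟩
      obtain ⟨x, hxO, rfl⟩ := Subgroup.mem_map.1 hx
      refine Subgroup.mem_map.2 ⟨⟨g * x * g⁻¹, hK₀n.conj_mem _ x.2 g⟩, (hmem _).2 ?_, rfl⟩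
      rw [← Subgroup.orderOf_coe]
      show ¬ 2 ∣ orderOf (MulAut.conj g (x : K₁))
      rw [MulEquiv.orderOf_eq, Subgroup.orderOf_coe]
      exact (hmem x).1 hxO
    have hO1 : O.map K₀.subtype = ⊥ := by
      by_contra hne'
      haveI := transitive_of_normal (isPreprimitive_of_is_two_pretransitive hK1) (O.map K₀.subtype) hne'
      have h := MulAction.index_stabilizer (O.map K₀.subtype : Subgroup K₁) (⟨a, haF⟩ : F)
      rw [orbit_eq_univ, Set.ncard_univ] at h
      have := h ▸ Subgroup.index_dvd_card (stabilizer (O.map K₀.subtype : Subgroup K₁) (⟨a, haF⟩ : F))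
      rw [Subgroup.card_subtype] at this
      exact hOodd (h2F.trans this)
    rw [Subgroup.map_eq_bot_iff_of_injective _ Subtype.val_injective] at hO1
    rw [hO1, Subgroup.card_bot, one_mul] at hOc
    rw [← hOc] at hdvd
    have := Nat.le_of_dvd two_pos hdvd
    omega
  obtain ⟨b, hb⟩ : ∃ b : Ω, ∀ x ∈ F, x = a ∨ x = b := by
    rw [Nat.card_eq_two_iff' (⟨a, haF⟩ : F)] at hF2
    obtain ⟨b, -, hb⟩ := hF2
    refine ⟨b, fun x hx => ?_⟩
    by_cases e : x = a
    · exact Or.inl e
    · exact Or.inr (congrArg Subtype.val (hb ⟨x, hx⟩ fun e' => e (congrArg Subtype.val e')))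
  have key : ∀ c, c ≠ a → ∃ m ∈ H, m • c = b := by
    intro c hc
    obtain ⟨m, hm, hmc⟩ := hmeet c hc
    refine ⟨m, hm, (hb _ hmc).resolve_left fun e => hc ?_⟩
    have hma : m • a = a := hm.2
    exact smul_left_cancel m (e.trans hma.symm)
  have hto : ∀ p q : Ω, p ≠ q → ∃ g : M, g • a = p ∧ g • b = q := by
    intro p q hpq
    obtain ⟨g, hg⟩ := hMt.exists_smul_eq a p
    have hne' : (g⁻¹ • q : Ω) ≠ a := fun e => hpq (by rw [← hg]; exact (inv_smul_eq_iff.1 e).symm)
    obtain ⟨m, hm, hmq⟩ := key _ hne'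
    refine ⟨g * ⟨m⁻¹, inv_mem hm.1⟩, ?_, ?_⟩
    · show ((g : X) * m⁻¹) • a = p
      have hma : m • a = a := hm.2
      rw [mul_smul, inv_smul_eq_iff.2 hma.symm]
      exact hg
    · show ((g : X) * m⁻¹) • b = q
      rw [mul_smul, ← hmq, inv_smul_smul]
      exact smul_inv_smul g q
  rw [is_two_pretransitive_iff]
  intro p q r s hpq hrs
  obtain ⟨k, hk1, hk2⟩ := hto p q hpq
  obtain ⟨l, hl1, hl2⟩ := hto r s hrs
  exact ⟨l * k⁻¹, by rw [← hk1, mul_smul, inv_smul_smul, hl1], by rw [← hk2, mul_smul, inv_smul_smul, hl2]⟩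

/-- Let G be a doubly transitive permutation group on a finite set Ω with |Ω| ≡ 2 mod 4 and |Ω| > 2. Then G has a unique minimal normal subgroup M (a nontrivial normal subgroup contained in every nontrivial normal subgroup); M is simple and doubly transitive on Ω, and its centralizer in G is trivial (so G embeds in Aut(M)). -/
theorem result {G : Type*} [Group G] [Finite G] {Ω : Type*} [Fintype Ω] [MulAction G Ω] [FaithfulSMul G Ω]
    (h2 : MulAction.IsMultiplyPretransitive G Ω 2) (hn : Fintype.card Ω % 4 = 2) (hn2 : 2 < Fintype.card Ω) :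
    ∃ M : Subgroup G, M.Normal ∧ M ≠ ⊥ ∧ (∀ N : Subgroup G, N.Normal → N ≠ ⊥ → M ≤ N) ∧
      IsSimpleGroup ↥M ∧ MulAction.IsMultiplyPretransitive ↥M Ω 2 ∧ Subgroup.centralizer (M : Set G) = ⊥ := by
  classical
  haveI : Nontrivial G := by
    by_contra hc
    rw [not_nontrivial_iff_subsingleton] at hc
    obtain ⟨x, y, hxy⟩ := Fintype.exists_pair_of_one_lt_card (show 1 < Fintype.card Ω by omega)
    haveI := isPretransitive_of_is_two_pretransitive (G := G) (α := Ω)
    obtain ⟨g, hg⟩ := MulAction.exists_smul_eq G x y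
    exact hxy (by rw [← hg, Subsingleton.elim g 1, one_smul])
  obtain ⟨M, ⟨hMn, hM1⟩, hmin⟩ := (Set.toFinite {N : Subgroup G | N.Normal ∧ N ≠ ⊥}).exists_minimal
    ⟨⊤, inferInstance, bot_ne_top.symm⟩
  have hmin' : ∀ N : Subgroup G, N.Normal → N ≠ ⊥ → N ≤ M → M ≤ N := fun N h1 h2 h3 => hmin ⟨h1, h2⟩ h3
  haveI := hMn
  have hC := centralizer_eq_bot h2 hn hn2 M hM1
  have hle : ∀ N : Subgroup G, N.Normal → N ≠ ⊥ → M ≤ N := by
    intro N hNn hN1
    haveI := hNn
    by_cases h : M ⊓ N = ⊥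
    · refine absurd ?_ hN1
      rw [eq_bot_iff, ← hC]
      intro x hx
      rw [Subgroup.mem_centralizer_iff]
      intro m hm
      exact Subgroup.commute_of_normal_of_disjoint M N hMn hNn (disjoint_iff.2 h) m x hm hx
    · exact (hmin' _ inferInstance h inf_le_left).trans inf_le_right
  have hM2 := normal_two_transitive h2 hn hn2 M hM1
  refine ⟨M, hMn, hM1, hle, ?_, hM2, hC⟩
  haveI : Nontrivial M := (Subgroup.nontrivial_iff_ne_bot M).2 hM1
  obtain ⟨L, ⟨hLn, hL1⟩, hLmin⟩ := (Set.toFinite {N : Subgroup M | N.Normal ∧ N ≠ ⊥}).exists_minimal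
    ⟨⊤, inferInstance, bot_ne_top.symm⟩
  haveI := hLn
  have hLC := centralizer_eq_bot hM2 hn hn2 L hL1
  have hLle : ∀ N : Subgroup M, N.Normal → N ≠ ⊥ → L ≤ N := by
    intro N hNn hN1
    haveI := hNn
    by_cases h : L ⊓ N = ⊥
    · refine absurd ?_ hN1
      rw [eq_bot_iff, ← hLC]
      intro x hx
      rw [Subgroup.mem_centralizer_iff]
      intro m hm
      exact Subgroup.commute_of_normal_of_disjoint L N hLn hNn (disjoint_iff.2 h) m x hm hx
    · exact (hLmin ⟨inferInstance, h⟩ inf_le_left).trans inf_le_right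
  have hLtop : L = ⊤ := by
    haveI : (L.map M.subtype).Normal := by
      refine ⟨fun x hx g => ?_⟩
      obtain ⟨y, hy, rfl⟩ := Subgroup.mem_map.1 hx
      let e : M ≃* M := MulAut.conjNormal g
      haveI : (L.map e.toMonoidHom).Normal := Subgroup.Normal.map hLn _ e.surjective
      have h1 : L ≤ L.map e.toMonoidHom := hLle _ inferInstance (fun h => hL1 ((Subgroup.map_eq_bot_iff_of_injective L e.injective).1 h))
      have h2 : L = L.map e.toMonoidHom := Subgroup.eq_of_le_of_card_ge h1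
        (Subgroup.card_map_of_injective e.injective).le
      have hey : e y ∈ L := by rw [h2]; exact Subgroup.mem_map_of_mem _ hy
      exact Subgroup.mem_map.2 ⟨e y, hey, rfl⟩
    have := hle (L.map M.subtype) inferInstance (fun h => hL1 <| by
      rwa [Subgroup.map_eq_bot_iff_of_injective _ M.subtype_injective] at h)
    rw [eq_top_iff]
    intro x _
    obtain ⟨y, hy, e⟩ := Subgroup.mem_map.1 (this x.2)
    exact (Subtype.ext e : y = x) ▸ hy
  exact ⟨fun N hN => (em (N = ⊥)).imp id fun h => top_le_iff.1 (hLtop ▸ hLle N hN h)⟩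

end Cfsg.Agent.S3401
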