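import Cfsg.Prelude
import Cfsg.Agent.Lib.Spor.ONan.Main
import Cfsg.Agent.Lib.Spor.ONan.Fitting

set_option autoImplicit false
open Cfsg

namespace Cfsg.Agent.S3410

/-- Let a finite group G act faithfully and 2-transitively on a finite set X, and let N be an abelian normal subgroup of the stabilizer of a point x which is not semiregular on the remaining points (some non-identity element of N fixes a second point). Then the generalized Fitting subgroup of G is isomorphic to PSL_n(F) for some n ≥ 3 and some finite field F. -/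
theorem result {G X : Type*} [Group G] [Finite G] [Fintype X]
    [MulAction G X] [FaithfulSMul G X] (h2 : MulAction.IsMultiplyPretransitive G X 2) (x : X)
    (N : Subgroup G) (hNle : N ≤ MulAction.stabilizer G x)
    (hNnormal : ∀ g ∈ MulAction.stabilizer G x, ∀ n ∈ N, g * n * g⁻¹ ∈ N) (hNab : IsMulCommutative N)
    (hnsr : ∃ n ∈ N, n ≠ 1 ∧ ∃ y : X, y ≠ x ∧ n • y = y) :
    ∃ (F : Type) (_ : Field F) (_ : Fintype F) (n : ℕ), 3 ≤ n ∧
      Nonempty (↥(Cfsg.generalizedFittingSubgroup G) ≃* Matrix.ProjectiveSpecialLinearGroup (Fin n) F) := by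
  classical
  obtain ⟨n₀, hn₀, hn₁, y, hy, hny⟩ := hnsr
  haveI : Nontrivial X := ⟨⟨y, x, hy⟩⟩
  obtain ⟨d⟩ := Spor.ONan.exists_hyp h2 x N hNle hNnormal
    (fun n hn m hm => congrArg Subtype.val (hNab.is_comm.comm (⟨n, hn⟩ : N) ⟨m, hm⟩))
    ⟨n₀, hn₀, hn₁, y, hy, hny⟩
  obtain ⟨K, instK, instKf, n, hn, -, L, hL, ⟨e⟩, hC⟩ := d.classify
  refine ⟨K, instK, instKf, n, hn, ?_⟩
  haveI : Nontrivial (Fin n) := Fin.nontrivial_iff_two_le.mpr (by omega)
  haveI : IsSimpleGroup (Matrix.ProjectiveSpecialLinearGroup (Fin n) K) :=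
    Classical.PSL_simple_of_three_le (by rwa [Fintype.card_fin])
  haveI : IsSimpleGroup L := e.isSimpleGroup
  have hna : ¬ IsMulCommutative L := fun hc => by
    have hLC : L ≤ Subgroup.centralizer (L : Set G) := fun a ha =>
      Subgroup.mem_centralizer_iff.mpr fun b hb =>
        congrArg Subtype.val (hc.is_comm.comm (⟨b, hb⟩ : L) ⟨a, ha⟩)
    rw [hC, le_bot_iff] at hLC
    exact (Subgroup.nontrivial_iff_ne_bot L).mp inferInstance hLC
  exact ⟨(MulEquiv.subgroupCongr (Spor.ONan.gfitting_eq_of_simple L inferInstance hna hC)).trans e⟩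

end Cfsg.Agent.S3410
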