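import Cfsg.Statements.S3412
import Cfsg.Agent.Lib.Lie.L33Commuting
-- import your own Cfsg.Agent.* helpers here

set_option autoImplicit false
open Cfsg

namespace Cfsg.Agent.S3412

/-- Let H be a finite group whose commuting graph (vertices the non-identity elements, two joined when they commute) is isomorphic to that of PSL_3(3): there is a bijection between the non-identity elements of H and of PSL_3(3) under which two elements commute exactly when their images do. Then H ≅ PSL_3(3). -/
theorem result {H : Type*} [Group H] [Finite H]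
    (f : {h : H // h ≠ 1} ≃ {g : Matrix.ProjectiveSpecialLinearGroup (Fin 3) (ZMod 3) // g ≠ 1})
    (hf : ∀ x y : {h : H // h ≠ 1}, (x : H) * y = y * x ↔ ((f x) : Matrix.ProjectiveSpecialLinearGroup (Fin 3) (ZMod 3)) * (f y) = (f y) * (f x)) :
    Nonempty (H ≃* Matrix.ProjectiveSpecialLinearGroup (Fin 3) (ZMod 3)) := by
  classical
  let e : Matrix.SpecialLinearGroup (Fin 3) (ZMod 3) ≃*
      Matrix.ProjectiveSpecialLinearGroup (Fin 3) (ZMod 3) :=
    MulEquiv.ofBijective (QuotientGroup.mk' _)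
      ⟨Cfsg.Agent.SpectrumSL3Three.mk_injective (ZMod.card 3), QuotientGroup.mk'_surjective _⟩
  let F : H ≃ Matrix.ProjectiveSpecialLinearGroup (Fin 3) (ZMod 3) :=
    (Equiv.optionSubtypeNe (1 : H)).symm.trans ((Equiv.optionCongr f).trans
      (Equiv.optionSubtypeNe (1 : Matrix.ProjectiveSpecialLinearGroup (Fin 3) (ZMod 3))))
  have hF1 : F 1 = 1 := by simp [F]
  have hFne : ∀ (x : H) (hx : x ≠ 1),
      F x = (f ⟨x, hx⟩ : Matrix.ProjectiveSpecialLinearGroup (Fin 3) (ZMod 3)) := fun x hx => by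
    simp [F, Equiv.optionSubtypeNe_symm_of_ne hx]
  have hcom : ∀ x y : H, x * y = y * x ↔ (F.trans e.symm.toEquiv) x * (F.trans e.symm.toEquiv) y =
      (F.trans e.symm.toEquiv) y * (F.trans e.symm.toEquiv) x := by
    intro x y
    show _ ↔ e.symm (F x) * e.symm (F y) = e.symm (F y) * e.symm (F x)
    rw [← map_mul e.symm, ← map_mul e.symm, e.symm.injective.eq_iff]
    rcases eq_or_ne x 1 with rfl | hx
    · simp [hF1]
    rcases eq_or_ne y 1 with rfl | hy
    · simp [hF1]
    rw [hFne x hx, hFne y hy]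
    exact hf ⟨x, hx⟩ ⟨y, hy⟩
  obtain ⟨g⟩ := Cfsg.Agent.Lie.L33.mulEquiv_of_commuting (F.trans e.symm.toEquiv) hcom
  exact ⟨g.trans e⟩

end Cfsg.Agent.S3412
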