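import Cfsg.Statements.S3419
import Mathlib
import Cfsg.Agent.Lib.Grp.Hall
import Cfsg.Agent.Lib.Recog.TwoPrimes
-- import your own Cfsg.Agent.* helpers here

set_option autoImplicit false
open Cfsg

namespace Cfsg.Agent.S3419

theorem choose_primes (n : ℕ) (hn : 5 ≤ n) : ∃ p q a : ℕ, p.Prime ∧ q.Prime ∧ q < p ∧ p ≤ n ∧ n < p + q ∧ n < 2 * p ∧
    ((a = 1 ∧ n < 2 * q ∧ 2 < q) ∨ (n = 6 ∧ p = 5 ∧ q = 3 ∧ a = 2) ∨ (n = 10 ∧ p = 7 ∧ q = 5 ∧ a = 2)) := by
  rcases lt_or_ge n 12 with h | h
  · interval_cases n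
    · exact ⟨5, 3, 1, by norm_num, by norm_num, by norm_num, by norm_num, by norm_num, by norm_num, Or.inl (by norm_num)⟩
    · exact ⟨5, 3, 2, by norm_num, by norm_num, by norm_num, by norm_num, by norm_num, by norm_num, Or.inr (Or.inl (by norm_num))⟩
    · exact ⟨7, 5, 1, by norm_num, by norm_num, by norm_num, by norm_num, by norm_num, by norm_num, Or.inl (by norm_num)⟩
    · exact ⟨7, 5, 1, by norm_num, by norm_num, by norm_num, by norm_num, by norm_num, by norm_num, Or.inl (by norm_num)⟩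
    · exact ⟨7, 5, 1, by norm_num, by norm_num, by norm_num, by norm_num, by norm_num, by norm_num, Or.inl (by norm_num)⟩
    · exact ⟨7, 5, 2, by norm_num, by norm_num, by norm_num, by norm_num, by norm_num, by norm_num, Or.inr (Or.inr (by norm_num))⟩
    · exact ⟨11, 7, 1, by norm_num, by norm_num, by norm_num, by norm_num, by norm_num, by norm_num, Or.inl (by norm_num)⟩
  · obtain ⟨q, p, hq, hp, h1, h2, h3⟩ := Cfsg.Agent.Recog.TwoPrimes.two_primes (n / 2) (by omega)
    exact ⟨p, q, 1, hp, hq, h2, by omega, by omega, by omega, Or.inl ⟨rfl, by omega, by omega⟩⟩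

theorem no_order {n p q : ℕ} (hp : p.Prime) (hq : q.Prime) (hpq : q < p) (hn : n < p + q)
    (σ : Equiv.Perm (Fin n)) : orderOf σ ≠ p * q := by
  classical
  intro h
  have hsum : σ.cycleType.sum ≤ n := by
    have := σ.sum_cycleType_le
    simpa using this
  have key : ∀ r : ℕ, r.Prime → r ∣ orderOf σ → ∃ x ∈ σ.cycleType, r ∣ x := by
    intro r hr hrd
    rw [← Equiv.Perm.lcm_cycleType] at hrd
    revert hrd
    generalize σ.cycleType = s
    intro hrd
    induction s using Multiset.induction_on with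
    | empty => rw [Multiset.lcm_zero] at hrd; exact absurd hrd (fun h => hr.not_dvd_one h)
    | cons x t ih =>
        rw [Multiset.lcm_cons] at hrd
        rcases (Nat.Prime.dvd_mul hr).mp (hrd.trans (Nat.lcm_dvd_mul x t.lcm)) with h' | h'
        · exact ⟨x, Multiset.mem_cons_self _ _, h'⟩
        · obtain ⟨y, hy, hyd⟩ := ih h'
          exact ⟨y, Multiset.mem_cons_of_mem hy, hyd⟩
  obtain ⟨x, hx, hxd⟩ := key p hp (h ▸ dvd_mul_right p q)
  obtain ⟨y, hy, hyd⟩ := key q hq (h ▸ dvd_mul_left q p)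
  have hxp : p ≤ x := Nat.le_of_dvd (by have := Equiv.Perm.two_le_of_mem_cycleType hx; omega) hxd
  by_cases hxy : x = y
  · subst hxy
    have h1 : p * q ∣ x := (Nat.coprime_primes hp hq).mpr hpq.ne' |>.mul_dvd_of_dvd_of_dvd hxd hyd
    have h2 := Nat.le_of_dvd (by have := Equiv.Perm.two_le_of_mem_cycleType hx; omega) h1
    have h3 := Multiset.single_le_sum (fun _ _ => Nat.zero_le _) _ hx
    have h4 : p + q ≤ p * q := by nlinarith [hp.two_le, hq.two_le]
    omega
  · obtain ⟨t, ht⟩ := Multiset.exists_cons_of_mem hx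
    have hyt : y ∈ t := by
      rw [ht, Multiset.mem_cons] at hy
      exact hy.resolve_left (Ne.symm hxy)
    have h2 : q ≤ y := Nat.le_of_dvd (by have := Equiv.Perm.two_le_of_mem_cycleType hy; omega) hyd
    have h3 := Multiset.single_le_sum (fun _ _ => Nat.zero_le _) _ hyt
    rw [ht, Multiset.sum_cons] at hsum
    omega

/-- A group of order `p * q^a` with the arithmetic conditions has an element of order `p * q`. -/
theorem elem_pq {H : Type*} [Group H] [Finite H] {p q a : ℕ} (hp : p.Prime) (hq : q.Prime) (hne : p ≠ q) (ha : 1 ≤ a)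
    (hcard : Nat.card H = p * q ^ a) (h1 : ∀ j ≤ a, q ^ j % p = 1 → j = 0) (h2 : p % q ≠ 1) :
    ∃ x : H, orderOf x = p * q := by
  haveI : Fact p.Prime := ⟨hp⟩
  haveI : Fact q.Prime := ⟨hq⟩
  obtain ⟨P⟩ : Nonempty (Sylow p H) := inferInstance
  obtain ⟨Q⟩ : Nonempty (Sylow q H) := inferInstance
  have hPc : Nat.card P = p := by
    rw [P.card_eq_multiplicity, hcard, Nat.factorization_mul hp.ne_zero (pow_ne_zero _ hq.ne_zero), Finsupp.add_apply,
      hp.factorization_self, Nat.factorization_pow, Finsupp.smul_apply,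
      Nat.factorization_eq_zero_of_not_dvd (fun h => hne ((Nat.prime_dvd_prime_iff_eq hp hq).mp h)), smul_zero, add_zero, pow_one]
  have hQc : Nat.card Q = q ^ a := by
    rw [Q.card_eq_multiplicity, hcard, Nat.factorization_mul hp.ne_zero (pow_ne_zero _ hq.ne_zero), Finsupp.add_apply,
      hq.factorization_pow, Finsupp.single_eq_same,
      Nat.factorization_eq_zero_of_not_dvd (fun h => hne ((Nat.prime_dvd_prime_iff_eq hq hp).mp h).symm), zero_add]
  have hPn : (P : Subgroup H).Normal := by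
    have hd : Nat.card (Sylow p H) ∣ q ^ a := by
      have := Sylow.card_dvd_index P
      have hi := (P : Subgroup H).card_mul_index
      rw [hPc, hcard] at hi
      rwa [Nat.eq_of_mul_eq_mul_left hp.pos hi] at this
    obtain ⟨j, hj, hjc⟩ := (Nat.dvd_prime_pow hq).mp hd
    have hm : Nat.card (Sylow p H) % p = 1 := by
      have := card_sylow_modEq_one p H
      rw [Nat.ModEq, Nat.one_mod_eq_one.mpr hp.one_lt.ne'] at this
      exact this
    rw [hjc] at hm
    rw [h1 j hj hm, pow_zero] at hjc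
    haveI : Subsingleton (Sylow p H) := (Nat.card_eq_one_iff_unique.mp hjc).1
    exact P.normal_of_subsingleton
  have hQn : (Q : Subgroup H).Normal := by
    have hd : Nat.card (Sylow q H) ∣ p := by
      have := Sylow.card_dvd_index Q
      have hi := (Q : Subgroup H).card_mul_index
      rw [hQc, hcard, mul_comm p] at hi
      rwa [Nat.eq_of_mul_eq_mul_left (pow_pos hq.pos a) hi] at this
    rcases (Nat.dvd_prime hp).mp hd with h | h
    · haveI : Subsingleton (Sylow q H) := (Nat.card_eq_one_iff_unique.mp h).1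
      exact Q.normal_of_subsingleton
    · exfalso
      have := card_sylow_modEq_one q H
      rw [h, Nat.ModEq, Nat.one_mod_eq_one.mpr hq.one_lt.ne'] at this
      exact h2 this
  have hdis : Disjoint (P : Subgroup H) (Q : Subgroup H) := IsPGroup.disjoint_of_ne p q hne _ _ P.2 Q.2
  obtain ⟨x, hx⟩ := exists_prime_orderOf_dvd_card' (G := (P : Subgroup H)) p (by rw [hPc])
  obtain ⟨y, hy⟩ := exists_prime_orderOf_dvd_card' (G := (Q : Subgroup H)) q (by rw [hQc]; exact dvd_pow_self q (by omega))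
  rw [← Subgroup.orderOf_coe] at hx hy
  refine ⟨x * y, ?_⟩
  rw [(Subgroup.commute_of_normal_of_disjoint _ _ hPn hQn hdis x y x.2 y.2).orderOf_mul_eq_mul_orderOf_of_coprime
    (by rw [hx, hy]; exact (Nat.coprime_primes hp hq).mpr hne), hx, hy]

/-- Let n ≥ 5 and let G be a finite group with the same order and the same set of element orders as the alternating group of degree n. Then G is not solvable. -/
theorem result {G : Type*} [Group G] [Finite G] (n : ℕ) (hn : 5 ≤ n)
    (hcard : Nat.card G = Nat.card ↥(alternatingGroup (Fin n)))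
    (hspec : Set.range (orderOf : G → ℕ) = Set.range (orderOf : ↥(alternatingGroup (Fin n)) → ℕ)) :
    ¬ Group.IsSolvable G := by
  classical
  intro hs
  obtain ⟨p, q, a, hp, hq, hqp, hpn, hpq, h2p, hcase⟩ := choose_primes n hn
  haveI : Nontrivial (Fin n) := Fin.nontrivial_iff_two_le.mpr (by omega)
  have hG : 2 * Nat.card G = n.factorial := by
    rw [hcard, two_mul_nat_card_alternatingGroup, Nat.card_perm, Nat.card_fin]
  have hfac : ∀ r : ℕ, r.Prime → 2 < r → (Nat.card G).factorization r = (n.factorial).factorization r := by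
    intro r hr hr2
    rw [← hG, Nat.factorization_mul two_ne_zero Nat.card_pos.ne', Finsupp.add_apply,
      Nat.factorization_eq_zero_of_not_dvd (show ¬ r ∣ 2 from fun h => by have := Nat.le_of_dvd two_pos h; omega), zero_add]
  have hone : ∀ r : ℕ, r.Prime → r ≤ n → n < 2 * r → (n.factorial).factorization r = 1 := by
    intro r hr h1 h2
    rw [Nat.factorization_factorial hr (b := 2) (by
      refine Nat.log_lt_of_lt_pow (by omega) ?_
      have := hr.two_le
      nlinarith)]
    simp only [show Finset.Ico 1 2 = {1} from rfl, Finset.sum_singleton, pow_one]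
    exact Nat.div_eq_of_lt_le (by omega) (by omega)
  have hp2 : 2 < p := by have := hq.two_le; omega
  have hvp : (Nat.card G).factorization p = 1 := by rw [hfac p hp hp2, hone p hp hpn h2p]
  have hq2 : 2 < q := by rcases hcase with ⟨-, -, h⟩ | ⟨-, -, rfl, -⟩ | ⟨-, -, rfl, -⟩ <;> omega
  have hvq : (Nat.card G).factorization q = a := by
    rw [hfac q hq hq2]
    rcases hcase with ⟨rfl, h, -⟩ | ⟨rfl, -, rfl, rfl⟩ | ⟨rfl, -, rfl, rfl⟩
    · exact hone q hq (by omega) h
    · rw [Nat.factorization_factorial Nat.prime_three (b := 2) (by norm_num [Nat.log_lt_iff_lt_pow])]; decide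
    · rw [Nat.factorization_factorial hq (b := 2) (Nat.log_lt_of_lt_pow (by norm_num) (by norm_num))]; decide
  have ha : 1 ≤ a := by rcases hcase with ⟨rfl, -⟩ | ⟨-, -, -, rfl⟩ | ⟨-, -, -, rfl⟩ <;> norm_num
  have hpa : p ^ 1 ∣ Nat.card G := hvp ▸ Nat.ordProj_dvd _ p
  have hqa : q ^ a ∣ Nat.card G := hvq ▸ Nat.ordProj_dvd _ q
  have hcop : Nat.Coprime (p ^ 1) (q ^ a) := Nat.Coprime.pow _ _ ((Nat.coprime_primes hp hq).mpr hqp.ne')
  obtain ⟨k, hk⟩ := hcop.mul_dvd_of_dvd_of_dvd hpa hqa
  have hk0 : k ≠ 0 := by rintro rfl; rw [mul_zero] at hk; exact Nat.card_pos.ne' hk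
  have hkcop : Nat.Coprime (p ^ 1 * q ^ a) k := by
    have hnp : ∀ r e : ℕ, r.Prime → (Nat.card G).factorization r = e → e = (p ^ 1 * q ^ a).factorization r → ¬ r ∣ k := by
      intro r e hr he he' hrk
      rw [hk, Nat.factorization_mul (mul_ne_zero (pow_ne_zero _ hp.ne_zero) (pow_ne_zero _ hq.ne_zero)) hk0,
        Finsupp.add_apply, ← he'] at he
      have := (hr.dvd_iff_one_le_factorization hk0).mp hrk
      omega
    refine Nat.Coprime.mul_left (Nat.Coprime.pow_left _ ((Nat.Prime.coprime_iff_not_dvd hp).mpr (hnp p 1 hp hvp ?_)))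
      (Nat.Coprime.pow_left _ ((Nat.Prime.coprime_iff_not_dvd hq).mpr (hnp q a hq hvq ?_)))
    · rw [Nat.factorization_mul (pow_ne_zero _ hp.ne_zero) (pow_ne_zero _ hq.ne_zero), Finsupp.add_apply,
        hp.factorization_pow, hq.factorization_pow, Finsupp.single_eq_same, Finsupp.single_eq_of_ne hqp.ne', add_zero]
    · rw [Nat.factorization_mul (pow_ne_zero _ hp.ne_zero) (pow_ne_zero _ hq.ne_zero), Finsupp.add_apply,
        hp.factorization_pow, hq.factorization_pow, Finsupp.single_eq_same, Finsupp.single_eq_of_ne hqp.ne, zero_add]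
  haveI := hs
  obtain ⟨H, hH⟩ := Cfsg.Agent.Grp.exists_hall hk hkcop
  have hmods : (∀ j ≤ a, q ^ j % p = 1 → j = 0) ∧ p % q ≠ 1 := by
    rcases hcase with ⟨rfl, h, -⟩ | ⟨-, rfl, rfl, rfl⟩ | ⟨-, rfl, rfl, rfl⟩
    · refine ⟨fun j hj hm => ?_, fun hm => ?_⟩
      · interval_cases j
        · rfl
        · rw [pow_one, Nat.mod_eq_of_lt hqp] at hm; exact absurd hm hq.one_lt.ne'
      · have hd : p % q = p - q := by
          rw [Nat.mod_eq_sub_mod hqp.le, Nat.mod_eq_of_lt (by omega)]
        rcases hp.eq_two_or_odd with h' | h' <;> rcases hq.eq_two_or_odd with h'' | h'' <;> omega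
    · exact ⟨fun j hj hm => by interval_cases j <;> simp_all, by norm_num⟩
    · exact ⟨fun j hj hm => by interval_cases j <;> simp_all, by norm_num⟩
  obtain ⟨x, hx⟩ := elem_pq (H := H) hp hq hqp.ne' ha (by rw [hH, pow_one]) hmods.1 hmods.2
  have hmem : p * q ∈ Set.range (orderOf : G → ℕ) := ⟨x, by rw [Subgroup.orderOf_coe, hx]⟩
  rw [hspec] at hmem
  obtain ⟨σ, hσ⟩ := hmem
  exact no_order hp hq hqp hpq σ.1 (by rw [Subgroup.orderOf_coe, hσ])

end Cfsg.Agent.S3419
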