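import Cfsg.Statements.S3420
import Mathlib
import Cfsg.Agent.S3419
import Cfsg.Agent.Lib.Recog.MinimalNormal
import Cfsg.Agent.Lib.Grp.Basic
-- import your own Cfsg.Agent.* helpers here

set_option autoImplicit false
open Cfsg

namespace Cfsg.Agent.S3420

theorem two_big (n : ℕ) (hn : 11 ≤ n) :
    ∃ p q : ℕ, p.Prime ∧ q.Prime ∧ p ≠ q ∧ n < 2 * p ∧ p ≤ n ∧ n < 2 * q ∧ q ≤ n := by
  rcases Nat.lt_or_ge n 12 with h | h
  · exact ⟨7, 11, by norm_num, by norm_num, by norm_num, by omega, by omega, by omega, by omega⟩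
  · obtain ⟨q, p, hq, hp, h1, h2, h3⟩ := Cfsg.Agent.Recog.TwoPrimes.two_primes (n / 2) (by omega)
    exact ⟨q, p, hq, hp, h2.ne, by omega, by omega, by omega, by omega⟩

theorem no_pq {G : Type*} [Group G] [Finite G] {n p q : ℕ} (hp : p.Prime) (hq : q.Prime) (hne : p ≠ q)
    (hpq : n < p + q) (hspec : Set.range (orderOf : G → ℕ) = Set.range (orderOf : ↥(alternatingGroup (Fin n)) → ℕ))
    (x : G) : ¬ p * q ∣ orderOf x := by
  intro h
  obtain ⟨c, hc⟩ := h
  have h0 : orderOf x ≠ 0 := (orderOf_pos x).ne'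
  have hmem : p * q ∈ Set.range (orderOf : G → ℕ) := by
    refine ⟨x ^ c, ?_⟩
    rw [orderOf_pow_of_dvd (by rintro rfl; simp at hc; exact h0 (by simpa using hc)) ⟨p * q, by rw [hc]; ring⟩, hc,
      Nat.mul_div_cancel _ (by rcases Nat.eq_zero_or_pos c with rfl | h; · simp at hc; exact absurd (by simpa using hc) h0
                               exact h)]
  rw [hspec] at hmem
  obtain ⟨σ, hσ⟩ := hmem
  rcases hne.lt_or_gt with h | h
  · exact S3419.no_order hq hp h (by omega) σ.1 (by rw [Subgroup.orderOf_coe, hσ, mul_comm])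
  · exact S3419.no_order hp hq h hpq σ.1 (by rw [Subgroup.orderOf_coe, hσ])

/-- Let n ≥ 11 and let G be a finite group with the same order and the same set of element orders as the alternating group of degree n. Then G has normal subgroups N < H such that H/N is a non-abelian simple group whose order is divisible by every prime p with n/2 < p ≤ n. -/
theorem result {G : Type*} [Group G] [Finite G] (n : ℕ) (hn : 11 ≤ n)
    (hcard : Nat.card G = Nat.card ↥(alternatingGroup (Fin n)))
    (hspec : Set.range (orderOf : G → ℕ) = Set.range (orderOf : ↥(alternatingGroup (Fin n)) → ℕ)) :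
    ∃ (N H : Subgroup G) (_ : N.Normal), H.Normal ∧ N < H ∧
      IsSimpleGroup (↥H ⧸ N.subgroupOf H) ∧ ¬ IsMulCommutative (↥H ⧸ N.subgroupOf H) ∧
      ∀ p : ℕ, p.Prime → n < 2 * p → p ≤ n → p ∣ Nat.card (↥H ⧸ N.subgroupOf H) := by
  classical
  obtain ⟨p0, q0, hp0, hq0, hne0, hp0a, hp0b, hq0a, hq0b⟩ := two_big n hn
  haveI : Nontrivial (Fin n) := Fin.nontrivial_iff_two_le.mpr (by omega)
  have hG : 2 * Nat.card G = n.factorial := by
    rw [hcard, two_mul_nat_card_alternatingGroup, Nat.card_perm, Nat.card_fin]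
  let big : ℕ → Prop := fun r => r.Prime ∧ n < 2 * r ∧ r ≤ n
  have hodd : ∀ r, big r → Odd r := fun r hr => hr.1.odd_of_ne_two (by have := hr.2.1; omega)
  have hdvd : ∀ r, big r → r ∣ Nat.card G := by
    intro r hr
    have h : r ∣ 2 * Nat.card G := hG ▸ Nat.dvd_factorial hr.1.pos hr.2.2
    exact (Nat.Coprime.dvd_of_dvd_mul_left ((Nat.coprime_primes hr.1 Nat.prime_two).mpr (by have := hr.2.1; omega)) h)
  have hsq : ∀ r, big r → ¬ r * r ∣ Nat.card G := by
    intro r hr h
    have h1 : r * r ∣ n.factorial := hG ▸ Dvd.dvd.mul_left h 2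
    have h2 : (n.factorial).factorization r = 1 := by
      rw [Nat.factorization_factorial hr.1 (b := 2) (Nat.log_lt_of_lt_pow (by omega) (by
        have := hr.2.1; have := hr.1.two_le; nlinarith))]
      simp only [show Finset.Ico 1 2 = {1} from rfl, Finset.sum_singleton, pow_one]
      exact Nat.div_eq_of_lt_le (by have := hr.2.2; omega) (by have := hr.2.1; omega)
    have h3 := (hr.1.pow_dvd_iff_le_factorization (Nat.factorial_ne_zero n)).mp (show r ^ 2 ∣ n.factorial by rwa [sq])
    omega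
  -- a maximal normal subgroup of order prime to all big primes
  obtain ⟨N, ⟨hNn, hNc⟩, hNmax⟩ := (wellFounded_gt (α := Subgroup G)).has_min
    {N : Subgroup G | N.Normal ∧ ∀ r, big r → ¬ r ∣ Nat.card N}
    ⟨⊥, inferInstance, fun r hr h => hr.1.not_dvd_one (by rwa [Subgroup.card_bot] at h)⟩
  haveI := hNn
  let π := QuotientGroup.mk' N
  have hπ : Function.Surjective π := QuotientGroup.mk'_surjective N
  have hcardQ : Nat.card G = Nat.card (G ⧸ N) * Nat.card N := N.card_eq_card_quotient_mul_card_subgroup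
  have hbigQ : ∀ r, big r → r ∣ Nat.card (G ⧸ N) := by
    intro r hr
    exact (hr.1.dvd_mul.mp (hcardQ ▸ hdvd r hr)).resolve_right (hNc r hr)
  have hQsq : ∀ r, big r → ¬ r * r ∣ Nat.card (G ⧸ N) := fun r hr h =>
    hsq r hr (hcardQ ▸ h.mul_right _)
  have hQno : ∀ r s, big r → big s → r ≠ s → ∀ y : G ⧸ N, ¬ r * s ∣ orderOf y := by
    intro r s hr hs hrs y h
    obtain ⟨x, rfl⟩ := hπ y
    exact no_pq hr.1 hs.1 hrs (by have := hr.2.1; have := hs.2.1; omega) hspec x (h.trans (orderOf_map_dvd π x))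
  haveI : Nontrivial (G ⧸ N) := by
    rw [← Finite.one_lt_card_iff_nontrivial]
    exact lt_of_lt_of_le hp0.one_lt (Nat.le_of_dvd Nat.card_pos (hbigQ p0 ⟨hp0, hp0a, hp0b⟩))
  obtain ⟨M, hMn, hMb, -, hMmin⟩ := Cfsg.Agent.Grp.exists_minimal_normal_le (N := (⊤ : Subgroup (G ⧸ N))) top_ne_bot
  haveI := hMn
  let H := M.comap π
  have hHn : H.Normal := hMn.comap π
  have hNH : N < H := by
    refine lt_of_le_of_ne (fun x hx => ?_) fun h => hMb ?_
    · show π x ∈ M
      rw [show π x = 1 from (QuotientGroup.eq_one_iff x).mpr hx]; exact M.one_mem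
    · rw [← Subgroup.map_comap_eq_self_of_surjective hπ M]
      show H.map π = ⊥
      rw [← h, QuotientGroup.map_mk'_self]
  have eH : (↥H ⧸ N.subgroupOf H) ≃* M := by
    let f : H →* M := (π.comp H.subtype).codRestrict M fun x => x.2
    have hf : Function.Surjective f := by
      rintro ⟨m, hm⟩
      obtain ⟨x, rfl⟩ := hπ m
      exact ⟨⟨x, hm⟩, rfl⟩
    have hker : f.ker = N.subgroupOf H := by
      ext x
      rw [MonoidHom.mem_ker, Subgroup.mem_subgroupOf, Subtype.ext_iff]
      exact QuotientGroup.eq_one_iff _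
    exact (QuotientGroup.quotientMulEquivOfEq hker.symm).trans (QuotientGroup.quotientKerEquivOfSurjective f hf)
  have hcardH : Nat.card H = Nat.card M * Nat.card N := by
    rw [Subgroup.card_eq_card_quotient_mul_card_subgroup (N.subgroupOf H), Nat.card_congr eH.toEquiv,
      Nat.card_congr (Subgroup.subgroupOfEquivOfLe hNH.le).toEquiv]
  -- M is divisible by a big prime
  obtain ⟨p, hp, hpM⟩ : ∃ p, big p ∧ p ∣ Nat.card M := by
    by_contra hcon
    refine hNmax H ⟨hHn, fun r hr h => ?_⟩ hNH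
    rcases hr.1.dvd_mul.mp (hcardH ▸ h) with h' | h'
    · exact hcon ⟨r, hr, h'⟩
    · exact hNc r hr h'
  have hMsq : ¬ p * p ∣ Nat.card M := fun h => hQsq p hp (h.trans M.card_subgroup_dvd_card)
  haveI : Fact p.Prime := ⟨hp.1⟩
  -- hence by all of them
  have hall : ∀ s, big s → s ∣ Nat.card M := by
    intro s hs
    by_contra hsM
    have hsp : s ≠ p := fun h => hsM (h ▸ hpM)
    haveI : Fact s.Prime := ⟨hs.1⟩
    obtain ⟨P⟩ : Nonempty (Sylow p M) := inferInstance
    have hPc : Nat.card ((P : Subgroup M).map M.subtype) = p := by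
      rw [Subgroup.card_map_of_injective M.subtype_injective, P.card_eq_multiplicity]
      have h1 : 1 ≤ (Nat.card M).factorization p := (hp.1.dvd_iff_one_le_factorization Nat.card_pos.ne').mp hpM
      have h2 : ¬ 2 ≤ (Nat.card M).factorization p := fun h => hMsq (by
        rw [← sq]; exact (hp.1.pow_dvd_iff_le_factorization Nat.card_pos.ne').mpr h)
      rw [show (Nat.card M).factorization p = 1 by omega, pow_one]
    have hfr := Sylow.normalizer_sup_eq_top P
    set R := (P : Subgroup M).map M.subtype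
    have hsN : s ∣ Nat.card (Subgroup.normalizer (R : Set (G ⧸ N))) := by
      have h1 : Nat.card (G ⧸ N) ∣ Nat.card (Subgroup.normalizer (R : Set (G ⧸ N))) * Nat.card M := by
        have h2 := Subgroup.relIndex_dvd_card M (Subgroup.normalizer (R : Set (G ⧸ N)))
        rw [← Subgroup.relIndex_sup_right, hfr, Subgroup.relIndex_top_right] at h2
        rw [← M.card_mul_index, mul_comm]
        exact mul_dvd_mul_right h2 _
      exact (hs.1.dvd_mul.mp ((hbigQ s hs).trans h1)).resolve_right hsM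
    obtain ⟨y, hy⟩ := exists_prime_orderOf_dvd_card' s hsN
    obtain ⟨x, hx⟩ := exists_prime_orderOf_dvd_card' (G := R) p (by rw [hPc])
    rw [← Subgroup.orderOf_coe] at hx hy
    have hcomm : Commute (y : G ⧸ N) (x : G ⧸ N) := by
      have hR : R = Subgroup.zpowers (x : G ⧸ N) := by
        symm
        refine Subgroup.eq_of_le_of_card_ge ((Subgroup.zpowers_le).mpr x.2) ?_
        rw [hPc, Nat.card_zpowers, hx]
      -- conjugation by y on a group of order p
      let φ : ℕ → G ⧸ N := fun k => (y : G ⧸ N) ^ k * x * ((y : G ⧸ N) ^ k)⁻¹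
      have hmem : (y : G ⧸ N) * x * (y : G ⧸ N)⁻¹ ∈ Subgroup.zpowers (x : G ⧸ N) := hR ▸ (Subgroup.mem_normalizer_iff.mp y.2 _).mp x.2
      obtain ⟨k, hk⟩ := (isOfFinOrder_of_finite (x : G ⧸ N)).mem_powers_iff_mem_zpowers.mpr hmem
      have hk : (x : G ⧸ N) ^ k = (y : G ⧸ N) * x * (y : G ⧸ N)⁻¹ := hk
      have hiter : ∀ j : ℕ, φ j = (x : G ⧸ N) ^ (k ^ j) := by
        intro j
        induction j with
        | zero => simp [φ]
        | succ j ih =>
          have : φ (j + 1) = (y : G ⧸ N) * φ j * (y : G ⧸ N)⁻¹ := by simp only [φ, pow_succ']; group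
          rw [this, ih, conj_pow.symm, ← hk, ← pow_mul, pow_succ']
      have h1 := hiter s
      simp only [φ, show (y : G ⧸ N) ^ s = 1 by rw [← hy]; exact pow_orderOf_eq_one _, one_mul, inv_one, mul_one] at h1
      have hks : k ^ s ≡ 1 [MOD p] := by
        rw [← hx]; exact pow_eq_pow_iff_modEq.mp (by rw [pow_one, ← h1])
      have hk1 : k ≡ 1 [MOD p] := by
        rw [← ZMod.natCast_eq_natCast_iff] at hks ⊢
        push_cast at hks ⊢
        have hk0 : (k : ZMod p) ≠ 0 := fun h => by rw [h, zero_pow hs.1.ne_zero] at hks; exact zero_ne_one hks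
        have hd1 : orderOf (k : ZMod p) ∣ s := orderOf_dvd_of_pow_eq_one hks
        rcases (Nat.dvd_prime hs.1).mp hd1 with h | h
        · exact orderOf_eq_one_iff.mp h
        · exfalso
          have hd2 : s ∣ p - 1 := h ▸ ZMod.orderOf_dvd_card_sub_one hk0
          obtain ⟨c, hc⟩ := hd2
          have := hp.2.1; have := hs.2.1; have := hp.2.2
          have hc2 : c < 2 := by
            by_contra hc'
            have : s * 2 ≤ s * c := Nat.mul_le_mul_left s (by omega)
            omega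
          interval_cases c
          · have := hp.1.two_le; omega
          · obtain ⟨a, ha⟩ := hodd p hp
            obtain ⟨b, hb⟩ := hodd s hs
            omega
      have : (x : G ⧸ N) ^ k = x := by
        conv_rhs => rw [← pow_one (x : G ⧸ N)]
        exact pow_eq_pow_iff_modEq.mpr (hx.symm ▸ hk1)
      rw [this] at hk
      exact eq_mul_inv_iff_mul_eq.mp hk |>.symm
    refine hQno s p hs hp hsp ((y : G ⧸ N) * x) ?_
    rw [hcomm.orderOf_mul_eq_mul_orderOf_of_coprime (by rw [hx, hy]; exact (Nat.coprime_primes hs.1 hp.1).mpr hsp), hx, hy]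
  have hna : ¬ IsMulCommutative M := by
    intro hc
    haveI : Fact p0.Prime := ⟨hp0⟩
    haveI : Fact q0.Prime := ⟨hq0⟩
    obtain ⟨a, ha⟩ := exists_prime_orderOf_dvd_card' (G := M) p0 (hall p0 ⟨hp0, hp0a, hp0b⟩)
    obtain ⟨b, hb⟩ := exists_prime_orderOf_dvd_card' (G := M) q0 (hall q0 ⟨hq0, hq0a, hq0b⟩)
    refine hQno p0 q0 ⟨hp0, hp0a, hp0b⟩ ⟨hq0, hq0a, hq0b⟩ hne0 ((a * b : M) : G ⧸ N) ?_
    rw [Subgroup.orderOf_coe, Commute.orderOf_mul_eq_mul_orderOf_of_coprime (show Commute a b from hc.is_comm.comm a b)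
      (by rw [ha, hb]; exact (Nat.coprime_primes hp0 hq0).mpr hne0), ha, hb]
  obtain ⟨T, k, hk, hTs, hTna, ⟨e⟩⟩ := Cfsg.Agent.MinNormal.exists_power M hMb hMmin hna
  have hk1 : k = 1 := by
    by_contra hne
    have hc : Nat.card M = Nat.card T ^ k := by rw [← Nat.card_congr e.toEquiv, Nat.card_fun, Nat.card_fin]
    refine hMsq ?_
    have hpT : p ∣ Nat.card T := hp.1.dvd_of_dvd_pow (hc ▸ hpM)
    rw [hc, ← sq]
    exact (pow_dvd_pow_of_dvd hpT 2).trans (pow_dvd_pow _ (by omega))
  subst hk1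
  -- the section
  have eT : (↥H ⧸ N.subgroupOf H) ≃* T := eH.trans (e.symm.trans (MulEquiv.funUnique (Fin 1) T))
  refine ⟨N, H, hNn, hHn, hNH, ?_, ?_, ?_⟩
  · haveI : Nontrivial (↥H ⧸ N.subgroupOf H) := eT.toEquiv.nontrivial
    haveI := hTs
    exact IsSimpleGroup.isSimpleGroup_of_surjective eT.symm.toMonoidHom eT.symm.surjective
  · intro hc
    exact hTna ⟨⟨fun a b => eT.symm.injective (by rw [map_mul, map_mul]; exact hc.is_comm.comm _ _)⟩⟩
  · intro r h1 h2 h3
    rw [Nat.card_congr eH.toEquiv]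
    exact hall r ⟨h1, h2, h3⟩

end Cfsg.Agent.S3420
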