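import Cfsg.Statements.S3421
import Cfsg.Agent.Lib.Block.SpecPSL.Identify
import Cfsg.Agent.Lib.Block.SpecPSL.Even

set_option autoImplicit false
open Cfsg

namespace Cfsg.Agent.S3421

/-- Let F be a finite field with more than 3 elements. A finite group G is isomorphic to PSL(2, F) if and only if G has the same set of element orders and the same order as PSL(2, F). -/
theorem result {G : Type*} [Group G] [Finite G] {F : Type*} [Field F] [Fintype F] (hF : 3 < Fintype.card F) :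
    Nonempty (G ≃* Matrix.ProjectiveSpecialLinearGroup (Fin 2) F) ↔
      (Set.range (orderOf : G → ℕ) = Set.range (orderOf : Matrix.ProjectiveSpecialLinearGroup (Fin 2) F → ℕ) ∧
        Nat.card G = Nat.card (Matrix.ProjectiveSpecialLinearGroup (Fin 2) F)) := by
  classical
  constructor
  · rintro ⟨e⟩
    refine ⟨?_, Nat.card_congr e.toEquiv⟩
    ext l
    constructor
    · rintro ⟨x, rfl⟩; exact ⟨e x, e.orderOf_eq x⟩
    · rintro ⟨x, rfl⟩; exact ⟨e.symm x, e.symm.orderOf_eq x⟩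
  rintro ⟨hrange, hcard⟩
  have hspec : ∀ x : G, orderOf x ∈ Set.range (orderOf : Matrix.ProjectiveSpecialLinearGroup (Fin 2) F → ℕ) :=
    fun x => hrange ▸ ⟨x, rfl⟩
  obtain ⟨p, hchar⟩ := CharP.exists F
  haveI := hchar
  obtain ⟨f, hp, hq⟩ := FiniteField.card F p
  haveI : Fact p.Prime := ⟨hp⟩
  by_cases hp2 : p = 2
  · subst hp2
    have hf : 2 ≤ (f : ℕ) := by
      by_contra h
      have : (f : ℕ) = 1 := by have := f.pos; omega
      rw [this] at hq; omega
    have hev : 2 ∣ Fintype.card F := hq ▸ dvd_pow_self 2 f.pos.ne'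
    have hg : Nat.gcd 2 (Fintype.card F - 1) = 1 :=
      (Nat.prime_two.coprime_iff_not_dvd).2 (by omega)
    refine Block.SpecPSL.iso_psl_even hf hq ?_ ?_
    · have h := Classical.natCard_PSL_mul (F := F) 2 (by norm_num)
      rw [Classical.natCard_units_field, hg, one_mul, Fus.PSLTwo.natCard_SL_two, hq] at h
      rw [hcard, h]
    · intro x
      have h := hspec x
      rw [S2475.result 2 hF, hg, Nat.div_one, Nat.div_one, hq] at h
      exact h
  have hodd : Odd (Fintype.card F) := hq ▸ (hp.odd_of_ne_two hp2).pow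
  obtain ⟨a, ha, hc, hs⟩ := Block.SpecPSL.psl_data p hodd hF
  have hex : ∀ l : ℕ, (l ∣ p ∨ l ∣ a ∨ l ∣ a + 1) → ∃ x : G, orderOf x = l := fun l hl => by
    have h : l ∈ Set.range (orderOf : G → ℕ) := by rw [hrange, hs]; exact hl
    exact h
  obtain ⟨m, n, hmn, d⟩ : ∃ m n, ((m = a ∧ n = a + 1) ∨ (m = a + 1 ∧ n = a)) ∧
      Block.SpecPSL.Hyp G p (Fintype.card F) m n := by
    have h5 : 5 ≤ Fintype.card F := by obtain ⟨b, hb⟩ := hodd; omega
    rcases Nat.even_or_odd a with he | he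
    · refine ⟨a, a + 1, Or.inl ⟨rfl, rfl⟩, hp, hp2, ⟨f, hq⟩, Or.inl ⟨ha, rfl⟩, he, h5, ?_, fun x => ?_,
        hex p (Or.inl dvd_rfl), hex a (Or.inr (Or.inl dvd_rfl)), hex (a + 1) (Or.inr (Or.inr dvd_rfl))⟩
      · rw [hcard, hc]; ring
      · have h := hspec x
        rw [hs] at h
        exact h
    · refine ⟨a + 1, a, Or.inr ⟨rfl, rfl⟩, hp, hp2, ⟨f, hq⟩, Or.inr ⟨by omega, rfl⟩, he.add_one, h5, ?_,
        fun x => ?_, hex p (Or.inl dvd_rfl), hex (a + 1) (Or.inr (Or.inr dvd_rfl)),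
        hex a (Or.inr (Or.inl dvd_rfl))⟩
      · rw [hcard, hc]; ring
      · have h := hspec x
        rw [hs] at h
        exact h.imp id Or.symm
  obtain ⟨K, _, _, hK, ⟨e⟩⟩ := d.iso_psl_odd
  obtain ⟨e'⟩ := Block.SpecPSL.psl_congr (K := K) (F := F) hK
  exact ⟨e.trans e'⟩

end Cfsg.Agent.S3421
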