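import Cfsg.Statements.S3430
import Mathlib
import Cfsg.Agent.Lib.Recog.Zsigmondy
-- import your own Cfsg.Agent.* helpers here

set_option autoImplicit false
open Cfsg

namespace Cfsg.Agent.S3430

/-- Let q, n ≥ 2 be integers. Unless (n = 2 and q + 1 = 2^s·3^t for some s ≥ 0 and t ≤ 1), or (q = 2 and n ∈ {4, 6, 10, 12, 18}), or (q = 3 and n ∈ {4, 6}), or (q, n) = (5, 6), there is a prime p dividing q^n − 1 but no q^i − 1 with 1 ≤ i < n (a primitive prime divisor), such that p > n + 1 or p² divides q^n − 1. -/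
theorem result (q n : ℕ) (hq : 2 ≤ q) (hn : 2 ≤ n)
    (h1 : ¬ (n = 2 ∧ ∃ s t : ℕ, t ≤ 1 ∧ q + 1 = 2 ^ s * 3 ^ t))
    (h2 : ¬ (q = 2 ∧ (n = 4 ∨ n = 6 ∨ n = 10 ∨ n = 12 ∨ n = 18)))
    (h3 : ¬ (q = 3 ∧ (n = 4 ∨ n = 6))) (h4 : ¬ (q = 5 ∧ n = 6)) :
    ∃ p : ℕ, p.Prime ∧ p ∣ q ^ n - 1 ∧ (∀ i : ℕ, 1 ≤ i → i < n → ¬ p ∣ q ^ i - 1) ∧ (n + 1 < p ∨ p ^ 2 ∣ q ^ n - 1) := by
  rcases (show n = 2 ∨ 3 ≤ n by omega) with rfl | hn3
  · obtain ⟨e, m, hm, hem⟩ := Nat.exists_eq_pow_mul_and_not_dvd (show q + 1 ≠ 0 by omega) 2 (by norm_num)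
    have key : ∃ p, p.Prime ∧ p ∣ m ∧ (3 < p ∨ p ^ 2 ∣ m) := by
      by_contra hcon
      push Not at hcon
      have hm0 : m ≠ 0 := fun h => hm (h ▸ dvd_zero 2)
      have hsf : Squarefree m := Nat.squarefree_iff_prime_squarefree.mpr fun p hp h =>
        (hcon p hp ((dvd_mul_right p p).trans h)).2 (by rwa [pow_two])
      have hsub : m.primeFactors ⊆ {3} := fun p hp => by
        obtain ⟨hp1, hp2, -⟩ := Nat.mem_primeFactors.mp hp
        have := (hcon p hp1 hp2).1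
        have := hp1.two_le
        have : p ≠ 2 := fun h => hm (h ▸ hp2)
        simp; omega
      have hm3 : m ∣ 3 := by
        rw [← Nat.prod_primeFactors_of_squarefree hsf]
        exact (Finset.prod_dvd_prod_of_subset _ _ _ hsub).trans (dvd_of_eq (by simp))
      rcases (Nat.dvd_prime Nat.prime_three).mp hm3 with h | h
      · exact h1 ⟨rfl, e, 0, by omega, by rw [hem, h]; norm_num⟩
      · exact h1 ⟨rfl, e, 1, le_rfl, by rw [hem, h]; norm_num⟩
    obtain ⟨p, hp, hpm, hor⟩ := key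
    have hmd : m ∣ q ^ 2 - 1 := by
      rw [show q ^ 2 - 1 = q ^ 2 - 1 ^ 2 by norm_num, Nat.sq_sub_sq]
      exact (Dvd.intro_left _ hem.symm).mul_right _
    refine ⟨p, hp, hpm.trans hmd, fun i hi hin h => ?_, ?_⟩
    · obtain rfl : i = 1 := by omega
      rw [pow_one] at h
      have h' := Nat.dvd_sub ((hpm.trans (Dvd.intro_left _ hem.symm)) : p ∣ q + 1) h
      rw [show q + 1 - (q - 1) = 2 by omega] at h'
      exact hm ((Nat.prime_dvd_prime_iff_eq hp Nat.prime_two).mp h' ▸ hpm)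
    · exact hor.imp (fun h => by omega) fun h => h.trans hmd
  · obtain ⟨p, ⟨hp, hd, hprim⟩, hor⟩ := Recog.Zsigmondy.exists_large hq hn3 (fun h => by
      simp only [Recog.Zsigmondy.exceptions, List.mem_cons, Prod.mk.injEq, List.not_mem_nil, or_false] at h
      rcases h with h | h | h | h | h | h | h | h <;> obtain ⟨rfl, rfl⟩ := h <;>
        first | exact h2 ⟨rfl, by omega⟩ | exact h3 ⟨rfl, by omega⟩ | exact h4 ⟨rfl, rfl⟩)
    exact ⟨p, hp, hd, hprim, hor⟩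

end Cfsg.Agent.S3430
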