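import Cfsg.Statements.S3433
import Cfsg.Agent.S1475
import Cfsg.Agent.Lib.Block.Spec5.Main

set_option autoImplicit false
open Cfsg

namespace Cfsg.Agent.S3433

/-- A finite group whose set of element orders is exactly {1, 2, 3, 4, 5} is isomorphic to the alternating group of degree 6, or has a normal elementary abelian 2-subgroup with quotient isomorphic to the alternating group of degree 5. -/
theorem result {G : Type*} [Group G] [Finite G] (h : Set.range (orderOf : G → ℕ) = {k : ℕ | 1 ≤ k ∧ k ≤ 5}) :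
    Nonempty (G ≃* ↥(alternatingGroup (Fin 6))) ∨
      ∃ (N : Subgroup G) (_ : N.Normal), Cfsg.IsElementaryAbelian 2 N ∧ Nonempty (G ⧸ N ≃* ↥(alternatingGroup (Fin 5))) := by
  have h5 : Cfsg.Agent.Block.Spec5.Ord5 G := fun g => (h.le ⟨g, rfl⟩ : 1 ≤ orderOf g ∧ orderOf g ≤ 5).2
  refine Cfsg.Agent.Block.Spec5.main G h5 fun hs => ?_
  haveI := hs
  have hle := Cfsg.Agent.S1475.result (G := G) fun g => or_iff_not_imp_right.mpr (h5.isPrimePow g)
  have hdvd : ∀ k : ℕ, k = 2 ∨ k = 3 ∨ k = 5 → k ∣ Nat.card G := fun k hk => by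
    obtain ⟨g, rfl⟩ : k ∈ Set.range (orderOf : G → ℕ) := by rw [h]; show 1 ≤ k ∧ k ≤ 5; omega
    exact orderOf_dvd_natCard g
  have hsub : ({2, 3, 5} : Finset ℕ) ⊆ (Nat.card G).primeFactors := by
    intro k hk
    simp only [Finset.mem_insert, Finset.mem_singleton] at hk
    refine Nat.mem_primeFactors.mpr ⟨?_, hdvd k hk, Nat.card_pos.ne'⟩
    rcases hk with rfl | rfl | rfl <;> norm_num
  have := Finset.card_le_card hsub
  simp at this
  omega

end Cfsg.Agent.S3433
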