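import Cfsg.Statements.S3438
import Mathlib
import Cfsg.Agent.Lib.Recog.FrobeniusData7
import Cfsg.Agent.Lib.Recog.SpectrumPSU3Three
-- import your own Cfsg.Agent.* helpers here

set_option autoImplicit false
open Cfsg

namespace Cfsg.Agent.S3438

/-- There is a finite solvable group with exactly the same set of element orders as the simple group PSU(3,3) (realised over the field with 9 elements). -/
theorem result {F : Type*} [Field F] [Fintype F] (hF : Fintype.card F = 9) :
    ∃ (H : Type) (_ : Group H) (_ : Fintype H), Group.IsSolvable H ∧ Set.range (orderOf : H → ℕ) = Set.range (orderOf : Cfsg.PSU 3 F 3 → ℕ) := by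
  rw [SpectrumPSU3Three.range_orderOf hF]
  have hs : Group.IsSolvable (FrobSpec.grp (p := 7) FrobSpec.chain7_0 FrobSpec.closed7_0) := by
    have h0 : derivedSeries (FrobSpec.grp (p := 7) FrobSpec.chain7_0 FrobSpec.closed7_0) 0 ≤
        (FrobSpec.grp (p := 7) FrobSpec.chain7_0 FrobSpec.closed7_0).subgroupOf _ := by
      intro g _; exact g.2
    exact FrobSpec.isSolvable_of_derived _ FrobSpec.closed7_2 (by decide +kernel)
      (FrobSpec.derived_le _ FrobSpec.closed7_1 FrobSpec.closed7_2 FrobSpec.comm7_1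
        (FrobSpec.derived_le _ FrobSpec.closed7_0 FrobSpec.closed7_1 FrobSpec.comm7_0 h0))
  refine ⟨FrobSpec.Aff (FrobSpec.grp (p := 7) FrobSpec.chain7_0 FrobSpec.closed7_0), inferInstance, inferInstance,
    FrobSpec.isSolvable_aff _ hs, ?_⟩
  ext n
  simp only [Set.mem_insert_iff, Set.mem_singleton_iff]
  constructor
  · rintro ⟨x, rfl⟩
    rcases FrobSpec.order_cases FrobSpec.closed7_0 FrobSpec.data7 (FrobSpec.reduced_all _)
      (fun y _ k _ => FrobSpec.length_lpow _ k) (by decide) x with h | h | h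
    · simp [h]
    · simp [h]
    · simp only [List.mem_cons, List.not_mem_nil, or_false] at h
      omega
  · intro hn
    have key : ∀ m ∈ [2, 3, 4, 6, 8, 12], ∃ x ∈ FrobSpec.chain7_0, FrobSpec.lpow 7 x.1 m = FrobSpec.lone ∧
        ∀ k < m, 0 < k → ∃ i < 16, ((FrobSpec.lpow 7 x.1 k).getD i 0 : ZMod 7) ≠ (FrobSpec.lone.getD i 0 : ZMod 7) := by
      decide +kernel
    have fin : ∀ m, m ∈ [2, 3, 4, 6, 8, 12] → 0 < m → n = m → n ∈ Set.range (orderOf :
        FrobSpec.Aff (FrobSpec.grp (p := 7) FrobSpec.chain7_0 FrobSpec.closed7_0) → ℕ) := fun m hm hm0 e => by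
      subst e
      obtain ⟨x, hx, h1, h2⟩ := key n hm
      exact FrobSpec.mem_range_orderOf _ hx hm0 h1 h2
    rcases hn with rfl | h | h | h | h | rfl | h | h
    · exact ⟨1, orderOf_one⟩
    · exact fin 2 (by simp) (by norm_num) h
    · exact fin 3 (by simp) (by norm_num) h
    · exact fin 4 (by simp) (by norm_num) h
    · exact fin 6 (by simp) (by norm_num) h
    · exact FrobSpec.p_mem_range_orderOf _
    · exact fin 8 (by simp) (by norm_num) h
    · exact fin 12 (by simp) (by norm_num) h

end Cfsg.Agent.S3438
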