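import Cfsg.Statements.S3443
import Mathlib

set_option autoImplicit false
open Cfsg

namespace Cfsg.Agent.S3443

/-- Let G be a finite group and V a normal elementary abelian subgroup of G (abelian of prime exponent p, possibly trivial). Then the semidirect product V ⋊ G, with G acting on V by conjugation, has exactly the same set of element orders as G. -/
theorem result {G : Type*} [Group G] [Finite G] (V : Subgroup G) [V.Normal] (p : ℕ) (hp : p.Prime)
    (hcomm : ∀ x y : V, x * y = y * x) (hexp : ∀ x : V, x ^ p = 1) :
    Set.range (orderOf : V ⋊[MulAut.conjNormal] G → ℕ) = Set.range (orderOf : G → ℕ) := by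
  have hV1 : ∀ v : V, v ^ p = 1 := hexp
  refine Set.Subset.antisymm ?_ ?_
  · rintro _ ⟨⟨v, g⟩, rfl⟩
    let φ : V ⋊[MulAut.conjNormal] G →* G :=
      SemidirectProduct.lift V.subtype (MonoidHom.id G) (fun g => by ext v; simp)
    set w : V ⋊[MulAut.conjNormal] G := ⟨v, g⟩ with hw
    by_cases hφ : orderOf (φ w) = orderOf w
    · exact ⟨φ w, hφ⟩
    refine ⟨g, ?_⟩
    have hr : SemidirectProduct.rightHom w = g := rfl
    have hd : orderOf g ∣ orderOf w := hr ▸ orderOf_map_dvd _ w
    have hker : (w ^ orderOf g).right = 1 := by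
      have : SemidirectProduct.rightHom (w ^ orderOf g) = 1 := by rw [map_pow, hr, pow_orderOf_eq_one]
      exact this
    obtain ⟨u, hu⟩ : ∃ u : V, w ^ orderOf g = SemidirectProduct.inl u :=
      ⟨(w ^ orderOf g).left, SemidirectProduct.ext rfl hker⟩
    by_cases hu1 : u = 1
    · refine Nat.dvd_antisymm hd (orderOf_dvd_of_pow_eq_one ?_)
      rw [hu, hu1, map_one]
    · exfalso
      apply hφ
      refine Nat.dvd_antisymm (orderOf_map_dvd _ w) ?_
      set y : G := φ w with hy
      have hφu : y ^ orderOf g = (u : G) := by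
        rw [hy, ← map_pow, hu]
        simp [φ]
      have hne : y ^ orderOf g ≠ 1 := by rw [hφu]; simpa using hu1
      set π := QuotientGroup.mk' V with hπ
      set d := orderOf (π g) with hd0
      have hπy : π y = π g := by
        have : y = (v : G) * g := by simp [hy, hw, φ, SemidirectProduct.mk_eq_inl_mul_inr]
        rw [this, map_mul, show π (v : G) = 1 from (QuotientGroup.eq_one_iff _).mpr v.2, one_mul]
      have hpow : ∀ z : G, π z = π g → z ^ (d * p) = 1 := by
        intro z hz
        have hm : z ^ d ∈ V := by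
          rw [← QuotientGroup.eq_one_iff, ← QuotientGroup.mk'_apply, ← hπ, map_pow, hz, pow_orderOf_eq_one]
        rw [pow_mul]
        exact congrArg Subtype.val (hV1 ⟨_, hm⟩)
      obtain ⟨e, he⟩ : d ∣ orderOf g := orderOf_map_dvd π g
      have hdp : orderOf g ∣ d * p := orderOf_dvd_of_pow_eq_one (hpow g rfl)
      have hd_pos : 0 < d := orderOf_pos _
      have hep : e ∣ p := by rw [he] at hdp; exact (Nat.mul_dvd_mul_iff_left hd_pos).mp hdp
      rcases (Nat.dvd_prime hp).mp hep with h | h
      · have hgd : orderOf g = d := by rw [he, h, mul_one]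
        obtain ⟨f, hf⟩ : d ∣ orderOf y := by rw [hd0, ← hπy]; exact orderOf_map_dvd π y
        have hfp : f ∣ p := by
          have := orderOf_dvd_of_pow_eq_one (hpow y hπy)
          rw [hf] at this
          exact (Nat.mul_dvd_mul_iff_left hd_pos).mp this
        rcases (Nat.dvd_prime hp).mp hfp with h' | h'
        · exact absurd (orderOf_dvd_iff_pow_eq_one.mp (by rw [hf, h', mul_one, hgd])) hne
        · rw [hf, h', ← hgd]
          apply orderOf_dvd_of_pow_eq_one
          rw [pow_mul, hu, ← map_pow, hV1, map_one]
      · exact absurd (by rw [he, h]; exact hpow y hπy) hne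
  · rintro _ ⟨g, rfl⟩
    exact ⟨SemidirectProduct.inr g, orderOf_injective _ SemidirectProduct.inr_injective g⟩

end Cfsg.Agent.S3443
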