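import Cfsg.Statements.S3444
import Mathlib
import Cfsg.Agent.S3443

set_option autoImplicit false
open Cfsg

namespace Cfsg.Agent.S3444

/-- A finite group with a non-trivial solvable normal subgroup is not determined by its set of element orders, not even up to finitely many possibilities: for every bound N there is a finite group of order greater than N with exactly the same set of element orders. -/
theorem result {G : Type*} [Group G] [Finite G] (K : Subgroup G) [K.Normal] (hK : K ≠ ⊥)
    (hs : Group.IsSolvable K) (N : ℕ) :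
    ∃ (H : Type) (_ : Group H) (_ : Fintype H), N < Fintype.card H ∧ Set.range (orderOf : H → ℕ) = Set.range (orderOf : G → ℕ) := by
  classical
  -- a nontrivial normal elementary abelian subgroup
  have habel : ∃ A : Subgroup G, A.Normal ∧ A ≠ ⊥ ∧ ∀ x ∈ A, ∀ y ∈ A, x * y = y * x := by
    haveI := hs
    obtain ⟨n, hn⟩ := Group.IsSolvable.solvable (G := K)
    have hchar : ∀ j, (derivedSeries K j).Characteristic := fun j => inferInstance
    have hex : ∃ j, derivedSeries K j = ⊥ := ⟨n, hn⟩
    let d := Nat.find hex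
    have hd := Nat.find_spec hex
    have hd0 : d ≠ 0 := by
      intro h
      have h' : derivedSeries K 0 = ⊥ := h ▸ hd
      rw [derivedSeries_zero] at h'
      apply hK
      rw [Subgroup.eq_bot_iff_forall]
      intro x hx
      have hm : (⟨x, hx⟩ : K) ∈ (⊥ : Subgroup K) := by rw [← h']; exact Subgroup.mem_top _
      exact congrArg Subtype.val (Subgroup.mem_bot.mp hm)
    obtain ⟨j, hj⟩ := Nat.exists_eq_succ_of_ne_zero hd0
    have hjne : derivedSeries K j ≠ ⊥ := Nat.find_min hex (show j < d by omega)
    refine ⟨(derivedSeries K j).map K.subtype, inferInstance, ?_, ?_⟩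
    · intro h
      exact hjne (by rwa [Subgroup.map_eq_bot_iff_of_injective _ K.subtype_injective] at h)
    · have hcom : ⁅derivedSeries K j, derivedSeries K j⁆ = ⊥ := by
        rw [← derivedSeries_succ]; rw [show j + 1 = d from hj.symm]; exact hd
      rintro _ ⟨x, hx, rfl⟩ _ ⟨y, hy, rfl⟩
      have := Subgroup.commutator_eq_bot_iff_le_centralizer.mp hcom hx
      exact congrArg K.subtype (Subgroup.mem_centralizer_iff.mp this y hy).symm
  obtain ⟨A, hAn, hA1, hAc⟩ := habel
  obtain ⟨r, hr, hrd⟩ := Nat.exists_prime_and_dvd (fun h => hA1 (Subgroup.card_eq_one.mp h))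
  let V : Subgroup G :=
    { carrier := {x | x ∈ A ∧ x ^ r = 1}
      one_mem' := ⟨A.one_mem, one_pow r⟩
      mul_mem' := fun {x y} hx hy => ⟨A.mul_mem hx.1 hy.1, by
        rw [(show Commute x y from hAc x hx.1 y hy.1).mul_pow, hx.2, hy.2, one_mul]⟩
      inv_mem' := fun {x} hx => ⟨A.inv_mem hx.1, by rw [inv_pow, hx.2, inv_one]⟩ }
  have hVn : V.Normal := ⟨fun x hx g => ⟨hAn.conj_mem x hx.1 g, by rw [conj_pow, hx.2]; group⟩⟩
  have hV1 : V ≠ ⊥ := by
    haveI := Fact.mk hr
    obtain ⟨x, hx⟩ := exists_prime_orderOf_dvd_card' r hrd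
    intro h
    have hxV : (x : G) ∈ V := ⟨x.2, by
      rw [← SubgroupClass.coe_pow, ← hx, pow_orderOf_eq_one]; rfl⟩
    rw [h, Subgroup.mem_bot, OneMemClass.coe_eq_one] at hxV
    rw [hxV, orderOf_one] at hx
    exact hr.one_lt.ne hx
  have key : ∀ M : ℕ, ∃ (H : Type) (_ : Group H) (_ : Finite H) (W : Subgroup H) (_ : W.Normal),
      M < Nat.card H ∧ W ≠ ⊥ ∧ (∀ x y : W, x * y = y * x) ∧ (∀ x : W, x ^ r = 1) ∧
        Set.range (orderOf : H → ℕ) = Set.range (orderOf : G → ℕ) := by
    intro M
    induction M with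
    | zero =>
      let E : G ≃* Shrink.{0} G := Shrink.mulEquiv.symm
      haveI : Finite (Shrink.{0} G) := Finite.of_equiv G E.toEquiv
      refine ⟨Shrink.{0} G, inferInstance, inferInstance, V.map E.toMonoidHom, hVn.map _ E.surjective,
        Nat.card_pos, ?_, ?_, ?_, ?_⟩
      · rwa [Ne, Subgroup.map_eq_bot_iff_of_injective _ E.injective]
      · rintro ⟨_, x, hx, rfl⟩ ⟨_, y, hy, rfl⟩
        exact Subtype.ext (by
          show E x * E y = E y * E x
          rw [← map_mul, hAc x hx.1 y hy.1, map_mul])
      · rintro ⟨_, x, hx, rfl⟩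
        exact Subtype.ext (by
          show (E x) ^ r = 1
          rw [← map_pow, hx.2, map_one])
      · ext n
        simp only [Set.mem_range]
        exact ⟨fun ⟨y, hy⟩ => ⟨E.symm y, by rw [MulEquiv.orderOf_eq, hy]⟩,
          fun ⟨x, hx⟩ => ⟨E x, by rw [MulEquiv.orderOf_eq, hx]⟩⟩
    | succ M ih =>
      obtain ⟨H, iG, iF, W, hWn, hM, hW1, hWc, hWe, hspec⟩ := ih
      let P := W ⋊[MulAut.conjNormal] H
      haveI : Finite P := Finite.of_equiv _ SemidirectProduct.equivProd.symm
      have hWn' : (SemidirectProduct.inl : W →* P).range.Normal := by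
        rw [SemidirectProduct.range_inl_eq_ker_rightHom]; infer_instance
      refine ⟨P, inferInstance, inferInstance, (SemidirectProduct.inl : W →* P).range, hWn', ?_, ?_, ?_, ?_, ?_⟩
      · rw [SemidirectProduct.card]
        have h2 : 1 < Nat.card W := (Subgroup.one_lt_card_iff_ne_bot W).mpr hW1
        have h3 : 2 * Nat.card H ≤ Nat.card W * Nat.card H := Nat.mul_le_mul_right _ h2
        omega
      · intro h
        rw [MonoidHom.range_eq_bot_iff] at h
        apply hW1
        rw [Subgroup.eq_bot_iff_forall]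
        intro x hx
        have := SemidirectProduct.inl_injective (φ := (MulAut.conjNormal : H →* MulAut W))
          (a₁ := ⟨x, hx⟩) (a₂ := 1) (by rw [h]; rfl)
        exact congrArg Subtype.val this
      · rintro ⟨_, x, rfl⟩ ⟨_, y, rfl⟩
        exact Subtype.ext (by
          show SemidirectProduct.inl x * SemidirectProduct.inl y = SemidirectProduct.inl y * SemidirectProduct.inl x
          rw [← map_mul, hWc, map_mul])
      · rintro ⟨_, x, rfl⟩
        exact Subtype.ext (by
          show (SemidirectProduct.inl x : P) ^ r = 1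
          rw [← map_pow, hWe, map_one])
      · exact (Cfsg.Agent.S3443.result W r hr hWc hWe).trans hspec
  obtain ⟨H, iG, iF, W, -, hM, -, -, -, hspec⟩ := key N
  exact ⟨H, iG, Fintype.ofFinite H, by rw [← @Nat.card_eq_fintype_card]; exact hM, hspec⟩

end Cfsg.Agent.S3444
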