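import Cfsg.Statements.S3448
import Mathlib
import Cfsg.Agent.Lib.Recog.A5Spectrum

set_option autoImplicit false
open Cfsg

namespace Cfsg.Agent.S3448

/-- The set of element orders of the direct product of two copies of the alternating group of degree 5 is {1, 2, 3, 5, 6, 10, 15}. (It is shared by the direct product of two Frobenius groups of orders 50 and 75, so this direct product is not determined by its element orders.) -/
theorem result : Set.range (orderOf : alternatingGroup (Fin 5) × alternatingGroup (Fin 5) → ℕ) = {1, 2, 3, 5, 6, 10, 15} := by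
  ext n
  constructor
  · rintro ⟨⟨a, b⟩, rfl⟩
    rw [Prod.orderOf]
    simp only
    rcases Cfsg.Agent.Recog.a5_orderOf a with h | h | h | h <;>
    rcases Cfsg.Agent.Recog.a5_orderOf b with h' | h' | h' | h' <;>
    simp [h, h', Nat.lcm]
  · intro hn
    obtain ⟨k, l, hk, hl, rfl⟩ : ∃ k l, (k = 1 ∨ k = 2 ∨ k = 3 ∨ k = 5) ∧ (l = 1 ∨ l = 2 ∨ l = 3 ∨ l = 5) ∧ n = Nat.lcm k l := by
      simp only [Set.mem_insert_iff, Set.mem_singleton_iff] at hn
      rcases hn with rfl | rfl | rfl | rfl | rfl | rfl | rfl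
      exacts [⟨1, 1, by simp, by simp, rfl⟩, ⟨1, 2, by simp, by simp, rfl⟩, ⟨1, 3, by simp, by simp, rfl⟩,
        ⟨1, 5, by simp, by simp, rfl⟩, ⟨2, 3, by simp, by simp, rfl⟩, ⟨2, 5, by simp, by simp, rfl⟩,
        ⟨3, 5, by simp, by simp, rfl⟩]
    obtain ⟨a, ha⟩ := Cfsg.Agent.Recog.a5_exists_order hk
    obtain ⟨b, hb⟩ := Cfsg.Agent.Recog.a5_exists_order hl
    exact ⟨(a, b), by rw [Prod.orderOf]; simp [ha, hb]⟩

end Cfsg.Agent.S3448
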