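import Cfsg.Statements.S3449
import Mathlib
import Cfsg.Agent.Lib.Recog.A5Spectrum

set_option autoImplicit false
open Cfsg

namespace Cfsg.Agent.S3449

/-- The direct product of three copies of the alternating group of degree 5 has exactly the same set of element orders as the cyclic group of order 30, namely the divisors of 30; in particular a direct power of a non-abelian simple group need not be determined by its element orders. -/
theorem result : Set.range (orderOf : alternatingGroup (Fin 5) × alternatingGroup (Fin 5) × alternatingGroup (Fin 5) → ℕ) =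
      Set.range (orderOf : Multiplicative (ZMod 30) → ℕ) := by
  have h30 : Set.range (orderOf : Multiplicative (ZMod 30) → ℕ) = {d | d ∣ 30} := by
    ext d
    constructor
    · rintro ⟨x, rfl⟩
      have : Nat.card (Multiplicative (ZMod 30)) = 30 := by simp
      show orderOf x ∣ 30
      have h := orderOf_dvd_natCard x
      rwa [this] at h
    · rintro ⟨e, he⟩
      refine ⟨Multiplicative.ofAdd (e : ZMod 30), ?_⟩
      rw [orderOf_ofAdd_eq_addOrderOf, ZMod.addOrderOf_coe e (by norm_num), he,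
        Nat.gcd_eq_right ⟨d, by ring⟩]
      rcases Nat.eq_zero_or_pos e with rfl | he0
      · simp at he
      · rw [Nat.mul_div_cancel _ he0]
  rw [h30]
  ext n
  constructor
  · rintro ⟨⟨a, b, c⟩, rfl⟩
    rw [Prod.orderOf, Prod.orderOf]
    simp only [Set.mem_setOf_eq]
    refine Nat.lcm_dvd ?_ (Nat.lcm_dvd ?_ ?_)
    · rcases Cfsg.Agent.Recog.a5_orderOf a with h | h | h | h <;> rw [h] <;> norm_num
    · rcases Cfsg.Agent.Recog.a5_orderOf b with h | h | h | h <;> rw [h] <;> norm_num
    · rcases Cfsg.Agent.Recog.a5_orderOf c with h | h | h | h <;> rw [h] <;> norm_num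
  · intro hn
    obtain ⟨k, l, m, hk, hl, hm, rfl⟩ : ∃ k l m, (k = 1 ∨ k = 2 ∨ k = 3 ∨ k = 5) ∧
        (l = 1 ∨ l = 2 ∨ l = 3 ∨ l = 5) ∧ (m = 1 ∨ m = 2 ∨ m = 3 ∨ m = 5) ∧ n = Nat.lcm k (Nat.lcm l m) := by
      have : n ∈ Nat.divisors 30 := Nat.mem_divisors.mpr ⟨hn, by norm_num⟩
      rw [show Nat.divisors 30 = {1, 2, 3, 5, 6, 10, 15, 30} by decide] at this
      simp only [Finset.mem_insert, Finset.mem_singleton] at this
      rcases this with rfl | rfl | rfl | rfl | rfl | rfl | rfl | rfl
      exacts [⟨1, 1, 1, by simp, by simp, by simp, rfl⟩, ⟨1, 1, 2, by simp, by simp, by simp, rfl⟩,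
        ⟨1, 1, 3, by simp, by simp, by simp, rfl⟩, ⟨1, 1, 5, by simp, by simp, by simp, rfl⟩,
        ⟨1, 2, 3, by simp, by simp, by simp, rfl⟩, ⟨1, 2, 5, by simp, by simp, by simp, rfl⟩,
        ⟨1, 3, 5, by simp, by simp, by simp, rfl⟩, ⟨2, 3, 5, by simp, by simp, by simp, rfl⟩]
    obtain ⟨a, ha⟩ := Cfsg.Agent.Recog.a5_exists_order hk
    obtain ⟨b, hb⟩ := Cfsg.Agent.Recog.a5_exists_order hl
    obtain ⟨c, hc⟩ := Cfsg.Agent.Recog.a5_exists_order hm
    exact ⟨(a, b, c), by rw [Prod.orderOf, Prod.orderOf]; simp [ha, hb, hc]⟩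

end Cfsg.Agent.S3449
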