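import Cfsg.Statements.S3452
import Cfsg.Agent.Lib.Invol.PGLTwoIsospectral
import Cfsg.Agent.Lib.Invol.PGLTwoSpectrum

set_option autoImplicit false
open Cfsg

namespace Cfsg.Agent.S3452

/-- For F a finite field whose number of elements is a prime or equals 9, the group PGL(2,F) = GL(2,F)/Z(GL(2,F)) is not determined by its set of element orders: for every bound N there is a finite group of order greater than N with exactly the same set of element orders as PGL(2,F). -/
theorem result {F : Type*} [Field F] [Fintype F] (hF : (Fintype.card F).Prime ∨ Fintype.card F = 9) (N : ℕ) :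
    ∃ (H : Type) (_ : Group H) (_ : Fintype H), N < Fintype.card H ∧
      Set.range (orderOf : H → ℕ) = Set.range (orderOf : Matrix.GeneralLinearGroup (Fin 2) F ⧸ Subgroup.center (Matrix.GeneralLinearGroup (Fin 2) F) → ℕ) := by
  obtain ⟨p, hp⟩ := CharP.exists F
  obtain ⟨⟨f, hf⟩, hpp, hq⟩ := FiniteField.card F p
  haveI : Fact p.Prime := ⟨hpp⟩
  have hS := Cfsg.Agent.Invol.PGL2Spec.range_orderOf (F := F) p
  rw [hS]
  rcases hF with hF | hF
  · have hf1 : f = 1 := by
      have := Nat.Prime.eq_one_of_pow (hq ▸ hF)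
      simpa using this
    have hqp : Fintype.card F = p := by rw [hq]; simp [hf1]
    rw [hqp]
    by_cases hp2 : p = 2
    · subst hp2; exact Cfsg.Agent.Invol.PGL2Iso.two N
    · exact Cfsg.Agent.Invol.PGL2Iso.odd_prime p hp2 N
  · have hp3 : p = 3 := by
      have h : p ∣ 9 := by rw [← hF, hq]; exact dvd_pow_self p hf.ne'
      have h' : p ∣ 3 ^ 2 := h
      exact (Nat.prime_dvd_prime_iff_eq hpp Nat.prime_three).1 (hpp.dvd_of_dvd_pow h')
    subst hp3
    rw [hF]; exact Cfsg.Agent.Invol.PGL2Iso.nine N

end Cfsg.Agent.S3452
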