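import Cfsg.Statements.S3466
import Cfsg.Agent.Lib.Recog.SpFourCoverEven
import Cfsg.Agent.Lib.Recog.SpFourCoverOdd
import Cfsg.Agent.Lib.Recog.SpFourCoverThree
import Cfsg.Agent.Lib.Recog.SpFourCoverThreeSmall
-- import your own Cfsg.Agent.* helpers here

set_option autoImplicit false
open Cfsg

namespace Cfsg.Agent.S3466

/-- Let F be a finite field with q ≥ 3 elements such that q is not of the form 3^(2t+1) with t ≥ 1. Then PSp(4,F) is not determined by its set of element orders, not even up to finitely many groups: for every bound N there is a finite group of order greater than N with exactly the same set of element orders as PSp(4,F). -/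
theorem result {F : Type*} [Field F] [Fintype F] (h3 : 3 ≤ Fintype.card F) (hq : ∀ t : ℕ, 1 ≤ t → Fintype.card F ≠ 3 ^ (2 * t + 1)) (N : ℕ) :
    ∃ (H : Type) (_ : Group H) (_ : Fintype H), N < Fintype.card H ∧ Set.range (orderOf : H → ℕ) = Set.range (orderOf : Cfsg.PSp 2 F → ℕ) := by
  classical
  obtain ⟨p, hp⟩ := CharP.exists F
  haveI := hp
  have hpp : p.Prime := CharP.char_is_prime F p
  haveI : Fact p.Prime := ⟨hpp⟩
  set q := Fintype.card F with hqdef
  obtain ⟨k, -, hk'⟩ := FiniteField.card F p
  obtain ⟨k, hk, hk0⟩ : ∃ k' : ℕ, q = p ^ k' ∧ k' ≠ 0 := ⟨k, hk', k.pos.ne'⟩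
  have hG := Recog.SpFourOrd.upper (F := F) p
  have hG' := Recog.SpFourOrd.lower (F := F) p
  let K := GaloisField p (k * 2)
  letI : Fintype K := Fintype.ofFinite K
  have hK : Fintype.card K = q ^ 2 := by
    rw [← Nat.card_eq_fintype_card, GaloisField.card p (k * 2) (by omega), hk, ← pow_mul]
  haveI : Finite (Module.End K (Matrix (Fin 2) (Fin 2) K)) :=
    Finite.of_injective (fun f => (f : Matrix (Fin 2) (Fin 2) K → Matrix (Fin 2) (Fin 2) K)) DFunLike.coe_injective
  haveI : Finite (Module.End K (Matrix (Fin 2 × Fin 2) (Fin 2 × Fin 2) K)) :=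
    Finite.of_injective (fun f => (f : Matrix (Fin 2 × Fin 2) (Fin 2 × Fin 2) K → Matrix (Fin 2 × Fin 2) (Fin 2 × Fin 2) K))
      DFunLike.coe_injective
  rcases eq_or_ne p 2 with rfl | hp2
  · refine Recog.ModCover.package (Recog.SpFourCover.rep hk : Matrix.SpecialLinearGroup (Fin 2) K →* _) N _ ?_
    haveI : Finite (Recog.ModCover.H (Recog.SpFourCover.rep hk : Matrix.SpecialLinearGroup (Fin 2) K →* _) N) :=
      Finite.of_equiv _ SemidirectProduct.equivProd.symm
    exact Recog.SpFourOrd.range_eq_of_list (Recog.SpFourOrd.OrdList q 2)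
      (Recog.SpFourCover.upper_even hk hK) hG (Recog.SpFourCover.lower_even hk hK hk0) hG'
  rcases eq_or_ne p 3 with rfl | hp3
  · rcases Nat.even_or_odd k with heven | ⟨t, ht⟩
    · refine Recog.ModCover.package (Recog.SpFourCover.rep3R (K := K) hk) N _ ?_
      haveI : Finite (Recog.SpFourCover.Cover3 (K := K) hk N) := Finite.of_equiv _ SemidirectProduct.equivProd.symm
      exact Recog.SpFourOrd.range_eq_of_list (Recog.SpFourOrd.OrdList q 3)
        (Recog.SpFourCover.upper_three hk heven hk0 hK) hG (Recog.SpFourCover.lower_three hk heven hk0 hK) hG'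
    · have ht0 : t = 0 := by
        by_contra h
        exact hq t (by omega) (by rw [hk, ht])
      have hq3 : q = 3 := by rw [hk, ht, ht0]; norm_num
      let F4 := GaloisField 2 2
      letI : Fintype F4 := Fintype.ofFinite F4
      have hF4 : Fintype.card F4 = 4 := by rw [← Nat.card_eq_fintype_card, GaloisField.card 2 2 two_ne_zero]; norm_num
      letI : Fintype (Recog.ProjLine.P1 F4) := Fintype.ofFinite _
      haveI : Nontrivial (Recog.SpFourCoverSmall.V F4) := by
        obtain ⟨h, hh⟩ := Recog.SpFourCoverSmall.lower_small hF4 (n := 0) 9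
          (by rw [Recog.SpFourOrd.OrdList, if_neg (by norm_num)]; simp)
        by_contra hnt
        rw [not_nontrivial_iff_subsingleton] at hnt
        have h2 := orderOf_injective (SemidirectProduct.rightHom : _ →* Recog.SpFourCoverSmall.aff F4)
          (fun x y hxy => SemidirectProduct.ext (Subsingleton.elim _ _) hxy) h
        have hr := Recog.SpFourCoverSmall.spectrum hF4
        have : orderOf (SemidirectProduct.rightHom h) ∈ ({1, 2, 3, 4, 5} : Set ℕ) := hr ▸ ⟨_, rfl⟩
        simp only [Set.mem_insert_iff, Set.mem_singleton_iff] at this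
        rw [← h2] at hh
        rcases this with e | e | e | e | e <;> rw [e] at hh <;> omega
      refine Recog.ModCover.package (Recog.SpFourCoverSmall.rep F4) N _ ?_
      haveI : Finite (Recog.ModCover.H (Recog.SpFourCoverSmall.rep F4) N) :=
        Finite.of_equiv _ SemidirectProduct.equivProd.symm
      rw [show Fintype.card F = 3 from hq3] at hG hG'
      exact Recog.SpFourOrd.range_eq_of_list (Recog.SpFourOrd.OrdList 3 3)
        (Recog.SpFourCoverSmall.upper_small hF4) hG (Recog.SpFourCoverSmall.lower_small hF4) hG'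
  · have h5 : 5 ≤ p := by
      by_contra h
      have := hpp.two_le
      obtain h4 | h4 | h4 : p = 2 ∨ p = 3 ∨ p = 4 := by omega
      · exact hp2 h4
      · exact hp3 h4
      · rw [h4] at hpp; norm_num at hpp
    refine Recog.ModCover.package (Recog.SpFourCover.repR (K := K) hk hK) N _ ?_
    haveI : Finite (Recog.SpFourCover.Cover (K := K) hk hK N) := Finite.of_equiv _ SemidirectProduct.equivProd.symm
    exact Recog.SpFourOrd.range_eq_of_list (Recog.SpFourOrd.OrdList q p)
      (Recog.SpFourCover.upper_odd h5 hk hK) hG (Recog.SpFourCover.lower_odd h5 hk hK hk0) hG'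

end Cfsg.Agent.S3466
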