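import Cfsg.Statements.S3486
import Cfsg.Agent.Lib.Perm.S8Spec
import Cfsg.Agent.Lib.Spor.J2.Structure
-- import your own Cfsg.Agent.* helpers here

set_option autoImplicit false
open Cfsg

namespace Cfsg.Agent.S3486

/-- the difference map from functions on eight points to functions on ordered pairs -/
def diff (v : Fin 8 → ZMod 2) : Fin 8 → Fin 8 → ZMod 2 := fun a b => v a + v b

/-- copies of the six-dimensional module of the symmetric group of degree eight -/
def Wsub (M : ℕ) : AddSubgroup (Fin M → Fin 8 → Fin 8 → ZMod 2) where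
  carrier := {f | ∀ k, ∃ v : Fin 8 → ZMod 2, (∑ x, v x) = 0 ∧ f k = diff v}
  zero_mem' := fun k => ⟨0, by simp, by funext a b; simp [diff]⟩
  add_mem' := fun {f g} hf hg k => by
    obtain ⟨v, hv, ev⟩ := hf k
    obtain ⟨w, hw, ew⟩ := hg k
    refine ⟨v + w, by simp [Finset.sum_add_distrib, hv, hw], ?_⟩
    funext a b
    simp only [Pi.add_apply, ev, ew, diff]
    ring
  neg_mem' := fun {f} hf k => by
    obtain ⟨v, hv, ev⟩ := hf k
    exact ⟨v, hv, by funext a b; simp only [Pi.neg_apply, ev, ZMod.neg_eq_self_mod_two]⟩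

theorem moved_mem {M : ℕ} (g : alternatingGroup (Fin 8)) {f : Fin M → Fin 8 → Fin 8 → ZMod 2} (hf : f ∈ Wsub M) :
    (fun k a b => f k ((g : Equiv.Perm (Fin 8))⁻¹ a) ((g : Equiv.Perm (Fin 8))⁻¹ b)) ∈ Wsub M := fun k => by
  obtain ⟨v, hv, ev⟩ := hf k
  refine ⟨fun x => v ((g : Equiv.Perm (Fin 8))⁻¹ x), ?_, by funext a b; simp only [ev, diff]⟩
  rw [Equiv.sum_comp (g : Equiv.Perm (Fin 8))⁻¹ v, hv]

/-- the action of one element -/
def sig (M : ℕ) (g : alternatingGroup (Fin 8)) : Wsub M ≃+ Wsub M where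
  toFun f := ⟨_, moved_mem g f.2⟩
  invFun f := ⟨_, moved_mem g⁻¹ f.2⟩
  left_inv f := by
    refine Subtype.ext (funext fun k => funext fun a => funext fun b => ?_)
    simp
  right_inv f := by
    refine Subtype.ext (funext fun k => funext fun a => funext fun b => ?_)
    simp
  map_add' f g := rfl

/-- the action -/
def rho (M : ℕ) : alternatingGroup (Fin 8) →* MulAut (Multiplicative (Wsub M)) where
  toFun g := AddEquiv.toMultiplicative (sig M g)
  map_one' := MulEquiv.ext fun _ => rfl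
  map_mul' g h := MulEquiv.ext fun x => by
    refine Multiplicative.toAdd.injective (Subtype.ext (funext fun k => funext fun a => funext fun b => ?_))
    simp [sig]

theorem prod_entry {M : ℕ} (g : alternatingGroup (Fin 8)) (x : Multiplicative (Wsub M)) (n : ℕ) (k : Fin M) (a b : Fin 8) :
    (Multiplicative.toAdd (∏ i ∈ Finset.range n, rho M (g ^ i) x)).1 k a b =
      ∑ i ∈ Finset.range n, (Multiplicative.toAdd x).1 k (((g : Equiv.Perm (Fin 8)) ^ i)⁻¹ a)
        (((g : Equiv.Perm (Fin 8)) ^ i)⁻¹ b) := by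
  induction n with
  | zero => simp
  | succ n ih =>
    rw [Finset.prod_range_succ, Finset.sum_range_succ, ← ih]
    rfl

theorem sq_one {M : ℕ} (x : Multiplicative (Wsub M)) : x ^ 2 = 1 := by
  refine Multiplicative.toAdd.injective (Subtype.ext (funext fun k => funext fun a => funext fun b => ?_))
  rw [toAdd_pow, toAdd_one, two_nsmul]
  exact CharTwo.add_self_eq_zero _

theorem cycle_types (m : Multiset ℕ) (hsum : m.sum ≤ 8) (h2 : ∀ a ∈ m, 2 ≤ a) :
    ((m.sum + Multiset.card m) % 2 = 0 → m.lcm ∈ [1, 2, 3, 4, 5, 6, 7, 15]) ∧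
      (m.lcm = 7 ∨ m.lcm = 15 → m = {7} ∨ m = {5, 3}) := by
  set l := m.sort (· ≥ ·) with hl
  have hm : (l : Multiset ℕ) = m := Multiset.sort_eq _ _
  rw [← hm] at hsum h2 ⊢
  simp only [Multiset.sum_coe, Multiset.coe_card, Multiset.mem_coe] at hsum h2 ⊢
  have hlen : l.length ≤ 4 := by
    have := List.card_nsmul_le_sum l 2 h2
    simp only [smul_eq_mul] at this
    omega
  have hmem := S8Spec.mem_genP 4 l 8 8 hlen (Multiset.pairwise_sort _ _)
    (fun a ha => ⟨h2 a ha, (List.le_sum_of_mem ha).trans hsum⟩) hsum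
  rw [show Multiset.lcm (l : Multiset ℕ) = l.foldr Nat.lcm 1 from rfl]
  have key : ∀ q ∈ S8Spec.genP 4 8 8, ((q.sum + q.length) % 2 = 0 → q.foldr Nat.lcm 1 ∈ [1, 2, 3, 4, 5, 6, 7, 15]) ∧
      (q.foldr Nat.lcm 1 = 7 ∨ q.foldr Nat.lcm 1 = 15 → q = [7] ∨ q = [5, 3]) := by decide +kernel
  obtain ⟨k1, k2⟩ := key l hmem
  refine ⟨k1, fun h => (k2 h).imp (fun e => by rw [e]; rfl) fun e => by rw [e]; rfl⟩

/-- a seven-cycle -/
def c7 : Equiv.Perm (Fin 8) := List.formPerm [0, 1, 2, 3, 4, 5, 6]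
/-- an element of type five-three -/
def c15 : Equiv.Perm (Fin 8) := List.formPerm [0, 1, 2, 3, 4] * List.formPerm [5, 6, 7]

theorem inv_const (g : Equiv.Perm (Fin 8)) (hg : orderOf g = 7 ∨ orderOf g = 15) (w : Fin 8 → ZMod 2)
    (h0 : (∑ x, w x) = 0) (hw : ∀ x, w (g x) = w x) : ∀ a b, w a = w b := by
  rw [← Equiv.Perm.lcm_cycleType] at hg
  have ht := (cycle_types g.cycleType (by simpa using g.sum_cycleType_le)
    (fun a ha => Equiv.Perm.two_le_of_mem_cycleType ha)).2 hg
  have key : ∀ c : Equiv.Perm (Fin 8), c = c7 ∨ c = c15 → ∀ w : Fin 8 → ZMod 2, (∑ x, w x) = 0 →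
      (∀ x, w (c x) = w x) → ∀ a b, w a = w b := by
    rintro c (rfl | rfl)
    · decide +kernel
    · decide +kernel
  obtain ⟨c, hc, hcg⟩ : ∃ c, (c = c7 ∨ c = c15) ∧ IsConj c g := by
    rcases ht with ht | ht
    · exact ⟨c7, Or.inl rfl, Equiv.Perm.isConj_iff_cycleType_eq.2 (by rw [ht]; decide +kernel)⟩
    · exact ⟨c15, Or.inr rfl, Equiv.Perm.isConj_iff_cycleType_eq.2 (by rw [ht]; decide +kernel)⟩
  obtain ⟨τ, rfl⟩ := isConj_iff.1 hcg
  intro a b
  have h := key c hc (fun x => w (τ x)) (by rw [Equiv.sum_comp τ w, h0])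
    (fun x => by simpa using hw (τ x)) (τ⁻¹ a) (τ⁻¹ b)
  simpa using h

theorem semi_pow {A X : Type*} [CommGroup A] [Group X] (ρ : X →* MulAut A) (a : A) (g : X) (n : ℕ) :
    (⟨a, g⟩ : A ⋊[ρ] X) ^ n = ⟨∏ i ∈ Finset.range n, ρ (g ^ i) a, g ^ n⟩ := by
  induction n with
  | zero => ext <;> simp
  | succ n ih =>
    rw [pow_succ, ih]
    ext
    · simp only [SemidirectProduct.mul_left, Finset.prod_range_succ]
    · simp only [SemidirectProduct.mul_right, pow_succ]

theorem orderOf_semi {A X : Type*} [CommGroup A] [Group X] [Finite X] (ρ : X →* MulAut A) (a : A) (g : X) :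
    orderOf (⟨a, g⟩ : A ⋊[ρ] X) = orderOf g * orderOf (∏ i ∈ Finset.range (orderOf g), ρ (g ^ i) a) := by
  set n := orderOf g with hn
  have h1 : (⟨a, g⟩ : A ⋊[ρ] X) ^ n = SemidirectProduct.inl (∏ i ∈ Finset.range n, ρ (g ^ i) a) := by
    rw [semi_pow, hn, pow_orderOf_eq_one]; ext <;> simp
  have hd : n ∣ orderOf (⟨a, g⟩ : A ⋊[ρ] X) :=
    orderOf_map_dvd (SemidirectProduct.rightHom : A ⋊[ρ] X →* X) ⟨a, g⟩
  have h3 := orderOf_pow_of_dvd (orderOf_pos g).ne' hd
  rw [← hn, h1, orderOf_injective _ SemidirectProduct.inl_injective] at h3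
  rw [h3, Nat.mul_div_cancel' hd]

theorem spectrum (M : ℕ) (k0 : Fin M) :
    Set.range (orderOf : Multiplicative (Wsub M) ⋊[rho M] alternatingGroup (Fin 8) → ℕ) =
      {n | n ∈ [1, 2, 3, 4, 5, 6, 7, 8, 10, 12, 15]} := by
  ext n
  constructor
  · rintro ⟨⟨x, g⟩, rfl⟩
    rw [orderOf_semi]
    set P := ∏ i ∈ Finset.range (orderOf g), rho M (g ^ i) x with hP
    let g' : Equiv.Perm (Fin 8) := g
    have hg' : orderOf g = orderOf g' := (Subgroup.orderOf_coe g).symm
    have hord : orderOf g ∈ [1, 2, 3, 4, 5, 6, 7, 15] := by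
      rw [hg', ← Equiv.Perm.lcm_cycleType]
      refine (cycle_types _ (by simpa using g'.sum_cycleType_le) (fun a ha => Equiv.Perm.two_le_of_mem_cycleType ha)).1 ?_
      have hs : ((Equiv.Perm.sign g' : ℤˣ) : ℤ) = 1 := by rw [Equiv.Perm.mem_alternatingGroup.mp g.2]; rfl
      rw [Equiv.Perm.sign_of_cycleType] at hs
      rcases Nat.mod_two_eq_zero_or_one (g'.cycleType.sum + Multiset.card g'.cycleType) with h | h
      · exact h
      · simp only [Units.val_pow_eq_pow_val, Units.val_neg, Units.val_one] at hs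
        rw [neg_one_pow_eq_pow_mod_two, h] at hs
        norm_num at hs
    have hone : orderOf g = 7 ∨ orderOf g = 15 → P = 1 := fun h => by
      refine Multiplicative.toAdd.injective (Subtype.ext (funext fun k => funext fun a => funext fun b => ?_))
      rw [hP, prod_entry]
      obtain ⟨v, hv, ev⟩ := (Multiplicative.toAdd x).2 k
      simp only [ev, diff, Finset.sum_add_distrib]
      have hinv : ∀ y, (∑ i ∈ Finset.range (orderOf g), v ((g' ^ i)⁻¹ (g' y))) =
          ∑ i ∈ Finset.range (orderOf g), v ((g' ^ i)⁻¹ y) := fun y => by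
        have e : ∀ i, v ((g' ^ (i + 1))⁻¹ (g' y)) = v ((g' ^ i)⁻¹ y) := fun i => by
          rw [pow_succ', mul_inv_rev, Equiv.Perm.mul_apply]; simp
        have hend : v ((g' ^ orderOf g)⁻¹ (g' y)) = v ((g' ^ 0)⁻¹ (g' y)) := by
          rw [hg', pow_orderOf_eq_one, pow_zero]
        have h1 := Finset.sum_range_succ' (fun i => v ((g' ^ i)⁻¹ (g' y))) (orderOf g)
        rw [Finset.sum_range_succ, hend] at h1
        simp only [e] at h1
        exact add_right_cancel h1
      have hsum : (∑ y, ∑ i ∈ Finset.range (orderOf g), v ((g' ^ i)⁻¹ y)) = 0 := by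
        rw [Finset.sum_comm]
        exact Finset.sum_eq_zero fun i _ => (Equiv.sum_comp (g' ^ i)⁻¹ v).trans hv
      have := inv_const g' (by rwa [← hg']) (fun y => ∑ i ∈ Finset.range (orderOf g), v ((g' ^ i)⁻¹ y)) hsum hinv a b
      rw [this]
      exact CharTwo.add_self_eq_zero _
    have h2 : orderOf P ∈ [1, 2] := by
      have := (Nat.dvd_prime Nat.prime_two).1 (orderOf_dvd_of_pow_eq_one (sq_one P))
      simpa using this
    have key : ∀ a ∈ [1, 2, 3, 4, 5, 6, 7, 15], ∀ b ∈ [1, 2], (a = 7 ∨ a = 15 → b = 1) →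
        a * b ∈ [1, 2, 3, 4, 5, 6, 7, 8, 10, 12, 15] := by decide
    exact key _ hord _ h2 fun h => by rw [hone h, orderOf_one]
  · intro hn
    have plain : ∀ m : Multiset ℕ, m.sum ≤ 8 → (∀ a ∈ m, 2 ≤ a) → Even (m.sum + Multiset.card m) →
        m.lcm ∈ Set.range (orderOf : Multiplicative (Wsub M) ⋊[rho M] alternatingGroup (Fin 8) → ℕ) := by
      intro m h1 h2 h3
      obtain ⟨σ, hσ⟩ := (Equiv.Perm.exists_with_cycleType_iff (α := Fin 8) (m := m)).mpr ⟨by simpa using h1, h2⟩
      have hs : σ ∈ alternatingGroup (Fin 8) := by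
        rw [Equiv.Perm.mem_alternatingGroup, Equiv.Perm.sign_of_cycleType, hσ, h3.neg_one_pow]
      refine ⟨SemidirectProduct.inr ⟨σ, hs⟩, ?_⟩
      rw [orderOf_injective _ SemidirectProduct.inr_injective, ← Subgroup.orderOf_coe,
        show m.lcm = σ.cycleType.lcm by rw [hσ], Equiv.Perm.lcm_cycleType]
    have twice : ∀ (σ : Equiv.Perm (Fin 8)) (n : ℕ) (v : Fin 8 → ZMod 2) (a b : Fin 8), Equiv.Perm.sign σ = 1 →
        σ ^ n = 1 → (∀ m < n, 0 < m → σ ^ m ≠ 1) → 0 < n → (∑ x, v x) = 0 →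
        (∑ i ∈ Finset.range n, diff v ((σ ^ i)⁻¹ a) ((σ ^ i)⁻¹ b)) ≠ 0 →
        n * 2 ∈ Set.range (orderOf : Multiplicative (Wsub M) ⋊[rho M] alternatingGroup (Fin 8) → ℕ) := by
      intro σ n v a b hs h1 h2 hn0 hv hne
      let x : Multiplicative (Wsub M) := Multiplicative.ofAdd ⟨fun _ => diff v, fun _ => ⟨v, hv, rfl⟩⟩
      let g : alternatingGroup (Fin 8) := ⟨σ, Equiv.Perm.mem_alternatingGroup.2 hs⟩
      have hord : orderOf g = n := (Subgroup.orderOf_coe g).symm.trans ((orderOf_eq_iff hn0).2 ⟨h1, h2⟩)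
      refine ⟨⟨x, g⟩, ?_⟩
      rw [orderOf_semi, hord, orderOf_eq_prime (p := 2) (sq_one _) ?_]
      intro e
      have := prod_entry g x n k0 a b
      rw [e] at this
      exact hne this.symm
    simp only [Set.mem_setOf_eq, List.mem_cons, List.not_mem_nil, or_false] at hn
    rcases hn with rfl | rfl | rfl | rfl | rfl | rfl | rfl | rfl | rfl | rfl | rfl
    · exact plain 0 (by decide) (by decide) (by decide)
    · exact plain {2, 2} (by decide) (by decide) (by decide)
    · exact plain {3} (by decide) (by decide) (by decide)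
    · exact plain {4, 2} (by decide) (by decide) (by decide)
    · exact plain {5} (by decide) (by decide) (by decide)
    · exact plain {6, 2} (by decide) (by decide) (by decide)
    · exact plain {7} (by decide) (by decide) (by decide)
    · exact twice (List.formPerm [0, 1, 2, 3] * List.formPerm [4, 5]) 4 ![1, 0, 0, 0, 0, 0, 1, 0] 0 7
        (by decide +kernel) (by decide +kernel) (by decide +kernel) (by norm_num) (by decide +kernel) (by decide +kernel)
    · exact twice (List.formPerm [0, 1, 2, 3, 4]) 5 ![1, 0, 0, 0, 0, 1, 0, 0] 0 7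
        (by decide +kernel) (by decide +kernel) (by decide +kernel) (by norm_num) (by decide +kernel) (by decide +kernel)
    · exact twice (List.formPerm [0, 1, 2] * List.formPerm [3, 4] * List.formPerm [5, 6]) 6 ![1, 0, 0, 1, 0, 0, 0, 0] 3 7
        (by decide +kernel) (by decide +kernel) (by decide +kernel) (by norm_num) (by decide +kernel) (by decide +kernel)
    · exact plain {5, 3} (by decide) (by decide) (by decide)

theorem lt_card (M : ℕ) : M ≤ Nat.card (Multiplicative (Wsub M) ⋊[rho M] alternatingGroup (Fin 8)) := by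
  let v : Fin 8 → ZMod 2 := ![1, 1, 0, 0, 0, 0, 0, 0]
  have hv : (∑ x, v x) = 0 := by decide +kernel
  let e : Fin M → Wsub M := fun k => ⟨fun j => if j = k then diff v else diff 0, fun j => by
    by_cases h : j = k
    · exact ⟨v, hv, by simp [h]⟩
    · exact ⟨0, by simp, by simp [h]⟩⟩
  have he : Function.Injective e := fun i j h => by
    by_contra hne
    have h' := congrFun (congrFun (congrFun (congrArg Subtype.val h) i) 0) 2
    simp [e, hne, diff, v] at h'
  haveI : Finite (Multiplicative (Wsub M) ⋊[rho M] alternatingGroup (Fin 8)) := Finite.of_equiv _ SemidirectProduct.equivProd.symm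
  calc M = Nat.card (Fin M) := (Nat.card_fin M).symm
    _ ≤ Nat.card (Multiplicative (Wsub M) ⋊[rho M] alternatingGroup (Fin 8)) :=
      Nat.card_le_card_of_injective (fun k => SemidirectProduct.inl (Multiplicative.ofAdd (e k)))
        (SemidirectProduct.inl_injective.comp (Multiplicative.ofAdd.injective.comp he))

/-- The Hall–Janko sporadic group J₂ is not determined by its set of element orders, not even up to finitely many groups: for every bound N there is a finite group of order greater than N with exactly the same set of element orders as J₂. -/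
theorem result (N : ℕ) : ∃ (H : Type) (_ : Group H) (_ : Fintype H), N < Fintype.card H ∧ Set.range (orderOf : H → ℕ) = Set.range (orderOf : Cfsg.Spor.J2 → ℕ) := by
  haveI : Finite (Multiplicative (Wsub (N + 1)) ⋊[rho (N + 1)] alternatingGroup (Fin 8)) :=
    Finite.of_equiv _ SemidirectProduct.equivProd.symm
  letI ft : Fintype (Multiplicative (Wsub (N + 1)) ⋊[rho (N + 1)] alternatingGroup (Fin 8)) := Fintype.ofFinite _
  refine ⟨Multiplicative (Wsub (N + 1)) ⋊[rho (N + 1)] alternatingGroup (Fin 8), inferInstance, ft, ?_, ?_⟩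
  · rw [← Nat.card_eq_fintype_card]
    exact lt_card (N + 1)
  · rw [spectrum (N + 1) 0, J2Cert.range_orderOf]
    rfl

end Cfsg.Agent.S3486
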