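import Cfsg.Statements.S3488
import Mathlib
import Cfsg.Agent.Lib.Recog.AffineSpectrum

set_option autoImplicit false
open Cfsg

namespace Cfsg.Agent.S3488

/-- Let F be the field with four elements. The affine group F² ⋊ SL(2,F), realised as the subgroup of SL(3,F) of matrices with last row (0, 0, 1), has exactly the same set of element orders as the alternating group of degree 6 (namely {1, 2, 3, 4, 5}); so the alternating group of degree 6 is not determined by its element orders. -/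
theorem result {F : Type*} [Field F] [Fintype F] (hF : Fintype.card F = 4) :
    Set.range (orderOf : Subgroup.closure {M : Matrix.SpecialLinearGroup (Fin 3) F |
        (M : Matrix (Fin 3) (Fin 3) F) 2 0 = 0 ∧ (M : Matrix (Fin 3) (Fin 3) F) 2 1 = 0 ∧ (M : Matrix (Fin 3) (Fin 3) F) 2 2 = 1} → ℕ) =
      Set.range (orderOf : alternatingGroup (Fin 6) → ℕ) := by
  classical
  rw [Cfsg.Agent.Recog.spectrum_alt6]
  set S := {M : Matrix.SpecialLinearGroup (Fin 3) F | (M : Matrix (Fin 3) (Fin 3) F) 2 0 = 0 ∧ (M : Matrix (Fin 3) (Fin 3) F) 2 1 = 0 ∧ (M : Matrix (Fin 3) (Fin 3) F) 2 2 = 1} with hS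
  set K := Subgroup.closure S with hK
  -- closure adds nothing
  have hKmem : ∀ M, M ∈ K ↔ M ∈ S := by
    refine fun M => ⟨fun hM => ?_, fun hM => Subgroup.subset_closure hM⟩
    have hmul : ∀ A B : Matrix.SpecialLinearGroup (Fin 3) F, A ∈ S → B ∈ S → A * B ∈ S := by
      rintro A B ⟨a0, a1, a2⟩ ⟨b0, b1, b2⟩
      simp only [hS, Set.mem_setOf_eq, Matrix.SpecialLinearGroup.coe_mul, Matrix.mul_apply, Fin.sum_univ_three, a0, a1, a2,
        b0, b1, b2]
      simp
    have hone : (1 : Matrix.SpecialLinearGroup (Fin 3) F) ∈ S := by simp [hS]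
    induction hM using Subgroup.closure_induction with
    | mem x hx => exact hx
    | one => exact hone
    | mul x y _ _ hx hy => exact hmul x y hx hy
    | inv x _ hx =>
      obtain ⟨j, hj⟩ : ∃ j : ℕ, x ^ j = x⁻¹ := ⟨orderOf x - 1, by
        refine eq_inv_of_mul_eq_one_left ?_
        rw [← pow_succ, Nat.sub_add_cancel (orderOf_pos x), pow_orderOf_eq_one]⟩
      rw [← hj]
      clear hj
      induction j with
      | zero => rw [pow_zero]; exact hone
      | succ j ih => rw [pow_succ]; exact hmul _ _ ih hx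
  let e : Fin 2 ⊕ Fin 1 ≃ Fin 3 := finSumFinEquiv
  let ψ : Matrix.SpecialLinearGroup (Fin 3) F →* Matrix.SpecialLinearGroup (Fin 2 ⊕ Fin 1) F :=
    { toFun := fun A => ⟨Matrix.reindex e.symm e.symm (A : Matrix (Fin 3) (Fin 3) F), by rw [Matrix.det_reindex_self]; exact A.2⟩
      map_one' := Subtype.ext (by simp)
      map_mul' := fun A B => Subtype.ext (by
        show Matrix.reindex e.symm e.symm ((A * B : Matrix.SpecialLinearGroup (Fin 3) F) : Matrix (Fin 3) (Fin 3) F) =
          Matrix.reindex e.symm e.symm (A : Matrix (Fin 3) (Fin 3) F) * Matrix.reindex e.symm e.symm (B : Matrix (Fin 3) (Fin 3) F)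
        simp [Matrix.submatrix_mul_equiv]) }
  have hψ : Function.Injective ψ := fun A B h => by
    have h' := congrArg Subtype.val h
    exact Subtype.ext ((Matrix.reindex e.symm e.symm).injective h')
  have hH : ∀ M, M ∈ K.map ψ ↔ Cfsg.Agent.Recog.IsAff (M : Matrix (Fin 2 ⊕ Fin 1) (Fin 2 ⊕ Fin 1) F) := by
    intro M
    constructor
    · rintro ⟨A, hA, rfl⟩
      obtain ⟨a0, a1, a2⟩ := (hKmem A).mp hA
      set W := ((ψ A) : Matrix (Fin 2 ⊕ Fin 1) (Fin 2 ⊕ Fin 1) F) with hW
      have hblock : W = Matrix.fromBlocks W.toBlocks₁₁ W.toBlocks₁₂ 0 1 := by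
        conv_lhs => rw [← Matrix.fromBlocks_toBlocks W]
        congr 1
        · ext i j
          fin_cases i; fin_cases j
          · exact a0
          · exact a1
        · ext i j
          fin_cases i; fin_cases j
          exact a2
      refine ⟨W.toBlocks₁₁, W.toBlocks₁₂, ?_, hblock⟩
      have hd : W.det = 1 := (ψ A).2
      rw [hblock, Matrix.det_fromBlocks_zero₂₁, Matrix.det_one, mul_one] at hd
      exact hd
    · rintro ⟨g, v, hg, hM⟩
      refine ⟨⟨Matrix.reindex e e (M : Matrix (Fin 2 ⊕ Fin 1) (Fin 2 ⊕ Fin 1) F), by rw [Matrix.det_reindex_self]; exact M.2⟩,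
        (hKmem _).mpr ?_, Subtype.ext (by
          ext i j
          show ((M : Matrix (Fin 2 ⊕ Fin 1) (Fin 2 ⊕ Fin 1) F)) (e.symm (e i)) (e.symm (e j)) = _
          simp)⟩
      have e0 : e.symm 0 = Sum.inl 0 := by decide
      have e1 : e.symm 1 = Sum.inl 1 := by decide
      have e2 : e.symm 2 = Sum.inr 0 := by decide
      show ((M : Matrix (Fin 2 ⊕ Fin 1) (Fin 2 ⊕ Fin 1) F)) (e.symm 2) (e.symm 0) = 0 ∧
        ((M : Matrix (Fin 2 ⊕ Fin 1) (Fin 2 ⊕ Fin 1) F)) (e.symm 2) (e.symm 1) = 0 ∧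
        ((M : Matrix (Fin 2 ⊕ Fin 1) (Fin 2 ⊕ Fin 1) F)) (e.symm 2) (e.symm 2) = 1
      simp [hM, e0, e1, e2]
  rw [← Cfsg.Agent.Recog.spectrum_aff hF (K.map ψ) hH]
  ext d
  simp only [Set.mem_range]
  constructor
  · rintro ⟨x, rfl⟩
    exact ⟨K.equivMapOfInjective ψ hψ x, (K.equivMapOfInjective ψ hψ).orderOf_eq x⟩
  · rintro ⟨y, rfl⟩
    exact ⟨(K.equivMapOfInjective ψ hψ).symm y, (K.equivMapOfInjective ψ hψ).symm.orderOf_eq y⟩

end Cfsg.Agent.S3488
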