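import Cfsg.Statements.S3489
import Mathlib
import Cfsg.Agent.Lib.Recog.TwoS5

set_option autoImplicit false
open Cfsg

namespace Cfsg.Agent.S3489

set_option maxHeartbeats 1200000

open Cfsg.Agent.TwoS5

/-- powers in a semidirect product with abelian kernel -/
theorem semi_pow {A X : Type*} [CommGroup A] [Group X] (ρ : X →* MulAut A) (a : A) (g : X) (n : ℕ) :
    (⟨a, g⟩ : A ⋊[ρ] X) ^ n = ⟨∏ i ∈ Finset.range n, ρ (g ^ i) a, g ^ n⟩ := by
  induction n with
  | zero => ext <;> simp
  | succ n ih =>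
    rw [pow_succ, ih]
    ext
    · simp only [SemidirectProduct.mul_left, Finset.prod_range_succ]
    · simp only [SemidirectProduct.mul_right, pow_succ]

theorem orderOf_semi {A X : Type*} [CommGroup A] [Group X] [Finite X] (ρ : X →* MulAut A) (a : A) (g : X) :
    orderOf (⟨a, g⟩ : A ⋊[ρ] X) = orderOf g * orderOf (∏ i ∈ Finset.range (orderOf g), ρ (g ^ i) a) := by
  set n := orderOf g with hn
  have h1 : (⟨a, g⟩ : A ⋊[ρ] X) ^ n = SemidirectProduct.inl (∏ i ∈ Finset.range n, ρ (g ^ i) a) := by
    rw [semi_pow, hn, pow_orderOf_eq_one]; ext <;> simp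
  have hd : n ∣ orderOf (⟨a, g⟩ : A ⋊[ρ] X) :=
    orderOf_map_dvd (SemidirectProduct.rightHom : A ⋊[ρ] X →* X) ⟨a, g⟩
  have h3 := orderOf_pow_of_dvd (orderOf_pos g).ne' hd
  rw [← hn, h1, orderOf_injective _ SemidirectProduct.inl_injective] at h3
  rw [h3, Nat.mul_div_cancel' hd]

/-- non-increasing lists of numbers in `[2, M]` with sum at most `r` -/
def genP : ℕ → ℕ → ℕ → List (List ℕ)
  | 0, _, _ => [[]]
  | fuel + 1, r, M =>
    [] :: ((List.range' 2 (min r M - 1)).flatMap fun a => (genP fuel (r - a) a).map (a :: ·))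

theorem mem_genP : ∀ (fuel : ℕ) (l : List ℕ) (r M : ℕ), l.length ≤ fuel → l.Pairwise (· ≥ ·) →
    (∀ a ∈ l, 2 ≤ a ∧ a ≤ M) → l.sum ≤ r → l ∈ genP fuel r M := by
  intro fuel
  induction fuel with
  | zero =>
    intro l r M hlen _ _ _
    rw [List.eq_nil_of_length_eq_zero (Nat.le_zero.mp hlen)]
    simp [genP]
  | succ fuel ih =>
    intro l r M hlen hs hb hsum
    cases l with
    | nil => simp [genP]
    | cons a t =>
      simp only [List.length_cons] at hlen
      rw [List.pairwise_cons] at hs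
      simp only [List.sum_cons] at hsum
      have ha := hb a (by simp)
      simp only [genP, List.mem_cons, List.mem_flatMap, List.mem_map, List.mem_range'_1]
      right
      exact ⟨a, by omega, t, ih t (r - a) a (by omega) hs.2
        (fun x hx => ⟨(hb x (by simp [hx])).1, hs.1 x hx⟩) (by omega), rfl⟩

theorem lcm_mem_of_cycleType (m : Multiset ℕ) (hsum : m.sum ≤ 10) (h2 : ∀ a ∈ m, 2 ≤ a)
    (hsgn : (-1 : ℤ) ^ (m.sum + Multiset.card m) = 1) :
    m.lcm ∈ [1, 2, 3, 4, 5, 6, 7, 8, 9, 10, 12, 15, 21] := by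
  set l := m.sort (· ≥ ·) with hl
  have hm : (l : Multiset ℕ) = m := Multiset.sort_eq _ _
  rw [← hm] at hsum h2 hsgn ⊢
  simp only [Multiset.sum_coe, Multiset.coe_card, Multiset.mem_coe] at hsum h2 hsgn
  have hlen : l.length ≤ 5 := by
    have := List.card_nsmul_le_sum l 2 h2
    simp only [smul_eq_mul] at this
    omega
  have hmem := mem_genP 5 l 10 10 hlen (Multiset.pairwise_sort _ _)
    (fun a ha => ⟨h2 a ha, (List.le_sum_of_mem ha).trans hsum⟩) hsum
  have key : ∀ q ∈ genP 5 10 10, (q.sum + q.length) % 2 = 0 →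
      q.foldr Nat.lcm 1 ∈ [1, 2, 3, 4, 5, 6, 7, 8, 9, 10, 12, 15, 21] := by decide +kernel
  have heven : (l.sum + l.length) % 2 = 0 := by
    rcases Nat.mod_two_eq_zero_or_one (l.sum + l.length) with h | h
    · exact h
    · rw [neg_one_pow_eq_pow_mod_two, h] at hsgn; norm_num at hsgn
  have := key l hmem heven
  rwa [show Multiset.lcm (l : Multiset ℕ) = l.foldr Nat.lcm 1 from rfl]

theorem a10_orders : Set.range (orderOf : alternatingGroup (Fin 10) → ℕ)
    = {n | n ∈ [1, 2, 3, 4, 5, 6, 7, 8, 9, 10, 12, 15, 21]} := by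
  ext n
  constructor
  · rintro ⟨σ, rfl⟩
    rw [Set.mem_setOf_eq, ← Subgroup.orderOf_coe, ← Equiv.Perm.lcm_cycleType]
    let σ' : Equiv.Perm (Fin 10) := σ
    refine lcm_mem_of_cycleType _ (by simpa using σ'.sum_cycleType_le)
      (fun a ha => Equiv.Perm.two_le_of_mem_cycleType ha) ?_
    have hs : ((Equiv.Perm.sign σ' : ℤˣ) : ℤ) = 1 := by
      rw [Equiv.Perm.mem_alternatingGroup.mp σ.2]; rfl
    rw [Equiv.Perm.sign_of_cycleType] at hs
    simpa using hs
  · intro hn
    have key : ∀ m : Multiset ℕ, m.sum ≤ 10 → (∀ a ∈ m, 2 ≤ a) → Even (m.sum + Multiset.card m) →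
        m.lcm ∈ Set.range (orderOf : alternatingGroup (Fin 10) → ℕ) := by
      intro m h1 h2 h3
      obtain ⟨σ, hσ⟩ := (Equiv.Perm.exists_with_cycleType_iff (α := Fin 10) (m := m)).mpr ⟨by simpa using h1, h2⟩
      refine ⟨⟨σ, ?_⟩, ?_⟩
      · rw [Equiv.Perm.mem_alternatingGroup, Equiv.Perm.sign_of_cycleType, hσ, h3.neg_one_pow]
      · rw [← Subgroup.orderOf_coe, show m.lcm = σ.cycleType.lcm by rw [hσ], Equiv.Perm.lcm_cycleType]
    simp only [Set.mem_setOf_eq, List.mem_cons, List.not_mem_nil, or_false] at hn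
    rcases hn with rfl | rfl | rfl | rfl | rfl | rfl | rfl | rfl | rfl | rfl | rfl | rfl | rfl
    · exact key 0 (by decide) (by decide) (by decide)
    · exact key {2, 2} (by decide) (by decide) (by decide)
    · exact key {3} (by decide) (by decide) (by decide)
    · exact key {4, 2} (by decide) (by decide) (by decide)
    · exact key {5} (by decide) (by decide) (by decide)
    · exact key {6, 2} (by decide) (by decide) (by decide)
    · exact key {7} (by decide) (by decide) (by decide)
    · exact key {8, 2} (by decide) (by decide) (by decide)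
    · exact key {9} (by decide) (by decide) (by decide)
    · exact key {5, 2, 2} (by decide) (by decide) (by decide)
    · exact key {4, 3, 2} (by decide) (by decide) (by decide)
    · exact key {5, 3} (by decide) (by decide) (by decide)
    · exact key {7, 3} (by decide) (by decide) (by decide)

/-- the first generator -/
noncomputable def gU : Matˣ := Units.ofPowEqOne (toMat gT) 12 (by rw [← toMat_powT, check_gens.1, toMat_oneT]) (by norm_num)

/-- the second generator -/
noncomputable def hU : Matˣ := Units.ofPowEqOne (toMat hT) 6 (by rw [← toMat_powT, check_gens.2.1, toMat_oneT]) (by norm_num)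

/-- the group `2.S₅⁻` -/
noncomputable abbrev X : Subgroup Matˣ := Subgroup.closure {gU, hU}

theorem gU_val : (gU : Mat) = toMat gT := rfl
theorem hU_val : (hU : Mat) = toMat hT := rfl

theorem X_mem (x : Matˣ) (hx : x ∈ X) : ∃ a ∈ codes, (x : Mat) = toMat (ofCode a) := by
  have stepg : ∀ (y : Matˣ) (k : ℕ), (∃ a ∈ codes, (y : Mat) = toMat (ofCode a)) →
      ∃ a ∈ codes, ((y * gU ^ k : Matˣ) : Mat) = toMat (ofCode a) := by
    intro y k hy
    induction k with
    | zero => simpa using hy
    | succ k ih =>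
      obtain ⟨a, ha, e⟩ := ih
      obtain ⟨c1, c2, -, -⟩ := check_closed a ha
      refine ⟨_, c1, ?_⟩
      rw [c2, toMat_mulT, ← e, pow_succ, ← mul_assoc, Units.val_mul, gU_val]
  have steph : ∀ (y : Matˣ) (k : ℕ), (∃ a ∈ codes, (y : Mat) = toMat (ofCode a)) →
      ∃ a ∈ codes, ((y * hU ^ k : Matˣ) : Mat) = toMat (ofCode a) := by
    intro y k hy
    induction k with
    | zero => simpa using hy
    | succ k ih =>
      obtain ⟨a, ha, e⟩ := ih
      obtain ⟨-, -, c1, c2⟩ := check_closed a ha
      refine ⟨_, c1, ?_⟩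
      rw [c2, toMat_mulT, ← e, pow_succ, ← mul_assoc, Units.val_mul, hU_val]
  have hg12 : gU ^ 12 = 1 := Units.ext (by
    rw [Units.val_pow_eq_pow_val, gU_val, ← toMat_powT, check_gens.1, toMat_oneT]; rfl)
  have hh6 : hU ^ 6 = 1 := Units.ext (by
    rw [Units.val_pow_eq_pow_val, hU_val, ← toMat_powT, check_gens.2.1, toMat_oneT]; rfl)
  induction hx using Subgroup.closure_induction_right with
  | one => exact ⟨_, check_one.1, by rw [check_one.2, toMat_oneT]; rfl⟩
  | mul_right y _ z hz ih =>
    rcases hz with rfl | rfl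
    · simpa using stepg y 1 ih
    · simpa using steph y 1 ih
  | mul_inv_cancel y _ z hz ih =>
    rcases hz with rfl | rfl
    · have e : gU⁻¹ = gU ^ 11 := inv_eq_of_mul_eq_one_right (by rw [← pow_succ']; exact hg12)
      rw [e]; exact stepg y 11 ih
    · have e : hU⁻¹ = hU ^ 5 := inv_eq_of_mul_eq_one_right (by rw [← pow_succ']; exact hh6)
      rw [e]; exact steph y 5 ih

theorem red_oneT : red oneT = oneT := by decide +kernel

theorem pow_back {a : ℕ} (ha : a ∈ codes) {n : ℕ} (hn : n ∈ [1, 2, 3, 5])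
    (h : toMat (ofCode a) ^ n = 1) : powT (ofCode a) n = oneT := by
  rw [← check_red a ha n hn, ← ofMat_toMat, toMat_powT, h, ← toMat_oneT, ofMat_toMat, red_oneT]

theorem X_pow (x : X) : x ^ 8 = 1 ∨ x ^ 10 = 1 ∨ x ^ 12 = 1 := by
  obtain ⟨a, ha, e⟩ := X_mem _ x.2
  have key : ∀ n, powT (ofCode a) n = oneT → x ^ n = 1 := fun n h => Subtype.ext (Units.ext (by
    rw [SubgroupClass.coe_pow, Units.val_pow_eq_pow_val, e, ← toMat_powT, h, toMat_oneT]; rfl))
  rcases check_orders a ha with h | h | h
  · exact Or.inl (key _ h)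
  · exact Or.inr (Or.inl (key _ h))
  · exact Or.inr (Or.inr (key _ h))

theorem X_involution (x : X) (h : x ^ 2 = 1) (h1 : x ≠ 1) : ((x : Matˣ) : Mat) = -1 := by
  obtain ⟨a, ha, e⟩ := X_mem _ x.2
  have h2 : toMat (ofCode a) ^ 2 = 1 := by
    rw [← e, ← Units.val_pow_eq_pow_val, ← SubgroupClass.coe_pow, h]; rfl
  rcases check_involution a ha (pow_back ha (by simp) h2) with c | c
  · exact absurd (Subtype.ext (Units.ext (by rw [e, c, toMat_oneT]; rfl))) h1
  · rw [e, c, toMat_negT]

theorem toMat_zero : toMat ((0,0,0,0),(0,0,0,0),(0,0,0,0),(0,0,0,0)) = 0 := by decide +kernel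

theorem X_sum_three (x : X) (h : x ^ 3 = 1) (h1 : x ≠ 1) :
    ∑ i ∈ Finset.range 3, ((x : Matˣ) : Mat) ^ i = 0 := by
  obtain ⟨a, ha, e⟩ := X_mem _ x.2
  have h2 : toMat (ofCode a) ^ 3 = 1 := by
    rw [← e, ← Units.val_pow_eq_pow_val, ← SubgroupClass.coe_pow, h]; rfl
  rcases check_three a ha (pow_back ha (by simp) h2) with c | c
  · exact absurd (Subtype.ext (Units.ext (by rw [e, c, toMat_oneT]; rfl))) h1
  · have := congrArg toMat c
    rw [toMat_addT, toMat_addT, toMat_powT, toMat_oneT, ← e, toMat_zero] at this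
    simpa [Finset.sum_range_succ] using this

theorem X_sum_five (x : X) (h : x ^ 5 = 1) (h1 : x ≠ 1) :
    ∑ i ∈ Finset.range 5, ((x : Matˣ) : Mat) ^ i = 0 := by
  obtain ⟨a, ha, e⟩ := X_mem _ x.2
  have h2 : toMat (ofCode a) ^ 5 = 1 := by
    rw [← e, ← Units.val_pow_eq_pow_val, ← SubgroupClass.coe_pow, h]; rfl
  rcases check_five a ha (pow_back ha (by simp) h2) with c | c
  · exact absurd (Subtype.ext (Units.ext (by rw [e, c, toMat_oneT]; rfl))) h1
  · have := congrArg toMat c
    simp only [toMat_addT, toMat_powT, toMat_oneT, ← e, toMat_zero] at this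
    simpa [Finset.sum_range_succ] using this


/-- The alternating group of degree 10 is not determined by its set of element orders, not even up to finitely many groups: for every bound N there is a finite group of order greater than N with exactly the same set of element orders as the alternating group of degree 10. -/
theorem result (N : ℕ) : ∃ (H : Type) (_ : Group H) (_ : Fintype H), N < Fintype.card H ∧ Set.range (orderOf : H → ℕ) = Set.range (orderOf : alternatingGroup (Fin 10) → ℕ) := by
  classical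
  haveI : Finite X := inferInstance
  -- the two modules
  have hzX : gU ^ 6 ∈ X := Subgroup.pow_mem _ (Subgroup.subset_closure (by simp)) 6
  let z : X := ⟨gU ^ 6, hzX⟩
  have hz : ((z : Matˣ) : Mat) = -1 := by
    show ((gU ^ 6 : Matˣ) : Mat) = _
    rw [Units.val_pow_eq_pow_val, gU_val, ← toMat_powT, check_gens.2.2.1, toMat_negT]
  have hzc : ∀ x : X, z * x = x * z := fun x => Subtype.ext (Units.ext (by
    simp only [Subgroup.coe_mul, Units.val_mul, hz, neg_mul, mul_neg, one_mul, mul_one]))
  let V3 : AddSubgroup (X → ZMod 3) :=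
    { carrier := {f | ∀ x, f (z * x) = -f x}
      zero_mem' := fun x => by simp
      add_mem' := fun {f g} hf hg x => by simp [hf x, hg x]; abel
      neg_mem' := fun {f} hf x => by simp [hf x] }
  have hV3 : ∀ f : V3, ∀ x : X, f.1 (z * x) = -f.1 x := fun f => f.2
  let k := N + 1
  let act : X → ((Fin k → Fin 4 → ZMod 7) × V3) → ((Fin k → Fin 4 → ZMod 7) × V3) := fun g v =>
    (fun i => Matrix.mulVec ((g : Matˣ) : Mat) (v.1 i),
      ⟨fun x => v.2.1 (g⁻¹ * x), fun x => by
        show v.2.1 (g⁻¹ * (z * x)) = _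
        rw [← mul_assoc, ← hzc g⁻¹, mul_assoc]; exact hV3 _ _⟩)
  have act_add : ∀ g v w, act g (v + w) = act g v + act g w := fun g v w =>
    Prod.ext (funext fun i => by simp [act, Matrix.mulVec_add]) (Subtype.ext rfl)
  have act_mul : ∀ g h v, act (g * h) v = act g (act h v) := fun g h v =>
    Prod.ext (funext fun i => by
        show (((g * h : X) : Matˣ) : Mat).mulVec (v.1 i) = _
        rw [Subgroup.coe_mul, Units.val_mul, ← Matrix.mulVec_mulVec])
      (Subtype.ext (funext fun x => by simp [act, mul_assoc]))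
  have act_one : ∀ v, act 1 v = v := fun v =>
    Prod.ext (funext fun i => by simp [act]) (Subtype.ext (funext fun x => by simp [act]))
  let ρ : X →* MulAut (Multiplicative ((Fin k → Fin 4 → ZMod 7) × V3)) :=
    MonoidHom.mk'
      (fun g => AddEquiv.toMultiplicative
        { toFun := act g
          invFun := act g⁻¹
          left_inv := fun v => by rw [← act_mul, inv_mul_cancel, act_one]
          right_inv := fun v => by rw [← act_mul, mul_inv_cancel, act_one]
          map_add' := act_add g })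
      (fun g h => MulEquiv.ext fun v => congrArg Multiplicative.ofAdd (act_mul g h v.toAdd))
  have hρ : ∀ (g : X) (v : (Fin k → Fin 4 → ZMod 7) × V3),
      ρ g (Multiplicative.ofAdd v) = Multiplicative.ofAdd (act g v) := fun g v => rfl
  have hnorm : ∀ (g : X) (v : (Fin k → Fin 4 → ZMod 7) × V3) (n : ℕ),
      ∏ i ∈ Finset.range n, ρ (g ^ i) (Multiplicative.ofAdd v)
        = Multiplicative.ofAdd (∑ i ∈ Finset.range n, act (g ^ i) v) := by
    intro g v n
    rw [ofAdd_sum]
    exact Finset.prod_congr rfl fun i _ => hρ _ _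
  haveI : Finite ((Multiplicative ((Fin k → Fin 4 → ZMod 7) × V3)) ⋊[ρ] X) :=
    Finite.of_equiv _ SemidirectProduct.equivProd.symm
  letI := Fintype.ofFinite ((Multiplicative ((Fin k → Fin 4 → ZMod 7) × V3)) ⋊[ρ] X)
  refine ⟨(Multiplicative ((Fin k → Fin 4 → ZMod 7) × V3)) ⋊[ρ] X, inferInstance, inferInstance, ?_, ?_⟩
  · rw [← Nat.card_eq_fintype_card, SemidirectProduct.card, Nat.card_congr Multiplicative.toAdd, Nat.card_prod]
    have h7 : Nat.card (Fin k → Fin 4 → ZMod 7) = (7 ^ 4) ^ (N + 1) := by simp [k]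
    rw [h7]
    have h1 : N < (7 ^ 4) ^ (N + 1) := (Nat.lt_succ_self N).trans (Nat.lt_pow_self (by norm_num))
    refine lt_of_lt_of_le h1 ?_
    rw [mul_assoc]
    exact Nat.le_mul_of_pos_right _ (Nat.mul_pos Nat.card_pos Nat.card_pos)
  -- the spectrum
  rw [a10_orders]
  have exp21 : ∀ v : (Fin k → Fin 4 → ZMod 7) × V3, Multiplicative.ofAdd v ^ 21 = 1 := by
    intro v
    rw [← ofAdd_nsmul, ofAdd_eq_one]
    refine Prod.ext (funext fun i => funext fun j => ?_) (Subtype.ext (funext fun x => ?_))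
    · show (21 : ℕ) • v.1 i j = 0
      rw [nsmul_eq_mul, show ((21 : ℕ) : ZMod 7) = 0 by decide, zero_mul]
    · show (21 : ℕ) • v.2.1 x = 0
      rw [nsmul_eq_mul, show ((21 : ℕ) : ZMod 3) = 0 by decide, zero_mul]
  have exp3 : ∀ f : V3, Multiplicative.ofAdd ((0, f) : (Fin k → Fin 4 → ZMod 7) × V3) ^ 3 = 1 := by
    intro f
    rw [← ofAdd_nsmul, ofAdd_eq_one]
    refine Prod.ext (funext fun i => funext fun j => show (3 : ℕ) • (0 : ZMod 7) = 0 from smul_zero _) (Subtype.ext (funext fun x => ?_))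
    show (3 : ℕ) • f.1 x = 0
    rw [nsmul_eq_mul, show ((3 : ℕ) : ZMod 3) = 0 by decide, zero_mul]
  have horder : ∀ g : X, orderOf g ∈ [1, 2, 3, 4, 5, 6, 8, 10, 12] := by
    intro g
    have key : ∀ n < 13, (n ∣ 8 ∨ n ∣ 10 ∨ n ∣ 12) → n ∈ [1, 2, 3, 4, 5, 6, 8, 10, 12] := by decide +kernel
    rcases X_pow g with h | h | h <;> have hd := orderOf_dvd_of_pow_eq_one h <;>
      have := Nat.le_of_dvd (by norm_num) hd <;> apply key _ (by omega)
    · exact Or.inl hd
    · exact Or.inr (Or.inl hd)
    · exact Or.inr (Or.inr hd)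
  -- norm of an element of even order
  have heven : ∀ (g : X) (v : (Fin k → Fin 4 → ZMod 7) × V3), Even (orderOf g) →
      ∑ i ∈ Finset.range (orderOf g), act (g ^ i) v = 0 := by
    intro g v ⟨m, hm⟩
    have hpos := orderOf_pos g
    have hgm : g ^ m = z := by
      have h1 : (g ^ m) ^ 2 = 1 := by rw [← pow_mul, mul_two, ← hm, pow_orderOf_eq_one]
      have h2 : g ^ m ≠ 1 := pow_ne_one_of_lt_orderOf (by omega) (by omega)
      exact Subtype.ext (Units.ext ((X_involution _ h1 h2).trans hz.symm))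
    rw [hm, Finset.sum_range_add, ← Finset.sum_add_distrib]
    refine Finset.sum_eq_zero fun i _ => ?_
    rw [pow_add, hgm, act_mul]
    refine Prod.ext (funext fun j => ?_) (Subtype.ext (funext fun x => ?_))
    · show (act (g ^ i) v).1 j + ((z : Matˣ) : Mat).mulVec ((act (g ^ i) v).1 j) = 0
      rw [hz, Matrix.neg_mulVec, Matrix.one_mulVec, add_neg_cancel]
    · show (act (g ^ i) v).2.1 x + (act (g ^ i) v).2.1 (z⁻¹ * x) = 0
      have h := hV3 (act (g ^ i) v).2 (z⁻¹ * x)
      rw [mul_inv_cancel_left] at h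
      rw [h, neg_add_cancel]
  have hodd7 : ∀ (g : X) (v : (Fin k → Fin 4 → ZMod 7) × V3), (orderOf g = 3 ∨ orderOf g = 5) →
      (∑ i ∈ Finset.range (orderOf g), act (g ^ i) v).1 = 0 := by
    intro g v hg
    funext j
    rw [Prod.fst_sum, Finset.sum_apply]
    show ∑ i ∈ Finset.range (orderOf g), (((g ^ i : X) : Matˣ) : Mat).mulVec (v.1 j) = 0
    simp only [SubgroupClass.coe_pow, Units.val_pow_eq_pow_val, ← Matrix.sum_mulVec]
    have hne : g ≠ 1 := fun h => by rw [h, orderOf_one] at hg; omega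
    rcases hg with hg | hg
    · rw [hg, X_sum_three g (hg ▸ pow_orderOf_eq_one g) hne, Matrix.zero_mulVec]
    · rw [hg, X_sum_five g (hg ▸ pow_orderOf_eq_one g) hne, Matrix.zero_mulVec]
  ext n
  constructor
  · rintro ⟨⟨a, g⟩, rfl⟩
    obtain ⟨v, rfl⟩ : ∃ v, Multiplicative.ofAdd v = a := ⟨a.toAdd, rfl⟩
    rw [orderOf_semi, hnorm, Set.mem_setOf_eq]
    have hor := horder g
    rcases Nat.even_or_odd (orderOf g) with he | ho
    · rw [heven g v he]
      simp only [ofAdd_zero, orderOf_one, mul_one]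
      simp only [List.mem_cons, List.not_mem_nil, or_false] at hor ⊢
      omega
    · have hcase : orderOf g = 1 ∨ orderOf g = 3 ∨ orderOf g = 5 := by
        obtain ⟨m, hm⟩ := ho
        simp only [List.mem_cons, List.not_mem_nil, or_false] at hor
        omega
      rcases hcase with h | h
      · have hd : orderOf (Multiplicative.ofAdd (∑ i ∈ Finset.range (orderOf g), act (g ^ i) v)) ∈ Nat.divisors 21 :=
          Nat.mem_divisors.mpr ⟨orderOf_dvd_of_pow_eq_one (exp21 _), by norm_num⟩
        rw [h] at hd ⊢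
        simp [show Nat.divisors 21 = {1, 3, 7, 21} by decide] at hd
        rcases hd with hd | hd | hd | hd <;> simp [hd]
      · have he : ∑ i ∈ Finset.range (orderOf g), act (g ^ i) v
            = (0, (∑ i ∈ Finset.range (orderOf g), act (g ^ i) v).2) := Prod.ext (hodd7 g v h) rfl
        rw [he]
        rcases (Nat.dvd_prime Nat.prime_three).mp (orderOf_dvd_of_pow_eq_one
          (exp3 (∑ i ∈ Finset.range (orderOf g), act (g ^ i) v).2)) with hd | hd <;>
          rw [hd] <;> rcases h with h | h <;> rw [h] <;> decide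
  · intro hn
    have hinr : ∀ g : X, orderOf (SemidirectProduct.inr g : (Multiplicative ((Fin k → Fin 4 → ZMod 7) × V3)) ⋊[ρ] X) = orderOf g :=
      fun g => orderOf_injective _ SemidirectProduct.inr_injective g
    have hX : ∀ (u : Matˣ) (hu : u ∈ X) (t : M4) (m : ℕ), (u : Mat) = toMat t → 0 < m → powT t m = oneT →
        (∀ d, d ∣ m → d ≠ m → ∃ e, d ∣ e ∧ red (powT t e) ≠ oneT) → orderOf (⟨u, hu⟩ : X) = m := by
      intro u hu t m hut hm hpow hmin
      have hd : orderOf (⟨u, hu⟩ : X) ∣ m := orderOf_dvd_of_pow_eq_one (Subtype.ext (Units.ext (by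
        rw [SubgroupClass.coe_pow, Units.val_pow_eq_pow_val, hut, ← toMat_powT, hpow, toMat_oneT]; rfl)))
      by_contra hne
      obtain ⟨e, he, hre⟩ := hmin _ hd hne
      refine hre ?_
      have h1 : (⟨u, hu⟩ : X) ^ e = 1 := orderOf_dvd_iff_pow_eq_one.mp he
      rw [← ofMat_toMat, toMat_powT, ← hut, ← Units.val_pow_eq_pow_val,
        show (u ^ e : Matˣ) = 1 from congrArg Subtype.val h1, Units.val_one, ← toMat_oneT, ofMat_toMat, red_oneT]
    have hgX : gU ∈ X := Subgroup.subset_closure (by simp)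
    have hhX : hU ∈ X := Subgroup.subset_closure (by simp)
    have h8 : orderOf (⟨gU * hU, X.mul_mem hgX hhX⟩ : X) = 8 := by
      refine hX _ _ (mulT gT hT) 8 (by rw [Units.val_mul, gU_val, hU_val, toMat_mulT]) (by norm_num)
        check_gens.2.2.2.1 fun d hd hne => ⟨4, ?_, by decide +kernel⟩
      have := Nat.le_of_dvd (by norm_num) hd
      interval_cases d <;> omega
    have h10 : orderOf (⟨gU * gU * hU, X.mul_mem (X.mul_mem hgX hgX) hhX⟩ : X) = 10 := by
      refine hX _ _ (mulT (mulT gT gT) hT) 10 (by rw [Units.val_mul, Units.val_mul, gU_val, hU_val, toMat_mulT, toMat_mulT])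
        (by norm_num) check_gens.2.2.2.2.2.2.1 fun d hd hne => ?_
      have := Nat.le_of_dvd (by norm_num) hd
      interval_cases d <;> first
        | omega
        | exact ⟨5, by omega, by decide +kernel⟩
        | exact ⟨2, by omega, by decide +kernel⟩
    have h12 : orderOf (⟨gU, hgX⟩ : X) = 12 := by
      refine hX _ _ gT 12 gU_val (by norm_num) check_gens.1 fun d hd hne => ?_
      have := Nat.le_of_dvd (by norm_num) hd
      interval_cases d <;> first
        | omega
        | exact ⟨6, by omega, by decide +kernel⟩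
        | exact ⟨4, by omega, by decide +kernel⟩
    have fromX : ∀ (g : X) (m : ℕ), m ∣ orderOf g → m ∈ Set.range (orderOf : (Multiplicative ((Fin k → Fin 4 → ZMod 7) × V3)) ⋊[ρ] X → ℕ) := by
      intro g m hm
      exact ⟨SemidirectProduct.inr (g ^ (orderOf g / m)), (hinr _).trans (orderOf_pow_orderOf_div (orderOf_pos g).ne' hm)⟩
    have hz2 : z * z = 1 := Subtype.ext (Units.ext (by
      simp only [Subgroup.coe_mul, Units.val_mul, hz, neg_mul_neg, one_mul]; rfl))
    have hz1 : z ≠ 1 := fun h => by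
      have h' : ((z : Matˣ) : Mat) = ((1 : Matˣ) : Mat) := congrArg Units.val (congrArg Subtype.val h)
      rw [hz, Units.val_one] at h'
      exact absurd h' (by decide +kernel)
    have hδ : ∀ x : X, (if z * x = 1 then (1 : ZMod 3) else if z * x = z then -1 else 0)
        = -(if x = 1 then 1 else if x = z then -1 else 0) := by
      intro x
      by_cases a : x = 1
      · subst a; rw [mul_one, if_neg hz1, if_pos rfl, if_pos rfl]
      by_cases b : x = z
      · subst b; rw [if_pos hz2, if_neg a, if_pos rfl, neg_neg]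
      rw [if_neg (fun h => b (mul_left_cancel (h.trans hz2.symm))), if_neg (fun h => a (mul_eq_left.mp h)),
        if_neg a, if_neg b, neg_zero]
    let δ : V3 := ⟨fun x => if x = 1 then 1 else if x = z then -1 else 0, hδ⟩
    have h3n : ∀ g : X, (orderOf g = 3 ∨ orderOf g = 5) →
        3 * orderOf g ∈ Set.range (orderOf : (Multiplicative ((Fin k → Fin 4 → ZMod 7) × V3)) ⋊[ρ] X → ℕ) := by
      intro g hg
      refine ⟨⟨Multiplicative.ofAdd (0, δ), g⟩, ?_⟩
      rw [orderOf_semi, hnorm, mul_comm 3]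
      congr 1
      have hpw : (Multiplicative.ofAdd (∑ i ∈ Finset.range (orderOf g), act (g ^ i) (0, δ))) ^ 3 = 1 := by
        rw [show ∑ i ∈ Finset.range (orderOf g), act (g ^ i) (0, δ)
          = (0, (∑ i ∈ Finset.range (orderOf g), act (g ^ i) (0, δ)).2) from Prod.ext (hodd7 g _ hg) rfl]
        exact exp3 _
      have h3 : Nat.Prime 3 := Nat.prime_three
      haveI := Fact.mk h3
      refine orderOf_eq_prime hpw ?_
      rw [Ne, ofAdd_eq_one]
      intro hc
      have h1 := congrArg (fun w : (Fin k → Fin 4 → ZMod 7) × V3 => w.2.1 1) hc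
      simp only [Prod.snd_sum, AddSubgroup.val_finset_sum, Finset.sum_apply, Prod.snd_zero,
        ZeroMemClass.coe_zero, Pi.zero_apply] at h1
      change ∑ i ∈ Finset.range (orderOf g), δ.1 ((g ^ i)⁻¹ * 1) = 0 at h1
      rw [Finset.sum_eq_single 0] at h1
      · simp [δ] at h1
      · intro i hi hi0
        rw [Finset.mem_range] at hi
        have hne : (g ^ i)⁻¹ * 1 ≠ 1 := by
          rw [mul_one, Ne, inv_eq_one]; exact pow_ne_one_of_lt_orderOf hi0 hi
        have hnz : (g ^ i)⁻¹ * 1 ≠ z := by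
          rw [mul_one]
          intro h
          have h1 : orderOf ((g ^ i)⁻¹) ∣ orderOf g := by
            rw [orderOf_inv]; exact orderOf_pow_dvd i
          rw [h] at h1
          have h2 : z ^ 2 = 1 := Subtype.ext (Units.ext (by
            simp only [SubgroupClass.coe_pow, Units.val_pow_eq_pow_val, hz, neg_one_sq]; rfl))
          have h4 := Nat.dvd_gcd (orderOf_dvd_of_pow_eq_one h2) h1
          have h5 : Nat.gcd 2 (orderOf g) = 1 := by rcases hg with hg | hg <;> rw [hg] <;> rfl
          rw [h5, Nat.dvd_one, orderOf_eq_one_iff] at h4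
          rw [h4, inv_eq_one] at h
          exact pow_ne_one_of_lt_orderOf hi0 hi h
        show (if (g ^ i)⁻¹ * 1 = 1 then (1 : ZMod 3) else if (g ^ i)⁻¹ * 1 = z then -1 else 0) = 0
        rw [if_neg hne, if_neg hnz]
      · intro h; exact absurd (Finset.mem_range.mpr (orderOf_pos g)) h
    simp only [Set.mem_setOf_eq, List.mem_cons, List.not_mem_nil, or_false] at hn
    rcases hn with rfl | rfl | rfl | rfl | rfl | rfl | rfl | rfl | rfl | rfl | rfl | rfl | rfl
    · exact fromX ⟨gU, hgX⟩ 1 (one_dvd _)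
    · exact fromX _ 2 (by rw [h12]; norm_num)
    · exact fromX _ 3 (by rw [h12]; norm_num)
    · exact fromX _ 4 (by rw [h12]; norm_num)
    · exact fromX _ 5 (by rw [h10]; norm_num)
    · exact fromX _ 6 (by rw [h12]; norm_num)
    · have hk : 0 < k := Nat.succ_pos N
      refine ⟨SemidirectProduct.inl (Multiplicative.ofAdd (fun _ _ => 1, 0)), ?_⟩
      haveI := Fact.mk (show Nat.Prime 7 by norm_num)
      rw [orderOf_injective _ SemidirectProduct.inl_injective]
      refine orderOf_eq_prime ?_ ?_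
      · rw [← ofAdd_nsmul, ofAdd_eq_one]
        exact Prod.ext (funext fun i => funext fun j => by
          show (7 : ℕ) • (1 : ZMod 7) = 0
          rw [nsmul_one]; rfl) (smul_zero _)
      · rw [Ne, ofAdd_eq_one]
        intro h
        have := congrFun (congrFun (congrArg Prod.fst h) ⟨0, hk⟩) 0
        exact absurd (show (1 : ZMod 7) = 0 from this) one_ne_zero
    · exact fromX _ 8 (by rw [h8])
    · have := h3n ((⟨gU, hgX⟩ : X) ^ 4) (Or.inl (by rw [orderOf_pow, h12]; rfl))
      rwa [orderOf_pow, h12] at this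
    · exact fromX _ 10 (by rw [h10])
    · exact fromX _ 12 (by rw [h12])
    · have := h3n ((⟨gU * gU * hU, X.mul_mem (X.mul_mem hgX hgX) hhX⟩ : X) ^ 2) (Or.inr (by rw [orderOf_pow, h10]; rfl))
      rwa [orderOf_pow, h10] at this
    · have hk : 0 < k := Nat.succ_pos N
      refine ⟨SemidirectProduct.inl (Multiplicative.ofAdd (fun _ _ => 1, δ)), ?_⟩
      rw [orderOf_injective _ SemidirectProduct.inl_injective]
      refine orderOf_eq_iff (by norm_num) |>.mpr ⟨exp21 _, fun m hm hm0 h => ?_⟩
      rw [← ofAdd_nsmul, ofAdd_eq_one] at h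
      have h7 := congrFun (congrFun (congrArg Prod.fst h) ⟨0, hk⟩) 0
      have h3 := congrFun (congrArg Subtype.val (congrArg Prod.snd h)) 1
      change m • (1 : ZMod 7) = 0 at h7
      change m • δ.1 1 = 0 at h3
      rw [show δ.1 1 = 1 by simp [δ]] at h3
      rw [nsmul_one, ZMod.natCast_eq_zero_iff] at h7 h3 <;> omega

end Cfsg.Agent.S3489
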