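import Cfsg.Statements.S3491
import Mathlib
import Cfsg.Agent.Lib.Recog.AffineSpectrum

set_option autoImplicit false
open Cfsg

namespace Cfsg.Agent.S3491

/-- The alternating group of degree 6 is not determined by its set of element orders, not even up to finitely many groups: for every bound N there is a finite group of order greater than N with exactly the same set of element orders as the alternating group of degree 6. -/
theorem result (N : ℕ) : ∃ (H : Type) (_ : Group H) (_ : Fintype H), N < Fintype.card H ∧ Set.range (orderOf : H → ℕ) = Set.range (orderOf : alternatingGroup (Fin 6) → ℕ) := by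
  classical
  let F := GaloisField 2 2
  letI : Fintype F := Fintype.ofFinite F
  have hF : Fintype.card F = 4 := by
    rw [← Nat.card_eq_fintype_card, GaloisField.card 2 2 (by norm_num)]
    norm_num
  let k := Fin (N + 1)
  let H : Subgroup (Matrix.SpecialLinearGroup (Fin 2 ⊕ k) F) :=
    Subgroup.closure {M | Cfsg.Agent.Recog.IsAff (M : Matrix (Fin 2 ⊕ k) (Fin 2 ⊕ k) F)}
  have hH : ∀ M, M ∈ H ↔ Cfsg.Agent.Recog.IsAff (M : Matrix (Fin 2 ⊕ k) (Fin 2 ⊕ k) F) := by
    refine fun M => ⟨fun hM => ?_, fun hM => Subgroup.subset_closure hM⟩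
    have hpow : ∀ (A : Matrix.SpecialLinearGroup (Fin 2 ⊕ k) F), Cfsg.Agent.Recog.IsAff (A : Matrix (Fin 2 ⊕ k) (Fin 2 ⊕ k) F) →
        ∀ j : ℕ, Cfsg.Agent.Recog.IsAff ((A ^ j : Matrix.SpecialLinearGroup (Fin 2 ⊕ k) F) : Matrix (Fin 2 ⊕ k) (Fin 2 ⊕ k) F) := by
      intro A hA j
      induction j with
      | zero => rw [pow_zero, Matrix.SpecialLinearGroup.coe_one]; exact Cfsg.Agent.Recog.isAff_one
      | succ j ih => rw [pow_succ, Matrix.SpecialLinearGroup.coe_mul]; exact Cfsg.Agent.Recog.isAff_mul ih hA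
    induction hM using Subgroup.closure_induction with
    | mem x hx => exact hx
    | one => rw [Matrix.SpecialLinearGroup.coe_one]; exact Cfsg.Agent.Recog.isAff_one
    | mul x y _ _ hx hy => rw [Matrix.SpecialLinearGroup.coe_mul]; exact Cfsg.Agent.Recog.isAff_mul hx hy
    | inv x _ hx =>
      obtain ⟨j, hj⟩ : ∃ j : ℕ, x ^ j = x⁻¹ := ⟨orderOf x - 1, by
        refine eq_inv_of_mul_eq_one_left ?_
        rw [← pow_succ, Nat.sub_add_cancel (orderOf_pos x), pow_orderOf_eq_one]⟩
      rw [← hj]; exact hpow x hx j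
  refine ⟨H, inferInstance, Fintype.ofFinite H, ?_, ?_⟩
  · rw [← @Nat.card_eq_fintype_card _ (Fintype.ofFinite H)]
    let f : (k → F) → H := fun v => ⟨⟨Matrix.fromBlocks (1 : Matrix (Fin 2) (Fin 2) F) (Matrix.of fun _ j => v j) 0 1,
      by rw [Matrix.det_fromBlocks_zero₂₁, Matrix.det_one, Matrix.det_one, one_mul]⟩,
      (hH _).mpr ⟨1, _, Matrix.det_one, rfl⟩⟩
    have hf : Function.Injective f := fun v w h => by
      have h' := congrArg (fun x : H => (x.1.1 : Matrix (Fin 2 ⊕ k) (Fin 2 ⊕ k) F)) h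
      simp only [f, Matrix.fromBlocks_inj] at h'
      funext j
      exact congrFun (congrFun h'.2.1 0) j
    refine lt_of_lt_of_le ?_ (Nat.card_le_card_of_injective f hf)
    rw [Nat.card_fun, Nat.card_eq_fintype_card (α := F), hF, Nat.card_eq_fintype_card, Fintype.card_fin]
    exact lt_trans (Nat.lt_succ_self N) (Nat.lt_pow_self (by norm_num))
  · rw [Cfsg.Agent.Recog.spectrum_aff hF H hH, Cfsg.Agent.Recog.spectrum_alt6]

end Cfsg.Agent.S3491
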