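import Cfsg.Statements.S3494
import Mathlib

set_option autoImplicit false
open Cfsg

namespace Cfsg.Agent.S3494

open scoped Pointwise


/-- Manning's Theorem on extremely primitive groups. Let a finite group G act faithfully and primitively on a finite set Ω with non-trivial point stabilizers, and suppose every point stabilizer G_α acts primitively on each of its orbits. Then G_α acts faithfully on each of its orbits other than {α}: an element of G_α fixing every point of one such orbit is the identity. -/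
theorem result {G : Type*} [Group G] [Finite G] {Ω : Type*} [Fintype Ω] [MulAction G Ω] [FaithfulSMul G Ω] (hprim : MulAction.IsPreprimitive G Ω) (hH : ∀ α : Ω, MulAction.stabilizer G α ≠ ⊥) (hep : ∀ (α : Ω) (ω : Ω), MulAction.IsPreprimitive (MulAction.stabilizer G α) (MulAction.orbit (MulAction.stabilizer G α) ω))
    (α ω : Ω) (hω : ω ≠ α) (h : MulAction.stabilizer G α) (hfix : ∀ x ∈ MulAction.orbit (MulAction.stabilizer G α) ω, h • x = x) : h = 1 := by
  classical
  haveI := hprim
  haveI : Nontrivial Ω := ⟨⟨ω, α, hω⟩⟩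
  set O := MulAction.orbit (MulAction.stabilizer G α) ω with hO
  have hcoat := MulAction.IsPreprimitive.isCoatom_stabilizer_of_isPreprimitive G α
  -- fixing subgroup of O inside (MulAction.stabilizer G α)
  let K : Subgroup G := (MulAction.stabilizer G α) ⊓ fixingSubgroup G O
  have hKmem : ∀ k : G, k ∈ K ↔ k • α = α ∧ ∀ x ∈ O, k • x = x := fun k => by
    simp only [K, Subgroup.mem_inf, mem_fixingSubgroup_iff]; rfl
  have hKn : ∀ f ∈ (MulAction.stabilizer G α), ∀ k ∈ K, f * k * f⁻¹ ∈ K := by
    intro f hf k hk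
    rw [hKmem] at hk ⊢
    have hfi : f⁻¹ • α = α := inv_smul_eq_iff.mpr (MulAction.mem_stabilizer_iff.mp hf).symm
    refine ⟨by rw [mul_smul, mul_smul, hfi, hk.1]; exact hf, fun x hx => ?_⟩
    rw [mul_smul, mul_smul, hk.2 (f⁻¹ • x) (MulAction.mem_orbit_of_mem_orbit (⟨f, hf⟩ : (MulAction.stabilizer G α))⁻¹ hx), smul_inv_smul]
  suffices hK : K = ⊥ by
    have : (h : G) ∈ K := (hKmem _).mpr ⟨h.2, fun x hx => hfix x hx⟩
    rw [hK, Subgroup.mem_bot] at this
    exact Subtype.ext this
  obtain ⟨g, hg⟩ := MulAction.exists_smul_eq G α ω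
  have hgH : g ∉ (MulAction.stabilizer G α) := fun h => hω (hg.symm.trans h)
  by_cases hall : ∀ k ∈ K, ∀ o ∈ O, k • g • o = g • o
  · -- K is normalised by g, hence normal
    have hgn : g⁻¹ ∈ Subgroup.normalizer (K : Set G) := by
      refine Subgroup.mem_normalizer_iff_map_conj_eq.mpr (Subgroup.eq_of_le_of_card_ge ?_ ?_)
      · rintro _ ⟨k, hk, rfl⟩
        rw [hKmem]
        show (g⁻¹ * k * g⁻¹⁻¹) • α = α ∧ ∀ x ∈ O, (g⁻¹ * k * g⁻¹⁻¹) • x = x
        simp only [inv_inv, mul_smul, hg]
        refine ⟨?_, fun x hx => by rw [hall k hk x hx, inv_smul_smul]⟩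
        rw [((hKmem k).mp hk).2 ω (MulAction.mem_orbit_self ω), ← hg, inv_smul_smul]
      · exact (Nat.card_congr (Subgroup.equivMapOfInjective _ _ (MulAut.conj g⁻¹).injective).toEquiv).le
    have hHn : (MulAction.stabilizer G α) ≤ Subgroup.normalizer (K : Set G) := fun f hf => by
      rw [Subgroup.mem_normalizer_iff]
      refine fun k => ⟨hKn f hf k, fun hk => ?_⟩
      have := hKn f⁻¹ (inv_mem hf) _ hk
      simpa [mul_assoc] using this
    have htop : Subgroup.normalizer (K : Set G) = ⊤ := by
      rcases hcoat.le_iff.mp hHn with h' | h'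
      · exact h'
      · exact absurd (inv_mem_iff.mp (h' ▸ hgn)) hgH
    haveI := Subgroup.normalizer_eq_top_iff.mp htop
    rw [Subgroup.eq_bot_iff_forall]
    intro k hk
    refine FaithfulSMul.eq_of_smul_eq_smul (α := Ω) fun w => ?_
    obtain ⟨f, rfl⟩ := MulAction.exists_smul_eq G α w
    have := ((hKmem _).mp (Subgroup.Normal.conj_mem inferInstance k hk f⁻¹)).1
    rw [inv_inv, mul_smul, mul_smul, inv_smul_eq_iff] at this
    rw [one_smul, this]
  · exfalso
    push Not at hall
    obtain ⟨k₀, hk₀, o, ho, hmove⟩ := hall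
    set δ := g • o with hδ
    -- K is transitive on the (MulAction.stabilizer G α)-orbit of δ
    have htrans : ∀ f ∈ (MulAction.stabilizer G α), ∃ k ∈ K, k • δ = f • δ := by
      haveI := hep α δ
      let K' : Subgroup (MulAction.stabilizer G α) := K.subgroupOf (MulAction.stabilizer G α)
      haveI : K'.Normal := ⟨fun k hk f => hKn f f.2 k hk⟩
      let δ' : MulAction.orbit (MulAction.stabilizer G α) δ := ⟨δ, MulAction.mem_orbit_self δ⟩
      have hB : MulAction.IsBlock (MulAction.stabilizer G α) (MulAction.orbit K' δ') := MulAction.IsBlock.orbit_of_normal δ'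
      rcases MulAction.IsPreprimitive.isTrivialBlock_of_isBlock hB with hs | hu
      · have hmem : (⟨k₀, hk₀.1⟩ : (MulAction.stabilizer G α)) • δ' ∈ MulAction.orbit K' δ' := ⟨⟨⟨k₀, hk₀.1⟩, hk₀⟩, rfl⟩
        exact absurd (congrArg Subtype.val (hs hmem (MulAction.mem_orbit_self δ'))) hmove
      · intro f hf
        obtain ⟨k, hk⟩ := (hu ▸ Set.mem_univ _ : (⟨f, hf⟩ : (MulAction.stabilizer G α)) • δ' ∈ MulAction.orbit K' δ')
        exact ⟨((k : (MulAction.stabilizer G α)) : G), k.2, congrArg Subtype.val hk⟩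
    let In : Ω → Set Ω := fun z => {x | ∃ f : G, f • α = x ∧ f • ω = z}
    have hequiv : ∀ (f : G) z, In (f • z) = f • In z := by
      intro f z
      ext x
      rw [Set.mem_smul_set_iff_inv_smul_mem]
      constructor
      · rintro ⟨e, he1, he2⟩
        exact ⟨f⁻¹ * e, by rw [mul_smul, he1], by rw [mul_smul, he2, inv_smul_smul]⟩
      · rintro ⟨e, he1, he2⟩
        exact ⟨f * e, by rw [mul_smul, he1, smul_inv_smul], by rw [mul_smul, he2]⟩
    have hIn0 : In α = MulAction.orbit (MulAction.stabilizer G α) (g⁻¹ • α) := by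
      ext x
      constructor
      · rintro ⟨f, hf1, hf2⟩
        have hm : f * g ∈ (MulAction.stabilizer G α) := by rw [MulAction.mem_stabilizer_iff, mul_smul, hg, hf2]
        refine ⟨⟨f * g, hm⟩, ?_⟩
        show (f * g) • g⁻¹ • α = x
        rw [← mul_smul, mul_inv_cancel_right, hf1]
      · rintro ⟨f, rfl⟩
        refine ⟨(f : G) * g⁻¹, by rw [mul_smul]; rfl, ?_⟩
        rw [mul_smul, ← hg, inv_smul_smul]
        exact f.2
    have hcardO : (MulAction.orbit (MulAction.stabilizer G α) (g⁻¹ • α)).ncard = O.ncard := by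
      have h1 : ∀ w : Ω, (MulAction.orbit (MulAction.stabilizer G α) w).ncard * Nat.card ((MulAction.stabilizer G α) ⊓ MulAction.stabilizer G w : Subgroup G) = Nat.card (MulAction.stabilizer G α) := by
        intro w
        rw [← MulAction.index_stabilizer, mul_comm]
        have e : (MulAction.stabilizer (MulAction.stabilizer G α) w).index = (MulAction.stabilizer G w).relIndex (MulAction.stabilizer G α) := rfl
        rw [e, ← Subgroup.inf_relIndex_left]
        have h2 := Subgroup.relIndex_mul_relIndex ⊥ ((MulAction.stabilizer G α) ⊓ MulAction.stabilizer G w) (MulAction.stabilizer G α) bot_le inf_le_left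
        rwa [Subgroup.relIndex_bot_left, Subgroup.relIndex_bot_left] at h2
      have h2 : Nat.card ((MulAction.stabilizer G α) ⊓ MulAction.stabilizer G (g⁻¹ • α) : Subgroup G) =
          Nat.card ((MulAction.stabilizer G α) ⊓ MulAction.stabilizer G ω : Subgroup G) := by
        have e : ((MulAction.stabilizer G α) ⊓ MulAction.stabilizer G (g⁻¹ • α)).map (MulAut.conj g).toMonoidHom = (MulAction.stabilizer G α) ⊓ MulAction.stabilizer G ω := by
          rw [Subgroup.map_inf _ _ _ (MulAut.conj g).injective, ← MulAction.stabilizer_smul_eq_stabilizer_map_conj,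
            ← MulAction.stabilizer_smul_eq_stabilizer_map_conj, smul_inv_smul, hg, inf_comm]
        rw [← e]
        exact Nat.card_congr (Subgroup.equivMapOfInjective _ _ (MulAut.conj g).injective).toEquiv
      have := (h1 (g⁻¹ • α)).trans (h1 ω).symm
      rw [h2] at this
      exact Nat.eq_of_mul_eq_mul_right Nat.card_pos this
    -- the in-neighbours of δ are exactly O
    obtain ⟨⟨j, hj⟩, hjo⟩ := ho
    have hω_in : ω ∈ In δ := by
      refine ⟨g * j, by rw [mul_smul, show j • α = α from hj, hg], ?_⟩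
      rw [mul_smul, hδ, ← hjo]; rfl
    have hsub : O ⊆ In δ := by
      rintro _ ⟨⟨f, hf⟩, rfl⟩
      obtain ⟨k, hk, hkd⟩ := htrans f⁻¹ (inv_mem hf)
      obtain ⟨e, he1, he2⟩ := hω_in
      refine ⟨f * k * e, ?_, ?_⟩
      · rw [mul_smul, mul_smul, he1, ((hKmem k).mp hk).2 ω (MulAction.mem_orbit_self ω)]; rfl
      · rw [mul_smul, mul_smul, he2, hkd, smul_inv_smul]
    have hInδ : In δ = O := by
      refine (Set.eq_of_subset_of_ncard_le hsub ?_).symm
      obtain ⟨f, hf⟩ := MulAction.exists_smul_eq G α δ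
      rw [← hf, hequiv, Set.ncard_smul_set, hIn0, hcardO]
    set B : Set Ω := {z | In z = In δ} with hB
    have hblock : MulAction.IsBlock G B := by
      rw [MulAction.isBlock_iff_smul_eq_or_disjoint]
      intro f
      by_cases hd : Disjoint (f • B) B
      · exact Or.inr hd
      left
      obtain ⟨z, hz, hzB⟩ := Set.not_disjoint_iff.mp hd
      obtain ⟨y, hy, rfl⟩ := hz
      have hfd : f • In δ = In δ := by
        rw [← (hy : In y = In δ), ← hequiv, (hzB : In (f • y) = In δ)]
        exact hy.symm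
      ext x
      rw [Set.mem_smul_set_iff_inv_smul_mem]
      show In (f⁻¹ • x) = In δ ↔ In x = In δ
      rw [hequiv, inv_smul_eq_iff, hfd]
    rcases MulAction.IsPreprimitive.isTrivialBlock_of_isBlock hblock with hs | hu
    · have hmem : k₀ • δ ∈ B := by
        show In (k₀ • δ) = In δ
        rw [hequiv, hInδ]
        ext x
        rw [Set.mem_smul_set_iff_inv_smul_mem]
        exact ⟨fun hx => by
            have := MulAction.mem_orbit_of_mem_orbit (⟨k₀, hk₀.1⟩ : (MulAction.stabilizer G α)) hx
            rwa [Subgroup.smul_def, smul_inv_smul] at this,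
          fun hx => MulAction.mem_orbit_of_mem_orbit (⟨k₀, hk₀.1⟩ : (MulAction.stabilizer G α))⁻¹ hx⟩
      exact hmove (hs hmem (rfl : δ ∈ B))
    · have hconst : ∀ z, In z = O := fun z => (hu ▸ Set.mem_univ z : z ∈ B).trans hInδ
      have hαmem : α ∈ In ω := ⟨1, one_smul _ _, one_smul _ _⟩
      rw [hconst] at hαmem
      obtain ⟨f, hf⟩ := hαmem
      exact hω (MulAction.injective (f : G) ((show (f : G) • ω = α from hf).trans f.2.symm))

end Cfsg.Agent.S3494
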