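import Cfsg.Statements.S3495
import Mathlib
import Cfsg.Agent.S3494

set_option autoImplicit false
open Cfsg

namespace Cfsg.Agent.S3495

/-- Let a finite group G act faithfully and primitively on a finite set Ω with non-trivial point stabilizers, each acting primitively on every one of its orbits (an extremely primitive group), and suppose G has an elementary abelian normal p-subgroup N acting regularly on Ω (affine type). Then every non-trivial subgroup M of a point stabilizer G_α that is normal in G_α has the same orbits on Ω as G_α, and normalizes no subgroup of N other than 1 and N. -/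
theorem result {G : Type*} [Group G] [Finite G] {Ω : Type*} [Fintype Ω] [MulAction G Ω] [FaithfulSMul G Ω] (hprim : MulAction.IsPreprimitive G Ω) (hH : ∀ α : Ω, MulAction.stabilizer G α ≠ ⊥) (hep : ∀ (α : Ω) (ω : Ω), MulAction.IsPreprimitive (MulAction.stabilizer G α) (MulAction.orbit (MulAction.stabilizer G α) ω))
    (N : Subgroup G) [N.Normal] (hNc : IsMulCommutative N) (p : ℕ) (hp : p.Prime) (hNp : ∀ n ∈ N, n ^ p = 1)
    (hNtr : MulAction.IsPretransitive N Ω) (hNreg : ∀ ω : Ω, MulAction.stabilizer N ω = ⊥) (α : Ω) (M : Subgroup G) (hM : M ≠ ⊥) (hMle : M ≤ MulAction.stabilizer G α)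
    (hMn : MulAction.stabilizer G α ≤ Subgroup.normalizer (M : Set G)) :
    (∀ ω : Ω, MulAction.orbit M ω = MulAction.orbit (MulAction.stabilizer G α) ω) ∧
    (∀ L : Subgroup G, L ≤ N → M ≤ Subgroup.normalizer (L : Set G) → L = ⊥ ∨ L = N) := by
  classical
  haveI := hprim
  haveI := hNtr
  set O := fun ω : Ω => MulAction.orbit (MulAction.stabilizer G α) ω
  have horb : ∀ ω : Ω, MulAction.orbit M ω = MulAction.orbit (MulAction.stabilizer G α) ω := by
    intro ω
    apply Set.Subset.antisymm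
    · rintro _ ⟨m, rfl⟩; exact ⟨⟨m, hMle m.2⟩, rfl⟩
    · by_cases hω : ω = α
      · subst hω
        rintro _ ⟨f, rfl⟩
        exact ⟨1, by show (1 : G) • ω = (f : G) • ω; rw [one_smul]; exact f.2.symm⟩
      · haveI := hep α ω
        obtain ⟨m, hm, hm1⟩ := (Subgroup.bot_or_exists_ne_one M).resolve_left hM
        obtain ⟨x, hx, hmx⟩ : ∃ x ∈ MulAction.orbit (MulAction.stabilizer G α) ω, m • x ≠ x := by
          by_contra h; push Not at h
          exact hm1 (congrArg Subtype.val (Cfsg.Agent.S3494.result hprim hH hep α ω hω ⟨m, hMle hm⟩ h))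
        let K' : Subgroup (MulAction.stabilizer G α) := M.subgroupOf _
        haveI : K'.Normal := ⟨fun k hk f => (Subgroup.mem_normalizer_iff.mp (hMn f.2) _).mp hk⟩
        let x' : MulAction.orbit (MulAction.stabilizer G α) ω := ⟨x, hx⟩
        rcases MulAction.IsPreprimitive.isTrivialBlock_of_isBlock
          (MulAction.IsBlock.orbit_of_normal (N := K') x') with hs | hu
        · have hmem : (⟨m, hMle hm⟩ : MulAction.stabilizer G α) • x' ∈ MulAction.orbit K' x' :=
            ⟨⟨⟨m, hMle hm⟩, hm⟩, rfl⟩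
          exact absurd (congrArg Subtype.val (hs hmem (MulAction.mem_orbit_self x'))) hmx
        · intro y hy
          obtain ⟨k, hk⟩ := (hu ▸ Set.mem_univ _ : (⟨y, hy⟩ : MulAction.orbit (MulAction.stabilizer G α) ω) ∈ MulAction.orbit K' x')
          obtain ⟨l, hl⟩ := (hu ▸ Set.mem_univ _ : (⟨ω, MulAction.mem_orbit_self ω⟩ : MulAction.orbit (MulAction.stabilizer G α) ω) ∈ MulAction.orbit K' x')
          refine ⟨⟨_, M.mul_mem k.2 (M.inv_mem l.2)⟩, ?_⟩
          show (((k : MulAction.stabilizer G α) : G) * ((l : MulAction.stabilizer G α) : G)⁻¹) • ω = y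
          rw [mul_smul]
          have h1 : ((l : MulAction.stabilizer G α) : G) • x = ω := congrArg Subtype.val hl
          rw [← h1, inv_smul_smul]
          exact congrArg Subtype.val hk
  refine ⟨horb, fun L hL hMnorm => ?_⟩
  have hreg : ∀ n ∈ N, n • α = α → n = 1 := fun n hn h => by
    have : (⟨n, hn⟩ : N) ∈ MulAction.stabilizer N α := h
    rw [hNreg, Subgroup.mem_bot] at this
    exact congrArg Subtype.val this
  have hconj : ∀ f ∈ MulAction.stabilizer G α, ∀ l ∈ L, f * l * f⁻¹ ∈ L := by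
    intro f hf l hl
    obtain ⟨m, hm⟩ : f • (l • α) ∈ MulAction.orbit M (l • α) := by
      rw [horb]; exact ⟨⟨f, hf⟩, rfl⟩
    have hfi : f⁻¹ • α = α := inv_smul_eq_iff.mpr (MulAction.mem_stabilizer_iff.mp hf).symm
    have hl' : (m : G) * l * (m : G)⁻¹ ∈ L := (Subgroup.mem_normalizer_iff.mp (hMnorm m.2) l).mp hl
    have hmi : (m : G)⁻¹ • α = α := inv_smul_eq_iff.mpr (MulAction.mem_stabilizer_iff.mp (hMle m.2)).symm
    have e : f * l * f⁻¹ = (m : G) * l * (m : G)⁻¹ := by
      refine (inv_mul_eq_one.mp (hreg _ (N.mul_mem (N.inv_mem (hL hl')) (Subgroup.Normal.conj_mem inferInstance l (hL hl) f)) ?_)).symm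
      rw [mul_smul, inv_smul_eq_iff, mul_smul, mul_smul, hfi, mul_smul, mul_smul, hmi]
      exact hm.symm
    rwa [e]
  haveI : L.Normal := ⟨fun l hl g => by
    obtain ⟨n, hn⟩ := MulAction.exists_smul_eq N α (g • α)
    have hf : (n : G)⁻¹ * g ∈ MulAction.stabilizer G α := by
      rw [MulAction.mem_stabilizer_iff, mul_smul, ← hn, Subgroup.smul_def, inv_smul_smul]
    have h1 := hconj _ hf l hl
    have hc : (n : G) * ((n : G)⁻¹ * g * l * ((n : G)⁻¹ * g)⁻¹) = ((n : G)⁻¹ * g * l * ((n : G)⁻¹ * g)⁻¹) * (n : G) :=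
      congrArg Subtype.val (hNc.is_comm.comm n ⟨_, hL h1⟩)
    rw [show g * l * g⁻¹ = (n : G) * ((n : G)⁻¹ * g * l * ((n : G)⁻¹ * g)⁻¹) * (n : G)⁻¹ by group, hc, mul_inv_cancel_right]
    exact h1⟩
  rcases MulAction.IsPreprimitive.isTrivialBlock_of_isBlock (MulAction.IsBlock.orbit_of_normal (N := L) α) with hs | hu
  · left
    rw [Subgroup.eq_bot_iff_forall]
    exact fun l hl => hreg l (hL hl) (hs ⟨⟨l, hl⟩, rfl⟩ (MulAction.mem_orbit_self α))
  · right
    refine le_antisymm hL fun n hn => ?_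
    obtain ⟨l, hl⟩ := (hu ▸ Set.mem_univ _ : n • α ∈ MulAction.orbit L α)
    have hl' : (l : G) • α = n • α := hl
    have := hreg _ (N.mul_mem (N.inv_mem (hL l.2)) hn) (by rw [mul_smul, ← hl', inv_smul_smul])
    rw [← inv_mul_eq_one.mp this]
    exact l.2

end Cfsg.Agent.S3495
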