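import Cfsg.Statements.S3496
import Cfsg.Agent.S3494
import Cfsg.Agent.S3495
import Cfsg.Agent.Lib.Grp.Primitive
-- import your own Cfsg.Agent.* helpers here

set_option autoImplicit false
open Cfsg

namespace Cfsg.Agent.S3496

theorem field_core {H : Type*} [Group H] [Finite H] {A : Type*} [AddCommGroup A] [Finite A] [Nontrivial A]
    {p d : ℕ} [Fact p.Prime] (hA : Nat.card A = p ^ d) (hexp : ∀ a : A, p • a = 0)
    (φ : H →* AddMonoid.End A) (T D : Subgroup H) [T.Normal] (hTne : T ≠ ⊥)
    (hTc : ∀ x ∈ T, ∀ y ∈ T, x * y = y * x) {q : ℕ} [hq : Fact q.Prime] (hTq : ∀ x ∈ T, x ^ q = 1)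
    (hfpf : ∀ t ∈ T, ∀ a : A, φ t a = a → t = 1 ∨ a = 0)
    (hirr : ∀ L : AddSubgroup A, (∀ t ∈ T, ∀ a ∈ L, φ t a ∈ L) → L = ⊥ ∨ L = ⊤)
    (hD : ∀ h ∈ D, (∀ t ∈ T, h * t = t * h) → h = 1) :
    Nat.card T = q ∧ q ∣ p ^ d - 1 ∧ (∀ i : ℕ, 0 < i → i < d → ¬ q ∣ p ^ i - 1) ∧
      (∃ h ∈ D, D = Subgroup.zpowers h) ∧ Nat.card D ∣ d := by
  classical
  set S : Set (AddMonoid.End A) := φ '' (T : Set H) with hS
  have hScomm : ∀ x ∈ S, ∀ y ∈ S, x * y = y * x := by
    rintro _ ⟨x, hx, rfl⟩ _ ⟨y, hy, rfl⟩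
    rw [← map_mul, ← map_mul, hTc x hx y hy]
  set R := Subring.closure S with hR
  letI : CommRing R :=
    { (inferInstance : Ring R) with
      mul_comm := fun a b => Subtype.ext (by
        have h1 : ∀ x ∈ S, R ≤ Subring.centralizer {x} := fun x hx =>
          Subring.closure_le.mpr fun y hy => Subring.mem_centralizer_iff.mpr fun z hz => by
            rw [Set.mem_singleton_iff] at hz
            rw [hz]; exact hScomm x hx y hy
        have h2 : R ≤ Subring.centralizer (R : Set (AddMonoid.End A)) :=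
          Subring.closure_le.mpr fun x hx => Subring.mem_centralizer_iff.mpr fun z hz =>
            (Subring.mem_centralizer_iff.mp (h1 x hx hz) x rfl).symm
        exact Subring.mem_centralizer_iff.mp (h2 b.2) a a.2) }
  have hcomm : ∀ r : R, ∀ t ∈ T, (r : AddMonoid.End A) * φ t = φ t * (r : AddMonoid.End A) := fun r t ht =>
    congrArg Subtype.val (mul_comm r ⟨φ t, Subring.subset_closure ⟨t, ht, rfl⟩⟩)
  have hinj : ∀ r : R, r ≠ 0 → ∀ a : A, (r : AddMonoid.End A) a = 0 → a = 0 := by
    intro r hr a ha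
    have hL := hirr (r : AddMonoid.End A).ker (fun t ht x hx => by
      change (r : AddMonoid.End A) x = 0 at hx
      change (r : AddMonoid.End A) (φ t x) = 0
      have := DFunLike.congr_fun (hcomm r t ht) x
      exact this.trans ((congrArg (φ t) hx).trans (map_zero _)))
    rcases hL with hL | hL
    · have : a ∈ (r : AddMonoid.End A).ker := ha
      rwa [hL, AddSubgroup.mem_bot] at this
    · refine absurd (Subtype.ext (AddMonoidHom.ext fun x => ?_)) hr
      have : x ∈ (r : AddMonoid.End A).ker := hL ▸ AddSubgroup.mem_top x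
      exact this
  haveI : Nontrivial R := by
    obtain ⟨a, ha⟩ := exists_ne (0 : A)
    exact ⟨⟨0, 1, fun h => ha (DFunLike.congr_fun (congrArg Subtype.val h) a).symm⟩⟩
  haveI : NoZeroDivisors R := ⟨fun {r s} hrs => by
    by_contra h
    push Not at h
    obtain ⟨a, ha⟩ := exists_ne (0 : A)
    exact ha (hinj s h.2 a (hinj r h.1 _ (DFunLike.congr_fun (congrArg Subtype.val hrs) a)))⟩
  haveI : IsDomain R := NoZeroDivisors.to_isDomain R
  haveI : Finite R := Finite.of_injective (fun r : R => ((r : AddMonoid.End A) : A → A))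
    (fun r s h => Subtype.ext (DFunLike.coe_injective h))
  haveI := Fintype.ofFinite R
  -- `A` is free of rank one over `R`
  have hcardR : Nat.card R = p ^ d := by
    obtain ⟨a, ha⟩ := exists_ne (0 : A)
    let ev : R →+ A :=
      { toFun := fun r => (r : AddMonoid.End A) a, map_zero' := rfl, map_add' := fun r s => rfl }
    have hevi : Function.Injective ev := (injective_iff_map_eq_zero ev).mpr fun r hr => by
      by_contra h; exact ha (hinj r h a hr)
    have hevs : ev.range = ⊤ := by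
      refine (hirr ev.range fun t ht x hx => ?_).resolve_left fun h => ?_
      · obtain ⟨r, rfl⟩ := hx
        exact ⟨⟨φ t, Subring.subset_closure ⟨t, ht, rfl⟩⟩ * r, rfl⟩
      · have : a ∈ ev.range := ⟨1, rfl⟩
        rw [h, AddSubgroup.mem_bot] at this
        exact ha this
    rw [← hA]
    exact Nat.card_eq_of_bijective ev ⟨hevi, AddMonoidHom.range_eq_top.mp hevs⟩
  let θ : T →* R :=
    { toFun := fun t => ⟨φ t, Subring.subset_closure ⟨t, t.2, rfl⟩⟩
      map_one' := Subtype.ext (map_one φ)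
      map_mul' := fun x y => Subtype.ext (map_mul φ _ _) }
  have hθ : Function.Injective θ := by
    intro x y hxy
    obtain ⟨a, ha⟩ := exists_ne (0 : A)
    have h1 : φ ((x : H)⁻¹ * y) a = a := by
      have e : φ (y : H) = φ (x : H) := (congrArg Subtype.val hxy).symm
      rw [map_mul, e, ← map_mul, inv_mul_cancel, map_one]
      rfl
    rcases hfpf _ (T.mul_mem (T.inv_mem x.2) y.2) a h1 with h | h
    · exact Subtype.ext (inv_mul_eq_one.mp h)
    · exact absurd h ha
  haveI : IsCyclic T := isCyclic_of_subgroup_isDomain θ hθ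
  obtain ⟨t₀, ht₀⟩ := IsCyclic.exists_generator (α := T)
  have ht₀q : t₀ ^ q = 1 := Subtype.ext (hTq _ t₀.2)
  have hcard : Nat.card T = q := by
    have h1 : orderOf t₀ = Nat.card T := orderOf_eq_card_of_forall_mem_zpowers ht₀
    rcases hq.out.eq_one_or_self_of_dvd _ (orderOf_dvd_of_pow_eq_one ht₀q) with h | h
    · rw [h] at h1
      exact absurd (Subgroup.eq_bot_of_card_eq T h1.symm) hTne
    · rw [← h1, h]
  have hζ1 : θ t₀ ≠ 1 := by
    intro h
    have : t₀ = 1 := hθ (h.trans (map_one θ).symm)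
    have h1 : orderOf t₀ = Nat.card T := orderOf_eq_card_of_forall_mem_zpowers ht₀
    rw [this, orderOf_one, hcard] at h1
    exact hq.out.one_lt.ne h1
  letI : Field R := Fintype.fieldOfDomain R
  have hζq : orderOf (θ t₀) = q := orderOf_eq_prime (by rw [← map_pow, ht₀q, map_one]) hζ1
  have hcardR' : Fintype.card R = p ^ d := by rw [← Nat.card_eq_fintype_card, hcardR]
  have hdvd : q ∣ p ^ d - 1 := by
    rw [← hζq]
    refine orderOf_dvd_of_pow_eq_one ?_
    rw [← hcardR']
    exact FiniteField.pow_card_sub_one_eq_one _ fun h => by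
      have := hζq
      rw [h, orderOf_zero] at this
      exact hq.out.ne_zero this.symm
  haveI : CharP R p := by
    refine CharP.charP_iff_prime_eq_zero (Fact.out : p.Prime) |>.mpr ?_
    refine Subtype.ext (AddMonoidHom.ext fun a => ?_)
    push_cast
    exact (AddMonoid.End.natCast_apply p a).trans (hexp a)
  have hd0 : 0 < d := by
    by_contra h
    have := Finite.one_lt_card (α := R)
    rw [hcardR, show d = 0 by omega, pow_zero] at this
    omega
  have hord : ∀ i : ℕ, 0 < i → i < d → ¬ q ∣ p ^ i - 1 := by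
    intro i hi hid hdiv
    have hfixζ : θ t₀ ^ p ^ i = θ t₀ := by
      obtain ⟨k, hk⟩ := hdiv
      have h1 : p ^ i = q * k + 1 := by
        have := Nat.one_le_pow i p (Fact.out : p.Prime).pos; omega
      rw [h1, pow_succ, pow_mul, ← map_pow θ, ht₀q, map_one, one_pow, one_mul]
    let Fx : Subring R :=
      { carrier := {x | x ^ p ^ i = x}
        one_mem' := one_pow _
        zero_mem' := zero_pow (pow_ne_zero _ (Fact.out : p.Prime).ne_zero)
        mul_mem' := fun {a b} ha hb => by
          show (a * b) ^ p ^ i = a * b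
          rw [mul_pow, ha, hb]
        add_mem' := fun {a b} ha hb => by
          show (a + b) ^ p ^ i = a + b
          rw [add_pow_char_pow, ha, hb]
        neg_mem' := fun {a} ha => by
          show (-a) ^ p ^ i = -a
          have h0 : (-a) ^ p ^ i + a ^ p ^ i = 0 := by
            rw [← add_pow_char_pow, neg_add_cancel, zero_pow (pow_ne_zero _ (Fact.out : p.Prime).ne_zero)]
          rw [ha] at h0
          exact eq_neg_of_add_eq_zero_left h0 }
    have hall : ∀ x : R, x ^ p ^ i = x := by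
      have hle : R ≤ Fx.map R.subtype := by
        refine Subring.closure_le.mpr ?_
        rintro _ ⟨t, ht, rfl⟩
        refine ⟨θ ⟨t, ht⟩, ?_, rfl⟩
        obtain ⟨k, hk⟩ := mem_powers_iff_mem_zpowers.mpr (ht₀ ⟨t, ht⟩)
        show θ ⟨t, ht⟩ ^ p ^ i = θ ⟨t, ht⟩
        rw [← hk, map_pow, ← pow_mul, mul_comm, pow_mul, hfixζ]
      intro x
      obtain ⟨y, hy, he⟩ := hle x.2
      rw [← Subtype.ext (a1 := y) (a2 := x) he]
      exact hy
    have h2 : 1 < p ^ i := Nat.one_lt_pow hi.ne' (Fact.out : p.Prime).one_lt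
    have h3 : (Polynomial.X ^ p ^ i - Polynomial.X : Polynomial R) ≠ 0 :=
      FiniteField.X_pow_card_sub_X_ne_zero R h2
    have h4 := Polynomial.card_roots' (Polynomial.X ^ p ^ i - Polynomial.X : Polynomial R)
    rw [FiniteField.X_pow_card_sub_X_natDegree_eq R h2] at h4
    have h5 : Finset.univ.val ≤ (Polynomial.X ^ p ^ i - Polynomial.X : Polynomial R).roots := by
      refine (Multiset.le_iff_subset Finset.univ.nodup).mpr fun x _ => ?_
      rw [Polynomial.mem_roots h3, Polynomial.IsRoot]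
      simp [hall x]
    have h6 := (Multiset.card_le_card h5).trans h4
    rw [Finset.card_val, Finset.card_univ, hcardR'] at h6
    exact absurd h6 (not_le.mpr (Nat.pow_lt_pow_right (Fact.out : p.Prime).one_lt hid))
  refine ⟨hcard, hdvd, hord, ?_⟩
  -- the Galois action of `D`
  have hpq : Nat.Coprime p q := by
    refine (Nat.coprime_primes Fact.out hq.out).mpr fun h => ?_
    have h1 := Nat.dvd_sub (dvd_pow_self q hd0.ne') (h ▸ hdvd)
    rw [Nat.sub_sub_self (Nat.one_le_pow _ _ hq.out.pos), Nat.dvd_one] at h1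
    exact hq.out.ne_one h1
  have hpow : ∀ t : T, t ^ p ^ d = t := by
    intro t
    obtain ⟨k, hk⟩ := hdvd
    have h1 : p ^ d = q * k + 1 := by
      have := Nat.one_le_pow d p (Fact.out : p.Prime).pos; omega
    rw [h1, pow_succ, pow_mul, show t ^ q = 1 from Subtype.ext (hTq _ t.2), one_pow, one_mul]
  letI : CommGroup T := { (inferInstance : Group T) with
    mul_comm := fun a b => Subtype.ext (hTc a a.2 b b.2) }
  let fr : MulAut T := MulEquiv.ofBijective (powMonoidHom p : T →* T) (by
    exact (powCoprime (G := T) (n := p) (by rw [hcard]; exact hpq.symm)).bijective)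
  have hfr : ∀ (j : ℕ) (t : T), (fr ^ j) t = t ^ p ^ j := by
    intro j
    induction j with
    | zero => intro t; rw [pow_zero, pow_zero, pow_one]; rfl
    | succ j ih =>
      intro t
      rw [pow_succ, MulAut.mul_apply, ih]
      show (t ^ p) ^ p ^ j = _
      rw [← pow_mul, ← pow_succ']
  have hfrd : fr ^ d = 1 := MulEquiv.ext fun t => by rw [hfr, hpow]; rfl
  let ψ : D →* MulAut T := (MulAut.conjNormal (G := H) (H := T)).comp D.subtype
  have hψi : Function.Injective ψ := (injective_iff_map_eq_one ψ).mpr fun h hh =>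
    Subtype.ext (hD h h.2 fun t ht => by
      have := congrArg Subtype.val (DFunLike.congr_fun hh ⟨t, ht⟩)
      simp only [ψ, MonoidHom.comp_apply, MulAut.conjNormal_apply, Subgroup.coe_subtype,
        MulAut.one_apply] at this
      exact mul_inv_eq_iff_eq_mul.mp this)
  haveI : Algebra (ZMod p) R := ZMod.algebra R p
  haveI : Fact p.Prime := inferInstance
  have hrange : ψ.range ≤ Subgroup.zpowers fr := by
    rintro _ ⟨h, rfl⟩
    -- conjugation by `h` on `R`
    let c : AddMonoid.End A →+* AddMonoid.End A :=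
      { toFun := fun r => φ (h : H) * r * φ (h : H)⁻¹
        map_one' := by rw [mul_one, ← map_mul, mul_inv_cancel, map_one]
        map_mul' := fun r s => by
          simp only [mul_assoc]
          rw [← mul_assoc (φ (h : H)⁻¹) (φ (h : H)), ← map_mul, inv_mul_cancel, map_one, one_mul]
        map_zero' := by rw [mul_zero, zero_mul]
        map_add' := fun r s => by rw [mul_add, add_mul] }
    have hc : ∀ r ∈ R, c r ∈ R := by
      intro r hr
      have : R ≤ R.comap c := Subring.closure_le.mpr (by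
        rintro _ ⟨t, ht, rfl⟩
        refine Subring.subset_closure ⟨(h : H) * t * (h : H)⁻¹, Subgroup.Normal.conj_mem inferInstance t ht _, ?_⟩
        rw [map_mul, map_mul]; rfl)
      exact this hr
    let σ : R →+* R := c.restrict R R hc
    have hσb : Function.Bijective σ :=
      ⟨σ.injective, (Finite.injective_iff_surjective).mp σ.injective⟩
    let σ' : R ≃ₐ[ZMod p] R := AlgEquiv.ofRingEquiv (f := RingEquiv.ofBijective σ hσb) (fun x => by
      exact DFunLike.congr_fun (Subsingleton.elim (σ.comp (algebraMap (ZMod p) R)) (algebraMap (ZMod p) R)) x)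
    obtain ⟨j, hj⟩ := (FiniteField.bijective_frobeniusAlgEquivOfAlgebraic_pow (ZMod p) R).2 σ'
    refine ⟨(j : ℕ), ?_⟩
    show fr ^ ((j : ℕ) : ℤ) = ψ h
    rw [zpow_natCast]
    refine MulEquiv.ext fun t => hθ ?_
    rw [hfr]
    have h2 : σ' (θ t) = θ (ψ h t) := by
      refine Subtype.ext ?_
      show φ (h : H) * φ (t : H) * φ (h : H)⁻¹ = φ ((ψ h t : T) : H)
      rw [← map_mul, ← map_mul]
      rfl
    rw [← h2, ← hj, map_pow]
    rw [AlgEquiv.coe_pow, FiniteField.coe_frobeniusAlgEquivOfAlgebraic, pow_iterate, ZMod.card]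
  obtain ⟨g, hg⟩ : ∃ g : D, ∀ x : D, x ∈ Subgroup.zpowers g := by
    haveI : IsCyclic D := isCyclic_of_injective
      ((Subgroup.inclusion hrange).comp ψ.rangeRestrict)
      ((Subgroup.inclusion_injective hrange).comp fun a b hab => hψi (congrArg Subtype.val hab))
    exact IsCyclic.exists_generator
  refine ⟨⟨g, g.2, le_antisymm (fun x hx => ?_) (Subgroup.zpowers_le.mpr g.2)⟩, ?_⟩
  · obtain ⟨k, hk⟩ := hg ⟨x, hx⟩
    exact ⟨k, congrArg Subtype.val hk⟩
  · have h1 : Nat.card D = Nat.card ψ.range := Nat.card_congr (MonoidHom.ofInjective hψi).toEquiv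
    rw [h1]
    refine (Subgroup.card_dvd_of_le hrange).trans ?_
    rw [Nat.card_zpowers]
    exact orderOf_dvd_of_pow_eq_one hfrd

theorem affine_field.{u} {G : Type u} [Group G] [Finite G] (M H T D : Subgroup G) [M.Normal] [IsMulCommutative M]
    (hMne : M ≠ ⊥) {p d q : ℕ} [Fact p.Prime] [Fact q.Prime] (hMcard : Nat.card M = p ^ d)
    (hMexp : ∀ m ∈ M, m ^ p = 1) (hTH : T ≤ H) (hDH : D ≤ H) (hTne : T ≠ ⊥)
    (hHT : H ≤ Subgroup.normalizer (T : Set G)) (hTc : ∀ x ∈ T, ∀ y ∈ T, x * y = y * x)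
    (hTq : ∀ x ∈ T, x ^ q = 1)
    (hfpf : ∀ t ∈ T, ∀ m ∈ M, t * m * t⁻¹ = m → t = 1 ∨ m = 1)
    (hirr : ∀ L : Subgroup G, L ≤ M → T ≤ Subgroup.normalizer (L : Set G) → L = ⊥ ∨ L = M)
    (hD : ∀ h ∈ D, (∀ t ∈ T, h * t = t * h) → h = 1) :
    Nat.card T = q ∧ q ∣ p ^ d - 1 ∧ (∀ i : ℕ, 0 < i → i < d → ¬ q ∣ p ^ i - 1) ∧
      (∃ h ∈ D, D = Subgroup.zpowers h) ∧ Nat.card D ∣ d := by
  letI : CommGroup M := { (inferInstance : Group M) with
    mul_comm := fun a b => IsMulCommutative.is_comm.comm a b }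
  let φ : H →* AddMonoid.End (Additive M) :=
    { toFun := fun h => MonoidHom.toAdditive (MulAut.conjNormal (h : G)).toMonoidHom
      map_one' := AddMonoidHom.ext fun a => Subtype.ext (by
        show ((1 : H) : G) * ((Additive.toMul a : M) : G) * ((1 : H) : G)⁻¹ = _
        simp; rfl)
      map_mul' := fun g h => AddMonoidHom.ext fun a => Subtype.ext (by
        show ((g * h : H) : G) * ((Additive.toMul a : M) : G) * ((g * h : H) : G)⁻¹ =
          (g : G) * ((h : G) * ((Additive.toMul a : M) : G) * (h : G)⁻¹) * (g : G)⁻¹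
        simp [mul_assoc]) }
  haveI : Nontrivial (Additive M) := by
    haveI := (Subgroup.nontrivial_iff_ne_bot M).mpr hMne
    exact inferInstanceAs (Nontrivial M)
  haveI : Finite (Additive M) := inferInstanceAs (Finite M)
  haveI : (T.subgroupOf H).Normal := Subgroup.normal_subgroupOf_of_le_normalizer hHT
  have key := field_core (A := Additive M) (p := p) (d := d) (q := q) hMcard
    (fun a => congrArg Additive.ofMul (show (Additive.toMul a : M) ^ p = 1 from Subtype.ext (hMexp _ (Additive.toMul a : M).2)))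
    φ (T.subgroupOf H) (D.subgroupOf H)
    (by rwa [Ne, Subgroup.subgroupOf_eq_bot, disjoint_iff, inf_eq_left.mpr hTH])
    (fun x hx y hy => Subtype.ext (hTc _ hx _ hy))
    (fun x hx => Subtype.ext (hTq _ hx))
    (fun t ht a ha => by
      rcases hfpf _ ht _ (Additive.toMul a : M).2
        (congrArg (fun z : Additive M => ((Additive.toMul z : M) : G)) ha) with h | h
      · exact Or.inl (Subtype.ext h)
      · exact Or.inr (congrArg Additive.ofMul (show (Additive.toMul a : M) = 1 from Subtype.ext h)))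
    (fun L hL => by
      let L' : Subgroup M := AddSubgroup.toSubgroup' L
      have hn : T ≤ Subgroup.normalizer (L'.map M.subtype : Set G) := by
        intro t ht
        have hmem : ∀ t ∈ T, ∀ x ∈ L'.map M.subtype, t * x * t⁻¹ ∈ L'.map M.subtype := by
          rintro t ht _ ⟨y, hy, rfl⟩
          exact ⟨_, hL ⟨t, hTH ht⟩ ht (Additive.ofMul y) hy, rfl⟩
        rw [Subgroup.mem_normalizer_iff]
        refine fun x => ⟨hmem t ht x, fun hx => ?_⟩
        have := hmem t⁻¹ (T.inv_mem ht) _ hx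
        simpa [mul_assoc] using this
      rcases hirr _ (Subgroup.map_subtype_le _) hn with h | h
      · left
        ext a
        rw [AddSubgroup.mem_bot]
        constructor
        · intro ha
          have : ((Additive.toMul a : M) : G) ∈ L'.map M.subtype := ⟨_, ha, rfl⟩
          rw [h, Subgroup.mem_bot] at this
          exact congrArg Additive.ofMul (show (Additive.toMul a : M) = 1 from Subtype.ext this)
        · rintro rfl; exact zero_mem _
      · right
        refine eq_top_iff.mpr fun a _ => ?_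
        obtain ⟨y, hy, he⟩ := (h.symm ▸ (Additive.toMul a : M).2 : ((Additive.toMul a : M) : G) ∈ L'.map M.subtype)
        have : y = (Additive.toMul a : M) := Subtype.ext he
        rw [this] at hy
        exact hy)
    (fun h hh hc => Subtype.ext (hD _ hh fun t ht => congrArg Subtype.val (hc ⟨t, hTH ht⟩ ht)))
  obtain ⟨k1, k2, k3, ⟨h, hhD, hhe⟩, k5⟩ := key
  rw [Nat.card_congr (Subgroup.subgroupOfEquivOfLe hTH).toEquiv] at k1
  rw [Nat.card_congr (Subgroup.subgroupOfEquivOfLe hDH).toEquiv] at k5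
  refine ⟨k1, k2, k3, ⟨h, hhD, le_antisymm (fun x hx => ?_) (Subgroup.zpowers_le.mpr hhD)⟩, k5⟩
  have : (⟨x, hDH hx⟩ : H) ∈ Subgroup.zpowers h := hhe ▸ hx
  obtain ⟨k, hk⟩ := this
  exact ⟨k, congrArg Subtype.val hk⟩

/-- The soluble extremely primitive groups. Let a finite solvable group G act faithfully and primitively on a finite set Ω with p ^ d points (p prime), with non-trivial point stabilizers each acting primitively on every one of its orbits. Then there is a prime q such that every orbit of a point stabilizer G_α other than {α} has exactly q points, q divides p ^ d − 1 but no p ^ i − 1 with 0 < i < d, and G_α has a normal subgroup T of order q with G_α generated by T and one further element and the order of G_α dividing q·d (so G_α is cyclic of order q, or an extension of T by a cyclic group of order dividing d). -/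
theorem result {G : Type*} [Group G] [Finite G] {Ω : Type*} [Fintype Ω] [MulAction G Ω] [FaithfulSMul G Ω] [Group.IsSolvable G] (p d : ℕ) (hp : p.Prime) (hcard : Fintype.card Ω = p ^ d)
    (hprim : MulAction.IsPreprimitive G Ω) (hH : ∀ α : Ω, MulAction.stabilizer G α ≠ ⊥) (hep : ∀ (α : Ω) (ω : Ω), MulAction.IsPreprimitive (MulAction.stabilizer G α) (MulAction.orbit (MulAction.stabilizer G α) ω)) (α : Ω) :
    ∃ q : ℕ, q.Prime ∧ (∀ ω : Ω, ω ≠ α → Nat.card (MulAction.orbit (MulAction.stabilizer G α) ω) = q) ∧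
      q ∣ p ^ d - 1 ∧ (∀ i : ℕ, 0 < i → i < d → ¬ q ∣ p ^ i - 1) ∧
      ∃ T : Subgroup G, T ≤ MulAction.stabilizer G α ∧ MulAction.stabilizer G α ≤ Subgroup.normalizer (T : Set G) ∧ Nat.card T = q ∧
        (∃ h : G, MulAction.stabilizer G α = T ⊔ Subgroup.zpowers h) ∧ Nat.card (MulAction.stabilizer G α) ∣ q * d := by
  classical
  haveI := hprim
  obtain ⟨M, ⟨hMn, hMne⟩, hMmin⟩ : ∃ M, (M.Normal ∧ M ≠ ⊥) ∧ ∀ K : Subgroup G, K.Normal ∧ K ≠ ⊥ → ¬ K < M := by
    refine wellFounded_lt.has_min {M : Subgroup G | M.Normal ∧ M ≠ ⊥} ⟨⊤, inferInstance, fun h => hH α (eq_bot_iff.mpr (h ▸ le_top))⟩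
  have hmin : ∀ K : Subgroup G, K.Normal → K ≤ M → K = ⊥ ∨ K = M := fun K hK hle => by
    by_cases h : K = ⊥
    · exact Or.inl h
    · exact Or.inr (hle.eq_or_lt.resolve_right (hMmin K ⟨hK, h⟩))
  haveI := hMn
  obtain ⟨hMH, -, hMtr, hMC, -⟩ := Grp.solvable_primitive hprim M hMne hmin α
  obtain ⟨hMab, r, hr, hMr⟩ := Grp.minimal_normal_solvable (N := M) inferInstance hMne hmin
  haveI := hMtr
  have hMreg : ∀ ω : Ω, MulAction.stabilizer M ω = ⊥ := fun ω => by
    refine (Subgroup.eq_bot_iff_forall _).mpr fun m hm => Subtype.ext ?_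
    obtain ⟨n, hn⟩ := MulAction.exists_smul_eq M α ω
    have hc : (n : G) * (m : G) = (m : G) * (n : G) := congrArg Subtype.val (hMab.is_comm.comm n m)
    have h1 : (m : G) ∈ M ⊓ MulAction.stabilizer G α := ⟨m.2, by
      have h2 : (m : G) • (n : G) • α = (n : G) • α := by
        change (m : G) • ω = ω at hm
        rwa [← hn] at hm
      rw [← mul_smul, ← hc, mul_smul] at h2
      exact MulAction.mem_stabilizer_iff.mpr ((smul_left_cancel_iff _).mp h2)⟩
    rw [hMH, Subgroup.mem_bot] at h1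
    exact h1
  have hbij : Function.Bijective (fun m : M => m • α) := by
    refine ⟨fun m n hmn => ?_, fun ω => MulAction.exists_smul_eq M α ω⟩
    have : n⁻¹ * m ∈ MulAction.stabilizer M α := by
      rw [MulAction.mem_stabilizer_iff, mul_smul, show m • α = n • α from hmn, inv_smul_smul]
    rw [hMreg, Subgroup.mem_bot, inv_mul_eq_one] at this
    exact this.symm
  have hMcard : Nat.card M = p ^ d := by
    rw [Nat.card_eq_of_bijective _ hbij, Nat.card_eq_fintype_card, hcard]
  have hrp : r = p := by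
    haveI : Nontrivial M := (Subgroup.nontrivial_iff_ne_bot M).mpr hMne
    obtain ⟨s, hs, hsd⟩ := Nat.exists_prime_and_dvd (Finite.one_lt_card (α := M)).ne'
    haveI := Fact.mk hs
    obtain ⟨x, hx⟩ := exists_prime_orderOf_dvd_card' s hsd
    have h1 : s = r := by
      have := orderOf_dvd_of_pow_eq_one (show x ^ r = 1 from Subtype.ext (hMr _ x.2))
      rw [hx] at this
      exact (Nat.prime_dvd_prime_iff_eq hs hr).mp this
    rw [hMcard] at hsd
    rw [← h1]
    exact (Nat.prime_dvd_prime_iff_eq hs hp).mp (hs.dvd_of_dvd_pow hsd)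
  rw [hrp] at hMr
  haveI := Fact.mk hp
  set H := MulAction.stabilizer G α with hHdef
  obtain ⟨T', ⟨hTn, hTne'⟩, hTmin⟩ : ∃ T : Subgroup H, (T.Normal ∧ T ≠ ⊥) ∧ ∀ K : Subgroup H, K.Normal ∧ K ≠ ⊥ → ¬ K < T := by
    refine wellFounded_lt.has_min {M : Subgroup H | M.Normal ∧ M ≠ ⊥} ⟨⊤, inferInstance, fun h => ?_⟩
    haveI : Nontrivial H := (Subgroup.nontrivial_iff_ne_bot H).mpr (hH α)
    exact top_ne_bot h
  haveI := hTn
  obtain ⟨hTab, q, hq, hTq⟩ := Grp.minimal_normal_solvable (N := T') inferInstance hTne' (fun K hK hle => by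
    by_cases h : K = ⊥
    · exact Or.inl h
    · exact Or.inr (hle.eq_or_lt.resolve_right (hTmin K ⟨hK, h⟩)))
  haveI := Fact.mk hq
  set T := T'.map H.subtype with hTdef
  have hTH : T ≤ H := Subgroup.map_subtype_le _
  have hTne : T ≠ ⊥ := by rwa [Ne, Subgroup.map_eq_bot_iff_of_injective _ H.subtype_injective]
  have hTc : ∀ x ∈ T, ∀ y ∈ T, x * y = y * x := by
    rintro _ ⟨x, hx, rfl⟩ _ ⟨y, hy, rfl⟩
    exact congrArg (fun z : T' => ((z : H) : G)) (hTab.is_comm.comm ⟨x, hx⟩ ⟨y, hy⟩)
  have hHT : H ≤ Subgroup.normalizer (T : Set G) := by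
    have h : ∀ g ∈ H, ∀ x ∈ T, g * x * g⁻¹ ∈ T := by
      rintro g hg _ ⟨x, hx, rfl⟩
      exact ⟨_, hTn.conj_mem x hx ⟨g, hg⟩, rfl⟩
    intro g hg
    rw [Subgroup.mem_normalizer_iff]
    refine fun x => ⟨h g hg x, fun hx => ?_⟩
    have := h g⁻¹ (H.inv_mem hg) _ hx
    simpa [mul_assoc] using this
  obtain ⟨horb, hirr⟩ := S3495.result hprim hH hep M hMab p hp hMr hMtr hMreg α T hTne hTH hHT
  have hfix : ∀ ω : Ω, ω ≠ α → ∀ t ∈ T, t • ω = ω → t = 1 := by
    intro ω hω t ht htω
    refine congrArg Subtype.val (S3494.result hprim hH hep α ω hω ⟨t, hTH ht⟩ fun x hx => ?_)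
    rw [← horb ω] at hx
    obtain ⟨s, rfl⟩ := hx
    show t • (s : G) • ω = (s : G) • ω
    rw [← mul_smul, hTc t ht s s.2, mul_smul, htω]
  haveI : Nontrivial Ω := by
    by_contra h
    rw [not_nontrivial_iff_subsingleton] at h
    obtain ⟨x, hx, hx1⟩ := (Subgroup.bot_or_exists_ne_one H).resolve_left (hH α)
    exact hx1 (FaithfulSMul.eq_of_smul_eq_smul fun ω : Ω => Subsingleton.elim _ _)
  obtain ⟨w, hw⟩ := exists_ne α
  set D := H ⊓ MulAction.stabilizer G w with hDdef
  have hfpf : ∀ t ∈ T, ∀ m ∈ M, t * m * t⁻¹ = m → t = 1 ∨ m = 1 := by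
    intro t ht m hm htm
    by_cases hm1 : m = 1
    · exact Or.inr hm1
    left
    refine hfix (m • α) (fun h => hm1 ?_) t ht ?_
    · have : m ∈ M ⊓ H := ⟨hm, h⟩
      rwa [hMH, Subgroup.mem_bot] at this
    · rw [← mul_smul, mul_inv_eq_iff_eq_mul.mp htm, mul_smul, MulAction.mem_stabilizer_iff.mp (hTH ht)]
  have hD : ∀ h ∈ D, (∀ t ∈ T, h * t = t * h) → h = 1 := by
    intro h hh hc
    refine congrArg Subtype.val (S3494.result hprim hH hep α w hw ⟨h, hh.1⟩ fun x hx => ?_)
    rw [← horb w] at hx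
    obtain ⟨s, rfl⟩ := hx
    show h • (s : G) • w = (s : G) • w
    rw [← mul_smul, hc s s.2, mul_smul, MulAction.mem_stabilizer_iff.mp hh.2]
  haveI := hMn
  haveI := hMab
  obtain ⟨hTcard, hdvd, hord, ⟨h, hhD, hhe⟩, hDd⟩ := affine_field (p := p) (d := d) (q := q) M H T D hMne hMcard hMr
    hTH inf_le_left hTne hHT hTc (fun x hx => by
      obtain ⟨y, hy, rfl⟩ := hx
      exact congrArg Subtype.val (hTq y hy)) hfpf hirr hD
  refine ⟨q, hq, fun ω hω => ?_, hdvd, hord, T, hTH, hHT, hTcard, ⟨h, ?_⟩, ?_⟩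
  · rw [← horb ω, Nat.card_coe_set_eq, ← MulAction.index_stabilizer,
      show MulAction.stabilizer T ω = ⊥ from (Subgroup.eq_bot_iff_forall _).mpr fun t ht =>
        Subtype.ext (hfix ω hω t t.2 ht),
      Subgroup.index_bot, hTcard]
  · refine le_antisymm (fun x hx => ?_) (sup_le hTH (Subgroup.zpowers_le.mpr hhD.1))
    obtain ⟨t, ht⟩ : x • w ∈ MulAction.orbit T w := by rw [horb]; exact ⟨⟨x, hx⟩, rfl⟩
    have hxD : (t : G)⁻¹ * x ∈ D := ⟨H.mul_mem (H.inv_mem (hTH t.2)) hx, by
      refine MulAction.mem_stabilizer_iff.mpr ?_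
      rw [mul_smul, ← ht]
      exact inv_smul_smul (t : G) w⟩
    rw [show x = (t : G) * ((t : G)⁻¹ * x) by group]
    exact Subgroup.mul_mem_sup t.2 (hhe ▸ hxD)
  · have h1 : D.relIndex H = q := by
      rw [hDdef, Subgroup.inf_relIndex_left]
      show (MulAction.stabilizer H w).index = q
      rw [MulAction.index_stabilizer, ← horb w, ← MulAction.index_stabilizer,
        show MulAction.stabilizer T w = ⊥ from (Subgroup.eq_bot_iff_forall _).mpr fun t ht =>
          Subtype.ext (hfix w hw t t.2 ht),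
        Subgroup.index_bot, hTcard]
    have h2 := Subgroup.relIndex_mul_relIndex ⊥ D H bot_le inf_le_left
    rw [Subgroup.relIndex_bot_left, Subgroup.relIndex_bot_left, h1] at h2
    rw [← h2, mul_comm]
    exact mul_dvd_mul_left q hDd

end Cfsg.Agent.S3496
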