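import Cfsg.Statements.S3497
import Cfsg.Agent.S3494
import Cfsg.Agent.Lib.Grp.Solvable
import Cfsg.Agent.Lib.Grp.Cores
-- import your own Cfsg.Agent.* helpers here

set_option autoImplicit false
open Cfsg

namespace Cfsg.Agent.S3497

theorem gl_of_conj.{u} {H : Type u} [Group H] [Finite H] (A : Subgroup H) [A.Normal] [IsMulCommutative A] {p e : ℕ}
    [Fact p.Prime] (hexp : ∀ a ∈ A, a ^ p = 1) (hcard : Nat.card A = p ^ e) :
    ∃ φ : H →* GL (Fin e) (ZMod p), φ.ker = Subgroup.centralizer (A : Set H) := by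
  classical
  have key : ∀ {M : Type u} [AddCommGroup M] [Finite M] [Module (ZMod p) M], Nat.card M = p ^ e →
      ∀ ψ : H →* AddMonoid.End M,
      ∃ φ : H →* GL (Fin e) (ZMod p), ∀ h, φ h = 1 ↔ ∀ m, ψ h m = m := by
    intro M _ _ _ hM ψ
    haveI : Module.Finite (ZMod p) M := Module.Finite.of_finite
    haveI : Module.Free (ZMod p) M := Module.Free.of_divisionRing (ZMod p) M
    have hr : Module.finrank (ZMod p) M = e := by
      have h1 := Module.natCard_eq_pow_finrank (K := ZMod p) (V := M)
      rw [hM, Nat.card_zmod] at h1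
      exact (Nat.pow_right_injective (Fact.out : p.Prime).two_le h1).symm
    let b := (Module.finBasis (ZMod p) M).reindex (finCongr hr)
    let F : H → Module.End (ZMod p) M := fun g => (ψ g : M →+ M).toZModLinearMap p
    have h1 : ∀ a : M, F 1 a = a := fun a => by
      show ψ 1 a = a
      rw [map_one, AddMonoid.End.coe_one]; rfl
    have h2 : ∀ g h, ∀ a : M, F (g * h) a = F g (F h a) := fun g h a => by
      show ψ (g * h) a = ψ g (ψ h a)
      rw [map_mul, AddMonoid.End.coe_mul]; rfl
    let σ : H →* Module.End (ZMod p) M :=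
      { toFun := F
        map_one' := LinearMap.ext fun a => by rw [Module.End.one_apply]; exact h1 a
        map_mul' := fun g h => LinearMap.ext fun a => by rw [Module.End.mul_apply]; exact h2 g h a }
    refine ⟨((LinearMap.toMatrixAlgEquiv b).toMonoidHom.comp σ).toHomUnits, fun h => ?_⟩
    rw [Units.ext_iff]
    show LinearMap.toMatrixAlgEquiv b (σ h) = 1 ↔ _
    rw [← map_one (LinearMap.toMatrixAlgEquiv b), (LinearMap.toMatrixAlgEquiv b).injective.eq_iff,
      LinearMap.ext_iff]
    exact Iff.rfl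
  letI : CommGroup A := { (inferInstance : Group A) with
    mul_comm := fun a b => IsMulCommutative.is_comm.comm a b }
  let ψ : H →* AddMonoid.End (Additive A) :=
    { toFun := fun h => MonoidHom.toAdditive (MulAut.conjNormal h).toMonoidHom
      map_one' := AddMonoidHom.ext fun a => Subtype.ext (by
        show (1 : H) * ((Additive.toMul a : A) : H) * (1 : H)⁻¹ = _
        simp; rfl)
      map_mul' := fun g h => AddMonoidHom.ext fun a => Subtype.ext (by
        show (g * h) * ((Additive.toMul a : A) : H) * (g * h)⁻¹ =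
          g * (h * ((Additive.toMul a : A) : H) * h⁻¹) * g⁻¹
        simp [mul_assoc]) }
  letI : Module (ZMod p) (Additive A) := AddCommGroup.zmodModule fun a =>
    congrArg Additive.ofMul (show (Additive.toMul a : A) ^ p = 1 from Subtype.ext (hexp _ (Additive.toMul a : A).2))
  haveI : Finite (Additive A) := inferInstanceAs (Finite A)
  obtain ⟨φ, hφ⟩ := key (M := Additive A) hcard ψ
  refine ⟨φ, ?_⟩
  ext h
  rw [MonoidHom.mem_ker, hφ, Subgroup.mem_centralizer_iff]
  constructor
  · intro hh a ha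
    exact (mul_inv_eq_iff_eq_mul.mp
      (congrArg (fun z : Additive A => ((Additive.toMul z : A) : H)) (hh (Additive.ofMul ⟨a, ha⟩)))).symm
  · intro hh m
    refine congrArg Additive.ofMul (show (MulAut.conjNormal h) (Additive.toMul m : A) = Additive.toMul m from Subtype.ext ?_)
    rw [MulAut.conjNormal_apply, ← hh _ (Additive.toMul m : A).2, mul_inv_cancel_right]

theorem stab_core.{u, v} {G : Type u} [Group G] [Finite G] {Ω : Type v} [Fintype Ω] [MulAction G Ω]
    [FaithfulSMul G Ω] (hprim : MulAction.IsPreprimitive G Ω)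
    (hep : ∀ (α : Ω) (ω : Ω), MulAction.IsPreprimitive (MulAction.stabilizer G α)
      (MulAction.orbit (MulAction.stabilizer G α) ω))
    (α : Ω) (hH1 : MulAction.stabilizer G α ≠ ⊥) (A : Subgroup (MulAction.stabilizer G α)) [A.Normal]
    (hA : A ≠ ⊥) [IsMulCommutative A] :
    (∀ c ∈ Subgroup.centralizer (A : Set (MulAction.stabilizer G α)), c ∈ A) ∧
      Nat.card A ∣ Fintype.card Ω - 1 := by
  classical
  haveI := hprim
  have hH : ∀ γ : Ω, MulAction.stabilizer G γ ≠ ⊥ := by
    intro γ h
    obtain ⟨g, rfl⟩ := MulAction.exists_smul_eq G α γ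
    rw [MulAction.stabilizer_smul_eq_stabilizer_map_conj,
      Subgroup.map_eq_bot_iff_of_injective _ (MulEquiv.injective (MulAut.conj g))] at h
    exact hH1 h
  have horb : ∀ ω : Ω, ω ≠ α → ∀ h : (MulAction.stabilizer G α), ∃ a : (MulAction.stabilizer G α), a ∈ A ∧ a • ω = h • ω := by
    intro ω hω h
    haveI := hep α ω
    let x : MulAction.orbit (MulAction.stabilizer G α) ω := ⟨ω, MulAction.mem_orbit_self ω⟩
    rcases MulAction.IsPreprimitive.isTrivialBlock_of_isBlock
      (MulAction.IsBlock.orbit_of_normal (N := A) x) with hs | hu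
    · exfalso
      obtain ⟨a, ha, ha1⟩ := (Subgroup.bot_or_exists_ne_one A).resolve_left hA
      refine ha1 (S3494.result hprim hH hep α ω hω a fun y hy => ?_)
      obtain ⟨k, rfl⟩ := hy
      have hk : k⁻¹ * a * k ∈ A := by
        have := (inferInstance : A.Normal).conj_mem a ha k⁻¹
        rwa [inv_inv] at this
      have h1 : (k⁻¹ * a * k) • x = x :=
        hs (show (k⁻¹ * a * k) • x ∈ MulAction.orbit A x from ⟨⟨_, hk⟩, rfl⟩) (MulAction.mem_orbit_self x)
      have h2 : (k⁻¹ * a * k) • ω = ω := congrArg Subtype.val h1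
      rw [mul_smul, mul_smul, inv_smul_eq_iff] at h2
      exact h2
    · obtain ⟨a, ha⟩ := (hu ▸ Set.mem_univ _ : h • x ∈ MulAction.orbit A x)
      exact ⟨a, a.2, congrArg Subtype.val ha⟩
  have hsemi : ∀ c ∈ Subgroup.centralizer (A : Set (MulAction.stabilizer G α)), ∀ ω : Ω, ω ≠ α → c • ω = ω → c = 1 := by
    intro c hc ω hω hcω
    refine S3494.result hprim hH hep α ω hω c fun y hy => ?_
    obtain ⟨k, rfl⟩ := hy
    obtain ⟨a, ha, hak⟩ := horb ω hω k
    show c • k • ω = k • ω
    rw [← hak, ← mul_smul, ← Subgroup.mem_centralizer_iff.mp hc a ha, mul_smul, hcω]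
  have hAC : A ≤ Subgroup.centralizer (A : Set (MulAction.stabilizer G α)) := fun a ha =>
    Subgroup.mem_centralizer_iff.mpr fun b hb =>
      congrArg Subtype.val (IsMulCommutative.is_comm.comm (⟨b, hb⟩ : A) ⟨a, ha⟩)
  refine ⟨fun c hc => ?_, ?_⟩
  · obtain ⟨a, ha, ha1⟩ := (Subgroup.bot_or_exists_ne_one A).resolve_left hA
    obtain ⟨ω, hω⟩ : ∃ ω : Ω, ω ≠ α := by
      by_contra h
      push Not at h
      exact ha1 (Subtype.ext (FaithfulSMul.eq_of_smul_eq_smul fun ω : Ω => by rw [h ((a : G) • ω), h ω, h ((((1 : (MulAction.stabilizer G α))) : G) • α)]))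
    obtain ⟨b, hb, hbc⟩ := horb ω hω c
    have h1 : b⁻¹ * c = 1 := hsemi _ (Subgroup.mul_mem _ (Subgroup.inv_mem _ (hAC hb)) hc) ω hω
      (by rw [mul_smul, ← hbc, inv_smul_smul])
    rw [← inv_mul_eq_one.mp h1]
    exact hb
  · letI : MulAction A {ω : Ω // ω ≠ α} :=
      { smul := fun a ω => ⟨((a : (MulAction.stabilizer G α)) : G) • (ω : Ω), fun h => ω.2 (smul_left_cancel ((a : (MulAction.stabilizer G α)) : G)
          (h.trans (MulAction.mem_stabilizer_iff.mp (a : (MulAction.stabilizer G α)).2).symm))⟩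
        one_smul := fun ω => Subtype.ext (one_smul G (ω : Ω))
        mul_smul := fun a b ω => Subtype.ext (mul_smul ((a : (MulAction.stabilizer G α)) : G) ((b : (MulAction.stabilizer G α)) : G) (ω : Ω)) }
    have hst : ∀ x : {ω : Ω // ω ≠ α}, MulAction.stabilizer A x = ⊥ := fun x => by
      refine (Subgroup.eq_bot_iff_forall _).mpr fun a ha => Subtype.ext ?_
      exact hsemi a (hAC a.2) x x.2 (congrArg Subtype.val ha)
    have h1 := Nat.card_congr (MulAction.selfEquivSigmaOrbitsQuotientStabilizer A {ω : Ω // ω ≠ α})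
    haveI := Fintype.ofFinite (MulAction.orbitRel.Quotient A {ω : Ω // ω ≠ α})
    rw [Nat.card_sigma] at h1
    have h2 : Nat.card {ω : Ω // ω ≠ α} = Fintype.card Ω - 1 := by
      rw [Nat.card_eq_fintype_card, Fintype.card_subtype_compl, Fintype.card_subtype_eq]
    rw [← h2, h1]
    refine Finset.dvd_sum fun x _ => ?_
    rw [hst, ← Subgroup.index, Subgroup.index_bot]

/-- Restrictions on the point stabilizer of an extremely primitive group. Let a finite group G act faithfully and primitively on a finite set Ω with point stabilizers (MulAction.stabilizer G α) = G_α whose order is neither 1 nor a prime, each acting primitively on every one of its orbits. Then (MulAction.stabilizer G α) has trivial center, the Fitting subgroup F((MulAction.stabilizer G α)) is an elementary abelian p-group for some prime p, and if F((MulAction.stabilizer G α)) ≠ 1 has order p ^ e then p ^ e divides the number of points minus one and (MulAction.stabilizer G α) / F((MulAction.stabilizer G α)) embeds in GL_e(p) (there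 is a homomorphism from (MulAction.stabilizer G α) to GL_e(p) with kernel exactly F((MulAction.stabilizer G α))). -/
theorem result {G : Type*} [Group G] [Finite G] {Ω : Type*} [Fintype Ω] [MulAction G Ω] [FaithfulSMul G Ω] (hprim : MulAction.IsPreprimitive G Ω) (hep : ∀ (α : Ω) (ω : Ω), MulAction.IsPreprimitive (MulAction.stabilizer G α) (MulAction.orbit (MulAction.stabilizer G α) ω)) (α : Ω)
    (hH1 : MulAction.stabilizer G α ≠ ⊥) (hHp : ¬ (Nat.card (MulAction.stabilizer G α)).Prime) :
    Subgroup.center (MulAction.stabilizer G α) = ⊥ ∧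
    IsMulCommutative (Cfsg.fittingSubgroup (MulAction.stabilizer G α)) ∧
    ∃ p e : ℕ, p.Prime ∧ Nat.card (Cfsg.fittingSubgroup (MulAction.stabilizer G α)) = p ^ e ∧
      (∀ x ∈ Cfsg.fittingSubgroup (MulAction.stabilizer G α), x ^ p = 1) ∧
      (Cfsg.fittingSubgroup (MulAction.stabilizer G α) ≠ ⊥ →
        p ^ e ∣ Fintype.card Ω - 1 ∧
        ∃ φ : MulAction.stabilizer G α →* GL (Fin e) (ZMod p), φ.ker = Cfsg.fittingSubgroup (MulAction.stabilizer G α)) := by
  classical
  set H := MulAction.stabilizer G α with hHdef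
  have hZ : Subgroup.center H = ⊥ := by
    by_contra hZ
    obtain ⟨z, hz, hz1⟩ := (Subgroup.bot_or_exists_ne_one _).resolve_left hZ
    set Y := Subgroup.zpowers z with hY
    have hYc : Y ≤ Subgroup.center H := Subgroup.zpowers_le.mpr hz
    haveI : Nontrivial H := ⟨⟨z, 1, hz1⟩⟩
    have hall : ∀ x : H, ∀ y ∈ Subgroup.center H, x * y = y * x := fun x y hy => Subgroup.mem_center_iff.mp hy x
    obtain ⟨q, hq, hqd⟩ := Nat.exists_prime_and_dvd (show orderOf z ≠ 1 from fun h => hz1 (orderOf_eq_one_iff.mp h))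
    haveI := Fact.mk hq
    set w := z ^ (orderOf z / q) with hw
    have hwq : orderOf w = q := orderOf_pow_orderOf_div (orderOf_pos z).ne' hqd
    have hWc : Subgroup.zpowers w ≤ Subgroup.center H := Subgroup.zpowers_le.mpr (pow_mem hz _)
    haveI : (Subgroup.zpowers w).Normal := ⟨fun x hx g => by
      rw [hall g x (hWc hx), mul_inv_cancel_right]; exact hx⟩
    have hW : Subgroup.zpowers w ≠ ⊥ := by
      rw [Ne, Subgroup.zpowers_eq_bot]
      intro h
      rw [h, orderOf_one] at hwq
      exact hq.one_lt.ne hwq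
    obtain ⟨hC, -⟩ := stab_core hprim hep α hH1 (Subgroup.zpowers w) hW
    have htop : ∀ x : H, x ∈ Subgroup.zpowers w := fun x => hC x
      (Subgroup.mem_centralizer_iff.mpr fun y hy => (hall x y (hWc hy)).symm)
    refine hHp ?_
    rw [show Nat.card H = q by
      rw [← hwq, ← Nat.card_zpowers, Nat.card_congr (Equiv.subtypeUnivEquiv htop).symm]]
    exact hq
  refine ⟨hZ, ?_⟩
  set F := Cfsg.fittingSubgroup H with hFdef
  by_cases hF : F = ⊥
  · rw [hF]
    refine ⟨⟨⟨fun a b => Subsingleton.elim _ _⟩⟩, 2, 0, Nat.prime_two, by simp,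
      fun x hx => by rw [Subgroup.mem_bot.mp hx, one_pow], fun h => absurd rfl h⟩
  haveI hFn := Grp.fittingSubgroup_isNilpotent (G := H)
  haveI : F.Normal := Grp.fittingSubgroup_isNormal
  have hZF : (Subgroup.center F).map F.subtype ≠ ⊥ := by
    rw [Ne, Subgroup.map_eq_bot_iff_of_injective _ F.subtype_injective]
    haveI := (Subgroup.nontrivial_iff_ne_bot F).mpr hF
    exact Group.IsNilpotent.center_ne_bot (G := F)
  haveI hZFn : ((Subgroup.center F).map F.subtype).Normal := inferInstance
  obtain ⟨A, ⟨hAn, hAne, hAle⟩, hAmin⟩ := wellFounded_lt.has_min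
    {A : Subgroup H | A.Normal ∧ A ≠ ⊥ ∧ A ≤ (Subgroup.center F).map F.subtype} ⟨_, hZFn, hZF, le_rfl⟩
  haveI := hAn
  haveI hAab : IsMulCommutative A := ⟨⟨fun a b => Subtype.ext (by
    obtain ⟨x, hx, hxa⟩ := hAle a.2
    obtain ⟨y, hy, hyb⟩ := hAle b.2
    have := congrArg Subtype.val (Subgroup.mem_center_iff.mp hy x)
    rw [Subgroup.coe_mul, Subgroup.coe_mul] at this
    show (a : H) * b = b * a
    rw [← hxa, ← hyb]; exact this)⟩⟩
  obtain ⟨hC, hdvd⟩ := stab_core hprim hep α hH1 A hAne
  have hFA : F = A := by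
    refine le_antisymm (fun f hf => hC f (Subgroup.mem_centralizer_iff.mpr fun a ha => ?_))
      (hAle.trans (Subgroup.map_subtype_le _))
    obtain ⟨x, hx, rfl⟩ := hAle ha
    exact congrArg Subtype.val (Subgroup.mem_center_iff.mp hx ⟨f, hf⟩).symm
  haveI hAs : Group.IsSolvable A := isSolvable_of_comm fun a b => IsMulCommutative.is_comm.comm a b
  obtain ⟨-, p, hp, hpow⟩ := Grp.minimal_normal_solvable (N := A) hAs hAne (fun K hK hle => by
    by_cases h : K = ⊥
    · exact Or.inl h
    · exact Or.inr (hle.eq_or_lt.resolve_right (hAmin K ⟨hK, h, hle.trans hAle⟩)))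
  haveI := Fact.mk hp
  have hPg : IsPGroup p A := fun x => ⟨1, by simpa using Subtype.ext (hpow x x.2)⟩
  obtain ⟨e, he⟩ := hPg.exists_card_eq
  obtain ⟨φ, hφ⟩ := gl_of_conj A hpow he
  rw [hFA]
  refine ⟨hAab, p, e, hp, he, hpow, fun _ => ⟨he ▸ hdvd, φ, ?_⟩⟩
  rw [hφ]
  exact le_antisymm (fun c hc => hC c hc) (fun a ha => Subgroup.mem_centralizer_iff.mpr fun b hb =>
    congrArg Subtype.val (IsMulCommutative.is_comm.comm (⟨b, hb⟩ : A) ⟨a, ha⟩))

end Cfsg.Agent.S3497
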