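import Cfsg.Statements.S3498
import Mathlib

set_option autoImplicit false
open Cfsg

namespace Cfsg.Agent.S3498

/-- A maximal subgroup of a finite almost simple group does not have prime order. Here G is almost simple in the sense that it has a non-abelian simple normal subgroup T with trivial centralizer. -/
theorem result {G : Type*} [Group G] [Finite G] (T : Subgroup G) [T.Normal] (hT : IsSimpleGroup T) (hTc : ¬ IsMulCommutative T)
    (hC : Subgroup.centralizer (T : Set G) = ⊥) (H : Subgroup G) (hmax : IsCoatom H) : ¬ (Nat.card H).Prime := by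
  classical
  intro hq
  set q := Nat.card H with hqdef
  haveI := Fact.mk hq
  haveI := hT
  have hTbot : T ≠ ⊥ := by
    rintro rfl
    exact hTc inferInstance
  have hTnp : ∀ r : ℕ, r.Prime → ¬ IsPGroup r T := by
    intro r hr hp
    haveI := Fact.mk hr
    haveI : Nontrivial T := (Subgroup.nontrivial_iff_ne_bot T).mpr hTbot
    haveI := hp.center_nontrivial
    rcases IsSimpleGroup.eq_bot_or_eq_top_of_normal (Subgroup.center T) inferInstance with h | h
    · exact (Subgroup.nontrivial_iff_ne_bot _).mp inferInstance h
    · exact hTc ⟨⟨fun a b => (Subgroup.mem_center_iff.mp (h ▸ Subgroup.mem_top a) b).symm⟩⟩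
  -- H is a Sylow subgroup
  have hHp : IsPGroup q H := IsPGroup.of_card (n := 1) (by rw [pow_one])
  obtain ⟨P, hP⟩ := hHp.exists_le_sylow
  have hPH : (P : Subgroup G) = H := by
    rcases hmax.le_iff.mp hP with h | h
    · exfalso
      have : IsPGroup q (⊤ : Subgroup G) := h ▸ P.2
      exact hTnp q hq (this.to_le le_top)
    · exact h
  have hcard : ∀ S : Sylow q G, Nat.card S = q := fun S => by
    rw [Sylow.card_eq_multiplicity S, ← Sylow.card_eq_multiplicity P, hPH]
  by_cases hHT : H ≤ T
  · rcases hmax.le_iff.mp hHT with h | h
    · -- G is simple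
      have hsimp : ∀ N : Subgroup G, N.Normal → N = ⊥ ∨ N = ⊤ := by
        intro N hN
        rcases IsSimpleGroup.eq_bot_or_eq_top_of_normal (N.subgroupOf T) inferInstance with h' | h'
        · exact Or.inl (by rwa [Subgroup.subgroupOf_eq_bot, h, disjoint_top] at h')
        · exact Or.inr (by rwa [Subgroup.subgroupOf_eq_top, h, top_le_iff] at h')
      have hNH : Subgroup.normalizer (H : Set G) = H := by
        rcases hmax.le_iff.mp Subgroup.le_normalizer with h' | h'
        · rcases hsimp H (Subgroup.normalizer_eq_top_iff.mp h') with h'' | h''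
          · rw [hqdef, h'', Subgroup.card_bot] at hq; exact absurd hq Nat.not_prime_one
          · exact absurd h'' hmax.1
        · exact h'
      have hab : IsMulCommutative H := by
        haveI := isCyclic_of_prime_card (α := H) hqdef.symm
        infer_instance
      have hPc : Subgroup.normalizer ((P : Subgroup G) : Set G) ≤ Subgroup.centralizer ((P : Subgroup G) : Set G) := by
        rw [hPH, hNH]
        exact fun x hx y hy => congrArg Subtype.val (hab.is_comm.comm ⟨y, hy⟩ ⟨x, hx⟩)
      have hc := MonoidHom.ker_transferSylow_isComplement' P hPc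
      have hc' := hc.card_mul
      rcases hsimp (MonoidHom.transferSylow P hPc).ker (MonoidHom.normal_ker _) with h' | h'
      · rw [h', Subgroup.card_bot, one_mul, hPH] at hc'
        exact hmax.1 (Subgroup.eq_top_of_card_eq H hc')
      · rw [h', Subgroup.card_top, hcard, ] at hc'
        have := Nat.card_pos (α := G)
        have := hq.two_le
        nlinarith
    · -- T = H is abelian
      apply hTc
      rw [h]
      haveI := isCyclic_of_prime_card (α := H) hqdef.symm
      infer_instance
  · -- H is a complement of T
    have hinf : H ⊓ T = ⊥ := by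
      rw [← Subgroup.card_eq_one]
      rcases (Nat.dvd_prime hq).mp (Subgroup.card_dvd_of_le (inf_le_left : H ⊓ T ≤ H)) with h | h
      · exact h
      · exact absurd ((Subgroup.eq_of_le_of_card_ge inf_le_left h.ge).symm ▸ inf_le_right) hHT
    have hsup : H ⊔ T = ⊤ := by
      rcases hmax.le_iff.mp (le_sup_left : H ≤ H ⊔ T) with h | h
      · exact h
      · exact absurd (h ▸ le_sup_right : T ≤ H) (fun hTH => by
          rw [inf_eq_right.mpr hTH] at hinf; exact hTbot hinf)
    have hidx : T.index = q := by
      have h1 := Subgroup.relIndex_sup_right (H := H) (K := T)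
      rw [hsup, Subgroup.relIndex_top_right, ← Subgroup.inf_relIndex_right, inf_comm, hinf, Subgroup.relIndex_bot_left] at h1
      exact h1
    have hqT : ¬ q ∣ Nat.card T := by
      intro hd
      have := T.card_mul_index
      rw [hidx] at this
      have hnd := P.not_dvd_index
      rw [hPH] at hnd
      have h2 := H.card_mul_index
      rw [← this, mul_comm (Nat.card T)] at h2
      exact hnd ((Nat.eq_of_mul_eq_mul_left hq.pos h2) ▸ hd)
    haveI : Nontrivial T := (Subgroup.nontrivial_iff_ne_bot T).mpr hTbot
    obtain ⟨r, hr, hrd⟩ := Nat.exists_prime_and_dvd (n := Nat.card T) Finite.one_lt_card.ne'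
    haveI := Fact.mk hr
    obtain ⟨R⟩ : Nonempty (Sylow r T) := inferInstance
    have hF := Sylow.normalizer_sup_eq_top R
    set N := Subgroup.normalizer (((R : Subgroup T).map T.subtype : Subgroup G) : Set G) with hN
    have hqN : q ∣ Nat.card N := by
      have h1 := Subgroup.relIndex_sup_right (H := N) (K := T)
      rw [hF, Subgroup.relIndex_top_right, hidx] at h1
      rw [h1]
      exact Subgroup.relIndex_dvd_card _ _
    obtain ⟨Q⟩ : Nonempty (Sylow q N) := inferInstance
    have hQc : Nat.card ((Q : Subgroup N).map N.subtype) = Nat.card Q :=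
      Nat.card_congr (Subgroup.equivMapOfInjective _ _ N.subtype_injective).toEquiv.symm
    obtain ⟨S, hS⟩ := (Q.2.map N.subtype).exists_le_sylow
    have hQq : q ∣ Nat.card Q := Q.dvd_card_of_dvd_card hqN
    have hSN : (S : Subgroup G) ≤ N := by
      have : (Q : Subgroup N).map N.subtype = S := Subgroup.eq_of_le_of_card_ge hS (by
        rw [hcard S, hQc]; exact Nat.le_of_dvd Nat.card_pos hQq)
      exact this ▸ Subgroup.map_subtype_le _
    obtain ⟨g, hg⟩ := MulAction.exists_smul_eq G P S
    have hSmax : IsCoatom (S : Subgroup G) := by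
      have e := congrArg (fun X : Sylow q G => (X : Subgroup G)) hg
      simp only [Sylow.coe_subgroup_smul, hPH] at e
      rw [← e]
      exact (OrderIso.isCoatom_iff (MulAut.conj g).mapSubgroup H).mpr hmax
    rcases hSmax.le_iff.mp hSN with h | h
    · haveI : ((R : Subgroup T).map T.subtype).Normal := Subgroup.normalizer_eq_top_iff.mp h
      haveI : (((R : Subgroup T).map T.subtype).subgroupOf T).Normal := inferInstance
      have hR : (R : Subgroup T).Normal := by
        have e : ((R : Subgroup T).map T.subtype).subgroupOf T = R := Subgroup.comap_map_eq_self_of_injective T.subtype_injective _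
        exact e ▸ (inferInstance : (((R : Subgroup T).map T.subtype).subgroupOf T).Normal)
      rcases IsSimpleGroup.eq_bot_or_eq_top_of_normal (R : Subgroup T) hR with h' | h'
      · have := R.dvd_card_of_dvd_card hrd
        rw [h', Subgroup.card_bot] at this
        exact hr.one_lt.ne' (Nat.dvd_one.mp this)
      · exact hTnp r hr (IsPGroup.of_equiv (h' ▸ R.2) Subgroup.topEquiv)
    · have h1 : Nat.card R ∣ q := by
        rw [← hcard S, ← h]
        rw [Nat.card_congr (Subgroup.equivMapOfInjective (R : Subgroup T) _ T.subtype_injective).toEquiv]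
        exact Subgroup.card_dvd_of_le Subgroup.le_normalizer
      have h2 := (R.dvd_card_of_dvd_card hrd).trans h1
      rw [(Nat.prime_dvd_prime_iff_eq hr hq).mp h2] at hrd
      exact hqT hrd

end Cfsg.Agent.S3498
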