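import Cfsg.Statements.S3501
import Mathlib
import Cfsg.Agent.Lib.Grp.Real
-- import your own Cfsg.Agent.* helpers here

set_option autoImplicit false
open Cfsg

namespace Cfsg.Agent.S3501

/-- Let a finite group G act faithfully and primitively on a finite set Ω with at least two points, and suppose G is not almost simple (it has no non-abelian simple normal subgroup with trivial centralizer). Then the derangements of G form a single conjugacy class if and only if G is sharply 2-transitive (2-transitive, and no non-identity element fixes two points). -/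
theorem result {G : Type*} [Group G] [Finite G] {Ω : Type*} [Fintype Ω] [MulAction G Ω] [FaithfulSMul G Ω] (hΩ : 2 ≤ Fintype.card Ω) (hprim : MulAction.IsPreprimitive G Ω) (hnas : ¬ ∃ T : Subgroup G, T.Normal ∧ IsSimpleGroup T ∧ ¬ IsMulCommutative T ∧ Subgroup.centralizer (T : Set G) = ⊥) :
    Nat.card {c : ConjClasses G // ∃ g : G, ConjClasses.mk g = c ∧ ∀ ω : Ω, g • ω ≠ ω} = 1 ↔ (MulAction.IsMultiplyPretransitive G Ω 2 ∧ ∀ g : G, g ≠ 1 → ∀ a b : Ω, a ≠ b → g • a = a → g • b ≠ b) := by
  classical
  haveI := hprim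
  have hinjact : ∀ g : G, (∀ ω : Ω, g • ω = ω) → g = 1 := fun g h =>
    FaithfulSMul.eq_of_smul_eq_smul (α := Ω) (fun ω => by rw [h ω, one_smul])
  haveI : Nontrivial Ω := Fintype.one_lt_card_iff_nontrivial.mp (by omega)
  have hsmul : ∀ (g d : G), (∀ ω : Ω, d • ω ≠ ω) → ∀ ω : Ω, (g * d * g⁻¹) • ω ≠ ω := by
    intro g d hd ω h
    exact hd (g⁻¹ • ω) (by
      have := congrArg (fun x => g⁻¹ • x) h
      simpa [mul_smul] using this)
  -- existence of a derangement
  have hex : ∃ d : G, ∀ ω : Ω, d • ω ≠ ω := by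
    by_contra hne
    push Not at hne
    obtain ⟨a, b, hab⟩ := exists_pair_ne Ω
    have htop := Cfsg.Agent.Grp.eq_top_of_conj_cover (MulAction.stabilizer G a) (fun x => by
      obtain ⟨ω, hω⟩ := hne x
      obtain ⟨g, hg⟩ := MulAction.exists_smul_eq G ω a
      refine ⟨g, ?_⟩
      rw [MulAction.mem_stabilizer_iff, ← hg, mul_smul, mul_smul, inv_smul_smul, hω])
    obtain ⟨g, hg⟩ := MulAction.exists_smul_eq G a b
    have : g ∈ MulAction.stabilizer G a := htop ▸ Subgroup.mem_top g
    exact hab (this.symm.trans hg)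
  have hiff : Nat.card {c : ConjClasses G // ∃ g : G, ConjClasses.mk g = c ∧ ∀ ω : Ω, g • ω ≠ ω} = 1 ↔
      ∀ d e : G, (∀ ω : Ω, d • ω ≠ ω) → (∀ ω : Ω, e • ω ≠ ω) → IsConj d e := by
    constructor
    · intro h d e hd he
      haveI := (Nat.card_eq_one_iff_unique.mp h).1
      have := Subsingleton.elim (⟨ConjClasses.mk d, d, rfl, hd⟩ :
        {c : ConjClasses G // ∃ g : G, ConjClasses.mk g = c ∧ ∀ ω : Ω, g • ω ≠ ω}) ⟨ConjClasses.mk e, e, rfl, he⟩
      exact ConjClasses.mk_eq_mk_iff_isConj.mp (congrArg Subtype.val this)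
    · intro h
      obtain ⟨d, hd⟩ := hex
      rw [Nat.card_eq_one_iff_unique]
      refine ⟨⟨?_⟩, ⟨⟨ConjClasses.mk d, d, rfl, hd⟩⟩⟩
      rintro ⟨_, x, rfl, hx⟩ ⟨_, y, rfl, hy⟩
      exact Subtype.ext (ConjClasses.mk_eq_mk_iff_isConj.mpr (h x y hx hy))
  rw [hiff]
  constructor
  · intro hu
    obtain ⟨N, hNn, hN1, hNmin⟩ : ∃ N : Subgroup G, N.Normal ∧ N ≠ ⊥ ∧
        ∀ M : Subgroup G, M.Normal → M ≤ N → M = ⊥ ∨ M = N := by
      obtain ⟨d, hd⟩ := hex
      haveI : Nontrivial G := ⟨⟨d, 1, fun h => hd (Classical.arbitrary Ω) (by rw [h, one_smul])⟩⟩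
      obtain ⟨N, ⟨hNn, hN1⟩, hm⟩ := (Set.toFinite {N : Subgroup G | N.Normal ∧ N ≠ ⊥}).exists_minimal
        ⟨⊤, inferInstance, top_ne_bot⟩
      refine ⟨N, hNn, hN1, fun M hM hle => ?_⟩
      by_cases hMb : M = ⊥
      · exact Or.inl hMb
      · exact Or.inr (le_antisymm hle (hm ⟨hM, hMb⟩ hle))
    have htrans : ∀ M : Subgroup G, M.Normal → M ≠ ⊥ → ∀ a b : Ω, ∃ m ∈ M, m • a = b := by
      intro M hM hM1 a b
      haveI := hM
      haveI : MulAction.IsPretransitive M Ω := MulAction.IsQuasiPreprimitive.isPretransitive_of_normal (by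
        intro hall
        refine hM1 (M.eq_bot_iff_forall.mpr fun m hm => hinjact m fun ω => ?_)
        have hω : ω ∈ MulAction.fixedPoints M Ω := hall ▸ Set.mem_univ ω
        exact hω ⟨m, hm⟩)
      obtain ⟨⟨m, hm⟩, h⟩ := MulAction.exists_smul_eq M a b
      exact ⟨m, hm, h⟩
    -- a semiregular minimal normal subgroup is abelian
    have hsemi : ∀ T : Subgroup G, T ≠ ⊥ → (∀ x ∈ T, x ≠ 1 → ∀ ω : Ω, x • ω ≠ ω) →
        ∃ p : ℕ, p.Prime ∧ IsPGroup p T := by
      intro T hT1 hT
      obtain ⟨⟨t, ht⟩, ht1⟩ : ∃ t : T, t ≠ 1 := by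
        haveI := T.nontrivial_iff_ne_bot.mpr hT1
        exact exists_ne 1
      have ht1' : t ≠ 1 := fun h => ht1 (Subtype.ext h)
      obtain ⟨p, hp, hpd⟩ := Nat.exists_prime_and_dvd (show orderOf t ≠ 1 by rwa [Ne, orderOf_eq_one_iff])
      refine ⟨p, hp, fun x => ⟨1, ?_⟩⟩
      by_cases hx : (x : G) = 1
      · rw [Subtype.ext (a2 := (1 : T)) hx, one_pow]
      have hy : t ^ (orderOf t / p) ∈ T := pow_mem ht _
      have hy1 : orderOf (t ^ (orderOf t / p)) = p := by
        rw [orderOf_pow_orderOf_div (orderOf_pos t).ne' hpd]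
      obtain ⟨g, hg⟩ := isConj_iff.mp (hu _ _ (hT _ hy (fun h => by
        rw [h, orderOf_one] at hy1; exact hp.one_lt.ne hy1)) (hT _ x.2 hx))
      have : orderOf (x : G) = p := by
        rw [← hg, show g * t ^ (orderOf t / p) * g⁻¹ = MulAut.conj g (t ^ (orderOf t / p)) from rfl,
          MulEquiv.orderOf_eq, hy1]
      refine Subtype.ext ?_
      rw [pow_one, SubmonoidClass.coe_pow, OneMemClass.coe_one, ← this, pow_orderOf_eq_one]
    have hcomm : ∀ x ∈ N, ∀ y ∈ N, x * y = y * x := by
      by_contra hnc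
      have hpab : ∀ p : ℕ, p.Prime → IsPGroup p N → False := by
        intro p hp hP
        haveI : Fact p.Prime := ⟨hp⟩
        haveI := N.nontrivial_iff_ne_bot.mpr hN1
        haveI := hP.center_nontrivial
        haveI : (Subgroup.center N).Characteristic := inferInstance
        haveI := hNn
        rcases hNmin ((Subgroup.center N).map N.subtype) inferInstance (Subgroup.map_subtype_le _) with h | h
        · rw [Subgroup.map_eq_bot_iff_of_injective _ N.subtype_injective] at h
          exact ((Subgroup.center N).nontrivial_iff_ne_bot.mp inferInstance) h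
        · refine hnc fun x hx y hy => ?_
          have hx' : x ∈ (Subgroup.center N).map N.subtype := h.symm ▸ hx
          obtain ⟨z, hz, rfl⟩ := hx'
          exact (congrArg Subtype.val (Subgroup.mem_center_iff.mp hz ⟨y, hy⟩)).symm
      have hNsemi : ¬ ∀ x ∈ N, x ≠ 1 → ∀ ω : Ω, x • ω ≠ ω := fun h => by
        obtain ⟨p, hp, hP⟩ := hsemi N hN1 h
        exact hpab p hp hP
      -- a minimal normal subgroup of `N`
      obtain ⟨T, ⟨hTN, hTn, hT1⟩, hTmin⟩ := (Set.toFinite {T : Subgroup G | T ≤ N ∧
        (∀ n ∈ N, ∀ t ∈ T, n * t * n⁻¹ ∈ T) ∧ T ≠ ⊥}).exists_minimal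
          ⟨N, le_rfl, fun n hn t ht => mul_mem (mul_mem hn ht) (inv_mem hn), hN1⟩
      have hTmin' : ∀ S : Subgroup G, S ≤ T → (∀ n ∈ N, ∀ t ∈ S, n * t * n⁻¹ ∈ S) → S = ⊥ ∨ S = T := by
        intro S hS hSn
        by_cases hSb : S = ⊥
        · exact Or.inl hSb
        · exact Or.inr (le_antisymm hS (hTmin ⟨hS.trans hTN, hSn, hSb⟩ hS))
      by_cases hTeq : T = N
      · subst hTeq
        haveI := hNn
        apply hnas
        refine ⟨T, hNn, ?_, fun h => hnc fun x hx y hy => congrArg Subtype.val (h.is_comm.comm ⟨x, hx⟩ ⟨y, hy⟩), ?_⟩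
        · haveI := T.nontrivial_iff_ne_bot.mpr hN1
          refine ⟨fun M hM => ?_⟩
          rcases hTmin' (M.map T.subtype) (Subgroup.map_subtype_le _) (fun n hn t ht => by
            obtain ⟨z, hz, rfl⟩ := ht
            exact ⟨⟨n, hn⟩ * z * ⟨n, hn⟩⁻¹, hM.conj_mem _ hz _, rfl⟩) with h | h
          · exact Or.inl ((Subgroup.map_eq_bot_iff_of_injective _ T.subtype_injective).mp h)
          · exact Or.inr (Subgroup.map_injective T.subtype_injective (by
              rw [h, ← MonoidHom.range_eq_map, Subgroup.range_subtype]))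
        · by_contra hC
          haveI : (Subgroup.centralizer (T : Set G)).Normal := inferInstance
          refine hNsemi fun x hx hx1 ω h => hx1 (hinjact x fun w => ?_)
          obtain ⟨c, hc, rfl⟩ := htrans _ inferInstance hC ω w
          rw [← mul_smul, Subgroup.mem_centralizer_iff.mp hc x hx, mul_smul, h]
      -- a second conjugate of `T`
      have hconj : ∀ g : G, T.map (MulAut.conj g).toMonoidHom ≤ N ∧
          (∀ n ∈ N, ∀ t ∈ T.map (MulAut.conj g).toMonoidHom, n * t * n⁻¹ ∈ T.map (MulAut.conj g).toMonoidHom) := by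
        intro g
        refine ⟨fun x hx => ?_, fun n hn t ht => ?_⟩
        · obtain ⟨y, hy, rfl⟩ := hx
          exact hNn.conj_mem y (hTN hy) g
        · obtain ⟨y, hy, rfl⟩ := ht
          refine ⟨g⁻¹ * n * g * y * (g⁻¹ * n * g)⁻¹, hTn _ ?_ y hy, ?_⟩
          · simpa using hNn.conj_mem n hn g⁻¹
          · simp only [MulEquiv.coe_toMonoidHom, MulAut.conj_apply]; group
      have hdisj : ∀ g : G, T.map (MulAut.conj g).toMonoidHom ≠ T →
          T ⊓ T.map (MulAut.conj g).toMonoidHom = ⊥ ∧
          ∀ x ∈ T, ∀ y ∈ T.map (MulAut.conj g).toMonoidHom, x * y = y * x := by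
        intro g hg
        have hinf : T ⊓ T.map (MulAut.conj g).toMonoidHom = ⊥ := by
          rcases hTmin' (T ⊓ T.map (MulAut.conj g).toMonoidHom) inf_le_left
            (fun n hn t ht => ⟨hTn n hn t ht.1, (hconj g).2 n hn t ht.2⟩) with h | h
          · exact h
          · exfalso
            refine hg (Subgroup.eq_of_le_of_card_ge (inf_eq_left.mp h) ?_).symm
            rw [Subgroup.card_map_of_injective (MulAut.conj g).injective]
        refine ⟨hinf, fun x hx y hy => ?_⟩
        have hmem : x * y * x⁻¹ * y⁻¹ ∈ T ⊓ T.map (MulAut.conj g).toMonoidHom := by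
          refine Subgroup.mem_inf.mpr ⟨?_, mul_mem ((hconj g).2 x (hTN hx) y hy) (inv_mem hy)⟩
          rw [show x * y * x⁻¹ * y⁻¹ = x * (y * x⁻¹ * y⁻¹) by group]
          exact mul_mem hx (hTn y ((hconj g).1 hy) _ (inv_mem hx))
        rw [hinf, Subgroup.mem_bot] at hmem
        calc x * y = (x * y * x⁻¹ * y⁻¹) * (y * x) := by group
          _ = y * x := by rw [hmem, one_mul]
      have hgen : ∀ S : Subgroup G, S ≤ N → (∀ g : G, T.map (MulAut.conj g).toMonoidHom ≤ S) → N ≤ S := by
        intro S _ hS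
        rcases hNmin (Subgroup.normalClosure (T : Set G)) inferInstance
          (Subgroup.normalClosure_le_normal (N := N) hTN) with h | h
        · exact absurd (le_bot_iff.mp (h ▸ Subgroup.le_normalClosure)) hT1
        · rw [← h]
          refine (Subgroup.closure_le _).mpr fun x hx => ?_
          obtain ⟨t, ht, hc⟩ := Group.mem_conjugatesOfSet_iff.mp hx
          obtain ⟨g, rfl⟩ := isConj_iff.mp hc
          exact hS g ⟨t, ht, rfl⟩
      obtain ⟨g₂, hg₂⟩ : ∃ g : G, T.map (MulAut.conj g).toMonoidHom ≠ T := by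
        by_contra hall
        push Not at hall
        exact hTeq (le_antisymm hTN (hgen T hTN fun g => (hall g).le))
      -- `N = T C_N(T)`
      have hdec : ∀ n ∈ N, ∃ t ∈ T, ∃ c ∈ N, n = t * c ∧ ∀ x ∈ T, x * c = c * x := by
        intro n hn
        let S : Subgroup G :=
          { carrier := {n | n ∈ N ∧ ∃ t ∈ T, ∀ x ∈ T, n * x * n⁻¹ = t * x * t⁻¹}
            one_mem' := ⟨one_mem _, 1, one_mem _, fun x _ => rfl⟩
            mul_mem' := by
              rintro a b ⟨ha, s, hs, ha'⟩ ⟨hb, t, ht, hb'⟩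
              refine ⟨mul_mem ha hb, s * t, mul_mem hs ht, fun x hx => ?_⟩
              rw [show a * b * x * (a * b)⁻¹ = a * (b * x * b⁻¹) * a⁻¹ by group, hb' x hx,
                ha' _ (mul_mem (mul_mem ht hx) (inv_mem ht))]
              group
            inv_mem' := by
              rintro a ⟨ha, s, hs, ha'⟩
              refine ⟨inv_mem ha, s⁻¹, inv_mem hs, fun x hx => ?_⟩
              have := ha' (s⁻¹ * x * s⁻¹⁻¹) (mul_mem (mul_mem (inv_mem hs) hx) (inv_mem (inv_mem hs)))
              rw [show s * (s⁻¹ * x * s⁻¹⁻¹) * s⁻¹ = x by group] at this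
              calc a⁻¹ * x * a⁻¹⁻¹ = a⁻¹ * (a * (s⁻¹ * x * s⁻¹⁻¹) * a⁻¹) * a := by rw [this, inv_inv]
                _ = s⁻¹ * x * s⁻¹⁻¹ := by group }
        have hS : n ∈ S := by
          refine hgen S (fun x hx => hx.1) (fun g x hx => ?_) hn
          refine ⟨(hconj g).1 hx, ?_⟩
          by_cases hgT : T.map (MulAut.conj g).toMonoidHom = T
          · exact ⟨x, hgT ▸ hx, fun y _ => rfl⟩
          · refine ⟨1, one_mem _, fun y hy => ?_⟩
            rw [← (hdisj g hgT).2 y hy x hx]; group
        obtain ⟨-, t, ht, h⟩ := hS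
        refine ⟨t, ht, t⁻¹ * n, mul_mem (inv_mem (hTN ht)) hn, by group, fun x hx => ?_⟩
        have h1 := h x hx
        calc x * (t⁻¹ * n) = t⁻¹ * (t * x * t⁻¹) * n := by group
          _ = t⁻¹ * (n * x * n⁻¹) * n := by rw [h1]
          _ = t⁻¹ * n * x := by group
      obtain ⟨a⟩ := (inferInstance : Nonempty Ω)
      let R : Subgroup G :=
        { carrier := {t | t ∈ T ∧ ∃ c ∈ N, (∀ x ∈ T, x * c = c * x) ∧ (t * c) • a = a}
          one_mem' := ⟨one_mem _, 1, one_mem _, fun x _ => by simp, by simp⟩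
          mul_mem' := by
            rintro s t ⟨hs, c, hc, hcc, hca⟩ ⟨ht, d, hd, hdc, hda⟩
            refine ⟨mul_mem hs ht, c * d, mul_mem hc hd, fun x hx => ?_, ?_⟩
            · rw [← mul_assoc, hcc x hx, mul_assoc, hdc x hx, mul_assoc]
            · rw [show s * t * (c * d) = s * c * (t * d) by
                rw [mul_assoc, ← mul_assoc t, hcc t ht, mul_assoc, mul_assoc], mul_smul, hda, hca]
          inv_mem' := by
            rintro s ⟨hs, c, hc, hcc, hca⟩
            refine ⟨inv_mem hs, c⁻¹, inv_mem hc, fun x hx => ?_, ?_⟩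
            · exact (Commute.inv_right (show Commute x c from hcc x hx)).eq
            · rw [← mul_inv_rev, ← hcc s hs, inv_smul_eq_iff, hca] }
      by_cases hRT : T ≤ R
      · have hK : ∀ n ∈ N, ∀ x ∈ T ⊓ MulAction.stabilizer G a, n * x * n⁻¹ ∈ T ⊓ MulAction.stabilizer G a := by
          intro n hn x hx
          obtain ⟨t, ht, c, hc, rfl, hcc⟩ := hdec n hn
          obtain ⟨-, d, hd, hdc, hda⟩ := hRT ht
          refine Subgroup.mem_inf.mpr ⟨hTn _ hn x hx.1, ?_⟩
          rw [show t * c * x * (t * c)⁻¹ = t * d * x * (t * d)⁻¹ by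
            rw [mul_assoc t c x, ← hcc x hx.1, mul_assoc t d x, ← hdc x hx.1]; group]
          exact mul_mem (mul_mem hda hx.2) (inv_mem hda)
        rcases hTmin' _ inf_le_left hK with h | h
        · have hfree : ∀ x ∈ T, x ≠ 1 → ∀ ω : Ω, x • ω ≠ ω := by
            intro x hx hx1 ω hω
            obtain ⟨n, hn, hna⟩ := htrans N hNn hN1 ω a
            have : n * x * n⁻¹ ∈ T ⊓ MulAction.stabilizer G a := ⟨hTn n hn x hx, by
              show (n * x * n⁻¹) • a = a
              rw [← hna, mul_smul, mul_smul, inv_smul_smul, hω]⟩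
            rw [h, Subgroup.mem_bot] at this
            exact hx1 (conj_eq_one_iff.mp this)
          obtain ⟨p, hp, hP⟩ := hsemi T hT1 hfree
          haveI : Fact p.Prime := ⟨hp⟩
          haveI := T.nontrivial_iff_ne_bot.mpr hT1
          haveI := hP.center_nontrivial
          have hTab : ∀ x ∈ T, ∀ y ∈ T, x * y = y * x := by
            rcases hTmin' ((Subgroup.center T).map T.subtype) (Subgroup.map_subtype_le _) (fun n hn t ht => by
              obtain ⟨z, hz, rfl⟩ := ht
              refine ⟨⟨n * z * n⁻¹, hTn n hn z z.2⟩, Subgroup.mem_center_iff.mpr fun y => Subtype.ext ?_, rfl⟩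
              have hy := congrArg Subtype.val (Subgroup.mem_center_iff.mp hz
                ⟨n⁻¹ * y * n, by simpa using hTn n⁻¹ (inv_mem hn) y y.2⟩)
              simp only [Subgroup.coe_mul] at hy ⊢
              calc (y : G) * (n * z * n⁻¹) = n * (n⁻¹ * y * n * z) * n⁻¹ := by group
                _ = n * (z * (n⁻¹ * y * n)) * n⁻¹ := by rw [hy]
                _ = n * z * n⁻¹ * y := by group) with h' | h'
            · rw [Subgroup.map_eq_bot_iff_of_injective _ T.subtype_injective] at h'
              exact absurd h' ((Subgroup.center T).nontrivial_iff_ne_bot.mp inferInstance)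
            · intro x hx y hy
              have hx' : x ∈ (Subgroup.center T).map T.subtype := h'.symm ▸ hx
              obtain ⟨z, hz, rfl⟩ := hx'
              exact (congrArg Subtype.val (Subgroup.mem_center_iff.mp hz ⟨y, hy⟩)).symm
          -- then all conjugates commute
          have hTc : N ≤ Subgroup.centralizer (N : Set G) := by
            have h1 : ∀ g, T.map (MulAut.conj g).toMonoidHom ≤ Subgroup.centralizer (T : Set G) := fun g y hy => by
              rw [Subgroup.mem_centralizer_iff]
              intro x hx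
              by_cases hgT : T.map (MulAut.conj g).toMonoidHom = T
              · exact hTab x hx y (hgT ▸ hy)
              · exact (hdisj g hgT).2 x hx y hy
            have h2 : N ≤ Subgroup.centralizer (T : Set G) :=
              (hgen (N ⊓ Subgroup.centralizer (T : Set G)) inf_le_left (fun g => le_inf (hconj g).1 (h1 g))).trans inf_le_right
            haveI := hNn
            refine (hgen (N ⊓ Subgroup.centralizer (N : Set G)) inf_le_left fun g => le_inf (hconj g).1 ?_).trans inf_le_right
            rintro _ ⟨y, hy, rfl⟩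
            exact (inferInstance : (Subgroup.centralizer (N : Set G)).Normal).conj_mem y
              (Subgroup.mem_centralizer_iff.mpr fun x hx => (Subgroup.mem_centralizer_iff.mp (h2 hx) y hy).symm) g
          exact hnc fun x hx y hy => Subgroup.mem_centralizer_iff.mp (hTc hy) x hx
        · -- `T` fixes everything
          refine hT1 (T.eq_bot_iff_forall.mpr fun x hx => hinjact x fun ω => ?_)
          obtain ⟨n, hn, rfl⟩ := htrans N hNn hN1 a ω
          have hx' : n⁻¹ * x * n⁻¹⁻¹ ∈ T ⊓ MulAction.stabilizer G a := h.symm ▸ hTn _ (inv_mem hn) x hx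
          have h3 : (n⁻¹ * x * n⁻¹⁻¹) • a = a := hx'.2
          rwa [inv_inv, mul_smul, mul_smul, inv_smul_eq_iff] at h3
      -- some element of `T` has no conjugate in `R`
      obtain ⟨t, ht, htR⟩ : ∃ t ∈ T, ∀ s ∈ T, s * t * s⁻¹ ∉ R := by
        by_contra hall
        push Not at hall
        have htop := Cfsg.Agent.Grp.eq_top_of_conj_cover (R.subgroupOf T) (fun x => by
          obtain ⟨s, hs, hsR⟩ := hall x x.2
          exact ⟨⟨s, hs⟩, hsR⟩)
        exact hRT (Subgroup.subgroupOf_eq_top.mp htop)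
      have hder : ∀ c ∈ N, (∀ x ∈ T, x * c = c * x) → ∀ ω : Ω, (t * c) • ω ≠ ω := by
        intro c hc hcc ω hω
        obtain ⟨n, hn, hna⟩ := htrans N hNn hN1 ω a
        obtain ⟨s, hs, d, hd, rfl, hdc⟩ := hdec n hn
        refine htR s hs ⟨hTn _ (hTN hs) t ht, s * d * c * (s * d)⁻¹,
          mul_mem (mul_mem (mul_mem (hTN hs) hd) hc) (inv_mem (mul_mem (hTN hs) hd)), fun x hx => ?_, ?_⟩
        · have hk : ∀ y ∈ T, (s * d) * y * (s * d)⁻¹ = s * y * s⁻¹ := fun y hy => by
            rw [mul_assoc s d y, ← hdc y hy]; group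
          have hy : s⁻¹ * x * s ∈ T := mul_mem (mul_mem (inv_mem hs) hx) hs
          have e : x = (s * d) * (s⁻¹ * x * s) * (s * d)⁻¹ := by rw [hk _ hy]; group
          calc x * (s * d * c * (s * d)⁻¹) = s * d * ((s⁻¹ * x * s) * c) * (s * d)⁻¹ := by
                nth_rewrite 1 [e]; group
            _ = s * d * (c * (s⁻¹ * x * s)) * (s * d)⁻¹ := by rw [hcc _ hy]
            _ = s * d * c * (s * d)⁻¹ * ((s * d) * (s⁻¹ * x * s) * (s * d)⁻¹) := by group
            _ = _ := by rw [← e]
        · rw [show s * t * s⁻¹ * (s * d * c * (s * d)⁻¹) = (s * d) * (t * c) * (s * d)⁻¹ by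
            rw [show s * t * s⁻¹ = (s * d) * t * (s * d)⁻¹ by rw [mul_assoc s d t, ← hdc t ht]; group]
            group]
          rw [← hna, mul_smul, mul_smul, inv_smul_smul, hω]
      obtain ⟨u, hu', hu1⟩ : ∃ u ∈ T.map (MulAut.conj g₂).toMonoidHom, u ≠ 1 := by
        by_contra hall
        push Not at hall
        apply hT1
        rw [← Subgroup.map_eq_bot_iff_of_injective T (f := (MulAut.conj g₂).toMonoidHom) (MulAut.conj g₂).injective]
        exact (Subgroup.eq_bot_iff_forall _).mpr hall
      obtain ⟨hinf, huT⟩ := hdisj g₂ hg₂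
      obtain ⟨h, hh⟩ := isConj_iff.mp (hu (t * 1) (t * u) (hder 1 (one_mem _) (fun x _ => by simp))
        (hder u ((hconj g₂).1 hu') (fun x hx => huT x hx u hu')))
      have hmem : t * u ∈ T.map (MulAut.conj h).toMonoidHom := ⟨t, ht, by simpa using hh⟩
      by_cases hhT : T.map (MulAut.conj h).toMonoidHom = T
      · refine hu1 (Subgroup.mem_bot.mp (hinf ▸ Subgroup.mem_inf.mpr ⟨?_, hu'⟩))
        rw [show u = t⁻¹ * (t * u) by group]
        exact mul_mem (inv_mem ht) (hhT ▸ hmem)
      · have htc : ∀ x ∈ T, x * t = t * x := fun x hx => by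
          have h1 := (hdisj h hhT).2 x hx _ hmem
          rw [← mul_assoc, mul_assoc t u x, ← huT x hx u hu', ← mul_assoc] at h1
          exact mul_right_cancel h1
        refine htR 1 (one_mem _) ?_
        rw [one_mul, inv_one, mul_one]
        rcases hTmin' (T ⊓ Subgroup.centralizer (T : Set G)) inf_le_left (fun n hn x hx => Subgroup.mem_inf.mpr ⟨hTn n hn x hx.1, by
          rw [Subgroup.mem_centralizer_iff]
          intro y hy
          have h1 := Subgroup.mem_centralizer_iff.mp hx.2 (n⁻¹ * y * n) (by simpa using hTn n⁻¹ (inv_mem hn) y hy)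
          calc y * (n * x * n⁻¹) = n * (n⁻¹ * y * n * x) * n⁻¹ := by group
            _ = n * (x * (n⁻¹ * y * n)) * n⁻¹ := by rw [h1]
            _ = n * x * n⁻¹ * y := by group⟩) with h' | h'
        · have : t ∈ T ⊓ Subgroup.centralizer (T : Set G) := ⟨ht, Subgroup.mem_centralizer_iff.mpr htc⟩
          rw [h', Subgroup.mem_bot] at this
          rw [this]; exact one_mem _
        · exfalso
          haveI := hNn
          have h2 : N ≤ Subgroup.centralizer (T : Set G) := by
            refine (hgen (N ⊓ Subgroup.centralizer (T : Set G)) inf_le_left fun g => le_inf (hconj g).1 fun y hy => ?_).trans inf_le_right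
            by_cases hgT : T.map (MulAut.conj g).toMonoidHom = T
            · exact (h'.symm ▸ (hgT ▸ hy : y ∈ T) : y ∈ T ⊓ Subgroup.centralizer (T : Set G)).2
            · exact Subgroup.mem_centralizer_iff.mpr fun x hx => (hdisj g hgT).2 x hx y hy
          refine hnc fun x hx y hy => Subgroup.mem_centralizer_iff.mp (((hgen (N ⊓ Subgroup.centralizer (N : Set G)) inf_le_left
            fun g => le_inf (hconj g).1 ?_).trans inf_le_right) hy) x hx
          rintro _ ⟨z, hz, rfl⟩
          exact (inferInstance : (Subgroup.centralizer (N : Set G)).Normal).conj_mem z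
            (Subgroup.mem_centralizer_iff.mpr fun x hx => (Subgroup.mem_centralizer_iff.mp (h2 hx) z hz).symm) g
    -- affine case
    have hfree : ∀ v ∈ N, ∀ w : Ω, v • w = w → v = 1 := by
      intro v hv w hw
      refine hinjact v fun ω => ?_
      obtain ⟨m, hm, rfl⟩ := htrans N hNn hN1 w ω
      rw [← mul_smul, hcomm v hv m hm, mul_smul, hw]
    have hderN : ∀ d : G, (∀ ω : Ω, d • ω ≠ ω) → d ∈ N := by
      intro d hd
      obtain ⟨⟨v, hv⟩, hv1⟩ : ∃ v : N, v ≠ 1 := by
        haveI := N.nontrivial_iff_ne_bot.mpr hN1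
        exact exists_ne 1
      obtain ⟨g, rfl⟩ := isConj_iff.mp (hu v d (fun ω h => hv1 (Subtype.ext (hfree v hv ω h))) hd)
      exact hNn.conj_mem v hv g
    refine ⟨?_, ?_⟩
    · have hstab : ∀ a b c : Ω, b ≠ a → c ≠ a → ∃ h : G, h • a = a ∧ h • b = c := by
        intro a b c hb hc
        obtain ⟨v, hv, rfl⟩ := htrans N hNn hN1 a b
        obtain ⟨w, hw, rfl⟩ := htrans N hNn hN1 a c
        obtain ⟨g, hg⟩ := isConj_iff.mp (hu v w
          (fun ω h => hb (by rw [hfree v hv ω h, one_smul]))
          (fun ω h => hc (by rw [hfree w hw ω h, one_smul])))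
        obtain ⟨n, hn, hna⟩ := htrans N hNn hN1 (g • a) a
        refine ⟨n * g, by rw [mul_smul, hna], ?_⟩
        have e : n * g * v = w * (n * g) := by
          calc n * g * v = n * (g * v * g⁻¹) * g := by group
            _ = w * (n * g) := by rw [hg, hcomm n hn w hw, mul_assoc]
        rw [← mul_smul, e, mul_smul, mul_smul, hna]
      rw [MulAction.is_two_pretransitive_iff]
      intro a b c d hab hcd
      obtain ⟨m, hm⟩ := MulAction.exists_smul_eq G a c
      obtain ⟨h, h1, h2⟩ := hstab c (m • b) d (by rw [← hm]; exact fun e => hab (MulAction.injective m e).symm) hcd.symm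
      exact ⟨h * m, by rw [mul_smul, hm, h1], by rw [mul_smul, h2]⟩
    · intro g hg1 a b hab hga hgb
      obtain ⟨v, hv, rfl⟩ := htrans N hNn hN1 a b
      have hgv : g * v * g⁻¹ = v := by
        have hmem := hNn.conj_mem v hv g
        have h1 : (v⁻¹ * (g * v * g⁻¹)) • a = a := by
          have h0 : g⁻¹ • a = a := inv_smul_eq_iff.mpr hga.symm
          rw [mul_smul, mul_smul, mul_smul, h0, hgb, inv_smul_smul]
        exact (eq_of_inv_mul_eq_one (hfree _ (mul_mem (inv_mem hv) hmem) a h1)).symm
      have hv1 : v ≠ 1 := fun h => hab (by rw [h, one_smul])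
      let f : N → N := fun w => ⟨w * (g * (w : G)⁻¹ * g⁻¹), mul_mem w.2 (hNn.conj_mem _ (inv_mem w.2) g)⟩
      have hninj : ¬ Function.Injective f := fun hf => by
        have := @hf ⟨v, hv⟩ 1 (Subtype.ext (by
          show v * (g * v⁻¹ * g⁻¹) = (1 : G) * (g * (1 : G)⁻¹ * g⁻¹)
          rw [← conj_inv, hgv]; group))
        exact hv1 (congrArg Subtype.val this)
      obtain ⟨⟨n, hn⟩, hnot⟩ : ∃ n : N, ∀ w, f w ≠ n := by
        by_contra hall
        push Not at hall
        exact hninj (Finite.injective_iff_surjective.mpr hall)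
      have hd : ∀ ω : Ω, (n * g) • ω ≠ ω := by
        intro ω hω
        obtain ⟨w, hw, rfl⟩ := htrans N hNn hN1 a ω
        refine hnot ⟨w, hw⟩ (Subtype.ext ?_)
        have hmem : w⁻¹ * n * (g * w * g⁻¹) ∈ N := mul_mem (mul_mem (inv_mem hw) hn) (hNn.conj_mem w hw g)
        have h1 : (w⁻¹ * n * (g * w * g⁻¹)) • a = a := by
          rw [show w⁻¹ * n * (g * w * g⁻¹) = w⁻¹ * ((n * g) * w) * g⁻¹ by group, mul_smul, inv_smul_eq_iff.mpr hga.symm,
            mul_smul, mul_smul, hω, inv_smul_smul]
        have h2 := hfree _ hmem a h1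
        show w * (g * w⁻¹ * g⁻¹) = n
        calc w * (g * w⁻¹ * g⁻¹) = w * (w⁻¹ * n * (g * w * g⁻¹)) * (g * w⁻¹ * g⁻¹) := by rw [h2, mul_one]
          _ = n := by group
      have hgN : g ∈ N := by
        rw [show g = n⁻¹ * (n * g) by group]
        exact mul_mem (inv_mem hn) (hderN _ hd)
      exact hg1 (hfree g hgN a hga)
  · rintro ⟨h2t, hsharp⟩ d e hd he
    rw [MulAction.is_two_pretransitive_iff] at h2t
    obtain ⟨a⟩ := (inferInstance : Nonempty Ω)
    have hstabcard : ∀ a : Ω, Nat.card {h : G // h • a = a ∧ h ≠ 1} = Fintype.card Ω - 2 := by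
      intro a
      obtain ⟨b, hb⟩ := exists_ne a
      let f : {h : G // h • a = a} → {c : Ω // c ≠ a} := fun h => ⟨h.1 • b, fun e => hb (MulAction.injective h.1 (e.trans h.2.symm))⟩
      have hf : Function.Bijective f := by
        refine ⟨fun x y hxy => ?_, fun c => ?_⟩
        · have hxy' : x.1 • b = y.1 • b := congrArg Subtype.val hxy
          by_contra hne
          exact hsharp (y.1⁻¹ * x.1) (fun h => hne (Subtype.ext (eq_of_inv_mul_eq_one h).symm)) a b hb.symm
            (by rw [mul_smul, x.2, inv_smul_eq_iff, y.2]) (by rw [mul_smul, hxy', inv_smul_smul])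
        · obtain ⟨g, g1, g2⟩ := h2t hb.symm c.2.symm
          exact ⟨⟨g, g1⟩, Subtype.ext g2⟩
      have h1 : Nat.card {h : G // h • a = a} = Fintype.card Ω - 1 := by
        rw [Nat.card_eq_of_bijective f hf, Nat.card_eq_fintype_card, Fintype.card_subtype_compl, Fintype.card_subtype_eq]
      haveI := Fintype.ofFinite G
      rw [Nat.card_eq_fintype_card] at h1 ⊢
      have h3 : Fintype.card {h : G // h • a = a ∧ h ≠ 1} = Fintype.card {h : G // h • a = a} - 1 := by
        rw [Fintype.card_subtype, Fintype.card_subtype, ← Finset.card_erase_of_mem (a := (1 : G)) (by simp)]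
        congr 1; ext; simp [and_comm]
      omega
    -- count the derangements
    have hGcard : Nat.card G = Fintype.card Ω * (Fintype.card Ω - 1) := by
      obtain ⟨b, hb⟩ := exists_ne a
      let f : G → {p : Ω × Ω // p.1 ≠ p.2} := fun g => ⟨(g • a, g • b), fun e => hb (MulAction.injective g e).symm⟩
      have hf : Function.Bijective f := by
        refine ⟨fun x y hxy => ?_, fun ⟨⟨c, c'⟩, hc⟩ => ?_⟩
        · simp only [f, Subtype.mk.injEq, Prod.mk.injEq] at hxy
          by_contra hne
          exact hsharp (y⁻¹ * x) (fun h => hne (eq_of_inv_mul_eq_one h).symm) a b hb.symm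
            (by rw [mul_smul, hxy.1, inv_smul_smul]) (by rw [mul_smul, hxy.2, inv_smul_smul])
        · obtain ⟨g, g1, g2⟩ := h2t hb.symm hc
          exact ⟨g, by simp [f, g1, g2]⟩
      rw [Nat.card_eq_of_bijective f hf, Nat.card_eq_fintype_card, Fintype.card_subtype,
        show (Finset.univ.filter fun p : Ω × Ω => p.1 ≠ p.2) = (Finset.univ : Finset Ω).offDiag by ext ⟨x, y⟩; simp,
        Finset.offDiag_card, Finset.card_univ, Nat.mul_sub_one]
    haveI := Fintype.ofFinite G
    let D : Finset G := Finset.univ.filter fun g => ∀ ω : Ω, g • ω ≠ ω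
    let F : Ω → Finset G := fun a => Finset.univ.filter fun g => g • a = a ∧ g ≠ 1
    have hF : ∀ a, (F a).card = Fintype.card Ω - 2 := fun a => by
      rw [← hstabcard a, Nat.card_eq_fintype_card, Fintype.card_subtype]
    have hsplit : (Finset.univ : Finset G) = insert 1 (D ∪ Finset.univ.biUnion F) := by
      ext g
      simp only [Finset.mem_univ, Finset.mem_insert, Finset.mem_union, Finset.mem_biUnion, true_and, true_iff, D, F,
        Finset.mem_filter]
      by_cases hg : g = 1
      · exact Or.inl hg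
      · by_cases hfix : ∀ ω : Ω, g • ω ≠ ω
        · exact Or.inr (Or.inl hfix)
        · push Not at hfix
          obtain ⟨ω, hω⟩ := hfix
          exact Or.inr (Or.inr ⟨ω, hω, hg⟩)
    have hDcard : D.card = Fintype.card Ω - 1 := by
      have h := congrArg Finset.card hsplit
      rw [Finset.card_univ, ← Nat.card_eq_fintype_card, hGcard, Finset.card_insert_of_notMem (by
        simp only [Finset.mem_union, Finset.mem_biUnion, D, F, Finset.mem_filter]
        rintro (⟨-, h⟩ | ⟨ω, -, -, -, h⟩)
        · exact h a (one_smul _ _)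
        · exact h rfl), Finset.card_union_of_disjoint (by
        rw [Finset.disjoint_left]
        intro g hg hg'
        simp only [Finset.mem_biUnion, D, F, Finset.mem_filter] at hg hg'
        obtain ⟨ω, -, -, hω, -⟩ := hg'
        exact hg.2 ω hω), Finset.card_biUnion (by
        intro x _ y _ hxy
        simp only [Function.onFun, Finset.disjoint_left, F, Finset.mem_filter]
        rintro g ⟨-, hgx, hg1⟩ ⟨-, hgy, -⟩
        exact hsharp g hg1 x y hxy hgx hgy), Finset.sum_congr rfl (fun x _ => hF x), Finset.sum_const,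
        Finset.card_univ, smul_eq_mul] at h
      obtain ⟨k, hk⟩ : ∃ k, Fintype.card Ω = k + 2 := ⟨Fintype.card Ω - 2, by omega⟩
      rw [hk] at h ⊢
      simp only [show k + 2 - 1 = k + 1 by omega, Nat.add_sub_cancel] at h ⊢
      nlinarith
    let H : Finset G := Finset.univ.filter fun g => g • a = a
    have himg : H.image (fun h => h * d * h⁻¹) = D := by
      refine Finset.eq_of_subset_of_card_le (fun x hx => ?_) ?_
      · obtain ⟨h, -, rfl⟩ := Finset.mem_image.mp hx
        exact Finset.mem_filter.mpr ⟨Finset.mem_univ _, hsmul h d hd⟩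
      · rw [Finset.card_image_of_injOn, hDcard]
        · have hHeq : H.erase 1 = F a := by ext; simp [H, F, and_comm]
          have h1 : (1 : G) ∈ H := by simp [H]
          have := Finset.card_erase_of_mem h1
          rw [hHeq, hF] at this
          have := Finset.card_pos.mpr ⟨_, h1⟩
          omega
        · intro x hx y hy hxy
          simp only [H, Finset.coe_filter, Finset.mem_univ, true_and, Set.mem_ofPred_eq] at hx hy
          by_contra hne
          have hxy' : x * d * x⁻¹ = y * d * y⁻¹ := hxy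
          have h2 : x • (d • a) = y • (d • a) := by
            have := congrArg (· • a) hxy'
            simpa [mul_smul, inv_smul_eq_iff.mpr hx.symm, inv_smul_eq_iff.mpr hy.symm] using this
          exact hsharp (y⁻¹ * x) (fun h => hne (eq_of_inv_mul_eq_one h).symm) a (d • a) (hd a).symm
            (by rw [mul_smul, hx, inv_smul_eq_iff, hy]) (by rw [mul_smul, h2, inv_smul_smul])
    have he' : e ∈ D := Finset.mem_filter.mpr ⟨Finset.mem_univ _, he⟩
    rw [← himg] at he'
    obtain ⟨h, -, hh⟩ := Finset.mem_image.mp he'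
    exact isConj_iff.mpr ⟨h, hh⟩

end Cfsg.Agent.S3501
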