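import Cfsg.Statements.S3504
import Mathlib

set_option autoImplicit false
open Cfsg

namespace Cfsg.Agent.S3504

/-- For n ≥ 5, the fixed-point-free permutations of prime order in the symmetric group of degree n form a single conjugacy class if and only if n is a prime power. -/
theorem result (n : ℕ) (hn : 5 ≤ n) :
    Nat.card {c : ConjClasses (Equiv.Perm (Fin n)) // ∃ g : Equiv.Perm (Fin n), ConjClasses.mk g = c ∧ (orderOf g).Prime ∧ ∀ i : Fin n, g i ≠ i} = 1 ↔ IsPrimePow n := by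
  classical
  constructor
  · intro hc
    haveI := (Nat.card_eq_one_iff_unique.mp hc).1
    obtain ⟨p, hp, hpn⟩ := Nat.exists_prime_and_dvd (show n ≠ 1 by omega)
    have mk : ∀ r : ℕ, r.Prime → r ∣ n → ∃ g : Equiv.Perm (Fin n), orderOf g = r ∧ ∀ i, g i ≠ i := by
      intro r hr hrn
      obtain ⟨g, hg⟩ := (Equiv.Perm.exists_with_cycleType_iff (Fin n) (m := Multiset.replicate (n / r) r)).mpr
        ⟨by simp [Nat.div_mul_cancel hrn], fun a ha => (Multiset.eq_of_mem_replicate ha).symm ▸ hr.two_le⟩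
      have ho : orderOf g = r := by
        rw [← Equiv.Perm.lcm_cycleType, hg]
        have hne : n / r ≠ 0 := Nat.pos_iff_ne_zero.mp (Nat.div_pos (Nat.le_of_dvd (by omega) hrn) hr.pos)
        refine Nat.dvd_antisymm (Multiset.lcm_dvd.mpr fun a ha => (Multiset.eq_of_mem_replicate ha) ▸ dvd_rfl) ?_
        exact Multiset.dvd_lcm (Multiset.mem_replicate.mpr ⟨hne, rfl⟩)
      refine ⟨g, ho, fun i => ?_⟩
      have : g.support = Finset.univ := by
        rw [← Finset.card_eq_iff_eq_univ, ← Equiv.Perm.sum_cycleType, hg]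
        simp [Nat.div_mul_cancel hrn]
      exact Equiv.Perm.mem_support.mp (this ▸ Finset.mem_univ i)
    obtain ⟨g, hgo, hgd⟩ := mk p hp hpn
    refine isPrimePow_iff_unique_prime_dvd.mpr ⟨p, ⟨hp, hpn⟩, ?_⟩
    rintro r ⟨hr, hrn⟩
    obtain ⟨h, hho, hhd⟩ := mk r hr hrn
    have := Subsingleton.elim (⟨ConjClasses.mk g, g, rfl, hgo ▸ hp, hgd⟩ : {c : ConjClasses (Equiv.Perm (Fin n)) //
      ∃ g : Equiv.Perm (Fin n), ConjClasses.mk g = c ∧ (orderOf g).Prime ∧ ∀ i : Fin n, g i ≠ i}) ⟨ConjClasses.mk h, h, rfl, hho ▸ hr, hhd⟩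
    have hconj := ConjClasses.mk_eq_mk_iff_isConj.mp (congrArg Subtype.val this)
    have he := (Equiv.Perm.isConj_iff_cycleType_eq.mp hconj)
    have := congrArg Multiset.lcm he
    rw [Equiv.Perm.lcm_cycleType, Equiv.Perm.lcm_cycleType, hgo, hho] at this
    exact this.symm
  · intro hpp
    obtain ⟨p, ⟨hp, hpn⟩, huniq⟩ := isPrimePow_iff_unique_prime_dvd.mp hpp
    have key : ∀ g : Equiv.Perm (Fin n), (orderOf g).Prime → (∀ i, g i ≠ i) →
        g.cycleType = Multiset.replicate (n / p) p := by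
      intro g hg hgd
      obtain ⟨k, hk⟩ := Equiv.Perm.cycleType_prime_order hg
      have hs : g.support = Finset.univ := Finset.eq_univ_iff_forall.mpr fun i => Equiv.Perm.mem_support.mpr (hgd i)
      have hsum := Equiv.Perm.sum_cycleType g
      rw [hk, hs, Multiset.sum_replicate, smul_eq_mul, Finset.card_univ, Fintype.card_fin] at hsum
      have : orderOf g = p := huniq _ ⟨hg, ⟨k + 1, by rw [mul_comm]; exact hsum.symm⟩⟩
      rw [this] at hsum hk
      rw [hk, ← hsum, Nat.mul_div_cancel _ hp.pos]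
    obtain ⟨g, hg⟩ := (Equiv.Perm.exists_with_cycleType_iff (Fin n) (m := Multiset.replicate (n / p) p)).mpr
        ⟨by simp [Nat.div_mul_cancel hpn], fun a ha => (Multiset.eq_of_mem_replicate ha).symm ▸ hp.two_le⟩
    have ho : orderOf g = p := by
      rw [← Equiv.Perm.lcm_cycleType, hg]
      have hne : n / p ≠ 0 := Nat.pos_iff_ne_zero.mp (Nat.div_pos (Nat.le_of_dvd (by omega) hpn) hp.pos)
      refine Nat.dvd_antisymm (Multiset.lcm_dvd.mpr fun a ha => (Multiset.eq_of_mem_replicate ha) ▸ dvd_rfl) ?_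
      exact Multiset.dvd_lcm (Multiset.mem_replicate.mpr ⟨hne, rfl⟩)
    have hd : ∀ i, g i ≠ i := fun i => by
      have : g.support = Finset.univ := by
        rw [← Finset.card_eq_iff_eq_univ, ← Equiv.Perm.sum_cycleType, hg]
        simp [Nat.div_mul_cancel hpn]
      exact Equiv.Perm.mem_support.mp (this ▸ Finset.mem_univ i)
    refine Nat.card_eq_one_iff_exists.mpr ⟨⟨ConjClasses.mk g, g, rfl, ho ▸ hp, hd⟩, ?_⟩
    rintro ⟨_, h, rfl, hho, hhd⟩
    refine Subtype.ext (ConjClasses.mk_eq_mk_iff_isConj.mpr (Equiv.Perm.isConj_iff_cycleType_eq.mpr ?_))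
    rw [key h hho hhd, hg]

end Cfsg.Agent.S3504
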