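import Cfsg.Statements.S3508
import Mathlib

set_option autoImplicit false
open Cfsg

namespace Cfsg.Agent.S3508

open scoped IsMulCommutative

theorem geom_eq_sub_pow (p s : ℕ) [Fact p.Prime] {R : Type*} [Ring R] [Algebra (ZMod p) R] (T : R) :
    ∑ i ∈ Finset.range (p ^ s), T ^ i = (T - 1) ^ (p ^ s - 1) := by
  have h : (∑ i ∈ Finset.range (p ^ s), (Polynomial.X : Polynomial (ZMod p)) ^ i) =
      (Polynomial.X - 1) ^ (p ^ s - 1) := by
    have hne : (Polynomial.X : Polynomial (ZMod p)) - 1 ≠ 0 := by
      rw [← Polynomial.C_1]; exact Polynomial.X_sub_C_ne_zero 1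
    refine mul_right_cancel₀ hne ?_
    rw [geom_sum_mul, ← pow_succ, Nat.sub_add_cancel (Nat.one_le_pow _ _ (Fact.out : p.Prime).pos), sub_pow_char_pow,
      one_pow]
  have := congrArg (Polynomial.aeval T) h
  simpa using this

theorem sub_one_pow (p s : ℕ) [Fact p.Prime] {R : Type*} [Ring R] [Algebra (ZMod p) R] (T : R) :
    (T - 1) ^ (p ^ s) = T ^ (p ^ s) - 1 := by
  have h : ((Polynomial.X : Polynomial (ZMod p)) - 1) ^ (p ^ s) = Polynomial.X ^ (p ^ s) - 1 := by
    rw [sub_pow_char_pow, one_pow]
  have := congrArg (Polynomial.aeval T) h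
  simpa using this


/-- Let a finite group G act faithfully on a set Ω with p ^ m points (p prime) and have an elementary abelian normal p-subgroup N acting regularly on Ω (so G is a group of affine transformations of an m-dimensional space over the field with p elements). If G contains an element of order p ^ r with r ≥ 1, then p ^ (r − 1) ≤ m. In particular an element of order p ^ m forces m ≤ 2, and m ≤ 1 when p is odd. -/
theorem result {G : Type*} [Group G] [Finite G] {Ω : Type*} [Fintype Ω] [MulAction G Ω] [FaithfulSMul G Ω] (p m : ℕ) (hp : p.Prime) (hcard : Fintype.card Ω = p ^ m)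
    (N : Subgroup G) [N.Normal] (hNc : IsMulCommutative N) (hNp : ∀ n ∈ N, n ^ p = 1)
    (hNtr : MulAction.IsPretransitive N Ω) (hNreg : ∀ ω : Ω, MulAction.stabilizer N ω = ⊥)
    (g : G) (r : ℕ) (hr : 1 ≤ r) (hg : orderOf g = p ^ r) :
    p ^ (r - 1) ≤ m ∧ (r = m → m ≤ 2 ∧ (2 < p → m ≤ 1)) := by
  classical
  haveI := Fact.mk hp
  haveI := hNtr
  haveI : Nonempty Ω := Fintype.card_pos_iff.mp (hcard ▸ pow_pos hp.pos m)
  obtain ⟨α⟩ := (inferInstance : Nonempty Ω)
  haveI := hNc
  haveI : Module (ZMod p) (Additive N) := AddCommGroup.zmodModule (n := p) (G := Additive N) fun x => by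
    show Additive.ofMul (x.toMul ^ p) = 0
    rw [show x.toMul ^ p = 1 from Subtype.ext (hNp _ x.toMul.2)]; rfl
  have hVcard : Nat.card (Additive N) = p ^ m := by
    have h1 := MulAction.index_stabilizer_of_transitive (G := N) α
    rw [hNreg α, Subgroup.index_bot, Nat.card_eq_fintype_card (α := Ω), hcard] at h1
    exact (Nat.card_congr Additive.toMul).trans h1
  haveI : Module.Finite (ZMod p) (Additive N) := Module.Finite.of_finite
  have hdim : Module.finrank (ZMod p) (Additive N) = m := by
    have h1 := Module.natCard_eq_pow_finrank (K := ZMod p) (V := Additive N)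
    rw [hVcard, Nat.card_zmod] at h1
    exact Nat.pow_right_injective hp.two_le h1.symm
  -- decompose g
  obtain ⟨⟨v, hv⟩, hvα⟩ := MulAction.exists_smul_eq N α (g • α)
  set h := v⁻¹ * g with hh
  have hhα : h • α = α := by rw [hh, mul_smul, ← hvα, Subgroup.smul_def, inv_smul_smul]
  let T : Module.End (ZMod p) (Additive N) := (MonoidHom.toAdditive (MulAut.conjNormal (H := N) h).toMonoidHom).toZModLinearMap p
  have hTi : ∀ (i : ℕ) (x : (Additive N)), (((T ^ i) x).toMul : G) = h ^ i * (x.toMul : G) * (h ^ i)⁻¹ := by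
    intro i
    induction i with
    | zero => intro x; simp
    | succ i ih =>
      intro x
      rw [pow_succ', Module.End.mul_apply]
      show ((MulAut.conjNormal (H := N) h ((T ^ i) x).toMul : N) : G) = _
      rw [MulAut.conjNormal_apply, ih, pow_succ']
      group
  have hsum : ∀ k : ℕ, g ^ k = (((∑ i ∈ Finset.range k, T ^ i) (Additive.ofMul (⟨v, hv⟩ : N))).toMul : G) * h ^ k := by
    intro k
    induction k with
    | zero => simp
    | succ k ih =>
      have hg' : g = v * h := by rw [hh, mul_inv_cancel_left]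
      rw [pow_succ g, ih, Finset.sum_range_succ, LinearMap.add_apply, toMul_add, Subgroup.coe_mul, hTi, pow_succ h]
      conv_lhs => enter [2]; rw [hg']
      simp [mul_assoc]
  have hpow : ∀ k : ℕ, T ^ k = 1 → h ^ k = 1 := by
    intro k hk
    refine FaithfulSMul.eq_of_smul_eq_smul (α := Ω) fun w => ?_
    obtain ⟨n, rfl⟩ := MulAction.exists_smul_eq N α w
    have h1 := hTi k (Additive.ofMul n)
    rw [hk, Module.End.one_apply, toMul_ofMul] at h1
    have hfix : ∀ j : ℕ, h ^ j • α = α := fun j => by
      induction j with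
      | zero => simp
      | succ j ih => rw [pow_succ, mul_smul, hhα, ih]
    have hc : h ^ k * (n : G) = (n : G) * h ^ k := (eq_mul_inv_iff_mul_eq.mp h1).symm
    rw [one_smul, Subgroup.smul_def, ← mul_smul, hc, mul_smul, hfix]
  -- T is unipotent
  have hNmem : ∀ k : ℕ, g ^ k = 1 → h ^ k = 1 := by
    intro k hk
    have h1 := hsum k
    rw [hk] at h1
    set n := ((∑ i ∈ Finset.range k, T ^ i) (Additive.ofMul (⟨v, hv⟩ : N))).toMul
    have hhn : h ^ k = (n : G)⁻¹ := by rw [eq_inv_iff_mul_eq_one, mul_eq_one_comm, ← h1]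
    have : n⁻¹ ∈ MulAction.stabilizer N α := by
      rw [MulAction.mem_stabilizer_iff, Subgroup.smul_def, Subgroup.coe_inv, ← hhn]
      clear h1 hhn hk
      induction k with
      | zero => simp
      | succ j ih => rw [pow_succ, mul_smul, hhα, ih]
    rw [hNreg, Subgroup.mem_bot, inv_eq_one] at this
    rw [hhn, this]; simp
  have hTr : T ^ p ^ r = 1 := by
    have h1 : h ^ p ^ r = 1 := hNmem _ (hg ▸ pow_orderOf_eq_one g)
    refine LinearMap.ext fun x => ?_
    apply Additive.toMul.injective
    apply Subtype.ext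
    rw [hTi, h1]; simp
  have hnil : (T - 1) ^ m = 0 := by
    have h0 : (T - 1) ^ p ^ r = 0 := by rw [sub_one_pow, hTr, sub_self]
    have hle := Module.End.ker_pow_le_ker_pow_finrank (T - 1) (p ^ r)
    rw [h0, LinearMap.ker_zero, hdim, top_le_iff, LinearMap.ker_eq_top] at hle
    exact hle
  have hmain : ∀ s : ℕ, m < p ^ s → g ^ p ^ s = 1 := by
    intro s hs
    have h1 : T ^ p ^ s = 1 := by
      have := sub_one_pow p s T
      rw [pow_eq_zero_of_le hs.le hnil] at this
      exact (sub_eq_zero.mp this.symm)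
    rw [hsum, hpow _ h1, geom_eq_sub_pow, pow_eq_zero_of_le (by omega) hnil]
    simp
  have hA : p ^ (r - 1) ≤ m := by
    by_contra hcon
    have h1 := hmain (r - 1) (not_le.mp hcon)
    rw [← orderOf_dvd_iff_pow_eq_one, hg, Nat.pow_dvd_pow_iff_le_right hp.one_lt] at h1
    omega
  refine ⟨hA, fun hrm => ?_⟩
  subst hrm
  have key : ∀ a : ℕ, 2 ≤ p → p ^ a ≤ a + 1 → a ≤ 1 ∧ (2 < p → a = 0) := by
    intro a h2 ha
    rcases a with _ | _ | a
    · simp
    · refine ⟨le_rfl, fun h3 => ?_⟩; simp at ha; omega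
    · exfalso
      have h4 : a + 4 ≤ p ^ (a + 2) := by
        clear ha
        induction a with
        | zero => rw [pow_two]; simpa using Nat.mul_le_mul h2 h2
        | succ a ih => rw [pow_succ]; nlinarith [Nat.mul_le_mul ih h2]
      rw [show a + 1 + 1 = a + 2 from rfl] at ha
      omega
  obtain ⟨k1, k2⟩ := key (r - 1) hp.two_le (by rw [Nat.sub_add_cancel hr]; exact hA)
  exact ⟨by omega, fun h3 => by have := k2 h3; omega⟩

end Cfsg.Agent.S3508
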