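import Cfsg.Statements.S3511
import Mathlib

set_option autoImplicit false
open Cfsg

namespace Cfsg.Agent.S3511

/-- Let a finite group G act faithfully on a set Ω. If every element of G of square-free order has a regular cycle (an orbit of the cyclic group it generates with trivial stabilizer), then every element of G has a regular cycle. -/
theorem result {G : Type*} [Group G] [Finite G] {Ω : Type*} [MulAction G Ω] [FaithfulSMul G Ω]
    (h : ∀ g : G, Squarefree (orderOf g) → ∃ ω : Ω, MulAction.stabilizer (Subgroup.zpowers g) ω = ⊥) (g : G) :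
    ∃ ω : Ω, MulAction.stabilizer (Subgroup.zpowers g) ω = ⊥ := by
  classical
  set n := orderOf g with hn
  have hn0 : 0 < n := orderOf_pos g
  set r := ∏ p ∈ n.primeFactors, p with hr
  have hrn : r ∣ n := Nat.prod_primeFactors_dvd n
  have hr0 : r ≠ 0 := fun h0 => by rw [h0] at hrn; exact hn0.ne' (Nat.eq_zero_of_zero_dvd hrn)
  have ho : orderOf (g ^ (n / r)) = r := by
    rw [orderOf_pow, ← hn, Nat.gcd_eq_right (Nat.div_dvd_of_dvd hrn), Nat.div_div_self hrn hn0.ne']
  have hsq : Squarefree r := by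
    rw [Nat.squarefree_iff_prime_squarefree]
    intro p hp hpp
    have hmem : p ∈ n.primeFactors := Nat.mem_primeFactors.mpr ⟨hp, (dvd_trans (dvd_mul_right p p) hpp).trans hrn, hn0.ne'⟩
    rw [hr, ← Finset.mul_prod_erase _ _ hmem] at hpp
    have h2 : p ∣ ∏ q ∈ n.primeFactors.erase p, q := Nat.dvd_of_mul_dvd_mul_left hp.pos hpp
    obtain ⟨q, hq, hpq⟩ := (Prime.dvd_finsetProd_iff hp.prime _).mp h2
    rw [Finset.mem_erase, Nat.mem_primeFactors] at hq
    exact hq.1 ((Nat.prime_dvd_prime_iff_eq hp hq.2.1).mp hpq).symm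
  obtain ⟨ω, hω⟩ := h (g ^ (n / r)) (by rw [ho]; exact hsq)
  refine ⟨ω, ?_⟩
  by_contra hne
  haveI : Nontrivial (MulAction.stabilizer (Subgroup.zpowers g) ω) := (Subgroup.nontrivial_iff_ne_bot _).mpr hne
  obtain ⟨p, hp, hpd⟩ := Nat.exists_prime_and_dvd (n := Nat.card (MulAction.stabilizer (Subgroup.zpowers g) ω)) Finite.one_lt_card.ne'
  haveI := Fact.mk hp
  obtain ⟨y, hy⟩ := exists_prime_orderOf_dvd_card' p hpd
  have hyo : orderOf ((y : Subgroup.zpowers g) : G) = p := by rw [Subgroup.orderOf_coe, Subgroup.orderOf_coe, hy]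
  obtain ⟨m, hm⟩ := Subgroup.mem_zpowers_iff.mp (y : Subgroup.zpowers g).2
  have hdiv : (n : ℤ) ∣ m * p := by
    rw [orderOf_dvd_iff_zpow_eq_one, zpow_mul, hm, zpow_natCast, ← hyo, pow_orderOf_eq_one]
  have hpn : p ∣ n := by rw [← hyo, hn]; exact orderOf_dvd_of_mem_zpowers ((y : Subgroup.zpowers g)).2
  have hpr : p ∣ r := Finset.dvd_prod_of_mem _ (Nat.mem_primeFactors.mpr ⟨hp, hpn, hn0.ne'⟩)
  have hq : ((n / r : ℕ) : ℤ) ∣ m := by
    obtain ⟨a, ha⟩ := hpr
    obtain ⟨b, hb⟩ := hrn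
    have ha0 : r = p * a := ha
    rw [hb, Nat.mul_div_cancel_left _ (Nat.pos_of_ne_zero hr0)]
    rw [hb, ha0] at hdiv
    push_cast at hdiv
    have hp0 : (p : ℤ) ≠ 0 := by exact_mod_cast hp.ne_zero
    have : (a : ℤ) * b ∣ m := by
      rw [mul_comm m, mul_assoc] at hdiv
      exact (mul_dvd_mul_iff_left hp0).mp hdiv
    exact dvd_trans (Dvd.intro_left _ rfl) this
  obtain ⟨k, hk⟩ := hq
  have hmem : ((y : Subgroup.zpowers g) : G) ∈ Subgroup.zpowers (g ^ (n / r)) :=
    ⟨k, by show (g ^ (n / r)) ^ k = _; rw [← zpow_natCast, ← zpow_mul, ← hk, hm]⟩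
  have hfix : (⟨_, hmem⟩ : Subgroup.zpowers (g ^ (n / r))) ∈ MulAction.stabilizer (Subgroup.zpowers (g ^ (n / r))) ω := y.2
  rw [hω, Subgroup.mem_bot] at hfix
  rw [congrArg Subtype.val hfix] at hyo
  simp at hyo
  exact hp.one_lt.ne hyo

end Cfsg.Agent.S3511
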