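import Cfsg.Statements.S3514
import Mathlib

set_option autoImplicit false
open Cfsg

namespace Cfsg.Agent.S3514

theorem relIndex_sup_normal_right {H : Type*} [Group H] [Finite H] (S K : Subgroup H) [K.Normal] :
    S.relIndex K = S.relIndex (S ⊔ K) := by
  have e1 := Subgroup.relIndex_mul_relIndex (S ⊓ K) S (S ⊔ K) inf_le_left le_sup_left
  have e2 := Subgroup.relIndex_mul_relIndex (S ⊓ K) K (S ⊔ K) inf_le_right le_sup_right
  rw [Subgroup.relIndex_sup_right, Subgroup.inf_relIndex_right] at e2
  rw [Subgroup.inf_relIndex_left] at e1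
  rw [← e1, mul_comm (S.relIndex K)] at e2
  exact Nat.eq_of_mul_eq_mul_left (Nat.pos_of_ne_zero Subgroup.index_ne_zero_of_finite) e2

theorem index_dvd_card {H : Type*} [Group H] [Finite H] (S K : Subgroup H) [K.Normal] (h : S ⊔ K = ⊤) :
    S.index ∣ Nat.card K := by
  rw [← Subgroup.relIndex_top_right, ← h, ← relIndex_sup_normal_right]
  exact Subgroup.relIndex_dvd_card _ _


/-- Let p be a prime, V a finite vector space over the field with p elements, and H a group of linear transformations of V all of whose orbits on V have size coprime to p. (i) Every normal subgroup K of H has all its orbits on V of size coprime to p. (ii) If N is a group of linear transformations of V of order coprime to p that is normalized by H, then the group generated by N and H has all its orbits on V of size coprime to p. -/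
theorem result (p : ℕ) [Fact p.Prime] {V : Type*} [AddCommGroup V] [Module (ZMod p) V] [Finite V]
    (H : Subgroup (V ≃ₗ[ZMod p] V)) (hH : ∀ v : V, ¬ p ∣ Nat.card {u : V | ∃ h ∈ H, h v = u}) :
    (∀ K : Subgroup (V ≃ₗ[ZMod p] V), K ≤ H → H ≤ Subgroup.normalizer (K : Set (V ≃ₗ[ZMod p] V)) →
        ∀ v : V, ¬ p ∣ Nat.card {u : V | ∃ k ∈ K, k v = u}) ∧
    (∀ N : Subgroup (V ≃ₗ[ZMod p] V), ¬ p ∣ Nat.card N → H ≤ Subgroup.normalizer (N : Set (V ≃ₗ[ZMod p] V)) →
        ∀ v : V, ¬ p ∣ Nat.card {u : V | ∃ x ∈ N ⊔ H, x v = u}) := by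
  classical
  haveI : Finite (V ≃ₗ[ZMod p] V) := Finite.of_injective (fun e => (e : V → V)) DFunLike.coe_injective
  let S : V → Subgroup (V ≃ₗ[ZMod p] V) := fun v => MulAction.stabilizer (V ≃ₗ[ZMod p] V) v
  have horb : ∀ (L : Subgroup (V ≃ₗ[ZMod p] V)) (v : V), Nat.card {u : V | ∃ h ∈ L, h v = u} = (S v).relIndex L := by
    intro L v
    have hset : {u : V | ∃ h ∈ L, h v = u} = MulAction.orbit L v := by
      ext u
      exact ⟨fun ⟨h, hh, e⟩ => ⟨⟨h, hh⟩, e⟩, fun ⟨⟨h, hh⟩, e⟩ => ⟨h, hh, e⟩⟩
    rw [hset, Nat.card_coe_set_eq, ← MulAction.index_stabilizer]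
    rfl
  refine ⟨fun K hK hKn v hv => hH v ?_, fun N hN hNn v hv => ?_⟩
  · rw [horb] at hv ⊢
    refine hv.trans ?_
    rw [← Subgroup.relIndex_subgroupOf (H := S v) hK]
    haveI : (K.subgroupOf H).Normal := (Subgroup.normal_subgroupOf_iff_le_normalizer hK).mpr hKn
    rw [relIndex_sup_normal_right]
    exact Subgroup.relIndex_dvd_index_of_le le_sup_left
  · rw [horb] at hv
    have h1 : (S v).relIndex (N ⊔ H) ∣ (S v ⊓ H).relIndex (N ⊔ H) := Subgroup.relIndex_dvd_of_le_left _ inf_le_left
    have h2 := Subgroup.relIndex_mul_relIndex (S v ⊓ H) H (N ⊔ H) inf_le_right le_sup_right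
    rw [Subgroup.inf_relIndex_right] at h2
    have h3 := hv.trans h1
    rw [← h2] at h3
    rcases (Nat.Prime.dvd_mul (Fact.out : p.Prime)).mp h3 with h | h
    · exact hH v (by rw [horb]; exact h)
    · refine hN (h.trans ?_)
      have hnn : N ⊔ H ≤ Subgroup.normalizer (N : Set (V ≃ₗ[ZMod p] V)) := sup_le Subgroup.le_normalizer hNn
      haveI : (N.subgroupOf (N ⊔ H)).Normal := (Subgroup.normal_subgroupOf_iff_le_normalizer le_sup_left).mpr hnn
      have := index_dvd_card (H.subgroupOf (N ⊔ H)) (N.subgroupOf (N ⊔ H)) (by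
        rw [← Subgroup.subgroupOf_sup le_sup_right le_sup_left, sup_comm]
        exact Subgroup.subgroupOf_self _)
      rw [Nat.card_congr (Subgroup.subgroupOfEquivOfLe le_sup_left).toEquiv] at this
      exact this

end Cfsg.Agent.S3514
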