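import Cfsg.Statements.S3515
import Cfsg.Agent.Lib.Recog.AffineClosure

set_option autoImplicit false
open Cfsg

namespace Cfsg.Agent.S3515

theorem four : ∀ x : Fin 2 → ZMod 2, x = 0 ∨ x = Pi.single 0 1 ∨ x = Pi.single 1 1 ∨
    x = Pi.single 0 1 + Pi.single 1 1 := by decide

theorem distinct : (Pi.single 0 1 + Pi.single 1 1 : Fin 2 → ZMod 2) ≠ 0 ∧
    (Pi.single 0 1 + Pi.single 1 1 : Fin 2 → ZMod 2) ≠ Pi.single 0 1 ∧
    (Pi.single 0 1 + Pi.single 1 1 : Fin 2 → ZMod 2) ≠ Pi.single 1 1 := by decide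

/-- Every primitive affine permutation group of degree p² is 3-closed. Let p be a prime and G a group of permutations of the plane V = F_p² consisting of affine maps x ↦ Ax + b, containing all translations, and acting primitively on V. Then any permutation σ of V that agrees on every triple of points with some element of G (σ preserves every G-orbit on ordered triples) already lies in G. -/
theorem result (p : ℕ) [Fact p.Prime] (G : Subgroup (Equiv.Perm (Fin 2 → ZMod p)))
    (haff : (G : Set (Equiv.Perm (Fin 2 → ZMod p))) ⊆ {τ : Equiv.Perm (Fin 2 → ZMod p) | ∃ (A : (Fin 2 → ZMod p) ≃ₗ[ZMod p] (Fin 2 → ZMod p)) (b : Fin 2 → ZMod p), ∀ x, τ x = A x + b})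
    (htrans : ∀ b : Fin 2 → ZMod p, ∃ g ∈ G, ∀ x, g x = x + b) (hprim : MulAction.IsPreprimitive G (Fin 2 → ZMod p))
    (σ : Equiv.Perm (Fin 2 → ZMod p)) (hσ : (∀ t : Fin 3 → (Fin 2 → ZMod p), ∃ g ∈ G, ∀ i, σ (t i) = g (t i))) : σ ∈ G := by
  classical
  let e₁ : Fin 2 → ZMod p := Pi.single 0 1
  let e₂ : Fin 2 → ZMod p := Pi.single 1 1
  obtain ⟨g, hg, hgt⟩ := hσ ![0, e₁, e₂]
  obtain ⟨A, b, hAb⟩ := haff hg
  have e0 : σ 0 = b := by simpa [hAb] using hgt 0
  have e1 : σ e₁ = A e₁ + b := by simpa [hAb] using hgt 1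
  have e2 : σ e₂ = A e₂ + b := by simpa [hAb] using hgt 2
  suffices σ = g from this ▸ hg
  rcases eq_or_ne p 2 with rfl | hp
  · apply Equiv.ext
    have h4 : ∀ x : Fin 2 → ZMod 2, x = 0 ∨ x = e₁ ∨ x = e₂ ∨ x = e₁ + e₂ := four
    have hrest : ∀ τ : Equiv.Perm (Fin 2 → ZMod 2), τ 0 = 0 → τ e₁ = e₁ → τ e₂ = e₂ → τ (e₁ + e₂) = e₁ + e₂ := by
      intro τ a0 a1 a2
      rcases h4 (τ (e₁ + e₂)) with h | h | h | h
      · exact absurd (τ.injective (h.trans a0.symm)) distinct.1
      · exact absurd (τ.injective (h.trans a1.symm)) distinct.2.1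
      · exact absurd (τ.injective (h.trans a2.symm)) distinct.2.2
      · exact h
    have a : ∀ z, σ z = g z → (g⁻¹ * σ) z = z := fun z h => by simp [h]
    intro x
    rcases h4 x with rfl | rfl | rfl | rfl
    · rw [hAb, map_zero A, zero_add, e0]
    · rw [hAb, e1]
    · rw [hAb, e2]
    · have h := hrest (g⁻¹ * σ) (a _ (by rw [hAb, map_zero A, zero_add, e0])) (a _ (by rw [hAb, e1])) (a _ (by rw [hAb, e2]))
      have := congrArg g h
      simpa using this
  obtain ⟨C, c, hC⟩ := AffineClosure.affine_of_triples p hp σ (fun x y z => by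
    obtain ⟨k, hk, hkt⟩ := hσ ![x, y, z]
    obtain ⟨B, d, hBd⟩ := haff hk
    exact ⟨B, d, by simpa [hBd] using hkt 0, by simpa [hBd] using hkt 1, by simpa [hBd] using hkt 2⟩)
  have hcb : c = b := by rw [← e0, hC, map_zero, zero_add]
  have hCA : C = A := by
    apply LinearEquiv.toLinearMap_injective
    refine (Pi.basisFun (ZMod p) (Fin 2)).ext fun i => ?_
    fin_cases i
    · have := e1; rw [hC, hcb] at this; simpa [e₁] using this
    · have := e2; rw [hC, hcb] at this; simpa [e₂] using this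
  exact Equiv.ext fun x => by rw [hC, hAb, hCA, hcb]

end Cfsg.Agent.S3515
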