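import Cfsg.Statements.S3516
import Cfsg.Agent.Lib.Recog.AffineClosure

set_option autoImplicit false
open Cfsg

namespace Cfsg.Agent.S3516

/-- Let p be an odd prime, d ≥ 3, and G a group of affine permutations x ↦ Ax + b of V = F_p^d containing all translations and all maps x ↦ Ax with A of determinant 1. Then the 3-closure of G is the full affine group: a permutation σ of V agrees on every triple of points with some element of G if and only if σ is an affine map. -/
theorem result (p : ℕ) [Fact p.Prime] (hp : p ≠ 2) (d : ℕ) (hd : 3 ≤ d) (G : Subgroup (Equiv.Perm (Fin d → ZMod p)))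
    (haff : (G : Set (Equiv.Perm (Fin d → ZMod p))) ⊆ {τ : Equiv.Perm (Fin d → ZMod p) | ∃ (A : (Fin d → ZMod p) ≃ₗ[ZMod p] (Fin d → ZMod p)) (b : Fin d → ZMod p), ∀ x, τ x = A x + b})
    (htrans : ∀ b : Fin d → ZMod p, ∃ g ∈ G, ∀ x, g x = x + b)
    (hsl : ∀ A : (Fin d → ZMod p) ≃ₗ[ZMod p] (Fin d → ZMod p), LinearMap.det (A : (Fin d → ZMod p) →ₗ[ZMod p] (Fin d → ZMod p)) = 1 → ∃ g ∈ G, ∀ x, g x = A x)
    (σ : Equiv.Perm (Fin d → ZMod p)) :
    (∀ t : Fin 3 → (Fin d → ZMod p), ∃ g ∈ G, ∀ i, σ (t i) = g (t i)) ↔ σ ∈ {τ : Equiv.Perm (Fin d → ZMod p) | ∃ (A : (Fin d → ZMod p) ≃ₗ[ZMod p] (Fin d → ZMod p)) (b : Fin d → ZMod p), ∀ x, τ x = A x + b} := by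
  classical
  constructor
  · intro hσ
    exact AffineClosure.affine_of_triples p hp σ (fun x y z => by
      obtain ⟨k, hk, hkt⟩ := hσ ![x, y, z]
      obtain ⟨B, e, hBe⟩ := haff hk
      exact ⟨B, e, by simpa [hBe] using hkt 0, by simpa [hBe] using hkt 1, by simpa [hBe] using hkt 2⟩)
  rintro ⟨A, b, hAb⟩ t
  obtain ⟨u, hu⟩ : ∃ u : (ZMod p)ˣ, (u : ZMod p) = LinearMap.det (A : (Fin d → ZMod p) →ₗ[ZMod p] (Fin d → ZMod p)) :=
    ⟨LinearEquiv.det A, LinearEquiv.coe_det A⟩
  -- a hyperplane through the two differences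
  let W : Submodule (ZMod p) (Fin d → ZMod p) := Submodule.span (ZMod p) {t 1 - t 0, t 2 - t 0}
  have hW : W < ⊤ := by
    refine lt_top_iff_ne_top.mpr fun h => ?_
    have h1 := finrank_span_le_card (R := ZMod p) ({t 1 - t 0, t 2 - t 0} : Set (Fin d → ZMod p))
    rw [show Submodule.span (ZMod p) ({t 1 - t 0, t 2 - t 0} : Set (Fin d → ZMod p)) = W from rfl, h, finrank_top,
      Module.finrank_fin_fun] at h1
    have : ({t 1 - t 0, t 2 - t 0} : Set (Fin d → ZMod p)).toFinset.card ≤ 2 := by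
      rw [Set.toFinset_insert, Set.toFinset_singleton]; exact Finset.card_le_two
    omega
  obtain ⟨f, hf, hfW⟩ := W.exists_dual_map_eq_bot_of_lt_top hW inferInstance
  obtain ⟨v, hv⟩ : ∃ v, f v = 1 := by
    obtain ⟨w, hw⟩ : ∃ w, f w ≠ 0 := by
      by_contra h
      push_neg at h
      exact hf (LinearMap.ext h)
    exact ⟨(f w)⁻¹ • w, by rw [map_smul, smul_eq_mul, inv_mul_cancel₀ hw]⟩
  let s : ZMod p := ((u⁻¹ : (ZMod p)ˣ) : ZMod p) - 1
  let C : (Fin d → ZMod p) →ₗ[ZMod p] (Fin d → ZMod p) := LinearMap.transvection f (s • v)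
  have hdetC : LinearMap.det C = ((u⁻¹ : (ZMod p)ˣ) : ZMod p) := by
    show LinearMap.det (LinearMap.transvection f (s • v)) = _
    rw [LinearMap.transvection.det, map_smul, hv, smul_eq_mul, mul_one]
    show (1 : ZMod p) + (((u⁻¹ : (ZMod p)ˣ) : ZMod p) - 1) = _
    abel
  have hfix : ∀ w ∈ W, C w = w := by
    intro w hw
    have : f w ∈ W.map f := Submodule.mem_map_of_mem hw
    rw [hfW, Submodule.mem_bot] at this
    show LinearMap.transvection f (s • v) w = w
    simp [LinearMap.transvection.apply, this]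
  let M : (Fin d → ZMod p) →ₗ[ZMod p] (Fin d → ZMod p) := (A : (Fin d → ZMod p) →ₗ[ZMod p] _).comp C
  have hdM : LinearMap.det M = 1 := by
    rw [LinearMap.det_comp, hdetC, ← hu, Units.mul_inv]
  have hbij : IsUnit M := (LinearMap.isUnit_iff_isUnit_det M).mpr (by rw [hdM]; exact isUnit_one)
  let B : (Fin d → ZMod p) ≃ₗ[ZMod p] (Fin d → ZMod p) :=
    LinearEquiv.ofBijective M ((Module.End.isUnit_iff M).mp hbij)
  obtain ⟨g, hg, hgx⟩ := hsl B hdM
  obtain ⟨τ, hτ, hτx⟩ := htrans (σ (t 0) - B (t 0))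
  refine ⟨τ * g, G.mul_mem hτ hg, fun i => ?_⟩
  rw [Equiv.Perm.mul_apply, hgx, hτx]
  have key : ∀ j, t j - t 0 ∈ W := by
    intro j
    fin_cases j
    · simp
    · exact Submodule.subset_span (by simp)
    · exact Submodule.subset_span (by simp)
  have hB : B (t i - t 0) = A (t i - t 0) := by
    show A (C (t i - t 0)) = _
    rw [hfix _ (key i)]
  rw [map_sub, map_sub] at hB
  rw [hAb, hAb]
  linear_combination (norm := abel) -hB

end Cfsg.Agent.S3516
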