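import Cfsg.Statements.S3517
import Mathlib

set_option autoImplicit false
open Cfsg

namespace Cfsg.Agent.S3517

theorem zmod2_cases : ∀ c : ZMod 2, c = 0 ∨ c = 1 := by decide

theorem zmod2_neg_one : (-1 : ZMod 2) = 1 := by decide

theorem extend_pair {V : Type*} [AddCommGroup V] [Module (ZMod 2) V] [Module.Finite (ZMod 2) V]
    (u v u' v' : V) (h1 : u = 0 ↔ u' = 0) (h2 : v = 0 ↔ v' = 0) (h3 : u = v ↔ u' = v') :
    ∃ A : V ≃ₗ[ZMod 2] V, A u = u' ∧ A v = v' := by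
  haveI : Fact (Nat.Prime 2) := ⟨Nat.prime_two⟩
  let φ : ZMod 2 × ZMod 2 →ₗ[ZMod 2] V := (LinearMap.toSpanSingleton (ZMod 2) V u).coprod (LinearMap.toSpanSingleton (ZMod 2) V v)
  let ψ : ZMod 2 × ZMod 2 →ₗ[ZMod 2] V := (LinearMap.toSpanSingleton (ZMod 2) V u').coprod (LinearMap.toSpanSingleton (ZMod 2) V v')
  have hneg : ∀ w : V, -w = w := fun w => by
    rw [← neg_one_smul (ZMod 2) w, zmod2_neg_one, one_smul]
  have hk : LinearMap.ker φ = LinearMap.ker ψ := by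
    ext ⟨a, b⟩
    have ha : a = 0 ∨ a = 1 := zmod2_cases a
    have hb : b = 0 ∨ b = 1 := zmod2_cases b
    have e : ∀ x y : V, x + y = 0 ↔ x = y := fun x y => by rw [add_eq_zero_iff_eq_neg, hneg]
    rcases ha with rfl | rfl <;> rcases hb with rfl | rfl <;>
      simp [φ, ψ, h1, h2, e, h3]
  let e : LinearMap.range φ ≃ₗ[ZMod 2] LinearMap.range ψ :=
    φ.quotKerEquivRange.symm ≪≫ₗ Submodule.quotEquivOfEq _ _ hk ≪≫ₗ ψ.quotKerEquivRange
  obtain ⟨C1, hC1⟩ := (LinearMap.range φ).exists_isCompl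
  obtain ⟨C2, hC2⟩ := (LinearMap.range ψ).exists_isCompl
  have hd : Module.finrank (ZMod 2) C1 = Module.finrank (ZMod 2) C2 := by
    have a1 := Submodule.finrank_add_eq_of_isCompl hC1
    have a2 := Submodule.finrank_add_eq_of_isCompl hC2
    have a3 := e.finrank_eq
    omega
  let A : V ≃ₗ[ZMod 2] V := (Submodule.prodEquivOfIsCompl _ _ hC1).symm ≪≫ₗ
    (e.prodCongr (LinearEquiv.ofFinrankEq C1 C2 hd)) ≪≫ₗ Submodule.prodEquivOfIsCompl _ _ hC2
  have hA : ∀ x, A (φ x) = ψ x := by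
    intro x
    have h0 : (Submodule.prodEquivOfIsCompl _ _ hC1).symm (φ x) = (⟨φ x, LinearMap.mem_range_self φ x⟩, 0) := by
      rw [LinearEquiv.symm_apply_eq]
      simp
    have he : e ⟨φ x, LinearMap.mem_range_self φ x⟩ = ⟨ψ x, LinearMap.mem_range_self ψ x⟩ := by
      have h' : φ.quotKerEquivRange.symm ⟨φ x, LinearMap.mem_range_self φ x⟩ = Submodule.Quotient.mk x := by
        rw [LinearEquiv.symm_apply_eq]; rfl
      simp only [e, LinearEquiv.trans_apply, h']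
      rfl
    simp only [A, LinearEquiv.trans_apply, h0, LinearEquiv.prodCongr_apply, he, map_zero]
    simp
  refine ⟨A, ?_, ?_⟩
  · simpa [φ, ψ] using hA (1, 0)
  · simpa [φ, ψ] using hA (0, 1)


/-- For d ≥ 3, the 3-closure of the affine group AGL_d(2) acting on F_2^d is the full symmetric group: every permutation of F_2^d agrees on every ordered triple of points with some affine map (AGL_d(2) is 3-transitive). -/
theorem result (d : ℕ) (hd : 3 ≤ d) (σ : Equiv.Perm (Fin d → ZMod 2)) (t : Fin 3 → (Fin d → ZMod 2)) :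
    ∃ (A : (Fin d → ZMod 2) ≃ₗ[ZMod 2] (Fin d → ZMod 2)) (b : Fin d → ZMod 2), ∀ i, σ (t i) = A (t i) + b := by
  haveI : Fact (Nat.Prime 2) := ⟨Nat.prime_two⟩
  obtain ⟨A, hu, hv⟩ := extend_pair (t 1 - t 0) (t 2 - t 0) (σ (t 1) - σ (t 0)) (σ (t 2) - σ (t 0))
    (by rw [sub_eq_zero, sub_eq_zero, σ.injective.eq_iff]) (by rw [sub_eq_zero, sub_eq_zero, σ.injective.eq_iff])
    (by rw [sub_left_inj, sub_left_inj, σ.injective.eq_iff])
  refine ⟨A, σ (t 0) - A (t 0), fun i => ?_⟩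
  rw [map_sub] at hu hv
  fin_cases i
  · simp
  · show σ (t 1) = _
    rw [sub_eq_iff_eq_add] at hu
    show σ (t 1) = A (t 1) + (σ (t 0) - A (t 0))
    rw [hu]; abel
  · show σ (t 2) = _
    rw [sub_eq_iff_eq_add] at hv
    show σ (t 2) = A (t 2) + (σ (t 0) - A (t 0))
    rw [hv]; abel

end Cfsg.Agent.S3517
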