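import Cfsg.Statements.S3518


set_option autoImplicit false
open Cfsg

namespace Cfsg.Agent.S3518

open Polynomial in
/-- A map of the prime field preserving all `k`-th powers of differences is linear. -/
theorem carlitz (p : ℕ) [Fact p.Prime] (k : ℕ) (hk : 1 ≤ k) (hkp : 2 * k < p) (f : ZMod p → ZMod p)
    (h0 : f 0 = 0) (hf : ∀ x y, (f x - f y) ^ k = (x - y) ^ k) : ∀ x, f x = f 1 * x := by
  classical
  obtain ⟨l, rfl⟩ : ∃ l, k = l + 1 := ⟨k - 1, by omega⟩
  rcases Nat.eq_zero_or_pos l with rfl | hl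
  · intro x
    have h1 := hf x 0
    have h2 := hf 1 0
    simp [h0] at h1 h2
    rw [h1, h2, one_mul]
  have hp := (Fact.out : p.Prime)
  let pw : ZMod p → Fin l → ZMod p := fun x i => x ^ ((i : ℕ) + 1)
  let row : ZMod p → Fin l → ZMod p := fun y i =>
    ((l + 1).choose ((i : ℕ) + 1) : ZMod p) * (-y) ^ (l - (i : ℕ))
  have hexp : ∀ a b : ZMod p, (a - b) ^ (l + 1) = (-b) ^ (l + 1) + a ^ (l + 1) + ∑ i : Fin l, row b i * pw a i := by
    intro a b
    rw [sub_eq_add_neg, add_pow, Finset.sum_range_succ, Finset.sum_range_succ', ← Fin.sum_univ_eq_sum_range]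
    simp only [pow_zero, one_mul, Nat.choose_self, Nat.sub_self, Nat.choose_zero_right, Nat.cast_one, mul_one, Nat.sub_zero]
    have : ∀ i : Fin l, a ^ ((i : ℕ) + 1) * (-b) ^ (l + 1 - ((i : ℕ) + 1)) * ((l + 1).choose ((i : ℕ) + 1) : ZMod p)
        = row b i * pw a i := fun i => by
      simp only [row, pw, Nat.add_sub_add_right]; ring
    rw [Finset.sum_congr rfl fun i _ => this i]
    ring
  have hpow : ∀ x, f x ^ (l + 1) = x ^ (l + 1) := fun x => by simpa [h0] using hf x 0
  have hneg : ∀ y, (-f y) ^ (l + 1) = (-y) ^ (l + 1) := fun y => by simpa [h0] using hf 0 y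
  have hkey : ∀ x y, ∑ i, row (f y) i * pw (f x) i = ∑ i, row y i * pw x i := fun x y => by
    have := hf x y
    rw [hexp, hexp, hpow, hneg] at this
    exact add_left_cancel this
  let pt : Fin l → ZMod p := fun j => ((j : ℕ) + 1 : ℕ)
  let M : Matrix (Fin l) (Fin l) (ZMod p) := fun j i => row (f (pt j)) i
  let N : Matrix (Fin l) (Fin l) (ZMod p) := fun j i => row (pt j) i
  have hMN : ∀ x, M.mulVec (pw (f x)) = N.mulVec (pw x) := fun x => funext fun j => hkey x (pt j)
  have hchoose : ∀ i : Fin l, ((l + 1).choose ((i : ℕ) + 1) : ZMod p) ≠ 0 := by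
    intro i h
    rw [ZMod.natCast_eq_zero_iff] at h
    have h2 : p ∣ (l + 1).factorial := by
      rw [← Nat.choose_mul_factorial_mul_factorial (show (i : ℕ) + 1 ≤ l + 1 by omega)]
      exact Dvd.dvd.mul_right (Dvd.dvd.mul_right h _) _
    have := hp.dvd_factorial.mp h2
    omega
  -- polynomials vanishing on many points
  have hvan : ∀ (c : Fin l → ZMod p) (S : Finset (ZMod p)), l + 1 ≤ S.card →
      (∀ x ∈ S, ∑ i, c i * x ^ ((i : ℕ) + 1) = 0) → c = 0 := by
    intro c S hS hc
    let P : (ZMod p)[X] := ∑ i : Fin l, C (c i) * X ^ ((i : ℕ) + 1)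
    have hdeg : P.natDegree ≤ l := by
      refine natDegree_sum_le_of_forall_le _ _ fun i _ => ?_
      exact (natDegree_C_mul_X_pow_le _ _).trans (by omega)
    have hP : P = 0 := by
      refine eq_zero_of_natDegree_lt_card_of_eval_eq_zero' P S (fun x hx => ?_) (by omega)
      simpa [P, eval_finset_sum] using hc x hx
    funext i
    have := congrArg (fun Q => coeff Q ((i : ℕ) + 1)) hP
    simpa [P, finset_sum_coeff, coeff_C_mul_X_pow, Fin.val_inj] using this
  have hpt : Function.Injective pt := by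
    intro a b hab
    have h := congrArg ZMod.val hab
    simp only [pt] at h
    rw [ZMod.val_natCast, ZMod.val_natCast, Nat.mod_eq_of_lt (by omega), Nat.mod_eq_of_lt (by omega)] at h
    exact Fin.ext (by omega)
  have hN : ∀ u, Matrix.vecMul u N = 0 → u = 0 := by
    have hdet : N.det ≠ 0 := by
      intro h
      obtain ⟨v, hv, hv'⟩ := Matrix.exists_mulVec_eq_zero_iff.mpr h
      apply hv
      -- coefficients in the reflected order
      let c : Fin l → ZMod p := fun i => ((l + 1).choose ((i.rev : ℕ) + 1) : ZMod p) * v i.rev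
      have hc : c = 0 := by
        refine hvan c (insert 0 (Finset.univ.image fun j => -pt j)) ?_ ?_
        · rw [Finset.card_insert_of_notMem, Finset.card_image_of_injective _ (f := fun j => -pt j) (fun a b h => hpt (neg_injective h)), Finset.card_fin]
          simp only [Finset.mem_image, Finset.mem_univ, true_and, not_exists, neg_eq_zero, pt]
          intro j h
          rw [ZMod.natCast_eq_zero_iff] at h
          have := Nat.le_of_dvd (by omega) h
          omega
        · intro x hx
          rcases Finset.mem_insert.mp hx with rfl | hx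
          · simp
          obtain ⟨j, -, rfl⟩ := Finset.mem_image.mp hx
          have := congrFun hv' j
          simp only [Matrix.mulVec, dotProduct, N, row, Pi.zero_apply] at this
          rw [← this, ← Equiv.sum_comp Fin.revPerm]
          refine Finset.sum_congr rfl fun i _ => ?_
          simp only [c, Fin.revPerm_apply, Fin.rev_rev, Fin.val_rev]
          rw [show l - ((i : ℕ) + 1) + 1 = l - (i : ℕ) by omega, show l - (l - (i : ℕ)) = (i : ℕ) by omega]
          ring
      funext i
      have := congrFun hc i.rev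
      simp only [c, Fin.rev_rev, Pi.zero_apply, mul_eq_zero] at this
      exact this.resolve_left (hchoose i)
    intro u hu
    by_contra h
    exact hdet (Matrix.exists_vecMul_eq_zero_iff.mp ⟨u, h, hu⟩)
  have hM : M.det ≠ 0 := by
    intro h
    obtain ⟨u, hu, hu'⟩ := Matrix.exists_vecMul_eq_zero_iff.mpr h
    refine hu (hN u (hvan _ Finset.univ (by rw [Finset.card_univ, ZMod.card]; omega) fun x _ => ?_))
    show dotProduct (Matrix.vecMul u N) (pw x) = 0
    rw [← Matrix.dotProduct_mulVec, ← hMN, Matrix.dotProduct_mulVec, hu', zero_dotProduct]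
  let L := M⁻¹ * N
  have hL : ∀ x, pw (f x) = L.mulVec (pw x) := fun x => by
    rw [show L = M⁻¹ * N from rfl, ← Matrix.mulVec_mulVec, ← hMN, Matrix.mulVec_mulVec, Matrix.nonsing_inv_mul _ (isUnit_iff_ne_zero.mpr hM), Matrix.one_mulVec]
  let g : Fin l → (ZMod p)[X] := fun i => ∑ j : Fin l, C (L i j) * X ^ ((j : ℕ) + 1)
  have hg : ∀ i x, (g i).eval x = f x ^ ((i : ℕ) + 1) := fun i x => by
    have := congrFun (hL x) i
    simp only [pw, Matrix.mulVec, dotProduct] at this
    simp [g, eval_finset_sum, this]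
  have hgdeg : ∀ i, (g i).natDegree ≤ l := fun i =>
    natDegree_sum_le_of_forall_le _ _ fun j _ => (natDegree_C_mul_X_pow_le _ _).trans (by omega)
  set F := g ⟨0, hl⟩ with hF
  have hFe : ∀ x, F.eval x = f x := fun x => by rw [hF, hg]; simp
  have hd : F.natDegree ≤ 1 := by
    by_contra hd
    push_neg at hd
    set d := F.natDegree with hdd
    have hdl : d ≤ l := hgdeg _
    set i := l / d + 1 with hi
    have h1 : d * (l / d) ≤ l := Nat.mul_div_le l d
    have h2 : l < d * i := by rw [hi]; exact Nat.lt_mul_div_succ l (by omega)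
    have h3 : d * i < p := by rw [hi, Nat.mul_add, mul_one]; omega
    have hil : l / d < l := Nat.div_lt_self hl (by omega)
    have heq : F ^ i - g ⟨l / d, hil⟩ = 0 := by
      refine eq_zero_of_natDegree_lt_card_of_eval_eq_zero' _ Finset.univ (fun x _ => by simp [hFe, hg, hi]) ?_
      rw [Finset.card_univ, ZMod.card]
      refine lt_of_le_of_lt (natDegree_sub_le _ _) (max_lt ?_ (lt_of_le_of_lt (hgdeg _) (by omega)))
      rw [natDegree_pow, ← hdd, mul_comm]; exact h3
    have := congrArg natDegree (sub_eq_zero.mp heq)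
    rw [natDegree_pow, ← hdd, mul_comm] at this
    have := hgdeg ⟨l / d, hil⟩
    omega
  obtain ⟨a, b, hab⟩ := exists_eq_X_add_C_of_natDegree_le_one hd
  have hb : b = 0 := by
    have := hFe 0
    rw [hab, h0] at this
    simpa using this
  intro x
  have h1 := hFe x
  have h2 := hFe 1
  rw [hab, hb] at h1 h2
  simp at h1 h2
  rw [← h1, ← h2]

/-- Closures of subgroups of the one-dimensional affine group. Let p be a prime and G a group of permutations of F_p lying in the affine group AGL₁(p) = {x ↦ ax + b, a ≠ 0} and containing all translations. (1) If G is a proper subgroup of AGL₁(p), then G is 2-closed: a permutation of F_p agreeing on every ordered pair of points with some element of G lies in G. (2) Every permutation of F_p agrees on every ordered pair with some element of AGL₁(p) (the 2-closure of AGL₁(p) is the symmetric group). (3) AGL₁(p) is 3-closed: a permutation agreeing on every ordered triple with some affine map is affine. -/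
theorem result (p : ℕ) [Fact p.Prime] (G : Subgroup (Equiv.Perm (ZMod p))) (hG : G ≤ Cfsg.affineGroup (ZMod p))
    (htrans : ∀ b : ZMod p, ∃ g ∈ G, ∀ x, g x = x + b) :
    (G ≠ Cfsg.affineGroup (ZMod p) → ∀ σ : Equiv.Perm (ZMod p), (∀ t : Fin 2 → ZMod p, ∃ g ∈ G, ∀ i, σ (t i) = g (t i)) → σ ∈ G) ∧
    (∀ σ : Equiv.Perm (ZMod p), (∀ t : Fin 2 → ZMod p, ∃ g ∈ Cfsg.affineGroup (ZMod p), ∀ i, σ (t i) = g (t i))) ∧
    (∀ σ : Equiv.Perm (ZMod p), (∀ t : Fin 3 → ZMod p, ∃ g ∈ Cfsg.affineGroup (ZMod p), ∀ i, σ (t i) = g (t i)) → σ ∈ Cfsg.affineGroup (ZMod p)) := by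
  classical
  have hp := (Fact.out : p.Prime)
  refine ⟨fun hne σ hσ => ?_, fun σ t => ?_, fun σ hσ => ?_⟩
  · let mulP : (ZMod p)ˣ →* Equiv.Perm (ZMod p) := MulAction.toPermHom (ZMod p)ˣ (ZMod p)
    have hmul : ∀ (a : (ZMod p)ˣ) (x : ZMod p), mulP a x = (a : ZMod p) * x := fun a x => rfl
    let H : Subgroup (ZMod p)ˣ := G.comap mulP
    have hmem : ∀ g ∈ G, ∃ a ∈ H, ∃ b : ZMod p, ∀ x, g x = ((a : (ZMod p)ˣ) : ZMod p) * x + b := by
      intro g hg
      obtain ⟨a, b, hab⟩ := hG hg
      obtain ⟨τ, hτ, hτ'⟩ := htrans (-b)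
      refine ⟨a, ?_, b, hab⟩
      have : mulP a = τ * g := by
        ext x
        rw [Equiv.Perm.mul_apply, hτ', hab, hmul, add_neg_cancel_right]
      show mulP a ∈ G
      rw [this]; exact G.mul_mem hτ hg
    have hback : ∀ a ∈ H, ∀ (b : ZMod p) (g : Equiv.Perm (ZMod p)), (∀ x, g x = ((a : (ZMod p)ˣ) : ZMod p) * x + b) → g ∈ G := by
      intro a ha b g hg
      obtain ⟨τ, hτ, hτ'⟩ := htrans b
      have : g = τ * mulP a := by ext x; rw [Equiv.Perm.mul_apply, hτ', hg, hmul]
      rw [this]; exact G.mul_mem hτ ha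
    have hHne : H ≠ ⊤ := by
      intro h
      refine hne (le_antisymm hG fun g hg => ?_)
      obtain ⟨a, b, hab⟩ := hg
      exact hback a (h ▸ Subgroup.mem_top a) b g hab
    set k := Nat.card H
    have hk : 1 ≤ k := Nat.card_pos
    have hkp : 2 * k < p := by
      have h1 : k ∣ p - 1 := by
        have := H.card_subgroup_dvd_card
        rwa [Nat.card_eq_fintype_card (α := (ZMod p)ˣ), ZMod.card_units] at this
      have h2 : k ≠ p - 1 := fun h => hHne (Subgroup.eq_top_of_card_eq H (by
        rw [Nat.card_eq_fintype_card (α := (ZMod p)ˣ), ZMod.card_units]; exact h))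
      obtain ⟨e, he⟩ := h1
      rcases (show e = 0 ∨ e = 1 ∨ 2 ≤ e by omega) with rfl | rfl | h
      · have := hp.two_le; omega
      · omega
      · have : k * 2 ≤ k * e := Nat.mul_le_mul_left k h
        have := hp.two_le
        omega
    have hHk : ∀ a ∈ H, ((a : (ZMod p)ˣ) : ZMod p) ^ k = 1 := fun a ha => by
      rw [← Units.val_pow_eq_pow_val, orderOf_dvd_iff_pow_eq_one.mp (Subgroup.orderOf_dvd_natCard H ha), Units.val_one]
    have hdiff : ∀ x y, (σ x - σ y) ^ k = (x - y) ^ k := by
      intro x y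
      obtain ⟨g, hg, hgt⟩ := hσ ![x, y]
      obtain ⟨a, ha, b, hab⟩ := hmem g hg
      have e1 := hgt 0
      have e2 := hgt 1
      simp at e1 e2
      rw [e1, e2, hab, hab, add_sub_add_right_eq_sub, ← mul_sub, mul_pow, hHk a ha, one_mul]
    have hlin := carlitz p k hk hkp (fun x => σ x - σ 0) (sub_self _) (fun x y => by
      rw [sub_sub_sub_cancel_right]; exact hdiff x y)
    obtain ⟨g, hg, hgt⟩ := hσ ![1, 0]
    obtain ⟨a, ha, b, hab⟩ := hmem g hg
    have e1 := hgt 0
    have e2 := hgt 1
    simp at e1 e2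
    refine hback a ha b σ fun x => ?_
    have h3 : σ x - σ 0 = (σ 1 - σ 0) * x := hlin x
    rw [e1, e2, hab, hab, mul_zero, zero_add, mul_one, add_sub_cancel_right] at h3
    exact eq_add_of_sub_eq h3
  · by_cases h : t 0 = t 1
    · refine ⟨Equiv.addRight (σ (t 0) - t 0), ⟨1, σ (t 0) - t 0, fun x => by simp⟩, fun i => ?_⟩
      fin_cases i <;> simp [← h]
    · have hc : (σ (t 0) - σ (t 1)) / (t 0 - t 1) ≠ 0 :=
        div_ne_zero (sub_ne_zero.mpr fun e => h (σ.injective e)) (sub_ne_zero.mpr h)
      set c := (σ (t 0) - σ (t 1)) / (t 0 - t 1) with hcdef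
      refine ⟨(Equiv.mulLeft₀ c hc).trans (Equiv.addRight (σ (t 1) - c * t 1)),
        ⟨Units.mk0 c hc, σ (t 1) - c * t 1, fun x => by simp⟩, fun i => ?_⟩
      have hsub : t 0 - t 1 ≠ 0 := sub_ne_zero.mpr h
      fin_cases i
      · simp only [Equiv.trans_apply, Equiv.mulLeft₀_apply, Equiv.coe_addRight]
        show σ (t 0) = c * t 0 + (σ (t 1) - c * t 1)
        have : c * (t 0 - t 1) = σ (t 0) - σ (t 1) := by rw [hcdef, div_mul_cancel₀ _ hsub]
        linear_combination -this
      · show σ (t 1) = c * t 1 + (σ (t 1) - c * t 1)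
        ring
  · obtain ⟨g₀, hg₀, hg₀t⟩ := hσ ![0, 1, 1]
    obtain ⟨a, b, hab⟩ := hg₀
    refine ⟨a, b, fun x => ?_⟩
    obtain ⟨g, hg, hgt⟩ := hσ ![0, 1, x]
    obtain ⟨c, d, hcd⟩ := hg
    have e0 := hgt 0
    have e1 := hgt 1
    have e2 := hgt 2
    have f0 := hg₀t 0
    have f1 := hg₀t 1
    simp [hcd] at e0 e1 e2
    simp [hab] at f0 f1
    rw [e0] at f0
    rw [e1] at f1
    rw [e2]
    subst f0
    rw [add_right_cancel f1]

end Cfsg.Agent.S3518
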