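import Cfsg.Statements.S3520
import Mathlib
import Cfsg.Agent.Lib.Recog.MinimalNormal
import Cfsg.Agent.S0144
-- import your own Cfsg.Agent.* helpers here

set_option autoImplicit false
open Cfsg

namespace Cfsg.Agent.S3520

/-- Jordan: a subgroup meeting every conjugacy class is everything. -/
theorem eq_top_of_forall_conj {T : Type*} [Group T] [Finite T] (S : Subgroup T)
    (h : ∀ t : T, ∃ g : T, g * t * g⁻¹ ∈ S) : S = ⊤ := by
  classical
  haveI := Fintype.ofFinite T
  haveI : Fintype (T ⧸ S) := Fintype.ofFinite _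
  haveI : Fintype (Quotient (MulAction.orbitRel T (T ⧸ S))) := Fintype.ofFinite _
  have hB := MulAction.sum_card_fixedBy_eq_card_orbits_mul_card_group T (T ⧸ S)
  have hone : Fintype.card (Quotient (MulAction.orbitRel T (T ⧸ S))) ≤ 1 :=
    Fintype.card_le_one_iff.mpr fun x y => by
      refine Quotient.inductionOn₂ x y fun a b => Quotient.sound ?_
      exact MulAction.mem_orbit_iff.mpr (MulAction.exists_smul_eq T b a)
  have hge : ∀ t : T, 1 ≤ Fintype.card (MulAction.fixedBy (T ⧸ S) t) := by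
    intro t
    obtain ⟨g, hg⟩ := h t
    refine Fintype.card_pos_iff.mpr ⟨⟨((g⁻¹ : T) : T ⧸ S), ?_⟩⟩
    show t • ((g⁻¹ : T) : T ⧸ S) = ((g⁻¹ : T) : T ⧸ S)
    rw [MulAction.Quotient.smul_coe]
    refine QuotientGroup.eq.mpr ?_
    have := S.inv_mem hg
    simpa [mul_assoc] using this
  by_contra hS
  have hidx : 1 < S.index := by
    have h0 := S.index_ne_zero_of_finite
    have h1 := mt Subgroup.index_eq_one.mp hS
    omega
  have h1 : 1 < Fintype.card (MulAction.fixedBy (T ⧸ S) (1 : T)) := by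
    rw [Fintype.card_congr (Equiv.subtypeUnivEquiv fun x => by simp [MulAction.mem_fixedBy]), ← Nat.card_eq_fintype_card]
    exact hidx
  have hlt : ∑ _t : T, 1 < ∑ t : T, Fintype.card (MulAction.fixedBy (T ⧸ S) t) :=
    Finset.sum_lt_sum (fun t _ => hge t) ⟨1, Finset.mem_univ _, h1⟩
  rw [hB, Finset.sum_const, Finset.card_univ, smul_eq_mul, mul_one] at hlt
  nlinarith

/-- Lying in a simple normal subgroup. -/
def InFactor {Q : Type*} [Group Q] (x : Q) : Prop :=
  ∃ S : Subgroup Q, S.Normal ∧ IsSimpleGroup S ∧ x ∈ S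

theorem inFactor_map {Q : Type*} [Group Q] (ψ : Q ≃* Q) {x : Q} (h : InFactor x) : InFactor (ψ x) := by
  obtain ⟨S, hS, hs, hx⟩ := h
  haveI := hs
  exact ⟨S.map ψ.toMonoidHom, hS.map _ ψ.surjective,
    MulEquiv.isSimpleGroup (ψ.subgroupMap S).symm, x, hx, rfl⟩

theorem inFactor_iff {Q : Type*} [Group Q] (ψ : Q ≃* Q) {x : Q} : InFactor (ψ x) ↔ InFactor x :=
  ⟨fun h => by simpa using inFactor_map ψ.symm h, inFactor_map ψ⟩

theorem center_bot {T : Type*} [Group T] [IsSimpleGroup T] (hT : ¬ IsMulCommutative T) (a : T) (ha : a ≠ 1) :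
    ∃ t : T, t * a * t⁻¹ * a⁻¹ ≠ 1 := by
  by_contra h
  push Not at h
  have hc : a ∈ Subgroup.center T := Subgroup.mem_center_iff.mpr fun t => by
    have := h t
    rw [mul_inv_eq_one, mul_inv_eq_iff_eq_mul] at this
    exact this
  rcases (inferInstance : (Subgroup.center T).Normal).eq_bot_or_eq_top with e | e
  · exact ha (Subgroup.mem_bot.mp (e ▸ hc))
  · exact hT ⟨⟨fun u v => (Subgroup.mem_center_iff.mp (e ▸ Subgroup.mem_top v) u)⟩⟩

/-- In a power of a nonabelian simple group the simple normal subgroups are the factors. -/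
theorem inFactor_pi_iff {T : Type*} [Group T] [IsSimpleGroup T] (hT : ¬ IsMulCommutative T) {k : ℕ}
    (x : Fin k → T) (i0 : Fin k) : InFactor x ↔ ∃ i : Fin k, ∀ l, l ≠ i → x l = 1 := by
  constructor
  · rintro ⟨S, hSn, hSs, hx⟩
    haveI := hSs
    by_contra h
    push Not at h
    obtain ⟨l, -, hl⟩ := h i0
    obtain ⟨j, hjl, hj⟩ := h l
    obtain ⟨t, ht⟩ := center_bot hT (x l) hl
    have hc : Pi.mulSingle l t * x * (Pi.mulSingle l t)⁻¹ * x⁻¹ ∈ S :=
      S.mul_mem (hSn.conj_mem x hx _) (S.inv_mem hx)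
    let U : Subgroup S := ((MonoidHom.mulSingle (fun _ : Fin k => T) l).range).subgroupOf S
    haveI hUn : U.Normal := ⟨fun u hu s => by
      obtain ⟨a, ha⟩ := hu
      refine ⟨(s : Fin k → T) l * a * ((s : Fin k → T) l)⁻¹, ?_⟩
      have ha' : Pi.mulSingle l a = (u : Fin k → T) := ha
      show Pi.mulSingle l _ = ((s * u * s⁻¹ : S) : Fin k → T)
      rw [Subgroup.coe_mul, Subgroup.coe_mul, Subgroup.coe_inv, ← ha']
      funext m
      by_cases hm : m = l
      · subst hm; simp
      · simp [Pi.mulSingle_eq_of_ne hm]⟩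
    have hcU : (⟨_, hc⟩ : S) ∈ U := by
      refine ⟨t * x l * t⁻¹ * (x l)⁻¹, ?_⟩
      show Pi.mulSingle l _ = Pi.mulSingle l t * x * (Pi.mulSingle l t)⁻¹ * x⁻¹
      funext m
      by_cases hm : m = l
      · subst hm; simp
      · simp [Pi.mulSingle_eq_of_ne hm]
    rcases hUn.eq_bot_or_eq_top with e | e
    · rw [e, Subgroup.mem_bot] at hcU
      have := congrFun (congrArg Subtype.val hcU) l
      simp at this
      exact ht (by simpa [mul_assoc] using this)
    · obtain ⟨a, ha⟩ := (e ▸ Subgroup.mem_top (⟨x, hx⟩ : S) : (⟨x, hx⟩ : S) ∈ U)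
      have ha' : Pi.mulSingle l a = x := ha
      exact hj (by rw [← ha']; exact Pi.mulSingle_eq_of_ne hjl _)
  · rintro ⟨i, hi⟩
    refine ⟨(MonoidHom.mulSingle (fun _ : Fin k => T) i).range, ⟨?_⟩, ?_, x i, ?_⟩
    · rintro _ ⟨a, rfl⟩ g
      refine ⟨g i * a * (g i)⁻¹, ?_⟩
      show Pi.mulSingle i _ = g * Pi.mulSingle i a * g⁻¹
      funext m
      by_cases hm : m = i
      · subst hm; simp
      · simp [Pi.mulSingle_eq_of_ne hm]
    · exact MulEquiv.isSimpleGroup (MonoidHom.ofInjective (Pi.mulSingle_injective (M := fun _ : Fin k => T) i)).symm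
    · show Pi.mulSingle i (x i) = x
      funext m
      by_cases hm : m = i
      · subst hm; simp
      · simp [Pi.mulSingle_eq_of_ne hm, hi m hm]

theorem three_orders {T : Type*} [Group T] [Finite T] [IsSimpleGroup T] (hT : ¬ IsMulCommutative T) :
    ∃ f : Fin 3 → T, (∀ n, f n ≠ 1) ∧ (∀ n, (orderOf (f n)).Prime) ∧ Function.Injective fun n => orderOf (f n) := by
  classical
  have h3 : 3 ≤ (Nat.card T).primeFactors.card := by
    by_contra h
    push Not at h
    have hsol : Group.IsSolvable T := by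
      have hf := Nat.prod_factorization_pow_eq_self (n := Nat.card T) Nat.card_pos.ne'
      rw [Finsupp.prod, Nat.support_factorization] at hf
      rcases Nat.lt_succ_iff.mp h |>.lt_or_eq with h1 | h1
      · rcases Nat.lt_succ_iff.mp h1 |>.lt_or_eq with h0 | h0
        · rw [Finset.card_eq_zero.mp (Nat.lt_one_iff.mp h0), Finset.prod_empty] at hf
          exact Cfsg.Agent.S0144.result 2 3 0 0 Nat.prime_two Nat.prime_three (by simp [← hf])
        · obtain ⟨p, hp⟩ := Finset.card_eq_one.mp h0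
          rw [hp, Finset.prod_singleton] at hf
          exact Cfsg.Agent.S0144.result p p ((Nat.card T).factorization p) 0
            (Nat.prime_of_mem_primeFactors (hp ▸ Finset.mem_singleton_self p))
            (Nat.prime_of_mem_primeFactors (hp ▸ Finset.mem_singleton_self p)) (by rw [pow_zero, mul_one]; exact hf.symm)
      · obtain ⟨p, q, hpq, hp⟩ := Finset.card_eq_two.mp h1
        rw [hp, Finset.prod_pair hpq] at hf
        exact Cfsg.Agent.S0144.result p q _ _ (Nat.prime_of_mem_primeFactors (hp ▸ Finset.mem_insert_self p _))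
          (Nat.prime_of_mem_primeFactors (hp ▸ Finset.mem_insert_of_mem (Finset.mem_singleton_self q))) hf.symm
    haveI := hsol
    have hlt : commutator T < ⊤ := Group.IsSolvable.commutator_lt_top_of_nontrivial T
    rcases (inferInstance : (commutator T).Normal).eq_bot_or_eq_top with e | e
    · refine hT ⟨⟨fun u v => commutatorElement_eq_one_iff_mul_comm.mp (Subgroup.mem_bot.mp (e ▸ ?_))⟩⟩
      rw [commutator_def]
      exact Subgroup.commutator_mem_commutator (Subgroup.mem_top u) (Subgroup.mem_top v)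
    · exact hlt.ne e
  obtain ⟨P, hP, hPc⟩ := Finset.exists_subset_card_eq h3
  let eP : Fin 3 ≃ P := (P.equivFinOfCardEq hPc).symm
  have get : ∀ n : Fin 3, ∃ a : T, orderOf a = (eP n : ℕ) ∧ (eP n : ℕ).Prime := fun n => by
    obtain ⟨h1, h2, -⟩ := Nat.mem_primeFactors.mp (hP (eP n).2)
    haveI := Fact.mk h1
    obtain ⟨a, ha⟩ := exists_prime_orderOf_dvd_card' (G := T) (eP n : ℕ) h2
    exact ⟨a, ha, h1⟩
  choose f hf hfp using get
  refine ⟨f, fun n h => ?_, fun n => hf n ▸ hfp n, fun n m h => eP.injective (Subtype.ext (by rwa [← hf, ← hf]))⟩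
  have := hf n
  rw [h, orderOf_one] at this
  exact (hfp n).one_lt.ne this

/-- A proper subgroup of a power of a simple group misses three classes. -/
theorem power_three {T : Type*} [Group T] [Finite T] [IsSimpleGroup T] (hT : ¬ IsMulCommutative T) {k : ℕ}
    (hk : 2 ≤ k) (S : Subgroup (Fin k → T)) (hS : S ≠ ⊤) :
    ∃ x : Fin 3 → (Fin k → T), (∀ n, ∀ g : Fin k → T, g * x n * g⁻¹ ∉ S) ∧
      ∀ (ψ : (Fin k → T) ≃* (Fin k → T)) n m, ψ (x n) = x m → n = m := by
  obtain ⟨i, t0, ht0⟩ : ∃ i, ∃ t : T, Pi.mulSingle i t ∉ S := by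
    by_contra h
    push Not at h
    exact hS ((Subgroup.eq_top_iff' S).mpr fun x => Subgroup.pi_mem_of_mulSingle_mem x fun i => h i (x i))
  obtain ⟨f, hf1, hfp, hfi⟩ := three_orders hT
  have hi0 : Fin k := ⟨0, by omega⟩
  by_cases hproj : S.map (Pi.evalMonoidHom (fun _ => T) i) = ⊤
  · let U : Subgroup T := S.comap (MonoidHom.mulSingle (fun _ : Fin k => T) i)
    haveI hUn : U.Normal := ⟨fun u hu t => by
      obtain ⟨s, hs, hst⟩ := (hproj ▸ Subgroup.mem_top t : t ∈ S.map (Pi.evalMonoidHom (fun _ => T) i))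
      have hst' : s i = t := hst
      have hm : s * Pi.mulSingle i u * s⁻¹ ∈ S := S.mul_mem (S.mul_mem hs hu) (S.inv_mem hs)
      show Pi.mulSingle i (t * u * t⁻¹) ∈ S
      convert hm using 1
      funext l
      by_cases hl : l = i
      · subst hl; simp [hst']
      · simp [Pi.mulSingle_eq_of_ne hl]⟩
    have hU : U = ⊥ := hUn.eq_bot_or_eq_top.resolve_right fun e =>
      ht0 (e ▸ Subgroup.mem_top t0 : t0 ∈ U)
    have hord : ∀ y : T, orderOf (Pi.mulSingle i y : Fin k → T) = orderOf y := fun y =>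
      orderOf_injective (MonoidHom.mulSingle (fun _ : Fin k => T) i) (Pi.mulSingle_injective (M := fun _ : Fin k => T) i) y
    refine ⟨fun n => Pi.mulSingle i (f n), fun n g hg => ?_, fun ψ n m h => ?_⟩
    · have : g i * (f n) * (g i)⁻¹ ∈ U := by
        show Pi.mulSingle i (g i * (f n) * (g i)⁻¹) ∈ S
        convert hg using 1
        funext l
        by_cases hl : l = i
        · subst hl; simp
        · simp [Pi.mulSingle_eq_of_ne hl]
      rw [hU, Subgroup.mem_bot, mul_inv_eq_one, mul_eq_left] at this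
      exact hf1 n this
    · have := congrArg orderOf h
      rw [MulEquiv.orderOf_eq, hord, hord] at this
      exact hfi this
  · obtain ⟨x1, hx1⟩ : ∃ x1 : T, ∀ g : T, g * x1 * g⁻¹ ∉ S.map (Pi.evalMonoidHom (fun _ => T) i) := by
      by_contra h
      push Not at h
      exact hproj (eq_top_of_forall_conj _ h)
    have hx11 : x1 ≠ 1 := fun e => hx1 1 (by simp [e])
    haveI : Nontrivial (Fin k) := Fin.nontrivial_iff_two_le.mpr hk
    obtain ⟨j, hji⟩ := exists_ne i
    let z : T → (Fin k → T) := fun y => Function.update (Pi.mulSingle j y) i x1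
    have hzi : ∀ y, z y i = x1 := fun y => Function.update_self ..
    have hzj : ∀ y, z y j = y := fun y => by simp [z, Function.update_of_ne hji]
    have hzo : ∀ y l, l ≠ i → l ≠ j → z y l = 1 := fun y l h1 h2 => by
      simp [z, Function.update_of_ne h1, Pi.mulSingle_eq_of_ne h2]
    have hfac : ∀ y (n : ℕ), InFactor (z y ^ n) ↔ orderOf x1 ∣ n ∨ orderOf y ∣ n := by
      intro y n
      rw [inFactor_pi_iff hT _ i, orderOf_dvd_iff_pow_eq_one, orderOf_dvd_iff_pow_eq_one]
      constructor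
      · rintro ⟨l, hl⟩
        by_cases hli : l = i
        · right
          have := hl j (by rw [hli]; exact hji)
          rwa [Pi.pow_apply, hzj] at this
        · left
          have := hl i (Ne.symm hli)
          rwa [Pi.pow_apply, hzi] at this
      · rintro (h | h)
        · refine ⟨j, fun l hl => ?_⟩
          by_cases hli : l = i
          · rw [hli, Pi.pow_apply, hzi, h]
          · rw [Pi.pow_apply, hzo y l hli hl, one_pow]
        · refine ⟨i, fun l hl => ?_⟩
          by_cases hlj : l = j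
          · rw [hlj, Pi.pow_apply, hzj, h]
          · rw [Pi.pow_apply, hzo y l hl hlj, one_pow]
    let y : Fin 3 → T := fun n => if n = 0 then 1 else f n
    refine ⟨fun n => z (y n), fun n g hg => ?_, fun ψ n m h => ?_⟩
    · exact hx1 (g i) ⟨_, hg, by simp [hzi]⟩
    · have hiff : ∀ e : ℕ, (orderOf x1 ∣ e ∨ orderOf (y n) ∣ e) ↔ (orderOf x1 ∣ e ∨ orderOf (y m) ∣ e) := fun e => by
        rw [← hfac, ← hfac, ← inFactor_iff ψ, map_pow]
        exact iff_of_eq (congrArg (fun w => InFactor (w ^ e)) h)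
      have hx0 : ¬ orderOf x1 ∣ 1 := by simpa using hx11
      have hyo : ∀ l, l ≠ 0 → orderOf (y l) = orderOf (f l) := fun l hl => by simp [y, hl]
      have hy1 : ∀ l, orderOf (y l) ∣ 1 → l = 0 := fun l hl => by
        by_contra hl0
        rw [hyo l hl0, Nat.dvd_one] at hl
        exact (hfp l).one_lt.ne hl.symm
      by_cases hn : n = 0
      · subst hn
        exact (((hiff 1).mp (Or.inr (by simp [y]))).resolve_left hx0 |> hy1 m).symm
      by_cases hm : m = 0
      · subst hm
        exact absurd (((hiff 1).mpr (Or.inr (by simp [y]))).resolve_left hx0 |> hy1 n) hn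
      by_contra hnm
      have hnd : ∀ l l', l ≠ 0 → l' ≠ 0 → orderOf (y l) ∣ orderOf (y l') → l = l' := fun l l' h1 h2 h3 => by
        rw [hyo l h1, hyo l' h2] at h3
        exact hfi ((Nat.prime_dvd_prime_iff_eq (hfp l) (hfp l')).mp h3)
      have h1 := ((hiff (orderOf (y n))).mp (Or.inr dvd_rfl)).resolve_right fun e => hnm (hnd m n hm hn e).symm
      have h2 := ((hiff (orderOf (y m))).mpr (Or.inr dvd_rfl)).resolve_right fun e => hnm (hnd n m hn hm e)
      refine hx0 ?_
      have := Nat.dvd_gcd h1 h2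
      rwa [hyo n hn, hyo m hm, (Nat.coprime_primes (hfp n) (hfp m)).mpr fun e => hnm (hfi e)] at this

set_option maxHeartbeats 1000000 in
/-- Let a finite group G act faithfully and primitively on a finite set Ω with at least two points, suppose G is not almost simple (no non-abelian simple normal subgroup with trivial centralizer), and suppose the derangements of G form exactly two conjugacy classes. Then either Ω has 3 points and G has order 3; or G has a non-trivial abelian normal subgroup N acting regularly, every non-identity element of G fixes at most one point (so, when n > 3, G is a Frobenius group with kernel N), the number n of points is odd and a point stabilizer has order (n − 1)/2; or G is 2-transitive with a non-trivial abelian regular normal subgroup and some non-identity element fixes at least two points (a non-Frobenius 2-transitive affine group). -/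
theorem result {G : Type*} [Group G] [Finite G] {Ω : Type*} [Fintype Ω] [MulAction G Ω] [FaithfulSMul G Ω] (hΩ : 2 ≤ Fintype.card Ω) (hprim : MulAction.IsPreprimitive G Ω) (hnas : ¬ ∃ T : Subgroup G, T.Normal ∧ IsSimpleGroup T ∧ ¬ IsMulCommutative T ∧ Subgroup.centralizer (T : Set G) = ⊥)
    (hκ : Nat.card {c : ConjClasses G // ∃ g : G, ConjClasses.mk g = c ∧ ∀ ω : Ω, g • ω ≠ ω} = 2) (α : Ω) :
    (Fintype.card Ω = 3 ∧ Nat.card G = 3) ∨
    ((∃ N : Subgroup G, N.Normal ∧ N ≠ ⊥ ∧ IsMulCommutative N ∧ ∀ ω : Ω, MulAction.stabilizer N ω = ⊥) ∧ (∀ g : G, g ≠ 1 → Nat.card (MulAction.fixedBy Ω g) ≤ 1) ∧ ¬ 2 ∣ Fintype.card Ω ∧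
        2 * Nat.card (MulAction.stabilizer G α) = Fintype.card Ω - 1) ∨
    ((∃ N : Subgroup G, N.Normal ∧ N ≠ ⊥ ∧ IsMulCommutative N ∧ ∀ ω : Ω, MulAction.stabilizer N ω = ⊥) ∧ MulAction.IsMultiplyPretransitive G Ω 2 ∧ ∃ g : G, g ≠ 1 ∧ 2 ≤ Nat.card (MulAction.fixedBy Ω g)) := by
  classical
  haveI := hprim
  have hΩ' : 1 < Nat.card Ω := by rw [Nat.card_eq_fintype_card]; omega
  haveI hne : Nontrivial Ω := Finite.one_lt_card_iff_nontrivial.mp hΩ'
  haveI : Nontrivial G := by
    by_contra h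
    rw [not_nontrivial_iff_subsingleton] at h
    obtain ⟨b, hb⟩ := exists_ne α
    obtain ⟨g, hg⟩ := MulAction.exists_smul_eq G α b
    exact hb (by rw [← hg, Subsingleton.elim g 1, one_smul])
  obtain ⟨M, ⟨hMn, hMb⟩, hmin⟩ := wellFounded_lt.has_min {V : Subgroup G | V.Normal ∧ V ≠ ⊥}
    ⟨⊤, inferInstance, top_ne_bot⟩
  haveI : M.Normal := hMn
  have hmin' : ∀ K : Subgroup G, K.Normal → K ≤ M → K = ⊥ ∨ K = M := fun K hK hKM =>
    or_iff_not_imp_left.mpr fun hKb => by
      by_contra h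
      exact hmin K ⟨hK, hKb⟩ (lt_of_le_of_ne hKM h)
  have htr : ∀ K : Subgroup G, K.Normal → K ≠ ⊥ → MulAction.IsPretransitive K Ω := by
    intro K hK hKb
    haveI := hK
    refine MulAction.IsQuasiPreprimitive.isPretransitive_of_normal fun h => hKb ?_
    rw [Subgroup.eq_bot_iff_forall]
    intro x hx
    refine eq_of_smul_eq_smul (α := Ω) fun b => ?_
    rw [one_smul]
    exact (h ▸ Set.mem_univ b : b ∈ MulAction.fixedPoints K Ω) ⟨x, hx⟩
  have hsemi : ∀ K : Subgroup G, MulAction.IsPretransitive K Ω → ∀ c : G, (∀ x ∈ K, x * c = c * x) →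
      ∀ b : Ω, c • b = b → c = 1 := by
    intro K hK c hc b hb
    refine eq_of_smul_eq_smul (α := Ω) fun d => ?_
    obtain ⟨x, hx⟩ := MulAction.exists_smul_eq K b d
    have hx' : (x : G) • b = d := hx
    rw [one_smul, ← hx', ← mul_smul, ← hc x x.2, mul_smul, hb]
  have hMt := htr M hMn hMb
  set D := {c : ConjClasses G // ∃ g : G, ConjClasses.mk g = c ∧ ∀ ω : Ω, g • ω ≠ ω} with hD
  let cls : ∀ g : G, (∀ ω : Ω, g • ω ≠ ω) → D := fun g hg => ⟨ConjClasses.mk g, g, rfl, hg⟩
  have hcls : ∀ g hg g' hg', cls g hg = cls g' hg' → IsConj g g' := fun g hg g' hg' h =>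
    ConjClasses.mk_eq_mk_iff_isConj.mp (congrArg Subtype.val h)
  have three : ∀ x : Fin 3 → G, (∀ n, ∀ ω : Ω, x n • ω ≠ ω) → (∀ n m, IsConj (x n) (x m) → n = m) → False := by
    intro x h1 h2
    have := Nat.card_le_card_of_injective (fun n => cls (x n) (h1 n)) fun n m h => h2 n m (hcls _ (h1 n) _ (h1 m) h)
    rw [Nat.card_fin, hκ] at this
    omega
  by_cases hab : IsMulCommutative M
  swap
  · exfalso
    obtain ⟨T, k, hk, hTs, hTna, ⟨e⟩⟩ := Cfsg.Agent.MinNormal.exists_power M hMb hmin' hab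
    haveI := hTs
    set C := Subgroup.centralizer (M : Set G) with hC
    by_cases hCb : C = ⊥
    swap
    · have hCt := htr C inferInstance hCb
      obtain ⟨f, hf1, -, hfi⟩ := three_orders hTna
      let y : Fin 3 → G := fun n => (e (Pi.mulSingle ⟨0, hk⟩ (f n)) : G)
      have ho : ∀ n, orderOf (y n) = orderOf (f n) := fun n => by
        show orderOf ((e _ : M) : G) = _
        rw [Subgroup.orderOf_coe, MulEquiv.orderOf_eq]
        exact orderOf_injective (MonoidHom.mulSingle (fun _ : Fin k => T) _) (Pi.mulSingle_injective (M := fun _ : Fin k => T) _) _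
      refine three y (fun n ω h => ?_) fun n m h => ?_
      · have h1 : y n = 1 := hsemi C hCt (y n) (fun x hx => (Subgroup.mem_centralizer_iff.mp hx _ (e _).2).symm) ω h
        have := ho n
        rw [h1, orderOf_one, eq_comm, orderOf_eq_one_iff] at this
        exact hf1 n this
      · obtain ⟨g, hg⟩ := isConj_iff.mp h
        have := congrArg orderOf hg
        rw [← MulAut.conj_apply, MulEquiv.orderOf_eq, ho, ho] at this
        exact hfi this
    have hk2 : 2 ≤ k := by
      by_contra h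
      obtain rfl : k = 1 := by omega
      let e' : T ≃* M := (MulEquiv.funUnique (Fin 1) T).symm.trans e
      exact hnas ⟨M, hMn, MulEquiv.isSimpleGroup e'.symm, hab, hCb⟩
    let S : Subgroup (Fin k → T) := (MulAction.stabilizer M α).comap e.toMonoidHom
    have hS : S ≠ ⊤ := by
      intro hS
      obtain ⟨b, hb⟩ := exists_ne α
      obtain ⟨m, hm⟩ := MulAction.exists_smul_eq M α b
      have : e.symm m ∈ S := hS ▸ Subgroup.mem_top _
      have h' : e (e.symm m) • α = α := this
      rw [e.apply_symm_apply, hm] at h'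
      exact hb h'
    obtain ⟨x, hx, hxc⟩ := power_three hTna hk2 S hS
    refine three (fun n => (e (x n) : G)) (fun n ω h => ?_) fun n m h => ?_
    · obtain ⟨u, hu⟩ := MulAction.exists_smul_eq M α ω
      refine hx n (e.symm u⁻¹) ?_
      show e (e.symm u⁻¹ * x n * (e.symm u⁻¹)⁻¹) • α = α
      rw [map_mul, map_mul, map_inv e (e.symm u⁻¹), e.apply_symm_apply, inv_inv, mul_smul, mul_smul, hu,
        show e (x n) • ω = ω from h, ← hu, inv_smul_smul]
    · obtain ⟨g, hg⟩ := isConj_iff.mp h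
      let ψ : (Fin k → T) ≃* (Fin k → T) := (e.trans (MulAut.conjNormal g)).trans e.symm
      refine hxc ψ n m ?_
      show e.symm (MulAut.conjNormal g (e (x n))) = x m
      rw [e.symm_apply_eq]
      exact Subtype.ext (by rw [MulAut.conjNormal_apply]; exact hg)
  have hMc : ∀ x ∈ M, ∀ y ∈ M, x * y = y * x := fun x hx y hy =>
    congrArg Subtype.val (hab.is_comm.comm ⟨x, hx⟩ ⟨y, hy⟩)
  have hMs : ∀ x ∈ M, x ≠ 1 → ∀ ω : Ω, x • ω ≠ ω := fun x hx hx1 ω h =>
    hx1 (hsemi M hMt x (fun y hy => hMc y hy x hx) ω h)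
  have hN : ∃ N : Subgroup G, N.Normal ∧ N ≠ ⊥ ∧ IsMulCommutative N ∧ ∀ ω : Ω, MulAction.stabilizer N ω = ⊥ :=
    ⟨M, hMn, hMb, hab, fun ω => (Subgroup.eq_bot_iff_forall _).mpr fun x hx => by
      by_contra h
      exact hMs x x.2 (fun e => h (Subtype.ext e)) ω hx⟩
  have hpt : ∀ ω : Ω, ∃ w ∈ M, w • α = ω := fun ω => by
    obtain ⟨w, hw⟩ := MulAction.exists_smul_eq M α ω
    exact ⟨w, w.2, hw⟩
  have hinj : ∀ u ∈ M, ∀ v ∈ M, u • α = v • α → u = v := fun u hu v hv h => by
    by_contra huv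
    exact hMs _ (M.mul_mem (M.inv_mem hv) hu) (fun e => huv (inv_mul_eq_one.mp e).symm) α
      (by rw [mul_smul, h, inv_smul_smul])
  set H := MulAction.stabilizer G α with hH
  -- conjugacy inside M is given by the stabilizer
  have hHconj : ∀ u ∈ M, ∀ v : G, IsConj u v → ∃ h ∈ H, h * u * h⁻¹ = v := by
    intro u hu v h
    obtain ⟨g, hg⟩ := isConj_iff.mp h
    obtain ⟨w, hw, hwg⟩ := hpt (g⁻¹ • α)
    refine ⟨g * w, ?_, ?_⟩
    · show (g * w) • α = α
      rw [mul_smul, hwg, smul_inv_smul]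
    · rw [show g * w * u * (g * w)⁻¹ = g * (w * u * w⁻¹) * g⁻¹ by group, hMc w hw u hu, mul_inv_cancel_right, hg]
  obtain ⟨u, hu, hu1⟩ : ∃ u ∈ M, u ≠ 1 := (Subgroup.ne_bot_iff_exists_ne_one.mp hMb).elim fun x hx =>
    ⟨x, x.2, fun e => hx (Subtype.ext e)⟩
  by_cases hone : ∀ v ∈ M, v ≠ 1 → IsConj u v
  · right; right
    have hHtr : ∀ b c : Ω, b ≠ α → c ≠ α → ∃ h ∈ H, h • b = c := by
      intro b c hb hc
      obtain ⟨v, hv, rfl⟩ := hpt b
      obtain ⟨w, hw, rfl⟩ := hpt c
      obtain ⟨h, hh, e⟩ := hHconj v hv w ((hone v hv fun e => hb (by rw [e, one_smul])).symm.trans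
        (hone w hw fun e => hc (by rw [e, one_smul])))
      refine ⟨h, hh, ?_⟩
      rw [← e, mul_smul, mul_smul, show h⁻¹ • α = α from H.inv_mem hh]
    have h2t : MulAction.IsMultiplyPretransitive G Ω 2 := by
      rw [MulAction.is_two_pretransitive_iff]
      intro a b c d hab' hcd
      obtain ⟨g₁, hg₁⟩ := MulAction.exists_smul_eq G a α
      obtain ⟨g₂, hg₂⟩ := MulAction.exists_smul_eq G c α
      obtain ⟨h, hh, e⟩ := hHtr (g₁ • b) (g₂ • d) (fun e => hab' (smul_left_cancel g₁ (hg₁.trans e.symm)))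
        (fun e => hcd (smul_left_cancel g₂ (hg₂.trans e.symm)))
      refine ⟨g₂⁻¹ * h * g₁, ?_, ?_⟩
      · rw [mul_smul, mul_smul, hg₁, show h • α = α from hh, ← hg₂, inv_smul_smul]
      · rw [mul_smul, mul_smul, e, inv_smul_smul]
    refine ⟨hN, h2t, ?_⟩
    by_contra hno
    push Not at hno
    -- all derangements lie in M
    haveI := Fintype.ofFinite G
    haveI : MulAction.IsPretransitive G Ω := hprim.toIsPretransitive
    haveI : Fintype (Quotient (MulAction.orbitRel G Ω)) := Fintype.ofFinite _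
    have hB := MulAction.sum_card_fixedBy_eq_card_orbits_mul_card_group G Ω
    have hq : Fintype.card (Quotient (MulAction.orbitRel G Ω)) = 1 := by
      refine Fintype.card_eq_one_iff.mpr ⟨Quotient.mk'' α, fun x => Quotient.inductionOn x fun b => Quotient.sound ?_⟩
      exact MulAction.mem_orbit_iff.mpr (MulAction.exists_smul_eq G α b)
    rw [hq, one_mul] at hB
    let F : G → ℕ := fun g => Fintype.card (MulAction.fixedBy Ω g)
    have hF1 : F 1 = Fintype.card Ω :=
      Fintype.card_congr (Equiv.subtypeUnivEquiv fun x => by simp [MulAction.mem_fixedBy])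
    let R := Finset.univ.filter fun g : G => g ≠ 1 ∧ ∀ ω : Ω, g • ω ≠ ω
    have hsum : ∀ g : G, g ≠ 1 → F g + (if g ∈ R then 1 else 0) = 1 := by
      intro g hg
      have h1 : F g ≤ 1 := by
        have := hno g hg
        rw [Nat.card_eq_fintype_card] at this
        show Fintype.card (MulAction.fixedBy Ω g) ≤ 1
        omega
      by_cases hgR : g ∈ R
      · rw [if_pos hgR]
        have : F g = 0 := Fintype.card_eq_zero_iff.mpr ⟨fun x => (Finset.mem_filter.mp hgR).2.2 x x.2⟩
        omega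
      · rw [if_neg hgR]
        simp only [R, Finset.mem_filter, Finset.mem_univ, true_and, hg, ne_eq, not_false_iff, not_forall, not_not] at hgR
        obtain ⟨ω, hω⟩ := hgR
        have : 0 < F g := Fintype.card_pos_iff.mpr ⟨⟨ω, hω⟩⟩
        omega
    have hRcard : Fintype.card Ω + (Fintype.card G - 1) = Fintype.card G + R.card := by
      have hR1 : (1 : G) ∉ R := by simp [R]
      have hRc : R.card = ∑ g ∈ Finset.univ.erase (1 : G), (if g ∈ R then 1 else 0 : ℕ) := by
        rw [← Finset.card_filter]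
        congr 1
        ext g
        simp only [Finset.mem_filter, Finset.mem_erase, Finset.mem_univ, and_true]
        exact ⟨fun h => ⟨fun e => hR1 (e ▸ h), h⟩, fun h => h.2⟩
      calc Fintype.card Ω + (Fintype.card G - 1)
          = F 1 + ∑ g ∈ Finset.univ.erase (1 : G), (F g + (if g ∈ R then 1 else 0)) := by
            rw [hF1, Finset.sum_congr rfl fun g hg => hsum g (Finset.ne_of_mem_erase hg), Finset.sum_const,
              Finset.card_erase_of_mem (Finset.mem_univ _), Finset.card_univ, smul_eq_mul, mul_one]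
        _ = (∑ g : G, F g) + R.card := by
            rw [Finset.sum_add_distrib, ← add_assoc, Finset.add_sum_erase _ _ (Finset.mem_univ _), hRc]
        _ = Fintype.card G + R.card := by rw [show (∑ g : G, F g) = Fintype.card G from hB]
    have hMR : ∀ g ∈ R, g ∈ M := by
      let Mf := Finset.univ.filter fun g : G => g ∈ M ∧ g ≠ 1
      have hsub : Mf ⊆ R := fun g hg => by
        obtain ⟨-, h1, h2⟩ := Finset.mem_filter.mp hg
        exact Finset.mem_filter.mpr ⟨Finset.mem_univ _, h2, hMs g h1 h2⟩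
      have hMf : Mf.card + 1 = Fintype.card Ω := by
        rw [show Mf = (Finset.univ.filter fun g : G => g ∈ M).erase 1 by
          ext g; simp [Mf, and_comm], Finset.card_erase_add_one (by simp), ← Fintype.card_subtype]
        refine Fintype.card_of_bijective (f := fun m : M => (m : G) • α) ⟨fun x y h => Subtype.ext (hinj _ x.2 _ y.2 h), fun ω => ?_⟩
        obtain ⟨w, hw, e⟩ := hpt ω
        exact ⟨⟨w, hw⟩, e⟩
      have hGpos : 0 < Fintype.card G := Fintype.card_pos
      have := Finset.eq_of_subset_of_card_le hsub (by omega)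
      intro g hg
      rw [← this] at hg
      exact (Finset.mem_filter.mp hg).2.1
    have : Subsingleton D := ⟨fun ⟨c, g, hg, hgd⟩ ⟨c', g', hg', hgd'⟩ => by
      have h1 : g ≠ 1 := fun e => hgd α (by rw [e, one_smul])
      have h1' : g' ≠ 1 := fun e => hgd' α (by rw [e, one_smul])
      refine Subtype.ext ?_
      show c = c'
      rw [← hg, ← hg', ConjClasses.mk_eq_mk_iff_isConj]
      exact (hone g (hMR g (by simp [R, h1, hgd])) h1).symm.trans
        (hone g' (hMR g' (by simp [R, h1', hgd'])) h1')⟩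
    have := Finite.card_le_one_iff_subsingleton.mpr this
    omega
  push Not at hone
  obtain ⟨v, hv, hv1, huv⟩ := hone
  right; left
  let P : Fin 2 → G := ![u, v]
  have hP : ∀ n, P n ∈ M ∧ P n ≠ 1 := Fin.forall_fin_two.mpr ⟨⟨hu, hu1⟩, ⟨hv, hv1⟩⟩
  have hPinj : ∀ n m, IsConj (P n) (P m) → n = m :=
    Fin.forall_fin_two.mpr ⟨Fin.forall_fin_two.mpr ⟨fun _ => rfl, fun h => absurd h huv⟩,
      Fin.forall_fin_two.mpr ⟨fun h => absurd h.symm huv, fun _ => rfl⟩⟩
  have hPsurj : Function.Surjective fun n => cls (P n) (hMs _ (hP n).1 (hP n).2) :=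
    (Function.Injective.bijective_of_nat_card_le (fun n m h => hPinj n m (hcls _ (hMs _ (hP n).1 (hP n).2) _ (hMs _ (hP m).1 (hP m).2) h)) (by rw [hκ, Nat.card_fin])).2
  have hall : ∀ g : G, (∀ ω : Ω, g • ω ≠ ω) → ∃ n, IsConj (P n) g := fun g hg => by
    obtain ⟨n, hn⟩ := hPsurj (cls g hg)
    exact ⟨n, hcls _ (hMs _ (hP n).1 (hP n).2) _ hg hn⟩
  have hder : ∀ g : G, (∀ ω : Ω, g • ω ≠ ω) → g ∈ M := fun g hg => by
    obtain ⟨n, hn⟩ := hall g hg
    obtain ⟨c, hc⟩ := isConj_iff.mp hn
    rw [← hc]; exact hMn.conj_mem _ (hP n).1 c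
  -- the stabilizer is semiregular away from α
  have hfree : ∀ h ∈ H, ∀ w ∈ M, w ≠ 1 → h * w * h⁻¹ = w → h = 1 := by
    intro h hh w hw hw1 hhw
    by_contra hh1
    have hhM : h ∉ M := fun e => hMs h e hh1 α hh
    let f : M → M := fun x => ⟨x * (h * (x : G)⁻¹ * h⁻¹), M.mul_mem x.2 (hMn.conj_mem _ (M.inv_mem x.2) h)⟩
    have hsurj : Function.Surjective f := by
      intro y
      have hyh : ¬ ∀ ω : Ω, ((y : G) * h) • ω ≠ ω := fun hd => hhM (by
        have := M.mul_mem (M.inv_mem y.2) (hder _ hd); rwa [inv_mul_cancel_left] at this)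
      push Not at hyh
      obtain ⟨ω, hω⟩ := hyh
      obtain ⟨x, hx, rfl⟩ := hpt ω
      refine ⟨⟨x, hx⟩, Subtype.ext ?_⟩
      show x * (h * x⁻¹ * h⁻¹) = (y : G)
      have h1 : x⁻¹ * y * (h * x * h⁻¹) ∈ M :=
        M.mul_mem (M.mul_mem (M.inv_mem hx) y.2) (hMn.conj_mem _ hx h)
      have h2 : (x⁻¹ * y * (h * x * h⁻¹)) • α = (1 : G) • α := by
        rw [one_smul, show x⁻¹ * (y : G) * (h * x * h⁻¹) = x⁻¹ * ((y : G) * h) * x * h⁻¹ by group, mul_smul, mul_smul,
          mul_smul, show h⁻¹ • α = α from H.inv_mem hh, hω, inv_smul_smul]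
      have h3 := hinj _ h1 _ M.one_mem h2
      rw [mul_eq_one_iff_eq_inv, inv_mul_eq_iff_eq_mul] at h3
      rw [h3]; group
    have := Finite.injective_iff_surjective.mpr hsurj
      (a₁ := ⟨w, hw⟩) (a₂ := 1) (Subtype.ext (by
        show w * (h * w⁻¹ * h⁻¹) = (1 : G) * (h * (1 : G)⁻¹ * h⁻¹)
        rw [inv_one, mul_one, mul_inv_cancel, one_mul,
          show h * w⁻¹ * h⁻¹ = (h * w * h⁻¹)⁻¹ by group, hhw, mul_inv_cancel]))
    exact hw1 (congrArg Subtype.val this)
  have hcount : Nat.card {ω : Ω // ω ≠ α} = Nat.card (H × Fin 2) := by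
    refine (Nat.card_eq_of_bijective (fun p : H × Fin 2 => (⟨((p.1 : G) * P p.2 * (p.1 : G)⁻¹) • α,
      fun e => hMs _ (hMn.conj_mem _ (hP p.2).1 _) (by simp [(hP p.2).2]) α e⟩ : {ω : Ω // ω ≠ α})) ⟨?_, ?_⟩).symm
    · rintro ⟨h, n⟩ ⟨h', m⟩ e
      have e' := hinj _ (hMn.conj_mem _ (hP n).1 _) _ (hMn.conj_mem _ (hP m).1 _) (congrArg Subtype.val e)
      obtain rfl : n = m := hPinj n m ((isConj_iff.mpr ⟨(h : G), rfl⟩).trans
        (e' ▸ (isConj_iff.mpr ⟨(h' : G), rfl⟩ : IsConj (P m) _).symm))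
      have := hfree ((h' : G)⁻¹ * h) (H.mul_mem (H.inv_mem h'.2) h.2) _ (hP n).1 (hP n).2 (by
        calc (h' : G)⁻¹ * h * P n * ((h' : G)⁻¹ * h)⁻¹ = (h' : G)⁻¹ * ((h : G) * P n * (h : G)⁻¹) * h' := by group
          _ = P n := by rw [e']; group)
      exact Prod.ext (Subtype.ext (inv_mul_eq_one.mp this).symm) rfl
    · rintro ⟨ω, hω⟩
      obtain ⟨w, hw, rfl⟩ := hpt ω
      obtain ⟨n, hn⟩ := hall w (hMs w hw fun e => hω (by rw [e, one_smul]))
      obtain ⟨h, hh, e⟩ := hHconj _ (hP n).1 w hn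
      exact ⟨(⟨h, hh⟩, n), Subtype.ext (by show (h * P n * h⁻¹) • α = w • α; rw [e])⟩
  rw [Nat.card_prod, Nat.card_fin, Nat.card_eq_fintype_card, Fintype.card_subtype_compl, Fintype.card_subtype_eq] at hcount
  refine ⟨hN, fun g hg => ?_, ?_, by rw [mul_comm]; exact hcount.symm⟩
  · rw [Finite.card_le_one_iff_subsingleton]
    refine ⟨fun ⟨b, hb⟩ ⟨c, hc⟩ => Subtype.ext ?_⟩
    show b = c
    by_contra hbc
    obtain ⟨x, hx, rfl⟩ := hpt b
    obtain ⟨y, hy, rfl⟩ := hpt c
    have hgx : g • x • α = x • α := hb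
    have hgy : g • y • α = y • α := hc
    have hh : x⁻¹ * g * x ∈ H := by
      show (x⁻¹ * g * x) • α = α
      rw [mul_smul, mul_smul, hgx, inv_smul_smul]
    have hw : x⁻¹ * y ∈ M := M.mul_mem (M.inv_mem hx) hy
    refine hg (by
      have := hfree _ hh _ hw (fun e => hbc (by rw [inv_mul_eq_one.mp e]))
        (hinj _ (hMn.conj_mem _ hw _) _ hw (by
          rw [mul_smul, mul_smul, show (x⁻¹ * g * x)⁻¹ • α = α from H.inv_mem hh]
          show (x⁻¹ * g * x) • (x⁻¹ * y) • α = (x⁻¹ * y) • α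
          rw [← mul_smul, show x⁻¹ * g * x * (x⁻¹ * y) = x⁻¹ * g * y by group, mul_smul, mul_smul, hgy, ← mul_smul]))
      calc g = x * (x⁻¹ * g * x) * x⁻¹ := by group
        _ = 1 := by rw [this]; group)
  · omega

end Cfsg.Agent.S3520
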