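import Cfsg.Statements.S3532
import Mathlib
import Cfsg.Agent.Lib.Recog.PSLTwoSpectrum

set_option autoImplicit false
open Cfsg

namespace Cfsg.Agent.S3532

open Polynomial

theorem semi_pow {A X : Type*} [CommGroup A] [Group X] (ρ : X →* MulAut A) (a : A) (g : X) (n : ℕ) :
    (⟨a, g⟩ : A ⋊[ρ] X) ^ n = ⟨∏ i ∈ Finset.range n, ρ (g ^ i) a, g ^ n⟩ := by
  induction n with
  | zero => ext <;> simp
  | succ n ih =>
    rw [pow_succ, ih]
    ext
    · simp only [SemidirectProduct.mul_left, Finset.prod_range_succ]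
    · simp only [SemidirectProduct.mul_right, pow_succ]

/-- a Frobenius group `ℤ[ζₙ]/m ⋊ Cₙ` with element orders the divisors of `m` and of `n` -/
theorem frobenius_cyclotomic (m n : ℕ) (hm : 2 ≤ m) (hn : 1 ≤ n) :
    ∃ (H : Type) (_ : Group H) (_ : Finite H), Group.IsSolvable H ∧
      Set.range (orderOf : H → ℕ) = {k | k ∣ m ∨ k ∣ n} := by
  classical
  haveI : Fact (1 < m) := ⟨hm⟩
  haveI : NeZero n := ⟨by omega⟩
  haveI : NeZero m := ⟨by omega⟩
  set f := Polynomial.cyclotomic n (ZMod m) with hf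
  have hfm : f.Monic := Polynomial.cyclotomic.monic n _
  have hfdeg : 0 < f.degree := Polynomial.degree_cyclotomic_pos n _ (by omega)
  let R := AdjoinRoot f
  let u : R := AdjoinRoot.root f
  haveI : Finite R := by
    haveI := (AdjoinRoot.powerBasis' hfm).finite
    exact Module.finite_of_finite (ZMod m)
  have hroot : ∀ P : ℤ[X], Polynomial.cyclotomic n ℤ ∣ P →
      (P.map (Int.castRingHom (ZMod m))).eval₂ (AdjoinRoot.of f) u = 0 := by
    intro P ⟨Q, hQ⟩
    rw [hQ, Polynomial.map_mul, Polynomial.map_cyclotomic, ← hf, Polynomial.eval₂_mul,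
      AdjoinRoot.eval₂_root, zero_mul]
  have hun : u ^ n = 1 := by
    have h := hroot _ (Polynomial.cyclotomic.dvd_X_pow_sub_one n ℤ)
    simp [Polynomial.eval₂_sub] at h
    exact sub_eq_zero.mp h
  have hnorm : ∀ j o : ℕ, n ∣ j * o → ¬ n ∣ j → ∑ i ∈ Finset.range o, u ^ (j * i) = 0 := by
    intro j o h1 h2
    have hd : Polynomial.cyclotomic n ℤ ∣ ∑ i ∈ Finset.range o, X ^ (j * i) := by
      obtain ⟨z, hz⟩ : ∃ z : ℂ, IsPrimitiveRoot z n := ⟨_, Complex.isPrimitiveRoot_exp n (by omega)⟩
      rw [Polynomial.cyclotomic_eq_minpoly hz (by omega)]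
      apply minpoly.isIntegrallyClosed_dvd (hz.isIntegral (by omega))
      simp only [map_sum, map_pow, Polynomial.aeval_X]
      have hzj : z ^ j ≠ 1 := fun h => h2 (hz.dvd_of_pow_eq_one j h)
      simp only [pow_mul]
      rw [geom_sum_eq hzj, ← pow_mul, (hz.pow_eq_one_iff_dvd _).mpr h1]
      simp
    have h := hroot _ hd
    simpa [Polynomial.map_sum, Polynomial.eval₂_finsetSum] using h
  have hone : ∀ k : ℕ, (k : R) = 0 → m ∣ k := by
    intro k hk
    have hk' : AdjoinRoot.mk f (Polynomial.C (k : ZMod m)) = 0 := by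
      rw [Polynomial.C_eq_natCast, map_natCast]; exact hk
    rw [AdjoinRoot.mk_eq_zero] at hk'
    by_contra hne
    have h0 : Polynomial.C (k : ZMod m) ≠ 0 := by
      rw [Ne, Polynomial.C_eq_zero, ZMod.natCast_eq_zero_iff]; exact hne
    exact hfm.not_dvd_of_degree_lt h0 (by rw [Polynomial.degree_C (fun h => h0 (by rw [h, map_zero]))]; exact hfdeg) hk'
  have hm0 : ((m : ℕ) : R) = 0 := by
    rw [← map_natCast (AdjoinRoot.of f), ZMod.natCast_self, map_zero]
  -- the action
  let X := Multiplicative (ZMod n)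
  let χ : X → R := fun g => u ^ (g.toAdd.val)
  have χ_mul : ∀ g h : X, χ (g * h) = χ g * χ h := by
    intro g h
    show u ^ (g.toAdd + h.toAdd).val = u ^ g.toAdd.val * u ^ h.toAdd.val
    rw [← pow_add]
    exact pow_eq_pow_of_modEq (by rw [ZMod.val_add]; exact Nat.mod_modEq _ _) hun
  have χ_one : χ 1 = 1 := by show u ^ (0 : ZMod n).val = 1; rw [ZMod.val_zero, pow_zero]
  let ρ : X →* MulAut (Multiplicative R) := MonoidHom.mk'
    (fun g => AddEquiv.toMultiplicative
      { toFun := fun r => χ g * r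
        invFun := fun r => χ g⁻¹ * r
        left_inv := fun r => by
          show χ g⁻¹ * (χ g * r) = r
          rw [← mul_assoc, ← χ_mul, inv_mul_cancel, χ_one, one_mul]
        right_inv := fun r => by
          show χ g * (χ g⁻¹ * r) = r
          rw [← mul_assoc, ← χ_mul, mul_inv_cancel, χ_one, one_mul]
        map_add' := fun r s => mul_add _ r s })
    (fun g h => MulEquiv.ext fun r => congrArg Multiplicative.ofAdd (by
      show χ (g * h) * r.toAdd = χ g * (χ h * r.toAdd)
      rw [χ_mul, mul_assoc]))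
  haveI : Finite (Multiplicative R ⋊[ρ] X) := Finite.of_equiv _ SemidirectProduct.equivProd.symm
  refine ⟨Multiplicative R ⋊[ρ] X, inferInstance, inferInstance, ?_, ?_⟩
  · haveI : Group.IsSolvable (Multiplicative R) := inferInstance
    exact Group.isSolvable_of_ker_le_range (SemidirectProduct.inl : Multiplicative R →* Multiplicative R ⋊[ρ] X)
      SemidirectProduct.rightHom (by rw [SemidirectProduct.range_inl_eq_ker_rightHom])
  ext k
  constructor
  · rintro ⟨⟨a, g⟩, rfl⟩
    rcases eq_or_ne g 1 with rfl | hg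
    · left
      apply orderOf_dvd_of_pow_eq_one
      rw [show (⟨a, 1⟩ : Multiplicative R ⋊[ρ] X) = SemidirectProduct.inl a from rfl, ← map_pow]
      have : a ^ m = 1 := by
        apply Multiplicative.toAdd.injective
        show m • a.toAdd = 0
        rw [nsmul_eq_mul, hm0, zero_mul]
      rw [this, map_one]
    · right
      refine dvd_trans (orderOf_dvd_of_pow_eq_one (n := orderOf g) ?_) ?_
      · rw [semi_pow, pow_orderOf_eq_one]
        refine SemidirectProduct.ext ?_ rfl
        show ∏ i ∈ Finset.range (orderOf g), ρ (g ^ i) a = 1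
        apply Multiplicative.toAdd.injective
        rw [toAdd_prod, toAdd_one]
        have hχ : ∀ i, χ (g ^ i) = u ^ (g.toAdd.val * i) := by
          intro i
          induction i with
          | zero => simp [χ_one]
          | succ i ih => rw [pow_succ, χ_mul, ih, mul_add, mul_one, pow_add]
        calc ∑ i ∈ Finset.range (orderOf g), (ρ (g ^ i) a).toAdd
            = (∑ i ∈ Finset.range (orderOf g), u ^ (g.toAdd.val * i)) * a.toAdd := by
              rw [Finset.sum_mul]
              exact Finset.sum_congr rfl fun i _ => by rw [← hχ]; rfl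
          _ = 0 := by
            rw [hnorm _ _ ?_ ?_, zero_mul]
            · have := congrArg Multiplicative.toAdd (pow_orderOf_eq_one g)
              rw [toAdd_pow, toAdd_one, nsmul_eq_mul] at this
              rw [← ZMod.natCast_eq_zero_iff]
              push_cast
              rw [ZMod.natCast_zmod_val, mul_comm]; exact this
            · intro h
              apply hg
              apply Multiplicative.toAdd.injective
              rw [toAdd_one, ← ZMod.natCast_zmod_val g.toAdd, ZMod.natCast_eq_zero_iff]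
              exact h
      · have := orderOf_dvd_natCard g
        rwa [Nat.card_congr Multiplicative.toAdd, Nat.card_zmod] at this
  · intro hk
    have key : ∀ x : Multiplicative R ⋊[ρ] X, k ∣ orderOf x → k ∈ Set.range (orderOf : Multiplicative R ⋊[ρ] X → ℕ) :=
      fun x hx => ⟨x ^ (orderOf x / k), orderOf_pow_orderOf_div (orderOf_pos x).ne' hx⟩
    rcases hk with hk | hk
    · refine key (SemidirectProduct.inl (Multiplicative.ofAdd 1)) ?_
      rw [orderOf_injective _ SemidirectProduct.inl_injective]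
      refine hk.trans (hone _ ?_)
      have := congrArg Multiplicative.toAdd (pow_orderOf_eq_one (Multiplicative.ofAdd (1 : R)))
      rw [toAdd_pow, toAdd_one, toAdd_ofAdd, nsmul_eq_mul, mul_one] at this
      exact this
    · refine key (SemidirectProduct.inr (Multiplicative.ofAdd 1)) ?_
      rw [orderOf_injective _ SemidirectProduct.inr_injective, orderOf_ofAdd_eq_addOrderOf, ZMod.addOrderOf_one]
      exact hk


/-- Let q ≥ 4 be a prime power and L = PSL(2,q). There is a finite solvable group with the same set of element orders as L × L (so L × L is not determined by its spectrum). -/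
theorem result {F : Type*} [Field F] [Fintype F] (hF : 4 ≤ Fintype.card F) :
    ∃ (H : Type) (_ : Group H) (_ : Finite H), Group.IsSolvable H ∧
      Set.range (orderOf : H → ℕ) = Set.range (orderOf : Matrix.ProjectiveSpecialLinearGroup (Fin 2) F × Matrix.ProjectiveSpecialLinearGroup (Fin 2) F → ℕ) := by
  classical
  obtain ⟨p, hp⟩ := CharP.exists F
  haveI := Fact.mk (CharP.char_is_prime F p)
  set q := Fintype.card F with hq
  set d := Cfsg.Agent.PSL2Spec.dd F with hd
  have hd2 : d ∣ 2 := Nat.gcd_dvd_left _ _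
  have hdle : d ≤ 2 := Nat.le_of_dvd two_pos hd2
  have hdpos : 0 < d := Nat.pos_of_dvd_of_pos hd2 two_pos
  set n := (q - 1) / d with hn
  set m := (q + 1) / d with hm
  have hn1 : 1 ≤ n := (Nat.one_le_div_iff hdpos).mpr (by omega)
  have hm2 : 2 ≤ m := (Nat.le_div_iff_mul_le hdpos).mpr (by omega)
  obtain ⟨H₁, g₁, f₁, s₁, r₁⟩ := frobenius_cyclotomic p n (CharP.char_is_prime F p).two_le hn1
  obtain ⟨H₂, g₂, f₂, s₂, r₂⟩ := frobenius_cyclotomic m n hm2 hn1
  refine ⟨H₁ × H₂, inferInstance, inferInstance, inferInstance, ?_⟩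
  have hspec := Cfsg.Agent.PSL2Spec.range_orderOf (F := F) p
  rw [← hq, ← hd, ← hn, ← hm] at hspec
  ext k
  constructor
  · rintro ⟨⟨x, y⟩, rfl⟩
    have hx : orderOf x ∈ {k | k ∣ p ∨ k ∣ n} := r₁ ▸ Set.mem_range_self x
    have hy : orderOf y ∈ {k | k ∣ m ∨ k ∣ n} := r₂ ▸ Set.mem_range_self y
    have ha : orderOf x ∈ {k | k ∣ p ∨ k ∣ n ∨ k ∣ m} := hx.imp id Or.inl
    have hb : orderOf y ∈ {k | k ∣ p ∨ k ∣ n ∨ k ∣ m} := hy.elim (fun h => Or.inr (Or.inr h)) (fun h => Or.inr (Or.inl h))
    rw [← hspec] at ha hb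
    obtain ⟨a, ha⟩ := ha
    obtain ⟨b, hb⟩ := hb
    exact ⟨(a, b), by rw [Prod.orderOf, Prod.orderOf, ha, hb]⟩
  · rintro ⟨⟨a, b⟩, rfl⟩
    have ha : orderOf a ∈ {k | k ∣ p ∨ k ∣ n ∨ k ∣ m} := hspec ▸ Set.mem_range_self a
    have hb : orderOf b ∈ {k | k ∣ p ∨ k ∣ n ∨ k ∣ m} := hspec ▸ Set.mem_range_self b
    have mk : ∀ x y : ℕ, (x ∣ p ∨ x ∣ n) → (y ∣ m ∨ y ∣ n) → Nat.lcm x y ∈ Set.range (orderOf : H₁ × H₂ → ℕ) := by
      intro x y hx hy
      have hx' : x ∈ Set.range (orderOf : H₁ → ℕ) := by rw [r₁]; exact hx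
      have hy' : y ∈ Set.range (orderOf : H₂ → ℕ) := by rw [r₂]; exact hy
      obtain ⟨u, rfl⟩ := hx'
      obtain ⟨v, rfl⟩ := hy'
      exact ⟨(u, v), Prod.orderOf (u, v)⟩
    show orderOf (a, b) ∈ _
    rw [Prod.orderOf]
    rcases ha with ha | ha | ha <;> rcases hb with hb | hb | hb
    · rw [← Nat.lcm_one_right (Nat.lcm _ _)]
      exact mk _ 1 (Or.inl (Nat.lcm_dvd ha hb)) (Or.inl (one_dvd m))
    · exact mk _ _ (Or.inl ha) (Or.inr hb)
    · exact mk _ _ (Or.inl ha) (Or.inl hb)
    · rw [Nat.lcm_comm]; exact mk _ _ (Or.inl hb) (Or.inr ha)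
    · exact mk _ _ (Or.inr ha) (Or.inr hb)
    · exact mk _ _ (Or.inr ha) (Or.inl hb)
    · rw [Nat.lcm_comm]; exact mk _ _ (Or.inl hb) (Or.inl ha)
    · rw [Nat.lcm_comm]; exact mk _ _ (Or.inr hb) (Or.inl ha)
    · rw [← Nat.lcm_one_left (Nat.lcm _ _)]
      exact mk 1 _ (Or.inl (one_dvd p)) (Or.inl (Nat.lcm_dvd ha hb))

end Cfsg.Agent.S3532
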