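import Cfsg.Statements.S3547
import Mathlib
import Cfsg.Agent.Lib.Recog.Derangements

set_option autoImplicit false
open Cfsg

namespace Cfsg.Agent.S3547

/-- Let G act faithfully and transitively on a finite set Ω, let D be the subgroup generated by the derangements, and let r_G and r_D be the numbers of orbits of G and of D on ordered pairs of points (the permutation ranks). Then r_D − 1 = (r_G − 1)·[G : D]. -/
theorem result {G Ω : Type*} [Group G] [Finite G] [MulAction G Ω] [FaithfulSMul G Ω] [Finite Ω]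
    (htrans : MulAction.IsPretransitive G Ω) :
    Nat.card (MulAction.orbitRel.Quotient ↥(Subgroup.closure {g : G | ∀ ω : Ω, g • ω ≠ ω}) (Ω × Ω)) - 1 =
      (Nat.card (MulAction.orbitRel.Quotient G (Ω × Ω)) - 1) * (Subgroup.closure {g : G | ∀ ω : Ω, g • ω ≠ ω}).index := by
  classical
  set D := Subgroup.closure {g : G | ∀ ω : Ω, g • ω ≠ ω} with hD
  have hDt := Cfsg.Agent.Recog.derangement_closure_transitive (G := G) (Ω := Ω)
  rcases isEmpty_or_nonempty Ω with hΩ | hΩ
  · simp
  let _ := Fintype.ofFinite Ω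
  let _ := Fintype.ofFinite G
  let _ := Fintype.ofFinite D
  let _ := Fintype.ofFinite (MulAction.orbitRel.Quotient D (Ω × Ω))
  let _ := Fintype.ofFinite (MulAction.orbitRel.Quotient G (Ω × Ω))
  have sq : ∀ g : G, Nat.card (MulAction.fixedBy (Ω × Ω) g) = Nat.card (MulAction.fixedBy Ω g) ^ 2 := by
    intro g
    rw [sq, ← Nat.card_prod]
    refine Nat.card_congr ⟨fun x => (⟨x.1.1, congrArg Prod.fst x.2⟩, ⟨x.1.2, congrArg Prod.snd x.2⟩),
      fun x => ⟨(x.1.1, x.2.1), Prod.ext x.1.2 x.2.2⟩, fun x => rfl, fun x => rfl⟩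
  have hG : ∑ g : G, Nat.card (MulAction.fixedBy Ω g) ^ 2 =
      Nat.card (MulAction.orbitRel.Quotient G (Ω × Ω)) * Nat.card G := by
    rw [Finset.sum_congr rfl fun g _ => (sq g).symm]
    simp only [Nat.card_eq_fintype_card]
    exact MulAction.sum_card_fixedBy_eq_card_orbits_mul_card_group G (Ω × Ω)
  have hDsum : ∑ g : D, Nat.card (MulAction.fixedBy Ω (g : G)) ^ 2 =
      Nat.card (MulAction.orbitRel.Quotient D (Ω × Ω)) * Nat.card D := by
    rw [Finset.sum_congr rfl fun (g : D) _ => (sq (g : G)).symm]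
    simp only [Nat.card_eq_fintype_card]
    exact MulAction.sum_card_fixedBy_eq_card_orbits_mul_card_group D (Ω × Ω)
  have hout : ∀ g ∈ Finset.univ.filter (fun g : G => g ∉ D), Nat.card (MulAction.fixedBy Ω g) ^ 2 = 1 := by
    intro g hg
    rw [Cfsg.Agent.Recog.card_fixedBy_eq_one_of_notMem g (Finset.mem_filter.mp hg).2, one_pow]
  rw [← Finset.sum_filter_add_sum_filter_not Finset.univ (fun g : G => g ∈ D),
    Finset.sum_congr rfl hout, Finset.sum_const, smul_eq_mul, mul_one,
    Finset.sum_subtype (p := fun g => g ∈ D) (Finset.univ.filter fun g => g ∈ D) (by simp), hDsum] at hG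
  have hc : (Finset.univ.filter fun g : G => g ∉ D).card + Nat.card D = Nat.card G := by
    rw [Nat.card_eq_fintype_card, Nat.card_eq_fintype_card, add_comm,
      Fintype.card_of_subtype (Finset.univ.filter fun g : G => g ∈ D) (by simp),
      Finset.card_filter_add_card_filter_not, Finset.card_univ]
  have hi : Nat.card D * D.index = Nat.card G := Subgroup.card_mul_index D
  have hDp : 0 < Nat.card D := Nat.card_pos
  haveI : Nonempty (MulAction.orbitRel.Quotient G (Ω × Ω)) := ⟨Quotient.mk'' (Classical.arbitrary _)⟩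
  have hr1 : 1 ≤ Nat.card (MulAction.orbitRel.Quotient G (Ω × Ω)) := Nat.card_pos
  set a := Nat.card (MulAction.orbitRel.Quotient D (Ω × Ω))
  set b := Nat.card (MulAction.orbitRel.Quotient G (Ω × Ω))
  set d := Nat.card D
  set i := D.index
  set c := (Finset.univ.filter fun g : G => g ∉ D).card
  obtain ⟨b', hb'⟩ : ∃ b', b = b' + 1 := ⟨b - 1, by omega⟩
  rw [hb'] at hG ⊢
  have : a * d = (b' * i + 1) * d := by nlinarith
  rw [Nat.eq_of_mul_eq_mul_right hDp this]
  simp

end Cfsg.Agent.S3547
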