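import Cfsg.Statements.S3548
import Mathlib
import Cfsg.Agent.Lib.Recog.DerangementIndex

set_option autoImplicit false
open Cfsg

namespace Cfsg.Agent.S3548

/-- Let G act faithfully and transitively on a finite set with n ≥ 2 points and let D be the subgroup generated by the derangements. Then the index of D in G divides n − 1, and if it equals n − 1 then n is a prime power. -/
theorem result {G Ω : Type*} [Group G] [Finite G] [MulAction G Ω] [FaithfulSMul G Ω] [Finite Ω]
    (htrans : MulAction.IsPretransitive G Ω) (hΩ : 2 ≤ Nat.card Ω) :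
    (Subgroup.closure {g : G | ∀ ω : Ω, g • ω ≠ ω}).index ∣ Nat.card Ω - 1 ∧
    ((Subgroup.closure {g : G | ∀ ω : Ω, g • ω ≠ ω}).index = Nat.card Ω - 1 → IsPrimePow (Nat.card Ω)) := by
  classical
  haveI : Nontrivial Ω := Finite.one_lt_card_iff_nontrivial.mp (show 1 < Nat.card Ω by omega)
  refine ⟨Cfsg.Agent.Recog.index_dvd_card_sub_one, fun heq => ?_⟩
  set D := Subgroup.closure {g : G | ∀ ω : Ω, g • ω ≠ ω} with hD
  haveI hDt : MulAction.IsPretransitive D Ω := Cfsg.Agent.Recog.derangement_closure_transitive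
  haveI hDn : D.Normal := Cfsg.Agent.Recog.derangement_closure_normal
  obtain ⟨a⟩ := (inferInstance : Nonempty Ω)
  set A := MulAction.stabilizer G a
  -- every suborbit is everything and the stabilizer in D is trivial
  have hkey : ∀ b, b ≠ a → (MulAction.orbit A b).ncard = Nat.card Ω - 1 ∧
      ∀ d : G, d ∈ D → d • a = a → d • b = b := by
    intro b hb
    have h1 := Cfsg.Agent.Recog.orbit_eq_index_mul (G := G) hb
    rw [← hD, Nat.card_coe_set_eq] at h1
    have hsub : (MulAction.orbit A b).ncard ≤ Nat.card Ω - 1 := by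
      have : ({a}ᶜ : Set Ω).ncard = Nat.card Ω - 1 := by rw [Set.ncard_compl, Set.ncard_singleton]
      rw [← this]
      refine Set.ncard_le_ncard ?_
      rintro _ ⟨g, rfl⟩ h
      exact hb (MulAction.injective (g : G) ((Set.mem_singleton_iff.mp h).trans g.2.symm))
    haveI : Nonempty (MulAction.orbit (A ⊓ D : Subgroup G) b) := ⟨⟨b, MulAction.mem_orbit_self b⟩⟩
    have hpos : 0 < Nat.card (MulAction.orbit (A ⊓ D : Subgroup G) b) := Nat.card_pos
    have hi : 0 < Nat.card Ω - 1 := by omega
    have hone : Nat.card (MulAction.orbit (A ⊓ D : Subgroup G) b) = 1 := by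
      rw [heq] at h1
      nlinarith
    refine ⟨by rw [h1, hone, mul_one, heq], fun d hd hda => ?_⟩
    haveI := (Nat.card_eq_one_iff_unique.mp hone).1
    exact congrArg Subtype.val (Subsingleton.elim
      (⟨d • b, ⟨⟨d, hda, hd⟩, rfl⟩⟩ : MulAction.orbit (A ⊓ D : Subgroup G) b) ⟨b, MulAction.mem_orbit_self b⟩)
  have hreg : ∀ d : G, d ∈ D → d • a = a → d = 1 := fun d hd hda => by
    refine FaithfulSMul.eq_of_smul_eq_smul (α := Ω) fun w => ?_
    rw [one_smul]
    by_cases hw : w = a
    · rw [hw, hda]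
    · exact (hkey w hw).2 d hd hda
  have hbij : Function.Bijective (fun d : D => (d : G) • a) := by
    constructor
    · intro d e h
      refine Subtype.ext (inv_mul_eq_one.mp (hreg _ (D.mul_mem (D.inv_mem d.2) e.2) ?_))
      simp only at h
      rw [mul_smul, ← h, inv_smul_smul]
    · intro w
      obtain ⟨d, hd⟩ := MulAction.exists_smul_eq D a w
      exact ⟨d, hd⟩
  have hcard : Nat.card D = Nat.card Ω := Nat.card_congr (Equiv.ofBijective _ hbij)
  obtain ⟨p, hp, hpd⟩ := Nat.exists_prime_and_dvd (n := Nat.card Ω) (by omega)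
  haveI := Fact.mk hp
  obtain ⟨x, hx⟩ := exists_prime_orderOf_dvd_card' (G := D) p (hcard ▸ hpd)
  have hall : ∀ y : D, y ≠ 1 → orderOf y = p := by
    intro y hy
    have hne : ∀ z : D, z ≠ 1 → (z : G) • a ≠ a := fun z hz h => hz (Subtype.ext (hreg z z.2 h))
    have hx1 : x ≠ 1 := fun h => by rw [h, orderOf_one] at hx; exact hp.one_lt.ne hx
    have hmem : (y : G) • a ∈ MulAction.orbit A ((x : G) • a) := by
      have hsub : MulAction.orbit A ((x : G) • a) = {a}ᶜ := by
        refine Set.eq_of_subset_of_ncard_le ?_ ?_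
        · rintro _ ⟨g, rfl⟩ h
          exact hne x hx1 (MulAction.injective (g : G) ((Set.mem_singleton_iff.mp h).trans g.2.symm))
        · rw [(hkey _ (hne x hx1)).1, Set.ncard_compl, Set.ncard_singleton]
      rw [hsub]
      exact hne y hy
    obtain ⟨g, hg⟩ := hmem
    have hga : (g : G)⁻¹ • a = a := by rw [inv_smul_eq_iff]; exact g.2.symm
    have hconj : (⟨(g : G) * x * (g : G)⁻¹, hDn.conj_mem _ x.2 _⟩ : D) = y := by
      refine hbij.1 ?_
      show ((g : G) * x * (g : G)⁻¹) • a = (y : G) • a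
      rw [mul_smul, mul_smul, hga]
      exact hg
    rw [← hconj, ← hx, ← Subgroup.orderOf_coe, ← Subgroup.orderOf_coe x]
    exact orderOf_injective (MulAut.conj (g : G)).toMonoidHom (MulAut.conj (g : G)).injective _
  have hpg : IsPGroup p D := fun y => by
    by_cases hy : y = 1
    · exact ⟨0, by simp [hy]⟩
    · exact ⟨1, by rw [pow_one, ← hall y hy, pow_orderOf_eq_one]⟩
  obtain ⟨k, hk⟩ := hpg.exists_card_eq
  rw [← hcard, hk]
  refine hp.isPrimePow.pow ?_
  rintro rfl
  rw [pow_zero] at hk
  omega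

end Cfsg.Agent.S3548
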