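import Cfsg.Statements.S3549
import Mathlib
import Cfsg.Agent.Lib.Recog.DerangementIndex

set_option autoImplicit false
open Cfsg

namespace Cfsg.Agent.S3549

open scoped Pointwise

/-- Let G act faithfully, transitively but imprimitively on a finite set with n points, and let D be the subgroup generated by the derangements. Then the index of D in G is at most √n − 1. -/
theorem result {G Ω : Type*} [Group G] [Finite G] [MulAction G Ω] [FaithfulSMul G Ω] [Finite Ω]
    (htrans : MulAction.IsPretransitive G Ω) (himp : ¬ MulAction.IsPreprimitive G Ω) :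
    ((Subgroup.closure {g : G | ∀ ω : Ω, g • ω ≠ ω}).index : ℝ) ≤ Real.sqrt (Nat.card Ω) - 1 := by
  classical
  haveI := htrans
  obtain ⟨B, hB, hBnt⟩ : ∃ B : Set Ω, MulAction.IsBlock G B ∧ ¬ MulAction.IsTrivialBlock B := by
    by_contra h
    push Not at h
    exact himp { isTrivialBlock_of_isBlock := fun hB => h _ hB }
  simp only [MulAction.IsTrivialBlock, not_or, Set.not_subsingleton_iff] at hBnt
  obtain ⟨hnt, huniv⟩ := hBnt
  obtain ⟨a, ha⟩ := hnt.nonempty
  haveI : Nonempty Ω := ⟨a⟩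
  set i := (Subgroup.closure {g : G | ∀ ω : Ω, g • ω ≠ ω}).index
  have h1 : i ∣ (B \ {a}).ncard := Cfsg.Agent.Recog.index_dvd_ncard_invariant (a := a) _ (by simp) (fun g hg x hx => by
    refine ⟨?_, fun h => hx.2 (MulAction.injective g ((Set.mem_singleton_iff.mp h).trans hg.symm))⟩
    have hgB : g ∈ MulAction.stabilizer G B := hB.stabilizer_le ha hg
    rw [← MulAction.mem_stabilizer_iff.mp hgB]
    exact Set.smul_mem_smul_set hx.1)
  rw [Set.ncard_diff_singleton_of_mem ha] at h1
  have h2 : i ∣ Nat.card Ω - 1 := Cfsg.Agent.Recog.index_dvd_card_sub_one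
  have hc2 : 2 ≤ B.ncard := by
    obtain ⟨x, hx, y, hy, hxy⟩ := hnt
    rw [← Set.ncard_pair hxy]
    exact Set.ncard_le_ncard (Set.insert_subset hx (Set.singleton_subset_iff.mpr hy))
  obtain ⟨b, hb⟩ := hB.ncard_dvd_card ⟨a, ha⟩
  set c := B.ncard with hc
  have hb2 : 2 ≤ b := by
    by_contra hcon
    have hlt : c < Nat.card Ω := by
      rw [← Set.ncard_univ]
      exact Set.ncard_lt_ncard (Set.ssubset_univ_iff.mpr huniv)
    interval_cases b <;> omega
  have h3 : i ∣ b - 1 := by
    rw [hb] at h2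
    have : c * b - 1 = b * (c - 1) + (b - 1) := by
      obtain ⟨c', hc'⟩ : ∃ c', c = c' + 1 := ⟨c - 1, by omega⟩
      rw [hc', Nat.add_sub_cancel, add_mul, one_mul, mul_comm b]
      omega
    rw [this, ← Nat.dvd_add_iff_right (dvd_mul_of_dvd_right h1 b)] at h2
    exact h2
  have hi1 : i + 1 ≤ c := by have := Nat.le_of_dvd (by omega) h1; omega
  have hi2 : i + 1 ≤ b := by have := Nat.le_of_dvd (by omega) h3; omega
  have hsq : (i + 1) ^ 2 ≤ Nat.card Ω := by rw [hb, pow_two]; exact Nat.mul_le_mul hi1 hi2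
  have hR : ((i : ℝ) + 1) ^ 2 ≤ (Nat.card Ω : ℝ) := by exact_mod_cast hsq
  have := Real.le_sqrt_of_sq_le hR
  linarith

end Cfsg.Agent.S3549
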