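import Cfsg.Statements.S3554
import Mathlib

set_option autoImplicit false
open Cfsg

namespace Cfsg.Agent.S3554

/-- Let G act faithfully and transitively on a finite set and suppose G has a non-trivial cyclic normal subgroup. Then some element of G of prime order fixes no point. -/
theorem result {G Ω : Type*} [Group G] [Finite G] [MulAction G Ω] [FaithfulSMul G Ω] [Finite Ω]
    (htrans : MulAction.IsPretransitive G Ω) (C : Subgroup G) (hC : C.Normal) (hC1 : C ≠ ⊥) (hcyc : IsCyclic ↥C) :
    ∃ g : G, (orderOf g).Prime ∧ ∀ ω : Ω, g • ω ≠ ω := by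
  haveI := hC
  haveI := hcyc
  haveI : Nontrivial C := Subgroup.nontrivial_iff_ne_bot C |>.mpr hC1
  obtain ⟨p, hp, hpd⟩ := Nat.exists_prime_and_dvd (n := Nat.card C) Finite.one_lt_card.ne'
  haveI := Fact.mk hp
  obtain ⟨c, hc⟩ := exists_prime_orderOf_dvd_card' p hpd
  refine ⟨(c : G), by rwa [Subgroup.orderOf_coe, hc], fun ω hω => ?_⟩
  have hkey : ∀ x : G, x * (c : G) * x⁻¹ ∈ Subgroup.zpowers (c : G) := by
    intro x
    have hd : (⟨x * (c : G) * x⁻¹, hC.conj_mem _ c.2 x⟩ : C) ∈ Subgroup.zpowers c := by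
      have h2 : orderOf (⟨x * (c : G) * x⁻¹, hC.conj_mem _ c.2 x⟩ : C) = p := by
        rw [← Subgroup.orderOf_coe]
        show orderOf (x * (c : G) * x⁻¹) = p
        rw [← hc, ← Subgroup.orderOf_coe c]
        exact orderOf_injective (MulAut.conj x).toMonoidHom (MulAut.conj x).injective _
      classical
      let _ := Fintype.ofFinite C
      have hsub : (Subgroup.zpowers c : Set C).toFinset ⊆ Finset.univ.filter (fun a : C => a ^ p = 1) := by
        intro a ha
        simp only [Set.mem_toFinset, SetLike.mem_coe] at ha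
        refine Finset.mem_filter.mpr ⟨Finset.mem_univ _, ?_⟩
        rw [← orderOf_dvd_iff_pow_eq_one, ← hc]
        exact orderOf_dvd_of_mem_zpowers ha
      have heq := Finset.eq_of_subset_of_card_le hsub (by
        refine (IsCyclic.card_pow_eq_one_le hp.pos).trans ?_
        rw [Set.toFinset_card, ← hc, ← Nat.card_zpowers, Nat.card_eq_fintype_card]
        exact le_rfl)
      have := heq.symm ▸ (Finset.mem_filter.mpr ⟨Finset.mem_univ _, by rw [← h2]; exact pow_orderOf_eq_one _⟩ :
        (⟨x * (c : G) * x⁻¹, hC.conj_mem _ c.2 x⟩ : C) ∈ Finset.univ.filter (fun a : C => a ^ p = 1))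
      simpa using this
    obtain ⟨n, hn⟩ := hd
    exact ⟨n, congrArg Subtype.val hn⟩
  have hall : ∀ w : Ω, (c : G) • w = w := by
    intro w
    obtain ⟨h, rfl⟩ := MulAction.exists_smul_eq G ω w
    have h1 : h⁻¹ * (c : G) * h ∈ MulAction.stabilizer G ω := by
      refine Subgroup.zpowers_le.mpr (show (c : G) ∈ MulAction.stabilizer G ω from hω) ?_
      simpa using hkey h⁻¹
    rw [MulAction.mem_stabilizer_iff, mul_smul, mul_smul, inv_smul_eq_iff] at h1
    exact h1
  have : (c : G) = 1 := FaithfulSMul.eq_of_smul_eq_smul (α := Ω) fun w => by rw [hall, one_smul]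
  rw [← Subgroup.orderOf_coe, this, orderOf_one] at hc
  exact hp.one_lt.ne hc

end Cfsg.Agent.S3554
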