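import Cfsg.Statements.S3555
import Cfsg.Agent.S0035

set_option autoImplicit false
open Cfsg
open scoped Pointwise

namespace Cfsg.Agent.S3555

/-- Let G act faithfully and transitively on a finite set and suppose every element of G fixing no point is an involution. Then either G is an elementary abelian 2-group, or G is a Frobenius group whose Frobenius kernel is an elementary abelian 2-group: G has a Frobenius complement H, and the elements lying in no conjugate of H, together with the identity, pairwise commute and square to the identity. -/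
theorem result {G Ω : Type*} [Group G] [Finite G] [MulAction G Ω] [FaithfulSMul G Ω] [Finite Ω]
    (htrans : MulAction.IsPretransitive G Ω) (hinv : ∀ g : G, (∀ ω : Ω, g • ω ≠ ω) → orderOf g = 2) :
    (IsMulCommutative G ∧ ∀ g : G, g ^ 2 = 1) ∨
    (∃ H : Subgroup G, Cfsg.IsFrobeniusComplement H ∧
      (∀ x ∈ Cfsg.frobeniusKernel H, x ^ 2 = 1) ∧
      ∀ x ∈ Cfsg.frobeniusKernel H, ∀ y ∈ Cfsg.frobeniusKernel H, x * y = y * x) := by
  classical
  cases nonempty_fintype G
  cases nonempty_fintype Ω
  rcases isEmpty_or_nonempty Ω with he | ⟨⟨a₀⟩⟩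
  · have := hinv 1 (fun ω => (he.false ω).elim)
    rw [orderOf_one] at this
    norm_num at this
  set f : G → ℤ := fun g => ∑ a : Ω, if g • a = a then 1 else 0 with hf
  set n : ℤ := (Fintype.card Ω : ℤ) with hn
  have hf0 : ∀ g, 0 ≤ f g := fun g => Finset.sum_nonneg fun a _ => by split_ifs <;> norm_num
  have hfn : ∀ g, f g ≤ n := fun g => by
    rw [hn, ← Finset.card_univ, Finset.cast_card]
    exact Finset.sum_le_sum fun a _ => by split_ifs <;> norm_num
  have hder : ∀ g, f g = 0 → ∀ ω : Ω, g • ω ≠ ω := by
    intro g hg ω hω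
    have := (Finset.sum_eq_zero_iff_of_nonneg fun a _ => by split_ifs <;> norm_num).1 hg ω
      (Finset.mem_univ ω)
    simp [hω] at this
  have hsum : ∑ g : G, f g = (Fintype.card G : ℤ) := by
    have h1 := MulAction.sum_card_fixedBy_eq_card_orbits_mul_card_group G Ω
    haveI : Subsingleton (MulAction.orbitRel.Quotient G Ω) := ⟨fun x y => by
      induction x using Quotient.inductionOn'
      induction y using Quotient.inductionOn'
      exact Quotient.sound' (MulAction.mem_orbit_iff.2 (MulAction.exists_smul_eq G _ _))⟩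
    haveI : Nonempty (MulAction.orbitRel.Quotient G Ω) := ⟨Quotient.mk'' a₀⟩
    rw [Fintype.card_eq_one_iff.2 ⟨Quotient.mk'' a₀, fun y => Subsingleton.elim _ _⟩, one_mul] at h1
    rw [← h1, Nat.cast_sum]
    refine Finset.sum_congr rfl fun g _ => ?_
    simp only [hf]
    rw [Finset.sum_boole, Nat.cast_inj]
    rw [Fintype.card_subtype]
    simp [MulAction.mem_fixedBy]
  have hle : ∑ g : G, f (g * g) ≤ ∑ g : G, f g * f g := by
    calc ∑ g : G, f (g * g)
        = ∑ a : Ω, ∑ b : Ω, ∑ g : G, if g • a = b ∧ g • b = a then 1 else 0 := by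
          simp only [hf]
          rw [Finset.sum_comm]
          refine Finset.sum_congr rfl fun a _ => ?_
          rw [Finset.sum_comm]
          refine Finset.sum_congr rfl fun g _ => ?_
          rw [Finset.sum_eq_single (g • a) (fun b _ hb => if_neg fun h => hb h.1.symm)
            (fun h => absurd (Finset.mem_univ _) h), mul_smul]
          simp
      _ ≤ ∑ a : Ω, ∑ b : Ω, ∑ g : G, if g • a = a ∧ g • b = b then 1 else 0 := by
          refine Finset.sum_le_sum fun a _ => Finset.sum_le_sum fun b _ => ?_
          rw [Finset.sum_boole, Finset.sum_boole, Nat.cast_le]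
          by_cases hex : ∃ g₀ : G, g₀ • a = b ∧ g₀ • b = a
          · obtain ⟨g₀, h1, h2⟩ := hex
            refine Finset.card_le_card_of_injOn (fun g => g₀⁻¹ * g) (fun g hg => ?_)
              (fun x _ y _ h => mul_left_cancel h)
            simp only [Finset.coe_filter, Finset.mem_univ, true_and, Set.mem_setOf_eq] at hg ⊢
            exact ⟨by rw [mul_smul, hg.1, ← h1, inv_smul_smul],
              by rw [mul_smul, hg.2, ← h2, inv_smul_smul]⟩
          · rw [Finset.filter_false_of_mem fun g _ h => hex ⟨g, h⟩]
            exact Nat.zero_le _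
      _ = ∑ g : G, f g * f g := by
          simp only [hf, Finset.sum_mul_sum]
          symm
          rw [Finset.sum_comm]
          refine Finset.sum_congr rfl fun a _ => ?_
          rw [Finset.sum_comm]
          refine Finset.sum_congr rfl fun b _ => Finset.sum_congr rfl fun g _ => ?_
          rw [ite_mul, one_mul, zero_mul, ← ite_and]
  have hlow : ∑ g : G, (if f g = 0 then n else f g) ≤ ∑ g : G, f (g * g) := by
    refine Finset.sum_le_sum fun g _ => ?_
    split_ifs with h
    · have h2 : g * g = 1 := by
        rw [← pow_two, ← hinv g (hder g h)]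
        exact pow_orderOf_eq_one g
      rw [h2, hn, hf, ← Finset.card_univ, Finset.cast_card]
      exact Finset.sum_le_sum fun a _ => by simp
    · refine Finset.sum_le_sum fun a _ => ?_
      by_cases ha : g • a = a
      · rw [if_pos ha, if_pos (by rw [mul_smul, ha, ha])]
      · rw [if_neg ha]; split_ifs <;> norm_num
  have hzero : ∑ g : G, (if f g = 0 then 0 else -((f g - 1) * (f g - n))) ≤ 0 := by
    have he : ∀ g : G, (if f g = 0 then (0 : ℤ) else -((f g - 1) * (f g - n))) =
        (if f g = 0 then n else f g) - f g * f g + n * f g - n := fun g => by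
      split_ifs with h
      · rw [h]; ring
      · ring
    rw [Finset.sum_congr rfl fun g _ => he g, Finset.sum_sub_distrib, Finset.sum_add_distrib,
      Finset.sum_sub_distrib, ← Finset.mul_sum, hsum, Finset.sum_const, Finset.card_univ, nsmul_eq_mul]
    linarith
  have hpt : ∀ g : G, g ≠ 1 → f g = 0 ∨ f g = 1 := by
    intro g hg
    have hnn : ∀ x : G, 0 ≤ (if f x = 0 then (0 : ℤ) else -((f x - 1) * (f x - n))) := fun x => by
      split_ifs with h
      · exact le_rfl
      · have h1 : 1 ≤ f x := by have := hf0 x; omega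
        nlinarith [hfn x]
    have h0 := (Finset.sum_eq_zero_iff_of_nonneg fun x _ => hnn x).1
      (le_antisymm hzero (Finset.sum_nonneg fun x _ => hnn x)) g (Finset.mem_univ g)
    by_cases h : f g = 0
    · exact Or.inl h
    rw [if_neg h, neg_eq_zero, mul_eq_zero] at h0
    rcases h0 with h0 | h0
    · exact Or.inr (by linarith)
    · refine absurd (FaithfulSMul.eq_of_smul_eq_smul (α := Ω) fun ω => ?_) hg
      rw [one_smul]
      by_contra hω
      have hlt : f g < n := by
        rw [hn, ← Finset.card_univ, Finset.cast_card]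
        exact Finset.sum_lt_sum (fun a _ => by split_ifs <;> norm_num)
          ⟨ω, Finset.mem_univ ω, by rw [if_neg hω]; norm_num⟩
      linarith
  set H := MulAction.stabilizer G a₀ with hH
  have hconj : ∀ g : G, ∀ ω : Ω, g • ω = ω → ∃ x : G, x⁻¹ * g * x ∈ H := fun g ω h => by
    obtain ⟨x, hx⟩ := MulAction.exists_smul_eq G a₀ ω
    exact ⟨x, by rw [hH, MulAction.mem_stabilizer_iff, mul_smul, mul_smul, hx, h, ← hx, inv_smul_smul]⟩
  by_cases hbot : H = ⊥
  · have hsq : ∀ g : G, g ^ 2 = 1 := fun g => by
      by_cases hg : g = 1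
      · rw [hg, one_pow]
      rw [← hinv g fun ω h => hg ?_]
      · exact pow_orderOf_eq_one g
      · obtain ⟨x, hx⟩ := hconj g ω h
        rw [hbot, Subgroup.mem_bot] at hx
        simpa [mul_eq_one_iff_eq_inv, inv_mul_eq_iff_eq_mul] using hx
    refine Or.inl ⟨⟨⟨fun x y => ?_⟩⟩, hsq⟩
    have hinv' : ∀ z : G, z⁻¹ = z := fun z => inv_eq_of_mul_eq_one_right (by rw [← pow_two, hsq])
    rw [← hinv' (x * y), mul_inv_rev, hinv', hinv']
  refine Or.inr ⟨H, ?_⟩
  have hfrob : Cfsg.IsFrobeniusComplement H := by
    refine ⟨hbot, fun htop => hbot ?_, fun g hg => ?_⟩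
    · rw [Subgroup.eq_bot_iff_forall]
      intro x _
      refine FaithfulSMul.eq_of_smul_eq_smul (α := Ω) fun ω => ?_
      obtain ⟨y, rfl⟩ := MulAction.exists_smul_eq G a₀ ω
      have hy : ∀ z : G, z • a₀ = a₀ := fun z => by
        have : z ∈ H := htop ▸ Subgroup.mem_top z
        exact this
      rw [one_smul, hy y, hy x]
    · rw [Subgroup.eq_bot_iff_forall]
      rintro x ⟨hx1, hx2⟩
      by_contra hne
      change x ∈ MulAut.conj g • H at hx2
      rw [Subgroup.mem_pointwise_smul_iff_inv_smul_mem, MulAut.smul_def,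
        MulAut.conj_inv_apply, hH, MulAction.mem_stabilizer_iff, mul_smul, mul_smul,
        inv_smul_eq_iff] at hx2
      have h2 : 2 ≤ f x := by
        calc (2 : ℤ) = ∑ a ∈ ({a₀, g • a₀} : Finset Ω), if x • a = a then 1 else 0 := by
              have hga : a₀ ≠ g • a₀ := fun h => hg (hH ▸ MulAction.mem_stabilizer_iff.2 h.symm)
              rw [Finset.sum_pair hga, if_pos (MulAction.mem_stabilizer_iff.1 hx1), if_pos hx2]
              norm_num
          _ ≤ f x := Finset.sum_le_sum_of_subset_of_nonneg (Finset.subset_univ _)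
              fun a _ _ => by split_ifs <;> norm_num
      rcases hpt x hne with h | h <;> omega
  have hsq : ∀ x ∈ Cfsg.frobeniusKernel H, x ^ 2 = 1 := by
    intro x hx
    rcases hx with rfl | hx
    · exact one_pow 2
    · rw [← hinv x fun ω h => ?_]
      · exact pow_orderOf_eq_one x
      · obtain ⟨y, hy⟩ := hconj x ω h
        refine hx y ?_
        rw [Subgroup.mem_pointwise_smul_iff_inv_smul_mem, MulAut.smul_def, MulAut.conj_inv_apply]
        exact hy
  obtain ⟨N, hN, -⟩ := Cfsg.Agent.S0035.result H hfrob
  refine ⟨hfrob, hsq, fun x hx y hy => ?_⟩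
  have hxy : x * y ∈ Cfsg.frobeniusKernel H := by
    rw [← hN] at hx hy ⊢
    exact N.mul_mem hx hy
  have hi : ∀ z ∈ Cfsg.frobeniusKernel H, z⁻¹ = z := fun z hz =>
    inv_eq_of_mul_eq_one_right (by rw [← pow_two, hsq z hz])
  rw [← hi _ hxy, mul_inv_rev, hi x hx, hi y hy]

end Cfsg.Agent.S3555
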