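import Cfsg.Statements.S3556
import Mathlib
import Cfsg.Agent.Lib.Recog.MinimalNormal
-- import your own Cfsg.Agent.* helpers here

set_option autoImplicit false
open Cfsg

namespace Cfsg.Agent.S3556

/-- Jordan: a subgroup meeting every conjugacy class is everything. -/
theorem eq_top_of_forall_conj {T : Type*} [Group T] [Finite T] (S : Subgroup T)
    (h : ∀ t : T, ∃ g : T, g * t * g⁻¹ ∈ S) : S = ⊤ := by
  classical
  haveI := Fintype.ofFinite T
  haveI : Fintype (T ⧸ S) := Fintype.ofFinite _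
  haveI : Fintype (Quotient (MulAction.orbitRel T (T ⧸ S))) := Fintype.ofFinite _
  have hB := MulAction.sum_card_fixedBy_eq_card_orbits_mul_card_group T (T ⧸ S)
  have hone : Fintype.card (Quotient (MulAction.orbitRel T (T ⧸ S))) ≤ 1 :=
    Fintype.card_le_one_iff.mpr fun x y => by
      refine Quotient.inductionOn₂ x y fun a b => Quotient.sound ?_
      exact MulAction.mem_orbit_iff.mpr (MulAction.exists_smul_eq T b a)
  have hge : ∀ t : T, 1 ≤ Fintype.card (MulAction.fixedBy (T ⧸ S) t) := by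
    intro t
    obtain ⟨g, hg⟩ := h t
    refine Fintype.card_pos_iff.mpr ⟨⟨((g⁻¹ : T) : T ⧸ S), ?_⟩⟩
    show t • ((g⁻¹ : T) : T ⧸ S) = ((g⁻¹ : T) : T ⧸ S)
    rw [MulAction.Quotient.smul_coe]
    refine QuotientGroup.eq.mpr ?_
    have := S.inv_mem hg
    simpa [mul_assoc] using this
  by_contra hS
  have hidx : 1 < S.index := by
    have h0 := S.index_ne_zero_of_finite
    have h1 := mt Subgroup.index_eq_one.mp hS
    omega
  have h1 : 1 < Fintype.card (MulAction.fixedBy (T ⧸ S) (1 : T)) := by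
    rw [Fintype.card_congr (Equiv.subtypeUnivEquiv fun x => by simp [MulAction.mem_fixedBy]), ← Nat.card_eq_fintype_card]
    exact hidx
  have hlt : ∑ _t : T, 1 < ∑ t : T, Fintype.card (MulAction.fixedBy (T ⧸ S) t) :=
    Finset.sum_lt_sum (fun t _ => hge t) ⟨1, Finset.mem_univ _, h1⟩
  rw [hB, Finset.sum_const, Finset.card_univ, smul_eq_mul, mul_one] at hlt
  nlinarith

/-- A subgroup of a power of a simple group meeting every class outside a prime is everything. -/
theorem power_top {T : Type*} [Group T] [Finite T] [IsSimpleGroup T] (p : ℕ) {k : ℕ} (hk : 2 ≤ k) (y : T)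
    (hy : ¬ ∃ j : ℕ, orderOf y = p ^ j) (S : Subgroup (Fin k → T)) (hp : p.Prime)
    (h : ∀ x : Fin k → T, (¬ ∃ j : ℕ, orderOf x = p ^ j) → ∃ g : Fin k → T, g * x * g⁻¹ ∈ S) : S = ⊤ := by
  have hnp : ∀ (x : Fin k → T) (j : Fin k), x j = y → ¬ ∃ n : ℕ, orderOf x = p ^ n := by
    rintro x j hxj ⟨n, hn⟩
    have hd : orderOf y ∣ orderOf x := by
      rw [← hxj]; exact orderOf_map_dvd (Pi.evalMonoidHom (fun _ => T) j) x
    rw [hn, Nat.dvd_prime_pow hp] at hd
    obtain ⟨m, -, hm⟩ := hd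
    exact hy ⟨m, hm⟩
  have hy1 : y ≠ 1 := fun e => hy ⟨0, by rw [e, orderOf_one, pow_zero]⟩
  have hproj : ∀ i : Fin k, ∀ t : T, ∃ s ∈ S, s i = t := by
    intro i
    have ht := eq_top_of_forall_conj (S.map (Pi.evalMonoidHom (fun _ => T) i)) fun t => by
      haveI : Nontrivial (Fin k) := Fin.nontrivial_iff_two_le.mpr hk
      obtain ⟨j, hj⟩ := exists_ne i
      obtain ⟨g, hg⟩ := h (Function.update (fun _ => t) j y) (hnp _ j (Function.update_self ..))
      exact ⟨g i, ⟨_, hg, by simp [Function.update_of_ne hj.symm]⟩⟩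
    intro t
    obtain ⟨s, hs, hst⟩ := (ht ▸ Subgroup.mem_top t : t ∈ S.map (Pi.evalMonoidHom (fun _ => T) i))
    exact ⟨s, hs, hst⟩
  have hall : ∀ (i : Fin k) (t : T), Pi.mulSingle i t ∈ S := by
    intro i
    let U : Subgroup T := S.comap (MonoidHom.mulSingle (fun _ : Fin k => T) i)
    haveI hUn : U.Normal := ⟨fun u hu t => by
      obtain ⟨s, hs, hst⟩ := hproj i t
      have hm : s * Pi.mulSingle i u * s⁻¹ ∈ S := S.mul_mem (S.mul_mem hs hu) (S.inv_mem hs)
      show Pi.mulSingle i (t * u * t⁻¹) ∈ S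
      convert hm using 1
      funext l
      by_cases hl : l = i
      · subst hl; simp [hst]
      · simp [Pi.mulSingle_eq_of_ne hl]⟩
    obtain ⟨g, hg⟩ := h (Pi.mulSingle i y) (hnp _ i (by simp))
    have hU : g i * y * (g i)⁻¹ ∈ U := by
      show Pi.mulSingle i (g i * y * (g i)⁻¹) ∈ S
      convert hg using 1
      funext l
      by_cases hl : l = i
      · subst hl; simp
      · simp [Pi.mulSingle_eq_of_ne hl]
    rcases hUn.eq_bot_or_eq_top with e | e
    · rw [e, Subgroup.mem_bot, mul_inv_eq_one, mul_eq_left] at hU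
      exact absurd hU hy1
    · intro t; exact (e ▸ Subgroup.mem_top t : t ∈ U)
  exact (Subgroup.eq_top_iff' S).mpr fun x => Subgroup.pi_mem_of_mulSingle_mem x fun i => hall i (x i)

/-- Let G act faithfully and primitively on a finite set with at least two points, and suppose that for some fixed prime p every element of G fixing no point has order a power of p. Then G is of affine type (it has a regular normal subgroup that is an elementary abelian r-group for some prime r) or almost simple (it has a non-abelian simple normal subgroup with trivial centralizer). -/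
theorem result {G Ω : Type*} [Group G] [Finite G] [MulAction G Ω] [FaithfulSMul G Ω] [Finite Ω]
    (hprim : MulAction.IsPreprimitive G Ω) (hΩ : 2 ≤ Nat.card Ω) (p : ℕ) (hp : p.Prime)
    (hder : ∀ g : G, (∀ ω : Ω, g • ω ≠ ω) → ∃ k : ℕ, orderOf g = p ^ k) :
    (∃ (N : Subgroup G) (r : ℕ), r.Prime ∧ N.Normal ∧ Cfsg.IsElementaryAbelian r N ∧
      MulAction.IsPretransitive N Ω ∧ ∀ a : Ω, MulAction.stabilizer N a = ⊥) ∨
    (∃ T : Subgroup G, T.Normal ∧ IsSimpleGroup ↥T ∧ ¬ IsMulCommutative ↥T ∧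
      Subgroup.centralizer (T : Set G) = ⊥) := by
  classical
  haveI := hprim
  haveI hne : Nontrivial Ω := Finite.one_lt_card_iff_nontrivial.mp hΩ
  obtain ⟨a⟩ : Nonempty Ω := inferInstance
  haveI : Nontrivial G := by
    by_contra h
    rw [not_nontrivial_iff_subsingleton] at h
    obtain ⟨b, hb⟩ := exists_ne a
    obtain ⟨g, hg⟩ := MulAction.exists_smul_eq G a b
    exact hb (by rw [← hg, Subsingleton.elim g 1, one_smul])
  obtain ⟨M, ⟨hMn, hMb⟩, hmin⟩ := wellFounded_lt.has_min {V : Subgroup G | V.Normal ∧ V ≠ ⊥}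
    ⟨⊤, inferInstance, top_ne_bot⟩
  haveI : M.Normal := hMn
  have hmin' : ∀ K : Subgroup G, K.Normal → K ≤ M → K = ⊥ ∨ K = M := fun K hK hKM =>
    or_iff_not_imp_left.mpr fun hKb => by
      by_contra h
      exact hmin K ⟨hK, hKb⟩ (lt_of_le_of_ne hKM h)
  have htr : ∀ K : Subgroup G, K.Normal → K ≠ ⊥ → MulAction.IsPretransitive K Ω := by
    intro K hK hKb
    haveI := hK
    refine MulAction.IsQuasiPreprimitive.isPretransitive_of_normal fun h => hKb ?_
    rw [Subgroup.eq_bot_iff_forall]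
    intro x hx
    refine eq_of_smul_eq_smul (α := Ω) fun b => ?_
    rw [one_smul]
    exact (h ▸ Set.mem_univ b : b ∈ MulAction.fixedPoints K Ω) ⟨x, hx⟩
  have hsemi : ∀ K : Subgroup G, MulAction.IsPretransitive K Ω → ∀ c : G, (∀ x ∈ K, x * c = c * x) →
      ∀ b : Ω, c • b = b → c = 1 := by
    intro K hK c hc b hb
    refine eq_of_smul_eq_smul (α := Ω) fun d => ?_
    obtain ⟨x, hx⟩ := MulAction.exists_smul_eq K b d
    have hx' : (x : G) • b = d := hx
    rw [one_smul, ← hx', ← mul_smul, ← hc x x.2, mul_smul, hb]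
  have hMt := htr M hMn hMb
  by_cases hab : IsMulCommutative M
  · left
    have hMc : ∀ x ∈ M, ∀ y ∈ M, x * y = y * x := fun x hx y hy =>
      congrArg Subtype.val (hab.is_comm.comm ⟨x, hx⟩ ⟨y, hy⟩)
    haveI : Nontrivial M := (Subgroup.nontrivial_iff_ne_bot M).mpr hMb
    obtain ⟨r, hr, hrd⟩ := Nat.exists_prime_and_dvd (n := Nat.card M) Finite.one_lt_card.ne'
    haveI := Fact.mk hr
    refine ⟨M, r, hr, hMn, ⟨hab, fun x hx => ?_⟩, hMt, fun b => ?_⟩
    · let P : Subgroup G :=
        { carrier := {y | y ∈ M ∧ y ^ r = 1}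
          one_mem' := ⟨M.one_mem, one_pow r⟩
          mul_mem' := fun {u v} hu hv => ⟨M.mul_mem hu.1 hv.1, by
            rw [Commute.mul_pow (hMc u hu.1 v hv.1), hu.2, hv.2, one_mul]⟩
          inv_mem' := fun {u} hu => ⟨M.inv_mem hu.1, by rw [inv_pow, hu.2, inv_one]⟩ }
      have hPn : P.Normal := ⟨fun y hy g => ⟨hMn.conj_mem y hy.1 g, by rw [conj_pow, hy.2]; group⟩⟩
      rcases hmin' P hPn (fun y hy => hy.1) with h | h
      · obtain ⟨y, hy⟩ := exists_prime_orderOf_dvd_card' (G := M) r hrd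
        have hyP : (y : G) ∈ P := ⟨y.2, by rw [← hy, ← Subgroup.orderOf_coe, pow_orderOf_eq_one]⟩
        rw [h, Subgroup.mem_bot] at hyP
        rw [← Subgroup.orderOf_coe, hyP, orderOf_one] at hy
        exact absurd hy hr.one_lt.ne
      · exact (h.symm ▸ hx : x ∈ P).2
    · rw [Subgroup.eq_bot_iff_forall]
      intro x hx
      exact Subtype.ext (hsemi M hMt x (fun y hy => hMc y hy x x.2) b hx)
  right
  obtain ⟨T, k, hk, hTs, hTna, ⟨e⟩⟩ := Cfsg.Agent.MinNormal.exists_power M hMb hmin' hab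
  haveI := hTs
  haveI := Fact.mk hp
  obtain ⟨y, hy⟩ : ∃ y : T, ¬ ∃ j : ℕ, orderOf y = p ^ j := by
    by_contra h
    push Not at h
    have hpT : IsPGroup p T := IsPGroup.iff_orderOf.mpr h
    haveI : Nontrivial T := hTs.toNontrivial
    haveI := hpT.center_nontrivial
    rcases (inferInstance : (Subgroup.center T).Normal).eq_bot_or_eq_top with hc | hc
    · rw [hc] at this; exact not_subsingleton (⊥ : Subgroup T) inferInstance
    · exact hTna ⟨⟨fun u v => (Subgroup.mem_center_iff.mp (hc ▸ Subgroup.mem_top v) u)⟩⟩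
  -- elements of M outside the prime fix a point
  have hfix : ∀ x : M, (¬ ∃ j : ℕ, orderOf x = p ^ j) → ∃ b : Ω, (x : G) • b = b := by
    intro x hx
    by_contra h
    push Not at h
    obtain ⟨j, hj⟩ := hder x h
    exact hx ⟨j, by rw [← hj, Subgroup.orderOf_coe]⟩
  set C := Subgroup.centralizer (M : Set G) with hC
  by_cases hCb : C = ⊥
  swap
  · exfalso
    have hCt := htr C inferInstance hCb
    let x : M := e (Pi.mulSingle ⟨0, hk⟩ y)
    have hxy : ¬ ∃ j : ℕ, orderOf x = p ^ j := by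
      rintro ⟨j, hj⟩
      rw [MulEquiv.orderOf_eq] at hj
      have := orderOf_map_dvd (Pi.evalMonoidHom (fun _ : Fin k => T) ⟨0, hk⟩) (Pi.mulSingle ⟨0, hk⟩ y)
      rw [hj, Pi.evalMonoidHom_apply, Pi.mulSingle_eq_same, Nat.dvd_prime_pow hp] at this
      obtain ⟨m, -, hm⟩ := this
      exact hy ⟨m, hm⟩
    obtain ⟨b, hb⟩ := hfix x hxy
    have := hsemi C hCt x (fun c hc => (Subgroup.mem_centralizer_iff.mp hc x x.2).symm) b hb
    exact hxy ⟨0, by rw [show x = 1 from Subtype.ext this, orderOf_one, pow_zero]⟩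
  -- the socle is simple
  have hk1 : k = 1 := by
    by_contra hne1
    let S : Subgroup (Fin k → T) := (MulAction.stabilizer M a).comap e.toMonoidHom
    have hS : S = ⊤ := by
      refine power_top p (by omega) y hy S hp fun x hx => ?_
      obtain ⟨b, hb⟩ := hfix (e x) (fun ⟨j, hj⟩ => hx ⟨j, by rwa [MulEquiv.orderOf_eq] at hj⟩)
      obtain ⟨m, hm⟩ := MulAction.exists_smul_eq M a b
      refine ⟨e.symm m⁻¹, ?_⟩
      show e (e.symm m⁻¹ * x * (e.symm m⁻¹)⁻¹) • a = a
      rw [map_mul, map_mul, map_inv e (e.symm m⁻¹), e.apply_symm_apply, inv_inv, mul_smul, mul_smul, hm,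
        show e x • b = b from hb, ← hm, inv_smul_smul]
    obtain ⟨b, hb⟩ := exists_ne a
    obtain ⟨m, hm⟩ := MulAction.exists_smul_eq M a b
    have : e.symm m ∈ S := hS ▸ Subgroup.mem_top _
    have h' : e (e.symm m) • a = a := this
    rw [e.apply_symm_apply, hm] at h'
    exact hb h'
  subst hk1
  let e' : T ≃* M := (MulEquiv.funUnique (Fin 1) T).symm.trans e
  exact ⟨M, hMn, MulEquiv.isSimpleGroup e'.symm, hab, hCb⟩

end Cfsg.Agent.S3556
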