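import Cfsg.Statements.S3557
import Cfsg.Agent.Lib.Perm.TwoClosedTwoSquares
-- import your own Cfsg.Agent.* helpers here

set_option autoImplicit false
open Cfsg

namespace Cfsg.Agent.S3557

/-- Let G act faithfully and transitively on a finite set with 2p² points, p a prime, and suppose G is 2-closed: every permutation of the set which, on each ordered pair of points, agrees with some element of G, is itself induced by an element of G. Then some element of G of prime order fixes no point. -/
theorem result {G Ω : Type*} [Group G] [Finite G] [MulAction G Ω] [FaithfulSMul G Ω] [Finite Ω]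
    (htrans : MulAction.IsPretransitive G Ω) (p : ℕ) (hp : p.Prime) (hcard : Nat.card Ω = 2 * p ^ 2)
    (hcl : ∀ σ : Equiv.Perm Ω, (∀ a b : Ω, ∃ g : G, σ a = g • a ∧ σ b = g • b) → ∃ g : G, ∀ a : Ω, σ a = g • a) :
    ∃ g : G, (orderOf g).Prime ∧ ∀ ω : Ω, g • ω ≠ ω := by
  classical
  haveI := Fact.mk hp
  haveI := htrans
  obtain ⟨S⟩ := (inferInstance : Nonempty (Sylow p G))
  set P : Subgroup G := (S : Subgroup G) with hP
  have hPp : IsPGroup p P := S.2
  have hdvd : ∀ x : Ω, p ^ 2 ∣ Nat.card (MulAction.orbit P x) := by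
    intro x
    have h1 : Nat.card G = 2 * p ^ 2 * Nat.card (MulAction.stabilizer G x) := by
      rw [← (MulAction.stabilizer G x).index_mul_card, MulAction.index_stabilizer_of_transitive, hcard]
    have h2 : Nat.card (MulAction.stabilizer P x) ∣ Nat.card (MulAction.stabilizer G x) := by
      have h := Subgroup.card_dvd_of_le (show (MulAction.stabilizer P x).map P.subtype ≤
        MulAction.stabilizer G x by rintro _ ⟨w, hw, rfl⟩; exact hw)
      rwa [Subgroup.card_map_of_injective P.subtype_injective] at h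
    obtain ⟨m, hm⟩ := IsPGroup.iff_card.1 (hPp.to_subgroup (MulAction.stabilizer P x))
    have h3 : p ^ (2 + m) ∣ Nat.card G := by
      rw [pow_add, h1, ← hm]
      exact mul_dvd_mul (dvd_mul_left _ _) h2
    have h4 := S.pow_dvd_card_of_pow_dvd_card h3
    rw [← (MulAction.stabilizer P x).index_mul_card, MulAction.index_stabilizer,
      ← Nat.card_coe_set_eq, pow_add, ← hm] at h4
    exact Nat.dvd_of_mul_dvd_mul_right Nat.card_pos h4
  haveI : Nonempty Ω := Nat.card_pos_iff.1 (by rw [hcard]; have := hp.pos; positivity) |>.1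
  obtain ⟨x₀⟩ := (inferInstance : Nonempty Ω)
  have hPne : (⊤ : Subgroup P) ≠ ⊥ := by
    intro h
    have h0 := hdvd x₀
    have h1 : Nat.card (MulAction.orbit P x₀) ∣ Nat.card P := by
      rw [Nat.card_coe_set_eq, ← MulAction.index_stabilizer]; exact Subgroup.index_dvd_card _
    have h2 := h0.trans h1
    rw [← Subgroup.card_top, h, Subgroup.card_bot, Nat.dvd_one] at h2
    exact absurd h2 (Nat.one_lt_pow two_ne_zero hp.one_lt).ne'
  obtain ⟨z, -, hzc, hzp⟩ := Cfsg.Agent.Perm.TwoClosedSq.exists_central hPp ⊤ hPne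
  by_cases hfpf : ∀ w : Ω, (z : G) • w ≠ w
  · exact ⟨z, by rw [Subgroup.orderOf_coe, hzp]; exact hp, hfpf⟩
  push Not at hfpf
  obtain ⟨b, hb⟩ := hfpf
  obtain ⟨a, ha⟩ : ∃ a : Ω, a ∉ MulAction.orbit P b := by
    by_contra hall
    push Not at hall
    have h1 : (z : G) = 1 := FaithfulSMul.eq_of_smul_eq_smul (α := Ω) fun y => by
      rw [one_smul]
      exact Cfsg.Agent.Perm.TwoClosedSq.fix_orbit
        (fun h hh => congrArg Subtype.val (Subgroup.mem_center_iff.1 hzc ⟨h, hh⟩)) hb (hall y)
    rw [← Subgroup.orderOf_coe, h1, orderOf_one] at hzp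
    exact hp.one_lt.ne hzp
  have hdis : ∀ x : Ω, x ∈ MulAction.orbit P a → x ∉ MulAction.orbit P b := fun x hxa hxb =>
    ha (MulAction.orbit_eq_iff.2 hxb ▸ MulAction.mem_orbit_symm.1 hxa)
  have hdisj : Disjoint (MulAction.orbit P a) (MulAction.orbit P b) :=
    Set.disjoint_left.2 hdis
  have hsum : (MulAction.orbit P a).ncard + (MulAction.orbit P b).ncard ≤ 2 * p ^ 2 := by
    rw [← Set.ncard_union_eq hdisj, ← hcard, ← Set.ncard_univ]
    exact Set.ncard_le_ncard (Set.subset_univ _)
  have hposa : 0 < (MulAction.orbit P a).ncard :=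
    (Set.ncard_pos (Set.toFinite _)).2 ⟨a, MulAction.mem_orbit_self a⟩
  have hposb : 0 < (MulAction.orbit P b).ncard :=
    (Set.ncard_pos (Set.toFinite _)).2 ⟨b, MulAction.mem_orbit_self b⟩
  have ga := Nat.le_of_dvd hposa (Nat.card_coe_set_eq (MulAction.orbit P a) ▸ hdvd a)
  have gb := Nat.le_of_dvd hposb (Nat.card_coe_set_eq (MulAction.orbit P b) ▸ hdvd b)
  have hcov : ∀ x : Ω, x ∈ MulAction.orbit P a ∨ x ∈ MulAction.orbit P b := by
    have h : MulAction.orbit P a ∪ MulAction.orbit P b = Set.univ :=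
      Set.eq_of_subset_of_ncard_le (Set.subset_univ _)
        (by rw [Set.ncard_union_eq hdisj, Set.ncard_univ, hcard]; omega)
    exact fun x => Set.eq_univ_iff_forall.1 h x
  exact Cfsg.Agent.Perm.TwoClosedSq.exists_derangement p P hPp hcl a b hcov
    (by rw [Nat.card_coe_set_eq]; omega) (by rw [Nat.card_coe_set_eq]; omega) hdis z hzc hzp hb

end Cfsg.Agent.S3557
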