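import Cfsg.Statements.S3560
import Mathlib

set_option autoImplicit false
open Cfsg

namespace Cfsg.Agent.S3560

open scoped Pointwise

theorem aux {α : Type*} [DecidableEq α] (u v a b : α) (h : v ≠ u) (h' : b ≠ a) :
    (Equiv.swap (Equiv.swap u a v) b * Equiv.swap u a) u = a ∧
    (Equiv.swap (Equiv.swap u a v) b * Equiv.swap u a) v = b := by
  refine ⟨?_, by simp⟩
  rw [Equiv.Perm.mul_apply, Equiv.swap_apply_left]
  refine Equiv.swap_apply_of_ne_of_ne ?_ h'.symm
  intro hc
  apply h
  have := congrArg (Equiv.swap u a) hc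
  simpa using this.symm


/-- Let K be a finite group isomorphic to a direct product of r ≥ 2 groups all of the same order m ≥ 3. Then K is not a B-group: there is a primitive but not doubly transitive permutation group (on some finite set) containing a regular subgroup isomorphic to K. -/
theorem result {K : Type*} [Group K] [Finite K] {ι : Type*} [Fintype ι] (F : ι → Type*) [∀ i, Group (F i)]
    (hr : 2 ≤ Fintype.card ι) (m : ℕ) (hm : 3 ≤ m) (hcard : ∀ i, Nat.card (F i) = m) (e : K ≃* (∀ i, F i)) :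
    ∃ (n : ℕ) (G R : Subgroup (Equiv.Perm (Fin n))), R ≤ G ∧ Nonempty (↥R ≃* K) ∧
      MulAction.IsPretransitive ↥R (Fin n) ∧ (∀ a : Fin n, MulAction.stabilizer ↥R a = ⊥) ∧
      MulAction.IsPreprimitive ↥G (Fin n) ∧ ¬ MulAction.IsMultiplyPretransitive ↥G (Fin n) 2 := by
  classical
  let φ : ∀ i, F i ≃ Fin m := fun i => by
    haveI : Finite (F i) := Nat.finite_of_card_ne_zero (by rw [hcard]; omega)
    exact (Finite.equivFin (F i)).trans (finCongr (hcard i))
  let n := Fintype.card (ι → Fin m)
  let ψ : Fin n ≃ (ι → Fin m) := (Fintype.equivFin _).symm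
  let θ : K ≃ Fin n := (e.toEquiv.trans (Equiv.piCongrRight φ)).trans ψ.symm
  let adj : (ι → Fin m) → (ι → Fin m) → Prop := fun x y => ∃ i, x i ≠ y i ∧ ∀ j, j ≠ i → x j = y j
  let G : Subgroup (Equiv.Perm (Fin n)) :=
    { carrier := {σ | ∀ a b, adj (ψ (σ a)) (ψ (σ b)) ↔ adj (ψ a) (ψ b)}
      mul_mem' := fun {σ τ} hσ hτ a b => (hσ (τ a) (τ b)).trans (hτ a b)
      one_mem' := fun a b => Iff.rfl
      inv_mem' := fun {σ} hσ a b => by
        have := hσ (σ⁻¹ a) (σ⁻¹ b)
        simpa using this.symm }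
  let L : K →* Equiv.Perm (Fin n) :=
    { toFun := fun k => (θ.symm.trans (Equiv.mulLeft k)).trans θ
      map_one' := Equiv.ext fun a => by simp
      map_mul' := fun k l => Equiv.ext fun a => by simp [mul_assoc] }
  have hLap : ∀ k a i, ψ (L k a) i = φ i (e k i * (φ i).symm (ψ a i)) := fun k a i => by
    simp [L, θ]
  have hmemG : ∀ (π : ι → Equiv.Perm (Fin m)) (s : Equiv.Perm ι),
      (ψ.trans ((Equiv.arrowCongr s (Equiv.refl _)).trans (Equiv.piCongrRight π))).trans ψ.symm ∈ G := by
    intro π s a b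
    simp only [Equiv.trans_apply, Equiv.apply_symm_apply, adj, Equiv.piCongrRight_apply, Pi.map_apply,
      Equiv.arrowCongr_apply, Function.comp_apply, Equiv.refl_apply, ne_eq, EmbeddingLike.apply_eq_iff_eq]
    constructor
    · rintro ⟨i, h1, h2⟩
      refine ⟨s.symm i, h1, fun j hj => ?_⟩
      have := h2 (s j) (fun h => hj (by rw [← h, Equiv.symm_apply_apply]))
      simpa using this
    · rintro ⟨i, h1, h2⟩
      refine ⟨s i, by simpa using h1, fun j hj => h2 _ fun h => hj (by rw [← h, Equiv.apply_symm_apply])⟩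
  have hRG : L.range ≤ G := by
    rintro _ ⟨k, rfl⟩ a b
    simp only [adj, hLap, ne_eq, EmbeddingLike.apply_eq_iff_eq, mul_right_inj]
  have hLt : ∀ a b : Fin n, ∃ g ∈ L.range, g a = b := fun a b =>
    ⟨L (θ.symm b * (θ.symm a)⁻¹), ⟨_, rfl⟩, by simp [L]⟩
  have hLi : Function.Injective L := by
    intro k l h
    have := DFunLike.congr_fun h (θ 1)
    simpa [L] using this
  refine ⟨n, G, L.range, hRG, ⟨(MonoidHom.ofInjective hLi).symm⟩, ⟨fun a b => ?_⟩, fun a => ?_, ?_, ?_⟩
  · obtain ⟨g, hg, h⟩ := hLt a b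
    exact ⟨⟨g, hg⟩, h⟩
  · rw [Subgroup.eq_bot_iff_forall]
    rintro ⟨_, k, rfl⟩ h
    have h' : L k a = a := h
    have hk : k = 1 := by
      have h2 : θ (k * θ.symm a) = a := h'
      rw [← Equiv.eq_symm_apply, mul_eq_right] at h2
      exact h2
    refine Subtype.ext ?_
    show L k = 1
    rw [hk, map_one]
  · haveI : MulAction.IsPretransitive G (Fin n) := ⟨fun a b => by
      obtain ⟨g, hg, h⟩ := hLt a b
      exact ⟨⟨g, hRG hg⟩, h⟩⟩
    refine { isTrivialBlock_of_isBlock := fun {B} hB => ?_ }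
    by_contra hnt
    simp only [MulAction.IsTrivialBlock, not_or, Set.not_subsingleton_iff] at hnt
    obtain ⟨⟨x, hx, y, hy, hxy⟩, huniv⟩ := hnt
    have hfixB : ∀ (g : Equiv.Perm (Fin n)), g ∈ G → ∀ p ∈ B, g p ∈ B → ∀ q ∈ B, g q ∈ B := by
      intro g hg p hp hgp q hq
      have : ((⟨g, hg⟩ : G) • B) = B := hB.smul_eq_of_mem hp hgp
      rw [← this]
      exact Set.smul_mem_smul_set hq
    -- two adjacent points in B
    obtain ⟨p, q, hp, hq, i, hpi, hpq⟩ : ∃ p q, p ∈ B ∧ q ∈ B ∧ ∃ i, ψ p i ≠ ψ q i ∧ ∀ j, j ≠ i → ψ p j = ψ q j := by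
      obtain ⟨i, hi⟩ := Function.ne_iff.mp (ψ.injective.ne hxy)
      obtain ⟨c, hc⟩ : ∃ c, c ∉ ({ψ x i, ψ y i} : Finset (Fin m)) := by
        by_contra h; push Not at h
        have := Finset.card_le_card (fun c (_ : c ∈ (Finset.univ : Finset (Fin m))) => h c)
        have h2 := Finset.card_le_two (a := ψ x i) (b := ψ y i)
        rw [Finset.card_univ, Fintype.card_fin] at this
        omega
      simp only [Finset.mem_insert, Finset.mem_singleton, not_or] at hc
      let π : ι → Equiv.Perm (Fin m) := fun j => if j = i then Equiv.swap (ψ y i) c else 1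
      set g := (ψ.trans ((Equiv.arrowCongr (Equiv.refl ι) (Equiv.refl _)).trans (Equiv.piCongrRight π))).trans ψ.symm
      have hgx : g x = x := by
        simp only [g, Equiv.trans_apply, Equiv.symm_apply_eq]
        funext j
        by_cases hj : j = i
        · subst hj; simp [π, Equiv.swap_apply_of_ne_of_ne hi (Ne.symm hc.1)]
        · simp [π, hj]
      refine ⟨y, g y, hy, hfixB g (hmemG π _) x hx (hgx.symm ▸ hx) y hy, i, ?_, fun j hj => ?_⟩
      · simpa [g, π] using Ne.symm hc.2
      · simp [g, π, hj]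
    -- B is closed under adjacency
    have hstep : ∀ p q, p ∈ B → q ∈ B → adj (ψ p) (ψ q) → ∀ w, adj (ψ p) (ψ w) → w ∈ B := by
      rintro p q hp hq ⟨i, hi1, hi2⟩ w ⟨j, hj1, hj2⟩
      let s := Equiv.swap i j
      let π : ι → Equiv.Perm (Fin m) := fun k => if k = j then
        Equiv.swap (Equiv.swap (ψ p i) (ψ p j) (ψ q i)) (ψ w j) * Equiv.swap (ψ p i) (ψ p j)
        else Equiv.swap (ψ p (s k)) (ψ p k)
      obtain ⟨k1, k2⟩ := aux (ψ p i) (ψ q i) (ψ p j) (ψ w j) hi1.symm hj1.symm
      set g := (ψ.trans ((Equiv.arrowCongr s (Equiv.refl _)).trans (Equiv.piCongrRight π))).trans ψ.symm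
      have hsj : s j = i := Equiv.swap_apply_right i j
      have hgp : g p = p := by
        simp only [g, Equiv.trans_apply, Equiv.symm_apply_eq]
        funext k
        by_cases hk : k = j
        · subst hk; simpa [π, s, Equiv.symm_swap, hsj] using k1
        · simp [π, hk, s, Equiv.symm_swap]
      have hgq : g q = w := by
        simp only [g, Equiv.trans_apply, Equiv.symm_apply_eq]
        funext k
        by_cases hk : k = j
        · subst hk; simpa [π, s, Equiv.symm_swap, hsj] using k2
        · have hne : s k ≠ i := fun h => hk (by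
            have := congrArg s h; simpa [s] using this)
          simp [π, hk, s, Equiv.symm_swap, ← hi2 _ hne, hj2 k hk]
      exact hgq ▸ hfixB g (hmemG π s) p hp (hgp.symm ▸ hp) q hq
    have hclosed : ∀ d : ℕ, ∀ w, (Finset.univ.filter fun k => ψ p k ≠ ψ w k).card = d →
        w ∈ B ∧ ∃ u ∈ B, adj (ψ w) (ψ u) := by
      intro d
      induction d with
      | zero =>
        intro w hw
        rw [Finset.card_eq_zero, Finset.filter_eq_empty_iff] at hw
        have : w = p := ψ.injective (funext fun k => (not_not.mp (hw (Finset.mem_univ k))).symm)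
        subst this
        exact ⟨hp, q, hq, i, hpi, hpq⟩
      | succ d ih =>
        intro w hw
        obtain ⟨k, hk⟩ := Finset.card_pos.mp (hw ▸ Nat.succ_pos d : 0 < (Finset.univ.filter fun k => ψ p k ≠ ψ w k).card)
        rw [Finset.mem_filter] at hk
        set u := ψ.symm (Function.update (ψ w) k (ψ p k)) with hu
        have hd : (Finset.univ.filter fun l => ψ p l ≠ ψ u l) = (Finset.univ.filter fun l => ψ p l ≠ ψ w l).erase k := by
          ext l
          by_cases hl : l = k
          · subst hl; simp [hu]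
          · simp [hu, hl]
        obtain ⟨huB, v, hv, huv⟩ := ih u (by rw [hd, Finset.card_erase_of_mem (Finset.mem_filter.mpr ⟨Finset.mem_univ k, hk.2⟩), hw]; rfl)
        have hadj : adj (ψ u) (ψ w) := ⟨k, by simp [hu, hk.2], fun l hl => by simp [hu, hl]⟩
        refine ⟨hstep u v huB hv huv w hadj, u, huB, k, ?_, fun l hl => ?_⟩
        · simp [hu]; exact Ne.symm hk.2
        · simp [hu, hl]
    exact huniv (Set.eq_univ_of_forall fun w => (hclosed _ w rfl).1)
  · intro h
    have h2 : ∀ {a b c d : Fin n}, a ≠ b → c ≠ d → ∃ g : G, g • a = c ∧ g • b = d := MulAction.is_two_pretransitive_iff.mp h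
    obtain ⟨i, j, hij⟩ := Fintype.exists_pair_of_one_lt_card (show 1 < Fintype.card ι by omega)
    let z : ι → Fin m := fun _ => ⟨0, by omega⟩
    let x : ι → Fin m := Function.update z i ⟨1, by omega⟩
    let y : ι → Fin m := Function.update x j ⟨1, by omega⟩
    have hzx : ψ.symm z ≠ ψ.symm x := fun h => by
      have := congrFun (ψ.symm.injective h) i; simp [z, x] at this
    have hzy : ψ.symm z ≠ ψ.symm y := fun h => by
      have := congrFun (ψ.symm.injective h) j; simp [z, y] at this
    obtain ⟨⟨g, hg⟩, h0, h1⟩ := h2 hzx hzy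
    have hadj : adj (ψ (ψ.symm z)) (ψ (ψ.symm x)) := ⟨i, by simp [z, x], fun l hl => by simp [z, x, hl]⟩
    have := (hg (ψ.symm z) (ψ.symm x)).mpr hadj
    rw [show g (ψ.symm z) = ψ.symm z from h0, show g (ψ.symm x) = ψ.symm y from h1] at this
    obtain ⟨l, -, hl⟩ := this
    rcases eq_or_ne i l with rfl | hne
    · have := hl j hij.symm; simp [z, y] at this
    · have := hl i hne; simp [z, y, x, hij] at this

end Cfsg.Agent.S3560
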