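import Cfsg.Statements.S3572
import Cfsg.Agent.Lib.Perm.DihedralB.Main

set_option autoImplicit false
open Cfsg

namespace Cfsg.Agent.S3572

/-- A finite primitive permutation group containing a dihedral subgroup that acts regularly (transitively with trivial point stabilizers) is doubly transitive. -/
theorem result {G Ω : Type*} [Group G] [Finite G] [MulAction G Ω] [FaithfulSMul G Ω] [Finite Ω]
    (hprim : MulAction.IsPreprimitive G Ω) (D : Subgroup G) (m : ℕ) (hD : Nonempty (↥D ≃* DihedralGroup m))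
    (hDreg : MulAction.IsPretransitive ↥D Ω ∧ ∀ a : Ω, MulAction.stabilizer ↥D a = ⊥) :
    MulAction.IsMultiplyPretransitive G Ω 2 := by
  obtain ⟨e⟩ := hD
  haveI := hDreg.1
  obtain ⟨a⟩ : Nonempty Ω := by
    by_contra hne
    haveI : IsEmpty Ω := not_nonempty_iff.1 hne
    have htriv : ∀ g : G, g = 1 := fun g => FaithfulSMul.eq_of_smul_eq_smul (α := Ω) fun x => isEmptyElim x
    have : Nat.card ↥D = 1 := Nat.card_eq_one_iff_unique.2
      ⟨⟨fun x y => Subtype.ext ((htriv x).trans (htriv y).symm)⟩, inferInstance⟩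
    rw [Nat.card_congr e.toEquiv, DihedralGroup.nat_card] at this
    omega
  have hm : m ≠ 0 := by
    rintro rfl
    have h : 0 < Nat.card ↥D := Nat.card_pos
    rw [Nat.card_congr e.toEquiv, DihedralGroup.nat_card] at h
    exact lt_irrefl _ h
  haveI : NeZero m := ⟨hm⟩
  let ψ : DihedralGroup m ≃ Ω := Equiv.ofBijective (fun d => ((e.symm d : ↥D) : G) • a) ⟨fun d d' h => by
      have h1 : (e.symm d')⁻¹ * e.symm d ∈ MulAction.stabilizer ↥D a := by
        show (((e.symm d')⁻¹ * e.symm d : ↥D) : G) • a = a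
        rw [Subgroup.coe_mul, Subgroup.coe_inv, mul_smul]
        simp only at h
        rw [h, inv_smul_smul]
      rw [hDreg.2 a, Subgroup.mem_bot, inv_mul_eq_one] at h1
      exact (e.symm.injective h1).symm,
    fun x => by
      obtain ⟨d, hd⟩ := MulAction.exists_smul_eq ↥D a x
      exact ⟨e d, by show ((e.symm (e d) : ↥D) : G) • a = x; rw [e.symm_apply_apply]; exact hd⟩⟩
  letI : MulAction G (DihedralGroup m) := ψ.mulAction G
  have hact : ∀ (g : G) (x : DihedralGroup m), ψ (g • x) = g • ψ x := fun g x => ψ.apply_symm_apply _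
  have hleft : ∀ d : DihedralGroup m, ∃ g : G, ∀ x : DihedralGroup m, g • x = d * x := fun d =>
    ⟨((e.symm d : ↥D) : G), fun x => ψ.injective (by
      rw [hact]
      show ((e.symm d : ↥D) : G) • ((e.symm x : ↥D) : G) • a = ((e.symm (d * x) : ↥D) : G) • a
      rw [map_mul, Subgroup.coe_mul, mul_smul])⟩
  have key : ∀ {g g' : DihedralGroup m}, g ≠ 1 → g' ≠ 1 → Cfsg.Agent.Perm.DihedralB.Rel G g g' := by
    intro g g' hg hg'
    rcases eq_or_ne m 1 with rfl | h1
    · have h2 : ∀ x y : DihedralGroup 1, x ≠ 1 → y ≠ 1 → x = y := by decide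
      rw [h2 g g' hg hg']
      exact Cfsg.Agent.Perm.DihedralB.Rel.refl _
    · have hp : MulAction.IsPreprimitive G (DihedralGroup m) :=
        @MulAction.IsPreprimitive.of_surjective _ _ _ _ _ _ _ _ id
          ({ toFun := ψ.symm, map_smul' := fun g x => ψ.injective (by
              rw [hact, ψ.apply_symm_apply, ψ.apply_symm_apply]; rfl) } : MulActionHom (id : G → G) Ω (DihedralGroup m))
          hprim ψ.symm.surjective
      exact Cfsg.Agent.Perm.DihedralB.Regular.two_class ⟨hleft, hp, by omega⟩ hg hg'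
  rw [MulAction.is_two_pretransitive_iff]
  intro p q c d hpq hcd
  obtain ⟨x, rfl⟩ := ψ.surjective p
  obtain ⟨y, rfl⟩ := ψ.surjective q
  obtain ⟨z, rfl⟩ := ψ.surjective c
  obtain ⟨w, rfl⟩ := ψ.surjective d
  obtain ⟨g₁, hg₁⟩ := hleft x⁻¹
  obtain ⟨g₂, hg₂⟩ := hleft z
  obtain ⟨g₃, hg₃1, hg₃⟩ := key (g := x⁻¹ * y) (g' := z⁻¹ * w)
    (fun h => hpq (congrArg ψ (inv_mul_eq_one.1 h))) (fun h => hcd (congrArg ψ (inv_mul_eq_one.1 h)))
  refine ⟨g₂ * g₃ * g₁, ?_, ?_⟩ <;> rw [← hact] <;> congr 1 <;> rw [mul_smul, mul_smul, hg₁]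
  · rw [inv_mul_cancel, hg₃1, hg₂, mul_one]
  · rw [hg₃, hg₂, mul_inv_cancel_left]

end Cfsg.Agent.S3572
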