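import Cfsg.Statements.S3573
import Mathlib
-- import your own Cfsg.Agent.* helpers here

set_option autoImplicit false
open Cfsg

namespace Cfsg.Agent.S3573

section

theorem choose_not_dvd_of_le_mod {n k r : ℕ} (hr : r.Prime) (hkr : k < r) (hle : k ≤ n % r) : ¬ r ∣ n.choose k := by
  intro h
  haveI := Fact.mk hr
  have h1 : r ∣ n.descFactorial k := by
    rw [Nat.descFactorial_eq_factorial_mul_choose]; exact h.mul_left _
  rw [Nat.descFactorial_eq_prod_range] at h1
  obtain ⟨i, hi, hd⟩ := hr.prime.exists_mem_finset_dvd h1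
  have hi' := Finset.mem_range.mp hi
  have hrlt := Nat.mod_lt n hr.pos
  obtain ⟨c, hc⟩ := hd
  have hn := Nat.div_add_mod n r
  have hmod : (n - i) % r = n % r - i := by
    rw [show n - i = (n % r - i) + r * (n / r) by omega, Nat.add_mul_mod_self_left, Nat.mod_eq_of_lt (by omega)]
  rw [hc, Nat.mul_mod_right] at hmod
  omega

/-- Any permutation of prime order `r` fixes some `k`-set as soon as `k % r ≤ n % r`. -/
theorem exists_fixed_set {n k r : ℕ} (hr : r.Prime) (hk : k ≤ n) (hle : k % r ≤ n % r) (σ : Equiv.Perm (Fin n))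
    (hσ : orderOf σ = r) : ∃ s : Finset (Fin n), s.card = k ∧ s.image σ = s := by
  classical
  have hsz : ∀ c ∈ σ.cycleFactorsFinset, c.support.card = r := by
    intro c hc
    have hmem : c.support.card ∈ σ.cycleType := by
      rw [Equiv.Perm.cycleType_def]; exact Multiset.mem_map.mpr ⟨c, hc, rfl⟩
    obtain ⟨m, hm⟩ := Equiv.Perm.cycleType_prime_order (by rw [hσ]; exact hr : (orderOf σ).Prime)
    rw [hm, hσ] at hmem
    exact Multiset.eq_of_mem_replicate hmem
  set j := σ.cycleFactorsFinset.card with hj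
  have hsupp : σ.support.card = j * r := by
    rw [← Equiv.Perm.sum_cycleType, Equiv.Perm.cycleType_def]
    show ∑ c ∈ σ.cycleFactorsFinset, c.support.card = j * r
    exact Finset.sum_const_nat hsz
  have hjn : j * r ≤ n := by rw [← hsupp]; exact (Finset.card_le_univ _).trans_eq (Fintype.card_fin n)
  obtain ⟨a, ha, hb, hba⟩ : ∃ a, a ≤ j ∧ r * a ≤ k ∧ k - r * a + j * r ≤ n := by
    have h1 := Nat.div_add_mod k r
    rcases le_or_gt (k / r) j with h | h
    · refine ⟨k / r, h, by omega, ?_⟩
      have h2 : j ≤ n / r := (Nat.le_div_iff_mul_le hr.pos).mpr hjn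
      have h3 := Nat.div_add_mod n r
      have h4 : j * r ≤ n / r * r := Nat.mul_le_mul_right _ h2
      rw [mul_comm (n / r) r] at h4
      omega
    · refine ⟨j, le_rfl, ?_, ?_⟩
      · have : r * j ≤ r * (k / r) := Nat.mul_le_mul_left _ h.le
        omega
      · have : r * j ≤ r * (k / r) := Nat.mul_le_mul_left _ h.le
        rw [mul_comm j r]; omega
  obtain ⟨A, hA, hAc⟩ := Finset.exists_subset_card_eq (s := σ.cycleFactorsFinset) ha
  obtain ⟨B, hB, hBc⟩ := Finset.exists_subset_card_eq (s := σ.supportᶜ) (n := k - r * a) (by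
    rw [Finset.card_compl, Fintype.card_fin, hsupp]; omega)
  have hU : ∀ x ∈ A.biUnion Equiv.Perm.support, x ∈ σ.support ∧ σ x ∈ A.biUnion Equiv.Perm.support := by
    intro x hx
    obtain ⟨c, hc, hxc⟩ := Finset.mem_biUnion.mp hx
    obtain ⟨hcy, hca⟩ := Equiv.Perm.mem_cycleFactorsFinset_iff.mp (hA hc)
    refine ⟨Equiv.Perm.mem_cycleFactorsFinset_support_le (hA hc) hxc, Finset.mem_biUnion.mpr ⟨c, hc, ?_⟩⟩
    rw [← hca x hxc]; exact Equiv.Perm.apply_mem_support.mpr hxc
  refine ⟨A.biUnion Equiv.Perm.support ∪ B, ?_, ?_⟩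
  · rw [Finset.card_union_of_disjoint, Finset.card_biUnion, Finset.sum_const_nat (fun c hc => hsz c (hA hc)), hAc, hBc]
    · rw [mul_comm]; omega
    · intro c hc d hd hne
      exact ((σ.cycleFactorsFinset_pairwise_disjoint) (hA hc) (hA hd) hne).disjoint_support
    · exact Finset.disjoint_left.mpr fun x hx hx' => Finset.mem_compl.mp (hB hx') (hU x hx).1
  · refine Finset.eq_of_subset_of_card_le ?_ (Finset.card_image_of_injective _ σ.injective).ge
    intro y hy
    obtain ⟨x, hx, rfl⟩ := Finset.mem_image.mp hy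
    rcases Finset.mem_union.mp hx with h | h
    · exact Finset.mem_union_left _ (hU x h).2
    · rw [Equiv.Perm.notMem_support.mp (Finset.mem_compl.mp (hB h))]
      exact Finset.mem_union_right _ h

/-- Conversely, the permutation with the maximal number of `r`-cycles detects the condition. -/
theorem mod_le_of_fixed {n k r : ℕ} (hr : r.Prime) (hrn : r ≤ n)
    (h : ∀ σ : Equiv.Perm (Fin n), orderOf σ = r → ∃ s : Finset (Fin n), s.card = k ∧ s.image σ = s) : k % r ≤ n % r := by
  classical
  haveI := Fact.mk hr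
  have r2 := hr.two_le
  set q := n / r with hq
  have hdm := Nat.div_add_mod n r
  rw [← hq] at hdm
  have blk : ∀ i : ℕ, i < r * q → ∀ e, e < r → r * (i / r) + e < r * q := by
    intro i hi e he
    have h1 : i / r < q := (Nat.div_lt_iff_lt_mul hr.pos).mpr (by rwa [mul_comm])
    have h2 : r * (i / r + 1) ≤ r * q := Nat.mul_le_mul_left _ h1
    rw [Nat.mul_add, mul_one] at h2
    omega
  let f : Fin n → Fin n := fun i => if h : (i : ℕ) < r * q then ⟨r * ((i : ℕ) / r) + ((i : ℕ) % r + 1) % r, by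
      have := blk i h _ (Nat.mod_lt ((i : ℕ) % r + 1) hr.pos); omega⟩ else i
  have hiter : ∀ (m : ℕ) (i : Fin n) (hi : (i : ℕ) < r * q), ((f^[m] i : Fin n) : ℕ) = r * ((i : ℕ) / r) + ((i : ℕ) % r + m) % r := by
    intro m i hi
    induction m with
    | zero => simp [Nat.mod_eq_of_lt (Nat.mod_lt _ hr.pos), Nat.div_add_mod]
    | succ m ih =>
      rw [Function.iterate_succ_apply']
      have hlt : ((f^[m] i : Fin n) : ℕ) < r * q := by rw [ih]; exact blk i hi _ (Nat.mod_lt _ hr.pos)
      show ((f (f^[m] i)) : ℕ) = _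
      simp only [f, dif_pos hlt]
      rw [ih, Nat.mul_add_div hr.pos, Nat.div_eq_of_lt (Nat.mod_lt _ hr.pos), add_zero, Nat.mul_add_mod,
        Nat.mod_mod, ← Nat.add_assoc, Nat.mod_add_mod]
  have hfix : ∀ (m : ℕ) (i : Fin n), ¬ (i : ℕ) < r * q → f^[m] i = i := by
    intro m i hi
    induction m with
    | zero => rfl
    | succ m ih => rw [Function.iterate_succ_apply', ih]; simp only [f, dif_neg hi]
  have hper : ∀ i, f^[r] i = i := by
    intro i
    by_cases hi : (i : ℕ) < r * q
    · refine Fin.ext ?_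
      rw [hiter r i hi, Nat.add_mod_right, Nat.mod_mod, Nat.div_add_mod]
    · exact hfix r i hi
  let σ : Equiv.Perm (Fin n) := ⟨f, f^[r - 1],
    fun i => by rw [← Function.iterate_succ_apply f (r - 1), show (r - 1).succ = r by omega]; exact hper i,
    fun i => by rw [← Function.iterate_succ_apply' f (r - 1), show (r - 1).succ = r by omega]; exact hper i⟩
  have hpow : ∀ m i, (σ ^ m) i = f^[m] i := fun m i => by rw [Equiv.Perm.coe_pow]; rfl
  have hq1 : 1 ≤ q := (Nat.one_le_div_iff hr.pos).mpr hrn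
  have hrq : r ≤ r * q := Nat.le_mul_of_pos_right r hq1
  have hord : orderOf σ = r := by
    refine orderOf_eq_prime (Equiv.ext fun i => by rw [hpow, hper]; rfl) fun e => ?_
    have h0 : ((⟨0, by omega⟩ : Fin n) : ℕ) < r * q := by show 0 < r * q; omega
    have := hiter 1 ⟨0, by omega⟩ h0
    rw [← hpow, pow_one, e] at this
    simp at this
    omega
  obtain ⟨s, hs, himg⟩ := h σ hord
  have hinv : ∀ m i, i ∈ s → f^[m] i ∈ s := by
    intro m i hi
    induction m with
    | zero => exact hi
    | succ m ih => rw [Function.iterate_succ_apply', ← himg]; exact Finset.mem_image_of_mem σ ih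
  have hsplit : s.card = (s.filter fun i : Fin n => (i : ℕ) < r * q).card + (s.filter fun i : Fin n => ¬ (i : ℕ) < r * q).card :=
    (Finset.card_filter_add_card_filter_not _).symm
  have htail : (s.filter fun i : Fin n => ¬ (i : ℕ) < r * q).card ≤ n % r := by
    have : ((s.filter fun i : Fin n => ¬ (i : ℕ) < r * q).image fun i : Fin n => (i : ℕ)) ⊆ Finset.Ico (r * q) n := by
      intro x hx
      obtain ⟨i, hi, rfl⟩ := Finset.mem_image.mp hx
      rw [Finset.mem_filter] at hi
      rw [Finset.mem_Ico]; exact ⟨by omega, i.2⟩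
    have := Finset.card_le_card this
    rw [Finset.card_image_of_injective _ Fin.val_injective, Nat.card_Ico] at this
    omega
  have hdvd : r ∣ (s.filter fun i : Fin n => (i : ℕ) < r * q).card := by
    rw [Finset.card_eq_sum_card_image (fun i : Fin n => (i : ℕ) / r)]
    refine Finset.dvd_sum fun b hb => dvd_of_eq ?_
    obtain ⟨i, hi, rfl⟩ := Finset.mem_image.mp hb
    rw [Finset.mem_filter] at hi
    refine (Finset.card_range r).symm.trans (Eq.symm ?_)
    refine Finset.card_bij (fun j _ => (j : ℕ) % r) (fun j _ => Finset.mem_range.mpr (Nat.mod_lt _ hr.pos)) ?_ ?_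
    · intro a ha b hb e
      rw [Finset.mem_filter] at ha hb
      refine Fin.ext ?_
      rw [← Nat.div_add_mod (a : ℕ) r, ← Nat.div_add_mod (b : ℕ) r, e, ha.2, hb.2]
    · intro e he
      rw [Finset.mem_range] at he
      refine ⟨f^[e + r - (i : ℕ) % r] i, ?_, ?_⟩
      · rw [Finset.mem_filter, Finset.mem_filter, hiter _ i hi.2]
        refine ⟨⟨hinv _ i hi.1, blk i hi.2 _ (Nat.mod_lt _ hr.pos)⟩, ?_⟩
        rw [Nat.mul_add_div hr.pos, Nat.div_eq_of_lt (Nat.mod_lt _ hr.pos), add_zero]
      · rw [hiter _ i hi.2, Nat.mul_add_mod, Nat.mod_mod]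
        have := Nat.mod_lt (i : ℕ) hr.pos
        rw [show (i : ℕ) % r + (e + r - (i : ℕ) % r) = e + r by omega, Nat.add_mod_right, Nat.mod_eq_of_lt he]
  obtain ⟨c, hc⟩ := hdvd
  rw [hs, hc] at hsplit
  rw [hsplit, Nat.mul_add_mod]
  exact (Nat.mod_le _ _).trans htail

end

/-- Let 1 ≤ k with 2k < n and consider the symmetric group of degree n acting on the k-subsets of an n-set. Let r be a prime dividing the number C(n,k) of k-subsets. If r is odd, then every permutation of order r fixes some k-subset if and only if r ≤ k and the remainder of k modulo r is at most the remainder of n modulo r. If r = 2, then every involution fixes some k-subset if and only if k is even or n is odd. -/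
theorem result (n k : ℕ) (hk : 1 ≤ k) (hkn : 2 * k < n) (r : ℕ) (hr : r.Prime) (hrd : r ∣ Nat.choose n k) :
    (r ≠ 2 → ((∀ σ : Equiv.Perm (Fin n), orderOf σ = r → ∃ s : Finset (Fin n), s.card = k ∧ s.image σ = s) ↔
      (r ≤ k ∧ k % r ≤ n % r))) ∧
    (r = 2 → ((∀ σ : Equiv.Perm (Fin n), orderOf σ = 2 → ∃ s : Finset (Fin n), s.card = k ∧ s.image σ = s) ↔
      (Even k ∨ Odd n))) := by
  have hrn : r ≤ n := hr.dvd_factorial.mp (hrd.trans ⟨k.factorial * (n - k).factorial, by
    rw [← mul_assoc]; exact (Nat.choose_mul_factorial_mul_factorial (by omega : k ≤ n)).symm⟩)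
  have key : (∀ σ : Equiv.Perm (Fin n), orderOf σ = r → ∃ s : Finset (Fin n), s.card = k ∧ s.image σ = s) ↔ k % r ≤ n % r :=
    ⟨mod_le_of_fixed hr hrn, fun h => exists_fixed_set hr (by omega) h⟩
  refine ⟨fun _ => ?_, fun h2 => ?_⟩
  · rw [key]
    refine ⟨fun h => ⟨?_, h⟩, fun h => h.2⟩
    by_contra hlt
    rw [Nat.mod_eq_of_lt (not_le.mp hlt)] at h
    exact choose_not_dvd_of_le_mod hr (not_le.mp hlt) h hrd
  · subst h2
    rw [key, Nat.even_iff, Nat.odd_iff]
    omega

end Cfsg.Agent.S3573
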