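import Cfsg.Statements.S3575
import Cfsg.Agent.Lib.Comb.PartitionPrimeOrder
-- import your own Cfsg.Agent.* helpers here

set_option autoImplicit false
open Cfsg

namespace Cfsg.Agent.S3575

/-- Let a, b ≥ 2 and consider the symmetric group of degree a·b acting on the partitions of an (a·b)-set into b parts of size a (encoded as maps onto a b-element set all of whose fibres have a elements; a permutation fixes such a partition when it permutes the fibres). Let r be a prime dividing the number (ab)!/((a!)^b·b!) of such partitions, and let ℓ and k be the remainders of a and b modulo r. Then every permutation of order r fixes some such partition if and only if r ≤ a and one of the following holds: ℓ = 0; or k = 0 and ℓ = 1; or ℓ and k are non-zero, k·ℓ < r, and either b < r or (k + r)·ℓ ≤ k·a + r. -/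
theorem result (a b : ℕ) (ha : 2 ≤ a) (hb : 2 ≤ b) (r : ℕ) (hr : r.Prime)
    (hrd : r ∣ (a * b).factorial / (a.factorial ^ b * b.factorial)) :
    (∀ σ : Equiv.Perm (Fin (a * b)), orderOf σ = r →
        ∃ f : Fin (a * b) → Fin b, (∀ j : Fin b, Nat.card {x : Fin (a * b) // f x = j} = a) ∧
          ∃ π : Equiv.Perm (Fin b), ∀ x : Fin (a * b), f (σ x) = π (f x)) ↔
      (r ≤ a ∧ (a % r = 0 ∨ (b % r = 0 ∧ a % r = 1) ∨
        (a % r ≠ 0 ∧ b % r ≠ 0 ∧ (b % r) * (a % r) < r ∧ (b < r ∨ (b % r + r) * (a % r) ≤ (b % r) * a + r)))) := by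
  classical
  haveI : Fact r.Prime := ⟨hr⟩
  have hrab : r ≤ a * b := (hr.dvd_factorial).1 (hrd.trans
    (Nat.div_dvd_of_dvd (Cfsg.Agent.Comb.PartPrime.count_dvd (by omega : 0 < a) b)))
  rw [← Cfsg.Agent.Comb.PartPrime.cover_iff ha hb hr.two_le hrab]
  constructor
  · intro h j hj1 hj
    obtain ⟨σ, hσ⟩ := Equiv.Perm.exists_with_cycleType_iff (Fin (a * b)) (m := Multiset.replicate j r) |>.2
      ⟨by rw [Multiset.sum_replicate, smul_eq_mul, Fintype.card_fin]; exact hj,
        fun x hx => by rw [Multiset.eq_of_mem_replicate hx]; exact hr.two_le⟩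
    have hs : σ.support.card = j * r := by
      rw [← Equiv.Perm.sum_cycleType, hσ, Multiset.sum_replicate, smul_eq_mul]
    have hpow : σ ^ r = 1 := by
      rw [Equiv.Perm.pow_prime_eq_one_iff, hσ]
      exact fun c hc => Multiset.eq_of_mem_replicate hc
    have hne : σ ≠ 1 := fun e => by
      rw [e, Equiv.Perm.support_one, Finset.card_empty] at hs
      exact (Nat.mul_ne_zero (by omega) hr.ne_zero) hs.symm
    obtain ⟨f, hf, π, hπ⟩ := h σ (orderOf_eq_prime hpow hne)
    obtain ⟨u, c, hu, hc, he⟩ := Cfsg.Agent.Comb.PartPrime.shape (r := r) (by omega) hpow hf hπ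
    rw [Fintype.card_fin] at hu hc
    rw [hs, mul_comm] at he
    exact ⟨u, c, hu, hc, Nat.eq_of_mul_eq_mul_left hr.pos he⟩
  · intro h σ hσ
    have hpow : σ ^ r = 1 := hσ ▸ pow_orderOf_eq_one σ
    obtain ⟨hct, j, hj⟩ := Cfsg.Agent.Comb.PartPrime.support_dvd hpow
    have hj1 : 1 ≤ j := Nat.one_le_iff_ne_zero.2 fun e => by
      rw [e, mul_zero, Finset.card_eq_zero, Equiv.Perm.support_eq_empty_iff] at hj
      rw [hj, orderOf_one] at hσ
      exact hr.one_lt.ne hσ
    obtain ⟨u, c, hu, hc, he⟩ := h j hj1 (by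
      rw [mul_comm, ← hj]; exact (Finset.card_le_univ _).trans (Fintype.card_fin _).le)
    exact Cfsg.Agent.Comb.PartPrime.exists_fixed hpow hu hc (hj.trans (by rw [he]))

end Cfsg.Agent.S3575
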