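import Cfsg.Statements.S3580
import Cfsg.Agent.Lib.Invol.SylowFixBound

set_option autoImplicit false
open Cfsg

namespace Cfsg.Agent.S3580

/-- Let G act faithfully and transitively on a finite set Ω, let p be an odd prime dividing the order of G and P a Sylow p-subgroup of G. Then the number of orbits of P on Ω is at most (p/(2p − 1))·(number of points). -/
theorem result {G Ω : Type*} [Group G] [Finite G] [MulAction G Ω] [FaithfulSMul G Ω] [Finite Ω]
    (htrans : MulAction.IsPretransitive G Ω) (p : ℕ) [Fact p.Prime] (hp2 : p ≠ 2) (hpG : p ∣ Nat.card G)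
    (P : Sylow p G) :
    (2 * p - 1) * Nat.card (MulAction.orbitRel.Quotient ↥(P : Subgroup G) Ω) ≤ p * Nat.card Ω := by
  classical
  have hfix := Cfsg.Agent.Invol.SylowFix.fixed_points_le (Ω := Ω) hpG P
  set Q := MulAction.orbitRel.Quotient ↥(P : Subgroup G) Ω
  haveI := Fintype.ofFinite Ω
  haveI := Fintype.ofFinite Q
  set F := {ω : Ω // (P : Subgroup G) ≤ MulAction.stabilizer G ω}
  let e := MulAction.selfEquivSigmaOrbits ↥(P : Subgroup G) Ω
  have hn : Nat.card Ω = ∑ q : Q, Nat.card (MulAction.orbit ↥(P : Subgroup G) q.out) := by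
    rw [Nat.card_congr e, Nat.card_sigma]
  have horb : ∀ q : Q, Nat.card (MulAction.orbit ↥(P : Subgroup G) q.out) = 1 ∨
      p ≤ Nat.card (MulAction.orbit ↥(P : Subgroup G) q.out) := by
    intro q
    obtain ⟨j, hj⟩ := P.2.card_orbit (α := Ω) q.out
    rcases Nat.eq_zero_or_pos j with h | h
    · exact Or.inl (by rw [hj, h, pow_zero])
    · exact Or.inr (by rw [hj]; exact Nat.le_self_pow h.ne' p)
  have hF : (Finset.univ.filter fun q : Q =>
      Nat.card (MulAction.orbit ↥(P : Subgroup G) q.out) = 1).card ≤ Nat.card F := by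
    have hmem : ∀ q : Q, Nat.card (MulAction.orbit ↥(P : Subgroup G) q.out) = 1 →
        (P : Subgroup G) ≤ MulAction.stabilizer G q.out := by
      intro q hq g hg
      haveI := (Nat.card_eq_one_iff_unique.1 hq).1
      exact congrArg Subtype.val (Subsingleton.elim
        (⟨(⟨g, hg⟩ : ↥(P : Subgroup G)) • q.out, MulAction.mem_orbit _ _⟩ :
          MulAction.orbit ↥(P : Subgroup G) q.out) ⟨q.out, MulAction.mem_orbit_self _⟩)
    rw [← Fintype.card_subtype, ← Nat.card_eq_fintype_card]
    exact Nat.card_le_card_of_injective (fun q => (⟨q.1.out, hmem q.1 q.2⟩ : F)) fun a b h =>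
      Subtype.ext (Quotient.out_injective (congrArg Subtype.val h :))
  have key : p * Nat.card Q ≤ Nat.card Ω + (p - 1) * Nat.card F := by
    refine le_trans ?_ (Nat.add_le_add_left (Nat.mul_le_mul_left _ hF) _)
    rw [hn, Finset.card_filter, Finset.mul_sum, ← Finset.sum_add_distrib, Nat.card_eq_fintype_card,
      ← Finset.card_univ, Finset.card_eq_sum_ones, Finset.mul_sum]
    refine Finset.sum_le_sum fun q _ => ?_
    have := (Fact.out : p.Prime).one_lt
    rcases horb q with h | h
    · rw [if_pos h, h]; omega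
    · rw [if_neg (by omega)]; omega
  have h1 := (Fact.out : p.Prime).one_lt
  obtain ⟨m, rfl⟩ : ∃ m, p = m + 1 := ⟨p - 1, by omega⟩
  have e1 : 2 * (m + 1) - 1 = 2 * m + 1 := by omega
  rw [e1] at hfix ⊢
  simp only [Nat.add_sub_cancel] at hfix key
  nlinarith [Nat.mul_le_mul_left (2 * m + 1) key, Nat.mul_le_mul_left m hfix]

end Cfsg.Agent.S3580
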