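import Cfsg.Statements.S3590
import Cfsg.Agent.Lib.Recog.EightGroups
-- import your own Cfsg.Agent.* helpers here

set_option autoImplicit false
open Cfsg

namespace Cfsg.Agent.S3590

/-- Let F be a finite field of characteristic 2. Then PSp(8,F) is not determined by its set of element orders, not even up to finitely many groups: for every bound there is a finite group of larger order with exactly the same set of element orders as PSp(8,F). -/
theorem result {F : Type*} [Field F] [Fintype F]
    [CharP F 2] (M : ℕ) :
    ∃ (H : Type) (_ : Group H) (_ : Fintype H), M < Fintype.card H ∧ Set.range (orderOf : H → ℕ) = Set.range (orderOf : Cfsg.PSp 4 F → ℕ) := by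
  classical
  obtain ⟨a, b, hab⟩ := Recog.EightOrd.exists_aniso (F := F)
  refine Recog.ModCover.package (Recog.EightOrd.natRep a b) M _ ?_
  haveI : Finite (Recog.ModCover.H (Recog.EightOrd.natRep a b) M) :=
    Finite.of_equiv _ SemidirectProduct.equivProd.symm
  exact Recog.SpFourOrd.range_eq_of_list (Recog.EightOrd.L8 (Fintype.card F)) (Recog.EightOrd.upper_cover hab)
    Recog.EightOrd.upper_sp (Recog.EightOrd.lower_cover hab) (Recog.EightOrd.lower_sp hab)

end Cfsg.Agent.S3590
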