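import Cfsg.Prelude
import Cfsg.Agent.Lib.Invol.Order7920Nse
-- import your own Cfsg.Agent.* helpers here

set_option autoImplicit false
open Cfsg

open scoped Pointwise commutatorElement

namespace Cfsg.Agent.S3592

/-- Let M be the Mathieu group M₁₁ (order 7920). If a finite group G has the same order as M and the same set of values of the function 'number of elements of order n' (taken over the element orders n that occur), then G is isomorphic to M. -/
theorem result {G : Type*} [Group G] [Finite G]
    (hcard : Nat.card G = Nat.card ↥Cfsg.Spor.M11)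
    (hnse : {c : ℕ | 0 < c ∧ ∃ n : ℕ, c = Nat.card {g : G // orderOf g = n}} =
      {c : ℕ | 0 < c ∧ ∃ n : ℕ, c = Nat.card {g : ↥Cfsg.Spor.M11 // orderOf g = n}}) :
    Nonempty (G ≃* ↥Cfsg.Spor.M11) := by
  have hM : Nat.card ↥Cfsg.Spor.M11 = 7920 := Fus.Mathieu.card11
  rw [hM] at hcard
  haveI := Invol.M11Ord.m11_simple'
  haveI : IsSimpleGroup G := Invol.M11Ord.isSimple_of_counts hcard hM fun c hc hn =>
    ((Set.ext_iff.1 hnse c).1 ⟨hc, hn⟩).2
  exact Invol.M11Ord.mulEquiv_of_card hcard hM

end Cfsg.Agent.S3592
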