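import Cfsg.Statements.S3593
import Cfsg.Agent.Lib.Invol.Order95040.SameCounts
import Cfsg.Agent.Lib.Fus.MathieuTwoGroups
import Cfsg.Agent.S0383

set_option autoImplicit false
open Cfsg
open scoped Pointwise

namespace Cfsg.Agent.S3593

/-- Let M be the Mathieu group M₁₂ (order 95040). If a finite group G has the same order as M and the same set of values of the function 'number of elements of order n' (taken over the element orders n that occur), then G is isomorphic to M. -/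
theorem result {G : Type*} [Group G] [Finite G]
    (hcard : Nat.card G = Nat.card ↥Cfsg.Spor.M12)
    (hnse : {c : ℕ | 0 < c ∧ ∃ n : ℕ, c = Nat.card {g : G // orderOf g = n}} =
      {c : ℕ | 0 < c ∧ ∃ n : ℕ, c = Nat.card {g : ↥Cfsg.Spor.M12 // orderOf g = n}}) :
    Nonempty (G ≃* ↥Cfsg.Spor.M12) := by
  haveI : Fact (Nat.Prime 11) := ⟨by norm_num⟩
  haveI := Cfsg.Agent.S0383.result _ Cfsg.Agent.Fus.Mathieu.square_mem
  let φ : ↥(MulAction.stabilizer Cfsg.M24 Cfsg.Spor.squareDodecad) ≃* ↥Cfsg.Spor.M12 :=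
    { toFun := fun g => ⟨g.1.1, ⟨g.1.2, g.2⟩⟩
      invFun := fun g => ⟨⟨g.1, g.2.1⟩, g.2.2⟩
      left_inv := fun g => rfl
      right_inv := fun g => rfl
      map_mul' := fun a b => rfl }
  haveI : IsSimpleGroup ↥Cfsg.Spor.M12 := φ.symm.isSimpleGroup_congr.mpr inferInstance
  obtain ⟨hM11, hMdvd⟩ :=
    Cfsg.Agent.Invol.M12Ord.simple_counts (G := ↥Cfsg.Spor.M12) Cfsg.Agent.Fus.Mathieu.card12
  rw [Cfsg.Agent.Fus.Mathieu.card12] at hcard
  have hn : Cfsg.Agent.Invol.M12Ord.ocnt G 11 = Nat.card (Sylow 11 G) * 10 :=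
    Cfsg.Agent.Invol.M12Ord.ocnt_sylow (by rw [hcard, Cfsg.Agent.Invol.M12Ord.fact_eleven])
  have hmod := card_sylow_modEq_one 11 G
  have hmem : Cfsg.Agent.Invol.M12Ord.ocnt G 11 ∈
      {c : ℕ | 0 < c ∧ ∃ n : ℕ, c = Nat.card {g : G // orderOf g = n}} :=
    ⟨by rw [hn]; have := (Nat.card_pos (α := Sylow 11 G)); omega, 11, rfl⟩
  rw [hnse] at hmem
  obtain ⟨-, n, hcn⟩ := hmem
  have hc : Cfsg.Agent.Invol.M12Ord.ocnt G 11 = 17280 := by
    rcases eq_or_ne n 11 with rfl | h11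
    · exact hcn.trans hM11
    exfalso
    rcases eq_or_ne n 1 with rfl | h1
    · have e : Nat.card {g : ↥Cfsg.Spor.M12 // orderOf g = 1} = 1 := by
        simp [orderOf_eq_one_iff]
      rw [e, hn] at hcn
      omega
    · have hd : 11 ∣ Cfsg.Agent.Invol.M12Ord.ocnt G 11 := by
        rw [hcn]; exact hMdvd n h1 h11
      rw [hn] at hd
      rw [Nat.ModEq] at hmod
      omega
  haveI := Cfsg.Agent.Invol.M12Ord.simple_of_count hcard hc
  exact Cfsg.Agent.Invol.M12Ord.isoM12_of_card hcard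

end Cfsg.Agent.S3593
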