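import Cfsg.Statements.S3599
import Mathlib
-- import your own Cfsg.Agent.* helpers here

set_option autoImplicit false
open Cfsg

namespace Cfsg.Agent.S3599

/-- A group of order `p ^ d * q` with a fixed-point-free action, `d` minimal. -/
structure Crit (F : Type*) [Group F] (V : Subgroup F) (p q : ℕ) : Prop where
  hp : p.Prime
  hq : q.Prime
  hpq : p ≠ q
  normal : V.Normal
  card : Nat.card V = p ^ orderOf (p : ZMod q)
  index : V.index = q
  expo : ∀ v ∈ V, v ^ p = 1
  fpf : ∀ g ∉ V, ∀ v ∈ V, Commute g v → v = 1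

theorem exists_crit (p q : ℕ) (hp : p.Prime) (hq : q.Prime) (hpq : p ≠ q) :
    ∃ (F : Type) (_ : Group F) (_ : Fintype F) (V : Subgroup F), Crit F V p q := by
  haveI : Fact p.Prime := ⟨hp⟩
  haveI : Fact q.Prime := ⟨hq⟩
  have hne : (p : ZMod q) ≠ 0 := fun h => hpq (((Nat.prime_dvd_prime_iff_eq hq hp).mp
    ((ZMod.natCast_eq_zero_iff p q).mp h)).symm)
  set d := orderOf (p : ZMod q) with hd
  have hd0 : d ≠ 0 := fun h =>
    (orderOf_eq_zero_iff.mp h) (isOfFinOrder_iff_pow_eq_one.mpr ⟨q - 1, by have := hq.two_le; omega,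
      ZMod.pow_card_sub_one_eq_one hne⟩)
  let K := GaloisField p d
  haveI : Fintype K := Fintype.ofFinite K
  have hcard : Nat.card K = p ^ d := GaloisField.card p d hd0
  have hdiv : q ∣ Nat.card Kˣ := by
    rw [Nat.card_units, hcard, ← ZMod.natCast_eq_zero_iff, Nat.cast_sub (Nat.one_le_pow _ _ hp.pos), Nat.cast_pow,
      hd, pow_orderOf_eq_one, Nat.cast_one, sub_self]
  obtain ⟨ζ, hζ⟩ := exists_prime_orderOf_dvd_card' q hdiv
  let U : Subgroup Kˣ := Subgroup.zpowers ζ
  let φ : U →* MulAut (Multiplicative K) :=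
    { toFun := fun u =>
        { toFun := fun x => Multiplicative.ofAdd (((u : Kˣ) : K) * x.toAdd)
          invFun := fun x => Multiplicative.ofAdd ((((u : Kˣ)⁻¹ : Kˣ) : K) * x.toAdd)
          left_inv := fun x => by simp
          right_inv := fun x => by simp
          map_mul' := fun x y => by simp [mul_add, ofAdd_add] }
      map_one' := by ext x; simp
      map_mul' := fun a b => by ext x; simp [mul_assoc] }
  let F := Multiplicative K ⋊[φ] U
  haveI : Fintype U := Fintype.ofFinite U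
  haveI : Fintype F := Fintype.ofEquiv _ (SemidirectProduct.equivProd (φ := φ)).symm
  refine ⟨F, inferInstance, inferInstance, (SemidirectProduct.inl : Multiplicative K →* F).range, hp, hq, hpq,
    ?_, ?_, ?_, ?_, ?_⟩
  · rw [SemidirectProduct.range_inl_eq_ker_rightHom]; infer_instance
  · rw [← Nat.card_congr (MonoidHom.ofInjective SemidirectProduct.inl_injective).toEquiv]
    exact hcard
  · rw [SemidirectProduct.range_inl_eq_ker_rightHom, Subgroup.index_ker,
      MonoidHom.range_eq_top.mpr SemidirectProduct.rightHom_surjective, Subgroup.card_top, Nat.card_zpowers, hζ]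
  · rintro _ ⟨v, rfl⟩
    rw [← map_pow, show v ^ p = 1 from ?_, map_one]
    apply Multiplicative.toAdd.injective
    simp [CharP.cast_eq_zero K p]
  · rintro g hg _ ⟨v, rfl⟩ h
    have hr : g.right ≠ 1 := fun h1 => hg (by
      rw [SemidirectProduct.range_inl_eq_ker_rightHom]; exact h1)
    have h2 : g.left * φ g.right v = v * g.left := by
      have := congrArg SemidirectProduct.left h.eq
      rw [SemidirectProduct.mul_left, SemidirectProduct.mul_left, SemidirectProduct.left_inl,
        SemidirectProduct.right_inl, map_one] at this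
      exact this
    have h3 : φ g.right v = v := mul_left_cancel (h2.trans (mul_comm _ _))
    have h4 : ((g.right : Kˣ) : K) * v.toAdd = v.toAdd := congrArg Multiplicative.toAdd h3
    by_contra hv
    have hv0 : v.toAdd ≠ 0 := fun e => hv (by
      rw [show v = 1 from Multiplicative.toAdd.injective (by simpa using e), map_one])
    exact hr (Subtype.ext (Units.ext ((mul_left_eq_self₀.mp h4).resolve_right hv0)))

variable {F : Type*} [Group F] [Finite F] {V : Subgroup F} {p q : ℕ}

theorem Crit.dpos (h : Crit F V p q) : orderOf (p : ZMod q) ≠ 0 := by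
  haveI : Fact q.Prime := ⟨h.hq⟩
  refine fun h0 => (orderOf_eq_zero_iff.mp h0) (isOfFinOrder_iff_pow_eq_one.mpr ⟨q - 1, ?_, ZMod.pow_card_sub_one_eq_one ?_⟩)
  · have := h.hq.two_le; omega
  · exact fun e => h.hpq (((Nat.prime_dvd_prime_iff_eq h.hq h.hp).mp ((ZMod.natCast_eq_zero_iff p q).mp e)).symm)

theorem Crit.card_group (h : Crit F V p q) : Nat.card F = p ^ orderOf (p : ZMod q) * q := by
  rw [← V.card_mul_index, h.card, h.index]

theorem Crit.pow_q (h : Crit F V p q) {g : F} (hg : g ∉ V) : g ^ q = 1 := by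
  haveI := h.normal
  have h1 : g ^ q ∈ V := h.index ▸ V.pow_index_mem g
  exact h.fpf g hg _ h1 (Commute.self_pow g q)

theorem Crit.orderOf_mem (h : Crit F V p q) (g : F) : orderOf g = 1 ∨ orderOf g = p ∨ orderOf g = q := by
  haveI : Fact p.Prime := ⟨h.hp⟩
  haveI : Fact q.Prime := ⟨h.hq⟩
  by_cases h1 : g = 1
  · exact Or.inl (by rw [h1, orderOf_one])
  by_cases hg : g ∈ V
  · exact Or.inr (Or.inl (orderOf_eq_prime (h.expo g hg) h1))
  · exact Or.inr (Or.inr (orderOf_eq_prime (h.pow_q hg) h1))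

theorem Crit.not_mem_of_order (h : Crit F V p q) {g : F} (hg : orderOf g = q) : g ∉ V := fun hv => by
  have h1 := orderOf_dvd_of_pow_eq_one (h.expo g hv)
  rw [hg] at h1
  exact h.hpq ((Nat.prime_dvd_prime_iff_eq h.hq h.hp).mp h1).symm

theorem Crit.exists_both (h : Crit F V p q) : (∃ g : F, orderOf g = p) ∧ ∃ g : F, orderOf g = q := by
  haveI : Fact p.Prime := ⟨h.hp⟩
  haveI : Fact q.Prime := ⟨h.hq⟩
  have hc := h.card_group
  exact ⟨exists_prime_orderOf_dvd_card' p (hc ▸ (dvd_pow_self p h.dpos).mul_right q),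
    exists_prime_orderOf_dvd_card' q (hc ▸ dvd_mul_left q _)⟩

/-- A nontrivial subgroup of `V` normalised by an element outside `V` is `V`. -/
theorem Crit.eq_V (h : Crit F V p q) {W : Subgroup F} (hW : W ≤ V) (hW1 : W ≠ ⊥) {g : F} (hg : g ∉ V)
    (hn : ∀ w ∈ W, g * w * g⁻¹ ∈ W) : W = V := by
  haveI : Fact q.Prime := ⟨h.hq⟩
  haveI : Fact p.Prime := ⟨h.hp⟩
  let S := Subgroup.zpowers g
  have hS : S ≤ Subgroup.normalizer (W : Set F) := by
    rw [Subgroup.zpowers_le]
    exact Subgroup.mem_normalizer_iff'.mpr fun n => by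
      constructor
      · intro hn'
        have h1 := hn _ hn'
        rwa [show g * (n * g) * g⁻¹ = g * n by group] at h1
      · intro hn'
        have h1 : (g⁻¹) ∈ (Subgroup.zpowers g) := inv_mem (Subgroup.mem_zpowers g)
        obtain ⟨k, hk⟩ : ∃ k : ℕ, g ^ k = g⁻¹ := (isOfFinOrder_of_finite g).mem_powers_iff_mem_zpowers.mpr h1
        have h2 : ∀ k : ℕ, ∀ w ∈ W, g ^ k * w * (g ^ k)⁻¹ ∈ W := by
          intro k
          induction k with
          | zero => intro w hw; simpa using hw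
          | succ k ih =>
              intro w hw
              rw [show g ^ (k + 1) * w * (g ^ (k + 1))⁻¹ = g * (g ^ k * w * (g ^ k)⁻¹) * g⁻¹ by
                rw [pow_succ']; group]
              exact hn _ (ih w hw)
        have h3 := h2 k _ hn'
        rwa [hk, show g⁻¹ * (g * n) * g⁻¹⁻¹ = n * g by group] at h3
  let act : MulAction S W :=
    { smul := fun s w => ⟨s * w * (s : F)⁻¹, (Subgroup.mem_normalizer_iff.mp (hS s.2) w).mp w.2⟩
      one_smul := fun w => Subtype.ext (by
        show ((1 : S) : F) * w * ((1 : S) : F)⁻¹ = w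
        simp)
      mul_smul := fun s t w => Subtype.ext (by
        show ((s * t : S) : F) * w * ((s * t : S) : F)⁻¹ = s * (t * w * (t : F)⁻¹) * (s : F)⁻¹
        simp [mul_assoc]) }
  have hSq : IsPGroup q S := IsPGroup.of_card (n := 1) (by
    rw [pow_one, Nat.card_zpowers, orderOf_eq_prime (h.pow_q hg) (fun e => hg (e ▸ one_mem V))])
  have hmod := hSq.card_modEq_card_fixedPoints W
  have hfix : Nat.card (MulAction.fixedPoints S W) = 1 := by
    rw [Nat.card_eq_one_iff_unique]
    refine ⟨⟨fun a b => Subtype.ext (Subtype.ext ?_)⟩, ⟨⟨1, fun s => Subtype.ext (by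
      show (s : F) * ((1 : W) : F) * (s : F)⁻¹ = ((1 : W) : F)
      simp)⟩⟩⟩
    have : ∀ a : MulAction.fixedPoints S W, ((a : W) : F) = 1 := fun a => by
      refine h.fpf g hg _ (hW a.1.2) ?_
      have := congrArg Subtype.val (a.2 ⟨g, Subgroup.mem_zpowers g⟩)
      change g * ((a : W) : F) * g⁻¹ = _ at this
      exact mul_inv_eq_iff_eq_mul.mp this
    rw [this a, this b]
  rw [hfix] at hmod
  obtain ⟨k, hk, hkc⟩ := (Nat.dvd_prime_pow h.hp).mp (h.card ▸ Subgroup.card_dvd_of_le hW)
  rw [hkc, ← ZMod.natCast_eq_natCast_iff, Nat.cast_pow, Nat.cast_one] at hmod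
  have hk0 : k ≠ 0 := fun e => hW1 (Subgroup.card_eq_one.mp (by rw [hkc, e, pow_zero]))
  have := Nat.le_of_dvd (Nat.pos_of_ne_zero hk0) (orderOf_dvd_of_pow_eq_one hmod)
  refine Subgroup.eq_of_le_of_card_ge hW ?_
  rw [hkc, h.card]
  exact Nat.pow_le_pow_right h.hp.pos this

theorem Crit.sub_top (h : Crit F V p q) {H : Subgroup F} {a b : F} (ha : a ∈ H) (hb : b ∈ H)
    (hpa : orderOf a = p) (hqb : orderOf b = q) : H = ⊤ := by
  haveI := h.normal
  have hbV := h.not_mem_of_order hqb
  have hav : a ∈ V := by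
    by_contra hn
    have h1 := orderOf_dvd_of_pow_eq_one (h.pow_q hn)
    rw [hpa] at h1
    exact h.hpq ((Nat.prime_dvd_prime_iff_eq h.hp h.hq).mp h1)
  have hne : H ⊓ V ≠ ⊥ := fun e => by
    have : a ∈ (⊥ : Subgroup F) := e ▸ ⟨ha, hav⟩
    rw [Subgroup.mem_bot.mp this, orderOf_one] at hpa
    exact h.hp.ne_one hpa.symm
  have hV := h.eq_V inf_le_right hne hbV fun w hw =>
    Subgroup.mem_inf.mpr ⟨mul_mem (mul_mem hb hw.1) (inv_mem hb), h.normal.conj_mem w hw.2 b⟩
  refine Subgroup.eq_top_of_le_card _ (Nat.le_of_dvd Nat.card_pos ?_)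
  rw [h.card_group]
  refine Nat.Coprime.mul_dvd_of_dvd_of_dvd ?_ (h.card ▸ Subgroup.card_dvd_of_le (inf_eq_right.mp hV))
    (hqb ▸ Subgroup.orderOf_dvd_natCard H hb)
  exact ((Nat.coprime_primes h.hp h.hq).mpr h.hpq).pow_left _

theorem Crit.pow_dvd_of_normal (h : Crit F V p q) {M : Subgroup F} (hM : M.Normal) (hM1 : M ≠ ⊥) :
    p ^ orderOf (p : ZMod q) ∣ Nat.card M := by
  obtain ⟨g, hg⟩ := h.exists_both.2
  have hgV := h.not_mem_of_order hg
  have hne : M ⊓ V ≠ ⊥ := fun e => by
    obtain ⟨⟨m, hm⟩, hm1⟩ := Subgroup.ne_bot_iff_exists_ne_one.mp hM1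
    have hmV : m ∉ V := fun hv => hm1 (Subtype.ext (Subgroup.mem_bot.mp (e ▸ ⟨hm, hv⟩ : m ∈ (⊥ : Subgroup F))))
    obtain ⟨v, hv⟩ := h.exists_both.1
    have hvV : v ∈ V := by
      by_contra hn
      have h1 := orderOf_dvd_of_pow_eq_one (h.pow_q hn)
      rw [hv] at h1
      exact h.hpq ((Nat.prime_dvd_prime_iff_eq h.hp h.hq).mp h1)
    have hc : m * v * m⁻¹ * v⁻¹ ∈ M ⊓ V := Subgroup.mem_inf.mpr ⟨by
      rw [show m * v * m⁻¹ * v⁻¹ = m * (v * m⁻¹ * v⁻¹) by group]
      exact mul_mem hm (hM.conj_mem _ (inv_mem hm) v), mul_mem (h.normal.conj_mem v hvV m) (inv_mem hvV)⟩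
    rw [e, Subgroup.mem_bot] at hc
    have := h.fpf m hmV v hvV (mul_inv_eq_iff_eq_mul.mp (mul_inv_eq_one.mp hc))
    rw [this, orderOf_one] at hv
    exact h.hp.ne_one hv.symm
  have hV := h.eq_V inf_le_right hne hgV fun w hw =>
    ⟨hM.conj_mem w hw.1 g, h.normal.conj_mem w hw.2 g⟩
  exact h.card ▸ Subgroup.card_dvd_of_le (inf_eq_right.mp hV)

theorem Crit.exists_noncomm (h : Crit F V p q) {x : F} (hx : x ≠ 1) : ∃ g, ¬ Commute x g := by
  by_contra hh
  push Not at hh
  by_cases hxV : x ∈ V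
  · obtain ⟨g, hg⟩ := h.exists_both.2
    exact hx (h.fpf g (h.not_mem_of_order hg) x hxV (hh g).symm)
  · obtain ⟨v, hv⟩ := h.exists_both.1
    have hvV : v ∈ V := by
      by_contra hn
      have h1 := orderOf_dvd_of_pow_eq_one (h.pow_q hn)
      rw [hv] at h1
      exact h.hpq ((Nat.prime_dvd_prime_iff_eq h.hp h.hq).mp h1)
    rw [h.fpf x hxV v hvV (hh v), orderOf_one] at hv
    exact h.hp.ne_one hv.symm

/-- A finite group is critical with respect to a set Ω of natural numbers when its set of element orders is Ω while no proper section H/N (H a subgroup, N normal in H, (H, N) ≠ (whole group, 1)) has Ω as its set of element orders. Let s ≥ 1 and let p(j,0), p(j,1) (j < s) be 2s pairwise distinct primes, and let Ω be the set of all products c(0)·…·c(s−1) with each c(j) ∈ {1, p(j,0), p(j,1)}. Then there are 2^s pairwise non-isomorphic finite groups critical with respect to Ω. -/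
theorem result (s : ℕ) (hs : 1 ≤ s) (p : Fin s → Fin 2 → ℕ)
    (hp : ∀ j i, (p j i).Prime) (hinj : ∀ j i j' i', p j i = p j' i' → j = j' ∧ i = i') :
    ∃ (G : Fin (2 ^ s) → Type) (_ : ∀ a, Group (G a)) (_ : ∀ a, Fintype (G a)),
      (∀ a b, a ≠ b → ¬ Nonempty (G a ≃* G b)) ∧
      ∀ a, Set.range (orderOf : (G a) → ℕ) = {m : ℕ | ∃ c : Fin s → ℕ, (∀ j, c j = 1 ∨ c j = p j 0 ∨ c j = p j 1) ∧ m = ∏ j, c j} ∧
      ∀ (H : Subgroup (G a)) (N : Subgroup ↥H) [N.Normal], (H ≠ ⊤ ∨ N ≠ ⊥) → Set.range (orderOf : (↥H ⧸ N) → ℕ) ≠ {m : ℕ | ∃ c : Fin s → ℕ, (∀ j, c j = 1 ∨ c j = p j 0 ∨ c j = p j 1) ∧ m = ∏ j, c j} := by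
  classical
  have hne : ∀ j, p j 0 ≠ p j 1 := fun j h => by
    have := (hinj j 0 j 1 h).2
    exact absurd this (by decide)
  choose F iG iF V hC using fun (j : Fin s) (i : Fin 2) => exists_crit (p j i) (p j (1 - i)) (hp _ _) (hp _ _) (by
    fin_cases i
    · exact hne j
    · exact (hne j).symm)
  let bit : Fin (2 ^ s) → Fin s → Fin 2 := finFunctionFinEquiv.symm
  let pp : Fin (2 ^ s) → Fin s → ℕ := fun a j => p j (bit a j)
  let qq : Fin (2 ^ s) → Fin s → ℕ := fun a j => p j (1 - bit a j)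
  have hpq : ∀ a j, (pp a j = p j 0 ∧ qq a j = p j 1) ∨ (pp a j = p j 1 ∧ qq a j = p j 0) := fun a j => by
    show (p j (bit a j) = _ ∧ p j (1 - bit a j) = _) ∨ (p j (bit a j) = _ ∧ p j (1 - bit a j) = _)
    generalize bit a j = i
    fin_cases i
    · exact Or.inl ⟨rfl, rfl⟩
    · exact Or.inr ⟨rfl, rfl⟩
  have hcop : ∀ j j', j ≠ j' → ∀ i i', Nat.Coprime (p j i) (p j' i') := fun j j' hjj i i' =>
    (Nat.coprime_primes (hp _ _) (hp _ _)).mpr fun e => hjj (hinj _ _ _ _ e).1
  let G : Fin (2 ^ s) → Type := fun a => ∀ j, F j (bit a j)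
  letI iGG : ∀ a, Group (G a) := fun a => (Pi.group : Group (∀ j, F j (bit a j)))
  letI iGF : ∀ a, Fintype (G a) := fun a => by dsimp only [G]; infer_instance
  have hcardG : ∀ a, Nat.card (G a) = ∏ j, (pp a j) ^ orderOf (pp a j : ZMod (qq a j)) * qq a j := fun a => by
    rw [show Nat.card (G a) = ∏ j, Nat.card (F j (bit a j)) from Nat.card_pi]
    exact Finset.prod_congr rfl fun j _ => (hC j (bit a j)).card_group
  refine ⟨G, iGG, iGF, fun a b hab ⟨e⟩ => ?_, fun a => ?_⟩
  · -- the orders differ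
    have hc := Nat.card_congr e.toEquiv
    rw [hcardG, hcardG] at hc
    obtain ⟨j, hj⟩ : ∃ j, bit a j ≠ bit b j := by
      by_contra h
      push Not at h
      exact hab (finFunctionFinEquiv.symm.injective (funext h))
    have hsw : pp b j = qq a j ∧ qq b j = pp a j := by
      show p j (bit b j) = p j (1 - bit a j) ∧ p j (1 - bit b j) = p j (bit a j)
      revert hj
      generalize bit a j = i
      generalize bit b j = i'
      revert i i'
      simp [Fin.forall_fin_two]
    set P := pp a j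
    set Q := qq a j
    have hP : P.Prime := hp _ _
    have hQ : Q.Prime := hp _ _
    have hPQ : P ≠ Q := (hC j (bit a j)).hpq
    rw [← Finset.mul_prod_erase _ _ (Finset.mem_univ j), ← Finset.mul_prod_erase _ _ (Finset.mem_univ j), hsw.1,
      hsw.2] at hc
    have hrest : ∀ (c : Fin (2 ^ s)) (r : ℕ), r.Prime → (∃ i, r = p j i) →
        Nat.Coprime r (∏ x ∈ Finset.univ.erase j, pp c x ^ orderOf (pp c x : ZMod (qq c x)) * qq c x) := by
      rintro c r - ⟨i, rfl⟩
      refine Nat.Coprime.prod_right fun x hx => ?_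
      have hxj := (Finset.ne_of_mem_erase hx).symm
      exact Nat.Coprime.mul_right ((hcop j x hxj i _).pow_right _) (hcop j x hxj i _)
    set d := orderOf (P : ZMod Q) with hd
    set e' := orderOf (Q : ZMod P) with he
    have hd0 : d ≠ 0 := (hC j (bit a j)).dpos
    have he0 : e' ≠ 0 := by
      haveI : Fact P.Prime := ⟨hP⟩
      refine fun h0 => (orderOf_eq_zero_iff.mp h0) (isOfFinOrder_iff_pow_eq_one.mpr ⟨P - 1, ?_,
        ZMod.pow_card_sub_one_eq_one ?_⟩)
      · have := hP.two_le; omega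
      · exact fun e2 => hPQ ((Nat.prime_dvd_prime_iff_eq hP hQ).mp ((ZMod.natCast_eq_zero_iff Q P).mp e2))
    have hd1 : P ^ d ∣ P ^ 1 := by
      rw [pow_one]
      have h1 : P ^ d ∣ Q ^ e' * P * ∏ x ∈ Finset.univ.erase j, pp b x ^ orderOf (pp b x : ZMod (qq b x)) * qq b x :=
        hc ▸ ((dvd_mul_right _ _).mul_right _)
      have h2 := ((hrest b P hP ⟨_, rfl⟩).pow_left d).dvd_of_dvd_mul_right h1
      exact (((Nat.coprime_primes hP hQ).mpr hPQ).pow d e').dvd_of_dvd_mul_left h2
    have he1 : Q ^ e' ∣ Q ^ 1 := by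
      rw [pow_one]
      have h1 : Q ^ e' ∣ P ^ d * Q * ∏ x ∈ Finset.univ.erase j, pp a x ^ orderOf (pp a x : ZMod (qq a x)) * qq a x :=
        hc.symm ▸ ((dvd_mul_right _ _).mul_right _)
      have h2 := ((hrest a Q hQ ⟨_, rfl⟩).pow_left e').dvd_of_dvd_mul_right h1
      exact (((Nat.coprime_primes hQ hP).mpr hPQ.symm).pow e' d).dvd_of_dvd_mul_left h2
    have hd1' : d = 1 := by have := (Nat.pow_dvd_pow_iff_le_right hP.one_lt).mp hd1; omega
    have he1' : e' = 1 := by have := (Nat.pow_dvd_pow_iff_le_right hQ.one_lt).mp he1; omega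
    rw [hd, orderOf_eq_one_iff] at hd1'
    rw [he, orderOf_eq_one_iff] at he1'
    rw [← Nat.cast_one, ZMod.natCast_eq_natCast_iff] at hd1' he1'
    have h1 := Nat.le_of_dvd (by have := hP.two_le; omega) ((Nat.modEq_iff_dvd' hP.pos).mp hd1'.symm)
    have h2 := Nat.le_of_dvd (by have := hQ.two_le; omega) ((Nat.modEq_iff_dvd' hQ.pos).mp he1'.symm)
    have := hP.two_le
    omega
  have horder : ∀ j (g : F j (bit a j)), orderOf g = 1 ∨ orderOf g = p j 0 ∨ orderOf g = p j 1 := fun j g => by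
    rcases (hC j (bit a j)).orderOf_mem g with h | h | h
    · exact Or.inl h
    all_goals
      rcases hpq a j with ⟨h1, h2⟩ | ⟨h1, h2⟩
      all_goals first
        | exact Or.inr (Or.inl (h.trans h1))
        | exact Or.inr (Or.inr (h.trans h1))
        | exact Or.inr (Or.inl (h.trans h2))
        | exact Or.inr (Or.inr (h.trans h2))
  have hex : ∀ j i, ∃ g : F j (bit a j), orderOf g = p j i := fun j i => by
    obtain ⟨⟨g, hg⟩, g', hg'⟩ := (hC j (bit a j)).exists_both
    rcases hpq a j with ⟨h1, h2⟩ | ⟨h1, h2⟩ <;> fin_cases i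
    · exact ⟨g, hg.trans h1⟩
    · exact ⟨g', hg'.trans h2⟩
    · exact ⟨g', hg'.trans h2⟩
    · exact ⟨g, hg.trans h1⟩
  have hprod : ∀ x : G a, orderOf x = ∏ j, orderOf (x j) := fun x => by
    have hpc : ∀ j j', j ≠ j' → Nat.Coprime (orderOf (x j)) (orderOf (x j')) := fun j j' hjj => by
      rcases horder j (x j) with h | h | h <;> rcases horder j' (x j') with h' | h' | h' <;> rw [h, h'] <;>
        first | exact Nat.coprime_one_left _ | exact Nat.coprime_one_right _ | exact hcop j j' hjj _ _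
    refine Nat.dvd_antisymm (orderOf_dvd_of_pow_eq_one (funext fun j => ?_)) ?_
    · exact orderOf_dvd_iff_pow_eq_one.mp (Finset.dvd_prod_of_mem _ (Finset.mem_univ j))
    · exact Finset.prod_dvd_of_isRelPrime (fun j _ j' _ hjj => Nat.coprime_iff_isRelPrime.mp (hpc j j' hjj)) fun j _ =>
        orderOf_map_dvd (Pi.evalMonoidHom (fun j => F j (bit a j)) j) x
  refine ⟨?_, fun H N hN hHN hspec => ?_⟩
  · ext m
    constructor
    · rintro ⟨x, rfl⟩
      exact ⟨fun j => orderOf (x j), fun j => horder j (x j), hprod x⟩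
    · rintro ⟨c, hc, rfl⟩
      choose x hx using fun j => show ∃ g : F j (bit a j), orderOf g = c j by
        rcases hc j with h | h | h
        · exact ⟨1, by rw [orderOf_one, h]⟩
        · obtain ⟨g, hg⟩ := hex j 0; exact ⟨g, hg.trans h.symm⟩
        · obtain ⟨g, hg⟩ := hex j 1; exact ⟨g, hg.trans h.symm⟩
      exact ⟨x, (hprod x).trans (Finset.prod_congr rfl fun j _ => hx j)⟩
  haveI := hN
  have hdiv : ∀ j i, p j i ∣ Nat.card (↥H ⧸ N) := fun j i => by
    obtain ⟨z, hz⟩ : p j i ∈ Set.range (orderOf : (↥H ⧸ N) → ℕ) := by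
      rw [hspec]
      refine ⟨Function.update (fun _ => 1) j (p j i), fun k => ?_, ?_⟩
      · rcases eq_or_ne k j with rfl | hk
        · rw [Function.update_self]; fin_cases i
          · exact Or.inr (Or.inl rfl)
          · exact Or.inr (Or.inr rfl)
        · rw [Function.update_of_ne hk]; exact Or.inl rfl
      · rw [Finset.prod_update_of_mem (Finset.mem_univ j)]; simp
    exact hz ▸ orderOf_dvd_natCard z
  have hH : H = ⊤ := by
    have hsingle : ∀ j, H.comap (MonoidHom.mulSingle (fun j => F j (bit a j)) j) = ⊤ := by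
      intro j
      have hmem : ∀ i, ∃ g ∈ H.comap (MonoidHom.mulSingle (fun j => F j (bit a j)) j), orderOf g = p j i := by
        intro i
        haveI : Fact (p j i).Prime := ⟨hp j i⟩
        obtain ⟨x, hx⟩ := exists_prime_orderOf_dvd_card' (p j i) ((hdiv j i).trans N.card_quotient_dvd_card)
        have hxo : orderOf (x : G a) = p j i := (Subgroup.orderOf_coe x).trans hx
        have hz : ∀ k, k ≠ j → (x : G a) k = 1 := fun k hk => by
          have h1 : orderOf ((x : G a) k) ∣ p j i :=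
            hxo ▸ orderOf_map_dvd (Pi.evalMonoidHom (fun j => F j (bit a j)) k) (x : G a)
          rcases horder k ((x : G a) k) with h | h | h
          · exact orderOf_eq_one_iff.mp h
          all_goals
            rw [h] at h1
            exact absurd (Nat.eq_one_of_dvd_coprimes (hcop k j hk _ _) dvd_rfl h1) (hp _ _).ne_one
        have hxe : MonoidHom.mulSingle (fun j => F j (bit a j)) j ((x : G a) j) = (x : G a) := by
          funext k
          rcases eq_or_ne k j with rfl | hk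
          · simp
          · simp [hz k hk, hk]
        refine ⟨(x : G a) j, by rw [Subgroup.mem_comap, hxe]; exact x.2, ?_⟩
        rw [← hxo, ← hxe, orderOf_injective (MonoidHom.mulSingle (fun j => F j (bit a j)) j) fun u v h => by simpa using congrFun h j]
        simp
      obtain ⟨g, hg, hgo⟩ := hmem (bit a j)
      obtain ⟨g', hg', hgo'⟩ := hmem (1 - bit a j)
      exact (hC j (bit a j)).sub_top hg hg' hgo hgo'
    refine eq_top_iff.mpr fun x _ => Subgroup.pi_mem_of_mulSingle_mem x fun j => ?_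
    have := hsingle j ▸ Subgroup.mem_top (x j)
    exact this
  have hN1 : N ≠ ⊥ := hHN.resolve_left (fun h => h hH)
  subst hH
  obtain ⟨⟨x, hx⟩, hx1⟩ := Subgroup.ne_bot_iff_exists_ne_one.mp hN1
  have hx1' : (x : G a) ≠ 1 := fun e => hx1 (Subtype.ext (Subtype.ext e))
  obtain ⟨j, hj⟩ : ∃ j, (x : G a) j ≠ 1 := by
    by_contra hh
    push Not at hh
    exact hx1' (funext hh)
  let ι : F j (bit a j) →* (⊤ : Subgroup (G a)) :=
    (MonoidHom.mulSingle (fun j => F j (bit a j)) j).codRestrict ⊤ fun _ => Subgroup.mem_top _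
  obtain ⟨g, hg⟩ := (hC j (bit a j)).exists_noncomm hj
  have hM1 : N.comap ι ≠ ⊥ := fun e => by
    have hmem : ι ((x : G a) j * g * ((x : G a) j)⁻¹ * g⁻¹) = x * ι g * x⁻¹ * (ι g)⁻¹ := by
      refine Subtype.ext (funext fun k => ?_)
      simp only [ι, Subgroup.coe_mul, Subgroup.coe_inv, MonoidHom.codRestrict_apply]
      rcases eq_or_ne k j with rfl | hk
      · simp; change _ = (x : G a) k * (Pi.mulSingle (M := fun j => F j (bit a j)) k g) k * ((x : G a) k)⁻¹ * ((Pi.mulSingle (M := fun j => F j (bit a j)) k g) k)⁻¹; simp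
      · simp [hk]; change _ = (x : G a) k * (Pi.mulSingle (M := fun j => F j (bit a j)) j g) k * ((x : G a) k)⁻¹ * ((Pi.mulSingle (M := fun j => F j (bit a j)) j g) k)⁻¹; simp [hk]
    have hin : x * ι g * x⁻¹ * (ι g)⁻¹ ∈ N := by
      rw [show x * ι g * x⁻¹ * (ι g)⁻¹ = x * (ι g * x⁻¹ * (ι g)⁻¹) by group]
      exact mul_mem hx (hN.conj_mem _ (inv_mem hx) _)
    rw [← hmem, ← Subgroup.mem_comap, e, Subgroup.mem_bot] at hin
    exact hg (mul_inv_eq_iff_eq_mul.mp (mul_inv_eq_one.mp hin))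
  have hιinj : Function.Injective ι := fun u v h => by simpa [ι] using congrFun (congrArg Subtype.val h) j
  have hdN : pp a j ^ orderOf (pp a j : ZMod (qq a j)) ∣ Nat.card N := by
    refine ((hC j (bit a j)).pow_dvd_of_normal (Subgroup.Normal.comap hN ι) hM1).trans ?_
    rw [← Subgroup.card_map_of_injective hιinj]
    exact Subgroup.card_dvd_of_le (Subgroup.map_comap_le ι N)
  have hall : pp a j ^ (orderOf (pp a j : ZMod (qq a j)) + 1) ∣ Nat.card (G a) := by
    rw [← Subgroup.card_top (G := G a), N.card_eq_card_quotient_mul_card_subgroup, pow_succ']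
    exact Nat.mul_dvd_mul (hdiv j (bit a j)) hdN
  rw [hcardG, ← Finset.mul_prod_erase _ _ (Finset.mem_univ j), mul_assoc] at hall
  have hco : Nat.Coprime (pp a j) (qq a j * ∏ k ∈ Finset.univ.erase j, pp a k ^ orderOf (pp a k : ZMod (qq a k)) * qq a k) :=
    Nat.Coprime.mul_right ((Nat.coprime_primes (hp _ _) (hp _ _)).mpr (hC j (bit a j)).hpq)
      (Nat.Coprime.prod_right fun k hk => Nat.Coprime.mul_right ((hcop j k (Finset.ne_of_mem_erase hk).symm _ _).pow_right _)
        (hcop j k (Finset.ne_of_mem_erase hk).symm _ _))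
  have := (Nat.pow_dvd_pow_iff_le_right (hp j (bit a j)).one_lt).mp ((hco.pow_left _).dvd_of_dvd_mul_right hall)
  omega

end Cfsg.Agent.S3599
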