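import Cfsg.Statements.S3600
import Cfsg.Agent.S1475
import Cfsg.Agent.Lib.Block.Spec5.Affine.Identify

set_option autoImplicit false
open Cfsg

namespace Cfsg.Agent.S3600

/-- A finite group is critical with respect to a set Ω of natural numbers when its set of element orders is Ω while no proper section has Ω as its set of element orders. A finite group critical with respect to {1, 2, 3, 4, 5} (the set of element orders of the alternating group of degree 6) is isomorphic either to the alternating group of degree 6 or to the affine group F² ⋊ SL(2,F) over the field F with four elements (realised as the matrices of SL(3,F) with last row (0, 0, 1)). -/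
theorem result {G : Type*} [Group G] [Finite G]
    (hcrit : Set.range (orderOf : G → ℕ) = ({1, 2, 3, 4, 5} : Set ℕ) ∧
      ∀ (H : Subgroup G) (N : Subgroup ↥H) [N.Normal], (H ≠ ⊤ ∨ N ≠ ⊥) → Set.range (orderOf : (↥H ⧸ N) → ℕ) ≠ ({1, 2, 3, 4, 5} : Set ℕ)) :
    Nonempty (G ≃* alternatingGroup (Fin 6)) ∨
      ∃ (F : Type) (_ : Field F) (_ : Fintype F), Fintype.card F = 4 ∧
        Nonempty (G ≃* ↥(Subgroup.closure {M : Matrix.SpecialLinearGroup (Fin 3) F |
          (M : Matrix (Fin 3) (Fin 3) F) 2 0 = 0 ∧ (M : Matrix (Fin 3) (Fin 3) F) 2 1 = 0 ∧ (M : Matrix (Fin 3) (Fin 3) F) 2 2 = 1})) := by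
  obtain ⟨hr, hsec⟩ := hcrit
  have h5 : Cfsg.Agent.Block.Spec5.Ord5 G := fun g => by
    have : orderOf g ∈ ({1, 2, 3, 4, 5} : Set ℕ) := hr ▸ ⟨g, rfl⟩
    simp only [Set.mem_insert_iff, Set.mem_singleton_iff] at this
    omega
  have hns : ¬ Group.IsSolvable G := fun hs => by
    have hle := @Cfsg.Agent.S1475.result G _ _ hs fun g => or_iff_not_imp_right.mpr (h5.isPrimePow g)
    have hsub : ({2, 3, 5} : Finset ℕ) ⊆ (Nat.card G).primeFactors := by
      intro k hk
      simp only [Finset.mem_insert, Finset.mem_singleton] at hk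
      obtain ⟨g, rfl⟩ : k ∈ Set.range (orderOf : G → ℕ) := by rw [hr]; rcases hk with rfl | rfl | rfl <;> simp
      refine Nat.mem_primeFactors.mpr ⟨?_, orderOf_dvd_natCard g, Nat.card_pos.ne'⟩
      rcases hk with e | e | e <;> rw [e] <;> norm_num
    have := Finset.card_le_card hsub
    simp at this
    omega
  rcases Cfsg.Agent.Block.Spec5.main G h5 hns with e | ⟨N, hNn, ⟨-, hN2⟩, ⟨f⟩⟩
  · exact Or.inl e
  right
  have hNp : IsPGroup 2 N := fun x => ⟨1, Subtype.ext (by simpa using hN2 x x.2)⟩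
  have hN1 : N ≠ ⊥ := by
    rintro rfl
    obtain ⟨g, hg⟩ : 4 ∈ Set.range (orderOf : G → ℕ) := by rw [hr]; simp
    have := Cfsg.Agent.Recog.a5_orderOf ((QuotientGroup.quotientBot.symm.trans f) g)
    rw [MulEquiv.orderOf_eq, hg] at this
    omega
  refine Cfsg.Agent.Block.Spec5.affine_of_minimal h5 N hNp hN1 f fun M hMn hMN hM1 => ?_
  by_contra hne
  haveI := hMn
  apply hsec ⊤ (M.comap (⊤ : Subgroup G).subtype) (Or.inr fun e => hM1 (by
    refine (Subgroup.eq_bot_iff_forall M).mpr fun x hx => ?_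
    have h0 : (⟨x, Subgroup.mem_top x⟩ : (⊤ : Subgroup G)) ∈ M.comap (⊤ : Subgroup G).subtype := hx
    rw [e, Subgroup.mem_bot] at h0
    exact congrArg Subtype.val h0))
  exact Cfsg.Agent.Block.Spec5.quot_spectrum h5 hr N hNp f M hMN hne

end Cfsg.Agent.S3600
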