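import Cfsg.Statements.S3611
import Cfsg.Agent.Lib.Grp.HalfNormalizer.Action
-- import your own Cfsg.Agent.* helpers here

set_option autoImplicit false
open Cfsg

namespace Cfsg.Agent.S3611

/-- Let G be an insoluble group acting faithfully and transitively on a finite set of prime size p, and suppose the normalizer of a Sylow p-subgroup of G has order p(p-1)/2. If p ≡ 3 (mod 4), then G is triply transitive, or for any two distinct points the stabilizer of both has exactly four orbits on the set (the two fixed points and exactly two orbits on the remaining p - 2 points). -/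
theorem result {G Ω : Type*} [Group G] [Finite G] [MulAction G Ω] [FaithfulSMul G Ω] [Finite Ω]
    (p : ℕ) (hp : p.Prime) (hΩ : Nat.card Ω = p) (htrans : MulAction.IsPretransitive G Ω)
    (hins : ¬ Group.IsSolvable G) (P : Sylow p G)
    (hN : 2 * Nat.card ↥(Subgroup.normalizer ((P : Subgroup G) : Set G)) = p * (p - 1))
    (hp3 : p % 4 = 3) :
    MulAction.IsMultiplyPretransitive G Ω 3 ∨
    ∀ α β : Ω, α ≠ β →
      Nat.card (MulAction.orbitRel.Quotient ↥(MulAction.stabilizer G α ⊓ MulAction.stabilizer G β) Ω) = 4 := by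
  classical
  have : Fact p.Prime := ⟨hp⟩
  have h : Cfsg.Agent.Grp.HalfNormalizer.Hyp G Ω p :=
    Cfsg.Agent.Grp.HalfNormalizer.Hyp.of_half hΩ htrans hins P hN.ge
  refine h.dichotomy.imp_right fun hr α β hab => ?_
  obtain ⟨c, d, hca, hcb, hda, hdb, hsep, hcov⟩ := hr α β hab
  have hfix : ∀ (g : ↥(MulAction.stabilizer G α ⊓ MulAction.stabilizer G β)) (x : Ω),
      g • x = (g : G) • x := fun g x => rfl
  let q : Ω → MulAction.orbitRel.Quotient ↥(MulAction.stabilizer G α ⊓ MulAction.stabilizer G β) Ω :=
    fun x => Quotient.mk'' x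
  have hq : ∀ x y, q x = q y ↔ ∃ g : G, g • α = α ∧ g • β = β ∧ g • y = x := by
    intro x y
    refine Quotient.eq''.trans ⟨?_, ?_⟩
    · rintro ⟨g, rfl⟩
      exact ⟨g, g.2.1, g.2.2, rfl⟩
    · rintro ⟨g, ga, gb, rfl⟩
      exact ⟨⟨g, ga, gb⟩, rfl⟩
  have hbij : Function.Bijective fun i : Fin 4 => q (![α, β, c, d] i) := by
    constructor
    · intro i j hij
      obtain ⟨g, ga, gb, hg⟩ := (hq _ _).1 hij
      have key : ∀ {x y : Ω}, g • x = y → g • y = y → x = y :=
        fun h1 h2 => MulAction.injective g (h1.trans h2.symm)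
      have ga' : g⁻¹ • α = α := by rw [inv_smul_eq_iff, ga]
      have gb' : g⁻¹ • β = β := by rw [inv_smul_eq_iff, gb]
      fin_cases i <;> fin_cases j <;> simp at hg ⊢
      · exact hab (key hg ga).symm
      · exact hca (key hg ga)
      · exact hda (key hg ga)
      · exact hab (key hg gb)
      · exact hcb (key hg gb)
      · exact hdb (key hg gb)
      · exact hca (hg.symm.trans ga)
      · exact hcb (hg.symm.trans gb)
      · exact hsep g⁻¹ ga' gb' (inv_smul_eq_iff.2 hg.symm)
      · exact hda (hg.symm.trans ga)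
      · exact hdb (hg.symm.trans gb)
      · exact hsep g ga gb hg
    · intro z
      induction z using Quotient.inductionOn' with
      | h z =>
        by_cases hza : z = α
        · exact ⟨0, by rw [hza]; rfl⟩
        by_cases hzb : z = β
        · exact ⟨1, by rw [hzb]; rfl⟩
        obtain ⟨g, ga, gb, hg | hg⟩ := hcov z hza hzb
        · exact ⟨2, ((hq z c).2 ⟨g, ga, gb, hg⟩).symm⟩
        · exact ⟨3, ((hq z d).2 ⟨g, ga, gb, hg⟩).symm⟩
  rw [← Nat.card_eq_of_bijective _ hbij, Nat.card_fin]

end Cfsg.Agent.S3611
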