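import Cfsg.Statements.S3612
import Cfsg.Agent.Lib.Grp.HalfNormalizer.System
-- import your own Cfsg.Agent.* helpers here

set_option autoImplicit false
open Cfsg
open scoped Pointwise

namespace Cfsg.Agent.S3612

/-- Let G be an insoluble group acting faithfully and transitively on a finite set of prime size p, and suppose the normalizer of a Sylow p-subgroup of G has order p(p-1)/2. If p > 7, then the stabilizer of a point acts primitively on the remaining p - 1 points. -/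
theorem result {G Ω : Type*} [Group G] [Finite G] [MulAction G Ω] [FaithfulSMul G Ω] [Finite Ω]
    (p : ℕ) (hp : p.Prime) (hΩ : Nat.card Ω = p) (htrans : MulAction.IsPretransitive G Ω)
    (hins : ¬ Group.IsSolvable G) (P : Sylow p G)
    (hN : 2 * Nat.card ↥(Subgroup.normalizer ((P : Subgroup G) : Set G)) = p * (p - 1))
    (hp7 : 7 < p) (α : Ω) :
    MulAction.IsPreprimitive ↥(MulAction.stabilizer G α) ↥(SubMulAction.ofStabilizer G α) := by
  classical
  have : Fact p.Prime := ⟨hp⟩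
  have h : Cfsg.Agent.Grp.HalfNormalizer.Hyp G Ω p :=
    Cfsg.Agent.Grp.HalfNormalizer.Hyp.of_half hΩ htrans hins P hN.ge
  have : MulAction.IsPretransitive ↥(MulAction.stabilizer G α) ↥(SubMulAction.ofStabilizer G α) := by
    refine ⟨fun x y => ?_⟩
    obtain ⟨g, ga, gx⟩ := h.two (a := α) (c := α) (Ne.symm (show (x : Ω) ≠ α from x.2))
      (Ne.symm (show (y : Ω) ≠ α from y.2))
    exact ⟨⟨g, ga⟩, Subtype.ext gx⟩
  refine { isTrivialBlock_of_isBlock := fun {B} hB => ?_ }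
  rw [MulAction.IsTrivialBlock]
  by_contra hnt
  rw [not_or, Set.not_subsingleton_iff] at hnt
  obtain ⟨⟨c, hcB, d, hdB, hcd⟩, hBu⟩ := hnt
  obtain ⟨v, hvB⟩ : ∃ v, v ∉ B := by
    by_contra hh
    push Not at hh
    exact hBu (Set.eq_univ_of_forall hh)
  have hsame : ∀ (g k : G) {x : Ω} {c d : ↥(SubMulAction.ofStabilizer G α)}, g • α = k • α →
      c ∈ B → d ∈ B → g • (c : Ω) = x → k • (d : Ω) = x →
      ∀ e ∈ B, ∃ e' ∈ B, k • (e' : Ω) = g • (e : Ω) := by
    intro g k x c d hgk hc hd hgc hkd e he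
    let s : ↥(MulAction.stabilizer G α) := ⟨k⁻¹ * g, by
      rw [MulAction.mem_stabilizer_iff, mul_smul, hgk, inv_smul_smul]⟩
    have hsc : s • c = d := Subtype.ext (by
      show (k⁻¹ * g) • (c : Ω) = d
      rw [mul_smul, hgc, ← hkd, inv_smul_smul])
    have hs : s • B = B := hB.smul_eq_of_nonempty ⟨d, hsc ▸ Set.smul_mem_smul_set hc, hd⟩
    refine ⟨s • e, hs ▸ Set.smul_mem_smul_set he, ?_⟩
    show k • ((k⁻¹ * g) • (e : Ω)) = _
    rw [mul_smul, smul_inv_smul]
  refine h.no_lines hp7 (fun a x y => x ≠ y ∧ ∃ g : G, g • α = a ∧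
    ∃ c ∈ B, ∃ d ∈ B, g • (c : Ω) = x ∧ g • (d : Ω) = y) ?_ ?_ ?_ ?_ ?_ ?_
  · rintro x y z ⟨hyz, g, rfl, c, -, d, -, rfl, rfl⟩
    exact ⟨fun e => c.2 (MulAction.injective g e).symm, hyz,
      fun e => d.2 (MulAction.injective g e).symm⟩
  · rintro k x y z ⟨hyz, g, rfl, c, hc, d, hd, rfl, rfl⟩
    exact ⟨fun e => hyz (MulAction.injective k e), k * g, mul_smul k g α, c, hc, d, hd,
      mul_smul k g _, mul_smul k g _⟩
  · rintro x y z ⟨hyz, g, hg, c, hc, d, hd, h1, h2⟩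
    exact ⟨hyz.symm, g, hg, d, hd, c, hc, h2, h1⟩
  · rintro x y z w ⟨-, g, hg, c, hc, d, hd, h1, h2⟩ ⟨-, k, hk, c', hc', d', hd', h1', h2'⟩ hzw
    obtain ⟨e', he', hee⟩ := hsame g k (hg.trans hk.symm) hc hc' h1 h1' d hd
    exact ⟨hzw, k, hk, e', he', d', hd', hee.trans h2, h2'⟩
  · exact ⟨α, c, d, fun e => hcd (Subtype.ext e), 1, one_smul G α, c, hcB, d, hdB,
      one_smul G _, one_smul G _⟩
  · refine ⟨α, c, v, Ne.symm (show (c : Ω) ≠ α from c.2),
      fun e => hvB (Subtype.ext e ▸ hcB), Ne.symm (show (v : Ω) ≠ α from v.2), ?_⟩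
    rintro ⟨-, g, hg, c', hc', d', hd', h1, h2⟩
    obtain ⟨e', he', hee⟩ := hsame g 1 (hg.trans (one_smul G α).symm) hc' hcB h1 (one_smul G _) d' hd'
    rw [one_smul, h2] at hee
    exact hvB (Subtype.ext hee ▸ he')

end Cfsg.Agent.S3612
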