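import Cfsg.Statements.S3614
import Cfsg.Agent.Lib.Classical.PrimeTwin.Alt
-- import your own Cfsg.Agent.* helpers here

set_option autoImplicit false
open Cfsg

namespace Cfsg.Agent.S3614

/-- Let G be an insoluble group acting faithfully and transitively on a finite set of prime size p, and suppose the normalizer of a Sylow p-subgroup of G has order p(p-1)/2. If p = q + 2 = 2r + 3 > 9 or p = q + 2 = 3r + 4 > 13 with q and r prime, then G is isomorphic to the alternating group of degree p. -/
theorem result {G Ω : Type*} [Group G] [Finite G] [MulAction G Ω] [FaithfulSMul G Ω] [Finite Ω]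
    (p : ℕ) (hp : p.Prime) (hΩ : Nat.card Ω = p) (htrans : MulAction.IsPretransitive G Ω)
    (hins : ¬ Group.IsSolvable G) (P : Sylow p G)
    (hN : 2 * Nat.card ↥(Subgroup.normalizer ((P : Subgroup G) : Set G)) = p * (p - 1))
    (q r : ℕ) (hq : q.Prime) (hr : r.Prime)
    (hcases : (p = q + 2 ∧ p = 2 * r + 3 ∧ 9 < p) ∨ (p = q + 2 ∧ p = 3 * r + 4 ∧ 13 < p)) :
    Nonempty (G ≃* alternatingGroup (Fin p)) := by
  classical
  have := Fintype.ofFinite Ω
  have h2 := hr.two_le
  rcases hcases with ⟨hpq, hpr, h9⟩ | ⟨hpq, hpr, h13⟩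
  · exact Cfsg.Agent.Classical.PrimeTwin.Twin.iso_alternating
      (q := q) ⟨hp, hq, by omega, hpq, hΩ, htrans, hins, P, hN⟩ hr (Or.inl ⟨hpr, by omega⟩)
  · have hr4 : 4 < r := by
      rcases (show r = 4 ∨ 4 < r by omega) with h | h
      · subst h; norm_num at hr
      · exact h
    exact Cfsg.Agent.Classical.PrimeTwin.Twin.iso_alternating
      (q := q) ⟨hp, hq, by omega, hpq, hΩ, htrans, hins, P, hN⟩ hr (Or.inr ⟨hpr, hr4⟩)

end Cfsg.Agent.S3614
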