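import Cfsg.Statements.S3616
import Cfsg.Agent.Lib.Grp.HalfNormalizer.Extension
-- import your own Cfsg.Agent.* helpers here

set_option autoImplicit false
open Cfsg

namespace Cfsg.Agent.S3616

/-- Let p > 7 be prime and let X be a finite group acting faithfully on a set of p + 1 points by even permutations. Suppose X has a proper subgroup isomorphic to PSL(2, p) that acts doubly transitively on the set (such an action is necessarily the natural one on the projective line). Then X is 4-fold transitive. -/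
theorem result {X Ω : Type*} [Group X] [Finite X] [MulAction X Ω] [FaithfulSMul X Ω] [Fintype Ω] [DecidableEq Ω]
    (p : ℕ) (hp : p.Prime) (hp7 : 7 < p) (hΩ : Fintype.card Ω = p + 1)
    (heven : ∀ x : X, Equiv.Perm.sign (MulAction.toPerm x : Equiv.Perm Ω) = 1)
    (L : Subgroup X) (hL : Nonempty (↥L ≃* Matrix.ProjectiveSpecialLinearGroup (Fin 2) (ZMod p)))
    (hLt : MulAction.IsMultiplyPretransitive ↥L Ω 2) (hLX : L ≠ ⊤) :
    MulAction.IsMultiplyPretransitive X Ω 4 := by
  classical
  have : Fact p.Prime := ⟨hp⟩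
  obtain ⟨φ⟩ := hL
  let ψ : Matrix.SpecialLinearGroup (Fin 2) (ZMod p) →* X :=
    (L.subtype.comp φ.symm.toMonoidHom).comp
      (QuotientGroup.mk' (Subgroup.center (Matrix.SpecialLinearGroup (Fin 2) (ZMod p))))
  have hker : ∀ g, ψ g = 1 ↔ g ∈ Subgroup.center (Matrix.SpecialLinearGroup (Fin 2) (ZMod p)) := by
    intro g
    rw [← QuotientGroup.eq_one_iff g]
    constructor
    · intro h
      exact (map_eq_one_iff φ.symm φ.symm.injective).1 (Subtype.ext h)
    · intro h
      show (L.subtype (φ.symm (QuotientGroup.mk g))) = 1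
      rw [h]
      simp
  have hsurj : ∀ y : L, ∃ g, ψ g = (y : X) := by
    intro y
    obtain ⟨g, hg⟩ := QuotientGroup.mk'_surjective _ (φ y)
    refine ⟨g, ?_⟩
    show (L.subtype (φ.symm (QuotientGroup.mk' _ g))) = (y : X)
    rw [hg]
    exact congrArg Subtype.val (φ.symm_apply_apply y)
  have hpre : MulAction.IsPretransitive L Ω := MulAction.isPretransitive_of_is_two_pretransitive
  obtain ⟨o, ρ, hc⟩ := Cfsg.Agent.Grp.HalfNormalizer.exists_coords (p := p) hΩ ψ hker fun a b => by
    obtain ⟨y, hy⟩ := MulAction.exists_smul_eq L a b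
    obtain ⟨g, hg⟩ := hsurj y
    exact ⟨g, by rw [hg]; exact hy⟩
  refine hc.four hp7 hΩ heven fun htop => hLX (eq_top_iff.2 fun x _ => ?_)
  obtain ⟨g, rfl⟩ : x ∈ ψ.range := htop ▸ Subgroup.mem_top x
  exact (φ.symm (QuotientGroup.mk' _ g)).2

end Cfsg.Agent.S3616
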