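import Cfsg.Statements.S3619
import Mathlib

set_option autoImplicit false
open Cfsg

namespace Cfsg.Agent.S3619
open scoped Pointwise

/-- Let G act faithfully on a finite set in such a way that every non-trivial normal subgroup of G is transitive (G is quasiprimitive). Let Γ be a subset with more than one point and not the whole set, such that the pointwise stabilizer of the complement of Γ acts transitively on Γ (a Jordan set). If that pointwise stabilizer acts primitively on Γ, then G is k-fold transitive where k is one more than the number of points outside Γ (the Jordan set is a trivial one). -/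
theorem result {G Ω : Type*} [Group G] [Finite G] [MulAction G Ω] [FaithfulSMul G Ω] [Finite Ω]
    (hqp : ∀ N : Subgroup G, N.Normal → N ≠ ⊥ → MulAction.IsPretransitive ↥N Ω)
    (Γ : Set Ω) (hΓ1 : 1 < Γ.ncard) (hΓ2 : Γ.ncard < Nat.card Ω)
    (hJ : MulAction.IsPretransitive ↥(fixingSubgroup G Γᶜ) ↥(SubMulAction.ofFixingSubgroup G Γᶜ))
    (hJp : MulAction.IsPreprimitive ↥(fixingSubgroup G Γᶜ) ↥(SubMulAction.ofFixingSubgroup G Γᶜ)) :
    MulAction.IsMultiplyPretransitive G Ω (Nat.card Ω - Γ.ncard + 1) := by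
  classical
  have hJ1 : MulAction.IsPretransitive (fixingSubgroup G Γᶜ) ↥(SubMulAction.ofFixingSubgroup G Γᶜ) := hJ
  have hmemJ : ∀ x : Ω, x ∈ Γ → x ∈ SubMulAction.ofFixingSubgroup G Γᶜ := by
    intro x hx; rw [SubMulAction.mem_ofFixingSubgroup_iff]; simpa using hx
  obtain ⟨x₁, hx₁, x₂, hx₂, hne⟩ := (Set.one_lt_ncard Γ.toFinite).mp hΓ1
  obtain ⟨⟨j₀, hj₀m⟩, hj₀⟩ := MulAction.exists_smul_eq (fixingSubgroup G Γᶜ)
    (⟨x₁, hmemJ x₁ hx₁⟩ : ↥(SubMulAction.ofFixingSubgroup G Γᶜ)) ⟨x₂, hmemJ x₂ hx₂⟩
  have hj₀' : j₀ • x₁ = x₂ := congrArg Subtype.val hj₀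
  have hfix : ∀ j ∈ fixingSubgroup G Γᶜ, ∀ z : Ω, z ∉ Γ → j • z = z := by
    intro j hj z hz
    exact (mem_fixingSubgroup_iff G).mp hj z hz
  have htr : MulAction.IsPretransitive G Ω := by
    have htop : (⊤ : Subgroup G) ≠ ⊥ := by
      intro h
      have : j₀ ∈ (⊥ : Subgroup G) := h ▸ Subgroup.mem_top j₀
      rw [Subgroup.mem_bot] at this
      rw [this, one_smul] at hj₀'
      exact hne hj₀'
    have := hqp ⊤ inferInstance htop
    refine ⟨fun a b => ?_⟩
    obtain ⟨⟨g, _⟩, hg⟩ := MulAction.exists_smul_eq (⊤ : Subgroup G) a b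
    exact ⟨g, hg⟩
  have hprim : MulAction.IsPreprimitive G Ω := by
    constructor
    intro B hB
    by_contra hnt
    unfold MulAction.IsTrivialBlock at hnt
    push Not at hnt
    obtain ⟨hns, hnu⟩ := hnt
    obtain ⟨b₁, hb₁, b₂, hb₂, hb⟩ := hns
    obtain ⟨g, hg⟩ := MulAction.exists_smul_eq G b₁ x₁
    have hD : MulAction.IsBlock G (g • B) := hB.translate g
    have hx1D : x₁ ∈ g • B := hg ▸ Set.smul_mem_smul_set hb₁
    have hΓD : Γ ⊆ g • B := by
      by_cases hout : g • B ⊆ Γ
      · have hblk : MulAction.IsBlock (fixingSubgroup G Γᶜ)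
            (Subtype.val ⁻¹' (g • B) : Set ↥(SubMulAction.ofFixingSubgroup G Γᶜ)) := by
          intro j₁ j₂ hne'
          have h12 : ∀ j : fixingSubgroup G Γᶜ,
              j • (Subtype.val ⁻¹' (g • B) : Set ↥(SubMulAction.ofFixingSubgroup G Γᶜ))
                = Subtype.val ⁻¹' ((j : G) • (g • B)) := by
            intro j; ext z
            simp only [Set.mem_smul_set_iff_inv_smul_mem, Set.mem_preimage]
            rfl
          rw [h12, h12] at hne' ⊢
          exact (hD (fun h => hne' (by rw [h]))).preimage _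
        rcases hJp.isTrivialBlock_of_isBlock hblk with hs | hu
        · exfalso
          have e1 : g • b₁ ∈ g • B := Set.smul_mem_smul_set hb₁
          have e2 : g • b₂ ∈ g • B := Set.smul_mem_smul_set hb₂
          have := hs (x := ⟨g • b₁, hmemJ _ (hout e1)⟩) e1
            (y := ⟨g • b₂, hmemJ _ (hout e2)⟩) e2
          exact hb (smul_left_cancel g (congrArg Subtype.val this))
        · intro x hx
          have := hu ▸ Set.mem_univ (⟨x, hmemJ x hx⟩ : ↥(SubMulAction.ofFixingSubgroup G Γᶜ))
          exact this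
      · obtain ⟨y, hyD, hyΓ⟩ := Set.not_subset.mp hout
        intro x hx
        obtain ⟨⟨j, hjm⟩, hj⟩ := MulAction.exists_smul_eq (fixingSubgroup G Γᶜ)
          (⟨x₁, hmemJ x₁ hx₁⟩ : ↥(SubMulAction.ofFixingSubgroup G Γᶜ)) ⟨x, hmemJ x hx⟩
        have hj' : j • x₁ = x := congrArg Subtype.val hj
        have heq : j • (g • B) = g • B :=
          MulAction.isBlock_iff_smul_eq_of_mem.mp hD hyD (by rw [hfix j hjm y hyΓ]; exact hyD)
        rw [← heq, ← hj']
        exact Set.smul_mem_smul_set hx1D
    -- the kernel of the action on the translates of B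
    let K : Subgroup G :=
      { carrier := {k | ∀ h : G, k • (h • B) = h • B}
        one_mem' := fun h => one_smul _ _
        mul_mem' := fun {a b} ha hb h => by rw [mul_smul, hb h, ha h]
        inv_mem' := fun {a} ha h => by rw [inv_smul_eq_iff, ha h] }
    have hKn : K.Normal := ⟨fun k hk u h => by
      rw [mul_smul, mul_smul, smul_smul u⁻¹ h, hk (u⁻¹ * h), smul_smul]
      simp⟩
    have hj₀K : j₀ ∈ K := by
      intro h
      by_cases hh : h • B = g • B
      · rw [hh]
        refine MulAction.isBlock_iff_smul_eq_of_mem.mp hD hx1D ?_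
        rw [hj₀']; exact hΓD hx₂
      · have hdis : Disjoint (h • B) (g • B) := hB hh
        ext z
        rw [Set.mem_smul_set_iff_inv_smul_mem]
        constructor
        · intro hz
          have hn : j₀⁻¹ • z ∉ Γ := fun hc => Set.disjoint_left.mp hdis hz (hΓD hc)
          have e := hfix j₀ hj₀m _ hn
          rw [smul_inv_smul] at e
          rwa [← e] at hz
        · intro hz
          have hn : z ∉ Γ := fun hc => Set.disjoint_left.mp hdis hz (hΓD hc)
          rw [hfix j₀⁻¹ (inv_mem hj₀m) z hn]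
          exact hz
    have hKb : K ≠ ⊥ := by
      intro h
      rw [h, Subgroup.mem_bot] at hj₀K
      rw [hj₀K, one_smul] at hj₀'
      exact hne hj₀'
    have hKt := hqp K hKn hKb
    refine hnu (Set.eq_univ_of_forall fun x => ?_)
    obtain ⟨⟨k, hk⟩, hkx⟩ := MulAction.exists_smul_eq K b₁ x
    have hk1 := hk 1
    rw [one_smul] at hk1
    rw [← hk1]
    exact ⟨b₁, hb₁, hkx⟩
  have hc : Γᶜ.ncard = Nat.card Ω - Γ.ncard := Set.ncard_compl Γ
  have := hprim.isMultiplyPreprimitive (s := Γᶜ) (n := Nat.card Ω - Γ.ncard - 1) (by omega) (by omega) hJp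
  have h2 := this.isMultiplyPretransitive
  have e : Nat.card Ω - Γ.ncard - 1 + 2 = Nat.card Ω - Γ.ncard + 1 := by omega
  rwa [e] at h2

end Cfsg.Agent.S3619
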