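import Cfsg.Statements.S3626
import Cfsg.Agent.Lib.Grp.CubeSpectrum.Ree

set_option autoImplicit false
open Cfsg

namespace Cfsg.Agent.S3626

/-- Let R be the small Ree group over the field with q = 3^(2m+1) ≥ 27 elements. Then there are finite groups of arbitrarily large order with exactly the same set of element orders as R × R × R. -/
theorem result {K : Type*} [Field K] [Fintype K] {m : ℕ} (hm : 1 ≤ m) (hK : Fintype.card K = 3 ^ (2 * m + 1)) (N : ℕ) :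
    ∃ (H : Type) (_ : Group H) (_ : Fintype H), N < Fintype.card H ∧
      Set.range (orderOf : H → ℕ) = Set.range (orderOf : ↥(Cfsg.Lie.twistedG2 K (3 ^ m)) × ↥(Cfsg.Lie.twistedG2 K (3 ^ m)) × ↥(Cfsg.Lie.twistedG2 K (3 ^ m)) → ℕ) := by
  obtain ⟨_, _, f, hf⟩ := Cfsg.Agent.Lie.Chev.exists_isoFrob Nat.prime_three hK
  obtain ⟨a, ha, hr, h0, h1, hR⟩ := Cfsg.Agent.Grp.CubeSpectrum.exists_atoms f hf hK hm
  haveI : NeZero (a 2) := ⟨by have := hr 2; omega⟩
  haveI : NeZero (9 * (a 2 * 2)) := ⟨by have := hr 2; omega⟩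
  haveI hfin := Cfsg.Agent.Grp.CubeSpectrum.SD.finite_SD (M := N + 1 + 1)
    (e := Cfsg.Agent.Grp.CubeSpectrum.char7 a ha h0 h1) (r := Cfsg.Agent.Grp.CubeSpectrum.mod7 a)
    (fun j => hr _)
  letI : Fintype (Cfsg.Agent.Grp.CubeSpectrum.SD (N + 1 + 1) (Cfsg.Agent.Grp.CubeSpectrum.char7 a ha h0 h1)
    (Cfsg.Agent.Grp.CubeSpectrum.mod7 a)) := Fintype.ofFinite _
  refine ⟨Cfsg.Agent.Grp.CubeSpectrum.SD (N + 1 + 1) (Cfsg.Agent.Grp.CubeSpectrum.char7 a ha h0 h1)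
    (Cfsg.Agent.Grp.CubeSpectrum.mod7 a), inferInstance, inferInstance, ?_, ?_⟩
  · rw [← Nat.card_eq_fintype_card]
    exact lt_of_lt_of_le (by omega) (Cfsg.Agent.Grp.CubeSpectrum.SD.card_gt (fun j => hr _) (0 : Fin 7))
  · rw [Cfsg.Agent.Grp.CubeSpectrum.range_orderOf_companion a ha h0 h1 (N + 1) hr,
      Cfsg.Agent.Grp.CubeSpectrum.range_orderOf_cube ha (fun i => by have := hr i; omega) hR]

end Cfsg.Agent.S3626
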