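import Cfsg.Statements.S3627
import Mathlib
import Cfsg.Agent.Lib.Spor.J1.Structure
-- import your own Cfsg.Agent.* helpers here

set_option autoImplicit false
open Cfsg

namespace Cfsg.Agent.S3627

open J1Cert

/-- periods -/
def per : Fin 5 → ℕ := ![2, 3, 5, 7, 11]

theorem per_dvd : ∀ i, per i ∣ 2310 := by decide

/-- the module: periodic functions of sum zero -/
def W (M : ℕ) : AddSubgroup (Fin M × Fin 5 → ZMod 2310 → ZMod 19) where
  carrier := {f | ∀ j, (∀ x, f j (x + (per j.2 : ℕ)) = f j x) ∧ ∑ x, f j x = 0}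
  zero_mem' j := ⟨fun _ => rfl, by simp⟩
  add_mem' {f g} hf hg j := ⟨fun x => by simp [(hf j).1 x, (hg j).1 x],
    by simp [Finset.sum_add_distrib, (hf j).2, (hg j).2]⟩
  neg_mem' {f} hf j := ⟨fun x => by simp [(hf j).1 x], by simp [(hf j).2]⟩

/-- translation -/
def shift {M : ℕ} (b : ZMod 2310) (f : W M) : W M :=
  ⟨fun j x => (f : Fin M × Fin 5 → ZMod 2310 → ZMod 19) j (x + b), fun j =>
    ⟨fun x => by
        show (f : Fin M × Fin 5 → ZMod 2310 → ZMod 19) j (x + (per j.2 : ℕ) + b) = _
        rw [add_right_comm]; exact (f.2 j).1 _,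
      (Equiv.sum_comp (Equiv.addRight b) ((f : Fin M × Fin 5 → ZMod 2310 → ZMod 19) j)).trans (f.2 j).2⟩⟩

/-- The group `W ⋊ C₂₃₁₀`. -/
@[ext] structure K (M : ℕ) where
  v : W M
  b : ZMod 2310

namespace K

variable {M : ℕ}

theorem shift_add (b : ZMod 2310) (f g : W M) : shift b (f + g) = shift b f + shift b g := rfl

theorem shift_shift (b c : ZMod 2310) (f : W M) : shift b (shift c f) = shift (b + c) f :=
  Subtype.ext (funext fun j => funext fun x => congrArg ((f : Fin M × Fin 5 → ZMod 2310 → ZMod 19) j) (add_assoc x b c))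

theorem shift_zero (f : W M) : shift 0 f = f :=
  Subtype.ext (funext fun j => funext fun x => congrArg ((f : Fin M × Fin 5 → ZMod 2310 → ZMod 19) j) (add_zero x))

theorem shift_neg_self (b : ZMod 2310) (f : W M) : shift b (-f) = -shift b f := rfl

instance : Mul (K M) := ⟨fun x y => ⟨x.v + shift x.b y.v, x.b + y.b⟩⟩
instance : One (K M) := ⟨⟨0, 0⟩⟩
instance : Inv (K M) := ⟨fun x => ⟨-shift (-x.b) x.v, -x.b⟩⟩

theorem mul_def (x y : K M) : x * y = ⟨x.v + shift x.b y.v, x.b + y.b⟩ := rfl

instance : Group (K M) :=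
  Group.ofLeftAxioms
    (fun x y z => by ext1 <;> simp only [mul_def, shift_add, shift_shift, add_assoc])
    (fun x => by
      show (⟨(0 : W M) + shift 0 x.v, 0 + x.b⟩ : K M) = x
      rw [shift_zero, zero_add, zero_add])
    (fun x => by
      show (⟨-shift (-x.b) x.v + shift (-x.b) x.v, -x.b + x.b⟩ : K M) = ⟨0, 0⟩
      rw [neg_add_cancel, neg_add_cancel])

/-- coordinates -/
def equivProd : K M ≃ W M × ZMod 2310 where
  toFun x := (x.v, x.b)
  invFun p := ⟨p.1, p.2⟩
  left_inv _ := rfl
  right_inv _ := rfl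

noncomputable instance : Fintype (W M) := Fintype.ofFinite _

noncomputable instance : Fintype (K M) := Fintype.ofEquiv _ (equivProd (M := M)).symm

theorem pow_b (x : K M) (n : ℕ) : (x ^ n).b = n • x.b := by
  induction n with
  | zero => simp; rfl
  | succ n ih => rw [pow_succ, mul_def, ih, succ_nsmul]

theorem pow_v (x : K M) (n : ℕ) : (x ^ n).v = ∑ j ∈ Finset.range n, shift (j • x.b) x.v := by
  induction n with
  | zero => simp; rfl
  | succ n ih => rw [pow_succ, mul_def, ih, Finset.sum_range_succ, pow_b]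

theorem sum_apply (x : K M) (n : ℕ) (j : Fin M × Fin 5) (y : ZMod 2310) :
    ((∑ i ∈ Finset.range n, shift (i • x.b) x.v : W M) : Fin M × Fin 5 → ZMod 2310 → ZMod 19) j y =
      ∑ i ∈ Finset.range n, (x.v : Fin M × Fin 5 → ZMod 2310 → ZMod 19) j (y + (i • x.b)) := by
  rw [AddSubgroup.val_finsetSum, Finset.sum_apply, Finset.sum_apply]
  rfl

theorem sum_period {A : Type*} [AddCommMonoid A] (f : A → ZMod 19) (b : A) (n : ℕ) (hn : n • b = 0) (m : ℕ) :
    ∑ i ∈ Finset.range (n * m), f (i • b) = (m : ZMod 19) * ∑ i ∈ Finset.range n, f (i • b) := by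
  induction m with
  | zero => simp
  | succ m ih =>
    rw [Nat.mul_succ, Finset.sum_range_add, ih, Nat.cast_succ, add_mul, one_mul]
    congr 1
    refine Finset.sum_congr rfl fun i _ => ?_
    rw [add_nsmul, show (n * m) • b = m • (n • b) by rw [← mul_nsmul], hn, nsmul_zero, zero_add]

theorem pow_exp (x : K M) : x ^ 43890 = 1 := by
  refine K.ext ?_ ?_
  · rw [pow_v]
    refine Subtype.ext (funext fun j => funext fun y => ?_)
    rw [sum_apply, show 43890 = 2310 * 19 by norm_num]
    show _ = (0 : ZMod 19)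
    rw [sum_period (fun z => (x.v : Fin M × Fin 5 → ZMod 2310 → ZMod 19) j (y + z)) x.b 2310
      (by rw [nsmul_eq_mul, ZMod.natCast_self, zero_mul]) 19,
      show ((19 : ℕ) : ZMod 19) = 0 from ZMod.natCast_self 19, zero_mul]
  · rw [pow_b, nsmul_eq_mul, show ((43890 : ℕ) : ZMod 2310) = 0 by decide, zero_mul]
    rfl

theorem pow_unit (x : K M) (h : IsUnit x.b) : x ^ 2310 = 1 := by
  refine K.ext ?_ ?_
  · rw [pow_v]
    refine Subtype.ext (funext fun j => funext fun y => ?_)
    rw [sum_apply]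
    show _ = (0 : ZMod 19)
    rw [← (x.v.2 j).2, ← Fin.sum_univ_eq_sum_range]
    refine Fintype.sum_bijective (fun i : Fin 2310 => y + (i.val • x.b)) ?_ _ _ fun i => rfl
    obtain ⟨u, hu⟩ := h
    refine (Fintype.bijective_iff_injective_and_card _).2 ⟨fun a c e => ?_, by simp [ZMod.card]⟩
    have e' := add_left_cancel e
    simp only [nsmul_eq_mul, ← hu, Units.mul_left_inj] at e'
    exact Fin.ext (by
      have := congrArg ZMod.val e'
      rwa [ZMod.val_cast_of_lt a.isLt, ZMod.val_cast_of_lt c.isLt] at this)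
  · rw [pow_b, nsmul_eq_mul, ZMod.natCast_self, zero_mul]
    rfl

theorem order_dvd (x : K M) : orderOf x ∣ 43890 ∧ orderOf x ≠ 43890 := by
  refine ⟨orderOf_dvd_of_pow_eq_one (pow_exp x), fun he => ?_⟩
  by_cases hu : IsUnit x.b
  · have := he ▸ orderOf_dvd_of_pow_eq_one (pow_unit x hu)
    norm_num at this
  · -- some period divides the translation, and then a smaller multiple kills it
    rw [← ZMod.natCast_zmod_val x.b, ZMod.isUnit_iff_coprime] at hu
    obtain ⟨p, hp, hp1, hp2⟩ := Nat.Prime.not_coprime_iff_dvd.1 hu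
    have hb : (2310 / p) • x.b = 0 := by
      rw [nsmul_eq_mul, ← ZMod.natCast_zmod_val x.b, ← Nat.cast_mul]
      exact (ZMod.natCast_eq_zero_iff _ _).2
        ((dvd_of_eq (Nat.div_mul_cancel hp2).symm).trans (mul_dvd_mul_left (2310 / p) hp1))
    have hpw : (x ^ (2310 / p)).b = 0 := by rw [pow_b, hb]
    have h19 : (x ^ (2310 / p)) ^ 19 = 1 := by
      refine K.ext ?_ ?_
      · rw [pow_v]
        simp only [hpw, smul_zero, shift_zero, Finset.sum_const, Finset.card_range]
        refine Subtype.ext (funext fun j => funext fun y => ?_)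
        rw [AddSubgroup.coe_nsmul]
        show (19 : ℕ) • (((x ^ (2310 / p)).v : W M) : Fin M × Fin 5 → ZMod 2310 → ZMod 19) j y = 0
        rw [nsmul_eq_mul, ZMod.natCast_self, zero_mul]
      · rw [pow_b, hpw, smul_zero]
        rfl
    rw [← pow_mul] at h19
    have := he ▸ orderOf_dvd_of_pow_eq_one h19
    have hpos : 0 < 2310 / p * 19 :=
      mul_pos (Nat.div_pos (Nat.le_of_dvd (by norm_num) hp2) hp.pos) (by norm_num)
    have hlt : 2310 / p * 19 < 43890 := by
      have : 2310 / p ≤ 2310 / 2 := Nat.div_le_div_left hp.two_le (by norm_num)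
      omega
    exact absurd (Nat.le_of_dvd hpos this) (by omega)

/-- indicator of a residue class -/
def ind (i : Fin 5) (x : ZMod 2310) : ZMod 19 := if x.val % per i = 0 then 1 else 0

/-- a function of sum zero with given period -/
def base (i : Fin 5) (x : ZMod 2310) : ZMod 19 := ind i x - ind i (x - 1)

theorem base_per : ∀ i : Fin 5, ∀ x : ZMod 2310, base i (x + (per i : ℕ)) = base i x := by
  intro i x
  have key : ∀ y : ZMod 2310, (y + (per i : ℕ)).val % per i = y.val % per i := by
    intro y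
    rw [ZMod.val_add, Nat.mod_mod_of_dvd _ (per_dvd i), ZMod.val_natCast, Nat.add_mod,
      Nat.mod_mod_of_dvd _ (per_dvd i), Nat.mod_self, add_zero, Nat.mod_mod]
  rw [base, base, ind, ind, ind, ind, key, add_sub_right_comm, key]

theorem base_zero : ∀ i, base i 0 = 1 := by decide +kernel

/-- elements of the module supported in one place -/
def single (m : Fin M) (i : Fin 5) : W M :=
  ⟨fun j x => if j = (m, i) then base i x else 0, fun j => by
    by_cases h : j = (m, i)
    · subst h
      refine ⟨fun x => ?_, ?_⟩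
      · simp only [if_true]
        exact base_per i x
      · simp only [if_true, base, Finset.sum_sub_distrib]
        exact sub_eq_zero.2 (Equiv.sum_comp (Equiv.subRight (1 : ZMod 2310)) (ind i)).symm
    · refine ⟨fun x => ?_, ?_⟩ <;> simp [h]⟩

theorem single_ne (m : Fin M) (i : Fin 5) : single m i ≠ 0 := fun e => by
  have := congrFun (congrFun (congrArg Subtype.val e) (m, i)) 0
  simp [single, base_zero] at this
  exact absurd this (by decide)

theorem exists_order {d : ℕ} (hd : d ∣ 43890) (hne : d ≠ 43890) : ∃ x : K (M + 1), orderOf x = d := by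
  have hbot : ∀ e : ℕ, e ∣ 2310 → orderOf (⟨0, ((2310 / e : ℕ) : ZMod 2310)⟩ : K (M + 1)) = e := by
    intro e he
    have he0 : 0 < e := Nat.pos_of_dvd_of_pos he (by norm_num)
    have hz : ∀ n, (⟨0, ((2310 / e : ℕ) : ZMod 2310)⟩ : K (M + 1)) ^ n = ⟨0, (n * (2310 / e) : ℕ)⟩ := by
      intro n
      refine K.ext ?_ ?_
      · rw [pow_v]
        exact Finset.sum_eq_zero fun i _ => rfl
      · rw [pow_b, nsmul_eq_mul, Nat.cast_mul]
    rw [orderOf_eq_iff he0]
    refine ⟨?_, fun n hn hn0 h => ?_⟩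
    · rw [hz, Nat.mul_div_cancel' he, ZMod.natCast_self]
      rfl
    · rw [hz] at h
      have h' := (ZMod.natCast_eq_zero_iff _ _).1 (congrArg K.b h)
      obtain ⟨c, hc⟩ := he
      rw [hc, Nat.mul_div_cancel_left _ he0] at h'
      have hc0 : 0 < c := Nat.pos_of_ne_zero fun h => by simp [h] at hc
      exact absurd (Nat.le_of_dvd hn0 (Nat.dvd_of_mul_dvd_mul_right hc0 h')) (by omega)
  by_cases h19 : 19 ∣ d
  · obtain ⟨e, rfl⟩ := h19
    have he : e ∣ 2310 := Nat.dvd_of_mul_dvd_mul_left (by norm_num) (show 19 * e ∣ 19 * 2310 from hd)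
    obtain ⟨i, hi⟩ : ∃ i : Fin 5, per i ∣ 2310 / e := by
      have key : ∀ e ∈ Nat.divisors 2310, e ≠ 2310 → ∃ i : Fin 5, per i ∣ 2310 / e := by decide +kernel
      exact key e (Nat.mem_divisors.2 ⟨he, by norm_num⟩) (fun h => hne (by rw [h]))
    set u : K (M + 1) := ⟨single 0 i, 0⟩
    set w : K (M + 1) := ⟨0, ((2310 / e : ℕ) : ZMod 2310)⟩
    have hu : orderOf u = 19 := by
      haveI : Fact (Nat.Prime 19) := ⟨by norm_num⟩
      refine orderOf_eq_prime (K.ext ?_ ?_) fun h => single_ne 0 i (congrArg K.v h)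
      · rw [pow_v]
        simp only [u, smul_zero, shift_zero, Finset.sum_const, Finset.card_range]
        refine Subtype.ext (funext fun j => funext fun y => ?_)
        rw [AddSubgroup.coe_nsmul]
        show (19 : ℕ) • ((single (0 : Fin (M + 1)) i : W (M + 1)) : Fin (M + 1) × Fin 5 → ZMod 2310 → ZMod 19) j y = 0
        rw [nsmul_eq_mul, ZMod.natCast_self, zero_mul]
      · rw [pow_b]
        exact smul_zero _
    have hper : ∀ k : ℕ, ∀ x : ZMod 2310, base i (x + ((per i * k : ℕ) : ZMod 2310)) = base i x := by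
      intro k
      induction k with
      | zero => simp
      | succ k ih => intro x; rw [Nat.mul_succ, Nat.cast_add, ← add_assoc, base_per, ih]
    have hcomm : Commute u w := by
      refine K.ext ?_ (add_comm _ _)
      show single 0 i + shift 0 0 = 0 + shift w.b (single 0 i)
      refine Subtype.ext (funext fun j => funext fun x => ?_)
      show (if j = (0, i) then base i x else 0) + 0 = 0 + (if j = (0, i) then base i (x + w.b) else 0)
      obtain ⟨k, hk⟩ := hi
      rw [add_zero, zero_add, show w.b = ((per i * k : ℕ) : ZMod 2310) by rw [← hk], hper]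
    refine ⟨u * w, ?_⟩
    rw [hcomm.orderOf_mul_eq_mul_orderOf_of_coprime, hu, hbot e he]
    rw [hu, hbot e he]
    exact (Nat.Coprime.coprime_dvd_right he (by norm_num))
  · refine ⟨_, hbot d ?_⟩
    have : Nat.Coprime d 19 := ((Nat.Prime.coprime_iff_not_dvd (by norm_num : Nat.Prime 19)).2 h19).symm
    exact this.dvd_of_dvd_mul_right (show d ∣ 2310 * 19 from hd)

theorem card_gt : M < Fintype.card (K (M + 1)) := by
  have : Function.Injective fun m : Fin (M + 1) => (⟨single m 0, 0⟩ : K (M + 1)) := by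
    intro a b e
    have e' := congrFun (congrFun (congrArg Subtype.val (congrArg K.v e)) (a, 0)) 0
    by_contra hab
    simp [single, base_zero, hab] at e'
    exact absurd e' (by decide)
  simpa using Nat.lt_of_succ_le (by simpa using Fintype.card_le_of_injective _ this)

theorem range_orderOf_K : Set.range (orderOf : K (M + 1) → ℕ) = {d | d ∣ 43890 ∧ d ≠ 43890} := by
  ext d
  exact ⟨fun ⟨x, hx⟩ => hx ▸ order_dvd x, fun h => exists_order h.1 h.2⟩

end K

theorem range_J1_four : Set.range (orderOf : ↥Spor.J1 × ↥Spor.J1 × ↥Spor.J1 × ↥Spor.J1 → ℕ) =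
    {d | d ∣ 43890 ∧ d ≠ 43890} := by
  have hJ := range_orderOf
  ext d
  constructor
  · rintro ⟨⟨a, b, c, e⟩, rfl⟩
    have hm : ∀ g : Spor.J1, orderOf g ∈ ordList := fun g => by
      have : orderOf g ∈ Set.range (orderOf : Spor.J1 → ℕ) := ⟨g, rfl⟩
      rw [hJ] at this
      simpa [ordList] using this
    rw [Prod.orderOf, Prod.orderOf, Prod.orderOf]
    have key : ∀ a ∈ ordList, ∀ b ∈ ordList, ∀ c ∈ ordList, ∀ e ∈ ordList,
        Nat.lcm a (Nat.lcm b (Nat.lcm c e)) ∣ 43890 ∧ Nat.lcm a (Nat.lcm b (Nat.lcm c e)) ≠ 43890 := by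
      decide +kernel
    exact key _ (hm a) _ (hm b) _ (hm c) _ (hm e)
  · rintro ⟨hd, hne⟩
    have key : ∀ d ∈ Nat.divisors 43890, d ≠ 43890 → ∃ a ∈ ordList, ∃ b ∈ ordList, ∃ c ∈ ordList, ∃ e ∈ ordList,
        Nat.lcm a (Nat.lcm b (Nat.lcm c e)) = d := by decide +kernel
    obtain ⟨a, ha, b, hb, c, hc, e, he, h⟩ := key d (Nat.mem_divisors.2 ⟨hd, by norm_num⟩) hne
    have hsur : ∀ n ∈ ordList, ∃ g : Spor.J1, orderOf g = n := fun n hn => by
      have : n ∈ Set.range (orderOf : Spor.J1 → ℕ) := by rw [hJ]; simpa [ordList] using hn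
      exact this
    obtain ⟨ga, rfl⟩ := hsur a ha
    obtain ⟨gb, rfl⟩ := hsur b hb
    obtain ⟨gc, rfl⟩ := hsur c hc
    obtain ⟨ge, rfl⟩ := hsur e he
    exact ⟨(ga, gb, gc, ge), by rw [Prod.orderOf, Prod.orderOf, Prod.orderOf]; exact h⟩

/-- Let J be the first Janko group. Then there are finite groups of arbitrarily large order with exactly the same set of element orders as J × J × J × J. -/
theorem result (N : ℕ) : ∃ (H : Type) (_ : Group H) (_ : Fintype H), N < Fintype.card H ∧
      Set.range (orderOf : H → ℕ) = Set.range (orderOf : ↥Cfsg.Spor.J1 × ↥Cfsg.Spor.J1 × ↥Cfsg.Spor.J1 × ↥Cfsg.Spor.J1 → ℕ) := by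
  exact ⟨K (N + 1), inferInstance, inferInstance, K.card_gt, by rw [range_J1_four, K.range_orderOf_K]⟩

end Cfsg.Agent.S3627
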