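import Cfsg.Statements.S3633
import Mathlib
import Cfsg.Agent.Lib.Recog.ThreePrimes

set_option autoImplicit false
open Cfsg

namespace Cfsg.Agent.S3633

theorem abelian_layer {G : Type*} [Group G] [Finite G] (K : Subgroup G) {r s : ℕ} (hr : r.Prime) (hs : s.Prime)
    (hrs : r ≠ s) (A B : Subgroup G) (hBA : B ≤ A) (hAn : A ≤ Subgroup.normalizer (B : Set G))
    (hab : ∀ a ∈ A, ∀ b ∈ A, a * b * a⁻¹ * b⁻¹ ∈ B) (hra : r ∣ B.relIndex A) (hsa : s ∣ B.relIndex A) :
    ∃ x : G, orderOf x = r * s := by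
  haveI := Fact.mk hr
  haveI := Fact.mk hs
  haveI : (B.subgroupOf A).Normal := (Subgroup.normal_subgroupOf_iff_le_normalizer hBA).mpr hAn
  have hc : ∀ x y : A ⧸ B.subgroupOf A, x * y = y * x := by
    intro x y
    induction x using QuotientGroup.induction_on with | _ a =>
    induction y using QuotientGroup.induction_on with | _ b =>
    rw [← QuotientGroup.mk_mul, ← QuotientGroup.mk_mul, QuotientGroup.eq, Subgroup.mem_subgroupOf]
    have := hab (b : G)⁻¹ (inv_mem b.2) (a : G)⁻¹ (inv_mem a.2)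
    simpa [mul_assoc] using this
  obtain ⟨u, hu⟩ := exists_prime_orderOf_dvd_card' (G := A ⧸ B.subgroupOf A) r hra
  obtain ⟨w, hw⟩ := exists_prime_orderOf_dvd_card' (G := A ⧸ B.subgroupOf A) s hsa
  obtain ⟨c, hc'⟩ := QuotientGroup.mk_surjective (u * w)
  have ho : r * s ∣ orderOf c := by
    have h1 : orderOf (u * w) = r * s := by
      rw [(show Commute u w from hc u w).orderOf_mul_eq_mul_orderOf_of_coprime, hu, hw]
      rw [hu, hw]; exact (Nat.coprime_primes hr hs).mpr hrs
    rw [← h1, ← hc']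
    exact orderOf_map_dvd (QuotientGroup.mk' _) c
  refine ⟨((c ^ (orderOf c / (r * s)) : A) : G), ?_⟩
  rw [Subgroup.orderOf_coe, orderOf_pow, Nat.gcd_eq_right (Nat.div_dvd_of_dvd ho),
    Nat.div_div_self ho (orderOf_pos c).ne']

theorem key {G : Type*} [Group G] [Finite G] (ρ : Finset ℕ) (hρ : 3 ≤ ρ.card)
    (hpr : ∀ r ∈ ρ, r.Prime ∧ r ∣ Nat.card G)
    (hc : ∀ r ∈ ρ, ∀ s ∈ ρ, r ≠ s → ¬ ∃ x : G, orderOf x = r * s)
    (K : Subgroup G) [K.Normal] (hK : Group.IsSolvable K) :
    ∀ r ∈ ρ, ∀ s ∈ ρ, r ∣ Nat.card K → s ∣ Nat.card K → r = s := by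
  classical
  intro r hr s hs hrK hsK
  by_contra hrs
  obtain ⟨N, hN⟩ := hK.solvable
  let D : ℕ → Subgroup G := fun n => (derivedSeries K n).map K.subtype
  have hDn : ∀ n, (D n).Normal := fun n => inferInstance
  have hD0 : D 0 = K := by simp [D, ← MonoidHom.range_eq_map]
  have hDN : ∀ n, N ≤ n → D n = ⊥ := fun n hn => by
    simp only [D, le_bot_iff.mp (hN ▸ derivedSeries_antitone K hn), Subgroup.map_bot]
  have hDanti : ∀ a b, a ≤ b → D b ≤ D a := fun a b h => Subgroup.map_mono (derivedSeries_antitone K h)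
  have hab : ∀ n, ∀ a ∈ D n, ∀ b ∈ D n, a * b * a⁻¹ * b⁻¹ ∈ D (n + 1) := by
    rintro n _ ⟨a, ha, rfl⟩ _ ⟨b, hb, rfl⟩
    refine ⟨a * b * a⁻¹ * b⁻¹, ?_, by simp⟩
    rw [derivedSeries_succ]
    exact Subgroup.commutator_mem_commutator ha hb
  let f : ℕ → ℕ := fun t => ((Finset.range (N + 1)).filter fun n => t ∣ Nat.card (D n)).card
  have hf : ∀ t, t.Prime → ∀ n, t ∣ Nat.card (D n) ↔ n < f t := by
    intro t ht
    have hdown : ∀ a b, a ≤ b → t ∣ Nat.card (D b) → t ∣ Nat.card (D a) := fun a b h hd =>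
      hd.trans (Subgroup.card_dvd_of_le (hDanti a b h))
    have hbound : ∀ n, t ∣ Nat.card (D n) → n < N := by
      intro n hn
      by_contra h
      rw [hDN n (not_lt.mp h), Subgroup.card_bot] at hn
      exact ht.one_lt.ne' (Nat.dvd_one.mp hn)
    intro n
    constructor
    · intro hn
      have : Finset.range (n + 1) ⊆ (Finset.range (N + 1)).filter fun n => t ∣ Nat.card (D n) := by
        intro i hi
        rw [Finset.mem_range] at hi
        have := hbound n hn
        exact Finset.mem_filter.mpr ⟨Finset.mem_range.mpr (by omega), hdown i n (by omega) hn⟩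
      have := Finset.card_le_card this
      rw [Finset.card_range] at this
      exact this
    · intro hn
      by_contra h
      have : ((Finset.range (N + 1)).filter fun n => t ∣ Nat.card (D n)) ⊆ Finset.range n := by
        intro i hi
        rw [Finset.mem_filter] at hi
        rw [Finset.mem_range]
        by_contra hin
        exact h (hdown n i (not_lt.mp hin) hi.2)
      have := Finset.card_le_card this
      rw [Finset.card_range] at this
      exact absurd hn (not_lt.mpr this)
  have hrel : ∀ n, D (n + 1) ≤ D n := fun n => hDanti _ _ (Nat.le_succ n)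
  have hidx : ∀ n, Nat.card (D (n + 1)) * (D (n + 1)).relIndex (D n) = Nat.card (D n) := fun n => by
    rw [← Subgroup.relIndex_bot_left (D (n + 1)), Subgroup.relIndex_mul_relIndex _ _ _ bot_le (hrel n),
      Subgroup.relIndex_bot_left]
  have hlayer : ∀ t ∈ ρ, ∀ n, n + 1 = f t → t ∣ (D (n + 1)).relIndex (D n) := by
    intro t ht n hn
    have h1 : t ∣ Nat.card (D n) := (hf t (hpr t ht).1 n).mpr (by omega)
    have h2 : ¬ t ∣ Nat.card (D (n + 1)) := fun h => by have := (hf t (hpr t ht).1 _).mp h; omega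
    rw [← hidx n] at h1
    exact ((hpr t ht).1.dvd_mul.mp h1).resolve_left h2
  have hne : ∀ a ∈ ρ, ∀ b ∈ ρ, a ≠ b → 0 < f a → f a ≠ f b := by
    intro a ha b hb hab' h0 he
    refine hc a ha b hb hab' (abelian_layer K (hpr a ha).1 (hpr b hb).1 hab' (D (f a - 1)) (D (f a - 1 + 1))
      (hrel _) ?_ (hab _) (hlayer a ha _ (by omega)) (hlayer b hb _ (by omega)))
    haveI := hDn (f a - 1 + 1)
    rw [Subgroup.normalizer_eq_top]
    exact le_top
  -- the ordered triple
  have hmain : ∀ a ∈ ρ, ∀ b ∈ ρ, ∀ c ∈ ρ, f b < f a → f c < f b → False := by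
    intro a ha b hb c hc' h1 h2
    have hne' : a ≠ b ∧ a ≠ c ∧ b ≠ c := ⟨fun h => by subst h; omega, fun h => by subst h; omega, fun h => by subst h; omega⟩
    haveI := hDn (f b)
    haveI := hDn (f b - 1)
    have e : D (f b - 1 + 1) = D (f b) := by rw [Nat.sub_add_cancel (by omega)]
    have hq : b ∣ Nat.card (D (f b - 1)) / Nat.card (D (f b)) := by
      have := hidx (f b - 1)
      rw [e] at this
      rw [← this, Nat.mul_div_cancel_left _ Nat.card_pos, ← e]
      exact hlayer b hb _ (by omega)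
    have hr' : c ∣ Nat.card G / Nat.card (D (f b - 1)) := by
      have h3 : ¬ c ∣ Nat.card (D (f b - 1)) := fun h => by have := (hf c (hpr c hc').1 _).mp h; omega
      have h4 := (hpr c hc').2
      rw [← (D (f b - 1)).card_mul_index] at h4 ⊢
      rw [Nat.mul_div_cancel_left _ Nat.card_pos]
      exact ((hpr c hc').1.dvd_mul.mp h4).resolve_left h3
    rcases Cfsg.Agent.Recog.three_primes (D (f b)) (D (f b - 1)) (hDanti _ _ (by omega)) (hpr a ha).1 (hpr b hb).1
      (hpr c hc').1 hne'.1 hne'.2.1 hne'.2.2 ((hf a (hpr a ha).1 _).mpr h1) hq hr' with h | h | h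
    · exact hc a ha b hb hne'.1 h
    · exact hc a ha c hc' hne'.2.1 h
    · exact hc b hb c hc' hne'.2.2 h
  obtain ⟨t, ht, htr⟩ : ∃ t ∈ ρ, t ≠ r ∧ t ≠ s := by
    by_contra h
    push Not at h
    have : ρ ⊆ {r, s} := fun x hx => by
      rw [Finset.mem_insert, Finset.mem_singleton]
      exact or_iff_not_imp_left.mpr (h x hx)
    have := Finset.card_le_card this
    have := Finset.card_le_two (a := r) (b := s)
    omega
  have hr0 : 0 < f r := (hf r (hpr r hr).1 0).mp (by rw [hD0]; exact hrK)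
  have hs0 : 0 < f s := (hf s (hpr s hs).1 0).mp (by rw [hD0]; exact hsK)
  have h1 := hne r hr s hs hrs hr0
  have h2 := hne r hr t ht htr.1.symm hr0
  have h3 := hne s hs t ht htr.2.symm hs0
  rcases lt_or_gt_of_ne h1 with a | a <;> rcases lt_or_gt_of_ne h2 with b | b <;> rcases lt_or_gt_of_ne h3 with c | c <;>
    first
      | omega
      | exact hmain r hr s hs t ht (by omega) (by omega)
      | exact hmain r hr t ht s hs (by omega) (by omega)
      | exact hmain s hs r hr t ht (by omega) (by omega)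
      | exact hmain s hs t ht r hr (by omega) (by omega)
      | exact hmain t ht r hr s hs (by omega) (by omega)
      | exact hmain t ht s hs r hr (by omega) (by omega)


/-- Let G be a finite group and ρ a set of at least three prime divisors of the order of G that are pairwise non-adjacent in the prime graph (no element of order rs for distinct r, s ∈ ρ). Then at most one prime of ρ divides the order of any given solvable normal subgroup of G; in particular G is not solvable. -/
theorem result {G : Type*} [Group G] [Finite G] (ρ : Finset ℕ) (hρ : 3 ≤ ρ.card) (hc : ((∀ r ∈ ρ, r.Prime ∧ r ∣ Nat.card G) ∧ (∀ r ∈ ρ, ∀ s ∈ ρ, r ≠ s → ¬ ∃ x : G, orderOf x = r * s)))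
    (K : Subgroup G) [K.Normal] (hK : Group.IsSolvable ↥K) :
    (∀ r ∈ ρ, ∀ s ∈ ρ, r ∣ Nat.card ↥K → s ∣ Nat.card ↥K → r = s) ∧ ¬ Group.IsSolvable G := by
  refine ⟨key ρ hρ hc.1 hc.2 K hK, fun hG => ?_⟩
  obtain ⟨r, hr, s, hs, hrs⟩ := Finset.one_lt_card.mp (show 1 < ρ.card by omega)
  refine hrs (key ρ hρ hc.1 hc.2 ⊤ ?_ r hr s hs ?_ ?_)
  · exact solvable_of_solvable_injective (f := (⊤ : Subgroup G).subtype) Subtype.val_injective
  · rw [Subgroup.card_top]; exact (hc.1 r hr).2
  · rw [Subgroup.card_top]; exact (hc.1 s hs).2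

end Cfsg.Agent.S3633
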