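import Cfsg.Statements.S3639
import Mathlib
import Cfsg.Agent.Lib.Recog.SuzukiFixed
import Cfsg.Agent.Lib.Recog.GraphExtension

set_option autoImplicit false
open Cfsg

namespace Cfsg.Agent.S3639

/-- Let S be the Suzuki group over the field with q = 2^(2m+1) ≥ 8 elements. Then there are finite groups of arbitrarily large order with the same prime graph as S. -/
theorem result {F : Type*} [Field F] [Fintype F] {m : ℕ} (hm : 1 ≤ m) (hF : Fintype.card F = 2 ^ (2 * m + 1)) (N : ℕ) :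
    ∃ (H : Type) (_ : Group H) (_ : Fintype H), N < Fintype.card H ∧ ((∀ r : ℕ, r.Prime → (r ∣ Nat.card ↥(Cfsg.Lie.Sz F (2 ^ (m + 1))) ↔ r ∣ Nat.card H)) ∧
      (∀ r s : ℕ, r.Prime → s.Prime → r ≠ s → ((∃ x : ↥(Cfsg.Lie.Sz F (2 ^ (m + 1))), orderOf x = r * s) ↔ (∃ y : H, orderOf y = r * s)))) := by
  classical
  haveI : Fact (Nat.Prime 2) := ⟨Nat.prime_two⟩
  haveI : CharP F 2 := charP_of_card_eq_prime_pow (f := 2 * m + 1) hF
  letI : DistribMulAction ↥(Lie.Sz F (2 ^ (m + 1))) (Fin 4 → F) :=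
    { smul := fun g v => Matrix.mulVec ((g : GL (Fin 4) F) : Matrix (Fin 4) (Fin 4) F) v
      one_smul := fun v => Matrix.one_mulVec v
      mul_smul := fun g h v => (Matrix.mulVec_mulVec v _ _).symm
      smul_zero := fun g => Matrix.mulVec_zero _
      smul_add := fun g u v => Matrix.mulVec_add _ u v }
  have h2 : 2 ∣ Nat.card ↥(Lie.Sz F (2 ^ (m + 1))) := by
    let A : Matrix (Fin 4) (Fin 4) F := !![1, 0, 0, 0; 0, 1, 0, 0; 1, 0, 1, 0; 1, 1, 0, 1]
    have two : (2 : F) = 0 := CharTwo.two_eq_zero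
    have hA : A * A = 1 := by
      ext i j
      fin_cases i <;> fin_cases j <;> simp [A, Matrix.mul_apply, Fin.sum_univ_four] <;> grind
    let u : GL (Fin 4) F := ⟨A, A, hA, hA⟩
    have hu : u ∈ Lie.Sz F (2 ^ (m + 1)) := by
      refine Subgroup.subset_closure ⟨fun x y => ?_, ?_⟩
      · show Lie.altForm4 (A.mulVec x) (A.mulVec y) = Lie.altForm4 x y
        simp [A, Lie.altForm4, Matrix.mulVec, dotProduct, Fin.sum_univ_four]
        grind
      · show Lie.star4 A = A.map fun x => x ^ (2 ^ (m + 1))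
        have h0 : (2 : ℕ) ^ (m + 1) ≠ 0 := pow_ne_zero _ two_ne_zero
        ext p r
        fin_cases p <;> fin_cases r <;>
          simp [A, Lie.star4, zero_pow h0, show Lie.pairOf 0 = ((0 : Fin 4), (1 : Fin 4)) from rfl,
            show Lie.pairOf 1 = ((0 : Fin 4), (2 : Fin 4)) from rfl,
            show Lie.pairOf 2 = ((1 : Fin 4), (3 : Fin 4)) from rfl,
            show Lie.pairOf 3 = ((2 : Fin 4), (3 : Fin 4)) from rfl] <;> grind
    have hu2 : orderOf (⟨u, hu⟩ : ↥(Lie.Sz F (2 ^ (m + 1)))) = 2 := by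
      refine orderOf_eq_prime (Subtype.ext (Units.ext (by simpa [pow_two] using hA))) fun h => ?_
      have h' := congrArg (fun g : ↥(Lie.Sz F (2 ^ (m + 1))) => ((g : GL (Fin 4) F) : Matrix (Fin 4) (Fin 4) F) 2 0) h
      simp [u, A] at h'
    have := orderOf_dvd_natCard (G := ↥(Lie.Sz F (2 ^ (m + 1)))) ⟨u, hu⟩
    rwa [hu2] at this
  have hV : ∀ v : Fin 4 → F, 2 • v = 0 := fun v => by
    funext i
    show 2 • v i = 0
    rw [nsmul_eq_mul, Nat.cast_ofNat, CharTwo.two_eq_zero, zero_mul]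
  obtain ⟨H, iG, iF, hlt, hp, he⟩ := Cfsg.Agent.GraphExt.exists_large_same_graph (V := Fin 4 → F)
    (G := ↥(Lie.Sz F (2 ^ (m + 1)))) 2 Nat.prime_two h2 hV (fun g v hg hne hv hfx => by
      exfalso
      have hodd : Odd (orderOf (g : GL (Fin 4) F)) := by
        rw [Subgroup.orderOf_coe]; exact hg.odd_of_ne_two hne
      have h1 := Cfsg.Agent.SzFix.eq_one_of_fixed g.2 hodd hv hfx
      have h1' : g = 1 := Subtype.ext h1
      rw [h1', orderOf_one] at hg
      exact Nat.not_prime_one hg) N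
  exact ⟨H, iG, iF, by rw [← Nat.card_eq_fintype_card]; exact hlt, hp, he⟩

end Cfsg.Agent.S3639
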