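import Cfsg.Statements.S3643
import Cfsg.Agent.Lib.Invol.Order95040.DegreeGraph
import Cfsg.Agent.S0383


set_option autoImplicit false
open Cfsg
open scoped Pointwise

namespace Cfsg.Agent.S3643

/-- Let G be a finite group of the same order as the Mathieu group M₁₂ whose character degree graph equals that of M₁₂ (same primes dividing some irreducible complex character degree, same pairs of distinct primes whose product divides some degree). Then G is isomorphic to M₁₂ or to the direct product of the alternating group of degree 4 with M₁₁. -/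
theorem result {G : Type*} [Group G] [Finite G] (hcard : Nat.card G = Nat.card ↥Cfsg.Spor.M12) (hΔ : Cfsg.degreePrimes G = Cfsg.degreePrimes ↥Cfsg.Spor.M12 ∧ Cfsg.degreeGraph G = Cfsg.degreeGraph ↥Cfsg.Spor.M12) :
    Nonempty (G ≃* ↥Cfsg.Spor.M12) ∨ Nonempty (G ≃* alternatingGroup (Fin 4) × ↥Cfsg.Spor.M11) := by
  haveI := Cfsg.Agent.S0383.result _ Cfsg.Agent.Fus.Mathieu.square_mem
  let φ : ↥(MulAction.stabilizer Cfsg.M24 Cfsg.Spor.squareDodecad) ≃* ↥Cfsg.Spor.M12 :=
    { toFun := fun g => ⟨g.1.1, ⟨g.1.2, g.2⟩⟩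
      invFun := fun g => ⟨⟨g.1, g.2.1⟩, g.2.2⟩
      left_inv := fun g => rfl
      right_inv := fun g => rfl
      map_mul' := fun a b => rfl }
  haveI : IsSimpleGroup ↥Cfsg.Spor.M12 := φ.symm.isSimpleGroup_congr.mpr inferInstance
  obtain ⟨K⟩ := Cfsg.Agent.Invol.M12Ord.exists_tab (G := ↥Cfsg.Spor.M12) Cfsg.Agent.Fus.Mathieu.card12
  rw [Cfsg.Agent.Fus.Mathieu.card12] at hcard
  have hpair : ∀ (p q : ℕ) (i : Fin 15), p.Prime → q.Prime → p ≠ q →
      p * q ∣ Cfsg.Agent.Invol.M12Ord.dv i →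
      ∃ χ : Cfsg.IrrCharacter G, p * q ∣ Cfsg.charDegree (χ : G → ℂ) := by
    intro p q i hp hq hne hd
    have h : (Cfsg.degreeGraph ↥Cfsg.Spor.M12).Adj p q :=
      ⟨hne, hp, hq, _, ⟨K.ch i, rfl⟩, by rw [← K.deg i] at hd; exact hd⟩
    rw [← hΔ.2] at h
    obtain ⟨-, -, -, d, ⟨χ, rfl⟩, hd'⟩ := h
    exact ⟨χ, hd'⟩
  refine Cfsg.Agent.Invol.M12Ord.main hcard
    (hpair 5 11 9 (by norm_num) (by norm_num) (by norm_num) ?_)
    (hpair 3 11 12 (by norm_num) (by norm_num) (by norm_num) ?_) <;>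
  decide +kernel

end Cfsg.Agent.S3643
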