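import Cfsg.Statements.S3648
import Cfsg.Agent.Lib.Block.NsePGL.Sylow
import Cfsg.Agent.Lib.Block.NsePGL.Model
import Cfsg.Agent.Lib.Block.Zas.FieldCongr
-- import your own Cfsg.Agent.* helpers here

set_option autoImplicit false
open Cfsg

namespace Cfsg.Agent.S3648

/-- For a finite group X let nse(X) be the set of values of the function 'number of elements of order k' over the element orders k that occur. Let F be a finite field of odd order q > 3 and P = PGL(2, F) = GL(2, F) modulo its centre. If G is a finite group with the same order as P and nse(G) = nse(P), then G is isomorphic to P. -/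
theorem result {F : Type*} [Field F] [Fintype F] (hodd : Odd (Fintype.card F)) (h3 : 3 < Fintype.card F)
    {G : Type*} [Group G] [Finite G] (hcard : Nat.card G = Nat.card (GL (Fin 2) F ⧸ Subgroup.center (GL (Fin 2) F)))
    (hnse : {c : ℕ | 0 < c ∧ ∃ n : ℕ, c = Nat.card {g : G // orderOf g = n}} = {c : ℕ | 0 < c ∧ ∃ n : ℕ, c = Nat.card {g : (GL (Fin 2) F ⧸ Subgroup.center (GL (Fin 2) F)) // orderOf g = n}}) :
    Nonempty (G ≃* (GL (Fin 2) F ⧸ Subgroup.center (GL (Fin 2) F))) := by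
  classical
  obtain ⟨p, hchar⟩ := CharP.exists F
  haveI := hchar
  obtain ⟨f, hp, hq⟩ := FiniteField.card F p
  haveI : Fact p.Prime := ⟨hp⟩
  have hf : 1 ≤ (f : ℕ) := f.pos
  have hp2 : p ≠ 2 := by
    rintro rfl
    rw [hq] at hodd
    exact Nat.not_odd_iff_even.mpr (Nat.even_pow.mpr ⟨even_two, by omega⟩) hodd
  have h5 : 5 ≤ p ^ (f : ℕ) := by
    rw [← hq]
    obtain ⟨b, hb⟩ := hodd
    omega
  obtain ⟨hP, h2, hvals, K', _, _, hK', ⟨eP⟩⟩ := Block.NsePGL.counts (F := F) hq hf hp2 h5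
  have hmem : ∀ n : ℕ, 0 < Block.NsePGL.num G n →
      ∃ k, Block.NsePGL.num G n = Block.NsePGL.num (Matrix.ProjGenLinGroup (Fin 2) F) k := by
    intro n hn
    obtain ⟨-, k, hk⟩ := hnse.subset (⟨hn, n, rfl⟩ : 0 < Block.NsePGL.num G n ∧ _)
    exact ⟨k, hk⟩
  have d : Block.NsePGL.Hyp G p f := by
    refine ⟨hp, hp2, hf, h5, hcard.trans hP, ?_, fun n => ?_⟩
    · obtain ⟨-, k, hk⟩ := hnse.superset (⟨by positivity, 2, h2.symm⟩ :
        0 < p ^ (f : ℕ) * p ^ (f : ℕ) ∧ _)
      exact ⟨k, hk.symm⟩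
    · rcases Nat.eq_zero_or_pos (Block.NsePGL.num G n) with h | h
      · exact Or.inr (Or.inr (h ▸ dvd_zero _))
      · obtain ⟨k, hk⟩ := hmem n h
        rw [hk]
        exact hvals k
  obtain ⟨K, _, _, hK, ⟨eG⟩⟩ := d.iso_pgl
  obtain ⟨e⟩ := Block.Zas.pgl_congr (n := 2)
    (FiniteField.ringEquivOfCardEq (K := K) (K' := K') (hK.trans hK'.symm))
  exact ⟨(eG.trans e).trans eP.symm⟩

end Cfsg.Agent.S3648
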