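import Cfsg.Statements.S3660
import Mathlib
import Cfsg.Agent.Lib.Recog.GraphExtension

set_option autoImplicit false
open Cfsg

namespace Cfsg.Agent.S3660

open Matrix


/-- The prime graph of a finite group has the prime divisors of its order as vertices, two distinct primes p, q being joined when the group has an element of order pq; two groups have the same prime graph when they have the same prime divisors and the same joined pairs. Let F be a finite field of characteristic 2 with at least 4 elements. Then there are finite groups of arbitrarily large order with the same prime graph as PSL(2,F); in particular PSL(2,F) is not determined by its prime graph. -/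
theorem result {F : Type*} [Field F] [Fintype F] [CharP F 2] (hF : 4 ≤ Fintype.card F) (N : ℕ) :
    ∃ (H : Type) (_ : Group H) (_ : Finite H), N < Nat.card H ∧
      ((∀ p : ℕ, p.Prime → (p ∣ Nat.card (Matrix.ProjectiveSpecialLinearGroup (Fin 2) F) ↔ p ∣ Nat.card H)) ∧
      (∀ p q : ℕ, p.Prime → q.Prime → p ≠ q → ((∃ g : (Matrix.ProjectiveSpecialLinearGroup (Fin 2) F), orderOf g = p * q) ↔ (∃ g : H, orderOf g = p * q)))) := by
  classical
  haveI : Fact (Nat.Prime 2) := ⟨Nat.prime_two⟩
  let S := Matrix.SpecialLinearGroup (Fin 2) F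
  have hc : Subgroup.center S = ⊥ := by
    rw [Subgroup.eq_bot_iff_forall]
    intro A hA
    obtain ⟨r, hr, hrA⟩ := Matrix.SpecialLinearGroup.mem_center_iff.mp hA
    rw [Fintype.card_fin] at hr
    have hr1 : r = 1 := by
      have h : (r + 1) ^ 2 = 0 := by
        rw [add_pow_two, hr, mul_one, one_pow, CharTwo.two_eq_zero, zero_mul, add_zero, CharTwo.add_self_eq_zero]
      exact CharTwo.add_eq_zero.mp (pow_eq_zero_iff two_ne_zero |>.mp h)
    apply Subtype.ext
    rw [← hrA, hr1, map_one]
    rfl
  let E : S ≃* Matrix.ProjectiveSpecialLinearGroup (Fin 2) F :=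
    MulEquiv.ofBijective (QuotientGroup.mk' (Subgroup.center S))
      ⟨(MonoidHom.ker_eq_bot_iff _).mp (by rw [QuotientGroup.ker_mk', hc]), QuotientGroup.mk'_surjective _⟩
  letI : DistribMulAction S (Fin 2 → F) :=
    { smul := fun g v => (g : Matrix (Fin 2) (Fin 2) F) *ᵥ v
      one_smul := fun v => Matrix.one_mulVec v
      mul_smul := fun g h v => (Matrix.mulVec_mulVec v _ _).symm
      smul_zero := fun g => Matrix.mulVec_zero _
      smul_add := fun g u v => Matrix.mulVec_add _ u v }
  have two : (2 : F) = 0 := CharTwo.two_eq_zero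
  have h2 : 2 ∣ Nat.card S := by
    let u : S := ⟨!![1, 1; 0, 1], by simp [Matrix.det_fin_two]⟩
    have hu : orderOf u = 2 := by
      refine orderOf_eq_prime (Subtype.ext ?_) fun h => ?_
      · show (u ^ 2 : S).1 = 1
        rw [pow_two, Matrix.SpecialLinearGroup.coe_mul]
        ext i j
        fin_cases i <;> fin_cases j <;> simp [u, Matrix.mul_apply, Fin.sum_univ_two] <;> grind
      · have h' := congrArg (fun g : S => (g : Matrix (Fin 2) (Fin 2) F) 0 1) h
        simp [u] at h'
    exact hu ▸ orderOf_dvd_natCard u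
  have hV : ∀ v : Fin 2 → F, 2 • v = 0 := fun v => by
    funext i
    show 2 • v i = 0
    rw [nsmul_eq_mul, Nat.cast_ofNat, two, zero_mul]
  obtain ⟨H, iG, iF, hlt, hp, he⟩ := Cfsg.Agent.GraphExt.exists_large_same_graph (G := S) (V := Fin 2 → F)
    2 Nat.prime_two h2 hV (fun g v hg hne hv hfx => by
      exfalso
      have hfx' : (g : Matrix (Fin 2) (Fin 2) F) *ᵥ v = v := hfx
      have hdet : ((g : Matrix (Fin 2) (Fin 2) F) - 1).det = 0 :=
        Matrix.exists_mulVec_eq_zero_iff.mp ⟨v, hv, by rw [Matrix.sub_mulVec, hfx', Matrix.one_mulVec, sub_self]⟩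
      have h1 := g.2
      rw [Matrix.det_fin_two] at hdet h1
      simp at hdet
      have hg2 : g ^ 2 = 1 := Subtype.ext (by
        show (g ^ 2 : S).1 = 1
        rw [pow_two, Matrix.SpecialLinearGroup.coe_mul]
        generalize (g : Matrix (Fin 2) (Fin 2) F) = M at hdet h1 ⊢
        ext i j
        fin_cases i <;> fin_cases j <;> simp [Matrix.mul_apply, Fin.sum_univ_two] <;> grind)
      rcases (Nat.dvd_prime Nat.prime_two).mp (orderOf_dvd_of_pow_eq_one hg2) with h | h
      · rw [h] at hg; exact Nat.not_prime_one hg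
      · exact hne h) N
  refine ⟨H, iG, inferInstance, hlt, ?_, ?_⟩
  · intro p hpp
    rw [← Nat.card_congr E.toEquiv]
    exact hp p hpp
  · intro p q hpp hqq hpq
    rw [← he p q hpp hqq hpq]
    exact ⟨fun ⟨x, hx⟩ => ⟨E.symm x, by rw [MulEquiv.orderOf_eq, hx]⟩,
      fun ⟨x, hx⟩ => ⟨E x, by rw [MulEquiv.orderOf_eq, hx]⟩⟩

end Cfsg.Agent.S3660
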