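import Cfsg.Statements.S3662
import Cfsg.Agent.Lib.Lie.Chev.G2EvenRep
import Cfsg.Agent.Lib.Recog.GraphExtension
import Cfsg.Agent.S1059
-- import your own Cfsg.Agent.* helpers here

set_option autoImplicit false
open Cfsg

namespace Cfsg.Agent.S3662

/-- The prime graph of a finite group has the prime divisors of its order as vertices, two distinct primes p, q being joined when the group has an element of order pq; two groups have the same prime graph when they have the same prime divisors and the same joined pairs. Let F be the field with 4 elements and L the Chevalley group of type G₂ over F. There are finite groups of arbitrarily large order with the same prime graph as L. -/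
theorem result {F : Type*} [Field F] [Fintype F] (hF : Fintype.card F = 4) (N : ℕ) :
    ∃ (H : Type) (_ : Group H) (_ : Finite H), N < Nat.card H ∧
      ((∀ p : ℕ, p.Prime → (p ∣ Nat.card ↥(Cfsg.Lie.chevG2.group F) ↔ p ∣ Nat.card H)) ∧
      (∀ p q : ℕ, p.Prime → q.Prime → p ≠ q → ((∃ g : ↥(Cfsg.Lie.chevG2.group F), orderOf g = p * q) ↔ (∃ g : H, orderOf g = p * q)))) := by
  classical
  haveI : Fact (Nat.Prime 2) := ⟨Nat.prime_two⟩
  let e : F ≃+* Cfsg.Agent.Spor.Cos.F4 :=
    FiniteField.ringEquivOfCardEq (by rw [hF]; rfl)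
  obtain ⟨ρ, hρ⟩ := Lie.Chev.G2Six.exists_hom e
  set G := ↥(Cfsg.Lie.chevG2.group F) with hGdef
  have hc : Nat.card G = 2 ^ 12 * (3 ^ 3 * 5 ^ 2 * 7 * 13) := by
    rw [hGdef, Cfsg.Agent.S1059.result hF]
    norm_num
  letI : DistribMulAction G (Fin 6 → Cfsg.Agent.Spor.Cos.F4) :=
    { smul := fun g v => Matrix.mulVec (ρ g : Matrix (Fin 6) (Fin 6) Cfsg.Agent.Spor.Cos.F4) v
      one_smul := fun v => by show Matrix.mulVec (ρ 1).val v = v; simp
      mul_smul := fun g h v => by
        show Matrix.mulVec (ρ (g * h)).val v = Matrix.mulVec (ρ g).val (Matrix.mulVec (ρ h).val v)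
        rw [map_mul, Units.val_mul, Matrix.mulVec_mulVec]
      smul_zero := fun g => Matrix.mulVec_zero _
      smul_add := fun g v w => Matrix.mulVec_add _ _ _ }
  have hword := Lie.Chev.G2Six.exists_word e ρ hρ
  have hpw : ∀ (g : G) (n : ℕ), ((ρ (g ^ n) : (Lie.Chev.G2Six.M6)ˣ) : Lie.Chev.G2Six.M6) = (ρ g).val ^ n := fun g n => by
    rw [map_pow, Units.val_pow_eq_pow_val]
  have hwit : ∀ (n : ℕ) (w : List (Fin 12 × Lie.Chev.G2Six.K4)), orderOf (Lie.Chev.G2Six.val w) = n → ∃ x : G, orderOf x = n := by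
    intro n w hn
    obtain ⟨g, hg⟩ := hword w
    have hd : n ∣ orderOf g := by
      rw [← hn]
      refine orderOf_dvd_of_pow_eq_one ?_
      rw [show Lie.Chev.G2Six.val w = (ρ g).val from hg.symm, ← hpw, pow_orderOf_eq_one]
      simp
    exact ⟨g ^ (orderOf g / n), orderOf_pow_orderOf_div (orderOf_pos g).ne' hd⟩
  have hfree : ∀ (q : ℕ), q.Prime → ¬ q ^ 2 ∣ Nat.card G → ∀ w : List (Fin 12 × Lie.Chev.G2Six.K4),
      Lie.Chev.G2Six.val w ^ q = 1 → Lie.Chev.G2Six.val w ≠ 1 →
      (∀ v, Matrix.mulVec (Lie.Chev.G2Six.val w) v = v → v = 0) →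
      ∀ (g : G) (v : Fin 6 → Lie.Chev.G2Six.K4), orderOf g = q → g • v = v → v = 0 := by
    intro q hq hq2 w hw hw1 hfix g v hg hgv
    haveI := Fact.mk hq
    obtain ⟨g₀, hg₀⟩ := hword w
    have hg₀' : (ρ g₀).val = Lie.Chev.G2Six.val w := hg₀
    have hM : orderOf (Lie.Chev.G2Six.val w) = q := orderOf_eq_prime hw hw1
    have hd : q ∣ orderOf g₀ := by
      rw [← hM]
      refine orderOf_dvd_of_pow_eq_one ?_
      rw [← hg₀', ← hpw, pow_orderOf_eq_one]
      simp
    set m := orderOf g₀ / q with hmdef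
    have hm : ¬ q ∣ m := fun hdm => hq2 <| by
      have : q * q ∣ orderOf g₀ := by
        rw [← Nat.mul_div_cancel' hd]
        exact mul_dvd_mul_left q hdm
      rw [sq]
      exact this.trans (orderOf_dvd_natCard g₀)
    set g' := g₀ ^ m with hg'def
    have hg' : orderOf g' = q := orderOf_pow_orderOf_div (orderOf_pos g₀).ne' hd
    have hS : ∀ y : G, orderOf y = q → ∀ S : Sylow q G, Subgroup.zpowers y ≤ (S : Subgroup G) →
        Subgroup.zpowers y = (S : Subgroup G) := by
      intro y hy S hS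
      obtain ⟨k, hk⟩ := IsPGroup.iff_card.1 S.2
      refine Subgroup.eq_of_le_of_card_ge hS ?_
      rw [Nat.card_zpowers, hy, hk]
      have : k ≤ 1 := by
        by_contra hk1
        exact hq2 ((pow_dvd_pow q (by omega : 2 ≤ k)).trans (hk ▸ Subgroup.card_subgroup_dvd_card _))
      exact (Nat.pow_le_pow_right hq.pos this).trans (pow_one q).le
    obtain ⟨S, hS1⟩ := (IsPGroup.of_card (n := 1) (by rw [Nat.card_zpowers, hg, pow_one]) : IsPGroup q (Subgroup.zpowers g)).exists_le_sylow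
    obtain ⟨T, hT1⟩ := (IsPGroup.of_card (n := 1) (by rw [Nat.card_zpowers, hg', pow_one]) : IsPGroup q (Subgroup.zpowers g')).exists_le_sylow
    obtain ⟨c, rfl⟩ := MulAction.exists_smul_eq G T S
    have hmem : c⁻¹ * g * c ∈ Subgroup.zpowers g' := by
      rw [hS g' hg' T hT1]
      have h := hS1 (Subgroup.mem_zpowers g)
      rw [Sylow.coe_subgroup_smul, Subgroup.mem_pointwise_smul_iff_inv_smul_mem, ← map_inv, MulAut.smul_def, MulAut.conj_apply, inv_inv] at h
      exact h
    obtain ⟨i, hi, hi'⟩ : ∃ i : ℕ, ¬ q ∣ i ∧ g' ^ i = c⁻¹ * g * c := by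
      obtain ⟨i, hi⟩ := mem_powers_iff_mem_zpowers.2 hmem
      refine ⟨i, fun hqi => ?_, hi⟩
      have h1 : g' ^ i = 1 := orderOf_dvd_iff_pow_eq_one.1 (hg'.symm ▸ hqi)
      rw [show g' ^ i = c⁻¹ * g * c from hi] at h1
      have : g = 1 := by
        calc g = c * (c⁻¹ * g * c) * c⁻¹ := by
              rw [← mul_assoc, ← mul_assoc, mul_inv_cancel, one_mul, mul_inv_cancel_right]
          _ = 1 := by rw [h1, mul_one, mul_inv_cancel]
      rw [this, orderOf_one] at hg
      exact hq.one_lt.ne hg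
    have hu : (g' ^ i) • (c⁻¹ • v) = c⁻¹ • v := by
      rw [hi', smul_smul, mul_assoc, mul_inv_cancel, mul_one, mul_smul, hgv]
    have hcop : Nat.Coprime (m * i) q :=
      ((hq.coprime_iff_not_dvd.2 fun h => (hq.dvd_mul.1 h).elim hm hi)).symm
    obtain ⟨j, hj⟩ := exists_pow_eq_self_of_coprime (x := Lie.Chev.G2Six.val w) (n := m * i) (by rwa [hM])
    have hfx : Matrix.mulVec (Lie.Chev.G2Six.val w ^ (m * i)) (c⁻¹ • v) = c⁻¹ • v := by
      rw [← hg₀', ← hpw, pow_mul]
      exact hu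
    have hpow : ∀ j : ℕ, Matrix.mulVec ((Lie.Chev.G2Six.val w ^ (m * i)) ^ j) (c⁻¹ • v) = c⁻¹ • v := fun j => by
      induction j with
      | zero => simp
      | succ j ih => rw [pow_succ, ← Matrix.mulVec_mulVec, hfx, ih]
    have h0 := hfix _ (by have := hpow j; rwa [hj] at this)
    calc v = c • (c⁻¹ • v) := (smul_inv_smul c v).symm
      _ = 0 := by rw [h0, smul_zero]
  obtain ⟨H, i1, i2, hN, hgr⟩ := GraphExt.exists_large_same_graph (G := G)
    (V := Fin 6 → Cfsg.Agent.Spor.Cos.F4) 2 Nat.prime_two (by rw [hc]; norm_num)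
    (fun v => funext fun i => by
      show 2 • v i = 0
      rw [two_nsmul]
      generalize v i = a
      revert a
      decide)
    (fun g v hp h2 hv hgv => by
      have hdvd : orderOf g ∣ 2 ^ 12 * (3 ^ 3 * 5 ^ 2 * 7 * 13) := hc ▸ orderOf_dvd_natCard g
      have hq : orderOf g = 3 ∨ orderOf g = 5 ∨ orderOf g = 7 ∨ orderOf g = 13 := by
        rcases hp.dvd_mul.1 hdvd with h | h
        · exact absurd ((Nat.prime_dvd_prime_iff_eq hp Nat.prime_two).1 (hp.dvd_of_dvd_pow h)) h2
        rcases hp.dvd_mul.1 h with h | h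
        rcases hp.dvd_mul.1 h with h | h
        rcases hp.dvd_mul.1 h with h | h
        · exact Or.inl ((Nat.prime_dvd_prime_iff_eq hp Nat.prime_three).1 (hp.dvd_of_dvd_pow h))
        · exact Or.inr (Or.inl ((Nat.prime_dvd_prime_iff_eq hp Nat.prime_five).1 (hp.dvd_of_dvd_pow h)))
        · exact Or.inr (Or.inr (Or.inl ((Nat.prime_dvd_prime_iff_eq hp (by norm_num)).1 h)))
        · exact Or.inr (Or.inr (Or.inr ((Nat.prime_dvd_prime_iff_eq hp (by norm_num)).1 h)))
      rcases hq with h | h | h | h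
      · rw [h]
        refine hwit (2 * 3) Lie.Chev.G2Six.w6 ?_
        obtain ⟨a, b, c⟩ := Lie.Chev.G2Six.w6_order
        refine orderOf_eq_of_pow_and_pow_div_prime (by norm_num) a fun p hp hd => ?_
        rcases (Nat.Prime.dvd_mul hp).1 (show p ∣ 2 * 3 from hd) with h | h
        · rw [(Nat.prime_dvd_prime_iff_eq hp Nat.prime_two).1 h]; exact c
        · rw [(Nat.prime_dvd_prime_iff_eq hp Nat.prime_three).1 h]; exact b
      · rw [h]
        refine hwit (2 * 5) Lie.Chev.G2Six.w10 ?_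
        obtain ⟨a, b, c⟩ := Lie.Chev.G2Six.w10_order
        refine orderOf_eq_of_pow_and_pow_div_prime (by norm_num) a fun p hp hd => ?_
        rcases (Nat.Prime.dvd_mul hp).1 (show p ∣ 2 * 5 from hd) with h | h
        · rw [(Nat.prime_dvd_prime_iff_eq hp Nat.prime_two).1 h]; exact c
        · rw [(Nat.prime_dvd_prime_iff_eq hp Nat.prime_five).1 h]; exact b
      · exact absurd (hfree 7 (by norm_num) (by rw [hc]; norm_num) _ Lie.Chev.G2Six.w7_order.1 Lie.Chev.G2Six.w7_order.2
          (fun v => Lie.Chev.G2Six.fpf Lie.Chev.G2Six.inv7_eq) g v h hgv) hv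
      · exact absurd (hfree 13 (by norm_num) (by rw [hc]; norm_num) _ Lie.Chev.G2Six.w13_order.1 Lie.Chev.G2Six.w13_order.2
          (fun v => Lie.Chev.G2Six.fpf Lie.Chev.G2Six.inv13_eq) g v h hgv) hv)
    N
  exact ⟨H, i1, Finite.of_fintype H, hN, hgr⟩

end Cfsg.Agent.S3662
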