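import Cfsg.Statements.S3663
import Cfsg.Agent.Lib.Fus.UFourModule
import Cfsg.Agent.Lib.Fus.PrimeGraphModuleExt
-- import your own Cfsg.Agent.* helpers here

set_option autoImplicit false
open Cfsg

namespace Cfsg.Agent.S3663

/-- The prime graph of a finite group has the prime divisors of its order as vertices, two distinct primes p, q being joined when the group has an element of order pq; two groups have the same prime graph when they have the same prime divisors and the same joined pairs. Let F be the field with 16 elements and L = PSU(3,4) realised over F. There are finite groups of arbitrarily large order with the same prime graph as L. -/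
theorem result {F : Type*} [Field F] [Fintype F] (hF : Fintype.card F = 16) (N : ℕ) :
    ∃ (H : Type) (_ : Group H) (_ : Finite H), N < Nat.card H ∧
      ((∀ p : ℕ, p.Prime → (p ∣ Nat.card (Cfsg.PSU 3 F 4) ↔ p ∣ Nat.card H)) ∧
      (∀ p q : ℕ, p.Prime → q.Prime → p ≠ q → ((∃ g : (Cfsg.PSU 3 F 4), orderOf g = p * q) ↔ (∃ g : H, orderOf g = p * q)))) := by
  open Cfsg.Agent.Fus Cfsg.Agent.Fus.PrimeGraph in
  have hfix : ∀ o : Fin 4, o ≠ 0 → ∃ (g : UFour.Y) (v : Fin 12 → ZMod 5),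
      v ≠ 0 ∧ g • v = v ∧ orderOf g = UFour.ords o := fun o ho =>
    ⟨UFour.el o, UFour.fix o, (UFour.fix_spec o ho).2, (UFour.fix_spec o ho).1, UFour.order_el o⟩
  have hV : ∀ v : Fin 12 → ZMod 5, 5 • v = 0 := fun v => funext fun i => by
    rw [Pi.smul_apply, nsmul_eq_mul]
    exact (show ∀ x : ZMod 5, ((5 : ℕ) : ZMod 5) * x = 0 by decide) _
  have : Fact (Nat.Prime 5) := ⟨Nat.prime_five⟩
  obtain ⟨H, iG, iF, hN, hpr, hadj⟩ := Cfsg.Agent.Fus.PrimeGraph.exists_large_graph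
    (G := ↥Cfsg.Agent.Fus.UFour.Y) (V := Fin 12 → ZMod 5) Nat.prime_five
    ((Cfsg.Agent.Fus.UFour.dvd_card_Y Nat.prime_five).2 (by norm_num)) hV N
  refine ⟨H, iG, iF, hN, fun p hp => ?_, fun p q hp hq hpq => ?_⟩
  · rw [Cfsg.Agent.Fus.PrimeGraph.psu_four_dvd_card hF hp, ← hpr p hp, Cfsg.Agent.Fus.UFour.dvd_card_Y hp]
  rw [Cfsg.Agent.Fus.PrimeGraph.psu_four_adj hF hp hq hpq, hadj p q hp hq hpq]
  open Cfsg.Agent.Fus Cfsg.Agent.Fus.PrimeGraph in
  constructor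
  · intro h
    right
    obtain ⟨g2, v2, hv2, hgv2, ho2⟩ := hfix 3 (by decide)
    obtain ⟨g3, v3, hv3, hgv3, ho3⟩ := hfix 2 (by decide)
    rcases h with ⟨rfl, rfl⟩ | ⟨rfl, rfl⟩ | ⟨rfl, rfl⟩ | ⟨rfl, rfl⟩
    · exact ⟨g2, v2, hv2, hgv2, Or.inr ⟨rfl, ho2⟩⟩
    · exact ⟨g2, v2, hv2, hgv2, Or.inl ⟨rfl, ho2⟩⟩
    · exact ⟨g3, v3, hv3, hgv3, Or.inr ⟨rfl, ho3⟩⟩
    · exact ⟨g3, v3, hv3, hgv3, Or.inl ⟨rfl, ho3⟩⟩
  · rintro (h | ⟨g, v, hv, hgv, ⟨rfl, hg⟩ | ⟨rfl, hg⟩⟩)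
    · exact UFour.adj_Y hp hq hpq h
    · have h4 := (UFour.dvd_card_Y hq).1 (hg ▸ orderOf_dvd_natCard g)
      have h13 : q ≠ 13 := fun h => hv (UFour.thirteen_fpf (h ▸ hg) hgv)
      unfold UFourEdge
      omega
    · have h4 := (UFour.dvd_card_Y hp).1 (hg ▸ orderOf_dvd_natCard g)
      have h13 : p ≠ 13 := fun h => hv (UFour.thirteen_fpf (h ▸ hg) hgv)
      unfold UFourEdge
      omega

end Cfsg.Agent.S3663
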