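import Cfsg.Statements.S3664
import Cfsg.Agent.Lib.Fus.PrimeGraphPSpSix
import Cfsg.Agent.Lib.Fus.SuzukiEightExt
import Cfsg.Agent.Lib.Fus.PrimeGraphModuleExt
-- import your own Cfsg.Agent.* helpers here

set_option autoImplicit false
open Cfsg

namespace Cfsg.Agent.S3664

/-- The prime graph of a finite group has the prime divisors of its order as vertices, two distinct primes p, q being joined when the group has an element of order pq; two groups have the same prime graph when they have the same prime divisors and the same joined pairs. Let F be the field with 3 elements and L = PSp(6,F). There are finite groups of arbitrarily large order with the same prime graph as L (a prime graph shared by the orthogonal groups Ω₇(3) and PΩ⁺₈(3)). -/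
theorem result {F : Type*} [Field F] [Fintype F] (hF : Fintype.card F = 3) (N : ℕ) :
    ∃ (H : Type) (_ : Group H) (_ : Finite H), N < Nat.card H ∧
      ((∀ p : ℕ, p.Prime → (p ∣ Nat.card (Cfsg.PSp 3 F) ↔ p ∣ Nat.card H)) ∧
      (∀ p q : ℕ, p.Prime → q.Prime → p ≠ q → ((∃ g : (Cfsg.PSp 3 F), orderOf g = p * q) ↔ (∃ g : H, orderOf g = p * q)))) := by
  open Cfsg.Agent.Fus Cfsg.Agent.Fus.PrimeGraph in
  have hfive : ∀ p : ℕ, p.Prime →
      (p ∣ Nat.card SzEight.X ↔ p = 2 ∨ p = 3 ∨ p = 5 ∨ p = 7 ∨ p = 13) := fun p hp => by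
    rw [SzEight.card_X]
    constructor
    · intro h
      rcases hp.dvd_mul.1 h with h | h
      · rcases hp.dvd_mul.1 h with h | h
        · rcases hp.dvd_mul.1 h with h | h
          · rcases hp.dvd_mul.1 h with h | h
            · exact Or.inl ((Nat.prime_dvd_prime_iff_eq hp Nat.prime_two).1 (hp.dvd_of_dvd_pow h))
            · exact Or.inr (Or.inr (Or.inl ((Nat.prime_dvd_prime_iff_eq hp (by norm_num)).1 h)))
          · exact Or.inr (Or.inr (Or.inr (Or.inl ((Nat.prime_dvd_prime_iff_eq hp (by norm_num)).1 h))))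
        · exact Or.inr (Or.inr (Or.inr (Or.inr ((Nat.prime_dvd_prime_iff_eq hp (by norm_num)).1 h))))
      · exact Or.inr (Or.inl ((Nat.prime_dvd_prime_iff_eq hp Nat.prime_three).1 h))
    · rintro (rfl | rfl | rfl | rfl | rfl) <;> norm_num
  obtain ⟨H, iG, iF, hN, hpr, hadj⟩ := Cfsg.Agent.Fus.PrimeGraph.exists_large_graph
    (G := Cfsg.Agent.Fus.SzEight.X) (V := Cfsg.Agent.Fus.SzEight.M4) Nat.prime_two
    ((hfive 2 Nat.prime_two).2 (Or.inl rfl))
    (fun v => Matrix.ext fun i j => by rw [Matrix.smul_apply, two_nsmul]; exact (show ∀ x : Cfsg.Agent.Fus.F8, x + x = 0 by decide +kernel) _) N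
  refine ⟨H, iG, iF, hN, fun p hp => ?_, fun p q hp hq hpq => ?_⟩
  · rw [Cfsg.Agent.Fus.PrimeGraph.psp_six_dvd_card hF hp, ← hpr p hp, hfive p hp]
  rw [Cfsg.Agent.Fus.PrimeGraph.psp_six_adj hF hp hq hpq, hadj p q hp hq hpq]
  open Cfsg.Agent.Fus Cfsg.Agent.Fus.PrimeGraph in
  constructor
  · intro h
    unfold SixEdge at h
    rcases h with ⟨rfl, rfl | rfl | rfl⟩ | ⟨rfl, rfl | rfl | rfl⟩ | ⟨rfl, rfl⟩ | ⟨rfl, rfl⟩
    · left; rw [mul_comm]; exact SzEight.exists_six
    · obtain ⟨x, v, hx, hv, hxv⟩ := SzEight.exists_fix_five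
      exact Or.inr ⟨x, v, hv, hxv, Or.inl ⟨rfl, hx⟩⟩
    · obtain ⟨x, v, hx, hv, hxv⟩ := SzEight.exists_fix_seven
      exact Or.inr ⟨x, v, hv, hxv, Or.inl ⟨rfl, hx⟩⟩
    · exact Or.inl SzEight.exists_six
    · obtain ⟨x, v, hx, hv, hxv⟩ := SzEight.exists_fix_five
      exact Or.inr ⟨x, v, hv, hxv, Or.inr ⟨rfl, hx⟩⟩
    · obtain ⟨x, v, hx, hv, hxv⟩ := SzEight.exists_fix_seven
      exact Or.inr ⟨x, v, hv, hxv, Or.inr ⟨rfl, hx⟩⟩
    · exact Or.inl SzEight.exists_fifteen
    · left; rw [mul_comm]; exact SzEight.exists_fifteen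
  · rintro (⟨x, hx⟩ | ⟨g, v, hv, hgv, ⟨rfl, hg⟩ | ⟨rfl, hg⟩⟩)
    · have hp5 := (hfive p hp).1 ((hx ▸ dvd_mul_right p q).trans (orderOf_dvd_natCard x))
      have hq5 := (hfive q hq).1 ((hx ▸ dvd_mul_left q p).trans (orderOf_dvd_natCard x))
      have hnp : ¬ (p = 7 ∨ p = 13) := fun h => SzEight.no_adj h hq hpq.symm ⟨x, hx⟩
      have hnq : ¬ (q = 7 ∨ q = 13) := fun h => SzEight.no_adj h hp hpq ⟨x, by rw [hx, mul_comm]⟩
      unfold SixEdge
      omega
    · have hq5 := (hfive q hq).1 (hg ▸ orderOf_dvd_natCard g)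
      have hne : q ≠ 13 := fun h => hv (SzEight.thirteen_fpf (h ▸ hg) hgv)
      unfold SixEdge
      omega
    · have hp5 := (hfive p hp).1 (hg ▸ orderOf_dvd_natCard g)
      have hne : p ≠ 13 := fun h => hv (SzEight.thirteen_fpf (h ▸ hg) hgv)
      unfold SixEdge
      omega

end Cfsg.Agent.S3664
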