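import Cfsg.Statements.S3669
import Mathlib
import Cfsg.Agent.Lib.Char.Complete
import Cfsg.Agent.Lib.Char.Constituent
import Cfsg.Agent.Lib.Char.CoprimeDegree
import Cfsg.Agent.Lib.Char.ExtendMain
import Cfsg.Agent.Lib.Grp.Basic
import Cfsg.Agent.Lib.Fus.SmallSimple
-- import your own Cfsg.Agent.* helpers here

set_option autoImplicit false
open Cfsg

namespace Cfsg.Agent.S3669

set_option linter.style.haveILetI false

open scoped Pointwise

universe w

theorem sylow5_unique (X : Type w) [Group X] [Finite X]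
    (h : Nat.card X ∈ ({5, 10, 15, 20, 30} : Finset ℕ)) (P : Sylow 5 X) [Fact (Nat.Prime 5)] :
    (P : Subgroup X).Normal := by
  have key : ∀ (Y : Type w) [Group Y] [Finite Y] (R : Sylow 5 Y),
      Nat.card Y ∈ ({5, 10, 15, 20} : Finset ℕ) → (R : Subgroup Y).Normal := by
    intro Y _ _ R hY
    have hd := R.card_dvd_index
    have hm : Nat.card (Sylow 5 Y) ≡ 1 [MOD 5] := card_sylow_modEq_one 5 Y
    have hi := (R : Subgroup Y).index_mul_card
    rw [R.card_eq_multiplicity] at hi
    have hf : (Nat.card Y).factorization 5 = 1 := by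
      refine le_antisymm ?_ ((Nat.Prime.dvd_iff_one_le_factorization (by norm_num) Nat.card_pos.ne').1
        (by simp only [Finset.mem_insert, Finset.mem_singleton] at hY
            rcases hY with e | e | e | e <;> rw [e] <;> norm_num))
      by_contra hc
      have h25 := (Nat.Prime.pow_dvd_iff_le_factorization (k := 2) (by norm_num : Nat.Prime 5)
        (Nat.card_pos (α := Y)).ne').2 (show 2 ≤ (Nat.card Y).factorization 5 by omega)
      simp only [Finset.mem_insert, Finset.mem_singleton] at hY
      rcases hY with e | e | e | e <;> rw [e] at h25 <;> norm_num at h25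
    rw [hf, pow_one] at hi
    have hle : (R : Subgroup Y).index ≤ 4 := by
      simp only [Finset.mem_insert, Finset.mem_singleton] at hY
      omega
    have hn : Nat.card (Sylow 5 Y) ≤ 4 :=
      (Nat.le_of_dvd (Nat.pos_of_ne_zero Subgroup.index_ne_zero_of_finite) hd).trans hle
    have h1 : Nat.card (Sylow 5 Y) = 1 := by
      have h5 : Nat.card (Sylow 5 Y) % 5 = 1 := by simpa [Nat.ModEq] using hm
      omega
    exact Subgroup.normalizer_eq_top_iff.1
      (Subgroup.index_eq_one.1 (R.card_eq_index_normalizer.symm.trans h1))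
  by_cases h30 : Nat.card X = 30
  · haveI := Fact.mk Nat.prime_two
    obtain ⟨Q⟩ : Nonempty (Sylow 2 X) := Sylow.nonempty
    have hf2 : (Nat.card X).factorization 2 = 1 := by
      refine le_antisymm ?_ ((Nat.Prime.dvd_iff_one_le_factorization Nat.prime_two Nat.card_pos.ne').1
        (by rw [h30]; norm_num))
      by_contra hc
      have := (Nat.Prime.pow_dvd_iff_le_factorization (k := 2) Nat.prime_two Nat.card_pos.ne').2
        (show 2 ≤ (Nat.card X).factorization 2 by omega)
      rw [h30] at this; norm_num at this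
    have hQ2 : Nat.card (Q : Subgroup X) = 2 := by rw [Q.card_eq_multiplicity, hf2, pow_one]
    haveI : IsCyclic (Q : Subgroup X) := isCyclic_of_prime_card hQ2
    have hc := IsCyclic.isComplement' (P := Q) (by rw [h30]; norm_num) inferInstance
    set M := (MonoidHom.transferSylow Q _).ker
    have hMi : M.index = Nat.card (Q : Subgroup X) := hc.symm.index_eq_card
    have hM : Nat.card M = 15 := by
      have := M.index_mul_card
      rw [hMi, hQ2, h30] at this
      omega
    obtain ⟨R⟩ : Nonempty (Sylow 5 M) := Sylow.nonempty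
    haveI := key M R (by rw [hM]; decide)
    haveI : (R : Subgroup M).Characteristic := R.characteristic_of_normal inferInstance
    have hn : ((R : Subgroup M).map M.subtype).Normal := inferInstance
    have hRc : ¬ 5 ∣ ((R : Subgroup M).map M.subtype).index := by
      rw [Subgroup.index_map_subtype, hMi, hQ2]
      intro hd
      exact R.not_dvd_index ((Nat.Coprime.dvd_mul_right (by norm_num)).1 hd)
    haveI := Sylow.unique_of_normal ((R.isPGroup'.map M.subtype).toSylow hRc) hn
    rw [Subsingleton.elim P ((R.isPGroup'.map M.subtype).toSylow hRc)]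
    exact hn
  · refine key X P ?_
    simp only [Finset.mem_insert, Finset.mem_singleton] at h ⊢
    tauto

theorem simple_of_sylow5 {G : Type w} [Group G] [Finite G] (hcard : Nat.card G = 60)
    [Fact (Nat.Prime 5)] (h : ∀ P : Sylow 5 G, ¬ (P : Subgroup G).Normal) : IsSimpleGroup G := by
  haveI : Nontrivial G := Finite.one_lt_card_iff_nontrivial.1 (by omega)
  have big : ∀ N : Subgroup G, N.Normal → N ≠ ⊤ → ¬ 5 ∣ Nat.card N := by
    intro N hN hNt hd
    have hmem : Nat.card N ∈ ({5, 10, 15, 20, 30} : Finset ℕ) := by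
      have h1 := N.card_subgroup_dvd_card
      have h2 : Nat.card N ≠ 60 := fun e => hNt (Subgroup.eq_top_of_card_eq N (e.trans hcard.symm))
      rw [hcard] at h1
      have h3 : Nat.card N ∈ Nat.divisors 60 := Nat.mem_divisors.2 ⟨h1, by norm_num⟩
      revert h2 hd h3
      generalize Nat.card N = k
      intro h2 hd h3
      fin_cases h3 <;> first | decide | norm_num at *
    obtain ⟨R⟩ : Nonempty (Sylow 5 N) := Sylow.nonempty
    haveI := sylow5_unique N hmem R
    haveI := hN
    haveI : (R : Subgroup N).Characteristic := R.characteristic_of_normal inferInstance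
    have hn : ((R : Subgroup N).map N.subtype).Normal := inferInstance
    have hRc : ¬ 5 ∣ ((R : Subgroup N).map N.subtype).index := by
      rw [Subgroup.index_map_subtype]
      intro hd'
      rcases (Nat.Prime.dvd_mul (by norm_num : Nat.Prime 5)).1 hd' with h1 | h1
      · exact R.not_dvd_index h1
      · have h25 := Nat.mul_dvd_mul h1 hd
        rw [N.index_mul_card, hcard] at h25
        norm_num at h25
    exact h ((R.isPGroup'.map N.subtype).toSylow hRc) hn
  refine ⟨fun N hN => ?_⟩
  by_contra hne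
  push Not at hne
  obtain ⟨hNb, hNt⟩ := hne
  have hd5 := big N hN hNt
  haveI := hN
  have hq : Nat.card (G ⧸ N) ∈ ({5, 10, 15, 20, 30} : Finset ℕ) := by
    have h1 := Subgroup.card_eq_card_quotient_mul_card_subgroup N
    have h2 : 1 < Nat.card N := (Subgroup.one_lt_card_iff_ne_bot N).2 hNb
    rw [hcard] at h1
    have h3 : Nat.card N ∈ Nat.divisors 60 := Nat.mem_divisors.2 ⟨Dvd.intro_left _ h1.symm, by norm_num⟩
    revert h1 h2 hd5 h3
    generalize Nat.card N = k
    generalize Nat.card (G ⧸ N) = m
    intro hd5 h1 h2 h3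
    simp only [Finset.mem_insert, Finset.mem_singleton]
    fin_cases h3 <;> norm_num at * <;> omega
  obtain ⟨R⟩ : Nonempty (Sylow 5 (G ⧸ N)) := Sylow.nonempty
  haveI := sylow5_unique _ hq R
  have hM : ((R : Subgroup (G ⧸ N)).comap (QuotientGroup.mk' N)) = ⊤ := by
    by_contra hne
    refine big _ inferInstance hne ?_
    have h5 : 5 ∣ Nat.card (R : Subgroup (G ⧸ N)) := R.dvd_card_of_dvd_card (by
      simp only [Finset.mem_insert, Finset.mem_singleton] at hq
      rcases hq with e | e | e | e | e <;> rw [e] <;> norm_num)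
    refine h5.trans ?_
    conv_lhs => rw [← Subgroup.map_comap_eq_self_of_surjective (QuotientGroup.mk'_surjective N)
      (R : Subgroup (G ⧸ N))]
    exact Subgroup.card_map_dvd _ _
  have hidx : Nat.card (G ⧸ N) = 5 := by
    have h1 : (R : Subgroup (G ⧸ N)) = ⊤ := by
      rw [← Subgroup.map_comap_eq_self_of_surjective (QuotientGroup.mk'_surjective N)
        (R : Subgroup (G ⧸ N)), hM, Subgroup.map_top_of_surjective _ (QuotientGroup.mk'_surjective N)]
    have hp := R.isPGroup'
    rw [h1] at hp
    obtain ⟨k, hk⟩ := IsPGroup.iff_card.1 hp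
    rw [Subgroup.card_top] at hk
    rcases k with _ | _ | k
    · rw [hk] at hq; simp at hq
    · rw [hk]; rfl
    · exfalso
      have : 25 ∣ Nat.card (G ⧸ N) := by rw [hk, pow_succ, pow_succ, mul_assoc]; exact dvd_mul_left _ _
      simp only [Finset.mem_insert, Finset.mem_singleton] at hq
      rcases hq with e | e | e | e | e <;> rw [e] at this <;> norm_num at this
  have hN12 : Nat.card N = 12 := by
    have h1 := Subgroup.card_eq_card_quotient_mul_card_subgroup N
    rw [hidx, hcard] at h1
    omega
  haveI := Fact.mk Nat.prime_three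
  obtain ⟨T⟩ : Nonempty (Sylow 3 N) := Sylow.nonempty
  have hT3 : Nat.card (T : Subgroup N) = 3 := by
    have h3 : 3 ∣ Nat.card (T : Subgroup N) := T.dvd_card_of_dvd_card (by rw [hN12]; norm_num)
    obtain ⟨k, hk⟩ := IsPGroup.iff_card.1 T.isPGroup'
    have hd := (T : Subgroup N).card_subgroup_dvd_card
    rw [hN12, hk] at hd
    rcases k with _ | _ | k
    · rw [hk] at h3; norm_num at h3
    · rw [hk]; rfl
    · exfalso
      have h9 := (show (9 : ℕ) ∣ 3 ^ (k + 1 + 1) by rw [pow_succ, pow_succ, mul_assoc]; exact dvd_mul_left _ _).trans hd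
      norm_num at h9
  -- a Sylow five subgroup normalizes T
  have hnT : Nat.card (Sylow 3 N) ≤ 4 := by
    have h1 := (T : Subgroup N).index_mul_card
    rw [hT3, hN12] at h1
    refine (Nat.le_of_dvd (Nat.pos_of_ne_zero Subgroup.index_ne_zero_of_finite) T.card_dvd_index).trans ?_
    omega
  obtain ⟨P⟩ : Nonempty (Sylow 5 G) := Sylow.nonempty
  have hfr := Sylow.normalizer_sup_eq_top (N := N) T
  set T' := (T : Subgroup N).map N.subtype with hT'
  set NT := Subgroup.normalizer (T' : Set G) with hNT
  have h5N : 5 ∣ Nat.card NT := by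
    by_contra hnd
    have h1 := Grp.card_sup_mul_card_inf_normal (H := NT) (N := N)
    rw [hfr, Subgroup.card_top, hcard, hN12] at h1
    exact hnd (((Nat.Coprime.dvd_mul_right (show Nat.Coprime 5 12 by norm_num))).1
      (h1 ▸ Dvd.dvd.mul_right (by norm_num) _))
  obtain ⟨y, hy⟩ := exists_prime_orderOf_dvd_card' (G := NT) 5 h5N
  have hT'3 : Nat.card T' = 3 := by rw [hT', Subgroup.card_map_of_injective N.subtype_injective, hT3]
  -- y centralizes T'
  obtain ⟨t, ht⟩ := exists_prime_orderOf_dvd_card' (G := T') 3 (by rw [hT'3])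
  have hy5 : orderOf (y : G) = 5 := by rw [Subgroup.orderOf_coe, hy]
  have hcom : Commute (y : G) t := by
    let φ : MulAut T' := Subgroup.normalizerMonoidHom T' y
    haveI : IsCyclic T' := isCyclic_of_prime_card hT'3
    have h1 : orderOf φ ∣ 2 := by
      have := orderOf_dvd_natCard φ
      rwa [IsCyclic.card_mulAut, hT'3, Nat.totient_prime Nat.prime_three] at this
    have h2 : orderOf φ ∣ 5 := hy ▸ orderOf_map_dvd (Subgroup.normalizerMonoidHom T') y
    have h3 : φ = 1 := orderOf_eq_one_iff.1 (Nat.dvd_one.1 (Nat.dvd_gcd h1 h2))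
    have h4 := congrArg (fun ψ : MulAut T' => ((ψ t : T') : G)) h3
    change (y : G) * t * (y : G)⁻¹ = t at h4
    exact mul_inv_eq_iff_eq_mul.1 h4
  -- then t normalizes the Sylow 5 subgroup generated by y
  have hcy : Nat.card (Subgroup.zpowers (y : G)) = 5 := by rw [Nat.card_zpowers, hy5]
  have hyi : ¬ 5 ∣ (Subgroup.zpowers (y : G)).index := by
    have := (Subgroup.zpowers (y : G)).index_mul_card
    rw [hcy, hcard] at this
    intro hd; omega
  let Y : Sylow 5 G := (IsPGroup.of_card (n := 1) (by rw [hcy, pow_one])).toSylow hyi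
  have hn5 : Nat.card (Sylow 5 G) = 6 := by
    have h1 : Nat.card (Sylow 5 G) % 5 = 1 := by simpa [Nat.ModEq] using card_sylow_modEq_one 5 G
    have h2 : Nat.card (Sylow 5 G) ∣ 12 := by
      have := Y.card_dvd_index
      have h3 := (Subgroup.zpowers (y : G)).index_mul_card
      rw [hcy, hcard] at h3
      rwa [show (Y : Subgroup G).index = 12 from (by change (Subgroup.zpowers (y : G)).index = 12; omega)] at this
    have h3 : Nat.card (Sylow 5 G) ≠ 1 := fun e => h Y (Subgroup.normalizer_eq_top_iff.1
      (Subgroup.index_eq_one.1 (Y.card_eq_index_normalizer.symm.trans e)))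
    have h4 : Nat.card (Sylow 5 G) ∈ Nat.divisors 12 := Nat.mem_divisors.2 ⟨h2, by norm_num⟩
    revert h1 h3 h4
    generalize Nat.card (Sylow 5 G) = k
    intro h1 h3 h4
    fin_cases h4 <;> simp_all
  have htn : (t : G) ∈ Subgroup.normalizer ((Y : Subgroup G) : Set G) := by
    refine Subgroup.centralizer_le_normalizer _ ?_
    intro z hz
    obtain ⟨j, rfl⟩ := hz
    exact (hcom.zpow_left j).eq
  have h3 : 3 ∣ Nat.card (Subgroup.normalizer ((Y : Subgroup G) : Set G)) := by
    have := Subgroup.orderOf_dvd_natCard _ htn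
    rwa [Subgroup.orderOf_coe, ht] at this
  have h10 := Subgroup.index_mul_card (Subgroup.normalizer ((Y : Subgroup G) : Set G))
  have h6 : (Subgroup.normalizer ((Y : Subgroup G) : Set G)).index = 6 :=
    Y.card_eq_index_normalizer.symm.trans hn5
  rw [h6, hcard] at h10
  omega

theorem a5_classes : Nat.card (ConjClasses (alternatingGroup (Fin 5))) ≤ 5 := by
  have key : ∃ r : Fin 5 → alternatingGroup (Fin 5), ∀ g, ∃ i, ∃ h : alternatingGroup (Fin 5), h * r i = g * h := by
    refine ⟨![1, ⟨Equiv.swap 0 1 * Equiv.swap 2 3, Equiv.Perm.mem_alternatingGroup.2 (by decide)⟩, ⟨Equiv.swap 0 1 * Equiv.swap 1 2, Equiv.Perm.mem_alternatingGroup.2 (by decide)⟩,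
      ⟨Equiv.swap 0 1 * Equiv.swap 1 2 * (Equiv.swap 2 3 * Equiv.swap 3 4), Equiv.Perm.mem_alternatingGroup.2 (by decide)⟩,
      ⟨(Equiv.swap 0 1 * Equiv.swap 1 2 * (Equiv.swap 2 3 * Equiv.swap 3 4)) ^ 2, Equiv.Perm.mem_alternatingGroup.2 (by decide)⟩], ?_⟩
    decide +kernel
  obtain ⟨r, hr⟩ := key
  refine (Nat.card_le_card_of_surjective (fun i => ConjClasses.mk (r i)) ?_).trans_eq (Nat.card_fin 5)
  intro c
  obtain ⟨g, rfl⟩ := ConjClasses.mk_surjective c
  obtain ⟨i, h, hh⟩ := hr g
  refine ⟨i, ConjClasses.mk_eq_mk_iff_isConj.2 (isConj_iff.2 ⟨h, ?_⟩)⟩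
  rw [hh, mul_inv_cancel_right]

theorem main {G : Type w} [Group G] [Finite G] (hcard : Nat.card G = 60)
    (hP : degreePrimes G = degreePrimes (alternatingGroup (Fin 5))) :
    Nonempty (G ≃* alternatingGroup (Fin 5)) := by
  haveI : Fact (Nat.Prime 5) := ⟨by norm_num⟩
  suffices h5 : 5 ∈ degreePrimes G by
    haveI := simple_of_sylow5 hcard fun P hPn => by
      obtain ⟨-, d, ⟨χ, rfl⟩, hd⟩ := h5
      haveI := hPn
      haveI := Fintype.ofFinite G
      haveI := Fintype.ofFinite (P : Subgroup G)
      obtain ⟨θ, hθ⟩ := Char.IsChar.exists_constituent' (Char.IsChar.res (Block.irr_isChar χ) (P : Subgroup G))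
        (show (χ : G → ℂ) ((1 : (P : Subgroup G)) : G) ≠ 0 from Block.irr_one_ne_zero χ)
      obtain ⟨e, he, hedvd⟩ := Char.Ext.ratio_dvd_index' χ.2 θ.2 hθ
      rw [Block.charDeg_spec' χ, Block.charDeg_spec' θ, ← Nat.cast_mul, Nat.cast_inj] at he
      have hP5 : Nat.card (P : Subgroup G) = 5 := by
        have h1 : 5 ∣ Nat.card (P : Subgroup G) := P.dvd_card_of_dvd_card (by rw [hcard]; norm_num)
        obtain ⟨k, hk⟩ := IsPGroup.iff_card.1 P.isPGroup'
        have h2 := (P : Subgroup G).card_subgroup_dvd_card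
        rw [hcard, hk] at h2
        rcases k with _ | _ | k
        · rw [hk] at h1; norm_num at h1
        · rw [hk]; rfl
        · exfalso
          have h9 := (show (25 : ℕ) ∣ 5 ^ (k + 1 + 1) by rw [pow_succ, pow_succ, mul_assoc]; exact dvd_mul_left _ _).trans h2
          norm_num at h9
      have hθd : ¬ 5 ∣ charDegree (θ : ↥(P : Subgroup G) → ℂ) := by
        intro h
        have h1 := Char.sum_degree_sq (G := (P : Subgroup G))
        simp only [Block.charDeg_spec'] at h1
        have h2 : ∑ ψ : IrrCharacter (P : Subgroup G), charDegree (ψ : ↥(P : Subgroup G) → ℂ) ^ 2 = 5 := by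
          have h3 := h1
          rw [hP5] at h3
          exact_mod_cast h3
        have h4 : charDegree (θ : ↥(P : Subgroup G) → ℂ) ^ 2 ≤ 5 := (Finset.single_le_sum
          (f := fun ψ : IrrCharacter (P : Subgroup G) => charDegree (ψ : ↥(P : Subgroup G) → ℂ) ^ 2)
          (fun _ _ => Nat.zero_le _) (Finset.mem_univ θ)).trans h2.le
        have h5' : 5 ≤ charDegree (θ : ↥(P : Subgroup G) → ℂ) := Nat.le_of_dvd (Nat.pos_of_ne_zero fun e =>
          Block.irr_one_ne_zero θ (by rw [Block.charDeg_spec' θ, e, Nat.cast_zero])) h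
        nlinarith
      have hidx : (P : Subgroup G).index = 12 := by
        have := (P : Subgroup G).index_mul_card
        rw [hP5, hcard] at this; omega
      rw [he] at hd
      rcases (Nat.Prime.dvd_mul (by norm_num : Nat.Prime 5)).1 hd with h | h
      · have := h.trans hedvd
        rw [hidx] at this; norm_num at this
      · exact hθd h
    exact Fus.alternating_five_of_card hcard
  rw [hP]
  refine ⟨by norm_num, ?_⟩
  by_contra hc
  push Not at hc
  classical
  set A := alternatingGroup (Fin 5)
  have hA : Nat.card A = 60 := by rw [nat_card_alternatingGroup, Nat.card_fin]; rfl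
  have h1 := Char.sum_degree_sq (G := A)
  simp only [Block.charDeg_spec'] at h1
  have h2 : ∑ ψ : IrrCharacter A, charDegree (ψ : A → ℂ) ^ 2 = 60 := by
    have h3 := h1
    rw [hA] at h3
    exact_mod_cast h3
  have hval : ∀ ψ : IrrCharacter A, charDegree (ψ : A → ℂ) ∈ ({1, 2, 3, 4, 6} : Finset ℕ) := by
    intro ψ
    have h4 : charDegree (ψ : A → ℂ) ^ 2 ≤ 60 := (Finset.single_le_sum
      (f := fun ψ : IrrCharacter A => charDegree (ψ : A → ℂ) ^ 2) (fun _ _ => Nat.zero_le _)
      (Finset.mem_univ ψ)).trans h2.le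
    have h5' : 0 < charDegree (ψ : A → ℂ) := Nat.pos_of_ne_zero fun e =>
      Block.irr_one_ne_zero ψ (by rw [Block.charDeg_spec' ψ, e, Nat.cast_zero])
    have h6 : ¬ 5 ∣ charDegree (ψ : A → ℂ) := hc _ ⟨ψ, rfl⟩
    have h7 : charDegree (ψ : A → ℂ) ≠ 7 := fun e => by
      have := Char.CopDeg.degree_dvd_card' ψ
      rw [e, hA] at this; norm_num at this
    simp only [Finset.mem_insert, Finset.mem_singleton]
    have : charDegree (ψ : A → ℂ) ≤ 7 := by nlinarith
    generalize charDegree (ψ : A → ℂ) = d at *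
    omega
  have hk : Fintype.card (IrrCharacter A) ≤ 5 := by
    rw [← Nat.card_eq_fintype_card, Char.card_irrCharacter]; exact a5_classes
  obtain ⟨ι⟩ := Function.Embedding.nonempty_of_card_le
    (show Fintype.card (IrrCharacter A) ≤ Fintype.card (Fin 5) by rwa [Fintype.card_fin])
  let d : Fin 5 → ℕ := Function.extend ι (fun ψ => charDegree (ψ : A → ℂ)) 0
  have hd : ∀ i, d i ∈ ({0, 1, 2, 3, 4, 6} : Finset ℕ) := by
    intro i
    by_cases hi : ∃ ψ, ι ψ = i
    · obtain ⟨ψ, rfl⟩ := hi
      simp only [d, ι.injective.extend_apply]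
      exact Finset.mem_insert_of_mem (hval ψ)
    · simp [d, Function.extend_apply' _ _ _ hi]
  have hsum : ∑ i, d i ^ 2 = 60 := by
    rw [← h2, ← Finset.sum_subset (Finset.subset_univ (Finset.univ.map ι)) (fun i _ hi => by
      have : ¬ ∃ ψ, ι ψ = i := by simpa using hi
      simp [d, Function.extend_apply' _ _ _ this]), Finset.sum_map]
    exact Finset.sum_congr rfl fun ψ _ => by simp [d, ι.injective.extend_apply]
  obtain ⟨i₁, hi₁⟩ : ∃ i, d i = 1 := by
    refine ⟨ι ⟨fun _ => 1, Char.isIrr_one⟩, ?_⟩
    simp only [d, ι.injective.extend_apply]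
    simp [charDegree]
  rw [Fin.sum_univ_five] at hsum
  have : ∀ a ∈ ({0, 1, 2, 3, 4, 6} : Finset ℕ), ∀ b ∈ ({0, 1, 2, 3, 4, 6} : Finset ℕ),
      ∀ c ∈ ({0, 1, 2, 3, 4, 6} : Finset ℕ), ∀ e ∈ ({0, 1, 2, 3, 4, 6} : Finset ℕ),
      1 + a ^ 2 + b ^ 2 + c ^ 2 + e ^ 2 ≠ 60 := by decide
  fin_cases i₁ <;> simp only [Fin.isValue, Fin.mk_one, Fin.reduceFinMk, Fin.zero_eta] at hi₁ <;>
    rw [hi₁] at hsum
  · exact this _ (hd 1) _ (hd 2) _ (hd 3) _ (hd 4) (by linarith)
  · exact this _ (hd 0) _ (hd 2) _ (hd 3) _ (hd 4) (by linarith)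
  · exact this _ (hd 0) _ (hd 1) _ (hd 3) _ (hd 4) (by linarith)
  · exact this _ (hd 0) _ (hd 1) _ (hd 2) _ (hd 4) (by linarith)
  · exact this _ (hd 0) _ (hd 1) _ (hd 2) _ (hd 3) (by linarith)

/-- The character degree graph of a finite group has as vertices the primes dividing some irreducible complex character degree, two distinct primes being joined when their product divides some irreducible character degree; two groups have the same character degree graph when they have the same vertices and the same joined pairs. A finite group of order 60 with the same character degree graph as the alternating group A₅ (whose character degrees are 1, 3, 4, 5, so the graph has vertices 2, 3, 5 and no edges) is isomorphic to A₅. -/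
theorem result {G : Type*} [Group G] [Finite G] (hcard : Nat.card G = 60)
    (hΓ : Cfsg.degreePrimes G = Cfsg.degreePrimes (alternatingGroup (Fin 5)) ∧ Cfsg.degreeGraph G = Cfsg.degreeGraph (alternatingGroup (Fin 5))) : Nonempty (G ≃* alternatingGroup (Fin 5)) := by
  exact main hcard hΓ.1

end Cfsg.Agent.S3669
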