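import Cfsg.Statements.S3670
import Mathlib
import Cfsg.Agent.Lib.Recog.PSU33Degrees
import Cfsg.Agent.Lib.Recog.SolvableDegree42
-- import your own Cfsg.Agent.* helpers here

set_option autoImplicit false
open Cfsg

namespace Cfsg.Agent.S3670

/-- The character degree graph of a finite group has as vertices the primes dividing some irreducible complex character degree, two distinct primes being joined when their product divides some irreducible character degree; two groups have the same character degree graph when they have the same vertices and the same joined pairs. Let F be the field with 9 elements and L = PSU(3,3) realised over F (order 6048). There is a finite solvable group of order 6048 with the same character degree graph as L; so L is not determined by its order together with its character degree graph. -/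
theorem result {F : Type*} [Field F] [Fintype F] (hF : Fintype.card F = 9) :
    ∃ (H : Type) (_ : Group H) (_ : Fintype H), Group.IsSolvable H ∧ Nat.card H = 6048 ∧ Cfsg.degreePrimes H = Cfsg.degreePrimes (Cfsg.PSU 3 F 3) ∧ Cfsg.degreeGraph H = Cfsg.degreeGraph (Cfsg.PSU 3 F 3) := by
  haveI : Fact (Fintype.card F = 9) := ⟨hF⟩
  obtain ⟨hP, hA⟩ := PSU33.psu33_graph (F := F)
  obtain ⟨d, hd, h42⟩ := Deg42.exists_forty_two
  have hdvd : ∀ d ∈ charDegrees Deg42.H6048, d ∣ 6048 := by
    rintro d ⟨χ, rfl⟩
    obtain ⟨n, -, hn⟩ := Cfsg.Agent.Char.IsIrr.one_eq_pos χ.2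
    have := Cfsg.Agent.Char.IsIrr.degree_dvd_card χ.2 hn
    rw [Deg42.card_H] at this
    simpa [charDegree, hn] using this
  obtain ⟨hP', hA'⟩ := PSU33.graph_of_edges hdvd ⟨d, hd, (show 6 ∣ 42 by norm_num).trans h42⟩
    ⟨d, hd, (show 14 ∣ 42 by norm_num).trans h42⟩ ⟨d, hd, (show 21 ∣ 42 by norm_num).trans h42⟩
  refine ⟨Deg42.H6048, inferInstance, inferInstance, Deg42.solvable_H, Deg42.card_H, hP'.trans hP.symm, ?_⟩
  ext p q
  rw [hA', hA]

end Cfsg.Agent.S3670
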