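import Cfsg.Statements.S3678
import Mathlib
import Cfsg.Agent.Lib.Recog.GraphExtension

set_option autoImplicit false
open Cfsg

namespace Cfsg.Agent.S3678

open Matrix

/-- edgeless prime graph on `{2, 3, 7}` for a group of exponent pattern `m₁, m₂, m₃` -/
theorem small_graph {G : Type*} [Group G] [Finite G] (m : ℕ) (hm : m = 8 ∨ m = 7) (m' : ℕ) (hm' : m' = 9 ∨ m' = 3)
    (m'' : ℕ) (hm'' : m'' = 7 ∨ m'' = 4 ∨ m'' = 2) (hex : ∀ g : G, g ^ m = 1 ∨ g ^ m' = 1 ∨ g ^ m'' = 1)
    (h2 : ∃ g : G, orderOf g = 2) (h3 : ∃ g : G, orderOf g = 3) (h7 : ∃ g : G, orderOf g = 7) :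
    (∀ p : ℕ, p.Prime → (p ∣ Nat.card G ↔ p = 2 ∨ p = 3 ∨ p = 7)) ∧
      (∀ p q : ℕ, p.Prime → q.Prime → p ≠ q → ¬ ∃ g : G, orderOf g = p * q) := by
  have hdiv : ∀ g : G, orderOf g ∣ m ∨ orderOf g ∣ m' ∨ orderOf g ∣ m'' := fun g => by
    rcases hex g with h | h | h
    · exact Or.inl (orderOf_dvd_of_pow_eq_one h)
    · exact Or.inr (Or.inl (orderOf_dvd_of_pow_eq_one h))
    · exact Or.inr (Or.inr (orderOf_dvd_of_pow_eq_one h))
  have hpr : ∀ p : ℕ, p.Prime → ∀ M : ℕ, (M = 2 ∨ M = 3 ∨ M = 4 ∨ M = 7 ∨ M = 8 ∨ M = 9) → p ∣ M →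
      p = 2 ∨ p = 3 ∨ p = 7 := by
    intro p hp M hM hpM
    have := Nat.le_of_dvd (by omega) hpM
    rcases hM with rfl | rfl | rfl | rfl | rfl | rfl <;> interval_cases p <;> first | omega | norm_num at hp
  constructor
  · intro p hp
    refine ⟨fun h => ?_, ?_⟩
    · haveI := Fact.mk hp
      obtain ⟨g, hg⟩ := exists_prime_orderOf_dvd_card' p h
      rcases hdiv g with h' | h' | h' <;> rw [hg] at h'
      · exact hpr p hp m (by omega) h'
      · exact hpr p hp m' (by omega) h'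
      · exact hpr p hp m'' (by omega) h'
    · rintro (rfl | rfl | rfl)
      · obtain ⟨g, hg⟩ := h2; exact hg ▸ orderOf_dvd_natCard g
      · obtain ⟨g, hg⟩ := h3; exact hg ▸ orderOf_dvd_natCard g
      · obtain ⟨g, hg⟩ := h7; exact hg ▸ orderOf_dvd_natCard g
  · rintro p q hp hq hpq ⟨g, hg⟩
    have key : ∀ M : ℕ, (M = 2 ∨ M = 3 ∨ M = 4 ∨ M = 7 ∨ M = 8 ∨ M = 9) → ¬ p * q ∣ M := by
      intro M hM hd
      have h1 := Nat.le_of_dvd (by omega) hd
      have hp2 := hp.two_le
      have hq2 := hq.two_le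
      have hM9 : M ≤ 9 := by omega
      have : p ≤ 4 := by nlinarith
      have : q ≤ 4 := by nlinarith
      rcases hM with rfl | rfl | rfl | rfl | rfl | rfl <;> interval_cases p <;> interval_cases q <;>
        first | omega | (simp_all (config := { decide := true }))
    rcases hdiv g with h' | h' | h' <;> rw [hg] at h'
    · exact key m (by omega) h'
    · exact key m' (by omega) h'
    · exact key m'' (by omega) h'

theorem sl2_sq {F : Type*} [Field F] (M : Matrix (Fin 2) (Fin 2) F) (h : M.det = 1) :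
    M * M = M.trace • M - 1 := by
  rw [Matrix.det_fin_two] at h
  ext i j
  fin_cases i <;> fin_cases j <;>
    simp [Matrix.mul_apply, Fin.sum_univ_two, Matrix.trace_fin_two] <;> grind


/-- The prime graph of a finite group has the prime divisors of its order as vertices, two distinct primes p, q being joined when the group has an element of order pq; two groups have the same prime graph when they have the same prime divisors and the same joined pairs. Let F be the field with 7 elements. There are finite groups of arbitrarily large order with the same prime graph as PSL(2,F) (the graph on {2, 3, 7} with no edges, which is also the prime graph of PSL(2,8)). -/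
theorem result {F : Type*} [Field F] [Fintype F] (hF : Fintype.card F = 7) (N : ℕ) :
    ∃ (H : Type) (_ : Group H) (_ : Finite H), N < Nat.card H ∧
      ((∀ p : ℕ, p.Prime → (p ∣ Nat.card (Matrix.ProjectiveSpecialLinearGroup (Fin 2) F) ↔ p ∣ Nat.card H)) ∧
      (∀ p q : ℕ, p.Prime → q.Prime → p ≠ q → ((∃ g : (Matrix.ProjectiveSpecialLinearGroup (Fin 2) F), orderOf g = p * q) ↔ (∃ g : H, orderOf g = p * q)))) := by
  classical
  haveI : Fact (Nat.Prime 2) := ⟨Nat.prime_two⟩
  haveI : Fact (Nat.Prime 7) := ⟨by norm_num⟩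
  haveI : CharP F 7 := charP_of_card_eq_prime_pow (f := 1) (by simpa using hF)
  -- SL(2,8)
  obtain ⟨K, iK, iKf, hK⟩ : ∃ (K : Type) (_ : Field K) (_ : Fintype K), Fintype.card K = 8 :=
    ⟨GaloisField 2 3, inferInstance, Fintype.ofFinite _, by
      rw [← @Nat.card_eq_fintype_card]; exact GaloisField.card 2 3 (by norm_num)⟩
  haveI : CharP K 2 := charP_of_card_eq_prime_pow (f := 3) hK
  have two : (2 : K) = 0 := CharTwo.two_eq_zero
  let S := Matrix.SpecialLinearGroup (Fin 2) K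
  have hS : ∀ g : S, g ^ 9 = 1 ∨ g ^ 7 = 1 ∨ g ^ 2 = 1 := by
    intro g
    set M := (g : Matrix (Fin 2) (Fin 2) K) with hM
    set t := M.trace with ht
    have h2 : M * M = t • M + 1 := by
      rw [ht, sl2_sq M g.2, sub_eq_add_neg]
      congr 1
      ext i j; exact CharTwo.neg_eq _
    have st : ∀ a b : K, (a • M + b • (1 : Matrix (Fin 2) (Fin 2) K)) * M = (a * t + b) • M + a • 1 := by
      intro a b
      rw [add_mul, smul_mul_assoc, h2, smul_mul_assoc, one_mul, smul_add, smul_smul, add_smul]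
      abel
    have h3 : M ^ 3 = (t ^ 2 + 1) • M + t • 1 := by
      rw [pow_succ, pow_two, h2, show t • M + 1 = t • M + (1 : K) • (1 : Matrix (Fin 2) (Fin 2) K) by simp, st]
      congr 2; ring
    have h4 : M ^ 4 = t ^ 3 • M + (t ^ 2 + 1) • 1 := by
      rw [pow_succ, h3, st]; congr 2; linear_combination t * two
    have h5 : M ^ 5 = (t ^ 4 + t ^ 2 + 1) • M + t ^ 3 • 1 := by
      rw [pow_succ, h4, st]; congr 2; ring
    have h6 : M ^ 6 = (t ^ 5 + t) • M + (t ^ 4 + t ^ 2 + 1) • 1 := by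
      rw [pow_succ, h5, st]; congr 2; linear_combination t ^ 3 * two
    have h7 : M ^ 7 = (t ^ 3 + t ^ 2 + 1) ^ 2 • M + (t ^ 5 + t) • 1 := by
      rw [pow_succ, h6, st]; congr 2; linear_combination (-t ^ 5 - t ^ 3) * two
    have h8 : M ^ 8 = t ^ 7 • M + (t ^ 3 + t ^ 2 + 1) ^ 2 • 1 := by
      rw [pow_succ, h7, st]; congr 2; linear_combination (t ^ 6 + t ^ 5 + t ^ 4 + t ^ 3 + t) * two
    have h9 : M ^ 9 = (t ^ 4 + t ^ 3 + t ^ 2 + 1) ^ 2 • M + t ^ 7 • 1 := by
      rw [pow_succ, h8, st]; congr 2; linear_combination (-t ^ 7 - t ^ 6 - t ^ 4) * two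
    have ht8 : t ^ 8 = t := hK ▸ FiniteField.pow_card t
    have hprod : t * ((t ^ 3 + t ^ 2 + 1) * (t ^ 4 + t ^ 3 + t ^ 2 + 1)) = 0 := by
      linear_combination ht8 + (t ^ 7 + t ^ 6 + t ^ 5 + t ^ 4 + t ^ 3 + t) * two
    have back : ∀ n : ℕ, M ^ n = 1 → g ^ n = 1 := fun n h => Subtype.ext (by
      show ((g ^ n : S) : Matrix (Fin 2) (Fin 2) K) = 1
      rw [Matrix.SpecialLinearGroup.coe_pow]; exact h)
    rcases mul_eq_zero.mp hprod with h | h
    · refine Or.inr (Or.inr (back 2 ?_))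
      rw [pow_two, h2, h, zero_smul, zero_add]
    · rcases mul_eq_zero.mp h with h | h
      · refine Or.inr (Or.inl (back 7 ?_))
        rw [h7, h, zero_pow two_ne_zero, zero_smul, zero_add, show t ^ 5 + t = 1 by linear_combination (t ^ 2 + t + 1) * h + (-t ^ 4 - t ^ 3 - t ^ 2 - 1) * two, one_smul]
      · refine Or.inl (back 9 ?_)
        rw [h9, h, zero_pow two_ne_zero, zero_smul, zero_add, show t ^ 7 = 1 by
          linear_combination (t ^ 3 + t ^ 2 + 1) * h + (-(t ^ 6 + t ^ 5 + t ^ 4 + t ^ 3 + t ^ 2) - 1) * two, one_smul]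
  have oS : ∀ (A : S) (p : ℕ), p.Prime → (A : Matrix (Fin 2) (Fin 2) K) ^ p = 1 →
      (A : Matrix (Fin 2) (Fin 2) K) ≠ 1 → orderOf A = p := by
    intro A p hp h1 h2
    haveI := Fact.mk hp
    refine orderOf_eq_prime (Subtype.ext ?_) fun h => h2 (by rw [h]; rfl)
    show ((A ^ p : S) : Matrix (Fin 2) (Fin 2) K) = 1
    rw [Matrix.SpecialLinearGroup.coe_pow]; exact h1
  have S2 : ∃ A : S, orderOf A = 2 := by
    refine ⟨⟨!![1, 1; 0, 1], by simp [Matrix.det_fin_two]⟩, oS _ 2 Nat.prime_two ?_ fun h => ?_⟩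
    · ext i j; fin_cases i <;> fin_cases j <;> simp [pow_two, Matrix.mul_apply, Fin.sum_univ_two] <;> grind
    · have := congrFun (congrFun h 0) 1; simp at this
  have S3 : ∃ A : S, orderOf A = 3 := by
    refine ⟨⟨!![0, 1; 1, 1], by simp [Matrix.det_fin_two, CharTwo.neg_eq]⟩, oS _ 3 Nat.prime_three ?_ fun h => ?_⟩
    · ext i j; fin_cases i <;> fin_cases j <;> simp [pow_succ, Matrix.mul_apply, Fin.sum_univ_two] <;> grind
    · have := congrFun (congrFun h 0) 1; simp at this
  have S7 : ∃ A : S, orderOf A = 7 := by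
    obtain ⟨a, ha0, ha1⟩ : ∃ a : K, a ≠ 0 ∧ a ≠ 1 := by
      by_contra hc
      push Not at hc
      have : (Finset.univ : Finset K) ⊆ {0, 1} := fun a _ => by
        by_cases h : a = 0
        · simp [h]
        · simp [hc a h]
      have := Finset.card_le_card this
      rw [Finset.card_univ, hK] at this
      have := Finset.card_le_two (a := (0 : K)) (b := 1)
      omega
    refine ⟨⟨!![a, 0; 0, a⁻¹], by simp [Matrix.det_fin_two, ha0]⟩, oS _ 7 (by norm_num) ?_ fun h => ?_⟩
    · have h8 : a ^ 8 = a := hK ▸ FiniteField.pow_card a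
      have h7 : a ^ 7 = 1 := mul_right_cancel₀ ha0 (by rw [← pow_succ, h8, one_mul])
      have hd : (!![a, 0; 0, a⁻¹] : Matrix (Fin 2) (Fin 2) K) = Matrix.diagonal ![a, a⁻¹] := by
        ext i j; fin_cases i <;> fin_cases j <;> simp
      show (!![a, 0; 0, a⁻¹] : Matrix (Fin 2) (Fin 2) K) ^ 7 = 1
      rw [hd, Matrix.diagonal_pow]
      ext i j; fin_cases i <;> fin_cases j <;> simp [h7, inv_pow]
    · have := congrFun (congrFun h 0) 0; simp at this; exact ha1 this
  obtain ⟨hSp, hSe⟩ := small_graph (G := S) 7 (Or.inr rfl) 9 (Or.inl rfl) 2 (Or.inr (Or.inr rfl))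
    (fun g => by rcases hS g with h | h | h; exacts [Or.inr (Or.inl h), Or.inl h, Or.inr (Or.inr h)]) S2 S3 S7
  -- PSL(2,7)
  let T := Matrix.SpecialLinearGroup (Fin 2) F
  let π : T →* Matrix.ProjectiveSpecialLinearGroup (Fin 2) F := QuotientGroup.mk' (Subgroup.center T)
  have hsc : ∀ (A : T) (c : F), (A : Matrix (Fin 2) (Fin 2) F) = c • 1 → π A = 1 := by
    intro A c h
    refine (QuotientGroup.eq_one_iff A).mpr (Matrix.SpecialLinearGroup.mem_center_iff.mpr ⟨c, ?_, ?_⟩)
    · have := A.2; rw [h, Matrix.det_smul, Matrix.det_one, mul_one] at this; exact this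
    · rw [h]; ext i j; simp [Matrix.scalar, Matrix.one_apply, Matrix.diagonal_apply]
  have hcast : ∀ t : F, ∃ k : ℕ, k < 7 ∧ (k : F) = t := by
    intro t
    let f := ZMod.castHom (dvd_refl 7) F
    have hb : Function.Bijective f := by
      rw [Fintype.bijective_iff_injective_and_card]
      exact ⟨f.injective, by rw [ZMod.card, hF]⟩
    obtain ⟨z, rfl⟩ := hb.2 t
    exact ⟨z.val, z.val_lt, by rw [ZMod.natCast_val]; rfl⟩
  have seven : (7 : F) = 0 := by exact_mod_cast CharP.cast_eq_zero F 7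
  have hP : ∀ g : Matrix.ProjectiveSpecialLinearGroup (Fin 2) F, g ^ 7 = 1 ∨ g ^ 3 = 1 ∨ g ^ 4 = 1 := by
    intro g
    obtain ⟨A, rfl⟩ := QuotientGroup.mk'_surjective (Subgroup.center T) g
    set M := (A : Matrix (Fin 2) (Fin 2) F) with hM
    have st : ∀ a b : F, (a • M + b • (1 : Matrix (Fin 2) (Fin 2) F)) * M
        = (a * M.trace + b) • M + (-a) • 1 := by
      intro a b
      rw [add_mul, smul_mul_assoc, sl2_sq M A.2, smul_mul_assoc, one_mul, smul_sub, smul_smul, add_smul, neg_smul]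
      abel
    have h2 : M ^ 2 = M.trace • M + (-1 : F) • 1 := by rw [pow_two, sl2_sq M A.2, neg_smul, one_smul, sub_eq_add_neg]
    have back : ∀ (n : ℕ) (c : F), M ^ n = c • 1 → π A ^ n = 1 := fun n c h => by
      rw [← map_pow]; exact hsc _ c (by rw [Matrix.SpecialLinearGroup.coe_pow]; exact h)
    obtain ⟨k, hk, hkt⟩ := hcast M.trace
    have step : ∀ (n : ℕ) (a b : F), M ^ n = a • M + b • 1 → M ^ (n + 1) = (a * M.trace + b) • M + (-a) • 1 := by
      intro n a b h
      rw [pow_succ, h, st]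
    have h3 := step 2 _ _ h2
    have h4 := step 3 _ _ h3
    have h5 := step 4 _ _ h4
    have h6 := step 5 _ _ h5
    have h7 := step 6 _ _ h6
    have fin : ∀ (n : ℕ) (a b : F), M ^ n = a • M + b • 1 → a = 0 → π A ^ n = 1 := fun n a b h ha =>
      back n b (by rw [h, ha, zero_smul, zero_add])
    interval_cases k <;> push_cast at hkt
    · exact Or.inr (Or.inr (fin 4 _ _ h4 (by rw [← hkt]; ring)))
    · exact Or.inr (Or.inl (fin 3 _ _ h3 (by rw [← hkt]; ring)))
    · exact Or.inl (fin 7 _ _ h7 (by rw [← hkt]; linear_combination seven))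
    · exact Or.inr (Or.inr (fin 4 _ _ h4 (by rw [← hkt]; linear_combination 3 * seven)))
    · exact Or.inr (Or.inr (fin 4 _ _ h4 (by rw [← hkt]; linear_combination 8 * seven)))
    · exact Or.inl (fin 7 _ _ h7 (by rw [← hkt]; linear_combination 1807 * seven))
    · exact Or.inr (Or.inl (fin 3 _ _ h3 (by rw [← hkt]; linear_combination 5 * seven)))
  have oP : ∀ (A : T) (p : ℕ) (c : F), p.Prime → (A : Matrix (Fin 2) (Fin 2) F) ^ p = c • 1 →
      ((A : Matrix (Fin 2) (Fin 2) F) 0 1 ≠ 0) → orderOf (π A) = p := by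
    intro A p c hp h1 h2
    haveI := Fact.mk hp
    refine orderOf_eq_prime ?_ fun h => ?_
    · rw [← map_pow]; exact hsc _ c (by rw [Matrix.SpecialLinearGroup.coe_pow]; exact h1)
    · obtain ⟨r, -, hr⟩ := Matrix.SpecialLinearGroup.mem_center_iff.mp ((QuotientGroup.eq_one_iff A).mp h)
      exact h2 (by rw [← hr]; simp [Matrix.scalar])
  have P2 : ∃ g : Matrix.ProjectiveSpecialLinearGroup (Fin 2) F, orderOf g = 2 := by
    refine ⟨π ⟨!![0, -1; 1, 0], by simp [Matrix.det_fin_two]⟩, oP _ 2 (-1) Nat.prime_two ?_ (by simp)⟩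
    ext i j; fin_cases i <;> fin_cases j <;> simp [pow_two, Matrix.mul_apply, Fin.sum_univ_two]
  have P3 : ∃ g : Matrix.ProjectiveSpecialLinearGroup (Fin 2) F, orderOf g = 3 := by
    refine ⟨π ⟨!![0, -1; 1, 1], by simp [Matrix.det_fin_two]⟩, oP _ 3 (-1) Nat.prime_three ?_ (by simp)⟩
    ext i j; fin_cases i <;> fin_cases j <;> simp [pow_succ, Matrix.mul_apply, Fin.sum_univ_two]
  have P7 : ∃ g : Matrix.ProjectiveSpecialLinearGroup (Fin 2) F, orderOf g = 7 := by
    refine ⟨π ⟨!![1, 1; 0, 1], by simp [Matrix.det_fin_two]⟩, oP _ 7 1 (by norm_num) ?_ (by simp)⟩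
    ext i j; fin_cases i <;> fin_cases j <;> simp [pow_succ, Matrix.mul_apply, Fin.sum_univ_two] <;> grind
  obtain ⟨hPp, hPe⟩ := small_graph (G := Matrix.ProjectiveSpecialLinearGroup (Fin 2) F) 7 (Or.inr rfl) 3
    (Or.inr rfl) 4 (Or.inr (Or.inl rfl)) hP P2 P3 P7
  -- the module
  letI : DistribMulAction S (Fin 2 → K) :=
    { smul := fun g v => (g : Matrix (Fin 2) (Fin 2) K) *ᵥ v
      one_smul := fun v => Matrix.one_mulVec v
      mul_smul := fun g h v => (Matrix.mulVec_mulVec v _ _).symm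
      smul_zero := fun g => Matrix.mulVec_zero _
      smul_add := fun g u v => Matrix.mulVec_add _ u v }
  have hV : ∀ v : Fin 2 → K, 2 • v = 0 := fun v => by
    funext i
    show 2 • v i = 0
    rw [nsmul_eq_mul, Nat.cast_ofNat, two, zero_mul]
  obtain ⟨H, iG, iF, hlt, hp, he⟩ := Cfsg.Agent.GraphExt.exists_large_same_graph (G := S) (V := Fin 2 → K)
    2 Nat.prime_two ((hSp 2 Nat.prime_two).mpr (Or.inl rfl)) hV (fun g v hg hne hv hfx => by
      exfalso
      have hfx' : (g : Matrix (Fin 2) (Fin 2) K) *ᵥ v = v := hfx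
      have hdet : ((g : Matrix (Fin 2) (Fin 2) K) - 1).det = 0 :=
        Matrix.exists_mulVec_eq_zero_iff.mp ⟨v, hv, by rw [Matrix.sub_mulVec, hfx', Matrix.one_mulVec, sub_self]⟩
      have h1 := g.2
      rw [Matrix.det_fin_two] at hdet h1
      simp at hdet
      have hg2 : g ^ 2 = 1 := Subtype.ext (by
        show ((g ^ 2 : S) : Matrix (Fin 2) (Fin 2) K) = 1
        rw [pow_two, Matrix.SpecialLinearGroup.coe_mul]
        generalize (g : Matrix (Fin 2) (Fin 2) K) = M at hdet h1 ⊢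
        ext i j
        fin_cases i <;> fin_cases j <;> simp [Matrix.mul_apply, Fin.sum_univ_two] <;> grind)
      rcases (Nat.dvd_prime Nat.prime_two).mp (orderOf_dvd_of_pow_eq_one hg2) with h | h
      · rw [h] at hg; exact Nat.not_prime_one hg
      · exact hne h) N
  refine ⟨H, iG, inferInstance, hlt, fun p hpp => ?_, fun p q hpp hqq hpq => ?_⟩
  · rw [← hp p hpp, hPp p hpp, hSp p hpp]
  · rw [← he p q hpp hqq hpq]
    exact iff_of_false (hPe p q hpp hqq hpq) (hSe p q hpp hqq hpq)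

end Cfsg.Agent.S3678
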