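import Cfsg.Statements.S3680
import Cfsg.Agent.Lib.Recog.MinimalNormal

set_option autoImplicit false
open Cfsg

namespace Cfsg.Agent.S3680

theorem transport {G : Type*} [Group G] [Finite G] (N T : Subgroup G) (k : ℕ) (hk : 1 ≤ k)
    (hs : IsSimpleGroup T) (hT : ¬ IsMulCommutative T) (e : (Fin k → T) ≃* N) :
    ∃ (T' : Type) (_ : Group T') (m : ℕ), 1 ≤ m ∧ IsSimpleGroup T' ∧ ¬ IsMulCommutative T' ∧ Nonempty (N ≃* (Fin m → T')) := by
  haveI := hs
  let E : Shrink.{0} T ≃* T := Shrink.mulEquiv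
  refine ⟨Shrink.{0} T, inferInstance, k, hk, MulEquiv.isSimpleGroup E, fun h => hT ⟨⟨fun a b => ?_⟩⟩,
    ⟨e.symm.trans (MulEquiv.piCongrRight fun _ => E.symm)⟩⟩
  apply E.symm.injective
  rw [map_mul, map_mul, h.is_comm.comm]

/-- The socle of a finite primitive permutation group. Let a finite group G act faithfully and primitively on a set Ω, and let N be the subgroup generated by the minimal normal subgroups of G. Then either N is an elementary abelian p-group for some prime p and acts regularly on Ω (transitively with trivial point stabilizers), or N is isomorphic to a direct product of m ≥ 1 copies of a non-abelian simple group. -/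
theorem result {G Ω : Type*} [Group G] [Finite G] [MulAction G Ω] [FaithfulSMul G Ω] [Finite Ω]
    (hprim : MulAction.IsPreprimitive G Ω) (N : Subgroup G)
    (hN : N = sSup {V : Subgroup G | V.Normal ∧ V ≠ ⊥ ∧ ∀ M : Subgroup G, M.Normal → M ≤ V → M = ⊥ ∨ M = V}) :
    (∃ p : ℕ, p.Prime ∧ IsMulCommutative N ∧ (∀ x : N, x ^ p = 1) ∧
      MulAction.IsPretransitive N Ω ∧ ∀ ω : Ω, MulAction.stabilizer N ω = ⊥) ∨
    (∃ (T : Type) (_ : Group T) (m : ℕ), 1 ≤ m ∧ IsSimpleGroup T ∧ ¬ IsMulCommutative T ∧ Nonempty (N ≃* (Fin m → T))) := by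
  classical
  let Min : Subgroup G → Prop := fun V => V.Normal ∧ V ≠ ⊥ ∧ ∀ M : Subgroup G, M.Normal → M ≤ V → M = ⊥ ∨ M = V
  haveI := hprim
  rcases subsingleton_or_nontrivial G with hs | hG
  · -- the trivial group: both sides collapse
    left
    have hN1 : ∀ x : N, x = 1 := fun x => Subtype.ext (Subsingleton.elim _ _)
    refine ⟨2, Nat.prime_two, ⟨⟨fun a b => by rw [hN1 a, hN1 b]⟩⟩, fun x => by rw [hN1 x, one_pow], ⟨fun a b => ?_⟩,
      fun ω => (Subgroup.eq_bot_iff_forall _).mpr fun x _ => hN1 x⟩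
    obtain ⟨g, hg⟩ := MulAction.exists_smul_eq G a b
    exact ⟨1, by show ((1 : N) : G) • a = b; rw [← hg, Subsingleton.elim ((1 : N) : G) g]⟩
  obtain ⟨M, hM⟩ : ∃ M, Min M := by
    obtain ⟨M, ⟨hMn, hMb⟩, hmin⟩ := wellFounded_lt.has_min {V : Subgroup G | V.Normal ∧ V ≠ ⊥} ⟨⊤, inferInstance, top_ne_bot⟩
    exact ⟨M, hMn, hMb, fun K hK hKM => or_iff_not_imp_left.mpr fun hKb => by
      by_contra h
      exact hmin K ⟨hK, hKb⟩ (lt_of_le_of_ne hKM h)⟩
  haveI := hM.1
  have htr : ∀ K : Subgroup G, K.Normal → K ≠ ⊥ → MulAction.IsPretransitive K Ω := by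
    intro K hK hKb
    haveI := hK
    refine MulAction.IsQuasiPreprimitive.isPretransitive_of_normal fun h => hKb ?_
    rw [Subgroup.eq_bot_iff_forall]
    intro x hx
    refine eq_of_smul_eq_smul (α := Ω) fun a => ?_
    rw [one_smul]
    have : a ∈ MulAction.fixedPoints K Ω := h ▸ Set.mem_univ a
    exact this ⟨x, hx⟩
  have hdisj : ∀ V, Min V → V ≠ M → V ≤ Subgroup.centralizer (M : Set G) := by
    intro V hV hne v hv
    rw [Subgroup.mem_centralizer_iff]
    intro m hm
    haveI := hV.1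
    have hb : V ⊓ M = ⊥ := by
      rcases hV.2.2 (V ⊓ M) inferInstance inf_le_left with h | h
      · exact h
      · rcases hM.2.2 V hV.1 (h ▸ inf_le_right) with h' | h'
        · exact absurd h' hV.2.1
        · exact absurd h' hne
    exact (MinNormal.comm_of_disjoint (by rw [Subgroup.normalizer_eq_top V]; exact le_top) (by rw [Subgroup.normalizer_eq_top M]; exact le_top) hb hv hm).symm
  -- regularity of the centralizer of a transitive subgroup
  have hsemi : ∀ K : Subgroup G, MulAction.IsPretransitive K Ω → ∀ c : G, (∀ x ∈ K, x * c = c * x) →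
      ∀ a : Ω, c • a = a → c = 1 := by
    intro K hK c hc a ha
    refine eq_of_smul_eq_smul (α := Ω) fun b => ?_
    obtain ⟨x, hx⟩ := MulAction.exists_smul_eq K a b
    have hx' : (x : G) • a = b := hx
    rw [one_smul, ← hx', ← mul_smul, ← hc x x.2, mul_smul, ha]
  have hMt := htr M hM.1 hM.2.1
  by_cases hab : IsMulCommutative M
  · left
    have hMc : ∀ x ∈ M, ∀ y ∈ M, x * y = y * x := fun x hx y hy => congrArg Subtype.val (hab.is_comm.comm ⟨x, hx⟩ ⟨y, hy⟩)
    have hCM : Subgroup.centralizer (M : Set G) ≤ M := by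
      intro c hc
      obtain ⟨a⟩ : Nonempty Ω := by
        by_contra h
        haveI : IsEmpty Ω := not_nonempty_iff.mp h
        obtain ⟨g, hg⟩ := exists_ne (1 : G)
        exact hg (eq_of_smul_eq_smul (α := Ω) fun a => isEmptyElim a)
      obtain ⟨m, hm⟩ := MulAction.exists_smul_eq M a (c • a)
      have hm' : (m : G) • a = c • a := hm
      have h1 : (m : G)⁻¹ * c = 1 := hsemi M hMt _ (fun x hx => by
        have hxm : Commute x (m : G) := hMc x hx m m.2
        have hxc : Commute x c := Subgroup.mem_centralizer_iff.mp hc x hx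
        exact (hxm.inv_right.mul_right hxc).eq) a (by rw [mul_smul, ← hm', inv_smul_smul])
      rw [inv_mul_eq_one] at h1
      exact h1 ▸ m.2
    have hNM : N = M := by
      rw [hN]
      refine le_antisymm (sSup_le fun V hV => ?_) (le_sSup hM)
      by_cases h : V = M
      · exact h.le
      · exact (hdisj V hV h).trans hCM
    rw [hNM]
    letI : CommGroup M := { (inferInstance : Group M) with mul_comm := hab.is_comm.comm }
    haveI : Nontrivial M := (Subgroup.nontrivial_iff_ne_bot M).mpr hM.2.1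
    obtain ⟨p, hp, hpd⟩ := Nat.exists_prime_and_dvd (n := Nat.card M) Finite.one_lt_card.ne'
    haveI := Fact.mk hp
    refine ⟨p, hp, hab, fun x => ?_, hMt, fun ω => ?_⟩
    · let P : Subgroup G :=
        { carrier := {y | y ∈ M ∧ y ^ p = 1}
          one_mem' := ⟨M.one_mem, one_pow p⟩
          mul_mem' := fun {a b} ha hb => ⟨M.mul_mem ha.1 hb.1, by
            rw [Commute.mul_pow (hMc a ha.1 b hb.1), ha.2, hb.2, one_mul]⟩
          inv_mem' := fun {a} ha => ⟨M.inv_mem ha.1, by rw [inv_pow, ha.2, inv_one]⟩ }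
      have hPn : P.Normal := ⟨fun y hy g => ⟨hM.1.conj_mem y hy.1 g, by rw [conj_pow, hy.2]; group⟩⟩
      rcases hM.2.2 P hPn (fun y hy => hy.1) with h | h
      · obtain ⟨y, hy⟩ := exists_prime_orderOf_dvd_card' (G := M) p hpd
        have hyP : (y : G) ∈ P := ⟨y.2, by rw [← hy, ← Subgroup.orderOf_coe, pow_orderOf_eq_one]⟩
        rw [h, Subgroup.mem_bot] at hyP
        rw [← Subgroup.orderOf_coe, hyP, orderOf_one] at hy
        exact absurd hy hp.one_lt.ne
      · exact Subtype.ext ((h.symm ▸ x.2 : (x : G) ∈ P).2)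
    · rw [Subgroup.eq_bot_iff_forall]
      intro x hx
      exact Subtype.ext (hsemi M hMt x (fun y hy => hMc y hy x x.2) ω hx)
  right
  obtain ⟨T, k, hk, hTs, hTna, ⟨e⟩⟩ := MinNormal.exists_power M hM.2.1 hM.2.2 hab
  set C := Subgroup.centralizer (M : Set G) with hC
  by_cases hCb : C = ⊥
  · have hNM : N = M := by
      rw [hN]
      refine le_antisymm (sSup_le fun V hV => ?_) (le_sSup hM)
      by_cases h : V = M
      · exact h.le
      · exact absurd (le_bot_iff.mp (hCb ▸ hdisj V hV h)) hV.2.1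
    rw [hNM]
    exact transport M T k hk hTs hTna e
  -- two regular minimal normal subgroups
  haveI hCn : C.Normal := inferInstance
  have hCt := htr C hCn hCb
  obtain ⟨a⟩ : Nonempty Ω := by
    by_contra h
    haveI : IsEmpty Ω := not_nonempty_iff.mp h
    obtain ⟨g, hg⟩ := exists_ne (1 : G)
    exact hg (eq_of_smul_eq_smul (α := Ω) fun a => isEmptyElim a)
  have hCcen : ∀ c ∈ C, ∀ m ∈ M, m * c = c * m := fun c hc m hm => Subgroup.mem_centralizer_iff.mp hc m hm
  have hMsemi : ∀ m ∈ M, m • a = a → m = 1 := fun m hm h =>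
    hsemi C hCt m (fun c hc => (hCcen c hc m hm).symm) a h
  have hCsemi : ∀ c ∈ C, c • a = a → c = 1 := fun c hc h =>
    hsemi M hMt c (fun m hm => hCcen c hc m hm) a h
  have hpick : ∀ m : M, ∃ c : C, (c : G) • a = (m : G)⁻¹ • a := fun m =>
    MulAction.exists_smul_eq C a ((m : G)⁻¹ • a)
  choose f hf using hpick
  have huniq : ∀ c d : C, (c : G) • a = (d : G) • a → c = d := fun c d h => Subtype.ext (by
    have := hCsemi _ (C.mul_mem (C.inv_mem d.2) c.2) (by rw [mul_smul, h, inv_smul_smul])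
    rw [inv_mul_eq_one] at this; exact this.symm)
  let φ : M →* C := MonoidHom.mk' f fun m₁ m₂ => huniq _ _ (by
    have hc : (f m₁ : G) * (m₂ : G)⁻¹ = (m₂ : G)⁻¹ * f m₁ := (hCcen _ (f m₁).2 _ (M.inv_mem m₂.2)).symm
    calc (f (m₁ * m₂) : G) • a = ((m₂ : G)⁻¹ * (m₁ : G)⁻¹) • a := by rw [hf, Subgroup.coe_mul, mul_inv_rev]
      _ = (m₂ : G)⁻¹ • ((f m₁ : G) • a) := by rw [mul_smul, hf]
      _ = ((f m₁ : G) * (m₂ : G)⁻¹) • a := by rw [hc, mul_smul]
      _ = ((f m₁ * f m₂ : C) : G) • a := by rw [mul_smul, ← hf m₂, ← mul_smul, Subgroup.coe_mul])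
  have hφ : Function.Bijective φ := by
    constructor
    · intro m₁ m₂ h
      have h' := congrArg (fun c : C => (c : G) • a) h
      simp only [φ, MonoidHom.mk'_apply] at h'
      rw [hf, hf] at h'
      have := hMsemi _ (M.mul_mem m₂.2 (M.inv_mem m₁.2)) (by rw [mul_smul, h', smul_inv_smul])
      exact Subtype.ext (mul_inv_eq_one.mp this).symm
    · intro c
      obtain ⟨m, hm⟩ := MulAction.exists_smul_eq M a ((c : G) • a)
      refine ⟨m⁻¹, huniq _ _ ?_⟩
      show (f m⁻¹ : G) • a = _
      rw [hf, Subgroup.coe_inv, inv_inv]; exact hm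
  let eC : M ≃* C := MulEquiv.ofBijective φ hφ
  have hCmin : Min C := by
    refine ⟨hCn, hCb, fun K hK hKC => ?_⟩
    by_cases hKb : K = ⊥
    · exact Or.inl hKb
    refine Or.inr (le_antisymm hKC fun c hc => ?_)
    haveI := htr K hK hKb
    obtain ⟨x, hx⟩ := MulAction.exists_smul_eq K a (c • a)
    have : (⟨x, hKC x.2⟩ : C) = ⟨c, hc⟩ := huniq _ _ hx
    have h' : (x : G) = c := congrArg Subtype.val this
    rw [← h']; exact x.2
  have hNMC : N = M ⊔ C := by
    rw [hN]
    refine le_antisymm (sSup_le fun V hV => ?_) (sup_le (le_sSup hM) (le_sSup hCmin))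
    by_cases h : V = M
    · exact h.le.trans le_sup_left
    · exact (hdisj V hV h).trans le_sup_right
  have hMC : ∀ (m : M) (c : C), Commute (M.subtype m) (C.subtype c) := fun m c => hCcen c c.2 m m.2
  let ψ : M × C →* G := MonoidHom.noncommCoprod M.subtype C.subtype hMC
  have hψ : Function.Injective ψ := by
    rw [injective_iff_map_eq_one]
    rintro ⟨m, c⟩ h
    have h' : (m : G) * c = 1 := h
    have hcM : (c : G) ∈ M := by rw [eq_inv_of_mul_eq_one_right h']; exact M.inv_mem m.2
    -- the centre of a nonabelian minimal normal subgroup is trivial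
    have hbot : M ⊓ C = ⊥ := by
      rcases hM.2.2 (M ⊓ C) inferInstance inf_le_left with h0 | h0
      · exact h0
      · exact absurd ⟨⟨fun x y => Subtype.ext (hCcen y ((inf_eq_left.mp h0) y.2) x x.2)⟩⟩ hab
    have hc1 : (c : G) = 1 := by
      have : (c : G) ∈ M ⊓ C := ⟨hcM, c.2⟩
      rwa [hbot, Subgroup.mem_bot] at this
    rw [hc1, mul_one] at h'
    exact Prod.ext (Subtype.ext h') (Subtype.ext hc1)
  have hψr : ψ.range = N := by
    rw [hNMC]
    show (MonoidHom.noncommCoprod M.subtype C.subtype _).range = M ⊔ C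
    rw [MonoidHom.noncommCoprod_range, Subgroup.range_subtype, Subgroup.range_subtype]
  let e2 : (Fin (k + k) → T) ≃* (Fin k → T) × (Fin k → T) :=
    { (Equiv.arrowCongr finSumFinEquiv.symm (Equiv.refl T)).trans (Equiv.sumArrowEquivProdArrow _ _ _) with
      map_mul' := fun x y => rfl }
  exact transport N T (k + k) (by omega) hTs hTna
    (((e2.trans (e.prodCongr (e.trans eC))).trans (MonoidHom.ofInjective hψ)).trans (MulEquiv.subgroupCongr hψr))

end Cfsg.Agent.S3680
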