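import Cfsg.Statements.S3681
import Mathlib

set_option autoImplicit false
open Cfsg

namespace Cfsg.Agent.S3681

theorem commutator_isThreeCycle {Ω : Type*} [Fintype Ω] [DecidableEq Ω] (σ τ : Equiv.Perm Ω) (c : Ω)
    (hσ : σ c ≠ c) (hτ : τ c ≠ c) (h : ∀ x, σ x ≠ x → τ x ≠ x → x = c) :
    Equiv.Perm.IsThreeCycle (σ * τ * σ⁻¹ * τ⁻¹) := by
  have hsc : σ c ≠ c := hσ
  set a := σ c with ha
  set b := τ c with hb
  have hσa : σ a ≠ a := fun h' => hσ (σ.injective (by rw [h']))
  have hτb : τ b ≠ b := fun h' => hτ (τ.injective (by rw [h']))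
  have hτa : τ a = a := by by_contra h'; exact hσ (h a hσa h')
  have hσb : σ b = b := by by_contra h'; exact hτ (h b h' hτb)
  have hab : a ≠ b := fun h' => hσa (h' ▸ hσb)
  set p := σ * τ * σ⁻¹ * τ⁻¹ with hp
  have eσ : σ.symm a = c := by rw [ha, Equiv.symm_apply_apply]
  have eτ : τ.symm b = c := by rw [hb, Equiv.symm_apply_apply]
  have eτa : τ.symm a = a := by rw [Equiv.symm_apply_eq, hτa]
  have eσb : σ.symm b = b := by rw [Equiv.symm_apply_eq, hσb]
  have hσc' : σ.symm c ≠ c := fun h' => hσ (by rw [ha]; conv_lhs => rw [← h']; simp)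
  have hτc' : τ.symm c ≠ c := fun h' => hτ (by rw [hb]; conv_lhs => rw [← h']; simp)
  have hp1 : p a = b := by
    simp only [hp, Equiv.Perm.mul_apply, Equiv.Perm.inv_def, eτa, eσ, ← hb, hσb]
  have hp3 : p b ≠ b := by
    intro h'
    exact hab (p.injective (hp1.trans h'.symm))
  have hp2 : p c = a := by
    simp only [hp, Equiv.Perm.mul_apply, Equiv.Perm.inv_def]
    have e1 : σ.symm (τ.symm c) = τ.symm c := by
      rw [Equiv.symm_apply_eq]
      by_contra h'
      refine hτc' (h _ (Ne.symm h') ?_)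
      rw [Equiv.apply_symm_apply]; exact hτc'.symm
    rw [e1, Equiv.apply_symm_apply, ← ha]
  have hfix : ∀ x, x ≠ a → x ≠ b → x ≠ c → p x = x := by
    intro x hxa hxb hxc
    simp only [hp, Equiv.Perm.mul_apply, Equiv.Perm.inv_def]
    by_cases hτx : τ x = x
    · have e0 : τ.symm x = x := by rw [Equiv.symm_apply_eq, hτx]
      rw [e0]
      by_cases hσx : σ x = x
      · have e1 : σ.symm x = x := by rw [Equiv.symm_apply_eq, hσx]
        rw [e1, hτx, hσx]
      · have hy : σ.symm x ≠ c := fun h' => hxa (by rw [ha, ← h', Equiv.apply_symm_apply])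
        have hmove : σ (σ.symm x) ≠ σ.symm x := by
          rw [Equiv.apply_symm_apply]
          intro h'
          exact hσx (by conv_lhs => rw [h']; simp)
        have e2 : τ (σ.symm x) = σ.symm x := by
          by_contra h'
          exact hy (h _ hmove h')
        rw [e2, Equiv.apply_symm_apply]
    · have hy : τ.symm x ≠ c := fun h' => hxb (by rw [hb, ← h', Equiv.apply_symm_apply])
      have hmove : τ (τ.symm x) ≠ τ.symm x := by
        rw [Equiv.apply_symm_apply]
        intro h'
        exact hτx (by conv_lhs => rw [h']; simp)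
      have e2 : σ.symm (τ.symm x) = τ.symm x := by
        rw [Equiv.symm_apply_eq]
        by_contra h'
        exact hy (h _ (Ne.symm h') hmove)
      have hσx : σ x = x := by
        by_contra h'
        exact hxc (h x h' hτx)
      rw [e2, Equiv.apply_symm_apply, hσx]
  rw [← card_support_eq_three_iff]
  have : p.support = {a, b, c} := by
    ext x
    simp only [Equiv.Perm.mem_support, Finset.mem_insert, Finset.mem_singleton]
    constructor
    · intro hx
      by_contra h'
      push Not at h'
      exact hx (hfix x h'.1 h'.2.1 h'.2.2)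
    · rintro (rfl | rfl | rfl)
      · rw [hp1]; exact hab.symm
      · exact hp3
      · rw [hp2]; exact hσ
  rw [this, Finset.card_insert_of_notMem (by simp [hab, hσ]), Finset.card_pair hτ]


/-- Bochert's bound for primitive groups. Let a finite group G act faithfully and primitively on a finite set Ω with n elements, and suppose the image of G in the symmetric group of Ω does not contain the alternating group of Ω. Then |G| · ⌊(n + 1)/2⌋! ≤ n!, that is, the index of G in the symmetric group is at least ⌊(n + 1)/2⌋!. -/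
theorem result {G Ω : Type*} [Group G] [Finite G] [MulAction G Ω] [FaithfulSMul G Ω] [Fintype Ω] [DecidableEq Ω]
    (hprim : MulAction.IsPreprimitive G Ω) (hA : ¬ alternatingGroup Ω ≤ (MulAction.toPermHom G Ω).range) :
    Nat.card G * Nat.factorial ((Fintype.card Ω + 1) / 2) ≤ Nat.factorial (Fintype.card Ω) := by
  classical
  haveI := hprim
  set n := Fintype.card Ω with hn
  let Base : Finset Ω → Prop := fun Δ => ∀ g : G, (∀ x ∈ Δ, g • x = x) → g = 1
  have huniv : ∃ Δ, Base Δ := ⟨Finset.univ, fun g hg => FaithfulSMul.eq_of_smul_eq_smul (α := Ω) fun x => by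
    rw [one_smul]; exact hg x (Finset.mem_univ x)⟩
  let s := (Finset.univ : Finset (Finset Ω)).filter Base
  obtain ⟨Δ, hΔ, hmin⟩ := Finset.exists_min_image s Finset.card
    (by obtain ⟨Δ, h⟩ := huniv; exact ⟨Δ, Finset.mem_filter.mpr ⟨Finset.mem_univ _, h⟩⟩)
  have hBase : Base Δ := (Finset.mem_filter.mp hΔ).2
  have hmin' : ∀ D : Finset Ω, D.card < Δ.card → ∃ g : G, (∀ x ∈ D, g • x = x) ∧ g ≠ 1 := fun D hD => by
    by_contra h
    push Not at h
    exact absurd (hmin D (Finset.mem_filter.mpr ⟨Finset.mem_univ _, h⟩)) (not_le.mpr hD)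
  have hle : 2 * Δ.card ≤ n := by
    by_contra hlt
    have hc : Δᶜ.card < Δ.card := by rw [Finset.card_compl]; omega
    obtain ⟨g, hg, hg1⟩ := hmin' _ hc
    obtain ⟨c, hc'⟩ : ∃ c, g • c ≠ c := by
      by_contra h; push Not at h
      exact hg1 (FaithfulSMul.eq_of_smul_eq_smul (α := Ω) fun x => by rw [one_smul]; exact h x)
    have hcΔ : c ∈ Δ := by by_contra h; exact hc' (hg c (Finset.mem_compl.mpr h))
    obtain ⟨t, ht, ht1⟩ := hmin' (Δ.erase c) (Finset.card_erase_lt_of_mem hcΔ)
    have htc : t • c ≠ c := fun h => ht1 (hBase t fun x hx => by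
      by_cases hxc : x = c
      · rw [hxc, h]
      · exact ht x (Finset.mem_erase.mpr ⟨hxc, hx⟩))
    set φ := MulAction.toPermHom G Ω
    have h3 := commutator_isThreeCycle (φ g) (φ t) c hc' htc (fun x hx hx' => by
      by_contra hxc
      by_cases hxΔ : x ∈ Δ
      · exact hx' (ht x (Finset.mem_erase.mpr ⟨hxc, hxΔ⟩))
      · exact hx (hg x (Finset.mem_compl.mpr hxΔ)))
    refine hA (Equiv.Perm.alternatingGroup_le_of_isPreprimitive_of_isThreeCycle_mem ?_ h3
      (mul_mem (mul_mem (mul_mem ⟨g, rfl⟩ ⟨t, rfl⟩) (inv_mem ⟨g, rfl⟩)) (inv_mem ⟨t, rfl⟩)))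
    let f : Ω →ₑ[φ.rangeRestrict] Ω := ⟨id, fun a b => rfl⟩
    exact MulAction.IsPreprimitive.of_surjective (f := f) Function.surjective_id
  -- G embeds into injections of the base
  let e : G → (Δ ↪ Ω) := fun g => ⟨fun x => g • (x : Ω), fun x y h => Subtype.ext (MulAction.injective g h)⟩
  have he : Function.Injective e := by
    intro g h hgh
    refine inv_mul_eq_one.mp (hBase (g⁻¹ * h) fun x hx => ?_)
    have : g • x = h • x := congrArg (fun f : Δ ↪ Ω => f ⟨x, hx⟩) hgh
    rw [mul_smul, ← this, inv_smul_smul]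
  have h1 : Nat.card G ≤ n.descFactorial Δ.card := by
    refine (Nat.card_le_card_of_injective e he).trans ?_
    rw [Nat.card_eq_fintype_card, Fintype.card_embedding_eq, Fintype.card_coe]
  have h2 : Nat.factorial ((n + 1) / 2) ≤ Nat.factorial (n - Δ.card) := Nat.factorial_le (by omega)
  calc Nat.card G * Nat.factorial ((n + 1) / 2) ≤ n.descFactorial Δ.card * Nat.factorial (n - Δ.card) :=
        Nat.mul_le_mul h1 h2
    _ = Nat.factorial n := by rw [mul_comm]; exact Nat.factorial_mul_descFactorial (Δ.card_le_univ)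

end Cfsg.Agent.S3681
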