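import Cfsg.Statements.S3682
import Cfsg.Agent.Lib.Perm.ThompsonWielandtAction
-- import your own Cfsg.Agent.* helpers here

set_option autoImplicit false
open Cfsg

namespace Cfsg.Agent.S3682

/-- Wielandt's bound toward the Sims conjecture. Let a finite group G act faithfully and primitively on a set Ω, let a and b be points, and suppose the orbit of b under the stabilizer of a has length d ≥ 2. Then there are a prime p and a normal p-subgroup P of the stabilizer of a, all of whose elements fix b, such that the index of P in the stabilizer of a divides d! · ((d - 1)!)^d. -/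
theorem result {G Ω : Type*} [Group G] [Finite G] [MulAction G Ω] [FaithfulSMul G Ω] [Finite Ω]
    (hprim : MulAction.IsPreprimitive G Ω) (a b : Ω) (d : ℕ) (hd : Nat.card (MulAction.orbit (MulAction.stabilizer G a) b) = d) (h2 : 2 ≤ d) :
    ∃ p : ℕ, p.Prime ∧ ∃ P : Subgroup (MulAction.stabilizer G a), P.Normal ∧ IsPGroup p P ∧ (∀ g : P, ((g : MulAction.stabilizer G a) : G) • b = b) ∧
      P.index ∣ Nat.factorial d * (Nat.factorial (d - 1)) ^ d := by
  obtain ⟨-, -, -, -, hc⟩ := TW.point_data hprim a b d hd h2
  rcases TW.bound_or_pair hprim a b d hd h2 with hdiv | hp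
  · exact ⟨2, Nat.prime_two, ⊥, inferInstance, IsPGroup.of_bot, fun g => by
      have hg : (g : MulAction.stabilizer G a) = 1 := Subgroup.mem_bot.mp g.2
      simp [hg], by rwa [Subgroup.index_bot]⟩
  · obtain ⟨p, hp', hpA, -, -, -⟩ := TW.thompson_wielandt hp
    refine ⟨p, hp', (TW.secondCore (MulAction.stabilizer G a) (MulAction.stabilizer G b)).subgroupOf _,
      Subgroup.normal_subgroupOf_of_le_normalizer hp.A_norm, hpA.comap_of_injective _ (Subgroup.subtype_injective _),
      fun g => MulAction.mem_stabilizer_iff.mp (hp.A_leN (Subgroup.mem_subgroupOf.mp g.2)), ?_⟩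
    have := TW.index_secondCore_dvd hc a b
    rwa [hd] at this

end Cfsg.Agent.S3682
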