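import Cfsg.Statements.S3683
import Mathlib

set_option autoImplicit false
open Cfsg

namespace Cfsg.Agent.S3683

/-- Let a finite group G act faithfully and primitively on a set Ω, and suppose the stabilizer of a point a fixes a second point b ≠ a (a suborbit of length 1 other than {a}). Then the stabilizer of a is trivial and G is cyclic of prime order. -/
theorem result {G Ω : Type*} [Group G] [Finite G] [MulAction G Ω] [FaithfulSMul G Ω] [Finite Ω]
    (hprim : MulAction.IsPreprimitive G Ω) (a b : Ω) (hab : a ≠ b) (hfix : ∀ g : G, g • a = a → g • b = b) :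
    MulAction.stabilizer G a = ⊥ ∧ IsCyclic G ∧ (Nat.card G).Prime := by
  haveI := hprim
  haveI : Nontrivial Ω := ⟨⟨a, b, hab⟩⟩
  have hA := MulAction.IsPreprimitive.isCoatom_stabilizer_of_isPreprimitive G a
  have hB := MulAction.IsPreprimitive.isCoatom_stabilizer_of_isPreprimitive G b
  have heq : MulAction.stabilizer G a = MulAction.stabilizer G b :=
    ((hA.le_iff).mp (fun g hg => hfix g hg)).resolve_left hB.1 |>.symm
  obtain ⟨g, hg⟩ := MulAction.exists_smul_eq G a b
  have hgn : g ∈ Subgroup.normalizer (MulAction.stabilizer G a : Set G) := by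
    rw [Subgroup.mem_normalizer_iff]
    intro x
    nth_rewrite 2 [heq]
    simp only [SetLike.mem_coe, MulAction.mem_stabilizer_iff, mul_smul]
    rw [← hg, inv_smul_smul, smul_left_cancel_iff]
  have hN : Subgroup.normalizer (MulAction.stabilizer G a : Set G) = ⊤ := by
    rcases hA.le_iff.mp Subgroup.le_normalizer with h | h
    · exact h
    · rw [h] at hgn
      exact absurd (MulAction.mem_stabilizer_iff.mp hgn) (by rw [hg]; exact hab.symm)
  haveI : (MulAction.stabilizer G a).Normal := Subgroup.normalizer_eq_top_iff.mp hN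
  have hbot : MulAction.stabilizer G a = ⊥ := by
    rw [eq_bot_iff]
    intro x hx
    rw [Subgroup.mem_bot]
    refine FaithfulSMul.eq_of_smul_eq_smul (α := Ω) fun w => ?_
    obtain ⟨h, rfl⟩ := MulAction.exists_smul_eq G a w
    have := Subgroup.Normal.conj_mem inferInstance x hx h⁻¹
    rw [MulAction.mem_stabilizer_iff, inv_inv, mul_smul, mul_smul, inv_smul_eq_iff] at this
    rw [one_smul, this]
  refine ⟨hbot, ?_⟩
  rw [hbot] at hA
  have hne : Nontrivial G := ⟨⟨g, 1, fun h => hab (by rw [← hg, h, one_smul])⟩⟩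
  haveI : IsSimpleGroup G := ⟨fun H _ => by
    rcases hA.le_iff.mp (bot_le : ⊥ ≤ H) with h | h
    · exact Or.inr h
    · exact Or.inl h⟩
  obtain ⟨p, hp, hpd⟩ := Nat.exists_prime_and_dvd (n := Nat.card G) Finite.one_lt_card.ne'
  haveI := Fact.mk hp
  obtain ⟨x, hx⟩ := exists_prime_orderOf_dvd_card' p hpd
  have hz : Subgroup.zpowers x = ⊤ := by
    rcases hA.le_iff.mp (bot_le : ⊥ ≤ Subgroup.zpowers x) with h | h
    · exact h
    · rw [Subgroup.zpowers_eq_bot] at h
      rw [h, orderOf_one] at hx
      exact absurd hx.symm hp.one_lt.ne'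
  have hc : Nat.card G = p := by
    rw [← Subgroup.card_top, ← hz, Nat.card_zpowers, hx]
  exact ⟨isCyclic_of_prime_card hc, hc ▸ hp⟩

end Cfsg.Agent.S3683
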