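import Cfsg.Statements.S3684
import Mathlib
import Cfsg.Agent.Lib.Recog.DihedralHom

set_option autoImplicit false
open Cfsg

namespace Cfsg.Agent.S3684

theorem exists_dihedral {G : Type*} [Group G] [Finite G] (s t : G) (hs : orderOf s = 2) (ht : orderOf t = 2)
    (hne : t ≠ s) (hmax : IsCoatom (Subgroup.zpowers s)) :
    ∃ p : ℕ, p.Prime ∧ Nonempty (G ≃* DihedralGroup p) := by
  have hss : s * s = 1 := by rw [← pow_two, ← hs, pow_orderOf_eq_one]
  have htt : t * t = 1 := by rw [← pow_two, ← ht, pow_orderOf_eq_one]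
  have hsinv : s⁻¹ = s := inv_eq_of_mul_eq_one_right hss
  have htinv : t⁻¹ = t := inv_eq_of_mul_eq_one_right htt
  have hy1 : s * t ≠ 1 := fun h => hne (by rw [← hsinv, inv_eq_of_mul_eq_one_right h])
  obtain ⟨q, hq, hqd⟩ := Nat.exists_prime_and_dvd (n := orderOf (s * t)) (by rwa [Ne, orderOf_eq_one_iff])
  obtain ⟨e, he⟩ := hqd
  set x := (s * t) ^ e with hxdef
  have hxo : orderOf x = q := by
    have he0 : e ≠ 0 := by rintro rfl; rw [mul_zero] at he; exact (orderOf_pos (s * t)).ne' he
    rw [hxdef, orderOf_pow, he, Nat.gcd_eq_right (dvd_mul_left e q), Nat.mul_div_cancel _ (Nat.pos_of_ne_zero he0)]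
  have hinv : s * x * s⁻¹ = x⁻¹ := by
    rw [hxdef, ← conj_pow, ← inv_pow]
    congr 1
    rw [mul_inv_rev, htinv, hsinv, ← mul_assoc, hss, one_mul]
  let φ := Cfsg.Agent.Recog.dihedralHom (n := q) x s (hxo ▸ pow_orderOf_eq_one x) hss hinv
  refine ⟨q, hq, ?_⟩
  have hxnot : x ∉ Subgroup.zpowers s := by
    intro hx
    have hxs : x = s := by
      have h2 := orderOf_dvd_of_mem_zpowers hx
      rw [hs, hxo] at h2
      have hq2 := (Nat.prime_dvd_prime_iff_eq hq Nat.prime_two).mp h2
      obtain ⟨k, hk⟩ := Subgroup.mem_zpowers_iff.mp hx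
      rcases Int.even_or_odd k with ⟨i, rfl⟩ | ⟨i, rfl⟩
      · rw [← two_mul, zpow_mul, zpow_two, hss, one_zpow] at hk
        rw [← hk, orderOf_one] at hxo; exact absurd hxo.symm hq.one_lt.ne'
      · rw [← hk, zpow_add_one, zpow_mul, zpow_two, hss, one_zpow, one_mul]
    -- then s is a power of s * t, so it commutes with t
    have hcomm : Commute s t := by
      have h1 : Commute s (s * t) := by
        have h0 : Commute x (s * t) := hxdef ▸ (Commute.refl (s * t)).pow_left e
        rwa [hxs] at h0
      exact mul_left_cancel (h1.eq.trans (mul_assoc s t s))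
    have hle : Subgroup.zpowers s ≤ Subgroup.centralizer ({s} : Set G) := by
      rw [Subgroup.zpowers_le, Subgroup.mem_centralizer_singleton_iff]
    rcases hmax.le_iff.mp hle with h | h
    · -- s is central
      haveI : (Subgroup.zpowers s).Normal := ⟨fun n hn g => by
        obtain ⟨k, rfl⟩ := Subgroup.mem_zpowers_iff.mp hn
        have hg : g ∈ Subgroup.centralizer ({s} : Set G) := h ▸ Subgroup.mem_top g
        have hc : Commute g s := Subgroup.mem_centralizer_singleton_iff.mp hg
        rw [(hc.zpow_right k).eq, mul_inv_cancel_right]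
        exact Subgroup.zpow_mem_zpowers s k⟩
      have hle2 : Subgroup.zpowers s ≤ Subgroup.zpowers (s * t) := by
        rw [Subgroup.zpowers_le]
        have h0 : x ∈ Subgroup.zpowers (s * t) := hxdef ▸ Subgroup.npow_mem_zpowers _ e
        rwa [hxs] at h0
      rcases hmax.le_iff.mp hle2 with h' | h'
      · -- G is cyclic, so t is a power of s t and there is only one involution
        have hcyc : IsCyclic G := ⟨⟨s * t, fun g => (show g ∈ Subgroup.zpowers (s * t) by rw [h']; exact Subgroup.mem_top g)⟩⟩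
        classical
        let _ := Fintype.ofFinite G
        have hc := IsCyclic.card_pow_eq_one_le (α := G) (n := 2) (by norm_num)
        have hsub : ({1, s, t} : Finset G) ⊆ Finset.univ.filter fun a : G => a ^ 2 = 1 := by
          intro a ha
          simp only [Finset.mem_insert, Finset.mem_singleton] at ha
          rcases ha with rfl | rfl | rfl <;> simp [pow_two, hss, htt]
        have := (Finset.card_le_card hsub).trans hc
        have hs1 : s ≠ 1 := fun h => by rw [h, orderOf_one] at hs; omega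
        have ht1 : t ≠ 1 := fun h => by rw [h, orderOf_one] at ht; omega
        rw [Finset.card_insert_of_notMem (by simp [hs1.symm, ht1.symm]), Finset.card_pair hne.symm] at this
        omega
      · have hst : s * t ∈ Subgroup.zpowers s := h' ▸ Subgroup.mem_zpowers _
        have htm : t ∈ Subgroup.zpowers s := by
          have := (Subgroup.zpowers s).mul_mem (Subgroup.mem_zpowers s) hst
          rwa [← mul_assoc, hss, one_mul] at this
        obtain ⟨k, hk⟩ := Subgroup.mem_zpowers_iff.mp htm
        rcases Int.even_or_odd k with ⟨i, rfl⟩ | ⟨i, rfl⟩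
        · rw [← two_mul, zpow_mul, zpow_two, hss, one_zpow] at hk
          rw [← hk, orderOf_one] at ht; omega
        · rw [zpow_add_one, zpow_mul, zpow_two, hss, one_zpow, one_mul] at hk
          exact hne hk.symm
    · have htm : t ∈ Subgroup.centralizer ({s} : Set G) := Subgroup.mem_centralizer_singleton_iff.mpr hcomm.eq.symm
      rw [h] at htm
      obtain ⟨k, hk⟩ := Subgroup.mem_zpowers_iff.mp htm
      rcases Int.even_or_odd k with ⟨i, rfl⟩ | ⟨i, rfl⟩
      · rw [← two_mul, zpow_mul, zpow_two, hss, one_zpow] at hk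
        rw [← hk, orderOf_one] at ht; omega
      · rw [zpow_add_one, zpow_mul, zpow_two, hss, one_zpow, one_mul] at hk
        exact hne hk.symm
  have hsurj : Function.Surjective φ := by
    rw [← MonoidHom.range_eq_top]
    rcases hmax.le_iff.mp (show Subgroup.zpowers s ≤ φ.range by
      rw [Subgroup.zpowers_le]; exact ⟨.sr 0, Cfsg.Agent.Recog.dihedralHom_sr x s _ _ _⟩) with h | h
    · exact h
    · exact absurd (h ▸ ⟨.r 1, Cfsg.Agent.Recog.dihedralHom_r x s _ _ _⟩ : x ∈ Subgroup.zpowers s) hxnot
  haveI : NeZero q := ⟨hq.ne_zero⟩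
  have hcard : Nat.card G = 2 * q := by
    have hle : Nat.card G ≤ 2 * q := DihedralGroup.nat_card (n := q) ▸ Nat.card_le_card_of_surjective φ hsurj
    have h2 : 2 ∣ Nat.card G := hs ▸ orderOf_dvd_natCard s
    have h3 : q ∣ Nat.card G := hxo ▸ orderOf_dvd_natCard x
    by_cases hq2 : q = 2
    · subst hq2
      have : 2 < Nat.card G := by
        by_contra hlt
        have hz : Subgroup.zpowers s = ⊤ := Subgroup.eq_top_of_le_card _ (by rw [Nat.card_zpowers, hs]; omega)
        exact hmax.1 hz
      omega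
    · exact le_antisymm hle (Nat.le_of_dvd Nat.card_pos
        (((Nat.coprime_primes Nat.prime_two hq).mpr (Ne.symm hq2)).mul_dvd_of_dvd_of_dvd h2 h3))
  exact ⟨(MulEquiv.ofBijective φ ((Nat.bijective_iff_surjective_and_card φ).mpr
    ⟨hsurj, by rw [DihedralGroup.nat_card, hcard]⟩)).symm⟩


/-- Let a finite group G act faithfully and primitively on a set Ω, and suppose the stabilizer of a point a has an orbit of length 2. Then the stabilizer of a has order 2 and G is isomorphic to the dihedral group of order 2p for some prime p. -/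
theorem result {G Ω : Type*} [Group G] [Finite G] [MulAction G Ω] [FaithfulSMul G Ω] [Finite Ω]
    (hprim : MulAction.IsPreprimitive G Ω) (a b : Ω) (h2 : Nat.card (MulAction.orbit (MulAction.stabilizer G a) b) = 2) :
    Nat.card (MulAction.stabilizer G a) = 2 ∧ ∃ p : ℕ, p.Prime ∧ Nonempty (G ≃* DihedralGroup p) := by
  classical
  haveI := hprim
  have hab : a ≠ b := by
    rintro rfl
    have : MulAction.orbit (MulAction.stabilizer G a) a = {a} := by
      ext w
      simp only [MulAction.mem_orbit_iff, Set.mem_singleton_iff]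
      exact ⟨fun ⟨g, hg⟩ => hg ▸ g.2, fun h => ⟨1, by simp [h]⟩⟩
    rw [this] at h2
    simp at h2
  haveI : Nontrivial Ω := ⟨⟨a, b, hab⟩⟩
  have hA := MulAction.IsPreprimitive.isCoatom_stabilizer_of_isPreprimitive G a
  set A := MulAction.stabilizer G a with hAdef
  set B := MulAction.stabilizer G b with hBdef
  obtain ⟨g, hg⟩ := MulAction.exists_smul_eq G a b
  have hcard : Nat.card A = Nat.card B := by
    rw [hAdef, hBdef, ← hg, MulAction.stabilizer_smul_eq_stabilizer_map_conj]
    exact Nat.card_congr (Subgroup.equivMapOfInjective _ _ (MulAut.conj g).injective).toEquiv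
  have hiA : (A ⊓ B).relIndex A = 2 := by
    rw [Subgroup.inf_relIndex_left, ← h2, Nat.card_coe_set_eq, ← MulAction.index_stabilizer]
    rfl
  have hcA : Nat.card (A ⊓ B : Subgroup G) * 2 = Nat.card A := by
    rw [← hiA, ← Subgroup.relIndex_bot_left (A ⊓ B), Subgroup.relIndex_mul_relIndex _ _ _ bot_le inf_le_left,
      Subgroup.relIndex_bot_left]
  have hiB : (A ⊓ B).relIndex B = 2 := by
    have h1 := Subgroup.relIndex_mul_relIndex ⊥ (A ⊓ B) B bot_le inf_le_right
    rw [Subgroup.relIndex_bot_left, Subgroup.relIndex_bot_left, ← hcard, ← hcA] at h1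
    exact Nat.eq_of_mul_eq_mul_left Nat.card_pos h1
  have hnA : A ≤ Subgroup.normalizer ((A ⊓ B : Subgroup G) : Set G) :=
    (Subgroup.normal_subgroupOf_iff_le_normalizer inf_le_left).mp (Subgroup.normal_of_index_eq_two hiA)
  have hnB : B ≤ Subgroup.normalizer ((A ⊓ B : Subgroup G) : Set G) :=
    (Subgroup.normal_subgroupOf_iff_le_normalizer inf_le_right).mp (Subgroup.normal_of_index_eq_two hiB)
  have htop : Subgroup.normalizer ((A ⊓ B : Subgroup G) : Set G) = ⊤ := by
    rcases hA.le_iff.mp hnA with h | h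
    · exact h
    · exfalso
      have hBA : B ≤ A := h ▸ hnB
      rw [← Subgroup.eq_of_le_of_card_ge hBA hcard.le, inf_idem, Subgroup.relIndex_self] at hiB
      omega
  haveI := Subgroup.normalizer_eq_top_iff.mp htop
  have hbot : A ⊓ B = ⊥ := by
    rw [eq_bot_iff]
    intro x hx
    rw [Subgroup.mem_bot]
    refine FaithfulSMul.eq_of_smul_eq_smul (α := Ω) fun w => ?_
    obtain ⟨h, rfl⟩ := MulAction.exists_smul_eq G a w
    have := (Subgroup.Normal.conj_mem inferInstance x hx h⁻¹ : h⁻¹ * x * h⁻¹⁻¹ ∈ A ⊓ B).1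
    replace this : (h⁻¹ * x * h⁻¹⁻¹) • a = a := this
    rw [inv_inv, mul_smul, mul_smul, inv_smul_eq_iff] at this
    rw [one_smul, this]
  have hA2 : Nat.card A = 2 := by
    rw [← hcA, hbot, Subgroup.card_bot]
  refine ⟨hA2, ?_⟩
  haveI : Fact (Nat.Prime 2) := ⟨Nat.prime_two⟩
  obtain ⟨s, hs⟩ := exists_prime_orderOf_dvd_card' (G := A) 2 (by rw [hA2])
  obtain ⟨t, ht⟩ := exists_prime_orderOf_dvd_card' (G := B) 2 (by rw [← hcard, hA2])
  have hzs : Subgroup.zpowers (s : G) = A := Subgroup.eq_of_le_of_card_ge (Subgroup.zpowers_le.mpr s.2)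
    (by rw [hA2, Nat.card_zpowers, Subgroup.orderOf_coe, hs])
  refine exists_dihedral (s : G) (t : G) (by rw [Subgroup.orderOf_coe, hs]) (by rw [Subgroup.orderOf_coe, ht])
    (fun h => ?_) (by rw [hzs]; exact hA)
  have : (t : G) ∈ A ⊓ B := ⟨by rw [h]; exact s.2, t.2⟩
  rw [hbot, Subgroup.mem_bot] at this
  rw [← Subgroup.orderOf_coe, this, orderOf_one] at ht
  omega

end Cfsg.Agent.S3684
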