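import Cfsg.Statements.S3686
import Cfsg.Agent.Lib.Transfer.SubThree.SmallCases
import Cfsg.Agent.Lib.Transfer.SubThree.Twelve
import Cfsg.Agent.Lib.Transfer.SubThree.Four
import Cfsg.Agent.Lib.Transfer.SubThree.FortyEight
import Cfsg.Agent.Lib.Invol.SuborbitThree
import Cfsg.Agent.S0144

set_option autoImplicit false
open Cfsg

namespace Cfsg.Agent.S3686

open Cfsg.Agent.Transfer.SubThree

/-- A Sylow 2-subgroup of the stabiliser and an element normalising it that moves the point. -/
theorem exists_mover {G Ω : Type*} [Group G] [Finite G] [MulAction G Ω] {a b : Ω}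
    (htrans : ∃ x : G, x • a = b) (hab : a ≠ b)
    (h3 : Nat.card (MulAction.orbit (MulAction.stabilizer G a) b) = 3) {k : ℕ}
    (hA : Nat.card (MulAction.stabilizer G a) = 2 ^ k * 3) :
    ∃ T : Subgroup G, T ≤ MulAction.stabilizer G a ∧ Nat.card T = 2 ^ k ∧
      ∃ g : G, g ∉ MulAction.stabilizer G a ∧ g ∈ Subgroup.normalizer (T : Set G) := by
  classical
  haveI : Fact (Nat.Prime 2) := ⟨Nat.prime_two⟩
  obtain ⟨x, hx⟩ := htrans
  set A := MulAction.stabilizer G a with hAdef
  set B := MulAction.stabilizer G b with hBdef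
  set T := A ⊓ B with hTdef
  have hT : Nat.card T = 2 ^ k := by
    have hst : MulAction.stabilizer ↥A b = T.subgroupOf A := by
      ext y
      simp [hTdef, Subgroup.mem_subgroupOf, Subgroup.smul_def, hBdef, hAdef, y.2]
    have h1 := (T.subgroupOf A).card_mul_index
    rw [Nat.card_congr (Subgroup.subgroupOfEquivOfLe inf_le_left).toEquiv, ← hst, MulAction.index_stabilizer,
      ← Nat.card_coe_set_eq, h3, hA] at h1
    exact Nat.eq_of_mul_eq_mul_right (by norm_num : 0 < 3) h1
  have hBeq : A.map (MulAut.conj x).toMonoidHom = B := by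
    rw [hBdef, ← hx, MulAction.stabilizer_smul_eq_stabilizer_map_conj]
  have hB : Nat.card B = 2 ^ k * 3 := by
    rw [← hBeq, Subgroup.card_map_of_injective (MulAut.conj x).injective, hA]
  have hTp : IsPGroup 2 T := IsPGroup.of_card hT
  have hTB : IsPGroup 2 (T.subgroupOf B) := hTp.comap_subtype (K := B)
  have hidx : ¬ 2 ∣ (T.subgroupOf B).index := by
    have h1 := (T.subgroupOf B).card_mul_index
    rw [Nat.card_congr (Subgroup.subgroupOfEquivOfLe inf_le_right).toEquiv, hT, hB] at h1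
    rw [Nat.eq_of_mul_eq_mul_left (Nat.two_pow_pos k) h1]
    norm_num
  set T' := T.map (MulAut.conj x).toMonoidHom with hT'
  have hT'B : T' ≤ B := hBeq ▸ Subgroup.map_mono inf_le_left
  obtain ⟨c, hc⟩ := Invol.exists_conj_subset_sylow ((hTp.map _).comap_subtype (K := B) : IsPGroup 2 (T'.subgroupOf B))
    (hTB.toSylow hidx)
  refine ⟨T, inf_le_left, hT, (c : G) * x, fun h => hab ?_, ?_⟩
  · have h1 : ((c : G) * x) • a = a := h
    rw [mul_smul, hx, show (c : G) • b = b from c.2] at h1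
    exact h1.symm
  · have hle : T.map (MulAut.conj ((c : G) * x)).toMonoidHom ≤ T := by
      rintro _ ⟨t, ht, rfl⟩
      have hmem : x * t * x⁻¹ ∈ T' := ⟨t, ht, rfl⟩
      have h2 : (c : G) * (x * t * x⁻¹) * (c : G)⁻¹ ∈ T := hc ⟨_, hT'B hmem⟩ hmem
      show (c : G) * x * t * ((c : G) * x)⁻¹ ∈ T
      rwa [show (c : G) * x * t * ((c : G) * x)⁻¹ = (c : G) * (x * t * x⁻¹) * (c : G)⁻¹ by group]
    have heq : T.map (MulAut.conj ((c : G) * x)).toMonoidHom = T := Subgroup.eq_of_le_of_card_ge hle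
      (by rw [Subgroup.card_map_of_injective (MulAut.conj ((c : G) * x)).injective])
    rw [Subgroup.mem_normalizer_iff]
    intro t
    refine ⟨fun ht => hle ⟨t, ht, rfl⟩, fun ht => ?_⟩
    rw [← heq] at ht
    obtain ⟨s, hs, e⟩ := ht
    rwa [← (MulAut.conj ((c : G) * x)).injective e]

theorem perm_three_facts : ∃ c : Equiv.Perm (Fin 3), c * c * c = 1 ∧ c ≠ 1 ∧
    (∀ g, g * c * g⁻¹ = c ∨ g * c * g⁻¹ = c * c) ∧ ∀ g, g * c = c * g → g = 1 ∨ g = c ∨ g = c * c := by
  decide +kernel

/-- Let G be a finite insoluble group acting faithfully and primitively on a set Ω so that the stabilizer of a point a has an orbit of length 3. Then G is isomorphic to one of: the alternating or the symmetric group of degree 5, PGL(2, 7), PSL(2, 11), PSL(2, 13), PSL(2, p) for a prime p ≡ ±1 (mod 16), PSL(3, 3), or a group containing a normal subgroup of index 2 isomorphic to PSL(3, 3) with trivial centralizer. -/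
theorem result {G Ω : Type*} [Group G] [Finite G] [MulAction G Ω] [FaithfulSMul G Ω] [Finite Ω]
    (hsol : ¬ Group.IsSolvable G) (hprim : MulAction.IsPreprimitive G Ω) (a b : Ω) (h3 : Nat.card (MulAction.orbit (MulAction.stabilizer G a) b) = 3) :
    Nonempty (G ≃* alternatingGroup (Fin 5)) ∨ Nonempty (G ≃* Equiv.Perm (Fin 5)) ∨
      Nonempty (G ≃* GL (Fin 2) (ZMod 7) ⧸ Subgroup.center (GL (Fin 2) (ZMod 7))) ∨
      Nonempty (G ≃* Matrix.ProjectiveSpecialLinearGroup (Fin 2) (ZMod 11)) ∨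
      Nonempty (G ≃* Matrix.ProjectiveSpecialLinearGroup (Fin 2) (ZMod 13)) ∨
      (∃ p : ℕ, p.Prime ∧ (p % 16 = 1 ∨ p % 16 = 15) ∧ Nonempty (G ≃* Matrix.ProjectiveSpecialLinearGroup (Fin 2) (ZMod p))) ∨
      Nonempty (G ≃* Matrix.ProjectiveSpecialLinearGroup (Fin 3) (ZMod 3)) ∨
      (∃ N : Subgroup G, N.Normal ∧ N.index = 2 ∧ Subgroup.centralizer (N : Set G) = ⊥ ∧
        Nonempty (N ≃* Matrix.ProjectiveSpecialLinearGroup (Fin 3) (ZMod 3))) := by
  classical
  haveI := hprim
  set A := MulAction.stabilizer G a with hAdef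
  have hsolA : Group.IsSolvable A := by
    obtain ⟨k, -, hk⟩ := Invol.SubThree.order hprim a b h3
    exact Cfsg.Agent.S0144.result 2 3 k 1 Nat.prime_two Nat.prime_three (by rw [hk, pow_one])
  have hab : a ≠ b := by
    rintro rfl
    have hs : MulAction.orbit ↥(MulAction.stabilizer G a) a = {a} := by
      ext y
      refine ⟨?_, fun h => by rw [Set.mem_singleton_iff] at h; subst h; exact MulAction.mem_orbit_self _⟩
      rintro ⟨⟨g, hg⟩, rfl⟩
      exact hg
    rw [Nat.card_coe_set_eq, hs, Set.ncard_singleton] at h3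
    omega
  haveI : Nontrivial Ω := ⟨a, b, hab⟩
  have htrans : ∃ x : G, x • a = b := MulAction.exists_smul_eq G a b
  have d : Ctx A := by
    refine ⟨MulAction.IsPreprimitive.isCoatom_stabilizer_of_isPreprimitive G a, fun N hN hle => ?_, hsol, hsolA⟩
    refine (Subgroup.eq_bot_iff_forall N).mpr fun n hn => eq_of_smul_eq_smul (α := Ω) fun ω => ?_
    obtain ⟨h, rfl⟩ := MulAction.exists_smul_eq G a ω
    have h1 : (h⁻¹ * n * h) • a = a := by
      have := hle (hN.conj_mem n hn h⁻¹)
      rw [inv_inv] at this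
      exact this
    rw [mul_smul, mul_smul, inv_smul_eq_iff] at h1
    rw [one_smul, h1]
  rcases Invol.SubThree.primitive hprim a b h3 with ⟨⟨e⟩⟩ | ⟨⟨e⟩⟩ | ⟨⟨e⟩⟩ | ⟨⟨e⟩⟩ | ⟨⟨e⟩⟩
  · left
    have hA : Nat.card A = 3 := by rw [Nat.card_congr e.toEquiv]; simp
    exact d.small hA le_rfl Subgroup.le_normalizer (by omega) fun x hx _ => hx
  · left
    have hA : Nat.card A = 6 := by rw [Nat.card_congr e.toEquiv, Nat.card_perm, Nat.card_fin]; rfl
    obtain ⟨c, hc3, hc1, hconj, hcent⟩ := perm_three_facts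
    let ψ : Equiv.Perm (Fin 3) →* G := A.subtype.comp e.symm.toMonoidHom
    have hψ : Function.Injective ψ := A.subtype_injective.comp e.symm.injective
    have hψA : ∀ y, ψ y ∈ A := fun y => (e.symm y).2
    have hψe : ∀ y : A, ψ (e y) = y := fun y => by simp [ψ]
    have hord : orderOf (ψ c) = 3 := by
      haveI : Fact (Nat.Prime 3) := ⟨Nat.prime_three⟩
      rw [orderOf_injective ψ hψ]
      exact orderOf_eq_prime (by rw [pow_succ, pow_two]; exact hc3) hc1
    refine d.small (X := Subgroup.zpowers (ψ c)) (by rw [Nat.card_zpowers, hord]) (Subgroup.zpowers_le.2 (hψA c)) ?_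
      (by omega) ?_
    · refine le_normalizer_of_conj fun x hx w hw => ?_
      obtain ⟨i, rfl⟩ := Subgroup.mem_zpowers_iff.1 hw
      rw [← conj_zpow]
      refine Subgroup.zpow_mem _ ?_ i
      rw [show x = ψ (e ⟨x, hx⟩) from (hψe ⟨x, hx⟩).symm, ← map_inv, ← map_mul, ← map_mul]
      rcases hconj (e ⟨x, hx⟩) with h | h <;> rw [h]
      · exact Subgroup.mem_zpowers _
      · rw [map_mul]; exact mul_mem (Subgroup.mem_zpowers _) (Subgroup.mem_zpowers _)
    · intro x hx hxc
      have h1 := hxc _ (Subgroup.mem_zpowers (ψ c))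
      rw [show x = ψ (e ⟨x, hx⟩) from (hψe ⟨x, hx⟩).symm, ← map_mul, ← map_mul] at h1
      rw [show x = ψ (e ⟨x, hx⟩) from (hψe ⟨x, hx⟩).symm]
      rcases hcent _ (hψ h1) with h | h | h <;> rw [h]
      · rw [map_one]; exact one_mem _
      · exact Subgroup.mem_zpowers _
      · rw [map_mul]; exact mul_mem (Subgroup.mem_zpowers _) (Subgroup.mem_zpowers _)
  · rcases d.twelve e with h | h | h | h
    · exact Or.inr (Or.inl h)
    · exact Or.inr (Or.inr (Or.inl h))
    · exact Or.inr (Or.inr (Or.inr (Or.inl h)))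
    · exact Or.inr (Or.inr (Or.inr (Or.inr (Or.inl h))))
  · have hA : Nat.card A = 2 ^ 3 * 3 := by rw [Nat.card_congr e.toEquiv, Nat.card_perm, Nat.card_fin]; rfl
    obtain ⟨T, hTA, hT, g, hgA, hgT⟩ := exists_mover htrans hab h3 hA
    rcases d.four e hTA (by rw [hT]; norm_num) hgA hgT with h | h
    · exact Or.inr (Or.inr (Or.inr (Or.inr (Or.inr (Or.inl h)))))
    · exact Or.inr (Or.inr (Or.inr (Or.inr (Or.inr (Or.inr (Or.inl h))))))
  · have hA : Nat.card A = 2 ^ 4 * 3 := by
      rw [Nat.card_congr e.toEquiv, Nat.card_prod, Nat.card_perm, Nat.card_fin]; simp [Nat.factorial]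
    obtain ⟨T, hTA, hT, g, hgA, hgT⟩ := exists_mover htrans hab h3 hA
    have hoct : Oct A T (A.subtype.comp e.symm.toMonoidHom) g :=
      ⟨d, A.subtype_injective.comp e.symm.injective, by
        rw [MonoidHom.range_comp, MonoidHom.range_eq_top.2 e.symm.surjective, ← MonoidHom.range_eq_map,
          Subgroup.range_subtype], hTA, by rw [hT]; norm_num, hgA, hgT⟩
    obtain ⟨z, hz⟩ := hoct.exists_zed
    exact Or.inr (Or.inr (Or.inr (Or.inr (Or.inr (Or.inr (Or.inr hz.conclusion))))))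

end Cfsg.Agent.S3686
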