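import Cfsg.Statements.S3693
import Cfsg.Agent.Lib.Perm.ThompsonWielandtAction
-- import your own Cfsg.Agent.* helpers here

set_option autoImplicit false
open Cfsg

namespace Cfsg.Agent.S3693

theorem normalizer_coreIn.{u} {G : Type u} [Group G] [Finite G] (p : ℕ) [Fact p.Prime] {C H : Subgroup G}
    (h : H ≤ Subgroup.normalizer (C : Set G)) : H ≤ Subgroup.normalizer (Grp.coreIn p C : Set G) := by
  refine TW.normalizer_of_conj ?_
  rintro g hg _ ⟨y, hy, rfl⟩
  let e : ↥C ≃* ↥C :=
    { toFun := fun z => ⟨g * z * g⁻¹, TW.conj_mem h hg z.2⟩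
      invFun := fun z => ⟨g⁻¹ * z * g, by simpa using TW.conj_mem h (H.inv_mem hg) z.2⟩
      left_inv := fun z => Subtype.ext (by simp [mul_assoc])
      right_inv := fun z => Subtype.ext (by simp [mul_assoc])
      map_mul' := fun z w => Subtype.ext (by simp [mul_assoc]) }
  have he : (Cfsg.pCore p ↥C).map e.toMonoidHom ≤ Cfsg.pCore p ↥C :=
    Grp.le_pCore (Grp.pCore_isNormal.map _ e.surjective) (Grp.pCore_isPGroup.map _)
  exact ⟨e y, he ⟨_, hy, rfl⟩, rfl⟩

theorem fitting_bot.{u, v} {G : Type u} [Group G] [Finite G] {Ω : Type v} [MulAction G Ω] [FaithfulSMul G Ω]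
    [Finite Ω] (hprim : MulAction.IsPreprimitive G Ω) (a b : Ω) (d : ℕ)
    (hd : Nat.card (MulAction.orbit (MulAction.stabilizer G a) b) = d) (h2 : 2 ≤ d)
    (hF : Cfsg.fittingSubgroup ↥(((MulAction.stabilizer G b).subgroupOf (MulAction.stabilizer G a)).map
      (MulAction.toPermHom (MulAction.stabilizer G a) (MulAction.orbit (MulAction.stabilizer G a) b))) = ⊥)
    (p : ℕ) [hp : Fact p.Prime] :
    Grp.coreIn p (MulAction.stabilizer G a ⊓ MulAction.stabilizer G b) = ⊥ := by
  obtain ⟨hla, -, hne, -, hc⟩ := TW.point_data hprim a b d hd h2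
  have htr : MulAction.IsPretransitive G Ω := hprim.toIsPretransitive
  set M := MulAction.stabilizer G a with hMdef
  set N := MulAction.stabilizer G b with hNdef
  set Q := Grp.coreIn p (M ⊓ N) with hQdef
  have hQn : M ⊓ N ≤ Subgroup.normalizer (Q : Set G) := Grp.coreIn_normalized p _
  have hQD : Q ≤ M ⊓ N := Subgroup.map_subtype_le _
  have hQp : IsPGroup p Q := Grp.coreIn_isPGroup _
  set A₁ := TW.coreInto M N with hA₁
  have hQA : Q ≤ A₁ := by
    set f := MulAction.toPermHom M (MulAction.orbit M b) with hf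
    set I := (N.subgroupOf M).map f with hI
    have hQI : (Q.subgroupOf M).map f ≤ I :=
      Subgroup.map_mono (fun x hx => Subgroup.mem_subgroupOf.mpr (hQD hx).2)
    have hn : (((Q.subgroupOf M).map f).subgroupOf I).Normal := by
      refine Subgroup.normal_subgroupOf_of_le_normalizer (TW.normalizer_of_conj ?_)
      rintro _ ⟨y, hy, rfl⟩ _ ⟨z, hz, rfl⟩
      refine ⟨y * z * y⁻¹, Subgroup.mem_subgroupOf.mpr ?_, by simp⟩
      exact TW.conj_mem hQn ⟨y.2, Subgroup.mem_subgroupOf.mp hy⟩ (Subgroup.mem_subgroupOf.mp hz)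
    have h1 := (Grp.le_pCore hn (((hQp.comap_of_injective M.subtype M.subtype_injective).map f).comap_of_injective
      I.subtype I.subtype_injective)).trans (Grp.pCore_le_fittingSubgroup.trans hF.le)
    intro x hx
    have hx1 : f ⟨x, (hQD hx).1⟩ = 1 := by
      have := h1 (x := (⟨f ⟨x, (hQD hx).1⟩, hQI ⟨_, hx, rfl⟩⟩ : ↥I)) ⟨_, hx, rfl⟩
      exact congrArg Subtype.val (Subgroup.mem_bot.mp this)
    refine TW.mem_coreInto.mpr ⟨(hQD hx).1, fun m hm => ?_⟩
    have hc : m⁻¹ • b ∈ MulAction.orbit M b := ⟨⟨m⁻¹, inv_mem hm⟩, rfl⟩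
    have := congrArg Subtype.val (DFunLike.congr_fun hx1 ⟨m⁻¹ • b, hc⟩)
    change x • (m⁻¹ • b) = m⁻¹ • b at this
    rw [MulAction.mem_stabilizer_iff, mul_smul, mul_smul, this, smul_inv_smul]
  have hA₁D : A₁ ≤ M ⊓ N := le_inf (TW.coreInto_le_left M N) (TW.coreInto_le_right M N)
  have hQ1 : Q = Grp.coreIn p A₁ := by
    refine le_antisymm (Grp.le_coreIn hQp hQA (hA₁D.trans hQn)) ?_
    refine Grp.le_coreIn (Grp.coreIn_isPGroup A₁) ((Subgroup.map_subtype_le _).trans hA₁D) ?_
    exact (inf_le_left.trans (normalizer_coreIn p (TW.le_normalizer_coreInto M N)))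
  have hMQ : M ≤ Subgroup.normalizer (Q : Set G) :=
    hQ1 ▸ normalizer_coreIn p (TW.le_normalizer_coreInto M N)
  by_contra hQ0
  obtain ⟨g, hg⟩ := MulAction.exists_smul_eq G a b
  set c := g⁻¹ • a with hcdef
  set C := MulAction.stabilizer G c with hCdef
  have hcM : ∀ x : G, x ∈ C ↔ g * x * g⁻¹ ∈ M := by
    intro x
    rw [MulAction.mem_stabilizer_iff, MulAction.mem_stabilizer_iff, hcdef, mul_smul, mul_smul,
      eq_inv_smul_iff]
  have haN : ∀ x : G, x ∈ M ↔ g * x * g⁻¹ ∈ N := by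
    intro x
    rw [MulAction.mem_stabilizer_iff, MulAction.mem_stabilizer_iff, ← hg, mul_smul, mul_smul,
      inv_smul_smul, smul_left_cancel_iff]
  set R := Q.map (MulAut.conj g⁻¹).toMonoidHom with hRdef
  have hR : ∀ x : G, x ∈ R ↔ g * x * g⁻¹ ∈ Q := by
    intro x
    constructor
    · rintro ⟨q, hq, rfl⟩
      simpa [mul_assoc] using hq
    · intro hx
      exact ⟨_, hx, by simp [mul_assoc]⟩
  have hRM : R ≤ M := fun x hx => (haN x).mpr (hQD ((hR x).mp hx)).2
  have hRC : R ≤ C := fun x hx => (hcM x).mpr (hQD ((hR x).mp hx)).1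
  have hCR : C ≤ Subgroup.normalizer (R : Set G) := by
    refine TW.normalizer_of_conj fun y hy x hx => (hR _).mpr ?_
    have := TW.conj_mem hMQ ((hcM y).mp hy) ((hR x).mp hx)
    simpa [mul_assoc] using this
  have hQC : Q ⊓ C ≤ R := by
    have hle : (Q ⊓ C).map (MulAut.conj g).toMonoidHom ≤ Q := by
      refine Grp.le_coreIn ((hQp.to_le inf_le_left).map _) ?_ ?_
      · rintro _ ⟨x, hx, rfl⟩
        exact ⟨(hcM x).mp hx.2, (haN x).mp (hQD hx.1).1⟩
      · refine TW.normalizer_of_conj ?_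
        rintro y hy _ ⟨x, hx, rfl⟩
        have hy1 : g⁻¹ * y * g ∈ C := (hcM _).mpr (by simpa [mul_assoc] using hy.1)
        have hy2 : g⁻¹ * y * g ∈ M := (haN _).mpr (by simpa [mul_assoc] using hy.2)
        exact ⟨(g⁻¹ * y * g) * x * (g⁻¹ * y * g)⁻¹,
          ⟨TW.conj_mem hMQ hy2 hx.1, C.mul_mem (C.mul_mem hy1 hx.2) (C.inv_mem hy1)⟩,
          by simp [mul_assoc]⟩
    intro x hx
    exact (hR x).mpr (hle ⟨x, hx, rfl⟩)
  have hR0 : R ≠ ⊥ := by rwa [Ne, Subgroup.map_eq_bot_iff_of_injective _ (MulAut.conj g⁻¹).injective]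
  obtain ⟨hlc, -⟩ : TW.Loc C ∧ True := by
    refine ⟨?_, trivial⟩
    have hCeq : C = M.map (MulAut.conj g⁻¹).toMonoidHom := by
      ext x
      rw [hcM]
      constructor
      · intro h; exact ⟨_, h, by simp [mul_assoc]⟩
      · rintro ⟨m, hm, rfl⟩; simpa [mul_assoc] using hm
    exact hCeq ▸ TW.loc_conj hla g⁻¹
  have hNR := hlc R hR0 hRC hCR
  have hQR : Q = R := TW.eq_of_self_normalizing hQp (hQp.map _) (hRM.trans hMQ) hNR hQC
    (Subgroup.card_map_of_injective (MulAut.conj g⁻¹).injective).symm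
  have hMC : M = C := by
    refine le_antisymm ?_ ?_
    · have h := hMQ; rw [hQR] at h; exact h.trans hNR
    · have h := hla Q hQ0 (hQD.trans inf_le_left) hMQ
      rw [hQR] at h
      exact hCR.trans h
  refine hne ?_
  ext x
  have e1 : g * (g⁻¹ * x * g) * g⁻¹ = x := by group
  rw [← e1, ← hcM, ← haN, hMC]

/-- Let a finite group G act faithfully and primitively on a set Ω, let a and b be points such that the orbit Δ of b under the stabilizer H of a has length d ≥ 2, and consider the permutation group induced on Δ by the elements of H fixing b. If that induced group has trivial Fitting subgroup (no non-trivial nilpotent normal subgroup), then the two-point stabilizer of a and b has trivial Fitting subgroup and the order of H divides d! · ((d - 1)!)^d. -/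
theorem result {G Ω : Type*} [Group G] [Finite G] [MulAction G Ω] [FaithfulSMul G Ω] [Finite Ω]
    (hprim : MulAction.IsPreprimitive G Ω) (a b : Ω) (d : ℕ) (hd : Nat.card (MulAction.orbit (MulAction.stabilizer G a) b) = d) (h2 : 2 ≤ d)
    (hF : Cfsg.fittingSubgroup ↥(((MulAction.stabilizer G b).subgroupOf (MulAction.stabilizer G a)).map (MulAction.toPermHom (MulAction.stabilizer G a) (MulAction.orbit (MulAction.stabilizer G a) b))) = ⊥) :
    Cfsg.fittingSubgroup ↥(MulAction.stabilizer G a ⊓ MulAction.stabilizer G b) = ⊥ ∧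
      Nat.card (MulAction.stabilizer G a) ∣ Nat.factorial d * (Nat.factorial (d - 1)) ^ d := by
  have key := fun (p : ℕ) (hp : Fact p.Prime) => fitting_bot hprim a b d hd h2 hF p
  have hFD : Cfsg.fittingSubgroup ↥(MulAction.stabilizer G a ⊓ MulAction.stabilizer G b) = ⊥ := by
    rw [Grp.fittingSubgroup_eq_iSup_pCore, iSup_eq_bot]
    intro r
    exact TW.coreIn_eq_bot_iff.mp (key r ⟨r.2⟩)
  refine ⟨hFD, ?_⟩
  rcases TW.bound_or_pair hprim a b d hd h2 with hdiv | hp
  · exact hdiv
  · exfalso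
    obtain ⟨p, hp', hpA, -⟩ := TW.thompson_wielandt hp
    haveI := Fact.mk hp'
    refine hp.A_ne (le_bot_iff.mp ?_)
    rw [← key p ⟨hp'⟩]
    exact Grp.le_coreIn hpA (le_inf hp.A_le hp.A_leN) (inf_le_left.trans hp.A_norm)

end Cfsg.Agent.S3693
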