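import Cfsg.Statements.S3696


set_option autoImplicit false
open Cfsg

namespace Cfsg.Agent.S3696

/-- weighted arithmetic-geometric mean for natural numbers -/
theorem weighted {d e a b : ℕ} (hd : 0 < d) (he : 0 < e) :
    (d + e) ^ (d + e) * (a ^ d * b ^ e) ≤ d ^ d * e ^ e * (a + b) ^ (d + e) := by
  have hd' : (0 : ℝ) < d := by exact_mod_cast hd
  have he' : (0 : ℝ) < e := by exact_mod_cast he
  set D : ℝ := (d : ℝ) + e with hD
  have hD' : 0 < D := by positivity
  have h := Real.geom_mean_le_arith_mean2_weighted (w₁ := d / D) (w₂ := e / D) (p₁ := a / d) (p₂ := b / e)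
    (by positivity) (by positivity) (by positivity) (by positivity) (by rw [← add_div, ← hD, div_self hD'.ne'])
  have h' := Real.rpow_le_rpow (by positivity) h hD'.le
  rw [Real.mul_rpow (by positivity) (by positivity), ← Real.rpow_mul (by positivity), ← Real.rpow_mul (by positivity),
    div_mul_cancel₀ _ hD'.ne', div_mul_cancel₀ _ hD'.ne', Real.rpow_natCast, Real.rpow_natCast,
    show (d : ℝ) / D * (a / d) + e / D * (b / e) = (a + b) / D by field_simp,
    show D = ((d + e : ℕ) : ℝ) by push_cast; rfl, Real.rpow_natCast, div_pow, div_pow, div_pow,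
    div_mul_div_comm, div_le_div_iff₀ (by positivity) (by positivity)] at h'
  have : (((d + e) ^ (d + e) * (a ^ d * b ^ e) : ℕ) : ℝ) ≤ ((d ^ d * e ^ e * (a + b) ^ (d + e) : ℕ) : ℝ) := by
    push_cast at h' ⊢
    linarith
  exact_mod_cast this

theorem bound (p : ℕ) (hp : p.Prime) : ∀ (m : ℕ) {Ω : Type*} [Fintype Ω] [DecidableEq Ω]
    (A : Subgroup (Equiv.Perm Ω)) (S : Finset Ω), Nat.card A = m → IsPGroup p A →
    (∀ g ∈ A, ∀ h ∈ A, g * h = h * g) → (∀ g ∈ A, ∀ x, x ∉ S → g x = x) →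
    ∀ k : ℕ, Nat.card {x : A // x ^ p = 1} = p ^ k → Nat.card A * k ^ k ≤ S.card ^ k := by
  intro m
  induction m using Nat.strong_induction_on with
  | _ m ih =>
  intro Ω _ _ A S hm hA hab hsupp k hk
  classical
  haveI := Fact.mk hp
  by_cases hA1 : A = ⊥
  · subst hA1
    have hk0 : p ^ k = 1 := by
      rw [← hk, Nat.card_eq_one_iff_unique]
      refine ⟨⟨fun x y => Subtype.ext (Subsingleton.elim _ _)⟩, ⟨⟨1, one_pow p⟩⟩⟩
    obtain rfl : k = 0 := by
      rcases Nat.pow_eq_one.mp hk0 with h | h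
      · exact absurd h hp.one_lt.ne'
      · exact h
    simp
  let soc : Subgroup A :=
    { carrier := {x | x ^ p = 1}
      one_mem' := one_pow p
      mul_mem' := fun {x y} hx hy => by
        show (x * y) ^ p = 1
        rw [Commute.mul_pow (Subtype.ext (hab _ x.2 _ y.2)), show x ^ p = 1 from hx, show y ^ p = 1 from hy, one_mul]
      inv_mem' := fun {x} hx => by show x⁻¹ ^ p = 1; rw [inv_pow, show x ^ p = 1 from hx, inv_one] }
  have hsoc : Nat.card soc = p ^ k := hk
  have hsoc1 : soc ≠ ⊥ := by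
    intro h
    haveI : Nontrivial A := (Subgroup.nontrivial_iff_ne_bot A).mpr hA1
    obtain ⟨j, hj0, hj⟩ := hA.nontrivial_iff_card.mp inferInstance
    obtain ⟨x, hx⟩ := exists_prime_orderOf_dvd_card' (G := A) p (hj ▸ dvd_pow_self p (by omega))
    have : x ∈ soc := by show x ^ p = 1; rw [← hx, pow_orderOf_eq_one]
    rw [h, Subgroup.mem_bot] at this
    rw [this, orderOf_one] at hx
    exact hp.one_lt.ne hx
  -- a point moved by the socle
  obtain ⟨a, x0, hx0, hmove⟩ : ∃ a : Ω, ∃ x : A, x ∈ soc ∧ (x : Equiv.Perm Ω) a ≠ a := by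
    by_contra h
    push_neg at h
    exact hsoc1 ((Subgroup.eq_bot_iff_forall soc).mpr fun x hx => Subtype.ext (Equiv.ext fun a => h a x hx))
  let O : Finset Ω := Finset.univ.filter fun b => ∃ g ∈ A, g a = b
  have hOS : O ⊆ S := by
    intro b hb
    obtain ⟨g, hg, rfl⟩ := (Finset.mem_filter.mp hb).2
    by_contra hb'
    have h1 := hsupp _ (A.inv_mem hg) _ hb'
    rw [Equiv.Perm.inv_eq_iff_eq] at h1
    have haS : a ∉ S := by
      rw [← g.injective h1] at hb'; exact hb'
    exact hmove (hsupp _ x0.2 a haS)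
  let K : Subgroup (Equiv.Perm Ω) := A ⊓ MulAction.stabilizer (Equiv.Perm Ω) a
  have hKA : K ≤ A := inf_le_left
  have hKfix : ∀ g ∈ K, ∀ b ∈ O, g b = b := by
    intro g hg b hb
    obtain ⟨h, hh, rfl⟩ := (Finset.mem_filter.mp hb).2
    show (g * h) a = h a
    rw [hab g hg.1 h hh]
    exact congrArg h hg.2
  have hKsupp : ∀ g ∈ K, ∀ b, b ∉ S \ O → g b = b := by
    intro g hg b hb
    by_cases hbO : b ∈ O
    · exact hKfix g hg b hbO
    · exact hsupp g hg.1 b fun hbS => hb (Finset.mem_sdiff.mpr ⟨hbS, hbO⟩)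
  let K' : Subgroup A := K.subgroupOf A
  have hcardK : Nat.card K' = Nat.card K := Nat.card_congr (Subgroup.subgroupOfEquivOfLe hKA).toEquiv
  have hindex : K'.index = O.card := by
    rw [Subgroup.index, ← Nat.card_eq_finsetCard]
    refine Nat.card_congr (Equiv.ofBijective (Quotient.lift (fun g : A => (⟨(g : Equiv.Perm Ω) a,
      Finset.mem_filter.mpr ⟨Finset.mem_univ _, g, g.2, rfl⟩⟩ : O)) ?_) ⟨?_, ?_⟩)
    · intro g h hgh
      have h' : g⁻¹ * h ∈ K' := QuotientGroup.leftRel_apply.mp hgh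
      apply Subtype.ext
      have h2 : ((g⁻¹ * h : A) : Equiv.Perm Ω) a = a := h'.2
      have h3 := congrArg (g : Equiv.Perm Ω) h2
      simpa using h3.symm
    · intro q r
      induction q using Quotient.inductionOn with
      | _ g =>
      induction r using Quotient.inductionOn with
      | _ h =>
        intro hgh
        refine Quotient.sound (QuotientGroup.leftRel_apply.mpr ⟨(g⁻¹ * h).2, ?_⟩)
        have h1 : (g : Equiv.Perm Ω) a = (h : Equiv.Perm Ω) a := congrArg Subtype.val hgh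
        show ((g⁻¹ * h : A) : Equiv.Perm Ω) a = a
        simp [← h1]
    · rintro ⟨b, hb⟩
      obtain ⟨g, hg, rfl⟩ := (Finset.mem_filter.mp hb).2
      exact ⟨Quotient.mk _ ⟨g, hg⟩, rfl⟩
  have hlt : Nat.card K < m := by
    rw [← hm]
    by_contra h
    have : K = A := Subgroup.eq_of_le_of_card_ge hKA (not_lt.mp h)
    exact hmove ((this.symm ▸ x0.2 : (x0 : Equiv.Perm Ω) ∈ K).2)
  obtain ⟨e, he⟩ : ∃ e, Nat.card {x : K // x ^ p = 1} = p ^ e := by
    obtain ⟨e, -, he⟩ := (Nat.dvd_prime_pow hp).mp (hsoc ▸ Subgroup.card_dvd_of_le (inf_le_left : soc ⊓ K' ≤ soc))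
    refine ⟨e, he ▸ Nat.card_congr ⟨fun x => ⟨⟨x.1.1, hKA x.1.2⟩, Subtype.ext (by
      have := congrArg Subtype.val x.2
      simpa using this), x.1.2⟩, fun x => ⟨⟨x.1.1, x.2.2⟩, Subtype.ext (by
      have := congrArg Subtype.val (show x.1 ^ p = 1 from x.2.1)
      simpa using this)⟩, fun _ => rfl, fun _ => rfl⟩⟩
  have IH := ih _ hlt K (S \ O) rfl (hA.to_le hKA) (fun g hg h hh => hab g hg.1 h hh.1) hKsupp e he
  have hsK : Nat.card (soc ⊓ K' : Subgroup A) = p ^ e := by
    rw [← he]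
    exact Nat.card_congr ⟨fun x => ⟨⟨x.1.1, x.2.2⟩, Subtype.ext (by
      have := congrArg Subtype.val (show x.1 ^ p = 1 from x.2.1)
      simpa using this)⟩, fun x => ⟨⟨x.1.1, hKA x.1.2⟩, Subtype.ext (by
      have := congrArg Subtype.val x.2
      simpa using this), x.1.2⟩, fun _ => rfl, fun _ => rfl⟩
  have hek : e < k := by
    have h1 : soc ⊓ K' < soc := lt_of_le_of_ne inf_le_left fun h => hmove (inf_eq_left.mp h hx0).2
    have h2 : Nat.card (soc ⊓ K' : Subgroup A) < Nat.card soc := by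
      by_contra h3
      exact h1.ne (Subgroup.eq_of_le_of_card_ge h1.le (not_lt.mp h3))
    rw [hsK, hsoc] at h2
    exact (Nat.pow_lt_pow_iff_right hp.one_lt).mp h2
  obtain ⟨d, hd⟩ : ∃ d, k = e + d := ⟨k - e, by omega⟩
  have hd0 : 0 < d := by omega
  -- the orbit is at least as large as the image of the socle
  have hOd : p ^ d ≤ O.card := by
    have h1 : K'.relIndex soc ≤ K'.index := by
      have h := Subgroup.relIndex_le_of_le_right (H := K') (le_top : soc ≤ ⊤)
        (by rw [Subgroup.relIndex_top_right]; exact Subgroup.index_ne_zero_of_finite)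
      rwa [Subgroup.relIndex_top_right] at h
    have h2 := Subgroup.card_mul_index (K'.subgroupOf soc)
    have h3 : Nat.card (K'.subgroupOf soc) = p ^ e := by
      rw [← hsK]
      exact Nat.card_congr ⟨fun x => ⟨x.1.1, x.1.2, x.2⟩, fun x => ⟨⟨x.1, x.2.1⟩, x.2.2⟩, fun _ => rfl, fun _ => rfl⟩
    rw [h3, hsoc, hd, pow_add] at h2
    have h4 : (K'.subgroupOf soc).index = p ^ d := Nat.eq_of_mul_eq_mul_left (pow_pos hp.pos e) h2
    rw [← hindex, ← h4]; exact h1
  have hcard : Nat.card A = Nat.card K * O.card := by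
    rw [← K'.card_mul_index, hcardK, hindex]
  set n1 := O.card
  set n2 := (S \ O).card
  have hn : n1 + n2 = S.card := by
    rw [add_comm]; exact Finset.card_sdiff_add_card_eq_card hOS
  -- a single orbit obeys the bound
  have hone : n1 * d ^ d ≤ n1 ^ d := by
    obtain ⟨d', rfl⟩ : ∃ d', d = d' + 1 := ⟨d - 1, by omega⟩
    rw [pow_succ n1, mul_comm (n1 ^ d')]
    refine Nat.mul_le_mul_left _ ?_
    have h1 : d' + 1 ≤ p ^ d' := d'.lt_pow_self hp.one_lt
    calc (d' + 1) ^ (d' + 1) ≤ (p ^ d') ^ (d' + 1) := Nat.pow_le_pow_left h1 _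
      _ = (p ^ (d' + 1)) ^ d' := by rw [← pow_mul, ← pow_mul, mul_comm]
      _ ≤ n1 ^ d' := Nat.pow_le_pow_left hOd _
  rw [hcard, hd, ← hn]
  rcases Nat.eq_zero_or_pos e with rfl | he0
  · have hK1 : Nat.card K = 1 := by
      simp only [pow_zero, mul_one] at IH
      have := Nat.card_pos (α := K)
      omega
    rw [hK1, one_mul, zero_add]
    exact hone.trans (Nat.pow_le_pow_left (Nat.le_add_right _ _) _)
  have hw := weighted (a := n1) (b := n2) hd0 he0
  have hpos : 0 < d ^ d * e ^ e := Nat.mul_pos (pow_pos hd0 _) (pow_pos he0 _)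
  refine Nat.le_of_mul_le_mul_left ?_ hpos
  calc d ^ d * e ^ e * (Nat.card K * n1 * (e + d) ^ (e + d))
      = (Nat.card K * e ^ e) * (n1 * d ^ d) * (d + e) ^ (d + e) := by rw [add_comm e d]; ring
    _ ≤ n2 ^ e * n1 ^ d * (d + e) ^ (d + e) := Nat.mul_le_mul_right _ (Nat.mul_le_mul IH hone)
    _ = (d + e) ^ (d + e) * (n1 ^ d * n2 ^ e) := by ring
    _ ≤ _ := by rw [add_comm e d]; exact hw

/-- Let p be a prime, Ω a finite set with n ≥ p elements, and A an abelian p-subgroup of the symmetric group on Ω whose elements of order dividing p number p^k (so k is the rank of A). Then |A| · k^k ≤ n^k, that is, |A| ≤ (n/k)^k. -/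
theorem result {Ω : Type*} [Fintype Ω] [DecidableEq Ω]
    (p : ℕ) (hp : p.Prime) (hn : p ≤ Fintype.card Ω) (A : Subgroup (Equiv.Perm Ω)) (hA : IsPGroup p A) (hab : IsMulCommutative A)
    (k : ℕ) (hk : Nat.card {x : A // x ^ p = 1} = p ^ k) :
    Nat.card A * k ^ k ≤ Fintype.card Ω ^ k := by
  have h := bound p hp _ A Finset.univ rfl hA
    (fun g hg h hh => congrArg Subtype.val (hab.is_comm.comm ⟨g, hg⟩ ⟨h, hh⟩))
    (fun g _ x hx => absurd (Finset.mem_univ x) hx) k hk
  rwa [Finset.card_univ] at h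

end Cfsg.Agent.S3696
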