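import Cfsg.Statements.S3703
import Mathlib
import Cfsg.Agent.Lib.Recog.Frobenius

set_option autoImplicit false
open Cfsg

namespace Cfsg.Agent.S3703

open scoped Pointwise
open Cfsg.Agent

/-- if the norms of all the conjugates of `y` vanish, a fixed-point-free Frobenius kernel of coprime
order acts trivially -/
theorem eq_of_norm_eq_one {A L : Type*} [CommGroup A] [Group L] (ρ : L →* MulAut A) (Q : Subgroup L)
    [Finite Q] (y : L) (m : ℕ) (hm : 0 < m)
    (hyQ : ∀ u ∈ Q, ∀ i : ℕ, y ^ i * u * (y ^ i)⁻¹ ∈ Q)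
    (hfix : ∀ i, 0 < i → i < m → ∀ u ∈ Q, u * y ^ i = y ^ i * u → u = 1)
    (hnorm : ∀ u ∈ Q, ∀ a : A, ∏ i ∈ Finset.range m, ρ ((u * y * u⁻¹) ^ i) a = 1)
    (a : A) (hcop : (Nat.card Q).Coprime (orderOf a)) (v : L) (hv : v ∈ Q) : ρ v a = a := by
  classical
  have := Fintype.ofFinite Q
  let S : A → A := fun b => ∏ u : Q, ρ (u : L) b
  have hinv : ∀ b, ρ v (S b) = S b := by
    intro b
    show ρ v (∏ u : Q, ρ (u : L) b) = _
    rw [map_prod]
    calc ∏ u : Q, ρ v (ρ (u : L) b) = ∏ u : Q, ρ (((⟨v, hv⟩ : Q) * u : Q) : L) b := by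
          simp [map_mul]
      _ = S b := Equiv.prod_comp (Equiv.mulLeft (⟨v, hv⟩ : Q)) (fun u : Q => ρ (u : L) b)
  have hS1 : S 1 = 1 := by simp [S]
  have e1 : ∏ u : Q, ∏ i ∈ Finset.range m, ρ (((u : L) * y * (u : L)⁻¹) ^ i) a = 1 :=
    Finset.prod_eq_one fun u _ => hnorm u u.2 a
  rw [Finset.prod_comm] at e1
  have e2 : ∀ i ∈ Finset.range m, (∏ u : Q, ρ (((u : L) * y * (u : L)⁻¹) ^ i) a)
      = if i = 0 then a ^ Nat.card Q else S (ρ (y ^ i) a) := by
    intro i hi
    rcases Nat.eq_zero_or_pos i with rfl | hi0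
    · simp [Finset.card_univ, Nat.card_eq_fintype_card]
    rw [if_neg hi0.ne']
    let σ : Q → Q := fun u => ⟨(u : L) * (y ^ i * (u : L)⁻¹ * (y ^ i)⁻¹),
      Q.mul_mem u.2 (hyQ _ (Q.inv_mem u.2) i)⟩
    have hσ : Function.Injective σ := by
      intro u w h
      have h' : (u : L) * (y ^ i * (u : L)⁻¹ * (y ^ i)⁻¹) = (w : L) * (y ^ i * (w : L)⁻¹ * (y ^ i)⁻¹) :=
        congrArg Subtype.val h
      have := hfix i hi0 (Finset.mem_range.mp hi) ((w : L)⁻¹ * u) (Q.mul_mem (Q.inv_mem w.2) u.2) (by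
        calc (w : L)⁻¹ * u * y ^ i
            = (w : L)⁻¹ * ((u : L) * (y ^ i * (u : L)⁻¹ * (y ^ i)⁻¹)) * y ^ i * u := by group
          _ = (w : L)⁻¹ * ((w : L) * (y ^ i * (w : L)⁻¹ * (y ^ i)⁻¹)) * y ^ i * u := by rw [h']
          _ = y ^ i * ((w : L)⁻¹ * u) := by group)
      exact Subtype.ext (inv_mul_eq_one.mp this).symm
    refine Fintype.prod_bijective σ (Finite.injective_iff_bijective.mp hσ) _ _ fun u => ?_
    rw [← MulAut.mul_apply, ← map_mul, conj_pow]
    congr 2
    show _ = (u : L) * (y ^ i * (u : L)⁻¹ * (y ^ i)⁻¹) * y ^ i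
    group
  rw [Finset.prod_congr rfl e2] at e1
  have e3 : ∏ i ∈ Finset.range m, S (ρ (y ^ i) a) = 1 := by
    rw [Finset.prod_comm]
    refine Finset.prod_eq_one fun u _ => ?_
    rw [← map_prod]
    have := hnorm 1 Q.one_mem a
    rw [one_mul, inv_one, mul_one] at this
    rw [this, map_one]
  obtain ⟨k, rfl⟩ := Nat.exists_eq_add_of_le' hm
  rw [Finset.prod_range_succ'] at e1 e3
  simp only [Nat.succ_ne_zero, if_false, if_true, pow_zero, map_one, MulAut.one_apply] at e1 e3
  have e4 : a ^ Nat.card Q = S a := mul_left_cancel (e1.trans e3.symm)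
  have e5 : (ρ v a) ^ Nat.card Q = a ^ Nat.card Q := by rw [← map_pow, e4, hinv]
  have e6 : orderOf (ρ v a) = orderOf a := MulEquiv.orderOf_eq (ρ v) a
  have f1 : orderOf (ρ v a * a⁻¹) ∣ Nat.card Q :=
    orderOf_dvd_of_pow_eq_one (by rw [mul_pow, inv_pow, e5, mul_inv_cancel])
  have f2 : orderOf (ρ v a * a⁻¹) ∣ orderOf a :=
    orderOf_dvd_of_pow_eq_one (by
      rw [mul_pow, inv_pow, ← map_pow, pow_orderOf_eq_one, map_one, inv_one, one_mul])
  exact mul_inv_eq_one.mp (orderOf_eq_one_iff.mp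
    (Nat.eq_one_of_dvd_one (hcop.gcd_eq_one ▸ Nat.dvd_gcd f1 f2)))

/-- the same for an invariant `p`-subgroup, by induction along the derived series -/
theorem commute_of_norm {G : Type*} [Group G] [Finite G] {p : ℕ} [Fact p.Prime] (Q : Subgroup G) (y : G)
    (m : ℕ) (hm : 0 < m) (hp : ¬ p ∣ Nat.card Q) (hyQ : y ∈ Subgroup.normalizer (Q : Set G))
    (hfix : ∀ i, 0 < i → i < m → ∀ u ∈ Q, u * y ^ i = y ^ i * u → u = 1)
    (R : Subgroup G) (hR : IsPGroup p R) (hQR : Q ≤ Subgroup.normalizer (R : Set G))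
    (hyR : y ∈ Subgroup.normalizer (R : Set G))
    (hlift : ∀ u ∈ Q, ∀ x ∈ R, (x * (u * y * u⁻¹)) ^ m = 1) :
    ∀ v ∈ Q, ∀ x ∈ R, v * x = x * v := by
  induction hn : Nat.card R using Nat.strong_induction_on generalizing R with
  | _ n ih =>
  subst hn
  rcases eq_or_ne R ⊥ with hbot | hne
  · intro v hv x hx
    rw [hbot, Subgroup.mem_bot] at hx
    simp [hx]
  haveI : Group.IsNilpotent R := hR.isNilpotent
  haveI : Nontrivial R := (Subgroup.nontrivial_iff_ne_bot R).mpr hne
  have hder : (commutator R).map R.subtype = ⁅R, R⁆ := Subgroup.map_subtype_commutator R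
  have hlt : commutator R < ⊤ := by
    rw [commutator_def]
    exact Group.IsSolvable.commutator_lt_of_ne_bot (top_ne_bot)
  have hsub : ⁅R, R⁆ ≤ R := Subgroup.commutator_le_self R
  have hnorm' : ∀ g ∈ Subgroup.normalizer (R : Set G), g ∈ Subgroup.normalizer ((⁅R, R⁆ : Subgroup G) : Set G) := by
    intro g hg
    rw [Subgroup.mem_normalizer_iff]
    have e : (⁅R, R⁆ : Subgroup G).map (MulAut.conj g).toMonoidHom = ⁅R, R⁆ := by
      have eR : R.map (MulAut.conj g).toMonoidHom = R := by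
        ext x
        constructor
        · rintro ⟨z, hz, rfl⟩; exact (Subgroup.mem_normalizer_iff.mp hg z).mp hz
        · intro hx
          exact ⟨g⁻¹ * x * g, (Subgroup.mem_normalizer_iff.mp hg _).mpr (by simpa [mul_assoc] using hx),
            by simp [mul_assoc]⟩
      rw [Subgroup.map_commutator, eR]
    intro x
    constructor
    · intro hx; rw [← e]; exact ⟨x, hx, rfl⟩
    · intro hx
      rw [← e] at hx
      obtain ⟨z, hz, hzx⟩ := hx
      exact (mul_left_cancel (mul_right_cancel (hzx : g * z * g⁻¹ = g * x * g⁻¹))) ▸ hz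
  have hcard : Nat.card (⁅R, R⁆ : Subgroup G) < Nat.card R := by
    rw [← hder, Subgroup.card_map_of_injective R.subtype_injective]
    exact lt_of_le_of_ne (Subgroup.card_le_card_group _) fun e => hlt.ne (Subgroup.eq_top_of_card_eq _ e)
  have hcomm := ih _ hcard _ (hR.to_le hsub) (fun u hu => hnorm' u (hQR hu)) (hnorm' y hyR)
    (fun u hu x hx => hlift u hu x (hsub hx)) rfl
  let L := Subgroup.normalizer (R : Set G)
  let ab : MulAut R →* MulAut (Abelianization R) :=
    { toFun := fun e => e.abelianizationCongr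
      map_one' := by
        ext x
        obtain ⟨x, rfl⟩ := QuotientGroup.mk_surjective x
        rfl
      map_mul' := fun e f => by
        ext x
        obtain ⟨x, rfl⟩ := QuotientGroup.mk_surjective x
        rfl }
  let ρ : L →* MulAut (Abelianization R) := ab.comp R.normalizerMonoidHom
  let π : R →* Abelianization R := Abelianization.of
  have hρ : ∀ (l : L) (x : R), ρ l (π x) = π ⟨(l : G) * x * (l : G)⁻¹, (Subgroup.mem_normalizer_iff.mp l.2 x).mp x.2⟩ :=
    fun l x => rfl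
  intro v hv x hx
  have key : ρ ⟨v, hQR hv⟩ (π ⟨x, hx⟩) = π ⟨x, hx⟩ := by
    refine eq_of_norm_eq_one ρ (Q.subgroupOf L) ⟨y, hyR⟩ m hm ?_ ?_ ?_ _ ?_ _ (Subgroup.mem_subgroupOf.mpr hv)
    · intro u hu i
      exact (Subgroup.mem_normalizer_iff.mp ((Subgroup.normalizer (Q : Set G)).pow_mem hyQ i) _).mp hu
    · intro i h1 h2 u hu h
      exact Subtype.ext (hfix i h1 h2 _ hu (congrArg Subtype.val h))
    · intro u hu a
      obtain ⟨z, rfl⟩ := QuotientGroup.mk_surjective a
      set c : L := u * ⟨y, hyR⟩ * u⁻¹ with hc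
      have hj : ∀ j, ∃ r : R, (r : G) = ((z : G) * (c : G)) ^ j * ((c : G) ^ j)⁻¹ ∧
          π r = ∏ i ∈ Finset.range j, ρ (c ^ i) (π z) := by
        intro j
        induction j with
        | zero => exact ⟨1, by simp, by simp⟩
        | succ j ihj =>
          obtain ⟨r, hr, hπ⟩ := ihj
          refine ⟨r * ⟨((c ^ j : L) : G) * z * ((c ^ j : L) : G)⁻¹,
            (Subgroup.mem_normalizer_iff.mp (c ^ j).2 z).mp z.2⟩, ?_, ?_⟩
          · simp only [Subgroup.coe_mul, hr, SubgroupClass.coe_pow, pow_succ]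
            group
          · rw [map_mul, hπ, Finset.prod_range_succ, hρ]
      obtain ⟨r, hr, hπ⟩ := hj m
      have h1 : ((z : G) * ((u : G) * y * (u : G)⁻¹)) ^ m = 1 := hlift _ hu z z.2
      have h0 : (1 * ((u : G) * y * (u : G)⁻¹)) ^ m = 1 := hlift _ hu 1 R.one_mem
      rw [one_mul] at h0
      have hc' : (c : G) = (u : G) * y * (u : G)⁻¹ := rfl
      rw [hc', h1, h0, inv_one, one_mul] at hr
      have : r = 1 := Subtype.ext hr
      rw [this, map_one] at hπ
      exact hπ.symm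
    · have hQc : Nat.card (Q.subgroupOf L) = Nat.card Q :=
        Nat.card_congr (Subgroup.subgroupOfEquivOfLe hQR).toEquiv
      rw [hQc]
      obtain ⟨k, hk⟩ := (hR.to_quotient (commutator R)).exists_orderOf_eq_pow (π ⟨x, hx⟩)
      · erw [hk]
        exact (((Fact.out : p.Prime).coprime_iff_not_dvd).mpr hp).symm.pow_right _
  rw [hρ] at key
  have hmem : (⟨x, hx⟩ : R)⁻¹ * ⟨v * x * v⁻¹, (Subgroup.mem_normalizer_iff.mp (hQR hv) x).mp hx⟩
      ∈ commutator R := QuotientGroup.eq.mp key.symm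
  have hr : x⁻¹ * (v * x * v⁻¹) ∈ (⁅R, R⁆ : Subgroup G) := by
    rw [← hder]; exact ⟨_, hmem, rfl⟩
  set r := x⁻¹ * (v * x * v⁻¹) with hrdef
  have hk : ∀ k : ℕ, v ^ k * x * (v ^ k)⁻¹ = x * r ^ k := by
    intro k
    induction k with
    | zero => simp
    | succ k ihk =>
      have hvr : v * r ^ k * v⁻¹ = r ^ k := by
        rw [hcomm v hv _ (Subgroup.pow_mem _ hr k), mul_inv_cancel_right]
      calc v ^ (k + 1) * x * (v ^ (k + 1))⁻¹ = v * (v ^ k * x * (v ^ k)⁻¹) * v⁻¹ := by
            rw [pow_succ']; group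
        _ = v * x * v⁻¹ * (v * r ^ k * v⁻¹) := by rw [ihk]; group
        _ = x * r ^ (k + 1) := by
          rw [hvr, show v * x * v⁻¹ = x * r by rw [hrdef]; group, pow_succ', mul_assoc]
  have h1 := hk (orderOf v)
  rw [pow_orderOf_eq_one, inv_one, mul_one, one_mul, left_eq_mul] at h1
  obtain ⟨j, hj⟩ := hR.exists_orderOf_eq_pow ⟨r, hsub hr⟩
  rw [← Subgroup.orderOf_coe] at hj
  have hcop : (orderOf v).Coprime (orderOf r) := by
    rw [hj]
    refine (Nat.Coprime.pow_left _ ?_).symm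
    refine (Fact.out : p.Prime).coprime_iff_not_dvd.mpr fun h => hp (h.trans ?_)
    rw [← Subgroup.orderOf_mk v hv]; exact orderOf_dvd_natCard _
  have hr1 : r = 1 := orderOf_eq_one_iff.mp
    (Nat.eq_one_of_dvd_one (hcop ▸ Nat.dvd_gcd (orderOf_dvd_of_pow_eq_one h1) dvd_rfl))
  calc v * x = (v * x * v⁻¹) * v := by group
    _ = x * r * v := by rw [hrdef]; group
    _ = x * v := by rw [hr1, mul_one]


/-- Let N be a normal subgroup of the finite group G such that G/N is a Frobenius group with kernel F and cyclic complement H, where the order of F is coprime to that of N and F is not contained in the image of C_G(N) in G/N. Then G has an element of order p·#H for some prime p dividing the order of N. (A standard tool in recognising groups by their element orders.) -/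
theorem result {G : Type*} [Group G] [Finite G] (N : Subgroup G) [N.Normal]
    (Fb Hb : Subgroup (G ⧸ N)) [Fb.Normal] (hHb : Cfsg.IsFrobeniusComplement Hb) (hker : Cfsg.frobeniusKernel Hb = (Fb : Set (G ⧸ N)))
    (hcyc : IsCyclic Hb) (hcop : (Nat.card Fb).Coprime (Nat.card N))
    (hnot : ¬ Fb ≤ (Subgroup.centralizer (N : Set G)).map (QuotientGroup.mk' N)) :
    ∃ p : ℕ, p.Prime ∧ p ∣ Nat.card N ∧ ∃ g : G, orderOf g = p * Nat.card Hb := by
  classical
  by_contra hcon
  push Not at hcon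
  haveI := hcyc
  set m := Nat.card Hb with hmdef
  have hm : 0 < m := Nat.card_pos
  let π := QuotientGroup.mk' N
  obtain ⟨h, hgen⟩ := IsCyclic.exists_generator (α := Hb)
  have hord : orderOf (h : G ⧸ N) = m := by
    rw [Subgroup.orderOf_coe, hmdef]; exact orderOf_eq_card_of_forall_mem_zpowers hgen
  have hK : (Fb : Set (G ⧸ N)) = frobeniusKernel Hb := hker.symm
  have hcent : ∀ i, 0 < i → i < m → ∀ a b : G ⧸ N, a ∈ Fb →
      a * (b * (h : G ⧸ N) ^ i * b⁻¹) = b * (h : G ⧸ N) ^ i * b⁻¹ * a → a = 1 := by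
    intro i h0 hi a b ha hab
    have hne : (h : G ⧸ N) ^ i ≠ 1 := pow_ne_one_of_lt_orderOf h0.ne' (by rw [hord]; exact hi)
    have hmem : b⁻¹ * a * b ∈ Hb := Frob.centralizer_le hHb (Hb.pow_mem h.2 i) hne
      (Subgroup.mem_centralizer_singleton_iff.mpr (by
        calc b⁻¹ * a * b * (h : G ⧸ N) ^ i = b⁻¹ * (a * (b * (h : G ⧸ N) ^ i * b⁻¹)) * b := by group
          _ = b⁻¹ * (b * (h : G ⧸ N) ^ i * b⁻¹ * a) * b := by rw [hab]
          _ = (h : G ⧸ N) ^ i * (b⁻¹ * a * b) := by group))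
    have h' : b⁻¹ * a * b ∈ Fb := by simpa using (inferInstance : Fb.Normal).conj_mem a ha b⁻¹
    have h1 : b⁻¹ * a * b = 1 := Frob.eq_one_of_mem_kernel_of_mem (hK ▸ h') hmem
    calc a = b * (b⁻¹ * a * b) * b⁻¹ := by group
      _ = 1 := by rw [h1]; group
  have hconj : ∀ f ∈ Fb, 1 < m → ∃ b : G ⧸ N, f * (h : G ⧸ N) = b * (h : G ⧸ N) * b⁻¹ := by
    intro f hf h1
    let σ : Fb → Fb := fun a => ⟨(a : G ⧸ N) * ((h : G ⧸ N) * (a : G ⧸ N)⁻¹ * (h : G ⧸ N)⁻¹),
      Fb.mul_mem a.2 ((inferInstance : Fb.Normal).conj_mem _ (Fb.inv_mem a.2) _)⟩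
    have hσ : Function.Injective σ := by
      intro u w e
      have e' : (u : G ⧸ N) * ((h : G ⧸ N) * (u : G ⧸ N)⁻¹ * (h : G ⧸ N)⁻¹)
          = (w : G ⧸ N) * ((h : G ⧸ N) * (w : G ⧸ N)⁻¹ * (h : G ⧸ N)⁻¹) := congrArg Subtype.val e
      have := hcent 1 one_pos h1 ((w : G ⧸ N)⁻¹ * u) 1 (Fb.mul_mem (Fb.inv_mem w.2) u.2) (by
        simp only [one_mul, pow_one, inv_one, mul_one]
        calc (w : G ⧸ N)⁻¹ * u * (h : G ⧸ N)
            = (w : G ⧸ N)⁻¹ * ((u : G ⧸ N) * ((h : G ⧸ N) * (u : G ⧸ N)⁻¹ * (h : G ⧸ N)⁻¹)) * (h : G ⧸ N) * u := by group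
          _ = (w : G ⧸ N)⁻¹ * ((w : G ⧸ N) * ((h : G ⧸ N) * (w : G ⧸ N)⁻¹ * (h : G ⧸ N)⁻¹)) * (h : G ⧸ N) * u := by rw [e']
          _ = (h : G ⧸ N) * ((w : G ⧸ N)⁻¹ * u) := by group)
      exact Subtype.ext (inv_mul_eq_one.mp this).symm
    obtain ⟨a, ha⟩ := Finite.injective_iff_surjective.mp hσ ⟨f, hf⟩
    refine ⟨a, ?_⟩
    rw [← show (a : G ⧸ N) * ((h : G ⧸ N) * (a : G ⧸ N)⁻¹ * (h : G ⧸ N)⁻¹) = f from congrArg Subtype.val ha]
    group
  have hm1 : 1 < m := (Subgroup.one_lt_card_iff_ne_bot Hb).mpr hHb.1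
  -- every lift of a conjugate of the generator has order m
  have hlift : ∀ g : G, (∃ b, π g = b * (h : G ⧸ N) * b⁻¹) → g ^ m = 1 := by
    rintro g ⟨b, hb⟩
    by_contra hne
    have hgN : g ^ m ∈ N := by
      rw [← QuotientGroup.eq_one_iff (N := N)]
      show π (g ^ m) = 1
      rw [map_pow, hb, conj_pow, ← hord, pow_orderOf_eq_one]
      group
    have ho1 : orderOf (g ^ m) ≠ 1 := fun e => hne (orderOf_eq_one_iff.mp e)
    obtain ⟨q, hq, hqd⟩ := Nat.exists_prime_and_dvd ho1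
    have hmd : m ∣ orderOf g := by
      have := orderOf_map_dvd π g
      rwa [hb, show orderOf (b * (h : G ⧸ N) * b⁻¹) = m from
        ((MulEquiv.orderOf_eq (MulAut.conj b) (h : G ⧸ N)).trans hord)] at this
    have hqm : q * m ∣ orderOf g := by
      rw [orderOf_pow_of_dvd hm.ne' hmd] at hqd
      have := Nat.mul_dvd_mul_right hqd m
      rwa [Nat.div_mul_cancel hmd] at this
    refine hcon q hq (hqd.trans (by
      rw [← Subgroup.orderOf_mk (g ^ m) hgN]; exact orderOf_dvd_natCard _)) (g ^ (orderOf g / (q * m))) ?_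
    exact orderOf_pow_orderOf_div (orderOf_pos g).ne' hqm
  apply hnot
  set C := (Subgroup.centralizer (N : Set G)).map (QuotientGroup.mk' N) with hCdef
  have hsyl : ∀ q : ℕ, q.Prime → ∀ Q : Sylow q Fb, q ∣ Nat.card Fb →
      (Q : Subgroup Fb).map Fb.subtype ≤ C := by
    intro q hq Qs hqF
    haveI := Fact.mk hq
    set Q : Subgroup (G ⧸ N) := (Qs : Subgroup Fb).map Fb.subtype with hQdef
    have hQF : Q ≤ Fb := Subgroup.map_subtype_le _
    have hQp : IsPGroup q Q := Qs.isPGroup'.map _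
    have hqN : ¬ q ∣ Nat.card N := fun hd => hq.ne_one
      (Nat.eq_one_of_dvd_one (hcop ▸ Nat.dvd_gcd hqF hd))
    let Qh : Subgroup G := Q.comap π
    have hNQh : N ≤ Qh := fun x hx => by
      show π x ∈ Q
      rw [show π x = 1 from (QuotientGroup.eq_one_iff x).mpr hx]
      exact Q.one_mem
    obtain ⟨S⟩ := (inferInstance : Nonempty (Sylow q Qh))
    let Q0 : Subgroup G := (S : Subgroup Qh).map Qh.subtype
    have hQ0p : IsPGroup q Q0 := S.isPGroup'.map _
    have hQ0le : Q0 ≤ Qh := Subgroup.map_subtype_le _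
    have hker : π.ker = N := QuotientGroup.ker_mk' N
    have hinj : ∀ u ∈ Q0, π u = 1 → u = 1 := by
      intro u hu h1
      rw [← MonoidHom.mem_ker, hker] at h1
      obtain ⟨k, hk⟩ := hQ0p.exists_orderOf_eq_pow ⟨u, hu⟩
      rw [Subgroup.orderOf_mk] at hk
      have hd : orderOf u ∣ Nat.card N := by
        rw [← Subgroup.orderOf_mk u h1]; exact orderOf_dvd_natCard _
      refine orderOf_eq_one_iff.mp (Nat.eq_one_of_dvd_one ?_)
      have := Nat.dvd_gcd (dvd_refl (orderOf u)) hd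
      rwa [show (orderOf u).gcd (Nat.card N) = 1 from by
        rw [hk]; exact Nat.Coprime.pow_left k (hq.coprime_iff_not_dvd.mpr hqN)] at this
    have hQhcard : Nat.card Qh = Nat.card Q * Nat.card N := by
      exact (QuotientGroup.card_preimage_mk N (Q : Set (G ⧸ N))).trans (mul_comm _ _)
    have hQ0card : Nat.card Q0 = Nat.card Q := by
      obtain ⟨k, hk⟩ := IsPGroup.iff_card.mp hQp
      show Nat.card ((S : Subgroup Qh).map Qh.subtype) = _
      rw [Subgroup.card_map_of_injective Qh.subtype_injective, S.card_eq_multiplicity, hQhcard, hk,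
        Nat.factorization_mul (pow_pos hq.pos k).ne' Nat.card_pos.ne', Finsupp.add_apply,
        Nat.factorization_eq_zero_of_not_dvd hqN, hq.factorization_pow, Finsupp.single_eq_same,
        Nat.add_zero]
    have hQ0map : Q0.map π = Q := by
      refine Subgroup.eq_of_le_of_card_ge (Subgroup.map_le_iff_le_comap.mpr hQ0le) ?_
      rw [← hQ0card]
      refine le_of_eq (Nat.card_congr (Equiv.ofBijective (fun u : Q0 => (⟨π u, u, u.2, rfl⟩ : Q0.map π))
        ⟨fun a b hab => ?_, fun ⟨w, u, hu, hw⟩ => ⟨⟨u, hu⟩, Subtype.ext hw⟩⟩))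
      have hab' : π a = π b := congrArg Subtype.val hab
      have := hinj _ (Q0.mul_mem a.2 (Q0.inv_mem b.2)) (by rw [map_mul, map_inv, hab', mul_inv_cancel])
      exact Subtype.ext (mul_inv_eq_one.mp this)
    -- an element over a conjugate of h normalizing Q0
    obtain ⟨nb, hnb, fb, hfb, hnf⟩ : ∃ nb ∈ Subgroup.normalizer (Q : Set (G ⧸ N)), ∃ fb ∈ Fb, nb * fb = h := by
      have := Qs.normalizer_sup_eq_top
      rw [← hQdef] at this
      exact Subgroup.mem_sup_of_normal_right.mp (this ▸ Subgroup.mem_top (h : G ⧸ N))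
    obtain ⟨b, hb⟩ := hconj ((h : G ⧸ N) * fb⁻¹ * (h : G ⧸ N)⁻¹)
      ((inferInstance : Fb.Normal).conj_mem _ (Fb.inv_mem hfb) (h : G ⧸ N)) hm1
    obtain ⟨g0, hg0⟩ := QuotientGroup.mk'_surjective N nb
    have hg0' : π g0 = b * (h : G ⧸ N) * b⁻¹ := by
      rw [← hb, show π g0 = nb from hg0, ← hnf]; group
    have hconjQh : ∀ u ∈ Qh, g0 * u * g0⁻¹ ∈ Qh := by
      intro u hu
      show π (g0 * u * g0⁻¹) ∈ Q
      rw [map_mul, map_mul, map_inv, show π g0 = nb from hg0]
      exact (Subgroup.mem_normalizer_iff.mp hnb _).mp hu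
    let S' : Sylow q Qh := Sylow.ofCard ((Q0.map (MulAut.conj g0).toMonoidHom).subgroupOf Qh) (by
      have hle : Q0.map (MulAut.conj g0).toMonoidHom ≤ Qh := by
        rintro _ ⟨u, hu, rfl⟩; exact hconjQh u (hQ0le hu)
      rw [Nat.card_congr (Subgroup.subgroupOfEquivOfLe hle).toEquiv,
        Subgroup.card_map_of_injective (MulAut.conj g0).injective, ← S.card_eq_multiplicity]
      exact Subgroup.card_map_of_injective Qh.subtype_injective)
    obtain ⟨t, ht⟩ := MulAction.exists_smul_eq Qh S S'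
    have hst : ∀ u ∈ Q0, ∃ w ∈ Q0, g0 * u * g0⁻¹ = (t : G) * w * (t : G)⁻¹ := by
      intro u hu
      have hu' : (⟨g0 * u * g0⁻¹, hconjQh u (hQ0le hu)⟩ : Qh) ∈ (S' : Subgroup Qh) := ⟨u, hu, rfl⟩
      rw [← ht, Sylow.coe_subgroup_smul, Subgroup.mem_pointwise_smul_iff_inv_smul_mem] at hu'
      refine ⟨_, ⟨_, hu', rfl⟩, ?_⟩
      show g0 * u * g0⁻¹ = (t : G) * ((MulAut.conj t)⁻¹ ⟨g0 * u * g0⁻¹, _⟩ : Qh) * (t : G)⁻¹
      rw [MulAut.conj_inv_apply]
      simp [mul_assoc]
    obtain ⟨tq, htq, tn, htn, htt⟩ : ∃ tq ∈ Q0, ∃ tn ∈ N, tn * tq = (t : G) := by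
      have htQ : π t ∈ Q0.map π := by rw [hQ0map]; exact t.2
      obtain ⟨tq, htq, e⟩ := htQ
      refine ⟨tq, htq, t * tq⁻¹, ?_, by group⟩
      rw [← hker, MonoidHom.mem_ker, map_mul, map_inv, e, mul_inv_cancel]
    let g := tn⁻¹ * g0
    have hgQ0 : ∀ u ∈ Q0, g * u * g⁻¹ ∈ Q0 := by
      intro u hu
      obtain ⟨w, hw, e⟩ := hst u hu
      have : g * u * g⁻¹ = tq * w * tq⁻¹ := by
        show tn⁻¹ * g0 * u * (tn⁻¹ * g0)⁻¹ = _
        calc tn⁻¹ * g0 * u * (tn⁻¹ * g0)⁻¹ = tn⁻¹ * (g0 * u * g0⁻¹) * tn := by group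
          _ = _ := by rw [e, ← htt]; group
      rw [this]
      exact Q0.mul_mem (Q0.mul_mem htq hw) (Q0.inv_mem htq)
    have hgn : g ∈ Subgroup.normalizer (Q0 : Set G) := by
      rw [Subgroup.mem_normalizer_iff]
      intro u
      refine ⟨hgQ0 u, fun hu => ?_⟩
      let φ : Q0 → Q0 := fun w => ⟨g * w * g⁻¹, hgQ0 w w.2⟩
      have hφ : Function.Injective φ := fun a b hab =>
        Subtype.ext (mul_left_cancel (mul_right_cancel (congrArg Subtype.val hab : g * a * g⁻¹ = g * b * g⁻¹)))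
      obtain ⟨w, hw⟩ := Finite.injective_iff_surjective.mp hφ ⟨_, hu⟩
      have : g * w * g⁻¹ = g * u * g⁻¹ := congrArg Subtype.val hw
      rw [← mul_left_cancel (mul_right_cancel this)]
      exact w.2
    have hπg : π g = b * (h : G ⧸ N) * b⁻¹ := by
      show π (tn⁻¹ * g0) = _
      rw [map_mul, map_inv, show π tn = 1 from (QuotientGroup.eq_one_iff tn).mpr htn, inv_one, one_mul, hg0']
    -- Q0 centralizes a Sylow p-subgroup of N for every p
    have hcen : ∀ p : ℕ, p.Prime → ∃ P : Sylow p N, ∀ u ∈ Q0, ∀ x ∈ (P : Subgroup N).map N.subtype, u * x = x * u := by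
      intro p hp
      haveI := Fact.mk hp
      by_cases hpN : p ∣ Nat.card N
      swap
      · obtain ⟨P⟩ := (inferInstance : Nonempty (Sylow p N))
        refine ⟨P, fun u _ x hx => ?_⟩
        obtain ⟨z, hz, rfl⟩ := hx
        obtain ⟨k, hk⟩ := P.isPGroup'.exists_orderOf_eq_pow ⟨z, hz⟩
        rw [Subgroup.orderOf_mk] at hk
        rcases Nat.eq_zero_or_pos k with rfl | hk0
        · rw [pow_zero, orderOf_eq_one_iff] at hk
          simp [hk]
        · exact absurd ((dvd_pow_self p hk0.ne').trans (hk ▸ orderOf_dvd_natCard z)) hpN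
      have htransN : ∀ P R : Sylow p N, ∃ n : N, (P : Subgroup N).map (MulAut.conj n).toMonoidHom = R := by
        intro P R
        obtain ⟨n, hn⟩ := MulAction.exists_smul_eq N P R
        exact ⟨n, by rw [← hn]; rfl⟩
      letI : MulAction G (Sylow p N) := MulAction.compHom _ (MulAut.conjNormal (H := N))
      have hsmul : ∀ (a : G) (P : Sylow p N) (x : G),
          x ∈ (P : Subgroup N).map N.subtype → a * x * a⁻¹ ∈ ((a • P : Sylow p N) : Subgroup N).map N.subtype := by
        rintro a P _ ⟨z, hz, rfl⟩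
        exact ⟨MulAut.conjNormal a z, ⟨z, hz, rfl⟩, MulAut.conjNormal_apply a z⟩
      obtain ⟨P0, hP0⟩ := hQ0p.nonempty_fixed_point_of_prime_not_dvd_card (Sylow p N)
        (fun hd => hqN (hd.trans (Classical.arbitrary (Sylow p N)).card_dvd_index |>.trans (Subgroup.index_dvd_card _)))
      have hP0' : ∀ u ∈ Q0, u • P0 = P0 := fun u hu => hP0 ⟨u, hu⟩
      set P1 := g • P0 with hP1def
      have hP1' : ∀ u ∈ Q0, u • P1 = P1 := by
        intro u hu
        have h' : g⁻¹ * u * g ∈ Q0 := by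
          have := (Subgroup.mem_normalizer_iff.mp ((Subgroup.normalizer (Q0 : Set G)).inv_mem hgn) u).mp hu
          simpa using this
        rw [hP1def, ← mul_smul, show u * g = g * (g⁻¹ * u * g) by group, mul_smul, hP0' _ h']
      let X : Type _ := {n : N // (n : G) • P0 = P1}
      letI : MulAction Q0 X :=
        { smul := fun u n => ⟨⟨(u : G) * (n.1 : G) * (u : G)⁻¹, (inferInstance : N.Normal).conj_mem _ n.1.2 _⟩, by
            show ((u : G) * (n.1 : G) * (u : G)⁻¹) • P0 = P1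
            rw [mul_smul, mul_smul, hP0' _ (Q0.inv_mem u.2), n.2, hP1' _ u.2]⟩
          one_smul := fun n => Subtype.ext (Subtype.ext (show ((1 : Q0) : G) * (n.1 : G) * ((1 : Q0) : G)⁻¹ = _ by simp))
          mul_smul := fun u w n => Subtype.ext (Subtype.ext (show
            ((u * w : Q0) : G) * (n.1 : G) * ((u * w : Q0) : G)⁻¹
              = (u : G) * ((w : G) * (n.1 : G) * (w : G)⁻¹) * (u : G)⁻¹ by simp [mul_assoc])) }
      obtain ⟨n0, hn0'⟩ := htransN P0 P1
      have hn0 : (n0 : G) • P0 = P1 := by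
        apply Sylow.ext
        rw [← hn0']
        show (P0 : Subgroup N).map (MulAut.conjNormal (n0 : G)).toMonoidHom = _
        congr 1
      have hXc : Nat.card X = Nat.card (MulAction.stabilizer N P0) := by
        refine Nat.card_congr
          { toFun := fun n => ⟨n0⁻¹ * n.1, ?_⟩
            invFun := fun s => ⟨n0 * s.1, ?_⟩
            left_inv := fun n => Subtype.ext (mul_inv_cancel_left _ _)
            right_inv := fun s => Subtype.ext (inv_mul_cancel_left _ _) }
        · rw [MulAction.mem_stabilizer_iff, mul_smul, inv_smul_eq_iff]; exact n.2.trans hn0.symm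
        · show ((n0 : G) * (s.1 : G)) • P0 = P1
          rw [mul_smul, show (s.1 : G) • P0 = P0 from s.2, hn0]
      obtain ⟨n, hn⟩ := hQ0p.nonempty_fixed_point_of_prime_not_dvd_card X (by
        rw [hXc]; exact fun hd => hqN (hd.trans (Subgroup.card_subgroup_dvd_card _)))
      have hncomm : ∀ u ∈ Q0, u * (n.1 : G) = (n.1 : G) * u := by
        intro u hu
        have : u * (n.1 : G) * u⁻¹ = (n.1 : G) := congrArg (fun z : X => (z.1 : G)) (hn ⟨u, hu⟩)
        calc u * (n.1 : G) = u * (n.1 : G) * u⁻¹ * u := by group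
          _ = _ := by rw [this]
      let y := (n.1 : G)⁻¹ * g
      have hπy : π y = b * (h : G ⧸ N) * b⁻¹ := by
        show π ((n.1 : G)⁻¹ * g) = _
        rw [map_mul, map_inv, show π (n.1 : G) = 1 from (QuotientGroup.eq_one_iff _).mpr n.1.2, inv_one, one_mul, hπg]
      refine ⟨P0, commute_of_norm Q0 y m hm ?_ ?_ ?_ ((P0 : Subgroup N).map N.subtype) (P0.isPGroup'.map _) ?_ ?_ ?_⟩
      · intro hd
        obtain ⟨k, hk⟩ := IsPGroup.iff_card.mp hQ0p
        rw [hk] at hd
        exact hqN ((Nat.prime_dvd_prime_iff_eq hp hq).mp (hp.dvd_of_dvd_pow hd) ▸ hpN)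
      · refine mul_mem (inv_mem ?_) hgn
        rw [Subgroup.mem_normalizer_iff]
        intro u
        constructor
        · intro hu; rw [← hncomm u hu, mul_inv_cancel_right]; exact hu
        · intro hu
          have := hncomm _ hu
          rw [inv_mul_cancel_right] at this
          rwa [← mul_left_cancel this] at hu
      · intro i h0 hi u hu hc
        apply hinj u hu
        refine hcent i h0 hi (π u) b (hQF (hQ0map ▸ ⟨u, hu, rfl⟩)) ?_
        have := congrArg π hc
        rwa [map_mul, map_mul, map_pow, hπy, conj_pow] at this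
      · intro u hu
        rw [Subgroup.mem_normalizer_iff]
        intro x
        constructor
        · intro hx; have := hsmul u P0 x hx; rwa [hP0' u hu] at this
        · intro hx
          have := hsmul u⁻¹ P0 _ hx
          rw [hP0' _ (Q0.inv_mem hu)] at this
          simpa [mul_assoc] using this
      · have hy0 : y • P0 = P0 := by
          show ((n.1 : G)⁻¹ * g) • P0 = P0
          rw [mul_smul, inv_smul_eq_iff]; exact n.2.symm
        rw [Subgroup.mem_normalizer_iff]
        intro x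
        constructor
        · intro hx; have := hsmul y P0 x hx; rwa [hy0] at this
        · intro hx
          have := hsmul y⁻¹ P0 _ hx
          rw [show y⁻¹ • P0 = P0 from inv_smul_eq_iff.mpr hy0.symm] at this
          simpa [mul_assoc] using this
      · intro u hu x hx
        refine hlift _ ⟨π u * b, ?_⟩
        rw [map_mul, show π x = 1 from (QuotientGroup.eq_one_iff x).mpr (Subgroup.map_subtype_le _ hx),
          one_mul, map_mul, map_mul, map_inv, hπy]
        group
    have hNcen : N ≤ Subgroup.centralizer (Q0 : Set G) := by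
      set K := (Subgroup.centralizer (Q0 : Set G)).subgroupOf N with hKdef
      have : K = ⊤ := by
        refine Subgroup.eq_top_of_le_card K (Nat.le_of_dvd Nat.card_pos ?_)
        refine (Nat.dvd_iff_prime_pow_dvd_dvd _ _).mpr fun p k hp hd => ?_
        haveI := Fact.mk hp
        obtain ⟨P, hP⟩ := hcen p hp
        have hle : (P : Subgroup N) ≤ K := fun z hz =>
          Subgroup.mem_centralizer_iff.mpr fun u hu => hP u hu z ⟨z, hz, rfl⟩
        refine Dvd.dvd.trans ?_ (Subgroup.card_dvd_of_le hle)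
        exact P.pow_dvd_card_of_pow_dvd_card hd
      intro x hx
      exact (this ▸ Subgroup.mem_top (⟨x, hx⟩ : N) : (⟨x, hx⟩ : N) ∈ K)
    rw [← hQ0map]
    exact Subgroup.map_mono (Subgroup.le_centralizer_iff.mp hNcen)
  have hFC : C.subgroupOf Fb = ⊤ := by
    refine Subgroup.eq_top_of_le_card _ (Nat.le_of_dvd Nat.card_pos ?_)
    refine (Nat.dvd_iff_prime_pow_dvd_dvd _ _).mpr fun p k hp hd => ?_
    rcases Nat.eq_zero_or_pos k with rfl | hk
    · simp
    haveI := Fact.mk hp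
    obtain ⟨P⟩ := (inferInstance : Nonempty (Sylow p Fb))
    have hle : (P : Subgroup Fb) ≤ C.subgroupOf Fb := fun z hz =>
      hsyl p hp P ((dvd_pow_self p hk.ne').trans hd) ⟨z, hz, rfl⟩
    exact (P.pow_dvd_card_of_pow_dvd_card hd).trans (Subgroup.card_dvd_of_le hle)
  exact Subgroup.subgroupOf_eq_top.mp hFC

end Cfsg.Agent.S3703
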