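import Cfsg.Statements.S3704
import Mathlib

set_option autoImplicit false
open Cfsg

namespace Cfsg.Agent.S3704

/-- Let G be a finite group acting faithfully and 2-transitively on a finite set Ω of size n, and let H be a subgroup of index n in G which is not transitive on Ω and fixes no point of Ω. Then H has exactly two orbits on Ω. -/
theorem result {G Ω : Type*} [Group G] [Finite G] [MulAction G Ω] [FaithfulSMul G Ω] [Finite Ω] (h2 : MulAction.IsMultiplyPretransitive G Ω 2) (H : Subgroup G) (hidx : H.index = Nat.card Ω) (hnt : ¬ MulAction.IsPretransitive H Ω) (hfix : ∀ a : Ω, ∃ h : H, h • a ≠ a) : Nat.card (MulAction.orbitRel.Quotient H Ω) = 2 := by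
  classical
  let _ := Fintype.ofFinite Ω
  let _ := Fintype.ofFinite (G ⧸ H)
  have h2' : ∀ {a b c d : Ω}, a ≠ b → c ≠ d → ∃ g : G, g • a = c ∧ g • b = d := MulAction.is_two_pretransitive_iff.mp h2
  haveI : MulAction.IsPretransitive G Ω := MulAction.isPretransitive_of_is_two_pretransitive
  by_contra hne
  -- there are three orbits
  haveI : Nonempty Ω := by
    by_contra hΩ
    rw [not_nonempty_iff] at hΩ
    rw [Nat.card_of_isEmpty] at hidx
    exact Subgroup.index_ne_zero_of_finite hidx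
  have hge : 2 ≤ Nat.card (MulAction.orbitRel.Quotient H Ω) := by
    by_contra hcon
    refine hnt ⟨fun a b => ?_⟩
    have : Subsingleton (MulAction.orbitRel.Quotient H Ω) := Finite.card_le_one_iff_subsingleton.mp (by omega)
    obtain ⟨h, hh⟩ := Quotient.eq''.mp (Subsingleton.elim (Quotient.mk'' b : MulAction.orbitRel.Quotient H Ω) (Quotient.mk'' a))
    exact ⟨h, hh⟩
  obtain ⟨u, v, w, huv, huw, hvw⟩ : ∃ u v w : MulAction.orbitRel.Quotient H Ω, u ≠ v ∧ u ≠ w ∧ v ≠ w := by
    let _ := Fintype.ofFinite (MulAction.orbitRel.Quotient H Ω)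
    rw [Nat.card_eq_fintype_card] at hge hne
    exact Fintype.two_lt_card_iff.mp (by omega)
  induction u using Quotient.inductionOn' with | _ a₁ =>
  induction v using Quotient.inductionOn' with | _ a₂ =>
  induction w using Quotient.inductionOn' with | _ a₃ =>
  -- incidence matrices
  let O : Ω → Set Ω := fun a => MulAction.orbit H a
  have hwd : ∀ (a ω : Ω) (x y : G), (QuotientGroup.mk x : G ⧸ H) = QuotientGroup.mk y → (x⁻¹ • ω ∈ O a ↔ y⁻¹ • ω ∈ O a) := by
    intro a ω x y hxy
    have hm := QuotientGroup.eq.mp hxy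
    have e : x⁻¹ • ω = (⟨x⁻¹ * y, hm⟩ : H) • (y⁻¹ • ω) := by
      rw [Subgroup.smul_def, ← mul_smul, mul_inv_cancel_right]
    rw [e]
    refine ⟨fun h => ?_, fun h => MulAction.mem_orbit_of_mem_orbit _ h⟩
    have h' := MulAction.mem_orbit_of_mem_orbit (⟨x⁻¹ * y, hm⟩ : H)⁻¹ h
    rwa [inv_smul_smul] at h'
  let M : Ω → Matrix (G ⧸ H) Ω ℚ := fun a => Matrix.of fun q ω => if q.out⁻¹ • ω ∈ O a then 1 else 0
  have hM : ∀ a x ω, M a (QuotientGroup.mk x) ω = if x⁻¹ • ω ∈ O a then 1 else 0 := fun a x ω => by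
    simp only [M, Matrix.of_apply]
    exact if_congr (hwd a ω _ _ (QuotientGroup.out_eq' _)) rfl rfl
  have hinv : ∀ a (g : G) q ω, M a (g • q) (g • ω) = M a q ω := fun a g q ω => by
    obtain ⟨x, rfl⟩ := QuotientGroup.mk_surjective q
    rw [MulAction.Quotient.smul_mk, hM, hM, smul_eq_mul, mul_inv_rev, mul_smul, inv_smul_smul]
  -- injectivity of the incidence matrix of a proper orbit
  have hinj : ∀ a b : Ω, (Quotient.mk'' a : MulAction.orbitRel.Quotient H Ω) ≠ Quotient.mk'' b →
      ∀ f : Ω → ℚ, (M a).mulVec f = 0 → f = 0 := by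
    intro a b hab f hf
    let C : Ω → Ω → ℚ := fun ω ω' => ∑ q, M a q ω * M a q ω'
    have hC : ∀ (g : G) ω ω', C (g • ω) (g • ω') = C ω ω' := fun g ω ω' => by
      simp only [C]
      rw [← Equiv.sum_comp (MulAction.toPerm g)]
      simp [hinv]
    have hba : b ∉ O a := fun h => hab (Quotient.sound' h).symm
    have hne' : a ≠ b := fun h => hab (by rw [h])
    have hdiag : ∀ ω, C ω ω = C a a := fun ω => by
      obtain ⟨g, rfl⟩ := MulAction.exists_smul_eq (M := G) a ω
      exact hC g a a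
    have hoff : ∀ ω ω', ω ≠ ω' → C ω ω' = C a b := fun ω ω' h => by
      obtain ⟨g, rfl, rfl⟩ := h2' hne' h
      exact hC g a b
    have hlt : C a b < C a a := by
      refine Finset.sum_lt_sum (fun q _ => ?_) ⟨QuotientGroup.mk 1, Finset.mem_univ _, ?_⟩
      · simp only [M, Matrix.of_apply]; split_ifs <;> norm_num
      · simp [hM, hba, O, MulAction.mem_orbit_self]
    have hnn : 0 ≤ C a b := Finset.sum_nonneg fun q _ => by simp only [M, Matrix.of_apply]; split_ifs <;> norm_num
    have hzero : (∑ ω, ∑ ω', f ω * f ω' * C ω ω') = 0 := by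
      have e : (∑ ω, ∑ ω', f ω * f ω' * C ω ω') = ∑ q, ((M a).mulVec f q) ^ 2 := by
        simp only [C, Matrix.mulVec, dotProduct, Finset.mul_sum, pow_two, Finset.sum_mul]
        rw [Finset.sum_comm_cycle]
        refine Finset.sum_congr rfl fun q _ => Finset.sum_congr rfl fun ω _ => Finset.sum_congr rfl fun ω' _ => ?_
        ring
      rw [e, hf]; simp
    have e2 : (∑ ω, ∑ ω', f ω * f ω' * C ω ω') = C a b * (∑ ω, f ω) ^ 2 + (C a a - C a b) * ∑ ω, f ω ^ 2 := by
      rw [pow_two, Finset.sum_mul_sum, Finset.mul_sum, Finset.mul_sum, ← Finset.sum_add_distrib]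
      refine Finset.sum_congr rfl fun ω _ => ?_
      rw [Finset.mul_sum]
      have : ∀ ω', f ω * f ω' * C ω ω' = C a b * (f ω * f ω') + (if ω' = ω then (C a a - C a b) * f ω ^ 2 else 0) := by
        intro ω'
        split_ifs with h
        · subst h; rw [hdiag]; ring
        · rw [hoff ω ω' (Ne.symm h)]; ring
      rw [Finset.sum_congr rfl fun ω' _ => this ω', Finset.sum_add_distrib, Finset.sum_ite_eq']
      simp
    rw [e2] at hzero
    have hs : ∑ ω, f ω ^ 2 = 0 := by
      have h1 : 0 ≤ ∑ ω, f ω ^ 2 := Finset.sum_nonneg fun ω _ => sq_nonneg _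
      nlinarith [sq_nonneg (∑ ω, f ω)]
    funext ω
    exact pow_eq_zero_iff two_ne_zero |>.mp ((Finset.sum_eq_zero_iff_of_nonneg fun ω _ => sq_nonneg _).mp hs ω (Finset.mem_univ _))
  -- M a₁ is invertible, so M a₂ = M a₁ * T with T invariant
  have hcard : Fintype.card (G ⧸ H) = Fintype.card Ω := by
    rw [← Nat.card_eq_fintype_card, ← Nat.card_eq_fintype_card]; exact hidx
  have hbij : Function.Bijective (Matrix.mulVecLin (M a₁)) := by
    have hi : Function.Injective (Matrix.mulVecLin (M a₁)) := by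
      rw [injective_iff_map_eq_zero]
      exact hinj a₁ a₂ huv
    exact ⟨hi, (LinearMap.injective_iff_surjective_of_finrank_eq_finrank (by simp [hcard])).mp hi⟩
  choose T hT using fun ω' : Ω => hbij.2 (fun q => M a₂ q ω')
  have hTe : ∀ q ω', ∑ ω, M a₁ q ω * T ω' ω = M a₂ q ω' := fun q ω' => congrFun (hT ω') q
  have hTinv : ∀ (g : G) ω ω', T (g • ω') (g • ω) = T ω' ω := by
    intro g ω ω'
    have : (fun z => T (g • ω') (g • z)) = T ω' := by
      refine hbij.1 ?_
      funext q
      show ∑ z, M a₁ q z * T (g • ω') (g • z) = ∑ z, M a₁ q z * T ω' z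
      rw [hTe, ← hinv a₂ g q ω', ← hTe (g • q) (g • ω'), ← Equiv.sum_comp (MulAction.toPerm g) (fun z => M a₁ (g • q) z * T (g • ω') z)]
      simp [hinv]
    exact congrFun this ω
  have hab : a₁ ≠ a₂ := fun h => huv (by rw [h])
  set α := T a₁ a₁ - T a₁ a₂ with hα
  set γ := T a₁ a₂
  have hT' : ∀ ω ω', T ω' ω = γ + if ω = ω' then α else 0 := by
    intro ω ω'
    split_ifs with h
    · subst h
      obtain ⟨g, rfl⟩ := MulAction.exists_smul_eq (M := G) a₁ ω
      rw [hTinv, hα]; ring
    · obtain ⟨g, rfl, rfl⟩ := h2' hab (Ne.symm h)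
      rw [hTinv, add_zero]
  have hrow : ∀ ω', M a₂ (QuotientGroup.mk 1) ω' =
      α * M a₁ (QuotientGroup.mk 1) ω' + γ * ∑ ω, M a₁ (QuotientGroup.mk 1) ω := by
    intro ω'
    rw [← hTe]
    simp only [hT', mul_add, Finset.sum_add_distrib, mul_ite, mul_zero, Finset.sum_ite_eq', Finset.mem_univ, if_true]
    rw [← Finset.sum_mul]; ring
  have hmem : ∀ a b : Ω, (Quotient.mk'' a : MulAction.orbitRel.Quotient H Ω) ≠ Quotient.mk'' b → a ∉ O b :=
    fun a b h h' => h (Quotient.sound' h')
  have e3 := hrow a₃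
  have e2 := hrow a₂
  simp only [hM, inv_one, one_smul, hmem a₃ a₁ huw.symm, hmem a₃ a₂ hvw.symm, hmem a₂ a₁ huv.symm,
    show a₂ ∈ O a₂ from MulAction.mem_orbit_self _, if_true, if_false, mul_zero, zero_add] at e3 e2
  rw [← e3] at e2
  exact one_ne_zero e2

end Cfsg.Agent.S3704
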