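import Cfsg.Prelude
import Cfsg.Agent.Lib.Spor.ONan.Main
import Cfsg.Agent.Lib.Spor.ONan.Dual

set_option autoImplicit false
open Cfsg

namespace Cfsg.Agent.S3705

/-- Let G be a finite group acting faithfully and 2-transitively on a finite set Ω of size n, and let H be a subgroup of index n in G which is not transitive on Ω and fixes no point of Ω. Suppose H has a nontrivial solvable normal subgroup N that fixes some point of Ω. Then there are an integer m ≥ 2 and a finite field F with #Ω = (#F^(m+1) − 1)/(#F − 1), and G has a normal subgroup isomorphic to PSL_{m+1}(F) whose centralizer in G is trivial (so that G lies between PSL_{m+1}(F) and its automorphism group). -/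
theorem result {G Ω : Type*} [Group G] [Finite G] [MulAction G Ω] [FaithfulSMul G Ω] [Finite Ω] (h2 : MulAction.IsMultiplyPretransitive G Ω 2) (H : Subgroup G) (hidx : H.index = Nat.card Ω) (hnt : ¬ MulAction.IsPretransitive H Ω) (hfix : ∀ a : Ω, ∃ h : H, h • a ≠ a) (N : Subgroup H) (hN : N.Normal) (hN1 : N ≠ ⊥) (hsol : Group.IsSolvable N) (hNfix : ∃ a : Ω, ∀ x ∈ N, x • a = a) : ∃ (m : ℕ) (F : Type) (_ : Field F) (_ : Fintype F), 2 ≤ m ∧ Nat.card Ω = (Fintype.card F ^ (m + 1) - 1) / (Fintype.card F - 1) ∧ ∃ N : Subgroup G, N.Normal ∧ Nonempty (N ≃* Matrix.ProjectiveSpecialLinearGroup (Fin (m + 1)) F) ∧ Subgroup.centralizer (N : Set G) = ⊥ := by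
  classical
  obtain ⟨a, ha⟩ := hNfix
  have hcount := Spor.ONan.Dual.fix_count h2 H hidx hnt
  haveI : FaithfulSMul G (G ⧸ H) := Spor.ONan.Dual.faithful (Ω := Ω) hidx hcount
  have h2Q : MulAction.IsMultiplyPretransitive G (G ⧸ H) 2 := Spor.ONan.Dual.two_trans h2 hcount
  -- the last non-trivial term of the derived series
  haveI := hN
  obtain ⟨k, hk, hk'⟩ : ∃ k, derivedSeries N k ≠ ⊥ ∧ derivedSeries N (k + 1) = ⊥ := by
    by_contra hne
    push Not at hne
    obtain ⟨j, hj⟩ := (Group.isSolvable_def N).mp hsol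
    have hall : ∀ i, derivedSeries N i ≠ ⊥ := fun i => by
      induction i with
      | zero =>
        intro h
        rw [derivedSeries_zero] at h
        refine hN1 ((Subgroup.eq_bot_iff_forall N).mpr fun x hx => ?_)
        have hx' : (⟨x, hx⟩ : N) ∈ (⊥ : Subgroup N) := h ▸ Subgroup.mem_top _
        exact congrArg Subtype.val (Subgroup.mem_bot.mp hx')
      | succ i ih => exact hne i ih
    exact hall j hj
  haveI : (derivedSeries N k).Characteristic := derivedSeries_characteristic _ k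
  let B : Subgroup H := (derivedSeries N k).map N.subtype
  haveI hBn : B.Normal := inferInstance
  let A : Subgroup G := B.map H.subtype
  have hAle : A ≤ H := Subgroup.map_subtype_le B
  have hAnormal : ∀ g ∈ MulAction.stabilizer G ((1 : G) : G ⧸ H), ∀ n ∈ A, g * n * g⁻¹ ∈ A := by
    intro g hg n hn
    rw [MulAction.stabilizer_quotient] at hg
    obtain ⟨b, hb, rfl⟩ := hn
    exact ⟨(⟨g, hg⟩ : H) * b * (⟨g, hg⟩ : H)⁻¹, hBn.conj_mem b hb _, rfl⟩
  have hAab : ∀ n ∈ A, ∀ m ∈ A, n * m = m * n := by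
    rintro _ ⟨_, ⟨x, hx, rfl⟩, rfl⟩ _ ⟨_, ⟨y, hy, rfl⟩, rfl⟩
    have h : x * y * x⁻¹ * y⁻¹ ∈ derivedSeries N (k + 1) := Subgroup.commutator_mem_commutator hx hy
    rw [hk', Subgroup.mem_bot, mul_inv_eq_one, mul_inv_eq_iff_eq_mul] at h
    exact congrArg (fun z : N => ((z : H) : G)) h
  obtain ⟨x, hx, hx1⟩ : ∃ x ∈ derivedSeries N k, x ≠ 1 := by
    by_contra hne
    push Not at hne
    exact hk ((Subgroup.eq_bot_iff_forall _).mpr hne)
  set n₀ : G := ((x : H) : G) with hn₀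
  have hn₀A : n₀ ∈ A := ⟨(x : H), ⟨x, hx, rfl⟩, rfl⟩
  have hn₀1 : n₀ ≠ 1 := fun h => hx1 (Subtype.ext (Subtype.ext h))
  obtain ⟨h, hh⟩ := hfix a
  have hfa : ∀ z : N, ((z : H) : G) • a = a := fun z => ha z.1 z.2
  have hfb : n₀ • (h • a) = h • a := by
    have e : n₀ = (h : G) * ((h⁻¹ * x * h : H) : G) * (h : G)⁻¹ := by
      simp [hn₀, mul_assoc]
    have hmem : h⁻¹ * x * h ∈ N := by simpa using hN.conj_mem _ x.2 h⁻¹
    rw [Subgroup.smul_def, e, mul_smul, mul_smul, inv_smul_smul]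
    exact congrArg _ (ha _ hmem)
  have hnsr : ∃ n ∈ A, n ≠ 1 ∧ ∃ q : G ⧸ H, q ≠ ((1 : G) : G ⧸ H) ∧ n • q = q := by
    refine ⟨n₀, hn₀A, hn₀1, ?_⟩
    by_contra hne
    push Not at hne
    have h1 : Nat.card {q : G ⧸ H // n₀ • q = q} ≤ 1 :=
      Finite.card_le_one_iff_subsingleton.mpr ⟨fun p q => Subtype.ext (by
        have hp : (p : G ⧸ H) = ((1 : G) : G ⧸ H) := by_contra fun e => hne _ e p.2
        have hq : (q : G ⧸ H) = ((1 : G) : G ⧸ H) := by_contra fun e => hne _ e q.2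
        rw [hp, hq])⟩
    rw [← hcount n₀] at h1
    haveI := Finite.card_le_one_iff_subsingleton.mp h1
    exact hh (congrArg Subtype.val
      (Subsingleton.elim (⟨h • a, hfb⟩ : {ω : Ω // n₀ • ω = ω}) ⟨a, hfa x⟩))
  haveI : Nontrivial (G ⧸ H) := by
    obtain ⟨_, _, _, q, hq, -⟩ := hnsr
    exact ⟨⟨q, _, hq⟩⟩
  obtain ⟨d⟩ := Spor.ONan.exists_hyp h2Q ((1 : G) : G ⧸ H) A
    (by rw [MulAction.stabilizer_quotient]; exact hAle) hAnormal hAab hnsr
  obtain ⟨K, instK, instKf, n, hn, hcard, L, hL, he, hC⟩ := d.classify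
  obtain ⟨m, rfl⟩ : ∃ m, n = m + 1 := ⟨n - 1, by omega⟩
  exact ⟨m, K, instK, instKf, by omega, hidx.symm.trans hcard, L, hL, he, hC⟩

end Cfsg.Agent.S3705
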