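import Cfsg.Prelude
import Cfsg.Agent.S3704
import Cfsg.Agent.S3705
import Cfsg.Agent.Lib.Spor.ONan.DesignOf
import Cfsg.Agent.Lib.Grp.FrobeniusTheorem

set_option autoImplicit false
open Cfsg

namespace Cfsg.Agent.S3706

/-- Let G be a finite group acting faithfully and 2-transitively on a finite set Ω of size n, and let H be a subgroup of index n in G which is not transitive on Ω and fixes no point of Ω. Suppose H acts unfaithfully on one of its orbits: some non-identity element of H fixes every point of that orbit. Then there are an integer m ≥ 2 and a finite field F with #Ω = (#F^(m+1) − 1)/(#F − 1), and G has a normal subgroup isomorphic to PSL_{m+1}(F) whose centralizer in G is trivial (so that G lies between PSL_{m+1}(F) and its automorphism group). -/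
theorem result {G Ω : Type*} [Group G] [Finite G] [MulAction G Ω] [FaithfulSMul G Ω] [Finite Ω] (h2 : MulAction.IsMultiplyPretransitive G Ω 2) (H : Subgroup G) (hidx : H.index = Nat.card Ω) (hnt : ¬ MulAction.IsPretransitive H Ω) (hfix : ∀ a : Ω, ∃ h : H, h • a ≠ a) (hunf : ∃ a : Ω, ∃ h : H, h ≠ 1 ∧ ∀ b ∈ MulAction.orbit H a, h • b = b) : ∃ (m : ℕ) (F : Type) (_ : Field F) (_ : Fintype F), 2 ≤ m ∧ Nat.card Ω = (Fintype.card F ^ (m + 1) - 1) / (Fintype.card F - 1) ∧ ∃ N : Subgroup G, N.Normal ∧ Nonempty (N ≃* Matrix.ProjectiveSpecialLinearGroup (Fin (m + 1)) F) ∧ Subgroup.centralizer (N : Set G) = ⊥ := by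
  classical
  obtain ⟨a, h₁, hh₁, hfixO⟩ := hunf
  -- the kernel on the orbit, inside `H`
  let K : Subgroup H :=
    { carrier := {h | ∀ b ∈ MulAction.orbit H a, h • b = b}
      one_mem' := fun b _ => one_smul _ b
      mul_mem' := fun {x y} hx hy b hb => by rw [mul_smul, hy b hb, hx b hb]
      inv_mem' := fun {x} hx b hb => by rw [inv_smul_eq_iff, hx b hb] }
  have hKn : K.Normal := ⟨fun x hx g b hb => by
    have h := hx (g⁻¹ • b) (MulAction.mem_orbit_of_mem_orbit g⁻¹ hb)
    rw [mul_smul, mul_smul, h, smul_inv_smul]⟩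
  have hK1 : K ≠ ⊥ := fun e => hh₁ (Subgroup.mem_bot.mp (e ▸ (hfixO : h₁ ∈ K)))
  have hKa : ∀ x ∈ K, x • a = a := fun x hx => hx a (MulAction.mem_orbit_self a)
  suffices hsol : ∃ N : Subgroup H, N.Normal ∧ N ≠ ⊥ ∧ Group.IsSolvable N ∧ N ≤ K by
    obtain ⟨N, hN, hN1, hNs, hle⟩ := hsol
    exact S3705.result h2 H hidx hnt hfix N hN hN1 hNs ⟨a, fun x hx => hKa x (hle hx)⟩
  let _ := Fintype.ofFinite Ω
  let _ := Fintype.ofFinite (G ⧸ H)
  obtain ⟨D, hD⟩ := Spor.ONan.exists_design h2 H hidx hnt a (hfix a)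
  let B : G ⧸ H := ((1 : G) : G ⧸ H)
  have hHB : ∀ h : H, (h : G) • B = B := fun h =>
    MulAction.mem_stabilizer_iff.mp (by rw [MulAction.stabilizer_quotient]; exact h.2)
  have hFix : ∀ h ∈ K, D.FixesPtwise ((h : H) : G) B := fun h hh =>
    ⟨hHB h, fun x hx => hh x ((hD x).mp hx)⟩
  -- transitivity off the orbit
  have htrans : ∀ x y : Ω, x ∉ MulAction.orbit H a → y ∉ MulAction.orbit H a →
      ∃ g : H, g • x = y := by
    intro x y hx hy
    have h2c := S3704.result h2 H hidx hnt hfix
    have hx' : (Quotient.mk'' a : MulAction.orbitRel.Quotient H Ω) ≠ Quotient.mk'' x :=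
      fun e => hx (Quotient.eq''.mp e.symm)
    have hy' : (Quotient.mk'' a : MulAction.orbitRel.Quotient H Ω) ≠ Quotient.mk'' y :=
      fun e => hy (Quotient.eq''.mp e.symm)
    have hxy : (Quotient.mk'' x : MulAction.orbitRel.Quotient H Ω) = Quotient.mk'' y := by
      by_contra hne
      let _ := Fintype.ofFinite (MulAction.orbitRel.Quotient H Ω)
      rw [Nat.card_eq_fintype_card] at h2c
      have h3 : 2 < Fintype.card (MulAction.orbitRel.Quotient H Ω) :=
        Fintype.two_lt_card_iff.mpr ⟨_, _, _, hx', hy', hne⟩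
      omega
    exact Quotient.eq''.mp hxy.symm
  by_cases hsr : ∀ s ∈ K, s ≠ 1 → ∀ x, x ∉ MulAction.orbit H a → s • x ≠ x
  · -- semiregular: abelian
    have hcount := Spor.ONan.Dual.fix_count h2 H hidx hnt
    haveI : FaithfulSMul G (G ⧸ H) := Spor.ONan.Dual.faithful (Ω := Ω) hidx hcount
    have hQ' : ∀ {a b c d : G ⧸ H}, a ≠ b → c ≠ d → ∃ g : G, g • a = c ∧ g • b = d :=
      MulAction.is_two_pretransitive_iff.mp (Spor.ONan.Dual.two_trans h2 hcount)
    have hcomm := D.comm_of_semiregular (B := B) (K.map H.subtype)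
      (by rintro _ ⟨s, hs, rfl⟩; exact hFix s hs)
      (by
        rintro _ ⟨s, hs, rfl⟩ h1 x hx
        exact hsr s hs (fun e => h1 (by rw [e]; rfl)) x (fun h => hx ((hD x).mpr h)))
      hcount
      (by
        intro C hC
        by_contra hall
        push Not at hall
        obtain ⟨s, hs, hs1⟩ : ∃ s ∈ K, s ≠ 1 := by
          by_contra hne
          push Not at hne
          exact hK1 ((Subgroup.eq_bot_iff_forall K).mpr hne)
        refine hs1 (Subtype.ext (FaithfulSMul.eq_of_smul_eq_smul (α := G ⧸ H) fun q => ?_))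
        rw [Subgroup.coe_one, one_smul]
        rcases eq_or_ne q B with rfl | hq
        · exact hHB s
        obtain ⟨g, hgB, hgC⟩ := hQ' hC.symm hq.symm
        have hgH : g ∈ H := by
          rwa [← MulAction.mem_stabilizer_iff, MulAction.stabilizer_quotient] at hgB
        have hc := hall _ ⟨_, hKn.conj_mem s hs (⟨g, hgH⟩ : H)⁻¹, rfl⟩
        simp only [Subgroup.coe_subtype, Subgroup.coe_mul, Subgroup.coe_inv, inv_inv] at hc
        rw [← hgC]
        have := congrArg (g • ·) hc
        simpa [mul_smul] using this)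
    refine ⟨K, hKn, hK1, ?_, le_rfl⟩
    exact Group.isSolvable_of_comm fun x y => Subtype.ext (Subtype.ext
      (hcomm _ ⟨x.1, x.2, rfl⟩ _ ⟨y.1, y.2, rfl⟩))
  · -- a Frobenius group
    push Not at hsr
    obtain ⟨s, hs, hs1, p, hp, hsp⟩ := hsr
    have htwo : ∀ t : K, ∀ p q : Ω, p ∉ MulAction.orbit H a → q ∉ MulAction.orbit H a → p ≠ q →
        t • p = p → t • q = q → t = 1 := fun t p q hp hq hpq h1 h2 =>
      Subtype.ext (Subtype.ext (D.eq_one_of_two (hFix t.1 t.2) h1 (fun h => hp ((hD p).mp h)) h2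
        (fun h => hq ((hD q).mp h)) hpq))
    have hoff : ∀ (t : K) {x : Ω}, x ∉ MulAction.orbit H a → t • x ∉ MulAction.orbit H a :=
      fun t x hx h => hx (by
        have := MulAction.mem_orbit_of_mem_orbit (t.1)⁻¹ h
        rwa [show (t.1)⁻¹ • (t • x) = x from inv_smul_smul t.1 x] at this)
    let C : Subgroup K := MulAction.stabilizer K p
    have hFC : IsFrobeniusComplement C := by
      refine ⟨fun e => ?_, fun e => ?_, fun g hg => ?_⟩
      · have h : (⟨s, hs⟩ : K) ∈ C := hsp
        rw [e, Subgroup.mem_bot] at h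
        exact hs1 (congrArg Subtype.val h)
      · -- `K` would fix every point
        have hKp : ∀ t ∈ K, t • p = p := fun t ht =>
          (e ▸ Subgroup.mem_top _ : (⟨t, ht⟩ : K) ∈ C)
        refine hs1 (Subtype.ext (FaithfulSMul.eq_of_smul_eq_smul fun x : Ω => ?_))
        rw [Subgroup.coe_one, one_smul]
        by_cases hx : x ∈ MulAction.orbit H a
        · exact hs x hx
        obtain ⟨g, rfl⟩ := htrans p x hp hx
        have h := hKp _ (hKn.conj_mem s hs g⁻¹)
        rw [inv_inv, mul_smul, mul_smul, inv_smul_eq_iff] at h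
        exact h
      · rw [Subgroup.eq_bot_iff_forall]
        intro t ht
        obtain ⟨ht1, ht2⟩ := Subgroup.mem_inf.mp ht
        rw [Subgroup.mem_pointwise_smul_iff_inv_smul_mem] at ht2
        have h2' : (g⁻¹ * t * g) • p = p := by
          have : (MulAut.conj g)⁻¹ • t ∈ C := ht2
          simp only [MulAut.smul_def, MulAut.conj_inv_apply] at this
          exact this
        rw [mul_smul, mul_smul, inv_smul_eq_iff] at h2'
        exact htwo t p (g • p) hp (hoff g hp) (fun e => hg e.symm) ht1 h2'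
    let _ := Fintype.ofFinite K
    obtain ⟨N, hN, hNn, hNc, hNnil⟩ := Grp.frobenius_kernel_spec hFC
    haveI := Frob.kernel_characteristic hFC hN
    refine ⟨N.map K.subtype, inferInstance, ?_, ?_, Subgroup.map_subtype_le N⟩
    · rw [Ne, Subgroup.map_eq_bot_iff_of_injective _ K.subtype_injective]
      exact Frob.kernel_ne_bot hFC hN
    · haveI := hNnil
      haveI : Group.IsSolvable N := inferInstance
      exact Group.isSolvable_of_surjective
        (f := (N.equivMapOfInjective _ K.subtype_injective).toMonoidHom)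
        (N.equivMapOfInjective _ K.subtype_injective).surjective

end Cfsg.Agent.S3706
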