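import Cfsg.Statements.S3707
import Mathlib

set_option autoImplicit false
open Cfsg

namespace Cfsg.Agent.S3707

open scoped Pointwise
open MulAction

/-- Let G be a finite primitive permutation group on Ω of degree n and Γ ⊂ Ω a subset with 1 < #Γ ≤ n/2 such that the pointwise stabilizer of Ω ∖ Γ is transitive on Γ. Then G is 3-transitive on Ω. -/
theorem result {G Ω : Type*} [Group G] [Finite G] [MulAction G Ω] [FaithfulSMul G Ω] [Finite Ω] (hprim : MulAction.IsPreprimitive G Ω) (Γ : Set Ω) (h1 : 1 < Γ.ncard) (h2 : 2 * Γ.ncard ≤ Nat.card Ω) (htr : ∀ x ∈ Γ, ∀ y ∈ Γ, ∃ g : G, (∀ z ∉ Γ, g • z = z) ∧ g • x = y) : MulAction.IsMultiplyPretransitive G Ω 3 := by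
  classical
  haveI : Fintype Ω := Fintype.ofFinite Ω
  set n := Nat.card Ω with hn
  have hJt : IsPretransitive (fixingSubgroup G Γᶜ) ↥(SubMulAction.ofFixingSubgroup G Γᶜ) := by
    refine ⟨fun u v => ?_⟩
    have hu : (u : Ω) ∈ Γ := not_not.mp u.2
    have hv : (v : Ω) ∈ Γ := not_not.mp v.2
    obtain ⟨g, hg, hguv⟩ := htr u hu v hv
    exact ⟨⟨g, (mem_fixingSubgroup_iff G).mpr fun z hz => hg z hz⟩, Subtype.ext hguv⟩
  have hc : Γᶜ.ncard = n - Γ.ncard := Set.ncard_compl Γ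
  have h2t : IsMultiplyPretransitive G Ω 2 :=
    hprim.is_two_pretransitive (s := Γᶜ) (n := n - Γ.ncard - 1) (by omega) (by omega) hJt
  have htwo : ∀ {a b c d : Ω}, a ≠ b → c ≠ d → ∃ g : G, g • a = c ∧ g • b = d :=
    fun hab hcd => (is_two_pretransitive_iff (G := G) (α := Ω)).mp h2t hab hcd
  -- translates
  let tr : Finset (Set Ω) := Finset.univ.filter fun T => ∃ g : G, g • Γ = T
  have htrmem : ∀ T, T ∈ tr ↔ ∃ g : G, g • Γ = T := by intro T; simp [tr]
  have htrsmul : ∀ T ∈ tr, ∀ h : G, h • T ∈ tr := by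
    intro T hT h
    obtain ⟨g, rfl⟩ := (htrmem T).mp hT
    exact (htrmem _).mpr ⟨h * g, mul_smul h g Γ⟩
  have htrcard : ∀ T ∈ tr, T.ncard = Γ.ncard := by
    intro T hT
    obtain ⟨g, rfl⟩ := (htrmem T).mp hT
    exact Set.ncard_smul_set g Γ
  let R : Ω → Ω → Finset (Set Ω) := fun u v => tr.filter fun T => u ∈ T ∧ v ∈ T
  have hR : ∀ u v T, T ∈ R u v ↔ T ∈ tr ∧ u ∈ T ∧ v ∈ T := by intro u v T; simp [R]
  have hRcard : ∀ u v u' v' : Ω, u ≠ v → u' ≠ v' → (R u v).card = (R u' v').card := by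
    intro u v u' v' h h'
    obtain ⟨g, hgu, hgv⟩ := htwo h h'
    refine Finset.card_equiv (MulAction.toPerm g) fun T => ?_
    rw [hR, hR, MulAction.toPerm_apply, ← hgu, ← hgv, Set.smul_mem_smul_set_iff,
      Set.smul_mem_smul_set_iff]
    exact ⟨fun ⟨a, b⟩ => ⟨htrsmul T a g, b⟩, fun ⟨a, b⟩ => ⟨by
      simpa using htrsmul _ a g⁻¹, b⟩⟩
  obtain ⟨p₁, hp₁, p₂, hp₂, hp⟩ := (Set.one_lt_ncard Γ.toFinite).mp h1
  have hΓtr : Γ ∈ tr := (htrmem Γ).mpr ⟨1, one_smul G Γ⟩
  have hlam : 0 < (R p₁ p₂).card :=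
    Finset.card_pos.mpr ⟨Γ, (hR _ _ _).mpr ⟨hΓtr, hp₁, hp₂⟩⟩
  have sep : ∀ x y a : Ω, x ≠ y → x ≠ a → ∃ T ∈ tr, x ∈ T ∧ y ∉ T ∧ a ∉ T := by
    intro x y a hxy hxa
    by_contra hcon
    push Not at hcon
    set S := tr.filter fun T => x ∈ T with hS
    have hsub : S ⊆ R x y ∪ R x a := by
      intro T hT
      simp only [hS, Finset.mem_filter] at hT
      rw [Finset.mem_union, hR, hR]
      by_cases hy : y ∈ T
      · exact Or.inl ⟨hT.1, hT.2, hy⟩
      · exact Or.inr ⟨hT.1, hT.2, hcon T hT.1 hT.2 hy⟩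
    have hle : S.card ≤ 2 * (R p₁ p₂).card := by
      refine (Finset.card_le_card hsub).trans ((Finset.card_union_le _ _).trans ?_)
      rw [hRcard x y p₁ p₂ hxy hp, hRcard x a p₁ p₂ hxa hp]
      omega
    have hdc : ∑ v ∈ Finset.univ.erase x, (R x v).card = S.card * (Γ.ncard - 1) := by
      calc ∑ v ∈ Finset.univ.erase x, (R x v).card
          = ∑ v ∈ Finset.univ.erase x, ∑ T ∈ S, (if v ∈ T then 1 else 0) := by
            refine Finset.sum_congr rfl fun v _ => ?_
            rw [← Finset.card_filter]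
            congr 1
            ext T
            simp [hS, hR, and_assoc]
        _ = ∑ T ∈ S, ∑ v ∈ Finset.univ.erase x, (if v ∈ T then 1 else 0) := Finset.sum_comm
        _ = ∑ T ∈ S, (Γ.ncard - 1) := by
            refine Finset.sum_congr rfl fun T hT => ?_
            simp only [hS, Finset.mem_filter] at hT
            rw [← Finset.card_filter, ← htrcard T hT.1, ← Set.ncard_sdiff_singleton_of_mem hT.2,
              Set.ncard_eq_toFinset_card']
            congr 1
            ext v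
            simp [and_comm]
        _ = S.card * (Γ.ncard - 1) := by rw [Finset.sum_const, smul_eq_mul]
    have hdc2 : ∑ v ∈ Finset.univ.erase x, (R x v).card = (n - 1) * (R p₁ p₂).card := by
      have e : (Finset.univ.erase x).card = n - 1 := by
        rw [Finset.card_erase_of_mem (Finset.mem_univ x), Finset.card_univ, hn,
          Nat.card_eq_fintype_card]
      rw [Finset.sum_congr rfl (fun v hv => hRcard x v p₁ p₂ (Finset.ne_of_mem_erase hv).symm hp),
        Finset.sum_const, smul_eq_mul, e]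
    have h3 : (n - 1) * (R p₁ p₂).card ≤ (2 * (Γ.ncard - 1)) * (R p₁ p₂).card := by
      rw [← hdc2, hdc]
      calc S.card * (Γ.ncard - 1) ≤ 2 * (R p₁ p₂).card * (Γ.ncard - 1) := Nat.mul_le_mul_right _ hle
        _ = _ := by ring
    have := Nat.le_of_mul_le_mul_right h3 hlam
    omega
  have hJT : ∀ T ∈ tr, ∀ u ∈ T, ∀ v ∈ T, ∃ g : G, (∀ z ∉ T, g • z = z) ∧ g • u = v := by
    intro T hT u hu v hv
    obtain ⟨h, rfl⟩ := (htrmem T).mp hT
    rw [Set.mem_smul_set_iff_inv_smul_mem] at hu hv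
    obtain ⟨g, hg, hguv⟩ := htr _ hu _ hv
    refine ⟨h * g * h⁻¹, fun z hz => ?_, ?_⟩
    · rw [mul_smul, mul_smul, hg _ (fun hc => hz (Set.mem_smul_set_iff_inv_smul_mem.mpr hc)),
        smul_inv_smul]
    · rw [mul_smul, mul_smul, hguv, smul_inv_smul]
  haveI : IsPretransitive G Ω := hprim.toIsPretransitive
  let a : Ω := p₁
  have hA1 : IsPretransitive (stabilizer G a) (SubMulAction.ofStabilizer G a) := by
    rw [← is_one_pretransitive_iff]
    exact (SubMulAction.ofStabilizer.isMultiplyPretransitive (n := 1)).mp h2t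
  have hAp : IsPreprimitive (stabilizer G a) (SubMulAction.ofStabilizer G a) := by
    constructor
    intro B hB
    by_contra hnt
    unfold MulAction.IsTrivialBlock at hnt
    push Not at hnt
    obtain ⟨⟨⟨b₁, hb₁a⟩, hb₁, ⟨b₂, hb₂a⟩, hb₂, hb⟩, hnu⟩ := hnt
    obtain ⟨⟨c, hca⟩, hc'⟩ := (Set.ne_univ_iff_exists_notMem B).mp hnu
    let P : Ω → Prop := fun u => ∃ hu : u ≠ a, (⟨u, hu⟩ : SubMulAction.ofStabilizer G a) ∈ B
    have hmove : ∀ g : G, g • a = a → ∀ u w, P u → P (g • u) → P w → P (g • w) := by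
      rintro g hga u w ⟨_, hu⟩ ⟨_, hgu⟩ ⟨hwa, hw⟩
      have heq := hB.smul_eq_of_mem (g := (⟨g, hga⟩ : stabilizer G a)) hu hgu
      refine ⟨fun h => hwa (smul_left_cancel g (h.trans hga.symm)), ?_⟩
      rw [← heq]
      exact ⟨_, hw, rfl⟩
    have hin : ∀ T ∈ tr, a ∉ T → ∀ u ∈ T, P u → ∀ y, y ∉ T → P y → ∀ z ∈ T, P z := by
      intro T hT haT u huT hPu y hyT hPy z hzT
      obtain ⟨g, hg, hguz⟩ := hJT T hT u huT z hzT
      rw [← hguz]
      exact hmove g (hg a haT) y u hPy (by rw [hg y hyT]; exact hPy) hPu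
    have hno : ∀ T ∈ tr, a ∉ T → ∀ u ∈ T, ∀ z ∈ T, P u → ¬ P z → z ≠ a → False := by
      intro T hT haT u huT z hzT hPu hPz _
      have hBT : ∀ y, P y → y ∈ T := by
        intro y hy
        by_contra hyT
        exact hPz (hin T hT haT u huT hPu y hyT hy z hzT)
      have hP1 : P b₁ := ⟨hb₁a, hb₁⟩
      have hP2 : P b₂ := ⟨hb₂a, hb₂⟩
      have hb12 : b₁ ≠ b₂ := fun h => hb (Subtype.ext h)
      obtain ⟨T', hT', h1T', h2T', haT'⟩ := sep b₁ b₂ a hb12 hb₁a
      have hT'sub : T' ⊆ T \ {b₂} := fun w hw =>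
        ⟨hBT w (hin T' hT' haT' b₁ h1T' hP1 b₂ h2T' hP2 w hw), fun h => h2T' (h ▸ hw)⟩
      have := Set.ncard_le_ncard hT'sub
      rw [Set.ncard_sdiff_singleton_of_mem (hBT b₂ hP2), htrcard T hT, htrcard T' hT'] at this
      omega
    -- pairs crossing the block
    have hcross : ∀ u z : Ω, P u → ¬ P z → z ≠ a → R u z = R u a ∧ R u z = R z a := by
      intro u z hu hz hza
      have hua : u ≠ a := hu.1
      have huz : u ≠ z := fun h => hz (h ▸ hu)
      have hmem : ∀ T ∈ R u z, a ∈ T := by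
        intro T hT
        rw [hR] at hT
        by_contra haT
        exact hno T hT.1 haT u hT.2.1 z hT.2.2 hu hz hza
      constructor
      · refine Finset.eq_of_subset_of_card_le (fun T hT => ?_) (hRcard u z u a huz hua).ge
        have := hmem T hT
        rw [hR] at hT ⊢
        exact ⟨hT.1, hT.2.1, this⟩
      · refine Finset.eq_of_subset_of_card_le (fun T hT => ?_) (hRcard u z z a huz hza).ge
        have := hmem T hT
        rw [hR] at hT ⊢
        exact ⟨hT.1, hT.2.2, this⟩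
    have hPb : P b₁ := ⟨hb₁a, hb₁⟩
    have hPc : ¬ P c := fun h => hc' h.2
    obtain ⟨T, hT⟩ : (R b₁ a).Nonempty := by
      rw [← Finset.card_pos, hRcard b₁ a p₁ p₂ hb₁a hp]; exact hlam
    have hall : ∀ z : Ω, z ∈ T := by
      intro z
      by_cases hza : z = a
      · rw [hza]; exact ((hR _ _ _).mp hT).2.2
      by_cases hPz : P z
      · have h1 : T ∈ R c a := by
          rw [← (hcross b₁ c hPb hPc hca).2, (hcross b₁ c hPb hPc hca).1]; exact hT
        rw [← (hcross z c hPz hPc hca).2] at h1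
        exact ((hR _ _ _).mp h1).2.1
      · rw [← (hcross b₁ z hPb hPz hza).1] at hT
        exact ((hR _ _ _).mp hT).2.2
    have := htrcard T ((hR _ _ _).mp hT).1
    rw [Set.eq_univ_of_forall hall, Set.ncard_univ] at this
    omega
  -- a translate avoiding a
  obtain ⟨q, hq⟩ : ∃ q : Ω, q ≠ a := ⟨p₂, hp.symm⟩
  obtain ⟨T, hT, hqT, _, haT⟩ := sep q a a hq hq
  let s : Set ↥(SubMulAction.ofStabilizer G a) := {u | (u : Ω) ∉ T}
  have hscard : (Subtype.val '' s) = Tᶜ \ {a} := by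
    ext u
    constructor
    · rintro ⟨⟨v, hv⟩, hvs, rfl⟩; exact ⟨hvs, hv⟩
    · rintro ⟨hu, hua⟩; exact ⟨⟨u, hua⟩, hu, rfl⟩
  have hs : s.ncard = n - Γ.ncard - 1 := by
    rw [← Set.ncard_image_of_injective s Subtype.val_injective, hscard,
      Set.ncard_sdiff_singleton_of_mem (show a ∈ Tᶜ from haT), Set.ncard_compl, htrcard T hT]
  have hsJ : IsPretransitive (fixingSubgroup (stabilizer G a) s)
      ↥(SubMulAction.ofFixingSubgroup (stabilizer G a) s) := by
    refine ⟨fun u v => ?_⟩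
    have hu : ((u : ↥(SubMulAction.ofStabilizer G a)) : Ω) ∈ T := not_not.mp u.2
    have hv : ((v : ↥(SubMulAction.ofStabilizer G a)) : Ω) ∈ T := not_not.mp v.2
    obtain ⟨g, hg, hguv⟩ := hJT T hT _ hu _ hv
    refine ⟨⟨⟨g, hg a haT⟩, (mem_fixingSubgroup_iff _).mpr fun z hz => Subtype.ext (hg z hz)⟩, ?_⟩
    exact Subtype.ext (Subtype.ext hguv)
  have hcardA := SubMulAction.nat_card_ofStabilizer_eq G a
  have hA2 := hAp.is_two_pretransitive (s := s) (n := n - Γ.ncard - 2) (by omega)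
    (by rw [hcardA]; omega) hsJ
  exact (SubMulAction.ofStabilizer.isMultiplyPretransitive (n := 2)).mpr hA2

end Cfsg.Agent.S3707
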