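import Cfsg.Statements.S3708
import Cfsg.Agent.Lib.Recog.PhanSystem

set_option autoImplicit false
open Cfsg

namespace Cfsg.Agent.S3708

/-- Phan's recognition of unitary groups. Let F be a finite field with q² elements, q > 4, and n ≥ 2. Let G be a group generated by subgroups U_0, …, U_{n−1}, each isomorphic to the special unitary group SU(2, q²) (determinant-one isometries of the standard Hermitian form in two variables over F), and let D_i ≤ U_i be cyclic subgroups of order q + 1. Suppose that U_i and U_j commute elementwise whenever the indices differ by at least 2, that the subgroup generated by U_i and U_{i+1} is isomorphic to SU(3, q²) for each i, and that D_i and D_j commute elementwise for all i, j. Then G is a homomorphic image of SU(n+1, q²). (Generation of G by the U_i is part of the hypothesis; G is not assumed finite.) -/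
theorem result {G : Type*} [Group G] (n : ℕ) (hn : 2 ≤ n)
    (F : Type*) [Field F] [Fintype F] (q : ℕ) (hq : 4 < q) (hF : Fintype.card F = q ^ 2)
    (U : Fin n → Subgroup G) (e : ∀ i, ↥(Cfsg.SU 2 F q) ≃* ↥(U i)) (hgen : ⨆ i, U i = ⊤)
    (D : Fin n → Subgroup G) (hD : ∀ i, D i ≤ U i ∧ IsCyclic ↥(D i) ∧ Nat.card ↥(D i) = q + 1)
    (h1 : ∀ i j : Fin n, (i : ℕ) + 2 ≤ j → ∀ x ∈ U i, ∀ y ∈ U j, x * y = y * x)
    (h2 : ∀ i j : Fin n, (i : ℕ) + 1 = j → Nonempty (↥(U i ⊔ U j) ≃* ↥(Cfsg.SU 3 F q)))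
    (h3 : ∀ i j : Fin n, i ≠ j → ∀ x ∈ D i, ∀ y ∈ D j, x * y = y * x) :
    ∃ f : ↥(Cfsg.SU (n + 1) F q) →* G, Function.Surjective f := by
  classical
  open Cfsg.Agent.Recog.Phan in
  have key : ∃ f : ↥(Cfsg.SU (n + 1) F q) →* G, Function.Surjective f := by
    let U' : ℕ → Subgroup G := fun k => if h : k < n then U ⟨k, h⟩ else ⊥
    have hU' : ∀ i : Fin n, U' i = U i := fun i => by simp [U']
    have hgenD : ∀ i : Fin n, ∃ d, d ∈ D i ∧ orderOf d = q + 1 := fun i => by
      obtain ⟨-, hcyc, hcard⟩ := hD i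
      obtain ⟨x, hx⟩ := IsCyclic.exists_ofOrder_eq_natCard (α := ↥(D i))
      exact ⟨x, x.2, by rw [Subgroup.orderOf_coe, hx, hcard]⟩
    choose d hdmem hdord using hgenD
    let d' : ℕ → G := fun k => if h : k < n then d ⟨k, h⟩ else 1
    have hd : ∀ i, i < n → d' i ∈ U' i ∧ orderOf (d' i) = q + 1 := fun i hi => by
      have e1 : d' i = d ⟨i, hi⟩ := by simp [d', hi]
      have e2 : U' i = U ⟨i, hi⟩ := by simp [U', hi]
      rw [e1, e2]
      exact ⟨(hD _).1 (hdmem _), hdord _⟩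
    have hp : ∀ i, i + 1 < n → ∃ Ψ, PairData hF (U' i) (U' (i + 1)) (d' i) (d' (i + 1)) Ψ := fun i hi => by
      have e1 : d' i = d ⟨i, by omega⟩ := by simp [d', show i < n by omega]
      have e2 : U' i = U ⟨i, by omega⟩ := by simp [U', show i < n by omega]
      have e1' : d' (i + 1) = d ⟨i + 1, hi⟩ := by simp [d', hi]
      have e2' : U' (i + 1) = U ⟨i + 1, hi⟩ := by simp [U', hi]
      rw [e1, e2, e1', e2']
      obtain ⟨ε⟩ := h2 ⟨i, by omega⟩ ⟨i + 1, hi⟩ rfl
      exact exists_pairData hF (by omega) (e _) (e _) ε ((hD _).1 (hdmem _)) ((hD _).1 (hdmem _)) (hdord _) (hdord _)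
        (h3 _ _ (by simp [Fin.ext_iff]) _ (hdmem _) _ (hdmem _))
    obtain ⟨Φ, hΦ, hcompat⟩ := exists_chain hF (by omega) n U' d' hd hp
    have hcomm : ∀ i j, i + 2 ≤ j → j < n → ∀ x ∈ U' i, ∀ y ∈ U' j, Commute x y := fun i j hij hj x hx y hy => by
      simp only [U', dif_pos hj, dif_pos (show i < n by omega)] at hx hy
      exact h1 ⟨i, by omega⟩ ⟨j, hj⟩ hij x hx y hy
    obtain ⟨φ, hφ⟩ := exists_glued hF (by omega) n U' hcomm Φ
      (fun i hi u => (hΦ i hi).left.le ⟨u, rfl⟩) (fun i hi u => (hΦ i hi).right.le ⟨u, rfl⟩) hcompat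
      (n + 1) (by omega) 0 (by omega)
    refine ⟨φ, MonoidHom.range_eq_top.1 (top_le_iff.1 (hgen ▸ iSup_le fun i => ?_))⟩
    intro x hx
    rw [← hU'] at hx
    by_cases hi : (i : ℕ) + 1 < n
    · obtain ⟨u, rfl⟩ := (hΦ i hi).left.ge hx
      refine ⟨emb hF (sh i 3 (n + 1) (by omega)) (emb hF (sh 0 2 3 (by omega)) u), ?_⟩
      rw [hφ i (by omega), zero_add]
      rfl
    · obtain ⟨j, hj⟩ : ∃ j, (i : ℕ) = j + 1 := ⟨(i : ℕ) - 1, by omega⟩
      rw [hj] at hx
      obtain ⟨u, rfl⟩ := (hΦ j (by omega)).right.ge hx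
      refine ⟨emb hF (sh j 3 (n + 1) (by omega)) (emb hF (sh 1 2 3 (by omega)) u), ?_⟩
      rw [hφ j (by omega), zero_add]
      rfl
  exact key

end Cfsg.Agent.S3708
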