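import Cfsg.Statements.S3711
import Cfsg.Agent.Lib.Recog.PhanTwo

set_option autoImplicit false
open Cfsg

namespace Cfsg.Agent.S3711

/-- Recognition of unitary groups over the field with 4 elements from a weak Phan system. Let F be a field with 4 elements and n ≥ 4. Let G be a group with subgroups U_0, …, U_{n−1}, each isomorphic to SU(2, 4), and, for consecutive indices, subgroups V_{i,i+1} in which U_i and U_{i+1} form a standard pair (via an isomorphism from SU(3, 4) or PSU(3, 4) carrying the block-diagonal subgroups, or their images, onto U_i and U_{i+1}); suppose U_i and U_j commute elementwise whenever the indices differ by at least 2, that G is generated by the U_i and the V_{i,i+1}, that for each i the subgroup generated by V_{i,i+1} and V_{i+1,i+2} is a homomorphic image of SU(4, 4), that U_i and V_{j,j+1} commute elementwise whenever i ≤ j − 2 or i ≥ j + 3, and that V_{i,i+1} and V_{k,k+1} commute elementwise whenever k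 ≥ i + 3. Then G is a homomorphic image of SU(n+1, 4). (G is not assumed finite.) -/
theorem result {G : Type*} [Group G] (n : ℕ) (hn : 4 ≤ n)
    (F : Type*) [Field F] [Fintype F] (hF : Fintype.card F = 4)
    (U : Fin n → Subgroup G) (e : ∀ i, ↥(Cfsg.SU 2 F 2) ≃* ↥(U i))
    (V : Fin n → Fin n → Subgroup G)
    (h1 : ∀ i j : Fin n, (i : ℕ) + 2 ≤ j → ∀ x ∈ U i, ∀ y ∈ U j, x * y = y * x)
    (h2 : ∀ i j : Fin n, (i : ℕ) + 1 = j → Cfsg.IsStandardUnitaryPair (V i j) (U i) (U j) F 2)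
    (hgen : (⨆ i, U i) ⊔ (⨆ (i : Fin n) (j : Fin n) (_ : (i : ℕ) + 1 = j), V i j) = ⊤)
    (h4 : ∀ i j k : Fin n, (i : ℕ) + 1 = j → (j : ℕ) + 1 = k →
      ∃ g : ↥(Cfsg.SU 4 F 2) →* ↥(V i j ⊔ V j k), Function.Surjective g)
    (h5 : ∀ i j k : Fin n, (j : ℕ) + 1 = k → ((i : ℕ) + 2 ≤ j ∨ (k : ℕ) + 2 ≤ i) →
      ∀ x ∈ U i, ∀ y ∈ V j k, x * y = y * x)
    (h6 : ∀ i j k l : Fin n, (i : ℕ) + 1 = j → (k : ℕ) + 1 = l → (j : ℕ) + 2 ≤ k →
      ∀ x ∈ V i j, ∀ y ∈ V k l, x * y = y * x) :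
    ∃ f : ↥(Cfsg.SU (n + 1) F 2) →* G, Function.Surjective f := by
  classical
  let U' : ℕ → Subgroup G := fun k => if h : k < n then U ⟨k, h⟩ else ⊥
  let V' : ℕ → Subgroup G := fun k => if h : k + 1 < n then V ⟨k, by omega⟩ ⟨k + 1, h⟩ else ⊥
  have hF' : Fintype.card F = 2 ^ 2 := by rw [hF]; norm_num
  have hcomm : ∀ i j, i + 2 ≤ j → j < n → ∀ x ∈ U' i, ∀ y ∈ U' j, Commute x y := fun i j hij hj x hx y hy => by
    simp only [U', dif_pos hj, dif_pos (show i < n by omega)] at hx hy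
    exact h1 ⟨i, by omega⟩ ⟨j, hj⟩ hij x hx y hy
  have hUV : ∀ i j, i + 2 ≤ j → j + 1 < n → ∀ x ∈ U' i, ∀ y ∈ V' j, Commute x y := fun i j hij hj x hx y hy => by
    simp only [U', V', dif_pos hj, dif_pos (show i < n by omega)] at hx hy
    exact h5 ⟨i, by omega⟩ ⟨j, by omega⟩ ⟨j + 1, hj⟩ rfl (Or.inl hij) x hx y hy
  have hVU : ∀ i j, i + 3 ≤ j → j < n → ∀ x ∈ V' i, ∀ y ∈ U' j, Commute x y := fun i j hij hj x hx y hy => by
    simp only [U', V', dif_pos hj, dif_pos (show i + 1 < n by omega)] at hx hy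
    exact (h5 ⟨j, hj⟩ ⟨i, by omega⟩ ⟨i + 1, by omega⟩ rfl (Or.inr (show i + 1 + 2 ≤ j by omega)) y hy x hx).symm
  have hVV : ∀ i j, i + 3 ≤ j → j + 1 < n → ∀ x ∈ V' i, ∀ y ∈ V' j, Commute x y := fun i j hij hj x hx y hy => by
    simp only [V', dif_pos hj, dif_pos (show i + 1 < n by omega)] at hx hy
    exact h6 ⟨i, by omega⟩ ⟨i + 1, by omega⟩ ⟨j, by omega⟩ ⟨j + 1, hj⟩ rfl rfl
      (show i + 1 + 2 ≤ j by omega) x hx y hy
  obtain ⟨φ, hU, hV⟩ := Cfsg.Agent.Recog.Phan.weak_system_two hF' rfl hn U' V' hcomm (fun i hi => by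
      simp only [U', V', dif_pos hi, dif_pos (show i < n by omega)]
      exact Cfsg.Agent.Recog.Phan.exists_weakPair hF' (h2 ⟨i, by omega⟩ ⟨i + 1, hi⟩ rfl))
    (fun i hi => by
      simp only [V', dif_pos (show i + 1 < n by omega), dif_pos (show i + 1 + 1 < n by omega)]
      obtain ⟨g, hg⟩ := h4 ⟨i, by omega⟩ ⟨i + 1, by omega⟩ ⟨i + 1 + 1, by omega⟩ rfl rfl
      exact ⟨(Subgroup.subtype _).comp g, by
        rw [MonoidHom.range_comp, MonoidHom.range_eq_top.2 hg, ← MonoidHom.range_eq_map,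
          Subgroup.range_subtype]⟩)
    hUV hVU hVV
  refine ⟨φ, MonoidHom.range_eq_top.1 (top_le_iff.1 (hgen ▸ sup_le (iSup_le fun i => ?_)
    (iSup_le fun i => iSup_le fun j => iSup_le fun hij => ?_)))⟩
  · have h := hU i i.2
    simp only [U', dif_pos i.2] at h
    exact h
  · have h := hV i (by omega)
    simp only [V', dif_pos (show (i : ℕ) + 1 < n by omega)] at h
    rw [show j = ⟨(i : ℕ) + 1, by omega⟩ from Fin.ext hij.symm]
    exact h

end Cfsg.Agent.S3711
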