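import Cfsg.Statements.S3713
import Cfsg.Agent.Lib.Recog.SpSlimFinal

set_option autoImplicit false
open Cfsg

namespace Cfsg.Agent.S3713

/-- A presentation of the symplectic group as the universal completion of an amalgam of small subgroups. Let F be a field with more than two elements, n ≥ 2, and Sp the group of 2n × 2n matrices over F preserving the standard alternating form, acting on column vectors; write e_k, f_k for the standard basis vectors of the two halves (a hyperbolic basis). For each k let S_k be the subgroup of Sp fixing e_l and f_l for all l ≠ k (a copy of SL(2, F) on the plane of e_k, f_k), and for each i with i + 1 < n let M_i be the subgroup fixing every e_l and fixing f_l for all l other than i, i+1 (an abelian group isomorphic to the additive group of F³). Then Sp is the universal completion of the amalgam formed by the S_k, the M_i and the subgroups generated by two of them: for every group H and homomorphisms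 σ_k : S_k → H, μ_i : M_i → H such that for each pair of these subgroups some homomorphism on the subgroup they generate restricts to the given ones, there is exactly one homomorphism Sp → H restricting to every σ_k and μ_i. -/
theorem result
    (F : Type*) [Field F] (hF : ∃ a : F, a ≠ 0 ∧ a ≠ 1) (n : ℕ) (hn : 2 ≤ n)
    (S M : Fin n → Subgroup ↥(Matrix.symplecticGroup (Fin n) F))
    (hS : ∀ j : Fin n, S j = Subgroup.closure {A : ↥(Matrix.symplecticGroup (Fin n) F) | ∀ k : Fin n, k ≠ j →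
      ((A : ↥(Matrix.symplecticGroup (Fin n) F)) : Matrix (Fin n ⊕ Fin n) (Fin n ⊕ Fin n) F).mulVec (Pi.single (Sum.inl k) (1 : F)) = (Pi.single (Sum.inl k) (1 : F)) ∧ ((A : ↥(Matrix.symplecticGroup (Fin n) F)) : Matrix (Fin n ⊕ Fin n) (Fin n ⊕ Fin n) F).mulVec (Pi.single (Sum.inr k) (1 : F)) = (Pi.single (Sum.inr k) (1 : F))})
    (hM : ∀ i : Fin n, (i : ℕ) + 1 < n → M i = Subgroup.closure {A : ↥(Matrix.symplecticGroup (Fin n) F) |
      (∀ k : Fin n, ((A : ↥(Matrix.symplecticGroup (Fin n) F)) : Matrix (Fin n ⊕ Fin n) (Fin n ⊕ Fin n) F).mulVec (Pi.single (Sum.inl k) (1 : F)) = (Pi.single (Sum.inl k) (1 : F))) ∧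
        ∀ k : Fin n, (k : ℕ) ≠ i → (k : ℕ) ≠ (i : ℕ) + 1 → ((A : ↥(Matrix.symplecticGroup (Fin n) F)) : Matrix (Fin n ⊕ Fin n) (Fin n ⊕ Fin n) F).mulVec (Pi.single (Sum.inr k) (1 : F)) = (Pi.single (Sum.inr k) (1 : F))})
    {H : Type*} [Group H] (σ : ∀ j : Fin n, ↥(S j) →* H) (μ : ∀ i : Fin n, ↥(M i) →* H)
    (hSS : ∀ j l : Fin n, j ≠ l → ∃ Ψ : ↥(S j ⊔ S l) →* H,
      (∀ (g : ↥(Matrix.symplecticGroup (Fin n) F)) (hg : g ∈ S j), Ψ ⟨g, Subgroup.mem_sup_left hg⟩ = σ j ⟨g, hg⟩) ∧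
        (∀ (g : ↥(Matrix.symplecticGroup (Fin n) F)) (hg : g ∈ S l), Ψ ⟨g, Subgroup.mem_sup_right hg⟩ = σ l ⟨g, hg⟩))
    (hMM : ∀ i i' : Fin n, i ≠ i' → (i : ℕ) + 1 < n → (i' : ℕ) + 1 < n → ∃ Ψ : ↥(M i ⊔ M i') →* H,
      (∀ (g : ↥(Matrix.symplecticGroup (Fin n) F)) (hg : g ∈ M i), Ψ ⟨g, Subgroup.mem_sup_left hg⟩ = μ i ⟨g, hg⟩) ∧
        (∀ (g : ↥(Matrix.symplecticGroup (Fin n) F)) (hg : g ∈ M i'), Ψ ⟨g, Subgroup.mem_sup_right hg⟩ = μ i' ⟨g, hg⟩))
    (hMS : ∀ i j : Fin n, (i : ℕ) + 1 < n → ∃ Ψ : ↥(M i ⊔ S j) →* H,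
      (∀ (g : ↥(Matrix.symplecticGroup (Fin n) F)) (hg : g ∈ M i), Ψ ⟨g, Subgroup.mem_sup_left hg⟩ = μ i ⟨g, hg⟩) ∧
        (∀ (g : ↥(Matrix.symplecticGroup (Fin n) F)) (hg : g ∈ S j), Ψ ⟨g, Subgroup.mem_sup_right hg⟩ = σ j ⟨g, hg⟩)) :
    ∃! Φ : ↥(Matrix.symplecticGroup (Fin n) F) →* H,
      (∀ (j : Fin n) (g : ↥(Matrix.symplecticGroup (Fin n) F)) (hg : g ∈ S j), Φ g = σ j ⟨g, hg⟩) ∧
        (∀ (i : Fin n), (i : ℕ) + 1 < n → ∀ (g : ↥(Matrix.symplecticGroup (Fin n) F)) (hg : g ∈ M i), Φ g = μ i ⟨g, hg⟩) := by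
  classical
  let SL : Fin n → Subgroup (Recog.SpSlim.Pr n F H) := fun j => Recog.SpSlim.graph (S j) (σ j)
  let ML : Fin n → Subgroup (Recog.SpSlim.Pr n F H) := fun i => Recog.SpSlim.graph (M i) (μ i)
  have hSsub : ∀ j, S j = Recog.SpSlim.fixS {j} := fun j => by
    rw [hS j]
    refine le_antisymm ((Subgroup.closure_le _).2 fun g hg k hk => hg k (by simpa using hk)) ?_
    exact fun g hg => Subgroup.subset_closure fun k hk => hg k (by simpa using hk)
  have A : Recog.SpSlim.Amal SL ML :=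
    { S_sub := by
        rintro j _ ⟨g, rfl⟩
        exact hSsub j ▸ g.2
      S_surj := fun j g hg => ⟨_, ⟨⟨g, (hSsub j).symm ▸ hg⟩, rfl⟩, rfl⟩
      M_sub := by
        rintro i i' h _ ⟨g, rfl⟩
        have hi : (i : ℕ) + 1 < n := by omega
        let Y : Subgroup ↥(Matrix.symplecticGroup (Fin n) F) :=
          { carrier := {y | ∀ k, Recog.SpSlim.act y (Recog.SpSlim.e k) = Recog.SpSlim.e k}
            one_mem' := fun k => Recog.SpSlim.act_one _
            mul_mem' := fun {p q} hp hq k => by rw [Recog.SpSlim.act_mul, hq k, hp k]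
            inv_mem' := fun {p} hp k => Recog.SpSlim.act_inv_eq (hp k) }
        have hle : M i ≤ Recog.SpSlim.fixS {i, i'} ⊓ Y := by
          rw [hM i hi]
          refine (Subgroup.closure_le _).2 fun y hy => ⟨fun k hk => ⟨hy.1 k, hy.2 k ?_ ?_⟩, hy.1⟩
          · intro hh; exact hk (by simp [Fin.ext hh])
          · intro hh; exact hk (by simp [Fin.ext (hh.trans h.symm)])
        exact hle g.2
      M_surj := fun i i' h g hg h1 h2 => by
        have hi : (i : ℕ) + 1 < n := by omega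
        refine ⟨_, ⟨⟨g, ?_⟩, rfl⟩, rfl⟩
        rw [hM i hi]
        refine Subgroup.subset_closure ⟨fun k => ?_, fun k hk1 hk2 => (hg k ?_).2⟩
        · by_cases hk : k = i
          · exact hk ▸ h1
          by_cases hk' : k = i'
          · exact hk' ▸ h2
          exact (hg k (by simp [hk, hk'])).1
        · simp only [Set.mem_insert_iff, Set.mem_singleton_iff, Fin.ext_iff]
          omega
      fnSS := fun j l h => (hSS j l h).elim fun Ψ hΨ => Recog.SpSlim.fn_graph_sup Ψ hΨ.1 hΨ.2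
      fnMM := fun i i' h hi hi' =>
        (hMM i i' h hi hi').elim fun Ψ hΨ => Recog.SpSlim.fn_graph_sup Ψ hΨ.1 hΨ.2
      fnMS := fun i j hi => (hMS i j hi).elim fun Ψ hΨ => Recog.SpSlim.fn_graph_sup Ψ hΨ.1 hΨ.2 }
  obtain ⟨Φ, ⟨h1, h2⟩, hu⟩ := Recog.SpSlim.exists_unique_hom A hF hn
  refine ⟨Φ, ⟨fun j g hg => h1 j (g, σ j ⟨g, hg⟩) ⟨⟨g, hg⟩, rfl⟩,
    fun i hi g hg => h2 i hi (g, μ i ⟨g, hg⟩) ⟨⟨g, hg⟩, rfl⟩⟩, fun Ψ hΨ => hu Ψ ⟨?_, ?_⟩⟩
  · rintro j _ ⟨g, rfl⟩; exact hΨ.1 j g.1 g.2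
  · rintro i hi _ ⟨g, rfl⟩; exact hΨ.2 i hi g.1 g.2

end Cfsg.Agent.S3713
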