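import Cfsg.Statements.S3718
import Cfsg.Agent.Lib.Transfer.OneComposite.Main
import Cfsg.Agent.Lib.Recog.OneComp.Final
-- import your own Cfsg.Agent.* helpers here

set_option autoImplicit false
open Cfsg

namespace Cfsg.Agent.S3718

/-- Let G be a finite simple group whose set of element orders contains at most one composite number (at most one element order that is neither 1 nor a prime). Then G is cyclic of prime order, or isomorphic to PSL₂(q) for q ∈ {5, 7, 8, 9, 11, 13, 16}, to PSL₃(4), to the Suzuki group Sz(8), to PSL₂(3ⁿ) with (3ⁿ − 1)/2 and (3ⁿ + 1)/4 both prime, or to PSL₂(2ⁿ) with 2ⁿ − 1 and (2ⁿ + 1)/3 both prime. -/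
theorem result {G : Type*} [Group G] [Finite G] [IsSimpleGroup G]
    (h1 : {n : ℕ | n ∈ Set.range (orderOf : G → ℕ) ∧ 1 < n ∧ ¬ n.Prime}.Subsingleton) :
    (Nat.card G).Prime ∨
    (∃ (F : Type) (_ : Field F) (_ : Fintype F), (Fintype.card F = 5 ∨ Fintype.card F = 7 ∨ Fintype.card F = 8 ∨ Fintype.card F = 9 ∨
        Fintype.card F = 11 ∨ Fintype.card F = 13 ∨ Fintype.card F = 16) ∧ Nonempty (G ≃* Matrix.ProjectiveSpecialLinearGroup (Fin 2) F)) ∨
    (∃ (F : Type) (_ : Field F) (_ : Fintype F), Fintype.card F = 4 ∧ Nonempty (G ≃* Matrix.ProjectiveSpecialLinearGroup (Fin 3) F)) ∨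
    (∃ (F : Type) (_ : Field F) (_ : Fintype F), Fintype.card F = 8 ∧ Nonempty (G ≃* ↥(Cfsg.Lie.Sz F 4))) ∨
    (∃ (F : Type) (_ : Field F) (_ : Fintype F), ∃ n r s : ℕ, r.Prime ∧ s.Prime ∧ 3 ^ n - 1 = 2 * r ∧ 3 ^ n + 1 = 4 * s ∧
        Fintype.card F = 3 ^ n ∧ Nonempty (G ≃* Matrix.ProjectiveSpecialLinearGroup (Fin 2) F)) ∨
    (∃ (F : Type) (_ : Field F) (_ : Fintype F), ∃ n r : ℕ, (2 ^ n - 1).Prime ∧ r.Prime ∧ 2 ^ n + 1 = 3 * r ∧
        Fintype.card F = 2 ^ n ∧ Nonempty (G ≃* Matrix.ProjectiveSpecialLinearGroup (Fin 2) F)) := by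
  classical
  by_cases hG : IsMulCommutative G
  · letI : CommGroup G := { (inferInstance : Group G) with mul_comm := hG.is_comm.comm }
    exact Or.inl (IsSimpleGroup.prime_card (α := G))
  have key : Cfsg.Agent.Transfer.OneComposite.ListedTwo G ∨
      (∃ (F : Type) (_ : Field F) (_ : Fintype F), Fintype.card F = 4 ∧
        Nonempty (G ≃* Matrix.ProjectiveSpecialLinearGroup (Fin 3) F)) ∨
      (∃ (F : Type) (_ : Field F) (_ : Fintype F), Fintype.card F = 8 ∧ Nonempty (G ≃* ↥(Cfsg.Lie.Sz F 4))) := by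
    by_cases hc : Cfsg.Agent.Transfer.CIT.IsCIT G
    · exact Cfsg.Agent.Transfer.OneComposite.One.cit_case h1 hG hc
    obtain ⟨r, hr, hr2, h2r, -⟩ := Cfsg.Agent.Transfer.OneComposite.One.non_cit h1 hc
    have hr1 := hr.one_lt
    have hoc : Cfsg.Agent.Recog.OneComp.OC G r := ⟨hr, hr2, fun g hg => by
      by_contra hcon
      push Not at hcon
      have hg1 : 1 < orderOf g := by
        have := orderOf_pos g
        rcases Nat.lt_or_ge 1 (orderOf g) with h | h
        · exact h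
        · exact absurd (orderOf_eq_one_iff.1 (show orderOf g = 1 by omega)) hg
      exact hcon.2 (Cfsg.Agent.Transfer.OneComposite.One.eq h1 ⟨g, rfl⟩ hg1 hcon.1 h2r (by omega)
        (Nat.not_prime_mul (by norm_num) hr.ne_one))⟩
    obtain ⟨F, i1, i2, -, ⟨e⟩⟩ := hoc.psl_odd (by
      by_contra hall
      push Not at hall
      exact hG ⟨⟨hall⟩⟩) h2r
    exact Or.inl (Cfsg.Agent.Transfer.OneComposite.One.psl_two h1 hG e)
  rcases key with (h2 | h3 | h4) | hL | hS
  · exact Or.inr (Or.inl h2)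
  · exact Or.inr (Or.inr (Or.inr (Or.inr (Or.inl h3))))
  · exact Or.inr (Or.inr (Or.inr (Or.inr (Or.inr h4))))
  · exact Or.inr (Or.inr (Or.inl hL))
  · exact Or.inr (Or.inr (Or.inr (Or.inl hS)))

end Cfsg.Agent.S3718
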