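import Cfsg.Statements.S3726
import Cfsg.Agent.Lib.Perm.FixConst
import Cfsg.Agent.Lib.Grp.SuzIdent.CIT
import Cfsg.Agent.S0205
import Cfsg.Agent.S0215
import Cfsg.Agent.S0339
import Cfsg.Agent.S0680
import Cfsg.Agent.S0740

set_option autoImplicit false
open Cfsg

namespace Cfsg.Agent.S3726

open Cfsg.Agent.Perm.FixConst

/-- a normal abelian non-trivial subgroup of a faithful 2-transitive group is regular -/
private lemma regular_of_abelian {G Ω : Type*} [Group G] [Fintype Ω] [MulAction G Ω] {i : ℕ} {t : G}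
    (H : Hyp G Ω i t) (A : Subgroup G) (hA : A.Normal) (hne : A ≠ ⊥)
    (hab : ∀ a ∈ A, ∀ b ∈ A, a * b = b * a) :
    ∃ R : Subgroup G, R.Normal ∧ (∀ x y : Ω, ∃ r ∈ R, r • x = y) ∧
      ∀ x : Ω, ∀ r ∈ R, r • x = x → r = 1 := by
  have htr : ∀ x y : Ω, ∃ r ∈ A, r • x = y := by
    intro x y
    rcases eq_or_ne x y with rfl | hxy
    · exact ⟨1, A.one_mem, one_smul G x⟩
    obtain ⟨r, hr, hr1⟩ := (Subgroup.ne_bot_iff_exists_ne_one.mp hne).elim
      fun r hr => (⟨r.1, r.2, fun e => hr (Subtype.ext e)⟩ : ∃ r, r ∈ A ∧ r ≠ 1)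
    obtain ⟨a, ha⟩ := H.exists_moved hr1
    obtain ⟨g, h1, h2⟩ := H.trans (Ne.symm ha) hxy
    refine ⟨g * r * g⁻¹, hA.conj_mem r hr g, ?_⟩
    rw [mul_smul, mul_smul, ← h1, inv_smul_smul, h2]
  refine ⟨A, hA, htr, fun x r hr hrx => H.eq_one fun y => ?_⟩
  obtain ⟨r', hr', rfl⟩ := htr x y
  rw [← mul_smul, hab r hr r' hr', mul_smul, hrx]

/-- a non-trivial soluble normal subgroup contains a non-trivial abelian normal subgroup -/
private lemma exists_abelian {G : Type*} [Group G] [Finite G] (N : Subgroup G) :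
    N.Normal → N ≠ ⊥ → Group.IsSolvable N →
    ∃ A : Subgroup G, A.Normal ∧ A ≠ ⊥ ∧ ∀ a ∈ A, ∀ b ∈ A, a * b = b * a := by
  induction N using WellFoundedLT.induction with
  | ind N ih =>
    intro hN hne hsol
    by_cases hc : ⁅N, N⁆ = ⊥
    · refine ⟨N, hN, hne, fun a ha b hb => ?_⟩
      have h := Subgroup.commutator_mem_commutator ha hb
      rw [hc, Subgroup.mem_bot, commutatorElement_eq_one_iff_mul_comm] at h
      exact h
    · haveI := (Subgroup.nontrivial_iff_ne_bot N).mpr hne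
      have hle : ⁅N, N⁆ ≤ N := Subgroup.commutator_le_self N
      have hlt : ⁅N, N⁆ < N := by
        refine lt_of_le_of_ne hle fun e => ?_
        have h1 := Group.IsSolvable.commutator_lt_top_of_nontrivial N
        refine h1.ne ?_
        apply Subgroup.map_injective N.subtype_injective
        rw [Subgroup.map_subtype_commutator, ← MonoidHom.range_eq_map, Subgroup.range_subtype, e]
      haveI := hN
      refine ih _ hlt (Subgroup.commutator_normal N N) hc ?_
      haveI := hsol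
      exact Group.isSolvable_of_isSolvable_injective (f := Subgroup.inclusion hle)
        (Subgroup.inclusion_injective hle)

/-- if a non-identity element fixes three points there is a regular normal subgroup -/
private lemma regular_of_fix_three {G Ω : Type*} [Group G] [Finite G] [Fintype Ω] [MulAction G Ω]
    {i : ℕ} {t : G} (H : Hyp G Ω i t) {k : G} (hk : k ≠ 1) {a b c : Ω} (hab : a ≠ b) (hbc : b ≠ c)
    (hac : a ≠ c) (ka : k • a = a) (kb : k • b = b) (kc : k • c = c) :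
    ∃ R : Subgroup G, R.Normal ∧ (∀ x y : Ω, ∃ r ∈ R, r • x = y) ∧
      ∀ x : Ω, ∀ r ∈ R, r • x = x → r = 1 := by
  classical
  have hi2 : i ≠ 2 := by
    intro e
    subst e
    exact hk (H.semiregular_of_two hab hbc hac ka kb kc)
  have hi : i ≤ 1 := by
    have := H.fixity_le_two
    omega
  have hk3 : 3 ≤ nfix Ω k := three_le_nfix hab hbc hac ka kb kc
  -- no involution commutes with `k`
  have hnoinv : ∀ u : G, u * u = 1 → Commute u k → u = 1 := by
    intro u hu huk
    by_contra hu1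
    have := (H.conj (H.isConj_of_involution hu hu1)).cent k huk.symm hk
    omega
  obtain ⟨s₁, a1, a2⟩ := H.exists_swap hab
  obtain ⟨s₂, b1, b2⟩ := H.exists_swap hac
  obtain ⟨s, c1, c2⟩ := H.exists_swap hbc
  have i1 := H.swap_inverts hab a1 a2 ka kb
  have i2 := H.swap_inverts hac b1 b2 ka kc
  have i3 := H.swap_inverts hbc c1 c2 kb kc
  have hp : Commute (s₁ * s₂) k := by
    show s₁ * s₂ * k = k * (s₁ * s₂)
    calc s₁ * s₂ * k = s₁ * (s₂ * k * s₂⁻¹) * s₂ := by group
      _ = (s₁ * k * s₁⁻¹)⁻¹ * (s₁ * s₂) := by rw [i2]; group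
      _ = k * (s₁ * s₂) := by rw [i1, inv_inv]
  have pc : (s₁ * s₂) • c = b := by rw [mul_smul, b2, a1]
  let K : Subgroup G :=
    { carrier := {g | Commute g k}
      one_mem' := Commute.one_left k
      mul_mem' := fun ha hb => Commute.mul_left ha hb
      inv_mem' := fun ha => Commute.inv_left ha }
  have hKodd : Odd (Nat.card K) := by
    rw [← Nat.not_even_iff_odd, even_iff_two_dvd]
    intro h2
    haveI : Fact (Nat.Prime 2) := ⟨Nat.prime_two⟩
    obtain ⟨u, hu⟩ := exists_prime_orderOf_dvd_card' 2 h2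
    have huu : (u : G) * u = 1 := by
      have e := pow_orderOf_eq_one u
      rw [hu, pow_two] at e
      exact congrArg Subtype.val e
    have : u = 1 := Subtype.ext (hnoinv _ huu u.2)
    rw [this, orderOf_one] at hu
    omega
  have hconjK : ∀ h : G, Commute h k → Commute (s * h * s⁻¹) k := by
    intro h hh
    have e1 : s * h * s⁻¹ * (s * k * s⁻¹) = (s * k * s⁻¹) * (s * h * s⁻¹) := by
      calc s * h * s⁻¹ * (s * k * s⁻¹) = s * (h * k) * s⁻¹ := by group
        _ = s * (k * h) * s⁻¹ := by rw [hh.eq]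
        _ = (s * k * s⁻¹) * (s * h * s⁻¹) := by group
    rw [i3] at e1
    exact Commute.inv_right_iff.mp e1
  -- the orbit of `c` under `C(k)` is odd, so `s` fixes one of its points
  have hsO : ∀ z ∈ MulAction.orbit K c, s • z ∈ MulAction.orbit K c := by
    rintro z ⟨h, rfl⟩
    refine ⟨⟨s * h * s⁻¹ * (s₁ * s₂), Commute.mul_left (hconjK h h.2) hp⟩, ?_⟩
    show (s * (h : G) * s⁻¹ * (s₁ * s₂)) • c = s • (h : G) • c
    rw [mul_smul, pc, ← c2, ← mul_smul]
    simp [mul_smul, inv_smul_smul]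
  let σ₀ : MulAction.orbit K c → MulAction.orbit K c := fun z => ⟨s • z.1, hsO z.1 z.2⟩
  have hs2 : s * s = 1 := H.swap_sq hbc c1 c2
  have hσ₀ : Function.Involutive σ₀ := by
    intro z
    apply Subtype.ext
    show s • s • z.1 = z.1
    rw [smul_smul, hs2, one_smul]
  haveI : Fact (Nat.Prime 2) := ⟨Nat.prime_two⟩
  have hOodd : ¬ 2 ∣ Fintype.card (MulAction.orbit K c) := by
    rw [← Nat.card_eq_fintype_card, Nat.card_coe_set_eq, ← MulAction.index_stabilizer]
    intro h
    exact Nat.not_even_iff_odd.mpr hKodd (even_iff_two_dvd.mpr (h.trans (Subgroup.index_dvd_card _)))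
  obtain ⟨⟨e, he⟩, hse⟩ := Equiv.Perm.exists_fixed_point_of_prime (n := 1) hOodd
    (σ := hσ₀.toPerm σ₀) (by
      apply Equiv.ext
      intro z
      rw [pow_one, pow_two, Equiv.Perm.mul_apply]
      exact hσ₀ z)
  have hse' : s • e = e := congrArg Subtype.val hse
  have ke : k • e = e := by
    obtain ⟨h, rfl⟩ := he
    show k • (h : G) • c = (h : G) • c
    rw [← mul_smul, ← h.2.eq, mul_smul, kc]
  have heb : e ≠ b := by
    rintro rfl
    exact hbc (hse'.symm.trans c1)
  have hst : IsConj t s := H.isConj_of_swap hbc c1 c2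
  -- so `i = 1`
  have hi1 : i = 1 := by
    have h : 0 < nfix Ω s := by
      haveI : Nonempty {x : Ω // s • x = x} := ⟨⟨e, hse'⟩⟩
      exact Nat.card_pos
    rw [(H.conj hst).card] at h
    omega
  subst hi1
  obtain ⟨x₀, hx₀⟩ : ∃ x₀ : Ω, t • x₀ = x₀ := by
    have h : 0 < Nat.card {x : Ω // t • x = x} := lt_of_lt_of_eq one_pos H.card.symm
    obtain ⟨⟨x₀, h⟩⟩ := (Nat.card_pos_iff.mp h).1
    exact ⟨x₀, h⟩
  have huniq : ∀ u : G, IsConj t u → ∀ x y : Ω, u • x = x → u • y = y → x = y := by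
    intro u hu x y hx hy
    by_contra hxy
    have := two_le_nfix hxy hx hy
    rw [(H.conj hu).card] at this
    omega
  -- conjugates of `t` fixing `e`
  have hIle : Nat.card {u : G // IsConj t u ∧ u • e = e} = Nat.card (Hyp.Mv G e b e b) := by
    have h1 : Nat.card {g : G // (g * t * g⁻¹) • e = e} = Nat.card {g : G // g • e = e} := by
      have hiff : ∀ g : G, (g * t * g⁻¹) • e = e ↔ g • x₀ = e := by
        intro g
        have hg : IsConj t (g * t * g⁻¹) := isConj_iff.mpr ⟨g, rfl⟩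
        have hfix : (g * t * g⁻¹) • g • x₀ = g • x₀ := by
          rw [mul_smul, mul_smul, inv_smul_smul, hx₀]
        exact ⟨fun h => huniq _ hg _ _ hfix h, fun h => h ▸ hfix⟩
      rw [Nat.card_congr (Equiv.subtypeEquivRight hiff)]
      obtain ⟨g₁, hg₁⟩ : ∃ g₁ : G, g₁ • e = x₀ := by
        rcases eq_or_ne e x₀ with h | h
        · exact ⟨1, by rw [one_smul, h]⟩
        · obtain ⟨g, h1, -⟩ := H.trans h h.symm
          exact ⟨g, h1⟩
      refine Nat.card_congr ((Equiv.mulRight g₁).subtypeEquiv fun g => ?_)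
      simp [Equiv.coe_mulRight, mul_smul, hg₁]
    have h2 : Nat.card {g : G // g • e = e} =
        (Fintype.card Ω - 1) * Nat.card (Hyp.Mv G e b e b) := by
      let f : {g : G // g • e = e} → {y : Ω // y ≠ e} := fun g => ⟨g.1 • b, fun h => heb (by
        apply smul_left_cancel g.1
        rw [g.2, h])⟩
      rw [← Nat.card_congr (Equiv.sigmaFiberEquiv f), Nat.card_sigma,
        Finset.sum_congr rfl (fun y _ => show Nat.card {g // f g = y} =
          Nat.card (Hyp.Mv G e b e b) from ?_), Finset.sum_const, Finset.card_univ, smul_eq_mul,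
        Fintype.card_subtype_compl, Fintype.card_subtype_eq]
      rw [← H.card_mv_right heb (Ne.symm y.2)]
      exact Nat.card_congr
        { toFun := fun g => ⟨g.1.1, g.1.2, congrArg Subtype.val g.2⟩
          invFun := fun g => ⟨⟨g.1, g.2.1⟩, Subtype.ext g.2.2⟩
          left_inv := fun g => rfl
          right_inv := fun g => rfl }
    have h3 := H.card_conjugator_of fun u => u • e = e
    rw [h1, h2] at h3
    have h4 : Fintype.card Ω - 1 = Nat.card {g : G // Commute g t} := by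
      have := H.card_eq
      omega
    rw [h4] at h3
    refine (Nat.eq_of_mul_eq_mul_left ?_ h3).symm
    haveI : Nonempty {g : G // Commute g t} := ⟨⟨1, Commute.one_left t⟩⟩
    exact Nat.card_pos
  have hinv : ∀ u : G, IsConj t u → u • e = e → u * k * u⁻¹ = k⁻¹ := by
    let φ : Hyp.Mv G e b e b → {u : G // IsConj t u ∧ u • e = e} := fun δ =>
      ⟨δ.1 * s * δ.1⁻¹, hst.trans (isConj_iff.mpr ⟨δ.1, rfl⟩), by
        rw [mul_smul, mul_smul, inv_smul_eq_iff.mpr δ.2.1.symm, hse', δ.2.1]⟩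
    have hφ : Function.Injective φ := by
      intro δ δ' h
      have h' : δ.1 * s * δ.1⁻¹ = δ'.1 * s * δ'.1⁻¹ := congrArg Subtype.val h
      apply Subtype.ext
      by_contra hne
      have hc : Commute (δ'.1⁻¹ * δ.1) s := by
        show δ'.1⁻¹ * δ.1 * s = s * (δ'.1⁻¹ * δ.1)
        calc δ'.1⁻¹ * δ.1 * s = δ'.1⁻¹ * (δ.1 * s * δ.1⁻¹) * δ.1 := by group
          _ = s * (δ'.1⁻¹ * δ.1) := by rw [h']; group
      have h1 := (H.conj hst).cent _ hc (fun e' => hne (inv_mul_eq_one.mp e').symm)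
      have h2 : 2 ≤ nfix Ω (δ'.1⁻¹ * δ.1) := two_le_nfix heb
        (by rw [mul_smul, δ.2.1, inv_smul_eq_iff.mpr δ'.2.1.symm])
        (by rw [mul_smul, δ.2.2, inv_smul_eq_iff.mpr δ'.2.2.symm])
      omega
    have hbij : Function.Bijective φ :=
      (Nat.bijective_iff_injective_and_card φ).mpr ⟨hφ, hIle.symm⟩
    intro u hu hue
    obtain ⟨δ, hδ⟩ := hbij.2 ⟨u, hu, hue⟩
    have hδ' : δ.1 * s * δ.1⁻¹ = u := congrArg Subtype.val hδ
    have hdk : Commute δ.1 k := H.stab_comm heb δ.2.1 δ.2.2 ke kb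
    rw [← hδ']
    calc δ.1 * s * δ.1⁻¹ * k * (δ.1 * s * δ.1⁻¹)⁻¹
        = δ.1 * s * (δ.1⁻¹ * k * δ.1) * s⁻¹ * δ.1⁻¹ := by group
      _ = δ.1 * (s * k * s⁻¹) * δ.1⁻¹ := by
          rw [show δ.1⁻¹ * k * δ.1 = k by rw [mul_assoc, ← hdk.eq, inv_mul_cancel_left]]
          group
      _ = k⁻¹ := by rw [i3, hdk.inv_right.eq]; group
  -- two distinct commuting involutions do not exist
  have honly : ∀ u v : G, u * u = 1 → u ≠ 1 → v * v = 1 → v ≠ 1 → Commute u v → u = v := by
    intro u v hu hu1 hv hv1 huv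
    by_contra hne
    have cu := H.isConj_of_involution hu hu1
    have cv := H.isConj_of_involution hv hv1
    obtain ⟨w, hw⟩ := isConj_iff.mp cu
    have hfu : u • w • x₀ = w • x₀ := by
      rw [← hw, mul_smul, mul_smul, inv_smul_smul, hx₀]
    have hfv : v • w • x₀ = w • x₀ := by
      refine huniq u cu _ _ ?_ hfu
      rw [← mul_smul, huv.eq, mul_smul, hfu]
    obtain ⟨g, hg⟩ : ∃ g : G, g • w • x₀ = e := by
      rcases eq_or_ne (w • x₀) e with h | h
      · exact ⟨1, by rw [one_smul, h]⟩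
      · obtain ⟨g, h1, -⟩ := H.trans h h.symm
        exact ⟨g, h1⟩
    have ginv : g⁻¹ • e = w • x₀ := inv_smul_eq_iff.mpr hg.symm
    have iu := hinv (g * u * g⁻¹) (cu.trans (isConj_iff.mpr ⟨g, rfl⟩))
      (by rw [mul_smul, mul_smul, ginv, hfu, hg])
    have iv := hinv (g * v * g⁻¹) (cv.trans (isConj_iff.mpr ⟨g, rfl⟩))
      (by rw [mul_smul, mul_smul, ginv, hfv, hg])
    have huv1 : u * v ≠ 1 := fun h => hne (by
      rw [eq_inv_of_mul_eq_one_left h, inv_eq_of_mul_eq_one_right hv])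
    apply huv1
    have h1 : g * (u * v) * g⁻¹ = 1 := by
      refine hnoinv _ ?_ ?_
      · calc g * (u * v) * g⁻¹ * (g * (u * v) * g⁻¹) = g * (u * (v * u) * v) * g⁻¹ := by group
          _ = g * (u * (u * v) * v) * g⁻¹ := by rw [huv.eq]
          _ = g * ((u * u) * (v * v)) * g⁻¹ := by group
          _ = 1 := by rw [hu, hv]; group
      · show g * (u * v) * g⁻¹ * k = k * (g * (u * v) * g⁻¹)
        calc g * (u * v) * g⁻¹ * k
            = g * u * g⁻¹ * (g * v * g⁻¹ * k * (g * v * g⁻¹)⁻¹) * (g * v * g⁻¹) := by group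
          _ = (g * u * g⁻¹ * k * (g * u * g⁻¹)⁻¹)⁻¹ * (g * u * g⁻¹) * (g * v * g⁻¹) := by
              rw [iv]; group
          _ = k * (g * (u * v) * g⁻¹) := by rw [iu]; group
    calc u * v = g⁻¹ * (g * (u * v) * g⁻¹) * g := by group
      _ = 1 := by rw [h1]; group
  -- Glauberman
  have htord : orderOf t = 2 := orderOf_eq_prime (by rw [pow_two, H.sq]) H.ne
  obtain ⟨P, hP⟩ := IsPGroup.exists_le_sylow (p := 2) (P := Subgroup.zpowers t)
    (IsPGroup.of_card (n := 1) (by rw [Nat.card_zpowers, htord, pow_one]))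
  have htP : t ∈ P := hP (Subgroup.mem_zpowers t)
  haveI : Nontrivial P := ⟨⟨⟨t, htP⟩, 1, fun h => H.ne (congrArg Subtype.val h)⟩⟩
  haveI := P.isPGroup'.center_nontrivial
  obtain ⟨z, hz⟩ : ∃ z : Subgroup.center P, orderOf z = 2 := by
    apply exists_prime_orderOf_dvd_card'
    obtain ⟨n, hn0, hn⟩ :=
      ((IsPGroup.to_subgroup P.isPGroup' (Subgroup.center P)).nontrivial_iff_card).mp ‹_›
    rw [hn]
    exact dvd_pow_self 2 hn0.ne'
  have hzz : ((z : P) : G) * (z : P) = 1 := by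
    have e := pow_orderOf_eq_one z
    rw [hz, pow_two] at e
    exact congrArg (fun w : Subgroup.center P => ((w : P) : G)) e
  have hz1 : ((z : P) : G) ≠ 1 := by
    intro h
    have h' : z = 1 := Subtype.ext (Subtype.ext h)
    rw [h', orderOf_one] at hz
    omega
  have hzc : ∀ w ∈ P, Commute ((z : P) : G) w := fun w hw =>
    congrArg Subtype.val ((Subgroup.mem_center_iff.mp z.2 ⟨w, hw⟩).symm)
  have htz : t = ((z : P) : G) := honly _ _ H.sq H.ne hzz hz1 (hzc t htP).symm
  have hiso : ∀ g : G, g * t * g⁻¹ ∈ P → g * t * g⁻¹ = t := by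
    intro g hg
    have Hg := H.conj (isConj_iff.mpr ⟨g, rfl⟩)
    refine honly _ _ Hg.sq Hg.ne H.sq H.ne ?_
    rw [htz] at hg ⊢
    exact (hzc _ hg).symm
  obtain ⟨N, hNn, hNodd, hNc⟩ := Cfsg.Agent.S0215.result P t htord htP hiso
  have hNne : N ≠ ⊥ := by
    rintro rfl
    have h := hNc k
    rw [Subgroup.mem_bot, ← commutatorElement_def, commutatorElement_eq_one_iff_mul_comm] at h
    exact H.ne (hnoinv t H.sq h)
  obtain ⟨A, hA1, hA2, hA3⟩ := exists_abelian N hNn hNne (Cfsg.Agent.S0205.result hNodd)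
  exact regular_of_abelian H A hA1 hA2 hA3

/-- sharply two-transitive groups have a regular normal subgroup -/
private lemma regular_of_sharp {G Ω : Type*} [Group G] [Finite G] [Fintype Ω] [MulAction G Ω]
    {i : ℕ} {t : G} (H : Hyp G Ω i t) (hn : 2 ≤ Fintype.card Ω)
    (hsharp : ∀ g : G, ∀ a b : Ω, a ≠ b → g • a = a → g • b = b → g = 1) :
    ∃ R : Subgroup G, R.Normal ∧ (∀ x y : Ω, ∃ r ∈ R, r • x = y) ∧
      ∀ x : Ω, ∀ r ∈ R, r • x = x → r = 1 := by
  classical
  let φ : G →* Equiv.Perm Ω := MulAction.toPermHom G Ω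
  haveI : MulAction.IsMultiplyPretransitive φ.range Ω 2 := by
    rw [MulAction.is_two_pretransitive_iff]
    intro a b c d hab hcd
    obtain ⟨g, h1, h2⟩ := H.trans hab hcd
    exact ⟨⟨φ g, g, rfl⟩, h1, h2⟩
  obtain ⟨p, j, hp, -, -, hP⟩ := Cfsg.Agent.S0680.result φ.range (fun x => by
    rw [Subgroup.eq_bot_iff_forall]
    rintro ⟨_, g, rfl⟩ hm
    have h0 := DFunLike.congr_fun (MulAction.mem_stabilizer_iff.mp hm) 0
    have h1 := DFunLike.congr_fun (MulAction.mem_stabilizer_iff.mp hm) 1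
    have hg : g = 1 := hsharp g (x 0) (x 1) (fun e => zero_ne_one (x.injective e)) h0 h1
    exact Subtype.ext (by simp [hg])) hn
  haveI : Fact p.Prime := ⟨hp⟩
  obtain ⟨P⟩ : Nonempty (Sylow p φ.range) := inferInstance
  obtain ⟨hn', -, -, htr, hst, -⟩ := hP ‹_› P
  haveI := hn'
  refine ⟨(P : Subgroup φ.range).comap φ.rangeRestrict, inferInstance, fun x y => ?_,
    fun x r hr hrx => ?_⟩
  · obtain ⟨⟨⟨_, g, rfl⟩, hg⟩, hgy⟩ := htr.exists_smul_eq x y
    exact ⟨g, hg, hgy⟩
  · have h : (⟨φ.rangeRestrict r, hr⟩ : (P : Subgroup φ.range)) ∈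
        MulAction.stabilizer (P : Subgroup φ.range) x := hrx
    rw [hst x, Subgroup.mem_bot] at h
    refine H.eq_one fun a => ?_
    exact congrArg (fun w : (P : Subgroup φ.range) => ((w : φ.range) : Equiv.Perm Ω) a) h


/-- Let a finite group G act faithfully and 2-transitively on a finite set Ω, and suppose there is an involution t of G, fixing exactly i points, such that every non-identity element of the centralizer of t also fixes exactly i points. Then G is isomorphic to PSL₂(q) for some finite field of order q, or to a Suzuki group Sz(q) (q = 2^(2m+1) ≥ 8), or G has a normal subgroup acting regularly on Ω. -/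
theorem result {G Ω : Type*} [Group G] [Finite G] [Fintype Ω] [MulAction G Ω] [FaithfulSMul G Ω]
    (h2 : MulAction.IsMultiplyPretransitive G Ω 2) (i : ℕ) (t : G) (ht : orderOf t = 2)
    (hti : Nat.card {x : Ω // t • x = x} = i)
    (hC : ∀ g : G, Commute g t → g ≠ 1 → Nat.card {x : Ω // g • x = x} = i) :
    (∃ (F : Type) (_ : Field F) (_ : Fintype F), Nonempty (G ≃* Matrix.ProjectiveSpecialLinearGroup (Fin 2) F)) ∨
    Cfsg.Lie.IsoSuzuki G ∨
    (∃ R : Subgroup G, R.Normal ∧ (∀ x y : Ω, ∃ r ∈ R, r • x = y) ∧ ∀ x : Ω, ∀ r ∈ R, r • x = x → r = 1) := by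
  classical
  haveI := h2
  have htrans : ∀ {a b c d : Ω}, a ≠ b → c ≠ d → ∃ g : G, g • a = c ∧ g • b = d :=
    MulAction.is_two_pretransitive_iff.mp h2
  have ht2 : t * t = 1 := by
    have e := pow_orderOf_eq_one t
    rwa [ht, pow_two] at e
  have ht1 : t ≠ 1 := by
    intro e
    rw [e, orderOf_one] at ht
    omega
  have H : Hyp G Ω i t := ⟨‹_›, htrans, ht2, ht1, hti, hC⟩
  obtain ⟨a₀, ha₀⟩ := H.exists_moved ht1
  have hn : 2 ≤ Fintype.card Ω := Fintype.one_lt_card_iff.mpr ⟨_, _, ha₀⟩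
  by_cases h3 : ∃ g : G, ∃ a b c : Ω, g ≠ 1 ∧ a ≠ b ∧ b ≠ c ∧ a ≠ c ∧
      g • a = a ∧ g • b = b ∧ g • c = c
  · obtain ⟨g, a, b, c, hg, hab, hbc, hac, ga, gb, gc⟩ := h3
    exact Or.inr (Or.inr (regular_of_fix_three H hg hab hbc hac ga gb gc))
  have hsr : ∀ g : G, ∀ a b c : Ω, a ≠ b → b ≠ c → a ≠ c →
      g • a = a → g • b = b → g • c = c → g = 1 := fun g a b c hab hbc hac ga gb gc => by
    by_contra hg
    exact h3 ⟨g, a, b, c, hg, hab, hbc, hac, ga, gb, gc⟩
  by_cases hd : ∃ g : G, g ≠ 1 ∧ ∃ a b : Ω, a ≠ b ∧ g • a = a ∧ g • b = b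
  swap
  · refine Or.inr (Or.inr (regular_of_sharp H hn fun g a b hab ga gb => ?_))
    by_contra hg
    exact hd ⟨g, hg, a, b, hab, ga, gb⟩
  by_cases hreg : ∀ N : Subgroup G, N.Normal → MulAction.IsPretransitive N Ω →
      ∃ a : Ω, MulAction.stabilizer N a ≠ ⊥
  swap
  · push Not at hreg
    obtain ⟨N, hN, hNt, hNs⟩ := hreg
    refine Or.inr (Or.inr ⟨N, hN, fun x y => ?_, fun x r hr hrx => ?_⟩)
    · obtain ⟨⟨r, hr⟩, h⟩ := hNt.exists_smul_eq x y
      exact ⟨r, hr, h⟩
    · have h : (⟨r, hr⟩ : N) ∈ MulAction.stabilizer N x := hrx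
      rw [hNs x, Subgroup.mem_bot] at h
      exact congrArg Subtype.val h
  have hZ : Cfsg.IsZassenhausGroup G Ω := ⟨‹_›, h2, hsr, hd, hreg⟩
  haveI : Nontrivial G := ⟨⟨t, 1, ht1⟩⟩
  haveI : IsSimpleGroup G := by
    refine ⟨fun N hN => or_iff_not_imp_left.mpr fun hNe => ?_⟩
    haveI := hN
    have hZN := Cfsg.Agent.S0339.result hZ N hNe
    obtain ⟨u, hu, -, -⟩ := (Cfsg.Agent.S0740.result hZN ha₀).1
    have huu : (u : G) * u = 1 := by
      have e := pow_orderOf_eq_one u
      rw [hu, pow_two] at e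
      exact congrArg Subtype.val e
    have hu1 : (u : G) ≠ 1 := by
      intro e
      rw [show u = 1 from Subtype.ext e, orderOf_one] at hu
      omega
    have htN : ∀ s : G, IsConj t s → s ∈ N := by
      intro s hs
      obtain ⟨c, rfl⟩ := isConj_iff.mp ((H.isConj_of_involution huu hu1).symm.trans hs)
      exact hN.conj_mem _ u.2 c
    haveI := hZN.2.1
    rw [Subgroup.eq_top_iff']
    intro g
    have htrN : ∀ {a b c d : Ω}, a ≠ b → c ≠ d → ∃ g : N, g • a = c ∧ g • b = d :=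
      MulAction.is_two_pretransitive_iff.mp hZN.2.1
    obtain ⟨⟨n, hn'⟩, e1, e2⟩ := htrN (a := g • (t • a₀)) (b := g • a₀) (c := t • a₀) (d := a₀)
      (fun e => ha₀ (smul_left_cancel g e)) ha₀
    change n • g • t • a₀ = t • a₀ at e1
    change n • g • a₀ = a₀ at e2
    obtain ⟨s, s1, s2⟩ := H.exists_swap ha₀
    have hsN : s ∈ N := htN s (H.isConj_of_swap ha₀ s1 s2)
    have hsg : s * (n * g) ∈ N := htN _ (H.isConj_of_swap ha₀
      (by rw [mul_smul, mul_smul, e1, s1]) (by rw [mul_smul, mul_smul, e2, s2]))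
    exact (Subgroup.mul_mem_cancel_left N hn').mp ((Subgroup.mul_mem_cancel_left N hsN).mp hsg)
  rcases Cfsg.Agent.Grp.SuzIdent.simple_zassenhaus_iso hZ with h | h
  · exact Or.inl h
  · exact Or.inr (Or.inl h)

end Cfsg.Agent.S3726
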