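import Cfsg.Statements.S3733
import Cfsg.Agent.Lib.Grp.Coprime

set_option autoImplicit false
open Cfsg

namespace Cfsg.Agent.S3733

/-- Let A and V be subgroups of a finite group with V abelian and nontrivial and A normalizing V. Suppose a nonempty finite family of proper subgroups of A partitions A: every non-identity element of A lies in exactly one member. If the number of members minus one is coprime to the order of V, then some member B of the family has a non-identity fixed point on V, that is V ∩ C(B) ≠ 1. -/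
theorem result {G : Type*} [Group G] [Finite G] (A V : Subgroup G) (hVab : IsMulCommutative V) (hV : V ≠ ⊥) (hAV : A ≤ Subgroup.normalizer (V : Set G)) (𝒜 : Finset (Subgroup G)) (hne : 𝒜.Nonempty) (hprop : ∀ B ∈ 𝒜, B < A) (hpart : ∀ a ∈ A, a ≠ 1 → ∃! B, B ∈ 𝒜 ∧ a ∈ B) (hk : (𝒜.card - 1).Coprime (Nat.card V)) : ∃ B ∈ 𝒜, V ⊓ Subgroup.centralizer (B : Set G) ≠ ⊥ := by
  classical
  have := Fintype.ofFinite G
  letI : CommGroup V := { (inferInstance : Group V) with mul_comm := mul_comm' }
  by_contra hcon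
  push Not at hcon
  let act : G → V → V := fun a v => if h : a ∈ A then ⟨a * v * a⁻¹, Grp.mem_conj_normalizer (hAV h) v.2⟩ else 1
  have hact : ∀ (a : G), a ∈ A → ∀ v : V, ((act a v : V) : G) = a * v * a⁻¹ := fun a ha v => by simp [act, ha]
  have hfix : ∀ (B : Subgroup G), B ≤ A → ∀ v : V, V ⊓ Subgroup.centralizer (B : Set G) = ⊥ →
      ∏ a ∈ Finset.univ.filter (· ∈ B), act a v = 1 := by
    intro B hBA v hB
    set s := Finset.univ.filter (· ∈ B)
    set w := ∏ a ∈ s, act a v with hw
    have hwfix : ∀ b ∈ B, b * (w : G) * b⁻¹ = w := by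
      intro b hb
      let φ : V →* V := MonoidHom.mk' (fun u : V => ⟨b * u * b⁻¹, Grp.mem_conj_normalizer (hAV (hBA hb)) u.2⟩)
        (fun x y => Subtype.ext (by simp [mul_assoc]))
      have h1 : φ w = w := by
        rw [hw, map_prod]
        refine Finset.prod_equiv (Equiv.mulLeft b) (fun a => by simp [s, B.mul_mem_cancel_left hb]) (fun a ha => ?_)
        have haA : a ∈ A := hBA (by simpa [s] using ha)
        apply Subtype.ext
        show b * ((act a v : V) : G) * b⁻¹ = _
        rw [hact a haA, Equiv.coe_mulLeft, hact _ (mul_mem (hBA hb) haA)]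
        group
      exact congrArg Subtype.val h1
    have : (w : G) ∈ V ⊓ Subgroup.centralizer (B : Set G) :=
      Subgroup.mem_inf.mpr ⟨w.2, Subgroup.mem_centralizer_iff.mpr fun b hb => mul_inv_eq_iff_eq_mul.mp (hwfix b hb)⟩
    rw [hB, Subgroup.mem_bot] at this
    exact Subtype.ext this
  obtain ⟨B0, hB0⟩ := hne
  have hA0 : V ⊓ Subgroup.centralizer (A : Set G) = ⊥ :=
    le_bot_iff.mp ((inf_le_inf_left V (Subgroup.centralizer_le (hprop B0 hB0).le)).trans (hcon B0 hB0).le)
  have hk0 : 1 ≤ 𝒜.card := Finset.card_pos.mpr ⟨B0, hB0⟩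
  have key : ∀ v : V, v ^ (𝒜.card - 1) = 1 := by
    intro v
    have h1 : ∏ B ∈ 𝒜, ∏ a ∈ Finset.univ.filter (· ∈ B), act a v = 1 :=
      Finset.prod_eq_one fun B hB => hfix B (hprop B hB).le v (hcon B hB)
    have h2 : ∀ a : G, ∏ B ∈ 𝒜, (if a ∈ B then act a v else 1) = (if a ∈ A then act a v else 1) * (if a = 1 then v ^ (𝒜.card - 1) else 1) := by
      intro a
      rw [← Finset.prod_filter, Finset.prod_const]
      by_cases ha1 : a = 1
      · subst ha1
        have e : 𝒜.filter (fun B => (1 : G) ∈ B) = 𝒜 := Finset.filter_true_of_mem fun B _ => one_mem B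
        have e2 : act 1 v = v := Subtype.ext (by rw [hact 1 (one_mem A)]; simp)
        rw [e, if_pos (one_mem A), if_pos rfl, e2, ← pow_succ', Nat.sub_add_cancel hk0]
      · rw [if_neg ha1, mul_one]
        by_cases haA : a ∈ A
        · obtain ⟨B, ⟨hB, haB⟩, huniq⟩ := hpart a haA ha1
          rw [if_pos haA, show 𝒜.filter (fun B => a ∈ B) = {B} from Finset.eq_singleton_iff_unique_mem.mpr
            ⟨Finset.mem_filter.mpr ⟨hB, haB⟩, fun C hC => huniq C (Finset.mem_filter.mp hC)⟩, Finset.card_singleton, pow_one]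
        · rw [if_neg haA, show 𝒜.filter (fun B => a ∈ B) = ∅ from Finset.filter_eq_empty_iff.mpr
            (fun B hB h => haA ((hprop B hB).le h)), Finset.card_empty, pow_zero]
    simp only [Finset.prod_filter] at h1
    rw [Finset.prod_comm, Finset.prod_congr rfl (fun a _ => h2 a), Finset.prod_mul_distrib, ← Finset.prod_filter,
      hfix A le_rfl v hA0, one_mul, Finset.prod_ite_eq' Finset.univ (1 : G), if_pos (Finset.mem_univ _)] at h1
    exact h1
  refine hV ((Subgroup.eq_bot_iff_forall V).mpr fun x hx => ?_)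
  have h3 : (⟨x, hx⟩ : V) = 1 := orderOf_eq_one_iff.mp (Nat.eq_one_of_dvd_coprimes hk
    (orderOf_dvd_of_pow_eq_one (key _)) (orderOf_dvd_natCard _))
  exact congrArg Subtype.val h3

end Cfsg.Agent.S3733
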