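import Cfsg.Statements.S3735
import Mathlib
import Cfsg.Agent.Lib.Grp.Basic

set_option autoImplicit false
open Cfsg
open scoped commutatorElement Pointwise

namespace Cfsg.Agent.S3735

/-- Clifford's Theorem for actions on finite abelian groups, first part. Let H and V be subgroups of a finite group with V abelian and H normalizing V, and let A be a normal subgroup of H. If every H-invariant subgroup of V has an H-invariant complement in V, then every A-invariant subgroup of V has an A-invariant complement in V. -/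
theorem result {G : Type*} [Group G] [Finite G] (H A V : Subgroup G) (hVab : IsMulCommutative V) (hHV : H ≤ Subgroup.normalizer (V : Set G)) (hAH : A ≤ H) (hAn : H ≤ Subgroup.normalizer (A : Set G)) (hss : ∀ U : Subgroup G, U ≤ V → H ≤ Subgroup.normalizer (U : Set G) → ∃ W : Subgroup G, W ≤ V ∧ H ≤ Subgroup.normalizer (W : Set G) ∧ U ⊓ W = ⊥ ∧ U ⊔ W = V) (U : Subgroup G) (hUV : U ≤ V) (hAU : A ≤ Subgroup.normalizer (U : Set G)) : ∃ W : Subgroup G, W ≤ V ∧ A ≤ Subgroup.normalizer (W : Set G) ∧ U ⊓ W = ⊥ ∧ U ⊔ W = V := by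
  classical
  have hcomm : ∀ x ∈ V, ∀ y ∈ V, x * y = y * x := fun x hx y hy =>
    congrArg Subtype.val (mul_comm' (⟨x, hx⟩ : V) ⟨y, hy⟩)
  have hnorm : ∀ W X : Subgroup G, W ≤ V → X ≤ V → X ≤ Subgroup.normalizer (W : Set G) := by
    intro W X hW hX x hx
    rw [Subgroup.mem_normalizer_iff]
    intro w
    constructor
    · intro hw; rw [hcomm x (hX hx) w (hW hw), mul_inv_cancel_right]; exact hw
    · intro hw
      have h1 := hcomm x (hX hx) _ (hW hw)
      rw [inv_mul_cancel_right] at h1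
      rwa [mul_left_cancel h1] at hw
  have hinf : ∀ {B W X : Subgroup G}, B ≤ Subgroup.normalizer (W : Set G) → B ≤ Subgroup.normalizer (X : Set G) →
      B ≤ Subgroup.normalizer ((W ⊓ X : Subgroup G) : Set G) ∧ B ≤ Subgroup.normalizer ((W ⊔ X : Subgroup G) : Set G) := by
    intro B W X h1 h2
    refine ⟨fun b hb => ?_, fun b hb => ?_⟩ <;> rw [Agent.Grp.mem_normalizer_iff_smul]
    · rw [Subgroup.smul_inf, Agent.Grp.mem_normalizer_iff_smul.mp (h1 hb), Agent.Grp.mem_normalizer_iff_smul.mp (h2 hb)]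
    · rw [Subgroup.smul_sup, Agent.Grp.mem_normalizer_iff_smul.mp (h1 hb), Agent.Grp.mem_normalizer_iff_smul.mp (h2 hb)]
  have hVn : A ≤ Subgroup.normalizer (V : Set G) := hAH.trans hHV
  let S : Set (Subgroup G) := {M | M ≤ V ∧ A ≤ Subgroup.normalizer (M : Set G) ∧ M ≠ ⊥ ∧
    ∀ M' : Subgroup G, M' ≤ M → A ≤ Subgroup.normalizer (M' : Set G) → M' = ⊥ ∨ M' = M}
  have hex : ∀ X : Subgroup G, X ≤ V → A ≤ Subgroup.normalizer (X : Set G) → X ≠ ⊥ → ∃ M ∈ S, M ≤ X := by
    intro X hXV hAX hX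
    obtain ⟨M, hM⟩ := (Set.toFinite {M : Subgroup G | M ≤ X ∧ A ≤ Subgroup.normalizer (M : Set G) ∧ M ≠ ⊥}).exists_minimal
      ⟨X, le_rfl, hAX, hX⟩
    refine ⟨M, ⟨hM.1.1.trans hXV, hM.1.2.1, hM.1.2.2, fun M' hle hA' => ?_⟩, hM.1.1⟩
    by_cases h : M' = ⊥
    · exact Or.inl h
    · exact Or.inr (le_antisymm hle (hM.2 ⟨hle.trans hM.1.1, hA', h⟩ hle))
  set T := sSup S with hT
  have hTV : T ≤ V := sSup_le fun M hM => hM.1
  have hHT : H ≤ Subgroup.normalizer (T : Set G) := by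
    have key : ∀ h ∈ H, MulAut.conj h • T ≤ T := by
      intro h hh
      rw [hT, Subgroup.pointwise_smul_subset_iff]
      refine sSup_le fun M hM => ?_
      rw [← Subgroup.pointwise_smul_subset_iff]
      refine le_sSup ?_
      obtain ⟨h1, h2, h3, h4⟩ := hM
      have hV' : MulAut.conj h • V = V := Agent.Grp.mem_normalizer_iff_smul.mp (hHV hh)
      have hA' : MulAut.conj h • A = A := Agent.Grp.mem_normalizer_iff_smul.mp (hAn hh)
      have hnA : ∀ (k : G), MulAut.conj k • A = A → ∀ M' : Subgroup G, A ≤ Subgroup.normalizer (M' : Set G) →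
          A ≤ Subgroup.normalizer ((MulAut.conj k • M' : Subgroup G) : Set G) := by
        intro k hk M' hM' a ha
        rw [← hk, Subgroup.mem_pointwise_smul_iff_inv_smul_mem, ← map_inv] at ha
        have e1 := Agent.Grp.mem_normalizer_iff_smul.mp (hM' ha)
        rw [Agent.Grp.mem_normalizer_iff_smul]
        rw [show MulAut.conj k⁻¹ • a = k⁻¹ * a * k by simp [MulAut.smul_def, MulAut.conj_apply]] at e1
        rw [← mul_smul, ← map_mul, show a * k = k * (k⁻¹ * a * k) by group, map_mul, mul_smul, e1]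
      refine ⟨?_, hnA h hA' M h2, fun hb => h3 ?_, fun M' hle hA2 => ?_⟩
      · change MulAut.conj h • M ≤ V
        rw [← hV']
        exact Subgroup.pointwise_smul_le_pointwise_smul_iff.mpr h1
      · change MulAut.conj h • M = ⊥ at hb
        rwa [← Subgroup.smul_bot (MulAut.conj h), smul_left_cancel_iff] at hb
      · change M' ≤ MulAut.conj h • M at hle
        rw [Subgroup.subset_pointwise_smul_iff, ← map_inv] at hle
        rcases h4 _ hle (hnA h⁻¹ (by rw [map_inv, inv_smul_eq_iff, hA']) M' hA2) with e | e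
        · left
          rwa [map_inv, inv_smul_eq_iff, Subgroup.smul_bot] at e
        · right
          rw [map_inv, inv_smul_eq_iff] at e
          exact e
    intro h hh
    rw [Agent.Grp.mem_normalizer_iff_smul]
    refine le_antisymm (key h hh) ?_
    have := Subgroup.pointwise_smul_le_pointwise_smul_iff (a := MulAut.conj h) |>.mpr (key h⁻¹ (inv_mem hh))
    rwa [← mul_smul, ← map_mul, mul_inv_cancel, map_one, one_smul] at this
  have hTtop : T = V := by
    obtain ⟨W, hWV, hHW, hTW, hsup⟩ := hss T hTV hHT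
    by_cases hW : W = ⊥
    · rwa [hW, sup_bot_eq] at hsup
    · exfalso
      obtain ⟨M, hM, hMW⟩ := hex W hWV (hAH.trans hHW) hW
      exact hM.2.2.1 (eq_bot_iff.mpr (hTW ▸ le_inf (le_sSup hM) hMW))
  obtain ⟨W, hW⟩ := (Set.toFinite {W : Subgroup G | W ≤ V ∧ A ≤ Subgroup.normalizer (W : Set G) ∧ U ⊓ W = ⊥}).exists_maximal
    ⟨⊥, bot_le, by rw [Subgroup.normalizer_eq_top]; exact le_top, inf_bot_eq U⟩
  obtain ⟨⟨hWV, hAW, hUW⟩, hmax⟩ := hW
  refine ⟨W, hWV, hAW, hUW, le_antisymm (sup_le hUV hWV) ?_⟩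
  rw [← hTtop]
  refine sSup_le fun M hM => ?_
  by_contra hMle
  have h1 : M ⊓ (U ⊔ W) = ⊥ := (hM.2.2.2 _ inf_le_left (hinf hM.2.1 (hinf hAU hAW).2).1).resolve_right
    fun e => hMle (inf_eq_left.mp e)
  have h2 : U ⊓ (W ⊔ M) = ⊥ := by
    rw [eq_bot_iff]
    intro u ⟨hu, huW⟩
    have hu' : u ∈ ((W ⊔ M : Subgroup G) : Set G) := huW
    rw [Subgroup.coe_mul_of_left_le_normalizer_right W M (hnorm M W hM.1 hWV)] at hu'
    obtain ⟨w, hw, m, hm, e⟩ := hu'
    have hm' : m ∈ M ⊓ (U ⊔ W) := ⟨hm, by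
      rw [show m = w⁻¹ * u by rw [← e]; group, sup_comm]
      exact Subgroup.mul_mem_sup (inv_mem hw) hu⟩
    rw [h1, Subgroup.mem_bot] at hm'
    rw [hm'] at e
    simp only [mul_one] at e
    exact hUW ▸ (⟨hu, e ▸ hw⟩ : u ∈ U ⊓ W)
  exact hMle ((le_sup_right.trans (hmax ⟨sup_le hWV hM.1, (hinf hAW hM.2.1).2, h2⟩ le_sup_left)).trans le_sup_right)

end Cfsg.Agent.S3735
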