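import Cfsg.Statements.S3741
import Cfsg.Agent.Lib.Grp.Basic

set_option autoImplicit false
open Cfsg
open scoped commutatorElement Pointwise

namespace Cfsg.Agent.S3741

/-- Let A and B be subgroups of a finite p-group with [A, B] ≤ A ∩ B and [A, B] of order at most p. Then |A : C_A(B)| = |B : C_B(A)|. -/
theorem result {G : Type*} [Group G] [Finite G] {p : ℕ} [Fact p.Prime] (hG : IsPGroup p G) (A B : Subgroup G) (hAB : ⁅A, B⁆ ≤ A ⊓ B) (hcard : Nat.card ↥⁅A, B⁆ ≤ p) : (A ⊓ Subgroup.centralizer (B : Set G)).relIndex A = (B ⊓ Subgroup.centralizer (A : Set G)).relIndex B := by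
  classical
  have := Fintype.ofFinite G
  set Z := ⁅A, B⁆ with hZ
  have hp := (Fact.out : p.Prime)
  have hidx : ∀ (X Y : Subgroup G), ⁅X, Y⁆ ≤ X ⊓ Y → Nat.card ↥⁅X, Y⁆ ≤ p → ∀ x ∈ X, x ∉ Subgroup.centralizer (Y : Set G) →
      p * Nat.card ↥(Y ⊓ Subgroup.centralizer ({x} : Set G)) = Nat.card Y := by
    intro X Y hXY hc x hx hxc
    have hZY : ∀ z ∈ ⁅X, Y⁆, ∀ y ∈ Y, y * z = z * y := by
      intro z hz y hy
      have hn : Y ≤ Subgroup.normalizer ((⁅X, Y⁆ : Subgroup G) : Set G) := by
        intro w hw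
        rw [Subgroup.mem_normalizer_iff_map_conj_eq]
        refine Subgroup.eq_of_le_of_card_ge ?_ (Subgroup.card_map_of_injective (MulAut.conj w).injective).ge
        rw [Subgroup.map_le_iff_le_comap, Subgroup.commutator_le]
        intro a ha b hb
        rw [Subgroup.mem_comap]
        show w * ⁅a, b⁆ * w⁻¹ ∈ _
        have e : w * ⁅a, b⁆ * w⁻¹ = ⁅a, w⁆⁻¹ * ⁅a, w * b⁆ := by
          simp only [commutatorElement_def]; group
        rw [e]
        exact mul_mem (inv_mem (Subgroup.commutator_mem_commutator ha hw)) (Subgroup.commutator_mem_commutator ha (mul_mem hw hb))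
      rcases Nat.lt_or_ge 1 (Nat.card ↥⁅X, Y⁆) with h1 | h1
      · obtain ⟨k, hk⟩ := IsPGroup.iff_card.1 (hG.to_subgroup ⁅X, Y⁆)
        have hcardp : Nat.card ↥⁅X, Y⁆ = p := by
          rcases k with _ | _ | k
          · rw [hk] at h1; simp at h1
          · rw [hk, pow_one]
          · exfalso
            have : p ^ 2 ≤ p ^ (k + 2) := Nat.pow_le_pow_right hp.pos (by omega)
            rw [hk] at hc
            nlinarith [hp.two_le]
        have hY : IsPGroup p Y := hG.to_subgroup Y
        obtain ⟨j, hj⟩ := hY ⟨y, hy⟩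
        obtain ⟨m, hm⟩ : ∃ m : ℕ, y * z * y⁻¹ = z ^ m := by
          have h2 := (Subgroup.mem_normalizer_iff.mp (hn hy) z).mp hz
          rcases eq_or_ne z 1 with rfl | hz1
          · exact ⟨0, by simp⟩
          · have : Subgroup.zpowers z = ⁅X, Y⁆ := Subgroup.eq_of_le_of_card_ge (Subgroup.zpowers_le.mpr hz) (by
              rw [hcardp, Nat.card_zpowers]
              rcases (Nat.dvd_prime hp).mp (hcardp ▸ Subgroup.orderOf_dvd_natCard _ hz) with e | e
              · exact absurd (orderOf_eq_one_iff.mp e) hz1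
              · omega)
            rw [← this, ← mem_powers_iff_mem_zpowers] at h2
            obtain ⟨m, hm⟩ := h2
            exact ⟨m, hm.symm⟩
        have hit : ∀ i : ℕ, y ^ i * z * (y ^ i)⁻¹ = z ^ (m ^ i) := by
          intro i
          induction i with
          | zero => simp
          | succ i ih =>
            rw [pow_succ', show y * y ^ i * z * (y * y ^ i)⁻¹ = y * (y ^ i * z * (y ^ i)⁻¹) * y⁻¹ by group, ih,
              ← conj_pow, hm, ← pow_mul, pow_succ', mul_comm]
        have h3 := hit (p ^ j)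
        rw [show y ^ p ^ j = 1 from congrArg Subtype.val hj, one_mul, inv_one, mul_one] at h3
        have h4 : z ^ m = z := by
          have hd : orderOf z ∣ p := hcardp ▸ Subgroup.orderOf_dvd_natCard _ hz
          have e1 : ((m ^ p ^ j : ℕ) : ZMod p) = (m : ZMod p) := by
            rw [Nat.cast_pow]
            induction j with
            | zero => simp
            | succ j _ => exact ZMod.pow_card_pow (m : ZMod p) (n := j + 1)
          rw [ZMod.natCast_eq_natCast_iff] at e1
          calc z ^ m = z ^ (m ^ p ^ j) := (pow_eq_pow_iff_modEq.mpr (e1.symm.of_dvd hd))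
            _ = z := h3.symm
        rw [h4] at hm
        exact mul_inv_eq_iff_eq_mul.mp hm
      · replace h1 : ⁅X, Y⁆ = ⊥ := Subgroup.eq_bot_of_card_le _ h1
        rw [h1, Subgroup.mem_bot] at hz
        rw [hz, mul_one, one_mul]
    let φ : Y →* G := MonoidHom.mk' (fun y : Y => ⁅x, (y : G)⁆) (fun a b => by
      show ⁅x, ((a * b : Y) : G)⁆ = _
      rw [Subgroup.coe_mul]
      have e : ⁅x, (a : G) * b⁆ = ⁅x, (a : G)⁆ * ((a : G) * ⁅x, (b : G)⁆ * (a : G)⁻¹) := by
        simp only [commutatorElement_def]; group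
      rw [e, hZY _ (Subgroup.commutator_mem_commutator hx b.2) a a.2, mul_inv_cancel_right])
    have hker : φ.ker = (Y ⊓ Subgroup.centralizer ({x} : Set G)).subgroupOf Y := by
      ext ⟨y, hy⟩
      rw [MonoidHom.mem_ker, Subgroup.mem_subgroupOf, Subgroup.mem_inf, Subgroup.mem_centralizer_singleton_iff]
      show ⁅x, y⁆ = 1 ↔ _
      rw [commutatorElement_eq_one_iff_mul_comm]
      exact ⟨fun h => ⟨hy, h.symm⟩, fun h => h.2.symm⟩
    have hr : Nat.card φ.range = p := by
      have hle : φ.range ≤ ⁅X, Y⁆ := by rintro _ ⟨y, rfl⟩; exact Subgroup.commutator_mem_commutator hx y.2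
      obtain ⟨k, hk⟩ := IsPGroup.iff_card.1 (hG.to_subgroup φ.range)
      have hle2 : Nat.card φ.range ≤ p := (Nat.le_of_dvd Nat.card_pos (Subgroup.card_dvd_of_le hle)).trans hc
      rcases k with _ | _ | k
      · exfalso
        refine hxc (Subgroup.mem_centralizer_iff.mpr fun y hy => ?_)
        have h0 : φ.range = ⊥ := Subgroup.card_eq_one.mp (by rw [hk, pow_zero])
        have h1 : ⁅x, y⁆ = 1 := by
          have h2 : φ ⟨y, hy⟩ ∈ φ.range := ⟨_, rfl⟩
          rw [h0, Subgroup.mem_bot] at h2
          exact h2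
        exact (commutatorElement_eq_one_iff_mul_comm.mp h1).symm
      · rw [hk, pow_one]
      · exfalso
        have : p ^ 2 ≤ p ^ (k + 2) := Nat.pow_le_pow_right hp.pos (by omega)
        rw [hk] at hle2
        nlinarith [hp.two_le]
    rw [← Nat.card_congr (Subgroup.subgroupOfEquivOfLe (inf_le_left : Y ⊓ Subgroup.centralizer ({x} : Set G) ≤ Y)).toEquiv,
      ← hker, ← hr, ← Subgroup.index_ker φ, mul_comm, Subgroup.card_mul_index]
  set F : Subgroup G → Subgroup G → ℕ := fun X Y => ∑ x : X, Nat.card ↥(Y ⊓ Subgroup.centralizer ({(x : G)} : Set G)) with hF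
  have hcount : ∀ (X Y : Subgroup G), F X Y = Nat.card {q : X × Y // (q.1 : G) * q.2 = q.2 * q.1} := by
    intro X Y
    rw [Nat.card_congr (Equiv.subtypeProdEquivSigmaSubtype fun (x : X) (y : Y) => (x : G) * y = y * x), Nat.card_sigma]
    refine Finset.sum_congr rfl fun x _ => Nat.card_congr ?_
    exact { toFun := fun y => ⟨⟨y.1, y.2.1⟩, (Subgroup.mem_centralizer_singleton_iff.mp y.2.2).symm⟩
            invFun := fun y => ⟨y.1.1, y.1.2, Subgroup.mem_centralizer_singleton_iff.mpr y.2.symm⟩
            left_inv := fun y => rfl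
            right_inv := fun y => rfl }
  have hsym : F A B = F B A := by
    rw [hcount, hcount]
    exact Nat.card_congr ((Equiv.prodComm A B).subtypeEquiv fun q => eq_comm)
  have heval : ∀ (X Y : Subgroup G), ⁅X, Y⁆ ≤ X ⊓ Y → Nat.card ↥⁅X, Y⁆ ≤ p →
      p * F X Y = Nat.card Y * (Nat.card X + (p - 1) * Nat.card ↥(X ⊓ Subgroup.centralizer (Y : Set G))) := by
    intro X Y h1 h2
    rw [hF, Finset.mul_sum]
    have e : ∀ x : X, p * Nat.card ↥(Y ⊓ Subgroup.centralizer ({(x : G)} : Set G)) =
        Nat.card Y + if (x : G) ∈ Subgroup.centralizer (Y : Set G) then (p - 1) * Nat.card Y else 0 := by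
      intro x
      split_ifs with h
      · have e2 : Y ⊓ Subgroup.centralizer ({(x : G)} : Set G) = Y := inf_eq_left.mpr fun y hy =>
          Subgroup.mem_centralizer_singleton_iff.mpr (Subgroup.mem_centralizer_iff.mp h y hy)
        rw [e2]
        conv_lhs => rw [show p = 1 + (p - 1) by have := hp.two_le; omega]
        ring
      · rw [hidx X Y h1 h2 x x.2 h, add_zero]
    rw [Finset.sum_congr rfl fun x _ => e x, Finset.sum_add_distrib, ← Finset.sum_filter, Finset.sum_const,
      Finset.sum_const, Finset.card_univ, ← Nat.card_eq_fintype_card, smul_eq_mul, smul_eq_mul]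
    have e3 : (Finset.univ.filter fun x : X => (x : G) ∈ Subgroup.centralizer (Y : Set G)).card =
        Nat.card ↥(X ⊓ Subgroup.centralizer (Y : Set G)) := by
      rw [← Fintype.card_subtype, ← Nat.card_eq_fintype_card]
      exact Nat.card_congr (Equiv.subtypeSubtypeEquivSubtypeInter (fun g => g ∈ X) (fun g => g ∈ Subgroup.centralizer (Y : Set G)))
    rw [e3]
    ring
  have e1 := heval A B hAB hcard
  have e2 := heval B A (by rw [Subgroup.commutator_comm, inf_comm]; exact hAB) (by rwa [Subgroup.commutator_comm])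
  rw [hsym, e2, mul_add, mul_add, mul_comm (Nat.card B) (Nat.card A)] at e1
  have e4 : (p - 1) * (Nat.card A * Nat.card ↥(B ⊓ Subgroup.centralizer (A : Set G))) =
      (p - 1) * (Nat.card B * Nat.card ↥(A ⊓ Subgroup.centralizer (B : Set G))) := by
    have := Nat.add_left_cancel e1
    linarith
  have e5 := Nat.eq_of_mul_eq_mul_left (by have := hp.two_le; omega) e4
  have iA := Subgroup.card_mul_index ((A ⊓ Subgroup.centralizer (B : Set G)).subgroupOf A)
  have iB := Subgroup.card_mul_index ((B ⊓ Subgroup.centralizer (A : Set G)).subgroupOf B)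
  rw [Nat.card_congr (Subgroup.subgroupOfEquivOfLe inf_le_left).toEquiv] at iA iB
  rw [← iA, ← iB] at e5
  change _ * (A ⊓ Subgroup.centralizer (B : Set G)).relIndex A * _ = _ * (B ⊓ Subgroup.centralizer (A : Set G)).relIndex B * _ at e5
  refine Nat.eq_of_mul_eq_mul_left (Nat.mul_pos (Nat.card_pos (α := ↥(A ⊓ Subgroup.centralizer (B : Set G)))) (Nat.card_pos (α := ↥(B ⊓ Subgroup.centralizer (A : Set G))))) ?_
  linarith

end Cfsg.Agent.S3741
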