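import Cfsg.Statements.S3743
import Cfsg.Agent.Lib.Grp.Subnormal
import Cfsg.Agent.Lib.Block.PiKernel

set_option autoImplicit false
open Cfsg

namespace Cfsg.Agent.S3743

/-- In a finite group G, every subnormal nilpotent subgroup lies in the Fitting subgroup F(G), and, for a set of primes π, every subnormal subgroup all of whose prime divisors lie in π lies in O_π(G). -/
theorem result {G : Type*} [Group G] [Finite G] (A : Subgroup G) (hA : A.IsSubnormal) : (Group.IsNilpotent A → A ≤ Cfsg.fittingSubgroup G) ∧ ∀ π : Set ℕ, (∀ p : ℕ, p.Prime → p ∣ Nat.card A → p ∈ π) → A ≤ Cfsg.piCore π G := by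
  refine ⟨fun h => Grp.le_fitting_of_isSubnormal hA h, fun π hπ => ?_⟩
  induction hA with
  | top => exact le_sSup ⟨inferInstance, hπ⟩
  | step H K hle hK hn ih =>
    set S := Cfsg.piCore π K with hS
    have hchar : S.Characteristic := by
      refine Subgroup.characteristic_iff_map_le.mpr fun φ => ?_
      rw [hS, Cfsg.piCore, Subgroup.map_le_iff_le_comap]
      refine sSup_le fun N ⟨hN, hp⟩ => ?_
      rw [← Subgroup.map_le_iff_le_comap]
      exact le_sSup ⟨hN.map φ.toMonoidHom φ.surjective, fun p hp' hd => hp p hp' (hd.trans (Subgroup.card_map_dvd N _))⟩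
    have h1 : H.subgroupOf K ≤ S := le_sSup ⟨hn, fun p hp hd => hπ p hp (by
      rwa [Nat.card_congr (Subgroup.subgroupOfEquivOfLe hle).toEquiv] at hd)⟩
    have h2 : H ≤ S.map K.subtype := fun x hx => ⟨⟨x, hle hx⟩, h1 hx, rfl⟩
    refine h2.trans ?_
    have hsub : ∀ (T : Subgroup G), T.IsSubnormal → ∀ S : Subgroup T, S.Normal →
        (∀ p : ℕ, p.Prime → p ∣ Nat.card S → p ∈ π) → S.map T.subtype ≤ Cfsg.piCore π G := by
      intro T hT
      induction hT with
      | top =>
        intro S hSn hSp
        refine le_sSup ⟨hSn.map _ (fun x => ⟨⟨x, Subgroup.mem_top x⟩, rfl⟩), fun p hp hd => hSp p hp ?_⟩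
        rwa [Subgroup.card_map_of_injective (Subgroup.subtype_injective _)] at hd
      | step T U hTU hU hTn ihU =>
        intro S hSn hSp
        have : (T.subgroupOf U).Normal := hTn
        set P := Cfsg.piCore π (T.subgroupOf U) with hPdef
        have hPchar : P.Characteristic := by
          refine Subgroup.characteristic_iff_map_le.mpr fun φ => ?_
          rw [hPdef, Cfsg.piCore, Subgroup.map_le_iff_le_comap]
          refine sSup_le fun N ⟨hN, hp⟩ => ?_
          rw [← Subgroup.map_le_iff_le_comap]
          exact le_sSup ⟨hN.map φ.toMonoidHom φ.surjective,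
            fun p hp' hd => hp p hp' (hd.trans (Subgroup.card_map_dvd N _))⟩
        let e := Subgroup.subgroupOfEquivOfLe hTU
        have hS' : S.map e.symm.toMonoidHom ≤ P := le_sSup ⟨hSn.map _ e.symm.surjective, fun p hp hd =>
          hSp p hp (hd.trans (Subgroup.card_map_dvd S _))⟩
        have hPcard : ∀ p : ℕ, p.Prime → p ∣ Nat.card (P.map (T.subgroupOf U).subtype) → p ∈ π := by
          intro p hp hd
          rw [Subgroup.card_map_of_injective (Subgroup.subtype_injective _)] at hd
          have := Fact.mk hp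
          exact Block.piCore_primes hp hd
        refine le_trans ?_ (ihU _ (ConjAct.normal_of_characteristic_of_normal) hPcard)
        rintro _ ⟨x, hx, rfl⟩
        exact ⟨⟨x, hTU x.2⟩, ⟨e.symm x, hS' (Subgroup.mem_map_of_mem _ hx), rfl⟩, rfl⟩
    exact hsub K hK S inferInstance fun p hp hd => by
      have := Fact.mk hp
      exact Block.piCore_primes hp hd

end Cfsg.Agent.S3743
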