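import Cfsg.Statements.S3746
import Cfsg.Agent.Lib.Grp.Components

set_option autoImplicit false
open Cfsg
open scoped commutatorElement

namespace Cfsg.Agent.S3746

/-- Let Z ≤ Z(G) be a central subgroup of a finite group G and E a subgroup of G containing Z whose image E/Z is a component of G/Z (subnormal and quasisimple). Then the derived subgroup [E, E] is a component of G. -/
theorem result {G : Type*} [Group G] [Finite G] (Z : Subgroup G) (hZ : Z ≤ Subgroup.center G) [Z.Normal] (E : Subgroup G) (hZE : Z ≤ E) (hE : Cfsg.IsComponent (E.map (QuotientGroup.mk' Z))) : Cfsg.IsComponent ⁅E, E⁆ := by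
  set f := QuotientGroup.mk' Z with hf
  set D := ⁅E, E⁆ with hD
  have hker : f.ker = Z := QuotientGroup.ker_mk' Z
  have hEE : (E.map f).comap f = E := Subgroup.comap_map_eq_self (hker.le.trans hZE)
  have hDE : D ≤ E := Subgroup.commutator_le_self E
  have hDmap : D.map f = E.map f := by rw [hD, Subgroup.map_commutator, Grp.IsComponent.perfect hE]
  have hEsup : E ≤ D ⊔ Z := by
    rw [← hker, ← Subgroup.comap_map_eq, hDmap, hEE]
  have hcen : ∀ X Y : Subgroup G, X ≤ Y ⊔ Z → ⁅X, X⁆ ≤ ⁅Y, Y⁆ := by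
    intro X Y h
    refine Subgroup.commutator_le.mpr fun a ha b hb => ?_
    obtain ⟨a', ha', za, hza, rfl⟩ := Subgroup.mem_sup_of_normal_right.mp (h ha)
    obtain ⟨b', hb', zb, hzb, rfl⟩ := Subgroup.mem_sup_of_normal_right.mp (h hb)
    have hc : ∀ z ∈ Z, ∀ g, g * z = z * g := fun z hz g => Subgroup.mem_center_iff.mp (hZ hz) g
    have e : ⁅a' * za, b' * zb⁆ = ⁅a', b'⁆ := by
      rw [commutatorElement_def, commutatorElement_def, mul_inv_rev, mul_inv_rev]
      calc a' * za * (b' * zb) * (za⁻¹ * a'⁻¹) * (zb⁻¹ * b'⁻¹)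
          = a' * (za * b') * (zb * za⁻¹) * a'⁻¹ * (zb⁻¹ * b'⁻¹) := by group
        _ = a' * (b' * za) * (za⁻¹ * zb) * a'⁻¹ * (zb⁻¹ * b'⁻¹) := by rw [hc za hza b', hc za⁻¹ (inv_mem hza) zb]
        _ = a' * b' * (zb * a'⁻¹) * (zb⁻¹ * b'⁻¹) := by group
        _ = a' * b' * (a'⁻¹ * zb) * (zb⁻¹ * b'⁻¹) := by rw [hc zb hzb a'⁻¹]
        _ = _ := by group
    rw [e]
    exact Subgroup.commutator_mem_commutator ha' hb'
  have hperf : ⁅D, D⁆ = D := le_antisymm (Subgroup.commutator_le_self D) (hcen E D hEsup)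
  have hEsn : E.IsSubnormal := by
    rw [← hEE]; exact hE.1.comap f
  have hDn : (D.subgroupOf E).Normal := Subgroup.normal_subgroupOf_of_le_normalizer (by
    rw [← hD] at *
    intro x hx
    rw [Subgroup.mem_normalizer_iff_map_conj_eq]
    have hx' : E.map (MulAut.conj x).toMonoidHom = E :=
      Subgroup.mem_normalizer_iff_map_conj_eq.mp (Subgroup.le_normalizer hx)
    show D.map (MulAut.conj x).toMonoidHom = D
    rw [hD, Subgroup.map_commutator, hx'])
  refine ⟨Subgroup.IsSubnormal.step D E hDE hEsn hDn, ?_⟩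
  haveI : Group.IsPerfect D := Subgroup.isPerfect_iff.mpr hperf
  have hq := hE.2
  haveI : Nontrivial D := by
    rw [Subgroup.nontrivial_iff_ne_bot]
    intro e
    rw [e, Subgroup.map_bot] at hDmap
    exact Grp.IsComponent.ne_bot hE hDmap.symm
  refine Grp.isQuasisimple_of inferInstance fun N hN => ?_
  set N' := N.map D.subtype with hN'
  have hN'le : N' ≤ D := Subgroup.map_subtype_le N
  have hnorm : D ≤ Subgroup.normalizer (N' : Set G) := by
    rw [← Subgroup.normal_subgroupOf_iff_le_normalizer hN'le]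
    rwa [hN', Subgroup.subgroupOf, Subgroup.comap_map_eq_self_of_injective D.subtype_injective]
  have hn2 : ((N'.map f).subgroupOf (E.map f)).Normal := by
    refine Subgroup.normal_subgroupOf_of_le_normalizer ?_
    rw [← hDmap]
    exact (Subgroup.map_mono hnorm).trans (Subgroup.le_normalizer_map f)
  rcases Grp.IsQuasisimple.eq_top_or_le_center hq ((N'.map f).subgroupOf (E.map f)) with e | e
  · left
    rw [Subgroup.subgroupOf_eq_top] at e
    have h1 : D ≤ N' ⊔ Z := by
      rw [← hker, ← Subgroup.comap_map_eq]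
      exact fun d hd => e (Subgroup.mem_map_of_mem f (hDE hd))
    have h2 : D ≤ N' := by
      calc D = ⁅D, D⁆ := hperf.symm
        _ ≤ ⁅N', N'⁆ := hcen D N' h1
        _ ≤ N' := Subgroup.commutator_le_self N'
    exact eq_top_iff.mpr fun d _ => by
      obtain ⟨y, hy, hy'⟩ := h2 d.2
      rwa [← D.subtype_injective hy']
  · right
    have h1 : ⁅N', D⁆ ≤ Z := by
      rw [← hker, ← MonoidHom.comap_bot, ← Subgroup.map_le_iff_le_comap, Subgroup.map_commutator, hDmap, le_bot_iff,
        Subgroup.commutator_eq_bot_iff_le_centralizer]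
      intro w hw
      rw [Subgroup.mem_centralizer_iff]
      intro v hv
      have hwE : w ∈ E.map f := hDmap ▸ Subgroup.map_mono hN'le hw
      exact congrArg Subtype.val (Subgroup.mem_center_iff.mp (e (show (⟨w, hwE⟩ : E.map f) ∈ _ from hw)) ⟨v, hv⟩)
    have h2 : ⁅⁅N', D⁆, D⁆ = ⊥ := by
      rw [Subgroup.commutator_eq_bot_iff_le_centralizer]
      exact h1.trans (hZ.trans (Subgroup.center_le_centralizer _))
    have h3 : ⁅⁅D, D⁆, N'⁆ = ⊥ := Subgroup.commutator_commutator_eq_bot_of_rotate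
      (by rwa [Subgroup.commutator_comm D N']) h2
    rw [hperf, Subgroup.commutator_eq_bot_iff_le_centralizer] at h3
    intro n hn
    rw [Subgroup.mem_center_iff]
    intro d
    exact Subtype.ext ((Subgroup.mem_centralizer_iff.mp (h3 d.2)) n ⟨n, hn, rfl⟩).symm

end Cfsg.Agent.S3746
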