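import Cfsg.Statements.S3747
import Cfsg.Agent.Lib.Grp.Components
import Cfsg.Agent.Lib.Grp.Baer

set_option autoImplicit false
open Cfsg
open scoped commutatorElement Pointwise

namespace Cfsg.Agent.S3747

/-- Let G be a finite group. (a) If K is a component of G with trivial centre, then the normal closure of K in G is a minimal normal subgroup of G. (b) If the Fitting subgroup of G is trivial, then the layer E(G) is generated by the minimal normal subgroups of G. -/
theorem result {G : Type*} [Group G] [Finite G] : (∀ K : Subgroup G, Cfsg.IsComponent K → Subgroup.center ↥K = ⊥ → (Subgroup.normalClosure (K : Set G) ≠ ⊥ ∧ ∀ N : Subgroup G, N.Normal → N ≤ Subgroup.normalClosure (K : Set G) → N = ⊥ ∨ N = Subgroup.normalClosure (K : Set G))) ∧ (Cfsg.fittingSubgroup G = ⊥ → sSup {N : Subgroup G | N ≠ ⊥ ∧ N.Normal ∧ ∀ N' : Subgroup G, N'.Normal → N' ≤ N → N' = ⊥ ∨ N' = N} = Cfsg.layer G) := by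
  classical
  have := Fintype.ofFinite G
  have hA : ∀ K : Subgroup G, Cfsg.IsComponent K → Subgroup.center ↥K = ⊥ →
      (Subgroup.normalClosure (K : Set G) ≠ ⊥ ∧ ∀ N : Subgroup G, N.Normal → N ≤ Subgroup.normalClosure (K : Set G) → N = ⊥ ∨ N = Subgroup.normalClosure (K : Set G)) := by
    intro K hK hKc
    set C := Subgroup.normalClosure (K : Set G) with hC
    have hKC : K ≤ C := Subgroup.le_normalClosure
    refine ⟨fun e => Grp.IsComponent.ne_bot hK (le_bot_iff.mp (e ▸ hKC)), fun N hN hNC => ?_⟩
    rcases Grp.component_le_or_commute hK hN.isSubnormal with h | h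
    · exact Or.inr (le_antisymm hNC (Subgroup.normalClosure_le_normal h))
    left
    set S : Finset (Subgroup G) := Finset.univ.image fun g : G => K.map (MulAut.conj g).toMonoidHom with hS
    have hSK : ∀ L ∈ S, Cfsg.IsComponent L ∧ Subgroup.center ↥L = ⊥ ∧ L ≤ C := by
      intro L hL
      obtain ⟨g, -, rfl⟩ := Finset.mem_image.mp hL
      refine ⟨Grp.IsComponent.map_iso (MulAut.conj g) hK, ?_, ?_⟩
      · rw [Subgroup.eq_bot_iff_forall]
        intro z hz
        set e := Subgroup.equivMapOfInjective K (MulAut.conj g).toMonoidHom (MulAut.conj g).injective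
        have h1 : e.symm z ∈ Subgroup.center K := Subgroup.mem_center_iff.mpr fun w => by
          apply e.injective
          rw [map_mul, map_mul, e.apply_symm_apply, Subgroup.mem_center_iff.mp hz]
        rw [hKc, Subgroup.mem_bot] at h1
        exact e.symm.injective (h1.trans (map_one _).symm)
      · rintro _ ⟨x, hx, rfl⟩
        exact (Subgroup.normalClosure_normal).conj_mem x (hKC hx) g
    have hCS : C ≤ S.sup id := by
      rw [hC, Subgroup.normalClosure, Subgroup.closure_le]
      intro x hx
      obtain ⟨a, ha, hc⟩ := Group.mem_conjugatesOfSet_iff.mp hx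
      obtain ⟨g, rfl⟩ := isConj_iff.mp hc
      exact (Finset.le_sup (f := id) (Finset.mem_image.mpr ⟨g, Finset.mem_univ g, rfl⟩) : _ ≤ S.sup id) ⟨a, ha, rfl⟩
    have hz : ∀ z ∈ C, (∀ c ∈ C, c * z = z * c) → z = 1 := by
      intro z hzC hzc
      have key : ∀ T : Finset (Subgroup G), T ⊆ S → z ∈ T.sup id → z = 1 := by
        intro T
        induction T using Finset.induction with
        | empty => intro _ h; simpa using h
        | insert L T hLT ih =>
          intro hTS hm
          rw [Finset.sup_insert, id_eq] at hm
          have hL := hSK L (hTS (Finset.mem_insert_self L T))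
          have hcent : T.sup id ≤ Subgroup.centralizer (L : Set G) := Finset.sup_le fun M hM =>
            Grp.IsComponent.commute (hSK M (hTS (Finset.mem_insert_of_mem hM))).1 hL.1 (fun e => hLT (e ▸ hM))
          obtain ⟨a, ha, r, hr, rfl⟩ : ∃ a ∈ L, ∃ r ∈ T.sup id, a * r = z := by
            have hn : L ≤ Subgroup.normalizer ((T.sup id : Subgroup G) : Set G) :=
              (Subgroup.le_centralizer_iff.mp hcent).trans (Subgroup.centralizer_le_normalizer _)
            have := Subgroup.coe_mul_of_left_le_normalizer_right L (T.sup id) hn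
            have hm' : z ∈ ((L : Set G) * ((T.sup id : Subgroup G) : Set G)) := by rw [← this]; exact hm
            obtain ⟨a, ha, r, hr, e⟩ := hm'
            exact ⟨a, ha, r, hr, e⟩
          have ha1 : (⟨a, ha⟩ : L) ∈ Subgroup.center L := Subgroup.mem_center_iff.mpr fun ⟨w, hw⟩ => Subtype.ext (by
            show w * a = a * w
            have h1 := hzc w (hL.2.2 hw)
            have h2 := Subgroup.mem_centralizer_iff.mp (hcent hr) w hw
            have : w * a * r = a * w * r := by rw [mul_assoc, h1, mul_assoc, ← h2, ← mul_assoc]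
            exact mul_right_cancel this)
          rw [hL.2.1, Subgroup.mem_bot] at ha1
          have ha' : a = 1 := congrArg Subtype.val ha1
          subst ha'
          rw [one_mul] at hzc ⊢
          rw [one_mul] at ih
          exact ih (fun M hM => hTS (Finset.mem_insert_of_mem hM)) hr
      exact key S (Finset.Subset.refl S) (hCS hzC)
    rw [Subgroup.eq_bot_iff_forall]
    intro z hzN
    refine hz z (hNC hzN) ?_
    have hcl : C ≤ Subgroup.centralizer ({z} : Set G) := by
      refine Subgroup.normalClosure_le_normal (N := Subgroup.centralizer (N : Set G)) ?_ |>.trans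
        (Subgroup.centralizer_le (Set.singleton_subset_iff.mpr hzN))
      exact Subgroup.commutator_eq_bot_iff_le_centralizer.mp h
    exact fun c hc => Subgroup.mem_centralizer_singleton_iff.mp (hcl hc)
  refine ⟨hA, fun hF => le_antisymm (sSup_le ?_) (sSup_le ?_)⟩
  · rintro N ⟨hN0, hN, hmin⟩
    obtain ⟨L, ⟨hLs, hLN, hL0⟩, hLmin⟩ := Set.Finite.exists_minimal
      (Set.toFinite {L : Subgroup G | L.IsSubnormal ∧ L ≤ N ∧ L ≠ ⊥}) ⟨N, hN.isSubnormal, le_rfl, hN0⟩
    have hsimple : ∀ M : Subgroup L, M.Normal → M = ⊥ ∨ M = ⊤ := by
      intro M hM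
      by_contra hne
      push Not at hne
      have h1 : M.map L.subtype ≠ ⊥ := fun e => hne.1 (Subgroup.map_injective L.subtype_injective (by rw [e, Subgroup.map_bot]))
      have h2 := hLmin ⟨hM.isSubnormal.trans' hLs, (Subgroup.map_subtype_le M).trans hLN, h1⟩ (Subgroup.map_subtype_le M)
      exact hne.2 (eq_top_iff.mpr fun l _ => by
        obtain ⟨m, hm, hm'⟩ := h2 l.2
        rwa [← L.subtype_injective hm'])
    haveI : Nontrivial L := (Subgroup.nontrivial_iff_ne_bot L).mpr hL0
    have hLq : Cfsg.IsQuasisimple L := by
      rcases hsimple (commutator L) inferInstance with e | e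
      · exfalso
        refine hL0 (le_bot_iff.mp (hF ▸ Grp.le_fitting_of_isSubnormal hLs ?_))
        haveI : IsMulCommutative L := ⟨⟨fun a b => by
          have := Subgroup.commutator_mem_commutator (Subgroup.mem_top a) (Subgroup.mem_top b)
          rw [← commutator_def, e, Subgroup.mem_bot, commutatorElement_eq_one_iff_mul_comm] at this
          exact this⟩⟩
        letI : CommGroup L := { (inferInstance : Group L) with mul_comm := mul_comm' }
        exact CommGroup.isNilpotent
      · exact Grp.isQuasisimple_of (Group.isPerfect_def.mpr e) fun M hM =>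
          (hsimple M hM).symm.imp_right fun h => h.trans_le bot_le
    have hLe : L ≤ Cfsg.layer G := Grp.IsComponent.le_layer ⟨hLs, hLq⟩
    have hC := hmin (Subgroup.normalClosure (L : Set G)) inferInstance (Subgroup.normalClosure_le_normal hLN)
    rcases hC with e | e
    · exact absurd (le_bot_iff.mp (e ▸ Subgroup.le_normalClosure)) hL0
    · rw [← e]
      have : (Cfsg.layer G).Normal := ⟨fun x hx g => Grp.layer_map_le (MulAut.conj g) ⟨x, hx, rfl⟩⟩
      exact Subgroup.normalClosure_le_normal hLe
  · intro K hK
    have hKc : Subgroup.center ↥K = ⊥ := by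
      have h1 := Grp.le_fitting_of_isSubnormal (A := (Subgroup.center K).map K.subtype)
        ((inferInstance : (Subgroup.center K).Normal).isSubnormal.trans' hK.1)
        (Grp.isNilpotent_map (by
          letI : CommGroup (Subgroup.center K) := { (inferInstance : Group (Subgroup.center K)) with mul_comm := fun a b => Subtype.ext (Subgroup.mem_center_iff.mp b.2 a) }
          exact CommGroup.isNilpotent) _)
      rw [hF, le_bot_iff] at h1
      exact (Subgroup.map_eq_bot_iff_of_injective _ K.subtype_injective).mp h1
    obtain ⟨h0, hmin⟩ := hA K hK hKc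
    exact Subgroup.le_normalClosure.trans (le_sSup ⟨h0, inferInstance, hmin⟩)

end Cfsg.Agent.S3747
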