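import Cfsg.Statements.S3748
import Mathlib
import Cfsg.Agent.Lib.Grp.SubnormalFamily
import Cfsg.Agent.Lib.Grp.Cores

set_option autoImplicit false
open Cfsg
open scoped Pointwise

namespace Cfsg.Agent.S3748

/-- Call a proper subgroup M of G primitive when M = N_G(N) for every non-trivial normal subgroup N of M. If M is a primitive subgroup of the finite group G, then no non-trivial subnormal subgroup of G is contained in M; in particular M ∩ F(G) = 1. -/
theorem result {G : Type*} [Group G] [Finite G] (M : Subgroup G) (hM : M ≠ ⊤) (hprim : ∀ N : Subgroup G, N ≤ M → M ≤ Subgroup.normalizer (N : Set G) → N ≠ ⊥ → Subgroup.normalizer (N : Set G) = M) : (∀ L : Subgroup G, L.IsSubnormal → L ≤ M → L = ⊥) ∧ M ⊓ Cfsg.fittingSubgroup G = ⊥ := by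
  classical
  have key : ∀ L : Subgroup G, L.IsSubnormal → L ≤ M → L = ⊥ := by
    intro L hL hLM
    by_contra hL1
    let cl : Subgroup G → Subgroup G := fun U => sSup {V | ∃ m ∈ M, V = MulAut.conj m • U}
    have hcl : ∀ U : Subgroup G, U.IsSubnormal → U ≤ M →
        (cl U).IsSubnormal ∧ cl U ≤ M ∧ M ≤ Subgroup.normalizer (cl U : Set G) ∧ U ≤ cl U := by
      intro U hU hUM
      have hinv : ∀ m ∈ M, MulAut.conj m • cl U ≤ cl U := fun m hm => by
        rw [Subgroup.pointwise_smul_subset_iff]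
        refine sSup_le ?_
        rintro _ ⟨m', hm', rfl⟩
        rw [← Subgroup.pointwise_smul_subset_iff]
        refine le_sSup ⟨m * m', mul_mem hm hm', ?_⟩
        rw [map_mul, mul_smul]
      refine ⟨Agent.Grp.SnFamily.isSubnormal_sSup _ ?_, sSup_le ?_, fun m hm => ?_, le_sSup ⟨1, one_mem _, by simp⟩⟩
      · rintro _ ⟨m, hm, rfl⟩
        exact hU.smul _
      · rintro _ ⟨m, hm, rfl⟩ x hx
        have h := hUM (Agent.Grp.mem_smul_conj.mp hx)
        have h2 := mul_mem (mul_mem hm h) (inv_mem hm)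
        simpa [mul_assoc] using h2
      · rw [Agent.Grp.mem_normalizer_iff_smul]
        refine le_antisymm (hinv m hm) ?_
        have h := hinv m⁻¹ (inv_mem hm)
        rw [map_inv, Subgroup.pointwise_smul_subset_iff, inv_inv] at h
        exact h
    obtain ⟨h1, h2, h3, h4⟩ := hcl L hL hLM
    obtain ⟨N, hLN, hN⟩ := (Set.toFinite {U : Subgroup G | U.IsSubnormal ∧ U ≤ M ∧
      M ≤ Subgroup.normalizer (U : Set G) ∧ U ≠ ⊥}).exists_le_maximal (a := cl L)
      ⟨h1, h2, h3, fun h => hL1 (le_bot_iff.mp (h ▸ h4))⟩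
    obtain ⟨hNs, hNM, hMN, hN1⟩ := hN.1
    rcases Subgroup.IsSubnormal.iff_eq_top_or_exists.mp hNs with h | ⟨K, hlt, hK, hnorm⟩
    · exact hM (top_le_iff.mp (h ▸ hNM))
    · have hKM : K ≤ M := by
        rw [← hprim N hNM hMN hN1]
        exact (Subgroup.normal_subgroupOf_iff_le_normalizer hlt.le).mp hnorm
      obtain ⟨k1, k2, k3, k4⟩ := hcl K hK hKM
      have hle : cl K ≤ N := hN.2 ⟨k1, k2, k3, fun h => hN1 (le_bot_iff.mp ((hlt.le.trans k4).trans h.le))⟩ (hlt.le.trans k4)
      exact absurd (k4.trans hle) (not_le_of_gt hlt)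
  refine ⟨key, key _ ?_ inf_le_left⟩
  refine Subgroup.IsSubnormal.trans inf_le_right ?_ (Subgroup.Normal.isSubnormal inferInstance)
  exact Agent.Grp.SnFamily.isSubnormal_of_isNilpotent Agent.Grp.fittingSubgroup_isNilpotent _

end Cfsg.Agent.S3748
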