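import Cfsg.Statements.S3749
import Mathlib
import Cfsg.Agent.Lib.Grp.Coprime
import Cfsg.Agent.Lib.Grp.Cores

set_option autoImplicit false
open Cfsg
open scoped Pointwise

namespace Cfsg.Agent.S3749

/-- Call a proper subgroup M of G primitive when M = N_G(N) for every non-trivial normal subgroup N of M. Let M be a primitive subgroup of the finite group G, p a prime with O_p(M) ≠ 1, and N a normal subgroup of G with M ∩ N = 1. Then p does not divide the order of N; for every prime q there is exactly one Sylow q-subgroup of N normalized by M; and if the order of N has at least two prime divisors then M is not a maximal subgroup of G. -/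
theorem result {G : Type*} [Group G] [Finite G] (M : Subgroup G) (hM : M ≠ ⊤) (hprim : ∀ N : Subgroup G, N ≤ M → M ≤ Subgroup.normalizer (N : Set G) → N ≠ ⊥ → Subgroup.normalizer (N : Set G) = M) {p : ℕ} [Fact p.Prime] (hOp : Cfsg.pCore p ↥M ≠ ⊥) (N : Subgroup G) [N.Normal] (hMN : M ⊓ N = ⊥) : ¬ p ∣ Nat.card N ∧ (∀ q : ℕ, [Fact q.Prime] → ∃! Q : Sylow q ↥N, M ≤ Subgroup.normalizer ((Q : Subgroup ↥N).map N.subtype : Set G)) ∧ ((∃ q r : ℕ, q.Prime ∧ r.Prime ∧ q ≠ r ∧ q ∣ Nat.card N ∧ r ∣ Nat.card N) → ¬ IsCoatom M) := by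
  classical
  have hpc := Agent.Grp.pCore_isNormal (p := p) (G := M)
  have hP0 : IsPGroup p ↥(Cfsg.pCore p ↥M) := Agent.Grp.pCore_isPGroup
  set P : Subgroup G := (Cfsg.pCore p ↥M).map M.subtype with hPdef
  have hPM : P ≤ M := Subgroup.map_subtype_le _
  have hPp : IsPGroup p P := hP0.map _
  have hMP : M ≤ Subgroup.normalizer (P : Set G) := by
    refine le_trans ?_ (Subgroup.le_normalizer_map M.subtype)
    rw [Subgroup.normalizer_eq_top, ← MonoidHom.range_eq_map, Subgroup.range_subtype]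
  have hP1 : P ≠ ⊥ := fun h => hOp ((Subgroup.map_eq_bot_iff_of_injective _ M.subtype_injective).mp h)
  have hNP := hprim P hPM hMP hP1
  have hfix : ∀ n ∈ N, n ∈ Subgroup.centralizer (P : Set G) → n = 1 := by
    intro n hn hc
    have h1 : n ∈ M ⊓ N := ⟨hNP ▸ Subgroup.centralizer_le_normalizer _ hc, hn⟩
    rwa [hMN, Subgroup.mem_bot] at h1
  have hnd : ¬ p ∣ Nat.card N := by
    intro hd
    let _ : MulAction P N := MulAction.compHom N ((MulAut.conjNormal (H := N)).comp P.subtype)
    have hone : (1 : N) ∈ MulAction.fixedPoints P N := fun g => map_one (MulAut.conjNormal (g : G) : MulAut N)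
    have h1 := hPp.exists_fixed_point_of_prime_dvd_card_of_fixed_point N hd hone
    obtain ⟨b, hb, hb1⟩ := h1
    refine hb1 (Subtype.ext (hfix b b.2 ?_)).symm
    rw [Subgroup.mem_centralizer_iff]
    intro g hg
    have h2 : (MulAut.conjNormal (H := N) g b : G) = b := congrArg Subtype.val (hb ⟨g, hg⟩)
    rw [MulAut.conjNormal_apply] at h2
    exact mul_inv_eq_iff_eq_mul.mp h2
  have hcop : (Nat.card P).Coprime (Nat.card N) := by
    obtain ⟨k, hk⟩ := IsPGroup.iff_card.mp hPp
    rw [hk]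
    exact ((Fact.out (p := p.Prime)).coprime_iff_not_dvd.mpr hnd).pow_left k
  have hsol : Group.IsSolvable P ∨ Group.IsSolvable N := Or.inl (by
    have := hPp.isNilpotent
    infer_instance)
  have hPN : P ≤ Subgroup.normalizer (N : Set G) := by rw [Subgroup.normalizer_eq_top]; exact le_top
  have hex : ∀ q : ℕ, [Fact q.Prime] → ∃ X, Agent.Grp.IsSylowIn q X N ∧ M ≤ Subgroup.normalizer (X : Set G) ∧
      ∀ Y, Agent.Grp.IsSylowIn q Y N → P ≤ Subgroup.normalizer (Y : Set G) → Y = X := by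
    intro q _
    obtain ⟨X, hX, hXP⟩ := Agent.Grp.exists_invariant_sylow P N hPN hcop hsol q
    have huniq : ∀ Y, Agent.Grp.IsSylowIn q Y N → P ≤ Subgroup.normalizer (Y : Set G) → Y = X := by
      intro Y hY hYP
      obtain ⟨c, hc, hcX⟩ := Agent.Grp.invariant_sylow_conj P N hPN hcop hsol hX hY hXP hYP
      rw [hfix c hc.1 hc.2, map_one, one_smul] at hcX
      exact hcX.symm
    refine ⟨X, hX, fun m hm => ?_, huniq⟩
    rw [Agent.Grp.mem_normalizer_iff_smul]
    refine huniq _ (hX.smul (Agent.Grp.normalizer_le_smul (A := M)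
      (by rw [Subgroup.normalizer_eq_top]; exact le_top) hm)) fun a ha => ?_
    rw [Agent.Grp.mem_normalizer_iff_smul]
    have hb : m⁻¹ * a * m ∈ P := by
      have := (Subgroup.mem_normalizer_iff''.mp (hMP hm) a).mp ha
      simpa using this
    have h2 := Agent.Grp.mem_normalizer_iff_smul.mp (hXP hb)
    conv_rhs => rw [← h2]
    rw [← mul_smul, ← mul_smul, ← map_mul, ← map_mul]
    congr 2
    group
  refine ⟨hnd, fun q _ => ?_, ?_⟩
  · obtain ⟨X, hX, hXM, huniq⟩ := hex q
    obtain ⟨Q, hQ⟩ := Agent.Grp.isSylowIn_iff.mp hX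
    refine ⟨Q, by show M ≤ _; rw [hQ]; exact hXM, fun Q' hQ' => ?_⟩
    have h1 := huniq _ (Agent.Grp.isSylowIn_iff.mpr ⟨Q', rfl⟩) (hPM.trans hQ')
    exact Sylow.ext (Subgroup.map_injective N.subtype_injective (h1.trans hQ.symm))
  · rintro ⟨q, r, hq, hr, hqr, hqN, hrN⟩ hco
    have := Fact.mk hq
    obtain ⟨X, hX, hXM, -⟩ := hex q
    have hX1 : X ≠ ⊥ := by
      intro h
      refine hX.2.2 ?_
      rw [h, Subgroup.relIndex_bot_left]
      exact hqN
    have htop : M ⊔ X = ⊤ := hco.2 _ (lt_of_le_of_ne le_sup_left fun h => hX1 (le_bot_iff.mp (by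
      rw [← hMN]
      exact le_inf (h.symm ▸ le_sup_right) hX.1)))
    have hNX : N ≤ X := by
      intro n hn
      have h : n ∈ ((M ⊔ X : Subgroup G) : Set G) := by rw [htop]; trivial
      rw [Subgroup.coe_mul_of_left_le_normalizer_right M X hXM] at h
      obtain ⟨m, hm, x, hx, rfl⟩ := h
      have hmN : m ∈ M ⊓ N := ⟨hm, by simpa using N.mul_mem hn (N.inv_mem (hX.1 hx))⟩
      rw [hMN, Subgroup.mem_bot] at hmN
      subst hmN
      simpa using hx
    have h2 : r ∣ q ^ (Nat.card N).factorization q := hX.card ▸ (le_antisymm hX.1 hNX ▸ hrN)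
    exact hqr ((Nat.prime_dvd_prime_iff_eq hr hq).mp (hr.dvd_of_dvd_pow h2)).symm

end Cfsg.Agent.S3749
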