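import Cfsg.Statements.S3755
import Cfsg.Agent.Lib.Grp.InvertedPairs
import Cfsg.Agent.Lib.Grp.Signalizer

set_option autoImplicit false
open Cfsg

namespace Cfsg.Agent.S3755

/-- Let M and V be subgroups of a finite group with V an elementary abelian 2-group, M normalizing V and acting faithfully on it (M ∩ C(V) = 1), and C_M(O_{2'}(M)) ≤ O_{2'}(M). If some elementary abelian 2-subgroup A of M satisfies |V : C_V(A)| < |A|², then M has a section isomorphic to the symmetric group of degree 3. -/
theorem result {X : Type*} [Group X] [Finite X] (M V : Subgroup X) (hV : Cfsg.IsElementaryAbelian 2 V) (hMV : M ≤ Subgroup.normalizer (V : Set X)) (hfaith : M ⊓ Subgroup.centralizer (V : Set X) = ⊥) (hcon : Subgroup.centralizer (Cfsg.pPrimeCore 2 ↥M : Set ↥M) ≤ Cfsg.pPrimeCore 2 ↥M) (A : Subgroup X) (hAM : A ≤ M) (hA : Cfsg.IsElementaryAbelian 2 A) (hsmall : (V ⊓ Subgroup.centralizer (A : Set X)).relIndex V < Nat.card A ^ 2) : Cfsg.Involves (Equiv.Perm (Fin 3)) ↥M := by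
  classical
  haveI : Fact (Nat.Prime 2) := ⟨Nat.prime_two⟩
  by_contra hno
  let K0 : Subgroup X := (Cfsg.pPrimeCore 2 ↥M).map M.subtype
  have hK0M : K0 ≤ M := Subgroup.map_subtype_le _
  have hK0odd : ¬ 2 ∣ Nat.card K0 := by
    rw [Subgroup.card_map_of_injective M.subtype_injective]
    exact Cfsg.Agent.Grp.pPrimeCore_not_dvd
  have hMK : M ≤ Subgroup.normalizer (K0 : Set X) := by
    rw [← Cfsg.Agent.Grp.invariant_iff]
    rintro m hm _ ⟨k, hk, rfl⟩
    exact ⟨⟨m, hm⟩ * k * ⟨m, hm⟩⁻¹, Cfsg.Agent.Grp.pPrimeCore_isNormal.conj_mem k hk _, rfl⟩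
  have hcon' : ∀ m ∈ M, (∀ k ∈ K0, m * k = k * m) → m ∈ K0 := by
    intro m hm h
    refine ⟨⟨m, hm⟩, hcon (Subgroup.mem_centralizer_iff.mpr fun k hk => Subtype.ext ?_), rfl⟩
    exact (h k ⟨k, hk, rfl⟩).symm
  have hV2 : IsPGroup 2 V := Cfsg.Agent.Grp.elemAb_isPGroup hV
  have main : ∀ (n : ℕ) (B : Subgroup X), Nat.card B = n → B ≤ A →
      Nat.card B ^ 2 ≤ (V ⊓ Subgroup.centralizer (B : Set X)).relIndex V := by
    intro n
    induction n using Nat.strong_induction_on with
    | _ n ih =>
    intro B hn hBA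
    by_cases hB1 : B = ⊥
    · rw [hB1, Subgroup.card_bot, one_pow]
      exact Nat.one_le_iff_ne_zero.mpr Subgroup.index_ne_zero_of_finite
    have hBel := Cfsg.Agent.Grp.elemAb_mono hA hBA
    have hBM : B ≤ M := hBA.trans hAM
    obtain ⟨D, hDB, hDi, hD⟩ : ∃ D : Subgroup X, D ≤ B ∧ D.relIndex B = 2 ∧
        ¬ K0 ⊓ Subgroup.centralizer (D : Set X) ≤ Subgroup.centralizer (B : Set X) := by
      by_contra hall
      push Not at hall
      have h := Cfsg.Agent.Grp.le_of_hyperplanes hBel hB1 K0 hK0odd (hBM.trans hMK) hall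
      refine hB1 ((Subgroup.eq_bot_iff_forall _).mpr fun b hb => ?_)
      have hbK := hcon' b (hBM hb) fun k hk => Subgroup.mem_centralizer_iff.mp (h hk) b hb
      have h2 : orderOf b ∣ Nat.gcd 2 (Nat.card K0) :=
        Nat.dvd_gcd (orderOf_dvd_of_pow_eq_one (hBel.2 b hb)) (Subgroup.orderOf_dvd_natCard _ hbK)
      rw [(Nat.prime_two.coprime_iff_not_dvd.mpr hK0odd : Nat.Coprime 2 (Nat.card K0))] at h2
      exact orderOf_eq_one_iff.mp (Nat.dvd_one.mp h2)
    obtain ⟨y, ⟨hyK, hyD⟩, hyB⟩ := SetLike.not_le_iff_exists.mp hD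
    rw [Subgroup.mem_centralizer_iff] at hyB
    push Not at hyB
    obtain ⟨a, ha, hay⟩ := hyB
    have haa : a * a = 1 := by rw [← pow_two]; exact hBel.2 a ha
    have hai : a⁻¹ = a := inv_eq_of_mul_eq_one_left haa
    have hcm := Cfsg.Agent.Grp.elemAb_comm hBel
    set z := y⁻¹ * (a * y * a) with hz
    have hzK : z ∈ K0 := by
      refine K0.mul_mem (K0.inv_mem hyK) ?_
      have := Cfsg.Agent.Grp.invariant_iff.mpr (hBM.trans hMK) a ha y hyK
      rwa [hai] at this
    have hzD : ∀ d ∈ D, d * z = z * d := by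
      intro d hd
      have h1 : Commute d y := Subgroup.mem_centralizer_iff.mp hyD d hd
      have h2 : Commute d a := hcm d (hDB hd) a ha
      exact (h1.inv_right.mul_right ((h2.mul_right h1).mul_right h2)).eq
    have hzinv : a * z * a⁻¹ = z⁻¹ := by
      rw [hz, hai, mul_inv_rev, inv_inv, mul_inv_rev, mul_inv_rev, hai]
      calc a * (y⁻¹ * (a * y * a)) * a = (a * y⁻¹ * a) * y * (a * a) := by group
        _ = a * (y⁻¹ * a) * y := by rw [haa]; group
    have hz1 : z ≠ 1 := by
      intro e
      rw [hz, inv_mul_eq_one] at e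
      refine hay ?_
      calc a * y = a * y * (a * a) := by rw [haa, mul_one]
        _ = a * y * a * a := by group
        _ = y * a := by rw [← e]
    obtain ⟨q, hq, hqd⟩ := Nat.exists_prime_and_dvd (fun e => hz1 (orderOf_eq_one_iff.mp e))
    haveI := Fact.mk hq
    set x := z ^ (orderOf z / q) with hx
    have hxo : orderOf x = q := orderOf_pow_orderOf_div (orderOf_pos z).ne' hqd
    have hxK : x ∈ K0 := K0.pow_mem hzK _
    have hxM : x ∈ M := hK0M hxK
    have hxD : ∀ d ∈ D, d * x = x * d := fun d hd => ((show Commute d z from hzD d hd).pow_right _).eq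
    have hxinv : a * x * a⁻¹ = x⁻¹ := by rw [hx, ← conj_pow, hzinv, inv_pow]
    have hx1 : x ≠ 1 := fun e => hq.one_lt.ne (by rw [← hxo, e, orderOf_one])
    have hq2 : q ≠ 2 := by
      rintro rfl
      exact hK0odd (hxo ▸ Subgroup.orderOf_dvd_natCard _ hxK)
    have hq3 : q ≠ 3 := by
      rintro rfl
      obtain ⟨e⟩ := Cfsg.Agent.Grp.dihedral_iso haa hxinv (by rw [hxo]; decide) hx1
      rw [hxo] at e
      let φ : DihedralGroup 3 →* Equiv.Perm (Fin 3) := Cfsg.Agent.Recog.dihedralHom
        (finRotate 3) (Equiv.swap (0 : Fin 3) 1) (by decide) (by decide) (by decide)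
      have hφ : Function.Bijective φ := by
        refine (Nat.bijective_iff_injective_and_card φ).mpr ⟨?_, ?_⟩
        · rw [injective_iff_map_eq_one]; decide
        · rw [DihedralGroup.nat_card, Nat.card_eq_fintype_card]; rfl
      have hle : Subgroup.zpowers a ⊔ Subgroup.zpowers x ≤ M :=
        sup_le (Subgroup.zpowers_le.mpr (hBM ha)) (Subgroup.zpowers_le.mpr hxM)
      refine hno ⟨(Subgroup.zpowers a ⊔ Subgroup.zpowers x).subgroupOf M, ⊥, inferInstance, ⟨?_⟩⟩
      exact (QuotientGroup.quotientMulEquivOfEq (Subgroup.bot_subgroupOf _)).trans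
        (QuotientGroup.quotientBot.trans ((Subgroup.subgroupOfEquivOfLe hle).trans (e.trans (MulEquiv.ofBijective φ hφ))))
    have hq5 : 5 ≤ q := by
      have h4 : q ≠ 4 := by rintro rfl; norm_num at hq
      have := hq.two_le
      omega
    set U := V ⊓ Subgroup.centralizer (D : Set X) with hU
    have hnorm : ∀ g ∈ M, (∀ d ∈ D, d * g = g * d) → ∀ u ∈ U, g * u * g⁻¹ ∈ U := by
      intro g hg hgd u hu
      refine ⟨Cfsg.Agent.Grp.invariant_iff.mpr hMV g hg u hu.1, Subgroup.mem_centralizer_iff.mpr fun d hd => ?_⟩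
      have h1 : Commute d u := Subgroup.mem_centralizer_iff.mp hu.2 d hd
      have h2 : Commute d g := hgd d hd
      exact ((h2.mul_right h1).mul_right h2.inv_right).eq
    set W := U ⊓ Subgroup.centralizer ({a} : Set X) with hW
    have hUB : W = V ⊓ Subgroup.centralizer (B : Set X) := by
      have hBgen : B ≤ D ⊔ Subgroup.zpowers a := by
        have hanD : a ∉ D := fun h => hay (Subgroup.mem_centralizer_iff.mp hyD a h)
        have hle : D ⊔ Subgroup.zpowers a ≤ B := sup_le hDB (Subgroup.zpowers_le.mpr ha)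
        have h1 := Subgroup.relIndex_mul_relIndex D (D ⊔ Subgroup.zpowers a) B le_sup_left hle
        rw [hDi] at h1
        rcases (Nat.dvd_prime Nat.prime_two).mp ⟨_, h1.symm⟩ with h | h
        · exact absurd (Subgroup.relIndex_eq_one.mp h (Subgroup.mem_sup_right (Subgroup.mem_zpowers a))) hanD
        · rw [h] at h1
          exact Subgroup.relIndex_eq_one.mp (by omega)
      refine le_antisymm (le_inf (inf_le_left.trans inf_le_left) ?_) (le_inf (le_inf inf_le_left (inf_le_right.trans
        (Subgroup.centralizer_le hDB))) (inf_le_right.trans (Subgroup.centralizer_le (Set.singleton_subset_iff.mpr ha))))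
      rw [Subgroup.le_centralizer_iff]
      refine hBgen.trans (sup_le ?_ ?_)
      · rw [Subgroup.le_centralizer_iff]; exact inf_le_left.trans inf_le_right
      · rw [Subgroup.le_centralizer_iff, ← Cfsg.Agent.Grp.centralizer_singleton_eq_zpowers]; exact inf_le_right
    have h4 : 4 ≤ W.relIndex U := by
      by_contra hlt
      push Not at hlt
      have hWn : W.relIndex U ≤ 2 := by
        obtain ⟨j, hj⟩ := (hV2.to_le (inf_le_left : U ≤ V)).index (W.subgroupOf U)
        have hj' : W.relIndex U = 2 ^ j := hj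
        rcases j with _ | _ | j
        · rw [hj']; norm_num
        · rw [hj']; norm_num
        · exfalso
          rw [hj'] at hlt
          have : 4 ≤ 2 ^ (j + 1 + 1) := by
            calc 4 = 2 ^ 2 := rfl
              _ ≤ 2 ^ (j + 1 + 1) := Nat.pow_le_pow_right (by norm_num) (by omega)
          omega
      set W' := U ⊓ Subgroup.centralizer ({x * a * x⁻¹} : Set X) with hW'
      have hxU : U.map (MulAut.conj x).toMonoidHom = U := by
        refine Subgroup.eq_of_le_of_card_ge ?_ (by rw [Subgroup.card_map_of_injective (MulAut.conj x).injective])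
        rintro _ ⟨u, hu, rfl⟩
        exact hnorm x hxM hxD u hu
      have hmap : W.map (MulAut.conj x).toMonoidHom = W' := by
        rw [hW, Subgroup.map_inf _ _ _ (MulAut.conj x).injective, hxU, hW']
        congr 1
        ext g
        simp only [Subgroup.mem_map, MulEquiv.coe_toMonoidHom, MulAut.conj_apply, Subgroup.mem_centralizer_singleton_iff]
        constructor
        · rintro ⟨w, hw, rfl⟩
          calc x * w * x⁻¹ * (x * a * x⁻¹) = x * (w * a) * x⁻¹ := by group
            _ = x * (a * w) * x⁻¹ := by rw [hw]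
            _ = _ := by group
        · intro hg
          refine ⟨x⁻¹ * g * x, ?_, by group⟩
          calc x⁻¹ * g * x * a = x⁻¹ * (g * (x * a * x⁻¹)) * x := by group
            _ = x⁻¹ * (x * a * x⁻¹ * g) * x := by rw [hg]
            _ = _ := by group
      have hWn' : W'.relIndex U ≤ 2 := by
        have := Subgroup.relIndex_map_map_of_injective W U (f := (MulAut.conj x).toMonoidHom) (MulAut.conj x).injective
        rw [hmap, hxU] at this
        omega
      set C := U ⊓ Subgroup.centralizer ({x} : Set X) with hC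
      have hle : W ⊓ W' ≤ C := by
        intro u hu
        refine ⟨hu.1.1, ?_⟩
        have h1 : Commute a u := (Subgroup.mem_centralizer_singleton_iff.mp hu.1.2).symm
        have h2 : Commute (x * a * x⁻¹) u := (Subgroup.mem_centralizer_singleton_iff.mp hu.2.2).symm
        have h3 := h2.mul_left h1
        have e : x * a * x⁻¹ * a = x ^ 2 := by
          have : a * x⁻¹ * a = x := by
            rw [← hxinv, hai]
            calc a * (a * x * a) * a = (a * a) * x * (a * a) := by group
              _ = x := by rw [haa]; group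
          rw [pow_two]
          calc x * a * x⁻¹ * a = x * (a * x⁻¹ * a) := by group
            _ = x * x := by rw [this]
        rw [e] at h3
        obtain ⟨m, hm⟩ := exists_pow_eq_self_of_coprime (n := 2) (x := x)
          (by rw [hxo]; exact (Nat.coprime_primes Nat.prime_two hq).mpr (Ne.symm hq2))
        show u ∈ Subgroup.centralizer ({x} : Set X)
        rw [Subgroup.mem_centralizer_singleton_iff, ← hm]
        exact ((h3.pow_left m).eq).symm
      have h5 : C.relIndex U ≤ 4 := by
        refine le_trans (Nat.le_of_dvd (Nat.pos_of_ne_zero Subgroup.index_ne_zero_of_finite) (Subgroup.relIndex_dvd_of_le_left U hle))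
          (Subgroup.relIndex_inf_le.trans ?_)
        calc W.relIndex U * W'.relIndex U ≤ 2 * 2 := Nat.mul_le_mul hWn hWn'
          _ = 4 := rfl
      have hfix : ∀ u ∈ U, x * u = u * x := by
        intro u hu
        have horb : ∀ i : ℕ, x ^ i * u * (x ^ i)⁻¹ ∈ U := fun i => hnorm _ (M.pow_mem hxM i)
          (fun d hd => ((show Commute d x from hxD d hd).pow_right i).eq) u hu
        obtain ⟨i, j, hne, he⟩ := Finite.exists_ne_map_eq_of_infinite
          (fun i : ℕ => (QuotientGroup.mk (⟨x ^ i * u * (x ^ i)⁻¹, horb i⟩ : ↥U) : ↥U ⧸ C.subgroupOf U))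
        have key : ∀ t : ℕ, ¬ q ∣ t → (x ^ t * u * (x ^ t)⁻¹)⁻¹ * u ∈ C → x * u = u * x := by
          intro t ht hmem
          set c := (x ^ t * u * (x ^ t)⁻¹)⁻¹ * u with hc
          have hcx : Commute (x ^ t) c := ((show Commute c x from Subgroup.mem_centralizer_singleton_iff.mp hmem.2).pow_right t).symm
          have hce : x ^ t * u * (x ^ t)⁻¹ = u * c⁻¹ := by rw [hc, mul_inv_rev, inv_inv]; group
          have hit : ∀ s : ℕ, (x ^ t) ^ s * u * ((x ^ t) ^ s)⁻¹ = u * c⁻¹ ^ s := by
            intro s
            induction s with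
            | zero => simp
            | succ s ihs =>
              calc (x ^ t) ^ (s + 1) * u * ((x ^ t) ^ (s + 1))⁻¹
                  = x ^ t * ((x ^ t) ^ s * u * ((x ^ t) ^ s)⁻¹) * (x ^ t)⁻¹ := by rw [pow_succ']; group
                _ = (x ^ t * u * (x ^ t)⁻¹) * (x ^ t * c⁻¹ ^ s * (x ^ t)⁻¹) := by rw [ihs]; group
                _ = u * c⁻¹ * c⁻¹ ^ s := by rw [hce, (hcx.inv_right.pow_right s).eq, mul_inv_cancel_right]
                _ = u * c⁻¹ ^ (s + 1) := by rw [pow_succ', mul_assoc]
          have hq' := hit q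
          rw [← pow_mul, mul_comm t q, pow_mul, ← hxo, pow_orderOf_eq_one, one_pow, hxo] at hq'
          have hc1 : c⁻¹ ^ q = 1 := by simpa using hq'.symm
          have hc2 : c⁻¹ ^ 2 = 1 := by rw [inv_pow, hV.2 c hmem.1.1, inv_one]
          have hc0 : c⁻¹ = 1 := by
            have := Nat.dvd_gcd (orderOf_dvd_of_pow_eq_one hc1) (orderOf_dvd_of_pow_eq_one hc2)
            rw [(Nat.coprime_primes hq Nat.prime_two).mpr hq2] at this
            exact orderOf_eq_one_iff.mp (Nat.dvd_one.mp this)
          rw [hc0, mul_one] at hce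
          have hcomm : Commute (x ^ t) u := mul_inv_eq_iff_eq_mul.mp hce
          obtain ⟨m, hm⟩ := exists_pow_eq_self_of_coprime (n := t) (x := x)
            (by rw [hxo]; exact (hq.coprime_iff_not_dvd.mpr ht).symm)
          rw [← hm]
          exact (hcomm.pow_left m).eq
        haveI : Finite (↥U ⧸ C.subgroupOf U) := inferInstance
        have hcard : Nat.card (↥U ⧸ C.subgroupOf U) ≤ 4 := by rw [← Subgroup.index_eq_card]; exact h5
        by_contra hne'
        have hinj : Function.Injective (fun i : Fin q =>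
            (QuotientGroup.mk (⟨x ^ (i : ℕ) * u * (x ^ (i : ℕ))⁻¹, horb i⟩ : ↥U) : ↥U ⧸ C.subgroupOf U)) := by
          intro i j hij
          by_contra hne2
          wlog hlt2 : (i : ℕ) < j generalizing i j
          · refine this hij.symm (Ne.symm hne2) ?_
            rcases Nat.lt_or_ge (j : ℕ) i with h | h
            · exact h
            · exact absurd (Fin.ext (le_antisymm h (not_lt.mp hlt2))) hne2
          refine hne' (key ((j : ℕ) - i) (fun hd => ?_) ?_)
          · have := Nat.le_of_dvd (by omega) hd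
            have := j.2
            omega
          · have hm := Subgroup.mem_subgroupOf.mp (QuotientGroup.eq.mp hij.symm)
            have hconj : ∀ c ∈ C, (x ^ (i : ℕ))⁻¹ * c * x ^ (i : ℕ) = c := fun c hc => by
              rw [((show Commute c x from Subgroup.mem_centralizer_singleton_iff.mp hc.2).pow_right (i : ℕ)).inv_right.symm.eq,
                mul_assoc, inv_mul_cancel, mul_one]
            have hm' := hconj _ hm
            have e : (x ^ ((j : ℕ) - i) * u * (x ^ ((j : ℕ) - i))⁻¹)⁻¹ * u =
                (x ^ (i : ℕ))⁻¹ * ((x ^ (j : ℕ) * u * (x ^ (j : ℕ))⁻¹)⁻¹ * (x ^ (i : ℕ) * u * (x ^ (i : ℕ))⁻¹)) * x ^ (i : ℕ) := by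
              conv_rhs => rw [show (j : ℕ) = i + (j - i) by omega, pow_add]
              group
            rw [e]
            simp only [Subgroup.coe_mul, Subgroup.coe_inv] at hm'
            rw [hm']
            simpa using hm
        have := Nat.card_le_card_of_injective _ hinj
        rw [Nat.card_fin] at this
        omega
      have hxV : x ∈ Subgroup.centralizer (V : Set X) := by
        refine Cfsg.Agent.Grp.thompson_PQ (p := 2) D (Subgroup.zpowers x)
          (Cfsg.Agent.Grp.elemAb_isPGroup (Cfsg.Agent.Grp.elemAb_mono hA (hDB.trans hBA)))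
          (by rw [Nat.card_zpowers, hxo]; exact (Nat.coprime_primes hq Nat.prime_two).mpr hq2)
          (by
            rw [← Cfsg.Agent.Grp.centralizer_singleton_eq_zpowers]
            exact fun d hd => Subgroup.mem_centralizer_singleton_iff.mpr (hxD d hd))
          V hV2 (((hDB.trans hBA).trans hAM).trans hMV) (Subgroup.zpowers_le.mpr (hMV hxM)) ?_
          (Subgroup.mem_zpowers x)
        rw [← Cfsg.Agent.Grp.centralizer_singleton_eq_zpowers]
        exact fun u hu => Subgroup.mem_centralizer_singleton_iff.mpr (hfix u hu).symm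
      exact hx1 (Subgroup.mem_bot.mp (hfaith ▸ ⟨hxM, hxV⟩ : x ∈ (⊥ : Subgroup X)))
    have hDlt : Nat.card D < n := by
      rw [← hn]
      have := Cfsg.Agent.Grp.card_mul_relIndex hDB
      rw [hDi] at this
      have := Nat.card_pos (α := D)
      omega
    have hIH := ih _ hDlt D rfl (hDB.trans hBA)
    have htot := Subgroup.relIndex_mul_relIndex W U V inf_le_left inf_le_left
    rw [hUB] at htot h4
    have hcB := Cfsg.Agent.Grp.card_mul_relIndex hDB
    rw [hDi] at hcB
    rw [← htot, ← hcB]
    calc (Nat.card D * 2) ^ 2 = 4 * Nat.card D ^ 2 := by ring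
      _ ≤ _ := Nat.mul_le_mul h4 hIH
  exact absurd (main _ A rfl le_rfl) (not_le.mpr hsmall)

end Cfsg.Agent.S3755
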