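import Cfsg.Statements.S3760
import Mathlib

set_option autoImplicit false
open Cfsg

namespace Cfsg.Agent.S3760

/-- Let the group G act transitively on a set X, let x ∈ X with stabilizer H = G_x, and let K ≤ H. Then N_G(K) acts transitively on the set of fixed points of K if and only if every G-conjugate of K contained in H is already an H-conjugate of K. -/
theorem result {G : Type*} [Group G] {X : Type*} [MulAction G X] (htrans : ∀ a b : X, ∃ g : G, g • a = b) (x : X) (K : Subgroup G) (hK : K ≤ MulAction.stabilizer G x) : (∀ a b : X, (∀ k ∈ K, k • a = a) → (∀ k ∈ K, k • b = b) → ∃ g ∈ Subgroup.normalizer (K : Set G), g • a = b) ↔ ∀ g : G, K.map (MulAut.conj g).toMonoidHom ≤ MulAction.stabilizer G x → ∃ h ∈ MulAction.stabilizer G x, K.map (MulAut.conj g).toMonoidHom = K.map (MulAut.conj h).toMonoidHom := by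
  constructor
  · intro h g hg
    have hfix : ∀ k ∈ K, k • (g⁻¹ • x) = g⁻¹ • x := fun k hk => by
      have := hg ⟨k, hk, rfl⟩
      simp only [MulEquiv.coe_toMonoidHom, MulAut.conj_apply, MulAction.mem_stabilizer_iff, mul_smul] at this
      exact eq_inv_smul_iff.mpr this
    obtain ⟨n, hn, hn'⟩ := h x (g⁻¹ • x) (fun k hk => hK hk) hfix
    refine ⟨g * n, by rw [MulAction.mem_stabilizer_iff, mul_smul, hn', smul_inv_smul], ?_⟩
    conv_lhs => rw [← Subgroup.mem_normalizer_iff_map_conj_eq.mp hn]
    rw [Subgroup.map_map]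
    congr 1
    ext a; simp [mul_assoc]
  · intro h
    have key : ∀ b : X, (∀ k ∈ K, k • b = b) → ∃ g ∈ Subgroup.normalizer (K : Set G), g • x = b := by
      intro b hb
      obtain ⟨g, rfl⟩ := htrans x b
      obtain ⟨m, hm, hm'⟩ := h g⁻¹ (by
        rintro _ ⟨k, hk, rfl⟩
        simp only [MulEquiv.coe_toMonoidHom, MulAut.conj_apply, MulAction.mem_stabilizer_iff, inv_inv, mul_smul,
          hb k hk, inv_smul_smul])
      refine ⟨g * m, Subgroup.mem_normalizer_iff_map_conj_eq.mpr ?_, by rw [mul_smul, MulAction.mem_stabilizer_iff.mp hm]⟩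
      have := congrArg (Subgroup.map (MulAut.conj g).toMonoidHom) hm'
      rw [Subgroup.map_map, Subgroup.map_map] at this
      conv_rhs => rw [show K = K.map ((MulAut.conj g).toMonoidHom.comp (MulAut.conj g⁻¹).toMonoidHom) by
        rw [show (MulAut.conj g).toMonoidHom.comp (MulAut.conj g⁻¹).toMonoidHom = MonoidHom.id G from
          MonoidHom.ext fun a => by simp [mul_assoc], Subgroup.map_id]]
      rw [this]
      congr 1
      ext a; simp [mul_assoc]
    intro a b ha hb
    obtain ⟨g, hg, rfl⟩ := key a ha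
    obtain ⟨g', hg', rfl⟩ := key b hb
    exact ⟨g' * g⁻¹, mul_mem hg' (inv_mem hg), by rw [mul_smul, inv_smul_smul]⟩

end Cfsg.Agent.S3760
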