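import Cfsg.Statements.S3761
import Mathlib
import Cfsg.Agent.Lib.Recog.NormalAbelianCyclic
-- import your own Cfsg.Agent.* helpers here

set_option autoImplicit false
open Cfsg

namespace Cfsg.Agent.S3761

/-- Let G be a finite non-abelian p-group with a cyclic normal subgroup U of order p^n such that C_G(U) = U. Then either p = 2 and G is dihedral, generalized quaternion or semidihedral of order 2^(n+1); or, writing U₁ for the subgroup generated by the p-th powers of elements of U and M = C_G(U₁), the subgroup U has index p in M and the subgroup Ω₁(M) generated by the elements of M of order dividing p is elementary abelian of order p² and characteristic in G. -/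
theorem result {G : Type*} [Group G] [Finite G] {p : ℕ} [Fact p.Prime] (hG : IsPGroup p G) (hna : ¬ IsMulCommutative G) (U : Subgroup G) [U.Normal] (hU : IsCyclic U) (n : ℕ) (hUn : Nat.card U = p ^ n) (hC : Subgroup.centralizer (U : Set G) = U) : (p = 2 ∧ Nat.card G = 2 ^ (n + 1) ∧ ((∃ m : ℕ, Nonempty (G ≃* DihedralGroup m)) ∨ (∃ m : ℕ, Nonempty (G ≃* QuaternionGroup m)) ∨ Cfsg.IsQuasiDihedral G)) ∨ (U.relIndex (Subgroup.centralizer (Cfsg.powerClosure p 1 U : Set G)) = p ∧ Cfsg.IsElementaryAbelian p (Cfsg.omegaOne p (Subgroup.centralizer (Cfsg.powerClosure p 1 U : Set G))) ∧ Nat.card ↥(Cfsg.omegaOne p (Subgroup.centralizer (Cfsg.powerClosure p 1 U : Set G))) = p ^ 2 ∧ (Cfsg.omegaOne p (Subgroup.centralizer (Cfsg.powerClosure p 1 U : Set G))).Characteristic) := by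
  classical
  have hp : p.Prime := Fact.out
  obtain ⟨⟨a, haU⟩, hgen⟩ := hU.exists_generator
  have hUa : U = Subgroup.zpowers a := by
    refine le_antisymm (fun s hs => ?_) (Subgroup.zpowers_le.mpr haU)
    obtain ⟨i, hi⟩ := Subgroup.mem_zpowers_iff.mp (hgen ⟨s, hs⟩)
    exact ⟨i, congrArg Subtype.val hi⟩
  subst hUa
  have hnorm : (Subgroup.zpowers a).Normal := inferInstance
  have han : orderOf a = p ^ n := by rw [← Nat.card_zpowers, hUn]
  have hCU : ∀ g : G, Commute g a → g ∈ Subgroup.zpowers a := fun g hg => by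
    have h1 : g ∈ Subgroup.centralizer (Subgroup.zpowers a : Set G) := Subgroup.mem_centralizer_iff.mpr fun s hs => by
      obtain ⟨i, rfl⟩ := Subgroup.mem_zpowers_iff.mp hs
      exact (hg.zpow_right i).symm.eq
    rwa [hC] at h1
  obtain ⟨g₀, hg₀⟩ : ∃ g, g ∉ Subgroup.zpowers a := by
    by_contra h
    push Not at h
    refine hna ⟨⟨fun s t => ?_⟩⟩
    obtain ⟨i, rfl⟩ := Subgroup.mem_zpowers_iff.mp (h s)
    obtain ⟨j, rfl⟩ := Subgroup.mem_zpowers_iff.mp (h t)
    exact ((Commute.refl a).zpow_zpow i j).eq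
  by_cases hmodular : ∃ (g : G) (c : ℤ), 2 ≤ n ∧ (p = 2 → 3 ≤ n) ∧ g ^ p ∈ Subgroup.zpowers a ∧ ¬ (p : ℤ) ∣ c ∧
      g⁻¹ * a * g = a ^ (1 + (p : ℤ) ^ (n - 1) * c)
  swap
  · push Not at hmodular
    obtain ⟨rfl, hn2, hcard, h⟩ := Cfsg.Agent.NAC.no_modular_shape hG han hnorm hCU hg₀
      fun g c h1 h2 h3 h4 h5 => hmodular g c h1 h2 h3 h4 h5
    refine Or.inl ⟨rfl, hcard, ?_⟩
    rcases h with h | ⟨x, hx, hb, hinv⟩ | h
    · exact Or.inr (Or.inl h)
    · exact Or.inl ⟨_, Cfsg.Agent.MaxClass.Cyc2.dihedral ⟨han, hcard, hx⟩ hb hinv⟩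
    · exact Or.inr (Or.inr h)
  right
  obtain ⟨g, c, hn2, hp2, hgp, hc, hgc⟩ := hmodular
  obtain ⟨E, y, z, hE, hEn, hEc, hEexp, hzz, hzU, hy1, hyU, hyp, hcov, hmem⟩ :=
    Cfsg.Agent.NAC.modular_plane hn2 hp2 han hnorm hCU hgp hc hgc
  set M := Subgroup.centralizer (Cfsg.powerClosure p 1 (Subgroup.zpowers a) : Set G) with hM
  have hMiff : ∀ g : G, g ∈ M ↔ Commute g (a ^ p) := fun g => by
    rw [hM, Cfsg.powerClosure, Subgroup.centralizer_closure, Subgroup.mem_centralizer_iff]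
    refine ⟨fun h => (h (a ^ p) ⟨a, Subgroup.mem_zpowers a, by rw [pow_one]⟩).symm, ?_⟩
    rintro hg _ ⟨x, hx, rfl⟩
    obtain ⟨i, rfl⟩ := Subgroup.mem_zpowers_iff.mp hx
    rw [pow_one, ← zpow_natCast, ← zpow_mul, mul_comm, zpow_mul, zpow_natCast]
    exact (hg.zpow_right i).symm.eq
  have hUM : Subgroup.zpowers a ≤ M := Subgroup.zpowers_le.mpr ((hMiff a).mpr (Commute.self_pow a p))
  have hyM : y ∈ M := (hMiff y).mpr hyp
  have hzE : z ∈ E := hE ▸ Subgroup.subset_closure (Or.inl rfl)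
  have hyE : y ∈ E := hE ▸ Subgroup.subset_closure (Or.inr rfl)
  have hEM : ∀ e ∈ E, e ∈ M := by
    intro e he
    rw [hE] at he
    refine (Subgroup.closure_le M).mpr ?_ he
    rintro s (rfl | rfl)
    · exact hUM hzU
    · exact hyM
  have hΩ : Cfsg.omegaOne p M = E := le_antisymm
    ((Subgroup.closure_le E).mpr fun s hs => hmem s ((hMiff s).mp hs.1) hs.2)
    fun s hs => Subgroup.subset_closure ⟨hEM s hs, hEexp s hs⟩
  have hypow : ∀ i : ℕ, y ^ i ∈ Subgroup.zpowers a → p ∣ i := fun i hi => by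
    by_contra hd
    obtain ⟨m, hm⟩ := exists_pow_eq_self_of_coprime (x := y) (n := i)
      (Nat.Coprime.coprime_dvd_right (orderOf_dvd_of_pow_eq_one hy1) ((hp.coprime_iff_not_dvd.mpr hd).symm))
    exact hyU (hm ▸ Subgroup.pow_mem _ hi m)
  have hcovM : ∀ s ∈ M, ∃ i : Fin p, (y ^ i.val)⁻¹ * s ∈ Subgroup.zpowers a := fun s hs => by
    obtain ⟨k, hk⟩ := hcov s ((hMiff s).mp hs)
    refine ⟨⟨((p - 1) * k) % p, Nat.mod_lt _ hp.pos⟩, ?_⟩
    show (y ^ (((p - 1) * k) % p))⁻¹ * s ∈ _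
    rw [← pow_eq_pow_mod _ hy1, show (y ^ ((p - 1) * k))⁻¹ = y ^ k from inv_eq_of_mul_eq_one_left (by
      rw [← pow_add, show k + (p - 1) * k = p * k by
        conv_rhs => rw [show p = p - 1 + 1 from (Nat.sub_add_cancel hp.one_le).symm]
        ring, pow_mul, hy1, one_pow])]
    exact hk
  have hfin : ∀ i j : Fin p, (y ^ i.val)⁻¹ * y ^ j.val ∈ Subgroup.zpowers a → i = j := fun i j h => by
    have hi := i.isLt
    have hj := j.isLt
    rcases le_total i.val j.val with hle | hle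
    · rw [show j.val = i.val + (j.val - i.val) by omega, pow_add, inv_mul_cancel_left] at h
      have := hypow _ h
      exact Fin.ext (by have := Nat.eq_zero_of_dvd_of_lt this (by omega); omega)
    · have h' := inv_mem h
      rw [mul_inv_rev, inv_inv, show i.val = j.val + (i.val - j.val) by omega, pow_add, inv_mul_cancel_left] at h'
      have := hypow _ h'
      exact Fin.ext (by have := Nat.eq_zero_of_dvd_of_lt this (by omega); omega)
  have hEU : ∀ d : G, d ∈ E → d ∈ Subgroup.zpowers a → d ∈ Subgroup.zpowers z := by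
    intro d hd hi
    obtain ⟨j, hj⟩ := Subgroup.mem_zpowers_iff.mp hi
    obtain ⟨l, hl⟩ := Subgroup.mem_zpowers_iff.mp hzU
    have hjp : a ^ (j * p) = a ^ (0 : ℤ) := by
      rw [zpow_mul, hj, zpow_natCast, hEexp _ hd, zpow_zero]
    have hlp : a ^ (l * p) = a ^ (0 : ℤ) := by
      rw [zpow_mul, hl, zpow_natCast, ← hzz, pow_orderOf_eq_one, zpow_zero]
    have hq : ((p ^ n : ℕ) : ℤ) = (p : ℤ) ^ (n - 1) * p := by
      push_cast; rw [← pow_succ, Nat.sub_add_cancel (by omega)]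
    rw [Cfsg.Agent.NAC.zpow_eq_iff_dvd han, hq, zero_sub, dvd_neg,
      mul_dvd_mul_iff_right (by exact_mod_cast hp.ne_zero : (p : ℤ) ≠ 0)] at hjp hlp
    obtain ⟨j', rfl⟩ := hjp
    obtain ⟨l', rfl⟩ := hlp
    have hl' : ¬ (p : ℤ) ∣ l' := fun ⟨t, ht⟩ => by
      have : z = 1 := by
        rw [← hl, ht, ← zpow_zero a, Cfsg.Agent.NAC.zpow_eq_iff_dvd han, hq]
        exact ⟨-t, by ring⟩
      rw [this, orderOf_one] at hzz
      exact hp.one_lt.ne hzz
    obtain ⟨v, w, hvw⟩ := ((Nat.prime_iff_prime_int.mp hp).coprime_iff_not_dvd.mpr hl').symm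
    refine ⟨v * j', ?_⟩
    show z ^ (v * j') = _
    rw [← hj, ← hl, ← zpow_mul, Cfsg.Agent.NAC.zpow_eq_iff_dvd han, hq]
    exact ⟨w * j', by linear_combination (-(p : ℤ) ^ (n - 1) * j') * hvw⟩
  have hzc : ∀ g : G, Commute g z := by
    intro g
    obtain ⟨r, hr⟩ := Subgroup.mem_zpowers_iff.mp
      (show g * z * g⁻¹ ∈ Subgroup.zpowers z from by
        obtain ⟨l, hl⟩ := Subgroup.mem_zpowers_iff.mp hzU
        obtain ⟨m, hm⟩ := Subgroup.mem_zpowers_iff.mp (hnorm.conj_mem _ (Subgroup.mem_zpowers a) g)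
        rw [← hl, ← conj_zpow, ← hm, ← zpow_mul, mul_comm, zpow_mul]
        exact Subgroup.zpow_mem _ (Subgroup.mem_zpowers _) m)
    obtain ⟨k, hk⟩ := hG g
    have h1 := Cfsg.Agent.NAC.conj_pow_exp (g := g) (r := r) hr.symm (p ^ k)
    rw [hk, one_mul, inv_one, mul_one] at h1
    haveI : Fact p.Prime := ⟨hp⟩
    have h2 : ((p : ℕ) : ℤ) ∣ r ^ (p ^ k) - 1 := by
      have := (Cfsg.Agent.NAC.zpow_eq_iff_dvd hzz (i := 1) (j := r ^ (p ^ k))).mp (by rw [zpow_one]; exact h1)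
      exact this
    rw [← ZMod.intCast_zmod_eq_zero_iff_dvd] at h2
    push_cast at h2
    rw [ZMod.pow_card_pow, ← Int.cast_one, ← Int.cast_sub, ZMod.intCast_zmod_eq_zero_iff_dvd,
      ← Cfsg.Agent.NAC.zpow_eq_iff_dvd hzz, zpow_one, hr] at h2
    exact (mul_inv_eq_iff_eq_mul.mp h2.symm)
  have hpow : ∀ g : G, ∀ s ∈ E, Commute s (g ^ p) := by
    intro g
    obtain ⟨i, hi⟩ := hcovM _ (hEM _ (hEn.conj_mem y hyE g))
    have hdz := hEU _ (mul_mem (inv_mem (pow_mem hyE _)) (hEn.conj_mem y hyE g)) hi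
    obtain ⟨l, hl⟩ := Subgroup.mem_zpowers_iff.mp hdz
    have hgy : g * y * g⁻¹ = y ^ i.val * z ^ l := by rw [hl, mul_inv_cancel_left]
    have hgz : ∀ t : ℤ, g * z ^ t * g⁻¹ = z ^ t := fun t => by
      rw [((hzc g).zpow_right t).eq, mul_inv_cancel_right]
    have hit : ∀ m : ℕ, ∃ t : ℤ, g ^ m * y * (g ^ m)⁻¹ = y ^ (i.val ^ m) * z ^ t := by
      intro m
      induction m with
      | zero => exact ⟨0, by simp⟩
      | succ m ih =>
          obtain ⟨t, ht⟩ := ih
          refine ⟨l * (i.val ^ m : ℕ) + t, ?_⟩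
          rw [show g ^ (m + 1) * y * (g ^ (m + 1))⁻¹ = g * (g ^ m * y * (g ^ m)⁻¹) * g⁻¹ by rw [pow_succ']; group, ht,
            show g * (y ^ (i.val ^ m) * z ^ t) * g⁻¹ = (g * y * g⁻¹) ^ (i.val ^ m) * (g * z ^ t * g⁻¹) by
              rw [conj_pow]; group,
            hgy, hgz, ((hzc (y ^ i.val)).zpow_right l).mul_pow, ← pow_mul, ← pow_succ', mul_assoc, ← zpow_natCast (z ^ l),
            ← zpow_mul, ← zpow_add]
    obtain ⟨k, hk⟩ := hG g
    obtain ⟨t, ht⟩ := hit (p ^ k)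
    rw [hk, one_mul, inv_one, mul_one] at ht
    have hi1 : i.val % p = 1 := by
      haveI : Fact p.Prime := ⟨hp⟩
      have h1 : y ^ (i.val ^ p ^ k) * y⁻¹ ∈ Subgroup.zpowers a := by
        have : y ^ (i.val ^ p ^ k) * y⁻¹ = (z ^ t)⁻¹ := by
          rw [eq_mul_inv_iff_mul_eq.mpr ht.symm, mul_assoc, ← ((hzc y).zpow_right t).inv_right.inv_left.eq,
            mul_inv_cancel_left]
        rw [this]; exact inv_mem (Subgroup.zpow_mem _ hzU t)
      have hpos : 1 ≤ i.val ^ p ^ k := by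
        rcases Nat.eq_zero_or_pos (i.val ^ p ^ k) with h0 | h0
        · exfalso
          rw [h0, pow_zero, one_mul] at h1
          exact hyU (by simpa using inv_mem h1)
        · exact h0
      rw [show y ^ (i.val ^ p ^ k) * y⁻¹ = y ^ (i.val ^ p ^ k - 1) by rw [pow_sub _ hpos, pow_one]] at h1
      have h2 := hypow _ h1
      rw [← ZMod.natCast_eq_zero_iff, Nat.cast_sub hpos, Nat.cast_pow, ZMod.pow_card_pow, Nat.cast_one, sub_eq_zero] at h2
      rw [← ZMod.val_natCast, h2, ZMod.val_one]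
    have hgy' : g * y * g⁻¹ = y * z ^ l := by rw [hgy, ← pow_mod_orderOf, orderOf_eq_prime hy1 (fun h => hyU (h ▸ one_mem _)), hi1, pow_one]
    have hit' : ∀ m : ℕ, g ^ m * y * (g ^ m)⁻¹ = y * z ^ (l * m) := by
      intro m
      induction m with
      | zero => simp
      | succ m ih =>
          rw [show g ^ (m + 1) * y * (g ^ (m + 1))⁻¹ = g * (g ^ m * y * (g ^ m)⁻¹) * g⁻¹ by rw [pow_succ']; group, ih,
            show g * (y * z ^ (l * m)) * g⁻¹ = (g * y * g⁻¹) * (g * z ^ (l * m) * g⁻¹) by group, hgy', hgz,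
            mul_assoc, ← zpow_add]
          push_cast; congr 2; ring
    have hgpy : Commute y (g ^ p) := by
      have h1 := hit' p
      rw [mul_comm l, zpow_mul, zpow_natCast, ← hzz, pow_orderOf_eq_one, one_zpow, mul_one, hzz] at h1
      exact (mul_inv_eq_iff_eq_mul.mp h1).symm
    intro s hs
    rw [hE] at hs
    induction hs using Subgroup.closure_induction with
    | mem r hr =>
        rcases hr with hr | hr
        · rw [hr]; exact ((hzc _).symm)
        · rw [Set.mem_singleton_iff.mp hr]; exact hgpy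
    | one => exact Commute.one_left _
    | mul r r' _ _ h1 h2 => exact h1.mul_left h2
    | inv r _ h1 => exact h1.inv_left
  refine ⟨?_, ?_, ?_, ?_⟩
  · let f : Fin p → M ⧸ (Subgroup.zpowers a).subgroupOf M := fun i => QuotientGroup.mk ⟨y ^ i.val, pow_mem hyM _⟩
    have hf : Function.Bijective f := by
      refine ⟨fun i j h => hfin i j ?_, fun s => ?_⟩
      · simpa [Subgroup.mem_subgroupOf] using QuotientGroup.eq.mp h
      · obtain ⟨⟨s, hs⟩, rfl⟩ := QuotientGroup.mk_surjective s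
        obtain ⟨i, hi⟩ := hcovM s hs
        exact ⟨i, QuotientGroup.eq.mpr (by simpa [Subgroup.mem_subgroupOf] using hi)⟩
    rw [Subgroup.relIndex, Subgroup.index, ← Nat.card_eq_of_bijective f hf, Nat.card_eq_fintype_card, Fintype.card_fin]
  · rw [hΩ]; exact ⟨hEc, hEexp⟩
  · rw [hΩ]
    let f : Fin p × Subgroup.zpowers z → E := fun s =>
      ⟨y ^ s.1.val * s.2, mul_mem (pow_mem hyE _) (Subgroup.zpowers_le.mpr hzE s.2.2)⟩
    have hf : Function.Bijective f := by
      refine ⟨?_, fun e => ?_⟩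
      · rintro ⟨i, ⟨u, hu⟩⟩ ⟨j, ⟨v, hv⟩⟩ h
        have h' : y ^ i.val * u = y ^ j.val * v := congrArg Subtype.val h
        obtain rfl : i = j := hfin i j (by
          rw [show (y ^ i.val)⁻¹ * y ^ j.val = u * v⁻¹ by
            rw [eq_mul_inv_iff_mul_eq, mul_assoc, ← h', inv_mul_cancel_left]]
          exact mul_mem ((Subgroup.zpowers_le.mpr hzU) hu) (inv_mem ((Subgroup.zpowers_le.mpr hzU) hv)))
        obtain rfl : u = v := mul_left_cancel h'
        rfl
      · obtain ⟨i, hi⟩ := hcovM e (hEM e e.2)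
        have hd : (y ^ i.val)⁻¹ * (e : G) ∈ E := mul_mem (inv_mem (pow_mem hyE _)) e.2
        exact ⟨(i, ⟨(y ^ i.val)⁻¹ * e, hEU _ hd hi⟩), Subtype.ext (mul_inv_cancel_left _ _)⟩
    rw [← Nat.card_eq_of_bijective f hf, Nat.card_prod, Nat.card_zpowers, hzz, Nat.card_eq_fintype_card,
      Fintype.card_fin, pow_two]
  · rw [hΩ]
    refine Subgroup.characteristic_iff_map_le.mpr fun φ => ?_
    -- the image is a normal plane
    have hφn : ∀ s ∈ E, ∀ g : G, g * φ s * g⁻¹ ∈ E.map φ.toMonoidHom := fun s hs g => by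
      obtain ⟨g', rfl⟩ := φ.surjective g
      exact ⟨g' * s * g'⁻¹, hEn.conj_mem s hs g', by simp⟩
    rintro _ ⟨s, hs, rfl⟩
    show φ s ∈ E
    refine hmem _ ?_ (by rw [← map_pow, hEexp s hs, map_one])
    obtain ⟨a', rfl⟩ := φ.surjective a
    rw [← map_pow]
    refine Commute.map ?_ φ
    exact hpow a' s hs

end Cfsg.Agent.S3761
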