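import Cfsg.Statements.S3763
import Cfsg.Agent.Lib.Grp.ExtraRank

set_option autoImplicit false
open Cfsg

namespace Cfsg.Agent.S3763

/-- Let E be an extraspecial 2-group of order 2^(2n+1). Then the largest elementary abelian subgroups of E have order 2^n or 2^(n+1); and two extraspecial 2-groups of the same order whose largest elementary abelian subgroups have the same order are isomorphic. -/
theorem result {E : Type*} [Group E] [Finite E] (hE : Cfsg.IsExtraspecial 2 E) (n : ℕ) (hn : Nat.card E = 2 ^ (2 * n + 1)) : ((Cfsg.PRankLE 2 n E ∧ ¬ Cfsg.PRankLE 2 (n - 1) E) ∨ (Cfsg.PRankLE 2 (n + 1) E ∧ ¬ Cfsg.PRankLE 2 n E)) ∧ ∀ (E' : Type*) [Group E'] [Finite E'], Cfsg.IsExtraspecial 2 E' → Nat.card E' = Nat.card E → (∀ k : ℕ, Cfsg.PRankLE 2 k E ↔ Cfsg.PRankLE 2 k E') → Nonempty (E ≃* E') := by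
  haveI : Fact (Nat.Prime 2) := ⟨Nat.prime_two⟩
  obtain ⟨z, hz, -⟩ := Cfsg.Agent.Transfer.ExtraIso.exists_ext hE
  obtain ⟨m, hm, hcase⟩ := Cfsg.Agent.Grp.ExtraRank.rank_formula _ E z hz rfl
  obtain rfl : n = m := by
    have := Nat.pow_right_injective le_rfl (hn.symm.trans hm)
    omega
  refine ⟨?_, fun E' _ _ hE' hcard hrank => ?_⟩
  · rcases hcase with ⟨-, hr⟩ | ⟨-, hm1, hr⟩
    · exact Or.inr ⟨(hr.pRankLE_iff _).mpr le_rfl, fun h => by have := (hr.pRankLE_iff _).mp h; omega⟩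
    · exact Or.inl ⟨(hr.pRankLE_iff _).mpr le_rfl, fun h => by have := (hr.pRankLE_iff _).mp h; omega⟩
  · obtain ⟨z', hz', -⟩ := Cfsg.Agent.Transfer.ExtraIso.exists_ext hE'
    obtain ⟨m', hm', hcase'⟩ := Cfsg.Agent.Grp.ExtraRank.rank_formula _ E' z' hz' rfl
    obtain rfl : n = m' := by
      have := Nat.pow_right_injective le_rfl ((hn.symm.trans hcard.symm).trans hm')
      omega
    have hcnt : Cfsg.Agent.Transfer.ExtraIso.invCount E = Cfsg.Agent.Transfer.ExtraIso.invCount E' := by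
      have hk := hrank n
      rcases hcase with ⟨hc, hr⟩ | ⟨hc, -, hr⟩ <;> rcases hcase' with ⟨hc', hr'⟩ | ⟨hc', -, hr'⟩ <;>
        rw [hr.pRankLE_iff, hr'.pRankLE_iff] at hk <;> omega
    obtain ⟨f, -⟩ := Cfsg.Agent.Transfer.ExtraIso.iso_of_count _ E E' z z' hz hz' rfl hcard hcnt
    exact ⟨f⟩

end Cfsg.Agent.S3763
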