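import Cfsg.Statements.S3764
import Cfsg.Agent.Lib.Grp.ExtraspecialFixed

set_option autoImplicit false
open Cfsg

namespace Cfsg.Agent.S3764

/-- Let p, q, r be distinct primes and let X, Q, V be subgroups of a finite group with X of order r, Q an extraspecial q-group normalized by X with C_Q(X) = Z(Q), and V an elementary abelian p-group normalized by X and Q on which XQ acts faithfully ((X ⊔ Q) ∩ C(V) = 1). If C_V(X) = 1, then q = 2, r = 2^n + 1 for some n, and Q has order 2^(2n+1). -/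
theorem result {G : Type*} [Group G] [Finite G] {p q r : ℕ} (hp : p.Prime) (hq : q.Prime) (hr : r.Prime) (hpq : p ≠ q) (hpr : p ≠ r) (hqr : q ≠ r) (X Q V : Subgroup G) (hX : Nat.card X = r) (hQ : Cfsg.IsExtraspecial q ↥Q) (hXQ : X ≤ Subgroup.normalizer (Q : Set G)) (hCQ : Q ⊓ Subgroup.centralizer (X : Set G) = (Subgroup.center ↥Q).map Q.subtype) (hV : Cfsg.IsElementaryAbelian p V) (hXV : X ≤ Subgroup.normalizer (V : Set G)) (hQV : Q ≤ Subgroup.normalizer (V : Set G)) (hfaith : (X ⊔ Q) ⊓ Subgroup.centralizer (V : Set G) = ⊥) (hCV : V ⊓ Subgroup.centralizer (X : Set G) = ⊥) : q = 2 ∧ ∃ n : ℕ, r = 2 ^ n + 1 ∧ Nat.card Q = 2 ^ (2 * n + 1) := by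
  refine Cfsg.Agent.Grp.extraspecial_fixed hp hq hr hpq hpr hqr X Q V hX hQ hXQ hCQ hV hXV hQV ?_ hCV
  by_contra hne
  push Not at hne
  have hz : (Subgroup.center ↥Q).map Q.subtype = ⊥ := by
    refine (Subgroup.eq_bot_iff_forall _).mpr fun z hz => ?_
    have hm : z ∈ (X ⊔ Q) ⊓ Subgroup.centralizer (V : Set G) :=
      ⟨Subgroup.mem_sup_right (Subgroup.map_subtype_le _ hz),
        Subgroup.mem_centralizer_iff.mpr fun v hv => (hne z hz v hv).symm⟩
    rwa [hfaith, Subgroup.mem_bot] at hm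
  have hc := hQ.2
  rw [← Subgroup.card_map_of_injective Q.subtype_injective, hz, Subgroup.card_bot] at hc
  exact hq.one_lt.ne hc

end Cfsg.Agent.S3764
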