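import Cfsg.Statements.S3766
import Cfsg.Agent.Lib.Grp.Solvable
import Cfsg.Agent.Lib.Grp.Cores
import Cfsg.Agent.Lib.Grp.Frattini


set_option autoImplicit false
open Cfsg

namespace Cfsg.Agent.S3766

/-- Let G be a finite solvable group and N a normal subgroup of G. Call a pair V < U of normal subgroups of G a chief factor of G when no normal subgroup of G lies strictly between them; an element g centralizes the chief factor U/V when u g u⁻¹ g⁻¹ ∈ V for all u ∈ U. Then an element of G lies in the Fitting subgroup F(N) if and only if it lies in N and centralizes every chief factor of G; and also if and only if it lies in N and centralizes every chief factor U/V of G with U ≤ F(N). -/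
theorem result {G : Type*} [Group G] [Finite G] (hG : Group.IsSolvable G) (N : Subgroup G) [N.Normal] (g : G) : (g ∈ (Cfsg.fittingSubgroup ↥N).map N.subtype ↔ g ∈ N ∧ ∀ U V : Subgroup G, (U.Normal ∧ V.Normal ∧ V < U ∧ ∀ W : Subgroup G, W.Normal → V ≤ W → W ≤ U → W = V ∨ W = U) → ∀ u ∈ U, u * g * u⁻¹ * g⁻¹ ∈ V) ∧ (g ∈ (Cfsg.fittingSubgroup ↥N).map N.subtype ↔ g ∈ N ∧ ∀ U V : Subgroup G, (U.Normal ∧ V.Normal ∧ V < U ∧ ∀ W : Subgroup G, W.Normal → V ≤ W → W ≤ U → W = V ∨ W = U) → U ≤ (Cfsg.fittingSubgroup ↥N).map N.subtype → ∀ u ∈ U, u * g * u⁻¹ * g⁻¹ ∈ V) := by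
  classical
  have : Group.IsSolvable G := hG
  set F := (Cfsg.fittingSubgroup ↥N).map N.subtype with hF
  have hFn : F.Normal := by
    have := Cfsg.Agent.Grp.fittingSubgroup_isNormal (G := G)
    rw [hF, Cfsg.Agent.Grp.fittingSubgroup_map_eq]
    infer_instance
  have hFnil : Group.IsNilpotent F := Cfsg.Agent.Grp.isNilpotent_map Cfsg.Agent.Grp.fittingSubgroup_isNilpotent _
  have hFN : F ≤ N := Subgroup.map_subtype_le _
  let Chief : Subgroup G → Subgroup G → Prop := fun U V =>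
    U.Normal ∧ V.Normal ∧ V < U ∧ ∀ W : Subgroup G, W.Normal → V ≤ W → W ≤ U → W = V ∨ W = U
  have hfwd : ∀ x ∈ F, ∀ U V, Chief U V → ∀ u ∈ U, u * x * u⁻¹ * x⁻¹ ∈ V := by
    intro x hx U V hUV u hu
    obtain ⟨hU, hV, hlt, hmin⟩ := hUV
    set π := QuotientGroup.mk' V
    have hπ : Function.Surjective π := QuotientGroup.mk'_surjective V
    have hUb : (U.map π).Normal := hU.map π hπ
    have hFb : (F.map π).Normal := hFn.map π hπ
    have hnilb : Group.IsNilpotent (F.map π) := Cfsg.Agent.Grp.isNilpotent_map hFnil _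
    have hdich : ∀ T : Subgroup (G ⧸ V), T.Normal → T ≤ U.map π → T = ⊥ ∨ T = U.map π := by
      intro T hT hle
      have hker : π.ker = V := QuotientGroup.ker_mk' V
      have h2 : T.comap π ≤ U := by
        refine (Subgroup.comap_mono hle).trans ?_
        rw [Subgroup.comap_map_eq, hker, sup_eq_left.mpr hlt.le]
      have h1 : V ≤ T.comap π := hker.ge.trans (Subgroup.ker_le_comap π T)
      rcases hmin _ (hT.comap π) h1 h2 with e | e
      · left
        rw [← Subgroup.map_comap_eq_self_of_surjective hπ T, e, Subgroup.map_eq_bot_iff, hker]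
      · right
        rw [← Subgroup.map_comap_eq_self_of_surjective hπ T, e]
    suffices π (u * x * u⁻¹ * x⁻¹) = 1 from (QuotientGroup.eq_one_iff _).mp this
    rcases hdich (U.map π ⊓ F.map π) inferInstance inf_le_left with e | e
    · have hc := Subgroup.commute_of_normal_of_disjoint _ _ hUb hFb (disjoint_iff.mpr e) (π u) (π x) ⟨u, hu, rfl⟩ ⟨x, hx, rfl⟩
      rw [map_mul, map_mul, map_mul, map_inv, map_inv, hc.eq, mul_inv_cancel_right, mul_inv_cancel]
    · have hUF : U.map π ≤ F.map π := e.ge.trans inf_le_right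
      by_cases hU1 : U.map π = ⊥
      · have h1 : π u = 1 := Subgroup.mem_bot.mp (hU1.le ⟨u, hu, rfl⟩)
        rw [map_mul, map_mul, map_mul, map_inv, map_inv, h1]; simp
      have hZn : ((Subgroup.center (F.map π)).map (F.map π).subtype).Normal :=
        ConjAct.normal_of_characteristic_of_normal
      rcases hdich (U.map π ⊓ (Subgroup.center (F.map π)).map (F.map π).subtype) inferInstance inf_le_left with e1 | e1
      · exfalso
        refine Cfsg.Agent.Grp.inf_center_ne_bot ((U.map π).subgroupOf (F.map π)) (fun h => hU1 ?_) ?_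
        · rw [Subgroup.subgroupOf_eq_bot, disjoint_iff, inf_eq_left.mpr hUF] at h; exact h
        · rw [Subgroup.eq_bot_iff_forall]
          rintro w ⟨hw1, hw2⟩
          exact Subtype.ext (Subgroup.mem_bot.mp (e1.le ⟨hw1, w, hw2, rfl⟩))
      · obtain ⟨w, hw, hwu⟩ := (e1.ge.trans inf_le_right) (⟨u, hu, rfl⟩ : π u ∈ U.map π)
        have hc : π x * π u = π u * π x := by
          have := congrArg Subtype.val (Subgroup.mem_center_iff.mp hw ⟨π x, x, hx, rfl⟩)
          rw [← hwu]; exact this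
        rw [map_mul, map_mul, map_mul, map_inv, map_inv, ← hc, mul_inv_cancel_right, mul_inv_cancel]
  have hbwd : ∀ x ∈ N, (∀ U V, Chief U V → U ≤ F → ∀ u ∈ U, u * x * u⁻¹ * x⁻¹ ∈ V) → x ∈ F := by
    intro x hxN hxc
    let C : Subgroup G :=
      { carrier := {y | y ∈ N ∧ ∀ U V, Chief U V → U ≤ F → ∀ u ∈ U, u * y * u⁻¹ * y⁻¹ ∈ V}
        one_mem' := ⟨N.one_mem, fun U V _ _ u _ => by simp⟩
        mul_mem' := fun {a b} ha hb => ⟨N.mul_mem ha.1 hb.1, fun U V h hle u hu => by
          rw [show u * (a * b) * u⁻¹ * (a * b)⁻¹ = (u * a * u⁻¹ * a⁻¹) * (a * (u * b * u⁻¹ * b⁻¹) * a⁻¹) by group]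
          exact V.mul_mem (ha.2 U V h hle u hu) (h.2.1.conj_mem _ (hb.2 U V h hle u hu) a)⟩
        inv_mem' := fun {a} ha => ⟨N.inv_mem ha.1, fun U V h hle u hu => by
          rw [show u * a⁻¹ * u⁻¹ * a⁻¹⁻¹ = a⁻¹ * (u * a * u⁻¹ * a⁻¹)⁻¹ * a⁻¹⁻¹ by group]
          exact h.2.1.conj_mem _ (V.inv_mem (ha.2 U V h hle u hu)) a⁻¹⟩ }
    have hCn : C.Normal := ⟨fun a ha y => ⟨(inferInstance : N.Normal).conj_mem _ ha.1 y, fun U V h hle u hu => by
      rw [show u * (y * a * y⁻¹) * u⁻¹ * (y * a * y⁻¹)⁻¹ =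
        y * ((y⁻¹ * u * y⁻¹⁻¹) * a * (y⁻¹ * u * y⁻¹⁻¹)⁻¹ * a⁻¹) * y⁻¹ by group]
      exact h.2.1.conj_mem _ (ha.2 U V h hle _ (h.1.conj_mem u hu y⁻¹)) y⟩⟩
    suffices C ≤ F from this ⟨hxN, hxc⟩
    by_contra hCF
    set W := C ⊓ F
    set π := QuotientGroup.mk' W
    have hπ : Function.Surjective π := QuotientGroup.mk'_surjective W
    have hCb : (C.map π).Normal := hCn.map π hπ
    have hCne : C.map π ≠ ⊥ := fun e => hCF (fun c hc => ((QuotientGroup.eq_one_iff c).mp
      (Subgroup.mem_bot.mp (e.le ⟨c, hc, rfl⟩))).2)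
    obtain ⟨K₁, ⟨hK₁n, hK₁ne, hK₁le⟩, hK₁min⟩ :=
      (Set.toFinite {T : Subgroup (G ⧸ W) | T.Normal ∧ T ≠ ⊥ ∧ T ≤ C.map π}).exists_minimal ⟨_, hCb, hCne, le_rfl⟩
    obtain ⟨hK₁c, -⟩ := Cfsg.Agent.Grp.minimal_normal_solvable (N := K₁) inferInstance hK₁ne (fun M hM hle => by
      by_cases hM0 : M = ⊥
      · exact Or.inl hM0
      · exact Or.inr (le_antisymm hle (hK₁min ⟨hM, hM0, hle.trans hK₁le⟩ hle)))
    set K := K₁.comap π
    have hKn : K.Normal := hK₁n.comap π
    have hKmap : K.map π = K₁ := Subgroup.map_comap_eq_self_of_surjective hπ K₁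
    have hKC : K ≤ C := by
      refine (Subgroup.comap_mono hK₁le).trans ?_
      rw [Subgroup.comap_map_eq, QuotientGroup.ker_mk', sup_eq_left.mpr inf_le_left]
    have hbase : Group.IsNilpotent (K.map π) := by
      rw [hKmap]
      exact Cfsg.Agent.Grp.isNilpotent_of_commutator_le_center (fun z _ => Subgroup.mem_center_iff.mpr fun y => hK₁c.is_comm.comm y z)
    obtain ⟨V, ⟨hVn, hVW, hVnil⟩, hVmin⟩ := (Set.toFinite {V : Subgroup G | ∃ _ : V.Normal, V ≤ W ∧
      Group.IsNilpotent (K.map (QuotientGroup.mk' V))}).exists_minimal ⟨W, inferInstance, le_rfl, hbase⟩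
    by_cases hV0 : V = ⊥
    · subst hV0
      have hinj : Function.Injective (QuotientGroup.mk' (⊥ : Subgroup G)) := by
        rw [← MonoidHom.ker_eq_bot_iff, QuotientGroup.ker_mk']
      have hKnil : Group.IsNilpotent K := (Group.isNilpotent_congr (K.equivMapOfInjective _ hinj)).mpr hVnil
      have hKF : K ≤ F := by
        rw [hF, Cfsg.Agent.Grp.fittingSubgroup_map_eq]
        exact le_inf (Cfsg.Agent.Grp.le_fittingSubgroup hKn hKnil) fun k hk => (hKC hk).1
      refine hK₁ne ?_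
      rw [← hKmap, Subgroup.map_eq_bot_iff, QuotientGroup.ker_mk']
      exact le_inf hKC hKF
    · obtain ⟨V', ⟨hV'n, hV'lt⟩, hV'max⟩ := (Set.toFinite {T : Subgroup G | T.Normal ∧ T < V}).exists_maximal
        ⟨⊥, inferInstance, bot_lt_iff_ne_bot.mpr hV0⟩
      have hchief : Chief V V' := ⟨hVn, hV'n, hV'lt, fun T hT h1 h2 => by
        rcases h2.lt_or_eq with h | h
        · exact Or.inl (le_antisymm (hV'max ⟨hT, h⟩ h1) h1)
        · exact Or.inr h⟩
      refine absurd (hVmin ⟨hV'n, hV'lt.le.trans hVW, ?_⟩ hV'lt.le) hV'lt.not_ge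
      let ψ : G ⧸ V' →* G ⧸ V := QuotientGroup.map V' V (MonoidHom.id G) hV'lt.le
      let f : K.map (QuotientGroup.mk' V') →* K.map (QuotientGroup.mk' V) :=
        (ψ.comp (K.map (QuotientGroup.mk' V')).subtype).codRestrict _ fun z => by
          obtain ⟨k, hk, hk'⟩ := z.2
          exact ⟨k, hk, show QuotientGroup.mk' V k = ψ (z : G ⧸ V') by rw [← hk']; rfl⟩
      haveI := hVnil
      refine Subgroup.isNilpotent_of_ker_le_center f ?_
      rintro ⟨z, k, hk, rfl⟩ hz
      have hkV : k ∈ V := (QuotientGroup.eq_one_iff k).mp (congrArg Subtype.val hz)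
      rw [Subgroup.mem_center_iff]
      rintro ⟨_, k', hk', rfl⟩
      refine Subtype.ext ?_
      show QuotientGroup.mk' V' k' * QuotientGroup.mk' V' k = QuotientGroup.mk' V' k * QuotientGroup.mk' V' k'
      have h1 := (hKC hk').2 V V' hchief (hVW.trans inf_le_right) k hkV
      have h2 : QuotientGroup.mk' V' (k * k' * k⁻¹ * k'⁻¹) = 1 := (QuotientGroup.eq_one_iff _).mpr h1
      rw [map_mul, map_mul, map_mul, map_inv, map_inv, mul_inv_eq_one, mul_inv_eq_iff_eq_mul] at h2
      exact h2.symm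
  exact ⟨⟨fun h => ⟨hFN h, fun U V hc => hfwd g h U V hc⟩, fun h => hbwd g h.1 fun U V hc _ => h.2 U V hc⟩,
    ⟨fun h => ⟨hFN h, fun U V hc _ => hfwd g h U V hc⟩, fun h => hbwd g h.1 h.2⟩⟩

end Cfsg.Agent.S3766
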