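import Cfsg.Statements.S3768
import Cfsg.Agent.Lib.Grp.Zassenhaus.OrderType

set_option autoImplicit false
open Cfsg

namespace Cfsg.Agent.S3768

/-- Let G be a finite Frobenius group with Frobenius complement R and Frobenius kernel K (the identity together with the elements in no conjugate of R), and let N be a normal subgroup of G not containing K. Then G/N is a Frobenius group with Frobenius complement RN/N whose Frobenius kernel is the image of K. -/
theorem result {G : Type*} [Group G] [Finite G] (R : Subgroup G) (hR : Cfsg.IsFrobeniusComplement R) (N : Subgroup G) [N.Normal] (hKN : ¬ Cfsg.frobeniusKernel R ⊆ N) : Cfsg.IsFrobeniusComplement (R.map (QuotientGroup.mk' N)) ∧ Cfsg.frobeniusKernel (R.map (QuotientGroup.mk' N)) = QuotientGroup.mk' N '' Cfsg.frobeniusKernel R := by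
  classical
  have := Fintype.ofFinite G
  have := Fintype.ofFinite (G ⧸ N)
  obtain ⟨K, hK, hKn, hc, -⟩ := Grp.frobenius_kernel_spec hR
  rw [← hK] at hKN ⊢
  have hNK : N ≤ K := (Frob.kernel_le_or_le hR hK N).resolve_left fun h => hKN (by exact_mod_cast h)
  set π := QuotientGroup.mk' N
  set K' := K.map π
  set R' := R.map π
  have hπ : π.ker = N := QuotientGroup.ker_mk' N
  have hKR : K ⊓ R = ⊥ := Frob.kernel_inf_eq_bot hK
  have : K'.Normal := hKn.map π (QuotientGroup.mk'_surjective N)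
  have hc' : Subgroup.IsComplement' K' R' := by
    refine Subgroup.isComplement'_of_disjoint_and_mul_eq_univ ?_ (Set.eq_univ_of_forall fun q => ?_)
    · rw [Subgroup.disjoint_def]
      rintro _ ⟨k, hk, rfl⟩ ⟨r, hr, e⟩
      have h1 : r⁻¹ * k ∈ N := by
        rw [← hπ, MonoidHom.mem_ker, map_mul, map_inv, e, inv_mul_cancel]
      have h2 : r ∈ K := by
        have := mul_mem hk (inv_mem (hNK h1))
        simpa using this
      have h3 : r = 1 := by
        rw [← Subgroup.mem_bot, ← hKR]; exact ⟨h2, hr⟩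
      rw [← e, h3, map_one]
    · obtain ⟨g, rfl⟩ := QuotientGroup.mk'_surjective N q
      obtain ⟨⟨⟨k, hk⟩, ⟨r, hr⟩⟩, e⟩ := hc.surjective g
      exact ⟨π k, ⟨k, hk, rfl⟩, π r, ⟨r, hr, rfl⟩, by
        show π k * π r = π g
        rw [← map_mul]; exact congrArg π e⟩
  have hK'b : K' ≠ ⊥ := by
    rw [Ne, Subgroup.map_eq_bot_iff, hπ]
    exact fun h => hKN (by exact_mod_cast h)
  have hR'b : R' ≠ ⊥ := by
    rw [Ne, Subgroup.map_eq_bot_iff, hπ]
    intro h
    exact hR.1 (le_bot_iff.mp (hKR ▸ le_inf (h.trans hNK) le_rfl))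
  have hR' : Cfsg.IsFrobeniusComplement R' := by
    refine Grp.Zas.isFrobeniusComplement_of_isComplement' hc' hK'b hR'b ?_
    rintro _ ⟨r, hr, rfl⟩ hr1
    rw [Subgroup.eq_bot_iff_forall]
    rintro _ ⟨⟨k, hk, rfl⟩, hkc⟩
    have hr0 : r ≠ 1 := fun e => hr1 (by rw [e, map_one])
    have h0 := Subgroup.mem_centralizer_singleton_iff.mp hkc
    have hN0 : r * k * r⁻¹ * k⁻¹ ∈ N := by
      rw [← hπ, MonoidHom.mem_ker, map_mul, map_mul, map_mul, map_inv, map_inv, ← h0, mul_inv_cancel_right,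
        mul_inv_cancel]
    let f : N → N := fun c => ⟨r * c * r⁻¹ * (c : G)⁻¹, mul_mem ((inferInstance : N.Normal).conj_mem _ c.2 r) (inv_mem c.2)⟩
    have hfix : ∀ d : G, d ∈ K → r * d * r⁻¹ = d → d = 1 := fun d hd e => by
      rw [← Subgroup.mem_bot, ← hKR]
      exact ⟨hd, Frob.centralizer_le hR hr hr0
        (Subgroup.mem_centralizer_singleton_iff.mpr (mul_inv_eq_iff_eq_mul.mp e).symm)⟩
    have key : ∀ a b : G, r * a * r⁻¹ * a⁻¹ = r * b * r⁻¹ * b⁻¹ → r * (b⁻¹ * a) * r⁻¹ = b⁻¹ * a := by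
      intro a b e
      have e1 : r * a * r⁻¹ = r * b * r⁻¹ * b⁻¹ * a := by rw [← e]; group
      calc r * (b⁻¹ * a) * r⁻¹ = (r * b * r⁻¹)⁻¹ * (r * a * r⁻¹) := by group
        _ = b⁻¹ * a := by rw [e1]; group
    have hf : Function.Injective f := by
      intro a b e
      exact Subtype.ext (inv_mul_eq_one.mp (hfix _ (mul_mem (inv_mem (hNK b.2)) (hNK a.2))
        (key a b (congrArg Subtype.val e)))).symm
    obtain ⟨c, hcN⟩ := (Finite.injective_iff_surjective.mp hf) ⟨_, hN0⟩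
    have := hfix _ (mul_mem (inv_mem (hNK c.2)) hk) (key k c (congrArg Subtype.val hcN).symm)
    rw [inv_mul_eq_one] at this
    rw [← this, ← MonoidHom.mem_ker, hπ]
    exact c.2
  refine ⟨hR', ?_⟩
  obtain ⟨K₂, hK₂, hK₂n, hc₂, -⟩ := Grp.frobenius_kernel_spec hR'
  rw [← hK₂]
  show (K₂ : Set (G ⧸ N)) = (K' : Set (G ⧸ N))
  have hcard : Nat.card K₂ = Nat.card K' :=
    Nat.eq_of_mul_eq_mul_right Nat.card_pos (hc₂.card_mul.trans hc'.card_mul.symm)
  have hle : K' ≤ K₂ := fun x hx => (Grp.Zas.mem_kernel_iff_pow hR' hK₂ x).mpr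
    (orderOf_dvd_iff_pow_eq_one.mp (hcard ▸ K'.orderOf_dvd_natCard hx))
  rw [Subgroup.eq_of_le_of_card_ge hle hcard.le]

end Cfsg.Agent.S3768
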