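import Cfsg.Statements.S3769
import Cfsg.Agent.Lib.Grp.HallHigmanAction

set_option autoImplicit false
open Cfsg

namespace Cfsg.Agent.S3769

/-- Let G and V be subgroups of a finite group with G solvable of odd order normalizing V, V an elementary abelian ℓ-group for a prime ℓ not dividing the order of G, and suppose G has a normal Hall subgroup K with a complement R of prime order. If C_V(R) = 1, then [R, K] centralizes V. -/
theorem result {X : Type*} [Group X] [Finite X] (G : Subgroup X) (hsolv : Group.IsSolvable G) (hodd : Odd (Nat.card G)) (V : Subgroup X) {ℓ : ℕ} (hℓ : ℓ.Prime) (hV : Cfsg.IsElementaryAbelian ℓ V) (hℓG : ¬ ℓ ∣ Nat.card G) (hGV : G ≤ Subgroup.normalizer (V : Set X)) (K R : Subgroup X) (hKG : K ≤ G) (hKn : G ≤ Subgroup.normalizer (K : Set X)) (hHall : (Nat.card K).Coprime (K.relIndex G)) (hRG : R ≤ G) (hR : (Nat.card R).Prime) (hKR : K ⊓ R = ⊥) (hKRG : K ⊔ R = G) (hCV : V ⊓ Subgroup.centralizer (R : Set X) = ⊥) : ⁅R, K⁆ ≤ Subgroup.centralizer (V : Set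 X) := by
  haveI := Fact.mk hℓ
  haveI := Fact.mk hR
  have hRN : R ≤ Subgroup.normalizer (K : Set X) := hRG.trans hKn
  have hcop : (Nat.card R).Coprime (Nat.card K) := by
    have h1 := Cfsg.Agent.Grp.card_sup_mul_card_inf hRN
    have h2 := Cfsg.Agent.Grp.card_mul_relIndex (H := K) (K := K ⊔ R) le_sup_left
    rw [inf_comm, hKR, Subgroup.card_bot, mul_one, sup_comm, ← h2, mul_comm (Nat.card R) (Nat.card K),
      Nat.mul_right_inj Nat.card_pos.ne'] at h1
    rw [← hKRG, h1] at hHall
    exact hHall.symm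
  exact Cfsg.Agent.Grp.commutator_le_centralizer_of_fpf K R V rfl
    (Odd.of_dvd_nat hodd (Subgroup.card_dvd_of_le hKG)) (Cfsg.Agent.Grp.isSolvable_of_le hKG hsolv) hcop hV
    (fun e => hℓG (e ▸ Subgroup.card_dvd_of_le hRG))
    (fun h => hℓG (h.trans (Subgroup.card_dvd_of_le hKG))) hRN (hKG.trans hGV) (hRG.trans hGV) hCV

end Cfsg.Agent.S3769
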