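import Cfsg.Statements.S3771
import Cfsg.Agent.Lib.Invol.OneInvol
import Cfsg.Agent.Lib.Grp.PGroupSmall

set_option autoImplicit false
open Cfsg

namespace Cfsg.Agent.S3771

/-- Let p be a prime and R a finite p-group of p-rank at most 2 (no elementary abelian subgroup of order p³) in which every element has order dividing p. Then R has order at most p³. -/
theorem result {R : Type*} [Group R] [Finite R] {p : ℕ} [Fact p.Prime] (hR : IsPGroup p R) (hrank : Cfsg.PRankLE p 2 R) (hexp : ∀ x : R, x ^ p = 1) : Nat.card R ≤ p ^ 3 := by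
  haveI := hR.isNilpotent
  have hp := (Fact.out : p.Prime)
  obtain ⟨A, hAn, hAc, hAself⟩ := OneInvol.exists_selfCentralizing_abelian (R := R)
  have hA2 : Nat.card A ≤ p ^ 2 := hrank A ⟨⟨fun a b => Subtype.ext (hAc a a.2 b b.2).eq⟩⟩ (fun a _ => hexp a)
  obtain ⟨k, hk⟩ := IsPGroup.iff_card.mp (hR.to_subgroup A)
  haveI := hAn
  by_cases hk1 : k ≤ 1
  · have hAcen : A ≤ Subgroup.center R := by
      rcases Nat.eq_zero_or_pos k with rfl | hk0
      · have e : A = ⊥ := Subgroup.card_eq_one.mp (by rw [hk, pow_zero])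
        rw [e]; exact bot_le
      · exact Grp.PSmall.le_center_of_card hR A (by rw [hk, show k = 1 by omega, pow_one])
    have htop : A = ⊤ := eq_top_iff.mpr fun x _ => hAself x fun a ha => (Subgroup.mem_center_iff.mp (hAcen ha) x).symm
    rw [htop, Subgroup.card_top] at hk
    rw [hk]
    exact Nat.pow_le_pow_right hp.pos (by omega)
  · have hk2 : k = 2 := by
      rw [hk] at hA2
      have := (Nat.pow_le_pow_iff_right hp.one_lt).mp hA2
      omega
    subst hk2
    have hne : A ≠ ⊥ := fun e => by rw [e, Subgroup.card_bot] at hk; exact (Nat.one_lt_pow (by norm_num) hp.one_lt).ne hk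
    have hinf := Grp.inf_center_ne_bot A hne
    obtain ⟨z, hz, hz1⟩ : ∃ z ∈ A ⊓ Subgroup.center R, z ≠ 1 := by
      by_contra hc; push Not at hc; exact hinf ((Subgroup.eq_bot_iff_forall _).mpr hc)
    have hzo : orderOf z = p := orderOf_eq_prime (hexp z) hz1
    haveI : (Subgroup.zpowers z).Normal := ⟨fun n hn g => by
      rw [Subgroup.mem_center_iff.mp (Subgroup.zpowers_le.mpr hz.2 hn) g, mul_inv_cancel_right]; exact hn⟩
    have hAZ : ¬ A ≤ Subgroup.zpowers z := fun h => by
      have := Subgroup.card_le_of_le h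
      rw [hk, Nat.card_zpowers, hzo, sq] at this
      nlinarith [hp.two_le]
    obtain ⟨e, heA, heZ, he⟩ := Grp.PSmall.exists_central_mod hR (Subgroup.zpowers z) A hAZ
    have hidx := Grp.PSmall.centralizer_index_le (Subgroup.zpowers z) (Subgroup.zpowers_le.mpr hz.2)
      (by rw [Nat.card_zpowers, hzo]) e he
    have heo : orderOf e = p := orderOf_eq_prime (hexp e) (fun h => heZ (h ▸ one_mem _))
    have hAeq : Subgroup.zpowers z ⊔ Subgroup.zpowers e = A := Subgroup.eq_of_le_of_card_ge
      (sup_le (Subgroup.zpowers_le.mpr hz.1) (Subgroup.zpowers_le.mpr heA))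
      (by rw [Grp.PSmall.card_sup_zpowers hzo heo hz.2 heZ, hk])
    have hC : Subgroup.centralizer ({e} : Set R) ≤ A := fun x hx => hAself x fun a ha => by
      have : A ≤ Subgroup.centralizer ({x} : Set R) := hAeq ▸ sup_le (Subgroup.zpowers_le.mpr (Subgroup.center_le_centralizer _ hz.2))
        (Subgroup.zpowers_le.mpr (Subgroup.mem_centralizer_singleton_iff.mpr (Subgroup.mem_centralizer_singleton_iff.mp hx).symm))
      exact Subgroup.mem_centralizer_singleton_iff.mp (this ha)
    rw [← Subgroup.card_mul_index (Subgroup.centralizer ({e} : Set R)), pow_succ]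
    exact Nat.mul_le_mul (hk ▸ Subgroup.card_le_of_le hC) hidx

end Cfsg.Agent.S3771
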