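import Cfsg.Statements.S3773
import Mathlib
import Cfsg.Agent.Lib.Grp.ClassTwoRank

set_option autoImplicit false
open Cfsg
open scoped commutatorElement

namespace Cfsg.Agent.S3773

/-- Let G be a finite 2-group of nilpotency class at most 2 and exponent dividing 4 in which the elements x with x² = 1 form a subgroup N. Then |G| ≤ |N|³, and |G| < |N|³ unless G is special. -/
theorem result {G : Type*} [Group G] [Finite G] (hG : IsPGroup 2 G) (hcl : (⊤ : Subgroup G).lowerCentralSeries 2 = ⊥) (hexp : ∀ x : G, x ^ 4 = 1) (hN : ∀ x y : G, x ^ 2 = 1 → y ^ 2 = 1 → (x * y) ^ 2 = 1) : Nat.card G ≤ Nat.card {x : G // x ^ 2 = 1} ^ 3 ∧ (¬ Cfsg.IsSpecial 2 G → Nat.card G < Nat.card {x : G // x ^ 2 = 1} ^ 3) := by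
  classical
  haveI : Fact (Nat.Prime 2) := ⟨Nat.prime_two⟩
  have hcc : ∀ x y z : G, z * ⁅x, y⁆ = ⁅x, y⁆ * z := fun x y z => by
    have h3 : ⁅⁅x, y⁆, z⁆ ∈ (⊤ : Subgroup G).lowerCentralSeries 2 :=
      Subgroup.commutator_mem_commutator (Subgroup.commutator_mem_commutator (Subgroup.mem_top x) (Subgroup.mem_top y)) (Subgroup.mem_top z)
    rw [hcl, Subgroup.mem_bot, commutatorElement_eq_one_iff_mul_comm] at h3
    exact h3.symm
  have hpm : ∀ (x y : G) (k : ℕ), ⁅x ^ k, y⁆ = ⁅x, y⁆ ^ k := by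
    intro x y k
    induction k with
    | zero => simp
    | succ k ih => rw [pow_succ', commutatorElement_mul_left_eq_conj_mul, hcc (x ^ k) y x, mul_inv_cancel_right, ih, ← pow_succ]
  have hmul : ∀ x y : G, (x * y) ^ 2 = ⁅y, x⁆ * (x ^ 2 * y ^ 2) := by
    intro x y
    calc (x * y) ^ 2 = x * (⁅y, x⁆ * (x * y)) * y := by rw [pow_two]; simp only [commutatorElement_def]; group
      _ = x * ⁅y, x⁆ * (x * y * y) := by group
      _ = ⁅y, x⁆ * x * (x * y * y) := by rw [hcc y x x]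
      _ = _ := by simp only [pow_two, mul_assoc]
  have hsqc : ∀ x y : G, ⁅x, y⁆ ^ 2 = 1 := by
    intro x y
    have h := hexp (x * y)
    rw [show 4 = 2 * 2 by rfl, pow_mul, hmul, Commute.mul_pow ((hcc y x _).symm), hmul, ← pow_mul x, ← pow_mul y,
      show 2 * 2 = 4 by rfl, hexp, hexp, mul_one, mul_one] at h
    have h2 : ⁅y ^ 2, x ^ 2⁆ = 1 := by
      rw [hpm, ← commutatorElement_inv (x ^ 2) y, hpm, inv_pow, ← pow_mul, show 2 * 2 = 4 by rfl, ← hpm, hexp,
        commutatorElement_one_left, inv_one]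
    rw [h2, mul_one] at h
    rw [← commutatorElement_inv y x, inv_pow, h, inv_one]
  set Φ := frattini G with hΦdef
  have hsqmem : ∀ x : G, x ^ 2 ∈ Φ := fun x => Agent.Grp.pGroup_pow_mem_frattini hG x
  have hcomm : ∀ x y : G, ⁅x, y⁆ ∈ Φ := fun x y =>
    Agent.Grp.pGroup_commutator_le_frattini hG (Subgroup.commutator_mem_commutator (Subgroup.mem_top x) (Subgroup.mem_top y))
  let Z : Subgroup G :=
    { carrier := {z | z ∈ Subgroup.center G ∧ z ^ 2 = 1}
      one_mem' := ⟨one_mem _, one_pow _⟩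
      mul_mem' := fun {a b} ha hb => ⟨mul_mem ha.1 hb.1, by
        rw [Commute.mul_pow (Subgroup.mem_center_iff.mp hb.1 a), ha.2, hb.2, one_mul]⟩
      inv_mem' := fun {a} ha => ⟨inv_mem ha.1, by rw [inv_pow, ha.2, inv_one]⟩ }
  have hΦZ : Φ ≤ Z := by
    have hZn : Z.Normal := ⟨fun z hz g => by
      rw [Subgroup.mem_center_iff.mp hz.1 g, mul_inv_cancel_right]; exact hz⟩
    refine Agent.Grp.frattini_le_of_elementary (p := 2) Nat.prime_two ?_ ?_
    · rw [commutator_def, Subgroup.commutator_le]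
      exact fun a _ b _ => ⟨Subgroup.mem_center_iff.mpr fun z => hcc a b z, hsqc a b⟩
    · intro a
      refine ⟨Subgroup.mem_center_iff.mpr fun z => ?_, by rw [← pow_mul]; exact hexp a⟩
      exact (commutatorElement_eq_one_iff_mul_comm.mp (show ⁅a ^ 2, z⁆ = 1 by rw [hpm, hsqc])).symm
  have hΦe : ∀ x ∈ Φ, x ^ 2 = 1 := fun x hx => (hΦZ hx).2
  have hΦc : ∀ x ∈ Φ, ∀ y : G, y * x = x * y := fun x hx y => Subgroup.mem_center_iff.mp (hΦZ hx).1 y
  let N : Subgroup G :=
    { carrier := {x | x ^ 2 = 1}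
      one_mem' := one_pow _
      mul_mem' := fun {a b} ha hb => hN a b ha hb
      inv_mem' := fun {a} ha => show a⁻¹ ^ 2 = 1 by rw [inv_pow, show a ^ 2 = 1 from ha, inv_one] }
  have hΦN : Φ ≤ N := fun x hx => hΦe x hx
  have hNcard : Nat.card {x : G // x ^ 2 = 1} = Nat.card N := rfl
  rw [hNcard]
  -- a subgroup over `Φ` whose squares fit in a small quotient contains a further square root
  have key : ∀ (H : Subgroup G) (K : Subgroup G) (W : Type _) [CommGroup W] [Finite W] (π : K →* W) (hK : ∀ x ∈ H, x ^ 2 ∈ K) (d l : ℕ),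
      Φ ≤ H → Nat.card H = Nat.card Φ * 2 ^ d → Nat.card W = 2 ^ l → (∀ w : W, w ^ 2 = 1) → 2 * l < d →
      ∃ x ∈ H, x ∉ Φ ∧ ∀ h : x ^ 2 ∈ K, π ⟨x ^ 2, h⟩ = 1 := by
    intro H K W _ _ π hK d l hΦH hHc hWc hW2 hdl
    let H₀ := Φ.subgroupOf H
    have hH₀n : H₀.Normal := ⟨fun e he g => by
      show (g : G) * (e : G) * (g : G)⁻¹ ∈ Φ
      rw [show (g : G) * (e : G) = (e : G) * (g : G) from hΦc _ he g, mul_inv_cancel_right]; exact he⟩
    let _ : CommGroup (H ⧸ H₀) := { (inferInstance : Group (H ⧸ H₀)) with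
      mul_comm := fun a b => by
        obtain ⟨x, rfl⟩ := QuotientGroup.mk'_surjective H₀ a
        obtain ⟨y, rfl⟩ := QuotientGroup.mk'_surjective H₀ b
        show QuotientGroup.mk' H₀ x * QuotientGroup.mk' H₀ y = QuotientGroup.mk' H₀ y * QuotientGroup.mk' H₀ x
        rw [← commutatorElement_eq_one_iff_mul_comm, ← map_commutatorElement]
        exact (QuotientGroup.eq_one_iff _).mpr (hcomm x y) }
    have hHcard : Nat.card (H ⧸ H₀) = 2 ^ d := by
      have h1 := Subgroup.card_eq_card_quotient_mul_card_subgroup H₀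
      rw [hHc, Nat.card_congr (Subgroup.subgroupOfEquivOfLe hΦH).toEquiv, mul_comm] at h1
      exact (Nat.eq_of_mul_eq_mul_right Nat.card_pos h1).symm
    let q : H ⧸ H₀ → W := Quotient.lift (fun x : H => π ⟨(x : G) ^ 2, hK x x.2⟩) (by
      intro x y hxy
      have h1 : ((x⁻¹ * y : H) : G) ∈ Φ := (show x⁻¹ * y ∈ H₀ from QuotientGroup.leftRel_apply.mp hxy)
      refine congrArg π (Subtype.ext ?_)
      show (x : G) ^ 2 = (y : G) ^ 2
      rw [show (y : G) = (x : G) * ((x⁻¹ * y : H) : G) by simp,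
        Commute.mul_pow (hΦc _ h1 (x : G)), hΦe _ h1, mul_one])
    have hcK : ∀ x y : H, ⁅(x : G), (y : G)⁆ ∈ K := by
      intro x y
      have e : ⁅(y : G), (x : G)⁆ = ((x : G) * y) ^ 2 * (((x : G) ^ 2) * (y : G) ^ 2)⁻¹ := by rw [hmul, mul_inv_cancel_right]
      rw [← commutatorElement_inv, e]
      exact inv_mem (mul_mem (hK _ (mul_mem x.2 y.2)) (inv_mem (mul_mem (hK _ x.2) (hK _ y.2))))
    let B : H ⧸ H₀ → H ⧸ H₀ → W := fun a b => (q a * q b)⁻¹ * q (a * b)
    have hBq : ∀ x y : H, B x y = π ⟨⁅(y : G), (x : G)⁆, hcK y x⟩ := by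
      intro x y
      show (π _ * π _)⁻¹ * π _ = _
      rw [← map_mul, ← map_inv, ← map_mul]
      refine congrArg π (Subtype.ext ?_)
      show ((x : G) ^ 2 * (y : G) ^ 2)⁻¹ * ((x : G) * y) ^ 2 = ⁅(y : G), (x : G)⁆
      rw [hmul, ← hcc (y : G) x, inv_mul_cancel_left]
    obtain ⟨v, hv, hqv⟩ := Agent.Grp.ClassTwo.exists_zero (V := Additive (H ⧸ H₀)) (W := Additive W)
      (fun v => by
        obtain ⟨x, hx⟩ := QuotientGroup.mk'_surjective H₀ (Additive.toMul v)
        refine Additive.toMul.injective ?_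
        show Additive.toMul v * Additive.toMul v = 1
        rw [← hx, ← map_mul]
        refine (QuotientGroup.eq_one_iff _).mpr ?_
        show (x : G) * x ∈ Φ
        rw [← pow_two]; exact hsqmem _)
      (fun w => by
        refine Additive.toMul.injective ?_
        show Additive.toMul w * Additive.toMul w = 1
        rw [← pow_two]; exact hW2 _)
      (fun v => Additive.ofMul (q (Additive.toMul v)))
      (fun v w => Additive.ofMul (B (Additive.toMul v) (Additive.toMul w)))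
      (fun v w => by
        refine Additive.toMul.injective ?_
        show q (Additive.toMul v * Additive.toMul w) = q (Additive.toMul v) * q (Additive.toMul w) * B (Additive.toMul v) (Additive.toMul w)
        simp only [B]
        rw [mul_inv_cancel_left])
      (fun u v w => by
        refine Additive.toMul.injective ?_
        obtain ⟨x, hx⟩ := QuotientGroup.mk'_surjective H₀ (Additive.toMul u)
        obtain ⟨y, hy⟩ := QuotientGroup.mk'_surjective H₀ (Additive.toMul v)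
        obtain ⟨z, hz⟩ := QuotientGroup.mk'_surjective H₀ (Additive.toMul w)
        show B (Additive.toMul u * Additive.toMul v) (Additive.toMul w) = B (Additive.toMul u) (Additive.toMul w) * B (Additive.toMul v) (Additive.toMul w)
        rw [← hx, ← hy, ← hz, ← map_mul]
        show B ((x * y : H) : H ⧸ H₀) z = B x z * B y z
        rw [hBq, hBq, hBq, ← map_mul]
        refine congrArg π (Subtype.ext ?_)
        show ⁅(z : G), (x : G) * y⁆ = ⁅(z : G), (x : G)⁆ * ⁅(z : G), (y : G)⁆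
        rw [commutatorElement_mul_right_eq_mul_conj, mul_assoc ⁅(z : G), (x : G)⁆, mul_assoc ⁅(z : G), (x : G)⁆,
          hcc _ _ (x : G), mul_inv_cancel_right])
      (show Nat.card (H ⧸ H₀) = 2 ^ d from hHcard) (show Nat.card W = 2 ^ l from hWc) hdl
    obtain ⟨x, hx⟩ := QuotientGroup.mk'_surjective H₀ (Additive.toMul v)
    refine ⟨x, x.2, fun hxΦ => hv (Additive.toMul.injective ?_), fun _ => ?_⟩
    · rw [← hx]; exact (QuotientGroup.eq_one_iff x).mpr hxΦ
    · have := congrArg Additive.toMul hqv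
      rw [toMul_ofMul, toMul_zero, ← hx] at this
      exact this
  let _ : CommGroup Φ := { (inferInstance : Group Φ) with mul_comm := fun a b => Subtype.ext (hΦc b b.2 a) }
  obtain ⟨f, hf⟩ := IsPGroup.iff_card.mp (hG.to_subgroup Φ)
  obtain ⟨m, hm⟩ := IsPGroup.iff_card.mp (hG.to_subgroup N)
  have hfm : f ≤ m := (Nat.pow_le_pow_iff_right one_lt_two).mp (hf ▸ hm ▸ Subgroup.card_le_of_le hΦN)
  obtain ⟨n, hn⟩ := IsPGroup.iff_card.mp hG
  -- a supplement of `N` meeting it in `Φ`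
  obtain ⟨H, hH⟩ := (Set.toFinite {H : Subgroup G | Φ ≤ H ∧ H ⊓ N ≤ Φ}).exists_maximal ⟨Φ, le_rfl, inf_le_left⟩
  obtain ⟨⟨hΦH, hHN⟩, hHmax⟩ := hH
  have hnΦ : ∀ K : Subgroup G, Φ ≤ K → K.Normal := fun K hK => ⟨fun k hk g => by
    have h2 := mul_mem (hK (hcomm g k)) hk
    rwa [show ⁅g, k⁆ * k = g * k * g⁻¹ by simp only [commutatorElement_def]; group] at h2⟩
  have hHn : H.Normal := hnΦ H hΦH
  have htop : H ⊔ N = ⊤ := by
    rw [eq_top_iff]
    intro x _
    by_contra hx
    have hle : H ⊔ Subgroup.zpowers x ∈ {H : Subgroup G | Φ ≤ H ∧ H ⊓ N ≤ Φ} := by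
      refine ⟨hΦH.trans le_sup_left, fun y hy => ?_⟩
      obtain ⟨a, ha, b, ⟨i, rfl⟩, e⟩ := Subgroup.mem_sup_of_normal_left.mp hy.1
      rcases Int.even_or_odd i with ⟨j, rfl⟩ | ⟨j, rfl⟩
      · refine hHN ⟨?_, hy.2⟩
        rw [← e]
        show a * x ^ (j + j) ∈ H
        rw [← two_mul, zpow_mul]
        exact H.mul_mem ha (zpow_mem (hΦH (by rw [zpow_two, ← pow_two]; exact hsqmem x)) j)
      · exfalso
        refine hx ?_
        have h1 : x ^ (2 * j) ∈ H := by
          rw [zpow_mul]; exact zpow_mem (hΦH (by rw [zpow_two, ← pow_two]; exact hsqmem x)) j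
        have e2 : x = (a * x ^ (2 * j))⁻¹ * y := by
          rw [← e]; show x = (a * x ^ (2 * j))⁻¹ * (a * x ^ (2 * j + 1)); rw [zpow_add_one]; group
        rw [e2]
        exact Subgroup.mul_mem_sup (inv_mem (mul_mem ha h1)) hy.2
    exact hx (Subgroup.mem_sup_left ((hHmax hle le_sup_left) (Subgroup.mem_sup_right (Subgroup.mem_zpowers x))))
  obtain ⟨d, hd⟩ := (hG.to_subgroup H).index (Φ.subgroupOf H)
  have hHcard : Nat.card H = Nat.card Φ * 2 ^ d := by
    rw [← hd, ← (Φ.subgroupOf H).card_mul_index, Nat.card_congr (Subgroup.subgroupOfEquivOfLe hΦH).toEquiv]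
  have hGcard : n = d + m := by
    have h1 := Agent.Grp.card_sup_mul_card_inf_normal (H := N) (N := H)
    rw [sup_comm, htop, Subgroup.card_top, inf_comm, le_antisymm hHN (le_inf hΦH hΦN), hn, hm, hHcard, hf,
      ← pow_add, ← pow_add, ← pow_add] at h1
    have := Nat.pow_right_injective le_rfl h1
    omega
  have hbound : d ≤ 2 * f := by
    by_contra hlt
    obtain ⟨x, hx, hxΦ, hx2⟩ := key H Φ Φ (MonoidHom.id Φ) (fun x _ => hsqmem x) d f hΦH hHcard hf (fun w => Subtype.ext (hΦe w w.2)) (by omega)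
    exact hxΦ (hHN ⟨hx, congrArg Subtype.val (hx2 (hsqmem x))⟩)
  refine ⟨by rw [hn, hm, ← pow_mul]; exact Nat.pow_le_pow_right two_pos (by omega), fun hns => ?_⟩
  rw [hn, hm, ← pow_mul]
  refine Nat.pow_lt_pow_right one_lt_two ?_
  by_contra hge
  obtain rfl : f = m := by omega
  obtain rfl : d = 2 * f := by omega
  have hNΦ : N ≤ Φ := (Subgroup.eq_of_le_of_card_ge hΦN (by rw [hf, hm])).ge
  have hsub : ∀ x : G, x ^ 2 = 1 → x ∈ Φ := fun x hx => hNΦ hx
  have hΦidx : Φ.index = 2 ^ (2 * f) := by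
    have := Φ.card_mul_index
    rw [hf, hn, hGcard, pow_add, mul_comm (2 ^ (2 * f))] at this
    exact Nat.eq_of_mul_eq_mul_left (pow_pos two_pos f) this
  refine hns ⟨hG, le_antisymm (fun z hz => (hΦZ hz).1) ?_, le_antisymm ?_ ?_⟩
  · -- the centre is inside `Φ`
    intro z hz
    by_contra hzΦ
    have hex : ∃ M : Subgroup G, IsCoatom M ∧ z ∉ M := by
      by_contra hall
      push Not at hall
      refine hzΦ ?_
      simp only [hΦdef, frattini, Order.radical, Subgroup.mem_iInf]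
      exact fun M hM => hall M hM
    obtain ⟨M, hM, hzM⟩ := hex
    obtain ⟨hMn, hMi⟩ := Agent.Grp.coatom_index_eq_of_pGroup hG hM
    have hΦM : Φ ≤ M := frattini_le_coatom hM
    have hf1 : 1 ≤ f := by
      by_contra h0
      obtain rfl : f = 0 := by omega
      rw [mul_zero, pow_zero] at hΦidx
      rw [Subgroup.index_eq_one] at hΦidx
      exact hzΦ (le_of_eq hΦidx.symm (Subgroup.mem_top z))
    have hMcard : Nat.card M = Nat.card Φ * 2 ^ (2 * f - 1) := by
      have h1 := M.card_mul_index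
      rw [hMi, ← Φ.card_mul_index, hΦidx, show 2 * f = 2 * f - 1 + 1 by omega, pow_succ, ← mul_assoc] at h1
      exact Nat.eq_of_mul_eq_mul_right two_pos h1
    let Z₀ := Subgroup.zpowers (⟨z ^ 2, hsqmem z⟩ : Φ)
    have hz2 : z ^ 2 ≠ 1 := fun h => hzΦ (hsub z h)
    have hW : Nat.card (Φ ⧸ Z₀) = 2 ^ (f - 1) := by
      have h1 := Z₀.card_mul_index
      rw [Nat.card_zpowers, ← Subgroup.orderOf_coe, orderOf_eq_prime (hΦe _ (hsqmem z)) hz2, hf,
        show f = f - 1 + 1 by omega, pow_succ'] at h1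
      rw [← Subgroup.index_eq_card]
      exact Nat.eq_of_mul_eq_mul_left two_pos h1
    obtain ⟨x, hx, hxΦ, hx2⟩ := key M Φ (Φ ⧸ Z₀) (QuotientGroup.mk' Z₀) (fun x _ => hsqmem x) (2 * f - 1) (f - 1) hΦM hMcard hW
      (fun w => by
        obtain ⟨w, rfl⟩ := QuotientGroup.mk'_surjective Z₀ w
        rw [← map_pow, show w ^ 2 = 1 from Subtype.ext (hΦe w w.2), map_one]) (by omega)
    obtain ⟨i, hi⟩ := (QuotientGroup.eq_one_iff _).mp (hx2 (hsqmem x))
    have hi' : (z ^ 2) ^ i = x ^ 2 := congrArg Subtype.val hi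
    rcases Int.even_or_odd i with ⟨j, rfl⟩ | ⟨j, rfl⟩
    · rw [← two_mul, zpow_mul, zpow_two, ← pow_two, hΦe _ (hsqmem z), one_zpow] at hi'
      exact hxΦ (hsub x hi'.symm)
    · rw [zpow_add_one, zpow_mul, zpow_two, ← pow_two, hΦe _ (hsqmem z), one_zpow, one_mul] at hi'
      have h1 : (x * z) ^ 2 = 1 := by
        rw [Commute.mul_pow (Subgroup.mem_center_iff.mp hz x), ← hi', ← pow_two, hΦe _ (hsqmem z)]
      have h2 := M.mul_mem (M.inv_mem hx) (hΦM (hsub _ h1))
      rw [inv_mul_cancel_left] at h2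
      exact hzM h2
  · rw [commutator_def, Subgroup.commutator_le]
    exact fun a _ b _ => Subgroup.mem_center_iff.mpr fun w => hcc a b w
  · -- the centre is inside the derived group
    by_contra hnot
    obtain ⟨z, hz, hzc⟩ := SetLike.not_le_iff_exists.mp hnot
    have hf1 : 1 ≤ f := by
      by_contra h0
      obtain rfl : f = 0 := by omega
      rw [mul_zero, pow_zero, Subgroup.index_eq_one] at hΦidx
      rw [pow_zero, Subgroup.card_eq_one, hΦidx] at hf
      have hz1 : z = 1 := Subgroup.mem_bot.mp (hf ▸ Subgroup.mem_top z)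
      exact hzc (hz1 ▸ one_mem _)
    have hzΦ : z ∈ Φ := by
      by_contra hzΦ
      have hex : ∃ M : Subgroup G, IsCoatom M ∧ z ∉ M := by
        by_contra hall
        push Not at hall
        refine hzΦ ?_
        simp only [hΦdef, frattini, Order.radical, Subgroup.mem_iInf]
        exact fun M hM => hall M hM
      obtain ⟨M, hM, hzM⟩ := hex
      obtain ⟨hMn, hMi⟩ := Agent.Grp.coatom_index_eq_of_pGroup hG hM
      have hΦM : Φ ≤ M := frattini_le_coatom hM
      have hMcard : Nat.card M = Nat.card Φ * 2 ^ (2 * f - 1) := by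
        have h1 := M.card_mul_index
        rw [hMi, ← Φ.card_mul_index, hΦidx, show 2 * f = 2 * f - 1 + 1 by omega, pow_succ, ← mul_assoc] at h1
        exact Nat.eq_of_mul_eq_mul_right two_pos h1
      let Z₀ := Subgroup.zpowers (⟨z ^ 2, hsqmem z⟩ : Φ)
      have hz2 : z ^ 2 ≠ 1 := fun h => hzΦ (hsub z h)
      have hW : Nat.card (Φ ⧸ Z₀) = 2 ^ (f - 1) := by
        have h1 := Z₀.card_mul_index
        rw [Nat.card_zpowers, ← Subgroup.orderOf_coe, orderOf_eq_prime (hΦe _ (hsqmem z)) hz2, hf,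
          show f = f - 1 + 1 by omega, pow_succ'] at h1
        rw [← Subgroup.index_eq_card]
        exact Nat.eq_of_mul_eq_mul_left two_pos h1
      obtain ⟨x, hx, hxΦ, hx2⟩ := key M Φ (Φ ⧸ Z₀) (QuotientGroup.mk' Z₀) (fun x _ => hsqmem x) (2 * f - 1) (f - 1) hΦM hMcard hW
        (fun w => by
          obtain ⟨w, rfl⟩ := QuotientGroup.mk'_surjective Z₀ w
          rw [← map_pow, show w ^ 2 = 1 from Subtype.ext (hΦe w w.2), map_one]) (by omega)
      obtain ⟨i, hi⟩ := (QuotientGroup.eq_one_iff _).mp (hx2 (hsqmem x))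
      have hi' : (z ^ 2) ^ i = x ^ 2 := congrArg Subtype.val hi
      rcases Int.even_or_odd i with ⟨j, rfl⟩ | ⟨j, rfl⟩
      · rw [← two_mul, zpow_mul, zpow_two, ← pow_two, hΦe _ (hsqmem z), one_zpow] at hi'
        exact hxΦ (hsub x hi'.symm)
      · rw [zpow_add_one, zpow_mul, zpow_two, ← pow_two, hΦe _ (hsqmem z), one_zpow, one_mul] at hi'
        have h1 : (x * z) ^ 2 = 1 := by
          rw [Commute.mul_pow (Subgroup.mem_center_iff.mp hz x), ← hi', ← pow_two, hΦe _ (hsqmem z)]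
        have h2 := M.mul_mem (M.inv_mem hx) (hΦM (hsub _ h1))
        rw [inv_mul_cancel_left] at h2
        exact hzM h2
    -- a hyperplane of `Φ` over the derived group
    let D := (commutator G).subgroupOf Φ
    have hDne : D ≠ ⊤ := fun h => hzc (Subgroup.mem_subgroupOf.mp (h ▸ Subgroup.mem_top (⟨z, hzΦ⟩ : Φ)))
    obtain ⟨K, hK, hDK⟩ := (eq_top_or_exists_le_coatom D).resolve_left hDne
    obtain ⟨hKn, hKi⟩ := Agent.Grp.coatom_index_eq_of_pGroup (hG.to_subgroup Φ) hK
    set K' := K.map Φ.subtype with hK'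
    have hKmem : ∀ x, (h : x ∈ Φ) → (x ∈ K' ↔ (⟨x, h⟩ : Φ) ∈ K) := fun x h =>
      ⟨fun ⟨y, hy, e⟩ => by rwa [show (⟨x, h⟩ : Φ) = y from Subtype.ext e.symm], fun hy => ⟨_, hy, rfl⟩⟩
    let ψ : G →* Φ ⧸ K := MonoidHom.mk' (fun x => QuotientGroup.mk' K ⟨x ^ 2, hsqmem x⟩) fun a b => by
      rw [← map_mul, show (⟨(a * b) ^ 2, hsqmem _⟩ : Φ) = ⟨⁅b, a⁆, hcomm b a⟩ * (⟨a ^ 2, hsqmem a⟩ * ⟨b ^ 2, hsqmem b⟩)
        from Subtype.ext (hmul a b), map_mul, show QuotientGroup.mk' K (⟨⁅b, a⁆, hcomm b a⟩ : Φ) = 1 from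
          (QuotientGroup.eq_one_iff _).mpr (hDK (Subgroup.mem_subgroupOf.mpr
            (Subgroup.commutator_mem_commutator (Subgroup.mem_top b) (Subgroup.mem_top a)))), one_mul]
    set Hs := ψ.ker
    have hΦHs : Φ ≤ Hs := fun x hx => by
      show QuotientGroup.mk' K ⟨x ^ 2, hsqmem x⟩ = 1
      rw [show (⟨x ^ 2, hsqmem x⟩ : Φ) = 1 from Subtype.ext (hΦe x hx), map_one]
    obtain ⟨e, he⟩ := (hG.to_subgroup Hs).index (Φ.subgroupOf Hs)
    have hHsc : Nat.card Hs = Nat.card Φ * 2 ^ e := by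
      rw [← he, ← (Φ.subgroupOf Hs).card_mul_index, Nat.card_congr (Subgroup.subgroupOfEquivOfLe hΦHs).toEquiv]
    have hψr : Nat.card ψ.range ≤ 2 := by
      refine (Subgroup.card_le_card_group _).trans (le_of_eq ?_)
      rw [← Subgroup.index_eq_card, hKi]
    have hlow : 2 * f ≤ e + 1 := by
      refine (Nat.pow_le_pow_iff_right one_lt_two).mp ?_
      rw [← hΦidx]
      refine Nat.le_of_mul_le_mul_left ?_ (Nat.card_pos (α := Φ))
      rw [Φ.card_mul_index, pow_succ, ← mul_assoc, ← hHsc, ← Hs.card_mul_index, Subgroup.index_ker]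
      exact Nat.mul_le_mul_left _ hψr
    have hK'c : Nat.card K' = 2 ^ (f - 1) := by
      rw [hK', Subgroup.card_map_of_injective Φ.subtype_injective]
      have h1 := K.card_mul_index
      rw [hKi, hf, show f = f - 1 + 1 by omega, pow_succ] at h1
      exact Nat.eq_of_mul_eq_mul_right two_pos h1
    let _ : CommGroup K' := { (inferInstance : Group K') with
      mul_comm := fun a b => Subtype.ext (hΦc b (Subgroup.map_subtype_le K b.2) a) }
    obtain ⟨x, hx, hxΦ, hx2⟩ := key Hs K' K' (MonoidHom.id K')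
      (fun x hx => (hKmem _ (hsqmem x)).mpr ((QuotientGroup.eq_one_iff _).mp hx)) e (f - 1) hΦHs hHsc hK'c
      (fun w => Subtype.ext (hΦe _ (Subgroup.map_subtype_le K w.2))) (by omega)
    have h1 := hx2 ((hKmem _ (hsqmem x)).mpr ((QuotientGroup.eq_one_iff _).mp hx))
    exact hxΦ (hsub x (congrArg Subtype.val h1))

end Cfsg.Agent.S3773
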