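import Cfsg.Statements.S3774


set_option autoImplicit false
open Cfsg

namespace Cfsg.Agent.S3774

/-- Let G be a nontrivial finite 2-group whose automorphism group permutes the involutions of G transitively. Then every involution of G is central, so that the involutions together with 1 form the subgroup Ω₁(Z(G)), and if this subgroup has order q then |G| is a power of q. -/
theorem result {G : Type*} [Group G] [Finite G] [Nontrivial G] (hG : IsPGroup 2 G) (htrans : ∀ x y : G, x ≠ 1 → x ^ 2 = 1 → y ≠ 1 → y ^ 2 = 1 → ∃ a : MulAut G, a x = y) : (∀ x : G, x ^ 2 = 1 → x ∈ Subgroup.center G) ∧ ∃ m : ℕ, Nat.card G = Nat.card {z : G // z ^ 2 = 1} ^ m := by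
  classical
  have hcent : ∀ x : G, x ^ 2 = 1 → x ∈ Subgroup.center G := by
    intro x hx
    by_cases h1 : x = 1
    · rw [h1]; exact Subgroup.one_mem _
    haveI := hG.center_nontrivial
    haveI : Fact (Nat.Prime 2) := ⟨Nat.prime_two⟩
    have hd : 2 ∣ Nat.card ↥(Subgroup.center G) := by
      obtain ⟨k, hk⟩ := (hG.to_subgroup (Subgroup.center G)).exists_card_eq
      have : 1 < Nat.card ↥(Subgroup.center G) := Finite.one_lt_card
      rw [hk] at this ⊢
      refine dvd_pow_self 2 fun e => ?_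
      rw [e] at this; omega
    obtain ⟨z, hz⟩ := exists_prime_orderOf_dvd_card' 2 hd
    have hz' : orderOf (z : G) = 2 := by rw [Subgroup.orderOf_coe, hz]
    obtain ⟨a, ha⟩ := htrans (z : G) x (fun e => by rw [e, orderOf_one] at hz'; omega)
      (hz' ▸ pow_orderOf_eq_one (z : G)) h1 hx
    rw [← ha, Subgroup.mem_center_iff]
    intro g
    obtain ⟨w, rfl⟩ := a.surjective g
    rw [← map_mul, ← map_mul, Subgroup.mem_center_iff.mp z.2 w]
  refine ⟨hcent, ?_⟩
  let V : Subgroup G :=
    { carrier := {z | z ^ 2 = 1}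
      one_mem' := one_pow 2
      mul_mem' := fun {a b} ha hb => by
        show (a * b) ^ 2 = 1
        rw [(show Commute a b from (Subgroup.mem_center_iff.mp (hcent b hb) a)).mul_pow, ha, hb, one_mul]
      inv_mem' := fun {a} ha => by show a⁻¹ ^ 2 = 1; rw [inv_pow, ha, inv_one] }
  haveI : Fact (Nat.Prime 2) := ⟨Nat.prime_two⟩
  obtain ⟨n, hn⟩ := (hG.to_subgroup V).exists_card_eq
  obtain ⟨N, hN⟩ := hG.exists_card_eq
  have hVc : Nat.card {z : G // z ^ 2 = 1} = 2 ^ n := hn
  rw [hVc, hN]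
  suffices hd : 2 ^ n - 1 ∣ 2 ^ N - 1 by
    have h1 : n ∣ N := by
      have h := Nat.gcd_eq_left hd
      rw [Nat.pow_sub_one_gcd_pow_sub_one] at h
      have h2 : 2 ^ Nat.gcd n N = 2 ^ n := by
        have := Nat.one_le_two_pow (n := n)
        have := Nat.one_le_two_pow (n := Nat.gcd n N)
        omega
      exact (Nat.pow_right_injective (le_refl 2) h2) ▸ Nat.gcd_dvd_right n N
    obtain ⟨m, rfl⟩ := h1
    exact ⟨m, pow_mul 2 n m⟩
  rw [Nat.dvd_iff_prime_pow_dvd_dvd]
  intro r e hr hre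
  haveI : Fact r.Prime := ⟨hr⟩
  obtain ⟨P⟩ : Nonempty (Sylow r (MulAut G)) := inferInstance
  -- every nontrivial orbit of `P` is divisible by `r ^ e`
  have hinv : ∀ z : G, z ^ 2 = 1 → z ≠ 1 → ∀ H : Subgroup (MulAut G), H ≤ (P : Subgroup (MulAut G)) →
      (∀ a ∈ H, a z = z) → r ^ e ∣ H.relIndex (P : Subgroup (MulAut G)) := by
    intro z hz hz1 H hHP hfix
    have horb : MulAction.orbit (MulAut G) z = {y : G | y ^ 2 = 1 ∧ y ≠ 1} := by
      ext y
      constructor
      · rintro ⟨a, rfl⟩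
        show (a z) ^ 2 = 1 ∧ a z ≠ 1
        exact ⟨by rw [← map_pow, hz, map_one], fun h => hz1 (a.injective (h.trans (map_one a).symm))⟩
      · rintro ⟨hy, hy1⟩
        obtain ⟨a, ha⟩ := htrans z y hz1 hz hy1 hy
        exact ⟨a, ha⟩
    have hidx : (MulAction.stabilizer (MulAut G) z).index = 2 ^ n - 1 := by
      rw [MulAction.index_stabilizer, horb]
      have hV : ({y : G | y ^ 2 = 1 ∧ y ≠ 1} : Set G) = (V : Set G) \ {1} := by
        ext y; exact ⟨fun h => ⟨h.1, h.2⟩, fun h => ⟨h.1, h.2⟩⟩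
      rw [hV, Set.ncard_diff_singleton_of_mem V.one_mem]
      have : (V : Set G).ncard = Nat.card V := rfl
      rw [this, hn]
    have hHs : H ≤ MulAction.stabilizer (MulAut G) z := fun a ha => hfix a ha
    have h1 : 2 ^ n - 1 ∣ H.index := hidx ▸ Subgroup.index_dvd_of_le hHs
    rw [← Subgroup.relIndex_mul_index hHP] at h1
    have h2 : r ^ e ∣ H.relIndex (P : Subgroup (MulAut G)) * (P : Subgroup (MulAut G)).index := hre.trans h1
    exact ((Nat.Prime.coprime_iff_not_dvd hr).mpr P.not_dvd_index).pow_left e |>.dvd_of_dvd_mul_right h2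
  have horbit : ∀ g : G, g ≠ 1 → r ^ e ∣ Nat.card (MulAction.orbit ↥(P : Subgroup (MulAut G)) g) := by
    intro g hg
    obtain ⟨k, hk⟩ := (IsPGroup.iff_orderOf.mp hG) g
    have hk0 : k ≠ 0 := fun h => hg (orderOf_eq_one_iff.mp (by rw [hk, h, pow_zero]))
    set z := g ^ 2 ^ (k - 1) with hz
    have hz2 : z ^ 2 = 1 := by
      rw [hz, ← pow_mul, ← pow_succ, Nat.sub_add_cancel (Nat.one_le_iff_ne_zero.mpr hk0), ← hk, pow_orderOf_eq_one]
    have hz1 : z ≠ 1 := fun h => by
      have := orderOf_dvd_of_pow_eq_one h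
      rw [hk, Nat.pow_dvd_pow_iff_le_right (le_refl 2)] at this
      omega
    set H := (MulAction.stabilizer ↥(P : Subgroup (MulAut G)) g).map (P : Subgroup (MulAut G)).subtype with hH
    have h1 := hinv z hz2 hz1 H (Subgroup.map_subtype_le _) (by
      rintro _ ⟨a, ha, rfl⟩
      have ha' : (a : MulAut G) g = g := ha
      rw [hz, map_pow]
      exact congrArg (· ^ 2 ^ (k - 1)) ha')
    rw [Nat.card_congr (MulAction.orbitEquivQuotientStabilizer ↥(P : Subgroup (MulAut G)) g), ← Subgroup.index_eq_card]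
    rwa [Subgroup.relIndex, hH, Subgroup.subgroupOf, Subgroup.comap_map_eq_self_of_injective (Subgroup.subtype_injective _)] at h1
  have hsum : (r ^ e : ℕ) ∣ Nat.card G - 1 := by
    haveI := Fintype.ofFinite G
    haveI := Fintype.ofFinite (MulAction.orbitRel.Quotient ↥(P : Subgroup (MulAut G)) G)
    have h1 := MulAction.card_eq_sum_card_group_div_card_stabilizer ↥(P : Subgroup (MulAut G)) G
    have e1 : Nat.card G = ∑ ω : MulAction.orbitRel.Quotient ↥(P : Subgroup (MulAut G)) G,
        Nat.card (MulAction.orbit ↥(P : Subgroup (MulAut G)) ω.out) := by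
      rw [Nat.card_congr (MulAction.selfEquivSigmaOrbits ↥(P : Subgroup (MulAut G)) G), Nat.card_sigma]
    set o1 : MulAction.orbitRel.Quotient ↥(P : Subgroup (MulAut G)) G := Quotient.mk'' 1 with ho1
    have hone : o1.out = 1 := by
      have h := Quotient.mk_out' (s₁ := MulAction.orbitRel ↥(P : Subgroup (MulAut G)) G) (1 : G)
      rw [MulAction.orbitRel_apply] at h
      obtain ⟨a, ha⟩ := h
      rw [← ha]
      exact map_one (a : MulAut G)
    have hsing : Nat.card (MulAction.orbit ↥(P : Subgroup (MulAut G)) (1 : G)) = 1 := by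
      have : MulAction.orbit ↥(P : Subgroup (MulAut G)) (1 : G) = {1} := by
        ext y
        refine ⟨?_, fun h => h ▸ MulAction.mem_orbit_self _⟩
        rintro ⟨a, rfl⟩
        exact map_one (a : MulAut G)
      rw [this, Nat.card_eq_fintype_card]; rfl
    rw [e1, ← Finset.add_sum_erase _ _ (Finset.mem_univ o1), hone, hsing, Nat.add_sub_cancel_left]
    refine Finset.dvd_sum fun ω hω => horbit _ fun h => (Finset.mem_erase.mp hω).1 ?_
    rw [ho1, ← Quotient.out_eq' ω, h]
  rwa [hN] at hsum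

end Cfsg.Agent.S3774
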