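import Cfsg.Statements.S3775
import Mathlib
import Cfsg.Agent.Lib.Grp.Basic

set_option autoImplicit false
open Cfsg

namespace Cfsg.Agent.S3775

/-- Let A be a finite abelian p-group and X a group of automorphisms of A of order prime to p. Call a subgroup of A invariant when every element of X maps it onto itself. Then the following are equivalent: (i) A is not the direct product of two nontrivial invariant subgroups; (ii) every invariant subgroup of A is one of the subgroups Ω_i(A) = {a : a^(p^i) = 1}; (iii) the subgroup Ω₁(A) of elements of order dividing p has no invariant subgroups other than 1 and itself. -/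
theorem result {A : Type*} [CommGroup A] [Finite A] {p : ℕ} [Fact p.Prime] (hA : IsPGroup p A) (X : Subgroup (MulAut A)) (hX : (Nat.card X).Coprime p) : ((¬ ∃ B C : Subgroup A, B ≠ ⊥ ∧ C ≠ ⊥ ∧ (∀ x ∈ X, B.map x.toMonoidHom = B) ∧ (∀ x ∈ X, C.map x.toMonoidHom = C) ∧ B ⊓ C = ⊥ ∧ B ⊔ C = ⊤) ↔ (∀ B : Subgroup A, (∀ x ∈ X, B.map x.toMonoidHom = B) → ∃ i : ℕ, ∀ a : A, a ∈ B ↔ a ^ p ^ i = 1)) ∧ ((∀ B : Subgroup A, (∀ x ∈ X, B.map x.toMonoidHom = B) → ∃ i : ℕ, ∀ a : A, a ∈ B ↔ a ^ p ^ i = 1) ↔ (∀ B : Subgroup A, (∀ x ∈ X, B.map x.toMonoidHom = B) → (∀ b ∈ B, b ^ p = 1) → B = ⊥ ∨ ∀ a : A, a ∈ B ↔ a ^ p = 1)) := by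
  classical
  have hp : p.Prime := Fact.out
  have := Fintype.ofFinite X
  -- the three statements
  let II := ∀ B : Subgroup A, (∀ x ∈ X, B.map x.toMonoidHom = B) → ∃ i : ℕ, ∀ a : A, a ∈ B ↔ a ^ p ^ i = 1
  let III := ∀ B : Subgroup A, (∀ x ∈ X, B.map x.toMonoidHom = B) → (∀ b ∈ B, b ^ p = 1) → B = ⊥ ∨ ∀ a : A, a ∈ B ↔ a ^ p = 1
  have invmap : ∀ (f : A →* A), (∀ x ∈ X, ∀ a, f (x a) = x (f a)) → ∀ (B : Subgroup A), (∀ x ∈ X, B.map x.toMonoidHom = B) →
      ∀ x ∈ X, (B.map f).map x.toMonoidHom = B.map f := by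
    intro f hf B hB x hx
    rw [Subgroup.map_map, show x.toMonoidHom.comp f = f.comp x.toMonoidHom from MonoidHom.ext fun a => (hf x hx a).symm,
      ← Subgroup.map_map, hB x hx]
  have h32 : III → II := by
    intro h3
    suffices ∀ n, ∀ B : Subgroup A, Nat.card B = n → (∀ x ∈ X, B.map x.toMonoidHom = B) → ∃ i : ℕ, ∀ a : A, a ∈ B ↔ a ^ p ^ i = 1 from
      fun B hB => this _ B rfl hB
    intro n
    induction n using Nat.strong_induction_on with
    | _ n ih =>
    intro B hn hB
    by_cases hbot : B = ⊥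
    · exact ⟨0, fun a => by rw [hbot, Subgroup.mem_bot, pow_zero, pow_one]⟩
    let pw : A →* A := powMonoidHom p
    let B₁ := B.map pw
    have hB₁ : ∀ x ∈ X, B₁.map x.toMonoidHom = B₁ := invmap pw (fun x _ a => (map_pow x a p).symm) B hB
    have hK : ∀ x ∈ X, (B ⊓ pw.ker).map x.toMonoidHom = B ⊓ pw.ker := by
      intro x hx
      rw [Subgroup.map_inf _ _ _ x.injective, hB x hx]
      congr 1
      ext a
      constructor
      · rintro ⟨b, hb, rfl⟩
        show (x b) ^ p = 1
        rw [← map_pow, show b ^ p = 1 from hb, map_one]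
      · intro ha
        exact ⟨x.symm a, show (x.symm a) ^ p = 1 by rw [← map_pow, show a ^ p = 1 from ha, map_one], x.apply_symm_apply a⟩
    have hne : B ⊓ pw.ker ≠ ⊥ := by
      intro hK0
      obtain ⟨k, hk⟩ := IsPGroup.iff_card.mp (hA.to_subgroup B)
      have hd : p ∣ Nat.card B := by
        rcases k with _ | k
        · exact absurd (Subgroup.card_eq_one.mp (hk.trans (pow_zero p))) hbot
        · rw [hk, pow_succ]; exact dvd_mul_left p _
      obtain ⟨b, hb⟩ := exists_prime_orderOf_dvd_card' p hd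
      have h1 : (b : A) ∈ B ⊓ pw.ker := ⟨b.2, show (b : A) ^ p = 1 by
        rw [← hb, ← Subgroup.orderOf_coe]; exact pow_orderOf_eq_one _⟩
      rw [hK0, Subgroup.mem_bot] at h1
      rw [← Subgroup.orderOf_coe, h1, orderOf_one] at hb
      exact hp.one_lt.ne hb
    have hΩ : ∀ a : A, a ^ p = 1 → a ∈ B := fun a ha => by
      rcases h3 _ hK (fun b hb => hb.2) with h | h
      · exact absurd h hne
      · exact ((h a).mpr ha).1
    have hlt : Nat.card B₁ < n := by
      rw [← hn]
      show Nat.card (B.map pw) < _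
      have h1 := Subgroup.card_mul_index (pw.ker.subgroupOf B)
      rw [← Subgroup.relIndex, Subgroup.relIndex_ker] at h1
      have h2 : 1 < Nat.card (pw.ker.subgroupOf B) := by
        rw [Subgroup.one_lt_card_iff_ne_bot, Ne, Subgroup.subgroupOf_eq_bot, disjoint_iff, inf_comm]
        exact hne
      have hpos : 0 < Nat.card (B.map pw) := Nat.card_pos
      have hcoe : Nat.card (pw '' (B : Set A)) = Nat.card (B.map pw) := rfl
      rw [← h1]
      exact lt_mul_of_one_lt_left hpos h2
    obtain ⟨j, hj⟩ := ih _ hlt B₁ rfl hB₁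
    refine ⟨j + 1, fun a => ⟨fun ha => ?_, fun ha => ?_⟩⟩
    · rw [pow_succ', pow_mul]
      exact (hj _).mp ⟨a, ha, rfl⟩
    · rw [pow_succ', pow_mul] at ha
      obtain ⟨b, hb, hba⟩ := (hj _).mpr ha
      have h1 : (a * b⁻¹) ^ p = 1 := by
        rw [mul_pow, inv_pow, show b ^ p = a ^ p from hba, mul_inv_cancel]
      have := B.mul_mem (hΩ _ h1) hb
      rwa [inv_mul_cancel_right] at this
  have h21 : II → ¬ ∃ B C : Subgroup A, B ≠ ⊥ ∧ C ≠ ⊥ ∧ (∀ x ∈ X, B.map x.toMonoidHom = B) ∧ (∀ x ∈ X, C.map x.toMonoidHom = C) ∧ B ⊓ C = ⊥ ∧ B ⊔ C = ⊤ := by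
    rintro h2 ⟨B, C, hB, hC, hBi, hCi, hBC, -⟩
    obtain ⟨i, hi⟩ := h2 B hBi
    obtain ⟨j, hj⟩ := h2 C hCi
    rcases i with _ | i
    · exact hB ((Subgroup.eq_bot_iff_forall _).mpr fun b hb => by simpa using (hi b).mp hb)
    rcases j with _ | j
    · exact hC ((Subgroup.eq_bot_iff_forall _).mpr fun b hb => by simpa using (hj b).mp hb)
    refine hB ((Subgroup.eq_bot_iff_forall _).mpr fun b hb => ?_)
    by_contra hb1
    obtain ⟨k, hk⟩ := IsPGroup.iff_orderOf.mp hA b
    rcases k with _ | k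
    · exact hb1 (orderOf_eq_one_iff.mp (by rw [hk, pow_zero]))
    have h1 : (b ^ p ^ k) ^ p = 1 := by rw [← pow_mul, ← pow_succ, ← hk, pow_orderOf_eq_one]
    have h2 : b ^ p ^ k ∈ B ⊓ C := ⟨pow_mem hb _, (hj _).mpr (by rw [pow_succ', pow_mul, h1, one_pow])⟩
    rw [hBC, Subgroup.mem_bot] at h2
    have := orderOf_dvd_of_pow_eq_one h2
    rw [hk, pow_succ] at this
    exact absurd (Nat.le_of_dvd (pow_pos hp.pos k) this) (not_le.mpr (lt_mul_of_one_lt_right (pow_pos hp.pos k) hp.one_lt))
  have h23 : II → III := by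
    intro h2 B hBi hB1
    obtain ⟨i, hi⟩ := h2 B hBi
    rcases i with _ | i
    · left; exact (Subgroup.eq_bot_iff_forall _).mpr fun b hb => by simpa using (hi b).mp hb
    · right
      intro a
      exact ⟨hB1 a, fun ha => (hi a).mpr (by rw [pow_succ', pow_mul, ha, one_pow])⟩
  have h13 : (¬ ∃ B C : Subgroup A, B ≠ ⊥ ∧ C ≠ ⊥ ∧ (∀ x ∈ X, B.map x.toMonoidHom = B) ∧ (∀ x ∈ X, C.map x.toMonoidHom = C) ∧ B ⊓ C = ⊥ ∧ B ⊔ C = ⊤) → III := by
    intro h1 B hBi hB1
    by_contra hcon
    rw [not_or] at hcon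
    obtain ⟨hBne, hBΩ⟩ := hcon
    obtain ⟨e, he⟩ := IsPGroup.iff_card.mp hA
    have hexp : ∃ k, (∀ a : A, a ^ p ^ (k + 1) = 1) ∧ ∃ a : A, a ^ p ^ k ≠ 1 := by
      have hex : ∃ k, ∀ a : A, a ^ p ^ k = 1 := ⟨e, fun a => by rw [← he]; exact pow_card_eq_one'⟩
      obtain ⟨b, hb⟩ : ∃ b : A, b ≠ 1 := by
        obtain ⟨b, hb, hb1⟩ : ∃ b ∈ B, b ≠ 1 := by
          by_contra hno
          push Not at hno
          exact hBne ((Subgroup.eq_bot_iff_forall _).mpr hno)
        exact ⟨b, hb1⟩
      have h0 : Nat.find hex ≠ 0 := fun h => hb (by have := Nat.find_spec hex b; rwa [h, pow_zero, pow_one] at this)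
      refine ⟨Nat.find hex - 1, fun a => by rw [Nat.sub_add_cancel (Nat.one_le_iff_ne_zero.mpr h0)]; exact Nat.find_spec hex a, ?_⟩
      have := Nat.find_min hex (show Nat.find hex - 1 < Nat.find hex by omega)
      push Not at this
      exact this
    obtain ⟨e, hee, a₀, ha₀⟩ := hexp
    let pe : A →* A := powMonoidHom (p ^ e)
    let T := pe.range
    let Ω : Subgroup A := (powMonoidHom p : A →* A).ker
    have hTΩ : T ≤ Ω := by
      rintro _ ⟨a, rfl⟩
      show (a ^ p ^ e) ^ p = 1
      rw [← pow_mul, ← pow_succ]; exact hee a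
    have hTi : ∀ x ∈ X, T.map x.toMonoidHom = T := by
      intro x hx
      have := invmap pe (fun x _ a => (map_pow x a (p ^ e)).symm) ⊤ (fun y _ => Subgroup.map_top_of_surjective _ y.surjective) x hx
      rwa [← MonoidHom.range_eq_map] at this
    have hTne : T ≠ ⊥ := fun h => ha₀ (Subgroup.mem_bot.mp (h ▸ (⟨a₀, rfl⟩ : a₀ ^ p ^ e ∈ T)))
    obtain ⟨U, hUT, hUne, hUΩ, hUi⟩ : ∃ U : Subgroup A, U ≤ T ∧ U ≠ ⊥ ∧ (∃ v ∈ Ω, v ∉ U) ∧ ∀ x ∈ X, U.map x.toMonoidHom = U := by
      by_cases hT : ∀ v ∈ Ω, v ∈ T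
      · refine ⟨B, fun b hb => hT b (hB1 b hb), hBne, ?_, hBi⟩
        by_contra hno
        push Not at hno
        exact hBΩ fun a => ⟨hB1 a, fun ha => hno a ha⟩
      · push Not at hT
        exact ⟨T, le_rfl, hTne, hT, hTi⟩
    -- a projection of `Ω` onto `U`
    let V := Additive Ω
    have hV0 : ∀ v : Additive Ω, p • v = 0 := fun v => Additive.toMul.injective (Subtype.ext (show ((Additive.toMul v : Ω) : A) ^ p = 1 from (Additive.toMul v).2))
    let _ : Module (ZMod p) (Additive Ω) := AddCommGroup.zmodModule (n := p) (G := Additive Ω) hV0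
    let US : Submodule (ZMod p) (Additive Ω) :=
      { toAddSubmonoid := (Subgroup.toAddSubgroup (U.subgroupOf Ω)).toAddSubmonoid
        smul_mem' := fun c x hx => by
          rw [← ZMod.natCast_zmod_val c, Nat.cast_smul_eq_nsmul]
          exact (Subgroup.toAddSubgroup (U.subgroupOf Ω)).nsmul_mem hx _ }
    obtain ⟨W, hW⟩ := US.exists_isCompl
    let f₀ : Additive Ω →ₗ[ZMod p] Additive Ω := US.subtype.comp (US.projectionOnto W hW)
    let f : Ω →* A := (Ω.subtype).comp (MonoidHom.toAdditive.symm f₀.toAddMonoidHom)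
    have hf1 : ∀ v : Ω, f v ∈ U := fun v => (US.projectionOnto W hW (Additive.ofMul v)).2
    have hf2 : ∀ v : Ω, (v : A) ∈ U → f v = v := fun v hv => by
      have : US.projectionOnto W hW (Additive.ofMul v) = ⟨Additive.ofMul v, hv⟩ :=
        Submodule.projectionOnto_apply_left hW (⟨Additive.ofMul v, hv⟩ : US)
      show ((Additive.toMul (f₀ (Additive.ofMul v)) : Ω) : A) = _
      simp only [f₀, LinearMap.comp_apply, this]
      rfl
    -- extend it to `A`
    obtain ⟨ι, _, n, hn, ⟨φ⟩⟩ := CommGroup.equiv_prod_multiplicative_zmod_of_finite A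
    let g : ι → A := fun i => φ.symm (Pi.mulSingle i (Multiplicative.ofAdd 1))
    have hgen : ∀ (h h' : A →* A), (∀ i, h (g i) = h' (g i)) → ∀ a, h a = h' a := by
      intro h h' hh a
      have key : ((h.comp φ.symm.toMonoidHom)) = h'.comp φ.symm.toMonoidHom := by
        refine MonoidHom.pi_ext fun i z => ?_
        have hz : z = Multiplicative.ofAdd (1 : ZMod (n i)) ^ (Multiplicative.toAdd z).val := by
          have : NeZero (n i) := ⟨by have := hn i; omega⟩
          rw [← ofAdd_nsmul, nsmul_one, ZMod.natCast_zmod_val, ofAdd_toAdd]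
        rw [hz, MonoidHom.coe_comp, MonoidHom.coe_comp, Function.comp_apply, Function.comp_apply]
        simp only [MulEquiv.coe_toMonoidHom]
        have e1 : (Pi.mulSingle i (Multiplicative.ofAdd (1 : ZMod (n i)) ^ (Multiplicative.toAdd z).val) : ∀ j, Multiplicative (ZMod (n j))) =
            Pi.mulSingle i (Multiplicative.ofAdd 1) ^ (Multiplicative.toAdd z).val := by
          exact map_pow (MonoidHom.mulSingle (fun j => Multiplicative (ZMod (n j))) i) _ _
        rw [e1, map_pow, map_pow, map_pow, hh i]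
      simpa using DFunLike.congr_fun key (φ a)
    have hexi : ∀ i, ∃ c, c < e + 1 ∧ n i = p ^ (c + 1) ∧ g i ^ (n i) = 1 := by
      intro i
      have : NeZero (n i) := ⟨by have := hn i; omega⟩
      have ho : orderOf (g i) = n i := by
        rw [show g i = φ.symm.toMonoidHom.comp (MonoidHom.mulSingle (fun j => Multiplicative (ZMod (n j))) i) (Multiplicative.ofAdd 1) from rfl,
          orderOf_injective _ (φ.symm.injective.comp (Pi.mulSingle_injective i)), orderOf_ofAdd_eq_addOrderOf, ZMod.addOrderOf_one]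
      have hd : n i ∣ p ^ (e + 1) := ho ▸ orderOf_dvd_of_pow_eq_one (hee _)
      obtain ⟨c, hc, hc'⟩ := (Nat.dvd_prime_pow hp).mp hd
      rcases c with _ | c
      · have := hn i; rw [hc', pow_zero] at this; omega
      exact ⟨c, by omega, hc', ho ▸ pow_orderOf_eq_one _⟩
    choose c hc hnc hgn using hexi
    have hω : ∀ i, g i ^ p ^ c i ∈ Ω := fun i => show (g i ^ p ^ c i) ^ p = 1 by rw [← pow_mul, ← pow_succ, ← hnc, hgn]
    choose l hl using fun i => hUT (hf1 ⟨_, hω i⟩)
    have hlift : ∀ i, (l i ^ p ^ (e - c i)) ^ n i = 1 := fun i => by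
      rw [← pow_mul, hnc, ← pow_add, show e - c i + (c i + 1) = e + 1 by have := hc i; omega]; exact hee _
    let π₀ : (∀ i, Multiplicative (ZMod (n i))) →* A :=
      { toFun := fun z => ∏ i, (l i ^ p ^ (e - c i)) ^ (Multiplicative.toAdd (z i)).val
        map_one' := by simp
        map_mul' := fun z w => by
          rw [← Finset.prod_mul_distrib]
          refine Finset.prod_congr rfl fun i _ => ?_
          have : NeZero (n i) := ⟨by have := hn i; omega⟩
          rw [← pow_add, Pi.mul_apply, toAdd_mul, ZMod.val_add, ← pow_eq_pow_mod _ (hlift i)] }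
    let π : A →* A := π₀.comp φ.toMonoidHom
    have hπg : ∀ i, π (g i) = l i ^ p ^ (e - c i) := fun i => by
      show π₀ (φ (φ.symm _)) = _
      rw [MulEquiv.apply_symm_apply]
      show ∏ j, _ = _
      rw [Finset.prod_eq_single i]
      · have : Fact (1 < n i) := ⟨hn i⟩
        rw [Pi.mulSingle_eq_same, toAdd_ofAdd, ZMod.val_one, pow_one]
      · intro j _ hj
        rw [Pi.mulSingle_eq_of_ne hj, toAdd_one, ZMod.val_zero, pow_zero]
      · exact fun h => absurd (Finset.mem_univ i) h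
    -- `π` extends `f`
    have hΩgen : ∀ v : A, v ∈ Ω → v ∈ Subgroup.closure (Set.range fun i => g i ^ p ^ c i) := by
      intro v hv
      have hvp : ∀ i, (p : ℕ) • Multiplicative.toAdd (φ v i) = 0 := fun i => by
        have h1 : φ v ^ p = 1 := by rw [← map_pow, show v ^ p = 1 from hv, map_one]
        have := congrArg Multiplicative.toAdd (congrFun h1 i)
        rwa [Pi.pow_apply, Pi.one_apply, toAdd_pow, toAdd_one] at this
      have hsplit : v = ∏ i, g i ^ (Multiplicative.toAdd (φ v i)).val := by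
        refine φ.injective ?_
        rw [map_prod]
        funext j
        rw [Finset.prod_apply, Finset.prod_eq_single j]
        · have : NeZero (n j) := ⟨by have := hn j; omega⟩
          rw [map_pow, Pi.pow_apply, MulEquiv.apply_symm_apply, Pi.mulSingle_eq_same, ← ofAdd_nsmul, nsmul_one,
            ZMod.natCast_zmod_val, ofAdd_toAdd]
        · intro i _ hi
          rw [map_pow, Pi.pow_apply, MulEquiv.apply_symm_apply, Pi.mulSingle_eq_of_ne hi.symm, one_pow]
        · exact fun h => absurd (Finset.mem_univ j) h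
      rw [hsplit]
      refine prod_mem fun i _ => ?_
      have : NeZero (n i) := ⟨by have := hn i; omega⟩
      have h1 := hvp i
      rw [← ZMod.natCast_zmod_val (Multiplicative.toAdd (φ v i)), nsmul_eq_mul, ← Nat.cast_mul, ZMod.natCast_eq_zero_iff] at h1
      obtain ⟨q, hq⟩ : p ^ c i ∣ (Multiplicative.toAdd (φ v i)).val := by
        refine Nat.dvd_of_mul_dvd_mul_left hp.pos ?_
        rw [← pow_succ', ← hnc]; exact h1
      rw [hq, pow_mul]
      exact pow_mem (Subgroup.subset_closure (Set.mem_range_self (f := fun i => g i ^ p ^ c i) i)) _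
    have hπf : ∀ v : Ω, π v = f v := by
      rintro ⟨v, hv⟩
      suffices ∀ w ∈ Subgroup.closure (Set.range fun i => g i ^ p ^ c i), ∃ hw : w ∈ Ω, π w = f ⟨w, hw⟩ from
        (this v (hΩgen v hv)).2
      intro w hw
      induction hw using Subgroup.closure_induction with
      | mem w hw =>
        obtain ⟨i, rfl⟩ := hw
        refine ⟨hω i, ?_⟩
        show π (g i ^ p ^ c i) = _
        rw [map_pow, hπg, ← pow_mul, ← pow_add, show e - c i + c i = e by have := hc i; omega]
        exact hl i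
      | one => exact ⟨one_mem _, by rw [map_one]; exact (map_one f).symm⟩
      | mul a b _ _ ha hb =>
        obtain ⟨h1, h1'⟩ := ha
        obtain ⟨h2, h2'⟩ := hb
        exact ⟨mul_mem h1 h2, by rw [map_mul, h1', h2', ← map_mul]; rfl⟩
      | inv a _ ha =>
        obtain ⟨h1, h1'⟩ := ha
        exact ⟨inv_mem h1, by rw [map_inv, h1', ← map_inv]; rfl⟩
    -- average and decompose
    let ψ : Monoid.End A :=
      { toFun := fun a => ∏ x : X, (x : MulAut A) (π ((x : MulAut A)⁻¹ a))
        map_one' := by simp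
        map_mul' := fun a b => by rw [← Finset.prod_mul_distrib]; exact Finset.prod_congr rfl fun x _ => by rw [map_mul, map_mul, map_mul] }
    have hψeq : ∀ y ∈ X, ∀ a, ψ (y a) = y (ψ a) := by
      intro y hy a
      show ∏ x : X, _ = y (∏ x : X, _)
      rw [map_prod, ← Equiv.prod_comp (Equiv.mulLeft (⟨y, hy⟩ : X))]
      refine Finset.prod_congr rfl fun x _ => ?_
      show (y * (x : MulAut A)) (π ((y * (x : MulAut A))⁻¹ (y a))) = _
      rw [mul_inv_rev, MulAut.mul_apply, MulAut.mul_apply, MulAut.inv_apply_self]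
    have hΩi : ∀ (x : MulAut A), ∀ a ∈ Ω, x a ∈ Ω := fun x a ha => show (x a) ^ p = 1 by
      rw [← map_pow, show a ^ p = 1 from ha, map_one]
    have hUmem : ∀ x ∈ X, ∀ u ∈ U, (x : MulAut A) u ∈ U := fun x hx u hu => (hUi x hx).le ⟨u, hu, rfl⟩
    have hψU : ∀ u ∈ U, ψ u = u ^ Nat.card X := by
      intro u hu
      show ∏ x : X, (x : MulAut A) (π ((x : MulAut A)⁻¹ u)) = _
      have hx : ∀ x : X, (x : MulAut A) (π ((x : MulAut A)⁻¹ u)) = u := fun x => by
        have h1 : (x : MulAut A)⁻¹ u ∈ U := hUmem _ (X.inv_mem x.2) u hu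
        rw [hπf ⟨_, hTΩ (hUT h1)⟩, hf2 ⟨_, hTΩ (hUT h1)⟩ h1, MulAut.apply_inv_self]
      rw [Finset.prod_congr rfl fun x _ => hx x, Finset.prod_const, Finset.card_univ, Nat.card_eq_fintype_card]
    have hψΩ : ∀ v ∈ Ω, ψ v ∈ U := fun v hv => prod_mem fun x _ => hUmem _ x.2 _ (by
      rw [hπf ⟨_, hΩi _ v hv⟩]; exact hf1 _)
    haveI : Finite (Monoid.End A) := Finite.of_injective (fun (f : Monoid.End A) (a : A) => f a) DFunLike.coe_injective
    obtain ⟨i, j, hij, heq⟩ : ∃ i j : ℕ, i < j ∧ ψ ^ i = ψ ^ j := by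
      obtain ⟨i, j, hne, heq⟩ := Finite.exists_ne_map_eq_of_infinite (fun k : ℕ => ψ ^ k)
      rcases Nat.lt_or_gt_of_ne hne with h | h
      · exact ⟨i, j, h, heq⟩
      · exact ⟨j, i, h, heq.symm⟩
    have hper : ∀ m k, i ≤ m → ψ ^ (m + k * (j - i)) = ψ ^ m := by
      intro m k hm
      induction k with
      | zero => simp
      | succ k ihk =>
        rw [show m + (k + 1) * (j - i) = j + (m - i + k * (j - i)) by rw [add_mul, one_mul]; omega, pow_add, ← heq, ← pow_add,
          show i + (m - i + k * (j - i)) = m + k * (j - i) by omega, ihk]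
    set N := (i + 1) * (j - i) with hN
    have hNi : i + 1 ≤ N := Nat.le_mul_of_pos_right _ (by omega)
    set E : Monoid.End A := ψ ^ N
    have hidem : ∀ a, E (E a) = E a := fun a => by
      have : E * E = E := by
        show ψ ^ N * ψ ^ N = ψ ^ N
        rw [← pow_add]
        exact hper N (i + 1) (by omega)
      exact DFunLike.congr_fun this a
    have hEx : ∀ y ∈ X, ∀ a, E (y a) = y (E a) := by
      intro y hy a
      suffices ∀ k a, (ψ ^ k) (y a) = y ((ψ ^ k) a) from this N a
      intro k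
      induction k with
      | zero => intro a; rfl
      | succ k ihk => intro a; rw [pow_succ']; show ψ ((ψ ^ k) (y a)) = y (ψ ((ψ ^ k) a)); rw [ihk, hψeq y hy]
    let E' : A →* A := E
    refine h1 ⟨MonoidHom.range E', MonoidHom.ker E', ?_, ?_, ?_, ?_, ?_, ?_⟩
    · intro hbot
      obtain ⟨u, hu, hu1⟩ : ∃ u ∈ U, u ≠ 1 := by
        by_contra hno
        push Not at hno
        exact hUne ((Subgroup.eq_bot_iff_forall _).mpr hno)
      have hk : ∀ k, (ψ ^ k) u = u ^ Nat.card X ^ k := by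
        intro k
        induction k with
        | zero => rw [pow_zero, pow_zero, pow_one]; rfl
        | succ k ihk => rw [pow_succ']; show ψ ((ψ ^ k) u) = _; rw [ihk, map_pow, hψU u hu, ← pow_mul, ← pow_succ']
      have h2 : u ^ Nat.card X ^ N = 1 := by
        rw [← hk]; exact Subgroup.mem_bot.mp (hbot ▸ (⟨u, rfl⟩ : E u ∈ MonoidHom.range E'))
      obtain ⟨k, hk'⟩ := IsPGroup.iff_orderOf.mp hA u
      exact hu1 (orderOf_eq_one_iff.mp (Nat.eq_one_of_dvd_coprimes ((hX.pow_left N).symm.pow_left k) hk'.dvd (orderOf_dvd_of_pow_eq_one h2)))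
    · intro hbot
      obtain ⟨v, hv, hvU⟩ := hUΩ
      have hψN : ∀ k, 1 ≤ k → ∀ w ∈ Ω, (ψ ^ k) w ∈ U := by
        intro k hk
        induction k with
        | zero => omega
        | succ k ihk =>
          intro w hw
          rw [pow_succ']; show ψ ((ψ ^ k) w) ∈ U
          rcases Nat.eq_zero_or_pos k with rfl | hk0
          · exact hψΩ w hw
          · exact hψΩ _ (hTΩ (hUT (ihk hk0 w hw)))
      have h2 : (E v)⁻¹ * v ∈ MonoidHom.ker E' := by
        rw [MonoidHom.mem_ker]; show E ((E _)⁻¹ * _) = 1; rw [map_mul, map_inv, hidem, inv_mul_cancel]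
      rw [hbot, Subgroup.mem_bot, inv_mul_eq_one] at h2
      exact hvU (h2 ▸ hψN N (by omega) v hv)
    · intro x hx
      rw [MonoidHom.range_eq_map]
      exact invmap E' hEx ⊤ (fun y _ => Subgroup.map_top_of_surjective _ y.surjective) x hx
    · intro x hx
      ext a
      constructor
      · rintro ⟨b, hb, rfl⟩
        show E (x b) = 1
        rw [hEx x hx, show E b = 1 from hb, map_one]
      · intro ha
        refine ⟨x.symm a, ?_, x.apply_symm_apply a⟩
        show E (x.symm a) = 1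
        refine x.injective ?_
        rw [← hEx x hx, map_one]
        have ha' : E a = 1 := ha
        simpa using ha'
    · rw [eq_bot_iff]
      rintro _ ⟨⟨b, rfl⟩, hb⟩
      exact Subgroup.mem_bot.mpr ((hidem b).symm.trans hb)
    · rw [eq_top_iff]
      intro a _
      have h2 : (E a)⁻¹ * a ∈ MonoidHom.ker E' := by
        rw [MonoidHom.mem_ker]; show E ((E _)⁻¹ * _) = 1; rw [map_mul, map_inv, hidem, inv_mul_cancel]
      have := Subgroup.mul_mem_sup (show E a ∈ MonoidHom.range E' from ⟨a, rfl⟩) h2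
      rwa [mul_inv_cancel_left] at this
  exact ⟨⟨fun h => h32 (h13 h), h21⟩, ⟨h23, h32⟩⟩

end Cfsg.Agent.S3775
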