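import Cfsg.Statements.S3776
import Cfsg.Agent.Lib.Char.SolvTransExists
import Cfsg.Agent.Lib.Grp.Frattini

set_option autoImplicit false
open Cfsg

namespace Cfsg.Agent.S3776

open scoped commutatorElement

/-- Let G be a finite non-abelian 2-group with more than one involution admitting a solvable group of automorphisms that permutes its involutions transitively. Then the derived subgroup, the Frattini subgroup and the centre of G coincide and consist exactly of the elements x with x² = 1. -/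
theorem result {G : Type*} [Group G] [Finite G] (hG : IsPGroup 2 G) (hna : ¬ IsMulCommutative G) (htwo : ∃ x y : G, x ≠ y ∧ x ≠ 1 ∧ x ^ 2 = 1 ∧ y ≠ 1 ∧ y ^ 2 = 1) (hY : ∃ Y : Subgroup (MulAut G), Group.IsSolvable Y ∧ ∀ x y : G, x ≠ 1 → x ^ 2 = 1 → y ≠ 1 → y ^ 2 = 1 → ∃ a ∈ Y, a x = y) : commutator G = frattini G ∧ frattini G = Subgroup.center G ∧ ∀ x : G, x ∈ Subgroup.center G ↔ x ^ 2 = 1 := by
  classical
  haveI : Fact (Nat.Prime 2) := ⟨Nat.prime_two⟩
  obtain ⟨x₁, x₂, h12, h1, h1', h2, h2'⟩ := htwo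
  obtain ⟨Y, hsol, htr⟩ := hY
  obtain ⟨F, _, _, _, K, n, ω, u, S⟩ := Cfsg.Agent.Char.SolvTrans.exists_setting hG
    ⟨x₁, x₂, h12, h1, by rw [← pow_two]; exact h1', h2, by rw [← pow_two]; exact h2'⟩ Y hsol
    fun x y a b c d => htr x y a (by rw [pow_two]; exact b) c (by rw [pow_two]; exact d)
  have hne : ∃ x y : G, x * y ≠ y * x := by
    by_contra h
    push Not at h
    exact hna ⟨⟨h⟩⟩
  have hsq := Cfsg.Agent.Char.SolvTrans.setting_sq_sq S hne
  have hcen : ∀ x : G, x * x ∈ Subgroup.center G := fun x => S.central _ (hsq x)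
  have hmul : ∀ a b : G, a * a = 1 → b * b = 1 → a * b * (a * b) = 1 := fun a b ha hb => by
    rw [← mul_assoc, mul_assoc a b a, Subgroup.mem_center_iff.1 (S.central a ha) b, ← mul_assoc,
      ha, one_mul, hb]
  -- the centre has exponent two
  have hZ : ∀ z ∈ Subgroup.center G, z * z = 1 := by
    intro z hz
    by_contra hz2
    obtain ⟨a, b, hab⟩ := hne
    have hpi : ∀ w ∈ Subgroup.center G, ∀ w' ∈ Subgroup.center G,
        ω (w * w' * (w * w')) = ω (w * w) + ω (w' * w') := by
      intro w hw w' hw'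
      rw [(show Commute w' w from Subgroup.mem_center_iff.1 hw w').mul_mul_mul_comm w w']
      exact S.add _ _ (hsq w) (hsq w')
    have hall : ∀ x : G, x ∈ Subgroup.center G := by
      intro x
      obtain ⟨w, hw, hwx⟩ := Cfsg.Agent.Char.SolvTrans.surj_of_equiv S (Subgroup.center G)
        (fun k w hw => Subgroup.mem_center_iff.2 fun g => by
          obtain ⟨g', rfl⟩ := (k : MulAut G).surjective g
          rw [← map_mul, Subgroup.mem_center_iff.1 hw, map_mul])
        (fun w => ω (w * w)) hpi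
        (fun k w _ => by rw [← map_mul, S.equiv k _ (hsq w)])
        ⟨z, hz, fun h => hz2 ((S.omega_eq_zero (hsq z)).1 h)⟩ (ω (x * x))
      have he : w * w = x * x := S.inj _ _ (hsq w) (hsq x) hwx
      have h3 : x * w⁻¹ * (x * w⁻¹) = 1 := by
        have hc := Subgroup.mem_center_iff.1 (Subgroup.inv_mem _ hw) x
        rw [mul_assoc, ← mul_assoc w⁻¹ x, ← hc, mul_assoc x w⁻¹ w⁻¹, ← mul_assoc, ← he]
        group
      have h4 := Subgroup.mul_mem _ (S.central _ h3) hw
      rwa [inv_mul_cancel_right] at h4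
    exact hab ((Subgroup.mem_center_iff.1 (hall b)) a)
  have hcm : ∀ x y : G, ⁅x, y⁆ * ⁅x, y⁆ = 1 := by
    intro x y
    rw [commutatorElement_def, show x * y * x⁻¹ * y⁻¹ =
      x * y * (x * y) * (y⁻¹ * (x * x)⁻¹ * y) * (y * y)⁻¹ by group]
    refine hmul _ _ (hmul _ _ (hsq _) ?_) ?_
    · rw [show y⁻¹ * (x * x)⁻¹ * y = (x * x)⁻¹ by
          rw [mul_assoc, ← Subgroup.mem_center_iff.1 (Subgroup.inv_mem _ (hcen x)) y,
            inv_mul_cancel_left],
        ← mul_inv_rev, hsq, inv_one]
    · rw [← mul_inv_rev, hsq, inv_one]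
  have hcle : commutator G ≤ Subgroup.center G := by
    rw [commutator_def, Subgroup.commutator_le]
    exact fun x _ y _ => S.central _ (hcm x y)
  have hZle : Subgroup.center G ≤ commutator G := by
    intro z hz
    obtain ⟨a, b, hab⟩ := hne
    obtain ⟨w, hw, hwz⟩ := Cfsg.Agent.Char.SolvTrans.surj_of_equiv S (commutator G)
      (fun k w hw => by
        have hf := (inferInstance : (commutator G).Characteristic).fixed (k : MulAut G)
        rw [← hf] at hw
        exact hw)
      ω (fun w hw w' hw' => S.add _ _ (hZ _ (hcle hw)) (hZ _ (hcle hw')))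
      (fun k w hw => S.equiv k _ (hZ _ (hcle hw)))
      ⟨⁅a, b⁆, Subgroup.commutator_mem_commutator (Subgroup.mem_top a) (Subgroup.mem_top b), fun h =>
        hab (commutatorElement_eq_one_iff_mul_comm.1 ((S.omega_eq_zero (hcm a b)).1 h))⟩ (ω z)
    rwa [← S.inj _ _ (hZ _ (hcle hw)) (hZ z hz) hwz]
  have hΦle : frattini G ≤ Subgroup.center G := Cfsg.Agent.Grp.frattini_le_of_elementary Nat.prime_two hcle
    fun x => by rw [pow_two]; exact hcen x
  have hcΦ := Cfsg.Agent.Grp.pGroup_commutator_le_frattini hG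
  have hcZ : commutator G = Subgroup.center G := le_antisymm hcle hZle
  have hΦZ : frattini G = Subgroup.center G := le_antisymm hΦle (hcZ ▸ hcΦ)
  refine ⟨hcZ.trans hΦZ.symm, hΦZ, fun x => ⟨fun hx => ?_, fun hx => ?_⟩⟩
  · rw [pow_two]; exact hZ x hx
  · exact S.central x (by rw [← pow_two]; exact hx)

end Cfsg.Agent.S3776
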