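import Cfsg.Statements.S3780
import Mathlib
import Cfsg.Agent.Lib.Grp.Frattini

set_option autoImplicit false
open Cfsg

namespace Cfsg.Agent.S3780

/-- Let V be a finite abelian p-group and α an automorphism of V of order p whose fixed-point subgroup has order p^n. Then V can be generated by pn elements: some subset of V with at most pn elements generates V. -/
theorem result {V : Type*} [CommGroup V] [Finite V] {p : ℕ} [Fact p.Prime] (hV : IsPGroup p V) (α : MulAut V) (hα : orderOf α = p) (n : ℕ) (hfix : Nat.card {v : V // α v = v} = p ^ n) : ∃ S : Finset V, S.card ≤ p * n ∧ Subgroup.closure (S : Set V) = ⊤ := by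
  classical
  have hp : p.Prime := Fact.out
  -- kernel of the power map
  let pw : V →* V := powMonoidHom p
  set O := pw.ker with hO
  have hOmem : ∀ v, v ∈ O ↔ v ^ p = 1 := fun v => Iff.rfl
  let δ : O →* O := MonoidHom.mk' (fun v => ⟨α v / v, by
      rw [hOmem, div_pow, ← map_pow, (hOmem v).mp v.2, map_one, div_one]⟩) fun a b => Subtype.ext (by
    show α ((a : V) * b) / (a * b) = α a / a * (α b / b)
    rw [map_mul, mul_div_mul_comm])
  let A : Additive O →+ Additive O := MonoidHom.toAdditive δ
  -- the nilpotency of α - 1 in characteristic p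
  have hz20 : ∀ v : (Additive O), p • v = 0 := fun v => by
    refine Additive.toMul.injective (Subtype.ext ?_)
    rw [toMul_nsmul, toMul_zero]
    exact (hOmem _).mp (Additive.toMul v).2
  let _ : Module (ZMod p) (Additive O) := AddCommGroup.zmodModule (n := p) (G := Additive O) hz20
  let aut : O →* O := MonoidHom.mk' (fun v => ⟨α v, by rw [hOmem, ← map_pow, (hOmem v).mp v.2, map_one]⟩)
    fun a b => Subtype.ext (map_mul α (a : V) b)
  let F : Module.End (ZMod p) (Additive O) := (MonoidHom.toAdditive aut).toZModLinearMap p
  have hF : ∀ k : ℕ, ∀ v : (Additive O), ((Additive.toMul ((F ^ k) v) : O) : V) = (α ^ k) ((Additive.toMul v : O) : V) := by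
    intro k
    induction k with
    | zero => intro v; rfl
    | succ k ih =>
      intro v
      rw [pow_succ', Module.End.mul_apply, pow_succ', MulAut.mul_apply, ← ih]
      rfl
  have hFp : F ^ p = 1 := by
    refine LinearMap.ext fun v => Additive.toMul.injective (Subtype.ext ?_)
    rw [hF, show α ^ p = 1 from (by have := pow_orderOf_eq_one α; rwa [hα] at this)]
    rfl
  have hnil : (F - 1) ^ p = 0 := by
    by_cases hM : Subsingleton (Additive O)
    · exact Subsingleton.elim _ _
    · have : Nontrivial (Additive O) := not_subsingleton_iff_nontrivial.mp hM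
      haveI : CharP (Module.End (ZMod p) (Additive O)) p :=
        charP_of_injective_algebraMap (algebraMap (ZMod p) (Module.End (ZMod p) (Additive O))).injective p
      rw [sub_pow_char_of_commute p (Commute.one_right F), hFp, one_pow, sub_self]
  set K := LinearMap.ker (F - 1) with hK
  have hKcard : Nat.card K ≤ p ^ n := by
    rw [← hfix]
    refine Nat.card_le_card_of_injective (fun v : K => (⟨((Additive.toMul (v : (Additive O)) : O) : V), ?_⟩ : {v : V // α v = v})) ?_
    · have := LinearMap.mem_ker.mp v.2
      rw [LinearMap.sub_apply, sub_eq_zero, Module.End.one_apply] at this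
      exact congrArg (fun w : (Additive O) => ((Additive.toMul w : O) : V)) this
    · intro a b h
      have h' := congrArg Subtype.val h
      exact Subtype.ext (Additive.toMul.injective (Subtype.ext h'))
  have hker : ∀ k : ℕ, Nat.card (LinearMap.ker ((F - 1) ^ k)) ≤ p ^ (k * n) := by
    intro k
    induction k with
    | zero =>
      have : LinearMap.ker ((F - 1) ^ 0) = ⊥ := by rw [pow_zero]; exact LinearMap.ker_id
      rw [this]; simp
    | succ k ih =>
      set L := LinearMap.ker ((F - 1) ^ (k + 1))
      let φ : L →ₗ[ZMod p] LinearMap.ker ((F - 1) ^ k) :=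
        ((F - 1).comp L.subtype).codRestrict _ fun v => by
          rw [LinearMap.mem_ker, LinearMap.comp_apply, ← Module.End.mul_apply, ← pow_succ]
          exact v.2
      have h1 : Nat.card L = Nat.card (LinearMap.ker φ) * Nat.card (L ⧸ LinearMap.ker φ) :=
        Submodule.card_eq_card_quotient_mul_card (LinearMap.ker φ)
      have h2 : Nat.card (L ⧸ LinearMap.ker φ) ≤ p ^ (k * n) :=
        (Nat.card_le_card_of_injective _ φ.quotKerEquivRange.injective).trans
          ((Nat.card_le_card_of_injective _ Subtype.val_injective).trans ih)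
      have h3 : Nat.card (LinearMap.ker φ) ≤ p ^ n := by
        refine le_trans (Nat.card_le_card_of_injective (fun v => (⟨((v : L) : (Additive O)), ?_⟩ : K)) ?_) hKcard
        · have := congrArg Subtype.val (LinearMap.mem_ker.mp v.2)
          exact LinearMap.mem_ker.mpr this
        · intro a b h
          simp only [Subtype.mk.injEq] at h
          exact Subtype.ext (Subtype.ext h)
      rw [h1, show (k + 1) * n = n + k * n by ring, pow_add]
      exact Nat.mul_le_mul h3 h2
  have hOcard : Nat.card O ≤ p ^ (p * n) := by
    have := hker p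
    rw [hnil, LinearMap.ker_zero, Nat.card_congr Submodule.topEquiv.toEquiv] at this
    exact this
  -- generators modulo p-th powers
  set R := pw.range
  have hRcard : Nat.card (V ⧸ R) = Nat.card O := by
    have h1 := R.card_mul_index
    have h2 := O.card_mul_index
    rw [Subgroup.index_ker pw, ← h1, mul_comm] at h2
    exact (Nat.eq_of_mul_eq_mul_left Nat.card_pos h2).symm
  have hz86 : ∀ v : (Additive (V ⧸ R)), p • v = 0 := fun v => by
    refine Additive.toMul.injective ?_
    rw [toMul_nsmul, toMul_zero]
    obtain ⟨x, hx⟩ := QuotientGroup.mk'_surjective R (Additive.toMul v)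
    rw [← hx, ← map_pow]
    exact (QuotientGroup.eq_one_iff _).mpr ⟨x, rfl⟩
  let _ : Module (ZMod p) (Additive (V ⧸ R)) := AddCommGroup.zmodModule (n := p) (G := Additive (V ⧸ R)) hz86
  set W := Additive (V ⧸ R)
  have hdim : Module.finrank (ZMod p) W ≤ p * n := by
    have h1 := Module.natCard_eq_pow_finrank (K := ZMod p) (V := W)
    rw [show Nat.card W = Nat.card (V ⧸ R) from rfl, hRcard, Nat.card_zmod] at h1
    exact (Nat.pow_le_pow_iff_right hp.one_lt).mp (h1 ▸ hOcard)
  let b := Module.finBasis (ZMod p) W
  let g : Fin (Module.finrank (ZMod p) W) → V := fun i => Function.surjInv (QuotientGroup.mk'_surjective R) (Additive.toMul (b i))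
  refine ⟨Finset.univ.image g, Finset.card_image_le.trans (by simpa using hdim), ?_⟩
  set S := Subgroup.closure ((Finset.univ.image g : Finset V) : Set V)
  have hmap : ∀ w : W, Additive.toMul w ∈ S.map (QuotientGroup.mk' R) := by
    intro w
    rw [← b.sum_repr w]
    rw [toMul_sum]
    refine prod_mem fun i _ => ?_
    rw [← ZMod.natCast_zmod_val (b.repr w i), Nat.cast_smul_eq_nsmul, toMul_nsmul]
    refine Subgroup.pow_mem (S.map (QuotientGroup.mk' R)) ⟨g i, Subgroup.subset_closure (by simp), ?_⟩ _
    exact Function.surjInv_eq (QuotientGroup.mk'_surjective R) _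
  have hsup : S ⊔ R = ⊤ := by
    rw [eq_top_iff]
    intro x _
    obtain ⟨y, hy, hyx⟩ := hmap (Additive.ofMul (QuotientGroup.mk' R x))
    have h1 : y⁻¹ * x ∈ R := QuotientGroup.eq.mp hyx
    have := Subgroup.mul_mem_sup hy h1
    rwa [mul_inv_cancel_left] at this
  refine frattini_nongenerating (eq_top_iff.mpr ?_)
  rw [← hsup]
  refine sup_le_sup_left ?_ S
  rintro _ ⟨x, rfl⟩
  exact Agent.Grp.pGroup_pow_mem_frattini hV x

end Cfsg.Agent.S3780
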