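import Cfsg.Statements.S3781
import Mathlib
import Cfsg.Agent.Lib.Grp.Basic

set_option autoImplicit false
open Cfsg
open scoped commutatorElement

namespace Cfsg.Agent.S3781

/-- Let G be a finite p-group and n ≥ 1, and write γ_1(G) = G, γ_{k+1}(G) = [γ_k(G), G], and likewise γ_k(N) for a subgroup N. Let N be a normal subgroup of G contained in γ_n(G). If i > 1 and γ_{i+1}(N) ≠ 1, then |γ_i(N) : γ_{i+1}(N)| ≥ p^n. -/
theorem result {G : Type*} [Group G] [Finite G] {p : ℕ} [Fact p.Prime] (hG : IsPGroup p G) (n : ℕ) (hn : 1 ≤ n) (N : Subgroup G) [N.Normal] (hN : N ≤ (⊤ : Subgroup G).lowerCentralSeries (n - 1)) (i : ℕ) (hi : 1 < i) (hne : N.lowerCentralSeries i ≠ ⊥) : p ^ n ≤ (N.lowerCentralSeries i).relIndex (N.lowerCentralSeries (i - 1)) := by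
  classical
  have hp : p.Prime := Fact.out
  have : Group.IsNilpotent G := hG.isNilpotent
  have hnor : ∀ j, (N.lowerCentralSeries j).Normal := by
    intro j
    induction j with
    | zero => rw [Subgroup.lowerCentralSeries_zero]; infer_instance
    | succ j ih => rw [Subgroup.lowerCentralSeries_succ]; infer_instance
  have hnG : ∀ j, ((⊤ : Subgroup G).lowerCentralSeries j).Normal := fun j => inferInstance
  have hsup : ∀ A B : Subgroup G, A.Normal → B.Normal → ⁅A ⊔ B, (⊤ : Subgroup G)⁆ ≤ ⁅A, ⊤⁆ ⊔ B := by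
    intro A B hA hB
    rw [Subgroup.commutator_le]
    intro x hx g _
    obtain ⟨a, ha, b, hb, rfl⟩ := Subgroup.mem_sup_of_normal_right.mp hx
    rw [commutatorElement_mul_left_eq_conj_mul]
    have h1 : a * ⁅b, g⁆ * a⁻¹ ∈ B := hB.conj_mem _ (by
      rw [commutatorElement_def, mul_assoc b g, mul_assoc b]
      exact mul_mem hb (hB.conj_mem _ (inv_mem hb) g)) a
    exact mul_mem (Subgroup.mem_sup_right h1) (Subgroup.mem_sup_left (Subgroup.commutator_mem_commutator ha (Subgroup.mem_top g)))
  obtain ⟨c, hc⟩ := Subgroup.nilpotent_iff_lowerCentralSeries.mp (inferInstance : Group.IsNilpotent G)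
  have hstab : ∀ X Y : Subgroup G, X.Normal → Y.Normal → X ≤ ⁅X, (⊤ : Subgroup G)⁆ ⊔ Y → X ≤ Y := by
    intro X Y hX hY hle
    suffices h : ∀ k, ∃ T : Subgroup G, T.Normal ∧ T ≤ (⊤ : Subgroup G).lowerCentralSeries k ∧ X ≤ T ⊔ Y by
      obtain ⟨T, -, hT, hXT⟩ := h c
      rw [hc, le_bot_iff] at hT
      rwa [hT, bot_sup_eq] at hXT
    intro k
    induction k with
    | zero => exact ⟨X, hX, le_top, le_sup_left⟩
    | succ k ih =>
      obtain ⟨T, hTn, hT, hXT⟩ := ih
      refine ⟨⁅T, ⊤⁆, inferInstance, Subgroup.commutator_mono hT le_rfl, hle.trans ?_⟩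
      exact sup_le ((Subgroup.commutator_mono hXT le_rfl).trans (hsup T Y hTn hY)) le_sup_right
  set Li := N.lowerCentralSeries i with hLi
  set L0 := N.lowerCentralSeries (i - 1) with hL0
  have hLi0 : Li ≤ L0 := N.lowerCentralSeries_antitone (Nat.sub_le i 1)
  have := hnor i
  have := hnor (i - 1)
  let L : ℕ → Subgroup G := fun j => Nat.rec (motive := fun _ => Subgroup G) L0 (fun _ X => ⁅X, (⊤ : Subgroup G)⁆ ⊔ Li) j
  have hL : ∀ j, (L j).Normal ∧ Li ≤ L j ∧ L (j + 1) ≤ L j := by
    intro j
    induction j with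
    | zero => exact ⟨hnor _, hLi0, sup_le (Subgroup.commutator_le_left L0 ⊤) hLi0⟩
    | succ j ih =>
      have := ih.1
      have h1 : (L (j + 1)).Normal := Subgroup.sup_normal ⁅L j, ⊤⁆ Li
      exact ⟨h1, le_sup_right, sup_le (Subgroup.commutator_le_left (L (j + 1)) ⊤) le_sup_right⟩
  by_contra hlt
  rw [not_le] at hlt
  have hchain : ∀ j, ¬ L j ≤ Li → p ^ j * Nat.card (L j) ≤ Nat.card L0 := by
    intro j
    induction j with
    | zero => intro _; rw [pow_zero, one_mul]; exact le_rfl
    | succ j ih =>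
      intro hj
      have hj' : ¬ L j ≤ Li := fun h => hj ((hL j).2.2.trans h)
      have hne : L (j + 1) ≠ L j := fun h => hj' (hstab _ _ (hL j).1 (hnor i) h.ge)
      obtain ⟨a, ha⟩ := IsPGroup.iff_card.mp (hG.to_subgroup (L (j + 1)))
      obtain ⟨b, hb⟩ := IsPGroup.iff_card.mp (hG.to_subgroup (L j))
      have hlt' : a < b := by
        refine (Nat.pow_lt_pow_iff_right hp.one_lt).mp ?_
        rw [← ha, ← hb]
        exact lt_of_le_of_ne (Subgroup.card_le_of_le (hL j).2.2) fun h => hne (Subgroup.eq_of_le_of_card_ge (hL j).2.2 h.ge)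
      refine le_trans ?_ (ih hj')
      rw [ha, hb, ← pow_add, ← pow_add]
      exact Nat.pow_le_pow_right hp.pos (by omega)
  have hlast : L (n - 1) ≤ Li := by
    by_contra hj
    have h1 := hchain _ hj
    have hne : Li ≠ L (n - 1) := fun h => hj h.ge
    obtain ⟨a, ha⟩ := IsPGroup.iff_card.mp (hG.to_subgroup Li)
    obtain ⟨b, hb⟩ := IsPGroup.iff_card.mp (hG.to_subgroup (L (n - 1)))
    have hlt' : a < b := by
      refine (Nat.pow_lt_pow_iff_right hp.one_lt).mp ?_
      rw [← ha, ← hb]
      exact lt_of_le_of_ne (Subgroup.card_le_of_le (hL _).2.1) fun h => hne (Subgroup.eq_of_le_of_card_ge (hL _).2.1 h.ge)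
    have h2 : Li.relIndex L0 * Nat.card Li = Nat.card L0 := by
      rw [Subgroup.relIndex, mul_comm, ← Nat.card_congr (Subgroup.subgroupOfEquivOfLe hLi0).toEquiv, Subgroup.card_mul_index]
    have h3 : p ^ n * Nat.card Li ≤ Nat.card L0 := by
      refine le_trans ?_ h1
      rw [ha, hb, ← pow_add, ← pow_add]
      exact Nat.pow_le_pow_right hp.pos (by omega)
    rw [← h2] at h3
    exact absurd (Nat.le_of_mul_le_mul_right h3 Nat.card_pos) (not_le.mpr hlt)
  set Li1 := N.lowerCentralSeries (i + 1)
  set W := ⁅Li, (⊤ : Subgroup G)⁆ ⊔ Li1 with hW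
  have := hnor (i + 1)
  have hWn : W.Normal := Subgroup.sup_normal _ _
  have hdesc : ∀ k j, j + k + 1 = n → ⁅L j, (⊤ : Subgroup G).lowerCentralSeries k⁆ ≤ W := by
    intro k
    induction k with
    | zero =>
      intro j hj
      have e : L j ≤ Li := by rw [show j = n - 1 by omega]; exact hlast
      exact (Subgroup.commutator_mono e le_rfl).trans le_sup_left
    | succ k ih =>
      intro j hj
      set C := (⊤ : Subgroup G).lowerCentralSeries k
      have h1 : ⁅⁅L j, (⊤ : Subgroup G)⁆, C⁆ ≤ W := (Subgroup.commutator_mono le_sup_left le_rfl).trans (ih (j + 1) (by omega))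
      have h2 : ⁅L j, C⁆ ≤ Li := by
        have key : ∀ k j, ⁅L j, (⊤ : Subgroup G).lowerCentralSeries k⁆ ≤ L (j + k + 1) := by
          intro k
          induction k with
          | zero => intro j; exact le_sup_left
          | succ k ih' =>
            intro j
            have hn' := (hL (j + (k + 1) + 1)).1
            set C' := (⊤ : Subgroup G).lowerCentralSeries k
            have a1 : ⁅⁅L j, (⊤ : Subgroup G)⁆, C'⁆ ≤ L (j + (k + 1) + 1) := by
              rw [show j + (k + 1) + 1 = j + 1 + k + 1 by omega]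
              exact (Subgroup.commutator_mono le_sup_left le_rfl).trans (ih' (j + 1))
            have a2 : ⁅⁅C', L j⁆, (⊤ : Subgroup G)⁆ ≤ L (j + (k + 1) + 1) := by
              rw [Subgroup.commutator_comm C', show j + (k + 1) + 1 = j + k + 1 + 1 by omega]
              exact (Subgroup.commutator_mono (ih' j) le_rfl).trans le_sup_left
            rw [Subgroup.commutator_comm]
            set π := QuotientGroup.mk' (L (j + (k + 1) + 1))
            have hq : ∀ Z : Subgroup G, Z ≤ L (j + (k + 1) + 1) ↔ Z.map π = ⊥ := fun Z => by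
              rw [Subgroup.map_eq_bot_iff, QuotientGroup.ker_mk']
            rw [hq, Subgroup.map_commutator, Subgroup.map_commutator] at a1 a2
            rw [Subgroup.lowerCentralSeries_succ, hq, Subgroup.map_commutator, Subgroup.map_commutator]
            refine Subgroup.commutator_commutator_eq_bot_of_rotate ?_ (by rw [Subgroup.commutator_comm (Subgroup.map π (L j))]; exact a2)
            rw [Subgroup.commutator_comm (Subgroup.map π ⊤)]
            exact a1
        exact (key k j).trans (by rw [show j + k + 1 = n - 1 by omega]; exact hlast)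
      have h3 : ⁅⁅C, L j⁆, (⊤ : Subgroup G)⁆ ≤ W := by
        rw [Subgroup.commutator_comm C]
        exact (Subgroup.commutator_mono h2 le_rfl).trans le_sup_left
      rw [Subgroup.commutator_comm]
      set π := QuotientGroup.mk' W
      have hq : ∀ Z : Subgroup G, Z ≤ W ↔ Z.map π = ⊥ := fun Z => by
        rw [Subgroup.map_eq_bot_iff, QuotientGroup.ker_mk']
      rw [hq, Subgroup.map_commutator, Subgroup.map_commutator] at h1 h3
      rw [Subgroup.lowerCentralSeries_succ, hq, Subgroup.map_commutator, Subgroup.map_commutator]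
      refine Subgroup.commutator_commutator_eq_bot_of_rotate ?_ (by rw [Subgroup.commutator_comm (Subgroup.map π (L j))]; exact h3)
      rw [Subgroup.commutator_comm (Subgroup.map π ⊤)]
      exact h1
  have hfin : Li ≤ Li1 := by
    refine hstab _ _ (hnor i) (hnor (i + 1)) ?_
    have h1 : Li = ⁅L0, N⁆ := by
      rw [hLi, hL0]
      conv_lhs => rw [show i = i - 1 + 1 by omega]
      rfl
    calc Li = ⁅L0, N⁆ := h1
      _ ≤ ⁅L 0, (⊤ : Subgroup G).lowerCentralSeries (n - 1)⁆ := Subgroup.commutator_mono le_rfl hN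
      _ ≤ W := hdesc (n - 1) 0 (by omega)
  apply hne
  have h1 : Li1 ≤ ⁅Li, (⊤ : Subgroup G)⁆ := by
    show ⁅Li, N⁆ ≤ _
    exact Subgroup.commutator_mono le_rfl le_top
  exact le_bot_iff.mp (hstab Li ⊥ (hnor i) inferInstance ((hfin.trans h1).trans le_sup_left))

end Cfsg.Agent.S3781
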