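import Cfsg.Statements.S3785
import Mathlib
import Cfsg.Agent.Lib.Grp.Solvable
import Cfsg.Agent.Lib.Grp.Cores
import Cfsg.Agent.Lib.Grp.OmegaFixed
import Cfsg.Agent.Lib.Transfer.Elements
-- import your own Cfsg.Agent.* helpers here

set_option autoImplicit false
open Cfsg

namespace Cfsg.Agent.S3785

set_option linter.style.haveILetI false

universe w

variable {G : Type w} [Group G] [Finite G]

theorem mem_pCore_of_mem_fitting {p : ℕ} [Fact p.Prime] {d : G} (hd : d ∈ fittingSubgroup G)
    (hp : ∃ k, orderOf d = p ^ k) : d ∈ pCore p G := by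
  haveI : (fittingSubgroup G).Normal := Grp.fittingSubgroup_isNormal
  haveI : Group.IsNilpotent ↥(fittingSubgroup G) := Grp.fittingSubgroup_isNilpotent
  obtain ⟨k, hk⟩ := hp
  have hP : IsPGroup p (Subgroup.zpowers (⟨d, hd⟩ : fittingSubgroup G)) := by
    rw [IsPGroup.iff_card]
    exact ⟨k, by rw [Nat.card_zpowers, Subgroup.orderOf_mk, hk]⟩
  obtain ⟨P, hle⟩ := hP.exists_le_sylow
  haveI : (P : Subgroup ↥(fittingSubgroup G)).Normal := Grp.isNilpotent_iff_sylow_normal.1 ‹_› p inferInstance P
  haveI : (P : Subgroup ↥(fittingSubgroup G)).Characteristic :=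
    P.characteristic_of_normal inferInstance
  exact Grp.le_pCore (N := (P : Subgroup ↥(fittingSubgroup G)).map (fittingSubgroup G).subtype)
    inferInstance (P.isPGroup'.map _)
    (Subgroup.mem_map_of_mem (fittingSubgroup G).subtype (hle (Subgroup.mem_zpowers (⟨d, hd⟩ : ↥(fittingSubgroup G)))))

theorem main (hG : Group.IsSolvable G) (hodd : Odd (Nat.card (fittingSubgroup G))) (g : G)
    (hg : ∀ x ∈ fittingSubgroup G, (orderOf x).Prime → g * x = x * g) :
    g ∈ fittingSubgroup G := by
  haveI := hG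
  haveI hFn : (fittingSubgroup G).Normal := Grp.fittingSubgroup_isNormal
  set Ω : Set G := {x | x ∈ fittingSubgroup G ∧ (orderOf x).Prime} with hΩ
  set C := Subgroup.centralizer Ω with hC
  have hCn : C.Normal := ⟨fun c hc a x hx => by
    have hx' : a⁻¹ * x * a ∈ Ω := ⟨hFn.conj_mem' x hx.1 a, by
      have h : orderOf (a⁻¹ * x * a) = orderOf x := by
        simpa using orderOf_injective (MulAut.conj a⁻¹).toMonoidHom (MulAut.conj a⁻¹).injective x
      rw [h]; exact hx.2⟩
    calc x * (a * c * a⁻¹) = a * ((a⁻¹ * x * a) * c) * a⁻¹ := by group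
      _ = a * (c * (a⁻¹ * x * a)) * a⁻¹ := by rw [hc _ hx']
      _ = a * c * a⁻¹ * x := by group⟩
  -- coprime elements of C act trivially on O_p
  have hact : ∀ (p : ℕ) [Fact p.Prime], ∀ x ∈ C, (orderOf x).Coprime p →
      ∀ y ∈ pCore p G, y * x = x * y := by
    intro p hp x hx hxp y hy
    by_cases hp2 : p = 2
    · subst hp2
      obtain ⟨k, hk⟩ := IsPGroup.iff_orderOf.1 (Grp.pCore_isPGroup (p := 2) (G := G)) ⟨y, hy⟩
      rw [Subgroup.orderOf_mk] at hk
      have hdvd : orderOf y ∣ Nat.card (fittingSubgroup G) :=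
        Subgroup.orderOf_dvd_natCard _ (Grp.pCore_le_fittingSubgroup hy)
      have hodd' : Odd (orderOf y) := Odd.of_dvd_nat hodd hdvd
      rcases k with _ | k
      · rw [show y = 1 from orderOf_eq_one_iff.1 (by rwa [pow_zero] at hk)]; simp
      · exact absurd hodd' (by rw [hk, Nat.not_odd_iff_even]; exact Nat.even_pow.2 ⟨even_two, by omega⟩)
    · haveI : (pCore p G).Normal := Grp.pCore_isNormal
      let φ : pCore p G ≃* pCore p G := MulAut.conjNormal x
      have hit : ∀ (k : ℕ) (z : pCore p G), (φ : pCore p G → pCore p G)^[k] z = MulAut.conjNormal (x ^ k) z := by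
        intro k
        induction k with
        | zero => simp
        | succ k ih =>
          intro z
          rw [Function.iterate_succ_apply', ih, pow_succ', map_mul]; rfl
      have hfix := Grp.OmegaFix.aut_eq_one hp2 _ (pCore p G) rfl Grp.pCore_isPGroup φ (orderOf x) hxp
        (fun z => by rw [hit, pow_orderOf_eq_one, map_one]; rfl)
        (fun z hz => by
          refine Subtype.ext ?_
          change x * (z : G) * x⁻¹ = z
          rw [mul_inv_eq_iff_eq_mul]
          rcases eq_or_ne (z : G) 1 with h1 | h1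
          · rw [h1]; simp
          refine (hx _ ⟨Grp.pCore_le_fittingSubgroup z.2, ?_⟩).symm
          rw [orderOf_eq_prime (by rw [← Subgroup.coe_pow, hz]; rfl) h1]
          exact hp.out) ⟨y, hy⟩
      have h := congrArg Subtype.val hfix
      change x * y * x⁻¹ = y at h
      exact (mul_inv_eq_iff_eq_mul.1 h).symm
  -- elements of F of order coprime to r commute with r-elements of C
  have hcop : ∀ (r : ℕ) [Fact r.Prime], ∀ y ∈ C, (∃ k, orderOf y = r ^ k) →
      ∀ d ∈ fittingSubgroup G, (orderOf d).Coprime r → d ∈ Subgroup.centralizer ({y} : Set G) := by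
    intro r hr y hy ⟨k, hk⟩ d hd hdr
    refine Transfer.prime_parts d _ fun s hs w hw hwd => ?_
    haveI := Fact.mk hs
    have hwF : w ∈ fittingSubgroup G := Subgroup.zpowers_le.2 hd hwd
    obtain ⟨j, hj⟩ := hw
    rcases j with _ | j
    · rw [show w = 1 from orderOf_eq_one_iff.1 (by rwa [pow_zero] at hj)]; exact one_mem _
    · have hsr : s ≠ r := by
        rintro rfl
        have h1 : s ∣ orderOf d := (hj ▸ dvd_pow_self s j.succ_ne_zero : s ∣ orderOf w).trans
          (by
            have := Subgroup.orderOf_dvd_natCard _ hwd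
            rwa [Nat.card_zpowers] at this)
        exact hs.ne_one (Nat.dvd_one.1 (hdr ▸ Nat.dvd_gcd h1 dvd_rfl))
      rw [Subgroup.mem_centralizer_singleton_iff]
      exact hact s y hy (by rw [hk]; exact Nat.Coprime.pow_left _ ((Nat.coprime_primes hr.out hs).2 hsr.symm))
        w (mem_pCore_of_mem_fitting hwF ⟨_, hj⟩)
  -- coprime prime power elements of C commute
  have hcomm : ∀ (q r : ℕ) [Fact q.Prime] [Fact r.Prime], q ≠ r → ∀ x ∈ C, ∀ y ∈ C,
      (∃ k, orderOf x = q ^ k) → (∃ k, orderOf y = r ^ k) → x * y = y * x := by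
    intro q r hq hr hqr x hx y hy hxo hyo
    have hyo0 := hyo
    obtain ⟨a, ha⟩ := hxo
    obtain ⟨b, hb⟩ := hyo
    set c := x * y * x⁻¹ * y⁻¹ with hc
    -- c centralizes every O_s
    have hcZ : c ∈ Subgroup.centralizer (fittingSubgroup G : Set G) := by
      intro d hd
      have key : d ∈ Subgroup.centralizer ({c} : Set G) := Transfer.prime_parts d _ fun s hs w hw hwd => by
        haveI := Fact.mk hs
        have hwO := mem_pCore_of_mem_fitting (Subgroup.zpowers_le.2 hd hwd) hw
        rw [Subgroup.mem_centralizer_singleton_iff]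
        haveI hn : (pCore s G).Normal := Grp.pCore_isNormal
        by_cases hsq : s = q
        · subst hsq
          have hyc : ∀ z ∈ pCore s G, z * y = y * z := fun z hz => hact s y hy
            (by rw [hb]; exact Nat.Coprime.pow_left _ ((Nat.coprime_primes hr.out hs).2 hqr.symm)) z hz
          have h2 : x⁻¹ * w * x * y = y * (x⁻¹ * w * x) := hyc _ (hn.conj_mem' w hwO x)
          calc w * c = x * ((x⁻¹ * w * x) * y) * x⁻¹ * y⁻¹ := by rw [hc]; group
            _ = x * (y * (x⁻¹ * w * x)) * x⁻¹ * y⁻¹ := by rw [h2]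
            _ = x * y * x⁻¹ * (w * y⁻¹) := by group
            _ = x * y * x⁻¹ * (y⁻¹ * w) := by
                rw [show w * y⁻¹ = y⁻¹ * w from (show Commute w y from hyc w hwO).inv_right.eq]
            _ = c * w := by rw [hc]; group
        · have hxc : ∀ z ∈ pCore s G, z * x = x * z := fun z hz => hact s x hx
            (by rw [ha]; exact Nat.Coprime.pow_left _ ((Nat.coprime_primes hq.out hs).2 (Ne.symm hsq))) z hz
          have hwx : Commute w x := hxc w hwO
          have h2 : Commute (y⁻¹ * w * y) x := hxc _ (hn.conj_mem' w hwO y)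
          have h3 : Commute (y * w * y⁻¹) x := hxc _ (hn.conj_mem w hwO y)
          calc w * c = (w * x) * y * x⁻¹ * y⁻¹ := by rw [hc]; group
            _ = x * y * ((y⁻¹ * w * y) * x⁻¹) * y⁻¹ := by rw [hwx.eq]; group
            _ = x * y * (x⁻¹ * (y⁻¹ * w * y)) * y⁻¹ := by rw [h2.inv_right.eq]
            _ = c * w := by rw [hc]; group
      exact Subgroup.mem_centralizer_singleton_iff.1 key
    have hcF : c ∈ fittingSubgroup G := Grp.centralizer_fittingSubgroup_le hcZ
    -- r'-part of c is trivial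
    obtain ⟨k, n, hn, hkn⟩ : ∃ k n, ¬ r ∣ n ∧ orderOf c = r ^ k * n :=
      Nat.exists_eq_pow_mul_and_not_dvd (orderOf_pos c).ne' r hr.out.ne_one
    have hcy : Commute (c ^ r ^ k) y := by
      have h := hcop r y hy hyo0 (c ^ r ^ k) (pow_mem hcF _) (by
        rw [orderOf_pow, hkn, Nat.gcd_mul_right_left, Nat.mul_div_cancel_left _ (pow_pos hr.out.pos _)]
        exact ((Nat.Prime.coprime_iff_not_dvd hr.out).2 hn).symm)
      exact Subgroup.mem_centralizer_singleton_iff.1 h
    have hcr : (c ^ r ^ k) ^ orderOf y = 1 := by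
      have hcc : ∀ j : ℕ, Commute c (y ^ j * c * (y ^ j)⁻¹) := fun j =>
        (hcZ _ (hFn.conj_mem c hcF (y ^ j))).symm
      have key : ∀ j : ℕ, ((c * y) ^ j * (y ^ j)⁻¹) ^ r ^ k = (c ^ r ^ k) ^ j ∧
          (c * y) ^ j * (y ^ j)⁻¹ ∈ fittingSubgroup G := by
        intro j
        induction j with
        | zero => simp
        | succ j ih =>
          have he : (c * y) ^ (j + 1) * (y ^ (j + 1))⁻¹ =
              c * (y * ((c * y) ^ j * (y ^ j)⁻¹) * y⁻¹) := by
            rw [pow_succ', pow_succ']; group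
          have hmem : y * ((c * y) ^ j * (y ^ j)⁻¹) * y⁻¹ ∈ fittingSubgroup G :=
            hFn.conj_mem _ ih.2 y
          refine ⟨?_, he ▸ mul_mem hcF hmem⟩
          rw [he, Commute.mul_pow (show Commute c _ from (hcZ _ hmem).symm), conj_pow,
            ih.1, (hcy.pow_left j).symm.eq, mul_inv_cancel_right, pow_succ' (c ^ r ^ k)]
      have hxy : c * y = x * y * x⁻¹ := by rw [hc]; group
      have h := (key (orderOf y)).1
      rw [hxy, conj_pow, pow_orderOf_eq_one, mul_one, mul_inv_cancel, inv_one, one_mul, one_pow] at h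
      exact h.symm
    have hn1 : n = 1 := by
      rw [← pow_mul] at hcr
      have h1 := orderOf_dvd_of_pow_eq_one hcr
      rw [hkn, hb] at h1
      have h2 : n ∣ r ^ b := Nat.dvd_of_mul_dvd_mul_left (pow_pos hr.out.pos k) h1
      exact Nat.eq_one_of_dvd_coprimes (Nat.Coprime.pow_left b
        ((Nat.Prime.coprime_iff_not_dvd hr.out).2 hn)) h2 dvd_rfl
    have hcx : Commute c x := hact r x hx
      (by rw [ha]; exact Nat.Coprime.pow_left _ ((Nat.coprime_primes hq.out hr.out).2 hqr))
      c (mem_pCore_of_mem_fitting hcF ⟨k, by rw [hkn, hn1, mul_one]⟩)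
    have hpow : ∀ j : ℕ, x ^ j * y * (x ^ j)⁻¹ = c ^ j * y := by
      intro j
      induction j with
      | zero => simp
      | succ j ih =>
        calc x ^ (j + 1) * y * (x ^ (j + 1))⁻¹ = x * (x ^ j * y * (x ^ j)⁻¹) * x⁻¹ := by
              rw [pow_succ']; group
          _ = (x * c ^ j) * y * x⁻¹ := by rw [ih]; group
          _ = c ^ j * (x * y * x⁻¹) := by rw [← (hcx.pow_left j).eq]; group
          _ = c ^ j * (c * y) := congrArg (c ^ j * ·) (inv_mul_cancel_right (x * y * x⁻¹) y).symm
          _ = _ := by rw [pow_succ]; exact (mul_assoc _ _ _).symm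
    have h := hpow (orderOf x)
    rw [pow_orderOf_eq_one, one_mul, inv_one, mul_one] at h
    have h4 : c ^ orderOf x = 1 := mul_eq_right.1 h.symm
    have h5 : orderOf c ∣ orderOf x := orderOf_dvd_of_pow_eq_one h4
    rw [hkn, hn1, mul_one, ha] at h5
    have h6 : r ^ k = 1 := Nat.eq_one_of_dvd_coprimes
      (Nat.Coprime.pow k a ((Nat.coprime_primes hr.out hq.out).2 hqr.symm)) dvd_rfl h5
    have h7 : c = 1 := orderOf_eq_one_iff.1 (by rw [hkn, hn1, h6])
    calc x * y = c * (y * x) := by rw [hc]; group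
      _ = _ := by rw [h7, one_mul]
  -- C is nilpotent
  have hnil : Group.IsNilpotent C := by
    rw [Grp.isNilpotent_iff_sylow_normal]
    intro p hp P
    rw [← Subgroup.normalizer_eq_top_iff]
    refine Subgroup.eq_top_of_card_eq _ (Nat.dvd_antisymm (Subgroup.card_subgroup_dvd_card _) ?_)
    refine (Nat.dvd_iff_prime_pow_dvd_dvd _ _).mpr fun q k hq hk => ?_
    have := Fact.mk hq
    by_cases hqp : q = p
    · subst hqp
      exact (P.pow_dvd_card_of_pow_dvd_card hk).trans (Subgroup.card_dvd_of_le Subgroup.le_normalizer)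
    obtain ⟨R⟩ : Nonempty (Sylow q C) := Sylow.nonempty
    refine (R.pow_dvd_card_of_pow_dvd_card hk).trans (Subgroup.card_dvd_of_le ?_)
    intro u hu
    refine Subgroup.centralizer_le_normalizer _ ?_
    intro v hv
    obtain ⟨i, hi⟩ := IsPGroup.iff_orderOf.1 R.isPGroup' ⟨u, hu⟩
    obtain ⟨j, hj⟩ := IsPGroup.iff_orderOf.1 P.isPGroup' ⟨v, hv⟩
    rw [Subgroup.orderOf_mk, ← Subgroup.orderOf_coe] at hi hj
    exact Subtype.ext (hcomm p q (Ne.symm hqp) v v.2 u u.2 ⟨j, hj⟩ ⟨i, hi⟩)
  exact Grp.le_fittingSubgroup hCn hnil (fun x hx => (hg x hx.1 hx.2).symm)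

/-- Let G be a finite solvable group whose Fitting subgroup F(G) has odd order. If an element g of G commutes with every element of prime order of F(G), then g ∈ F(G). -/
theorem result {G : Type*} [Group G] [Finite G] (hG : Group.IsSolvable G) (hodd : Odd (Nat.card (Cfsg.fittingSubgroup G))) (g : G) (hg : ∀ x ∈ Cfsg.fittingSubgroup G, (orderOf x).Prime → g * x = x * g) : g ∈ Cfsg.fittingSubgroup G := by
  exact main hG hodd g hg

end Cfsg.Agent.S3785
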