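import Cfsg.Statements.S3787
import Cfsg.Agent.Lib.Grp.HHWreath

set_option autoImplicit false
open Cfsg

namespace Cfsg.Agent.S3787

/-- Let G be a finite p-soluble group, p an odd prime not of the form 2^k + 1, and suppose the wreath product C_p ≀ C_p (of order p^(p+1)) is not involved in a Sylow p-subgroup of G: no section of a Sylow p-subgroup is isomorphic to it. Then G has p-length at most 1. -/
theorem result {G : Type*} [Group G] [Finite G] {p : ℕ} [Fact p.Prime] (hp2 : p ≠ 2) (hnf : (¬ ∃ k : ℕ, p = 2 ^ k + 1)) (hG : Cfsg.IsPSolvable p G) (P : Sylow p G) (hwr : ∀ (W : Type) [Group W] [Finite W], (∃ (B : Subgroup W) (t : W), B.Normal ∧ IsMulCommutative B ∧ (∀ b ∈ B, b ^ p = 1) ∧ Nat.card B = p ^ p ∧ orderOf t = p ∧ t ∉ B ∧ Nat.card W = p ^ (p + 1) ∧ Nat.card ↥(B ⊓ Subgroup.centralizer ({t} : Set W)) = p) → ¬ Cfsg.Involves W ↥(P : Subgroup G)) : Cfsg.PLengthLE p 1 G := by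
  classical
  by_contra hl
  haveI : NeZero p := ⟨(Fact.out : p.Prime).ne_zero⟩
  haveI : Fact (1 < p) := ⟨(Fact.out : p.Prime).one_lt⟩
  let Q := Multiplicative (ZMod p)
  have hQc : Nat.card Q = p := by rw [Nat.card_congr Multiplicative.toAdd, Nat.card_zmod]
  have hQp : ∀ a : Q, a ^ p = 1 := fun a => by
    have h := pow_card_eq_one' (x := a)
    rwa [hQc] at h
  have hmem : ∀ w : Q ≀ᵣ Q, w ∈ (RegularWreathProduct.rightHom : Q ≀ᵣ Q →* Q).ker ↔ w.right = 1 := fun w => Iff.rfl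
  have hpow : ∀ w : Q ≀ᵣ Q, w.right = 1 → ∀ n : ℕ, (w ^ n).left = w.left ^ n ∧ (w ^ n).right = 1 := by
    intro w hw n
    induction n with
    | zero => simp
    | succ n ih => simp [pow_succ, ih.1, ih.2, hw]
  set σ : Q := Multiplicative.ofAdd (1 : ZMod p) with hσ
  have hσ1 : σ ≠ 1 := fun e => one_ne_zero (α := ZMod p) (congrArg Multiplicative.toAdd e)
  refine hwr (Q ≀ᵣ Q) ⟨(RegularWreathProduct.rightHom : Q ≀ᵣ Q →* Q).ker, RegularWreathProduct.inl σ,
    inferInstance, ⟨⟨fun a b => ?_⟩⟩, fun b hb => ?_, ?_, ?_, ?_, ?_, ?_⟩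
    (Cfsg.Agent.Grp.HHP.exists_wreath_section hp2 hnf hG P hl)
  · have ha : (a : Q ≀ᵣ Q).right = 1 := a.2
    have hb : (b : Q ≀ᵣ Q).right = 1 := b.2
    refine Subtype.ext (RegularWreathProduct.ext ?_ (by simp [ha, hb]))
    funext x
    simp [ha, hb, mul_comm]
  · refine RegularWreathProduct.ext ?_ (hpow b hb p).2
    rw [(hpow b hb p).1]
    funext x
    exact hQp _
  · rw [Nat.card_congr (show (RegularWreathProduct.rightHom : Q ≀ᵣ Q →* Q).ker ≃ (Q → Q) from
      { toFun := fun w => (w : Q ≀ᵣ Q).left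
        invFun := fun f => ⟨⟨f, 1⟩, rfl⟩
        left_inv := fun w => Subtype.ext (RegularWreathProduct.ext rfl (w.2 : (w : Q ≀ᵣ Q).right = 1).symm)
        right_inv := fun f => rfl }), Nat.card_fun, hQc]
  · refine orderOf_eq_prime (by rw [← map_pow, hQp, map_one]) fun e => hσ1 ?_
    exact congrArg RegularWreathProduct.right e
  · exact fun h => hσ1 h
  · rw [RegularWreathProduct.card, hQc, pow_succ]
  · rw [Nat.card_congr (show ↥((RegularWreathProduct.rightHom : Q ≀ᵣ Q →* Q).ker ⊓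
        Subgroup.centralizer ({RegularWreathProduct.inl σ} : Set (Q ≀ᵣ Q))) ≃ Q from
      { toFun := fun w => (w : Q ≀ᵣ Q).left 1
        invFun := fun d => ⟨⟨fun _ => d, 1⟩, rfl, Subgroup.mem_centralizer_singleton_iff.mpr
          (RegularWreathProduct.ext (by funext x; simp) (by simp))⟩
        left_inv := fun w => ?_
        right_inv := fun d => rfl }), hQc]
    have hr : (w : Q ≀ᵣ Q).right = 1 := w.2.1
    have hc := Subgroup.mem_centralizer_singleton_iff.mp w.2.2
    have hstep : ∀ x, (w : Q ≀ᵣ Q).left (σ * x) = (w : Q ≀ᵣ Q).left x := fun x => by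
      have e := congrArg (fun u : Q ≀ᵣ Q => u.left (σ * x)) hc
      simpa [hr] using e
    have hn : ∀ n : ℕ, (w : Q ≀ᵣ Q).left (σ ^ n) = (w : Q ≀ᵣ Q).left 1 := by
      intro n
      induction n with
      | zero => simp
      | succ n ih => rw [pow_succ', hstep, ih]
    refine Subtype.ext (RegularWreathProduct.ext (funext fun x => ?_) hr.symm)
    show (w : Q ≀ᵣ Q).left 1 = (w : Q ≀ᵣ Q).left x
    rw [← hn x.toAdd.val, show σ ^ x.toAdd.val = x by rw [hσ, ← ofAdd_nsmul, nsmul_one, ZMod.natCast_zmod_val, ofAdd_toAdd]]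

end Cfsg.Agent.S3787
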