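import Cfsg.Statements.S3794
import Cfsg.Agent.Lib.Recog.FpfFour

set_option autoImplicit false
open Cfsg

namespace Cfsg.Agent.S3794

universe u

open Cfsg.Agent.FpfFour

theorem quot_fpf {G : Type u} [Group G] [Finite G] (σ : MulAut G) (hfpf : ∀ g : G, σ g = g → g = 1)
    (N : Subgroup G) [N.Normal] (hN : ∀ x ∈ N, σ x ∈ N) (τ : MulAut (G ⧸ N))
    (hτ : ∀ g : G, τ (QuotientGroup.mk g) = QuotientGroup.mk (σ g)) :
    ∀ x : G ⧸ N, τ x = x → x = 1 := by
  intro x
  induction x using QuotientGroup.induction_on with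
  | H g =>
    intro h
    rw [hτ] at h
    exact (QuotientGroup.eq_one_iff g).mpr
      (fixed_point_quot σ hfpf N hN g (QuotientGroup.eq.mp h.symm))

theorem commutator_le_ker {G : Type u} [Group G] [Finite G] [Group.IsSolvable G] {V : Type u}
    [AddCommGroup V] [Finite V] [Nontrivial V] {p : ℕ} (hp : p.Prime) (pV : ∀ v : V, p • v = 0)
    (ρ0 : G →* AddMonoid.End V) (S : V ≃+ V) (hS4 : ∀ v, S (S (S (S v))) = v)
    (hSfpf : ∀ v, S v = v → v = 0) (σ : MulAut G) (hσ4 : ∀ g, σ (σ (σ (σ g))) = g)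
    (hfpf : ∀ g : G, σ g = g → g = 1) (hcomp0 : ∀ g v, S (ρ0 g v) = ρ0 (σ g) (S v))
    (hmin : ∀ W : AddSubgroup V, (∀ g : G, ∀ v ∈ W, ρ0 g v ∈ W) → (∀ v ∈ W, S v ∈ W) → W ≠ ⊥ → W = ⊤) :
    commutator G ≤ ρ0.ker := by
  let φ := ρ0.toHomUnits
  have hφ : ∀ x, x ∈ φ.ker ↔ ρ0 x = 1 := fun x => by
    rw [MonoidHom.mem_ker, Units.ext_iff]; rfl
  have hCi : ∀ x ∈ φ.ker, σ x ∈ φ.ker := by
    intro x hx
    rw [hφ] at hx ⊢
    refine DFunLike.ext _ _ fun v => ?_
    obtain ⟨w, rfl⟩ := S.surjective v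
    rw [← hcomp0, hx]; rfl
  let τ : MulAut (G ⧸ φ.ker) := QuotientGroup.congr _ _ σ (map_mem_of_le hCi)
  have hτ : ∀ g : G, τ (QuotientGroup.mk g) = QuotientGroup.mk (σ g) := fun g => rfl
  have hτ4 : ∀ x, τ (τ (τ (τ x))) = x := by
    intro x
    induction x using QuotientGroup.induction_on with
    | H g => rw [hτ, hτ, hτ, hτ, hσ4]
  have hq : ∀ x, τ x = x → x = 1 := quot_fpf σ hfpf φ.ker hCi τ hτ
  let ρ : (G ⧸ φ.ker) →* AddMonoid.End V := (Units.coeHom _).comp (QuotientGroup.kerLift φ)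
  have hρi : Function.Injective ρ := fun a b h =>
    QuotientGroup.kerLift_injective φ (Units.ext h)
  have hl : ∀ g : G, ρ (QuotientGroup.mk g) = ρ0 g := fun g => rfl
  have hc : ∀ x v, S (ρ x v) = ρ (τ x) (S v) := by
    intro x v
    induction x using QuotientGroup.induction_on with
    | H g => rw [hτ, hl, hl]; exact hcomp0 g v
  have hm : ∀ W : AddSubgroup V, (∀ x, ∀ v ∈ W, ρ x v ∈ W) →
      (∀ v ∈ W, S v ∈ W) → W ≠ ⊥ → W = ⊤ :=
    fun W h1 h2 h3 => hmin W (fun g v hv => hl g ▸ h1 (QuotientGroup.mk g) v hv) h2 h3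
  have hab : ∀ a b : G ⧸ φ.ker, a * b = b * a := fun a b =>
    comm_of_irreducible (K := G ⧸ φ.ker) (V := V) hp pV ρ hρi S hS4 hSfpf τ hτ4 hq hc hm a b
  rw [commutator_def, Subgroup.commutator_le]
  intro x _ y _
  rw [MonoidHom.mem_ker, ← hφ, ← QuotientGroup.eq_one_iff, ← QuotientGroup.mk'_apply,
    map_commutatorElement, commutatorElement_eq_one_iff_mul_comm]
  exact hab _ _

theorem aux (n : ℕ) : ∀ (G : Type u) [Group G] [Finite G], Nat.card G = n → Group.IsSolvable G →
    ∀ σ : MulAut G, σ ^ 4 = 1 → (∀ g : G, σ g = g → g = 1) → Group.IsNilpotent (commutator G) := by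
  induction n using Nat.strong_induction_on with
  | _ n ih =>
  intro G _ _ hn hG σ hσ hfpf
  classical
  have hσ4 : ∀ g, σ (σ (σ (σ g))) = g := by
    intro g
    have := DFunLike.congr_fun hσ g
    simpa [pow_succ, MulAut.mul_apply] using this
  rcases subsingleton_or_nontrivial G with hs | hs
  · infer_instance
  obtain ⟨N, ⟨hNn, hNi, hNb⟩, hNmin⟩ :=
    wellFounded_lt.has_min {N : Subgroup G | N.Normal ∧ (∀ x ∈ N, σ x ∈ N) ∧ N ≠ ⊥}
      ⟨⊤, inferInstance, fun _ _ => Subgroup.mem_top _, top_ne_bot⟩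
  haveI := hNn
  haveI := hG
  have hmin' : ∀ M : Subgroup G, M.Normal → (∀ x ∈ M, σ x ∈ M) → M ≤ N → M ≠ ⊥ → M = N :=
    fun M h1 h2 h3 h4 => by
      by_contra h
      exact hNmin M ⟨h1, h2, h4⟩ (lt_of_le_of_ne h3 h)
  have hNab : ⁅N, N⁆ = ⊥ := by
    by_contra h
    refine (Group.IsSolvable.commutator_lt_of_ne_bot hNb).ne
      (hmin' _ inferInstance ?_ (Subgroup.commutator_le_right N N) h)
    intro x hx
    have : (⁅N, N⁆).map σ.toMonoidHom = ⁅N, N⁆ := by
      rw [Subgroup.map_commutator, map_mem_of_le hNi]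
    exact this ▸ Subgroup.mem_map_of_mem σ.toMonoidHom hx
  have hNc : ∀ x ∈ N, ∀ y ∈ N, x * y = y * x := fun x hx y hy =>
    Subgroup.mem_centralizer_iff.mp (Subgroup.commutator_eq_bot_iff_le_centralizer.mp hNab hy) x hx
  letI : CommGroup N :=
    { (inferInstance : Group N) with mul_comm := fun x y => Subtype.ext (hNc x x.2 y y.2) }
  haveI : Nontrivial N := (Subgroup.nontrivial_iff_ne_bot N).mpr hNb
  obtain ⟨p, hp, hpd⟩ := Nat.exists_prime_and_dvd (n := Nat.card N) (Finite.one_lt_card.ne')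
  haveI : Fact p.Prime := ⟨hp⟩
  have helem : ∀ x ∈ N, x ^ p = 1 := by
    let M : Subgroup G :=
      { carrier := {x | x ∈ N ∧ x ^ p = 1}
        one_mem' := ⟨N.one_mem, one_pow p⟩
        mul_mem' := fun {a b} ha hb => ⟨N.mul_mem ha.1 hb.1, by
          rw [(Commute.mul_pow (hNc a ha.1 b hb.1)), ha.2, hb.2, one_mul]⟩
        inv_mem' := fun {a} ha => ⟨N.inv_mem ha.1, by rw [inv_pow, ha.2, inv_one]⟩ }
    have hMn : M.Normal := ⟨fun x hx g => ⟨hNn.conj_mem x hx.1 g, by rw [conj_pow, hx.2]; group⟩⟩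
    have hMi : ∀ x ∈ M, σ x ∈ M := fun x hx => ⟨hNi x hx.1, by rw [← map_pow, hx.2, map_one]⟩
    obtain ⟨x, hx⟩ := exists_prime_orderOf_dvd_card' p hpd
    have hxM : (x : G) ∈ M := ⟨x.2, by rw [← hx, Subgroup.orderOf_coe x |>.symm, pow_orderOf_eq_one]⟩
    have hMb : M ≠ ⊥ := fun h => by
      rw [h, Subgroup.mem_bot] at hxM
      have : x = 1 := Subtype.ext hxM
      rw [this, orderOf_one] at hx
      exact hp.one_lt.ne hx
    have := hmin' M hMn hMi (fun x hx => hx.1) hMb
    exact fun x hx => (this ▸ hx : x ∈ M).2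
  let V := Additive N
  let σN : N ≃* N :=
    MulEquiv.ofBijective ((σ.toMonoidHom.comp N.subtype).codRestrict N fun x => hNi x x.2)
      (Finite.injective_iff_bijective.mp fun a b h => Subtype.ext (σ.injective (congrArg Subtype.val h)))
  let S : V ≃+ V := MulEquiv.toAdditive σN
  have hSv : ∀ v : V, ((Additive.toMul (S v) : N) : G) = σ ((Additive.toMul v : N) : G) := fun v => rfl
  let ρ0 : G →* AddMonoid.End V :=
    { toFun := fun g => MonoidHom.toAdditive (MulAut.conjNormal g : MulAut N).toMonoidHom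
      map_one' := by
        refine DFunLike.ext _ _ fun v => Additive.toMul.injective (Subtype.ext ?_)
        show ((MulAut.conjNormal (1 : G) : MulAut N) (Additive.toMul v) : G) = _
        simp
      map_mul' := fun g h => by
        refine DFunLike.ext _ _ fun v => Additive.toMul.injective (Subtype.ext ?_)
        show ((MulAut.conjNormal (g * h) : MulAut N) (Additive.toMul v) : G) =
          ((MulAut.conjNormal g : MulAut N) ((MulAut.conjNormal h : MulAut N) (Additive.toMul v)) : G)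
        simp [mul_assoc] }
  have hρ0 : ∀ g (v : V), ((Additive.toMul (ρ0 g v) : N) : G) = g * ((Additive.toMul v : N) : G) * g⁻¹ :=
    fun g v => MulAut.conjNormal_apply g _
  have hcomp0 : ∀ g v, S (ρ0 g v) = ρ0 (σ g) (S v) := fun g v => by
    apply Additive.toMul.injective; apply Subtype.ext
    rw [hSv, hρ0, hρ0, hSv, map_mul, map_mul, map_inv]
  let C := ρ0.ker
  have hcC : commutator G ≤ ρ0.ker := by
    refine commutator_le_ker (V := V) hp ?_ ρ0 S ?_ ?_ σ hσ4 hfpf hcomp0 ?_
    · intro v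
      apply Additive.toMul.injective; apply Subtype.ext
      show (((Additive.toMul v : N) ^ p : N) : G) = 1
      push_cast
      exact helem _ (Additive.toMul v).2
    · intro v
      apply Additive.toMul.injective; apply Subtype.ext
      rw [hSv, hSv, hSv, hSv, hσ4]
    · intro v h
      apply Additive.toMul.injective; apply Subtype.ext
      exact hfpf _ (by rw [← hSv, h])
    · intro W hW1 hW2 hW3
      let M : Subgroup G :=
        { carrier := {x | ∃ v ∈ W, ((Additive.toMul v : N) : G) = x}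
          one_mem' := ⟨0, W.zero_mem, rfl⟩
          mul_mem' := by
            rintro a b ⟨v, hv, rfl⟩ ⟨w, hw, rfl⟩; exact ⟨v + w, W.add_mem hv hw, rfl⟩
          inv_mem' := by
            rintro a ⟨v, hv, rfl⟩; exact ⟨-v, W.neg_mem hv, rfl⟩ }
      have hM : M = N := by
        refine hmin' M ⟨?_⟩ ?_ ?_ ?_
        · rintro x ⟨v, hv, rfl⟩ g
          exact ⟨ρ0 g v, hW1 g v hv, hρ0 g v⟩
        · rintro x ⟨v, hv, rfl⟩
          exact ⟨S v, hW2 v hv, hSv v⟩
        · rintro x ⟨v, hv, rfl⟩; exact (Additive.toMul v).2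
        · intro h
          refine hW3 ((AddSubgroup.eq_bot_iff_forall W).mpr fun v hv => ?_)
          have : ((Additive.toMul v : N) : G) ∈ M := ⟨v, hv, rfl⟩
          rw [h, Subgroup.mem_bot] at this
          exact Additive.toMul.injective (Subtype.ext this)
      rw [eq_top_iff]
      intro v _
      obtain ⟨w, hw, hwv⟩ : ((Additive.toMul v : N) : G) ∈ M := SetLike.ext_iff.mp hM _ |>.mpr (Additive.toMul v).2
      exact (Additive.toMul.injective (Subtype.ext hwv) : w = v) ▸ hw
  let τN : MulAut (G ⧸ N) := QuotientGroup.congr N N σ (map_mem_of_le hNi)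
  have hτN : ∀ g : G, τN (QuotientGroup.mk g) = QuotientGroup.mk (σ g) := fun g => rfl
  have hτN4 : τN ^ 4 = 1 := by
    ext x
    induction x using QuotientGroup.induction_on with
    | H g => simp [pow_succ, MulAut.mul_apply, hτN, hσ4]
  have hlt : Nat.card (G ⧸ N) < n := by
    subst hn
    rw [Subgroup.card_eq_card_quotient_mul_card_subgroup N]
    exact lt_mul_of_one_lt_right Nat.card_pos Finite.one_lt_card
  haveI := ih _ hlt (G ⧸ N) rfl inferInstance τN hτN4 (quot_fpf σ hfpf N hNi τN hτN)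
  let f : commutator G →* commutator (G ⧸ N) :=
    ((QuotientGroup.mk' N).comp (commutator G).subtype).codRestrict _ fun x => by
      have : (commutator G).map (QuotientGroup.mk' N) ≤ commutator (G ⧸ N) := by
        rw [commutator_def, commutator_def, Subgroup.map_commutator]
        exact Subgroup.commutator_mono le_top le_top
      exact this (Subgroup.mem_map_of_mem _ x.2)
  refine Subgroup.isNilpotent_of_ker_le_center f ?_
  intro z hz
  have hzN : (z : G) ∈ N := (QuotientGroup.eq_one_iff _).mp (congrArg Subtype.val hz)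
  rw [Subgroup.mem_center_iff]
  intro g
  apply Subtype.ext
  have hg : ρ0 (g : G) = 1 := hcC g.2
  have h := hρ0 (g : G) (Additive.ofMul ⟨(z : G), hzN⟩)
  rw [hg] at h
  change (z : G) = (g : G) * (z : G) * (g : G)⁻¹ at h
  show (g : G) * (z : G) = (z : G) * g
  calc (g : G) * (z : G) = ((g : G) * (z : G) * (g : G)⁻¹) * g := by group
    _ = (z : G) * g := by rw [← h]

/-- Let G be a finite solvable group with an automorphism σ satisfying σ⁴ = 1 and fixing only the identity. Then the derived subgroup G' is nilpotent. -/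
theorem result {G : Type*} [Group G] [Finite G] (hG : Group.IsSolvable G) (σ : MulAut G) (hσ : σ ^ 4 = 1) (hfpf : ∀ g : G, σ g = g → g = 1) : Group.IsNilpotent (commutator G) := by
  exact aux (Nat.card G) G rfl hG σ hσ hfpf

end Cfsg.Agent.S3794
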