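import Cfsg.Statements.S3797
import Cfsg.Agent.Lib.Grp.InvolTransitiveMain
import Cfsg.Agent.Lib.Grp.PSolvable


set_option autoImplicit false
open Cfsg

namespace Cfsg.Agent.S3797

/-- Let G be a finite solvable group of even order whose Sylow 2-subgroups contain more than one involution, and suppose all involutions of G are conjugate. Then G has 2-length at most 1, and a Sylow 2-subgroup S of G is either homocyclic (a direct product of cyclic groups of one common order) or a non-abelian 2-group with more than one involution admitting a solvable group of automorphisms transitive on its involutions. -/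
theorem result {G : Type*} [Group G] [Finite G] (hG : Group.IsSolvable G) (heven : Even (Nat.card G)) (S : Sylow 2 G) (htwo : ∃ x y : G, x ∈ (S : Subgroup G) ∧ y ∈ (S : Subgroup G) ∧ x ≠ y ∧ x ≠ 1 ∧ x ^ 2 = 1 ∧ y ≠ 1 ∧ y ^ 2 = 1) (hconj : ∀ x y : G, x ≠ 1 → x ^ 2 = 1 → y ≠ 1 → y ^ 2 = 1 → IsConj x y) : Cfsg.PLengthLE 2 1 G ∧ ((∃ m r : ℕ, Nonempty (↥(S : Subgroup G) ≃* (Fin r → Multiplicative (ZMod (2 ^ m))))) ∨ (¬ IsMulCommutative (S : Subgroup G) ∧ ∃ Y : Subgroup (MulAut ↥(S : Subgroup G)), Group.IsSolvable Y ∧ ∀ x y : ↥(S : Subgroup G), x ≠ 1 → x ^ 2 = 1 → y ≠ 1 → y ^ 2 = 1 → ∃ a ∈ Y, a x = y)) := by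
  classical
  haveI : Fact (Nat.Prime 2) := ⟨Nat.prime_two⟩
  haveI := hG
  set O := Cfsg.pPrimeCore 2 G with hOdef
  haveI hOn : O.Normal := Cfsg.Agent.Grp.pPrimeCore_isNormal
  set f := QuotientGroup.mk' O
  have hOodd : ¬ 2 ∣ Nat.card O := Cfsg.Agent.Grp.pPrimeCore_not_dvd
  have hdisj : ∀ x ∈ (S : Subgroup G), x ∈ O → x = 1 := by
    intro x hxS hxO
    obtain ⟨j, hj⟩ := S.isPGroup' ⟨x, hxS⟩
    refine orderOf_eq_one_iff.1 (Nat.eq_one_of_dvd_coprimes
      ((Nat.Coprime.pow_left j (Nat.prime_two.coprime_iff_not_dvd.2 hOodd)))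
      (orderOf_dvd_of_pow_eq_one (congrArg Subtype.val hj)) (Subgroup.orderOf_dvd_natCard _ hxO))
  have hcore : Cfsg.pPrimeCore 2 (G ⧸ O) = ⊥ := by
    rw [eq_bot_iff]
    intro x hx
    obtain ⟨g, rfl⟩ := QuotientGroup.mk'_surjective O x
    refine Subgroup.mem_bot.2 ((QuotientGroup.eq_one_iff g).2 (Cfsg.Agent.Grp.le_pPrimeCore
      (Cfsg.Agent.Grp.pPrimeCore_isNormal.comap f) ?_ (Subgroup.mem_comap.2 hx)))
    have h1 : Nat.card ↥((Cfsg.pPrimeCore 2 (G ⧸ O)).comap f) ∣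
        Nat.card O * Nat.card ↥(Cfsg.pPrimeCore 2 (G ⧸ O)) := by
      have hle : O ≤ (Cfsg.pPrimeCore 2 (G ⧸ O)).comap f := fun v hv => Subgroup.mem_comap.2
        (by rw [show f v = 1 from (QuotientGroup.eq_one_iff v).2 hv]; exact one_mem _)
      rw [← Cfsg.Agent.Grp.card_mul_relIndex hle]
      refine mul_dvd_mul_left _ (dvd_of_eq ?_)
      have h2 := Subgroup.relIndex_ker ((Cfsg.pPrimeCore 2 (G ⧸ O)).comap f) f
      rw [Subgroup.map_comap_eq_self_of_surjective (QuotientGroup.mk'_surjective O)] at h2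
      simpa [f, QuotientGroup.ker_mk'] using h2
    exact (Cfsg.Agent.Grp.pPrimeCore_coprime.mul_left Cfsg.Agent.Grp.pPrimeCore_coprime).coprime_dvd_left h1
  set Sq := S.mapSurjective (QuotientGroup.mk'_surjective O)
  have hSq : (Sq : Subgroup (G ⧸ O)) = (S : Subgroup G).map f := rfl
  have hlift : ∀ a : G ⧸ O, a ≠ 1 → a * a = 1 → ∃ g : G, f g = a ∧ g ≠ 1 ∧ g ^ 2 = 1 := by
    intro a ha ha2
    have hp : IsPGroup 2 (Subgroup.zpowers a) := IsPGroup.of_card (n := 1) (by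
      rw [Nat.card_zpowers, pow_one]
      exact orderOf_eq_prime (by rw [pow_two]; exact ha2) ha)
    obtain ⟨T, hT⟩ := hp.exists_le_sylow
    obtain ⟨c, rfl⟩ := MulAction.exists_smul_eq (G ⧸ O) Sq T
    have h1 := (Cfsg.Agent.Transfer.mem_smul_sylow Sq).1 (hT (Subgroup.mem_zpowers a))
    rw [hSq] at h1
    obtain ⟨s, hs, e⟩ := h1
    obtain ⟨c0, rfl⟩ := QuotientGroup.mk'_surjective O c
    refine ⟨c0 * s * c0⁻¹, ?_, fun h => ha ?_, ?_⟩
    · rw [map_mul, map_mul, map_inv, e]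
      simp only [f]
      group
    · have : f s = 1 := by rw [conj_eq_one_iff.1 h, map_one]
      rw [this] at e
      have h3 := congrArg (fun t => QuotientGroup.mk' O c0 * t * (QuotientGroup.mk' O c0)⁻¹) e
      simpa [mul_assoc] using h3.symm
    · rw [conj_pow, hdisj (s ^ 2) (pow_mem hs 2) ((QuotientGroup.eq_one_iff _).1 ?_), mul_one,
        mul_inv_cancel]
      show f (s ^ 2) = 1
      rw [map_pow, e, pow_two, show (QuotientGroup.mk' O c0)⁻¹ * a * QuotientGroup.mk' O c0 *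
        ((QuotientGroup.mk' O c0)⁻¹ * a * QuotientGroup.mk' O c0) =
        (QuotientGroup.mk' O c0)⁻¹ * (a * a) * QuotientGroup.mk' O c0 by group, ha2, mul_one,
        inv_mul_cancel]
  have hmain : (Sq : Subgroup (G ⧸ O)) = Cfsg.pCore 2 (G ⧸ O) := by
    refine Cfsg.Agent.Grp.InvTrans.sylow_eq_pCore Sq hcore ?_ fun a b ha ha2 hb hb2 => ?_
    · obtain ⟨x, y, hxS, hyS, hxy, hx1, hx2, hy1, hy2⟩ := htwo
      refine ⟨f x, f y, fun e => hxy ?_, fun e => hx1 (hdisj x hxS ((QuotientGroup.eq_one_iff x).1 e)),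
        by rw [← map_mul, ← pow_two, hx2, map_one],
        fun e => hy1 (hdisj y hyS ((QuotientGroup.eq_one_iff y).1 e)),
        by rw [← map_mul, ← pow_two, hy2, map_one]⟩
      exact inv_mul_eq_one.1 (hdisj _ (mul_mem (inv_mem hxS) hyS) (QuotientGroup.eq.1 e))
    · obtain ⟨g, rfl, hg1, hg2⟩ := hlift a ha ha2
      obtain ⟨k, rfl, hk1, hk2⟩ := hlift b hb hb2
      exact f.map_isConj (hconj g k hg1 hg2 hk1 hk2)
  refine ⟨Cfsg.Agent.Grp.pLengthLE_one_of_index fun {_} => ?_, ?_⟩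
  · rw [← hmain]
    exact Sq.not_dvd_index
  -- the normalizer of `S` is transitive on its involutions
  set M := (Cfsg.pCore 2 (G ⧸ O)).comap f
  haveI : (Cfsg.pCore 2 (G ⧸ O)).Normal := Cfsg.Agent.Grp.pCore_isNormal
  haveI hMn : M.Normal := inferInstance
  have hSM : (S : Subgroup G) ≤ M := fun s hs => Subgroup.mem_comap.2
    (by rw [← hmain, hSq]; exact Subgroup.mem_map_of_mem f hs)
  have hFr : Subgroup.normalizer ((S : Subgroup G) : Set G) ⊔ M = ⊤ :=
    Sylow.normalizer_sup_eq_top' S hSM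
  have htr : ∀ x ∈ (S : Subgroup G), ∀ y ∈ (S : Subgroup G), x ≠ 1 → x ^ 2 = 1 → y ≠ 1 → y ^ 2 = 1 →
      ∃ n ∈ Subgroup.normalizer ((S : Subgroup G) : Set G), n * x * n⁻¹ = y := by
    intro x hx y hy hx1 hx2 hy1 hy2
    obtain ⟨g, rfl⟩ := isConj_iff.1 (hconj x y hx1 hx2 hy1 hy2)
    obtain ⟨n, hn, m, hm, rfl⟩ := Subgroup.mem_sup_of_normal_right.1 (hFr.ge (Subgroup.mem_top g))
    have hm' : f m ∈ Cfsg.pCore 2 (G ⧸ O) := Subgroup.mem_comap.1 hm
    rw [← hmain, hSq] at hm'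
    obtain ⟨s, hs, e⟩ := hm'
    have ho : s⁻¹ * m ∈ O := QuotientGroup.eq.1 e
    set o := s⁻¹ * m
    have hm2 : m = s * o := by simp [o]
    have hsN : s ∈ Subgroup.normalizer ((S : Subgroup G) : Set G) := Subgroup.le_normalizer hs
    refine ⟨n * s, mul_mem hn hsN, ?_⟩
    have h1 : o * x * o⁻¹ ∈ (S : Subgroup G) := by
      have h2 := (Subgroup.mem_normalizer_iff.1 (inv_mem (mul_mem hn hsN)) _).1 hy
      rwa [hm2, show (n * s)⁻¹ * (n * (s * o) * x * (n * (s * o))⁻¹) * (n * s)⁻¹⁻¹ = o * x * o⁻¹ by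
        group] at h2
    have h3 : o * x * o⁻¹ = x := mul_inv_eq_one.1 (hdisj _ (mul_mem h1 (inv_mem hx)) (by
      rw [show o * x * o⁻¹ * x⁻¹ = o * (x * o⁻¹ * x⁻¹) by group]
      exact mul_mem ho (hOn.conj_mem _ (inv_mem ho) x)))
    rw [hm2]
    conv_lhs => rw [← h3]
    group
  by_cases hab : IsMulCommutative (S : Subgroup G)
  · left
    letI : CommGroup ↥(S : Subgroup G) :=
      { (inferInstance : Group ↥(S : Subgroup G)) with mul_comm := fun a b => hab.is_comm.comm a b }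
    refine Cfsg.Agent.Grp.InvTrans.homocyclic_of_transitive S.isPGroup' fun x y hx1 hx2 hy1 hy2 => ?_
    obtain ⟨n, hn, e⟩ := htr x x.2 y y.2 (fun h => hx1 (Subtype.ext h)) (congrArg Subtype.val hx2)
      (fun h => hy1 (Subtype.ext h)) (congrArg Subtype.val hy2)
    exact ⟨Subgroup.normalizerMonoidHom (S : Subgroup G) ⟨n, hn⟩, Subtype.ext e⟩
  · refine Or.inr ⟨hab, (Subgroup.normalizerMonoidHom (S : Subgroup G)).range, ?_, fun x y hx1 hx2 hy1 hy2 => ?_⟩
    · exact Group.isSolvable_of_surjective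
        (Subgroup.normalizerMonoidHom (S : Subgroup G)).rangeRestrict_surjective
    obtain ⟨n, hn, e⟩ := htr x x.2 y y.2 (fun h => hx1 (Subtype.ext h)) (congrArg Subtype.val hx2)
      (fun h => hy1 (Subtype.ext h)) (congrArg Subtype.val hy2)
    exact ⟨_, ⟨⟨n, hn⟩, rfl⟩, Subtype.ext e⟩

end Cfsg.Agent.S3797
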