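import Cfsg.Statements.S3799
import Mathlib
import Cfsg.Agent.Lib.Grp.Frattini

set_option autoImplicit false
open Cfsg
open scoped commutatorElement Pointwise

namespace Cfsg.Agent.S3799

/-- For every odd prime p and every n ≥ 1 there is an extraspecial p-group of order p^(1+2n) and exponent p; concretely, the general linear group of degree n + 2 over the field with p elements contains such a subgroup. -/
theorem result (p : ℕ) [Fact p.Prime] (hp : p ≠ 2) (n : ℕ) (hn : 1 ≤ n) : ∃ E : Subgroup (Matrix.GeneralLinearGroup (Fin (n + 2)) (ZMod p)), Cfsg.IsExtraspecial p ↥E ∧ Nat.card E = p ^ (1 + 2 * n) ∧ ∀ x ∈ E, x ^ p = 1 := by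
  classical
  have hp' : p.Prime := Fact.out
  set L : Fin (n + 2) := Fin.last (n + 1) with hL
  have hL0 : L ≠ 0 := by simp [hL, Fin.ext_iff]
  let A := {a : Fin (n + 2) → ZMod p // a 0 = 0}
  let B := {b : Fin (n + 2) → ZMod p // b 0 = 0 ∧ b L = 0}
  let e0 : Fin (n + 2) → ZMod p := Pi.single 0 1
  let eL : Fin (n + 2) → ZMod p := Pi.single L 1
  let T : (Fin (n + 2) → ZMod p) → (Fin (n + 2) → ZMod p) → Matrix (Fin (n + 2)) (Fin (n + 2)) (ZMod p) :=
    fun a b => 1 + (Matrix.vecMulVec e0 a + Matrix.vecMulVec b eL)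
  have hT : ∀ a b a' b' : Fin (n + 2) → ZMod p, a 0 = 0 → b 0 = 0 → b' 0 = 0 → b' L = 0 →
      T a b * T a' b' = T (a + a' + (dotProduct a b') • eL) (b + b') := by
    intro a b a' b' ha hb hb'0 hb'L
    simp only [T, add_mul, mul_add, one_mul, mul_one, Matrix.vecMulVec_mul_vecMulVec]
    rw [show dotProduct a e0 = 0 by simp [e0, ha],
      show dotProduct eL e0 = 0 by simp [e0, eL, hL0],
      show dotProduct eL b' = 0 by simp [eL, hb'L]]
    simp only [zero_smul, Matrix.vecMulVec_zero, Matrix.vecMulVec_smul, Matrix.vecMulVec_add, Matrix.add_vecMulVec]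
    abel
  have hT1 : T 0 0 = 1 := by simp [T]
  have hinj : ∀ a b a' b' : Fin (n + 2) → ZMod p, a 0 = 0 → b 0 = 0 → b L = 0 → a' 0 = 0 → b' 0 = 0 → b' L = 0 →
      T a b = T a' b' → a = a' ∧ b = b' := by
    intro a b a' b' ha hb hbL ha' hb' hb'L h
    have h0 : ∀ j, (T a b) 0 j = (T a' b') 0 j := fun j => by rw [h]
    have hl : ∀ i, (T a b) i L = (T a' b') i L := fun i => by rw [h]
    refine ⟨funext fun j => ?_, funext fun i => ?_⟩
    · have := h0 j
      simpa [T, e0, Matrix.vecMulVec_apply, hb, hb'] using this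
    · by_cases hi : i = 0
      · rw [hi, hb, hb']
      · have := hl i
        simpa [T, e0, eL, Matrix.vecMulVec_apply, hi] using this
  have hneg : ∀ a b : Fin (n + 2) → ZMod p, a 0 = 0 → b 0 = 0 → b L = 0 →
      (-a + (dotProduct a b) • eL) 0 = 0 ∧ T a b * T (-a + (dotProduct a b) • eL) (-b) = 1 ∧
        T (-a + (dotProduct a b) • eL) (-b) * T a b = 1 := by
    intro a b ha hb hbL
    have h0 : (-a + (dotProduct a b) • eL) 0 = 0 := by simp [eL, ha, hL0.symm]
    refine ⟨h0, ?_, ?_⟩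
    · rw [hT _ _ _ _ ha hb (by simp [hb]) (by simp [hbL]), dotProduct_neg, neg_smul, add_neg_cancel,
        show a + (-a + dotProduct a b • eL) + -(dotProduct a b • eL) = 0 by abel, hT1]
    · rw [hT _ _ _ _ h0 (by simp [hb]) hb hbL, neg_add_cancel,
        show dotProduct (-a + dotProduct a b • eL) b = -dotProduct a b by simp [eL, hbL],
        neg_smul, show -a + dotProduct a b • eL + a + -(dotProduct a b • eL) = 0 by abel, hT1]
  let U : A × B → Matrix.GeneralLinearGroup (Fin (n + 2)) (ZMod p) := fun x =>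
    ⟨T x.1.1 x.2.1, T (-x.1.1 + (dotProduct x.1.1 x.2.1) • eL) (-x.2.1),
      (hneg _ _ x.1.2 x.2.2.1 x.2.2.2).2.1, (hneg _ _ x.1.2 x.2.2.1 x.2.2.2).2.2⟩
  let E : Subgroup (Matrix.GeneralLinearGroup (Fin (n + 2)) (ZMod p)) :=
    { carrier := Set.range U
      one_mem' := ⟨(⟨0, rfl⟩, ⟨0, rfl, rfl⟩), Units.ext hT1⟩
      mul_mem' := by
        rintro _ _ ⟨x, rfl⟩ ⟨y, rfl⟩
        exact ⟨(⟨x.1.1 + y.1.1 + (dotProduct x.1.1 y.2.1) • eL, by simp [eL, x.1.2, y.1.2, hL0.symm]⟩,
          ⟨x.2.1 + y.2.1, by simp [x.2.2.1, y.2.2.1], by simp [x.2.2.2, y.2.2.2]⟩),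
          Units.ext (hT _ _ _ _ x.1.2 x.2.2.1 y.2.2.1 y.2.2.2).symm⟩
      inv_mem' := by
        rintro _ ⟨x, rfl⟩
        exact ⟨(⟨_, (hneg _ _ x.1.2 x.2.2.1 x.2.2.2).1⟩, ⟨-x.2.1, by simp [x.2.2.1], by simp [x.2.2.2]⟩), Units.ext rfl⟩ }
  have hUinj : Function.Injective U := by
    intro x y h
    obtain ⟨h1, h2⟩ := hinj _ _ _ _ x.1.2 x.2.2.1 x.2.2.2 y.1.2 y.2.2.1 y.2.2.2 (congrArg Units.val h)
    exact Prod.ext (Subtype.ext h1) (Subtype.ext h2)
  have hA : Nat.card A = p ^ (n + 1) := by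
    let e : A ≃ (Fin (n + 1) → ZMod p) :=
      { toFun := fun a i => a.1 i.succ
        invFun := fun f => ⟨Fin.cons 0 f, rfl⟩
        left_inv := fun a => Subtype.ext (funext fun i => by
          cases i using Fin.cases with
          | zero => simp [a.2]
          | succ i => simp)
        right_inv := fun f => funext fun i => by simp }
    rw [Nat.card_congr e, Nat.card_fun, Nat.card_fin, Nat.card_zmod]
  have hB : Nat.card B = p ^ n := by
    let e : B ≃ (Fin n → ZMod p) :=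
      { toFun := fun b i => b.1 i.succ.castSucc
        invFun := fun f => ⟨Fin.snoc (α := fun _ => ZMod p) (Fin.cons 0 f) 0, by
          rw [← Fin.castSucc_zero, Fin.snoc_castSucc]; rfl, by rw [hL, Fin.snoc_last]⟩
        left_inv := fun b => Subtype.ext (funext fun i => by
          cases i using Fin.lastCases with
          | last => simp only [Fin.snoc_last]; exact b.2.2.symm
          | cast i =>
            cases i using Fin.cases with
            | zero => simp [b.2.1]
            | succ i => simp only [Fin.snoc_castSucc, Fin.cons_succ])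
        right_inv := fun f => funext fun i => by simp only [Fin.snoc_castSucc, Fin.cons_succ] }
    rw [Nat.card_congr e, Nat.card_fun, Nat.card_fin, Nat.card_zmod]
  have hcard : Nat.card E = p ^ (1 + 2 * n) := by
    show Nat.card (Set.range U) = _
    rw [Nat.card_range_of_injective hUinj, Nat.card_prod, hA, hB, ← pow_add]
    ring_nf
  have hpow : ∀ (x : A × B) (k : ℕ), ((U x ^ k : Matrix.GeneralLinearGroup (Fin (n + 2)) (ZMod p)) : Matrix _ _ (ZMod p)) =
      T ((k : ZMod p) • x.1.1 + ((k.choose 2 : ℕ) : ZMod p) • (dotProduct x.1.1 x.2.1 • eL)) ((k : ZMod p) • x.2.1) := by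
    intro x k
    induction k with
    | zero => simp [T]
    | succ k ih =>
      rw [pow_succ, Units.val_mul, ih]
      show T _ _ * T x.1.1 x.2.1 = _
      rw [hT _ _ _ _ (by simp [eL, x.1.2, hL0.symm]) (by simp [x.2.2.1]) x.2.2.1 x.2.2.2,
        show dotProduct ((k : ZMod p) • x.1.1 + ((k.choose 2 : ℕ) : ZMod p) • (dotProduct x.1.1 x.2.1 • eL)) x.2.1 =
          (k : ZMod p) * dotProduct x.1.1 x.2.1 by simp [eL, x.2.2.2],
        Nat.choose_succ_succ' k 1, Nat.choose_one_right]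
      push_cast
      congr 1 <;> module
  have hexp : ∀ x ∈ E, x ^ p = 1 := by
    rintro _ ⟨x, rfl⟩
    refine Units.ext ?_
    rw [hpow, ZMod.natCast_self, show ((p.choose 2 : ℕ) : ZMod p) = 0 from
      (ZMod.natCast_eq_zero_iff _ _).mpr (hp'.dvd_choose_self two_ne_zero (lt_of_le_of_ne hp'.two_le hp.symm))]
    simp [T]
  have hcommute : ∀ x y : A × B, U x * U y = U y * U x ↔
      dotProduct x.1.1 y.2.1 = dotProduct y.1.1 x.2.1 := by
    intro x y
    rw [← Units.val_inj, Units.val_mul, Units.val_mul]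
    show T _ _ * T _ _ = T _ _ * T _ _ ↔ _
    rw [hT _ _ _ _ x.1.2 x.2.2.1 y.2.2.1 y.2.2.2, hT _ _ _ _ y.1.2 y.2.2.1 x.2.2.1 x.2.2.2]
    constructor
    · intro h
      have := congrFun (hinj _ _ _ _ (by simp [eL, x.1.2, y.1.2, hL0.symm]) (by simp [x.2.2.1, y.2.2.1])
        (by simp [x.2.2.2, y.2.2.2]) (by simp [eL, x.1.2, y.1.2, hL0.symm]) (by simp [x.2.2.1, y.2.2.1])
        (by simp [x.2.2.2, y.2.2.2]) h).1 L
      simp [eL] at this
      linear_combination this
    · intro h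
      rw [h, add_comm x.1.1, add_comm x.2.1]
  -- the central elements
  have hz : ∀ x : E, x ∈ Subgroup.center E ↔ ∃ c : ZMod p, (x : Matrix.GeneralLinearGroup (Fin (n + 2)) (ZMod p)) =
      U (⟨c • eL, by simp [eL, hL0.symm]⟩, ⟨0, rfl, rfl⟩) := by
    rintro ⟨_, x, rfl⟩
    rw [Subgroup.mem_center_iff]
    constructor
    · intro h
      have h' : ∀ y : A × B, dotProduct x.1.1 y.2.1 = dotProduct y.1.1 x.2.1 := fun y =>
        (hcommute x y).mp (congrArg Subtype.val (h ⟨U y, y, rfl⟩)).symm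
      refine ⟨x.1.1 L, congrArg U (Prod.ext (Subtype.ext (funext fun i => ?_)) (Subtype.ext (funext fun i => ?_)))⟩
      · by_cases hi : i = L
        · subst hi; simp [eL]
        · by_cases hi0 : i = 0
          · subst hi0; simp [eL, x.1.2, hL0.symm]
          · have := h' (⟨0, rfl⟩, ⟨Pi.single i 1, by simp [Ne.symm hi0], by simp [Ne.symm hi]⟩)
            simp at this
            simp [eL, hi, this]
      · by_cases hi0 : i = 0
        · subst hi0; simp [x.2.2.1]
        · have := h' (⟨Pi.single i 1, by simp [Ne.symm hi0]⟩, ⟨0, rfl, rfl⟩)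
          simp at this
          simp [← this]
    · rintro ⟨c, hc⟩ ⟨_, y, rfl⟩
      have hc' : x = (⟨c • eL, by simp [eL, hL0.symm]⟩, ⟨0, rfl, rfl⟩) := hUinj hc
      refine Subtype.ext ((hcommute y x).mpr ?_)
      rw [hc']
      simp [eL, y.2.2.2]
  have hzc : Nat.card (Subgroup.center E) = p := by
    conv_rhs => rw [← Nat.card_zmod p]
    refine (Nat.card_eq_of_bijective (fun c : ZMod p => (⟨⟨_, ⟨(⟨c • eL, by simp [eL, hL0.symm]⟩, ⟨0, rfl, rfl⟩), rfl⟩⟩,
      (hz _).mpr ⟨c, rfl⟩⟩ : Subgroup.center E)) ⟨fun c d h => ?_, fun z => ?_⟩).symm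
    · have h2 := hUinj (congrArg (fun w : Subgroup.center E => ((w : E) : Matrix.GeneralLinearGroup (Fin (n + 2)) (ZMod p))) h)
      have := congrFun (congrArg (fun w : A × B => w.1.1) h2) L
      simpa [eL] using this
    · obtain ⟨c, hc⟩ := (hz z.1).mp z.2
      exact ⟨c, Subtype.ext (Subtype.ext hc.symm)⟩
  have hEp : IsPGroup p E := IsPGroup.of_card hcard
  have hder : Subgroup.center E ≤ commutator E := by
    intro z hzmem
    obtain ⟨c, hc⟩ := (hz z).mp hzmem
    let i : Fin (n + 2) := ⟨1, by omega⟩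
    have hi0 : i ≠ 0 := by simp [i, Fin.ext_iff]
    have hiL : i ≠ L := by simp [i, hL, Fin.ext_iff]; omega
    let x : A × B := (⟨Pi.single i c, by simp [hi0.symm]⟩, ⟨0, rfl, rfl⟩)
    let y : A × B := (⟨0, rfl⟩, ⟨Pi.single i 1, by simp [hi0.symm], by simp [hiL.symm]⟩)
    have e : (U x * U y) = U (⟨c • eL, by simp [eL, hL0.symm]⟩, ⟨0, rfl, rfl⟩) * (U y * U x) := by
      refine Units.ext ?_
      simp only [Units.val_mul]
      show T _ _ * T _ _ = T _ _ * (T _ _ * T _ _)
      rw [hT _ _ _ _ x.1.2 x.2.2.1 y.2.2.1 y.2.2.2, hT _ _ _ _ y.1.2 y.2.2.1 x.2.2.1 x.2.2.2,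
        hT _ _ _ _ (by simp [eL, hL0.symm]) rfl (by simp [x, y, hi0.symm]) (by simp [x, y, hiL.symm])]
      simp [x, y, eL, hiL.symm]
      congr 1
      abel
    have e2 : z = ⁅(⟨U x, x, rfl⟩ : E), ⟨U y, y, rfl⟩⁆ := by
      refine Subtype.ext ?_
      show (z : Matrix.GeneralLinearGroup (Fin (n + 2)) (ZMod p)) = U x * U y * (U x)⁻¹ * (U y)⁻¹
      rw [hc, e]; group
    rw [e2]
    exact Subgroup.commutator_mem_commutator (Subgroup.mem_top _) (Subgroup.mem_top _)
  have hder' : commutator E ≤ Subgroup.center E := by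
    rw [commutator_def, Subgroup.commutator_le]
    rintro ⟨_, x, rfl⟩ _ ⟨_, y, rfl⟩ _
    refine (hz _).mpr ⟨dotProduct x.1.1 y.2.1 - dotProduct y.1.1 x.2.1, ?_⟩
    show U x * U y * (U x)⁻¹ * (U y)⁻¹ = _
    rw [mul_inv_eq_iff_eq_mul, mul_inv_eq_iff_eq_mul, mul_assoc]
    refine Units.ext ?_
    simp only [Units.val_mul]
    show T _ _ * T _ _ = T _ _ * (T _ _ * T _ _)
    rw [hT _ _ _ _ x.1.2 x.2.2.1 y.2.2.1 y.2.2.2, hT _ _ _ _ y.1.2 y.2.2.1 x.2.2.1 x.2.2.2,
      hT _ _ _ _ (by simp [eL, hL0.symm]) rfl (by simp [x.2.2.1, y.2.2.1]) (by simp [x.2.2.2, y.2.2.2])]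
    simp [eL, x.2.2.2, y.2.2.2]
    congr 1
    · module
    · abel
  have hfrat : frattini E = Subgroup.center E := by
    refine le_antisymm (Agent.Grp.frattini_le_of_elementary hp' hder' fun x => ?_)
      (hder.trans (Agent.Grp.pGroup_commutator_le_frattini hEp))
    rw [show x ^ p = 1 from Subtype.ext (hexp x x.2)]
    exact one_mem _
  exact ⟨E, ⟨⟨hEp, hfrat, le_antisymm hder' hder⟩, hzc⟩, hcard, hexp⟩

end Cfsg.Agent.S3799
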