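import Cfsg.Statements.S3802
import Cfsg.Agent.Lib.Grp.SubnormalJoin

set_option autoImplicit false
open Cfsg

namespace Cfsg.Agent.S3802

/-- Let G be a finite group, M a maximal subgroup of G and N a subnormal subgroup of G contained in M. Then N is contained in every conjugate of M, that is, N lies in the core of M in G. -/
theorem result {G : Type*} [Group G] [Finite G] (M N : Subgroup G) (hM : IsCoatom M) (hN : N.IsSubnormal) (hNM : N ≤ M) :
    N ≤ Subgroup.normalCore M := by
  classical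
  have key : ∀ J : Subgroup G, J.IsSubnormal → J = ⊤ ∨ ∃ K : Subgroup G, J < K ∧ K.IsSubnormal ∧
      K ≤ Subgroup.normalizer (J : Set G) := by
    intro J hJ
    induction hJ with
    | top => exact Or.inl rfl
    | step H K hle hK hn ih =>
      rcases eq_or_lt_of_le hle with rfl | hlt
      · exact ih
      · exact Or.inr ⟨K, hlt, hK, (Subgroup.normal_subgroupOf_iff_le_normalizer hle).mp hn⟩
  obtain ⟨J, ⟨hJ, hJM, hNJ⟩, hmax⟩ := Set.Finite.exists_maximal
    (Set.toFinite {J : Subgroup G | J.IsSubnormal ∧ J ≤ M ∧ N ≤ J}) ⟨N, hN, hNM, le_rfl⟩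
  have hnorm : ∀ g ∈ M, J.map (MulAut.conj g).toMonoidHom ≤ J := by
    intro g hg
    have hc : (J.map (MulAut.conj g).toMonoidHom).IsSubnormal :=
      Subgroup.IsSubnormal.map (MulAut.conj g).surjective hJ
    have hs := Grp.SnJoin.isSubnormal_sup _ G rfl J _ hJ hc
    have hle : J ⊔ J.map (MulAut.conj g).toMonoidHom ≤ M := sup_le hJM (by
      rintro _ ⟨x, hx, rfl⟩
      exact mul_mem (mul_mem hg (hJM hx)) (inv_mem hg))
    exact le_sup_right.trans (hmax ⟨hs, hle, hNJ.trans le_sup_left⟩ le_sup_left)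
  have hMn : M ≤ Subgroup.normalizer (J : Set G) := fun g hg => Subgroup.mem_normalizer_iff_map_conj_eq.mpr
    (Subgroup.eq_of_le_of_card_ge (hnorm g hg)
      (Nat.card_congr (Subgroup.equivMapOfInjective _ _ (MulAut.conj g).injective).toEquiv).le)
  rcases key J hJ with rfl | ⟨K, hlt, hK, hKn⟩
  · exact absurd (top_le_iff.mp hJM) hM.1
  rcases eq_or_lt_of_le hMn with e | e
  · exfalso
    exact hlt.not_ge (hmax ⟨hK, e ▸ hKn, hNJ.trans hlt.le⟩ hlt.le)
  · have : J.Normal := Subgroup.normalizer_eq_top_iff.mp (hM.2 _ e)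
    exact hNJ.trans (Subgroup.normal_le_normalCore.mpr hJM)

end Cfsg.Agent.S3802
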