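import Cfsg.Statements.S3803
import Cfsg.Agent.S3736


set_option autoImplicit false
open Cfsg
open scoped commutatorElement

namespace Cfsg.Agent.S3803

/-- Let P be a 2-subgroup and A a subgroup of odd order of a finite group, with A normalizing P. Let D ≤ P with 1 < |D| < |P|. If every subgroup of P of order |D|, and also every subgroup of P of order 4 in case |D| = 2, is normalized by A, then A centralizes P. -/
theorem result {X : Type*} [Group X] [Finite X] (P A D : Subgroup X) (hP : IsPGroup 2 P) (hA : Odd (Nat.card A))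
    (hAP : A ≤ Subgroup.normalizer (P : Set X)) (hDP : D ≤ P) (hD1 : 1 < Nat.card D) (hD2 : Nat.card D < Nat.card P)
    (hinv : ∀ E : Subgroup X, E ≤ P → (Nat.card E = Nat.card D ∨ (Nat.card D = 2 ∧ Nat.card E = 4)) → A ≤ Subgroup.normalizer (E : Set X)) :
    A ≤ Subgroup.centralizer (P : Set X) := by
  classical
  suffices key : ∀ n, ∀ P D : Subgroup X, Nat.card P = n → IsPGroup 2 P → A ≤ Subgroup.normalizer (P : Set X) →
      D ≤ P → 1 < Nat.card D → Nat.card D < Nat.card P →
      (∀ E : Subgroup X, E ≤ P → (Nat.card E = Nat.card D ∨ (Nat.card D = 2 ∧ Nat.card E = 4)) → A ≤ Subgroup.normalizer (E : Set X)) →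
      ⁅P, A⁆ = ⊥ by
    have := key _ P D rfl hP hAP hDP hD1 hD2 hinv
    rw [Subgroup.commutator_comm] at this
    exact Subgroup.commutator_eq_bot_iff_le_centralizer.mp this
  intro n
  induction n using Nat.strong_induction_on with
  | _ n ih =>
  intro P D hn hP hAP hDP hD1 hD2 hinv
  obtain ⟨d, hd⟩ := IsPGroup.iff_card.mp (hP.to_le hDP)
  obtain ⟨e, he⟩ := IsPGroup.iff_card.mp hP
  have hde : d < e := (Nat.pow_lt_pow_iff_right one_lt_two).mp (hd ▸ he ▸ hD2)
  have hd1 : 1 ≤ d := by
    rcases d with _ | d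
    · rw [hd, pow_zero] at hD1; omega
    · omega
  have hcop : (Nat.card A).Coprime (Nat.card P) := by
    rw [he]; exact ((Nat.coprime_two_right).mpr hA).pow_right e
  have hsolv : Group.IsSolvable A ∨ Group.IsSolvable P :=
    Or.inr (@IsNilpotent.to_isSolvable _ _ hP.isNilpotent)
  -- subgroups of intermediate order
  have hmid : ∀ (U : Subgroup X) (m : ℕ), U ≤ P → Nat.card U ≤ 2 ^ m → m ≤ e → ∃ E : Subgroup X, U ≤ E ∧ E ≤ P ∧ Nat.card E = 2 ^ m := by
    intro U m hU hUm hme
    obtain ⟨j, hj⟩ := IsPGroup.iff_card.mp (hP.to_le hU)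
    obtain ⟨K, hK, hUK⟩ := Sylow.exists_subgroup_card_pow_prime_le 2 (G := P) (m := m) (n := j)
      (by rw [he]; exact pow_dvd_pow 2 hme) (U.subgroupOf P) (by rw [Nat.card_congr (Subgroup.subgroupOfEquivOfLe hU).toEquiv, hj])
      ((Nat.pow_le_pow_iff_right one_lt_two).mp (hj ▸ hUm))
    refine ⟨K.map P.subtype, ?_, Subgroup.map_subtype_le _, by rw [Subgroup.card_map_of_injective P.subtype_injective, hK]⟩
    intro u hu
    exact ⟨⟨u, hU hu⟩, hUK hu, rfl⟩
  have hjoin : ∀ E F : Subgroup X, A ≤ Subgroup.normalizer (E : Set X) → A ≤ Subgroup.normalizer (F : Set X) →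
      A ≤ Subgroup.normalizer ((E ⊔ F : Subgroup X) : Set X) := fun E F hE hF a ha =>
    Cfsg.Agent.Grp.mem_normalizer_of_map_eq.mpr (by
      rw [Subgroup.map_sup, Cfsg.Agent.Grp.mem_normalizer_of_map_eq.mp (hE ha), Cfsg.Agent.Grp.mem_normalizer_of_map_eq.mp (hF ha)])
  set Φ := (frattini ↥P).map P.subtype with hΦ
  have hnong : ∀ E : Subgroup X, E ≤ P → E ⊔ Φ = P → E = P := by
    intro E hE h
    have h1 : E.subgroupOf P ⊔ frattini ↥P = ⊤ := by
      refine Subgroup.map_injective P.subtype_injective ?_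
      rw [Subgroup.map_sup, Subgroup.map_subgroupOf_eq_of_le hE, ← MonoidHom.range_eq_map, Subgroup.range_subtype]
      exact h
    have := frattini_nongenerating h1
    exact le_antisymm hE (Subgroup.subgroupOf_eq_top.mp this)
  by_cases hcase : e = d + 1
  · -- every maximal subgroup is invariant
    have hmax : ∀ M : Subgroup P, IsCoatom M → A ≤ Subgroup.normalizer ((M.map P.subtype : Subgroup X) : Set X) := by
      intro M hM
      obtain ⟨-, hidx⟩ := Cfsg.Agent.Grp.coatom_index_eq_of_pGroup hP hM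
      refine hinv _ (Subgroup.map_subtype_le _) (Or.inl ?_)
      rw [Subgroup.card_map_of_injective P.subtype_injective, hd]
      have h1 := Subgroup.card_eq_card_quotient_mul_card_subgroup M
      rw [he, hcase, ← Subgroup.index_eq_card, hidx, pow_succ'] at h1
      exact (Nat.eq_of_mul_eq_mul_left two_pos h1).symm
    have hle : ⁅P, A⁆ ≤ Φ := by
      rw [Subgroup.commutator_le]
      intro x hx a ha
      have hax : a * x * a⁻¹ ∈ P := (Subgroup.mem_normalizer_iff.mp (hAP ha) x).mp hx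
      refine ⟨⟨x, hx⟩ * (⟨a * x * a⁻¹, hax⟩ : P)⁻¹, ?_, by simp [commutatorElement_def, mul_assoc]⟩
      rw [SetLike.mem_coe, frattini, Order.radical, Subgroup.mem_iInf]
      intro M
      rw [Subgroup.mem_iInf]
      intro hM
      obtain ⟨hMn, hidx⟩ := Cfsg.Agent.Grp.coatom_index_eq_of_pGroup hP hM
      have hiff : (⟨x, hx⟩ : P) ∈ M ↔ (⟨a * x * a⁻¹, hax⟩ : P) ∈ M := by
        have h1 := (Subgroup.mem_normalizer_iff.mp (hmax M hM ha) x)
        constructor
        · intro h
          obtain ⟨y, hy, hyx⟩ := h1.mp ⟨⟨x, hx⟩, h, rfl⟩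
          rwa [show y = (⟨a * x * a⁻¹, hax⟩ : P) from Subtype.ext hyx] at hy
        · intro h
          obtain ⟨y, hy, hyx⟩ := h1.mpr ⟨⟨a * x * a⁻¹, hax⟩, h, rfl⟩
          rwa [show y = (⟨x, hx⟩ : P) from Subtype.ext hyx] at hy
      rw [Subgroup.mul_mem_iff_of_index_two hidx, hiff, Subgroup.inv_mem_iff]
    have hfix : P ⊓ Subgroup.centralizer (A : Set X) = P := by
      refine hnong _ inf_le_left ?_
      refine le_antisymm (sup_le inf_le_left (Subgroup.map_subtype_le _)) ?_
      intro x hx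
      obtain ⟨m, hm, c, hc, rfl⟩ := Cfsg.Agent.Grp.exists_commutator_mul_fixed A P hAP hcop hsolv hx
      exact Subgroup.mul_mem _ ((le_sup_right : Φ ≤ _) (hle hm)) ((le_sup_left : P ⊓ Subgroup.centralizer (A : Set X) ≤ _) hc)
    exact Subgroup.commutator_eq_bot_iff_le_centralizer.mpr (hfix.ge.trans inf_le_right)
  by_contra hnt
  -- proper invariant subgroups are centralized
  have hmin : ∀ U : Subgroup X, U < P → A ≤ Subgroup.normalizer (U : Set X) → ⁅U, A⁆ = ⊥ := by
    intro U hU hAU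
    obtain ⟨V, hUV, ⟨hVP, hAV⟩, hVmax⟩ : ∃ V, U ≤ V ∧ (V < P ∧ A ≤ Subgroup.normalizer (V : Set X)) ∧
        ∀ W, W < P → A ≤ Subgroup.normalizer (W : Set X) → V ≤ W → W = V := by
      obtain ⟨V, ⟨h1, h2, h3⟩, h4⟩ := (Set.toFinite {V : Subgroup X | U ≤ V ∧ V < P ∧ A ≤ Subgroup.normalizer (V : Set X)}).exists_maximal ⟨U, le_rfl, hU, hAU⟩
      exact ⟨V, h1, ⟨h2, h3⟩, fun W hW hAW hle => le_antisymm (h4 ⟨h1.trans hle, hW, hAW⟩ hle) hle⟩
    refine le_bot_iff.mp ((Subgroup.commutator_mono hUV le_rfl).trans (le_of_eq ?_))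
    by_cases hbig : Nat.card D < Nat.card V
    · obtain ⟨D', -, hD'V, hD'⟩ : ∃ D' : Subgroup X, ⊥ ≤ D' ∧ D' ≤ V ∧ Nat.card D' = Nat.card D := by
        obtain ⟨K, hK⟩ := Sylow.exists_subgroup_card_pow_prime 2 (G := V) (n := d) (by
          obtain ⟨j, hj⟩ := IsPGroup.iff_card.mp (hP.to_le hVP.le)
          rw [hj]; exact pow_dvd_pow 2 ((Nat.pow_le_pow_iff_right one_lt_two).mp (hd ▸ hj ▸ hbig.le)))
        exact ⟨K.map V.subtype, bot_le, Subgroup.map_subtype_le _, by rw [Subgroup.card_map_of_injective V.subtype_injective, hK, hd]⟩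
      refine ih _ ?_ V D' rfl (hP.to_le hVP.le) hAV hD'V (hD' ▸ hD1) (hD' ▸ hbig) fun E hE h => hinv E (hE.trans hVP.le) (hD' ▸ h)
      rw [← hn]
      by_contra hge
      exact hVP.ne (Subgroup.eq_of_le_of_card_ge hVP.le (not_lt.mp hge))
    · obtain ⟨E, hVE, hEP, hEc⟩ := hmid V d hVP.le (hd ▸ not_lt.mp hbig) hde.le
      have hEV : E = V := hVmax E (lt_of_le_of_ne hEP fun h => by rw [h, ← hd] at hEc; omega)
        (hinv E hEP (Or.inl (hEc.trans hd.symm))) hVE
      subst hEV
      obtain ⟨F, hVF, hFP, hFc⟩ := hmid E (d + 1) hEP (hEc.le.trans (Nat.pow_le_pow_right two_pos (by omega))) hde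
      obtain ⟨x, hxF, hxE⟩ : ∃ x ∈ F, x ∉ E := by
        by_contra h
        push Not at h
        have := Subgroup.card_le_of_le (show F ≤ E from h)
        rw [hFc, hEc, pow_succ] at this
        have := Nat.two_pow_pos d
        omega
      have hxc : Subgroup.zpowers x = F := by
        by_contra hne
        have hle : Subgroup.zpowers x ≤ F := Subgroup.zpowers_le.mpr hxF
        obtain ⟨j, hj⟩ := IsPGroup.iff_card.mp ((hP.to_le hFP).to_le hle)
        have hjd : j ≤ d := by
          by_contra hjd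
          refine hne (Subgroup.eq_of_le_of_card_ge hle ?_)
          rw [hFc, hj]
          exact Nat.pow_le_pow_right two_pos (by omega)
        obtain ⟨K, hK, hxK⟩ := Sylow.exists_subgroup_card_pow_prime_le 2 (G := F) (m := d) (n := j)
          (by rw [hFc]; exact pow_dvd_pow 2 d.le_succ) ((Subgroup.zpowers x).subgroupOf F)
          (by rw [Nat.card_congr (Subgroup.subgroupOfEquivOfLe hle).toEquiv, hj]) hjd
        set K' := K.map F.subtype
        have hK'c : Nat.card K' = Nat.card D := by rw [Subgroup.card_map_of_injective F.subtype_injective, hK, hd]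
        have hxK' : x ∈ K' := ⟨⟨x, hxF⟩, hxK (Subgroup.mem_zpowers x), rfl⟩
        have hFE : E ⊔ K' ≤ F := sup_le hVF (Subgroup.map_subtype_le _)
        have := hVmax (E ⊔ K') (lt_of_le_of_ne (hFE.trans hFP) fun h => hcase ?_)
          (hjoin _ _ hAV (hinv K' ((Subgroup.map_subtype_le _).trans hFP) (Or.inl hK'c))) le_sup_left
        · exact hxE (this.le ((le_sup_right : K' ≤ E ⊔ K') hxK'))
        · have h1 := Subgroup.card_le_of_le (h.ge.trans hFE)
          rw [he, hFc] at h1
          have := (Nat.pow_le_pow_iff_right one_lt_two).mp h1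
          omega
      have hcyc : IsCyclic E := by
        have : IsCyclic F := hxc ▸ (inferInstance : IsCyclic (Subgroup.zpowers x))
        exact (MulEquiv.isCyclic (Subgroup.subgroupOfEquivOfLe hVF)).mp inferInstance
      refine Subgroup.commutator_eq_bot_iff_le_centralizer.mpr fun v hv => Subgroup.mem_centralizer_iff.mpr fun a ha => ?_
      let φ : A →* MulAut E :=
        { toFun := fun b => ((MulAut.conj (b : X)).subgroupMap E).trans
            (MulEquiv.subgroupCongr (Cfsg.Agent.Grp.mem_normalizer_of_map_eq.mp (hAV b.2)))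
          map_one' := MulEquiv.ext fun u => Subtype.ext (by show (1 : X) * u * 1⁻¹ = u; simp)
          map_mul' := fun b c => MulEquiv.ext fun u => Subtype.ext (by
            show (b * c : X) * u * ((b : X) * c)⁻¹ = b * ((c : X) * u * (c : X)⁻¹) * (b : X)⁻¹
            simp [mul_assoc]) }
      have hAut : Nat.card (MulAut E) = Nat.totient (Nat.card E) := by
        rw [Nat.card_congr (IsCyclic.mulAutMulEquiv E).toEquiv]
        have : NeZero (Nat.card E) := ⟨Nat.card_pos.ne'⟩
        rw [Nat.card_eq_fintype_card, ZMod.card_units_eq_totient]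
      have hφ : φ ⟨a, ha⟩ = 1 := by
        refine orderOf_eq_one_iff.mp (Nat.eq_one_of_dvd_coprimes ?_ ((orderOf_map_dvd φ _).trans (orderOf_dvd_natCard _)) (orderOf_dvd_natCard _))
        rw [hAut, hEc, Nat.totient_prime_pow Nat.prime_two hd1]
        simpa using ((Nat.coprime_two_right).mpr hA).pow_right (d - 1)
      have h := DFunLike.congr_fun hφ (⟨v, hv⟩ : E)
      exact mul_inv_eq_iff_eq_mul.mp (congrArg Subtype.val h)
  haveI : Fact (Nat.Prime 2) := ⟨Nat.prime_two⟩
  obtain ⟨-, hspec, hirr, -⟩ := S3736.result A A P hP hAP le_rfl Subgroup.le_normalizer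
    ((Nat.coprime_two_right).mpr hA) hnt hmin
  have hΦn : A ≤ Subgroup.normalizer (Φ : Set X) := fun a ha => by
    refine Cfsg.Agent.Grp.mem_normalizer_of_map_eq.mpr ?_
    let f : P ≃* P := ((MulAut.conj a).subgroupMap P).trans
      (MulEquiv.subgroupCongr (Cfsg.Agent.Grp.mem_normalizer_of_map_eq.mp (hAP ha)))
    have hf : (frattini ↥P).map f.toMonoidHom = frattini ↥P := Subgroup.characteristic_iff_map_eq.mp frattini_characteristic f
    rw [hΦ]
    conv_rhs => rw [← hf]
    rw [Subgroup.map_map, Subgroup.map_map]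
    rfl
  have hinΦ : ∀ E : Subgroup X, E ≤ P → A ≤ Subgroup.normalizer (E : Set X) → E ≠ P → E ≤ Φ := by
    intro E hE hAE hne
    rcases hirr (E ⊔ Φ) le_sup_right (sup_le hE (Subgroup.map_subtype_le _)) (hjoin _ _ hAE hΦn) with h | h
    · exact le_sup_left.trans h.le
    · exact absurd (hnong E hE h) hne
  have hfour : ∀ x ∈ P, x ^ 4 = 1 := by
    intro x hx
    rcases hspec with h | h
    · rw [show 4 = 2 * 2 from rfl, pow_mul, h.2 x hx, one_pow]
    · let T : Subgroup P :=
        { carrier := {z | z ∈ Subgroup.center P ∧ z ^ 2 = 1}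
          one_mem' := ⟨one_mem _, one_pow _⟩
          mul_mem' := fun {u v} hu hv => ⟨mul_mem hu.1 hv.1, by
            rw [(show Commute u v from (Subgroup.mem_center_iff.mp hu.1 v).symm).mul_pow, hu.2, hv.2, one_mul]⟩
          inv_mem' := fun {u} hu => ⟨inv_mem hu.1, by rw [inv_pow, hu.2, inv_one]⟩ }
      have hsq : ∀ u : P, u ^ 2 ∈ Subgroup.center P := fun u => h.2.1 ▸ Cfsg.Agent.Grp.pGroup_pow_mem_frattini hP u
      have hT : commutator P ≤ T := Subgroup.commutator_le.mpr fun u _ v _ => by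
        have hc : ⁅u, v⁆ ∈ Subgroup.center P := h.2.2 ▸ Subgroup.commutator_mem_commutator (Subgroup.mem_top u) (Subgroup.mem_top v)
        refine ⟨hc, ?_⟩
        calc ⁅u, v⁆ ^ 2 = ⁅u, v⁆ * u * (v * u⁻¹ * v⁻¹) := by rw [pow_two, commutatorElement_def]; group
          _ = u * ⁅u, v⁆ * (v * u⁻¹ * v⁻¹) := by rw [Subgroup.mem_center_iff.mp hc u]
          _ = u ^ 2 * v * (u ^ 2)⁻¹ * v⁻¹ := by simp only [commutatorElement_def, pow_two]; group
          _ = 1 := by rw [← Subgroup.mem_center_iff.mp (hsq u) v]; group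
      have h2 : (⟨x, hx⟩ : P) ^ 2 ∈ T := hT ((h.2.2.ge) (hsq _))
      have h3 := congrArg Subtype.val h2.2
      simpa [← pow_mul] using h3
  have hAllΦ : P ≤ Φ := by
    intro x hx
    have hle : Subgroup.zpowers x ≤ P := Subgroup.zpowers_le.mpr hx
    obtain ⟨j, hj⟩ := IsPGroup.iff_card.mp (hP.to_le hle)
    have hj2 : j ≤ 2 := (Nat.pow_dvd_pow_iff_le_right one_lt_two).mp
      (by rw [← hj, Nat.card_zpowers]; exact orderOf_dvd_of_pow_eq_one (hfour x hx))
    by_cases hjd : j ≤ d
    · obtain ⟨E, hxE, hEP, hEc⟩ := hmid _ d hle (hj ▸ Nat.pow_le_pow_right two_pos hjd) hde.le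
      exact hinΦ E hEP (hinv E hEP (Or.inl (hEc.trans hd.symm))) (fun h => by rw [h, ← hd] at hEc; omega)
        (hxE (Subgroup.mem_zpowers x))
    · have hd2 : d = 1 ∧ j = 2 := by omega
      obtain ⟨rfl, rfl⟩ := hd2
      refine hinΦ _ hle (hinv _ hle (Or.inr ⟨by rw [hd]; norm_num, by rw [hj]; norm_num⟩)) (fun h => hcase ?_)
        (Subgroup.mem_zpowers x)
      rw [h, he] at hj
      exact Nat.pow_right_injective le_rfl hj
  have := hnong ⊥ bot_le (by rw [bot_sup_eq]; exact le_antisymm (Subgroup.map_subtype_le _) hAllΦ)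
  exact hnt (by rw [← this, Subgroup.commutator_bot_left])

end Cfsg.Agent.S3803
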