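import Cfsg.Statements.S3804
import Mathlib

set_option autoImplicit false
open Cfsg

namespace Cfsg.Agent.S3804

/-- Let G and H be subgroups of a finite group with G normalizing H, fix a real number α > 0, and for a subgroup A of G put m(A) = |A|^α · |C_H(A)|. Let A and B be nontrivial subgroups of G at which m attains its maximum over all nontrivial subgroups of G, and assume that A ∩ B ≠ 1 or that this maximum is at least |H|. Then AB = BA is a subgroup at which m is again maximal, C_H(A ∩ B) = C_H(A) C_H(B), and if A ∩ B ≠ 1 then m is maximal at A ∩ B as well. -/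
theorem result {X : Type*} [Group X] [Finite X] (G H : Subgroup X) (hGH : G ≤ Subgroup.normalizer (H : Set X)) (α : ℝ) (hα : 0 < α)
    (A B : Subgroup X) (hA : A ≤ G) (hB : B ≤ G) (hA1 : A ≠ ⊥) (hB1 : B ≠ ⊥)
    (hAmax : ∀ A' : Subgroup X, A' ≤ G → A' ≠ ⊥ → (fun A : Subgroup X => ((Nat.card A : ℝ) ^ α) * (Nat.card ↥(H ⊓ Subgroup.centralizer (A : Set X)) : ℝ)) A' ≤ (fun A : Subgroup X => ((Nat.card A : ℝ) ^ α) * (Nat.card ↥(H ⊓ Subgroup.centralizer (A : Set X)) : ℝ)) A)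
    (hBmax : ∀ A' : Subgroup X, A' ≤ G → A' ≠ ⊥ → (fun A : Subgroup X => ((Nat.card A : ℝ) ^ α) * (Nat.card ↥(H ⊓ Subgroup.centralizer (A : Set X)) : ℝ)) A' ≤ (fun A : Subgroup X => ((Nat.card A : ℝ) ^ α) * (Nat.card ↥(H ⊓ Subgroup.centralizer (A : Set X)) : ℝ)) B)
    (hcase : A ⊓ B ≠ ⊥ ∨ (Nat.card H : ℝ) ≤ (fun A : Subgroup X => ((Nat.card A : ℝ) ^ α) * (Nat.card ↥(H ⊓ Subgroup.centralizer (A : Set X)) : ℝ)) A) :
    (∀ a ∈ A, ∀ b ∈ B, ∃ b' ∈ B, ∃ a' ∈ A, a * b = b' * a') ∧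
    (∀ A' : Subgroup X, A' ≤ G → A' ≠ ⊥ → (fun A : Subgroup X => ((Nat.card A : ℝ) ^ α) * (Nat.card ↥(H ⊓ Subgroup.centralizer (A : Set X)) : ℝ)) A' ≤ (fun A : Subgroup X => ((Nat.card A : ℝ) ^ α) * (Nat.card ↥(H ⊓ Subgroup.centralizer (A : Set X)) : ℝ)) (A ⊔ B)) ∧
    (∀ h ∈ H ⊓ Subgroup.centralizer ((A ⊓ B : Subgroup X) : Set X), ∃ u ∈ H ⊓ Subgroup.centralizer (A : Set X), ∃ v ∈ H ⊓ Subgroup.centralizer (B : Set X), h = u * v) ∧
    (A ⊓ B ≠ ⊥ → ∀ A' : Subgroup X, A' ≤ G → A' ≠ ⊥ → (fun A : Subgroup X => ((Nat.card A : ℝ) ^ α) * (Nat.card ↥(H ⊓ Subgroup.centralizer (A : Set X)) : ℝ)) A' ≤ (fun A : Subgroup X => ((Nat.card A : ℝ) ^ α) * (Nat.card ↥(H ⊓ Subgroup.centralizer (A : Set X)) : ℝ)) (A ⊓ B)) := by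
  classical
  simp only at hAmax hBmax hcase ⊢
  set C : Subgroup X → Subgroup X := fun A => H ⊓ Subgroup.centralizer (A : Set X) with hC
  set m : Subgroup X → ℝ := fun A => ((Nat.card A : ℝ) ^ α) * (Nat.card ↥(C A) : ℝ) with hm
  have hprod : ∀ (U V T : Subgroup X), U ≤ T → V ≤ T → Nat.card U * Nat.card V ≤ Nat.card T * Nat.card ↥(U ⊓ V) ∧
      (Nat.card U * Nat.card V = Nat.card T * Nat.card ↥(U ⊓ V) → ∀ t ∈ T, ∃ u ∈ U, ∃ v ∈ V, t = u * v) := by
    intro U V T hU hV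
    let e := Subgroup.quotientSubgroupOfEmbeddingOfLE V hU
    have hUi := Subgroup.card_eq_card_quotient_mul_card_subgroup (V.subgroupOf U)
    have hTi := Subgroup.card_eq_card_quotient_mul_card_subgroup (V.subgroupOf T)
    rw [Nat.card_congr (Subgroup.subgroupOfEquivOfLe hV).toEquiv] at hTi
    rw [← Subgroup.inf_subgroupOf_left, Nat.card_congr (Subgroup.subgroupOfEquivOfLe (inf_le_left : U ⊓ V ≤ U)).toEquiv] at hUi
    have hUV : Nat.card (U ⧸ (U ⊓ V).subgroupOf U) = Nat.card (U ⧸ V.subgroupOf U) := by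
      rw [Subgroup.inf_subgroupOf_left]
    rw [hUV] at hUi
    have hle : Nat.card (U ⧸ V.subgroupOf U) ≤ Nat.card (T ⧸ V.subgroupOf T) := Nat.card_le_card_of_injective e e.injective
    refine ⟨?_, fun heq t ht => ?_⟩
    · rw [hUi, hTi]
      calc _ = Nat.card (U ⧸ V.subgroupOf U) * (Nat.card V * Nat.card ↥(U ⊓ V)) := by ring
        _ ≤ Nat.card (T ⧸ V.subgroupOf T) * (Nat.card V * Nat.card ↥(U ⊓ V)) := Nat.mul_le_mul_right _ hle
        _ = _ := by ring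
    · rw [hUi, hTi] at heq
      have heq' : Nat.card (U ⧸ V.subgroupOf U) = Nat.card (T ⧸ V.subgroupOf T) :=
        Nat.eq_of_mul_eq_mul_right (Nat.mul_pos Nat.card_pos Nat.card_pos : 0 < Nat.card V * Nat.card ↥(U ⊓ V)) (by linarith)
      have hsurj : Function.Surjective e := by
        have : Function.Bijective e := (Nat.bijective_iff_injective_and_card _).mpr ⟨e.injective, heq'⟩
        exact this.2
      obtain ⟨q, hq⟩ := hsurj (QuotientGroup.mk ⟨t, ht⟩)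
      induction q using QuotientGroup.induction_on with
      | H u =>
        have h2 : QuotientGroup.mk (⟨(u : X), hU u.2⟩ : T) = (QuotientGroup.mk ⟨t, ht⟩ : T ⧸ V.subgroupOf T) := hq
        rw [QuotientGroup.eq, Subgroup.mem_subgroupOf] at h2
        exact ⟨u, u.2, (u : X)⁻¹ * t, h2, by group⟩
  have hCsup : C (A ⊔ B) = C A ⊓ C B := by
    refine le_antisymm (le_inf (inf_le_inf_left H (Subgroup.centralizer_le (le_sup_left : A ≤ A ⊔ B)))
      (inf_le_inf_left H (Subgroup.centralizer_le (le_sup_right : B ≤ A ⊔ B)))) ?_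
    rintro x ⟨⟨hxH, hxA⟩, -, hxB⟩
    refine ⟨hxH, ?_⟩
    have : A ⊔ B ≤ Subgroup.centralizer ({x} : Set X) := sup_le
      (fun a ha => Subgroup.mem_centralizer_singleton_iff.mpr (Subgroup.mem_centralizer_iff.mp hxA a ha))
      (fun a ha => Subgroup.mem_centralizer_singleton_iff.mpr (Subgroup.mem_centralizer_iff.mp hxB a ha))
    exact Subgroup.mem_centralizer_iff.mpr fun w hw => Subgroup.mem_centralizer_singleton_iff.mp (this hw)
  have hCinf : C A ≤ C (A ⊓ B) ∧ C B ≤ C (A ⊓ B) :=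
    ⟨inf_le_inf_left H (Subgroup.centralizer_le (inf_le_left : A ⊓ B ≤ A)), inf_le_inf_left H (Subgroup.centralizer_le (inf_le_right : A ⊓ B ≤ B))⟩
  obtain ⟨p1, p1'⟩ := hprod A B (A ⊔ B) le_sup_left le_sup_right
  obtain ⟨p2, p2'⟩ := hprod (C A) (C B) (C (A ⊓ B)) hCinf.1 hCinf.2
  rw [← hCsup] at p2 p2'
  have hAB : A ⊔ B ≠ ⊥ := fun e => hA1 (le_bot_iff.mp (e ▸ le_sup_left))
  have hM : m B = m A := le_antisymm (hAmax B hB hB1) (hBmax A hA hA1)
  have hsupM : m (A ⊔ B) ≤ m A := hAmax _ (sup_le hA hB) hAB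
  have hbot : A ⊓ B = ⊥ → m (A ⊓ B) = (Nat.card H : ℝ) := fun e => by
    have h1 : C (A ⊓ B) = H := by
      simp only [hC, e]
      exact inf_eq_left.mpr fun x _ => Subgroup.mem_centralizer_iff.mpr fun y hy => by
        rw [Subgroup.mem_bot.mp hy]; simp
    simp only [hm, h1]
    rw [e, Subgroup.card_bot]; simp
  have hinfM : m (A ⊓ B) ≤ m A := by
    by_cases e : A ⊓ B = ⊥
    · rw [hbot e]; exact hcase.resolve_left (fun h => h e)
    · exact hAmax _ (inf_le_left.trans hA) e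
  set a := (Nat.card A : ℝ) with hadef
  set b := (Nat.card B : ℝ) with hbdef
  set s := (Nat.card ↥(A ⊔ B) : ℝ) with hsdef
  set i := (Nat.card ↥(A ⊓ B) : ℝ) with hidef
  set ca := (Nat.card ↥(C A) : ℝ) with hcadef
  set cb := (Nat.card ↥(C B) : ℝ) with hcbdef
  set cs := (Nat.card ↥(C (A ⊔ B)) : ℝ) with hcsdef
  set ci := (Nat.card ↥(C (A ⊓ B)) : ℝ) with hcidef
  have hpos : ∀ K : Subgroup X, (0 : ℝ) < Nat.card K := fun K => Nat.cast_pos.mpr Nat.card_pos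
  have r1 : a * b ≤ s * i := by rw [hadef, hbdef, hsdef, hidef]; exact_mod_cast p1
  have r2 : ca * cb ≤ ci * cs := by rw [hcadef, hcbdef, hcsdef, hcidef]; exact_mod_cast p2
  have mA : m A = a ^ α * ca := rfl
  have mB : m B = b ^ α * cb := rfl
  have mS : m (A ⊔ B) = s ^ α * cs := rfl
  have mI : m (A ⊓ B) = i ^ α * ci := rfl
  have hab : 0 < a * b := mul_pos (hpos A) (hpos B)
  have hsi : 0 ≤ s * i := (mul_pos (hpos _) (hpos _)).le
  have hpow : (a * b) ^ α ≤ (s * i) ^ α := Real.rpow_le_rpow hab.le r1 hα.le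
  have hmul : m A * m B = (a * b) ^ α * (ca * cb) := by
    rw [mA, mB, Real.mul_rpow (hpos A).le (hpos B).le]; ring
  have hmul2 : m (A ⊔ B) * m (A ⊓ B) = (s * i) ^ α * (ci * cs) := by
    rw [mS, mI, Real.mul_rpow (hpos _).le (hpos _).le]; ring
  have hca : 0 < ca * cb := mul_pos (hpos _) (hpos _)
  have hge : m A * m A ≤ m (A ⊔ B) * m (A ⊓ B) := by
    calc m A * m A = m A * m B := by rw [hM]
      _ = (a * b) ^ α * (ca * cb) := hmul
      _ ≤ (s * i) ^ α * (ci * cs) := mul_le_mul hpow r2 hca.le (Real.rpow_nonneg hsi α)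
      _ = _ := hmul2.symm
  have hmA0 : 0 < m A := mul_pos (Real.rpow_pos_of_pos (hpos A) α) (hpos _)
  have hmI0 : 0 < m (A ⊓ B) := mul_pos (Real.rpow_pos_of_pos (hpos _) α) (hpos _)
  have hmS0 : 0 < m (A ⊔ B) := mul_pos (Real.rpow_pos_of_pos (hpos _) α) (hpos _)
  have eS : m (A ⊔ B) = m A := by nlinarith
  have eI : m (A ⊓ B) = m A := by nlinarith
  have heq : (s * i) ^ α * (ci * cs) = (a * b) ^ α * (ca * cb) := by rw [← hmul2, ← hmul, eS, eI, hM]
  have e1 : a * b = s * i := by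
    by_contra hne
    have hlt : (a * b) ^ α < (s * i) ^ α := Real.rpow_lt_rpow hab.le (lt_of_le_of_ne r1 hne) hα
    have : (a * b) ^ α * (ca * cb) < (s * i) ^ α * (ci * cs) := mul_lt_mul hlt r2 hca (Real.rpow_nonneg hsi α)
    linarith
  have e2 : ca * cb = ci * cs := by
    rw [← e1] at heq
    exact (mul_left_cancel₀ (Real.rpow_pos_of_pos hab α).ne' heq).symm
  refine ⟨fun x hx y hy => ?_, fun A' h1 h2 => (hAmax A' h1 h2).trans eS.ge, fun h hh => ?_,
    fun _ A' h1 h2 => (hAmax A' h1 h2).trans eI.ge⟩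
  · have hN : Nat.card A * Nat.card B = Nat.card ↥(A ⊔ B) * Nat.card ↥(A ⊓ B) := by
      rw [hadef, hbdef, hsdef, hidef] at e1; exact_mod_cast e1
    obtain ⟨u, hu, v, hv, e⟩ := p1' hN (x * y)⁻¹ (inv_mem (mul_mem (Subgroup.mem_sup_left hx) (Subgroup.mem_sup_right hy)))
    exact ⟨v⁻¹, inv_mem hv, u⁻¹, inv_mem hu, by rw [← mul_inv_rev, ← e, inv_inv]⟩
  · refine p2' ?_ h hh
    rw [hcadef, hcbdef, hcsdef, hcidef] at e2; exact_mod_cast e2

end Cfsg.Agent.S3804
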