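import Cfsg.Statements.S3805
import Cfsg.Agent.Lib.Fus.NineFour.Main
-- import your own Cfsg.Agent.* helpers here

set_option autoImplicit false
open Cfsg

namespace Cfsg.Agent.S3805

/-- Let G be a finite group whose Sylow 3-subgroup T is elementary abelian of order 9 and self-centralizing, with N_G(T)/T a Klein four-group, and suppose that the centralizer of every nonidentity element of T lies in N_G(T). Then T is normal in G. -/
theorem result {G : Type*} [Group G] [Finite G]
    (T : Sylow 3 G) (hT : Cfsg.IsElementaryAbelian 3 (T : Subgroup G)) (hcard : Nat.card T = 9)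
    (hC : Subgroup.centralizer ((T : Subgroup G) : Set G) = T)
    [hn : ((T : Subgroup G).subgroupOf (Subgroup.normalizer ((T : Subgroup G) : Set G))).Normal]
    (hK : IsKleinFour (↥(Subgroup.normalizer ((T : Subgroup G) : Set G)) ⧸
      (T : Subgroup G).subgroupOf (Subgroup.normalizer ((T : Subgroup G) : Set G))))
    (hloc : ∀ t ∈ (T : Subgroup G), t ≠ 1 →
      Subgroup.centralizer ({t} : Set G) ≤ Subgroup.normalizer ((T : Subgroup G) : Set G)) :
    Subgroup.normalizer ((T : Subgroup G) : Set G) = ⊤ := by
  have h4 := hK.card_four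
  have hN : Nat.card (Subgroup.normalizer ((T : Subgroup G) : Set G)) = 36 := by
    have h1 := Subgroup.card_eq_card_quotient_mul_card_subgroup
      ((T : Subgroup G).subgroupOf (Subgroup.normalizer ((T : Subgroup G) : Set G)))
    rw [h4, Nat.card_congr (Subgroup.subgroupOfEquivOfLe Subgroup.le_normalizer).toEquiv] at h1
    rw [h1]
    change 4 * Nat.card T = 36
    omega
  refine Fus.NineFour.normalizer_eq_top hT hcard hC hN (fun x hx => ?_) hloc
  have h2 := hK.mul_self (QuotientGroup.mk' ((T : Subgroup G).subgroupOf
    (Subgroup.normalizer ((T : Subgroup G) : Set G))) ⟨x, hx⟩)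
  rw [← map_mul] at h2
  exact Subgroup.mem_subgroupOf.mp ((QuotientGroup.eq_one_iff _).mp h2)

end Cfsg.Agent.S3805
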