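import Cfsg.Statements.S3866
import Mathlib

set_option autoImplicit false
open Cfsg

namespace Cfsg.Agent.S3866
open scoped commutatorElement

/-- Let A be a commutative normal subgroup of the finite group G with G generated by A and an element x. Then a ↦ x a x⁻¹ a⁻¹ is a surjective homomorphism from A onto the commutator subgroup of G whose kernel is the centralizer of x in A; in particular the commutator subgroup has order equal to the index in A of that centralizer. -/
theorem result {G : Type*} [Group G] [Finite G] (A : Subgroup G) [A.Normal] (hA : IsMulCommutative A) (x : G) (hgen : A ⊔ Subgroup.zpowers x = ⊤) : (∀ a ∈ A, x * a * x⁻¹ * a⁻¹ ∈ commutator G) ∧ (∀ c ∈ commutator G, ∃ a ∈ A, x * a * x⁻¹ * a⁻¹ = c) ∧ (∀ a ∈ A, ∀ b ∈ A, x * (a * b) * x⁻¹ * (a * b)⁻¹ = (x * a * x⁻¹ * a⁻¹) * (x * b * x⁻¹ * b⁻¹)) ∧ Nat.card (commutator G) * Nat.card ↥(A ⊓ Subgroup.centralizer ({x} : Set G)) = Nat.card A := by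
  have hcm : ∀ a ∈ A, ∀ b ∈ A, a * b = b * a := fun a ha b hb =>
    congrArg Subtype.val (mul_comm' (⟨a, ha⟩ : A) ⟨b, hb⟩)
  have hmemA : ∀ a ∈ A, x * a * x⁻¹ * a⁻¹ ∈ A := fun a ha => mul_mem (‹A.Normal›.conj_mem a ha x) (inv_mem ha)
  have hhom : ∀ a ∈ A, ∀ b ∈ A, x * (a * b) * x⁻¹ * (a * b)⁻¹ = (x * a * x⁻¹ * a⁻¹) * (x * b * x⁻¹ * b⁻¹) := by
    intro a ha b hb
    have e := hcm a⁻¹ (inv_mem ha) _ (hmemA b hb)
    calc x * (a * b) * x⁻¹ * (a * b)⁻¹ = x * a * x⁻¹ * ((x * b * x⁻¹ * b⁻¹) * a⁻¹) := by group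
      _ = x * a * x⁻¹ * (a⁻¹ * (x * b * x⁻¹ * b⁻¹)) := by rw [e]
      _ = _ := by group
  let φ : A →* G := MonoidHom.mk' (fun a : A => x * (a : G) * x⁻¹ * (a : G)⁻¹) (fun a b => hhom a a.2 b b.2)
  have hle : φ.range ≤ commutator G := by
    rintro _ ⟨a, rfl⟩
    exact Subgroup.commutator_mem_commutator (Subgroup.mem_top x) (Subgroup.mem_top (a : G))
  have hIA : φ.range ≤ A := by rintro _ ⟨a, rfl⟩; exact hmemA a a.2
  have hn : φ.range.Normal := by
    rw [← Subgroup.normalizer_eq_top_iff, eq_top_iff, ← hgen, sup_le_iff, Subgroup.zpowers_le]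
    constructor
    · intro a ha
      refine Subgroup.centralizer_le_normalizer _ (Subgroup.mem_centralizer_iff.mpr fun y hy => hcm y (hIA hy) a ha)
    · rw [Subgroup.mem_normalizer_iff_map_conj_eq]
      refine Subgroup.eq_of_le_of_card_ge ?_ (Subgroup.card_map_of_injective (MulAut.conj x).injective).ge
      rintro _ ⟨_, ⟨a, rfl⟩, rfl⟩
      exact ⟨⟨x * a * x⁻¹, ‹A.Normal›.conj_mem a a.2 x⟩, by simp [φ, mul_assoc]⟩
  have hge : commutator G ≤ φ.range := by
    set q := QuotientGroup.mk' φ.range with hq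
    have hcA : ∀ a ∈ A, Commute (q x) (q a) := fun a ha => by
      have h : q (x * a * x⁻¹ * a⁻¹) = 1 := (QuotientGroup.eq_one_iff _).mpr ⟨⟨a, ha⟩, rfl⟩
      rw [map_mul, map_mul, map_mul, map_inv, map_inv, mul_inv_eq_one, mul_inv_eq_iff_eq_mul] at h
      exact h
    have hZ : ∀ g, q g ∈ Subgroup.center (G ⧸ φ.range) := by
      intro g
      have hgz : g ∈ (Subgroup.center (G ⧸ φ.range)).comap q := by
        suffices h : (⊤ : Subgroup G) ≤ (Subgroup.center (G ⧸ φ.range)).comap q from h (Subgroup.mem_top g)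
        rw [← hgen, sup_le_iff, Subgroup.zpowers_le]
        have hcomm : ∀ z, (∀ a ∈ A, Commute (q z) (q a)) → Commute (q z) (q x) → q z ∈ Subgroup.center _ := by
          intro z h1 h2
          rw [Subgroup.mem_center_iff]
          intro w
          obtain ⟨w, rfl⟩ := QuotientGroup.mk'_surjective _ w
          have : w ∈ (Subgroup.centralizer ({q z} : Set (G ⧸ φ.range))).comap q := by
            suffices h : (⊤ : Subgroup G) ≤ (Subgroup.centralizer ({q z} : Set (G ⧸ φ.range))).comap q from h (Subgroup.mem_top w)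
            rw [← hgen, sup_le_iff, Subgroup.zpowers_le]
            exact ⟨fun a ha => Subgroup.mem_centralizer_singleton_iff.mpr (h1 a ha).symm.eq,
              Subgroup.mem_centralizer_singleton_iff.mpr h2.symm.eq⟩
          exact Subgroup.mem_centralizer_singleton_iff.mp this
        exact ⟨fun a ha => hcomm a (fun b hb => by rw [Commute, SemiconjBy, ← map_mul, hcm a ha b hb, map_mul]) (hcA a ha).symm,
          hcomm x hcA (Commute.refl _)⟩
      exact hgz
    rw [commutator_def, Subgroup.commutator_le]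
    intro a _ b _
    rw [← QuotientGroup.eq_one_iff]
    show q ⁅a, b⁆ = 1
    rw [map_commutatorElement, commutatorElement_eq_one_iff_mul_comm]
    exact Subgroup.mem_center_iff.mp (hZ b) _
  refine ⟨fun a ha => hle ⟨⟨a, ha⟩, rfl⟩, fun c hc => ?_, hhom, ?_⟩
  · obtain ⟨⟨a, ha⟩, rfl⟩ := hge hc
    exact ⟨a, ha, rfl⟩
  · have hker : φ.ker = (A ⊓ Subgroup.centralizer ({x} : Set G)).subgroupOf A := by
      ext ⟨a, ha⟩
      rw [MonoidHom.mem_ker, Subgroup.mem_subgroupOf, Subgroup.mem_inf, Subgroup.mem_centralizer_singleton_iff]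
      show x * a * x⁻¹ * a⁻¹ = 1 ↔ _
      rw [mul_inv_eq_one, mul_inv_eq_iff_eq_mul]
      exact ⟨fun h => ⟨ha, h.symm⟩, fun h => h.2.symm⟩
    rw [le_antisymm hge hle, ← Subgroup.index_ker φ,
      ← Nat.card_congr (Subgroup.subgroupOfEquivOfLe (inf_le_left : A ⊓ Subgroup.centralizer ({x} : Set G) ≤ A)).toEquiv,
      ← hker, mul_comm, Subgroup.card_mul_index]

end Cfsg.Agent.S3866
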