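import Cfsg.Statements.S3807
import Cfsg.Agent.S3866
import Cfsg.Agent.Lib.Grp.PGroupSmall

set_option autoImplicit false
open Cfsg
open scoped commutatorElement

namespace Cfsg.Agent.S3807

/-- Let S be a non-abelian finite p-group with an abelian subgroup A of index p. Then [S : Z(S)] = p·#[S,S], and either [S,S] has order p, S/Z(S) is elementary abelian of order p², and S has exactly p + 1 abelian subgroups of index p; or [S,S] has order at least p² and A is the only abelian subgroup of index p in S. -/
theorem result {S : Type*} [Group S] [Finite S] (p : ℕ) [Fact p.Prime] (hS : IsPGroup p S) (hna : ¬ IsMulCommutative S)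
    (A : Subgroup S) (hA : IsMulCommutative ↥A) (hAi : A.index = p) :
    (Subgroup.center S).index = p * Nat.card (commutator S) ∧
      ((Nat.card (commutator S) = p ∧ Cfsg.IsElementaryAbelian p (⊤ : Subgroup (S ⧸ Subgroup.center S)) ∧
          Nat.card (S ⧸ Subgroup.center S) = p ^ 2 ∧
          Nat.card {B : Subgroup S // IsMulCommutative ↥B ∧ B.index = p} = p + 1) ∨
        (p ^ 2 ≤ Nat.card (commutator S) ∧ ∀ B : Subgroup S, IsMulCommutative ↥B → B.index = p → B = A)) := by
  classical
  haveI := hS.isNilpotent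
  have hp := (Fact.out : p.Prime)
  have hAtop : A ≠ ⊤ := fun e => by rw [e, Subgroup.index_top] at hAi; exact hp.ne_one hAi.symm
  have hcoat : ∀ B : Subgroup S, B.index = p → IsCoatom B := fun B hB => ⟨fun e => by
      rw [e, Subgroup.index_top] at hB; exact hp.ne_one hB.symm, fun K hK => by
    have h1 := Subgroup.relIndex_mul_index hK.le
    rw [hB] at h1
    rcases (Nat.dvd_prime hp).mp (Dvd.intro_left _ h1) with e | e
    · exact Subgroup.index_eq_one.mp e
    · rw [e] at h1
      have : B.relIndex K = 1 := Nat.eq_of_mul_eq_mul_right hp.pos (by rw [h1, one_mul])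
      exact absurd (Subgroup.relIndex_eq_one.mp this) hK.not_ge⟩
  haveI hAn : A.Normal := (Grp.coatom_index_eq_of_pGroup hS (hcoat A hAi)).1
  obtain ⟨x, -, hx⟩ := SetLike.exists_of_lt (lt_top_iff_ne_top.mpr hAtop)
  have hgen : A ⊔ Subgroup.zpowers x = ⊤ := (hcoat A hAi).2 _ (lt_of_le_of_ne le_sup_left fun e =>
    hx (e ▸ Subgroup.mem_sup_right (Subgroup.mem_zpowers x)))
  have hAcm : ∀ a ∈ A, ∀ b ∈ A, a * b = b * a := fun a ha b hb => congrArg Subtype.val (mul_comm' (⟨a, ha⟩ : A) ⟨b, hb⟩)
  set Z := Subgroup.center S with hZ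
  have hZA : ∀ B : Subgroup S, IsMulCommutative B → B.index = p → Z ≤ B := by
    intro B hB hBi z hz
    by_contra hzB
    have hBz : B ⊔ Subgroup.zpowers z = ⊤ := (hcoat B hBi).2 _ (lt_of_le_of_ne le_sup_left fun e =>
      hzB (e ▸ Subgroup.mem_sup_right (Subgroup.mem_zpowers z)))
    refine hna ⟨⟨fun a b => ?_⟩⟩
    have hB' : ∀ u ∈ B, ⊤ ≤ Subgroup.centralizer ({u} : Set S) := fun u hu => hBz ▸ sup_le
      (fun w hw => Subgroup.mem_centralizer_singleton_iff.mpr (congrArg Subtype.val (mul_comm' (⟨w, hw⟩ : B) ⟨u, hu⟩)))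
      (Subgroup.zpowers_le.mpr (Subgroup.center_le_centralizer _ hz))
    have : ⊤ ≤ Subgroup.centralizer ({b} : Set S) := hBz ▸ sup_le
      (fun w hw => Subgroup.mem_centralizer_singleton_iff.mpr (Subgroup.mem_centralizer_singleton_iff.mp (hB' w hw (Subgroup.mem_top b))).symm)
      (Subgroup.zpowers_le.mpr (Subgroup.center_le_centralizer _ hz))
    exact Subgroup.mem_centralizer_singleton_iff.mp (this (Subgroup.mem_top a))
  obtain ⟨-, -, -, hcard⟩ := S3866.result A hA x hgen
  have hAC : A ⊓ Subgroup.centralizer ({x} : Set S) = Z := by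
    refine le_antisymm (fun a ha => ?_) (le_inf (hZA A hA hAi) (Subgroup.center_le_centralizer _))
    refine Subgroup.mem_center_iff.mpr fun g => ?_
    have : ⊤ ≤ Subgroup.centralizer ({a} : Set S) := hgen ▸ sup_le
      (fun w hw => Subgroup.mem_centralizer_singleton_iff.mpr (hAcm w hw a ha.1))
      (Subgroup.zpowers_le.mpr (Subgroup.mem_centralizer_singleton_iff.mpr (Subgroup.mem_centralizer_singleton_iff.mp ha.2).symm))
    exact Subgroup.mem_centralizer_singleton_iff.mp (this (Subgroup.mem_top g))
  rw [hAC] at hcard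
  have hidx : Z.index = p * Nat.card (commutator S) := by
    have h1 := Subgroup.card_mul_index Z
    rw [← Subgroup.card_mul_index A, hAi, ← hcard] at h1
    exact Nat.eq_of_mul_eq_mul_left Nat.card_pos (h1.trans (by ring))
  refine ⟨hidx, ?_⟩
  obtain ⟨k, hk⟩ := IsPGroup.iff_card.mp (hS.to_subgroup (commutator S))
  rcases k with _ | _ | k
  · exfalso
    refine hna ⟨⟨fun a b => ?_⟩⟩
    have h0 : commutator S = ⊥ := Subgroup.card_eq_one.mp (by rw [hk, pow_zero])
    have := Subgroup.commutator_mem_commutator (Subgroup.mem_top a) (Subgroup.mem_top b)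
    rw [← commutator_def, h0, Subgroup.mem_bot, commutatorElement_eq_one_iff_mul_comm] at this
    exact this
  · rw [pow_one] at hk
    have hq : Nat.card (S ⧸ Z) = p ^ 2 := by rw [← Subgroup.index_eq_card, hidx, hk, sq]
    haveI hqc := IsPGroup.isMulCommutative_of_card_eq_prime_sq hq
    have hncyc : ¬ IsCyclic (S ⧸ Z) := fun h => hna ((QuotientGroup.mk' Z).isMulCommutative_of_isCyclic_of_ker_le_center (by rw [QuotientGroup.ker_mk']))
    have hexp : ∀ q : S ⧸ Z, q ^ p = 1 := by
      intro q
      obtain ⟨i, hi, he⟩ := (Nat.dvd_prime_pow hp).mp (hq ▸ orderOf_dvd_natCard q)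
      rcases Nat.lt_or_ge i 2 with h2 | h2
      · exact orderOf_dvd_iff_pow_eq_one.mp (he ▸ (pow_dvd_pow p (by omega : i ≤ 1)).trans (pow_one p).dvd)
      · exact absurd (isCyclic_of_orderOf_eq_card q (by rw [he, hq, show i = 2 by omega])) hncyc
    refine Or.inl ⟨hk, ⟨inferInstance, fun q _ => hexp q⟩, hq, ?_⟩
    set f := QuotientGroup.mk' Z with hf
    have hf' := QuotientGroup.mk'_surjective Z
    have e : {B : Subgroup S // IsMulCommutative ↥B ∧ B.index = p} ≃ {K : Subgroup (S ⧸ Z) // Nat.card K = p} :=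
      { toFun := fun B => ⟨B.1.map f, by
          have h1 : (B.1.map f).index = p := by
            rw [Subgroup.index_map, QuotientGroup.ker_mk', sup_eq_left.mpr (hZA B.1 B.2.1 B.2.2), B.2.2,
              MonoidHom.range_eq_top.mpr hf', Subgroup.index_top, mul_one]
          have h2 := Subgroup.card_mul_index (B.1.map f)
          rw [h1, hq, sq] at h2
          exact Nat.eq_of_mul_eq_mul_right hp.pos h2⟩
        invFun := fun K => ⟨K.1.comap f, by
          refine ⟨?_, ?_⟩
          · haveI : IsCyclic K.1 := isCyclic_of_prime_card K.2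
            let g := f.subgroupComap K.1
            haveI : IsCyclic g.range := isCyclic_of_injective g.range.subtype (Subgroup.subtype_injective _)
            exact g.rangeRestrict.isMulCommutative_of_isCyclic_of_ker_le_center (fun w hw => by
              rw [MonoidHom.ker_rangeRestrict, MonoidHom.mem_ker] at hw
              have hw' : f (w : S) = 1 := congrArg Subtype.val hw
              exact Subgroup.mem_center_iff.mpr fun v => Subtype.ext
                (Subgroup.mem_center_iff.mp ((QuotientGroup.eq_one_iff _).mp hw') v))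
          · rw [Subgroup.index_comap_of_surjective _ hf']
            have h2 := Subgroup.card_mul_index K.1
            rw [K.2, hq, sq] at h2
            exact Nat.eq_of_mul_eq_mul_left hp.pos h2⟩
        left_inv := fun B => Subtype.ext (Subgroup.comap_map_eq_self (by rw [QuotientGroup.ker_mk']; exact hZA B.1 B.2.1 B.2.2))
        right_inv := fun K => Subtype.ext (Subgroup.map_comap_eq_self_of_surjective hf' _) }
    rw [Nat.card_congr e]
    haveI := Fintype.ofFinite (S ⧸ Z)
    set T := {K : Subgroup (S ⧸ Z) // Nat.card K = p}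
    haveI := Fintype.ofFinite T
    have hmem : ∀ q : {q : S ⧸ Z // q ≠ 1}, Nat.card (Subgroup.zpowers q.1) = p := fun q => by
      rw [Nat.card_zpowers, orderOf_eq_prime (hexp q.1) q.2]
    let F : {q : S ⧸ Z // q ≠ 1} → T := fun q => ⟨Subgroup.zpowers q.1, hmem q⟩
    have hfib : ∀ K : T, Nat.card {q // F q = K} = p - 1 := by
      intro K
      haveI := Fintype.ofFinite K.1
      rw [Nat.card_congr (β := {k : K.1 // k ≠ 1}) ?_, Nat.card_eq_fintype_card, Fintype.card_subtype_compl, Fintype.card_subtype_eq,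
        ← Nat.card_eq_fintype_card, K.2]
      exact
        { toFun := fun q => ⟨⟨q.1.1, congrArg Subtype.val q.2 ▸ Subgroup.mem_zpowers q.1.1⟩, fun h => q.1.2 (congrArg Subtype.val h)⟩
          invFun := fun k => ⟨⟨k.1.1, fun h => k.2 (Subtype.ext h)⟩, Subtype.ext (Subgroup.eq_of_le_of_card_ge (Subgroup.zpowers_le.mpr k.1.2)
            (by rw [K.2, hmem ⟨k.1.1, fun h => k.2 (Subtype.ext h)⟩]))⟩
          left_inv := fun q => rfl
          right_inv := fun k => rfl }
    have hsum := Nat.card_congr (Equiv.sigmaFiberEquiv F)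
    rw [Nat.card_sigma, Finset.sum_congr rfl (fun K _ => hfib K), Finset.sum_const, Finset.card_univ, smul_eq_mul,
      Nat.card_eq_fintype_card, Fintype.card_subtype_compl, Fintype.card_subtype_eq, ← Nat.card_eq_fintype_card (α := S ⧸ Z), hq,
      ← Nat.card_eq_fintype_card] at hsum
    have := hp.two_le
    refine Nat.eq_of_mul_eq_mul_right (by omega : 0 < p - 1) (hsum.trans ?_)
    obtain ⟨u, rfl⟩ : ∃ u, p = u + 1 := ⟨p - 1, by omega⟩
    rw [Nat.add_sub_cancel, show (u + 1) ^ 2 = (u + 1 + 1) * u + 1 by ring, Nat.add_sub_cancel]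
  · refine Or.inr ⟨hk ▸ Nat.pow_le_pow_right hp.pos (by omega), fun B hB hBi => ?_⟩
    by_contra hne
    have hsup : A ⊔ B = ⊤ := (hcoat A hAi).2 _ (lt_of_le_of_ne le_sup_left fun e => by
      have h1 : B ≤ A := e ▸ le_sup_right
      rcases eq_or_lt_of_le h1 with e' | e'
      · exact hne e'
      · exact hAtop ((hcoat B hBi).2 A e'))
    have hAB : A ⊓ B ≤ Z := by
      intro a ha
      refine Subgroup.mem_center_iff.mpr fun g => ?_
      have : ⊤ ≤ Subgroup.centralizer ({a} : Set S) := hsup ▸ sup_le
        (fun w hw => Subgroup.mem_centralizer_singleton_iff.mpr (hAcm w hw a ha.1))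
        (fun w hw => Subgroup.mem_centralizer_singleton_iff.mpr (congrArg Subtype.val (mul_comm' (⟨w, hw⟩ : B) ⟨a, ha.2⟩)))
      exact Subgroup.mem_centralizer_singleton_iff.mp (this (Subgroup.mem_top g))
    have h1 : Z.index ≤ p * p := by
      calc Z.index ≤ (A ⊓ B).index := Nat.le_of_dvd (Nat.pos_of_ne_zero Subgroup.index_ne_zero_of_finite) (Subgroup.index_dvd_of_le hAB)
        _ ≤ A.index * B.index := Subgroup.index_inf_le
        _ = p * p := by rw [hAi, hBi]
    rw [hidx, hk] at h1
    have h2 : p ^ 2 ≤ p ^ (k + 1 + 1) := Nat.pow_le_pow_right hp.pos (by omega)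
    nlinarith [hp.two_le]

end Cfsg.Agent.S3807
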