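import Cfsg.Statements.S3808
import Cfsg.Agent.Lib.Grp.Frattini

set_option autoImplicit false
open Cfsg

namespace Cfsg.Agent.S3808

/-- Let S be a finite p-group with an extraspecial subgroup Q of index p. Then either Z(S) = Z(Q), or S = Q·Z(S) and Z(S) has order p². -/
theorem result {S : Type*} [Group S] [Finite S] (p : ℕ) [Fact p.Prime] (hS : IsPGroup p S) (Q : Subgroup S) (hQ : Cfsg.IsExtraspecial p ↥Q) (hQi : Q.index = p) :
    Subgroup.center S = (Subgroup.center ↥Q).map Q.subtype ∨
      (Q ⊔ Subgroup.center S = ⊤ ∧ Nat.card (Subgroup.center S) = p ^ 2) := by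
  set Z0 := (Subgroup.center ↥Q).map Q.subtype with hZ0
  have hQn : Q.Normal := by
    haveI : Group.IsNilpotent S := hS.isNilpotent
    refine (Grp.coatom_index_eq_of_pGroup hS ⟨fun e => ?_, fun K hK => ?_⟩).1
    · rw [e, Subgroup.index_top] at hQi; exact (Fact.out : p.Prime).ne_one hQi.symm
    · have h1 := Subgroup.relIndex_mul_index hK.le
      rw [hQi] at h1
      rcases (Nat.dvd_prime (Fact.out : p.Prime)).mp (Dvd.intro_left _ h1) with e | e
      · exact Subgroup.index_eq_one.mp e
      · rw [e] at h1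
        have : Q.relIndex K = 1 := by
          refine Nat.eq_of_mul_eq_mul_right (Fact.out : p.Prime).pos ?_
          rw [h1, one_mul]
        exact absurd (Subgroup.relIndex_eq_one.mp this) hK.not_ge
  have hZ0n : Z0.Normal := inferInstance
  have hZ0card : Nat.card Z0 = p := by
    rw [hZ0, Subgroup.card_map_of_injective Q.subtype_injective, hQ.2]
  have hZ0c : Z0 ≤ Subgroup.center S := by
    have hnt : Nontrivial Z0 := Finite.one_lt_card_iff_nontrivial.mp (hZ0card ▸ (Fact.out : p.Prime).one_lt)
    by_contra hle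
    have h1 := Subgroup.card_dvd_of_le (inf_le_left : Z0 ⊓ Subgroup.center S ≤ Z0)
    rw [hZ0card] at h1
    rcases (Nat.dvd_prime (Fact.out : p.Prime)).mp h1 with e | e
    · haveI := hS.isNilpotent
      have hne : Z0 ≠ ⊥ := fun e' => by rw [e', Subgroup.card_bot] at hZ0card; exact (Fact.out : p.Prime).ne_one hZ0card.symm
      exact Grp.inf_center_ne_bot Z0 hne (Subgroup.card_eq_one.mp e)
    · exact hle (inf_eq_left.mp (Subgroup.eq_of_le_of_card_ge inf_le_left (by rw [e, hZ0card])))
  have hinter : Subgroup.center S ⊓ Q ≤ Z0 := by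
    rintro z ⟨hz, hzQ⟩
    exact ⟨⟨z, hzQ⟩, Subgroup.mem_center_iff.mpr fun w => Subtype.ext (Subgroup.mem_center_iff.mp hz w), rfl⟩
  by_cases hle : Subgroup.center S ≤ Q
  · exact Or.inl (le_antisymm (fun z hz => hinter ⟨hz, hle hz⟩) hZ0c)
  right
  have htop : Q ⊔ Subgroup.center S = ⊤ := by
    rw [← Subgroup.index_eq_one]
    have h1 := Subgroup.index_dvd_of_le (le_sup_left : Q ≤ Q ⊔ Subgroup.center S)
    rw [hQi] at h1
    rcases (Nat.dvd_prime (Fact.out : p.Prime)).mp h1 with e | e
    · exact e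
    · exact absurd (le_sup_right.trans (Subgroup.eq_of_le_of_card_ge le_sup_left (by
        have a1 := Subgroup.card_mul_index (Q ⊔ Subgroup.center S)
        have a2 := Subgroup.card_mul_index Q
        rw [e, ← a2, hQi] at a1
        exact (Nat.eq_of_mul_eq_mul_right (Fact.out : p.Prime).pos a1).le)).ge) hle
  refine ⟨htop, ?_⟩
  have h := Grp.card_sup_mul_card_inf_normal (H := Q) (N := Subgroup.center S)
  rw [htop, Subgroup.card_top, inf_comm, le_antisymm hinter (le_inf hZ0c (Subgroup.map_subtype_le _)), hZ0card,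
    ← Subgroup.card_mul_index Q, hQi, mul_assoc] at h
  rw [sq]
  exact (Nat.eq_of_mul_eq_mul_left Nat.card_pos h).symm

end Cfsg.Agent.S3808
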