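import Cfsg.Statements.S3809
import Cfsg.Agent.Lib.Grp.Frattini
import Cfsg.Agent.S0095
import Cfsg.Agent.S3808

set_option autoImplicit false
open Cfsg
open scoped commutatorElement

namespace Cfsg.Agent.S3809

/-- Let S be a finite p-group with an extraspecial subgroup of index p. Then S has order p^(2+2n) for some n ≥ 1, derived length at most 3, and exponent dividing p³. -/
theorem result {S : Type*} [Group S] [Finite S] (p : ℕ) [Fact p.Prime] (hS : IsPGroup p S) (Q : Subgroup S) (hQ : Cfsg.IsExtraspecial p ↥Q) (hQi : Q.index = p) :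
    (∃ n : ℕ, 1 ≤ n ∧ Nat.card S = p ^ (2 + 2 * n)) ∧ derivedSeries S 3 = ⊥ ∧ ∀ x : S, x ^ (p ^ 3) = 1 := by
  haveI := hS.isNilpotent
  have hp := (Fact.out : p.Prime)
  obtain ⟨n, hn, hcard⟩ := S0095.result hQ
  have hQn : Q.Normal := by
    refine (Grp.coatom_index_eq_of_pGroup hS ⟨fun e => ?_, fun K hK => ?_⟩).1
    · rw [e, Subgroup.index_top] at hQi; exact hp.ne_one hQi.symm
    · have h1 := Subgroup.relIndex_mul_index hK.le
      rw [hQi] at h1
      rcases (Nat.dvd_prime hp).mp (Dvd.intro_left _ h1) with e | e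
      · exact Subgroup.index_eq_one.mp e
      · rw [e] at h1
        have : Q.relIndex K = 1 := Nat.eq_of_mul_eq_mul_right hp.pos (by rw [h1, one_mul])
        exact absurd (Subgroup.relIndex_eq_one.mp this) hK.not_ge
  refine ⟨⟨n, hn, ?_⟩, ?_, fun x => ?_⟩
  · rw [← Subgroup.card_mul_index Q, hcard, hQi, ← pow_succ, show 2 * n + 1 + 1 = 2 + 2 * n by ring]
  · have h1 : derivedSeries S 1 ≤ Q := by
      rw [derivedSeries_one]
      have hcyc : IsCyclic (S ⧸ Q) := isCyclic_of_prime_card (p := p) (by rw [← Subgroup.index_eq_card, hQi])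
      rw [commutator_def, Subgroup.commutator_le]
      intro a _ b _
      rw [← QuotientGroup.eq_one_iff]
      show QuotientGroup.mk' Q ⁅a, b⁆ = 1
      rw [map_commutatorElement, commutatorElement_eq_one_iff_mul_comm]
      exact mul_comm' _ _
    have h2 : derivedSeries S 2 ≤ (Subgroup.center Q).map Q.subtype := by
      rw [derivedSeries_succ, ← hQ.1.2.2, commutator_def, Subgroup.map_commutator, ← MonoidHom.range_eq_map, Subgroup.range_subtype]
      exact Subgroup.commutator_mono h1 h1
    rw [derivedSeries_succ, eq_bot_iff]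
    refine (Subgroup.commutator_mono h2 h2).trans ?_
    rw [← Subgroup.map_commutator, le_bot_iff, Subgroup.map_eq_bot_iff_of_injective _ Q.subtype_injective,
      Subgroup.commutator_eq_bot_iff_le_centralizer]
    exact Subgroup.center_le_centralizer _
  · have h1 : x ^ p ∈ Q := by
      rw [← QuotientGroup.eq_one_iff]
      show QuotientGroup.mk' Q (x ^ p) = 1
      rw [map_pow, ← hQi, Subgroup.index_eq_card, pow_card_eq_one']
    have h2 : (⟨x ^ p, h1⟩ : Q) ^ p ∈ Subgroup.center Q := by
      rw [← hQ.1.2.1]; exact Grp.pGroup_pow_mem_frattini hQ.1.1 _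
    have h3 := pow_card_eq_one' (G := Subgroup.center Q) (x := ⟨_, h2⟩)
    rw [hQ.2] at h3
    have h4 : ((x ^ p) ^ p) ^ p = 1 := congrArg (fun z : Subgroup.center Q => ((z : Q) : S)) h3
    rw [show p ^ 3 = p * p * p by ring, pow_mul, pow_mul]
    exact h4

end Cfsg.Agent.S3809
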