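import Cfsg.Statements.S3810
import Cfsg.Agent.S3866
import Cfsg.Agent.S0095
import Cfsg.Agent.S3808
import Cfsg.Agent.S3809

set_option autoImplicit false
open Cfsg

namespace Cfsg.Agent.S3810

/-- Let S be a finite p-group with an extraspecial subgroup of index p. Then S has an abelian subgroup of index p if and only if S has order p⁴. -/
theorem result {S : Type*} [Group S] [Finite S] (p : ℕ) [Fact p.Prime] (hS : IsPGroup p S) (Q : Subgroup S) (hQ : Cfsg.IsExtraspecial p ↥Q) (hQi : Q.index = p) :
    (∃ A : Subgroup S, IsMulCommutative ↥A ∧ A.index = p) ↔ Nat.card S = p ^ 4 := by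
  classical
  haveI := hS.isNilpotent
  have hp := (Fact.out : p.Prime)
  obtain ⟨n, hn, hcard⟩ := S0095.result hQ
  have hScard : Nat.card S = p ^ (2 * n + 1) * p := by rw [← Subgroup.card_mul_index Q, hcard, hQi]
  constructor
  · rintro ⟨A, hA, hAi⟩
    suffices n = 1 by rw [hScard, this, ← pow_succ]
    by_contra hn1
    set B := A.subgroupOf Q with hB
    have hBi : B.index ≤ p := by
      show A.relIndex Q ≤ p
      rw [← hAi, ← Subgroup.relIndex_top_right A]; exact Subgroup.relIndex_le_of_le_right le_top (Subgroup.index_ne_zero_of_finite)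
    have hBc : IsMulCommutative B := ⟨⟨fun a b => Subtype.ext (Subtype.ext (by
      haveI := hA
      have e := congrArg Subtype.val (mul_comm' (⟨((a : Q) : S), a.2⟩ : A) ⟨((b : Q) : S), b.2⟩)
      simpa using e))⟩⟩
    have hBtop : B ≠ ⊤ := by
      intro e
      have hc : Subgroup.center Q = ⊤ := eq_top_iff.mpr fun a _ => Subgroup.mem_center_iff.mpr fun b =>
        congrArg Subtype.val (hBc.is_comm.comm (⟨b, e ▸ Subgroup.mem_top b⟩ : B) ⟨a, e ▸ Subgroup.mem_top a⟩)
      have := hQ.2
      rw [hc, Subgroup.card_top, hcard] at this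
      exact absurd this (Nat.ne_of_gt (lt_of_lt_of_le (by nlinarith [hp.two_le] : p < p ^ 2) (Nat.pow_le_pow_right hp.pos (by omega))))
    obtain ⟨k, hk⟩ := hQ.1.1.index B
    have hk1 : B.index = p := by
      rcases k with _ | _ | k
      · exact absurd (Subgroup.index_eq_one.mp (by rw [hk, pow_zero])) hBtop
      · rw [hk, pow_one]
      · exfalso
        have : p ^ 2 ≤ p ^ (k + 2) := Nat.pow_le_pow_right hp.pos (by omega)
        rw [hk] at hBi
        nlinarith [hp.two_le]
    haveI := hQ.1.1.isNilpotent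
    haveI hBn : B.Normal := by
      refine (Grp.coatom_index_eq_of_pGroup hQ.1.1 ⟨hBtop, fun K hK => ?_⟩).1
      have h1 := Subgroup.relIndex_mul_index hK.le
      rw [hk1] at h1
      rcases (Nat.dvd_prime hp).mp (Dvd.intro_left _ h1) with e | e
      · exact Subgroup.index_eq_one.mp e
      · rw [e] at h1
        have : B.relIndex K = 1 := Nat.eq_of_mul_eq_mul_right hp.pos (by rw [h1, one_mul])
        exact absurd (Subgroup.relIndex_eq_one.mp this) hK.not_ge
    obtain ⟨x, -, hx⟩ := SetLike.exists_of_lt (lt_top_iff_ne_top.mpr hBtop)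
    have hgen : B ⊔ Subgroup.zpowers x = ⊤ := by
      rw [← Subgroup.index_eq_one]
      have h1 := Subgroup.index_dvd_of_le (le_sup_left : B ≤ B ⊔ Subgroup.zpowers x)
      rw [hk1] at h1
      rcases (Nat.dvd_prime hp).mp h1 with e | e
      · exact e
      · exfalso
        have a1 := Subgroup.card_mul_index (B ⊔ Subgroup.zpowers x)
        rw [e, ← Subgroup.card_mul_index B, hk1] at a1
        exact hx ((Subgroup.eq_of_le_of_card_ge le_sup_left (Nat.eq_of_mul_eq_mul_right hp.pos a1).le).ge (Subgroup.mem_sup_right (Subgroup.mem_zpowers x)))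
    obtain ⟨-, -, -, hcardeq⟩ := S3866.result B hBc x hgen
    rw [hQ.1.2.2, hQ.2] at hcardeq
    have hcz : B ⊓ Subgroup.centralizer ({x} : Set Q) ≤ Subgroup.center Q := by
      intro b hb
      rw [Subgroup.mem_center_iff]
      intro g
      have : (⊤ : Subgroup Q) ≤ Subgroup.centralizer ({b} : Set Q) := by
        rw [← hgen, sup_le_iff, Subgroup.zpowers_le]
        refine ⟨fun c hc => Subgroup.mem_centralizer_singleton_iff.mpr (congrArg Subtype.val (hBc.is_comm.comm (⟨c, hc⟩ : B) ⟨b, hb.1⟩)), ?_⟩
        exact Subgroup.mem_centralizer_singleton_iff.mpr (Subgroup.mem_centralizer_singleton_iff.mp hb.2).symm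
      exact Subgroup.mem_centralizer_singleton_iff.mp (this (Subgroup.mem_top g))
    have h2 : Nat.card ↥(B ⊓ Subgroup.centralizer ({x} : Set Q)) ≤ p := (Subgroup.card_le_of_le hcz).trans hQ.2.le
    have h3 := Subgroup.card_mul_index B
    rw [hk1, hcard] at h3
    have h4 : p ^ (2 * n + 1) ≤ p * p * p := by rw [← h3, ← hcardeq]; exact Nat.mul_le_mul_right p (Nat.mul_le_mul_left p h2)
    have h5 : p ^ 4 ≤ p ^ (2 * n + 1) := Nat.pow_le_pow_right hp.pos (by omega)
    nlinarith [hp.two_le]
  · intro h4
    have hn1 : n = 1 := by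
      rw [hScard, ← pow_succ] at h4
      have := Nat.pow_right_injective hp.two_le h4
      omega
    subst hn1
    have hQ3 : Nat.card Q = p ^ 3 := hcard
    have hmk : ∀ (E : Subgroup S), E ≤ Subgroup.center S → Nat.card E = p ^ 2 → ∃ A : Subgroup S, IsMulCommutative A ∧ A.index = p := by
      intro E hE hEc
      obtain ⟨A, hA, hEA⟩ := Sylow.exists_subgroup_card_pow_prime_le p (n := 2) (m := 3) (show p ^ 3 ∣ Nat.card S from h4 ▸ pow_dvd_pow p (by omega)) E hEc (by norm_num)
      refine ⟨A, ?_, ?_⟩
      · haveI : (E.subgroupOf A).Normal := ⟨fun z hz g => by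
          rw [Subgroup.mem_subgroupOf] at hz ⊢
          simp [Subgroup.mem_center_iff.mp (hE hz), hz]⟩
        have hcyc : IsCyclic (A ⧸ E.subgroupOf A) := by
          refine isCyclic_of_prime_card (p := p) ?_
          have := Subgroup.card_eq_card_quotient_mul_card_subgroup (E.subgroupOf A)
          rw [hA, Nat.card_congr (Subgroup.subgroupOfEquivOfLe hEA).toEquiv, hEc] at this
          exact Nat.eq_of_mul_eq_mul_right (pow_pos hp.pos 2) (by rw [← this]; ring)
        exact (QuotientGroup.mk' (E.subgroupOf A)).isMulCommutative_of_isCyclic_of_ker_le_center (by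
          rw [QuotientGroup.ker_mk']
          exact fun z hz => Subgroup.mem_center_iff.mpr fun w => Subtype.ext (Subgroup.mem_center_iff.mp (hE hz) w))
      · have := Subgroup.card_mul_index A
        rw [hA, h4] at this
        exact Nat.eq_of_mul_eq_mul_left (pow_pos hp.pos 3) (by rw [this]; ring)
    rcases S3808.result p hS Q hQ hQi with hz | ⟨-, hz⟩
    swap
    · exact hmk _ le_rfl hz
    set Z := Subgroup.center S with hZ
    have hZc : Nat.card Z = p := by rw [hz, Subgroup.card_map_of_injective Q.subtype_injective, hQ.2]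
    have hZQ : Z ≤ Q := hz ▸ Subgroup.map_subtype_le _
    have hQn : Q.Normal := by
      refine (Grp.coatom_index_eq_of_pGroup hS ⟨fun e => ?_, fun K hK => ?_⟩).1
      · rw [e, Subgroup.index_top] at hQi; exact hp.ne_one hQi.symm
      · have h1 := Subgroup.relIndex_mul_index hK.le
        rw [hQi] at h1
        rcases (Nat.dvd_prime hp).mp (Dvd.intro_left _ h1) with e | e
        · exact Subgroup.index_eq_one.mp e
        · rw [e] at h1
          have : Q.relIndex K = 1 := Nat.eq_of_mul_eq_mul_right hp.pos (by rw [h1, one_mul])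
          exact absurd (Subgroup.relIndex_eq_one.mp this) hK.not_ge
    set f := QuotientGroup.mk' Z
    have hne : Q.map f ≠ ⊥ := by
      intro e
      rw [Subgroup.map_eq_bot_iff, QuotientGroup.ker_mk'] at e
      have := Subgroup.card_le_of_le e
      rw [hQ3, hZc] at this
      nlinarith [hp.two_le, pow_succ p 2, sq p]
    haveI : (Q.map f).Normal := hQn.map f (QuotientGroup.mk'_surjective Z)
    have hinf : Q.map f ⊓ Subgroup.center (S ⧸ Z) ≠ ⊥ := Grp.inf_center_ne_bot (Q.map f) hne
    obtain ⟨ē, ⟨⟨e, heQ, hee⟩, hec⟩, hne1⟩ : ∃ ē ∈ Q.map f ⊓ Subgroup.center (S ⧸ Z), ē ≠ 1 := by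
      by_contra hc
      push Not at hc
      exact hinf ((Subgroup.eq_bot_iff_forall _).mpr hc)
    subst hee
    have heZ : e ∉ Z := fun h => hne1 ((QuotientGroup.eq_one_iff e).mpr h)
    have hcm : ∀ s : S, s * e * s⁻¹ * e⁻¹ ∈ Z := fun s => by
      rw [← QuotientGroup.eq_one_iff]
      show f (s * e * s⁻¹ * e⁻¹) = 1
      rw [map_mul, map_mul, map_mul, Subgroup.mem_center_iff.mp hec (f s), map_inv, map_inv]
      group
    let ψ : S →* Z := MonoidHom.mk' (fun s => ⟨s * e * s⁻¹ * e⁻¹, hcm s⟩) (fun a b => Subtype.ext (by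
      show a * b * e * (a * b)⁻¹ * e⁻¹ = (a * e * a⁻¹ * e⁻¹) * (b * e * b⁻¹ * e⁻¹)
      calc a * b * e * (a * b)⁻¹ * e⁻¹ = a * (b * e * b⁻¹ * e⁻¹) * (e * a⁻¹ * e⁻¹) := by group
        _ = (b * e * b⁻¹ * e⁻¹) * a * (e * a⁻¹ * e⁻¹) := by rw [Subgroup.mem_center_iff.mp (hcm b) a]
        _ = (b * e * b⁻¹ * e⁻¹) * (a * e * a⁻¹ * e⁻¹) := by group
        _ = _ := (Subgroup.mem_center_iff.mp (hcm b) _).symm))
    set C := Subgroup.centralizer ({e} : Set S) with hC
    have hker : ψ.ker = C := by
      ext s
      rw [MonoidHom.mem_ker, hC, Subgroup.mem_centralizer_singleton_iff]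
      show (⟨_, _⟩ : Z) = 1 ↔ _
      rw [Subtype.ext_iff]
      show s * e * s⁻¹ * e⁻¹ = 1 ↔ _
      rw [mul_inv_eq_one, mul_inv_eq_iff_eq_mul]
    have hCi : C.index ≤ p := by
      rw [← hker, Subgroup.index_ker, ← hZc]
      exact Subgroup.card_le_card_group _
    set E := Z ⊔ Subgroup.zpowers e with hE
    have hEC : E ≤ C := sup_le (Subgroup.center_le_centralizer _) (Subgroup.zpowers_le.mpr (Subgroup.mem_centralizer_singleton_iff.mpr rfl))
    have hCE : ∀ c ∈ C, ∀ u ∈ E, c * u = u * c := by
      intro c hc u hu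
      have : E ≤ Subgroup.centralizer ({c} : Set S) := sup_le (Subgroup.center_le_centralizer _)
        (Subgroup.zpowers_le.mpr (Subgroup.mem_centralizer_singleton_iff.mpr (Subgroup.mem_centralizer_singleton_iff.mp hc).symm))
      exact (Subgroup.mem_centralizer_singleton_iff.mp (this hu)).symm
    obtain ⟨j, hj⟩ := IsPGroup.iff_card.mp (hS.to_subgroup E)
    obtain ⟨i, hi⟩ := hS.index C
    have hi1 : i ≤ 1 := by
      by_contra hc
      have : p ^ 2 ≤ p ^ i := Nat.pow_le_pow_right hp.pos (by omega)
      rw [hi] at hCi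
      nlinarith [hp.two_le]
    have hj2 : 2 ≤ j := by
      by_contra hc
      have h1 : Z = E := Subgroup.eq_of_le_of_card_ge le_sup_left (by
        rw [hj, hZc]; exact (Nat.pow_le_pow_right hp.pos (by omega : j ≤ 1)).trans (pow_one p).le)
      exact heZ (h1 ▸ Subgroup.mem_sup_right (Subgroup.mem_zpowers e))
    obtain ⟨m, hm⟩ := IsPGroup.iff_card.mp (hS.to_subgroup C)
    have hm4 : m + i = 4 := by
      have := Subgroup.card_mul_index C
      rw [hm, hi, h4, ← pow_add] at this
      exact Nat.pow_right_injective hp.two_le this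
    rcases Nat.eq_or_lt_of_le hi1 with hi' | hi'
    · have hm3 : m = 3 := by omega
      refine ⟨C, ?_, by rw [hi, hi', pow_one]⟩
      haveI : (E.subgroupOf C).Normal := ⟨fun z hz g => by
        rw [Subgroup.mem_subgroupOf] at hz ⊢
        simp [hCE g g.2 z hz, hz]⟩
      have hcyc : IsCyclic (C ⧸ E.subgroupOf C) := by
        have h0 := Subgroup.card_eq_card_quotient_mul_card_subgroup (E.subgroupOf C)
        rw [hm, hm3, Nat.card_congr (Subgroup.subgroupOfEquivOfLe hEC).toEquiv, hj] at h0
        have hj3 : j ≤ 3 := by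
          by_contra hc
          have := Subgroup.card_le_of_le hEC
          rw [hj, hm, hm3] at this
          exact absurd ((Nat.pow_le_pow_iff_right hp.one_lt).mp this) (by omega)
        rcases Nat.eq_or_lt_of_le hj3 with e3 | e3
        · subst e3
          have : Nat.card (C ⧸ E.subgroupOf C) = 1 := (Nat.mul_eq_right (pow_pos hp.pos 3).ne').mp h0.symm
          haveI := (Nat.card_eq_one_iff_unique.mp this).1
          exact isCyclic_of_subsingleton
        · obtain rfl : j = 2 := by omega
          exact isCyclic_of_prime_card (p := p) (Nat.eq_of_mul_eq_mul_right (pow_pos hp.pos 2) (by rw [← h0]; ring))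
      exact (QuotientGroup.mk' (E.subgroupOf C)).isMulCommutative_of_isCyclic_of_ker_le_center (by
        rw [QuotientGroup.ker_mk']
        exact fun z hz => Subgroup.mem_center_iff.mpr fun w => Subtype.ext (hCE w w.2 z hz))
    · exfalso
      have hCtop : C = ⊤ := Subgroup.index_eq_one.mp (by rw [hi, show i = 0 by omega, pow_zero])
      exact heZ (Subgroup.mem_center_iff.mpr fun g => Subgroup.mem_centralizer_singleton_iff.mp (hCtop ▸ Subgroup.mem_top g : g ∈ C))

end Cfsg.Agent.S3810
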