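import Cfsg.Statements.S3815
import Cfsg.Agent.Lib.Grp.Cores

set_option autoImplicit false
open Cfsg

namespace Cfsg.Agent.S3815

/-- Let G be a finite group, p a prime and d ∈ G an element of order prime to p. If dg has order prime to p for every element g ∈ G of order prime to p, then d ∈ O_{p'}(G). -/
theorem result {G : Type*} [Group G] [Finite G] {p : ℕ} [Fact p.Prime]
    (d : G) (hd : (orderOf d).Coprime p)
    (h : ∀ g : G, (orderOf g).Coprime p → (orderOf (d * g)).Coprime p) :
    d ∈ Cfsg.pPrimeCore p G := by
  classical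
  set S : Set G := {x | ∃ g : G, x = g * d * g⁻¹} with hS
  have hclosed : ∀ x ∈ S, ∀ y : G, (orderOf y).Coprime p → (orderOf (y * x)).Coprime p := by
    rintro _ ⟨g, rfl⟩ y hy
    have e : orderOf (y * (g * d * g⁻¹)) = orderOf (d * (g⁻¹ * y * g)) := by
      rw [← orderOf_injective (MulAut.conj (d * g⁻¹)).toMonoidHom (MulAut.conj (d * g⁻¹)).injective (y * (g * d * g⁻¹))]
      simp [mul_assoc]
    rw [e]
    refine h _ ?_
    rwa [show g⁻¹ * y * g = MulAut.conj g⁻¹ y by simp,
      show orderOf (MulAut.conj g⁻¹ y) = orderOf y from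
        orderOf_injective (MulAut.conj g⁻¹).toMonoidHom (MulAut.conj g⁻¹).injective y]
  have hN : (Subgroup.normalClosure ({d} : Set G)).Normal := inferInstance
  have hsub : ∀ x ∈ Subgroup.normalClosure ({d} : Set G), (orderOf x).Coprime p := by
    intro x hx
    have hx' : x ∈ Submonoid.closure S := by
      have hm : Subgroup.normalClosure ({d} : Set G) = Subgroup.closure S := by
        rw [Subgroup.normalClosure]
        congr 1
        ext y
        simp [hS, Group.mem_conjugatesOfSet_iff, isConj_iff, eq_comm]
      rw [hm, ← Subgroup.mem_toSubmonoid, Subgroup.closure_toSubmonoid_of_finite] at hx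
      exact hx
    clear hx
    induction hx' using Submonoid.closure_induction_right with
    | one => simp
    | mul_right a ha b hb ih => exact hclosed b hb a ih
  refine Grp.le_pPrimeCore hN ?_ (Subgroup.subset_normalClosure rfl)
  refine ((Fact.out : p.Prime).coprime_iff_not_dvd.mpr fun hd => ?_).symm
  obtain ⟨z, hz⟩ := exists_prime_orderOf_dvd_card' (G := Subgroup.normalClosure ({d} : Set G)) p hd
  have h1 := hsub z z.2
  rw [Subgroup.orderOf_coe, hz] at h1
  exact ((Fact.out : p.Prime).coprime_iff_not_dvd.mp h1) dvd_rfl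

end Cfsg.Agent.S3815
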