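import Cfsg.Statements.S3818
import Cfsg.Agent.Lib.Grp.FixHalf
-- import your own Cfsg.Agent.* helpers here

set_option autoImplicit false
open Cfsg

namespace Cfsg.Agent.S3818

/-- Let G be a finite solvable group and P a subgroup of G of prime order p > 3 whose conjugates generate G. Let V be a faithful irreducible representation of G over a field of positive characteristic, finite-dimensional. Then the subspace of V fixed by P has dimension less than half the dimension of V. -/
theorem result {G : Type*} [Group G] [Finite G] [Group.IsSolvable G]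
    {p : ℕ} [Fact p.Prime] (hp : 3 < p) (P : Subgroup G) (hP : Nat.card P = p) (hgen : Subgroup.normalClosure (P : Set G) = ⊤)
    {k : Type*} [Field k] (ℓ : ℕ) [Fact ℓ.Prime] [CharP k ℓ]
    {V : Type*} [AddCommGroup V] [Module k V] [FiniteDimensional k V]
    (ρ : Representation k G V) [ρ.IsIrreducible] (hfaith : Function.Injective ρ) :
    2 * Module.finrank k ↥(⨅ g : ↥P, LinearMap.ker (ρ (g : G) - LinearMap.id)) < Module.finrank k V := by
  classical
  have hp' : p.Prime := Fact.out
  obtain ⟨⟨x, hx⟩, hxgen⟩ := (isCyclic_of_prime_card hP).exists_generator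
  have hxp : x ^ p = 1 := by
    have := pow_card_eq_one' (x := (⟨x, hx⟩ : P))
    rw [hP] at this
    exact congrArg Subtype.val this
  have hPx : P ≤ Subgroup.zpowers x := fun y hy => by
    obtain ⟨n, hn⟩ := Subgroup.mem_zpowers_iff.mp (hxgen ⟨y, hy⟩)
    exact ⟨n, congrArg Subtype.val hn⟩
  have hx1 : x ≠ 1 := by
    intro h
    subst h
    rw [Subgroup.zpowers_one_eq_bot, le_bot_iff] at hPx
    rw [hPx, Subgroup.card_bot] at hP
    omega
  have hgen' : Subgroup.normalClosure ({x} : Set G) = ⊤ := by
    rw [eq_top_iff, ← hgen]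
    exact Subgroup.normalClosure_le_normal (SetLike.coe_subset_coe.mpr (hPx.trans
      (Subgroup.zpowers_le.mpr (Subgroup.subset_normalClosure rfl))))
  have hirr : Cfsg.Agent.Grp.FixHalf.Irred ρ := by
    refine ⟨?_, fun W hW => ?_⟩
    · by_contra hn
      rw [not_nontrivial_iff_subsingleton] at hn
      obtain ⟨a, b, hab⟩ := exists_pair_ne (Subrepresentation ρ)
      exact hab (Subrepresentation.toSubmodule_injective (Subsingleton.elim _ _))
    · rcases IsSimpleOrder.eq_bot_or_eq_top (⟨W, fun g _ hv => hW g _ hv⟩ : Subrepresentation ρ) with h | h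
      · exact Or.inl (congrArg Subrepresentation.toSubmodule h)
      · exact Or.inr (congrArg Subrepresentation.toSubmodule h)
  have hb := Cfsg.Agent.Grp.FixHalf.two_mul_fix_lt ρ hirr hfaith x hp' hp hxp hx1 hgen'
  have he : (⨅ g : ↥P, LinearMap.ker (ρ (g : G) - LinearMap.id)) = Cfsg.Agent.Grp.FixHalf.fixs ρ x := by
    refine le_antisymm (iInf_le_of_le ⟨x, hx⟩ le_rfl) (le_iInf fun g v hv => ?_)
    obtain ⟨y, hy⟩ := g
    obtain ⟨n, rfl⟩ := Subgroup.mem_zpowers_iff.mp (hPx hy)
    rw [LinearMap.mem_ker, LinearMap.sub_apply, LinearMap.id_apply, sub_eq_zero]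
    have hnat : ∀ m : ℕ, ρ (x ^ m) v = v := by
      intro m
      induction m with
      | zero => simp
      | succ m ih => rw [pow_succ, map_mul, Module.End.mul_apply, Cfsg.Agent.Grp.FixHalf.mem_fixs.mp hv, ih]
    obtain ⟨m, hm⟩ := (isOfFinOrder_of_finite x).mem_zpowers_iff_mem_range_orderOf.mp (Subgroup.zpow_mem_zpowers x n) |> Finset.mem_image.mp
    show ρ (x ^ n) v = v
    rw [← hm.2]
    exact hnat m
  rw [he]
  exact hb

end Cfsg.Agent.S3818
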