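import Cfsg.Statements.S3820
import Cfsg.Agent.Lib.Grp.SchurZassenhaus

set_option autoImplicit false
open Cfsg
open scoped Pointwise

namespace Cfsg.Agent.S3820

/-- Call a subgroup H of G pronormal if H and gHg⁻¹ are conjugate inside ⟨H, gHg⁻¹⟩ for every g ∈ G. Let S ≤ H ≤ G be subgroups of a finite group with S pronormal in G (for instance S a Sylow subgroup). Then H is pronormal in G if and only if H and gHg⁻¹ are conjugate inside ⟨H, gHg⁻¹⟩ for every g ∈ N_G(S). In particular H is pronormal whenever N_G(S) ≤ H. -/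
theorem result {G : Type*} [Group G] [Finite G] (S H : Subgroup G) (hSH : S ≤ H)
    (hS : Cfsg.IsPronormal S) :
    Cfsg.IsPronormal H ↔
      ∀ g ∈ Subgroup.normalizer (S : Set G), ∃ w ∈ H ⊔ H.map (MulAut.conj g).toMonoidHom,
        H.map (MulAut.conj g).toMonoidHom = H.map (MulAut.conj w).toMonoidHom := by
  have hm : ∀ (g : G) (K : Subgroup G), K.map (MulAut.conj g).toMonoidHom = MulAut.conj g • K := fun g K => rfl
  refine ⟨fun h g _ => h g, fun h g => ?_⟩
  obtain ⟨w, hw, he⟩ := hS g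
  simp only [hm] at he h hw ⊢
  have hn : w⁻¹ * g ∈ Subgroup.normalizer (S : Set G) := by
    rw [Grp.mem_normalizer_iff_smul, ← Grp.conj_smul_conj_smul, he, Grp.conj_smul_conj_smul, inv_mul_cancel, map_one, one_smul]
  obtain ⟨v, hv, he'⟩ := h _ hn
  set L := H ⊔ MulAut.conj g • H with hL
  have hwL : w ∈ L := (sup_le_sup hSH (Subgroup.pointwise_smul_le_pointwise_smul_iff.mpr hSH) : S ⊔ MulAut.conj g • S ≤ L) hw
  have hle : H ⊔ MulAut.conj (w⁻¹ * g) • H ≤ L := sup_le le_sup_left (by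
    rw [← Grp.conj_smul_conj_smul]
    calc MulAut.conj w⁻¹ • MulAut.conj g • H ≤ MulAut.conj w⁻¹ • L := Subgroup.pointwise_smul_le_pointwise_smul_iff.mpr le_sup_right
      _ = L := Grp.conj_smul_eq_self_of_mem (inv_mem hwL))
  refine ⟨w * v, mul_mem hwL (hle hv), ?_⟩
  rw [← Grp.conj_smul_conj_smul w v, ← he', Grp.conj_smul_conj_smul, mul_inv_cancel_left]

end Cfsg.Agent.S3820
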