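import Cfsg.Statements.S3821
import Mathlib

set_option autoImplicit false
open Cfsg

namespace Cfsg.Agent.S3821

/-- Let A be a normal subgroup of the finite group G and H a subgroup of A. Then H is pronormal in G (H and gHg⁻¹ conjugate inside ⟨H, gHg⁻¹⟩ for every g ∈ G) if and only if H is pronormal in A and G = A · N_G(H). -/
theorem result {G : Type*} [Group G] [Finite G] (A H : Subgroup G) [A.Normal] (hHA : H ≤ A) :
    Cfsg.IsPronormal H ↔ (Cfsg.IsPronormal (H.subgroupOf A) ∧ A ⊔ Subgroup.normalizer (H : Set G) = ⊤) := by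
  have hc : ∀ (a : A) (K : Subgroup G), K ≤ A → (K.subgroupOf A).map (MulAut.conj a).toMonoidHom =
      (K.map (MulAut.conj (a : G)).toMonoidHom).subgroupOf A := by
    intro a K hK
    ext ⟨y, hy⟩
    simp only [Subgroup.mem_map, Subgroup.mem_subgroupOf, MulEquiv.coe_toMonoidHom, MulAut.conj_apply]
    constructor
    · rintro ⟨w, hw, h⟩; exact ⟨w, hw, congrArg Subtype.val h⟩
    · rintro ⟨w, hw, h⟩; exact ⟨⟨w, hK hw⟩, hw, Subtype.ext h⟩
  have hle : ∀ g : G, H.map (MulAut.conj g).toMonoidHom ≤ A := by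
    rintro g _ ⟨w, hw, rfl⟩
    exact ‹A.Normal›.conj_mem w (hHA hw) g
  have hmm : ∀ g k : G, (H.map (MulAut.conj k).toMonoidHom).map (MulAut.conj g).toMonoidHom = H.map (MulAut.conj (g * k)).toMonoidHom := by
    intro g k
    rw [Subgroup.map_map]
    congr 1
    ext w; simp [mul_assoc]
  constructor
  · intro h
    refine ⟨fun a => ?_, ?_⟩
    · obtain ⟨w, hw, he⟩ := h a
      refine ⟨⟨w, sup_le hHA (hle _) hw⟩, ?_, ?_⟩
      · rw [hc a H hHA, ← Subgroup.subgroupOf_sup hHA (hle _)]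
        exact hw
      · rw [hc a H hHA, hc _ H hHA]
        exact congrArg (fun K : Subgroup G => K.subgroupOf A) he
    · rw [eq_top_iff]
      intro g _
      obtain ⟨w, hw, he⟩ := h g
      have hn : w⁻¹ * g ∈ Subgroup.normalizer (H : Set G) := by
        refine Subgroup.mem_normalizer_iff_map_conj_eq.mpr ?_
        show H.map (MulAut.conj (w⁻¹ * g)).toMonoidHom = H
        rw [← hmm, he, hmm, inv_mul_cancel, map_one]
        exact Subgroup.map_id H
      have := mul_mem (Subgroup.mem_sup_left (T := Subgroup.normalizer (H : Set G)) (sup_le hHA (hle g) hw)) (Subgroup.mem_sup_right (S := A) hn)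
      rwa [mul_inv_cancel_left] at this
  · rintro ⟨h, htop⟩ g
    obtain ⟨a, ha, n, hn, rfl⟩ := Subgroup.mem_sup_of_normal_left.mp (htop ▸ Subgroup.mem_top g : g ∈ A ⊔ _)
    obtain ⟨⟨w, hwA⟩, hw, he⟩ := h ⟨a, ha⟩
    rw [hc ⟨a, ha⟩ H hHA, ← Subgroup.subgroupOf_sup hHA (hle _), Subgroup.mem_subgroupOf] at hw
    rw [hc ⟨a, ha⟩ H hHA, hc _ H hHA] at he
    have e := congrArg (Subgroup.map A.subtype) he
    rw [Subgroup.subgroupOf_map_subtype, Subgroup.subgroupOf_map_subtype, inf_eq_left.mpr (hle _), inf_eq_left.mpr (hle _)] at e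
    have e2 : H.map (MulAut.conj (a * n)).toMonoidHom = H.map (MulAut.conj a).toMonoidHom := by
      rw [← hmm, show H.map (MulAut.conj n).toMonoidHom = H from Subgroup.mem_normalizer_iff_map_conj_eq.mp hn]
    rw [e2]
    exact ⟨w, hw, e⟩

end Cfsg.Agent.S3821
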