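import Cfsg.Statements.S3822
import Cfsg.Agent.Lib.Grp.NilpotentJoin
import Cfsg.Agent.Lib.Grp.FlavellPair
-- import your own Cfsg.Agent.* helpers here

set_option autoImplicit false
open Cfsg

namespace Cfsg.Agent.S3822

/-- Let G be a finite group and P a subgroup of prime order p > 3. Consider the solvable subgroups A of G of the form A = ⟨P, aPa⁻¹⟩ for some a ∈ A, and let A be maximal under inclusion among them. Then for every nilpotent subgroup V of G normalized by A, the subgroup F(A)V generated by the Fitting subgroup of A and V is nilpotent. -/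
theorem result {G : Type*} [Group G] [Finite G]
    {p : ℕ} [Fact p.Prime] (hp : 3 < p) (P : Subgroup G) (hP : Nat.card P = p) (A : Subgroup G)
    (hA : Group.IsSolvable ↥A ∧ ∃ a ∈ A, A = P ⊔ P.map (MulAut.conj a).toMonoidHom)
    (hmax : ∀ B : Subgroup G, A ≤ B → Group.IsSolvable ↥B → (∃ b ∈ B, B = P ⊔ P.map (MulAut.conj b).toMonoidHom) → B = A)
    (V : Subgroup G) (hV : Group.IsNilpotent ↥V) (hAV : A ≤ Subgroup.normalizer (V : Set G)) :
    Group.IsNilpotent ↥((Cfsg.fittingSubgroup ↥A).map A.subtype ⊔ V) := by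
  classical
  have hp' : p.Prime := Fact.out
  obtain ⟨hsol, a, ha, hAeq⟩ := hA
  rw [Cfsg.Agent.Grp.map_conj_eq_smul] at hAeq
  have hFA : ((Cfsg.fittingSubgroup ↥A).map A.subtype) ≤ A := Subgroup.map_subtype_le _
  refine Cfsg.Agent.Grp.isNilpotent_sup_of_commute _ V
    (Cfsg.Agent.Grp.isNilpotent_map Cfsg.Agent.Grp.fittingSubgroup_isNilpotent _) hV (hFA.trans hAV) (fun r s hrs => ?_)
  haveI := Fact.mk r.2
  haveI := Fact.mk s.2
  haveI : (Cfsg.fittingSubgroup ↥A).Normal := Cfsg.Agent.Grp.fittingSubgroup_isNormal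
  have hAF : A ≤ Subgroup.normalizer (((Cfsg.fittingSubgroup ↥A).map A.subtype : Subgroup G) : Set G) := by
    refine le_trans ?_ (Subgroup.le_normalizer_map _)
    rw [Subgroup.normalizer_eq_top, ← MonoidHom.range_eq_map, Subgroup.range_subtype]
  refine Cfsg.Agent.Grp.FlavellPair.le_centralizer_of_maximal hp' hp P A hP a ha hAeq hsol
    (fun B hAB hB hex => ?_) (q := (r : ℕ)) (r := (s : ℕ)) (fun e => hrs (Subtype.ext e)) _
    ((Cfsg.Agent.Grp.coreOf_le _).trans hFA) (hAF.trans (Cfsg.Agent.Grp.normalizer_le_coreOf _ _))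
    (Cfsg.Agent.Grp.coreOf_isPGroup _) _ (Cfsg.Agent.Grp.coreOf_isPGroup V)
    (hAV.trans (Cfsg.Agent.Grp.normalizer_le_coreOf V _))
  obtain ⟨b, hb, hBeq⟩ := hex
  exact hmax B hAB hB ⟨b, hb, by rw [Cfsg.Agent.Grp.map_conj_eq_smul]; exact hBeq⟩

end Cfsg.Agent.S3822
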