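import Cfsg.Statements.S3824
import Cfsg.Agent.Lib.Char.Integral
import Cfsg.Agent.Lib.Grp.Basic
-- import your own Cfsg.Agent.* helpers here

set_option autoImplicit false
open Cfsg

namespace Cfsg.Agent.S3824

/-- Every finite group having an abelian subgroup whose index is a power of 2 is solvable. -/
theorem result {G : Type*} [Group G] [Finite G]
    (A : Subgroup G) (hA : IsMulCommutative A) (hidx : ∃ k : ℕ, A.index = 2 ^ k) : Group.IsSolvable G := by
  suffices H : ∀ (n : ℕ) (X : Type u_1) [Group X] [Finite X], Nat.card X = n → ∀ A : Subgroup X,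
      IsMulCommutative A → (∃ k : ℕ, A.index = 2 ^ k) → Group.IsSolvable X from H _ G rfl A hA hidx
  intro n
  induction n using Nat.strong_induction_on with
  | _ n ih =>
    intro X _ _ hn A hA hidx
    obtain ⟨k, hk⟩ := hidx
    rcases subsingleton_or_nontrivial X with hss | hnt
    · exact Group.isSolvable_of_comm fun x y => Subsingleton.elim _ _
    by_cases hs : IsSimpleGroup X
    · by_cases hA1 : A = ⊥
      · haveI : Fact (Nat.Prime 2) := ⟨Nat.prime_two⟩
        haveI := (IsPGroup.of_card (p := 2) (n := k) (by rw [← hk, hA1, Subgroup.index_bot]) : IsPGroup 2 X).isNilpotent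
        infer_instance
      · obtain ⟨a, haA, ha1⟩ := (Subgroup.bot_or_exists_ne_one A).resolve_left hA1
        have hle : A ≤ Subgroup.centralizer ({a} : Set X) := fun x hx => Subgroup.mem_centralizer_singleton_iff.2
          (congrArg Subtype.val (mul_comm' (⟨x, hx⟩ : A) ⟨a, haA⟩))
        obtain ⟨i, -, hi⟩ := (Nat.dvd_prime_pow Nat.prime_two).1 (hk ▸ Subgroup.index_dvd_of_le hle)
        haveI := Fact.mk (Cfsg.Agent.Char.simple_prime_pow_class 2 i Nat.prime_two a ha1 hi)
        haveI : IsCyclic X := isCyclic_of_prime_card (p := Nat.card X) rfl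
        exact Group.isSolvable_of_comm fun x y => (IsCyclic.commGroup (α := X)).mul_comm x y
    · obtain ⟨N, hN, hN0, hN1⟩ : ∃ N : Subgroup X, N.Normal ∧ N ≠ ⊥ ∧ N ≠ ⊤ := by
        by_contra hc
        push Not at hc
        exact hs ⟨fun H hH => or_iff_not_imp_left.mpr (hc H hH)⟩
      have hmul := N.index_mul_card
      have h1 : 1 < Nat.card N := (Subgroup.one_lt_card_iff_ne_bot N).mpr hN0
      have h2 : 1 < N.index := by
        have := mt Subgroup.index_eq_one.mp hN1
        have := N.index_ne_zero_of_finite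
        omega
      have hd : A.relIndex N ∣ 2 ^ k := by
        have e1 := Cfsg.Agent.Grp.card_sup_mul_card_inf_normal (H := A) (N := N)
        have e2 := Cfsg.Agent.Grp.card_mul_relIndex (le_sup_left : A ≤ A ⊔ N)
        have e3 := Cfsg.Agent.Grp.card_mul_relIndex (inf_le_right : A ⊓ N ≤ N)
        rw [Subgroup.inf_relIndex_right] at e3
        have he : A.relIndex N = A.relIndex (A ⊔ N) :=
          Nat.eq_of_mul_eq_mul_left (Nat.mul_pos (Nat.card_pos (α := A)) (Nat.card_pos (α := ↥(A ⊓ N)))) (by
            rw [mul_assoc, e3, ← e1, ← e2]; ring)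
        rw [← hk, he]
        exact dvd_trans (dvd_mul_right _ _) (dvd_of_eq (Subgroup.relIndex_mul_index le_sup_left))
      obtain ⟨i, -, hi⟩ := (Nat.dvd_prime_pow Nat.prime_two).1 hd
      obtain ⟨j, -, hj⟩ := (Nat.dvd_prime_pow Nat.prime_two).1
        (hk ▸ Subgroup.index_map_dvd (H := A) (QuotientGroup.mk'_surjective N))
      haveI := ih _ (by rw [← hn, ← hmul]; nlinarith) N rfl (A.subgroupOf N)
        ⟨⟨fun x y => Subtype.ext (Subtype.ext (congrArg Subtype.val (mul_comm' (⟨((x : N) : X), x.2⟩ : A) (⟨((y : N) : X), y.2⟩ : A)) :))⟩⟩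
        ⟨i, hi⟩
      haveI := ih N.index (by rw [← hn, ← hmul]; nlinarith) (X ⧸ N) N.index_eq_card.symm _
        (Subgroup.map_isMulCommutative A (QuotientGroup.mk' N)) ⟨j, hj⟩
      exact Group.isSolvable_of_ker_le_range N.subtype (QuotientGroup.mk' N) (le_of_eq (by simp))

end Cfsg.Agent.S3824
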