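import Cfsg.Statements.S3825
import Mathlib

set_option autoImplicit false
open Cfsg
open scoped commutatorElement

namespace Cfsg.Agent.S3825

/-- Let U be a subgroup of a finite group H and w an involution of H normalizing U and commuting with exactly two elements of U, the identity and y. If V is a non-cyclic elementary abelian 2-subgroup of U containing y which is normal in U and invariant under w, then V is a Sylow 2-subgroup of U, V has order 4, and U/V is abelian. -/
theorem result {H : Type*} [Group H] [Finite H] (U : Subgroup H) (w : H) (hw : orderOf w = 2)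
    (hwU : w ∈ Subgroup.normalizer (U : Set H)) (y : H) (hy : y ≠ 1) (hyU : y ∈ U)
    (hfix : ∀ u ∈ U, w * u * w⁻¹ = u ↔ (u = 1 ∨ u = y))
    (V : Subgroup H) (hVU : V ≤ U) (hVn : (V.subgroupOf U).Normal) (hVw : ∀ v ∈ V, w * v * w⁻¹ ∈ V)
    (hVe : Cfsg.IsElementaryAbelian 2 V) (hVc : ¬ IsCyclic ↥V) (hyV : y ∈ V) :
    ¬ 2 ∣ V.relIndex U ∧ Nat.card ↥V = 4 ∧ ⁅U, U⁆ ≤ V := by
  classical
  have := Fintype.ofFinite H
  have hww : w * w = 1 := by rw [← sq, ← hw, pow_orderOf_eq_one]
  have hwi : w⁻¹ = w := inv_eq_of_mul_eq_one_right hww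
  have hVsq : ∀ v ∈ V, v * v = 1 := fun v hv => by rw [← sq]; exact hVe.2 v hv
  have hVinv : ∀ v ∈ V, v⁻¹ = v := fun v hv => inv_eq_of_mul_eq_one_right (hVsq v hv)
  have hVcomm : ∀ a ∈ V, ∀ b ∈ V, a * b = b * a := fun a ha b hb => by
    haveI := hVe.1
    exact congrArg Subtype.val (mul_comm' (⟨a, ha⟩ : V) ⟨b, hb⟩)
  have hcj : ∀ u, w * (w * u * w⁻¹) * w⁻¹ = u := fun u => by
    rw [show w * (w * u * w⁻¹) * w⁻¹ = (w * w) * u * (w * w)⁻¹ by group, hww]; simp
  have hwy : w * y * w⁻¹ = y := (hfix y hyU).mpr (Or.inr rfl)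
  let f : H → H := fun u => u⁻¹ * (w * u * w⁻¹)
  have hfib : ∀ u ∈ U, ∀ u' ∈ U, f u = f u' → u' = u ∨ u' = y * u := by
    intro u hu u' hu' he
    have h1 : w * (u' * u⁻¹) * w⁻¹ = u' * u⁻¹ := by
      simp only [f] at he
      calc w * (u' * u⁻¹) * w⁻¹ = u' * (u'⁻¹ * (w * u' * w⁻¹)) * (u⁻¹ * (w * u * w⁻¹))⁻¹ * u⁻¹ := by group
        _ = _ := by rw [← he, mul_inv_cancel_right]
    rcases (hfix _ (mul_mem hu' (inv_mem hu))).mp h1 with e | e
    · exact Or.inl (mul_inv_eq_one.mp e)
    · exact Or.inr (mul_inv_eq_iff_eq_mul.mp e)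
  have hfV : ∀ u ∈ U, f u ∈ V → f u = 1 ∨ f u = y := by
    intro u hu hv
    refine (hfix _ (hVU hv)).mp ?_
    have h1 : w * f u * w⁻¹ = (f u)⁻¹ := by
      simp only [f]
      calc w * (u⁻¹ * (w * u * w⁻¹)) * w⁻¹ = (w * u * w⁻¹)⁻¹ * (w * (w * u * w⁻¹) * w⁻¹) := by group
        _ = _ := by rw [hcj]; group
    rw [h1, hVinv _ hv]
  set W := Finset.univ.filter (fun u : H => u ∈ U ∧ f u ∈ V) with hW
  have hWcard : W.card ≤ 4 := by
    calc W.card ≤ 2 * (W.image f).card := Finset.card_le_mul_card_image W 2 (fun b hb => by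
            obtain ⟨u0, hu0, rfl⟩ := Finset.mem_image.mp hb
            refine (Finset.card_le_card (t := {u0, y * u0}) fun u hu => ?_).trans Finset.card_le_two
            simp only [hW, Finset.mem_filter, Finset.mem_univ, true_and] at hu hu0
            rcases hfib u0 hu0.1 u hu.1.1 hu.2.symm with e | e <;> simp [e])
      _ ≤ 2 * ({1, y} : Finset H).card := Nat.mul_le_mul_left 2 (Finset.card_le_card fun b hb => by
            obtain ⟨u0, hu0, rfl⟩ := Finset.mem_image.mp hb
            simp only [hW, Finset.mem_filter, Finset.mem_univ, true_and] at hu0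
            rcases hfV u0 hu0.1 hu0.2 with e | e <;> simp [e])
      _ ≤ 4 := by have := Finset.card_le_two (a := (1 : H)) (b := y); omega
  have hVW : Finset.univ.filter (· ∈ V) ⊆ W := fun v hv => by
    simp only [hW, Finset.mem_filter, Finset.mem_univ, true_and] at hv ⊢
    exact ⟨hVU hv, mul_mem (inv_mem hv) (hVw v hv)⟩
  have hVcard : Nat.card V = (Finset.univ.filter (· ∈ V)).card := by
    rw [← Fintype.card_subtype, Nat.card_eq_fintype_card]
  have hV4 : Nat.card V = 4 := by
    have h1 : Nat.card V ≤ 4 := by rw [hVcard]; exact (Finset.card_le_card hVW).trans hWcard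
    have hpV : IsPGroup 2 V := fun v => ⟨1, Subtype.ext (by simpa using hVe.2 v v.2)⟩
    obtain ⟨k, hk⟩ := IsPGroup.iff_card.mp hpV
    rcases k with _ | _ | _ | k
    · haveI := (Nat.card_eq_one_iff_unique.mp (by rw [hk, pow_zero] : Nat.card V = 1)).1
      exact absurd isCyclic_of_subsingleton hVc
    · exact absurd (isCyclic_of_prime_card (p := 2) (α := V) (by rw [hk, pow_one])) hVc
    · exact hk
    · exfalso
      rw [hk] at h1
      have : 2 ^ 3 ≤ 2 ^ (k + 1 + 1 + 1) := Nat.pow_le_pow_right (by norm_num) (by omega)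
      omega
  have hWV : ∀ u ∈ U, f u ∈ V → u ∈ V := by
    intro u hu hv
    have e : Finset.univ.filter (· ∈ V) = W := Finset.eq_of_subset_of_card_le hVW (by rw [← hVcard, hV4]; exact hWcard)
    have h2 : u ∈ Finset.univ.filter (· ∈ V) := e.symm ▸ (by simp [hW, hu, hv])
    simpa using h2
  set V' := V.subgroupOf U with hV'
  haveI := hVn
  let φ0 : U →* U := MonoidHom.mk' (fun u : U => (⟨w * u * w⁻¹, (Subgroup.mem_normalizer_iff.mp hwU u).mp u.2⟩ : U))
    (fun a b => Subtype.ext (by simp [mul_assoc]))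
  have hle : V' ≤ V'.comap φ0 := fun v hv => hVw _ hv
  let φ : U ⧸ V' →* U ⧸ V' := QuotientGroup.map V' V' φ0 hle
  have hfpf : MonoidHom.FixedPointFree φ := by
    intro q hq
    induction q using QuotientGroup.induction_on with
    | H u =>
      rw [QuotientGroup.map_mk, eq_comm, QuotientGroup.eq, Subgroup.mem_subgroupOf] at hq
      exact (QuotientGroup.eq_one_iff u).mpr (hWV u u.2 hq)
  have h2 : φ^[2] = _root_.id := funext fun q => by
    induction q using QuotientGroup.induction_on with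
    | H u =>
      show φ (φ (QuotientGroup.mk u)) = _
      rw [QuotientGroup.map_mk, QuotientGroup.map_mk]
      exact congrArg QuotientGroup.mk (Subtype.ext (hcj u))
  have hinv := fun q => congrFun (hfpf.coe_eq_inv_of_sq_eq_one h2) q
  refine ⟨fun hd => ?_, hV4, ?_⟩
  · obtain ⟨q, hq⟩ := exists_prime_orderOf_dvd_card' (G := U ⧸ V') 2 (by
      rw [← Subgroup.index_eq_card]; exact hd)
    have h3 : q = 1 := hfpf q (by
      have h4 : φ q = q⁻¹ := hinv q
      rw [h4, inv_eq_iff_mul_eq_one, ← sq, ← hq, pow_orderOf_eq_one])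
    rw [h3, orderOf_one] at hq
    omega
  · rw [Subgroup.commutator_le]
    intro a ha b hb
    have hcomm : ∀ q q' : U ⧸ V', q * q' = q' * q := fun q q' => by
      have h4 : φ (q * q') = (q * q')⁻¹ := hinv (q * q')
      have h5 : φ q = q⁻¹ := hinv q
      have h6 : φ q' = q'⁻¹ := hinv q'
      rw [map_mul, h5, h6, mul_inv_rev] at h4
      have := congrArg (·⁻¹) h4
      simpa using this.symm
    have h7 : (QuotientGroup.mk' V') ⁅(⟨a, ha⟩ : U), ⟨b, hb⟩⁆ = 1 := by
      rw [map_commutatorElement, commutatorElement_eq_one_iff_mul_comm]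
      exact hcomm _ _
    have h8 := (QuotientGroup.eq_one_iff (N := V') _).mp h7
    exact h8

end Cfsg.Agent.S3825
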