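import Cfsg.Statements.S3838
import Mathlib
import Cfsg.Agent.Lib.Transfer.Tate
import Cfsg.Agent.Lib.Transfer.Frobenius

set_option autoImplicit false
open Cfsg
open scoped commutatorElement

namespace Cfsg.Agent.S3838

/-- Let G be a finite group with Sylow p-subgroup P such that N_G(P) has a normal p-complement. Then N_G(Q) has a normal p-complement for every subgroup Q with [P, P] ≤ Q ≤ Φ(P). -/
theorem result {G : Type*} [Group G] [Finite G] {p : ℕ} [Fact p.Prime] (P : Sylow p G) (hN : Cfsg.HasNormalPComplement p ↥(Subgroup.normalizer ((P : Subgroup G) : Set G))) (Q : Subgroup G) (h1 : (commutator ↥(P : Subgroup G)).map (P : Subgroup G).subtype ≤ Q) (h2 : Q ≤ (frattini ↥(P : Subgroup G)).map (P : Subgroup G).subtype) : Cfsg.HasNormalPComplement p ↥(Subgroup.normalizer (Q : Set G)) := by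
  classical
  set H := Subgroup.normalizer (Q : Set G) with hH
  have hQP : Q ≤ (P : Subgroup G) := h2.trans (Subgroup.map_subtype_le _)
  have hPH : (P : Subgroup G) ≤ H := by
    have key : ∀ x ∈ (P : Subgroup G), ∀ q ∈ Q, x * q * x⁻¹ ∈ Q := fun x hx q hq => by
      have h3 : x * q * x⁻¹ * q⁻¹ ∈ Q := h1 ⟨⁅(⟨x, hx⟩ : (P : Subgroup G)), ⟨q, hQP hq⟩⁆,
        Subgroup.commutator_mem_commutator (Subgroup.mem_top _) (Subgroup.mem_top _), rfl⟩
      have := Q.mul_mem h3 hq
      rwa [inv_mul_cancel_right] at this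
    intro x hx
    rw [Subgroup.mem_normalizer_iff]
    refine fun q => ⟨key x hx q, fun h => ?_⟩
    have := key x⁻¹ (inv_mem hx) _ h
    rwa [inv_inv, show x⁻¹ * (x * q * x⁻¹) * x = q by group] at this
  let PH : Sylow p H := P.subtype hPH
  let Q' := Q.subgroupOf H
  have : Q'.Normal := Subgroup.normal_subgroupOf_of_le_normalizer le_rfl
  let π := QuotientGroup.mk' Q'
  have hπ : Function.Surjective π := QuotientGroup.mk'_surjective Q'
  let P' : Sylow p (H ⧸ Q') := PH.mapSurjective hπ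
  have hmemP : ∀ x : H, π x ∈ (P' : Subgroup (H ⧸ Q')) → (x : G) ∈ (P : Subgroup G) := by
    rintro x ⟨y, hy, hyx⟩
    have h3 : ((y⁻¹ * x : H) : G) ∈ Q := by
      have : y⁻¹ * x ∈ Q' := QuotientGroup.eq.mp hyx
      exact this
    have := (P : Subgroup G).mul_mem (show (y : G) ∈ (P : Subgroup G) from hy) (hQP h3)
    simpa using this
  have hab : ∀ x ∈ (P : Subgroup G), ∀ y ∈ (P : Subgroup G), (hx : x ∈ H) → (hy : y ∈ H) →
      π ⟨x, hx⟩ * π ⟨y, hy⟩ = π ⟨y, hy⟩ * π ⟨x, hx⟩ := by
    intro x hx y hy hx' hy'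
    rw [← commutatorElement_eq_one_iff_mul_comm, ← map_commutatorElement]
    refine (QuotientGroup.eq_one_iff _).mpr ?_
    exact h1 ⟨⁅(⟨x, hx⟩ : (P : Subgroup G)), ⟨y, hy⟩⁆,
      Subgroup.commutator_mem_commutator (Subgroup.mem_top _) (Subgroup.mem_top _), rfl⟩
  -- Burnside in the quotient
  have hburn : Cfsg.HasNormalPComplement p (H ⧸ Q') := by
    have hle : Subgroup.normalizer ((P' : Subgroup (H ⧸ Q')) : Set (H ⧸ Q')) ≤
        Subgroup.centralizer ((P' : Subgroup (H ⧸ Q')) : Set (H ⧸ Q')) := by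
      intro w hw
      obtain ⟨x, rfl⟩ := hπ w
      have hxP : (x : G) ∈ Subgroup.normalizer ((P : Subgroup G) : Set G) := by
        have key : ∀ z : H, π z ∈ Subgroup.normalizer ((P' : Subgroup (H ⧸ Q')) : Set (H ⧸ Q')) →
            ∀ y ∈ (P : Subgroup G), (z : G) * y * (z : G)⁻¹ ∈ (P : Subgroup G) := by
          intro z hz y hy
          refine hmemP (z * ⟨y, hPH hy⟩ * z⁻¹) ?_
          rw [map_mul, map_mul, map_inv]
          exact (Subgroup.mem_normalizer_iff.mp hz _).mp (Subgroup.mem_map_of_mem π (show (⟨y, hPH hy⟩ : H) ∈ (PH : Subgroup H) from hy))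
        rw [Subgroup.mem_normalizer_iff]
        refine fun y => ⟨key x hw y, fun h => ?_⟩
        have := key x⁻¹ (by rw [map_inv]; exact inv_mem hw) _ h
        rw [Subgroup.coe_inv, inv_inv, show (x : G)⁻¹ * ((x : G) * y * (x : G)⁻¹) * x = y by group] at this
        exact this
      set N₀ := Subgroup.normalizer ((P : Subgroup G) : Set G) with hN₀
      have hPN : (P : Subgroup G) ≤ N₀ := Subgroup.le_normalizer
      let PN : Sylow p N₀ := P.subtype hPN
      obtain ⟨k, hk, s, hs, hks⟩ : ∃ k ∈ Cfsg.pResidual p N₀, ∃ s ∈ (PN : Subgroup N₀), k * s = ⟨x, hxP⟩ := by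
        refine Subgroup.mem_sup_of_normal_left.mp ?_
        rw [sup_comm, Agent.Transfer.sylow_sup_pResidual]; exact Subgroup.mem_top _
      have hkc : ∀ y ∈ (P : Subgroup G), y * (k : G) = k * y := fun y hy => by
        have hF := Agent.Transfer.frobeniusCondition_of_hasNormalPComplement hN PN.isPGroup'
        have hn : k ∈ Subgroup.normalizer ((PN : Subgroup N₀) : Set N₀) := by
          rw [Subgroup.mem_normalizer_iff]
          exact fun z => Subgroup.mem_normalizer_iff.mp k.2 z
        exact congrArg Subtype.val ((hF (PN : Subgroup N₀) le_rfl k hn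
          ((Agent.Transfer.mem_pResidual_iff hN).mp hk)) ⟨y, hPN hy⟩ hy)
      rw [Subgroup.mem_centralizer_iff]
      rintro v ⟨y, hy, rfl⟩
      have hsH : (s : G) ∈ H := hPH hs
      have hkH : (k : G) ∈ H := by
        have e : (k : G) = (x : G) * (s : G)⁻¹ := by
          rw [eq_mul_inv_iff_mul_eq]; exact congrArg Subtype.val hks
        rw [e]; exact mul_mem x.2 (inv_mem hsH)
      have ex : x = ⟨k, hkH⟩ * ⟨s, hsH⟩ := Subtype.ext (congrArg Subtype.val hks).symm
      rw [ex, map_mul, ← mul_assoc, ← map_mul π y, show y * ⟨k, hkH⟩ = ⟨k, hkH⟩ * y from Subtype.ext (hkc y hy),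
        map_mul, mul_assoc, mul_assoc]
      congr 1
      exact hab y hy s hs y.2 hsH
    exact ⟨P', _, inferInstance, MonoidHom.ker_transferSylow_isComplement' P' hle⟩
  obtain ⟨Mq, hMn, hMd, j, hMj⟩ := Agent.Transfer.hasNormalPComplement_iff_exists.mp hburn
  set M := Mq.comap π with hM
  have hMP : M ⊓ (PH : Subgroup H) ≤ (frattini PH).map (PH : Subgroup H).subtype := by
    rintro x ⟨hxM, hxP⟩
    have h3 : π x ∈ Mq ⊓ (P' : Subgroup (H ⧸ Q')) := ⟨hxM, Subgroup.mem_map_of_mem π hxP⟩
    rw [(Agent.Transfer.isComplement'_sylow P' hMd hMj).disjoint.eq_bot, Subgroup.mem_bot] at h3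
    obtain ⟨y, hy, hyx⟩ := h2 (show (x : G) ∈ Q from (QuotientGroup.eq_one_iff x).mp h3)
    let e : (P : Subgroup G) →* (PH : Subgroup H) :=
      ((Subgroup.inclusion hPH).codRestrict (PH : Subgroup H) fun y => y.2)
    have he : Function.Surjective e := fun z => ⟨⟨((z : H) : G), z.2⟩, rfl⟩
    exact ⟨e y, (Subgroup.map_le_iff_le_comap.mpr (frattini_le_comap_frattini_of_surjective he)) (Subgroup.mem_map_of_mem e hy),
      Subtype.ext hyx⟩
  have hMnpc := Agent.Transfer.hasNormalPComplement_of_inf_le_frattini PH M hMP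
  have hMi : M.index = p ^ j := by rw [hM, Subgroup.index_comap_of_surjective _ hπ, hMj]
  rw [Agent.Transfer.hasNormalPComplement_iff_not_dvd] at hMnpc ⊢
  refine fun hd => hMnpc (hd.trans ?_)
  have hle : Cfsg.pResidual p H ≤ (Cfsg.pResidual p M).map M.subtype := by
    rw [Cfsg.pResidual, Subgroup.closure_le]
    intro g hg
    have hgM : g ∈ M := Agent.Transfer.pResidual_le_of_index hMi (Agent.Transfer.mem_pResidual_of_coprime hg)
    exact ⟨⟨g, hgM⟩, Agent.Transfer.mem_pResidual_of_coprime (by rw [Subgroup.orderOf_mk]; exact hg), rfl⟩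
  refine (Subgroup.card_dvd_of_le hle).trans ?_
  rw [Subgroup.card_map_of_injective M.subtype_injective]

end Cfsg.Agent.S3838
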