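import Cfsg.Statements.S3856
import Cfsg.Agent.Lib.Grp.PrimeGraphGK.Main

set_option autoImplicit false
open Cfsg

namespace Cfsg.Agent.S3856

/-- Structure of finite groups with disconnected prime graph. The prime graph of a finite group G has the prime divisors of |G| as vertices, two distinct primes p, q being joined when G has an element of order pq. If G has even order and its prime graph is disconnected then, writing π₁ for the set of primes joined to 2 by a path: either G is a Frobenius group; or G is a 2-Frobenius group (there are normal subgroups H < K of G with K a Frobenius group with kernel H and G/H a Frobenius group with kernel K/H); or G has normal subgroups N ≤ M such that every prime divisor of |N| and of |G/M| lies in π₁ and M/N is a non-abelian simple group. -/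
theorem result {G : Type*} [Group G] [Finite G] (heven : Even (Nat.card G))
    (hdisc : (∃ A : Set ℕ, (∃ a ∈ A, a.Prime ∧ a ∣ Nat.card G) ∧ (∃ b ∉ A, b.Prime ∧ b ∣ Nat.card G) ∧
      ∀ a ∈ A, ∀ b ∉ A, a.Prime → b.Prime → a ∣ Nat.card G → b ∣ Nat.card G → ¬ ∃ g : G, orderOf g = a * b)) :
    (∃ C : Subgroup G, Cfsg.IsFrobeniusComplement C) ∨
    (∃ (H K : Subgroup G) (_ : H.Normal), K.Normal ∧ H < K ∧
      (∃ C : Subgroup ↥K, Cfsg.IsFrobeniusComplement C ∧ Cfsg.frobeniusKernel C = (H.subgroupOf K : Set ↥K)) ∧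
      (∃ C : Subgroup (G ⧸ H), Cfsg.IsFrobeniusComplement C ∧ Cfsg.frobeniusKernel C = (K.map (QuotientGroup.mk' H) : Set (G ⧸ H)))) ∨
    (∃ (N M : Subgroup G) (_ : N.Normal) (_ : M.Normal), N ≤ M ∧
      (∀ p : ℕ, p.Prime → p ∣ Nat.card ↥N → Relation.ReflTransGen (fun a b : ℕ => a.Prime ∧ b.Prime ∧ a ≠ b ∧ a ∣ Nat.card G ∧ b ∣ Nat.card G ∧ ∃ g : G, orderOf g = a * b) 2 p) ∧
      (∀ p : ℕ, p.Prime → p ∣ Nat.card (G ⧸ M) → Relation.ReflTransGen (fun a b : ℕ => a.Prime ∧ b.Prime ∧ a ≠ b ∧ a ∣ Nat.card G ∧ b ∣ Nat.card G ∧ ∃ g : G, orderOf g = a * b) 2 p) ∧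
      IsSimpleGroup (↥M ⧸ N.subgroupOf M) ∧ ¬ IsMulCommutative (↥M ⧸ N.subgroupOf M)) := by
  classical
  obtain ⟨A, ⟨a, haA, ha, had⟩, ⟨b, hbA, hb, hbd⟩, hdis⟩ := hdisc
  set R : ℕ → ℕ → Prop := fun a b : ℕ =>
    a.Prime ∧ b.Prime ∧ a ≠ b ∧ a ∣ Nat.card G ∧ b ∣ Nat.card G ∧ ∃ g : G, orderOf g = a * b with hR
  obtain ⟨π, hπ⟩ : ∃ π : Set ℕ, π = {p | Relation.ReflTransGen R 2 p} := ⟨_, rfl⟩
  have h2 : 2 ∈ π := hπ ▸ Relation.ReflTransGen.refl
  have hside : ∀ p, Relation.ReflTransGen R 2 p → (p ∈ A ↔ 2 ∈ A) := by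
    intro p hp
    induction hp with
    | refl => exact Iff.rfl
    | @tail c d _ hcd ih =>
      obtain ⟨hc, hd, -, hcG, hdG, g, hg⟩ := hcd
      rw [← ih]
      refine ⟨fun hdA => ?_, fun hcA => ?_⟩
      · by_contra hcA
        exact hdis d hdA c hcA hd hc hdG hcG ⟨g, by rw [hg, mul_comm]⟩
      · by_contra hdA
        exact hdis c hcA d hdA hc hd hcG hdG ⟨g, hg⟩
  have hNM : Cfsg.Agent.Grp.Graph.NoMix π G := by
    intro p q hp hq hpπ hqπ g hg
    subst hπ
    exact hqπ (Relation.ReflTransGen.tail hpπ ⟨hp, hq, fun e => hqπ (e ▸ hpπ),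
      (Dvd.intro q rfl).trans (hg ▸ orderOf_dvd_natCard g),
      (Dvd.intro_left p rfl).trans (hg ▸ orderOf_dvd_natCard g), g, hg⟩)
  have hout : ∃ c ∉ π, c.Prime ∧ c ∣ Nat.card G := by
    by_contra hc
    push Not at hc
    have h1 : a ∈ π := by_contra fun h => hc a h ha had
    have h3 : b ∈ π := by_contra fun h => hc b h hb hbd
    subst hπ
    exact hbA ((hside b h3).2 ((hside a h1).1 haA))
  rcases Cfsg.Agent.Grp.GK.gruenberg_kegel hNM h2 heven.two_dvd hout with h | h | h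
  · exact Or.inl h
  · exact Or.inr (Or.inl h)
  · obtain ⟨N, M, hNn, hMn, hle, hN, hM, hs, hna⟩ := h
    subst hπ
    exact Or.inr (Or.inr ⟨N, M, hNn, hMn, hle, hN, hM, hs, hna⟩)

end Cfsg.Agent.S3856
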