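import Cfsg.Statements.S3857
import Cfsg.Agent.Lib.Grp.DisconnectedGraph


set_option autoImplicit false
open Cfsg

namespace Cfsg.Agent.S3857

/-- A finite solvable group whose prime graph (prime divisors of the order, two distinct primes joined when there is an element of order their product) is disconnected is a Frobenius group or a 2-Frobenius group (it has normal subgroups H < K with K a Frobenius group with kernel H and G/H a Frobenius group with kernel K/H). -/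
theorem result {G : Type*} [Group G] [Finite G] (hsol : Group.IsSolvable G)
    (hdisc : (∃ A : Set ℕ, (∃ a ∈ A, a.Prime ∧ a ∣ Nat.card G) ∧ (∃ b ∉ A, b.Prime ∧ b ∣ Nat.card G) ∧
      ∀ a ∈ A, ∀ b ∉ A, a.Prime → b.Prime → a ∣ Nat.card G → b ∣ Nat.card G → ¬ ∃ g : G, orderOf g = a * b)) :
    (∃ C : Subgroup G, Cfsg.IsFrobeniusComplement C) ∨
    (∃ (H K : Subgroup G) (_ : H.Normal), K.Normal ∧ H < K ∧
      (∃ C : Subgroup ↥K, Cfsg.IsFrobeniusComplement C ∧ Cfsg.frobeniusKernel C = (H.subgroupOf K : Set ↥K)) ∧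
      (∃ C : Subgroup (G ⧸ H), Cfsg.IsFrobeniusComplement C ∧ Cfsg.frobeniusKernel C = (K.map (QuotientGroup.mk' H) : Set (G ⧸ H)))) := by
  obtain ⟨A, ⟨a, haA, ha, had⟩, ⟨b, hbA, hb, hbd⟩, hdis⟩ := hdisc
  have hNM : Cfsg.Agent.Grp.Graph.NoMix A G := fun p q hp hq hpA hqA g hg =>
    hdis p hpA q hqA hp hq ((Dvd.intro q rfl).trans (hg ▸ orderOf_dvd_natCard g))
      ((Dvd.intro_left p rfl).trans (hg ▸ orderOf_dvd_natCard g)) ⟨g, hg⟩
  have : Group.IsSolvable G := hsol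
  by_cases hL : Cfsg.piCore A G = ⊥
  · refine Cfsg.Agent.Grp.Graph.core_case hNM.symm ⟨a, fun h => h haA, ha, had⟩ fun hL' => ?_
    have : Nontrivial G := Finite.one_lt_card_iff_nontrivial.mp
      (lt_of_lt_of_le ha.one_lt (Nat.le_of_dvd Nat.card_pos had))
    obtain ⟨p, T, hp, hTn, hTp, hT1⟩ := Cfsg.Agent.Grp.Graph.exists_normal_pGroup (G := G)
    by_cases hpA : p ∈ A
    · exact hT1 (le_bot_iff.mp (hL ▸ Cfsg.Agent.Grp.Graph.piCore_maximal hTn
        (Cfsg.Agent.Grp.Graph.piSub_of_pGroup hp hTp hpA)))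
    · exact hT1 (le_bot_iff.mp (hL' ▸ Cfsg.Agent.Grp.Graph.piCore_maximal hTn
        (Cfsg.Agent.Grp.Graph.piSub_of_pGroup hp hTp (π := Aᶜ) hpA)))
  · exact Cfsg.Agent.Grp.Graph.core_case hNM ⟨b, hbA, hb, hbd⟩ hL

end Cfsg.Agent.S3857
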