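import Cfsg.Statements.S3858
import Cfsg.Agent.Lib.Grp.SchurZassenhaus

set_option autoImplicit false
open Cfsg
open scoped Pointwise

namespace Cfsg.Agent.S3858

/-- Let G be a finite group with a normal non-abelian simple subgroup T whose centralizer is trivial (G almost simple with socle T), r a prime and R a Sylow r-subgroup of G meeting T nontrivially. Then R lies in exactly one maximal subgroup of G if and only if G has exactly one conjugacy class of maximal subgroups whose index is prime to r. -/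
theorem result {G : Type*} [Group G] [Finite G] (T : Subgroup G) [T.Normal] (hT : IsSimpleGroup T) (hna : ¬ IsMulCommutative T)
    (hC : Subgroup.centralizer (T : Set G) = ⊥) {r : ℕ} [Fact r.Prime] (R : Sylow r G) (hR0 : (R : Subgroup G) ⊓ T ≠ ⊥) :
    (∃! M : Subgroup G, IsCoatom M ∧ (R : Subgroup G) ≤ M) ↔
      ((∃ M : Subgroup G, IsCoatom M ∧ ¬ r ∣ M.index) ∧
        ∀ M₁ M₂ : Subgroup G, IsCoatom M₁ → ¬ r ∣ M₁.index → IsCoatom M₂ → ¬ r ∣ M₂.index → ∃ g : G, M₂ = M₁.map (MulAut.conj g).toMonoidHom) := by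
  have hnN : Subgroup.normalizer ((R : Subgroup G) : Set G) ≠ ⊤ := by
    intro h
    have : (R : Subgroup G).Normal := Subgroup.normalizer_eq_top_iff.mp h
    rcases hT.eq_bot_or_eq_top_of_normal (((R : Subgroup G) ⊓ T).subgroupOf T) inferInstance with e | e
    · exact hR0 (by simpa [Subgroup.subgroupOf_eq_bot, disjoint_iff, inf_assoc] using e)
    · rw [Subgroup.subgroupOf_eq_top] at e
      have hp : IsPGroup r T := R.isPGroup'.to_le (e.trans inf_le_left)
      haveI := hT
      haveI := hT.1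
      have := hp.center_nontrivial
      rcases hT.eq_bot_or_eq_top_of_normal (Subgroup.center T) inferInstance with e' | e'
      · exact (Subgroup.nontrivial_iff_ne_bot _).mp this e'
      · exact hna ⟨⟨fun a b => Subgroup.mem_center_iff.mp (e'.ge (Subgroup.mem_top b)) a⟩⟩
  have hidx : ∀ M : Subgroup G, (R : Subgroup G) ≤ M → ¬ r ∣ M.index := fun M h hd =>
    R.not_dvd_index (hd.trans (Subgroup.index_dvd_of_le h))
  have hconjR : ∀ M : Subgroup G, ¬ r ∣ M.index → ∃ g : G, MulAut.conj g • (R : Subgroup G) ≤ M := by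
    intro M hM
    obtain ⟨S⟩ : Nonempty (Sylow r M) := Sylow.nonempty
    have hp : IsPGroup r ((S : Subgroup M).map M.subtype) := S.isPGroup'.map _
    have hi : ¬ r ∣ ((S : Subgroup M).map M.subtype).index := by
      rw [Subgroup.index_map_subtype]
      exact (Fact.out : r.Prime).not_dvd_mul S.not_dvd_index hM
    obtain ⟨g, hg⟩ := MulAction.exists_smul_eq G R (hp.toSylow hi)
    refine ⟨g, ?_⟩
    rw [← Sylow.coe_subgroup_smul, hg]
    exact Subgroup.map_subtype_le _
  have hsmul : ∀ (g : G) (M : Subgroup G), M.map (MulAut.conj g).toMonoidHom = MulAut.conj g • M := fun g M => rfl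
  have hcoat : ∀ (g : G) (M : Subgroup G), IsCoatom M → IsCoatom (MulAut.conj g • M) := fun g M hM =>
    (OrderIso.isCoatom_iff ((MulAut.conj g).mapSubgroup) M).mpr hM
  constructor
  · rintro ⟨M, ⟨hM, hRM⟩, huniq⟩
    refine ⟨⟨M, hM, hidx M hRM⟩, fun M₁ M₂ h1 h1' h2 h2' => ?_⟩
    have key : ∀ M' : Subgroup G, IsCoatom M' → ¬ r ∣ M'.index → ∃ g : G, MulAut.conj g • M = M' := by
      intro M' hc hi
      obtain ⟨g, hg⟩ := hconjR M' hi
      refine ⟨g, ?_⟩
      have := huniq (MulAut.conj g⁻¹ • M') ⟨hcoat _ _ hc, by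
        rw [map_inv, Subgroup.subset_pointwise_smul_iff, inv_inv]; exact hg⟩
      rw [← this, Grp.conj_smul_conj_smul, mul_inv_cancel, map_one, one_smul]
    obtain ⟨g1, rfl⟩ := key M₁ h1 h1'
    obtain ⟨g2, rfl⟩ := key M₂ h2 h2'
    exact ⟨g2 * g1⁻¹, by rw [hsmul, Grp.conj_smul_conj_smul, inv_mul_cancel_right]⟩
  · rintro ⟨-, hall⟩
    obtain h | ⟨M0, hM0, hle⟩ := eq_top_or_exists_le_coatom (Subgroup.normalizer ((R : Subgroup G) : Set G))
    · exact absurd h hnN
    have hR0' : (R : Subgroup G) ≤ M0 := Subgroup.le_normalizer.trans hle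
    refine ⟨M0, ⟨hM0, hR0'⟩, fun M ⟨hM, hRM⟩ => ?_⟩
    obtain ⟨g, rfl⟩ := hall M0 M hM0 (hidx _ hR0') hM (hidx _ hRM)
    rw [hsmul] at hRM ⊢
    have h1 : MulAut.conj g • (R : Subgroup G) ≤ MulAut.conj g • M0 := Subgroup.pointwise_smul_le_pointwise_smul_iff.mpr hR0'
    set M := MulAut.conj g • M0
    obtain ⟨m, hm⟩ := MulAction.exists_smul_eq M (R.subtype hRM) ((g • R).subtype (by rw [Sylow.coe_subgroup_smul]; exact h1))
    rw [Sylow.smul_subtype] at hm
    have hm' := Sylow.subtype_injective hm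
    have hn : g⁻¹ * (m : G) ∈ Subgroup.normalizer ((R : Subgroup G) : Set G) := by
      have e : (g⁻¹ * (m : G)) • R = R := by
        rw [mul_smul, ← Subgroup.smul_def, hm', inv_smul_smul]
      exact Sylow.smul_eq_iff_mem_normalizer.mp e
    have h3 : MulAut.conj (g⁻¹ * (m : G)) • M0 = M0 := Grp.conj_smul_eq_self_of_mem (hle hn)
    have h4 : MulAut.conj (m : G) • M = M := Grp.conj_smul_eq_self_of_mem m.2
    calc M = MulAut.conj g • M0 := rfl
      _ = MulAut.conj g • (MulAut.conj (g⁻¹ * (m : G)) • M0) := by rw [h3]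
      _ = MulAut.conj (m : G) • M0 := by rw [Grp.conj_smul_conj_smul, mul_inv_cancel_left]
      _ = M0 := by
        have hmM : (m : G) ∈ MulAut.conj g • M0 := m.2
        have : MulAut.conj (m : G) • M0 = M0 := by
          have h5 : g⁻¹ * (m : G) * g ∈ M0 := by
            rw [Subgroup.mem_pointwise_smul_iff_inv_smul_mem, MulAut.smul_def, MulAut.conj_inv_apply] at hmM
            exact hmM
          have h6 : g ∈ M0 := by
            have := mul_mem (inv_mem (hle hn)) h5
            rwa [show (g⁻¹ * (m : G))⁻¹ * (g⁻¹ * (m : G) * g) = g by group] at this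
          have h7 : (m : G) ∈ M0 := by
            have := mul_mem h6 (hle hn)
            rwa [mul_inv_cancel_left] at this
          exact Grp.conj_smul_eq_self_of_mem h7
        exact this

end Cfsg.Agent.S3858
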