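import Cfsg.Statements.S3859
import Cfsg.Agent.Lib.Grp.SchurZassenhaus
import Cfsg.Agent.Lib.Grp.Cores

set_option autoImplicit false
open Cfsg

namespace Cfsg.Agent.S3859

/-- Let G be a finite group with a normal non-abelian simple subgroup T whose centralizer is trivial (G almost simple with socle T), r a prime and R a Sylow r-subgroup of G meeting T nontrivially. If R lies in exactly one maximal subgroup of G, then G/T is an r-group. -/
theorem result {G : Type*} [Group G] [Finite G] (T : Subgroup G) [T.Normal] (hT : IsSimpleGroup T) (hna : ¬ IsMulCommutative T)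
    (hC : Subgroup.centralizer (T : Set G) = ⊥) {r : ℕ} [Fact r.Prime] (R : Sylow r G) (hR0 : (R : Subgroup G) ⊓ T ≠ ⊥)
    (huniq : ∃! M : Subgroup G, IsCoatom M ∧ (R : Subgroup G) ≤ M) : IsPGroup r (G ⧸ T) := by
  obtain ⟨M, ⟨hM, hRM⟩, huniq⟩ := huniq
  have hlem : ∀ K : Subgroup G, K ≠ ⊤ → (R : Subgroup G) ≤ K → K ≤ M := by
    intro K hK hRK
    obtain h | ⟨M', hM', hle⟩ := eq_top_or_exists_le_coatom K
    · exact absurd h hK
    · exact huniq M' ⟨hM', hRK.trans hle⟩ ▸ hle
  have hTbot : T ≠ ⊥ := fun e => by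
    haveI := hT.1
    exact (Subgroup.nontrivial_iff_ne_bot _).mp inferInstance e
  have hnormal : ∀ L : Subgroup G, L.Normal → L ≤ T → L = ⊥ ∨ L = T := by
    intro L hL hLT
    rcases hT.eq_bot_or_eq_top_of_normal (L.subgroupOf T) inferInstance with e | e
    · left
      rw [Subgroup.subgroupOf_eq_bot, disjoint_iff, inf_eq_left.mpr hLT] at e
      exact e
    · exact Or.inr (le_antisymm hLT (Subgroup.subgroupOf_eq_top.mp e))
  set S : Subgroup G := (R : Subgroup G) ⊓ T with hS
  have hNS : Subgroup.normalizer (S : Set G) ≠ ⊤ := by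
    intro h
    rcases hnormal S (Subgroup.normalizer_eq_top_iff.mp h) inf_le_right with e | e
    · exact hR0 e
    · have hp : IsPGroup r T := e ▸ R.isPGroup'.to_le inf_le_left
      haveI := hT.1
      have := hp.center_nontrivial
      rcases hT.eq_bot_or_eq_top_of_normal (Subgroup.center T) inferInstance with e' | e'
      · exact (Subgroup.nontrivial_iff_ne_bot _).mp this e'
      · exact hna ⟨⟨fun a b => Subgroup.mem_center_iff.mp (e'.ge (Subgroup.mem_top b)) a⟩⟩
  have hRN : (R : Subgroup G) ≤ Subgroup.normalizer (S : Set G) := by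
    intro a ha
    rw [Grp.mem_normalizer_iff_smul, hS, Subgroup.smul_inf, Grp.conj_smul_eq_self_of_mem ha,
      Grp.smul_le_of_le_normalizer (N := T) (H := ⊤) (by rw [Subgroup.normalizer_eq_top]) a (Subgroup.mem_top a)]
  have hNM := hlem _ hNS hRN
  have hfr : Subgroup.normalizer (S : Set G) ⊔ T = ⊤ := by
    obtain ⟨Q, hQ⟩ : ∃ Q : Sylow r T, (Q : Subgroup T).map T.subtype = S := by
      have hp : IsPGroup r (S.subgroupOf T) := (R.isPGroup'.to_le inf_le_left).comap_of_injective T.subtype T.subtype_injective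
      have hi : ¬ r ∣ (S.subgroupOf T).index := by
        have h1 : S.relIndex T = (R : Subgroup G).relIndex T := by rw [hS, Subgroup.inf_relIndex_right]
        show ¬ r ∣ S.relIndex T
        rw [h1]
        exact Grp.sylow_inf_normal_relIndex R T
      refine ⟨hp.toSylow hi, ?_⟩
      show (S.subgroupOf T).map T.subtype = S
      rw [Subgroup.subgroupOf_map_subtype, hS, inf_assoc, inf_idem]
    have := Sylow.normalizer_sup_eq_top Q
    rwa [hQ] at this
  by_contra hnp
  have hRT : (R : Subgroup G) ⊔ T ≠ ⊤ := by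
    intro h
    refine hnp fun q => ?_
    obtain ⟨g, rfl⟩ := QuotientGroup.mk'_surjective T q
    obtain ⟨a, ha, b, hb, rfl⟩ := Subgroup.mem_sup_of_normal_right.mp (h ▸ Subgroup.mem_top g)
    obtain ⟨k, hk⟩ := R.isPGroup' ⟨a, ha⟩
    refine ⟨k, ?_⟩
    rw [map_mul, show QuotientGroup.mk' T b = 1 from (QuotientGroup.eq_one_iff _).mpr hb, mul_one, ← map_pow,
      show a ^ r ^ k = 1 from congrArg Subtype.val hk, map_one]
  have hTM : T ≤ M := le_sup_right.trans (hlem _ hRT le_sup_left)
  exact hM.1 (top_le_iff.mp (hfr ▸ sup_le hNM hTM))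

end Cfsg.Agent.S3859
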