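import Cfsg.Statements.S3862
import Mathlib
import Cfsg.Agent.Lib.Transfer.Frobenius
import Cfsg.Agent.Lib.Grp.Coprime

set_option autoImplicit false
open Cfsg
open scoped commutatorElement

namespace Cfsg.Agent.S3862

/-- If every 2-element of the finite group G that is conjugate to its inverse lies in the centre of G, then G has a normal 2-complement. -/
theorem result {G : Type*} [Group G] [Finite G] (h : ∀ x : G, (∃ j : ℕ, orderOf x = 2 ^ j) → IsConj x x⁻¹ → x ∈ Subgroup.center G) : Cfsg.HasNormalPComplement 2 G := by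
  classical
  rw [Agent.Transfer.hasNormalPComplement_iff_frobeniusCondition (default : Sylow 2 G)]
  suffices key : ∀ (n : ℕ) (Q : Subgroup G), Nat.card Q = n → IsPGroup 2 Q →
      ∀ g ∈ Subgroup.normalizer (Q : Set G), Nat.Coprime (orderOf g) 2 → ∀ q ∈ Q, q * g = g * q by
    intro Q hQ g hg hgc q hq
    exact key _ Q rfl ((default : Sylow 2 G).isPGroup'.to_le hQ) g hg hgc q hq
  intro n
  induction n using Nat.strong_induction_on with
  | _ n ih =>
  intro Q hn hQ g hg hgc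
  by_contra hne
  push Not at hne
  obtain ⟨x, hxQ, hxg⟩ := hne
  set A := Subgroup.zpowers g with hA
  have hAQ : A ≤ Subgroup.normalizer (Q : Set G) := Subgroup.zpowers_le.mpr hg
  have hcA : ∀ R : Subgroup G, R ≤ Q → R ≠ Q → g ∈ Subgroup.normalizer (R : Set G) → ⁅R, A⁆ = ⊥ := by
    intro R hR hRne hgR
    rw [Subgroup.commutator_eq_bot_iff_le_centralizer]
    intro r hr
    have hlt : Nat.card R < n := hn ▸ lt_of_le_of_ne (Subgroup.card_le_of_le hR)
      (fun h => hRne (Subgroup.eq_of_le_of_card_ge hR h.ge))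
    have h1 : g ∈ Subgroup.centralizer ({r} : Set G) := Subgroup.mem_centralizer_singleton_iff.mpr
      (ih _ hlt R rfl (hQ.to_le hR) g hgR hgc r hr).symm
    rw [Subgroup.mem_centralizer_iff]
    intro a ha
    exact Subgroup.mem_centralizer_singleton_iff.mp ((Subgroup.zpowers_le.mpr h1) ha)
  have hcop : (Nat.card A).Coprime (Nat.card Q) := by
    obtain ⟨m, hm⟩ := IsPGroup.iff_card.mp hQ
    rw [Nat.card_zpowers, hm]
    exact hgc.pow_right m
  have hsolv : Group.IsSolvable A ∨ Group.IsSolvable Q := Or.inl inferInstance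
  have hQA : ⁅Q, A⁆ = Q := by
    by_contra hne
    have h1 := hcA _ (Agent.Grp.commutator_le_left_of_le_normalizer hAQ) hne
      (Agent.Grp.right_le_normalizer_commutator A Q (Subgroup.mem_zpowers g))
    exact hxg (Subgroup.mem_centralizer_iff.mp
      (Agent.Grp.le_centralizer_of_series A Q _ hAQ hcop hsolv le_rfl h1 (Subgroup.mem_zpowers g)) x hxQ)
  set Sq := Subgroup.closure {s : G | ∃ y ∈ Q, y * y = s} with hSq
  have hSqQ : Sq ≤ Q := (Subgroup.closure_le _).mpr (by rintro _ ⟨y, hy, rfl⟩; exact mul_mem hy hy)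
  have hmem : ∀ y ∈ Q, y * y ∈ Sq := fun y hy => Subgroup.subset_closure ⟨y, hy, rfl⟩
  have hinv : ∀ c : G, c ∈ Subgroup.normalizer (Q : Set G) → c ∈ Subgroup.normalizer (Sq : Set G) := by
    intro c hc
    have key : ∀ c : G, c ∈ Subgroup.normalizer (Q : Set G) → ∀ s ∈ Sq, c * s * c⁻¹ ∈ Sq := by
      intro c hc s hs
      have : Sq ≤ Sq.comap (MulAut.conj c).toMonoidHom := by
        rw [hSq, Subgroup.closure_le]
        rintro _ ⟨y, hy, rfl⟩
        exact Subgroup.subset_closure ⟨c * y * c⁻¹, (Subgroup.mem_normalizer_iff.mp hc y).mp hy,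
          show _ = c * (y * y) * c⁻¹ by group⟩
      exact this hs
    rw [Subgroup.mem_normalizer_iff]
    refine fun s => ⟨key c hc s, fun h => ?_⟩
    have := key c⁻¹ (inv_mem hc) _ h
    rwa [inv_inv, show c⁻¹ * (c * s * c⁻¹) * c = s by group] at this
  have hSqne : Sq ≠ Q := by
    intro heq
    obtain ⟨m, hm⟩ := IsPGroup.iff_card.mp hQ
    rcases m with _ | m
    · rw [pow_zero] at hm
      rw [Subgroup.card_eq_one.mp hm, Subgroup.mem_bot] at hxQ
      exact hxg (by rw [hxQ]; simp)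
    · haveI : Fact (Nat.Prime 2) := ⟨Nat.prime_two⟩
      obtain ⟨M, hM⟩ := Sylow.exists_subgroup_card_pow_prime 2 (G := Q) (n := m) (hm ▸ pow_dvd_pow 2 m.le_succ)
      have hM2 : M.index = 2 := by
        have := M.card_mul_index
        rw [hM, hm, pow_succ] at this
        exact Nat.eq_of_mul_eq_mul_left (pow_pos two_pos m) this
      have h1 : Sq ≤ M.map Q.subtype := by
        rw [hSq, Subgroup.closure_le]
        rintro _ ⟨y, hy, rfl⟩
        exact ⟨⟨y, hy⟩ * ⟨y, hy⟩, Subgroup.mul_self_mem_of_index_two hM2 _, rfl⟩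
      have h2 := Subgroup.card_le_of_le (heq ▸ h1)
      rw [Subgroup.card_map_of_injective Q.subtype_injective, hM, hm, pow_succ] at h2
      have := pow_pos (two_pos : 0 < 2) m
      omega
  have hSA : ⁅Sq, A⁆ = ⊥ := hcA _ hSqQ hSqne (hinv g hg)
  have hQSq : ⁅Sq, Q⁆ ≤ Sq := Agent.Grp.commutator_le_left_of_le_normalizer
    (fun c hc => hinv c (Subgroup.le_normalizer hc))
  have hcent : ⁅Q, Sq⁆ = ⊥ := by
    have h1 : ⁅⁅A, Sq⁆, Q⁆ = ⊥ := by rw [Subgroup.commutator_comm A Sq, hSA, Subgroup.commutator_bot_left]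
    have h2 : ⁅⁅Sq, Q⁆, A⁆ = ⊥ := eq_bot_iff.mpr ((Subgroup.commutator_mono hQSq le_rfl).trans hSA.le)
    have := Subgroup.commutator_commutator_eq_bot_of_rotate h1 h2
    rwa [hQA] at this
  have hc : ∀ s ∈ Sq, ∀ y ∈ Q, y * s = s * y := fun s hs y hy =>
    (Subgroup.mem_centralizer_iff.mp (Subgroup.commutator_eq_bot_iff_le_centralizer.mp hcent hy) s hs).symm
  have hgs : ∀ s ∈ Sq, g * s * g⁻¹ = s := fun s hs => by
    rw [mul_inv_eq_iff_eq_mul]
    exact Subgroup.mem_centralizer_iff.mp (Subgroup.commutator_eq_bot_iff_le_centralizer.mp hSA hs) g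
      (Subgroup.mem_zpowers g)
  have hcm : ∀ y ∈ Q, ∀ z ∈ Q, ⁅y, z⁆ ∈ Sq := fun y hy z hz => by
    rw [show ⁅y, z⁆ = (y * y) * ((y⁻¹ * z) * (y⁻¹ * z)) * (z * z)⁻¹ by simp only [commutatorElement_def]; group]
    exact mul_mem (mul_mem (hmem y hy) (hmem _ (mul_mem (inv_mem hy) hz))) (inv_mem (hmem z hz))
  let _ : CommGroup Sq := { (inferInstance : Group Sq) with
    mul_comm := fun a b => Subtype.ext (hc b b.2 a (hSqQ a.2)) }
  let ψ : ∀ y ∈ Q, Q →* Sq := fun y hy => MonoidHom.mk' (fun z => ⟨⁅y, (z : G)⁆, hcm y hy z z.2⟩) fun a b => Subtype.ext (by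
    show ⁅y, (a : G) * b⁆ = ⁅y, (a : G)⁆ * ⁅y, (b : G)⁆
    rw [commutatorElement_mul_right_eq_mul_conj, mul_assoc ⁅y, (a : G)⁆, mul_assoc ⁅y, (a : G)⁆,
      hc _ (hcm y hy b b.2) a a.2, mul_inv_cancel_right])
  have hsq : (⟨x * x, hmem x hxQ⟩ : Sq) ∈ (ψ x hxQ).range := by
    by_contra hnot
    obtain ⟨φ, hφ⟩ := CommGroup.exists_apply_ne_one_of_hasEnoughRootsOfUnity (Sq ⧸ (ψ x hxQ).range) ℂ
      (a := ((⟨x * x, hmem x hxQ⟩ : Sq) : Sq ⧸ (ψ x hxQ).range)) (fun h => hnot ((QuotientGroup.eq_one_iff _).mp h))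
    set f := φ.comp (QuotientGroup.mk' (ψ x hxQ).range) with hf
    -- the radical of the commutator form
    let R : Subgroup G :=
      { carrier := {y | ∃ hy : y ∈ Q, ∀ z : Q, f (ψ y hy z) = 1}
        one_mem' := ⟨one_mem Q, fun z => by
          rw [show ψ 1 (one_mem Q) z = 1 from Subtype.ext (commutatorElement_one_left _), map_one]⟩
        mul_mem' := fun {a b} ⟨ha, ha'⟩ ⟨hb, hb'⟩ => ⟨mul_mem ha hb, fun z => by
          have e : ψ (a * b) (mul_mem ha hb) z = ψ b hb z * ψ a ha z := Subtype.ext (by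
            show ⁅a * b, (z : G)⁆ = ⁅b, (z : G)⁆ * ⁅a, (z : G)⁆
            rw [commutatorElement_mul_left_eq_conj_mul, hc _ (hcm b hb z z.2) a ha, mul_inv_cancel_right])
          rw [e, map_mul, ha', hb', one_mul]⟩
        inv_mem' := fun {a} ⟨ha, ha'⟩ => ⟨inv_mem ha, fun z => by
          have e : ψ a⁻¹ (inv_mem ha) z * ψ a ha z = 1 := Subtype.ext (by
            show ⁅a⁻¹, (z : G)⁆ * ⁅a, (z : G)⁆ = 1
            have := commutatorElement_mul_left_eq_conj_mul a a⁻¹ (z : G)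
            rw [mul_inv_cancel, commutatorElement_one_left, hc _ (hcm a⁻¹ (inv_mem ha) z z.2) a ha, mul_inv_cancel_right] at this
            exact this.symm)
          have := congrArg f e
          rwa [map_mul, ha', mul_one, map_one] at this⟩ }
    have hxR : x ∈ R := ⟨hxQ, fun z => by
      rw [hf, MonoidHom.comp_apply, show QuotientGroup.mk' (ψ x hxQ).range (ψ x hxQ z) = 1 from
        (QuotientGroup.eq_one_iff _).mpr ⟨z, rfl⟩, map_one]⟩
    have hgR : ∀ c : G, c ∈ Subgroup.normalizer (Q : Set G) → (∀ s ∈ Sq, c * s * c⁻¹ = s) →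
        ∀ y ∈ R, c * y * c⁻¹ ∈ R := by
      rintro c hcQ hcs y ⟨hy, hy'⟩
      refine ⟨(Subgroup.mem_normalizer_iff.mp hcQ y).mp hy, fun z => ?_⟩
      have hz : c⁻¹ * (z : G) * c ∈ Q := by
        have := (Subgroup.mem_normalizer_iff.mp (inv_mem hcQ) z).mp z.2
        rwa [inv_inv] at this
      refine Eq.trans (congrArg f ?_) (hy' ⟨c⁻¹ * z * c, hz⟩)
      refine Subtype.ext ?_
      show ⁅c * y * c⁻¹, (z : G)⁆ = ⁅y, c⁻¹ * (z : G) * c⁆
      rw [← hcs _ (hcm y hy _ hz)]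
      simp only [commutatorElement_def]; group
    have hRQ : R ≤ Q := fun y hy => Exists.elim hy fun h _ => h
    have hRe : R = Q := by
      by_contra hRne
      refine hxg (Subgroup.mem_centralizer_iff.mp ?_ g (Subgroup.mem_zpowers g)).symm
      refine Subgroup.commutator_eq_bot_iff_le_centralizer.mp (hcA R hRQ hRne ?_) hxR
      rw [Subgroup.mem_normalizer_iff]
      refine fun y => ⟨hgR g hg hgs y, fun h => ?_⟩
      have := hgR g⁻¹ (inv_mem hg) (fun s hs => by
        conv_lhs => rw [← hgs s hs]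
        group) _ h
      rwa [inv_inv, show g⁻¹ * (g * y * g⁻¹) * g = y by group] at this
    let F : Q →* ℂˣ := MonoidHom.mk' (fun y => f ⟨(y : G) * y, hmem y y.2⟩) fun a b => by
      have e : (⟨((a : G) * b) * (a * b), hmem _ (mul_mem a.2 b.2)⟩ : Sq) =
          ⟨(a : G) * a, hmem a a.2⟩ * ψ (a : G)⁻¹ (inv_mem a.2) b * ⟨(b : G) * b, hmem b b.2⟩ := Subtype.ext (by
        show (a : G) * b * (a * b) = (a : G) * a * ⁅(a : G)⁻¹, (b : G)⁆ * (b * b)
        simp only [commutatorElement_def]; group)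
      obtain ⟨hai, hai'⟩ := (show (a : G)⁻¹ ∈ R from (congrArg (fun T : Subgroup G => (a : G)⁻¹ ∈ T) hRe).mpr (inv_mem a.2))
      show f ⟨((a : G) * b) * (a * b), _⟩ = _
      rw [e, map_mul, map_mul, hai' b, mul_one]
    have hker : ⁅Q, A⁆ ≤ F.ker.map Q.subtype := by
      rw [Subgroup.commutator_le]
      intro y hy a ha
      have haQ := hAQ ha
      have has : ∀ s ∈ Sq, a * s * a⁻¹ = s := fun s hs => by
        rw [mul_inv_eq_iff_eq_mul]
        exact Subgroup.mem_centralizer_iff.mp (Subgroup.commutator_eq_bot_iff_le_centralizer.mp hSA hs) a ha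
      have hy2 : a * y⁻¹ * a⁻¹ ∈ Q := (Subgroup.mem_normalizer_iff.mp haQ _).mp (inv_mem hy)
      refine ⟨⟨y, hy⟩ * ⟨a * y⁻¹ * a⁻¹, hy2⟩, ?_, by simp [commutatorElement_def, mul_assoc]⟩
      rw [SetLike.mem_coe, MonoidHom.mem_ker, map_mul]
      show f ⟨y * y, _⟩ * f ⟨_, _⟩ = 1
      rw [← map_mul, ← map_one f]
      refine congrArg f (Subtype.ext ?_)
      show y * y * (a * y⁻¹ * a⁻¹ * (a * y⁻¹ * a⁻¹)) = 1
      rw [show a * y⁻¹ * a⁻¹ * (a * y⁻¹ * a⁻¹) = a * (y * y)⁻¹ * a⁻¹ by group, has _ (inv_mem (hmem y hy)), mul_inv_cancel]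
    obtain ⟨x', hx', hxx⟩ := hker (hQA.symm ▸ hxQ)
    obtain rfl : x' = ⟨x, hxQ⟩ := Subtype.ext hxx
    exact hφ hx'
  obtain ⟨⟨y, hy⟩, hyx⟩ := hsq
  have h1 : x * y * x⁻¹ * y⁻¹ = x * x := congrArg Subtype.val hyx
  have hreal : IsConj x x⁻¹ := by
    rw [isConj_iff]
    refine ⟨y, ?_⟩
    rw [mul_assoc, mul_assoc, mul_right_inj] at h1
    refine inv_inj.mp ?_
    rw [inv_inv]
    refine Eq.trans ?_ h1
    group
  have hxz := h x ((IsPGroup.iff_orderOf.mp hQ ⟨x, hxQ⟩).imp fun j hj => by rwa [Subgroup.orderOf_mk] at hj) hreal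
  exact hxg (Subgroup.mem_center_iff.mp hxz g).symm

end Cfsg.Agent.S3862
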