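import Cfsg.Statements.S3863
import Mathlib

set_option autoImplicit false
open Cfsg

namespace Cfsg.Agent.S3863

/-- Let x be an element of the finite group G that is conjugate to its inverse. Then some 2-element conjugates x to its inverse; if the conjugacy class of x has odd size then x ^ 2 = 1; and x lies in, and is conjugate to its inverse inside, every normal subgroup of odd index. -/
theorem result {G : Type*} [Group G] [Finite G] (x : G) (hx : IsConj x x⁻¹) : (∃ t : G, (∃ j : ℕ, orderOf t = 2 ^ j) ∧ t * x * t⁻¹ = x⁻¹) ∧ (Odd (Subgroup.centralizer ({x} : Set G)).index → x ^ 2 = 1) ∧ ∀ (N : Subgroup G) [N.Normal], Odd N.index → ∃ hxN : x ∈ N, IsConj (⟨x, hxN⟩ : N) (⟨x, hxN⟩ : N)⁻¹ := by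
  obtain ⟨g, hg⟩ := isConj_iff.mp hx
  have hpow : ∀ m : ℕ, g ^ (2 * m) * x * (g ^ (2 * m))⁻¹ = x := by
    intro m
    induction m with
    | zero => simp
    | succ m ih =>
      rw [Nat.mul_succ, pow_add, sq,
        show g ^ (2*m) * (g * g) * x * (g ^ (2*m) * (g * g))⁻¹ = g ^ (2*m) * (g * (g * x * g⁻¹) * g⁻¹) * (g ^ (2*m))⁻¹ by group,
        hg, show g * x⁻¹ * g⁻¹ = (g * x * g⁻¹)⁻¹ by group, hg, inv_inv, ih]
  obtain ⟨j, d, hd, hod⟩ : ∃ a d : ℕ, ¬ 2 ∣ d ∧ orderOf g = 2 ^ a * d :=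
    Nat.exists_eq_pow_mul_and_not_dvd (orderOf_pos g).ne' 2 (by norm_num)
  have hd0 : d ≠ 0 := fun e => hd (e ▸ dvd_zero 2)
  set t := g ^ d with ht
  have htord : orderOf t = 2 ^ j := by
    rw [orderOf_pow_of_dvd hd0 (hod ▸ dvd_mul_left _ _), hod, Nat.mul_div_cancel _ (Nat.pos_of_ne_zero hd0)]
  have htx : t * x * t⁻¹ = x⁻¹ := by
    rw [ht, show d = 2 * (d / 2) + 1 by omega, pow_succ',
      show g * g ^ (2 * (d / 2)) * x * (g * g ^ (2 * (d / 2)))⁻¹ = g * (g ^ (2 * (d / 2)) * x * (g ^ (2 * (d / 2)))⁻¹) * g⁻¹ by group,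
      hpow, hg]
  have htN : ∀ (N : Subgroup G) [N.Normal], Odd N.index → t ∈ N := by
    intro N _ hN
    rw [← QuotientGroup.eq_one_iff, ← orderOf_eq_one_iff]
    exact Nat.eq_one_of_dvd_coprimes (Nat.Coprime.pow_left j (Nat.coprime_two_left.mpr hN))
      ((orderOf_map_dvd (QuotientGroup.mk' N) t).trans (dvd_of_eq htord)) (orderOf_dvd_natCard _)
  refine ⟨⟨t, ⟨j, htord⟩, htx⟩, fun hodd => ?_, fun N _ hN => ?_⟩
  · set C := Subgroup.centralizer ({x} : Set G) with hC
    have htM : t ∈ Subgroup.normalizer (C : Set G) := by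
      rw [Subgroup.mem_normalizer_iff]
      intro c
      simp only [hC, Subgroup.mem_centralizer_singleton_iff]
      have e : x = t * x⁻¹ * t⁻¹ := by
        have := congrArg (·⁻¹) htx
        simpa [mul_assoc] using this.symm
      constructor <;> intro h
      · have h' : c * x⁻¹ = x⁻¹ * c := (Commute.inv_right h).eq
        calc t * c * t⁻¹ * x = t * (c * x⁻¹) * t⁻¹ := by rw [show t * c * t⁻¹ * x = t * c * t⁻¹ * (t * x⁻¹ * t⁻¹) by rw [← e]]; group
          _ = t * (x⁻¹ * c) * t⁻¹ := by rw [h']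
          _ = (t * x⁻¹ * t⁻¹) * (t * c * t⁻¹) := by group
          _ = _ := by rw [← e]
      · have h' : Commute (t * c * t⁻¹) x⁻¹ := Commute.inv_right h
        rw [← htx] at h'
        have h'' := congrArg (fun z => t⁻¹ * z * t) h'.eq
        simpa [mul_assoc] using h''
    have hn : (C.subgroupOf (Subgroup.normalizer (C : Set G))).Normal := Subgroup.normal_in_normalizer
    have h1 : (⟨t, htM⟩ : Subgroup.normalizer (C : Set G)) ∈ C.subgroupOf _ := by
      rw [← QuotientGroup.eq_one_iff, ← orderOf_eq_one_iff]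
      refine Nat.eq_one_of_dvd_coprimes (Nat.Coprime.pow_left j (Nat.coprime_two_left.mpr hodd)) ?_
        ((orderOf_dvd_natCard _).trans (Subgroup.relIndex_dvd_index_of_le Subgroup.le_normalizer))
      refine (orderOf_map_dvd (QuotientGroup.mk' _) _).trans (dvd_of_eq ?_)
      rw [Subgroup.orderOf_mk, htord]
    have h2 := Subgroup.mem_centralizer_singleton_iff.mp (Subgroup.mem_subgroupOf.mp h1)
    simp only at h2
    rw [h2, mul_inv_cancel_right] at htx
    rw [sq]
    nth_rw 2 [htx]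
    exact mul_inv_cancel x
  · have htN' := htN N hN
    have hx2 : x ^ 2 ∈ N := by
      have h := mul_mem (‹N.Normal›.conj_mem t htN' x) (inv_mem htN')
      rwa [show x * t * x⁻¹ * t⁻¹ = x * (t * x * t⁻¹)⁻¹ by group, htx, inv_inv, ← sq] at h
    have hxN : x ∈ N := by
      rw [← QuotientGroup.eq_one_iff, ← orderOf_eq_one_iff]
      refine Nat.eq_one_of_dvd_coprimes (Nat.coprime_two_left.mpr hN) ?_ (orderOf_dvd_natCard _)
      exact orderOf_dvd_of_pow_eq_one ((QuotientGroup.eq_one_iff _).mpr hx2)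
    exact ⟨hxN, isConj_iff.mpr ⟨⟨t, htN'⟩, Subtype.ext htx⟩⟩

end Cfsg.Agent.S3863
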