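import Cfsg.Statements.S3867
import Cfsg.Agent.Lib.Grp.SchurZassenhaus
import Cfsg.Agent.Lib.Grp.Basic

set_option autoImplicit false
open Cfsg
open scoped Pointwise

namespace Cfsg.Agent.S3867

/-- Let M and N be nontrivial normal subgroups of the finite group G with M ⊓ N trivial, and let p be a prime. Writing n(X) for the number of Sylow p-subgroups of a group X, one has n(G) · n(G/MN) = n(G/M) · n(G/N). -/
theorem result {G : Type*} [Group G] [Finite G] (p : ℕ) [Fact p.Prime] (M N : Subgroup G) [M.Normal] [N.Normal] (hM : M ≠ ⊥) (hN : N ≠ ⊥) (hMN : M ⊓ N = ⊥) : Nat.card (Sylow p G) * Nat.card (Sylow p (G ⧸ (M ⊔ N))) = Nat.card (Sylow p (G ⧸ M)) * Nat.card (Sylow p (G ⧸ N)) := by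
  obtain ⟨P⟩ : Nonempty (Sylow p G) := Sylow.nonempty
  set NP := Subgroup.normalizer ((P : Subgroup G) : Set G) with hNP
  have hq : ∀ (L : Subgroup G) [L.Normal], Nat.card (Sylow p (G ⧸ L)) = (NP ⊔ L).index := by
    intro L _
    set f := QuotientGroup.mk' L
    have hf := QuotientGroup.mk'_surjective L
    rw [Sylow.card_eq_index_normalizer (P.mapSurjective hf)]
    have hcomap : (Subgroup.normalizer (((P : Subgroup G).map f : Subgroup (G ⧸ L)) : Set (G ⧸ L))).comap f = NP ⊔ L := by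
      refine le_antisymm (fun g hg => ?_) (sup_le ?_ ?_)
      · rw [Subgroup.mem_comap, Grp.mem_normalizer_iff_smul, Grp.conj_smul_map] at hg
        set X := (P : Subgroup G) ⊔ L with hX
        have h1 : ((g • P : Sylow p G) : Subgroup G) ≤ X := by
          intro a ha
          have h2 := Subgroup.mem_map_of_mem f ha
          rw [Sylow.coe_subgroup_smul, hg, ← Subgroup.mem_comap, Subgroup.comap_map_eq, QuotientGroup.ker_mk'] at h2
          exact h2
        obtain ⟨⟨x, hx⟩, hxe⟩ := MulAction.exists_smul_eq X (P.subtype le_sup_left) ((g • P).subtype h1)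
        rw [Sylow.smul_subtype] at hxe
        have h3 := Sylow.subtype_injective hxe
        have hn : x⁻¹ * g ∈ NP := Sylow.smul_eq_iff_mem_normalizer.mp (by rw [mul_smul, inv_smul_eq_iff]; exact h3.symm)
        have hxm : x ∈ NP ⊔ L := sup_le_sup_right Subgroup.le_normalizer L hx
        have := mul_mem hxm (Subgroup.mem_sup_left (T := L) hn)
        rwa [mul_inv_cancel_left] at this
      · exact Subgroup.map_le_iff_le_comap.mp (Subgroup.le_normalizer_map f)
      · intro l hl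
        rw [Subgroup.mem_comap, show f l = 1 from (QuotientGroup.eq_one_iff _).mpr hl]
        exact one_mem _
    rw [← hcomap, Subgroup.index_comap_of_surjective _ hf]
    rfl
  rw [Sylow.card_eq_index_normalizer P, hq M, hq N, hq (M ⊔ N)]
  show NP.index * _ = _
  have hinf : (NP ⊔ M) ⊓ (NP ⊔ N) = NP := by
    refine le_antisymm (fun g hg => ?_) (le_inf le_sup_left le_sup_left)
    have hn : ∀ (L : Subgroup G) [L.Normal], g ∈ NP ⊔ L → MulAut.conj g • ((P : Subgroup G) ⊔ L) = (P : Subgroup G) ⊔ L := by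
      intro L _ hgL
      refine Grp.mem_normalizer_iff_smul.mp ((sup_le ?_ ?_ : NP ⊔ L ≤ Subgroup.normalizer (((P : Subgroup G) ⊔ L : Subgroup G) : Set G)) hgL)
      · intro a ha
        rw [Grp.mem_normalizer_iff_smul, Subgroup.smul_sup, Grp.mem_normalizer_iff_smul.mp ha,
          Grp.smul_le_of_le_normalizer (N := L) (H := ⊤) (by rw [Subgroup.normalizer_eq_top]) a (Subgroup.mem_top a)]
      · exact le_sup_right.trans Subgroup.le_normalizer
    have hPP : ((P : Subgroup G) ⊔ M) ⊓ ((P : Subgroup G) ⊔ N) = (P : Subgroup G) := by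
      refine P.is_maximal' (fun ⟨a, ha⟩ => ?_) (le_inf le_sup_left le_sup_left)
      obtain ⟨haM, haN⟩ := Subgroup.mem_inf.mp ha
      have key : ∀ (L : Subgroup G) [L.Normal], a ∈ (P : Subgroup G) ⊔ L → ∃ k, a ^ p ^ k ∈ L := by
        intro L _ h
        obtain ⟨u, hu, v, hv, rfl⟩ := Subgroup.mem_sup_of_normal_right.mp h
        obtain ⟨k, hk⟩ := P.isPGroup' ⟨u, hu⟩
        refine ⟨k, ?_⟩
        rw [← QuotientGroup.eq_one_iff]
        show QuotientGroup.mk' L ((u * v) ^ p ^ k) = 1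
        rw [map_pow, map_mul, show QuotientGroup.mk' L v = 1 from (QuotientGroup.eq_one_iff _).mpr hv, mul_one, ← map_pow,
          show u ^ p ^ k = 1 from congrArg Subtype.val hk, map_one]
      obtain ⟨k1, hk1⟩ := key M haM
      obtain ⟨k2, hk2⟩ := key N haN
      refine ⟨k1 + k2, Subtype.ext ?_⟩
      have h1 : a ^ p ^ (k1 + k2) ∈ M ⊓ N := Subgroup.mem_inf.mpr
        ⟨by rw [pow_add, pow_mul]; exact pow_mem hk1 _, by rw [pow_add, mul_comm, pow_mul]; exact pow_mem hk2 _⟩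
      rw [hMN, Subgroup.mem_bot] at h1
      simpa using h1
    rw [Grp.mem_normalizer_iff_smul, ← hPP, Subgroup.smul_inf, hn M hg.1, hn N hg.2]
  have hsup : (NP ⊔ M) ⊔ (NP ⊔ N) = NP ⊔ (M ⊔ N) := by rw [sup_sup_sup_comm, sup_idem]
  have hn : NP ⊔ M ≤ Subgroup.normalizer ((N : Subgroup G) : Set G) := by rw [Subgroup.normalizer_eq_top]; exact le_top
  have hn' : NP ≤ Subgroup.normalizer ((N : Subgroup G) : Set G) := le_sup_left.trans hn
  have c1 := Grp.card_sup_mul_card_inf (N := N) hn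
  have c2 := Grp.card_sup_mul_card_inf (N := N) hn'
  have e1 : (NP ⊔ M) ⊓ N = NP ⊓ N := by
    refine le_antisymm (le_inf ?_ inf_le_right) (inf_le_inf_right N le_sup_left)
    intro g hg
    exact hinf.le ⟨hg.1, Subgroup.mem_sup_right hg.2⟩
  rw [e1, sup_assoc] at c1
  have i0 := Subgroup.card_mul_index NP
  have i1 := Subgroup.card_mul_index (NP ⊔ M)
  have i2 := Subgroup.card_mul_index (NP ⊔ N)
  have i3 := Subgroup.card_mul_index (NP ⊔ (M ⊔ N))
  have hpos : 0 < Nat.card ↥(NP ⊓ N) := Nat.card_pos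
  have hposN : 0 < Nat.card N := Nat.card_pos
  have key : Nat.card ↥(NP ⊔ (M ⊔ N)) * Nat.card NP = Nat.card ↥(NP ⊔ M) * Nat.card ↥(NP ⊔ N) := by
    refine Nat.eq_of_mul_eq_mul_right hpos ?_
    calc Nat.card ↥(NP ⊔ (M ⊔ N)) * Nat.card NP * Nat.card ↥(NP ⊓ N)
        = Nat.card ↥(NP ⊔ M) * Nat.card N * Nat.card NP := by rw [← c1]; ring
      _ = Nat.card ↥(NP ⊔ M) * (Nat.card ↥(NP ⊔ N) * Nat.card ↥(NP ⊓ N)) := by rw [c2]; ring
      _ = _ := by ring
  refine Nat.eq_of_mul_eq_mul_left (Nat.mul_pos (Nat.card_pos (α := ↥(NP ⊔ M))) (Nat.card_pos (α := ↥(NP ⊔ N)))) ?_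
  calc Nat.card ↥(NP ⊔ M) * Nat.card ↥(NP ⊔ N) * (NP.index * (NP ⊔ (M ⊔ N)).index)
      = (Nat.card NP * NP.index) * (Nat.card ↥(NP ⊔ (M ⊔ N)) * (NP ⊔ (M ⊔ N)).index) := by rw [← key]; ring
    _ = Nat.card G * Nat.card G := by rw [i0, i3]
    _ = (Nat.card ↥(NP ⊔ M) * (NP ⊔ M).index) * (Nat.card ↥(NP ⊔ N) * (NP ⊔ N).index) := by rw [i1, i2]
    _ = _ := by ring

end Cfsg.Agent.S3867
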