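import Cfsg.Statements.S3870
import Cfsg.Agent.Lib.Grp.SchurZassenhaus

set_option autoImplicit false
open Cfsg

namespace Cfsg.Agent.S3870

/-- Let G be a finite simple group whose Sylow p-subgroups are not normal but such that every proper subgroup of G has a normal Sylow p-subgroup. Then any two distinct Sylow p-subgroups of G intersect trivially, and for every Sylow p-subgroup P the normalizer of every non-identity subgroup of P lies in the normalizer of P. -/
theorem result {G : Type*} [Group G] [Finite G] [IsSimpleGroup G] {p : ℕ} [Fact p.Prime]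
    (hnc : ¬ Cfsg.IsPClosed p G) (hsub : ∀ H : Subgroup G, H ≠ ⊤ → Cfsg.IsPClosed p ↥H) :
    (∀ P Q : Sylow p G, P ≠ Q → (P : Subgroup G) ⊓ (Q : Subgroup G) = ⊥) ∧
      ∀ (P : Sylow p G) (R : Subgroup G), R ≤ P → R ≠ ⊥ →
        Subgroup.normalizer (R : Set G) ≤ Subgroup.normalizer ((P : Subgroup G) : Set G) := by
  have hTI : ∀ P Q : Sylow p G, P ≠ Q → (P : Subgroup G) ⊓ (Q : Subgroup G) = ⊥ := by
    by_contra hcon
    push Not at hcon
    obtain ⟨P0, Q0, hne0, h0⟩ := hcon
    obtain ⟨⟨P, Q⟩, ⟨hne, hD⟩, hmax⟩ := Set.exists_max_image {x : Sylow p G × Sylow p G | x.1 ≠ x.2 ∧ (x.1 : Subgroup G) ⊓ x.2 ≠ ⊥}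
      (fun x => Nat.card ↥((x.1 : Subgroup G) ⊓ x.2)) (Set.toFinite _) ⟨(P0, Q0), hne0, h0⟩
    simp only at hne hD hmax
    set D : Subgroup G := (P : Subgroup G) ⊓ Q with hDdef
    set N := Subgroup.normalizer (D : Set G) with hN
    have hNtop : N ≠ ⊤ := by
      intro h
      have hDn : D.Normal := Subgroup.normalizer_eq_top_iff.mp h
      rcases IsSimpleGroup.eq_bot_or_eq_top_of_normal D hDn with e | e
      · exact hD e
      · exact hne (Sylow.ext (le_antisymm ((le_top.trans_eq e.symm).trans inf_le_right)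
          ((le_top.trans_eq e.symm).trans inf_le_left)))
    obtain ⟨S0⟩ : Nonempty (Sylow p N) := Sylow.nonempty
    have hS0 : (S0 : Subgroup N).Normal := hsub N hNtop S0
    haveI := Sylow.unique_of_normal S0 hS0
    obtain ⟨S, hS⟩ := (S0.isPGroup'.map N.subtype).exists_le_sylow
    have key : ∀ R : Sylow p G, D < (R : Subgroup G) → R = S := by
      intro R hDR
      haveI := R.isPGroup'.isNilpotent
      have hlt : D.subgroupOf (R : Subgroup G) < ⊤ := lt_top_iff_ne_top.mpr (fun e =>
        hDR.not_ge (Subgroup.subgroupOf_eq_top.mp e))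
      obtain ⟨q, hq, hq'⟩ := SetLike.exists_of_lt (Group.normalizerCondition_of_isNilpotent _ hlt)
      rw [← Subgroup.subgroupOf_normalizer_eq hDR.le, Subgroup.mem_subgroupOf] at hq
      have hle : (R : Subgroup G) ⊓ N ≤ (S : Subgroup G) := by
        intro a ha
        obtain ⟨T, hT⟩ := (R.isPGroup'.comap_of_injective N.subtype N.subtype_injective).exists_le_sylow
        rw [Subsingleton.elim T S0] at hT
        exact hS ⟨⟨a, ha.2⟩, hT (Subgroup.mem_subgroupOf.mpr ha.1), rfl⟩
      by_contra hRS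
      have hlt2 : D < (R : Subgroup G) ⊓ S := by
        refine lt_of_le_of_ne (le_inf hDR.le (fun a ha => hle ⟨hDR.le ha, Subgroup.le_normalizer ha⟩)) fun e => hq' ?_
        rw [Subgroup.mem_subgroupOf, e]
        exact ⟨q.2, hle ⟨q.2, hq⟩⟩
      have hcard := hmax (R, S) ⟨hRS, fun e => (bot_le.trans_lt hlt2).ne' e⟩
      exact hlt2.ne (Subgroup.eq_of_le_of_card_ge hlt2.le hcard)
    have hDP : D < (P : Subgroup G) := lt_of_le_of_ne inf_le_left fun e =>
      hne (Sylow.ext (P.is_maximal' Q.isPGroup' (e.ge.trans inf_le_right)).symm)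
    have hDQ : D < (Q : Subgroup G) := lt_of_le_of_ne inf_le_right fun e =>
      hne (Sylow.ext (Q.is_maximal' P.isPGroup' (e.ge.trans inf_le_left)))
    exact hne ((key P hDP).trans (key Q hDQ).symm)
  refine ⟨hTI, fun P R hR hR1 g hg => ?_⟩
  refine Sylow.smul_eq_iff_mem_normalizer.mp ?_
  by_contra h
  refine hR1 (le_bot_iff.mp ?_)
  rw [← hTI P (g • P) (Ne.symm h)]
  refine le_inf hR ?_
  rw [Sylow.coe_subgroup_smul, ← Grp.mem_normalizer_iff_smul.mp hg, Subgroup.pointwise_smul_le_pointwise_smul_iff]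
  exact hR

end Cfsg.Agent.S3870
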