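import Cfsg.Statements.S3873
import Mathlib
import Cfsg.Agent.Lib.Grp.MinimalPClosed

set_option autoImplicit false
open Cfsg

namespace Cfsg.Agent.S3873

/-- Say that a finite group is p-exponent closed when its elements of order dividing p form a subgroup. Let G be a finite group that is not p-exponent closed, but all of whose proper subgroups and proper quotients are, and suppose G is neither simple nor a p-group. Then there is a prime q ≠ p such that G has order p · q^e, where e is the multiplicative order of q modulo p, and G has a normal elementary abelian subgroup of order q^e that is a minimal normal subgroup of G. -/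
theorem result {G : Type*} [Group G] [Finite G] {p : ℕ} [Fact p.Prime]
    (hnc : ¬ (∃ H : Subgroup G, (H : Set G) = {g : G | g ^ p = 1})) (hsub : ∀ K : Subgroup G, K ≠ ⊤ → (∃ H : Subgroup ↥K, (H : Set ↥K) = {g : ↥K | g ^ p = 1}))
    (hquo : ∀ (N : Subgroup G) [N.Normal], N ≠ ⊥ → (∃ H : Subgroup (G ⧸ N), (H : Set (G ⧸ N)) = {g : (G ⧸ N) | g ^ p = 1}))
    (hns : ¬ IsSimpleGroup G) (hnp : ¬ IsPGroup p G) :
    ∃ q : ℕ, q.Prime ∧ q ≠ p ∧ Nat.card G = p * q ^ orderOf (q : ZMod p) ∧
      ∃ A : Subgroup G, A.Normal ∧ Nat.card ↥A = q ^ orderOf (q : ZMod p) ∧ Cfsg.IsElementaryAbelian q A ∧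
        ∀ B : Subgroup G, B.Normal → B ≤ A → B = ⊥ ∨ B = A := by
  have hp : p.Prime := Fact.out
  have : Nontrivial G := by
    by_contra h
    rw [not_nontrivial_iff_subsingleton] at h
    exact hnp (IsPGroup.of_card (n := 0) (by simp))
  obtain ⟨N, hNn, hN1, hNt⟩ : ∃ N : Subgroup G, N.Normal ∧ N ≠ ⊥ ∧ N ≠ ⊤ := by
    by_contra h
    push Not at h
    exact hns { eq_bot_or_eq_top_of_normal := fun N hN => (em (N = ⊥)).imp id (h N hN) }
  obtain ⟨A, hAn, hA1, hAN, hmin⟩ := Agent.Grp.exists_minimal_normal_le hN1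
  have hAt : A ≠ ⊤ := fun h => hNt (top_le_iff.mp (h ▸ hAN))
  obtain ⟨U, hU⟩ := hquo A hA1
  set f := QuotientGroup.mk' A
  have hW : U.comap f = ⊤ := by
    by_contra hne
    obtain ⟨V, hV⟩ := hsub _ hne
    refine hnc ⟨V.map (U.comap f).subtype, ?_⟩
    ext g
    constructor
    · rintro ⟨v, hv, rfl⟩
      have h1 : v ∈ (V : Set (U.comap f)) := hv
      rw [hV] at h1
      exact congrArg Subtype.val (show v ^ p = 1 from h1)
    · intro hg
      have h1 : g ∈ U.comap f := by
        show f g ∈ (U : Set (G ⧸ A))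
        rw [hU]
        show f g ^ p = 1
        rw [← map_pow, show g ^ p = 1 from hg, map_one]
      refine ⟨⟨g, h1⟩, ?_, rfl⟩
      rw [hV]
      exact Subtype.ext (show g ^ p = 1 from hg)
  have hexpQ : ∀ g : G, g ^ p ∈ A := fun g => by
    have h1 : f g ∈ (U : Set (G ⧸ A)) := (hW ▸ Subgroup.mem_top g : g ∈ U.comap f)
    rw [hU] at h1
    rw [← QuotientGroup.eq_one_iff]
    exact (map_pow f g p).trans h1
  have hpA : ¬ p ∣ Nat.card A := by
    intro hd
    obtain ⟨V, hV⟩ := hsub A hAt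
    have hmemV : ∀ v : A, v ∈ V ↔ v ^ p = 1 := fun v => by rw [← SetLike.mem_coe, hV]; rfl
    obtain ⟨v, hv⟩ := exists_prime_orderOf_dvd_card' (G := A) p hd
    have hVn : (V.map A.subtype).Normal := by
      refine ⟨?_⟩
      rintro _ ⟨w, hw, rfl⟩ g
      refine ⟨⟨g * w * g⁻¹, hAn.conj_mem _ w.2 g⟩, (hmemV _).mpr (Subtype.ext ?_), rfl⟩
      show (g * (w : G) * g⁻¹) ^ p = 1
      rw [conj_pow, show (w : G) ^ p = 1 from congrArg Subtype.val ((hmemV w).mp hw), mul_one, mul_inv_cancel]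
    rcases hmin _ hVn (Subgroup.map_subtype_le _) with h | h
    · rw [Subgroup.map_eq_bot_iff_of_injective _ A.subtype_injective] at h
      have h2 : v ∈ V := (hmemV v).mpr (by rw [← hv]; exact pow_orderOf_eq_one v)
      rw [h, Subgroup.mem_bot] at h2
      rw [h2, orderOf_one] at hv
      exact hp.one_lt.ne hv
    · refine hnp fun g => ⟨2, ?_⟩
      have h2 : g ^ p ∈ V.map A.subtype := by rw [h]; exact hexpQ g
      obtain ⟨w, hw, hwe⟩ := h2
      have h3 : (g ^ p) ^ p = 1 := by rw [← hwe]; exact congrArg Subtype.val ((hmemV w).mp hw)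
      rw [pow_two, pow_mul]; exact h3
  have hex : ∀ x : G, (∃ k : ℕ, x ^ p ^ k = 1) → x ^ p = 1 := by
    rintro x ⟨k, hk⟩
    rw [← orderOf_eq_one_iff]
    refine Nat.eq_one_of_dvd_coprimes ((hp.coprime_iff_not_dvd.mpr hpA).pow_left k) ?_
      (Subgroup.orderOf_dvd_natCard A (hexpQ x))
    exact orderOf_dvd_of_pow_eq_one (by rw [← pow_mul, mul_comm, pow_mul, hk, one_pow])
  refine Agent.Grp.MinPClosed.structure_of_minimal ?_ ?_ ?_ hns
  · intro hcl
    obtain ⟨P⟩ : Nonempty (Sylow p G) := inferInstance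
    refine hnc ⟨P, ?_⟩
    ext g
    constructor
    · intro hg
      obtain ⟨k, hk⟩ := P.isPGroup' ⟨g, hg⟩
      exact hex g ⟨k, by simpa using congrArg Subtype.val hk⟩
    · intro hg
      obtain ⟨Q, hQ⟩ := (show IsPGroup p (Subgroup.zpowers g) from by
        rcases (Nat.dvd_prime hp).mp (orderOf_dvd_of_pow_eq_one (show g ^ p = 1 from hg)) with h | h
        · exact IsPGroup.of_card (n := 0) (by rw [Nat.card_zpowers, h, pow_zero])
        · exact IsPGroup.of_card (n := 1) (by rw [Nat.card_zpowers, h, pow_one])).exists_le_sylow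
      have := hcl P
      have e : (Q : Subgroup G) = P := P.3 Q.isPGroup' (P.isPGroup'.le_sylow_of_normal Q)
      exact e ▸ hQ (Subgroup.mem_zpowers g)
  · intro H hH
    obtain ⟨K, hK⟩ := hsub H hH
    refine Agent.Grp.MinPClosed.isPClosed_of_omega (fun x hx => Subtype.ext ?_) K hK
    obtain ⟨k, hk⟩ := hx
    exact hex x ⟨k, by simpa using congrArg Subtype.val hk⟩
  · intro M _ hM
    obtain ⟨K, hK⟩ := hquo M hM
    refine Agent.Grp.MinPClosed.isPClosed_of_omega (fun y hy => ?_) K hK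
    obtain ⟨k, hk⟩ := hy
    have hpy : IsPGroup p (Subgroup.zpowers y) := by
      obtain ⟨j, -, hj⟩ := (Nat.dvd_prime_pow hp).mp (orderOf_dvd_of_pow_eq_one hk)
      exact IsPGroup.of_card (n := j) (by rw [Nat.card_zpowers, hj])
    obtain ⟨Q, hQ⟩ := hpy.exists_le_sylow
    obtain ⟨P, hP⟩ := Sylow.mapSurjective_surjective (QuotientGroup.mk'_surjective M) p Q
    have h2 : y ∈ (P : Subgroup G).map (QuotientGroup.mk' M) := by
      rw [← Sylow.coe_mapSurjective (QuotientGroup.mk'_surjective M), hP]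
      exact hQ (Subgroup.mem_zpowers y)
    obtain ⟨x, hx, rfl⟩ := h2
    obtain ⟨j, hj⟩ := P.isPGroup' ⟨x, hx⟩
    rw [← map_pow, hex x ⟨j, by simpa using congrArg Subtype.val hj⟩, map_one]

end Cfsg.Agent.S3873
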