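import Cfsg.Statements.S3875
import Cfsg.Agent.Lib.Grp.LeastNonPClosed
import Cfsg.Agent.Lib.Fus.PSLTwo

set_option autoImplicit false
open Cfsg

namespace Cfsg.Agent.S3875

/-- Let p be an odd prime and let m be the least prime power congruent to 1 modulo p. Then the least order of a finite group whose Sylow p-subgroups are not normal is the smaller of p · m and p(p² − 1)/2: every finite group whose Sylow p-subgroups are not normal has at least that order, and some group of exactly that order has non-normal Sylow p-subgroups. -/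
theorem result (p : ℕ) [Fact p.Prime] (hp : p ≠ 2) (m : ℕ) (hm : IsPrimePow m) (hm1 : m % p = 1)
    (hleast : ∀ k : ℕ, IsPrimePow k → k % p = 1 → m ≤ k) :
    (∀ (H : Type) [Group H] [Finite H], ¬ Cfsg.IsPClosed p H → min (p * m) (p * (p ^ 2 - 1) / 2) ≤ Nat.card H) ∧
      ∃ (H : Type) (_ : Group H) (_ : Finite H), Nat.card H = min (p * m) (p * (p ^ 2 - 1) / 2) ∧ ¬ Cfsg.IsPClosed p H := by
  classical
  have hpp : p.Prime := Fact.out
  have hp3 : 3 ≤ p := by have := hpp.two_le; omega
  refine ⟨fun H _ _ hH => Agent.Grp.LeastNonPClosed.lower hp hleast (Nat.card H) H rfl hH, ?_⟩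
  rcases le_or_gt (p * m) (p * (p ^ 2 - 1) / 2) with hle | hgt
  · rw [min_eq_left hle]
    obtain ⟨q, f, hq, hf, rfl⟩ := hm
    haveI := Fact.mk hq.nat_prime
    let F := GaloisField q f
    haveI : Finite F := Nat.finite_of_card_ne_zero (by
      rw [GaloisField.card q f (by omega)]; exact pow_ne_zero _ hq.nat_prime.ne_zero)
    have hF : Nat.card F = q ^ f := GaloisField.card q f (by omega)
    have hdvd : p ∣ Nat.card Fˣ := by
      rw [Nat.card_units, hF]
      conv_rhs => rw [← Nat.div_add_mod (q ^ f) p, hm1, Nat.add_sub_cancel]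
      exact dvd_mul_right p _
    obtain ⟨u, hu⟩ := exists_prime_orderOf_dvd_card' (G := Fˣ) p hdvd
    let S := Subgroup.zpowers u
    let φ : S →* MulAut (Multiplicative F) :=
      { toFun := fun s =>
          { toFun := fun a => Multiplicative.ofAdd (((s : Fˣ) : F) * Multiplicative.toAdd a)
            invFun := fun a => Multiplicative.ofAdd ((((s : Fˣ)⁻¹ : Fˣ) : F) * Multiplicative.toAdd a)
            left_inv := fun a => by simp
            right_inv := fun a => by simp
            map_mul' := fun a b => by simp [mul_add] }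
        map_one' := by ext a; simp
        map_mul' := fun s t => by ext a; simp [mul_assoc] }
    haveI : Finite (Multiplicative F ⋊[φ] S) := Finite.of_equiv _ SemidirectProduct.equivProd.symm
    have hS : Nat.card S = p := by rw [Nat.card_zpowers, hu]
    have hH : Nat.card (Multiplicative F ⋊[φ] S) = p * q ^ f := by
      rw [Nat.card_congr SemidirectProduct.equivProd, Nat.card_prod, hS, mul_comm]
      exact congrArg (p * ·) hF
    refine ⟨(Multiplicative F ⋊[φ] S), inferInstance, inferInstance, hH, fun hcl => ?_⟩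
    let b : (Multiplicative F ⋊[φ] S) := SemidirectProduct.inr ⟨u, Subgroup.mem_zpowers u⟩
    have hb : IsPGroup p (Subgroup.zpowers b) := by
      refine IsPGroup.of_card (n := 1) ?_
      rw [Nat.card_zpowers, orderOf_injective _ SemidirectProduct.inr_injective, Subgroup.orderOf_mk, hu,
        pow_one]
    obtain ⟨P, hP⟩ := hb.exists_le_sylow
    haveI := hcl P
    have hbP : b ∈ (P : Subgroup (Multiplicative F ⋊[φ] S)) := hP (Subgroup.mem_zpowers b)
    let a : Multiplicative F := Multiplicative.ofAdd (1 : F)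
    have hmem : SemidirectProduct.inl a * b * (SemidirectProduct.inl a)⁻¹ * b⁻¹ ∈ (P : Subgroup (Multiplicative F ⋊[φ] S)) :=
      mul_mem ((hcl P).conj_mem b hbP _) (inv_mem hbP)
    set c : Multiplicative F := a * (φ ⟨u, Subgroup.mem_zpowers u⟩ a)⁻¹ with hc
    have hce : SemidirectProduct.inl a * b * (SemidirectProduct.inl a)⁻¹ * b⁻¹ = (SemidirectProduct.inl c : (Multiplicative F ⋊[φ] S)) := by
      rw [hc]
      ext <;> simp [b]
    rw [hce] at hmem
    have h1 : orderOf c ∣ Nat.card P := by
      rw [← orderOf_injective (SemidirectProduct.inl : Multiplicative F →* (Multiplicative F ⋊[φ] S)) SemidirectProduct.inl_injective c]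
      exact Subgroup.orderOf_dvd_natCard _ hmem
    have h2 : orderOf c ∣ q ^ f := hF ▸ orderOf_dvd_natCard c
    obtain ⟨k, hk⟩ := P.isPGroup'.exists_card_eq
    rw [show Nat.card P = p ^ k from hk] at h1
    have hne : q ≠ p := by
      intro h
      rw [h, Nat.pow_mod, Nat.mod_self, zero_pow (by omega), Nat.zero_mod] at hm1
      exact zero_ne_one hm1
    have hc1 : c = 1 := orderOf_eq_one_iff.mp
      (Nat.eq_one_of_dvd_coprimes (Nat.Coprime.pow k f ((Nat.coprime_primes hpp hq.nat_prime).mpr hne.symm)) h1 h2)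
    rw [hc, mul_inv_eq_one] at hc1
    have h3 : (u : F) * 1 = 1 := congrArg Multiplicative.toAdd hc1.symm
    rw [mul_one, Units.val_eq_one] at h3
    rw [h3, orderOf_one] at hu
    omega
  · rw [min_eq_right hgt.le]
    have hcard : Nat.card (Matrix.ProjectiveSpecialLinearGroup (Fin 2) (ZMod p)) = p * (p ^ 2 - 1) / 2 := by
      have h := Agent.Classical.natCard_PSL_mul (F := ZMod p) 2 (by norm_num)
      rw [Agent.Fus.PSLTwo.natCard_SL_two, ZMod.card, Agent.Classical.natCard_units_field, ZMod.card] at h
      rw [Nat.gcd_eq_left (Nat.Prime.even_sub_one hpp hp).two_dvd] at h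
      have e : p ^ 2 - 1 = (p - 1) * (p + 1) := by
        rw [mul_comm, ← Nat.sq_sub_sq, one_pow]
      rw [e, ← h]
      omega
    refine ⟨Matrix.ProjectiveSpecialLinearGroup (Fin 2) (ZMod p), inferInstance, inferInstance, hcard,
      fun hcl => ?_⟩
    let π : Matrix.SpecialLinearGroup (Fin 2) (ZMod p) →* Matrix.ProjectiveSpecialLinearGroup (Fin 2) (ZMod p) :=
      QuotientGroup.mk' _
    let U : ℕ → Matrix.SpecialLinearGroup (Fin 2) (ZMod p) := fun k => Agent.Fus.PSLTwo.mk2 1 (k : ZMod p) 0 1 (by ring)
    let L : ℕ → Matrix.SpecialLinearGroup (Fin 2) (ZMod p) := fun k => Agent.Fus.PSLTwo.mk2 1 0 (k : ZMod p) 1 (by ring)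
    have hU : ∀ k : ℕ, U 1 ^ k = U k := by
      intro k
      induction k with
      | zero =>
        apply Subtype.ext
        simp [U, ← Matrix.one_fin_two]
      | succ k ih =>
        rw [pow_succ, ih]
        apply Subtype.ext
        simp [U, add_comm]
    have hL : L 1 ^ p = 1 := by
      have : ∀ k : ℕ, L 1 ^ k = L k := by
        intro k
        induction k with
        | zero =>
          apply Subtype.ext
          simp [L, ← Matrix.one_fin_two]
        | succ k ih =>
          rw [pow_succ, ih]
          apply Subtype.ext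
          simp [L]
      rw [this]
      apply Subtype.ext
      simp [L, ← Matrix.one_fin_two]
    have hUp : U 1 ^ p = 1 := by
      rw [hU]
      apply Subtype.ext
      simp [U, ← Matrix.one_fin_two]
    obtain ⟨P⟩ : Nonempty (Sylow p (Matrix.ProjectiveSpecialLinearGroup (Fin 2) (ZMod p))) := inferInstance
    haveI := hcl P
    have hmem : ∀ x, x ^ p = 1 → x ∈ (P : Subgroup (Matrix.ProjectiveSpecialLinearGroup (Fin 2) (ZMod p))) := by
      intro x hx
      obtain ⟨j, -, hj⟩ := (Nat.dvd_prime_pow hpp).mp (show orderOf x ∣ p ^ 1 from by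
        rw [pow_one]; exact orderOf_dvd_of_pow_eq_one hx)
      obtain ⟨Q, hQ⟩ := (IsPGroup.of_card (p := p) (G := Subgroup.zpowers x) (n := j)
        (by rw [Nat.card_zpowers, hj])).exists_le_sylow
      haveI := Sylow.unique_of_normal P (hcl P)
      rw [Subsingleton.elim P Q]
      exact hQ (Subgroup.mem_zpowers x)
    have hPcard : Nat.card P = p := by
      have hd : ¬ p ^ 2 ∣ Nat.card (Matrix.ProjectiveSpecialLinearGroup (Fin 2) (ZMod p)) := by
        rw [hcard]
        intro h
        have h2 : p ^ 2 ∣ p * (p ^ 2 - 1) :=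
          h.trans (Nat.div_dvd_of_dvd (dvd_mul_of_dvd_right (by
            have : p ^ 2 - 1 = (p - 1) * (p + 1) := by rw [mul_comm, ← Nat.sq_sub_sq, one_pow]
            rw [this]
            exact dvd_mul_of_dvd_left (Nat.Prime.even_sub_one hpp hp).two_dvd _) p))
        rw [sq, Nat.mul_dvd_mul_iff_left hpp.pos] at h2
        have h3 : p ∣ p * p - (p * p - 1) := Nat.dvd_sub (dvd_mul_right p p) h2
        have h4 : 1 ≤ p * p := Nat.one_le_iff_ne_zero.mpr (Nat.mul_ne_zero hpp.ne_zero hpp.ne_zero)
        rw [Nat.sub_sub_self h4] at h3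
        exact hpp.ne_one (Nat.dvd_one.mp h3)
      obtain ⟨k, hk⟩ := P.isPGroup'.exists_card_eq
      have hk2 : k < 2 := by
        by_contra hge
        exact hd (((pow_dvd_pow p (not_lt.mp hge)).trans hk.symm.dvd).trans (Subgroup.card_subgroup_dvd_card _))
      have hk0 : k ≠ 0 := by
        rintro rfl
        have h := P.pow_dvd_card_of_pow_dvd_card (n := 1) (by
          rw [pow_one, hcard, Nat.mul_div_assoc p (by
            have : p ^ 2 - 1 = (p - 1) * (p + 1) := by rw [mul_comm, ← Nat.sq_sub_sq, one_pow]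
            rw [this]
            exact dvd_mul_of_dvd_left (Nat.Prime.even_sub_one hpp hp).two_dvd _)]
          exact dvd_mul_right p _)
        rw [show Nat.card P = p ^ 0 from hk, pow_one, pow_zero] at h
        exact hpp.ne_one (Nat.dvd_one.mp h)
      rw [show Nat.card P = p ^ k from hk, show k = 1 by omega, pow_one]
    have hne : π (U 1) ≠ 1 := by
      intro h
      rw [QuotientGroup.mk'_apply, QuotientGroup.eq_one_iff, Matrix.SpecialLinearGroup.mem_center_iff] at h
      obtain ⟨c, -, hc⟩ := h
      have := congrFun (congrFun hc 0) 1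
      simp [U] at this
    have hz : Subgroup.zpowers (π (U 1)) = (P : Subgroup _) := by
      refine Subgroup.eq_of_le_of_card_ge (Subgroup.zpowers_le.2 (hmem _ (by rw [← map_pow, hUp, map_one]))) ?_
      refine le_of_eq (hPcard.trans ?_)
      rw [Nat.card_zpowers, orderOf_eq_prime (by rw [← map_pow, hUp, map_one]) hne]
    have hLm : π (L 1) ∈ Subgroup.zpowers (π (U 1)) := hz ▸ hmem _ (by rw [← map_pow, hL, map_one])
    obtain ⟨k, hk⟩ := (mem_powers_iff_mem_zpowers.mpr hLm : π (L 1) ∈ Submonoid.powers (π (U 1)))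
    replace hk : π (U 1) ^ k = π (L 1) := hk
    rw [← map_pow, hU, QuotientGroup.mk'_apply, QuotientGroup.mk'_apply, QuotientGroup.eq,
      Matrix.SpecialLinearGroup.mem_center_iff] at hk
    obtain ⟨c, -, hc⟩ := hk
    have := congrFun (congrFun hc 1) 0
    simp [U, L, Matrix.adjugate_fin_two] at this

end Cfsg.Agent.S3875
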