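import Cfsg.Statements.S3878
import Mathlib
import Cfsg.Prelude.Def_HallClasses

set_option autoImplicit false
open Cfsg

namespace Cfsg.Agent.S3878

/-- For a set of primes π the following are equivalent: every finite group has a Hall π-subgroup; in every finite group the maximal π-subgroups are pairwise conjugate; π contains at most one prime or contains every prime. -/
theorem result (π : Set ℕ) :
    ((∀ (G : Type) [Group G] [Finite G], Cfsg.IsEPiGroup π G) ↔
      ((∀ p q : ℕ, p.Prime → q.Prime → p ∈ π → q ∈ π → p = q) ∨ ∀ p : ℕ, p.Prime → p ∈ π)) ∧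
    ((∀ (G : Type) [Group G] [Finite G], Cfsg.IsDPiGroup π G) ↔
      ((∀ p q : ℕ, p.Prime → q.Prime → p ∈ π → q ∈ π → p = q) ∨ ∀ p : ℕ, p.Prime → p ∈ π)) := by
  classical
  -- a Hall subgroup for a property with two primes in π and one outside fails in a symmetric group
  have hE_of_D : ∀ (G : Type) [Group G] [Finite G], Cfsg.IsDPiGroup π G → Cfsg.IsEPiGroup π G := by
    intro G _ _ hD
    haveI : Nonempty G := ⟨1⟩
    obtain ⟨H, -, hH⟩ := Finite.exists_le_maximal (p := Cfsg.IsPiSubgroup π) (a := (⊥ : Subgroup G))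
      (fun p hp h => by
        rw [Subgroup.card_bot] at h
        exact absurd (Nat.dvd_one.mp h) hp.ne_one)
    refine ⟨H, hH.prop, fun p hp hpπ hdvd => ?_⟩
    haveI : Fact p.Prime := ⟨hp⟩
    obtain ⟨P⟩ := (inferInstance : Nonempty (Sylow p G))
    obtain ⟨K, hPK, hK⟩ := Finite.exists_le_maximal (p := Cfsg.IsPiSubgroup π) (a := (P : Subgroup G))
      (fun q hq h => by
        obtain ⟨k, hk⟩ := IsPGroup.iff_card.mp P.isPGroup'
        rw [hk] at h
        exact ((Nat.prime_dvd_prime_iff_eq hq hp).mp (hq.dvd_of_dvd_pow h)) ▸ hpπ)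
    obtain ⟨g, hg⟩ := hD K H hK hH
    have hcard : Nat.card H = Nat.card K := by
      rw [hg, Subgroup.card_map_of_injective (f := (MulAut.conj g).toMonoidHom) (MulAut.conj g).injective]
    have hidx : H.index = K.index := Nat.eq_of_mul_eq_mul_left (Nat.card_pos (α := K))
      (by rw [Subgroup.card_mul_index, ← hcard, Subgroup.card_mul_index])
    rw [hidx] at hdvd
    exact P.not_dvd_index (hdvd.trans (Subgroup.index_dvd_of_le hPK))
  have hneg : ∀ p q : ℕ, p.Prime → q.Prime → p ∈ π → q ∈ π → p < q → ∀ r : ℕ, r.Prime → r ∉ π →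
      ¬ ∀ (G : Type) [Group G] [Finite G], Cfsg.IsEPiGroup π G := by
    intro p q hp hq hpπ hqπ hpq r₀ hr₀ hr₀π hall
    have hex : ∃ r : ℕ, r.Prime ∧ r ∉ π := ⟨r₀, hr₀, hr₀π⟩
    obtain ⟨hr, hrπ⟩ := Nat.find_spec hex
    have hmin : ∀ s : ℕ, s.Prime → s < Nat.find hex → s ∈ π := fun s hs hlt =>
      not_not.mp fun h => Nat.find_min hex hlt ⟨hs, h⟩
    generalize Nat.find hex = r at hr hrπ hmin
    by_cases hbig : 5 ≤ r
    · -- index `r` in `S_{r+1}`
      obtain ⟨H, hH, hHi⟩ := hall (Equiv.Perm (Fin (r + 1)))
      have hfac : Nat.card (Equiv.Perm (Fin (r + 1))) = (r + 1).factorial := by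
        rw [Nat.card_perm, Nat.card_fin]
      have hrfac : ∀ k, k < r → ¬ r ∣ k.factorial := fun k hk h => by
        have := hr.dvd_factorial.mp h
        omega
      have hidvd : H.index ∣ r := by
        have h1 : H.index ∣ (r + 1).factorial := hfac ▸ H.index_dvd_card
        rw [Nat.factorial_succ] at h1
        have hcop : H.index.Coprime (r + 1) := by
          refine Nat.coprime_of_dvd fun s hs h2 h3 => hHi s hs (hmin s hs ?_) h2
          have hle := Nat.le_of_dvd (by omega) h3
          rcases eq_or_lt_of_le hle with e | hlt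
          · exfalso
            obtain ⟨m, hm⟩ := hr.odd_of_ne_two (by omega)
            have : 2 ∣ s := by omega
            have := (Nat.prime_dvd_prime_iff_eq Nat.prime_two hs).mp this
            omega
          · rcases eq_or_lt_of_le (Nat.lt_succ_iff.mp hlt) with e | h'
            · exfalso
              rw [e, Nat.dvd_add_right (dvd_refl r)] at h3
              exact hr.ne_one (Nat.dvd_one.mp h3)
            · exact h'
        have h4 := hcop.dvd_of_dvd_mul_left h1
        rw [← Nat.mul_factorial_pred hr.ne_zero] at h4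
        refine Nat.Coprime.dvd_of_dvd_mul_right (Nat.coprime_of_dvd fun s hs h2 h3 => hHi s hs (hmin s hs ?_) h2) h4
        have := hs.dvd_factorial.mp h3
        omega
      rcases (Nat.dvd_prime hr).mp hidvd with h1 | hir
      · rw [Subgroup.index_eq_one] at h1
        apply hrπ
        refine hH r hr ?_
        rw [h1, Subgroup.card_top, hfac]
        exact hr.dvd_factorial.mpr (by omega)
      · -- the core of `H` is big
        have hcore : H.normalCore ≠ ⊥ := by
          intro h
          have hinj : Function.Injective (MulAction.toPermHom (Equiv.Perm (Fin (r + 1)))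
              (Equiv.Perm (Fin (r + 1)) ⧸ H)) := by
            rw [← MonoidHom.ker_eq_bot_iff, ← Subgroup.normalCore_eq_ker, h]
          have := Nat.card_le_card_of_injective _ hinj
          rw [hfac, Nat.card_perm, ← Subgroup.index_eq_card, hir, Nat.factorial_succ] at this
          have := Nat.factorial_pos r
          nlinarith
        have hA : alternatingGroup (Fin (r + 1)) ≤ H :=
          le_trans (Equiv.Perm.alternatingGroup_le_of_normal (by rw [Nat.card_fin]; omega) ((Subgroup.nontrivial_iff_ne_bot _).mpr hcore))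
            H.normalCore_le
        have h2 := Subgroup.index_dvd_of_le hA
        haveI : Nontrivial (Fin (r + 1)) := Fin.nontrivial_iff_two_le.mpr (by omega)
        rw [alternatingGroup.index_eq_two, hir] at h2
        have := Nat.le_of_dvd (by norm_num) h2
        omega
    · -- prime degree
      haveI : Fact q.Prime := ⟨hq⟩
      obtain ⟨H, hH, hHi⟩ := hall (Equiv.Perm (Fin q))
      have hfull : ∀ s : ℕ, s.Prime → s ∈ π → ∀ x : Equiv.Perm (Fin q), orderOf x = s → ∃ g, g * x * g⁻¹ ∈ H := by
        intro s hs hsπ x hx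
        haveI : Fact s.Prime := ⟨hs⟩
        have hz : IsPGroup s (Subgroup.zpowers x) := IsPGroup.of_card (n := 1) (by rw [Nat.card_zpowers, hx, pow_one])
        obtain ⟨P, hP⟩ := hz.exists_le_sylow
        obtain ⟨Q⟩ := (inferInstance : Nonempty (Sylow s H))
        let Q' : Sylow s (Equiv.Perm (Fin q)) :=
          (IsPGroup.map Q.isPGroup' H.subtype).toSylow (by
            rw [Subgroup.index_map_subtype]
            exact hs.not_dvd_mul Q.not_dvd_index (hHi s hs hsπ))
        obtain ⟨g, hg⟩ := MulAction.exists_smul_eq (Equiv.Perm (Fin q)) P Q'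
        refine ⟨g, ?_⟩
        have h1 : g * x * g⁻¹ ∈ ((g • P : Sylow s (Equiv.Perm (Fin q))) : Subgroup (Equiv.Perm (Fin q))) := by
          rw [Sylow.coe_subgroup_smul, Subgroup.pointwise_smul_def]
          exact ⟨x, hP (Subgroup.mem_zpowers x), rfl⟩
        rw [hg] at h1
        exact Subgroup.map_subtype_le _ h1
      have hqdvd : q ∣ Nat.card H := by
        have := H.card_mul_index
        rw [Nat.card_perm, Nat.card_fin] at this
        exact (hq.dvd_mul.mp (this ▸ hq.dvd_factorial.mpr le_rfl)).resolve_right (hHi q hq hqπ)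
      haveI htrans : MulAction.IsPretransitive H (Fin q) := by
        obtain ⟨σ, hσ⟩ := exists_prime_orderOf_dvd_card' q hqdvd
        have hσ1 : orderOf (σ : Equiv.Perm (Fin q)) = Fintype.card (Fin q) := by
          rw [Subgroup.orderOf_coe, hσ, Fintype.card_fin]
        have hσ2 : (σ : Equiv.Perm (Fin q)).IsCycle :=
          Equiv.Perm.isCycle_of_prime_order'' (by rw [Fintype.card_fin]; exact hq) hσ1
        have hσ3 : (σ : Equiv.Perm (Fin q)).support = Finset.univ :=
          Finset.eq_univ_of_card _ (hσ2.orderOf.symm.trans hσ1)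
        refine ⟨fun a b => ?_⟩
        obtain ⟨i, hi⟩ := hσ2.sameCycle (x := a) (y := b)
          (Equiv.Perm.mem_support.mp (hσ3 ▸ Finset.mem_univ a))
          (Equiv.Perm.mem_support.mp (hσ3 ▸ Finset.mem_univ b))
        exact ⟨σ ^ i, hi⟩
      by_cases h2 : 2 ∈ π
      · obtain ⟨g, hg⟩ := hfull 2 Nat.prime_two h2 (Equiv.swap ⟨0, hq.pos⟩ ⟨1, hq.one_lt⟩)
          (Equiv.Perm.IsSwap.orderOf ⟨_, _, by simp, rfl⟩)
        have hsw : (g * Equiv.swap (⟨0, hq.pos⟩ : Fin q) ⟨1, hq.one_lt⟩ * g⁻¹).IsSwap :=
          ⟨g ⟨0, hq.pos⟩, g ⟨1, hq.one_lt⟩, by simp, (Equiv.swap_apply_apply _ _ _).symm⟩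
        have htop : H = ⊤ := Equiv.Perm.subgroup_eq_top_of_swap_mem (by rw [Fintype.card_fin]; exact hq)
          (by rw [Fintype.card_fin, ← Nat.card_eq_fintype_card]; exact hqdvd) hg hsw
        have hrlt : r < q := by
          have hq2 := hq.two_le
          have hp2 := hp.two_le
          have hr2 := hr.two_le
          interval_cases r
          · omega
          · rcases (show q = 3 ∨ 3 < q by omega) with e | e
            · exact absurd (e ▸ hqπ) hrπ
            · exact e
          · exact absurd hr (by decide)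
        exact hrπ (hH r hr (by rw [htop, Subgroup.card_top, Nat.card_perm, Nat.card_fin]; exact hr.dvd_factorial.mpr hrlt.le))
      · have hp3 : 3 ≤ p := by
          rcases (show p = 2 ∨ 3 ≤ p by have := hp.two_le; omega) with e | e
          · exact absurd (e ▸ hpπ) h2
          · exact e
        have hodd : Odd (Nat.card H) := by
          rw [← Nat.not_even_iff_odd, even_iff_two_dvd]
          exact fun h => h2 (hH 2 Nat.prime_two h)
        let S : Finset (Fin q) := Finset.univ.filter (fun i : Fin q => (i : ℕ) < p)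
        obtain ⟨c, hc, hcS⟩ : ∃ c : Equiv.Perm (Fin q), c.IsCycle ∧ c.support.card = p := by
          refine ⟨(List.ofFn (fun i : Fin p => (⟨i, by omega⟩ : Fin q))).formPerm, ?_, ?_⟩
          · exact List.isCycle_formPerm (List.nodup_ofFn.mpr fun a b h => Fin.ext (Fin.mk.inj h :)) (by simp; omega)
          · rw [List.support_formPerm_of_nodup _ (List.nodup_ofFn.mpr fun a b h => Fin.ext (Fin.mk.inj h :))
              (by intro x e; have := congrArg List.length e; simp at this; omega),
              List.toFinset_card_of_nodup (List.nodup_ofFn.mpr fun a b h => Fin.ext (Fin.mk.inj h :))]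
            simp
        obtain ⟨g, hg⟩ := hfull p hp hpπ c (by rw [hc.orderOf, hcS])
        have hd : (g * c * g⁻¹).IsCycle := hc.conj
        have hdS : (g * c * g⁻¹).support.card = p := by rw [Equiv.Perm.card_support_conj, hcS]
        generalize g * c * g⁻¹ = d at hg hd hdS
        let s : Set (Fin q) := {x | d x = x}
        have hs : s.ncard = q - p := by
          have : s = ((d.support)ᶜ : Finset (Fin q)) := by ext x; simp [s]
          rw [this, Set.ncard_coe_finset, Finset.card_compl, hdS, Fintype.card_fin]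
        have hprim : MulAction.IsPreprimitive H (Fin q) :=
          MulAction.IsPreprimitive.of_prime_card (by rw [Nat.card_fin]; exact hq)
        have h2t := hprim.is_two_pretransitive (s := s) (n := q - p - 1) (by omega)
          (by rw [Nat.card_fin]; omega) (by
            refine ⟨fun a b => ?_⟩
            obtain ⟨i, hi⟩ := hd.sameCycle (x := (a : Fin q)) (y := (b : Fin q)) a.2 b.2
            refine ⟨⟨(⟨d, hg⟩ : H) ^ i, ?_⟩, Subtype.ext hi⟩
            refine mem_fixingSubgroup_iff _ |>.mpr fun y hy => ?_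
            exact Equiv.Perm.zpow_apply_eq_self_of_apply_eq_self hy i)
        have h01 : (⟨0, hq.pos⟩ : Fin q) ≠ ⟨1, hq.one_lt⟩ := by simp
        obtain ⟨h, ha, hb⟩ := MulAction.is_two_pretransitive_iff.mp h2t h01 h01.symm
        obtain ⟨m, hm⟩ := hodd
        have hpow : ∀ k : ℕ, h ^ (2 * k) • (⟨0, hq.pos⟩ : Fin q) = ⟨0, hq.pos⟩ := by
          intro k
          induction k with
          | zero => simp
          | succ k ih => rw [Nat.mul_succ, pow_add, mul_smul, pow_two, mul_smul, ha, hb, ih]
        have h1 : h ^ (2 * m + 1) = 1 := by rw [← hm]; exact pow_card_eq_one'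
        have := congrArg (fun x : H => x • (⟨0, hq.pos⟩ : Fin q)) h1
        rw [pow_succ', mul_smul, hpow, ha, one_smul] at this
        exact h01 this.symm
  have hEpos : ((∀ p q : ℕ, p.Prime → q.Prime → p ∈ π → q ∈ π → p = q) ∨ ∀ p : ℕ, p.Prime → p ∈ π) →
      ∀ (G : Type) [Group G] [Finite G], Cfsg.IsDPiGroup π G := by
    rintro (h | h) G _ _ H K hH hK
    · by_cases hex : ∃ p, p.Prime ∧ p ∈ π
      · obtain ⟨p, hp, hpπ⟩ := hex
        haveI : Fact p.Prime := ⟨hp⟩
        have hpg : ∀ A : Subgroup G, Cfsg.IsPiSubgroup π A ↔ IsPGroup p A := by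
          intro A
          refine ⟨fun hA => ?_, fun hA s hs hsd => ?_⟩
          · refine IsPGroup.of_card (n := (Nat.card A).factorization p) ?_
            exact Nat.eq_pow_of_factorization_eq_single (Nat.card_pos).ne' (by
              ext s
              by_cases hsp : s = p
              · subst hsp; simp
              · rw [Finsupp.single_eq_of_ne hsp]
                by_cases hs : s.Prime
                · exact Nat.factorization_eq_zero_of_not_dvd fun hd => hsp (h s p hs hp (hA s hs hd) hpπ)
                · exact Nat.factorization_eq_zero_of_not_prime _ hs)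
          · obtain ⟨k, hk⟩ := IsPGroup.iff_card.mp hA
            rw [hk] at hsd
            exact ((Nat.prime_dvd_prime_iff_eq hs hp).mp (hs.dvd_of_dvd_pow hsd)) ▸ hpπ
        let P : Sylow p G := ⟨H, (hpg H).mp hH.prop, fun hQ hle => le_antisymm (hH.2 ((hpg _).mpr hQ) hle) hle⟩
        let Q : Sylow p G := ⟨K, (hpg K).mp hK.prop, fun hQ hle => le_antisymm (hK.2 ((hpg _).mpr hQ) hle) hle⟩
        obtain ⟨g, hg⟩ := MulAction.exists_smul_eq G P Q
        refine ⟨g, ?_⟩
        have := congrArg (fun S : Sylow p G => (S : Subgroup G)) hg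
        simp only [Sylow.coe_subgroup_smul] at this
        exact this.symm
      · have hbot : ∀ A : Subgroup G, Cfsg.IsPiSubgroup π A → A = ⊥ := by
          intro A hA
          rw [← Subgroup.card_eq_one]
          by_contra hne
          obtain ⟨s, hs, hsd⟩ := Nat.exists_prime_and_dvd hne
          exact hex ⟨s, hs, hA s hs hsd⟩
        exact ⟨1, by rw [hbot H hH.prop, hbot K hK.prop, Subgroup.map_bot]⟩
    · have htop : ∀ A : Subgroup G, Maximal (Cfsg.IsPiSubgroup π) A → A = ⊤ := fun A hA =>
        le_antisymm le_top (hA.2 (fun s hs _ => h s hs) le_top)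
      exact ⟨1, by rw [htop H hH, htop K hK, Subgroup.map_top_of_surjective _ (MulAut.conj (1 : G)).surjective]⟩
  have hcond : (∀ (G : Type) [Group G] [Finite G], Cfsg.IsEPiGroup π G) →
      (∀ p q : ℕ, p.Prime → q.Prime → p ∈ π → q ∈ π → p = q) ∨ ∀ p : ℕ, p.Prime → p ∈ π := by
    intro hall
    by_contra hc
    push Not at hc
    obtain ⟨⟨p, q, hp, hq, hpπ, hqπ, hne⟩, r, hr, hrπ⟩ := hc
    rcases lt_or_gt_of_ne hne with hlt | hlt
    · exact hneg p q hp hq hpπ hqπ hlt r hr hrπ hall
    · exact hneg q p hq hp hqπ hpπ hlt r hr hrπ hall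
  exact ⟨⟨hcond, fun hc G _ _ => hE_of_D G (hEpos hc G)⟩,
    ⟨fun hall => hcond fun G _ _ => hE_of_D G (hall G), hEpos⟩⟩

end Cfsg.Agent.S3878
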