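import Cfsg.Statements.S3881
import Mathlib
import Cfsg.Agent.Lib.Grp.Metacyclic.Structure

set_option autoImplicit false
open Cfsg

namespace Cfsg.Agent.S3881

/-- Let p be an odd prime and G a finite metacyclic p-group (G has a cyclic normal subgroup with cyclic quotient). Suppose G is non-abelian with |G'| = p^n. Then for 1 ≤ i ≤ n the number of elements of G whose conjugacy class has exactly p^i elements is |Z(G)| · (p^(2i) − p^(2i−2)). -/
theorem result {G : Type*} [Group G] [Finite G] {p : ℕ} [Fact p.Prime] (hp : p ≠ 2) (hG : IsPGroup p G) (hmc : Cfsg.IsMetacyclic G) (n : ℕ) (hn : n ≠ 0) (hGn : Nat.card ↥(commutator G) = p ^ n) (i : ℕ) (hi : 1 ≤ i) (hin : i ≤ n) :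
    Nat.card {g : G // (Subgroup.centralizer ({g} : Set G)).index = p ^ i} =
      Nat.card ↥(Subgroup.center G) * (p ^ (2 * i) - p ^ (2 * i - 2)) := by
  obtain ⟨D⟩ := Agent.Grp.Metacyclic.exists_data hp hG hmc
  have hn' : D.n = n := Nat.pow_right_injective (Fact.out : p.Prime).two_le (D.card_comm.symm.trans hGn)
  subst hn'
  have hpp : p.Prime := Fact.out
  have hGp : IsPGroup p G := IsPGroup.of_card D.card
  have hset : {g : G | (Subgroup.centralizer ({g} : Set G)).index = p ^ i} =
      (Agent.Grp.Metacyclic.powers D (D.n - i) : Set G) \ (Agent.Grp.Metacyclic.powers D (D.n - i + 1) : Set G) := by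
    ext g
    obtain ⟨c, hc⟩ := hGp.index (Subgroup.centralizer ({g} : Set G))
    simp only [Set.mem_diff, SetLike.mem_coe, Set.mem_setOf_eq,
      Agent.Grp.Metacyclic.mem_powers_iff_index D (by omega : D.n - i ≤ D.n),
      Agent.Grp.Metacyclic.mem_powers_iff_index D (by omega : D.n - i + 1 ≤ D.n)]
    rw [hc, Nat.pow_le_pow_iff_right hpp.one_lt, Nat.pow_le_pow_iff_right hpp.one_lt,
      (Nat.pow_right_injective hpp.two_le).eq_iff]
    omega
  have hsub : (Agent.Grp.Metacyclic.powers D (D.n - i + 1) : Set G) ⊆ Agent.Grp.Metacyclic.powers D (D.n - i) := by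
    intro g hg
    rw [SetLike.mem_coe, Agent.Grp.Metacyclic.mem_powers_iff_index D (by omega)] at hg ⊢
    exact hg.trans (Nat.pow_le_pow_right hpp.pos (by omega))
  show Nat.card ↥{g : G | (Subgroup.centralizer ({g} : Set G)).index = p ^ i} = _
  rw [hset, Nat.card_coe_set_eq, Set.ncard_sdiff hsub (Set.toFinite _), ← Nat.card_coe_set_eq,
    ← Nat.card_coe_set_eq]
  erw [Agent.Grp.Metacyclic.card_powers D (by omega : D.n - i ≤ D.n),
    Agent.Grp.Metacyclic.card_powers D (by omega : D.n - i + 1 ≤ D.n)]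
  rw [Agent.Grp.Metacyclic.card_center D, Nat.mul_sub, ← pow_add, ← pow_add]
  have := D.n_le_m
  have := D.n_le_e
  congr 2 <;> omega

end Cfsg.Agent.S3881
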