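import Cfsg.Statements.S3883
import Mathlib
import Cfsg.Agent.Lib.Grp.Metacyclic.Structure

set_option autoImplicit false
open Cfsg

namespace Cfsg.Agent.S3883

/-- Let p be an odd prime and G a finite metacyclic p-group (G has a cyclic normal subgroup with cyclic quotient). Suppose G is non-abelian. Then an element g of G lies outside the Frattini subgroup if and only if its centralizer C_G(g) is abelian. -/
theorem result {G : Type*} [Group G] [Finite G] {p : ℕ} [Fact p.Prime] (hp : p ≠ 2) (hG : IsPGroup p G) (hmc : Cfsg.IsMetacyclic G) (hna : ¬ IsMulCommutative G) (g : G) :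
    g ∉ frattini G ↔ IsMulCommutative ↥(Subgroup.centralizer ({g} : Set G)) := by
  obtain ⟨D⟩ := Agent.Grp.Metacyclic.exists_data hp hG hmc
  have hn : 1 ≤ D.n := by
    by_contra h
    refine hna ?_
    have h1 := (Agent.Grp.Metacyclic.comm_iff_card D (⊤ : Subgroup G)).mpr (by
      rw [Subgroup.card_top, D.card, show D.n = 0 by omega, Nat.sub_zero])
    exact ⟨⟨fun x y => congrArg Subtype.val (mul_comm' (⟨x, Subgroup.mem_top x⟩ : (⊤ : Subgroup G)) ⟨y, Subgroup.mem_top y⟩)⟩⟩
  rw [Agent.Grp.Metacyclic.frattini_eq D hn, Agent.Grp.Metacyclic.mem_powers_iff_index D hn,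
    Agent.Grp.Metacyclic.comm_iff_card D]
  obtain ⟨c, hc⟩ := (IsPGroup.of_card D.card : IsPGroup p G).index (Subgroup.centralizer ({g} : Set G))
  have h := (Subgroup.centralizer ({g} : Set G)).card_mul_index
  rw [hc, D.card] at h
  obtain ⟨k, hk⟩ := IsPGroup.iff_card.mp ((IsPGroup.of_card D.card : IsPGroup p G).to_subgroup (Subgroup.centralizer ({g} : Set G)))
  rw [hk, ← pow_add] at h
  have h' := Nat.pow_right_injective (Fact.out : p.Prime).two_le h
  rw [hc, hk, Nat.pow_le_pow_iff_right (Fact.out : p.Prime).one_lt, Nat.pow_le_pow_iff_right (Fact.out : p.Prime).one_lt]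
  have := D.n_le_m
  omega

end Cfsg.Agent.S3883
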