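import Cfsg.Statements.S3884
import Mathlib
import Cfsg.Agent.Lib.Grp.Metacyclic.Structure

set_option autoImplicit false
open Cfsg

namespace Cfsg.Agent.S3884

/-- Let p be an odd prime and G a finite metacyclic p-group (G has a cyclic normal subgroup with cyclic quotient). Then G is the product of two cyclic subgroups with trivial intersection: there are cyclic subgroups A and B with A ∩ B = 1 and |A| · |B| = |G|. -/
theorem result {G : Type*} [Group G] [Finite G] {p : ℕ} [Fact p.Prime] (hp : p ≠ 2) (hG : IsPGroup p G) (hmc : Cfsg.IsMetacyclic G) : ∃ A B : Subgroup G, IsCyclic ↥A ∧ IsCyclic ↥B ∧ A ⊓ B = ⊥ ∧ Nat.card ↥A * Nat.card ↥B = Nat.card G := by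
  obtain ⟨D⟩ := Agent.Grp.Metacyclic.exists_data hp hG hmc
  have hpp : p.Prime := Fact.out
  have hGp : IsPGroup p G := IsPGroup.of_card D.card
  haveI := D.normal
  obtain ⟨c, hc⟩ := Subgroup.mem_zpowers_iff.mp ((D.mem_iff _).mpr (dvd_refl ((p : ℤ) ^ D.e)))
  have hA : Nat.card ↥(Subgroup.zpowers D.a) = p ^ D.m := by rw [Nat.card_zpowers, D.order_a]
  by_cases hcd : (p : ℤ) ^ D.e ∣ c ∨ (p : ℤ) ^ D.m ∣ c
  · obtain ⟨c', hc'⟩ : ∃ c' : ℤ, D.b ^ ((p : ℤ) ^ D.e) = D.a ^ ((p : ℤ) ^ D.e * c') := by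
      rcases hcd with ⟨c', rfl⟩ | h
      · exact ⟨c', hc.symm⟩
      · exact ⟨0, by rw [← hc, (Agent.Grp.Metacyclic.a_zpow_eq_one D).mpr h, mul_zero, zpow_zero]⟩
    obtain ⟨w, hw, he⟩ := D.powsum 1 D.e
    obtain ⟨w', hw'⟩ := Agent.Grp.Metacyclic.exists_inv D.m hw
    set g := D.a ^ (-(c' * w')) * D.b ^ (1 : ℤ) with hg
    have hge : g ^ p ^ D.e = 1 := by
      rw [hg, he, one_mul, hc', ← zpow_add, Agent.Grp.Metacyclic.a_zpow_eq_one D]
      obtain ⟨r, hr⟩ := hw'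
      exact ⟨-((p : ℤ) ^ D.e * c' * r), by linear_combination (-((p : ℤ) ^ D.e * c')) * hr⟩
    have hmem : ∀ k : ℤ, g ^ k ∈ Subgroup.zpowers D.a → (p : ℤ) ^ D.e ∣ k := fun k hk => by
      rw [← QuotientGroup.eq_one_iff] at hk
      rw [← D.mem_iff, ← QuotientGroup.eq_one_iff]
      change QuotientGroup.mk' (Subgroup.zpowers D.a) (g ^ k) = 1 at hk
      show QuotientGroup.mk' (Subgroup.zpowers D.a) (D.b ^ k) = 1
      rw [map_zpow, hg, Agent.Grp.Metacyclic.mk_eq, zpow_one] at hk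
      rw [map_zpow, hk]
    have ho : orderOf g = p ^ D.e := Nat.dvd_antisymm (orderOf_dvd_of_pow_eq_one hge) (by
      have := hmem (orderOf g : ℤ) (by rw [zpow_natCast, pow_orderOf_eq_one]; exact one_mem _)
      exact_mod_cast this)
    refine ⟨Subgroup.zpowers D.a, Subgroup.zpowers g, inferInstance, inferInstance, ?_, ?_⟩
    · rw [eq_bot_iff]
      rintro x ⟨hxa, hxg⟩
      obtain ⟨k, rfl⟩ := Subgroup.mem_zpowers_iff.mp hxg
      obtain ⟨q, hq⟩ := hmem k hxa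
      rw [Subgroup.mem_bot, hq, zpow_mul, ← Nat.cast_pow, zpow_natCast, hge, one_zpow]
    · rw [hA, Nat.card_zpowers, ho, ← pow_add, D.card]
  · rw [not_or] at hcd
    obtain ⟨hce, hcm⟩ := hcd
    obtain ⟨v, u0, hu0, hcu⟩ := Nat.exists_eq_pow_mul_and_not_dvd
      (Int.natAbs_ne_zero.mpr (show c ≠ 0 from fun h => hce (h ▸ dvd_zero _))) p hpp.ne_one
    obtain ⟨u, hu, hcu'⟩ : ∃ u : ℤ, ¬ (p : ℤ) ∣ u ∧ c = (p : ℤ) ^ v * u := by
      rcases Int.natAbs_eq c with h | h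
      · exact ⟨u0, fun h' => hu0 (Int.natCast_dvd_natCast.mp h'), by rw [h, hcu]; push_cast; rfl⟩
      · exact ⟨-u0, fun h' => hu0 (Int.natCast_dvd_natCast.mp (dvd_neg.mp h')), by rw [h, hcu]; push_cast; ring⟩
    have hve : v < D.e := by
      by_contra h
      exact hce (hcu' ▸ (pow_dvd_pow _ (not_lt.mp h)).mul_right u)
    have hvm : v < D.m := by
      by_contra h
      exact hcm (hcu' ▸ (pow_dvd_pow _ (not_lt.mp h)).mul_right u)
    have hP := Nat.prime_iff_prime_int.mp hpp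
    set j : ℤ := -((p : ℤ) ^ (D.e - v)) with hj
    obtain ⟨w, hw, he⟩ := D.powsum j v
    obtain ⟨w', hw'⟩ := Agent.Grp.Metacyclic.exists_inv D.m hw
    set g := D.a ^ (u * w') * D.b ^ j with hg
    have hjv : ∀ z : ℕ, z ≤ v → j * (p : ℤ) ^ z = -((p : ℤ) ^ (D.e - (v - z))) := fun z hz => by
      rw [hj, neg_mul, ← pow_add, show D.e - v + z = D.e - (v - z) by omega]
    have hgv : g ^ p ^ v = 1 := by
      rw [hg, he, hjv v le_rfl, Nat.sub_self, Nat.sub_zero, zpow_neg, ← hc, ← zpow_neg, ← zpow_add,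
        Agent.Grp.Metacyclic.a_zpow_eq_one D, hcu']
      obtain ⟨r, hr⟩ := hw'
      exact ⟨u * (p : ℤ) ^ v * r, by linear_combination (u * (p : ℤ) ^ v) * hr⟩
    have hdvd : ∀ z : ℕ, z < v → g ^ p ^ z ∉ Subgroup.zpowers D.b := by
      intro z hz h
      obtain ⟨wz, hwz, hez⟩ := D.powsum j z
      rw [hg, hez, hjv z hz.le, Subgroup.mul_mem_cancel_right _ (zpow_mem (Subgroup.mem_zpowers _) _)] at h
      obtain ⟨l, hl⟩ := Subgroup.mem_zpowers_iff.mp h
      obtain ⟨q, hq⟩ := (D.mem_iff l).mp (hl ▸ zpow_mem (Subgroup.mem_zpowers _) _)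
      rw [hq, zpow_mul, ← hc, ← zpow_mul, Agent.Grp.Metacyclic.a_zpow_inj D, hcu'] at hl
      have h1 : (p : ℤ) ^ v ∣ u * w' * (p : ℤ) ^ z * wz := by
        have h0 := dvd_sub (((dvd_mul_right ((p : ℤ) ^ v) u)).mul_right q) ((pow_dvd_pow (p : ℤ) hvm.le).trans hl)
        rwa [sub_sub_cancel] at h0
      have h2 := (Agent.Grp.Metacyclic.coprime_pow v hwz).dvd_of_dvd_mul_right h1
      rw [Agent.Grp.Metacyclic.mul_pow_dvd_iff hz.le] at h2
      have h3 : (p : ℤ) ∣ u * w' := (dvd_pow_self _ (by omega)).trans h2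
      rcases hP.dvd_mul.mp h3 with h3 | h3
      · exact hu h3
      · have h4 : (p : ℤ) ∣ w * w' - 1 := (dvd_pow_self _ (by omega)).trans hw'
        have h5 : (p : ℤ) ∣ 1 := by simpa using dvd_sub (h3.mul_left w) h4
        exact hpp.not_dvd_one (Int.natCast_dvd_natCast.mp (by simpa using h5))
    have hall : ∀ k : ℤ, g ^ k ∈ Subgroup.zpowers D.b → (p : ℤ) ^ v ∣ k := by
      intro k hk
      by_contra hne
      obtain ⟨z, k0, hk0, hkk⟩ := Nat.exists_eq_pow_mul_and_not_dvd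
        (Int.natAbs_ne_zero.mpr (show k ≠ 0 from fun h => hne (h ▸ dvd_zero _))) p hpp.ne_one
      have hz : z < v := by
        by_contra h
        refine hne (Int.dvd_natAbs.mp ?_)
        rw [hkk]; push_cast; exact (pow_dvd_pow _ (not_lt.mp h)).mul_right _
      refine hdvd z hz ?_
      obtain ⟨k1, hk1⟩ := Agent.Grp.Metacyclic.exists_inv v
        (show ¬ (p : ℤ) ∣ (k0 : ℤ) from fun h' => hk0 (Int.natCast_dvd_natCast.mp h'))
      obtain ⟨r, hr⟩ := hk1
      have hkn : g ^ ((p ^ z * k0 : ℕ) : ℤ) ∈ Subgroup.zpowers D.b := by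
        rw [← hkk]
        rcases Int.natAbs_eq k with h | h
        · rwa [← h]
        · rw [h, zpow_neg] at hk; exact inv_mem_iff.mp hk
      have := zpow_mem hkn k1
      rw [← zpow_mul, show ((p ^ z * k0 : ℕ) : ℤ) * k1 = ((p ^ z : ℕ) : ℤ) + ((p ^ v : ℕ) : ℤ) * ((p : ℤ) ^ z * r) by
        push_cast; linear_combination ((p : ℤ) ^ z) * hr, zpow_add, zpow_mul, zpow_natCast, zpow_natCast, hgv, one_zpow, mul_one] at this
      exact this
    have hog : orderOf g = p ^ v := Nat.dvd_antisymm (orderOf_dvd_of_pow_eq_one hgv) (by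
      have := hall (orderOf g : ℤ) (by rw [zpow_natCast, pow_orderOf_eq_one]; exact one_mem _)
      exact_mod_cast this)
    have hbe : ∀ z : ℕ, D.b ^ p ^ (D.e + z) = 1 ↔ (p : ℤ) ^ D.m ∣ u * (p : ℤ) ^ (v + z) := fun z => by
      rw [← zpow_natCast, Nat.cast_pow, pow_add, zpow_mul, ← hc, ← zpow_mul,
        Agent.Grp.Metacyclic.a_zpow_eq_one D, hcu', pow_add]
      rw [show (p : ℤ) ^ v * u * (p : ℤ) ^ z = u * ((p : ℤ) ^ v * (p : ℤ) ^ z) by ring]
    have hob : orderOf D.b = p ^ (D.e + (D.m - v - 1) + 1) := by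
      refine orderOf_eq_prime_pow ?_ ?_
      · rw [hbe, show v + (D.m - v - 1) = D.m - 1 by omega, Agent.Grp.Metacyclic.mul_pow_dvd_iff (by omega : D.m - 1 ≤ D.m),
          show D.m - (D.m - 1) = 1 by omega, pow_one]
        exact hu
      · rw [add_assoc, hbe]
        exact (pow_dvd_pow _ (by omega)).mul_left u
    refine ⟨Subgroup.zpowers D.b, Subgroup.zpowers g, inferInstance, inferInstance, ?_, ?_⟩
    · rw [eq_bot_iff]
      rintro x ⟨hxb, hxg⟩
      obtain ⟨k, rfl⟩ := Subgroup.mem_zpowers_iff.mp hxg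
      obtain ⟨q, hq⟩ := hall k hxb
      rw [Subgroup.mem_bot, hq, zpow_mul, ← Nat.cast_pow, zpow_natCast, hgv, one_zpow]
    · rw [Nat.card_zpowers, Nat.card_zpowers, hog, hob, ← pow_add, D.card]
      congr 1
      omega

end Cfsg.Agent.S3884
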