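import Cfsg.Statements.S3885
import Mathlib
import Cfsg.Agent.Lib.Grp.Metacyclic.Structure

set_option autoImplicit false
open Cfsg

namespace Cfsg.Agent.S3885

/-- Let p be an odd prime and G a finite metacyclic p-group (G has a cyclic normal subgroup with cyclic quotient). Then every abelian subgroup K of G containing the center of G is the center of its own centralizer: K = Z(C_G(K)). -/
theorem result {G : Type*} [Group G] [Finite G] {p : ℕ} [Fact p.Prime] (hp : p ≠ 2) (hG : IsPGroup p G) (hmc : Cfsg.IsMetacyclic G) (K : Subgroup G) (hK : IsMulCommutative ↥K) (hZ : Subgroup.center G ≤ K) :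
    K = Subgroup.centralizer (K : Set G) ⊓ Subgroup.centralizer (Subgroup.centralizer (K : Set G) : Set G) := by
  obtain ⟨D⟩ := Agent.Grp.Metacyclic.exists_data hp hG hmc
  have h1 : K ≤ Subgroup.centralizer (K : Set G) := Subgroup.le_centralizer_iff_isMulCommutative.mpr hK
  have h2 : K ≤ Subgroup.centralizer (Subgroup.centralizer (K : Set G) : Set G) := Subgroup.le_centralizer_iff.mp le_rfl
  set E := Subgroup.centralizer (K : Set G) ⊓ Subgroup.centralizer (Subgroup.centralizer (K : Set G) : Set G) with hE
  have hKE : K ≤ E := le_inf h1 h2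
  have hcE : Subgroup.centralizer (E : Set G) = Subgroup.centralizer (K : Set G) :=
    le_antisymm (Subgroup.centralizer_le (SetLike.coe_subset_coe.mpr hKE))
      (Subgroup.le_centralizer_iff.mp (hE ▸ inf_le_right))
  have e1 := Agent.Grp.Metacyclic.card_mul_centralizer_of_le D hZ
  have e2 := Agent.Grp.Metacyclic.card_mul_centralizer_of_le D (hZ.trans hKE)
  rw [hcE, ← e1] at e2
  exact Subgroup.eq_of_le_of_card_ge hKE (Nat.eq_of_mul_eq_mul_right Nat.card_pos e2).le

end Cfsg.Agent.S3885
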