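import Cfsg.Statements.S3886
import Mathlib
import Cfsg.Agent.Lib.Grp.Metacyclic.Structure

set_option autoImplicit false
open Cfsg

namespace Cfsg.Agent.S3886

/-- Let p be an odd prime and G a finite metacyclic p-group (G has a cyclic normal subgroup with cyclic quotient). Then the largest value of |R| · |Z(R)| over subgroups R of G is |G : G'|², and the subgroups attaining it (the centrally large subgroups) are exactly the non-abelian subgroups together with the maximal abelian subgroups of G. -/
theorem result {G : Type*} [Group G] [Finite G] {p : ℕ} [Fact p.Prime] (hp : p ≠ 2) (hG : IsPGroup p G) (hmc : Cfsg.IsMetacyclic G) : Cfsg.maxCentralProduct G = (commutator G).index ^ 2 ∧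
    ∀ R : Subgroup G, Cfsg.IsCentrallyLarge R ↔ (¬ IsMulCommutative ↥R ∨ Maximal (fun K : Subgroup G => IsMulCommutative ↥K) R) := by
  obtain ⟨D⟩ := Agent.Grp.Metacyclic.exists_data hp hG hmc
  have hpp : p.Prime := Fact.out
  have hsq : (p ^ (2 * (D.m + D.e - D.n))) = (commutator G).index ^ 2 := by
    rw [Agent.Grp.Metacyclic.index_commutator D, ← pow_mul, mul_comm]
  have hle : ∀ R : Subgroup G, IsMulCommutative R →
      Nat.card R * Nat.card ↥(Subgroup.center ↥R) = Nat.card R ^ 2 := fun R hR => by
    rw [show Subgroup.center ↥R = ⊤ from (Subgroup.eq_top_iff' _).mpr fun x =>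
      Subgroup.mem_center_iff.mpr fun y => mul_comm' y x, Subgroup.card_top, sq]
  have hbound : ∀ R : Subgroup G, Nat.card R * Nat.card ↥(Subgroup.center ↥R) ≤ (commutator G).index ^ 2 := by
    intro R
    by_cases hR : IsMulCommutative R
    · rw [hle R hR, Agent.Grp.Metacyclic.index_commutator D]
      exact Nat.pow_le_pow_left ((Agent.Grp.Metacyclic.comm_iff_card D R).mp hR) 2
    · rw [Agent.Grp.Metacyclic.card_mul_center D R hR, hsq]
  have hmax : Cfsg.maxCentralProduct G = (commutator G).index ^ 2 := by
    refine IsGreatest.csSup_eq ⟨?_, fun k ⟨R, hk⟩ => hk ▸ hbound R⟩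
    by_cases hG' : IsMulCommutative (⊤ : Subgroup G)
    · refine ⟨⊤, ?_⟩
      have h := (Agent.Grp.Metacyclic.comm_iff_card D ⊤).mp hG'
      rw [hle ⊤ hG', Subgroup.card_top] at *
      rw [D.card, Nat.pow_le_pow_iff_right hpp.one_lt] at h
      rw [Agent.Grp.Metacyclic.index_commutator D, D.card]
      congr 2
      have := D.n_le_m
      omega
    · exact ⟨⊤, (Agent.Grp.Metacyclic.card_mul_center D ⊤ hG').trans hsq⟩
  refine ⟨hmax, fun R => ?_⟩
  unfold Cfsg.IsCentrallyLarge
  rw [hmax]
  by_cases hR : IsMulCommutative R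
  · rw [hle R hR, Agent.Grp.Metacyclic.index_commutator D, Agent.Grp.Metacyclic.maximal_iff D,
      (Nat.pow_left_injective (two_ne_zero)).eq_iff]
    simp [hR]
  · rw [Agent.Grp.Metacyclic.card_mul_center D R hR, hsq]
    simp [hR]

end Cfsg.Agent.S3886
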