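import Cfsg.Statements.S3889


set_option autoImplicit false
open Cfsg

namespace Cfsg.Agent.S3889

/-- A finite abelian group that is the union of a family of proper subgroups any two of which intersect trivially is elementary abelian: its exponent is a prime. -/
theorem result {G : Type*} [CommGroup G] [Finite G] (𝓑 : Set (Subgroup G)) (hprop : ∀ B ∈ 𝓑, B ≠ ⊤)
    (hcov : ∀ g : G, ∃ B ∈ 𝓑, g ∈ B) (hdisj : ∀ B ∈ 𝓑, ∀ C ∈ 𝓑, B ≠ C → B ⊓ C = ⊥) :
    (Monoid.exponent G).Prime := by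
  classical
  set e := Monoid.exponent G with he
  obtain ⟨g, hg⟩ := Monoid.exists_orderOf_eq_exponent (G := G) Monoid.ExponentExists.of_finite
  obtain ⟨B, hB, hgB⟩ := hcov g
  have hout : ∀ h : G, h ∉ B → orderOf h = e := by
    intro h hh
    obtain ⟨C, hC, hC'⟩ := hcov (g * h)
    have hne : B ≠ C := fun e1 => hh (by
      have := mul_mem (inv_mem hgB) (e1 ▸ hC')
      simpa using this)
    have h1 : g ^ orderOf h ∈ B ⊓ C := ⟨pow_mem hgB _, by
      have := pow_mem hC' (orderOf h)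
      rwa [mul_pow, pow_orderOf_eq_one, mul_one] at this⟩
    rw [hdisj B hB C hC hne, Subgroup.mem_bot] at h1
    exact Nat.dvd_antisymm (Monoid.order_dvd_exponent h) (by rw [he, ← hg]; exact orderOf_dvd_of_pow_eq_one h1)
  obtain ⟨h, hh⟩ : ∃ h, h ∉ B := by
    by_contra hc
    push Not at hc
    exact hprop B hB (eq_top_iff.mpr fun x _ => hc x)
  have he1 : e ≠ 1 := fun e1 => hh (by
    rw [orderOf_eq_one_iff.mp ((hout h hh).trans e1)]; exact one_mem B)
  obtain ⟨p, hp, hpd⟩ := Nat.exists_prime_and_dvd he1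
  by_contra hnp
  obtain ⟨C, hC, hC'⟩ := hcov h
  have hpos : 0 < e := Monoid.exponent_pos.mpr Monoid.ExponentExists.of_finite
  have hlt : e / p < e := Nat.div_lt_self hpos hp.one_lt
  have hmem : h ^ p ∈ B := by
    by_contra hc
    have h1 := hout _ hc
    have h2 : (h ^ p) ^ (e / p) = 1 := by
      rw [← pow_mul, Nat.mul_div_cancel' hpd, ← hout h hh, pow_orderOf_eq_one]
    have h3 := Nat.le_of_dvd (Nat.div_pos (Nat.le_of_dvd hpos hpd) hp.pos) (h1 ▸ orderOf_dvd_of_pow_eq_one h2)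
    omega
  have h4 : h ^ p ∈ B ⊓ C := ⟨hmem, pow_mem hC' p⟩
  rw [hdisj B hB C hC (fun e1 => hh (e1 ▸ hC')), Subgroup.mem_bot] at h4
  exact hnp ((Nat.dvd_antisymm hpd ((hout h hh) ▸ orderOf_dvd_of_pow_eq_one h4)) ▸ hp)

end Cfsg.Agent.S3889
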