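import Cfsg.Statements.S3892
import Cfsg.Agent.Lib.Grp.NilpotentCoverPerm


set_option autoImplicit false
open Cfsg

namespace Cfsg.Agent.S3892

/-- A cover of a group is a finite set of proper subgroups whose union is the whole group; it is minimal when no cover has fewer members, and nilpotent when all its members are nilpotent. The alternating groups of degree at least 5 and the symmetric groups of degree at least 4 have no nilpotent minimal cover. -/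
theorem result (n : ℕ) :
    (5 ≤ n → ¬ ∃ 𝓐 : Finset (Subgroup ↥(alternatingGroup (Fin n))), ((∀ A ∈ 𝓐, A ≠ ⊤) ∧ (∀ g : ↥(alternatingGroup (Fin n)), ∃ A ∈ 𝓐, g ∈ A)) ∧ (∀ 𝓑 : Finset (Subgroup ↥(alternatingGroup (Fin n))), (∀ A ∈ 𝓑, A ≠ ⊤) ∧ (∀ g : ↥(alternatingGroup (Fin n)), ∃ A ∈ 𝓑, g ∈ A) → 𝓐.card ≤ 𝓑.card) ∧ (∀ A ∈ 𝓐, Group.IsNilpotent ↥A)) ∧
    (4 ≤ n → ¬ ∃ 𝓐 : Finset (Subgroup (Equiv.Perm (Fin n))), ((∀ A ∈ 𝓐, A ≠ ⊤) ∧ (∀ g : (Equiv.Perm (Fin n)), ∃ A ∈ 𝓐, g ∈ A)) ∧ (∀ 𝓑 : Finset (Subgroup (Equiv.Perm (Fin n))), (∀ A ∈ 𝓑, A ≠ ⊤) ∧ (∀ g : (Equiv.Perm (Fin n)), ∃ A ∈ 𝓑, g ∈ A) → 𝓐.card ≤ 𝓑.card) ∧ (∀ A ∈ 𝓐, Group.IsNilpotent ↥A)) := by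
  classical
  refine ⟨fun hn => ?_, fun hn => ?_⟩
  · rintro ⟨𝓐, h⟩
    rcases Nat.lt_or_ge n 6 with hlt | hge
    · obtain rfl : n = 5 := by omega
      exact Grp.NilpotentCoverPerm.alternating_five 𝓐 h
    · exact Grp.NilpotentCoverPerm.alternating_large hge 𝓐 h
  · rintro ⟨𝓐, h⟩
    rcases Nat.lt_or_ge n 6 with hlt | hge
    · rcases (show n = 4 ∨ n = 5 by omega) with rfl | rfl
      · exact Grp.NilpotentCoverPerm.perm_four 𝓐 h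
      · exact Grp.NilpotentCoverPerm.perm_five 𝓐 h
    · exact Grp.NilpotentCoverPerm.perm_large hge 𝓐 h

end Cfsg.Agent.S3892
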