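import Cfsg.Statements.S3893
import Cfsg.Agent.Lib.Grp.Frattini
import Cfsg.Agent.Lib.Lie.Sz.Sylow
import Cfsg.Agent.Lib.Lie.Sz.Classes
import Cfsg.Agent.Lib.Lie.Sz.LieEquiv
-- import your own Cfsg.Agent.* helpers here

set_option autoImplicit false
open Cfsg

namespace Cfsg.Agent.S3893

open Cfsg.Agent.Suz in
theorem no_nilpotent_cover {F : Type*} [Field F] [Fintype F] {m : ℕ} (hS : SzField F m)
    (𝓐 : Finset (Subgroup ↥(Cfsg.Sz F m))) (hne : ∀ A ∈ 𝓐, A ≠ ⊤)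
    (hcov : ∀ g : ↥(Cfsg.Sz F m), ∃ A ∈ 𝓐, g ∈ A)
    (hmin : ∀ 𝓑 : Finset (Subgroup ↥(Cfsg.Sz F m)), (∀ A ∈ 𝓑, A ≠ ⊤) ∧ (∀ g : ↥(Cfsg.Sz F m), ∃ A ∈ 𝓑, g ∈ A) →
      𝓐.card ≤ 𝓑.card)
    (hnil : ∀ A ∈ 𝓐, Group.IsNilpotent ↥A) : False := by
  classical
  let Fix (g : ↥(Cfsg.Sz F m)) (o : Option (F × F)) : Prop := g • pt m o = pt m o
  have hinj : ∀ {a b : Option (F × F)}, pt m a = pt m b → a = b := fun h => pt_injective h
  have hcent : ∀ A : Subgroup ↥(Cfsg.Sz F m), Group.IsNilpotent ↥A → ∀ u ∈ A, u ≠ 1 →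
      ∃ z ∈ A, z ≠ 1 ∧ ∀ a ∈ A, a * z = z * a := by
    intro A hA u hu hu1
    have : Nontrivial A := ⟨⟨u, hu⟩, 1, fun e => hu1 (congrArg Subtype.val e)⟩
    have := hA
    have hb := Subgroup.center A |>.bot_or_exists_ne_one
    rcases hb with hb | ⟨z, hz, hz1⟩
    · exact absurd (le_bot_iff.mp (inf_le_right.trans hb.le)) (Cfsg.Agent.Grp.inf_center_ne_bot (⊤ : Subgroup A) top_ne_bot)
    · exact ⟨z, z.2, fun e => hz1 (Subtype.ext e), fun a ha =>
        congrArg Subtype.val (Subgroup.mem_center_iff.mp hz ⟨a, ha⟩)⟩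
  have hu0 : uS hS (0 : F) 1 ≠ 1 := uS_ne_one hS (fun h => one_ne_zero h.2)
  have horb : ∀ o : Option (F × F), ∃ c : ↥(Cfsg.Sz F m), c • pt m (none : Option (F × F)) = pt m o := by
    intro o
    obtain ⟨c, hc⟩ := (orbit_inf hS).symm ▸ (mem_ovoid_iff (m := m) (p := pt m o)).2 ⟨o, rfl⟩
    exact ⟨c, hc⟩
  choose c hc using horb
  let u : Option (F × F) → ↥(Cfsg.Sz F m) := fun o => c o * uS hS 0 1 * (c o)⁻¹
  have hu1 : ∀ o, u o ≠ 1 := fun o e => hu0 (conj_eq_one_iff.mp e)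
  have hufix : ∀ o, Fix (u o) o := by
    intro o
    show (c o * uS hS 0 1 * (c o)⁻¹) • pt m o = pt m o
    rw [← hc o, mul_smul, mul_smul, inv_smul_smul]
    congr 1
    exact uS_inf hS 0 1
  have huonly : ∀ o o', Fix (u o) o' → o' = o := by
    intro o o' h
    obtain ⟨o'', h''⟩ := exists_pt_smul hS (c o)⁻¹ o'
    have : o'' = none := by
      refine eq_none_of_fix hS (uS_mem hS 0 1) hu0 ?_
      change (c o * uS hS 0 1 * (c o)⁻¹) • pt m o' = pt m o' at h
      rw [mul_smul, mul_smul, smul_eq_iff_eq_inv_smul, h''] at h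
      exact h
    subst this
    exact hinj (by rw [← hc o, ← h'', smul_inv_smul])
  have hcomm : ∀ (g k : ↥(Cfsg.Sz F m)) o, g * k = k * g → Fix g o → ∀ o', k • pt m o = pt m o' → Fix g o' := by
    intro g k o e hg o' ho'
    show g • pt m o' = pt m o'
    rw [← ho', ← mul_smul, e, mul_smul, hg]
  have htwo : ∀ g : ↥(Cfsg.Sz F m), g ≠ 1 → ∀ a b d, Fix g a → Fix g b → Fix g d → a = b ∨ a = d ∨ b = d := by
    intro g hg a b d ha hb hd
    obtain ⟨k, hk⟩ := exists_conj_of_fix hS ha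
    have hall : ∀ o, Fix g o → ∀ o', k • pt m o = pt m o' → (k * g * k⁻¹) • pt m o' = pt m o' := by
      intro o ho o' ho'
      rw [← ho', mul_smul, mul_smul, inv_smul_smul, ho]
    have hk1 : k * g * k⁻¹ ≠ 1 := fun e => hg (conj_eq_one_iff.mp e)
    obtain ⟨a', ea⟩ := exists_pt_smul hS k a
    obtain ⟨b', eb⟩ := exists_pt_smul hS k b
    obtain ⟨d', ed⟩ := exists_pt_smul hS k d
    have back : ∀ x y x' y' : Option (F × F), k • pt m x = pt m x' → k • pt m y = pt m y' → x' = y' → x = y :=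
      fun x y x' y' ex ey e => hinj (smul_left_cancel k (by rw [ex, ey, e]))
    rcases hk with hk | ⟨z, hz, hk⟩
    · exact Or.inl (back a b a' b' ea eb ((eq_none_of_fix hS hk hk1 (hall a ha a' ea)).trans
        (eq_none_of_fix hS hk hk1 (hall b hb b' eb)).symm))
    · have h1 := eq_one_or_of_fix hS hz (hk ▸ hall a ha a' ea)
      have h2 := eq_one_or_of_fix hS hz (hk ▸ hall b hb b' eb)
      have h3 := eq_one_or_of_fix hS hz (hk ▸ hall d hd d' ed)
      rcases h1 with h1 | h1 <;> rcases h2 with h2 | h2 <;> rcases h3 with h3 | h3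
      all_goals first
        | exact Or.inl (back a b a' b' ea eb (h1.trans h2.symm))
        | exact Or.inr (Or.inl (back a d a' d' ea ed (h1.trans h3.symm)))
        | exact Or.inr (Or.inr (back b d b' d' eb ed (h2.trans h3.symm)))
  choose A hA hAu using fun o => hcov (u o)
  have hAfix : ∀ o, ∀ a ∈ A o, Fix a o := by
    intro o a ha
    obtain ⟨z, hz, hz1, hzc⟩ := hcent (A o) (hnil _ (hA o)) (u o) (hAu o) (hu1 o)
    have hzo : Fix z o := by
      obtain ⟨o', ho'⟩ := exists_pt_smul hS z o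
      have := huonly o o' (hcomm _ z o (hzc _ (hAu o)) (hufix o) o' ho')
      exact ho'.trans (by rw [this])
    obtain ⟨o', ho'⟩ := exists_pt_smul hS a o
    show a • pt m o = pt m o
    by_contra hne'
    have ho'ne : o' ≠ o := fun e => hne' (by rw [ho', e])
    have hzo' : Fix z o' := hcomm z a o (hzc a ha).symm hzo o' ho'
    obtain ⟨o'', ho''⟩ := exists_pt_smul hS (u o) o'
    have hzo'' : Fix z o'' := hcomm z (u o) o' (hzc _ (hAu o)).symm hzo' o'' ho''
    rcases htwo z hz1 o o' o'' hzo hzo' hzo'' with e | e | e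
    · exact ho'ne e.symm
    · refine ho'ne (hinj (smul_left_cancel (u o) ?_))
      rw [ho'', ← e, hufix o]
    · exact ho'ne (huonly o o' (show (u o) • pt m o' = pt m o' by rw [ho'', ← e]))
  have hAinj : Function.Injective A := fun o o' e =>
    (huonly o o' (hAfix o' (u o) (e ▸ hAu o))).symm
  obtain ⟨y, hy0, hy1⟩ := exists_ne_zero_one hS
  let z₁ : Fˣ := Units.mk0 y hy0
  have hz₁ : z₁ ≠ 1 := fun e => hy1 (congrArg Units.val e)
  obtain ⟨T, hT, hTh⟩ := hcov (hTor hS z₁)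
  have hne1 : hTor hS z₁ ≠ 1 := fun e => hz₁ (hTor_injective hS (e.trans (hTor_one hS).symm))
  obtain ⟨w, hw, hw1, hwc⟩ := hcent T (hnil T hT) _ hTh hne1
  obtain ⟨z₂, rfl⟩ : ∃ z, w = hTor hS z := mem_torus hS (centralizer_torus hS hz₁ ▸
    Subgroup.mem_centralizer_singleton_iff.mpr (hwc _ hTh).symm)
  have hz₂ : z₂ ≠ 1 := fun e => hw1 (by rw [e, hTor_one])
  have hTfix : ∀ a ∈ T, Fix a none := by
    intro a ha
    obtain ⟨z₃, rfl⟩ := mem_torus hS (centralizer_torus hS hz₂ ▸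
      Subgroup.mem_centralizer_singleton_iff.mpr (hwc a ha))
    exact hTor_inf hS z₃
  have hTne : ∀ o, A o ≠ T := by
    intro o e
    subst e
    obtain ⟨o', ho'⟩ := exists_pt_smul hS (hTor hS z₂) o
    have h1 := huonly o o' (hcomm _ _ o (hwc _ (hAu o)) (hufix o) o' ho')
    have hwo : Fix (hTor hS z₂) o := ho'.trans (by rw [h1])
    have h0 : (hTor hS z₂) • pt m (some ((0 : F), 0)) = pt m (some (0, 0)) := by
      rw [hTor_pt]; simp
    have hn : (hTor hS z₂) • pt m none = pt m none := hTor_inf hS z₂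
    have hon : o = none := huonly o none (hTfix _ (hAu o)) |>.symm
    subst hon
    obtain ⟨o'', ho''⟩ := exists_pt_smul hS (u none) (some ((0 : F), 0))
    rcases eq_one_or_of_fix hS hz₂ (hcomm _ _ _ (hwc _ (hAu none)).symm h0 o'' ho'') with e | e
    · subst e
      exact absurd (hinj (smul_left_cancel (u none) (ho''.trans (hufix none).symm))) (by simp)
    · subst e
      exact absurd (huonly none _ ho'') (by simp)
  let 𝓕 := 𝓐.filter (fun B => ∃ o, ∀ a ∈ B, Fix a o)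
  have hlt : Fintype.card (Option (F × F)) < 𝓕.card := by
    rw [← Finset.card_univ, ← Finset.card_image_of_injective Finset.univ hAinj]
    refine Finset.card_lt_card ⟨fun B hB => ?_, fun hsub => ?_⟩
    · obtain ⟨o, -, rfl⟩ := Finset.mem_image.mp hB
      exact Finset.mem_filter.mpr ⟨hA o, o, hAfix o⟩
    · obtain ⟨o, -, e⟩ := Finset.mem_image.mp (hsub (Finset.mem_filter.mpr ⟨hT, none, hTfix⟩))
      exact hTne o e
  let St : Option (F × F) → Subgroup ↥(Cfsg.Sz F m) := fun o => MulAction.stabilizer _ (pt m o)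
  have := hmin (Finset.univ.image St ∪ (𝓐 \ 𝓕)) ⟨fun B hB => ?_, fun g => ?_⟩
  · have h1 := Finset.card_union_le (Finset.univ.image St) (𝓐 \ 𝓕)
    have h2 := Finset.card_image_le (s := (Finset.univ : Finset (Option (F × F)))) (f := St)
    have h3 := Finset.card_sdiff_add_card_eq_card (Finset.filter_subset (fun B => ∃ o, ∀ a ∈ B, Fix a o) 𝓐)
    rw [Finset.card_univ] at h2
    change (𝓐 \ 𝓕).card + 𝓕.card = 𝓐.card at h3
    omega
  · rcases Finset.mem_union.mp hB with hB | hB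
    · obtain ⟨o, -, rfl⟩ := Finset.mem_image.mp hB
      intro htop
      have hall : ∀ g : ↥(Cfsg.Sz F m), Fix g o := fun g => htop.ge (Subgroup.mem_top g)
      have e1 := huonly none o (hall (u none))
      have e2 := huonly (some (0, 0)) o (hall (u (some (0, 0))))
      simp [e1] at e2
    · exact hne B (Finset.mem_sdiff.mp hB).1
  · obtain ⟨B, hB, hg⟩ := hcov g
    by_cases hBF : B ∈ 𝓕
    · obtain ⟨o, ho⟩ := (Finset.mem_filter.mp hBF).2
      exact ⟨St o, Finset.mem_union_left _ (Finset.mem_image_of_mem _ (Finset.mem_univ o)), ho g hg⟩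
    · exact ⟨B, Finset.mem_union_right _ (Finset.mem_sdiff.mpr ⟨hB, hBF⟩), hg⟩

/-- A cover of a group is a finite set of proper subgroups whose union is the whole group; it is minimal when no cover has fewer members, and nilpotent when all its members are nilpotent. The Suzuki groups Sz(q), q = 2^(2m+1) with m ≥ 1, have no nilpotent minimal cover. -/
theorem result {F : Type*} [Field F] [Fintype F] (m : ℕ) (hm : 1 ≤ m) (hF : Fintype.card F = 2 ^ (2 * m + 1)) :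
    ¬ ∃ 𝓐 : Finset (Subgroup ↥(Cfsg.Lie.Sz F (2 ^ (m + 1)))), ((∀ A ∈ 𝓐, A ≠ ⊤) ∧ (∀ g : ↥(Cfsg.Lie.Sz F (2 ^ (m + 1))), ∃ A ∈ 𝓐, g ∈ A)) ∧ (∀ 𝓑 : Finset (Subgroup ↥(Cfsg.Lie.Sz F (2 ^ (m + 1)))), (∀ A ∈ 𝓑, A ≠ ⊤) ∧ (∀ g : ↥(Cfsg.Lie.Sz F (2 ^ (m + 1))), ∃ A ∈ 𝓑, g ∈ A) → 𝓐.card ≤ 𝓑.card) ∧ (∀ A ∈ 𝓐, Group.IsNilpotent ↥A) := by
  rintro ⟨𝓐, ⟨hne, hcov⟩, hmin, hnil⟩
  classical
  have hS : Cfsg.Agent.Suz.SzField F m := by exact ⟨hm, hF⟩
  let e := Cfsg.Agent.Suz.szEquiv hS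
  let E : Subgroup ↥(Cfsg.Sz F m) ≃o Subgroup ↥(Cfsg.Lie.Sz F (2 ^ (m + 1))) := e.mapSubgroup
  refine no_nilpotent_cover hS (𝓐.image E.symm) ?_ ?_ ?_ ?_
  · intro A hA htop
    obtain ⟨B, hB, rfl⟩ := Finset.mem_image.mp hA
    exact hne B hB ((map_eq_top_iff E.symm).mp htop)
  · intro g
    obtain ⟨B, hB, hg⟩ := hcov (e g)
    exact ⟨_, Finset.mem_image_of_mem _ hB, ⟨e g, hg, e.symm_apply_apply g⟩⟩
  · intro 𝓑 ⟨h1, h2⟩
    rw [Finset.card_image_of_injective _ E.symm.injective]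
    refine (hmin (𝓑.image E) ⟨fun A hA htop => ?_, fun g => ?_⟩).trans Finset.card_image_le
    · obtain ⟨B, hB, rfl⟩ := Finset.mem_image.mp hA
      exact h1 B hB ((map_eq_top_iff E).mp htop)
    · obtain ⟨B, hB, hg⟩ := h2 (e.symm g)
      exact ⟨_, Finset.mem_image_of_mem _ hB, ⟨e.symm g, hg, e.apply_symm_apply g⟩⟩
  · intro A hA
    obtain ⟨B, hB, rfl⟩ := Finset.mem_image.mp hA
    have := hnil B hB
    exact Group.nilpotent_of_mulEquiv (e.symm.subgroupMap B)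

end Cfsg.Agent.S3893
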