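import Cfsg.Statements.S3903
import Cfsg.Agent.Lib.Grp.Solvable
-- import your own Cfsg.Agent.* helpers here

set_option autoImplicit false
open Cfsg

namespace Cfsg.Agent.S3903

theorem ncard_carrier {G : Type*} [Group G] [Finite G] (g : G) :
    (ConjClasses.mk g).carrier.ncard = (Subgroup.centralizer ({g} : Set G)).index := by
  rw [← ConjAct.orbit_eq_carrier_conjClasses, ← MulAction.index_stabilizer,
    Subgroup.centralizer_eq_comap_stabilizer]
  exact (Subgroup.index_comap_of_surjective (MulAction.stabilizer (ConjAct G) g)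
    (f := (ConjAct.toConjAct : G ≃* ConjAct G).toMonoidHom) ConjAct.toConjAct.surjective).symm

theorem solvable_of_pGroup {G : Type*} [Group G] [Finite G] {p : ℕ} [Fact p.Prime] (hG : IsPGroup p G) :
    Group.IsSolvable G :=
  @IsNilpotent.to_isSolvable _ _ hG.isNilpotent

/-- Let N be a proper normal subgroup of the finite group G such that every element x of G outside N has prime power order and has centralizer C_G(x) a maximal subgroup of G. Then N is solvable. -/
theorem result {G : Type*} [Group G] [Finite G] (N : Subgroup G) [N.Normal] (hN : N ≠ ⊤)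
    (h : ∀ x : G, x ∉ N → IsPrimePow (orderOf x) ∧ IsCoatom (Subgroup.centralizer ({x} : Set G))) : Group.IsSolvable ↥N := by
  classical
  obtain ⟨x₀, hx₀⟩ : ∃ x, x ∉ N := by
    by_contra hc
    push Not at hc
    exact hN (eq_top_iff.mpr fun x _ => hc x)
  obtain ⟨p, k, hp, hk, hpk⟩ := (h x₀ hx₀).1
  have hp := hp.nat_prime
  have : Fact p.Prime := ⟨hp⟩
  -- the centralizer of an element outside `N` is a `q`-group
  have hC : ∀ x, x ∉ N → ∀ q j : ℕ, q.Prime → orderOf x = q ^ j →
      IsPGroup q (Subgroup.centralizer ({x} : Set G)) := by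
    intro x hx q j hq hj
    have : Fact q.Prime := ⟨hq⟩
    have key : ∀ r : ℕ, r.Prime → r ∣ Nat.card (Subgroup.centralizer ({x} : Set G)) → r = q := by
      intro r hr hd
      by_contra hne
      have : Fact r.Prime := ⟨hr⟩
      obtain ⟨y, hy⟩ := exists_prime_orderOf_dvd_card' r hd
      have hc : Commute x (y : G) := Subgroup.mem_centralizer_iff.mp y.2 x rfl
      have hcop : (q ^ j).Coprime r := ((Nat.coprime_primes hq hr).mpr (Ne.symm hne)).pow_left j
      have hyr : (y : G) ^ r = 1 := by rw [← hy, ← Subgroup.orderOf_coe]; exact pow_orderOf_eq_one _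
      have ho : orderOf (x * y) = q ^ j * r := by
        rw [hc.orderOf_mul_eq_mul_orderOf_of_coprime (by rw [hj, Subgroup.orderOf_coe, hy]; exact hcop),
          hj, Subgroup.orderOf_coe, hy]
      have hxy : x * (y : G) ∉ N := by
        intro hm
        have h1 : x ^ r ∈ N := by
          have := N.pow_mem hm r
          rwa [hc.mul_pow, hyr, mul_one] at this
        obtain ⟨m, hm'⟩ := exists_pow_eq_self_of_coprime (x := x) (n := r) (by rw [hj]; exact hcop.symm)
        exact hx (hm' ▸ N.pow_mem h1 m)
      obtain ⟨s, i, hs, -, hsi⟩ := (h _ hxy).1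
      rw [ho] at hsi
      have hs := hs.nat_prime
      have hj0 : j ≠ 0 := by
        rintro rfl
        rw [pow_zero, orderOf_eq_one_iff] at hj
        exact hx (hj ▸ one_mem N)
      have e1 : q = s := (Nat.prime_dvd_prime_iff_eq hq hs).mp
        (hq.dvd_of_dvd_pow (hsi ▸ dvd_mul_of_dvd_left (dvd_pow_self q hj0) r))
      have e2 : r = s := (Nat.prime_dvd_prime_iff_eq hr hs).mp
        (hr.dvd_of_dvd_pow (hsi ▸ dvd_mul_left r (q ^ j)))
      exact hne (e2.trans e1.symm)
    refine IsPGroup.of_card (n := (Nat.card (Subgroup.centralizer ({x} : Set G))).primeFactorsList.length)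
      (Nat.eq_prime_pow_of_unique_prime_dvd Nat.card_pos.ne' fun {r} hr hd => key r hr hd)
  by_cases hG : IsPGroup p G
  · exact solvable_of_pGroup (hG.to_subgroup N)
  -- such centralizers are Sylow subgroups
  have hS : ∀ x, x ∉ N → ∀ q j : ℕ, q.Prime → orderOf x = q ^ j →
      ∀ Q : Subgroup G, IsPGroup q Q → Subgroup.centralizer ({x} : Set G) ≤ Q →
      Q = ⊤ ∨ Q = Subgroup.centralizer ({x} : Set G) := fun x hx q j _ _ Q _ hle => (h x hx).2.le_iff.mp hle
  have hx₀C := hC x₀ hx₀ p k hp hpk.symm
  obtain ⟨P, hP⟩ := hx₀C.exists_le_sylow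
  have hPC : (P : Subgroup G) = Subgroup.centralizer ({x₀} : Set G) := by
    refine (hS x₀ hx₀ p k hp hpk.symm P P.isPGroup' hP).resolve_left fun e => hG ?_
    exact (e ▸ P.isPGroup' : IsPGroup p (⊤ : Subgroup G)).of_equiv Subgroup.topEquiv
  have hmax : IsCoatom (P : Subgroup G) := hPC ▸ (h x₀ hx₀).2
  -- `G = N P`
  by_cases hNP : N ≤ (P : Subgroup G)
  · exact solvable_of_pGroup (P.isPGroup'.to_le hNP)
  have hsup : N ⊔ (P : Subgroup G) = ⊤ :=
    (hmax.le_iff.mp le_sup_right).resolve_right fun e => hNP (e ▸ le_sup_left)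
  have hidx : ∃ a, N.index = p ^ a := by
    have : N.index = N.relIndex (P : Subgroup G) := by
      rw [← Subgroup.relIndex_top_right, ← hsup, Subgroup.relIndex_sup_left]
    obtain ⟨a, ha⟩ := IsPGroup.iff_card.mp P.isPGroup'
    obtain ⟨b, -, hb⟩ := (Nat.dvd_prime_pow hp).mp (ha ▸ Subgroup.relIndex_dvd_card N (P : Subgroup G))
    exact ⟨b, this.trans hb⟩
  -- so all elements outside `N` are `p`-elements with Sylow centralizers
  have hout : ∀ x, x ∉ N → ∃ j, orderOf x = p ^ j ∧
      Nat.card (Subgroup.centralizer ({x} : Set G)) = Nat.card (P : Subgroup G) := by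
    intro x hx
    obtain ⟨q, j, hq, hj, hqj⟩ := (h x hx).1
    have hq := hq.nat_prime
    obtain ⟨a, ha⟩ := hidx
    have hqp : q = p := by
      have h1 : orderOf (QuotientGroup.mk' N x) ∣ q ^ j := hqj ▸ orderOf_map_dvd _ x
      have h2 : orderOf (QuotientGroup.mk' N x) ∣ p ^ a := ha ▸ orderOf_dvd_natCard _
      by_contra hne
      have h3 := Nat.eq_one_of_dvd_coprimes (Nat.coprime_pow_primes j a hq hp hne) h1 h2
      exact hx ((QuotientGroup.eq_one_iff x).mp (orderOf_eq_one_iff.mp h3))
    subst hqp
    refine ⟨j, hqj.symm, ?_⟩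
    obtain ⟨Q, hQ⟩ := (hC x hx q j hq hqj.symm).exists_le_sylow
    rcases hS x hx q j hq hqj.symm Q Q.isPGroup' hQ with e | e
    · exact absurd ((e ▸ Q.isPGroup' : IsPGroup q (⊤ : Subgroup G)).of_equiv Subgroup.topEquiv) hG
    · rw [← e]; exact Sylow.card_eq_multiplicity Q |>.trans (Sylow.card_eq_multiplicity P).symm
  -- the classes outside `N` meet `P` exactly once
  have : Fintype G := Fintype.ofFinite G
  set O : Finset G := Finset.univ.filter (fun x => x ∉ N) with hO
  set OP : Finset G := O.filter (fun x => x ∈ (P : Subgroup G)) with hOP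
  have hmeet : O.image ConjClasses.mk = OP.image ConjClasses.mk := by
    refine le_antisymm ?_ (Finset.image_subset_image (Finset.filter_subset _ _))
    intro c hc
    obtain ⟨x, hx, rfl⟩ := Finset.mem_image.mp hc
    have hx : x ∉ N := (Finset.mem_filter.mp hx).2
    obtain ⟨j, hj, -⟩ := hout x hx
    have hz : IsPGroup p (Subgroup.zpowers x) := IsPGroup.of_card (n := j) (by rw [Nat.card_zpowers, hj])
    obtain ⟨Q, hQ⟩ := hz.exists_le_sylow
    obtain ⟨g, hg⟩ := MulAction.exists_smul_eq G Q P
    have hgP : g * x * g⁻¹ ∈ (P : Subgroup G) := by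
      rw [← hg, Sylow.coe_subgroup_smul]
      exact Subgroup.smul_mem_pointwise_smul x (MulAut.conj g) _ (hQ (Subgroup.mem_zpowers x))
    refine Finset.mem_image.mpr ⟨g * x * g⁻¹, ?_, ConjClasses.mk_eq_mk_iff_isConj.mpr
      (isConj_iff.mpr ⟨g⁻¹, by group⟩)⟩
    refine Finset.mem_filter.mpr ⟨Finset.mem_filter.mpr ⟨Finset.mem_univ _, fun hm => hx ?_⟩, hgP⟩
    simpa [mul_assoc] using (inferInstance : N.Normal).conj_mem _ hm g⁻¹
  have hfib : ∀ c ∈ O.image ConjClasses.mk,
      (O.filter (fun a => ConjClasses.mk a = c)).card = (P : Subgroup G).index := by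
    intro c hc
    obtain ⟨x, hx, rfl⟩ := Finset.mem_image.mp hc
    have hx : x ∉ N := (Finset.mem_filter.mp hx).2
    obtain ⟨j, -, hcard⟩ := hout x hx
    rw [← Set.ncard_coe_finset]
    have e : ((O.filter (fun a => ConjClasses.mk a = ConjClasses.mk x) : Finset G) : Set G) =
        (ConjClasses.mk x).carrier := by
      ext a
      simp only [Finset.coe_filter, Set.mem_setOf_eq, hO, Finset.mem_filter, Finset.mem_univ, true_and,
        ConjClasses.mem_carrier_iff_mk_eq]
      refine ⟨fun h => h.2, fun h => ⟨fun ha => hx ?_, h⟩⟩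
      obtain ⟨g, hg⟩ := isConj_iff.mp (ConjClasses.mk_eq_mk_iff_isConj.mp h)
      exact hg ▸ (inferInstance : N.Normal).conj_mem _ ha g
    rw [e, ncard_carrier]
    have h1 := Subgroup.card_mul_index (Subgroup.centralizer ({x} : Set G))
    rw [hcard, ← Subgroup.card_mul_index (P : Subgroup G)] at h1
    exact Nat.eq_of_mul_eq_mul_left Nat.card_pos h1
  have hcount : O.card = (P : Subgroup G).index * OP.card := by
    have hOc : O.card = Nat.card G - Nat.card N := by
      rw [hO, Finset.filter_not, Finset.card_sdiff_of_subset (Finset.filter_subset _ _),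
        Finset.card_univ, Nat.card_eq_fintype_card, Nat.card_eq_fintype_card, Fintype.card_subtype]
    have hPc : OP.card = Nat.card (P : Subgroup G) - Nat.card (↥((P : Subgroup G) ⊓ N)) := by
      have : OP = (Finset.univ.filter (fun x => x ∈ (P : Subgroup G))) \
          (Finset.univ.filter (fun x => x ∈ (P : Subgroup G) ⊓ N)) := by
        ext x; simp [hOP, hO, Subgroup.mem_inf]; tauto
      rw [this, Finset.card_sdiff_of_subset (fun x => by simp [Subgroup.mem_inf]; tauto),
        Nat.card_eq_fintype_card, Nat.card_eq_fintype_card, Fintype.card_subtype, Fintype.card_subtype]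
    have e1 : Nat.card N = (P : Subgroup G).index * Nat.card (↥((P : Subgroup G) ⊓ N)) := by
      have h1 := Cfsg.Agent.Grp.card_sup_mul_card_inf_normal (H := (P : Subgroup G)) (N := N)
      rw [sup_comm, hsup, Subgroup.card_top, ← Subgroup.card_mul_index (P : Subgroup G), mul_assoc] at h1
      exact (Nat.eq_of_mul_eq_mul_left Nat.card_pos h1).symm
    rw [hOc, hPc, e1, Nat.mul_sub, mul_comm (P : Subgroup G).index (Nat.card (P : Subgroup G)),
      Subgroup.card_mul_index]
  have hinj : Set.InjOn ConjClasses.mk (OP : Set G) := by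
    refine Finset.card_image_iff.mp ?_
    have h1 := Finset.card_eq_sum_card_image ConjClasses.mk O
    rw [Finset.sum_congr rfl hfib, Finset.sum_const, smul_eq_mul, hmeet, hcount, mul_comm _ (P : Subgroup G).index] at h1
    exact (Nat.eq_of_mul_eq_mul_left (Nat.pos_of_ne_zero Subgroup.index_ne_zero_of_finite) h1).symm
  -- hence `P` is abelian
  have hmemOP : ∀ a, a ∈ OP ↔ a ∈ (P : Subgroup G) ∧ a ∉ N := fun a => by
    simp [hOP, hO, and_comm]
  have hcen : ∀ x ∈ (P : Subgroup G), x ∉ N → ∀ u ∈ (P : Subgroup G), Commute u x := by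
    intro x hxP hx u hu
    have he : u * x * u⁻¹ = x := by
      refine hinj (Finset.mem_coe.mpr ((hmemOP _).mpr ⟨mul_mem (mul_mem hu hxP) (inv_mem hu),
        fun hm => hx ?_⟩)) (Finset.mem_coe.mpr ((hmemOP _).mpr ⟨hxP, hx⟩))
        (ConjClasses.mk_eq_mk_iff_isConj.mpr (isConj_iff.mpr ⟨u⁻¹, by group⟩))
      simpa [mul_assoc] using (inferInstance : N.Normal).conj_mem _ hm u⁻¹
    exact mul_inv_eq_iff_eq_mul.mp he
  have hx₀P : x₀ ∈ (P : Subgroup G) := hP (Subgroup.mem_centralizer_iff.mpr fun y hy => by rw [hy])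
  have habel : ∀ u ∈ (P : Subgroup G), ∀ v ∈ (P : Subgroup G), Commute u v := by
    intro u hu v hv
    by_cases hv' : v ∈ N
    · have h1 := hcen (v * x₀) (mul_mem hv hx₀P) (fun hm => hx₀ ((N.mul_mem_cancel_left hv').mp hm)) u hu
      have h2 := h1.mul_right (hcen x₀ hx₀P hx₀ u hu).inv_right
      rwa [mul_inv_cancel_right] at h2
    · exact hcen v hv hv' u hu
  -- a Sylow subgroup for another prime is normal and has a `p`-group quotient
  rcases hmax.le_iff.mp Subgroup.le_normalizer with hnt | hnP
  · -- `P` normal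
    have hPn : (P : Subgroup G).Normal := Subgroup.normalizer_eq_top_iff.mp hnt
    have : IsSimpleGroup (G ⧸ (P : Subgroup G)) := by
      have : Nontrivial (G ⧸ (P : Subgroup G)) :=
        QuotientGroup.nontrivial_iff.mpr hmax.1
      refine ⟨fun H _ => ?_⟩
      have hle : (P : Subgroup G) ≤ H.comap (QuotientGroup.mk' _) := fun a ha => by
        rw [Subgroup.mem_comap, QuotientGroup.mk'_apply, (QuotientGroup.eq_one_iff a).mpr ha]; exact one_mem H
      rcases hmax.le_iff.mp hle with e | e
      · exact Or.inr (Subgroup.comap_injective (QuotientGroup.mk'_surjective _) (e.trans (Subgroup.comap_top _).symm))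
      · refine Or.inl (Subgroup.comap_injective (QuotientGroup.mk'_surjective _) ?_)
        rw [e, MonoidHom.comap_bot, QuotientGroup.ker_mk']
    have hd : ∃ q : ℕ, q.Prime ∧ q ∣ Nat.card (G ⧸ (P : Subgroup G)) :=
      Nat.exists_prime_and_dvd Finite.one_lt_card.ne'
    obtain ⟨q, hq, hqd⟩ := hd
    have : Fact q.Prime := ⟨hq⟩
    obtain ⟨y, hy⟩ := exists_prime_orderOf_dvd_card' q hqd
    have hzn : ∀ H : Subgroup (G ⧸ (P : Subgroup G)), (P : Subgroup G) ≤ H.comap (QuotientGroup.mk' _) := fun H a ha => by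
      rw [Subgroup.mem_comap, QuotientGroup.mk'_apply, (QuotientGroup.eq_one_iff a).mpr ha]; exact one_mem H
    have hcyc : Subgroup.zpowers y = ⊤ := by
      rcases hmax.le_iff.mp (hzn (Subgroup.zpowers y)) with e | e
      · exact Subgroup.comap_injective (QuotientGroup.mk'_surjective _) (e.trans (Subgroup.comap_top _).symm)
      · have h1 : Subgroup.zpowers y = ⊥ := Subgroup.comap_injective (QuotientGroup.mk'_surjective _)
          (by rw [e, MonoidHom.comap_bot, QuotientGroup.ker_mk'])
        rw [Subgroup.zpowers_eq_bot] at h1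
        rw [h1, orderOf_one] at hy
        exact absurd hy.symm hq.ne_one
    have : IsCyclic (G ⧸ (P : Subgroup G)) := ⟨y, fun z => hcyc.ge (Subgroup.mem_top z)⟩
    have h1 : Group.IsSolvable (G ⧸ (P : Subgroup G)) := by
      let : CommGroup (G ⧸ (P : Subgroup G)) := IsCyclic.commGroup
      infer_instance
    have h2 : Group.IsSolvable (P : Subgroup G) := solvable_of_pGroup P.isPGroup'
    have : Group.IsSolvable G := Group.isSolvable_of_ker_le_range (P : Subgroup G).subtype (QuotientGroup.mk' (P : Subgroup G)) (by simp)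
    infer_instance
  · have hle : Subgroup.normalizer ((P : Subgroup G) : Set G) ≤ Subgroup.centralizer ((P : Subgroup G) : Set G) := by
      rw [hnP]
      exact fun u hu => Subgroup.mem_centralizer_iff.mpr fun v hv => habel v hv u hu
    set K := (MonoidHom.transferSylow P hle).ker
    have hKc := MonoidHom.ker_transferSylow_isComplement' P hle
    have hK1 : ¬ p ∣ Nat.card K := MonoidHom.not_dvd_card_ker_transferSylow P hle
    obtain ⟨q, hq, hqK⟩ : ∃ q, q.Prime ∧ q ∣ Nat.card K := by
      refine Nat.exists_prime_and_dvd fun h1 => hmax.1 ?_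
      rw [← Subgroup.index_eq_one, hKc.index_eq_card, h1]
    have : Fact q.Prime := ⟨hq⟩
    obtain ⟨Q⟩ : Nonempty (Sylow q G) := inferInstance
    have hnq : Nat.card (Sylow q G) ∣ Nat.card K := by
      have hqp : q ≠ p := fun e => hK1 (e ▸ hqK)
      have hQK : (Q : Subgroup G) ≤ K := by
        obtain ⟨a, ha⟩ := IsPGroup.iff_card.mp Q.isPGroup'
        obtain ⟨b, hb⟩ := IsPGroup.iff_card.mp P.isPGroup'
        refine Cfsg.Agent.Grp.le_of_coprime_index ?_
        rw [hKc.symm.index_eq_card, ha, hb]
        exact Nat.coprime_pow_primes a b hq hp hqp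
      rw [Sylow.card_eq_index_normalizer Q]
      show (Subgroup.normalizer ((Q : Subgroup G) : Set G)).index ∣ Nat.card K
      have hKN : K ⊔ Subgroup.normalizer ((Q : Subgroup G) : Set G) = ⊤ := by
        rw [sup_comm]; exact Sylow.normalizer_sup_eq_top' Q hQK
      rw [← Subgroup.relIndex_top_right, ← hKN]
      have e2 : (Subgroup.normalizer ((Q : Subgroup G) : Set G)).relIndex (K ⊔ Subgroup.normalizer ((Q : Subgroup G) : Set G)) =
          (Subgroup.normalizer ((Q : Subgroup G) : Set G)).relIndex K := by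
        have h1 := Cfsg.Agent.Grp.card_sup_mul_card_inf_normal
          (H := Subgroup.normalizer ((Q : Subgroup G) : Set G)) (N := K)
        have h2 := Cfsg.Agent.Grp.card_mul_relIndex
          (le_sup_right : Subgroup.normalizer ((Q : Subgroup G) : Set G) ≤ K ⊔ _)
        have h3 := Cfsg.Agent.Grp.relIndex_mul_card_inf K (Subgroup.normalizer ((Q : Subgroup G) : Set G))
        rw [sup_comm] at h1
        rw [inf_comm] at h3
        rw [← h2, ← h3, mul_assoc] at h1
        have h4 := Nat.eq_of_mul_eq_mul_left Nat.card_pos h1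
        rw [mul_comm] at h4
        exact Nat.eq_of_mul_eq_mul_left Nat.card_pos h4
      rw [e2]
      exact Subgroup.relIndex_dvd_card _ _
    have hNQ : ∃ P' : Sylow p G, (P' : Subgroup G) ≤ Subgroup.normalizer ((Q : Subgroup G) : Set G) := by
      obtain ⟨P1⟩ : Nonempty (Sylow p (Subgroup.normalizer ((Q : Subgroup G) : Set G))) := inferInstance
      obtain ⟨P2, hP2⟩ := (P1.isPGroup'.map (Subgroup.normalizer ((Q : Subgroup G) : Set G)).subtype).exists_le_sylow
      refine ⟨P2, ?_⟩
      have hc : Nat.card P1.toSubgroup = Nat.card (P2 : Subgroup G) := by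
        rw [P1.card_eq_multiplicity, P2.card_eq_multiplicity]
        congr 1
        have h1 := Subgroup.card_mul_index (Subgroup.normalizer ((Q : Subgroup G) : Set G))
        rw [show (Subgroup.normalizer ((Q : Subgroup G) : Set G)).index = Nat.card (Sylow q G) from
          (Sylow.card_eq_index_normalizer Q).symm] at h1
        rw [← h1, Nat.factorization_mul Nat.card_pos.ne' Nat.card_pos.ne', Finsupp.add_apply,
          Nat.factorization_eq_zero_of_not_dvd (fun hd => hK1 (hd.trans hnq)), add_zero]
      have := Subgroup.eq_of_le_of_card_ge hP2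
        (by rw [Subgroup.card_map_of_injective (Subgroup.subtype_injective _), hc])
      exact this ▸ Subgroup.map_subtype_le _
    obtain ⟨P', hP'⟩ := hNQ
    have hmax' : IsCoatom (P' : Subgroup G) := by
      obtain ⟨g, hg⟩ := MulAction.exists_smul_eq G P P'
      rw [← hg, Sylow.coe_subgroup_smul, ← Cfsg.Agent.Grp.map_conj_eq_smul]
      exact (OrderIso.isCoatom_iff (MulAut.conj g).mapSubgroup _).mpr hmax
    have hQne : (Q : Subgroup G) ≠ ⊥ := Q.ne_bot_of_dvd_card (hqK.trans K.card_subgroup_dvd_card)
    have hQnot : ¬ (Q : Subgroup G) ≤ (P' : Subgroup G) := by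
      intro hle'
      refine hQne (Subgroup.card_eq_one.mp ?_)
      obtain ⟨a, ha⟩ := IsPGroup.iff_card.mp Q.isPGroup'
      obtain ⟨b, hb⟩ := IsPGroup.iff_card.mp P'.isPGroup'
      exact Nat.eq_one_of_dvd_coprimes
        (by rw [ha, hb]; exact Nat.coprime_pow_primes a b hq hp (fun e => hK1 (e ▸ hqK)))
        dvd_rfl (Subgroup.card_dvd_of_le hle')
    have hQn : (Q : Subgroup G).Normal := Subgroup.normalizer_eq_top_iff.mp
      ((hmax'.le_iff.mp hP').resolve_right fun e => hQnot (e ▸ Subgroup.le_normalizer))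
    have htop : (Q : Subgroup G) ⊔ (P' : Subgroup G) = ⊤ :=
      (hmax'.le_iff.mp le_sup_right).resolve_right fun e => hQnot (e ▸ le_sup_left)
    have hq1 : Group.IsSolvable (G ⧸ (Q : Subgroup G)) := by
      have hsurj : Function.Surjective ((QuotientGroup.mk' (Q : Subgroup G)).domRestrict (P' : Subgroup G)) := by
        rw [← MonoidHom.range_eq_top, MonoidHom.domRestrict_range,
          ← Subgroup.map_top_of_surjective _ (QuotientGroup.mk'_surjective (Q : Subgroup G)), ← htop, Subgroup.map_sup,
          QuotientGroup.map_mk'_self, bot_sup_eq]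
      exact solvable_of_pGroup (P'.isPGroup'.of_surjective _ hsurj)
    have : Group.IsSolvable G := (have := solvable_of_pGroup Q.isPGroup'; Group.isSolvable_of_ker_le_range (Q : Subgroup G).subtype (QuotientGroup.mk' (Q : Subgroup G)) (by simp))
    infer_instance

end Cfsg.Agent.S3903
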