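import Cfsg.Statements.S3908
import Cfsg.Agent.Lib.Grp.ConjSylow

set_option autoImplicit false
open Cfsg

namespace Cfsg.Agent.S3908

/-- Let G be a finite group in which any two abelian subgroups of the same order are conjugate. Then a Sylow 2-subgroup of G is cyclic, elementary abelian or generalized quaternion, and for an odd prime p a Sylow p-subgroup of G is cyclic or has exponent dividing p. -/
theorem result {G : Type*} [Group G] [Finite G] (hB : ∀ A B : Subgroup G, IsMulCommutative ↥A → IsMulCommutative ↥B → Nat.card ↥A = Nat.card ↥B → ∃ g : G, B = A.map (MulAut.conj g).toMonoidHom) :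
    (∀ P : Sylow 2 G, IsCyclic ↥(P : Subgroup G) ∨ Cfsg.IsElementaryAbelian 2 (P : Subgroup G) ∨ ∃ k : ℕ, Nonempty (↥(P : Subgroup G) ≃* QuaternionGroup (2 ^ k))) ∧
    ∀ (p : ℕ) [Fact p.Prime], p ≠ 2 → ∀ P : Sylow p G, IsCyclic ↥(P : Subgroup G) ∨ ∀ x ∈ (P : Subgroup G), x ^ p = 1 := by
  have hiso : ∀ (p : ℕ) (P : Sylow p G), ∀ A B : Subgroup (P : Subgroup G), IsMulCommutative A → IsMulCommutative B →
      Nat.card A = Nat.card B → (∀ x ∈ A, x ^ p = 1) → ∀ x ∈ B, x ^ p = 1 := by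
    intro p P A B hA hB' h hexp x hx
    haveI := hA
    haveI := hB'
    obtain ⟨g, hg⟩ := hB (A.map (P : Subgroup G).subtype) (B.map (P : Subgroup G).subtype)
      inferInstance inferInstance
      (by rw [Subgroup.card_map_of_injective (P : Subgroup G).subtype_injective,
        Subgroup.card_map_of_injective (P : Subgroup G).subtype_injective, h])
    obtain ⟨_, ⟨a, ha, rfl⟩, e⟩ := hg.le ⟨x, hx, rfl⟩
    refine Subtype.ext ?_
    rw [Subgroup.coe_pow, show ((x : (P : Subgroup G)) : G) = g * (a : G) * g⁻¹ from e.symm, conj_pow,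
      ← Subgroup.coe_pow, hexp a ha]
    simp
  refine ⟨fun P => ?_, fun p _ hp P => ?_⟩
  · haveI : Fact (Nat.Prime 2) := ⟨Nat.prime_two⟩
    rcases Cfsg.Agent.Grp.ConjSylow.trichotomy P.isPGroup' (hiso 2 P) with h | h | ⟨-, n, h⟩
    · exact Or.inl h
    · exact Or.inr (Or.inl ⟨⟨⟨Cfsg.Agent.Grp.ConjSylow.comm_of_exp_two h⟩⟩,
        fun x hx => congrArg Subtype.val (h ⟨x, hx⟩)⟩)
    · exact Or.inr (Or.inr ⟨n + 1, h⟩)
  · rcases Cfsg.Agent.Grp.ConjSylow.trichotomy P.isPGroup' (hiso p P) with h | h | ⟨h2, -⟩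
    · exact Or.inl h
    · exact Or.inr fun x hx => congrArg Subtype.val (h ⟨x, hx⟩)
    · exact absurd h2 hp

end Cfsg.Agent.S3908
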