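import Cfsg.Statements.S3917
import Cfsg.Agent.S0016
import Cfsg.Agent.Lib.Grp.Basic


set_option autoImplicit false
open Cfsg

namespace Cfsg.Agent.S3917

/-- Say that a group has self-centralizing non-cyclic subgroups when every non-cyclic subgroup H satisfies C_G(H) ≤ H. A finite abelian group with self-centralizing non-cyclic subgroups is cyclic or elementary abelian of order p² for a prime p. -/
theorem result {G : Type*} [CommGroup G] [Finite G] (hX : (∀ H : Subgroup G, ¬ IsCyclic ↥H → Subgroup.centralizer (H : Set G) ≤ H)) :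
    IsCyclic G ∨ ∃ p : ℕ, p.Prime ∧ Nat.card G = p ^ 2 ∧ Monoid.exponent G = p := by
  classical
  by_cases hc : IsCyclic G
  · exact Or.inl hc
  refine Or.inr ?_
  have hall : ∀ H : Subgroup G, ¬ IsCyclic H → H = ⊤ := fun H hH => by
    rw [eq_top_iff]
    intro g _
    exact hX H hH (Subgroup.mem_centralizer_iff.mpr fun h _ => mul_comm h g)
  have : ¬ IsZGroup G := fun hz => hc (by infer_instance)
  obtain ⟨p, hp, P, hP⟩ : ∃ (p : ℕ) (_ : p.Prime) (P : Sylow p G), ¬ IsCyclic P := by
    by_contra h
    push Not at h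
    exact this ⟨fun p hp P => h p hp P⟩
  have := Fact.mk hp
  refine ⟨p, hp, ?_⟩
  have hPtop := hall _ hP
  have hG : IsPGroup p G := fun g => by
    obtain ⟨k, hk⟩ := P.isPGroup' ⟨g, hPtop ▸ Subgroup.mem_top g⟩
    exact ⟨k, congrArg Subtype.val hk⟩
  have hsub : ∃ E : Subgroup G, Nat.card E = p ^ 2 ∧ ∀ x ∈ E, x ^ p = 1 := by
    obtain ⟨A, B, hA, hB, hne⟩ : ∃ A B : Subgroup G, Nat.card A = p ∧ Nat.card B = p ∧ A ≠ B := by
      by_contra h
      push Not at h
      rcases S0016.result p hG h with hcy | ⟨rfl, n, ⟨e⟩⟩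
      · exact hc hcy
      · rcases Nat.eq_zero_or_pos n with rfl | hn
        · haveI : NeZero (2 ^ 0) := ⟨by norm_num⟩
          exact hc (e.isCyclic.mpr (isCyclic_of_orderOf_eq_card (QuaternionGroup.xa 0) (by
            rw [QuaternionGroup.orderOf_xa, Nat.card_eq_fintype_card, QuaternionGroup.card, pow_zero, mul_one])))
        · have h1 : e (e.symm (QuaternionGroup.xa 0) * e.symm (QuaternionGroup.a 1)) =
              e (e.symm (QuaternionGroup.a 1) * e.symm (QuaternionGroup.xa 0)) := congrArg e (mul_comm _ _)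
          rw [map_mul, map_mul, e.apply_symm_apply, e.apply_symm_apply, QuaternionGroup.xa_mul_a,
            QuaternionGroup.a_mul_xa, QuaternionGroup.xa.injEq, zero_add, zero_sub] at h1
          have h2 : ((2 : ℕ) : ZMod (2 * 2 ^ n)) = 0 := by push_cast; linear_combination h1
          rw [ZMod.natCast_eq_zero_iff] at h2
          have := Nat.le_of_dvd (by norm_num) h2
          have := Nat.one_lt_two_pow hn.ne'
          omega
    refine ⟨A ⊔ B, ?_, ?_⟩
    · have hinf : Nat.card ↥(A ⊓ B) = 1 := by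
        rcases (Nat.dvd_prime hp).mp (hA ▸ Subgroup.card_dvd_of_le (inf_le_left : A ⊓ B ≤ A)) with e | e
        · exact e
        · have e1 : A ⊓ B = A := Subgroup.eq_of_le_of_card_ge inf_le_left (by omega)
          exact absurd (Subgroup.eq_of_le_of_card_ge (inf_eq_left.mp e1) (by omega)) hne
      have h := Grp.card_sup_mul_card_inf_normal (H := A) (N := B)
      rw [hinf, hA, hB, mul_one] at h
      rw [h, sq]
    · intro x hx
      obtain ⟨a, ha, b, hb, rfl⟩ := Subgroup.mem_sup.mp hx
      have h1 := pow_card_eq_one' (G := A) (x := ⟨a, ha⟩)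
      have h2 := pow_card_eq_one' (G := B) (x := ⟨b, hb⟩)
      rw [hA] at h1
      rw [hB] at h2
      rw [mul_pow, show a ^ p = 1 from congrArg Subtype.val h1, show b ^ p = 1 from congrArg Subtype.val h2, mul_one]
  obtain ⟨E, hE, hEp⟩ := hsub
  have hEc : ¬ IsCyclic E := by
    intro hcy
    obtain ⟨x, hx⟩ := IsCyclic.exists_ofOrder_eq_natCard (α := E)
    have h1 : orderOf x ∣ p := orderOf_dvd_of_pow_eq_one (Subtype.ext (hEp x x.2))
    rw [hx, hE] at h1
    have := Nat.le_of_dvd hp.pos h1
    nlinarith [hp.two_le]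
  have hEtop := hall E hEc
  rw [hEtop, Subgroup.card_top] at hE
  refine ⟨hE, ?_⟩
  have hd : Monoid.exponent G ∣ p := Monoid.exponent_dvd_of_forall_pow_eq_one fun g => hEp g (hEtop ▸ Subgroup.mem_top g)
  rcases (Nat.dvd_prime hp).mp hd with e | e
  · exfalso
    have : Subsingleton G := Monoid.exp_eq_one_iff.mp e
    exact hc isCyclic_of_subsingleton
  · exact e

end Cfsg.Agent.S3917
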