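import Cfsg.Statements.S3918
import Cfsg.Agent.S0016
import Cfsg.Agent.Lib.Grp.PGroupSmall

set_option autoImplicit false
open Cfsg

namespace Cfsg.Agent.S3918

/-- Say that a group has self-centralizing non-cyclic subgroups when every non-cyclic subgroup H satisfies C_G(H) ≤ H. For an odd prime p, a finite non-abelian p-group has self-centralizing non-cyclic subgroups if and only if it has order p³. -/
theorem result {G : Type*} [Group G] [Finite G] {p : ℕ} [Fact p.Prime] (hp : p ≠ 2) (hG : IsPGroup p G) (hna : ¬ IsMulCommutative G) :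
    (∀ H : Subgroup G, ¬ IsCyclic ↥H → Subgroup.centralizer (H : Set G) ≤ H) ↔ Nat.card G = p ^ 3 := by
  classical
  haveI := hG.isNilpotent
  have hpp := (Fact.out : p.Prime)
  have hZne : Subgroup.center G ≠ ⊤ := fun e => hna ⟨⟨fun a b => Subgroup.mem_center_iff.mp (e ▸ Subgroup.mem_top b) a⟩⟩
  constructor
  · intro h
    haveI : Nontrivial G := not_subsingleton_iff_nontrivial.mp fun hs => hna ⟨⟨fun a b => Subsingleton.elim _ _⟩⟩
    haveI := hG.center_nontrivial
    obtain ⟨z0, hz0⟩ := exists_prime_orderOf_dvd_card' (G := Subgroup.center G) p (by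
      obtain ⟨k, hk⟩ := IsPGroup.iff_card.1 (hG.to_subgroup (Subgroup.center G))
      rcases Nat.eq_zero_or_pos k with rfl | hk0
      · have := Finite.one_lt_card (α := Subgroup.center G); rw [hk, pow_zero] at this; omega
      · exact hk ▸ dvd_pow_self p hk0.ne')
    rw [← Subgroup.orderOf_coe] at hz0
    set z : G := (z0 : G)
    have hzc : z ∈ Subgroup.center G := z0.2
    set Z := Subgroup.zpowers z with hZ
    haveI hZn : Z.Normal := ⟨fun n hn g => by
      rw [Subgroup.mem_center_iff.mp (Subgroup.zpowers_le.mpr hzc hn) g, mul_inv_cancel_right]; exact hn⟩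
    have hsc : ∀ e : G, orderOf e = p → e ∉ Z → Subgroup.centralizer ({e} : Set G) ≤ Z ⊔ Subgroup.zpowers e := by
      intro e he hne x hx
      have hnc : ¬ IsCyclic ↥(Z ⊔ Subgroup.zpowers e) := by
        intro hc
        obtain ⟨g, hg⟩ := IsCyclic.exists_ofOrder_eq_natCard (α := ↥(Z ⊔ Subgroup.zpowers e))
        rw [Grp.PSmall.card_sup_zpowers hz0 he hzc hne, ← Subgroup.orderOf_coe] at hg
        haveI := Grp.PSmall.commute_sup_zpowers (e := e) hzc
        have hgp : (g : G) ^ p = 1 := by
          obtain ⟨u, hu, v, hv, huv⟩ := Subgroup.mem_sup_of_normal_left.mp g.2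
          obtain ⟨i, rfl⟩ := Subgroup.mem_zpowers_iff.mp hu
          obtain ⟨j, rfl⟩ := Subgroup.mem_zpowers_iff.mp hv
          have hc' : Commute (z ^ i) (e ^ j) := ((show Commute z e from (Subgroup.mem_center_iff.mp hzc e).symm)).zpow_zpow i j
          rw [← huv, hc'.mul_pow, ← zpow_natCast, ← zpow_mul, mul_comm, zpow_mul, zpow_natCast, ← hz0, pow_orderOf_eq_one,
            one_zpow, one_mul, ← zpow_natCast, ← zpow_mul, mul_comm, zpow_mul, zpow_natCast, hz0, ← he, pow_orderOf_eq_one, one_zpow]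
        have := Nat.le_of_dvd hpp.pos (hg ▸ orderOf_dvd_of_pow_eq_one hgp)
        nlinarith [hpp.two_le]
      refine h _ hnc (Subgroup.mem_centralizer_iff.mpr fun w hw => ?_)
      have : Z ⊔ Subgroup.zpowers e ≤ Subgroup.centralizer ({x} : Set G) := sup_le (Subgroup.zpowers_le.mpr (Subgroup.center_le_centralizer _ hzc))
        (Subgroup.zpowers_le.mpr (Subgroup.mem_centralizer_singleton_iff.mpr (Subgroup.mem_centralizer_singleton_iff.mp hx).symm))
      exact Subgroup.mem_centralizer_singleton_iff.mp (this hw)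
    obtain ⟨x, hx, hxZ⟩ : ∃ x : G, orderOf x = p ∧ x ∉ Z := by
      by_contra hc
      push Not at hc
      rcases S0016.result p hG (fun A B hA hB => by
          have key : ∀ A : Subgroup G, Nat.card A = p → A = Z := fun A hA => by
            refine Subgroup.eq_of_le_of_card_ge (fun a ha => ?_) (by rw [hA, Nat.card_zpowers, hz0])
            rcases (Nat.dvd_prime hpp).mp (hA ▸ Subgroup.orderOf_dvd_natCard _ ha) with e | e
            · rw [orderOf_eq_one_iff.mp e]; exact one_mem _
            · exact hc a e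
          rw [key A hA, key B hB]) with hc' | ⟨h2, -⟩
      · exact hna hc'.isMulCommutative
      · exact hp h2
    set H := Z ⊔ Subgroup.zpowers x with hH
    have hHc : Nat.card H = p ^ 2 := Grp.PSmall.card_sup_zpowers hz0 hx hzc hxZ
    set M := Subgroup.normalizer (H : Set G) with hM
    have hHn : H ≠ ⊤ := fun e => hna (by
      haveI := Grp.PSmall.commute_sup_zpowers (e := x) hzc
      refine ⟨⟨fun a b => ?_⟩⟩
      exact congrArg Subtype.val (mul_comm' (⟨a, (show a ∈ H from e ▸ Subgroup.mem_top a)⟩ : H) ⟨b, (show b ∈ H from e ▸ Subgroup.mem_top b)⟩))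
    have small : ∀ (L : Subgroup G) (e : G), orderOf e = p → e ∉ Z → Z ≤ L → e ∈ L → (∀ s ∈ L, s * e * s⁻¹ * e⁻¹ ∈ Z) → Nat.card L ≤ p ^ 3 := by
      intro L e he hne hZL heL hcm
      have h1 := Grp.PSmall.centralizer_index_le (G := L) (Z.subgroupOf L)
        (fun w hw => Subgroup.mem_center_iff.mpr fun s => Subtype.ext (Subgroup.mem_center_iff.mp (Subgroup.zpowers_le.mpr hzc hw) s))
        (by rw [Nat.card_congr (Subgroup.subgroupOfEquivOfLe hZL).toEquiv, Nat.card_zpowers, hz0])
        ⟨e, heL⟩ (fun s => hcm s s.2)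
      have h2 : Nat.card ↥(Subgroup.centralizer ({(⟨e, heL⟩ : L)} : Set L)) ≤ p ^ 2 := by
        rw [← Subgroup.card_map_of_injective L.subtype_injective, ← Grp.PSmall.card_sup_zpowers hz0 he hzc hne]
        refine Subgroup.card_le_of_le ?_
        rintro _ ⟨w, hw, rfl⟩
        exact hsc e he hne (Subgroup.mem_centralizer_singleton_iff.mpr (congrArg Subtype.val (Subgroup.mem_centralizer_singleton_iff.mp hw)))
      rw [← Subgroup.card_mul_index (Subgroup.centralizer ({(⟨e, heL⟩ : L)} : Set L)), pow_succ]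
      exact Nat.mul_le_mul h2 h1
    obtain ⟨g, hgM, hgH⟩ := SetLike.exists_of_lt (Group.normalizerCondition_of_isNilpotent H (lt_top_iff_ne_top.mpr hHn))
    obtain ⟨m, hm⟩ := IsPGroup.iff_card.mp (hG.to_subgroup M)
    have hm3 : 3 ≤ m := by
      by_contra hc
      exact hgH ((Subgroup.eq_of_le_of_card_ge Subgroup.le_normalizer (by rw [hHc, hm]; exact Nat.pow_le_pow_right hpp.pos (by omega))).ge hgM)
    have hcmM : ∀ s ∈ M, s * x * s⁻¹ * x⁻¹ ∈ Z := by
      intro s hs
      have h1 := Grp.PSmall.le_center_of_card (G := (M ⧸ Z.subgroupOf M)) ((hG.to_subgroup M).to_quotient _)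
        ((H.subgroupOf M).map (QuotientGroup.mk' (Z.subgroupOf M))) (by
          have hZH : Z.subgroupOf M ≤ H.subgroupOf M := Subgroup.comap_mono le_sup_left
          have h2 := Subgroup.card_eq_card_quotient_mul_card_subgroup ((QuotientGroup.mk' (Z.subgroupOf M)).domRestrict (H.subgroupOf M)).ker
          rw [Nat.card_congr (QuotientGroup.quotientKerEquivRange _).toEquiv, MonoidHom.domRestrict_range, MonoidHom.ker_domRestrict, QuotientGroup.ker_mk',
            Nat.card_congr (Subgroup.subgroupOfEquivOfLe hZH).toEquiv, Nat.card_congr (Subgroup.subgroupOfEquivOfLe (le_sup_left.trans Subgroup.le_normalizer : Z ≤ M)).toEquiv,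
            Nat.card_congr (Subgroup.subgroupOfEquivOfLe (Subgroup.le_normalizer : H ≤ M)).toEquiv, hHc, Nat.card_zpowers, hz0] at h2
          exact Nat.eq_of_mul_eq_mul_right hpp.pos (by rw [← h2, sq]))
      have hxM : x ∈ M := Subgroup.le_normalizer (Subgroup.mem_sup_right (Subgroup.mem_zpowers x))
      have h3 := h1 (Subgroup.mem_map_of_mem (QuotientGroup.mk' (Z.subgroupOf M)) (show (⟨x, hxM⟩ : M) ∈ H.subgroupOf M from Subgroup.mem_sup_right (Subgroup.mem_zpowers x)))
      suffices h4 : (⟨s, hs⟩ * ⟨x, hxM⟩ * ⟨s, hs⟩⁻¹ * ⟨x, hxM⟩⁻¹ : M) ∈ Z.subgroupOf M from h4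
      rw [← QuotientGroup.eq_one_iff]
      show QuotientGroup.mk' (Z.subgroupOf M) (⟨s, hs⟩ * ⟨x, hxM⟩ * ⟨s, hs⟩⁻¹ * ⟨x, hxM⟩⁻¹) = 1
      rw [map_mul, map_mul, map_mul, Subgroup.mem_center_iff.mp h3 _, map_inv, map_inv]
      group
    have hM3 := small M x hx hxZ (le_sup_left.trans Subgroup.le_normalizer) (Subgroup.le_normalizer (Subgroup.mem_sup_right (Subgroup.mem_zpowers x))) hcmM
    have hm' : m = 3 := by
      rw [hm] at hM3
      have := (Nat.pow_le_pow_iff_right hpp.one_lt).mp hM3
      omega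
    subst hm'
    by_contra hne
    have hMtop : M ≠ ⊤ := fun e => hne (by rw [← Subgroup.card_top, ← e, hm])
    set N := Subgroup.normalizer (M : Set G) with hN
    have hMN : M < N := Group.normalizerCondition_of_isNilpotent M (lt_top_iff_ne_top.mpr hMtop)
    have hcM : ∀ a ∈ M, ∀ b ∈ M, a * b * a⁻¹ * b⁻¹ ∈ Z := by
      intro a ha b hb
      have hcard : Nat.card (M ⧸ Z.subgroupOf M) = p ^ 2 := by
        have h0 := Subgroup.card_eq_card_quotient_mul_card_subgroup (Z.subgroupOf M)
        rw [hm, Nat.card_congr (Subgroup.subgroupOfEquivOfLe (le_sup_left.trans Subgroup.le_normalizer : Z ≤ M)).toEquiv, Nat.card_zpowers, hz0] at h0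
        exact Nat.eq_of_mul_eq_mul_right hpp.pos (by rw [← h0]; ring)
      haveI := IsPGroup.isMulCommutative_of_card_eq_prime_sq hcard
      suffices h4 : (⟨a, ha⟩ * ⟨b, hb⟩ * ⟨a, ha⟩⁻¹ * ⟨b, hb⟩⁻¹ : M) ∈ Z.subgroupOf M from h4
      rw [← QuotientGroup.eq_one_iff]
      show QuotientGroup.mk' (Z.subgroupOf M) (⟨a, ha⟩ * ⟨b, hb⟩ * ⟨a, ha⟩⁻¹ * ⟨b, hb⟩⁻¹) = 1
      rw [map_mul, map_mul, map_mul, map_inv, map_inv, mul_comm' (QuotientGroup.mk' (Z.subgroupOf M) ⟨a, ha⟩), mul_inv_cancel_right, mul_inv_cancel]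
    have hpowmul : ∀ a ∈ M, ∀ b ∈ M, a ^ p = 1 → b ^ p = 1 → (a * b) ^ p = 1 := by
      intro a ha b hb hap hbp
      set c := b * a * b⁻¹ * a⁻¹ with hc
      have hcc : c ∈ Subgroup.center G := Subgroup.zpowers_le.mpr hzc (hcM b hb a ha)
      have hcomm : ∀ g : G, Commute g c := fun g => Subgroup.mem_center_iff.mp hcc g
      have hba : ∀ n : ℕ, b ^ n * a = c ^ n * a * b ^ n := by
        intro n
        induction n with
        | zero => simp
        | succ n ih =>
          have e1 : b * a = c * a * b := by rw [hc]; group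
          calc b ^ (n + 1) * a = b * (b ^ n * a) := by rw [pow_succ', mul_assoc]
            _ = b * (c ^ n * a * b ^ n) := by rw [ih]
            _ = (b * c ^ n) * a * b ^ n := by group
            _ = c ^ n * (b * a) * b ^ n := by rw [((hcomm b).pow_right n).eq]; group
            _ = c ^ n * (c * a * b) * b ^ n := by rw [e1]
            _ = _ := by rw [pow_succ, pow_succ']; group
      have hform : ∀ n : ℕ, (a * b) ^ n = c ^ n.choose 2 * a ^ n * b ^ n := by
        intro n
        induction n with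
        | zero => simp
        | succ n ih =>
          rw [Nat.choose_succ_succ' n 1, Nat.choose_one_right, pow_succ (a * b), ih]
          calc c ^ n.choose 2 * a ^ n * b ^ n * (a * b) = c ^ n.choose 2 * a ^ n * (b ^ n * a) * b := by group
            _ = c ^ n.choose 2 * (a ^ n * c ^ n) * a * b ^ n * b := by rw [hba]; group
            _ = c ^ n.choose 2 * (c ^ n * a ^ n) * a * b ^ n * b := by rw [((hcomm (a ^ n)).pow_right n).eq]
            _ = _ := by rw [pow_add, pow_succ a, pow_succ b, ← mul_assoc, ((Commute.refl c).pow_pow n (n.choose 2)).eq]; group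
      have hcp : c ^ p.choose 2 = 1 := by
        refine orderOf_dvd_iff_pow_eq_one.mp ?_
        have h1 : orderOf c ∣ p := hz0 ▸ (Nat.card_zpowers z) ▸ Subgroup.orderOf_dvd_natCard _ (hcM b hb a ha)
        refine h1.trans (hpp.dvd_choose_self (by norm_num) ?_)
        have := hpp.two_le
        omega
      rw [hform, hcp, hap, hbp, mul_one, one_mul]
    let K : Subgroup G :=
      { carrier := {w | w ∈ M ∧ w ^ p = 1}
        one_mem' := ⟨one_mem _, one_pow p⟩
        mul_mem' := fun {u v} hu hv => ⟨mul_mem hu.1 hv.1, hpowmul u hu.1 v hv.1 hu.2 hv.2⟩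
        inv_mem' := fun {u} hu => ⟨inv_mem hu.1, by rw [inv_pow, hu.2, inv_one]⟩ }
    have hKN : (K.subgroupOf N).Normal := ⟨fun w hw s => by
      obtain ⟨h1, h2⟩ : (w : G) ∈ M ∧ (w : G) ^ p = 1 := hw
      refine ⟨(Subgroup.mem_normalizer_iff.mp s.2 w).mp h1, ?_⟩
      show ((s : G) * w * (s : G)⁻¹) ^ p = 1
      rw [conj_pow, h2, mul_one, mul_inv_cancel]⟩
    haveI : (Z.subgroupOf N).Normal := inferInstance
    have hKZ : ¬ K.subgroupOf N ≤ Z.subgroupOf N := fun h4 => hxZ (by
      have hxM : x ∈ M := Subgroup.le_normalizer (Subgroup.mem_sup_right (Subgroup.mem_zpowers x))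
      exact h4 (show (⟨x, Subgroup.le_normalizer hxM⟩ : N) ∈ K.subgroupOf N from ⟨hxM, hx ▸ pow_orderOf_eq_one x⟩))
    obtain ⟨e, heK, heZ, he⟩ := Grp.PSmall.exists_central_mod (hG.to_subgroup N) (Z.subgroupOf N) (K.subgroupOf N) hKZ
    obtain ⟨heM, hep⟩ : (e : G) ∈ M ∧ (e : G) ^ p = 1 := heK
    have heZ' : (e : G) ∉ Z := heZ
    have hbound := small N e (orderOf_eq_prime hep (fun h4 => heZ' (h4 ▸ one_mem Z))) heZ' ((le_sup_left.trans Subgroup.le_normalizer).trans hMN.le) e.2
      (fun s hs => he ⟨s, hs⟩)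
    rw [← hm] at hbound
    exact hMN.ne (Subgroup.eq_of_le_of_card_ge hMN.le hbound)
  · intro h3 H hH
    by_cases htop : H = ⊤
    · rw [htop]; exact le_top
    obtain ⟨k, hk⟩ := IsPGroup.iff_card.mp (hG.to_subgroup H)
    have hk2 : k = 2 := by
      have hle : k ≤ 3 := by
        have := Subgroup.card_le_card_group H
        rw [hk, h3] at this
        exact (Nat.pow_le_pow_iff_right hpp.one_lt).mp this
      rcases k with _ | _ | _ | _ | k
      · exact absurd (by
          haveI := (Nat.card_eq_one_iff_unique.mp (by rw [hk, pow_zero] : Nat.card H = 1)).1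
          exact isCyclic_of_subsingleton) hH
      · exact absurd (isCyclic_of_prime_card (p := p) (by rw [hk, pow_one])) hH
      · rfl
      · exact absurd (Subgroup.eq_top_of_card_eq H (by rw [hk, h3])) htop
      · omega
    subst hk2
    haveI := IsPGroup.isMulCommutative_of_card_eq_prime_sq hk
    have hHC : H ≤ Subgroup.centralizer (H : Set G) := fun a ha => Subgroup.mem_centralizer_iff.mpr fun b hb =>
      congrArg Subtype.val (mul_comm' (⟨b, hb⟩ : H) ⟨a, ha⟩)
    obtain ⟨j, hj⟩ := IsPGroup.iff_card.mp (hG.to_subgroup (Subgroup.centralizer (H : Set G)))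
    by_cases hj2 : j ≤ 2
    · exact (Subgroup.eq_of_le_of_card_ge hHC (by rw [hk, hj]; exact Nat.pow_le_pow_right hpp.pos hj2)).ge
    exfalso
    have hCtop : Subgroup.centralizer (H : Set G) = ⊤ := Subgroup.eq_top_of_le_card _ (by
      rw [h3, hj]; exact Nat.pow_le_pow_right hpp.pos (by omega))
    have hHZ : H ≤ Subgroup.center G := fun a ha => Subgroup.mem_center_iff.mpr fun g =>
      (Subgroup.mem_centralizer_iff.mp (hCtop ▸ Subgroup.mem_top g : g ∈ Subgroup.centralizer (H : Set G)) a ha).symm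
    obtain ⟨i, hi⟩ := IsPGroup.iff_card.mp (hG.to_subgroup (Subgroup.center G))
    have hcyc : IsCyclic (G ⧸ Subgroup.center G) := by
      have hd : Nat.card (G ⧸ Subgroup.center G) ≤ p := by
        have h0 := Subgroup.card_eq_card_quotient_mul_card_subgroup (Subgroup.center G)
        have h5 := Subgroup.card_le_of_le hHZ
        rw [hk] at h5
        by_contra hc
        push Not at hc
        rw [h3] at h0
        have h6 := Nat.mul_le_mul (Nat.succ_le_of_lt hc) h5
        rw [← h0, show p ^ 3 = p * p ^ 2 by ring, Nat.succ_mul] at h6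
        have := pow_pos hpp.pos 2
        omega
      rcases Nat.lt_or_ge (Nat.card (G ⧸ Subgroup.center G)) p with h5 | h5
      · obtain ⟨l, hl⟩ := IsPGroup.iff_card.mp (hG.to_quotient (Subgroup.center G))
        rcases l with _ | l
        · haveI := (Nat.card_eq_one_iff_unique.mp (by rw [hl, pow_zero] : Nat.card (G ⧸ Subgroup.center G) = 1)).1
          exact isCyclic_of_subsingleton
        · exfalso
          rw [hl, pow_succ] at h5
          nlinarith [Nat.one_le_pow l p hpp.pos, hpp.two_le]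
      · exact isCyclic_of_prime_card (p := p) (le_antisymm hd h5)
    exact hna ((QuotientGroup.mk' (Subgroup.center G)).isMulCommutative_of_isCyclic_of_ker_le_center (by rw [QuotientGroup.ker_mk']))

end Cfsg.Agent.S3918
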