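import Cfsg.Statements.S3919
import Mathlib
import Cfsg.Agent.Lib.Recog.MaxClassFacts
import Cfsg.Agent.Lib.Recog.MaxClassSelfCentral
import Cfsg.Agent.Lib.Grp.Zassenhaus.CoreFree
-- import your own Cfsg.Agent.* helpers here

set_option autoImplicit false
open Cfsg

namespace Cfsg.Agent.S3919

/-- Say that a group has self-centralizing non-cyclic subgroups when every non-cyclic subgroup H satisfies C_G(H) ≤ H. A finite non-abelian 2-group G of order 2^n has self-centralizing non-cyclic subgroups if and only if G has nilpotency class n − 1 (that is, G is dihedral, semidihedral or generalized quaternion). -/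
theorem result {G : Type*} [Group G] [Finite G] (hna : ¬ IsMulCommutative G) (n : ℕ) (hG : Nat.card G = 2 ^ n) :
    (∀ H : Subgroup G, ¬ IsCyclic ↥H → Subgroup.centralizer (H : Set G) ≤ H) ↔ (⊤ : Subgroup G).lowerCentralSeries (n - 2) ≠ ⊥ := by
  haveI : Fact (Nat.Prime 2) := ⟨Nat.prime_two⟩
  have hP : IsPGroup 2 G := IsPGroup.of_card hG
  haveI : Group.IsNilpotent G := hP.isNilpotent
  have hn3 : 3 ≤ n := by
    by_contra hlt
    refine hna ?_
    rcases (show n = 0 ∨ n = 1 ∨ n = 2 by omega) with rfl | rfl | rfl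
    · haveI : Subsingleton G := (Nat.card_eq_one_iff_unique.1 (by simpa using hG)).1
      exact ⟨⟨fun x y => Subsingleton.elim _ _⟩⟩
    · haveI := isCyclic_of_prime_card (α := G) (p := 2) (by simpa using hG)
      exact IsCyclic.isMulCommutative
    · exact IsPGroup.isMulCommutative_of_card_eq_prime_sq (p := 2) hG
  rw [Ne, Subgroup.lowerCentralSeries_eq_bot_iff_nilpotencyClass_le, not_le]
  constructor
  · intro hall
    by_cases hU : ∀ a b : G, orderOf a = 2 → orderOf b = 2 → Commute a b → a = b
    · rcases Cfsg.Agent.Grp.Zas.two_group_cases hP hU with hc | ⟨k, hk, ⟨e⟩⟩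
      · exact absurd IsCyclic.isMulCommutative hna
      · have hk2 : n = k + 2 := by
          have := Nat.card_congr e.toEquiv
          rw [hG, Nat.card_eq_fintype_card, QuaternionGroup.card, show 4 * 2 ^ k = 2 ^ (k + 2) by ring] at this
          exact Nat.pow_right_injective le_rfl this
        subst hk2
        have hab : e.symm (QuaternionGroup.xa 0) ∉ Subgroup.zpowers (e.symm (QuaternionGroup.a 1)) := by
          intro hmem
          obtain ⟨t, ht⟩ := mem_powers_iff_mem_zpowers.2 hmem
          have ht : e.symm (QuaternionGroup.a 1) ^ t = e.symm (QuaternionGroup.xa 0) := ht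
          rw [← map_pow, QuaternionGroup.a_one_pow] at ht
          exact absurd (e.symm.injective ht) (by simp)
        have h : Cfsg.Agent.MaxClass.Cyc2 (k + 1) (e.symm (QuaternionGroup.a 1))
            (e.symm (QuaternionGroup.xa 0)) :=
          ⟨by rw [MulEquiv.orderOf_eq, QuaternionGroup.orderOf_a_one, pow_succ'], hG, hab⟩
        have hs : Cfsg.Agent.MaxClass.Shape (k + 1) (e.symm (QuaternionGroup.a 1))
            (e.symm (QuaternionGroup.xa 0)) := by
          refine Or.inr (Or.inl ⟨?_, ?_⟩)
          · rw [← map_mul, ← map_pow, QuaternionGroup.a_one_pow, QuaternionGroup.xa_mul_xa,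
              Nat.add_sub_cancel]
            simp
          · rw [← map_mul, ← map_inv, ← map_mul, ← map_inv]
            congr 1
            rw [mul_inv_eq_iff_eq_mul, QuaternionGroup.xa_mul_a]
            refine eq_inv_mul_of_mul_eq ?_
            rw [QuaternionGroup.a_mul_xa]
            simp
        have := Cfsg.Agent.MaxClass.class_eq (by omega) hG (h.index_commutator (by omega) hs)
        omega
    · push Not at hU
      obtain ⟨a, b, ha, hb, hab, hne⟩ := hU
      have haa : a * a = 1 := by rw [← pow_two, ← ha, pow_orderOf_eq_one]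
      have hbb : b * b = 1 := by rw [← pow_two, ← hb, pow_orderOf_eq_one]
      have hca : b * a = a * b := hab.symm.eq
      have haba : ∀ x, a * (a * x) = x := fun x => by rw [← mul_assoc, haa, one_mul]
      have hbbx : ∀ x, b * (b * x) = x := fun x => by rw [← mul_assoc, hbb, one_mul]
      have hbax : ∀ x, b * (a * x) = a * (b * x) := fun x => by rw [← mul_assoc, hca, mul_assoc]
      have hclosed : ∀ x ∈ ({1, a, b, a * b} : Set G), x⁻¹ ∈ ({1, a, b, a * b} : Set G) := by
        simp only [Set.mem_insert_iff, Set.mem_singleton_iff]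
        rintro x (rfl | rfl | rfl | rfl) <;>
          simp [inv_eq_of_mul_eq_one_right haa, inv_eq_of_mul_eq_one_right hbb, hca]
      let H : Subgroup G :=
        { carrier := {1, a, b, a * b}
          one_mem' := Set.mem_insert _ _
          mul_mem' := by
            simp only [Set.mem_insert_iff, Set.mem_singleton_iff]
            rintro x y (rfl | rfl | rfl | rfl) (rfl | rfl | rfl | rfl) <;>
              simp [mul_assoc, haa, hbb, haba, hbbx, hbax, hca]
          inv_mem' := fun hx => hclosed _ hx }
      have haH : a ∈ H := by show a ∈ ({1, a, b, a * b} : Set G); simp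
      have hbH : b ∈ H := by show b ∈ ({1, a, b, a * b} : Set G); simp
      have h4 : Nat.card H = 4 := by
        classical
        have hfin : (({1, a, b, a * b} : Finset G) : Set G) = ({1, a, b, a * b} : Set G) := by simp
        show Nat.card ({1, a, b, a * b} : Set G) = 4
        rw [← hfin, Nat.card_coe_set_eq, Set.ncard_coe_finset]
        have ha1 : a ≠ 1 := fun h => by rw [h, orderOf_one] at ha; norm_num at ha
        have hb1 : b ≠ 1 := fun h => by rw [h, orderOf_one] at hb; norm_num at hb
        have hab1 : a * b ≠ 1 := fun h => hne (by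
          rw [← mul_left_cancel_iff (a := a), haa]; exact h.symm)
        rw [Finset.card_insert_of_notMem, Finset.card_insert_of_notMem, Finset.card_insert_of_notMem,
          Finset.card_singleton] <;>
          simp [ha1.symm, hb1.symm, hab1.symm, hne, ha1, hb1]
      have hexp : ∀ x ∈ ({1, a, b, a * b} : Set G), x * x = 1 := by
        simp only [Set.mem_insert_iff, Set.mem_singleton_iff]
        rintro x (rfl | rfl | rfl | rfl) <;> simp [mul_assoc, haa, hbb, haba, hbbx, hbax, hca]
      have hcyc : ¬ IsCyclic H := fun hc => by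
        obtain ⟨g, hg⟩ := IsCyclic.exists_ofOrder_eq_natCard (α := H)
        rw [h4, ← Subgroup.orderOf_coe] at hg
        have h1 := orderOf_dvd_of_pow_eq_one ((pow_two (g : G)).trans (hexp g g.2))
        rw [hg] at h1
        norm_num at h1
      haveI : IsMulCommutative H := IsPGroup.isMulCommutative_of_card_eq_prime_sq (p := 2) h4
      have := Cfsg.Agent.MaxClass.class_of_self_centralizing (p := 2) hG H h4
        (le_antisymm (hall H hcyc) (Subgroup.le_centralizer H))
      omega
  · intro hc H hH g hg
    have hi := Cfsg.Agent.MaxClass.index_of_class hn3 hG (by omega)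
    obtain ⟨a, b, h, hs⟩ := Cfsg.Agent.MaxClass.exists_shape hn3 hG hi
    have hm : 2 ≤ n - 1 := by omega
    obtain ⟨x, hx, hxA⟩ := SetLike.not_le_iff_exists.1 fun hle : H ≤ Subgroup.zpowers a =>
      hH (Subgroup.isCyclic_of_le hle)
    obtain ⟨i, rfl⟩ := (h.cases x).resolve_left fun ⟨i, hi⟩ => hxA (hi ▸ Subgroup.zpow_mem_zpowers a i)
    have hcom : Commute g (b * a ^ i) := (Subgroup.mem_centralizer_iff.1 hg _ hx).symm
    have hcen : ∀ j : ℤ, Commute (a ^ j) (b * a ^ i) → a ^ j ∈ Subgroup.center G := fun j hj => by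
      rw [h.mem_center hm hs, ← h.shape_comm hm hs]
      have h2 := (hj.mul_right ((Commute.refl a).zpow_zpow j (-i))).symm
      rwa [mul_assoc, ← zpow_add, add_neg_cancel, zpow_zero, mul_one] at h2
    have hmeet : H ⊓ Subgroup.zpowers a ≠ ⊥ := fun hb => by
      refine hH ⟨⟨⟨_, hx⟩, fun y => ?_⟩⟩
      rcases h.cases (y : G) with ⟨k, hk⟩ | ⟨k, hk⟩
      · refine ⟨0, Subtype.ext ?_⟩
        have : (y : G) ∈ H ⊓ Subgroup.zpowers a := ⟨y.2, hk ▸ Subgroup.zpow_mem_zpowers a k⟩
        rw [hb, Subgroup.mem_bot] at this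
        simp [this]
      · refine ⟨1, Subtype.ext ?_⟩
        have : (b * a ^ i)⁻¹ * (y : G) ∈ H ⊓ Subgroup.zpowers a :=
          Subgroup.mem_inf.2 ⟨mul_mem (inv_mem hx) y.2, by rw [hk]; exact Subgroup.mem_zpowers_iff.2 ⟨k - i, by group⟩⟩
        rw [hb, Subgroup.mem_bot, inv_mul_eq_one] at this
        simp [this]
    have hzH : Subgroup.center G ≤ H := by
      obtain ⟨w, hw⟩ := exists_prime_orderOf_dvd_card' (G := (H ⊓ Subgroup.zpowers a : Subgroup G)) 2 (by
        obtain ⟨k, hk⟩ := IsPGroup.iff_card.1 (hP.to_subgroup (H ⊓ Subgroup.zpowers a))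
        rcases Nat.eq_zero_or_pos k with rfl | hk0
        · exact absurd (Subgroup.card_eq_one.1 hk) hmeet
        · exact hk ▸ dvd_pow_self 2 hk0.ne')
      obtain ⟨l, hl⟩ := Subgroup.mem_zpowers_iff.1 (Subgroup.mem_inf.1 w.2).2
      rw [← Subgroup.orderOf_coe, ← hl] at hw
      have hwc : a ^ l ∈ Subgroup.center G := by
        rw [h.mem_center hm hs]
        refine (Cfsg.Agent.MaxClass.dvd_two_mul (show 1 ≤ n - 1 by omega)).1 (h.zpow_eq_one.1 ?_)
        rw [mul_comm, zpow_mul]
        exact (zpow_ofNat _ 2).trans (hw ▸ pow_orderOf_eq_one _)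
      have heq : Subgroup.zpowers (a ^ l) = Subgroup.center G :=
        Subgroup.eq_of_le_of_card_ge (Subgroup.zpowers_le.2 hwc)
          (by rw [h.card_center hm hs, Nat.card_zpowers, hw])
      rw [← heq, Subgroup.zpowers_le, hl]
      exact (Subgroup.mem_inf.1 w.2).1
    rcases h.cases g with ⟨j, rfl⟩ | ⟨j, rfl⟩
    · exact hzH (hcen j hcom)
    · have h1 : a ^ (j - i) ∈ Subgroup.center G := hcen _ (by
        have h2 : Commute ((b * a ^ i)⁻¹ * (b * a ^ j)) (b * a ^ i) :=
          ((Commute.refl _).inv_left).mul_left hcom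
        have h3 : (b * a ^ i)⁻¹ * (b * a ^ j) = a ^ (j - i) := by group
        rwa [h3] at h2)
      rw [show b * a ^ j = (b * a ^ i) * a ^ (j - i) by group]
      exact mul_mem hx (hzH h1)

end Cfsg.Agent.S3919
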