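import Cfsg.Statements.S3920
import Mathlib

set_option autoImplicit false
open Cfsg

namespace Cfsg.Agent.S3920

/-- Say that a group has self-centralizing non-cyclic subgroups when every non-cyclic subgroup H satisfies C_G(H) ≤ H. For n ≥ 3, the dihedral group of order 2n has self-centralizing non-cyclic subgroups if and only if n is odd or a power of 2. -/
theorem result (n : ℕ) (hn : 3 ≤ n) : (∀ H : Subgroup (DihedralGroup n), ¬ IsCyclic ↥H → Subgroup.centralizer (H : Set (DihedralGroup n)) ≤ H) ↔ (Odd n ∨ ∃ k : ℕ, n = 2 ^ k) := by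
  haveI : NeZero n := ⟨by omega⟩
  constructor
  · intro h
    by_contra hc
    push Not at hc
    obtain ⟨hev, hpow⟩ := hc
    obtain ⟨a, d, hd, hnd⟩ := Nat.exists_eq_pow_mul_and_not_dvd (n := n) (by omega) 2 (by norm_num)
    have ha : a ≠ 0 := fun e => hev (by rw [hnd, e, pow_zero, one_mul]; exact Nat.odd_iff.mpr (by omega))
    have hd3 : 3 ≤ d := by
      rcases d with _ | _ | _ | d
      · simp at hd
      · exact absurd (by simpa using hnd) (hpow a)
      · simp at hd
      · omega
    have hdvd : 2 ^ a ∣ n := hnd ▸ dvd_mul_right _ _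
    let φ := ZMod.castHom hdvd (ZMod (2 ^ a))
    let H : Subgroup (DihedralGroup n) :=
      { carrier := {x | match x with | DihedralGroup.r i => φ i = 0 | DihedralGroup.sr i => φ i = 0}
        one_mem' := map_zero φ
        mul_mem' := fun {a b} ha hb => by
          rcases a with i | i <;> rcases b with j | j <;> simp_all [DihedralGroup.r_mul_r, DihedralGroup.r_mul_sr, DihedralGroup.sr_mul_r, DihedralGroup.sr_mul_sr]
        inv_mem' := fun {a} ha => by
          rcases a with i | i <;> simp_all }
    have hA : φ ((2 ^ a : ℕ) : ZMod n) = 0 := by rw [map_natCast, ZMod.natCast_self]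
    have hH : ¬ IsCyclic H := by
      intro hc
      have e := congrArg Subtype.val (mul_comm' (⟨DihedralGroup.r ((2 ^ a : ℕ) : ZMod n), hA⟩ : H) ⟨DihedralGroup.sr 0, map_zero φ⟩)
      simp only [Subgroup.coe_mul, DihedralGroup.r_mul_sr, DihedralGroup.sr_mul_r, DihedralGroup.sr.injEq, zero_sub, zero_add] at e
      have h5 : ((2 ^ a * 2 : ℕ) : ZMod n) = 0 := by
        push_cast at e ⊢
        linear_combination -e
      rw [ZMod.natCast_eq_zero_iff, hnd] at h5
      have := Nat.le_of_dvd (by norm_num) ((Nat.mul_dvd_mul_iff_left (Nat.two_pow_pos a)).mp h5)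
      omega
    obtain ⟨b, rfl⟩ : ∃ b, a = b + 1 := Nat.exists_eq_succ_of_ne_zero ha
    set c : ZMod n := ((2 ^ b * d : ℕ) : ZMod n) with hc'
    have hcc : c + c = 0 := by
      rw [hc', ← Nat.cast_add, show 2 ^ b * d + 2 ^ b * d = n by rw [hnd]; ring, ZMod.natCast_self]
    have h6 : DihedralGroup.r c ∈ Subgroup.centralizer (H : Set (DihedralGroup n)) := by
      rw [Subgroup.mem_centralizer_iff]
      rintro (i | i) -
      · simp [add_comm]
      · simp only [DihedralGroup.sr_mul_r, DihedralGroup.r_mul_sr, DihedralGroup.sr.injEq]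
        linear_combination hcc
    have h7 : φ c = 0 := h H hH h6
    rw [hc', map_natCast, ZMod.natCast_eq_zero_iff, pow_succ, Nat.mul_dvd_mul_iff_left (Nat.two_pow_pos b)] at h7
    exact hd h7
  · intro hcase H hH g hg
    rw [Subgroup.mem_centralizer_iff] at hg
    obtain ⟨s, hs⟩ : ∃ i, DihedralGroup.sr i ∈ H := by
      by_contra hc
      push Not at hc
      refine hH (Subgroup.isCyclic_of_le (H := H) (H' := Subgroup.zpowers (DihedralGroup.r (1 : ZMod n))) ?_)
      rintro (i | i) hi
      · exact ⟨(i.val : ℤ), by simp [DihedralGroup.r_one_pow]⟩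
      · exact absurd hi (hc i)
    have hrot : ∀ j : ZMod n, DihedralGroup.r j * DihedralGroup.sr s = DihedralGroup.sr s * DihedralGroup.r j → DihedralGroup.r j ∈ H := by
      intro j hj
      simp only [DihedralGroup.r_mul_sr, DihedralGroup.sr_mul_r, DihedralGroup.sr.injEq] at hj
      have hjj : j + j = 0 := by linear_combination -hj
      rcases hcase with ⟨t, ht⟩ | ⟨k, hk⟩
      · have : ((2 * t + 1 : ℕ) : ZMod n) = 0 := by rw [← ht]; exact ZMod.natCast_self n
        push_cast at this
        have : j = 0 := by linear_combination j * this - (t : ZMod n) * hjj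
        rw [this]; exact H.one_mem
      · obtain ⟨i, hi0, hi⟩ : ∃ i : ZMod n, i ≠ 0 ∧ DihedralGroup.r i ∈ H := by
          by_contra hc
          push Not at hc
          refine hH (Subgroup.isCyclic_of_le (H := H) (H' := Subgroup.zpowers (DihedralGroup.sr s)) ?_)
          rintro (i | i) hi
          · rcases eq_or_ne i 0 with rfl | hi0
            · exact one_mem _
            · exact absurd hi (hc i hi0)
          · have := H.mul_mem hs hi
            rw [DihedralGroup.sr_mul_sr] at this
            rcases eq_or_ne (i - s) 0 with e | e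
            · rw [sub_eq_zero.mp e]; exact Subgroup.mem_zpowers _
            · exact absurd this (hc _ e)
        rcases eq_or_ne j 0 with rfl | hj0
        · exact H.one_mem
        obtain ⟨b, e, he, hie⟩ := Nat.exists_eq_pow_mul_and_not_dvd (n := i.val) (fun h => hi0 ((ZMod.val_eq_zero i).mp h)) 2 (by norm_num)
        have hbk : b < k := by
          have := i.val_lt
          rw [hie] at this
          have : 2 ^ b < 2 ^ k := lt_of_le_of_lt (Nat.le_mul_of_pos_right _ (Nat.pos_of_ne_zero fun h => he (by rw [h]; exact dvd_zero 2))) (hk ▸ this)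
          exact (Nat.pow_lt_pow_iff_right (by norm_num)).mp this
        have hpow := H.pow_mem hi (2 ^ (k - 1 - b))
        rw [DihedralGroup.r_pow] at hpow
        suffices j = i * ((2 ^ (k - 1 - b) : ℕ) : ZMod n) by rwa [this]
        have hval : ∀ x : ZMod n, x + x = 0 → x ≠ 0 → x = ((2 ^ (k - 1) : ℕ) : ZMod n) := by
          intro x hx hx0
          have h1 : n ∣ x.val + x.val := by
            rw [← ZMod.natCast_eq_zero_iff, Nat.cast_add, ZMod.natCast_zmod_val, hx]
          have h2 := x.val_lt
          have h3 : 0 < x.val := Nat.pos_of_ne_zero fun h => hx0 ((ZMod.val_eq_zero x).mp h)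
          obtain ⟨c, hc⟩ := h1
          have hc1 : c = 1 := by
            rcases c with _ | _ | c
            · omega
            · rfl
            · exfalso; nlinarith
          have h4 : n = 2 * 2 ^ (k - 1) := by rw [hk, ← pow_succ', Nat.sub_add_cancel (by omega : 1 ≤ k)]
          rw [← ZMod.natCast_zmod_val x]
          congr 1
          subst hc1
          omega
        have e1 : i * ((2 ^ (k - 1 - b) : ℕ) : ZMod n) = ((2 ^ (k - 1) * e : ℕ) : ZMod n) := by
          conv_lhs => rw [← ZMod.natCast_zmod_val i, hie, ← Nat.cast_mul]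
          congr 1
          rw [mul_comm (2 ^ b) e, mul_assoc, ← pow_add, show b + (k - 1 - b) = k - 1 by omega, mul_comm]
        rw [e1]
        have e2 : (((2 ^ (k - 1) * e : ℕ)) : ZMod n) = ((2 ^ (k - 1) : ℕ) : ZMod n) := by
          obtain ⟨e', rfl⟩ : ∃ e', e = 2 * e' + 1 := ⟨e / 2, by omega⟩
          rw [show 2 ^ (k - 1) * (2 * e' + 1) = n * e' + 2 ^ (k - 1) by
            rw [hk, show 2 ^ k = 2 * 2 ^ (k - 1) by rw [← pow_succ', Nat.sub_add_cancel (by omega : 1 ≤ k)]]; ring,
            Nat.cast_add, Nat.cast_mul, ZMod.natCast_self, zero_mul, zero_add]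
        rw [e2]
        exact hval j hjj hj0
    rcases g with j | j
    · exact hrot j (hg _ hs).symm
    · have h1 : DihedralGroup.r (s - j) * DihedralGroup.sr s = DihedralGroup.sr s * DihedralGroup.r (s - j) := by
        have hgs : Commute (DihedralGroup.sr j) (DihedralGroup.sr s) := (hg _ hs).symm
        rw [← DihedralGroup.sr_mul_sr]
        exact (hgs.mul_left (Commute.refl _)).eq
      have := H.mul_mem (hrot _ h1) hs
      rwa [DihedralGroup.r_mul_sr, sub_sub_cancel] at this

end Cfsg.Agent.S3920
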