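import Cfsg.Statements.S3921
import Cfsg.Agent.Lib.Transfer.SelfCentNoncyclic.Linear

set_option autoImplicit false
open Cfsg

namespace Cfsg.Agent.S3921

/-- Say that a group has self-centralizing non-cyclic subgroups when every non-cyclic subgroup H satisfies C_G(H) ≤ H. A non-abelian finite simple group has self-centralizing non-cyclic subgroups if and only if it is isomorphic to PSL₂(q) with q = 4, q = 9, or q a prime of the form 2^k + 1 or 2^k − 1. -/
theorem result {G : Type*} [Group G] [Finite G] [IsSimpleGroup G] (hna : ¬ IsMulCommutative G) :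
    (∀ H : Subgroup G, ¬ IsCyclic ↥H → Subgroup.centralizer (H : Set G) ≤ H) ↔ ∃ (F : Type) (_ : Field F) (_ : Fintype F),
      (Fintype.card F = 4 ∨ Fintype.card F = 9 ∨ ((Fintype.card F).Prime ∧ ∃ k : ℕ, Fintype.card F = 2 ^ k + 1 ∨ Fintype.card F = 2 ^ k - 1)) ∧
      Nonempty (G ≃* Matrix.ProjectiveSpecialLinearGroup (Fin 2) F) := by
  open Cfsg.Agent.Transfer.SelfCentNoncyclic in
  constructor
  · intro h
    obtain ⟨F, iF, iFF, hodd, e, z, hz, hC⟩ := exists_psl h hna
    obtain ⟨p, hp⟩ := CharP.exists F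
    haveI : Fact p.Prime := ⟨(CharP.char_is_prime_or_zero F p).resolve_right (CharP.char_ne_zero_of_finite F p)⟩
    have hle : ∀ x ∈ Subgroup.centralizer ({e z} : Set _), e.symm x ∈ Subgroup.centralizer ({z} : Set G) := by
      intro x hx
      rw [Subgroup.mem_centralizer_singleton_iff] at hx ⊢
      apply e.injective
      simpa using hx
    refine ⟨F, iF, iFF, good_of_two_group p hodd (g := e z) (by rw [MulEquiv.orderOf_eq, hz]) ?_, ⟨e⟩⟩
    intro x
    obtain ⟨k, hk⟩ := hC ⟨e.symm x, hle x x.2⟩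
    refine ⟨k, Subtype.ext (e.symm.injective ?_)⟩
    simpa using congrArg Subtype.val hk
  · rintro ⟨F, iF, iFF, hq, ⟨e⟩⟩
    obtain ⟨p, hp⟩ := CharP.exists F
    haveI : Fact p.Prime := ⟨(CharP.char_is_prime_or_zero F p).resolve_right (CharP.char_ne_zero_of_finite F p)⟩
    exact prop_congr e (prop_psl p hq)

end Cfsg.Agent.S3921
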