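import Cfsg.Statements.S4179
import Cfsg.Agent.S0675
import Cfsg.Agent.Lib.Grp.Antiflag.Reducible
import Cfsg.Agent.Lib.Grp.Antiflag.Cocycle
import Cfsg.Agent.Lib.Grp.Antiflag.Easy

set_option autoImplicit false
open Cfsg

namespace Cfsg.Agent.S4179

open Cfsg.Agent.Grp.Antiflag

/-- Let V be a vector space of dimension n over the field with two elements with 2^n − 1 prime, and H a group of invertible linear maps of V. Then H is transitive on the non-zero vectors of V if and only if H is cyclic of order 2^n − 1, or H has order n·(2^n − 1) and contains a normal cyclic subgroup of order 2^n − 1, or H is the whole general linear group of V. -/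
theorem result {V : Type*} [AddCommGroup V] [Module (ZMod 2) V] [Finite V] (n : ℕ) (hn : Module.finrank (ZMod 2) V = n)
    (hprime : (2 ^ n - 1).Prime) (H : Subgroup (V ≃ₗ[ZMod 2] V)) :
    (∀ v w : V, v ≠ 0 → w ≠ 0 → ∃ h ∈ H, h v = w) ↔
      ((IsCyclic ↥H ∧ Nat.card ↥H = 2 ^ n - 1) ∨
       (Nat.card ↥H = n * (2 ^ n - 1) ∧ ∃ C : Subgroup (V ≃ₗ[ZMod 2] V), C ≤ H ∧ (C.subgroupOf H).Normal ∧
          IsCyclic ↥C ∧ Nat.card ↥C = 2 ^ n - 1) ∨
       H = ⊤) := by
  classical
  constructor
  · intro ht
    haveI : Finite (V ≃ₗ[ZMod 2] V) := finite_aut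
    let X := {v : V // v ≠ 0}
    cases nonempty_fintype V
    have hX : Fintype.card X = 2 ^ n - 1 := by
      rw [Fintype.card_subtype_compl, Fintype.card_subtype_eq, ← Nat.card_eq_fintype_card,
        Module.natCard_eq_pow_finrank (K := ZMod 2), Nat.card_zmod, hn]
    let φ : ↥H →* Equiv.Perm X :=
      { toFun := fun h =>
          { toFun := fun x => ⟨h.1 x.1, by simpa using x.2⟩
            invFun := fun x => ⟨h.1.symm x.1, by simpa using x.2⟩
            left_inv := fun x => Subtype.ext (by simp)
            right_inv := fun x => Subtype.ext (by simp) }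
        map_one' := Equiv.ext fun x => Subtype.ext rfl
        map_mul' := fun a b => Equiv.ext fun x => Subtype.ext rfl }
    haveI : MulAction.IsPretransitive φ.range X := ⟨fun x y => by
      obtain ⟨h, hh, he⟩ := ht x.1 y.1 x.2 y.2
      exact ⟨⟨φ ⟨h, hh⟩, ⟨_, rfl⟩⟩, Subtype.ext he⟩⟩
    rcases Cfsg.Agent.S0675.result (hX.symm ▸ hprime) φ.range with hs | h2
    · have hinj : Function.Injective φ := fun a b hab => Subtype.ext (LinearEquiv.ext fun v => by
        by_cases hv : v = 0
        · simp [hv]
        · exact congrArg Subtype.val (Equiv.congr_fun hab ⟨v, hv⟩))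
      haveI := hs
      have hsH : Group.IsSolvable H :=
        Group.isSolvable_of_isSolvable_injective (f := φ.rangeRestrict) (fun a b hab => hinj (congrArg Subtype.val hab))
      exact (singer_cases hn hprime H ht hsH).imp id Or.inl
    right; right
    have hTT : TwoTrans H := by
      intro a b c d hab hcd
      have key : ∀ a b c d : X, a ≠ b → c ≠ d → ∃ g : φ.range, g • a = c ∧ g • b = d :=
        fun _ _ _ _ e e' => MulAction.is_two_pretransitive_iff.1 h2 e e'
      obtain ⟨⟨_, h, rfl⟩, h1, h2'⟩ := key ⟨a, hab.1⟩ ⟨b, hab.2.1⟩ ⟨c, hcd.1⟩ ⟨d, hcd.2.1⟩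
        (fun e => hab.2.2 (congrArg Subtype.val e)) (fun e => hcd.2.2 (congrArg Subtype.val e))
      exact ⟨h.1, h.2, congrArg Subtype.val h1, congrArg Subtype.val h2'⟩
    rcases (show n ≤ 1 ∨ n = 2 ∨ 3 ≤ n by omega) with h | h | h
    · interval_cases n <;> norm_num at hprime
    · exact eq_top_of_dim_two hTT (hn.trans h)
    · rcases top_or_four (fun H v a b c => twoTrans_qGroup H v a b c)
        (fun hm c hc => exists_fixed_of_cocycle hm c hc) n H hn h hTT with h' | ⟨h', -⟩
      · exact h'
      · rw [h'] at hprime; norm_num at hprime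
  · rintro (⟨-, hc⟩ | ⟨-, C, hCH, -, -, hC⟩ | rfl) v w hv hw
    · exact transitive_of_prime_order hn hprime H hc v w hv hw
    · obtain ⟨h, hh, he⟩ := transitive_of_prime_order hn hprime C hC v w hv hw
      exact ⟨h, hCH hh, he⟩
    · exact transitive_top v w hv hw

end Cfsg.Agent.S4179
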