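import Cfsg.Statements.S3930
import Cfsg.Agent.S4179
import Cfsg.Agent.Lib.Grp.Pyramidal.Reduce
import Cfsg.Agent.Lib.Grp.Pyramidal.Witness

set_option autoImplicit false
open Cfsg

namespace Cfsg.Agent.S3930

/-- Call a finite group m-pyramidal when it has exactly m involutions and they form a single conjugacy class. Let p be an odd prime and k ≥ 1. Then every p^k-pyramidal finite group is solvable if and only if k is odd or p^k = 9. -/
theorem result (p k : ℕ) (hp : p.Prime) (hp2 : p ≠ 2) (hk : 1 ≤ k) :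
    (∀ (G : Type) [Group G] [Finite G], Nat.card {x : G // orderOf x = 2} = p ^ k →
      (∀ x y : G, orderOf x = 2 → orderOf y = 2 → ∃ g : G, g * x * g⁻¹ = y) → Group.IsSolvable G) ↔ (Odd k ∨ p ^ k = 9) := by
  constructor
  · intro hall
    by_contra hne
    rw [not_or] at hne
    obtain ⟨G, hG, hF, hc, hcl, hns⟩ :=
      Cfsg.Agent.Grp.Pyramidal.exists_nonsolvable p k hp hp2 hk (Nat.not_odd_iff_even.1 hne.1) hne.2
    exact hns (@hall G hG hF hc hcl)
  · intro h G _ _ hc hcl
    exact Cfsg.Agent.Grp.Pyramidal.isSolvable_of_pyramidal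
      (fun W _ _ _ n hn hpr H htr => (Cfsg.Agent.S4179.result n hn hpr H).1 htr)
      hp hp2 _ G rfl k h hc hcl

end Cfsg.Agent.S3930
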