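import Cfsg.Statements.S3933
import Cfsg.Agent.S0144
-- import your own Cfsg.Agent.* helpers here

set_option autoImplicit false
open Cfsg

namespace Cfsg.Agent.S3933


universe u

/-- The hypothesis: the number of Sylow subgroups is one or a prime power, for each prime. -/
def Hyp (G : Type u) [Group G] : Prop :=
  ∀ (r : ℕ) [Fact r.Prime], Nat.card (Sylow r G) = 1 ∨ IsPrimePow (Nat.card (Sylow r G))

theorem prime_or_one_of_dvd {m n : ℕ} (h : n = 1 ∨ IsPrimePow n) (hd : m ∣ n) : m = 1 ∨ IsPrimePow m := by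
  rcases h with h | h
  · exact .inl (Nat.dvd_one.mp (h ▸ hd))
  · by_cases hm : m = 1
    · exact .inl hm
    · exact .inr (h.dvd hd hm)

theorem card_sylow {G : Type u} [Group G] [Finite G] {r : ℕ} [Fact r.Prime] (P : Sylow r G) :
    Nat.card (Sylow r G) = (Subgroup.normalizer ((P : Subgroup G) : Set G)).index :=
  P.card_eq_index_normalizer

theorem hyp_normal {G : Type u} [Group G] [Finite G] (h : Hyp G) (N : Subgroup G) [hN : N.Normal] :
    Hyp N := by
  intro r hr
  obtain ⟨P⟩ : Nonempty (Sylow r G) := inferInstance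
  obtain ⟨R⟩ : Nonempty (Sylow r N) := inferInstance
  obtain ⟨P', hP'⟩ := (R.isPGroup'.map N.subtype).exists_le_sylow
  refine prime_or_one_of_dvd (h r) ?_
  rw [card_sylow P', card_sylow R]
  set R' := (R : Subgroup N).map N.subtype with hR'
  -- the Sylow subgroup of `N` is the trace of `P'`
  have htrace : R' = (P' : Subgroup G) ⊓ N := by
    refine le_antisymm (le_inf hP' (Subgroup.map_subtype_le _)) fun x hx => ?_
    have hpg : IsPGroup r ↥((P' : Subgroup G).subgroupOf N) := P'.isPGroup'.comap_subtype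
    have := R.is_maximal' hpg (fun y hy => hP' (Subgroup.mem_map_of_mem N.subtype hy))
    exact ⟨⟨x, hx.2⟩, this ▸ (show (⟨x, hx.2⟩ : N) ∈ (P' : Subgroup G).subgroupOf N from hx.1), rfl⟩
  have hle : Subgroup.normalizer ((P' : Subgroup G) : Set G) ≤ Subgroup.normalizer (R' : Set G) := by
    intro g hg
    refine Subgroup.mem_normalizer_iff.mpr fun y => ?_
    rw [htrace, Subgroup.mem_inf, Subgroup.mem_inf, ← Subgroup.mem_normalizer_iff.mp hg y]
    exact and_congr_right fun _ => ⟨fun hy => hN.conj_mem y hy g, fun hy => by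
      simpa [mul_assoc] using hN.conj_mem _ hy g⁻¹⟩
  refine dvd_trans ?_ (Subgroup.index_dvd_of_le hle)
  -- Frattini
  have hfr := Sylow.normalizer_sup_eq_top R
  rw [← hR'] at hfr
  have e : (Subgroup.normalizer ((R : Subgroup N) : Set N)) =
      (Subgroup.normalizer (R' : Set G)).subgroupOf N := by
    ext x
    rw [Subgroup.mem_subgroupOf, Subgroup.mem_normalizer_iff, Subgroup.mem_normalizer_iff]
    constructor
    · intro hx y
      constructor
      · rintro ⟨z, hz, rfl⟩
        exact ⟨x * z * x⁻¹, (hx z).mp hz, rfl⟩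
      · rintro ⟨z, hz, hze⟩
        refine ⟨x⁻¹ * z * x, (hx _).mpr (by rwa [show x * (x⁻¹ * z * x) * x⁻¹ = z by group]), ?_⟩
        simp only [Subgroup.coe_subtype] at hze ⊢
        simp only [Subgroup.coe_mul, InvMemClass.coe_inv, hze]
        group
    · intro hx z
      constructor
      · intro hz
        obtain ⟨w, hw, hwe⟩ := (hx z).mp ⟨z, hz, rfl⟩
        rwa [show w = x * z * x⁻¹ from Subtype.ext (by simpa using hwe)] at hw
      · intro hz
        obtain ⟨w, hw, hwe⟩ := (hx z).mpr ⟨x * z * x⁻¹, hz, by simp⟩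
        rwa [show w = z from Subtype.ext (by simpa using hwe)] at hw
  rw [e]
  show (Subgroup.normalizer (R' : Set G)).relIndex N ∣ _
  have h1 : N.relIndex (Subgroup.normalizer (R' : Set G)) = N.index := by
    rw [← Subgroup.relIndex_sup_right (H := Subgroup.normalizer (R' : Set G)) (K := N), hfr,
      Subgroup.relIndex_top_right]
  set H := Subgroup.normalizer (R' : Set G) with hH
  have h2 : (H ⊓ N).index = H.relIndex N * N.index := by
    rw [← Subgroup.inf_relIndex_right, Subgroup.relIndex_mul_index inf_le_right]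
  have h3 : (H ⊓ N).index = N.relIndex H * H.index := by
    rw [← Subgroup.inf_relIndex_right N H, inf_comm N H, Subgroup.relIndex_mul_index inf_le_left]
  rw [h1, h2, mul_comm] at h3
  exact (Nat.eq_of_mul_eq_mul_left (Nat.pos_of_ne_zero Subgroup.index_ne_zero_of_finite) h3).dvd

theorem hyp_quotient {G : Type u} [Group G] [Finite G] (h : Hyp G) (N : Subgroup G) [N.Normal] :
    Hyp (G ⧸ N) := by
  intro r hr
  obtain ⟨P⟩ : Nonempty (Sylow r G) := inferInstance
  have hf := QuotientGroup.mk'_surjective N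
  refine prime_or_one_of_dvd (h r) ?_
  rw [card_sylow P, card_sylow (P.mapSurjective hf)]
  refine dvd_trans ?_ (Subgroup.index_dvd_of_le (show Subgroup.normalizer ((P : Subgroup G) : Set G) ≤
    (Subgroup.normalizer ((P.mapSurjective hf : Subgroup (G ⧸ N)) : Set (G ⧸ N))).comap
      (QuotientGroup.mk' N) from ?_))
  · rw [Subgroup.index_comap_of_surjective _ hf]
  · intro g hg
    rw [Subgroup.mem_comap]
    have := Subgroup.le_normalizer_map (QuotientGroup.mk' N) (Subgroup.mem_map_of_mem _ hg)
    simpa using this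

/-- Subgroups of coprime index have product the whole group. -/
theorem exists_mul_of_coprime {G : Type u} [Group G] [Finite G] (H K : Subgroup G)
    (hcop : K.index.Coprime H.index) (g : G) : ∃ n ∈ H, ∃ k ∈ K, n * k = g := by
  have h2 : (K ⊓ H).index = K.relIndex H * H.index := by
    rw [← Subgroup.inf_relIndex_right, Subgroup.relIndex_mul_index inf_le_right]
  have h3 : K.index * H.index ∣ (K ⊓ H).index :=
    hcop.mul_dvd_of_dvd_of_dvd (Subgroup.index_dvd_of_le inf_le_left) (Subgroup.index_dvd_of_le inf_le_right)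
  rw [h2, Nat.mul_dvd_mul_iff_right (Nat.pos_of_ne_zero Subgroup.index_ne_zero_of_finite)] at h3
  let f : H ⧸ K.subgroupOf H → G ⧸ K := Quotient.lift (fun h : H => QuotientGroup.mk (h : G)) fun a b hab =>
    QuotientGroup.eq.mpr (show (a : G)⁻¹ * (b : G) ∈ K from
      (QuotientGroup.leftRel_apply.mp hab : a⁻¹ * b ∈ K.subgroupOf H))
  have hinj : Function.Injective f := by
    intro x y
    refine QuotientGroup.induction_on x fun a => QuotientGroup.induction_on y fun b hab => ?_
    have h4 : (QuotientGroup.mk (a : G) : G ⧸ K) = QuotientGroup.mk (b : G) := hab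
    rw [QuotientGroup.eq] at h4
    exact QuotientGroup.eq.mpr h4
  have hcard : Nat.card (H ⧸ K.subgroupOf H) = Nat.card (G ⧸ K) := by
    refine le_antisymm (Nat.card_le_card_of_injective f hinj) (Nat.le_of_dvd ?_ h3)
    exact Nat.pos_of_ne_zero Subgroup.index_ne_zero_of_finite
  obtain ⟨x, hx⟩ := ((Nat.bijective_iff_injective_and_card f).mpr ⟨hinj, hcard⟩).2 (g : G ⧸ K)
  induction x using QuotientGroup.induction_on with
  | _ n => exact ⟨n, n.2, (n : G)⁻¹ * g, QuotientGroup.eq.mp hx, mul_inv_cancel_left _ _⟩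

/-- If a Sylow `r`-subgroup fits inside `N(T)` and `G = N(R) N(T)`, then `G` is not simple. -/
theorem false_of_pair {G : Type u} [Group G] [Finite G] [IsSimpleGroup G] {r t a b q x : ℕ}
    [Fact r.Prime] [Fact t.Prime] (hq : q.Prime) (hx : x.Prime) (hrx : r ≠ x) (hqx : q ≠ x)
    (hr : r ∣ Nat.card G) (R : Sylow r G) (T : Sylow t G)
    (hR : Nat.card (Sylow r G) = q ^ a) (hT : Nat.card (Sylow t G) = x ^ b)
    (hT1 : Subgroup.normalizer ((T : Subgroup G) : Set G) ≠ ⊤) : False := by
  set NT := Subgroup.normalizer ((T : Subgroup G) : Set G) with hNT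
  rw [card_sylow T, ← hNT] at hT
  -- a Sylow `r`-subgroup inside `N(T)`
  obtain ⟨R0⟩ : Nonempty (Sylow r NT) := inferInstance
  obtain ⟨R', hR'⟩ := (R0.isPGroup'.map NT.subtype).exists_le_sylow
  have hrd : ¬ r ∣ NT.index := by
    rw [hT]
    intro h
    exact hrx ((Nat.prime_dvd_prime_iff_eq (Fact.out) hx).mp ((Fact.out : r.Prime).dvd_of_dvd_pow h))
  have hle : (R' : Subgroup G) ≤ NT := by
    have e : (R0 : Subgroup NT).map NT.subtype = (R' : Subgroup G) := by
      refine Subgroup.eq_of_le_of_card_ge hR' ?_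
      rw [Subgroup.card_map_of_injective NT.subtype_injective, R'.card_eq_multiplicity,
        R0.card_eq_multiplicity]
      refine le_of_eq (congrArg _ ?_)
      rw [← NT.card_mul_index, Nat.factorization_mul Nat.card_pos.ne'
        Subgroup.index_ne_zero_of_finite, Finsupp.add_apply,
        Nat.factorization_eq_zero_of_not_dvd hrd, add_zero]
    exact e ▸ Subgroup.map_subtype_le _
  set NR := Subgroup.normalizer ((R' : Subgroup G) : Set G) with hNR
  have hidx : NR.index = q ^ a := by rw [hNR, ← card_sylow R', hR]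
  have hcop : NR.index.Coprime NT.index := by
    rw [hidx, hT]
    exact ((Nat.coprime_primes hq hx).mpr hqx).pow a b
  -- all conjugates of `R'` lie in `N(T)`
  set S := Subgroup.normalClosure ((R' : Subgroup G) : Set G) with hS
  have hSle : S ≤ NT := by
    rw [hS, Subgroup.normalClosure, Subgroup.closure_le]
    intro y hy
    obtain ⟨z, hz, hzy⟩ := Group.mem_conjugatesOfSet_iff.mp hy
    obtain ⟨g, rfl⟩ := isConj_iff.mp hzy
    obtain ⟨n, hn, k, hk, rfl⟩ := exists_mul_of_coprime NT NR hcop g
    rw [show n * k * z * (n * k)⁻¹ = n * (k * z * k⁻¹) * n⁻¹ by group]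
    exact mul_mem (mul_mem hn (hle ((Subgroup.mem_normalizer_iff.mp hk z).mp hz))) (inv_mem hn)
  rcases IsSimpleGroup.eq_bot_or_eq_top_of_normal S Subgroup.normalClosure_normal with h | h
  · have h1 : (R' : Subgroup G) ≤ ⊥ := h ▸ Subgroup.le_normalClosure
    have := R'.pow_dvd_card_of_pow_dvd_card (n := 1) (by simpa using hr)
    rw [le_bot_iff.mp h1, Subgroup.card_bot, pow_one, Nat.dvd_one] at this
    exact (Fact.out : r.Prime).ne_one this
  · exact hT1 (top_le_iff.mp (h ▸ hSle))

theorem solvable_of_hyp : ∀ (n : ℕ) (G : Type u) [Group G] [Finite G], Nat.card G = n → Hyp G →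
    Group.IsSolvable G := by
  intro n
  induction n using Nat.strong_induction_on with
  | _ n ih =>
  intro G _ _ hn h
  classical
  by_cases hsim : ∃ N : Subgroup G, N.Normal ∧ N ≠ ⊥ ∧ N ≠ ⊤
  · obtain ⟨N, hN, hN1, hN2⟩ := hsim
    haveI := hN
    have h1 : Nat.card N < n := hn ▸ lt_of_le_of_ne (Subgroup.card_le_card_group N) fun h =>
      hN2 (Subgroup.eq_top_of_card_eq N h)
    have h2 : Nat.card (G ⧸ N) < n := by
      rw [← hn, ← N.card_mul_index, ← Subgroup.index_eq_card]
      exact lt_mul_left (Nat.pos_of_ne_zero Subgroup.index_ne_zero_of_finite)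
        (Finite.one_lt_card_iff_nontrivial.mpr ((Subgroup.nontrivial_iff_ne_bot N).mpr hN1))
    haveI := ih _ h1 N rfl (hyp_normal h N)
    haveI := ih _ h2 (G ⧸ N) rfl (hyp_quotient h N)
    exact Group.isSolvable_of_ker_le_range N.subtype (QuotientGroup.mk' N)
      (by rw [QuotientGroup.ker_mk', Subgroup.range_subtype])
  by_contra hns
  have hna : ¬ IsMulCommutative G := fun hc => hns (Group.isSolvable_of_comm fun a b => hc.is_comm.comm a b)
  haveI : Nontrivial G := by
    by_contra hnt
    rw [not_nontrivial_iff_subsingleton] at hnt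
    exact hns (Group.isSolvable_of_comm fun a b => Subsingleton.elim _ _)
  haveI : IsSimpleGroup G := ⟨fun N hN => by
    by_contra hne
    push Not at hne
    exact hsim ⟨N, hN, hne⟩⟩
  set π := (Nat.card G).primeFactors with hπ
  -- the Sylow normalisers are proper
  have hprop : ∀ r ∈ π, ∀ [Fact r.Prime], ∀ R : Sylow r G,
      Subgroup.normalizer ((R : Subgroup G) : Set G) ≠ ⊤ := by
    intro r hr _ R htop
    have hrd := Nat.dvd_of_mem_primeFactors hr
    rcases IsSimpleGroup.eq_bot_or_eq_top_of_normal (R : Subgroup G)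
      (Subgroup.normalizer_eq_top_iff.mp htop) with hb | ht
    · have := R.pow_dvd_card_of_pow_dvd_card (n := 1) (by simpa using hrd)
      rw [hb, Subgroup.card_bot, pow_one, Nat.dvd_one] at this
      exact (Fact.out : r.Prime).ne_one this
    · have hnil : Group.IsNilpotent (⊤ : Subgroup G) := ht ▸ R.isPGroup'.isNilpotent
      haveI := hnil
      exact hns (Group.isSolvable_of_surjective (f := (Subgroup.topEquiv : (⊤ : Subgroup G) ≃* G).toMonoidHom)
        (Subgroup.topEquiv : (⊤ : Subgroup G) ≃* G).surjective)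
  -- the prime of the number of Sylow subgroups
  have hf : ∀ r ∈ π, ∃ q a : ℕ, q.Prime ∧ q ≠ r ∧ ∀ [Fact r.Prime], Nat.card (Sylow r G) = q ^ a := by
    intro r hr
    haveI := Fact.mk (Nat.prime_of_mem_primeFactors hr)
    obtain ⟨R⟩ : Nonempty (Sylow r G) := inferInstance
    rcases h r with h1 | h1
    · refine absurd ?_ (hprop r hr R)
      rw [card_sylow R] at h1
      exact Subgroup.index_eq_one.mp h1
    · obtain ⟨q, a, hq, ha, he⟩ := h1
      refine ⟨q, a, hq.nat_prime, fun hqr => ?_, he.symm⟩
      have hmod : Nat.card (Sylow r G) ≡ 1 [MOD r] := card_sylow_modEq_one r G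
      rw [← he, hqr, Nat.ModEq, Nat.pow_mod, Nat.mod_self, zero_pow (by omega), Nat.zero_mod,
        Nat.one_mod_eq_one.mpr (Fact.out : r.Prime).ne_one] at hmod
      exact zero_ne_one hmod
  choose! f a hfq hfr hfa using hf
  have hkey : ∀ r ∈ π, ∀ t ∈ π, r ≠ f t → f r ≠ f t → False := by
    intro r hr t ht h1 h2
    haveI := Fact.mk (Nat.prime_of_mem_primeFactors hr)
    haveI := Fact.mk (Nat.prime_of_mem_primeFactors ht)
    obtain ⟨R⟩ : Nonempty (Sylow r G) := inferInstance
    obtain ⟨T⟩ : Nonempty (Sylow t G) := inferInstance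
    exact false_of_pair (hfq r hr) (hfq t ht) h1 h2 (Nat.dvd_of_mem_primeFactors hr) R T (hfa r hr)
      (hfa t ht) (hprop t ht T)
  have hfmem : ∀ t ∈ π, f t ∈ π := by
    intro t ht
    haveI := Fact.mk (Nat.prime_of_mem_primeFactors ht)
    refine Nat.mem_primeFactors.mpr ⟨hfq t ht, ?_, Nat.card_pos.ne'⟩
    obtain ⟨T⟩ : Nonempty (Sylow t G) := inferInstance
    have h1 := card_sylow T
    rw [hfa t ht] at h1
    have ha0 : a t ≠ 0 := by
      intro h0
      rw [h0, pow_zero] at h1
      exact hprop t ht T (Subgroup.index_eq_one.mp h1.symm)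
    exact (dvd_pow_self (f t) ha0).trans (h1 ▸ Subgroup.index_dvd_card _)
  have hconst : ∀ t ∈ π, ∀ r ∈ π, r ≠ f t → f r = f t := fun t ht r hr hne => by
    by_contra hne'
    exact hkey r hr t ht hne hne'
  obtain ⟨t, ht⟩ : π.Nonempty := by
    rw [hπ, Nat.nonempty_primeFactors]
    exact Finite.one_lt_card_iff_nontrivial.mpr inferInstance
  have hq := hfmem t ht
  have hsub : π ⊆ {t, f t} := by
    intro r hr
    by_contra hno
    simp only [Finset.mem_insert, Finset.mem_singleton, not_or] at hno
    have e1 := hconst t ht r hr hno.2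
    have e2 : f (f t) ≠ f t := hfr (f t) hq
    by_cases hrx : r = f (f t)
    · have htx : t ≠ f (f t) := fun h => hno.1 (hrx.trans h.symm)
      exact e2 (hconst (f t) hq t ht htx).symm
    · exact e2 ((hconst (f t) hq r hr hrx).symm.trans e1)
  refine hns (Agent.S0144.result t (f t) ((Nat.card G).factorization t) ((Nat.card G).factorization (f t))
    (Nat.prime_of_mem_primeFactors ht) (hfq t ht) ?_)
  conv_lhs => rw [← Nat.prod_factorization_pow_eq_self (Nat.card_pos (α := G)).ne']
  rw [Finsupp.prod, Nat.support_factorization, ← hπ,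
    show π = {t, f t} from Finset.Subset.antisymm hsub (by
      intro x hx
      rcases Finset.mem_insert.mp hx with rfl | hx
      · exact ht
      · rw [Finset.mem_singleton.mp hx]; exact hq),
    Finset.prod_pair (hfr t ht).symm]


/-- If for every prime r the number of Sylow r-subgroups of the finite group G is a prime power or 1, then G is solvable. -/
theorem result {G : Type*} [Group G] [Finite G] (h : ∀ (r : ℕ) [Fact r.Prime], Nat.card (Sylow r G) = 1 ∨ IsPrimePow (Nat.card (Sylow r G))) :
    Group.IsSolvable G := by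
  exact solvable_of_hyp (Nat.card G) G rfl (fun r _ => h r)

end Cfsg.Agent.S3933
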